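import Cfsg.Statements.S3961
import Cfsg.Agent.Lib.Coprime.Schur


set_option autoImplicit false
universe u v
open Cfsg

namespace Cfsg.Agent.S3961

/-- Let `π : G →* Q` be a surjective homomorphism with central kernel from a finite perfect group `G` (a perfect cover of `Q`). Then `π` is universal, in the sense that every surjective homomorphism `ξ : X →* Q` with central kernel from a group `X` in the universe of `G` admits a homomorphism `η : G →* X` with `ξ ∘ η = π`, if and only if `G` has trivial Schur multiplier. -/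
theorem result {G : Type u} {Q : Type v} [Group G] [Group Q] [Finite G] (hG : Group.IsPerfect G) (π : G →* Q) (hπ : Function.Surjective π) (hker : π.ker ≤ Subgroup.center G) : (∀ (X : Type u) [Group X] (ξ : X →* Q), Function.Surjective ξ → ξ.ker ≤ Subgroup.center X → ∃ η : G →* X, ξ.comp η = π) ↔ Cfsg.HasCyclicSchurMultiplier G 1 := by
  have hG' : commutator G = ⊤ := Group.isPerfect_def.mp hG
  constructor
  · intro huniv
    refine CfsgLib.Schur.cyclic_one_of_forall fun Y _ _ τ hτ => ?_
    have hY : commutator Y = ⊤ := by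
      refine eq_top_iff.mpr fun y _ => ?_
      obtain ⟨y', hy', hyy⟩ : τ y ∈ (commutator Y).map τ := by
        rw [commutator_def, Subgroup.map_commutator, Subgroup.map_top_of_surjective τ hτ.1,
          ← commutator_def, hG']
        exact Subgroup.mem_top _
      have hk : y * y'⁻¹ ∈ τ.ker := by rw [MonoidHom.mem_ker, map_mul, map_inv, hyy, mul_inv_cancel]
      have := mul_mem (hτ.2.2 hk) hy'
      rwa [inv_mul_cancel_right] at this
    have hcen : (π.comp τ).ker ≤ Subgroup.center Y := by
      intro y hy
      refine Subgroup.mem_center_iff.mpr fun g => ?_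
      -- `g ↦ ⁅g, y⁆` is a homomorphism into the central kernel of `τ`
      have hz : ∀ h : Y, h * y * h⁻¹ * y⁻¹ ∈ τ.ker := fun h => by
        rw [MonoidHom.mem_ker]
        simp only [map_mul, map_inv]
        rw [Subgroup.mem_center_iff.mp (hker (show τ y ∈ π.ker from hy)) (τ h)]
        group
      let χ : Y →* ↥τ.ker := MonoidHom.mk' (fun h => ⟨h * y * h⁻¹ * y⁻¹, hz h⟩) fun a b => Subtype.ext (by
        show a * b * y * (a * b)⁻¹ * y⁻¹ = (a * y * a⁻¹ * y⁻¹) * (b * y * b⁻¹ * y⁻¹)
        have hc := Subgroup.mem_center_iff.mp (hτ.2.1 (hz b))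
        calc a * b * y * (a * b)⁻¹ * y⁻¹ = a * ((b * y * b⁻¹ * y⁻¹) * (y * a⁻¹ * y⁻¹)) := by group
          _ = a * ((y * a⁻¹ * y⁻¹) * (b * y * b⁻¹ * y⁻¹)) := by rw [hc (y * a⁻¹ * y⁻¹)]
          _ = _ := by group)
      have hχ : commutator Y ≤ χ.ker := by
        rw [commutator_def, Subgroup.commutator_le]
        intro a _ b _
        rw [MonoidHom.mem_ker, map_commutatorElement, commutatorElement_eq_one_iff_mul_comm]
        exact Subtype.ext (Subgroup.mem_center_iff.mp (hτ.2.1 (χ b).2) _)
      have h1 := congrArg Subtype.val (MonoidHom.mem_ker.mp (hχ (hY ▸ Subgroup.mem_top g)))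
      have h2 : g * y * g⁻¹ * y⁻¹ = 1 := h1
      exact mul_inv_eq_iff_eq_mul.mp (mul_inv_eq_one.mp h2)
    obtain ⟨η, hη⟩ := huniv Y (π.comp τ) (hπ.comp hτ.1) hcen
    have hid : τ.comp η = MonoidHom.id G := CfsgLib.Schur.eq_of_perfect hG' hker (by
      rw [← MonoidHom.comp_assoc, hη, MonoidHom.comp_id])
    have hsurj : Function.Surjective η := by
      intro y
      have h := CfsgLib.Schur.map_commutator_eq η τ hτ.2.1 (by rw [hid]; exact Function.surjective_id)
      have h2 : y ∈ (commutator G).map η := by rw [h, hY]; exact Subgroup.mem_top y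
      obtain ⟨x, -, hx⟩ := h2
      exact ⟨x, hx⟩
    refine eq_bot_iff.mpr fun y hy => ?_
    obtain ⟨g, rfl⟩ := hsurj y
    have h2 : g = 1 := (DFunLike.congr_fun hid g).symm.trans (MonoidHom.mem_ker.mp hy)
    exact Subgroup.mem_bot.mpr (by rw [h2, map_one])
  · intro htriv X _ ξ hξ hk
    let P : Subgroup (G × X) := (π.comp (MonoidHom.fst G X)).eqLocus (ξ.comp (MonoidHom.snd G X))
    let f : P →* G := (MonoidHom.fst G X).comp P.subtype
    have hf : Function.Surjective f := fun g => by
      obtain ⟨x, hx⟩ := hξ (π g)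
      exact ⟨⟨(g, x), hx.symm⟩, rfl⟩
    have hfk : f.ker ≤ Subgroup.center P := by
      intro x hx
      refine Subgroup.mem_center_iff.mpr fun y => Subtype.ext (Prod.ext ?_ ?_)
      · have h1 : (x : G × X).1 = 1 := hx
        simp [h1]
      · have h1 : (x : G × X).1 = 1 := hx
        have h2 : ξ (x : G × X).2 = 1 := by
          rw [← show π (x : G × X).1 = ξ (x : G × X).2 from x.2, h1, map_one]
        exact Subgroup.mem_center_iff.mp (hk h2) _
    obtain ⟨hperf, hsurj⟩ := CfsgLib.Schur.perfect_commutator_of_central f hf hfk hG'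
    let f' := f.comp (commutator P).subtype
    have hstem : Cfsg.IsStemExtension f' := by
      refine ⟨hsurj, fun x hx => ?_, fun x _ => hperf ▸ Subgroup.mem_top x⟩
      exact Subgroup.mem_center_iff.mpr fun y => Subtype.ext (Subgroup.mem_center_iff.mp (hfk hx) y)
    have hinj : Function.Injective f' :=
      (MonoidHom.ker_eq_bot_iff f').mp (CfsgLib.Schur.ker_eq_bot_of_cyclic_one htriv hstem)
    let e := MulEquiv.ofBijective f' ⟨hinj, hsurj⟩
    refine ⟨((MonoidHom.snd G X).comp (P.subtype.comp (commutator P).subtype)).comp e.symm.toMonoidHom,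
      MonoidHom.ext fun g => ?_⟩
    have h := (e.symm g).1.2
    show ξ (((e.symm g : commutator P) : P) : G × X).2 = π g
    exact (h : π (((e.symm g : commutator P) : P) : G × X).1 = ξ (((e.symm g : commutator P) : P) : G × X).2).symm.trans
      (congrArg π (e.apply_symm_apply g))

end Cfsg.Agent.S3961
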