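import Cfsg.Statements.S0252
import Cfsg.Agent.Lib.Classical.PSLTwoPerm

set_option autoImplicit false
open Cfsg

namespace Cfsg.Agent.S0252

/-- PSL_2(4) is isomorphic to A_5. -/
theorem result {F : Type*} [Field F] [Fintype F] (hF : Fintype.card F = 4) : Nonempty (Matrix.ProjectiveSpecialLinearGroup (Fin 2) F ≃* alternatingGroup (Fin 5)) := by
  obtain ⟨f, hf⟩ := CfsgLib.Classical.exists_psl_two_embedding (F := F)
  obtain ⟨e⟩ := CfsgLib.Classical.equiv_alternating_of_embedding f hf (by
    rw [CfsgLib.Classical.card_psl_two_eq hF 60 (by norm_num), Fintype.card_fin, hF]; rfl)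
  rw [hF] at e
  exact ⟨e⟩

end Cfsg.Agent.S0252
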