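import Cfsg.Statements.S0330
import Cfsg.Agent.Lib.Suzuki.Sylow

set_option autoImplicit false
open Cfsg

namespace Cfsg.Agent.S0330

/-- A Sylow 2-subgroup `P` of the Suzuki group (field with `q = 2^(2m+1)` elements, `m ≥ 1`) has order `q²` and
exponent `4`; its centre coincides with its commutator subgroup and has order `q`. -/
theorem result {F : Type*} [Field F] [Fintype F] {m : ℕ} (hm : 1 ≤ m)
    (hF : Fintype.card F = 2 ^ (2 * m + 1)) (P : Sylow 2 (Cfsg.Sz F m)) :
    Nat.card P = (2 ^ (2 * m + 1)) ^ 2 ∧ Monoid.exponent P = 4 ∧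
      Subgroup.center P = commutator P ∧ Nat.card (Subgroup.center P) = 2 ^ (2 * m + 1) := by
  haveI : CharP F 2 := charP_of_card_eq_prime_pow hF
  haveI : Fact (Nat.Prime 2) := ⟨Nat.prime_two⟩
  set h := CfsgLib.Suzuki.thSq_of_card hF
  let e : CfsgLib.Suzuki.uSub h ≃* (P : Subgroup (Cfsg.Sz F m)) :=
    (CfsgLib.Suzuki.uSylow hm hF).equiv P
  have hcomm : Subgroup.center (CfsgLib.Suzuki.uSub h) = commutator (CfsgLib.Suzuki.uSub h) :=
    Subgroup.map_injective (CfsgLib.Suzuki.uSub h).subtype_injective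
      ((CfsgLib.Suzuki.center_uSub hm hF).trans (CfsgLib.Suzuki.commutator_uSub hm hF).symm)
  have hcen : (Subgroup.center (CfsgLib.Suzuki.uSub h)).map e.toMonoidHom =
      Subgroup.center (P : Subgroup (Cfsg.Sz F m)) := by
    ext x
    obtain ⟨y, rfl⟩ := e.surjective x
    constructor
    · rintro ⟨z, hz, hzy⟩
      rw [← hzy]
      rw [SetLike.mem_coe, Subgroup.mem_center_iff] at hz
      rw [Subgroup.mem_center_iff]
      intro g
      obtain ⟨g', rfl⟩ := e.surjective g
      show e g' * e z = e z * e g'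
      rw [← map_mul, hz g', map_mul]
    · intro hy
      refine ⟨y, ?_, rfl⟩
      rw [SetLike.mem_coe, Subgroup.mem_center_iff]
      intro g
      apply e.injective
      rw [map_mul, map_mul]
      exact Subgroup.mem_center_iff.1 hy (e g)
  refine ⟨?_, ?_, ?_, ?_⟩
  · rw [← Nat.card_congr e.toEquiv, CfsgLib.Suzuki.card_uSub, Nat.card_eq_fintype_card, hF]
  · rw [← Monoid.exponent_eq_of_mulEquiv e, CfsgLib.Suzuki.exponent_uSub hm hF]
  · rw [← hcen, hcomm, map_commutator_eq, MonoidHom.range_eq_top.2 e.surjective, ← commutator_def]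
  · rw [← hcen, Subgroup.card_map_of_injective e.injective,
      ← Subgroup.card_map_of_injective (CfsgLib.Suzuki.uSub h).subtype_injective,
      CfsgLib.Suzuki.center_uSub hm hF, CfsgLib.Suzuki.card_zSub, Nat.card_eq_fintype_card, hF]

end Cfsg.Agent.S0330
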