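import Cfsg.Statements.S2086
import Cfsg.Agent.Lib.KnownA.SLStem
import Cfsg.Agent.Lib.KnownA.MultQuot
import Cfsg.Agent.Lib.KnownA.SL2Borel
import Cfsg.Agent.Lib.Classical.SLOrder
-- import your own Cfsg.Agent.* helpers here

set_option autoImplicit false
open Cfsg

namespace Cfsg.Agent.S2086

/-- Schur multipliers of the linear groups: for n ≥ 2 and a field F with q elements (q ≥ 4 when n = 2), apart from the five exceptional pairs (n, q) = (2, 4), (2, 9), (3, 2), (3, 4), (4, 2), the Schur multiplier of PSL_n(F) is cyclic of order gcd(n, q − 1); here the Schur multiplier is described through stem extensions, as in the definitions. -/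
theorem result {F : Type*} [Field F] [Fintype F] {q : ℕ} (hF : Fintype.card F = q) (n : ℕ) (hn : 2 ≤ n) (h2 : n = 2 → 4 ≤ q) (hexc : (n, q) ∉ ({(2, 4), (2, 9), (3, 2), (3, 4), (4, 2)} : Set (ℕ × ℕ))) : Cfsg.HasCyclicSchurMultiplier (Matrix.ProjectiveSpecialLinearGroup (Fin n) F) (Nat.gcd n (q - 1)) := by
  simp only [Set.mem_insert_iff, Set.mem_singleton_iff, Prod.mk.injEq, not_or] at hexc
  have : Nonempty (Fin n) := ⟨⟨0, by omega⟩⟩
  let X := Matrix.SpecialLinearGroup (Fin n) F
  have hperf : commutator X = ⊤ := by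
    rcases Nat.lt_or_ge n 3 with h3 | h3
    · obtain rfl : n = 2 := by omega
      classical
      obtain ⟨a, -, ha⟩ := Finset.exists_mem_notMem_of_card_lt_card (s := ({0, 1, -1} : Finset F))
        (t := Finset.univ) (by
          have := Finset.card_le_three (a := (0 : F)) (b := 1) (c := -1)
          have := h2 rfl
          rw [Finset.card_univ, hF]; omega)
      simp only [Finset.mem_insert, Finset.mem_singleton, not_or] at ha
      refine Matrix.SL2.commutator_eq_top ha.1 fun h => ?_
      rcases sq_eq_one_iff.1 h with h | h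
      · exact ha.2.1 h
      · exact ha.2.2 h
    · exact CfsgLib.Classical.commutator_sl_eq_top (by simpa using h3)
  let τ : X →* Matrix.ProjectiveSpecialLinearGroup (Fin n) F := QuotientGroup.mk' _
  have hker : τ.ker = Subgroup.center X := QuotientGroup.ker_mk' _
  have hτ : Cfsg.IsStemExtension τ :=
    ⟨QuotientGroup.mk'_surjective _, hker.le, by rw [hperf]; exact le_top⟩
  refine CfsgLib.KnownA.hasCyclicSchurMultiplier_of_cover hτ _ ?_ ?_ ?_
  · rw [hker, CfsgLib.Classical.card_center_sl, hF, Fintype.card_fin]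
  · rw [hker]
    exact (Matrix.SpecialLinearGroup.center_equiv_rootsOfUnity' (⟨0, by omega⟩ : Fin n)).isCyclic.2
      inferInstance
  · refine CfsgLib.KnownA.hasCyclicSchurMultiplier_one fun Γ _ _ σ hσ => ?_
    rcases Nat.lt_or_ge n 3 with h3 | h3
    · obtain rfl : n = 2 := by omega
      exact CfsgLib.KnownA.SL2Stem.stem_sl2_trivial (by omega) (by omega) hσ
    · exact CfsgLib.KnownA.SLStem.stem_sl_trivial ⟨hσ.1, hσ.2.1⟩ h3 (by omega) (by omega) hσ.2.2

end Cfsg.Agent.S2086
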