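import Cfsg.Statements.S2089
import Cfsg.Agent.Lib.KnownA.SUStemL
import Cfsg.Agent.Lib.KnownA.SUSiegel
import Cfsg.Agent.Lib.KnownA.Stem
import Cfsg.Agent.Lib.KnownA.MultQuot
import Cfsg.Agent.Lib.Classical.SUCenter
-- import your own Cfsg.Agent.* helpers here

set_option autoImplicit false
open Cfsg

namespace Cfsg.Agent.S2089

/-- Schur multipliers of the unitary groups: for n ≥ 3 and a field F with q² elements, (n, q) ≠ (3, 2), apart from the exceptional pairs (n, q) = (4, 2), (4, 3), (6, 2), the Schur multiplier of PSU_n(q) is cyclic of order gcd(n, q + 1); here the Schur multiplier is described through stem extensions, as in the definitions. -/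
theorem result {F : Type*} [Field F] [Fintype F] (n q : ℕ) (hF : Fintype.card F = q ^ 2) (hn : 3 ≤ n) (h3 : ¬ (n = 3 ∧ q = 2)) (hexc : (n, q) ∉ ({(4, 2), (4, 3), (6, 2)} : Set (ℕ × ℕ))) : Cfsg.HasCyclicSchurMultiplier (Cfsg.PSU n F q) (Nat.gcd n (q + 1)) := by
  simp only [Set.mem_insert_iff, Set.mem_singleton_iff, Prod.mk.injEq] at hexc
  let X := Cfsg.SU n F q
  have hperf : commutator X = ⊤ := CfsgLib.Classical.UMinDeg.commutator_su hF hn h3
  let τ : X →* Cfsg.PSU n F q := QuotientGroup.mk' _
  have hker : τ.ker = Subgroup.center X := QuotientGroup.ker_mk' _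
  have hτ : Cfsg.IsStemExtension τ :=
    ⟨QuotientGroup.mk'_surjective _, hker.le, by rw [hperf]; exact le_top⟩
  have hcard : Nat.card τ.ker = Nat.gcd n (q + 1) := by
    rw [hker]; exact CfsgLib.Classical.card_center_su hF (by omega)
  refine CfsgLib.KnownA.hasCyclicSchurMultiplier_of_cover hτ _ hcard ?_ ?_
  · -- the kernel consists of the scalars `r` with `r ^ gcd (n, q + 1) = 1`
    rw [hker]
    let P : Subgroup Fˣ := (powMonoidHom (Nat.gcd n (q + 1)) : Fˣ →* Fˣ).ker
    have hP : ∀ r : P, (((r : Fˣ) : F)) ^ n = 1 ∧ (((r : Fˣ) : F)) ^ (q + 1) = 1 := fun r => by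
      have h : (((r : Fˣ) : F)) ^ Nat.gcd n (q + 1) = 1 := by
        rw [← Units.val_pow_eq_pow_val]
        exact congrArg Units.val (MonoidHom.mem_ker.1 r.2)
      exact pow_gcd_eq_one.1 h
    have hex : ∀ r : P, ∃ s : X,
        (s.1 : Matrix (Fin n) (Fin n) F) = Matrix.diagonal (fun _ => ((r : Fˣ) : F)) := fun r =>
      CfsgLib.Classical.diagonal_mem_su hF _ (fun _ => (hP r).2) (by simpa using (hP r).1)
    choose sc hsc using hex
    let f : P →* Subgroup.center X := MonoidHom.mk'
      (fun r => ⟨sc r, Subgroup.mem_center_iff.2 fun B => by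
        refine Subtype.ext (Subtype.ext ?_)
        simp only [Subgroup.coe_mul, Matrix.SpecialLinearGroup.coe_mul, hsc, ← Matrix.scalar_apply]
        exact (Matrix.scalar_commute _ (Commute.all _) _).eq.symm⟩)
      (fun r s => by
        refine Subtype.ext (Subtype.ext (Subtype.ext ?_))
        simp [hsc, Matrix.diagonal_mul_diagonal])
    have hinj : Function.Injective f := fun r s h => by
      have h' := congrArg (fun A : Subgroup.center X =>
        (A.1.1 : Matrix (Fin n) (Fin n) F) ⟨0, by omega⟩ ⟨0, by omega⟩) h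
      simp only [f, MonoidHom.mk'_apply, hsc, Matrix.diagonal_apply_eq] at h'
      exact Subtype.ext (Units.ext h')
    have hbij : Function.Bijective f := (Nat.bijective_iff_injective_and_card f).2 ⟨hinj, by
      rw [CfsgLib.Classical.card_center_su hF (by omega), IsCyclic.card_powMonoidHom_ker,
        CfsgLib.Classical.units_card_sq hF, Nat.gcd_comm]
      exact Nat.gcd_eq_left ((Nat.gcd_dvd_right n (q + 1)).trans (dvd_mul_left _ _))⟩
    exact isCyclic_of_surjective f hbij.2
  · refine CfsgLib.KnownA.hasCyclicSchurMultiplier_one fun Γ _ _ σ hσ => ?_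
    refine CfsgLib.KnownA.LGood.stem_ker_bot_of_mfree (fun ℓ hℓ => ?_) hσ
    haveI := Fact.mk hℓ
    refine CfsgLib.KnownA.LGood.mfree_transport
      (MulEquiv.subgroupCongr (CfsgLib.KnownA.SUModel.sug_eq_su hF n)) ?_
    by_cases hℓq : ℓ ∣ q
    · exact CfsgLib.KnownA.SUSiegel.mfree_char hℓq n hn hexc
    · exact (CfsgLib.KnownA.SUStemL.good_su hℓq n).mfree

end Cfsg.Agent.S2089
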