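import Cfsg.Statements.S0246
import Cfsg.Agent.Lib.Geom.Symp
import Cfsg.Agent.Lib.Classical.SLOrder

set_option autoImplicit false
open Cfsg

namespace Cfsg.Agent.S0246

/-- The centre of Sp_{2m}(q), m at least 1, is {1, -1}: it has order gcd(2, q-1). -/
theorem result {F : Type*} [Field F] [Fintype F] {q : ℕ} (hF : Fintype.card F = q) (m : ℕ) (hm : 1 ≤ m) : Nat.card (Subgroup.center (Matrix.symplecticGroup (Fin m) F)) = Nat.gcd 2 (q - 1) := by
  subst hF
  have hne : Nonempty (Fin m) := ⟨⟨0, hm⟩⟩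
  have key : ∀ A : Matrix.symplecticGroup (Fin m) F, A ∈ Subgroup.center (Matrix.symplecticGroup (Fin m) F) →
      ∃ r : F, r ^ 2 = 1 ∧ (A : Matrix (Fin m ⊕ Fin m) (Fin m ⊕ Fin m) F) = Matrix.scalar _ r := by
    intro A hA
    have heig : ∀ v : Fin m ⊕ Fin m → F,
        ¬ LinearIndependent F ![v, Matrix.toLin' (A : Matrix (Fin m ⊕ Fin m) (Fin m ⊕ Fin m) F) v] := by
      intro v
      by_cases hv : v = 0
      · simp [hv, linearIndependent_fin2]
      rw [LinearIndependent.pair_iff' hv]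
      push Not
      obtain ⟨x, hx⟩ : ∃ x, CfsgLib.Geom.sympBilin m F x v ≠ 0 := by
        by_contra h
        push Not at h
        refine hv (CfsgLib.Geom.sympBilin_sep v fun y => ?_)
        rw [CfsgLib.Geom.sympBilin_swap, h y, neg_zero]
      let T : Matrix.symplecticGroup (Fin m) F := ⟨_, CfsgLib.Geom.sympTransvection_mem v 1⟩
      have hc := congrArg (fun g : Matrix.symplecticGroup (Fin m) F =>
        (g : Matrix (Fin m ⊕ Fin m) (Fin m ⊕ Fin m) F).mulVec x) (Subgroup.mem_center_iff.1 hA T)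
      simp only [T, Submonoid.coe_mul, ← Matrix.mulVec_mulVec, CfsgLib.Geom.sympTransvection_mulVec,
        one_mul, Matrix.mulVec_add, Matrix.mulVec_smul] at hc
      refine ⟨(CfsgLib.Geom.sympBilin m F x v)⁻¹ * CfsgLib.Geom.sympBilin m F
        ((A : Matrix (Fin m ⊕ Fin m) (Fin m ⊕ Fin m) F).mulVec x) v, ?_⟩
      rw [Matrix.toLin'_apply, mul_smul, add_left_cancel hc, smul_smul, inv_mul_cancel₀ hx, one_smul]
    obtain ⟨r, hr⟩ := LinearMap.exists_eq_smul_id_of_forall_notLinearIndependent heig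
    have hA' : ∀ v, (A : Matrix (Fin m ⊕ Fin m) (Fin m ⊕ Fin m) F).mulVec v = r • v := fun v => by
      rw [← Matrix.toLin'_apply, hr]; rfl
    refine ⟨r, ?_, Matrix.ext_of_mulVec_single fun i => by
      rw [hA']; ext j; simp [Matrix.scalar_apply, Pi.single_apply, Matrix.diagonal_apply]⟩
    obtain ⟨i⟩ := hne
    have h2 := CfsgLib.Geom.spToLin_mem A (Pi.single (Sum.inr i) 1) (Pi.single (Sum.inl i) 1)
    simp only [hA', map_smul, LinearMap.smul_apply, smul_eq_mul] at h2
    have h1 : CfsgLib.Geom.sympBilin m F (Pi.single (Sum.inr i) 1) (Pi.single (Sum.inl i) 1) = 1 := by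
      rw [CfsgLib.Geom.sympBilin_apply, CfsgLib.Geom.sympForm_eq_sum]
      simp [Pi.single_apply]
    rw [h1] at h2
    linear_combination h2
  have hroots : (powMonoidHom 2 : Fˣ →* Fˣ).ker = rootsOfUnity 2 F := by ext u; simp [mem_rootsOfUnity]
  have hsc : ∀ r : F, r ^ 2 = 1 →
      Matrix.scalar (Fin m ⊕ Fin m) r ∈ Matrix.symplecticGroup (Fin m) F := by
    intro r hr
    rw [SymplecticGroup.mem_iff]
    simp [Matrix.scalar_apply, ← Matrix.smul_one_eq_diagonal, smul_smul, ← sq, hr]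
  let e : rootsOfUnity 2 F ≃ Subgroup.center (Matrix.symplecticGroup (Fin m) F) :=
    Equiv.ofBijective (fun u => ⟨⟨Matrix.scalar _ ((u : Fˣ) : F),
        hsc _ (by simpa using congrArg Units.val u.2)⟩, Subgroup.mem_center_iff.2 fun B =>
          Subtype.ext (Matrix.scalar_commute _ (Commute.all _) _).eq.symm⟩) ⟨fun u v huv => by
      have := congrArg (fun g : Subgroup.center (Matrix.symplecticGroup (Fin m) F) =>
        ((g : Matrix.symplecticGroup (Fin m) F) : Matrix (Fin m ⊕ Fin m) (Fin m ⊕ Fin m) F)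
          (Sum.inl ⟨0, hm⟩) (Sum.inl ⟨0, hm⟩)) huv
      exact Subtype.ext (Units.ext (by simpa using this)), fun A => by
      obtain ⟨r, hr, hA⟩ := key A.1 A.2
      exact ⟨rootsOfUnity.mkOfPowEq r hr, Subtype.ext (Subtype.ext (by simpa using hA.symm))⟩⟩
  rw [← Nat.card_congr e, ← hroots, IsCyclic.card_powMonoidHom_ker, Nat.card_units,
    Nat.card_eq_fintype_card (α := F), Nat.gcd_comm]

end Cfsg.Agent.S0246
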