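import Cfsg.Statements.S2092
import Cfsg.Agent.S0246
import Cfsg.Agent.Lib.KnownA.SpStemL
import Cfsg.Agent.Lib.KnownA.SpStemP
import Cfsg.Agent.Lib.KnownA.Stem
import Cfsg.Agent.Lib.KnownA.MultQuot
import Cfsg.Agent.Lib.Classical.SpSimple
-- import your own Cfsg.Agent.* helpers here

set_option autoImplicit false
open Cfsg

namespace Cfsg.Agent.S2092

/-- Schur multipliers of the symplectic groups: for m ≥ 2 and a field F with q elements (q ≥ 3 when m = 2), with (m, q) ≠ (3, 2), the Schur multiplier of PSp_2m(F) is cyclic of order gcd(2, q − 1); here the Schur multiplier is described through stem extensions, as in the definitions. -/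
theorem result {F : Type*} [Field F] [Fintype F] {q : ℕ} (hF : Fintype.card F = q) (m : ℕ) (hm : 2 ≤ m) (h2 : m = 2 → 3 ≤ q) (hexc : ¬ (m = 3 ∧ q = 2)) : Cfsg.HasCyclicSchurMultiplier (Cfsg.PSp m F) (Nat.gcd 2 (q - 1)) := by
  let X := Matrix.symplecticGroup (Fin m) F
  have hperf : commutator X = ⊤ := CfsgLib.Classical.commutator_symplecticGroup m (by
    rcases Nat.lt_or_ge m 3 with h | h
    · exact Or.inr (Or.inl ⟨by omega, hF ▸ h2 (by omega)⟩)
    · exact Or.inl h)
  let τ : X →* Cfsg.PSp m F := QuotientGroup.mk' _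
  have hker : τ.ker = Subgroup.center X := QuotientGroup.ker_mk' _
  have hτ : Cfsg.IsStemExtension τ :=
    ⟨QuotientGroup.mk'_surjective _, hker.le, by rw [hperf]; exact le_top⟩
  have hcard : Nat.card τ.ker = Nat.gcd 2 (q - 1) := by
    rw [hker]; exact Cfsg.Agent.S0246.result hF m (by omega)
  refine CfsgLib.KnownA.hasCyclicSchurMultiplier_of_cover hτ _ hcard ?_ ?_
  · exact isCyclic_of_card_dvd_prime (hp := ⟨Nat.prime_two⟩) (by rw [hcard]; exact Nat.gcd_dvd_left _ _)
  · refine CfsgLib.KnownA.hasCyclicSchurMultiplier_one fun Γ _ _ σ hσ => ?_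
    refine CfsgLib.KnownA.LGood.stem_ker_bot_of_mfree (fun ℓ hℓ => ?_) hσ
    haveI := Fact.mk hℓ
    by_cases hℓq : ℓ ∣ Fintype.card F
    · intro E _ π hπ
      refine CfsgLib.KnownA.SpSiegel.kills_top hπ hℓq hm fun h => ?_
      have : m ≠ 2 := fun h' => by have := h2 h'; omega
      have : m ≠ 3 := fun h' => hexc ⟨h', hF ▸ h⟩
      omega
    · exact (CfsgLib.KnownA.SpStemL.good_sp hℓq m).mfree

end Cfsg.Agent.S2092
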