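import Cfsg.Statements.S2096
import Cfsg.Agent.Lib.KnownA.OrthMultPlus
-- import your own Cfsg.Agent.* helpers here

set_option autoImplicit false
open Cfsg

namespace Cfsg.Agent.S2096

/-- Schur multipliers of the even-dimensional orthogonal groups of plus type and odd rank: for odd l ≥ 5 and a field F with q elements, the Schur multiplier of PΩ⁺_2l(F) (for the form Σ xᵢyᵢ) is cyclic of order gcd(4, q^l − 1); here the Schur multiplier is described through stem extensions, as in the definitions. -/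
theorem result {F : Type*} [Field F] [Fintype F] {q : ℕ} (hF : Fintype.card F = q) (l : ℕ) (hl : 5 ≤ l) (hodd : Odd l) : Cfsg.HasCyclicSchurMultiplier (Cfsg.POmega F (Cfsg.quadFormPlus l F)) (Nat.gcd 4 (q ^ l - 1)) := by
  subst hF
  obtain ⟨p, _⟩ := CharP.exists F
  haveI : Fact p.Prime := ⟨CharP.char_is_prime F p⟩
  obtain ⟨k, rfl⟩ : ∃ k, l = k + 4 := ⟨l - 4, by omega⟩
  have hl2 : (k + 4) % 2 = 1 := Nat.odd_iff.1 hodd
  rw [← CfsgLib.Classical.qfPlus_coe]
  have hQ := CfsgLib.Classical.qfPlus_sep (F := F) (k + 4)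
  have h7 : 7 ≤ Fintype.card (Fin (k + 4) ⊕ Fin (k + 4)) := by simp; omega
  have D := CfsgLib.KnownA.OrthMult.data_plus (F := F) p k (by omega)
  have hq1 := Fintype.one_lt_card (α := F)
  by_cases h2 : (2 : F) = 0
  · have hqe := CfsgLib.KnownA.OrthBound.card_mod (F := F) h2
    have hev : Fintype.card F ^ (k + 4) % 2 = 0 := by rw [Nat.pow_mod, hqe]; simp
    have hpos : 0 < Fintype.card F ^ (k + 4) := pow_pos (by omega) _
    have hg : Nat.gcd 4 (Fintype.card F ^ (k + 4) - 1) = 1 :=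
      Nat.Coprime.pow_left 2 (Nat.coprime_two_left.2 (Nat.odd_iff.2 (by omega)))
    rw [hg]
    exact CfsgLib.KnownA.OrthMult.hasCyclic_small _ hQ h7 D
      (CfsgLib.KnownA.OrthMult.kernel_one _ hQ h7 D h2 (by omega)) (one_dvd _)
  have hodd' : Fintype.card F % 2 = 1 :=
    FiniteField.odd_card_of_char_ne_two (CfsgLib.Geom.ringChar_ne_two_of_ne h2)
  have hpow := CfsgLib.KnownA.OrthMult.pow_mod_four hodd' (k + 4) hl2
  have hpos : 0 < Fintype.card F ^ (k + 4) := pow_pos (by omega) _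
  by_cases h4 : Fintype.card F % 4 = 1
  · obtain ⟨t, ht⟩ := FiniteField.isSquare_neg_one_iff.2 (show Fintype.card F % 4 ≠ 3 by omega)
    obtain ⟨γ, hsq, hγ⟩ := CfsgLib.KnownA.OrthMult.exists_negAll_four (F := F) (m := k + 4) (k := (k + 3) / 2)
      (by omega) (by omega) ht.symm
    rw [Nat.gcd_eq_left (show 4 ∣ Fintype.card F ^ (k + 4) - 1 by omega)]
    exact CfsgLib.KnownA.OrthMult.hasCyclic_four _ hQ h7 D h2 hγ hsq
  · have hg : Nat.gcd 4 (Fintype.card F ^ (k + 4) - 1) = 2 := by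
      rw [Nat.gcd_rec, show (Fintype.card F ^ (k + 4) - 1) % 4 = 2 by omega]
      rfl
    rw [hg]
    refine CfsgLib.KnownA.OrthMult.hasCyclic_small _ hQ h7 D ?_ dvd_rfl
    rw [CfsgLib.KnownA.OrthMult.card_kernel _ hQ h7 D, CfsgLib.KnownA.OrthMult.gcd_two_odd h2,
      CfsgLib.KnownA.OrthMult.center_plus_one (F := F) p (by omega) h2 hl2 (by omega)]

end Cfsg.Agent.S2096
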