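import Cfsg.Statements.S2099
import Cfsg.Agent.Lib.KnownA.OrthMultMinus
-- import your own Cfsg.Agent.* helpers here

set_option autoImplicit false
open Cfsg

namespace Cfsg.Agent.S2099

/-- Schur multipliers of the even-dimensional orthogonal groups of minus type: for l ≥ 4 and a field F with q elements, the Schur multiplier of PΩ⁻_2l(F) (for the form Σ_{i<l−1} xᵢyᵢ + z₁² + a z₁z₂ + b z₂² with the binary part anisotropic) is cyclic of order gcd(4, q^l + 1); here the Schur multiplier is described through stem extensions, as in the definitions. -/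
theorem result {F : Type*} [Field F] [Fintype F] {q : ℕ} (hF : Fintype.card F = q) (l : ℕ) (hl : 4 ≤ l) (a b : F) (hab : ∀ z₁ z₂ : F, z₁ ^ 2 + a * z₁ * z₂ + b * z₂ ^ 2 = 0 → z₁ = 0 ∧ z₂ = 0) : Cfsg.HasCyclicSchurMultiplier (Cfsg.POmega F (Cfsg.quadFormMinus (l - 1) F a b)) (Nat.gcd 4 (q ^ l + 1)) := by
  subst hF
  obtain ⟨p, _⟩ := CharP.exists F
  haveI : Fact p.Prime := ⟨CharP.char_is_prime F p⟩
  obtain ⟨k, rfl⟩ : ∃ k, l = k + 4 := ⟨l - 4, by omega⟩
  rw [show k + 4 - 1 = k + 3 by omega, ← CfsgLib.Classical.qfMinus_coe]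
  have hQ := CfsgLib.Classical.qfMinus_sep (F := F) (k + 3) hab
  have h7 : 7 ≤ Fintype.card ((Fin (k + 3) ⊕ Fin (k + 3)) ⊕ Fin 2) := by simp; omega
  have D := CfsgLib.KnownA.OrthMult.data_minus (F := F) p hab k
  have hq1 := Fintype.one_lt_card (α := F)
  by_cases h2 : (2 : F) = 0
  · have hqe := CfsgLib.KnownA.OrthBound.card_mod (F := F) h2
    have hev : Fintype.card F ^ (k + 4) % 2 = 0 := by rw [Nat.pow_mod, hqe]; simp
    have hg : Nat.gcd 4 (Fintype.card F ^ (k + 4) + 1) = 1 :=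
      Nat.Coprime.pow_left 2 (Nat.coprime_two_left.2 (Nat.odd_iff.2 (by omega)))
    rw [hg]
    exact CfsgLib.KnownA.OrthMult.hasCyclic_small _ hQ h7 D
      (CfsgLib.KnownA.OrthMult.kernel_one _ hQ h7 D h2 (by omega)) (one_dvd _)
  have hodd' : Fintype.card F % 2 = 1 :=
    FiniteField.odd_card_of_char_ne_two (CfsgLib.Geom.ringChar_ne_two_of_ne h2)
  have h4 : Fintype.card F % 4 = 1 ∨ Fintype.card F % 4 = 3 := by omega
  by_cases hbig : Fintype.card F % 4 = 3 ∧ (k + 4) % 2 = 1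
  · obtain ⟨hq3, hl⟩ := hbig
    obtain ⟨γ, hsq, hγ⟩ := CfsgLib.KnownA.OrthMult.exists_negAll_minus (F := F) hab (m := k + 3)
      (k := (k + 3) / 2) (by omega) (by omega) h2 hq3
    have hmod : (Fintype.card F ^ (k + 4) + 1) % 4 = 0 := by
      obtain ⟨j, hj⟩ : ∃ j, k + 4 = 2 * j + 1 := ⟨(k + 4) / 2, by omega⟩
      rw [hj, pow_succ, pow_mul, Nat.add_mod, Nat.mul_mod, Nat.pow_mod, Nat.pow_mod (Fintype.card F) 2, hq3]
      simp
    rw [Nat.gcd_eq_left (Nat.dvd_of_mod_eq_zero hmod)]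
    exact CfsgLib.KnownA.OrthMult.hasCyclic_four _ hQ h7 D h2 hγ hsq
  · have hpow : Fintype.card F ^ (k + 4) % 4 = 1 := by
      rcases Nat.even_or_odd' (k + 4) with ⟨j, hj | hj⟩
      · rw [hj, pow_mul, Nat.pow_mod, Nat.pow_mod (Fintype.card F) 2]
        rcases h4 with h | h <;> simp [h]
      · have h1 : Fintype.card F % 4 = 1 := h4.resolve_right fun h => hbig ⟨h, by omega⟩
        rw [Nat.pow_mod, h1]; simp
    have hg : Nat.gcd 4 (Fintype.card F ^ (k + 4) + 1) = 2 := by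
      rw [Nat.gcd_rec, show (Fintype.card F ^ (k + 4) + 1) % 4 = 2 by omega]
      rfl
    rw [hg]
    refine CfsgLib.KnownA.OrthMult.hasCyclic_small _ hQ h7 D ?_ dvd_rfl
    have hc := CfsgLib.KnownA.OrthMult.center_minus_one (F := F) p hab (l := k + 4) (by omega) h2 hpow
    rw [show k + 4 - 1 = k + 3 by omega] at hc
    rw [CfsgLib.KnownA.OrthMult.card_kernel _ hQ h7 D, CfsgLib.KnownA.OrthMult.gcd_two_odd h2, hc]

end Cfsg.Agent.S2099
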