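import Cfsg.Statements.S2103
import Cfsg.Agent.Lib.KnownA.CExt.Mult

set_option autoImplicit false
open Cfsg

namespace Cfsg.Agent.S2103

/-- Schur multipliers of the Chevalley groups of type F₄: over a finite field with more than 2 elements the Schur multiplier of F₄(q) is trivial (here the Schur multiplier is described through stem extensions, as in the definitions); q = 2 is exceptional. -/
theorem result {F : Type*} [Field F] [Fintype F] (hF : 3 ≤ Fintype.card F) : Cfsg.HasCyclicSchurMultiplier ↥(Cfsg.Lie.chevF4.group F) 1 := by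
  have hD : Cfsg.Lie.chevF4 ∈ [Cfsg.Lie.chevG2, Cfsg.Lie.chevB2, Cfsg.Lie.chevD4, Cfsg.Lie.chevF4, Cfsg.Lie.chevE6, Cfsg.Lie.chevE7, Cfsg.Lie.chevE8] := by simp
  have hS : CfsgLib.KnownA.CExt.Splits F Cfsg.Lie.chevF4 := by
    by_cases h2 : (2 : F) = 0
    · refine CfsgLib.KnownA.CExt.splits_of_bigField hD
        (CfsgLib.KnownA.CExt.bigField_of_card _ hF (fun _ => ?_) fun h => ?_)
      · by_contra h4
        have h0 : ((Fintype.card F : ℕ) : F) = 0 := FiniteField.cast_card_eq_zero F
        rw [show Fintype.card F = 3 by omega] at h0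
        push_cast at h0
        exact one_ne_zero (by linear_combination h0 - h2 : (1 : F) = 0)
      · exact absurd (congrArg Cfsg.Lie.ChevalleyDatum.nroots h) (by decide)
    · exact CfsgLib.KnownA.CExt.splits_of_odd (Or.inr rfl) h2
  refine CfsgLib.KnownA.CExt.multiplier_group hD hS 1 ?_ (Or.inl rfl)
  have g := CfsgLib.Chev.good_of_mem hD
  have hc := CfsgLib.Chev.hasComm_of_mem hD
  rw [← CfsgLib.Chev.StData.ker_eq_center (CfsgLib.Chev.stData g hc F) (CfsgLib.Chev.linked_of_mem hD g),
    CfsgLib.Chev.StData.θG_ker, CfsgLib.Chev.stData_ker_eq_bot (by simp) g hc, Subgroup.card_bot]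

end Cfsg.Agent.S2103
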