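import Cfsg.Statements.S2105
import Cfsg.Agent.Lib.KnownA.CExt.TwoTables

set_option autoImplicit false
open Cfsg

namespace Cfsg.Agent.S2105

/-- Schur multipliers of the (adjoint, simple) Chevalley groups of type E₆: over a field with q elements the Schur multiplier is cyclic of order gcd(3, q − 1) (here the Schur multiplier is described through stem extensions, as in the definitions). -/
theorem result {F : Type*} [Field F] [Fintype F] {q : ℕ} (hF : Fintype.card F = q) : Cfsg.HasCyclicSchurMultiplier ↥(Cfsg.Lie.chevE6.group F) (Nat.gcd 3 (q - 1)) := by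
  subst hF
  have hD : Cfsg.Lie.chevE6 ∈ [Cfsg.Lie.chevG2, Cfsg.Lie.chevB2, Cfsg.Lie.chevD4, Cfsg.Lie.chevF4, Cfsg.Lie.chevE6, Cfsg.Lie.chevE7, Cfsg.Lie.chevE8] := by simp
  exact CfsgLib.KnownA.CExt.multiplier_group hD (CfsgLib.KnownA.CExt.splits_E (by simp)) _
    (CfsgLib.Chev.st_card_centerE6 F)
    (Or.imp id (fun (h : Nat.gcd 3 (Fintype.card F - 1) = 3) => by rw [h]; exact Nat.prime_three)
      ((Nat.dvd_prime Nat.prime_three).1 (Nat.gcd_dvd_left 3 _)))

end Cfsg.Agent.S2105
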