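import Cfsg.Statements.S2107
import Cfsg.Agent.Lib.KnownA.CExt.TwoTables

set_option autoImplicit false
open Cfsg

namespace Cfsg.Agent.S2107

/-- Schur multipliers of the Chevalley groups of type E₈: over every finite field the Schur multiplier of E₈(q) is trivial (here the Schur multiplier is described through stem extensions, as in the definitions). -/
theorem result {F : Type*} [Field F] [Fintype F] : Cfsg.HasCyclicSchurMultiplier ↥(Cfsg.Lie.chevE8.group F) 1 := by
  have hD : Cfsg.Lie.chevE8 ∈ [Cfsg.Lie.chevG2, Cfsg.Lie.chevB2, Cfsg.Lie.chevD4, Cfsg.Lie.chevF4, Cfsg.Lie.chevE6, Cfsg.Lie.chevE7, Cfsg.Lie.chevE8] := by simp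
  refine CfsgLib.KnownA.CExt.multiplier_group hD (CfsgLib.KnownA.CExt.splits_E (by simp)) 1 ?_ (Or.inl rfl)
  have g := CfsgLib.Chev.good_of_mem hD
  have hc := CfsgLib.Chev.hasComm_of_mem hD
  rw [← CfsgLib.Chev.StData.ker_eq_center (CfsgLib.Chev.stData g hc F) (CfsgLib.Chev.linked_of_mem hD g),
    CfsgLib.Chev.StData.θG_ker, CfsgLib.Chev.stData_ker_eq_bot (by simp) g hc, Subgroup.card_bot]

end Cfsg.Agent.S2107
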