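import Cfsg.Statements.S2110
import Cfsg.Agent.Lib.Chev.TrialitySchurData
import Cfsg.Agent.Lib.KnownA.Stem

set_option autoImplicit false
open Cfsg

namespace Cfsg.Agent.S2110

/-- Schur multipliers of the triality-twisted groups ³D₄: for every prime power q, with the group realised over the field with q³ elements, the Schur multiplier of ³D₄(q) is trivial (here the Schur multiplier is described through stem extensions, as in the definitions). -/
theorem result {K : Type*} [Field K] [Fintype K] {q : ℕ} (hq : IsPrimePow q) (hK : Fintype.card K = q ^ 3) : Cfsg.HasCyclicSchurMultiplier ↥(Cfsg.Lie.twistedD4 K q) 1 := by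
  obtain ⟨D⟩ := CfsgLib.Chev.TrialityRad.exists_base hq hK
  refine CfsgLib.KnownA.hasCyclicSchurMultiplier_one fun Γ _ _ σ hσ =>
    CfsgLib.KnownA.LGood.stem_ker_bot_of_mfree (fun ℓ hℓ => ?_) hσ
  intro E _ π hπ
  haveI := Fact.mk hℓ
  obtain ⟨p, hp⟩ := CharP.exists K
  haveI : Fact p.Prime := ⟨(CharP.char_is_prime_or_zero K p).resolve_right (CharP.char_ne_zero_of_finite K p)⟩
  by_cases hne : ℓ = p
  · subst hne
    exact D.kills_top hπ
  · obtain ⟨S⟩ := CfsgLib.Chev.TrialityRad.exists_twoData D (p := p)
    exact S.mfree hne hπ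

end Cfsg.Agent.S2110
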