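import Cfsg.Statements.S2114
import Cfsg.Agent.Lib.Chev.LargeReePieceGood
import Cfsg.Agent.Lib.Chev.LargeReeTwoPart
import Cfsg.Agent.Lib.KnownA.Stem

set_option autoImplicit false
open Cfsg

namespace Cfsg.Agent.S2114

/-- Schur multipliers of the large Ree groups: for q = 2^(2m+1) with m ≥ 1 the Schur multiplier of ²F₄(q) is trivial (here the Schur multiplier is described through stem extensions, as in the definitions). -/
theorem result {K : Type*} [Field K] [Fintype K] {m : ℕ} (hm : 1 ≤ m) (hK : Fintype.card K = 2 ^ (2 * m + 1)) : Cfsg.HasCyclicSchurMultiplier ↥(Cfsg.Lie.twistedF4 K (2 ^ m)) 1 := by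
  obtain ⟨S⟩ := CfsgLib.Chev.exists_setupF4 K hK
  haveI := S.char
  haveI := Fact.mk Nat.prime_two
  refine CfsgLib.KnownA.hasCyclicSchurMultiplier_one fun Γ _ _ σ hσ =>
    CfsgLib.KnownA.LGood.stem_ker_bot_of_mfree (fun ℓ hℓ => ?_) hσ
  intro E _ π hπ
  haveI := Fact.mk hℓ
  by_cases hne : ℓ = 2
  · subst hne
    exact S.kills_two hm hπ
  · obtain ⟨M, cs, P, hX, hH, hn⟩ := S.exists_pieceData hm
    refine P.mfree hne hπ fun i => ?_
    rw [hX, hH, hn]
    exact S.pL_good hm hne i

end Cfsg.Agent.S2114
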