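import Cfsg.Statements.S5742
import Cfsg.Agent.Lib.Chev.E6FiClasses
import Cfsg.Agent.Lib.KnownA.FischerOut.T22Out
-- import your own Cfsg.Agent.* helpers here

set_option autoImplicit false
open Cfsg

namespace Cfsg.Agent.S5742

/-- The simple group ²E₆(2) (the twisted group of type E₆ over the field with 4 elements) contains at least three pairwise non-conjugate subgroups isomorphic to the Fischer group Fi₂₂. -/
theorem result {K : Type*} [Field K] [Fintype K] (hK : Fintype.card K = 4) :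
    ∃ H : Fin 3 → Subgroup (Cfsg.Lie.twistedE6 K 2),
      (∀ i, Cfsg.Spor.IsoFi22 (H i)) ∧
      (∀ i j, i ≠ j → ∀ g : (Cfsg.Lie.twistedE6 K 2), (H i).map (MulAut.conj g).toMonoidHom ≠ H j) := by
  obtain ⟨hchar, hcube, ω, hω, h1⟩ := CfsgLib.Chev.FiInE6.four_setup hK
  haveI := hchar
  obtain ⟨H, hiso, hconj⟩ := CfsgLib.Chev.FiInE6.exists_three_sub hω h1
    (S := (⊤ : Subgroup Cfsg.Spor.Fi22)) hcube (fun _ _ _ => Subgroup.mem_top _)
    (CfsgLib.Chev.FiInE6.sq_inner_of_equiv Subgroup.topEquiv CfsgLib.KnownA.FischerOut.T22.card_out)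
  exact ⟨H, fun i => ⟨(hiso i).some.trans Subgroup.topEquiv⟩, hconj⟩

end Cfsg.Agent.S5742
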