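import Cfsg.Statements.S0892
import Cfsg.Agent.Lib.Clifford.AltSchur

set_option autoImplicit false
open Cfsg

namespace Cfsg.Agent.S0892

/-- Let n ≥ 4 with n ≠ 6 and n ≠ 7, and let Γ be a finite group with a subgroup Z contained in both the centre and the commutator subgroup of Γ such that Γ / Z is isomorphic to the alternating group on n letters. Then Z has order at most 2. -/
theorem result (n : ℕ) (hn : 4 ≤ n) (h6 : n ≠ 6) (h7 : n ≠ 7) {Γ : Type*} [Group Γ] [Finite Γ] (Z : Subgroup Γ) [Z.Normal] (hZc : Z ≤ Subgroup.center Γ) (hZd : Z ≤ commutator Γ) (e : Γ ⧸ Z ≃* alternatingGroup (Fin n)) : Nat.card Z ≤ 2 := by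
  set σ : Γ →* Equiv.Perm (Fin n) :=
    (alternatingGroup (Fin n)).subtype.comp (e.toMonoidHom.comp (QuotientGroup.mk' Z)) with hσdef
  have hker : σ.ker = Z := by
    ext g
    rw [MonoidHom.mem_ker, hσdef, MonoidHom.comp_apply, MonoidHom.comp_apply, Subgroup.coe_subtype,
      OneMemClass.coe_eq_one, MulEquiv.coe_toMonoidHom, EmbeddingLike.map_eq_one_iff,
      QuotientGroup.mk'_apply, QuotientGroup.eq_one_iff]
  have hσ : σ.range = alternatingGroup (Fin n) := by
    refine le_antisymm ?_ fun p hp => ?_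
    · rintro _ ⟨g, rfl⟩; exact (e (QuotientGroup.mk' Z g)).2
    · obtain ⟨g, hg⟩ := QuotientGroup.mk'_surjective Z (e.symm ⟨p, hp⟩)
      exact ⟨g, by rw [hσdef, MonoidHom.comp_apply, MonoidHom.comp_apply, hg]; simp⟩
  rw [← hker] at hZc hZd ⊢
  rcases eq_or_ne n 4 with h4 | h4
  · exact CfsgLib.Clifford.AltSchur.card_ker_le_four σ hσ hZc h4 hZd
  · exact CfsgLib.Clifford.AltSchur.card_ker_le σ hσ hZc (n - 2) (by omega) (by omega) hZd

end Cfsg.Agent.S0892
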