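import Cfsg.Statements.S2118
import Cfsg.Agent.Lib.KnownA.AltMult.Alt

set_option autoImplicit false
open Cfsg CfsgLib.KnownA.AltMult

namespace Cfsg.Agent.S2118

/-- For the field with 9 elements, the special linear group SL₂ has Schur multiplier cyclic of order 3 (here the Schur multiplier is described through stem extensions, as in the definitions). -/
theorem result {F : Type*} [Field F] [Fintype F] (hF : Fintype.card F = 9) : Cfsg.HasCyclicSchurMultiplier (Matrix.SpecialLinearGroup (Fin 2) F) 3 := by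
  obtain ⟨f, hf, hfc, -, hf2⟩ := exists_sl_to_alt hF
  obtain ⟨E, _, _, g, w, hg, hgc, hw, hwc, hwo⟩ := hasExt_six_three
  obtain ⟨h, hc⟩ := fibre_snd f g hf 4 (fun a ha => by rw [show 4 = 2 * 2 from rfl, pow_mul, hf2 a ha, one_pow]) w hw hwc
  set P := (f.comp (MonoidHom.fst _ E)).eqLocus (g.comp (MonoidHom.snd _ E)) with hP
  let π : P →* Matrix.SpecialLinearGroup (Fin 2) F := (MonoidHom.fst _ E).comp P.subtype
  refine multiplier_of_bound 3 Nat.prime_three.squarefree (stemBound_sl_nine hF) π (fun a => ?_) (fun x hx => ?_)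
    ⟨_, h⟩ (show (1 : Matrix.SpecialLinearGroup (Fin 2) F) = 1 from rfl) hc ?_
  · obtain ⟨b, hb⟩ := hg (f a)
    exact ⟨⟨(a, b), hb.symm⟩, rfl⟩
  · have h1 : (x : Matrix.SpecialLinearGroup (Fin 2) F × E).1 = 1 := hx
    have h2 : (x : Matrix.SpecialLinearGroup (Fin 2) F × E).2 ∈ g.ker := by
      rw [MonoidHom.mem_ker, ← show f (x : Matrix.SpecialLinearGroup (Fin 2) F × E).1 = g (x : Matrix.SpecialLinearGroup (Fin 2) F × E).2 from x.2, h1, map_one]
    exact Subgroup.mem_center_iff.2 fun y => Subtype.ext (Prod.ext (by simp [h1])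
      (Subgroup.mem_center_iff.1 (hgc h2) _))
  · rw [← Subgroup.orderOf_coe]
    show orderOf ((1, w ^ 4) : Matrix.SpecialLinearGroup (Fin 2) F × E) = 3
    rw [pow_succ, show w ^ 3 = 1 from hwo ▸ pow_orderOf_eq_one w, one_mul, Prod.orderOf, orderOf_one, hwo]
    rfl

end Cfsg.Agent.S2118
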