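import Cfsg.Statements.S2070
import Cfsg.Agent.Lib.Golay.Co2Out
import Cfsg.Agent.Lib.Comp.PComponentEquiv

set_option autoImplicit false
open Cfsg

namespace Cfsg.Agent.S2070

open CfsgLib.Golay in
theorem leechU_min : Spor.leechU = min44 :=
  Subtype.ext (funext (by decide +kernel : ∀ i, (Spor.leechU : GolayPt → ℤ) i = (min44 : GolayPt → ℤ) i))

open CfsgLib.Golay in
theorem mem_sporCo2_iff {g : Equiv.Perm leechLattice} :
    g ∈ Spor.Co2 ↔ ∃ h : g ∈ Co0, (⟨g, h⟩ : Co0) ∈ MulAction.stabilizer Co0 min44 := by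
  constructor
  · rintro ⟨h0, hU⟩
    refine ⟨h0, ?_⟩
    have hU' : (⟨g, h0⟩ : Co0) • Spor.leechU = Spor.leechU := hU
    rwa [leechU_min] at hU'
  · rintro ⟨h0, h1⟩
    refine ⟨h0, ?_⟩
    show (⟨g, h0⟩ : Co0) • Spor.leechU = Spor.leechU
    rw [leechU_min, MulAction.mem_stabilizer_iff.1 h1]

open CfsgLib.Golay in
/-- The identification with the stabiliser of `min44`. -/
noncomputable def co2Equiv : MulAction.stabilizer Co0 min44 ≃* Spor.Co2 where
  toFun g := ⟨g.1.1, mem_sporCo2_iff.2 ⟨g.1.2, g.2⟩⟩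
  invFun g := ⟨⟨g.1, (mem_sporCo2_iff.1 g.2).choose⟩, (mem_sporCo2_iff.1 g.2).choose_spec⟩
  left_inv _ := rfl
  right_inv _ := rfl
  map_mul' _ _ := rfl

/-- The outer automorphism group of the Conway group Co₂ (the stabiliser of a minimal vector of the rank-24 lattice) is trivial: every automorphism is inner. -/
theorem result : Nat.card (Cfsg.Out ↥Cfsg.Spor.Co2) = 1 := by
  obtain ⟨g, hg⟩ := CfsgLib.Golay.co0_trans32 CfsgLib.Golay.w11_facts.1 CfsgLib.Golay.min44_norm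
  obtain ⟨e₀⟩ := CfsgLib.Golay.conj_stab_equiv g hg
  haveI : Finite CfsgLib.Golay.Co2Out.G2 :=
    Nat.finite_of_card_ne_zero (by rw [CfsgLib.Golay.Co2Out.card_G2]; norm_num)
  haveI : Finite Spor.Co2 := Finite.of_equiv _ (e₀.trans co2Equiv).toEquiv
  obtain ⟨e⟩ := CfsgLib.Comp.out_congr (e₀.trans co2Equiv)
  rw [← Nat.card_congr e.toEquiv]
  exact CfsgLib.Golay.Co2Out.card_out_G2

end Cfsg.Agent.S2070
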