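import Cfsg.Statements.S2044
import Cfsg.Agent.Lib.StructC.Conway.Co2Multiplier
import Cfsg.Agent.S2070

set_option autoImplicit false
open Cfsg

namespace Cfsg.Agent.S2044

/-- The Schur multiplier of the Conway group Co₂ (the stabiliser of a minimal vector of the rank-24 lattice) is trivial; here the Schur multiplier is described through stem extensions, as in the definitions: surjective homomorphisms onto the group from a finite group, whose kernel is central in that finite group and contained in that finite group's commutator subgroup. -/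
theorem result : Cfsg.HasCyclicSchurMultiplier ↥Cfsg.Spor.Co2 1 := by
  haveI : Finite (MulAction.stabilizer Co0 CfsgLib.Golay.min44) :=
    Nat.finite_of_card_ne_zero (by rw [CfsgLib.StructC.Conway.card_stab_min44]; norm_num)
  let e := Cfsg.Agent.S2070.co2Equiv
  haveI : Finite ↥Cfsg.Spor.Co2 := Finite.of_equiv _ e.toEquiv
  refine CfsgLib.KnownA.hasCyclicSchurMultiplier_one fun Γ _ _ σ hσ => ?_
  have hk : (e.symm.toMonoidHom.comp σ).ker = σ.ker :=
    MonoidHom.ker_comp_of_injective _ _ e.symm.injective
  obtain ⟨π, hπ⟩ := CfsgLib.StructC.Conway.multiplier_stab_min44.2 Γ (e.symm.toMonoidHom.comp σ)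
    ⟨e.symm.surjective.comp hσ.1, hk.trans_le hσ.2.1, hk.trans_le hσ.2.2⟩
  rw [← hk, Subgroup.eq_bot_iff_forall]
  intro x hx
  obtain ⟨a, ha⟩ := hπ ⟨x, hx⟩
  rw [Subsingleton.elim a 1, map_one] at ha
  exact (congrArg Subtype.val ha).symm

end Cfsg.Agent.S2044
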