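import Cfsg.Statements.S1691
import Mathlib.Tactic

set_option autoImplicit false
open Cfsg

namespace Cfsg.Agent.S1691

/-- The commutator subgroup of the presented group Fi₂₄ has index 2 (the presented group is Fi₂₄′:2 with Fi₂₄′ its derived subgroup). -/
theorem result : (commutator Cfsg.Spor.Fi24).index = 2 := by
  open Cfsg.Spor in
  classical
  let R : Set (FreeGroup Fi24.Gen) := coxRelators Fi24.edges ∪ {r | r ∈ Fi24.extra}
  let sgn : FreeGroup Fi24.Gen →* Multiplicative (ZMod 2) := FreeGroup.lift fun _ => Multiplicative.ofAdd 1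
  have hrel : ∀ r ∈ R, sgn r = 1 := by
    rintro r (⟨x, hx, y, hy, rfl⟩ | hr)
    · simp only [map_pow, map_mul, sgn, FreeGroup.lift_apply_of]
      rw [show (Multiplicative.ofAdd (1 : ZMod 2) * Multiplicative.ofAdd 1) = 1 from by decide, one_pow]
    · simp only [Fi24.extra, Set.mem_setOf_eq, List.mem_cons, List.not_mem_nil, or_false] at hr
      rcases hr with rfl | rfl <;>
        simp only [map_pow, map_mul, map_inv, sgn, FreeGroup.lift_apply_of] <;> decide
  let φ : Fi24 →* Multiplicative (ZMod 2) := PresentedGroup.toGroup (rels := R) (f := fun _ => Multiplicative.ofAdd 1) hrel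
  have hφ : Function.Surjective φ := by
    intro z
    have hz : z = 1 ∨ z = Multiplicative.ofAdd 1 := by revert z; decide
    rcases hz with rfl | rfl
    · exact ⟨1, map_one _⟩
    · exact ⟨PresentedGroup.of Fi24.Gen.d, PresentedGroup.toGroup.of hrel⟩
  let π : Fi24 →* Abelianization Fi24 := Abelianization.of
  let m : Fi24.Gen → Abelianization Fi24 := fun x => π (PresentedGroup.of x)
  have hcox : ∀ x ∈ coxNodes Fi24.edges, ∀ y ∈ coxNodes Fi24.edges, (m x * m y) ^ coxLabel Fi24.edges x y = 1 := by
    intro x hx y hy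
    have h : PresentedGroup.mk R ((FreeGroup.of x * FreeGroup.of y) ^ coxLabel Fi24.edges x y) = 1 :=
      PresentedGroup.one_of_mem (Or.inl ⟨x, hx, y, hy, rfl⟩)
    have h' := congrArg π h
    rw [map_pow, map_mul, map_one] at h'
    simpa [m, PresentedGroup.of, map_mul, map_pow] using h'
  have hnode : ∀ x : Fi24.Gen, x ∈ coxNodes Fi24.edges := by intro x; cases x <;> decide
  have hsq : ∀ x, m x * m x = 1 := fun x => by
    simpa [coxLabel] using hcox x (hnode x) x (hnode x)
  have hedge : ∀ x y, coxLabel Fi24.edges x y = 3 → m x = m y := by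
    intro x y h
    have h1 := hcox x (hnode x) y (hnode y)
    rw [h, pow_succ, pow_two, mul_mul_mul_comm (m x) (m y) (m x) (m y), hsq x, hsq y, one_mul, one_mul] at h1
    exact (mul_eq_one_iff_eq_inv.1 h1).trans (inv_eq_of_mul_eq_one_right (hsq y))
  have hall : ∀ x, m x = m .d := by
    have e1 := hedge .l .k (by decide)
    have e2 := hedge .k .a (by decide)
    have e3 := hedge .a .b (by decide)
    have e4 := hedge .b .c (by decide)
    have e5 := hedge .c .d (by decide)
    have e6 := hedge .e .d (by decide)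
    have e7 := hedge .f .e (by decide)
    have e8 := hedge .g .f (by decide)
    have e9 := hedge .j .g (by decide)
    have e10 := hedge .h .d (by decide)
    have e11 := hedge .i .h (by decide)
    intro x
    cases x <;> simp only [e1, e2, e3, e4, e5, e6, e7, e8, e9, e10, e11]
  have hle : (Subgroup.zpowers (m .d)) = ⊤ := by
    have h1 : ⊤ ≤ (Subgroup.zpowers (m .d)).comap π := by
      rw [← PresentedGroup.closure_range_of R]
      exact (Subgroup.closure_le _).2 (by rintro _ ⟨x, rfl⟩; exact (hall x) ▸ Subgroup.mem_zpowers _)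
    refine top_le_iff.1 fun a _ => ?_
    obtain ⟨g, rfl⟩ := QuotientGroup.mk_surjective a
    exact h1 (Subgroup.mem_top g)
  haveI : Finite (Abelianization Fi24) := by
    have h2 : ∀ a : Abelianization Fi24, a = 1 ∨ a = m .d := by
      intro a
      obtain ⟨i, rfl⟩ := Subgroup.mem_zpowers_iff.1 (hle ▸ Subgroup.mem_top a)
      obtain ⟨j, rfl | rfl⟩ := Int.even_or_odd' i
      · left; rw [zpow_mul, zpow_two, hsq, one_zpow]
      · right; rw [zpow_add, zpow_mul, zpow_two, hsq, one_zpow, one_mul, zpow_one]
    exact Finite.of_surjective (fun b : Bool => if b then m .d else 1) (fun a => (h2 a).elim (fun h => ⟨false, h.symm⟩) (fun h => ⟨true, h.symm⟩))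
  have hcard : Nat.card (Abelianization Fi24) ≤ 2 := by
    have hd : orderOf (m .d) ∣ 2 := orderOf_dvd_of_pow_eq_one (by rw [pow_two, hsq])
    rw [← Nat.card_congr (Equiv.subtypeUnivEquiv (fun x => hle ▸ Subgroup.mem_top x) : Subgroup.zpowers (m .d) ≃ _), Nat.card_zpowers]
    exact Nat.le_of_dvd two_pos hd
  refine le_antisymm hcard ?_
  haveI : Finite (Fi24 ⧸ commutator Fi24) := inferInstanceAs (Finite (Abelianization Fi24))
  have h := Nat.card_le_card_of_surjective (QuotientGroup.lift (commutator Fi24) φ (Abelianization.commutator_subset_ker φ))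
    (fun z => by obtain ⟨g, rfl⟩ := hφ z; exact ⟨QuotientGroup.mk g, rfl⟩)
  rw [Subgroup.index]
  simpa using h

end Cfsg.Agent.S1691
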