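import Cfsg.Statements.S4203
import Cfsg.Agent.Lib.Solvable.MinNormal
import Cfsg.Agent.Lib.Char.Burnside

set_option autoImplicit false
open Cfsg
open scoped Pointwise

namespace Cfsg.Agent.S4203

theorem isSolvable_perm_four : Group.IsSolvable (Equiv.Perm (Fin 4)) :=
  CfsgLib.Char.burnside_pq 2 3 Nat.prime_two Nat.prime_three 3 1 _
    (by rw [Nat.card_perm, Nat.card_fin]; rfl)

theorem index_mod_eq_one {G : Type*} [Group G] [Finite G] {p : ℕ} [Fact p.Prime] (P : Sylow p G)
    {M : Subgroup G} (hM : Subgroup.normalizer ((P : Subgroup G) : Set G) ≤ M) :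
    M.index ≡ 1 [MOD p] := by
  have hPM : (P : Subgroup G) ≤ M := Subgroup.le_normalizer.trans hM
  have h1 : (Subgroup.normalizer ((P : Subgroup G) : Set G)).index ≡ 1 [MOD p] := by
    have := card_sylow_modEq_one p G
    rw [Sylow.card_eq_index_normalizer P] at this
    exact this
  have h2 : (Subgroup.normalizer ((P : Subgroup G) : Set G)).relIndex M ≡ 1 [MOD p] := by
    have := card_sylow_modEq_one p M
    rw [Sylow.card_eq_index_normalizer (P.subtype hPM)] at this
    change (Subgroup.normalizer (((P.subtype hPM : Sylow p M) : Subgroup M) : Set M)).index ≡ 1 [MOD p] at this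
    rw [Sylow.coe_subtype, ← Subgroup.subgroupOf_normalizer_eq hPM] at this
    exact this
  rw [← Subgroup.relIndex_mul_index hM] at h1
  calc M.index = 1 * M.index := (one_mul _).symm
    _ ≡ _ * M.index [MOD p] := (h2.symm).mul_right _
    _ ≡ 1 [MOD p] := h1

theorem solvable_of_index_sq.{u} (n : ℕ) (G : Type u) [Group G] [Finite G] (hn : Nat.card G = n)
    (h : ∀ M : Subgroup G, IsCoatom M → ∃ p : ℕ, p.Prime ∧ (M.index = p ∨ M.index = p ^ 2)) :
    Group.IsSolvable G := by
  induction n using Nat.strong_induction_on generalizing G with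
  | _ n ih =>
  rcases subsingleton_or_nontrivial G with hs | hnt
  · infer_instance
  obtain ⟨N, hN, hNne, hNmin⟩ := CfsgLib.Solvable.exists_minimal_normal (G := G)
  have hQ : Group.IsSolvable (G ⧸ N) := by
    have hlt : Nat.card (G ⧸ N) < n := by
      rw [← hn, N.card_eq_card_quotient_mul_card_subgroup]
      exact (Nat.lt_mul_iff_one_lt_right Nat.card_pos).mpr (N.one_lt_card_iff_ne_bot.mpr hNne)
    refine ih _ hlt (G ⧸ N) rfl fun M hM => ?_
    set π := QuotientGroup.mk' N
    have hs := QuotientGroup.mk'_surjective N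
    have hco : IsCoatom (M.comap π) := by
      refine ⟨fun he => hM.1 (Subgroup.comap_injective hs (he.trans (Subgroup.comap_top π).symm)), fun L hL => ?_⟩
      have hker : π.ker ≤ L := (Subgroup.comap_mono bot_le).trans hL.le
      rw [← Subgroup.comap_map_eq_self hker] at hL ⊢
      rw [hM.2 _ ((Subgroup.comap_lt_comap_of_surjective hs).mp hL), Subgroup.comap_top]
    obtain ⟨p, hp, hpi⟩ := h _ hco
    rw [Subgroup.index_comap_of_surjective _ hs] at hpi
    exact ⟨p, hp, hpi⟩
  suffices hNs : Group.IsSolvable N by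
    exact solvable_of_ker_le_range N.subtype (QuotientGroup.mk' N)
      (by rw [QuotientGroup.ker_mk', Subgroup.range_subtype])
  by_contra hns
  -- the largest prime divisor of `|N|`
  obtain ⟨p, hpmem, hpmax⟩ := Finset.exists_max_image (Nat.card N).primeFactors id
    (Nat.nonempty_primeFactors.mpr (N.one_lt_card_iff_ne_bot.mpr hNne))
  have hp : p.Prime := Nat.prime_of_mem_primeFactors hpmem
  have : Fact p.Prime := ⟨hp⟩
  let S : Sylow p N := default
  have hSne : (S : Subgroup N) ≠ ⊥ := S.ne_bot_of_dvd_card (Nat.dvd_of_mem_primeFactors hpmem)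
  have hNlen : ¬ Subgroup.normalizer (((S : Subgroup N).map N.subtype : Subgroup G) : Set G) = ⊤ := by
    intro htop
    have hn := Subgroup.normalizer_eq_top_iff.mp htop
    rcases hNmin _ hn (Subgroup.map_subtype_le _) with h0 | h0
    · exact hSne ((Subgroup.map_eq_bot_iff_of_injective _ N.subtype_injective).mp h0)
    · have hpN : IsPGroup p N := h0 ▸ S.isPGroup'.map N.subtype
      have := hpN.isNilpotent
      exact hns inferInstance
  obtain ⟨M, hM, hle⟩ := (eq_top_or_exists_le_coatom _).resolve_left hNlen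
  have hsup : M ⊔ N = ⊤ := top_le_iff.mp ((Sylow.normalizer_sup_eq_top S).ge.trans (sup_le_sup_right hle _))
  have hMN : Subgroup.normalizer ((S : Subgroup N) : Set N) ≤ M.subgroupOf N := by
    intro x hx
    refine hle ?_
    rw [Subgroup.mem_normalizer_iff] at hx ⊢
    intro y
    constructor
    · rintro ⟨z, hz, rfl⟩
      exact ⟨x * z * x⁻¹, (hx z).mp hz, rfl⟩
    · rintro ⟨z, hz, he⟩
      refine ⟨x⁻¹ * z * x, (hx _).mpr (by simp only [mul_assoc, mul_inv_cancel, mul_one, mul_inv_cancel_left]; exact hz), ?_⟩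
      rw [map_mul, map_mul, he]; simp [mul_assoc]
  have hidx : (M.subgroupOf N).index = M.index := by
    have e1 : (M ⊓ N).relIndex M * M.index = (M ⊓ N).index := Subgroup.relIndex_mul_index inf_le_left
    have e2 : (M ⊓ N).relIndex N * N.index = (M ⊓ N).index := Subgroup.relIndex_mul_index inf_le_right
    rw [Subgroup.inf_relIndex_left, ← Subgroup.relIndex_sup_right M N, hsup, Subgroup.relIndex_top_right] at e1
    rw [Subgroup.inf_relIndex_right] at e2
    show M.relIndex N = M.index
    apply Nat.eq_of_mul_eq_mul_right (Nat.pos_of_ne_zero (Subgroup.index_ne_zero_of_finite (H := N)))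
    rw [e2, ← e1, mul_comm]
  have hmod : M.index % p = 1 := by
    have h1 := index_mod_eq_one S hMN
    rw [hidx] at h1
    exact Eq.trans (show M.index % p = 1 % p from h1) (Nat.mod_eq_of_lt hp.one_lt)
  obtain ⟨q, hq, hqi⟩ := h M hM
  have hqN : q ∣ Nat.card N := by
    refine dvd_trans ?_ (Subgroup.index_dvd_card (M.subgroupOf N))
    rw [hidx]; rcases hqi with e | e <;> rw [e]
    exact dvd_pow_self q two_ne_zero
  have hle' : q ≤ p := hpmax q (Nat.mem_primeFactors.mpr ⟨hq, hqN, Nat.card_pos.ne'⟩)
  have hlt : q < p := lt_of_le_of_ne hle' (by rintro rfl; rcases hqi with e | e <;> simp [e, Nat.pow_mod] at hmod)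
  have hfour : M.index = 4 := by
    rcases hqi with e | e
    · rw [e, Nat.mod_eq_of_lt hlt] at hmod
      exact absurd hmod hq.ne_one
    · rw [e] at hmod ⊢
      have h2 := hq.two_le
      have hd : p ∣ (q - 1) * (q + 1) := by
        have h3 : (q - 1) * (q + 1) = q ^ 2 - 1 := by
          obtain ⟨r, rfl⟩ : ∃ r, q = r + 1 := ⟨q - 1, by omega⟩
          rw [show (r + 1) ^ 2 = r * (r + 1 + 1) + 1 by ring]; simp
        rw [h3]
        exact Nat.dvd_of_mod_eq_zero (Nat.sub_mod_eq_zero_of_mod_eq (by rw [hmod, Nat.mod_eq_of_lt hp.one_lt]))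
      rcases (Nat.Prime.dvd_mul hp).mp hd with hd | hd
      · have := Nat.le_of_dvd (by omega) hd; omega
      · have := Nat.le_of_dvd (by omega) hd
        have hpq : p = q + 1 := by omega
        rcases hq.eq_two_or_odd with h4 | h4
        · subst h4; rfl
        · rcases hp.eq_two_or_odd with h5 | h5 <;> omega
  -- action of `N` on four points
  have e : N ⧸ M.subgroupOf N ≃ Fin 4 := Finite.equivFinOfCardEq (hidx.trans hfour)
  let f : N →* Equiv.Perm (Fin 4) :=
    e.permCongrHom.toMonoidHom.comp (MulAction.toPermHom N (N ⧸ M.subgroupOf N))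
  have hfne : f.ker ≠ ⊤ := by
    intro hk
    have h1 : ∀ x : N, MulAction.toPermHom N (N ⧸ M.subgroupOf N) x = 1 := fun x => by
      have : f x = 1 := MonoidHom.mem_ker.mp (hk ▸ Subgroup.mem_top x)
      exact e.permCongrHom.injective (this.trans (map_one _).symm)
    have : M.subgroupOf N = ⊤ := top_le_iff.mp fun x _ => by
      have := Equiv.congr_fun (h1 x) (QuotientGroup.mk (1 : N))
      rw [MulAction.toPermHom_apply, MulAction.toPerm_apply, MulAction.Quotient.smul_coe, Equiv.Perm.one_apply,
        smul_eq_mul, mul_one] at this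
      simpa using QuotientGroup.eq.mp this
    rw [this, Subgroup.index_top, hfour] at hidx
    omega
  have hsolQ : Group.IsSolvable f.range := by
    have := isSolvable_perm_four
    infer_instance
  have hcom : commutator N ≠ ⊤ := by
    intro hc
    have : Nontrivial f.range := by
      rw [← not_subsingleton_iff_nontrivial]
      intro hs
      refine hfne (top_le_iff.mp fun x _ => MonoidHom.mem_ker.mpr ?_)
      exact congrArg Subtype.val (hs.elim (⟨f x, x, rfl⟩ : f.range) 1)
    refine (Group.IsSolvable.commutator_lt_top_of_nontrivial f.range).ne ?_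
    have h' := Subgroup.map_commutator (⊤ : Subgroup N) ⊤ f.rangeRestrict
    rw [Subgroup.map_top_of_surjective _ f.rangeRestrict_surjective] at h'
    exact (h'.symm).trans (by rw [show ⁅(⊤ : Subgroup N), ⊤⁆ = ⊤ from hc, Subgroup.map_top_of_surjective _ f.rangeRestrict_surjective])
  rcases hNmin ((commutator N).map N.subtype) inferInstance (Subgroup.map_subtype_le _) with h0 | h0
  · rw [Subgroup.map_eq_bot_iff_of_injective _ N.subtype_injective] at h0
    exact hns ⟨1, by simpa using h0⟩
  · exact hcom (Subgroup.map_injective N.subtype_injective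
      (h0.trans (by rw [← MonoidHom.range_eq_map, Subgroup.range_subtype])))

/-- A finite group in which every maximal subgroup has index a prime or the square of a prime is solvable. -/
theorem result {G : Type*} [Group G] [Finite G] (h : ∀ M : Subgroup G, IsCoatom M → ∃ p : ℕ, p.Prime ∧ (M.index = p ∨ M.index = p ^ 2)) : Group.IsSolvable G := by
  obtain ⟨n, hn⟩ : ∃ n, Nat.card G = n := ⟨_, rfl⟩
  exact solvable_of_index_sq n G hn h

end Cfsg.Agent.S4203
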