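import Cfsg.Statements.S2838
import Cfsg.Agent.Lib.Amalgam.WeaklyClosed

set_option autoImplicit false
open Cfsg

namespace Cfsg.Agent.S2838

/-- For a nontrivial p-subgroup Q of a finite group H the following are equivalent: Q is a weakly closed subgroup (it is the only H-conjugate of itself inside some Sylow p-subgroup containing it); Q = P for every conjugate P of Q with [Q, P] ≤ Q ∩ P; Q is normal in N_H(R) for every p-subgroup R of H containing Q. -/
theorem result {H : Type*} [Group H] [Finite H] {p : ℕ} [Fact p.Prime] (Q : Subgroup H) (hQp : IsPGroup p ↥Q) (hQ1 : Q ≠ ⊥) : (Cfsg.IsWeaklyClosedSubgroup p Q ↔ ∀ g : H, ⁅Q, ((Q : Subgroup H).map (MulAut.conj (g : H)).toMonoidHom)⁆ ≤ Q ⊓ ((Q : Subgroup H).map (MulAut.conj (g : H)).toMonoidHom) → ((Q : Subgroup H).map (MulAut.conj (g : H)).toMonoidHom) = Q) ∧ (Cfsg.IsWeaklyClosedSubgroup p Q ↔ ∀ R : Subgroup H, IsPGroup p ↥R → Q ≤ R → Subgroup.normalizer ((R : Subgroup H) : Set H) ≤ Subgroup.normalizer ((Q : Subgroup H) : Set H)) := by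
  have hc : (∀ R : Subgroup H, IsPGroup p ↥R → Q ≤ R → Subgroup.normalizer (R : Set H) ≤ Subgroup.normalizer (Q : Set H)) →
      Cfsg.IsWeaklyClosedSubgroup p Q := by
    intro h
    obtain ⟨T, hQT⟩ := hQp.exists_le_sylow
    refine CfsgLib.Amalgam.weaklyClosed_of_normalizer T hQT (h _ T.isPGroup' hQT) fun g hg => ?_
    have h1 : Q ≤ (T : Subgroup H).map (MulAut.conj g⁻¹).toMonoidHom := by
      have := Subgroup.map_mono (f := (MulAut.conj g⁻¹).toMonoidHom) hg
      rwa [CfsgLib.Amalgam.map_conj_inv_cancel] at this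
    have h2 := Subgroup.map_mono (f := (MulAut.conj g).toMonoidHom)
      (Subgroup.le_normalizer.trans (h _ (T.isPGroup'.map _) h1))
    rw [CfsgLib.Coprime.map_conj_conj, mul_inv_cancel, CfsgLib.Amalgam.map_conj_one'] at h2
    exact h2.trans (Subgroup.le_normalizer_map _)
  constructor
  · refine ⟨fun h g hg => CfsgLib.Amalgam.eq_conj_of_le_normalizer h hQp ?_, fun h => hc fun R hR hQR n hn => ?_⟩
    · exact Subgroup.le_normalizer_iff_commutator_le_left.2 (hg.trans inf_le_left)
    · -- every conjugate inside `R` is normalized by `R`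
      have key : ∀ g : H, Q.map (MulAut.conj g).toMonoidHom ≤ R →
          R ≤ Subgroup.normalizer ((Q.map (MulAut.conj g).toMonoidHom : Subgroup H) : Set H) := by
        intro g hg
        set P := Q.map (MulAut.conj g).toMonoidHom with hPdef
        set K := R ⊓ Subgroup.normalizer (P : Set H)
        by_contra hne
        obtain ⟨z, hzR, hzN, hzK⟩ := CfsgLib.Transfer.exists_mem_normalizer_not_mem hR
          (lt_of_le_not_ge (inf_le_left : K ≤ R) fun hle => hne (hle.trans inf_le_right))
        have hPK : P ≤ K := le_inf hg Subgroup.le_normalizer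
        have h1 : P.map (MulAut.conj z).toMonoidHom ≤ Subgroup.normalizer (P : Set H) :=
          (Subgroup.map_mono hPK).trans ((CfsgLib.Coprime.map_conj_of_mem_normalizer hzN).le.trans inf_le_right)
        have h2 : P ≤ Subgroup.normalizer ((P.map (MulAut.conj z).toMonoidHom : Subgroup H) : Set H) :=
          hPK.trans ((CfsgLib.Coprime.map_conj_of_mem_normalizer hzN).ge.trans
            ((Subgroup.map_mono (inf_le_right : K ≤ Subgroup.normalizer (P : Set H))).trans (Subgroup.le_normalizer_map _)))
        refine hzK (Subgroup.mem_inf.2 ⟨hzR, CfsgLib.PLocal.mem_normalizer_map_conj.2 ?_⟩)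
        -- pull back to `Q`
        set Q' := Q.map (MulAut.conj (g⁻¹ * (z * g))).toMonoidHom with hQ'
        have hQ'' : Q'.map (MulAut.conj g).toMonoidHom = P.map (MulAut.conj z).toMonoidHom := by
          rw [hQ', hPdef, CfsgLib.Coprime.map_conj_conj, CfsgLib.Coprime.map_conj_conj, mul_inv_cancel_left]
        have a1 : Q' ≤ Subgroup.normalizer (Q : Set H) := by
          rw [← hQ'', hPdef, ← Subgroup.map_normalizer_eq_of_bijective _ (MulAut.conj g).bijective] at h1
          exact (Subgroup.map_le_map_iff_of_injective (MulAut.conj g).injective).1 h1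
        have a2 : Q ≤ Subgroup.normalizer (Q' : Set H) := by
          rw [← hQ'', hPdef, ← Subgroup.map_normalizer_eq_of_bijective _ (MulAut.conj g).bijective] at h2
          exact (Subgroup.map_le_map_iff_of_injective (MulAut.conj g).injective).1 h2
        have := h _ (le_inf (Subgroup.le_normalizer_iff_commutator_le_left.1 a1)
          (Subgroup.le_normalizer_iff_commutator_le_right.1 a2))
        rw [← hQ'', show Q' = Q from this]
      apply CfsgLib.PLocal.mem_normalizer_map_conj.2
      have hn' : Q.map (MulAut.conj n).toMonoidHom ≤ R :=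
        (Subgroup.map_mono hQR).trans (CfsgLib.Coprime.map_conj_of_mem_normalizer hn).le
      have hQ1' : R ≤ Subgroup.normalizer (Q : Set H) := by
        have := key 1 (by rw [CfsgLib.Amalgam.map_conj_one']; exact hQR)
        rwa [CfsgLib.Amalgam.map_conj_one'] at this
      exact h n (le_inf (Subgroup.le_normalizer_iff_commutator_le_left.1 (hn'.trans hQ1'))
        (Subgroup.le_normalizer_iff_commutator_le_right.1 (hQR.trans (key n hn'))))
  · exact ⟨fun h R hR hQR => CfsgLib.Amalgam.normalizer_le_of_weaklyClosed h hR hQR, hc⟩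

end Cfsg.Agent.S2838
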