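import Cfsg.Statements.S2839
import Cfsg.Agent.Lib.Amalgam.WeaklyClosed
import Cfsg.Agent.Lib.Transfer.Basic

set_option autoImplicit false
open Cfsg

namespace Cfsg.Agent.S2839

/-- Let Q be a nontrivial p-subgroup of the finite group H that is a weakly closed subgroup, K a subgroup containing Q and N a normal subgroup of H. Then Q is a weakly closed subgroup of K; every H-conjugate of Q contained in K is a K-conjugate of Q; N_K(Q) contains a Sylow p-subgroup of K; N = N_N(Q)·O^p(N); and QN/N is a weakly closed subgroup of H/N. -/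
theorem result {H : Type*} [Group H] [Finite H] {p : ℕ} [Fact p.Prime] (Q : Subgroup H) (hQp : IsPGroup p ↥Q) (hQ1 : Q ≠ ⊥) (hwc : Cfsg.IsWeaklyClosedSubgroup p Q) (K : Subgroup H) (hQK : Q ≤ K) (N' : Subgroup H) [N'.Normal] : Cfsg.IsWeaklyClosedSubgroup p (Q.subgroupOf K) ∧ (∀ g : H, ((Q : Subgroup H).map (MulAut.conj (g : H)).toMonoidHom) ≤ K → ∃ k ∈ K, ((Q : Subgroup H).map (MulAut.conj (g : H)).toMonoidHom) = ((Q : Subgroup H).map (MulAut.conj (k : H)).toMonoidHom)) ∧ Cfsg.IsParabolic p ((Subgroup.normalizer ((Q : Subgroup H) : Set H)).subgroupOf K) ∧ (N' ⊓ Subgroup.normalizer ((Q : Subgroup H) : Set H)) ⊔ (Cfsg.pResidual p ↥N').map N'.subtype = N' ∧ Cfsg.IsWeaklyClosedSubgroup p (Q.map (QuotientGroup.mk' N')) := by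
  refine ⟨?_, fun g hg => CfsgLib.Amalgam.exists_conj_eq_of_le hwc hQp hQK hg, ?_, ?_, ?_⟩
  · obtain ⟨S, hS⟩ := (hQp.of_equiv (Subgroup.subgroupOfEquivOfLe hQK).symm).exists_le_sylow
    refine ⟨S, hS, fun k hk => ?_⟩
    have hQS : Q ≤ (S : Subgroup K).map K.subtype := fun q hq => ⟨⟨q, hQK hq⟩, hS hq, rfl⟩
    have e : ((Q.subgroupOf K).map (MulAut.conj k).toMonoidHom).map K.subtype =
        Q.map (MulAut.conj (k : H)).toMonoidHom := by
      rw [CfsgLib.Coprime.map_conj_map K.subtype k, Subgroup.subgroupOf_map_subtype, inf_eq_left.2 hQK]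
      rfl
    have h1 := CfsgLib.Amalgam.eq_conj_of_le_of_isPGroup hwc (S.isPGroup'.map _) hQS (g := (k : H))
      (e.ge.trans (Subgroup.map_mono hk))
    refine Subgroup.map_injective K.subtype_injective ?_
    rw [e, h1, Subgroup.subgroupOf_map_subtype, inf_eq_left.2 hQK]
  · obtain ⟨S, hS, hQS⟩ := CfsgLib.Amalgam.exists_isSylIn_ge hQp hQK
    let S' : Sylow p K := Sylow.ofCard (S.subgroupOf K)
      (by rw [Nat.card_congr (Subgroup.subgroupOfEquivOfLe hS.1).toEquiv, hS.2.2])
    exact ⟨S', Subgroup.comap_mono (Subgroup.le_normalizer.trans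
      (CfsgLib.Amalgam.normalizer_le_of_weaklyClosed hwc hS.2.1 hQS))⟩
  · obtain ⟨T, hQT⟩ := hQp.exists_le_sylow
    have hTN : (T : Subgroup H) ≤ Subgroup.normalizer (Q : Set H) :=
      Subgroup.le_normalizer.trans (CfsgLib.Amalgam.normalizer_le_of_weaklyClosed hwc T.isPGroup' hQT)
    obtain ⟨S, hS⟩ := CfsgLib.Transfer.exists_sylow_eq_subgroupOf T N'
    refine le_antisymm (sup_le inf_le_left (Subgroup.map_subtype_le _)) ?_
    conv_lhs => rw [← Subgroup.range_subtype N', MonoidHom.range_eq_map, ← CfsgLib.Transfer.pResidual_sup_sylow S,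
      Subgroup.map_sup, hS, sup_comm]
    refine sup_le_sup_right ?_ _
    rw [Subgroup.subgroupOf_map_subtype]
    exact le_inf inf_le_right (inf_le_left.trans hTN)
  · obtain ⟨T, hQT⟩ := hQp.exists_le_sylow
    have hTN : (T : Subgroup H) ≤ Subgroup.normalizer (Q : Set H) :=
      Subgroup.le_normalizer.trans (CfsgLib.Amalgam.normalizer_le_of_weaklyClosed hwc T.isPGroup' hQT)
    set f := QuotientGroup.mk' N'
    have hf := QuotientGroup.mk'_surjective N'
    refine ⟨T.mapSurjective hf, Subgroup.map_mono hQT, fun y hy => ?_⟩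
    obtain ⟨g, rfl⟩ := hf y
    rw [← CfsgLib.Coprime.map_conj_map f g Q] at hy ⊢
    have h1 : Q.map (MulAut.conj g).toMonoidHom ≤ (T : Subgroup H) ⊔ N' := by
      have := (Subgroup.le_comap_map f _).trans (Subgroup.comap_mono hy)
      rwa [show ((T.mapSurjective hf : Sylow p (H ⧸ N')) : Subgroup (H ⧸ N')) = (T : Subgroup H).map f from rfl,
        Subgroup.comap_map_eq, QuotientGroup.ker_mk'] at this
    obtain ⟨k, hk, hke⟩ := CfsgLib.Amalgam.exists_conj_eq_of_le hwc hQp (hQT.trans le_sup_left) h1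
    rw [sup_comm] at hk
    obtain ⟨n, hn, t, ht, rfl⟩ := Subgroup.mem_sup_of_normal_left.1 hk
    rw [hke, ← CfsgLib.Coprime.map_conj_conj, CfsgLib.Coprime.map_conj_of_mem_normalizer (hTN ht),
      CfsgLib.Coprime.map_conj_map f n Q, show f n = 1 from (QuotientGroup.eq_one_iff n).2 hn,
      CfsgLib.Amalgam.map_conj_one']

end Cfsg.Agent.S2839
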