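import Cfsg.Statements.S2842
import Cfsg.Agent.Lib.Amalgam.WeaklyClosed

set_option autoImplicit false
open Cfsg

namespace Cfsg.Agent.S2842

open scoped commutatorElement
/-- Let Q be a nontrivial p-subgroup of the finite group H that is a weakly closed subgroup with C_H(Q) ≤ Q, and Q ≤ L ≤ H. Suppose H has characteristic p, or more generally that C_H(y) has characteristic p for some nonidentity y ∈ C_{O_p(L)}(Q). Then [Q, C_H(O_p(L))] ≤ Q ∩ O_p(L), C_H(O_p(L)) is a p-group, and L has characteristic p. -/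
theorem result {H : Type*} [Group H] [Finite H] {p : ℕ} [Fact p.Prime] (Q : Subgroup H) (hQp : IsPGroup p ↥Q) (hQ1 : Q ≠ ⊥) (hwc : Cfsg.IsWeaklyClosedSubgroup p Q) (hCQ : Subgroup.centralizer ((Q : Subgroup H) : Set H) ≤ Q) (L : Subgroup H) (hQL : Q ≤ L) (hyp : Subgroup.centralizer (Cfsg.pCore p H : Set H) ≤ Cfsg.pCore p H ∨ ∃ y : H, y ≠ 1 ∧ y ∈ (Cfsg.pCoreOf p L) ⊓ Subgroup.centralizer ((Q : Subgroup H) : Set H) ∧ Subgroup.centralizer (Cfsg.pCore p ↥(Subgroup.centralizer ({y} : Set H)) : Set ↥(Subgroup.centralizer ({y} : Set H))) ≤ Cfsg.pCore p ↥(Subgroup.centralizer ({y} : Set H))) : ⁅Q, Subgroup.centralizer (((Cfsg.pCoreOf p L) : Subgroup H) : Set H)⁆ ≤ Q ⊓ (Cfsg.pCoreOf p L) ∧ IsPGroup p ↥(Subgroup.centralizer (((Cfsg.pCoreOf p L) : Subgroup H) : Set H)) ∧ Subgroup.centralizer (Cfsg.pCore p ↥L : Set ↥L) ≤ Cfsg.pCore p ↥L := by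
  set O := Cfsg.pCoreOf p L
  set C := Subgroup.centralizer (O : Set H)
  have hOp : IsPGroup p O := CfsgLib.Amalgam.isPGroup_pCoreOf L
  have hLO := CfsgLib.Amalgam.le_normalizer_pCoreOf (p := p) L
  have hLC : L ≤ Subgroup.normalizer (C : Set H) :=
    hLO.trans (CfsgLib.Comp.normalizer_le_normalizer_centralizer O)
  -- `C` has characteristic `p`
  have hC : CfsgLib.Amalgam.CharPElements p C := by
    rcases hyp with h | ⟨y, hy1, hy, h⟩
    · have := CfsgLib.Amalgam.charPElements_inf_centralizer (CfsgLib.Amalgam.charPElements_top h) hOp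
        (by rw [Subgroup.normalizer_eq_top]; exact le_top)
      rwa [top_inf_eq] at this
    · have hstep : ∀ U : Subgroup H, U ≤ O → CfsgLib.Amalgam.CharPElements p (Subgroup.centralizer (U : Set H)) →
          CfsgLib.Amalgam.CharPElements p C := by
        intro U
        induction U using WellFoundedGT.induction with
        | ind U ih =>
          intro hUO hU
          rcases hUO.lt_or_eq with hlt | rfl
          · obtain ⟨z, hzO, hzN, hzU⟩ := CfsgLib.Transfer.exists_mem_normalizer_not_mem hOp hlt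
            set U' := O ⊓ Subgroup.normalizer (U : Set H)
            have hUU' : U < U' := lt_of_le_not_ge (le_inf hUO Subgroup.le_normalizer)
              fun hle => hzU (hle (Subgroup.mem_inf.2 ⟨hzO, hzN⟩))
            refine ih U' hUU' inf_le_left ?_
            have h1 := CfsgLib.Amalgam.charPElements_inf_centralizer hU (hOp.to_le (inf_le_left (b := Subgroup.normalizer (U : Set H))))
              (inf_le_right.trans (CfsgLib.Comp.normalizer_le_normalizer_centralizer U))
            rwa [inf_eq_right.2 (Subgroup.centralizer_le hUU'.le)] at h1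
          · exact hU
      refine hstep (Subgroup.zpowers y) (Subgroup.zpowers_le.2 (Subgroup.mem_inf.1 hy).1) ?_
      rw [Subgroup.zpowers_eq_closure, Subgroup.centralizer_closure]
      exact CfsgLib.Amalgam.charPElements_iff.2 h
  set R := Cfsg.pCoreOf p C
  have hRp : IsPGroup p R := CfsgLib.Amalgam.isPGroup_pCoreOf C
  have hLR : L ≤ Subgroup.normalizer (R : Set H) := fun l hl => by
    apply CfsgLib.Comp.map_conj_eq_iff.1
    rw [← CfsgLib.Amalgam.pCoreOf_map _ (MulAut.conj l).injective, CfsgLib.Comp.map_conj_eq_iff.2 (hLC hl)]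
  have hCR := CfsgLib.Amalgam.le_normalizer_pCoreOf (p := p) C
  have hQR : IsPGroup p (Q ⊔ R : Subgroup H) := hQp.to_sup_of_normal_right' hRp (hQL.trans hLR)
  have hRQ : R ≤ Subgroup.normalizer (Q : Set H) := le_sup_right.trans
    (Subgroup.le_normalizer.trans (CfsgLib.Amalgam.normalizer_le_of_weaklyClosed hwc hQR le_sup_left))
  set T0 := R ⊓ Q
  have hT0O : T0 ≤ O := by
    refine le_trans (le_inf inf_le_left (inf_le_right.trans hQL) : T0 ≤ R ⊓ L) (CfsgLib.Amalgam.le_pCoreOf inf_le_right ?_ (hRp.to_le inf_le_left))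
    exact (le_inf hLR Subgroup.le_normalizer).trans Subgroup.inf_normalizer_le_normalizer_inf
  have hT0c : ∀ c ∈ C, ∀ t ∈ T0, t * c = c * t := fun c hc t ht => hc t (hT0O ht)
  set D := ⁅Q, C⁆
  have hDC : D ≤ C := Subgroup.le_normalizer_iff_commutator_le_right.1 (hQL.trans hLC)
  -- `D` is trivial on `R / T0`
  have hker : ∀ d ∈ D, d ∈ Subgroup.normalizer (R : Set H) ∧ (∀ r ∈ R, d * r * d⁻¹ * r⁻¹ ∈ T0) := by
    let K : Subgroup H :=
      { carrier := {d | d ∈ Subgroup.normalizer (R : Set H) ∧ d ∈ Subgroup.normalizer (T0 : Set H) ∧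
          ∀ r ∈ R, d * r * d⁻¹ * r⁻¹ ∈ T0}
        one_mem' := ⟨one_mem _, one_mem _, fun r _ => by simp⟩
        mul_mem' := by
          rintro a b ⟨ha, ha1, ha2⟩ ⟨hb, hb1, hb2⟩
          refine ⟨mul_mem ha hb, mul_mem ha1 hb1, fun r hr => ?_⟩
          rw [show a * b * r * (a * b)⁻¹ * r⁻¹ = a * (b * r * b⁻¹ * r⁻¹) * a⁻¹ * (a * r * a⁻¹ * r⁻¹) by group]
          exact mul_mem ((Subgroup.mem_normalizer_iff.1 ha1 _).1 (hb2 r hr)) (ha2 r hr)
        inv_mem' := by
          rintro a ⟨ha, ha1, ha2⟩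
          refine ⟨inv_mem ha, inv_mem ha1, fun r hr => ?_⟩
          have h1 := inv_mem (ha2 _ ((Subgroup.mem_normalizer_iff.1 (inv_mem ha) r).1 hr))
          convert h1 using 1
          group }
    have hQK : ∀ q ∈ Q, q ∈ K := fun q hq => by
      refine ⟨hLR (hQL hq), ((le_inf (hQL.trans hLR) Subgroup.le_normalizer).trans
        Subgroup.inf_normalizer_le_normalizer_inf) hq, fun r hr => Subgroup.mem_inf.2 ⟨?_, ?_⟩⟩
      · exact mul_mem ((Subgroup.mem_normalizer_iff.1 (hLR (hQL hq)) r).1 hr) (inv_mem hr)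
      · rw [show q * r * q⁻¹ * r⁻¹ = q * (r * q⁻¹ * r⁻¹) by group]
        exact mul_mem hq ((Subgroup.mem_normalizer_iff.1 (hRQ hr) _).1 (inv_mem hq))
    have hDK : D ≤ K := by
      refine Subgroup.commutator_le.2 fun q hq c hc => ?_
      rw [commutatorElement_def, show q * c * q⁻¹ * c⁻¹ = q * (c * q⁻¹ * c⁻¹) by group]
      refine mul_mem (hQK q hq) ?_
      obtain ⟨h1, h2, h3⟩ := hQK q⁻¹ (inv_mem hq)
      have hc1 := hCR hc
      have hc2 : c ∈ Subgroup.normalizer (T0 : Set H) :=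
        Subgroup.centralizer_le_normalizer (T0 : Set H) fun t ht => hT0c c hc t ht
      refine ⟨mul_mem (mul_mem hc1 h1) (inv_mem hc1), mul_mem (mul_mem hc2 h2) (inv_mem hc2), fun r hr => ?_⟩
      have h4 := (Subgroup.mem_normalizer_iff.1 hc2 _).1 (h3 _ ((Subgroup.mem_normalizer_iff.1 (inv_mem hc1) r).1 hr))
      convert h4 using 1
      group
    exact fun d hd => ⟨(hDK hd).1, (hDK hd).2.2⟩
  have hDp : IsPGroup p D := CfsgLib.PLocal.isPGroup_of_forall_coprime fun x hx hxp =>
    hC x (hDC hx) hxp (CfsgLib.Amalgam.centralizes_of_stabilizes (N := T0) inf_le_left hRp hxp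
      (fun t ht => hT0c x (hDC hx) t ht) (hker x hx).2)
  have hDR : D ≤ R := CfsgLib.Amalgam.le_pCoreOf hDC (Subgroup.normalizer_commutator_ge_right _ _) hDp
  have hQD : IsPGroup p (Q ⊔ D : Subgroup H) := hQR.to_le (sup_le le_sup_left (hDR.trans le_sup_right))
  have hCQ' : C ≤ Subgroup.normalizer (Q : Set H) := by
    intro c hc
    refine CfsgLib.PLocal.mem_normalizer_map_conj.2
      (CfsgLib.Amalgam.eq_conj_of_le_of_isPGroup hwc hQD le_sup_left ?_)
    rintro _ ⟨q, hq, rfl⟩
    show c * q * c⁻¹ ∈ Q ⊔ D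
    rw [show c * q * c⁻¹ = ⁅q, c⁆⁻¹ * q by simp only [commutatorElement_def]; group]
    exact mul_mem (Subgroup.mem_sup_right (inv_mem (Subgroup.commutator_mem_commutator hq hc))) (Subgroup.mem_sup_left hq)
  have hDQ : D ≤ Q := Subgroup.le_normalizer_iff_commutator_le_left.1 hCQ'
  have h1 : D ≤ Q ⊓ O := le_inf hDQ ((le_inf hDR hDQ).trans hT0O)
  have h2 : IsPGroup p C := CfsgLib.PLocal.isPGroup_of_forall_coprime fun x hx hxp =>
    CfsgLib.Amalgam.eq_one_of_coprime_of_mem hQp hxp (hCQ (CfsgLib.Amalgam.centralizes_of_stabilizes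
      (N := Q ⊓ O) inf_le_left hQp hxp (fun t ht => hx t ht.2) fun q hq => by
        have := h1 (Subgroup.commutator_mem_commutator hq hx)
        have := inv_mem this
        rwa [commutatorElement_inv, commutatorElement_def] at this))
  exact ⟨h1, h2, CfsgLib.Amalgam.charPElements_iff.1 fun x _ hxp hxc =>
    CfsgLib.Amalgam.eq_one_of_coprime_of_mem h2 hxp hxc⟩

end Cfsg.Agent.S2842
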