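import Cfsg.Statements.S1496
import Mathlib

set_option autoImplicit false
open Cfsg

namespace Cfsg.Agent.S1496

/-- Let H be a subgroup of the finite group G and g an element normalising H whose order is coprime to the order of H. Then for every h ∈ H there are x ∈ H and c ∈ H commuting with g such that x * (h * g) * x⁻¹ = c * g. -/
theorem result {G : Type*} [Group G] [Finite G] (H : Subgroup G) (g : G) (hg : g ∈ Subgroup.normalizer (H : Set G)) (hcop : Nat.Coprime (orderOf g) (Nat.card H)) (h : G) (hh : h ∈ H) : ∃ x ∈ H, ∃ c ∈ H, c * g = g * c ∧ x * (h * g) * x⁻¹ = c * g := by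
  classical
  set k := orderOf g
  obtain ⟨m, hm1, hm0⟩ := Nat.chineseRemainder hcop 1 0
  let C : Subgroup G := H ⊓ Subgroup.centralizer ({g} : Set G)
  let C0 : Subgroup H := C.subgroupOf H
  have hC : ∀ c : G, c ∈ C ↔ c ∈ H ∧ c * g = g * c := fun c => by
    simp [C, Subgroup.mem_centralizer_singleton_iff]
  have hpart : ∀ c ∈ C, (c * g) ^ m = g := by
    intro c hc
    rw [Commute.mul_pow ((hC c).mp hc).2]
    have h1 : c ^ m = 1 := orderOf_dvd_iff_pow_eq_one.mp
      ((Subgroup.orderOf_dvd_natCard H ((hC c).mp hc).1).trans (Nat.modEq_zero_iff_dvd.mp hm0))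
    rw [h1, one_mul, ← pow_mod_orderOf, hm1, pow_mod_orderOf, pow_one]
  let f : (H ⧸ C0) × C0 → H := fun qc => ⟨(qc.1.out : G) * ((qc.2 : H) * g) * (qc.1.out : G)⁻¹ * g⁻¹, by
    have h2 := (hg ((qc.1.out : G)⁻¹)).mp (H.inv_mem qc.1.out.2)
    have := H.mul_mem (H.mul_mem qc.1.out.2 (qc.2 : H).2) h2
    simpa [mul_assoc] using this⟩
  have hf : Function.Surjective f := by
    refine ((Nat.bijective_iff_injective_and_card f).mpr ⟨fun x y h => ?_,
      (Nat.card_congr (Subgroup.groupEquivQuotientProdSubgroup (s := C0))).symm⟩).2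
    set u : G := (x.1.out : G) with hu
    set v : G := (y.1.out : G) with hv
    set c : G := ((x.2 : H) : G) with hc
    set d : G := ((y.2 : H) : G) with hd
    have e : u * (c * g) * u⁻¹ = v * (d * g) * v⁻¹ := mul_right_cancel (congr_arg Subtype.val h)
    have hcm : c ∈ C := Subgroup.mem_subgroupOf.mp x.2.2
    have hdm : d ∈ C := Subgroup.mem_subgroupOf.mp y.2.2
    have e2 : u * g * u⁻¹ = v * g * v⁻¹ := by
      have := congr_arg (· ^ m) e
      simpa [conj_pow, hpart c hcm, hpart d hdm] using this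
    have hw : u⁻¹ * v * g = g * (u⁻¹ * v) := by
      calc u⁻¹ * v * g = u⁻¹ * (v * g * v⁻¹) * v := by group
        _ = u⁻¹ * (u * g * u⁻¹) * v := by rw [e2]
        _ = _ := by group
    have hq : x.1 = y.1 := by
      rw [← x.1.out_eq, ← y.1.out_eq]
      refine QuotientGroup.eq.mpr (Subgroup.mem_subgroupOf.mpr ((hC _).mpr ⟨(x.1.out⁻¹ * y.1.out).2, ?_⟩))
      simpa using hw
    have huv : u = v := by rw [hu, hv, hq]
    rw [huv] at e
    exact Prod.ext hq (Subtype.ext (Subtype.ext (mul_right_cancel (mul_left_cancel (mul_right_cancel e)))))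
  obtain ⟨⟨q, c⟩, hqc⟩ := hf ⟨h, hh⟩
  have hcC := (hC _).mp (Subgroup.mem_subgroupOf.mp c.2)
  refine ⟨(q.out : G)⁻¹, H.inv_mem q.out.2, ((c : H) : G), hcC.1, hcC.2, ?_⟩
  have e : (q.out : G) * ((c : H) * g) * (q.out : G)⁻¹ * g⁻¹ = h := congr_arg Subtype.val hqc
  rw [← e]; group

end Cfsg.Agent.S1496
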