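import Cfsg.Statements.S1498
import Mathlib.Algebra.Group.Subgroup.Pointwise
import Mathlib.GroupTheory.OrderOfElement

set_option autoImplicit false
open Cfsg

namespace Cfsg.Agent.S1498

/-- Under the Dade hypothesis for (A, L, H): for a ∈ A and x ∈ L, the subgroup attached to x * a * x⁻¹ is the conjugate of H a by x. -/
theorem result {G : Type*} [Group G] [Finite G] (A : Set G) (L : Subgroup G) (H : G → Subgroup G) (hD : Cfsg.DadeHypothesis A L H) (a : G) (ha : a ∈ A) (x : G) (hx : x ∈ L) : H (x * a * x⁻¹) = (H a).map (MulAut.conj x).toMonoidHom := by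
  have key : ∀ a ∈ A, ∀ x ∈ L, ∀ u ∈ H a, x * u * x⁻¹ ∈ H (x * a * x⁻¹) := by
    intro a ha x hx u hu
    have hb := hD.conj_mem x hx a ha
    set b := x * a * x⁻¹ with hbdef
    have huC := Subgroup.mem_centralizer_singleton_iff.mp (hD.le_centralizer a ha hu)
    have hv : x * u * x⁻¹ ∈ Subgroup.centralizer ({b} : Set G) := by
      rw [Subgroup.mem_centralizer_singleton_iff, hbdef]
      calc x * u * x⁻¹ * (x * a * x⁻¹) = x * (u * a) * x⁻¹ := by group
        _ = x * (a * u) * x⁻¹ := by rw [huC]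
        _ = x * a * x⁻¹ * (x * u * x⁻¹) := by group
    have hv2 := hv
    rw [← hD.sup_eq b hb] at hv2
    have hnorm : L ⊓ Subgroup.centralizer ({b} : Set G) ≤ Subgroup.normalizer (H b : Set G) := by
      intro c hc
      rw [Subgroup.mem_normalizer_iff]
      intro h
      refine ⟨fun hh => hD.conj_mem_H b hb c hc.2 h hh, fun hh => ?_⟩
      simpa [mul_assoc] using hD.conj_mem_H b hb c⁻¹ ((Subgroup.centralizer ({b} : Set G)).inv_mem hc.2) _ hh
    rw [← SetLike.mem_coe, Subgroup.coe_mul_of_right_le_normalizer_left (H b) _ hnorm,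
      Set.mem_mul] at hv2
    obtain ⟨h, hh, l, hl, hhl⟩ := hv2
    let k := Nat.card (H a)
    have hpow : ∀ j : ℕ, ∃ h' ∈ H b, (h * l) ^ j = h' * l ^ j := by
      intro j
      induction j with
      | zero => exact ⟨1, one_mem _, by simp⟩
      | succ j ih =>
        obtain ⟨h', hh', he⟩ := ih
        refine ⟨h' * (l ^ j * h * (l ^ j)⁻¹),
          mul_mem hh' (hD.conj_mem_H b hb _ (pow_mem hl.2 j) h hh), ?_⟩
        rw [pow_succ, he, pow_succ]; group
    obtain ⟨h', hh', he⟩ := hpow k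
    have hu1 : (x * u * x⁻¹) ^ k = 1 := by
      rw [← MulAut.conj_apply, ← map_pow]
      have : u ^ k = 1 := congr_arg Subtype.val (pow_card_eq_one' (x := (⟨u, hu⟩ : H a)))
      rw [this, map_one]
    rw [hhl, hu1] at he
    have hlk : l ^ k ∈ H b ⊓ (L ⊓ Subgroup.centralizer ({b} : Set G)) := by
      refine ⟨?_, pow_mem hl k⟩
      rw [eq_inv_of_mul_eq_one_right he.symm]
      exact (H b).inv_mem hh'
    rw [hD.inf_eq_bot b hb, Subgroup.mem_bot] at hlk
    have hlm : l ^ Nat.card ↥(L ⊓ Subgroup.centralizer ({b} : Set G)) = 1 :=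
      congr_arg Subtype.val (pow_card_eq_one' (x := (⟨l, hl⟩ : ↥(L ⊓ Subgroup.centralizer ({b} : Set G)))))
    have h1 := Nat.dvd_gcd (orderOf_dvd_of_pow_eq_one hlk) (orderOf_dvd_of_pow_eq_one hlm)
    rw [(hD.coprime a ha b hb).gcd_eq_one, Nat.dvd_one, orderOf_eq_one_iff] at h1
    rw [← hhl, h1, mul_one]
    exact hh
  ext v
  constructor
  · intro hv
    have h := key _ (hD.conj_mem x hx a ha) x⁻¹ (L.inv_mem hx) v hv
    have e : x⁻¹ * (x * a * x⁻¹) * x⁻¹⁻¹ = a := by group
    rw [e, inv_inv] at h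
    exact ⟨x⁻¹ * v * x, h, by simp [mul_assoc]⟩
  · rintro ⟨u, hu, rfl⟩
    simpa using key a ha x hx u hu

end Cfsg.Agent.S1498
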