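import Cfsg.Statements.S1517
import Cfsg.Agent.Lib.Clifford.CoherenceSystem

set_option autoImplicit false
open Cfsg

open scoped ComplexConjugate
namespace Cfsg.Agent.S1517

open CfsgLib.Clifford.Coh

/-- Let (S, τ, R) be a coherence system from L to G such that φ 1 = ψ 1 for all φ, ψ ∈ S. Then (S, L minus 1, τ) is coherent. -/
theorem result {L : Type*} [Group L] [Fintype L] {G : Type*} [Group G] [Fintype G] (S : Set (L → ℂ)) (τ : (L → ℂ) → (G → ℂ)) (R : (L → ℂ) → Finset (G → ℂ)) (hS : Cfsg.IsCoherenceSystem S τ R) (hdeg : ∀ φ ∈ S, ∀ ψ ∈ S, φ 1 = ψ 1) : Cfsg.IsCoherent S {1}ᶜ τ := by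
  classical
  obtain ⟨χ₀, hχ₀⟩ := hS.nonempty
  obtain ⟨n, hn0, hn⟩ := exists_norm hS hχ₀
  obtain ⟨d, hd0, hd, -⟩ := exists_deg hS hχ₀
  have hc₀ := hS.conj_mem χ₀ hχ₀
  have hsub : ∀ φ ∈ S, χ₀ - φ ∈ Cfsg.zspanOn S ({1}ᶜ : Set L) := fun φ hφ =>
    sub_mem hS hχ₀ hφ (hdeg χ₀ hχ₀ φ hφ)
  have hR : ∀ a ∈ R χ₀, ∀ b ∈ R χ₀, Cfsg.classInner a b = if a = b then (1 : ℂ) else 0 :=
    fun a ha b hb => by rw [hS.orthonormal χ₀ hχ₀ a ha b hb]
  -- the image of the base point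
  obtain ⟨X, hXgen, hXX, hX⟩ : ∃ X : G → ℂ, Cfsg.IsGeneralizedCharacter G X ∧
      Cfsg.classInner X X = n ∧ ∀ φ ∈ S, φ ≠ χ₀ → Cfsg.classInner X (τ (χ₀ - φ)) = n := by
    have hE : ∀ E ⊆ R χ₀, E.card = n → Cfsg.IsGeneralizedCharacter G (∑ a ∈ E, a) ∧
        Cfsg.classInner (∑ a ∈ E, a) (∑ a ∈ E, a) = (n : ℂ) ∧
        Cfsg.classInner (∑ a ∈ E, a) (τ (χ₀ - Cfsg.conjFun χ₀)) = n := by
      intro E hE hcard
      have hin : ∀ F : Finset (G → ℂ), F ⊆ R χ₀ → E ⊆ F →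
          Cfsg.classInner (∑ a ∈ E, a) (∑ a ∈ F, a) = (n : ℂ) := by
        intro F hF hEF
        rw [CfsgLib.Char.classInner_sum_left, Finset.sum_congr rfl (g := fun _ => (1 : ℂ)) fun a ha => ?_,
          Finset.sum_const, hcard, nsmul_eq_mul, mul_one]
        rw [CfsgLib.Char.classInner_sum_right, Finset.sum_congr rfl fun b hb =>
          hR a (hE ha) b (hF hb), Finset.sum_ite_eq, if_pos (hEF ha)]
      refine ⟨CfsgLib.Char.isGeneralized_sum _ fun a ha => hS.virtual χ₀ hχ₀ a (hE ha),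
        hin E hE subset_rfl, ?_⟩
      rw [hS.sum_eq χ₀ hχ₀]
      exact hin _ subset_rfl hE
    by_cases hother : ∃ φ₁ ∈ S, φ₁ ≠ χ₀ ∧ φ₁ ≠ Cfsg.conjFun χ₀
    · obtain ⟨φ₁, hφ₁, h1, h2⟩ := hother
      obtain ⟨⟨E, hEsub, hEcard, hcoef⟩, -⟩ :=
        diff_structure hS hχ₀ hφ₁ h1 h2 (hdeg _ hχ₀ _ hφ₁) hn
      obtain ⟨hg, hnorm, hconj⟩ := hE E hEsub hEcard
      refine ⟨_, hg, hnorm, fun φ hφ hne => ?_⟩
      by_cases hφc : φ = Cfsg.conjFun χ₀
      · subst hφc; exact hconj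
      have hd1 : φ₁ - φ ∈ Cfsg.zspanOn S ({1}ᶜ : Set L) := sub_mem hS hφ₁ hφ (hdeg _ hφ₁ _ hφ)
      have hperp : ∀ a ∈ R χ₀, Cfsg.classInner (τ (φ₁ - φ)) a = 0 := by
        intro a ha
        by_cases e1 : φ = φ₁
        · subst e1
          have h0 : τ (φ - φ) = 0 := by simpa using hS.isometry.2.1 _ (hsub φ hφ) 0
          rw [h0, CfsgLib.Char.classInner_zero_left]
        by_cases e2 : φ = Cfsg.conjFun φ₁
        · subst e2
          rw [hS.sum_eq φ₁ hφ₁, CfsgLib.Char.classInner_sum_left]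
          exact Finset.sum_eq_zero fun b hb => R_perp hS hφ₁ hχ₀ h1 h2 hb ha
        obtain ⟨m, -, hm⟩ := exists_norm hS hφ₁
        exact (diff_structure hS hφ₁ hφ e1 e2 (hdeg _ hφ₁ _ hφ) hm).2 χ₀ hχ₀ h1.symm
          (fun h => h2 (by rw [h, conjFun_conjFun])) (Ne.symm hne)
          (fun h => hφc (by rw [h, conjFun_conjFun])) a ha
      have hsplit : χ₀ - φ = (χ₀ - φ₁) + (φ₁ - φ) := by abel
      rw [hsplit, hS.isometry.1 _ (hsub φ₁ hφ₁) _ hd1, CfsgLib.Char.classInner_sum_left,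
        Finset.sum_congr rfl (g := fun _ => (1 : ℂ)) fun a ha => ?_,
        Finset.sum_const, hEcard, nsmul_eq_mul, mul_one]
      rw [← CfsgLib.Char.classInner_conj_symm, CfsgLib.Char.classInner_add_left,
        hperp a (hEsub ha), (hcoef a (hEsub ha)).1 ha, add_zero, map_one]
    · obtain ⟨E, hEsub, hEcard⟩ := Finset.exists_subset_card_eq
        (s := R χ₀) (n := n) (by rw [card_R hS hχ₀ hn]; omega)
      obtain ⟨hg, hnorm, hconj⟩ := hE E hEsub hEcard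
      refine ⟨_, hg, hnorm, fun φ hφ hne => ?_⟩
      push Not at hother
      rw [hother φ hφ hne]; exact hconj
  have hτ0 : τ 0 = 0 := by
    simpa using hS.isometry.2.1 0 zspanOn_zero 0
  have hX' : ∀ φ ∈ S, Cfsg.classInner X (τ (χ₀ - φ)) = n - Cfsg.classInner χ₀ φ := by
    intro φ hφ
    by_cases h : φ = χ₀
    · subst h; rw [sub_self, hτ0, CfsgLib.Char.classInner_zero_right, hn, sub_self]
    · rw [hX φ hφ h, hS.orthogonal χ₀ hχ₀ φ hφ (Ne.symm h), sub_zero]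
  have hfin := finite_of_orthogonal hS.orthogonal fun x hx => ne_zero hS hx
  lift S to Finset (L → ℂ) using hfin
  refine coherent_of_images S (fun φ => X - τ (χ₀ - φ)) hS.orthogonal
    (fun x hx => ne_zero hS hx)
    (fun φ hφ => CfsgLib.Char.isGeneralized_sub hXgen (hS.isometry.2.2.2 _ (hsub φ hφ)))
    (fun φ hφ ω hω => ?_) _ τ
    ⟨_, conj_sub_mem hS hχ₀, sub_ne_zero.mpr (hS.conj_ne χ₀ hχ₀).symm⟩ (fun k hk => ?_)
  · simp only [CfsgLib.Char.classInner_sub_left, CfsgLib.Char.classInner_sub_right, hXX, hX' ω hω,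
      hS.isometry.2.2.1 _ (hsub φ hφ) _ (hsub ω hω)]
    rw [← CfsgLib.Char.classInner_conj_symm X, hX' φ hφ, map_sub, map_natCast,
      CfsgLib.Char.classInner_conj_symm, hn]
    ring
  · have hk0 : ∑ x ∈ S, k x = 0 := by
      have h := hk.2 1 (by simp)
      rw [Finset.sum_apply, Finset.sum_congr rfl (g := fun x => (k x : ℂ) * d) fun x hx => by
        rw [Pi.smul_apply, zsmul_eq_mul, hdeg x hx χ₀ hχ₀, hd], ← Finset.sum_mul] at h
      have := (mul_eq_zero.mp h).resolve_right (by exact_mod_cast hd0.ne')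
      exact_mod_cast this
    have e : ∑ x ∈ S, k x • x = ∑ x ∈ S, (-k x) • (χ₀ - x) := by
      rw [Finset.sum_congr rfl fun x _ => smul_sub (-k x) χ₀ x, Finset.sum_sub_distrib,
        ← Finset.sum_smul, Finset.sum_neg_distrib, hk0, neg_zero, zero_smul, zero_sub,
        ← Finset.sum_neg_distrib]
      exact Finset.sum_congr rfl fun x _ => by rw [neg_smul, neg_neg]
    rw [e, iso_zspanOn_sum hS.isometry _ _ fun x hx => zspanOn_zsmul _ (hsub x hx)]
    rw [Finset.sum_congr rfl fun x _ => smul_sub (k x) X (τ (χ₀ - x)), Finset.sum_sub_distrib,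
      ← Finset.sum_smul, hk0, zero_smul, zero_sub]
    rw [← Finset.sum_neg_distrib]
    exact Finset.sum_congr rfl fun x hx => by
      rw [hS.isometry.2.1 _ (hsub x hx), neg_smul]

end Cfsg.Agent.S1517
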