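import Cfsg.Statements.S1509
import Mathlib
import Cfsg.Agent.Lib.Char.Orthogonality
import Cfsg.Agent.Lib.Char.Inner

set_option autoImplicit false
open Cfsg
open scoped ComplexConjugate

namespace Cfsg.Agent.S1509

/-- Let α, β, γ, δ be functions on a finite group X each of which is an irreducible character or the negative of one, and u, v nonzero real numbers. Suppose ⟨α, β⟩ = ⟨γ, δ⟩ = 0, ⟨α − β, uγ − vδ⟩ = 0, α 1 = β 1 and u γ 1 = v δ 1. Then also ⟨α, γ⟩ = ⟨α, δ⟩ = ⟨β, γ⟩ = ⟨β, δ⟩ = 0. -/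
theorem result {X : Type*} [Group X] [Fintype X] (α β γ δ : X → ℂ) (hα : Cfsg.IsIrrCharacter X α ∨ Cfsg.IsIrrCharacter X (-α)) (hβ : Cfsg.IsIrrCharacter X β ∨ Cfsg.IsIrrCharacter X (-β)) (hγ : Cfsg.IsIrrCharacter X γ ∨ Cfsg.IsIrrCharacter X (-γ)) (hδ : Cfsg.IsIrrCharacter X δ ∨ Cfsg.IsIrrCharacter X (-δ)) (u v : ℝ) (hu : u ≠ 0) (hv : v ≠ 0) (hab : Cfsg.classInner α β = 0) (hcd : Cfsg.classInner γ δ = 0) (hmix : Cfsg.classInner (α - β) ((u : ℂ) • γ - (v : ℂ) • δ) = 0) (h1 : α 1 = β 1) (h2 : (u : ℂ) * γ 1 = (v : ℂ) * δ 1) : Cfsg.classInner α γ = 0 ∧ Cfsg.classInner α δ = 0 ∧ Cfsg.classInner β γ = 0 ∧ Cfsg.classInner β δ = 0 := by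
  have dual : ∀ φ ψ : X → ℂ, (Cfsg.IsIrrCharacter X φ ∨ Cfsg.IsIrrCharacter X (-φ)) →
      (Cfsg.IsIrrCharacter X ψ ∨ Cfsg.IsIrrCharacter X (-ψ)) →
      Cfsg.classInner φ ψ = 0 ∨ ∃ e : ℂ, (e = 1 ∨ e = -1) ∧ φ = e • ψ := by
    intro φ ψ hφ hψ
    by_cases h : φ = ψ
    · exact Or.inr ⟨1, Or.inl rfl, by simp [h]⟩
    by_cases h' : φ = -ψ
    · exact Or.inr ⟨-1, Or.inr rfl, by simp [h']⟩
    left
    rcases hφ with hφ | hφ <;> rcases hψ with hψ | hψ
    · exact CfsgLib.Char.irr_classInner_ne hφ hψ h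
    · have := CfsgLib.Char.irr_classInner_ne hφ hψ h'
      rwa [show -ψ = (-1 : ℂ) • ψ by simp, CfsgLib.Char.classInner_smul_right, map_neg, map_one,
        neg_one_mul, neg_eq_zero] at this
    · have := CfsgLib.Char.irr_classInner_ne hφ hψ fun k => h' (by rw [← k, neg_neg])
      rwa [show -φ = (-1 : ℂ) • φ by simp, CfsgLib.Char.classInner_smul_left, neg_one_mul,
        neg_eq_zero] at this
    · have := CfsgLib.Char.irr_classInner_ne hφ hψ fun k => h (neg_inj.mp k)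
      rwa [show -φ = (-1 : ℂ) • φ by simp, show -ψ = (-1 : ℂ) • ψ by simp,
        CfsgLib.Char.classInner_smul_left, CfsgLib.Char.classInner_smul_right, map_neg, map_one,
        neg_one_mul, neg_one_mul, neg_neg] at this
  have hne1 : ∀ φ : X → ℂ, (Cfsg.IsIrrCharacter X φ ∨ Cfsg.IsIrrCharacter X (-φ)) →
      φ 1 ≠ 0 ∧ Cfsg.classInner φ φ = 1 := by
    intro φ hφ
    rcases hφ with h | h
    · exact ⟨CfsgLib.Char.irr_apply_one_ne_zero h, CfsgLib.Char.irr_classInner_self h⟩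
    · have h2 := CfsgLib.Char.irr_classInner_self h
      rw [show -φ = (-1 : ℂ) • φ by simp, CfsgLib.Char.classInner_smul_left,
        CfsgLib.Char.classInner_smul_right] at h2
      exact ⟨fun k => CfsgLib.Char.irr_apply_one_ne_zero h (by simp [k]), by simpa using h2⟩
  have key : ∀ α β γ δ : X → ℂ, (Cfsg.IsIrrCharacter X α ∨ Cfsg.IsIrrCharacter X (-α)) →
      (Cfsg.IsIrrCharacter X β ∨ Cfsg.IsIrrCharacter X (-β)) →
      (Cfsg.IsIrrCharacter X γ ∨ Cfsg.IsIrrCharacter X (-γ)) →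
      (Cfsg.IsIrrCharacter X δ ∨ Cfsg.IsIrrCharacter X (-δ)) →
      ∀ u v : ℝ, u ≠ 0 → v ≠ 0 → Cfsg.classInner α β = 0 → Cfsg.classInner γ δ = 0 →
      Cfsg.classInner (α - β) ((u : ℂ) • γ - (v : ℂ) • δ) = 0 → α 1 = β 1 →
      (u : ℂ) * γ 1 = (v : ℂ) * δ 1 → Cfsg.classInner α γ = 0 := by
    intro α β γ δ hα hβ hγ hδ u v hu hv hab hcd hmix h1 h2
    rcases dual α γ hα hγ with h | ⟨e, he, rfl⟩
    · exact h
    exfalso
    have hbg : Cfsg.classInner β γ = 0 := by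
      have := congr_arg conj hab
      rw [CfsgLib.Char.classInner_smul_left, map_mul, CfsgLib.Char.classInner_conj_symm, map_zero] at this
      rcases he with rfl | rfl <;> simpa using this
    simp only [CfsgLib.Char.classInner_sub_left, CfsgLib.Char.classInner_sub_right,
      CfsgLib.Char.classInner_smul_left, CfsgLib.Char.classInner_smul_right, Complex.conj_ofReal,
      (hne1 γ hγ).2, hcd, hbg] at hmix
    rcases dual β δ hβ hδ with hb | ⟨z, hz, rfl⟩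
    · rw [hb] at hmix
      rcases he with rfl | rfl <;> simp [hu] at hmix
    simp only [CfsgLib.Char.classInner_smul_left, (hne1 δ hδ).2] at hmix
    have hd := (hne1 δ hδ).1
    simp only [Pi.smul_apply, smul_eq_mul] at h1
    have hv' : (v : ℂ) ≠ 0 := Complex.ofReal_ne_zero.mpr hv
    have hprod : (v : ℂ) * δ 1 = 0 := by
      rcases he with rfl | rfl <;> rcases hz with rfl | rfl
      · linear_combination (-1/2 : ℂ) * h2 + (u / 2 : ℂ) * h1 + (δ 1 / 2) * hmix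
      · linear_combination (-1/2 : ℂ) * h2 + (u / 2 : ℂ) * h1 - (δ 1 / 2) * hmix
      · linear_combination (-1/2 : ℂ) * h2 - (u / 2 : ℂ) * h1 + (δ 1 / 2) * hmix
      · linear_combination (-1/2 : ℂ) * h2 - (u / 2 : ℂ) * h1 - (δ 1 / 2) * hmix
    exact mul_ne_zero hv' hd hprod
  have sw : ∀ φ ψ : X → ℂ, Cfsg.classInner φ ψ = 0 → Cfsg.classInner ψ φ = 0 := fun φ ψ h => by
    rw [← CfsgLib.Char.classInner_conj_symm, h, map_zero]
  have hmix' : Cfsg.classInner (α - β) ((v : ℂ) • δ - (u : ℂ) • γ) = 0 := by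
    rw [CfsgLib.Char.classInner_sub_right] at hmix ⊢; linear_combination -hmix
  refine ⟨key α β γ δ hα hβ hγ hδ u v hu hv hab hcd hmix h1 h2,
    key α β δ γ hα hβ hδ hγ v u hv hu hab (sw _ _ hcd) hmix' h1 h2.symm,
    key β α γ δ hβ hα hγ hδ u v hu hv (sw _ _ hab) hcd ?_ h1.symm h2,
    key β α δ γ hβ hα hδ hγ v u hv hu (sw _ _ hab) (sw _ _ hcd) ?_ h1.symm h2.symm⟩
  · rw [CfsgLib.Char.classInner_sub_left] at hmix ⊢; linear_combination -hmix
  · rw [CfsgLib.Char.classInner_sub_left] at hmix' ⊢; linear_combination -hmix'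

end Cfsg.Agent.S1509
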