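import Cfsg.Statements.S1518
import Cfsg.Agent.Lib.Clifford.DadeVirtual
import Cfsg.Agent.Lib.Clifford.Quaternion

set_option autoImplicit false
open Cfsg

namespace Cfsg.Agent.S1518

/-- Under the Dade hypothesis for (A, L, H): if χ is an irreducible character of L vanishing at every non-identity element of L outside A, then the Dade image of χ − conj χ equals μ − conj μ for some irreducible character μ of G. -/
theorem result {G : Type*} [Group G] [Fintype G] (A : Set G) (L : Subgroup G) [Fintype L] (H : G → Subgroup G) (hD : Cfsg.DadeHypothesis A L H) (χ : L → ℂ) (hχ : Cfsg.IsIrrCharacter L χ) (hsupp : ∀ x : L, x ≠ 1 → (x : G) ∉ A → χ x = 0) : ∃ μ : G → ℂ, Cfsg.IsIrrCharacter G μ ∧ Cfsg.dadeIsometry A L H (χ - Cfsg.conjFun χ) = μ - Cfsg.conjFun μ := by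
  classical
  by_cases hreal : Cfsg.conjFun χ = χ
  · refine ⟨fun _ => 1, CfsgLib.Char.isIrrCharacter_one, ?_⟩
    rw [hreal, sub_self]
    funext g
    simp only [Cfsg.dadeIsometry, Cfsg.conjFun, Pi.sub_apply, map_one, sub_self]
    split_ifs <;> rfl
  set α := χ - Cfsg.conjFun χ with hαdef
  have hχ' : Cfsg.IsIrrCharacter L (Cfsg.conjFun χ) := CfsgLib.Char.isIrrCharacter_conj hχ
  have hgen : Cfsg.IsGeneralizedCharacter L α :=
    CfsgLib.Char.isGeneralized_sub (CfsgLib.Char.isGeneralized_of_isCharacter (CfsgLib.Char.irr_isCharacter hχ))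
      (CfsgLib.Char.isGeneralized_of_isCharacter (CfsgLib.Char.irr_isCharacter hχ'))
  obtain ⟨d, hd⟩ := CfsgLib.Char.char_apply_one_eq_nat (CfsgLib.Char.irr_isCharacter hχ)
  have hαA : ∀ x : L, (x : G) ∉ A → α x = 0 := fun x hx => by
    rcases eq_or_ne x 1 with rfl | hx1
    · simp [hαdef, Cfsg.conjFun, hd]
    · simp [hαdef, Cfsg.conjFun, hsupp x hx1 hx]
  have hcl := CfsgLib.Char.isGeneralized_isClassFunction hgen
  set θ := Cfsg.dadeIsometry A L H α
  have hθgen : Cfsg.IsGeneralizedCharacter G θ :=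
    CfsgLib.Clifford.Dade.isGeneralized_dadeIsometry hD hgen hαA
  have hnorm : Cfsg.classInner θ θ = 2 := by
    rw [CfsgLib.Clifford.Dade.classInner_dadeIsometry_dadeIsometry hD hcl hαA hcl, hαdef]
    simp only [CfsgLib.Char.classInner_sub_left, CfsgLib.Char.classInner_sub_right,
      CfsgLib.Char.irr_classInner_self hχ, CfsgLib.Char.irr_classInner_self hχ',
      CfsgLib.Char.irr_classInner_ne hχ hχ' (fun h => hreal h.symm),
      CfsgLib.Char.irr_classInner_ne hχ' hχ hreal]
    norm_num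
  have hθ1 : θ 1 = 0 := by
    refine CfsgLib.Clifford.Dade.dadeIsometry_eq_zero fun a ha x u hu he => ?_
    rw [mul_one, mul_inv_cancel] at he
    have h1 : a ∈ H a ⊓ (L ⊓ Subgroup.centralizer ({a} : Set G)) := by
      refine ⟨?_, CfsgLib.Clifford.Dade.self_mem hD ha⟩
      exact (congr_arg (· ∈ H a) (eq_inv_of_mul_eq_one_left he.symm)).mpr ((H a).inv_mem hu)
    rw [hD.inf_eq_bot a ha, Subgroup.mem_bot] at h1
    exact hD.one_not_mem (h1 ▸ ha)
  have hθconj : Cfsg.conjFun θ = -θ := by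
    funext g
    simp only [θ, Cfsg.dadeIsometry, Cfsg.conjFun, Pi.neg_apply]
    split_ifs <;> simp [hαdef, Cfsg.conjFun]
  obtain ⟨μ, ν, ε, δ, hμ, hν, hne, hε, hδ, hdec⟩ := CfsgLib.Clifford.exists_norm_two hθgen hnorm
  suffices key : ∀ μ ν : G → ℂ, Cfsg.IsIrrCharacter G μ → Cfsg.IsIrrCharacter G ν → μ ≠ ν →
      θ = μ - ν → θ = μ - Cfsg.conjFun μ by
    obtain ⟨a, ha, ha1⟩ := CfsgLib.Char.irr_apply_one_pos hμ
    obtain ⟨b, hb, hb1⟩ := CfsgLib.Char.irr_apply_one_pos hν
    have h0 := congr_fun hdec 1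
    rw [hθ1] at h0
    simp only [Pi.add_apply, Pi.smul_apply, smul_eq_mul, ha1, hb1] at h0
    rcases hε with rfl | rfl <;> rcases hδ with rfl | rfl
    · exfalso
      have : (0 : ℕ) = a + b := by
        have : (0 : ℂ) = a + b := by linear_combination h0
        exact_mod_cast this
      omega
    · exact ⟨μ, hμ, key μ ν hμ hν hne (by rw [hdec]; module)⟩
    · exact ⟨ν, hν, key ν μ hν hμ hne.symm (by rw [hdec]; module)⟩
    · exfalso
      have : (0 : ℕ) = a + b := by
        have : (0 : ℂ) = a + b := by linear_combination -h0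
        exact_mod_cast this
      omega
  intro μ ν hμ hν hne he
  have hμ' : Cfsg.IsIrrCharacter G (Cfsg.conjFun μ) := CfsgLib.Char.isIrrCharacter_conj hμ
  have hν' : Cfsg.IsIrrCharacter G (Cfsg.conjFun ν) := CfsgLib.Char.isIrrCharacter_conj hν
  have h1 : Cfsg.conjFun μ - Cfsg.conjFun ν = ν - μ := by
    rw [he] at hθconj
    funext g
    have := congr_fun hθconj g
    simp only [Cfsg.conjFun, Pi.sub_apply, Pi.neg_apply, map_sub] at this ⊢
    rw [this]; ring
  have h2 := congr_arg (fun f => Cfsg.classInner f ν) h1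
  simp only [CfsgLib.Char.classInner_sub_left, CfsgLib.Char.irr_classInner hμ' hν,
    CfsgLib.Char.irr_classInner hν' hν, CfsgLib.Char.irr_classInner_self hν,
    CfsgLib.Char.irr_classInner_ne hμ hν hne, sub_zero] at h2
  split_ifs at h2 with h3 h4 <;> first | (rw [he, h3]) | (norm_num at h2)

end Cfsg.Agent.S1518
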