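import Cfsg.Statements.S1511
import Cfsg.Agent.Lib.Clifford.CyclicTI
import Cfsg.Agent.Lib.Clifford.TI
import Cfsg.Agent.Lib.Char.Linear
import Cfsg.Agent.Lib.Char.TI
import Mathlib.GroupTheory.SpecificGroups.Cyclic

set_option autoImplicit false
open Cfsg

namespace Cfsg.Agent.S1511

set_option maxHeartbeats 1000000

/-- Let L be a finite group with K normal with complement W₁ ≠ 1 a cyclic Hall subgroup, and W₂ ≠ 1 a cyclic subgroup of K equal to C_K(x) for every non-identity x ∈ W₁, with W₁W₂ of odd order. Then there are a map μ from the linear characters of W = W₁ ⊔ W₂ to irreducible characters of L, injective, and a sign δ(ω) ∈ {1, −1} depending only on the values of ω on W₂, such that: for ω, ω' agreeing on W₂, the function induced to L from ω − ω' equals δ(ω) • (μ ω − μ ω'); μ ω x = δ(ω) ω x for x ∈ W outside W₂; every irreducible character of L not of the form μ ω vanishes on W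 outside W₂; and μ ω 1 − δ(ω) is an integer multiple of Nat.card W₁. -/
theorem result {L : Type*} [Group L] [Fintype L] (K W₁ W₂ : Subgroup L) [hK : K.Normal] (hKW₁ : K ⊓ W₁ = ⊥) (hKW₁' : K ⊔ W₁ = ⊤) (hW₁ : W₁ ≠ ⊥) (hW₁c : IsCyclic W₁) (hHall : Nat.Coprime (Nat.card W₁) W₁.index) (hW₂ : W₂ ≠ ⊥) (hW₂c : IsCyclic W₂) (hW₂K : W₂ ≤ K) (hC : ∀ x ∈ W₁, x ≠ 1 → K ⊓ Subgroup.centralizer ({x} : Set L) = W₂) (hodd : Odd (Nat.card ↥(W₁ ⊔ W₂))) : ∃ (μ : (↥(W₁ ⊔ W₂) →* ℂˣ) → (L → ℂ)) (δ : (↥(W₁ ⊔ W₂) →* ℂˣ) → ℂ), Function.Injective μ ∧ (∀ ω, Cfsg.IsIrrCharacter L (μ ω)) ∧ (∀ ω, δ ω = 1 ∨ δ ω = -1) ∧ (∀ ω ω' : ↥(W₁ ⊔ W₂) →* ℂˣ, (∀ w : ↥(W₁ ⊔ W₂), (w : L) ∈ W₂ → ω w = ω' w) → δ ω = δ ω' ∧ Cfsg.indFun (W₁ ⊔ W₂) (fun w => (ω w : ℂ) - (ω' w : ℂ)) = δ ω • (μ ω - μ ω')) ∧ (∀ ω, ∀ w : ↥(W₁ ⊔ W₂), (w : L) ∉ W₂ → μ ω w = δ ω * (ω w : ℂ)) ∧ (∀ θ : L → ℂ, Cfsg.IsIrrCharacter L θ → (∀ ω, θ ≠ μ ω) → ∀ w : ↥(W₁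 ⊔ W₂), (w : L) ∉ W₂ → θ w = 0) ∧ (∀ ω, ∃ n : ℤ, μ ω 1 - δ ω = n * (Nat.card W₁ : ℂ)) := by
  classical
  have hcop : Nat.Coprime (Nat.card W₁) (Nat.card K) := by
    have hc : Subgroup.IsComplement' K W₁ := Subgroup.isComplement'_of_disjoint_and_mul_eq_univ
      (disjoint_iff.mpr hKW₁) (by rw [← Subgroup.normal_mul, hKW₁']; rfl)
    have : W₁.index = Nat.card K := hc.index_eq_card.trans rfl
    rwa [this] at hHall
  have hcop2 : Nat.Coprime (Nat.card W₁) (Nat.card W₂) :=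
    hcop.coprime_dvd_right (Subgroup.card_dvd_of_le hW₂K)
  have hcomm : ∀ a ∈ W₁, ∀ b ∈ W₂, a * b = b * a := by
    intro a ha b hb
    by_cases h : a = 1
    · simp [h]
    · have := ((hC a ha h).symm ▸ hb : b ∈ K ⊓ Subgroup.centralizer ({a} : Set L)).2
      exact (Subgroup.mem_centralizer_singleton_iff.mp this).symm
  have hdisj : W₁ ⊓ W₂ = ⊥ := by
    rw [← le_bot_iff, ← hKW₁]
    exact fun g hg => ⟨hW₂K hg.2, hg.1⟩
  let e : W₁ × W₂ →* L := MonoidHom.noncommCoprod W₁.subtype W₂.subtype (fun a b => hcomm a a.2 b b.2)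
  have he : ∀ z ∈ W₁ ⊔ W₂, ∃ a ∈ W₁, ∃ b ∈ W₂, a * b = z := by
    intro z hz
    have : z ∈ e.range := by
      refine (sup_le ?_ ?_ : W₁ ⊔ W₂ ≤ e.range) hz
      · exact fun a ha => ⟨(⟨a, ha⟩, 1), mul_one a⟩
      · exact fun b hb => ⟨(1, ⟨b, hb⟩), one_mul b⟩
    obtain ⟨⟨a, b⟩, rfl⟩ := this
    exact ⟨a, a.2, b, b.2, rfl⟩
  have hprod : IsCyclic (W₁ × W₂) := Group.isCyclic_prod_iff.mpr ⟨hW₁c, hW₂c, by simpa using hcop2⟩
  have hcyc : IsCyclic ↥(W₁ ⊔ W₂) := by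
    have hle : ∀ p, e p ∈ W₁ ⊔ W₂ := fun p => by
      exact Subgroup.mul_mem_sup p.1.2 p.2.2
    refine isCyclic_of_surjective (e.codRestrict _ hle) fun z => ?_
    obtain ⟨a, ha, b, hb, h⟩ := he z z.2
    exact ⟨(⟨a, ha⟩, ⟨b, hb⟩), Subtype.ext h⟩
  have : Fintype ↥(W₁ ⊔ W₂) := Fintype.ofFinite _
  have habel : ∀ u v : ↥(W₁ ⊔ W₂), u * v = v * u := by
    intro u v
    obtain ⟨c, hc⟩ := hcyc.exists_generator
    obtain ⟨i, rfl⟩ := hc u
    obtain ⟨j, rfl⟩ := hc v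
    exact ((Commute.refl c).zpow_zpow i j).eq
  let V : Set L := ((W₁ ⊔ W₂ : Subgroup L) : Set L) \ (W₂ : Set L)
  have hTI : ∀ g : L, ∀ v ∈ V, g * v * g⁻¹ ∈ V → g ∈ W₁ ⊔ W₂ := by
    intro g z hz hgz
    obtain ⟨a, ha, b, hb, rfl⟩ := he z hz.1
    obtain ⟨a', ha', b', hb', hg'⟩ := he _ hgz.1
    have ha1 : a ≠ 1 := fun h => hz.2 (by simpa [h] using hb)
    have hg0 : g ∈ K ⊔ W₁ := hKW₁' ▸ Subgroup.mem_top g
    obtain ⟨k, hk, w, hw, rfl⟩ := Subgroup.mem_sup_of_normal_left.mp hg0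
    have hwa : w * a = a * w := by
      obtain ⟨c, hc⟩ := hW₁c.exists_generator
      obtain ⟨i, hi⟩ := hc ⟨w, hw⟩
      obtain ⟨j, hj⟩ := hc ⟨a, ha⟩
      have := ((Commute.refl c).zpow_zpow i j).eq
      rw [show c ^ i = ⟨w, hw⟩ from hi, show c ^ j = ⟨a, ha⟩ from hj] at this
      exact congr_arg Subtype.val this
    have hwz : w * (a * b) * w⁻¹ = a * b := by
      rw [mul_inv_eq_iff_eq_mul, ← mul_assoc, hwa, mul_assoc, hcomm w hw b hb, ← mul_assoc]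
    have hkz : k * (a * b) * k⁻¹ = a' * b' := by
      rw [hg']; conv_lhs => rw [← hwz]
      group
    obtain ⟨m, hm1, hm0⟩ := Nat.chineseRemainder hcop2 1 0
    have hpow : ∀ u ∈ W₁, ∀ v ∈ W₂, (u * v) ^ m = u := by
      intro u hu v hv
      rw [Commute.mul_pow (hcomm u hu v hv),
        orderOf_dvd_iff_pow_eq_one.mp ((Subgroup.orderOf_dvd_natCard W₂ hv).trans (Nat.modEq_zero_iff_dvd.mp hm0)),
        mul_one, ← pow_mod_orderOf, hm1.of_dvd (Subgroup.orderOf_dvd_natCard W₁ hu), pow_mod_orderOf, pow_one]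
    have hka : k * a * k⁻¹ = a' := by
      have := congr_arg (· ^ m) hkz
      simpa only [conj_pow, hpow a ha b hb, hpow a' ha' b' hb'] using this
    have haa : a' * a⁻¹ = 1 := by
      rw [← Subgroup.mem_bot, ← hKW₁]
      refine ⟨?_, W₁.mul_mem ha' (W₁.inv_mem ha)⟩
      rw [← hka, show k * a * k⁻¹ * a⁻¹ = k * (a * k⁻¹ * a⁻¹) by group]
      exact K.mul_mem hk (hK.conj_mem _ (K.inv_mem hk) a)
    rw [mul_inv_eq_one] at haa
    have hk2 : k ∈ K ⊓ Subgroup.centralizer ({a} : Set L) :=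
      ⟨hk, Subgroup.mem_centralizer_singleton_iff.mpr (by rw [← mul_inv_eq_iff_eq_mul, hka, haa])⟩
    rw [hC a ha ha1] at hk2
    exact Subgroup.mul_mem _ (Subgroup.mem_sup_right hk2) (Subgroup.mem_sup_left hw)
  let D₁ := {f : ↥(W₁ ⊔ W₂) →* ℂˣ // ∀ w : ↥(W₁ ⊔ W₂), (w : L) ∈ W₂ → f w = 1}
  let D₂ := {f : ↥(W₁ ⊔ W₂) →* ℂˣ // ∀ w : ↥(W₁ ⊔ W₂), (w : L) ∈ W₁ → f w = 1}
  have : Finite (↥(W₁ ⊔ W₂) →* ℂˣ) := Nat.finite_of_card_ne_zero (by
    rw [CfsgLib.Char.natCard_linear]; exact Subgroup.index_ne_zero_of_finite)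
  have : Fintype D₁ := Fintype.ofFinite _
  let ee : D₁ × D₂ → (↥(W₁ ⊔ W₂) →* ℂˣ) := fun p => p.1.1 * p.2.1
  have hinj : Function.Injective ee := by
    rintro ⟨⟨φ, hφ⟩, ψ, hψ⟩ ⟨⟨φ', hφ'⟩, ψ', hψ'⟩ h
    have h1 : φ = φ' := MonoidHom.ext fun w => by
      have hd : ∀ w, φ w / φ' w = ψ' w / ψ w := fun w => by
        rw [div_eq_div_iff_mul_eq_mul, ← MonoidHom.mul_apply,
          show φ * ψ = φ' * ψ' from h, MonoidHom.mul_apply, mul_comm]
      have h0 := CfsgLib.Clifford.hom_eq_one_of_sup (φ / φ')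
        (fun w hw => by rw [MonoidHom.div_apply, hd]; simp [hψ w hw, hψ' w hw])
        (fun w hw => by simp [hφ w hw, hφ' w hw])
      exact div_eq_one.mp (DFunLike.congr_fun h0 w)
    subst h1
    have h2 : ψ = ψ' := MonoidHom.ext fun w => mul_left_cancel (DFunLike.congr_fun h w)
    subst h2; rfl
  have hee : Function.Bijective ee := ⟨hinj, fun f => by
    obtain ⟨φ, ψ, hφ, hψ, rfl⟩ := CfsgLib.Clifford.exists_hom_mul hdisj hcomm f
    exact ⟨(⟨φ, hφ⟩, ⟨ψ, hψ⟩), rfl⟩⟩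
  let E := (Equiv.ofBijective ee hee).symm
  have hE : ∀ ω : ↥(W₁ ⊔ W₂) →* ℂˣ, (E ω).1.1 * (E ω).2.1 = ω := fun ω =>
    (Equiv.ofBijective ee hee).apply_symm_apply ω
  have hE' : ∀ p : D₁ × D₂, E (p.1.1 * p.2.1) = p := fun p =>
    (Equiv.ofBijective ee hee).symm_apply_apply p
  obtain ⟨φ₁, hφ₁⟩ : ∃ φ₁ : D₁, φ₁.1 ≠ 1 := by
    obtain ⟨v, hv, hv1⟩ := (Subgroup.bot_or_exists_ne_one W₁).resolve_left hW₁
    obtain ⟨f, hf⟩ := CfsgLib.Char.exists_linear_ne_one habel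
      (g := (⟨v, Subgroup.mem_sup_left hv⟩ : ↥(W₁ ⊔ W₂))) (fun h => hv1 (congr_arg Subtype.val h))
    obtain ⟨φ, ψ, hφ, hψ, rfl⟩ := CfsgLib.Clifford.exists_hom_mul hdisj hcomm f
    exact ⟨⟨φ, hφ⟩, fun h => hf (by rw [MonoidHom.mul_apply, show φ = 1 from h, hψ ⟨v, _⟩ hv]; simp)⟩
  let one₁ : D₁ := ⟨1, fun _ _ => rfl⟩
  let en := (Fintype.equivFin D₁)
  let lin : (↥(W₁ ⊔ W₂) →* ℂˣ) → ↥(W₁ ⊔ W₂) → ℂ := fun f w => (f w : ℂ)
  have hlin : ∀ f, Cfsg.IsIrrCharacter ↥(W₁ ⊔ W₂) (lin f) := CfsgLib.Char.isIrrCharacter_linear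
  have hW : ∀ a b : ↥(W₁ ⊔ W₂) →* ℂˣ,
      Cfsg.classInner (lin a) (lin b) = if a = b then 1 else 0 := by
    intro a b
    rw [CfsgLib.Char.irr_classInner (hlin a) (hlin b)]
    exact if_congr ⟨fun h => MonoidHom.ext fun w => Units.ext (congr_fun h w), fun h => by rw [h]⟩ rfl rfl
  let al : D₁ × D₂ → D₁ × D₂ → ↥(W₁ ⊔ W₂) → ℂ := fun p q => lin (ee p) - lin (ee q)
  have hal : ∀ p q : D₁ × D₂, p.2 = q.2 → ∀ w : ↥(W₁ ⊔ W₂), al p q w ≠ 0 → (w : L) ∈ V := by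
    intro p q h w hw
    refine ⟨w.2, fun hw2 => hw ?_⟩
    simp [al, lin, ee, h, p.1.2 w hw2, q.1.2 w hw2]
  have hcf : ∀ f : ↥(W₁ ⊔ W₂) → ℂ, Cfsg.IsClassFunction ↥(W₁ ⊔ W₂) f := fun f x g => by
    rw [habel g x, mul_inv_cancel_right]
  have hiso : ∀ p q p' q' : D₁ × D₂, p.2 = q.2 → p'.2 = q'.2 →
      Cfsg.classInner (Cfsg.indFun (W₁ ⊔ W₂) (al p q)) (Cfsg.indFun (W₁ ⊔ W₂) (al p' q')) =
      Cfsg.classInner (al p q) (al p' q') := fun p q p' q' h h' =>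
    CfsgLib.Clifford.classInner_indFun_of_TI hTI _ (hcf _) (hal p q h) (hal p' q' h')
  have hlgen : ∀ f, Cfsg.IsGeneralizedCharacter ↥(W₁ ⊔ W₂) (lin f) := fun f =>
    CfsgLib.Char.isGeneralized_of_isCharacter (CfsgLib.Char.irr_isCharacter (hlin f))
  -- one coherent family for each restriction to `W₂`
  have hfam : ∀ ψ : D₂, ∃ ε : ℂ, (ε = 1 ∨ ε = -1) ∧ ∃ θ : D₁ → (L → ℂ),
      (∀ a, Cfsg.IsIrrCharacter L (θ a)) ∧ Function.Injective θ ∧
      ∀ a b, Cfsg.indFun (W₁ ⊔ W₂) (al (a, ψ) (b, ψ)) = ε • (θ a - θ b) := by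
    intro ψ
    obtain ⟨ε, hε, θ, hθ, hθi, hd⟩ := CfsgLib.Char.coherent_family _ (en one₁)
      (fun i => Cfsg.indFun (W₁ ⊔ W₂) (al (en.symm i, ψ) (one₁, ψ)))
      (by
        funext g
        rw [Equiv.symm_apply_apply]
        simp [al, CfsgLib.Char.indFun_def, Cfsg.extendByZero, Function.extend_def])
      (fun i => CfsgLib.Char.isGeneralized_indFun _
        (CfsgLib.Char.isGeneralized_sub (hlgen _) (hlgen _)))
      (fun i => by simp [CfsgLib.Char.indFun_apply_one, al, lin])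
      (fun i j hi hj => by
        rw [hiso (en.symm i, ψ) (one₁, ψ) (en.symm j, ψ) (one₁, ψ) rfl rfl]
        have hi' : en.symm i ≠ one₁ := fun h => hi (by rw [← h, Equiv.apply_symm_apply])
        have hj' : en.symm j ≠ one₁ := fun h => hj (by rw [← h, Equiv.apply_symm_apply])
        simp only [al, CfsgLib.Char.classInner_sub_left, CfsgLib.Char.classInner_sub_right, hW,
          hee.1.eq_iff, Prod.mk.injEq, and_true, hi', Ne.symm hj', en.symm.injective.eq_iff,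
          if_true, if_false]
        split_ifs <;> norm_num)
    refine ⟨ε, hε, fun a => θ (en a), fun a => hθ _, hθi.comp en.injective, fun a b => ?_⟩
    have ha := hd (en a)
    have hb := hd (en b)
    simp only [Equiv.symm_apply_apply] at ha hb
    have : al (a, ψ) (b, ψ) = al (a, ψ) (one₁, ψ) - al (b, ψ) (one₁, ψ) := by simp [al]
    rw [this, CfsgLib.Char.indFun_sub, ha, hb, ← smul_sub, sub_sub_sub_cancel_right]
  choose ε hε θ hθ hθi hθd using hfam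
  let μ : (↥(W₁ ⊔ W₂) →* ℂˣ) → L → ℂ := fun ω => θ (E ω).2 (E ω).1
  let δ : (↥(W₁ ⊔ W₂) →* ℂˣ) → ℂ := fun ω => ε (E ω).2
  have hεne : ∀ ψ, ε ψ ≠ 0 := fun ψ => by rcases hε ψ with h | h <;> rw [h] <;> norm_num
  have hsep : ∀ ψ ψ', ψ ≠ ψ' → ∀ a b, θ ψ a ≠ θ ψ' b := by
    intro ψ ψ' hne a b heq
    have : Nontrivial D₁ := ⟨⟨φ₁, one₁, fun h => hφ₁ (congr_arg Subtype.val h)⟩⟩
    obtain ⟨a', ha'⟩ := exists_ne a
    obtain ⟨b', hb'⟩ := exists_ne b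
    have h := hiso (a, ψ) (a', ψ) (b, ψ') (b', ψ') rfl rfl
    rw [hθd, hθd] at h
    simp only [al, CfsgLib.Char.classInner_smul_left, CfsgLib.Char.classInner_smul_right,
      CfsgLib.Char.classInner_sub_left, CfsgLib.Char.classInner_sub_right, hW, hee.1.eq_iff,
      Prod.mk.injEq, hne, and_false, if_false, sub_self, mul_eq_zero, hεne, map_eq_zero, false_or] at h
    have e1 : θ ψ a' ≠ θ ψ' b := heq ▸ fun e => ha' (hθi ψ e)
    have e2 : θ ψ' b ≠ θ ψ' b' := fun e => hb' (hθi ψ' e.symm)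
    rw [heq, CfsgLib.Char.irr_classInner_self (hθ ψ' b),
      CfsgLib.Char.irr_classInner_ne (hθ ψ a') (hθ ψ' b) e1,
      CfsgLib.Char.irr_classInner_ne (hθ ψ' b) (hθ ψ' b') e2, sub_zero, zero_sub,
      CfsgLib.Char.irr_classInner (hθ ψ a') (hθ ψ' b')] at h
    split_ifs at h <;> norm_num at h <;> exact hεne ψ h
  have hμinj : Function.Injective μ := by
    intro ω ω' h
    by_cases e : (E ω).2 = (E ω').2
    · have h1 : (E ω).1 = (E ω').1 := hθi (E ω).2 (by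
        simp only [μ] at h; rw [← e] at h; exact h)
      exact E.injective (Prod.ext h1 e)
    · exact absurd h (hsep _ _ e _ _)
  -- vanishing off `W₂`
  have hvan : ∀ f : ↥(W₁ ⊔ W₂) → ℂ,
      (∀ p q : D₁ × D₂, p.2 = q.2 → Cfsg.classInner f (al p q) = 0) →
      ∀ w : ↥(W₁ ⊔ W₂), (w : L) ∉ W₂ → f w = 0 := by
    intro f hf w hw
    let S := W₂.subgroupOf (W₁ ⊔ W₂)
    have : S.Normal := ⟨fun m hm g => by rwa [habel g m, mul_inv_cancel_right]⟩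
    obtain ⟨l, hl⟩ := CfsgLib.Char.exists_linear_ne_one (G := ↥(W₁ ⊔ W₂) ⧸ S) (fun a b => by
      obtain ⟨a, rfl⟩ := QuotientGroup.mk_surjective a
      obtain ⟨b, rfl⟩ := QuotientGroup.mk_surjective b
      rw [← QuotientGroup.mk_mul, ← QuotientGroup.mk_mul, habel])
      (g := (w : ↥(W₁ ⊔ W₂) ⧸ S)) (fun h => hw ((QuotientGroup.eq_one_iff w).mp h))
    let φ₀ : D₁ := ⟨l.comp (QuotientGroup.mk' S), fun u hu => by
      show l (u : ↥(W₁ ⊔ W₂) ⧸ S) = 1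
      rw [(QuotientGroup.eq_one_iff u).mpr hu, map_one]⟩
    let F : ↥(W₁ ⊔ W₂) → ℂ := fun u => f u * (starRingEnd ℂ) (1 - (φ₀.1 u : ℂ))
    have hF : F = 0 := by
      refine CfsgLib.Char.classFunction_eq_zero (hcf F) fun ξ hξ => ?_
      obtain ⟨ω, rfl⟩ := CfsgLib.Char.exists_hom_of_degree_one (CfsgLib.Char.irr_isCharacter hξ)
        (CfsgLib.Char.irr_degree_one_of_comm habel hξ)
      let p : D₁ × D₂ := (⟨φ₀.1 * (E ω).1.1, fun u hu => by simp [φ₀.2 u hu, (E ω).1.2 u hu]⟩, (E ω).2)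
      have hp : ee p = φ₀.1 * ω := by
        show φ₀.1 * (E ω).1.1 * (E ω).2.1 = _
        conv_rhs => rw [← hE ω]
        exact MonoidHom.ext fun u => mul_assoc _ _ _
      have hq : ee (E ω) = ω := hE ω
      have e : Cfsg.classInner F (fun u => (ω u : ℂ)) = Cfsg.classInner f (al (E ω) p) := by
        rw [Cfsg.classInner, Cfsg.classInner]
        congr 1
        refine Finset.sum_congr rfl fun u _ => ?_
        simp only [F, al, lin, hp, hq, Pi.sub_apply, MonoidHom.mul_apply, Units.val_mul, map_sub,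
          map_one, map_mul]
        ring
      rw [e]; exact hf (E ω) p rfl
    have h := congr_fun hF w
    refine (mul_eq_zero.mp h).resolve_right fun h1 => hl ?_
    rw [map_eq_zero, sub_eq_zero] at h1
    exact Units.ext h1.symm
  have hagree : ∀ ω ω' : ↥(W₁ ⊔ W₂) →* ℂˣ,
      (∀ w : ↥(W₁ ⊔ W₂), (w : L) ∈ W₂ → ω w = ω' w) → (E ω).2 = (E ω').2 := by
    intro ω ω' h
    refine Subtype.ext (MonoidHom.ext fun w => div_eq_one.mp (DFunLike.congr_fun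
      (CfsgLib.Clifford.hom_eq_one_of_sup ((E ω).2.1 / (E ω').2.1) (fun w hw => ?_) fun w hw => ?_) w))
    · simp [(E ω).2.2 w hw, (E ω').2.2 w hw]
    · have h1 := h w hw
      rw [← hE ω, ← hE ω', MonoidHom.mul_apply, MonoidHom.mul_apply, (E ω).1.2 w hw,
        (E ω').1.2 w hw, one_mul, one_mul] at h1
      rw [MonoidHom.div_apply, h1, div_self']
  have hfrob : ∀ (χ : L → ℂ), Cfsg.IsClassFunction L χ → ∀ p q : D₁ × D₂,
      Cfsg.classInner (fun w : ↥(W₁ ⊔ W₂) => χ w) (al p q) =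
        Cfsg.classInner χ (Cfsg.indFun (W₁ ⊔ W₂) (al p q)) := by
    intro χ hχ p q
    rw [← CfsgLib.Char.classInner_conj_symm (al p q),
      ← CfsgLib.Char.classInner_conj_symm (Cfsg.indFun _ _),
      CfsgLib.Char.frobenius_reciprocity _ _ _ hχ]
  have hval : ∀ ω, ∀ w : ↥(W₁ ⊔ W₂), (w : L) ∉ W₂ → μ ω w = δ ω * (ω w : ℂ) := by
    intro ω w hw
    refine sub_eq_zero.mp (hvan (fun u => μ ω u - δ ω * (ω u : ℂ)) (fun p q hpq => ?_) w hw)
    show Cfsg.classInner ((fun u : ↥(W₁ ⊔ W₂) => μ ω u) - (δ ω • lin ω)) (al p q) = 0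
    rw [CfsgLib.Char.classInner_sub_left, hfrob _ (CfsgLib.Char.irr_isClassFunction (hθ _ _))]
    obtain ⟨a, ψ⟩ := p
    obtain ⟨b, ψ'⟩ := q
    obtain rfl : ψ = ψ' := hpq
    have hk : ∀ c, Cfsg.classInner (θ (E ω).2 (E ω).1) (θ ψ c) =
        if ω = ee (c, ψ) then 1 else 0 := by
      intro c
      show Cfsg.classInner (μ ω) (θ ψ c) = _
      rw [CfsgLib.Char.irr_classInner (hθ _ _) (hθ _ _)]
      have hμc : θ ψ c = μ (ee (c, ψ)) := by simp only [μ, ee, hE' (c, ψ)]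
      rw [hμc]
      exact if_congr hμinj.eq_iff rfl rfl
    have hεr : (starRingEnd ℂ) (ε ψ) = ε ψ := by rcases hε ψ with h | h <;> simp [h]
    rw [hθd, CfsgLib.Char.classInner_smul_left]
    simp only [al, CfsgLib.Char.classInner_smul_right, CfsgLib.Char.classInner_sub_right, hεr, hk, hW]
    have hδ : ∀ c, ω = ee (c, ψ) → δ ω = ε ψ := fun c hc => by
      rw [hc]; simp only [δ, ee, hE' (c, ψ)]
    split_ifs with h1 h2 h2
    · ring
    · rw [hδ a h1]; ring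
    · rw [hδ b h2]; ring
    · ring
  refine ⟨μ, δ, hμinj, fun ω => hθ _ _, fun ω => hε _, fun ω ω' h => ?_, hval, ?_, fun ω => ?_⟩
  · have hψ := hagree ω ω' h
    refine ⟨congr_arg ε hψ, ?_⟩
    have h1 := hθd (E ω).2 (E ω).1 (E ω').1
    simp only [al, ee, hE ω] at h1
    rw [show (E ω').1.1 * (E ω).2.1 = ω' by rw [hψ]; exact hE ω'] at h1
    simp only [μ, δ, ← hψ]
    exact h1
  · intro χ hχ hne w hw
    refine hvan (fun u => χ u) (fun p q hpq => ?_) w hw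
    rw [hfrob _ (CfsgLib.Char.irr_isClassFunction hχ)]
    obtain ⟨a, ψ⟩ := p
    obtain ⟨b, ψ'⟩ := q
    obtain rfl : ψ = ψ' := hpq
    have hk : ∀ c, Cfsg.classInner χ (θ ψ c) = 0 := fun c =>
      CfsgLib.Char.irr_classInner_ne hχ (hθ ψ c) (fun h => hne (ee (c, ψ)) (by
        simp only [μ, ee, hE' (c, ψ)]; exact h))
    rw [hθd, CfsgLib.Char.classInner_smul_right, CfsgLib.Char.classInner_sub_right, hk, hk,
      sub_self, mul_zero]
  · have : Fintype W₁ := Fintype.ofFinite _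
    let i₁ := Subgroup.inclusion (le_sup_left : W₁ ≤ W₁ ⊔ W₂)
    let f : W₁ → ℂ := (fun x => μ ω (W₁.subtype x)) - δ ω • fun x => ((ω.comp i₁) x : ℂ)
    have hlinW₁ := CfsgLib.Char.isGeneralized_of_isCharacter
      (CfsgLib.Char.irr_isCharacter (CfsgLib.Char.isIrrCharacter_linear (ω.comp i₁)))
    have hμW₁ : Cfsg.IsGeneralizedCharacter W₁ (fun x => μ ω (W₁.subtype x)) :=
      CfsgLib.Char.isGeneralized_of_isCharacter (CfsgLib.Char.isCharacter_comp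
        (CfsgLib.Char.irr_isCharacter (hθ _ _)) W₁.subtype)
    have hf : Cfsg.IsGeneralizedCharacter W₁ f := by
      rcases hε (E ω).2 with h | h
      · simpa [f, δ, h] using CfsgLib.Char.isGeneralized_sub hμW₁ hlinW₁
      · simpa [f, δ, h] using CfsgLib.Char.isGeneralized_add hμW₁ hlinW₁
    obtain ⟨m, hm⟩ := CfsgLib.Char.classInner_isGeneralized_int hf
      (CfsgLib.Char.isGeneralized_of_isCharacter (CfsgLib.Char.irr_isCharacter CfsgLib.Char.isIrrCharacter_one))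
    refine ⟨m, ?_⟩
    rw [CfsgLib.Char.classInner_def, Finset.sum_eq_single (1 : W₁) (fun x _ hx => ?_)
      (fun h => absurd (Finset.mem_univ _) h)] at hm
    · simp only [f, Pi.sub_apply, Pi.smul_apply, map_one, Units.val_one, smul_eq_mul, mul_one,
        OneMemClass.coe_one, Subgroup.coe_subtype] at hm
      rw [← hm, mul_comm, ← mul_assoc,
        mul_inv_cancel₀ (Nat.cast_ne_zero.mpr Nat.card_pos.ne'), one_mul]
    · have hx2 : ((i₁ x : ↥(W₁ ⊔ W₂)) : L) ∉ W₂ := fun h => hx (Subtype.ext (by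
        rw [OneMemClass.coe_one, ← Subgroup.mem_bot, ← hdisj]; exact ⟨x.2, h⟩))
      rw [map_one, mul_one]
      simp only [f, Pi.sub_apply, Pi.smul_apply, smul_eq_mul, MonoidHom.comp_apply, sub_eq_zero]
      exact hval ω (i₁ x) hx2

end Cfsg.Agent.S1511
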