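import Cfsg.Statements.S1523
import Cfsg.Agent.Lib.Char.Integral
import Cfsg.Agent.Lib.Clifford.ClassSum
import Cfsg.Agent.Lib.Char.Inner
import Cfsg.Agent.Lib.Char.Column
import Mathlib.GroupTheory.Sylow

set_option autoImplicit false
open Cfsg

namespace Cfsg.Agent.S1523

theorem mem_of_pow_eq_one {G : Type*} [Group G] [Finite G] {p : ℕ} [Fact p.Prime] (P : Sylow p G)
    {u : G} (hu : u ∈ Subgroup.normalizer ((P : Subgroup G) : Set G)) {k : ℕ}
    (hk : u ^ p ^ k = 1) : u ∈ (P : Subgroup G) := by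
  let N := Subgroup.normalizer ((P : Subgroup G) : Set G)
  let P' := (P : Subgroup G).subgroupOf N
  have : P'.Normal := Subgroup.normal_in_normalizer
  have hcop : Nat.Coprime (p ^ k) P'.index := by
    refine Nat.Coprime.pow_left _ ((Fact.out : p.Prime).coprime_iff_not_dvd.mpr fun h => ?_)
    exact P.not_dvd_index (h.trans (Subgroup.relIndex_dvd_index_of_le (H := (P : Subgroup G))
      (K := N) Subgroup.le_normalizer))
  have h1 : (⟨u, hu⟩ : N) ^ P'.index ∈ P' := P'.pow_index_mem _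
  have h2 : (⟨u, hu⟩ : N) ^ p ^ k ∈ P' := by
    rw [show (⟨u, hu⟩ : N) ^ p ^ k = 1 from Subtype.ext (by simpa using hk)]
    exact P'.one_mem
  have h3 : (⟨u, hu⟩ : N) ^ ((Nat.gcd (p ^ k) P'.index : ℕ) : ℤ) ∈ P' := by
    rw [Nat.gcd_eq_gcd_ab, zpow_add, zpow_mul, zpow_mul, zpow_natCast, zpow_natCast]
    exact P'.mul_mem (P'.zpow_mem h2 _) (P'.zpow_mem h1 _)
  rw [hcop, Nat.cast_one, zpow_one] at h3
  exact h3

theorem dvd_natCard_of_free {P α : Type*} [Group P] [MulAction P α] [Finite α] [Finite P]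
    (h : ∀ (u : P) (x : α), u • x = x → u = 1) : Nat.card P ∣ Nat.card α := by
  refine ⟨Nat.card (MulAction.orbitRel.Quotient P α), ?_⟩
  rw [Nat.card_congr (MulAction.selfEquivSigmaOrbitsQuotientStabilizer P α)]
  have hq : ∀ ω : MulAction.orbitRel.Quotient P α,
      Nat.card (P ⧸ MulAction.stabilizer P ω.out) = Nat.card P := fun ω => by
    rw [show MulAction.stabilizer P ω.out = ⊥ from (Subgroup.eq_bot_iff_forall _).mpr fun u hu => h u _ hu]
    exact Nat.card_congr (QuotientGroup.quotientBot (G := P)).toEquiv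
  have := Fintype.ofFinite (MulAction.orbitRel.Quotient P α)
  rw [Nat.card_sigma, Finset.sum_congr rfl fun ω _ => hq ω, Finset.sum_const, Finset.card_univ,
    smul_eq_mul, Nat.card_eq_fintype_card (α := MulAction.orbitRel.Quotient P α), mul_comm]

section Key

variable {G : Type*} [Group G] [Fintype G] {p : ℕ} [Fact p.Prime] (P : Sylow p G)
  (hTI : Cfsg.IsTISubset ((P : Subgroup G) : Set G)) (Z : Subgroup G) (hZP : Z ≤ P)
  (hZn : ∀ x ∈ Subgroup.normalizer ((P : Subgroup G) : Set G), ∀ z ∈ Z, x * z * x⁻¹ ∈ Z)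

include hTI hZP hZn

open Classical in
theorem dvd_card_pairs {a b c : G} (ha : a ∈ Z) (ha1 : a ≠ 1) (hb : b ∈ Z) (hb1 : b ≠ 1)
    (hc1 : c ≠ 1) (hc : ∀ z ∈ Z, z ≠ 1 → ¬ IsConj z c) :
    Nat.card (P : Subgroup G) ∣
      Nat.card {w : G × G // IsConj a w.1 ∧ IsConj b w.2 ∧ IsConj c (w.1 * w.2)} := by
  let α := {w : G × G // IsConj a w.1 ∧ IsConj b w.2 ∧ IsConj c (w.1 * w.2)}
  have hconj : ∀ (u : G) {x y : G}, IsConj x y → IsConj x (u * y * u⁻¹) := fun u x y h =>
    h.trans (isConj_iff.mpr ⟨u, rfl⟩)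
  letI : MulAction (P : Subgroup G) α :=
    { smul := fun u w => ⟨((u : G) * w.1.1 * (u : G)⁻¹, (u : G) * w.1.2 * (u : G)⁻¹),
        hconj u w.2.1, hconj u w.2.2.1, by
          have := hconj (u : G) w.2.2.2
          convert this using 1
          group⟩
      one_smul := fun w => Subtype.ext (Prod.ext (by show (1:G) * _ * (1:G)⁻¹ = _; simp)
        (by show (1:G) * _ * (1:G)⁻¹ = _; simp))
      mul_smul := fun u v w => Subtype.ext (Prod.ext
        (by show ((u * v : (P : Subgroup G)) : G) * _ * _ = (u : G) * ((v : G) * _ * _) * _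
            simp [mul_assoc])
        (by show ((u * v : (P : Subgroup G)) : G) * _ * _ = (u : G) * ((v : G) * _ * _) * _
            simp [mul_assoc])) }
  refine dvd_natCard_of_free fun u w hw => ?_
  by_contra hu1
  have hu1' : (u : G) ≠ 1 := fun h => hu1 (Subtype.ext h)
  have key : ∀ a x : G, a ∈ Z → a ≠ 1 → IsConj a x → (u : G) * x * (u : G)⁻¹ = x → x ∈ Z := by
    intro a x ha ha1 hx hux
    obtain ⟨g, rfl⟩ := isConj_iff.mp hx
    have hC : g⁻¹ * u * g ∈ Subgroup.normalizer ((P : Subgroup G) : Set G) := by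
      by_contra hn
      refine ha1 (hTI _ hn a (hZP ha) ?_)
      rw [show g⁻¹ * u * g * a * (g⁻¹ * u * g)⁻¹ = g⁻¹ * ((u : G) * (g * a * g⁻¹) * (u : G)⁻¹) * g
        by group, hux]
      rw [show g⁻¹ * (g * a * g⁻¹) * g = a by group]
      exact hZP ha
    obtain ⟨k, hk⟩ := P.isPGroup' u
    have hP : g⁻¹ * u * g ∈ (P : Subgroup G) := mem_of_pow_eq_one P hC (k := k) (by
      have h := conj_pow (a := g⁻¹) (b := (u : G)) (i := p ^ k)
      rw [inv_inv] at h
      rw [h, show (u : G) ^ p ^ k = 1 from congr_arg Subtype.val hk]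
      group)
    have hg : g ∈ Subgroup.normalizer ((P : Subgroup G) : Set G) := by
      by_contra hn
      have := hTI g hn _ hP (by
        rw [show g * (g⁻¹ * u * g) * g⁻¹ = u by group]; exact u.2)
      rw [mul_assoc, inv_mul_eq_one, eq_comm, mul_eq_right] at this
      exact hu1' this
    exact hZn g hg a ha
  have h1 : w.1.1 ∈ Z := key a _ ha ha1 w.2.1 (congr_arg (fun v : α => v.1.1) hw)
  have h2 : w.1.2 ∈ Z := key b _ hb hb1 w.2.2.1 (congr_arg (fun v : α => v.1.2) hw)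
  by_cases h0 : w.1.1 * w.1.2 = 1
  · have := w.2.2.2
    rw [h0] at this
    exact hc1 (isConj_one_right.mp this.symm)
  · exact hc _ (Z.mul_mem h1 h2) h0 w.2.2.2.symm

variable {ψ : G → ℂ} (hψ : Cfsg.IsIrrCharacter G ψ) {n : ℤ}
  (hn : ∀ z ∈ Z, z ≠ 1 → ψ z = n)

include hψ hn

open Classical in
theorem sum_class_split {a b : G} (ha : a ∈ Z) (ha1 : a ≠ 1) (hb : b ∈ Z) (hb1 : b ≠ 1) :
    ∃ α : ℂ, IsIntegral ℤ α ∧
      ∑ x ∈ Finset.univ.filter (IsConj a), ∑ y ∈ Finset.univ.filter (IsConj b), ψ (x * y) =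
        (n : ℂ) * ((Finset.univ.filter (IsConj a)).card : ℂ) * (Finset.univ.filter (IsConj b)).card +
        (((Finset.univ.filter (IsConj a)).filter fun x => IsConj b x⁻¹).card : ℂ) * (ψ 1 - n) +
        (Nat.card (P : Subgroup G) : ℂ) * α := by
  let A := Finset.univ.filter (IsConj a)
  let B := Finset.univ.filter (IsConj b)
  let m : G → ℕ := fun c => (A.filter fun x => IsConj b (x⁻¹ * c)).card
  let E : Finset G := Finset.univ.filter fun c => c ≠ 1 ∧ ∀ z ∈ Z, z ≠ 1 → ¬ IsConj z c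
  have hm : ∀ F : G → ℂ, ∑ x ∈ A, ∑ y ∈ B, F (x * y) = ∑ c, (m c : ℂ) * F c := by
    intro F
    have h : ∀ c, (m c : ℂ) * F c = ∑ x ∈ A, if IsConj b (x⁻¹ * c) then F c else 0 := fun c => by
      rw [← Finset.sum_filter, Finset.sum_const, nsmul_eq_mul]
    refine Eq.trans ?_ ((Finset.sum_congr rfl fun c _ => h c).trans Finset.sum_comm).symm
    refine Finset.sum_congr rfl fun x _ => ?_
    rw [← Finset.sum_filter]
    exact Finset.sum_nbij' (fun y => x * y) (fun c => x⁻¹ * c) (fun y hy => by simpa [B] using hy)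
      (fun c hc => by simpa [B] using hc) (fun y _ => by simp) (fun c _ => by simp) (fun y _ => rfl)
  have hm1 : ∑ c, (m c : ℂ) = (A.card : ℂ) * B.card := by
    have := hm (fun _ => 1)
    simpa using this.symm
  have hval : ∀ c, c ∉ E → c ≠ 1 → ψ c = n := by
    intro c hc hc1
    simp only [E, Finset.mem_filter, Finset.mem_univ, true_and, not_and, not_forall, not_not] at hc
    obtain ⟨z, hz, hz1, hzc⟩ := hc hc1
    rw [← hn z hz hz1]
    obtain ⟨g, rfl⟩ := isConj_iff.mp hzc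
    exact CfsgLib.Char.irr_isClassFunction hψ z g
  have h1E : (1 : G) ∉ E := by simp [E]
  have hsplit : ∑ c, (m c : ℂ) * ψ c = (n : ℂ) * A.card * B.card + (m 1 : ℂ) * (ψ 1 - n) +
      ∑ c ∈ E, (m c : ℂ) * (ψ c - n) := by
    have h2 : ∑ c, (m c : ℂ) * (ψ c - n) = ∑ c ∈ insert 1 E, (m c : ℂ) * (ψ c - n) :=
      (Finset.sum_subset (Finset.subset_univ _) fun c _ hc => by
        rw [Finset.mem_insert, not_or] at hc
        rw [hval c hc.2 hc.1, sub_self, mul_zero]).symm
    rw [Finset.sum_insert h1E] at h2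
    have h3 : ∑ c, (m c : ℂ) * (ψ c - n) = ∑ c, (m c : ℂ) * ψ c - (∑ c, (m c : ℂ)) * n := by
      simp [mul_sub, Finset.sum_sub_distrib, Finset.sum_mul]
    rw [h3, hm1] at h2
    linear_combination h2
  have hEc : ∀ c ∈ E, ∀ c', IsConj c c' → c' ∈ E := by
    intro c hc c' h
    simp only [E, Finset.mem_filter, Finset.mem_univ, true_and] at hc ⊢
    refine ⟨fun h' => hc.1 ?_, fun z hz hz1 hzc => hc.2 z hz hz1 (hzc.trans h.symm)⟩
    subst h'; exact isConj_one_right.mp h.symm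
  have hclass : ∀ C : ConjClasses G, ∃ α : ℂ, IsIntegral ℤ α ∧
      ∑ c ∈ E.filter (fun c => ConjClasses.mk c = C), (m c : ℂ) * (ψ c - n) =
        (Nat.card (P : Subgroup G) : ℂ) * α := by
    intro C
    rcases (E.filter (fun c => ConjClasses.mk c = C)).eq_empty_or_nonempty with h | ⟨c, hc⟩
    · exact ⟨0, isIntegral_zero, by rw [h]; simp⟩
    obtain ⟨hcE, rfl⟩ := Finset.mem_filter.mp hc
    have hKeq : E.filter (fun x => ConjClasses.mk x = ConjClasses.mk c) =
        Finset.univ.filter (IsConj c) := by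
      ext x
      simp only [Finset.mem_filter, Finset.mem_univ, true_and, ConjClasses.mk_eq_mk_iff_isConj]
      exact ⟨fun h => h.2.symm, fun h => ⟨hEc c hcE x h, h.symm⟩⟩
    have hmem := hcE
    simp only [E, Finset.mem_filter, Finset.mem_univ, true_and] at hmem
    have hcard : Nat.card {w : G × G // IsConj a w.1 ∧ IsConj b w.2 ∧ IsConj c (w.1 * w.2)} =
        ∑ x ∈ Finset.univ.filter (IsConj c), m x := by
      rw [Nat.card_eq_fintype_card, Fintype.card_subtype]
      rw [Finset.card_eq_sum_card_fiberwise (f := fun w : G × G => w.1 * w.2)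
        (t := Finset.univ.filter (IsConj c)) (fun w hw => by simp_all)]
      refine Finset.sum_congr rfl fun x hx => ?_
      refine Finset.card_bij' (fun w _ => w.1) (fun y _ => (y, y⁻¹ * x)) ?_ ?_ ?_ ?_
      · intro w hw
        simp only [Finset.mem_filter, Finset.mem_univ, true_and] at hw
        refine Finset.mem_filter.mpr ⟨Finset.mem_filter.mpr ⟨Finset.mem_univ _, hw.1.1⟩, ?_⟩
        rw [← hw.2, inv_mul_cancel_left]; exact hw.1.2.1
      · intro y hy
        simp only [A, Finset.mem_filter, Finset.mem_univ, true_and] at hy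
        refine Finset.mem_filter.mpr ⟨Finset.mem_filter.mpr ⟨Finset.mem_univ _, hy.1, hy.2, ?_⟩, ?_⟩
        · rw [mul_inv_cancel_left]; exact (Finset.mem_filter.mp hx).2
        · exact mul_inv_cancel_left _ _
      · intro w hw
        simp only [Finset.mem_filter] at hw
        rw [← hw.2, inv_mul_cancel_left]
      · intro y _; rfl
    have hdvd := hcard ▸ dvd_card_pairs P hTI Z hZP hZn ha ha1 hb hb1 hmem.1 hmem.2
    have hconst : ∀ x ∈ Finset.univ.filter (IsConj c), m x = m c := by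
      intro x hx
      obtain ⟨g, rfl⟩ := isConj_iff.mp (Finset.mem_filter.mp hx).2
      refine Finset.card_bij' (fun y _ => g⁻¹ * y * g) (fun y _ => g * y * g⁻¹) ?_ ?_ ?_ ?_
      · intro y hy
        simp only [A, Finset.mem_filter, Finset.mem_univ, true_and] at hy ⊢
        refine ⟨hy.1.trans (isConj_iff.mpr ⟨g⁻¹, by group⟩), hy.2.trans (isConj_iff.mpr ⟨g⁻¹, by group⟩)⟩
      · intro y hy
        simp only [A, Finset.mem_filter, Finset.mem_univ, true_and] at hy ⊢
        refine ⟨hy.1.trans (isConj_iff.mpr ⟨g, rfl⟩), hy.2.trans (isConj_iff.mpr ⟨g, by group⟩)⟩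
      · intro y _; group
      · intro y _; group
    obtain ⟨t, ht⟩ := hdvd
    refine ⟨(t : ℂ) * (ψ c - n), (isIntegral_algebraMap (x := (t : ℤ))).mul
      ((by obtain ⟨k, ρ, hρ, rfl⟩ := hψ; exact CfsgLib.Char.char_isIntegral ρ c : IsIntegral ℤ (ψ c)).sub
        isIntegral_algebraMap), ?_⟩
    rw [hKeq, ← mul_assoc, ← Nat.cast_mul, ← ht, Nat.cast_sum, Finset.sum_mul]
    refine Finset.sum_congr rfl fun x hx => ?_
    obtain ⟨g, rfl⟩ := isConj_iff.mp (Finset.mem_filter.mp hx).2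
    rw [CfsgLib.Char.irr_isClassFunction hψ c g]
  choose α hα hαe using hclass
  refine ⟨∑ C ∈ E.image ConjClasses.mk, α C, IsIntegral.sum _ fun C _ => hα C, ?_⟩
  rw [hm ψ, hsplit, Finset.mul_sum, ← Finset.sum_congr rfl fun C _ => hαe C,
    Finset.sum_fiberwise_of_maps_to fun c hc => Finset.mem_image_of_mem _ hc]
  simp [m, A, B]

end Key

/-- Let G be a finite group, p a prime, P a Sylow p-subgroup whose underlying set is a TI-subset of G, with L the set normaliser of P of odd order. Let Z ≠ ⊥ be a subgroup of P, normal in L and central in P, such that the centralisers in L of any two non-identity elements of Z have the same order. If ψ is an irreducible character of G taking the same value at all non-identity elements of Z, then for z ∈ Z, z ≠ 1, the value ψ z is an integer n with Nat.card P dividing ψ(1) − n (as integers, ψ 1 being the degree). -/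
theorem result {G : Type*} [Group G] [Finite G] (p : ℕ) [Fact p.Prime] (P : Sylow p G) (hTI : Cfsg.IsTISubset ((P : Subgroup G) : Set G)) (hodd : Odd (Nat.card (Subgroup.normalizer ((P : Subgroup G) : Set G)))) (Z : Subgroup G) (hZ1 : Z ≠ ⊥) (hZP : Z ≤ P) (hZn : ∀ x ∈ Subgroup.normalizer ((P : Subgroup G) : Set G), ∀ z ∈ Z, x * z * x⁻¹ ∈ Z) (hZc : ∀ z ∈ Z, ∀ y ∈ (P : Subgroup G), z * y = y * z) (hCL : ∀ z ∈ Z, ∀ z' ∈ Z, z ≠ 1 → z' ≠ 1 → Nat.card ↥(Subgroup.normalizer ((P : Subgroup G) : Set G) ⊓ Subgroup.centralizer ({z} : Set G)) = Nat.card ↥(Subgroup.normalizer ((P : Subgroup G) : Set G) ⊓ Subgroup.centralizer ({z'} : Set G))) (ψ : G → ℂ) (hψ : Cfsg.IsIrrCharacter G ψ) (hconst : ∀ z ∈ Z, ∀ z' ∈ Z, z ≠ 1 → z' ≠ 1 → ψ z = ψ z') (z : G) (hz : z ∈ Z) (hz1 : z ≠ 1) : ∃ n d : ℤ, ψ z = n ∧ ψ 1 = d ∧ (Nat.card (P : Subgroup G) : ℤ) ∣ d - n := by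
  classical
  have : Fintype G := Fintype.ofFinite G
  let N := Subgroup.normalizer ((P : Subgroup G) : Set G)
  have hψ' := hψ
  obtain ⟨k, ρ, hρ, hρc⟩ := hψ'
  obtain ⟨d, hd, hd1⟩ := CfsgLib.Char.irr_apply_one_pos hψ
  -- the value is an integer
  obtain ⟨n, hn⟩ : ∃ n : ℤ, ψ z = n := by
    obtain ⟨m, hm⟩ := CfsgLib.Char.classInner_isCharacter_nat
      (CfsgLib.Char.isCharacter_restrict (CfsgLib.Char.irr_isCharacter hψ) Z)
      (CfsgLib.Char.irr_isCharacter CfsgLib.Char.isIrrCharacter_one)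
    rw [CfsgLib.Char.classInner_def] at hm
    simp only [map_one, mul_one] at hm
    have hsum : ∑ w : Z, ψ w = (d : ℂ) + ((Fintype.card Z : ℂ) - 1) * ψ z := by
      rw [← Finset.add_sum_erase _ _ (Finset.mem_univ (1 : Z)), OneMemClass.coe_one, hd1,
        Finset.sum_congr rfl (fun (w : Z) hw => hconst w w.2 z hz
          (fun h => Finset.ne_of_mem_erase hw (Subtype.ext h)) hz1), Finset.sum_const,
        Finset.card_erase_of_mem (Finset.mem_univ _), Finset.card_univ, nsmul_eq_mul,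
        Nat.cast_sub Fintype.card_pos, Nat.cast_one]
    have h1 : (1 : ℕ) < Fintype.card Z := by
      rw [← Nat.card_eq_fintype_card]; exact Z.one_lt_card_iff_ne_bot.mpr hZ1
    have h2 : ((Fintype.card Z : ℂ) - 1) ≠ 0 :=
      sub_ne_zero.mpr (by exact_mod_cast h1.ne')
    rw [inv_mul_eq_iff_eq_mul₀ (Nat.cast_ne_zero.mpr Nat.card_pos.ne'), hsum,
      Nat.card_eq_fintype_card] at hm
    have h3 : ψ z = (((((Fintype.card Z * m : ℕ) : ℚ) - d) / ((Fintype.card Z : ℚ) - 1) : ℚ) : ℂ) := by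
      push_cast
      rw [eq_div_iff h2]
      linear_combination hm
    obtain ⟨n, hn⟩ := CfsgLib.Char.exists_int_of_isIntegral_rat
      (h3 ▸ (hρc ▸ CfsgLib.Char.char_isIntegral ρ z : IsIntegral ℤ (ψ z)))
    exact ⟨n, by rw [h3, hn]; push_cast; rfl⟩
  refine ⟨n, d, hn, by rw [hd1]; simp, ?_⟩
  have hval : ∀ w ∈ Z, w ≠ 1 → ψ w = n := fun w hw hw1 => (hconst w hw z hz hw1 hz1).trans hn
  have hz' : z⁻¹ ∈ Z := Z.inv_mem hz
  have hz'1 : z⁻¹ ≠ 1 := inv_ne_one.mpr hz1
  obtain ⟨α, hα, h₀⟩ := sum_class_split P hTI Z hZP hZn hψ hval hz hz1 hz hz1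
  obtain ⟨β, hβ, h₁⟩ := sum_class_split P hTI Z hZP hZn hψ hval hz hz1 hz' hz'1
  -- `z` is not conjugate to its inverse
  have hnc : ¬ IsConj z z⁻¹ := by
    intro h
    obtain ⟨g, hg⟩ := isConj_iff.mp h
    have hgN : g ∈ N := by
      by_contra hgn
      exact hz1 (hTI g hgn z (hZP hz) (by rw [hg]; exact hZP hz'))
    have h2 : Commute (g ^ 2) z := by
      show g ^ 2 * z = z * g ^ 2
      rw [sq]
      calc g * g * z = g * (g * z * g⁻¹) * g := by group
        _ = g * z⁻¹ * g := by rw [hg]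
        _ = (g * z * g⁻¹)⁻¹ * g * g := by group
        _ = z * (g * g) := by rw [hg, inv_inv, mul_assoc]
    obtain ⟨t, ht'⟩ := hodd
    have ht : Nat.card N = 2 * t + 1 := ht'
    have hc : Commute g z := by
      have e : g ^ (2 * (t + 1)) = g := by
        rw [show 2 * (t + 1) = Nat.card N + 1 by omega, pow_succ,
          show g ^ Nat.card N = 1 from
            congr_arg Subtype.val (pow_card_eq_one' (x := (⟨g, hgN⟩ : N))), one_mul]
      rw [← e, pow_mul]
      exact h2.pow_left _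
    have hzz : z ^ 2 = 1 := by
      rw [hc.eq, mul_inv_cancel_right] at hg
      rw [sq]; exact mul_eq_one_iff_eq_inv.mpr hg
    have hzN : z ∈ N := Subgroup.le_normalizer (hZP hz)
    apply hz1
    have h3 : z ^ Nat.card N = 1 :=
      congr_arg Subtype.val (pow_card_eq_one' (x := (⟨z, hzN⟩ : N)))
    rwa [ht, pow_succ, pow_mul, hzz, one_pow, one_mul] at h3
  let A := Finset.univ.filter (IsConj z)
  have hB : (Finset.univ.filter (IsConj z⁻¹)).card = A.card := by
    refine Finset.card_bij' (fun x _ => x⁻¹) (fun x _ => x⁻¹) ?_ ?_ ?_ ?_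
    · intro x hx
      obtain ⟨g, rfl⟩ := isConj_iff.mp (Finset.mem_filter.mp hx).2
      exact Finset.mem_filter.mpr ⟨Finset.mem_univ _, isConj_iff.mpr ⟨g, by group⟩⟩
    · intro x hx
      obtain ⟨g, rfl⟩ := isConj_iff.mp (Finset.mem_filter.mp hx).2
      exact Finset.mem_filter.mpr ⟨Finset.mem_univ _, isConj_iff.mpr ⟨g, by group⟩⟩
    · intro x _; exact inv_inv x
    · intro x _; exact inv_inv x
  have hm1 : (A.filter fun x => IsConj z⁻¹ x⁻¹).card = A.card := by
    rw [Finset.filter_true_of_mem fun x hx => ?_]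
    obtain ⟨g, rfl⟩ := isConj_iff.mp (Finset.mem_filter.mp hx).2
    exact isConj_iff.mpr ⟨g, by group⟩
  have hm0 : (A.filter fun x => IsConj z x⁻¹).card = 0 := by
    rw [Finset.card_eq_zero, Finset.filter_eq_empty_iff]
    intro x hx h
    obtain ⟨g, rfl⟩ := isConj_iff.mp (Finset.mem_filter.mp hx).2
    exact hnc (h.trans (isConj_iff.mpr ⟨g⁻¹, by group⟩))
  rw [CfsgLib.Clifford.sum_class_mul_eq hψ] at h₀ h₁
  rw [hval z⁻¹ hz' hz'1, hval z hz hz1, hB, hm1, hd1] at h₁
  rw [hval z hz hz1, hm0, hd1] at h₀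
  have hkey : (A.card : ℂ) * ((d : ℂ) - n) = (Nat.card (P : Subgroup G) : ℂ) * (α - β) := by
    push_cast at h₀
    linear_combination h₀ - h₁
  have hq : (Nat.card (P : Subgroup G) : ℂ) ≠ 0 := Nat.cast_ne_zero.mpr Nat.card_pos.ne'
  obtain ⟨j, hj⟩ := CfsgLib.Char.exists_int_of_isIntegral_rat
    (q := ((A.card : ℚ) * ((d : ℚ) - n)) / Nat.card (P : Subgroup G)) (by
      push_cast
      rw [hkey, mul_div_cancel_left₀ _ hq]
      exact hα.sub hβ)
  have hdvd : (Nat.card (P : Subgroup G) : ℤ) ∣ (A.card : ℤ) * ((d : ℤ) - n) := by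
    refine ⟨j, ?_⟩
    rw [div_eq_iff (by exact_mod_cast Nat.card_pos.ne'), mul_comm (j : ℚ)] at hj
    exact_mod_cast hj
  refine Int.dvd_of_dvd_mul_right_of_gcd_one hdvd ?_
  have hk : A.card = (Subgroup.centralizer ({z} : Set G)).index := by
    rw [← CfsgLib.Char.natCard_carrier_eq_index, Nat.card_eq_fintype_card, ← Set.toFinset_card]
    congr 1
    ext x
    simp only [A, Finset.mem_filter, Finset.mem_univ, true_and, Set.mem_toFinset,
      ConjClasses.mem_carrier_iff_mk_eq, ConjClasses.mk_eq_mk_iff_isConj]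
    exact isConj_comm
  have hPC : (P : Subgroup G) ≤ Subgroup.centralizer ({z} : Set G) := fun y hy =>
    Subgroup.mem_centralizer_singleton_iff.mpr (hZc z hz y hy).symm
  obtain ⟨e, he⟩ := IsPGroup.iff_card.mp P.isPGroup'
  rw [Int.gcd_natCast_natCast, he]
  exact Nat.Coprime.pow_left _ ((Fact.out : p.Prime).coprime_iff_not_dvd.mpr fun h =>
    P.not_dvd_index (h.trans (hk ▸ Subgroup.index_dvd_of_le hPC)))

end Cfsg.Agent.S1523
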