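import Cfsg.Statements.S1503
import Mathlib
import Cfsg.Agent.Lib.Clifford.CyclicTI
import Cfsg.Agent.Lib.Char.Linear

set_option autoImplicit false
open Cfsg
open scoped ComplexConjugate

namespace Cfsg.Agent.S1503

/-- Let W₁, W₂ ≤ G with W = W₁ ⊔ W₂ and let χ an orthonormal family of irreducible characters of G up to sign, indexed by the linear characters ω of W, with χ_1 = 1, χ_ω = ω on W outside W₁ ∪ W₂, and the induction identity for (1 − φ)(1 − ψ). If θ is an irreducible character of G orthogonal to χ ω for every linear character ω of W, then θ vanishes at every element of W lying outside W₁ ∪ W₂. -/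
theorem result {G : Type*} [Group G] [Fintype G] (W₁ W₂ : Subgroup G) (hW : Cfsg.IsSelfNormalizingCyclic W₁ W₂) (χ : (↥(W₁ ⊔ W₂) →* ℂˣ) → (G → ℂ)) (hχ : Cfsg.IsCyclicTIFamily W₁ W₂ χ) (θ : G → ℂ) (hθ : Cfsg.IsIrrCharacter G θ) (horth : ∀ ω, Cfsg.classInner θ (χ ω) = 0) (w : ↥(W₁ ⊔ W₂)) (hw₁ : (w : G) ∉ W₁) (hw₂ : (w : G) ∉ W₂) : θ w = 0 := by
  classical
  obtain ⟨-, -, hdisj, hcomm, hcyc, -⟩ := hW
  have : Fintype ↥(W₁ ⊔ W₂) := Fintype.ofFinite _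
  have habel : ∀ u v : ↥(W₁ ⊔ W₂), u * v = v * u := by
    intro u v
    obtain ⟨c, hc⟩ := hcyc.exists_generator
    obtain ⟨i, rfl⟩ := hc u
    obtain ⟨j, rfl⟩ := hc v
    exact ((Commute.refl c).zpow_zpow i j).eq
  have hθcl := CfsgLib.Char.irr_isClassFunction hθ
  have hz : ∀ a b : ↥(W₁ ⊔ W₂) →* ℂˣ, (∀ w : ↥(W₁ ⊔ W₂), (w : G) ∈ W₂ → a w = 1) →
      (∀ w : ↥(W₁ ⊔ W₂), (w : G) ∈ W₁ → b w = 1) →
      Cfsg.classInner (fun w : ↥(W₁ ⊔ W₂) => θ w) (CfsgLib.Clifford.tiFun a b) = 0 := by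
    intro a b ha hb
    rw [CfsgLib.Clifford.cyclicTI_relation hχ hθcl a b ha hb, horth, horth, horth, horth]
    ring
  have hsep : ∀ (A B : Subgroup G) (v : ↥(W₁ ⊔ W₂)), (v : G) ∉ B → ∃ f : ↥(W₁ ⊔ W₂) →* ℂˣ,
      (∀ u : ↥(W₁ ⊔ W₂), (u : G) ∈ B → f u = 1) ∧ f v ≠ 1 := by
    intro A B v hv
    let S := B.subgroupOf (W₁ ⊔ W₂)
    have : S.Normal := ⟨fun n hn g => by rwa [habel g n, mul_inv_cancel_right]⟩
    obtain ⟨l, hl⟩ := CfsgLib.Char.exists_linear_ne_one (G := ↥(W₁ ⊔ W₂) ⧸ S) (fun a b => by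
      obtain ⟨a, rfl⟩ := QuotientGroup.mk_surjective a
      obtain ⟨b, rfl⟩ := QuotientGroup.mk_surjective b
      rw [← QuotientGroup.mk_mul, ← QuotientGroup.mk_mul, habel])
      (g := (v : ↥(W₁ ⊔ W₂) ⧸ S)) (fun h => hv ((QuotientGroup.eq_one_iff v).mp h))
    exact ⟨l.comp (QuotientGroup.mk' S), fun u hu => by
      show l (u : ↥(W₁ ⊔ W₂) ⧸ S) = 1
      rw [(QuotientGroup.eq_one_iff u).mpr hu, map_one], hl⟩
  obtain ⟨φ₀, hφ₀, hφw⟩ := hsep W₁ W₂ w hw₂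
  obtain ⟨ψ₀, hψ₀, hψw⟩ := hsep W₂ W₁ w hw₁
  let F : ↥(W₁ ⊔ W₂) → ℂ := fun u => θ u * conj (CfsgLib.Clifford.tiFun φ₀ ψ₀ u)
  have hcf : ∀ f : ↥(W₁ ⊔ W₂) → ℂ, Cfsg.IsClassFunction ↥(W₁ ⊔ W₂) f := fun f u g => by
    rw [habel g u, mul_inv_cancel_right]
  have hF : F = 0 := by
    refine CfsgLib.Char.classFunction_eq_zero (hcf F) fun ξ hξ => ?_
    obtain ⟨ω, rfl⟩ := CfsgLib.Char.exists_hom_of_degree_one (CfsgLib.Char.irr_isCharacter hξ)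
      (CfsgLib.Char.irr_degree_one_of_comm habel hξ)
    obtain ⟨φ, ψ, hφ, hψ, rfl⟩ := CfsgLib.Clifford.exists_hom_mul hdisj hcomm ω
    have e : Cfsg.classInner F (fun u => ((φ * ψ) u : ℂ)) =
        Cfsg.classInner (fun u : ↥(W₁ ⊔ W₂) => θ u)
          (CfsgLib.Clifford.tiFun (φ₀ * φ) (ψ₀ * ψ) - CfsgLib.Clifford.tiFun (φ₀ * φ) ψ
            - CfsgLib.Clifford.tiFun φ (ψ₀ * ψ) + CfsgLib.Clifford.tiFun φ ψ) := by
      rw [Cfsg.classInner, Cfsg.classInner]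
      congr 1
      refine Finset.sum_congr rfl fun u _ => ?_
      simp only [F, Pi.add_apply, Pi.sub_apply, ← CfsgLib.Clifford.tiFun_mul, map_mul]
      ring
    have h1 : ∀ u : ↥(W₁ ⊔ W₂), (u : G) ∈ W₂ → (φ₀ * φ) u = 1 := fun u h => by simp [hφ₀ u h, hφ u h]
    have h2 : ∀ u : ↥(W₁ ⊔ W₂), (u : G) ∈ W₁ → (ψ₀ * ψ) u = 1 := fun u h => by simp [hψ₀ u h, hψ u h]
    rw [e, CfsgLib.Char.classInner_add_right, CfsgLib.Char.classInner_sub_right,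
      CfsgLib.Char.classInner_sub_right, hz _ _ h1 h2, hz _ _ h1 hψ, hz _ _ hφ h2, hz _ _ hφ hψ]
    ring
  have hw := congr_fun hF w
  refine (mul_eq_zero.mp hw).resolve_right fun h => ?_
  have h : CfsgLib.Clifford.tiFun φ₀ ψ₀ w = 0 := (starRingEnd ℂ).injective (by rw [h, map_zero])
  have h' : (1 - (φ₀ w : ℂ)) * (1 - (ψ₀ w : ℂ)) = 0 := by
    simp only [CfsgLib.Clifford.tiFun] at h; linear_combination h
  rcases mul_eq_zero.mp h' with k | k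
  · exact hφw (Units.ext (sub_eq_zero.mp k).symm)
  · exact hψw (Units.ext (sub_eq_zero.mp k).symm)

end Cfsg.Agent.S1503
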