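import Cfsg.Statements.S1354
import Cfsg.Agent.Lib.BG.KappaDecomp

set_option autoImplicit false
open Cfsg

namespace Cfsg.Agent.S1354

/-- Let G be a minimal simple group of odd order, M a maximal subgroup and K a cyclic Hall κ(M)-subgroup of M, and put K* = M_σ ∩ C_G(K). Then K* ≠ 1, and if K ≠ 1 then for every non-identity k ∈ K the centralizer C_M(k) is the subgroup generated by K and K* (an internal direct product, as K ∩ M_σ = 1 and K* centralizes K). -/
theorem result {G : Type*} [Group G] [Finite G] (hG : Cfsg.IsMinSimpleOddOrder G)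
    (M : Subgroup G) (hM : IsCoatom M) (K : Subgroup G)
    (hKc : IsCyclic K) (hK : Cfsg.IsPiHallOf (Cfsg.kappa M) K M) :
    Cfsg.sigmaCore M ⊓ Subgroup.centralizer (K : Set G) ≠ ⊥ ∧
      (K ≠ ⊥ → ∀ k ∈ K, k ≠ 1 →
        M ⊓ Subgroup.centralizer ({k} : Set G) = K ⊔ (Cfsg.sigmaCore M ⊓ Subgroup.centralizer (K : Set G))) := by
  open Subgroup in
  refine ⟨?_, fun hK1 k hk hk1 => ?_⟩
  · rcases eq_or_ne K ⊥ with h | h
    · intro e
      refine CfsgLib.BG.sigmaCore_ne_bot hG hM (le_bot_iff.mp (e ▸ le_inf le_rfl ?_))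
      rw [h]
      intro a _
      refine mem_centralizer_iff.mpr fun b hb => ?_
      rw [SetLike.mem_coe, mem_bot] at hb
      subst hb
      simp
    · obtain ⟨k, hk, hk1⟩ := (bot_or_exists_ne_one K).resolve_left h
      obtain ⟨r, hr, hrd⟩ := Nat.exists_prime_and_dvd (mt orderOf_eq_one_iff.mp hk1)
      haveI : Fact r.Prime := ⟨hr⟩
      have ho : orderOf (k ^ (orderOf k / r)) = r := orderOf_pow_orderOf_div (orderOf_pos k).ne' hrd
      rw [← CfsgLib.BG.kappa_prime_action hG hM hK.1 hK.2.1 (pow_mem hk (orderOf k / r))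
        (fun e => hr.ne_one (by rw [← ho, e, orderOf_one])), ← CfsgLib.BG.centralizer_zpowers_eq]
      exact CfsgLib.BG.fixed_of_kappa hG hM (hK.2.1 r hr (hrd.trans (orderOf_dvd_natCard K hk)))
        (zpowers_le.mpr (pow_mem (hK.1 hk) _)) (by rw [Nat.card_zpowers, ho])
  · obtain ⟨U, hU⟩ := CfsgLib.BG.exists_decomposition hG hM hKc hK
    haveI := hKc
    refine le_antisymm ?_ (sup_le (le_inf hK.1 ?_) (le_inf (inf_le_left.trans (CfsgLib.BG.sigmaCore_le M))
      (inf_le_right.trans (centralizer_le (Set.singleton_subset_iff.mpr hk)))))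
    · intro m hm
      obtain ⟨hmM, hmk⟩ := mem_inf.mp hm
      have hmk' : m * k = k * m := mem_centralizer_singleton_iff.mp hmk
      obtain ⟨u, hu, z, hz, rfl⟩ := hU.compl.2.2.2 m hmM
      have hKn : K ≤ normalizer ((K ⊔ Cfsg.sigmaCore M : Subgroup G) : Set G) := le_sup_left.trans le_normalizer
      have hu1 : u = 1 := by
        have h1 : k * u * k⁻¹ * u⁻¹ ∈ U := mul_mem ((mem_normalizer_iff.mp (hU.normal hk) u).mp hu) (inv_mem hu)
        have hkz : k * z * k⁻¹ ∈ K ⊔ Cfsg.sigmaCore M := (mem_normalizer_iff.mp (hKn hk) z).mp hz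
        have h2 : u⁻¹ * (k * u * k⁻¹) = z * (k * z * k⁻¹)⁻¹ := by
          have h3 : k * (u * z) * k⁻¹ = u * z := by rw [← hmk']; group
          calc u⁻¹ * (k * u * k⁻¹) = u⁻¹ * (k * (u * z) * k⁻¹) * (k * z * k⁻¹)⁻¹ := by group
            _ = z * (k * z * k⁻¹)⁻¹ := by rw [h3]; group
        have h4 : u⁻¹ * (k * u * k⁻¹) ∈ U ⊓ (K ⊔ Cfsg.sigmaCore M) := mem_inf.mpr
          ⟨mul_mem (inv_mem hu) ((mem_normalizer_iff.mp (hU.normal hk) u).mp hu), by
            rw [h2]; exact mul_mem hz (inv_mem hkz)⟩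
        rw [hU.compl.2.2.1, mem_bot, inv_mul_eq_one] at h4
        have h5 : u ∈ U ⊓ centralizer ({k} : Set G) := mem_inf.mpr ⟨hu, mem_centralizer_singleton_iff.mpr
          (by conv_lhs => rw [h4]
              group)⟩
        rwa [CfsgLib.BG.decomp_regular hG hM hU hk hk1, mem_bot] at h5
      subst hu1
      rw [one_mul] at hmk' ⊢
      rw [sup_comm] at hz
      obtain ⟨s, hs, a, ha, rfl⟩ := (CfsgLib.Coprime.mem_sup_of_le_normalizer
        (hK.1.trans (CfsgLib.BG.le_normalizer_sigmaCore M))).mp hz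
      have hak : a * k = k * a :=
        congrArg Subtype.val ((IsCyclic.isMulCommutative (α := K)).is_comm.comm ⟨a, ha⟩ ⟨k, hk⟩)
      have hsk : s * k = k * s := by
        calc s * k = s * a * k * a⁻¹ := by rw [mul_assoc s a k, hak]; group
          _ = k * (s * a) * a⁻¹ := by rw [hmk']
          _ = k * s := by group
      refine mul_mem (mem_sup_right (mem_inf.mpr ⟨hs, ?_⟩)) (mem_sup_left ha)
      have : s ∈ Cfsg.sigmaCore M ⊓ centralizer ({k} : Set G) :=
        mem_inf.mpr ⟨hs, mem_centralizer_singleton_iff.mpr hsk⟩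
      rw [CfsgLib.BG.kappa_prime_action hG hM hK.1 hK.2.1 hk hk1] at this
      exact (mem_inf.mp this).2
    · intro a ha
      exact mem_centralizer_singleton_iff.mpr
        (congrArg Subtype.val ((IsCyclic.isMulCommutative (α := K)).is_comm.comm ⟨a, ha⟩ ⟨k, hk⟩))


end Cfsg.Agent.S1354
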