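import Cfsg.Statements.S1451
import Cfsg.Agent.Lib.OddLocal.NilpotentDerived

set_option autoImplicit false
open Cfsg
open scoped commutatorElement

namespace Cfsg.Agent.S1451

open Subgroup CfsgLib.OddLocal in
open scoped commutatorElement in
theorem pPow_coprime {G : Type*} [Group G] [Finite G] {r : ℕ} {z : G} (hr : r.Prime)
    (hz : IsPGroup r (zpowers z)) {p : ℕ} (hp : p.Prime) (hne : p ≠ r) : (orderOf z).Coprime p := by
  haveI := Fact.mk hr
  obtain ⟨k, hk⟩ := IsPGroup.iff_card.1 hz
  rw [Nat.card_zpowers] at hk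
  rw [hk]
  exact Nat.Coprime.pow_left k ((Nat.coprime_primes hr hp).2 hne.symm)

open Subgroup CfsgLib.OddLocal in
theorem hall_core {G : Type*} [Group G] [Finite G] [Group.IsSolvable G] (hodd : Odd (Nat.card G))
    (hle : _root_.commutator G ≤ Cfsg.fittingSubgroup G)
    (hrT : ∀ r : ℕ, r.Prime → Cfsg.PRankLE r 2 (Cfsg.pCore r G)) (p : ℕ) :
    ∃ N : Subgroup G, N.Characteristic ∧ Cfsg.IsPiHall {q | q.Prime ∧ p < q} N := by
  classical
  set π : Set ℕ := {q | q.Prime ∧ p < q} with hπ
  set N := Cfsg.piCore π G with hN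
  have hNch : N.Characteristic := by
    rw [characteristic_iff_map_le]
    intro φ
    refine le_piCore ((inferInstance : N.Normal).map _ φ.surjective) fun r hr hd => ?_
    rw [card_map_of_injective φ.injective] at hd
    exact piCore_spec π r hr hd
  refine ⟨N, hNch, piCore_spec π, fun q hq hqπ hqd => ?_⟩
  haveI := Fact.mk hq
  -- every `q`-element lies in `N`
  suffices key : ∀ y : G, IsPGroup q (zpowers y) → y ∈ N by
    obtain ⟨S⟩ : Nonempty (Sylow q G) := inferInstance
    exact S.not_dvd_index (hqd.trans (index_dvd_of_le fun y hy => key y (S.2.to_le (zpowers_le.2 hy))))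
  intro y hy
  set C : Subgroup G := ⨅ r : {r : ℕ // r.Prime ∧ r ∉ π}, centralizer (Cfsg.pCore r.1 G : Set G) with hC
  haveI hCn : C.Normal := by
    constructor
    intro z hz g
    rw [hC, mem_iInf] at hz ⊢
    intro r
    haveI := CfsgLib.Solvable.pCore_normal r.1 G
    exact (inferInstance : (centralizer (Cfsg.pCore r.1 G : Set G)).Normal).conj_mem z (hz r) g
  -- a `π`-element of prime-power order centralizes the `π'`-part
  have hπC : ∀ s : ℕ, s ∈ π → ∀ z : G, IsPGroup s (zpowers z) → z ∈ C := by
    rintro s ⟨hs, hps⟩ z hz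
    rw [hC, mem_iInf]
    rintro ⟨r, hr, hrπ⟩
    show z ∈ centralizer (Cfsg.pCore r G : Set G)
    haveI := Fact.mk hr
    haveI := Fact.mk hs
    have hrs : r < s := lt_of_le_of_lt (not_lt.1 fun h => hrπ ⟨hr, h⟩) hps
    set T := Cfsg.pCore r G with hT
    haveI : T.Normal := CfsgLib.Solvable.pCore_normal r G
    by_cases hr2 : r = 2
    · have hT1 : T = ⊥ := by
        obtain ⟨k, hk⟩ := IsPGroup.iff_card.1 (CfsgLib.Solvable.pCore_isPGroup (G := G) r)
        rcases k with _ | k
        · exact eq_bot_of_card_eq _ (by rw [hT, hk, pow_zero])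
        · exfalso
          refine (Nat.not_even_iff_odd.2 hodd) (even_iff_two_dvd.2 ?_)
          exact hr2 ▸ (show r ∣ Nat.card T by rw [hT, hk]; exact dvd_pow_self r (Nat.succ_ne_zero _)).trans
            (card_subgroup_dvd_card T)
      rw [hT1, mem_centralizer_iff]
      intro w hw
      rw [SetLike.mem_coe, mem_bot] at hw
      rw [hw, one_mul, mul_one]
    have hTN : (⊤ : Subgroup G) ≤ normalizer (T : Set G) := by rw [normalizer_eq_top]
    set φ : G →* MulAut T :=
      (CfsgLib.Coprime.conjHom (A := (⊤ : Subgroup G)) hTN).comp topEquiv.symm.toMonoidHom with hφ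
    obtain ⟨k, hk⟩ := IsPGroup.iff_orderOf.1 hz ⟨z, mem_zpowers z⟩
    rw [Subgroup.orderOf_mk] at hk
    have h1 : φ z = 1 := by
      by_contra hne
      obtain ⟨j, -, hj⟩ := (Nat.dvd_prime_pow hs).1 ((orderOf_map_dvd φ z).trans hk.dvd)
      have hj0 : j ≠ 0 := fun h => hne (orderOf_eq_one_iff.1 (by rw [hj, h, pow_zero]))
      have hd : s ∣ Nat.card (MulAut T) :=
        ((dvd_pow_self s hj0).trans hj.symm.dvd).trans (orderOf_dvd_natCard (φ z))
      exact absurd (dvd_card_gl_two_of_prime_dvd_aut hr2 (CfsgLib.Solvable.pCore_isPGroup r) (hrT r hr)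
        hs hrs.ne' hd).2 (not_lt.2 hrs.le)
    rw [mem_centralizer_iff]
    intro w hw
    have h2 : z * w * z⁻¹ = w := congrArg (fun f : MulAut T => ((f ⟨w, hw⟩ : T) : G)) h1
    exact (mul_inv_eq_iff_eq_mul.1 h2).symm
  have hyC : y ∈ C := hπC q hqπ y hy
  -- `C` is nilpotent modulo `N`
  set f := QuotientGroup.mk' N
  have hfs : Function.Surjective f := QuotientGroup.mk'_surjective N
  set Cb := C.map f with hCb
  haveI : Cb.Normal := hCn.map f hfs
  haveI hFn : (Cfsg.fittingSubgroup G).Normal := CfsgLib.Solvable.fittingSubgroup_normal G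
  have hcen : ∀ z ∈ _root_.commutator G, ∀ c ∈ C, f z * f c = f c * f z := by
    intro z hz c hc
    let W : Subgroup G := (centralizer ({f c} : Set (G ⧸ N))).comap f
    have : _root_.commutator G ≤ W := by
      refine le_of_prime_power_elements fun r hr w hw hwr => ?_
      haveI := Fact.mk hr
      have hwT : w ∈ Cfsg.pCore r G :=
        mem_pCore_of_mem_nilpotent CfsgLib.Solvable.fittingSubgroup_isNilpotent (hle hw) hwr
      rw [mem_comap, mem_centralizer_singleton_iff]
      by_cases hrπ : r ∈ π
      · have h1 : Cfsg.pCore r G ≤ N := by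
          refine le_piCore (CfsgLib.Solvable.pCore_normal r G) fun t ht htd => ?_
          obtain ⟨k, hk⟩ := IsPGroup.iff_card.1 (CfsgLib.Solvable.pCore_isPGroup (G := G) r)
          rw [hk] at htd
          rw [(Nat.prime_dvd_prime_iff_eq ht hr).1 (ht.dvd_of_dvd_pow htd)]
          exact hrπ
        rw [show f w = 1 from (QuotientGroup.eq_one_iff w).2 (h1 hwT), one_mul, mul_one]
      · rw [hC, mem_iInf] at hc
        rw [← map_mul, ← map_mul, mem_centralizer_iff.1 (hc ⟨r, hr, hrπ⟩) w hwT]
    exact mem_centralizer_singleton_iff.1 (this hz)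
  have hnil : Group.IsNilpotent Cb := by
    have hcc : _root_.commutator Cb ≤ center Cb := by
      rw [_root_.commutator_def, commutator_le]
      rintro ⟨_, a, ha, rfl⟩ _ ⟨_, b, hb, rfl⟩ _
      rw [mem_center_iff]
      rintro ⟨_, c, hc, rfl⟩
      refine Subtype.ext ?_
      show f c * ⁅f a, f b⁆ = ⁅f a, f b⁆ * f c
      rw [← map_commutatorElement]
      exact (hcen _ (by rw [_root_.commutator_def]; exact commutator_mem_commutator (mem_top _) (mem_top _)) c hc).symm
    refine Group.of_quotient_center_nilpotent ?_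
    let _ : CommGroup (Cb ⧸ center Cb) :=
      { (inferInstance : Group (Cb ⧸ center Cb)) with
        mul_comm := fun a b => by
          obtain ⟨a, rfl⟩ := QuotientGroup.mk'_surjective (center Cb) a
          obtain ⟨b, rfl⟩ := QuotientGroup.mk'_surjective (center Cb) b
          refine commutatorElement_eq_one_iff_mul_comm.1 ?_
          rw [← map_commutatorElement]
          exact (QuotientGroup.eq_one_iff _).2 (hcc (by
            rw [_root_.commutator_def]; exact commutator_mem_commutator (mem_top _) (mem_top _))) }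
    exact CommGroup.isNilpotent
  have hyb : IsPGroup q (zpowers (f y)) := by
    have := hy.map f
    rwa [MonoidHom.map_zpowers] at this
  have hyT : f y ∈ Cfsg.pCore q (G ⧸ N) := mem_pCore_of_mem_nilpotent hnil ⟨y, hyC, rfl⟩ hyb
  haveI := CfsgLib.Solvable.pCore_normal q (G ⧸ N)
  set K := (Cfsg.pCore q (G ⧸ N)).comap f with hK
  have hKN : K ≤ N := by
    refine le_piCore ((CfsgLib.Solvable.pCore_normal q (G ⧸ N)).comap f) fun r hr hd => ?_
    have hker : N.subgroupOf K = (f.comp K.subtype).ker := by
      ext z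
      rw [MonoidHom.mem_ker, MonoidHom.comp_apply, mem_subgroupOf]
      exact (QuotientGroup.eq_one_iff _).symm
    rw [← card_mul_index (N.subgroupOf K)] at hd
    rcases (Nat.Prime.dvd_mul hr).1 hd with h | h
    · refine piCore_spec (G := G) π r hr (h.trans ?_)
      rw [← card_map_of_injective (f := K.subtype) (K := N.subgroupOf K) (subtype_injective K)]
      refine card_dvd_of_le ?_
      rw [subgroupOf_map_subtype]
      exact inf_le_left
    · rw [hker, index_ker] at h
      have h2 : (f.comp K.subtype).range ≤ Cfsg.pCore q (G ⧸ N) := by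
        rintro _ ⟨z, rfl⟩; exact z.2
      obtain ⟨k, hk⟩ := IsPGroup.iff_card.1 (CfsgLib.Solvable.pCore_isPGroup (G := G ⧸ N) q)
      have := h.trans (card_dvd_of_le h2)
      rw [hk] at this
      rw [(Nat.prime_dvd_prime_iff_eq hr hq).1 (hr.dvd_of_dvd_pow this)]
      exact hqπ
  exact hKN hyT


/-- Let G be a solvable group of odd order such that G, or its Fitting subgroup, has no elementary abelian subgroup of order q ^ 3 for any prime q. Then G' is nilpotent; for every Sylow subgroup S of G, every characteristic subgroup T of S with T ≤ [S, S] is normal in G; and for every prime p, G has a characteristic subgroup that is a Hall subgroup for the set of primes greater than p. -/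
theorem result {G : Type*} [Group G] [Finite G] [Group.IsSolvable G] (hodd : Odd (Nat.card G)) (hr : Cfsg.RankLE 2 G ∨ Cfsg.RankLE 2 (Cfsg.fittingSubgroup G)) :
    Group.IsNilpotent ↥(commutator G) ∧
      (∀ (q : ℕ) [Fact q.Prime] (S : Sylow q G) (T : Subgroup ↥(S : Subgroup G)), T.Characteristic → T.map (S : Subgroup G).subtype ≤ ⁅(S : Subgroup G), (S : Subgroup G)⁆ →
        (T.map (S : Subgroup G).subtype).Normal) ∧
      ∀ p : ℕ, ∃ N : Subgroup G, N.Characteristic ∧ Cfsg.IsPiHall {q | q.Prime ∧ p < q} N := by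
  open Subgroup CfsgLib.OddLocal in
  haveI hFn : (Cfsg.fittingSubgroup G).Normal := CfsgLib.Solvable.fittingSubgroup_normal G
  have hrF : Cfsg.RankLE 2 (Cfsg.fittingSubgroup G) := by
    rcases hr with hr | hr
    · intro q hq E hEc hEe
      rw [← Subgroup.card_map_of_injective (f := (Cfsg.fittingSubgroup G).subtype) (K := E) (Subgroup.subtype_injective _)]
      refine hr q hq _ ?_ ?_
      · haveI := hEc; infer_instance
      · rintro _ ⟨x, hx, rfl⟩
        simpa using congrArg Subtype.val (hEe x hx)
    · exact hr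
  have hrT : ∀ r : ℕ, r.Prime → Cfsg.PRankLE r 2 (Cfsg.pCore r G) := by
    intro r hr' E hEc hEe
    haveI := Fact.mk hr'
    have hle := CfsgLib.OddLocal.pCore_le_fittingSubgroup r G
    let ι := Subgroup.inclusion hle
    rw [← Subgroup.card_map_of_injective (f := ι) (K := E) (Subgroup.inclusion_injective hle)]
    refine hrF r hr' _ ?_ ?_
    · haveI := hEc; infer_instance
    · rintro _ ⟨x, hx, rfl⟩
      rw [← map_pow, hEe x hx, map_one]
  have hle : _root_.commutator G ≤ Cfsg.fittingSubgroup G :=
    CfsgLib.OddLocal.commutator_le_fitting fun p hp y hy hyp =>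
      CfsgLib.OddLocal.centralizes_pCore_of_rank_two hodd hp (hrT p hp) hy hyp
  haveI hFnil : Group.IsNilpotent (Cfsg.fittingSubgroup G) := CfsgLib.Solvable.fittingSubgroup_isNilpotent
  have hnil : Group.IsNilpotent ↥(_root_.commutator G) :=
    Group.nilpotent_of_mulEquiv (Subgroup.subgroupOfEquivOfLe hle)
  refine ⟨hnil, fun q _ S T hT hTS => ?_, hall_core hodd hle hrT⟩
  set T' := T.map (S : Subgroup G).subtype with hT'
  set H := _root_.commutator G with hH
  have hTH : T' ≤ H := hTS.trans (by
    rw [hH, _root_.commutator_def]; exact Subgroup.commutator_mono le_top le_top)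
  have hTq : IsPGroup q T' := (S.2.to_subgroup T).map _
  have hNS : Subgroup.normalizer ((S : Subgroup G) : Set G) ≤ Subgroup.normalizer (T' : Set G) := by
    haveI := hT
    haveI : T.Characteristic := hT
    intro g hg
    have hg' : ∀ x ∈ T', g * x * g⁻¹ ∈ T' := by
      rintro _ ⟨x, hx, rfl⟩
      let θ : MulAut (S : Subgroup G) := Subgroup.normalizerMonoidHom (S : Subgroup G) ⟨g, hg⟩
      exact ⟨θ x, Subgroup.characteristic_iff_map_le.1 hT θ ⟨x, hx, rfl⟩, rfl⟩
    rw [Subgroup.mem_normalizer_iff_map_conj_eq]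
    refine Subgroup.eq_of_le_of_card_ge ?_ (le_of_eq ?_)
    · rintro _ ⟨x, hx, rfl⟩; exact hg' x hx
    · exact (Subgroup.card_map_of_injective (MulAut.conj g).injective).symm
  -- `L = G'S` is normal and normalizes `T'`
  set L := H ⊔ (S : Subgroup G) with hL
  haveI hLn : L.Normal := Subgroup.Normal.of_commutator_le G le_sup_left
  have hHN : H ≤ Subgroup.normalizer (T' : Set G) := by
    refine CfsgLib.OddLocal.le_of_prime_power_elements fun r hr' y hy hyr => ?_
    haveI := Fact.mk hr'
    by_cases hrq : r = q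
    · subst hrq
      refine hNS (Subgroup.le_normalizer ?_)
      exact CfsgLib.Solvable.pCore_le_sylow S (CfsgLib.OddLocal.mem_pCore_of_mem_nilpotent hnil hy hyr)
    · refine Subgroup.centralizer_le_normalizer _ ?_
      have hc : (Nat.card (Subgroup.zpowers y)).Coprime (Nat.card T') := by
        obtain ⟨i, hi⟩ := IsPGroup.iff_card.1 hyr
        obtain ⟨j, hj⟩ := IsPGroup.iff_card.1 hTq
        rw [hi, hj]
        exact Nat.Coprime.pow i j ((Nat.coprime_primes hr' Fact.out).2 hrq)
      exact CfsgLib.OddLocal.le_centralizer_of_coprime_of_le_nilpotent hnil (Subgroup.zpowers_le.2 hy) hTH hc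
        (Subgroup.mem_zpowers y)
  have hLN : L ≤ Subgroup.normalizer (T' : Set G) := sup_le hHN (Subgroup.le_normalizer.trans hNS)
  rw [← Subgroup.normalizer_eq_top_iff, eq_top_iff]
  intro g _
  have hSL : (S : Subgroup G) ≤ L := le_sup_right
  have hfr := Sylow.normalizer_sup_eq_top (S.subtype hSL)
  have hmap : ((S.subtype hSL : Sylow q L) : Subgroup L).map L.subtype = (S : Subgroup G) := by
    rw [Sylow.coe_subtype, Subgroup.map_subgroupOf_eq_of_le hSL]
  rw [hmap] at hfr
  have : (⊤ : Subgroup G) ≤ Subgroup.normalizer (T' : Set G) := hfr ▸ sup_le hNS hLN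
  exact this (Subgroup.mem_top g)

end Cfsg.Agent.S1451
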