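import Cfsg.Statements.S1450
import Cfsg.Agent.Lib.OddLocal.RankTwoSolvable

set_option autoImplicit false
open Cfsg

namespace Cfsg.Agent.S1450

open Subgroup in
theorem pcompl_of_index {H : Type*} [Group H] [Finite H] {p : ℕ} [Fact p.Prime]
    (h : IsPGroup p (H ⧸ Cfsg.pPrimeCore p H)) : Cfsg.HasNormalPComplement p H := by
  obtain ⟨P⟩ : Nonempty (Sylow p H) := inferInstance
  haveI hKn := CfsgLib.Solvable.pPrimeCore_normal p H
  set K := Cfsg.pPrimeCore p H
  have hc : (Nat.card K).Coprime p := CfsgLib.Solvable.pPrimeCore_coprime p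
  obtain ⟨k, hk⟩ := IsPGroup.iff_card.1 h
  obtain ⟨j, hj⟩ := IsPGroup.iff_card.1 P.2
  have hpr := (Fact.out : p.Prime)
  refine ⟨P, K, hKn, Subgroup.isComplement'_of_coprime ?_ (hj ▸ hc.pow_right j)⟩
  have h1 : Nat.card H = Nat.card K * p ^ k := by
    rw [← hk, mul_comm]; exact Subgroup.card_eq_card_quotient_mul_card_subgroup K
  have h2 : j = k := by
    have e1 : p ^ j ∣ Nat.card K * p ^ k := h1 ▸ hj ▸ Subgroup.card_subgroup_dvd_card (P : Subgroup H)
    have e2 : p ^ k ∣ Nat.card (P : Subgroup H) * (P : Subgroup H).index := by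
      rw [Subgroup.card_mul_index, h1]; exact dvd_mul_left _ _
    rw [hj] at e2
    have e3 := (Nat.Coprime.pow_left j hc.symm).dvd_of_dvd_mul_left e1
    have e4 := (Nat.Coprime.pow_left k (hpr.coprime_iff_not_dvd.2 P.not_dvd_index)).dvd_of_dvd_mul_right e2
    exact le_antisymm ((Nat.pow_dvd_pow_iff_le_right hpr.one_lt).1 e3)
      ((Nat.pow_dvd_pow_iff_le_right hpr.one_lt).1 e4)
  rw [h1, hj, h2]


/-- Let G be a solvable group of odd order, p a prime dividing its order with G having no elementary abelian subgroup of order p ^ 3. Then every prime dividing the index of O_{p'}(G) is at most p; if p = 3 or p is the smallest prime divisor of #G then G has a normal p-complement; the derived subgroup G' has a normal p-complement; every subgroup of G' of order coprime to p lies in O_{p'}(G'); and G/O_{p',p}(G) is abelian of order coprime to p. -/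
theorem result {G : Type*} [Group G] [Finite G] [Group.IsSolvable G] (hodd : Odd (Nat.card G)) (p : ℕ) [Fact p.Prime] (hpG : p ∣ Nat.card G) (hr : Cfsg.PRankLE p 2 G) :
    (∀ q : ℕ, q.Prime → q ∣ (Cfsg.pPrimeCore p G).index → q ≤ p) ∧
      ((p = 3 ∨ ∀ q : ℕ, q.Prime → q ∣ Nat.card G → p ≤ q) → Cfsg.HasNormalPComplement p G) ∧
      Cfsg.HasNormalPComplement p ↥(commutator G) ∧
      (∀ L : Subgroup ↥(commutator G), (Nat.card L).Coprime p → L ≤ Cfsg.pPrimeCore p ↥(commutator G)) ∧
      commutator G ≤ Cfsg.pPrimePCore p G ∧ ((Cfsg.pPrimePCore p G).index).Coprime p := by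
  open Subgroup in
  have hpr := (Fact.out : p.Prime)
  have hp : p ≠ 2 := by
    rintro rfl
    exact (Nat.not_even_iff_odd.2 hodd) (even_iff_two_dvd.2 hpG)
  obtain ⟨hqle, hle, h3⟩ := CfsgLib.OddLocal.rank_two_structure hodd hp hr
  haveI hKn := CfsgLib.Solvable.pPrimeCore_normal p G
  set K := Cfsg.pPrimeCore p G with hK
  haveI hK'n := CfsgLib.Solvable.pPrimeCore_normal p ↥(commutator G)
  have hsub : K.subgroupOf (commutator G) ≤ Cfsg.pPrimeCore p ↥(commutator G) := by
    refine CfsgLib.Solvable.le_pPrimeCore inferInstance ?_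
    refine (CfsgLib.Solvable.pPrimeCore_coprime (G := G) p).coprime_dvd_left ?_
    rw [← Subgroup.card_map_of_injective (f := (commutator G).subtype) (Subgroup.subtype_injective _),
      Subgroup.subgroupOf_map_subtype]
    exact Subgroup.card_dvd_of_le inf_le_left
  have hq : IsPGroup p (↥(commutator G) ⧸ Cfsg.pPrimeCore p ↥(commutator G)) := by
    intro x
    obtain ⟨g, rfl⟩ := QuotientGroup.mk_surjective x
    obtain ⟨n, hn⟩ := CfsgLib.Solvable.pCore_isPGroup (G := G ⧸ K) p ⟨QuotientGroup.mk' K g.1, hle g.2⟩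
    refine ⟨n, ?_⟩
    rw [← QuotientGroup.mk_pow, QuotientGroup.eq_one_iff]
    refine hsub ?_
    rw [Subgroup.mem_subgroupOf, SubgroupClass.coe_pow, ← QuotientGroup.eq_one_iff, QuotientGroup.mk_pow]
    exact congrArg Subtype.val hn
  refine ⟨fun q hq hd => ?_, fun hcase => ?_, pcompl_of_index hq, fun L hL => ?_, hle, h3⟩
  · exact (CfsgLib.OddLocal.rank_two_structure hodd hp hr).1 q hq hd
  · refine pcompl_of_index (IsPGroup.of_card (n := (Nat.card (G ⧸ K)).primeFactorsList.length)
      (Nat.eq_prime_pow_of_unique_prime_dvd Nat.card_pos.ne' fun {q} hqp hqd => ?_))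
    have hqd' : q ∣ K.index := by rwa [Subgroup.index_eq_card]
    have hle' : q ≤ p := (CfsgLib.OddLocal.rank_two_structure hodd hp hr).1 q hqp hqd'
    have hqG : q ∣ Nat.card G := hqd'.trans (Subgroup.index_dvd_card K)
    rcases hcase with rfl | hmin
    · have h2q : q ≠ 2 := by
        rintro rfl
        exact (Nat.not_even_iff_odd.2 hodd) (even_iff_two_dvd.2 hqG)
      have := hqp.two_le
      omega
    · exact le_antisymm hle' (hmin q hqp hqG)
  · intro l hl
    set π := QuotientGroup.mk' (Cfsg.pPrimeCore p ↥(commutator G))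
    obtain ⟨n, hn⟩ := IsPGroup.iff_orderOf.1 hq (π l)
    refine (QuotientGroup.eq_one_iff l).1 (orderOf_eq_one_iff.1 ?_)
    refine Nat.eq_one_of_dvd_coprimes (hL.pow_right n) ((orderOf_map_dvd π l).trans ?_) hn.dvd
    rw [← Subgroup.orderOf_mk l hl]
    exact orderOf_dvd_natCard _

end Cfsg.Agent.S1450
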