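import Cfsg.Statements.S1443
import Cfsg.Agent.Lib.OddLocal.Stab

set_option autoImplicit false
open Cfsg

namespace Cfsg.Agent.S1443

/-- Let G be a finite group, p an odd prime, H a p-subgroup, E an elementary abelian subgroup of H, and A a subgroup of order coprime to p normalizing H. If A centralizes every element of order p in H ∩ C_G(E), then A centralizes H. -/
theorem result {G : Type*} [Group G] [Finite G] (p : ℕ) [Fact p.Prime] (hp : p ≠ 2) (H E A : Subgroup G) (hH : IsPGroup p H) (hE : E ≤ H) (hEe : Cfsg.IsElementaryAbelian p E)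
    (hA : (A ≤ Subgroup.normalizer (H : Set G))) (hcop : (Nat.card A).Coprime p)
    (hfix : ∀ x ∈ (H ⊓ Subgroup.centralizer (E : Set G)), orderOf x = p → A ≤ Subgroup.centralizer ({x} : Set G)) :
    A ≤ Subgroup.centralizer (H : Set G) := by
  have hcopH : (Nat.card A).Coprime (Nat.card H) := by
    obtain ⟨m, hm⟩ := IsPGroup.iff_card.mp hH
    rw [hm]
    exact hcop.pow_right m
  have hCle : H ⊓ Subgroup.centralizer (E : Set G) ≤ H := inf_le_left
  -- the centralizer of `E` in `H` is centralized by `A`
  have hEC : E ≤ Subgroup.centralizer (E : Set G) :=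
    Subgroup.le_centralizer_iff_isMulCommutative.mpr hEe.1
  have hAE : A ≤ Subgroup.centralizer (E : Set G) := by
    intro a ha
    rw [Subgroup.mem_centralizer_iff]
    intro e he
    by_cases he1 : e = 1
    · subst he1; simp
    have ho : orderOf e = p := orderOf_eq_prime (hEe.2 e he) he1
    exact (Subgroup.mem_centralizer_iff.mp (hfix e ⟨hE he, hEC he⟩ ho ha) e rfl)
  have hAn : A ≤ Subgroup.normalizer ((H ⊓ Subgroup.centralizer (E : Set G) : Subgroup G) : Set G) := by
    refine le_trans (le_inf hA ?_) Subgroup.inf_normalizer_le_normalizer_inf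
    exact hAE.trans Subgroup.le_normalizer
  have h1 : A ≤ Subgroup.centralizer ((H ⊓ Subgroup.centralizer (E : Set G) : Subgroup G) : Set G) := by
    refine CfsgLib.OddLocal.le_centralizer_of_fixes_order_p hp (hH.to_le hCle) hAn hcop ?_
    intro x hx hxp a ha
    by_cases hx1 : x = 1
    · subst hx1; simp
    have := Subgroup.mem_centralizer_iff.mp (hfix x hx (orderOf_eq_prime hxp hx1) ha) x rfl
    exact mul_inv_eq_iff_eq_mul.mpr this.symm
  refine CfsgLib.OddLocal.le_centralizer_of_centralizer_fixed_le hH.isNilpotent hA hcopH ?_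
  have h2 : H ⊓ Subgroup.centralizer (E : Set G) ≤ H ⊓ Subgroup.centralizer (A : Set G) :=
    le_inf inf_le_left (Subgroup.le_centralizer_iff.mp h1)
  refine le_trans (inf_le_inf_left H (Subgroup.centralizer_le ?_)) h2
  exact SetLike.coe_subset_coe.mpr ((le_inf hE hEC).trans h2)

end Cfsg.Agent.S1443
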