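import Cfsg.Statements.S1459
import Cfsg.Agent.Lib.OddLocal.Norm
import Cfsg.Agent.Lib.OddLocal.FittingHall

set_option autoImplicit false
open Cfsg
open scoped commutatorElement

namespace Cfsg.Agent.S1459

theorem part_one {G : Type*} [Group G] [Finite G] [Group.IsSolvable G] (H K : Subgroup G)
    (hn : H.Normal) (hcop : (Nat.card H).Coprime H.index) (hK : Subgroup.IsComplement' H K)
    (hle : H ≤ commutator G) :
    H = ⁅H, K⁆ ∧ H ⊓ Subgroup.centralizer (K : Set G) ≤ ⁅H, H⁆ := by
  have hsup : H ⊔ K = ⊤ := hK.sup_eq_top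
  have hKH : K ≤ Subgroup.normalizer (H : Set G) := le_top.trans (Subgroup.normalizer_eq_top H).ge
  have hcard : (Nat.card K).Coprime (Nat.card H) := by
    rw [← hK.symm.index_eq_card]; exact hcop.symm
  have hHK : ⁅H, K⁆ ≤ H := Subgroup.commutator_le_left H K
  have hHH : ⁅H, H⁆ ≤ H := Subgroup.commutator_le_left H H
  -- `[H, K]` is normal
  have hnHK : (⁅H, K⁆).Normal := by
    rw [← Subgroup.normalizer_eq_top_iff, eq_top_iff, ← hsup]
    exact sup_le (Subgroup.normalizer_commutator_ge_left H K)
      (Subgroup.normalizer_commutator_ge_right H K)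
  have hnHH : (⁅H, H⁆).Normal := inferInstance
  -- `G' ≤ [H,K] [H,H] [K,K]`
  let D := ⁅H, K⁆ ⊔ ⁅H, H⁆
  have hnD : D.Normal := Subgroup.sup_normal _ _
  have hGD : commutator G ≤ D ⊔ ⁅K, K⁆ := by
    let f := QuotientGroup.mk' D
    have hbot : ∀ L M : Subgroup G, ⁅L, M⁆ ≤ D → ⁅L.map f, M.map f⁆ = ⊥ := by
      intro L M h
      rw [← Subgroup.map_commutator, eq_bot_iff]
      rintro _ ⟨x, hx, rfl⟩
      exact Subgroup.mem_bot.mpr ((QuotientGroup.eq_one_iff x).mpr (h hx))
    have htop : H.map f ⊔ K.map f = ⊤ := by
      rw [← Subgroup.map_sup, hsup, Subgroup.map_top_of_surjective _ (QuotientGroup.mk'_surjective D)]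
    have hHcent : H.map f ≤ Subgroup.center (G ⧸ D) := by
      rw [← Subgroup.centralizer_univ, ← Subgroup.coe_top, ← htop, Subgroup.le_centralizer_iff,
        sup_le_iff, ← Subgroup.commutator_eq_bot_iff_le_centralizer,
        ← Subgroup.commutator_eq_bot_iff_le_centralizer]
      exact ⟨hbot _ _ le_sup_right, Subgroup.commutator_comm (K.map f) (H.map f) ▸ hbot _ _ le_sup_left⟩
    intro x hx
    have hfx : f x ∈ (⁅K, K⁆).map f := by
      have h1 : commutator (G ⧸ D) ≤ (⁅K, K⁆).map f := by
        rw [Subgroup.map_commutator, _root_.commutator_def, Subgroup.commutator_le]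
        intro a _ b _
        have dec : ∀ a : G ⧸ D, ∃ z ∈ Subgroup.center (G ⧸ D), ∃ k ∈ K.map f, a = z * k := by
          intro a
          have ha : a ∈ H.map f ⊔ K.map f := htop ▸ Subgroup.mem_top a
          have : (H.map f).Normal := Subgroup.Normal.map inferInstance f (QuotientGroup.mk'_surjective D)
          rw [← SetLike.mem_coe, Subgroup.normal_mul] at ha
          obtain ⟨z, hz, k, hk, rfl⟩ := ha
          exact ⟨z, hHcent hz, k, hk, rfl⟩
        obtain ⟨z, hz, k, hk, rfl⟩ := dec a
        obtain ⟨z', hz', k', hk', rfl⟩ := dec b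
        have e : ⁅z * k, z' * k'⁆ = ⁅k, k'⁆ := by
          have e1 := Subgroup.mem_center_iff.mp hz
          have e2 := Subgroup.mem_center_iff.mp hz'
          rw [commutatorElement_mul_left_eq_conj_mul, commutatorElement_mul_right_eq_mul_conj,
            commutatorElement_eq_one_iff_mul_comm.mpr (e2 k),
            commutatorElement_eq_one_iff_mul_comm.mpr (e1 (z' * k')).symm]
          simp only [one_mul, mul_one]
          rw [show z * (z' * ⁅k, k'⁆ * z'⁻¹) * z⁻¹ = ⁅k, k'⁆ from by
            rw [← e2 ⁅k, k'⁆, mul_inv_cancel_right, ← e1 ⁅k, k'⁆, mul_inv_cancel_right]]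
        rw [e]
        exact Subgroup.commutator_mem_commutator hk hk'
      apply h1
      have := Subgroup.mem_map_of_mem f hx
      rw [_root_.commutator_def, Subgroup.map_commutator] at this
      exact (_root_.commutator_def (G ⧸ D)) ▸ Subgroup.commutator_mono le_top le_top this
    have : x ∈ (((⁅K, K⁆).map f).comap f) := hfx
    rwa [Subgroup.comap_map_eq, QuotientGroup.ker_mk', sup_comm] at this
  have hHD : H ≤ D := by
    intro h hh
    have := hGD (hle hh)
    rw [← SetLike.mem_coe, Subgroup.normal_mul] at this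
    obtain ⟨d, hd, k, hk, rfl⟩ := this
    have hdH : d ∈ H := sup_le hHK hHH hd
    have hkH : k ∈ H ⊓ K := ⟨(H.mul_mem_cancel_left hdH).mp hh,
      (Subgroup.commutator_le_self K) hk⟩
    rw [disjoint_iff.mp hK.disjoint, Subgroup.mem_bot] at hkH
    rw [hkH]; simpa using hd
  have heq : H = ⁅H, K⁆ := by
    refine le_antisymm ?_ hHK
    let f := QuotientGroup.mk' ⁅H, K⁆
    have h1 : H.map f ≤ ⁅H.map f, H.map f⁆ := by
      rw [← Subgroup.map_commutator]
      refine (Subgroup.map_mono hHD).trans ?_
      rw [Subgroup.map_sup, QuotientGroup.map_mk'_self, bot_sup_eq]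
    have hs : Group.IsSolvable (H.map f) := inferInstance
    have h2 : H.map f = ⊥ := by
      by_contra hne
      have : Nontrivial (H.map f) := (Subgroup.nontrivial_iff_ne_bot _).mpr hne
      apply (Group.IsSolvable.commutator_lt_top_of_nontrivial (H.map f)).ne
      apply Subgroup.map_injective (H.map f).subtype_injective
      rw [← MonoidHom.range_eq_map, Subgroup.range_subtype, _root_.commutator_def,
        Subgroup.map_commutator, ← MonoidHom.range_eq_map, Subgroup.range_subtype]
      exact le_antisymm (Subgroup.commutator_le_self _) h1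
    rw [Subgroup.map_eq_bot_iff, QuotientGroup.ker_mk'] at h2
    exact h2
  refine ⟨heq, CfsgLib.OddLocal.inf_centralizer_le_of_abelian_quotient hKH ?_ hHH le_rfl
    (le_sup_of_le_left heq.le) hcard⟩
  exact le_top.trans (Subgroup.normalizer_eq_top ⁅H, H⁆).ge


/-- Let G be a finite solvable group. (a) If H is a normal subgroup of order coprime to its index, K is a complement to H, and H ≤ G', then H = [H, K] and H ∩ C_G(K) ≤ [H, H]. (b) If G' is nilpotent and has prime index in G, then the order of G' is coprime to its index and G' = [G, K] (the subgroup generated by commutators of elements of G with elements of K) for every complement K of G'. -/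
theorem result {G : Type*} [Group G] [Finite G] [Group.IsSolvable G] :
    (∀ (H K : Subgroup G), H.Normal → (Nat.card H).Coprime H.index → Subgroup.IsComplement' H K → H ≤ commutator G →
        H = ⁅H, K⁆ ∧ H ⊓ Subgroup.centralizer (K : Set G) ≤ ⁅H, H⁆) ∧
      (Group.IsNilpotent ↥(commutator G) → (commutator G).index.Prime →
        (Nat.card ↥(commutator G)).Coprime (commutator G).index ∧
        ∀ K : Subgroup G, Subgroup.IsComplement' (commutator G) K → commutator G = ⁅(⊤ : Subgroup G), K⁆) := by
  refine ⟨part_one, fun hnil hp => ?_⟩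
  set p := (commutator G).index
  haveI := Fact.mk hp
  set D := commutator G with hD
  -- the `p'`-part of `G'`
  let Q := (Cfsg.pPrimeCore p D).map D.subtype
  have hQn : Q.Normal := by
    have := CfsgLib.Solvable.pPrimeCore_characteristic p D
    infer_instance
  have hQcard : (Nat.card Q).Coprime p := by
    rw [CfsgLib.Solvable.card_map_subtype]; exact CfsgLib.Solvable.pPrimeCore_coprime p
  -- `G ⧸ Q` is a `p`-group
  have hidx : ∀ r : ℕ, r.Prime → r ∣ (Cfsg.pPrimeCore p D).index → r = p := by
    intro r hr hdvd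
    by_contra hne
    haveI := Fact.mk hr
    apply CfsgLib.Solvable.isNilpotent_iff_pCore_index.mp hnil r hr
    refine hdvd.trans (Subgroup.index_dvd_of_le ?_)
    refine CfsgLib.Solvable.le_pPrimeCore (CfsgLib.Solvable.pCore_normal r D) ?_
    obtain ⟨k, hk⟩ := IsPGroup.iff_card.mp (CfsgLib.Solvable.pCore_isPGroup (G := D) r)
    rw [hk]
    exact Nat.Coprime.pow_left k ((Nat.coprime_primes hr hp).mpr hne)
  have hQindex : Q.index = (Cfsg.pPrimeCore p D).index * p := by
    rw [Subgroup.index_map_subtype]
  have hpg : IsPGroup p (G ⧸ Q) := by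
    obtain ⟨k, hk⟩ : ∃ k, Q.index = p ^ k := by
      refine ⟨Q.index.factorization p, Nat.eq_pow_of_factorization_eq_single Subgroup.index_ne_zero_of_finite ?_⟩
      ext r
      by_cases hr : r = p
      · subst hr; simp
      · rw [Finsupp.single_eq_of_ne hr]
        by_contra h0
        have hrp : r.Prime := Nat.prime_of_mem_primeFactors (by simpa [Nat.support_factorization] using Finsupp.mem_support_iff.mpr h0)
        have hrd : r ∣ Q.index := Nat.dvd_of_factorization_pos h0
        rw [hQindex] at hrd
        rcases hrp.dvd_mul.mp hrd with h | h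
        · exact hr (hidx r hrp h)
        · exact hr ((Nat.prime_dvd_prime_iff_eq hrp hp).mp h)
    exact IsPGroup.of_card (n := k) (by rw [← Subgroup.index_eq_card, hk])
  have hQD : Q ≤ D := Subgroup.map_subtype_le _
  -- hence `G' = Q`
  have hDQ : D ≤ Q := by
    let f := QuotientGroup.mk' Q
    have hc : D.map f = commutator (G ⧸ Q) := by
      rw [hD, _root_.commutator_def, _root_.commutator_def, Subgroup.map_commutator,
        Subgroup.map_top_of_surjective _ (QuotientGroup.mk'_surjective Q)]
    have hci : (commutator (G ⧸ Q)).index = p := by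
      rw [← hc, Subgroup.index_map, sup_eq_left.mpr (by rw [QuotientGroup.ker_mk']; exact hQD),
        MonoidHom.range_eq_top.mpr (QuotientGroup.mk'_surjective Q), Subgroup.index_top, mul_one]
    obtain ⟨x, hx⟩ : ∃ x : G ⧸ Q, x ∉ commutator (G ⧸ Q) := by
      by_contra h
      simp only [not_exists, not_not] at h
      rw [(Subgroup.eq_top_iff' _).mpr h, Subgroup.index_top] at hci
      exact hp.ne_one hci.symm
    have htop : Subgroup.zpowers x ⊔ commutator (G ⧸ Q) = ⊤ := by
      have hlt : commutator (G ⧸ Q) < Subgroup.zpowers x ⊔ commutator (G ⧸ Q) :=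
        lt_of_le_not_ge le_sup_right fun h => hx (h (Subgroup.mem_sup_left (Subgroup.mem_zpowers x)))
      rw [← Subgroup.index_eq_one]
      rcases (Nat.dvd_prime hp).mp (hci ▸ Subgroup.index_dvd_of_le hlt.le) with h | h
      · exact h
      · exact absurd (h.trans hci.symm) (Subgroup.index_strictAnti hlt).ne
    have := CfsgLib.OddLocal.eq_top_of_sup_commutator_eq_top hpg.isNilpotent htop
    have hcomm : commutator (G ⧸ Q) = ⊥ := by
      rw [_root_.commutator_def, Subgroup.commutator_self_eq_bot_iff, ← this]
      infer_instance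
    rw [← hc, Subgroup.map_eq_bot_iff, QuotientGroup.ker_mk'] at hcomm
    exact hcomm
  have hHall : (Nat.card D).Coprime p := by
    rw [le_antisymm hDQ hQD]; exact hQcard
  refine ⟨hHall, fun K hK => ?_⟩
  obtain ⟨h1, -⟩ := part_one D K inferInstance hHall hK le_rfl
  refine le_antisymm (h1.le.trans (Subgroup.commutator_mono le_top le_rfl)) ?_
  exact Subgroup.commutator_mono le_top le_top

end Cfsg.Agent.S1459
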