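import Cfsg.Statements.S1448
import Cfsg.Agent.Lib.OddLocal.RankTwoStructure
import Cfsg.Agent.Lib.Coprime.Generation

set_option autoImplicit false
open Cfsg

namespace Cfsg.Agent.S1448

open Subgroup in
theorem three_lt {G : Type*} [Group G] [Finite G] {p : ℕ} [Fact p.Prime] (hp : p ≠ 2) {R A : Subgroup G}
    (hR : IsPGroup p R) (hR1 : R ≠ ⊥) (hr : Cfsg.PRankLE p 2 R) (hA : A ≤ normalizer (R : Set G))
    (hcop : (Nat.card A).Coprime p) (hAodd : Odd (Nat.card A)) (hRA : ⁅R, A⁆ = R) : 3 < p := by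
  have hpr := (Fact.out : p.Prime)
  by_contra h
  have hp3 : p = 3 := by
    have := hpr.two_le
    omega
  set φ := CfsgLib.Coprime.conjHom hA
  have hrange : Nat.card φ.range = 1 := by
    by_contra hne
    obtain ⟨q, hq, hqd⟩ := Nat.exists_prime_and_dvd hne
    have hqA : q ∣ Nat.card A := hqd.trans (card_range_dvd φ)
    have hqp : q ≠ p := by
      rintro rfl
      exact hq.ne_one (Nat.eq_one_of_dvd_coprimes hcop hqA dvd_rfl)
    have h2 := (CfsgLib.OddLocal.dvd_card_gl_two_of_prime_dvd_aut hp hR hr hq hqp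
      (hqd.trans (card_subgroup_dvd_card _))).2
    have h22 : q = 2 := by
      have := hq.two_le
      omega
    subst h22
    exact (Nat.not_even_iff_odd.2 hAodd) (even_iff_two_dvd.2 hqA)
  have htriv : ∀ a ∈ A, ∀ r ∈ R, r * a = a * r := by
    intro a ha r hr'
    have h1 : φ ⟨a, ha⟩ = 1 := by
      have := (Nat.card_eq_one_iff_unique.1 hrange).1
      exact congrArg Subtype.val (Subsingleton.elim (⟨φ ⟨a, ha⟩, ⟨_, rfl⟩⟩ : φ.range) 1)
    have h2 : a * r * a⁻¹ = r := congrArg (fun f : MulAut R => ((f ⟨r, hr'⟩ : R) : G)) h1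
    exact (mul_inv_eq_iff_eq_mul.1 h2).symm
  refine hR1 (eq_bot_iff.2 ?_)
  rw [← hRA, commutator_le]
  intro r hr' a ha
  rw [mem_bot, commutatorElement_eq_one_iff_mul_comm]
  exact htriv a ha r hr'


/-- Let G be a finite group, p an odd prime, R a nontrivial p-subgroup with no elementary abelian subgroup of order p ^ 3, and A a subgroup of odd order coprime to p normalizing R with [R, A] = R. Then 3 < p, and either R is abelian or R is generated by two elementwise-commuting subgroups R₁, R₂ with R₁ non-abelian of order p ^ 3 and exponent p, R₂ cyclic, and the elements of R₂ of order dividing p generating exactly [R₁, R₁]. -/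
theorem result {G : Type*} [Group G] [Finite G] (p : ℕ) [Fact p.Prime] (hp : p ≠ 2) (R A : Subgroup G) (hR : IsPGroup p R) (hR1 : R ≠ ⊥) (hr : Cfsg.PRankLE p 2 R)
    (hA : (A ≤ Subgroup.normalizer (R : Set G))) (hcop : (Nat.card A).Coprime p) (hAodd : Odd (Nat.card A)) (hRA : ⁅R, A⁆ = R) :
    3 < p ∧ (IsMulCommutative R ∨ ∃ R₁ R₂ : Subgroup G, R₁ ⊔ R₂ = R ∧ (∀ a ∈ R₁, ∀ b ∈ R₂, a * b = b * a) ∧
        ¬ IsMulCommutative R₁ ∧ Nat.card R₁ = p ^ 3 ∧ Monoid.exponent R₁ = p ∧ IsCyclic R₂ ∧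
        Subgroup.closure {x : G | x ∈ R₂ ∧ x ^ p = 1} = ⁅R₁, R₁⁆) := by
  open Subgroup in
  have hp3 := three_lt hp hR hR1 hr hA hcop hAodd hRA
  refine ⟨hp3, ?_⟩
  have hcop' : (Nat.card A).Coprime (Nat.card R) := by
    obtain ⟨k, hk⟩ := IsPGroup.iff_card.1 hR
    rw [hk]; exact hcop.pow_right k
  have hgen : Subgroup.closure {x : R | ∃ a : A, ∃ z : R, CfsgLib.Coprime.conjHom hA a z * z⁻¹ = x} = ⊤ := by
    set S := Subgroup.closure {x : R | ∃ a : A, ∃ z : R, CfsgLib.Coprime.conjHom hA a z * z⁻¹ = x} with hS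
    have h1 : ⁅R, A⁆ ≤ S.map R.subtype := by
      refine Subgroup.commutator_le.2 fun z hz a ha => ?_
      refine ⟨(CfsgLib.Coprime.conjHom hA ⟨a, ha⟩ ⟨z, hz⟩ * (⟨z, hz⟩ : R)⁻¹)⁻¹,
        S.inv_mem (Subgroup.subset_closure ⟨_, _, rfl⟩), ?_⟩
      simp [CfsgLib.Coprime.conjHom_apply, commutatorElement_def, mul_assoc]
    rw [hRA] at h1
    refine Subgroup.map_injective R.subtype_injective (le_antisymm ?_ ?_)
    · exact Subgroup.map_mono le_top
    · rw [← MonoidHom.range_eq_map, R.range_subtype]; exact h1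
  rcases CfsgLib.OddLocal.structure_of_coprime_action hp3 hR hr hAodd (CfsgLib.Coprime.conjHom hA) hcop' hgen with
    h | ⟨O, C, hsup, hcomm, hna, hcard, hexp, hcyc, -, hom⟩
  · exact Or.inl ⟨⟨fun a b => (h a b).eq⟩⟩
  refine Or.inr ⟨O.map R.subtype, C.map R.subtype, ?_, ?_, ?_, ?_, ?_, ?_, ?_⟩
  · rw [← Subgroup.map_sup, hsup, ← MonoidHom.range_eq_map, R.range_subtype]
  · rintro _ ⟨a, ha, rfl⟩ _ ⟨b, hb, rfl⟩
    exact congrArg Subtype.val (hcomm a ha b hb)
  · intro hc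
    exact hna ⟨⟨fun a b => Subtype.ext (Subtype.ext (congrArg (fun t : O.map R.subtype => (t : G)) (hc.is_comm.comm
      (⟨R.subtype a, ⟨a, a.2, rfl⟩⟩ : O.map R.subtype) ⟨R.subtype b, ⟨b, b.2, rfl⟩⟩)))⟩⟩
  · rw [Subgroup.card_map_of_injective R.subtype_injective, hcard]
  · haveI : Nontrivial (O.map R.subtype) := by
      rw [← Finite.one_lt_card_iff_nontrivial, Subgroup.card_map_of_injective R.subtype_injective, hcard]
      exact Nat.one_lt_pow (by norm_num) (Fact.out : p.Prime).one_lt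
    refine (Nat.dvd_prime (Fact.out : p.Prime)).1 ?_ |>.resolve_left ?_
    · refine Monoid.exponent_dvd_of_forall_pow_eq_one fun g => ?_
      obtain ⟨x, hx, hxg⟩ := g.2
      refine Subtype.ext ?_
      rw [SubmonoidClass.coe_pow, ← hxg, ← map_pow, hexp x hx]
      rfl
    · intro h1
      rw [Monoid.exp_eq_one_iff] at h1
      exact not_nontrivial_iff_subsingleton.2 h1 ‹_›
  · haveI := hcyc
    exact isCyclic_of_surjective (C.equivMapOfInjective R.subtype R.subtype_injective).toMonoidHom (MulEquiv.surjective _)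
  · rw [← Subgroup.map_commutator, ← hom, MonoidHom.map_closure]
    congr 1
    ext x
    constructor
    · rintro ⟨⟨y, hy, rfl⟩, hxp⟩
      exact ⟨y, ⟨hy, Subtype.ext hxp⟩, rfl⟩
    · rintro ⟨y, ⟨hy, hyp⟩, rfl⟩
      exact ⟨⟨y, hy, rfl⟩, congrArg Subtype.val hyp⟩

end Cfsg.Agent.S1448
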