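import Cfsg.Statements.S1460
import Cfsg.Agent.Lib.Coprime.Action

set_option autoImplicit false
open Cfsg

namespace Cfsg.Agent.S1460

/-- Let G be a finite solvable group, K a normal subgroup and U a subgroup with G = KU, and H ≤ U a subgroup whose order is coprime to that of K. Then H ∩ G' = H ∩ U'; N_G(H) is generated by K ∩ C_G(H) and U ∩ N_G(H); and if gHg⁻¹ ≤ U for some g ∈ G then g = u c with u ∈ U and c ∈ K ∩ C_G(H). -/
theorem result {G : Type*} [Group G] [Finite G] [Group.IsSolvable G] (K U H : Subgroup G) [K.Normal] (hKU : K ⊔ U = ⊤) (hH : H ≤ U) (hcop : (Nat.card H).Coprime (Nat.card K)) :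
    H ⊓ commutator G = H ⊓ ⁅U, U⁆ ∧
      Subgroup.normalizer (H : Set G) = (K ⊓ Subgroup.centralizer (H : Set G)) ⊔ (U ⊓ Subgroup.normalizer (H : Set G)) ∧
      ∀ g : G, H.map (MulAut.conj g).toMonoidHom ≤ U → ∃ u ∈ U, ∃ c ∈ K ⊓ Subgroup.centralizer (H : Set G), g = u * c := by
  have hnorm : ∀ L : Subgroup G, L ≤ Subgroup.normalizer (K : Set G) := fun L =>
    le_top.trans (Subgroup.normalizer_eq_top K).ge
  have hdec : ∀ g : G, ∃ u ∈ U, ∃ k ∈ K, g = u * k := fun g => by
    obtain ⟨u, hu, k, hk, h⟩ := (CfsgLib.Coprime.mem_sup_of_le_normalizer' (hnorm U) (x := g)).mp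
      (hKU ▸ Subgroup.mem_top g)
    exact ⟨u, hu, k, hk, h.symm⟩
  have hfactor : ∀ g : G, H.map (MulAut.conj g).toMonoidHom ≤ U →
      ∃ u ∈ U, ∃ c ∈ K ⊓ Subgroup.centralizer (H : Set G), g = u * c := by
    intro g hg
    obtain ⟨u, hu, k, hk, rfl⟩ := hdec g
    set H₁ := H.map (MulAut.conj k).toMonoidHom with hH₁
    have hH₁U : H₁ ≤ U := by
      intro x hx
      rw [hH₁, CfsgLib.Coprime.mem_map_conj] at hx
      have h2 : (u * x * u⁻¹) ∈ U := hg (CfsgLib.Coprime.mem_map_conj.mpr (by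
        have e : (u * k)⁻¹ * (u * x * u⁻¹) * (u * k) = k⁻¹ * x * k := by group
        rw [e]; exact hx))
      have := U.mul_mem (U.mul_mem (U.inv_mem hu) h2) hu
      have e : u⁻¹ * (u * x * u⁻¹) * u = x := by group
      rwa [e] at this
    let N := K ⊓ U
    have hUN : ∀ L ≤ U, L ≤ Subgroup.normalizer (N : Set G) := fun L hL =>
      (le_inf (hnorm L) (hL.trans Subgroup.le_normalizer)).trans Subgroup.inf_normalizer_le_normalizer_inf
    have hcom : ∀ h ∈ H, k * h * k⁻¹ * h⁻¹ ∈ N := by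
      intro h hh
      refine ⟨?_, ?_⟩
      · have e : k * h * k⁻¹ * h⁻¹ = k * (h * k⁻¹ * h⁻¹) := by group
        rw [e]
        exact K.mul_mem hk (Subgroup.Normal.conj_mem inferInstance _ (K.inv_mem hk) h)
      · exact U.mul_mem (hH₁U (CfsgLib.Coprime.mem_map_conj.mpr (by
          have e : k⁻¹ * (k * h * k⁻¹) * k = h := by group
          rw [e]; exact hh))) (U.inv_mem (hH hh))
    have hsup : N ⊔ H = N ⊔ H₁ := by
      apply le_antisymm <;> refine sup_le le_sup_left fun x hx => ?_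
      · have e : x = (k * x * k⁻¹ * x⁻¹)⁻¹ * (k * x * k⁻¹) := by group
        rw [e]
        exact Subgroup.mul_mem_sup (N.inv_mem (hcom x hx)) (CfsgLib.Coprime.mem_map_conj.mpr (by
          have e : k⁻¹ * (k * x * k⁻¹) * k = x := by group
          rw [e]; exact hx))
      · rw [hH₁, CfsgLib.Coprime.mem_map_conj] at hx
        have e : x = (k * (k⁻¹ * x * k) * k⁻¹ * (k⁻¹ * x * k)⁻¹) * (k⁻¹ * x * k) := by group
        rw [e]
        exact Subgroup.mul_mem_sup (hcom _ hx) hx
    obtain ⟨n, hn, hconj⟩ := CfsgLib.Coprime.exists_conj_eq_of_coprime (hUN H hH) (hUN H₁ hH₁U) hsup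
      (hcop.coprime_dvd_right (Subgroup.card_dvd_of_le inf_le_left))
      (by rw [hH₁, CfsgLib.Coprime.card_map_conj]
          exact hcop.coprime_dvd_right (Subgroup.card_dvd_of_le inf_le_left))
      (Or.inl inferInstance)
    have hcK : n⁻¹ * k ∈ K := K.mul_mem (K.inv_mem hn.1) hk
    have hcN : n⁻¹ * k ∈ Subgroup.normalizer (H : Set G) := by
      rw [Subgroup.mem_normalizer_iff_map_conj_eq]
      show H.map (MulAut.conj (n⁻¹ * k)).toMonoidHom = H
      rw [← CfsgLib.Coprime.map_conj_conj, ← hH₁, hconj, CfsgLib.Coprime.map_conj_conj,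
        inv_mul_cancel]
      ext x; rw [CfsgLib.Coprime.mem_map_conj]; simp
    exact ⟨u * n, U.mul_mem hu hn.2, n⁻¹ * k, ⟨hcK, CfsgLib.Coprime.mem_centralizer_of_mem_normalizer
      (hnorm H) (CfsgLib.Coprime.inf_eq_bot_of_coprime hcop) hcK hcN⟩, by group⟩
  refine ⟨?_, ?_, hfactor⟩
  · refine le_antisymm ?_ (inf_le_inf_left H (Subgroup.commutator_mono le_top le_top))
    rintro x ⟨hxH, hxG⟩
    refine ⟨hxH, ?_⟩
    -- modulo `K`
    obtain ⟨k, hk, hkx⟩ : ∃ k ∈ K ⊓ U, x * k⁻¹ ∈ ⁅U, U⁆ := by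
      let f := QuotientGroup.mk' K
      have htop : (U.map f) = ⊤ := by
        rw [← Subgroup.map_top_of_surjective f (QuotientGroup.mk'_surjective K), ← hKU, Subgroup.map_sup,
          QuotientGroup.map_mk'_self, bot_sup_eq]
      have hfx : f x ∈ (⁅U, U⁆).map f := by
        have := Subgroup.mem_map_of_mem f hxG
        rw [_root_.commutator_def, Subgroup.map_commutator,
          Subgroup.map_top_of_surjective f (QuotientGroup.mk'_surjective K)] at this
        rw [Subgroup.map_commutator, htop]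
        exact this
      obtain ⟨y, hy, hyx⟩ := hfx
      have hyU : y ∈ U := Subgroup.commutator_le_self U hy
      refine ⟨y⁻¹ * x, ⟨QuotientGroup.eq.mp hyx, U.mul_mem (U.inv_mem hyU) (hH hxH)⟩, ?_⟩
      have e : x * (y⁻¹ * x)⁻¹ = y := by group
      rw [e]; exact hy
    have hDn : (⁅U, U⁆.subgroupOf U).Normal := CfsgLib.Coprime.normal_subgroupOf_of_le_normalizer (by
      intro m hm
      rw [Subgroup.mem_normalizer_iff_map_conj_eq, Subgroup.map_commutator,
        Subgroup.mem_normalizer_iff_map_conj_eq.mp (Subgroup.le_normalizer hm)])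
    let g := QuotientGroup.mk' (⁅U, U⁆.subgroupOf U)
    have hgx : g ⟨x, hH hxH⟩ = g ⟨k, hk.2⟩ := by
      rw [← mul_inv_eq_one, ← map_inv, ← map_mul]
      exact (QuotientGroup.eq_one_iff _).mpr hkx
    have h1 : orderOf (g ⟨x, hH hxH⟩) ∣ Nat.card H := (orderOf_map_dvd g _).trans (by
      rw [← Subgroup.orderOf_coe]; exact Subgroup.orderOf_dvd_natCard H hxH)
    have h2 : orderOf (g ⟨x, hH hxH⟩) ∣ Nat.card K := hgx ▸ (orderOf_map_dvd g _).trans (by
      rw [← Subgroup.orderOf_coe]; exact Subgroup.orderOf_dvd_natCard K hk.1)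
    have := Nat.eq_one_of_dvd_coprimes hcop h1 h2
    rw [orderOf_eq_one_iff] at this
    exact (QuotientGroup.eq_one_iff (⟨x, hH hxH⟩ : U)).mp this
  · refine le_antisymm (fun g hg => ?_) (sup_le (inf_le_right.trans (Subgroup.centralizer_le_normalizer _)) inf_le_right)
    have hg1 := Subgroup.mem_normalizer_iff_map_conj_eq.mp hg
    obtain ⟨u, hu, c, hc, rfl⟩ := hfactor g (hg1.le.trans hH)
    have hcn : c ∈ Subgroup.normalizer (H : Set G) := Subgroup.centralizer_le_normalizer _ hc.2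
    have hun : u ∈ Subgroup.normalizer (H : Set G) := (Subgroup.mul_mem_cancel_right _ hcn).mp hg
    exact (Subgroup.mul_mem _ (Subgroup.mem_sup_right ⟨hu, hun⟩) (Subgroup.mem_sup_left hc))

end Cfsg.Agent.S1460
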