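import Cfsg.Statements.S1461
import Cfsg.Agent.Lib.OddLocal.PLength
import Cfsg.Agent.S1460

set_option autoImplicit false
open Cfsg

namespace Cfsg.Agent.S1461

/-- Let G be a finite solvable group, p a prime with G = O_{p',p,p'}(G), and S a Sylow p-subgroup. Then: if S ≤ G' then S ≤ [N_G(S), N_G(S)]; if Y ⊆ S and xYx⁻¹ ⊆ S then x = g c for some g ∈ N_G(S) and c centralizing Y; and for every p-subgroup Q there is x ∈ C_G(Q ∩ S) with xQx⁻¹ ≤ S. -/
theorem result {G : Type*} [Group G] [Finite G] [Group.IsSolvable G] (p : ℕ) [Fact p.Prime] (hpl : Cfsg.PLengthLE p 1 G) (S : Sylow p G) :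
    ((S : Subgroup G) ≤ commutator G → (S : Subgroup G) ≤ ⁅Subgroup.normalizer ((S : Subgroup G) : Set G), Subgroup.normalizer ((S : Subgroup G) : Set G)⁆) ∧
      (∀ (Y : Set G) (x : G), Y ⊆ (S : Subgroup G) → (fun y => x * y * x⁻¹) '' Y ⊆ (S : Subgroup G) →
        ∃ g ∈ Subgroup.normalizer ((S : Subgroup G) : Set G), ∃ c ∈ Subgroup.centralizer Y, g * c = x) ∧
      ∀ Q : Subgroup G, IsPGroup p Q → ∃ x ∈ Subgroup.centralizer ((Q ⊓ (S : Subgroup G) : Subgroup G) : Set G), Q.map (MulAut.conj x).toMonoidHom ≤ (S : Subgroup G) := by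
  have := CfsgLib.Solvable.pPrimeCore_normal p G
  refine ⟨fun hS => ?_, ?_, ?_⟩
  · have hcop : (Nat.card (S : Subgroup G)).Coprime (Nat.card (Cfsg.pPrimeCore p G)) := by
      obtain ⟨n, hn⟩ := IsPGroup.iff_card.mp S.2
      rw [hn]
      exact Nat.Coprime.pow_left n (CfsgLib.Solvable.pPrimeCore_coprime p).symm
    obtain ⟨h1, -, -⟩ := Cfsg.Agent.S1460.result (Cfsg.pPrimeCore p G) _ (S : Subgroup G)
      (CfsgLib.OddLocal.pLengthLE_one_frattini hpl S) Subgroup.le_normalizer hcop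
    intro x hx
    exact (h1.le ⟨hx, hS hx⟩).2
  · intro Y x hY hxY
    obtain ⟨g, hg, n, hn, rfl⟩ := CfsgLib.OddLocal.pLengthLE_one_decomp hpl S x
    refine ⟨g, hg, n, Subgroup.mem_centralizer_iff.mpr fun y hy => ?_, rfl⟩
    refine (CfsgLib.OddLocal.centralizes_of_conj_mem S hn (hY hy)
      ((Subgroup.mem_normalizer_iff.mp hg _).mpr ?_)).symm
    have := hxY ⟨y, hy, rfl⟩
    show g * (n * y * n⁻¹) * g⁻¹ ∈ (S : Subgroup G)
    have e : g * (n * y * n⁻¹) * g⁻¹ = g * n * y * (g * n)⁻¹ := by group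
    rw [e]; exact this
  · intro Q hQ
    obtain ⟨n, hn, hle⟩ := CfsgLib.OddLocal.exists_conj_le_sylow hpl S hQ
    exact ⟨n, Subgroup.mem_centralizer_iff.mpr fun y hy =>
      (CfsgLib.OddLocal.centralizes_of_conj_mem S hn hy.2 (hle ⟨y, hy.1, rfl⟩)).symm, hle⟩

end Cfsg.Agent.S1461
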