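import Cfsg.Statements.S1455
import Cfsg.Agent.Lib.OddLocal.NarrowSolvable
import Cfsg.Agent.S1450

set_option autoImplicit false
open Cfsg

namespace Cfsg.Agent.S1455

/-- Let G be a solvable group of odd order, p a prime dividing its order, and S a Sylow p-subgroup of G that is narrow; if S has an elementary abelian subgroup of order p ^ 3 assume also G = O_{p',p,p'}(G). Then every prime dividing the index of O_{p'}(G) is at most p; if p = 3 or p is the smallest prime divisor of #G then G has a normal p-complement; G' has a normal p-complement; every subgroup of G' of order coprime to p lies in O_{p'}(G'); and G' ≤ O_{p',p}(G) with the index of O_{p',p}(G) coprime to p. -/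
theorem result {G : Type*} [Group G] [Finite G] [Group.IsSolvable G] (hodd : Odd (Nat.card G)) (p : ℕ) [Fact p.Prime] (hpG : p ∣ Nat.card G) (S : Sylow p G) (hS : Cfsg.IsNarrow p ↥(S : Subgroup G))
    (hpl : ¬ Cfsg.PRankLE p 2 ↥(S : Subgroup G) → Cfsg.PLengthLE p 1 G) :
    (∀ q : ℕ, q.Prime → q ∣ (Cfsg.pPrimeCore p G).index → q ≤ p) ∧
      ((p = 3 ∨ ∀ q : ℕ, q.Prime → q ∣ Nat.card G → p ≤ q) → Cfsg.HasNormalPComplement p G) ∧
      Cfsg.HasNormalPComplement p ↥(commutator G) ∧
      (∀ L : Subgroup ↥(commutator G), (Nat.card L).Coprime p → L ≤ Cfsg.pPrimeCore p ↥(commutator G)) ∧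
      commutator G ≤ Cfsg.pPrimePCore p G ∧ ((Cfsg.pPrimePCore p G).index).Coprime p := by
  open Subgroup in
  have hpr := (Fact.out : p.Prime)
  have hp : p ≠ 2 := by
    rintro rfl
    exact (Nat.not_even_iff_odd.2 hodd) (even_iff_two_dvd.2 hpG)
  obtain ⟨hqle, hle, h3⟩ : (∀ q : ℕ, q.Prime → q ∣ (Cfsg.pPrimeCore p G).index → q ≤ p) ∧
      _root_.commutator G ≤ Cfsg.pPrimePCore p G ∧ (Cfsg.pPrimePCore p G).index.Coprime p := by
    by_cases hr : Cfsg.PRankLE p 2 ↥(S : Subgroup G)
    · exact CfsgLib.OddLocal.rank_two_structure hodd hp (CfsgLib.OddLocal.pRankLE_of_sylow S hr)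
    · exact CfsgLib.OddLocal.narrow_structure hp S hS hr (hpl hr)
  haveI hKn := CfsgLib.Solvable.pPrimeCore_normal p G
  set K := Cfsg.pPrimeCore p G with hK
  haveI hK'n := CfsgLib.Solvable.pPrimeCore_normal p ↥(commutator G)
  have hsub : K.subgroupOf (commutator G) ≤ Cfsg.pPrimeCore p ↥(commutator G) := by
    refine CfsgLib.Solvable.le_pPrimeCore inferInstance ?_
    refine (CfsgLib.Solvable.pPrimeCore_coprime (G := G) p).coprime_dvd_left ?_
    rw [← Subgroup.card_map_of_injective (f := (commutator G).subtype) (Subgroup.subtype_injective _),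
      Subgroup.subgroupOf_map_subtype]
    exact Subgroup.card_dvd_of_le inf_le_left
  have hq : IsPGroup p (↥(commutator G) ⧸ Cfsg.pPrimeCore p ↥(commutator G)) := by
    intro x
    obtain ⟨g, rfl⟩ := QuotientGroup.mk_surjective x
    obtain ⟨n, hn⟩ := CfsgLib.Solvable.pCore_isPGroup (G := G ⧸ K) p ⟨QuotientGroup.mk' K g.1, hle g.2⟩
    refine ⟨n, ?_⟩
    rw [← QuotientGroup.mk_pow, QuotientGroup.eq_one_iff]
    refine hsub ?_
    rw [Subgroup.mem_subgroupOf, SubgroupClass.coe_pow, ← QuotientGroup.eq_one_iff, QuotientGroup.mk_pow]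
    exact congrArg Subtype.val hn
  refine ⟨fun q hq hd => ?_, fun hcase => ?_, Cfsg.Agent.S1450.pcompl_of_index hq, fun L hL => ?_, hle, h3⟩
  · exact hqle q hq hd
  · refine Cfsg.Agent.S1450.pcompl_of_index (IsPGroup.of_card (n := (Nat.card (G ⧸ K)).primeFactorsList.length)
      (Nat.eq_prime_pow_of_unique_prime_dvd Nat.card_pos.ne' fun {q} hqp hqd => ?_))
    have hqd' : q ∣ K.index := by rwa [Subgroup.index_eq_card]
    have hle' : q ≤ p := hqle q hqp hqd'
    have hqG : q ∣ Nat.card G := hqd'.trans (Subgroup.index_dvd_card K)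
    rcases hcase with rfl | hmin
    · have h2q : q ≠ 2 := by
        rintro rfl
        exact (Nat.not_even_iff_odd.2 hodd) (even_iff_two_dvd.2 hqG)
      have := hqp.two_le
      omega
    · exact le_antisymm hle' (hmin q hqp hqG)
  · intro l hl
    set π := QuotientGroup.mk' (Cfsg.pPrimeCore p ↥(commutator G))
    obtain ⟨n, hn⟩ := IsPGroup.iff_orderOf.1 hq (π l)
    refine (QuotientGroup.eq_one_iff l).1 (orderOf_eq_one_iff.1 ?_)
    refine Nat.eq_one_of_dvd_coprimes (hL.pow_right n) ((orderOf_map_dvd π l).trans ?_) hn.dvd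
    rw [← Subgroup.orderOf_mk l hl]
    exact orderOf_dvd_natCard _

end Cfsg.Agent.S1455
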