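import Cfsg.Statements.S1431
import Cfsg.Agent.Lib.BG14.PDataStar

set_option autoImplicit false
open Cfsg

namespace Cfsg.Agent.S1431

/-- Let G be a minimal simple group of odd order, M a maximal subgroup, K ≠ 1 a Hall κ(M)-subgroup of M and K* = M_σ ∩ C_G(K). Then K* ∩ gMg⁻¹ = 1 for g ∉ M; K ∩ gKg⁻¹ = 1 for g ∈ M outside K K*; for every prime p dividing the order of K* and every Sylow p-subgroup S of M_σ, M is the unique maximal subgroup containing S, and S is not contained in K*; and every subgroup Y of G whose prime divisors lie in σ(M) and with Y ∩ K* ≠ 1 is contained in M_σ. -/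
theorem result {G : Type*} [Group G] [Finite G] (hG : Cfsg.IsMinSimpleOddOrder G)
    (M : Subgroup G) (hM : IsCoatom M) (K : Subgroup G) (hK : Cfsg.IsPiHallOf (Cfsg.kappa M) K M) (hK1 : K ≠ ⊥) :
    (∀ g : G, g ∉ M → (Cfsg.sigmaCore M ⊓ Subgroup.centralizer (K : Set G)) ⊓ M.map (MulAut.conj g).toMonoidHom = ⊥) ∧
      (∀ g ∈ M, g ∉ K ⊔ (Cfsg.sigmaCore M ⊓ Subgroup.centralizer (K : Set G)) → K ⊓ K.map (MulAut.conj g).toMonoidHom = ⊥) ∧
      (∀ (p : ℕ), p.Prime → p ∣ Nat.card ↥(Cfsg.sigmaCore M ⊓ Subgroup.centralizer (K : Set G)) → ∀ S : Sylow p ↥(Cfsg.sigmaCore M),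
        Cfsg.InUniqueMaximal ((S : Subgroup ↥(Cfsg.sigmaCore M)).map (Cfsg.sigmaCore M).subtype) ∧
        (S : Subgroup ↥(Cfsg.sigmaCore M)).map (Cfsg.sigmaCore M).subtype ≤ M ∧
        ¬ (S : Subgroup ↥(Cfsg.sigmaCore M)).map (Cfsg.sigmaCore M).subtype ≤ (Cfsg.sigmaCore M ⊓ Subgroup.centralizer (K : Set G))) ∧
      ∀ Y : Subgroup G, (∀ p : ℕ, p.Prime → p ∣ Nat.card Y → p ∈ Cfsg.sigma M) → Y ⊓ (Cfsg.sigmaCore M ⊓ Subgroup.centralizer (K : Set G)) ≠ ⊥ → Y ≤ Cfsg.sigmaCore M := by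
  open Subgroup CfsgLib.PLocal CfsgLib.OddLocal CfsgLib.BG CfsgLib.BG14 in
  obtain ⟨U, E, d⟩ := exists_pdata_of_hall hG hM hK hK1
  open Subgroup CfsgLib.PLocal CfsgLib.OddLocal CfsgLib.BG CfsgLib.BG14 in
  refine ⟨fun g hg => d.inf_conj hG hg, fun g hg hgK => ?_, fun p hp hd S => ?_,
    fun Y hY hm => d.le_core_of_meets hG hY hm⟩
  · by_contra hne
    obtain ⟨h, hh, hhp⟩ := exists_prime_element hne
    have hh' : g⁻¹ * h * g ∈ K := mem_conjMap.mp hh.2
    have heq := d.line_unique hG hh.1 hh' hhp (orderOf_conj_inv g h)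
    refine hgK ?_
    have : g ∈ M ⊓ Subgroup.normalizer (Subgroup.zpowers h : Set G) := by
      refine ⟨hg, conjMap_eq_self_iff.mp ?_⟩
      conv_lhs => rw [heq]
      rw [← zpowers_conj_eq]
      congr 1
      group
    rwa [d.normalizer_inf hG hh.1 hhp] at this
  · haveI := Fact.mk hp
    obtain ⟨⟨z, hz⟩, hzo⟩ := exists_prime_orderOf_dvd_card' p hd
    rw [Subgroup.orderOf_mk] at hzo
    obtain ⟨g, hg, hgp, hτ⟩ := d.exists_tau1 hG
    haveI := Fact.mk hgp
    have hS : SylowIn p ((S : Subgroup ↥(Cfsg.sigmaCore M)).map (Cfsg.sigmaCore M).subtype)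
        (Cfsg.sigmaCore M) := sylowIn_map S
    have hpσ : p ∈ Cfsg.sigma M := mem_sigma_of_dvd_sigmaCore hp
      (hd.trans (card_dvd_of_le inf_le_left))
    refine ⟨(onlyMax_of_tau1_fixed hG hM hτ hpσ (Subgroup.zpowers_le.mpr (d.K_le_M hG hg))
      (card_zpowers_eq rfl) (card_zpowers_eq hzo) (Subgroup.zpowers_le.mpr hz.1)
      (Subgroup.zpowers_le.mpr (by rw [centralizer_zpowers_eq]; exact centralizer_le_of_mem hg hz.2))).2 _ hS,
      hS.1.trans (sigmaCore_le M), fun hle => ?_⟩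
    refine not_centralizes_sylow hG hM hτ (Subgroup.zpowers_le.mpr (d.K_le_M hG hg))
      (card_zpowers_eq rfl) hS (fun e => hS.2.2 ?_) (hle.trans ?_)
    · rw [e, Subgroup.relIndex_bot_left]
      exact hd.trans (card_dvd_of_le inf_le_left)
    · rw [centralizer_zpowers_eq]
      exact inf_le_right.trans (centralizer_le_of_mem hg)

end Cfsg.Agent.S1431
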