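import Cfsg.Statements.S1374
import Cfsg.Agent.Lib.BG14.Tilde

set_option autoImplicit false
open Cfsg

namespace Cfsg.Agent.S1374

/-- Let G be a minimal simple group of odd order, M a maximal subgroup and x a non-identity element of M_σ. Then C_M(x) has order coprime to its index in C_G(x), and C_G(x) has a normal subgroup R complementing C_M(x) such that for every conjugate gMg⁻¹ containing x there is exactly one r ∈ R with rMr⁻¹ = gMg⁻¹. -/
theorem result {G : Type*} [Group G] [Finite G] (hG : Cfsg.IsMinSimpleOddOrder G)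
    (M : Subgroup G) (hM : IsCoatom M) (x : G) (hx : x ∈ Cfsg.sigmaCore M) (hx1 : x ≠ 1) :
    (Nat.card ↥(M ⊓ Subgroup.centralizer ({x} : Set G))).Coprime ((M ⊓ Subgroup.centralizer ({x} : Set G)).relIndex (Subgroup.centralizer ({x} : Set G))) ∧
      ∃ R : Subgroup G, Subgroup.centralizer ({x} : Set G) ≤ Subgroup.normalizer (R : Set G) ∧ Cfsg.IsComplIn (M ⊓ Subgroup.centralizer ({x} : Set G)) R (Subgroup.centralizer ({x} : Set G)) ∧
        ∀ g : G, x ∈ M.map (MulAut.conj g).toMonoidHom → ∃! r : G, r ∈ R ∧ M.map (MulAut.conj r).toMonoidHom = M.map (MulAut.conj g).toMonoidHom := by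
  have hex : ∀ g : G, x ∈ M.map (MulAut.conj g).toMonoidHom → ∃! r : G, r ∈ Cfsg.supportR M x ∧
      M.map (MulAut.conj r).toMonoidHom = M.map (MulAut.conj g).toMonoidHom := fun g hg =>
    CfsgLib.BG14.existsUnique_supportR hG hM hx hx1 (g := g) hg
  rcases CfsgLib.BG14.supportR_cases hG hM hx hx1 with ⟨hle, h⟩ | ⟨L, hL, h⟩
  · rw [inf_eq_right.mpr hle]
    refine ⟨by rw [Subgroup.relIndex_self]; exact Nat.coprime_one_right _, ⊥, ?_, ?_, h ▸ hex⟩
    · rw [Subgroup.normalizer_eq_top]; exact le_top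
    · exact ⟨le_rfl, bot_le, inf_bot_eq _, fun m hm => ⟨m, hm, 1, one_mem _, (mul_one m).symm⟩⟩
  · have hn : Subgroup.centralizer ({x} : Set G) ≤
        Subgroup.normalizer ((Cfsg.supportR M x : Subgroup G) : Set G) := by
      rw [h]
      exact (le_inf (hL.le.trans (CfsgLib.BG.le_normalizer_sigmaCore L)) Subgroup.le_normalizer).trans
        Subgroup.inf_normalizer_le_normalizer_inf
    have hinf : M ⊓ Subgroup.centralizer ({x} : Set G) ⊓ Cfsg.supportR M x = ⊥ := by
      rw [h, ← le_bot_iff, ← hL.disj]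
      exact le_inf (inf_le_right.trans inf_le_left) (inf_le_left.trans inf_le_left)
    have hsplit := hL.split
    refine ⟨?_, Cfsg.supportR M x, hn, ⟨inf_le_right, h ▸ inf_le_right, hinf, fun m hm => ?_⟩, hex⟩
    · obtain ⟨hn1, hn2⟩ : (M ⊓ Subgroup.centralizer ({x} : Set G)) ≤
          Subgroup.normalizer ((Cfsg.supportR M x : Subgroup G) : Set G) ∧ True := ⟨inf_le_right.trans hn, trivial⟩
      have hsup : Cfsg.supportR M x ⊔ M ⊓ Subgroup.centralizer ({x} : Set G) =
          Subgroup.centralizer ({x} : Set G) := le_antisymm (sup_le (h ▸ inf_le_right) inf_le_right) fun a ha => by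
        obtain ⟨m, hm, r, hr, rfl⟩ := hsplit a ha
        exact mul_mem (Subgroup.mem_sup_right hm) (Subgroup.mem_sup_left (h ▸ hr))
      have hc := CfsgLib.Coprime.card_sup_of_inf_eq_bot hn1 hinf
      rw [hsup, ← CfsgLib.Coprime.card_mul_relIndex (inf_le_right (a := M)),
        mul_comm (Nat.card ↥(Cfsg.supportR M x))] at hc
      rw [Nat.eq_of_mul_eq_mul_left Nat.card_pos hc]
      refine CfsgLib.BG.coprime_of_forall fun p hp h1 h2 => ?_
      haveI := Fact.mk hp
      have hσL : p ∈ Cfsg.sigma L := CfsgLib.BG.mem_sigma_of_dvd_sigmaCore hp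
        (h2.trans (Subgroup.card_dvd_of_le (h ▸ inf_le_left)))
      exact CfsgLib.BG.not_sigma_of_dvd_compl hG hL.hL hL.compl hp
        (h1.trans (Subgroup.card_dvd_of_le (le_inf inf_le_left (inf_le_right.trans hL.le)))) hσL
    · obtain ⟨a, ha, r, hr, he⟩ := hsplit m hm
      exact ⟨a, ha, r, h ▸ hr, he⟩

end Cfsg.Agent.S1374
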