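import Cfsg.Statements.S1429
import Cfsg.Agent.Lib.BG14.PDataBasic

set_option autoImplicit false
open Cfsg

namespace Cfsg.Agent.S1429

open Subgroup CfsgLib.PLocal CfsgLib.OddLocal CfsgLib.BG CfsgLib.BG14 in
theorem main {G : Type*} [Group G] [Finite G] (hG : Cfsg.IsMinSimpleOddOrder G)
    {M : Subgroup G} (hM : IsCoatom M)
    (p : ℕ) [hp : Fact p.Prime] (hpM : p ∣ Nat.card M) (hσ : p ∉ Cfsg.sigma M) (hκ : p ∉ Cfsg.kappa M)
    (S : Sylow p M) (A : Subgroup G)
    (hA : A = closure {x : G | x ∈ (S : Subgroup M).map M.subtype ∧ x ^ p = 1}) :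
    Nat.card A ≤ p ^ 2 ∧ Cfsg.sigmaCore M ⊓ centralizer (A : Set G) = ⊥ ∧
      Group.IsNilpotent (Cfsg.sigmaCore M) := by
  set T := (S : Subgroup M).map M.subtype with hT
  have hTM : T ≤ M := map_subtype_le _
  have hTp : IsPGroup p T := S.2.map _
  by_cases hr : Cfsg.PRankLE p 1 M
  · haveI : IsCyclic T := isCyclic_of_prankLE_one hG hTp hTM hr
    have hT1 : T ≠ ⊥ := by
      intro e
      have h1 := S.not_dvd_index
      rw [hT, map_eq_bot_iff_of_injective _ M.subtype_injective] at e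
      rw [e, Subgroup.index_bot] at h1
      exact h1 hpM
    obtain ⟨g, hg, hgo⟩ := exists_order_p hTp hT1
    have hAg : A = zpowers g := by
      rw [hA]
      refine le_antisymm ((closure_le _).mpr fun x hx => ?_) (zpowers_le.mpr (subset_closure ⟨hg, ?_⟩))
      · rcases eq_or_ne x 1 with rfl | hx1
        · exact one_mem _
        have h : zpowers x = zpowers g := eq_of_card_eq_of_cyclic (C := T) inferInstance
          (zpowers_le.mpr hx.1) (zpowers_le.mpr hg)
          (by rw [Nat.card_zpowers, Nat.card_zpowers, hgo, orderOf_eq_prime hx.2 hx1])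
        exact h ▸ mem_zpowers x
      · rw [← hgo]; exact pow_orderOf_eq_one g
    have hfix : Cfsg.sigmaCore M ⊓ centralizer ({g} : Set G) = ⊥ := by
      by_contra h
      exact hκ (hgo ▸ mem_kappa_of_fix hG hM (hTM hg) (hgo.symm ▸ hp.out) (hgo.symm ▸ hσ)
        (hgo.symm ▸ hr) h)
    rw [hAg]
    refine ⟨?_, by rw [centralizer_zpowers_eq]; exact hfix, ?_⟩
    · rw [Nat.card_zpowers, hgo]
      exact Nat.le_self_pow two_ne_zero p
    · exact isNilpotent_of_fpf_line (p := p) (card_zpowers_eq hgo)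
        ((zpowers_le.mpr (hTM hg)).trans (le_normalizer_sigmaCore M))
        (by rw [centralizer_zpowers_eq]; exact hfix)
  · have hτ : p ∈ Cfsg.tau2 M := ⟨hp.out, hσ, prankLE_two_of_not_sigma hG hM hσ, hr⟩
    obtain ⟨B, hBM, hB⟩ := exists_sq_le_of_not_prankLE le_rfl hr
    obtain ⟨S', hS'⟩ := (hB.isPGroup.comap_subtype (K := M)).exists_le_sylow
    obtain ⟨m, hm⟩ := MulAction.exists_smul_eq M S' S
    have hBT : conjMap (m : G) B ≤ T := by
      rintro _ ⟨b, hb, rfl⟩
      refine ⟨m * ⟨b, hBM hb⟩ * m⁻¹, ?_, rfl⟩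
      rw [← hm, Sylow.coe_subgroup_smul]
      exact ⟨⟨b, hBM hb⟩, hS' hb, by simp [MulAut.conj_apply]⟩
    have hB' : conjMap (m : G) B ≤ M ∧ Cfsg.IsElementaryAbelian p (conjMap (m : G) B) ∧
        Nat.card (conjMap (m : G) B) = p ^ 2 :=
      ⟨hBT.trans hTM, (hB.conjMap _).1, (hB.conjMap _).2⟩
    obtain ⟨hnil, hSy, -, hC, -⟩ := i1417 hG M hM p hτ _ hB'
    obtain ⟨hΩ, -⟩ := (hSy S).2 hBT
    have hAB : A = conjMap (m : G) B := by
      rw [hA]
      refine le_antisymm ((closure_le _).mpr fun x hx => (hΩ x hx.1).mp hx.2)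
        fun x hx => subset_closure ⟨hBT hx, (hΩ x (hBT hx)).mpr hx⟩
    rw [hAB]
    exact ⟨hB'.2.2.le, hC, hnil⟩

/-- Let G be a minimal simple group of odd order and M a maximal subgroup such that κ(M) is not the whole of the primes of M outside σ(M) (M is not of type P₁). Let p divide the order of M with p ∉ σ(M) ∪ κ(M), S a Sylow p-subgroup of M, and A the subgroup generated by the elements of S of order dividing p. Then A has order at most p ^ 2, M_σ ∩ C_G(A) = 1, and M_σ is nilpotent. -/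
theorem result {G : Type*} [Group G] [Finite G] (hG : Cfsg.IsMinSimpleOddOrder G)
    (M : Subgroup G) (hM : IsCoatom M) (hP1 : ¬ (∀ q : ℕ, q.Prime → q ∣ Nat.card M → q ∉ Cfsg.sigma M → q ∈ Cfsg.kappa M))
    (p : ℕ) [Fact p.Prime] (hpM : p ∣ Nat.card M) (hp : p ∉ Cfsg.sigma M ∪ Cfsg.kappa M) (S : Sylow p M) :
    Nat.card ↥(Subgroup.closure {x : G | x ∈ (S : Subgroup M).map M.subtype ∧ x ^ p = 1}) ≤ p ^ 2 ∧
      Cfsg.sigmaCore M ⊓ Subgroup.centralizer ((Subgroup.closure {x : G | x ∈ (S : Subgroup M).map M.subtype ∧ x ^ p = 1} : Subgroup G) : Set G) = ⊥ ∧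
      Group.IsNilpotent (Cfsg.sigmaCore M) := by
  exact main hG hM p hpM (fun h => hp (Or.inl h)) (fun h => hp (Or.inr h)) S _ rfl

end Cfsg.Agent.S1429
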