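import Cfsg.Statements.S1435
import Cfsg.Agent.Lib.BG14.OutsideStruct

set_option autoImplicit false
open Cfsg

namespace Cfsg.Agent.S1435

section
open Subgroup CfsgLib.PLocal CfsgLib.OddLocal CfsgLib.BG CfsgLib.BG14
open scoped commutatorElement

theorem main {G : Type*} [Group G] [Finite G] (hG : Cfsg.IsMinSimpleOddOrder G)
    {M K U L U₁ E₁ H R : Subgroup G} (d : PData M K U (U ⊔ K))
    (d₁ : PData L (starOf M K) U₁ E₁) (h2 : starOf L (starOf M K) = K) (hU1 : U ≠ ⊥)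
    {r : ℕ} [Fact r.Prime] (hr : r ∣ Nat.card U) (hR : SylowIn r R U) (hH : IsCoatom H)
    (hNR : normalizer (R : Set G) ≤ H) :
    Cfsg.kappa H = ∅ ∧ U ≤ Cfsg.sigmaCore H ∧ M ⊓ H = U ⊔ K ∧
      ¬ H ⊓ normalizer (U : Set G) ≤ M ∧
      K ≤ Cfsg.fittingOf (H ⊓ L) ∧ Cfsg.IsComplIn (H ⊓ L) (Cfsg.sigmaCore H) H := by
  have hr' : r.Prime := Fact.out
  have hR1 : R ≠ ⊥ := fun e => hR.2.2 (by rw [e, relIndex_bot_left]; exact hr)
  have hcomm : U ≤ centralizer (U : Set G) := le_centralizer_of_isMulCommutative d.comm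
  have hUR : U ≤ normalizer (R : Set G) :=
    (hcomm.trans (Subgroup.centralizer_le hR.1)).trans (centralizer_le_normalizer _)
  have hKR : K ≤ normalizer (R : Set G) := by
    refine (d.K_le.trans d.normal).trans (normalizer_le_normalizer_sylow hG ?_ hR)
    haveI := d.comm
    open scoped IsMulCommutative in exact inferInstance
  have hUH : U ≤ H := hUR.trans hNR
  have hKH : K ≤ H := hKR.trans hNR
  obtain ⟨k, hk, hkp⟩ := d.exists_prime hG
  have hrσ : r ∉ Cfsg.sigma M := not_sigma_of_dvd_compl hG d.hM d.compl hr'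
    (hr.trans (card_dvd_of_le le_sup_left))
  -- `R` is a Sylow subgroup of `M`
  have hRM : SylowIn r R M := by
    refine ⟨hR.1.trans (d.U_le_M hG), hR.2.1, fun hd => ?_⟩
    rw [← relIndex_mul_relIndex R U M hR.1 (d.U_le_M hG)] at hd
    refine (hr'.dvd_mul.mp hd).elim hR.2.2 fun h => ?_
    have hM' : Nat.card U * U.relIndex M =
        Nat.card U * (Nat.card (Cfsg.sigmaCore M) * Nat.card K) := by
      rw [CfsgLib.Coprime.card_mul_relIndex (d.U_le_M hG), mul_left_comm, ← d.card_E hG,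
        CfsgLib.BG.card_compl hG d.hM d.compl, CfsgLib.Coprime.card_mul_relIndex (sigmaCore_le M)]
    rw [Nat.eq_of_mul_eq_mul_left Nat.card_pos hM'] at h
    rcases hr'.dvd_mul.mp h with h' | h'
    · exact hrσ (mem_sigma_of_dvd_sigmaCore hr' h')
    · exact hr'.ne_one (Nat.eq_one_of_dvd_coprimes d.coprime hr h')
  have nM : ∀ c : G, H ≠ conjMap c M := by
    intro c hc
    subst hc
    have h1 : SylowIn r (conjMap c R) (conjMap c M) := by
      obtain ⟨S, hS⟩ := exists_sylow_map hRM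
      refine ⟨conjMap_mono hRM.1, hRM.2.1.map _, ?_⟩
      rw [show (conjMap c R).relIndex (conjMap c M) = R.relIndex M from
        relIndex_map_map_of_injective _ _ (MulAut.conj c).injective]
      exact hRM.2.2
    have h2' : SylowIn r R (conjMap c M) := h1.of_card_le hR.2.1 (hR.1.trans hUH) (card_conjMap c R).le
    obtain ⟨x, hx, hxR⟩ := h1.exists_conj_eq h2'
    have hcx : c⁻¹ * x ∈ conjMap c M := hNR (conjMap_eq_self_iff.mp (by
      rw [← conjMap_conjMap, hxR, conjMap_inv_conjMap]))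
    have hcM : c ∈ M := by
      have h3 := mem_conjMap.mp hcx
      rw [show c⁻¹ * (c⁻¹ * x) * c = c⁻¹ * (c⁻¹ * x * c) by group,
        Subgroup.mul_mem_cancel_right M (mem_conjMap.mp hx)] at h3
      exact inv_mem_iff.mp h3
    have hcM' : conjMap c M = M := conjMap_eq_self_iff.mpr (le_normalizer hcM)
    obtain ⟨S, hS⟩ := exists_sylow_map hRM
    exact hrσ ⟨hr', hr.trans (card_dvd_of_le (d.U_le_M hG)), S, by rw [hS]; exact hNR.trans hcM'.le⟩
  have nL : ∀ c : G, H ≠ conjMap c L := by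
    intro c hc
    have hkL : k ∈ starOf L (starOf M K) := h2.ge hk
    have hσ : orderOf k ∈ Cfsg.sigma H := by
      rw [hc, sigma_conjMap]
      exact mem_sigma_of_dvd_sigmaCore hkp ((Cfsg.sigmaCore L).orderOf_dvd_natCard hkL.1)
    have hHL : H = L := eq_partner hG d₁ hkL hkp hH (mem_sigmaCore_of hG hH (hKH hk)
      fun _ hq hd => (Nat.prime_dvd_prime_iff_eq hq hkp).mp hd ▸ hσ)
    exact hR1 (le_bot_iff.mp ((d.U_inf_partner hG d₁ h2) ▸ le_inf hR.1 (hR.1.trans (hUH.trans hHL.le))))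
  have o : Outside M K U (U ⊔ K) L U₁ E₁ H k := ⟨d, d₁, h2, hU1, hH, hk, hkp, hKH hk, nM, nL⟩
  have hUσ : U ≤ Cfsg.sigmaCore H := (le_inf le_rfl hUH).trans (o.U_inf_le hG)
  have hMH : M ⊓ H = U ⊔ K := by
    refine le_antisymm (fun x hx => ?_) (le_inf d.compl.1 (sup_le hUH hKH))
    obtain ⟨e, he, n, hn, rfl⟩ := d.compl.2.2.2 x hx.1
    have hnH : n ∈ H := (Subgroup.mul_mem_cancel_left H (sup_le hUH hKH he)).mp hx.2
    have hnU : n ∈ Cfsg.sigmaCore M ⊓ centralizer (U : Set G) := by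
      refine ⟨hn, ?_⟩
      show n ∈ centralizer (U : Set G)
      rw [mem_centralizer_iff]
      intro u hu
      have h : ⁅n, u⁆ ∈ Cfsg.sigmaCore M ⊓ Cfsg.sigmaCore H := commutator_mem_both hn (hUσ hu)
        (le_normalizer_sigmaCore H hnH) (le_normalizer_sigmaCore M (d.U_le_M hG hu))
      rw [core_inf_core hG d.hM hH nM, mem_bot, commutatorElement_eq_one_iff_mul_comm] at h
      exact h.symm
    rw [d.star_U hG hU1, mem_bot] at hnU
    rw [hnU, mul_one]
    exact he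
  refine ⟨o.kappa_empty hG, hUσ, hMH, fun hle => ?_, ?_, (o.inter_compl hG).1⟩
  · have hN : Cfsg.sigmaCore H ⊓ normalizer (U : Set G) ≤ U := by
      intro x hx
      obtain ⟨hxσ, hxn⟩ := mem_inf.mp hx
      have hxMH : x ∈ M ⊓ H := ⟨hle ⟨sigmaCore_le H hxσ, hxn⟩, sigmaCore_le H hxσ⟩
      rw [hMH] at hxMH
      refine d.mem_U_of hG hxMH fun q hq hqd hqK => o.not_sigma hG ?_
      rw [← o.zpowers_eq hG, Nat.card_zpowers] at hqK
      rw [← (Nat.prime_dvd_prime_iff_eq hq hkp).mp hqK]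
      exact mem_sigma_of_dvd_sigmaCore hq (hqd.trans ((Cfsg.sigmaCore H).orderOf_dvd_natCard hxσ))
    have hUeq : U = Cfsg.sigmaCore H := by
      refine le_antisymm hUσ ?_
      by_contra hlt
      haveI := o.nilpotent hG
      have hlt' : U.subgroupOf (Cfsg.sigmaCore H) < ⊤ := lt_top_iff_ne_top.mpr fun e =>
        hlt fun x hx => (e ▸ mem_top (⟨x, hx⟩ : Cfsg.sigmaCore H) :
          (⟨x, hx⟩ : Cfsg.sigmaCore H) ∈ U.subgroupOf (Cfsg.sigmaCore H))
      obtain ⟨y, hy, hy'⟩ := SetLike.exists_of_lt (Group.normalizerCondition_of_isNilpotent _ hlt')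
      refine hy' (mem_subgroupOf.mpr (hN ⟨y.2, ?_⟩))
      show (y : G) ∈ normalizer (U : Set G)
      rw [mem_normalizer_iff] at hy ⊢
      intro z
      constructor
      · intro hz
        exact (hy ⟨z, hUσ hz⟩).mp hz
      · intro hz
        have hzσ : z ∈ Cfsg.sigmaCore H := by
          have h1 := mul_mem (mul_mem (inv_mem y.2) (hUσ hz)) y.2
          rwa [show (y : G)⁻¹ * ((y : G) * z * (y : G)⁻¹) * y = z by group] at h1
        exact (hy ⟨z, hzσ⟩).mpr hz
    have hn : H ≤ normalizer (U : Set G) := hUeq ▸ le_normalizer_sigmaCore H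
    have hHM : H ≤ M := (le_inf le_rfl hn).trans hle
    refine nM 1 ?_
    rw [conjMap_eq_self_iff.mpr (one_mem _)]
    by_contra hne
    exact d.hM.1 (hH.2 M (lt_of_le_of_ne hHM hne))
  · rw [← o.zpowers_eq hG]
    exact (o.inter_compl hG).2

end


/-- Let G be a minimal simple group of odd order, M a maximal subgroup with standard factorisation M = K U M_σ, K ≠ 1, U ≠ 1, K* = M_σ ∩ C_G(K), M* a maximal subgroup with K = M*_σ ∩ C_G(K*) and K* a Hall κ(M*)-subgroup of M*, r a prime dividing the order of U, R a Sylow r-subgroup of U, and H a maximal subgroup containing N_G(R). Then κ(H) is empty, U ≤ H_σ, M ∩ H = U ⊔ K, H ∩ N_G(U) ⊄ M, K ≤ F(H ∩ M*), and H ∩ M* is a complement to H_σ in H. -/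
theorem result {G : Type*} [Group G] [Finite G] (hG : Cfsg.IsMinSimpleOddOrder G)
    (M : Subgroup G) (hM : IsCoatom M) (K U : Subgroup G) (hKU : Cfsg.IsSigmaDecomposition M K U) (hK1 : K ≠ ⊥) (hU1 : U ≠ ⊥) (Mstar : Subgroup G) (hMstar : IsCoatom Mstar)
    (hKst : K = Cfsg.sigmaCore Mstar ⊓ Subgroup.centralizer ((Cfsg.sigmaCore M ⊓ Subgroup.centralizer (K : Set G)) : Set G))
    (hKstH : Cfsg.IsPiHallOf (Cfsg.kappa Mstar) (Cfsg.sigmaCore M ⊓ Subgroup.centralizer (K : Set G)) Mstar)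
    (r : ℕ) [Fact r.Prime] (hr : r ∣ Nat.card U) (R : Sylow r U) (H : Subgroup G) (hH : IsCoatom H)
    (hNR : Subgroup.normalizer (((R : Subgroup U).map U.subtype : Subgroup G) : Set G) ≤ H) :
    Cfsg.kappa H = ∅ ∧ U ≤ Cfsg.sigmaCore H ∧ M ⊓ H = U ⊔ K ∧ ¬ H ⊓ Subgroup.normalizer (U : Set G) ≤ M ∧
      K ≤ Cfsg.fittingOf (H ⊓ Mstar) ∧ Cfsg.IsComplIn (H ⊓ Mstar) (Cfsg.sigmaCore H) H := by
  open CfsgLib.BG14 in
  obtain ⟨U₁, E₁, d₁⟩ := CfsgLib.BG14.exists_pdata_of_hall hG hMstar hKstH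
    (CfsgLib.BG14.exists_pdata_of_decomp hG hM hKU hK1).fix_ne
  exact main hG (CfsgLib.BG14.exists_pdata_of_decomp hG hM hKU hK1) d₁ hKst.symm hU1 hr
    (CfsgLib.BG.sylowIn_map R) hH hNR

end Cfsg.Agent.S1435
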