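import Cfsg.Statements.S1381
import Cfsg.Agent.Lib.BG.TypeTI
import Cfsg.Agent.Lib.BG.TypesNormalizer

set_option autoImplicit false
open Cfsg

namespace Cfsg.Agent.S1381

/-- Let G be a minimal simple group of odd order and M a maximal subgroup with standard factorisation M = K U M_σ. Then M is of Type II if and only if K ≠ 1 and U ≠ 1. -/
theorem result {G : Type*} [Group G] [Finite G] (hG : Cfsg.IsMinSimpleOddOrder G)
    (M : Subgroup G) (hM : IsCoatom M) (K U : Subgroup G) (hKU : Cfsg.IsSigmaDecomposition M K U) :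
    Cfsg.IsOfTypeII M ↔ (K ≠ ⊥ ∧ U ≠ ⊥) := by
  open CfsgLib.BG in
  constructor
  · rintro ⟨W₁, V, W₂, hP, hV1, -, -, -, hN, -⟩
    have hK := K_ne_bot_of_typeP hG hM hKU hP
    exact ⟨hK, fun hU => hN (typeP_V_normalizer hG hM hKU hP hU hV1)⟩
  · rintro ⟨hK, hU⟩
    have heq : Cfsg.fittingHallOf M = Cfsg.sigmaCore M := by
      by_contra hne
      exact hU (Cfsg.Agent.S1437.result hG M hM K U hKU hne).1
    obtain ⟨V, hV, hVn, hKV, h1, -⟩ := exists_derived_compl hG hM hKU hK
    have hVU := h1 heq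
    refine ⟨K, U, _, isTypePWith hG hM hKU hK (hVU ▸ hV) (hVU ▸ hVn) hKU.normal, hU,
      decomp_K_prime hG hM hKU hK hU, fittingOf_TI_of_U hG hM hKU hK hU,
      decomp_U_abelian hG hM hKU hK, typeP_normalizer_U hG hM hKU hK, ?_, fittingHallOf_derived hG hM hKU hK heq⟩
    exact derived_typeF hG hM hKU hK hU heq (hVU ▸ hV)


end Cfsg.Agent.S1381
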