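import Cfsg.Statements.S1382
import Cfsg.Agent.Lib.BG.TypeTI
import Cfsg.Agent.Lib.BG.TypesNormalizer

set_option autoImplicit false
open Cfsg

namespace Cfsg.Agent.S1382

/-- Let G be a minimal simple group of odd order and M a maximal subgroup with standard factorisation M = K U M_σ. Then M is of Type III or of Type IV if and only if K ≠ 1, U = 1 and M_F ≠ M_σ. -/
theorem result {G : Type*} [Group G] [Finite G] (hG : Cfsg.IsMinSimpleOddOrder G)
    (M : Subgroup G) (hM : IsCoatom M) (K U : Subgroup G) (hKU : Cfsg.IsSigmaDecomposition M K U) :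
    (Cfsg.IsOfTypeIII M ∨ Cfsg.IsOfTypeIV M) ↔ (K ≠ ⊥ ∧ U = ⊥ ∧ Cfsg.fittingHallOf M ≠ Cfsg.sigmaCore M) := by
  open CfsgLib.BG in
  refine ⟨typeIII_IV_imp hG hM hKU, ?_⟩
  rintro ⟨hK, hU, hne⟩
  open CfsgLib.BG in
  obtain ⟨V, hV, hVn, hKV, -, h2⟩ := exists_derived_compl hG hM hKU hK
  obtain ⟨hV1, hN⟩ := h2 hne
  have hP := CfsgLib.BG.isTypePWith hG hM hKU hK hV hVn hKV
  have hKp : (Nat.card K).Prime := (Cfsg.Agent.S1437.result hG M hM K U hKU hne).2.2.1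
  have hTI := CfsgLib.BG.fittingOf_TI_of_ne hG hM hKU hne
  by_cases hab : IsMulCommutative V
  · exact Or.inl ⟨_, V, _, hP, hV1, hKp, hTI, hab, hN⟩
  · exact Or.inr ⟨_, V, _, hP, hV1, hKp, hTI, hab, hN⟩


end Cfsg.Agent.S1382
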