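import Cfsg.Statements.S1545
import Cfsg.Agent.Lib.Clifford.CoprimeTrace
import Cfsg.Agent.Lib.Coprime.Action

set_option autoImplicit false
open Cfsg

namespace Cfsg.Agent.S1545

open scoped commutatorElement

section Sections

variable {X : Type*} [Group X] [Finite X]

/-- `C_M(B)` has order `|C_N(B)|` times the order of the fixed points of `B` on `M ⧸ N`. -/
theorem card_inf_centralizer_section {M N B : Subgroup X} (hNM : N ≤ M)
    [(N.subgroupOf M).Normal] (hBM : B ≤ Subgroup.normalizer (M : Set X))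
    (hBN : B ≤ Subgroup.normalizer (N : Set X)) (hcop : (Nat.card B).Coprime (Nat.card M))
    (hs : Group.IsSolvable N) (act : B → M ⧸ N.subgroupOf M → M ⧸ N.subgroupOf M)
    (hact : ∀ (b : B) (m : M), act b (QuotientGroup.mk m) =
      QuotientGroup.mk ⟨(b : X) * m * (b : X)⁻¹, (hBM b.2 m).mp m.2⟩) :
    Nat.card ↥(M ⊓ Subgroup.centralizer (B : Set X)) =
      Nat.card ↥(N ⊓ Subgroup.centralizer (B : Set X)) *
        Nat.card {v : M ⧸ N.subgroupOf M // ∀ b : B, act b v = v} := by
  classical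
  let C := M ⊓ Subgroup.centralizer (B : Set X)
  let f : C →* M ⧸ N.subgroupOf M :=
    (QuotientGroup.mk' (N.subgroupOf M)).comp (Subgroup.inclusion (inf_le_left : C ≤ M))
  have hrange : ∀ v, v ∈ f.range ↔ ∀ b : B, act b v = v := by
    intro v
    constructor
    · rintro ⟨c, rfl⟩ b
      show act b (QuotientGroup.mk (⟨c, c.2.1⟩ : M)) = QuotientGroup.mk (⟨c, c.2.1⟩ : M)
      rw [hact]
      refine congr_arg QuotientGroup.mk (Subtype.ext ?_)
      show (b : X) * c * (b : X)⁻¹ = c
      rw [Subgroup.mem_centralizer_iff.mp c.2.2 b b.2, mul_inv_cancel_right]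
    · intro hv
      obtain ⟨m, rfl⟩ := QuotientGroup.mk_surjective v
      obtain ⟨n, hn, hc⟩ := CfsgLib.Coprime.exists_mem_centralizer_of_coset hBM hBN hNM hcop
        (Or.inr hs) m.2 fun b hb => by
          have h := hv ⟨b, hb⟩
          rw [hact, eq_comm, QuotientGroup.eq, Subgroup.mem_subgroupOf] at h
          simpa [mul_assoc] using h
      refine ⟨⟨(m : X) * n, M.mul_mem m.2 (hNM hn), hc⟩, (QuotientGroup.eq.mpr ?_).symm⟩
      rw [Subgroup.mem_subgroupOf]
      simpa using hn
  have hker : Nat.card f.ker = Nat.card ↥(N ⊓ Subgroup.centralizer (B : Set X)) :=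
    Nat.card_congr
      { toFun := fun c => ⟨((c : C) : X), by
          have h : (⟨((c : C) : X), (c : C).2.1⟩ : M) ∈ N.subgroupOf M :=
            (QuotientGroup.eq_one_iff _).mp c.2
          exact Subgroup.mem_subgroupOf.mp h, (c : C).2.2⟩
        invFun := fun c => ⟨⟨(c : X), hNM c.2.1, c.2.2⟩,
          (QuotientGroup.eq_one_iff _).mpr (Subgroup.mem_subgroupOf.mpr c.2.1)⟩
        left_inv := fun _ => rfl
        right_inv := fun _ => rfl }
  rw [show Nat.card ↥(M ⊓ Subgroup.centralizer (B : Set X)) = Nat.card C from rfl,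
    Subgroup.card_eq_card_quotient_mul_card_subgroup f.ker,
    Nat.card_congr (QuotientGroup.quotientKerEquivRange f).toEquiv, hker, mul_comm,
    ← Nat.card_congr (Equiv.subtypeEquivRight hrange)]

end Sections

theorem layer {A W : Type*} [Group A] [Finite A] [CommGroup W] [Finite W] (p : ℕ) [Fact p.Prime]
    (hA : (Nat.card A).Coprime p) (hexp : ∀ w : W, w ^ p = 1) (act : A → W →* W)
    (h1 : ∀ w, act 1 w = w) (hmul : ∀ a b w, act (a * b) w = act a (act b w))
    (U E : Subgroup A) [U.Normal] (hbot : U ⊓ E = ⊥) (htop : U ⊔ E = ⊤)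
    (hfpf : ∀ x ∈ E, x ≠ 1 → ∀ u ∈ U, x * u = u * x → u = 1) :
    Nat.card {v : W // ∀ g : A, act g v = v} ^ Nat.card E * Nat.card W =
      Nat.card {v : W // ∀ g ∈ E, act g v = v} ^ Nat.card E *
        Nat.card {v : W // ∀ g ∈ U, act g v = v} := by
  have hexp' : ∀ v : Additive W, p • v = 0 := fun v => by
    show Additive.ofMul (Additive.toMul v ^ p) = 0
    rw [hexp, ofMul_one]
  let _ := AddCommGroup.zmodModule (n := p) hexp'
  let φ : A → Module.End (ZMod p) (Additive W) := fun a =>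
    (MonoidHom.toAdditive (act a)).toZModLinearMap p
  have hφ1 : φ 1 = 1 := by
    refine LinearMap.ext fun v => ?_
    rw [Module.End.one_apply]
    exact congr_arg Additive.ofMul (h1 (Additive.toMul v))
  have hφm : ∀ a b, φ (a * b) = φ a * φ b := fun a b =>
    LinearMap.ext fun v => congr_arg Additive.ofMul (hmul a b (Additive.toMul v))
  let ρ : Representation (ZMod p) A (Additive W) := ⟨⟨φ, hφ1⟩, hφm⟩
  have h := CfsgLib.Clifford.CoprimeTrace.card_fixed_formula p hA ρ U E hbot htop hfpf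
  have e : ∀ (P : A → Prop), Nat.card {v : Additive W // ∀ g, P g → ρ g v = v} =
      Nat.card {v : W // ∀ g, P g → act g v = v} := fun P =>
    Nat.card_congr (Additive.toMul.subtypeEquiv fun v =>
      ⟨fun h g hg => congr_arg Additive.toMul (h g hg),
       fun h g hg => congr_arg Additive.ofMul (h g hg)⟩)
  have e0 : Nat.card {v : Additive W // ∀ g, ρ g v = v} = Nat.card {v : W // ∀ g, act g v = v} :=
    Nat.card_congr (Additive.toMul.subtypeEquiv fun v =>
      ⟨fun h g => congr_arg Additive.toMul (h g), fun h g => congr_arg Additive.ofMul (h g)⟩)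
  rwa [e0, e (· ∈ E), e (· ∈ U), Nat.card_congr (Additive.toMul (α := W))] at h

theorem formula {X : Type*} [Group X] [Finite X] {U E : Subgroup X} (hUE : U ⊓ E = ⊥)
    (hUn : ∀ e ∈ E, ∀ u ∈ U, e * u * e⁻¹ ∈ U)
    (hfpf : ∀ e ∈ E, e ≠ 1 → ∀ u ∈ U, e * u = u * e → u = 1) :
    ∀ (n : ℕ) (M : Subgroup X), Nat.card M = n → (U ⊔ E) ≤ Subgroup.normalizer (M : Set X) →
      Group.IsSolvable M → Nat.Coprime (Nat.card ↥(U ⊔ E)) (Nat.card M) →
      Nat.card ↥(M ⊓ Subgroup.centralizer ((U ⊔ E : Subgroup X) : Set X)) ^ Nat.card E * Nat.card M =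
        Nat.card ↥(M ⊓ Subgroup.centralizer (E : Set X)) ^ Nat.card E *
          Nat.card ↥(M ⊓ Subgroup.centralizer (U : Set X)) := by
  intro n
  induction n using Nat.strong_induction_on with
  | _ n ih =>
  intro M hn hA hsol hcop
  classical
  set A := U ⊔ E
  by_cases hM : M = ⊥
  · subst hM; simp
  -- a normal subgroup with elementary abelian factor
  have : Nontrivial M := (Subgroup.nontrivial_iff_ne_bot M).mpr hM
  have hD : ⁅M, M⁆ < M := by
    refine lt_of_le_of_ne (Subgroup.commutator_le_self M) fun h => ?_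
    refine (Group.IsSolvable.commutator_lt_top_of_nontrivial (G := M)).ne ?_
    refine Subgroup.map_injective M.subtype_injective ?_
    rw [← MonoidHom.range_eq_map, Subgroup.range_subtype, Subgroup.map_subtype_commutator, h]
  obtain ⟨p, hp, hpd⟩ := Nat.exists_prime_and_dvd (n := (⁅M, M⁆.subgroupOf M).index)
    (fun h => hD.ne (le_antisymm hD.le (Subgroup.subgroupOf_eq_top.mp (Subgroup.index_eq_one.mp h))))
  have := Fact.mk hp
  let N : Subgroup X := ⁅M, M⁆ ⊔ Subgroup.closure {y | ∃ x ∈ M, x ^ p = y}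
  have hNM : N ≤ M := sup_le hD.le ((Subgroup.closure_le M).mpr (by
    rintro _ ⟨x, hx, rfl⟩; exact M.pow_mem hx p))
  have hcommN : ∀ a ∈ M, ∀ b ∈ M, a * b * a⁻¹ * b⁻¹ ∈ N := fun a ha b hb =>
    Subgroup.mem_sup_left (Subgroup.commutator_mem_commutator ha hb)
  have hNn : (N.subgroupOf M).Normal := ⟨fun x hx g => by
    rw [Subgroup.mem_subgroupOf] at hx ⊢
    have h := N.mul_mem (hcommN g g.2 x x.2) hx
    simpa [mul_assoc] using h⟩
  have hinv : ∀ a ∈ A, ∀ x ∈ M, a * x * a⁻¹ ∈ M := fun a ha x hx => (hA ha x).mp hx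
  have hmapN : ∀ a ∈ A, N ≤ N.comap (MulAut.conj a).toMonoidHom := by
    intro a ha
    refine sup_le (Subgroup.commutator_le.mpr fun x hx y hy => ?_) ((Subgroup.closure_le _).mpr ?_)
    · show (MulAut.conj a) ⁅x, y⁆ ∈ N
      rw [map_commutatorElement, commutatorElement_def]
      exact hcommN _ (hinv a ha x hx) _ (hinv a ha y hy)
    · rintro _ ⟨x, hx, rfl⟩
      show (MulAut.conj a) (x ^ p) ∈ N
      rw [map_pow]
      exact Subgroup.mem_sup_right (Subgroup.subset_closure ⟨_, hinv a ha x hx, rfl⟩)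
  have hAN : A ≤ Subgroup.normalizer (N : Set X) := fun a ha x => ⟨fun hx => hmapN a ha hx,
    fun hx => by
      have h : a⁻¹ * (a * x * a⁻¹) * a⁻¹⁻¹ ∈ N := hmapN a⁻¹ (A.inv_mem ha) hx
      simpa [mul_assoc] using h⟩
  have hlt : N < M := by
    refine lt_of_le_of_ne hNM fun h => ?_
    have : (⁅M, M⁆.subgroupOf M).Normal := ⟨fun x hx g => by
      rw [Subgroup.mem_subgroupOf] at hx ⊢
      have h := (⁅M, M⁆).mul_mem (Subgroup.commutator_mem_commutator g.2 x.2) hx
      simpa [commutatorElement_def, mul_assoc] using h⟩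
    let Q := M ⧸ ⁅M, M⁆.subgroupOf M
    obtain ⟨q, hq⟩ := exists_prime_orderOf_dvd_card' (G := Q) p
      (by rwa [← Subgroup.index_eq_card])
    have hQc : ∀ a b : Q, a * b = b * a := by
      intro a b
      obtain ⟨a, rfl⟩ := QuotientGroup.mk_surjective a
      obtain ⟨b, rfl⟩ := QuotientGroup.mk_surjective b
      rw [← QuotientGroup.mk_mul, ← QuotientGroup.mk_mul, QuotientGroup.eq, Subgroup.mem_subgroupOf]
      have h := Subgroup.commutator_mem_commutator (M.inv_mem b.2) (M.inv_mem a.2)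
      simpa [commutatorElement_def, mul_assoc] using h
    have hpow : ∀ a b : Q, (a * b) ^ p = a ^ p * b ^ p := fun a b =>
      (show Commute a b from hQc a b).mul_pow p
    let P : Q →* Q := MonoidHom.mk' (fun a => a ^ p) hpow
    have hle : N ≤ (P.range.comap (QuotientGroup.mk' (⁅M, M⁆.subgroupOf M))).map M.subtype := by
      refine sup_le (fun x hx => ⟨⟨x, hD.le hx⟩, ?_, rfl⟩) ((Subgroup.closure_le _).mpr ?_)
      · refine ⟨1, ?_⟩
        rw [map_one]
        exact ((QuotientGroup.eq_one_iff _).mpr (Subgroup.mem_subgroupOf.mpr hx)).symm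
      · rintro _ ⟨x, hx, rfl⟩
        exact ⟨⟨x, hx⟩ ^ p, ⟨QuotientGroup.mk ⟨x, hx⟩, rfl⟩, rfl⟩
    have hsurj : Function.Surjective P := by
      intro v
      obtain ⟨m, rfl⟩ := QuotientGroup.mk_surjective v
      have hmN : (m : X) ∈ N := by rw [h]; exact m.2
      obtain ⟨m', hm', he⟩ := hle hmN
      rw [← Subtype.ext (he : (m' : X) = m)]
      exact hm'
    have hinj := Finite.injective_iff_surjective.mpr hsurj
    have : q = 1 := hinj (show P q = P 1 by
      show q ^ p = 1 ^ p
      rw [one_pow, ← hq, pow_orderOf_eq_one])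
    rw [this, orderOf_one] at hq
    exact hp.one_lt.ne hq
  -- the induction hypothesis
  have hsN : Group.IsSolvable N := CfsgLib.Coprime.isSolvable_of_le hsol hNM
  have hih := ih (Nat.card N) (hn ▸ by
    refine lt_of_le_of_ne (Subgroup.card_le_of_le hNM) fun h => hlt.ne ?_
    exact Subgroup.eq_of_le_of_card_ge hNM h.ge) N rfl hAN hsN
    (hcop.coprime_dvd_right (Subgroup.card_dvd_of_le hNM))
  -- the module structure on the factor
  let W := M ⧸ N.subgroupOf M
  let _ : CommGroup W := { (inferInstance : Group W) with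
    mul_comm := fun a b => by
      obtain ⟨a, rfl⟩ := QuotientGroup.mk_surjective a
      obtain ⟨b, rfl⟩ := QuotientGroup.mk_surjective b
      rw [← QuotientGroup.mk_mul, ← QuotientGroup.mk_mul, QuotientGroup.eq, Subgroup.mem_subgroupOf]
      simpa [mul_assoc] using hcommN _ (M.inv_mem b.2) _ (M.inv_mem a.2) }
  have hexp : ∀ v : W, v ^ p = 1 := by
    intro v
    obtain ⟨m, rfl⟩ := QuotientGroup.mk_surjective v
    rw [← QuotientGroup.mk_pow, QuotientGroup.eq_one_iff, Subgroup.mem_subgroupOf]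
    exact Subgroup.mem_sup_right (Subgroup.subset_closure ⟨m, m.2, rfl⟩)
  let cj : A → M →* M := fun a =>
    { toFun := fun m => ⟨(a : X) * m * (a : X)⁻¹, hinv a a.2 m m.2⟩
      map_one' := Subtype.ext (by simp)
      map_mul' := fun x y => Subtype.ext (by simp [mul_assoc]) }
  let act : A → W →* W := fun a => QuotientGroup.map _ _ (cj a) fun x hx =>
    Subgroup.mem_subgroupOf.mpr (hmapN a a.2 (Subgroup.mem_subgroupOf.mp hx))
  have hact1 : ∀ w, act 1 w = w := fun w => by
    obtain ⟨m, rfl⟩ := QuotientGroup.mk_surjective w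
    exact congr_arg QuotientGroup.mk (Subtype.ext (by simp [cj]))
  have hactm : ∀ a b w, act (a * b) w = act a (act b w) := fun a b w => by
    obtain ⟨m, rfl⟩ := QuotientGroup.mk_surjective w
    exact congr_arg QuotientGroup.mk (Subtype.ext (by simp [cj, mul_assoc]))
  have hmem : p ∣ Nat.card M :=
    hpd.trans ((Subgroup.index_dvd_card _).trans dvd_rfl)
  have hUA : U ≤ A := le_sup_left
  have hEA : E ≤ A := le_sup_right
  have hUnor : (U.subgroupOf A).Normal :=
    Subgroup.normal_subgroupOf_of_le_normalizer (sup_le Subgroup.le_normalizer fun e he u =>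
      ⟨hUn e he u, fun h => by simpa [mul_assoc] using hUn e⁻¹ (E.inv_mem he) _ h⟩)
  have hlayer := layer p
    (hcop.coprime_dvd_right hmem) hexp act hact1 hactm (U.subgroupOf A) (E.subgroupOf A)
    ((Subgroup.eq_bot_iff_forall _).mpr fun x hx => Subtype.ext (by
      have h : (x : X) ∈ U ⊓ E := hx
      rwa [hUE, Subgroup.mem_bot] at h))
    (by rw [← Subgroup.subgroupOf_sup hUA hEA, Subgroup.subgroupOf_self])
    (fun x hx hx1 u hu h => Subtype.ext (hfpf x hx (fun h1 => hx1 (Subtype.ext h1)) u hu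
      (congr_arg Subtype.val h)))
  have hsec : ∀ (B : Subgroup X) (hB : B ≤ A), Nat.card ↥(M ⊓ Subgroup.centralizer (B : Set X)) =
      Nat.card ↥(N ⊓ Subgroup.centralizer (B : Set X)) *
        Nat.card {v : W // ∀ g ∈ B.subgroupOf A, act g v = v} := fun B hB => by
    rw [card_inf_centralizer_section hNM (hB.trans hA) (hB.trans hAN)
      (hcop.coprime_dvd_left (Subgroup.card_dvd_of_le hB)) hsN
      (fun b => act (Subgroup.inclusion hB b)) fun b m => rfl]
    refine congr_arg _ (Nat.card_congr (Equiv.subtypeEquivRight fun v =>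
      ⟨fun h g hg => h ⟨(g : X), hg⟩, fun h b => h (Subgroup.inclusion hB b) b.2⟩))
  have hcardM : Nat.card M = Nat.card N * Nat.card W := by
    rw [Subgroup.card_eq_card_quotient_mul_card_subgroup (N.subgroupOf M),
      Nat.card_congr (Subgroup.subgroupOfEquivOfLe hNM).toEquiv, mul_comm]
  have htop : Nat.card {v : W // ∀ g : A, act g v = v} =
      Nat.card {v : W // ∀ g ∈ A.subgroupOf A, act g v = v} :=
    Nat.card_congr (Equiv.subtypeEquivRight fun v =>
      ⟨fun h g _ => h g, fun h g => h g (Subgroup.mem_subgroupOf.mpr g.2)⟩)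
  rw [htop, Nat.card_congr (Subgroup.subgroupOfEquivOfLe hEA).toEquiv] at hlayer
  rw [hsec A le_rfl, hsec E hEA, hsec U hUA, hcardM, mul_pow, mul_pow]
  linear_combination (Nat.card {v : W // ∀ g ∈ A.subgroupOf A, act g v = v} ^ Nat.card E *
    Nat.card W) * hih + (Nat.card ↥(N ⊓ Subgroup.centralizer (E : Set X)) ^ Nat.card E *
      Nat.card ↥(N ⊓ Subgroup.centralizer (U : Set X))) * hlayer

/-- Let X be a finite group with subgroups U, E and H such that U and E generate a subgroup UE = U ⊔ E normalising H, with U normal in UE, U ⊓ E = ⊥, U ≠ ⊥, E ≠ ⊥, every non-identity element of E commuting with no non-identity element of U (UE is a Frobenius group with kernel U acting on H by conjugation), H solvable, H ⊓ (U ⊔ E) = ⊥ and the orders of H and U ⊔ E coprime. Then Nat.card (H ⊓ C(U ⊔ E)) ^ Nat.card E * Nat.card H = Nat.card (H ⊓ C(E)) ^ Nat.card E * Nat.card (H ⊓ C(U)), where C(·) denotes the centraliser. -/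
theorem result {X : Type*} [Group X] [Finite X] (U E H : Subgroup X) (hU1 : U ≠ ⊥) (hE1 : E ≠ ⊥) (hUE : U ⊓ E = ⊥) (hUn : ∀ e ∈ E, ∀ u ∈ U, e * u * e⁻¹ ∈ U) (hfpf : ∀ e ∈ E, e ≠ 1 → ∀ u ∈ U, e * u = u * e → u = 1) (hHn : ∀ x ∈ U ⊔ E, ∀ h ∈ H, x * h * x⁻¹ ∈ H) (hdisj : H ⊓ (U ⊔ E) = ⊥) (hsolv : Group.IsSolvable H) (hcop : Nat.Coprime (Nat.card H) (Nat.card ↥(U ⊔ E))) : Nat.card ↥(H ⊓ Subgroup.centralizer ((U ⊔ E : Subgroup X) : Set X)) ^ Nat.card E * Nat.card H = Nat.card ↥(H ⊓ Subgroup.centralizer (E : Set X)) ^ Nat.card E * Nat.card ↥(H ⊓ Subgroup.centralizer (U : Set X)) := by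
  refine formula hUE hUn hfpf _ H rfl (fun x hx h => ⟨hHn x hx h, fun hh => ?_⟩) hsolv hcop.symm
  simpa [mul_assoc] using hHn x⁻¹ ((U ⊔ E).inv_mem hx) _ hh

end Cfsg.Agent.S1545
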