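import Cfsg.Statements.S1505
import Mathlib
import Cfsg.Agent.Lib.Clifford.TI
import Cfsg.Agent.Lib.Clifford.CyclicTI

set_option autoImplicit false
open Cfsg

namespace Cfsg.Agent.S1505

open Classical in
/-- Let W₁, W₂ ≤ G form a self-normalising cyclic subgroup W = W₁ ⊔ W₂. For nontrivial linear characters φ, φ' of W trivial on W₂ and ψ, ψ' trivial on W₁, put α = (1 − φ)(1 − ψ) and α' = (1 − φ')(1 − ψ'). Then the function induced from α to G has inner product 1 with the principal character, and the inner product of the functions induced from α and α' is 1 + a + b + ab where a = 1 if φ = φ' (else 0) and b = 1 if ψ = ψ' (else 0). -/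
theorem result {G : Type*} [Group G] [Fintype G] (W₁ W₂ : Subgroup G) (hW : Cfsg.IsSelfNormalizingCyclic W₁ W₂) (φ φ' ψ ψ' : ↥(W₁ ⊔ W₂) →* ℂˣ) (hφ : φ ≠ 1) (hφ' : φ' ≠ 1) (hψ : ψ ≠ 1) (hψ' : ψ' ≠ 1) (hφ₂ : ∀ w : ↥(W₁ ⊔ W₂), (w : G) ∈ W₂ → φ w = 1 ∧ φ' w = 1) (hψ₁ : ∀ w : ↥(W₁ ⊔ W₂), (w : G) ∈ W₁ → ψ w = 1 ∧ ψ' w = 1) : Cfsg.classInner (Cfsg.indFun (W₁ ⊔ W₂) (fun w => 1 - (φ w : ℂ) - (ψ w : ℂ) + (φ w : ℂ) * (ψ w : ℂ))) (fun _ => 1) = 1 ∧ Cfsg.classInner (Cfsg.indFun (W₁ ⊔ W₂) (fun w => 1 - (φ w : ℂ) - (ψ w : ℂ) + (φ w : ℂ) * (ψ w : ℂ))) (Cfsg.indFun (W₁ ⊔ W₂) (fun w => 1 - (φ' w : ℂ) - (ψ' w : ℂ) + (φ' w : ℂ) * (ψ' w : ℂ))) = 1 + (if φ = φ' then 1 else 0) + (if ψ = ψ' then 1 else 0) + (if φ = φ' then 1 else 0) * (if ψ = ψ' then 1 else 0) := by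
  obtain ⟨-, -, hdisj, hcomm, hcyc, hN⟩ := hW
  have : Fintype ↥(W₁ ⊔ W₂) := Fintype.ofFinite _
  let W := W₁ ⊔ W₂
  let V : Set G := (W : Set G) \ ((W₁ : Set G) ∪ W₂)
  have hφ1 := fun w h => (hφ₂ w h).1
  have hφ2 := fun w h => (hφ₂ w h).2
  have hψ1 := fun w h => (hψ₁ w h).1
  have hψ2 := fun w h => (hψ₁ w h).2
  have habel : ∀ u v : ↥(W₁ ⊔ W₂), u * v = v * u := by
    intro u v
    obtain ⟨c, hc⟩ := hcyc.exists_generator
    obtain ⟨i, rfl⟩ := hc u
    obtain ⟨j, rfl⟩ := hc v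
    exact ((Commute.refl c).zpow_zpow i j).eq
  have hsupp : ∀ (a b : ↥(W₁ ⊔ W₂) →* ℂˣ), (∀ w : ↥(W₁ ⊔ W₂), (w : G) ∈ W₂ → a w = 1) →
      (∀ w : ↥(W₁ ⊔ W₂), (w : G) ∈ W₁ → b w = 1) →
      ∀ w : ↥(W₁ ⊔ W₂), CfsgLib.Clifford.tiFun a b w ≠ 0 → (w : G) ∈ V := by
    intro a b ha hb w hw
    exact ⟨w.2, fun h => hw (CfsgLib.Clifford.tiFun_eq_zero a b ha hb w h)⟩
  have hTI : ∀ g : G, ∀ v ∈ V, g * v * g⁻¹ ∈ V → g ∈ W₁ ⊔ W₂ := by
    intro g v hv hgv
    have hW1 := hN {v} (Set.singleton_subset_iff.mpr hv) (Set.singleton_nonempty v)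
    have hW2 := hN {g * v * g⁻¹} (Set.singleton_subset_iff.mpr hgv) (Set.singleton_nonempty _)
    -- `g` conjugates the centralizer of `v` onto that of its conjugate, so normalizes `W`
    have hnorm : g ∈ Subgroup.normalizer ((W₁ ⊔ W₂ : Subgroup G) : Set G) := by
      intro x
      show x ∈ W₁ ⊔ W₂ ↔ g * x * g⁻¹ ∈ W₁ ⊔ W₂
      conv_lhs => rw [← hW1]
      conv_rhs => rw [← hW2]
      rw [Subgroup.mem_set_normalizer_iff, Subgroup.mem_set_normalizer_iff]
      simp only [Set.mem_singleton_iff]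
      constructor
      · intro h y
        have h2 := h (g⁻¹ * y * g)
        constructor
        · rintro rfl
          have := (h v).mp rfl
          calc g * x * g⁻¹ * (g * v * g⁻¹) * (g * x * g⁻¹)⁻¹ = g * (x * v * x⁻¹) * g⁻¹ := by group
            _ = _ := by rw [this]
        · intro he
          have h3 : x * (g⁻¹ * y * g) * x⁻¹ = v := by
            calc x * (g⁻¹ * y * g) * x⁻¹ = g⁻¹ * (g * x * g⁻¹ * y * (g * x * g⁻¹)⁻¹) * g := by group
              _ = v := by rw [he]; group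
          rw [← h2.mpr h3]; group
      · intro h y
        have h2 := h (g * y * g⁻¹)
        constructor
        · intro he
          have h3 : g * x * g⁻¹ * (g * y * g⁻¹) * (g * x * g⁻¹)⁻¹ = g * v * g⁻¹ := h2.mp (by rw [he])
          calc x * y * x⁻¹ = g⁻¹ * (g * x * g⁻¹ * (g * y * g⁻¹) * (g * x * g⁻¹)⁻¹) * g := by group
            _ = v := by rw [h3]; group
        · intro he
          have h3 : g * y * g⁻¹ = g * v * g⁻¹ := h2.mpr (by
            calc g * x * g⁻¹ * (g * y * g⁻¹) * (g * x * g⁻¹)⁻¹ = g * (x * y * x⁻¹) * g⁻¹ := by group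
              _ = _ := by rw [he])
          exact mul_left_cancel (mul_right_cancel h3)
    rw [← hN V (fun x h => h) ⟨v, hv⟩]
    intro x
    have hA : ∀ (A : Subgroup G), A ≤ W → g ∈ Subgroup.normalizer (W : Set G) →
        ∀ y ∈ W, (y ∈ A ↔ g * y * g⁻¹ ∈ A) := by
      intro A hAW hg y hy
      have hcW : IsCyclic W := hcyc
      have he : A.map (MulAut.conj g).toMonoidHom = A := by
        classical
        have : Fintype W := Fintype.ofFinite W
        have hmap : A.map (MulAut.conj g).toMonoidHom ≤ W := by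
          rintro _ ⟨a, ha, rfl⟩
          exact (hg a).mp (hAW ha)
        have hcard : Nat.card ↥(A.map (MulAut.conj g).toMonoidHom) = Nat.card A :=
          Subgroup.card_map_of_injective (MulEquiv.injective (MulAut.conj g))
        suffices key : ∀ U : Subgroup G, U ≤ W → ∀ z : W, (z : G) ∈ U ↔ z ^ Nat.card U = 1 by
          ext z
          exact ⟨fun h => (key A hAW ⟨z, hmap h⟩).mpr (hcard ▸ (key _ hmap ⟨z, hmap h⟩).mp h),
            fun h => (key _ hmap ⟨z, hAW h⟩).mpr (hcard.symm ▸ (key A hAW ⟨z, hAW h⟩).mp h)⟩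
        intro U hU
        have hsub : Finset.univ.filter (fun z : W => (z : G) ∈ U) ⊆
            Finset.univ.filter (fun z : W => z ^ Nat.card U = 1) := fun z hz =>
          Finset.mem_filter.mpr ⟨Finset.mem_univ _, Subtype.ext
            (orderOf_dvd_iff_pow_eq_one.mp (U.orderOf_dvd_natCard (Finset.mem_filter.mp hz).2))⟩
        have hle : (Finset.univ.filter (fun z : W => z ^ Nat.card U = 1)).card ≤
            (Finset.univ.filter (fun z : W => (z : G) ∈ U)).card := by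
          refine (IsCyclic.card_pow_eq_one_le Nat.card_pos).trans (le_of_eq ?_)
          rw [← Fintype.card_subtype, ← Nat.card_eq_fintype_card]
          exact Nat.card_congr (Subgroup.subgroupOfEquivOfLe hU).symm.toEquiv
        intro z
        simpa using Finset.ext_iff.mp (Finset.eq_of_subset_of_card_le hsub hle) z
      constructor
      · intro h; rw [← he]; exact ⟨y, h, rfl⟩
      · intro h
        rw [← he] at h
        obtain ⟨z, hz, hze⟩ := h
        exact (show z = y from (MulAut.conj g).injective hze) ▸ hz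
    show (x ∈ V ↔ g * x * g⁻¹ ∈ V)
    simp only [V, Set.mem_diff, Set.mem_union, SetLike.mem_coe]
    constructor
    · rintro ⟨h, h'⟩
      exact ⟨(hnorm x).mp h, fun k => h' (k.imp (hA W₁ le_sup_left hnorm x h).mpr (hA W₂ le_sup_right hnorm x h).mpr)⟩
    · rintro ⟨h, h'⟩
      have hx := (hnorm x).mpr h
      exact ⟨hx, fun k => h' (k.imp (hA W₁ le_sup_left hnorm x hx).mp (hA W₂ le_sup_right hnorm x hx).mp)⟩
  have hcl : ∀ f : ↥(W₁ ⊔ W₂) → ℂ, Cfsg.IsClassFunction ↥(W₁ ⊔ W₂) f := fun f u g => by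
    rw [habel g u, mul_inv_cancel_right]
  let c : (↥(W₁ ⊔ W₂) →* ℂˣ) → (↥(W₁ ⊔ W₂) → ℂ) := fun f w => (f w : ℂ)
  have hinner : ∀ f f' : ↥(W₁ ⊔ W₂) →* ℂˣ,
      Cfsg.classInner (c f) (c f') = if f = f' then 1 else 0 := fun f f' => by
    rw [CfsgLib.Char.irr_classInner (CfsgLib.Char.isIrrCharacter_linear f)
      (CfsgLib.Char.isIrrCharacter_linear f')]
    exact if_congr ⟨fun h => MonoidHom.ext fun w => Units.ext (congr_fun h w),
      fun h => h ▸ rfl⟩ rfl rfl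
  have hexp : ∀ a b : ↥(W₁ ⊔ W₂) →* ℂˣ,
      CfsgLib.Clifford.tiFun a b = c 1 - c a - c b + c (a * b) := fun a b => by
    funext w; simp [CfsgLib.Clifford.tiFun, c]
  have hne : ∀ a b : ↥(W₁ ⊔ W₂) →* ℂˣ, (∀ w : ↥(W₁ ⊔ W₂), (w : G) ∈ W₂ → a w = 1) →
      (∀ w : ↥(W₁ ⊔ W₂), (w : G) ∈ W₁ → b w = 1) → a ≠ 1 → a ≠ b := by
    intro a b ha hb ha1 hab
    exact ha1 (CfsgLib.Clifford.hom_eq_one_of_sup a (fun w h => by rw [hab]; exact hb w h) ha)
  refine ⟨?_, ?_⟩
  · show Cfsg.classInner (Cfsg.indFun _ (CfsgLib.Clifford.tiFun φ ψ)) _ = 1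
    rw [CfsgLib.Clifford.classInner_indFun_one, hexp,
      show (fun _ : ↥(W₁ ⊔ W₂) => (1 : ℂ)) = c 1 from funext fun w => by simp [c],
      CfsgLib.Char.classInner_add_left, CfsgLib.Char.classInner_sub_left, CfsgLib.Char.classInner_sub_left,
      hinner, hinner, hinner, hinner, if_pos rfl, if_neg hφ, if_neg hψ, if_neg fun h : φ * ψ = 1 => ?_]
    · ring
    · exact hφ (CfsgLib.Clifford.hom_eq_one_of_sup φ (fun w hw => by
        have := DFunLike.congr_fun h w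
        simpa [hψ1 w hw] using this) hφ1)
  · show Cfsg.classInner (Cfsg.indFun _ (CfsgLib.Clifford.tiFun φ ψ))
      (Cfsg.indFun _ (CfsgLib.Clifford.tiFun φ' ψ')) = _
    rw [CfsgLib.Clifford.classInner_indFun_of_TI hTI _ (hcl _) (hsupp φ ψ hφ1 hψ1) (hsupp φ' ψ' hφ2 hψ2),
      hexp φ' ψ']
    simp only [CfsgLib.Char.classInner_add_right, CfsgLib.Char.classInner_sub_right]
    have e4 := CfsgLib.Clifford.classInner_tiFun φ ψ φ' ψ' hφ' hψ' hφ1 hψ1 hφ2 hψ2
    change Cfsg.classInner (CfsgLib.Clifford.tiFun φ ψ) (c (φ' * ψ')) = _ at e4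
    rw [e4, hexp φ ψ]
    simp only [CfsgLib.Char.classInner_add_left, CfsgLib.Char.classInner_sub_left, hinner]
    have n1 : φ * ψ ≠ 1 := fun h => hφ (CfsgLib.Clifford.hom_eq_one_of_sup φ (fun w hw => by
      have := DFunLike.congr_fun h w
      simpa [hψ1 w hw] using this) hφ1)
    have n2 : ψ ≠ φ' := fun h => hne φ' ψ hφ2 hψ1 hφ' h.symm
    have n3 : φ ≠ ψ' := hne φ ψ' hφ1 hψ2 hφ
    have n4 : φ * ψ ≠ φ' := fun h => hψ (CfsgLib.Clifford.hom_eq_one_of_sup ψ hψ1 (fun w hw => by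
      have := DFunLike.congr_fun h w
      simpa [hφ1 w hw, hφ2 w hw] using this))
    have n5 : φ * ψ ≠ ψ' := fun h => hφ (CfsgLib.Clifford.hom_eq_one_of_sup φ (fun w hw => by
      have := DFunLike.congr_fun h w
      simpa [hψ1 w hw, hψ2 w hw] using this) hφ1)
    simp only [if_neg hφ, if_neg hψ, if_neg hφ'.symm, if_neg hψ'.symm, if_neg n1, if_neg n2, if_neg n3,
      if_neg n4, if_neg n5, if_pos]
    by_cases h1 : φ = φ' <;> by_cases h2 : ψ = ψ' <;> simp [h1, h2] <;> norm_num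

end Cfsg.Agent.S1505
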