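import Cfsg.Statements.S1502
import Cfsg.Agent.S1505
import Cfsg.Agent.Lib.Clifford.CyclicTI
import Cfsg.Agent.Lib.Clifford.GridDecomp
import Cfsg.Agent.Lib.Char.Linear

set_option autoImplicit false
open Cfsg

namespace Cfsg.Agent.S1502

set_option maxHeartbeats 1000000

open CfsgLib.Clifford in
/-- A function on `W` orthogonal to all `(1 - φ)(1 - ψ)` vanishes off `W₁ ∪ W₂`. -/
theorem eq_zero_on_V {G : Type*} [Group G] [Fintype G] (W₁ W₂ : Subgroup G)
    [Fintype ↥(W₁ ⊔ W₂)] (habel : ∀ u v : ↥(W₁ ⊔ W₂), u * v = v * u) (hdisj : W₁ ⊓ W₂ = ⊥)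
    (hcomm : ∀ a ∈ W₁, ∀ b ∈ W₂, a * b = b * a) (f : ↥(W₁ ⊔ W₂) → ℂ)
    (hz : ∀ a b : ↥(W₁ ⊔ W₂) →* ℂˣ, (∀ w : ↥(W₁ ⊔ W₂), (w : G) ∈ W₂ → a w = 1) →
      (∀ w : ↥(W₁ ⊔ W₂), (w : G) ∈ W₁ → b w = 1) → Cfsg.classInner f (tiFun a b) = 0)
    (w : ↥(W₁ ⊔ W₂)) (hw₁ : (w : G) ∉ W₁) (hw₂ : (w : G) ∉ W₂) : f w = 0 := by
  classical
  have hsep : ∀ (B : Subgroup G) (v : ↥(W₁ ⊔ W₂)), (v : G) ∉ B → ∃ l : ↥(W₁ ⊔ W₂) →* ℂˣ,
      (∀ u : ↥(W₁ ⊔ W₂), (u : G) ∈ B → l u = 1) ∧ l v ≠ 1 := by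
    intro B v hv
    let S := B.subgroupOf (W₁ ⊔ W₂)
    have : S.Normal := ⟨fun n hn g => by rwa [habel g n, mul_inv_cancel_right]⟩
    obtain ⟨l, hl⟩ := CfsgLib.Char.exists_linear_ne_one (G := ↥(W₁ ⊔ W₂) ⧸ S) (fun a b => by
      obtain ⟨a, rfl⟩ := QuotientGroup.mk_surjective a
      obtain ⟨b, rfl⟩ := QuotientGroup.mk_surjective b
      rw [← QuotientGroup.mk_mul, ← QuotientGroup.mk_mul, habel])
      (g := (v : ↥(W₁ ⊔ W₂) ⧸ S)) (fun h => hv ((QuotientGroup.eq_one_iff v).mp h))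
    exact ⟨l.comp (QuotientGroup.mk' S), fun u hu => by
      show l (u : ↥(W₁ ⊔ W₂) ⧸ S) = 1
      rw [(QuotientGroup.eq_one_iff u).mpr hu, map_one], hl⟩
  obtain ⟨φ₀, hφ₀, hφw⟩ := hsep W₂ w hw₂
  obtain ⟨ψ₀, hψ₀, hψw⟩ := hsep W₁ w hw₁
  let F : ↥(W₁ ⊔ W₂) → ℂ := fun u => f u * (starRingEnd ℂ) (tiFun φ₀ ψ₀ u)
  have hcf : Cfsg.IsClassFunction ↥(W₁ ⊔ W₂) F := fun u g => by
    rw [habel g u, mul_inv_cancel_right]
  have hF : F = 0 := by
    refine CfsgLib.Char.classFunction_eq_zero hcf fun ξ hξ => ?_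
    obtain ⟨ω, rfl⟩ := CfsgLib.Char.exists_hom_of_degree_one (CfsgLib.Char.irr_isCharacter hξ)
      (CfsgLib.Char.irr_degree_one_of_comm habel hξ)
    obtain ⟨φ, ψ, hφ, hψ, rfl⟩ := exists_hom_mul hdisj hcomm ω
    have e : Cfsg.classInner F (fun u => ((φ * ψ) u : ℂ)) =
        Cfsg.classInner f (tiFun (φ₀ * φ) (ψ₀ * ψ) - tiFun (φ₀ * φ) ψ
            - tiFun φ (ψ₀ * ψ) + tiFun φ ψ) := by
      rw [Cfsg.classInner, Cfsg.classInner]
      congr 1
      refine Finset.sum_congr rfl fun u _ => ?_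
      simp only [F, Pi.add_apply, Pi.sub_apply, ← tiFun_mul, map_mul]
      ring
    have h1 : ∀ u : ↥(W₁ ⊔ W₂), (u : G) ∈ W₂ → (φ₀ * φ) u = 1 := fun u h => by simp [hφ₀ u h, hφ u h]
    have h2 : ∀ u : ↥(W₁ ⊔ W₂), (u : G) ∈ W₁ → (ψ₀ * ψ) u = 1 := fun u h => by simp [hψ₀ u h, hψ u h]
    rw [e, CfsgLib.Char.classInner_add_right, CfsgLib.Char.classInner_sub_right,
      CfsgLib.Char.classInner_sub_right, hz _ _ h1 h2, hz _ _ h1 hψ, hz _ _ hφ h2, hz _ _ hφ hψ]
    ring
  have hw := congr_fun hF w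
  refine (mul_eq_zero.mp hw).resolve_right fun h => ?_
  rw [map_eq_zero] at h
  have h' : (1 - (φ₀ w : ℂ)) * (1 - (ψ₀ w : ℂ)) = 0 := by
    simp only [tiFun] at h; linear_combination h
  rcases mul_eq_zero.mp h' with k | k
  · exact hφw (Units.ext (by rw [Units.val_one]; linear_combination -k))
  · exact hψw (Units.ext (by rw [Units.val_one]; linear_combination -k))

open CfsgLib.Clifford in
/-- Decomposition of the grid in either orientation. -/
theorem decomp_both {ι : Type*} [Fintype ι] {I J : Type*} [Fintype I] [Fintype J] {d : ι → ℕ}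
    {v : I → J → ι → ℤ} (hv : Grid.IsGrid d v) (hI : Fintype.card I = 2 ∨ 4 ≤ Fintype.card I)
    (hJ : Fintype.card J = 2 ∨ 4 ≤ Fintype.card J) (h : 4 ≤ Fintype.card I ∨ 4 ≤ Fintype.card J)
    [DecidableEq ι] :
    ∃ (P : I ⊕ J ⊕ I × J → ι) (e : I ⊕ J ⊕ I × J → ℤ), Function.Injective P ∧
      (∀ n, e n * e n = 1) ∧
      ∀ i j t, v i j t =
        (if t = P (.inr (.inr (i, j))) then e (.inr (.inr (i, j))) else 0)
        - (if t = P (.inl i) then e (.inl i) else 0)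
        - (if t = P (.inr (.inl j)) then e (.inr (.inl j)) else 0) := by
  rcases h with h | h
  · obtain ⟨P, e, hP, he, hd⟩ := Grid.decomp hv.swap hJ h
    let σ : I ⊕ J ⊕ I × J → J ⊕ I ⊕ J × I :=
      Sum.elim (fun i => .inr (.inl i)) (Sum.elim (fun j => .inl j) fun p => .inr (.inr (p.2, p.1)))
    have hσ : Function.Injective σ := by
      rintro (i | j | ⟨i, j⟩) (k | l | ⟨k, l⟩) h <;> simp_all [σ]
    refine ⟨P ∘ σ, e ∘ σ, hP.comp hσ, fun n => he _, fun i j t => ?_⟩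
    have := hd j i t
    simp only [σ, Function.comp_apply, Sum.elim_inl, Sum.elim_inr]
    convert this.trans (sub_right_comm _ _ _) using 4 <;> (split_ifs with h <;> simp [h])
  · obtain ⟨P, e, hP, he, hd⟩ := Grid.decomp hv hI h
    refine ⟨P, e, hP, he, fun i j t => ?_⟩
    rw [hd i j t]
    split_ifs <;> rfl

/-- Linear characters trivial on one factor are counted by the other. -/
theorem card_linear {H : Type*} [Group H] [Finite H] (hab : ∀ a b : H, a * b = b * a) :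
    Nat.card (H →* ℂˣ) = Nat.card H := by
  rw [CfsgLib.Char.natCard_linear, show commutator H = ⊥ from
    (commutator_def H).trans (Subgroup.commutator_eq_bot_iff_le_centralizer.mpr fun a _ =>
      Subgroup.mem_centralizer_iff.mpr fun b _ => hab b a), Subgroup.index_bot]

/-- Let W₁, W₂ be nontrivial subgroups of the finite group G generating a cyclic subgroup W = W₁ ⊔ W₂ of odd order that is the normaliser of every nonempty set of its elements outside W₁ ∪ W₂. Then there is a family attaching to each linear character ω of W an irreducible character of G up to sign, orthonormal, sending the trivial character to the principal character, with χ ω = ω on W outside W₁ ∪ W₂, and such that inducing (1 − φ)(1 − ψ) to G gives 1 − χ φ − χ ψ + χ (φψ) whenever φ ≠ 1 is trivial on W₂ and ψ ≠ 1 is trivial on W₁. -/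
theorem result {G : Type*} [Group G] [Fintype G] (W₁ W₂ : Subgroup G) (hW : Cfsg.IsSelfNormalizingCyclic W₁ W₂) (hodd : Odd (Nat.card ↥(W₁ ⊔ W₂))) : ∃ χ : (↥(W₁ ⊔ W₂) →* ℂˣ) → (G → ℂ), Cfsg.IsCyclicTIFamily W₁ W₂ χ := by
  classical
  obtain ⟨hW₁, hW₂, hdisj, hcomm, hcyc, -⟩ := id hW
  have : Fintype ↥(W₁ ⊔ W₂) := Fintype.ofFinite _
  have habel : ∀ u v : ↥(W₁ ⊔ W₂), u * v = v * u := by
    intro u v
    obtain ⟨c, hc⟩ := hcyc.exists_generator
    obtain ⟨i, rfl⟩ := hc u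
    obtain ⟨j, rfl⟩ := hc v
    exact ((Commute.refl c).zpow_zpow i j).eq
  let D₁ := {f : ↥(W₁ ⊔ W₂) →* ℂˣ // ∀ w : ↥(W₁ ⊔ W₂), (w : G) ∈ W₂ → f w = 1}
  let D₂ := {f : ↥(W₁ ⊔ W₂) →* ℂˣ // ∀ w : ↥(W₁ ⊔ W₂), (w : G) ∈ W₁ → f w = 1}
  have : Finite (↥(W₁ ⊔ W₂) →* ℂˣ) := Nat.finite_of_card_ne_zero (by
    rw [card_linear habel]; exact Nat.card_pos.ne')
  have : Fintype D₁ := Fintype.ofFinite _
  have : Fintype D₂ := Fintype.ofFinite _
  let e : D₁ × D₂ → (↥(W₁ ⊔ W₂) →* ℂˣ) := fun p => p.1.1 * p.2.1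
  have hinj : Function.Injective e := by
    rintro ⟨⟨φ, hφ⟩, ψ, hψ⟩ ⟨⟨φ', hφ'⟩, ψ', hψ'⟩ h
    have h1 : φ = φ' := MonoidHom.ext fun w => by
      have hd : ∀ w, φ w / φ' w = ψ' w / ψ w := fun w => by
        rw [div_eq_div_iff_mul_eq_mul, ← MonoidHom.mul_apply,
          show φ * ψ = φ' * ψ' from h, MonoidHom.mul_apply, mul_comm]
      have h0 := CfsgLib.Clifford.hom_eq_one_of_sup (φ / φ')
        (fun w hw => by rw [MonoidHom.div_apply, hd]; simp [hψ w hw, hψ' w hw])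
        (fun w hw => by simp [hφ w hw, hφ' w hw])
      exact div_eq_one.mp (DFunLike.congr_fun h0 w)
    subst h1
    have h2 : ψ = ψ' := MonoidHom.ext fun w => mul_left_cancel (DFunLike.congr_fun h w)
    subst h2; rfl
  have he : Function.Bijective e := ⟨hinj, fun f => by
    obtain ⟨φ, ψ, hφ, hψ, rfl⟩ := CfsgLib.Clifford.exists_hom_mul hdisj hcomm f
    exact ⟨(⟨φ, hφ⟩, ⟨ψ, hψ⟩), rfl⟩⟩
  have hle₁ : Nat.card D₁ ≤ Nat.card W₁ := by
    have hab₁ : ∀ a b : W₁, a * b = b * a := fun a b => Subgroup.inclusion_injective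
      (le_sup_left : W₁ ≤ W₁ ⊔ W₂) (by rw [map_mul, map_mul]; exact habel _ _)
    rw [← card_linear hab₁]
    have : Finite (W₁ →* ℂˣ) := Nat.finite_of_card_ne_zero (by rw [card_linear hab₁]; exact Nat.card_pos.ne')
    refine Nat.card_le_card_of_injective
      (fun f : D₁ => f.1.comp (Subgroup.inclusion le_sup_left)) fun f f' h => ?_
    refine Subtype.ext (MonoidHom.ext fun w => div_eq_one.mp (DFunLike.congr_fun
      (CfsgLib.Clifford.hom_eq_one_of_sup (f.1 / f'.1) (fun w hw => ?_) fun w hw => ?_) w))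
    · rw [MonoidHom.div_apply, div_eq_one]; exact DFunLike.congr_fun h ⟨w, hw⟩
    · simp [f.2 w hw, f'.2 w hw]
  have hle₂ : Nat.card D₂ ≤ Nat.card W₂ := by
    have hab₂ : ∀ a b : W₂, a * b = b * a := fun a b => Subgroup.inclusion_injective
      (le_sup_right : W₂ ≤ W₁ ⊔ W₂) (by rw [map_mul, map_mul]; exact habel _ _)
    rw [← card_linear hab₂]
    have : Finite (W₂ →* ℂˣ) := Nat.finite_of_card_ne_zero (by rw [card_linear hab₂]; exact Nat.card_pos.ne')
    refine Nat.card_le_card_of_injective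
      (fun f : D₂ => f.1.comp (Subgroup.inclusion le_sup_right)) fun f f' h => ?_
    refine Subtype.ext (MonoidHom.ext fun w => div_eq_one.mp (DFunLike.congr_fun
      (CfsgLib.Clifford.hom_eq_one_of_sup (f.1 / f'.1) (fun w hw => ?_) fun w hw => ?_) w))
    · simp [f.2 w hw, f'.2 w hw]
    · rw [MonoidHom.div_apply, div_eq_one]; exact DFunLike.congr_fun h ⟨w, hw⟩
  have hWcard : Nat.card W₁ * Nat.card W₂ = Nat.card ↥(W₁ ⊔ W₂) := by
    let m : W₁ × W₂ →* ↥(W₁ ⊔ W₂) := MonoidHom.noncommCoprod (Subgroup.inclusion le_sup_left)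
      (Subgroup.inclusion le_sup_right) fun a b => habel _ _
    have hm : Function.Bijective m := by
      refine ⟨(injective_iff_map_eq_one m).mpr ?_, fun z => ?_⟩
      · rintro ⟨a, b⟩ h
        have h' : (a : G) * b = 1 := congr_arg Subtype.val h
        have ha : (a : G) ∈ W₁ ⊓ W₂ := ⟨a.2, by
          rw [eq_inv_of_mul_eq_one_left h']; exact W₂.inv_mem b.2⟩
        rw [hdisj, Subgroup.mem_bot] at ha
        rw [ha, one_mul] at h'
        exact Prod.ext (Subtype.ext ha) (Subtype.ext h')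
      · have : (z : G) ∈ ((W₁ ⊔ W₂).subtype.comp m).range := by
          refine (sup_le ?_ ?_ : W₁ ⊔ W₂ ≤ ((W₁ ⊔ W₂).subtype.comp m).range) z.2
          · exact fun a ha => ⟨(⟨a, ha⟩, 1), mul_one a⟩
          · exact fun b hb => ⟨(1, ⟨b, hb⟩), one_mul b⟩
        obtain ⟨p, hp⟩ := this
        exact ⟨p, Subtype.ext hp⟩
    rw [← Nat.card_eq_of_bijective m hm, Nat.card_prod]
  have hprod : Nat.card D₁ * Nat.card D₂ = Nat.card W₁ * Nat.card W₂ := by
    rw [← Nat.card_prod, Nat.card_eq_of_bijective e he, card_linear habel, hWcard]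
  have hp1 : 0 < Nat.card W₁ := Nat.card_pos
  have hp2 : 0 < Nat.card W₂ := Nat.card_pos
  have hc1 : Fintype.card D₁ = Nat.card W₁ := by rw [← Nat.card_eq_fintype_card]; nlinarith
  have hc2 : Fintype.card D₂ = Nat.card W₂ := by rw [← Nat.card_eq_fintype_card]; nlinarith
  have hodd₁ : Odd (Nat.card W₁) := hodd.of_dvd_nat (Subgroup.card_dvd_of_le le_sup_left)
  have hodd₂ : Odd (Nat.card W₂) := hodd.of_dvd_nat (Subgroup.card_dvd_of_le le_sup_right)
  have hgt1 : 1 < Nat.card W₁ := Subgroup.one_lt_card_iff_ne_bot W₁ |>.mpr hW₁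
  have hgt2 : 1 < Nat.card W₂ := Subgroup.one_lt_card_iff_ne_bot W₂ |>.mpr hW₂
  have hnot33 : ¬ (Nat.card W₁ = 3 ∧ Nat.card W₂ = 3) := by
    rintro ⟨h1, h2⟩
    obtain ⟨c, hc⟩ := hcyc.exists_generator
    have hord : orderOf c = Nat.card ↥(W₁ ⊔ W₂) := orderOf_eq_card_of_forall_mem_zpowers hc
    rw [← hWcard, h1, h2] at hord
    have hle : W₁ ⊔ W₂ ≤ (({ toFun := fun x => x ^ 3, map_one' := one_pow _, map_mul' := fun x y => (Commute.mul_pow (habel x y) 3) } : ↥(W₁ ⊔ W₂) →* ↥(W₁ ⊔ W₂)).ker).map (W₁ ⊔ W₂).subtype :=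
      sup_le
        (fun a ha => ⟨⟨a, Subgroup.mem_sup_left ha⟩, Subtype.ext (by
          have := pow_card_eq_one' (G := W₁) (x := ⟨a, ha⟩)
          rw [h1] at this; simpa using congr_arg Subtype.val this), rfl⟩)
        (fun a ha => ⟨⟨a, Subgroup.mem_sup_right ha⟩, Subtype.ext (by
          have := pow_card_eq_one' (G := W₂) (x := ⟨a, ha⟩)
          rw [h2] at this; simpa using congr_arg Subtype.val this), rfl⟩)
    obtain ⟨u, hu, he⟩ := hle c.2
    obtain rfl : u = c := Subtype.ext he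
    have := orderOf_dvd_of_pow_eq_one (show u ^ 3 = 1 from hu)
    rw [hord] at this
    norm_num at this
  let one₁ : D₁ := ⟨1, fun _ _ => rfl⟩
  let one₂ : D₂ := ⟨1, fun _ _ => rfl⟩
  let I := {φ : D₁ // φ ≠ one₁}
  let J := {ψ : D₂ // ψ ≠ one₂}
  have hI : Fintype.card I = Nat.card W₁ - 1 := by
    rw [Fintype.card_subtype_compl, Fintype.card_subtype_eq, hc1]
  have hJ : Fintype.card J = Nat.card W₂ - 1 := by
    rw [Fintype.card_subtype_compl, Fintype.card_subtype_eq, hc2]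
  have hIne : ∀ i : I, (i.1.1 : ↥(W₁ ⊔ W₂) →* ℂˣ) ≠ 1 := fun i h => i.2 (Subtype.ext h)
  have hJne : ∀ j : J, (j.1.1 : ↥(W₁ ⊔ W₂) →* ℂˣ) ≠ 1 := fun j h => j.2 (Subtype.ext h)
  let β : I → J → G → ℂ := fun i j =>
    Cfsg.indFun (W₁ ⊔ W₂) (CfsgLib.Clifford.tiFun i.1.1 j.1.1)
  have hlin : ∀ f : ↥(W₁ ⊔ W₂) →* ℂˣ,
      Cfsg.IsGeneralizedCharacter ↥(W₁ ⊔ W₂) (fun w => (f w : ℂ)) := fun f =>
    CfsgLib.Char.isGeneralized_of_isCharacter
      (CfsgLib.Char.irr_isCharacter (CfsgLib.Char.isIrrCharacter_linear f))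
  have hβgen : ∀ i j, Cfsg.IsGeneralizedCharacter G (β i j) := fun i j => by
    refine CfsgLib.Char.isGeneralized_indFun _ ?_
    have h := CfsgLib.Char.isGeneralized_add (CfsgLib.Char.isGeneralized_sub
      (CfsgLib.Char.isGeneralized_sub (hlin 1) (hlin i.1.1)) (hlin j.1.1)) (hlin (i.1.1 * j.1.1))
    convert h using 1
    funext w
    simp [CfsgLib.Clifford.tiFun]
  have h05 : ∀ i k j l, Cfsg.classInner (β i j) (fun _ => 1) = 1 ∧
      Cfsg.classInner (β i j) (β k l) = 1 + (if i = k then 1 else 0) + (if j = l then 1 else 0)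
        + (if i = k then 1 else 0) * (if j = l then 1 else 0) := by
    intro i k j l
    have h := Cfsg.Agent.S1505.result W₁ W₂ hW i.1.1 k.1.1 j.1.1 l.1.1 (hIne i) (hIne k) (hJne j)
      (hJne l) (fun w hw => ⟨i.1.2 w hw, k.1.2 w hw⟩) (fun w hw => ⟨j.1.2 w hw, l.1.2 w hw⟩)
    refine ⟨h.1, ?_⟩
    have h2 := h.2
    simp only [← Subtype.ext_iff] at h2
    convert h2 using 2 <;> first | rfl | simp [β]
  have := Fintype.ofFinite (Cfsg.IrrCharacter G)
  let ι := Cfsg.IrrCharacter G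
  let triv : ι := ⟨fun _ => 1, CfsgLib.Char.isIrrCharacter_one⟩
  let γ : I → J → G → ℂ := fun i j => β i j - fun _ => 1
  have hγgen : ∀ i j, Cfsg.IsGeneralizedCharacter G (γ i j) := fun i j =>
    CfsgLib.Char.isGeneralized_sub (hβgen i j)
      (CfsgLib.Char.isGeneralized_of_isCharacter (CfsgLib.Char.irr_isCharacter triv.2))
  choose v hvv using fun i j (η : ι) => CfsgLib.Char.classInner_isGeneralized_int (hγgen i j)
    (CfsgLib.Char.isGeneralized_of_isCharacter (CfsgLib.Char.irr_isCharacter η.2))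
  choose d hd0 hd using fun η : ι => CfsgLib.Char.irr_apply_one_pos η.2
  have hself1 : Cfsg.classInner (fun _ : G => (1 : ℂ)) (fun _ => 1) = 1 :=
    CfsgLib.Char.irr_classInner_self triv.2
  have hgram : ∀ i k j l, ((CfsgLib.Clifford.Grid.dot (v i j) (v k l) : ℤ) : ℂ) =
      (if i = k then 1 else 0) + (if j = l then 1 else 0)
        + (if i = k then 1 else 0) * (if j = l then 1 else 0) := by
    intro i k j l
    have h := CfsgLib.Char.classInner_eq_sum_mul
      (CfsgLib.Char.isGeneralized_isClassFunction (hγgen i j)) (γ k l)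
    simp only [hvv, map_intCast] at h
    have h1 : Cfsg.classInner (fun _ => 1) (β k l) = 1 := by
      rw [← CfsgLib.Char.classInner_conj_symm, (h05 k i l j).1, map_one]
    simp only [γ, CfsgLib.Char.classInner_sub_left, CfsgLib.Char.classInner_sub_right, h1,
      (h05 i k j l).1, (h05 i k j l).2, hself1] at h
    simp only [CfsgLib.Clifford.Grid.dot, Int.cast_sum, Int.cast_mul]
    rw [← h]; ring
  have hdeg : ∀ i j, ∑ η, v i j η * (d η : ℤ) = -1 := by
    intro i j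
    have h := CfsgLib.Char.classFunction_eq_sum (CfsgLib.Char.isGeneralized_isClassFunction (hγgen i j))
    have h1 := congr_fun h 1
    simp only [Finset.sum_apply, Pi.smul_apply, smul_eq_mul, hvv, hd] at h1
    have h2 : γ i j 1 = -1 := by
      simp [γ, β, CfsgLib.Char.indFun_apply_one, CfsgLib.Clifford.tiFun]
    rw [h2] at h1
    exact_mod_cast h1.symm
  have hgrid : CfsgLib.Clifford.Grid.IsGrid d v := by
    refine ⟨hd0, fun i j => ?_, fun i j l h => ?_, fun i k j h => ?_, fun i k j l h h' => ?_,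
      fun i k j l => by rw [hdeg, hdeg]⟩
    · have := hgram i i j j; simp at this; norm_num at this; exact_mod_cast this
    · have := hgram i i j l; simp [h] at this; exact_mod_cast this
    · have := hgram i k j j; simp [h] at this; exact_mod_cast this
    · have := hgram i k j l; simp [h, h'] at this; exact_mod_cast this
  obtain ⟨u, hu⟩ := hodd₁
  obtain ⟨u', hu'⟩ := hodd₂
  obtain ⟨P, ε, hP, hε, hdec⟩ := decomp_both hgrid (by omega) (by omega) (by omega)
  have hPtriv : ∀ n, P n ≠ triv := by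
    have htriv : ∀ i j, v i j triv = 0 := fun i j => by
      have h := hvv i j triv
      simp only [γ, triv, CfsgLib.Char.classInner_sub_left, (h05 i i j j).1, hself1, sub_self] at h
      exact_mod_cast h.symm
    have hI0 : Nonempty I := Fintype.card_pos_iff.mp (by omega)
    have hJ0 : Nonempty J := Fintype.card_pos_iff.mp (by omega)
    intro n hn
    obtain ⟨i₀⟩ := hI0
    obtain ⟨j₀⟩ := hJ0
    have hne : ε n ≠ 0 := fun h => by simpa [h] using hε n
    rcases n with i | j | ⟨i, j⟩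
    · have h := hdec i j₀ triv
      rw [htriv, ← hn] at h
      simp [hP.eq_iff] at h; omega
    · have h := hdec i₀ j triv
      rw [htriv, ← hn] at h
      simp [hP.eq_iff] at h; omega
    · have h := hdec i j triv
      rw [htriv, ← hn] at h
      simp [hP.eq_iff] at h; omega
  let X : I ⊕ J ⊕ I × J → G → ℂ := fun n => (ε n : ℂ) • (P n : G → ℂ)
  have hγ : ∀ i j, γ i j = X (.inr (.inr (i, j))) - X (.inl i) - X (.inr (.inl j)) := by
    intro i j
    rw [CfsgLib.Char.classFunction_eq_sum (CfsgLib.Char.isGeneralized_isClassFunction (hγgen i j))]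
    simp only [hvv, hdec i j, Int.cast_sub, sub_smul, Finset.sum_sub_distrib, Int.cast_ite,
      Int.cast_zero, ite_smul, zero_smul, Finset.sum_ite_eq', Finset.mem_univ, if_true, X]
  let ee := Equiv.ofBijective e he
  let idx : D₁ × D₂ → Option (I ⊕ J ⊕ I × J) := fun p =>
    if h1 : p.1 = one₁ then (if h2 : p.2 = one₂ then none else some (.inr (.inl ⟨p.2, h2⟩)))
    else (if h2 : p.2 = one₂ then some (.inl ⟨p.1, h1⟩)
      else some (.inr (.inr (⟨p.1, h1⟩, ⟨p.2, h2⟩))))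
  have hidx : Function.Injective idx := by
    refine Function.LeftInverse.injective (g := fun o => o.elim (one₁, one₂)
      (Sum.elim (fun i => (i.1, one₂)) (Sum.elim (fun j => (one₁, j.1)) fun q => (q.1.1, q.2.1)))) ?_
    rintro ⟨a, b⟩
    simp only [idx]
    split_ifs with h1 h2 h2
    · rw [h1, h2]; rfl
    · rw [h1]; rfl
    · rw [h2]; rfl
    · rfl
  let F : Option (I ⊕ J ⊕ I × J) → G → ℂ := fun o => o.elim (fun _ => 1) X
  let χ : (↥(W₁ ⊔ W₂) →* ℂˣ) → G → ℂ := fun ω => F (idx (ee.symm ω))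
  have hFo : ∀ o o', Cfsg.classInner (F o) (F o') = if o = o' then 1 else 0 := by
    rintro (_ | n) (_ | n')
    · simp [F, hself1]
    · simp only [F, Option.elim, X, CfsgLib.Char.classInner_smul_right,
        CfsgLib.Char.irr_classInner_ne CfsgLib.Char.isIrrCharacter_one (P n').2
          (fun h => hPtriv n' (Subtype.ext h.symm)), mul_zero]
      simp
    · simp only [F, Option.elim, X, CfsgLib.Char.classInner_smul_left,
        CfsgLib.Char.irr_classInner_ne (P n).2 CfsgLib.Char.isIrrCharacter_one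
          (fun h => hPtriv n (Subtype.ext h)), mul_zero]
      simp
    · simp only [F, Option.elim, X, CfsgLib.Char.classInner_smul_left,
        CfsgLib.Char.classInner_smul_right, map_intCast, Option.some.injEq]
      by_cases h : n = n'
      · subst h
        rw [if_pos rfl, CfsgLib.Char.irr_classInner_self (P n).2, mul_one]
        exact_mod_cast hε n
      · rw [if_neg h, CfsgLib.Char.irr_classInner_ne (P n).2 (P n').2
          (fun h' => h (hP (Subtype.ext h'))), mul_zero, mul_zero]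
  have horth : ∀ ω ω', Cfsg.classInner (χ ω) (χ ω') = if ω = ω' then 1 else 0 := fun ω ω' => by
    rw [hFo]
    simp [(hidx.comp ee.symm.injective).eq_iff (a := ω) (b := ω'), hidx.eq_iff]
  have hsymm : ∀ p, ee.symm (p.1.1 * p.2.1) = p := fun p => ee.symm_apply_apply p
  have hχ1 : χ 1 = fun _ => 1 := by
    have : ee.symm (1 : ↥(W₁ ⊔ W₂) →* ℂˣ) = (one₁, one₂) := by
      rw [← hsymm (one₁, one₂)]; congr 1; ext w; simp [one₁, one₂]
    simp [χ, this, idx, F]
  have hind : ∀ (φ ψ : ↥(W₁ ⊔ W₂) →* ℂˣ), φ ≠ 1 → ψ ≠ 1 →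
      (∀ w : ↥(W₁ ⊔ W₂), (w : G) ∈ W₂ → φ w = 1) → (∀ w : ↥(W₁ ⊔ W₂), (w : G) ∈ W₁ → ψ w = 1) →
      Cfsg.indFun (W₁ ⊔ W₂) (CfsgLib.Clifford.tiFun φ ψ) =
        (fun _ => (1 : ℂ)) - χ φ - χ ψ + χ (φ * ψ) := by
    intro φ ψ h1 h2 h3 h4
    let i : I := ⟨⟨φ, h3⟩, fun h => h1 (congr_arg Subtype.val h)⟩
    let j : J := ⟨⟨ψ, h4⟩, fun h => h2 (congr_arg Subtype.val h)⟩
    have e1 : χ φ = X (.inl i) := by
      have : ee.symm φ = (i.1, one₂) := by
        rw [← hsymm (i.1, one₂)]; congr 1; ext w; simp [i, one₂]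
      simp [χ, this, idx, F, i.2]
    have e2 : χ ψ = X (.inr (.inl j)) := by
      have : ee.symm ψ = (one₁, j.1) := by
        rw [← hsymm (one₁, j.1)]; congr 1; ext w; simp [j, one₁]
      simp [χ, this, idx, F, j.2]
    have e3 : χ (φ * ψ) = X (.inr (.inr (i, j))) := by
      have : ee.symm (φ * ψ) = (i.1, j.1) := hsymm (i.1, j.1)
      simp [χ, this, idx, F, i.2, j.2]
    rw [e1, e2, e3]
    have h := hγ i j
    simp only [γ, sub_eq_iff_eq_add] at h
    change β i j = _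
    rw [h]; abel
  refine ⟨χ, fun ω => ?_, fun a b => by convert horth a b, hχ1, fun ω w hw₁ hw₂ => ?_, fun φ ψ h1 h2 h3 h4 => ?_⟩
  · simp only [χ]
    rcases idx (ee.symm ω) with _ | n
    · exact Or.inl triv.2
    · rcases mul_self_eq_one_iff.mp (hε n) with h | h <;> simp [F, X, h, (P n).2]
  · have hcl : Cfsg.IsClassFunction G (χ ω) := by
      simp only [χ]
      rcases idx (ee.symm ω) with _ | n
      · exact fun _ _ => rfl
      · intro x y
        simp [F, X, CfsgLib.Char.irr_isClassFunction (P n).2 x y]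
    have hW1 : ∀ a b : ↥(W₁ ⊔ W₂) →* ℂˣ,
        Cfsg.classInner (fun w => (a w : ℂ)) (fun w => (b w : ℂ)) = if a = b then 1 else 0 := by
      intro a b
      rw [CfsgLib.Char.irr_classInner (CfsgLib.Char.isIrrCharacter_linear a)
        (CfsgLib.Char.isIrrCharacter_linear b)]
      refine if_congr ⟨fun h => MonoidHom.ext fun w => Units.ext (congr_fun h w), fun h => by rw [h]⟩ rfl rfl
    refine sub_eq_zero.mp (eq_zero_on_V W₁ W₂ habel hdisj hcomm
      (fun w => χ ω w - (ω w : ℂ)) (fun a b ha hb => ?_) w hw₁ hw₂)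
    by_cases ha1 : a = 1
    · subst ha1
      have : CfsgLib.Clifford.tiFun (1 : ↥(W₁ ⊔ W₂) →* ℂˣ) b = 0 := by
        funext w; simp [CfsgLib.Clifford.tiFun]
      rw [this, CfsgLib.Char.classInner_zero_right]
    by_cases hb1 : b = 1
    · subst hb1
      have : CfsgLib.Clifford.tiFun a (1 : ↥(W₁ ⊔ W₂) →* ℂˣ) = 0 := by
        funext w; simp [CfsgLib.Clifford.tiFun]
      rw [this, CfsgLib.Char.classInner_zero_right]
    have hfr := CfsgLib.Char.frobenius_reciprocity (W₁ ⊔ W₂) (CfsgLib.Clifford.tiFun a b) (χ ω) hcl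
    rw [hind a b ha1 hb1 ha hb, ← hχ1] at hfr
    have hfr' := congr_arg (starRingEnd ℂ) hfr
    rw [CfsgLib.Char.classInner_conj_symm, CfsgLib.Char.classInner_conj_symm] at hfr'
    have ht : CfsgLib.Clifford.tiFun a b = (fun w => ((1 : ↥(W₁ ⊔ W₂) →* ℂˣ) w : ℂ))
        - (fun w => (a w : ℂ)) - (fun w => (b w : ℂ)) + fun w => ((a * b) w : ℂ) := by
      funext w; simp [CfsgLib.Clifford.tiFun]
    show Cfsg.classInner ((fun w : ↥(W₁ ⊔ W₂) => χ ω w) - fun w => (ω w : ℂ)) _ = 0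
    rw [CfsgLib.Char.classInner_sub_left, ← hfr', ht]
    simp only [CfsgLib.Char.classInner_add_right, CfsgLib.Char.classInner_sub_right, horth, hW1,
      sub_self]
  · refine (hind φ ψ h1 h2 h3 h4).trans ?_
    funext g
    simp

end Cfsg.Agent.S1502
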