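import Cfsg.Statements.S1369
import Cfsg.Agent.Lib.BG.Partner

set_option autoImplicit false
open Cfsg

namespace Cfsg.Agent.S1369

/-- Let G be a minimal simple group of odd order, M a maximal subgroup with standard factorisation M = K U M_σ, K ≠ 1, K* = M_σ ∩ C_G(K), and M* a maximal subgroup with K = M*_σ ∩ C_G(K*) and K* a Hall κ(M*)-subgroup of M*. Then either U ≠ 1 or every K*-invariant complement of K* M*_σ in M* is nontrivial; and every maximal subgroup H of G with κ(H) nonempty is conjugate to M or to M*. -/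
theorem result {G : Type*} [Group G] [Finite G] (hG : Cfsg.IsMinSimpleOddOrder G)
    (M : Subgroup G) (hM : IsCoatom M) (K U : Subgroup G) (hKU : Cfsg.IsSigmaDecomposition M K U) (hK1 : K ≠ ⊥) (Mstar : Subgroup G) (hMstar : IsCoatom Mstar)
    (hKst : K = Cfsg.sigmaCore Mstar ⊓ Subgroup.centralizer ((Cfsg.sigmaCore M ⊓ Subgroup.centralizer (K : Set G)) : Set G))
    (hKstH : Cfsg.IsPiHallOf (Cfsg.kappa Mstar) (Cfsg.sigmaCore M ⊓ Subgroup.centralizer (K : Set G)) Mstar) :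
    (U ≠ ⊥ ∨ ∀ Ustar : Subgroup G, Cfsg.IsSigmaDecomposition Mstar (Cfsg.sigmaCore M ⊓ Subgroup.centralizer (K : Set G)) Ustar → Ustar ≠ ⊥) ∧
      ∀ H : Subgroup G, IsCoatom H → (Cfsg.kappa H).Nonempty →
        ∃ g : G, H = M.map (MulAut.conj g).toMonoidHom ∨ H = Mstar.map (MulAut.conj g).toMonoidHom := by
  open CfsgLib.BG in
  obtain ⟨U', E, d⟩ := CfsgLib.BG14.exists_pdata_of_hall hG hM hKU.hall hK1
  obtain ⟨L, U₁, E₁, d₁, h2, -, hone⟩ := d.exists_dual hG
  obtain rfl : Mstar = L := CfsgLib.BG.partner_unique hG hM hK1 d₁ h2 hMstar (hKst.le.trans inf_le_left)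
  refine ⟨hone.imp (fun h e => h ((CfsgLib.BG.decomp_U_eq_bot_iff hG hM hKU d).mp e)) fun h Ustar hU e => h ?_,
    fun H hH hκ => CfsgLib.BG.conj_of_kappa hG hM d d₁ h2 hH hκ⟩
  exact (CfsgLib.BG.decomp_U_eq_bot_iff hG hMstar hU d₁).mp e


end Cfsg.Agent.S1369
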