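import Cfsg.Statements.S1471
import Cfsg.Agent.Lib.OddLocal.FieldNorm
import Cfsg.Agent.Lib.OddLocal.NormCount

set_option autoImplicit false
open Cfsg

namespace Cfsg.Agent.S1471

/-- Let p and q be odd primes with (p^q − 1)/(p − 1) coprime to p − 1. Then there are at least two elements a of the field with p ^ q elements such that both a and 2 − a have norm 1 to the prime field. -/
theorem result (p q : ℕ) [Fact p.Prime] [Fact q.Prime] (hp : p ≠ 2) (hq : q ≠ 2) (hA : Nat.Coprime ((p ^ q - 1) / (p - 1)) (p - 1)) :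
    2 ≤ Set.ncard {a : GaloisField p q | Algebra.norm (ZMod p) a = 1 ∧ Algebra.norm (ZMod p) (2 - a) = 1} := by
  classical
  have hp' : p.Prime := Fact.out
  have hq' : q.Prime := Fact.out
  have hp3 : 3 ≤ p := by have := hp'.two_le; omega
  have one_mem : Algebra.norm (ZMod p) (1 : GaloisField p q) = 1 ∧
      Algebra.norm (ZMod p) (2 - 1 : GaloisField p q) = 1 := by
    norm_num
  rcases eq_or_ne q 3 with rfl | hq3
  · obtain ⟨a, ha1, ha⟩ := CfsgLib.OddLocal.exists_normSet_three p hp
    exact (Set.one_lt_ncard (Set.toFinite _)).2 ⟨a, ha, 1, one_mem, ha1⟩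
  have hq5 : 5 ≤ q := by
    have h2 := hq'.two_le
    have : q ≠ 4 := by rintro rfl; norm_num at hq'
    omega
  haveI : Fintype (GaloisField p q) := Fintype.ofFinite _
  have hcard : Fintype.card (GaloisField p q) = p ^ q := by
    rw [Fintype.card_eq_nat_card, GaloisField.card p q hq'.ne_zero]
  let U : Finset (GaloisField p q) := Finset.univ.filter fun u => Algebra.norm (ZMod p) u = 1
  have hmemU : ∀ u, u ∈ U ↔ Algebra.norm (ZMod p) u = 1 := by simp [U]
  have h0 : (0 : GaloisField p q) ∉ U := by simp [hmemU]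
  have hmul : ∀ u ∈ U, ∀ v ∈ U, u * v ∈ U := by
    intro u hu v hv
    rw [hmemU] at hu hv ⊢
    simp [hu, hv]
  have hker : U.card * (p - 1) = p ^ q - 1 := by
    let φ : (GaloisField p q)ˣ →* (ZMod p)ˣ := Units.map (Algebra.norm (ZMod p))
    have hs : Function.Surjective φ := FiniteField.unitsMap_norm_surjective (ZMod p) (GaloisField p q)
    have h := φ.ker.card_mul_index
    rw [Subgroup.index_ker, MonoidHom.range_eq_top.2 hs, Subgroup.card_top, Nat.card_units,
      Nat.card_units, Nat.card_zmod, GaloisField.card p q hq'.ne_zero] at h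
    rw [← h]
    congr 1
    rw [Nat.card_eq_fintype_card, ← Fintype.card_coe]
    refine Fintype.card_congr (Equiv.symm ?_)
    exact
      { toFun := fun u => ⟨(u.1 : GaloisField p q), by
          rw [hmemU]; exact congrArg Units.val u.2⟩
        invFun := fun u => ⟨Units.mk0 u.1 (fun h => h0 (h ▸ u.2)), by
          rw [MonoidHom.mem_ker]; exact Units.ext ((hmemU _).1 u.2)⟩
        left_inv := fun u => by ext; rfl
        right_inv := fun u => by ext; rfl }
  have hnl : p ^ (q - 1) ≤ U.card := by
    obtain ⟨k, hk⟩ : ∃ k, p ^ q = p ^ k * p ∧ q - 1 = k := ⟨q - 1, by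
      rw [← pow_succ, show q - 1 + 1 = q by omega], rfl⟩
    obtain ⟨r, hr⟩ : ∃ r, p = r + 1 := ⟨p - 1, by omega⟩
    rw [hk.2]
    rw [hk.1, show p - 1 = r by omega] at hker
    have h1 : 1 ≤ p ^ k := Nat.one_le_pow _ _ (by omega)
    by_contra hc
    have h2' : U.card * r + r ≤ p ^ k * r := by
      rw [← Nat.succ_mul]; exact Nat.mul_le_mul_right _ (by omega)
    have h3 : p ^ k * p = p ^ k * r + p ^ k := by
      nth_rw 2 [hr]
      rw [Nat.mul_succ]
    omega
  have h2 : (2 : GaloisField p q) ≠ 0 := by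
    intro h
    have h' : ((2 : ℕ) : GaloisField p q) = 0 := by exact_mod_cast h
    rw [CharP.cast_eq_zero_iff (GaloisField p q) p, Nat.prime_dvd_prime_iff_eq hp' Nat.prime_two] at h'
    exact hp h'
  have := CfsgLib.OddLocal.two_le_card_add_eq_two p q U.card hp3 hq5 hcard
    (AddChar.FiniteField.primitiveChar_to_Complex _)
    (AddChar.FiniteField.primitiveChar_to_Complex_isPrimitive _) U h0 rfl hnl hmul h2
  refine le_trans this (le_of_eq ?_)
  rw [← Set.ncard_coe_finset]
  congr 1
  ext u
  simp [hmemU]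

end Cfsg.Agent.S1471
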