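import Cfsg.Statements.S1472
import Cfsg.Agent.Lib.OddLocal.FieldConfig
import Cfsg.Agent.S1471

set_option autoImplicit false
open Cfsg

namespace Cfsg.Agent.S1472

/-- Let p, q be primes with (p^q − 1)/(p − 1) coprime to p − 1, G a finite group, F a field with p ^ q elements, and P, U, Q subgroups of G with: f : G → F bijective from P onto F and additive on P; U normalizing P and acting through ψ : G → F, injective and multiplicative on U with ψ(u) ≠ 0 and f(uxu⁻¹) = ψ(u) f(x); #U · (p − 1) = p^q − 1; Q abelian of order coprime to p, normalized by every x ∈ P with f(x) in the prime field; and some y ∈ Q such that y x y⁻¹ normalizes U for every such x. Then p ≤ q. -/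
theorem result {G : Type*} [Group G] [Finite G] (p q : ℕ) [Fact p.Prime] [Fact q.Prime] (hA : Nat.Coprime ((p ^ q - 1) / (p - 1)) (p - 1))
    (F : Type*) [Field F] [Fintype F] (hF : Fintype.card F = p ^ q) (P U Q : Subgroup G) (f ψ : G → F)
    (hf : Set.BijOn f (P : Set G) Set.univ) (hfadd : ∀ x ∈ P, ∀ z ∈ P, f (x * z) = f x + f z)
    (hUP : U ≤ Subgroup.normalizer (P : Set G)) (hψ : ∀ u ∈ U, ψ u ≠ 0 ∧ ∀ x ∈ P, f (u * x * u⁻¹) = ψ u * f x)
    (hψmul : ∀ u ∈ U, ∀ v ∈ U, ψ (u * v) = ψ u * ψ v) (hψinj : Set.InjOn ψ (U : Set G)) (hUcard : Nat.card U * (p - 1) = p ^ q - 1)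
    (hQ : IsMulCommutative Q) (hQp : (Nat.card Q).Coprime p) (hP0Q : ∀ x ∈ P, f x ^ p = f x → x ∈ Subgroup.normalizer (Q : Set G))
    (y : G) (hy : y ∈ Q) (hP0U : ∀ x ∈ P, f x ^ p = f x → y * x * y⁻¹ ∈ Subgroup.normalizer (U : Set G)) :
    p ≤ q := by
  have hp : p.Prime := Fact.out
  have hq : q.Prime := Fact.out
  by_contra hqp
  rw [not_le] at hqp
  have hp2 : p ≠ 2 := by have := hq.two_le; omega
  have hq2 : q ≠ 2 := by
    rintro rfl
    have hn : (p ^ 2 - 1) / (p - 1) = p + 1 := by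
      obtain ⟨k, hk⟩ : ∃ k, p = k + 1 := ⟨p - 1, by omega⟩
      have h1 : p ^ 2 - 1 = (p + 1) * (p - 1) := by
        have e : p ^ 2 = (p + 1) * k + 1 := by subst hk; ring
        rw [e, show p - 1 = k by omega, Nat.add_sub_cancel]
      rw [h1, Nat.mul_div_cancel _ (by omega)]
    rw [hn] at hA
    have hodd := Nat.odd_iff.1 (hp.odd_of_ne_two hp2)
    exact absurd (Nat.eq_one_of_dvd_coprimes hA (k := 2) (by omega) (by omega)) (by norm_num)
  have hp5 : 5 ≤ p := by
    have h3 := hq.two_le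
    have h4 : p ≠ 4 := by rintro rfl; norm_num at hp
    omega
  have : CharP F p := charP_of_card_eq_prime_pow hF
  let : Algebra (ZMod p) F := ZMod.algebra F p
  have hU : Nat.card U = CfsgLib.OddLocal.FieldArith.nn p q :=
    Nat.eq_of_mul_eq_mul_right (by omega : 0 < p - 1)
      (hUcard.trans (CfsgLib.OddLocal.FieldArith.nn_mul p q).symm)
  have S : CfsgLib.OddLocal.FieldConfig.Setup p q P U Q f ψ y :=
    ⟨hA, hf, hfadd, hUP, hψ, hψmul, hψinj, hU, hQ, hQp, hP0Q, hy, hP0U⟩
  refine absurd (CfsgLib.OddLocal.FieldConfig.le_of_setup S hF ?_ hp5) (not_le.2 hqp)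
  have : Fintype (GaloisField p q) := Fintype.ofFinite _
  have hcard : Fintype.card (GaloisField p q) = Fintype.card F := by
    rw [hF, Fintype.card_eq_nat_card, GaloisField.card p q hq.ne_zero]
  let φ : GaloisField p q ≃ₐ[ZMod p] F := FiniteField.algEquivOfCardEq p hcard
  have hN : ∀ c : GaloisField p q, Algebra.norm (ZMod p) c = 1 →
      φ c ^ CfsgLib.OddLocal.FieldArith.nn p q = 1 := by
    intro c hc
    have h := congrArg φ (FiniteField.algebraMap_norm_eq_pow (K := ZMod p) (x := c))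
    rw [hc, map_one, map_one, map_pow, GaloisField.card p q hq.ne_zero, Nat.card_zmod] at h
    exact h.symm
  obtain ⟨a, ha, ha1⟩ : ∃ a ∈ {a : GaloisField p q | Algebra.norm (ZMod p) a = 1 ∧
      Algebra.norm (ZMod p) (2 - a) = 1}, a ≠ 1 :=
    Set.exists_ne_of_one_lt_ncard (Cfsg.Agent.S1471.result p q hp2 hq2 hA) 1
  refine ⟨φ a, fun h => ha1 (φ.injective (by rw [h, map_one])), hN _ ha.1, ?_⟩
  have h2 := hN _ ha.2
  rwa [map_sub, map_ofNat] at h2

end Cfsg.Agent.S1472
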