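import Cfsg.Statements.S1378
import Cfsg.Agent.Lib.BG14.Partition

set_option autoImplicit false
open Cfsg

namespace Cfsg.Agent.S1378

/-- Let G be a minimal simple group of odd order. Then every prime dividing the order of G belongs to σ(M) for some maximal subgroup M, and if σ(M) and σ(N) have a prime in common for maximal subgroups M, N then N is conjugate to M; so the sets σ(M_i) over representatives of the conjugacy classes of maximal subgroups partition the prime divisors of #G. -/
theorem result {G : Type*} [Group G] [Finite G] (hG : Cfsg.IsMinSimpleOddOrder G) :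
    (∀ p : ℕ, p.Prime → p ∣ Nat.card G → ∃ M : Subgroup G, IsCoatom M ∧ p ∈ Cfsg.sigma M) ∧
      ∀ M N : Subgroup G, IsCoatom M → IsCoatom N → (Cfsg.sigma M ∩ Cfsg.sigma N).Nonempty → ∃ g : G, N = M.map (MulAut.conj g).toMonoidHom := by
  refine ⟨fun p hp hd => ?_, fun M N hM hN ⟨p, h1, h2⟩ => CfsgLib.BG14.exists_conj_of_sigma_inter hG hM hN h1 h2⟩
  haveI := Fact.mk hp
  obtain ⟨P⟩ : Nonempty (Sylow p G) := inferInstance
  have hP1 : (P : Subgroup G) ≠ ⊥ := fun h => P.not_dvd_index (by rw [h, Subgroup.index_bot]; exact hd)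
  have hP2 : (P : Subgroup G) ≠ ⊤ := fun h => by
    have hG' : IsPGroup p G := (h ▸ P.2 : IsPGroup p (⊤ : Subgroup G)).of_equiv Subgroup.topEquiv
    haveI := hG.2.1
    exact (CfsgLib.OddLocal.minSimple_center_eq_bot hG ▸ Subgroup.nontrivial_iff_ne_bot _ |>.mp hG'.center_nontrivial) rfl
  obtain ⟨M, hM, hNM⟩ := CfsgLib.BG14.exists_coatom_normalizer hG hP1 hP2
  have hPM : (P : Subgroup G) ≤ M := Subgroup.le_normalizer.trans hNM
  refine ⟨M, hM, CfsgLib.BG.mem_sigma_of_normalizer_le ?_ ⟨hPM, P.2, ?_⟩ hNM⟩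
  · exact (CfsgLib.BG.dvd_card_of_pgroup_ne_bot P.2 hP1).trans (Subgroup.card_dvd_of_le hPM)
  · exact fun h => P.not_dvd_index (h.trans (Subgroup.relIndex_dvd_index_of_le hPM))

end Cfsg.Agent.S1378
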