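import Cfsg.Statements.S1540
import Cfsg.Agent.Lib.PF.NonFrobCore
import Cfsg.Agent.Lib.BG.Types
import Cfsg.Agent.Lib.BG.KappaDecomp
import Cfsg.Agent.S1378
import Cfsg.Agent.S1425

set_option autoImplicit false
set_option linter.style.haveILetI false
open Cfsg

namespace CfsgLib.PF.NonFrob

open Subgroup CfsgLib.PLocal CfsgLib.OddLocal CfsgLib.BG CfsgLib.BG14
open scoped commutatorElement

universe u

variable {G : Type u} [Group G] [Finite G] (hG : Cfsg.IsMinSimpleOddOrder G)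
include hG

theorem kappa_eq_empty_of_typeI {M : Subgroup G} (hM : IsCoatom M) (hI : Cfsg.IsOfTypeI M) :
    Cfsg.kappa M = ∅ := by
  rw [Set.eq_empty_iff_forall_notMem]
  intro r hr
  obtain ⟨K, U, E, d⟩ := exists_of_mem_kappa hG hM hr
  obtain ⟨U', h⟩ := CfsgLib.BG.exists_decomposition hG hM (d.isCyclic_K hG) (d.hall hG)
  exact d.ne (CfsgLib.BG.K_eq_bot_of_typeI hG hM h hI)

/-- No maximal subgroup without `κ`-primes has a `τ₂`-prime. -/
theorem no_tau2_of_kappa_empty {M : Subgroup G} (hM : IsCoatom M) (hκ : Cfsg.kappa M = ∅) :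
    Cfsg.tau2 M = ∅ := by
  classical
  by_contra hne
  obtain ⟨t, ht⟩ := Set.nonempty_iff_ne_empty.mpr hne
  have hex : ∃ p, ∃ M : Subgroup G, IsCoatom M ∧ Cfsg.kappa M = ∅ ∧ p ∈ Cfsg.tau2 M :=
    ⟨t, M, hM, hκ, ht⟩
  obtain ⟨p, ⟨M, hM, hκ, hτ⟩, hmin⟩ : ∃ p, (∃ M : Subgroup G, IsCoatom M ∧ Cfsg.kappa M = ∅ ∧
      p ∈ Cfsg.tau2 M) ∧ ∀ q, (∃ M : Subgroup G, IsCoatom M ∧ Cfsg.kappa M = ∅ ∧
      q ∈ Cfsg.tau2 M) → p ≤ q := ⟨Nat.find hex, Nat.find_spec hex, fun q hq => Nat.find_min' hex hq⟩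
  haveI := Fact.mk hτ.1
  obtain ⟨A, hAM, hA⟩ := exists_sq_le_of_not_prankLE le_rfl hτ.2.2.2
  obtain ⟨hnil, -, -, hC, -⟩ := i1417 hG M hM p hτ A ⟨hAM, hA.1, hA.2⟩
  set H := Cfsg.sigmaCore M with hH
  -- a point of `A`
  have hcop : (Nat.card A).Coprime (Nat.card H) := coprime_sigmaCore hG hM fun r hr hd =>
    (prime_dvd_pgroup_card hA.isPGroup hr hd).symm ▸ hτ.2.1
  have hgen := CfsgLib.Coprime.iSup_centralizer_eq hA.comm hA.not_isCyclic
    (hAM.trans (le_normalizer_sigmaCore M)) hcop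
  obtain ⟨x, hx, hx1, y, hy, hy'⟩ : ∃ x ∈ A, x ≠ 1 ∧ ∃ y ∈ H ⊓ centralizer ({x} : Set G), y ∉ ⁅H, H⁆ := by
    by_contra hc
    push Not at hc
    have hle : H ≤ ⁅H, H⁆ := by
      exact hgen.ge.trans (iSup_le fun a y hy => hc a.1 a.2.1 a.2.2 y hy)
    haveI : Group.IsSolvable H := isSolvable_of_le_max hG hM (sigmaCore_le M)
    haveI : Nontrivial H := (nontrivial_iff_ne_bot H).mpr (sigmaCore_ne_bot hG hM)
    refine (Group.IsSolvable.commutator_lt_top_of_nontrivial H).ne ?_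
    apply Subgroup.map_injective H.subtype_injective
    rw [Subgroup.map_subtype_commutator, ← MonoidHom.range_eq_map, Subgroup.range_subtype]
    exact le_antisymm (commutator_le_self H) hle
  have hxp : orderOf x = p := by rw [← Nat.card_zpowers]; exact (hA.card_zpowers hx hx1).2
  have hy1 : y ≠ 1 := fun e => hy' (e ▸ one_mem _)
  obtain ⟨hCx, huniq⟩ := centralizer_tau2_element hG hM (hAM hx) hx1
    (fun r hr hd => by
      rw [hxp] at hd
      exact ((Nat.prime_dvd_prime_iff_eq hr hτ.1).mp hd).symm ▸ hτ)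
    hy.1 hy1 (mem_centralizer_singleton_iff.mp hy.2).symm
  -- the partner
  obtain ⟨L₀, hL₀, hpL₀⟩ := (Cfsg.Agent.S1378.result hG).1 p hτ.1 (hxp ▸ orderOf_dvd_natCard x)
  obtain ⟨g, hg⟩ := Cfsg.Agent.S1425.result hG L₀ hL₀ A hA.ne_bot fun r hr hd =>
    (prime_dvd_pgroup_card hA.isPGroup hr hd).symm ▸ hpL₀
  set L := conjMap g⁻¹ L₀ with hLdef
  have hL : IsCoatom L := isCoatom_conjMap' hG hL₀ g⁻¹
  have hAL : A ≤ Cfsg.sigmaCore L := by
    rw [hLdef, sigmaCore_conjMap g⁻¹]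
    have h := conjMap_mono (g := g⁻¹) hg
    rwa [show A.map (MulAut.conj g).toMonoidHom = conjMap g A from rfl, conjMap_inv_conjMap] at h
  have hpL : p ∈ Cfsg.sigma L := by rw [hLdef, sigma_conjMap g⁻¹]; exact hpL₀
  have hnot : ¬ centralizer ({x} : Set G) ≤ L := fun h => hτ.2.1 (huniq L hL h ▸ hpL)
  obtain ⟨N, s⟩ := exists_support hG hL (hAL hx) hx1 hnot
  have hNM : M = N := s.unique M hM hCx
  subst hNM
  have R : Pre p M L A x :=
    ⟨hL, hκ, hτ, fun M' hM' hκ' q hq => hmin q ⟨M', hM', hκ', hq⟩, hA,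
      le_inf (hAL.trans (sigmaCore_le L)) hAM, hAL, hx, hx1, s, y, hy, hy'⟩
  letI := Fintype.ofFinite G
  letI := Fintype.ofFinite L
  letI := Fintype.ofFinite ((Cfsg.sigmaCore L).subgroupOf L)
  letI := Fintype.ofFinite (Cfsg.IrrCharacter ((Cfsg.sigmaCore L).subgroupOf L))
  by_cases hn : Group.IsNilpotent (Cfsg.sigmaCore L)
  · exact R.nilpotent_false hG hn
  · exact R.core_false hG hn

theorem typeI_frobenius {M : Subgroup G} (hM : IsCoatom M) (hI : Cfsg.IsOfTypeI M) :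
    ∀ x ∈ Cfsg.fittingHallOf M, x ≠ 1 →
      M ⊓ centralizer ({x} : Set G) ≤ Cfsg.fittingHallOf M := by
  have hκ := kappa_eq_empty_of_typeI hG hM hI
  rw [fittingHallOf_eq_sigmaCore hG hM (nilpotent_of_kappa_empty hG hM hκ)]
  intro x hx hx1 g hg
  refine mem_sigmaCore_of hG hM hg.1 fun r hr hd => ?_
  by_contra hσ
  haveI := Fact.mk hr
  have hi := exists_pow_orderOf_eq hd
  set k := g ^ (orderOf g / r)
  have hkM : k ∈ M := M.pow_mem hg.1 _
  have hfix : Cfsg.sigmaCore M ⊓ centralizer ({k} : Set G) ≠ ⊥ := fun e => hx1 (mem_bot.mp (e ▸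
    ⟨hx, mem_centralizer_singleton_iff.mpr
      ((show Commute g x from mem_centralizer_singleton_iff.mp hg.2).pow_left _).eq.symm⟩))
  by_cases hrk : Cfsg.PRankLE r 1 M
  · have h := mem_kappa_of_fix hG hM hkM (hi.symm ▸ hr) (hi.symm ▸ hσ) (hi.symm ▸ hrk) hfix
    rw [hκ] at h
    exact h
  · have h : r ∈ Cfsg.tau2 M := ⟨hr, hσ, prankLE_two_of_not_sigma hG hM hσ, hrk⟩
    rw [no_tau2_of_kappa_empty hG hM hκ] at h
    exact h

end CfsgLib.PF.NonFrob

namespace Cfsg.Agent.S1540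

/-- Let G be a minimal simple group of odd order and M a maximal subgroup of Type I. Then every non-identity element of M_F has its centraliser in M contained in M_F (M is a Frobenius group with kernel M_F). -/
theorem result {G : Type*} [Group G] [Finite G] (hG : Cfsg.IsMinSimpleOddOrder G) (M : Subgroup G) (hM : IsCoatom M) (hI : Cfsg.IsOfTypeI M) : ∀ x ∈ Cfsg.fittingHallOf M, x ≠ 1 → M ⊓ Subgroup.centralizer ({x} : Set G) ≤ Cfsg.fittingHallOf M :=
  CfsgLib.PF.NonFrob.typeI_frobenius hG hM hI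

end Cfsg.Agent.S1540
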