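import Cfsg.Statements.S1375
import Cfsg.Agent.Lib.BG14.Tilde

set_option autoImplicit false
open Cfsg

namespace Cfsg.Agent.S1375

/-- Let G be a minimal simple group of odd order, M a maximal subgroup, x ≠ 1 in M_σ with C_G(x) not contained in M. Then exactly one maximal subgroup N contains C_G(x); for it N_σ = N_F, C_{N_σ}(x) is a normal subgroup of C_G(x) complementing C_M(x), M ∩ N is a complement to N_σ in N, and for every standard factorisation N = K' U' N_σ one has U' ≠ 1 and x ∈ A(N) with x ∉ N_σ. -/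
theorem result {G : Type*} [Group G] [Finite G] (hG : Cfsg.IsMinSimpleOddOrder G)
    (M : Subgroup G) (hM : IsCoatom M) (x : G) (hx : x ∈ Cfsg.sigmaCore M) (hx1 : x ≠ 1) (hxM : ¬ Subgroup.centralizer ({x} : Set G) ≤ M) :
    ∃ N : Subgroup G, (IsCoatom N ∧ Subgroup.centralizer ({x} : Set G) ≤ N) ∧ (∀ L : Subgroup G, IsCoatom L → Subgroup.centralizer ({x} : Set G) ≤ L → L = N) ∧
        Cfsg.sigmaCore N = Cfsg.fittingHallOf N ∧
        Subgroup.centralizer ({x} : Set G) ≤ Subgroup.normalizer ((Cfsg.sigmaCore N ⊓ Subgroup.centralizer ({x} : Set G) : Subgroup G) : Set G) ∧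
        Cfsg.IsComplIn (M ⊓ Subgroup.centralizer ({x} : Set G)) (Cfsg.sigmaCore N ⊓ Subgroup.centralizer ({x} : Set G)) (Subgroup.centralizer ({x} : Set G)) ∧
        Cfsg.IsComplIn (M ⊓ N) (Cfsg.sigmaCore N) N ∧
        ∀ K' U' : Subgroup G, Cfsg.IsSigmaDecomposition N K' U' → U' ≠ ⊥ ∧ x ∈ Cfsg.sigmaA N U' ∧ x ∉ Cfsg.sigmaCore N := by
  obtain ⟨L, hL⟩ := CfsgLib.BG14.exists_support hG hM hx hx1 hxM
  have hxC : x ∈ Subgroup.centralizer ({x} : Set G) := Subgroup.mem_centralizer_singleton_iff.mpr rfl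
  refine ⟨L, ⟨hL.hL, hL.le⟩, hL.unique, (CfsgLib.BG14.fittingHallOf_eq_sigmaCore hG hL.hL hL.nilpotent).symm,
    (le_inf (hL.le.trans (CfsgLib.BG.le_normalizer_sigmaCore L)) Subgroup.le_normalizer).trans
      Subgroup.inf_normalizer_le_normalizer_inf,
    ⟨inf_le_right, inf_le_right, ?_, hL.split⟩, hL.compl, fun K' U' hd => ?_⟩
  · rw [← le_bot_iff, ← hL.disj]
    exact le_inf (inf_le_right.trans inf_le_left) (inf_le_left.trans inf_le_left)
  have hκ : ∀ p : ℕ, p.Prime → p ∣ orderOf x → p ∉ Cfsg.kappa L := by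
    intro p hp hdv hk
    haveI := Fact.mk hp
    have hτ := hL.tau2 p hp hdv
    obtain ⟨A, hAL, hA⟩ := CfsgLib.BG.exists_sq_le_of_not_prankLE le_rfl hτ.2.2.2
    obtain ⟨T, hT, hAT⟩ := CfsgLib.PLocal.exists_sylowIn_le hA.isPGroup hAL
    obtain ⟨P, hP⟩ := CfsgLib.BG14.exists_sylow_map hT
    obtain ⟨hcyc, -⟩ := hk.2.2.2 P
    haveI := hcyc
    have hTc : IsCyclic T := hP ▸
      ((P : Subgroup L).equivMapOfInjective _ L.subtype_injective).isCyclic.mp hcyc
    haveI := hTc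
    exact hA.not_isCyclic (isCyclic_of_injective (Subgroup.inclusion hAT) (Subgroup.inclusion_injective hAT))
  have hxV := CfsgLib.BG14.mem_sup_of_not_kappa hG hd (hL.le hxC) hκ
  have hxσ : x ∉ Cfsg.sigmaCore L := fun h => hx1 (Subgroup.mem_bot.mp (hL.disj ▸
    ⟨h, CfsgLib.BG.sigmaCore_le M hx⟩))
  refine ⟨fun h => hxσ ?_, ⟨⟨hL.le hxC, ?_⟩, hxV⟩, hxσ⟩
  · rwa [h, bot_sup_eq] at hxV
  · obtain ⟨y, hy, hy1⟩ := (Cfsg.sigmaCore L ⊓ Subgroup.centralizer ({x} : Set G)).bot_or_exists_ne_one.resolve_left hL.ne_bot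
    exact ⟨y, hy.1, hy1, (Subgroup.mem_centralizer_singleton_iff.mp hy.2).symm⟩

end Cfsg.Agent.S1375
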