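import Cfsg.Statements.S1527
import Mathlib

set_option autoImplicit false
open Cfsg

namespace Cfsg.Agent.S1527

/-- Let G be a finite group and H i (i in a finite index type) subgroups of pairwise coprime orders, each of whose underlying sets is a TI-subset of G, such that every non-identity element of G is conjugate to an element of some H i. Then Nat.card G − 1 = Σ_i [G : N_G(H i)] · (Nat.card (H i) − 1). -/
theorem result {G : Type*} [Group G] [Finite G] {ι : Type*} [Fintype ι] (H : ι → Subgroup G) (hcop : ∀ i j, i ≠ j → Nat.Coprime (Nat.card (H i)) (Nat.card (H j))) (hTI : ∀ i, Cfsg.IsTISubset (H i : Set G)) (hcover : ∀ g : G, g ≠ 1 → ∃ i, ∃ x : G, x * g * x⁻¹ ∈ H i) : Nat.card G - 1 = ∑ i, (Subgroup.normalizer (H i : Set G)).index * (Nat.card (H i) - 1) := by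
  classical
  let f : (Σ i, (G ⧸ Subgroup.normalizer (H i : Set G)) × {h : H i // h ≠ 1}) → {g : G // g ≠ 1} :=
    fun x => ⟨x.2.1.out * (x.2.2.1 : G) * x.2.1.out⁻¹, by simpa using x.2.2.2⟩
  have hf : Function.Bijective f := by
    constructor
    · rintro ⟨i, q, h, hh⟩ ⟨j, r, k, hk⟩ e
      have e : q.out * (h : G) * q.out⁻¹ = r.out * (k : G) * r.out⁻¹ := congr_arg Subtype.val e
      set w := r.out⁻¹ * q.out with hw
      have ek : w * (h : G) * w⁻¹ = k := by
        calc w * (h : G) * w⁻¹ = r.out⁻¹ * (q.out * (h : G) * q.out⁻¹) * r.out := by rw [hw]; group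
          _ = r.out⁻¹ * (r.out * (k : G) * r.out⁻¹) * r.out := by rw [e]
          _ = k := by group
      have hh1 : (h : G) ≠ 1 := fun h1 => hh (Subtype.ext h1)
      obtain rfl : i = j := by
        by_contra hij
        refine hh1 (orderOf_eq_one_iff.mp (Nat.eq_one_of_dvd_coprimes (hcop i j hij)
          (Subgroup.orderOf_dvd_natCard _ h.2) ?_))
        have : orderOf (k : G) = orderOf (h : G) := by
          rw [← ek]; exact (MulEquiv.orderOf_eq (MulAut.conj w) (h : G))
        exact this ▸ Subgroup.orderOf_dvd_natCard _ k.2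
      have hwN : w ∈ Subgroup.normalizer (H i : Set G) := by
        by_contra hw'
        exact hh1 (hTI i w hw' h h.2 (ek ▸ k.2))
      have hqr : q = r := by
        rw [← q.out_eq, ← r.out_eq]
        exact (QuotientGroup.eq.mpr (hw ▸ hwN)).symm
      subst hqr
      have hhk : h = k := Subtype.ext (mul_left_cancel (mul_right_cancel e))
      subst hhk
      rfl
    · rintro ⟨g, hg⟩
      obtain ⟨i, x, hx⟩ := hcover g hg
      obtain ⟨n, hn⟩ := QuotientGroup.mk_out_eq_mul (Subgroup.normalizer (H i : Set G)) x⁻¹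
      refine ⟨⟨i, (x⁻¹ : G), ⟨(n : G)⁻¹ * (x * g * x⁻¹) * n, ?_⟩, ?_⟩, Subtype.ext ?_⟩
      · simpa [mul_assoc] using ((n⁻¹).2 _).mp hx
      · intro h
        have h : (n : G)⁻¹ * (x * g * x⁻¹) * n = 1 := congr_arg Subtype.val h
        refine hg ?_
        calc g = x⁻¹ * (n : G) * ((n : G)⁻¹ * (x * g * x⁻¹) * n) * (n : G)⁻¹ * x := by group
          _ = 1 := by rw [h]; group
      · simp only [f, hn]; group
  have := Nat.card_eq_of_bijective f hf
  rw [Nat.card_sigma] at this
  have h1 : ∀ (K : Type _) [Group K] [Finite K], Nat.card {g : K // g ≠ 1} = Nat.card K - 1 := by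
    intro K _ _
    have : Fintype K := Fintype.ofFinite K
    simp [Nat.card_eq_fintype_card, Fintype.card_subtype_compl]
  rw [← h1, ← this]
  refine Finset.sum_congr rfl fun i _ => ?_
  rw [Nat.card_prod, Subgroup.index, h1]

end Cfsg.Agent.S1527
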