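import Cfsg.Statements.S1541
import Cfsg.Agent.Lib.PF.AllTypeOne
import Cfsg.Agent.Lib.PF.CoreDade
import Cfsg.Agent.S1540

set_option autoImplicit false
open Cfsg

namespace Cfsg.Agent.S1541

/-- Let G be a minimal simple group of odd order. Then some maximal subgroup of G is not of Type I. -/
theorem result {G : Type*} [Group G] [Finite G] (hG : Cfsg.IsMinSimpleOddOrder G) : ∃ M : Subgroup G, IsCoatom M ∧ ¬ Cfsg.IsOfTypeI M := by
  by_contra hcon
  push Not at hcon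
  have hcore := fun M hM => CfsgLib.PF.typeI_cores hG hM (hcon M hM)
  have hfrob : ∀ M : Subgroup G, IsCoatom M → Cfsg.IsOfTypeI M →
      ∀ x ∈ Cfsg.fittingHallOf M, x ≠ 1 →
        M ⊓ Subgroup.centralizer ({x} : Set G) ≤ Cfsg.fittingHallOf M :=
    fun M hM hI => Cfsg.Agent.S1540.result hG M hM hI
  have hA : ∀ M : Subgroup G, IsCoatom M → ∀ a : G, a ∈ Cfsg.typeA M ↔ a ∈ Cfsg.sigmaCore M ∧ a ≠ 1 := by
    intro M hM a
    simp only [Cfsg.typeA, if_pos (hcon M hM), Set.mem_ofPred_eq, ← (hcore M hM).2.1]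
    constructor
    · rintro ⟨haM, ha1, x, hx, hx1, hc⟩
      exact ⟨hfrob M hM (hcon M hM) x hx hx1 ⟨haM, Subgroup.mem_centralizer_singleton_iff.mpr hc⟩, ha1⟩
    · exact fun h => ⟨CfsgLib.OddLocal.fittingHallOf_le M h.1, h.2, a, h.1, h.2, rfl⟩
  obtain ⟨M, hMc, hnI⟩ := CfsgLib.PF.exists_not_typeI hG hfrob fun M hM x hx => by
    obtain ⟨hxs, hx1⟩ := (hA M hM x).mp hx
    refine ⟨fun g hgx => ?_, fun hnot => ?_⟩
    · exact (CfsgLib.PF.coreDade hG hM).fusion x ⟨hxs, hx1⟩ g ((hA M hM _).mp hgx)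
    · exfalso
      rcases CfsgLib.BG14.supportR_cases hG hM hxs hx1 with ⟨hle, -⟩ | ⟨L, hL, -⟩
      · exact hnot hle
      have hxL : x ∈ L := hL.le (Subgroup.mem_centralizer_singleton_iff.mpr rfl)
      obtain ⟨c, hc, hcM⟩ := SetLike.not_le_iff_exists.mp hnot
      obtain ⟨m, hm, r, hr, e⟩ := hL.split c hc
      have hr1 : r ≠ 1 := fun h => hcM (by rw [e, h, mul_one]; exact hm.1)
      have hrF : r ∈ Cfsg.fittingHallOf L := by rw [(hcore L hL.hL).2.1]; exact hr.1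
      have hxF : x ∈ Cfsg.fittingHallOf L := hfrob L hL.hL (hcon L hL.hL) r hrF hr1
        ⟨hxL, Subgroup.mem_centralizer_singleton_iff.mpr
          (Subgroup.mem_centralizer_singleton_iff.mp hr.2).symm⟩
      rw [(hcore L hL.hL).2.1] at hxF
      obtain ⟨p, hp, hpd⟩ := Nat.exists_prime_and_dvd fun h => hx1 (orderOf_eq_one_iff.mp h)
      exact hL.sigma_disjoint hG hM
        (CfsgLib.BG.mem_sigma_of_dvd_sigmaCore hp (hpd.trans (Subgroup.orderOf_dvd_natCard _ hxs)))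
        (CfsgLib.BG.mem_sigma_of_dvd_sigmaCore hp (hpd.trans (Subgroup.orderOf_dvd_natCard _ hxF)))
  exact hnI (hcon M hMc)

end Cfsg.Agent.S1541
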