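import Cfsg.Statements.S5090
import Cfsg.Agent.Lib.Fusion.ModelMain
import Cfsg.Agent.Lib.Fusion.ModelBasic

set_option autoImplicit false
universe u
open Cfsg

namespace Cfsg.Agent.S5090

/-- Model Theorem, existence: a constrained saturated fusion system over a finite p-group S has a model — a finite group G with an injective homomorphism of S onto a Sylow p-subgroup realizing the system and with C_G(O_p(G)) ≤ O_p(G). -/
theorem result {Ω : Type u} [Group Ω] {S : Subgroup Ω} [Finite S] (p : ℕ) [Fact p.Prime] (hS : IsPGroup p S) (F : Cfsg.FusionSystem S) (hF : F.IsConstrained p) : ∃ (G : Type u) (_ : Group G) (ι : S →* G), F.IsModel p G ι := by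
  obtain ⟨hsat, Q, hQn, hQc⟩ := hF
  have hN := CfsgLib.Fusion.IsNormal.normalizerIn_eq hQn
  have hle : S ≤ Cfsg.FusionSystem.normalizerIn S Q := hN.ge
  obtain ⟨G, hg, ι, hfin, hr, ⟨T, hT⟩, hM, hc⟩ :=
    CfsgLib.Fusion.Model.exists_model_normalizer F hS hsat hQc
      (CfsgLib.Fusion.IsNormal.fullyNormalized hQn)
      (CfsgLib.Fusion.isNormalizerSystem_normalizerSys F Q hQn.1)
  refine ⟨G, hg, ι.comp (Subgroup.inclusion hle), hfin,
    ⟨hr.1.comp (Subgroup.inclusion_injective hle), fun P hP φ hφ => ?_⟩, ⟨T, ?_⟩, ?_⟩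
  · refine Iff.trans ?_ (hr.2 P (hP.trans hle) φ fun x => hle (hφ x))
    show φ ∈ F.Hom P ↔ φ ∈ F.normalizerHom Q P
    refine ⟨fun h => ?_, fun h => h.1⟩
    obtain ⟨ψ, hψ, hψx, hψQ⟩ := hQn.2 P φ h
    exact ⟨h, hP.trans hle, fun x => hle (hφ x), ψ, hψ, hψx, hψQ⟩
  · rw [hT, MonoidHom.range_comp, MonoidHom.range_eq_map]
    congr 1
    exact (MonoidHom.range_eq_top.2 fun x => ⟨⟨x, hN.le x.2⟩, rfl⟩).symm
  · have hp : IsPGroup p ((Q.subgroupOf (Cfsg.FusionSystem.normalizerIn S Q)).map ι) :=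
      ((hS.to_le (inf_le_left : Cfsg.FusionSystem.normalizerIn S Q ≤ S)).to_subgroup _).map ι
    have hMle : (Q.subgroupOf (Cfsg.FusionSystem.normalizerIn S Q)).map ι ≤ Cfsg.pCore p G :=
      le_sSup ⟨hM, hp⟩
    exact ((Subgroup.centralizer_le hMle).trans hc).trans hMle

end Cfsg.Agent.S5090
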