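import Cfsg.Statements.S0822
import Cfsg.Agent.Lib.Geom.ThirtySixMap
import Cfsg.Agent.Lib.Geom.SpFiveKer
import Cfsg.Agent.Lib.Classical.ExcIsoMinusSix
import Cfsg.Agent.Lib.Classical.ExcIsoPerm
import Cfsg.Agent.Lib.Geom.DicksonPSL
import Cfsg.Agent.S0245
-- import your own Cfsg.Agent.* helpers here

set_option autoImplicit false
open Cfsg CfsgLib.Geom

namespace Cfsg.Agent.S0822

/-- PSU_4(2) ≅ PSp_4(3): with |F| = 4 and |K| = 3, the projective special unitary group of the standard Hermitian form on F^4 is isomorphic to PSp_4(K). -/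
theorem result {F K : Type*} [Field F] [Fintype F] [Field K] [Fintype K] (hF : Fintype.card F = 4) (hK : Fintype.card K = 3) : Nonempty (Cfsg.PSU 4 F 2 ≃* Cfsg.PSp 2 K) := by
  classical
  have h3 : Fintype.card ThirtySix.F3 = 3 := ZMod.card 3
  have h2K : Fintype.card ThirtySix.F2 = 2 := ZMod.card 2
  have h20 : (2 : ThirtySix.F2) = 0 := by decide
  have hab : ∀ z₁ z₂ : ThirtySix.F2, z₁ ^ 2 + 1 * z₁ * z₂ + 1 * z₂ ^ 2 = 0 → z₁ = 0 ∧ z₂ = 0 := by decide
  obtain ⟨e1⟩ := CfsgLib.Classical.pOmega_minus_six (F := ThirtySix.F2) (K := F) (q := 2) h2K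
    (by rw [hF]; rfl) 1 1 hab
  rw [← CfsgLib.Classical.qfMinus_coe] at e1
  let H := Matrix.symplecticGroup (Fin 2) ThirtySix.F3
  let ρ : H →* quadIsoms (CfsgLib.Classical.qfMinus 2 ThirtySix.F2 1 1) :=
    ThirtySix.toSix.comp CfsgLib.Classical.spFive
  have hperf : commutator H = ⊤ :=
    CfsgLib.Classical.commutator_symplecticGroup 2 (Or.inr (Or.inl ⟨rfl, by rw [h3]⟩))
  have htriv := CfsgLib.Classical.mem_center_of_perfect hperf
  have hker5 : ∀ A : H, CfsgLib.Classical.spFive A = 1 → A ∈ Subgroup.center H := by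
    intro A hA
    exact CfsgLib.Classical.spFive_ker_le_center (by rw [h3]; decide) hA
  have hker : ρ.ker ≤ Subgroup.center H := by
    intro A hA
    obtain ⟨e, he⟩ := ThirtySix.sign_of_ker _ (MonoidHom.mem_ker.1 hA)
    refine htriv A fun h => hker5 _ ?_
    rw [map_commutatorElement, commutatorElement_eq_one_iff_mul_comm]
    refine Subtype.ext (LinearEquiv.ext fun v => ?_)
    show (CfsgLib.Classical.spFive A).1 ((CfsgLib.Classical.spFive h).1 v) =
      (CfsgLib.Classical.spFive h).1 ((CfsgLib.Classical.spFive A).1 v)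
    rw [he, he, map_smul]
  have hc : Nat.card ρ.ker ≤ 2 := by
    refine (Subgroup.card_le_of_le hker).trans ?_
    have : ({1, spNeg 2 ThirtySix.F3} : Set H).ncard ≤ 2 := by
      refine (Set.ncard_insert_le _ _).trans ?_
      rw [Set.ncard_singleton]
    refine le_trans ?_ this
    rw [← SetLike.coe_sort_coe, Nat.card_coe_set_eq]
    refine Set.ncard_le_ncard fun A hA => ?_
    rcases spLin_center (by norm_num) hA with h | h
    · exact Or.inl (spLin_ext fun v => by rw [h, spLin_one])
    · exact Or.inr (spLin_ext fun v => by rw [h, spLin_spNeg])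
  obtain ⟨e2⟩ := CfsgLib.Classical.pOmega_equiv_of_hom _ ρ hker htriv
    (CfsgLib.Classical.commutator_eq_range_le ρ hperf) (c := 2) hc (by
      rw [omega_index_even _ (CfsgLib.Classical.qfMinus_sep 2 hab) (Or.inr (by simp)) h20 (by simp),
        CfsgLib.Classical.card_qfMinus_isoms hab 2, Cfsg.Agent.S0245.result rfl 2, Finset.prod_range_succ,
        Finset.prod_range_one, h2K, h3]
      norm_num [Finset.prod_range_succ])
  let eK : ThirtySix.F3 ≃+* K := FiniteField.ringEquivOfCardEq (h3.trans hK.symm)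
  let φ := CfsgLib.Classical.spCongr (l := Fin 2) eK
  exact ⟨(e1.symm.trans e2).trans (QuotientGroup.congr _ _ φ (Moebius.map_center_equiv φ))⟩
end Cfsg.Agent.S0822
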