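import Cfsg.Statements.S0727
import Cfsg.Agent.Lib.Perm.SharplyThree
import Mathlib.GroupTheory.FixedPointFree

set_option autoImplicit false
open Cfsg

namespace Cfsg.Agent.S0727

/-- A sharply triply transitive permutation group of degree `2^f + 1` is isomorphic to the projective general linear group of degree 2 over the field with `2^f` elements. -/
theorem result {α : Type*} [Fintype α] [DecidableEq α] {f : ℕ} (hf : 1 ≤ f) (hα : Fintype.card α = 2 ^ f + 1) (G : Subgroup (Equiv.Perm α)) (h3 : MulAction.IsMultiplyPretransitive G α 3) (hsharp : ∀ x : Fin 3 ↪ α, MulAction.stabilizer G x = ⊥) : ∃ (F : Type) (_ : Field F) (_ : Fintype F), Fintype.card F = 2 ^ f ∧ Nonempty (G ≃* Matrix.ProjGenLinGroup (Fin 2) F) := by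
  classical
  have h2 : 2 ≤ 2 ^ f := by
    calc 2 = 2 ^ 1 := (pow_one 2).symm
      _ ≤ 2 ^ f := Nat.pow_le_pow_right (by norm_num) hf
  have hodd : Odd (Fintype.card α) := by
    obtain ⟨k, hk⟩ : 2 ∣ 2 ^ f := dvd_pow_self 2 (by omega)
    exact ⟨k, by omega⟩
  have hab : ∀ a b : α, a ≠ b → ∀ g h : G, g • a = a → g • b = b → h • a = a → h • b = b → g * h = h * g := by
    intro a b hab g h hga hgb hha hhb
    obtain ⟨c, -, hc⟩ : ∃ c ∈ (Finset.univ : Finset α), c ∉ ({a, b} : Finset α) :=
      Finset.exists_mem_notMem_of_card_lt_card (by rw [Finset.card_pair hab, Finset.card_univ]; omega)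
    simp only [Finset.mem_insert, Finset.mem_singleton, not_or] at hc
    obtain ⟨s, hsa, hsb, hsc⟩ := CfsgLib.Perm.exists_smul_triple G h3 hab (Ne.symm hc.1) (Ne.symm hc.2)
      (Ne.symm hab) (Ne.symm hc.2) (Ne.symm hc.1)
    obtain ⟨hss, -, h1⟩ := CfsgLib.Perm.sharply_three_swap G hsharp hab (Ne.symm hc.1) (Ne.symm hc.2) hsa hsb hsc
    have hcent : Subsingleton {g : G // g • a = a ∧ g • b = b ∧ s * g = g * s} :=
      Finite.card_le_one_iff_subsingleton.mp (h1 hodd)
    set K : Subgroup G := MulAction.stabilizer G a ⊓ MulAction.stabilizer G b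
    have hmem : ∀ k ∈ K, s * k * s⁻¹ ∈ K := fun k hk => by
      refine ⟨?_, ?_⟩
      · show (s * k * s⁻¹) • a = a
        rw [mul_smul, mul_smul, inv_smul_eq_iff.mpr hsb.symm, show k • b = b from hk.2, hsb]
      · show (s * k * s⁻¹) • b = b
        rw [mul_smul, mul_smul, inv_smul_eq_iff.mpr hsa.symm, show k • a = a from hk.1, hsa]
    let φ : K →* K :=
      { toFun := fun k => ⟨s * k * s⁻¹, hmem k k.2⟩
        map_one' := Subtype.ext (by simp)
        map_mul' := fun u v => Subtype.ext (by simp only [Subgroup.coe_mul]; group) }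
    have hφ : MonoidHom.FixedPointFree φ := by
      intro k hk
      have e : s * k * s⁻¹ = k := congrArg Subtype.val hk
      have := congrArg Subtype.val (Subsingleton.elim
        (⟨k, k.2.1, k.2.2, mul_inv_eq_iff_eq_mul.mp e⟩ : {g : G // g • a = a ∧ g • b = b ∧ s * g = g * s})
        ⟨1, one_smul _ _, one_smul _ _, by rw [mul_one, one_mul]⟩)
      exact Subtype.ext this
    have hφ2 : Function.Involutive φ := fun k => Subtype.ext (by
      show s * (s * k * s⁻¹) * s⁻¹ = k
      rw [show s * (s * k * s⁻¹) * s⁻¹ = (s * s) * k * (s * s)⁻¹ by group, hss, inv_one, one_mul, mul_one])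
    exact congrArg Subtype.val (hφ.commute_all_of_involutive hφ2 (⟨g, hga, hgb⟩ : K) ⟨h, hha, hhb⟩).eq
  obtain ⟨F, iF, iFin, hcard, hiso⟩ := CfsgLib.Perm.sharply_three_pgl_of_abelian G h3 hsharp hab (by omega)
  exact ⟨F, iF, iFin, by omega, hiso⟩

end Cfsg.Agent.S0727
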