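import Cfsg.Statements.S4058
import Cfsg.Agent.Lib.StructB.SquareRoots
import Cfsg.Agent.Lib.Char.Integral
import Cfsg.Agent.Lib.Solvable.Frattini2
import Mathlib.GroupTheory.FiniteAbelian.Duality
import Mathlib.RingTheory.RootsOfUnity.Complex
import Mathlib.Tactic

set_option autoImplicit false
open Cfsg
open scoped ComplexConjugate IsMulCommutative

namespace Cfsg.Agent.S4058

universe u

theorem sq_mem_frattini {G : Type*} [Group G] [Finite G] (hG : IsPGroup 2 G) (g : G) :
    g ^ 2 ∈ frattini G := by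
  haveI : Fact (Nat.Prime 2) := ⟨Nat.prime_two⟩
  haveI := hG.isNilpotent
  have : ∀ M : Subgroup G, IsCoatom M → g ^ 2 ∈ M := by
    intro M hM
    haveI hMn : M.Normal := (Group.isNilpotent_of_finite_tfae (G := G)).out 0 2 rfl rfl |>.mp ‹_› M hM
    by_cases hg : g ∈ M
    · exact M.pow_mem hg 2
    obtain ⟨k, hk⟩ := IsPGroup.iff_orderOf.1 (hG.to_quotient M) (g : G ⧸ M)
    by_contra hg2
    have htop : Subgroup.zpowers ((g : G ⧸ M) ^ 2) = ⊤ := by
      rcases hM.le_iff.mp (show M ≤ (Subgroup.zpowers ((g : G ⧸ M) ^ 2)).comap (QuotientGroup.mk' M) from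
        fun y hy => by simp [(QuotientGroup.eq_one_iff y).mpr hy]) with h | h
      · exact Subgroup.comap_injective (QuotientGroup.mk'_surjective M)
          (h.trans (Subgroup.comap_top _).symm)
      · refine absurd ?_ hg2
        rw [← h]
        show ((g ^ 2 : G) : G ⧸ M) ∈ Subgroup.zpowers ((g : G ⧸ M) ^ 2)
        rw [QuotientGroup.mk_pow]
        exact Subgroup.mem_zpowers _
    have h1 : k ≠ 0 := by
      rintro rfl
      rw [pow_zero, orderOf_eq_one_iff, QuotientGroup.eq_one_iff] at hk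
      exact hg hk
    have h2 : orderOf ((g : G ⧸ M) ^ 2) = 2 ^ k / 2 := by
      rw [orderOf_pow' _ two_ne_zero, hk, Nat.gcd_eq_right (dvd_pow_self 2 h1)]
    have h3 : orderOf (g : G ⧸ M) ∣ orderOf ((g : G ⧸ M) ^ 2) := by
      obtain ⟨j, hj⟩ := Subgroup.mem_zpowers_iff.1 (htop ▸ Subgroup.mem_top (g : G ⧸ M) :
        (g : G ⧸ M) ∈ Subgroup.zpowers ((g : G ⧸ M) ^ 2))
      conv_lhs => rw [← hj]
      exact orderOf_dvd_of_mem_zpowers (Subgroup.zpow_mem_zpowers _ _)
    rw [hk, h2] at h3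
    have := Nat.le_of_dvd (Nat.div_pos (Nat.le_of_dvd (by positivity) (dvd_pow_self 2 h1)) two_pos) h3
    have : 2 ^ k / 2 < 2 ^ k := Nat.div_lt_self (by positivity) one_lt_two
    omega
  exact Subgroup.mem_iInf.2 fun M => Subgroup.mem_iInf.2 fun hM => this M hM

section

variable {G : Type u} [Group G] [Fintype G]

/-- Sign characters multiply with irreducible ones. -/
noncomputable def twist (l : (G ⧸ frattini G) →* ℂˣ) (χ : IrrCharacter G) : IrrCharacter G :=
  ⟨fun g => ((l.comp (QuotientGroup.mk' (frattini G))) g : ℂ) * (χ : G → ℂ) g,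
    CfsgLib.Char.isIrrCharacter_mul_linear χ.2 _⟩

theorem sq_eq_one (hG : IsPGroup 2 G) (l : (G ⧸ frattini G) →* ℂˣ) (g : G) :
    (l (g : G ⧸ frattini G) : ℂ) * (l (g : G ⧸ frattini G) : ℂ) = 1 := by
  rw [← Units.val_mul, ← map_mul, ← pow_two, ← QuotientGroup.mk_pow,
    (QuotientGroup.eq_one_iff _).2 (sq_mem_frattini hG g), map_one, Units.val_one]

theorem classInner_twist (hG : IsPGroup 2 G) (l : (G ⧸ frattini G) →* ℂˣ) (χ : IrrCharacter G) :
    classInner (CfsgLib.StructB.sqrtCount G) (twist l χ : G → ℂ) =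
      classInner (CfsgLib.StructB.sqrtCount G) (χ : G → ℂ) := by
  rw [classInner, classInner]
  congr 1
  rw [CfsgLib.StructB.sum_sqrtCount_mul (fun g => conj ((twist l χ : G → ℂ) g)),
    CfsgLib.StructB.sum_sqrtCount_mul (fun g => conj ((χ : G → ℂ) g))]
  refine Finset.sum_congr rfl fun x _ => ?_
  congr 1
  show ((l.comp (QuotientGroup.mk' (frattini G))) (x ^ 2) : ℂ) * _ = _
  rw [MonoidHom.comp_apply, QuotientGroup.mk'_apply, QuotientGroup.mk_pow, map_pow, Units.val_pow_eq_pow_val,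
    pow_two (l _ : ℂ), sq_eq_one hG, one_mul]

/-- The stabiliser of a character has order at most the square of its degree. -/
theorem card_le_sq (hG : IsPGroup 2 G) [Finite ((G ⧸ frattini G) →* ℂˣ)]
    (χ : IrrCharacter G) (d : ℕ) (hd : (χ : G → ℂ) 1 = d) :
    Nat.card {l : (G ⧸ frattini G) →* ℂˣ // twist l χ = χ} ≤ d ^ 2 := by
  classical
  have := Fintype.ofFinite (IrrCharacter G)
  set S := {l : (G ⧸ frattini G) →* ℂˣ // twist l χ = χ}
  have : Fintype S := Fintype.ofFinite S
  let ψ : G → ℂ := fun g => (χ : G → ℂ) g * conj ((χ : G → ℂ) g)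
  have hψ : IsCharacter G ψ :=
    CfsgLib.Char.isCharacter_mul (CfsgLib.Char.irr_isCharacter χ.2)
      (CfsgLib.Char.isCharacter_conj (CfsgLib.Char.irr_isCharacter χ.2))
  have hexp := CfsgLib.Char.classFunction_apply_eq_sum (CfsgLib.Char.isCharacter_isClassFunction hψ) 1
  choose c hc using fun η : IrrCharacter G =>
    CfsgLib.Char.classInner_isCharacter_nat hψ (CfsgLib.Char.irr_isCharacter η.2)
  choose e he0 he using fun η : IrrCharacter G => CfsgLib.Char.irr_apply_one_pos η.2
  let F : S → IrrCharacter G := fun l =>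
    ⟨fun g => ((l.1.comp (QuotientGroup.mk' (frattini G))) g : ℂ), CfsgLib.Char.isIrrCharacter_linear _⟩
  have hFinj : Function.Injective F := by
    intro a b hab
    refine Subtype.ext (MonoidHom.ext fun x => ?_)
    obtain ⟨g, rfl⟩ := QuotientGroup.mk'_surjective (frattini G) x
    exact Units.ext (congrFun (congrArg Subtype.val hab) g)
  have hmain : (d ^ 2 : ℕ) = ∑ η : IrrCharacter G, c η * e η := by
    apply Nat.cast_injective (R := ℂ)
    push_cast
    simp only [← hc, ← he, ← hexp]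
    show (d : ℂ) ^ 2 = (χ : G → ℂ) 1 * conj ((χ : G → ℂ) 1)
    rw [hd, Complex.conj_natCast, pow_two]
  rw [hmain, Nat.card_eq_fintype_card, ← Finset.card_univ,
    ← Finset.card_image_of_injective _ hFinj, Finset.card_eq_sum_ones]
  refine (Finset.sum_le_sum fun η hη => ?_).trans
    (Finset.sum_le_sum_of_subset (Finset.subset_univ _))
  obtain ⟨l, -, rfl⟩ := Finset.mem_image.1 hη
  have h1 : (c (F l) : ℂ) = 1 := by
    rw [← hc, classInner]
    have h2 : ∀ g : G, ψ g * conj (((F l : IrrCharacter G) : G → ℂ) g) =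
        ((twist l.1 χ : IrrCharacter G) : G → ℂ) g * conj ((χ : G → ℂ) g) := by
      intro g
      show (χ : G → ℂ) g * conj ((χ : G → ℂ) g) * conj ((l.1 (g : G ⧸ frattini G) : ℂ)) =
        (l.1 (g : G ⧸ frattini G) : ℂ) * (χ : G → ℂ) g * conj ((χ : G → ℂ) g)
      have hr : conj ((l.1 (g : G ⧸ frattini G) : ℂ)) = (l.1 (g : G ⧸ frattini G) : ℂ) := by
        rcases mul_self_eq_one_iff.1 (sq_eq_one hG l.1 g) with h | h <;> simp [h]
      rw [hr]; ring
    simp only [h2]
    rw [l.2]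
    exact CfsgLib.Char.irr_classInner_self χ.2
  have h1' : c (F l) = 1 := by exact_mod_cast h1
  rw [h1', one_mul]
  exact he0 _

theorem main (hG : IsPGroup 2 G) (k : ℕ) (hgen : 2 ^ (2 * k + 1) ≤ Nat.card (G ⧸ frattini G)) :
    2 ^ (k + 1) ∣ Nat.card {x : G // x ^ 2 = 1} := by
  classical
  haveI : Fact (Nat.Prime 2) := ⟨Nat.prime_two⟩
  have hsq : ∀ x : G ⧸ frattini G, x * x = 1 := fun x => by
    obtain ⟨g, rfl⟩ := QuotientGroup.mk'_surjective (frattini G) x
    rw [← pow_two, ← map_pow, QuotientGroup.mk'_apply, QuotientGroup.eq_one_iff]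
    exact sq_mem_frattini hG g
  letI : CommGroup (G ⧸ frattini G) :=
    { (inferInstance : Group (G ⧸ frattini G)) with
      mul_comm := fun x y => by
        have h1 : x⁻¹ = x := inv_eq_of_mul_eq_one_right (hsq x)
        have h2 : y⁻¹ = y := inv_eq_of_mul_eq_one_right (hsq y)
        have h3 : (x * y)⁻¹ = x * y := inv_eq_of_mul_eq_one_right (hsq (x * y))
        rw [← h3, mul_inv_rev, h1, h2] }
  haveI : NeZero (Monoid.exponent (G ⧸ frattini G) : ℕ) :=
    NeZero.of_pos (Nat.pos_of_ne_zero (Monoid.exponent_ne_zero.2 ⟨2, two_pos, fun x => by rw [pow_two]; exact hsq x⟩))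
  set L := (G ⧸ frattini G) →* ℂˣ
  have hLc : Nat.card L = Nat.card (G ⧸ frattini G) :=
    CommGroup.card_monoidHom_of_hasEnoughRootsOfUnity (G ⧸ frattini G) ℂ
  haveI : Finite L := Nat.finite_of_card_ne_zero (by rw [hLc]; exact Nat.card_pos.ne')
  have := Fintype.ofFinite (IrrCharacter G)
  obtain ⟨d, hd⟩ := IsPGroup.iff_card.1 (hG.to_quotient (frattini G))
  have hk : 2 * k + 1 ≤ d := (Nat.pow_le_pow_iff_right one_lt_two).1 (hd ▸ hgen)
  let _ : MulAction L (IrrCharacter G) :=
    { smul := fun l χ => twist l χ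
      one_smul := fun χ => Subtype.ext (funext fun g => by
        show ((1 : L).comp (QuotientGroup.mk' (frattini G)) g : ℂ) * _ = _
        simp)
      mul_smul := fun a b χ => Subtype.ext (funext fun g => by
        show ((a * b : L).comp (QuotientGroup.mk' (frattini G)) g : ℂ) * (χ : G → ℂ) g =
          (a.comp (QuotientGroup.mk' (frattini G)) g : ℂ) * ((b.comp (QuotientGroup.mk' (frattini G)) g : ℂ) * (χ : G → ℂ) g)
        simp only [MonoidHom.comp_apply]
        erw [MonoidHom.mul_apply, Units.val_mul, mul_assoc]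
        ) }
  let T : IrrCharacter G → ℂ := fun χ =>
    classInner (CfsgLib.StructB.sqrtCount G) (χ : G → ℂ) * (χ : G → ℂ) 1
  have hT : ∀ (l : L) (χ : IrrCharacter G), T (l • χ) = T χ := by
    intro l χ
    show classInner _ ((twist l χ : IrrCharacter G) : G → ℂ) * ((l.comp (QuotientGroup.mk' (frattini G))) 1 * (χ : G → ℂ) 1) = _
    rw [classInner_twist hG, map_one, Units.val_one, one_mul]
  have hsum := CfsgLib.Char.classFunction_apply_eq_sum (G := G)
    CfsgLib.StructB.sqrtCount_isClassFunction 1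
  have hfib : ∀ χ : IrrCharacter G, ∃ z : ℤ,
      (Nat.card (MulAction.orbit L χ) : ℂ) * T χ = (2 : ℂ) ^ (k + 1) * z := by
    intro χ
    obtain ⟨z, hz⟩ := CfsgLib.StructB.exists_int_classInner_sqrtCount (CfsgLib.Char.irr_isCharacter χ.2)
    obtain ⟨n, ρ, hρ, hρχ⟩ := χ.2
    obtain ⟨m, hm⟩ := IsPGroup.iff_card.1 hG
    obtain ⟨a, -, ha⟩ := (Nat.dvd_prime_pow Nat.prime_two).1 (hm ▸ CfsgLib.Char.degree_dvd_card ρ)
    have hdeg : (χ : G → ℂ) 1 = ((2 ^ a : ℕ) : ℂ) := by rw [← hρχ, ρ.char_one, ha]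
    have horb : Nat.card (MulAction.orbit L χ) * Nat.card (MulAction.stabilizer L χ) = 2 ^ d := by
      rw [Nat.card_congr (MulAction.orbitEquivQuotientStabilizer L χ), ← Subgroup.index_eq_card,
        Subgroup.index_mul_card, hLc, hd]
    obtain ⟨o, -, ho⟩ := (Nat.dvd_prime_pow Nat.prime_two).1 (Dvd.intro _ horb)
    obtain ⟨l, -, hl⟩ := (Nat.dvd_prime_pow Nat.prime_two).1 (Dvd.intro_left _ horb)
    have hsum' : o + l = d := Nat.pow_right_injective le_rfl
      (show 2 ^ (o + l) = 2 ^ d by rw [pow_add, ← ho, ← hl, horb])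
    have hl2 : l ≤ 2 * a := by
      refine (Nat.pow_le_pow_iff_right one_lt_two).1 ?_
      rw [← hl]
      refine le_trans (le_of_eq ?_) ((card_le_sq hG χ (2 ^ a) hdeg).trans (le_of_eq (by ring)))
      exact Nat.card_congr (Equiv.subtypeEquivRight fun x => Iff.rfl)
    obtain ⟨r, hr⟩ := Nat.exists_eq_add_of_le (show k + 1 ≤ o + a by omega)
    refine ⟨2 ^ r * z, ?_⟩
    simp only [T]
    rw [hz, hdeg, ho]
    push_cast
    rw [mul_left_comm, ← pow_add, hr, pow_add]
    ring
  choose z hz using hfib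
  have hdiv : ∃ Z : ℤ, (Nat.card {x : G // x ^ 2 = 1} : ℂ) = (2 : ℂ) ^ (k + 1) * Z := by
    let π : IrrCharacter G → MulAction.orbitRel.Quotient L (IrrCharacter G) := Quotient.mk''
    have : Fintype (MulAction.orbitRel.Quotient L (IrrCharacter G)) := Fintype.ofFinite _
    refine ⟨∑ o : MulAction.orbitRel.Quotient L (IrrCharacter G), z o.out, ?_⟩
    push_cast
    rw [Finset.mul_sum]
    refine hsum.trans ?_
    rw [← Finset.sum_fiberwise Finset.univ π]
    refine Finset.sum_congr rfl fun o _ => ?_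
    rw [← hz o.out]
    have hval : ∀ χ ∈ Finset.univ.filter (fun x => π x = o), T χ = T o.out := by
      intro χ hχ
      rw [Finset.mem_filter] at hχ
      obtain ⟨l, hl⟩ : χ ∈ MulAction.orbit L o.out :=
        Quotient.exact' (hχ.2.trans (Quotient.out_eq' o).symm)
      rw [← hl, hT]
    refine (Finset.sum_congr rfl hval).trans ?_
    rw [Finset.sum_const, nsmul_eq_mul]
    congr 2
    rw [← Fintype.card_subtype, ← Nat.card_eq_fintype_card]
    refine Nat.card_congr (Equiv.subtypeEquivRight fun χ => ⟨fun h => ?_, fun h => ?_⟩)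
    · exact Quotient.exact' (h.trans (Quotient.out_eq' o).symm)
    · exact (Quotient.sound' h).trans (Quotient.out_eq' o)
  obtain ⟨Z, hZ⟩ := hdiv
  refine Int.natCast_dvd_natCast.1 ⟨Z, ?_⟩
  have : ((Nat.card {x : G // x ^ 2 = 1} : ℤ) : ℂ) = (((2 ^ (k + 1) : ℕ) : ℤ) * Z : ℤ) := by
    push_cast; exact hZ
  exact_mod_cast this

end

/-- In a 2-group with at least 2k+1 generators the number of solutions of x² = 1 is divisible by 2^(k+1). -/
theorem result {G : Type*} [Group G] [Finite G] (hG : IsPGroup 2 G) (k : ℕ)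
    (hgen : 2 ^ (2 * k + 1) ≤ Nat.card (G ⧸ frattini G)) :
    2 ^ (k + 1) ∣ Nat.card {x : G // x ^ 2 = 1} := by
  have := Fintype.ofFinite G
  exact main hG k hgen

end Cfsg.Agent.S4058
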