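import Cfsg.Statements.S0998
import Cfsg.Agent.Lib.Block.BrauerTuanTheorem
import Cfsg.Agent.Lib.ClassK.SmallSimple
import Cfsg.Agent.Lib.Classical.PSLTwoMaximal

set_option autoImplicit false
open Cfsg

namespace Cfsg.Agent.S0998

/-- A non-cyclic finite simple group whose order has the form p * r * q^b for distinct primes p, q, r is isomorphic to the projective special linear group of dimension 2 over the field with 5 or with 7 elements. -/
theorem result {G : Type*} [Group G] [Finite G] [IsSimpleGroup G] (hG : ¬ IsCyclic G) (p q r b : ℕ) (hp : p.Prime) (hq : q.Prime) (hr : r.Prime) (hpq : p ≠ q) (hpr : p ≠ r) (hqr : q ≠ r) (hG' : Nat.card G = p * r * q ^ b) : (∃ (F : Type) (_ : Field F) (_ : Fintype F), Fintype.card F = 5 ∧ Nonempty (G ≃* Matrix.ProjectiveSpecialLinearGroup (Fin 2) F)) ∨ (∃ (F : Type) (_ : Field F) (_ : Fintype F), Fintype.card F = 7 ∧ Nonempty (G ≃* Matrix.ProjectiveSpecialLinearGroup (Fin 2) F)) := by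
  wlog hlt : r < p generalizing p r
  · exact this r p hr hp hqr.symm hpr.symm hpq.symm (by rw [hG']; ring) (by omega)
  have hr2 := hr.two_le
  by_cases hg : r < p - 1
  · rcases CfsgLib.Block.BrauerTuan.main hG hp hq hpq (b := b) (g₀ := r) (by rw [hG']; ring) hg
      (fun h => hqr ((Nat.prime_dvd_prime_iff_eq hq hr).1 h)) with
      ⟨F, iF, iF', hF, hp5, hq2, hs, hψ⟩ | ⟨m, F, iF, iF', hF, hpm, hp3, ⟨ψ⟩⟩
    · have hrodd : r % 2 = 1 := (Nat.Prime.eq_two_or_odd hr).resolve_left (fun h => hqr (by omega))
      rcases hs with ⟨h1, h2⟩ | ⟨h1, h2⟩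
      · -- `p = 2^b - 1`, `r = 2^(b-1) - 1`
        have hb : b = 3 := by
          obtain ⟨c, rfl⟩ : ∃ c, b = c + 1 := ⟨b - 1, by
            rcases b with _ | c
            · rw [pow_zero] at h1; omega
            · omega⟩
          rw [pow_succ] at h1
          have hbp : (c + 1).Prime := Nat.Prime.of_mersenne (show (2 ^ (c + 1) - 1).Prime by
            rw [pow_succ, show 2 ^ c * 2 - 1 = p by omega]; exact hp)
          have hcp : c.Prime := Nat.Prime.of_mersenne (show (2 ^ c - 1).Prime by
            rw [show 2 ^ c - 1 = r by omega]; exact hr)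
          rcases hcp.eq_two_or_odd with h | h
          · omega
          · rcases hbp.eq_two_or_odd with h' | h'
            · have : c = 1 := by omega
              subst this; exact absurd hcp Nat.not_prime_one
            · omega
        subst hb
        exact Or.inr ⟨F, iF, iF', by rw [hF]; norm_num at h1; omega, hψ⟩
      · -- `p = 2^b + 1`, `r = 2^(b-1) + 1`
        have hb : b = 2 := by
          obtain ⟨c, rfl⟩ : ∃ c, b = c + 1 := ⟨b - 1, by
            rcases b with _ | c
            · rw [pow_zero] at h1; omega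
            · omega⟩
          rw [pow_succ] at h1
          have hc0 : c ≠ 0 := fun h => by subst h; simp at h1; omega
          obtain ⟨i, hi⟩ := Nat.pow_of_pow_add_prime (a := 2) (n := c + 1) (by norm_num) (by omega)
            (by rw [pow_succ, show 2 ^ c * 2 + 1 = p by omega]; exact hp)
          obtain ⟨j, hj⟩ := Nat.pow_of_pow_add_prime (a := 2) (n := c) (by norm_num) hc0
            (by rw [show 2 ^ c + 1 = r by omega]; exact hr)
          rcases Nat.eq_zero_or_pos j with h | h
          · rw [h, pow_zero] at hj; omega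
          · have e1 : 2 ∣ 2 ^ j := dvd_pow_self 2 (by omega)
            rcases Nat.eq_zero_or_pos i with h' | h'
            · rw [h', pow_zero] at hi; omega
            · have e2 : 2 ∣ 2 ^ i := dvd_pow_self 2 (by omega)
              omega
        subst hb
        exact Or.inl ⟨F, iF, iF', by rw [hF]; norm_num at h1; omega, hψ⟩
    · -- `PSL(2, 2^m)` has two prime factors besides `p` only for `m = 2`
      have h3 := CfsgLib.Classical.card_psl_two_mul (F := F)
      have hm0 : m ≠ 0 := fun h => by rw [h, pow_zero] at hpm; omega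
      have hev : 2 ∣ 2 ^ m := dvd_pow_self 2 hm0
      have hg1 : Nat.gcd 2 (2 ^ m - 1) = 1 :=
        (Nat.prime_two.coprime_iff_not_dvd).2 (by omega)
      rw [hF, hg1, one_mul, ← Nat.card_congr ψ.toEquiv, hG'] at h3
      have h4 : r * q ^ b = 2 ^ m * (2 ^ m - 1) := by
        refine Nat.eq_of_mul_eq_mul_left hp.pos ?_
        rw [← mul_assoc, h3, hpm, show (2 ^ m) ^ 2 - 1 = (2 ^ m + 1) * (2 ^ m - 1) by
          rw [← Nat.sq_sub_sq, one_pow]]
        ring
      have hrne : r ≠ 2 := by
        intro hr'
        subst hr'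
        have h5 : ¬ 2 ∣ q ^ b := fun h => hqr ((Nat.prime_dvd_prime_iff_eq Nat.prime_two hq).1
          (Nat.prime_two.dvd_of_dvd_pow h)).symm
        obtain ⟨c, rfl⟩ : ∃ c, m = c + 1 := ⟨m - 1, by omega⟩
        rw [pow_succ] at h4 hpm
        rcases Nat.eq_zero_or_pos c with hc | hc
        · subst hc; omega
        · refine h5 ⟨2 ^ (c - 1) * (2 ^ c * 2 - 1), ?_⟩
          have : 2 ^ c = 2 * 2 ^ (c - 1) := by rw [← pow_succ', Nat.sub_add_cancel hc]
          refine Nat.eq_of_mul_eq_mul_left (show 0 < 2 by norm_num) ?_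
          rw [h4]
          rw [this]; ring
      have hq2 : q = 2 := by
        have h6 : 2 ∣ r * q ^ b := h4 ▸ hev.mul_right _
        rcases (Nat.Prime.dvd_mul Nat.prime_two).1 h6 with h | h
        · exact absurd ((Nat.prime_dvd_prime_iff_eq Nat.prime_two hr).1 h).symm hrne
        · exact ((Nat.prime_dvd_prime_iff_eq Nat.prime_two hq).1 (Nat.prime_two.dvd_of_dvd_pow h)).symm
      subst hq2
      have hdvd : 2 ^ m - 1 ∣ r := by
        have hco : (2 ^ m - 1).Coprime (2 ^ b) :=
          (((Nat.prime_two.coprime_iff_not_dvd).2 (show ¬ 2 ∣ 2 ^ m - 1 by omega)).symm).pow_right b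
        exact hco.dvd_of_dvd_mul_right ⟨2 ^ m, by rw [h4, mul_comm]⟩
      have hm2 : 2 ≤ m := by
        by_contra hlt'
        have : m = 1 := by omega
        subst this; norm_num at hpm; omega
      have hm : m = 2 := by
        rcases (Nat.dvd_prime hr).1 hdvd with h | h
        · have : 2 ^ 2 ≤ 2 ^ m := Nat.pow_le_pow_right (by norm_num) hm2
          omega
        · have hmp : m.Prime := Nat.Prime.of_mersenne (show (2 ^ m - 1).Prime by rw [h]; exact hr)
          obtain ⟨i, hi⟩ := Nat.pow_of_pow_add_prime (a := 2) (n := m) (by norm_num) hm0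
            (hpm ▸ hp)
          rcases hmp.eq_two_or_odd with h' | h'
          · exact h'
          · rcases Nat.eq_zero_or_pos i with h'' | h''
            · rw [h'', pow_zero] at hi; omega
            · have : 2 ∣ 2 ^ i := dvd_pow_self 2 (by omega)
              omega
      subst hm
      haveI : Fact (Nat.Prime 5) := ⟨by norm_num⟩
      refine Or.inl ⟨ZMod 5, inferInstance, inferInstance, ZMod.card 5, ?_⟩
      haveI : IsSimpleGroup (Matrix.ProjectiveSpecialLinearGroup (Fin 2) (ZMod 5)) :=
        CfsgLib.ClassK.isSimpleGroup_psl_two (by rw [ZMod.card]; norm_num)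
      exact CfsgLib.ClassK.nonempty_equiv_sixty
        (by rw [Nat.card_congr ψ.toEquiv]; exact CfsgLib.Classical.card_psl_two_four (Or.inl (by rw [hF]; norm_num)))
        (CfsgLib.Classical.card_psl_two_four (Or.inr (ZMod.card 5)))
  · exfalso
    have hrp : r + 1 = p := by omega
    have hr' : r = 2 := by
      rcases hr.eq_two_or_odd with h | h
      · exact h
      · rcases hp.eq_two_or_odd with h' | h'
        · omega
        · omega
    subst hr'
    obtain rfl : p = 3 := hrp.symm
    have h4 := CfsgLib.Block.BrauerTuan.four_dvd_of_two_dvd hG ⟨3 * q ^ b, by rw [hG']; ring⟩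
    rw [hG', show (4 : ℕ) = 2 * 2 by norm_num, show 3 * 2 * q ^ b = 2 * (3 * q ^ b) by ring] at h4
    have h5 := Nat.dvd_of_mul_dvd_mul_left (by norm_num) h4
    rcases (Nat.Prime.dvd_mul Nat.prime_two).1 h5 with h | h
    · omega
    · exact hqr ((Nat.prime_dvd_prime_iff_eq Nat.prime_two hq).1 (Nat.prime_two.dvd_of_dvd_pow h)).symm

end Cfsg.Agent.S0998
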