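import Cfsg.Statements.S1631
import Cfsg.Agent.Lib.Trans3.BraidClass
import Cfsg.Agent.Lib.MaxSub.HermPerp

set_option autoImplicit false
open scoped MatrixGroups
open Cfsg

namespace Cfsg.Agent.S1631


open Matrix CfsgLib.MaxSub

section
variable {F : Type} [Field F] [Fintype F] {n : ℕ} (hF : Fintype.card F = 4)
include hF

theorem hF' : Fintype.card F = 2 ^ 2 := by rw [hF]; norm_num

theorem two_zero : (2 : F) = 0 := by
  have h := FiniteField.cast_card_eq_zero F
  rw [hF] at h
  have h4 : (4 : F) = 0 := by exact_mod_cast h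
  exact (mul_eq_zero.1 (show (2 : F) * 2 = 0 by linear_combination h4)).elim id id

/-- a fixed element of the quadratic field over two elements -/
theorem fixed_cases {a : F} (h : qConj (hF' hF) a = a) : a = 0 ∨ a = 1 := by
  rw [qConj_apply] at h
  rcases eq_or_ne a 0 with ha | ha
  · exact Or.inl ha
  · exact Or.inr (mul_left_cancel₀ ha (by rw [mul_one]; linear_combination h))

theorem conj_inv {a : F} (ha : a ≠ 0) : qConj (hF' hF) a * a = 1 := by
  have h := FiniteField.pow_card_sub_one_eq_one a ha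
  rw [hF] at h
  rw [qConj_apply, ← h]; ring

theorem isU : Cfsg.Geo.IsUnitaryForm (qConj (hF' hF)) (Cfsg.hermForm n F 2) :=
  isUnitaryForm_hermForm (hF' hF) n

theorem add_self' (v : Fin n → F) : v + v = 0 := by
  funext i
  show v i + v i = 0
  linear_combination (v i) * two_zero hF

end

variable {F : Type} [Field F] {n : ℕ}

/-- the action on vectors -/
abbrev act (A : ↥(Cfsg.SU n F 2)) (x : Fin n → F) : Fin n → F :=
  ((A : Matrix.SpecialLinearGroup (Fin n) F) : Matrix (Fin n) (Fin n) F) *ᵥ x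

theorem su_ext {A B : ↥(Cfsg.SU n F 2)} (h : ∀ x, act A x = act B x) : A = B :=
  Subtype.ext (Subtype.ext (Matrix.ext_iff_mulVec.2 h))

theorem act_mul (A B : ↥(Cfsg.SU n F 2)) (x : Fin n → F) : act (A * B) x = act A (act B x) := by
  simp [act, mulVec_mulVec]

/-- `A` is the transvection of `v` -/
def IsTr (A : ↥(Cfsg.SU n F 2)) (v : Fin n → F) : Prop :=
  v ≠ 0 ∧ Cfsg.hermForm n F 2 v v = 0 ∧ ∀ x, act A x = x + Cfsg.hermForm n F 2 x v • v

theorem exists_tr [Fintype F] (hF : Fintype.card F = 4) {v : Fin n → F} (hv0 : v ≠ 0)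
    (hv : Cfsg.hermForm n F 2 v v = 0) : ∃ A, IsTr A v := by
  classical
  let σ := qConj (hF' hF)
  have hf := isU (n := n) hF
  have hd : Matrix.det (tvMat v ((1 : F) • hDual (Cfsg.hermForm n F 2) v)) = 1 := by
    have h : ((1 : F) • hDual (Cfsg.hermForm n F 2) v) ⬝ᵥ v = 0 := by
      rw [one_smul, hDual_dot hf, hv]
    exact det_tvMat _ _ h
  have hc : (1 : F) + σ 1 = 0 := by rw [map_one]; linear_combination two_zero hF
  refine ⟨⟨⟨_, hd⟩, fun x y => uTv_isometry hf hv hc x y⟩, hv0, hv, fun x => ?_⟩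
  show tvMat v _ *ᵥ x = _
  rw [uTv_mulVec hf, one_mul]

variable [Fintype F] (hF : Fintype.card F = 4)
include hF

theorem rank_iff (A : ↥(Cfsg.SU n F 2)) :
    (((A : Matrix.SpecialLinearGroup (Fin n) F) : Matrix (Fin n) (Fin n) F) - 1).rank = 1 ↔
      ∃ v, IsTr A v := by
  have hf := isU (n := n) hF
  constructor
  · intro h
    obtain ⟨w, c, x₀, hw, hc, hA⟩ := CfsgLib.Trans3.exists_of_rank_sub_one h
    have hcw : c w = 0 := by
      have h1 : Matrix.toLin' ((A : Matrix.SpecialLinearGroup (Fin n) F) : Matrix (Fin n) (Fin n) F) =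
          LinearMap.id + c.smulRight w := LinearMap.ext fun x => by
        rw [Matrix.toLin'_apply, hA]; rfl
      have h2 := congrArg LinearMap.det h1
      rw [LinearMap.det_toLin', CfsgLib.Classical.det_id_add_smulRight,
        Matrix.SpecialLinearGroup.det_coe] at h2
      exact add_left_cancel (h2.symm.trans (add_zero 1).symm)
    have key : ∀ x y, c x * Cfsg.hermForm n F 2 w y + qConj (hF' hF) (c y) * Cfsg.hermForm n F 2 x w +
        c x * qConj (hF' hF) (c y) * Cfsg.hermForm n F 2 w w = 0 := fun x y => by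
      have h1 : Cfsg.hermForm n F 2 (x + c x • w) (y + c y • w) = Cfsg.hermForm n F 2 x y := by
        rw [← hA, ← hA]; exact A.2 x y
      rw [hf.add_left, hf.smul_left, herm_add_right hf, herm_add_right hf, herm_smul_right hf,
        herm_smul_right hf] at h1
      linear_combination h1
    have hww : Cfsg.hermForm n F 2 w w = 0 := by
      simpa [hc, hcw] using key x₀ w
    have hb : ∀ y, Cfsg.hermForm n F 2 y w = c y * Cfsg.hermForm n F 2 w x₀ := fun y => by
      have h1 := key y x₀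
      rw [hc, map_one, hww] at h1
      linear_combination h1 - (c y * Cfsg.hermForm n F 2 w x₀) * two_zero hF
    have hwx : Cfsg.hermForm n F 2 w x₀ ≠ 0 := fun e => by
      obtain ⟨z, hz⟩ := (hf.nondegenerate w hw).1
      exact hz (by rw [hb z, e, mul_zero])
    have h1 : Cfsg.hermForm n F 2 w x₀ = 1 := by
      refine (fixed_cases hF ?_).resolve_left hwx
      rw [← hf.herm x₀ w, hb, hc, one_mul]
    exact ⟨w, hw, hww, fun x => by rw [hb, h1, mul_one]; exact hA x⟩
  · rintro ⟨v, hv, hvv, hA⟩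
    obtain ⟨z, hz⟩ := (hf.nondegenerate v hv).1
    exact CfsgLib.Trans3.rank_sub_one_of (fun x => Cfsg.hermForm n F 2 x v) hv
      (x₀ := (Cfsg.hermForm n F 2 z v)⁻¹ • z)
      (by show Cfsg.hermForm n F 2 (_ • z) v = 1; rw [hf.smul_left, inv_mul_cancel₀ hz]) hA

theorem tr_comm_or_braid {A B : ↥(Cfsg.SU n F 2)} {v w : Fin n → F} (hA : IsTr A v) (hB : IsTr B w) :
    (Cfsg.hermForm n F 2 v w = 0 → A * B = B * A) ∧
      (Cfsg.hermForm n F 2 v w ≠ 0 → A * B * A = B * A * B) := by
  have hf := isU (n := n) hF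
  obtain ⟨-, hvv, hA⟩ := hA
  obtain ⟨-, hww, hB⟩ := hB
  have h2 := two_zero hF
  constructor
  · intro h
    refine su_ext fun x => ?_
    simp only [act_mul, hA, hB, hf.add_left, hf.smul_left, h, herm_eq_zero_comm hf h, mul_zero,
      add_zero]
    abel
  · intro h
    have hN : Cfsg.hermForm n F 2 v w * Cfsg.hermForm n F 2 w v = 1 := by
      rw [hf.herm w v, mul_comm]; exact conj_inv hF h
    refine su_ext fun x => ?_
    simp only [act_mul, hA, hB, hf.add_left, hf.smul_left, hvv, hww, mul_zero, add_zero]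
    match_scalars
    · ring
    · linear_combination (Cfsg.hermForm n F 2 x v) * hN + (Cfsg.hermForm n F 2 x v) * h2
    · linear_combination -(Cfsg.hermForm n F 2 x w) * hN - (Cfsg.hermForm n F 2 x w) * h2

theorem tr_sq {A : ↥(Cfsg.SU n F 2)} {v : Fin n → F} (hA : IsTr A v) : A * A = 1 ∧ A ≠ 1 := by
  have hf := isU (n := n) hF
  obtain ⟨hv, hvv, hA⟩ := hA
  refine ⟨su_ext fun x => ?_, fun e => ?_⟩
  · rw [act_mul, hA, hA, hf.add_left, hf.smul_left, hvv, mul_zero, add_zero, add_assoc,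
      add_self' hF, add_zero]
    simp [act]
  · obtain ⟨z, hz⟩ := (hf.nondegenerate v hv).1
    have := hA z
    rw [e] at this
    simp [act, hv, hz] at this

theorem exists_middle {v w : Fin n → F} (hv : v ≠ 0) (hw : w ≠ 0) (hvv : Cfsg.hermForm n F 2 v v = 0)
    (hvw : Cfsg.hermForm n F 2 v w = 0) : ∃ z, z ≠ 0 ∧ Cfsg.hermForm n F 2 z z = 0 ∧
      Cfsg.hermForm n F 2 z v ≠ 0 ∧ Cfsg.hermForm n F 2 z w ≠ 0 := by
  have hf := isU (n := n) hF
  obtain ⟨a, ha⟩ := (hf.nondegenerate v hv).1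
  obtain ⟨b, hb⟩ := (hf.nondegenerate w hw).1
  obtain ⟨x, hxv, hxw⟩ : ∃ x, Cfsg.hermForm n F 2 x v ≠ 0 ∧ Cfsg.hermForm n F 2 x w ≠ 0 := by
    by_cases h1 : Cfsg.hermForm n F 2 a w = 0
    · by_cases h2 : Cfsg.hermForm n F 2 b v = 0
      · exact ⟨a + b, by rw [hf.add_left, h2, add_zero]; exact ha,
          by rw [hf.add_left, h1, zero_add]; exact hb⟩
      · exact ⟨b, h2, hb⟩
    · exact ⟨a, ha, h1⟩
  obtain ⟨t, ht⟩ := exists_shift hf hvv hxv
  have e : Cfsg.hermForm n F 2 (x + t • v) v = Cfsg.hermForm n F 2 x v := by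
    rw [hf.add_left, hf.smul_left, hvv, mul_zero, add_zero]
  refine ⟨x + t • v, fun h => hxv ?_, ht, by rwa [e],
    by rwa [hf.add_left, hf.smul_left, hvw, mul_zero, add_zero]⟩
  rw [← e, h, herm_zero_left hf]

theorem exists_iso (hn : 2 ≤ n) : ∃ v : Fin n → F, v ≠ 0 ∧ Cfsg.hermForm n F 2 v v = 0 := by
  obtain ⟨v, -, h1, h2⟩ := exists_isotropic (isU (n := n) hF) (U := ⊤) (by simpa using hn)
  exact ⟨v, h1, h2⟩

theorem closure_tr (hn : 4 ≤ n) : Subgroup.closure {A : ↥(Cfsg.SU n F 2) | ∃ v, IsTr A v} = ⊤ := by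
  have hf := isU (n := n) hF
  rw [eq_top_iff, ← CfsgLib.Classical.closure_transvections_eq_top (hF' hF) (n := n) (by omega)
    (by omega), Subgroup.closure_le]
  rintro A ⟨v, c, hvv, hA⟩
  have hact : ∀ x, act A x = x + (c * Cfsg.hermForm n F 2 x v) • v := fun x => by
    show _ *ᵥ x = _
    rw [hA, Cfsg.unitaryTransvection, add_mulVec, one_mulVec, smul_mulVec, vecMulVec_mulVec]
    congr 1
    funext i
    simp [Cfsg.hermForm, dotProduct, mul_assoc, mul_comm, mul_left_comm]
  by_cases h0 : v = 0 ∨ c = 0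
  · have : A = 1 := su_ext fun x => by rcases h0 with rfl | rfl <;> simp [hact, act]
    rw [this]; exact one_mem _
  push Not at h0
  obtain ⟨z, hz⟩ := (hf.nondegenerate v h0.1).1
  have hcc : c + qConj (hF' hF) c = 0 := by
    have hp : Cfsg.hermForm n F 2 (act A z) (act A z) = Cfsg.hermForm n F 2 z z := A.2 z z
    rw [hact, hf.add_left, hf.smul_left, herm_add_right hf, herm_add_right hf, herm_smul_right hf,
      herm_smul_right hf, hvv, map_mul, ← hf.herm v z] at hp
    have hvz : Cfsg.hermForm n F 2 v z ≠ 0 := fun e => hz (herm_eq_zero_comm hf e)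
    refine (mul_eq_zero.1 ?_).resolve_right (mul_ne_zero hz hvz)
    linear_combination hp
  have hc1 : c = 1 := (fixed_cases hF (by linear_combination hcc - c * two_zero hF)).resolve_left h0.2
  exact Subgroup.subset_closure ⟨v, h0.1, hvv, fun x => by rw [hact, hc1, one_mul]⟩

omit hF


/-- The unitary transvections of SU(n, 2), n ≥ 4, form a generating conjugacy class of 3-transpositions. -/
theorem result (F : Type) [Field F] [Fintype F] [DecidableEq F] (hF : Fintype.card F = 4) (n : ℕ) (hn : 4 ≤ n) : Cfsg.IsThreeTranspositionClass {g : ↥(Cfsg.SU n F 2) | (((g : Matrix.SpecialLinearGroup (Fin n) F) : Matrix (Fin n) (Fin n) F) - 1).rank = 1} := by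
  have hD : {g : ↥(Cfsg.SU n F 2) | (((g : Matrix.SpecialLinearGroup (Fin n) F) : Matrix (Fin n) (Fin n) F) - 1).rank = 1} =
      {g | ∃ v, IsTr g v} := Set.ext fun g => rank_iff hF g
  rw [hD]
  obtain ⟨v, hv, hvv⟩ := exists_iso hF (n := n) (by omega)
  refine CfsgLib.Trans3.isThreeTranspositionClass_of_braid _
    ((exists_tr hF hv hvv).imp fun A hA => ⟨v, hA⟩) (fun d hd g => ?_) (fun d ⟨_, hd⟩ => tr_sq hF hd)
    (fun d ⟨a, hd⟩ e ⟨b, he⟩ => ?_) (fun d ⟨a, hd⟩ e ⟨b, he⟩ hde => ?_) (closure_tr hF hn)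
  · refine (rank_iff hF _).1 ?_
    rw [← (rank_iff hF d).2 hd]
    exact CfsgLib.Trans3.rank_conj_sub_one (Cfsg.slToMat n F |>.comp (Cfsg.SU n F 2).subtype) g d
  · obtain ⟨h1, h2⟩ := tr_comm_or_braid hF hd he
    exact (em _).imp h1 h2
  · by_cases hab : Cfsg.hermForm n F 2 a b = 0
    · obtain ⟨z, hz, hzz, h1, h2⟩ := exists_middle hF hd.1 he.1 hd.2.1 hab
      obtain ⟨C, hC⟩ := exists_tr hF hz hzz
      refine ⟨C, ⟨z, hC⟩, ((tr_comm_or_braid hF hC hd).2 h1).symm, (tr_comm_or_braid hF hC he).2 h2⟩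
    · have hb := (tr_comm_or_braid hF hd he).2 hab
      have hede : e = d := by
        have h' : d * e * d = e * d * d → e * d * e = e * d * d := fun h => hb.symm.trans h
        exact mul_left_cancel (h' (by rw [hde]))
      subst hede
      exact ⟨e, ⟨b, he⟩, rfl, rfl⟩
end Cfsg.Agent.S1631
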