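import Cfsg.Statements.S1453
import Cfsg.Agent.Lib.OddLocal.NormalRankThree
import Cfsg.Agent.Lib.OddLocal.Replace

set_option autoImplicit false
open Cfsg
open scoped commutatorElement

namespace Cfsg.Agent.S1453

open Subgroup in
theorem card_sq_eq {R : Type*} [Group R] [Finite R] {p : ℕ} [Fact p.Prime] (hR : IsPGroup p R)
    (K : Subgroup R) (h1 : p < Nat.card K) (h2 : Nat.card K ≤ p ^ 2) : Nat.card K = p ^ 2 := by
  obtain ⟨j, hj⟩ := IsPGroup.iff_card.1 (hR.to_subgroup K)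
  have hpr := (Fact.out : p.Prime)
  rw [hj] at h1 h2 ⊢
  have h3 := (Nat.pow_le_pow_iff_right hpr.one_lt).1 h2
  have h4 : 1 < j := (Nat.pow_lt_pow_iff_right hpr.one_lt).1 (by rwa [pow_one])
  rw [show j = 2 by omega]


/-- Let p be an odd prime and R a finite p-group with an elementary abelian subgroup of order p ^ 3 and an elementary abelian subgroup E of order p ^ 2 contained in no larger elementary abelian subgroup. Let Z₂ be the second centre of R, W the subgroup generated by the elements of Z₂ of order dividing p, and T = C_R(W). Then E is not contained in T; the elements of order dividing p of the centre of R generate a group of order p; W is elementary abelian of order p ^ 2; and T is characteristic in R of index p. -/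
theorem result {R : Type*} [Group R] [Finite R] (p : ℕ) [Fact p.Prime] (hp : p ≠ 2) (hR : IsPGroup p R) (hr : ¬ Cfsg.PRankLE p 2 R)
    (E : Subgroup R) (hE : Cfsg.IsElementaryAbelian p E) (hE2 : Nat.card E = p ^ 2)
    (hEmax : ∀ B : Subgroup R, Cfsg.IsElementaryAbelian p B → E ≤ B → B = E) :
    ¬ E ≤ Subgroup.centralizer ((Subgroup.closure {x : R | x ∈ Subgroup.upperCentralSeries R 2 ∧ x ^ p = 1} : Subgroup R) : Set R) ∧
      Nat.card ↥(Subgroup.closure {x : R | x ∈ Subgroup.center R ∧ x ^ p = 1}) = p ∧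
      (Cfsg.IsElementaryAbelian p (Subgroup.closure {x : R | x ∈ Subgroup.upperCentralSeries R 2 ∧ x ^ p = 1}) ∧
        Nat.card ↥(Subgroup.closure {x : R | x ∈ Subgroup.upperCentralSeries R 2 ∧ x ^ p = 1}) = p ^ 2) ∧
      (Subgroup.centralizer ((Subgroup.closure {x : R | x ∈ Subgroup.upperCentralSeries R 2 ∧ x ^ p = 1} : Subgroup R) : Set R)).Characteristic ∧
      (Subgroup.centralizer ((Subgroup.closure {x : R | x ∈ Subgroup.upperCentralSeries R 2 ∧ x ^ p = 1} : Subgroup R) : Set R)).index = p := by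
  open Subgroup in
  have hpr := (Fact.out : p.Prime)
  have hpodd : Odd p := hpr.odd_of_ne_two hp
  set SZ : Set R := {x : R | x ∈ Subgroup.center R ∧ x ^ p = 1} with hSZ
  set SW : Set R := {x : R | x ∈ Subgroup.upperCentralSeries R 2 ∧ x ^ p = 1} with hSW
  set Z := Subgroup.closure SZ with hZ
  set W := Subgroup.closure SW with hW
  set Z2 := Subgroup.upperCentralSeries R 2 with hZ2
  have hZ2mem : ∀ x, x ∈ Z2 ↔ ∀ g : R, ⁅x, g⁆ ∈ Subgroup.center R := fun x => by
    rw [hZ2, Subgroup.mem_upperCentralSeries_succ_iff, Subgroup.upperCentralSeries_one]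
  have hcomm' : ∀ x ∈ Z2, ∀ g : R, g * x * g⁻¹ * x⁻¹ ∈ Subgroup.center R := fun x hx g => by
    have h := Subgroup.inv_mem _ ((hZ2mem x).1 hx g)
    rw [commutatorElement_inv, commutatorElement_def] at h
    exact h
  have hZmem : ∀ x, x ∈ Z → x ∈ Subgroup.center R ∧ x ^ p = 1 := by
    intro x hx
    induction hx using Subgroup.closure_induction with
    | mem z hz => exact hz
    | one => exact ⟨Subgroup.one_mem _, one_pow p⟩
    | mul u v _ _ hu hv => exact ⟨Subgroup.mul_mem _ hu.1 hv.1, by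
        rw [(show Commute u v from Subgroup.mem_center_iff.1 hv.1 u).mul_pow, hu.2, hv.2, one_mul]⟩
    | inv u _ hu => exact ⟨Subgroup.inv_mem _ hu.1, by rw [inv_pow, hu.2, inv_one]⟩
  have hWmem : ∀ x, x ∈ W → x ∈ Z2 ∧ x ^ p = 1 := by
    intro x hx
    induction hx using Subgroup.closure_induction with
    | mem z hz => exact hz
    | one => exact ⟨Subgroup.one_mem _, one_pow p⟩
    | mul u v _ _ hu hv =>
        refine ⟨Subgroup.mul_mem _ hu.1 hv.1, CfsgLib.OddLocal.mul_pow_eq_one_of_class_two hpodd hu.2 hv.2 ?_ ?_⟩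
        · exact Subgroup.mem_center_iff.1 (hcomm' u hu.1 v) u
        · exact Subgroup.mem_center_iff.1 (hcomm' u hu.1 v) v
    | inv u _ hu => exact ⟨Subgroup.inv_mem _ hu.1, by rw [inv_pow, hu.2, inv_one]⟩
  have hWconj : ∀ x ∈ W, ∀ g : R, g * x * g⁻¹ * x⁻¹ ∈ Z := by
    intro x hx g
    obtain ⟨hx2, hxp⟩ := hWmem x hx
    set c := g * x * g⁻¹ * x⁻¹ with hc
    have hcc := hcomm' x hx2 g
    refine Subgroup.subset_closure ⟨hcc, ?_⟩
    have h1 : (g * x * g⁻¹) ^ p = 1 := by rw [conj_pow, hxp, mul_one, mul_inv_cancel]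
    rw [show g * x * g⁻¹ = c * x by rw [hc]; group,
      (show Commute c x from (Subgroup.mem_center_iff.1 hcc x).symm).mul_pow, hxp, mul_one] at h1
    exact h1
  have hZW : Z ≤ W := (Subgroup.closure_le _).2 fun x hx => Subgroup.subset_closure
    ⟨(hZ2mem x).2 fun g => by
      rw [commutatorElement_eq_one_iff_mul_comm.2 (Subgroup.mem_center_iff.1 hx.1 g).symm]
      exact Subgroup.one_mem _, hx.2⟩
  haveI hWn : W.Normal := ⟨fun x hx g => by
    have := W.mul_mem (hZW (hWconj x hx g)) hx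
    rwa [inv_mul_cancel_right] at this⟩
  -- maximality of `E`
  have hEcomm : ∀ a ∈ E, ∀ b ∈ E, a * b = b * a := fun a ha b hb =>
    congrArg Subtype.val (hE.1.is_comm.comm (⟨a, ha⟩ : E) ⟨b, hb⟩)
  have habs : ∀ K : Subgroup R, (∀ a ∈ K, ∀ b ∈ K, a * b = b * a) → (∀ a ∈ K, a ^ p = 1) →
      (∀ a ∈ K, ∀ b ∈ E, a * b = b * a) → K ≤ E := by
    intro K hKc hKp hKE
    have hB : Cfsg.IsElementaryAbelian p (E ⊔ K) := by
      rw [← Subgroup.closure_eq E, ← Subgroup.closure_eq K, ← Subgroup.closure_union]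
      have hc : IsMulCommutative (Subgroup.closure ((E : Set R) ∪ (K : Set R))) := by
        refine Subgroup.isMulCommutative_closure ?_
        rintro x (hx | hx) y (hy | hy)
        · exact hEcomm x hx y hy
        · exact (hKE y hy x hx).symm
        · exact hKE x hx y hy
        · exact hKc x hx y hy
      refine ⟨hc, fun b hb => ?_⟩
      induction hb using Subgroup.closure_induction with
      | mem z hz => exact hz.elim (hE.2 z) (hKp z)
      | one => exact one_pow p
      | mul u v hu hv ihu ihv =>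
        have huv : Commute u v := congrArg Subtype.val (hc.is_comm.comm (⟨u, hu⟩ : Subgroup.closure _) ⟨v, hv⟩)
        rw [huv.mul_pow, ihu, ihv, one_mul]
      | inv u hu ihu => rw [inv_pow, ihu, inv_one]
    exact (hEmax _ hB le_sup_left).le.trans' le_sup_right
  have hmem1 : ∀ w : R, w ^ p = 1 → (∀ b ∈ E, w * b = b * w) → w ∈ E := by
    intro w hw hwE
    refine habs (Subgroup.zpowers w) ?_ ?_ ?_ (Subgroup.mem_zpowers w)
    · rintro _ ⟨i, rfl⟩ _ ⟨j, rfl⟩; exact ((Commute.refl w).zpow_zpow i j).eq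
    · rintro _ ⟨i, rfl⟩
      show (w ^ i) ^ p = 1
      rw [← zpow_natCast, ← zpow_mul, mul_comm, zpow_mul, zpow_natCast, hw, one_zpow]
    · rintro _ ⟨i, rfl⟩ b hb
      exact ((show Commute w b from hwE b hb).zpow_left i).eq
  have hZE : Z ≤ E := fun z hz => hmem1 z (hZmem z hz).2 fun b _ =>
    (Subgroup.mem_center_iff.1 (hZmem z hz).1 b).symm
  obtain ⟨E3, hc3, he3, hk3⟩ := CfsgLib.OddLocal.exists_elementary_of_not_pRankLE hR hr
  have hE3c : ∀ a ∈ E3, ∀ b ∈ E3, a * b = b * a := fun a ha b hb =>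
    congrArg Subtype.val (hc3.is_comm.comm (⟨a, ha⟩ : E3) ⟨b, hb⟩)
  have hbig : ¬ p ^ 3 ≤ p ^ 2 := not_le.2 (Nat.pow_lt_pow_right hpr.one_lt (by norm_num))
  have hZneE : Z ≠ E := fun h => hbig (hk3.trans (hE2 ▸ Nat.le_of_dvd Nat.card_pos (Subgroup.card_dvd_of_le
    (habs E3 hE3c he3 fun a _ b hb => Subgroup.mem_center_iff.1 (hZmem b (h.ge hb)).1 a))))
  have hR1 : Nontrivial R := by
    rw [← Finite.one_lt_card_iff_nontrivial]
    exact lt_of_lt_of_le (Nat.one_lt_pow (by norm_num) hpr.one_lt)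
      (hk3.trans (Nat.le_of_dvd Nat.card_pos (Subgroup.card_subgroup_dvd_card E3)))
  have hZp : Nat.card Z = p := by
    haveI := hR.center_nontrivial
    obtain ⟨k, hk⟩ := IsPGroup.iff_card.1 (hR.to_subgroup (Subgroup.center R))
    have hk0 : k ≠ 0 := by
      rintro rfl
      exact (Finite.one_lt_card (α := Subgroup.center R)).ne' (by rw [hk, pow_zero])
    obtain ⟨z, hz⟩ := exists_prime_orderOf_dvd_card' (G := Subgroup.center R) p (hk ▸ dvd_pow_self p hk0)
    rw [← Subgroup.orderOf_coe] at hz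
    have hzZ : (z : R) ∈ Z := Subgroup.subset_closure ⟨z.2, hz ▸ pow_orderOf_eq_one _⟩
    have h1 : p ∣ Nat.card Z := hz ▸ (Subgroup.orderOf_mk (z : R) hzZ ▸ orderOf_dvd_natCard _)
    have h2 : Nat.card Z ∣ p ^ 2 := hE2 ▸ Subgroup.card_dvd_of_le hZE
    obtain ⟨j, hj2, hj⟩ := (Nat.dvd_prime_pow hpr).1 h2
    interval_cases j
    · rw [hj, pow_zero, Nat.dvd_one] at h1; exact absurd h1 hpr.ne_one
    · rw [hj, pow_one]
    · exact absurd (Subgroup.eq_of_le_of_card_ge hZE (by rw [hE2, hj])) hZneE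
  haveI hZn : Z.Normal := ⟨fun z hz g => by
    rwa [Subgroup.mem_center_iff.1 (hZmem z hz).1 g, mul_inv_cancel_right]⟩
  -- `E` is not contained in `W`
  have hEW : ¬ E ≤ W := by
    intro h
    haveI : E.Normal := ⟨fun e he g => by
      have := E.mul_mem (hZE (hWconj e (h he) g)) he
      rwa [inv_mul_cancel_right] at this⟩
    obtain ⟨A, hEA, -, hAc, -, hA3⟩ := CfsgLib.OddLocal.exists_scn_three hp hR hr E hE hE2
    obtain ⟨B, hBc, hBe, hB3⟩ := CfsgLib.OddLocal.exists_elementary_of_not_pRankLE (hR.to_subgroup A) hA3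
    refine hbig (hB3.trans ?_)
    rw [← Subgroup.card_map_of_injective (f := A.subtype) (K := B) (Subgroup.subtype_injective A), ← hE2]
    refine Nat.le_of_dvd Nat.card_pos (Subgroup.card_dvd_of_le (habs _ ?_ ?_ ?_))
    · rintro _ ⟨a, ha, rfl⟩ _ ⟨b, hb, rfl⟩
      exact congrArg Subtype.val (hAc.is_comm.comm a b)
    · rintro _ ⟨a, ha, rfl⟩
      simpa using congrArg Subtype.val (hBe a ha)
    · rintro _ ⟨a, ha, rfl⟩ b hb
      exact congrArg Subtype.val (hAc.is_comm.comm a ⟨b, hEA hb⟩)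
  have hWE : W ⊓ E = Z := by
    obtain ⟨j, hj2, hj⟩ := (Nat.dvd_prime_pow hpr).1 (hE2 ▸ Subgroup.card_dvd_of_le (inf_le_right : W ⊓ E ≤ E))
    have hle : Z ≤ W ⊓ E := le_inf hZW hZE
    refine (Subgroup.eq_of_le_of_card_ge hle ?_).symm
    rw [hZp, hj]
    rcases Nat.lt_or_ge j 2 with h | h
    · calc p ^ j ≤ p ^ 1 := Nat.pow_le_pow_right hpr.pos (by omega)
        _ = p := pow_one p
    · exact absurd (inf_eq_right.1 (Subgroup.eq_of_le_of_card_ge inf_le_right
        (by rw [hE2, hj, show j = 2 by omega]))) hEW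
  -- `|W| ≤ p²`
  obtain ⟨e, heE, heZ⟩ : ∃ e ∈ E, e ∉ Z := SetLike.exists_of_lt (lt_of_le_of_ne hZE hZneE)
  let φ : W →* Z :=
    { toFun := fun w => ⟨e * w.1 * e⁻¹ * w.1⁻¹, hWconj w.1 w.2 e⟩
      map_one' := Subtype.ext (by simp)
      map_mul' := fun u v => Subtype.ext (by
        show e * (u.1 * v.1) * e⁻¹ * (u.1 * v.1)⁻¹ = (e * u.1 * e⁻¹ * u.1⁻¹) * (e * v.1 * e⁻¹ * v.1⁻¹)
        have hcv := Subgroup.mem_center_iff.1 (hZmem _ (hWconj v.1 v.2 e)).1 u.1⁻¹
        calc e * (u.1 * v.1) * e⁻¹ * (u.1 * v.1)⁻¹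
            = e * u.1 * e⁻¹ * ((e * v.1 * e⁻¹ * v.1⁻¹) * u.1⁻¹) := by group
          _ = _ := by rw [← hcv]; group) }
  have hEgen : E = Z ⊔ Subgroup.zpowers e := by
    refine (Subgroup.eq_of_le_of_card_ge (sup_le hZE (Subgroup.zpowers_le.2 heE)) ?_).symm
    rw [hE2]
    obtain ⟨j, hj2, hj⟩ := (Nat.dvd_prime_pow hpr).1
      (hE2 ▸ Subgroup.card_dvd_of_le (sup_le hZE (Subgroup.zpowers_le.2 heE)))
    have hlt : Nat.card Z < Nat.card (Z ⊔ Subgroup.zpowers e : Subgroup R) := by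
      refine lt_of_le_of_ne (Nat.le_of_dvd Nat.card_pos (Subgroup.card_dvd_of_le le_sup_left)) fun h => heZ ?_
      rw [Subgroup.eq_of_le_of_card_ge (le_sup_left : Z ≤ Z ⊔ Subgroup.zpowers e) h.ge]
      exact Subgroup.mem_sup_right (Subgroup.mem_zpowers e)
    rw [hj]
    rw [hZp, hj] at hlt
    have : 1 < j := (Nat.pow_lt_pow_iff_right hpr.one_lt).1 (by rwa [pow_one])
    rw [show j = 2 by omega]
  have hker : ∀ w : W, φ w = 1 → (w : R) ∈ Z := by
    intro w hw
    refine hWE.le ⟨w.2, hmem1 _ (hWmem _ w.2).2 fun b hb => ?_⟩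
    rw [hEgen] at hb
    have hew : e * w.1 = w.1 * e := by
      have h : e * w.1 * e⁻¹ * w.1⁻¹ = 1 := congrArg Subtype.val hw
      exact mul_inv_eq_iff_eq_mul.1 (mul_inv_eq_one.1 h)
    have hle : Z ⊔ Subgroup.zpowers e ≤ Subgroup.centralizer ({(w : R)} : Set R) := sup_le
      (fun z hz => Subgroup.mem_centralizer_singleton_iff.2 (Subgroup.mem_center_iff.1 (hZmem z hz).1 _).symm)
      (Subgroup.zpowers_le.2 (Subgroup.mem_centralizer_singleton_iff.2 hew))
    exact (Subgroup.mem_centralizer_singleton_iff.1 (hle hb)).symm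
  have hW2 : Nat.card W ≤ p ^ 2 := by
    rw [← φ.ker.card_mul_index, Subgroup.index_ker, sq]
    refine Nat.mul_le_mul ?_ ((Nat.le_of_dvd Nat.card_pos (Subgroup.card_subgroup_dvd_card _)).trans hZp.le)
    rw [← hZp]
    exact Nat.card_le_card_of_injective (fun w : φ.ker => (⟨(w.1 : R), hker w.1 w.2⟩ : Z))
      fun a b h => Subtype.ext (Subtype.ext (congrArg Subtype.val h :))
  -- an element of order `p` of `Z₂` outside `Z`
  have hWp : p < Nat.card W := by
    obtain ⟨M, hMn, hMe, hM3⟩ := CfsgLib.OddLocal.exists_normal_elementary_three hp hR hc3 he3 hk3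
    have hMne : M ≠ ⊥ := fun h => by
      rw [h, Subgroup.card_bot] at hM3
      exact absurd hM3 (not_le.2 (Nat.one_lt_pow (by norm_num) hpr.one_lt))
    have hnot : ¬ M ≤ Z := fun h => absurd (hM3.trans (Nat.le_of_dvd Nat.card_pos (Subgroup.card_dvd_of_le h)))
      (by rw [hZp]; exact not_le.2 (lt_self_pow₀ hpr.one_lt (by norm_num)))
    obtain ⟨x, hx, hxZ, hxc⟩ := CfsgLib.OddLocal.exists_central_mod hR (Z ⊓ M) M
      (lt_of_le_of_ne inf_le_right fun h => hnot (h.ge.trans inf_le_left))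
    have hxW : x ∈ W := Subgroup.subset_closure ⟨(hZ2mem x).2 fun g => by
      have h := Subgroup.inv_mem _ (hZmem _ (hxc g).1).1
      rw [show (g * x * g⁻¹ * x⁻¹)⁻¹ = ⁅x, g⁆ by rw [commutatorElement_def]; group] at h
      exact h, hMe.2 x hx⟩
    rw [← hZp]
    refine lt_of_le_of_ne (Nat.le_of_dvd Nat.card_pos (Subgroup.card_dvd_of_le hZW)) fun h => hxZ ⟨?_, hx⟩
    rw [Subgroup.eq_of_le_of_card_ge hZW h.ge]
    exact hxW
  have hWc : Nat.card W = p ^ 2 := card_sq_eq hR W hWp hW2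
  have hWab : IsMulCommutative W := ⟨⟨IsPGroup.commutative_of_card_eq_prime_sq hWc⟩⟩
  have hnotT : ¬ E ≤ Subgroup.centralizer (W : Set R) := by
    intro h
    have hWle : W ≤ E := habs W (fun a ha b hb => congrArg Subtype.val (hWab.is_comm.comm (⟨a, ha⟩ : W) ⟨b, hb⟩))
      (fun a ha => (hWmem a ha).2) fun a ha b hb => Subgroup.mem_centralizer_iff.1 (h hb) a ha
    exact hEW (Subgroup.eq_of_le_of_card_ge hWle (by rw [hE2, hWc])).ge
  refine ⟨hnotT, hZp, ⟨⟨hWab, fun a ha => (hWmem a ha).2⟩, hWc⟩, ?_, ?_⟩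
  · have hWchar : W.Characteristic := by
      rw [Subgroup.characteristic_iff_map_le]
      intro φ'
      rw [hW, MonoidHom.map_closure, Subgroup.closure_le]
      rintro _ ⟨x, ⟨hx1, hx2⟩, rfl⟩
      refine Subgroup.subset_closure ⟨?_, by rw [← map_pow, hx2, map_one]⟩
      rw [← hZ2, hZ2mem]
      intro g
      obtain ⟨g, rfl⟩ := φ'.surjective g
      show ⁅φ'.toMonoidHom x, φ'.toMonoidHom g⁆ ∈ _
      rw [← map_commutatorElement]
      exact Subgroup.characteristic_iff_map_le.1 inferInstance φ' ⟨_, (hZ2mem x).1 hx1 g, rfl⟩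
    infer_instance
  · have hle := CfsgLib.OddLocal.index_centralizer_le_prime hR W hWc.le
    obtain ⟨k, hk⟩ := hR.index (Subgroup.centralizer (W : Set R))
    rw [hk] at hle ⊢
    have hk0 : k ≠ 0 := fun h0 => hnotT (by
      rw [(Subgroup.index_eq_one (H := Subgroup.centralizer (W : Set R))).1 (by rw [hk, h0, pow_zero])]; exact le_top)
    have : k ≤ 1 := (Nat.pow_le_pow_iff_right hpr.one_lt).1 (by rwa [pow_one])
    rw [show k = 1 by omega, pow_one]

end Cfsg.Agent.S1453
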