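import Cfsg.Statements.S1417
import Cfsg.Agent.Lib.BG.Tau2Main

set_option autoImplicit false
open Cfsg

namespace Cfsg.Agent.S1417

/-- Let G be a minimal simple group of odd order, M a maximal subgroup, p ∈ τ₂(M) and A ≤ M elementary abelian of order p ^ 2. Then (a) M_σ is nilpotent; (b) every Sylow p-subgroup P of M is abelian, and if A ≤ P then the elements of P of order dividing p are exactly those of A and N_G(P) is not contained in M; (c) M normalizes M_σA; (d) M_σ ∩ C_G(A) = 1; (e) M_σ ∩ M* = 1 for every maximal subgroup M* ≠ M containing A; (f) M_σ ∩ C_G(A₁) = 1 for some subgroup A₁ ≤ A of order p. -/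
theorem result {G : Type*} [Group G] [Finite G] (hG : Cfsg.IsMinSimpleOddOrder G)
    (M : Subgroup G) (hM : IsCoatom M) (p : ℕ) [Fact p.Prime] (hp : p ∈ Cfsg.tau2 M) (A : Subgroup G) (hA : (A ≤ M ∧ Cfsg.IsElementaryAbelian p A ∧ Nat.card A = p ^ 2)) :
    Group.IsNilpotent (Cfsg.sigmaCore M) ∧
      (∀ P : Sylow p M, IsMulCommutative (P : Subgroup M) ∧
        (A ≤ (P : Subgroup M).map M.subtype →
          (∀ x ∈ (P : Subgroup M).map M.subtype, x ^ p = 1 ↔ x ∈ A) ∧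
          ¬ Subgroup.normalizer ((((P : Subgroup M).map M.subtype : Subgroup G)) : Set G) ≤ M)) ∧
      M ≤ Subgroup.normalizer ((Cfsg.sigmaCore M ⊔ A : Subgroup G) : Set G) ∧
      Cfsg.sigmaCore M ⊓ Subgroup.centralizer (A : Set G) = ⊥ ∧
      (∀ Mstar : Subgroup G, IsCoatom Mstar → Mstar ≠ M → A ≤ Mstar → Cfsg.sigmaCore M ⊓ Mstar = ⊥) ∧
      ∃ A₁ : Subgroup G, A₁ ≤ A ∧ Nat.card A₁ = p ∧ Cfsg.sigmaCore M ⊓ Subgroup.centralizer (A₁ : Set G) = ⊥ := by
  obtain ⟨hAM, hAe, hAc⟩ := hA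
  have hσ := hp.2.1
  have hA' : CfsgLib.BG.IsSq p A := ⟨hAe, hAc⟩
  obtain ⟨A₀, h⟩ := CfsgLib.BG.exists_exc hG hM hσ hA' hAM
  refine ⟨h.nilpotent hG hM, fun P => ?_, ?_, h.centralizer_eq_bot hG hM,
    fun L hL hne hAL => h.inf_other hG hM hL hne hAL, ?_⟩
  · have hP := CfsgLib.BG.sylowIn_map P
    constructor
    · obtain ⟨g, hg, hgP⟩ := hP.exists_conj_le hA'.isPGroup hAM
      have h' := h.conj g
      rw [CfsgLib.BG.conjMap_eq_of_mem hg] at h'
      haveI := (h'.sylow_abelian hG hM hP hgP).1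
      exact ⟨⟨fun a b => Subtype.ext (M.subtype_injective (congrArg Subtype.val
        (mul_comm' (⟨_, Subgroup.mem_map_of_mem _ a.2⟩ : (P : Subgroup M).map M.subtype)
          ⟨_, Subgroup.mem_map_of_mem _ b.2⟩) :))⟩⟩
    · intro hAP
      refine ⟨(h.sylow_abelian hG hM hP hAP).2.1, fun hN => hσ ?_⟩
      exact CfsgLib.BG.mem_sigma_of_normalizer_le ((CfsgLib.BG.dvd_card_of_pgroup_ne_bot hA'.isPGroup
        hA'.ne_bot).trans (Subgroup.card_dvd_of_le hAM)) hP hN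
  · obtain ⟨E, hE, hAE⟩ := CfsgLib.BG.exists_compl_ge hG hM hAM
      fun r hr hd => (CfsgLib.BG.prime_dvd_pgroup_card hA'.isPGroup hr hd) ▸ hσ
    intro m hm
    rw [← CfsgLib.BG.isComplIn_sup hE] at hm
    refine (sup_le ?_ ?_ : E ⊔ Cfsg.sigmaCore M ≤ _) hm
    · exact CfsgLib.Comp.le_normalizer_sup (hE.1.trans (CfsgLib.BG.le_normalizer_sigmaCore M))
        (h.compl_le_normalizer hG hM hE hAE)
    · exact le_trans le_sup_left Subgroup.le_normalizer
  · obtain ⟨X, -, hX, -, -, hf, -⟩ := h.exists_fpf hG hM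
    exact ⟨X, hX.1, hX.2, hf⟩


end Cfsg.Agent.S1417
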