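import Cfsg.Statements.S1418
import Cfsg.Agent.Lib.BG.Tau2Main

set_option autoImplicit false
open Cfsg

namespace Cfsg.Agent.S1418

/-- Let G be a minimal simple group of odd order, M a maximal subgroup, E a complement to M_σ in M, p ∈ τ₂(M), and A ≤ E elementary abelian of order p ^ 2. Then A is normal in E and contains every subgroup of E of order p; C_G(A) ≤ M ∩ N_G(A) = E and N_G(A) is not contained in M; and for every subgroup X ≤ A of order p centralizing a non-identity element of M_σ, C_G(X) ≤ M and M is the unique maximal subgroup containing C_G(X). -/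
theorem result {G : Type*} [Group G] [Finite G] (hG : Cfsg.IsMinSimpleOddOrder G)
    (M : Subgroup G) (hM : IsCoatom M) (E : Subgroup G) (hE : Cfsg.IsComplIn E (Cfsg.sigmaCore M) M) (p : ℕ) [Fact p.Prime] (hp : p ∈ Cfsg.tau2 M) (A : Subgroup G) (hA : (A ≤ E ∧ Cfsg.IsElementaryAbelian p A ∧ Nat.card A = p ^ 2)) :
    (E ≤ Subgroup.normalizer (A : Set G) ∧ ∀ X : Subgroup G, X ≤ E → Nat.card X = p → X ≤ A) ∧
      (Subgroup.centralizer (A : Set G) ≤ M ⊓ Subgroup.normalizer (A : Set G) ∧ M ⊓ Subgroup.normalizer (A : Set G) = E ∧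
        ¬ Subgroup.normalizer (A : Set G) ≤ M) ∧
      ∀ X : Subgroup G, X ≤ A → Nat.card X = p → Cfsg.sigmaCore M ⊓ Subgroup.centralizer (X : Set G) ≠ ⊥ → (Subgroup.centralizer (X : Set G) ≤ M ∧ ∀ L : Subgroup G, IsCoatom L → Subgroup.centralizer (X : Set G) ≤ L → L = M) := by
  obtain ⟨hAE, hAe, hAc⟩ := hA
  have hσ := hp.2.1
  have hA' : CfsgLib.BG.IsSq p A := ⟨hAe, hAc⟩
  have hAM : A ≤ M := hAE.trans hE.1
  obtain ⟨A₀, h⟩ := CfsgLib.BG.exists_exc hG hM hσ hA' hAM
  have hEn := h.compl_le_normalizer hG hM hE hAE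
  have hd : Cfsg.sigmaCore M ⊓ E = ⊥ := by
    rw [inf_comm]
    exact CfsgLib.BG.inf_sigmaCore_eq_bot hG hM fun r hr hd => CfsgLib.BG.not_sigma_of_dvd_compl hG hM hE hr hd
  have hN : M ⊓ Subgroup.normalizer (A : Set G) = E := by
    refine le_antisymm ?_ (le_inf hE.1 hEn)
    rintro m ⟨hm, hmA⟩
    have hm' : m ∈ ((Cfsg.sigmaCore M ⊔ E : Subgroup G) : Set G) := by
      rw [sup_comm, CfsgLib.BG.isComplIn_sup hE]; exact hm
    rw [Subgroup.coe_mul_of_right_le_normalizer_left _ _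
      (hE.1.trans (CfsgLib.BG.le_normalizer_sigmaCore M))] at hm'
    obtain ⟨n, hn, e, he, rfl⟩ := hm'
    have hn' : n ∈ Subgroup.normalizer (A : Set G) := by
      have := mul_mem (show n * e ∈ Subgroup.normalizer (A : Set G) from hmA) (inv_mem (hEn he))
      simpa [mul_assoc] using this
    have hc := CfsgLib.BG.mem_centralizer_of_conj_le hn hd
      (hE.1.trans (CfsgLib.BG.le_normalizer_sigmaCore M)) hAE
      ((CfsgLib.PLocal.conjMap_eq_self_iff.mpr hn').le.trans hAE)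
    have h1 : n = 1 := by
      rw [← Subgroup.mem_bot, ← h.centralizer_eq_bot hG hM]
      exact ⟨hn, hc⟩
    show n * e ∈ E
    rw [h1, one_mul]
    exact he
  refine ⟨⟨hEn, fun X hXE hXc => ?_⟩, ⟨le_inf (h.centralizer_le) (Subgroup.centralizer_le_normalizer _),
    hN, fun hle => ?_⟩, fun X hXA hXc hX1 => h.onlyMax_centralizer hG hM ⟨hXA, hXc⟩ hX1⟩
  · obtain ⟨P, hP, hAP⟩ := CfsgLib.PLocal.exists_sylowIn_le hA'.isPGroup hAE
    obtain ⟨e, he, heP⟩ := hP.exists_conj_le (CfsgLib.BG.isPGroup_of_card_prime hXc) hXE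
    have hle : CfsgLib.PLocal.conjMap e X ≤ A := fun x hx =>
      ((h.sylow_abelian hG hM (CfsgLib.BG.sylowIn_of_compl hG hM hE hσ hP) hAP).2.1 x (heP hx)).mp
        (by
          have := orderOf_dvd_natCard (⟨x, hx⟩ : CfsgLib.PLocal.conjMap e X)
          rw [CfsgLib.PLocal.card_conjMap, hXc, Subgroup.orderOf_mk] at this
          exact orderOf_dvd_iff_pow_eq_one.mp this)
    have h2 := CfsgLib.PLocal.conjMap_mono (g := e⁻¹) hle
    rw [CfsgLib.PLocal.conjMap_inv_conjMap, CfsgLib.PLocal.conjMap_eq_self_iff.mpr (inv_mem (hEn he))] at h2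
    exact h2
  · obtain ⟨g, hg, hgM⟩ := h.exists_move hG hM
    exact hgM (hle hg)


end Cfsg.Agent.S1418
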