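import Cfsg.Statements.S1394
import Cfsg.Agent.Lib.OddLocal.Transitivity
import Mathlib.GroupTheory.Perm.Cycle.Type

set_option autoImplicit false
open Cfsg

namespace Cfsg.Agent.S1394

/-- Let G be a minimal simple group of odd order, A a subgroup satisfying the transitivity hypothesis whose centre has rank at least 2, K = O_{π(A)'}(C_G(A)), and q a prime dividing the order of C_G(A) but not that of A. Then any two maximal A-invariant q-subgroups of G are conjugate by an element of K. -/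
theorem result {G : Type*} [Group G] [Finite G] (hG : Cfsg.IsMinSimpleOddOrder G)
    (A : Subgroup G) (hA : Cfsg.TransitivityHypothesis A) (hZ : ¬ Cfsg.RankLE 1 ↥(A ⊓ Subgroup.centralizer (A : Set G)))
    (q : ℕ) (hq : q.Prime) (hqA : ¬ q ∣ Nat.card A) (hqC : q ∣ Nat.card (Subgroup.centralizer (A : Set G))) :
    ∀ Q₁ ∈ Cfsg.maxInvSubgroups ⊤ A {q}, ∀ Q₂ ∈ Cfsg.maxInvSubgroups ⊤ A {q}, ∃ k ∈ Cfsg.piCoreOf (Cfsg.primesNotDvd (Nat.card A)) (Subgroup.centralizer (A : Set G)), Q₂ = Q₁.map (MulAut.conj k).toMonoidHom := by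
  haveI := Fact.mk hq
  obtain ⟨p, E, hp, hEZ, hE, hcard⟩ := CfsgLib.OddLocal.exists_elementary_of_not_rankLE hZ
  have hEA : E ≤ A := hEZ.trans inf_le_left
  obtain ⟨x, hx⟩ := exists_prime_orderOf_dvd_card' (G := ↥(Subgroup.centralizer (A : Set G))) q hqC
  have hX : IsPGroup q (Subgroup.zpowers (x : G)) := by
    refine IsPGroup.of_card (n := 1) ?_
    rw [Nat.card_zpowers, Subgroup.orderOf_coe, hx, pow_one]
  have hxc : Subgroup.zpowers (x : G) ≤ Subgroup.centralizer (A : Set G) := by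
    rw [Subgroup.zpowers_le]; exact x.2
  have hXinv := CfsgLib.OddLocal.inv_of_isPGroup hX
    ((Subgroup.le_centralizer_iff.mp hxc).trans (Subgroup.centralizer_le_normalizer _))
  obtain ⟨Q₀, h₀, hxQ₀⟩ := CfsgLib.OddLocal.exists_maxInv_ge hXinv
  have hx1 : (x : G) ≠ 1 := fun h => hq.ne_one (by rw [← hx, ← Subgroup.orderOf_coe, h, orderOf_one])
  have main : ∀ Q ∈ Cfsg.maxInvSubgroups ⊤ A {q}, ∃ k ∈ CfsgLib.OddLocal.transK A,
      Q = Q₀.map (MulAut.conj k).toMonoidHom := by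
    intro Q hQ
    have hQne : Q ≠ ⊥ := fun h => by
      have h2 := hQ.2 Q₀ h₀.1 (h ▸ bot_le)
      rw [h] at h2
      exact hx1 (Subgroup.mem_bot.mp (h2 ▸ hxQ₀ (Subgroup.mem_zpowers _)))
    obtain ⟨B, hB, hi, hc⟩ := CfsgLib.OddLocal.exists_cocyclic_centralizer hE hp (hEA.trans hQ.1.2.2)
      (CfsgLib.OddLocal.coprime_elementary hqA hEA (CfsgLib.OddLocal.isPGroup_of_mem_inv hQ.1)) hQne
    have hBne : B ≠ ⊥ := fun h => by
      rw [h, Subgroup.relIndex_bot_left] at hi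
      exact absurd hi (not_le.mpr (pow_one p ▸ hcard))
    refine CfsgLib.OddLocal.conj_of_meet hG hA hqA h₀ hQ
      (H := Subgroup.centralizer (B : Set G))
      (CfsgLib.OddLocal.minSimple_centralizer_ne_top hG hBne) ?_ ?_ ?_
    · exact Subgroup.le_centralizer_iff.mp (hB.trans (hEZ.trans inf_le_right))
    · intro h
      refine hx1 (Subgroup.mem_bot.mp (h ▸ ⟨?_, hxQ₀ (Subgroup.mem_zpowers _)⟩))
      exact Subgroup.centralizer_le (hB.trans hEA) x.2
    · intro h; apply hc; rw [inf_comm, h]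
  intro Q₁ h₁ Q₂ h₂
  obtain ⟨k, hk, rfl⟩ := main Q₁ h₁
  obtain ⟨l, hl, rfl⟩ := main Q₂ h₂
  exact ⟨l * k⁻¹, mul_mem hl (inv_mem hk), by rw [CfsgLib.Coprime.map_conj_conj, inv_mul_cancel_right]⟩

end Cfsg.Agent.S1394
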