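import Cfsg.Statements.S1395
import Cfsg.Agent.Lib.OddLocal.TransitivityUp

set_option autoImplicit false
open Cfsg

namespace Cfsg.Agent.S1395

/-- Let G be a minimal simple group of odd order, A a subgroup satisfying the transitivity hypothesis with K = O_{π(A)'}(C_G(A)), q a prime not dividing the order of A, and P a proper subgroup all of whose prime divisors divide the order of A, containing A as a subnormal subgroup, such that any two maximal A-invariant q-subgroups are conjugate under K. Then (a) K ∩ C_G(P) = O_{π(A)'}(C_G(P)); (b) any two maximal P-invariant q-subgroups are conjugate under O_{π(A)'}(C_G(P)); (c) every maximal P-invariant q-subgroup is a maximal A-invariant q-subgroup; (d) for every maximal P-invariant q-subgroup Q, P ∩ N_G(P)' ≤ N_G(Q)' and N_G(P) is generated by O_{π(A)'}(C_G(P)) and N_G(P) ∩ N_G(Q). -/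
theorem result {G : Type*} [Group G] [Finite G] (hG : Cfsg.IsMinSimpleOddOrder G)
    (A : Subgroup G) (hA : Cfsg.TransitivityHypothesis A) (q : ℕ) (hq : q.Prime) (hqA : ¬ q ∣ Nat.card A)
    (P : Subgroup G) (hP : P ≠ ⊤) (hPπ : (∀ r : ℕ, r.Prime → r ∣ Nat.card P → r ∣ Nat.card A)) (hAP : A ≤ P) (hsn : (A.subgroupOf P).IsSubnormal)
    (htr : ∀ Q₁ ∈ Cfsg.maxInvSubgroups ⊤ A {q}, ∀ Q₂ ∈ Cfsg.maxInvSubgroups ⊤ A {q}, ∃ k ∈ Cfsg.piCoreOf (Cfsg.primesNotDvd (Nat.card A)) (Subgroup.centralizer (A : Set G)), Q₂ = Q₁.map (MulAut.conj k).toMonoidHom) :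
    Cfsg.piCoreOf (Cfsg.primesNotDvd (Nat.card A)) (Subgroup.centralizer (A : Set G)) ⊓ Subgroup.centralizer (P : Set G) = Cfsg.piCoreOf (Cfsg.primesNotDvd (Nat.card A)) (Subgroup.centralizer (P : Set G)) ∧
      (∀ Q₁ ∈ Cfsg.maxInvSubgroups ⊤ P {q}, ∀ Q₂ ∈ Cfsg.maxInvSubgroups ⊤ P {q}, ∃ k ∈ Cfsg.piCoreOf (Cfsg.primesNotDvd (Nat.card A)) (Subgroup.centralizer (P : Set G)), Q₂ = Q₁.map (MulAut.conj k).toMonoidHom) ∧
      Cfsg.maxInvSubgroups ⊤ P {q} ⊆ Cfsg.maxInvSubgroups ⊤ A {q} ∧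
      ∀ Q ∈ Cfsg.maxInvSubgroups ⊤ P {q},
        P ⊓ ⁅Subgroup.normalizer (P : Set G), Subgroup.normalizer (P : Set G)⁆ ≤ ⁅Subgroup.normalizer (Q : Set G), Subgroup.normalizer (Q : Set G)⁆ ∧
        Subgroup.normalizer (P : Set G) = Cfsg.piCoreOf (Cfsg.primesNotDvd (Nat.card A)) (Subgroup.centralizer (P : Set G)) ⊔ (Subgroup.normalizer (P : Set G) ⊓ Subgroup.normalizer (Q : Set G)) := by
  haveI := Fact.mk hq
  obtain ⟨hA1, hA2, -⟩ := id hA
  have hbase : CfsgLib.OddLocal.TransGood A A q := by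
    refine ⟨subset_rfl, fun Q₁ h₁ Q₂ h₂ => ?_⟩
    obtain ⟨k, hk, h⟩ := htr Q₁ h₁ Q₂ h₂
    exact ⟨k, ⟨hk, CfsgLib.OddLocal.transK_centralizes hk⟩, h⟩
  have hmap : (A.subgroupOf P).map P.subtype = A := Subgroup.map_subgroupOf_eq_of_le hAP
  have hgood : CfsgLib.OddLocal.TransGood A P q :=
    CfsgLib.OddLocal.transGood_subnormal hG hA hqA hP hPπ hsn hmap.ge (by rw [hmap]; exact hbase)
  have hKP := CfsgLib.OddLocal.transK_inf_eq hG hA hAP
  refine ⟨hKP, fun Q₁ h₁ Q₂ h₂ => ?_, hgood.1, fun Q hQ => ?_⟩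
  · obtain ⟨k, hk, h⟩ := hgood.2 Q₁ h₁ Q₂ h₂
    exact ⟨k, hKP ▸ hk, h⟩
  set π := Cfsg.primesNotDvd (Nat.card A)
  set KP := Cfsg.piCoreOf π (Subgroup.centralizer (P : Set G))
  set N := Subgroup.normalizer (P : Set G)
  set L := N ⊓ Subgroup.normalizer (Q : Set G)
  have hKN : KP ≤ N := (CfsgLib.OddLocal.piCoreOf_le _ _).trans (Subgroup.centralizer_le_normalizer _)
  have heq : N = KP ⊔ L := by
    refine le_antisymm (fun x hx => ?_) (sup_le hKN inf_le_left)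
    obtain ⟨k, hk, hkQ⟩ := hgood.2 Q hQ _ (CfsgLib.OddLocal.map_conj_mem_maxInv hx hQ)
    have hk' : k ∈ KP := hKP ▸ hk
    have hkx : k⁻¹ * x ∈ L := by
      refine ⟨N.mul_mem (N.inv_mem (hKN hk')) hx, CfsgLib.Coprime.mem_normalizer_iff_map_conj.mpr ?_⟩
      rw [← CfsgLib.Coprime.map_conj_conj, hkQ, CfsgLib.Coprime.map_conj_conj, inv_mul_cancel]
      ext y; rw [CfsgLib.Coprime.mem_map_conj]; simp
    have : k * (k⁻¹ * x) ∈ KP ⊔ L := Subgroup.mul_mem_sup hk' hkx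
    rwa [mul_inv_cancel_left] at this
  refine ⟨?_, heq⟩
  have hN : N ≠ ⊤ := CfsgLib.OddLocal.minSimple_normalizer_ne_top hG
    (fun h => hA1 (le_bot_iff.mp (h ▸ hAP))) hP
  have : Group.IsSolvable N := CfsgLib.OddLocal.minSimple_isSolvable hG hN
  have hKn : (KP.subgroupOf N).Normal := by
    refine CfsgLib.Coprime.normal_subgroupOf_of_le_normalizer ?_
    refine le_trans ?_ (CfsgLib.OddLocal.le_normalizer_piCoreOf π _)
    intro g hg
    rw [Subgroup.mem_normalizer_iff_map_conj_eq]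
    have hgP := Subgroup.mem_normalizer_iff_map_conj_eq.mp hg
    ext y
    show y ∈ (Subgroup.centralizer (P : Set G)).map (MulAut.conj g).toMonoidHom ↔ _
    rw [CfsgLib.Coprime.mem_map_conj, Subgroup.mem_centralizer_iff, Subgroup.mem_centralizer_iff]
    constructor
    · intro h p hp
      have hp' : g⁻¹ * p * g ∈ P := (Subgroup.mem_normalizer_iff''.mp hg p).mp hp
      calc p * y = g * ((g⁻¹ * p * g) * (g⁻¹ * y * g)) * g⁻¹ := by group
        _ = g * ((g⁻¹ * y * g) * (g⁻¹ * p * g)) * g⁻¹ := by rw [h _ hp']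
        _ = y * p := by group
    · intro h p hp
      have hp' : g * p * g⁻¹ ∈ P := (Subgroup.mem_normalizer_iff.mp hg p).mp hp
      calc p * (g⁻¹ * y * g) = g⁻¹ * ((g * p * g⁻¹) * y) * g := by group
        _ = g⁻¹ * (y * (g * p * g⁻¹)) * g := by rw [h _ hp']
        _ = g⁻¹ * y * g * p := by group
  have hPN : P ≤ N := Subgroup.le_normalizer
  have hsup : KP.subgroupOf N ⊔ L.subgroupOf N = ⊤ := by
    rw [← Subgroup.subgroupOf_sup hKN inf_le_left, ← heq, Subgroup.subgroupOf_self]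
  have hPL : P.subgroupOf N ≤ L.subgroupOf N := fun x hx => ⟨x.2, hQ.1.2.2 hx⟩
  have hcop : (Nat.card (P.subgroupOf N)).Coprime (Nat.card (KP.subgroupOf N)) := by
    rw [CfsgLib.Coprime.card_subgroupOf hPN, CfsgLib.Coprime.card_subgroupOf hKN]
    exact Nat.coprime_of_dvd fun p hp h1 h2 =>
      (CfsgLib.OddLocal.piCoreOf_spec _ _ p hp h2).2 (hPπ p hp h1)
  obtain ⟨h1, -, -⟩ := Cfsg.Agent.S1460.result (KP.subgroupOf N) (L.subgroupOf N) (P.subgroupOf N)
    hsup hPL hcop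
  rintro x ⟨hxP, hxc⟩
  have hxN : x ∈ N := hPN hxP
  have hx' : (⟨x, hxN⟩ : N) ∈ commutator N := by
    have hm : (commutator N).map N.subtype = ⁅N, N⁆ := by
      rw [_root_.commutator_def, Subgroup.map_commutator, ← MonoidHom.range_eq_map, Subgroup.range_subtype]
    obtain ⟨y, hy, hyx⟩ := hm.ge hxc
    exact (Subtype.ext hyx : y = ⟨x, hxN⟩) ▸ hy
  have h3 := (h1.le ⟨hxP, hx'⟩).2
  have h4 := Subgroup.mem_map_of_mem N.subtype h3
  rw [Subgroup.map_commutator, Subgroup.map_subgroupOf_eq_of_le inf_le_left] at h4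
  exact Subgroup.commutator_mono inf_le_right inf_le_right h4

end Cfsg.Agent.S1395
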