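import Cfsg.Statements.S1396
import Cfsg.Agent.Lib.OddLocal.PLocalCore
import Cfsg.Agent.Lib.OddLocal.PLength
import Cfsg.Agent.Lib.OddLocal.Transitivity

set_option autoImplicit false
open Cfsg

namespace Cfsg.Agent.S1396

open Subgroup CfsgLib.OddLocal CfsgLib.Comp

universe u
set_option linter.style.haveILetI false
variable {G : Type u} [Group G] [Finite G] {p : ℕ} [hp : Fact p.Prime]

theorem isPConstrained_of_solvable (X : Type u) [Group X] [Finite X] [Group.IsSolvable X] :
    Cfsg.IsPConstrained p X := by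
  rw [isPConstrained_iff_pLayer, pLayer_eq_bot_iff]
  exact eq_bot_of_perfect_of_isSolvable (commutator_layer_self _) inferInstance

/-- The `p`-length one case. -/
theorem le_core_of_omega {X : Type u} [Group X] [Finite X] [Group.IsSolvable X] (hp2 : p ≠ 2)
    (hl : Cfsg.PLengthLE p 1 X) (A Q : Subgroup X) (hA : IsPGroup p A)
    (hom : ∀ x ∈ Subgroup.centralizer (A : Set X), x ^ p = 1 → x ∈ A)
    (hAQ : A ≤ Subgroup.normalizer (Q : Set X)) (hQ : (Nat.card Q).Coprime p) :
    Q ≤ Cfsg.pPrimeCore p X := by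
  haveI := Cfsg.pPrimeCore_normal p X
  set f := QuotientGroup.mk' (Cfsg.pPrimeCore p X) with hf
  have hC := (isPConstrained_iff p X).1 (isPConstrained_of_solvable X)
  set P := Cfsg.pCore p (X ⧸ Cfsg.pPrimeCore p X) with hPdef
  have hP : IsPGroup p P := isPGroup_pCore p _
  haveI hPn : P.Normal := Cfsg.pCore_normal p _
  have hPN : ∀ K : Subgroup (X ⧸ Cfsg.pPrimeCore p X),
      K ≤ Subgroup.normalizer (P : Set (X ⧸ Cfsg.pPrimeCore p X)) := fun K => by
    rw [normalizer_eq_top]; exact le_top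
  have hAP : A.map f ≤ P := by
    obtain ⟨S, hS⟩ := hA.exists_le_sylow
    have hn := pLengthLE_one_sup_sylow hl S
    have hn' : ((S : Subgroup X).map f).Normal := by
      have e : (Cfsg.pPrimeCore p X ⊔ (S : Subgroup X)).map f = (S : Subgroup X).map f := by
        rw [Subgroup.map_sup, (Subgroup.map_eq_bot_iff _).2 (by rw [hf, QuotientGroup.ker_mk']),
          bot_sup_eq]
      rw [← e]
      exact hn.map f (QuotientGroup.mk'_surjective _)
    exact (map_mono hS).trans (le_sSup ⟨hn', S.2.map f⟩)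
  have hQb : (Nat.card (Q.map f)).Coprime p := hQ.coprime_dvd_left (Subgroup.card_map_dvd _ f)
  have hAQb : A.map f ≤ Subgroup.normalizer ((Q.map f : Subgroup _) : Set (X ⧸ Cfsg.pPrimeCore p X)) :=
    (map_mono hAQ).trans (le_normalizer_map f)
  have hcomm : ∀ a ∈ A.map f, ∀ v ∈ Q.map f, v * a = a * v := by
    intro a ha v hv
    have h1 : v * a * v⁻¹ * a⁻¹ ∈ P ⊓ Q.map f := by
      refine ⟨P.mul_mem (hPn.conj_mem _ (hAP ha) v) (P.inv_mem (hAP ha)), ?_⟩
      have : v * a * v⁻¹ * a⁻¹ = v * (a * v⁻¹ * a⁻¹) := by group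
      rw [this]
      exact (Q.map f).mul_mem hv ((Subgroup.mem_normalizer_iff.1 (hAQb ha) v⁻¹).1 (inv_mem hv))
    rw [inf_eq_bot_of_isPGroup hP hQb, Subgroup.mem_bot] at h1
    exact mul_inv_eq_iff_eq_mul.1 (mul_inv_eq_one.1 h1)
  set R := P ⊓ Subgroup.centralizer ((A.map f : Subgroup _) : Set (X ⧸ Cfsg.pPrimeCore p X)) with hR
  have hQC : Q.map f ≤ Subgroup.centralizer ((A.map f : Subgroup _) : Set (X ⧸ Cfsg.pPrimeCore p X)) :=
    fun v hv => Subgroup.mem_centralizer_iff.2 fun a ha => (hcomm a ha v hv).symm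
  have hfix : Q.map f ≤ Subgroup.centralizer ((R : Subgroup _) : Set (X ⧸ Cfsg.pPrimeCore p X)) := by
    refine le_centralizer_of_fixes_order_p hp2 (hP.to_le inf_le_left) ?_ hQb ?_
    · exact le_trans (le_inf (hPN _) (hQC.trans Subgroup.le_normalizer))
        Subgroup.inf_normalizer_le_normalizer_inf
    intro x hx hxp v hv
    have hx2 := hx.2
    rw [← map_centralizer_eq (coprime_card_pPrimeCore p X) hA] at hx2
    obtain ⟨c, hc, rfl⟩ := hx2
    obtain ⟨a, m, hm, hn⟩ := Nat.exists_eq_pow_mul_and_not_dvd (isOfFinOrder_of_finite c).orderOf_pos.ne'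
      p hp.out.ne_one
    have hm' : (orderOf (c ^ m)) = p ^ a := by
      rw [orderOf_pow, hn, Nat.gcd_eq_right (dvd_mul_left m _),
        Nat.mul_div_cancel _ (Nat.pos_of_ne_zero (fun h => hm (by simp [h])))]
    have hcmp : (c ^ m) ^ p = 1 := by
      rw [← orderOf_eq_one_iff]
      refine Nat.eq_one_of_dvd_coprimes ((coprime_card_pPrimeCore p X).pow_right a)
        (Subgroup.orderOf_dvd_natCard _ ?_) ((orderOf_pow_dvd p).trans hm'.dvd)
      rw [← QuotientGroup.eq_one_iff (N := Cfsg.pPrimeCore p X)]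
      show f ((c ^ m) ^ p) = 1
      rw [map_pow, map_pow, ← pow_mul, mul_comm, pow_mul, hxp, one_pow]
    have hcm : c ^ m ∈ A := hom _ (pow_mem hc m) hcmp
    obtain ⟨j, hj⟩ := exists_pow_eq_self_of_coprime (x := f c) (n := m)
      ((((Nat.Prime.coprime_iff_not_dvd hp.out).2 hm).symm).coprime_dvd_right
        (orderOf_dvd_of_pow_eq_one hxp))
    have hxA : f c ∈ A.map f := by
      rw [← hj, ← map_pow, ← map_pow]
      exact Subgroup.mem_map_of_mem f (pow_mem hcm j)
    rw [hcomm _ hxA v hv, mul_inv_cancel_right]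
  have hQP := centralizes_of_fixed hP (hA.map f) (hPN _) hAQb (hPN _) hQb (Or.inl hp2)
    (Subgroup.le_centralizer_iff.1 hfix)
  have h4 : Q.map f = ⊥ := by
    rw [← inf_eq_bot_of_isPGroup hP hQb]
    exact le_antisymm (le_inf (hQP.trans hC) le_rfl) inf_le_right
  rwa [Subgroup.map_eq_bot_iff, hf, QuotientGroup.ker_mk'] at h4


/-- Let G be a minimal simple group of odd order, p a prime dividing the order of G and A an abelian p-subgroup. Suppose either (1) A consists exactly of the elements x of C_G(A) with x^p = 1, and every proper subgroup of G has p-length at most one, or (2) A is normal and self-centralizing in some Sylow p-subgroup of G and has rank at least 2. Then A satisfies the transitivity hypothesis. -/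
theorem result {G : Type*} [Group G] [Finite G] (hG : Cfsg.IsMinSimpleOddOrder G)
    (p : ℕ) [Fact p.Prime] (hp : p ∣ Nat.card G) (A : Subgroup G) (hAp : IsPGroup p A) (hAc : IsMulCommutative A)
    (h : (∀ x ∈ Subgroup.centralizer (A : Set G), x ^ p = 1 ↔ x ∈ A) ∧ (∀ H : Subgroup G, H ≠ ⊤ → Cfsg.PLengthLE p 1 H) ∨
      ∃ P : Sylow p G, Cfsg.IsSCN (P : Subgroup G) A ∧ ¬ Cfsg.PRankLE p 1 A) :
    Cfsg.TransitivityHypothesis A := by
  have hGodd : Odd (Nat.card G) := hG.1
  have hp2 : p ≠ 2 := by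
    rintro rfl
    exact (Nat.not_even_iff_odd.2 hGodd) (even_iff_two_dvd.2 hp)
  have hA : A ≠ ⊥ := by
    rintro rfl
    rcases h with ⟨h, -⟩ | ⟨P, hscn, hr⟩
    · obtain ⟨x, hx⟩ := exists_prime_orderOf_dvd_card' (G := G) p hp
      have h1 : x ^ p = 1 := by rw [← hx]; exact pow_orderOf_eq_one x
      have h2 := (h x (Subgroup.mem_centralizer_iff.2 fun y hy => by
        rw [Subgroup.mem_bot.1 hy, one_mul, mul_one])).1 h1
      rw [Subgroup.mem_bot.1 h2, orderOf_one] at hx
      exact (Fact.out : p.Prime).ne_one hx.symm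
    · refine hr fun B _ _ => ?_
      haveI : Subsingleton (⊥ : Subgroup G) := inferInstance
      rw [Nat.card_eq_one_iff_unique.2 ⟨inferInstance, inferInstance⟩]
      exact Nat.one_le_pow _ _ (Fact.out : p.Prime).pos
  have hAt : A ≠ ⊤ := by
    rintro rfl
    exact hG.2.2.1 ⟨⟨fun a b => congrArg Subtype.val
      (hAc.is_comm.comm (⟨a, Subgroup.mem_top a⟩ : (⊤ : Subgroup G)) ⟨b, Subgroup.mem_top b⟩)⟩⟩
  refine ⟨hA, hAt, fun X hX hAX => le_antisymm (sSup_le ?_) (le_sSup ?_)⟩
  swap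
  · exact ⟨piCoreOf_le _ _, piCoreOf_spec _ _,
      hAX.trans (Subgroup.le_normalizer.trans (le_normalizer_piCoreOf _ _))⟩
  rintro Q ⟨hQX, hQπ, hAQ⟩
  haveI : Group.IsSolvable X := minSimple_isSolvable hG hX
  obtain ⟨n, hn⟩ := IsPGroup.iff_card.1 hAp
  have hn0 : n ≠ 0 := by
    rintro rfl
    exact hA (Subgroup.eq_bot_of_card_eq _ (by rw [hn, pow_zero]))
  have hmem : ∀ r : ℕ, r.Prime → (r ∈ Cfsg.primesNotDvd (Nat.card A) ↔ r ≠ p) := by
    intro r hr
    constructor
    · rintro ⟨-, hrd⟩ rfl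
      exact hrd (hn ▸ dvd_pow_self r hn0)
    · refine fun hne => ⟨hr, fun hd => hne ?_⟩
      rw [hn] at hd
      exact (Nat.prime_dvd_prime_iff_eq hr Fact.out).1 (hr.dvd_of_dvd_pow hd)
  have hQc : (Nat.card Q).Coprime p :=
    ((Nat.Prime.coprime_iff_not_dvd (Fact.out : p.Prime)).2 fun hd =>
      (hmem p Fact.out).1 (hQπ p Fact.out hd) rfl).symm
  have hQc' : (Nat.card (Q.subgroupOf X)).Coprime p := by
    rwa [CfsgLib.Coprime.card_subgroupOf hQX]
  have hAp' : IsPGroup p (A.subgroupOf X) := IsPGroup.comap_subtype hAp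
  have hAQ' : A.subgroupOf X ≤ Subgroup.normalizer ((Q.subgroupOf X : Subgroup X) : Set X) := by
    intro a ha
    rw [Subgroup.mem_normalizer_iff]
    intro v
    exact Subgroup.mem_normalizer_iff.1 (hAQ ha) v
  have hcen : ∀ x : X, x ∈ Subgroup.centralizer ((A.subgroupOf X : Subgroup X) : Set X) →
      (x : G) ∈ Subgroup.centralizer (A : Set G) := fun x hx =>
    Subgroup.mem_centralizer_iff.2 fun a ha =>
      congrArg Subtype.val (Subgroup.mem_centralizer_iff.1 hx ⟨a, hAX ha⟩ ha)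
  have key : Q.subgroupOf X ≤ Cfsg.pPrimeCore p X := by
    rcases h with ⟨h, hl⟩ | ⟨P, hscn, -⟩
    · refine le_core_of_omega hp2 (hl X hX) _ _ hAp' (fun x hx hxp => ?_) hAQ' hQc'
      exact (h (x : G) (hcen x hx)).1 (by rw [← SubmonoidClass.coe_pow, hxp]; rfl)
    · refine le_pPrimeCore_of_invariant (isPConstrained_of_solvable X) (fun h => absurd h hp2)
        _ _ hAp' (fun x hx hxp => ?_) hAQ' hQc'
      -- `A` contains the `p`-elements of its centralizer
      set N := Subgroup.normalizer (A : Set G)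
      have hxC := hcen x hx
      have hT : IsPGroup p (Subgroup.zpowers (x : G)) := by
        have := hxp.map X.subtype
        rwa [MonoidHom.map_zpowers] at this
      have hPN : (P : Subgroup G) ≤ N := hscn.2.1
      obtain ⟨T, hT'⟩ := (IsPGroup.comap_subtype (K := N) hT).exists_le_sylow
      obtain ⟨g, hg⟩ := MulAction.exists_smul_eq N T (P.subtype hPN)
      have hxN : (x : G) ∈ N := Subgroup.centralizer_le_normalizer _ hxC
      have h1 : g * ⟨x, hxN⟩ * g⁻¹ ∈ (P : Subgroup G).subgroupOf N := by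
        rw [← Sylow.coe_subtype P hPN, ← hg]
        exact ⟨⟨x, hxN⟩, hT' (Subgroup.mem_zpowers (x : G)), rfl⟩
      have h2 : (g : G) * x * (g : G)⁻¹ ∈ Subgroup.centralizer (A : Set G) := by
        rw [Subgroup.mem_centralizer_iff]
        intro a ha
        have ha' : (g : G)⁻¹ * a * g ∈ A := (Subgroup.mem_normalizer_iff''.1 g.2 a).1 ha
        have e := Subgroup.mem_centralizer_iff.1 hxC _ ha'
        calc a * (g * x * (g : G)⁻¹) = g * (((g : G)⁻¹ * a * g) * x) * (g : G)⁻¹ := by group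
          _ = g * (x * ((g : G)⁻¹ * a * g)) * (g : G)⁻¹ := by rw [e]
          _ = _ := by group
      have h3 : (g : G) * x * (g : G)⁻¹ ∈ A := hscn.2.2.le ⟨h1, h2⟩
      exact (Subgroup.mem_normalizer_iff.1 g.2 (x : G)).2 h3
  intro v hv
  refine le_piCoreOf (N := (Cfsg.pPrimeCore p X).map X.subtype) (Subgroup.map_subtype_le _) ?_ ?_
    ⟨⟨v, hQX hv⟩, key hv, rfl⟩
  · intro x hx
    haveI := Cfsg.pPrimeCore_normal p X
    have : (⟨x, hx⟩ : X) ∈ Subgroup.normalizer (Cfsg.pPrimeCore p X : Set X) := by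
      rw [Subgroup.normalizer_eq_top]; exact Subgroup.mem_top _
    exact Subgroup.le_normalizer_map X.subtype ⟨_, this, rfl⟩
  · intro r hr hd
    rw [hmem r hr]
    rintro rfl
    rw [Subgroup.card_map_of_injective X.subtype_injective] at hd
    exact hr.ne_one (Nat.eq_one_of_dvd_coprimes (coprime_card_pPrimeCore r X) hd dvd_rfl)

end Cfsg.Agent.S1396
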