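import Cfsg.Statements.S1432
import Cfsg.Agent.Lib.BG14.PDataStar
import Cfsg.Agent.Lib.BG.SigmaOfFixed

set_option autoImplicit false
open Cfsg

namespace Cfsg.Agent.S1432

open Subgroup CfsgLib.PLocal CfsgLib.OddLocal CfsgLib.BG CfsgLib.BG14 in
theorem main {G : Type*} [Group G] [Finite G] (hG : Cfsg.IsMinSimpleOddOrder G)
    {M : Subgroup G} (hM : IsCoatom M) {x : G} (hx : x ∈ Cfsg.sigmaCore M) (hx1 : x ≠ 1) {x' : G}
    (hx'M : x' ∈ M) (hc : x' * x = x * x') (hx'1 : x' ≠ 1)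
    (hσ : ∀ p : ℕ, p.Prime → p ∣ orderOf x' → p ∉ Cfsg.sigma M) :
    ((∀ p : ℕ, p.Prime → p ∣ orderOf x' → p ∈ Cfsg.kappa M) ∧ centralizer ({x} : Set G) ≤ M) ∨
      ((∀ p : ℕ, p.Prime → p ∣ orderOf x' → p ∈ Cfsg.tau2 M) ∧
        (∃ L : Subgroup G, IsCoatom L ∧ ∀ p : ℕ, p.Prime → p ∣ orderOf x' → p ∈ Cfsg.sigma L) ∧
        (centralizer ({x'} : Set G) ≤ M ∧
          ∀ L : Subgroup G, IsCoatom L → centralizer ({x'} : Set G) ≤ L → L = M)) := by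
  obtain ⟨q, i, hq, -, hi⟩ := exists_prime_pow hx1
  have hzp : (orderOf (x ^ i)).Prime := hi.symm ▸ hq
  have hzσ : x ^ i ∈ Cfsg.sigmaCore M := pow_mem hx i
  have hw : ∀ p : ℕ, p.Prime → p ∣ orderOf x' → ∃ w ∈ M, orderOf w = p ∧ Commute w (x ^ i) ∧
      Commute w x ∧ ∀ a : G, Commute a x' → Commute a w := by
    intro p hp hd
    refine ⟨x' ^ (orderOf x' / p), pow_mem hx'M _, exists_pow_orderOf_eq hd,
      (show Commute x' x from hc).pow_pow _ _, (show Commute x' x from hc).pow_left _,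
      fun a ha => ha.pow_right _⟩
  by_cases h2 : ∀ p : ℕ, p.Prime → p ∣ orderOf x' → p ∈ Cfsg.tau2 M
  · refine Or.inr ⟨h2, ?_, centralizer_tau2_element hG hM hx'M hx'1 h2 hx hx1 hc⟩
    obtain ⟨p, hp, hd⟩ := Nat.exists_prime_and_dvd (mt orderOf_eq_one_iff.mp hx'1)
    haveI := Fact.mk hp
    obtain ⟨E, hE⟩ := CfsgLib.BG14.exists_compl hG hM
    obtain ⟨A, A₀, hAE, hA⟩ := tau2_square hG hM hE (h2 p hp hd)
    obtain ⟨L, hL, hNL, hpL, -⟩ := exists_max_over_square hG hM hA.not_sigma hA.sq hA.le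
    refine ⟨L, hL, fun r hr hrd => ?_⟩
    haveI := Fact.mk hr
    rcases eq_or_ne r p with rfl | hrp
    · exact hpL
    by_contra hrL
    obtain ⟨B, B₀, hBE, hB⟩ := tau2_square hG hM hE (h2 r hr hrd)
    obtain ⟨⟨hEA, -⟩, -, -⟩ := i1418 hG M hM E hE p (h2 p hp hd) A ⟨hAE, hA.sq.1, hA.sq.2⟩
    obtain ⟨⟨hEB, -⟩, -, -⟩ := i1418 hG M hM E hE r (h2 r hr hrd) B ⟨hBE, hB.sq.1, hB.sq.2⟩
    have hAB : A ⊓ B = ⊥ := CfsgLib.Coprime.inf_eq_bot_of_coprime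
      (coprime_pgroup hA.sq.isPGroup hB.sq.isPGroup hrp.symm)
    have hcm : A ≤ centralizer (B : Set G) :=
      le_centralizer_of_normalize (hAE.trans hEB) (hBE.trans hEA) hAB
    have hBL : B ≤ L := (hBE.trans hEA).trans hNL
    have hAσ : A ≤ Cfsg.sigmaCore L := le_sigmaCore_of_pi hG hL (le_normalizer.trans hNL)
      fun t ht htd => (prime_dvd_pgroup_card hA.sq.isPGroup ht htd) ▸ hpL
    exact hA.sq.ne_bot (le_bot_iff.mp ((i1417 hG L hL r (mem_tau2_of_sq hG hL hrL hBL hB.sq) B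
      ⟨hBL, hB.sq.1, hB.sq.2⟩).2.2.2.1 ▸ le_inf hAσ hcm))
  push Not at h2
  obtain ⟨p, hp, hd, hp2⟩ := h2
  obtain ⟨k, hkM, hko, hkz, hkx, hka⟩ := hw p hp hd
  have hkτ : orderOf k ∈ Cfsg.tau1 M ∨ orderOf k ∈ Cfsg.tau3 M := by
    rw [hko]
    exact (tau_cases hG hM hp (hd.trans (M.orderOf_dvd_natCard hx'M)) (hσ p hp hd)).resolve_left hp2
  refine Or.inl ⟨fun r hr hrd => ?_, (CfsgLib.BG14.centralizer_singleton_le_pow x i).trans
    (point_le hG hM hkM (hko.symm ▸ hp) hkτ hzσ hzp hkz)⟩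
  obtain ⟨b, hbM, hbo, hbz, hbx, hba⟩ := hw r hr hrd
  rcases tau_cases hG hM hr (hrd.trans (M.orderOf_dvd_natCard hx'M)) (hσ r hr hrd) with h | h | h
  · exact (false_of_mixed hG hM hkM (hko.symm ▸ hp) hkτ hbM (hbo.symm ▸ hr) (hbo.symm ▸ h) hzσ hzp
      hkz hbz (hba k (hka x' (Commute.refl x')).symm)).elim
  all_goals
    rw [← hbo]
    refine mem_kappa_of_fix hG hM hbM (hbo.symm ▸ hr) (hbo.symm ▸ hσ r hr hrd)
      (hbo.symm ▸ tau13_prankLE hG hM (p := r) (by tauto)) fun hb => hx1 (mem_bot.mp (hb ▸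
        (⟨hx, mem_centralizer_singleton_iff.mpr hbx.symm.eq⟩ :
          x ∈ Cfsg.sigmaCore M ⊓ centralizer ({b} : Set G))))

/-- Let G be a minimal simple group of odd order, M a maximal subgroup, x a non-identity element of M_σ and x' a non-identity element of C_M(x) no prime divisor of whose order lies in σ(M). Then either all prime divisors of the order of x' lie in κ(M) and C_G(x) ≤ M; or all of them lie in τ₂(M), they all lie in σ(L) for a single maximal subgroup L, and C_G(x') ≤ M with M the unique maximal subgroup containing C_G(x'). -/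
theorem result {G : Type*} [Group G] [Finite G] (hG : Cfsg.IsMinSimpleOddOrder G)
    (M : Subgroup G) (hM : IsCoatom M) (x : G) (hx : x ∈ Cfsg.sigmaCore M) (hx1 : x ≠ 1) (x' : G) (hx' : x' ∈ M ⊓ Subgroup.centralizer ({x} : Set G)) (hx'1 : x' ≠ 1)
    (hσ : ∀ p : ℕ, p.Prime → p ∣ orderOf x' → p ∉ Cfsg.sigma M) :
    ((∀ p : ℕ, p.Prime → p ∣ orderOf x' → p ∈ Cfsg.kappa M) ∧ Subgroup.centralizer ({x} : Set G) ≤ M) ∨
      ((∀ p : ℕ, p.Prime → p ∣ orderOf x' → p ∈ Cfsg.tau2 M) ∧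
        (∃ L : Subgroup G, IsCoatom L ∧ ∀ p : ℕ, p.Prime → p ∣ orderOf x' → p ∈ Cfsg.sigma L) ∧
        (Subgroup.centralizer ({x'} : Set G) ≤ M ∧ ∀ L : Subgroup G, IsCoatom L → Subgroup.centralizer ({x'} : Set G) ≤ L → L = M)) := by
  open Subgroup CfsgLib.PLocal CfsgLib.OddLocal CfsgLib.BG CfsgLib.BG14 in
  exact main hG hM hx hx1 hx'.1 (mem_centralizer_singleton_iff.mp hx'.2) hx'1 hσ

end Cfsg.Agent.S1432
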