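import Cfsg.Statements.S1419
import Cfsg.Agent.Lib.BG.Tau2Facts

set_option autoImplicit false
open Cfsg

namespace Cfsg.Agent.S1419

/-- Let G be a minimal simple group of odd order whose Sylow p-subgroups are nonabelian, M a maximal subgroup with p ∈ τ₂(M), E a complement to M_σ in M and A ≤ E elementary abelian of order p ^ 2. Then τ₂(M) = {p}; A₀ = A ∩ C_G(M_σ) has order p and F(M) is generated by M_σ and A₀ (a direct product); and every subgroup X ≠ A₀ of E of order p satisfies M_σ ∩ C_G(X) = 1 and C_G(X) ⊄ M. -/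
theorem result {G : Type*} [Group G] [Finite G] (hG : Cfsg.IsMinSimpleOddOrder G)
    (M : Subgroup G) (hM : IsCoatom M) (E : Subgroup G) (hE : Cfsg.IsComplIn E (Cfsg.sigmaCore M) M) (p : ℕ) [Fact p.Prime] (hp : p ∈ Cfsg.tau2 M) (hS : ∀ S : Sylow p G, ¬ IsMulCommutative (S : Subgroup G))
    (A : Subgroup G) (hA : (A ≤ E ∧ Cfsg.IsElementaryAbelian p A ∧ Nat.card A = p ^ 2)) :
    Cfsg.tau2 M = {p} ∧
      (Nat.card ↥(A ⊓ Subgroup.centralizer (Cfsg.sigmaCore M : Set G)) = p ∧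
        Cfsg.fittingOf M = Cfsg.sigmaCore M ⊔ (A ⊓ Subgroup.centralizer (Cfsg.sigmaCore M : Set G))) ∧
      ∀ X : Subgroup G, X ≤ E → Nat.card X = p → X ≠ A ⊓ Subgroup.centralizer (Cfsg.sigmaCore M : Set G) →
        Cfsg.sigmaCore M ⊓ Subgroup.centralizer (X : Set G) = ⊥ ∧ ¬ Subgroup.centralizer (X : Set G) ≤ M := by
  open Subgroup in
  open CfsgLib.BG in
  obtain ⟨hAE, hAe, hAc⟩ := hA
  have hσ := hp.2.1
  have hA' : IsSq p A := ⟨hAe, hAc⟩
  obtain ⟨A₀, h⟩ := exists_exc hG hM hσ hA' (hAE.trans hE.1)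
  obtain ⟨P, hPE, hAP⟩ := CfsgLib.PLocal.exists_sylowIn_le hA'.isPGroup hAE
  have hP := sylowIn_of_compl hG hM hE hσ hPE
  obtain ⟨S, hS', hPS⟩ := CfsgLib.PLocal.exists_sylowIn_le hP.2.1 (le_top (a := P))
  have hidx : ¬ p ∣ S.index := by rw [← Subgroup.relIndex_top_right]; exact hS'.2.2
  have hne : P ≠ S := fun e => hS (hS'.2.1.toSylow hidx) (by
    subst e
    exact (h.sylow_abelian hG hM hP hAP).1)
  have hτ : Cfsg.tau2 M = {p} := by
    refine Set.eq_singleton_iff_unique_mem.mpr ⟨hp, fun q hq => ?_⟩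
    by_contra hqp
    haveI : Fact q.Prime := ⟨hq.1⟩
    obtain ⟨B, B₀, hBE, h'⟩ := tau2_square hG hM hE hq
    have htop := h.sylow_top_of_pair hG hM h' (Ne.symm hqp) hE hAE hBE hP hAP
    exact hne (htop.eq_of_le hS'.2.1 le_top hPS)
  obtain ⟨hA₀, hlines⟩ := h.nonabelian_lines hG hM hP hAP hS' hPS hne
  rw [hA₀]
  refine ⟨hτ, ⟨h.line.2, h.fittingOf_eq hG hM hP hAP hS' hPS hne hτ⟩, fun X hXE hXc hX0 => ?_⟩
  have hXA : X ≤ A := by
    obtain ⟨e, he, heP⟩ := hPE.exists_conj_le (isPGroup_of_card_prime hXc) hXE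
    have hle : CfsgLib.PLocal.conjMap e X ≤ A := fun x hx =>
      ((h.sylow_abelian hG hM hP hAP).2.1 x (heP hx)).mp
        (by
          have := orderOf_dvd_natCard (⟨x, hx⟩ : CfsgLib.PLocal.conjMap e X)
          rw [CfsgLib.PLocal.card_conjMap, hXc, Subgroup.orderOf_mk] at this
          exact orderOf_dvd_iff_pow_eq_one.mp this)
    have h2 := CfsgLib.PLocal.conjMap_mono (g := e⁻¹) hle
    rw [CfsgLib.PLocal.conjMap_inv_conjMap,
      CfsgLib.PLocal.conjMap_eq_self_iff.mpr (inv_mem (h.compl_le_normalizer hG hM hE hAE he))] at h2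
    exact h2
  exact hlines X ⟨hXA, hXc⟩ hX0


end Cfsg.Agent.S1419
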