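import Cfsg.Statements.S1427
import Cfsg.Agent.Lib.BG.PrimeAction

set_option autoImplicit false
open Cfsg

namespace Cfsg.Agent.S1427

/-- Let G be a minimal simple group of odd order, M a maximal subgroup, E a complement to M_σ in M, and S a nontrivial cyclic Sylow subgroup of E (for some prime). Then M_σ ∩ C_G(x) = M_σ ∩ C_G(S) for every non-identity x ∈ S. -/
theorem result {G : Type*} [Group G] [Finite G] (hG : Cfsg.IsMinSimpleOddOrder G)
    (M : Subgroup G) (hM : IsCoatom M) (E : Subgroup G) (hE : Cfsg.IsComplIn E (Cfsg.sigmaCore M) M) (p : ℕ) [Fact p.Prime] (S : Sylow p E) (hS1 : (S : Subgroup E) ≠ ⊥) (hSc : IsCyclic (S : Subgroup E)) :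
    ∀ x ∈ (S : Subgroup E).map E.subtype, x ≠ 1 →
        Cfsg.sigmaCore M ⊓ Subgroup.centralizer ({x} : Set G) = Cfsg.sigmaCore M ⊓ Subgroup.centralizer (((S : Subgroup E).map E.subtype : Subgroup G) : Set G) := by
  open Subgroup in
  open CfsgLib.BG in
  open CfsgLib.PLocal in
  intro x hx hx1
  set P := (S : Subgroup E).map E.subtype with hP
  have hPE : SylowIn p P E := sylowIn_map S
  have hP1 : P ≠ ⊥ := fun e => hx1 (mem_bot.mp (e ▸ hx))
  have hσ : p ∉ Cfsg.sigma M := not_sigma_of_dvd_compl hG hM hE Fact.out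
    ((dvd_card_of_pgroup_ne_bot hPE.2.1 hP1).trans (card_dvd_of_le hPE.1))
  have hPM := sylowIn_of_compl hG hM hE hσ hPE
  have hPc : IsCyclic P :=
    isCyclic_of_surjective ((S : Subgroup E).equivMapOfInjective _ E.subtype_injective).toMonoidHom
      (MulEquiv.surjective _)
  refine prime_action_cyclic hG hM hσ ?_ hPE.2.1 hPM.1 hx hx1
  by_contra hr
  obtain ⟨A, hAM, hA⟩ := exists_sq_le_of_not_prankLE le_rfl hr
  obtain ⟨c, -, hc⟩ := hPM.exists_conj_le hA.isPGroup hAM
  haveI := hPc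
  exact (hA.conjMap c).not_isCyclic (isCyclic_of_le hc)


end Cfsg.Agent.S1427
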