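import Cfsg.Statements.S0228
import Cfsg.Agent.Lib.Invol.Basic
import Mathlib.GroupTheory.SpecificGroups.Alternating

set_option autoImplicit false
open Cfsg

namespace Cfsg.Agent.S0228

/-- A group of order 12 in which no involution is central is isomorphic to the alternating group on four letters. -/
theorem result {G : Type*} [Group G] [Finite G] (hG : Nat.card G = 12) (hz : ∀ z : G, orderOf z = 2 → z ∉ Subgroup.center G) : Nonempty (G ≃* alternatingGroup (Fin 4)) := by
  obtain ⟨P⟩ := (inferInstance : Nonempty (Sylow 3 G))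
  have hP : Nat.card P = 3 := by
    rw [P.card_eq_multiplicity, hG, show (12 : ℕ) = 3 * 4 from rfl, Nat.factorization_mul (by norm_num) (by norm_num),
      Finsupp.add_apply, Nat.Prime.factorization_self (by norm_num),
      Nat.factorization_eq_zero_of_not_dvd (by norm_num : ¬ 3 ∣ 4)]
    rfl
  have hcardN : Nat.card (Sylow 3 G) ∣ 4 := by
    have h := P.card_dvd_index
    have hi := (P : Subgroup G).card_mul_index
    rw [hP, hG] at hi
    rwa [show (P : Subgroup G).index = 4 by omega] at h
  have hmod := card_sylow_modEq_one 3 G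
  obtain h1 | h4 : Nat.card (Sylow 3 G) = 1 ∨ Nat.card (Sylow 3 G) = 4 := by
    have hle := Nat.le_of_dvd (by norm_num) hcardN
    have hpos := Nat.card_pos (α := Sylow 3 G)
    unfold Nat.ModEq at hmod
    rcases (show Nat.card (Sylow 3 G) = 1 ∨ Nat.card (Sylow 3 G) = 2 ∨ Nat.card (Sylow 3 G) = 3 ∨
      Nat.card (Sylow 3 G) = 4 by omega) with h | h | h | h <;> omega
  · exfalso
    have : Subsingleton (Sylow 3 G) := (Nat.card_eq_one_iff_unique.1 h1).1
    have hPn := P.normal_of_subsingleton
    have hPcyc : IsCyclic (P : Subgroup G) := isCyclic_of_prime_card (p := 3) hP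
    set C := Subgroup.centralizer ((P : Subgroup G) : Set G)
    have hPC : (P : Subgroup G) ≤ C := Subgroup.le_centralizer_iff_isMulCommutative.2 inferInstance
    -- the index of the centraliser is at most two
    obtain ⟨⟨u, huP⟩, hu⟩ := hPcyc.exists_generator
    have hu3 : u ^ 3 = 1 := by
      have := pow_card_eq_one' (x := (⟨u, huP⟩ : (P : Subgroup G)))
      rw [hP] at this
      simpa using congrArg Subtype.val this
    have hgen : ∀ w ∈ (P : Subgroup G), w ∈ Subgroup.zpowers u := fun w hw => by
      obtain ⟨i, hi⟩ := hu ⟨w, hw⟩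
      exact ⟨i, congrArg Subtype.val hi⟩
    have hsq : ∀ g : G, g * g * u * (g * g)⁻¹ = u := by
      intro g
      have hg := hPn.conj_mem u huP g
      obtain ⟨i, hi⟩ := hgen _ hg
      simp only at hi
      have e : g * g * u * (g * g)⁻¹ = u ^ (i * i) := by
        calc _ = g * (g * u * g⁻¹) * g⁻¹ := by group
          _ = g * u ^ i * g⁻¹ := by rw [hi]
          _ = _ := by rw [CfsgLib.Invol.conj_zpow_eq, ← hi, ← zpow_mul]
      rw [e]
      have hu1 : u ≠ 1 := by
        rintro rfl
        have hbot : (P : Subgroup G) = ⊥ := by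
          rw [eq_bot_iff]
          intro w hw
          simpa using hgen w hw
        rw [hbot, Subgroup.card_bot] at hP
        omega
      have ho : orderOf u = 3 := orderOf_eq_prime hu3 hu1
      have hi3 : ¬ (3 : ℤ) ∣ i := fun h => by
        rw [← Nat.cast_ofNat, ← ho, orderOf_dvd_iff_zpow_eq_one] at h
        rw [h, eq_comm, conj_eq_one_iff] at hi
        exact hu1 hi
      nth_rewrite 2 [← zpow_one u]
      rw [zpow_eq_zpow_iff_modEq, ho]
      have hm : i % 3 = 1 ∨ i % 3 = 2 := by omega
      rcases hm with h | h <;> simp [Int.ModEq, Int.mul_emod, h]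
    have hsqC : ∀ g : G, g * g ∈ C := by
      intro g
      rw [Subgroup.mem_centralizer_iff]
      intro w hw
      obtain ⟨i, rfl⟩ := hgen w hw
      exact ((Commute.zpow_right (mul_inv_eq_iff_eq_mul.1 (hsq g)) i)).eq.symm
    -- so there is an involution in the centraliser
    obtain ⟨T⟩ := (inferInstance : Nonempty (Sylow 2 G))
    have hT : Nat.card T = 4 := by
      rw [T.card_eq_multiplicity, hG, show (12 : ℕ) = 2 ^ 2 * 3 from rfl,
        Nat.factorization_mul (by norm_num) (by norm_num), Finsupp.add_apply,
        Nat.Prime.factorization_pow (by norm_num), Finsupp.single_eq_same,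
        Nat.factorization_eq_zero_of_not_dvd (by norm_num : ¬ 2 ∣ 3)]
      rfl
    obtain ⟨t, htC, ht⟩ : ∃ t ∈ C, orderOf t = 2 := by
      obtain ⟨s, hs⟩ := exists_prime_orderOf_dvd_card' (G := G) 2 (by rw [hG]; norm_num)
      by_cases h : ∃ g ∈ (T : Subgroup G), g * g ≠ 1
      · obtain ⟨g, hgT, hg⟩ := h
        have h4 := pow_card_eq_one' (x := (⟨g, hgT⟩ : (T : Subgroup G)))
        rw [hT] at h4
        have h4' : g ^ 4 = 1 := by simpa using congrArg Subtype.val h4
        exact ⟨g * g, hsqC g, CfsgLib.Invol.invol_of_mul_self (by rw [← h4']; simp [pow_succ, mul_assoc]) hg⟩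
      · push Not at h
        by_contra hcon
        push Not at hcon
        have hout : ∀ w ∈ (T : Subgroup G), w ≠ 1 → w * u * w⁻¹ = u⁻¹ := by
          intro w hw hw1
          obtain ⟨i, hi⟩ := hgen _ (hPn.conj_mem u huP w)
          simp only at hi
          rcases (show i % 3 = 0 ∨ i % 3 = 1 ∨ i % 3 = 2 by omega) with e | e | e
          · exfalso
            obtain ⟨j, rfl⟩ : (3 : ℤ) ∣ i := by omega
            rw [zpow_mul, show (3 : ℤ) = ((3 : ℕ) : ℤ) from rfl, zpow_natCast, hu3, one_zpow,
              eq_comm, conj_eq_one_iff] at hi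
            exact hcon w (Subgroup.mem_centralizer_iff.2 fun v hv => by
              obtain ⟨k, rfl⟩ := hgen v hv
              simp [hi]) (CfsgLib.Invol.invol_of_mul_self (h w hw) hw1)
          · exfalso
            have hui : u ^ i = u := by
              obtain ⟨j, rfl⟩ : ∃ j, i = 3 * j + 1 := ⟨i / 3, by omega⟩
              rw [zpow_add, zpow_mul, show (3 : ℤ) = ((3 : ℕ) : ℤ) from rfl, zpow_natCast, hu3,
                one_zpow, one_mul, zpow_one]
            rw [hui] at hi
            exact hcon w (Subgroup.mem_centralizer_iff.2 fun v hv => by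
              obtain ⟨k, rfl⟩ := hgen v hv
              exact ((Commute.zpow_right (mul_inv_eq_iff_eq_mul.1 hi.symm) k)).eq.symm)
              (CfsgLib.Invol.invol_of_mul_self (h w hw) hw1)
          · obtain ⟨j, rfl⟩ : ∃ j, i = 3 * j + (-1) := ⟨(i + 1) / 3, by omega⟩
            rw [zpow_add, zpow_mul, show (3 : ℤ) = ((3 : ℕ) : ℤ) from rfl, zpow_natCast, hu3, one_zpow,
              one_mul, zpow_neg_one] at hi
            exact hi.symm
        classical
        have : Fintype (T : Subgroup G) := Fintype.ofFinite _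
        have hc : 2 < Fintype.card (T : Subgroup G) := by rw [← Nat.card_eq_fintype_card, hT]; norm_num
        obtain ⟨a, b, c, hab, hac, hbc⟩ := Fintype.two_lt_card_iff.1 hc
        obtain ⟨a, b, ha, hb, hne⟩ : ∃ a b : (T : Subgroup G), a ≠ 1 ∧ b ≠ 1 ∧ a ≠ b := by
          by_cases ha : a = 1
          · exact ⟨b, c, fun h => hab (ha.trans h.symm), fun h => hac (ha.trans h.symm), hbc⟩
          by_cases hb : b = 1
          · exact ⟨a, c, ha, fun h => hbc (hb.trans h.symm), hac⟩
          exact ⟨a, b, ha, hb, hab⟩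
        have h1' := hout a a.2 (fun e => ha (Subtype.ext e))
        have h2' := hout b b.2 (fun e => hb (Subtype.ext e))
        have hab' : (a : G) * b ≠ 1 := fun e => hne (Subtype.ext (by
          rw [eq_inv_of_mul_eq_one_left e]; exact inv_eq_of_mul_eq_one_right (h _ b.2)))
        refine hcon _ (Subgroup.mem_centralizer_iff.2 fun v hv => ?_)
          (CfsgLib.Invol.invol_of_mul_self (h _ (mul_mem a.2 b.2)) hab')
        obtain ⟨k, rfl⟩ := hgen v hv
        refine ((Commute.zpow_right (?_ : Commute ((a : G) * b) u) k)).eq.symm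
        refine mul_inv_eq_iff_eq_mul.1 ?_
        calc (a : G) * b * u * ((a : G) * b)⁻¹ = a * (b * u * (b : G)⁻¹) * (a : G)⁻¹ := by group
          _ = u := by rw [h2', ← conj_inv, h1', inv_inv]
    have htu : Commute t u := (Subgroup.mem_centralizer_iff.1 htC u huP).symm
    -- `G = P T` with `T` abelian, or the centraliser has a unique involution
    have hTab : ∀ a ∈ (T : Subgroup G), ∀ b ∈ (T : Subgroup G), a * b = b * a := fun a ha b hb =>
      congrArg Subtype.val (IsPGroup.commutative_of_card_eq_prime_sq (p := 2) (G := (T : Subgroup G))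
        (by rw [hT]; norm_num) ⟨a, ha⟩ ⟨b, hb⟩)
    obtain ⟨g₀, hg₀⟩ := CfsgLib.Invol.exists_conj_invol_mem_sylow T ht
    set t' := g₀ * t * g₀⁻¹
    have ht'C : Commute t' u := by
      have hn : C.Normal := inferInstance
      exact (Subgroup.mem_centralizer_iff.1 (hn.conj_mem t htC g₀) u huP).symm
    refine hz t' (by rw [CfsgLib.Invol.orderOf_conj_eq, ht]) (Subgroup.mem_center_iff.2 fun g => ?_)
    have htop : (P : Subgroup G) ⊔ (T : Subgroup G) = ⊤ := by
      refine Subgroup.eq_top_of_le_card _ ?_
      rw [hG]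
      have d1 := hP ▸ Subgroup.card_dvd_of_le (le_sup_left : (P : Subgroup G) ≤ (P : Subgroup G) ⊔ (T : Subgroup G))
      have d2 := hT ▸ Subgroup.card_dvd_of_le (le_sup_right : (T : Subgroup G) ≤ (P : Subgroup G) ⊔ (T : Subgroup G))
      exact Nat.le_of_dvd Nat.card_pos (Nat.Coprime.mul_dvd_of_dvd_of_dvd (by norm_num : Nat.Coprime 3 4) d1 d2)
    have hmem : g ∈ (P : Subgroup G) ⊔ (T : Subgroup G) := htop ▸ Subgroup.mem_top g
    have hle : (P : Subgroup G) ⊔ (T : Subgroup G) ≤ Subgroup.centralizer ({t'} : Set G) := by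
      refine sup_le (fun w hw => ?_) (fun w hw => ?_)
      · obtain ⟨k, rfl⟩ := hgen w hw
        exact Subgroup.mem_centralizer_singleton_iff.2 (ht'C.zpow_right k).eq.symm
      · exact Subgroup.mem_centralizer_singleton_iff.2 (hTab w hw t' hg₀)
    exact Subgroup.mem_centralizer_singleton_iff.1 (hle hmem)
  · -- the action on the four Sylow 3-subgroups
    classical
    have : Fintype (Sylow 3 G) := Fintype.ofFinite _
    let f : G →* Equiv.Perm (Sylow 3 G) := MulAction.toPermHom G (Sylow 3 G)
    have hidx : (Subgroup.normalizer ((P : Subgroup G) : Set G)).index = 4 := by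
      exact (Sylow.card_eq_index_normalizer P).symm.trans h4
    have hNP : Subgroup.normalizer ((P : Subgroup G) : Set G) = (P : Subgroup G) := by
      refine (Subgroup.eq_of_le_of_card_ge Subgroup.le_normalizer ?_).symm
      have h := (Subgroup.normalizer ((P : Subgroup G) : Set G)).card_mul_index
      rw [hidx, hG] at h
      rw [hP]; omega
    have hker : f.ker = ⊥ := by
      have hle : f.ker ≤ (P : Subgroup G) := by
        intro g hg
        rw [← hNP]
        exact Sylow.smul_eq_iff_mem_normalizer.1 (Equiv.Perm.ext_iff.1 hg P)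
      rcases (Nat.dvd_prime Nat.prime_three).1 (hP ▸ Subgroup.card_dvd_of_le hle) with h | h
      · exact Subgroup.eq_bot_of_card_eq _ h
      · exfalso
        have hPn : (P : Subgroup G).Normal := by
          rw [← Subgroup.eq_of_le_of_card_ge hle (by rw [hP, h])]
          infer_instance
        have : Unique (Sylow 3 G) := Sylow.unique_of_normal P hPn
        rw [Nat.card_unique] at h4
        omega
    have hinj : Function.Injective f := (MonoidHom.ker_eq_bot_iff f).1 hker
    have hS4 : Nat.card (Equiv.Perm (Sylow 3 G)) = 24 := by rw [Nat.card_perm, h4]; rfl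
    have hidx2 : f.range.index = 2 := by
      have h := f.range.card_mul_index
      rw [← Nat.card_congr (MonoidHom.ofInjective hinj).toEquiv, hG, hS4] at h
      omega
    have hA := Equiv.Perm.eq_alternatingGroup_of_index_eq_two hidx2
    let e := Fintype.equivFinOfCardEq (by rw [← Nat.card_eq_fintype_card, h4] : Fintype.card (Sylow 3 G) = 4)
    exact ⟨((MonoidHom.ofInjective hinj).trans (MulEquiv.subgroupCongr hA)).trans e.altCongrHom⟩

end Cfsg.Agent.S0228
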