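import Cfsg.Statements.S1012
import Cfsg.Agent.Lib.Transfer.SimpleCount

set_option autoImplicit false
open Cfsg

namespace Cfsg.Agent.S1012

/-- A group of order 24 containing no element of order 6 is isomorphic to the symmetric group of degree 4. -/
theorem result {G : Type*} [Group G] [Finite G] (h : Nat.card G = 24) (h6 : ∀ g : G, orderOf g ≠ 6) : Nonempty (G ≃* Equiv.Perm (Fin 4)) := by
  classical
  have : Fact (Nat.Prime 3) := ⟨Nat.prime_three⟩
  have : Fact (Nat.Prime 2) := ⟨Nat.prime_two⟩
  let P : Sylow 3 G := default
  have hP : ∀ Q : Sylow 3 G, Nat.card (Q : Subgroup G) = 3 := by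
    intro Q
    rw [Q.card_eq_multiplicity, h, show (24 : ℕ) = 3 * 8 by norm_num,
      Nat.factorization_mul (by norm_num) (by norm_num), Finsupp.add_apply,
      Nat.Prime.factorization_self Nat.prime_three,
      Nat.factorization_eq_zero_of_not_dvd (show ¬ 3 ∣ 8 by norm_num), add_zero, pow_one]
  obtain ⟨x, hx⟩ := exists_prime_orderOf_dvd_card' (G := G) 3 (by rw [h]; norm_num)
  -- no involution commutes with an element of order three
  have hnc : ∀ y z : G, orderOf y = 3 → orderOf z = 2 → ¬ Commute y z := by
    intro y z hy hz hc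
    exact h6 (y * z) (by rw [hc.orderOf_mul_eq_mul_orderOf_of_coprime (by rw [hy, hz]; norm_num), hy, hz])
  have hn : Nat.card (Sylow 3 G) = 4 := by
    have h1 := card_sylow_modEq_one 3 G
    have h2 : Nat.card (Sylow 3 G) ∣ (P : Subgroup G).index := P.card_dvd_index
    have h3 : (P : Subgroup G).index = 8 := by
      have := (P : Subgroup G).card_mul_index
      rw [hP, h] at this
      omega
    rw [h3] at h2
    have h4 := Nat.le_of_dvd (by norm_num) h2
    by_contra hne
    have hone : Nat.card (Sylow 3 G) = 1 := by
      rw [Nat.ModEq] at h1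
      revert h2 h1 hne
      interval_cases (Nat.card (Sylow 3 G)) <;> norm_num
    have hsub : Subsingleton (Sylow 3 G) := (Nat.card_eq_one_iff_unique.1 hone).1
    have hPn : (P : Subgroup G).Normal := by
      rw [← Subgroup.normalizer_eq_top_iff, eq_top_iff]
      exact fun g _ => Sylow.smul_eq_iff_mem_normalizer.1 (Subsingleton.elim (g • P) P)
    set C := Subgroup.centralizer ((P : Subgroup G) : Set G)
    have hidx : C.index ∣ 2 := by
      have e : Nat.card (MulAut (P : Subgroup G)) = 2 := by
        have := isCyclic_of_prime_card (hP P)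
        rw [IsCyclic.card_mulAut, hP P, Nat.totient_prime Nat.prime_three]
      have hk : (MulAut.conjNormal (H := (P : Subgroup G))).ker = C := by
        ext g
        rw [MonoidHom.mem_ker, Subgroup.mem_centralizer_iff]
        constructor
        · intro hg y hy
          have := congrArg (fun a : MulAut (P : Subgroup G) => ((a ⟨y, hy⟩ : (P : Subgroup G)) : G)) hg
          simp only [MulAut.conjNormal_apply, MulAut.one_apply] at this
          exact (mul_inv_eq_iff_eq_mul.1 this).symm
        · intro hg
          ext y
          rw [MulAut.conjNormal_apply, MulAut.one_apply, ← hg y y.2, mul_inv_cancel_right]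
      rw [← hk, Subgroup.index_ker, ← e]
      exact Subgroup.card_subgroup_dvd_card _
    have h2C : 2 ∣ Nat.card C := by
      have := C.card_mul_index
      rw [h] at this
      rcases (Nat.dvd_prime Nat.prime_two).1 hidx with e | e <;> rw [e] at this <;> omega
    obtain ⟨z, hz⟩ := exists_prime_orderOf_dvd_card' (G := C) 2 h2C
    have hxP : x ∈ (P : Subgroup G) := by
      obtain ⟨Q, hQ⟩ := (IsPGroup.of_card (n := 1)
        (show Nat.card (Subgroup.zpowers x) = 3 ^ 1 by rw [Nat.card_zpowers, hx, pow_one])).exists_le_sylow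
      exact Subsingleton.elim Q P ▸ hQ (Subgroup.mem_zpowers x)
    exact hnc x z hx (by rw [Subgroup.orderOf_coe, hz]) (Subgroup.mem_centralizer_iff.1 z.2 x hxP)
  let f := MulAction.toPermHom G (Sylow 3 G)
  have hker : f.ker = ⊥ := by
    have hKN : ∀ Q : Sylow 3 G, f.ker ≤ Subgroup.normalizer ((Q : Subgroup G) : Set G) := fun Q g hg =>
      Sylow.smul_eq_iff_mem_normalizer.1 (congrArg (fun π : Equiv.Perm (Sylow 3 G) => π Q) (MonoidHom.mem_ker.1 hg))
    have hN : Nat.card (Subgroup.normalizer ((P : Subgroup G) : Set G)) = 6 := by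
      have h1 := (Subgroup.normalizer ((P : Subgroup G) : Set G)).card_mul_index
      rw [show (Subgroup.normalizer ((P : Subgroup G) : Set G)).index = 4 from
        P.card_eq_index_normalizer.symm.trans hn, h] at h1
      omega
    have hd : Nat.card f.ker ∣ 6 := hN ▸ Subgroup.card_dvd_of_le (hKN P)
    have h3 : ¬ 3 ∣ Nat.card f.ker := by
      intro h3
      obtain ⟨y, hy⟩ := exists_prime_orderOf_dvd_card' (G := f.ker) 3 h3
      rw [← Subgroup.orderOf_coe] at hy
      have hzp : IsPGroup 3 (Subgroup.zpowers (y : G)) := IsPGroup.of_card (n := 1)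
        (by rw [Nat.card_zpowers, hy, pow_one])
      have hall : ∀ Q : Sylow 3 G, Subgroup.zpowers (y : G) = (Q : Subgroup G) := by
        intro Q
        refine Subgroup.eq_of_le_of_card_ge (fun w hw => ?_) (by rw [hP Q, Nat.card_zpowers, hy])
        exact (hzp.inf_normalizer_sylow Q ▸ Subgroup.mem_inf.2
          ⟨hw, Subgroup.zpowers_le.2 (hKN Q y.2) hw⟩ : w ∈ Subgroup.zpowers (y : G) ⊓ (Q : Subgroup G)).2
      have : Subsingleton (Sylow 3 G) := ⟨fun A B => Sylow.ext ((hall A).symm.trans (hall B))⟩
      rw [Nat.card_of_subsingleton P] at hn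
      omega
    have hd2 : Nat.card f.ker ∣ 2 :=
      (Nat.Coprime.dvd_of_dvd_mul_right (m := 2) (n := 3)
        ((Nat.prime_three.coprime_iff_not_dvd.2 h3).symm) hd)
    rcases (Nat.dvd_prime Nat.prime_two).1 hd2 with e | e
    · exact Subgroup.card_eq_one.1 e
    · exfalso
      obtain ⟨z, hz⟩ := exists_prime_orderOf_dvd_card' (G := f.ker) 2 e.symm.dvd
      rw [← Subgroup.orderOf_coe] at hz
      refine hnc x z hx hz ?_
      have hw : orderOf (x * z * x⁻¹) = 2 := by
        rw [← MulAut.conj_apply, MulEquiv.orderOf_eq, hz]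
      have hcase : x * z * x⁻¹ = z := by
        by_contra hne
        let v : Fin 3 → f.ker :=
          ![1, z, ⟨x * z * x⁻¹, (inferInstance : f.ker.Normal).conj_mem _ z.2 x⟩]
        have hv : Function.Injective v := by
          intro i j hij
          have hij' := congrArg Subtype.val hij
          fin_cases i <;> fin_cases j <;> simp [v] at hij' ⊢ <;>
            first
            | exact absurd hij' hne
            | exact absurd hij'.symm hne
            | (rw [hij'] at hz; simp at hz; done)
            | (rw [← hij'] at hz; simp at hz; done)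
            | (rw [hij'] at hw; simp at hw; done)
            | (rw [← hij'] at hw; simp at hw; done)
        have := Nat.card_le_card_of_injective v hv
        rw [Nat.card_fin, e] at this
        omega
      exact mul_inv_eq_iff_eq_mul.1 hcase
  have hinj : Function.Injective f := (MonoidHom.ker_eq_bot_iff f).1 hker
  let e : Sylow 3 G ≃ Fin 4 := Finite.equivFinOfCardEq hn
  refine ⟨(MulEquiv.ofBijective f ((Nat.bijective_iff_injective_and_card f).2 ⟨hinj, ?_⟩)).trans e.permCongrHom⟩
  rw [h, Nat.card_perm, hn]
  rfl


end Cfsg.Agent.S1012
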