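import Cfsg.Statements.S0738
import Cfsg.Agent.Lib.Perm.Basic
import Mathlib.GroupTheory.FixedPointFree
import Mathlib.GroupTheory.PGroup

set_option autoImplicit false
open Cfsg

namespace Cfsg.Agent.S0738

/-- Let a finite Zassenhaus group of degree `n + 1` have two-point stabilisers of order `d` with `2d ≥ n - 1`. Then a normal subgroup of a point stabiliser acting regularly on the remaining points is elementary abelian, and the degree is a prime power plus one. -/
theorem result {G Ω : Type*} [Group G] [Finite G] [MulAction G Ω] [Fintype Ω] (hZ : Cfsg.IsZassenhausGroup G Ω) {a b : Ω} (hab : a ≠ b) (hd : Fintype.card Ω - 2 ≤ 2 * Nat.card ↥(MulAction.stabilizer G a ⊓ MulAction.stabilizer G b)) (F : Subgroup G) (hFle : F ≤ MulAction.stabilizer G a) (hFn : (F.subgroupOf (MulAction.stabilizer G a)).Normal) (hreg : ∀ y z : Ω, y ≠ a → z ≠ a → ∃! u : F, (u : G) • y = z) : IsMulCommutative F ∧ ∃ p f : ℕ, p.Prime ∧ (∀ u ∈ F, u ^ p = 1) ∧ Fintype.card Ω = p ^ f + 1 :=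 by
  classical
  obtain ⟨hf, h2t, h3, -, -⟩ := hZ
  haveI := hf
  haveI := Fintype.ofFinite G
  set H : Subgroup G := MulAction.stabilizer G a ⊓ MulAction.stabilizer G b with hH
  have hba : b ≠ a := Ne.symm hab
  have hmemF : ∀ g ∈ H, ∀ u ∈ F, g * u * g⁻¹ ∈ F := fun g hg u hu =>
    Subgroup.mem_subgroupOf.mp (hFn.conj_mem ⟨u, hFle hu⟩ (Subgroup.mem_subgroupOf.mpr hu) ⟨g, hg.1⟩)
  have hFb : ∀ u ∈ F, u • b = b → u = 1 := by
    intro u hu e
    have := (hreg b b hba hba).unique (y₁ := (⟨u, hu⟩ : F)) (y₂ := (1 : F)) e (one_smul G b)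
    exact congrArg Subtype.val this
  have hsemi : ∀ g ∈ H, ∀ u ∈ F, u ≠ 1 → g * u = u * g → g = 1 := by
    intro g hg u hu hu1 e
    have hua : u • a = a := hFle hu
    refine h3 g a b (u • b) hab (fun e' => hu1 (hFb u hu e'.symm)) (fun e' => hab ?_) hg.1 hg.2 ?_
    · exact MulAction.injective u (hua.trans e')
    · rw [smul_smul, e, mul_smul, show g • b = b from hg.2]
  -- the nonidentity elements of `F`
  let Fs : Finset G := Finset.univ.filter fun u => u ∈ F ∧ u ≠ 1
  have hFs : ∀ u, u ∈ Fs ↔ u ∈ F ∧ u ≠ 1 := fun u => by simp [Fs]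
  have hcardF : Nat.card F = Fintype.card Ω - 1 := by
    have e : Nat.card F = Nat.card {y : Ω // y ≠ a} := by
      refine Nat.card_congr (Equiv.ofBijective (fun u : F => (⟨(u : G) • b, fun e => hab ?_⟩ : {y : Ω // y ≠ a})) ⟨?_, ?_⟩)
      · exact MulAction.injective (u : G) ((show (u : G) • a = a from hFle u.2).trans e.symm)
      · intro u v e
        exact (hreg b ((v : G) • b) hba (fun e' => hab (MulAction.injective (v : G) ((show (v : G) • a = a from hFle v.2).trans e'.symm)))).unique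
          (congrArg Subtype.val e) rfl
      · rintro ⟨y, hy⟩
        obtain ⟨u, hu, -⟩ := hreg b y hba hy
        exact ⟨u, Subtype.ext hu⟩
    rw [e, Nat.card_eq_fintype_card, Fintype.card_subtype_compl, Fintype.card_subtype_eq]
  have hFscard : Fs.card + 1 = Nat.card F := by
    have e : Finset.univ.filter (fun u : G => u ∈ F) = insert 1 Fs := by
      ext u
      by_cases h : u = 1 <;> simp [hFs, h, F.one_mem]
    rw [Nat.card_eq_fintype_card, Fintype.card_subtype, e, Finset.card_insert_of_notMem (by simp [hFs])]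
  have hFsle : Fs.card ≤ 2 * Nat.card H := by omega
  let O : G → Finset G := fun x => (Finset.univ.filter fun g => g ∈ H).image fun g => g * x * g⁻¹
  have hOmem : ∀ x y, y ∈ O x ↔ ∃ g ∈ H, g * x * g⁻¹ = y := fun x y => by simp [O]
  have hOsub : ∀ x ∈ Fs, O x ⊆ Fs := by
    intro x hx y hy
    obtain ⟨g, hg, rfl⟩ := (hOmem x y).mp hy
    obtain ⟨hxF, hx1⟩ := (hFs x).mp hx
    exact (hFs _).mpr ⟨hmemF g hg x hxF, fun e => hx1 (by rwa [conj_eq_one_iff] at e)⟩
  have hOcard : ∀ x ∈ Fs, (O x).card = Nat.card H := by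
    intro x hx
    obtain ⟨hxF, hx1⟩ := (hFs x).mp hx
    rw [Finset.card_image_of_injOn, Nat.card_eq_fintype_card, Fintype.card_subtype]
    intro g hg g' hg' e
    simp only [Finset.coe_filter, Finset.mem_univ, true_and, Set.mem_ofPred_eq] at hg hg'
    have h1 : g'⁻¹ * g = 1 := by
      refine hsemi _ (H.mul_mem (H.inv_mem hg') hg) x hxF hx1 ?_
      calc g'⁻¹ * g * x = g'⁻¹ * (g * x * g⁻¹) * g := by group
        _ = g'⁻¹ * (g' * x * g'⁻¹) * g := congrArg (fun z => g'⁻¹ * z * g) e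
        _ = x * (g'⁻¹ * g) := by group
    exact (inv_mul_eq_one.mp h1).symm
  have hdisj : ∀ x w, w ∉ O x → Disjoint (O x) (O w) := by
    intro x w hw
    refine Finset.disjoint_left.mpr fun y hy hy' => hw ?_
    obtain ⟨g, hg, rfl⟩ := (hOmem x y).mp hy
    obtain ⟨g', hg', e⟩ := (hOmem w _).mp hy'
    refine (hOmem x w).mpr ⟨g'⁻¹ * g, H.mul_mem (H.inv_mem hg') hg, ?_⟩
    calc g'⁻¹ * g * x * (g'⁻¹ * g)⁻¹ = g'⁻¹ * (g * x * g⁻¹) * g' := by group
      _ = g'⁻¹ * (g' * w * g'⁻¹) * g' := by rw [e]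
      _ = w := by group
  -- there are at most two orbits on the nonidentity elements
  have hcover : ∀ x ∈ Fs, ∀ w ∈ Fs, w ∉ O x → Fs = O x ∪ O w ∧ Fs.card = 2 * Nat.card H := by
    intro x hx w hw hwx
    have hu : (O x ∪ O w).card = 2 * Nat.card H := by
      rw [Finset.card_union_of_disjoint (hdisj x w hwx), hOcard x hx, hOcard w hw, two_mul]
    have he : O x ∪ O w = Fs := Finset.eq_of_subset_of_card_le (Finset.union_subset (hOsub x hx) (hOsub w hw)) (by omega)
    exact ⟨he.symm, by rw [← he, hu]⟩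
  have hord : ∀ x y, y ∈ O x → orderOf y = orderOf x := by
    intro x y hy
    obtain ⟨g, -, rfl⟩ := (hOmem x y).mp hy
    rw [← MulAut.conj_apply, MulEquiv.orderOf_eq]
  by_cases hq : Nat.card F = 1
  · haveI := (Nat.card_eq_one_iff_unique.mp hq).1
    refine ⟨⟨⟨fun u v => Subsingleton.elim _ _⟩⟩, 2, 0, Nat.prime_two, fun u hu => ?_, by have := Fintype.card_pos_iff.mpr ⟨a⟩; omega⟩
    rw [show u = 1 from congrArg Subtype.val (Subsingleton.elim (⟨u, hu⟩ : F) 1), one_pow]
  obtain ⟨p, hp, hpq⟩ := Nat.exists_prime_and_dvd hq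
  haveI := Fact.mk hp
  obtain ⟨⟨x, hxF⟩, hx'⟩ := exists_prime_orderOf_dvd_card' (G := F) p hpq
  have hxp : orderOf x = p := (Subgroup.orderOf_mk x hxF).symm.trans hx'
  have hx1 : x ≠ 1 := fun e => by rw [e, orderOf_one] at hxp; exact hp.one_lt.ne hxp
  have hxs : x ∈ Fs := (hFs x).mpr ⟨hxF, hx1⟩
  have hcn : Fintype.card Ω = Nat.card F + 1 := by
    have := Fintype.card_pos_iff.mpr ⟨a⟩
    omega
  suffices h : IsMulCommutative F ∧ ∀ u ∈ F, u ^ p = 1 by
    obtain ⟨f, hf'⟩ := IsPGroup.iff_card.mp (show IsPGroup p F from fun u => ⟨1, by rw [pow_one]; exact Subtype.ext (h.2 u u.2)⟩)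
    exact ⟨h.1, p, f, hp, h.2, hf' ▸ hcn⟩
  rcases Nat.even_or_odd (Nat.card H) with hev | hodd
  · obtain ⟨⟨z, hzH⟩, hz'⟩ := exists_prime_orderOf_dvd_card' (G := H) 2 hev.two_dvd
    have hz : orderOf z = 2 := (Subgroup.orderOf_mk z hzH).symm.trans hz'
    have hz1 : z ≠ 1 := fun e => by rw [e, orderOf_one] at hz; omega
    have hzz : z * z = 1 := by rw [← pow_two, ← hz, pow_orderOf_eq_one]
    let φ : F →* F :=
      { toFun := fun u => ⟨z * u * z⁻¹, hmemF z hzH u u.2⟩
        map_one' := Subtype.ext (by simp)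
        map_mul' := fun u v => Subtype.ext (by simp only [Subgroup.coe_mul]; group) }
    have hφ : MonoidHom.FixedPointFree φ := by
      intro u hu
      by_contra h
      have e : z * u * z⁻¹ = u := congrArg Subtype.val hu
      exact hz1 (hsemi z hzH u u.2 (fun e' => h (Subtype.ext e')) (mul_inv_eq_iff_eq_mul.mp e))
    have hφ2 : Function.Involutive φ := fun u => Subtype.ext (by
      show z * (z * u * z⁻¹) * z⁻¹ = u
      calc z * (z * u * z⁻¹) * z⁻¹ = (z * z) * u * (z * z)⁻¹ := by group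
        _ = u := by rw [hzz, inv_one, mul_one, one_mul])
    have hcomm : ∀ u v : F, Commute u v := hφ.commute_all_of_involutive hφ2
    refine ⟨⟨⟨hcomm⟩⟩, ?_⟩
    by_contra hex
    push Not at hex
    obtain ⟨y, hyF, hyp⟩ := hex
    have hys : y ∈ Fs := (hFs y).mpr ⟨hyF, fun e => hyp (by rw [e, one_pow])⟩
    have hyx : y ∉ O x := fun h => hyp (by rw [← hxp, ← hord x y h, pow_orderOf_eq_one])
    obtain ⟨hall, hcard⟩ := hcover x hxs y hys hyx
    let P : Subgroup F :=
      { carrier := {u | u ^ p = 1}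
        one_mem' := one_pow p
        mul_mem' := fun {u v} hu hv => by
          show (u * v) ^ p = 1
          rw [(hcomm u v).mul_pow, show u ^ p = 1 from hu, show v ^ p = 1 from hv, one_mul]
        inv_mem' := fun {u} hu => by
          show u⁻¹ ^ p = 1
          rw [inv_pow, show u ^ p = 1 from hu, inv_one] }
    have hP : Nat.card P = Nat.card H + 1 := by
      rw [← hOcard x hxs, ← Finset.card_insert_of_notMem (a := (1 : G)) (fun h => ((hFs _).mp (hOsub x hxs h)).2 rfl), ← Nat.card_eq_finsetCard]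
      refine Nat.card_congr (Equiv.ofBijective (fun u : P => (⟨((u : F) : G), ?_⟩ : ↥(insert 1 (O x)))) ⟨?_, ?_⟩)
      · by_cases hu1 : ((u : F) : G) = 1
        · exact Finset.mem_insert.mpr (Or.inl hu1)
        have hup : ((u : F) : G) ^ p = 1 := congrArg Subtype.val u.2
        have : ((u : F) : G) ∈ Fs := (hFs _).mpr ⟨(u : F).2, hu1⟩
        rw [hall] at this
        rcases Finset.mem_union.mp this with h | h
        · exact Finset.mem_insert_of_mem h
        · exfalso
          exact hyp (orderOf_dvd_iff_pow_eq_one.mp (by rw [← hord y _ h]; exact orderOf_dvd_of_pow_eq_one hup))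
      · intro u v e
        exact Subtype.ext (Subtype.ext (congrArg Subtype.val e :))
      · rintro ⟨u, hu⟩
        rcases Finset.mem_insert.mp hu with h | h
        · exact ⟨1, Subtype.ext h.symm⟩
        · exact ⟨⟨⟨u, ((hFs u).mp (hOsub x hxs h)).1⟩, Subtype.ext (by
            show u ^ p = 1
            rw [← hxp, ← hord x u h, pow_orderOf_eq_one])⟩, rfl⟩
    have hdvd := Subgroup.card_subgroup_dvd_card P
    rw [hP, show Nat.card F = 2 * Nat.card H + 1 by omega] at hdvd
    have h1 : Nat.card H + 1 ∣ 1 := by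
      have h2 : Nat.card H + 1 ∣ 2 * (Nat.card H + 1) := dvd_mul_left _ _
      have h4 := Nat.dvd_sub h2 hdvd
      rwa [show 2 * (Nat.card H + 1) - (2 * Nat.card H + 1) = 1 by omega] at h4
    have := Nat.le_of_dvd one_pos h1
    have : 0 < Nat.card H := Nat.card_pos
    omega
  · have hdich : ∀ u ∈ Fs, ∀ y ∈ Fs, y ∈ O u ∨ y ∈ O u⁻¹ := by
      intro u hu y hy
      by_cases h : y ∈ O u
      · exact Or.inl h
      right
      obtain ⟨huF, hu1⟩ := (hFs u).mp hu
      obtain ⟨-, hc⟩ := hcover u hu y hy h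
      have hui : u⁻¹ ∈ Fs := (hFs _).mpr ⟨F.inv_mem huF, inv_ne_one.mpr hu1⟩
      have hnot : u⁻¹ ∉ O u := by
        intro h'
        obtain ⟨g, hg, e⟩ := (hOmem u _).mp h'
        have hgg : g * g = 1 := by
          refine hsemi _ (H.mul_mem hg hg) u huF hu1 ?_
          calc g * g * u = g * (g * u * g⁻¹) * g := by group
            _ = g * u⁻¹ * g := by rw [e]
            _ = (g * u * g⁻¹)⁻¹ * (g * g) := by group
            _ = u * (g * g) := by rw [e, inv_inv]
        have h1 : orderOf g ∣ 2 := orderOf_dvd_of_pow_eq_one (by rw [pow_two, hgg])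
        have h2 : orderOf g ∣ Nat.card H := Subgroup.orderOf_mk g hg ▸ orderOf_dvd_natCard (⟨g, hg⟩ : H)
        have hg1 : g = 1 := by
          rw [← orderOf_eq_one_iff]
          exact Nat.eq_one_of_dvd_coprimes (Nat.coprime_two_left.mpr hodd) h1 h2
        rw [hg1, one_mul, inv_one, mul_one] at e
        have h3' : orderOf u ∣ 2 := orderOf_dvd_of_pow_eq_one (by rw [pow_two]; exact mul_eq_one_iff_eq_inv.mpr e)
        have h4 : orderOf u ∣ Nat.card F := Subgroup.orderOf_mk u huF ▸ orderOf_dvd_natCard (⟨u, huF⟩ : F)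
        have h5 : Odd (Nat.card F) := ⟨Nat.card H, by omega⟩
        exact hu1 (orderOf_eq_one_iff.mp (Nat.eq_one_of_dvd_coprimes (Nat.coprime_two_left.mpr h5) h3' h4))
      obtain ⟨hall, -⟩ := hcover u hu u⁻¹ hui hnot
      rw [hall] at hy
      exact (Finset.mem_union.mp hy).resolve_left h
    have hexp : ∀ u ∈ F, u ^ p = 1 := by
      intro u hu
      by_cases hu1 : u = 1
      · rw [hu1, one_pow]
      have : orderOf u = p := by
        rcases hdich x hxs u ((hFs u).mpr ⟨hu, hu1⟩) with h | h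
        · rw [hord _ _ h, hxp]
        · rw [hord _ _ h, orderOf_inv, hxp]
      rw [← this, pow_orderOf_eq_one]
    refine ⟨?_, hexp⟩
    have hPG : IsPGroup p F := fun u => ⟨1, by rw [pow_one]; exact Subtype.ext (hexp u u.2)⟩
    haveI : Nontrivial F := ⟨⟨⟨x, hxF⟩, 1, fun e => hx1 (congrArg Subtype.val e)⟩⟩
    haveI : Nontrivial (Subgroup.center F) := hPG.center_nontrivial
    obtain ⟨⟨⟨c, hcF⟩, hc⟩, hc1⟩ := exists_ne (1 : Subgroup.center F)
    have hcs : c ∈ Fs := (hFs c).mpr ⟨hcF, fun e => hc1 (Subtype.ext (Subtype.ext e))⟩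
    have hcen : ∀ v ∈ F, v * c = c * v := fun v hv => congrArg Subtype.val (Subgroup.mem_center_iff.mp hc ⟨v, hv⟩)
    have key : ∀ g ∈ H, ∀ c' : G, (∀ v ∈ F, v * c' = c' * v) → ∀ v ∈ F, v * (g * c' * g⁻¹) = g * c' * g⁻¹ * v := by
      intro g hg c' hc' v hv
      have hv' : g⁻¹ * v * g ∈ F := by simpa using hmemF g⁻¹ (H.inv_mem hg) v hv
      calc v * (g * c' * g⁻¹) = g * ((g⁻¹ * v * g) * c') * g⁻¹ := by group
        _ = g * (c' * (g⁻¹ * v * g)) * g⁻¹ := by rw [hc' _ hv']
        _ = g * c' * g⁻¹ * v := by group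
    refine ⟨⟨fun ⟨u, hu⟩ ⟨v, hv⟩ => Subtype.ext ?_⟩⟩
    show u * v = v * u
    by_cases hv1 : v = 1
    · simp [hv1]
    rcases hdich c hcs v ((hFs v).mpr ⟨hv, hv1⟩) with h | h
    · obtain ⟨g, hg, rfl⟩ := (hOmem _ _).mp h
      exact key g hg c hcen u hu
    · obtain ⟨g, hg, rfl⟩ := (hOmem _ _).mp h
      exact key g hg c⁻¹ (fun w hw => ((show Commute w c from hcen w hw).inv_right).eq) u hu

end Cfsg.Agent.S0738
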