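import Cfsg.Statements.S0741
import Cfsg.Agent.Lib.Perm.Basic

set_option autoImplicit false
open Cfsg

namespace Cfsg.Agent.S0741

/-- If the two-point stabilisers of a finite Zassenhaus group of degree `n + 1` have even order `d`, then `2d ≥ n - 1`. -/
theorem result {G Ω : Type*} [Group G] [Finite G] [MulAction G Ω] [Fintype Ω] (hZ : Cfsg.IsZassenhausGroup G Ω) {a b : Ω} (hab : a ≠ b) (heven : Even (Nat.card ↥(MulAction.stabilizer G a ⊓ MulAction.stabilizer G b))) : Fintype.card Ω - 2 ≤ 2 * Nat.card ↥(MulAction.stabilizer G a ⊓ MulAction.stabilizer G b) := by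
  classical
  obtain ⟨hf, h2t, h3, -, -⟩ := hZ
  haveI := hf
  haveI := Fintype.ofFinite G
  set H : Subgroup G := MulAction.stabilizer G a ⊓ MulAction.stabilizer G b with hH
  obtain ⟨⟨t₀, hta, htb⟩, ht₀⟩ := exists_prime_orderOf_dvd_card' (G := ↥H) 2 heven.two_dvd
  have ht₀' : orderOf t₀ = 2 := (Subgroup.orderOf_mk (H := H) t₀ ⟨hta, htb⟩).symm.trans ht₀
  obtain ⟨s, hsa, hsb⟩ := CfsgLib.Perm.exists_smul_pair h2t hab (Ne.symm hab)
  let P : Finset (Ω × Ω) := (Finset.univ : Finset Ω).offDiag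
  let T : Finset G := Finset.univ.filter fun t => orderOf t = 2 ∧ ∃ x y : Ω, x ≠ y ∧ t • x = x ∧ t • y = y
  have hP : P.card = Fintype.card Ω * (Fintype.card Ω - 1) := by
    simp [P, Finset.offDiag_card, Nat.mul_sub, mul_one]
  have hfix : ∀ p ∈ P, ∃ t, t ∈ T ∧ t • p.1 = p.1 ∧ t • p.2 = p.2 := by
    intro p hp
    have hne : p.1 ≠ p.2 := (Finset.mem_offDiag.mp hp).2.2
    obtain ⟨k, hk1, hk2⟩ := CfsgLib.Perm.exists_smul_pair h2t hab hne
    have e1 : (k * t₀ * k⁻¹) • p.1 = p.1 := by rw [mul_smul, mul_smul, inv_smul_eq_iff.mpr hk1.symm, hta, hk1]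
    have e2 : (k * t₀ * k⁻¹) • p.2 = p.2 := by rw [mul_smul, mul_smul, inv_smul_eq_iff.mpr hk2.symm, htb, hk2]
    refine ⟨k * t₀ * k⁻¹, Finset.mem_filter.mpr ⟨Finset.mem_univ _, ?_, p.1, p.2, hne, e1, e2⟩, e1, e2⟩
    rw [← MulAut.conj_apply, MulEquiv.orderOf_eq, ht₀']
  choose! f hfT hf1 hf2 using hfix
  have hFix : ∀ t ∈ T, (Finset.univ.filter fun x : Ω => t • x = x).card = 2 := by
    intro t ht
    obtain ⟨-, ho, x, y, hxy, hx, hy⟩ := Finset.mem_filter.mp ht
    apply le_antisymm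
    · by_contra h
      obtain ⟨u, hu, v, hv, w, hw, huv, huw, hvw⟩ := Finset.two_lt_card.mp (not_le.mp h)
      simp only [Finset.mem_filter, Finset.mem_univ, true_and] at hu hv hw
      rw [h3 t u v w huv hvw huw hu hv hw, orderOf_one] at ho
      omega
    · calc 2 = ({x, y} : Finset Ω).card := (Finset.card_pair hxy).symm
        _ ≤ _ := Finset.card_le_card (by simp [Finset.insert_subset_iff, hx, hy])
  have hPT : P.card ≤ T.card * 2 := by
    refine Finset.card_le_mul_card_image_of_maps_to hfT 2 (fun t ht => ?_) |>.trans_eq (mul_comm _ _)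
    refine le_trans (Finset.card_le_card (t := (Finset.univ.filter fun x : Ω => t • x = x).offDiag) ?_) ?_
    · intro p hp
      obtain ⟨hp', hfp⟩ := Finset.mem_filter.mp hp
      subst hfp
      exact Finset.mem_offDiag.mpr ⟨by simp [hf1 p hp'], by simp [hf2 p hp'], (Finset.mem_offDiag.mp hp').2.2⟩
    · rw [Finset.offDiag_card, hFix t ht]
  have hTP : T.card * (Fintype.card Ω - 2) ≤ P.card * Nat.card H := by
    refine Finset.card_mul_le_card_mul (fun (t : G) (p : Ω × Ω) => t • p.1 = p.2) (fun t ht => ?_) (fun p hp => ?_)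
    · refine le_trans ?_ (Finset.card_le_card_of_injOn (s := (Finset.univ.filter fun x : Ω => t • x = x)ᶜ)
        (fun x => (x, t • x)) ?_ ?_)
      · rw [Finset.card_compl, hFix t ht]
      · intro x hx
        simp only [Finset.coe_compl, Set.mem_compl_iff, Finset.mem_coe, Finset.mem_filter, Finset.mem_univ, true_and] at hx
        simpa [Finset.bipartiteAbove, P] using Ne.symm hx
      · exact fun x _ y _ e => congrArg Prod.fst e
    · obtain ⟨k, hk1, hk2⟩ := CfsgLib.Perm.exists_smul_pair h2t hab (Finset.mem_offDiag.mp hp).2.2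
      rw [Nat.card_eq_fintype_card]
      refine le_trans (Finset.card_le_card_of_injOn (t := Finset.univ.filter fun g : G => g ∈ H)
        (fun t => s⁻¹ * (k⁻¹ * t * k)) (fun t ht => ?_) ?_) (le_of_eq (Fintype.card_subtype _).symm)
      · simp only [Finset.bipartiteBelow, Finset.coe_filter, Set.mem_setOf_eq] at ht
        obtain ⟨ht, hpq⟩ := ht
        have hqp : t • p.2 = p.1 := by
          rw [← hpq, smul_smul, ← pow_two, ← (Finset.mem_filter.mp ht).2.1, pow_orderOf_eq_one, one_smul]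
        simp only [Finset.coe_filter, Finset.mem_univ, true_and, Set.mem_setOf_eq]
        refine ⟨?_, ?_⟩
        · show (s⁻¹ * (k⁻¹ * t * k)) • a = a
          rw [mul_smul, mul_smul, mul_smul, hk1, hpq, inv_smul_eq_iff.mpr hk2.symm, inv_smul_eq_iff.mpr hsa.symm]
        · show (s⁻¹ * (k⁻¹ * t * k)) • b = b
          rw [mul_smul, mul_smul, mul_smul, hk2, hqp, inv_smul_eq_iff.mpr hk1.symm, inv_smul_eq_iff.mpr hsb.symm]
      · intro x _ y _ e
        simpa using e
  have hn : 1 < Fintype.card Ω := Fintype.one_lt_card_iff.mpr ⟨a, b, hab⟩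
  have hpos : 0 < P.card := by rw [hP]; exact Nat.mul_pos (by omega) (by omega)
  refine Nat.le_of_mul_le_mul_left ?_ hpos
  calc P.card * (Fintype.card Ω - 2) ≤ T.card * 2 * (Fintype.card Ω - 2) := Nat.mul_le_mul_right _ hPT
    _ = 2 * (T.card * (Fintype.card Ω - 2)) := by rw [mul_comm T.card 2, mul_assoc]
    _ ≤ 2 * (P.card * Nat.card H) := Nat.mul_le_mul_left _ hTP
    _ = P.card * (2 * Nat.card H) := by rw [mul_left_comm]

end Cfsg.Agent.S0741
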