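import Cfsg.Statements.S0742
import Cfsg.Agent.Lib.Perm.ZassenhausPSL
import Cfsg.Agent.Lib.Perm.ZassenhausKernel
import Cfsg.Agent.S0741
import Cfsg.Agent.S0738

set_option autoImplicit false
open Cfsg

namespace Cfsg.Agent.S0742

/-- A finite Zassenhaus group of degree `n + 1` with two-point stabilisers of even order `d` satisfying `2d ≤ n - 1` has `n = p^f` for an odd prime `p` and is isomorphic to `PSL(2, p^f)`. -/
theorem result {G Ω : Type*} [Group G] [Finite G] [MulAction G Ω] [Fintype Ω] (hZ : Cfsg.IsZassenhausGroup G Ω) {a b : Ω} (hab : a ≠ b) (heven : Even (Nat.card ↥(MulAction.stabilizer G a ⊓ MulAction.stabilizer G b))) (hd : 2 * Nat.card ↥(MulAction.stabilizer G a ⊓ MulAction.stabilizer G b) ≤ Fintype.card Ω - 2) : ∃ (p f : ℕ) (K : Type) (_ : Field K) (_ : Fintype K), p.Prime ∧ p ≠ 2 ∧ Fintype.card K = p ^ f ∧ Fintype.card Ω = p ^ f + 1 ∧ Nonempty (G ≃* Matrix.ProjectiveSpecialLinearGroup (Fin 2) K) := by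
  classical
  have hle := Cfsg.Agent.S0741.result hZ hab heven
  have hhalf : Fintype.card Ω - 2 = 2 * Nat.card ↥(MulAction.stabilizer G a ⊓ MulAction.stabilizer G b) := le_antisymm hle hd
  obtain ⟨hf, h2t, h3, -, -⟩ := id hZ
  haveI := hf
  haveI := Fintype.ofFinite G
  set H : Subgroup G := MulAction.stabilizer G a ⊓ MulAction.stabilizer G b with hH
  obtain ⟨⟨t₀, hta, htb⟩, ht₀⟩ := exists_prime_orderOf_dvd_card' (G := ↥H) 2 heven.two_dvd
  have ht₀' : orderOf t₀ = 2 := (Subgroup.orderOf_mk (H := H) t₀ ⟨hta, htb⟩).symm.trans ht₀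
  obtain ⟨r, hra, hrb⟩ := CfsgLib.Perm.exists_smul_pair h2t hab (Ne.symm hab)
  let P : Finset (Ω × Ω) := (Finset.univ : Finset Ω).offDiag
  let T : Finset G := Finset.univ.filter fun t => orderOf t = 2 ∧ ∃ x y : Ω, x ≠ y ∧ t • x = x ∧ t • y = y
  have hfix : ∀ p ∈ P, ∃ t, t ∈ T ∧ t • p.1 = p.1 ∧ t • p.2 = p.2 := by
    intro p hp
    have hne : p.1 ≠ p.2 := (Finset.mem_offDiag.mp hp).2.2
    obtain ⟨k, hk1, hk2⟩ := CfsgLib.Perm.exists_smul_pair h2t hab hne
    have e1 : (k * t₀ * k⁻¹) • p.1 = p.1 := by rw [mul_smul, mul_smul, inv_smul_eq_iff.mpr hk1.symm, hta, hk1]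
    have e2 : (k * t₀ * k⁻¹) • p.2 = p.2 := by rw [mul_smul, mul_smul, inv_smul_eq_iff.mpr hk2.symm, htb, hk2]
    refine ⟨k * t₀ * k⁻¹, Finset.mem_filter.mpr ⟨Finset.mem_univ _, ?_, p.1, p.2, hne, e1, e2⟩, e1, e2⟩
    rw [← MulAut.conj_apply, MulEquiv.orderOf_eq, ht₀']
  choose! f hfT hf1 hf2 using hfix
  have hFix : ∀ t ∈ T, (Finset.univ.filter fun x : Ω => t • x = x).card = 2 := by
    intro t ht
    obtain ⟨-, ho, x, y, hxy, hx, hy⟩ := Finset.mem_filter.mp ht
    apply le_antisymm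
    · by_contra h
      obtain ⟨u, hu, v, hv, w, hw, huv, huw, hvw⟩ := Finset.two_lt_card.mp (not_le.mp h)
      simp only [Finset.mem_filter, Finset.mem_univ, true_and] at hu hv hw
      rw [h3 t u v w huv hvw huw hu hv hw, orderOf_one] at ho
      omega
    · calc 2 = ({x, y} : Finset Ω).card := (Finset.card_pair hxy).symm
        _ ≤ _ := Finset.card_le_card (by simp [Finset.insert_subset_iff, hx, hy])
  have hPT : P.card ≤ T.card * 2 := by
    refine Finset.card_le_mul_card_image_of_maps_to hfT 2 (fun t ht => ?_) |>.trans_eq (mul_comm _ _)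
    refine le_trans (Finset.card_le_card (t := (Finset.univ.filter fun x : Ω => t • x = x).offDiag) ?_) ?_
    · intro p hp
      obtain ⟨hp', hfp⟩ := Finset.mem_filter.mp hp
      subst hfp
      exact Finset.mem_offDiag.mpr ⟨by simp [hf1 p hp'], by simp [hf2 p hp'], (Finset.mem_offDiag.mp hp').2.2⟩
    · rw [Finset.offDiag_card, hFix t ht]
  let A : Finset G := T.filter fun t => t • a = b
  have hTswap : ∀ t ∈ T, t • a = b → t • b = a := fun t ht e => by
    rw [← e, smul_smul, ← pow_two, ← (Finset.mem_filter.mp ht).2.1, pow_orderOf_eq_one, one_smul]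
  have hTP : T.card * (Fintype.card Ω - 2) ≤ P.card * A.card := by
    refine Finset.card_mul_le_card_mul (fun (t : G) (p : Ω × Ω) => t • p.1 = p.2) (fun t ht => ?_) (fun p hp => ?_)
    · refine le_trans ?_ (Finset.card_le_card_of_injOn (s := (Finset.univ.filter fun x : Ω => t • x = x)ᶜ)
        (fun x => (x, t • x)) ?_ ?_)
      · rw [Finset.card_compl, hFix t ht]
      · intro x hx
        simp only [Finset.coe_compl, Set.mem_compl_iff, Finset.mem_coe, Finset.mem_filter, Finset.mem_univ, true_and] at hx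
        simpa [Finset.bipartiteAbove, P] using Ne.symm hx
      · exact fun x _ y _ e => congrArg Prod.fst e
    · obtain ⟨k, hk1, hk2⟩ := CfsgLib.Perm.exists_smul_pair h2t hab (Finset.mem_offDiag.mp hp).2.2
      refine Finset.card_le_card_of_injOn (fun t => k⁻¹ * t * k) (fun t ht => ?_) ?_
      · simp only [Finset.bipartiteBelow, Finset.coe_filter, Set.mem_ofPred_eq] at ht
        obtain ⟨ht, hpq⟩ := ht
        obtain ⟨-, ho, x, y, hxy, hx, hy⟩ := Finset.mem_filter.mp ht
        refine Finset.mem_filter.mpr ⟨Finset.mem_filter.mpr ⟨Finset.mem_univ _, ?_, k⁻¹ • x, k⁻¹ • y, ?_, ?_, ?_⟩, ?_⟩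
        all_goals beta_reduce
        · rw [show k⁻¹ * t * k = MulAut.conj k⁻¹ t by simp, MulEquiv.orderOf_eq, ho]
        · exact fun e => hxy (MulAction.injective k⁻¹ e)
        · rw [mul_smul, mul_smul, smul_inv_smul, hx]
        · rw [mul_smul, mul_smul, smul_inv_smul, hy]
        · rw [mul_smul, mul_smul, hk1, hpq, inv_smul_eq_iff, hk2]
      · intro x _ y _ e
        simpa using e
  have hn : 1 < Fintype.card Ω := Fintype.one_lt_card_iff.mpr ⟨a, b, hab⟩
  have hpos : 0 < P.card := Finset.card_pos.mpr ⟨(a, b), by simp [P, hab]⟩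
  have hAcard : Nat.card H ≤ A.card := by
    suffices h2 : P.card * (2 * Nat.card H) ≤ P.card * (2 * A.card) by
      have := Nat.le_of_mul_le_mul_left h2 hpos
      omega
    calc P.card * (2 * Nat.card H) ≤ T.card * 2 * (Fintype.card Ω - 2) := by
          rw [hhalf]; exact Nat.mul_le_mul_right _ hPT
      _ = 2 * (T.card * (Fintype.card Ω - 2)) := by rw [mul_comm T.card 2, mul_assoc]
      _ ≤ 2 * (P.card * A.card) := Nat.mul_le_mul_left _ hTP
      _ = P.card * (2 * A.card) := by rw [mul_left_comm]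
  let C : Finset G := Finset.univ.filter fun g => g • a = b ∧ g • b = a
  have hCA : A = C := by
    refine Finset.eq_of_subset_of_card_le (fun t ht => ?_) (le_trans ?_ hAcard)
    · obtain ⟨ht, hab'⟩ := Finset.mem_filter.mp ht
      exact Finset.mem_filter.mpr ⟨Finset.mem_univ _, hab', hTswap t ht hab'⟩
    · rw [Nat.card_eq_fintype_card]
      refine le_trans (Finset.card_le_card_of_injOn (t := Finset.univ.filter fun g : G => g ∈ H) (fun t => r⁻¹ * t) (fun t ht => ?_) ?_)
        (le_of_eq (Fintype.card_subtype _).symm)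
      · obtain ⟨-, h1, h2⟩ := Finset.mem_filter.mp (Finset.mem_coe.mp ht)
        simp only [Finset.coe_filter, Finset.mem_univ, true_and, Set.mem_ofPred_eq]
        refine ⟨?_, ?_⟩
        · show (r⁻¹ * t) • a = a
          rw [mul_smul, h1, inv_smul_eq_iff, hra]
        · show (r⁻¹ * t) • b = b
          rw [mul_smul, h2, inv_smul_eq_iff, hrb]
      · exact fun x _ y _ e => mul_left_cancel e
  have hswap : ∀ t : G, t • a = b → t • b = a → t * t = 1 ∧ ∃ x : Ω, t • x = x := by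
    intro t h1 h2
    have ht : t ∈ A := hCA ▸ Finset.mem_filter.mpr ⟨Finset.mem_univ _, h1, h2⟩
    obtain ⟨-, ho, x, -, -, hx, -⟩ := Finset.mem_filter.mp (Finset.mem_filter.mp ht).1
    exact ⟨by rw [← pow_two, ← ho, pow_orderOf_eq_one], x, hx⟩
  obtain ⟨hrr, u, hru⟩ := hswap r hra hrb
  have hau : a ≠ u := fun e => hab (by rw [← hra, e, hru])
  have hbu : b ≠ u := fun e => hab (by rw [← hrb, e, hru])
  have hinv : ∀ g : G, g • a = a → g • b = b → ∀ t : G, t • a = b → t • b = a → t * g * t⁻¹ = g⁻¹ := by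
    intro g hga hgb t h1 h2
    have e1 := (hswap t h1 h2).1
    have e2 := (hswap (t * g) (by rw [mul_smul, hga, h1]) (by rw [mul_smul, hgb, h2])).1
    rw [show t⁻¹ = t from inv_eq_of_mul_eq_one_right e1]
    exact eq_inv_of_mul_eq_one_left (by rw [mul_assoc (t * g)]; exact e2)
  have hne : H ≠ ⊥ := fun e => by
    have hm : t₀ ∈ H := ⟨hta, htb⟩
    rw [e, Subgroup.mem_bot] at hm
    rw [hm, orderOf_one] at ht₀'
    omega
  obtain ⟨N, hNle, hNn, hNreg⟩ := CfsgLib.Perm.exists_regular_kernel h2t h3 hab (Ne.symm hau) (Ne.symm hbu) hne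
  obtain ⟨hNc, p, f', hp, hNp, -⟩ := Cfsg.Agent.S0738.result hZ hab hle N hNle hNn hNreg
  have hNn' : ∀ g : G, g • a = a → ∀ x ∈ N, g * x * g⁻¹ ∈ N := fun g hg x hx =>
    Subgroup.mem_subgroupOf.mp (hNn.conj_mem ⟨x, hNle hx⟩ (Subgroup.mem_subgroupOf.mpr hx) ⟨g, hg⟩)
  obtain ⟨F, iF, iFF, hchar, hcard, hiso⟩ := CfsgLib.Perm.zassenhaus_psl h2t h3 hab hau hbu heven hinv
    hra hrb hru hhalf N (fun x hx => hNle hx) hNc hp hNp hNn' hNreg
  obtain ⟨q, hq⟩ := CharP.exists F
  obtain ⟨n, hqp, hqn⟩ := FiniteField.card F q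
  exact ⟨q, n, F, iF, iFF, hqp, fun e => hchar (by rw [ringChar.eq F q, e]), hqn, by rw [hcard, hqn], hiso⟩

end Cfsg.Agent.S0742
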