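import Cfsg.Statements.S0936
import Cfsg.Agent.Lib.Block.MainTheorems

set_option autoImplicit false
open Cfsg

namespace Cfsg.Agent.S0936

/-- Brauer's Third Main Theorem. Let H be a subgroup of the finite group G and b a block of H (relative to a maximal ideal M of the algebraic integers containing the prime p) whose induced block in G is defined. Then b induces the principal block of G if and only if b is the principal block of H. -/
theorem result {G : Type*} [Group G] [Finite G] (p : ℕ) [Fact p.Prime] (M : Ideal Cfsg.AlgInt) (hM : Cfsg.IsPModular p M) (H : Subgroup G) (b : Set (Cfsg.IrrCharacter H)) (hdef : Cfsg.InducedBlockDefined M H b) : Cfsg.IsInducedBlock M H b (Cfsg.principalBlock M G) ↔ b = Cfsg.principalBlock M H := by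
  have := CfsgLib.Block.isPrime_of_pmodular hM
  classical
  let one : Cfsg.IrrCharacter G := ⟨fun _ => 1, CfsgLib.Char.isIrrCharacter_one⟩
  let oneH : Cfsg.IrrCharacter H := ⟨fun _ => 1, CfsgLib.Char.isIrrCharacter_one⟩
  have hone : one ∈ Cfsg.principalBlock M G := CfsgLib.Block.one_mem_principalBlock
  have honeH : oneH ∈ Cfsg.principalBlock M H := CfsgLib.Block.one_mem_principalBlock
  have hht : ∀ {K : Type _} [Group K] [Finite K] (B : Set (Cfsg.IrrCharacter K)),
      Cfsg.blockHeight p B (fun _ : K => (1 : ℂ)) = 0 := by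
    intro K _ _ B
    simp [Cfsg.blockHeight, Cfsg.charDegree]
  obtain ⟨B, hB⟩ := hdef
  obtain ⟨ξ, hξ⟩ := CfsgLib.Block.isPBlock_nonempty hB.1
  have key : one ∈ B ↔ oneH ∈ b := by
    have h1 := CfsgLib.Block.lam_regZ_restrict_ne_zero_iff hM hB hξ one
    have h2 : CfsgLib.Block.lam M ξ (CfsgLib.Block.regZ M p (oneH : H → ℂ)
        (CfsgLib.Char.irr_isCharacter oneH.2)) ≠ 0 ↔ oneH ∈ b := by
      by_cases h : oneH ∈ b
      · rw [CfsgLib.Block.lam_regZ_ne_zero_iff hM hB.1 h hξ]
        exact ⟨fun _ => h, fun _ => hht b⟩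
      · rw [CfsgLib.Block.lam_regZ_eq_zero hM (χ := oneH) (φ := ξ) fun hs =>
          h (CfsgLib.Block.mem_of_sameBlock hB.1 hξ (CfsgLib.Block.sameBlock_symm hs))]
        simp [h]
    exact ⟨fun h => h2.1 (h1.2 ⟨h, hht B⟩), fun h => (h1.1 (h2.2 h)).1⟩
  constructor
  · intro h
    have hBe := CfsgLib.Block.isInducedBlock_unique H hB h
    exact CfsgLib.Block.isPBlock_eq_of_mem hB.1 CfsgLib.Block.isPBlock_principalBlock
      (key.1 (hBe ▸ hone)) honeH
  · intro hb
    have hBe := CfsgLib.Block.isPBlock_eq_of_mem hB.2.1 CfsgLib.Block.isPBlock_principalBlock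
      (key.2 (hb ▸ honeH)) hone
    exact hBe ▸ hB

end Cfsg.Agent.S0936
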