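import Cfsg.Statements.S4343
import Mathlib

set_option autoImplicit false
open Cfsg
open scoped Pointwise
set_option linter.style.haveILetI false

namespace Cfsg.Agent.S4343

variable {G : Type*} [Group G] [Finite G] {p : ℕ} [Fact p.Prime]

theorem relIndex_inf_eq (hn : Nat.card (Sylow p G) < p ^ 2) {P Q : Sylow p G} (h : Q ≠ P) :
    ((P : Subgroup G) ⊓ (Q : Subgroup G)).relIndex (P : Subgroup G) = p := by
  have hp : p.Prime := Fact.out
  have hstab : MulAction.stabilizer (P : Subgroup G) Q =
      ((P : Subgroup G) ⊓ (Q : Subgroup G)).subgroupOf (P : Subgroup G) := by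
    rw [← P.isPGroup'.inf_normalizer_sylow Q]
    ext x
    rw [MulAction.mem_stabilizer_iff, Subgroup.mem_subgroupOf, Subgroup.mem_inf]
    exact ⟨fun hx => ⟨x.2, Sylow.smul_eq_iff_mem_normalizer.1 hx⟩,
      fun hx => Sylow.smul_eq_iff_mem_normalizer.2 hx.2⟩
  obtain ⟨k, hk⟩ := P.isPGroup'.index
    (((P : Subgroup G) ⊓ (Q : Subgroup G)).subgroupOf (P : Subgroup G))
  have hlt : p ^ k < p ^ 2 := by
    refine lt_of_le_of_lt ?_ hn
    rw [← hk, ← hstab, MulAction.index_stabilizer]
    exact Set.ncard_le_card _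
  have hk2 : k < 2 := (Nat.pow_lt_pow_iff_right hp.one_lt).1 hlt
  rw [Subgroup.relIndex, hk]
  rcases (by omega : k = 0 ∨ k = 1) with rfl | rfl
  · rw [pow_zero, Subgroup.index_eq_one, Subgroup.subgroupOf_eq_top] at hk
    exact absurd (Sylow.ext (P.is_maximal' Q.isPGroup' (hk.trans inf_le_right))) h
  · rw [pow_one]

theorem card_eq_prime_mul (hn : Nat.card (Sylow p G) < p ^ 2) {P Q : Sylow p G} (h : Q ≠ P) :
    Nat.card (P : Subgroup G) = p * Nat.card ((P : Subgroup G) ⊓ (Q : Subgroup G) : Subgroup G) := by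
  have h1 := relIndex_inf_eq hn h
  have h2 := Subgroup.relIndex_mul_relIndex ⊥ ((P : Subgroup G) ⊓ (Q : Subgroup G)) P bot_le inf_le_left
  rw [Subgroup.relIndex_bot_left, Subgroup.relIndex_bot_left, h1] at h2
  rw [← h2, mul_comm]

theorem commutator_mem (hn : Nat.card (Sylow p G) < p ^ 2) (P Q : Sylow p G) {x y : G}
    (hx : x ∈ (P : Subgroup G)) (hy : y ∈ (P : Subgroup G)) : x * y * x⁻¹ * y⁻¹ ∈ (Q : Subgroup G) := by
  have hp : p.Prime := Fact.out
  rcases eq_or_ne Q P with rfl | h
  · exact mul_mem (mul_mem (mul_mem hx hy) (inv_mem hx)) (inv_mem hy)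
  set D := ((P : Subgroup G) ⊓ (Q : Subgroup G)).subgroupOf (P : Subgroup G)
  have hi : D.index = p := relIndex_inf_eq hn h
  have hP : IsPGroup p (P : Subgroup G) := P.isPGroup'
  have : Nontrivial (P : Subgroup G) := by
    rw [← Finite.one_lt_card_iff_nontrivial, ← D.card_mul_index, hi]
    exact lt_of_lt_of_le hp.one_lt (Nat.le_mul_of_pos_left _ Nat.card_pos)
  have hmin : (Nat.card (P : Subgroup G)).minFac = p := by
    obtain ⟨n, hn0, hn⟩ := hP.nontrivial_iff_card.1 this
    rw [hn, hp.pow_minFac hn0.ne']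
  have : D.Normal := Subgroup.normal_of_index_eq_minFac_card (by rw [hmin, hi])
  have hc : IsCyclic ((P : Subgroup G) ⧸ D) :=
    isCyclic_of_prime_card (p := p) (by rw [← Subgroup.index_eq_card, hi])
  have : IsMulCommutative ((P : Subgroup G) ⧸ D) := inferInstance
  have hmem : (⟨x, hx⟩ * ⟨y, hy⟩ * ⟨x, hx⟩⁻¹ * ⟨y, hy⟩⁻¹ : (P : Subgroup G)) ∈ D := by
    have hab : ∀ a b : (P : Subgroup G) ⧸ D, a * b * a⁻¹ * b⁻¹ = 1 := fun a b => by
      rw [mul_comm' a b]; group
    rw [← QuotientGroup.eq_one_iff]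
    exact hab ((⟨x, hx⟩ : (P : Subgroup G)) : (P : Subgroup G) ⧸ D) ((⟨y, hy⟩ : (P : Subgroup G)) : (P : Subgroup G) ⧸ D)
  exact hmem.2

/-- Let S be a finite non-abelian simple group and p a prime dividing its order. If S has fewer than p² Sylow p-subgroups, then its Sylow p-subgroups have order p. -/
theorem result {S : Type*} [Group S] [Finite S]
    [IsSimpleGroup S] (hS : ¬ IsMulCommutative S) (p : ℕ) [Fact p.Prime] (hp : p ∣ Nat.card S)
    (hn : Nat.card (Sylow p S) < p ^ 2) (P : Sylow p S) : Nat.card P = p := by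
  have hp' : p.Prime := Fact.out
  have hex : ∀ R : Sylow p S, ∃ Q : Sylow p S, Q ≠ R := by
    intro R
    by_contra h
    push Not at h
    have : (R : Subgroup S).Normal := by
      have : Subsingleton (Sylow p S) := ⟨fun a b => (h a).trans (h b).symm⟩
      exact R.normal_of_subsingleton
    rcases IsSimpleGroup.eq_bot_or_eq_top_of_normal (R : Subgroup S) this with hb | ht
    · exact R.ne_bot_of_dvd_card hp hb
    · have : IsPGroup p S := R.isPGroup'.of_equiv ((MulEquiv.subgroupCongr ht).trans Subgroup.topEquiv)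
      have : Nontrivial S := inferInstance
      have hc := this
      have hz : Subgroup.center S = ⊤ :=
        (IsSimpleGroup.eq_bot_or_eq_top_of_normal (Subgroup.center S) inferInstance).resolve_left
          (by
            intro h0
            have := ‹IsPGroup p S›.center_nontrivial
            rw [Subgroup.nontrivial_iff_ne_bot] at this
            exact this h0)
      exact hS ⟨⟨fun a b => (Subgroup.mem_center_iff.1 (hz ▸ Subgroup.mem_top b : b ∈ Subgroup.center S) a)⟩⟩
  have hcore : ∀ z : S, (∀ Q : Sylow p S, z ∈ (Q : Subgroup S)) → z = 1 := by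
    intro z hz
    let K : Subgroup S := ⨅ Q : Sylow p S, (Q : Subgroup S)
    have hKn : K.Normal := ⟨fun a ha g => by
      rw [Subgroup.mem_iInf] at ha ⊢
      intro Q
      have := ha (g⁻¹ • Q)
      rw [Sylow.coe_subgroup_smul, Subgroup.mem_pointwise_smul_iff_inv_smul_mem] at this
      simpa [MulAut.smul_def] using this⟩
    have hzK : z ∈ K := Subgroup.mem_iInf.2 hz
    rcases IsSimpleGroup.eq_bot_or_eq_top_of_normal K hKn with hb | ht
    · exact Subgroup.mem_bot.1 (hb ▸ hzK)
    · obtain ⟨Q, hQ⟩ := hex P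
      refine absurd (Sylow.ext (P.is_maximal' Q.isPGroup' ?_)) hQ
      intro w _
      exact Subgroup.mem_iInf.1 (ht ▸ Subgroup.mem_top w : w ∈ K) Q
  have hab : ∀ (R : Sylow p S) (x y : S), x ∈ (R : Subgroup S) → y ∈ (R : Subgroup S) → x * y = y * x := by
    intro R x y hx hy
    have := hcore _ (fun Q => commutator_mem hn R Q hx hy)
    calc x * y = (x * y * x⁻¹ * y⁻¹) * y * x := by group
      _ = y * x := by rw [this, one_mul]
  obtain ⟨Q, hQ⟩ := hex P
  set D := (P : Subgroup S) ⊓ (Q : Subgroup S) with hD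
  set C := Subgroup.centralizer (D : Set S) with hC
  have hPC : (P : Subgroup S) ≤ C := fun x hx => Subgroup.mem_centralizer_iff.2 fun d hd => hab P d x hd.1 hx
  have hQC : (Q : Subgroup S) ≤ C := fun x hx => Subgroup.mem_centralizer_iff.2 fun d hd => hab Q d x hd.2 hx
  have hDall : ∀ R : Sylow p S, D ≤ (R : Subgroup S) := by
    intro R
    obtain ⟨T, hT⟩ := (R.isPGroup'.comap_subtype (K := C)).exists_le_sylow
    obtain ⟨c, hc⟩ := MulAction.exists_smul_eq C T (P.subtype hPC)
    set R' : Sylow p S := (c : S) • R with hR'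
    have hle : (R' : Subgroup S) ⊓ (Q : Subgroup S) ≤ D := by
      intro x hx
      refine ⟨?_, hx.2⟩
      have h1 := hx.1
      rw [hR'] at h1
      change x ∈ MulAut.conj (c : S) • (R : Subgroup S) at h1
      rw [Subgroup.mem_pointwise_smul_iff_inv_smul_mem] at h1
      have h2 : (⟨x, hQC hx.2⟩ : C) ∈ ((c • T : Sylow p C) : Subgroup C) := by
        rw [Sylow.coe_subgroup_smul, Subgroup.mem_pointwise_smul_iff_inv_smul_mem]
        apply hT
        simpa [Subgroup.mem_subgroupOf, MulAut.smul_def] using h1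
      rw [hc, Sylow.coe_subtype, Subgroup.mem_subgroupOf] at h2
      exact h2
    have heq : (R' : Subgroup S) ⊓ (Q : Subgroup S) = D := by
      refine Subgroup.eq_of_le_of_card_ge hle ?_
      rcases eq_or_ne R' Q with h | h
      · rw [h, inf_idem]
        exact Subgroup.card_le_of_le inf_le_right
      · have h1 := card_eq_prime_mul hn (Ne.symm h)
        have h2 := card_eq_prime_mul hn hQ
        have h3 : Nat.card (R' : Subgroup S) = Nat.card (P : Subgroup S) :=
          Nat.card_congr (R'.equiv P).toEquiv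
        rw [h3, h2] at h1
        exact (Nat.eq_of_mul_eq_mul_left hp'.pos h1).le
    intro d hd
    have h1 : d ∈ (R' : Subgroup S) := (heq.symm ▸ hd : d ∈ (R' : Subgroup S) ⊓ (Q : Subgroup S)).1
    rw [hR'] at h1
    change d ∈ MulAut.conj (c : S) • (R : Subgroup S) at h1
    rw [Subgroup.mem_pointwise_smul_iff_inv_smul_mem] at h1
    have hcd : (c : S)⁻¹ * d * c = d := by
      have := Subgroup.mem_centralizer_iff.1 c.2 d hd
      rw [mul_assoc, this, inv_mul_cancel_left]
    simpa [MulAut.smul_def, hcd] using h1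
  have hD1 : D = ⊥ := (Subgroup.eq_bot_iff_forall _).2 fun d hd => hcore d fun R => hDall R hd
  have := card_eq_prime_mul hn hQ
  rw [← hD, hD1, Subgroup.card_bot, mul_one] at this
  exact this

end Cfsg.Agent.S4343
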