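import Cfsg.Statements.S0672
import Cfsg.Agent.Lib.Perm.PermModule
import Cfsg.Agent.Lib.Perm.Triple
import Mathlib.GroupTheory.Perm.Cycle.Type

set_option autoImplicit false
open Cfsg

namespace Cfsg.Agent.S0672

open scoped Pointwise

/-- Let a finite group act faithfully and doubly transitively with point stabilisers of even order, and let `K` have characteristic `p` dividing the degree. If the heart of the permutation module admits no non-zero equivariant map to the permutation module on unordered pairs (phrased: every intertwining map from the sum-zero functions vanishing on the constants is zero), the action is triply transitive. -/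
theorem result {G : Type*} [Group G] [Finite G] {K : Type*} [Field K] {p : ℕ} [Fact p.Prime] [CharP K p] {Ω : Type*} [Fintype Ω] [DecidableEq Ω] [MulAction G Ω] [FaithfulSMul G Ω] (h2 : MulAction.IsMultiplyPretransitive G Ω 2) (hp : p ∣ Fintype.card Ω) (heven : ∀ a : Ω, Even (Nat.card (MulAction.stabilizer G a))) (h : ∀ f : Representation.IntertwiningMap (Cfsg.permSumZero K G Ω).toRepresentation (Cfsg.permRep K G (Set.powersetCard Ω 2)), (∀ v : (Cfsg.permSumZero K G Ω).toSubmodule, (v : Ω → K) ∈ (Cfsg.permConstants K G Ω).toSubmodule → f v = 0) → f = 0) : MulAction.IsMultiplyPretransitive G Ω 3 := by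
  rw [CfsgLib.Perm.is_three_pretransitive_iff]
  have hn : (Fintype.card Ω : K) = 0 := by rw [CharP.cast_eq_zero_iff K p]; exact hp
  let W := Set.powersetCard Ω 2
  have hpair : ∀ a b a' b' : Ω, a ≠ b → a' ≠ b' → ∀ g : G, g • ({a, b} : Finset Ω) = {a', b'} →
      (g • a = a' ∧ g • b = b') ∨ (g • a = b' ∧ g • b = a') := by
    intro a b a' b' hab hab' g hg
    have ha : g • a ∈ ({a', b'} : Finset Ω) := hg ▸ Finset.smul_mem_smul_finset (by simp)
    have hb : g • b ∈ ({a', b'} : Finset Ω) := hg ▸ Finset.smul_mem_smul_finset (by simp)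
    have hne : g • a ≠ g • b := fun e => hab (MulAction.injective g e)
    simp only [Finset.mem_insert, Finset.mem_singleton] at ha hb
    rcases ha with ha | ha <;> rcases hb with hb | hb
    · exact absurd (ha.trans hb.symm) hne
    · exact Or.inl ⟨ha, hb⟩
    · exact Or.inr ⟨ha, hb⟩
    · exact absurd (ha.trans hb.symm) hne
  -- transitivity on (pair, outside point)
  have key : ∀ (P₀ : W) (c₀ : Ω) (P : W) (c : Ω), c₀ ∉ (P₀ : Finset Ω) → c ∉ (P : Finset Ω) →
      ∃ g : G, g • P₀ = P ∧ g • c₀ = c := by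
    intro P₀ c₀ P' c' hc₀ hc'
    by_contra hno
    let A : W → Ω → Prop := fun P x => ∃ g : G, g • P₀ = P ∧ g • c₀ = x
    classical
    obtain ⟨u, v, huv, hP'⟩ := Finset.card_eq_two.mp P'.2
    have hA : ∀ (g : G) P x, A (g • P) (g • x) ↔ A P x := by
      intro g P x
      constructor
      · rintro ⟨m, hm1, hm2⟩
        exact ⟨g⁻¹ * m, by rw [mul_smul, hm1, inv_smul_smul], by rw [mul_smul, hm2, inv_smul_smul]⟩
      · rintro ⟨m, hm1, hm2⟩
        exact ⟨g * m, by rw [mul_smul, hm1], by rw [mul_smul, hm2]⟩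
    have hsmem : ∀ (g : G) (P : W) (x : Ω), g • x ∈ ((g • P : W) : Finset Ω) ↔ x ∈ (P : Finset Ω) := by
      intro g P x
      rw [Set.powersetCard.coe_smul]
      exact Finset.smul_mem_smul_finset_iff g
    have hAnot : ∀ P x, A P x → x ∉ (P : Finset Ω) := by
      rintro P x ⟨g, rfl, rfl⟩
      rw [hsmem]; exact hc₀
    have hWtrans : ∀ P : W, ∃ g : G, g • P₀ = P := by
      intro P
      obtain ⟨a, b, hab, hP₀⟩ := Finset.card_eq_two.mp P₀.2
      obtain ⟨a', b', hab', hP⟩ := Finset.card_eq_two.mp P.2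
      obtain ⟨g, hga, hgb⟩ := CfsgLib.Perm.exists_smul_pair h2 hab hab'
      refine ⟨g, Subtype.ext ?_⟩
      rw [Set.powersetCard.coe_smul, hP₀, hP]
      simp [Finset.smul_finset_insert, Finset.smul_finset_singleton, hga, hgb]
    set N : K := ((Finset.univ.filter fun x => A P₀ x).card : K) with hN
    have hNinv : ∀ P : W, ((Finset.univ.filter fun x => A P x).card : K) = N := by
      intro P
      obtain ⟨g, rfl⟩ := hWtrans P
      rw [hN]
      congr 1
      symm
      refine Finset.card_bij (fun x _ => g • x) (fun x hx => ?_) (fun _ _ _ _ e => MulAction.injective g e)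
        (fun x hx => ⟨g⁻¹ • x, ?_, smul_inv_smul g x⟩)
      · rw [Finset.mem_filter] at hx ⊢; exact ⟨Finset.mem_univ _, (hA g P₀ x).mpr hx.2⟩
      · rw [Finset.mem_filter] at hx ⊢
        refine ⟨Finset.mem_univ _, (hA g P₀ _).mp ?_⟩
        rw [smul_inv_smul]; exact hx.2
    obtain ⟨α', β, hαβ, hne⟩ : ∃ α' β : K, 2 * α' + N * β = 0 ∧ (α' ≠ 0 ∨ β ≠ 0) := by
      by_cases hN0 : N = 0 ∧ (2 : K) = 0
      · exact ⟨0, 1, by rw [hN0.1]; ring, Or.inr one_ne_zero⟩
      · refine ⟨N, -2, by ring, ?_⟩
        rw [not_and_or] at hN0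
        rcases hN0 with h | h
        · exact Or.inl h
        · exact Or.inr (neg_ne_zero.mpr h)
    let w : W → Ω → K := fun P x => if x ∈ (P : Finset Ω) then α' else if A P x then β else 0
    have hwinv : ∀ (g : G) P x, w (g • P) (g • x) = w P x := by
      intro g P x; simp only [w, hsmem, hA]
    have hwsum : ∀ P, ∑ x, w P x = 0 := by
      intro P
      have : ∀ x, w P x = (if x ∈ (P : Finset Ω) then α' else 0) + (if A P x then β else 0) := by
        intro x
        simp only [w]
        by_cases hx : x ∈ (P : Finset Ω)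
        · have : ¬ A P x := fun h => hAnot P x h hx
          simp [hx, this]
        · simp [hx]
      simp only [this, Finset.sum_add_distrib, Finset.sum_ite, Finset.sum_const,
        nsmul_eq_mul, mul_zero, add_zero, hNinv]
      rw [Finset.filter_univ_mem, P.2, ← hαβ]
      push_cast; ring
    let F : (Cfsg.permSumZero K G Ω).toSubmodule →ₗ[K] (W → K) :=
      { toFun := fun v P => ∑ x, w P x * (v : Ω → K) x
        map_add' := fun v v' => by funext P; simp [mul_add, Finset.sum_add_distrib]
        map_smul' := fun r v => by funext P; simp [Finset.mul_sum, mul_left_comm] }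
    have hF : ∀ g v, F ((Cfsg.permSumZero K G Ω).toRepresentation g v) = Cfsg.permRep K G W g (F v) := by
      intro g v
      funext P
      show ∑ x, w P x * (v : Ω → K) (g⁻¹ • x) = ∑ x, w (g⁻¹ • P) x * (v : Ω → K) x
      refine Fintype.sum_equiv (MulAction.toPerm g⁻¹) _ _ fun x => ?_
      rw [MulAction.toPerm_apply, hwinv]
    have hzero := h (F.intertwiningMap_of_isIntertwiningMap _ _ hF) (fun v hv => by
      obtain ⟨r, hr⟩ := CfsgLib.Perm.mem_permConstants.mp hv
      funext P
      show ∑ x, w P x * (v : Ω → K) x = 0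
      simp only [hr, ← Finset.sum_mul, hwsum, zero_mul])
    have hconst : ∀ P x y, w P x = w P y := by
      intro P x y
      have hmem : (Pi.single x 1 - Pi.single y 1 : Ω → K) ∈ (Cfsg.permSumZero K G Ω).toSubmodule := by
        rw [CfsgLib.Perm.mem_permSumZero]; simp [Finset.sum_sub_distrib]
      have := congrFun (DFunLike.congr_fun hzero ⟨_, hmem⟩) P
      simp only [Representation.IntertwiningMap.coe_zero, Pi.zero_apply] at this
      change ∑ z, w P z * (Pi.single x 1 - Pi.single y 1 : Ω → K) z = 0 at this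
      simpa [mul_sub, Finset.sum_sub_distrib, sub_eq_zero, Pi.single_apply] using this
    -- the three classes take the values `α'`, `β`, `0`
    have h1 : w P' u = α' := by simp [w, hP']
    have h2' : w P' c' = 0 := by
      have : ¬ A P' c' := fun hA' => hno hA'
      simp [w, hc', this]
    have h3 : w P₀ c₀ = β := by
      have : A P₀ c₀ := ⟨1, one_smul _ _, one_smul _ _⟩
      simp [w, hc₀, this]
    have hα0 : α' = 0 := by rw [← h1, hconst P' u c', h2']
    obtain ⟨a, ha⟩ : ∃ a, a ∈ (P₀ : Finset Ω) := Finset.card_pos.mp (by rw [P₀.2]; omega)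
    have hβ0 : β = 0 := by
      rw [← h3, hconst P₀ c₀ a]; simp [w, ha, hα0]
    tauto
  have htri : ∀ a b c a' b' c' : Ω, a ≠ b → a ≠ c → b ≠ c → a' ≠ b' → a' ≠ c' → b' ≠ c' →
      ∃ g : G, ((g • a = a' ∧ g • b = b') ∨ (g • a = b' ∧ g • b = a')) ∧ g • c = c' := by
    intro a b c a' b' c' h1 h2 h3 h4 h5 h6
    obtain ⟨g, hg, hgc⟩ := key ⟨{a, b}, Finset.card_pair h1⟩ c ⟨{a', b'}, Finset.card_pair h4⟩ c'
      (by simp [Ne.symm h2, Ne.symm h3]) (by simp [Ne.symm h5, Ne.symm h6])
    refine ⟨g, hpair a b a' b' h1 h4 g ?_, hgc⟩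
    exact congrArg (fun C : W => (C : Finset Ω)) hg
  intro a b c a' b' c' h1 h2' h3 h4 h5 h6
  obtain ⟨g, hg | hg, hgc⟩ := htri a b c a' b' c' h1 h2' h3 h4 h5 h6
  · exact ⟨g, hg.1, hg.2, hgc⟩
  obtain ⟨t, ht⟩ := exists_prime_orderOf_dvd_card' (G := MulAction.stabilizer G a) 2 (heven a).two_dvd
  have ht2 : (t : G) * t = 1 := by
    have := pow_orderOf_eq_one t
    rw [ht, pow_two] at this
    exact congrArg Subtype.val this
  have ht1 : (t : G) ≠ 1 := fun e => by
    have : t = 1 := Subtype.ext e
    rw [this, orderOf_one] at ht; omega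
  obtain ⟨x, hx⟩ : ∃ x : Ω, (t : G) • x ≠ x := by
    by_contra hh
    push Not at hh
    exact ht1 (eq_of_smul_eq_smul fun x : Ω => by rw [hh, one_smul])
  have hta : (t : G) • a = a := t.2
  have htt : (t : G) • (t : G) • x = x := by rw [← mul_smul, ht2, one_smul]
  have hxa : x ≠ a := fun e => hx (by rw [e, hta])
  have htxa : (t : G) • x ≠ a := fun e => hxa (MulAction.injective (t : G) (e.trans hta.symm))
  obtain ⟨m, hm, hma⟩ := htri x ((t : G) • x) a a' b' c' (Ne.symm hx) hxa htxa h4 h5 h6
  have hswap : ((m * t * m⁻¹ : G) • a' = b') ∧ ((m * t * m⁻¹ : G) • b' = a') ∧ ((m * t * m⁻¹ : G) • c' = c') := by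
    simp only [mul_smul]
    refine ⟨?_, ?_, ?_⟩
    · rcases hm with h | h
      · rw [← h.1, inv_smul_smul, h.2]
      · rw [← h.2, inv_smul_smul, htt, h.1]
    · rcases hm with h | h
      · rw [← h.2, inv_smul_smul, htt, h.1]
      · rw [← h.1, inv_smul_smul, h.2]
    · rw [← hma, inv_smul_smul, hta]
  refine ⟨m * t * m⁻¹ * g, ?_, ?_, ?_⟩
  · rw [mul_smul, hg.1, hswap.2.1]
  · rw [mul_smul, hg.2, hswap.1]
  · rw [mul_smul, hgc, hswap.2.2]

end Cfsg.Agent.S0672
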