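import Cfsg.Statements.S0673
import Mathlib.LinearAlgebra.Eigenspace.Zero
import Mathlib.RingTheory.Polynomial.Basic
import Mathlib.Algebra.Field.ZMod
import Mathlib.Algebra.CharP.Algebra
import Mathlib.Algebra.CharP.Lemmas
import Mathlib.LinearAlgebra.Lagrange
import Mathlib.Algebra.Polynomial.Roots
import Mathlib.LinearAlgebra.Dimension.Constructions

set_option autoImplicit false
open Cfsg

namespace Cfsg.Agent.S0673

theorem cast_sub_one {p : ℕ} [Fact p.Prime] {K : Type*} [Field K] [CharP K p] (j : ZMod p) :
    (ZMod.cast (j - 1) : K) = ZMod.cast j - 1 := by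
  have := map_sub (ZMod.castHom dvd_rfl K) j 1
  simpa using this

/-- In characteristic `p`, the translation-invariant subspaces of the space of functions on `ZMod p` are exactly the spaces of polynomial functions of degree less than `r`, one for each `r ≤ p`, of dimension `r`. -/
theorem result {p : ℕ} [Fact p.Prime] {K : Type*} [Field K] [CharP K p] (W : Submodule K (ZMod p → K)) (hW : ∀ f ∈ W, (fun j => f (j - 1)) ∈ W) : ∃ r : ℕ, r ≤ p ∧ Module.finrank K W = r ∧ ∀ f : ZMod p → K, f ∈ W ↔ ∃ P : Polynomial K, P.degree < r ∧ ∀ j : ZMod p, f j = P.eval (ZMod.cast j : K) := by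
  classical
  let D : (ZMod p → K) →ₗ[K] (ZMod p → K) :=
    { toFun := fun f j => f (j - 1) - f j
      map_add' := fun f g => by funext j; simp only [Pi.add_apply]; ring
      map_smul' := fun c f => by funext j; simp [mul_sub] }
  have hkerD : Module.finrank K (LinearMap.ker D) ≤ 1 := by
    have hle : LinearMap.ker D ≤ Submodule.span K {fun _ => (1 : K)} := by
      intro f hf
      rw [LinearMap.mem_ker] at hf
      have hstep : ∀ j : ZMod p, f (j - 1) = f j := fun j => sub_eq_zero.mp (congrFun hf j)
      have hnat : ∀ i : ℕ, f (i : ZMod p) = f 0 := by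
        intro i
        induction i with
        | zero => simp
        | succ i ih => rw [← ih, ← hstep ((i + 1 : ℕ) : ZMod p)]; simp
      rw [Submodule.mem_span_singleton]
      refine ⟨f 0, funext fun j => ?_⟩
      obtain ⟨i, rfl⟩ := ZMod.natCast_zmod_surjective j
      simp [hnat i]
    refine (Submodule.finrank_mono hle).trans ?_
    exact (finrank_span_le_card _).trans (by simp)
  have hker : ∀ i : ℕ, Module.finrank K (LinearMap.ker (D ^ i)) ≤ i := by
    intro i
    induction i with
    | zero =>
      rw [pow_zero, Module.End.one_eq_id, LinearMap.ker_id, finrank_bot]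
    | succ i ih =>
      let φ : LinearMap.ker (D ^ (i + 1)) →ₗ[K] LinearMap.ker (D ^ i) :=
        (D ∘ₗ (LinearMap.ker (D ^ (i + 1))).subtype).codRestrict _ (fun v => by
          rw [LinearMap.mem_ker, LinearMap.comp_apply, Submodule.subtype_apply, ← Module.End.mul_apply,
            ← pow_succ]
          exact v.2)
      have h1 := φ.finrank_range_add_finrank_ker
      have h2 : Module.finrank K (LinearMap.range φ) ≤ i := (Submodule.finrank_le _).trans ih
      let ψ : LinearMap.ker φ →ₗ[K] LinearMap.ker D :=
        ((LinearMap.ker (D ^ (i + 1))).subtype ∘ₗ (LinearMap.ker φ).subtype).codRestrict _ (fun v => by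
          rw [LinearMap.mem_ker]
          exact congrArg Subtype.val (LinearMap.mem_ker.mp v.2))
      have h3 : Module.finrank K (LinearMap.ker φ) ≤ Module.finrank K (LinearMap.ker D) :=
        LinearMap.finrank_le_finrank_of_injective (f := ψ) (fun v w e =>
          Subtype.ext (Subtype.ext (congrArg (fun z : LinearMap.ker D => (z : ZMod p → K)) e)))
      omega
  have hpowp : D ^ p = 0 := by
    let S : Module.End K (ZMod p → K) :=
      { toFun := fun f j => f (j - 1)
        map_add' := fun f g => rfl
        map_smul' := fun c f => rfl }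
    have hS : ∀ (i : ℕ) (f : ZMod p → K) (j : ZMod p), (S ^ i) f j = f (j - i) := by
      intro i
      induction i with
      | zero => intro f j; simp
      | succ i ih =>
        intro f j
        rw [pow_succ', Module.End.mul_apply]
        show (S ^ i) f (j - 1) = _
        rw [ih]
        congr 1
        push_cast
        ring
    have hSp : S ^ p = 1 := by
      refine LinearMap.ext fun f => funext fun j => ?_
      rw [hS]; simp
    have hD : D = S + (-1) := by
      refine LinearMap.ext fun f => funext fun j => ?_
      show f (j - 1) - f j = _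
      rw [sub_eq_add_neg]; rfl
    haveI : CharP (Module.End K (ZMod p → K)) p := charP_of_injective_algebraMap
      (algebraMap K (Module.End K (ZMod p → K))).injective p
    rw [hD, add_pow_char_of_commute p (Commute.neg_one_right S), hSp]
    rcases (Fact.out (p := p.Prime)).eq_two_or_odd' with h2 | ho
    · have h2' : ((p : ℕ) : Module.End K (ZMod p → K)) = 2 := by
        rw [show ((p : ℕ) : Module.End K (ZMod p → K)) = ((2 : ℕ) : Module.End K (ZMod p → K)) from congrArg Nat.cast h2]
        rfl
      have h4 : ((-1 : Module.End K (ZMod p → K)) ^ p) = 1 :=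
        (congrArg (fun i : ℕ => (-1 : Module.End K (ZMod p → K)) ^ i) h2).trans (by show (-1 : Module.End K (ZMod p → K)) ^ 2 = 1; rw [pow_two]; apply LinearMap.ext; intro f; simp [Module.End.mul_apply])
      rw [h4, one_add_one_eq_two, ← h2', CharP.cast_eq_zero]
    · rw [ho.neg_one_pow]; exact add_neg_cancel 1
  have hinv_eq : ∀ (V : Submodule K (ZMod p → K)), (∀ f ∈ V, (fun j => f (j - 1)) ∈ V) →
      V = LinearMap.ker (D ^ Module.finrank K V) := by
    intro V hV
    have hDV : ∀ f ∈ V, D f ∈ V := fun f hf => V.sub_mem (hV f hf) hf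
    let DV : Module.End K V := D.restrict hDV
    have hpow : ∀ (i : ℕ) (v : V), (((DV ^ i) v : V) : ZMod p → K) = (D ^ i) v := by
      intro i
      induction i with
      | zero => intro v; rfl
      | succ i ih =>
        intro v
        rw [pow_succ', pow_succ', Module.End.mul_apply, Module.End.mul_apply, ← ih]
        rfl
    have hnil : IsNilpotent DV := ⟨p, LinearMap.ext fun v => Subtype.ext (by rw [hpow, hpowp]; rfl)⟩
    have h0 : DV ^ Module.finrank K V = 0 := by
      have h1 := LinearMap.aeval_self_charpoly DV
      rw [(LinearMap.isNilpotent_iff_charpoly DV).mp hnil] at h1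
      simpa using h1
    refine Submodule.eq_of_le_of_finrank_le (fun f hf => ?_) (hker _)
    rw [LinearMap.mem_ker]
    have := congrArg (fun T : Module.End K V => ((T ⟨f, hf⟩ : V) : ZMod p → K)) h0
    simp only [hpow] at this
    exact this
  set r := Module.finrank K W with hr
  have hrp : r ≤ p := by
    have := Submodule.finrank_le W
    rwa [Module.finrank_fintype_fun_eq_card, ZMod.card] at this
  let ev : Polynomial K →ₗ[K] (ZMod p → K) :=
    { toFun := fun P j => P.eval (ZMod.cast j : K)
      map_add' := fun P Q => by funext j; simp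
      map_smul' := fun c P => by funext j; simp }
  let V : Submodule K (ZMod p → K) := (Polynomial.degreeLT K r).map ev
  have hinj : ∀ P : Polynomial K, P.degree < r → ev P = 0 → P = 0 := by
    intro P hP hev
    apply Polynomial.eq_zero_of_degree_lt_of_eval_index_eq_zero
      (s := (Finset.univ : Finset (ZMod p))) (v := fun j : ZMod p => (ZMod.cast j : K))
      (fun x _ y _ e => (ZMod.castHom dvd_rfl K).injective (by simpa using e))
      (by rw [Finset.card_univ, ZMod.card]; exact lt_of_lt_of_le hP (by exact_mod_cast hrp))
      (fun j _ => congrFun hev j)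
  have hVdim : Module.finrank K V = r := by
    have hinj' : Function.Injective (ev ∘ₗ (Polynomial.degreeLT K r).subtype) := by
      rw [← LinearMap.ker_eq_bot, LinearMap.ker_eq_bot']
      intro P hP
      exact Subtype.ext (hinj P (Polynomial.mem_degreeLT.mp P.2) hP)
    have h := LinearMap.finrank_range_of_inj hinj'
    rw [LinearMap.range_comp, Submodule.range_subtype] at h
    rw [show V = (Polynomial.degreeLT K r).map ev from rfl, h,
      (Polynomial.degreeLTEquiv K r).finrank_eq, Module.finrank_fin_fun]
  have hVinv : ∀ f ∈ V, (fun j => f (j - 1)) ∈ V := by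
    rintro _ ⟨P, hP, rfl⟩
    refine ⟨P.comp (Polynomial.X - Polynomial.C 1), ?_, ?_⟩
    · rw [SetLike.mem_coe, Polynomial.mem_degreeLT] at hP ⊢
      rcases eq_or_ne P 0 with rfl | hP0
      · simpa using hP
      · refine lt_of_le_of_lt ?_ hP
        rw [Polynomial.degree_eq_natDegree hP0]
        refine Polynomial.natDegree_le_iff_degree_le.mp ?_
        rw [Polynomial.natDegree_comp, Polynomial.natDegree_X_sub_C, mul_one]
    · funext j
      show (P.comp (Polynomial.X - Polynomial.C 1)).eval (ZMod.cast j : K) = P.eval (ZMod.cast (j - 1) : K)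
      rw [Polynomial.eval_comp, cast_sub_one]
      simp
  have hWV : W = V := by rw [hinv_eq W hW, hinv_eq V hVinv, hVdim]
  refine ⟨r, hrp, rfl, fun f => ?_⟩
  rw [hWV]
  constructor
  · rintro ⟨P, hP, rfl⟩
    exact ⟨P, Polynomial.mem_degreeLT.mp hP, fun j => rfl⟩
  · rintro ⟨P, hP, hf⟩
    exact ⟨P, Polynomial.mem_degreeLT.mpr hP, (funext hf).symm⟩

end Cfsg.Agent.S0673
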