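import Cfsg.Statements.S0674
import Cfsg.Agent.Lib.Perm.PermModule
import Cfsg.Agent.Lib.Perm.PrimeDegree
import Cfsg.Agent.S0673
import Mathlib.RingTheory.Polynomial.Basic
import Mathlib.LinearAlgebra.Dimension.Constructions
import Mathlib.LinearAlgebra.Lagrange

set_option autoImplicit false
open Cfsg

namespace Cfsg.Agent.S0674

theorem affine_of_invariant {p : ℕ} [Fact p.Prime] {K : Type*} [Field K] [CharP K p]
    (V : Submodule K (ZMod p → K)) (hV : ∀ f ∈ V, (fun j => f (j - 1)) ∈ V)
    (π : ZMod p → ZMod p) (hπ : ∀ f ∈ V, (fun j => f (π j)) ∈ V) (hr : 2 ≤ Module.finrank K V)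
    (hr' : 2 * Module.finrank K V ≤ p + 1) : ∃ a b : ZMod p, ∀ j, π j = a * j + b := by
  obtain ⟨r, hrp, hrW, hiff⟩ := Cfsg.Agent.S0673.result V hV
  subst hrW
  set r := Module.finrank K V
  have hid : (fun j : ZMod p => (ZMod.cast j : K)) ∈ V :=
    (hiff _).mpr ⟨Polynomial.X, by rw [Polynomial.degree_X]; exact_mod_cast (show 1 < r by omega), fun j => by simp⟩
  obtain ⟨P, hP, hPe⟩ := (hiff _).mp (hπ _ hid)
  have hd : P.natDegree < r := by
    rcases eq_or_ne P 0 with rfl | h0
    · simp; omega
    · exact (Polynomial.natDegree_lt_iff_degree_lt h0).mpr hP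
  have hinj : Function.Injective fun j : ZMod p => (ZMod.cast j : K) := by
    intro x y e
    exact (ZMod.castHom dvd_rfl K).injective (by simpa using e)
  rcases le_or_gt P.natDegree 1 with h1 | h1
  · refine ⟨π 1 - π 0, π 0, fun j => hinj ?_⟩
    have key : ∀ i : ZMod p, (ZMod.cast (π i) : K) = P.coeff 1 * ZMod.cast i + P.coeff 0 := by
      intro i
      rw [hPe i]
      conv_lhs => rw [Polynomial.eq_X_add_C_of_natDegree_le_one h1]
      simp
    show (ZMod.cast (π j) : K) = ZMod.cast ((π 1 - π 0) * j + π 0)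
    have hc : ∀ x y : ZMod p, (ZMod.cast (x * y) : K) = ZMod.cast x * ZMod.cast y :=
      fun x y => map_mul (ZMod.castHom dvd_rfl K) x y
    have hc2 : ∀ x y : ZMod p, (ZMod.cast (x + y) : K) = ZMod.cast x + ZMod.cast y :=
      fun x y => map_add (ZMod.castHom dvd_rfl K) x y
    have hc3 : ∀ x y : ZMod p, (ZMod.cast (x - y) : K) = ZMod.cast x - ZMod.cast y :=
      fun x y => map_sub (ZMod.castHom dvd_rfl K) x y
    have hc0 : (ZMod.cast (0 : ZMod p) : K) = 0 := map_zero (ZMod.castHom dvd_rfl K)
    have hc1 : (ZMod.cast (1 : ZMod p) : K) = 1 := map_one (ZMod.castHom dvd_rfl K)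
    rw [hc2, hc, hc3, key j, key 1, key 0, hc0, hc1]
    ring
  · exfalso
    set d := P.natDegree with hdd
    let i := (r + d - 1) / d
    have hdm := Nat.div_add_mod (r + d - 1) d
    have hmod := Nat.mod_lt (r + d - 1) (show 0 < d by omega)
    have hid1 : r ≤ d * i := by simp only [i]; omega
    have hid2 : d * i ≤ r + d - 1 := by simp only [i]; omega
    have hir : i < r := by
      by_contra h
      have h' : d * r ≤ d * i := Nat.mul_le_mul_left d (not_lt.mp h)
      have h'' : 2 * r ≤ d * r := Nat.mul_le_mul_right r h1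
      omega
    have hmem : (fun j : ZMod p => (ZMod.cast j : K) ^ i) ∈ V :=
      (hiff _).mpr ⟨Polynomial.X ^ i, by rw [Polynomial.degree_X_pow]; exact_mod_cast hir, fun j => by simp⟩
    obtain ⟨Q, hQ, hQe⟩ := (hiff _).mp (hπ _ hmem)
    have hdeg : (P ^ i).natDegree = d * i := by rw [Polynomial.natDegree_pow, mul_comm]
    have hQd : Q.natDegree < d * i := by
      rcases eq_or_ne Q 0 with rfl | h0
      · rw [Polynomial.natDegree_zero]; omega
      · exact lt_of_lt_of_le ((Polynomial.natDegree_lt_iff_degree_lt h0).mpr hQ) hid1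
    have hlt : (P ^ i - Q).natDegree = d * i := by
      rw [Polynomial.natDegree_sub_eq_left_of_natDegree_lt (by rw [hdeg]; exact hQd), hdeg]
    have hzero : P ^ i - Q = 0 := by
      apply Polynomial.eq_zero_of_degree_lt_of_eval_index_eq_zero
        (s := (Finset.univ : Finset (ZMod p))) (v := fun j : ZMod p => (ZMod.cast j : K))
        hinj.injOn
      · rw [Finset.card_univ, ZMod.card]
        refine lt_of_le_of_lt Polynomial.degree_le_natDegree ?_
        rw [hlt]
        exact_mod_cast (show d * i < p by omega)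
      · intro j _
        simp only [Polynomial.eval_sub, Polynomial.eval_pow, ← hPe j, ← hQe j, sub_self]
    rw [hzero, Polynomial.natDegree_zero] at hlt
    omega

theorem finrank_ker_functional {Ω K : Type*} [Fintype Ω] [Field K] [Nonempty Ω] :
    Module.finrank K (LinearMap.ker (∑ x : Ω, LinearMap.proj x : (Ω → K) →ₗ[K] K)) = Fintype.card Ω - 1 := by
  classical
  have hs : Function.Surjective (∑ x : Ω, LinearMap.proj x : (Ω → K) →ₗ[K] K) := fun c =>
    ⟨Pi.single (Classical.arbitrary Ω) c, by simp⟩
  have h := (∑ x : Ω, LinearMap.proj x : (Ω → K) →ₗ[K] K).finrank_range_add_finrank_ker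
  rw [LinearMap.range_eq_top.mpr hs, finrank_top, Module.finrank_self,
    Module.finrank_fintype_fun_eq_card] at h
  omega

/-- Let `G` be a non-solvable transitive permutation group of prime degree `p` and `K` a field of characteristic `p`. Then the heart of the permutation module is irreducible: an invariant subspace containing the constants and contained in the sum-zero functions is one or the other. -/
theorem result {α : Type*} [Fintype α] [DecidableEq α] {p : ℕ} [Fact p.Prime] (hα : Fintype.card α = p) (G : Subgroup (Equiv.Perm α)) [MulAction.IsPretransitive G α] (hG : ¬ Group.IsSolvable G) {K : Type*} [Field K] [CharP K p] (W : Subrepresentation (Cfsg.permRep K G α)) (h₁ : (Cfsg.permConstants K G α).toSubmodule ≤ W.toSubmodule) (h₂ : W.toSubmodule ≤ (Cfsg.permSumZero K G α).toSubmodule) : W = Cfsg.permConstants K G α ∨ W = Cfsg.permSumZero K G α := by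
  classical
  obtain ⟨σ, e, -, hσ⟩ := CfsgLib.Perm.exists_equiv_zmod hα G
  let L : (α → K) ≃ₗ[K] (ZMod p → K) := LinearEquiv.funCongrLeft K K e
  have hL : ∀ (f : α → K) (j : ZMod p), L f j = f (e j) := fun f j => rfl
  have hinvL : ∀ (U : Subrepresentation (Cfsg.permRep K G α)) (g : G),
      ∀ f ∈ U.toSubmodule.map L.toLinearMap,
        (fun j => f (e.symm (((g : Equiv.Perm α)) (e j)))) ∈ U.toSubmodule.map L.toLinearMap := by
    rintro U g _ ⟨v, hv, rfl⟩
    refine ⟨Cfsg.permRep K G α g⁻¹ v, U.apply_mem_toSubmodule _ hv, ?_⟩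
    funext j
    show v (g⁻¹⁻¹ • e j) = v (e (e.symm ((g : Equiv.Perm α) (e j))))
    rw [inv_inv, Equiv.apply_symm_apply]; rfl
  have hshift : ∀ (U : Subrepresentation (Cfsg.permRep K G α)),
      ∀ f ∈ U.toSubmodule.map L.toLinearMap, (fun j => f (j - 1)) ∈ U.toSubmodule.map L.toLinearMap := by
    intro U f hf
    have h := hinvL U σ⁻¹ f hf
    have : ∀ j, e.symm (((σ⁻¹ : G) : Equiv.Perm α) (e j)) = j - 1 := by
      intro j
      rw [Equiv.symm_apply_eq, Subgroup.coe_inv, Equiv.Perm.inv_eq_iff_eq, hσ, sub_add_cancel]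
    simpa only [this] using h
  have hdim : ∀ U : Submodule K (α → K), Module.finrank K (U.map L.toLinearMap) = Module.finrank K U :=
    fun U => LinearEquiv.finrank_map_eq L U
  have : Nonempty α := ⟨e 0⟩
  have hC : Module.finrank K (Cfsg.permConstants K G α).toSubmodule = 1 := by
    rw [show (Cfsg.permConstants K G α).toSubmodule = Submodule.span K {fun _ => (1 : K)} from rfl]
    exact finrank_span_singleton (fun h => one_ne_zero (congrFun h (e 0)))
  have hSeq : (Cfsg.permSumZero K G α).toSubmodule = LinearMap.ker (∑ x : α, LinearMap.proj x : (α → K) →ₗ[K] K) := by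
    ext v; rw [CfsgLib.Perm.mem_permSumZero, LinearMap.mem_ker]; simp
  have hS : Module.finrank K (Cfsg.permSumZero K G α).toSubmodule = p - 1 := by
    rw [hSeq, finrank_ker_functional, hα]
  set r := Module.finrank K W.toSubmodule with hr
  have hr1 : 1 ≤ r := by rw [hr, ← hC]; exact Submodule.finrank_mono h₁
  have hr2 : r ≤ p - 1 := by rw [hr, ← hS]; exact Submodule.finrank_mono h₂
  rcases Nat.lt_or_ge r 2 with hlt | hge
  · exact Or.inl (Subrepresentation.toSubmodule_injective (Submodule.eq_of_le_of_finrank_le h₁ (by rw [hC, ← hr]; omega)).symm)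
  rcases Nat.lt_or_ge r (p - 1) with hlt' | hge'
  swap
  · exact Or.inr (Subrepresentation.toSubmodule_injective (Submodule.eq_of_le_of_finrank_le h₂ (by rw [hS, ← hr]; omega)))
  exfalso
  apply hG
  refine CfsgLib.Perm.isSolvable_of_affine G e fun g hg => ?_
  rcases le_or_gt (2 * r) (p + 1) with hsmall | hbig
  · exact affine_of_invariant _ (hshift W) _ (hinvL W ⟨g, hg⟩) (by rw [hdim]; omega) (by rw [hdim]; omega)
  · set Z := CfsgLib.Perm.permOrthogonal W with hZ
    have hZdim : Module.finrank K Z.toSubmodule + r = p := by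
      let Ψ : (α → K) ≃ₗ[K] Module.Dual K (α → K) := (Pi.basisFun K α).toDualEquiv
      have hΨ : ∀ w v : α → K, Ψ w v = ∑ x, w x * v x := by
        intro w v
        show (Pi.basisFun K α).toDual w v = _
        conv_lhs => rw [← (Pi.basisFun K α).sum_repr w, ← (Pi.basisFun K α).sum_repr v]
        simp only [map_sum, map_smul, LinearMap.coe_sum, Finset.sum_apply, LinearMap.smul_apply,
          Module.Basis.toDual_apply]
        simp [Finset.sum_ite_eq, mul_comm]
      have : Z.toSubmodule.map Ψ.toLinearMap = W.toSubmodule.dualAnnihilator := by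
        ext φ
        obtain ⟨w, rfl⟩ := Ψ.surjective φ
        rw [Submodule.mem_dualAnnihilator]
        constructor
        · rintro ⟨w', hw', he⟩ v hv
          rw [Ψ.injective he] at hw'
          rw [hΨ]; exact hw' v hv
        · intro h
          exact ⟨w, fun v hv => (hΨ w v).symm.trans (h v hv), rfl⟩
      have h1 := Subspace.finrank_add_finrank_dualAnnihilator_eq W.toSubmodule
      rw [← this, LinearEquiv.finrank_map_eq, Module.finrank_fintype_fun_eq_card, hα] at h1
      omega
    exact affine_of_invariant _ (hshift Z) _ (hinvL Z ⟨g, hg⟩) (by rw [hdim]; omega) (by rw [hdim]; omega)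

end Cfsg.Agent.S0674
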