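import Cfsg.Statements.S0671
import Cfsg.Agent.Lib.Perm.PermModule
import Cfsg.Agent.Lib.Perm.Orbital
import Mathlib.Combinatorics.Enumerative.DoubleCounting

set_option autoImplicit false
open Cfsg

namespace Cfsg.Agent.S0671

/-- If the heart of the permutation module in characteristic `p` of a transitive action of degree `p ^ f` has no trivial composition factor, the action is doubly transitive. The hypothesis is phrased without composition series: no invariant subspaces `W < W'` between the constants and the sum-zero functions with trivial action on the quotient. -/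
theorem result {G : Type*} [Group G] [Finite G] {K : Type*} [Field K] {p f : ℕ} [Fact p.Prime] [CharP K p] {Ω : Type*} [Fintype Ω] [MulAction G Ω] [MulAction.IsPretransitive G Ω] (hf : 1 ≤ f) (hcard : Fintype.card Ω = p ^ f) (h : ∀ W W' : Subrepresentation (Cfsg.permRep K G Ω), (Cfsg.permConstants K G Ω).toSubmodule ≤ W.toSubmodule → W.toSubmodule < W'.toSubmodule → W'.toSubmodule ≤ (Cfsg.permSumZero K G Ω).toSubmodule → ∃ g : G, ∃ v ∈ W'.toSubmodule, Cfsg.permRep K G Ω g v - v ∉ W.toSubmodule) : MulAction.IsMultiplyPretransitive G Ω 2 := by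
  classical
  set V := (Cfsg.permRep K G Ω).linHom (Cfsg.permRep K G Ω)
  have hn : (Fintype.card Ω : K) = 0 := by
    rw [hcard, CharP.cast_eq_zero_iff K p]; exact dvd_pow_self p (by omega)
  obtain ⟨a⟩ : Nonempty Ω := Fintype.card_pos_iff.mp (by rw [hcard]; exact pow_pos (Fact.out (p := p.Prime)).pos f)
  let e : Ω → (Ω → K) := fun x => Pi.single x 1
  have hspan : ∀ T : V.invariants, ∃ c d : K, ∀ v : Ω → K,
      (T : (Ω → K) →ₗ[K] (Ω → K)) v = c • v + (d * ∑ x, v x) • (fun _ => (1 : K)) := by
    intro T
    set T₀ := (T : (Ω → K) →ₗ[K] (Ω → K)) with hT₀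
    have hcomm := CfsgLib.Perm.intertwiner_commute T
    obtain ⟨c, hc⟩ := CfsgLib.Perm.mem_permConstants.mp
      (CfsgLib.Perm.const_of_fixed (G := G) (f := T₀ (fun _ => 1)) fun g => by
        rw [hT₀, ← hcomm]; rfl)
    have hrow : ∀ y, ∑ x, T₀ (e x) y = c := by
      intro y
      rw [← Finset.sum_apply, ← map_sum]
      have : ∑ x, e x = fun _ => (1 : K) := by funext z; simp [e]
      rw [this, hc]
    have hcol : ∀ x, ∑ y, T₀ (e x) y = c := by
      intro x
      let cl : Ω → Ω → MulAction.orbitRel.Quotient G (Ω × Ω) := fun u w => ⟦(u, w)⟧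
      haveI : Fintype (MulAction.orbitRel.Quotient G (Ω × Ω)) := Fintype.ofFinite _
      let m : MulAction.orbitRel.Quotient G (Ω × Ω) → K := CfsgLib.Perm.intertwinerEquiv K G Ω Ω T
      have hm : ∀ u w, T₀ (e u) w = m (cl u w) := fun u w => rfl
      have hcl : ∀ (g : G) u w, cl (g • u) (g • w) = cl u w := fun g u w => Quotient.sound ⟨g, rfl⟩
      have hcount : ∀ q, (Finset.univ.filter fun y => cl x y = q).card =
          (Finset.univ.filter fun u => cl u x = q).card := by
        intro q
        have h1 : ∀ u, (Finset.univ.filter fun w => cl u w = q).card =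
            (Finset.univ.filter fun y => cl x y = q).card := by
          intro u
          obtain ⟨g, hg⟩ := MulAction.exists_smul_eq G x u
          symm
          refine Finset.card_bij (fun y _ => g • y) (fun y hy => ?_) (fun _ _ _ _ e => MulAction.injective g e)
            (fun w hw => ⟨g⁻¹ • w, ?_, smul_inv_smul g w⟩)
          · rw [Finset.mem_filter] at hy ⊢; exact ⟨Finset.mem_univ _, by rw [← hg, hcl]; exact hy.2⟩
          · rw [Finset.mem_filter] at hw ⊢
            refine ⟨Finset.mem_univ _, ?_⟩
            rw [← hcl g, smul_inv_smul, hg]; exact hw.2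
        have h2 : ∀ w, (Finset.univ.filter fun u => cl u w = q).card =
            (Finset.univ.filter fun u => cl u x = q).card := by
          intro w
          obtain ⟨g, hg⟩ := MulAction.exists_smul_eq G x w
          symm
          refine Finset.card_bij (fun y _ => g • y) (fun y hy => ?_) (fun _ _ _ _ e => MulAction.injective g e)
            (fun w' hw => ⟨g⁻¹ • w', ?_, smul_inv_smul g w'⟩)
          · rw [Finset.mem_filter] at hy ⊢; exact ⟨Finset.mem_univ _, by rw [← hg, hcl]; exact hy.2⟩
          · rw [Finset.mem_filter] at hw ⊢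
            refine ⟨Finset.mem_univ _, ?_⟩
            rw [← hcl g, smul_inv_smul, hg]; exact hw.2
        have h3 := Finset.sum_card_bipartiteAbove_eq_sum_card_bipartiteBelow
          (s := (Finset.univ : Finset Ω)) (t := (Finset.univ : Finset Ω)) (fun u w => cl u w = q)
        simp only [Finset.bipartiteAbove, Finset.bipartiteBelow] at h3
        simp only [h1, h2, Finset.sum_const, smul_eq_mul, Finset.card_univ] at h3
        exact Nat.eq_of_mul_eq_mul_left (by rw [hcard]; exact pow_pos (Fact.out (p := p.Prime)).pos f) h3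
      rw [← hrow x]
      simp only [hm]
      rw [← Finset.sum_fiberwise Finset.univ (fun y => cl x y) (fun y => m (cl x y)),
        ← Finset.sum_fiberwise Finset.univ (fun u => cl u x) (fun u => m (cl u x))]
      refine Finset.sum_congr rfl fun q _ => ?_
      rw [Finset.sum_congr rfl (fun y hy => congrArg m (Finset.mem_filter.mp hy).2),
        Finset.sum_congr rfl (fun y hy => congrArg m (Finset.mem_filter.mp hy).2),
        Finset.sum_const, Finset.sum_const, hcount q]
    let U : (Ω → K) →ₗ[K] (Ω → K) := T₀ - c • LinearMap.id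
    have hU : ∀ v, U v = T₀ v - c • v := fun v => rfl
    have hUcomm : ∀ g v, U (Cfsg.permRep K G Ω g v) = Cfsg.permRep K G Ω g (U v) := fun g v => by
      rw [hU, hU, hcomm, map_sub, map_smul]
    have hUsum : ∀ v, U v ∈ (Cfsg.permSumZero K G Ω).toSubmodule := by
      intro v
      rw [CfsgLib.Perm.mem_permSumZero]
      let φ : (Ω → K) →ₗ[K] K := (∑ y, LinearMap.proj y) ∘ₗ U
      have : φ = 0 := by
        apply LinearMap.pi_ext'
        intro x
        apply LinearMap.ext_ring
        simp only [φ, LinearMap.comp_apply, LinearMap.single_apply, LinearMap.coe_sum, Finset.sum_apply,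
          LinearMap.proj_apply, LinearMap.zero_apply, LinearMap.zero_comp]
        have : ∀ y, U (Pi.single x 1) y = T₀ (e x) y - c * e x y := fun y => rfl
        simp only [this, Finset.sum_sub_distrib, hcol, ← Finset.mul_sum]
        simp [e]
      have := LinearMap.congr_fun this v
      simpa [φ] using this
    have hU1 : ∀ d : K, U (fun _ => d) = 0 := by
      intro d
      have : (fun _ : Ω => d) = d • fun _ => (1 : K) := by funext z; simp
      rw [this, map_smul, hU, hc]
      funext z; simp
    let X : Subrepresentation (Cfsg.permRep K G Ω) :=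
      ⟨(Cfsg.permSumZero K G Ω).toSubmodule.map U, fun g v hv => by
        obtain ⟨w, hw, rfl⟩ := hv
        exact ⟨_, (Cfsg.permSumZero K G Ω).apply_mem_toSubmodule g hw, hUcomm g w⟩⟩
    let Y : Subrepresentation (Cfsg.permRep K G Ω) :=
      ⟨LinearMap.range U, fun g v hv => by
        obtain ⟨w, rfl⟩ := hv
        exact ⟨_, hUcomm g w⟩⟩
    let Z : Subrepresentation (Cfsg.permRep K G Ω) :=
      ⟨LinearMap.ker U, fun g v hv => by
        rw [LinearMap.mem_ker] at hv ⊢; rw [hUcomm, hv, map_zero]⟩
    have hstep : ∀ (g : G) (v : Ω → K),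
        Cfsg.permRep K G Ω g v - v ∈ (Cfsg.permSumZero K G Ω).toSubmodule := by
      intro g v
      rw [CfsgLib.Perm.mem_permSumZero]
      simp only [Pi.sub_apply, Finset.sum_sub_distrib]
      rw [sub_eq_zero]
      exact Fintype.sum_equiv (MulAction.toPerm g⁻¹) _ _ (fun z => rfl)
    by_cases hU0 : U = 0
    · refine ⟨c, 0, fun v => ?_⟩
      have h0 := hU v
      rw [hU0, LinearMap.zero_apply] at h0
      rw [eq_comm, sub_eq_zero] at h0
      rw [h0]; simp
    have hker : LinearMap.ker U ≤ (Cfsg.permSumZero K G Ω).toSubmodule := by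
      by_contra hle
      have : (CfsgLib.Perm.permOrthogonal Z).toSubmodule = ⊥ := by
        by_contra hne
        have h1 := CfsgLib.Perm.permConstants_le hcard _ hne
          (CfsgLib.Perm.mem_permConstants.mpr ⟨1, rfl⟩)
        rw [CfsgLib.Perm.mem_permOrthogonal] at h1
        exact hle fun v hv => by
          rw [CfsgLib.Perm.mem_permSumZero]
          simpa using h1 v hv
      have := CfsgLib.Perm.eq_top_of_permOrthogonal_eq_bot this
      exact hU0 (LinearMap.ker_eq_top.mp this)
    have hX : X.toSubmodule = ⊥ := by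
      by_contra hne
      have hle : X.toSubmodule ≤ Y.toSubmodule := by
        rintro _ ⟨w, -, rfl⟩; exact ⟨w, rfl⟩
      have hlt : X.toSubmodule < Y.toSubmodule := by
        refine lt_of_le_of_ne hle fun heq => ?_
        obtain ⟨s, hs, hse⟩ : U (e a) ∈ X.toSubmodule := heq ▸ (⟨e a, rfl⟩ : U (e a) ∈ Y.toSubmodule)
        have h2 : e a - s ∈ LinearMap.ker U := by rw [LinearMap.mem_ker, map_sub, hse, sub_self]
        have h3 := Submodule.add_mem _ (hker h2) hs
        rw [sub_add_cancel, CfsgLib.Perm.mem_permSumZero] at h3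
        simp [e] at h3
      obtain ⟨g, v, ⟨w, rfl⟩, hv⟩ := h X Y (CfsgLib.Perm.permConstants_le hcard X hne) hlt
        (by rintro _ ⟨w, rfl⟩; exact hUsum w)
      exact hv ⟨_, hstep g w, by rw [map_sub, hUcomm]⟩
    have hfix : ∀ g : G, Cfsg.permRep K G Ω g (U (e a)) = U (e a) := by
      intro g
      have : U (Cfsg.permRep K G Ω g (e a) - e a) ∈ X.toSubmodule := ⟨_, hstep g _, rfl⟩
      rw [hX, Submodule.mem_bot, map_sub, hUcomm, sub_eq_zero] at this
      exact this
    obtain ⟨d, hd⟩ := CfsgLib.Perm.mem_permConstants.mp (CfsgLib.Perm.const_of_fixed hfix)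
    refine ⟨c, d, fun v => ?_⟩
    have h1 : v - (∑ x, v x) • e a ∈ (Cfsg.permSumZero K G Ω).toSubmodule := by
      rw [CfsgLib.Perm.mem_permSumZero]
      simp [e, Finset.sum_sub_distrib, ← Finset.mul_sum]
    have h2 : U (v - (∑ x, v x) • e a) ∈ X.toSubmodule := ⟨_, h1, rfl⟩
    rw [hX, Submodule.mem_bot, map_sub, map_smul, sub_eq_zero, hU, sub_eq_iff_eq_add, hd] at h2
    rw [h2, add_comm]
    congr 1
    funext z; simp [mul_comm]
  apply CfsgLib.Perm.isTwoPretransitive_of_card_orbits_le a
  rw [Nat.card_congr (CfsgLib.Perm.orbitPairEquiv a)]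
  haveI : Fintype (MulAction.orbitRel.Quotient G (Ω × Ω)) := Fintype.ofFinite _
  rw [Nat.card_eq_fintype_card, ← Module.finrank_fintype_fun_eq_card K,
    ← (CfsgLib.Perm.intertwinerEquiv K G Ω Ω).finrank_eq]
  let T1 : (Ω → K) →ₗ[K] (Ω → K) := LinearMap.id
  let T2 : (Ω → K) →ₗ[K] (Ω → K) :=
    { toFun := fun v => fun _ => ∑ x, v x
      map_add' := fun v w => by funext z; simp [Finset.sum_add_distrib]
      map_smul' := fun r v => by funext z; simp [Finset.mul_sum] }
  calc Module.finrank K V.invariants
      ≤ Module.finrank K (Submodule.span K ({T1, T2} : Set ((Ω → K) →ₗ[K] (Ω → K)))) := by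
        haveI : Module.Finite K (Submodule.span K ({T1, T2} : Set ((Ω → K) →ₗ[K] (Ω → K)))) :=
          Module.Finite.span_of_finite K (Set.toFinite _)
        refine Submodule.finrank_mono fun T hT => ?_
        obtain ⟨c, d, hcd⟩ := hspan ⟨T, hT⟩
        rw [Submodule.mem_span_pair]
        refine ⟨c, d, LinearMap.ext fun v => ?_⟩
        simp only at hcd
        rw [hcd v]
        funext z; simp [T1, T2]
    _ ≤ ({T1, T2} : Finset ((Ω → K) →ₗ[K] (Ω → K))).card := by
        have := finrank_span_finset_le_card (R := K) ({T1, T2} : Finset ((Ω → K) →ₗ[K] (Ω → K)))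
        rw [Set.finrank, Finset.coe_pair] at this
        exact this
    _ ≤ 2 := Finset.card_le_two

end Cfsg.Agent.S0671
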