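import Cfsg.Statements.S0675
import Cfsg.Agent.Lib.Perm.PermModule
import Cfsg.Agent.Lib.Perm.PrimeDegree
import Cfsg.Agent.S0671
import Cfsg.Agent.S0674
import Mathlib.Algebra.Field.ZMod

set_option autoImplicit false
open Cfsg

namespace Cfsg.Agent.S0675

/-- Burnside's Theorem on permutation groups of prime degree: a transitive permutation group of prime degree that is not solvable is doubly transitive. -/
theorem result {α : Type*} [Fintype α] [DecidableEq α] (hα : (Fintype.card α).Prime) (G : Subgroup (Equiv.Perm α)) [MulAction.IsPretransitive G α] : Group.IsSolvable G ∨ MulAction.IsMultiplyPretransitive G α 2 := by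
  rw [or_iff_not_imp_left]
  intro hG
  set p := Fintype.card α with hp
  haveI : Fact p.Prime := ⟨hα⟩
  obtain ⟨σ, e, -, hσ⟩ := CfsgLib.Perm.exists_equiv_zmod (p := p) hp.symm G
  have h5 : 4 ≤ p := by
    by_contra h
    exact hG (CfsgLib.Perm.isSolvable_of_card_le_three (p := p) hp.symm (by omega) G)
  refine Cfsg.Agent.S0671.result (K := ZMod p) (p := p) (f := 1) le_rfl (pow_one p).symm ?_
  intro W W' hC hlt hS
  have hW : W.toSubmodule = (Cfsg.permConstants (ZMod p) G α).toSubmodule := by
    rcases Cfsg.Agent.S0674.result hp.symm G hG W hC (hlt.le.trans hS) with h | h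
    · rw [h]
    · exact absurd (lt_of_lt_of_le (h ▸ hlt) hS) (lt_irrefl _)
  have hW' : W'.toSubmodule = (Cfsg.permSumZero (ZMod p) G α).toSubmodule := by
    rcases Cfsg.Agent.S0674.result hp.symm G hG W' (hC.trans hlt.le) hS with h | h
    · rw [h, hW] at hlt; exact absurd hlt (lt_irrefl _)
    · rw [h]
  classical
  refine ⟨σ, Pi.single (e 0) 1 - Pi.single (e 1) 1, ?_, ?_⟩
  · rw [hW', CfsgLib.Perm.mem_permSumZero]
    simp [Finset.sum_sub_distrib]
  · rw [hW, CfsgLib.Perm.mem_permConstants]
    rintro ⟨c, hc⟩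
    simp only [map_sub, CfsgLib.Perm.permRep_single, Subgroup.smul_def, Equiv.Perm.smul_def, hσ] at hc
    have hne : ∀ m n : ℕ, m < 4 → n < 4 → m ≠ n → e ((m : ℕ) : ZMod p) ≠ e ((n : ℕ) : ZMod p) := by
      intro m n hm hn hmn he
      have := congrArg ZMod.val (e.injective he)
      rw [ZMod.val_cast_of_lt (by omega), ZMod.val_cast_of_lt (by omega)] at this
      exact hmn this
    have e0 := congrFun hc (e 0)
    have e3 := congrFun hc (e 3)
    have h01 : e (0 : ZMod p) ≠ e 1 := by simpa using hne 0 1 (by omega) (by omega) (by omega)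
    have h02 : e (0 : ZMod p) ≠ e (1 + 1) := by simpa [one_add_one_eq_two] using hne 0 2 (by omega) (by omega) (by omega)
    have h31 : e (3 : ZMod p) ≠ e 1 := by simpa using hne 3 1 (by omega) (by omega) (by omega)
    have h32 : e (3 : ZMod p) ≠ e (1 + 1) := by simpa [one_add_one_eq_two] using hne 3 2 (by omega) (by omega) (by omega)
    have h30 : e (3 : ZMod p) ≠ e 0 := by simpa using hne 3 0 (by omega) (by omega) (by omega)
    simp only [zero_add, Pi.sub_apply, Pi.single_eq_same, Pi.single_eq_of_ne h01,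
      Pi.single_eq_of_ne h02] at e0
    simp only [zero_add, Pi.sub_apply, Pi.single_eq_of_ne h31,
      Pi.single_eq_of_ne h32, Pi.single_eq_of_ne h30] at e3
    rw [← e3] at e0
    simp at e0

end Cfsg.Agent.S0675
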