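import Cfsg.Statements.S0676
import Cfsg.Agent.Lib.Perm.PermModule
import Cfsg.Agent.Lib.Perm.PrimeDegree
import Cfsg.Agent.S0672
import Cfsg.Agent.S0674
import Cfsg.Agent.S0675
import Mathlib.Algebra.Field.ZMod

set_option autoImplicit false
open Cfsg

namespace Cfsg.Agent.S0676

open scoped Pointwise

/-- A non-solvable transitive permutation group of prime degree `p` whose Sylow `p`-normaliser has even order is triply transitive. -/
theorem result {α : Type*} [Fintype α] [DecidableEq α] {p : ℕ} [Fact p.Prime] (hα : Fintype.card α = p) (G : Subgroup (Equiv.Perm α)) [MulAction.IsPretransitive G α] (hG : ¬ Group.IsSolvable G) (P : Sylow p G) (heven : Even (Nat.card (Subgroup.normalizer ((P : Subgroup G) : Set G)))) : MulAction.IsMultiplyPretransitive G α 3 := by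
  have hp : p.Prime := Fact.out
  have h5 : 4 ≤ p := by
    by_contra h
    exact hG (CfsgLib.Perm.isSolvable_of_card_le_three hα (by omega) G)
  obtain ⟨σ, τ, e, -, hτo, hσ, hτ⟩ := CfsgLib.Perm.exists_neg_of_even_normalizer hα (by omega) G P heven
  have h2t : MulAction.IsMultiplyPretransitive G α 2 :=
    (Cfsg.Agent.S0675.result (by rw [hα]; exact hp) G).resolve_left hG
  have hfaith : FaithfulSMul G α := ⟨fun {g k} h => Subtype.ext (Equiv.ext h)⟩
  have hodd : p % 2 = 1 := Nat.odd_iff.mp (hp.odd_of_ne_two (by omega))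
  have hstab : ∀ a : α, Even (Nat.card (MulAction.stabilizer G a)) := by
    intro a
    have h0 : τ ∈ MulAction.stabilizer G (e 0) := by
      show (τ : Equiv.Perm α) (e 0) = e 0; rw [hτ]; simp
    obtain ⟨g, hg⟩ := MulAction.exists_smul_eq G (e 0) a
    rw [even_iff_two_dvd, ← Nat.card_congr (MulAction.stabilizerEquivStabilizer hg.symm).toEquiv]
    have h := orderOf_dvd_natCard (⟨τ, h0⟩ : MulAction.stabilizer G (e 0))
    rwa [Subgroup.orderOf_mk, hτo] at h
  refine Cfsg.Agent.S0672.result (K := ZMod p) (p := p) h2t (by rw [hα]) hstab ?_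
  intro f hf
  classical
  let Kf : Subrepresentation (Cfsg.permRep (ZMod p) G α) :=
    ⟨(LinearMap.ker f.toLinearMap).map (Cfsg.permSumZero (ZMod p) G α).toSubmodule.subtype, fun g v hv => by
      obtain ⟨w, hw, rfl⟩ := hv
      refine ⟨(Cfsg.permSumZero (ZMod p) G α).toRepresentation g w, ?_, rfl⟩
      rw [SetLike.mem_coe, LinearMap.mem_ker] at hw ⊢
      have := congrArg (fun l : _ →ₗ[ZMod p] _ => l w) (f.isIntertwining' g)
      simp only [LinearMap.comp_apply] at this
      rw [this, hw, map_zero]⟩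
  have hC : (Cfsg.permConstants (ZMod p) G α).toSubmodule ≤ Kf.toSubmodule := by
    intro v hv
    have hvS : v ∈ (Cfsg.permSumZero (ZMod p) G α).toSubmodule := by
      obtain ⟨c, rfl⟩ := CfsgLib.Perm.mem_permConstants.mp hv
      rw [CfsgLib.Perm.mem_permSumZero, Finset.sum_const, Finset.card_univ, hα]
      simp
    exact ⟨⟨v, hvS⟩, hf ⟨v, hvS⟩ hv, rfl⟩
  have hS : Kf.toSubmodule ≤ (Cfsg.permSumZero (ZMod p) G α).toSubmodule := by
    rintro _ ⟨w, -, rfl⟩; exact w.2
  rcases Cfsg.Agent.S0674.result hα G hG Kf hC hS with hK | hK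
  · exfalso
    let v : α → ZMod p := fun x => e.symm x
    have hvS : v ∈ (Cfsg.permSumZero (ZMod p) G α).toSubmodule := by
      rw [CfsgLib.Perm.mem_permSumZero, ← e.sum_comp]
      simp only [v, Equiv.symm_apply_apply]
      have h1 : ∑ j : ZMod p, j = ∑ j : ZMod p, -j := (Equiv.sum_comp (Equiv.neg (ZMod p)) (fun j => j)).symm
      rw [Finset.sum_neg_distrib] at h1
      have h20 : (2 : ZMod p) ≠ 0 := by
        intro h
        have h' : ((2 : ℕ) : ZMod p) = 0 := by exact_mod_cast h
        rw [ZMod.natCast_eq_zero_iff] at h'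
        have := Nat.le_of_dvd (by norm_num) h'
        omega
      have h3 : (2 : ZMod p) * ∑ j : ZMod p, j = 0 := by rw [two_mul]; nth_rewrite 2 [h1]; exact add_neg_cancel _
      exact (mul_eq_zero.mp h3).resolve_left h20
    let S := (Cfsg.permSumZero (ZMod p) G α).toRepresentation
    have hcomm : ∀ (g : G) w, f.toLinearMap (S g w) = Cfsg.permRep (ZMod p) G _ g (f.toLinearMap w) :=
      fun g w => congrArg (fun l : _ →ₗ[ZMod p] _ => l w) (f.isIntertwining' g)
    set F := f.toLinearMap ⟨v, hvS⟩ with hF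
    have hσF : ∀ Q, F (σ⁻¹ • Q) = F Q := by
      intro Q
      have hmem : ((S σ ⟨v, hvS⟩ - ⟨v, hvS⟩ : (Cfsg.permSumZero (ZMod p) G α).toSubmodule) : α → ZMod p) ∈
          (Cfsg.permConstants (ZMod p) G α).toSubmodule := by
        rw [CfsgLib.Perm.mem_permConstants]
        refine ⟨-1, funext fun x => ?_⟩
        show e.symm (σ⁻¹ • x) - e.symm x = -1
        obtain ⟨j, rfl⟩ := e.surjective x
        have h1 : σ⁻¹ • e j = e (j - 1) := by
          rw [inv_smul_eq_iff]
          show e j = (σ : Equiv.Perm α) (e (j - 1))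
          rw [hσ, sub_add_cancel]
        rw [h1]; simp
      have h0 : f.toLinearMap (S σ ⟨v, hvS⟩ - ⟨v, hvS⟩) = 0 := hf _ hmem
      rw [map_sub, hcomm, sub_eq_zero] at h0
      exact congrFun h0 Q
    have hσnF : ∀ (n : ℕ) Q, F ((σ⁻¹) ^ n • Q) = F Q := by
      intro n
      induction n with
      | zero => intro Q; rw [pow_zero, one_smul]
      | succ n ih => intro Q; rw [pow_succ', mul_smul, hσF, ih]
    have hτF : ∀ Q, F (τ⁻¹ • Q) = - F Q := by
      intro Q
      have hneg : S τ ⟨v, hvS⟩ = -⟨v, hvS⟩ := by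
        apply Subtype.ext
        funext x
        show e.symm (τ⁻¹ • x) = - e.symm x
        obtain ⟨j, rfl⟩ := e.surjective x
        have h1 : τ⁻¹ • e j = e (-j) := by
          rw [inv_smul_eq_iff]
          show e j = (τ : Equiv.Perm α) (e (-j))
          rw [hτ, neg_neg]
        rw [h1]; simp
      have h0 := hcomm τ ⟨v, hvS⟩
      rw [hneg, map_neg] at h0
      exact (congrFun h0 Q).symm
    have hF0 : F = 0 := by
      funext Q
      obtain ⟨x, y, hxy, hQ⟩ := Finset.card_eq_two.mp Q.2
      obtain ⟨i, rfl⟩ := e.surjective x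
      obtain ⟨j, rfl⟩ := e.surjective y
      obtain ⟨n, hn⟩ := ZMod.natCast_zmod_surjective (i + j)
      have hpow : ∀ k, ((σ⁻¹) ^ n) • e k = e (k - (i + j)) := by
        intro k
        rw [inv_pow, inv_smul_eq_iff]
        show e k = ((σ ^ n : G) : Equiv.Perm α) (e (k - (i + j)))
        rw [SubmonoidClass.coe_pow, CfsgLib.Perm.pow_apply_label e _ hσ, hn, sub_add_cancel]
      have hτi : ∀ k, τ⁻¹ • e k = e (-k) := by
        intro k
        rw [inv_smul_eq_iff]
        show e k = (τ : Equiv.Perm α) (e (-k))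
        rw [hτ, neg_neg]
      have heq : τ⁻¹ • Q = (σ⁻¹) ^ n • Q := by
        apply Subtype.ext
        show τ⁻¹ • (Q : Finset α) = (σ⁻¹) ^ n • (Q : Finset α)
        rw [hQ, Finset.smul_finset_insert, Finset.smul_finset_singleton, Finset.smul_finset_insert,
          Finset.smul_finset_singleton, hτi, hτi, hpow, hpow,
          show i - (i + j) = -j by ring, show j - (i + j) = -i by ring, Finset.pair_comm]
      have h1 := hτF Q
      rw [heq, hσnF] at h1
      have h20 : (2 : ZMod p) ≠ 0 := by
        intro h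
        have h' : ((2 : ℕ) : ZMod p) = 0 := by exact_mod_cast h
        rw [ZMod.natCast_eq_zero_iff] at h'
        have := Nat.le_of_dvd (by norm_num) h'
        omega
      have h3 : (2 : ZMod p) * F Q = 0 := by rw [two_mul]; nth_rewrite 2 [h1]; exact add_neg_cancel _
      exact (mul_eq_zero.mp h3).resolve_left h20
    have hvK : v ∈ Kf.toSubmodule := ⟨⟨v, hvS⟩, hF0, rfl⟩
    rw [hK, CfsgLib.Perm.mem_permConstants] at hvK
    obtain ⟨c, hc⟩ := hvK
    have h0 := congrFun hc (e 0)
    have h1 := congrFun hc (e 1)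
    simp only [v, Equiv.symm_apply_apply] at h0 h1
    exact zero_ne_one (h0.trans h1.symm)
  · apply DFunLike.ext
    intro w
    obtain ⟨w', hw', he⟩ : (w : α → ZMod p) ∈ Kf.toSubmodule := by rw [hK]; exact w.2
    rw [show w = w' from Subtype.ext he.symm]
    exact hw'

end Cfsg.Agent.S0676
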