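import Cfsg.Statements.S1013
import Cfsg.Agent.Lib.Transfer.Frobenius
import Cfsg.Agent.Lib.Perm.PrimeDegreeSylow

set_option autoImplicit false
open Cfsg

namespace Cfsg.Agent.S1013

/-- Let G be a transitive permutation group of prime degree p having more than one Sylow p-subgroup, and suppose a Sylow p-subgroup P has prime index in its normalizer. Then G is simple. -/
theorem result {α : Type*} [Fintype α] [DecidableEq α] {p : ℕ} [Fact p.Prime] (hα : Fintype.card α = p) (G : Subgroup (Equiv.Perm α)) [MulAction.IsPretransitive ↥G α] (P : Sylow p ↥G) (hn : 1 < Nat.card (Sylow p ↥G)) (ht : (((P : Subgroup ↥G).subgroupOf (Subgroup.normalizer ((P : Subgroup ↥G) : Set ↥G))).index).Prime) : IsSimpleGroup ↥G := by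
  classical
  have hp := (Fact.out : p.Prime)
  have hP := CfsgLib.Perm.sylow_card_eq hα G P
  obtain ⟨a⟩ : Nonempty α := Fintype.card_pos_iff.mp (by rw [hα]; exact hp.pos)
  have : MulAction.IsPreprimitive G α :=
    MulAction.IsPreprimitive.of_prime_card (by rwa [Nat.card_eq_fintype_card, hα])
  have : FaithfulSMul G α := ⟨fun {g k} h => Subtype.ext (Equiv.ext h)⟩
  have hdvd : ∀ M : Subgroup G, M.Normal → M ≠ ⊥ → p ∣ Nat.card M := by
    intro M hM hbot
    have := CfsgLib.Perm.normal_isPretransitive (α := α) hbot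
    rw [CfsgLib.Perm.natCard_eq_mul_stabilizer (G := M) a, Nat.card_eq_fintype_card (α := α), hα]
    exact dvd_mul_right _ _
  have hnP : ¬ (P : Subgroup G).Normal := by
    intro hn'
    have h1 := P.card_eq_index_normalizer
    have h2 : (Subgroup.normalizer ((P : Subgroup G) : Set G)).index = 1 := by
      rw [Subgroup.normalizer_eq_top_iff.2 hn', Subgroup.index_top]
    have h3 : Nat.card (Sylow p G) = 1 := h1.trans h2
    omega
  have hGn : Nontrivial G := by
    by_contra h
    rw [not_nontrivial_iff_subsingleton] at h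
    exact hnP ⟨fun x hx g => by rw [Subsingleton.elim (g * x * g⁻¹) x]; exact hx⟩
  refine ⟨fun M hM => ?_⟩
  by_cases hbot : M = ⊥
  · exact Or.inl hbot
  refine Or.inr ?_
  have hPM : (P : Subgroup G) ≤ M := by
    obtain ⟨⟨x, hxM⟩, hx⟩ := exists_prime_orderOf_dvd_card' (G := M) p (hdvd M hM hbot)
    rw [Subgroup.orderOf_mk] at hx
    obtain ⟨R, hR⟩ := (IsPGroup.of_card (n := 1)
      (show Nat.card (Subgroup.zpowers x) = p ^ 1 by rw [Nat.card_zpowers, hx, pow_one])).exists_le_sylow
    have hRe : Subgroup.zpowers x = (R : Subgroup G) := Subgroup.eq_of_le_of_card_ge hR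
      (by rw [CfsgLib.Perm.sylow_card_eq hα G R, Nat.card_zpowers, hx])
    obtain ⟨g, hg⟩ := MulAction.exists_smul_eq G R P
    rw [← hg, Sylow.coe_subgroup_smul, ← hRe]
    rintro _ ⟨y, hy, rfl⟩
    exact hM.conj_mem y (Subgroup.zpowers_le.2 hxM hy) g
  set N := Subgroup.normalizer ((P : Subgroup G) : Set G)
  have hsup : M ⊔ N = ⊤ := by
    obtain ⟨S, hS⟩ := CfsgLib.Transfer.exists_sylow_eq_subgroupOf P M
    have h := S.normalizer_sup_eq_top
    rw [hS, Subgroup.map_subgroupOf_eq_of_le hPM, sup_comm] at h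
    exact h
  by_cases hNM : N ≤ M
  · rw [← hsup, sup_eq_left.2 hNM]
  exfalso
  -- `P` is self-normalizing in `M`
  have hself : N ⊓ M = (P : Subgroup G) := by
    have h1 := Subgroup.relIndex_mul_relIndex (P : Subgroup G) (N ⊓ M) N
      (le_inf Subgroup.le_normalizer hPM) inf_le_left
    rcases (Nat.dvd_prime ht).1 (Dvd.intro _ h1) with h | h
    · exact le_antisymm (Subgroup.relIndex_eq_one.1 h) (le_inf Subgroup.le_normalizer hPM)
    · have hpos : 0 < (P : Subgroup G).relIndex (N ⊓ M) :=
        Nat.pos_of_ne_zero fun e => Subgroup.index_ne_zero_of_finite e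
      rw [show (P : Subgroup G).relIndex N = ((P : Subgroup G).subgroupOf N).index from rfl, ← h] at h1
      have h2 : (N ⊓ M).relIndex N = 1 := Nat.eq_of_mul_eq_mul_left hpos (by rw [h1, mul_one])
      exact absurd ((Subgroup.relIndex_eq_one.1 h2).trans inf_le_right) hNM
  obtain ⟨S, hS⟩ := CfsgLib.Transfer.exists_sylow_eq_subgroupOf P M
  have hSN : Subgroup.normalizer ((S : Subgroup M) : Set M) ≤
      Subgroup.centralizer ((S : Subgroup M) : Set M) := by
    intro x hx
    have hx' : (x : G) ∈ N ⊓ M := by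
      refine Subgroup.mem_inf.2 ⟨?_, x.2⟩
      have h2 := Subgroup.le_normalizer_map M.subtype (Subgroup.mem_map_of_mem _ hx)
      rwa [hS, Subgroup.map_subgroupOf_eq_of_le hPM] at h2
    rw [hself] at hx'
    have := isCyclic_of_prime_card hP
    let _ := IsCyclic.commGroup (α := (P : Subgroup G))
    refine Subgroup.mem_centralizer_iff.2 fun y hy => Subtype.ext ?_
    have hy' : (y : G) ∈ (P : Subgroup G) := by rw [hS] at hy; exact hy
    exact (congrArg Subtype.val (mul_comm (⟨(y : G), hy'⟩ : (P : Subgroup G)) ⟨(x : G), hx'⟩) :)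
  have hK := CfsgLib.Transfer.hasNormalPComplement_of_normalizer_le_centralizer S hSN
  rw [CfsgLib.Transfer.hasNormalPComplement_iff_coprime_pResidual] at hK
  set K := (Cfsg.pResidual p M).map M.subtype with hKdef
  have hKn : K.Normal := by
    have := CfsgLib.Transfer.pResidual_characteristic (G := M) (p := p)
    exact ConjAct.normal_of_characteristic_of_normal
  have hKc : (Nat.card K).Coprime p := by
    rwa [hKdef, Subgroup.card_map_of_injective M.subtype_injective]
  by_cases hKb : K = ⊥
  · rw [hKdef, Subgroup.map_eq_bot_iff_of_injective _ M.subtype_injective] at hKb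
    have hS' := CfsgLib.Transfer.pResidual_sup_sylow S
    rw [hKb, bot_sup_eq, hS, Subgroup.subgroupOf_eq_top] at hS'
    exact hnP (le_antisymm hPM hS' ▸ hM)
  · exact hp.coprime_iff_not_dvd.1 hKc.symm (hdvd K hKn hKb)


end Cfsg.Agent.S1013
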