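import Cfsg.Statements.S4509
import Cfsg.Agent.Lib.Block.SelfCentralPrime
-- import your own Cfsg.Agent.* helpers here

set_option autoImplicit false
open Cfsg
open scoped commutatorElement

namespace Cfsg.Agent.S4509

/-- Let the finite group G contain an element x of prime order p with C_G(x) = ⟨x⟩; let t be the number of conjugacy classes of elements of order p and 1 + n·p the number of subgroups of order p. Then G has a normal subgroup of order 1 + n·p if and only if either t = p − 1, or t < p − 1 and G″ ≠ G′. Moreover, if t = p − 1 then G′ has order 1 + n·p and G/G′ is cyclic of order p; and if t < p − 1 and G″ ≠ G′ then G″ has order 1 + n·p and G′ has order p·(1 + n·p). -/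
theorem result {G : Type*} [Group G] [Finite G] (p : ℕ) (hp : p.Prime) (x : G) (hx : orderOf x = p) (hC : Subgroup.centralizer ({x} : Set G) = Subgroup.zpowers x) (t : ℕ) (ht : Nat.card {C : ConjClasses G // ∃ g ∈ C.carrier, orderOf g = p} = t) (n : ℕ) (hn : Nat.card {H : Subgroup G // Nat.card H = p} = 1 + n * p) : ((∃ S : Subgroup G, S.Normal ∧ Nat.card S = 1 + n * p) ↔ (t = p - 1 ∨ (t < p - 1 ∧ derivedSeries G 2 ≠ derivedSeries G 1))) ∧ (t = p - 1 → Nat.card (commutator G) = 1 + n * p ∧ IsCyclic (G ⧸ commutator G) ∧ (commutator G).index = p) ∧ (t < p - 1 → derivedSeries G 2 ≠ derivedSeries G 1 → Nat.card (derivedSeries G 2) = 1 + n * p ∧ Nat.card (commutator G) = p * (1 + n * p)) := by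
  classical
  have := Fintype.ofFinite G
  have : Fact p.Prime := ⟨hp⟩
  set P₀ := Subgroup.zpowers x with hP₀
  set N₀ := Subgroup.normalizer ((Subgroup.zpowers x : Subgroup G) : Set G) with hN₀
  set e := Subgroup.relIndex P₀ N₀ with he
  have hte : t * e = p - 1 := CfsgLib.Block.SelfCentralPrime.natCard_classes_mul hx hC ht
  have hNc : Nat.card N₀ = p * e := CfsgLib.Block.SelfCentralPrime.natCard_normalizer hx hC
  have hG : Nat.card G = (1 + n * p) * (p * e) :=
    (CfsgLib.Block.SelfCentralPrime.natCard_eq hx hC hn).trans (by rw [← hNc])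
  have hp2 := hp.two_le
  have he0 : e ≠ 0 := fun h => by rw [h, mul_zero] at hte; omega
  have hx1 : x ≠ 1 := fun h => by rw [h, orderOf_one] at hx; exact hp.ne_one hx.symm
  have hnd : ¬ p ∣ 1 + n * p := fun h => by
    exact hp.not_dvd_one ((Nat.dvd_add_left (dvd_mul_left p n)).1 h)
  -- a normal subgroup of order `1 + n p` covers the group together with the normalizer
  have hcover : ∀ S : Subgroup G, S.Normal → Nat.card S = 1 + n * p →
      ∀ g : G, ∃ s ∈ S, ∃ m ∈ N₀, g = s * m := by
    intro S hS hScard g
    have hbot := CfsgLib.Block.SelfCentralPrime.inf_normalizer_eq_bot hx hC S (hScard ▸ hnd)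
    have hdisj : Disjoint S N₀ := disjoint_iff.2 hbot
    have hinj := Subgroup.mul_injective_of_disjoint hdisj
    have hbij := (Nat.bijective_iff_injective_and_card _).2 ⟨hinj,
      (Nat.card_prod _ _).trans (by rw [hScard, hNc, hG])⟩
    obtain ⟨⟨⟨s, hs⟩, ⟨m, hm⟩⟩, h⟩ := hbij.2 g
    exact ⟨s, hs, m, hm, h.symm⟩
  -- the case of trivial inertial index
  have hone : t = p - 1 → Nat.card (commutator G) = 1 + n * p ∧
      IsCyclic (G ⧸ commutator G) ∧ (commutator G).index = p := by
    intro htp
    have he1 : e = 1 := by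
      rcases Nat.eq_zero_or_pos t with h | h
      · omega
      · exact Nat.eq_of_mul_eq_mul_left h (by rw [hte, mul_one, htp])
    have hNP : N₀ ≤ P₀ := Subgroup.relIndex_eq_one.1 he1
    obtain ⟨P, hP⟩ := CfsgLib.Block.SelfCentralPrime.exists_sylow_eq hx hC
    have htr : Subgroup.normalizer ((P : Subgroup G) : Set G) ≤
        Subgroup.centralizer ((P : Subgroup G) : Set G) := by
      simp only [hP]
      rintro m hm y hy
      obtain ⟨i, rfl⟩ := Subgroup.mem_zpowers_iff.1 hy
      obtain ⟨j, rfl⟩ := Subgroup.mem_zpowers_iff.1 (hNP hm)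
      rw [← zpow_add, ← zpow_add, add_comm]
    set f := MonoidHom.transferSylow P htr with hf
    have hcompl := MonoidHom.ker_transferSylow_isComplement' P htr
    have hPc : Nat.card (P : Subgroup G) = p := by
      rw [hP, CfsgLib.Block.SelfCentralPrime.natCard_zpowers_eq hx hC]
    have hidx : f.ker.index = p := by rw [Subgroup.IsComplement'.index_eq_card (Subgroup.IsComplement'.symm hcompl), hPc]
    have hker : Nat.card f.ker = 1 + n * p := by
      have h := f.ker.card_mul_index
      rw [hidx, hG, he1, mul_one] at h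
      exact Nat.eq_of_mul_eq_mul_right hp.pos h
    have hcomm : commutator G = f.ker := by
      refine le_antisymm ?_ ?_
      · have : IsMulCommutative (P : Subgroup G) :=
          have : IsCyclic (P : Subgroup G) := isCyclic_of_prime_card hPc
          inferInstance
        rw [commutator_def, Subgroup.commutator_le]
        intro a _ b _
        rw [MonoidHom.mem_ker, map_commutatorElement]
        exact commutatorElement_eq_one_iff_mul_comm.2 (mul_comm' _ _)
      · intro k hk
        let φ : f.ker → f.ker := fun a => ⟨(a : G) * x * (a : G)⁻¹ * x⁻¹, by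
          rw [mul_assoc, mul_assoc]
          exact mul_mem a.2 (by
            rw [← mul_assoc]
            exact f.normal_ker.conj_mem _ (inv_mem a.2) x)⟩
        have hφ : Function.Injective φ := fun a b h => by
          have h' : (a : G) * x * (a : G)⁻¹ = (b : G) * x * (b : G)⁻¹ :=
            mul_right_cancel (congrArg Subtype.val h)
          have hmem : (b : G)⁻¹ * a ∈ P₀ := by
            rw [← hC, Subgroup.mem_centralizer_singleton_iff]
            calc (b : G)⁻¹ * a * x = (b : G)⁻¹ * ((a : G) * x * (a : G)⁻¹) * a := by group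
              _ = x * ((b : G)⁻¹ * a) := by rw [h']; group
          have h1 := Subgroup.disjoint_def.1 (Subgroup.IsComplement'.disjoint hcompl)
            (mul_mem (inv_mem b.2) a.2) ((SetLike.ext_iff.1 hP _).2 hmem)
          exact Subtype.ext (inv_mul_eq_one.1 h1).symm
        obtain ⟨a, ha⟩ := (Finite.injective_iff_surjective.1 hφ) ⟨k, hk⟩
        rw [show k = (φ a : G) from (congrArg Subtype.val ha).symm, commutator_def]
        exact Subgroup.commutator_mem_commutator (Subgroup.mem_top (a : G)) (Subgroup.mem_top x)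
    have hidx' : (commutator G).index = p := by rw [hcomm, hidx]
    exact ⟨by rw [hcomm, hker], isCyclic_of_prime_card (α := G ⧸ commutator G)
      (p := p) (by rw [← hidx']; rfl), hidx'⟩
  -- the case of nontrivial inertial index
  have hxcomm : 1 < e → x ∈ commutator G := by
    intro he1
    obtain ⟨m, hm, hmP⟩ : ∃ m ∈ N₀, m ∉ P₀ := by
      by_contra h
      push Not at h
      have h1 : e = 1 := Subgroup.relIndex_eq_one.2 h
      omega
    have hc : m * x * m⁻¹ * x⁻¹ ∈ P₀ := mul_mem
      ((Subgroup.mem_normalizer_iff.1 hm x).1 (Subgroup.mem_zpowers x))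
      (inv_mem (Subgroup.mem_zpowers x))
    have hne : m * x * m⁻¹ * x⁻¹ ≠ 1 := fun h => hmP (by
      rw [← hC, Subgroup.mem_centralizer_singleton_iff]
      exact mul_inv_eq_iff_eq_mul.1 (mul_inv_eq_one.1 h))
    have hgen : Subgroup.zpowers (m * x * m⁻¹ * x⁻¹) = P₀ := by
      refine Subgroup.eq_of_le_of_card_ge (Subgroup.zpowers_le.2 hc) ?_
      rcases hp.eq_one_or_self_of_dvd (Nat.card (Subgroup.zpowers (m * x * m⁻¹ * x⁻¹)))
        ((Subgroup.card_dvd_of_le (Subgroup.zpowers_le.2 hc)).trans
          (dvd_of_eq (CfsgLib.Block.SelfCentralPrime.natCard_zpowers_eq hx hC))) with h | h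
      · rw [Nat.card_zpowers, orderOf_eq_one_iff] at h
        exact absurd h hne
      · rw [h, CfsgLib.Block.SelfCentralPrime.natCard_zpowers_eq hx hC]
    refine (hgen ▸ Subgroup.zpowers_le.2 (?_ : m * x * m⁻¹ * x⁻¹ ∈ commutator G) :
      P₀ ≤ commutator G) (Subgroup.mem_zpowers x)
    rw [commutator_def]
    exact Subgroup.commutator_mem_commutator (Subgroup.mem_top m) (Subgroup.mem_top x)
  have hd1 : derivedSeries G 1 = commutator G := rfl
  have hd2le : derivedSeries G 2 ≤ commutator G := derivedSeries_antitone G (show 1 ≤ 2 by omega)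
  have htlt : t < p - 1 ↔ 1 < e := by
    constructor
    · intro h
      by_contra h'
      have h1 : e = 1 := by omega
      rw [h1, mul_one] at hte
      omega
    · intro h
      rcases Nat.eq_zero_or_pos t with h0 | h0
      · omega
      · calc t = t * 1 := (mul_one t).symm
          _ < t * e := Nat.mul_lt_mul_of_pos_left h h0
          _ = p - 1 := hte
  have htwo : t < p - 1 → derivedSeries G 2 ≠ derivedSeries G 1 →
      Nat.card (derivedSeries G 2) = 1 + n * p ∧
        Nat.card (commutator G) = p * (1 + n * p) := by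
    intro ht1 hne
    have hxG := hxcomm (htlt.1 ht1)
    set D2 := derivedSeries G 2 with hD2
    have hD2n : D2.Normal := derivedSeries_normal G 2
    have hxD : x ∉ D2 := fun h => hne (le_antisymm hd2le
      (CfsgLib.Block.SelfCentralPrime.commutator_le_of_mem hx hC D2 h))
    have hp' : ¬ p ∣ Nat.card D2 := fun h => by
      obtain ⟨y, hy⟩ := exists_prime_orderOf_dvd_card' (G := D2) p h
      obtain ⟨M, hM⟩ := CfsgLib.BlockB.exists_isPModular (p := p) hp
      have := hM.2.1.isPrime
      obtain ⟨O, hOx, -⟩ := CfsgLib.Block.SelfCentralPrime.exists_principalOne hx hC M hM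
      obtain ⟨a, ha⟩ := O.exists_conj_zpowers (g := (y : G)) (by rw [Subgroup.orderOf_coe, hy])
      rw [hOx] at ha
      have hgen : Subgroup.zpowers (a * (y : G) * a⁻¹) = P₀ := by
        refine Subgroup.eq_of_le_of_card_ge (Subgroup.zpowers_le.2 ha) ?_
        rw [CfsgLib.Block.SelfCentralPrime.natCard_zpowers_eq hx hC, Nat.card_zpowers,
          ← MulAut.conj_apply, MulEquiv.orderOf_eq, Subgroup.orderOf_coe, hy]
      exact hxD ((hgen ▸ Subgroup.zpowers_le.2 (hD2n.conj_mem _ y.2 a) : P₀ ≤ D2)
        (Subgroup.mem_zpowers x))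
    -- the normal closure of `x` over `D2`
    let q := QuotientGroup.mk' D2
    have hqker : q.ker = D2 := QuotientGroup.ker_mk' D2
    have hGcard : Nat.card (G ⧸ D2) * Nat.card D2 = Nat.card G :=
      (Subgroup.card_eq_card_quotient_mul_card_subgroup D2).symm
    have hqsq : ¬ p ^ 2 ∣ Nat.card (G ⧸ D2) := fun h =>
      CfsgLib.Block.SelfCentralPrime.not_sq_dvd hx hC (h.trans (Dvd.intro _ hGcard))
    have hA : ∀ a ∈ (commutator G).map q, ∀ b ∈ (commutator G).map q, a * b = b * a := by
      rintro a ⟨a, ha, rfl⟩ b ⟨b, hb, rfl⟩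
      rw [← commutatorElement_eq_one_iff_mul_comm, ← map_commutatorElement, ← MonoidHom.mem_ker,
        hqker]
      exact Subgroup.commutator_mem_commutator ha hb
    have hqx : orderOf (q x) = p := by
      refine orderOf_eq_prime (by rw [← map_pow, ← hx, pow_orderOf_eq_one, map_one]) fun h => hxD ?_
      rwa [← hqker, MonoidHom.mem_ker]
    set L := (Subgroup.zpowers (q x)).comap q with hL
    have hxA : q x ∈ (commutator G).map q := Subgroup.mem_map_of_mem q hxG
    have hZn : (Subgroup.zpowers (q x)).Normal := by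
      refine ⟨fun z hz g => ?_⟩
      obtain ⟨g, rfl⟩ := QuotientGroup.mk'_surjective D2 g
      obtain ⟨i, rfl⟩ := Subgroup.mem_zpowers_iff.1 hz
      rw [← conj_zpow]
      refine zpow_mem ?_ i
      have hmem : q (g * x * g⁻¹) ∈ (commutator G).map q := Subgroup.mem_map_of_mem q
        ((inferInstance : (commutator G).Normal).conj_mem x hxG g)
      rw [← map_inv, ← map_mul, ← map_mul]
      by_contra hnot
      apply hqsq
      have hw : orderOf (q (g * x * g⁻¹)) = p := by
        rw [map_mul, map_mul, map_inv, ← MulAut.conj_apply, MulEquiv.orderOf_eq, hqx]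
      set u := q (g * x * g⁻¹) with hu
      let S : Subgroup (G ⧸ D2) := Subgroup.zpowers (q x) ⊔ Subgroup.zpowers u
      have hnorm : Subgroup.zpowers u ≤
          Subgroup.normalizer ((Subgroup.zpowers (q x) : Subgroup (G ⧸ D2)) : Set (G ⧸ D2)) := by
        refine Subgroup.zpowers_le.2 (Subgroup.centralizer_le_normalizer _ ?_)
        intro y hy
        obtain ⟨j, rfl⟩ := Subgroup.mem_zpowers_iff.1 hy
        exact (Commute.zpow_left (hA _ hxA _ hmem) j).eq
      have hdisj : Disjoint (Subgroup.zpowers (q x)) (Subgroup.zpowers u) := by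
        rw [Subgroup.disjoint_def]
        intro y hy1 hy2
        by_contra hy
        apply hnot
        have hle := Subgroup.card_dvd_of_le (Subgroup.zpowers_le.2 hy2)
        rw [Nat.card_zpowers, Nat.card_zpowers, hw] at hle
        rcases hp.eq_one_or_self_of_dvd _ hle with h | h
        · exact absurd (orderOf_eq_one_iff.1 h) hy
        · have hgen : Subgroup.zpowers y = Subgroup.zpowers u :=
            Subgroup.eq_of_le_of_card_ge (Subgroup.zpowers_le.2 hy2)
              (by rw [Nat.card_zpowers, Nat.card_zpowers, hw, h])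
          exact (hgen ▸ Subgroup.zpowers_le.2 hy1 : Subgroup.zpowers u ≤ _) (Subgroup.mem_zpowers u)
      have hinj := Subgroup.mul_injective_of_disjoint hdisj
      have hScard : Nat.card S = p * p := by
        have hset : (S : Set (G ⧸ D2)) = Set.range fun a : Subgroup.zpowers (q x) ×
            Subgroup.zpowers u => (a.1 : G ⧸ D2) * a.2 := by
          rw [show S = _ from rfl, Subgroup.coe_mul_of_right_le_normalizer_left _ _ hnorm]
          ext y
          simp only [Set.mem_mul, Set.mem_range, SetLike.mem_coe, Prod.exists, Subtype.exists,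
            exists_prop]
        rw [← SetLike.coe_sort_coe, hset, Nat.card_range_of_injective hinj, Nat.card_prod,
          Nat.card_zpowers, Nat.card_zpowers, hqx, hw]
      rw [pow_two, ← hScard]
      exact Subgroup.card_subgroup_dvd_card S
    have hLn : L.Normal := hZn.comap q
    have hxL : x ∈ L := Subgroup.mem_zpowers (q x)
    have hLc : Nat.card L = p * Nat.card D2 := by
      have h1 := (Subgroup.zpowers (q x)).card_mul_index
      have h2 := L.card_mul_index
      rw [Nat.card_zpowers, hqx] at h1
      rw [hL, Subgroup.index_comap_of_surjective _ (QuotientGroup.mk'_surjective D2), ← hGcard,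
        ← h1] at h2
      refine Nat.eq_of_mul_eq_mul_right (Nat.pos_of_ne_zero
        (Subgroup.index_ne_zero_of_finite (H := Subgroup.zpowers (q x)))) ?_
      rw [hL, h2]
      ring
    have hLG : L = commutator G := by
      refine le_antisymm (fun g hg => ?_)
        (CfsgLib.Block.SelfCentralPrime.commutator_le_of_mem hx hC L hxL)
      obtain ⟨i, hi⟩ := Subgroup.mem_zpowers_iff.1 (Subgroup.mem_comap.1 hg)
      have hd : (x ^ i)⁻¹ * g ∈ D2 := by
        rw [← hqker, MonoidHom.mem_ker, map_mul, map_inv, map_zpow, hi, inv_mul_cancel]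
      have := mul_mem (zpow_mem hxG i) (hd2le hd)
      rwa [mul_inv_cancel_left] at this
    have hbot := CfsgLib.Block.SelfCentralPrime.inf_normalizer_eq_bot hx hC D2 hp'
    have hprod : ∀ g : G, ∃ s ∈ D2, ∃ m ∈ N₀, g = s * m := by
      intro g
      obtain ⟨m, hm, l, hl, rfl⟩ :=
        CfsgLib.Block.SelfCentralPrime.exists_mul_of_mem hx hC L hxL g
      obtain ⟨i, hi⟩ := Subgroup.mem_zpowers_iff.1 (Subgroup.mem_comap.1 hl)
      have hd : l * (x ^ i)⁻¹ ∈ D2 := by
        rw [← hqker, MonoidHom.mem_ker, map_mul, map_inv, map_zpow, hi, mul_inv_cancel]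
      exact ⟨m * (l * (x ^ i)⁻¹) * m⁻¹, hD2n.conj_mem _ hd m, m * x ^ i,
        mul_mem hm (zpow_mem (Subgroup.le_normalizer (Subgroup.mem_zpowers x)) i), by group⟩
    have hbij : Function.Bijective (fun a : D2 × N₀ => (a.1 : G) * a.2) := by
      refine ⟨Subgroup.mul_injective_of_disjoint (disjoint_iff.2 hbot), fun g => ?_⟩
      obtain ⟨s, hs, m, hm, rfl⟩ := hprod g
      exact ⟨(⟨s, hs⟩, ⟨m, hm⟩), rfl⟩
    have hcard := Nat.card_congr (Equiv.ofBijective _ hbij)
    rw [Nat.card_prod, hNc, hG] at hcard
    have hD : Nat.card D2 = 1 + n * p :=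
      Nat.eq_of_mul_eq_mul_right (Nat.pos_of_ne_zero (mul_ne_zero hp.ne_zero he0)) hcard
    exact ⟨hD, by rw [← hLG, hLc, hD]⟩
  refine ⟨⟨?_, ?_⟩, hone, htwo⟩
  · rintro ⟨S, hS, hScard⟩
    by_cases he1 : 1 < e
    · right
      refine ⟨htlt.2 he1, fun h => ?_⟩
      have hxS : x ∉ S := fun h' => hnd (hScard ▸ hx ▸ Subgroup.orderOf_dvd_natCard _ h')
      apply hxS
      have hle : derivedSeries G 2 ≤ S := by
        have h1 : commutator G ≤ S ⊔ P₀ := by
          rw [commutator_def, Subgroup.commutator_le]
          intro a _ b _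
          obtain ⟨s, hs, m, hm, rfl⟩ := hcover S hS hScard a
          obtain ⟨s', hs', m', hm', rfl⟩ := hcover S hS hScard b
          have hmod : ((⁅s * m, s' * m'⁆ : G) : G ⧸ S) = ((⁅m, m'⁆ : G) : G ⧸ S) := by
            change QuotientGroup.mk' S _ = QuotientGroup.mk' S _
            simp only [map_commutatorElement, map_mul]
            rw [(QuotientGroup.eq_one_iff s).2 hs |> fun h => (show QuotientGroup.mk' S s = 1 from h),
              (QuotientGroup.eq_one_iff s').2 hs' |> fun h =>
                (show QuotientGroup.mk' S s' = 1 from h), one_mul, one_mul]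
          have hk := QuotientGroup.eq.1 hmod.symm
          have hz : ⁅m, m'⁆ ∈ P₀ :=
            CfsgLib.Block.SelfCentralPrime.commutator_mem hx hC hm hm'
          have := mul_mem (Subgroup.mem_sup_right (S := S) hz) (Subgroup.mem_sup_left hk)
          rwa [mul_inv_cancel_left] at this
        rw [derivedSeries_succ, Subgroup.commutator_le]
        intro a ha b hb
        rw [hd1] at ha hb
        obtain ⟨s, hs, u, hu, rfl⟩ := Subgroup.mem_sup_of_normal_left.1 (h1 ha)
        obtain ⟨s', hs', u', hu', rfl⟩ := Subgroup.mem_sup_of_normal_left.1 (h1 hb)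
        rw [← QuotientGroup.eq_one_iff]
        change QuotientGroup.mk' S _ = 1
        simp only [map_commutatorElement, map_mul]
        rw [show QuotientGroup.mk' S s = 1 from (QuotientGroup.eq_one_iff s).2 hs,
          show QuotientGroup.mk' S s' = 1 from (QuotientGroup.eq_one_iff s').2 hs', one_mul, one_mul,
          ← map_commutatorElement]
        obtain ⟨i, rfl⟩ := Subgroup.mem_zpowers_iff.1 hu
        obtain ⟨j, rfl⟩ := Subgroup.mem_zpowers_iff.1 hu'
        rw [commutatorElement_eq_one_iff_mul_comm.2 (by rw [← zpow_add, ← zpow_add, add_comm]),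
          map_one]
      exact hle (h ▸ hd1 ▸ hxcomm he1)
    · left
      have h1 : e = 1 := by omega
      rwa [h1, mul_one] at hte
  · rintro (h | ⟨h1, h2⟩)
    · exact ⟨commutator G, inferInstance, (hone h).1⟩
    · exact ⟨derivedSeries G 2, derivedSeries_normal G 2, (htwo h1 h2).1⟩

end Cfsg.Agent.S4509
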