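import Cfsg.Statements.S0899
import Cfsg.Agent.Lib.Block.SmallDegreeSylow

set_option autoImplicit false
open Cfsg

namespace Cfsg.Agent.S0899

/-- Let G be a finite group with a faithful complex representation of degree n (on Fin n → ℂ) and p a prime. Suppose either that (n + 1) ^ 2 ≤ p, or that n + 1 < p and every subgroup of G whose order is not divisible by p ^ 2 has a normal Sylow p-subgroup. Then every Sylow p-subgroup of G is normal. -/
theorem result {G : Type*} [Group G] [Finite G] (n : ℕ) (ρ : Representation ℂ G (Fin n → ℂ)) (hρ : Function.Injective ρ) (p : ℕ) [Fact p.Prime] (h : (n + 1) ^ 2 ≤ p ∨ (n + 1 < p ∧ ∀ K : Subgroup G, ¬ p ^ 2 ∣ Nat.card K → ∀ Q : Sylow p K, (Q : Subgroup K).Normal)) (P : Sylow p G) : (P : Subgroup G).Normal := by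
  classical
  have := Fintype.ofFinite G
  have hp : p.Prime := Fact.out
  have hfr : Module.finrank ℂ (Fin n → ℂ) = n := by simp
  have hχ : Cfsg.IsCharacter G ρ.character := CfsgLib.Char.isCharacter_of_rep ρ
  have hdeg : Cfsg.charDegree ρ.character = n := by
    rw [Cfsg.charDegree, Representation.char_one, hfr, Complex.natCast_re, Nat.floor_natCast]
  have hfaith : ∀ g, ρ.character g = ρ.character 1 → g = 1 := fun g hg => by
    have h := (CfsgLib.Char.mem_ker_iff_char ρ g).2 hg
    rw [MonoidHom.mem_ker] at h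
    exact hρ (h.trans (map_one ρ).symm)
  have hnp : n + 1 < p ∨ n = 0 := by
    rcases Nat.eq_zero_or_pos n with h0 | h0
    · exact Or.inr h0
    left
    rcases h with h | ⟨h, -⟩
    · nlinarith
    · exact h
  rcases hnp with hnp | hn0
  swap
  · subst hn0
    have h1 : ∀ g : G, g = 1 := fun g => hρ (LinearMap.ext fun v => funext fun i => i.elim0)
    exact ⟨fun a ha g => by rw [h1 (g * a * g⁻¹), ← h1 a]; exact ha⟩
  refine CfsgLib.Block.DegreeBound.sylow_normal_of_small (Nat.card G) G le_rfl ρ.character hχ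
    (by rw [hdeg]; exact hnp) hfaith ?_ P
  intro K hK x hx hxo g hg
  have := Fintype.ofFinite K
  have hxK : orderOf (⟨x, hx⟩ : K) = p := by rw [Subgroup.orderOf_mk]; exact hxo
  have hnormal : (Subgroup.zpowers (⟨x, hx⟩ : K)).Normal := by
    rcases h with h | ⟨-, h⟩
    · have hn3 : 2 * n + 3 ≤ p := by
        rcases Nat.eq_zero_or_pos n with h0 | h0
        · subst h0
          exfalso
          have h1 : x = 1 := hρ (LinearMap.ext fun v => funext fun i => i.elim0)
          rw [h1, orderOf_one] at hxo
          exact hp.ne_one hxo.symm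
        have h2 : 2 * n + 2 ≤ p := by nlinarith
        rcases hp.eq_two_or_odd' with h2' | ⟨k, hk⟩
        · omega
        · omega
      refine CfsgLib.Block.exists_normal_order_of_small_degree (χ := fun k : K => ρ.character k) hxK hK
        (CfsgLib.Char.isCharacter_restrict hχ K) ?_ fun k hk => Subtype.ext (hfaith k hk)
      change 2 * Cfsg.charDegree ρ.character + 3 ≤ p
      rw [hdeg]
      exact hn3
    · obtain ⟨Q, hQ⟩ := (IsPGroup.of_card (n := 1) (show Nat.card (Subgroup.zpowers (⟨x, hx⟩ : K)) = p ^ 1 by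
        rw [Nat.card_zpowers, hxK, pow_one])).exists_le_sylow
      rw [← CfsgLib.Block.DefectOne.eq_zpowers_of_isPGroup hxK hK Q.isPGroup'
        (hQ (Subgroup.mem_zpowers _))]
      exact h K hK Q
  obtain ⟨j, hj⟩ := Subgroup.mem_zpowers_iff.1 (hnormal.conj_mem _ (Subgroup.mem_zpowers _) ⟨g, hg⟩)
  exact Subgroup.mem_zpowers_iff.2 ⟨j, by simpa using congrArg Subtype.val hj⟩

end Cfsg.Agent.S0899
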