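import Cfsg.Statements.S0992
import Cfsg.Agent.Lib.Transfer.SimpleCount

set_option autoImplicit false
open Cfsg

namespace Cfsg.Agent.S0992

/-- Let G be a non-abelian finite simple group of even order not divisible by 8, and T a Sylow 2-subgroup. Then T is a Klein four-group and the centralizer of T has index 3 in the normalizer of T. -/
theorem result {G : Type*} [Group G] [Finite G] [IsSimpleGroup G] (hG : ¬ IsMulCommutative G) (h2 : Even (Nat.card G)) (h8 : ¬ 8 ∣ Nat.card G) (T : Sylow 2 G) : IsKleinFour ↥(T : Subgroup G) ∧ (Subgroup.centralizer ((T : Subgroup G) : Set G)).relIndex (Subgroup.normalizer ((T : Subgroup G) : Set G)) = 3 := by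
  have hGna := hG
  have : Fact (Nat.Prime 2) := ⟨Nat.prime_two⟩
  have h2G : 2 ∣ Nat.card G := h2.two_dvd
  obtain ⟨n, hn⟩ := T.2.exists_card_eq
  have hn2 : n ≤ 2 := by
    by_contra h
    exact h8 ((pow_dvd_pow 2 (by omega : 3 ≤ n)).trans (hn ▸ Subgroup.card_subgroup_dvd_card _))
  have hnoc : ¬ IsCyclic (T : Subgroup G) := by
    intro hc
    exact CfsgLib.Transfer.not_hasNormalPComplement_of_simple hGna h2G
      ⟨T, _, inferInstance, hc.isComplement' ((Nat.minFac_eq_two_iff _).2 h2G)⟩
  have hn2' : n = 2 := by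
    interval_cases n
    · exact absurd (isCyclic_of_card_dvd_prime (p := 2) (by rw [hn]; norm_num)) hnoc
    · exact absurd (isCyclic_of_prime_card (p := 2) (by simpa using hn)) hnoc
    · rfl
  subst hn2'
  have hK : IsKleinFour (T : Subgroup G) :=
    ⟨by simpa using hn, by
      have : Nontrivial (T : Subgroup G) := Finite.one_lt_card_iff_nontrivial.1 (by rw [hn]; norm_num)
      rw [Monoid.exponent_eq_prime_iff Nat.prime_two]
      intro t ht
      obtain ⟨m, hm, hmo⟩ := (Nat.dvd_prime_pow Nat.prime_two).1 ((orderOf_dvd_natCard t).trans hn.dvd)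
      interval_cases m
      · exact absurd (orderOf_eq_one_iff.1 (by simpa using hmo)) ht
      · simpa using hmo
      · exact absurd (isCyclic_of_orderOf_eq_card t (by rw [hmo, hn])) hnoc⟩
  have : IsMulCommutative (T : Subgroup G) :=
    IsPGroup.isMulCommutative_of_card_eq_prime_sq (p := 2) hn
  refine ⟨hK, ?_⟩
  set N := Subgroup.normalizer ((T : Subgroup G) : Set G) with hN
  set C := Subgroup.centralizer ((T : Subgroup G) : Set G) with hC
  classical
  let _ : Fintype (T : Subgroup G) := Fintype.ofFinite _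
  let toP : MulAut (T : Subgroup G) →* Equiv.Perm {t : (T : Subgroup G) // t ≠ 1} :=
    { toFun := fun a => a.toEquiv.subtypeEquiv fun t => not_congr a.map_eq_one_iff.symm
      map_one' := Equiv.ext fun t => rfl
      map_mul' := fun a b => Equiv.ext fun t => rfl }
  have hinj : Function.Injective toP := fun a b h => MulEquiv.ext fun t => by
    by_cases ht : t = 1
    · simp [ht]
    · exact congrArg (fun π : Equiv.Perm {t : (T : Subgroup G) // t ≠ 1} => (π ⟨t, ht⟩).1) h
  have h6 : Nat.card (MulAut (T : Subgroup G)) ∣ 6 := by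
    refine (Subgroup.card_dvd_of_injective toP hinj).trans (dvd_of_eq ?_)
    rw [Nat.card_perm, Nat.card_eq_fintype_card, Fintype.card_subtype_compl, Fintype.card_subtype_eq,
      ← Nat.card_eq_fintype_card, hn]
    rfl
  have hrel : C.relIndex N ∣ 6 := by
    refine Dvd.dvd.trans ?_ h6
    change (C.subgroupOf N).index ∣ _
    rw [← Subgroup.normalizerMonoidHom_ker, Subgroup.index_ker]
    exact Subgroup.card_subgroup_dvd_card _
  have hodd : ¬ 2 ∣ C.relIndex N := fun h => T.not_dvd_index (h.trans
    ((Subgroup.relIndex_dvd_of_le_left _ (Subgroup.le_centralizer _)).trans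
      (Subgroup.relIndex_dvd_index_of_le Subgroup.le_normalizer)))
  have hne : C.relIndex N ≠ 1 := fun h =>
    CfsgLib.Transfer.not_normalizer_le_centralizer hGna h2G T (Subgroup.relIndex_eq_one.1 h)
  have hmem : C.relIndex N ∈ Nat.divisors 6 := Nat.mem_divisors.2 ⟨hrel, by norm_num⟩
  rw [show Nat.divisors 6 = {1, 2, 3, 6} by decide] at hmem
  simp only [Finset.mem_insert, Finset.mem_singleton] at hmem
  rcases hmem with h | h | h | h
  · exact absurd h hne
  · exact absurd (h ▸ dvd_rfl) hodd
  · exact h
  · exact absurd (h ▸ (by norm_num : 2 ∣ 6)) hodd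


end Cfsg.Agent.S0992
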