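import Cfsg.Statements.S4499
import Cfsg.Agent.Lib.BlockA.RegMatrix

set_option autoImplicit false
open Cfsg

namespace Cfsg.Agent.S4499

/-- Let G be a finite group whose order has p-part p^a (a ≥ 1), and fix a maximal ideal M of the algebraic integers containing p. If the degree of one irreducible character of a p-block B is divisible by p^(a−1), then the degree of every irreducible character in B is divisible by p^(a−1) (so B has defect at most 1). -/
theorem result {G : Type*} [Group G] [Finite G] (p : ℕ) [Fact p.Prime] (M : Ideal Cfsg.AlgInt) (hM : Cfsg.IsPModular p M) (hpa : p ∣ Nat.card G) (B : Set (Cfsg.IrrCharacter G)) (hB : Cfsg.IsPBlock M B) (χ : Cfsg.IrrCharacter G) (hχ : χ ∈ B) (hdiv : p ^ ((Nat.card G).factorization p - 1) ∣ Cfsg.charDegree (χ : G → ℂ)) (ψ : Cfsg.IrrCharacter G) (hψ : ψ ∈ B) : p ^ ((Nat.card G).factorization p - 1) ∣ Cfsg.charDegree (ψ : G → ℂ) := by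
  classical
  have := Fintype.ofFinite G
  have := CfsgLib.Block.isPrime_of_pmodular hM
  have hp := hM.1
  set s := sInf ((fun φ : Cfsg.IrrCharacter G =>
    (Cfsg.charDegree (φ : G → ℂ)).factorization p) '' B) with hs
  have hadd := CfsgLib.Block.sInf_degree_add_blockDefect hM hB
  rw [← hs] at hadd
  set a := (Nat.card G).factorization p
  have hle : ∀ φ ∈ B, s ≤ (Cfsg.charDegree (φ : G → ℂ)).factorization p :=
    fun φ hφ => Nat.sInf_le ⟨φ, hφ, rfl⟩
  have hv : a - 1 ≤ (Cfsg.charDegree (χ : G → ℂ)).factorization p :=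
    (hp.pow_dvd_iff_le_factorization (CfsgLib.Block.charDegree_ne_zero χ.2)).1 hdiv
  refine (hp.pow_dvd_iff_le_factorization (CfsgLib.Block.charDegree_ne_zero ψ.2)).2
    (le_trans ?_ (hle ψ hψ))
  by_contra hlt
  set h := Cfsg.blockHeight p B (χ : G → ℂ) with hh
  have hhv : (Cfsg.charDegree (χ : G → ℂ)).factorization p = h + s := by
    have := hle χ hχ
    simp only [hh, Cfsg.blockHeight, ← hs]
    omega
  have hh1 : h ≠ 0 := by omega
  obtain ⟨χ₀, hχ₀, h0⟩ := CfsgLib.Block.exists_height_zero hM hB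
  obtain ⟨e, hsum, he⟩ := CfsgLib.BlockA.exists_scaled_entries hM hB hχ
  rw [finsum_mem_eq_finite_toFinset_sum _ B.toFinite] at hsum
  obtain ⟨t, ht⟩ := (he χ hχ).2.2.2.2 hh1
  obtain ⟨u, hu⟩ := (he χ₀ hχ₀).1
  have hnd : ¬ ((p ^ (h + 1) : ℕ) : ℤ) ∣ e χ₀ := fun hd => (he χ₀ hχ₀).2.2.2.1 hd h0
  have hu0 : u ≠ 0 := fun h' => hnd (by rw [hu, h', mul_zero]; exact dvd_zero _)
  have hne : χ₀ ≠ χ := fun h' => hh1 (by rw [hh, ← h', h0])
  have h2 : e χ * e χ + e χ₀ * e χ₀ ≤ ((p ^ Cfsg.blockDefect p B : ℕ) : ℤ) * e χ := by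
    rw [← hsum, ← Finset.sum_pair (f := fun ξ => e ξ * e ξ) hne.symm]
    refine Finset.sum_le_sum_of_subset_of_nonneg ?_ fun ξ _ _ => mul_self_nonneg _
    intro ξ hξ
    rw [Set.Finite.mem_toFinset]
    rcases Finset.mem_insert.1 hξ with rfl | hξ
    · exact hχ
    · rw [Finset.mem_singleton.1 hξ]; exact hχ₀
  have h3 : Cfsg.blockDefect p B ≤ h + 1 := by omega
  obtain ⟨r, hr⟩ := Nat.exists_eq_add_of_le h3
  rw [ht, hu, hr, pow_add] at h2
  push_cast at h2
  have hP : (0 : ℤ) < (p : ℤ) ^ h := pow_pos (by exact_mod_cast hp.pos) h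
  have hD : (0 : ℤ) < (p : ℤ) ^ Cfsg.blockDefect p B := pow_pos (by exact_mod_cast hp.pos) _
  have hR : (1 : ℤ) ≤ (p : ℤ) ^ r := one_le_pow₀ (by exact_mod_cast hp.one_lt.le)
  have hu1 : 1 ≤ u * u := by
    rcases lt_or_gt_of_ne hu0 with h' | h' <;> nlinarith
  have htt : t ≤ t * t := by
    rcases le_or_gt t 0 with h' | h' <;> nlinarith
  nlinarith [mul_le_mul_of_nonneg_left htt
    (mul_nonneg (mul_nonneg hD.le hD.le) (le_trans zero_le_one hR)), mul_nonneg (mul_nonneg hD.le hD.le)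
    (mul_nonneg (le_trans zero_le_one hR) (mul_nonneg (sub_nonneg.2 hR) (mul_self_nonneg t))),
    mul_le_mul_of_nonneg_left hu1 (mul_nonneg hP.le hP.le), mul_pos hP hP]

end Cfsg.Agent.S4499
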