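import Cfsg.Statements.S4500
import Cfsg.Agent.S4499
import Cfsg.Agent.Lib.BlockB.DefectZero
import Cfsg.Agent.Lib.BlockB.PModular
import Cfsg.Agent.Lib.Block.Orthogonality
import Cfsg.Agent.Lib.Block.DefectOrder
import Cfsg.Agent.Lib.Clifford.Degrees
import Cfsg.Agent.Lib.Char.Integral
import Cfsg.Agent.Lib.Char.Linear
import Cfsg.Agent.Lib.Char.Burnside
import Cfsg.Agent.Lib.BlockA.Glauberman

set_option autoImplicit false
open Cfsg

namespace Cfsg.Agent.S4500

/-- Let G be a non-trivial finite group of order p^a · q^b · r^c with p, q, r distinct primes and a ≤ 2. Then G has a non-principal irreducible character whose degree is a power of q, and a non-principal irreducible character whose degree is a power of r; the power may be the zeroth, so a non-principal linear character serves for both. -/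
theorem result {G : Type*} [Group G] [Finite G] [Nontrivial G] (p q r a b c : ℕ) (hp : p.Prime) (hq : q.Prime) (hr : r.Prime) (hpq : p ≠ q) (hpr : p ≠ r) (hqr : q ≠ r) (ha : a ≤ 2) (hG : Nat.card G = p ^ a * q ^ b * r ^ c) : (∃ χ : Cfsg.IrrCharacter G, (χ : G → ℂ) ≠ (fun _ => 1) ∧ ∃ k : ℕ, Cfsg.charDegree (χ : G → ℂ) = q ^ k) ∧ ∃ χ : Cfsg.IrrCharacter G, (χ : G → ℂ) ≠ (fun _ => 1) ∧ ∃ k : ℕ, Cfsg.charDegree (χ : G → ℂ) = r ^ k := by
  classical
  have key : ∀ (q' r' b' c' : ℕ), q'.Prime → r'.Prime → p ≠ q' → p ≠ r' → q' ≠ r' →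
      Nat.card G = p ^ a * q' ^ b' * r' ^ c' →
      ∃ χ : Cfsg.IrrCharacter G, (χ : G → ℂ) ≠ (fun _ => 1) ∧
        ∃ k : ℕ, Cfsg.charDegree (χ : G → ℂ) = q' ^ k := by
    intro q r b c hq hr hpq hpr hqr hG
    haveI := Fact.mk hp
    have := Fintype.ofFinite G
    by_cases hcomm : commutator G = ⊤
    case neg =>
      have hidx : 1 < (commutator G).index := (commutator G).one_lt_index_of_ne_top hcomm
      rw [← CfsgLib.Char.natCard_linearIrr, Finite.one_lt_card_iff_nontrivial] at hidx
      obtain ⟨χ, hχ⟩ := exists_ne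
        (⟨⟨fun _ => 1, CfsgLib.Char.isIrrCharacter_one⟩, rfl⟩ :
          {χ : Cfsg.IrrCharacter G // (χ : G → ℂ) 1 = 1})
      refine ⟨χ.1, fun h => hχ (Subtype.ext (Subtype.ext h)), 0, ?_⟩
      rw [Cfsg.charDegree, χ.2, pow_zero]
      norm_num
    case pos =>
      have hns : ¬ Group.IsSolvable G := fun _ =>
        (Group.IsSolvable.commutator_lt_top_of_nontrivial G).ne hcomm
      have ha0 : a ≠ 0 := fun h => hns (CfsgLib.Char.burnside_pq q r hq hr b c G
        (by rw [hG, h, pow_zero, one_mul]))
      have hpd : p ∣ Nat.card G := by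
        rw [hG]; exact ((dvd_pow_self p ha0).mul_right _).mul_right _
      have hfac : (Nat.card G).factorization p = a := by
        rw [hG, Nat.factorization_mul
          (mul_ne_zero (pow_ne_zero _ hp.ne_zero) (pow_ne_zero _ hq.ne_zero))
          (pow_ne_zero _ hr.ne_zero),
          Nat.factorization_mul (pow_ne_zero _ hp.ne_zero) (pow_ne_zero _ hq.ne_zero)]
        simp [hp.factorization_pow, hq.factorization_pow, hr.factorization_pow, hpq.symm, hpr.symm]
      obtain ⟨M, hM⟩ := CfsgLib.BlockB.exists_isPModular hp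
      have := CfsgLib.Block.isPrime_of_pmodular hM
      obtain ⟨x, hx⟩ := exists_prime_orderOf_dvd_card' (G := G) p hpd
      have hxs : p ∣ orderOf x := by rw [hx]
      have h1B := CfsgLib.Block.one_mem_principalBlock (M := M) (G := G)
      have hB := CfsgLib.Block.isPBlock_principalBlock (M := M) (G := G)
      have hsum := CfsgLib.Block.sum_block_eq_zero_of_regular_singular hM hB (g := (1 : G)) (h := x)
        (by rw [orderOf_one]; exact hp.not_dvd_one) hxs
      rw [finsum_mem_eq_finite_toFinset_sum _ (Set.toFinite _),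
        ← Finset.add_sum_erase _ _ ((Set.Finite.mem_toFinset _).2 h1B)] at hsum
      set one' : Cfsg.IrrCharacter G := ⟨fun _ => 1, CfsgLib.Char.isIrrCharacter_one⟩ with hone
      by_contra hno
      push Not at hno
      have hint : ∀ χ ∈ ((Set.toFinite (Cfsg.principalBlock M G)).toFinset.erase one'),
          IsIntegral ℤ ((χ : G → ℂ) 1 * starRingEnd ℂ ((χ : G → ℂ) x) / (r : ℂ)) := by
        intro χ hχ
        rw [Finset.mem_erase, Set.Finite.mem_toFinset] at hχ
        have hne : (χ : G → ℂ) ≠ fun _ => 1 := fun h => hχ.1 (Subtype.ext h)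
        have hcχ := CfsgLib.Char.irr_isCharacter χ.2
        by_cases hpd' : p ∣ Cfsg.charDegree (χ : G → ℂ)
        · have h0 : (χ : G → ℂ) x = 0 := by
            rcases (show a = 1 ∨ a = 2 by omega) with rfl | rfl
            · exact CfsgLib.BlockB.irr_apply_eq_zero_of_defect_zero χ
                (by rw [hfac, pow_one]; exact hpd') hxs
            · have h1 := Cfsg.Agent.S4499.result p M hM hpd _ hB χ hχ.2
                (by rw [hfac]; simpa using hpd') one' h1B
              rw [hfac] at h1
              simp [hone, Cfsg.charDegree] at h1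
              exact absurd h1 hp.ne_one
          rw [h0, map_zero, mul_zero, zero_div]
          exact isIntegral_zero
        · have hd : Cfsg.charDegree (χ : G → ℂ) ∣ Nat.card G :=
            CfsgLib.Clifford.Degrees.charDegree_dvd_card χ.2
          have hrd : r ∣ Cfsg.charDegree (χ : G → ℂ) := by
            by_contra hrd
            rw [hG] at hd
            have h1 := ((Nat.Coprime.pow_right c ((hr.coprime_iff_not_dvd.2 hrd).symm))).dvd_of_dvd_mul_right hd
            have h2 := ((Nat.Coprime.pow_right a ((hp.coprime_iff_not_dvd.2 hpd').symm))).dvd_of_dvd_mul_left h1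
            obtain ⟨k, -, hk⟩ := (Nat.dvd_prime_pow hq).1 h2
            exact hno χ hne k hk
          obtain ⟨m, hm⟩ := hrd
          rw [show (χ : G → ℂ) 1 * starRingEnd ℂ ((χ : G → ℂ) x) / (r : ℂ) =
              (m : ℂ) * starRingEnd ℂ ((χ : G → ℂ) x) by
            rw [← CfsgLib.Block.charDegree_cast hcχ, hm, Nat.cast_mul]
            field_simp [Nat.cast_ne_zero (R := ℂ).2 hr.ne_zero]]
          exact (isIntegral_algebraMap (R := ℤ) (x := (m : ℤ))).mul
            ((CfsgLib.BlockA.isIntegral_char hcχ x).map (starRingEnd ℂ).toIntAlgHom)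
      have hI := IsIntegral.sum _ hint
      rw [← Finset.sum_div] at hI
      have hv : (one' : G → ℂ) 1 * starRingEnd ℂ ((one' : G → ℂ) x) = 1 := by simp [hone]
      rw [hv, add_comm, add_eq_zero_iff_eq_neg] at hsum
      rw [hsum, neg_div] at hI
      have hI' := hI.neg
      rw [neg_neg] at hI'
      exact hr.ne_one (Nat.dvd_one.1
        (CfsgLib.Char.dvd_of_isIntegral_div hr.pos (by simpa using hI')))
  exact ⟨key q r b c hq hr hpq hpr hqr hG,
    key r q c b hr hq hpr hpq hqr.symm (by rw [hG]; ring)⟩

end Cfsg.Agent.S4500
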