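import Cfsg.Statements.S4733
import Cfsg.Agent.Lib.BlockB.RegRank

set_option autoImplicit false
open Cfsg

namespace Cfsg.Agent.S4733

/-- Let p be a prime, M a maximal ideal of the algebraic integers containing p, and B a p-block of the finite group G with k irreducible characters and p-regular rank l (the number of irreducible Brauer characters). Then l ≤ k, and the following are equivalent: B has defect 0; k = l = 1; k = l. -/
theorem result {G : Type*} [Group G] [Finite G] (p : ℕ) [Fact p.Prime] (M : Ideal Cfsg.AlgInt) (hM : Cfsg.IsPModular p M) (B : Set (Cfsg.IrrCharacter G)) (hB : Cfsg.IsPBlock M B) : Cfsg.blockRank p B ≤ Nat.card B ∧ (Cfsg.blockDefect p B = 0 ↔ (Nat.card B = 1 ∧ Cfsg.blockRank p B = 1)) ∧ (Cfsg.blockDefect p B = 0 ↔ Nat.card B = Cfsg.blockRank p B) := by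
  classical
  have := CfsgLib.Block.isPrime_of_pmodular hM
  have := Fintype.ofFinite G
  have := Fintype.ofFinite (Cfsg.IrrCharacter G)
  refine ⟨CfsgLib.BlockB.blockRank_le_card, ?_⟩
  set q := p ^ (Nat.card G).factorization p with hq
  have hq0 : (0 : ℤ) < (q : ℤ) := by exact_mod_cast pow_pos hM.1.pos _
  set F := B.toFinite.toFinset with hF
  have hk : Nat.card B = F.card := by
    rw [Nat.card_coe_set_eq, Set.ncard_eq_toFinset_card B B.toFinite]
  have hl := CfsgLib.BlockB.blockRank_mul_pow hM hB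
  obtain ⟨χ, hχ, h0⟩ := CfsgLib.Block.exists_height_zero hM hB
  have hχF : χ ∈ F := B.toFinite.mem_toFinset.2 hχ
  obtain ⟨e, hsum, he⟩ := CfsgLib.BlockA.exists_scaled_entries hM hB hχ
  have hep : ¬ ((p : ℕ) : ℤ) ∣ e χ := by
    have h3 := (he χ hχ).2.2.1
    rw [h0, zero_add, pow_one] at h3
    exact fun h => h3.1 h rfl
  rw [finsum_mem_eq_finite_toFinset_sum _ B.toFinite] at hsum
  have hone : Nat.card B = 1 → Cfsg.blockDefect p B = 0 ∧ Cfsg.blockRank p B = 1 := by
    intro h1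
    rw [hk, Finset.card_eq_one] at h1
    obtain ⟨χ', hχ'⟩ := h1
    have hFs : F = {χ} := by
      rw [hχ', Finset.mem_singleton] at hχF
      rw [hχ', hχF]
    rw [← hF, hFs, Finset.sum_singleton] at hsum hl
    have hene : e χ ≠ 0 := fun h => hep (h ▸ dvd_zero _)
    have he2 : e χ = ((p ^ Cfsg.blockDefect p B : ℕ) : ℤ) := mul_right_cancel₀ hene hsum
    refine ⟨?_, ?_⟩
    · by_contra hd
      exact hep (he2 ▸ by exact_mod_cast dvd_pow_self p hd)
    · have hsq := CfsgLib.BlockA.sum_regEntry_sq hM hB hχ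
      rw [finsum_mem_eq_finite_toFinset_sum _ B.toFinite, ← hF, hFs, Finset.sum_singleton] at hsq
      have hne := CfsgLib.BlockA.regEntry_ne_zero hM hB hχ hχ h0
      have h2 : CfsgLib.BlockA.regEntry p χ χ = (q : ℤ) := mul_right_cancel₀ hne hsq
      rw [h2] at hl
      have : (Cfsg.blockRank p B : ℤ) = 1 :=
        mul_left_cancel₀ hq0.ne' (hl.trans (mul_one _).symm)
      exact_mod_cast this
  have hzero : Cfsg.blockDefect p B = 0 → Nat.card B = 1 := by
    intro hd
    have h := CfsgLib.BlockA.sum_pow_height_le hM hB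
    rw [finsum_mem_eq_finite_toFinset_sum _ B.toFinite, hd] at h
    have h2 : F.card ≤ 1 := by
      refine le_trans ?_ (h.trans (by norm_num))
      rw [Finset.card_eq_sum_ones]
      exact Finset.sum_le_sum fun ξ _ => Nat.one_le_pow _ _ hM.1.pos
    have : 0 < F.card := Finset.card_pos.2 ⟨χ, hχF⟩
    omega
  refine ⟨⟨fun hd => ⟨hzero hd, (hone (hzero hd)).2⟩, fun h => (hone h.1).1⟩,
    ⟨fun hd => by rw [hzero hd, (hone (hzero hd)).2], fun hkl => ?_⟩⟩
  refine (hone ?_).1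
  -- `k = l` forces a scalar matrix
  have hdiag : ∀ ξ ∈ F, CfsgLib.BlockA.regEntry p ξ ξ ≤ (q : ℤ) ∧
      (CfsgLib.BlockA.regEntry p ξ ξ = (q : ℤ) →
        ∀ η ∈ F, η ≠ ξ → CfsgLib.BlockA.regEntry p ξ η = 0) := by
    intro ξ hξ
    have hsq := CfsgLib.BlockA.sum_regEntry_sq hM hB (B.toFinite.mem_toFinset.1 hξ)
    rw [finsum_mem_eq_finite_toFinset_sum _ B.toFinite, ← hF, ← Finset.add_sum_erase _ _ hξ] at hsq
    have hnn : ∀ η ∈ F.erase ξ,
        0 ≤ CfsgLib.BlockA.regEntry p ξ η * CfsgLib.BlockA.regEntry p ξ η :=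
      fun η _ => mul_self_nonneg _
    have h2 := Finset.sum_nonneg hnn
    refine ⟨by nlinarith, fun he' η hη hne => ?_⟩
    rw [he'] at hsq
    have h3 : ∑ η ∈ F.erase ξ,
        CfsgLib.BlockA.regEntry p ξ η * CfsgLib.BlockA.regEntry p ξ η = 0 := by linarith
    exact mul_self_eq_zero.1 ((Finset.sum_eq_zero_iff_of_nonneg hnn).1 h3 η
      (Finset.mem_erase.2 ⟨hne, hη⟩))
  have hall : ∀ ξ ∈ F, CfsgLib.BlockA.regEntry p ξ ξ = (q : ℤ) := by
    refine (Finset.sum_eq_sum_iff_of_le fun ξ hξ => (hdiag ξ hξ).1).1 ?_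
    rw [← hl, Finset.sum_const, nsmul_eq_mul, ← hk, hkl, mul_comm]
  rw [hk]
  refine Finset.card_eq_one.2 ⟨χ, Finset.eq_singleton_iff_unique_mem.2 ⟨hχF, fun η hη => ?_⟩⟩
  by_contra hne
  exact CfsgLib.BlockA.regEntry_ne_zero hM hB hχ (B.toFinite.mem_toFinset.1 hη) h0
    ((hdiag χ hχF).2 (hall χ hχF) η hη hne)

end Cfsg.Agent.S4733
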