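import Cfsg.Statements.S4710
import Cfsg.Agent.Lib.BlockA.RegMatrix

set_option autoImplicit false
open Cfsg

namespace Cfsg.Agent.S4710

open scoped Classical in
/-- The row of a character of positive height. -/
theorem row_bound {G : Type*} [Group G] [Fintype G] {p : ℕ} [Fact p.Prime] {M : Ideal Cfsg.AlgInt}
    [M.IsPrime] (hM : Cfsg.IsPModular p M) {B : Set (Cfsg.IrrCharacter G)}
    (hB : Cfsg.IsPBlock M B) {χ : Cfsg.IrrCharacter G} (hχ : χ ∈ B)
    (hpos : 0 < Cfsg.blockHeight p B (χ : G → ℂ)) :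
    Cfsg.blockHeight p B (χ : G → ℂ) + 2 ≤ Cfsg.blockDefect p B ∧
      4 * p ^ 2 * (B.toFinite.toFinset.filter
        fun ξ : Cfsg.IrrCharacter G => Cfsg.blockHeight p B (ξ : G → ℂ) = 0).card ≤
          (p ^ Cfsg.blockDefect p B) ^ 2 := by
  have hp : p.Prime := Fact.out
  obtain ⟨e, hsum, he⟩ := CfsgLib.BlockA.exists_scaled_entries hM hB hχ
  obtain ⟨χ₀, hχ₀, h0⟩ := CfsgLib.Block.exists_height_zero hM hB
  set h := Cfsg.blockHeight p B (χ : G → ℂ) with hh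
  set d := Cfsg.blockDefect p B
  set S := B.toFinite.toFinset.filter
    fun ξ : Cfsg.IrrCharacter G => Cfsg.blockHeight p B (ξ : G → ℂ) = 0 with hS
  rw [finsum_mem_eq_finite_toFinset_sum _ B.toFinite] at hsum
  have hlow : ∀ ξ ∈ S, (((p ^ h : ℕ) : ℤ)) ^ 2 ≤ e ξ * e ξ := by
    intro ξ hξ
    obtain ⟨hξB, hξ0⟩ := Finset.mem_filter.1 hξ
    obtain ⟨⟨t, ht⟩, -, -, h4⟩ := he ξ (B.toFinite.mem_toFinset.1 hξB)
    have ht0 : t ≠ 0 := by
      rintro rfl
      rw [mul_zero] at ht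
      exact h4.1 (ht ▸ dvd_zero _) hξ0
    have ht1 : 1 ≤ t * t := by
      rcases lt_or_gt_of_ne ht0 with h | h <;> nlinarith
    rw [ht, sq]
    nlinarith [mul_self_nonneg (((p ^ h : ℕ) : ℤ))]
  have hχS : χ ∉ S := fun hm => hpos.ne' (Finset.mem_filter.1 hm).2
  have hsub : insert χ S ⊆ B.toFinite.toFinset := by
    refine Finset.insert_subset (B.toFinite.mem_toFinset.2 hχ) (Finset.filter_subset _ _)
  have h1 := Finset.sum_le_sum_of_subset_of_nonneg hsub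
    (f := fun ξ => e ξ * e ξ) (fun ξ _ _ => mul_self_nonneg _)
  rw [hsum, Finset.sum_insert hχS] at h1
  have h2 := Finset.card_nsmul_le_sum S _ _ hlow
  rw [nsmul_eq_mul] at h2
  have hk0 : 1 ≤ S.card := Finset.card_pos.2
    ⟨χ₀, Finset.mem_filter.2 ⟨B.toFinite.mem_toFinset.2 hχ₀, h0⟩⟩
  obtain ⟨-, -, -, h4⟩ := he χ hχ
  obtain ⟨a, ha⟩ := h4.2 hpos.ne'
  have hP : (0 : ℤ) < ((p ^ h : ℕ) : ℤ) := by exact_mod_cast pow_pos hp.pos h
  have hq : (0 : ℤ) < ((p ^ d : ℕ) : ℤ) := by exact_mod_cast pow_pos hp.pos d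
  have hk : (1 : ℤ) ≤ (S.card : ℤ) := by exact_mod_cast hk0
  have hprod : 0 < e χ * (((p ^ d : ℕ) : ℤ) - e χ) := by nlinarith
  have hepos : 0 < e χ := by
    rcases mul_pos_iff.1 hprod with ⟨h5, -⟩ | ⟨h5, h6⟩
    · exact h5
    · linarith
  have hlt : e χ < ((p ^ d : ℕ) : ℤ) := by
    rcases mul_pos_iff.1 hprod with ⟨-, h6⟩ | ⟨h5, -⟩
    · linarith
    · linarith
  have hd2 : h + 2 ≤ d := by
    have h5 : p ^ (h + 1) < p ^ d := by
      zify
      rw [← Nat.cast_pow, ← Nat.cast_pow]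
      have ha1 : 1 ≤ a := by
        by_contra hna
        push Not at hna
        have : e χ ≤ 0 := by
          rw [ha]; exact mul_nonpos_of_nonneg_of_nonpos (Int.natCast_nonneg _) (by omega)
        linarith
      have : ((p ^ (h + 1) : ℕ) : ℤ) ≤ e χ := by
        rw [ha]; nlinarith [Int.natCast_nonneg (p ^ (h + 1))]
      linarith
    have := (Nat.pow_lt_pow_iff_right hp.one_lt).1 h5
    omega
  refine ⟨hd2, ?_⟩
  have h7 : 4 * (S.card : ℤ) * ((p ^ h : ℕ) : ℤ) ^ 2 ≤ ((p ^ d : ℕ) : ℤ) ^ 2 := by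
    nlinarith [mul_self_nonneg (2 * e χ - ((p ^ d : ℕ) : ℤ))]
  have h8 : 4 * S.card * (p ^ h) ^ 2 ≤ (p ^ d) ^ 2 := by exact_mod_cast h7
  refine le_trans ?_ h8
  rw [mul_right_comm]
  exact Nat.mul_le_mul_left _ (Nat.pow_le_pow_left (Nat.le_self_pow (by omega) p) 2)

/-- Let p be a prime, M a maximal ideal of the algebraic integers containing p, and B a p-block of defect d of the finite group G containing k irreducible characters. If B contains a character of positive height then 2k ≤ p^(2d − 2); and every character in B has height 0 when d ≤ 1 and height at most d − 2 when d ≥ 2. -/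
theorem result {G : Type*} [Group G] [Finite G] (p : ℕ) [Fact p.Prime] (M : Ideal Cfsg.AlgInt) (hM : Cfsg.IsPModular p M) (B : Set (Cfsg.IrrCharacter G)) (hB : Cfsg.IsPBlock M B) (d : ℕ) (hd : Cfsg.blockDefect p B = d) : ((∃ χ ∈ B, 0 < Cfsg.blockHeight p B (χ : G → ℂ)) → 2 * Nat.card B ≤ p ^ (2 * d - 2)) ∧ ∀ χ ∈ B, (d ≤ 1 → Cfsg.blockHeight p B (χ : G → ℂ) = 0) ∧ (2 ≤ d → Cfsg.blockHeight p B (χ : G → ℂ) ≤ d - 2) := by
  classical
  have := CfsgLib.Block.isPrime_of_pmodular hM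
  have := Fintype.ofFinite G
  have hp : p.Prime := Fact.out
  refine ⟨?_, fun χ hχ => ?_⟩
  · rintro ⟨χ, hχ, hpos⟩
    obtain ⟨hd2, hk0⟩ := row_bound hM hB hχ hpos
    have hw := CfsgLib.BlockA.sum_pow_height_le hM hB
    rw [finsum_mem_eq_finite_toFinset_sum _ B.toFinite,
      ← Finset.sum_filter_add_sum_filter_not _ (fun ξ : Cfsg.IrrCharacter G =>
        Cfsg.blockHeight p B (ξ : G → ℂ) = 0)] at hw
    rw [hd] at hk0 hd2 hw
    set S := B.toFinite.toFinset.filter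
      fun ξ : Cfsg.IrrCharacter G => Cfsg.blockHeight p B (ξ : G → ℂ) = 0 with hS
    set T := B.toFinite.toFinset.filter
      fun ξ : Cfsg.IrrCharacter G => ¬ Cfsg.blockHeight p B (ξ : G → ℂ) = 0 with hT
    obtain ⟨χ₀, hχ₀, h0⟩ := CfsgLib.Block.exists_height_zero hM hB
    have hS1 : S.card ≤ ∑ ξ ∈ S, p ^ (2 * Cfsg.blockHeight p B (ξ : G → ℂ)) := by
      rw [Finset.card_eq_sum_ones]
      exact Finset.sum_le_sum fun ξ _ => Nat.one_le_pow _ _ hp.pos
    have hT1 : p ^ 2 * T.card ≤ ∑ ξ ∈ T, p ^ (2 * Cfsg.blockHeight p B (ξ : G → ℂ)) := by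
      rw [mul_comm, ← smul_eq_mul]
      refine Finset.card_nsmul_le_sum _ _ _ fun ξ hξ => Nat.pow_le_pow_right hp.pos ?_
      have := (Finset.mem_filter.1 hξ).2
      omega
    have hk : 1 ≤ S.card := Finset.card_pos.2
      ⟨χ₀, Finset.mem_filter.2 ⟨B.toFinite.mem_toFinset.2 hχ₀, h0⟩⟩
    have hcard : Nat.card B = S.card + T.card := by
      rw [Nat.card_coe_set_eq, Set.ncard_eq_toFinset_card B B.toFinite, hS, hT,
        Finset.card_filter_add_card_filter_not]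
    have hdiv : 4 * ((p ^ d) ^ 2 / 4) ≤ (p ^ d) ^ 2 := Nat.mul_div_le _ _
    have hT2 : 4 * (p ^ 2 * T.card) ≤ (p ^ d) ^ 2 := by omega
    have hfin : (2 * Nat.card B) * (2 * p ^ 2) ≤ 2 * (p ^ d) ^ 2 := by
      rw [hcard]
      calc 2 * (S.card + T.card) * (2 * p ^ 2)
          = 4 * p ^ 2 * S.card + 4 * (p ^ 2 * T.card) := by ring
        _ ≤ (p ^ d) ^ 2 + (p ^ d) ^ 2 := Nat.add_le_add hk0 hT2
        _ = 2 * (p ^ d) ^ 2 := by ring
    refine Nat.le_of_mul_le_mul_right (hfin.trans_eq ?_) (Nat.mul_pos two_pos (pow_pos hp.pos 2))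
    rw [mul_left_comm, ← pow_add, ← pow_mul]
    congr 2
    omega
  · rcases Nat.eq_zero_or_pos (Cfsg.blockHeight p B (χ : G → ℂ)) with h0 | hpos
    · exact ⟨fun _ => h0, fun _ => h0 ▸ Nat.zero_le _⟩
    · have := (row_bound hM hB hχ hpos).1
      rw [hd] at this
      exact ⟨fun h1 => by omega, fun _ => by omega⟩

end Cfsg.Agent.S4710
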