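import Cfsg.Statements.S4716
import Cfsg.Agent.Lib.BlockB.SubsectionForm

set_option autoImplicit false
open Cfsg

namespace Cfsg.Agent.S4716

/-- Let p be a prime, M a maximal ideal of the algebraic integers containing p, and B a p-block of defect d of the finite group G all of whose irreducible characters have height zero. Let y be a p-element, C = C_G(y), and b a block of C inducing B and having the same defect d (a major subsection). Then k(B)^2 ≤ p^(2d)·l(b), where k(B) is the number of irreducible characters in B and l(b) the p-regular rank of b (its number of irreducible Brauer characters); in particular (y = 1) k(B)^2 ≤ p^(2d)·l(B). -/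
theorem result {G : Type*} [Group G] [Finite G] (p : ℕ) [Fact p.Prime] (M : Ideal Cfsg.AlgInt) (hM : Cfsg.IsPModular p M) (B : Set (Cfsg.IrrCharacter G)) (hB : Cfsg.IsPBlock M B) (d : ℕ) (hd : Cfsg.blockDefect p B = d) (hh : ∀ χ ∈ B, Cfsg.blockHeight p B (χ : G → ℂ) = 0) (y : G) (hy : ∃ k : ℕ, orderOf y = p ^ k) (b : Set (Cfsg.IrrCharacter ↥(Subgroup.centralizer ({y} : Set G)))) (hind : Cfsg.IsInducedBlock M (Subgroup.centralizer ({y} : Set G)) b B) (hbd : Cfsg.blockDefect p b = d) : Nat.card B ^ 2 ≤ p ^ (2 * d) * Cfsg.blockRank p b := by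
  classical
  have := CfsgLib.Block.isPrime_of_pmodular hM
  have := Fintype.ofFinite G
  have := Fintype.ofFinite (Cfsg.IrrCharacter G)
  have := Fintype.ofFinite ↥(Subgroup.centralizer ({y} : Set G))
  set n := Nat.card G with hn
  have hn0 : n ≠ 0 := Nat.card_pos.ne'
  have : NeZero n := ⟨hn0⟩
  let f : (ZMod n)ˣ × Cfsg.IrrCharacter G × Cfsg.IrrCharacter G → ℕ → ℂ := fun i j =>
    CfsgLib.BlockB.subEntry p b i.2.1 i.2.2 ((i.1 : ZMod n).val * j)
  let F : ℕ → ℂ := fun k => ∑ χ ∈ B.toFinite.toFinset, ∑ ξ ∈ B.toFinite.toFinset,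
    CfsgLib.BlockB.subEntry p b χ ξ k * CfsgLib.BlockB.subEntry p b ξ χ k
  have hcyc := fun χ ξ : Cfsg.IrrCharacter G =>
    CfsgLib.BlockB.subEntry_isCyclo hM hy (b := b) χ ξ
  have hF : CfsgLib.BlockB.IsCyclo n F :=
    CfsgLib.BlockB.IsCyclo.sum _ fun χ _ => CfsgLib.BlockB.IsCyclo.sum _ fun ξ _ =>
      (hcyc χ ξ).mul (hcyc ξ χ)
  set N := (p ^ Cfsg.blockDefect p b) ^ 2 * Cfsg.blockRank p b with hN
  have hF1 : F 1 = ((N : ℤ) : ℂ) := by
    rw [Int.cast_natCast]
    exact CfsgLib.BlockB.sum_subEntry_sq hM hy hind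
  set S := (Finset.univ : Finset (ZMod n)ˣ) ×ˢ (B.toFinite.toFinset ×ˢ B.toFinite.toFinset) with hS
  have hcop : ∀ u : (ZMod n)ˣ, Nat.Coprime (u : ZMod n).val n := fun u => ZMod.val_coe_unit_coprime u
  have hf1 : ∀ i, f i 1 = CfsgLib.BlockB.subEntry p b i.2.1 i.2.2 (i.1 : ZMod n).val := fun i => by
    simp only [f, mul_one]
  have hne : ∀ i ∈ S, f i 1 ≠ 0 := by
    intro i hi
    obtain ⟨-, hi2⟩ := Finset.mem_product.1 hi
    obtain ⟨hχ, hξ⟩ := Finset.mem_product.1 hi2
    rw [hf1]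
    intro h0
    refine CfsgLib.BlockB.subEntry_ne_zero hM hy hind (hbd.trans hd.symm)
      (B.toFinite.mem_toFinset.1 hχ) (B.toFinite.mem_toFinset.1 hξ)
      (hh _ (B.toFinite.mem_toFinset.1 hχ)) (hh _ (B.toFinite.mem_toFinset.1 hξ)) ?_
    -- a conjugate of zero is zero
    have hc := (hcyc i.2.1 i.2.2).comp_mul (i.1 : ZMod n).val
    have h1 : CfsgLib.BlockB.subEntry p b i.2.1 i.2.2
        (((i.1⁻¹ : (ZMod n)ˣ) : ZMod n).val * (i.1 : ZMod n).val) = ((0 : ℤ) : ℂ) :=
      hc.eq_int_of_coprime hn0 (m := 0) (by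
        show CfsgLib.BlockB.subEntry p b i.2.1 i.2.2 (1 * (i.1 : ZMod n).val) = _
        rw [one_mul, h0, Int.cast_zero]) (hcop i.1⁻¹)
    rw [← (hcyc i.2.1 i.2.2).apply_mod hn0, ← ZMod.val_mul, ← Units.val_mul, inv_mul_cancel,
      Units.val_one, Int.cast_zero] at h1
    rcases eq_or_ne n 1 with hn1 | hn1
    · have e : ∀ a b : ℕ, a % n = b % n := fun a b => by rw [hn1, Nat.mod_one, Nat.mod_one]
      rw [← (hcyc i.2.1 i.2.2).apply_mod hn0, e 1 (1 : ZMod n).val,
        (hcyc i.2.1 i.2.2).apply_mod hn0, h1]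
    · haveI : Fact (1 < n) := ⟨by omega⟩
      rwa [ZMod.val_one] at h1
  have hperm : ∀ k : ℕ, k.Coprime n → ∃ e : {i // i ∈ S} ≃ {i // i ∈ S},
      ∀ i : {i // i ∈ S}, f (e i).1 1 = f i.1 k := by
    intro k hk
    refine ⟨Equiv.subtypeEquiv ((Equiv.mulRight (ZMod.unitOfCoprime k hk)).prodCongr (Equiv.refl _))
      (fun i => by simp [S]), fun i => ?_⟩
    simp only [f, mul_one, Equiv.subtypeEquiv_apply, Equiv.prodCongr_apply, Prod.map_fst,
      Prod.map_snd, Equiv.coe_mulRight, Equiv.refl_apply, Units.val_mul, ZMod.coe_unitOfCoprime]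
    rw [← (hcyc _ _).apply_mod hn0 ((i.1.1 : ZMod n).val * k), ZMod.val_mul, ZMod.val_natCast,
      Nat.mul_mod_mod]
  have hle := CfsgLib.BlockB.card_le_sum_norm_pow S f hn0
    (fun i _ => (hcyc i.2.1 i.2.2).comp_mul (i.1 : ZMod n).val |> fun h => by
      simpa only [f, mul_comm] using h) hperm hne 2
  have hrow : ∀ u : (ZMod n)ˣ, ∑ q ∈ B.toFinite.toFinset ×ˢ B.toFinite.toFinset,
      ‖f (u, q) 1‖ ^ 2 = (N : ℝ) := by
    intro u
    have h2 : F (u : ZMod n).val = ((N : ℤ) : ℂ) := hF.eq_int_of_coprime hn0 hF1 (hcop u)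
    have h3 : ((∑ q ∈ B.toFinite.toFinset ×ˢ B.toFinite.toFinset, ‖f (u, q) 1‖ ^ 2 : ℝ) : ℂ) =
        F (u : ZMod n).val := by
      rw [Complex.ofReal_sum, Finset.sum_product]
      refine Finset.sum_congr rfl fun χ _ => Finset.sum_congr rfl fun ξ _ => ?_
      rw [hf1, Complex.ofReal_pow, ← Complex.mul_conj', CfsgLib.BlockB.subEntry_conj hM hy]
    rw [h2, Int.cast_natCast] at h3
    exact_mod_cast h3
  have hk : Nat.card B = B.toFinite.toFinset.card := by
    rw [Nat.card_coe_set_eq, Set.ncard_eq_toFinset_card B B.toFinite]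
  rw [Finset.sum_product, Finset.sum_congr rfl (fun u _ => hrow u), Finset.sum_const, nsmul_eq_mul,
    Finset.card_product, Finset.card_product, ← hk] at hle
  have hu : 0 < (Finset.univ : Finset (ZMod n)ˣ).card := Finset.univ_nonempty.card_pos
  have h4 : (Finset.univ : Finset (ZMod n)ˣ).card * (Nat.card B * Nat.card B) ≤
      (Finset.univ : Finset (ZMod n)ˣ).card * N := by exact_mod_cast hle
  have h5 := Nat.le_of_mul_le_mul_left h4 hu
  rw [← pow_two, hN, hbd, ← pow_mul, mul_comm d 2] at h5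
  exact h5

end Cfsg.Agent.S4716
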