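import Cfsg.Statements.S3669
import Mathlib
import Cfsg.Agent.Lib.Geom.SimpleSixty
import Cfsg.Agent.Lib.Char.FS
import Cfsg.Agent.Lib.Char.CliffordApps
import Cfsg.Agent.Lib.BlockB.ClassMul

set_option autoImplicit false
open Cfsg

namespace Cfsg.Agent.S3669

variable {G : Type*} [Group G] [Finite G]

theorem five_not_mem_degreePrimes (hG : Nat.card G = 60) [Fact (Nat.Prime 5)] (P : Sylow 5 G)
    (hP : (P : Subgroup G).Normal) : (5 : ℕ) ∉ Cfsg.degreePrimes G := by
  classical
  rintro ⟨-, d, ⟨⟨χ, hχ⟩, rfl⟩, hd⟩
  obtain ⟨n, ρ, hρ, hρχ⟩ := hχ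
  haveI := hρ
  haveI := hP
  have hcard : Nat.card (P : Subgroup G) = 5 := by
    rw [P.card_eq_multiplicity, hG]
    norm_num [Nat.factorization_def, show padicValNat 5 60 = 1 by
      rw [show (60:ℕ) = 5 * 12 by norm_num, padicValNat.mul (by norm_num) (by norm_num), padicValNat_self,
        padicValNat.eq_zero_of_not_dvd (by norm_num)]]
  have hc : ∀ a ∈ (P : Subgroup G), ∀ b ∈ (P : Subgroup G), a * b = b * a := by
    haveI := isCyclic_of_prime_card hcard
    intro a ha b hb
    letI := IsCyclic.commGroup (α := (P : Subgroup G))
    exact congrArg Subtype.val (mul_comm (⟨a, ha⟩ : (P : Subgroup G)) ⟨b, hb⟩)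
  have hdvd := CfsgLib.Char.ito_degree_dvd_index ρ (P : Subgroup G) hc
  rw [Module.finrank_fin_fun] at hdvd
  have hidx : (P : Subgroup G).index = 12 := by
    have := Subgroup.index_mul_card (P : Subgroup G)
    rw [hcard, hG] at this
    omega
  have hn : Cfsg.charDegree χ = n := by
    rw [Cfsg.charDegree, ← hρχ, Representation.char_one]
    simp
  change (5 : ℕ) ∣ Cfsg.charDegree χ at hd
  rw [hn] at hd
  rw [hidx] at hdvd
  exact absurd (hd.trans hdvd) (by norm_num)

theorem fifteen (hG : Nat.card G = 60) [Fact (Nat.Prime 5)] (P : Sylow 5 G) (h6 : Nat.card (Sylow 5 G) = 6)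
    (hP5 : Nat.card (P : Subgroup G) = 5) (T : Subgroup G) (hT : Nat.card T = 3)
    (hPT : (P : Subgroup G) ≤ Subgroup.normalizer (T : Set G)) : False := by
  have hN : Nat.card (Subgroup.normalizer ((P : Subgroup G) : Set G)) = 10 := by
    have h1 : (Subgroup.normalizer ((P : Subgroup G) : Set G)).index = 6 := (Sylow.card_eq_index_normalizer P).symm.trans h6
    have := Subgroup.index_mul_card (Subgroup.normalizer ((P : Subgroup G) : Set G))
    rw [h1, hG] at this
    omega
  -- P centralises T
  have hcomm : ∀ x ∈ (P : Subgroup G), ∀ t ∈ T, x * t = t * x := by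
    intro x hx t ht
    let φ : (P : Subgroup G) →* MulAut T := T.normalizerMonoidHom.comp (Subgroup.inclusion hPT)
    have hA : Nat.card (MulAut T) = 2 := by
      haveI := isCyclic_of_prime_card (p := 3) (hp := ⟨by norm_num⟩) hT
      rw [IsCyclic.card_mulAut, hT]; rfl
    have h1 : φ ⟨x, hx⟩ = 1 := by
      rw [← orderOf_eq_one_iff]
      refine Nat.eq_one_of_dvd_coprimes (show Nat.Coprime 5 2 by norm_num) ?_ ((orderOf_dvd_natCard _).trans (dvd_of_eq hA))
      exact ((orderOf_map_dvd φ _).trans (orderOf_dvd_natCard _)).trans (dvd_of_eq hP5)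
    have := congrArg (fun a : MulAut T => ((a ⟨t, ht⟩ : T) : G)) h1
    simp only [MulAut.one_apply] at this
    have h2 : x * t * x⁻¹ = t := this
    rw [mul_inv_eq_iff_eq_mul] at h2
    exact h2
  have hle : T ≤ Subgroup.normalizer ((P : Subgroup G) : Set G) := by
    intro t ht
    refine Subgroup.mem_normalizer_fintype fun x hx => ?_
    rw [← hcomm x hx t ht, mul_inv_cancel_right]
    exact hx
  have := Subgroup.card_dvd_of_le hle
  rw [hN, hT] at this
  norm_num at this

theorem sylow_five_count (hG : Nat.card G = 60) [Fact (Nat.Prime 5)] (P : Sylow 5 G) (hP : ¬ (P : Subgroup G).Normal) :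
    Nat.card (Sylow 5 G) = 6 ∧ Nat.card (P : Subgroup G) = 5 := by
  have hP5 : Nat.card (P : Subgroup G) = 5 := by
    rw [P.card_eq_multiplicity, hG]
    norm_num [Nat.factorization_def, show padicValNat 5 60 = 1 by
      rw [show (60:ℕ) = 5 * 12 by norm_num, padicValNat.mul (by norm_num) (by norm_num), padicValNat_self,
        padicValNat.eq_zero_of_not_dvd (by norm_num)]]
  refine ⟨?_, hP5⟩
  have h1 := card_sylow_modEq_one 5 G
  have h2 : Nat.card (Sylow 5 G) ∣ 12 := by
    have := P.card_dvd_index
    have h3 := Subgroup.index_mul_card (P : Subgroup G)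
    rw [hP5, hG] at h3
    rwa [show (P : Subgroup G).index = 12 by omega] at this
  have h3 : Nat.card (Sylow 5 G) ≠ 1 := by
    intro h
    apply hP
    haveI := (Nat.card_eq_one_iff_unique.mp h).1
    exact Sylow.normal_of_subsingleton P
  have h4 : Nat.card (Sylow 5 G) ≤ 12 := Nat.le_of_dvd (by norm_num) h2
  unfold Nat.ModEq at h1
  interval_cases h : Nat.card (Sylow 5 G) <;> omega

theorem conj_two_transitive (hG : Nat.card G = 60) [Fact (Nat.Prime 5)] (P : Sylow 5 G) (hP : ¬ (P : Subgroup G).Normal) :
    MulAction.IsMultiplyPretransitive G (Sylow 5 G) 2 := by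
  classical
  obtain ⟨h6, hP5⟩ := sylow_five_count hG P hP
  rw [MulAction.is_two_pretransitive_iff]
  -- P is transitive on the others
  have key : ∀ Q R : Sylow 5 G, Q ≠ P → R ≠ P → ∃ x ∈ (P : Subgroup G), x • Q = R := by
    intro Q R hQ hR
    have hor : Nat.card (MulAction.orbit (P : Subgroup G) Q) = 5 := by
      have hd : Nat.card (MulAction.orbit (P : Subgroup G) Q) ∣ 5 := by
        refine dvd_trans ?_ (dvd_of_eq hP5)
        rw [← (Nat.card_congr (MulAction.orbitProdStabilizerEquivGroup (P : Subgroup G) Q)), Nat.card_prod]
        exact dvd_mul_right _ _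
      rcases (Nat.dvd_prime (by norm_num)).mp hd with h | h
      · exfalso
        apply hQ
        haveI := (Nat.card_eq_one_iff_unique.mp h).1
        have hle : (P : Subgroup G) ≤ Subgroup.normalizer ((Q : Subgroup G) : Set G) := by
          intro x hx
          have : (⟨x, hx⟩ : (P : Subgroup G)) • Q = Q :=
            congrArg Subtype.val (Subsingleton.elim (⟨_, MulAction.mem_orbit Q _⟩ : MulAction.orbit (P : Subgroup G) Q) ⟨Q, MulAction.mem_orbit_self Q⟩)
          exact Sylow.smul_eq_iff_mem_normalizer.mp this
        have h1 := P.2.inf_normalizer_sylow Q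
        have h1 : (P : Subgroup G) ≤ (Q : Subgroup G) := inf_eq_left.mp (h1.symm.trans (inf_eq_left.mpr hle))
        exact Sylow.ext (P.3 Q.2 h1)
      · exact h
    have huniv : MulAction.orbit (P : Subgroup G) Q = {P}ᶜ := by
      refine Set.eq_of_subset_of_ncard_le ?_ ?_ (Set.toFinite _)
      · rintro _ ⟨x, rfl⟩ hmem
        apply hQ
        have h : (x : G) • Q = P := hmem
        rw [eq_inv_smul_iff.mpr h, Sylow.smul_eq_iff_mem_normalizer]
        exact inv_mem (Subgroup.le_normalizer x.2)
      · rw [Set.ncard_compl, Set.ncard_singleton, h6, ← Nat.card_coe_set_eq, hor]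
    have : R ∈ MulAction.orbit (P : Subgroup G) Q := by rw [huniv]; exact hR
    obtain ⟨x, hx⟩ := this
    exact ⟨x, x.2, hx⟩
  intro a b c d hab hcd
  obtain ⟨g, hg⟩ := MulAction.exists_smul_eq G a P
  obtain ⟨h, hh⟩ := MulAction.exists_smul_eq G c P
  obtain ⟨x, hx, hxe⟩ := key (g • b) (h • d) (fun e => hab (smul_left_cancel g (hg.trans e.symm))) (fun e => hcd (smul_left_cancel h (hh.trans e.symm)))
  refine ⟨h⁻¹ * (x * g), ?_, ?_⟩
  · rw [mul_smul, mul_smul, hg, Sylow.smul_eq_iff_mem_normalizer.mpr (Subgroup.le_normalizer hx), inv_smul_eq_iff, hh]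
  · rw [mul_smul, mul_smul, hxe, inv_smul_smul]

theorem five_mem_degreePrimes (hG : Nat.card G = 60) [Fact (Nat.Prime 5)] (P : Sylow 5 G)
    (hP : ¬ (P : Subgroup G).Normal) : (5 : ℕ) ∈ Cfsg.degreePrimes G := by
  obtain ⟨h6, -⟩ := sylow_five_count hG P hP
  have hirr := (CfsgLib.Char.isIrr_perm_iff (Sylow 5 G) (by omega)).mpr (conj_two_transitive hG P hP)
  refine ⟨by norm_num, _, ⟨⟨_, hirr⟩, rfl⟩, ?_⟩
  have : Nat.card (MulAction.fixedBy (Sylow 5 G) (1 : G)) = 6 := by
    rw [show MulAction.fixedBy (Sylow 5 G) (1 : G) = Set.univ by ext x; simp, Nat.card_congr (Equiv.Set.univ _), h6]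
  change 5 ∣ ⌊(((Nat.card (MulAction.fixedBy (Sylow 5 G) (1 : G)) : ℂ) - 1)).re⌋₊
  rw [this]
  norm_num

theorem no_normal (hG : Nat.card G = 60) [Fact (Nat.Prime 5)] (P : Sylow 5 G) (hP : ¬ (P : Subgroup G).Normal)
    (N : Subgroup G) [hN : N.Normal] (h3 : 3 ∣ Nat.card N) (hlt : Nat.card N < 60) (h5 : ¬ 5 ∣ Nat.card N) : False := by
  classical
  haveI : Fact (Nat.Prime 3) := ⟨by norm_num⟩
  obtain ⟨h6, hP5⟩ := sylow_five_count hG P hP
  obtain ⟨T⟩ : Nonempty (Sylow 3 N) := inferInstance
  have hd : Nat.card N ∣ 12 := by
    have h := Subgroup.card_subgroup_dvd_card N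
    rw [hG, show (60:ℕ) = 5 * 12 by norm_num] at h
    exact (Nat.Coprime.dvd_of_dvd_mul_left ((Nat.Prime.coprime_iff_not_dvd (by norm_num)).mpr h5).symm h)
  have hT3 : Nat.card (T : Subgroup N) = 3 := by
    obtain ⟨e, he⟩ := T.2.exists_card_eq
    have h1 : (T : Subgroup N) ≠ ⊥ := Sylow.ne_bot_of_dvd_card T h3
    have h2 := (he ▸ Subgroup.card_subgroup_dvd_card (T : Subgroup N)).trans hd
    have h4 : e ≤ 1 := by
      by_contra hc
      have := (pow_dvd_pow 3 (show 2 ≤ e by omega)).trans h2
      norm_num at this
    interval_cases e
    · exact absurd (Subgroup.eq_bot_of_card_eq _ he) h1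
    · simpa using he
  have hcount : Nat.card (Sylow 3 N) ≤ 4 := by
    have h1 := T.card_dvd_index
    have h2 := Subgroup.index_mul_card (T : Subgroup N)
    rw [hT3] at h2
    have := Nat.le_of_dvd (by have := Nat.pos_of_ne_zero (Subgroup.index_ne_zero_of_finite (H := (T : Subgroup N))); omega) h1
    have := Nat.le_of_dvd (by norm_num) hd
    omega
  -- some conjugate of T is normalised by P
  set T' := (T : Subgroup N).map N.subtype
  have hsup : Subgroup.normalizer (T' : Set G) ⊔ N = ⊤ := Sylow.normalizer_sup_eq_top T
  have hT' : Nat.card T' = 3 := by rw [Subgroup.card_map_of_injective N.subtype_injective, hT3]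
  have h5d : 5 ∣ Nat.card (Subgroup.normalizer (T' : Set G)) := by
    have h1 := Subgroup.card_dvd_of_surjective ((QuotientGroup.mk' N).comp (Subgroup.normalizer (T' : Set G)).subtype) (by
      intro q
      obtain ⟨x, rfl⟩ := QuotientGroup.mk'_surjective N q
      have hx : x ∈ Subgroup.normalizer (T' : Set G) ⊔ N := hsup ▸ Subgroup.mem_top x
      obtain ⟨l, hl, m, hm, rfl⟩ := Subgroup.mem_sup_of_normal_right.mp hx
      exact ⟨⟨l, hl⟩, by rw [map_mul, show QuotientGroup.mk' N m = 1 from (QuotientGroup.eq_one_iff m).mpr hm, mul_one]; rfl⟩)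
    have h2 := Subgroup.card_eq_card_quotient_mul_card_subgroup N
    rw [hG] at h2
    have h3' : 5 ∣ Nat.card (G ⧸ N) := ((Nat.Prime.dvd_mul (by norm_num)).mp (h2 ▸ (by norm_num : 5 ∣ 60))).resolve_right h5
    exact h3'.trans h1
  obtain ⟨Q⟩ : Nonempty (Sylow 5 (Subgroup.normalizer (T' : Set G))) := inferInstance
  obtain ⟨Q', hQ'⟩ := (Q.2.map (Subgroup.normalizer (T' : Set G)).subtype).exists_le_sylow
  have hne : (Q : Subgroup _).map (Subgroup.normalizer (T' : Set G)).subtype ≠ ⊥ := by
    intro h
    exact Sylow.ne_bot_of_dvd_card Q h5d ((Subgroup.map_eq_bot_iff_of_injective _ (Subgroup.subtype_injective _)).mp h)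
  have hQnot : ¬ (Q' : Subgroup G).Normal := fun h => hP (by
    haveI := Sylow.unique_of_normal Q' h
    rw [Subsingleton.elim P Q']; exact h)
  obtain ⟨-, hQ5⟩ := sylow_five_count hG Q' hQnot
  haveI : Fact (Nat.card (Q' : Subgroup G)).Prime := ⟨by rw [hQ5]; decide +kernel⟩
  have heq : (Q : Subgroup _).map (Subgroup.normalizer (T' : Set G)).subtype = (Q' : Subgroup G) := by
    rcases ((((Q : Subgroup _).map (Subgroup.normalizer (T' : Set G)).subtype)).subgroupOf (Q' : Subgroup G)).eq_bot_or_eq_top_of_prime_card with h | h
    · rw [Subgroup.subgroupOf_eq_bot, disjoint_iff, inf_eq_left.mpr hQ'] at h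
      exact absurd h hne
    · exact le_antisymm hQ' (Subgroup.subgroupOf_eq_top.mp h)
  exact fifteen hG Q' h6 hQ5 T' hT' (heq ▸ Subgroup.map_subtype_le _)

theorem simple_of_sylow_five (hG : Nat.card G = 60) [Fact (Nat.Prime 5)] (P : Sylow 5 G)
    (hP : ¬ (P : Subgroup G).Normal) : IsSimpleGroup G := by
  classical
  haveI : Fact (Nat.Prime 3) := ⟨by norm_num⟩
  haveI : Nontrivial G := Finite.one_lt_card_iff_nontrivial.mp (by omega)
  obtain ⟨h6, hP5⟩ := sylow_five_count hG P hP
  have hN5 : Nat.card (Subgroup.normalizer ((P : Subgroup G) : Set G)) = 10 := by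
    have h1 : (Subgroup.normalizer ((P : Subgroup G) : Set G)).index = 6 := (Sylow.card_eq_index_normalizer P).symm.trans h6
    have := Subgroup.index_mul_card (Subgroup.normalizer ((P : Subgroup G) : Set G))
    rw [h1, hG] at this
    omega
  refine ⟨fun N hN => ?_⟩
  by_contra hcon
  push Not at hcon
  obtain ⟨hb, ht⟩ := hcon
  haveI := hN
  have hd : Nat.card N ∣ 60 := hG ▸ Subgroup.card_subgroup_dvd_card N
  have hlt : Nat.card N < 60 := lt_of_le_of_ne (Nat.le_of_dvd (by norm_num) hd) fun e => ht (Subgroup.eq_top_of_card_eq N (by omega))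
  have h1 : 1 < Nat.card N := (Subgroup.one_lt_card_iff_ne_bot _).mpr hb
  by_cases h5 : 5 ∣ Nat.card N
  · -- all Sylow 5-subgroups lie in N
    have hall : ∀ Q : Sylow 5 G, (Q : Subgroup G) ≤ N := by
      obtain ⟨Q₀⟩ : Nonempty (Sylow 5 N) := inferInstance
      obtain ⟨Q₁, hQ₁⟩ := (Q₀.2.map N.subtype).exists_le_sylow
      have hne := Sylow.ne_bot_of_dvd_card Q₀ h5
      have hQn : ¬ (Q₁ : Subgroup G).Normal := fun h => hP (by
        haveI := Sylow.unique_of_normal Q₁ h
        rw [Subsingleton.elim P Q₁]; exact h)
      obtain ⟨-, hQ5⟩ := sylow_five_count hG Q₁ hQn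
      have hle : (Q₁ : Subgroup G) ≤ N := by
        have h2 : Nat.card ((Q₀ : Subgroup N).map N.subtype) = 5 := by
          have hd2 : Nat.card ((Q₀ : Subgroup N).map N.subtype) ∣ 5 := (Subgroup.card_dvd_of_le hQ₁).trans (dvd_of_eq hQ5)
          refine ((Nat.dvd_prime (by norm_num)).mp hd2).resolve_left fun h => hne ?_
          rw [← Subgroup.map_eq_bot_iff_of_injective _ N.subtype_injective]
          exact Subgroup.eq_bot_of_card_eq _ h
        rw [← Subgroup.eq_of_le_of_card_ge hQ₁ (by omega)]
        exact Subgroup.map_subtype_le _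
      intro Q
      obtain ⟨g, rfl⟩ := MulAction.exists_smul_eq G Q₁ Q
      rw [Sylow.coe_subgroup_smul]
      rintro _ ⟨x, hx, rfl⟩
      exact hN.conj_mem x (hle hx) g
    let P' : Sylow 5 N := P.subtype (hall P)
    have hcardS : Nat.card (Sylow 5 N) = 6 := by
      have hdd : Nat.card N ∣ 60 := hd
      refine le_antisymm ?_ ?_
      · rw [← h6]
        refine Nat.card_le_card_of_injective (fun Q : Sylow 5 N => Classical.choose (Q.2.map N.subtype).exists_le_sylow) ?_
        intro A B hAB
        have hA := Classical.choose_spec (A.2.map N.subtype).exists_le_sylow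
        have hB := Classical.choose_spec (B.2.map N.subtype).exists_le_sylow
        beta_reduce at hAB
        rw [← hAB] at hB
        set R := Classical.choose (A.2.map N.subtype).exists_le_sylow
        have : ∀ S : Sylow 5 N, (S : Subgroup N).map N.subtype ≤ R → S = R.subtype (hall R) := fun S hS =>
          (Sylow.ext (S.3 (R.subtype (hall R)).2 (fun x hx => hS ⟨x, hx, rfl⟩))).symm
        rw [this A hA, this B hB]
      · rw [← h6]
        exact Nat.card_le_card_of_injective (fun Q : Sylow 5 G => Q.subtype (hall Q)) fun A B h => by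
          apply Sylow.ext
          have h' := congrArg (fun S : Sylow 5 N => (S : Subgroup N).map N.subtype) h
          simpa [Subgroup.subgroupOf_map_subtype, inf_eq_left.mpr (hall A), inf_eq_left.mpr (hall B)] using h'
    have hdiv := P'.card_dvd_index
    rw [hcardS] at hdiv
    have hP' : Nat.card (P' : Subgroup N) = 5 := (Nat.card_congr (Subgroup.subgroupOfEquivOfLe (hall P)).toEquiv).trans hP5
    have h2 := Subgroup.index_mul_card (P' : Subgroup N)
    rw [hP'] at h2
    have hN30 : Nat.card N = 30 := by
      obtain ⟨c, hc⟩ := hdiv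
      have : c = 1 := by
        rcases Nat.lt_or_ge c 2 with h | h
        · interval_cases c <;> omega
        · omega
      omega
    -- order 30: the odd part of order 15 is normal
    haveI hZ : IsZGroup N := IsZGroup.of_squarefree (by rw [hN30]; decide +kernel)
    have hco := IsZGroup.coprime_commutator_index (G := N)
    haveI : IsCyclic (commutator N) := IsZGroup.isCyclic_commutator N
    set D := commutator N
    have hD := Subgroup.card_subgroup_dvd_card D
    rw [hN30] at hD
    haveI : Group.IsSolvable N := inferInstance
    by_cases hD3 : 3 ∣ Nat.card D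
    · -- a characteristic subgroup of order 3
      obtain ⟨T⟩ : Nonempty (Sylow 3 D) := inferInstance
      letI := IsCyclic.commGroup (α := D)
      haveI : (T : Subgroup D).Normal := inferInstance
      haveI : (T : Subgroup D).Characteristic := T.characteristic_of_normal inferInstance
      haveI : ((T : Subgroup D).map D.subtype).Normal := inferInstance
      have hT3 : Nat.card ((T : Subgroup D).map D.subtype) = 3 := by
        rw [Subgroup.card_map_of_injective D.subtype_injective]
        obtain ⟨e, he⟩ := T.2.exists_card_eq
        have h3 := (he ▸ Subgroup.card_subgroup_dvd_card (T : Subgroup D)).trans hD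
        have h4 : e ≤ 1 := by
          by_contra hc
          have := (pow_dvd_pow 3 (show 2 ≤ e by omega)).trans h3
          norm_num at this
        interval_cases e
        · exact absurd (Subgroup.eq_bot_of_card_eq _ he) (Sylow.ne_bot_of_dvd_card T hD3)
        · simpa using he
      set T₂ := ((T : Subgroup D).map D.subtype).map N.subtype
      refine fifteen hG P h6 hP5 T₂ ((Subgroup.card_map_of_injective N.subtype_injective).trans hT3) ?_
      intro x hx
      have hxn : (⟨x, hall P hx⟩ : N) ∈ Subgroup.normalizer (((T : Subgroup D).map D.subtype) : Set N) := by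
        rw [Subgroup.normalizer_eq_top_iff.mpr inferInstance]; exact Subgroup.mem_top _
      exact Subgroup.le_normalizer_map N.subtype ⟨_, hxn, rfl⟩
    · -- then the Sylow 5-subgroup is normal in N
      have hPD : Nat.card (Sylow 5 N) = 1 := by
        by_cases h5D : 5 ∣ Nat.card D
        · -- Sylow 5 of D is characteristic in D, hence normal in N
          obtain ⟨S⟩ : Nonempty (Sylow 5 D) := inferInstance
          letI := IsCyclic.commGroup (α := D)
          haveI : (S : Subgroup D).Normal := inferInstance
          haveI : (S : Subgroup D).Characteristic := S.characteristic_of_normal inferInstance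
          haveI : ((S : Subgroup D).map D.subtype).Normal := inferInstance
          obtain ⟨S', hS'⟩ := (S.2.map D.subtype).exists_le_sylow
          have hc1 : Nat.card (S' : Subgroup N) = 5 := by
            rw [S'.card_eq_multiplicity, ← P'.card_eq_multiplicity, hP']
          have hc2 : Nat.card ((S : Subgroup D).map D.subtype) = 5 := by
            have := hc1 ▸ Subgroup.card_dvd_of_le hS'
            refine ((Nat.dvd_prime (by norm_num)).mp this).resolve_left fun h => Sylow.ne_bot_of_dvd_card S h5D ?_
            rw [← Subgroup.map_eq_bot_iff_of_injective _ D.subtype_injective]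
            exact Subgroup.eq_bot_of_card_eq _ h
          have hn : (S' : Subgroup N).Normal := by
            rw [← Subgroup.eq_of_le_of_card_ge hS' (by omega)]; infer_instance
          haveI := Sylow.unique_of_normal S' hn
          exact Nat.card_unique
        · -- D has order at most 2, so it is trivial and N is abelian
          have hD1 : Nat.card D ∣ 2 := by
            have a1 : (Nat.card D).Coprime 15 := by
              rw [show (15 : ℕ) = 3 * 5 by norm_num]
              exact Nat.Coprime.mul_right ((Nat.Prime.coprime_iff_not_dvd (by norm_num)).mpr hD3).symm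
                ((Nat.Prime.coprime_iff_not_dvd (by norm_num)).mpr h5D).symm
            exact Nat.Coprime.dvd_of_dvd_mul_left a1 (by simpa using hD)
          have hSn : (P' : Subgroup N).Normal := by
            refine ⟨fun y hy g => ?_⟩
            have hc : g * y * g⁻¹ * y⁻¹ ∈ D := Subgroup.commutator_mem_commutator (Subgroup.mem_top g) (Subgroup.mem_top y)
            rcases (Nat.dvd_prime Nat.prime_two).mp hD1 with h | h
            · rw [Subgroup.eq_bot_of_card_eq D h, Subgroup.mem_bot, mul_inv_eq_one] at hc
              rw [hc]; exact hy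
            · -- a normal subgroup of order 2 is central, so N/D abelian and P' D is normal
              exfalso
              have hI := Subgroup.index_mul_card D
              rw [h, hN30] at hI
              haveI : Nontrivial N := Finite.one_lt_card_iff_nontrivial.mp (by omega)
              haveI : IsCyclic (Abelianization N) := inferInstance
              have hZc : D ≤ Subgroup.center N := by
                intro z hz
                rw [Subgroup.mem_center_iff]
                intro w
                have hw : w * z * w⁻¹ ∈ D := (inferInstance : D.Normal).conj_mem z hz w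
                haveI : Fintype D := Fintype.ofFinite D
                by_cases hz1 : z = 1
                · simp [hz1]
                · have : ∀ u ∈ D, u = 1 ∨ u = z := by
                    intro u hu
                    by_contra hc2
                    push Not at hc2
                    have h3 : 3 ≤ Nat.card D := by
                      let f : Fin 3 → D := ![1, ⟨z, hz⟩, ⟨u, hu⟩]
                      have hf : Function.Injective f := by
                        intro i j hij
                        have hij' := congrArg Subtype.val hij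
                        fin_cases i <;> fin_cases j <;> simp [f] at hij' ⊢
                        all_goals first
                          | exact absurd hij' hz1
                          | exact absurd hij'.symm hz1
                          | exact absurd hij' hc2.1
                          | exact absurd hij'.symm hc2.1
                          | exact absurd hij' hc2.2
                          | exact absurd hij'.symm hc2.2
                      simpa using Nat.card_le_card_of_injective f hf
                    omega
                  rcases this _ hw with h' | h'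
                  · exfalso; apply hz1
                    rw [mul_inv_eq_one, mul_eq_left] at h'
                    exact h'
                  · exact mul_inv_eq_iff_eq_mul.mp h'
              haveI : IsCyclic (N ⧸ D) := (inferInstance : IsCyclic (Abelianization N))
              have hcomm : IsMulCommutative N := ⟨⟨commutative_of_cyclic_center_quotient (QuotientGroup.mk' D) (by rw [QuotientGroup.ker_mk']; exact hZc)⟩⟩
              have hbot : D = ⊥ := by
                rw [eq_bot_iff, show D = ⁅(⊤ : Subgroup N), (⊤ : Subgroup N)⁆ from rfl, Subgroup.commutator_le]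
                intro a _ b _
                rw [Subgroup.mem_bot, commutatorElement_eq_one_iff_mul_comm]
                exact hcomm.is_comm.comm a b
              rw [hbot, Subgroup.card_bot] at h
              omega
          haveI := Sylow.unique_of_normal P' hSn
          exact Nat.card_unique
      omega
  · by_cases h3 : 3 ∣ Nat.card N
    · exact no_normal hG P hP N h3 hlt h5
    · -- N is a 2-group of order 2 or 4; use N·N_G(P)
      have h4 : Nat.card N ∣ 4 := by
        have a1 : (Nat.card N).Coprime 15 := by
          rw [show (15 : ℕ) = 3 * 5 by norm_num]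
          exact Nat.Coprime.mul_right ((Nat.Prime.coprime_iff_not_dvd (by norm_num)).mpr h3).symm
            ((Nat.Prime.coprime_iff_not_dvd (by norm_num)).mpr h5).symm
        exact Nat.Coprime.dvd_of_dvd_mul_left a1 (by simpa using hd)
      have hN4 : Nat.card N ≤ 4 := Nat.le_of_dvd (by norm_num) h4
      -- P fixes every element of N
      have hcent : ∀ x ∈ (P : Subgroup G), ∀ z ∈ N, x * z = z * x := by
        intro x hx z hz
        let f : (P : Subgroup G) →* MulAut N := (MulAut.conjNormal : G →* MulAut N).comp (P : Subgroup G).subtype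
        let φ : (P : Subgroup G) →* Equiv.Perm N :=
          { toFun := fun a => (f a).toEquiv, map_one' := by ext; simp, map_mul' := fun a b => by ext; simp }
        have h1 : φ ⟨x, hx⟩ = 1 := by
          rw [← orderOf_eq_one_iff]
          have hperm : Nat.card (Equiv.Perm N) ∣ 24 := by
            rw [Nat.card_perm, show (24 : ℕ) = Nat.factorial 4 by rfl]
            exact Nat.factorial_dvd_factorial hN4
          exact Nat.eq_one_of_dvd_coprimes (show Nat.Coprime 5 24 by norm_num)
            (((orderOf_map_dvd φ _).trans (orderOf_dvd_natCard _)).trans (dvd_of_eq hP5)) ((orderOf_dvd_natCard _).trans hperm)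
        have h2 := congrArg (fun e : Equiv.Perm N => ((e ⟨z, hz⟩ : N) : G)) h1
        have h3 : x * z * x⁻¹ = z := h2
        rw [mul_inv_eq_iff_eq_mul] at h3
        exact h3
      have hle : N ≤ Subgroup.normalizer ((P : Subgroup G) : Set G) := by
        intro z hz
        refine Subgroup.mem_normalizer_fintype fun x hx => ?_
        rw [← hcent x hx z hz, mul_inv_cancel_right]
        exact hx
      -- so N fixes every Sylow 5-subgroup, and N is central
      have h2 := Subgroup.card_dvd_of_le hle
      rw [hN5] at h2
      have hN2 : Nat.card N = 2 := by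
        have := Nat.dvd_gcd h4 h2
        norm_num at this
        rcases (Nat.dvd_prime Nat.prime_two).mp this with h | h <;> omega
      -- P is then central in its normaliser, so Burnside gives a normal complement of order 12
      have hcard' : Nat.card ((P : Subgroup G) ⊔ N : Subgroup G) = 10 := by
        have hle' : ((P : Subgroup G) ⊔ N) ≤ Subgroup.normalizer ((P : Subgroup G) : Set G) := sup_le Subgroup.le_normalizer hle
        have a1 : 5 ∣ Nat.card ((P : Subgroup G) ⊔ N : Subgroup G) := (dvd_of_eq hP5.symm).trans (Subgroup.card_dvd_of_le le_sup_left)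
        have a2 : 2 ∣ Nat.card ((P : Subgroup G) ⊔ N : Subgroup G) := hN2 ▸ Subgroup.card_dvd_of_le le_sup_right
        have a3 := hN5 ▸ Subgroup.card_dvd_of_le hle'
        exact Nat.dvd_antisymm a3 (Nat.Coprime.mul_dvd_of_dvd_of_dvd (show Nat.Coprime 5 2 by norm_num) a1 a2)
      have hnorm : Subgroup.normalizer ((P : Subgroup G) : Set G) ≤ Subgroup.centralizer ((P : Subgroup G) : Set G) := by
        have heq : ((P : Subgroup G) ⊔ N) = Subgroup.normalizer ((P : Subgroup G) : Set G) :=
          Subgroup.eq_of_le_of_card_ge (sup_le Subgroup.le_normalizer hle) (by omega)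
        rw [← heq]
        refine sup_le ?_ ?_
        · haveI := isCyclic_of_prime_card hP5
          intro a ha
          rw [Subgroup.mem_centralizer_iff]
          intro b hb
          letI := IsCyclic.commGroup (α := (P : Subgroup G))
          exact congrArg Subtype.val (mul_comm (⟨b, hb⟩ : (P : Subgroup G)) ⟨a, ha⟩)
        · intro z hz
          rw [Subgroup.mem_centralizer_iff]
          exact fun b hb => hcent b hb z hz
      have hc := MonoidHom.ker_transferSylow_isComplement' P hnorm
      set M := (MonoidHom.transferSylow P hnorm).ker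
      have hM : Nat.card M = 12 := by
        have := hc.card_mul
        rw [hP5, hG] at this
        omega
      haveI : M.Normal := MonoidHom.normal_ker _
      exact no_normal hG P hP M (by rw [hM]; norm_num) (by omega) (by rw [hM]; norm_num)

/-- The character degree graph of a finite group has as vertices the primes dividing some irreducible complex character degree, two distinct primes being joined when their product divides some irreducible character degree; two groups have the same character degree graph when they have the same vertices and the same joined pairs. A finite group of order 60 with the same character degree graph as the alternating group A₅ (whose character degrees are 1, 3, 4, 5, so the graph has vertices 2, 3, 5 and no edges) is isomorphic to A₅. -/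
theorem result {G : Type*} [Group G] [Finite G] (hcard : Nat.card G = 60)
    (hΓ : Cfsg.degreePrimes G = Cfsg.degreePrimes (alternatingGroup (Fin 5)) ∧ Cfsg.degreeGraph G = Cfsg.degreeGraph (alternatingGroup (Fin 5))) : Nonempty (G ≃* alternatingGroup (Fin 5)) := by
  classical
  haveI : Fact (Nat.Prime 5) := ⟨by decide +kernel⟩
  obtain ⟨P⟩ : Nonempty (Sylow 5 G) := inferInstance
  by_cases hP : (P : Subgroup G).Normal
  · exfalso
    have h5 : (5 : ℕ) ∈ Cfsg.degreePrimes (alternatingGroup (Fin 5)) := by
      have hA : Nat.card (alternatingGroup (Fin 5)) = 60 := by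
        rw [nat_card_alternatingGroup]; simp [Nat.card_eq_fintype_card, Nat.factorial]
      obtain ⟨Q⟩ : Nonempty (Sylow 5 (alternatingGroup (Fin 5))) := inferInstance
      refine five_mem_degreePrimes hA Q fun hQ => ?_
      haveI := alternatingGroup.isSimpleGroup (α := Fin 5) (by simp)
      rcases hQ.eq_bot_or_eq_top with h | h
      · exact Sylow.ne_bot_of_dvd_card Q (by rw [hA]; norm_num) h
      · obtain ⟨e, he⟩ := Q.2.exists_card_eq
        rw [h, Subgroup.card_top, hA] at he
        have h3 : 3 ∣ 5 ^ e := he ▸ (by norm_num)
        have := (Nat.prime_dvd_prime_iff_eq Nat.prime_three (Fact.out : Nat.Prime 5)).mp (Nat.prime_three.dvd_of_dvd_pow h3)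
        omega
    rw [← hΓ.1] at h5
    exact five_not_mem_degreePrimes hcard P hP h5
  · haveI := simple_of_sylow_five hcard P hP
    exact CfsgLib.Geom.equiv_altFive_of_simple_sixty hcard

end Cfsg.Agent.S3669
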