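import Cfsg.Statements.S3378
import Cfsg.Agent.Lib.Recog.Icosahedral
import Cfsg.Agent.S3669
import Cfsg.Agent.Lib.Char.Burnside
import Mathlib.GroupTheory.SpecificGroups.Quaternion

set_option autoImplicit false
open Cfsg

namespace Cfsg.Agent.S3378

theorem quaternion_facts : (∀ u : QuaternionGroup 2, u * u = 1 → u = 1 ∨ u = QuaternionGroup.a 2) ∧
    (∀ u : QuaternionGroup 2, u = 1 ∨ u = QuaternionGroup.a 2 ∨ u * u = QuaternionGroup.a 2) ∧
    (QuaternionGroup.a 2 : QuaternionGroup 2) ≠ 1 ∧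
    (QuaternionGroup.a 2 : QuaternionGroup 2) * QuaternionGroup.a 2 = 1 := by
  refine ⟨?_, ?_, ?_, ?_⟩ <;> decide +kernel

/-- A group of order 8 with a single involution acts on fewer than 8 points with that involution trivial. -/
theorem involution_fixes {S : Type*} [Group S] (e : S ≃* QuaternionGroup 2) {X : Type*} [MulAction S X] [Finite X]
    (hX : Nat.card X < 8) (p : X) : e.symm (QuaternionGroup.a 2) • p = p := by
  by_contra hne
  have hinj : Function.Injective (fun s : S => s • p) := by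
    intro s t hst
    have hu : (t⁻¹ * s) • p = p := by
      rw [mul_smul]; exact inv_smul_eq_iff.mpr hst
    rcases quaternion_facts.2.1 (e (t⁻¹ * s)) with h | h | h
    · have : t⁻¹ * s = 1 := e.injective (h.trans e.map_one.symm)
      exact (inv_mul_eq_one.mp this).symm
    · exact absurd (by rw [← h, e.symm_apply_apply, hu]) hne
    · exact absurd (by rw [← h, ← map_mul, e.symm_apply_apply, mul_smul, hu, hu]) hne
  haveI : Finite S := Finite.of_injective _ hinj
  have h := Nat.card_le_card_of_injective _ hinj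
  rw [Nat.card_congr e.toEquiv, Nat.card_eq_fintype_card, QuaternionGroup.card] at h
  omega

theorem recognition (G : Type*) [Group G] [Finite G] (hG : Nat.card G = 120) (hns : ¬ Group.IsSolvable G)
    (hQ : ∀ P : Sylow 2 G, Nonempty ((P : Subgroup G) ≃* QuaternionGroup 2)) :
    Nonempty (G ≃* Matrix.SpecialLinearGroup (Fin 2) (ZMod 5)) := by
  classical
  haveI h5f : Fact (Nat.Prime 5) := ⟨by norm_num⟩
  haveI : Fact (Nat.Prime 2) := ⟨Nat.prime_two⟩
  -- extension of solvable groups
  have hext : ∀ (N : Subgroup G) [N.Normal], Group.IsSolvable N → Group.IsSolvable (G ⧸ N) → False := by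
    intro N _ hN hQuo
    haveI := hN
    haveI := hQuo
    exact hns (Group.isSolvable_of_ker_le_range N.subtype (QuotientGroup.mk' N)
      (by rw [QuotientGroup.ker_mk', Subgroup.range_subtype]))
  obtain ⟨P⟩ : Nonempty (Sylow 5 G) := inferInstance
  -- six Sylow 5-subgroups
  have hPc : Nat.card (P : Subgroup G) = 5 := by
    rw [Sylow.card_eq_multiplicity, hG]
    rw [show (120 : ℕ) = 5 ^ 1 * 24 by norm_num, Nat.factorization_mul (by norm_num) (by norm_num),
      Finsupp.add_apply, Nat.Prime.factorization_pow (by norm_num),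
      Nat.factorization_eq_zero_of_not_dvd (by norm_num)]
    simp
  have h6 : Nat.card (Sylow 5 G) = 6 := by
    have hd := Sylow.card_dvd_index P
    have hi : (P : Subgroup G).index = 24 := by
      have := Subgroup.index_mul_card (P : Subgroup G)
      rw [hPc, hG] at this
      omega
    rw [hi] at hd
    have hmod := card_sylow_modEq_one 5 G
    have hle := Nat.le_of_dvd (by norm_num) hd
    have hne : Nat.card (Sylow 5 G) ≠ 1 := by
      intro h1
      haveI : Subsingleton (Sylow 5 G) := (Nat.card_eq_one_iff_unique.mp h1).1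
      haveI := Sylow.normal_of_subsingleton P
      exact hext (P : Subgroup G)
        (CfsgLib.Char.burnside_pq 5 2 (by norm_num) Nat.prime_two 1 0 _ (by rw [hPc]; norm_num))
        (CfsgLib.Char.burnside_pq 2 3 Nat.prime_two Nat.prime_three 3 1 _
          (by rw [← Subgroup.index_eq_card, hi]; norm_num))
    unfold Nat.ModEq at hmod
    interval_cases h : Nat.card (Sylow 5 G) <;> simp_all
  -- the kernel of the action on them is a 2-group
  let K : Subgroup G := (MulAction.toPermHom G (Sylow 5 G)).ker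
  haveI hKn : K.Normal := MonoidHom.normal_ker _
  have hKmem : ∀ g, g ∈ K ↔ ∀ Q : Sylow 5 G, g • Q = Q := fun g => by
    rw [MonoidHom.mem_ker, Equiv.ext_iff]; rfl
  have hKN : K ≤ Subgroup.normalizer ((P : Subgroup G) : Set G) := fun g hg =>
    Sylow.smul_eq_iff_mem_normalizer.mp ((hKmem g).mp hg P)
  have hK4 : Nat.card K ∣ 4 := by
    have hN : Nat.card (Subgroup.normalizer ((P : Subgroup G) : Set G)) = 20 := by
      have h1 : (Subgroup.normalizer ((P : Subgroup G) : Set G)).index = 6 :=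
        (Sylow.card_eq_index_normalizer P).symm.trans h6
      have := Subgroup.index_mul_card (Subgroup.normalizer ((P : Subgroup G) : Set G))
      rw [h1, hG] at this
      omega
    have hd : Nat.card K ∣ 20 := hN ▸ Subgroup.card_dvd_of_le hKN
    have h5 : ¬ 5 ∣ Nat.card K := by
      intro h5
      obtain ⟨k, hk⟩ := exists_prime_orderOf_dvd_card' (G := K) 5 h5
      rw [← Subgroup.orderOf_coe] at hk
      have hp : IsPGroup 5 (Subgroup.zpowers (k : G)) :=
        IsPGroup.of_card (n := 1) (by rw [Nat.card_zpowers, hk]; norm_num)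
      have hall : ∀ Q : Sylow 5 G, Subgroup.zpowers (k : G) = (Q : Subgroup G) := by
        intro Q
        have hkQ : (k : G) ∈ Subgroup.normalizer ((Q : Subgroup G) : Set G) :=
          Sylow.smul_eq_iff_mem_normalizer.mp ((hKmem _).mp k.2 Q)
        have hsup : IsPGroup 5 ↥((Q : Subgroup G) ⊔ Subgroup.zpowers (k : G)) :=
          Q.2.to_sup_of_normal_left' hp ((Subgroup.zpowers_le).mpr hkQ)
        have hle : Subgroup.zpowers (k : G) ≤ (Q : Subgroup G) := by
          rw [← Q.3 hsup le_sup_left]; exact le_sup_right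
        apply Subgroup.eq_of_le_of_card_ge hle
        have hQc : Nat.card (Q : Subgroup G) = Nat.card (P : Subgroup G) := Nat.card_congr (Sylow.equiv Q P).toEquiv
        rw [Nat.card_zpowers, hk, hQc, hPc]
      haveI : Subsingleton (Sylow 5 G) := ⟨fun A B => Sylow.ext ((hall A).symm.trans (hall B))⟩
      have := Nat.card_of_subsingleton P
      omega
    exact (Nat.Coprime.dvd_of_dvd_mul_left ((Nat.prime_five.coprime_iff_not_dvd.mpr h5).symm) (show Nat.card K ∣ 5 * 4 from hd))
  have hK2 : IsPGroup 2 K := by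
    obtain ⟨i, -, hi⟩ := (Nat.dvd_prime_pow Nat.prime_two).mp (show Nat.card K ∣ 2 ^ 2 from hK4)
    exact IsPGroup.of_card hi
  -- one central involution
  obtain ⟨S⟩ : Nonempty (Sylow 2 G) := inferInstance
  obtain ⟨e⟩ := hQ S
  set z : G := ((e.symm (QuaternionGroup.a 2) : (S : Subgroup G)) : G) with hz
  have hz2 : z * z = 1 := by
    rw [hz, ← Subgroup.coe_mul, ← map_mul, quaternion_facts.2.2.2, map_one, Subgroup.coe_one]
  have hz1 : z ≠ 1 := fun h =>
    quaternion_facts.2.2.1 (by
      have h' : e.symm (QuaternionGroup.a 2) = 1 := Subtype.ext h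
      simpa using congrArg e h')
  have huniq : ∀ t : G, t * t = 1 → t ≠ 1 → t = z := by
    intro t ht ht1
    have hmemS : ∀ (T : Sylow 2 G) (f : (T : Subgroup G) ≃* QuaternionGroup 2), t ∈ (T : Subgroup G) →
        t = ((f.symm (QuaternionGroup.a 2) : (T : Subgroup G)) : G) := by
      intro T f htT
      rcases quaternion_facts.1 (f ⟨t, htT⟩) (by rw [← map_mul, show (⟨t, htT⟩ : (T : Subgroup G)) * ⟨t, htT⟩ = 1 from Subtype.ext ht, map_one]) with h | h
      · exact absurd (congrArg Subtype.val (f.injective (h.trans f.map_one.symm))) ht1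
      · rw [← h, f.symm_apply_apply]
    have hp : IsPGroup 2 (Subgroup.zpowers t) := IsPGroup.of_card (n := 1) (by
      rw [Nat.card_zpowers, pow_one]; exact orderOf_eq_prime (by rw [pow_two, ht]) ht1)
    obtain ⟨T, hT⟩ := hp.exists_le_sylow
    obtain ⟨f⟩ := hQ T
    have hte := hmemS T f (hT (Subgroup.mem_zpowers t))
    have htK : t ∈ K := (hKmem t).mpr fun Q => by
      rw [hte]; exact involution_fixes f (by omega) Q
    have hKS : K ≤ (S : Subgroup G) := by
      have hsup : IsPGroup 2 ↥((S : Subgroup G) ⊔ K) := S.2.to_sup_of_normal_right hK2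
      rw [← S.3 hsup le_sup_left]; exact le_sup_right
    exact hmemS S e (hKS htK)
  have hzc : ∀ g : G, g * z = z * g := fun g => by
    have h := huniq (g * z * g⁻¹) (by
      calc g * z * g⁻¹ * (g * z * g⁻¹) = g * (z * z) * g⁻¹ := by group
        _ = 1 := by rw [hz2]; group) (fun h => hz1 (conj_eq_one_iff.mp h))
    exact mul_inv_eq_iff_eq_mul.mp h
  let Z : Subgroup G := Subgroup.zpowers z
  haveI : Z.Normal := ⟨fun a ha g => by
    obtain ⟨i, rfl⟩ := Subgroup.mem_zpowers_iff.mp ha
    have hc : Commute g z := hzc g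
    rw [(hc.zpow_right i).eq, mul_inv_cancel_right]
    exact Subgroup.zpow_mem _ (Subgroup.mem_zpowers z) i⟩
  have hZc : Nat.card Z = 2 := by
    rw [Nat.card_zpowers]; exact orderOf_eq_prime (by rw [pow_two, hz2]) hz1
  have hq : Nat.card (G ⧸ Z) = 60 := by
    have := Subgroup.card_eq_card_quotient_mul_card_subgroup Z
    rw [hG, hZc] at this
    omega
  obtain ⟨P'⟩ : Nonempty (Sylow 5 (G ⧸ Z)) := inferInstance
  have hP' : ¬ (P' : Subgroup (G ⧸ Z)).Normal := by
    intro hn
    haveI := hn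
    have hc5 : Nat.card (P' : Subgroup (G ⧸ Z)) = 5 := by
      rw [Sylow.card_eq_multiplicity, hq]
      rw [show (60 : ℕ) = 5 ^ 1 * 12 by norm_num, Nat.factorization_mul (by norm_num) (by norm_num),
        Finsupp.add_apply, Nat.Prime.factorization_pow (by norm_num),
        Nat.factorization_eq_zero_of_not_dvd (by norm_num)]
      simp
    have h12 : Nat.card ((G ⧸ Z) ⧸ (P' : Subgroup (G ⧸ Z))) = 12 := by
      have := Subgroup.card_eq_card_quotient_mul_card_subgroup (P' : Subgroup (G ⧸ Z))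
      rw [hq, hc5] at this
      omega
    haveI := CfsgLib.Char.burnside_pq 5 2 (by norm_num) Nat.prime_two 1 0 (P' : Subgroup (G ⧸ Z)) (by rw [hc5]; norm_num)
    haveI := CfsgLib.Char.burnside_pq 2 3 Nat.prime_two Nat.prime_three 2 1 _ h12
    refine hext Z (CfsgLib.Char.burnside_pq 5 2 (by norm_num) Nat.prime_two 0 1 Z (by rw [hZc]; norm_num)) ?_
    exact Group.isSolvable_of_ker_le_range (P' : Subgroup (G ⧸ Z)).subtype (QuotientGroup.mk' (P' : Subgroup (G ⧸ Z)))
      (by rw [QuotientGroup.ker_mk', Subgroup.range_subtype])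
  haveI := Cfsg.Agent.S3669.simple_of_sylow_five hq P' hP'
  obtain ⟨ε⟩ := CfsgLib.Geom.equiv_altFive_of_simple_sixty hq
  let φ : G →* alternatingGroup (Fin 5) := ε.toMonoidHom.comp (QuotientGroup.mk' Z)
  have hφs : Function.Surjective φ := ε.surjective.comp (QuotientGroup.mk'_surjective Z)
  have hker : ∀ g, φ g = 1 → g = 1 ∨ g = z := by
    intro g hg
    have hgZ : g ∈ Z := (QuotientGroup.eq_one_iff g).mp (ε.injective (hg.trans ε.map_one.symm))
    obtain ⟨i, rfl⟩ := Subgroup.mem_zpowers_iff.mp hgZ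
    rcases Int.even_or_odd' i with ⟨j, rfl | rfl⟩
    · left; rw [zpow_mul, zpow_two, hz2, one_zpow]
    · right; rw [zpow_add, zpow_mul, zpow_two, hz2, one_zpow, one_mul, zpow_one]
  have hφz : φ z = 1 := by
    change ε (QuotientGroup.mk' Z z) = 1
    rw [(QuotientGroup.eq_one_iff z).mpr (Subgroup.mem_zpowers z) |> (fun h => (h : QuotientGroup.mk' Z z = 1)), map_one]
  obtain ⟨x₀, hx₀⟩ := hφs (CfsgLib.Recog.icoGen 0)
  obtain ⟨y₀, hy₀⟩ := hφs (CfsgLib.Recog.icoGen 1)
  have g0 : CfsgLib.Recog.icoGen 0 ^ 3 = 1 := by decide +kernel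
  have g1 : CfsgLib.Recog.icoGen 1 ^ 5 = 1 := by decide +kernel
  have g2 : (CfsgLib.Recog.icoGen 0 * CfsgLib.Recog.icoGen 1) ^ 2 = 1 := by decide +kernel
  have g3 : CfsgLib.Recog.icoGen 0 * CfsgLib.Recog.icoGen 1 ≠ 1 := by decide +kernel
  set x := x₀ ^ 4
  set y := y₀ ^ 6
  have hφx : φ x = CfsgLib.Recog.icoGen 0 := by
    rw [map_pow, hx₀, pow_succ, g0, one_mul]
  have hφy : φ y = CfsgLib.Recog.icoGen 1 := by
    rw [map_pow, hy₀, pow_succ, g1, one_mul]
  have hsq : ∀ g, φ g = 1 → g * g = 1 := fun g hg => by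
    rcases hker g hg with rfl | rfl
    · simp
    · exact hz2
  have hx3 : x ^ 3 = 1 := by
    have h := hsq (x₀ ^ 3) (by rw [map_pow, hx₀, g0])
    rw [← pow_mul, show (4 : ℕ) * 3 = (3 + 3) * 2 by norm_num, pow_mul, pow_add, h, one_pow]
  have hy5 : y ^ 5 = 1 := by
    have h := hsq (y₀ ^ 5) (by rw [map_pow, hy₀, g1])
    rw [← pow_mul, show (6 : ℕ) * 5 = (5 + 5) * 3 by norm_num, pow_mul, pow_add, h, one_pow]
  have hxy : (x * y) ^ 2 = z := by
    rcases hker ((x * y) ^ 2) (by rw [map_pow, map_mul, hφx, hφy, g2]) with h | h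
    · exfalso
      apply g3
      rw [← hφx, ← hφy, ← map_mul]
      by_cases h1 : x * y = 1
      · rw [h1, map_one]
      · rw [huniq _ (by rw [← pow_two, h]) h1, hφz]
    · exact h
  have hcx : z⁻¹ * x * z = x := by rw [mul_assoc, hzc x, inv_mul_cancel_left]
  have hcy : z⁻¹ * y * z = y := by rw [mul_assoc, hzc y, inv_mul_cancel_left]
  let f : Fin 3 → G := ![x, y, z]
  have hrel : ∀ r ∈ CfsgLib.Recog.binIcoRels, FreeGroup.lift f r = 1 := by
    rintro r (rfl | rfl | rfl | rfl | rfl | rfl) <;>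
      simp [f, hx3, hy5, hxy, hcx, hcy, pow_two z, hz2]
  set ψ := PresentedGroup.toGroup hrel
  have hmem : ∀ i, f i ∈ ψ.range := fun i => ⟨PresentedGroup.of i, PresentedGroup.toGroup.of hrel⟩
  have htop : ψ.range.map φ = ⊤ := by
    rw [eq_top_iff, ← MonoidHom.range_eq_top.mpr CfsgLib.Recog.ico_hom_surjective, MonoidHom.range_eq_map,
      ← PresentedGroup.closure_range_of, MonoidHom.map_closure, Subgroup.closure_le]
    rintro _ ⟨_, ⟨i, rfl⟩, rfl⟩
    rw [PresentedGroup.toGroup.of]
    fin_cases i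
    · exact ⟨x, hmem 0, hφx⟩
    · exact ⟨y, hmem 1, hφy⟩
  have hψ : Function.Surjective ψ := by
    intro g
    obtain ⟨r, hr, hre⟩ : φ g ∈ ψ.range.map φ := htop ▸ Subgroup.mem_top _
    rcases hker (r⁻¹ * g) (by rw [map_mul, map_inv, hre, inv_mul_cancel]) with h | h
    · rw [inv_mul_eq_one] at h; exact h ▸ hr
    · rw [inv_mul_eq_iff_eq_mul] at h; exact h ▸ ψ.range.mul_mem hr (hmem 2)
  obtain ⟨hfin, hle⟩ := CfsgLib.Recog.binIco_bound
  have hbij : Function.Bijective ψ := (Nat.bijective_iff_surjective_and_card _).mpr ⟨hψ, by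
    have := Nat.card_le_card_of_surjective _ hψ
    omega⟩
  obtain ⟨η⟩ := CfsgLib.Recog.binIco_equiv
  exact ⟨(MulEquiv.ofBijective ψ hbij).symm.trans η⟩

/-- Every non-solvable group of order 120 whose Sylow 2-subgroups are quaternion of order 8 is isomorphic to SL(2,5), and SL(2,5) has the presentation ⟨x, y, z | x³ = y⁵ = z² = 1, z⁻¹xz = x, z⁻¹yz = y, (xy)² = z⟩. -/
theorem result :
    (∀ (G : Type*) [Group G] [Finite G], Nat.card G = 120 → ¬ Group.IsSolvable G →
      (∀ P : Sylow 2 G, Nonempty ((P : Subgroup G) ≃* QuaternionGroup 2)) →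
      Nonempty (G ≃* Matrix.SpecialLinearGroup (Fin 2) (ZMod 5))) ∧
    Nonempty (PresentedGroup ({FreeGroup.of (0 : Fin 3) ^ 3, FreeGroup.of (1 : Fin 3) ^ 5, FreeGroup.of (2 : Fin 3) ^ 2,
        (FreeGroup.of (2 : Fin 3))⁻¹ * FreeGroup.of 0 * FreeGroup.of 2 * (FreeGroup.of (0 : Fin 3))⁻¹,
        (FreeGroup.of (2 : Fin 3))⁻¹ * FreeGroup.of 1 * FreeGroup.of 2 * (FreeGroup.of (1 : Fin 3))⁻¹,
        (FreeGroup.of (0 : Fin 3) * FreeGroup.of 1) ^ 2 * (FreeGroup.of (2 : Fin 3))⁻¹} : Set (FreeGroup (Fin 3)))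
      ≃* Matrix.SpecialLinearGroup (Fin 2) (ZMod 5)) := by
  exact ⟨recognition, CfsgLib.Recog.binIco_equiv⟩

end Cfsg.Agent.S3378
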