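import Cfsg.Statements.S1182
import Cfsg.Agent.Lib.Invol.Isolated

set_option autoImplicit false
open Cfsg

namespace Cfsg.Agent.S1182

/-- Let z be an isolated involution of the finite group G and H a subgroup normalized by z. If x, y ∈ H both commute with z and y = h x h⁻¹ for some h ∈ H, then y = c x c⁻¹ for some c ∈ H commuting with z. -/
theorem result {G : Type*} [Group G] [Finite G] (z : G) (hz : Cfsg.IsIsolatedInvolution z) (H : Subgroup G) (hzH : z ∈ Subgroup.normalizer (H : Set G)) (x y : G) (hx : x ∈ H) (hy : y ∈ H) (hxz : Commute x z) (hyz : Commute y z) (h : G) (hh : h ∈ H) (hconj : h * x * h⁻¹ = y) : ∃ c ∈ H, Commute c z ∧ c * x * c⁻¹ = y := by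
  have hw : IsConj z (h⁻¹ * z * h⁻¹⁻¹) := isConj_iff.2 ⟨h⁻¹, rfl⟩
  obtain ⟨d, hd, hdw⟩ := CfsgLib.Invol.isolated_exists_conj hz (IsConj.refl z) hw
  have hkH : z * (h⁻¹ * z * h⁻¹⁻¹) ∈ H := by
    have h1 : z * h⁻¹ * z⁻¹ ∈ H := (Subgroup.mem_normalizer_iff.1 hzH _).1 (inv_mem hh)
    have h2 := mul_mem h1 hh
    rw [CfsgLib.Invol.invol_inv hz.1] at h2
    simpa [mul_assoc] using h2
  have hxy : h⁻¹ * y * h⁻¹⁻¹ = x := by rw [← hconj]; group
  have hkx : Commute (z * (h⁻¹ * z * h⁻¹⁻¹)) x := by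
    refine Commute.mul_left hxz.symm ?_
    have := hyz.symm.map (MulAut.conj h⁻¹).toMonoidHom
    simp only [MulEquiv.coe_toMonoidHom, MulAut.conj_apply] at this
    rwa [hxy] at this
  have hdx : Commute d x := by
    obtain ⟨i, rfl⟩ := hd
    exact hkx.zpow_left i
  refine ⟨h * d, mul_mem hh (Subgroup.zpowers_le.2 hkH hd), ?_, ?_⟩
  · have e : (h * d) * z * (h * d)⁻¹ = z := by
      calc _ = h * (d * z * d⁻¹) * h⁻¹ := by group
        _ = _ := by rw [hdw]; group
    exact mul_inv_eq_iff_eq_mul.1 e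
  · calc (h * d) * x * (h * d)⁻¹ = h * (d * x * d⁻¹) * h⁻¹ := by group
      _ = _ := by rw [hdx.eq, mul_inv_cancel_right, hconj]

end Cfsg.Agent.S1182
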