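import Cfsg.Statements.S0947
import Cfsg.Agent.Lib.Block.SecondMain
import Cfsg.Agent.Lib.Block.KerNormal
import Cfsg.Agent.Lib.Solvable.PCore

set_option autoImplicit false
open Cfsg CfsgLib.Block

namespace Cfsg.Agent.S0947

/-- Let z ≠ 1 be a p-element of the finite group G with centralizer H, and fix a maximal ideal M of the algebraic integers containing p. (i) For every y ∈ H of order prime to p, the sum over ζ in the principal block of G of |ζ (z * y)|² equals the sum over χ in the principal block of H of |χ y|². (ii) If moreover H has a normal p-complement (its largest normal subgroup of order prime to p has p-power index), that common value is the largest power of p dividing the order of H. -/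
theorem result {G : Type*} [Group G] [Finite G] (p : ℕ) [Fact p.Prime] (M : Ideal Cfsg.AlgInt) (hM : Cfsg.IsPModular p M) (z : G) (hz : ∃ k : ℕ, orderOf z = p ^ k) (hz1 : z ≠ 1) (y : Subgroup.centralizer ({z} : Set G)) (hy : ¬ p ∣ orderOf y) : (∑ᶠ ζ ∈ Cfsg.principalBlock M G, ‖(ζ : G → ℂ) (z * (y : G))‖ ^ 2 = ∑ᶠ χ ∈ Cfsg.principalBlock M (Subgroup.centralizer ({z} : Set G)), ‖(χ : Subgroup.centralizer ({z} : Set G) → ℂ) y‖ ^ 2) ∧ ((∃ k : ℕ, (Cfsg.pPrimeCore p (Subgroup.centralizer ({z} : Set G))).index = p ^ k) → ∑ᶠ ζ ∈ Cfsg.principalBlock M G, ‖(ζ : G → ℂ) (z * (y : G))‖ ^ 2 = ((p ^ (Nat.card (Subgroup.centralizer ({z} : Set G))).factorization p : ℕ) : ℝ)) := by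
  classical
  have := isPrime_of_pmodular hM
  have := Fintype.ofFinite G
  have := Fintype.ofFinite (Subgroup.centralizer ({z} : Set G))
  have := Fintype.ofFinite (Cfsg.IrrCharacter G)
  have := Fintype.ofFinite (Cfsg.IrrCharacter (Subgroup.centralizer ({z} : Set G)))
  set b₀ := Cfsg.principalBlock M (Subgroup.centralizer ({z} : Set G)) with hb₀
  have hb : Cfsg.IsPBlock M b₀ := isPBlock_principalBlock
  have key := sum_twist_centralizer hM hz hb hy
  rw [← sum_chiExt_conj_eq, ← sum_chiExt_conj_eq] at key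
  have hsq : ∀ w : ℂ, w * (starRingEnd ℂ) w = ((‖w‖ ^ 2 : ℝ) : ℂ) := fun w => by
    rw [Complex.mul_conj']; push_cast; rfl
  have hL : ∀ ζ : Cfsg.IrrCharacter G, chiExt (ζ : G → ℂ) (inclSub _ (blockSum b₀)) (z * (y : G)) *
      (starRingEnd ℂ) ((ζ : G → ℂ) (z * (y : G))) =
      ((Set.indicator (Cfsg.principalBlock M G)
        (fun ζ : Cfsg.IrrCharacter G => ‖(ζ : G → ℂ) (z * (y : G))‖ ^ 2) ζ : ℝ) : ℂ) := by
    intro ζ
    rw [hb₀, chiExt_principal_centralizer hM hz ζ hy, Set.indicator_apply]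
    split
    · exact hsq _
    · simp
  have hR : ∀ ψ : Cfsg.IrrCharacter (Subgroup.centralizer ({z} : Set G)),
      chiExt (ψ : Subgroup.centralizer ({z} : Set G) → ℂ) (blockSum b₀) ((⟨z, Subgroup.mem_centralizer_singleton_iff.2 rfl⟩ : Subgroup.centralizer ({z} : Set G)) * y) *
        (starRingEnd ℂ) ((ψ : Subgroup.centralizer ({z} : Set G) → ℂ) ((⟨z, Subgroup.mem_centralizer_singleton_iff.2 rfl⟩ : Subgroup.centralizer ({z} : Set G)) * y)) =
      ((Set.indicator b₀ (fun ψ : Cfsg.IrrCharacter (Subgroup.centralizer ({z} : Set G)) =>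
        ‖(ψ : Subgroup.centralizer ({z} : Set G) → ℂ) y‖ ^ 2) ψ : ℝ) : ℂ) := by
    intro ψ
    rw [← one_mul (blockSum b₀), chiExt_mul_central ψ.2 1 (blockSum_isClassCoeff b₀), chiExt_one,
      omegaC_blockSum, Set.indicator_apply]
    split
    · rw [one_mul, hsq, norm_apply_central_mul ψ (fun w => Subtype.ext
        (Subgroup.mem_centralizer_singleton_iff.1 w.2).symm)]
    · simp
  simp only [hL, hR] at key
  rw [← Complex.ofReal_sum, ← Complex.ofReal_sum, Complex.ofReal_inj] at key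
  have hi : ∑ᶠ ζ ∈ Cfsg.principalBlock M G, ‖(ζ : G → ℂ) (z * (y : G))‖ ^ 2 =
      ∑ᶠ χ ∈ b₀, ‖(χ : Subgroup.centralizer ({z} : Set G) → ℂ) y‖ ^ 2 := by
    rw [finsum_mem_def, finsum_mem_def, finsum_eq_sum_of_fintype, finsum_eq_sum_of_fintype]
    exact key
  refine ⟨hi, fun hnc => ?_⟩
  rw [hi]
  obtain ⟨k, hk⟩ := hnc
  set K := Cfsg.pPrimeCore p (Subgroup.centralizer ({z} : Set G)) with hK
  have := CfsgLib.Solvable.pPrimeCore_normal p (Subgroup.centralizer ({z} : Set G))
  have hp : ¬ p ∣ Nat.card K := by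
    rw [← hM.1.coprime_iff_not_dvd]
    exact (CfsgLib.Solvable.pPrimeCore_coprime p).symm
  have hyK : y ∈ K := mem_of_regular_of_index hM ⟨k, hk⟩ hy
  set S : ℕ := ∑ ψ : Cfsg.IrrCharacter (Subgroup.centralizer ({z} : Set G)),
    if ψ ∈ b₀ then Cfsg.charDegree (ψ : Subgroup.centralizer ({z} : Set G) → ℂ) ^ 2 else 0 with hS
  have hval : ∀ ψ ∈ b₀, ∀ n ∈ K, (ψ : Subgroup.centralizer ({z} : Set G) → ℂ) n =
      (Cfsg.charDegree (ψ : Subgroup.centralizer ({z} : Set G) → ℂ) : ℂ) := fun ψ hψ n hn => by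
    rw [mem_kerIrr.1 (le_kerIrr_of_mem_principalBlock hM hp hψ hn),
      charDegree_cast (CfsgLib.Char.irr_isCharacter ψ.2)]
  have hsum : ∑ᶠ χ ∈ b₀, ‖(χ : Subgroup.centralizer ({z} : Set G) → ℂ) y‖ ^ 2 = (S : ℝ) := by
    rw [finsum_mem_def, finsum_eq_sum_of_fintype, hS, Nat.cast_sum]
    refine Finset.sum_congr rfl fun ψ _ => ?_
    rw [Set.indicator_apply]
    split
    · next hψ => rw [hval ψ hψ y hyK]; simp
    · simp
  have hcoef : ∀ n, Cfsg.blockCoeff b₀ n =
      if n ∈ K then (Nat.card (Subgroup.centralizer ({z} : Set G)) : ℂ)⁻¹ * S else 0 := by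
    intro n
    by_cases hn : n ∈ K
    · rw [if_pos hn, Cfsg.blockCoeff, finsum_mem_def, finsum_eq_sum_of_fintype, hS, Nat.cast_sum]
      congr 1
      refine Finset.sum_congr rfl fun ψ _ => ?_
      rw [Set.indicator_apply]
      split
      · next hψ => rw [hval ψ hψ n hn, hval ψ hψ 1 K.one_mem]; simp [sq]
      · simp
    · rw [if_neg hn]
      exact blockCoeff_eq_zero_of_singular hM hb
        (by by_contra h; exact hn (mem_of_regular_of_index hM ⟨k, hk⟩ h))
  have h1 := omegaC_blockSum b₀ trivIrr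
  rw [if_pos (show trivIrr ∈ b₀ from one_mem_principalBlock), omegaC_eq] at h1
  simp only [trivIrr, blockSum, coeff_mkGA, hcoef, mul_one, div_one] at h1
  rw [← Finset.sum_filter, Finset.sum_const, nsmul_eq_mul] at h1
  have hcK : (Finset.univ.filter (· ∈ K)).card = Nat.card K := by
    rw [Nat.card_eq_fintype_card, Fintype.card_subtype]
  rw [hcK] at h1
  have hmul : Nat.card K * K.index = Nat.card (Subgroup.centralizer ({z} : Set G)) :=
    K.card_mul_index
  have hSk : S = p ^ k := by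
    have hK0 : (Nat.card K : ℂ) ≠ 0 := Nat.cast_ne_zero.2 Nat.card_pos.ne'
    have h2 : (S : ℂ) = (K.index : ℂ) := by
      rw [← hmul, Nat.cast_mul, mul_inv, ← mul_assoc, ← mul_assoc, mul_inv_cancel₀ hK0, one_mul] at h1
      exact (inv_mul_eq_one₀ (Nat.cast_ne_zero.2 Subgroup.index_ne_zero_of_finite)).1 h1 |>.symm
    exact_mod_cast (Nat.cast_injective h2).trans hk
  have hfac : (Nat.card (Subgroup.centralizer ({z} : Set G))).factorization p = k := by
    rw [← hmul, hk, Nat.factorization_mul Nat.card_pos.ne' (pow_ne_zero _ hM.1.ne_zero)]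
    rw [Finsupp.add_apply, Nat.factorization_eq_zero_of_not_dvd hp, hM.1.factorization_pow]
    simp
  rw [hsum, hfac, hSk]

end Cfsg.Agent.S0947
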