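import Cfsg.Statements.S0223
import Cfsg.Agent.Lib.Invol.Strong

set_option autoImplicit false
open Cfsg

namespace Cfsg.Agent.S0223

/-- Let H be a proper subgroup of even order of the finite group G. Then H is strongly embedded if and only if (i) C_G(t) ≤ H for every involution t of H and (ii) H controls fusion of its involutions: involutions of H conjugate in G are conjugate in H. -/
theorem result {G : Type*} [Group G] [Finite G] (H : Subgroup G) (hH : H ≠ ⊤) (heven : Even (Nat.card H)) : Cfsg.IsStronglyEmbedded H ↔ ((∀ t ∈ H, orderOf t = 2 → Subgroup.centralizer ({t} : Set G) ≤ H) ∧ (∀ t ∈ H, ∀ s ∈ H, orderOf t = 2 → orderOf s = 2 → IsConj t s → ∃ h ∈ H, h * t * h⁻¹ = s)) := by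
  constructor
  · intro hSE
    refine ⟨fun t ht h2 => CfsgLib.Invol.se_centralizer_le hSE h2 ht, fun t ht s hs h2 _ hc => ?_⟩
    obtain ⟨g, rfl⟩ := isConj_iff.1 hc
    exact ⟨g, CfsgLib.Invol.se_mem_of_conj hSE h2 ht hs, rfl⟩
  · rintro ⟨hC, hfus⟩
    refine ⟨hH, heven, fun g hg => Nat.not_even_iff_odd.1 fun he => hg ?_⟩
    obtain ⟨t, ht, h2⟩ := CfsgLib.Invol.exists_invol_mem he
    obtain ⟨htH, s, hsH, rfl⟩ := ht
    simp only [MulEquiv.coe_toMonoidHom, MulAut.conj_apply] at h2 htH ⊢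
    have hs2 : orderOf s = 2 := by rwa [CfsgLib.Invol.orderOf_conj_eq] at h2
    obtain ⟨h, hh, he⟩ := hfus s hsH _ htH hs2 h2 (isConj_iff.2 ⟨g, rfl⟩)
    have hc : h⁻¹ * g ∈ Subgroup.centralizer ({s} : Set G) := by
      rw [Subgroup.mem_centralizer_singleton_iff]
      have e := congrArg (fun w => h⁻¹ * w * g) he
      simp [mul_assoc] at e
      simpa [mul_assoc] using e.symm
    simpa using mul_mem hh (hC s hsH hs2 hc)

end Cfsg.Agent.S0223
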