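import Cfsg.Statements.S2331
import Cfsg.Agent.Lib.KnownB.SL2Count

-- import your own Cfsg.Agent.* helpers here

set_option autoImplicit false
open Cfsg

namespace Cfsg.Agent.S2331

open CfsgLib.KnownB.GL2 CfsgLib.KnownB.SL2

/-- Over a finite field with q elements, q even, the special linear group SL₂ has exactly q + 1 conjugacy classes. -/
theorem result {F : Type*} [Field F] [Fintype F] [CharP F 2] :
    Nat.card (ConjClasses (Matrix.SpecialLinearGroup (Fin 2) F)) = Fintype.card F + 1 := by
  classical
  obtain ⟨E, _, _, _, _⟩ := exists_quad F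
  have he : ¬ Odd (Fintype.card F) := fun h => two_ne h (by exact_mod_cast CharP.cast_eq_zero F 2)
  rw [← CfsgLib.Char.irr_card_eq]
  exact (counts_even E he).2.2

end Cfsg.Agent.S2331
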