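import Cfsg.Statements.S4593
import Cfsg.Agent.Lib.Perm.AbelianZStar
import Mathlib.GroupTheory.SemidirectProduct

set_option autoImplicit false
open Cfsg

namespace Cfsg.Agent.S4593

private theorem coset_conj {M : Type*} [Group M] (a b c t : M) (h : t * c = c * t) :
    a * (b * c * b⁻¹) * a⁻¹ = a * b * t * c * (a * b * t)⁻¹ := by
  rw [mul_assoc _ t c, h]; group

private theorem conj_one' {M : Type*} [Group M] (a : M) : a * 1 * a⁻¹ = 1 := by group

private theorem conj_mul' {M : Type*} [Group M] (a x y : M) :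
    a * (x * y) * a⁻¹ = a * x * a⁻¹ * (a * y * a⁻¹) := by group

/-- Let G be a finite group with trivial centre and no nontrivial normal subgroup of odd order, whose Sylow 2-subgroups are abelian, and let P be a Sylow 2-subgroup. Every automorphism of G of 2-power order that fixes P elementwise is inner. -/
theorem result {G : Type*} [Group G] [Finite G] (hZ : Subgroup.center G = ⊥) (hcore : Cfsg.pPrimeCore 2 G = ⊥) (P : Sylow 2 G) (hab : IsMulCommutative (P : Subgroup G))
    (α : MulAut G) (h2 : ∃ j : ℕ, orderOf α = 2 ^ j) (hfix : ∀ x ∈ (P : Subgroup G), α x = x) :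
    ∃ g : G, ∀ x : G, α x = g * x * g⁻¹ := by
  classical
  have : Fact (Nat.Prime 2) := ⟨Nat.prime_two⟩
  obtain ⟨j, hj⟩ := h2
  let C := Subgroup.zpowers α
  let Γ := G ⋊[C.subtype] C
  haveI : Finite C := Nat.finite_of_card_ne_zero (by
    rw [Nat.card_zpowers, hj]; positivity)
  haveI : Finite Γ := Finite.of_equiv _ SemidirectProduct.equivProd.symm
  have hC : IsPGroup 2 C := IsPGroup.of_card (n := j) (by rw [Nat.card_zpowers, hj])
  have hfixC : ∀ a : C, ∀ x ∈ (P : Subgroup G), (a : MulAut G) x = x := by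
    rintro ⟨a, ha⟩ x hx
    obtain ⟨k, rfl⟩ := Subgroup.mem_zpowers_iff.1 ha
    have : α ∈ MulAction.stabilizer (MulAut G) x := hfix x hx
    exact (MulAction.stabilizer (MulAut G) x).zpow_mem this k
  let S0 : Subgroup Γ :=
    { carrier := {y | y.left ∈ (P : Subgroup G)}
      one_mem' := by simp [one_mem]
      mul_mem' := by
        intro a b ha hb
        show a.left * (a.right : MulAut G) b.left ∈ (P : Subgroup G)
        rw [hfixC _ _ hb]
        exact mul_mem ha hb
      inv_mem' := by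
        intro a ha
        show ((a.right⁻¹ : C) : MulAut G) a.left⁻¹ ∈ (P : Subgroup G)
        rw [hfixC _ _ (inv_mem ha)]
        exact inv_mem ha }
  let eS : S0 ≃ ↥(P : Subgroup G) × ↥C :=
    { toFun := fun y => (⟨y.1.left, y.2⟩, y.1.right)
      invFun := fun y => ⟨⟨y.1, y.2⟩, y.1.2⟩
      left_inv := fun y => rfl
      right_inv := fun y => rfl }
  have hcardS : Nat.card S0 = Nat.card (P : Subgroup G) * Nat.card C := by
    rw [Nat.card_congr eS, Nat.card_prod]
  have hS0p : IsPGroup 2 S0 := by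
    obtain ⟨a, ha⟩ := IsPGroup.iff_card.1 P.isPGroup'
    obtain ⟨b, hb⟩ := IsPGroup.iff_card.1 hC
    exact IsPGroup.of_card (n := a + b) (by rw [hcardS, ha, hb, pow_add])
  have hidx : ¬ 2 ∣ S0.index := by
    have h1 : S0.index * Nat.card S0 = (P : Subgroup G).index * Nat.card S0 := by
      rw [Subgroup.index_mul_card, hcardS, ← mul_assoc, Subgroup.index_mul_card,
        Nat.card_congr SemidirectProduct.equivProd, Nat.card_prod]
    rw [Nat.eq_of_mul_eq_mul_right Nat.card_pos h1]
    exact P.not_dvd_index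
  let S : Sylow 2 Γ := hS0p.toSylow hidx
  have hS : (S : Subgroup Γ) = S0 := rfl
  haveI hSc : IsMulCommutative S := ⟨⟨by
    rintro ⟨a, ha⟩ ⟨b, hb⟩
    apply Subtype.ext
    apply SemidirectProduct.ext
    · show a.left * (a.right : MulAut G) b.left = b.left * (b.right : MulAut G) a.left
      rw [hfixC _ _ hb, hfixC _ _ ha]
      exact congrArg Subtype.val (hab.is_comm.comm (⟨a.left, ha⟩ : (P : Subgroup G)) ⟨b.left, hb⟩)
    · exact mul_comm' a.right b.right⟩⟩
  have hO : Cfsg.oddCore Γ = ⊥ := by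
    rw [eq_bot_iff]
    intro y hy
    have hodd : (Nat.card (Cfsg.oddCore Γ)).Coprime 2 := CfsgLib.Solvable.pPrimeCore_coprime 2
    have hr : ∀ y ∈ Cfsg.oddCore Γ, y.right = 1 := by
      intro y hy
      obtain ⟨k, hk⟩ := IsPGroup.iff_orderOf.1 hC y.right
      have h1 : orderOf y.right ∣ Nat.card (Cfsg.oddCore Γ) :=
        (orderOf_map_dvd (SemidirectProduct.rightHom : Γ →* C) y).trans
          (Subgroup.orderOf_dvd_natCard _ hy)
      exact orderOf_eq_one_iff.1 (Nat.eq_one_of_dvd_coprimes (hodd.pow_right k) h1 (hk ▸ dvd_rfl))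
    let K : Subgroup G := (Cfsg.oddCore Γ).comap (SemidirectProduct.inl : G →* Γ)
    have hKn : K.Normal := (CfsgLib.Solvable.pPrimeCore_normal 2 Γ).comap _
    have hKc : (Nat.card K).Coprime 2 := by
      refine Nat.Coprime.coprime_dvd_left ?_ hodd
      exact Subgroup.card_dvd_of_injective
        ((SemidirectProduct.inl : G →* Γ).subgroupComap (Cfsg.oddCore Γ))
        (fun a b h => Subtype.ext (SemidirectProduct.inl_injective (congrArg Subtype.val h)))
    have hK : K ≤ ⊥ := hcore ▸ CfsgLib.Solvable.le_pPrimeCore hKn hKc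
    have e : (SemidirectProduct.inl y.left : Γ) = y :=
      SemidirectProduct.ext rfl (hr y hy).symm
    have : y.left ∈ K := by
      show (SemidirectProduct.inl y.left : Γ) ∈ Cfsg.oddCore Γ
      rw [e]; exact hy
    rw [Subgroup.mem_bot, ← e, Subgroup.mem_bot.1 (hK this), map_one]
  -- an element of `α P` fixed by the normaliser
  let N := Subgroup.normalizer ((S : Subgroup Γ) : Set Γ)
  let T : Subgroup N := (S : Subgroup Γ).subgroupOf N
  let s0 : Γ := SemidirectProduct.inr ⟨α, Subgroup.mem_zpowers α⟩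
  have hs0 : s0 ∈ (S : Subgroup Γ) := one_mem (P : Subgroup G)
  have hconjS : ∀ g : N, ∀ x ∈ (S : Subgroup Γ), (g : Γ) * x * (g : Γ)⁻¹ ∈ (S : Subgroup Γ) :=
    fun g x hx => (Subgroup.mem_normalizer_iff.1 g.2 x).1 hx
  haveI hSG : IsMulCommutative (S : Subgroup Γ) := hSc
  letI : CommGroup (S : Subgroup Γ) :=
    { (inferInstance : Group (S : Subgroup Γ)) with mul_comm := hSG.is_comm.comm }
  let f : N ⧸ T → (S : Subgroup Γ) := fun q =>
    ⟨((q.out : N) : Γ) * s0 * ((q.out : N) : Γ)⁻¹, hconjS _ _ hs0⟩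
  have hf : ∀ (g : N) (q : N ⧸ T), (g : Γ) * f q * (g : Γ)⁻¹ = f (g • q) := by
    intro g q
    obtain ⟨t, ht⟩ := QuotientGroup.mk_out_eq_mul T (g * q.out)
    have e : g • q = QuotientGroup.mk (g * q.out) := by
      conv_lhs => rw [← QuotientGroup.out_eq' q]
      rfl
    show (g : Γ) * (((q.out : N) : Γ) * s0 * ((q.out : N) : Γ)⁻¹) * (g : Γ)⁻¹ = _
    show _ = (((g • q).out : N) : Γ) * s0 * (((g • q).out : N) : Γ)⁻¹
    rw [e, ht, Subgroup.coe_mul, Subgroup.coe_mul]
    have hts : ((t : N) : Γ) * s0 = s0 * ((t : N) : Γ) :=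
      congrArg Subtype.val (hSG.is_comm.comm (⟨_, t.2⟩ : (S : Subgroup Γ)) ⟨s0, hs0⟩)
    exact coset_conj _ _ _ _ hts
  haveI : Fintype (N ⧸ T) := Fintype.ofFinite _
  obtain ⟨c1, hc1⟩ : ∃ c1 : (S : Subgroup Γ), c1 = ∏ q, f q := ⟨_, rfl⟩
  have hc1fix : ∀ g : N, (g : Γ) * c1 * (g : Γ)⁻¹ = c1 := by
    intro g
    let φ : (S : Subgroup Γ) →* (S : Subgroup Γ) :=
      { toFun := fun x => ⟨(g : Γ) * x * (g : Γ)⁻¹, hconjS g x x.2⟩
        map_one' := Subtype.ext (conj_one' _)
        map_mul' := fun x y => Subtype.ext (conj_mul' _ _ _) }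
    have h : φ c1 = c1 := by
      rw [hc1, map_prod]
      exact (Finset.prod_congr rfl fun q _ => Subtype.ext (hf g q)).trans
        (Equiv.prod_comp (MulAction.toPerm g) f)
    exact congrArg Subtype.val h
  have hright : ∀ q, ((f q : (S : Subgroup Γ)) : Γ).right = ⟨α, Subgroup.mem_zpowers α⟩ := by
    intro q
    show (SemidirectProduct.rightHom : Γ →* C) (((q.out : N) : Γ) * s0 * ((q.out : N) : Γ)⁻¹) = _
    rw [map_mul, map_mul, map_inv, mul_comm' _ ((SemidirectProduct.rightHom : Γ →* C) s0),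
      mul_inv_cancel_right]
    rfl
  have hc1r : ((c1 : (S : Subgroup Γ)) : Γ).right =
      (⟨α, Subgroup.mem_zpowers α⟩ : C) ^ Fintype.card (N ⧸ T) := by
    letI : CommGroup C := { (inferInstance : Group C) with mul_comm := mul_comm' }
    let ρ : (S : Subgroup Γ) →* C := (SemidirectProduct.rightHom : Γ →* C).comp (S : Subgroup Γ).subtype
    show ρ c1 = _
    rw [hc1, ← Finset.card_univ, map_prod]
    exact (Finset.prod_congr rfl fun q _ => hright q).trans (Finset.prod_const _)
  have hn : (Fintype.card (N ⧸ T)).Coprime (2 ^ j) := by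
    refine Nat.Coprime.pow_right j (Nat.prime_two.coprime_iff_not_dvd.2 ?_).symm
    rw [← Nat.card_eq_fintype_card]
    exact fun h => S.not_dvd_index (h.trans (Subgroup.relIndex_dvd_index_of_le
      (Subgroup.le_normalizer (H := (S : Subgroup Γ)))))
  obtain ⟨m, hm⟩ := exists_pow_eq_self_of_coprime (x := (⟨α, Subgroup.mem_zpowers α⟩ : C))
    (n := Fintype.card (N ⧸ T)) (by rwa [Subgroup.orderOf_mk, hj])
  obtain ⟨c, hc⟩ : ∃ c, c = ((c1 : (S : Subgroup Γ)) : Γ) ^ m := ⟨_, rfl⟩
  have hcr : c.right = ⟨α, Subgroup.mem_zpowers α⟩ := by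
    show (SemidirectProduct.rightHom : Γ →* C) c = _
    rw [hc, map_pow]
    show ((c1 : (S : Subgroup Γ)) : Γ).right ^ m = _
    rw [hc1r, hm]
  have hcz : c ∈ Subgroup.center Γ := CfsgLib.Perm.AbelianZStar.mem_center hO S
    (hc ▸ pow_mem c1.2 m) fun g hg => by rw [hc, ← conj_pow, hc1fix ⟨g, hg⟩]
  refine ⟨c.left⁻¹, fun x => ?_⟩
  have h : x * c.left = c.left * (c.right : MulAut G) x :=
    congrArg SemidirectProduct.left (Subgroup.mem_center_iff.1 hcz (SemidirectProduct.inl x))
  rw [hcr] at h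
  rw [inv_inv, mul_assoc, h, inv_mul_cancel_left]

end Cfsg.Agent.S4593
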