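import Cfsg.Statements.S4487
import Cfsg.Agent.Lib.BlockA.PrincipalType
import Cfsg.Agent.Lib.Block.KerNormal

set_option autoImplicit false
open Cfsg

namespace Cfsg.Agent.S4487

/-- Let G be a finite group and p a prime such that G has no non-trivial normal subgroup of order prime to p and C_G(O_p(G)) ≤ O_p(G). Then G has a single p-block: any two irreducible characters lie in the same block relative to every maximal ideal M of the algebraic integers containing p. -/
theorem result {G : Type*} [Group G] [Finite G] (p : ℕ) [Fact p.Prime] (M : Ideal Cfsg.AlgInt) (hM : Cfsg.IsPModular p M) (hcore : Cfsg.pPrimeCore p G = ⊥) (hconstr : Subgroup.centralizer ((Cfsg.pCore p G) : Set G) ≤ Cfsg.pCore p G) (χ ψ : Cfsg.IrrCharacter G) : Cfsg.SameBlock M (χ : G → ℂ) (ψ : G → ℂ) := by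
  have := hM.2.1.isPrime
  have := Fintype.ofFinite G
  set K := pPrimeCore p G with hK
  have := Fintype.ofFinite K
  have hKc := CfsgLib.Comp.coprime_card_pPrimeCore p G
  have hP : IsPGroup p (pCore p G) := CfsgLib.Solvable.pCore_isPGroup p
  set q := QuotientGroup.mk' K with hq
  have hinj : Function.Injective q := by
    rw [← MonoidHom.ker_eq_bot_iff, hq, QuotientGroup.ker_mk', hcore]
  have hQ : (pCore p (G ⧸ K)).comap q = pCore p G := by
    refine le_antisymm ?_ ?_
    · have := CfsgLib.Solvable.pCore_normal p (G ⧸ K)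
      exact CfsgLib.Solvable.le_pCore inferInstance
        ((CfsgLib.Solvable.pCore_isPGroup p).comap_of_injective q hinj)
    · rw [← Subgroup.map_le_iff_le_comap]
      have := CfsgLib.Solvable.pCore_normal p G
      exact CfsgLib.Solvable.le_pCore (Subgroup.Normal.map this q (QuotientGroup.mk'_surjective K))
        (hP.map q)
  have hcons : Subgroup.centralizer (pCore p (G ⧸ K) : Set (G ⧸ K)) ≤ pCore p (G ⧸ K) := by
    rw [← Subgroup.map_comap_eq_self_of_surjective (QuotientGroup.mk'_surjective K)
      (pCore p (G ⧸ K)), hQ, ← CfsgLib.Comp.map_centralizer_eq hKc hP]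
    exact Subgroup.map_mono hconstr
  obtain ⟨B, hB, hmem, -, -, -⟩ := CfsgLib.BlockA.principalType hM hcons hKc
    (CfsgLib.Block.trivIrr : IrrCharacter K) CfsgLib.Block.conjIrr_trivIrr
  have hall : ∀ φ : IrrCharacter G, φ ∈ B := fun φ =>
    (hmem φ).2 ((CfsgLib.Block.le_kerIrr_iff_constituent φ).1 (hcore.trans_le bot_le))
  exact CfsgLib.Block.sameBlock_of_mem hB (hall χ) (hall ψ)

end Cfsg.Agent.S4487
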