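import Cfsg.Statements.S4571
import Cfsg.Agent.Lib.BlockB.PrincipalLambda
import Cfsg.Agent.Lib.BlockB.RegRank

set_option autoImplicit false
set_option linter.unusedSectionVars false
open Cfsg

namespace Cfsg.Agent.S4571

open CfsgLib.Block CfsgLib.BlockB
open CfsgLib.BlockA (regInd regPair regInd_isClassFunction)
open scoped ComplexConjugate

variable {G : Type*} [Group G]

theorem regInd_of_reg {p : ℕ} {g : G} (h : ¬ p ∣ orderOf g) : regInd p g = 1 := if_neg h

theorem regInd_of_sing {p : ℕ} {g : G} (h : p ∣ orderOf g) : regInd p g = 0 := if_pos h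

variable [Finite G] {p : ℕ} [Fact p.Prime] {Q : Subgroup G} [Q.Normal]

theorem reg_mem_centralizer (hQ : IsPGroup p Q)
    (hsup : Q ⊔ Subgroup.centralizer (Q : Set G) = ⊤) {g : G} (hg : ¬ p ∣ orderOf g) :
    g ∈ Subgroup.centralizer (Q : Set G) := by
  obtain ⟨q, hq, c, hc, rfl⟩ : ∃ q ∈ Q, ∃ c ∈ Subgroup.centralizer (Q : Set G), q * c = g :=
    Subgroup.mem_sup_of_normal_left.1 (hsup ▸ Subgroup.mem_top g)
  set m := orderOf (q * c) with hm
  have hcomm : Commute q c := hc q hq
  have h1 : q ^ m * c ^ m = 1 := by rw [← hcomm.mul_pow]; exact pow_orderOf_eq_one _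
  have h2 : q ^ m ∈ Subgroup.centralizer (Q : Set G) := by
    rw [eq_inv_of_mul_eq_one_left h1]
    exact inv_mem (pow_mem hc m)
  obtain ⟨j, hj⟩ := hQ ⟨q, hq⟩
  have hj' : q ^ p ^ j = 1 := congrArg Subtype.val hj
  have hcop : m.Coprime (orderOf q) :=
    ((((Fact.out : p.Prime).coprime_iff_not_dvd.2 hg).symm).pow_right j).coprime_dvd_right
      (orderOf_dvd_of_pow_eq_one hj')
  obtain ⟨k, hk⟩ := exists_pow_eq_self_of_coprime (x := q) hcop
  have : q ∈ Subgroup.centralizer (Q : Set G) := by rw [← hk]; exact pow_mem h2 k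
  exact mul_mem this hc

theorem reg_lift_unique (hQ : IsPGroup p Q)
    (hsup : Q ⊔ Subgroup.centralizer (Q : Set G) = ⊤) {g g' : G} (hg : ¬ p ∣ orderOf g)
    (hg' : ¬ p ∣ orderOf g') (h : (g : G ⧸ Q) = g') : g = g' := by
  have hz : g⁻¹ * g' ∈ Q := QuotientGroup.eq.1 h
  set z := g⁻¹ * g' with hzd
  have hcomm : Commute z g := reg_mem_centralizer hQ hsup hg z hz
  have e : g' = g * z := by rw [hzd, mul_inv_cancel_left]
  have h1 : g' ^ (orderOf g * orderOf g') = 1 := by rw [mul_comm, pow_mul, pow_orderOf_eq_one,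
    one_pow]
  rw [e, hcomm.symm.mul_pow, pow_mul g, pow_orderOf_eq_one, one_pow, one_mul, ← e] at h1
  obtain ⟨j, hj⟩ := hQ ⟨z, hz⟩
  have hj' : z ^ p ^ j = 1 := congrArg Subtype.val hj
  have hp : p.Prime := Fact.out
  have hco : (p ^ j).Coprime (orderOf g * orderOf g') :=
    ((hp.coprime_iff_not_dvd.2 hg).mul_right (hp.coprime_iff_not_dvd.2 hg')).pow_left j
  have : z = 1 := orderOf_eq_one_iff.1 (Nat.eq_one_of_dvd_coprimes hco
    (orderOf_dvd_of_pow_eq_one hj') (orderOf_dvd_of_pow_eq_one h1))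
  rw [e, this, mul_one]

theorem exists_reg_lift (x : G ⧸ Q) (hx : ¬ p ∣ orderOf x) :
    ∃ g : G, ¬ p ∣ orderOf g ∧ (g : G ⧸ Q) = x := by
  obtain ⟨g, rfl⟩ := QuotientGroup.mk_surjective x
  have hp : p.Prime := Fact.out
  obtain ⟨n, m, hm, hnm⟩ := Nat.exists_eq_pow_mul_and_not_dvd (orderOf_pos g).ne' p hp.ne_one
  obtain ⟨a, ha0, ha1⟩ := Nat.chineseRemainder
    (((hp.coprime_iff_not_dvd.2 hm)).pow_left n) 0 1
  refine ⟨g ^ a, fun hd => hm (hd.trans (orderOf_dvd_of_pow_eq_one ?_)), ?_⟩
  · rw [← pow_mul, ← orderOf_dvd_iff_pow_eq_one, hnm]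
    exact Nat.mul_dvd_mul (Nat.modEq_zero_iff_dvd.1 ha0) dvd_rfl
  · rw [QuotientGroup.mk_pow]
    conv_rhs => rw [← pow_one (g : G ⧸ Q)]
    refine pow_eq_pow_iff_modEq.2 (ha1.of_dvd ?_)
    have h : orderOf (g : G ⧸ Q) ∣ p ^ n * m := hnm ▸ orderOf_map_dvd (QuotientGroup.mk' Q) g
    exact (((hp.coprime_iff_not_dvd.2 hx).symm).pow_right n).dvd_of_dvd_mul_left h

theorem reg_map {g : G} (hg : ¬ p ∣ orderOf g) : ¬ p ∣ orderOf (g : G ⧸ Q) := fun h =>
  hg (h.trans (orderOf_map_dvd (QuotientGroup.mk' Q) g))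

theorem sum_reg [Fintype G] [Fintype (G ⧸ Q)] (hQ : IsPGroup p Q)
    (hsup : Q ⊔ Subgroup.centralizer (Q : Set G) = ⊤) (F : G ⧸ Q → ℂ) :
    ∑ g : G, regInd p g * F g = ∑ x : G ⧸ Q, regInd p x * F x := by
  classical
  have e1 : ∑ g : G, regInd p g * F g =
      ∑ g ∈ Finset.univ.filter (fun g : G => ¬ p ∣ orderOf g), F g := by
    rw [Finset.sum_filter]
    refine Finset.sum_congr rfl fun g _ => ?_
    by_cases h : p ∣ orderOf g <;> simp [h, regInd_of_reg, regInd_of_sing]
  have e2 : ∑ x : G ⧸ Q, regInd p x * F x =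
      ∑ x ∈ Finset.univ.filter (fun x : G ⧸ Q => ¬ p ∣ orderOf x), F x := by
    rw [Finset.sum_filter]
    refine Finset.sum_congr rfl fun g _ => ?_
    by_cases h : p ∣ orderOf g <;> simp [h, regInd_of_reg, regInd_of_sing]
  rw [e1, e2]
  refine Finset.sum_bij (fun g _ => (g : G ⧸ Q)) ?_ ?_ ?_ (fun _ _ => rfl)
  · intro g hg
    simp only [Finset.mem_filter, Finset.mem_univ, true_and] at hg ⊢
    exact reg_map hg
  · intro a ha b hb h
    simp only [Finset.mem_filter, Finset.mem_univ, true_and] at ha hb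
    exact reg_lift_unique hQ hsup ha hb h
  · intro x hx
    simp only [Finset.mem_filter, Finset.mem_univ, true_and] at hx
    obtain ⟨g, hg, rfl⟩ := exists_reg_lift x hx
    exact ⟨g, by simp [hg], rfl⟩

theorem blockRank_eq [Fintype G] [Fintype (G ⧸ Q)] {M : Ideal AlgInt} (hM : IsPModular p M)
    (hQ : IsPGroup p Q) (hsup : Q ⊔ Subgroup.centralizer (Q : Set G) = ⊤) :
    blockRank p (principalBlock M G) = blockRank p (principalBlock M (G ⧸ Q)) := by
  classical
  have := hM.2.1.isPrime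
  have := Fintype.ofFinite (IrrCharacter (G ⧸ Q))
  let L : (G ⧸ Q → ℂ) →ₗ[ℂ] (G → ℂ) :=
    LinearMap.pi fun g : G => regInd p g • (LinearMap.proj (g : G ⧸ Q) : (G ⧸ Q → ℂ) →ₗ[ℂ] ℂ)
  have hL : ∀ f g, L f g = regInd p g * f (g : G ⧸ Q) := fun f g => rfl
  have hLpart : ∀ ψ : IrrCharacter (G ⧸ Q), L (pRegularPart p (ψ : G ⧸ Q → ℂ)) =
      pRegularPart p ((quotIrrEquiv Q ψ).1 : G → ℂ) := by
    intro ψ
    funext g
    rw [hL, pRegularPart_eq_regInd_mul, pRegularPart_eq_regInd_mul]
    simp only [quotIrrEquiv_apply]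
    show regInd p g * (regInd p (g : G ⧸ Q) * (ψ : G ⧸ Q → ℂ) g) = _
    by_cases h : p ∣ orderOf g
    · simp [regInd_of_sing h]
    · rw [regInd_of_reg (reg_map (Q := Q) h), one_mul]
  have hmem : ∀ ψ : IrrCharacter (G ⧸ Q),
      ((quotIrrEquiv Q ψ).1 : IrrCharacter G) ∈ principalBlock M G ↔
        ψ ∈ principalBlock M (G ⧸ Q) := by
    intro ψ
    rw [mem_principalBlock_iff_regTotal hM, mem_principalBlock_iff_regTotal hM]
    unfold regTotal
    simp only [quotIrrEquiv_apply]
    rw [sum_reg hQ hsup]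
  set V := Submodule.span ℂ
    ((fun χ : IrrCharacter G => pRegularPart p (χ : G → ℂ)) '' principalBlock M G) with hV
  set W := Submodule.span ℂ ((fun χ : IrrCharacter (G ⧸ Q) =>
    pRegularPart p (χ : G ⧸ Q → ℂ)) '' principalBlock M (G ⧸ Q)) with hW
  have hWsupp : ∀ f ∈ W, ∀ x : G ⧸ Q, p ∣ orderOf x → f x = 0 := by
    intro f hf x hx
    induction hf using Submodule.span_induction with
    | mem y hy =>
      obtain ⟨ψ, -, rfl⟩ := hy
      simp [pRegularPart_eq_regInd_mul, regInd_of_sing hx]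
    | zero => rfl
    | add a b _ _ ha hb => simp [ha, hb]
    | smul c a _ ha => simp [ha]
  have hinj : Function.Injective (L.domRestrict W) := by
    rw [injective_iff_map_eq_zero]
    rintro ⟨f, hf⟩ h
    refine Subtype.ext (funext fun x => ?_)
    show f x = 0
    by_cases hx : p ∣ orderOf x
    · exact hWsupp f hf x hx
    · obtain ⟨g, hg, rfl⟩ := exists_reg_lift x hx
      have := congrFun h g
      rwa [LinearMap.domRestrict_apply, hL, regInd_of_reg hg, one_mul] at this
  have hmap : W.map L = V := by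
    apply le_antisymm
    · rw [hW, Submodule.map_span, Submodule.span_le]
      rintro _ ⟨_, ⟨ψ, hψ, rfl⟩, rfl⟩
      show L (pRegularPart p (ψ : G ⧸ Q → ℂ)) ∈ V
      rw [hLpart]
      exact Submodule.subset_span ⟨_, (hmem ψ).2 hψ, rfl⟩
    · rw [hV, Submodule.span_le]
      rintro _ ⟨χ, hχ, rfl⟩
      choose s hs hs' using fun x : {x : G ⧸ Q // ¬ p ∣ orderOf x} => exists_reg_lift x.1 x.2
      let f : G ⧸ Q → ℂ := fun x =>
        if h : ¬ p ∣ orderOf x then (χ : G → ℂ) (s ⟨x, h⟩) else 0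
      have hf : ∀ g : G, ¬ p ∣ orderOf g → f (g : G ⧸ Q) = (χ : G → ℂ) g := by
        intro g hg
        simp only [f, dif_pos (reg_map (Q := Q) hg)]
        exact congrArg _ (reg_lift_unique hQ hsup (hs _) hg (hs' _))
      have hfc : IsClassFunction (G ⧸ Q) f := by
        intro x y
        obtain ⟨b, rfl⟩ := QuotientGroup.mk_surjective y
        have ho : ∀ a : G, orderOf (b * a * b⁻¹) = orderOf a := fun a =>
          orderOf_injective (MulAut.conj b).toMonoidHom (MulAut.conj b).injective a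
        have hox : orderOf ((b : G ⧸ Q) * x * (b : G ⧸ Q)⁻¹) = orderOf x :=
          orderOf_injective (MulAut.conj (b : G ⧸ Q)).toMonoidHom
            (MulAut.conj (b : G ⧸ Q)).injective x
        by_cases hx : p ∣ orderOf x
        · simp [f, hx, hox]
        · obtain ⟨a, ha, rfl⟩ := exists_reg_lift x hx
          rw [← QuotientGroup.mk_mul, ← QuotientGroup.mk_inv, ← QuotientGroup.mk_mul,
            hf _ (by rwa [ho]), hf _ ha]
          exact CfsgLib.Char.irr_isClassFunction χ.2 a b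
      have hsupp : ∀ x, regInd p x * f x = f x := by
        intro x
        by_cases hx : p ∣ orderOf x
        · simp [f, hx]
        · simp [regInd_of_reg hx]
      have hexp : f = ∑ ψ : IrrCharacter (G ⧸ Q),
          classInner f (ψ : G ⧸ Q → ℂ) • pRegularPart p (ψ : G ⧸ Q → ℂ) := by
        funext x
        rw [Finset.sum_apply]
        conv_lhs => rw [← hsupp x, CfsgLib.Char.classFunction_apply_eq_sum hfc x, Finset.mul_sum]
        refine Finset.sum_congr rfl fun ψ _ => ?_
        rw [Pi.smul_apply, smul_eq_mul, pRegularPart_eq_regInd_mul]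
        ring
      have hfW : f ∈ W := by
        rw [hexp]
        refine Submodule.sum_mem _ fun ψ _ => ?_
        by_cases hψ : ψ ∈ principalBlock M (G ⧸ Q)
        · exact Submodule.smul_mem _ _ (Submodule.subset_span ⟨ψ, hψ, rfl⟩)
        · have h0 := CfsgLib.BlockA.regPair_eq_zero (p := p) hM isPBlock_principalBlock hχ
            (fun h => hψ ((hmem ψ).1 h))
          have hc : classInner f (ψ : G ⧸ Q → ℂ) = 0 := by
            rw [CfsgLib.Char.classInner_def]
            refine mul_eq_zero_of_right _ ?_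
            rw [← h0, regPair]
            rw [Finset.sum_congr rfl (fun x _ => by
              rw [← mul_assoc, hsupp x] : ∀ x ∈ (Finset.univ : Finset (G ⧸ Q)),
              f x * conj ((ψ : G ⧸ Q → ℂ) x) = regInd p x * (f x * conj ((ψ : G ⧸ Q → ℂ) x))),
              ← sum_reg hQ hsup]
            refine Finset.sum_congr rfl fun g _ => ?_
            by_cases hg : p ∣ orderOf g
            · simp [regInd_of_sing hg]
            · rw [hf g hg, ← CfsgLib.Char.char_inv (CfsgLib.Char.irr_isCharacter ψ.2),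
                quotIrrEquiv_apply, QuotientGroup.mk_inv]
              ring
          rw [hc, zero_smul]
          exact Submodule.zero_mem _
      refine ⟨f, hfW, funext fun g => ?_⟩
      show L f g = pRegularPart p (χ : G → ℂ) g
      rw [hL, pRegularPart_eq_regInd_mul]
      by_cases hg : p ∣ orderOf g
      · simp [regInd_of_sing hg]
      · rw [hf g hg]
  have hfin := LinearMap.finrank_range_of_inj hinj
  rw [LinearMap.range_domRestrict, hmap] at hfin
  exact hfin

/-- Let Q be a normal p-subgroup of the finite group G with G = Q·C_G(Q), and M a maximal ideal of the algebraic integers containing p. Then the principal p-blocks of G and of G/Q have the same p-regular rank (the same number of irreducible Brauer characters). -/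
theorem result {G : Type*} [Group G] [Finite G] (p : ℕ) [Fact p.Prime] (M : Ideal Cfsg.AlgInt) (hM : Cfsg.IsPModular p M) (Q : Subgroup G) [Q.Normal] (hQ : IsPGroup p Q) (hsup : Q ⊔ Subgroup.centralizer (Q : Set G) = ⊤) : Cfsg.blockRank p (Cfsg.principalBlock M G) = Cfsg.blockRank p (Cfsg.principalBlock M (G ⧸ Q)) := by
  classical
  have := Fintype.ofFinite G
  have := Fintype.ofFinite (G ⧸ Q)
  exact blockRank_eq hM hQ hsup

end Cfsg.Agent.S4571
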