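import Cfsg.Statements.S1161
import Cfsg.Agent.Lib.Perm.HalfTransOddPGroup
import Cfsg.Agent.Lib.Solvable.Fitting
import Cfsg.Agent.Lib.Solvable.HallHigman
import Cfsg.Agent.Lib.FT.OddOrder
import Mathlib.GroupTheory.SpecificGroups.ZGroup

set_option autoImplicit false
open Cfsg
open scoped commutatorElement

namespace Cfsg.Agent.S1161

/-- Let `D` be a finite group of odd order acting faithfully by additive automorphisms on a finite elementary abelian `q`-group `E ≠ 0` (`q` prime), transitively on `E ∖ {0}`. Then the Fitting subgroup `F(D)` is cyclic, its non-identity elements fix only `0`, and `D/F(D)` is abelian (the derived subgroup lies in `F(D)`). -/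
theorem result {D E : Type*} [Group D] [Finite D]
    [AddCommGroup E] [Finite E] [Nontrivial E] [DistribMulAction D E] [FaithfulSMul D E]
    (hodd : Odd (Nat.card D)) {q : ℕ} (hq : q.Prime) (hE : ∀ e : E, q • e = 0)
    (htrans : ∀ a b : E, a ≠ 0 → b ≠ 0 → ∃ d : D, d • a = b) :
    IsCyclic ↥(Cfsg.fittingSubgroup D) ∧
      (∀ g ∈ Cfsg.fittingSubgroup D, g ≠ 1 → ∀ a : E, g • a = a → a = 0) ∧
      commutator D ≤ Cfsg.fittingSubgroup D := by
  classical
  set F := Cfsg.fittingSubgroup D with hF
  have hFn : F.Normal := CfsgLib.Solvable.fittingSubgroup_normal D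
  have hFnil : Group.IsNilpotent F := CfsgLib.Solvable.fittingSubgroup_isNilpotent
  have : Fact q.Prime := ⟨hq⟩
  -- each Sylow subgroup of `F` is cyclic and semiregular
  have key : ∀ (p : ℕ) [Fact p.Prime] (N : Subgroup D), N.Normal → IsPGroup p N →
      IsCyclic N ∧ ∀ g ∈ N, g ≠ 1 → ∀ a : E, g • a = a → a = 0 := by
    intro p hp N hN hNp
    by_cases hN1 : N = ⊥
    · subst hN1
      exact ⟨inferInstance, fun g hg hg1 => absurd (Subgroup.mem_bot.mp hg) hg1⟩
    have hp2 : p ≠ 2 := by
      rintro rfl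
      obtain ⟨n, hn⟩ := hNp.exists_card_eq
      have hd : 2 ∣ Nat.card D := by
        refine Dvd.dvd.trans ?_ N.card_subgroup_dvd_card
        rcases Nat.eq_zero_or_pos n with h | h
        · exact absurd (Subgroup.card_eq_one.mp (by rw [hn, h, pow_zero])) hN1
        · rw [hn]; exact dvd_pow_self 2 h.ne'
      exact (Nat.not_even_iff_odd.mpr hodd) (even_iff_two_dvd.mpr hd)
    have hconst : ∀ u v : E, u ≠ 0 → v ≠ 0 →
        Nat.card (MulAction.stabilizer N u) = Nat.card (MulAction.stabilizer N v) := by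
      intro u v hu hv
      obtain ⟨d, hd⟩ := htrans u v hu hv
      refine Nat.card_congr ?_
      let e : N ≃ N := (MulEquiv.toEquiv (MulAut.conjNormal (H := N) d))
      refine e.subtypeEquiv fun x => ?_
      show (x : D) • u = u ↔ ((MulAut.conjNormal (H := N) d x : N) : D) • v = v
      rw [MulAut.conjNormal_apply, ← hd, mul_smul, mul_smul, inv_smul_smul, smul_left_cancel_iff]
    by_cases hpq : p = q
    · subst hpq
      -- a `q`-group fixes a nonzero vector, so all of them
      exfalso
      have hE' : IsPGroup p (Multiplicative E) := fun g =>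
        ⟨1, by rw [pow_one, ← ofAdd_toAdd g, ← ofAdd_nsmul, hE]; rfl⟩
      obtain ⟨n, hn⟩ := hE'.exists_card_eq
      have hdvd : p ∣ Nat.card E := by
        rcases Nat.eq_zero_or_pos n with h | h
        · rw [h, pow_zero] at hn
          exact absurd hn (Finite.one_lt_card (α := Multiplicative E)).ne'
        · exact hn.symm ▸ dvd_pow_self p h.ne'
      obtain ⟨b, hb, hb0⟩ := IsPGroup.exists_fixed_point_of_prime_dvd_card_of_fixed_point
        (p := p) hNp E hdvd (a := 0) (fun g => smul_zero g)
      refine hN1 ((Subgroup.eq_bot_iff_forall N).mpr fun g hg =>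
        FaithfulSMul.eq_of_smul_eq_smul (α := E) fun a => ?_)
      rw [one_smul]
      by_cases ha : a = 0
      · rw [ha, smul_zero]
      · obtain ⟨d, hd⟩ := htrans b a (Ne.symm hb0) ha
        have h2 : d⁻¹ * g * d ∈ N := by
          have := hN.conj_mem g hg d⁻¹
          rwa [inv_inv] at this
        have h3 : (d⁻¹ * g * d) • b = b := hb ⟨_, h2⟩
        rw [mul_smul, mul_smul, hd, inv_smul_eq_iff, hd] at h3
        exact h3
    have hpV : ∀ u : E, p • u = 0 → u = 0 := fun u hu => by
      have h1 : addOrderOf u ∣ p := addOrderOf_dvd_of_nsmul_eq_zero hu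
      have h2 : addOrderOf u ∣ q := addOrderOf_dvd_of_nsmul_eq_zero (hE u)
      exact AddMonoid.addOrderOf_eq_one_iff.mp
        (Nat.eq_one_of_dvd_coprimes ((Nat.coprime_primes hp.out hq).mpr hpq) h1 h2)
    have : FaithfulSMul N E :=
      ⟨fun {g h} hgh => Subtype.ext (FaithfulSMul.eq_of_smul_eq_smul fun a => hgh a)⟩
    obtain ⟨hc, hs⟩ := CfsgLib.Perm.HalfTransOdd.semiregular_of_coprime (V := E) hp2 hNp hpV hconst
    exact ⟨hc, fun g hg hg1 a ha => hs ⟨g, hg⟩ (fun e => hg1 (congrArg Subtype.val e)) a ha⟩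
  have hsyl : ∀ (p : ℕ) [Fact p.Prime] (P : Sylow p F),
      IsCyclic ((P : Subgroup F).map F.subtype) ∧
      ∀ g ∈ (P : Subgroup F).map F.subtype, g ≠ 1 → ∀ a : E, g • a = a → a = 0 := by
    intro p _ P
    have : (P : Subgroup F).Characteristic := P.characteristic_of_normal
      (Sylow.normal_of_normalizerCondition Group.normalizerCondition_of_isNilpotent P)
    exact key p _ inferInstance (P.isPGroup'.map _)
  have hsemi : ∀ g ∈ F, g ≠ 1 → ∀ a : E, g • a = a → a = 0 := by
    intro g hg hg1 a ha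
    obtain ⟨p, hp, hpd⟩ := Nat.exists_prime_and_dvd (fun e => hg1 (orderOf_eq_one_iff.mp e))
    have : Fact p.Prime := ⟨hp⟩
    set x := g ^ (orderOf g / p) with hx
    have hxo : orderOf x = p := orderOf_pow_orderOf_div (orderOf_pos g).ne' hpd
    have hxF : x ∈ F := pow_mem hg _
    have hxp : IsPGroup p (Subgroup.zpowers (⟨x, hxF⟩ : F)) := IsPGroup.of_card (n := 1)
      (by rw [Nat.card_zpowers, Subgroup.orderOf_mk, hxo, pow_one])
    obtain ⟨P, hP⟩ := hxp.exists_le_sylow
    refine (hsyl p P).2 x ⟨⟨x, hxF⟩, hP (Subgroup.mem_zpowers _), rfl⟩ ?_ a ?_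
    · intro e; rw [e, orderOf_one] at hxo; exact hp.ne_one hxo.symm
    · have hm : g ∈ MulAction.stabilizer D a := ha
      exact pow_mem hm (orderOf g / p)
  have hZ : IsZGroup F := ⟨fun p hp P => by
    have : Fact p.Prime := ⟨hp⟩
    have := (hsyl p P).1
    exact isCyclic_of_surjective
      ((P : Subgroup F).equivMapOfInjective _ F.subtype_injective).symm.toMonoidHom
      (MulEquiv.surjective _)⟩
  have hcyc : IsCyclic F := inferInstance
  refine ⟨hcyc, hsemi, ?_⟩
  have : Group.IsSolvable D := CfsgLib.FT.odd_order_solvable hodd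
  refine le_trans ?_ (CfsgLib.Solvable.centralizer_fittingSubgroup_le (G := D))
  rw [commutator_eq_closure, Subgroup.closure_le]
  rintro _ ⟨g, h, rfl⟩
  rw [SetLike.mem_coe, Subgroup.mem_centralizer_iff]
  intro x hx
  let φ : D →* MulAut F := MulAut.conjNormal
  have hcomm : ∀ u v : MulAut F, u * v = v * u := fun u v =>
    (IsCyclic.mulAutMulEquiv F).injective (by rw [map_mul, map_mul, mul_comm])
  have h1 : φ ⁅g, h⁆ = 1 := by
    rw [map_commutatorElement, commutatorElement_eq_one_iff_mul_comm]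
    exact hcomm _ _
  have h2 : ⁅g, h⁆ * x * ⁅g, h⁆⁻¹ = x := by
    have h4 := congrArg (fun u : MulAut F => ((u ⟨x, hx⟩ : F) : D)) h1
    simp only [φ, MulAut.conjNormal_apply, MulAut.one_apply] at h4
    exact h4
  exact (mul_inv_eq_iff_eq_mul.mp h2).symm

end Cfsg.Agent.S1161
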