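import Cfsg.Statements.S3360
import Cfsg.Agent.Lib.StructC.HuppertMain

set_option autoImplicit false
open Cfsg

namespace Cfsg.Agent.S3360

/-- Let q be a prime and V a non-trivial finite vector space over the field with q elements, and let G be a finite solvable group acting faithfully and linearly on V and transitively on the non-zero vectors. Then either V can be identified with the additive group of a finite field F in such a way that every element of G acts as x ↦ a·σ(x) for some a ∈ F and some field automorphism σ, or the number of elements of V is one of 3^2, 5^2, 7^2, 11^2, 23^2, 3^4. -/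
theorem result
    (q : ℕ) [Fact q.Prime] {V : Type*} [AddCommGroup V] [Module (ZMod q) V] [Finite V] [Nontrivial V]
    {G : Type*} [Group G] [Finite G] (hsol : Group.IsSolvable G)
    (ρ : G →* (V ≃ₗ[ZMod q] V)) (hρ : Function.Injective ρ)
    (htrans : ∀ v w : V, v ≠ 0 → w ≠ 0 → ∃ g : G, ρ g v = w) :
    (∃ (F : Type) (_ : Field F) (_ : Fintype F) (e : V ≃+ F),
        ∀ g : G, ∃ (a : F) (σ : F ≃+* F), ∀ v : V, e (ρ g v) = a * σ (e v)) ∨
    Nat.card V ∈ ({9, 25, 49, 121, 529, 81} : Set ℕ) := by
  classical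
  haveI : Group.IsSolvable G := hsol
  obtain ⟨n, hn0, hV⟩ : ∃ n, 0 < n ∧ Nat.card V = q ^ n := by
    refine ⟨Module.finrank (ZMod q) V, Module.finrank_pos, ?_⟩
    rw [Module.natCard_eq_pow_finrank (K := ZMod q), Nat.card_eq_fintype_card, ZMod.card]
  have hexp : ∀ v : V, q • v = 0 := fun v => by
    rw [← Nat.cast_smul_eq_nsmul (ZMod q), ZMod.natCast_self, zero_smul]
  let φ : G →* AddMonoid.End V :=
    { toFun := fun g => ((ρ g).toLinearMap.toAddMonoidHom : AddMonoid.End V)
      map_one' := by rw [map_one]; rfl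
      map_mul' := fun g h => by rw [map_mul]; rfl }
  have hφ : Function.Injective φ := fun g h e => hρ (LinearEquiv.ext fun v => DFunLike.congr_fun e v)
  rcases CfsgLib.StructC.Huppert.main φ hφ (Fact.out : q.Prime) hn0 hV hexp htrans with
    ⟨A, hAn, hA, hinj, hc⟩ | h
  · left
    haveI := hAn
    haveI : Finite (AddMonoid.End V) :=
      Finite.of_injective (fun f : AddMonoid.End V => (f : V → V)) DFunLike.coe_injective
    set L := CfsgLib.StructC.Huppert.gen φ A with hL
    obtain ⟨v₀, hv₀⟩ := exists_ne (0 : V)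
    let ev : L →+ V :=
      { toFun := fun l => (l : AddMonoid.End V) v₀, map_zero' := rfl, map_add' := fun _ _ => rfl }
    have hev : Function.Bijective ev := by
      refine (Nat.bijective_iff_injective_and_card ev).2 ⟨(injective_iff_map_eq_zero ev).2 fun l hl => ?_, by
        rw [hc, hV]⟩
      by_contra h
      exact hv₀ (hinj l l.2 (fun e => h (Subtype.ext e)) (hl.trans (map_zero _).symm))
    haveI : Nontrivial L := Finite.one_lt_card_iff_nontrivial.1
      (hc ▸ Nat.one_lt_pow hn0.ne' (Fact.out : q.Prime).one_lt)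
    have hfld : IsField L :=
      ⟨⟨0, 1, zero_ne_one⟩, fun a b => Subtype.ext (CfsgLib.StructC.Huppert.gen_comm φ A hA _ a.2 _ b.2),
        fun {a} ha => by
          obtain ⟨b, hb⟩ := (Finite.injective_iff_surjective.1 fun x y (h : a * x = a * y) => by
            refine Subtype.ext (DFunLike.ext _ _ fun v => hinj a a.2 (fun e => ha (Subtype.ext e)) ?_)
            exact DFunLike.congr_fun (congrArg Subtype.val h) v) 1
          exact ⟨b, hb⟩⟩
    letI : Field L := hfld.toField
    letI := Fintype.ofFinite L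
    letI := Fintype.ofFinite (GaloisField q n)
    let ψ : L ≃+* GaloisField q n := FiniteField.ringEquivOfCardEq (by
      rw [← Nat.card_eq_fintype_card, ← Nat.card_eq_fintype_card, hc, GaloisField.card q n hn0.ne'])
    let e₀ : L ≃+ V := AddEquiv.ofBijective ev hev
    refine ⟨GaloisField q n, inferInstance, inferInstance, e₀.symm.trans ψ.toAddEquiv, fun g => ?_⟩
    have hconj : ∀ g h : G, ∀ l : AddMonoid.End V,
        φ g * (φ h * l * φ h⁻¹) * φ g⁻¹ = φ (g * h) * l * φ (g * h)⁻¹ := fun g h l => by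
      rw [mul_inv_rev, map_mul, map_mul]; simp only [mul_assoc]
    let τ : L ≃+* L :=
      { toFun := fun l => ⟨φ g * l * φ g⁻¹, CfsgLib.StructC.Huppert.gen_conj φ A g l l.2⟩
        invFun := fun l => ⟨φ g⁻¹ * l * φ (g⁻¹)⁻¹, CfsgLib.StructC.Huppert.gen_conj φ A g⁻¹ l l.2⟩
        left_inv := fun l => Subtype.ext (by
          change φ g⁻¹ * (φ g * (l : AddMonoid.End V) * φ g⁻¹) * φ (g⁻¹)⁻¹ = _
          rw [hconj, inv_mul_cancel, map_one, inv_one, map_one, one_mul, mul_one])
        right_inv := fun l => Subtype.ext (by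
          change φ g * (φ g⁻¹ * (l : AddMonoid.End V) * φ (g⁻¹)⁻¹) * φ g⁻¹ = _
          rw [hconj, mul_inv_cancel, map_one, inv_one, map_one, one_mul, mul_one])
        map_mul' := fun a b => Subtype.ext (by
          change φ g * ((a : AddMonoid.End V) * b) * φ g⁻¹ = (φ g * a * φ g⁻¹) * (φ g * b * φ g⁻¹)
          rw [show φ g * (a : AddMonoid.End V) * φ g⁻¹ * (φ g * b * φ g⁻¹) =
            φ g * a * (φ g⁻¹ * φ g) * (b * φ g⁻¹) by simp only [mul_assoc], ← map_mul, inv_mul_cancel,
            map_one, mul_one]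
          simp only [mul_assoc])
        map_add' := fun a b => Subtype.ext (by
          change φ g * ((a : AddMonoid.End V) + b) * φ g⁻¹ = φ g * a * φ g⁻¹ + φ g * b * φ g⁻¹
          rw [mul_add, add_mul]) }
    let a₀ : L := e₀.symm (φ g v₀)
    refine ⟨ψ a₀, (ψ.symm.trans τ).trans ψ, fun v => ?_⟩
    obtain ⟨l, rfl⟩ := e₀.surjective v
    have key : ρ g (e₀ l) = e₀ (a₀ * τ l) := by
      rw [show a₀ * τ l = τ l * a₀ from mul_comm _ _]
      have ha : (a₀ : AddMonoid.End V) v₀ = φ g v₀ := e₀.apply_symm_apply _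
      change φ g ((l : AddMonoid.End V) v₀) = (φ g * l * φ g⁻¹) ((a₀ : AddMonoid.End V) v₀)
      rw [ha]
      change φ g ((l : AddMonoid.End V) v₀) = φ g ((l : AddMonoid.End V) (φ g⁻¹ (φ g v₀)))
      rw [CfsgLib.StructC.Huppert.conj_inv_apply φ g v₀]
    change ψ (e₀.symm (ρ g (e₀ l))) = ψ a₀ * ψ (τ (ψ.symm (ψ (e₀.symm (e₀ l)))))
    rw [key, e₀.symm_apply_apply, e₀.symm_apply_apply, ψ.symm_apply_apply, map_mul]
  · exact Or.inr (hV ▸ h)

end Cfsg.Agent.S3360
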