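import Cfsg.Statements.S0740
import Cfsg.Agent.Lib.Perm.Basic

set_option autoImplicit false
open Cfsg

namespace Cfsg.Agent.S0740

/-- In a finite Zassenhaus group any two points `a ≠ b` are swapped by an involution; every such involution has exactly one fixed point when the degree is odd and 0 or 2 fixed points when the degree is even; and if the two-point stabiliser has even order, some such involution has exactly 2 fixed points. -/
theorem result {G Ω : Type*} [Group G] [Finite G] [MulAction G Ω] [Fintype Ω] (hZ : Cfsg.IsZassenhausGroup G Ω) {a b : Ω} (hab : a ≠ b) : (∃ s : G, orderOf s = 2 ∧ s • a = b ∧ s • b = a) ∧ (∀ s : G, orderOf s = 2 → s • a = b → s • b = a → (Odd (Fintype.card Ω) → Nat.card (MulAction.fixedBy Ω s) = 1) ∧ (Even (Fintype.card Ω) → Nat.card (MulAction.fixedBy Ω s) = 0 ∨ Nat.card (MulAction.fixedBy Ω s) = 2)) ∧ (Even (Fintype.card Ω) → Even (Nat.card ↥(MulAction.stabilizer G a ⊓ MulAction.stabilizer G b)) → ∃ s : G, orderOf s = 2 ∧ s • a = b ∧ s • b = a ∧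 Nat.card (MulAction.fixedBy Ω s) = 2) := by
  obtain ⟨hf, h2t, h3, -, -⟩ := hZ
  haveI := hf
  classical
  have hmove : ∀ g : G, g ≠ 1 → ∃ c : Ω, g • c ≠ c := fun g hg => by
    by_contra h
    push Not at h
    exact hg (eq_of_smul_eq_smul fun c : Ω => by rw [h c, one_smul])
  have hconj : ∀ t : G, orderOf t = 2 → ∃ k : G, orderOf (k * t * k⁻¹) = 2 ∧ (k * t * k⁻¹) • a = b ∧ (k * t * k⁻¹) • b = a := by
    intro t ht
    obtain ⟨c, hc⟩ := hmove t (fun h => by rw [h, orderOf_one] at ht; omega)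
    have htt : t • t • c = c := by
      rw [smul_smul, ← pow_two, ← ht, pow_orderOf_eq_one, one_smul]
    obtain ⟨k, hk1, hk2⟩ := CfsgLib.Perm.exists_smul_pair h2t (Ne.symm hc) hab
    refine ⟨k, ?_, ?_, ?_⟩
    · rw [← MulAut.conj_apply, MulEquiv.orderOf_eq, ht]
    · rw [mul_smul, mul_smul, inv_smul_eq_iff.mpr hk1.symm, hk2]
    · rw [mul_smul, mul_smul, inv_smul_eq_iff.mpr hk2.symm, htt, hk1]
  have hswap : ∃ g : G, g • a = b ∧ g • b = a := by
    obtain ⟨g, h1, h2⟩ := CfsgLib.Perm.exists_smul_pair h2t hab (Ne.symm hab)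
    exact ⟨g, h1, h2⟩
  have heven : 2 ∣ Nat.card G := by
    obtain ⟨g, hga, hgb⟩ := hswap
    have hsq : ∀ j : ℕ, (g ^ (2 * j)) • a = a := fun j => by
      induction j with
      | zero => simp
      | succ j IH => rw [Nat.mul_succ, pow_add, mul_smul, pow_two, mul_smul, hga, hgb, IH]
    have h1 : 2 ∣ orderOf g := by
      rcases Nat.even_or_odd' (orderOf g) with ⟨j, hj | hj⟩
      · exact ⟨j, hj⟩
      · exfalso
        have := pow_orderOf_eq_one g
        have e := congrArg (fun x : G => x • b) this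
        simp only [hj, pow_succ, mul_smul, hgb, hsq, one_smul] at e
        exact hab e
    exact h1.trans (orderOf_dvd_natCard g)
  obtain ⟨t₀, ht₀⟩ := exists_prime_orderOf_dvd_card' (G := G) 2 heven
  have hle : ∀ s : G, orderOf s = 2 → Nat.card (MulAction.fixedBy Ω s) ≤ 2 := by
    intro s hs
    by_contra h
    rw [not_le, Nat.card_eq_fintype_card, Fintype.card_subtype] at h
    obtain ⟨x, hx, y, hy, z, hz, hxy, hxz, hyz⟩ := Finset.two_lt_card.mp h
    simp only [Finset.mem_filter, Finset.mem_univ, true_and, MulAction.mem_fixedBy] at hx hy hz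
    have := h3 s x y z hxy hyz hxz hx hy hz
    rw [this, orderOf_one] at hs
    omega
  have hpar : ∀ s : G, orderOf s = 2 → Nat.card (MulAction.fixedBy Ω s) % 2 = Fintype.card Ω % 2 := by
    intro s hs
    haveI : Fact (Nat.Prime 2) := ⟨Nat.prime_two⟩
    have hσ : (MulAction.toPermHom G Ω s) ^ 2 ^ 1 = 1 := by
      rw [pow_one, ← map_pow, ← hs, pow_orderOf_eq_one, map_one]
    have h1 := Equiv.Perm.card_compl_support_modEq (p := 2) hσ
    have e : Nat.card (MulAction.fixedBy Ω s) = (MulAction.toPermHom G Ω s).supportᶜ.card := by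
      rw [Nat.card_eq_fintype_card, Fintype.card_subtype]
      congr 1
      ext x
      simp [MulAction.mem_fixedBy, Equiv.Perm.mem_support]
    rw [e]; exact h1
  obtain ⟨k₀, hk₀⟩ := hconj t₀ ht₀
  refine ⟨⟨_, hk₀⟩, fun s hs _ _ => ⟨fun ho => ?_, fun he => ?_⟩, fun he hD => ?_⟩
  · have := hle s hs
    have := hpar s hs
    rw [Nat.odd_iff] at ho
    omega
  · have := hle s hs
    have := hpar s hs
    rw [Nat.even_iff] at he
    omega
  obtain ⟨⟨t, hta, htb⟩, ht⟩ := exists_prime_orderOf_dvd_card' (G := ↥(MulAction.stabilizer G a ⊓ MulAction.stabilizer G b)) 2 hD.two_dvd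
  have ht' : orderOf t = 2 := (Subgroup.orderOf_mk (H := MulAction.stabilizer G a ⊓ MulAction.stabilizer G b) t ⟨hta, htb⟩).symm.trans ht
  obtain ⟨k, hk, hka, hkb⟩ := hconj t ht'
  refine ⟨_, hk, hka, hkb, le_antisymm (hle _ hk) ?_⟩
  rw [Nat.card_eq_fintype_card, Fintype.card_subtype]
  refine Finset.one_lt_card.mpr ⟨k • a, ?_, k • b, ?_, fun e => hab (MulAction.injective k e)⟩
  · simp only [Finset.mem_filter, Finset.mem_univ, true_and, MulAction.mem_fixedBy, mul_smul, inv_smul_smul]
    exact congrArg (k • ·) hta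
  · simp only [Finset.mem_filter, Finset.mem_univ, true_and, MulAction.mem_fixedBy, mul_smul, inv_smul_smul]
    exact congrArg (k • ·) htb

end Cfsg.Agent.S0740
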