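import Cfsg.Statements.S0739
import Cfsg.Agent.Lib.Perm.Basic
import Cfsg.Agent.S0740
import Cfsg.Agent.Lib.Solvable.FrobeniusComplement
import Cfsg.Agent.Lib.Coprime.Sylow
import Cfsg.Agent.Lib.Coprime.Generation
import Mathlib.GroupTheory.SpecificGroups.ZGroup
import Mathlib.GroupTheory.SpecificGroups.Quaternion
import Mathlib.GroupTheory.FixedPointFree
import Mathlib.GroupTheory.Transfer

set_option autoImplicit false
open Cfsg

namespace Cfsg.Agent.S0739

/-- In a finite Zassenhaus group whose two-point stabiliser `H = G_{a,b}` has odd order `d`, and which has no normal `q`-complement for any prime `q ∣ d`, `H` is cyclic, `C_G(H) = H`, and every element swapping `a` and `b` inverts each element of `H`. -/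
theorem result {G Ω : Type*} [Group G] [Finite G] [MulAction G Ω] [Fintype Ω] (hZ : Cfsg.IsZassenhausGroup G Ω) {a b : Ω} (hab : a ≠ b) (hodd : Odd (Nat.card ↥(MulAction.stabilizer G a ⊓ MulAction.stabilizer G b))) (hnil : ∀ q : ℕ, q.Prime → q ∣ Nat.card ↥(MulAction.stabilizer G a ⊓ MulAction.stabilizer G b) → ¬ ∃ N : Subgroup G, N.Normal ∧ N.index = q ^ (Nat.card G).factorization q) : IsCyclic ↥(MulAction.stabilizer G a ⊓ MulAction.stabilizer G b) ∧ Subgroup.centralizer ((MulAction.stabilizer G a ⊓ MulAction.stabilizer G b : Subgroup G) : Set G) = MulAction.stabilizer G a ⊓ MulAction.stabilizer G b ∧ ∀ s : G, s • a = b → s • b = a → ∀ h ∈ MulAction.stabilizer G a ⊓ MulAction.stabilizer G b, s * h * s⁻¹ = h⁻¹ := by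
  classical
  obtain ⟨⟨s, hso, hsa, hsb⟩, -, -⟩ := Cfsg.Agent.S0740.result hZ hab
  obtain ⟨hf, h2t, h3, ⟨g₀, hg₀, c₀, d₀, hcd, hg₀c, hg₀d⟩, -⟩ := hZ
  haveI := hf
  set H : Subgroup G := MulAction.stabilizer G a ⊓ MulAction.stabilizer G b with hH
  have hss : s * s = 1 := by rw [← pow_two, ← hso, pow_orderOf_eq_one]
  have hsH : ∀ k ∈ H, s * k * s⁻¹ ∈ H := fun k hk => by
    refine ⟨?_, ?_⟩
    · show (s * k * s⁻¹) • a = a
      rw [mul_smul, mul_smul, inv_smul_eq_iff.mpr hsb.symm, show k • b = b from hk.2, hsb]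
    · show (s * k * s⁻¹) • b = b
      rw [mul_smul, mul_smul, inv_smul_eq_iff.mpr hsa.symm, show k • a = a from hk.1, hsa]
  -- `H` is nontrivial
  obtain ⟨k₀, hk₀, hk₀1⟩ : ∃ k ∈ H, k ≠ 1 := by
    obtain ⟨t, ht1, ht2⟩ := CfsgLib.Perm.exists_smul_pair h2t hcd hab
    refine ⟨t * g₀ * t⁻¹, ⟨?_, ?_⟩, fun e => hg₀ (by rwa [conj_eq_one_iff] at e)⟩
    · show (t * g₀ * t⁻¹) • a = a
      rw [mul_smul, mul_smul, inv_smul_eq_iff.mpr ht1.symm, hg₀c, ht1]
    · show (t * g₀ * t⁻¹) • b = b
      rw [mul_smul, mul_smul, inv_smul_eq_iff.mpr ht2.symm, hg₀d, ht2]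
  obtain ⟨w, hwa, hwb⟩ : ∃ w : Ω, w ≠ a ∧ w ≠ b := by
    by_contra h
    push Not at h
    refine hk₀1 (eq_of_smul_eq_smul fun x : Ω => ?_)
    rw [one_smul]
    by_cases hx : x = a
    · rw [hx]; exact hk₀.1
    · rw [h x hx]; exact hk₀.2
  -- an element fixed by conjugation into `H` fixes or swaps `a` and `b`
  have hfix2 : ∀ k ∈ H, k ≠ 1 → ∀ x : Ω, k • x = x → x = a ∨ x = b := by
    intro k hk hk1 x hx
    by_contra h
    push Not at h
    exact hk1 (h3 k a b x hab (Ne.symm h.2) (Ne.symm h.1) hk.1 hk.2 hx)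
  have hN : ∀ K : Subgroup G, K ≤ H → K ≠ ⊥ → ∀ g ∈ Subgroup.normalizer (K : Set G),
      g ∈ H ∨ g • a = b ∧ g • b = a := by
    intro K hKH hK g hg
    obtain ⟨⟨k, hk⟩, hk1⟩ := Subgroup.ne_bot_iff_exists_ne_one.mp hK
    have hk1' : k ≠ 1 := fun e => hk1 (Subtype.ext e)
    have hmem : g⁻¹ * k * g ∈ H := hKH ((Subgroup.mem_normalizer_iff''.mp hg k).mp hk)
    have hh : ∀ x : Ω, (g⁻¹ * k * g) • x = x → g • x = a ∨ g • x = b := by
      intro x hx
      refine hfix2 k (hKH hk) hk1' _ ?_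
      rw [mul_smul, mul_smul, inv_smul_eq_iff] at hx
      exact hx
    rcases hh a hmem.1 with h1 | h1 <;> rcases hh b hmem.2 with h2 | h2
    · exact absurd (MulAction.injective g (h1.trans h2.symm)) hab
    · exact Or.inl ⟨h1, h2⟩
    · exact Or.inr ⟨h1, h2⟩
    · exact absurd (MulAction.injective g (h1.trans h2.symm)) hab
  -- `H` is a Z-group
  haveI hZG : IsZGroup H := by
    let Ga : Subgroup G := MulAction.stabilizer G a
    have hle : H ≤ Ga := inf_le_left
    have hFC : Cfsg.IsFrobeniusComplement (H.subgroupOf Ga) := by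
      refine ⟨fun e => hk₀1 ?_, fun e => ?_, fun g hg => ?_⟩
      · have : (⟨k₀, hk₀.1⟩ : Ga) ∈ H.subgroupOf Ga := Subgroup.mem_subgroupOf.mpr hk₀
        rw [e, Subgroup.mem_bot] at this
        exact congrArg Subtype.val this
      · obtain ⟨t, t1, t2⟩ := CfsgLib.Perm.exists_smul_pair h2t hab (Ne.symm hwa)
        have : (⟨t, t1⟩ : Ga) ∈ H.subgroupOf Ga := e ▸ Subgroup.mem_top _
        exact hwb (t2.symm.trans (Subgroup.mem_subgroupOf.mp this).2)
      · rw [eq_bot_iff]
        rintro ⟨k, hka⟩ ⟨hk, hkg⟩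
        rw [Subgroup.mem_bot]
        refine Subtype.ext ?_
        show k = 1
        by_contra hk1
        replace hkg := Subgroup.mem_pointwise_smul_iff_inv_smul_mem.mp hkg
        rw [MulAut.smul_def, MulAut.inv_apply, MulAut.conj_symm_apply] at hkg
        have h' : ((g : G)⁻¹ * k * g) • b = b := (Subgroup.mem_subgroupOf.mp hkg).2
        rw [mul_smul, mul_smul, inv_smul_eq_iff] at h'
        rcases hfix2 k (Subgroup.mem_subgroupOf.mp hk) hk1 _ h' with h | h
        · exact hab (MulAction.injective (g : G) ((show (g : G) • a = a from g.2).trans h.symm))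
        · exact hg (Subgroup.mem_subgroupOf.mpr ⟨g.2, h⟩)
    obtain ⟨V, φ, hV, hVne, -, hfpf⟩ := CfsgLib.Solvable.exists_fpf_abelian hFC
    let _ : CommGroup V := { (inferInstance : Group V) with mul_comm := hV.1.1 }
    haveI : Nontrivial V := (Subgroup.nontrivial_iff_ne_bot V).mpr hVne
    have hcard : Nat.card (H.subgroupOf Ga) = Nat.card H := Nat.card_congr (Subgroup.subgroupOfEquivOfLe hle).toEquiv
    haveI : IsZGroup (H.subgroupOf Ga) := by
      refine ⟨fun p hp P => ?_⟩
      haveI := Fact.mk hp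
      refine (CfsgLib.Solvable.isCyclic_or_quaternion_of_fpf φ hfpf P).resolve_right ?_
      rintro ⟨-, n, ⟨e⟩⟩
      have h1 : Nat.card P ∣ Nat.card H := hcard ▸ Subgroup.card_subgroup_dvd_card (P : Subgroup (H.subgroupOf Ga))
      rw [Nat.card_congr e.toEquiv, Nat.card_eq_fintype_card, QuaternionGroup.card] at h1
      exact Nat.not_even_iff_odd.mpr hodd (even_iff_two_dvd.mpr ((dvd_mul_right 2 (2 * 2 ^ n)).trans (by rwa [← mul_assoc])))
    exact IsZGroup.of_injective (f := (Subgroup.subgroupOfEquivOfLe hle).symm.toMonoidHom) (Subgroup.subgroupOfEquivOfLe hle).symm.injective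
  -- order of `G`
  have hGcard : Nat.card G = Nat.card H * (Fintype.card Ω * (Fintype.card Ω - 1)) := by
    haveI := h2t
    have e1 : H = MulAction.stabilizer G (a, b) := by
      ext g
      show g • a = a ∧ g • b = b ↔ g • (a, b) = (a, b)
      rw [Prod.smul_mk, Prod.mk_inj]
    have e2 : MulAction.orbit G (a, b) = ((Finset.univ : Finset Ω).offDiag : Set (Ω × Ω)) := by
      ext ⟨x, y⟩
      constructor
      · rintro ⟨g, hg⟩
        obtain ⟨rfl, rfl⟩ := Prod.mk_inj.mp hg
        simp [hab]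
      · intro h
        obtain ⟨g, g1, g2⟩ := CfsgLib.Perm.exists_smul_pair h2t hab (Finset.mem_offDiag.mp h).2.2
        exact ⟨g, Prod.ext g1 g2⟩
    rw [← Subgroup.card_mul_index H]
    congr 1
    rw [e1, MulAction.index_stabilizer, e2, Set.ncard_coe_finset, Finset.offDiag_card, Finset.card_univ, Nat.mul_sub, mul_one]
  -- elements of `H` commuting with `s`
  have hM : H ⊓ Subgroup.centralizer ({s} : Set G) = ⊥ := by
    by_contra hne
    set M : Subgroup G := H ⊓ Subgroup.centralizer ({s} : Set G) with hMdef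
    have hMH : M ≤ H := inf_le_left
    haveI : IsZGroup M := IsZGroup.of_injective (f := Subgroup.inclusion hMH) (Subgroup.inclusion_injective hMH)
    haveI : Nontrivial M := (Subgroup.nontrivial_iff_ne_bot M).mpr hne
    obtain ⟨q, hq, hqi⟩ := Nat.exists_prime_and_dvd (fun e => (IsZGroup.commutator_lt M).ne (Subgroup.index_eq_one.mp e))
    haveI := Fact.mk hq
    have hqM : q ∣ Nat.card M := hqi.trans (Subgroup.index_dvd_card _)
    have hqH : q ∣ Nat.card H := hqM.trans (Subgroup.card_dvd_of_le hMH)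
    obtain ⟨Q₀⟩ : Nonempty (Sylow q M) := inferInstance
    set U : Subgroup G := (Q₀ : Subgroup M).map M.subtype with hU
    have hUne : U ≠ ⊥ := by
      rw [hU, Ne, Subgroup.map_eq_bot_iff_of_injective _ M.subtype_injective]
      exact Q₀.ne_bot_of_dvd_card hqM
    have hUM : U ≤ M := Subgroup.map_subtype_le _
    set A : Subgroup G := Subgroup.zpowers s with hA
    have hAH : A ≤ Subgroup.normalizer (H : Set G) := by
      rw [hA, Subgroup.zpowers_le, Subgroup.mem_normalizer_iff]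
      refine fun k => ⟨hsH k, fun h => ?_⟩
      have h' := hsH _ h
      rwa [show s * (s * k * s⁻¹) * s⁻¹ = (s * s) * k * (s * s)⁻¹ by group, hss, inv_one, one_mul, mul_one] at h'
    have hAU : A ≤ Subgroup.normalizer (U : Set G) := by
      rw [hA, Subgroup.zpowers_le]
      refine Subgroup.centralizer_le_normalizer _ (Subgroup.mem_centralizer_iff.mpr fun u hu => ?_)
      exact Subgroup.mem_centralizer_singleton_iff.mp (hUM hu).2
    have hcop : (Nat.card A).Coprime (Nat.card H) := by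
      rw [hA, Nat.card_zpowers, hso]
      exact Nat.coprime_two_left.mpr hodd
    obtain ⟨P, hUP, hAP⟩ := CfsgLib.Coprime.exists_invariant_sylow_ge hAH hcop (Or.inr inferInstance)
      (Q₀.2.map _) (hUM.trans hMH) hAU
    set Q : Subgroup G := (P : Subgroup H).map H.subtype with hQ
    have hQH : Q ≤ H := Subgroup.map_subtype_le _
    haveI : IsCyclic Q := isCyclic_of_surjective _ (H.subtype.subgroupMap_surjective (P : Subgroup H))
    have hQp : IsPGroup q Q := P.2.map _
    have hcop' : (Nat.card A).Coprime (Nat.card Q) := hcop.coprime_dvd_right (Subgroup.card_dvd_of_le hQH)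
    -- `s` centralises `Q`
    have hsQ : ∀ u ∈ Q, s * u = u * s := by
      rcases hQp.commutator_eq_bot_or_commutator_eq_self hAP hcop'.symm with h | h
      · intro u hu
        exact ((Subgroup.mem_centralizer_iff.mp ((Subgroup.commutator_eq_bot_iff_le_centralizer.mp h) (Subgroup.mem_zpowers s))) u hu).symm
      · exfalso
        refine hUne (le_bot_iff.mp ?_)
        rw [← CfsgLib.Coprime.commutator_inf_centralizer_eq_bot (A := A) (V := Q) inferInstance hAP hcop', Subgroup.commutator_comm, h]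
        refine le_inf hUP fun u hu => Subgroup.mem_centralizer_iff.mpr ?_
        rintro _ ⟨i, rfl⟩
        exact ((show Commute s u from (Subgroup.mem_centralizer_singleton_iff.mp (hUM hu).2).symm).zpow_left i).eq
    have hQM : Q ≤ M := fun u hu => ⟨hQH hu, Subgroup.mem_centralizer_singleton_iff.mpr (hsQ u hu).symm⟩
    have hQU : Q = U := by
      have h1 : Q.subgroupOf M = (Q₀ : Subgroup M) := Q₀.3 (hQp.comap_subtype) (fun u hu => hUP ⟨u, hu, rfl⟩)
      rw [hU, ← h1, Subgroup.subgroupOf_map_subtype, inf_eq_left.mpr hQM]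
    -- `Q` is a Sylow subgroup of `G`
    have hn : ¬ q ∣ Fintype.card Ω * (Fintype.card Ω - 1) := by
      intro hdvd
      have hQne : Q ≠ ⊥ := hQU ▸ hUne
      obtain ⟨⟨u, hu⟩, hu1⟩ := Subgroup.ne_bot_iff_exists_ne_one.mp hQne
      haveI : Finite Ω := Finite.of_fintype Ω
      have h1 := hQp.card_modEq_card_fixedPoints Ω
      have h2 : MulAction.fixedPoints Q Ω = {a, b} := by
        ext x
        refine ⟨fun hx => hfix2 u (hQH hu) (fun e => hu1 (Subtype.ext e)) x (hx ⟨u, hu⟩), ?_⟩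
        rintro (rfl | rfl) ⟨v, hv⟩
        · exact (hQH hv).1
        · exact (hQH hv).2
      rw [Nat.card_eq_fintype_card, Nat.card_coe_set_eq, h2, Set.ncard_pair hab] at h1
      have hq2 : q ≠ 2 := fun e => Nat.not_even_iff_odd.mpr hodd (even_iff_two_dvd.mpr (e ▸ hqH))
      have h3q : 2 < q := lt_of_le_of_ne hq.two_le (Ne.symm hq2)
      have h4 : Fintype.card Ω % q = 2 := by rw [h1, Nat.mod_eq_of_lt h3q]
      rcases (Nat.Prime.dvd_mul hq).mp hdvd with h | h
      · rw [Nat.mod_eq_zero_of_dvd h] at h4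
        omega
      · have h5 : Fintype.card Ω = Fintype.card Ω - 1 + 1 := by
          have := Fintype.card_pos_iff.mpr ⟨a⟩
          omega
        rw [h5, Nat.add_mod, Nat.mod_eq_zero_of_dvd h, zero_add, Nat.mod_mod, Nat.mod_eq_of_lt hq.one_lt] at h4
        omega
    have hQcard : Nat.card Q = q ^ (Nat.card G).factorization q := by
      rw [hQ, Subgroup.card_map_of_injective H.subtype_injective, P.card_eq_multiplicity, hGcard,
        Nat.factorization_mul Nat.card_pos.ne' (fun e => hn (by rw [e]; exact dvd_zero q)), Finsupp.add_apply,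
        Nat.factorization_eq_zero_of_not_dvd hn, add_zero]
    let S : Sylow q G := Sylow.ofCard Q hQcard
    have hSQ : (S : Subgroup G) = Q := rfl
    obtain ⟨g, hg, hgc⟩ : ∃ g, g ∈ Subgroup.normalizer (Q : Set G) ∧ g ∉ Subgroup.centralizer (Q : Set G) := by
      by_contra h
      push Not at h
      have hP : Subgroup.normalizer (S : Set G) ≤ Subgroup.centralizer (S : Set G) := fun x hx => h x hx
      haveI : IsMulCommutative (S : Subgroup G) := inferInstanceAs (IsMulCommutative Q)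
      exact hnil q hq hqH ⟨_, MonoidHom.normal_ker _,
        ((MonoidHom.ker_transferSylow_isComplement' S hP).symm.index_eq_card).trans hQcard⟩
    obtain ⟨x, hxH, hxn, hxc⟩ : ∃ x ∈ H, x ∈ Subgroup.normalizer (Q : Set G) ∧ x ∉ Subgroup.centralizer (Q : Set G) := by
      rcases hN Q hQH (hQU ▸ hUne) g hg with h | ⟨h1, h2⟩
      · exact ⟨g, h, hg, hgc⟩
      have hsc : s ∈ Subgroup.centralizer (Q : Set G) := Subgroup.mem_centralizer_iff.mpr fun u hu => (hsQ u hu).symm
      refine ⟨s⁻¹ * g, ⟨?_, ?_⟩, mul_mem (inv_mem (Subgroup.centralizer_le_normalizer _ hsc)) hg, fun h => hgc ?_⟩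
      · show (s⁻¹ * g) • a = a
        rw [mul_smul, h1, inv_smul_eq_iff, hsa]
      · show (s⁻¹ * g) • b = b
        rw [mul_smul, h2, inv_smul_eq_iff, hsb]
      · simpa using mul_mem hsc h
    set d := x⁻¹ * (s * x * s⁻¹) with hd
    have hdH : d ∈ H := H.mul_mem (H.inv_mem hxH) (hsH x hxH)
    have hdc : d ∈ Subgroup.centralizer (Q : Set G) := by
      refine Subgroup.mem_centralizer_iff.mpr fun v hv => ?_
      have hv' : x * v * x⁻¹ ∈ Q := (Subgroup.mem_normalizer_iff.mp hxn v).mp hv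
      have e : d * v * d⁻¹ = v := by
        calc d * v * d⁻¹ = x⁻¹ * (s * (x * ((s⁻¹ * v) * s) * x⁻¹) * s⁻¹) * x := by rw [hd]; group
          _ = x⁻¹ * ((s * (x * v * x⁻¹)) * s⁻¹) * x := by
              rw [show s⁻¹ * v * s = v by rw [mul_assoc, ← hsQ v hv, inv_mul_cancel_left]]
          _ = v := by rw [hsQ _ hv']; group
      exact (mul_inv_eq_iff_eq_mul.mp e).symm
    have hds : s * d * s⁻¹ = d⁻¹ := by
      calc s * d * s⁻¹ = (s * x⁻¹ * s⁻¹) * ((s * s) * x * (s * s)⁻¹) := by rw [hd]; group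
        _ = d⁻¹ := by rw [hss, hd]; group
    obtain ⟨j, hj⟩ : ∃ j, orderOf d = 2 * j + 1 := by
      have h1 : orderOf d ∣ Nat.card H := Subgroup.orderOf_mk d hdH ▸ orderOf_dvd_natCard (⟨d, hdH⟩ : H)
      exact hodd.of_dvd_nat h1
    have he : d ^ (j + 1) * d ^ (j + 1) = d := by
      rw [← pow_add, show j + 1 + (j + 1) = orderOf d + 1 by omega, pow_succ, pow_orderOf_eq_one, one_mul]
    have hes : s * (x * d ^ (j + 1)) * s⁻¹ = x * d ^ (j + 1) := by
      have e1 : s * d ^ (j + 1) * s⁻¹ = (d ^ (j + 1))⁻¹ := by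
        rw [← conj_pow, hds, inv_pow]
      calc s * (x * d ^ (j + 1)) * s⁻¹ = (s * x * s⁻¹) * (s * d ^ (j + 1) * s⁻¹) := by group
        _ = x * d * (d ^ (j + 1))⁻¹ := by rw [e1, hd, mul_inv_cancel_left]
        _ = x * (d ^ (j + 1) * d ^ (j + 1)) * (d ^ (j + 1))⁻¹ := by rw [he]
        _ = x * d ^ (j + 1) := by rw [mul_assoc, mul_inv_cancel_right]
    set x' := x * d ^ (j + 1) with hx'
    have hx'M : x' ∈ M := ⟨H.mul_mem hxH (H.pow_mem hdH _),
      Subgroup.mem_centralizer_singleton_iff.mpr (mul_inv_eq_iff_eq_mul.mp hes).symm⟩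
    have hx'n : x' ∈ Subgroup.normalizer (Q : Set G) :=
      mul_mem hxn (pow_mem (Subgroup.centralizer_le_normalizer _ hdc) _)
    rcases Sylow.normalizer_le_centralizer_or_le_commutator Q₀ with h | h
    · refine hxc ?_
      have hm : (⟨x', hx'M⟩ : M) ∈ Subgroup.normalizer ((Q₀ : Subgroup M) : Set M) := by
        rw [Subgroup.mem_normalizer_iff]
        intro u
        have := Subgroup.mem_normalizer_iff.mp hx'n (u : G)
        rw [hQU, hU] at this
        rwa [show (u : G) = M.subtype u from rfl,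
          show x' * M.subtype u * x'⁻¹ = M.subtype (⟨x', hx'M⟩ * u * (⟨x', hx'M⟩ : M)⁻¹) from rfl,
          Subgroup.mem_map_iff_mem M.subtype_injective, Subgroup.mem_map_iff_mem M.subtype_injective] at this
      have hc := h hm
      have hxc' : x' ∈ Subgroup.centralizer (Q : Set G) := by
        refine Subgroup.mem_centralizer_iff.mpr fun v hv => ?_
        rw [SetLike.mem_coe, hQU, hU, Subgroup.mem_map] at hv
        obtain ⟨u, hu, rfl⟩ := hv
        exact congrArg Subtype.val (Subgroup.mem_centralizer_iff.mp hc u hu)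
      simpa [hx'] using mul_mem hxc' (inv_mem (pow_mem hdc (j + 1)))
    · exact Q₀.not_dvd_index (hqi.trans (Subgroup.index_dvd_of_le h))
  -- so `s` inverts `H`
  let φ : H →* H :=
    { toFun := fun k => ⟨s * k * s⁻¹, hsH k k.2⟩
      map_one' := Subtype.ext (by simp)
      map_mul' := fun u v => Subtype.ext (by simp only [Subgroup.coe_mul]; group) }
  have hφ : MonoidHom.FixedPointFree φ := by
    intro k hk
    have e : s * k * s⁻¹ = k := congrArg Subtype.val hk
    have hm : (k : G) ∈ H ⊓ Subgroup.centralizer ({s} : Set G) :=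
      ⟨k.2, Subgroup.mem_centralizer_singleton_iff.mpr (mul_inv_eq_iff_eq_mul.mp e).symm⟩
    rw [hM, Subgroup.mem_bot] at hm
    exact Subtype.ext hm
  have hφ2 : Function.Involutive φ := fun k => Subtype.ext (by
    show s * (s * k * s⁻¹) * s⁻¹ = k
    rw [show s * (s * k * s⁻¹) * s⁻¹ = (s * s) * k * (s * s)⁻¹ by group, hss, inv_one, one_mul, mul_one])
  have hinv : ∀ k ∈ H, s * k * s⁻¹ = k⁻¹ := fun k hk =>
    congrArg Subtype.val (congrFun (hφ.coe_eq_inv_of_involutive hφ2) ⟨k, hk⟩)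
  have hcomm : ∀ u v : H, Commute u v := hφ.commute_all_of_involutive hφ2
  have hall : ∀ s' : G, s' • a = b → s' • b = a → ∀ k ∈ H, s' * k * s'⁻¹ = k⁻¹ := by
    intro s' h1 h2 k hk
    have hm : s⁻¹ * s' ∈ H := by
      refine ⟨?_, ?_⟩
      · show (s⁻¹ * s') • a = a
        rw [mul_smul, h1, inv_smul_eq_iff, hsa]
      · show (s⁻¹ * s') • b = b
        rw [mul_smul, h2, inv_smul_eq_iff, hsb]
    have e : s⁻¹ * s' * k = k * (s⁻¹ * s') := congrArg Subtype.val (hcomm ⟨_, hm⟩ ⟨k, hk⟩)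
    calc s' * k * s'⁻¹ = s * (s⁻¹ * s' * k * (s⁻¹ * s')⁻¹) * s⁻¹ := by group
      _ = s * k * s⁻¹ := by rw [e, mul_inv_cancel_right]
      _ = k⁻¹ := hinv k hk
  refine ⟨?_, le_antisymm (fun g hg => ?_) ?_, hall⟩
  · haveI : Group.IsNilpotent H := by
      let _ : CommGroup H := { (inferInstance : Group H) with mul_comm := hcomm }
      exact CommGroup.isNilpotent
    infer_instance
  · have hHne : H ≠ ⊥ := fun e => hk₀1 (Subgroup.mem_bot.mp (e ▸ hk₀))
    rcases hN H le_rfl hHne g (Subgroup.centralizer_le_normalizer _ hg) with h | ⟨h1, h2⟩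
    · exact h
    exfalso
    have e : g * k₀ * g⁻¹ = k₀ := by rw [mul_inv_eq_iff_eq_mul]; exact (Subgroup.mem_centralizer_iff.mp hg k₀ hk₀).symm
    rw [hall g h1 h2 k₀ hk₀] at e
    have h3' : orderOf k₀ ∣ 2 := orderOf_dvd_of_pow_eq_one (by rw [pow_two]; exact mul_eq_one_iff_eq_inv.mpr e.symm)
    have h4 : orderOf k₀ ∣ Nat.card H := Subgroup.orderOf_mk k₀ hk₀ ▸ orderOf_dvd_natCard (⟨k₀, hk₀⟩ : H)
    exact hk₀1 (orderOf_eq_one_iff.mp (Nat.eq_one_of_dvd_coprimes (Nat.coprime_two_left.mpr hodd) h3' h4))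
  · exact fun g hg => Subgroup.mem_centralizer_iff.mpr fun k hk => congrArg Subtype.val (hcomm ⟨k, hk⟩ ⟨g, hg⟩)

end Cfsg.Agent.S0739
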