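import Cfsg.Statements.S0728
import Cfsg.Agent.Lib.Perm.Basic
import Mathlib.Tactic.FinCases
import Mathlib.GroupTheory.Perm.Cycle.Type
import Mathlib.Data.Finset.Prod

set_option autoImplicit false
open Cfsg

namespace Cfsg.Agent.S0728

theorem eq_or_eq_of_mem {G : Type*} [Group G] [Fintype G] [DecidableEq G] {A : Subgroup G} (hA : Nat.card A = 3)
    (g : G) (h : g ∈ A) (hg : g ≠ 1) : orderOf g = 3 := by
  haveI : Fact (Nat.Prime 3) := ⟨Nat.prime_three⟩
  refine orderOf_eq_prime ?_ hg
  have h1 : (⟨g, h⟩ : A) ^ 3 = 1 := by rw [← hA]; exact pow_card_eq_one'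
  exact congrArg Subtype.val h1

/-- In a sharply triply transitive group of even degree at least 6 (degree `q + 1`, `q` odd), a two-point stabiliser has at most one subgroup of order 3. -/
theorem result {α : Type*} [Fintype α] [DecidableEq α] (heven : Even (Fintype.card α)) (h6 : 6 ≤ Fintype.card α) (G : Subgroup (Equiv.Perm α)) (h3 : MulAction.IsMultiplyPretransitive G α 3) (hsharp : ∀ x : Fin 3 ↪ α, MulAction.stabilizer G x = ⊥) {a b : α} (hab : a ≠ b) (A B : Subgroup G) (hA : A ≤ MulAction.stabilizer G a ⊓ MulAction.stabilizer G b) (hB : B ≤ MulAction.stabilizer G a ⊓ MulAction.stabilizer G b) (hA3 : Nat.card A = 3) (hB3 : Nat.card B = 3) : A = B := by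
  classical
  haveI : Fintype G := Fintype.ofFinite G
  set n := Fintype.card α with hn
  set E := Finset.univ.filter fun g : G => orderOf g = 3 with hE
  set e := (E.filter fun g => g • a = a ∧ g • b = b).card with he
  have huniq : ∀ g g' : G, ∀ x y z : α, x ≠ y → x ≠ z → y ≠ z → g • x = g' • x → g • y = g' • y → g • z = g' • z → g = g' := by
    intro g g' x y z hxy hxz hyz h1 h2 h3'
    let t : Fin 3 ↪ α := ⟨![x, y, z], by
      intro i j
      fin_cases i <;> fin_cases j <;> simp [hxy, hxz, hyz, Ne.symm hxy, Ne.symm hxz, Ne.symm hyz]⟩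
    have : g'⁻¹ * g ∈ MulAction.stabilizer G t := by
      refine MulAction.mem_stabilizer_iff.mpr (Function.Embedding.ext fun i => ?_)
      show (g'⁻¹ * g) • t i = t i
      rw [mul_smul, inv_smul_eq_iff]
      fin_cases i
      exacts [h1, h2, h3']
    rw [hsharp t, Subgroup.mem_bot, inv_mul_eq_one] at this
    exact this.symm
  obtain ⟨g₀, hg₀, hg₀1⟩ : ∃ g ∈ A, g ≠ 1 := by
    by_contra h
    push Not at h
    rw [(Subgroup.eq_bot_iff_forall A).mpr h, Subgroup.card_bot] at hA3
    omega
  have hA' : A ≤ MulAction.stabilizer G a ⊓ MulAction.stabilizer G b := hA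
  have hg₀o := eq_or_eq_of_mem hA3 g₀ hg₀ hg₀1
  have hfix3 : ∀ g : G, orderOf g = 3 → (Finset.univ.filter fun x : α => g • x = x).card ≤ 2 := by
    intro g hg
    by_contra h
    obtain ⟨x, hx, y, hy, z, hz, hxy, hxz, hyz⟩ := Finset.two_lt_card.mp (not_le.mp h)
    simp only [Finset.mem_filter, Finset.mem_univ, true_and] at hx hy hz
    have := huniq g 1 x y z hxy hxz hyz (by rw [one_smul, hx]) (by rw [one_smul, hy]) (by rw [one_smul, hz])
    rw [this, orderOf_one] at hg
    omega
  haveI : Fact (Nat.Prime 3) := ⟨Nat.prime_three⟩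
  have hmod : ∀ g : G, orderOf g = 3 → (Finset.univ.filter fun x : α => g • x = x).card % 3 = n % 3 := by
    intro g hg
    have hσ : (g : Equiv.Perm α) ^ 3 ^ 1 = 1 := by
      rw [pow_one, ← Subgroup.coe_pow, ← hg, pow_orderOf_eq_one, Subgroup.coe_one]
    have h1 := Equiv.Perm.card_compl_support_modEq (p := 3) hσ
    have e : (g : Equiv.Perm α).supportᶜ = Finset.univ.filter fun x : α => g • x = x := by
      ext x
      simp [Equiv.Perm.mem_support, Subgroup.smul_def]
    rw [e] at h1
    exact h1
  have hfix2 : ∀ g : G, orderOf g = 3 → (Finset.univ.filter fun x : α => g • x = x).card = 2 := by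
    intro g hg
    have h0 : 2 ≤ (Finset.univ.filter fun x : α => g₀ • x = x).card := Finset.one_lt_card.mpr
      ⟨a, by simpa using (hA' hg₀).1, b, by simpa using (hA' hg₀).2, hab⟩
    have := hfix3 g₀ hg₀o
    have := hmod g₀ hg₀o
    have := hfix3 g hg
    have := hmod g hg
    omega
  -- triples
  have hcount1 : E.card * (n - 2) = n * (n - 1) * (n - 2) := by
    let S : Finset (G × α) := (E ×ˢ (Finset.univ : Finset α)).filter fun q => q.1 • q.2 ≠ q.2
    let T : Finset (α × α × α) := Finset.univ.filter fun q => q.1 ≠ q.2.1 ∧ q.1 ≠ q.2.2 ∧ q.2.1 ≠ q.2.2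
    have h1 : S.card = E.card * (n - 2) := by
      rw [Finset.card_filter, Finset.sum_product]
      rw [Finset.sum_congr rfl (g := fun _ => n - 2), Finset.sum_const, smul_eq_mul]
      intro g hg
      rw [← Finset.card_filter]
      have := Finset.card_filter_add_card_filter_not (s := (Finset.univ : Finset α)) (fun x : α => g • x = x)
      rw [hfix2 g (Finset.mem_filter.mp hg).2, Finset.card_univ] at this
      show _ = n - 2
      simp only [ne_eq] at this ⊢
      omega
    have h2 : T.card = n * (n - 1) * (n - 2) := by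
      rw [Finset.card_filter, Fintype.sum_prod_type]
      rw [Finset.sum_congr rfl (g := fun _ => (n - 1) * (n - 2)), Finset.sum_const, smul_eq_mul, Finset.card_univ, mul_assoc]
      intro x _
      rw [Fintype.sum_prod_type, ← Finset.add_sum_erase _ _ (Finset.mem_univ x)]
      rw [Finset.sum_eq_zero (fun z _ => if_neg fun h => h.1 rfl), zero_add,
        Finset.sum_congr rfl (g := fun _ => n - 2), Finset.sum_const, smul_eq_mul, Finset.card_erase_of_mem (Finset.mem_univ x), Finset.card_univ]
      intro y hy
      rw [← Finset.card_filter]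
      have e : (Finset.univ.filter fun z : α => x ≠ y ∧ x ≠ z ∧ y ≠ z) = (Finset.univ.erase x).erase y := by
        ext z
        have := Finset.ne_of_mem_erase hy
        simp [Ne.symm this, eq_comm, and_comm]
      rw [e, Finset.card_erase_of_mem hy, Finset.card_erase_of_mem (Finset.mem_univ x), Finset.card_univ, ← hn]
      omega
    have hpow : ∀ g : G, orderOf g = 3 → ∀ x : α, g • g • g • x = x := fun g hg x => by
      have h3' : g * g * g = 1 := by rw [← pow_one g, ← pow_add, ← pow_add, ← pow_orderOf_eq_one g, hg]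
      rw [smul_smul, smul_smul, h3', one_smul]
    rw [← h1, ← h2]
    refine Finset.card_bij (fun q _ => (q.2, q.1 • q.2, q.1 • q.1 • q.2)) ?_ ?_ ?_
    · rintro ⟨g, x⟩ hq
      simp only [S, E, Finset.mem_filter, Finset.mem_product, Finset.mem_univ, true_and, and_true] at hq
      simp only [T, Finset.mem_filter, Finset.mem_univ, true_and]
      exact ⟨fun e => hq.2 e.symm, fun e => hq.2 (by
          have h := congrArg (g • ·) e
          simp only [hpow g hq.1] at h
          exact h),
        fun e => hq.2 (MulAction.injective g e).symm⟩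
    · rintro ⟨g, x⟩ hq ⟨g', x'⟩ hq' he
      simp only [S, E, Finset.mem_filter, Finset.mem_product, Finset.mem_univ, true_and, and_true] at hq hq'
      simp only [Prod.mk.injEq] at he
      obtain ⟨rfl, e1, e2⟩ := he
      have : g = g' := huniq g g' x (g • x) (g • g • x) (fun e => hq.2 e.symm)
        (fun e => hq.2 (by
          have h := congrArg (g • ·) e
          simp only [hpow g hq.1] at h
          exact h))
        (fun e => hq.2 (MulAction.injective g e).symm) e1 (e2.trans (by rw [e1]))
        (by rw [hpow g hq.1, e2, hpow g' hq'.1])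
      rw [this]
    · rintro ⟨x, y, z⟩ hq
      simp only [T, Finset.mem_filter, Finset.mem_univ, true_and] at hq
      obtain ⟨hxy, hxz, hyz⟩ := hq
      let t : Fin 3 ↪ α := ⟨![x, y, z], by
        intro i j
        fin_cases i <;> fin_cases j <;> simp [hxy, hxz, hyz, Ne.symm hxy, Ne.symm hxz, Ne.symm hyz]⟩
      let t' : Fin 3 ↪ α := ⟨![y, z, x], by
        intro i j
        fin_cases i <;> fin_cases j <;> simp [hxy, hxz, hyz, Ne.symm hxy, Ne.symm hxz, Ne.symm hyz]⟩
      obtain ⟨g, hg⟩ := MulAction.isMultiplyPretransitive_iff.mp h3 t t'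
      have gx : g • x = y := DFunLike.congr_fun hg 0
      have gy : g • y = z := DFunLike.congr_fun hg 1
      have gz : g • z = x := DFunLike.congr_fun hg 2
      have ho : orderOf g = 3 := by
        refine orderOf_eq_prime (huniq _ 1 x y z hxy hxz hyz ?_ ?_ ?_) fun h => hxy ?_
        · simp [pow_succ, mul_smul, gx, gy, gz]
        · simp [pow_succ, mul_smul, gx, gy, gz]
        · simp [pow_succ, mul_smul, gx, gy, gz]
        · rw [← gx, h, one_smul]
      refine ⟨(g, x), ?_, by simp [gx, gy]⟩
      simp only [S, E, Finset.mem_filter, Finset.mem_product, Finset.mem_univ, true_and, and_true]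
      exact ⟨ho, by rw [gx]; exact Ne.symm hxy⟩
  -- fixed pairs
  have hcount2 : 2 * E.card = n * (n - 1) * e := by
    have hpair : ∀ u v : α, u ≠ v → (E.filter fun g => g • u = u ∧ g • v = v).card = e := by
      intro u v huv
      haveI : MulAction.IsMultiplyPretransitive G α 2 :=
        MulAction.isMultiplyPretransitive_of_le (n := 3) (by omega) (by rw [Nat.card_eq_fintype_card]; omega)
      obtain ⟨k, hk1, hk2⟩ := CfsgLib.Perm.exists_smul_pair (G := G) inferInstance hab huv
      refine Finset.card_equiv (MulAut.conj k⁻¹).toEquiv fun g => ?_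
      have hord : orderOf (k⁻¹ * g * k) = orderOf g := by
        rw [show k⁻¹ * g * k = MulAut.conj k⁻¹ g by simp, MulEquiv.orderOf_eq]
      simp only [E, Finset.mem_filter, Finset.mem_univ, true_and, MulEquiv.toEquiv_eq_coe, MulEquiv.coe_toEquiv, MulEquiv.orderOf_eq, MulAut.conj_apply, inv_inv, mul_smul, hk1, hk2, inv_smul_eq_iff, hord]
    let P : Finset (α × α) := Finset.univ.filter fun q => q.1 ≠ q.2
    have hP : P.card = n * (n - 1) := by
      rw [show P = (Finset.univ : Finset α).offDiag by ext q; simp [P], Finset.offDiag_card, Finset.card_univ, ← hn, Nat.mul_sub_left_distrib, mul_one]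
    have h1 : ∑ q ∈ P, (E.filter fun g => g • q.1 = q.1 ∧ g • q.2 = q.2).card = P.card * e := by
      rw [Finset.sum_congr rfl (fun q hq => hpair q.1 q.2 (Finset.mem_filter.mp hq).2), Finset.sum_const, smul_eq_mul]
    rw [← hP, ← h1]
    simp only [Finset.card_filter]
    rw [Finset.sum_comm, Finset.sum_congr (s₁ := E) (s₂ := E) rfl (g := fun _ => 2) ?_, Finset.sum_const, smul_eq_mul, mul_comm]
    intro g hg
    rw [← Finset.card_filter]
    have e2 : (P.filter fun q => g • q.1 = q.1 ∧ g • q.2 = q.2) = (Finset.univ.filter fun x : α => g • x = x).offDiag := by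
      ext q; simp [P, and_comm, and_left_comm, and_assoc]
    rw [e2, Finset.offDiag_card, hfix2 g (Finset.mem_filter.mp hg).2]
  have he2 : e = 2 := by
    have h1 : E.card = n * (n - 1) := Nat.eq_of_mul_eq_mul_right (show 0 < n - 2 by omega) hcount1
    rw [h1, mul_comm 2] at hcount2
    exact (Nat.eq_of_mul_eq_mul_left (Nat.mul_pos (by omega) (by omega)) hcount2).symm
  have hkey : ∀ C : Subgroup G, C ≤ MulAction.stabilizer G a ⊓ MulAction.stabilizer G b → Nat.card C = 3 →
      (C : Set G) = insert 1 ↑(E.filter fun g => g • a = a ∧ g • b = b) := by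
    intro C hC hC3
    have h1 : ((Finset.univ.filter fun g : G => g ∈ C).erase 1) = E.filter fun g => g • a = a ∧ g • b = b := by
      refine Finset.eq_of_subset_of_card_le (fun g hg => ?_) ?_
      · simp only [Finset.mem_erase, Finset.mem_filter, Finset.mem_univ, true_and] at hg
        exact Finset.mem_filter.mpr ⟨Finset.mem_filter.mpr ⟨Finset.mem_univ g, eq_or_eq_of_mem hC3 g hg.2 hg.1⟩, (hC hg.2).1, (hC hg.2).2⟩
      · rw [← he, he2, Finset.card_erase_of_mem (by simp)]
        rw [← Fintype.card_subtype, ← Nat.card_eq_fintype_card]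
        exact le_of_eq (by rw [show Nat.card {g : G // g ∈ C} = Nat.card C from rfl, hC3])
    ext g
    rw [← h1]
    by_cases hg : g = 1 <;> simp [hg, C.one_mem]
  exact SetLike.coe_injective ((hkey A hA hA3).trans (hkey B hB hB3).symm)

end Cfsg.Agent.S0728
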