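import Cfsg.Statements.S0878
import Mathlib

set_option autoImplicit false
open Cfsg

namespace Cfsg.Agent.S0878

/-- Let G be a Zassenhaus group on the finite set Ω, a a point, and let H be the subgroup of the stabilizer of a consisting of the identity and the elements fixing no point other than a (given here as a subgroup of the stabilizer of order one less than the number of points whose non-identity elements fix only a; it is the Frobenius kernel of the stabilizer). Then an element outside the stabilizer of a conjugates no non-identity element of H into H, and the normalizer of H is exactly the stabilizer of a. -/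
theorem result {G Ω : Type*} [Group G] [Finite G] [MulAction G Ω] [Fintype Ω] (hZ : Cfsg.IsZassenhausGroup G Ω) (a : Ω) (H : Subgroup G) (hHa : H ≤ MulAction.stabilizer G a) (hHcard : Nat.card H + 1 = Fintype.card Ω) (hHfix : ∀ u ∈ H, u ≠ 1 → ∀ c : Ω, u • c = c → c = a) : (∀ g : G, g ∉ MulAction.stabilizer G a → ∀ u ∈ H, g * u * g⁻¹ ∈ H → u = 1) ∧ Subgroup.normalizer (H : Set G) = MulAction.stabilizer G a := by
  obtain ⟨hf, h2, h3, ⟨g₀, hg₀, a₀, b₀, hab₀, hga₀, hgb₀⟩, -⟩ := hZ
  have hext : ∀ g : G, (∀ c : Ω, g • c = c) → g = 1 := fun g h =>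
    eq_of_smul_eq_smul (α := Ω) fun c => by rw [h, one_smul]
  have hΩ : ∃ b : Ω, b ≠ a := Fintype.exists_ne_of_one_lt_card (Fintype.one_lt_card_iff.mpr ⟨a₀, b₀, hab₀⟩) a
  have hinj : ∀ c, c ≠ a → ∀ u ∈ H, ∀ v ∈ H, u • c = v • c → u = v := fun c hc u hu v hv he => by
    by_contra hne
    refine hc (hHfix (v⁻¹ * u) (H.mul_mem (H.inv_mem hv) hu) ?_ c (by rw [mul_smul, he, inv_smul_smul]))
    rw [Ne, inv_mul_eq_one]; exact Ne.symm hne
  have hTI : ∀ g : G, g ∉ MulAction.stabilizer G a → ∀ u ∈ H, g * u * g⁻¹ ∈ H → u = 1 := by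
    intro g hg u hu hgu
    by_contra hu1
    refine hg (MulAction.mem_stabilizer_iff.mpr (hHfix _ hgu (by simpa using hu1) (g • a) ?_))
    rw [mul_smul, mul_smul, inv_smul_smul, MulAction.mem_stabilizer_iff.mp (hHa hu)]
  refine ⟨hTI, le_antisymm (fun g hg => ?_) ?_⟩
  · by_contra hga
    have hH : H = ⊥ := H.eq_bot_iff_forall.mpr fun u hu => hTI g hga u hu ((hg u).mp hu)
    have h2c : Fintype.card Ω = 2 := by rw [← hHcard, hH, Subgroup.card_bot]
    classical
    refine hg₀ (hext g₀ fun c => ?_)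
    by_contra hc
    have : ({a₀, b₀, c} : Finset Ω).card ≤ 2 := h2c ▸ Finset.card_le_univ _
    have h3c : ({a₀, b₀, c} : Finset Ω).card = 3 := Finset.card_eq_three.mpr
      ⟨a₀, b₀, c, hab₀, fun h => hc (h ▸ hga₀), fun h => hc (h ▸ hgb₀), rfl⟩
    omega
  · obtain ⟨b, hb⟩ := hΩ
    set S := MulAction.stabilizer G a
    let E : Subgroup G := S ⊓ MulAction.stabilizer G b
    have hsm : ∀ s ∈ S, s • a = a := fun s hs => MulAction.mem_stabilizer_iff.mp hs
    have hreg : ∀ c, c ≠ a → ∃ h ∈ H, h • b = c := by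
      intro c hc
      let f : H → {c : Ω // c ≠ a} := fun u => ⟨(u : G) • b, fun h => hb
        (smul_left_cancel (u : G) (h.trans (hsm _ (hHa u.2)).symm))⟩
      have hf : Function.Bijective f := by
        classical
        refine (Nat.bijective_iff_injective_and_card f).mpr ⟨fun u v h => Subtype.ext
          (hinj b hb u u.2 v v.2 (congr_arg Subtype.val h)), ?_⟩
        have := Fintype.card_subtype_compl (fun c : Ω => c = a)
        rw [Fintype.card_subtype_eq] at this
        rw [Nat.card_eq_fintype_card (α := {c : Ω // c ≠ a})]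
        simp only [ne_eq]
        omega
      obtain ⟨u, hu⟩ := hf.2 ⟨c, hc⟩
      exact ⟨u, u.2, congr_arg Subtype.val hu⟩
    let φ : H × E → S := fun x => ⟨(x.1 : G) * x.2, S.mul_mem (hHa x.1.2) x.2.2.1⟩
    have hφ : Function.Bijective φ := by
      refine ⟨fun x y h => ?_, fun s => ?_⟩
      · have e : (x.1 : G) * x.2 = y.1 * y.2 := congr_arg Subtype.val h
        have e1 : (x.1 : G) = y.1 := hinj b hb _ x.1.2 _ y.1.2 (by
          have := congr_arg (· • b) e
          simpa [mul_smul, MulAction.mem_stabilizer_iff.mp x.2.2.2,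
            MulAction.mem_stabilizer_iff.mp y.2.2.2] using this)
        rw [e1] at e
        exact Prod.ext (Subtype.ext e1) (Subtype.ext (mul_left_cancel e))
      · obtain ⟨h, hh, he⟩ := hreg ((s : G) • b) fun h => hb (smul_left_cancel (s : G) (h.trans (hsm _ s.2).symm))
        refine ⟨(⟨h, hh⟩, ⟨h⁻¹ * s, S.mul_mem (S.inv_mem (hHa hh)) s.2, ?_⟩), Subtype.ext (by simp [φ])⟩
        show (h⁻¹ * (s : G)) • b = b
        rw [mul_smul, ← he, inv_smul_smul]
    have hfix : ∀ (h : G), h ∈ H → ∀ e ∈ E, (h * e * h⁻¹) • (h • b) = h • b := fun h _ e he => by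
      rw [mul_smul, inv_smul_smul, mul_smul, MulAction.mem_stabilizer_iff.mp he.2]
    let ψ : H × {e : E // e ≠ 1} → {s : S // (s : G) ∉ H} := fun x => ⟨⟨(x.1 : G) * (x.2.1 : G) * (x.1 : G)⁻¹,
      S.mul_mem (S.mul_mem (hHa x.1.2) x.2.1.2.1) (S.inv_mem (hHa x.1.2))⟩, fun hm => by
        have h1 : (x.2.1 : G) ∈ H := by
          have := H.mul_mem (H.mul_mem (H.inv_mem x.1.2) hm) x.1.2
          simpa [mul_assoc] using this
        exact hb (hHfix _ h1 (fun h => x.2.2 (Subtype.ext h)) b (MulAction.mem_stabilizer_iff.mp x.2.1.2.2))⟩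
    have hψ : Function.Bijective ψ := by
      classical
      refine (Nat.bijective_iff_injective_and_card ψ).mpr ⟨fun x y h => ?_, ?_⟩
      · have e : (x.1 : G) * x.2.1 * (x.1 : G)⁻¹ = y.1 * y.2.1 * (y.1 : G)⁻¹ :=
          congr_arg (fun z : {s : S // (s : G) ∉ H} => (z.1 : G)) h
        have hne : (x.1 : G) * x.2.1 * (x.1 : G)⁻¹ ≠ 1 := by
          simpa using fun h => x.2.2 (Subtype.ext h)
        have hxa : a ≠ (x.1 : G) • b := fun h => hb (smul_left_cancel (x.1 : G) ((hsm _ (hHa x.1.2)).trans h).symm)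
        have hya : a ≠ (y.1 : G) • b := fun h => hb (smul_left_cancel (y.1 : G) ((hsm _ (hHa y.1.2)).trans h).symm)
        have e1 : (x.1 : G) = y.1 := by
          refine hinj b hb _ x.1.2 _ y.1.2 ?_
          by_contra hxy
          refine hne (h3 _ a _ _ hxa hxy hya (hsm _ ?_) (hfix _ x.1.2 _ x.2.1.2) ?_)
          · exact S.mul_mem (S.mul_mem (hHa x.1.2) x.2.1.2.1) (S.inv_mem (hHa x.1.2))
          · rw [e]; exact hfix _ y.1.2 _ y.2.1.2
        rw [e1] at e
        exact Prod.ext (Subtype.ext e1) (Subtype.ext (Subtype.ext (mul_left_cancel (mul_right_cancel e))))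
      · have hS : Nat.card S = Nat.card H * Nat.card E := by
          rw [← Nat.card_eq_of_bijective φ hφ, Nat.card_prod]
        have hE : Nat.card E = Nat.card {e : E // e ≠ 1} + 1 := by
          rw [← Nat.card_congr (Equiv.sumCompl fun e : E => e ≠ 1), Nat.card_sum]
          congr 1
          simp
        have hS2 : Nat.card S = Nat.card {s : S // (s : G) ∉ H} + Nat.card H := by
          rw [← Nat.card_congr (Equiv.sumCompl fun s : S => (s : G) ∉ H), Nat.card_sum]
          congr 1
          exact Nat.card_congr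
            { toFun := fun s => ⟨s.1, not_not.mp s.2⟩
              invFun := fun u => ⟨⟨u, hHa u.2⟩, not_not.mpr u.2⟩ }
        rw [Nat.card_prod]
        rw [hE, mul_add, mul_one] at hS
        omega
    have hconj : ∀ g ∈ S, ∀ u ∈ H, g * u * g⁻¹ ∈ H := by
      intro g hg u hu
      by_contra hn
      obtain ⟨⟨h, e⟩, he⟩ := hψ.2 ⟨⟨g * u * g⁻¹, S.mul_mem (S.mul_mem hg (hHa hu)) (S.inv_mem hg)⟩, hn⟩
      have he2 : (h : G) * e.1 * (h : G)⁻¹ = g * u * g⁻¹ := congr_arg (fun z : {s : S // (s : G) ∉ H} => (z.1 : G)) he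
      have hu1 : u ≠ 1 := fun h1 => hn (by rw [h1]; simp)
      have hf := hfix _ h.2 _ e.1.2
      rw [he2] at hf
      have := hHfix u hu hu1 (g⁻¹ • ((h : G) • b)) (by
        have := congr_arg (g⁻¹ • ·) hf
        simpa [mul_smul] using this)
      rw [inv_smul_eq_iff, hsm g hg] at this
      exact hb (smul_left_cancel (h : G) (this.trans (hsm _ (hHa h.2)).symm))
    intro g hg n
    refine ⟨hconj g hg n, fun h => ?_⟩
    simpa [mul_assoc] using hconj g⁻¹ (S.inv_mem hg) _ h

end Cfsg.Agent.S0878
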