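import Cfsg.Statements.S0345
import Cfsg.Agent.Lib.Chev.ZassEven
import Cfsg.Agent.S0739

set_option autoImplicit false
open Cfsg

namespace Cfsg.Agent.S0345

/-- In a finite simple Zassenhaus group the stabiliser `H` of two points `a ≠ b` is cyclic, and some involution
interchanging `a` and `b` inverts every element of `H`. -/
theorem result {G Ω : Type*} [Group G] [Finite G] [MulAction G Ω] [Finite Ω]
    (hZ : Cfsg.IsZassenhausGroup G Ω) [IsSimpleGroup G]
    {a b : Ω} (hab : a ≠ b) :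
    IsCyclic ↥(MulAction.stabilizer G a ⊓ MulAction.stabilizer G b) ∧
      ∃ v : G, orderOf v = 2 ∧ v • a = b ∧ v • b = a ∧ ∀ h ∈ MulAction.stabilizer G a ⊓ MulAction.stabilizer G b, v * h * v⁻¹ = h⁻¹ := by
  haveI := Fintype.ofFinite Ω
  obtain ⟨s, hso, hsa, hsb⟩ := (Cfsg.Agent.S0740.result hZ hab).1
  rcases Nat.even_or_odd (Nat.card ↥(MulAction.stabilizer G a ⊓ MulAction.stabilizer G b)) with he | ho
  · have hinv := CfsgLib.Chev.ZassEven.inv_of_half hZ hab he
      (CfsgLib.Chev.ZassEven.two_mul_le hZ hab he)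
    refine ⟨CfsgLib.Chev.ZassEven.isCyclic_of_comm hZ hab ⟨⟨fun x y => Subtype.ext ?_⟩⟩,
      s, hso, hsa, hsb, fun h hh => hinv h hh.1 hh.2 s hsa hsb⟩
    have e1 := hinv x x.2.1 x.2.2 s hsa hsb
    have e2 := hinv y y.2.1 y.2.2 s hsa hsb
    have e3 := hinv _ (x * y).2.1 (x * y).2.2 s hsa hsb
    rw [Subgroup.coe_mul, mul_inv_rev, ← e1, ← e2] at e3
    have e4 : s * ((x : G) * y) * s⁻¹ = s * ((y : G) * x) * s⁻¹ := e3.trans (by group)
    exact mul_left_cancel (mul_right_cancel e4)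
  · obtain ⟨hcyc, -⟩ := Cfsg.Agent.S0739.result hZ hab ho (by
      rintro q hq hqd ⟨N, hNn, hNi⟩
      have hv : 0 < (Nat.card G).factorization q :=
        hq.factorization_pos_of_dvd Nat.card_pos.ne' (hqd.trans (Subgroup.card_subgroup_dvd_card _))
      rcases hNn.eq_bot_or_eq_top with h | h
      · rw [h, Subgroup.index_bot] at hNi
        have h2 : orderOf s ∣ q ^ (Nat.card G).factorization q := hNi ▸ orderOf_dvd_natCard s
        rw [hso] at h2
        have : q = 2 := ((Nat.prime_dvd_prime_iff_eq Nat.prime_two hq).mp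
          (Nat.prime_two.dvd_of_dvd_pow h2)).symm
        subst this
        exact Nat.not_even_iff_odd.mpr ho (even_iff_two_dvd.mpr hqd)
      · rw [h, Subgroup.index_top] at hNi
        exact (Nat.one_lt_pow hv.ne' hq.one_lt).ne hNi)
    exact ⟨hcyc, s, hso, hsa, hsb, fun h hh =>
      CfsgLib.Clifford.zass_inv_of_simple hZ hab ho s hsa hsb h hh⟩

end Cfsg.Agent.S0345
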