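import Cfsg.Statements.S0102
import Cfsg.Agent.Lib.Transfer.AbelianSylow

set_option autoImplicit false
open Cfsg

namespace Cfsg.Agent.S0102

/-- A finite perfect group with cyclic Sylow p-subgroups has no perfect central extension whose kernel has order divisible by p. -/
theorem result {G : Type*} {H : Type*} [Group G] [Group H] [Finite G] [Finite H] (hG : commutator G = ⊤) {p : ℕ} [Fact p.Prime] (hcyc : ∀ P : Sylow p G, IsCyclic P) (σ : H →* G) (hσ : Function.Surjective σ) (hz : σ.ker ≤ Subgroup.center H) (hH : commutator H = ⊤) : ¬ p ∣ Nat.card σ.ker := by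
  obtain ⟨P⟩ := (inferInstance : Nonempty (Sylow p H))
  have hcp : IsCyclic ↥((P : Subgroup H).map σ) := hcyc (P.mapSurjective hσ)
  have hab : IsMulCommutative (P : Subgroup H) :=
    (σ.subgroupMap (P : Subgroup H)).isMulCommutative_of_isCyclic_of_ker_le_center (fun x hx => by
      rw [Subgroup.mem_center_iff]
      intro y
      exact Subtype.ext (Subgroup.mem_center_iff.1
        (hz (MonoidHom.mem_ker.2 (congrArg Subtype.val hx))) y))
  have hcop : Nat.Coprime (Nat.card (P : Subgroup H)) (P : Subgroup H).index := by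
    obtain ⟨n, hn⟩ := P.2.exists_card_eq
    rw [hn]
    exact ((Fact.out : p.Prime).coprime_iff_not_dvd.2 P.not_dvd_index).pow_left n
  have h := CfsgLib.Transfer.inf_commutator_inf_center_eq_bot (P : Subgroup H) hcop
  rw [hH, inf_top_eq] at h
  have hbot : σ.ker ⊓ (P : Subgroup H) = ⊥ :=
    le_bot_iff.1 (h ▸ le_inf inf_le_right (inf_le_left.trans hz))
  exact (Fact.out : p.Prime).coprime_iff_not_dvd.1
    (CfsgLib.Transfer.coprime_card_of_inf_sylow_eq_bot P hbot).symm


end Cfsg.Agent.S0102
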