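import Cfsg.Statements.S1250
import Cfsg.Agent.Lib.Invol.Basic

set_option autoImplicit false
open Cfsg

namespace Cfsg.Agent.S1250

/-- Let S be a Sylow p-subgroup of the finite group G, A ≤ S strongly closed in S, and N a normal subgroup. Then the image of A in G ⧸ N is strongly closed in the image of S (which is a Sylow p-subgroup of G ⧸ N). -/
theorem result {G : Type*} [Group G] [Finite G] {p : ℕ} [Fact p.Prime] (S : Sylow p G) (A : Subgroup G) (hA : Cfsg.IsStronglyClosed A (S : Subgroup G)) (N : Subgroup G) [N.Normal] : Cfsg.IsStronglyClosed (A.map (QuotientGroup.mk' N)) ((S : Subgroup G).map (QuotientGroup.mk' N)) := by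
  refine ⟨Subgroup.map_mono hA.1, ?_⟩
  rintro _ ⟨x, hx, rfl⟩ q hq
  obtain ⟨g, rfl⟩ := QuotientGroup.mk'_surjective N q
  simp only [← map_inv, ← map_mul] at hq ⊢
  set y := g * x * g⁻¹
  have hyH : y ∈ (S : Subgroup G) ⊔ N := by
    obtain ⟨s, hs, hsy⟩ := hq
    have hn : s⁻¹ * y ∈ N := QuotientGroup.eq.1 hsy
    simpa using mul_mem (Subgroup.mem_sup_left (T := N) hs) (Subgroup.mem_sup_right (S := (S : Subgroup G)) hn)
  set H := (S : Subgroup G) ⊔ N
  have hyp : IsPGroup p (Subgroup.zpowers y) := by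
    have : (Subgroup.zpowers x).map (MulAut.conj g).toMonoidHom = Subgroup.zpowers y := by
      rw [MonoidHom.map_zpowers]; rfl
    rw [← this]
    exact (S.2.to_le (Subgroup.zpowers_le.2 (hA.1 hx))).map _
  obtain ⟨h, hh⟩ := CfsgLib.Invol.exists_conj_mem_sylow (S.subtype (le_sup_left : (S : Subgroup G) ≤ H))
    (hyp.comap_subtype (K := H))
  have h1 : (h : G) * y * (h : G)⁻¹ ∈ S := hh ⟨y, hyH⟩ (Subgroup.mem_zpowers y)
  have h2 : (h : G) * y * (h : G)⁻¹ ∈ A := by
    have := hA.2 x hx ((h : G) * g) (by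
      simp [y, mul_assoc] at h1 ⊢
      exact h1)
    simpa [y, mul_assoc] using this
  -- the image of `h` lies in the image of `S`, which normalises that of `A`
  obtain ⟨s, hs, n, hn, hsn⟩ : ∃ s ∈ (S : Subgroup G), ∃ n ∈ N, s * n = (h : G) := by
    have := h.2
    rw [← SetLike.mem_coe, Subgroup.mul_normal] at this
    exact this
  have h3 : s⁻¹ * ((h : G) * y * (h : G)⁻¹) * s ∈ A := by
    have := hA.2 _ h2 s⁻¹ (by simpa using mul_mem (mul_mem (inv_mem hs) (hA.1 h2)) hs)
    simpa using this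
  refine ⟨_, h3, ?_⟩
  have hn' : QuotientGroup.mk' N n = 1 := (QuotientGroup.eq_one_iff n).2 hn
  rw [← hsn]
  simp only [map_mul, map_inv, hn']
  group

end Cfsg.Agent.S1250
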