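import Cfsg.Statements.S1251
import Cfsg.Agent.Lib.Invol.IsoElt
import Cfsg.Prelude.Def_TwoFusion

set_option autoImplicit false
open Cfsg

namespace Cfsg.Agent.S1251

open CfsgLib.Invol
open scoped Pointwise

/-- Let S be a Sylow 2-subgroup of the finite group G and A ≤ S strongly closed in S. If H is a subgroup normalized by A with no nontrivial normal subgroup of odd order and A ∩ H = 1, then A ≤ C_G(H). -/
theorem result {G : Type*} [Group G] [Finite G] (S : Sylow 2 G) (A : Subgroup G) (hA : Cfsg.IsStronglyClosed A (S : Subgroup G)) (H : Subgroup G) (hAH : A ≤ Subgroup.normalizer (H : Set G)) (hO : Cfsg.oddCore ↥H = ⊥) (hdisj : A ⊓ H = ⊥) : A ≤ Subgroup.centralizer (H : Set G) := by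
  set M := H ⊔ A
  have hpA : IsPGroup 2 A := S.2.to_le hA.1
  have hAM : A ≤ M := le_sup_right
  have hHM : H ≤ M := le_sup_left
  have hMN : M ≤ Subgroup.normalizer (H : Set G) := sup_le Subgroup.le_normalizer hAH
  obtain ⟨P0, hP0⟩ := (hpA.comap_subtype (K := M)).exists_le_sylow
  obtain ⟨S1, hS1⟩ := (P0.2.map M.subtype).exists_le_sylow
  obtain ⟨r, rfl⟩ := MulAction.exists_smul_eq G S S1
  have hback : ∀ x ∈ A, r⁻¹ * x * r ∈ A := by
    intro x hx
    obtain ⟨y, hy, hyx⟩ := hS1 ⟨⟨x, hAM hx⟩, hP0 hx, rfl⟩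
    have hyx' : r * y * r⁻¹ = x := hyx
    have h := hA.2 x hx r⁻¹
    rw [inv_inv] at h
    refine h ?_
    rw [show r⁻¹ * x * r = y by rw [← hyx']; group]
    exact hy
  have hfwd : ∀ x ∈ A, r * x * r⁻¹ ∈ A := by
    intro x hx
    have hle : A.map (MulAut.conj r⁻¹).toMonoidHom ≤ A := by
      rintro _ ⟨w, hw, rfl⟩
      simpa using hback w hw
    have heq := Subgroup.eq_of_le_of_card_ge hle
      (le_of_eq (Nat.card_congr (A.equivMapOfInjective _ (MulEquiv.injective _)).toEquiv))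
    rw [← heq] at hx
    obtain ⟨w, hw, rfl⟩ := hx
    simpa [mul_assoc] using hw
  -- strong closure in the larger Sylow subgroup
  have hstr : ∀ x ∈ A, ∀ g : G, g * x * g⁻¹ ∈ ((r • S : Sylow 2 G) : Subgroup G) → g * x * g⁻¹ ∈ A := by
    rintro x hx g ⟨y, hy, hyg⟩
    have hyg' : r * y * r⁻¹ = g * x * g⁻¹ := hyg
    have h := hA.2 x hx (r⁻¹ * g) (by
      rw [show r⁻¹ * g * x * (r⁻¹ * g)⁻¹ = r⁻¹ * (g * x * g⁻¹) * r by group, ← hyg',
        show r⁻¹ * (r * y * r⁻¹) * r = y by group]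
      exact hy)
    have := hfwd _ h
    simpa [mul_assoc] using this
  have : (H.subgroupOf M).Normal := (Subgroup.normal_subgroupOf_iff_le_normalizer hHM).2 hMN
  obtain ⟨T, hT⟩ := CfsgLib.Transfer.exists_sylow_eq_subgroupOf P0 (H.subgroupOf M)
  intro a ha
  refine Subgroup.mem_centralizer_iff.2 fun h hh => ?_
  set Ma := H ⊔ Subgroup.zpowers a
  have haMa : a ∈ Ma := Subgroup.mem_sup_right (Subgroup.mem_zpowers a)
  have hHMa : H ≤ Ma := le_sup_left
  have haN : Subgroup.zpowers a ≤ Subgroup.normalizer (H : Set G) := Subgroup.zpowers_le.2 (hAH ha)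
  have hdis : H ⊓ Subgroup.zpowers a = ⊥ := le_bot_iff.1 (hdisj ▸
    le_inf (inf_le_right.trans (Subgroup.zpowers_le.2 ha)) inf_le_left)
  -- a Sylow subgroup of `H⟨a⟩` inside the one of `HA`
  set T' := (((T : Subgroup (H.subgroupOf M)).map (H.subgroupOf M).subtype).map M.subtype) with hT'
  have hT'H : T' ≤ H := by rintro _ ⟨_, ⟨t, -, rfl⟩, rfl⟩; exact t.2
  have hT'P : T' ≤ (P0 : Subgroup M).map M.subtype := by
    refine Subgroup.map_mono ?_
    rw [hT]; rintro _ ⟨t, ht, rfl⟩; exact ht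
  have hT'card : Nat.card T' = 2 ^ (Nat.card H).factorization 2 := by
    rw [hT', ← Nat.card_congr (((T : Subgroup (H.subgroupOf M)).map _).equivMapOfInjective _
      M.subtype_injective).toEquiv, ← Nat.card_congr ((T : Subgroup (H.subgroupOf M)).equivMapOfInjective _
      (H.subgroupOf M).subtype_injective).toEquiv, T.card_eq_multiplicity,
      Nat.card_congr (Subgroup.subgroupOfEquivOfLe hHM).toEquiv]
  set Q := ((P0 : Subgroup M).map M.subtype) ⊓ Ma
  have haP : ∀ j : ℤ, a ^ j ∈ (P0 : Subgroup M).map M.subtype := fun j =>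
    ⟨⟨a ^ j, hAM (zpow_mem ha j)⟩, hP0 (zpow_mem ha j), rfl⟩
  have hpQ : IsPGroup 2 Q := (P0.2.map _).to_le inf_le_left
  have hcardMa : Nat.card Ma = Nat.card H * orderOf a := by
    rw [show Ma = H ⊔ Subgroup.zpowers a from rfl,
      CfsgLib.Coprime.card_sup_of_inf_eq_bot haN (by rw [inf_comm]; exact hdis), Nat.card_zpowers]
  obtain ⟨e, he⟩ : ∃ e, orderOf a = 2 ^ e := by
    obtain ⟨e, he⟩ := (hpA.to_le (Subgroup.zpowers_le.2 ha)).exists_card_eq
    exact ⟨e, by rwa [Nat.card_zpowers] at he⟩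
  have hQge : 2 ^ ((Nat.card H).factorization 2 + e) ≤ Nat.card Q := by
    rw [pow_add, ← he, ← hT'card, ← Nat.card_zpowers, ← Nat.card_prod]
    refine Nat.card_le_card_of_injective (fun p : T' × Subgroup.zpowers a => (⟨(p.1 : G) * p.2, ?_⟩ : Q)) ?_
    · obtain ⟨j, hj⟩ := p.2.2
      refine ⟨mul_mem (hT'P p.1.2) (hj ▸ haP j), mul_mem (hHMa (hT'H p.1.2)) ?_⟩
      exact Subgroup.mem_sup_right p.2.2
    · rintro ⟨u, v⟩ ⟨u', v'⟩ h
      have h' : (u : G) * v = u' * v' := congrArg Subtype.val h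
      have h1 : (u' : G)⁻¹ * u = v' * (v : G)⁻¹ := by
        rw [eq_mul_inv_iff_mul_eq, mul_assoc, h', inv_mul_cancel_left]
      have h2 : (u' : G)⁻¹ * u ∈ H ⊓ Subgroup.zpowers a := Subgroup.mem_inf.2
        ⟨mul_mem (inv_mem (hT'H u'.2)) (hT'H u.2), h1 ▸ mul_mem v'.2 (inv_mem v.2)⟩
      rw [hdis, Subgroup.mem_bot] at h2
      have hu : u' = u := Subtype.ext (inv_mul_eq_one.1 h2)
      subst hu
      exact Prod.ext rfl (Subtype.ext (mul_left_cancel h'))
  let Qs : Sylow 2 Ma := Sylow.ofCard (Q.subgroupOf Ma) (by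
    rw [Nat.card_congr (Subgroup.subgroupOfEquivOfLe inf_le_right).toEquiv]
    have hfac : (Nat.card Ma).factorization 2 = (Nat.card H).factorization 2 + e := by
      rw [hcardMa, he, Nat.factorization_mul Nat.card_pos.ne' (by positivity), Finsupp.add_apply,
        Nat.Prime.factorization_pow Nat.prime_two, Finsupp.single_eq_same]
    obtain ⟨j, hj⟩ := hpQ.exists_card_eq
    have hd : Nat.card Q ∣ Nat.card Ma := Subgroup.card_dvd_of_le inf_le_right
    rw [hj] at hd hQge ⊢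
    have h1 : j ≤ (Nat.card Ma).factorization 2 :=
      (Nat.prime_two.pow_dvd_iff_le_factorization Nat.card_pos.ne').1 hd
    have h2 := (Nat.pow_le_pow_iff_right (le_refl 2)).1 hQge
    rw [hfac] at h1 ⊢
    congr 1
    omega)
  set a' : Ma := ⟨a, haMa⟩
  have hiso : IsoElt (Qs : Subgroup Ma) a' := by
    refine ⟨Subgroup.mem_subgroupOf.2 (Subgroup.mem_inf.2 ⟨by have h1 := haP 1; rw [zpow_one] at h1; exact h1, haMa⟩), fun k g hg => ?_⟩
    have hg' : (g : G) * a ^ k * (g : G)⁻¹ ∈ (P0 : Subgroup M).map M.subtype := hg.1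
    have hgA := hstr _ (pow_mem ha k) g (hS1 hg')
    obtain ⟨x, hx, y, hy, hxy⟩ : (g : G) ∈ (H : Set G) * (Subgroup.zpowers a : Set G) := by
      rw [← Subgroup.coe_mul_of_right_le_normalizer_left H (Subgroup.zpowers a) haN]
      exact g.2
    obtain ⟨j, rfl⟩ := hy
    have e1 : (g : G) * a ^ k * (g : G)⁻¹ * (a ^ k)⁻¹ = x * (a ^ k * x⁻¹ * (a ^ k)⁻¹) := by
      rw [← hxy]
      simp only [mul_inv_rev, mul_assoc]
      rw [← mul_assoc (a ^ j) (a ^ k), ((Commute.self_zpow a j).symm.pow_right k).eq]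
      simp [mul_assoc]
    have h1 : (g : G) * a ^ k * (g : G)⁻¹ * (a ^ k)⁻¹ ∈ A ⊓ H := by
      refine Subgroup.mem_inf.2 ⟨mul_mem hgA (inv_mem (pow_mem ha k)), ?_⟩
      rw [e1]
      exact mul_mem hx ((Subgroup.mem_normalizer_iff.1 (pow_mem (hAH ha) k) _).1 (inv_mem hx))
    rw [hdisj, Subgroup.mem_bot, mul_inv_eq_one] at h1
    exact Subtype.ext h1
  have h2 := isoElt_commutator_mem Qs hiso ⟨h, hHMa hh⟩
  set K := ((Cfsg.oddCore Ma).map Ma.subtype).subgroupOf H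
  have hK : K.Normal := by
    have := CfsgLib.Solvable.pPrimeCore_normal 2 Ma
    refine ⟨fun n hn g => ?_⟩
    obtain ⟨w, hw, hwe⟩ := hn
    exact ⟨⟨g, hHMa g.2⟩ * w * ⟨g, hHMa g.2⟩⁻¹, this.conj_mem w hw _, by
      simp [show (w : G) = n from hwe]⟩
  have hKodd : Odd (Nat.card K) := by
    refine (odd_card_oddCore Ma).of_dvd_nat ?_
    rw [Nat.card_congr ((Cfsg.oddCore Ma).equivMapOfInjective _ Ma.subtype_injective).toEquiv]
    exact Subgroup.card_comap_dvd_of_injective _ _ H.subtype_injective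
  have hbot : K = ⊥ := le_bot_iff.1 (hO ▸ le_oddCore hK hKodd)
  have hmemH : a * h * a⁻¹ * h⁻¹ ∈ H :=
    mul_mem ((Subgroup.mem_normalizer_iff.1 (hAH ha) h).1 hh) (inv_mem hh)
  have h3 : (⟨_, hmemH⟩ : H) ∈ K := ⟨_, h2, by simp [a']⟩
  rw [hbot, Subgroup.mem_bot] at h3
  have h4 : a * h * a⁻¹ * h⁻¹ = 1 := congrArg Subtype.val h3
  exact (mul_inv_eq_iff_eq_mul.1 (mul_inv_eq_one.1 h4)).symm

end Cfsg.Agent.S1251
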