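import Cfsg.Statements.S4085
import Mathlib.GroupTheory.SpecificGroups.Cyclic
import Mathlib.FieldTheory.Finite.Basic
import Mathlib.Data.Nat.Squarefree
import Mathlib.Data.Nat.Factorization.PrimePow

set_option autoImplicit false
open Cfsg

namespace Cfsg.Agent.S4085

open Subgroup

section Cyclic

variable {G : Type*} [Group G] [Finite G]

/-- Closed neighbourhood in the power graph. -/
def nb (x : G) : Set G := {u | x ∈ zpowers u ∨ u ∈ zpowers x}

/-- `x` generates a maximal cyclic subgroup. -/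
def IsMaxCyc (x : G) : Prop := ∀ u, x ∈ zpowers u → u ∈ zpowers x

theorem mem_nb {x u : G} : u ∈ nb x ↔ x ∈ zpowers u ∨ u ∈ zpowers x := Iff.rfl

theorem self_mem_nb (x : G) : x ∈ nb x := Or.inr (mem_zpowers x)

theorem nb_symm {x u : G} : u ∈ nb x ↔ x ∈ nb u := by rw [mem_nb, mem_nb, or_comm]

theorem nb_eq_of_zpowers_eq {x y : G} (h : zpowers x = zpowers y) : nb x = nb y := by
  ext u
  rw [mem_nb, mem_nb, h]
  constructor <;> rintro (h' | h')
  · exact Or.inl (zpowers_le.1 (h ▸ zpowers_le.2 h'))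
  · exact Or.inr h'
  · exact Or.inl (zpowers_le.1 (h.symm ▸ zpowers_le.2 h'))
  · exact Or.inr h'

theorem exists_maxCyc (g : G) : ∃ x, g ∈ zpowers x ∧ IsMaxCyc x := by
  obtain ⟨x, hx, hmax⟩ := Set.exists_max_image {u : G | g ∈ zpowers u} orderOf (Set.toFinite _)
    ⟨g, mem_zpowers g⟩
  refine ⟨x, hx, fun u hu => ?_⟩
  have hle : zpowers x ≤ zpowers u := zpowers_le.2 hu
  have := eq_of_le_of_card_ge hle (by
    rw [Nat.card_zpowers, Nat.card_zpowers]; exact hmax u (hle hx))
  exact this ▸ mem_zpowers u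

theorem IsMaxCyc.nb_eq {x : G} (hx : IsMaxCyc x) : nb x = (zpowers x : Set G) := by
  ext u
  exact ⟨fun h => h.elim (hx u) id, Or.inr⟩

theorem mem_zpowers_of_dvd {x a b : G} (ha : a ∈ zpowers x) (hb : b ∈ zpowers x)
    (h : orderOf a ∣ orderOf b) : a ∈ zpowers b := by
  classical
  obtain ⟨i, rfl⟩ := mem_zpowers_iff.1 ha
  obtain ⟨j, rfl⟩ := mem_zpowers_iff.1 hb
  let := Fintype.ofFinite (zpowers x)
  have hsub : ∀ k : ℤ, (⟨x ^ k, zpow_mem (mem_zpowers x) k⟩ : zpowers x) = (⟨x, mem_zpowers x⟩ : zpowers x) ^ k :=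
    fun k => Subtype.ext (by simp)
  let A : zpowers x := ⟨x ^ i, zpow_mem (mem_zpowers x) i⟩
  let B : zpowers x := ⟨x ^ j, zpow_mem (mem_zpowers x) j⟩
  have hB : orderOf B = orderOf (x ^ j) := Subgroup.orderOf_mk _ _
  have hA : orderOf A = orderOf (x ^ i) := Subgroup.orderOf_mk _ _
  have hle : ((zpowers B : Set (zpowers x)).toFinset) ⊆
      Finset.univ.filter fun u : zpowers x => u ^ orderOf B = 1 := by
    intro u hu
    simp only [Set.mem_toFinset, SetLike.mem_coe] at hu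
    refine Finset.mem_filter.2 ⟨Finset.mem_univ _, ?_⟩
    rw [← orderOf_dvd_iff_pow_eq_one]
    exact orderOf_dvd_of_mem_zpowers hu
  have hcard := IsCyclic.card_pow_eq_one_le (α := zpowers x) (orderOf_pos B)
  have heq := Finset.eq_of_subset_of_card_le hle (hcard.trans (le_of_eq (by
    rw [← Nat.card_zpowers, Set.toFinset_card, Nat.card_eq_fintype_card]; rfl)))
  have hmem : A ∈ Finset.univ.filter fun u : zpowers x => u ^ orderOf B = 1 :=
    Finset.mem_filter.2 ⟨Finset.mem_univ _, by rw [← orderOf_dvd_iff_pow_eq_one, hA, hB]; exact h⟩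
  rw [← heq, Set.mem_toFinset, SetLike.mem_coe, mem_zpowers_iff] at hmem
  obtain ⟨k, hk⟩ := hmem
  exact mem_zpowers_iff.2 ⟨k, congrArg Subtype.val hk⟩

theorem mem_nb_iff_dvd {x a b : G} (ha : a ∈ zpowers x) (hb : b ∈ zpowers x) :
    b ∈ nb a ↔ orderOf a ∣ orderOf b ∨ orderOf b ∣ orderOf a :=
  ⟨fun h => h.imp orderOf_dvd_of_mem_zpowers orderOf_dvd_of_mem_zpowers,
    fun h => h.imp (mem_zpowers_of_dvd ha hb) (mem_zpowers_of_dvd hb ha)⟩

theorem exists_mem_zpowers_orderOf (x : G) {d : ℕ} (hd : d ∣ orderOf x) :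
    ∃ a ∈ zpowers x, orderOf a = d :=
  ⟨x ^ (orderOf x / d), pow_mem (mem_zpowers x) _, orderOf_pow_orderOf_div (orderOf_pos x).ne' hd⟩

theorem zpowers_eq_of_orderOf_eq {x a : G} (ha : a ∈ zpowers x) (h : orderOf a = orderOf x) :
    zpowers a = zpowers x :=
  eq_of_le_of_card_ge (zpowers_le.2 ha) (by rw [Nat.card_zpowers, Nat.card_zpowers, h])

theorem card_gen (x : G) : {w : G | zpowers w = zpowers x}.ncard = Nat.totient (orderOf x) := by
  classical
  let := Fintype.ofFinite (zpowers x)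
  rw [← IsCyclic.card_orderOf_eq_totient (α := zpowers x) (d := orderOf x)
    (by rw [← Nat.card_eq_fintype_card, Nat.card_zpowers]), ← Nat.card_coe_set_eq,
    ← Fintype.card_subtype, ← Nat.card_eq_fintype_card]
  exact Nat.card_congr
    { toFun := fun w => ⟨⟨w.1, (w.2 : zpowers w.1 = zpowers x).le (mem_zpowers w.1)⟩, by
        rw [Subgroup.orderOf_mk, ← Nat.card_zpowers, ← Nat.card_zpowers]
        exact congrArg (fun K : Subgroup G => Nat.card K) w.2⟩
      invFun := fun a => ⟨a.1.1, zpowers_eq_of_orderOf_eq a.1.2 ((Subgroup.orderOf_coe a.1).trans a.2)⟩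
      left_inv := fun _ => rfl
      right_inv := fun _ => rfl }

theorem dvd_ncard_of_closed {d : ℕ} (S : Set G) (hS : ∀ u ∈ S, ∀ v, zpowers v = zpowers u → v ∈ S)
    (hd : ∀ u ∈ S, d ∣ Nat.totient (orderOf u)) : d ∣ S.ncard := by
  classical
  rw [Set.ncard_eq_toFinset_card S (Set.toFinite S),
    Finset.card_eq_sum_card_image (fun u : G => zpowers u)]
  refine Finset.dvd_sum fun K hK => ?_
  obtain ⟨u, hu, rfl⟩ := Finset.mem_image.1 hK
  rw [Set.Finite.mem_toFinset] at hu
  refine (hd u hu).trans (dvd_of_eq ?_)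
  rw [← card_gen u, ← Set.ncard_coe_finset]
  congr 1
  ext v
  simp only [Finset.coe_filter, Set.Finite.mem_toFinset, Set.mem_ofPred_eq]
  exact ⟨fun h => ⟨hS u hu v h, h⟩, fun h => h.2⟩

/-- In a cyclic group of non prime power order the incomparability graph on the proper
nontrivial elements is connected. -/
theorem nonfull_linked {x : G} (hx1 : x ≠ 1) (hn : ¬ IsPrimePow (orderOf x)) (P : G → Prop)
    (hP : ∀ a ∈ zpowers x, ∀ b ∈ zpowers x, b ∉ nb a → (P a ↔ P b))
    {a b : G} (ha : a ∈ zpowers x) (ha1 : a ≠ 1) (hax : orderOf a ≠ orderOf x)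
    (hb : b ∈ zpowers x) (hb1 : b ≠ 1) (hbx : orderOf b ≠ orderOf x) : P a ↔ P b := by
  set n := orderOf x with hndef
  have hn1 : n ≠ 1 := fun h => hx1 (orderOf_eq_one_iff.1 h)
  have hn0 : n ≠ 0 := (orderOf_pos x).ne'
  choose c hcmem hcord using fun r : ℕ => exists_mem_zpowers_orderOf x (Nat.ordProj_dvd n r)
  have hother : ∀ r : ℕ, r.Prime → ∃ q : ℕ, q.Prime ∧ q ∣ n ∧ q ≠ r := by
    intro r hr
    by_contra hcon
    push Not at hcon
    refine hn ?_
    have h1 : n = r ^ n.factorization r :=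
      (Nat.eq_prime_pow_of_unique_prime_dvd hn0 fun {q} hq hqn => hcon q hq hqn) ▸ (by
        have := Nat.eq_prime_pow_of_unique_prime_dvd hn0 (p := r) fun {q} hq hqn => hcon q hq hqn
        rw [this, Nat.Prime.factorization_pow hr]
        simp)
    rw [h1]
    refine (hr.isPrimePow).pow ?_
    intro h0
    rw [h0, pow_zero] at h1
    exact hn1 h1
  have hpos : ∀ r : ℕ, r.Prime → r ∣ n → r ∣ r ^ n.factorization r := fun r hr hrn =>
    dvd_pow_self r (hr.factorization_pos_of_dvd hn0 hrn).ne'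
  have hcc : ∀ r q : ℕ, r.Prime → r ∣ n → q.Prime → q ∣ n → r ≠ q → (P (c r) ↔ P (c q)) := by
    intro r q hr hrn hq hqn hne
    refine hP _ (hcmem r) _ (hcmem q) ?_
    rw [mem_nb_iff_dvd (hcmem r) (hcmem q), hcord, hcord]
    rintro (h | h)
    · exact hne ((Nat.prime_dvd_prime_iff_eq hr hq).1 (hr.dvd_of_dvd_pow ((hpos r hr hrn).trans h)))
    · exact hne ((Nat.prime_dvd_prime_iff_eq hq hr).1 (hq.dvd_of_dvd_pow ((hpos q hq hqn).trans h))).symm
  have hac : ∀ a ∈ zpowers x, a ≠ 1 → orderOf a ≠ n → ∃ r : ℕ, r.Prime ∧ r ∣ n ∧ (P a ↔ P (c r)) := by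
    intro a ha ha1 hax
    have hd : orderOf a ∣ n := orderOf_dvd_of_mem_zpowers ha
    have hd0 := (orderOf_pos a).ne'
    obtain ⟨r, hr⟩ : ∃ r, (orderOf a).factorization r < n.factorization r := by
      by_contra hcon
      push Not at hcon
      refine hax (Nat.dvd_antisymm hd ((Nat.factorization_le_iff_dvd hn0 hd0).1 ?_))
      exact fun r => hcon r
    have hrp : r.Prime := by
      by_contra h
      rw [Nat.factorization_eq_zero_of_not_prime _ h, Nat.factorization_eq_zero_of_not_prime _ h] at hr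
      exact lt_irrefl _ hr
    have hrn : r ∣ n := Nat.dvd_of_factorization_pos (Nat.ne_of_gt (lt_of_le_of_lt (Nat.zero_le _) hr))
    by_cases hr' : orderOf a ∣ r ^ n.factorization r
    · obtain ⟨q, hq, hqn, hqr⟩ := hother r hrp
      refine ⟨q, hq, hqn, hP a ha _ (hcmem q) ?_⟩
      rw [mem_nb_iff_dvd ha (hcmem q), hcord]
      rintro (h | h)
      · obtain ⟨i, -, hi⟩ := (Nat.dvd_prime_pow hrp).1 hr'
        rw [hi] at h
        have hi0 : i ≠ 0 := fun e => ha1 (orderOf_eq_one_iff.1 (by rw [hi, e, pow_zero]))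
        exact hqr ((Nat.prime_dvd_prime_iff_eq hrp hq).1
          (hrp.dvd_of_dvd_pow ((dvd_pow_self r hi0).trans h))).symm
      · exact hqr ((Nat.prime_dvd_prime_iff_eq hq hrp).1
          (hq.dvd_of_dvd_pow (((hpos q hq hqn).trans h).trans hr')))
    · refine ⟨r, hrp, hrn, hP a ha _ (hcmem r) ?_⟩
      rw [mem_nb_iff_dvd ha (hcmem r), hcord]
      rintro (h | h)
      · exact hr' h
      · exact absurd ((hrp.pow_dvd_iff_le_factorization hd0).1 h) (not_le.2 hr)
  obtain ⟨r, hr, hrn, h1⟩ := hac a ha ha1 hax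
  obtain ⟨q, hq, hqn, h2⟩ := hac b hb hb1 hbx
  rw [h1, h2]
  rcases eq_or_ne r q with rfl | hne
  · exact Iff.rfl
  · exact hcc r q hr hrn hq hqn hne

theorem orderOf_eq_of_full {x a : G} (hx1 : x ≠ 1) (hn : ¬ IsPrimePow (orderOf x))
    (ha : a ∈ zpowers x) (ha1 : a ≠ 1) (hfull : ∀ b ∈ zpowers x, b ∈ nb a) :
    orderOf a = orderOf x := by
  by_contra hax
  have hn1 : orderOf x ≠ 1 := fun h => hx1 (orderOf_eq_one_iff.1 h)
  obtain ⟨p, hp, hpn⟩ := Nat.exists_prime_and_dvd hn1
  obtain ⟨b, hb, hbp⟩ := exists_mem_zpowers_orderOf x hpn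
  have key : ∀ v ∈ zpowers x, v ≠ 1 → orderOf v ≠ orderOf x → v = a := fun v hv hv1 hvn =>
    (nonfull_linked hx1 hn (fun u => u = a) (fun u hu w hw huw => by
      constructor <;> rintro rfl
      · exact absurd (hfull w hw) huw
      · exact absurd (nb_symm.1 (hfull u hu)) huw) ha ha1 hax hv hv1 hvn).1 rfl
  -- every proper nontrivial element equals `a`
  have hbn : orderOf b ≠ orderOf x := fun e => hn ((e ▸ hbp) ▸ hp.isPrimePow)
  have hb1 : b ≠ 1 := fun e => hp.ne_one (by rw [← hbp, e, orderOf_one])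
  have hba : b = a := key b hb hb1 hbn
  obtain ⟨m, hm⟩ := hpn
  have hm1 : m ≠ 1 := fun e => hn (by rw [hm, e, mul_one]; exact hp.isPrimePow)
  obtain ⟨q, hq, hqm⟩ := Nat.exists_prime_and_dvd hm1
  by_cases hqp : q = p
  · -- `p ^ 2` divides the order
    obtain ⟨v, hv, hvp⟩ := exists_mem_zpowers_orderOf x (d := p * p)
      (hm ▸ Nat.mul_dvd_mul_left p (hqp ▸ hqm))
    have hvn : orderOf v ≠ orderOf x := fun e => hn (by
      rw [← e, hvp, ← pow_two]; exact hp.isPrimePow.pow two_ne_zero)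
    have hv1 : v ≠ 1 := fun e => by
      rw [e, orderOf_one] at hvp; exact hp.ne_one (Nat.eq_one_of_mul_eq_one_left hvp.symm)
    have hva : v = a := key v hv hv1 hvn
    rw [hva, ← hba, hbp] at hvp
    exact hp.ne_one (Nat.eq_of_mul_eq_mul_left hp.pos (by rw [mul_one]; exact hvp.symm))
  · obtain ⟨v, hv, hvp⟩ := exists_mem_zpowers_orderOf x (d := q) (hm ▸ Dvd.dvd.mul_left hqm p)
    have hvn : orderOf v ≠ orderOf x := fun e => hn ((e ▸ hvp) ▸ hq.isPrimePow)
    have hv1 : v ≠ 1 := fun e => hq.ne_one (by rw [← hvp, e, orderOf_one])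
    have hva : v = a := key v hv hv1 hvn
    exact hqp (by rw [← hvp, hva, ← hba, hbp])

theorem squarefree_of_totient_dvd {n : ℕ} (hn : 1 < n) (h : Nat.totient n ∣ n - 1) : Squarefree n := by
  rw [Nat.squarefree_iff_prime_squarefree]
  intro q hq hqq
  have h1 : q ∣ Nat.totient n := by
    refine dvd_trans ?_ (Nat.totient_dvd_of_dvd hqq)
    rw [← pow_two, Nat.totient_prime_pow_succ hq 1, pow_one]
    exact dvd_mul_right q _
  have h2 : q ∣ n := (dvd_mul_right q q).trans hqq
  have h3 := Nat.dvd_sub h2 (h1.trans h)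
  rw [show n - (n - 1) = 1 by omega] at h3
  exact hq.ne_one (Nat.dvd_one.1 h3)

end Cyclic

section Transfer

variable {G H : Type*} [Group G] [Finite G] [Group H] [Finite H]

/-- A maximal cyclic subgroup of non prime power order goes to one of the same order, or we
are in the exceptional configuration. -/
theorem maxCyc_image (e : G ≃ H) (he1 : e 1 = 1) (he : ∀ x u, u ∈ nb x ↔ e u ∈ nb (e x))
    {x : G} (hx1 : x ≠ 1) (hx : IsMaxCyc x) (hn : ¬ IsPrimePow (orderOf x)) :
    (∃ h : H, h ≠ 1 ∧ IsMaxCyc h ∧ orderOf h = orderOf x ∧ nb h = nb (e x)) ∨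
    ((orderOf (e x)).Prime ∧ Nat.totient (orderOf x) = orderOf (e x) - 1 ∧
      Nat.totient (orderOf x) ∣ orderOf x - 1 ∧
      ∃ z : H, e x ∈ zpowers z ∧ IsMaxCyc z ∧ e.symm z ∈ zpowers x ∧ orderOf z ≠ orderOf (e x) ∧
        orderOf (e.symm z) ≠ orderOf x) := by
  classical
  set n := orderOf x with hndef
  let T : Set H := {w | w ≠ 1 ∧ nb w = nb (e x)}
  have hNG : nb x = (zpowers x : Set G) := hx.nb_eq
  have hgen : ∀ w : G, w ≠ 1 → ((∀ b ∈ zpowers x, b ∈ nb w) ∧ w ∈ zpowers x ↔ zpowers w = zpowers x) := by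
    intro w hw1
    constructor
    · rintro ⟨hf, hw⟩
      exact zpowers_eq_of_orderOf_eq hw (orderOf_eq_of_full hx1 hn hw hw1 hf)
    · intro h
      refine ⟨fun b hb => Or.inr (h ▸ hb), h ▸ mem_zpowers w⟩
  have hfullT : ∀ w : H, w ≠ 1 → w ∈ nb (e x) → (∀ u ∈ nb (e x), u ∈ nb w) → w ∈ T := by
    intro w hw1 hw hf
    have h1 : e.symm w ≠ 1 := fun h => hw1 (by rw [← e.apply_symm_apply w, h, he1])
    have h2 : e.symm w ∈ zpowers x := by
      rw [← SetLike.mem_coe, ← hNG, he, e.apply_symm_apply]; exact hw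
    have h3 := ((hgen _ h1).1 ⟨fun b hb => by
      rw [he, e.apply_symm_apply]
      exact hf _ ((he x b).1 (Or.inr hb)), h2⟩)
    refine ⟨hw1, ?_⟩
    have h4 := nb_eq_of_zpowers_eq h3
    ext u
    rw [← e.apply_symm_apply u, ← e.apply_symm_apply w, ← he, ← he, h4]
  have hTcard : T.ncard = Nat.totient n := by
    rw [hndef, ← card_gen x, ← Set.ncard_image_of_injective _ e.injective]
    congr 1
    ext w
    constructor
    · rintro ⟨hw1, hw⟩
      refine ⟨e.symm w, ?_, e.apply_symm_apply w⟩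
      have h1 : e.symm w ≠ 1 := fun h => hw1 (by rw [← e.apply_symm_apply w, h, he1])
      refine (hgen _ h1).1 ⟨fun b hb => ?_, ?_⟩
      · rw [he, e.apply_symm_apply, hw, ← he]; exact Or.inr hb
      · rw [← SetLike.mem_coe, ← hNG, he, e.apply_symm_apply, ← hw]; exact self_mem_nb w
    · rintro ⟨w, hw, rfl⟩
      have h4 := nb_eq_of_zpowers_eq (hw : zpowers w = zpowers x)
      refine ⟨fun h => hx1 ?_, ?_⟩
      · have hw1 : w = 1 := e.injective (h.trans he1.symm)
        rw [Set.mem_ofPred_eq, hw1, zpowers_one_eq_bot] at hw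
        exact zpowers_eq_bot.1 hw.symm
      · ext u
        rw [← e.apply_symm_apply u, ← he, ← he, h4]
  have hxT : e x ∈ T := ⟨fun h => hx1 (e.injective (h.trans he1.symm)), rfl⟩
  obtain ⟨y, hyT, hymax⟩ := Set.exists_max_image T orderOf (Set.toFinite _) ⟨_, hxT⟩
  obtain ⟨hy1, hyn⟩ := hyT
  have hNcard : (nb y).ncard = n := by
    rw [hndef, ← Nat.card_zpowers, ← SetLike.coe_sort_coe, Nat.card_coe_set_eq, ← hNG, hyn,
      ← Set.ncard_image_of_injective _ e.injective]
    congr 1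
    ext u
    rw [Set.mem_image]
    exact ⟨fun h => ⟨e.symm u, (he x _).2 (by rwa [e.apply_symm_apply]), e.apply_symm_apply u⟩,
      fun ⟨v, hv, hvu⟩ => hvu ▸ (he x v).1 hv⟩
  by_cases hymc : IsMaxCyc y
  · refine Or.inl ⟨y, hy1, hymc, ?_, hyn⟩
    rw [← hNcard, hymc.nb_eq, ← Nat.card_coe_set_eq, SetLike.coe_sort_coe, Nat.card_zpowers]
  right
  obtain ⟨z, hyz, hzmc⟩ := exists_maxCyc y
  have hzy : z ∉ zpowers y := fun h => hymc fun u hu => by
    have h1 : zpowers y = zpowers z := le_antisymm (zpowers_le.2 hyz) (zpowers_le.2 h)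
    rw [h1]
    exact hzmc u (zpowers_le.1 (h1 ▸ zpowers_le.2 hu))
  have hstrict : ∀ u : H, y ∈ zpowers u → u ∉ zpowers y → orderOf y < orderOf u := by
    intro u h1 h2
    refine lt_of_le_of_ne (Nat.le_of_dvd (orderOf_pos u) (orderOf_dvd_of_mem_zpowers h1)) fun h => h2 ?_
    rw [zpowers_eq_of_orderOf_eq h1 h]
    exact mem_zpowers u
  have hlt := hstrict z hyz hzy
  have hzT : z ∉ T := fun h => (hymax z h).not_gt hlt
  have hz1 : z ≠ 1 := fun h => hy1 (by rw [h, zpowers_one_eq_bot, mem_bot] at hyz; exact hyz)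
  have hznb : z ∈ nb (e x) := hyn ▸ Or.inl hyz
  have hxz : e.symm z ∈ zpowers x := by
    rw [← SetLike.mem_coe, ← hNG, he, e.apply_symm_apply]; exact hznb
  have hzne : e.symm z ≠ 1 := fun h => hz1 (by rw [← e.apply_symm_apply z, h, he1])
  have hzord : orderOf (e.symm z) ≠ n := fun h => hzT (by
    have h4 := nb_eq_of_zpowers_eq (zpowers_eq_of_orderOf_eq hxz h)
    refine ⟨hz1, ?_⟩
    ext u
    rw [← e.apply_symm_apply u, ← e.apply_symm_apply z, ← he, ← he, h4])
  -- every nontrivial power of `y` is a twin of `y`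
  have hdown : ∀ d ∈ zpowers y, d ≠ 1 → d ∈ T := by
    intro d hd hd1
    refine hfullT d hd1 (hyn ▸ Or.inr hd) ?_
    by_contra hcon
    push Not at hcon
    obtain ⟨u, hu, hud⟩ := hcon
    have h1 : e.symm d ≠ 1 := fun h => hd1 (by rw [← e.apply_symm_apply d, h, he1])
    have h2 : e.symm d ∈ zpowers x := by
      rw [← SetLike.mem_coe, ← hNG, he, e.apply_symm_apply, ← hyn]; exact Or.inr hd
    have h3 : orderOf (e.symm d) ≠ n := fun h => hud (by
      have h4 := nb_eq_of_zpowers_eq (zpowers_eq_of_orderOf_eq h2 h)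
      rw [← e.apply_symm_apply u, ← e.apply_symm_apply d, ← he, h4, he, e.apply_symm_apply]
      exact hu)
    have := nonfull_linked hx1 hn (fun a => e a ∈ zpowers y) (fun a ha b hb hab => ?_)
      h2 h1 h3 hxz hzne hzord
    · rw [e.apply_symm_apply, e.apply_symm_apply] at this
      exact hzy (this.1 hd)
    · have hA : e a ∈ nb y := hyn ▸ (he x a).1 (Or.inr ha)
      have hB : e b ∈ nb y := hyn ▸ (he x b).1 (Or.inr hb)
      rw [he] at hab
      constructor <;> intro h <;> by_contra h'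
      · exact hab (Or.inl (zpowers_le.2 (hB.resolve_right h') h))
      · exact hab (Or.inr (zpowers_le.2 (hA.resolve_right h') h))
  have hTeq : T = (zpowers y : Set H) \ {1} := by
    ext w
    refine ⟨fun h => ⟨?_, h.1⟩, fun h => hdown w h.1 h.2⟩
    by_contra hwy
    have hw : w ∈ nb y := by rw [hyn, ← h.2]; exact self_mem_nb w
    exact (hymax w h).not_gt (hstrict w (hw.resolve_right hwy) hwy)
  have hphi : Nat.totient n = orderOf y - 1 := by
    rw [← hTcard, hTeq, Set.ncard_sdiff_singleton_of_mem (zpowers y).one_mem, ← Nat.card_coe_set_eq,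
      SetLike.coe_sort_coe, Nat.card_zpowers]
  -- a generator of the prime order subgroup
  have hy1' : orderOf y ≠ 1 := fun h => hy1 (orderOf_eq_one_iff.1 h)
  obtain ⟨r, hr, hry⟩ := Nat.exists_prime_and_dvd hy1'
  obtain ⟨c, hc, hcr⟩ := exists_mem_zpowers_orderOf y hry
  have hc1 : c ≠ 1 := fun h => hr.ne_one (by rw [← hcr, h, orderOf_one])
  obtain ⟨s, hs⟩ : ∃ s, orderOf y = r ^ s := by
    refine ⟨(orderOf y).factorization r, ?_⟩
    have huniq : ∀ q : ℕ, q.Prime → q ∣ orderOf y → q = r := by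
      intro q hq hqy
      obtain ⟨d, hd, hdq⟩ := exists_mem_zpowers_orderOf y hqy
      have hd1 : d ≠ 1 := fun h => hq.ne_one (by rw [← hdq, h, orderOf_one])
      have hcd : d ∈ nb c := by
        rw [(hdown c hc hc1).2, ← (hdown d hd hd1).2]; exact self_mem_nb d
      rcases (mem_nb_iff_dvd hc hd).1 hcd with h | h <;> rw [hcr, hdq] at h
      · exact ((Nat.prime_dvd_prime_iff_eq hr hq).1 h).symm
      · exact (Nat.prime_dvd_prime_iff_eq hq hr).1 h
    have := Nat.eq_prime_pow_of_unique_prime_dvd (orderOf_pos y).ne' (p := r) fun {q} hq h => huniq q hq h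
    rw [this, Nat.Prime.factorization_pow hr]
    simp
  have hn2 : 1 < n := lt_of_le_of_ne (orderOf_pos x) (fun h => hx1 (orderOf_eq_one_iff.1 h.symm))
  have hUcl : ∀ u ∈ nb y \ (zpowers y : Set H), ∀ v, zpowers v = zpowers u →
      v ∈ nb y \ (zpowers y : Set H) := by
    intro u hu v hv
    refine ⟨?_, fun h => hu.2 ?_⟩
    · rw [nb_symm, nb_eq_of_zpowers_eq hv, ← nb_symm]; exact hu.1
    · exact zpowers_le.2 h (hv ▸ mem_zpowers u)
  have hUcard : n = orderOf y + (nb y \ (zpowers y : Set H)).ncard := by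
    rw [← hNcard, ← Nat.card_zpowers, ← SetLike.coe_sort_coe, Nat.card_coe_set_eq, add_comm,
      Set.ncard_sdiff_add_ncard_of_subset (show (zpowers y : Set H) ⊆ nb y from fun u hu => Or.inr hu)]
  have hs1 : s = 1 := by
    rcases Nat.lt_trichotomy s 1 with h | h | h
    · exact absurd (by rw [hs, Nat.lt_one_iff.1 h, pow_zero]) hy1'
    · exact h
    exfalso
    -- every element above `y` is an `r`-element
    have hdvd : r ^ s ∣ n := by
      rw [hUcard, hs]
      refine dvd_add dvd_rfl (dvd_ncard_of_closed _ hUcl fun u hu => ?_)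
      have hyu : y ∈ zpowers u := hu.1.resolve_right hu.2
      have hd := orderOf_dvd_of_mem_zpowers hyu
      have huniq : ∀ q : ℕ, q.Prime → q ∣ orderOf u → q = r := by
        intro q hq hqu
        by_contra hne
        have hru : r * q ∣ orderOf u :=
          ((Nat.coprime_primes hr hq).2 (Ne.symm hne)).mul_dvd_of_dvd_of_dvd (hry.trans hd) hqu
        obtain ⟨w, hw, hwo⟩ := exists_mem_zpowers_orderOf u hru
        have hcw : c ∈ zpowers w :=
          mem_zpowers_of_dvd (zpowers_le.2 hyu hc) hw (by rw [hcr, hwo]; exact dvd_mul_right r q)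
        have hwy : w ∈ nb y := by
          rw [hyn, ← (hdown c hc hc1).2]; exact Or.inl hcw
        rcases (mem_nb_iff_dvd hyu hw).1 hwy with h' | h' <;> rw [hs, hwo] at h'
        · have : r ^ 2 ∣ r * q := (pow_dvd_pow r h).trans h'
          rw [pow_two] at this
          exact hne ((Nat.prime_dvd_prime_iff_eq hr hq).1 ((Nat.mul_dvd_mul_iff_left hr.pos).1 this)).symm
        · exact hne ((Nat.prime_dvd_prime_iff_eq hq hr).1 (hq.dvd_of_dvd_pow ((dvd_mul_left q r).trans h')))
      have hu' := Nat.eq_prime_pow_of_unique_prime_dvd (orderOf_pos u).ne' (p := r)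
        fun {q} hq h => huniq q hq h
      have hlt' := hstrict u hyu hu.2
      rw [hu', hs] at hlt'
      have hst := (Nat.pow_lt_pow_iff_right hr.one_lt).1 hlt'
      obtain ⟨t, ht⟩ := Nat.exists_eq_add_of_lt hst
      rw [hu', ht, Nat.totient_prime_pow_succ hr]
      exact Dvd.dvd.mul_right (pow_dvd_pow r (Nat.le_add_right s t)) _
    have h2 : r ∣ Nat.totient n := by
      refine dvd_trans ?_ (Nat.totient_dvd_of_dvd ((pow_dvd_pow r h).trans hdvd))
      rw [Nat.totient_prime_pow_succ hr 1, pow_one]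
      exact dvd_mul_right r _
    rw [hphi, hs] at h2
    have h3 := Nat.dvd_sub (dvd_pow_self r (show s ≠ 0 by omega)) h2
    rw [show r ^ s - (r ^ s - 1) = 1 by have := Nat.one_le_pow s r hr.pos; omega] at h3
    exact hr.ne_one (Nat.dvd_one.1 h3)
  rw [hs1, pow_one] at hs
  have hxy : zpowers (e x) = zpowers y := by
    have h := hxT
    rw [hTeq] at h
    refine zpowers_eq_of_orderOf_eq h.1 ?_
    rcases (Nat.dvd_prime hr).1 (hs ▸ orderOf_dvd_of_mem_zpowers h.1) with h' | h'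
    · exact absurd (orderOf_eq_one_iff.1 h') h.2
    · rw [h', hs]
  have hordx : orderOf (e x) = r := by rw [← Nat.card_zpowers, hxy, Nat.card_zpowers, hs]
  refine ⟨hordx ▸ hr, by rw [hphi, hordx, hs], ?_, z, zpowers_le.1 (hxy ▸ zpowers_le.2 hyz), hzmc, hxz,
    by rw [hordx, ← hs]; exact hlt.ne', hzord⟩
  have h1 : orderOf y - 1 ∣ (nb y \ (zpowers y : Set H)).ncard := by
    refine dvd_ncard_of_closed _ hUcl fun u hu => ?_
    have h' := Nat.totient_dvd_of_dvd (orderOf_dvd_of_mem_zpowers (hu.1.resolve_right hu.2))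
    rwa [hs, Nat.totient_prime hr, ← hs] at h'
  rw [hphi, show n - 1 = (orderOf y - 1) + (nb y \ (zpowers y : Set H)).ncard by
    have := orderOf_pos y; omega]
  exact dvd_add dvd_rfl h1

/-- The exceptional configuration does not occur. -/
theorem exists_image_orderOf (e : G ≃ H) (he1 : e 1 = 1) (he : ∀ x u, u ∈ nb x ↔ e u ∈ nb (e x))
    {x : G} (hx1 : x ≠ 1) (hx : IsMaxCyc x) (hn : ¬ IsPrimePow (orderOf x)) :
    ∃ h : H, orderOf h = orderOf x := by
  rcases maxCyc_image e he1 he hx1 hx hn with ⟨h, -, -, ho, -⟩ | ⟨hr, hphi, hdvd, z, hyz, hzmc, hzx, hzo, hzn⟩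
  · exact ⟨h, ho⟩
  exfalso
  set n := orderOf x with hndef
  set r := orderOf (e x) with hrdef
  have hn2 : 1 < n := lt_of_le_of_ne (orderOf_pos x) (fun h => hx1 (orderOf_eq_one_iff.1 h.symm))
  have hsf := squarefree_of_totient_dvd hn2 hdvd
  have hz1 : z ≠ 1 := fun h => hr.ne_one (by
    rw [h, zpowers_one_eq_bot, mem_bot] at hyz; rw [hrdef, hyz, orderOf_one])
  set x₁ := e.symm z with hx₁
  have hx₁1 : x₁ ≠ 1 := fun h => hz1 (by rw [← e.apply_symm_apply z, ← hx₁, h, he1])
  have hxx₁ : x ∈ nb x₁ := Or.inl hzx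
  by_cases hm : IsPrimePow (orderOf z)
  · -- the neighbourhood of `x₁` is a clique
    have hclique : ∀ a ∈ nb x₁, ∀ b ∈ nb x₁, b ∈ nb a := by
      intro a ha b hb
      rw [he, hx₁, e.apply_symm_apply, hzmc.nb_eq] at ha hb
      rw [he, mem_nb_iff_dvd ha hb]
      obtain ⟨l, k, hl, -, hlk⟩ := hm
      obtain ⟨i, -, hi⟩ := (Nat.dvd_prime_pow hl.nat_prime).1 (hlk ▸ orderOf_dvd_of_mem_zpowers ha)
      obtain ⟨j, -, hj⟩ := (Nat.dvd_prime_pow hl.nat_prime).1 (hlk ▸ orderOf_dvd_of_mem_zpowers hb)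
      rw [hi, hj]
      exact (le_total i j).imp (pow_dvd_pow l) (pow_dvd_pow l)
    have hd : orderOf x₁ ∣ n := orderOf_dvd_of_mem_zpowers hzx
    have hd1 : orderOf x₁ ≠ 1 := fun h => hx₁1 (orderOf_eq_one_iff.1 h)
    obtain ⟨p, hp, hpd⟩ := Nat.exists_prime_and_dvd hd1
    have hpo : orderOf x₁ = p := by
      by_contra hne
      obtain ⟨k, hk⟩ := hpd
      have hk1 : k ≠ 1 := fun h => hne (by rw [hk, h, mul_one])
      obtain ⟨q, hq, hqk⟩ := Nat.exists_prime_and_dvd hk1
      have hqp : q ≠ p := by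
        rintro rfl
        exact hq.ne_one (Nat.isUnit_iff.1 (hsf q (((Nat.mul_dvd_mul_left q hqk).trans hk.symm.dvd).trans hd)))
      obtain ⟨a, ha, hao⟩ := exists_mem_zpowers_orderOf x₁ (hk ▸ dvd_mul_right p k : p ∣ orderOf x₁)
      obtain ⟨b, hb, hbo⟩ := exists_mem_zpowers_orderOf x₁ (hk ▸ Dvd.dvd.mul_left hqk p : q ∣ orderOf x₁)
      rcases (mem_nb_iff_dvd ha hb).1 (hclique a (Or.inr ha) b (Or.inr hb)) with h | h <;>
        rw [hao, hbo] at h
      · exact hqp ((Nat.prime_dvd_prime_iff_eq hp hq).1 h).symm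
      · exact hqp ((Nat.prime_dvd_prime_iff_eq hq hp).1 h)
    obtain ⟨k, hk⟩ : p ∣ n := hpo ▸ hd
    have hk1 : k ≠ 1 := fun h => hn (by rw [hk, h, mul_one]; exact hp.isPrimePow)
    obtain ⟨q, hq, hqk⟩ := Nat.exists_prime_and_dvd hk1
    have hcop : ∀ l : ℕ, l.Prime → l ∣ k → l ≠ p := by
      rintro l hl hlk rfl
      exact hl.ne_one (Nat.isUnit_iff.1 (hsf l (hk.symm ▸ Nat.mul_dvd_mul_left l hlk)))
    have hkq : k = q := by
      by_contra hne
      obtain ⟨j, hj⟩ := hqk
      have hj1 : j ≠ 1 := fun h => hne (by rw [hj, h, mul_one])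
      obtain ⟨l, hl, hlj⟩ := Nat.exists_prime_and_dvd hj1
      have hlk : l ∣ k := hj ▸ Dvd.dvd.mul_left hlj q
      have hlq : l ≠ q := by
        rintro rfl
        exact hl.ne_one (Nat.isUnit_iff.1 (hsf l ((Nat.mul_dvd_mul_left l hlj).trans
          (hk.symm ▸ hj ▸ dvd_mul_left _ p))))
      obtain ⟨a, ha, hao⟩ := exists_mem_zpowers_orderOf x (d := p * q)
        (by rw [show orderOf x = p * k from hk]; exact Nat.mul_dvd_mul_left p (hj ▸ dvd_mul_right q j))
      obtain ⟨b, hb, hbo⟩ := exists_mem_zpowers_orderOf x (d := p * l)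
        (by rw [show orderOf x = p * k from hk]; exact Nat.mul_dvd_mul_left p hlk)
      have ha' : a ∈ nb x₁ := Or.inl (mem_zpowers_of_dvd hzx ha (by rw [hpo, hao]; exact dvd_mul_right p q))
      have hb' : b ∈ nb x₁ := Or.inl (mem_zpowers_of_dvd hzx hb (by rw [hpo, hbo]; exact dvd_mul_right p l))
      rcases (mem_nb_iff_dvd ha hb).1 (hclique a ha' b hb') with h | h <;>
        rw [hao, hbo, Nat.mul_dvd_mul_iff_left hp.pos] at h
      · exact hlq ((Nat.prime_dvd_prime_iff_eq hq hl).1 h).symm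
      · exact hlq ((Nat.prime_dvd_prime_iff_eq hl hq).1 h)
    subst hkq
    have hqp := hcop k hq dvd_rfl
    rw [hk, Nat.totient_mul ((Nat.coprime_primes hp hq).2 (Ne.symm hqp)), Nat.totient_prime hp,
      Nat.totient_prime hq] at hdvd
    obtain ⟨P', hP'⟩ : ∃ P', p = P' + 1 := ⟨p - 1, by have := hp.pos; omega⟩
    obtain ⟨Q', hQ'⟩ : ∃ Q', k = Q' + 1 := ⟨k - 1, by have := hq.pos; omega⟩
    subst hP' hQ'
    simp only [Nat.add_sub_cancel] at hdvd
    have h0 : (P' + 1) * (Q' + 1) - 1 = P' * Q' + (P' + Q') := by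
      have : (P' + 1) * (Q' + 1) = P' * Q' + (P' + Q') + 1 := by ring
      omega
    rw [h0] at hdvd
    have h5 := (Nat.dvd_add_right dvd_rfl).1 hdvd
    have h6 : P' ∣ Q' := (Nat.dvd_add_right dvd_rfl).1 ((dvd_mul_right P' Q').trans h5)
    have h7 : Q' ∣ P' := (Nat.dvd_add_left dvd_rfl).1 ((dvd_mul_left Q' P').trans h5)
    exact hqp (by rw [Nat.dvd_antisymm h6 h7])
  · have hesymm : ∀ a u, u ∈ nb a ↔ e.symm u ∈ nb (e.symm a) := fun a u => by
      rw [he (e.symm a) (e.symm u), e.apply_symm_apply, e.apply_symm_apply]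
    rcases maxCyc_image e.symm (e.symm_apply_eq.2 he1.symm) hesymm hz1 hzmc hm with
      ⟨g, hg1, hg, -, hgn⟩ | ⟨hr', hphi', -, -⟩
    · -- then `x₁` would be a twin of `x`
      rw [← hx₁] at hgn
      have h1 : x ∈ zpowers g := by
        rw [← SetLike.mem_coe, ← hg.nb_eq, hgn]; exact hxx₁
      refine hzn (orderOf_eq_of_full hx1 hn hzx hx₁1 fun b hb => ?_)
      rw [← hgn, hg.nb_eq]
      exact zpowers_le.2 h1 hb
    · rw [← hx₁] at hr' hphi'
      have h1 : r - 1 ∣ orderOf x₁ - 1 := by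
        rw [← hphi']
        have := Nat.totient_dvd_of_dvd (orderOf_dvd_of_mem_zpowers hyz)
        rwa [← hrdef, Nat.totient_prime hr] at this
      have h2 : orderOf x₁ - 1 ∣ r - 1 := by
        rw [← hphi]
        have := Nat.totient_dvd_of_dvd (orderOf_dvd_of_mem_zpowers hzx)
        rwa [Nat.totient_prime hr'] at this
      have h3 : orderOf x₁ = r := by
        have h3 := Nat.dvd_antisymm h2 h1
        have := hr.two_le; have := hr'.two_le
        omega
      obtain ⟨k, hk⟩ : r ∣ n := h3 ▸ orderOf_dvd_of_mem_zpowers hzx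
      have hk1 : k ≠ 1 := fun h => hn (by rw [hk, h, mul_one]; exact hr.isPrimePow)
      have hcop : r.Coprime k := hr.coprime_iff_not_dvd.2 fun h =>
        hr.ne_one (Nat.isUnit_iff.1 (hsf r (hk.symm ▸ Nat.mul_dvd_mul_left r h)))
      rw [hk, Nat.totient_mul hcop, Nat.totient_prime hr] at hphi hdvd
      have hk2 : k = 2 := (Nat.totient_eq_one_iff.1
        (Nat.eq_of_mul_eq_mul_left (show 0 < r - 1 by have := hr.two_le; omega)
          (by rw [mul_one]; exact hphi))).resolve_left hk1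
      subst hk2
      rw [Nat.totient_two, mul_one] at hdvd
      have h4 : r - 1 ∣ 2 * (r - 1) := dvd_mul_left _ 2
      have h5 := Nat.dvd_sub hdvd h4
      rw [show r * 2 - 1 - 2 * (r - 1) = 1 by have := hr.two_le; omega, Nat.dvd_one] at h5
      have hr2 : r = 2 := by omega
      exact hn (by rw [hk, hr2]; exact Nat.prime_two.isPrimePow.pow two_ne_zero)

/-- One direction of the statement. -/
theorem half (e : G ≃ H) (he : ∀ x u : G, u ∈ nb x ↔ e u ∈ nb (e x)) {p q : ℕ} (hp : p.Prime)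
    (hq : q.Prime) (hpq : p ≠ q) (g : G) (hg : orderOf g = p * q) : ∃ h : H, orderOf h = p * q := by
  classical
  -- move the identity to the identity
  set a := e.symm 1 with ha
  have hfull : ∀ u : G, u ∈ nb a := fun u => by
    rw [he, ha, e.apply_symm_apply]; exact Or.inl (one_mem _)
  have hfull1 : ∀ u : G, u ∈ nb (1 : G) := fun u => Or.inl (one_mem _)
  let e' : G ≃ H := (Equiv.swap a 1).trans e
  have hσ : ∀ x u : G, u ∈ nb x ↔ Equiv.swap a 1 u ∈ nb (Equiv.swap a 1 x) := by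
    have key : ∀ x u : G, u ∈ nb x → Equiv.swap a 1 u ∈ nb (Equiv.swap a 1 x) := by
      intro x u hux
      by_cases hxa : x = a
      · subst hxa; rw [Equiv.swap_apply_left]; exact hfull1 _
      by_cases hx1 : x = 1
      · subst hx1; rw [Equiv.swap_apply_right]; exact hfull _
      rw [Equiv.swap_apply_of_ne_of_ne hxa hx1]
      by_cases hua : u = a
      · subst hua; rw [Equiv.swap_apply_left, nb_symm]; exact hfull1 _
      by_cases hu1 : u = 1
      · subst hu1; rw [Equiv.swap_apply_right, nb_symm]; exact hfull _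
      rwa [Equiv.swap_apply_of_ne_of_ne hua hu1]
    exact fun x u => ⟨key x u, fun h => by simpa using key _ _ h⟩
  obtain ⟨x, hgx, hx⟩ := exists_maxCyc g
  have hd : p * q ∣ orderOf x := hg ▸ orderOf_dvd_of_mem_zpowers hgx
  have hx1 : x ≠ 1 := fun h => by
    rw [h, orderOf_one, Nat.dvd_one] at hd
    exact hp.ne_one (Nat.eq_one_of_mul_eq_one_right hd)
  have hn : ¬ IsPrimePow (orderOf x) := by
    intro h
    rw [isPrimePow_iff_unique_prime_dvd] at h
    exact hpq (h.unique ⟨hp, (dvd_mul_right p q).trans hd⟩ ⟨hq, (dvd_mul_left q p).trans hd⟩)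
  obtain ⟨h, hh⟩ := exists_image_orderOf e' (by simp [e', ha]) (fun x u => (hσ x u).trans (he _ _)) hx1 hx hn
  obtain ⟨b, -, hb⟩ := exists_mem_zpowers_orderOf h (hh.symm ▸ hd)
  exact ⟨b, hb⟩

end Transfer

/-- Let G and H be finite groups whose power graphs are isomorphic: there is a bijection e : G → H such that, for all x, y, one of x, y is a power of the other exactly when one of e(x), e(y) is a power of the other. Then G and H have the same prime graph: for distinct primes p, q, G has an element of order pq if and only if H does. -/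
theorem result {G H : Type*} [Group G] [Finite G] [Group H] [Finite H] (e : G ≃ H)
    (he : ∀ x y : G, (x ∈ Subgroup.zpowers y ∨ y ∈ Subgroup.zpowers x) ↔
      (e x ∈ Subgroup.zpowers (e y) ∨ e y ∈ Subgroup.zpowers (e x)))
    {p q : ℕ} (hp : p.Prime) (hq : q.Prime) (hpq : p ≠ q) :
    (∃ g : G, orderOf g = p * q) ↔ (∃ h : H, orderOf h = p * q) := by
  have h1 : ∀ x u : G, u ∈ nb x ↔ e u ∈ nb (e x) := fun x u => he x u
  refine ⟨fun ⟨g, hg⟩ => half e h1 hp hq hpq g hg,
    fun ⟨h, hh⟩ => half e.symm (fun x u => ?_) hp hq hpq h hh⟩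
  rw [h1 (e.symm x) (e.symm u), e.apply_symm_apply, e.apply_symm_apply]

end Cfsg.Agent.S4085
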