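import Cfsg.Statements.S0976
import Cfsg.Agent.Lib.Transfer.ExcSimple
import Cfsg.Agent.Lib.Transfer.Order4032

set_option autoImplicit false
open Cfsg

namespace Cfsg.Agent.S0976

/-- No finite simple group has order 4032 = 2^6 * 3^2 * 7. -/
theorem result {G : Type*} [Group G] [Finite G] [IsSimpleGroup G] : Nat.card G ≠ 4032 := by
  intro hcard
  have := Fintype.ofFinite G
  have hp : Fact (Nat.Prime 7) := ⟨by norm_num⟩
  have hG : ¬ IsMulCommutative G :=
    CfsgLib.Transfer.not_isMulCommutative_of_not_prime (by rw [hcard]; norm_num)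
  obtain ⟨P, n, e, C, hP, hn, hn1, hnmod, -, hC, hN, hpC, he, he1, hnN, -, hn8⟩ :=
    CfsgLib.Transfer.prime_sylow_data (p := 7) hG (by rw [hcard]; norm_num)
      (by rw [hcard]; norm_num)
  rw [hcard] at hnN
  obtain ⟨c, rfl⟩ := hpC
  obtain ⟨k, rfl⟩ : ∃ k, n = 7 * k + 1 := ⟨n / 7, by omega⟩
  have h576 : (7 * k + 1) * (e * c) = 576 := by nlinarith
  have he6 : e ≤ 6 := Nat.le_of_dvd (by norm_num) he
  have hk : k = 5 ∨ k = 9 ∨ k = 41 := by
    have hd : (7 * k + 1) ∣ 576 := ⟨_, h576.symm⟩
    have : k ≤ 82 := by
      have := Nat.le_of_dvd (by norm_num) hd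
      omega
    interval_cases k <;> first
      | omega
      | (norm_num at hd; done)
      | (rcases hn8 rfl with h | h
         · have h72 : e * c = 72 := by omega
           rw [show e * (7 * c) = 7 * (e * c) by ring, h72] at h
           norm_num at h
         · norm_num at h)
      | (exfalso
         have h1 : e * c = 1 := by omega
         have := Nat.eq_one_of_mul_eq_one_right h1
         omega)
  rcases hk with rfl | rfl | rfl
  · -- 36 Sylow 7-subgroups
    have hec : e * c = 16 := by omega
    obtain ⟨he2, hc⟩ : e = 2 ∧ c = 8 := by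
      interval_cases e <;> norm_num at he <;> omega
    subst he2 hc
    have h6 : Nat.card (Sylow 7 G) = 36 := by rw [← hn]
    obtain ⟨H, m, hH, hm1, hmp, hmd⟩ := CfsgLib.Transfer.exists_centralizer_two_sylow (p := 7)
      (by norm_num) hG P hP (by rw [h6]; decide) 3 (by rw [← hC]; norm_num) (by norm_num)
    have hi := CfsgLib.Transfer.two_mul_card_dvd_factorial hG hH
    have hHc := H.index_mul_card
    rw [hcard] at hi hHc
    have hi9 : 8 ≤ H.index := by
      by_contra hlt
      have hlt' : H.index ≤ 7 := by omega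
      revert hi
      generalize H.index = i at hlt'
      interval_cases i <;> decide
    obtain ⟨l, hl⟩ := hmd
    have hl1 : 1 ≤ l := Nat.pos_of_ne_zero fun h => by
      rw [h, mul_zero] at hl; exact Nat.card_pos.ne' hl
    have hm8 : m = 8 ∧ H.index = 9 := by
      rw [hl] at hHc
      have h1 : H.index * (m * l) = 72 := by nlinarith
      have hml : m * 1 ≤ m * l := Nat.mul_le_mul_left _ hl1
      have : 8 * m ≤ 72 := by nlinarith
      have : m = 8 := by omega
      subst this
      refine ⟨rfl, ?_⟩
      have : H.index ≤ 9 := by nlinarith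
      generalize H.index = i at this h1 hi9 ⊢
      interval_cases i <;> omega
    obtain ⟨x, hx⟩ := exists_prime_orderOf_dvd_card' (G := (P : Subgroup G)) 7 (by rw [hP])
    have hxo : orderOf (x : G) = 7 := by rw [Subgroup.orderOf_coe, hx]
    have hd := CfsgLib.Transfer.card_centralizer_dvd_of_small_index hG hH (p := 7) (x := (x : G))
      (by omega) hxo
    have hle := Subgroup.card_dvd_of_le (show Subgroup.centralizer ((P : Subgroup G) : Set G) ≤
      Subgroup.centralizer ({(x : G)} : Set G) from Subgroup.centralizer_le (by simp))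
    have := hle.trans hd
    rw [← hC, hm8.2] at this
    exact absurd this (by decide)
  · -- 64 Sylow 7-subgroups
    have hec : e * c = 9 := by omega
    obtain ⟨he3, hc⟩ : e = 3 ∧ c = 3 := by
      interval_cases e <;> norm_num at he <;> omega
    subst he3 hc
    exact CfsgLib.Transfer.false_of_card_4032_sylow_64 hG hcard P hP (by rw [hN]) (by rw [← hC])
  · -- 288 Sylow 7-subgroups
    have hec : e * c = 2 := by omega
    obtain ⟨he2, hc⟩ : e = 2 ∧ c = 1 := by
      interval_cases e <;> norm_num at he <;> omega
    subst he2 hc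
    have hA := CfsgLib.Transfer.centralizer_singleton_eq (P : Subgroup G) hP (by rw [← hC])
    obtain ⟨s, D, d, c', q, hs, hD, hd, hd1, ⟨k, hk0, hk⟩, hdD, hsq, hc0, -, hid⟩ :=
      CfsgLib.Transfer.exc_two_numeric (P : Subgroup G) hA hG (w := 3)
        (by rw [hN, hP]) (by rw [hP]) (by norm_num)
    rw [hcard] at hD hd hsq hid
    rw [hP] at hk hid
    have hd0 : (d : ℤ) ≥ D - 1 := by rcases hs with h | h <;> omega
    have hD32 : D ≤ 32 := by
      by_contra h
      have h1 : 32 ≤ d := by omega
      nlinarith
    have hk4 : k ≤ 4 := by rcases hs with h | h <;> omega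
    have hD8 : D = 8 ∧ d = 9 := by
      interval_cases k <;> rcases hs with rfl | rfl <;> push_cast at hk <;>
        (obtain rfl : D = _ := Int.ofNat.inj hk) <;>
        first
          | (norm_num at hD; done)
          | exact ⟨rfl, by omega⟩
          | (obtain rfl : d = _ := Int.ofNat.inj hdD
             norm_num at hd)
    obtain ⟨rfl, rfl⟩ := hD8
    have h8 : c' ^ 2 = 8 * q.natAbs ^ 2 := by
      have : (c' : ℤ) ^ 2 = 8 * q ^ 2 := by push_cast at hid; linarith
      rw [← Int.natAbs_sq q] at this
      exact_mod_cast this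
    have hq : q.natAbs ≠ 0 := fun h => by
      rw [h] at h8; simp at h8; omega
    have := congrArg (fun m : ℕ => m.factorization 2) h8
    simp only [Nat.factorization_pow, Nat.factorization_mul (show (8 : ℕ) ≠ 0 by norm_num)
      (pow_ne_zero 2 hq), Finsupp.smul_apply, Finsupp.add_apply, smul_eq_mul] at this
    rw [show (8 : ℕ) = 2 ^ 3 by norm_num, Nat.Prime.factorization_pow Nat.prime_two,
      Finsupp.single_eq_same] at this
    omega


end Cfsg.Agent.S0976
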