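import Cfsg.Statements.S0977
import Cfsg.Agent.Lib.ClassK.RowInvert
import Cfsg.Agent.Lib.Block.ThreePrimeSimple

set_option autoImplicit false
open Cfsg

namespace Cfsg.Agent.S0977

/-- No finite simple group has order 4320 = 2^5 * 3^3 * 5. -/
theorem result {G : Type*} [Group G] [Finite G] [IsSimpleGroup G] : Nat.card G ≠ 4320 := by
  intro hcard
  have : Fact (Nat.Prime 5) := ⟨by norm_num⟩
  have := Fintype.ofFinite G
  have hG : ¬ IsMulCommutative G :=
    CfsgLib.Transfer.not_isMulCommutative_of_not_prime (by rw [hcard]; norm_num)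
  obtain ⟨P⟩ := (inferInstance : Nonempty (Sylow 5 G))
  have hP : Nat.card P = 5 :=
    CfsgLib.Transfer.card_sylow_eq_prime P (by rw [hcard]; norm_num) (by rw [hcard]; norm_num)
  have hC : Nat.card (Subgroup.centralizer ((P : Subgroup G) : Set G)) = 5 := by
    rw [show ((P : Subgroup G) : Set G) = (P : Set G) from rfl,
      CfsgLib.Block.ThreePrimeSimple.centralizer_sylow_eq (p := 2) (q := 3) (r := 5) (a := 5)
      (b := 3) Nat.prime_two Nat.prime_three (by norm_num) (by norm_num)
      (by rw [hcard]; norm_num) P, hP]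
  obtain ⟨he2, hed, hnm, hprod⟩ := CfsgLib.ClassK.RowInvolution.config_of_selfCentral hG P hP hC
  rw [hcard] at hprod
  obtain ⟨hnp, he⟩ : Nat.card (Sylow 5 G) = 216 ∧
      (Subgroup.centralizer ((P : Subgroup G) : Set G)).relIndex
        (Subgroup.normalizer ((P : Subgroup G) : Set G)) = 4 := by
    revert he2 hed hprod
    generalize (Subgroup.centralizer ((P : Subgroup G) : Set G)).relIndex
      (Subgroup.normalizer ((P : Subgroup G) : Set G)) = e
    intro he2 hed hprod
    have := Nat.le_of_dvd (by norm_num) hed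
    interval_cases e <;> omega
  obtain ⟨x, t, hx, hx1, ht, hinv, h4⟩ :=
    CfsgLib.ClassK.RowInvolution.exists_inverting P hP hC (by norm_num) (k := 2) two_pos he
  set c := Nat.card (Subgroup.centralizer ({t} : Set G)) with hc
  have hcn : c ∣ 4320 := hcard ▸ Subgroup.card_subgroup_dvd_card _
  have hmem : (((c ^ 2 : ℕ) : ℤ), c) ∈ (((List.range 1081).map (4 * ·)).filter fun c =>
      decide (0 < c) && decide (4320 % c = 0)).map fun c => (((c * c : ℕ) : ℤ), c) := by
    refine List.mem_map.2 ⟨c, List.mem_filter.2 ⟨?_, ?_⟩, by rw [pow_two]⟩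
    · obtain ⟨j, hj⟩ := h4
      refine List.mem_map.2 ⟨j, List.mem_range.2 ?_, by rw [hj]; norm_num⟩
      have := Nat.le_of_dvd (by norm_num) hcn
      omega
    · simp [-Nat.card_eq_fintype_card, Nat.pos_of_dvd_of_pos hcn (by norm_num : 0 < 4320),
        Nat.mod_eq_zero_of_dvd hcn]
  have h := CfsgLib.ClassK.RowInvolution.involPossible_of_mem hG hcard (B := 66) (by norm_num)
    (by norm_num) (by norm_num) P hC hnp he hx hx1 ht (by norm_num)
    (CfsgLib.ClassK.RowInvolution.card_pairs_eq P hP (by norm_num) hC hx hx1 ht hinv) _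
    (K := c) le_rfl hmem
  exact Bool.false_ne_true ((show _ = false by decide +kernel).symm.trans h)


end Cfsg.Agent.S0977
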