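import Cfsg.Statements.S0978
import Cfsg.Agent.Lib.ClassK.RowSieve

set_option autoImplicit false
open Cfsg

namespace Cfsg.Agent.S0978

/-- No finite simple group has order 5040 = 2^4 * 3^2 * 5 * 7. -/
theorem result {G : Type*} [Group G] [Finite G] [IsSimpleGroup G] : Nat.card G ≠ 5040 := by
  intro hcard
  have : Fact (Nat.Prime 5) := ⟨by norm_num⟩
  exact CfsgLib.ClassK.RowSieve.false_of_rowPossible (p := 5) (B := 71)
    (CfsgLib.Transfer.not_isMulCommutative_of_not_prime (by rw [hcard]; norm_num)) hcard
    (by norm_num) (by norm_num) (by norm_num) (by decide +kernel)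


end Cfsg.Agent.S0978
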