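import Cfsg.Statements.S0979
import Cfsg.Agent.Lib.Transfer.ExcSimple
import Cfsg.Agent.Lib.Transfer.PrimeSylow

set_option autoImplicit false
open Cfsg

namespace Cfsg.Agent.S0979

/-- No finite simple group has order 5472 = 2^5 * 3^2 * 19. -/
theorem result {G : Type*} [Group G] [Finite G] [IsSimpleGroup G] : Nat.card G ≠ 5472 := by
  intro hcard
  have := Fintype.ofFinite G
  have hp : Fact (Nat.Prime 19) := ⟨by norm_num⟩
  have hG : ¬ IsMulCommutative G :=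
    CfsgLib.Transfer.not_isMulCommutative_of_not_prime (by rw [hcard]; norm_num)
  obtain ⟨P, n, e, C, hP, -, hn1, hnmod, -, hC, hN, hpC, he, he1, hnN, -, -⟩ :=
    CfsgLib.Transfer.prime_sylow_data (p := 19) hG (by rw [hcard]; norm_num)
      (by rw [hcard]; norm_num)
  rw [hcard] at hnN
  obtain ⟨c, rfl⟩ := hpC
  obtain ⟨k, rfl⟩ : ∃ k, n = 19 * k + 1 := ⟨n / 19, by omega⟩
  have h288 : (19 * k + 1) * (e * c) = 288 := by nlinarith
  have hk : k = 5 := by
    have : (19 * k + 1) * (2 * 1) ≤ 288 := by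
      rw [← h288]
      refine Nat.mul_le_mul_left _ (Nat.mul_le_mul he1 ?_)
      rcases Nat.eq_zero_or_pos c with h | h
      · subst h; simp at h288
      · exact h
    have hd : (19 * k + 1) ∣ 288 := ⟨_, h288.symm⟩
    have : k ≤ 7 := by omega
    interval_cases k <;> first | omega | norm_num at hd
  subst hk
  have hec : e * c = 3 := by omega
  obtain ⟨he3, hc⟩ : e = 3 ∧ c = 1 := by
    have := Nat.le_of_dvd (by norm_num : 0 < 3) ⟨c, hec.symm⟩
    interval_cases e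
    · omega
    · exact ⟨rfl, by omega⟩
  subst he3 hc
  have hA := CfsgLib.Transfer.centralizer_singleton_eq (P : Subgroup G) hP (by rw [← hC])
  obtain ⟨s₁, s₂, ε, D₁, D₂, d, hs₁, hs₂, hε, heq, hD₁, hD₂, hd, hd1, ⟨k₁, hk₁, hk₁'⟩,
      ⟨k₂, hk₂, hk₂'⟩, ⟨z, hz⟩, hsq⟩ :=
    CfsgLib.Transfer.exc_three_numeric (P : Subgroup G) hA hG (w := 6)
      (by rw [hN, hP]) (by rw [hP]) (by norm_num)
  rw [hcard] at hD₁ hD₂ hd hsq
  rw [hP] at hk₁' hk₂' hz
  have hb : D₁ ≤ 73 ∧ D₂ ≤ 73 ∧ d ≤ 30 := ⟨by nlinarith, by nlinarith, by nlinarith⟩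
  have key : ∀ (D k : ℕ) (s : ℤ), (s = 1 ∨ s = -1) → 0 < k → (D : ℤ) = s + (19 : ℕ) * k → D ≤ 73 →
      D ∣ 5472 → D = 18 ∧ s = -1 := by
    intro D k s hs hk hD hle hdvd
    have : k ≤ 3 := by rcases hs with h | h <;> omega
    interval_cases k <;> rcases hs with rfl | rfl <;> push_cast at hD <;>
      first
        | exact ⟨by omega, rfl⟩
        | (obtain rfl : D = _ := Int.ofNat.inj hD
           norm_num at hdvd)
  obtain ⟨rfl, rfl⟩ := key D₁ k₁ s₁ hs₁ hk₁ hk₁' hb.1 hD₁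
  obtain ⟨rfl, rfl⟩ := key D₂ k₂ s₂ hs₂ hk₂ hk₂' hb.2.1 hD₂
  rcases hε with rfl | rfl <;> push_cast at heq <;> omega


end Cfsg.Agent.S0979
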