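import Cfsg.Statements.S0980
import Cfsg.Agent.Lib.ClassK.RowInvert
import Cfsg.Agent.Lib.Block.ThreePrimeSimple

set_option autoImplicit false
open Cfsg

namespace Cfsg.Agent.S0980

/-- No finite simple group has order 5760 = 2^7 * 3^2 * 5. -/
theorem result {G : Type*} [Group G] [Finite G] [IsSimpleGroup G] : Nat.card G ≠ 5760 := by
  intro hcard
  have : Fact (Nat.Prime 5) := ⟨by norm_num⟩
  have := Fintype.ofFinite G
  have : Fact (Nat.Prime 2) := ⟨Nat.prime_two⟩
  have hG : ¬ IsMulCommutative G :=
    CfsgLib.Transfer.not_isMulCommutative_of_not_prime (by rw [hcard]; norm_num)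
  obtain ⟨P⟩ := (inferInstance : Nonempty (Sylow 5 G))
  have hP : Nat.card P = 5 :=
    CfsgLib.Transfer.card_sylow_eq_prime P (by rw [hcard]; norm_num) (by rw [hcard]; norm_num)
  have hC : Nat.card (Subgroup.centralizer ((P : Subgroup G) : Set G)) = 5 := by
    rw [show ((P : Subgroup G) : Set G) = (P : Set G) from rfl,
      CfsgLib.Block.ThreePrimeSimple.centralizer_sylow_eq (p := 2) (q := 3) (r := 5) (a := 7)
      (b := 2) Nat.prime_two Nat.prime_three (by norm_num) (by norm_num)
      (by rw [hcard]; norm_num) P, hP]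
  obtain ⟨he2, hed, hnm, hprod⟩ := CfsgLib.ClassK.RowInvolution.config_of_selfCentral hG P hP hC
  rw [hcard] at hprod
  obtain ⟨hnp, he⟩ : Nat.card (Sylow 5 G) = 576 ∧
      (Subgroup.centralizer ((P : Subgroup G) : Set G)).relIndex
        (Subgroup.normalizer ((P : Subgroup G) : Set G)) = 2 := by
    revert he2 hed hprod
    generalize (Subgroup.centralizer ((P : Subgroup G) : Set G)).relIndex
      (Subgroup.normalizer ((P : Subgroup G) : Set G)) = e
    intro he2 hed hprod
    have := Nat.le_of_dvd (by norm_num) hed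
    interval_cases e <;> omega
  -- an involution central in a Sylow 2-subgroup
  obtain ⟨T⟩ := (inferInstance : Nonempty (Sylow 2 G))
  have hT : Nat.card (T : Subgroup G) = 2 ^ 7 :=
    CfsgLib.ClassK.card_sylow_of_exact T (by rw [hcard]; norm_num) (by rw [hcard]; norm_num)
  have : Nontrivial (T : Subgroup G) := Finite.one_lt_card_iff_nontrivial.1 (by rw [hT]; norm_num)
  have := T.isPGroup'.center_nontrivial
  obtain ⟨z, hz⟩ := exists_prime_orderOf_dvd_card' (G := Subgroup.center (T : Subgroup G)) 2 (by
    obtain ⟨j, hj⟩ := (T.isPGroup'.to_subgroup (Subgroup.center (T : Subgroup G))).exists_card_eq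
    have h1 : 1 < Nat.card (Subgroup.center (T : Subgroup G)) := Finite.one_lt_card
    rw [hj] at h1 ⊢
    exact dvd_pow_self 2 fun h => by rw [h] at h1; norm_num at h1)
  set u : G := ((z : (T : Subgroup G)) : G) with hudef
  have hu : orderOf u = 2 := by rw [hudef, Subgroup.orderOf_coe, Subgroup.orderOf_coe, hz]
  have h128 : 128 ∣ Nat.card (Subgroup.centralizer ({u} : Set G)) := by
    refine (show (128 : ℕ) = 2 ^ 7 by norm_num) ▸ hT ▸ Subgroup.card_dvd_of_le fun a ha => ?_
    exact Subgroup.mem_centralizer_singleton_iff.2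
      (congrArg Subtype.val (Subgroup.mem_center_iff.1 z.2 ⟨a, ha⟩))
  have huu : u * u = 1 := by rw [← pow_two, ← hu, pow_orderOf_eq_one]
  obtain ⟨x, hx, hx1⟩ : ∃ x ∈ (P : Subgroup G), x ≠ 1 := by
    refine Subgroup.bot_or_exists_ne_one _ |>.resolve_left fun h => ?_
    rw [h, Subgroup.card_bot] at hP
    norm_num at hP
  by_cases hinv : ∃ g : G, (g * u * g⁻¹) * x * (g * u * g⁻¹)⁻¹ = x⁻¹
  · obtain ⟨g, hg⟩ := hinv
    set t := g * u * g⁻¹ with htdef
    have ht : orderOf t = 2 := by
      rw [htdef, ← hu]
      exact orderOf_injective (MulAut.conj g).toMonoidHom (MulAut.conj g).injective u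
    have hct : Nat.card (Subgroup.centralizer ({t} : Set G)) =
        Nat.card (Subgroup.centralizer ({u} : Set G)) :=
      CfsgLib.Transfer.card_centralizer_conj g u
    set c := Nat.card (Subgroup.centralizer ({t} : Set G)) with hc
    have hcn : c ∣ 5760 := hcard ▸ Subgroup.card_subgroup_dvd_card _
    rw [← hct] at h128
    have hmem : (((c ^ 2 : ℕ) : ℤ), c) ∈ (((List.range 46).map (128 * ·)).filter fun c =>
        decide (0 < c) && decide (5760 % c = 0)).map fun c => (((c * c : ℕ) : ℤ), c) := by
      refine List.mem_map.2 ⟨c, List.mem_filter.2 ⟨?_, ?_⟩, by rw [pow_two]⟩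
      · obtain ⟨j, hj⟩ := h128
        refine List.mem_map.2 ⟨j, List.mem_range.2 ?_, hj.symm⟩
        have := Nat.le_of_dvd (by norm_num) hcn
        omega
      · simp [-Nat.card_eq_fintype_card, Nat.pos_of_dvd_of_pos hcn (by norm_num : 0 < 5760),
          Nat.mod_eq_zero_of_dvd hcn]
    have h := CfsgLib.ClassK.RowInvolution.involPossible_of_mem hG hcard (B := 76) (by norm_num)
      (by norm_num) (by norm_num) P hC hnp he hx hx1 ht (by norm_num)
      (CfsgLib.ClassK.RowInvolution.card_pairs_eq P hP (by norm_num) hC hx hx1 ht hg) _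
      (K := c) le_rfl hmem
    exact Bool.false_ne_true ((show _ = false by decide +kernel).symm.trans h)
  · push Not at hinv
    have hN : Nat.card {s : G // IsConj (u * (s * u * s⁻¹)) x} = 0 := by
      have : IsEmpty {s : G // IsConj (u * (s * u * s⁻¹)) x} :=
        ⟨fun s => CfsgLib.ClassK.RowInvolution.not_isConj_of_not_invert huu huu hinv s.1 s.2⟩
      exact Nat.card_of_isEmpty
    have h := CfsgLib.ClassK.RowInvolution.involPossible_of_mem hG hcard (B := 76) (by norm_num)
      (by norm_num) (by norm_num) P hC hnp he hx hx1 hu (by norm_num) hN [(0, 5760)]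
      (K := 5760) (hcard ▸ Subgroup.card_le_card_group _) (by simp)
    exact Bool.false_ne_true ((show _ = false by decide +kernel).symm.trans h)


end Cfsg.Agent.S0980
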