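import Cfsg.Statements.S0983
import Cfsg.Agent.Lib.ClassK.OrdersSweep
import Cfsg.Agent.Lib.ClassK.OrdersIntersect
import Cfsg.Agent.Lib.ClassK.RowSieve
import Cfsg.Agent.Lib.Block.PrimeSylow
import Cfsg.Agent.Lib.Transfer.ExcSimple
import Cfsg.Agent.Lib.Classical.PSLTwoPerm
import Cfsg.Agent.S0205
import Cfsg.Agent.S0975
import Cfsg.Agent.S0976
import Cfsg.Agent.S0977
import Cfsg.Agent.S0978
import Cfsg.Agent.S0979
import Cfsg.Agent.S0980
import Cfsg.Agent.S0992
import Cfsg.Agent.S4504

set_option autoImplicit false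
open Cfsg

namespace Cfsg.Agent.S0983

/-- A non-abelian finite simple group of order greater than 3640 and at most 6232 has order 4080, 5616, 6048 or 6072. -/
theorem result {G : Type*} [Group G] [Finite G] [IsSimpleGroup G] (hG : ¬ IsMulCommutative G) (h1 : 3640 < Nat.card G) (h2 : Nat.card G ≤ 6232) : Nat.card G = 4080 ∨ Nat.card G = 5616 ∨ Nat.card G = 6048 ∨ Nat.card G = 6072 := by
  have hne2 : ¬ Odd (Nat.card G) := fun h =>
    hG ⟨⟨IsSimpleGroup.comm_iff_isSolvable.2 (Cfsg.Agent.S0205.result h)⟩⟩
  have heven : 2 ∣ Nat.card G := (Nat.not_odd_iff_even.1 hne2).two_dvd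
  have hmem := CfsgLib.ClassK.card_mem_sweepRest hG heven h1 h2
  have hburn : ∀ p q a b : ℕ, p.Prime → q.Prime → Nat.card G ≠ p ^ a * q ^ b :=
    fun p q a b hp hq he => hG ⟨⟨IsSimpleGroup.comm_iff_isSolvable.2
      (CfsgLib.Char.burnside_pq p q hp hq a b G he)⟩⟩
  have hrow : ∀ n p : ℕ, Nat.card G = n → p.Prime → n < 79 * 79 → p ∣ n → ¬ p ^ 2 ∣ n →
      CfsgLib.ClassK.RowSieve.rowPossible n p 79 (fun _ _ => true) (fun _ => true)
        (fun _ => true) = false → False := by
    intro n p hn hp hB h1 h2 hf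
    have : Fact p.Prime := ⟨hp⟩
    exact CfsgLib.ClassK.RowSieve.false_of_rowPossible hG hn hB h1 h2 hf
  have hkeep : ∀ n : ℕ, n ∈ [4080, 5616, 6048, 6072] →
      Nat.card G = n → Nat.card G = 4080 ∨ Nat.card G = 5616 ∨ Nat.card G = 6048 ∨ Nat.card G = 6072 := by
    intro n hn e
    simp only [List.mem_cons, List.not_mem_nil, or_false] at hn
    omega
  have h4500 := CfsgLib.ClassK.card_ne_4500_5292_6000 hG
  simp only [CfsgLib.ClassK.sweepRest, List.mem_cons, List.not_mem_nil, or_false] at hmem
  rcases hmem with e | e | e | e | e | e | e | e | e | e | e | e | e | e | e | e | e | e | e | e |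
    e | e | e | e | e | e | e | e | e | e | e | e | e | e | e | e | e | e | e | e | e | e | e | e |
    e | e | e
  · exact (hrow _ 19 e (by norm_num) (by norm_num) (by norm_num) (by norm_num) (by decide +kernel)).elim
  · exact (hrow _ 11 e (by norm_num) (by norm_num) (by norm_num) (by norm_num) (by decide +kernel)).elim
  · exact absurd e Cfsg.Agent.S0975.result
  · exact (hrow _ 7 e (by norm_num) (by norm_num) (by norm_num) (by norm_num) (by decide +kernel)).elim
  · exact (hrow _ 5 e (by norm_num) (by norm_num) (by norm_num) (by norm_num) (by decide +kernel)).elim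
  · exact absurd e (hburn 2 3 4 5 Nat.prime_two Nat.prime_three)
  · exact (hrow _ 11 e (by norm_num) (by norm_num) (by norm_num) (by norm_num) (by decide +kernel)).elim
  · exact absurd e (hburn 2 5 5 3 Nat.prime_two Nat.prime_five)
  · exact absurd e Cfsg.Agent.S0976.result
  · exact hkeep _ (by simp) e
  · exact (hrow _ 13 e (by norm_num) (by norm_num) (by norm_num) (by norm_num) (by decide +kernel)).elim
  · exact (hrow _ 7 e (by norm_num) (by norm_num) (by norm_num) (by norm_num) (by decide +kernel)).elim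
  · exact (hrow _ 13 e (by norm_num) (by norm_num) (by norm_num) (by norm_num) (by decide +kernel)).elim
  · exact absurd e Cfsg.Agent.S0977.result
  · exact (hrow _ 11 e (by norm_num) (by norm_num) (by norm_num) (by norm_num) (by decide +kernel)).elim
  · exact (hrow _ 7 e (by norm_num) (by norm_num) (by norm_num) (by norm_num) (by decide +kernel)).elim
  · exact absurd e h4500.1
  · exact (hrow _ 7 e (by norm_num) (by norm_num) (by norm_num) (by norm_num) (by decide +kernel)).elim
  · -- 4620
    exfalso
    have : Fact (Nat.Prime 7) := ⟨by norm_num⟩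
    have : Fact (Nat.Prime 11) := ⟨by norm_num⟩
    obtain ⟨χ, hχ1, hdeg⟩ : ∃ χ : IrrCharacter G, (χ : G → ℂ) ≠ (fun _ => 1) ∧
        charDegree (χ : G → ℂ) = 5 := by
      by_contra hno
      refine CfsgLib.ClassK.RowSieve.false_of_rowPossible' (p := 7) (B := 68) hG e (by norm_num)
        (by norm_num) (by norm_num) (fun _ _ => true) (fun _ => rfl) (fun d => decide (d ≠ 5))
        (fun φ hφ => decide_eq_true fun h => hno ⟨φ, hφ, h⟩) (by decide +kernel)
    obtain ⟨n, ρ, -, hρ⟩ := χ.2
    have hnn : ∀ H : Subgroup G, H.Normal → Nat.card H ≠ 11 := by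
      intro H hH hc
      rcases hH.eq_bot_or_eq_top with h | h
      · rw [h, Subgroup.card_bot] at hc; omega
      · rw [h, Subgroup.card_top, e] at hc; omega
    have hfaith : ∀ g : G, (χ : G → ℂ) g = (χ : G → ℂ) 1 → g = 1 := fun g hg => by
      by_contra hg1
      exact CfsgLib.Transfer.irr_apply_ne_apply_one χ hχ1 hg1 hg
    obtain ⟨iso⟩ := Cfsg.Agent.S4504.result 11 (by norm_num) (by rw [e]; norm_num)
      (by rw [e]; norm_num) hnn χ ⟨n, ρ, hρ⟩ hfaith (by rw [hdeg])
    have hz : Subgroup.center G = ⊥ := by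
      rcases IsSimpleGroup.eq_bot_or_eq_top_of_normal (Subgroup.center G) inferInstance with h | h
      · exact h
      · exact absurd ⟨⟨fun a b => Subgroup.mem_center_iff.1 (h.ge (Subgroup.mem_top b)) a⟩⟩ hG
    have hc := Nat.card_congr iso.toEquiv
    rw [Nat.card_congr ((QuotientGroup.quotientMulEquivOfEq hz).trans
      QuotientGroup.quotientBot).toEquiv, e,
      CfsgLib.Classical.card_psl_two_eq (F := ZMod 11) (ZMod.card 11) 660 (by norm_num)] at hc
    omega
  · exact (hrow _ 13 e (by norm_num) (by norm_num) (by norm_num) (by norm_num) (by decide +kernel)).elim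
  · exact (hrow _ 7 e (by norm_num) (by norm_num) (by norm_num) (by norm_num) (by decide +kernel)).elim
  · exact (hrow _ 17 e (by norm_num) (by norm_num) (by norm_num) (by norm_num) (by decide +kernel)).elim
  · exact (hrow _ 3 e (by norm_num) (by norm_num) (by norm_num) (by norm_num) (by decide +kernel)).elim
  · exact (hrow _ 11 e (by norm_num) (by norm_num) (by norm_num) (by norm_num) (by decide +kernel)).elim
  · exact (hrow _ 31 e (by norm_num) (by norm_num) (by norm_num) (by norm_num) (by decide +kernel)).elim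
  · exact absurd e Cfsg.Agent.S0978.result
  · exact (hrow _ 29 e (by norm_num) (by norm_num) (by norm_num) (by norm_num) (by decide +kernel)).elim
  · exact (hrow _ 13 e (by norm_num) (by norm_num) (by norm_num) (by norm_num) (by decide +kernel)).elim
  · exact absurd e (hburn 2 3 6 4 Nat.prime_two Nat.prime_three)
  · exact (hrow _ 13 e (by norm_num) (by norm_num) (by norm_num) (by norm_num) (by decide +kernel)).elim
  · exact (hrow _ 17 e (by norm_num) (by norm_num) (by norm_num) (by norm_num) (by decide +kernel)).elim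
  · exact absurd e h4500.2.1
  · exact (hrow _ 7 e (by norm_num) (by norm_num) (by norm_num) (by norm_num) (by decide +kernel)).elim
  · exact absurd e (CfsgLib.ClassK.card_ne_5400 hG)
  · -- 5460
    exfalso
    have : Fact (Nat.Prime 13) := ⟨by norm_num⟩
    refine CfsgLib.ClassK.RowSieve.false_of_rowPossible' (p := 13) (B := 74) hG e (by norm_num)
      (by norm_num) (by norm_num) (fun _ f => decide (f ≠ 4)) (fun P => decide_eq_true fun h4 => ?_)
      (fun _ => true) (fun _ _ => rfl) (by decide +kernel)
    have hPc : Nat.card P = 13 := by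
      have := CfsgLib.ClassK.card_sylow_of_exact (a := 1) P (by rw [e]; norm_num) (by rw [e]; norm_num)
      rwa [pow_one] at this
    obtain ⟨x, ε, -, -, -, hker⟩ := CfsgLib.Block.exists_prime_sylow_data P hPc
    rw [Subgroup.relIndex, ← hker, Subgroup.index_ker] at h4
    obtain ⟨γ, hγ⟩ := IsCyclic.exists_ofOrder_eq_natCard (α := ε.range)
    obtain ⟨h, hh⟩ := γ.2
    have hγ' : orderOf (ε h) = 4 := by rw [hh, Subgroup.orderOf_coe, hγ, h4]
    have h4dvd : 4 ∣ orderOf h := hγ' ▸ orderOf_map_dvd ε h
    obtain ⟨g, hg⟩ : ∃ g : G, orderOf g = 4 := by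
      refine ⟨((h ^ (orderOf h / 4) : _) : G), ?_⟩
      rw [Subgroup.orderOf_coe, orderOf_pow' _ (Nat.div_pos (Nat.le_of_dvd (orderOf_pos h) h4dvd)
        (by norm_num)).ne', Nat.gcd_eq_right (Nat.div_dvd_of_dvd h4dvd),
        Nat.div_div_self h4dvd (orderOf_pos h).ne']
    have : Fact (Nat.Prime 2) := ⟨Nat.prime_two⟩
    obtain ⟨T, hT⟩ := (IsPGroup.of_card (n := 2) (G := Subgroup.zpowers g)
      (by rw [Nat.card_zpowers, hg]; norm_num) : IsPGroup 2 _).exists_le_sylow
    obtain ⟨hK, -⟩ := Cfsg.Agent.S0992.result hG (by rw [e]; decide) (by rw [e]; norm_num) T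
    have hsq : (⟨g, hT (Subgroup.mem_zpowers g)⟩ : (T : Subgroup G)) ^ 2 = 1 := by
      have := Monoid.pow_exponent_eq_one (⟨g, hT (Subgroup.mem_zpowers g)⟩ : (T : Subgroup G))
      rwa [hK.exponent_two] at this
    have hd := orderOf_dvd_of_pow_eq_one hsq
    rw [Subgroup.orderOf_mk, hg] at hd
    norm_num at hd
  · exact absurd e Cfsg.Agent.S0979.result
  · exact (hrow _ 7 e (by norm_num) (by norm_num) (by norm_num) (by norm_num) (by decide +kernel)).elim
  · exact hkeep _ (by simp) e
  · exact (hrow _ 53 e (by norm_num) (by norm_num) (by norm_num) (by norm_num) (by decide +kernel)).elim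
  · exact absurd e Cfsg.Agent.S0980.result
  · exact (hrow _ 19 e (by norm_num) (by norm_num) (by norm_num) (by norm_num) (by decide +kernel)).elim
  · exact (hrow _ 5 e (by norm_num) (by norm_num) (by norm_num) (by norm_num) (by decide +kernel)).elim
  · exact (hrow _ 11 e (by norm_num) (by norm_num) (by norm_num) (by norm_num) (by decide +kernel)).elim
  · exact absurd e h4500.2.2
  · exact hkeep _ (by simp) e
  · exact hkeep _ (by simp) e
  · exact (hrow _ 11 e (by norm_num) (by norm_num) (by norm_num) (by norm_num) (by decide +kernel)).elim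


end Cfsg.Agent.S0983
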