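import Cfsg.Statements.S3820
import Mathlib.Tactic
import Cfsg.Agent.Lib.Coprime.Sylow


set_option autoImplicit false
open Cfsg

namespace Cfsg.Agent.S3820

/-- Call a subgroup H of G pronormal if H and gHg⁻¹ are conjugate inside ⟨H, gHg⁻¹⟩ for every g ∈ G. Let S ≤ H ≤ G be subgroups of a finite group with S pronormal in G (for instance S a Sylow subgroup). Then H is pronormal in G if and only if H and gHg⁻¹ are conjugate inside ⟨H, gHg⁻¹⟩ for every g ∈ N_G(S). In particular H is pronormal whenever N_G(S) ≤ H. -/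
theorem result {G : Type*} [Group G] [Finite G] (S H : Subgroup G) (hSH : S ≤ H)
    (hS : Cfsg.IsPronormal S) :
    Cfsg.IsPronormal H ↔
      ∀ g ∈ Subgroup.normalizer (S : Set G), ∃ w ∈ H ⊔ H.map (MulAut.conj g).toMonoidHom,
        H.map (MulAut.conj g).toMonoidHom = H.map (MulAut.conj w).toMonoidHom := by
  constructor
  · intro hH g _
    exact hH g
  · intro h g
    obtain ⟨x, hx, he⟩ := hS g
    have hxJ : x ∈ H ⊔ H.map (MulAut.conj g).toMonoidHom :=
      sup_le_sup hSH (Subgroup.map_mono hSH) hx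
    have hn : x⁻¹ * g ∈ Subgroup.normalizer (S : Set G) := by
      rw [CfsgLib.Coprime.mem_normalizer_iff_map_conj, ← CfsgLib.Coprime.map_conj_conj, he,
        CfsgLib.Coprime.map_conj_conj, inv_mul_cancel]
      ext y; simp
    obtain ⟨w, hw, hwe⟩ := h _ hn
    -- conjugating `H` and its conjugate by `x⁻¹ g` stays in the join
    have hJ : H ⊔ H.map (MulAut.conj (x⁻¹ * g)).toMonoidHom
        ≤ H ⊔ H.map (MulAut.conj g).toMonoidHom := by
      refine sup_le le_sup_left ?_
      rw [← CfsgLib.Coprime.map_conj_conj]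
      rintro _ ⟨y, hy, rfl⟩
      show x⁻¹ * y * (x⁻¹)⁻¹ ∈ _
      exact mul_mem (mul_mem (inv_mem hxJ) (Subgroup.mem_sup_right hy)) (inv_mem (inv_mem hxJ))
    refine ⟨x * w, mul_mem hxJ (hJ hw), ?_⟩
    rw [← CfsgLib.Coprime.map_conj_conj, ← hwe, CfsgLib.Coprime.map_conj_conj, mul_inv_cancel_left]

end Cfsg.Agent.S3820
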