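import Cfsg.Statements.S2989
import Cfsg.Agent.Lib.ClassK.PushCL

set_option autoImplicit false
set_option maxHeartbeats 800000
set_option linter.style.haveILetI false
open Cfsg

namespace Cfsg.Agent.S2989

/-- Let G be a finite group and S a Sylow p-subgroup of G in the basic pushing-up situation (G ≠ 1, C_G(O_p(G)) ≤ O_p(G), S lies in a unique maximal subgroup of G, and some quotient of G is isomorphic to PSL₂ over a field of order a power of p), and suppose that S centralizes Z(J(S)), where J(S) is generated by the abelian subgroups of S of largest order (that is, J̃(S) = C_S(Z(J(S))) = S). Call a subgroup R of S centrally large if |R|·|Z(R)| is as large as possible among subgroups of S, and let S_Φ be the subgroup generated by the Frattini subgroups Φ(Q) of those minimal centrally large subgroups Q of S whose Ω₁(Z(Q)) has the largest order among minimal centrally large subgroups. Then Z(S) or S_Φ is normal in G; and if S_Φ = 1, the minimal centrally large subgroups of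 S are exactly the abelian subgroups of S of largest order, and at least one of them is elementary abelian. -/
theorem result {G : Type*} [Group G] [Finite G] {p : ℕ} [Fact p.Prime] (S : Subgroup G) (hE : Cfsg.IsPushingUpSituation p S) (hJ : S ≤ Subgroup.centralizer (Cfsg.centerThompsonAOf S : Set G)) : ((S ⊓ Subgroup.centralizer (S : Set G)).Normal ∨ ((Cfsg.frattiniOfMinimalCLJoin p ↥S).map S.subtype).Normal) ∧ (Cfsg.frattiniOfMinimalCLJoin p ↥S = ⊥ → (∀ Q : Subgroup ↥S, Cfsg.IsMinimalCentrallyLarge Q ↔ Q ∈ Cfsg.maxAbelianSubgroups ↥S) ∧ ∃ A ∈ Cfsg.maxAbelianSubgroups ↥S, Cfsg.IsElementaryAbelian p A) := by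
  classical
  obtain ⟨-, ⟨P, rfl⟩, hE₁, hE₂, K, hK, F, _, _, n, hF, ⟨e⟩⟩ := hE
  haveI := hK
  obtain ⟨M, φ, h⟩ := CfsgLib.ClassK.Push.exists_sit P hE₁ hE₂ K hF e
  set Z := (P : Subgroup G) ⊓ Subgroup.centralizer ((P : Subgroup G) : Set G) with hZdef
  constructor
  · by_cases hZ : Z.Normal
    · exact Or.inl hZ
    right
    have hJK := h.thompson_not_le_ker hJ hZ
    set S' := ↥(P : Subgroup G)
    set mz := Cfsg.maxOmegaCenterOfMinimalCL p S' with hmz
    have hle : ∀ R : Subgroup S', Cfsg.IsMinimalCentrallyLarge R →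
        Nat.card (Cfsg.omegaOneCenter p R) ≤ mz := fun R hR =>
      le_csSup ⟨Nat.card S', by rintro _ ⟨Q, -, rfl⟩; exact Subgroup.card_le_card_group _⟩ ⟨R, hR, rfl⟩
    let Pr : Subgroup S' → Prop := fun R => Cfsg.IsMinimalCentrallyLarge R ∧
      Nat.card (Cfsg.omegaOneCenter p R) = mz ∧ R ≤ φ.ker.subgroupOf (P : Subgroup G)
    have heq : Cfsg.frattiniOfMinimalCLJoin p S' =
        ⨆ R : {R // Pr R}, (frattini ↥(R : Subgroup S')).map (R : Subgroup S').subtype := by
      refine le_antisymm (iSup_le ?_) (iSup_le fun R => le_iSup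
        (fun Q : {Q : Subgroup S' // Cfsg.IsMinimalCentrallyLarge Q ∧
          Nat.card ↥(Cfsg.omegaOneCenter p Q) = mz} =>
          (frattini ↥(Q : Subgroup S')).map (Q : Subgroup S').subtype) ⟨R.1, R.2.1, R.2.2.1⟩)
      rintro ⟨Q, hQ, hQz⟩
      by_cases hQK : Q ≤ φ.ker.subgroupOf (P : Subgroup G)
      · exact le_iSup (fun R : {R // Pr R} => (frattini ↥(R : Subgroup S')).map (R : Subgroup S').subtype)
          ⟨Q, hQ, hQz, hQK⟩
      · obtain ⟨R, hR, hRK, -, hR'⟩ := h.exists_mcl_partner hJK hZ hQ hQK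
        obtain ⟨h1, h2⟩ := hR' fun R' hR' => (hle R' hR').trans hQz.ge
        exact h2.ge.trans (le_iSup
          (fun R : {R // Pr R} => (frattini ↥(R : Subgroup S')).map (R : Subgroup S').subtype)
          ⟨R, hR, h1.trans hQz, hRK⟩)
    rw [heq]
    refine h.iSup_map_normal Pr (fun R => (frattini ↥R).map R.subtype) (fun R hR => hR.2.2) ?_
    rintro R R' g ⟨hR, hRz, hRK⟩ hmap
    have hf : Function.Injective ((MulAut.conj g).toMonoidHom.comp (P : Subgroup G).subtype) :=
      (MulAut.conj g).injective.comp (P : Subgroup G).subtype_injective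
    have hs := (P : Subgroup G).subtype_injective
    refine ⟨⟨CfsgLib.ClassK.Push.mcl_of_map hf hs hmap hR, ?_, ?_⟩, ?_⟩
    · rw [← Subgroup.card_map_of_injective hs, CfsgLib.ClassK.Push.map_omegaOneCenter hs, ← hmap,
        ← CfsgLib.ClassK.Push.map_omegaOneCenter hf, Subgroup.card_map_of_injective hf, hRz]
    · intro x hx
      obtain ⟨y, hy, hyx⟩ : (x : G) ∈ R.map _ := hmap.ge ⟨x, hx, rfl⟩
      haveI := Cfsg.pCore_normal p G
      refine h.pCore_le_ker ?_
      show (x : G) ∈ Cfsg.pCore p G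
      rw [← hyx]
      exact (Cfsg.pCore_normal p G).conj_mem _ (h.pCore_eq.ge ⟨y.2, hRK hy⟩) g
    · rw [CfsgLib.ClassK.Push.map_frattini_subtype hf, CfsgLib.ClassK.Push.map_frattini_subtype hs, hmap]
  · intro hbot
    set S' := ↥(P : Subgroup G)
    obtain ⟨Q, ⟨hQ, hQz⟩⟩ : ∃ Q : Subgroup S', Cfsg.IsMinimalCentrallyLarge Q ∧
        Nat.card (Cfsg.omegaOneCenter p Q) = Cfsg.maxOmegaCenterOfMinimalCL p S' := by
      obtain ⟨Q₀, hQ₀⟩ := CfsgLib.Amalgam.exists_isCentrallyLarge (G := S')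
      obtain ⟨R, -, hR⟩ := CfsgLib.Amalgam.exists_isMinimalCentrallyLarge_le hQ₀
      exact Nat.sSup_mem (s := {k : ℕ | ∃ Q : Subgroup S', Cfsg.IsMinimalCentrallyLarge Q ∧
        Nat.card ↥(Cfsg.omegaOneCenter p Q) = k}) ⟨_, R, hR, rfl⟩
        ⟨Nat.card S', by rintro _ ⟨Q, -, rfl⟩; exact Subgroup.card_le_card_group _⟩
    obtain ⟨hc, hp⟩ := CfsgLib.ClassK.Push.le_frattini_map (P.isPGroup'.to_subgroup Q)
    have hQbot : (frattini ↥Q).map Q.subtype ≤ ⊥ := hbot ▸ le_iSup
      (fun Q : {Q : Subgroup S' // Cfsg.IsMinimalCentrallyLarge Q ∧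
        Nat.card ↥(Cfsg.omegaOneCenter p Q) = Cfsg.maxOmegaCenterOfMinimalCL p S'} =>
        (frattini ↥(Q : Subgroup S')).map (Q : Subgroup S').subtype) ⟨Q, hQ, hQz⟩
    have hab : IsMulCommutative Q := Subgroup.le_centralizer_iff_isMulCommutative.1
      (Subgroup.commutator_eq_bot_iff_le_centralizer.1 (le_bot_iff.1 (hc.trans hQbot)))
    have hiff := CfsgLib.Amalgam.minimalCentrallyLarge_iff_maxAbelian hQ hab
    exact ⟨hiff, Q, (hiff Q).1 hQ, hab, fun a ha => Subgroup.mem_bot.1 (hQbot (hp a ha))⟩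

end Cfsg.Agent.S2989
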