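import Cfsg.Statements.S2990
import Cfsg.Agent.Lib.ClassK.PushCL

set_option autoImplicit false
set_option maxHeartbeats 800000
set_option linter.style.haveILetI false
open Cfsg

namespace Cfsg.Agent.S2990

/-- Let G be a finite group and S a Sylow p-subgroup of G in the basic pushing-up situation (G ≠ 1, C_G(O_p(G)) ≤ O_p(G), S lies in a unique maximal subgroup of G, and some quotient of G is isomorphic to PSL₂ over a field of order a power of p), and suppose that S centralizes Z(J(S)), where J(S) is generated by the abelian subgroups of S of largest order (that is, J̃(S) = C_S(Z(J(S))) = S). Call a subgroup R of S centrally large if |R|·|Z(R)| is as large as possible among subgroups of S, let Q be a minimal centrally large subgroup of S and let S_MCL be the subgroup generated by all minimal centrally large subgroups of S. Then the derived subgroup [Q, Q] is characteristic in S; Z(S) ∩ [Q, Q] or S_MCL is normal in G; and if [Q, Q] = 1, the minimal centrally large subgroups of S are exactly the abelian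 subgroups of S of largest order. -/
theorem result {G : Type*} [Group G] [Finite G] {p : ℕ} [Fact p.Prime] (S : Subgroup G) (hE : Cfsg.IsPushingUpSituation p S) (hJ : S ≤ Subgroup.centralizer (Cfsg.centerThompsonAOf S : Set G)) (Q : Subgroup ↥S) (hQ : Cfsg.IsMinimalCentrallyLarge Q) : (⁅Q, Q⁆).Characteristic ∧ (((S ⊓ Subgroup.centralizer (S : Set G)) ⊓ (⁅Q, Q⁆).map S.subtype).Normal ∨ ((Cfsg.minimalCentrallyLargeJoin ↥S).map S.subtype).Normal) ∧ (⁅Q, Q⁆ = ⊥ → ∀ R : Subgroup ↥S, Cfsg.IsMinimalCentrallyLarge R ↔ R ∈ Cfsg.maxAbelianSubgroups ↥S) := by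
  classical
  obtain ⟨-, ⟨P, rfl⟩, hE₁, hE₂, K, hK, F, _, _, n, hF, ⟨e⟩⟩ := hE
  haveI := hK
  obtain ⟨M, φ, h⟩ := CfsgLib.ClassK.Push.exists_sit P hE₁ hE₂ K hF e
  set Z := (P : Subgroup G) ⊓ Subgroup.centralizer ((P : Subgroup G) : Set G) with hZdef
  set S' := ↥(P : Subgroup G)
  have hDeq : ∀ R : Subgroup S', Cfsg.IsMinimalCentrallyLarge R → ⁅R, R⁆ = ⁅Q, Q⁆ := fun R hR => by
    rw [CfsgLib.Amalgam.commutator_eq_inf hR hQ, inf_comm, ← CfsgLib.Amalgam.commutator_eq_inf hQ hR]
  refine ⟨?_, ?_, fun hbot => CfsgLib.Amalgam.minimalCentrallyLarge_iff_maxAbelian hQ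
    (Subgroup.le_centralizer_iff_isMulCommutative.1
      (Subgroup.commutator_eq_bot_iff_le_centralizer.1 hbot))⟩
  · refine Subgroup.characteristic_iff_map_eq.2 fun ε => ?_
    rw [Subgroup.map_commutator]
    refine hDeq _ (CfsgLib.ClassK.Push.mcl_of_map (f := ε.toMonoidHom) (g := MonoidHom.id S') ε.injective
      Function.injective_id ?_ hQ)
    rw [Subgroup.map_id]
  · set D := ⁅Q, Q⁆
    by_cases hZ : Z.Normal
    · left
      exact h.normal_of_centralized ((Subgroup.le_centralizer_iff.1 inf_le_right).trans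
        (Subgroup.centralizer_le inf_le_left))
        ((h.residual_centralizes_center hZ).trans (Subgroup.centralizer_le inf_le_left))
    have hJK := h.thompson_not_le_ker hJ hZ
    have hinv : ∀ R R' : Subgroup S', ∀ g : G, R ≤ φ.ker.subgroupOf (P : Subgroup G) →
        R.map ((MulAut.conj g).toMonoidHom.comp (P : Subgroup G).subtype) = R'.map (P : Subgroup G).subtype →
        Cfsg.IsMinimalCentrallyLarge R → Cfsg.IsMinimalCentrallyLarge R' ∧
          R' ≤ φ.ker.subgroupOf (P : Subgroup G) := by
      intro R R' g hRK hmap hR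
      refine ⟨CfsgLib.ClassK.Push.mcl_of_map ((MulAut.conj g).injective.comp (P : Subgroup G).subtype_injective)
        (P : Subgroup G).subtype_injective hmap hR, fun x hx => ?_⟩
      obtain ⟨y, hy, hyx⟩ : (x : G) ∈ R.map _ := hmap.ge ⟨x, hx, rfl⟩
      refine h.pCore_le_ker ?_
      show (x : G) ∈ Cfsg.pCore p G
      rw [← hyx]
      exact (Cfsg.pCore_normal p G).conj_mem _ (h.pCore_eq.ge ⟨y.2, hRK hy⟩) g
    by_cases hall : ∀ R : Subgroup S', Cfsg.IsMinimalCentrallyLarge R →
        R ≤ φ.ker.subgroupOf (P : Subgroup G)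
    · right
      have heq : Cfsg.minimalCentrallyLargeJoin S' =
          ⨆ R : {R : Subgroup S' // Cfsg.IsMinimalCentrallyLarge R}, (R : Subgroup S') := by
        rw [Cfsg.minimalCentrallyLargeJoin, sSup_eq_iSup']
        rfl
      rw [heq]
      refine h.iSup_map_normal _ (fun R => R) hall fun R R' g hR hmap => ⟨(hinv R R' g (hall R hR) hmap hR).1, hmap⟩
    simp only [not_forall, exists_prop] at hall
    obtain ⟨Q₁, hQ₁, hQ₁K⟩ := hall
    obtain ⟨R, hR, hRK, ⟨b, hb, hb1⟩, -⟩ := h.exists_mcl_partner hJK hZ hQ₁ hQ₁K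
    left
    set D' := D.map (P : Subgroup G).subtype with hD'
    haveI : D'.Normal := by
      suffices key : ∀ g : G, D'.map (MulAut.conj g).toMonoidHom ≤ D' from
        ⟨fun x hx g => key g ⟨x, hx, rfl⟩⟩
      intro g
      obtain ⟨R', hR'K, hmap⟩ := h.exists_conj_subgroup R hRK g
      rw [hD', show D = ⁅R, R⁆ from (hDeq R hR).symm, Subgroup.map_map, Subgroup.map_commutator, hmap,
        ← Subgroup.map_commutator, hDeq R' (hinv R R' g hRK hmap hR).1, hDeq R hR]
    have hbD : (b : G) ∈ Subgroup.centralizer (D' : Set G) := by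
      rintro _ ⟨x, hx, rfl⟩
      have hxQ : x ∈ Q₁ := by
        have hx' : x ∈ ⁅Q₁, Q₁⁆ := (hDeq Q₁ hQ₁).ge hx
        exact Q₁.commutator_le_self hx'
      exact congrArg Subtype.val (hb x hxQ)
    have hLD := h.residual_le_of_not_le_ker (Subgroup.centralizer (D' : Set G)) b.2 hbD hb1
    exact h.normal_of_centralized ((Subgroup.le_centralizer_iff.1 inf_le_right).trans
      (Subgroup.centralizer_le inf_le_left))
      (hLD.trans (Subgroup.centralizer_le inf_le_right))

end Cfsg.Agent.S2990
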