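import Cfsg.Statements.S2769
import Cfsg.Agent.Lib.ClassK.PushBaumann

set_option autoImplicit false
set_option linter.style.haveILetI false
set_option linter.unusedVariables false
open Cfsg
open scoped commutatorElement

namespace Cfsg.Agent.S2769

/-- Let G be a finite group and p a prime with C_G(O_p(G)) ≤ O_p(G), S a Sylow p-subgroup lying in exactly one maximal subgroup of G, and G/K ≅ PSL₂(p^n) for some normal K and n ≥ 1. Let J(S) be generated by the abelian subgroups of S of largest order. If [Z(J(S)), S] ≠ 1, then either [Z(J(S)), S] ∩ Z(S) is normal in G or C_S(Z(J(S))) is normal in G. -/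
theorem result {G : Type*} [Group G] [Finite G] {p : ℕ} [Fact p.Prime] (S : Sylow p G) (hE₁ : Subgroup.centralizer (Cfsg.pCore p G : Set G) ≤ Cfsg.pCore p G) (hE₂ : ∃! M : Subgroup G, IsCoatom M ∧ (S : Subgroup G) ≤ M) (K : Subgroup G) [K.Normal] (F : Type) [Field F] [Fintype F] (n : ℕ) (hn : 1 ≤ n) (hF : Fintype.card F = p ^ n) (hE₃ : Nonempty (G ⧸ K ≃* Matrix.ProjectiveSpecialLinearGroup (Fin 2) F)) (h : ⁅(Cfsg.centerThompsonAOf (S : Subgroup G)), (S : Subgroup G)⁆ ≠ ⊥) : (⁅(Cfsg.centerThompsonAOf (S : Subgroup G)), (S : Subgroup G)⁆ ⊓ ((S : Subgroup G) ⊓ Subgroup.centralizer ((S : Subgroup G) : Set G))).Normal ∨ (((S : Subgroup G) ⊓ Subgroup.centralizer (Cfsg.centerThompsonAOf (S : Subgroup G) : Set G))).Normal := by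
  classical
  obtain ⟨e⟩ := hE₃
  obtain ⟨M, φ, hs⟩ := CfsgLib.ClassK.Push.exists_sit S hE₁ hE₂ K hF e
  set ZJ := Cfsg.centerThompsonAOf (S : Subgroup G)
  set Z := (S : Subgroup G) ⊓ Subgroup.centralizer ((S : Subgroup G) : Set G) with hZdef
  have hSC : ∀ T : Subgroup G, (S : Subgroup G) ≤ Subgroup.centralizer ((T ⊓ Z : Subgroup G) : Set G) :=
    fun T => Subgroup.le_centralizer_iff.1 (inf_le_right.trans inf_le_right)
  by_cases hZn : Z.Normal
  · exact Or.inl (hs.normal_of_centralized (hSC _)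
      ((hs.residual_centralizes_center hZn).trans (Subgroup.centralizer_le inf_le_right)))
  by_cases hJ : Cfsg.thompsonSubgroupAOf (S : Subgroup G) ≤ φ.ker
  · by_cases hc : Cfsg.pResidual p G ≤ Subgroup.centralizer (ZJ : Set G)
    · exact Or.inl (hs.normal_of_centralized (hSC _) (hc.trans
        (Subgroup.centralizer_le (inf_le_right.trans hs.center_le_centerThompson))))
    · exact Or.inr (hs.jTilde_normal_of_le_ker hJ hc)
  refine Or.inl (hs.normal_of_centralized (hSC _) ?_)
  set C := ZJ ⊓ Subgroup.centralizer (Cfsg.pResidual p G : Set G) with hC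
  have hle : ⁅ZJ, (S : Subgroup G)⁆ ≤ C := by
    haveI := CfsgLib.Transfer.pResidual_normal (G := G) (p := p)
    have hSn : (S : Subgroup G) ≤ Subgroup.normalizer (C : Set G) :=
      (le_inf (Subgroup.le_normalizer.trans
        (CfsgLib.PLocal.normalizer_le_normalizer_centerThompsonAOf _))
        (CfsgLib.Comp.le_normalizer_of_normal' _ _)).trans Subgroup.inf_normalizer_le_normalizer_inf
    refine Subgroup.commutator_le.2 fun x hx s hs' => ?_
    obtain ⟨z, hz, c, hc, rfl⟩ := CfsgLib.Comp.exists_mul_of_mem_sup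
      (show C ≤ Subgroup.normalizer (Z : Set G) from ((inf_le_left.trans
        (CfsgLib.PLocal.centerThompsonAOf_le _)).trans
        (Subgroup.le_centralizer_iff.1 inf_le_right)).trans (Subgroup.centralizer_le_normalizer _))
      ((hs.baumann hJ hZn).1 hx)
    have hzs : Commute z s := (Subgroup.mem_centralizer_iff.1 hz.2 s hs').symm
    have hzc : Commute z c := (Subgroup.mem_centralizer_iff.1 hz.2 c
      (CfsgLib.PLocal.centerThompsonAOf_le _ hc.1)).symm
    have hcs : ⁅c, s⁆ ∈ C := by
      rw [commutatorElement_def, mul_assoc, mul_assoc]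
      refine mul_mem hc ?_
      have := (Subgroup.mem_normalizer_iff.1 (hSn hs') c⁻¹).1 (inv_mem hc)
      simpa [mul_assoc] using this
    have hzC : Commute z ⁅c, s⁆ := (Subgroup.mem_centralizer_iff.1 hz.2 _
      (CfsgLib.PLocal.centerThompsonAOf_le _ hcs.1)).symm
    rw [show ⁅z * c, s⁆ = z * ⁅c, s⁆ * z⁻¹ * ⁅z, s⁆ by simp only [commutatorElement_def]; group,
      commutatorElement_eq_one_iff_mul_comm.2 hzs, mul_one, hzC.eq, mul_inv_cancel_right]
    exact hcs
  exact Subgroup.le_centralizer_iff.1 ((inf_le_left.trans hle).trans inf_le_right)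

end Cfsg.Agent.S2769
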