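import Cfsg.Statements.S2770
import Cfsg.Agent.Lib.ClassK.PushBaumann

set_option autoImplicit false
set_option linter.style.haveILetI false
set_option linter.unusedVariables false
open Cfsg

namespace Cfsg.Agent.S2770

/-- Let G be a finite group and p a prime with C_G(O_p(G)) ≤ O_p(G), S a Sylow p-subgroup lying in exactly one maximal subgroup of G, and G/K ≅ PSL₂(p^n) for some normal K and n ≥ 1. If Z(S) is not elementary abelian, then either ℧¹(Z(S)) (the subgroup generated by the p-th powers of the elements of Z(S)) is normal in G or C_S(Z(J(S))) is normal in G, J(S) being generated by the abelian subgroups of S of largest order. -/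
theorem result {G : Type*} [Group G] [Finite G] {p : ℕ} [Fact p.Prime] (S : Sylow p G) (hE₁ : Subgroup.centralizer (Cfsg.pCore p G : Set G) ≤ Cfsg.pCore p G) (hE₂ : ∃! M : Subgroup G, IsCoatom M ∧ (S : Subgroup G) ≤ M) (K : Subgroup G) [K.Normal] (F : Type) [Field F] [Fintype F] (n : ℕ) (hn : 1 ≤ n) (hF : Fintype.card F = p ^ n) (hE₃ : Nonempty (G ⧸ K ≃* Matrix.ProjectiveSpecialLinearGroup (Fin 2) F)) (h : ¬ Cfsg.IsElementaryAbelian p ((S : Subgroup G) ⊓ Subgroup.centralizer ((S : Subgroup G) : Set G))) : (Cfsg.powerClosure p 1 ((S : Subgroup G) ⊓ Subgroup.centralizer ((S : Subgroup G) : Set G))).Normal ∨ (((S : Subgroup G) ⊓ Subgroup.centralizer (Cfsg.centerThompsonAOf (S : Subgroup G) : Set G))).Normal := by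
  classical
  obtain ⟨e⟩ := hE₃
  obtain ⟨M, φ, hs⟩ := CfsgLib.ClassK.Push.exists_sit S hE₁ hE₂ K hF e
  set ZJ := Cfsg.centerThompsonAOf (S : Subgroup G)
  set Z := (S : Subgroup G) ⊓ Subgroup.centralizer ((S : Subgroup G) : Set G) with hZdef
  have hPZ : Cfsg.powerClosure p 1 Z ≤ Z := (Subgroup.closure_le _).2
    (by rintro _ ⟨x, hx, rfl⟩; exact pow_mem hx _)
  have hSC : (S : Subgroup G) ≤ Subgroup.centralizer (Cfsg.powerClosure p 1 Z : Set G) :=
    Subgroup.le_centralizer_iff.1 (hPZ.trans inf_le_right)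
  by_cases hZn : Z.Normal
  · exact Or.inl (hs.normal_of_centralized hSC
      ((hs.residual_centralizes_center hZn).trans (Subgroup.centralizer_le hPZ)))
  by_cases hJ : Cfsg.thompsonSubgroupAOf (S : Subgroup G) ≤ φ.ker
  · by_cases hc : Cfsg.pResidual p G ≤ Subgroup.centralizer (ZJ : Set G)
    · exact Or.inl (hs.normal_of_centralized hSC (hc.trans
        (Subgroup.centralizer_le (hPZ.trans hs.center_le_centerThompson))))
    · exact Or.inr (hs.jTilde_normal_of_le_ker hJ hc)
  refine Or.inl (hs.normal_of_centralized hSC (Subgroup.le_centralizer_iff.1 ?_))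
  refine (Subgroup.closure_le _).2 ?_
  rintro _ ⟨x, hx, rfl⟩
  rw [pow_one]
  exact (hs.baumann hJ hZn).2 x hx

end Cfsg.Agent.S2770
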