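import Cfsg.Statements.S0105
import Cfsg.Agent.Lib.Transfer.AbelianSylow

set_option autoImplicit false
open Cfsg

namespace Cfsg.Agent.S0105

/-- With an abelian Sylow p-subgroup P, some quotient of G is isomorphic to the part of P central in N_G(P). -/
theorem result {G : Type*} [Group G] [Finite G] {p : ℕ} [Fact p.Prime] (P : Sylow p G) (hP : IsMulCommutative P) : ∃ (N : Subgroup G) (hN : N.Normal), Nonempty (G ⧸ N ≃* ((P : Subgroup G) ⊓ Subgroup.centralizer (Subgroup.normalizer (P : Set G) : Set G) : Subgroup G)) := by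
  have := hP
  set Z := (P : Subgroup G) ⊓ Subgroup.centralizer (Subgroup.normalizer (P : Set G) : Set G) with hZ
  obtain ⟨h1, h2⟩ := CfsgLib.Transfer.abelian_sylow_decomposition P
  rw [Sylow.coe_coe, ← hZ] at h1 h2
  have hfoc : (P : Subgroup G).focalSubgroup = ⁅(P : Subgroup G), Subgroup.normalizer (P : Set G)⁆ := by
    rw [← Subgroup.commutator_inf_eq_focalSubgroup]
    exact CfsgLib.Transfer.commutator_inf_abelian_sylow P
  let φ := P.transferFocal
  refine ⟨φ.ker, inferInstance, ⟨?_⟩⟩
  refine (Subgroup.transferFocal.quotientKerMulEquivQuotientFocalSubroupOf P).trans ?_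
  let ψ : Z →* (P : Subgroup G) ⧸ (P : Subgroup G).focalSubgroupOf :=
    (QuotientGroup.mk' _).comp (Subgroup.inclusion inf_le_left)
  refine (MulEquiv.ofBijective ψ ⟨?_, ?_⟩).symm
  · rw [injective_iff_map_eq_one]
    intro z hz
    have hz' : (z : G) ∈ (P : Subgroup G).focalSubgroup :=
      (QuotientGroup.eq_one_iff (Subgroup.inclusion (inf_le_left : Z ≤ (P : Subgroup G)) z)).1 hz
    rw [hfoc] at hz'
    have : (z : G) ∈ (⊥ : Subgroup G) := h1 ▸ ⟨hz', z.2⟩
    exact Subtype.ext (Subgroup.mem_bot.1 this)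
  · intro q
    obtain ⟨⟨y, hy⟩, rfl⟩ := QuotientGroup.mk'_surjective _ q
    have hy' : y ∈ ⁅(P : Subgroup G), Subgroup.normalizer (P : Set G)⁆ ⊔ Z := h2.symm ▸ hy
    rw [← hfoc, sup_comm] at hy'
    open scoped Pointwise in
    have hcl : y ∈ ((Z : Set G) * ((P : Subgroup G).focalSubgroup : Set G)) := by
      rw [← Subgroup.coe_mul_of_left_le_normalizer_right]
      · exact hy'
      · intro z hz
        rw [Subgroup.mem_normalizer_iff]
        intro w
        have hcomm : ∀ v ∈ (P : Subgroup G), z * v = v * z := fun v hv =>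
          congrArg Subtype.val (IsMulCommutative.is_comm.comm (⟨z, hz.1⟩ : (P : Subgroup G)) ⟨v, hv⟩)
        constructor
        · intro hw
          rwa [hcomm w (Subgroup.focalSubgroup_le _ hw), mul_inv_cancel_right]
        · intro hw
          have hP' := Subgroup.focalSubgroup_le _ hw
          have h := hcomm _ hP'
          have : w = z * w * z⁻¹ := by
            have h' := congrArg (fun v => z⁻¹ * v) h
            simpa [mul_assoc] using h'.symm
          rwa [this]
    obtain ⟨z, hz, f, hf, rfl⟩ := hcl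
    exact ⟨⟨z, hz⟩, QuotientGroup.eq.2 (by
      show ((Subgroup.inclusion inf_le_left ⟨z, hz⟩ : (P : Subgroup G)))⁻¹ * ⟨z * f, hy⟩ ∈ _
      rw [Subgroup.focalSubgroupOf_def, Subgroup.mem_subgroupOf]
      simpa using hf)⟩


end Cfsg.Agent.S0105
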