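import Cfsg.Statements.S0107
import Cfsg.Agent.Lib.Transfer.Thompson
import Cfsg.Agent.Lib.Transfer.Basic

set_option autoImplicit false
open Cfsg

namespace Cfsg.Agent.S0107

/-- A finite group with no nontrivial 2-group quotient and dihedral Sylow 2-subgroups of order at least 8 has a single class of involutions. -/
theorem result {G : Type*} [Group G] [Finite G] (T : Sylow 2 G) (n : ℕ) (hn : 2 ≤ n) (hT : Nonempty ((T : Subgroup G) ≃* DihedralGroup (2 ^ n))) (hO : Cfsg.pResidual 2 G = ⊤) (x y : G) (hx : orderOf x = 2) (hy : orderOf y = 2) : ∃ g : G, g * x * g⁻¹ = y := by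
  classical
  have : Fact (Nat.Prime 2) := ⟨Nat.prime_two⟩
  obtain ⟨e⟩ := hT
  set r := e.symm (DihedralGroup.r 1) with hr
  set Q := Subgroup.zpowers (r : G)
  have hro : orderOf (r : G) = 2 ^ n := by
    rw [Subgroup.orderOf_coe, hr, MulEquiv.orderOf_eq, DihedralGroup.orderOf_r_one]
  have hQT : Q ≤ (T : Subgroup G) := Subgroup.zpowers_le.2 r.2
  have hTc : Nat.card (T : Subgroup G) = 2 * 2 ^ n := by
    rw [Nat.card_congr e.toEquiv, DihedralGroup.nat_card]
  have hQi : Q.relIndex (T : Subgroup G) = 2 := by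
    have h2 := Subgroup.relIndex_mul_relIndex ⊥ Q (T : Subgroup G) bot_le hQT
    rw [Subgroup.relIndex_bot_left, Subgroup.relIndex_bot_left, Nat.card_zpowers, hro, hTc, mul_comm 2] at h2
    exact Nat.eq_of_mul_eq_mul_left (by positivity) h2
  set w := (r : G) ^ 2 ^ (n - 1)
  have hQu : ∀ v ∈ Q, orderOf v = 2 → v = w := by
    intro v hv hvo
    obtain ⟨i, rfl⟩ := Subgroup.mem_zpowers_iff.1 hv
    have h2 : ((r : G) ^ i) ^ 2 = 1 := orderOf_dvd_iff_pow_eq_one.1 hvo.dvd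
    rw [← zpow_natCast, ← zpow_mul, ← orderOf_dvd_iff_zpow_eq_one, hro] at h2
    have h3 : ((2 ^ (n - 1) : ℕ) : ℤ) ∣ i := by
      have h4 : ((2 ^ n : ℕ) : ℤ) = ((2 ^ (n - 1) : ℕ) : ℤ) * 2 := by
        push_cast
        rw [← pow_succ, Nat.sub_add_cancel (by omega : 1 ≤ n)]
      rw [h4] at h2
      exact Int.dvd_of_mul_dvd_mul_right two_ne_zero h2
    obtain ⟨k, rfl⟩ := h3
    rw [zpow_mul, zpow_natCast] at hvo ⊢
    rcases Int.even_or_odd' k with ⟨j, rfl | rfl⟩
    · exfalso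
      have h5 : w ^ (2 * j) = 1 := by
        rw [zpow_mul, zpow_two, ← pow_add, ← two_mul, ← pow_succ', Nat.sub_add_cancel (by omega : 1 ≤ n),
          ← hro, pow_orderOf_eq_one, one_zpow]
      rw [show ((r : G) ^ 2 ^ (n - 1)) ^ (2 * j) = 1 from h5, orderOf_one] at hvo
      norm_num at hvo
    · rw [zpow_add, zpow_one, zpow_mul, zpow_two, ← pow_add, ← two_mul, ← pow_succ',
        Nat.sub_add_cancel (by omega : 1 ≤ n), ← hro, pow_orderOf_eq_one, one_zpow, one_mul]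
  have key : ∀ u : G, orderOf u = 2 → ∃ g : G, g * u * g⁻¹ = w := by
    intro u hu
    obtain ⟨R, hR⟩ := (IsPGroup.of_card (n := 1)
      (show Nat.card (Subgroup.zpowers u) = 2 ^ 1 by rw [Nat.card_zpowers, hu, pow_one])).exists_le_sylow
    obtain ⟨g, hg⟩ := MulAction.exists_smul_eq G R T
    have hv : g * u * g⁻¹ ∈ (T : Subgroup G) := by
      rw [← hg, Sylow.smul_def, Sylow.pointwise_smul_def]
      exact Subgroup.smul_mem_pointwise_smul _ _ _ (hR (Subgroup.mem_zpowers u))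
    have hvo : orderOf (g * u * g⁻¹) = 2 := by rw [← MulAut.conj_apply, MulEquiv.orderOf_eq, hu]
    rcases CfsgLib.Transfer.thompson_transfer_involution T hQT hQi
      (orderOf_dvd_iff_pow_eq_one.1 hvo.dvd) hv with ⟨M, hMn, hMi, hM⟩ | ⟨k, hk⟩
    · refine absurd ?_ hM
      have hMp : IsPGroup 2 (G ⧸ M) := IsPGroup.of_card (n := 1)
        (by rw [← Subgroup.index_eq_card, hMi, pow_one])
      exact (CfsgLib.Transfer.pResidual_le_of_isPGroup_quotient hMp) (hO ▸ Subgroup.mem_top _)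
    · refine ⟨k * g, ?_⟩
      rw [← hQu _ hk (by rw [← MulAut.conj_apply, MulEquiv.orderOf_eq, hvo])]
      group
  obtain ⟨a, ha⟩ := key x hx
  obtain ⟨b, hb⟩ := key y hy
  refine ⟨b⁻¹ * a, ?_⟩
  rw [show b⁻¹ * a * x * (b⁻¹ * a)⁻¹ = b⁻¹ * (a * x * a⁻¹) * b by group, ha, ← hb]
  group


end Cfsg.Agent.S0107
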