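import Cfsg.Statements.S0514
import Cfsg.Agent.Lib.ClassK.SmallTwo
import Cfsg.Agent.Lib.Transfer.Frobenius

set_option autoImplicit false
open Cfsg

namespace Cfsg.Agent.S0514

/-- In a finite group whose Sylow 2-subgroups are dihedral of order at least 4, the centralizer of any involution has a
normal subgroup of odd order whose index in the centralizer is a power of 2. -/
theorem result {X : Type*} [Group X] [Finite X]
    (S : Sylow 2 X) (n : ℕ) (hn : 2 ≤ n) (hS : Nonempty ((S : Subgroup X) ≃* DihedralGroup n)) (t : X)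
    (ht : orderOf t = 2) :
    ∃ N : Subgroup (Subgroup.centralizer ({t} : Set X)), N.Normal ∧ Odd (Nat.card N) ∧ ∃ k : ℕ, N.index = 2 ^ k := by
  classical
  haveI : Fact (Nat.Prime 2) := ⟨Nat.prime_two⟩
  haveI : NeZero n := ⟨by omega⟩
  obtain ⟨eS⟩ := hS
  set C := Subgroup.centralizer ({t} : Set X) with hC
  suffices h : Cfsg.HasNormalPComplement 2 C by
    obtain ⟨N, hN, hc, hq⟩ := CfsgLib.Transfer.hasNormalPComplement_iff_exists.1 h
    obtain ⟨k, hk⟩ := IsPGroup.iff_card.1 hq
    exact ⟨N, hN, Nat.coprime_two_right.1 hc, k, by rw [Subgroup.index_eq_card]; exact hk⟩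
  rw [CfsgLib.Transfer.hasNormalPComplement_iff_frobenius]
  intro D hD g hg hgodd
  let t' : C := ⟨t, Subgroup.mem_centralizer_singleton_iff.2 rfl⟩
  have htc : ∀ y : C, y * t' = t' * y := fun y =>
    Subtype.ext (Subgroup.mem_centralizer_singleton_iff.1 y.2)
  haveI : (Subgroup.zpowers t').Normal := ⟨fun y hy z => by
    have hc : Commute z y := by
      obtain ⟨i, rfl⟩ := Subgroup.mem_zpowers_iff.1 hy
      exact Commute.zpow_right (htc z) i
    rwa [hc.eq, mul_inv_cancel_right]⟩
  set E := D ⊔ Subgroup.zpowers t' with hEdef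
  have ht' : orderOf t' = 2 := by rw [Subgroup.orderOf_mk]; exact ht
  have hE : IsPGroup 2 E :=
    hD.to_sup_of_normal_right (IsPGroup.of_card (n := 1) (by rw [Nat.card_zpowers, ht', pow_one]))
  obtain ⟨P, hP⟩ := (hE.map C.subtype).exists_le_sylow
  obtain ⟨eP⟩ : Nonempty ((P : Subgroup X) ≃* DihedralGroup n) :=
    ⟨(Sylow.equiv P S).trans eS⟩
  let eE : E ≃* E.map C.subtype := E.equivMapOfInjective _ C.subtype_injective
  let f : E →* DihedralGroup n :=
    eP.toMonoidHom.comp ((Subgroup.inclusion hP).comp eE.toMonoidHom)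
  have hf : Function.Injective f :=
    eP.injective.comp ((Subgroup.inclusion_injective hP).comp eE.injective)
  have hgE : g ∈ Subgroup.normalizer (E : Set C) := by
    refine Subgroup.mem_normalizer_iff.2 fun y => ?_
    have hmap : E.map (MulAut.conj g).toMonoidHom = E := by
      rw [hEdef, Subgroup.map_sup, MonoidHom.map_zpowers]
      congr 1
      · ext z
        simp only [Subgroup.mem_map_equiv, MulAut.conj_symm_apply]
        rw [Subgroup.mem_normalizer_iff.1 hg]
        group
      · show Subgroup.zpowers (g * t' * g⁻¹) = Subgroup.zpowers t'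
        rw [htc, mul_inv_cancel_right]
    conv_rhs => rw [← hmap, Subgroup.mem_map_equiv, MulAut.conj_symm_apply]
    group
  have hne : t' ≠ 1 := fun h => by rw [h, orderOf_one] at ht'; omega
  exact Subgroup.centralizer_le (SetLike.coe_subset_coe.2 le_sup_left)
    (CfsgLib.ClassK.mem_centralizer_of_embeds_dihedral hE f hf hgE hgodd
      (Subgroup.mem_sup_right (Subgroup.mem_zpowers t')) hne (htc g))

end Cfsg.Agent.S0514
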