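import Cfsg.Statements.S0849
import Mathlib
import Cfsg.Agent.Lib.Char.Induce
import Cfsg.Agent.Lib.Char.Basic

set_option autoImplicit false
open Cfsg

namespace Cfsg.Agent.S0849

/-- Let H be a subgroup of a finite group G and S a subset of H that is mapped to itself under conjugation by H, is disjoint from its conjugate by any element outside H, and is closed under inverses. Let φ be a class function of H vanishing on H away from S, and let u, v be involutions of G. Then the sum of the induced function of φ over all products a * b with a conjugate to u and b conjugate to v equals the index of H times the sum of φ (a * b) over such pairs with a and b in H. -/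
theorem result {G : Type*} [Group G] [Fintype G] (H : Subgroup G) (S : Set G) (hSH : S ⊆ H) (hHS : ∀ h ∈ H, ∀ s ∈ S, h * s * h⁻¹ ∈ S) (hTI : ∀ g : G, g ∉ H → ∀ s ∈ S, g * s * g⁻¹ ∉ S) (hinv : ∀ s ∈ S, s⁻¹ ∈ S) (φ : H → ℂ) (hφ : Cfsg.IsClassFunction H φ) (hφS : ∀ x : H, (x : G) ∉ S → φ x = 0) (u v : G) (hu : orderOf u = 2) (hv : orderOf v = 2) : ∑ᶠ p ∈ {p : G × G | IsConj u p.1 ∧ IsConj v p.2}, Cfsg.indFun H φ (p.1 * p.2) = (H.index : ℂ) * ∑ᶠ p ∈ {p : H × H | IsConj u (p.1 : G) ∧ IsConj v (p.2 : G)}, φ (p.1 * p.2) := by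
  classical
  have : Fintype H := Fintype.ofFinite H
  let T : Finset (G × G) := Finset.univ.filter fun p => IsConj u p.1 ∧ IsConj v p.2
  let e : G → ℂ := Cfsg.extendByZero H φ
  have hLHS : ∑ᶠ p ∈ {p : G × G | IsConj u p.1 ∧ IsConj v p.2}, Cfsg.indFun H φ (p.1 * p.2) =
      ∑ p ∈ T, Cfsg.indFun H φ (p.1 * p.2) := by
    rw [finsum_mem_eq_toFinset_sum]
    refine Finset.sum_congr ?_ fun _ _ => rfl
    ext p; simp [T]
  let T' : Finset (H × H) := Finset.univ.filter fun p => IsConj u (p.1 : G) ∧ IsConj v (p.2 : G)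
  have hRHS : ∑ᶠ p ∈ {p : H × H | IsConj u (p.1 : G) ∧ IsConj v (p.2 : G)}, φ (p.1 * p.2) =
      ∑ p ∈ T', φ (p.1 * p.2) := by
    rw [finsum_mem_eq_toFinset_sum]
    refine Finset.sum_congr ?_ fun _ _ => rfl
    ext p; simp [T']
  have hx : ∀ x : G, ∑ p ∈ T, e (x⁻¹ * (p.1 * p.2) * x) = ∑ p ∈ T, e (p.1 * p.2) := by
    intro x
    have hc : ∀ w a : G, IsConj w a ↔ IsConj w (x⁻¹ * a * x) := fun w a =>
      have h : IsConj a (x⁻¹ * a * x) := isConj_iff.mpr ⟨x⁻¹, by group⟩
      ⟨fun k => k.trans h, fun k => k.trans h.symm⟩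
    refine Finset.sum_equiv ((MulAut.conj x⁻¹).toEquiv.prodCongr (MulAut.conj x⁻¹).toEquiv)
      (fun p => ?_) (fun p _ => ?_)
    · simp only [T, Finset.mem_filter, Finset.mem_univ, true_and, Equiv.prodCongr_apply, Prod.map_fst,
        Prod.map_snd, MulEquiv.toEquiv_eq_coe, EquivLike.coe_coe, MulAut.conj_apply, inv_inv, ← hc]
    · simp [mul_assoc]
  have hsum : ∑ p ∈ T, e (p.1 * p.2) = ∑ p ∈ T', φ (p.1 * p.2) := by
    symm
    refine Finset.sum_bij_ne_zero (fun p _ _ => ((p.1 : G), (p.2 : G))) (fun p hp _ => by simpa [T, T'] using hp)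
      (fun p _ _ q _ _ h => ?_) (fun p hp hne => ?_) (fun p _ _ => ?_)
    · exact Prod.ext (Subtype.ext (congr_arg Prod.fst h)) (Subtype.ext (congr_arg Prod.snd h))
    · obtain ⟨hpa, hpb⟩ : IsConj u p.1 ∧ IsConj v p.2 := by simpa [T] using hp
      have hab : p.1 * p.2 ∈ H := by
        by_contra h
        exact hne (CfsgLib.Char.extendByZero_of_not_mem _ h)
      have hφne : φ ⟨_, hab⟩ ≠ 0 := by
        rwa [← CfsgLib.Char.extendByZero_of_mem φ hab]
      have hS : p.1 * p.2 ∈ S := by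
        by_contra h
        exact hφne (hφS _ h)
      have hsq : ∀ w a : G, orderOf w = 2 → IsConj w a → a * a = 1 := fun w a hw hwa => by
        obtain ⟨c, rfl⟩ := isConj_iff.mp hwa
        have : w * w = 1 := by rw [← pow_two, ← hw, pow_orderOf_eq_one]
        calc c * w * c⁻¹ * (c * w * c⁻¹) = c * (w * w) * c⁻¹ := by group
          _ = 1 := by rw [this]; group
      have ha := hsq u p.1 hu hpa
      have hb := hsq v p.2 hv hpb
      have haH : p.1 ∈ H := by
        by_contra h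
        refine hTI p.1 h _ hS ?_
        have e1 : p.1 * (p.1 * p.2) * p.1⁻¹ = (p.1 * p.2)⁻¹ := by
          rw [← mul_assoc, ha, one_mul, mul_inv_rev, inv_eq_of_mul_eq_one_right hb]
        rw [e1]; exact hinv _ hS
      have hbH : p.2 ∈ H := (H.mul_mem_cancel_left haH).mp hab
      refine ⟨(⟨p.1, haH⟩, ⟨p.2, hbH⟩), Finset.mem_filter.mpr ⟨Finset.mem_univ _, hpa, hpb⟩, ?_, rfl⟩
      exact hφne
    · exact (CfsgLib.Char.extendByZero_coe H φ (p.1 * p.2)).symm
  rw [hLHS, hRHS, ← hsum]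
  simp only [Cfsg.indFun]
  rw [← Finset.mul_sum, Finset.sum_comm, Finset.sum_congr rfl (fun x _ => hx x), Finset.sum_const,
    nsmul_eq_mul, ← mul_assoc, Finset.card_univ, ← Nat.card_eq_fintype_card, ← H.index_mul_card,
    Nat.cast_mul]
  have hne : (Nat.card H : ℂ) ≠ 0 := Nat.cast_ne_zero.mpr Nat.card_pos.ne'
  field_simp

end Cfsg.Agent.S0849
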