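import Cfsg.Statements.S0848
import Mathlib
import Cfsg.Agent.S0849
import Cfsg.Agent.Lib.Clifford.DihedralEight
import Cfsg.Agent.Lib.Clifford.ClassSum
import Cfsg.Agent.Lib.Clifford.Quaternion
import Cfsg.Agent.Lib.Clifford.TI
import Cfsg.Agent.Lib.Char.Column
import Cfsg.Agent.Lib.Char.Diag
import Cfsg.Agent.Lib.Transfer.Thompson

set_option autoImplicit false
open Cfsg
open scoped ComplexConjugate

namespace Cfsg.Agent.S0848

theorem endgame1 (d m : ℕ) (hd : 0 < d) (hm : m % 2 = 1)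
    (h : (m : ℤ) * ((d : ℤ) - 1) ^ 2 = 32 * d * (d + 1)) : 8 * m = 168 ∨ 8 * m = 360 := by
  obtain ⟨k, rfl⟩ : ∃ k, d = k + 1 := ⟨d - 1, by omega⟩
  push_cast at h
  have hdvd : k ∣ 64 := by
    have : (k : ℤ) ∣ 64 := ⟨(m : ℤ) * k - 32 * k - 96, by linear_combination -h⟩
    exact_mod_cast this
  have hk0 : k ≠ 0 := by rintro rfl; norm_num at h
  have hcases : k ∈ Nat.divisors 64 := Nat.mem_divisors.mpr ⟨hdvd, by norm_num⟩
  rw [show Nat.divisors 64 = ({1, 2, 4, 8, 16, 32, 64} : Finset ℕ) by decide] at hcases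
  simp only [Finset.mem_insert, Finset.mem_singleton] at hcases
  rcases hcases with rfl | rfl | rfl | rfl | rfl | rfl | rfl <;> norm_num at h ⊢ <;> omega

theorem endgame2 (d m : ℕ) (hd : 0 < d) (hm : m % 2 = 1)
    (h : (m : ℤ) * ((d : ℤ) + 2) ^ 2 = 32 * d * (d + 1)) : 8 * m = 168 ∨ 8 * m = 360 := by
  have hdvd : d + 2 ∣ 64 := by
    have : ((d + 2 : ℕ) : ℤ) ∣ 64 := ⟨(m : ℤ) * (d + 2) - 32 * d + 32, by push_cast; linear_combination -h⟩
    exact_mod_cast this
  obtain ⟨k, hk⟩ : ∃ k, d + 2 = k := ⟨_, rfl⟩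
  have hcases : k ∈ Nat.divisors 64 := Nat.mem_divisors.mpr ⟨hk ▸ hdvd, by norm_num⟩
  rw [show Nat.divisors 64 = ({1, 2, 4, 8, 16, 32, 64} : Finset ℕ) by decide] at hcases
  simp only [Finset.mem_insert, Finset.mem_singleton] at hcases
  have hd2 : (d : ℤ) = (k : ℤ) - 2 := by omega
  rw [hd2] at h
  rcases hcases with rfl | rfl | rfl | rfl | rfl | rfl | rfl <;> norm_num at h ⊢ <;> omega

set_option maxHeartbeats 1000000 in
/-- If a finite group equals its own commutator subgroup and contains an involution whose centralizer is isomorphic to the dihedral group of order 8, then the group has order 168 or 360. -/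
theorem result {G : Type*} [Group G] [Finite G] (hperf : commutator G = ⊤) (t : G) (ht : orderOf t = 2) (e : Subgroup.centralizer ({t} : Set G) ≃* DihedralGroup 4) : Nat.card G = 168 ∨ Nat.card G = 360 := by
  classical
  have := Fintype.ofFinite G
  set D := Subgroup.centralizer ({t} : Set G) with hDdef
  have : Fintype D := Fintype.ofFinite D
  have htD : t ∈ D := Subgroup.mem_centralizer_singleton_iff.mpr rfl
  have hcardD : Nat.card D = 8 := by rw [Nat.card_congr e.toEquiv, DihedralGroup.nat_card]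
  have ht1 : t ≠ 1 := fun h => by rw [h, orderOf_one] at ht; norm_num at ht
  have htt : t * t = 1 := by rw [← pow_two, ← ht, pow_orderOf_eq_one]
  have hcen : ∀ z : D, (∀ y : D, z * y = y * z) → z = 1 ∨ z = e.symm (.r 2) := fun z hz => by
    rcases CfsgLib.Clifford.DihedralEight.eq_center (e z) (fun y => by
      have := congr_arg e (hz (e.symm y)); simpa using this) with h | h
    · left; exact e.injective (by rw [h, map_one])
    · right; rw [← h, e.symm_apply_apply]
  have het : e ⟨t, htD⟩ = .r 2 := by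
    rcases hcen ⟨t, htD⟩ (fun y => Subtype.ext
      (Subgroup.mem_centralizer_singleton_iff.mp y.2).symm) with h | h
    · exact absurd (congr_arg Subtype.val h) ht1
    · rw [h, e.apply_symm_apply]
  -- Sylow
  have : Fact (Nat.Prime 2) := ⟨Nat.prime_two⟩
  obtain ⟨T, hT⟩ := (IsPGroup.of_card (n := 3) (by rw [hcardD]; norm_num) : IsPGroup 2 D).exists_le_sylow
  have hTD : (T : Subgroup G) = D := by
    refine le_antisymm (fun g hg => ?_) hT
    have : Nontrivial (T : Subgroup G) := ⟨⟨⟨t, hT htD⟩, 1, fun h => ht1 (congr_arg Subtype.val h)⟩⟩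
    have := T.2.center_nontrivial
    obtain ⟨⟨z, hz⟩, hz1⟩ := exists_ne (1 : Subgroup.center (T : Subgroup G))
    have hcomm : ∀ y ∈ (T : Subgroup G), (z : G) * y = y * z := fun y hy =>
      (congr_arg Subtype.val (Subgroup.mem_center_iff.mp hz ⟨y, hy⟩)).symm
    have hzD : (z : G) ∈ D := Subgroup.mem_centralizer_singleton_iff.mpr (hcomm t (hT htD))
    rcases hcen ⟨z, hzD⟩ (fun y => Subtype.ext (hcomm y (hT y.2))) with h | h
    · exact absurd (Subtype.ext (Subtype.ext (congr_arg Subtype.val h : (z : G) = 1))) hz1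
    · have hzt : (z : G) = t := by
        have h2 : (⟨z, hzD⟩ : D) = ⟨t, htD⟩ := by rw [h, ← het, e.symm_apply_apply]
        exact congr_arg Subtype.val h2
      exact Subgroup.mem_centralizer_singleton_iff.mpr (by rw [← hzt]; exact (hcomm g hg).symm)
  obtain ⟨m, hm, hGm⟩ : ∃ m, m % 2 = 1 ∧ Nat.card G = 8 * m := by
    refine ⟨D.index, ?_, by rw [← hcardD, mul_comm]; exact D.index_mul_card.symm⟩
    rw [← hTD]
    exact Nat.two_dvd_ne_zero.mp T.not_dvd_index
  -- one class of involutions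
  have hconj : ∀ u : G, u * u = 1 → u ≠ 1 → IsConj t u := by
    intro u hu hu1
    obtain ⟨g, hg⟩ : ∃ g : G, g * u * g⁻¹ ∈ (T : Subgroup G) := by
      obtain ⟨g, hg⟩ := CfsgLib.Clifford.Quat.exists_conj_mem (S := T) (R := Subgroup.zpowers u)
        (IsPGroup.of_card_dvd_pow (n := 1) (by
          rw [Nat.card_zpowers, pow_one]; exact orderOf_dvd_of_pow_eq_one (by rw [pow_two, hu])))
      exact ⟨g, hg u (Subgroup.mem_zpowers u)⟩
    set v := g * u * g⁻¹ with hv
    have hv2 : v ^ 2 = 1 := by rw [hv, conj_pow, pow_two, hu]; group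
    let Q : Subgroup G := (Subgroup.zpowers (DihedralGroup.r 1 : DihedralGroup 4)).map
      (D.subtype.comp e.symm.toMonoidHom)
    have hQD : Q ≤ D := fun x ⟨y, _, hy⟩ => hy ▸ (e.symm y).2
    have hQT : Q ≤ (T : Subgroup G) := hTD.symm ▸ hQD
    have hQi : Q.relIndex (T : Subgroup G) = 2 := by
      rw [hTD]
      have h := (Q.subgroupOf D).index_mul_card
      rw [Nat.card_congr (Subgroup.subgroupOfEquivOfLe hQD).toEquiv, hcardD,
        Subgroup.card_map_of_injective (f := D.subtype.comp e.symm.toMonoidHom)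
          (D.subtype_injective.comp e.symm.injective), Nat.card_zpowers, DihedralGroup.orderOf_r_one] at h
      show (Q.subgroupOf D).index = 2
      omega
    rcases CfsgLib.Transfer.thompson_transfer_involution T hQT hQi hv2 hg with ⟨M, hM, hMi, hvM⟩ | ⟨k, hk⟩
    · exfalso
      have hle : commutator G ≤ M := by
        rw [commutator_def, Subgroup.commutator_le]
        intro x _ y _
        rw [← QuotientGroup.eq_one_iff, commutatorElement_def]
        have : IsCyclic (G ⧸ M) := isCyclic_of_prime_card (p := 2) (by rw [← Subgroup.index_eq_card, hMi])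
        obtain ⟨c, hc⟩ := this.exists_generator
        obtain ⟨i, hi⟩ := hc (x : G ⧸ M)
        obtain ⟨j, hj⟩ := hc (y : G ⧸ M)
        simp only at hi hj
        rw [QuotientGroup.mk_mul, QuotientGroup.mk_mul, QuotientGroup.mk_mul, QuotientGroup.mk_inv,
          QuotientGroup.mk_inv, ← hi, ← hj, ((Commute.refl c).zpow_zpow i j).eq]
        group
      rw [hperf] at hle
      exact hvM (hle (Subgroup.mem_top v))
    · obtain ⟨y, hy, hye⟩ := hk
      obtain ⟨i, rfl⟩ := CfsgLib.Clifford.DihedralEight.mem_rot hy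
      have hye2 : (e.symm (DihedralGroup.r i) : G) = k * v * k⁻¹ := hye
      have hw : k * v * k⁻¹ * (k * v * k⁻¹) = 1 := by
        rw [← pow_two, conj_pow, hv2]; group
      have hy2 : (DihedralGroup.r i : DihedralGroup 4) = .r 2 := by
        refine CfsgLib.Clifford.DihedralEight.eq_of_rot_invol i ?_ fun h => ?_
        · apply e.symm.injective
          rw [map_mul, map_one]
          exact Subtype.ext (by simp [hye2, hw])
        · rw [h, map_one] at hye2
          exact hu1 (by simpa [hv] using hye2.symm)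
      have h3 : k * v * k⁻¹ = t := by
        rw [← hye2, hy2, ← het, e.symm_apply_apply]
      exact (isConj_iff.mpr ⟨k * g, by rw [← h3, hv]; group⟩ : IsConj u t).symm
  -- the class function on D
  let φ : D → ℂ := fun x => (CfsgLib.Clifford.DihedralEight.phiZ (e x) : ℂ)
  let V : Set G := {x | ∃ h : x ∈ D, φ ⟨x, h⟩ ≠ 0}
  have hVmem : ∀ x : D, φ x ≠ 0 → (x : G) ∈ V := fun x h => ⟨x.2, h⟩
  have hsq : ∀ x ∈ V, x = t ∨ x * x = t := by
    rintro x ⟨hx, hne⟩
    rcases CfsgLib.Clifford.DihedralEight.square_cases (e ⟨x, hx⟩)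
      (fun h => hne (by simp [φ, h])) with h | h
    · left
      exact congr_arg Subtype.val (e.injective (h.trans het.symm) : (⟨x, hx⟩ : D) = ⟨t, htD⟩)
    · right
      rw [← het, ← map_mul] at h
      exact congr_arg Subtype.val (e.injective h)
  have hTI : ∀ g : G, ∀ s ∈ V, g * s * g⁻¹ ∈ V → g ∈ D := by
    intro g s hs hgs
    have key : g * t * g⁻¹ = t → g ∈ D := fun h =>
      Subgroup.mem_centralizer_singleton_iff.mpr (mul_inv_eq_iff_eq_mul.mp h)
    rcases hsq s hs with rfl | h1 <;> rcases hsq _ hgs with h2 | h2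
    · exact key h2
    · exact absurd (by rw [← h2, ← pow_two, conj_pow, pow_two, htt]; group) ht1
    · refine absurd ?_ ht1
      have : g * (s * s) * g⁻¹ = 1 := by
        calc g * (s * s) * g⁻¹ = (g * s * g⁻¹) * (g * s * g⁻¹) := by group
          _ = 1 := by rw [h2, htt]
      rw [h1, conj_eq_one_iff] at this
      exact this
    · refine key ?_
      calc g * t * g⁻¹ = (g * s * g⁻¹) * (g * s * g⁻¹) := by rw [← h1]; group
        _ = t := h2
  have hφcl : Cfsg.IsClassFunction D φ := fun x h => by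
    simp only [φ, map_mul, map_inv, CfsgLib.Clifford.DihedralEight.phiZ_conj]
  have hφgen : Cfsg.IsGeneralizedCharacter D φ := by
    refine ⟨_, _, CfsgLib.Char.isCharacter_comp
      (CfsgLib.Clifford.DihedralEight.isCharacter_trace CfsgLib.Clifford.DihedralEight.plusHom) e.toMonoidHom,
      CfsgLib.Char.isCharacter_comp
        (CfsgLib.Clifford.DihedralEight.isCharacter_trace CfsgLib.Clifford.DihedralEight.rotHom) e.toMonoidHom,
      funext fun x => ?_⟩
    simp [φ, CfsgLib.Clifford.DihedralEight.phiZ_eq]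
  let Θ := Cfsg.indFun D φ
  have hΘ1 : Cfsg.classInner Θ (fun _ => 1) = 1 := by
    rw [CfsgLib.Clifford.classInner_indFun_one, Cfsg.classInner, hcardD]
    have h := CfsgLib.Clifford.DihedralEight.sum_phiZ
    have h2 : ∑ x : D, φ x * conj (1 : ℂ) = 8 := by
      simp only [map_one, mul_one, φ]
      refine (Equiv.sum_comp e.toEquiv
        (fun y => (CfsgLib.Clifford.DihedralEight.phiZ y : ℂ))).trans ?_
      · exact_mod_cast h
    rw [h2]; norm_num
  have hΘΘ : Cfsg.classInner Θ Θ = 3 := by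
    rw [CfsgLib.Clifford.classInner_indFun_of_TI hTI φ hφcl hVmem hVmem, Cfsg.classInner, hcardD]
    have h := CfsgLib.Clifford.DihedralEight.sum_phiZ_sq
    have h2 : ∑ x : D, φ x * conj (φ x) = 24 := by
      have h3 : ∑ x : D, φ x * conj (φ x) = ∑ y, (CfsgLib.Clifford.DihedralEight.phiZ y : ℂ) *
          (CfsgLib.Clifford.DihedralEight.phiZ y : ℂ) :=
        Fintype.sum_equiv e.toEquiv _ _ fun x => by simp [φ]
      rw [h3]
      exact_mod_cast h
    rw [h2]; norm_num
  have hΘt : Θ t = 4 := by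
    have hval : φ ⟨t, htD⟩ = 4 := by
      simp only [φ, het]
      rw [show CfsgLib.Clifford.DihedralEight.phiZ (DihedralGroup.r 2) = 4 by decide]
      norm_num
    show Cfsg.indFun D φ ((⟨t, htD⟩ : D) : G) = 4
    rw [CfsgLib.Clifford.indFun_apply_of_TI hTI hφcl hVmem _ (hVmem _ (by rw [hval]; norm_num)), hval]
  have hΘ0 : Θ 1 = 0 := by
    show Cfsg.indFun D φ 1 = 0
    rw [CfsgLib.Char.indFun_apply_one, show φ 1 = 0 by
      simp only [φ, map_one, show CfsgLib.Clifford.DihedralEight.phiZ 1 = 0 by decide, Int.cast_zero], mul_zero]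
  have hone : Cfsg.IsIrrCharacter G (fun _ => (1 : ℂ)) := CfsgLib.Char.isIrrCharacter_one
  have hnorm : Cfsg.classInner (Θ - fun _ => 1) (Θ - fun _ => 1) = 2 := by
    have sw : Cfsg.classInner (fun _ => (1 : ℂ)) Θ = 1 := by
      rw [← CfsgLib.Char.classInner_conj_symm, hΘ1, map_one]
    simp only [CfsgLib.Char.classInner_sub_left, CfsgLib.Char.classInner_sub_right, hΘΘ, hΘ1,
      CfsgLib.Char.irr_classInner_self hone, sw]
    norm_num
  obtain ⟨χ, ψ, ε, δ, hχ, hψ, hne, hε, hδ, hdec⟩ := CfsgLib.Clifford.exists_norm_two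
    (CfsgLib.Char.isGeneralized_sub (CfsgLib.Char.isGeneralized_indFun D hφgen)
      (CfsgLib.Char.isGeneralized_of_isCharacter CfsgLib.Char.isCharacter_one)) hnorm
  have horth : ε * (if χ = (fun _ => 1) then 1 else 0) + δ * (if ψ = (fun _ => 1) then 1 else 0) = (0 : ℂ) := by
    rw [← CfsgLib.Char.irr_classInner hχ hone, ← CfsgLib.Char.irr_classInner hψ hone,
      ← CfsgLib.Char.classInner_smul_left, ← CfsgLib.Char.classInner_smul_left,
      ← CfsgLib.Char.classInner_add_left, ← hdec, CfsgLib.Char.classInner_sub_left]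
    change Cfsg.classInner Θ _ - _ = 0
    rw [hΘ1, CfsgLib.Char.irr_classInner_self hone, sub_self]
  have hχ1 : χ ≠ fun _ => 1 := fun h => by
    rw [if_pos h, if_neg (fun h' => hne (h.trans h'.symm)), mul_one, mul_zero, add_zero] at horth
    rcases hε with rfl | rfl <;> norm_num at horth
  have hψ1 : ψ ≠ fun _ => 1 := fun h => by
    rw [if_pos h, if_neg (fun h' => hne (h'.trans h.symm)), mul_one, mul_zero, zero_add] at horth
    rcases hδ with rfl | rfl <;> norm_num at horth
  have hΘeq : ∀ g, Θ g = 1 + ε * χ g + δ * ψ g := fun g => by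
    have := congr_fun hdec g
    simp only [Pi.sub_apply, Pi.add_apply, Pi.smul_apply, smul_eq_mul] at this
    linear_combination this
  obtain ⟨χ₁, χ₂, h₁, h₂, hne12, hn1, hn2, hΘ⟩ : ∃ χ₁ χ₂ : G → ℂ, Cfsg.IsIrrCharacter G χ₁ ∧
      Cfsg.IsIrrCharacter G χ₂ ∧ χ₁ ≠ χ₂ ∧ χ₁ ≠ (fun _ => 1) ∧ χ₂ ≠ (fun _ => 1) ∧
      ∀ g, Θ g = 1 + χ₂ g - χ₁ g := by
    obtain ⟨a, ha, hae⟩ := CfsgLib.Char.irr_apply_one_pos hχ
    obtain ⟨b, hb, hbe⟩ := CfsgLib.Char.irr_apply_one_pos hψ
    have hdeg := hΘeq 1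
    rw [hΘ0, hae, hbe] at hdeg
    rcases hε with rfl | rfl <;> rcases hδ with rfl | rfl
    · exfalso
      have : ((1 + a + b : ℕ) : ℂ) = 0 := by push_cast; linear_combination -hdeg
      norm_cast at this
      omega
    · exact ⟨ψ, χ, hψ, hχ, hne.symm, hψ1, hχ1, fun g => by rw [hΘeq]; ring⟩
    · exact ⟨χ, ψ, hχ, hψ, hne, hχ1, hψ1, fun g => by rw [hΘeq]; ring⟩
    · exfalso
      have : ((a + b : ℕ) : ℂ) = ((1 : ℕ) : ℂ) := by push_cast; linear_combination hdeg
      norm_cast at this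
      omega
  obtain ⟨d, hd, hde⟩ := CfsgLib.Char.irr_apply_one_pos h₂
  have hd1 : χ₁ 1 = (d : ℂ) + 1 := by have := hΘ 1; rw [hΘ0, hde] at this; linear_combination this
  have hint : ∀ θ : G → ℂ, Cfsg.IsIrrCharacter G θ → ∃ z : ℤ, θ t = z := by
    rintro θ ⟨n, ρ, hρ, rfl⟩
    obtain ⟨ι, hι, b, μ, -, hμ, hpow, -⟩ := CfsgLib.Char.exists_char_eigen ρ t
    have hz : ∀ i, ∃ z : ℤ, μ i = z := fun i => by
      have := hμ i
      rw [ht] at this
      rcases sq_eq_one_iff.mp this with h | h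
      · exact ⟨1, by simp [h]⟩
      · exact ⟨-1, by simp [h]⟩
    choose z hz using hz
    refine ⟨∑ i, z i, ?_⟩
    have h1 := hpow 1
    simp only [pow_one] at h1
    rw [h1]; push_cast
    exact Finset.sum_congr rfl fun i _ => hz i
  obtain ⟨a, ha⟩ := hint _ h₂
  obtain ⟨f, hf⟩ := hint _ h₁
  have hfe : f = a - 3 := by
    have := hΘ t
    rw [hΘt, ha, hf] at this
    have : ((4 : ℤ) : ℂ) = ((1 + a - f : ℤ) : ℂ) := by push_cast; exact this
    have := Int.cast_injective this
    omega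
  have hle : 1 + a ^ 2 + f ^ 2 ≤ 8 := by
    have := CfsgLib.Char.finite_irrCharacter (G := G)
    have : Fintype (Cfsg.IrrCharacter G) := Fintype.ofFinite _
    have hcol := CfsgLib.Char.column_orthogonality (G := G) t t
    rw [if_pos (IsConj.refl t), ← hDdef, hcardD] at hcol
    have h8 : ∑ θ : Cfsg.IrrCharacter G, ‖(θ : G → ℂ) t‖ ^ 2 = (8 : ℝ) := by
      have h2 : ((∑ θ : Cfsg.IrrCharacter G, ‖(θ : G → ℂ) t‖ ^ 2 : ℝ) : ℂ) = ((8 : ℝ) : ℂ) := by
        push_cast
        rw [show (8 : ℂ) = ((8 : ℕ) : ℂ) by norm_num, ← hcol]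
        exact Finset.sum_congr rfl fun χ _ => (Complex.mul_conj' _).symm
      exact_mod_cast h2
    have h3 := Finset.sum_le_univ_sum_of_nonneg (f := fun θ : Cfsg.IrrCharacter G => ‖(θ : G → ℂ) t‖ ^ 2)
      (s := {⟨_, hone⟩, ⟨_, h₂⟩, ⟨_, h₁⟩}) (fun _ => sq_nonneg _)
    rw [Finset.sum_insert (by simp [Subtype.ext_iff, hn1.symm, hn2.symm]),
      Finset.sum_pair (by simp [Subtype.ext_iff, hne12.symm]), h8] at h3
    simp only [ha, hf, norm_one, one_pow, Complex.norm_intCast, sq_abs] at h3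
    have : ((1 + a ^ 2 + f ^ 2 : ℤ) : ℝ) ≤ ((8 : ℤ) : ℝ) := by push_cast; linarith
    exact_mod_cast this
  -- class multiplication
  let A := Finset.univ.filter (IsConj t)
  have hA : A.card * 8 = Nat.card G := by
    have h := CfsgLib.Char.natCard_carrier_mul_centralizer t
    rw [← hDdef, hcardD, Nat.card_eq_fintype_card (α := (ConjClasses.mk t).carrier)] at h
    rw [← h]
    congr 1
    rw [← Set.toFinset_card]
    congr 1
    ext x
    simp only [A, Finset.mem_filter, Finset.mem_univ, true_and, Set.mem_toFinset,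
      ConjClasses.mem_carrier_iff_mk_eq, ConjClasses.mk_eq_mk_iff_isConj]
    exact isConj_comm
  have h849 := Cfsg.Agent.S0849.result D V (fun x ⟨h, _⟩ => h)
    (fun h hh s ⟨hs, hne⟩ => ⟨D.mul_mem (D.mul_mem hh hs) (D.inv_mem hh), by
      rwa [show (⟨h * s * h⁻¹, D.mul_mem (D.mul_mem hh hs) (D.inv_mem hh)⟩ : D) =
        ⟨h, hh⟩ * ⟨s, hs⟩ * ⟨h, hh⟩⁻¹ from rfl, hφcl]⟩)
    (fun g hg s hs hgs => hg (hTI g s hs hgs))
    (fun s ⟨hs, hne⟩ => ⟨D.inv_mem hs, by
      simpa [φ, show (⟨s⁻¹, D.inv_mem hs⟩ : D) = (⟨s, hs⟩ : D)⁻¹ from rfl, map_inv,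
        CfsgLib.Clifford.DihedralEight.phiZ_inv] using hne⟩)
    φ hφcl (fun x hx => by_contra fun h => hx (hVmem x h)) t t ht ht
  rw [finsum_mem_eq_toFinset_sum, finsum_mem_eq_toFinset_sum] at h849
  have hL : ∑ p ∈ ({p : G × G | IsConj t p.1 ∧ IsConj t p.2} : Set (G × G)).toFinset, Θ (p.1 * p.2) =
      (A.card : ℂ) * A.card * (1 + χ₂ t * χ₂ t / χ₂ 1 - χ₁ t * χ₁ t / χ₁ 1) := by
    rw [show ({p : G × G | IsConj t p.1 ∧ IsConj t p.2} : Set (G × G)).toFinset = A ×ˢ A by
      ext p; simp [A], Finset.sum_product]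
    simp only [hΘ, Finset.sum_add_distrib, Finset.sum_sub_distrib, A,
      CfsgLib.Clifford.sum_class_mul_eq h₁, CfsgLib.Clifford.sum_class_mul_eq h₂]
    simp only [Finset.sum_const, nsmul_eq_mul, mul_one]
    ring
  have hR : ∑ p ∈ ({p : D × D | IsConj t (p.1 : G) ∧ IsConj t (p.2 : G)} : Set (D × D)).toFinset,
      φ (p.1 * p.2) = 32 := by
    have h := CfsgLib.Clifford.DihedralEight.sum_pairs
    have h2 : ∑ p ∈ ({p : D × D | IsConj t (p.1 : G) ∧ IsConj t (p.2 : G)} : Set (D × D)).toFinset,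
        φ (p.1 * p.2) = ((∑ p ∈ Finset.univ.filter (fun p : DihedralGroup 4 × DihedralGroup 4 =>
        (p.1 * p.1 = 1 ∧ p.1 ≠ 1) ∧ (p.2 * p.2 = 1 ∧ p.2 ≠ 1)),
        CfsgLib.Clifford.DihedralEight.phiZ (p.1 * p.2) : ℤ) : ℂ) := by
      push_cast
      have hiff : ∀ x : D, IsConj t (x : G) ↔ e x * e x = 1 ∧ e x ≠ 1 := by
        intro x
        rw [← map_mul, map_eq_one_iff _ e.injective, Ne, map_eq_one_iff _ e.injective]
        constructor
        · intro h
          obtain ⟨g, hg⟩ := isConj_iff.mp h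
          refine ⟨Subtype.ext ?_, fun h1 => ht1 ?_⟩
          · show (x : G) * x = 1
            rw [← hg, ← pow_two, conj_pow, pow_two, htt]; group
          · rw [h1, Subgroup.coe_one, conj_eq_one_iff] at hg; exact hg
        · exact fun ⟨h1, h2⟩ => hconj x (congr_arg Subtype.val h1) fun h => h2 (Subtype.ext h)
      refine Finset.sum_equiv (e.toEquiv.prodCongr e.toEquiv) (fun p => ?_) (fun p _ => ?_)
      · simp only [Set.mem_toFinset, Set.mem_setOf_eq, hiff, Finset.mem_filter, Finset.mem_univ, true_and,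
          Equiv.prodCongr_apply, Prod.map_fst, Prod.map_snd, MulEquiv.toEquiv_eq_coe, EquivLike.coe_coe]
      · simp [φ]
    rw [h2, h]; norm_num
  rw [show Cfsg.indFun D φ = Θ from rfl] at h849
  erw [hL, hR] at h849
  rw [hde, hd1, ha, hf] at h849
  have hidx : (D.index : ℂ) = (A.card : ℂ) := by
    have := D.index_mul_card
    rw [hcardD, ← hA] at this
    exact_mod_cast Nat.eq_of_mul_eq_mul_right (by norm_num : 0 < 8) this
  have hApos : A.card ≠ 0 := by
    intro h; rw [h, zero_mul] at hA; exact Nat.card_pos.ne hA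
  have hdne : (d : ℂ) ≠ 0 := Nat.cast_ne_zero.mpr hd.ne'
  have hd1ne : (d : ℂ) + 1 ≠ 0 := by exact_mod_cast Nat.succ_ne_zero d
  have hQ : (((A.card : ℤ) * ((d : ℤ) * (d + 1) + a ^ 2 * (d + 1) - d * f ^ 2) : ℤ) : ℂ) =
      ((32 * d * (d + 1) : ℤ) : ℂ) := by
    rw [hidx] at h849
    have hAne : (A.card : ℂ) ≠ 0 := Nat.cast_ne_zero.mpr hApos
    have h' := mul_left_cancel₀ hAne (show (A.card : ℂ) * ((A.card : ℂ) * (1 + (a : ℂ) * a / d -
      (f : ℂ) * f / ((d : ℂ) + 1))) = (A.card : ℂ) * 32 by rw [← mul_assoc]; exact h849)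
    field_simp at h'
    push_cast
    linear_combination h'
  have hQ' := Int.cast_injective hQ
  have hAm : A.card = m := by omega
  rw [hAm] at hQ'
  subst hfe
  have ha12 : a = 1 ∨ a = 2 := by
    have h1 : -2 ≤ a := by nlinarith
    have h2 : a ≤ 3 := by nlinarith
    interval_cases a <;> first | omega | norm_num at hle
  rw [hGm]
  rcases ha12 with rfl | rfl
  · exact endgame1 d m hd hm (by linear_combination hQ')
  · exact endgame2 d m hd hm (by linear_combination hQ')

end Cfsg.Agent.S0848
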