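import Cfsg.Statements.S0219
import Mathlib.GroupTheory.Transfer
import Mathlib.Tactic

set_option autoImplicit false
open Cfsg

namespace Cfsg.Agent.S0219

/-- If a finite group has even order and a cyclic Sylow 2-subgroup, then it has a subgroup of index 2 (consider the parity of permutations in the regular representation). -/
theorem result {G : Type*} [Group G] [Finite G] (heven : Even (Nat.card G)) (T : Sylow 2 G) (hT : IsCyclic (T : Subgroup G)) : ∃ H : Subgroup G, H.index = 2 := by
  have hmin : (Nat.card G).minFac = 2 := (Nat.minFac_eq_two_iff _).2 (even_iff_two_dvd.1 heven)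
  have hc := IsCyclic.isComplement' hmin hT
  set N := (MonoidHom.transferSylow T (hT.normalizer_le_centralizer hmin)).ker
  obtain ⟨k, hk⟩ := T.2.exists_card_eq
  have hk0 : k ≠ 0 := by
    rintro rfl
    have h := T.dvd_card_of_dvd_card (even_iff_two_dvd.1 heven)
    rw [hk, pow_zero] at h
    omega
  have hq : Nat.card (G ⧸ N) = 2 ^ k := by
    rw [← Subgroup.index_eq_card, hc.symm.index_eq_card]
    exact hk
  obtain ⟨M, hM⟩ := Sylow.exists_subgroup_card_pow_prime (G := G ⧸ N) 2 (n := k - 1)
    (hq ▸ pow_dvd_pow 2 (Nat.sub_le k 1))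
  refine ⟨M.comap (QuotientGroup.mk' N), ?_⟩
  rw [Subgroup.index_comap_of_surjective _ (QuotientGroup.mk'_surjective N)]
  have h := M.card_mul_index
  rw [hM, hq] at h
  obtain ⟨j, rfl⟩ := Nat.exists_eq_succ_of_ne_zero hk0
  rw [Nat.succ_sub_one, pow_succ] at h
  exact Nat.eq_of_mul_eq_mul_left (by positivity) h

end Cfsg.Agent.S0219
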