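import Cfsg.Statements.S1001
import Cfsg.Agent.Lib.Block.ThreePrimeSimple
import Cfsg.Agent.Lib.Char.Burnside

set_option autoImplicit false
open Cfsg

namespace Cfsg.Agent.S1001

/-- In a finite simple group whose order has the form p * 3^a * 2^b with p prime, the centralizer of any element of order p is the cyclic group it generates. -/
theorem result {G : Type*} [Group G] [Finite G] [IsSimpleGroup G] (p a b : ℕ) (hp : p.Prime) (hG : Nat.card G = p * 3 ^ a * 2 ^ b) (x : G) (hx : orderOf x = p) : Subgroup.centralizer ({x} : Set G) = Subgroup.zpowers x := by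
  have : Fact p.Prime := ⟨hp⟩
  by_cases hab : ∀ a b : G, a * b = b * a
  · let : CommGroup G := { (inferInstance : Group G) with mul_comm := hab }
    have hc : (Nat.card G).Prime := IsSimpleGroup.prime_card
    have htop : Subgroup.zpowers x = ⊤ := Subgroup.eq_top_of_card_eq _ (by
      rw [Nat.card_zpowers, hx]
      exact ((hc.eq_one_or_self_of_dvd p (hx ▸ orderOf_dvd_natCard x)).resolve_left hp.ne_one))
    exact le_antisymm (htop ▸ le_top)
      (Subgroup.zpowers_le.mpr (Subgroup.mem_centralizer_singleton_iff.mpr rfl))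
  have hns : ¬ Group.IsSolvable G := fun h => hab fun a b =>
    IsSimpleGroup.comm_iff_isSolvable.2 h a b
  by_cases hp2 : p = 2
  · subst hp2
    exact absurd (CfsgLib.Char.burnside_pq 2 3 hp Nat.prime_three (b + 1) a G
      (by rw [hG]; ring)) hns
  by_cases hp3 : p = 3
  · subst hp3
    exact absurd (CfsgLib.Char.burnside_pq 2 3 Nat.prime_two hp b (a + 1) G
      (by rw [hG]; ring)) hns
  obtain ⟨S, hS⟩ : ∃ S : Sylow p G, (S : Subgroup G) = Subgroup.zpowers x := by
    obtain ⟨S, hle⟩ := (IsPGroup.of_card (n := 1) (by rw [Nat.card_zpowers, hx, pow_one]) :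
      IsPGroup p (Subgroup.zpowers x)).exists_le_sylow
    refine ⟨S, (Subgroup.eq_of_le_of_card_ge hle ?_).symm⟩
    obtain ⟨k, hk⟩ := IsPGroup.iff_card.mp S.isPGroup'
    rw [Nat.card_zpowers, hx, hk]
    rcases Nat.lt_or_ge k 2 with hk2 | hk2
    · exact (pow_le_pow_right₀ hp.one_le (by omega : k ≤ 1)).trans (pow_one p).le
    · have h := ((pow_dvd_pow p hk2).trans (hk ▸ Subgroup.card_subgroup_dvd_card _) :
        p ^ 2 ∣ Nat.card G)
      rw [hG, sq, mul_assoc, Nat.mul_dvd_mul_iff_left hp.pos] at h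
      rcases hp.dvd_mul.1 h with h | h
      · exact absurd ((Nat.prime_dvd_prime_iff_eq hp Nat.prime_three).1 (hp.dvd_of_dvd_pow h)) hp3
      · exact absurd ((Nat.prime_dvd_prime_iff_eq hp Nat.prime_two).1 (hp.dvd_of_dvd_pow h)) hp2
  have h := CfsgLib.Block.ThreePrimeSimple.centralizer_sylow_eq (a := a) (b := b)
    Nat.prime_three Nat.prime_two (fun h => hp3 h.symm) (fun h => hp2 h.symm)
    (by rw [hG]; ring) S
  have hc : Subgroup.centralizer ({x} : Set G) = Subgroup.centralizer (S : Set G) := by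
    rw [← Subgroup.centralizer_closure ({x} : Set G), ← Subgroup.zpowers_eq_closure, ← hS]
    rfl
  rw [hc, h, hS]

end Cfsg.Agent.S1001
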