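import Cfsg.Statements.S3357
import Mathlib
import Cfsg.Agent.Lib.Recog.FpfLift
import Cfsg.Agent.Lib.Solvable.FrobeniusComplement

set_option autoImplicit false
open Cfsg

namespace Cfsg.Agent.S3357

theorem fpf_matrices {G : Type*} [Group G] [Finite G] {V : Type*} [CommGroup V] [Finite V] [Nontrivial V]
    (φ : G →* MulAut V) (hfpf : ∀ g : G, g ≠ 1 → ∀ v : V, φ g v = v → v = 1)
    (hco : (Nat.card G).Coprime (Nat.card V)) :
    ∃ (p : ℕ) (_ : Fact p.Prime) (n : ℕ), 0 < n ∧ ∃ ρ : G →* (Matrix (Fin n) (Fin n) (ZMod p))ˣ,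
      (∀ g : G, g ≠ 1 → ∀ v : Fin n → ZMod p, (ρ g : Matrix (Fin n) (Fin n) (ZMod p)).mulVec v = v → v = 0) ∧
      (Nat.card G).Coprime p := by
  classical
  obtain ⟨p, hp, hpV⟩ := Nat.exists_prime_and_dvd (Finite.one_lt_card (α := V)).ne'
  haveI := Fact.mk hp
  let W := (powMonoidHom p : V →* V).ker
  have hW : ∀ w : W, w ^ p = 1 := fun w => Subtype.ext w.2
  haveI : Nontrivial W := by
    obtain ⟨x, hx⟩ := exists_prime_orderOf_dvd_card' p hpV
    refine ⟨⟨x, by rw [MonoidHom.mem_ker, powMonoidHom_apply, ← hx, pow_orderOf_eq_one]⟩, 1, fun h => ?_⟩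
    have h1 : x = 1 := congrArg Subtype.val h
    rw [h1, orderOf_one] at hx
    exact hp.one_lt.ne hx
  letI : Module (ZMod p) (Additive W) := AddCommGroup.zmodModule (n := p) (G := Additive W) (fun a : Additive W => hW a.toMul)
  haveI : Module.Finite (ZMod p) (Additive W) := Module.Finite.of_finite
  let b := Module.finBasis (ZMod p) (Additive W)
  have hmaps : ∀ (g : G) (w : W), φ g w ∈ W := fun g w => by
    rw [MonoidHom.mem_ker, powMonoidHom_apply, ← map_pow]
    have : (w : V) ^ p = 1 := w.2
    rw [this, map_one]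
  let T : G →* Module.End (ZMod p) (Additive W) :=
    { toFun := fun g => AddMonoidHom.toZModLinearMap p
        (MonoidHom.toAdditive (((φ g).toMonoidHom.comp W.subtype).codRestrict W (hmaps g)))
      map_one' := by
        refine LinearMap.ext fun x => ?_
        apply Additive.toMul.injective
        apply Subtype.ext
        change φ 1 (x.toMul : V) = (x.toMul : V)
        rw [map_one]; rfl
      map_mul' := fun g h => by
        refine LinearMap.ext fun x => ?_
        apply Additive.toMul.injective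
        apply Subtype.ext
        change φ (g * h) (x.toMul : V) = φ g (φ h (x.toMul : V))
        rw [map_mul]; rfl }
  let ρ : G →* (Matrix (Fin (Module.finrank (ZMod p) (Additive W))) (Fin (Module.finrank (ZMod p) (Additive W))) (ZMod p))ˣ :=
    ((LinearMap.toMatrixAlgEquiv b).toMonoidHom.comp T).toHomUnits
  refine ⟨p, inferInstance, _, Module.finrank_pos, ρ, ?_, hco.coprime_dvd_right hpV⟩
  intro g hg v hv
  set x := b.equivFun.symm v with hx
  have hv' : b.equivFun x = v := b.equivFun.apply_symm_apply v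
  have h1 : b.equivFun (T g x) = v := by
    rw [← hv]
    change b.equivFun (T g x) = (LinearMap.toMatrix b b (T g)).mulVec v
    rw [← hv', Module.Basis.equivFun_apply, Module.Basis.equivFun_apply, LinearMap.toMatrix_mulVec_repr]
  have h2 : T g x = x := b.equivFun.injective (h1.trans hv'.symm)
  have h3 : (x.toMul : W) = 1 := Subtype.ext (hfpf g hg _ (congrArg (fun a : Additive W => ((a.toMul : W) : V)) h2))
  have h4 : x = 0 := Additive.toMul.injective h3
  rw [← hv', h4, map_zero]

/-- Let G be a finite group that occurs as a Frobenius complement. Then G has a faithful irreducible representation over an algebraic closure of the rationals in which no non-identity element of G has 1 as an eigenvalue: there are n ≥ 1 and an injective homomorphism ρ from G to GL(n) over that field, with no invariant subspace other than 0 and the whole space, such that for g ≠ 1 the only vector fixed by ρ(g) is 0. -/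
theorem result {G : Type*} [Group G] [Finite G]
    (hFC : ∃ (L : Type) (_ : Group L) (_ : Finite L) (H : Subgroup L), Cfsg.IsFrobeniusComplement H ∧ Nonempty (G ≃* H)) :
    ∃ (n : ℕ) (ρ : G →* GL (Fin n) (AlgebraicClosure ℚ)), 0 < n ∧ Function.Injective ρ ∧
      (∀ W : Submodule (AlgebraicClosure ℚ) (Fin n → AlgebraicClosure ℚ),
        (∀ g : G, ∀ w ∈ W, ((ρ g : GL (Fin n) (AlgebraicClosure ℚ)) : Matrix (Fin n) (Fin n) (AlgebraicClosure ℚ)).mulVec w ∈ W) → W = ⊥ ∨ W = ⊤) ∧
      ∀ g : G, g ≠ 1 → ∀ v : Fin n → AlgebraicClosure ℚ,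
        ((ρ g : GL (Fin n) (AlgebraicClosure ℚ)) : Matrix (Fin n) (Fin n) (AlgebraicClosure ℚ)).mulVec v = v → v = 0 := by
  classical
  obtain ⟨L, _, _, H, hH, ⟨e⟩⟩ := hFC
  obtain ⟨V, φ, hVc, hVne, hco, hfpf⟩ := CfsgLib.Solvable.exists_fpf_abelian hH
  letI : CommGroup V := { (inferInstance : Group V) with mul_comm := hVc.is_comm.comm }
  haveI : Nontrivial V := V.nontrivial_iff_ne_bot.mpr hVne
  obtain ⟨p, hp, n, hn, ρ, hρ, hpG⟩ := fpf_matrices (G := G) (φ.comp e.toMonoidHom)
    (fun g hg => hfpf (e g) (fun h => hg (e.injective (h.trans (map_one e).symm))))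
    (by rw [Nat.card_congr e.toEquiv]; exact hco)
  haveI := hp
  obtain ⟨m, τ, hm, hirr, hfix⟩ := CfsgLib.Recog.exists_irreducible_fpf (AlgebraicClosure ℚ) hpG hn ρ hρ
  refine ⟨m, τ, hm, ?_, hirr, hfix⟩
  rw [injective_iff_map_eq_one]
  intro g hg
  by_contra hg1
  have h := hfix g hg1 (fun _ => 1) (by rw [hg]; simp)
  exact one_ne_zero (congrFun h ⟨0, hm⟩)

end Cfsg.Agent.S3357
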