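import Cfsg.Statements.S4116
import Cfsg.Agent.Lib.StructB.Misc
import Cfsg.Agent.Lib.Solvable.FrobeniusComplement
-- import your own Cfsg.Agent.* helpers here

set_option autoImplicit false
open Cfsg
open scoped Pointwise

namespace Cfsg.Agent.S4116

/-- Let G be a finite group with a subgroup H whose order is coprime to its index (a Hall subgroup) and which meets each of its conjugates by elements outside N_G(H) trivially. Then every subgroup of G whose order is divisible only by primes dividing the order of H lies in a conjugate of H. -/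
theorem result {G : Type*} [Group G] [Finite G] (H : Subgroup G)
    (hHall : (Nat.card H).Coprime H.index) (hTI : Cfsg.IsTISubset (H : Set G))
    (K : Subgroup G) (hK : ∀ q : ℕ, q.Prime → q ∣ Nat.card K → q ∣ Nat.card H) :
    ∃ g : G, K ≤ H.map (MulAut.conj g).toMonoidHom := by
  classical
  set Cj : G → Subgroup G := fun g => H.map (MulAut.conj g).toMonoidHom with hCj
  have hmemC : ∀ g x : G, x ∈ Cj g ↔ g⁻¹ * x * g ∈ H := fun g x => by
    constructor
    · rintro ⟨y, hy, rfl⟩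
      show g⁻¹ * (g * y * g⁻¹) * g ∈ H
      simpa [mul_assoc] using hy
    · intro h
      exact ⟨_, h, by show g * (g⁻¹ * x * g) * g⁻¹ = x; group⟩
  -- elements of the normaliser whose order only involves primes of `|H|` lie in `H`
  have hnorm : ∀ x ∈ Subgroup.normalizer (H : Set G), (∀ q : ℕ, q.Prime → q ∣ orderOf x → q ∣ Nat.card H) → x ∈ H := by
    intro x hx hπ
    haveI : (H.subgroupOf (Subgroup.normalizer (H : Set G))).Normal := Subgroup.normal_in_normalizer
    set q := QuotientGroup.mk' (H.subgroupOf (Subgroup.normalizer (H : Set G)))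
    have h1 : orderOf (q ⟨x, hx⟩) ∣ orderOf x := (orderOf_map_dvd q _).trans (by rw [Subgroup.orderOf_mk])
    have h2 : orderOf (q ⟨x, hx⟩) ∣ H.index := by
      refine (orderOf_dvd_natCard _).trans ?_
      rw [← Subgroup.index_eq_card]
      exact Dvd.intro _ (Subgroup.relIndex_mul_index Subgroup.le_normalizer)
    have h3 : orderOf (q ⟨x, hx⟩) = 1 := by
      by_contra hne
      obtain ⟨r, hr, hrd⟩ := Nat.exists_prime_and_dvd hne
      exact hr.ne_one (Nat.eq_one_of_dvd_coprimes hHall (hπ r hr (hrd.trans h1)) (hrd.trans h2))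
    exact (QuotientGroup.eq_one_iff (⟨x, hx⟩ : Subgroup.normalizer (H : Set G))).1 (orderOf_eq_one_iff.1 h3)
  have hTI' : ∀ g h : G, ∀ z : G, z ≠ 1 → z ∈ Cj g → z ∈ Cj h → g⁻¹ * h ∈ Subgroup.normalizer (H : Set G) := by
    intro g h z hz hg hh
    by_contra hn
    rw [hmemC] at hg hh
    have h1 := hTI (g⁻¹ * h) hn _ hh (by
      rw [show g⁻¹ * h * (h⁻¹ * z * h) * (g⁻¹ * h)⁻¹ = g⁻¹ * z * g by group]; exact hg)
    exact hz (by rw [show z = h * (h⁻¹ * z * h) * h⁻¹ by group, h1]; group)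
  have heq : ∀ g h : G, ∀ z : G, z ≠ 1 → z ∈ Cj g → z ∈ Cj h → Cj g = Cj h := by
    intro g h z hz hg hh
    have hn := hTI' g h z hz hg hh
    ext y
    rw [hmemC, hmemC, show h⁻¹ * y * h = (g⁻¹ * h)⁻¹ * (g⁻¹ * y * g) * (g⁻¹ * h) by group]
    have := Subgroup.mem_normalizer_iff.1 (Subgroup.inv_mem _ hn) (g⁻¹ * y * g)
    rwa [inv_inv] at this
  have hordK : ∀ x ∈ K, ∀ q : ℕ, q.Prime → q ∣ orderOf x → q ∣ Nat.card H := fun x hx q hq hd =>
    hK q hq (hd.trans (Subgroup.orderOf_dvd_natCard K hx))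
  have hnormC : ∀ g : G, ∀ x ∈ K, (∃ z : G, z ≠ 1 ∧ z ∈ Cj g ∧ x * z * x⁻¹ ∈ Cj g) → x ∈ Cj g := by
    rintro g x hx ⟨z, hz, hzC, hzx⟩
    have hzx' : x * z * x⁻¹ ∈ Cj (x * g) := by
      rw [hmemC] at hzC ⊢
      simpa [mul_assoc] using hzC
    have hn := hTI' g (x * g) _ (fun e => hz (conj_eq_one_iff.1 e)) hzx hzx'
    rw [hmemC]
    refine hnorm _ (by rwa [← mul_assoc] at hn) (fun q hq hd => hordK x hx q hq ?_)
    have h := orderOf_injective (MulAut.conj g⁻¹).toMonoidHom (MulAut.conj g⁻¹).injective x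
    simp only [MulEquiv.coe_toMonoidHom, MulAut.conj_apply, inv_inv] at h
    rwa [h] at hd
  have hcov : ∀ x ∈ K, x ≠ 1 → ∃ g, x ∈ Cj g := by
    intro x hx hx1
    obtain ⟨q, hq, hqd⟩ := Nat.exists_prime_and_dvd (fun e => hx1 (orderOf_eq_one_iff.1 e))
    haveI : Fact q.Prime := ⟨hq⟩
    set y := x ^ (orderOf x / q) with hy
    have hyo : orderOf y = q := orderOf_pow_orderOf_div (orderOf_pos x).ne' hqd
    obtain ⟨R⟩ : Nonempty (Sylow q H) := inferInstance
    have hcard : Nat.card ((R : Subgroup H).map H.subtype) = q ^ (Nat.card G).factorization q := by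
      rw [Subgroup.card_map_of_injective H.subtype_injective, R.card_eq_multiplicity, ← Subgroup.card_mul_index H,
        Nat.factorization_mul Nat.card_pos.ne' Subgroup.index_ne_zero_of_finite, Finsupp.add_apply,
        Nat.factorization_eq_zero_of_not_dvd (fun h => hq.ne_one (Nat.eq_one_of_dvd_coprimes hHall (hordK x hx q hq hqd) h)), add_zero]
    obtain ⟨T, hT⟩ := (IsPGroup.of_card (n := 1) (by rw [Nat.card_zpowers, hyo, pow_one]) : IsPGroup q (Subgroup.zpowers y)).exists_le_sylow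
    obtain ⟨a, ha⟩ := MulAction.exists_smul_eq G T (Sylow.ofCard _ hcard)
    have hmem : a * y * a⁻¹ ∈ (R : Subgroup H).map H.subtype := by
      have h := congrArg (fun S : Sylow q G => (S : Subgroup G)) ha
      simp only [Sylow.coe_subgroup_smul, Sylow.coe_ofCard] at h
      rw [← h]
      exact ⟨y, hT (Subgroup.mem_zpowers y), rfl⟩
    have hyC : y ∈ Cj a⁻¹ := by
      rw [hmemC, inv_inv]
      obtain ⟨h, -, hh⟩ := hmem
      exact hh ▸ h.2
    exact ⟨a⁻¹, hnormC a⁻¹ x hx ⟨y, fun e => hq.ne_one (by rw [← hyo, e, orderOf_one]), hyC, by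
      rw [hy, ← pow_succ', pow_succ, mul_inv_cancel_right]; exact hyC⟩⟩
  by_contra hno
  push Not at hno
  have hfrob : ∀ g : G, (∃ x ∈ K, x ≠ 1 ∧ x ∈ Cj g) → Cfsg.IsFrobeniusComplement ((Cj g).subgroupOf K) := by
    rintro g ⟨x, hx, hx1, hxC⟩
    refine ⟨fun e => hx1 ?_, fun e => hno g (Subgroup.subgroupOf_eq_top.1 e), fun a ha => eq_bot_iff.2 ?_⟩
    · have h1 : (⟨x, hx⟩ : K) ∈ (Cj g).subgroupOf K := hxC
      rw [e, Subgroup.mem_bot] at h1
      exact congrArg Subtype.val h1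
    · rintro z ⟨hz, w, hw, hwz⟩
      rw [Subgroup.mem_bot]
      by_contra hz1
      refine ha (hnormC g a.1 a.2 ⟨w.1, fun e => hz1 ?_, hw, ?_⟩)
      · rw [← hwz, show w = 1 from Subtype.ext e]; simp
      · have h2 : ((a * w * a⁻¹ : K) : G) = (z : G) := congrArg Subtype.val hwz
        simp only [Subgroup.coe_mul, Subgroup.coe_inv] at h2
        rw [h2]; exact hz
  have hK1 : ∃ x ∈ K, x ≠ 1 := by
    by_contra h
    push Not at h
    exact hno 1 fun x hx => (h x hx).symm ▸ one_mem _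
  obtain ⟨x0, hx0, hx01⟩ := hK1
  obtain ⟨g0, hg0⟩ := hcov x0 hx0 hx01
  have hF0 := hfrob g0 ⟨x0, hx0, hx01, hg0⟩
  refine hF0.2.1 (CfsgLib.StructB.eq_top_of_conj_cover _ fun x => ?_)
  by_cases hx1 : x = 1
  · exact ⟨1, by simp [hx1]⟩
  obtain ⟨g, hg⟩ := hcov x.1 x.2 (fun e => hx1 (Subtype.ext e))
  obtain ⟨a, ha⟩ := CfsgLib.Solvable.frobenius_complements_conj hF0 (hfrob g ⟨x.1, x.2, fun e => hx1 (Subtype.ext e), hg⟩)
  exact ⟨a, ha.le ⟨x, hg, rfl⟩⟩

end Cfsg.Agent.S4116
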