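import Cfsg.Statements.S2947
import Mathlib.GroupTheory.Sylow
import Mathlib.GroupTheory.Nilpotent
import Cfsg.Agent.Lib.Solvable.PCore
import Cfsg.Agent.Lib.PLocal.Basic
import Cfsg.Agent.Lib.PLocal.Sylow

set_option autoImplicit false
open Cfsg

namespace Cfsg.Agent.S2947

/-- Let G be a finite group of characteristic 2 type in which every 2-local subgroup is solvable and the centralizer of Ω₁(Z(S)) lies in N_G(S) for every Sylow 2-subgroup S; suppose O₂(G) = 1, fix a Sylow 2-subgroup S and a 2-local subgroup M containing N_G(J(S)) (J the Thompson subgroup generated by the elementary abelian 2-subgroups of largest order). Then M is strongly embedded in G (a proper subgroup of even order whose intersection with each conjugate by an element outside M has odd order) if and only if no nontrivial 2-subgroup of M lies in a 2-local subgroup of G not contained in M. -/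
theorem result {G : Type*} [Group G] [Finite G] (hL : Cfsg.IsCharacteristicTwoType G) (hN : ∀ N : Subgroup G, Cfsg.IsTwoLocal N → Group.IsSolvable ↥N)
    (hZ : ∀ S : Sylow 2 G, Subgroup.centralizer (Cfsg.omegaCenterOf (S : Subgroup G) : Set G) ≤ Subgroup.normalizer ((S : Subgroup G) : Set G)) (hO : Cfsg.pCore 2 G = ⊥) (S : Sylow 2 G) (M : Subgroup G) (hM : Cfsg.IsTwoLocal M)
    (hMJ : Subgroup.normalizer (Cfsg.thompsonSubgroupOf 2 (S : Subgroup G) : Set G) ≤ M) :
    Cfsg.IsStronglyEmbedded M ↔ Cfsg.straddlingTwoSubgroups M = ∅ := by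
  constructor
  · rintro ⟨-, -, hodd⟩
    rw [Set.eq_empty_iff_forall_notMem]
    rintro T ⟨hT, hT1, hTM, L, ⟨U, hU, hU1, rfl⟩, hTL, hLM⟩
    have hsub : ∀ (R : Subgroup G) (g : G), IsPGroup 2 R → R ≠ ⊥ → R ≤ M → g ∈ Subgroup.normalizer (R : Set G) → g ∈ M := by
      intro R g hR hR1 hRM hg
      by_contra hgM
      have hle : R ≤ M ⊓ M.map (MulAut.conj g).toMonoidHom := le_inf hRM (by
        have := Subgroup.map_mono (f := (MulAut.conj g).toMonoidHom) hRM
        rwa [CfsgLib.PLocal.mem_normalizer_map_conj.1 hg] at this)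
      obtain ⟨k, hk⟩ := hR.exists_card_eq
      have hk0 : k ≠ 0 := fun e => hR1 (Subgroup.card_eq_one.1 (by rw [hk, e, pow_zero]))
      exact (Nat.not_even_iff_odd.2 (hodd g hgM)) ((even_iff_two_dvd).2
        (((dvd_pow_self 2 hk0).trans (by rw [hk])).trans (Subgroup.card_dvd_of_le hle)))
    have hUT : IsPGroup 2 (U ⊔ T : Subgroup G) := IsPGroup.to_sup_of_normal_left' hU hT hTL
    haveI := hUT.isNilpotent
    have htop : M.subgroupOf (U ⊔ T) = ⊤ := by
      refine normalizerCondition_iff_only_full_group_self_normalizing.1 Group.normalizerCondition_of_isNilpotent _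
        (le_antisymm (fun x hx => ?_) Subgroup.le_normalizer)
      rw [Subgroup.mem_subgroupOf]
      have h1 := Subgroup.le_normalizer_map (U ⊔ T).subtype ⟨x, hx, rfl⟩
      rw [Subgroup.subgroupOf_map_subtype] at h1
      exact hsub _ _ (hUT.to_le inf_le_right) (fun e => hT1 (le_bot_iff.1 (e ▸ le_inf hTM le_sup_right)))
        inf_le_left h1
    rw [Subgroup.subgroupOf_eq_top] at htop
    exact hLM fun g hg => hsub U g hU hU1 (le_sup_left.trans htop) hg
  · intro h
    have hloc : ∀ (R L : Subgroup G), IsPGroup 2 R → R ≠ ⊥ → R ≤ M → Cfsg.IsTwoLocal L → R ≤ L → L ≤ M := by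
      intro R L hR hR1 hRM hL hRL
      by_contra hne
      exact Set.eq_empty_iff_forall_notMem.1 h R ⟨hR, hR1, hRM, L, hL, hRL, hne⟩
    obtain ⟨T₀, hT₀, hT₀1, hMeq⟩ := hM
    refine ⟨?_, ?_, fun g hg => ?_⟩
    · rintro rfl
      have : T₀.Normal := Subgroup.normalizer_eq_top_iff.1 hMeq.symm
      exact hT₀1 (le_bot_iff.1 (hO ▸ CfsgLib.Solvable.le_pCore this hT₀))
    · obtain ⟨k, hk⟩ := hT₀.exists_card_eq
      have hk0 : k ≠ 0 := fun e => hT₀1 (Subgroup.card_eq_one.1 (by rw [hk, e, pow_zero]))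
      refine even_iff_two_dvd.2 (((dvd_pow_self 2 hk0).trans (by rw [hk])).trans (Subgroup.card_dvd_of_le ?_))
      rw [hMeq]; exact Subgroup.le_normalizer
    rw [← Nat.not_even_iff_odd, even_iff_two_dvd]
    intro hev
    obtain ⟨⟨t, ht⟩, hto⟩ := exists_prime_orderOf_dvd_card' 2 hev
    rw [Subgroup.orderOf_mk] at hto
    obtain ⟨htM, htg⟩ := Subgroup.mem_inf.1 ht
    obtain ⟨m, hm, hmt⟩ := htg
    have hz : IsPGroup 2 (Subgroup.zpowers t) :=
      IsPGroup.of_card (n := 1) (by rw [Nat.card_zpowers, hto, pow_one])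
    have ht1 : t ≠ 1 := fun e => by rw [e, orderOf_one] at hto; norm_num at hto
    have hP : ∀ (P : Sylow 2 G) (u : G), u ∈ M → orderOf u = 2 → u ∈ (P : Subgroup G) → (P : Subgroup G) ≤ M := by
      intro P u huM huo huP
      have hu : IsPGroup 2 (Subgroup.zpowers u) :=
        IsPGroup.of_card (n := 1) (by rw [Nat.card_zpowers, huo, pow_one])
      have hu1 : Subgroup.zpowers u ≠ ⊥ := by
        rw [Ne, Subgroup.zpowers_eq_bot]; rintro rfl; rw [orderOf_one] at huo; norm_num at huo
      haveI : Nontrivial (P : Subgroup G) := (Subgroup.nontrivial_iff_exists_ne_one _).2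
        ⟨u, huP, fun e => hu1 (by rw [e, Subgroup.zpowers_one_eq_bot])⟩
      haveI := P.isPGroup'.center_nontrivial
      obtain ⟨z, hz1⟩ := exists_ne (1 : Subgroup.center (P : Subgroup G))
      have hzc : ∀ x ∈ (P : Subgroup G), x ∈ Subgroup.normalizer (Subgroup.zpowers (((z : (P : Subgroup G))) : G) : Set G) := by
        intro x hx
        refine CfsgLib.PLocal.mem_normalizer_map_conj.2 ?_
        rw [MonoidHom.map_zpowers]
        congr 1
        show x * _ * x⁻¹ = _
        have e : x * ((z : (P : Subgroup G)) : G) = ((z : (P : Subgroup G)) : G) * x :=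
          congrArg Subtype.val ((Subgroup.mem_center_iff.1 z.2) ⟨x, hx⟩)
        rw [e, mul_inv_cancel_right]
      refine le_trans hzc (hloc _ _ hu hu1 (Subgroup.zpowers_le.2 huM)
        ⟨_, P.isPGroup'.to_le (Subgroup.zpowers_le.2 (z : (P : Subgroup G)).2), ?_, rfl⟩
        (Subgroup.zpowers_le.2 (hzc u huP)))
      rw [Ne, Subgroup.zpowers_eq_bot]
      exact fun e => hz1 (Subtype.ext (Subtype.ext e))
    obtain ⟨P, htP⟩ := hz.exists_le_sylow
    have hPM := hP P t htM hto (htP (Subgroup.mem_zpowers t))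
    have hQM : ((g⁻¹ • P : Sylow 2 G) : Subgroup G) ≤ M := by
      refine hP _ m hm ?_ ?_
      · rw [← hto, ← hmt]; exact (MulEquiv.orderOf_eq (MulAut.conj g) m).symm
      · rw [Sylow.coe_subgroup_smul]
        exact ⟨t, htP (Subgroup.mem_zpowers t), by rw [← hmt]; simp [mul_assoc]⟩
    obtain ⟨k, hk⟩ := MulAction.exists_smul_eq M (P.subtype hPM) ((g⁻¹ • P).subtype hQM)
    rw [Sylow.smul_subtype hPM k] at hk
    have hk' := Sylow.subtype_injective hk
    have hNM : g * (k : G) ∈ M := by
      have h1 : g * (k : G) ∈ Subgroup.normalizer ((P : Subgroup G) : Set G) := by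
        refine Sylow.smul_eq_iff_mem_normalizer.1 ?_
        rw [mul_smul, show (k : G) • P = g⁻¹ • P from hk', smul_inv_smul]
      refine hloc _ _ hz (by rwa [Ne, Subgroup.zpowers_eq_bot]) (Subgroup.zpowers_le.2 htM)
        ⟨_, P.isPGroup', ?_, rfl⟩ (htP.trans Subgroup.le_normalizer) h1
      exact fun e => ht1 (by simpa [e] using htP (Subgroup.mem_zpowers t))
    exact hg ((M.mul_mem_cancel_right k.2).1 hNM)

end Cfsg.Agent.S2947
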