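import Cfsg.Statements.S4201
import Cfsg.Agent.Lib.StructC.ClassCount

set_option autoImplicit false
open Cfsg

namespace Cfsg.Agent.S4201

/-- If N is a normal subgroup of the finite group X then k(X) ≤ k(N)·k(X ⧸ N), where k denotes the number of conjugacy classes. -/
theorem result {X : Type*} [Group X] [Finite X] (N : Subgroup X) [N.Normal] : Nat.card (ConjClasses X) ≤ Nat.card (ConjClasses N) * Nat.card (ConjClasses (X ⧸ N)) := by
  classical
  have := Fintype.ofFinite X
  let f : X ⧸ N → ℕ := fun q => Nat.card (Subgroup.centralizer ({q} : Set (X ⧸ N)))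
  let d : X → ℕ := fun x => Nat.card ↥(Subgroup.centralizer ({x} : Set X) ⊓ N)
  have hstep : ∀ x : X, Nat.card (Subgroup.centralizer ({x} : Set X)) ≤ d x * f x := by
    intro x
    set C := Subgroup.centralizer ({x} : Set X)
    let φ : C →* X ⧸ N := (QuotientGroup.mk' N).comp C.subtype
    have hker : Nat.card φ.ker = d x := Nat.card_congr
      { toFun := fun z => ⟨z.1.1, z.1.2, (QuotientGroup.eq_one_iff _).mp (show φ z.1 = 1 from z.2)⟩
        invFun := fun z => ⟨⟨z.1, z.2.1⟩, (QuotientGroup.eq_one_iff _).mpr z.2.2⟩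
        left_inv := fun z => rfl
        right_inv := fun z => rfl }
    have hrange : φ.range ≤ Subgroup.centralizer ({(x : X ⧸ N)} : Set (X ⧸ N)) := by
      rintro _ ⟨z, rfl⟩
      refine Subgroup.mem_centralizer_singleton_iff.mpr ?_
      exact congrArg (QuotientGroup.mk' N) (Subgroup.mem_centralizer_singleton_iff.mp z.2)
    rw [← φ.ker.card_mul_index, hker, Subgroup.index_ker]
    exact Nat.mul_le_mul_left _ (Subgroup.card_le_of_le hrange)
  have h1 : ∑ x : X, d x * f x = ∑ n : N, ∑ z : Subgroup.centralizer ({(n : X)} : Set X), f (z : X) := by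
    have : ∀ x : X, d x * f x = ∑ z : ↥(Subgroup.centralizer ({x} : Set X) ⊓ N), f x := by
      intro x; simp [d, Nat.card_eq_fintype_card]
    simp only [this]
    rw [Finset.sum_sigma', Finset.sum_sigma']
    refine Finset.sum_bij' (fun p _ => ⟨⟨p.2.1, p.2.2.2⟩, p.1, Subgroup.mem_centralizer_singleton_iff.mpr
        (Subgroup.mem_centralizer_singleton_iff.mp p.2.2.1).symm⟩)
      (fun p _ => ⟨p.2.1, p.1.1, Subgroup.mem_centralizer_singleton_iff.mpr
        (Subgroup.mem_centralizer_singleton_iff.mp p.2.2).symm, p.1.2⟩) ?_ ?_ ?_ ?_ ?_ <;> simp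
  have h2 : ∀ n : N, ∑ z : Subgroup.centralizer ({(n : X)} : Set X), f (z : X) ≤
      Nat.card ↥(Subgroup.centralizer ({(n : X)} : Set X) ⊓ N) * ∑ q, f q := by
    intro n
    set C := Subgroup.centralizer ({(n : X)} : Set X)
    rw [← Finset.sum_fiberwise Finset.univ (fun z : C => ((z : X) : X ⧸ N)), Finset.mul_sum]
    refine Finset.sum_le_sum fun q _ => ?_
    rw [Finset.sum_congr rfl (g := fun _ => f q) (fun z hz => by rw [(Finset.mem_filter.mp hz).2]),
      Finset.sum_const, smul_eq_mul]
    refine Nat.mul_le_mul_right _ ?_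
    rcases (Finset.univ.filter (fun z : C => ((z : X) : X ⧸ N) = q)).eq_empty_or_nonempty with he | ⟨z0, hz0⟩
    · simp [he]
    · rw [Nat.card_eq_fintype_card, ← Finset.card_univ]
      have hzero : ((z0 : X) : X ⧸ N) = q := (Finset.mem_filter.mp hz0).2
      let g : {z : C // ((z : X) : X ⧸ N) = q} → ↥(C ⊓ N) := fun z => ⟨(z0 : X)⁻¹ * z.1,
        C.mul_mem (C.inv_mem z0.2) z.1.2, QuotientGroup.eq.mp (hzero.trans z.2.symm)⟩
      have hg : Function.Injective g := fun a b hab => by
        have := congrArg Subtype.val hab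
        exact Subtype.ext (Subtype.ext (mul_left_cancel this))
      have := Fintype.card_le_of_injective g hg
      simpa [Fintype.card_subtype] using this
  have h3 := (Finset.sum_le_sum fun x _ => hstep x).trans (h1.le.trans (Finset.sum_le_sum fun n _ => h2 n))
  rw [CfsgLib.StructC.sum_card_centralizer X, ← Finset.sum_mul, CfsgLib.StructC.sum_card_centralizer (X ⧸ N),
    ← Finset.sum_congr rfl (fun n _ => CfsgLib.StructC.card_centralizer_subgroup N n),
    CfsgLib.StructC.sum_card_centralizer N, N.card_eq_card_quotient_mul_card_subgroup] at h3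
  exact Nat.le_of_mul_le_mul_right (h3.trans (le_of_eq (show _ = Nat.card (ConjClasses N) * Nat.card (ConjClasses (X ⧸ N)) * (Nat.card (X ⧸ N) * Nat.card N) by ring))) (Nat.mul_pos Nat.card_pos Nat.card_pos)

end Cfsg.Agent.S4201
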