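import Cfsg.Statements.S0857
import Cfsg.Agent.Lib.Clifford.AbelianQuot
import Cfsg.Agent.Lib.Clifford.Constituents
import Cfsg.Agent.Lib.Char.Linear
import Cfsg.Agent.Lib.Char.Inner

set_option autoImplicit false
open Cfsg

namespace Cfsg.Agent.S0857

open CfsgLib.Clifford CfsgLib.Char in
/-- The trichotomy inside `K`, relative to a group of automorphisms with no invariant subgroup
strictly between `L` and the whole group. -/
theorem trichotomy {K : Type*} [Group K] [Fintype K] {ι : Type*} (σ : ι → K ≃* K) (L : Subgroup K)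
    [L.Normal] [Fintype L] (hL : ∀ i, ∀ x ∈ L, σ i x ∈ L)
    (hchief : ∀ M : Subgroup K, M.Normal → L ≤ M → (∀ i, ∀ x ∈ M, σ i x ∈ M) → M = L ∨ M = ⊤)
    (hab : ∀ x y : K, x * y * x⁻¹ * y⁻¹ ∈ L) (ϑ : K → ℂ) (hϑ : Cfsg.IsIrrCharacter K ϑ)
    (hinv : ∀ i x, ϑ (σ i x) = ϑ x) :
    Cfsg.IsIrrCharacter L (fun x : L => ϑ x) ∨
      (∃ (φ : L → ℂ) (e : ℕ), Cfsg.IsIrrCharacter L φ ∧ (fun x : L => ϑ x) = (e : ℂ) • φ ∧
        e ^ 2 = L.index) ∨
      (∃ F : Finset (L → ℂ), (∀ φ ∈ F, Cfsg.IsIrrCharacter L φ) ∧ F.card = L.index ∧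
        (fun x : L => ϑ x) = ∑ φ ∈ F, φ) := by
  classical
  obtain ⟨φ, hφ, hcon⟩ := exists_irr_constituent_restrict (N := L) hϑ
  set T := inertia (G := K) φ with hT
  have hmemT : ∀ x, x ∈ T ↔ conjFn x φ = φ := fun x => mem_inertia_iff_conjFn
  have hLT : L ≤ T := le_inertia (irr_isClassFunction hφ)
  have hTn : T.Normal := ⟨fun x hx y => by
    have h1 := T.mul_mem (hLT (hab y x)) hx
    simpa using h1⟩
  -- the inertia group is invariant
  have hTσ : ∀ i, ∀ x ∈ T, σ i x ∈ T := by
    intro i
    let f : L →* L := MonoidHom.mk' (fun x => ⟨σ i x, hL i x x.2⟩) fun a b => Subtype.ext (by simp)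
    have hfs : Function.Surjective f := (Finite.injective_iff_surjective).mp fun a b h =>
      Subtype.ext ((σ i).injective (congr_arg Subtype.val h :))
    have hφf : Cfsg.IsIrrCharacter L (φ ∘ f) := isIrrCharacter_comp_surjective hφ f hfs
    have hconf : Cfsg.classInner (fun x : L => ϑ x) (φ ∘ f) ≠ 0 := by
      have e : Cfsg.classInner (fun x : L => ϑ x) (φ ∘ f) = Cfsg.classInner (fun x : L => ϑ x) φ := by
        rw [classInner_def, classInner_def]
        congr 1
        refine Fintype.sum_bijective f ((Finite.surjective_iff_bijective).mp hfs) _ _ fun x => ?_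
        show ϑ x * _ = ϑ (σ i x) * _
        rw [hinv]; rfl
      rwa [e]
    obtain ⟨g, hg⟩ := exists_conj_of_constituents hϑ hφ hφf hcon hconf
    intro x hx
    -- `x ∈ T` fixes `φ ∘ f` as well, `T` being normal
    have h1 : conjFn x (φ ∘ f) = φ ∘ f := by
      rw [← hg, conjFn_conjFn]
      have h2 : g * x = (g * x * g⁻¹) * g := by group
      rw [h2, ← conjFn_conjFn, (hmemT _).mp (hTn.conj_mem x hx g)]
    refine (hmemT _).mpr (funext fun m => ?_)
    obtain ⟨m', rfl⟩ := hfs m
    have h3 := congr_fun h1 m'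
    simp only [Function.comp_apply, conjFn_apply] at h3 ⊢
    refine Eq.trans (congr_arg φ (Subtype.ext ?_)) h3
    simp [f]
  rcases hchief T hTn hLT hTσ with hcase | hcase
  · -- induced case
    refine Or.inr (Or.inr ?_)
    have hirr : Cfsg.IsIrrCharacter K (Cfsg.indFun L φ) := by
      refine isIrrCharacter_of_classInner_self (isCharacter_indFun L (irr_isCharacter hφ)) ?_
      rw [classInner_indFun_indFun hφ hφ, Nat.card_congr (Equiv.subtypeEquivRight fun x =>
        ((hmemT x).symm.trans (by rw [hcase]) : conjFn x φ = φ ↔ x ∈ L))]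
      exact inv_mul_cancel₀ (Nat.cast_ne_zero.mpr Nat.card_pos.ne')
    have heq : ϑ = Cfsg.indFun L φ := by
      by_contra hne
      apply hcon
      have h1 : Cfsg.classInner (Cfsg.indFun L φ) ϑ = 0 :=
        irr_classInner_ne hirr hϑ (Ne.symm hne)
      rw [frobenius_reciprocity L φ ϑ (irr_isClassFunction hϑ)] at h1
      rw [← classInner_conj_symm, h1, map_zero]
    have hfib : ∀ ψ ∈ (Finset.univ : Finset K).image (fun x => conjFn x φ),
        (Finset.univ.filter fun x => conjFn x φ = ψ).card = Nat.card L := by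
      intro ψ hψ
      obtain ⟨y, -, rfl⟩ := Finset.mem_image.mp hψ
      rw [← Nat.card_eq_finsetCard]
      refine Nat.card_congr ?_
      have hiff : ∀ x, conjFn x φ = conjFn y φ ↔ x * y⁻¹ ∈ L := fun x => by
        refine Iff.trans ?_ (SetLike.ext_iff.mp hcase _)
        rw [hmemT, ← conjFn_conjFn]
        exact ⟨fun h => by rw [h, conjFn_conjFn, mul_inv_cancel, conjFn_one], fun h => by
          conv_rhs => rw [← h, conjFn_conjFn, conjFn_conjFn, inv_mul_cancel, mul_one]⟩
      exact
        { toFun := fun x => ⟨x.1 * y⁻¹, (hiff _).mp (Finset.mem_filter.mp x.2).2⟩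
          invFun := fun l => ⟨(l : K) * y, Finset.mem_filter.mpr ⟨Finset.mem_univ _,
            (hiff _).mpr (by simp)⟩⟩
          left_inv := fun x => Subtype.ext (by simp)
          right_inv := fun l => Subtype.ext (by simp) }
    refine ⟨(Finset.univ : Finset K).image (fun x => conjFn x φ), fun ψ hψ => ?_, ?_, ?_⟩
    · obtain ⟨y, -, rfl⟩ := Finset.mem_image.mp hψ
      exact isIrrCharacter_conjFn hφ y
    · have h1 := Finset.card_eq_sum_card_image (fun x => conjFn x φ) (Finset.univ : Finset K)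
      rw [Finset.sum_congr rfl hfib, Finset.sum_const, smul_eq_mul, Finset.card_univ,
        ← Nat.card_eq_fintype_card, ← L.index_mul_card] at h1
      exact (Nat.eq_of_mul_eq_mul_right Nat.card_pos h1).symm
    · rw [heq, indFun_restrict, Finset.sum_comp (f := fun ψ => ψ) (g := fun x => conjFn x φ),
        Finset.sum_congr rfl fun ψ hψ => congr_arg (· • ψ) (hfib ψ hψ), Finset.smul_sum]
      refine Finset.sum_congr rfl fun ψ _ => ?_
      rw [← Nat.cast_smul_eq_nsmul ℂ, smul_smul,
        inv_mul_cancel₀ (Nat.cast_ne_zero.mpr Nat.card_pos.ne'), one_smul]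
  · -- invariant case
    have hinvφ : ∀ g, conjFn g φ = φ := fun g => (hmemT g).mp (hcase ▸ Subgroup.mem_top g)
    obtain ⟨e, C, hepos, hC, hcard, -, hall⟩ := indFun_decomp_abelian_quot hab hφ hinvφ
    have hres : (fun x : L => ϑ x) = (e : ℂ) • φ := by
      rw [restrict_eq_smul_of_invariant hϑ hφ hinvφ hcon, (hC ϑ (hall ϑ hϑ hcon)).2.2]
    let Λ : Set (K →* ℂˣ) := {lam | (∀ n : L, lam n = 1) ∧ ∀ x, (lam x : ℂ) * ϑ x = ϑ x}
    let M : Subgroup K := ⨅ lam ∈ Λ, lam.ker
    have hmemM : ∀ x, x ∈ M ↔ ∀ lam ∈ Λ, lam x = 1 := fun x => by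
      simp [M, Subgroup.mem_iInf]
    have hMn : M.Normal := ⟨fun x hx y => (hmemM _).mpr fun lam hl => by
      rw [map_mul, map_mul, (hmemM x).mp hx lam hl, mul_one, map_inv, mul_inv_cancel]⟩
    have hLM : L ≤ M := fun x hx => (hmemM x).mpr fun lam hl => hl.1 ⟨x, hx⟩
    have hMσ : ∀ i, ∀ x ∈ M, σ i x ∈ M := fun i x hx => (hmemM _).mpr fun lam hl => by
      refine (hmemM x).mp hx (lam.comp (σ i).toMonoidHom) ⟨fun n => hl.1 ⟨_, hL i n n.2⟩, fun y => ?_⟩
      show (lam (σ i y) : ℂ) * ϑ y = ϑ y
      rw [← hinv i y]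
      exact hl.2 _
    rcases hchief M hMn hLM hMσ with hM | hM
    · -- fully ramified
      refine Or.inr (Or.inl ⟨φ, e, hφ, hres, ?_⟩)
      have hzero : ∀ x, x ∉ L → ϑ x = 0 := by
        intro x hx
        rw [← hM, hmemM] at hx
        push Not at hx
        obtain ⟨lam, hl, hne⟩ := hx
        have h1 := hl.2 x
        by_contra h0
        exact hne (Units.ext (mul_left_eq_self₀.mp h1 |>.resolve_right h0))
      have h1 := irr_classInner_self hϑ
      have h2 : Cfsg.classInner (fun x : L => ϑ x) (fun x : L => ϑ x) = (e : ℂ) * e := by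
        rw [hres, classInner_smul_left, classInner_smul_right, irr_classInner_self hφ]
        simp
      rw [classInner_def, ← Finset.sum_subset (Finset.subset_univ
          (Finset.univ.filter fun x => x ∈ L)) fun x _ hx => by
            rw [hzero x fun h => hx (Finset.mem_filter.mpr ⟨Finset.mem_univ _, h⟩), zero_mul],
        Finset.sum_subtype _ (p := fun x => x ∈ L) fun x => by simp] at h1
      rw [classInner_def] at h2
      have hLne : (Nat.card L : ℂ) ≠ 0 := Nat.cast_ne_zero.mpr Nat.card_pos.ne'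
      rw [inv_mul_eq_iff_eq_mul₀ hLne] at h2
      rw [inv_mul_eq_iff_eq_mul₀ (Nat.cast_ne_zero.mpr Nat.card_pos.ne'), mul_one, h2,
        ← L.index_mul_card, Nat.cast_mul, mul_comm (L.index : ℂ)] at h1
      have h3 := mul_left_cancel₀ hLne h1
      exact_mod_cast (sq (e : ℂ)).trans h3
    · -- irreducible restriction
      refine Or.inl ?_
      have hcomm : ∀ a b : K ⧸ L, a * b = b * a := by
        intro a b
        obtain ⟨a, rfl⟩ := QuotientGroup.mk_surjective a
        obtain ⟨b, rfl⟩ := QuotientGroup.mk_surjective b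
        rw [← QuotientGroup.mk_mul, ← QuotientGroup.mk_mul, QuotientGroup.eq]
        simpa [mul_assoc] using hab b⁻¹ a⁻¹
      have hq : Nat.card ((K ⧸ L) →* ℂˣ) = L.index := by
        rw [natCard_linear, L.index_eq_card, show commutator (K ⧸ L) = ⊥ by
          rw [commutator_eq_bot_iff_center_eq_top]
          exact (Subgroup.eq_top_iff' _).mpr fun a => Subgroup.mem_center_iff.mpr fun b => hcomm b a,
          Subgroup.index_bot]
      have hle : L.index ≤ C.card := by
        rw [← hq, ← Nat.card_eq_finsetCard]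
        have hmem : ∀ μ : (K ⧸ L) →* ℂˣ,
            (fun x => ((μ.comp (QuotientGroup.mk' L)) x : ℂ) * ϑ x) ∈ C := by
          intro μ
          refine hall _ (isIrrCharacter_mul_linear hϑ _) ?_
          convert hcon using 2
          funext x
          simp [(QuotientGroup.eq_one_iff (x : K)).mpr x.2]
        refine Nat.card_le_card_of_injective (fun μ => ⟨_, hmem μ⟩) fun μ ν h => ?_
        have h1 : ∀ x : K, ((μ (x : K ⧸ L)) : ℂ) * ϑ x = (ν (x : K ⧸ L) : ℂ) * ϑ x :=
          fun x => congr_fun (congr_arg Subtype.val h) x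
        have hΛ : (ν⁻¹ * μ).comp (QuotientGroup.mk' L) ∈ Λ := by
          refine ⟨fun n => ?_, fun x => ?_⟩
          · simp [(QuotientGroup.eq_one_iff (n : K)).mpr n.2]
          · simp only [MonoidHom.comp_apply, QuotientGroup.mk'_apply, MonoidHom.mul_apply,
              MonoidHom.inv_apply, Units.val_mul, mul_assoc, h1 x]
            rw [← mul_assoc, ← Units.val_mul, inv_mul_cancel, Units.val_one, one_mul]
        refine MonoidHom.ext fun a => ?_
        obtain ⟨x, rfl⟩ := QuotientGroup.mk_surjective a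
        have h2 := (hmemM x).mp (hM ▸ Subgroup.mem_top x) _ hΛ
        simpa [inv_mul_eq_one] using h2 |> fun h => (by simpa [inv_mul_eq_one] using h : ν (x : K ⧸ L) = μ x).symm
      have he1 : e = 1 := by
        have hi : 0 < L.index := Nat.pos_of_ne_zero L.index_ne_zero_of_finite
        have hC0 : 0 < C.card := lt_of_lt_of_le hi hle
        have h4 : e ^ 2 * C.card ≤ 1 * C.card := by rw [hcard, one_mul]; exact hle
        have h5 := Nat.le_of_mul_le_mul_right h4 hC0
        nlinarith
      rw [hres, he1, Nat.cast_one, one_smul]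
      exact hφ

/-- Let L < K be normal subgroups of the finite group G with no normal subgroup of G strictly between them and with K / L abelian (the commutator subgroup of K lies in L). Let ϑ be an irreducible character of K invariant under conjugation by G. Then the restriction of ϑ to L is irreducible; or it equals e times an irreducible character of L with e ^ 2 equal to the index of L in K; or it is the sum of a family of pairwise distinct irreducible characters of L indexed by a set whose size is the index of L in K. -/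
theorem result {G : Type*} [Group G] [Fintype G] (K L : Subgroup G) [hK : K.Normal] [L.Normal] (hLK : L < K) (hchief : ∀ M : Subgroup G, M.Normal → L ≤ M → M ≤ K → M = L ∨ M = K) (hab : ⁅K, K⁆ ≤ L) (ϑ : K → ℂ) (hϑ : Cfsg.IsIrrCharacter K ϑ) (hinv : ∀ (g : G) (n : K), ϑ ⟨g * n * g⁻¹, hK.conj_mem (n : G) n.2 g⟩ = ϑ n) : Cfsg.IsIrrCharacter L (fun x : L => ϑ ⟨(x : G), hLK.le x.2⟩) ∨ (∃ (φ : L → ℂ) (e : ℕ), Cfsg.IsIrrCharacter L φ ∧ (fun x : L => ϑ ⟨(x : G), hLK.le x.2⟩) = (e : ℂ) • φ ∧ e ^ 2 = L.relIndex K) ∨ (∃ F : Finset (L → ℂ), (∀ φ ∈ F, Cfsg.IsIrrCharacter L φ) ∧ F.card = L.relIndex K ∧ (fun x : L => ϑ ⟨(x : G), hLK.le x.2⟩) = ∑ φ ∈ F, φ) := by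
  classical
  have : Fintype K := Fintype.ofFinite K
  let L' : Subgroup K := L.subgroupOf K
  have : L'.Normal := inferInstanceAs (L.subgroupOf K).Normal
  have : Fintype L' := Fintype.ofFinite L'
  let σ : G → K ≃* K := fun g => (MulAut.conjNormal g : MulAut K)
  have hσ : ∀ g, ∀ x : K, ((σ g x : K) : G) = g * x * g⁻¹ := fun g x => by simp [σ]
  have hL' : ∀ g, ∀ x ∈ L', σ g x ∈ L' := fun g x hx => by
    rw [Subgroup.mem_subgroupOf, hσ]
    exact (inferInstance : L.Normal).conj_mem _ hx g
  have hch : ∀ M : Subgroup K, M.Normal → L' ≤ M → (∀ g, ∀ x ∈ M, σ g x ∈ M) → M = L' ∨ M = ⊤ := by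
    intro M _ hLM hMσ
    have hn : (M.map K.subtype).Normal := ⟨by
      rintro _ ⟨x, hx, rfl⟩ g
      exact ⟨σ g x, hMσ g x hx, hσ g x⟩⟩
    have hle : L ≤ M.map K.subtype := fun x hx => ⟨⟨x, hLK.le hx⟩, hLM hx, rfl⟩
    rcases hchief _ hn hle (Subgroup.map_subtype_le M) with h | h
    · left
      rw [← Subgroup.comap_map_eq_self_of_injective K.subtype_injective M, h]
      rfl
    · right
      rw [← Subgroup.comap_map_eq_self_of_injective K.subtype_injective M, h]
      exact Subgroup.subgroupOf_self K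
  have habK : ∀ x y : K, x * y * x⁻¹ * y⁻¹ ∈ L' := fun x y => by
    rw [Subgroup.mem_subgroupOf]
    exact hab (Subgroup.commutator_mem_commutator x.2 y.2)
  let e : L ≃* L' := (Subgroup.subgroupOfEquivOfLe hLK.le).symm
  have hidx : L'.index = L.relIndex K := rfl
  rcases trichotomy σ L' hL' hch habK ϑ hϑ (fun g x => (congr_arg ϑ (Subtype.ext (hσ g x))).trans
    (hinv g x)) with h | ⟨φ, n, hφ, hr, hn⟩ | ⟨F, hF, hc, hr⟩
  · exact Or.inl (CfsgLib.Char.isIrrCharacter_comp_surjective h e.toMonoidHom e.surjective)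
  · refine Or.inr (Or.inl ⟨φ ∘ e, n, CfsgLib.Char.isIrrCharacter_comp_surjective hφ e.toMonoidHom
      e.surjective, funext fun x => congr_fun hr (e x), hidx ▸ hn⟩)
  · refine Or.inr (Or.inr ⟨F.image (fun φ => φ ∘ e), fun ψ hψ => ?_, ?_, ?_⟩)
    · obtain ⟨φ, hφ, rfl⟩ := Finset.mem_image.mp hψ
      exact CfsgLib.Char.isIrrCharacter_comp_surjective (hF φ hφ) e.toMonoidHom e.surjective
    · rw [Finset.card_image_of_injective _ e.surjective.injective_comp_right, hc, hidx]
    · rw [Finset.sum_image e.surjective.injective_comp_right.injOn]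
      funext x
      have := congr_fun hr (e x)
      simp only [Finset.sum_apply, Function.comp_apply] at this ⊢
      exact this

end Cfsg.Agent.S0857
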