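import Cfsg.Statements.S1531
import Cfsg.Agent.Lib.Clifford.Coherence

set_option autoImplicit false
open Cfsg

namespace Cfsg.Agent.S1531

open CfsgLib.Clifford.Coh

/-- Let N be a subgroup of the finite group G, S a set of irreducible characters of N, and α a linear isometry on the integer combinations of S vanishing at 1 with values virtual characters of G vanishing at 1. Let X, Y ⊆ S be disjoint, each with at least two members, and σ, τ linear isometries on ℤ[X], ℤ[Y] into virtual characters agreeing with α on the members vanishing at 1. Then ⟨σ χ, τ η⟩ = 0 for χ ∈ X, η ∈ Y; and if for some χ₀ ∈ X, η₀ ∈ Y with degrees c = χ₀ 1, e = η₀ 1 one has α (c • η₀ − e • χ₀) = c • τ η₀ − e • σ χ₀, then (X ∪ Y, N minus 1, α) is coherent. -/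
theorem result {G : Type*} [Group G] [Fintype G] (N : Subgroup G) [Fintype N] (S X Y : Set (N → ℂ)) (hirr : ∀ ξ ∈ S, Cfsg.IsIrrCharacter N ξ) (hXS : X ⊆ S) (hYS : Y ⊆ S) (hXY : Disjoint X Y) (hX2 : ∃ a ∈ X, ∃ b ∈ X, a ≠ b) (hY2 : ∃ a ∈ Y, ∃ b ∈ Y, a ≠ b) (α : (N → ℂ) → (G → ℂ)) (hα : Cfsg.IsLinearIsometryOn (Cfsg.zspanOn S {1}ᶜ) α) (hα1 : ∀ θ ∈ Cfsg.zspanOn S {1}ᶜ, α θ 1 = 0) (σ τ : (N → ℂ) → (G → ℂ)) (hσ : Cfsg.IsLinearIsometryOn (Cfsg.zspan X) σ) (hσα : ∀ θ ∈ Cfsg.zspanOn X {1}ᶜ, σ θ = α θ) (hτ : Cfsg.IsLinearIsometryOn (Cfsg.zspan Y) τ) (hτα : ∀ θ ∈ Cfsg.zspanOn Y {1}ᶜ, τ θ = α θ) : (∀ χ ∈ X, ∀ η ∈ Y, Cfsg.classInner (σ χ) (τ η) = 0) ∧ ((∃ χ₀ ∈ X, ∃ η₀ ∈ Y, α (χ₀ 1 • η₀ - η₀ 1 • χ₀) = χ₀ 1 • τ η₀ - η₀ 1 • σ χ₀) → Cfsg.IsCoherent (X ∪ Y) {1}ᶜ α) := by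
  classical
  have hself : ∀ ξ ∈ S, Cfsg.classInner ξ ξ = 1 := fun ξ h =>
    CfsgLib.Char.irr_classInner_self (hirr ξ h)
  have horth : ∀ x ∈ S, ∀ y ∈ S, x ≠ y → Cfsg.classInner x y = 0 := fun x hx y hy h =>
    CfsgLib.Char.irr_classInner_ne (hirr x hx) (hirr y hy) h
  choose! d hdpos hd using fun ξ (h : ξ ∈ S) => CfsgLib.Char.irr_apply_one_pos (hirr ξ h)
  have hiσ : ∀ {u : N → ℂ}, u ∈ X → u ∈ Cfsg.zspan X := fun h => mem_zspan_of_mem h
  have hiτ : ∀ {u : N → ℂ}, u ∈ Y → u ∈ Cfsg.zspan Y := fun h => mem_zspan_of_mem h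
  have hxm : ∀ u ∈ X, ∀ v ∈ X, (d u : ℤ) • v - (d v : ℤ) • u ∈ Cfsg.zspanOn X ({1}ᶜ : Set N) :=
    fun u hu v hv => mem_zspanOn_compl.mpr ⟨Submodule.sub_mem _ (Submodule.smul_mem _ _ (hiσ hv))
      (Submodule.smul_mem _ _ (hiσ hu)), by simp [hd u (hXS hu), hd v (hXS hv), mul_comm]⟩
  have hym : ∀ u ∈ Y, ∀ v ∈ Y, (d u : ℤ) • v - (d v : ℤ) • u ∈ Cfsg.zspanOn Y ({1}ᶜ : Set N) :=
    fun u hu v hv => mem_zspanOn_compl.mpr ⟨Submodule.sub_mem _ (Submodule.smul_mem _ _ (hiτ hv))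
      (Submodule.smul_mem _ _ (hiτ hu)), by simp [hd u (hYS hu), hd v (hYS hv), mul_comm]⟩
  have hne : ∀ x ∈ X, ∀ y ∈ Y, Cfsg.classInner x y = 0 := fun x hx y hy =>
    horth x (hXS hx) y (hYS hy) fun h => Set.disjoint_left.mp hXY hx (h ▸ hy)
  have hσd : ∀ u ∈ X, ∀ v ∈ X, (d u : ℂ) * σ v 1 = (d v : ℂ) * σ u 1 := by
    intro u hu v hv
    have hm := hxm u hu v hv
    have h := congr_fun (hσα _ hm) 1
    rw [iso_zspan_sub hσ (Submodule.smul_mem _ _ (hiσ hv)) (Submodule.smul_mem _ _ (hiσ hu)),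
      hσ.2.1 _ (hiσ hv), hσ.2.1 _ (hiσ hu), hα1 _ (zspanOn_mono hXS hm)] at h
    simpa [sub_eq_zero] using h
  have hτd : ∀ u ∈ Y, ∀ v ∈ Y, (d u : ℂ) * τ v 1 = (d v : ℂ) * τ u 1 := by
    intro u hu v hv
    have hm := hym u hu v hv
    have h := congr_fun (hτα _ hm) 1
    rw [iso_zspan_sub hτ (Submodule.smul_mem _ _ (hiτ hv)) (Submodule.smul_mem _ _ (hiτ hu)),
      hτ.2.1 _ (hiτ hv), hτ.2.1 _ (hiτ hu), hα1 _ (zspanOn_mono hYS hm)] at h
    simpa [sub_eq_zero] using h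
  have hnσ : ∀ u ∈ X, Cfsg.classInner (σ u) (σ u) = 1 := fun u hu => by
    rw [hσ.2.2.1 _ (hiσ hu) _ (hiσ hu), hself u (hXS hu)]
  have hnτ : ∀ u ∈ Y, Cfsg.classInner (τ u) (τ u) = 1 := fun u hu => by
    rw [hτ.2.2.1 _ (hiτ hu) _ (hiτ hu), hself u (hYS hu)]
  have hpart1 : ∀ x ∈ X, ∀ y ∈ Y, Cfsg.classInner (σ x) (τ y) = 0 := by
    intro x hx y hy
    by_contra hne0
    obtain ⟨x', hx', hxx⟩ : ∃ x' ∈ X, x' ≠ x := by
      obtain ⟨a, ha, b, hb, hab⟩ := hX2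
      rcases eq_or_ne a x with rfl | h
      exacts [⟨b, hb, hab.symm⟩, ⟨a, ha, h⟩]
    obtain ⟨y', hy', hyy⟩ : ∃ y' ∈ Y, y' ≠ y := by
      obtain ⟨a, ha, b, hb, hab⟩ := hY2
      rcases eq_or_ne a y with rfl | h
      exacts [⟨b, hb, hab.symm⟩, ⟨a, ha, h⟩]
    have hprop : ∀ u v : G → ℂ, Cfsg.IsGeneralizedCharacter G u → Cfsg.IsGeneralizedCharacter G v →
        Cfsg.classInner u u = 1 → Cfsg.classInner v v = 1 → Cfsg.classInner u v ≠ 0 →
        u = v ∨ u = -v := by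
      intro u v hu hv hu1 hv1 huv
      rcases CfsgLib.Char.isGeneralized_norm_one hu hu1 with h | h <;>
        rcases CfsgLib.Char.isGeneralized_norm_one hv hv1 with h' | h'
      · exact Or.inl (by_contra fun e => huv (CfsgLib.Char.irr_classInner_ne h h' e))
      · refine Or.inr (by_contra fun e => huv ?_)
        have := CfsgLib.Char.irr_classInner_ne h h' e
        rwa [show -v = (-1 : ℂ) • v by simp, CfsgLib.Char.classInner_smul_right, map_neg, map_one,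
          neg_one_mul, neg_eq_zero] at this
      · refine Or.inr (by_contra fun e => huv ?_)
        have := CfsgLib.Char.irr_classInner_ne h h' fun e' => e (by rw [← e', neg_neg])
        rwa [show -u = (-1 : ℂ) • u by simp, CfsgLib.Char.classInner_smul_left,
          neg_one_mul, neg_eq_zero] at this
      · refine Or.inl (by_contra fun e => huv ?_)
        have := CfsgLib.Char.irr_classInner_ne h h' fun e' => e (neg_injective e')
        rwa [show -u = (-1 : ℂ) • u by simp, show -v = (-1 : ℂ) • v by simp,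
          CfsgLib.Char.classInner_smul_left, CfsgLib.Char.classInner_smul_right, map_neg, map_one,
          neg_one_mul, neg_one_mul, neg_neg] at this
    have hgσ : ∀ u ∈ X, Cfsg.IsGeneralizedCharacter G (σ u) := fun u hu => hσ.2.2.2 _ (hiσ hu)
    have hgτ : ∀ u ∈ Y, Cfsg.IsGeneralizedCharacter G (τ u) := fun u hu => hτ.2.2.2 _ (hiτ hu)
    -- the inner product of the two degree zero combinations
    have h0 : (d x : ℂ) * d y * Cfsg.classInner (σ x') (τ y') -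
        (d x : ℂ) * d y' * Cfsg.classInner (σ x') (τ y) -
        (d x' : ℂ) * d y * Cfsg.classInner (σ x) (τ y') +
        (d x' : ℂ) * d y' * Cfsg.classInner (σ x) (τ y) = 0 := by
      have hm := hxm x hx x' hx'
      have hm' := hym y hy y' hy'
      have h := hα.2.2.1 _ (zspanOn_mono hXS hm) _ (zspanOn_mono hYS hm')
      rw [← hσα _ hm, ← hτα _ hm',
        iso_zspan_sub hσ (Submodule.smul_mem _ _ (hiσ hx')) (Submodule.smul_mem _ _ (hiσ hx)),
        hσ.2.1 _ (hiσ hx'), hσ.2.1 _ (hiσ hx),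
        iso_zspan_sub hτ (Submodule.smul_mem _ _ (hiτ hy')) (Submodule.smul_mem _ _ (hiτ hy)),
        hτ.2.1 _ (hiτ hy'), hτ.2.1 _ (hiτ hy)] at h
      simp only [CfsgLib.Char.classInner_sub_left, CfsgLib.Char.classInner_sub_right,
        classInner_zsmul_left, classInner_zsmul_right, hne x hx y hy, hne x hx y' hy',
        hne x' hx' y hy, hne x' hx' y' hy', mul_zero, sub_zero] at h
      push_cast at h
      linear_combination h
    have hσσ : Cfsg.classInner (σ x') (σ x) = 0 := by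
      rw [hσ.2.2.1 _ (hiσ hx') _ (hiσ hx), horth _ (hXS hx') _ (hXS hx) hxx]
    have hττ : Cfsg.classInner (τ y) (τ y') = 0 := by
      rw [hτ.2.2.1 _ (hiτ hy) _ (hiτ hy'), horth _ (hYS hy) _ (hYS hy') hyy.symm]
    obtain ⟨s, hs, hs'⟩ : ∃ s : ℂ, (s = 1 ∨ s = -1) ∧ σ x = s • τ y := by
      rcases hprop _ _ (hgσ x hx) (hgτ y hy) (hnσ x hx) (hnτ y hy) hne0 with h | h
      exacts [⟨1, Or.inl rfl, by simp [h]⟩, ⟨-1, Or.inr rfl, by simp [h]⟩]
    have hs0 : s ≠ 0 := by rcases hs with rfl | rfl <;> norm_num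
    have e1 : Cfsg.classInner (σ x') (τ y) = 0 := by
      rw [hs', CfsgLib.Char.classInner_smul_right, mul_eq_zero] at hσσ
      exact hσσ.resolve_left ((map_ne_zero _).mpr hs0)
    have e2 : Cfsg.classInner (σ x) (τ y') = 0 := by
      rw [hs', CfsgLib.Char.classInner_smul_left, hττ, mul_zero]
    have e3 : Cfsg.classInner (σ x) (τ y) = s := by
      rw [hs', CfsgLib.Char.classInner_smul_left, hnτ y hy, mul_one]
    rw [e1, e2, e3, mul_zero, mul_zero, sub_zero, sub_zero] at h0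
    have hdx' : (d x' : ℂ) * d y' ≠ 0 := mul_ne_zero
      (Nat.cast_ne_zero.mpr (hdpos _ (hXS hx')).ne') (Nat.cast_ne_zero.mpr (hdpos _ (hYS hy')).ne')
    have e4 : Cfsg.classInner (σ x') (τ y') ≠ 0 := fun h => by
      rw [h, mul_zero, zero_add] at h0
      exact mul_ne_zero hdx' hs0 h0
    obtain ⟨t, ht, ht'⟩ : ∃ t : ℂ, (t = 1 ∨ t = -1) ∧ σ x' = t • τ y' := by
      rcases hprop _ _ (hgσ x' hx') (hgτ y' hy') (hnσ x' hx') (hnτ y' hy') e4 with h | h
      exacts [⟨1, Or.inl rfl, by simp [h]⟩, ⟨-1, Or.inr rfl, by simp [h]⟩]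
    rw [ht', CfsgLib.Char.classInner_smul_left, hnτ y' hy', mul_one] at h0
    have hts : t = -s := by
      have hr : ((d x * d y : ℕ) : ℂ) * t = -(((d x' * d y' : ℕ) : ℂ) * s) := by
        push_cast; linear_combination h0
      have hp1 : 0 < d x * d y := mul_pos (hdpos _ (hXS hx)) (hdpos _ (hYS hy))
      have hp2 : 0 < d x' * d y' := mul_pos (hdpos _ (hXS hx')) (hdpos _ (hYS hy'))
      rcases hs with rfl | rfl <;> rcases ht with rfl | rfl
      · exfalso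
        rw [mul_one, mul_one, eq_neg_iff_add_eq_zero, ← Nat.cast_add, Nat.cast_eq_zero] at hr
        omega
      · rfl
      · simp
      · exfalso
        rw [mul_neg_one, mul_neg_one, neg_neg, eq_comm, eq_neg_iff_add_eq_zero, ← Nat.cast_add,
          Nat.cast_eq_zero] at hr
        omega
    have hτy : τ y 1 ≠ 0 := by
      rcases CfsgLib.Char.isGeneralized_norm_one (hgτ y hy) (hnτ y hy) with h | h
      · exact CfsgLib.Char.irr_apply_one_ne_zero h
      · simpa using CfsgLib.Char.irr_apply_one_ne_zero h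
    have hX' := hσd x hx x' hx'
    rw [hs', ht', hts, Pi.smul_apply, Pi.smul_apply, smul_eq_mul, smul_eq_mul] at hX'
    have hY' := hτd y hy y' hy'
    have : (((d x * d y' + d x' * d y : ℕ) : ℂ)) * (s * τ y 1) = 0 := by
      push_cast
      linear_combination (-(d y : ℂ)) * hX' - (d x : ℂ) * s * hY'
    rcases mul_eq_zero.mp this with h | h
    · have hp : 0 < d x * d y' := mul_pos (hdpos _ (hXS hx)) (hdpos _ (hYS hy'))
      rw [Nat.cast_eq_zero] at h
      omega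
    · exact mul_ne_zero hs0 hτy h
  refine ⟨hpart1, ?_⟩
  rintro ⟨χ₀, hχ₀, η₀, hη₀, hrel⟩
  have hXYS : X ∪ Y ⊆ S := Set.union_subset hXS hYS
  have hfin : (X ∪ Y).Finite := finite_of_orthogonal (fun a ha b hb => horth a (hXYS ha) b (hXYS hb))
    fun a ha h => CfsgLib.Char.irr_apply_one_ne_zero (hirr a (hXYS ha)) (by rw [h]; rfl)
  obtain ⟨s, hs⟩ := hfin.exists_finset_coe
  rw [← hs] at hXYS ⊢
  let f : (N → ℂ) → G → ℂ := fun u => if u ∈ X then σ u else τ u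
  have hfX : ∀ u ∈ X, f u = σ u := fun u hu => if_pos hu
  have hfY : ∀ u ∈ Y, f u = τ u := fun u hu => if_neg fun h : u ∈ X => Set.disjoint_left.mp hXY h hu
  have hmem : ∀ u ∈ s, u ∈ X ∨ u ∈ Y := fun u hu => (hs.le (Finset.mem_coe.mpr hu) : u ∈ X ∪ Y)
  refine coherent_of_images s f (fun a ha b hb => horth a (hXYS ha) b (hXYS hb))
    (fun a ha h => CfsgLib.Char.irr_apply_one_ne_zero (hirr a (hXYS ha)) (by rw [h]; rfl))
    (fun u hu => ?_) (fun u hu v hv => ?_) _ α ?_ (fun k hk => ?_)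
  · rcases hmem u hu with h | h
    · rw [hfX u h]; exact hσ.2.2.2 _ (hiσ h)
    · rw [hfY u h]; exact hτ.2.2.2 _ (hiτ h)
  · rcases hmem u hu with h | h <;> rcases hmem v hv with h' | h'
    · rw [hfX u h, hfX v h', hσ.2.2.1 _ (hiσ h) _ (hiσ h')]
    · rw [hfX u h, hfY v h', hpart1 u h v h', hne u h v h']
    · rw [hfY u h, hfX v h', ← CfsgLib.Char.classInner_conj_symm, hpart1 v h' u h,
        ← CfsgLib.Char.classInner_conj_symm v u, hne v h' u h]
    · rw [hfY u h, hfY v h', hτ.2.2.1 _ (hiτ h) _ (hiτ h')]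
  · obtain ⟨a, ha, b, hb, hab⟩ := hX2
    refine ⟨_, zspanOn_mono (hs.symm ▸ Set.subset_union_left) (hxm a ha b hb), fun h => ?_⟩
    have h2 := congr_arg (fun z => Cfsg.classInner z b) h
    simp only [CfsgLib.Char.classInner_sub_left, classInner_zsmul_left,
      CfsgLib.Char.classInner_zero_left, horth a (hXS ha) b (hXS hb) hab, hself b (hXS hb),
      mul_zero, sub_zero, mul_one] at h2
    have := hdpos a (hXS ha)
    have : d a = 0 := by exact_mod_cast h2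
    omega
  · set p := ∑ u ∈ s.filter (· ∈ X), k u • u with hp
    set q := ∑ u ∈ s.filter (fun u => ¬ u ∈ X), k u • u with hq
    have hsplit : ∑ u ∈ s, k u • u = p + q := (Finset.sum_filter_add_sum_filter_not s (· ∈ X) _).symm
    have hqY : ∀ u ∈ s.filter (fun u => ¬ u ∈ X), u ∈ Y := fun u hu =>
      (hmem u (Finset.mem_filter.mp hu).1).resolve_left (Finset.mem_filter.mp hu).2
    have hp1 : p ∈ Cfsg.zspan X := Submodule.sum_mem _ fun u hu =>
      Submodule.smul_mem _ _ (hiσ (Finset.mem_filter.mp hu).2)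
    have hq1 : q ∈ Cfsg.zspan Y := Submodule.sum_mem _ fun u hu =>
      Submodule.smul_mem _ _ (hiτ (hqY u hu))
    have hf : ∑ u ∈ s, k u • f u = σ p + τ q := by
      rw [← Finset.sum_filter_add_sum_filter_not s (· ∈ X), hp, hq,
        iso_zspan_sum hσ _ _ fun u hu => Submodule.smul_mem _ _ (hiσ (Finset.mem_filter.mp hu).2),
        iso_zspan_sum hτ _ _ fun u hu => Submodule.smul_mem _ _ (hiτ (hqY u hu))]
      congr 1
      · exact Finset.sum_congr rfl fun u hu => by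
          rw [hfX u (Finset.mem_filter.mp hu).2, hσ.2.1 _ (hiσ (Finset.mem_filter.mp hu).2)]
      · exact Finset.sum_congr rfl fun u hu => by
          rw [hfY u (hqY u hu), hτ.2.1 _ (hiτ (hqY u hu))]
    obtain ⟨m, hm⟩ : ∃ m : ℤ, q 1 = m := ⟨∑ u ∈ s.filter (fun u => ¬ u ∈ X), k u * d u, by
      rw [hq, Finset.sum_apply, Int.cast_sum]
      exact Finset.sum_congr rfl fun u hu => by simp [hd u (hYS (hqY u hu))]⟩
    have hsum1 : p 1 + q 1 = 0 := by
      have h := hk.2 1 (by simp)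
      rwa [hsplit] at h
    set c : ℤ := (d χ₀ : ℤ) with hc
    set e : ℤ := (d η₀ : ℤ) with he
    have hmY : e • q - m • η₀ ∈ Cfsg.zspanOn Y ({1}ᶜ : Set N) :=
      mem_zspanOn_compl.mpr ⟨Submodule.sub_mem _ (Submodule.smul_mem _ _ hq1)
        (Submodule.smul_mem _ _ (hiτ hη₀)), by simp [hm, hd η₀ (hYS hη₀), he, mul_comm]⟩
    have hmX : c • p + m • χ₀ ∈ Cfsg.zspanOn X ({1}ᶜ : Set N) :=
      mem_zspanOn_compl.mpr ⟨Submodule.add_mem _ (Submodule.smul_mem _ _ hp1)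
        (Submodule.smul_mem _ _ (hiσ hχ₀)), by
          simp only [Pi.add_apply, Pi.smul_apply, zsmul_eq_mul, Pi.mul_apply, Pi.intCast_apply,
            hd χ₀ (hXS hχ₀), hc,
            show p 1 = -(m : ℂ) by linear_combination hsum1 - hm]
          push_cast; ring⟩
    have hcross : c • η₀ - e • χ₀ ∈ Cfsg.zspanOn S ({1}ᶜ : Set N) :=
      mem_zspanOn_compl.mpr ⟨Submodule.sub_mem _ (Submodule.smul_mem _ _ (mem_zspan_of_mem (hYS hη₀)))
        (Submodule.smul_mem _ _ (mem_zspan_of_mem (hXS hχ₀))), by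
          simp [hd χ₀ (hXS hχ₀), hd η₀ (hYS hη₀), hc, he, mul_comm]⟩
    have hrel' : α (c • η₀ - e • χ₀) = c • τ η₀ - e • σ χ₀ := by
      rw [hd χ₀ (hXS hχ₀), hd η₀ (hYS hη₀)] at hrel
      simpa [hc, he, Nat.cast_smul_eq_nsmul, natCast_zsmul] using hrel
    have hkS : ∑ u ∈ s, k u • u ∈ Cfsg.zspanOn S ({1}ᶜ : Set N) := zspanOn_mono hXYS hk
    have hdec : (c * e) • (∑ u ∈ s, k u • u) =
        c • (e • q - m • η₀) + e • (c • p + m • χ₀) + m • (c • η₀ - e • χ₀) := by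
      rw [hsplit]; module
    have hA := hα.2.1 _ hkS (c * e)
    rw [hdec, hα.1 _ (zspanOn_add (zspanOn_zsmul _ (zspanOn_mono hYS hmY))
        (zspanOn_zsmul _ (zspanOn_mono hXS hmX))) _ (zspanOn_zsmul _ hcross),
      hα.1 _ (zspanOn_zsmul _ (zspanOn_mono hYS hmY)) _ (zspanOn_zsmul _ (zspanOn_mono hXS hmX)),
      hα.2.1 _ (zspanOn_mono hYS hmY), hα.2.1 _ (zspanOn_mono hXS hmX), hα.2.1 _ hcross, hrel',
      ← hτα _ hmY, ← hσα _ hmX, iso_zspan_sub hτ (Submodule.smul_mem _ _ hq1)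
        (Submodule.smul_mem _ _ (hiτ hη₀)), hσ.1 _ (Submodule.smul_mem _ _ hp1) _
        (Submodule.smul_mem _ _ (hiσ hχ₀)), hτ.2.1 _ hq1, hτ.2.1 _ (hiτ hη₀), hσ.2.1 _ hp1,
      hσ.2.1 _ (hiσ hχ₀)] at hA
    have hce : c * e ≠ 0 := by
      have := hdpos _ (hXS hχ₀); have := hdpos _ (hYS hη₀)
      exact mul_ne_zero (by omega) (by omega)
    refine smul_right_injective (G → ℂ) hce ?_
    show (c * e) • _ = (c * e) • _
    rw [← hA, hf]
    module

end Cfsg.Agent.S1531
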