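import Cfsg.Statements.S5110
import Cfsg.Agent.Lib.Fusion.LocalSaturationAut

set_option autoImplicit false
set_option linter.style.haveILetI false
open Cfsg

namespace Cfsg.Agent.S5110

/-- Saturation criterion: let F be a fusion system over a finite p-group S and H a family of subgroups of S closed under conjugacy in F, such that every conjugacy class inside H contains a fully automized receptive member, F is the smallest fusion system over S containing all its maps with source in H, and every centric subgroup outside H is conjugate in F to some P for which Aut_S(P) ∩ O_p(Aut_F(P)) is not contained in Inn(P). Then F is saturated. -/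
theorem result {Ω : Type*} [Group Ω] {S : Subgroup Ω} [Finite S] (p : ℕ) [Fact p.Prime] (hS : IsPGroup p S) (F : Cfsg.FusionSystem S) (ℋ : Set (Subgroup Ω)) (hℋS : ∀ P ∈ ℋ, P ≤ S) (hℋconj : ∀ P ∈ ℋ, ∀ Q, F.IsConj P Q → Q ∈ ℋ) (hsat : ∀ P ∈ ℋ, ∃ Q, F.IsConj P Q ∧ F.IsFullyAutomized p Q ∧ F.IsReceptive Q) (hgen : ∀ E : Cfsg.FusionSystem S, (∀ P ∈ ℋ, F.Hom P ⊆ E.Hom P) → F ≤ E) (hstar : ∀ P : Subgroup Ω, F.IsCentric P → P ∉ ℋ → ∃ Q, F.IsConj P Q ∧ ¬ (Cfsg.autInducedBy S Q ⊓ (Cfsg.pCore p ↥(F.autGroup Q)).map (F.autGroup Q).subtype ≤ Cfsg.Inn Q)) : F.IsSaturated p := by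
  suffices h : ∀ n, ∀ P ≤ S, Nat.card S ≤ Nat.card P + n → CfsgLib.Fusion.LocSat F p P from
    fun P hP => h (Nat.card S) P hP (by omega)
  intro n
  induction n using Nat.strong_induction_on with
  | _ n ih => ?_
  intro P hP hcard
  haveI := CfsgLib.Fusion.finite_of_le hP
  by_cases hmem : P ∈ ℋ
  · exact hsat P hmem
  have hout : ∀ x, F.IsConj P x → x ∉ ℋ := fun x hx hxm =>
    hmem (hℋconj x hxm P (CfsgLib.Fusion.isConj_symm hx))
  by_cases hPS : P = S
  · subst hPS
    have hcen : F.IsCentric P := by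
      refine ⟨le_rfl, fun x hx => ?_⟩
      have hxP : x = P := CfsgLib.Fusion.eq_of_le_of_card_le (CfsgLib.Fusion.isConj_le_right hx)
        (CfsgLib.Fusion.isConj_card hx).ge
      rw [hxP]
      exact inf_le_left
    obtain ⟨x, hx, hxn⟩ := hstar P hcen hmem
    have hxP : x = P := CfsgLib.Fusion.eq_of_le_of_card_le (CfsgLib.Fusion.isConj_le_right hx)
      (CfsgLib.Fusion.isConj_card hx).ge
    subst hxP
    refine absurd (fun α hα => ?_) hxn
    obtain ⟨a, ha, hax⟩ := CfsgLib.Fusion.mem_autInducedBy_iff.1 hα.1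
    refine ⟨⟨a, ha⟩, ?_⟩
    ext u
    exact (hax u).symm
  have hlt : P < S := lt_of_le_of_ne hP hPS
  have hsetup : CfsgLib.Fusion.ClassSetup F p ℋ P := by
    refine ⟨hS, hgen, hlt, hout, fun R hR hPR => ?_⟩
    by_cases hn : Nat.card S ≤ Nat.card R
    · exact ih 0 (by
        have : Nat.card P < Nat.card S := by
          by_contra hge
          exact hlt.ne (CfsgLib.Fusion.eq_of_le_of_card_le hlt.le (by omega))
        omega) R hR (by omega)
    · exact ih (Nat.card S - Nat.card R) (by omega) R hR (by omega)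
  refine hsetup.locSat fun Q hQ hQn => ?_
  have hQS : Q ≤ S := CfsgLib.Fusion.isConj_le_right hQ
  refine lt_of_le_of_ne (CfsgLib.Fusion.self_le_kNorm hS hQS) fun e => ?_
  obtain ⟨x, hx, a, hak, hax⟩ : ∃ x, F.IsConj P x ∧
      ∃ a ∈ CfsgLib.Fusion.kNorm F p x, a ∉ x := by
    by_cases hcen : F.IsCentric P
    · obtain ⟨x, hx, hxn⟩ := hstar P hcen hmem
      obtain ⟨α, hα, hαn⟩ := SetLike.not_le_iff_exists.1 hxn
      obtain ⟨a, ha, hax⟩ := CfsgLib.Fusion.mem_autInducedBy_iff.1 hα.1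
      obtain ⟨κ, hκ, hκe⟩ := hα.2
      refine ⟨x, hx, a, ⟨⟨ha, CfsgLib.Fusion.mem_normalizer_of_aut hax⟩, κ, hκ, fun u => ?_⟩,
        fun hax' => hαn ⟨⟨a, hax'⟩, ?_⟩⟩
      · rw [show ((κ : F.autGroup x) : MulAut x) = α from hκe]
        exact hax u
      · ext u
        exact (hax u).symm
    · obtain ⟨x, hx, hxc⟩ : ∃ x, F.IsConj P x ∧ ¬ Cfsg.FusionSystem.centralizerIn S x ≤ x := by
        by_contra hne
        push Not at hne
        exact hcen ⟨hP, hne⟩
      obtain ⟨a, ha, hax⟩ := SetLike.not_le_iff_exists.1 hxc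
      have hcomm : ∀ u ∈ x, a * u * a⁻¹ = u := fun u hu => by
        rw [← Subgroup.mem_centralizer_iff.1 ha.2 u hu, mul_inv_cancel_right]
      refine ⟨x, hx, a, ⟨⟨ha.1, fun u => ⟨fun hu => by rw [hcomm u hu]; exact hu, fun hu => ?_⟩⟩,
        1, one_mem _, fun u => by rw [hcomm u u.2]; rfl⟩, hax⟩
      have := hcomm _ hu
      have h2 : a * u * a⁻¹ = u := by
        have h3 := congrArg (fun z => a⁻¹ * z * a) this
        simpa [mul_assoc] using h3
      rwa [h2] at hu
  obtain ⟨ψ, hψ, hψi, -⟩ := hsetup.exists_map_to hQ hQn hx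
  have hxN : x ≤ Cfsg.FusionSystem.normalizerIn S x :=
    CfsgLib.Fusion.le_normalizerIn (CfsgLib.Fusion.isConj_le_right hx)
  have hψa := CfsgLib.Fusion.apply_mem_kNorm hψ hxN hak.1 hak
  rw [hψi, ← e, ← hψi] at hψa
  obtain ⟨b, hb, hba⟩ := (hψ.mono hxN).mem_img.1 hψa
  exact hax (hψ.inj (hxN hb) hak.1 hba ▸ hb)

end Cfsg.Agent.S5110
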