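import Cfsg.Statements.S5290
import Cfsg.Agent.Lib.Fusion.NormalCriteria

set_option autoImplicit false
open Cfsg

namespace Cfsg.Agent.S5290

/-- Let F be a saturated fusion system over a finite p-group S and Q a subgroup of S. Then Q is normal in F (F = N_F(Q)) if and only if the inner fusion system of Q, consisting of the conjugations by elements of Q on subgroups of Q, is a weakly normal subsystem of F (both saturated, Q strongly closed, invariant under F-conjugation, with the Frattini property). -/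
theorem result {Ω : Type*} [Group Ω] {S : Subgroup Ω} [Finite S] (p : ℕ) [Fact p.Prime] (hS : IsPGroup p S)
    (F : Cfsg.FusionSystem S) (hF : F.IsSaturated p)
    (Q : Subgroup Ω) (hQ : Q ≤ S) :
    F.IsNormal Q ↔ (Cfsg.innerFusionSystem Q).IsWeaklyNormalIn F p := by
  have hsat : Cfsg.FusionSystem.IsSaturated (Cfsg.innerFusionSystem Q) p := by
    haveI : Finite Q := CfsgLib.Fusion.finite_of_le hQ
    exact (CfsgLib.Fusion.isSystemOf_inner Q).isSaturated (hS.to_le hQ)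
      (by rw [Subgroup.relIndex_self]; exact (Fact.out : p.Prime).not_dvd_one)
  constructor
  · intro hN
    have hsc := CfsgLib.Fusion.IsNormal.stronglyClosed hN
    refine ⟨hsat, hF, ?_, hsc, ?_, ?_⟩
    · rintro P φ ⟨hP, g, hg, hgx⟩
      exact (CfsgLib.Fusion.isMap_conj F (hP.trans hQ) (hQ hg)).mem_hom hgx
    · rintro P hPQ φ ⟨-, g, hg, hgx⟩ α hα
      have hle : (P.subgroupOf Q).map (Q.subtype.comp α.toMonoidHom) ≤ Q := by
        rintro _ ⟨s, -, rfl⟩
        exact (α s).2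
      refine ⟨Cfsg.conjHom _ ((α ⟨g, hg⟩ : Q) : Ω),
        ⟨hle, _, (α ⟨g, hg⟩).2, fun x => rfl⟩, fun x hφx hαx => ?_⟩
      show ((α ⟨g, hg⟩ : Q) : Ω) * ((α ⟨x, hPQ x.2⟩ : Q) : Ω) * ((α ⟨g, hg⟩ : Q) : Ω)⁻¹ = _
      rw [← Subgroup.coe_mul, ← Subgroup.coe_inv, ← Subgroup.coe_mul, ← map_inv, ← map_mul,
        ← map_mul]
      congr 2
      exact Subtype.ext (hgx x).symm
    · intro P hP φ hφ
      obtain ⟨g, hg, hgx, hgQ⟩ := (CfsgLib.Fusion.isNormal_iff.1 hN).2 P _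
        (CfsgLib.Fusion.isMap_of_hom hφ)
      have hg' : CfsgLib.Fusion.IsMap F Q g := hg.mono le_sup_right
      refine ⟨hg'.toAut hgQ, hg'.toAut_mem hgQ, P.subtype,
        ⟨hP, 1, Q.one_mem, fun y => by rw [one_mul, inv_one, mul_one]; rfl⟩, fun x hx => ?_⟩
      rw [CfsgLib.Fusion.IsMap.toAut_apply]
      show φ x = g (x : Ω)
      rw [hgx x x.2, CfsgLib.Fusion.toFun_apply]
  · rintro ⟨-, -, hsub, -, -, hfr⟩
    refine CfsgLib.Fusion.isNormal_of_maps_extend hS hF hQ fun P f hf hPQ => ?_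
    obtain ⟨α, hα, φ₀, ⟨-, g, hg, hgx⟩, hαx⟩ := hfr P hPQ hf.toHom hf.toHom_mem
    have hc : (Q.subtype.comp (MulAut.conj (⟨g, hg⟩ : Q)).toMonoidHom) ∈ F.Hom Q :=
      (CfsgLib.Fusion.isMap_conj F hQ (hQ hg)).mem_hom fun y => rfl
    refine ⟨α * MulAut.conj ⟨g, hg⟩, mul_mem hα ((CfsgLib.Fusion.autGroup_mem_iff hQ).2 hc),
      fun x hx hxQ => ?_⟩
    have hmem : φ₀ ⟨x, hx⟩ ∈ Q := by
      rw [hgx]
      exact Q.mul_mem (Q.mul_mem hg hxQ) (Q.inv_mem hg)
    rw [MulAut.mul_apply, ← hf.toHom_apply ⟨x, hx⟩, hαx ⟨x, hx⟩ hmem]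
    congr 2
    exact Subtype.ext (hgx ⟨x, hx⟩).symm

end Cfsg.Agent.S5290
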