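import Cfsg.Statements.S5337
import Cfsg.Agent.Lib.Fusion.Simple

set_option autoImplicit false
open Cfsg

namespace Cfsg.Agent.S5337

/-- Let F be a saturated fusion system over a finite abelian p-group S. Then F is simple if and only if S has order p and F is the inner system of S (whose only maps are the inclusions, S being abelian). -/
theorem result {Ω : Type*} [Group Ω] {S : Subgroup Ω} [Finite S] (p : ℕ) [Fact p.Prime] (hS : IsPGroup p S) (F : Cfsg.FusionSystem S) (hF : F.IsSaturated p) (hab : ∀ x ∈ S, ∀ y ∈ S, x * y = y * x) : F.IsSimple p ↔ (Nat.card S = p ∧ ∀ P : Subgroup Ω, F.Hom P = (Cfsg.innerFusionSystem S).Hom P) := by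
  have hinn : Cfsg.FusionSystem.IsSaturated (Cfsg.innerFusionSystem S) p :=
    (CfsgLib.Fusion.isSystemOf_inner S).isSaturated hS
      (by rw [Subgroup.relIndex_self]; exact (Fact.out : p.Prime).not_dvd_one)
  constructor
  · rintro ⟨-, hS1, hsimple⟩
    have hext : ∀ (P : Subgroup Ω) (f : Ω → Ω), CfsgLib.Fusion.IsMap F P f →
        ∃ g, CfsgLib.Fusion.IsMap F S g ∧ ∀ x ∈ P, g x = f x := by
      intro P f hf
      have hR := hf.img_le
      have hfc : F.IsFullyCentralized (CfsgLib.Fusion.img P f) := ⟨hR, fun Q hQ => by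
        rw [show Cfsg.FusionSystem.centralizerIn S (CfsgLib.Fusion.img P f) = S from
          inf_eq_left.2 fun a ha y hy => hab y (hR hy) a ha]
        exact Subgroup.card_le_of_le inf_le_left⟩
      refine CfsgLib.Fusion.receptive_extend
        (CfsgLib.Fusion.receptive_of_fullyCentralized hS hF hfc) hf rfl hf.le fun a ha => ?_
      have h1 : ∀ y ∈ S, a * y * a⁻¹ = y := fun y hy => by
        rw [hab a ha y hy, mul_inv_cancel_right]
      refine ⟨ha, fun n => ⟨fun hn => by rw [SetLike.mem_coe, h1 n (hf.le hn)]; exact hn,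
        fun hn => ?_⟩, 1, S.one_mem, fun x hx => by rw [h1 x (hf.le hx)]; group⟩
      have h2 : n ∈ S := by
        simpa [mul_assoc] using S.mul_mem (S.mul_mem (S.inv_mem ha) (hf.le hn)) ha
      rw [SetLike.mem_coe, h1 n h2] at hn
      exact hn
    have hconj : ∀ a ∈ S, ∀ y ∈ S, a * y * a⁻¹ = y := fun a ha y hy => by
      rw [hab a ha y hy, mul_inv_cancel_right]
    -- the inner system on a strongly closed subgroup centralized by the system
    have key : ∀ T : Subgroup Ω, T ≤ S → F.StronglyClosed T →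
        (∀ (P : Subgroup Ω) (φ : P →* Ω), P ≤ T → φ ∈ F.Hom P → ∃ α ∈ F.autGroup T,
          ∀ (x : P) (hx : (x : Ω) ∈ T), φ x = ((α ⟨x, hx⟩ : T) : Ω)) →
        (Cfsg.innerFusionSystem T).IsNormalIn F p := by
      intro T hT hsc hfr
      haveI : Finite T := CfsgLib.Fusion.finite_of_le hT
      refine ⟨⟨(CfsgLib.Fusion.isSystemOf_inner T).isSaturated (hS.to_le hT)
        (by rw [Subgroup.relIndex_self]; exact (Fact.out : p.Prime).not_dvd_one), hF, ?_, hsc,
          ?_, ?_⟩, ?_⟩
      · rintro P φ ⟨hP, g, hg, hgx⟩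
        exact (CfsgLib.Fusion.isMap_conj F (hP.trans hT) (hT hg)).mem_hom hgx
      · rintro P hPT φ ⟨-, g, hg, hgx⟩ α hα
        have hle : (P.subgroupOf T).map (T.subtype.comp α.toMonoidHom) ≤ T := by
          rintro _ ⟨s, -, rfl⟩
          exact (α s).2
        refine ⟨Subgroup.subtype _, ⟨hle, 1, T.one_mem, fun y => by rw [one_mul, inv_one, mul_one]; rfl⟩, fun x hφx hαx => ?_⟩
        show ((α ⟨x, hPT x.2⟩ : T) : Ω) = ((α ⟨φ x, hφx⟩ : T) : Ω)
        have e : (⟨φ x, hφx⟩ : T) = ⟨x, hPT x.2⟩ := Subtype.ext (by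
          show φ x = x
          rw [hgx, hconj g (hT hg) x (hT (hPT x.2))])
        rw [e]
      · intro P hP φ hφ
        obtain ⟨α, hα, hαx⟩ := hfr P φ hP hφ
        exact ⟨α, hα, P.subtype, ⟨hP, 1, T.one_mem, fun y => by rw [one_mul, inv_one, mul_one]; rfl⟩, fun x hx => hαx x hx⟩
      · intro α hα
        rw [(CfsgLib.Fusion.isSystemOf_inner T).autGroup_eq le_rfl] at hα
        obtain ⟨g, hg, hgx⟩ := CfsgLib.Fusion.mem_autInducedBy_iff.1 hα
        refine ⟨1, one_mem _, fun x => ?_, fun c hc => ?_⟩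
        · rw [hgx, hconj g (hT hg) x (hT x.2)]
          rfl
        · simp
    have hFi : ∀ P, F.Hom P = (Cfsg.innerFusionSystem S).Hom P := by
      have hn := key S le_rfl ⟨le_rfl, fun R _ φ hφ x => (F.le_of_mem hφ).2 x⟩
        fun P φ hP hφ => by
          obtain ⟨g, hg, hgx⟩ := hext P _ (CfsgLib.Fusion.isMap_of_hom hφ)
          have hgi : CfsgLib.Fusion.img S g = S :=
            CfsgLib.Fusion.eq_of_le_of_card_le hg.img_le hg.card_img.ge
          refine ⟨hg.toAut hgi, hg.toAut_mem hgi, fun x hx => ?_⟩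
          rw [hg.toAut_apply, hgx x x.2, CfsgLib.Fusion.toFun_apply]
      exact fun P => ((hsimple S _ hn).resolve_left hS1).2 P |>.symm
    refine ⟨?_, hFi⟩
    haveI : Nontrivial S := S.nontrivial_iff_ne_bot.2 hS1
    obtain ⟨k, hk, hcard⟩ := (IsPGroup.nontrivial_iff_card hS).1 inferInstance
    obtain ⟨a, ha⟩ := exists_prime_orderOf_dvd_card' (G := S) p (hcard ▸ dvd_pow_self p hk.ne')
    have hao : orderOf (a : Ω) = p := (Subgroup.orderOf_coe a).trans ha
    have hA : Subgroup.zpowers (a : Ω) ≤ S := Subgroup.zpowers_le.2 a.2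
    have hfix : ∀ (P : Subgroup Ω) (φ : P →* Ω), φ ∈ F.Hom P → ∀ x : P, φ x = x := by
      intro P φ hφ x
      rw [hFi P] at hφ
      obtain ⟨hP, g, hg, hgx⟩ := hφ
      rw [hgx, hconj g hg x (hP x.2)]
    have hn := key _ hA ⟨hA, fun R hR φ hφ x => by rw [hfix R φ hφ x]; exact hR x.2⟩
      fun P φ hP hφ => ⟨1, one_mem _, fun x hx => hfix P φ hφ x⟩
    rcases hsimple _ _ hn with h | ⟨h, -⟩
    · rw [Subgroup.zpowers_eq_bot] at h
      rw [h, orderOf_one] at hao
      exact absurd hao (Fact.out : p.Prime).one_lt.ne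
    · rw [← h, Nat.card_zpowers, hao]
  · rintro ⟨hcard, hFi⟩
    have hS1 : S ≠ ⊥ := fun h => by
      rw [h, Subgroup.card_bot] at hcard
      exact (Fact.out : p.Prime).one_lt.ne hcard
    refine CfsgLib.Fusion.isSimple_of_autGroup_top_inn hS hF hS1 (fun α hα => ?_) fun T hT => ?_
    · have h1 := (CfsgLib.Fusion.autGroup_mem_iff le_rfl).1 hα
      rw [hFi S] at h1
      obtain ⟨-, g, hg, hgx⟩ := h1
      exact ⟨⟨g, hg⟩, MulEquiv.ext fun x => Subtype.ext (hgx x).symm⟩
    · haveI : Fact (Nat.card S).Prime := ⟨hcard ▸ Fact.out⟩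
      rcases (T.subgroupOf S).eq_bot_or_eq_top_of_prime_card with h | h
      · rw [Subgroup.subgroupOf_eq_bot, disjoint_iff, inf_eq_left.2 hT.1] at h
        exact Or.inl h
      · exact Or.inr (le_antisymm hT.1 (Subgroup.subgroupOf_eq_top.1 h))

end Cfsg.Agent.S5337
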