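import Cfsg.Statements.S5148
import Cfsg.Agent.Lib.Fusion.SecondCenter
import Cfsg.Agent.S5337

set_option autoImplicit false
open Cfsg

namespace Cfsg.Agent.S5148

/-- A quasisimple fusion system over a finite p-group S (saturated, equal to its p-residual subsystem, with simple — in particular nontrivial — factor system modulo its centre) has S nonabelian. -/
theorem result {Ω : Type*} [Group Ω] {S : Subgroup Ω} [Finite S] (p : ℕ) [Fact p.Prime] (hS : IsPGroup p S) (F : Cfsg.FusionSystem S) (hq : F.Quasisimple p) : ¬ IsMulCommutative S := by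
  intro hab
  obtain ⟨hF, hperf, hsimple⟩ := hq
  have hZsc : F.StronglyClosed F.center := CfsgLib.Fusion.IsNormal.stronglyClosed
    (CfsgLib.Fusion.IsCentral.isNormal CfsgLib.Fusion.center_isCentral)
  haveI : ((F.center).subgroupOf S).Normal := ⟨fun n hn g => by
    rw [show g * n * g⁻¹ = n from by rw [hab.is_comm.comm g n]; group]
    exact hn⟩
  set θ := QuotientGroup.mk' ((F.center).subgroupOf S) with hθ
  have hker : ∀ s : S, θ s = 1 ↔ (s : Ω) ∈ F.center := fun s => QuotientGroup.eq_one_iff s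
  have hrange : θ.range = ⊤ := MonoidHom.range_eq_top.2 (QuotientGroup.mk'_surjective _)
  set E := CfsgLib.Fusion.castSys hrange (CfsgLib.Fusion.factorSys F hZsc θ hker) with hEdef
  have hE : F.IsFactorSystem F.center θ E := by
    refine ⟨CfsgLib.Fusion.center_le F, hker, hrange, fun P' φ' => ?_⟩
    rw [hEdef, CfsgLib.Fusion.castSys_hom]
    exact ⟨fun h => ⟨le_top, h.2⟩, fun h => ⟨hrange.ge.trans' le_top, h.2⟩⟩
  have hEs := hsimple E hE
  have hQp : IsPGroup p (⊤ : Subgroup (S ⧸ (F.center).subgroupOf S)) :=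
    (hS.to_quotient _).to_subgroup ⊤
  obtain ⟨-, hinner⟩ := (Cfsg.Agent.S5337.result p hQp E hEs.1 (fun x _ y _ => by
    obtain ⟨a, rfl⟩ := QuotientGroup.mk'_surjective _ x
    obtain ⟨b, rfl⟩ := QuotientGroup.mk'_surjective _ y
    rw [← map_mul, ← map_mul, hab.is_comm.comm a b])).1 hEs
  refine hEs.2.1 (eq_bot_iff.2 ?_)
  have h1 : E.hyperfocalSubgroup p ≤ ⊥ :=
    CfsgLib.Fusion.hyperfocal_le_of ⊥ fun P hP α hα _ x => by
      have h2 := (CfsgLib.Fusion.autGroup_mem_iff hP).1 hα
      rw [hinner P] at h2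
      obtain ⟨-, g, -, hg⟩ := h2
      rw [Subgroup.mem_bot, inv_mul_eq_one]
      have h3 := hg x
      obtain ⟨a, rfl⟩ := QuotientGroup.mk'_surjective _ g
      obtain ⟨b, hb⟩ := QuotientGroup.mk'_surjective _ (x : S ⧸ (F.center).subgroupOf S)
      have h4 : θ a * (x : S ⧸ (F.center).subgroupOf S) * (θ a)⁻¹ = x := by
        rw [← hb, ← map_inv, ← map_mul, ← map_mul, hab.is_comm.comm a b, mul_inv_cancel_right]
      exact (h3.trans h4).symm
  refine le_trans ?_ h1
  rintro x -
  obtain ⟨s, rfl⟩ := QuotientGroup.mk'_surjective _ x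
  exact CfsgLib.Fusion.map_hyperfocal_le hS hF hZsc hE ⟨s, hperf.ge s.2, rfl⟩

end Cfsg.Agent.S5148
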