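import Cfsg.Statements.S0604
import Cfsg.Agent.Lib.PLocal.Thompson

set_option autoImplicit false
open Cfsg

namespace Cfsg.Agent.S0604

/-- The Thompson subgroup of G is the join of the Thompson subgroups of its Sylow p-subgroups. -/
theorem result {G : Type*} [Group G] [Finite G] {p : ℕ} [Fact p.Prime] : Cfsg.thompsonSubgroup p G = ⨆ S : Sylow p G, Cfsg.thompsonSubgroupOf p (S : Subgroup G) := by
  obtain ⟨A₀, hA₀⟩ := CfsgLib.PLocal.exists_maxElem (G := G) p
  apply le_antisymm
  · refine sSup_le fun A hA => ?_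
    obtain ⟨S, hS⟩ := (CfsgLib.PLocal.elemAb_isPGroup hA.1).exists_le_sylow
    exact le_trans (CfsgLib.PLocal.le_thompsonOf ⟨hS, hA.1, fun B _ hB => hA.2 B hB⟩) (le_iSup (fun S : Sylow p G => Cfsg.thompsonSubgroupOf p (S : Subgroup G)) S)
  · refine iSup_le fun S => ?_
    rw [CfsgLib.PLocal.thompsonOf_eq]
    refine sSup_le fun A hA => CfsgLib.PLocal.le_thompson ⟨hA.2.1, fun B hB => ?_⟩
    obtain ⟨T, hT⟩ := (CfsgLib.PLocal.elemAb_isPGroup hB).exists_le_sylow
    obtain ⟨g, hg⟩ := MulAction.exists_smul_eq G T S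
    have hle : B.map (MulAut.conj g).toMonoidHom ≤ (S : Subgroup G) := by
      rw [← hg]; exact Subgroup.map_mono hT
    have := hA.2.2 _ hle (CfsgLib.PLocal.elemAb_map _ hB)
    rwa [Subgroup.card_map_of_injective (MulAut.conj g).injective] at this

end Cfsg.Agent.S0604
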