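import Cfsg.Statements.S0608
import Cfsg.Agent.Lib.PLocal.OmegaJoin
import Cfsg.Agent.Lib.PLocal.Thompson
import Cfsg.Agent.S0604

set_option autoImplicit false
open Cfsg
open scoped commutatorElement

namespace Cfsg.Agent.S0608

/-- With trivial p'-core, Thompson factorizability is equivalent to J(G) centralizing the subgroup generated by all Ω₁(Z(S)), S Sylow. -/
theorem result {G : Type*} [Group G] [Finite G] {p : ℕ} [Fact p.Prime] (hO : Cfsg.pPrimeCore p G = ⊥) : Cfsg.IsThompsonFactorizable p G ↔ Cfsg.thompsonSubgroup p G ≤ Subgroup.centralizer ((⨆ S : Sylow p G, Cfsg.omegaOne p (((S : Subgroup G)) ⊓ Subgroup.centralizer ((S : Subgroup G) : Set G)) : Subgroup G) : Set G) := by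
  have hn := CfsgLib.PLocal.omegaCenterJoin_normal (G := G) (p := p)
  set Z : Sylow p G → Subgroup G := fun S => Cfsg.omegaOne p ((S : Subgroup G) ⊓ Subgroup.centralizer ((S : Subgroup G) : Set G))
  set C := Subgroup.centralizer (((⨆ S : Sylow p G, Z S) : Subgroup G) : Set G)
  constructor
  · intro h
    rw [Cfsg.Agent.S0604.result]
    refine iSup_le fun T => ?_
    rw [Subgroup.le_centralizer_iff]
    refine iSup_le fun S => ?_
    obtain ⟨g, hg⟩ := MulAction.exists_smul_eq G T S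
    obtain ⟨x, hx, c, hc, n, hnn, he⟩ := h T g⁻¹
    rw [hO, Subgroup.mem_bot] at hx
    subst hx
    rw [one_mul] at he
    have hgn : g = n⁻¹ * c⁻¹ := by rw [← inv_inv g, he, mul_inv_rev]
    have hZT : Z T ≤ Subgroup.centralizer (Cfsg.thompsonSubgroupOf p (T : Subgroup G) : Set G) :=
      ((CfsgLib.PLocal.omegaOne_le p _).trans inf_le_right).trans
        (Subgroup.centralizer_le (CfsgLib.PLocal.thompsonOf_le _))
    rintro z hz j hj
    rw [← hg] at hz
    simp only [Z] at hz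
    rw [← CfsgLib.PLocal.omegaCenter_smul T g] at hz
    obtain ⟨z₀, hz₀, rfl⟩ := hz
    have hfix : c⁻¹ * z₀ * c = z₀ := by
      rw [mul_assoc, hc z₀ hz₀, inv_mul_cancel_left]
    have hconj : (MulAut.conj g).toMonoidHom z₀ = n⁻¹ * z₀ * n := by
      show g * z₀ * g⁻¹ = _
      rw [hgn]
      calc n⁻¹ * c⁻¹ * z₀ * (n⁻¹ * c⁻¹)⁻¹ = n⁻¹ * (c⁻¹ * z₀ * c) * n := by group
        _ = _ := by rw [hfix]
    rw [hconj]
    have hj' : n * j * n⁻¹ ∈ Cfsg.thompsonSubgroupOf p (T : Subgroup G) :=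
      (Subgroup.mem_normalizer_iff.1 hnn j).1 hj
    have hcom := hZT hz₀ _ hj'
    calc j * (n⁻¹ * z₀ * n) = n⁻¹ * ((n * j * n⁻¹) * z₀) * n := by group
      _ = _ := by rw [hcom]; group
  · intro h S g
    obtain ⟨c, hc, n, hnn, rfl⟩ := CfsgLib.PLocal.frattini_mul S C g
    refine ⟨1, one_mem _, c, Subgroup.centralizer_le (le_iSup Z S) hc, n, ?_, (by rw [one_mul])⟩
    have hJ : Cfsg.thompsonSubgroupOf p (S : Subgroup G) ≤ C := by
      refine le_trans ?_ h
      rw [Cfsg.Agent.S0604.result]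
      exact le_iSup (fun T : Sylow p G => Cfsg.thompsonSubgroupOf p (T : Subgroup G)) S
    have h2 := CfsgLib.PLocal.normalizer_le_normalizer_thompsonOf (p := p) _ hnn
    rwa [CfsgLib.PLocal.thompsonOf_eq_of_le (le_inf (CfsgLib.PLocal.thompsonOf_le _) hJ) inf_le_left] at h2

end Cfsg.Agent.S0608
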