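import Cfsg.Statements.S1314
import Cfsg.Agent.Lib.Comp.Normalize
-- import your own Cfsg.Agent.* helpers here

set_option autoImplicit false
open Cfsg

namespace Cfsg.Agent.S1314

open Subgroup
open scoped commutatorElement

/-- Let x be an involution of a group G and L a perfect subgroup with ⁅L, x L x⁻¹⁆ = 1. Then l ↦ l (x l x⁻¹) is a group homomorphism π from L to G whose kernel is central in L and whose image lies in C_G(x); and the commutator subgroup of C_{L ⊔ xLx⁻¹}(x) equals the image of π. -/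
theorem result {G : Type*} [Group G] [Finite G] (x : G) (hx : orderOf x = 2) (L : Subgroup G) (hperf : ⁅L, L⁆ = L) (hcomm : ⁅L, L.map (MulAut.conj x).toMonoidHom⁆ = ⊥) : ∃ π : ↥L →* G, (∀ l : ↥L, π l = (l : G) * (x * (l : G) * x⁻¹)) ∧ π.ker ≤ Subgroup.center ↥L ∧ π.range ≤ Subgroup.centralizer ({x} : Set G) ∧ ⁅(L ⊔ L.map (MulAut.conj x).toMonoidHom) ⊓ Subgroup.centralizer ({x} : Set G), (L ⊔ L.map (MulAut.conj x).toMonoidHom) ⊓ Subgroup.centralizer ({x} : Set G)⁆ = π.range := by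
  set M := L.map (MulAut.conj x).toMonoidHom
  have hx2 : x * x = 1 := by rw [← sq, ← hx]; exact pow_orderOf_eq_one x
  have hxi : x⁻¹ = x := inv_eq_of_mul_eq_one_right hx2
  have hcm : ∀ a ∈ L, ∀ b ∈ M, a * b = b * a := fun a ha b hb =>
    commutatorElement_eq_one_iff_mul_comm.1 (mem_bot.1 (hcomm ▸ commutator_mem_commutator ha hb))
  let π : ↥L →* G :=
    { toFun := fun l => (l : G) * (x * (l : G) * x⁻¹)
      map_one' := by simp
      map_mul' := fun a b => by
        have h := hcm (b : G) b.2 (x * (a : G) * x⁻¹) (mem_map_of_mem (MulAut.conj x).toMonoidHom a.2)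
        simp only [Subgroup.coe_mul]
        calc (a : G) * b * (x * ((a : G) * b) * x⁻¹)
            = (a : G) * ((b : G) * (x * (a : G) * x⁻¹)) * (x * b * x⁻¹) := by group
          _ = (a : G) * ((x * (a : G) * x⁻¹) * (b : G)) * (x * b * x⁻¹) := by rw [h]
          _ = _ := by group }
  have hfixπ : ∀ g ∈ π.range, g * x = x * g := by
    rintro _ ⟨l, rfl⟩
    change (l : G) * (x * (l : G) * x⁻¹) * x = x * ((l : G) * (x * (l : G) * x⁻¹))
    have hc' : (l : G) * (x * (l : G) * x⁻¹) = (x * (l : G) * x⁻¹) * (l : G) :=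
      hcm (l : G) l.2 _ (mem_map_of_mem (MulAut.conj x).toMonoidHom l.2)
    calc (l : G) * (x * (l : G) * x⁻¹) * x = (x * (l : G) * x⁻¹) * (l : G) * x := by
          rw [hc']
      _ = x * (l : G) * (x⁻¹ * (l : G) * x) := by group
      _ = _ := by rw [hxi]; simp [mul_assoc]
  refine ⟨π, fun _ => rfl, ?_, ?_, ?_⟩
  · intro l hl
    have hlM : (l : G) ∈ M := by
      have he : (l : G) = (x * (l : G) * x⁻¹)⁻¹ := eq_inv_of_mul_eq_one_left (MonoidHom.mem_ker.1 hl)
      rw [he]; exact inv_mem (mem_map_of_mem (MulAut.conj x).toMonoidHom l.2)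
    exact mem_center_iff.2 fun y => Subtype.ext (hcm y y.2 l hlM)
  · exact fun g hg => mem_centralizer_singleton_iff.2 (hfixπ g hg)
  · have hrperf : ⁅π.range, π.range⁆ = π.range := by
      have : Group.IsPerfect ↥L := Subgroup.isPerfect_iff.2 hperf
      exact Subgroup.isPerfect_iff.1 (Group.IsPerfect.range π)
    have hM_L : M.map (MulAut.conj x).toMonoidHom = L := by
      rw [← CfsgLib.Comp.map_conj_mul, hx2, CfsgLib.Comp.map_conj_one]
    have hrle : π.range ≤ (L ⊔ M) ⊓ centralizer {x} := by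
      rintro _ ⟨l, rfl⟩
      exact ⟨mul_mem (mem_sup_left l.2) (mem_sup_right (mem_map_of_mem _ l.2)),
        mem_centralizer_singleton_iff.2 (hfixπ _ ⟨l, rfl⟩)⟩
    refine le_antisymm ?_ (hrperf.ge.trans (commutator_mono hrle hrle))
    set Z := L ⊓ M with hZdef
    have hZc : ∀ z ∈ Z, ∀ y ∈ L ⊔ M, y * z = z * y := by
      intro z hz y hy
      have hle : L ⊔ M ≤ centralizer {z} := sup_le
        (fun a ha => mem_centralizer_singleton_iff.2 (hcm a ha z hz.2))
        (fun b hb => mem_centralizer_singleton_iff.2 (hcm z hz.1 b hb).symm)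
      exact mem_centralizer_singleton_iff.1 (hle hy)
    have hdecomp : ∀ g ∈ (L ⊔ M) ⊓ centralizer {x}, ∃ b : ↥L, ∃ z ∈ Z, g = z * π b := by
      rintro g ⟨hg, hgx⟩
      have hnorm : M ≤ normalizer (L : Set G) := fun b hb => CfsgLib.Comp.centralizer_le_normalizer L
        (mem_centralizer_iff.2 fun a ha => hcm a ha b hb)
      obtain ⟨a, ha, c, hc, rfl⟩ := CfsgLib.Comp.exists_mul_of_mem_sup hnorm hg
      replace ha : a ∈ L := ha
      obtain ⟨b, hb, rfl⟩ := hc
      replace hb : b ∈ L := hb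
      refine ⟨⟨b, hb⟩, a * b⁻¹, mem_inf.2 ⟨mul_mem ha (inv_mem hb), ?_⟩, ?_⟩
      · have hfix : a * (x * b * x⁻¹) * x = x * (a * (x * b * x⁻¹)) := mem_centralizer_singleton_iff.1 hgx
        have h1 : a * (x * b * x⁻¹) = (x * a * x⁻¹) * b := by
          calc a * (x * b * x⁻¹) = (a * (x * b * x⁻¹) * x) * x⁻¹ := by group
            _ = x * (a * (x * b * x⁻¹)) * x⁻¹ := by rw [hfix]
            _ = (x * a * x⁻¹) * ((x * x) * b * (x * x)⁻¹) := by group
            _ = _ := by rw [hx2]; group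
        have h2 : a * b⁻¹ = x * (a * b⁻¹) * x⁻¹ := by
          calc a * b⁻¹ = (a * (x * b * x⁻¹)) * ((x * b * x⁻¹)⁻¹ * b⁻¹) := by group
            _ = (x * a * x⁻¹) * b * (b⁻¹ * (x * b * x⁻¹)⁻¹) := by
              have hc'' : b⁻¹ * (x * b * x⁻¹)⁻¹ = (x * b * x⁻¹)⁻¹ * b⁻¹ :=
                hcm b⁻¹ (inv_mem hb) _ (inv_mem (mem_map_of_mem (MulAut.conj x).toMonoidHom hb))
              rw [h1, hc'']
            _ = _ := by group
        rw [h2]
        exact mem_map_of_mem (MulAut.conj x).toMonoidHom (mul_mem ha (inv_mem hb))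
      · change a * (x * b * x⁻¹) = a * b⁻¹ * (b * (x * b * x⁻¹))
        group
    rw [commutator_le]
    intro g hg h hh
    obtain ⟨b, z, hz, rfl⟩ := hdecomp g hg
    obtain ⟨c, w, hw, rfl⟩ := hdecomp h hh
    have : ⁅z * π b, w * π c⁆ = ⁅π b, π c⁆ := by
      have hbm : π b ∈ L ⊔ M := (hrle ⟨b, rfl⟩).1
      have hcm' : π c ∈ L ⊔ M := (hrle ⟨c, rfl⟩).1
      have c1 : Commute z (π b) := (hZc z hz _ hbm).symm
      have c2 : Commute z (π c) := (hZc z hz _ hcm').symm
      have c3 : Commute w (π b) := (hZc w hw _ hbm).symm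
      have c4 : Commute w (π c) := (hZc w hw _ hcm').symm
      have c5 : Commute z w := (hZc z hz w (mem_sup_left hw.1)).symm
      rw [commutatorElement_def, commutatorElement_def]
      calc z * π b * (w * π c) * (z * π b)⁻¹ * (w * π c)⁻¹
          = z * (π b * w) * π c * ((π b)⁻¹ * z⁻¹) * ((π c)⁻¹ * w⁻¹) := by group
        _ = z * (w * π b) * π c * (z⁻¹ * (π b)⁻¹) * (w⁻¹ * (π c)⁻¹) := by
            rw [c3.eq, (c1.inv_inv).eq, (c4.inv_inv).eq]
        _ = z * w * (π b * π c * z⁻¹) * ((π b)⁻¹ * w⁻¹) * (π c)⁻¹ := by group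
        _ = z * w * (z⁻¹ * (π b * π c)) * (w⁻¹ * (π b)⁻¹) * (π c)⁻¹ := by
            rw [((c1.mul_right c2).inv_left).eq, (c3.inv_inv).eq]
        _ = (z * w * z⁻¹) * ((π b * π c) * w⁻¹) * (π b)⁻¹ * (π c)⁻¹ := by group
        _ = w * (w⁻¹ * (π b * π c)) * (π b)⁻¹ * (π c)⁻¹ := by
            rw [c5.eq, mul_inv_cancel_right, ((c3.mul_right c4).inv_left).eq]
        _ = _ := by group
    rw [this, ← hrperf]
    exact commutator_mem_commutator ⟨b, rfl⟩ ⟨c, rfl⟩

end Cfsg.Agent.S1314
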