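import Cfsg.Statements.S0121
import Cfsg.Agent.Lib.Transfer.PGroupNormal

set_option autoImplicit false
open Cfsg

namespace Cfsg.Agent.S0121

/-- A p'-automorphism of a p-group acting trivially on a critical subgroup is trivial. -/
theorem result {G : Type*} [Group G] [Finite G] {p : ℕ} [Fact p.Prime] (hG : IsPGroup p G) (H : Subgroup G) (hH : H.Characteristic) (h1 : (frattini H).map H.subtype ≤ Subgroup.centralizer (H : Set G)) (h2 : ⁅H, (⊤ : Subgroup G)⁆ ≤ H ⊓ Subgroup.centralizer (H : Set G)) (h3 : Subgroup.centralizer (H : Set G) ≤ H) (a : MulAut G) (ha : Nat.Coprime (orderOf a) p) (h : ∀ x ∈ H, a x = x) : a = 1 := by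
  have hHn : H.Normal := inferInstance
  ext x
  have hz : x⁻¹ * a x ∈ Subgroup.centralizer (H : Set G) := by
    rw [Subgroup.mem_centralizer_iff]
    intro y hy
    have h4 : a (x * y * x⁻¹) = x * y * x⁻¹ := h _ (hHn.conj_mem y hy x)
    rw [map_mul, map_mul, map_inv, h y hy] at h4
    have h5 := congrArg (fun v => x⁻¹ * v * a x) h4
    simpa [mul_assoc] using h5.symm
  set z := x⁻¹ * a x with hzdef
  have hzf : a z = z := h z (h3 hz)
  have hax : a x = x * z := by rw [hzdef, mul_inv_cancel_left]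
  have hpow : ∀ n : ℕ, (a ^ n) x = x * z ^ n := by
    intro n
    induction n with
    | zero => simp
    | succ n ih =>
      rw [pow_succ', MulAut.mul_apply, ih, map_mul, map_pow, hzf, hax, mul_assoc, ← pow_succ']
  have h5 := hpow (orderOf a)
  rw [pow_orderOf_eq_one, MulAut.one_apply] at h5
  have h6 : z ^ orderOf a = 1 := left_eq_mul.1 h5
  obtain ⟨k, hk⟩ := IsPGroup.iff_orderOf.1 hG z
  have h7 : orderOf z = 1 := Nat.eq_one_of_dvd_coprimes (ha.symm.pow_left k)
    (hk ▸ dvd_refl _) (orderOf_dvd_of_pow_eq_one h6)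
  rw [hax, orderOf_eq_one_iff.1 h7, mul_one, MulAut.one_apply]


end Cfsg.Agent.S0121
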