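import Cfsg.Statements.S0624
import Cfsg.Agent.Lib.PLocal.Stable
import Cfsg.Agent.Lib.PLocal.Section
import Cfsg.Agent.Lib.PLocal.Offender

set_option autoImplicit false
open Cfsg
open scoped commutatorElement

namespace Cfsg.Agent.S0624

/-- The analogue of the ZJ-Theorem: in an action-p-stable group whose largest normal p-subgroup contains its centralizer, the characteristic subgroup W(S) of a Sylow p-subgroup S is normal. -/
theorem result {G : Type*} [Group G] [Finite G] {p : ℕ} [Fact p.Prime] (hst : Cfsg.IsActionPStable p G) (hc : Subgroup.centralizer (Cfsg.pCore p G : Set G) ≤ Cfsg.pCore p G) (S : Sylow p G) : (((Cfsg.stableNormalClosure p ↥(S : Subgroup G)).map (S : Subgroup G).subtype)).Normal := by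
  classical
  set T := Cfsg.pCore p G
  set W := Cfsg.stableNormalClosure p ↥(S : Subgroup G)
  set WG := W.map (S : Subgroup G).subtype
  have hWS : WG ≤ (S : Subgroup G) := Subgroup.map_subtype_le _
  have hWc : Cfsg.IsElementaryAbelian p WG :=
    CfsgLib.PLocal.elemAb_map _ CfsgLib.PLocal.stable_elemAb
  have hWcc : WG ≤ Subgroup.centralizer (WG : Set G) := CfsgLib.PLocal.elemAb_le_centralizer hWc
  have hWn : W.Normal := by
    have := CfsgLib.PLocal.stable_characteristic (p := p) (S := ↥(S : Subgroup G))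
    infer_instance
  have hSW : (S : Subgroup G) ≤ Subgroup.normalizer (WG : Set G) := by
    rw [Subgroup.le_normalizer_iff]
    rintro s hs _ ⟨w, hw, rfl⟩
    exact ⟨⟨s, hs⟩ * w * ⟨s, hs⟩⁻¹, hWn.conj_mem w hw _, rfl⟩
  have hTp : IsPGroup p T := CfsgLib.Solvable.pCore_isPGroup p
  have hTS : T ≤ (S : Subgroup G) := CfsgLib.Solvable.pCore_le_sylow S
  -- quadratic elements of `S` centralise `W`
  have hquad : ∀ x ∈ (S : Subgroup G), (∀ w ∈ WG, Commute x ⁅x, w⁆) → ∀ w ∈ WG, Commute x w := by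
    rintro x hx h _ ⟨w, hw, rfl⟩
    have hq : ⁅⁅W, Subgroup.zpowers (⟨x, hx⟩ : ↥(S : Subgroup G))⁆,
        Subgroup.zpowers (⟨x, hx⟩ : ↥(S : Subgroup G))⁆ = ⊥ :=
      CfsgLib.PLocal.quad_of_elem (CfsgLib.PLocal.elemAb_le_centralizer CfsgLib.PLocal.stable_elemAb)
        (by rw [Subgroup.normalizer_eq_top]; exact Subgroup.mem_top _)
        (fun v hv => Subtype.ext (h v ⟨v, hv, rfl⟩).eq)
    exact congrArg Subtype.val (CfsgLib.PLocal.stable_quad_centralizes S.2 hq w hw).eq
  -- `W ≤ O_p(G)`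
  have hWT : WG ≤ T := by
    intro x hx
    have hxS := hWS hx
    have h1 : ⁅T, Subgroup.zpowers x⁆ ≤ WG := by
      refine le_trans (Subgroup.commutator_mono hTS (Subgroup.zpowers_le.2 hx)) ?_
      exact Subgroup.le_normalizer_iff_commutator_le_right.1 hSW
    have h2 : ⁅⁅T, Subgroup.zpowers x⁆, Subgroup.zpowers x⁆ = ⊥ :=
      le_bot_iff.1 ((Subgroup.commutator_mono h1 (Subgroup.zpowers_le.2 hx)).trans
        (Subgroup.commutator_eq_bot_iff_le_centralizer.2 hWcc).le)
    obtain ⟨D, hDn, hKD, ⟨k, hk⟩, hxD⟩ := hst.2.1 x (by rw [h2]; exact bot_le)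
    have hK := CfsgLib.PLocal.sectionKernel_frattini_isPGroup hTp hc
    obtain ⟨m, hm⟩ := hK.exists_card_eq
    have hDp : IsPGroup p D := by
      refine IsPGroup.of_card (n := m + k) ?_
      rw [pow_add, ← hm, ← hk, ← Subgroup.relIndex_bot_left, ← Subgroup.relIndex_bot_left]
      exact (Subgroup.relIndex_mul_relIndex ⊥ _ D bot_le hKD).symm
    exact CfsgLib.Solvable.le_pCore hDn hDp hxD
  -- the normal closure
  set V := Subgroup.normalClosure (WG : Set G)
  have hWV : WG ≤ V := fun x hx => Subgroup.subset_normalClosure hx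
  have hVT : V ≤ T := Subgroup.normalClosure_le_normal hWT
  have hgc : ∀ g : G, ∀ a ∈ WG, ∀ w ∈ WG, Commute (g * a * g⁻¹) w := by
    intro g a ha w hw
    have hxT : g * a * g⁻¹ ∈ T := (CfsgLib.Solvable.pCore_normal p G).conj_mem a (hWT ha) g
    refine hquad _ (hTS hxT) (fun w' hw' => ?_) w hw
    have hb : g⁻¹ * w' * g ∈ T := by
      have := (CfsgLib.Solvable.pCore_normal p G).conj_mem w' (hWT hw') g⁻¹
      simpa using this
    have hmem : ⁅a, g⁻¹ * w' * g⁆ ∈ WG :=
      Subgroup.le_normalizer_iff_commutator_le_left.1 hSW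
        (Subgroup.commutator_mem_commutator ha (hTS hb))
    have h3 : Commute a ⁅a, g⁻¹ * w' * g⁆ := (hWcc hmem a ha : a * _ = _ * a)
    have h4 := h3.map (MulAut.conj g)
    rw [map_commutatorElement] at h4
    simpa [MulAut.conj_apply, mul_assoc] using h4
  have hVcomm : V ≤ Subgroup.centralizer (V : Set G) := by
    have h1 : ∀ x ∈ Group.conjugatesOfSet (WG : Set G), ∀ y ∈ Group.conjugatesOfSet (WG : Set G),
        x * y = y * x := by
      intro x hx y hy
      simp only [Group.mem_conjugatesOfSet_iff, isConj_iff] at hx hy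
      obtain ⟨a, ha, g, rfl⟩ := hx
      obtain ⟨b, hb, h, rfl⟩ := hy
      have h5 := (hgc (h⁻¹ * g) a ha b hb).map (MulAut.conj h)
      simpa [MulAut.conj_apply, mul_assoc] using h5.eq
    exact Subgroup.le_centralizer_iff_isMulCommutative.2 (Subgroup.isMulCommutative_closure h1)
  have hVel : Cfsg.IsElementaryAbelian p V := by
    refine CfsgLib.PLocal.elemAb_mono (CfsgLib.PLocal.omegaOne_elemAb hVcomm) ?_
    show Subgroup.closure _ ≤ _
    rw [Subgroup.closure_le]
    intro x hx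
    simp only [Group.mem_conjugatesOfSet_iff, isConj_iff] at hx
    obtain ⟨a, ha, g, rfl⟩ := hx
    refine Subgroup.subset_closure ⟨Subgroup.normalClosure_normal.conj_mem a (hWV ha) g, ?_⟩
    rw [conj_pow, hWc.2 a ha, mul_one, mul_inv_cancel]
  -- quadratic elements of `S` centralise `V`
  have hqV : ∀ a ∈ (S : Subgroup G), ⁅⁅V, Subgroup.zpowers a⁆, Subgroup.zpowers a⁆ = ⊥ →
      a ∈ Subgroup.centralizer (V : Set G) := by
    intro a haS hq
    have haD := hst.1 V hVel a hq
    set D := (Cfsg.pCore p (G ⧸ Subgroup.centralizer (V : Set G))).comap (QuotientGroup.mk' _)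
    have hDn : D.Normal := Subgroup.Normal.comap inferInstance _
    suffices hle : V ≤ Subgroup.centralizer ({a} : Set G) from
      fun v hv => ((hle hv) a rfl).symm
    refine Subgroup.closure_le _ |>.2 fun x hx => ?_
    simp only [Group.mem_conjugatesOfSet_iff, isConj_iff] at hx
    obtain ⟨w, hw, g, rfl⟩ := hx
    have hy := CfsgLib.PLocal.normal_pGroup_quotient_le S (fun z hz => by
      rw [Subgroup.mem_comap, QuotientGroup.mk'_apply, (QuotientGroup.eq_one_iff z).2 hz]
      exact one_mem _) (CfsgLib.PLocal.pCore_comap_relIndex _) (hDn.conj_mem a haD g⁻¹)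
    obtain ⟨c, hc', s, hs, hcs⟩ := Subgroup.mem_sup_of_normal_left.1 hy
    rw [inv_inv] at hcs
    have hcv : ∀ v ∈ V, c * v * c⁻¹ = v := fun v hv => by rw [← hc' v hv, mul_inv_cancel_right]
    have hsq : ∀ v ∈ WG, Commute s ⁅s, v⁆ := by
      intro v hv
      have hvV := hWV hv
      have hsv : s * v * s⁻¹ ∈ V := Subgroup.normalClosure_normal.conj_mem v hvV s
      have hmem : ⁅s, v⁆ ∈ V := mul_mem hsv (inv_mem hvV)
      have e : ⁅g⁻¹ * a * g, v⁆ = ⁅s, v⁆ := by
        rw [commutatorElement_def, commutatorElement_def, ← hcs]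
        calc c * s * v * (c * s)⁻¹ * v⁻¹ = c * (s * v * s⁻¹) * c⁻¹ * v⁻¹ := by group
          _ = _ := by rw [hcv _ hsv]
      have hv' : g * v * g⁻¹ ∈ V := Subgroup.normalClosure_normal.conj_mem v hvV g
      have h6 := (CfsgLib.PLocal.quad_elem hq hv').map (MulAut.conj g⁻¹)
      have e2 : MulAut.conj g⁻¹ ⁅a, g * v * g⁻¹⁆ = ⁅g⁻¹ * a * g, v⁆ := by
        simp only [commutatorElement_def, MulAut.conj_apply]; group
      have e3 : MulAut.conj g⁻¹ a = g⁻¹ * a * g := by simp [MulAut.conj_apply]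
      rw [e2, e3, e, ← hcs] at h6
      have h7 : s = c⁻¹ * (c * s) := by group
      rw [h7]
      refine Commute.mul_left ?_ ?_
      · rw [← h7]; exact (show Commute c _ from (hc' _ hmem).symm).inv_left
      · rw [← h7]; exact h6
    have h8 : Commute (g⁻¹ * a * g) w := by
      rw [← hcs]
      exact (show Commute c w from (hc' w (hWV hw)).symm).mul_left (hquad s hs.1 hsq w hw)
    have h9 := h8.map (MulAut.conj g)
    rintro _ rfl
    simpa [MulAut.conj_apply, mul_assoc] using h9.eq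
  -- `J(S) ≤ C(V)`
  have hJC : Cfsg.thompsonSubgroupOf p (S : Subgroup G) ≤ Subgroup.centralizer (V : Set G) := by
    rw [CfsgLib.PLocal.thompsonOf_eq]
    refine sSup_le fun A hA => ?_
    rw [Subgroup.le_centralizer_iff, ← Subgroup.commutator_eq_bot_iff_le_centralizer]
    by_contra hne
    have hVS : V ≤ (S : Subgroup G) := hVT.trans hTS
    obtain ⟨hA₀, hq₀, hne₀⟩ := CfsgLib.PLocal.maxElemIn_replace hVS
      (by rw [Subgroup.normalizer_eq_top]; exact le_top) hVel hA
    apply hne₀ hne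
    rw [Subgroup.commutator_eq_bot_iff_le_centralizer, Subgroup.le_centralizer_iff]
    intro a ha
    refine hqV a (hA₀.1 ha) (le_bot_iff.1 ?_)
    rw [← hq₀]
    exact Subgroup.commutator_mono
      (Subgroup.commutator_mono le_rfl (Subgroup.zpowers_le.2 ha)) (Subgroup.zpowers_le.2 ha)
  -- `N = N_G(J(S))` normalises `W`
  set N := Subgroup.normalizer (Cfsg.thompsonSubgroupOf p (S : Subgroup G) : Set G)
  have hSN : (S : Subgroup G) ≤ N :=
    Subgroup.le_normalizer.trans (CfsgLib.PLocal.normalizer_le_normalizer_thompsonOf _)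
  set τ : ↥(S : Subgroup G) →* ↥N := Subgroup.inclusion hSN
  have hτ : Cfsg.IsStableEmbedding p τ := by
    refine ⟨Subgroup.inclusion_injective hSN, inferInstance, ⟨S.subtype hSN, ?_⟩, ?_, ?_, ?_⟩
    · rw [Sylow.coe_subtype]
      ext x
      exact ⟨fun hx => ⟨⟨x, hx⟩, rfl⟩, fun ⟨y, hy⟩ => hy ▸ y.2⟩
    · have hTN : T.subgroupOf N ≤ Cfsg.pCore p ↥N :=
        CfsgLib.Solvable.le_pCore ((CfsgLib.Solvable.pCore_normal p G).subgroupOf N) hTp.comap_subtype
      intro x hx
      refine hTN (hc fun t ht => ?_)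
      exact congrArg Subtype.val (hx ⟨t, hSN (hTS ht)⟩ (hTN ht))
    · have e : (Cfsg.thompsonSubgroup p ↥(S : Subgroup G)).map τ =
          (Cfsg.thompsonSubgroupOf p (S : Subgroup G)).subgroupOf N := by
        ext x
        refine ⟨fun ⟨y, hy, hyx⟩ => hyx ▸ ⟨y, hy, rfl⟩, fun ⟨y, hy, hyx⟩ => ⟨y, hy, Subtype.ext hyx⟩⟩
      rw [e]
      exact Subgroup.normal_subgroupOf_of_le_normalizer le_rfl
    · intro U _ hU
      refine hst.2.2 S U ?_
      refine (Subgroup.map_mono hU).trans ?_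
      rw [Subgroup.map_map]
      rfl
  have hNW : ∀ n ∈ N, ∀ w ∈ WG, n * w * n⁻¹ ∈ WG := by
    rintro n hn _ ⟨w, hw, rfl⟩
    obtain ⟨w', hw', he⟩ := (CfsgLib.PLocal.mem_stableFamily_stable.2 ↥N τ hτ).conj_mem _
      (Subgroup.mem_map_of_mem τ hw) ⟨n, hn⟩
    exact ⟨w', hw', congrArg Subtype.val he⟩
  refine ⟨fun x hx g => ?_⟩
  obtain ⟨c, hc', n, hn, rfl⟩ := CfsgLib.PLocal.frattini_mul S (Subgroup.centralizer (V : Set G)) g
  have hnN : n ∈ N := by
    have h := CfsgLib.PLocal.normalizer_le_normalizer_thompsonOf (p := p) _ hn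
    rwa [CfsgLib.PLocal.thompsonOf_eq_of_le (le_inf (CfsgLib.PLocal.thompsonOf_le _) hJC)
      inf_le_left] at h
  have h10 := hNW n hnN x hx
  have h11 : c * (n * x * n⁻¹) * c⁻¹ = n * x * n⁻¹ := by
    rw [← hc' _ (hWV h10), mul_inv_cancel_right]
  rw [show c * n * x * (c * n)⁻¹ = c * (n * x * n⁻¹) * c⁻¹ by group, h11]
  exact h10

end Cfsg.Agent.S0624
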