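import Cfsg.Statements.S3909
import Mathlib.Tactic


set_option autoImplicit false
open Cfsg

namespace Cfsg.Agent.S3909

/-- Let G be a finite group in which any two abelian subgroups of the same order are conjugate. Let M be a normal subgroup of G. If M contains an element of the same order as a ∈ G, then a ∈ M; and if M is elementary abelian of order p^t with p prime and t ≥ 2, then M is the unique Sylow p-subgroup of G. -/
theorem result {G : Type*} [Group G] [Finite G] (hB : ∀ A B : Subgroup G, IsMulCommutative ↥A → IsMulCommutative ↥B → Nat.card ↥A = Nat.card ↥B → ∃ g : G, B = A.map (MulAut.conj g).toMonoidHom) (M : Subgroup G) [M.Normal] :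
    (∀ a : G, (∃ m ∈ M, orderOf m = orderOf a) → a ∈ M) ∧
    ∀ (p t : ℕ) [Fact p.Prime], 2 ≤ t → Nat.card ↥M = p ^ t → Cfsg.IsElementaryAbelian p M → ∀ P : Sylow p G, (P : Subgroup G) = M := by
  have hM : M.Normal := ‹_›
  have part1 : ∀ a : G, (∃ m ∈ M, orderOf m = orderOf a) → a ∈ M := by
    rintro a ⟨m, hm, hma⟩
    obtain ⟨g, hg⟩ := hB (Subgroup.zpowers m) (Subgroup.zpowers a) inferInstance inferInstance
      (by rw [Nat.card_zpowers, Nat.card_zpowers, hma])
    obtain ⟨w, hw, hwa⟩ : a ∈ (Subgroup.zpowers m).map (MulAut.conj g).toMonoidHom :=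
      hg ▸ Subgroup.mem_zpowers a
    rw [← hwa]
    exact hM.conj_mem w (Subgroup.zpowers_le.mpr hm hw) g
  refine ⟨part1, fun p t _ ht hcard hel P => ?_⟩
  have hp := (Fact.out : p.Prime)
  have hMp : IsPGroup p M := IsPGroup.of_card hcard
  have hMP : M ≤ (P : Subgroup G) := le_sup_right.trans
    (P.is_maximal' (P.isPGroup'.to_sup_of_normal_right (K := M) hMp) le_sup_left).le
  refine le_antisymm ?_ hMP
  by_contra hle
  obtain ⟨y, hyP, hyM⟩ := SetLike.not_le_iff_exists.mp hle
  obtain ⟨k, hk⟩ := IsPGroup.iff_orderOf.mp P.isPGroup' ⟨y, hyP⟩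
  rw [← Subgroup.orderOf_coe] at hk
  have hk2 : 2 ≤ k := by
    by_contra h
    obtain rfl | rfl : k = 0 ∨ k = 1 := by omega
    · rw [pow_zero, orderOf_eq_one_iff] at hk
      exact hyM (by rw [show y = 1 from hk]; exact one_mem M)
    · obtain ⟨m, hm⟩ := exists_prime_orderOf_dvd_card' (G := M) p
        (hcard ▸ dvd_pow_self p (by omega))
      exact hyM (part1 y ⟨m, m.2, by rw [Subgroup.orderOf_coe, hm, hk, pow_one]⟩)
  obtain ⟨E, hE, hEM⟩ : ∃ E : Subgroup G, Nat.card E = p ^ 2 ∧ E ≤ M := by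
    obtain ⟨E, hE⟩ := Sylow.exists_subgroup_card_pow_prime p (n := 2) (G := M)
      (hcard ▸ pow_dvd_pow p ht)
    exact ⟨E.map M.subtype, by rw [Subgroup.card_map_of_injective M.subtype_injective, hE],
      Subgroup.map_subtype_le E⟩
  let z := y ^ p ^ (k - 2)
  have hz : orderOf z = p ^ 2 := by
    show orderOf (y ^ p ^ (k - 2)) = _
    rw [orderOf_pow' y (pow_ne_zero _ hp.ne_zero),
      show orderOf y = p ^ k from hk, Nat.gcd_eq_right (pow_dvd_pow p (by omega)),
      Nat.pow_div (by omega) hp.pos, show k - (k - 2) = 2 by omega]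
  have hcomm : IsMulCommutative ↥M := hel.1
  obtain ⟨g, hg⟩ := hB E (Subgroup.zpowers z)
    ⟨⟨fun a b => Subtype.ext (congrArg Subtype.val (mul_comm' (⟨a, hEM a.2⟩ : M) ⟨b, hEM b.2⟩) :)⟩⟩
    inferInstance (by rw [Nat.card_zpowers, hz, hE])
  obtain ⟨w, hw, hwz⟩ : z ∈ E.map (MulAut.conj g).toMonoidHom := hg ▸ Subgroup.mem_zpowers z
  have hzp : z ^ p = 1 := by
    rw [← hwz, ← map_pow, hel.2 w (hEM hw), map_one]
  have h1 := orderOf_dvd_of_pow_eq_one hzp
  rw [hz] at h1
  have := Nat.le_of_dvd hp.pos h1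
  nlinarith [hp.one_lt]

end Cfsg.Agent.S3909
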