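import Cfsg.Statements.S3947
import Cfsg.Agent.Lib.Coprime.ZipperException


set_option autoImplicit false
open Cfsg

namespace Cfsg.Agent.S3947

theorem exists_selfgen {G : Type*} [Group G] [Finite G] {A H : Subgroup G} (hAH : A ≤ H) :
    ∃ T : Subgroup G, A ≤ T ∧ T ≤ H ∧ (T.subgroupOf H).IsSubnormal ∧
      Subgroup.normalClosure ((A.subgroupOf T : Subgroup T) : Set T) = ⊤ := by
  obtain ⟨T, hT⟩ := (Set.toFinite {T : Subgroup G | A ≤ T ∧ T ≤ H ∧
    (T.subgroupOf H).IsSubnormal}).exists_minimal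
      ⟨H, hAH, le_rfl, by rw [Subgroup.subgroupOf_self]; exact Subgroup.IsSubnormal.top⟩
  obtain ⟨hAT, hTH, hs⟩ := hT.prop
  refine ⟨T, hAT, hTH, hs, ?_⟩
  set N := Subgroup.normalClosure ((A.subgroupOf T : Subgroup T) : Set T) with hN
  have hle : N.map T.subtype ≤ T := Subgroup.map_subtype_le N
  have hmem : N.map T.subtype ∈ {T : Subgroup G | A ≤ T ∧ T ≤ H ∧
      (T.subgroupOf H).IsSubnormal} := by
    refine ⟨fun a ha => ⟨⟨a, hAT ha⟩, Subgroup.subset_normalClosure (show (⟨a, hAT ha⟩ : T) ∈ A.subgroupOf T from ha), rfl⟩,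
      hle.trans hTH, ?_⟩
    refine Subgroup.IsSubnormal.step _ (T.subgroupOf H) (Subgroup.comap_mono hle) hs ?_
    refine Subgroup.normal_subgroupOf_of_le_normalizer ?_
    intro x hx
    rw [← Subgroup.subgroupOf_normalizer_eq (hle.trans hTH)]
    exact (Subgroup.normal_subgroupOf_iff_le_normalizer hle).1
      (by rw [Subgroup.subgroupOf, Subgroup.comap_map_eq_self_of_injective T.subtype_injective]; infer_instance) hx
  have := hT.le_of_le hmem hle
  refine eq_top_iff.2 fun x _ => ?_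
  obtain ⟨y, hy, hyx⟩ := this x.2
  exact T.subtype_injective hyx ▸ hy


/-- Let G be a finite group and A a proper subgroup of G whose normal closure is G. Let Y be the join of all proper subgroups H of G that contain A and are generated by their own conjugates of A (the normal closure of A in H is H). Then either Y = G, or A is contained in exactly one maximal subgroup of G. -/
theorem result {G : Type*} [Group G] [Finite G] (A : Subgroup G) (hA : Subgroup.normalClosure (A : Set G) = ⊤) (hAG : A ≠ ⊤) :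
    sSup {H : Subgroup G | A ≤ H ∧ H ≠ ⊤ ∧ Subgroup.normalClosure ((A.subgroupOf H : Subgroup ↥H) : Set ↥H) = ⊤} = ⊤ ∨
      ∃! M : Subgroup G, IsCoatom M ∧ A ≤ M := by
  refine or_iff_not_imp_left.2 fun hY => ?_
  set Y := sSup {H : Subgroup G | A ≤ H ∧ H ≠ ⊤ ∧
    Subgroup.normalClosure ((A.subgroupOf H : Subgroup ↥H) : Set ↥H) = ⊤} with hYdef
  obtain ⟨C₀, hC₀, hAC₀⟩ := (eq_top_or_exists_le_coatom A).resolve_left hAG
  obtain ⟨M, hM, hYM⟩ := (eq_top_or_exists_le_coatom Y).resolve_left hY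
  have hgen : ∀ C : Subgroup G, IsCoatom C → A ≤ C → ∃ T : Subgroup G, A ≤ T ∧ T ≤ C ∧
      (T.subgroupOf C).IsSubnormal ∧ T ∈ {H : Subgroup G | A ≤ H ∧ H ≠ ⊤ ∧
        Subgroup.normalClosure ((A.subgroupOf H : Subgroup ↥H) : Set ↥H) = ⊤} := by
    intro C hC hAC
    obtain ⟨T, h1, h2, h3, h4⟩ := exists_selfgen hAC
    exact ⟨T, h1, h2, h3, h1, fun h => hC.1 (top_le_iff.1 (h ▸ h2)), h4⟩
  have hAM : A ≤ M := by
    obtain ⟨T, h1, -, -, h5⟩ := hgen C₀ hC₀ hAC₀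
    exact h1.trans ((le_sSup h5).trans hYM)
  refine ⟨M, ⟨hM, hAM⟩, fun K hK => ?_⟩
  by_contra hKM
  obtain ⟨T, hT1, hT2, -, hT5⟩ := hgen K hK.1 hK.2
  obtain ⟨L, hL⟩ := (Set.toFinite {U : Subgroup G | (A ≤ U ∧ U ≠ ⊤ ∧
    Subgroup.normalClosure ((A.subgroupOf U : Subgroup ↥U) : Set ↥U) = ⊤) ∧
      ∃ C, IsCoatom C ∧ C ≠ M ∧ U ≤ C}).exists_maximal ⟨T, hT5, K, hK.1, hKM, hT2⟩
  obtain ⟨⟨hAL, hL1, hLgen⟩, C, hC, hCM, hLC⟩ := hL.prop
  have hLM : L ≤ M := (le_sSup (show L ∈ {H : Subgroup G | A ≤ H ∧ H ≠ ⊤ ∧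
    Subgroup.normalClosure ((A.subgroupOf H : Subgroup ↥H) : Set ↥H) = ⊤}
      from ⟨hAL, hL1, hLgen⟩)).trans hYM
  refine hCM (CfsgLib.Coprime.coatom_eq_of_exception (L := L)
    (top_le_iff.1 (hA ▸ Subgroup.normalClosure_mono hAL)) ?_ hM hLM hC hLC)
  intro H hH hLH hHM
  obtain ⟨T', hT'⟩ := (Set.toFinite {U : Subgroup G | L ≤ U ∧ U ≤ H ∧
    (U.subgroupOf H).IsSubnormal}).exists_minimal
      ⟨H, hLH, le_rfl, by rw [Subgroup.subgroupOf_self]; exact Subgroup.IsSubnormal.top⟩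
  obtain ⟨hLT, hTH, hs⟩ := hT'.prop
  obtain ⟨U, hAU, hUT, hUs, hUgen⟩ := exists_selfgen (hAL.trans hLT)
  have hUH : (U.subgroupOf H).IsSubnormal := by
    refine Subgroup.IsSubnormal.trans (Subgroup.comap_mono hUT) ?_ hs
    exact hUs.comap (Subgroup.subgroupOfEquivOfLe hTH).toMonoidHom
  have hLU : L ≤ U := by
    have hsn : ((U ⊓ L).subgroupOf L).IsSubnormal := by
      rw [Subgroup.inf_subgroupOf_right]
      exact hUs.comap (Subgroup.inclusion hLT)
    rcases hsn.lt_normal with h | ⟨N, hN, hle, hlt⟩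
    · rw [Subgroup.subgroupOf_eq_top] at h
      exact h.trans inf_le_left
    · refine absurd ?_ hlt.ne
      rw [eq_top_iff, ← hLgen]
      exact Subgroup.normalClosure_le_normal fun x hx => hle ⟨hAU hx, x.2⟩
  have hUL : U ≤ L := hL.le_of_ge ⟨⟨hAU, fun h => hH.1 (top_le_iff.1 (h ▸ hUT.trans hTH)), hUgen⟩,
    H, hH, hHM, hUT.trans hTH⟩ hLU
  rwa [le_antisymm hLU hUL]

end Cfsg.Agent.S3947
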