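import Cfsg.Statements.S3927
import Cfsg.Agent.S3947


set_option autoImplicit false
open Cfsg

namespace Cfsg.Agent.S3927

universe u

open Subgroup SemidirectProduct

variable {G : Type u} [Group G]

/-- The map `c ↦ c * α(c)⁻¹`. -/
def cmt (α : MulAut G) (c : G) : G := c * (α c)⁻¹

abbrev Ext (α : MulAut G) := G ⋊[(Subgroup.zpowers α).subtype] (Subgroup.zpowers α)

instance [Finite G] (α : MulAut G) : Finite (Ext α) := Finite.of_equiv _ SemidirectProduct.equivProd.symm

theorem inv_of_gen [Finite G] {α : MulAut G} {U : Subgroup G} (h : ∀ x ∈ U, α x ∈ U) :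
    ∀ b ∈ Subgroup.zpowers α, ∀ x ∈ U, b x ∈ U := by
  intro b hb
  rw [← mem_powers_iff_mem_zpowers, Submonoid.mem_powers_iff] at hb
  obtain ⟨i, rfl⟩ := hb
  induction i with
  | zero => intro x hx; simpa using hx
  | succ i ih => intro x hx; rw [pow_succ]; exact ih _ (h x hx)

theorem cmt_pow_mem {α : MulAut G} {U : Subgroup G} {V : Subgroup G} (hV : ∀ x ∈ V, α x ∈ V)
    (hf : ∀ x ∈ V, cmt α x ∈ U) : ∀ (i : ℕ), ∀ h ∈ V, h * ((α ^ i) h)⁻¹ ∈ U := by
  intro i
  induction i with
  | zero => intro h _; simp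
  | succ i ih =>
    intro h hh
    have := mul_mem (hf h hh) (ih _ (hV h hh))
    rw [cmt] at this
    rw [pow_succ, MulAut.mul_apply]
    simpa [mul_assoc] using this

/-- Elements whose first component lies in an invariant subgroup. -/
def hat {α : MulAut G} (U : Subgroup G) (h : ∀ b ∈ Subgroup.zpowers α, ∀ x ∈ U, b x ∈ U) :
    Subgroup (Ext α) where
  carrier := {x | x.left ∈ U}
  one_mem' := U.one_mem
  mul_mem' {a b} ha hb := by
    show (a * b).left ∈ U
    rw [mul_left]
    exact U.mul_mem ha (h _ a.right.2 _ hb)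
  inv_mem' {a} ha := by
    show a⁻¹.left ∈ U
    rw [inv_left]
    exact h _ (a.right⁻¹).2 _ (U.inv_mem ha)

theorem aux : ∀ (n : ℕ) (G : Type u) [Group G] [Finite G] (α : MulAut G), Nat.card G = n →
    closure (Set.range (cmt α)) = ⊤ → ∀ k : ℕ, closure (Set.range (cmt α)^[k]) = ⊤ := by
  intro n
  induction n using Nat.strong_induction_on with
  | _ n ih => ?_
  intro G _ _ α hn hgen k
  by_contra hK
  set K := closure (Set.range (cmt α)^[k]) with hKdef
  have hcomm : Function.Commute (cmt α) α := fun x => by simp [cmt]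
  have hKα : ∀ x ∈ K, α x ∈ K := by
    intro x hx
    have : K.map α.toMonoidHom = K := by
      rw [hKdef, MonoidHom.map_closure]
      congr 1
      rw [← Set.range_comp]
      have e : (α.toMonoidHom : G → G) ∘ (cmt α)^[k] = (cmt α)^[k] ∘ α := by
        funext y; exact ((hcomm.iterate_left k) y).symm
      rw [e]
      exact α.surjective.range_comp _
    rw [← this]
    exact ⟨x, hx, rfl⟩
  let a₀ : Subgroup.zpowers α := ⟨α, mem_zpowers α⟩
  let A : Subgroup (Ext α) := (inr : _ →* Ext α).range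
  have hf : ∀ g : G, (inl (cmt α g) : Ext α) = inl g * inr a₀ * (inl g)⁻¹ * (inr a₀)⁻¹ := by
    intro g
    rw [cmt, map_mul, map_inv]
    have : (inl (α g) : Ext α) = inr a₀ * inl g * inr a₀⁻¹ := inl_aut a₀ g
    rw [this, map_inv]
    group
  have hAmem : ∀ b, (inr b : Ext α) ∈ A := fun b => ⟨b, rfl⟩
  have hsplit : ∀ {H : Subgroup (Ext α)}, A ≤ H → ∀ x ∈ H, (inl x.left : Ext α) ∈ H := by
    intro H hAH x hx
    have := H.mul_mem hx (H.inv_mem (hAH (hAmem x.right)))
    rwa [← eq_mul_inv_iff_mul_eq.2 (inl_left_mul_inr_right x)] at this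
  have hA : normalClosure (A : Set (Ext α)) = ⊤ := by
    refine eq_top_iff.2 fun x _ => ?_
    rw [← inl_left_mul_inr_right x]
    refine mul_mem ?_ (subset_normalClosure (hAmem _))
    have : closure (Set.range (cmt α)) ≤ (normalClosure (A : Set (Ext α))).comap inl := by
      rw [closure_le]
      rintro _ ⟨g, rfl⟩
      show (inl (cmt α g) : Ext α) ∈ normalClosure (A : Set (Ext α))
      rw [hf]
      exact mul_mem (normalClosure_normal.conj_mem _ (subset_normalClosure (hAmem a₀)) _)
        (inv_mem (subset_normalClosure (hAmem a₀)))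
    exact this (hgen ▸ mem_top x.left)
  let Kh : Subgroup (Ext α) := hat K (inv_of_gen hKα)
  have hKh : Kh ≠ ⊤ := fun h => hK (eq_top_iff.2 fun g _ => by
    have : (inl g : Ext α) ∈ Kh := h ▸ mem_top _
    exact this)
  have hAKh : A ≤ Kh := by
    rintro _ ⟨b, rfl⟩
    show (inr b : Ext α).left ∈ K
    rw [left_inr]; exact one_mem K
  have hAne : A ≠ ⊤ := fun h => hKh (top_le_iff.1 (h ▸ hAKh))
  have hY : ∀ H : Subgroup (Ext α), A ≤ H → H ≠ ⊤ →
      normalClosure ((A.subgroupOf H : Subgroup H) : Set H) = ⊤ → H ≤ Kh := by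
    intro H hAH hH hgenH
    let H0 : Subgroup G := H.comap inl
    have hinv : ∀ b ∈ Subgroup.zpowers α, ∀ x ∈ H0, b x ∈ H0 := by
      intro b hb x hx
      show (inl (b x) : Ext α) ∈ H
      have : (inl (b x) : Ext α) = inr ⟨b, hb⟩ * inl x * inr ⟨b, hb⟩⁻¹ := inl_aut (⟨b, hb⟩ : Subgroup.zpowers α) x
      rw [this]
      exact mul_mem (mul_mem (hAH (hAmem _)) hx) (hAH (hAmem _))
    have hmap : H0.map α.toMonoidHom = H0 := by
      refine eq_of_le_of_card_ge ?_ (card_map_of_injective α.injective).ge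
      rintro _ ⟨x, hx, rfl⟩
      exact hinv α (mem_zpowers α) x hx
    let β : MulAut H0 := (α.subgroupMap H0).trans (MulEquiv.subgroupCongr hmap)
    have hβ : ∀ x : H0, ((β x : H0) : G) = α x := fun x => rfl
    have hsemi : Function.Semiconj (H0.subtype : H0 → G) (cmt β) (cmt α) := fun x => by
      simp [cmt, hβ]
    have hlt : Nat.card H0 < n := by
      rw [← hn]
      refine lt_of_le_of_ne (card_le_card_group H0) fun he => hH (eq_top_iff.2 fun x _ => ?_)
      have := eq_top_of_card_eq H0 he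
      rw [← inl_left_mul_inr_right x]
      exact mul_mem (show x.left ∈ H0 from this ▸ mem_top _) (hAH (hAmem _))
    set U : Subgroup G := (closure (Set.range (cmt β))).map H0.subtype
    have hU : ∀ x ∈ U, α x ∈ U := by
      rintro _ ⟨x, hx, rfl⟩
      refine ⟨β x, ?_, hβ x⟩
      induction hx using closure_induction with
      | mem y hy =>
        obtain ⟨z, rfl⟩ := hy
        exact subset_closure ⟨β z, by simp [cmt]⟩
      | one => simp
      | mul y z _ _ iy iz => rw [map_mul]; exact mul_mem iy iz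
      | inv y _ iy => rw [map_inv]; exact inv_mem iy
    have hfU : ∀ x ∈ H0, cmt α x ∈ U := fun x hx =>
      ⟨cmt β ⟨x, hx⟩, subset_closure ⟨_, rfl⟩, hsemi ⟨x, hx⟩⟩
    have hle : normalClosure ((A.subgroupOf H : Subgroup H) : Set H) ≤
        (hat U (inv_of_gen hU)).comap H.subtype := by
      refine (closure_le _).2 fun y hy => ?_
      obtain ⟨a, ha, hc⟩ := Group.mem_conjugatesOfSet_iff.1 hy
      obtain ⟨c, rfl⟩ := isConj_iff.1 hc
      obtain ⟨b, hb⟩ : (a : Ext α) ∈ A := ha
      show ((c * a * c⁻¹ : H) : Ext α).left ∈ U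
      rw [coe_mul, coe_mul, coe_inv, ← hb]
      have hcl : (c : Ext α).left ∈ H0 := hsplit hAH _ c.2
      have hcomm' : (c : Ext α).right * b * (c : Ext α).right⁻¹ = b := by
        obtain ⟨i, hi⟩ := mem_zpowers_iff.1 (c : Ext α).right.2
        obtain ⟨j, hj⟩ := mem_zpowers_iff.1 b.2
        apply Subtype.ext
        simp only [coe_mul, coe_inv, ← hi, ← hj]
        rw [← zpow_add, ← zpow_neg, ← zpow_add]; congr 1; ring
      have e : ((c : Ext α) * inr b * (c : Ext α)⁻¹).left =
          (c : Ext α).left * ((b : MulAut G) (c : Ext α).left)⁻¹ := by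
        rw [mul_left, mul_left, inv_left, left_inr, map_one, mul_one, mul_right, right_inr,
          ← MulAut.mul_apply, ← map_mul, hcomm', map_inv]
        rfl
      rw [e]
      obtain ⟨i, hi⟩ := Submonoid.mem_powers_iff _ _ |>.1 (mem_powers_iff_mem_zpowers.2 b.2)
      rw [← hi]
      exact cmt_pow_mem (fun x hx => hinv α (mem_zpowers α) x hx) hfU i _ hcl
    have hgenH0 : closure (Set.range (cmt β)) = ⊤ := by
      refine eq_top_iff.2 fun x _ => ?_
      have h1 := hle (hgenH ▸ mem_top (⟨inl (x : G), x.2⟩ : H) : (⟨inl (x : G), x.2⟩ : H) ∈ _)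
      obtain ⟨y, hy, hyx⟩ := (show (x : G) ∈ U from h1)
      exact H0.subtype_injective hyx ▸ hy
    have hk := ih _ hlt H0 β rfl hgenH0 k
    intro x hx
    show x.left ∈ K
    have : (⟨x.left, hsplit hAH x hx⟩ : H0) ∈ closure (Set.range (cmt β)^[k]) := hk ▸ mem_top _
    have h2 := mem_map_of_mem H0.subtype this
    rw [MonoidHom.map_closure, ← Set.range_comp] at h2
    refine closure_mono ?_ h2
    rintro _ ⟨y, rfl⟩
    exact ⟨y, ((hsemi.iterate_right k) y).symm⟩
  rcases Cfsg.Agent.S3947.result A hA hAne with h | ⟨M, ⟨hM, hAM⟩, huniq⟩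
  · exact hKh (top_le_iff.1 (h ▸ sSup_le fun H hH => hY H hH.1 hH.2.1 hH.2.2))
  obtain ⟨C, hC, hKC⟩ := (eq_top_or_exists_le_coatom Kh).resolve_left hKh
  have hKM : Kh ≤ M := huniq C ⟨hC, hAKh.trans hKC⟩ ▸ hKC
  obtain ⟨g, hg, hfg⟩ : ∃ g : G, (inl g : Ext α) ∉ M ∧ (inl (cmt α g) : Ext α) ∈ M := by
    by_contra! hno
    have hstay : ∀ (j : ℕ) (g : G), (inl g : Ext α) ∉ M → (inl ((cmt α)^[j] g) : Ext α) ∉ M := by
      intro j
      induction j with
      | zero => intro g hg; simpa using hg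
      | succ j ihj => intro g hg; rw [Function.iterate_succ_apply]; exact ihj _ (hno g hg)
    refine hM.1 (eq_top_iff.2 fun x _ => ?_)
    rw [← inl_left_mul_inr_right x]
    refine mul_mem ?_ (hAM (hAmem _))
    by_contra hx
    exact hstay k _ hx (hKM (show (inl _ : Ext α).left ∈ K from subset_closure ⟨_, rfl⟩))
  rw [hf] at hfg
  have h1 : (inl g : Ext α) * inr a₀ * (inl g)⁻¹ ∈ M := by
    have := mul_mem hfg (hAM (hAmem a₀))
    rwa [inv_mul_cancel_right] at this
  have h2 : A ≤ M.comap (MulAut.conj (inl g : Ext α)).toMonoidHom := by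
    rintro _ ⟨b, rfl⟩
    obtain ⟨i, hi⟩ := mem_zpowers_iff.1 b.2
    have hb : b = a₀ ^ i := Subtype.ext (by simp [a₀, ← hi])
    rw [hb, map_zpow]
    exact zpow_mem (show (inr a₀ : Ext α) ∈ M.comap (MulAut.conj (inl g : Ext α)).toMonoidHom from
      by simpa using h1) i
  have h3 : IsCoatom (M.comap (MulAut.conj (inl g : Ext α)).toMonoidHom) := by
    rw [comap_equiv_eq_map_symm']
    exact ((MulAut.conj (inl g : Ext α)).symm.mapSubgroup.isCoatom_iff M).2 hM
  have h4 := huniq _ ⟨h3, h2⟩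
  refine hg ?_
  have h5 : (inl g : Ext α) ∈ normalizer (M : Set (Ext α)) := by
    rw [mem_normalizer_iff]
    intro x
    conv_lhs => rw [← h4]
    simp
  rcases hM.le_iff.1 (le_normalizer (H := M)) with h | h
  · have := normalizer_eq_top_iff.1 h
    exact absurd (top_le_iff.1 (hA ▸ normalClosure_le_normal hAM)) hM.1
  · rwa [h] at h5


/-- Let G be a finite group and α an automorphism of G with [G, α] = G, that is, the elements g·α(g)⁻¹ generate G. Then for every k ≥ 1 the iterated commutators [g, α, …, α] with k entries α — the values of the k-th iterate of the map c ↦ c·α(c)⁻¹ — also generate G. -/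
theorem result {G : Type*} [Group G] [Finite G] (α : MulAut G) (hG : Subgroup.closure (Set.range (fun c : G => c * (α c)⁻¹)) = ⊤) (k : ℕ) (hk : 1 ≤ k) :
    Subgroup.closure (Set.range ((fun c : G => c * (α c)⁻¹)^[k])) = ⊤ := by
  exact aux _ G α rfl hG k

end Cfsg.Agent.S3927
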