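import Cfsg.Statements.S2202
import Cfsg.Agent.Lib.Invol.AISplit

set_option autoImplicit false
open Cfsg

namespace Cfsg.Agent.S2202

/-- Finite groups in which the centralizer of every involution is abelian. Let G be a finite group of even order in which the centralizer of every element of order 2 is abelian. Then the Sylow 2-subgroups of G are cyclic, or a Sylow 2-subgroup of G is normal, or G is isomorphic to the direct product of SL₂(F) for a finite field F of characteristic two and an abelian group of odd order. -/
theorem result {G : Type*} [Group G] [Finite G] (heven : Even (Nat.card G)) (h : ∀ t : G, orderOf t = 2 → IsMulCommutative ↥(Subgroup.centralizer ({t} : Set G))) :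
    (∀ P : Sylow 2 G, IsCyclic ↥P) ∨ (∀ P : Sylow 2 G, (P : Subgroup G).Normal) ∨
    (∃ (F : Type) (_ : Field F) (_ : Fintype F) (A : Type) (_ : CommGroup A) (_ : Finite A), CharP F 2 ∧ Odd (Nat.card A) ∧ Nonempty (G ≃* Matrix.SpecialLinearGroup (Fin 2) F × A)) := by
  classical
  by_cases h1 : ∀ P : Sylow 2 G, IsCyclic ↥P
  · exact Or.inl h1
  by_cases h2 : ∀ P : Sylow 2 G, (P : Subgroup G).Normal
  · exact Or.inr (Or.inl h2)
  refine Or.inr (Or.inr ?_)
  have : Fact (Nat.Prime 2) := ⟨Nat.prime_two⟩
  obtain ⟨T, hT⟩ := not_forall.1 h1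
  obtain ⟨A, hA⟩ := CfsgLib.Invol.exists_aiHyp (fun t a b ht ha hb =>
    congrArg Subtype.val ((h t ht).is_comm.comm
      (⟨a, Subgroup.mem_centralizer_singleton_iff.2 ha⟩ : Subgroup.centralizer ({t} : Set G))
      ⟨b, Subgroup.mem_centralizer_singleton_iff.2 hb⟩))
    T hT (fun hn => h2 fun P => by
      have := Sylow.unique_of_normal T hn
      rw [Subsingleton.elim P T]
      exact hn)
  exact hA.exists_prod

end Cfsg.Agent.S2202
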