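import Cfsg.Statements.S4020
import Cfsg.Agent.Lib.StructB.SameOrderIso
-- import your own Cfsg.Agent.* helpers here

set_option autoImplicit false
open Cfsg
open scoped Pointwise

namespace Cfsg.Agent.S4020

variable {G : Type*} [Group G] [Finite G]

theorem iso_in_sylow {p : ℕ} [Fact p.Prime]
    (hD : ∀ p : ℕ, p.Prime → ∀ H K : Subgroup G, IsPGroup p H → IsPGroup p K → Nat.card H = Nat.card K →
      ∃ g : G, K = H.map (MulAut.conj g).toMonoidHom)
    (P : Sylow p G) (H K : Subgroup ↥(P : Subgroup G)) (h : Nat.card H = Nat.card K) :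
    Nonempty (H ≃* K) := by
  set eH := H.equivMapOfInjective (P : Subgroup G).subtype (P : Subgroup G).subtype_injective
  set eK := K.equivMapOfInjective (P : Subgroup G).subtype (P : Subgroup G).subtype_injective
  obtain ⟨g, hg⟩ := hD p Fact.out (H.map (P : Subgroup G).subtype) (K.map (P : Subgroup G).subtype)
    (P.isPGroup'.to_le (Subgroup.map_subtype_le H)) (P.isPGroup'.to_le (Subgroup.map_subtype_le K))
    (by rw [← Nat.card_congr eH.toEquiv, ← Nat.card_congr eK.toEquiv, h])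
  exact ⟨eH.trans ((((H.map (P : Subgroup G).subtype).equivMapOfInjective
    (MulAut.conj g).toMonoidHom (MulAut.conj g).injective).trans
      (MulEquiv.subgroupCongr hg.symm)).trans eK.symm)⟩

/-- In a 2-subgroup, every element is conjugated to itself or to its inverse. -/
theorem two_conj
    (hD : ∀ p : ℕ, p.Prime → ∀ H K : Subgroup G, IsPGroup p H → IsPGroup p K → Nat.card H = Nat.card K →
      ∃ g : G, K = H.map (MulAut.conj g).toMonoidHom)
    {S : Subgroup G} (hS : IsPGroup 2 S) {h s : G} (hh : h ∈ S) (hs : s ∈ S) :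
    s * h * s⁻¹ = h ∨ s * h * s⁻¹ = h⁻¹ := by
  obtain ⟨Q, hQ⟩ := hS.exists_le_sylow
  have key : ∀ a b : ↥(Q : Subgroup G), a * b * a⁻¹ = b ∨ a * b * a⁻¹ = b⁻¹ := by
    intro a b
    rcases CfsgLib.StructB.exp_p_or_cyclic Q.isPGroup' (iso_in_sylow hD Q) with hc | ⟨⟨e⟩⟩ | hexp
    · left
      obtain ⟨c, hc⟩ := hc.exists_generator
      obtain ⟨i, rfl⟩ := Subgroup.mem_zpowers_iff.1 (hc a)
      obtain ⟨j, rfl⟩ := Subgroup.mem_zpowers_iff.1 (hc b)
      rw [zpow_mul_comm, mul_inv_cancel_right]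
    · rcases CfsgLib.StructB.quaternion_conj (e b) (e a) with h | h
      · left; apply e.injective; rw [map_mul, map_mul, map_inv, h]
      · right; apply e.injective; rw [map_mul, map_mul, map_inv, map_inv, h]
    · left
      rcases CfsgLib.StructB.elementary_or_order_cube Q.isPGroup' (iso_in_sylow hD Q) hexp with h | h
      · rw [h a b, mul_inv_cancel_right]
      · exact absurd rfl h.1
  rcases key ⟨s, hQ hs⟩ ⟨h, hQ hh⟩ with h' | h'
  · exact Or.inl (congrArg Subtype.val h')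
  · exact Or.inr (congrArg Subtype.val h')

omit [Finite G] in
theorem conj_pow_fix {u z x : G} (hz : u * z * u⁻¹ = z) (hx : u * x * u⁻¹ = z * x) (m : ℕ) :
    u ^ m * x * (u ^ m)⁻¹ = z ^ m * x := by
  induction m with
  | zero => simp
  | succ m ih =>
    have h1 : u * z ^ m * u⁻¹ = z ^ m := by rw [← conj_pow, hz]
    calc u ^ (m + 1) * x * (u ^ (m + 1))⁻¹ = u * (u ^ m * x * (u ^ m)⁻¹) * u⁻¹ := by
          rw [pow_succ']; group
      _ = u * (z ^ m * x) * u⁻¹ := by rw [ih]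
      _ = (u * z ^ m * u⁻¹) * (u * x * u⁻¹) := by group
      _ = z ^ (m + 1) * x := by rw [h1, hx, pow_succ, mul_assoc]

/-- No nonabelian Sylow subgroup of order `p ^ 3`. -/
theorem no_heisenberg {p : ℕ} [Fact p.Prime]
    (hD : ∀ p : ℕ, p.Prime → ∀ H K : Subgroup G, IsPGroup p H → IsPGroup p K → Nat.card H = Nat.card K →
      ∃ g : G, K = H.map (MulAut.conj g).toMonoidHom)
    (P : Sylow p G) (hp2 : p ≠ 2) (hcard : Nat.card P = p ^ 3)
    (hexp : ∀ a ∈ (P : Subgroup G), a ^ p = 1)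
    (hnc : ∃ a ∈ (P : Subgroup G), ∃ b ∈ (P : Subgroup G), a * b ≠ b * a) : False := by
  classical
  have hp : p.Prime := Fact.out
  obtain ⟨x, hxP, u, huP, hxu⟩ := hnc
  have hPg : IsPGroup p ↥(P : Subgroup G) := P.isPGroup'
  -- centre of order p and commutators in it
  set Z₀ := Subgroup.center ↥(P : Subgroup G) with hZ₀
  have hnt : ∀ H : Subgroup ↥(P : Subgroup G), H = Z₀ → ¬ (p ^ 2 ≤ Nat.card H) := by
    rintro H rfl hH
    obtain ⟨j, hj⟩ := (hPg.to_subgroup Z₀).exists_card_eq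
    have hx0 : (⟨x, hxP⟩ : ↥(P : Subgroup G)) ∉ Z₀ := fun h =>
      hxu (congrArg Subtype.val (Subgroup.mem_center_iff.1 h ⟨u, huP⟩)).symm
    have h1 := CfsgLib.StructB.soi_card_mul_le hPg (left_lt_sup.2 fun h =>
      hx0 (h (Subgroup.mem_zpowers (⟨x, hxP⟩ : ↥(P : Subgroup G)))))
    have h2 : Z₀ ⊔ Subgroup.zpowers (⟨x, hxP⟩ : ↥(P : Subgroup G)) = ⊤ := by
      refine Subgroup.eq_top_of_le_card _ ?_
      rw [hcard]
      refine le_trans ?_ h1
      rw [pow_succ]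
      exact Nat.mul_le_mul_right p hH
    have h3 := CfsgLib.StructB.sup_zpowers_comm (A := Z₀) (y := ⟨x, hxP⟩)
      (fun a ha b hb => Subgroup.mem_center_iff.1 hb a)
      (fun a ha => (Subgroup.mem_center_iff.1 ha ⟨x, hxP⟩).symm)
    rw [h2] at h3
    exact hxu (congrArg Subtype.val (h3 ⟨x, hxP⟩ (Subgroup.mem_top _) ⟨u, huP⟩ (Subgroup.mem_top _)))
  set z := u * x * u⁻¹ * x⁻¹ with hz
  have hzP : z ∈ (P : Subgroup G) :=
    (P : Subgroup G).mul_mem ((P : Subgroup G).mul_mem ((P : Subgroup G).mul_mem huP hxP)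
      ((P : Subgroup G).inv_mem huP)) ((P : Subgroup G).inv_mem hxP)
  have hz1 : z ≠ 1 := fun h => hxu (by
    rw [hz, mul_inv_eq_one, mul_inv_eq_iff_eq_mul] at h; exact h.symm)
  have hZp : Nat.card Z₀ = p := by
    haveI : Nontrivial ↥(P : Subgroup G) := ⟨⟨⟨z, hzP⟩, 1, fun h => hz1 (congrArg Subtype.val h)⟩⟩
    haveI := hPg.center_nontrivial
    obtain ⟨j, hj⟩ := (hPg.to_subgroup Z₀).exists_card_eq
    have h1 : 1 < Nat.card Z₀ := Finite.one_lt_card
    have h2 := hnt Z₀ rfl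
    rw [hj] at h1 h2
    have hj1 : j = 1 := by
      rcases j with _ | _ | j
      · simp at h1
      · rfl
      · exact absurd (Nat.pow_le_pow_right hp.pos (by omega)) h2
    rw [hj, hj1, pow_one]
  have hcomZ : ∀ a ∈ (P : Subgroup G), ∀ b ∈ (P : Subgroup G), ∀ c ∈ (P : Subgroup G),
      c * (a * b * a⁻¹ * b⁻¹) = (a * b * a⁻¹ * b⁻¹) * c := by
    intro a ha b hb c hc
    have hq : Nat.card (↥(P : Subgroup G) ⧸ Z₀) = p ^ 2 := by
      have h := Subgroup.card_eq_card_quotient_mul_card_subgroup Z₀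
      rw [hcard, hZp, pow_succ] at h
      exact (Nat.eq_of_mul_eq_mul_right hp.pos h).symm
    have h1 := IsPGroup.commutative_of_card_eq_prime_sq hq
      (QuotientGroup.mk ⟨a, ha⟩) (QuotientGroup.mk ⟨b, hb⟩)
    have h2 : (⟨a, ha⟩ * ⟨b, hb⟩ * ⟨a, ha⟩⁻¹ * ⟨b, hb⟩⁻¹ : ↥(P : Subgroup G)) ∈ Z₀ := by
      rw [← QuotientGroup.eq_one_iff]
      simp only [QuotientGroup.mk_mul, QuotientGroup.mk_inv]
      rw [h1]
      group
    exact congrArg Subtype.val (Subgroup.mem_center_iff.1 h2 ⟨c, hc⟩)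
  have hzc : ∀ a ∈ (P : Subgroup G), a * z = z * a := hcomZ u huP x hxP
  have hzo : orderOf z = p := orderOf_eq_prime (hexp z hzP) hz1
  set Z := Subgroup.zpowers z with hZ
  have hZc : Nat.card Z = p := by rw [hZ, Nat.card_zpowers, hzo]
  have hcentral : ∀ a ∈ (P : Subgroup G), (∀ b ∈ (P : Subgroup G), b * a = a * b) → a ∈ Z := by
    intro a ha hac
    have h1 : Subgroup.zpowers (⟨z, hzP⟩ : ↥(P : Subgroup G)) = Z₀ := by
      refine Subgroup.eq_of_le_of_card_ge (Subgroup.zpowers_le.2 (Subgroup.mem_center_iff.2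
        fun b => Subtype.ext (hzc _ b.2))) ?_
      rw [hZp, Nat.card_zpowers, ← Subgroup.orderOf_coe]
      exact hzo.ge
    have h2 : (⟨a, ha⟩ : ↥(P : Subgroup G)) ∈ Z₀ :=
      Subgroup.mem_center_iff.2 fun b => Subtype.ext (hac _ b.2)
    rw [← h1, Subgroup.mem_zpowers_iff] at h2
    obtain ⟨i, hi⟩ := h2
    exact Subgroup.mem_zpowers_iff.2 ⟨i, by simpa using congrArg Subtype.val hi⟩
  have hbr : ∀ a ∈ (P : Subgroup G), ∀ b ∈ (P : Subgroup G), a * b * a⁻¹ * b⁻¹ ∈ Z :=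
    fun a ha b hb => hcentral _ ((P : Subgroup G).mul_mem ((P : Subgroup G).mul_mem
      ((P : Subgroup G).mul_mem ha hb) ((P : Subgroup G).inv_mem ha)) ((P : Subgroup G).inv_mem hb))
      (hcomZ a ha b hb)
  have hxZ : x ∉ Z := fun h => by
    obtain ⟨i, hi⟩ := Subgroup.mem_zpowers_iff.1 h
    exact hxu (by rw [← hi]; exact (Commute.zpow_right (hzc u huP) i).eq.symm)
  have hxo : orderOf x = p := orderOf_eq_prime (hexp x hxP) fun h => hxu (by rw [h, one_mul, mul_one])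
  have hxz : Commute x z := hzc x hxP
  -- the group A
  set A := Z ⊔ Subgroup.zpowers x with hA
  have hAP : A ≤ (P : Subgroup G) :=
    sup_le (Subgroup.zpowers_le.2 hzP) (Subgroup.zpowers_le.2 hxP)
  have hzA : z ∈ A := le_sup_left (b := Subgroup.zpowers x) (Subgroup.mem_zpowers z)
  have hxA : x ∈ A := le_sup_right (a := Z) (Subgroup.mem_zpowers x)
  have hAcentz : A ≤ Subgroup.centralizer ({x} : Set G) := by
    refine sup_le (Subgroup.zpowers_le.2 ?_) (Subgroup.zpowers_le.2 ?_) <;>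
      rw [Subgroup.mem_centralizer_singleton_iff]
    exact hxz.symm.eq
  have hAcard : Nat.card A = p ^ 2 := by
    have hxn : (⟨x, hxP⟩ : ↥(P : Subgroup G)) ∈
        Subgroup.normalizer ((Subgroup.zpowers (⟨z, hzP⟩ : ↥(P : Subgroup G))) : Set ↥(P : Subgroup G)) := by
      refine CfsgLib.StructB.mem_normalizer_of_conj_le fun a ha => ?_
      obtain ⟨i, rfl⟩ := Subgroup.mem_zpowers_iff.1 ha
      have h1 : Commute (⟨x, hxP⟩ : ↥(P : Subgroup G)) ⟨z, hzP⟩ := Subtype.ext (hzc x hxP)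
      rw [(h1.zpow_right i).eq, mul_inv_cancel_right]
      exact ha
    have hnot : (⟨x, hxP⟩ : ↥(P : Subgroup G)) ∉ Subgroup.zpowers (⟨z, hzP⟩ : ↥(P : Subgroup G)) := by
      intro h
      obtain ⟨i, hi⟩ := Subgroup.mem_zpowers_iff.1 h
      exact hxZ (Subgroup.mem_zpowers_iff.2 ⟨i, by simpa using congrArg Subtype.val hi⟩)
    have h := CfsgLib.StructB.soi_card_sup hPg hnot (Subtype.ext (hexp x hxP)) hxn
    have hmap : (Subgroup.zpowers (⟨z, hzP⟩ : ↥(P : Subgroup G)) ⊔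
        Subgroup.zpowers (⟨x, hxP⟩ : ↥(P : Subgroup G))).map (P : Subgroup G).subtype = A := by
      rw [Subgroup.map_sup, MonoidHom.map_zpowers, MonoidHom.map_zpowers]
      rfl
    rw [← hmap, Subgroup.card_map_of_injective (P : Subgroup G).subtype_injective, h,
      Nat.card_zpowers, ← Subgroup.orderOf_coe, pow_two]
    show orderOf z * p = p * p
    rw [hzo]
  -- elements of P commuting with x lie in A
  have hCx : ∀ b ∈ (P : Subgroup G), b * x = x * b → b ∈ A := by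
    intro b hb hbx
    have h1 : A ≤ (P : Subgroup G) ⊓ Subgroup.centralizer ({x} : Set G) := le_inf hAP hAcentz
    obtain ⟨j, hj⟩ := (hPg.to_le (inf_le_left : (P : Subgroup G) ⊓ Subgroup.centralizer ({x} : Set G) ≤ _)).exists_card_eq
    have h2 : j ≤ 2 := by
      by_contra hh
      have h3 : (P : Subgroup G) ⊓ Subgroup.centralizer ({x} : Set G) = (P : Subgroup G) :=
        Subgroup.eq_of_le_of_card_ge inf_le_left (by
          rw [hj, show Nat.card ↥(P : Subgroup G) = p ^ 3 from hcard]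
          exact Nat.pow_le_pow_right hp.pos (by omega))
      exact hxu (Subgroup.mem_centralizer_singleton_iff.1 (h3.ge huP).2).symm
    have h4 : A = (P : Subgroup G) ⊓ Subgroup.centralizer ({x} : Set G) :=
      Subgroup.eq_of_le_of_card_ge h1 (by
        rw [hj, hAcard]; exact Nat.pow_le_pow_right hp.pos h2)
    exact h4.ge ⟨hb, Subgroup.mem_centralizer_singleton_iff.2 hbx⟩
  -- a second Sylow subgroup through A, centralising x
  obtain ⟨g, hg⟩ := hD p hp Z (Subgroup.zpowers x)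
    (hPg.to_le (Subgroup.zpowers_le.2 hzP)) (hPg.to_le (Subgroup.zpowers_le.2 hxP))
    (by rw [hZc, Nat.card_zpowers, hxo])
  have hPgC : (P : Subgroup G).map (MulAut.conj g).toMonoidHom ≤ Subgroup.centralizer ({x} : Set G) := by
    rintro _ ⟨a, ha, rfl⟩
    rw [Subgroup.mem_centralizer_singleton_iff]
    obtain ⟨w, hw, hwx⟩ := hg.le (Subgroup.mem_zpowers x)
    obtain ⟨i, rfl⟩ := Subgroup.mem_zpowers_iff.1 hw
    rw [← hwx]
    show MulAut.conj g a * MulAut.conj g (z ^ i) = MulAut.conj g (z ^ i) * MulAut.conj g a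
    rw [← map_mul, ← map_mul, (Commute.zpow_right (hzc a ha) i).eq]
  obtain ⟨R, hRc, hAR, hRx⟩ : ∃ R : Subgroup G, Nat.card R = p ^ 3 ∧ A ≤ R ∧
      R ≤ Subgroup.centralizer ({x} : Set G) := by
    set C := Subgroup.centralizer ({x} : Set G)
    have hpA : IsPGroup p ↥(A.subgroupOf C) :=
      (hPg.to_le hAP).comap_of_injective C.subtype C.subtype_injective
    obtain ⟨R₀, hR₀⟩ := hpA.exists_le_sylow
    refine ⟨(R₀ : Subgroup ↥C).map C.subtype, le_antisymm ?_ ?_, ?_, Subgroup.map_subtype_le _⟩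
    · obtain ⟨Q, hQ⟩ := (R₀.isPGroup'.map C.subtype).exists_le_sylow
      refine (Subgroup.card_le_of_le hQ).trans ?_
      rw [← hcard, Nat.card_congr (Sylow.equiv Q P).toEquiv]
    · rw [Subgroup.card_map_of_injective C.subtype_injective]
      have h1 : Nat.card ↥((P : Subgroup G).map (MulAut.conj g).toMonoidHom) = p ^ 3 := by
        rw [Subgroup.card_map_of_injective (MulAut.conj g).injective]; exact hcard
      have h2 : p ^ 3 ∣ Nat.card C := h1 ▸ Subgroup.card_dvd_of_le hPgC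
      exact Nat.le_of_dvd Nat.card_pos (R₀.pow_dvd_card_of_pow_dvd_card h2)
    · intro a ha
      exact ⟨⟨a, hAcentz ha⟩, hR₀ (Subgroup.mem_subgroupOf.2 ha), rfl⟩
  have hRp : IsPGroup p R := IsPGroup.of_card hRc
  obtain ⟨g₁, hg₁⟩ := hD p hp (P : Subgroup G) R hPg hRp
    (by rw [hRc]; exact hcard)
  have hcent : ∀ a ∈ R, (∀ b ∈ R, b * a = a * b) → g₁⁻¹ * a * g₁ ∈ Z := by
    intro a ha hac
    rw [hg₁] at ha hac
    obtain ⟨a₀, ha₀, rfl⟩ := ha
    rw [show g₁⁻¹ * (MulAut.conj g₁).toMonoidHom a₀ * g₁ = a₀ by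
      show g₁⁻¹ * (g₁ * a₀ * g₁⁻¹) * g₁ = a₀
      group]
    refine hcentral a₀ ha₀ fun b hb => ?_
    have h := hac _ ⟨b, hb, rfl⟩
    rw [← map_mul, ← map_mul] at h
    exact (MulAut.conj g₁).injective h
  have hxR : g₁⁻¹ * x * g₁ ∈ Z := hcent x (hAR hxA) fun b hb =>
    Subgroup.mem_centralizer_singleton_iff.1 (hRx hb)
  obtain ⟨v, hvR, hvz⟩ : ∃ v ∈ R, v * z ≠ z * v := by
    by_contra hh
    push Not at hh
    have h1 : g₁⁻¹ * z * g₁ ∈ Z := hcent z (hAR hzA) hh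
    have h2 : A ≤ Z.map (MulAut.conj g₁).toMonoidHom := by
      refine sup_le (Subgroup.zpowers_le.2 ⟨_, h1, ?_⟩) (Subgroup.zpowers_le.2 ⟨_, hxR, ?_⟩)
      · show g₁ * (g₁⁻¹ * z * g₁) * g₁⁻¹ = z; group
      · show g₁ * (g₁⁻¹ * x * g₁) * g₁⁻¹ = x; group
    have h3 := Subgroup.card_le_of_le h2
    rw [hAcard, Subgroup.card_map_of_injective (MulAut.conj g₁).injective, hZc] at h3
    nlinarith [hp.two_le]
  have hvx : v * x * v⁻¹ = x := by
    rw [Subgroup.mem_centralizer_singleton_iff.1 (hRx hvR), mul_inv_cancel_right]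
  obtain ⟨e, he⟩ : ∃ e : ℕ, v * z * v⁻¹ = x ^ e * z := by
    have h1 : g₁⁻¹ * (v * z * v⁻¹ * z⁻¹) * g₁ ∈ Z := by
      have hv' := hg₁.le hvR
      have hz' := hg₁.le (hAR hzA)
      obtain ⟨v₀, hv₀, hv₀'⟩ := hv'
      obtain ⟨z₀, hz₀, hz₀'⟩ := hz'
      have h := hbr v₀ hv₀ z₀ hz₀
      rw [← hv₀', ← hz₀']
      convert h using 1
      show g₁⁻¹ * (g₁ * v₀ * g₁⁻¹ * (g₁ * z₀ * g₁⁻¹) * (g₁ * v₀ * g₁⁻¹)⁻¹ * (g₁ * z₀ * g₁⁻¹)⁻¹) * g₁ = _
      group
    have hgen : Subgroup.zpowers (g₁⁻¹ * x * g₁) = Z := by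
      refine Subgroup.eq_of_le_of_card_ge (Subgroup.zpowers_le.2 hxR) ?_
      have : orderOf (g₁⁻¹ * x * g₁) = p := by
        rw [show g₁⁻¹ * x * g₁ = MulAut.conj g₁⁻¹ x by simp, MulEquiv.orderOf_eq, hxo]
      rw [hZc, Nat.card_zpowers, this]
    rw [← hgen] at h1
    obtain ⟨e, he⟩ := mem_powers_iff_mem_zpowers.2 h1
    refine ⟨e, ?_⟩
    simp only at he
    rw [show g₁⁻¹ * x * g₁ = g₁⁻¹ * x * (g₁⁻¹)⁻¹ by rw [inv_inv],
      conj_pow, inv_inv, mul_left_inj, mul_right_inj] at he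
    rw [he, inv_mul_cancel_right]
  have hep : ¬ p ∣ e := by
    intro h
    obtain ⟨k, rfl⟩ := h
    rw [pow_mul, hexp x hxP, one_pow, one_mul, mul_inv_eq_iff_eq_mul] at he
    exact hvz he
  obtain ⟨m, hm⟩ : ∃ m : ℕ, x ^ (e * m) = x⁻¹ := by
    obtain ⟨m, hm⟩ := ((Nat.Prime.coprime_iff_not_dvd hp).2 hep).symm |> fun h =>
      (⟨((-1 : ZMod p) * (e : ZMod p)⁻¹).val, by
        rw [Nat.cast_mul, ZMod.natCast_zmod_val, mul_left_comm, ZMod.mul_inv_of_unit _ (by
          rwa [ZMod.isUnit_iff_coprime]), mul_one]⟩ :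
        ∃ m : ℕ, ((e * m : ℕ) : ZMod p) = -1)
    refine ⟨m, ?_⟩
    rw [eq_inv_iff_mul_eq_one, ← pow_succ, ← orderOf_dvd_iff_pow_eq_one, hxo,
      ← ZMod.natCast_eq_zero_iff, Nat.cast_add, hm, Nat.cast_one, neg_add_cancel]
  set v' := v ^ m with hv'
  have hv'z : v' * z * v'⁻¹ = x⁻¹ * z := by
    have h1 : v * x ^ e * v⁻¹ = x ^ e := by rw [← conj_pow, hvx]
    rw [hv', conj_pow_fix h1 he m, ← pow_mul, hm]
  have hv'x : v' * x * v'⁻¹ = x := by
    have : Commute v x := Subgroup.mem_centralizer_singleton_iff.1 (hRx hvR)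
    rw [hv', (this.pow_left m).eq, mul_inv_cancel_right]
  have huz : u * z * u⁻¹ = z := by rw [hzc u huP, mul_inv_cancel_right]
  have hux : u * x * u⁻¹ = z * x := by rw [hz, inv_mul_cancel_right]
  -- t acts on A as inversion
  set w := u * v' * u with hw
  set t := w * w with ht
  have hwz : w * z * w⁻¹ = x⁻¹ := by
    calc w * z * w⁻¹ = u * (v' * (u * z * u⁻¹) * v'⁻¹) * u⁻¹ := by rw [hw]; group
      _ = u * (x⁻¹ * z) * u⁻¹ := by rw [huz, hv'z]
      _ = (u * x * u⁻¹)⁻¹ * (u * z * u⁻¹) := by group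
      _ = x⁻¹ := by rw [hux, huz, mul_inv_rev, inv_mul_cancel_right]
  have hwx : w * x * w⁻¹ = z := by
    calc w * x * w⁻¹ = u * (v' * (u * x * u⁻¹) * v'⁻¹) * u⁻¹ := by rw [hw]; group
      _ = u * ((v' * z * v'⁻¹) * (v' * x * v'⁻¹)) * u⁻¹ := by rw [hux]; group
      _ = u * (x⁻¹ * (z * x)) * u⁻¹ := by rw [hv'z, hv'x]; group
      _ = z := by rw [← hxz.eq, inv_mul_cancel_left, huz]
  have htz : t * z * t⁻¹ = z⁻¹ := by
    calc t * z * t⁻¹ = w * (w * z * w⁻¹) * w⁻¹ := by rw [ht]; group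
      _ = (w * x * w⁻¹)⁻¹ := by rw [hwz]; group
      _ = z⁻¹ := by rw [hwx]
  have htx : t * x * t⁻¹ = x⁻¹ := by
    calc t * x * t⁻¹ = w * (w * x * w⁻¹) * w⁻¹ := by rw [ht]; group
      _ = x⁻¹ := by rw [hwx, hwz]
  -- Frattini
  let S₁ : Subgroup G :=
    { carrier := {a | a * z * a⁻¹ = z ∧ a * x * a⁻¹ * x⁻¹ ∈ Z}
      one_mem' := ⟨by group, by simp⟩
      mul_mem' := fun {a b} ha hb => by
        refine ⟨?_, ?_⟩
        · rw [show a * b * z * (a * b)⁻¹ = a * (b * z * b⁻¹) * a⁻¹ by group, hb.1, ha.1]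
        · rw [show a * b * x * (a * b)⁻¹ * x⁻¹ =
            (a * (b * x * b⁻¹ * x⁻¹) * a⁻¹) * (a * x * a⁻¹ * x⁻¹) by group]
          refine Z.mul_mem ?_ ha.2
          obtain ⟨i, hi⟩ := Subgroup.mem_zpowers_iff.1 hb.2
          rw [← hi, ← conj_zpow, ha.1]
          exact Z.zpow_mem (Subgroup.mem_zpowers z) i
      inv_mem' := fun {a} ha => by
        refine ⟨?_, ?_⟩
        · nth_rw 1 [← ha.1]; group
        · obtain ⟨i, hi⟩ := Subgroup.mem_zpowers_iff.1 ha.2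
          have h1 : a * x * a⁻¹ = z ^ i * x := by rw [hi, inv_mul_cancel_right]
          have h2 : a⁻¹ * z * a⁻¹⁻¹ = z := by nth_rw 1 [← ha.1]; group
          have h3 : x = a⁻¹ * z ^ i * a⁻¹⁻¹ * (a⁻¹ * x * a⁻¹⁻¹) := by
            rw [show a⁻¹ * z ^ i * a⁻¹⁻¹ * (a⁻¹ * x * a⁻¹⁻¹) = a⁻¹ * (z ^ i * x) * a by group, ← h1]
            group
          rw [← conj_zpow, h2] at h3
          have h4 : a⁻¹ * x * a⁻¹⁻¹ = (z ^ i)⁻¹ * x := eq_inv_mul_of_mul_eq h3.symm
          rw [h4, mul_inv_cancel_right]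
          exact Z.inv_mem (Z.zpow_mem (Subgroup.mem_zpowers z) i) }
  have hPS : (P : Subgroup G) ≤ S₁ := fun a ha =>
    ⟨by rw [hzc a ha, mul_inv_cancel_right], hbr a ha x hxP⟩
  have htPS : (P : Subgroup G).map (MulAut.conj t).toMonoidHom ≤ S₁ := by
    rintro _ ⟨a, ha, rfl⟩
    obtain ⟨h1, h2⟩ := hPS ha
    show (t * a * t⁻¹) * z * (t * a * t⁻¹)⁻¹ = z ∧ (t * a * t⁻¹) * x * (t * a * t⁻¹)⁻¹ * x⁻¹ ∈ Z
    have hz' : t⁻¹ * z * t = z⁻¹ := by
      have := congrArg (fun q => t⁻¹ * q⁻¹ * t) htz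
      simp only [inv_inv] at this
      rw [← this]; group
    have hx' : t⁻¹ * x * t = x⁻¹ := by
      have := congrArg (fun q => t⁻¹ * q⁻¹ * t) htx
      simp only [inv_inv] at this
      rw [← this]; group
    refine ⟨?_, ?_⟩
    · calc (t * a * t⁻¹) * z * (t * a * t⁻¹)⁻¹ = t * (a * (t⁻¹ * z * t) * a⁻¹) * t⁻¹ := by group
        _ = t * (a * z * a⁻¹)⁻¹ * t⁻¹ := by rw [hz']; group
        _ = (t * z * t⁻¹)⁻¹ := by rw [h1]; group
        _ = z := by rw [htz, inv_inv]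
    · obtain ⟨i, hi⟩ := Subgroup.mem_zpowers_iff.1 h2
      have hax : a * x * a⁻¹ = z ^ i * x := by rw [hi, inv_mul_cancel_right]
      have h3 : (t * a * t⁻¹) * x * (t * a * t⁻¹)⁻¹ = x * z ^ i := by
        calc (t * a * t⁻¹) * x * (t * a * t⁻¹)⁻¹ = t * (a * (t⁻¹ * x * t) * a⁻¹) * t⁻¹ := by group
          _ = t * (a * x * a⁻¹)⁻¹ * t⁻¹ := by rw [hx']; group
          _ = ((t * z * t⁻¹) ^ i * (t * x * t⁻¹))⁻¹ := by rw [hax, conj_zpow]; group
          _ = x * z ^ i := by rw [htz, htx]; simp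
      rw [h3, (hxz.zpow_right i).eq, mul_inv_cancel_right]
      exact Z.zpow_mem (Subgroup.mem_zpowers z) i
  obtain ⟨n, hnP, hnz, hnx⟩ : ∃ n ∈ Subgroup.normalizer ((P : Subgroup G) : Set G),
      n * z * n⁻¹ = z⁻¹ ∧ ∃ i : ℤ, n * x * n⁻¹ = z ^ i * x⁻¹ := by
    let P₁ : Sylow p ↥S₁ := P.subtype hPS
    have hP' : IsPGroup p ↥(((P : Subgroup G).map (MulAut.conj t).toMonoidHom).subgroupOf S₁) :=
      (hPg.map _).comap_of_injective S₁.subtype S₁.subtype_injective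
    obtain ⟨P₂, hP₂⟩ := hP'.exists_le_sylow
    obtain ⟨c, hc⟩ := MulAction.exists_smul_eq ↥S₁ P₂ P₁
    obtain ⟨hc1, hc2⟩ := c.2
    refine ⟨(c : G) * t, ?_, ?_, ?_⟩
    · refine CfsgLib.StructB.mem_normalizer_of_conj_le fun a ha => ?_
      have hta : t * a * t⁻¹ ∈ (P : Subgroup G).map (MulAut.conj t).toMonoidHom := ⟨a, ha, rfl⟩
      have h1 : (⟨t * a * t⁻¹, htPS hta⟩ : ↥S₁) ∈ (P₂ : Subgroup ↥S₁) :=
        hP₂ (Subgroup.mem_subgroupOf.2 hta)
      have h2 : c * ⟨t * a * t⁻¹, htPS hta⟩ * c⁻¹ ∈ (P₁ : Subgroup ↥S₁) := by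
        rw [← hc, Sylow.coe_subgroup_smul]
        exact Subgroup.smul_mem_pointwise_smul _ (MulAut.conj c) _ h1
      have h3 : (c : G) * (t * a * t⁻¹) * (c : G)⁻¹ ∈ (P : Subgroup G) :=
        Subgroup.mem_subgroupOf.1 h2
      rwa [show (c : G) * t * a * ((c : G) * t)⁻¹ = (c : G) * (t * a * t⁻¹) * (c : G)⁻¹ by group]
    · rw [show (c : G) * t * z * ((c : G) * t)⁻¹ = (c : G) * (t * z * t⁻¹) * (c : G)⁻¹ by group, htz]
      rw [show (c : G) * z⁻¹ * (c : G)⁻¹ = ((c : G) * z * (c : G)⁻¹)⁻¹ by group, hc1]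
    · obtain ⟨i, hi⟩ := Subgroup.mem_zpowers_iff.1 hc2
      refine ⟨-i, ?_⟩
      rw [show (c : G) * t * x * ((c : G) * t)⁻¹ = (c : G) * (t * x * t⁻¹) * (c : G)⁻¹ by group, htx,
        show (c : G) * x⁻¹ * (c : G)⁻¹ = ((c : G) * x * (c : G)⁻¹)⁻¹ by group,
        show (c : G) * x * (c : G)⁻¹ = z ^ i * x by rw [hi, inv_mul_cancel_right],
        mul_inv_rev, ← zpow_neg, ((hxz.inv_left).zpow_right (-i)).eq]
  -- the 2-part
  obtain ⟨h, hhP, hh2, hhz, hhx⟩ : ∃ h ∈ Subgroup.normalizer ((P : Subgroup G) : Set G),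
      (∃ j : ℕ, orderOf h = 2 ^ j) ∧ h * z * h⁻¹ = z⁻¹ ∧ ∃ i : ℤ, h * x * h⁻¹ = z ^ i * x⁻¹ := by
    obtain ⟨j, r, hr, hjr⟩ := Nat.exists_eq_two_pow_mul_odd (orderOf_pos n).ne'
    obtain ⟨k, rfl⟩ := hr
    refine ⟨n ^ (2 * k + 1), Subgroup.pow_mem _ hnP _, ⟨j, ?_⟩, ?_⟩
    · rw [orderOf_pow_of_dvd (by omega) (hjr ▸ Dvd.intro_left _ rfl), hjr,
        Nat.mul_div_cancel _ (by omega)]
    obtain ⟨i, hi⟩ := hnx
    clear hjr
    induction k with
    | zero => simpa using ⟨hnz, i, hi⟩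
    | succ k ih =>
      obtain ⟨h1, l, h2⟩ := ih
      set q := n ^ (2 * k + 1)
      have e1 : n ^ (2 * (k + 1) + 1) = n * (n * q) := by
        rw [← pow_succ', ← pow_succ']
        congr 1
      have f1 : n * q * z * (n * q)⁻¹ = z := by
        rw [show n * q * z * (n * q)⁻¹ = n * (q * z * q⁻¹) * n⁻¹ by group, h1,
          show n * z⁻¹ * n⁻¹ = (n * z * n⁻¹)⁻¹ by group, hnz, inv_inv]
      have f2 : n * q * x * (n * q)⁻¹ = (z⁻¹) ^ l * (z ^ i * x⁻¹)⁻¹ := by
        rw [show n * q * x * (n * q)⁻¹ = n * (q * x * q⁻¹) * n⁻¹ by group, h2,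
          show n * (z ^ l * x⁻¹) * n⁻¹ = (n * z ^ l * n⁻¹) * (n * x * n⁻¹)⁻¹ by group,
          ← conj_zpow, hnz, hi]
      rw [e1]
      refine ⟨?_, ?_⟩
      · rw [show n * (n * q) * z * (n * (n * q))⁻¹ = n * (n * q * z * (n * q)⁻¹) * n⁻¹ by group, f1, hnz]
      · refine ⟨l + i + i, ?_⟩
        rw [show n * (n * q) * x * (n * (n * q))⁻¹ = n * (n * q * x * (n * q)⁻¹) * n⁻¹ by group, f2,
          show n * ((z⁻¹) ^ l * (z ^ i * x⁻¹)⁻¹) * n⁻¹ =
            (n * z⁻¹ * n⁻¹) ^ l * ((n * z * n⁻¹) ^ i * (n * x * n⁻¹)⁻¹)⁻¹ by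
            rw [conj_zpow, conj_zpow]; group,
          show n * z⁻¹ * n⁻¹ = (n * z * n⁻¹)⁻¹ by group, hnz, hi, inv_inv, mul_inv_rev, inv_inv, inv_zpow, inv_inv, zpow_add, zpow_add]
        have hc : Commute x⁻¹ (z ^ i) := (hxz.inv_left).zpow_right i
        rw [mul_assoc (z ^ i) x⁻¹ (z ^ i), hc.eq]
        simp only [mul_assoc]
  obtain ⟨i₀, hhx⟩ := hhx
  have hhA : ∀ b ∈ (P : Subgroup G), h * b * h⁻¹ * b⁻¹ ∈ A := by
    intro b hb
    have hb' : h * b * h⁻¹ ∈ (P : Subgroup G) := (Subgroup.mem_normalizer_iff.1 hhP b).1 hb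
    obtain ⟨i, hi⟩ := Subgroup.mem_zpowers_iff.1 (hbr b hb x hxP)
    have hbx : b * x * b⁻¹ = z ^ i * x := by rw [hi, inv_mul_cancel_right]
    set b' := h * b * h⁻¹ with hb'd
    have e1 : b' * (z ^ i₀ * x⁻¹) * b'⁻¹ = (z⁻¹) ^ i * (z ^ i₀ * x⁻¹) := by
      rw [← hhx]
      calc b' * (h * x * h⁻¹) * b'⁻¹ = h * (b * x * b⁻¹) * h⁻¹ := by rw [hb'd]; group
        _ = (h * z * h⁻¹) ^ i * (h * x * h⁻¹) := by rw [hbx, conj_zpow]; group
        _ = _ := by rw [hhz]
    have e2 : b' * z ^ i₀ * b'⁻¹ = z ^ i₀ := by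
      rw [(Commute.zpow_right (hzc b' hb') i₀).eq, mul_inv_cancel_right]
    have e3 : b' * x⁻¹ * b'⁻¹ = (z⁻¹) ^ i * x⁻¹ := by
      rw [show b' * (z ^ i₀ * x⁻¹) * b'⁻¹ = (b' * z ^ i₀ * b'⁻¹) * (b' * x⁻¹ * b'⁻¹) by group, e2] at e1
      have hc : (z⁻¹) ^ i * z ^ i₀ = z ^ i₀ * (z⁻¹) ^ i := by
        rw [inv_zpow, ← zpow_neg, ← zpow_add, ← zpow_add, add_comm]
      rw [← mul_assoc ((z⁻¹) ^ i), hc, mul_assoc (z ^ i₀) ((z⁻¹) ^ i)] at e1
      exact mul_left_cancel e1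
    have e4 : b' * x * b'⁻¹ = z ^ i * x := by
      rw [show b' * x * b'⁻¹ = (b' * x⁻¹ * b'⁻¹)⁻¹ by group, e3, mul_inv_rev, inv_inv, inv_zpow,
        inv_inv, (hxz.zpow_right i).eq]
    refine hCx _ ((P : Subgroup G).mul_mem hb' ((P : Subgroup G).inv_mem hb)) ?_
    rw [show b' * b⁻¹ * x = b' * (b⁻¹ * x * b) * b⁻¹ by group,
      show b⁻¹ * x * b = (z ^ i)⁻¹ * x by
        rw [eq_inv_mul_iff_mul_eq]
        have : z ^ i * b⁻¹ = b⁻¹ * z ^ i := (Commute.zpow_left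
          (show Commute z b⁻¹ from (Commute.inv_left (hzc b hb)).symm) i).eq
        rw [← mul_assoc, ← mul_assoc, this, mul_assoc b⁻¹, ← hbx]
        group,
      show b' * ((z ^ i)⁻¹ * x) * b⁻¹ = (b' * (z ^ i)⁻¹ * b'⁻¹) * (b' * x * b'⁻¹) * (b' * b⁻¹) by group,
      e4, ← zpow_neg, (Commute.zpow_right (hzc b' hb') (-i)).eq, mul_inv_cancel_right]
    group
  -- orbit of A under the normalizer of P
  set K := Subgroup.normalizer ((P : Subgroup G) : Set G) with hK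
  let ρ : ↥K →* MulAut G := MulAut.conj.comp K.subtype
  letI : MulAction ↥K (Subgroup G) := MulAction.compHom (Subgroup G) ρ
  have hsmul : ∀ (k : ↥K) (B : Subgroup G), k • B = B.map (MulAut.conj (k : G)).toMonoidHom :=
    fun _ _ => rfl
  have horb : MulAction.orbit ↥K A = {B : Subgroup G | B ≤ (P : Subgroup G) ∧ Nat.card B = p ^ 2} := by
    ext B
    constructor
    · rintro ⟨k, rfl⟩
      show k • A ≤ (P : Subgroup G) ∧ Nat.card ↥(k • A) = p ^ 2
      rw [hsmul]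
      refine ⟨?_, by rw [Subgroup.card_map_of_injective (MulAut.conj (k : G)).injective, hAcard]⟩
      rintro _ ⟨a, ha, rfl⟩
      exact (Subgroup.mem_normalizer_iff.1 k.2 a).1 (hAP ha)
    · rintro ⟨hBP, hBc⟩
      obtain ⟨g₂, hg₂⟩ := hD p hp A B (hPg.to_le hAP) (hPg.to_le hBP) (by rw [hAcard, hBc])
      have hnor : ∀ D : Subgroup G, D ≤ (P : Subgroup G) → Nat.card D = p ^ 2 →
          (P : Subgroup G) ≤ Subgroup.normalizer (D : Set G) := by
        intro D hD' hDc a ha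
        refine CfsgLib.StructB.mem_normalizer_of_conj_le fun d hd => ?_
        have hzD : z ∈ D := by
          by_contra hzD
          have hnot : (⟨z, hzP⟩ : ↥(P : Subgroup G)) ∉ D.subgroupOf (P : Subgroup G) := hzD
          have hcard' : Nat.card (D.subgroupOf (P : Subgroup G)) = p ^ 2 := by
            rw [Nat.card_congr (Subgroup.subgroupOfEquivOfLe hD').toEquiv, hDc]
          have h1 : D.subgroupOf (P : Subgroup G) ⊔ Subgroup.zpowers (⟨z, hzP⟩ : ↥(P : Subgroup G)) = ⊤ := by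
            refine Subgroup.eq_top_of_le_card _ ?_
            rw [hcard]
            refine le_trans ?_ (CfsgLib.StructB.soi_card_mul_le hPg
              (left_lt_sup.2 fun h => hnot (h (Subgroup.mem_zpowers _))))
            rw [hcard', ← pow_succ]
          have h3 := CfsgLib.StructB.sup_zpowers_comm (A := D.subgroupOf (P : Subgroup G))
            (y := (⟨z, hzP⟩ : ↥(P : Subgroup G)))
            (by
              intro a ha b hb
              exact congrArg Subtype.val (IsPGroup.commutative_of_card_eq_prime_sq hcard'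
                ⟨a, ha⟩ ⟨b, hb⟩))
            (fun a _ => Subtype.ext (hzc _ a.2))
          rw [h1] at h3
          exact hxu (congrArg Subtype.val (h3 ⟨x, hxP⟩ (Subgroup.mem_top _) ⟨u, huP⟩ (Subgroup.mem_top _)))
        rw [show a * d * a⁻¹ = (a * d * a⁻¹ * d⁻¹) * d by rw [inv_mul_cancel_right]]
        exact D.mul_mem ((Subgroup.zpowers_le.2 hzD) (hbr a ha d (hD' hd))) hd
      set N := Subgroup.normalizer (B : Set G) with hN
      have h1 : (P : Subgroup G) ≤ N := hnor B hBP hBc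
      have h2 : (P : Subgroup G).map (MulAut.conj g₂).toMonoidHom ≤ N := by
        rintro _ ⟨a, ha, rfl⟩
        refine CfsgLib.StructB.mem_normalizer_of_conj_le fun b hb => ?_
        rw [hg₂] at hb ⊢
        obtain ⟨a', ha', rfl⟩ := hb
        refine ⟨a * a' * a⁻¹, (Subgroup.mem_normalizer_iff.1 (hnor A hAP hAcard ha) a').1 ha', ?_⟩
        simp [map_mul, map_inv]
      let P₁ : Sylow p ↥N := P.subtype h1
      have hP' : IsPGroup p ↥(((P : Subgroup G).map (MulAut.conj g₂).toMonoidHom).subgroupOf N) :=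
        (hPg.map _).comap_of_injective N.subtype N.subtype_injective
      obtain ⟨P₂, hP₂⟩ := hP'.exists_le_sylow
      obtain ⟨c, hc⟩ := MulAction.exists_smul_eq ↥N P₂ P₁
      have hk : (c : G) * g₂ ∈ K := by
        refine CfsgLib.StructB.mem_normalizer_of_conj_le fun a ha => ?_
        have hta : g₂ * a * g₂⁻¹ ∈ (P : Subgroup G).map (MulAut.conj g₂).toMonoidHom := ⟨a, ha, rfl⟩
        have h4 : c * ⟨g₂ * a * g₂⁻¹, h2 hta⟩ * c⁻¹ ∈ (P₁ : Subgroup ↥N) := by
          rw [← hc, Sylow.coe_subgroup_smul]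
          exact Subgroup.smul_mem_pointwise_smul _ (MulAut.conj c) _
            (hP₂ (Subgroup.mem_subgroupOf.2 hta))
        have h5 : (c : G) * (g₂ * a * g₂⁻¹) * (c : G)⁻¹ ∈ (P : Subgroup G) :=
          Subgroup.mem_subgroupOf.1 h4
        rwa [show (c : G) * g₂ * a * ((c : G) * g₂)⁻¹ = (c : G) * (g₂ * a * g₂⁻¹) * (c : G)⁻¹ by group]
      refine ⟨⟨(c : G) * g₂, hk⟩, ?_⟩
      show (⟨(c : G) * g₂, hk⟩ : ↥K) • A = B
      rw [hsmul]
      refine Subgroup.eq_of_le_of_card_ge ?_ (by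
        rw [Subgroup.card_map_of_injective (MulAut.conj _).injective, hAcard, hBc])
      rintro _ ⟨a, ha, rfl⟩
      have h6 : g₂ * a * g₂⁻¹ ∈ B := hg₂ ▸ ⟨a, ha, rfl⟩
      show (c : G) * g₂ * a * ((c : G) * g₂)⁻¹ ∈ B
      rw [show (c : G) * g₂ * a * ((c : G) * g₂)⁻¹ = (c : G) * (g₂ * a * g₂⁻¹) * (c : G)⁻¹ by group]
      exact (Subgroup.mem_normalizer_iff.1 c.2 _).1 h6
  have hzB : ∀ B ∈ MulAction.orbit ↥K A, z ∈ B := by
    rintro _ ⟨k, rfl⟩
    show z ∈ k • A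
    rw [hsmul]
    have hkz : (k : G)⁻¹ * z * (k : G) ∈ Z := by
      refine hcentral _ ((Subgroup.mem_normalizer_iff''.1 k.2 z).1 hzP) fun b hb => ?_
      have := hzc _ ((Subgroup.mem_normalizer_iff.1 k.2 b).1 hb)
      calc b * ((k : G)⁻¹ * z * (k : G)) = (k : G)⁻¹ * ((k : G) * b * (k : G)⁻¹ * z) * k := by group
        _ = _ := by rw [this]; group
    exact ⟨_, (le_sup_left (b := Subgroup.zpowers x) hkz : _ ∈ A), by
      show (k : G) * ((k : G)⁻¹ * z * (k : G)) * (k : G)⁻¹ = z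
      group⟩
  have heven : 2 ∣ (MulAction.stabilizer ↥K A).index := by
    rw [MulAction.index_stabilizer]
    haveI : Fintype G := Fintype.ofFinite G
    set O := MulAction.orbit ↥K A with hO
    set Ω : Finset G := Finset.univ.filter (fun a => a ∈ (P : Subgroup G) ∧ a ∉ Z) with hΩ
    set f : G → Subgroup G := fun a => Z ⊔ Subgroup.zpowers a with hf
    set Of : Finset (Subgroup G) := (Set.toFinite O).toFinset with hOf
    have hkey : ∀ B ∈ O, ∀ a ∈ Ω, (a ∈ B ↔ f a = B) := by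
      intro B hB a ha
      obtain ⟨haP, haZ⟩ := (Finset.mem_filter.1 ha).2
      constructor
      · intro h
        have hB' : B ≤ (P : Subgroup G) ∧ Nat.card B = p ^ 2 := horb.le hB
        have hle : f a ≤ B := sup_le (Subgroup.zpowers_le.2 (hzB B hB)) (Subgroup.zpowers_le.2 h)
        refine Subgroup.eq_of_le_of_card_ge hle ?_
        rw [hB'.2]
        obtain ⟨j, hj⟩ := (hPg.to_le (hle.trans hB'.1)).exists_card_eq
        have hlt : p < Nat.card ↥(f a) := by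
          rw [← hZc]
          by_contra hh
          exact haZ ((Subgroup.eq_of_le_of_card_ge (le_sup_left : Z ≤ f a) (Nat.le_of_not_lt hh)).ge
            (le_sup_right (a := Z) (Subgroup.mem_zpowers a)))
        rw [hj] at hlt ⊢
        refine Nat.pow_le_pow_right hp.pos ?_
        by_contra hh
        have := (Nat.pow_le_pow_right hp.pos (show j ≤ 1 by omega)).trans (pow_one p).le
        omega
      · intro h
        rw [← h]
        exact le_sup_right (a := Z) (Subgroup.mem_zpowers a)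
    have hmem : Set.MapsTo f (Ω : Set G) (Of : Set (Subgroup G)) := by
      intro a ha
      obtain ⟨haP, haZ⟩ := (Finset.mem_filter.1 (Finset.mem_coe.1 ha)).2
      rw [Finset.mem_coe, hOf, Set.Finite.mem_toFinset, horb]
      have hfP : f a ≤ (P : Subgroup G) :=
        sup_le (Subgroup.zpowers_le.2 hzP) (Subgroup.zpowers_le.2 haP)
      refine ⟨hfP, ?_⟩
      have hnot : (⟨a, haP⟩ : ↥(P : Subgroup G)) ∉ Subgroup.zpowers (⟨z, hzP⟩ : ↥(P : Subgroup G)) := by
        intro h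
        obtain ⟨i, hi⟩ := Subgroup.mem_zpowers_iff.1 h
        exact haZ (Subgroup.mem_zpowers_iff.2 ⟨i, by simpa using congrArg Subtype.val hi⟩)
      have h := CfsgLib.StructB.soi_card_sup hPg hnot (Subtype.ext (hexp a haP))
        (CfsgLib.StructB.mem_normalizer_of_conj_le fun b hb => by
          obtain ⟨i, rfl⟩ := Subgroup.mem_zpowers_iff.1 hb
          have h1 : Commute (⟨a, haP⟩ : ↥(P : Subgroup G)) ⟨z, hzP⟩ := Subtype.ext (hzc a haP)
          rw [(h1.zpow_right i).eq, mul_inv_cancel_right]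
          exact Subgroup.zpow_mem_zpowers _ i)
      have hmap : (Subgroup.zpowers (⟨z, hzP⟩ : ↥(P : Subgroup G)) ⊔
          Subgroup.zpowers (⟨a, haP⟩ : ↥(P : Subgroup G))).map (P : Subgroup G).subtype = f a := by
        rw [Subgroup.map_sup, MonoidHom.map_zpowers, MonoidHom.map_zpowers]
        rfl
      rw [← hmap, Subgroup.card_map_of_injective (P : Subgroup G).subtype_injective, h,
        Nat.card_zpowers, ← Subgroup.orderOf_coe, pow_two]
      show orderOf z * p = p * p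
      rw [hzo]
    have hZP : Z ≤ (P : Subgroup G) := Subgroup.zpowers_le.2 hzP
    have hncard : ∀ B : Subgroup G, Z ≤ B →
        (Finset.univ.filter (fun a => a ∈ B ∧ a ∉ Z)).card = Nat.card B - p := by
      intro B hB
      rw [← hZc, ← Set.ncard_coe_finset, show ((Finset.univ.filter (fun a => a ∈ B ∧ a ∉ Z) : Finset G) : Set G)
        = (B : Set G) \ (Z : Set G) by ext a; simp, Set.ncard_sdiff hB]
      rfl
    have hsum := Finset.card_eq_sum_card_fiberwise hmem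
    have hfib : ∀ B ∈ Of, (Ω.filter (fun a => f a = B)).card = p ^ 2 - p := by
      intro B hB
      have hB0 : B ∈ O := by simpa [hOf] using hB
      have hB' : B ≤ (P : Subgroup G) ∧ Nat.card B = p ^ 2 := horb.le hB0
      rw [← hB'.2, ← hncard B (Subgroup.zpowers_le.2 (hzB B hB0))]
      congr 1
      ext a
      simp only [Finset.mem_filter, Finset.mem_univ, true_and]
      constructor
      · rintro ⟨ha, hfa⟩
        exact ⟨(hkey B hB0 a ha).2 hfa, (Finset.mem_filter.1 ha).2.2⟩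
      · rintro ⟨haB, haZ⟩
        have ha : a ∈ Ω := Finset.mem_filter.2 ⟨Finset.mem_univ _, hB'.1 haB, haZ⟩
        exact ⟨ha, (hkey B hB0 a ha).1 haB⟩
    rw [Finset.sum_congr rfl hfib, Finset.sum_const, smul_eq_mul, hΩ, hncard _ hZP,
      show Nat.card ↥(P : Subgroup G) = p ^ 3 from hcard] at hsum
    have hO : O.ncard = Of.card := Set.ncard_eq_toFinset_card O
    have h3 : O.ncard = p + 1 := by
      rw [hO]
      have hsub : p ^ 3 - p = (p + 1) * (p ^ 2 - p) := by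
        have e : (p + 1) * (p ^ 2 - p) = p ^ 3 - p := by
          zify [Nat.le_self_pow (show 2 ≠ 0 by norm_num) p, Nat.le_self_pow (show 3 ≠ 0 by norm_num) p]
          ring
        exact e.symm
      rw [hsub] at hsum
      refine Nat.eq_of_mul_eq_mul_right (Nat.sub_pos_of_lt ?_) hsum.symm
      nlinarith [hp.two_le]
    rw [h3]
    exact Even.two_dvd ((hp.odd_of_ne_two hp2).add_one)
  -- a Sylow 2-subgroup of the normalizer containing h
  haveI : Fact (Nat.Prime 2) := ⟨Nat.prime_two⟩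
  have hhp : IsPGroup 2 ↥(Subgroup.zpowers (⟨h, hhP⟩ : ↥K)) := by
    obtain ⟨j, hj⟩ := hh2
    refine IsPGroup.of_card (n := j) ?_
    rw [Nat.card_zpowers, ← Subgroup.orderOf_coe]
    exact hj
  obtain ⟨T, hT⟩ := hhp.exists_le_sylow
  obtain ⟨s, hsT, hsA⟩ : ∃ s ∈ (T : Subgroup ↥K), s • A ≠ A := by
    by_contra hh
    push Not at hh
    exact T.not_dvd_index (heven.trans (Subgroup.index_dvd_of_le
      (fun s hs => MulAction.mem_stabilizer_iff.2 (hh s hs))))
  have hconj := two_conj hD (S := (T : Subgroup ↥K).map K.subtype) (T.isPGroup'.map _)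
    (h := h) (s := ((s : G))⁻¹) ⟨⟨h, hhP⟩, hT (Subgroup.mem_zpowers _), rfl⟩
    ⟨s⁻¹, (T : Subgroup ↥K).inv_mem hsT, rfl⟩
  rw [inv_inv] at hconj
  rw [hsmul] at hsA
  refine hsA (Subgroup.eq_of_le_of_card_ge ?_ (by
    rw [Subgroup.card_map_of_injective (MulAut.conj _).injective]))
  rintro _ ⟨a, ha, rfl⟩
  show (s : G) * a * (s : G)⁻¹ ∈ A
  set b := (s : G) * a * (s : G)⁻¹ with hb
  have hbP : b ∈ (P : Subgroup G) := (Subgroup.mem_normalizer_iff.1 s.2 a).1 (hAP ha)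
  -- h inverts A modulo Z
  have hinv : ∀ a ∈ A, h * a * h⁻¹ * a ∈ Z := by
    intro a ha
    have hle : A ≤ (P : Subgroup G) := hAP
    have hnor : h ∈ Subgroup.normalizer (Z : Set G) :=
      CfsgLib.StructB.mem_normalizer_of_conj_le fun c hc => by
        obtain ⟨i, rfl⟩ := Subgroup.mem_zpowers_iff.1 hc
        rw [← conj_zpow, hhz]
        exact Z.zpow_mem (Z.inv_mem (Subgroup.mem_zpowers z)) i
    rw [← SetLike.mem_coe, hA, Subgroup.coe_mul_of_right_le_normalizer_left _ _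
      (Subgroup.zpowers_le.2 (CfsgLib.StructB.mem_normalizer_of_conj_le fun c hc => by
        obtain ⟨i, rfl⟩ := Subgroup.mem_zpowers_iff.1 hc
        rw [(hxz.zpow_right i).eq, mul_inv_cancel_right]
        exact Z.zpow_mem (Subgroup.mem_zpowers z) i))] at ha
    obtain ⟨c, hc, d, hd, rfl⟩ := ha
    obtain ⟨i, rfl⟩ := Subgroup.mem_zpowers_iff.1 hc
    obtain ⟨j, rfl⟩ := Subgroup.mem_zpowers_iff.1 hd
    simp only
    have e1 : h * (z ^ i * x ^ j) * h⁻¹ = (h * z * h⁻¹) ^ i * (h * x * h⁻¹) ^ j := by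
      rw [conj_zpow, conj_zpow]; group
    rw [e1, hhz, hhx, (show Commute (z ^ i₀) x⁻¹ from ((hxz.inv_left).zpow_right i₀).symm).mul_zpow,
      (show Commute (z ^ i) (x ^ j) from (hxz.zpow_zpow j i).symm).eq]
    rw [show (z⁻¹) ^ i * ((z ^ i₀) ^ j * (x⁻¹) ^ j) * (x ^ j * z ^ i) =
      (z⁻¹) ^ i * (z ^ i₀) ^ j * ((x⁻¹) ^ j * x ^ j) * z ^ i by group, inv_zpow x j, inv_mul_cancel,
      mul_one]
    exact Z.mul_mem (Z.mul_mem (Z.zpow_mem (Z.inv_mem (Subgroup.mem_zpowers z)) i)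
      (Z.zpow_mem (Z.zpow_mem (Subgroup.mem_zpowers z) i₀) j)) (Z.zpow_mem (Subgroup.mem_zpowers z) i)
  have hinvB : h * b * h⁻¹ * b ∈ A := by
    have hsnor : ∀ c ∈ Z, (s : G) * c * (s : G)⁻¹ ∈ A := by
      intro c hc
      obtain ⟨i, rfl⟩ := Subgroup.mem_zpowers_iff.1 hc
      rw [← conj_zpow]
      refine A.zpow_mem (le_sup_left (b := Subgroup.zpowers x) ?_) i
      refine hcentral _ ((Subgroup.mem_normalizer_iff.1 s.2 z).1 hzP) fun c hc => ?_
      have := hzc _ ((Subgroup.mem_normalizer_iff''.1 s.2 c).1 hc)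
      calc c * ((s : G) * z * (s : G)⁻¹) = (s : G) * ((s : G)⁻¹ * c * (s : G) * z) * (s : G)⁻¹ := by group
        _ = _ := by rw [this]; group
    rcases hconj with hh | hh
    · have e : h * b * h⁻¹ * b = (s : G) * (h * a * h⁻¹ * a) * (s : G)⁻¹ := by
        calc h * b * h⁻¹ * b = (s : G) * (((s : G)⁻¹ * h * (s : G)) * a *
              ((s : G)⁻¹ * h * (s : G))⁻¹ * a) * (s : G)⁻¹ := by rw [hb]; group
          _ = _ := by rw [hh]
      rw [e]
      exact hsnor _ (hinv a ha)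
    · have hinv' : h⁻¹ * a * h⁻¹⁻¹ * a ∈ Z := by
        have h1 := hinv _ ((A.inv_mem ha))
        obtain ⟨i, hi⟩ := Subgroup.mem_zpowers_iff.1 (hinv a ha)
        have h2 : h * a * h⁻¹ = z ^ i * a⁻¹ := by rw [hi, mul_inv_cancel_right]
        have h3 : a = h⁻¹ * z ^ i * h * (h⁻¹ * a⁻¹ * h) := by
          rw [show h⁻¹ * z ^ i * h * (h⁻¹ * a⁻¹ * h) = h⁻¹ * (z ^ i * a⁻¹) * h by group, ← h2]
          group
        have h4 : h⁻¹ * z * h = z⁻¹ := by
          have := congrArg (fun q => h⁻¹ * q⁻¹ * h) hhz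
          simp only [inv_inv] at this
          rw [← this]; group
        rw [show h⁻¹ * z ^ i * h = (h⁻¹ * z * h) ^ i by
          conv_rhs => rw [show h⁻¹ * z * h = h⁻¹ * z * h⁻¹⁻¹ by rw [inv_inv], conj_zpow, inv_inv],
          h4] at h3
        rw [inv_inv, show h⁻¹ * a * h = (h⁻¹ * a⁻¹ * h)⁻¹ by group, eq_inv_mul_of_mul_eq h3.symm,
          mul_inv_rev, inv_inv, mul_assoc]
        have hcz : Commute ((z⁻¹) ^ i) a := (Commute.zpow_left
          ((show Commute a z from hzc a (hAP ha)).inv_right.symm) i)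
        rw [hcz.eq, inv_mul_cancel_left]
        exact Z.zpow_mem (Z.inv_mem (Subgroup.mem_zpowers z)) i
      have e : h * b * h⁻¹ * b = (s : G) * (h⁻¹ * a * h⁻¹⁻¹ * a) * (s : G)⁻¹ := by
        calc h * b * h⁻¹ * b = (s : G) * (((s : G)⁻¹ * h * (s : G)) * a *
              ((s : G)⁻¹ * h * (s : G))⁻¹ * a) * (s : G)⁻¹ := by rw [hb]; group
          _ = _ := by rw [hh]
      rw [e]
      exact hsnor _ hinv'
  have hb2 : b * b ∈ A := by
    have := A.mul_mem (A.inv_mem (hhA b hbP)) hinvB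
    rwa [show (h * b * h⁻¹ * b⁻¹)⁻¹ * (h * b * h⁻¹ * b) = b * b by group] at this
  have : b ^ p = 1 := hexp b hbP
  obtain ⟨k, hk⟩ := hp.odd_of_ne_two hp2
  have hbk : b = (b * b) ^ (k + 1) := by
    rw [← pow_two, ← pow_mul, show 2 * (k + 1) = p + 1 by omega, pow_succ, this, one_mul]
  rw [hbk]
  exact A.pow_mem hb2 _

/-- Let G be a finite group in which, for every prime p, any two p-subgroups of the same order are conjugate. Then every Sylow subgroup of G is cyclic, elementary abelian, or a quaternion group of order 8. -/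
theorem result {G : Type*} [Group G] [Finite G]
    (hD : ∀ p : ℕ, p.Prime → ∀ H K : Subgroup G, IsPGroup p H → IsPGroup p K → Nat.card H = Nat.card K →
      ∃ g : G, K = H.map (MulAut.conj g).toMonoidHom) {p : ℕ} [Fact p.Prime] (P : Sylow p G) :
    IsCyclic P ∨ Cfsg.IsElementaryAbelian p (P : Subgroup G) ∨ Nonempty ((P : Subgroup G) ≃* QuaternionGroup 2) := by
  rcases CfsgLib.StructB.exp_p_or_cyclic P.isPGroup' (iso_in_sylow hD P) with h | h | hexp
  · exact Or.inl h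
  · exact Or.inr (Or.inr h)
  right; left
  rcases CfsgLib.StructB.elementary_or_order_cube P.isPGroup' (iso_in_sylow hD P) hexp with h | ⟨hp2, hcard⟩
  · exact ⟨⟨⟨h⟩⟩, fun a ha => congrArg Subtype.val (hexp ⟨a, ha⟩)⟩
  · by_cases hc : ∀ a b : ↥(P : Subgroup G), a * b = b * a
    · exact ⟨⟨⟨hc⟩⟩, fun a ha => congrArg Subtype.val (hexp ⟨a, ha⟩)⟩
    push Not at hc
    obtain ⟨a, b, hab⟩ := hc
    exact (no_heisenberg hD P hp2 hcard (fun a ha => congrArg Subtype.val (hexp ⟨a, ha⟩))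
      ⟨a, a.2, b, b.2, fun h => hab (Subtype.ext h)⟩).elim

end Cfsg.Agent.S4020
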