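import Cfsg.Statements.S0494
import Cfsg.Agent.Lib.ClassK.SmallSimple

set_option autoImplicit false
open Cfsg

namespace Cfsg.Agent.S0494

/-- A simple group of order 60 is isomorphic to the alternating group of degree 5. -/
theorem result {G : Type*} [Group G] [Finite G] [IsSimpleGroup G]
    (h : Nat.card G = 60) : Nonempty (G ≃* alternatingGroup (Fin 5)) := by
  haveI : IsSimpleGroup (alternatingGroup (Fin 5)) :=
    alternatingGroup.isSimpleGroup (by simp)
  refine CfsgLib.ClassK.nonempty_equiv_sixty h ?_
  have : Nontrivial (Fin 5) := inferInstance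
  have h2 := two_mul_card_alternatingGroup (α := Fin 5)
  rw [Fintype.card_perm, Fintype.card_fin] at h2
  rw [Nat.card_eq_fintype_card]
  simp only [Nat.factorial] at h2
  omega

end Cfsg.Agent.S0494
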