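import Cfsg.Statements.S4025
import Cfsg.Agent.Lib.StructB.SemilinearNormalizer
import Cfsg.Agent.Lib.StructB.Misc
import Cfsg.Agent.S3360
-- import your own Cfsg.Agent.* helpers here

set_option autoImplicit false
open Cfsg
open CfsgLib.StructB

namespace Cfsg.Agent.S4025

/-- Let p be a prime and G a finite group in which any two p-subgroups of the same order are conjugate, and suppose a Sylow p-subgroup P of G is elementary abelian of order pⁿ with n ≥ 3. Let N be the normalizer of P and K the largest normal subgroup of N of order prime to p, and assume N/K is solvable. Then either n = 3 and N/K embeds in the one-dimensional semi-affine group over the field with p³ elements (and for p = 2 it is isomorphic to the affine or the semi-affine group over the field with 8 elements), or n = 5, p = 2 and N/K is isomorphic to the one-dimensional semi-affine group over the field with 32 elements. -/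
theorem result {G : Type*} [Group G] [Finite G]
    {p : ℕ} [Fact p.Prime] (hC : ∀ H K : Subgroup G, IsPGroup p H → IsPGroup p K → Nat.card H = Nat.card K →
      ∃ g : G, K = H.map (MulAut.conj g).toMonoidHom) (P : Sylow p G) (n : ℕ) (hn : 3 ≤ n)
    (hel : Cfsg.IsElementaryAbelian p (P : Subgroup G)) (hcard : Nat.card P = p ^ n)
    (N : Subgroup G) (hN : N = Subgroup.normalizer ((P : Subgroup G) : Set G))
    (hsolv : Group.IsSolvable (↥N ⧸ Cfsg.pPrimeCore p ↥N)) :
    (n = 3 ∧ (∃ f : ↥N ⧸ Cfsg.pPrimeCore p ↥N →* ↥(Cfsg.semiaffineGroup (GaloisField p 3)), Function.Injective f) ∧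
      (p = 2 → Nonempty (↥N ⧸ Cfsg.pPrimeCore p ↥N ≃* Cfsg.semiaffineGroup (GaloisField 2 3)) ∨
               Nonempty (↥N ⧸ Cfsg.pPrimeCore p ↥N ≃* Cfsg.affineGroup (GaloisField 2 3)))) ∨
    (n = 5 ∧ p = 2 ∧ Nonempty (↥N ⧸ Cfsg.pPrimeCore p ↥N ≃* Cfsg.semiaffineGroup (GaloisField 2 5))) := by
  classical
  have hp : p.Prime := Fact.out
  subst hN
  set PG := (P : Subgroup G) with hPG
  set NG := Subgroup.normalizer (PG : Set G) with hNG
  have hab : ∀ a b : ↥PG, a * b = b * a := fun a b => hel.1.is_comm.comm a b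
  letI : CommGroup ↥PG := { (inferInstance : Group ↥PG) with mul_comm := hab }
  letI : Module (ZMod p) (Additive ↥PG) := AddCommGroup.zmodModule (n := p) fun x =>
    Additive.toMul.injective (Subtype.ext (hel.2 _ (Additive.toMul x).2))
  let toL : MulAut ↥PG →* (Additive ↥PG ≃ₗ[ZMod p] Additive ↥PG) :=
    { toFun := fun e => (MulEquiv.toAdditive e).toLinearEquiv (fun c x =>
        ZMod.map_smul (MulEquiv.toAdditive e).toAddMonoidHom c x)
      map_one' := LinearEquiv.ext fun x => rfl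
      map_mul' := fun e e' => LinearEquiv.ext fun x => rfl }
  let ρN : ↥NG →* (Additive ↥PG ≃ₗ[ZMod p] Additive ↥PG) := toL.comp PG.normalizerMonoidHom
  have hρN : ∀ (m : ↥NG) (v : ↥PG),
      ((Additive.toMul (ρN m (Additive.ofMul v)) : ↥PG) : G) = (m : G) * v * (m : G)⁻¹ := fun _ _ => rfl
  set O := Cfsg.pPrimeCore p ↥NG with hO
  haveI hOn : O.Normal := CfsgLib.Solvable.pPrimeCore_normal p _
  set PN := PG.subgroupOf NG with hPN
  have hle : PG ≤ NG := Subgroup.le_normalizer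
  have hPNp : IsPGroup p ↥PN := P.isPGroup'.comap_of_injective NG.subtype NG.subtype_injective
  haveI hPNn : PN.Normal := ⟨fun a ha g => (Subgroup.mem_normalizer_iff.1 g.2 a).1 ha⟩
  have hdisj : PN ⊓ O = ⊥ := by
    obtain ⟨j, hj⟩ := hPNp.exists_card_eq
    rw [← Subgroup.card_eq_one]
    refine Nat.eq_one_of_dvd_coprimes ?_ (Subgroup.card_dvd_of_le inf_le_left) (Subgroup.card_dvd_of_le inf_le_right)
    rw [hj]
    exact ((CfsgLib.Solvable.pPrimeCore_coprime p).symm).pow_left j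
  have hOker : O ≤ ρN.ker := by
    intro o ho
    refine LinearEquiv.ext fun x => Additive.toMul.injective (Subtype.ext ?_)
    have hv : (⟨((Additive.toMul x : ↥PG) : G), hle (Additive.toMul x).2⟩ : ↥NG) ∈ PN := (Additive.toMul x).2
    set v : ↥NG := ⟨((Additive.toMul x : ↥PG) : G), hle (Additive.toMul x).2⟩
    have h1 : o * v * o⁻¹ * v⁻¹ ∈ PN ⊓ O := by
      refine ⟨PN.mul_mem (hPNn.conj_mem v hv o) (PN.inv_mem hv), ?_⟩
      rw [show o * v * o⁻¹ * v⁻¹ = o * (v * o⁻¹ * v⁻¹) by group]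
      exact O.mul_mem ho (hOn.conj_mem _ (O.inv_mem ho) v)
    rw [hdisj, Subgroup.mem_bot, mul_inv_eq_one] at h1
    exact congrArg (fun q : ↥NG => (q : G)) h1
  let ρQ : ↥NG ⧸ O →* (Additive ↥PG ≃ₗ[ZMod p] Additive ↥PG) := QuotientGroup.lift O ρN hOker
  have hρQ : ∀ m : ↥NG, ρQ (QuotientGroup.mk' O m) = ρN m := fun m => rfl
  let sc : (ZMod p)ˣ →* (Additive ↥PG ≃ₗ[ZMod p] Additive ↥PG) :=
    { toFun := fun c => LinearEquiv.smulOfUnit c
      map_one' := LinearEquiv.ext fun x => one_smul (ZMod p) x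
      map_mul' := fun c d => LinearEquiv.ext fun x => mul_smul (c : ZMod p) d x }
  have hscv : ∀ (c : (ZMod p)ˣ) (x : Additive ↥PG), sc c x = (c : ZMod p) • x := fun _ _ => rfl
  let Φ : (↥NG ⧸ O) × (ZMod p)ˣ →* (Additive ↥PG ≃ₗ[ZMod p] Additive ↥PG) :=
    ρQ.noncommCoprod sc fun q c => LinearEquiv.ext fun x => ((ρQ q).map_smul (c : ZMod p) x)
  have hΦ : ∀ q c x, Φ (q, c) x = ρQ q ((c : ZMod p) • x) := fun _ _ _ => rfl
  set R := Φ.range with hR
  have hRsol : Group.IsSolvable ↥R := by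
    haveI := hsolv
    exact Group.isSolvable_of_surjective Φ.rangeRestrict_surjective
  have hscR : ∀ c : (ZMod p)ˣ, ∃ g ∈ R, ∀ x : Additive ↥PG, g x = (c : ZMod p) • x :=
    fun c => ⟨_, ⟨(1, c), rfl⟩, fun x => by rw [hΦ, map_one]; rfl⟩
  have hV : Nat.card (Additive ↥PG) = p ^ n := by
    rw [Nat.card_congr Additive.toMul]; exact hcard
  haveI : Nontrivial (Additive ↥PG) := Finite.one_lt_card_iff_nontrivial.1 (by
    rw [hV]; exact Nat.one_lt_pow (by omega) hp.one_lt)
  -- conjugacy inside the normalizer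
  have hcentP : ∀ B : Subgroup G, B ≤ PG → PG ≤ Subgroup.centralizer (B : Set G) := by
    intro B hB a ha
    rw [Subgroup.mem_centralizer_iff]
    intro b hb
    exact congrArg Subtype.val (hab ⟨b, hB hb⟩ ⟨a, ha⟩)
  have hNconj : ∀ A B : Subgroup G, A ≤ PG → B ≤ PG → Nat.card A = Nat.card B →
      ∃ m : ↥NG, ∀ a ∈ A, (m : G) * a * (m : G)⁻¹ ∈ B := by
    intro A B hA hB hAB
    obtain ⟨g, hg⟩ := hC A B (P.isPGroup'.to_le hA) (P.isPGroup'.to_le hB) hAB
    set C := Subgroup.centralizer (B : Set G) with hCdef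
    have h2 : PG.map (MulAut.conj g).toMonoidHom ≤ C := by
      rintro _ ⟨a, ha, rfl⟩
      rw [Subgroup.mem_centralizer_iff]
      intro b hb
      rw [SetLike.mem_coe, hg] at hb
      obtain ⟨a', ha', rfl⟩ := hb
      rw [← map_mul, ← map_mul, congrArg Subtype.val (hab ⟨a', hA ha'⟩ ⟨a, ha⟩) |> fun h =>
        (show a' * a = a * a' from h)]
    let P₁ : Sylow p ↥C := P.subtype (hcentP B hB)
    have hP' : IsPGroup p ↥((PG.map (MulAut.conj g).toMonoidHom).subgroupOf C) :=
      (P.isPGroup'.map _).comap_of_injective C.subtype C.subtype_injective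
    obtain ⟨P₂, hP₂⟩ := hP'.exists_le_sylow
    obtain ⟨c, hc⟩ := MulAction.exists_smul_eq ↥C P₂ P₁
    have hk : (c : G) * g ∈ NG := by
      refine CfsgLib.StructB.mem_normalizer_of_conj_le fun a ha => ?_
      have hta : g * a * g⁻¹ ∈ PG.map (MulAut.conj g).toMonoidHom := ⟨a, ha, rfl⟩
      have h4 : c * ⟨g * a * g⁻¹, h2 hta⟩ * c⁻¹ ∈ (P₁ : Subgroup ↥C) := by
        rw [← hc, Sylow.coe_subgroup_smul]
        exact Subgroup.smul_mem_pointwise_smul _ (MulAut.conj c) _ (hP₂ (Subgroup.mem_subgroupOf.2 hta))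
      have h5 : (c : G) * (g * a * g⁻¹) * (c : G)⁻¹ ∈ PG := Subgroup.mem_subgroupOf.1 h4
      rwa [show (c : G) * g * a * ((c : G) * g)⁻¹ = (c : G) * (g * a * g⁻¹) * (c : G)⁻¹ by group]
    refine ⟨⟨(c : G) * g, hk⟩, fun a ha => ?_⟩
    have hb : g * a * g⁻¹ ∈ B := hg ▸ ⟨a, ha, rfl⟩
    show (c : G) * g * a * ((c : G) * g)⁻¹ ∈ B
    rw [show (c : G) * g * a * ((c : G) * g)⁻¹ = (c : G) * (g * a * g⁻¹) * (c : G)⁻¹ by group,
      ← Subgroup.mem_centralizer_iff.1 c.2 _ hb, mul_inv_cancel_right]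
    exact hb
  let sub : Submodule (ZMod p) (Additive ↥PG) → Subgroup G := fun U =>
    (AddSubgroup.toSubgroup' U.toAddSubgroup).map PG.subtype
  have hsub : ∀ (U : Submodule (ZMod p) (Additive ↥PG)) (v : ↥PG), (v : G) ∈ sub U ↔ Additive.ofMul v ∈ U := by
    intro U v
    constructor
    · rintro ⟨w, hw, hwv⟩
      rw [← Subtype.ext (a1 := w) (a2 := v) hwv]
      exact hw
    · exact fun h => ⟨v, h, rfl⟩
  have hsubc : ∀ U, Nat.card ↥(sub U) = Nat.card U := fun U => by
    rw [Subgroup.card_map_of_injective PG.subtype_injective]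
    exact Nat.card_congr (Equiv.subtypeEquiv Additive.ofMul fun _ => Iff.rfl)
  have hmove : ∀ U U' : Submodule (ZMod p) (Additive ↥PG), Nat.card U = Nat.card U' →
      ∃ m : ↥NG, U.map (ρN m : Additive ↥PG →ₗ[ZMod p] Additive ↥PG) = U' := by
    intro U U' hUU
    obtain ⟨m, hm⟩ := hNconj (sub U) (sub U') (Subgroup.map_subtype_le _) (Subgroup.map_subtype_le _)
      (by rw [hsubc, hsubc, hUU])
    refine ⟨m, SetLike.coe_injective (Set.eq_of_subset_of_ncard_le ?_ ?_)⟩
    · rintro _ ⟨x, hx, rfl⟩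
      have h1 := hm _ ((hsub U (Additive.toMul x)).2 hx)
      exact (hsub U' (Additive.toMul (ρN m x))).1 h1
    · rw [← Nat.card_coe_set_eq, ← Nat.card_coe_set_eq]
      exact le_of_eq (hUU.symm.trans (Nat.card_congr ((ρN m).submoduleMap U).toEquiv))
  have hspan : ∀ v : Additive ↥PG, v ≠ 0 → Nat.card ↥(Submodule.span (ZMod p) {v}) = p := fun v hv => by
    rw [← Nat.card_congr (LinearEquiv.toSpanNonzeroSingleton (ZMod p) _ _ hv).toEquiv, Nat.card_zmod]
  have htrans : ∀ v w : Additive ↥PG, v ≠ 0 → w ≠ 0 → ∃ g : ↥R, (g : Additive ↥PG ≃ₗ[ZMod p] Additive ↥PG) v = w := by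
    intro v w hv hw
    obtain ⟨m, hm⟩ := hmove (Submodule.span (ZMod p) {v}) (Submodule.span (ZMod p) {w})
      (by rw [hspan v hv, hspan w hw])
    have h1 : w ∈ (Submodule.span (ZMod p) {v}).map (ρN m : Additive ↥PG →ₗ[ZMod p] Additive ↥PG) :=
      hm ▸ Submodule.mem_span_singleton_self w
    obtain ⟨x, hx, hxw⟩ := h1
    obtain ⟨c, rfl⟩ := Submodule.mem_span_singleton.1 hx
    have hc0 : c ≠ 0 := fun h => hw (by rw [← hxw, h, zero_smul]; exact map_zero _)
    refine ⟨⟨Φ (QuotientGroup.mk' O m, Units.mk0 c hc0), _, rfl⟩, ?_⟩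
    rw [hΦ, hρQ, Units.val_mk0]
    exact hxw
  have htrans2 : ∀ U U' : Submodule (ZMod p) (Additive ↥PG), Nat.card U = p ^ 2 → Nat.card U' = p ^ 2 →
      ∃ g ∈ R, U.map (g : Additive ↥PG →ₗ[ZMod p] Additive ↥PG) = U' := by
    intro U U' hU hU'
    obtain ⟨m, hm⟩ := hmove U U' (hU.trans hU'.symm)
    refine ⟨Φ (QuotientGroup.mk' O m, 1), ⟨_, rfl⟩, ?_⟩
    have h1 : Φ (QuotientGroup.mk' O m, 1) = ρN m := LinearEquiv.ext fun x => by
      rw [hΦ, hρQ, Units.val_one, one_smul]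
    rw [h1]; exact hm
  haveI : Finite (Additive ↥PG ≃ₗ[ZMod p] Additive ↥PG) :=
    Finite.of_injective (fun f => (f : Additive ↥PG → Additive ↥PG)) DFunLike.coe_injective
  haveI : Finite ↥R := inferInstance
  have hplane := SemiNorm.plane_dvd hV (by omega) R hscR htrans2
  rcases Cfsg.Agent.S3360.result p hRsol R.subtype R.subtype_injective htrans with
    ⟨F₀, _, _, e₀, he₀⟩ | hex
  swap
  · exfalso
    rw [hV] at hex
    have hno : ∀ r : ℕ, r.Prime → p ^ n = r ^ 2 → False := by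
      intro r hr h
      have hpr : p = r := (Nat.prime_dvd_prime_iff_eq hp hr).1
        (hp.dvd_of_dvd_pow (h ▸ dvd_pow_self p (by omega)))
      subst hpr
      have := Nat.pow_right_injective hp.two_le h
      omega
    simp only [Set.mem_insert_iff, Set.mem_singleton_iff] at hex
    rcases hex with h | h | h | h | h | h
    · exact hno 3 (by norm_num) (by rw [h]; norm_num)
    · exact hno 5 (by norm_num) (by rw [h]; norm_num)
    · exact hno 7 (by norm_num) (by rw [h]; norm_num)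
    · exact hno 11 (by norm_num) (by rw [h]; norm_num)
    · exact hno 23 (by norm_num) (by rw [h]; norm_num)
    have hp3 : p = 3 := (Nat.prime_dvd_prime_iff_eq hp Nat.prime_three).1
      (hp.dvd_of_dvd_pow (show p ∣ 3 ^ 4 from (show p ^ n = 3 ^ 4 by rw [h]; norm_num) ▸ dvd_pow_self p (by omega)))
    subst hp3
    have hn4 : n = 4 := Nat.pow_right_injective (le_refl 2 |>.trans (by norm_num)) (show 3 ^ n = 3 ^ 4 by rw [h])
    subst hn4
    norm_num at hplane
    have h260 : 260 ∣ Nat.card ↥R := by omega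
    exact SemiNorm.no_three_four (hV.trans (by norm_num)) R hRsol
      ((by norm_num : 5 ∣ 260).trans h260) ((by norm_num : 13 ∣ 260).trans h260)
  -- the semilinear case
  have hn0 : n ≠ 0 := by omega
  haveI : Fintype (GaloisField p n) := Fintype.ofFinite _
  have hF₀ : Fintype.card F₀ = Fintype.card (GaloisField p n) := by
    rw [← Nat.card_eq_fintype_card, ← Nat.card_eq_fintype_card, GaloisField.card p n hn0, ← hV]
    exact Nat.card_congr e₀.toEquiv.symm
  let κ : F₀ ≃+* GaloisField p n := FiniteField.ringEquivOfCardEq hF₀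
  let e : Additive ↥PG ≃+ GaloisField p n := e₀.trans κ.toAddEquiv
  obtain ⟨a, σ, haσ, hRdvd, hAut⟩ := SemiNorm.semilinear_card hn0 (R := R) e (fun g hg => by
    obtain ⟨a, σ, h⟩ := he₀ ⟨g, hg⟩
    refine ⟨κ a, (κ.symm.trans σ).trans κ, fun v => ?_⟩
    show κ (e₀ (g v)) = κ a * κ (σ (κ.symm (κ (e₀ v))))
    rw [RingEquiv.symm_apply_apply, ← map_mul]
    exact congrArg κ (h v))
  have hnum : n = 3 ∨ (n = 5 ∧ p = 2) := by
    refine SemiNorm.ge_facts hp.two_le hn ?_
    have h1 := hplane.trans (Nat.mul_dvd_mul_right hRdvd _)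
    have hpos : 0 < (p ^ n - 1) * (p - 1) := Nat.mul_pos
      (Nat.sub_pos_of_lt (Nat.one_lt_pow hn0 hp.one_lt)) (Nat.sub_pos_of_lt hp.one_lt)
    refine Nat.dvd_of_mul_dvd_mul_right hpos ?_
    rwa [show n * (p ^ 2 - 1) * ((p ^ n - 1) * (p - 1)) = (p ^ n - 1) * n * ((p ^ 2 - 1) * (p - 1)) by ring]
  -- the extension
  set Q := ↥NG ⧸ O with hQ
  set Pb : Subgroup Q := PN.map (QuotientGroup.mk' O) with hPb
  haveI hPbn : Pb.Normal := hPNn.map _ (QuotientGroup.mk'_surjective O)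
  let j : ↥PG →* ↥Pb := MonoidHom.mk' (fun v => ⟨QuotientGroup.mk' O ⟨(v : G), hle v.2⟩,
      Subgroup.mem_map_of_mem _ (show (⟨(v : G), hle v.2⟩ : ↥NG) ∈ PN from v.2)⟩) fun v w =>
    Subtype.ext (by show QuotientGroup.mk' O _ = QuotientGroup.mk' O _ * QuotientGroup.mk' O _; rw [← map_mul]; rfl)
  have hj : Function.Bijective j := by
    refine ⟨(injective_iff_map_eq_one j).2 fun v hv => ?_, ?_⟩
    · have h1 : (⟨(v : G), hle v.2⟩ : ↥NG) ∈ PN ⊓ O :=
        ⟨v.2, (QuotientGroup.eq_one_iff _).1 (congrArg Subtype.val hv)⟩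
      rw [hdisj, Subgroup.mem_bot] at h1
      exact Subtype.ext (congrArg (fun q : ↥NG => (q : G)) h1)
    · rintro ⟨_, v, hv, rfl⟩
      exact ⟨⟨(v : G), hv⟩, rfl⟩
  let jE : ↥PG ≃* ↥Pb := MulEquiv.ofBijective j hj
  have hPbc : Nat.card ↥Pb = p ^ n := by rw [← Nat.card_congr jE.toEquiv]; exact hcard
  have hcop : (Nat.card ↥Pb).Coprime Pb.index := by
    rw [hPbc]
    refine ((Nat.Prime.coprime_iff_not_dvd hp).2 fun hd => ?_).pow_left n
    exact (P.subtype hle).not_dvd_index (hd.trans (Subgroup.index_map_dvd _ (QuotientGroup.mk'_surjective O)))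
  obtain ⟨X, hX⟩ := Subgroup.exists_right_complement'_of_coprime hcop
  let eb : Additive ↥Pb ≃+ GaloisField p n := (MulEquiv.toAdditive jE).symm.trans e
  have hconj : ∀ (m : ↥NG) (v : ↥Pb),
      Additive.ofMul (jE.symm (MulAut.conjNormal (QuotientGroup.mk' O m) v)) =
        ρN m (Additive.ofMul (jE.symm v)) := by
    intro m v
    obtain ⟨w, rfl⟩ := jE.surjective v
    rw [jE.symm_apply_apply]
    apply Additive.toMul.injective
    rw [toMul_ofMul, MulEquiv.symm_apply_eq]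
    refine Subtype.ext ?_
    show QuotientGroup.mk' O m * QuotientGroup.mk' O _ * (QuotientGroup.mk' O m)⁻¹ = QuotientGroup.mk' O _
    rw [← map_inv, ← map_mul, ← map_mul]
    rfl
  have hρQR : ∀ q : Q, ρQ q ∈ R := fun q => ⟨(q, 1), LinearEquiv.ext fun x => by
    rw [hΦ, Units.val_one, one_smul]⟩
  have hsem : ∀ x : Q, ∀ v : ↥Pb, eb (Additive.ofMul (MulAut.conjNormal x v)) =
      (a ⟨ρQ x, hρQR x⟩ : GaloisField p n) * σ ⟨ρQ x, hρQR x⟩ (eb (Additive.ofMul v)) := by
    intro x v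
    obtain ⟨m, rfl⟩ := QuotientGroup.mk'_surjective O x
    show e (Additive.ofMul (jE.symm (MulAut.conjNormal (QuotientGroup.mk' O m) v))) = _
    rw [hconj]
    exact haσ ⟨ρQ (QuotientGroup.mk' O m), hρQR _⟩ _
  have hkerX : ∀ x ∈ X, ρQ x = 1 → x = 1 := by
    intro x hx hx1
    obtain ⟨m, rfl⟩ := QuotientGroup.mk'_surjective O x
    rw [hρQ] at hx1
    set C := Subgroup.centralizer (PG : Set G) with hCdef
    have hmC : (m : G) ∈ C := by
      rw [Subgroup.mem_centralizer_iff]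
      intro v hv
      have h1 := hρN m ⟨v, hv⟩
      rw [hx1] at h1
      have h2 : (v : G) = (m : G) * v * (m : G)⁻¹ := h1
      calc v * (m : G) = (m : G) * v * (m : G)⁻¹ * m := by rw [← h2]
        _ = (m : G) * v := inv_mul_cancel_right _ _
    let P₁ : Sylow p ↥C := P.subtype (hcentP PG le_rfl)
    have hP₁ : Subgroup.normalizer ((P₁ : Subgroup ↥C) : Set ↥C) ≤ Subgroup.centralizer ((P₁ : Subgroup ↥C) : Set ↥C) := by
      intro c _
      rw [Subgroup.mem_centralizer_iff]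
      intro v hv
      exact Subtype.ext (Subgroup.mem_centralizer_iff.1 c.2 _ hv)
    have hK := MonoidHom.ker_transferSylow_isComplement' P₁ hP₁
    set τ := MonoidHom.transferSylow P₁ hP₁
    have hKco : ¬ p ∣ Nat.card ↥τ.ker := by
      have := P₁.not_dvd_index
      rwa [show (P₁ : Subgroup ↥C).index = Nat.card ↥τ.ker from hK.index_eq_card] at this
    have hCN : C ≤ NG := Subgroup.centralizer_le_normalizer _
    set K' : Subgroup ↥NG := τ.ker.map (Subgroup.inclusion hCN) with hK'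
    haveI : K'.Normal := by
      refine ⟨?_⟩
      rintro _ ⟨k, hk, rfl⟩ g
      have hmem : (g : G) * k * (g : G)⁻¹ ∈ C := by
        rw [Subgroup.mem_centralizer_iff]
        intro v hv
        have hv' : (g : G)⁻¹ * v * g ∈ PG := (Subgroup.mem_normalizer_iff''.1 g.2 v).1 hv
        have := Subgroup.mem_centralizer_iff.1 k.2 _ hv'
        calc v * ((g : G) * k * (g : G)⁻¹) = (g : G) * ((g : G)⁻¹ * v * g * k) * (g : G)⁻¹ := by group
          _ = (g : G) * ((k : G) * ((g : G)⁻¹ * v * g)) * (g : G)⁻¹ := by rw [this]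
          _ = _ := by group
      refine ⟨⟨_, hmem⟩, ?_, Subtype.ext rfl⟩
      show τ ⟨_, hmem⟩ = 1
      have ho : orderOf (⟨_, hmem⟩ : ↥C) = orderOf k := by
        rw [← Subgroup.orderOf_coe, ← Subgroup.orderOf_coe k]
        exact (MulAut.conj (g : G)).orderOf_eq (k : G)
      rw [← orderOf_eq_one_iff]
      obtain ⟨i, hi⟩ := P₁.isPGroup'.exists_card_eq
      refine Nat.eq_one_of_dvd_coprimes (a := p ^ i) (b := Nat.card ↥τ.ker)
        (((Nat.Prime.coprime_iff_not_dvd hp).2 hKco).pow_left i) (hi ▸ orderOf_dvd_natCard _) ?_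
      exact ((orderOf_map_dvd τ _).trans ho.dvd).trans (Subgroup.orderOf_dvd_natCard _ hk)
    have hK'O : K' ≤ O := CfsgLib.Solvable.le_pPrimeCore inferInstance (by
      rw [hK', Subgroup.card_map_of_injective (Subgroup.inclusion_injective hCN)]
      exact ((Nat.Prime.coprime_iff_not_dvd hp).2 hKco).symm)
    obtain ⟨⟨k, v⟩, hkv⟩ := hK.2 ⟨(m : G), hmC⟩
    have hm : m = Subgroup.inclusion hCN (k : ↥C) * ⟨((v : ↥C) : G), hle v.2⟩ :=
      Subtype.ext (congrArg Subtype.val hkv).symm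
    have hxPb : QuotientGroup.mk' O m ∈ Pb := by
      rw [hm, map_mul, show QuotientGroup.mk' O (Subgroup.inclusion hCN (k : ↥C)) = 1 from
        (QuotientGroup.eq_one_iff _).2 (hK'O (Subgroup.mem_map_of_mem _ k.2)), one_mul]
      exact Subgroup.mem_map_of_mem _ (show (⟨((v : ↥C) : G), hle v.2⟩ : ↥NG) ∈ PN from v.2)
    exact Subgroup.disjoint_def.1 hX.disjoint hxPb hx
  have hfaith : ∀ x ∈ X, (∀ v : ↥Pb, MulAut.conjNormal x v = v) → x = 1 := by
    intro x hx hv
    refine hkerX x hx ?_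
    obtain ⟨m, rfl⟩ := QuotientGroup.mk'_surjective O x
    refine LinearEquiv.ext fun y => ?_
    have h1 := hconj m (jE (Additive.toMul y))
    rw [hv, jE.symm_apply_apply, ofMul_toMul] at h1
    exact h1.symm
  obtain ⟨hsemi, haffi⟩ := SemiNorm.semiaffine_embedding Pb X hX eb
    (fun x _ => ⟨a ⟨ρQ x, hρQR x⟩, (σ ⟨ρQ x, hρQR x⟩).toRingEquiv, hsem x⟩) hfaith
  have hQc : Nat.card Q = p ^ n * Nat.card ↥X := by
    rw [← hX.card_mul, hPbc]
  have hRX : p = 2 → Nat.card ↥R = Nat.card ↥X := by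
    intro h2
    let θ : ↥X →* ↥R := MonoidHom.mk' (fun x => ⟨ρQ x, hρQR x⟩) fun x y => Subtype.ext (map_mul ρQ _ _)
    refine (Nat.card_congr (Equiv.ofBijective θ ⟨(injective_iff_map_eq_one θ).2 fun x hx =>
      Subtype.ext (hkerX x x.2 (congrArg Subtype.val hx)), ?_⟩)).symm
    rintro ⟨_, ⟨q, c⟩, rfl⟩
    obtain ⟨⟨w, x⟩, hwx⟩ := hX.2 q
    have hc : (c : ZMod p) = 1 := by
      subst h2
      have : ∀ b : ZMod 2, b ≠ 0 → b = 1 := by
        intro b hb; fin_cases b <;> first | exact absurd rfl hb | rfl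
      exact this _ c.ne_zero
    have hw : ρQ (w : Q) = 1 := by
      obtain ⟨v, hv, hvw⟩ := w.2
      rw [← hvw, hρQ]
      refine LinearEquiv.ext fun y => Additive.toMul.injective (Subtype.ext ?_)
      show (v : G) * ((Additive.toMul y : ↥PG) : G) * (v : G)⁻¹ = _
      rw [congrArg Subtype.val (hab ⟨(v : G), hv⟩ (Additive.toMul y)) |> fun h =>
        (show (v : G) * ((Additive.toMul y : ↥PG) : G) = ((Additive.toMul y : ↥PG) : G) * v from h),
        mul_inv_cancel_right]
      rfl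
    refine ⟨x, Subtype.ext (LinearEquiv.ext fun y => ?_)⟩
    show ρQ (x : Q) y = Φ (q, c) y
    rw [hΦ, hc, one_smul, ← hwx, map_mul, hw, one_mul]
  have hsemiCard : ∀ m : ℕ, m ≠ 0 → Nat.card ↥(Cfsg.semiaffineGroup (GaloisField 2 m)) ≤ 2 ^ m * (2 ^ m - 1) * m := by
    intro m hm
    set F := GaloisField 2 m
    let mkp : F × Fˣ × (F ≃ₐ[ZMod 2] F) → ↥(Cfsg.semiaffineGroup F) := fun q =>
      ⟨(q.2.2.toEquiv.trans (q.2.1.mulLeft)).trans (Equiv.addRight q.1), q.2.1, q.1, q.2.2.toRingEquiv, fun x => rfl⟩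
    refine (Nat.card_le_card_of_surjective mkp ?_).trans ?_
    · rintro ⟨π, u, b, φ, hπ⟩
      refine ⟨(b, u, AlgEquiv.ofRingEquiv (f := φ) fun c => ?_), Subtype.ext (Equiv.ext fun x => (hπ x).symm)⟩
      have hh : ((φ : F →+* F).comp (algebraMap (ZMod 2) F)) = algebraMap (ZMod 2) F := Subsingleton.elim _ _
      exact RingHom.congr_fun hh c
    · rw [Nat.card_prod, Nat.card_prod, Nat.card_units, GaloisField.card 2 m hm, IsGalois.card_aut_eq_finrank,
        GaloisField.finrank 2 hm, mul_assoc]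
  have haffCard : ∀ m : ℕ, m ≠ 0 → Nat.card ↥(Cfsg.affineGroup (GaloisField 2 m)) ≤ 2 ^ m * (2 ^ m - 1) := by
    intro m hm
    set F := GaloisField 2 m
    let mkp : F × Fˣ → ↥(Cfsg.affineGroup F) := fun q =>
      ⟨q.2.mulLeft.trans (Equiv.addRight q.1), q.2, q.1, fun x => rfl⟩
    refine (Nat.card_le_card_of_surjective mkp ?_).trans ?_
    · rintro ⟨π, u, b, hπ⟩
      exact ⟨(b, u), Subtype.ext (Equiv.ext fun x => (hπ x).symm)⟩
    · rw [Nat.card_prod, Nat.card_units, GaloisField.card 2 m hm]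
  rcases hnum with rfl | ⟨rfl, rfl⟩
  · left
    refine ⟨rfl, hsemi, ?_⟩
    rintro rfl
    norm_num at hplane hRdvd
    obtain ⟨f, hf⟩ := hsemi
    have h7 : 7 ∣ Nat.card ↥R := by omega
    have hR721 : Nat.card ↥R = 7 ∨ Nat.card ↥R = 21 := by
      have := Nat.le_of_dvd (by norm_num) hRdvd
      obtain ⟨k, hk⟩ := h7
      have hk3 : k ≤ 3 := by omega
      interval_cases k <;> rw [hk] at hRdvd ⊢ <;> first | (norm_num at hRdvd; done) | norm_num
    rcases hR721 with h | h
    · right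
      have hσ : ∀ g : ↥R, σ g = 1 := by
        intro g
        rw [← orderOf_eq_one_iff]
        refine Nat.eq_one_of_dvd_coprimes (a := 7) (b := 3) (by norm_num)
          ((orderOf_map_dvd σ g).trans (h ▸ orderOf_dvd_natCard g)) ?_
        exact (orderOf_dvd_natCard (σ g)).trans hAut.dvd
      obtain ⟨f', hf'⟩ := haffi fun x _ => ⟨a ⟨ρQ x, hρQR x⟩, fun v => by
        rw [hsem x v, hσ]; rfl⟩
      refine ⟨MulEquiv.ofBijective f' ((Nat.bijective_iff_injective_and_card _).2 ⟨hf', ?_⟩)⟩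
      refine le_antisymm (Nat.card_le_card_of_injective _ hf') ((haffCard 3 (by norm_num)).trans ?_)
      rw [hQc, ← hRX rfl, h]
      norm_num
    · left
      refine ⟨MulEquiv.ofBijective f ((Nat.bijective_iff_injective_and_card _).2 ⟨hf, ?_⟩)⟩
      refine le_antisymm (Nat.card_le_card_of_injective _ hf) ((hsemiCard 3 (by norm_num)).trans ?_)
      rw [hQc, ← hRX rfl, h]
      norm_num
  · right
    refine ⟨rfl, rfl, ?_⟩
    norm_num at hplane hRdvd
    obtain ⟨f, hf⟩ := hsemi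
    refine ⟨MulEquiv.ofBijective f ((Nat.bijective_iff_injective_and_card _).2 ⟨hf, ?_⟩)⟩
    refine le_antisymm (Nat.card_le_card_of_injective _ hf) ((hsemiCard 5 (by norm_num)).trans ?_)
    rw [hQc, ← hRX rfl, show Nat.card ↥R = 155 by
      exact Nat.dvd_antisymm hRdvd (by omega)]
    norm_num

end Cfsg.Agent.S4025
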