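import Cfsg.Statements.S3794
import Cfsg.Agent.Lib.FixedFree.AbelianFitting
import Cfsg.Agent.Lib.FixedFree.DerivedAbelian

set_option autoImplicit false
open Cfsg

namespace Cfsg.Agent.S3794

/-- Let G be a finite solvable group with an automorphism σ satisfying σ⁴ = 1 and fixing only the identity. Then the derived subgroup G' is nilpotent. -/
theorem result {G : Type*} [Group G] [Finite G] (hG : Group.IsSolvable G) (σ : MulAut G) (hσ : σ ^ 4 = 1) (hfpf : ∀ g : G, σ g = g → g = 1) : Group.IsNilpotent (commutator G) := by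
  classical
  by_cases h2 : σ * σ = 1
  · have hinv : Function.Involutive σ := fun g => by
      rw [← MulAut.mul_apply, h2, MulAut.one_apply]
    have hcomm : ∀ g h : G, Commute g h :=
      MonoidHom.FixedPointFree.commute_all_of_involutive (φ := σ) hfpf hinv
    have hbot : commutator G = ⊥ := by
      rw [_root_.commutator_def, eq_bot_iff, Subgroup.commutator_le]
      intro a _ b _
      rw [Subgroup.mem_bot, commutatorElement_eq_one_iff_commute]
      exact hcomm a b
    rw [hbot]; infer_instance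
  have hord : orderOf σ = 4 := by
    have hd : orderOf σ ∣ 4 := orderOf_dvd_of_pow_eq_one hσ
    have hne : ¬ orderOf σ ∣ 2 := fun h => h2 (by rw [← pow_two]; exact orderOf_dvd_iff_pow_eq_one.1 h)
    have hle := Nat.le_of_dvd (by norm_num) hd
    interval_cases h : orderOf σ <;> first | rfl | (norm_num at hd; done) | (norm_num at hne; done)
  let A := Subgroup.zpowers σ
  have hA : Nat.card A = 2 * 2 := by rw [Nat.card_zpowers, hord]
  have hAp : IsPGroup 2 A := IsPGroup.of_card (n := 2) (by rw [hA]; rfl)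
  have hfix : ∀ g : G, (∀ a : A, A.subtype a g = g) → g = 1 := fun g hg =>
    hfpf g (hg ⟨σ, Subgroup.mem_zpowers σ⟩)
  have := Fact.mk Nat.prime_two
  have hnd := CfsgLib.FixedFree.not_dvd_card_of_fpf A.subtype hAp hfix
  have hcop : (Nat.card A).Coprime (Nat.card G) := by
    have hc := Nat.prime_two.coprime_iff_not_dvd.2 hnd
    rw [hA]
    exact Nat.Coprime.mul_left hc hc
  have hact := CfsgLib.FixedFree.fpfAction_of_fpf A.subtype hG hcop hfix
  have := hact.normal
  have hcard := CfsgLib.FixedFree.card_inA A.subtype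
  have hsub : ∀ B ≤ CfsgLib.FixedFree.inA A.subtype, B ≠ ⊥ → B ≠ CfsgLib.FixedFree.inA A.subtype →
      (Nat.card B).Prime := fun B hB hBb hBA =>
    CfsgLib.FixedFree.prime_of_dvd_mul_primes Nat.prime_two Nat.prime_two
      (hA ▸ hcard ▸ Subgroup.card_dvd_of_le hB) (fun e => hBb (Subgroup.card_eq_one.1 e))
      fun e => hBA (Subgroup.eq_of_le_of_card_ge hB (by rw [hcard, hA, e]))
  refine CfsgLib.FixedFree.isNilpotent_commutator_of_mem A.subtype
    (hact.commutator_mem_fitting (hact.isNilpotent_quotient hsub) fun p r hp hr hpr R hR hRr hAR => ?_)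
  have := Fact.mk hp
  have := Fact.mk hr
  refine hact.commute_core_derived hsub hpr hR hRr hAR fun _ {G'} _ _ {V'} _ _ _ _ ρ A' R' f hf hc => ?_
  let g : A →* G' := f.comp (SemidirectProduct.inr : A →* _).rangeRestrict
  have hg : g.range = A' := by
    rw [MonoidHom.range_comp, MonoidHom.range_eq_top.2 (MonoidHom.rangeRestrict_surjective _),
      ← MonoidHom.range_eq_map, hf]
  refine hc.commute_of_cyclic_four (τ := g ⟨σ, Subgroup.mem_zpowers σ⟩) ?_ ?_
  · refine le_antisymm (fun y hy => ?_) (Subgroup.zpowers_le.2 (hg ▸ ⟨_, rfl⟩))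
    rw [← hg] at hy
    obtain ⟨⟨a, ha⟩, rfl⟩ := hy
    obtain ⟨i, rfl⟩ := Subgroup.mem_zpowers_iff.1 ha
    exact ⟨i, (map_zpow g _ i).symm⟩
  · rw [← map_pow, show (⟨σ, Subgroup.mem_zpowers σ⟩ : A) ^ 4 = 1 from Subtype.ext hσ, map_one]

end Cfsg.Agent.S3794
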