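import Cfsg.Statements.S2119
import Mathlib.Tactic
import Mathlib.GroupTheory.SpecificGroups.Alternating
import Mathlib.GroupTheory.Perm.Centralizer

set_option autoImplicit false
open Cfsg

namespace Cfsg.Agent.S2119

open Equiv Equiv.Perm

variable {α : Type*} [DecidableEq α]

/-- The 3-cycle `a ↦ b ↦ c ↦ a`. -/
def T (a b c : α) : Equiv.Perm α := Equiv.swap a b * Equiv.swap b c

theorem T_a {a b c : α} (hab : a ≠ b) (hac : a ≠ c) : T a b c a = b := by
  rw [T, Perm.mul_apply, swap_apply_of_ne_of_ne hab hac, swap_apply_left]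

theorem T_b {a b c : α} (hac : a ≠ c) (hbc : b ≠ c) : T a b c b = c := by
  rw [T, Perm.mul_apply, swap_apply_left, swap_apply_of_ne_of_ne hac.symm hbc.symm]

theorem T_c (a b c : α) : T a b c c = a := by
  rw [T, Perm.mul_apply, swap_apply_right, swap_apply_right]

theorem T_o {a b c x : α} (h1 : x ≠ a) (h2 : x ≠ b) (h3 : x ≠ c) : T a b c x = x := by
  rw [T, Perm.mul_apply, swap_apply_of_ne_of_ne h2 h3, swap_apply_of_ne_of_ne h1 h2]

theorem conj_T (σ : Equiv.Perm α) (a b c : α) : σ * T a b c * σ⁻¹ = T (σ a) (σ b) (σ c) := by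
  simp only [T, ← Equiv.swap_apply_apply, mul_assoc]
  simp [Equiv.swap_apply_apply, mul_assoc]

variable [Fintype α]

theorem isThreeCycle_T {a b c : α} (hab : a ≠ b) (hac : a ≠ c) (hbc : b ≠ c) :
    (T a b c).IsThreeCycle := by
  rw [T, Equiv.swap_comm a b]
  exact isThreeCycle_swap_mul_swap_same hab.symm hbc hac

theorem eq_T {y : Equiv.Perm α} (hy : y.IsThreeCycle) {x : α} (hx : y x ≠ x) :
    y = T x (y x) (y (y x)) ∧ y (y (y x)) = x ∧ y (y x) ≠ x ∧ y (y x) ≠ y x := by
  have h3 : y (y (y x)) = x := by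
    have h := pow_orderOf_eq_one y
    rw [hy.orderOf] at h
    have := congrArg (fun f : Equiv.Perm α => f x) h
    simpa [pow_succ, Perm.mul_apply] using this
  have h2 : y (y x) ≠ y x := fun h => hx (y.injective h)
  have h1 : y (y x) ≠ x := by
    intro h
    rw [h] at h3
    exact hx h3
  refine ⟨?_, h3, h1, h2⟩
  have hs := (hy.support_eq_iff_mem_support).mpr (Perm.mem_support.mpr hx)
  ext z
  by_cases z1 : z = x
  · subst z1; rw [T_a hx.symm h1.symm]
  by_cases z2 : z = y x
  · subst z2; rw [T_b h1.symm h2.symm]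
  by_cases z3 : z = y (y x)
  · subst z3; rw [T_c, h3]
  · rw [T_o z1 z2 z3]
    apply Perm.notMem_support.mp
    rw [hs]
    simp [z1, z2, z3]

/-- Two 3-cycles whose product is an involution share an arrow. -/
theorem edge {y z : Equiv.Perm α} (hy : y.IsThreeCycle) (hz : z.IsThreeCycle)
    (h : (y * z) ^ 2 = 1) (hne : y * z ≠ 1) : ∃ x, y x ≠ x ∧ z x = y x := by
  have hyz : ∀ x, y (z (y (z x))) = x := fun x => by
    simpa [pow_two, Perm.mul_apply] using congrArg (fun f : Equiv.Perm α => f x) h
  by_cases hfix : ∃ x, y x ≠ x ∧ z x = x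
  · obtain ⟨x, hx, hzx⟩ := hfix
    obtain ⟨-, h3, h1, h2⟩ := eq_T hy hx
    refine ⟨y x, fun hh => hx (y.injective hh), ?_⟩
    apply y.injective
    have := hyz x
    rw [hzx] at this
    rw [this, h3]
  · push Not at hfix
    by_contra hno
    push Not at hno
    obtain ⟨p, hp⟩ : ∃ p, y p ≠ p := by
      by_contra hc
      push Not at hc
      exact hy.ne_one (Perm.ext hc)
    obtain ⟨hT, h3, h1, h2⟩ := eq_T hy hp
    have hsy := (hy.support_eq_iff_mem_support).mpr (Perm.mem_support.mpr hp)
    have hsub : y.support ⊆ z.support := fun w hw =>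
      Perm.mem_support.mpr (hfix w (Perm.mem_support.mp hw))
    have heq : y.support = z.support :=
      Finset.eq_of_subset_of_card_le hsub (by rw [hy.card_support, hz.card_support])
    apply hne
    ext w
    rw [Perm.mul_apply, Perm.one_apply]
    by_cases hw : y w = w
    · have : z w = w := by
        have hw' : w ∉ z.support := heq ▸ Perm.notMem_support.mpr hw
        exact Perm.notMem_support.mp hw'
      rw [this, hw]
    · obtain ⟨-, w3, w1, w2⟩ := eq_T hy hw
      have hsw := (hy.support_eq_iff_mem_support).mpr (Perm.mem_support.mpr hw)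
      have hzw : z w ∈ y.support := by
        rw [heq, Perm.apply_mem_support, Perm.mem_support]
        exact hfix w hw
      rw [hsw] at hzw
      simp only [Finset.mem_insert, Finset.mem_singleton] at hzw
      rcases hzw with hc | hc | hc
      · exact absurd hc (hfix w hw)
      · exact absurd hc (hno w hw)
      · rw [hc, w3]

/-- A 3-cycle sharing an arrow with each of `(A B C)` and `(A B D)` sends `A` to `B`. -/
theorem third {w : Equiv.Perm α} (hw : w.IsThreeCycle) {A B C D : α} (hAB : A ≠ B) (hAC : A ≠ C)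
    (hBC : B ≠ C) (hAD : A ≠ D) (hBD : B ≠ D) (hCD : C ≠ D)
    (e1 : ∃ x, T A B C x ≠ x ∧ w x = T A B C x) (e2 : ∃ x, T A B D x ≠ x ∧ w x = T A B D x) :
    w A = B := by
  obtain ⟨x1, m1, w1⟩ := e1
  obtain ⟨x2, m2, w2⟩ := e2
  by_cases a1 : x1 = A
  · subst a1; rwa [T_a hAB hAC] at w1
  by_cases a2 : x2 = A
  · subst a2; rwa [T_a hAB hAD] at w2
  exfalso
  have hx1 : x1 = B ∨ x1 = C := by
    by_contra h
    push Not at h
    exact m1 (T_o a1 h.1 h.2)
  have hx2 : x2 = B ∨ x2 = D := by
    by_contra h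
    push Not at h
    exact m2 (T_o a2 h.1 h.2)
  rcases hx1 with b1 | b1 <;> rcases hx2 with b2 | b2 <;> rw [b1] at w1 <;> rw [b2] at w2
  · rw [T_b hAC hBC] at w1; rw [T_b hAD hBD] at w2
    exact hCD (w1.symm.trans w2)
  · rw [T_b hAC hBC] at w1; rw [T_c] at w2
    have hsub : ({B, C, D, A} : Finset α) ⊆ w.support := by
      have hB : B ∈ w.support := Perm.mem_support.mpr (by rw [w1]; exact hBC.symm)
      have hD : D ∈ w.support := Perm.mem_support.mpr (by rw [w2]; exact hAD)
      intro u hu
      simp only [Finset.mem_insert, Finset.mem_singleton] at hu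
      rcases hu with rfl | rfl | rfl | rfl
      · exact hB
      · exact w1 ▸ Perm.apply_mem_support.mpr hB
      · exact hD
      · exact w2 ▸ Perm.apply_mem_support.mpr hD
    have := Finset.card_le_card hsub
    rw [hw.card_support] at this
    simp [hBC, hBD, hCD, hAB.symm, hAC.symm, hAD.symm] at this
  · rw [T_c] at w1; rw [T_b hAD hBD] at w2
    have hsub : ({B, C, D, A} : Finset α) ⊆ w.support := by
      have hB : B ∈ w.support := Perm.mem_support.mpr (by rw [w2]; exact hBD.symm)
      have hC : C ∈ w.support := Perm.mem_support.mpr (by rw [w1]; exact hAC)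
      intro u hu
      simp only [Finset.mem_insert, Finset.mem_singleton] at hu
      rcases hu with rfl | rfl | rfl | rfl
      · exact hB
      · exact hC
      · exact w2 ▸ Perm.apply_mem_support.mpr hB
      · exact w1 ▸ Perm.apply_mem_support.mpr hC
    have := Finset.card_le_card hsub
    rw [hw.card_support] at this
    simp [hBC, hBD, hCD, hAB.symm, hAC.symm, hAD.symm] at this
  · rw [T_c] at w1; rw [T_c] at w2
    exact hCD (w.injective (w1.trans w2.symm))

theorem mul_T_sq {a b i j : α} (hab : a ≠ b) (hai : a ≠ i) (hbi : b ≠ i) (haj : a ≠ j) (hbj : b ≠ j)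
    (hij : i ≠ j) : (T a b i * T a b j) ^ 2 = 1 ∧ T a b i * T a b j ≠ 1 := by
  constructor
  · ext x
    simp only [pow_two, Perm.mul_apply, Perm.one_apply]
    by_cases x1 : x = a
    · subst x1; rw [T_a hab haj, T_b hai hbi, T_o hai.symm hbi.symm hij, T_c]
    by_cases x2 : x = b
    · subst x2; rw [T_b haj hbj, T_o haj.symm hbj.symm hij.symm, T_c, T_a hab hai]
    by_cases x3 : x = i
    · subst x3; rw [T_o hai.symm hbi.symm hij, T_c, T_a hab haj, T_b hai hbi]
    by_cases x4 : x = j
    · subst x4; rw [T_c, T_a hab hai, T_b haj hbj, T_o haj.symm hbj.symm hij.symm]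
    simp only [T_o x1 x2 x4, T_o x1 x2 x3]
  · intro h
    have := congrArg (fun f : Equiv.Perm α => f a) h
    simp only [Perm.mul_apply, Perm.one_apply, T_a hab haj, T_b hai hbi] at this
    exact hai this.symm

/-- `Alt` is generated by the 3-cycles `(a b i)`. -/
theorem three_cycle_mem_closure {a b : α} (hab : a ≠ b) {t : Equiv.Perm α} (ht : t.IsThreeCycle) :
    t ∈ Subgroup.closure {g : Equiv.Perm α | ∃ i, a ≠ i ∧ b ≠ i ∧ g = T a b i} := by
  set H := Subgroup.closure {g : Equiv.Perm α | ∃ i, a ≠ i ∧ b ≠ i ∧ g = T a b i} with hH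
  have hc : ∀ i, a ≠ i → b ≠ i → T a b i ∈ H := fun i h h' =>
    Subgroup.subset_closure ⟨i, h, h', rfl⟩
  have hA : ∀ i j, a ≠ i → a ≠ j → i ≠ j → T a i j ∈ H := by
    intro i j hai haj hij
    by_cases hib : b = i
    · subst hib; exact hc j haj hij
    by_cases hjb : b = j
    · subst hjb
      have : T a i b = (T a b i)⁻¹ := by
        rw [eq_inv_iff_mul_eq_one]
        ext x
        simp only [Perm.mul_apply, Perm.one_apply]
        by_cases x1 : x = a
        · subst x1; rw [T_a hab hai, T_c]
        by_cases x2 : x = b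
        · subst x2; rw [T_b hai hij.symm, T_b hab hij]
        by_cases x3 : x = i
        · subst x3; rw [T_c, T_a hai hab]
        rw [T_o x1 x2 x3, T_o x1 x3 x2]
      rw [this]
      exact inv_mem (hc i hai hij.symm)
    · have : T a i j = T a b j * (T a b i)⁻¹ := by
        rw [eq_mul_inv_iff_mul_eq]
        ext x
        simp only [Perm.mul_apply]
        by_cases x1 : x = a
        · subst x1
          rw [T_a hab hai, T_o hab.symm hib hjb, T_a hab haj]
        by_cases x2 : x = b
        · subst x2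
          rw [T_b hai hib, T_b haj hij, T_b haj hjb]
        by_cases x3 : x = i
        · subst x3
          rw [T_c, T_a hai haj, T_o hai.symm (Ne.symm hib) hij]
        by_cases x4 : x = j
        · subst x4
          rw [T_o x1 x2 x3, T_c, T_c]
        rw [T_o x1 x2 x3, T_o x1 x3 x4, T_o x1 x2 x4]
      rw [this]
      exact mul_mem (hc j haj hjb) (inv_mem (hc i hai hib))
  by_cases hta : t a = a
  · obtain ⟨x, hx⟩ : ∃ x, t x ≠ x := by
      by_contra hc
      push Not at hc
      exact ht.ne_one (Perm.ext hc)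
    obtain ⟨he, h3, h1, h2⟩ := eq_T ht hx
    have ax : a ≠ x := fun h => hx (h ▸ hta)
    have ay : a ≠ t x := fun h => ax (t.injective (hta.trans h))
    have az : a ≠ t (t x) := fun h => ay (t.injective (hta.trans h))
    have : t = T a x (t x) * T a (t x) (t (t x)) := by
      refine he.trans ?_
      generalize t x = y at *
      generalize t y = z at *
      ext u
      simp only [Perm.mul_apply]
      by_cases u1 : u = a
      · subst u1; rw [T_o ax ay az, T_a ay az, T_c]
      by_cases u2 : u = x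
      · subst u2; rw [T_a hx.symm h1.symm, T_o (Ne.symm ax) hx.symm h1.symm, T_b ay hx.symm]
      by_cases u3 : u = y
      · subst u3; rw [T_b h1.symm h2.symm, T_b az h2.symm, T_o (Ne.symm az) h1 h2]
      by_cases u4 : u = z
      · subst u4; rw [T_c, T_c, T_a ax ay]
      rw [T_o u2 u3 u4, T_o u1 u3 u4, T_o u1 u2 u3]
    rw [this]
    exact mul_mem (hA _ _ ax ay hx.symm) (hA _ _ ay az h2.symm)
  · obtain ⟨he, -, h1, h2⟩ := eq_T ht hta
    rw [he]
    exact hA _ _ (Ne.symm hta) (Ne.symm h1) (Ne.symm h2)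

/-- For `n ≠ 6` an element of order 3 of the alternating group with the same centraliser order as a
3-cycle is a 3-cycle. -/
theorem isThreeCycle_image {n : ℕ} (h6 : n ≠ 6)
    (φ : MulAut ↥(alternatingGroup (Fin n))) {x : ↥(alternatingGroup (Fin n))}
    (hx : (x : Equiv.Perm (Fin n)).IsThreeCycle) : (φ x : Equiv.Perm (Fin n)).IsThreeCycle := by
  set y := φ x with hy
  have hoy : orderOf (y : Equiv.Perm (Fin n)) = 3 := by
    rw [Subgroup.orderOf_coe, hy, MulEquiv.orderOf_eq, ← Subgroup.orderOf_coe, hx.orderOf]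
  obtain ⟨m, hm⟩ : ∃ m, (y : Equiv.Perm (Fin n)).cycleType = Multiset.replicate (m + 1) 3 := by
    have : Fact (Nat.Prime 3) := ⟨Nat.prime_three⟩
    obtain ⟨m, hm⟩ := Equiv.Perm.cycleType_prime_order (σ := (y : Equiv.Perm (Fin n))) (hoy.symm ▸ Nat.prime_three)
    exact ⟨m, by rw [hm, hoy]⟩
  rcases Nat.eq_zero_or_pos m with rfl | hmpos
  · rw [Equiv.Perm.IsThreeCycle, hm]; rfl
  exfalso
  have hle : 3 * (m + 1) ≤ n := by
    have := Equiv.Perm.sum_cycleType (y : Equiv.Perm (Fin n))
    rw [hm, Multiset.sum_replicate, smul_eq_mul] at this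
    have h' := Finset.card_le_univ (y : Equiv.Perm (Fin n)).support
    rw [Fintype.card_fin] at h'
    omega
  have cx : Nat.card (Subgroup.centralizer {(x : Equiv.Perm (Fin n))}) = (n - 3).factorial * 3 := by
    rw [Equiv.Perm.nat_card_centralizer, hx.cycleType]
    simp
  have cy : Nat.card (Subgroup.centralizer {(y : Equiv.Perm (Fin n))}) =
      (n - 3 * (m + 1)).factorial * 3 ^ (m + 1) * (m + 1).factorial := by
    rw [Equiv.Perm.nat_card_centralizer, hm]
    rw [Multiset.sum_replicate, Multiset.prod_replicate, Multiset.toFinset_replicate, if_neg (Nat.succ_ne_zero m),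
      Finset.prod_singleton, Multiset.count_replicate_self, smul_eq_mul, Fintype.card_fin, mul_comm (m + 1) 3]
  -- centralisers inside the alternating group
  have cA : ∀ z : ↥(alternatingGroup (Fin n)),
      Nat.card (Subgroup.centralizer {(z : Equiv.Perm (Fin n))}) = Nat.card (Subgroup.centralizer {z}) ∨
      Nat.card (Subgroup.centralizer {(z : Equiv.Perm (Fin n))}) = 2 * Nat.card (Subgroup.centralizer {z}) := by
    intro z
    set C := Subgroup.centralizer {(z : Equiv.Perm (Fin n))}
    have e : Nat.card ((alternatingGroup (Fin n)).subgroupOf C) = Nat.card (Subgroup.centralizer {z}) := by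
      apply Nat.card_congr
      refine ⟨fun u => ⟨⟨(u.1 : Equiv.Perm (Fin n)), u.2⟩, ?_⟩, fun u => ⟨⟨(u.1 : Equiv.Perm (Fin n)), ?_⟩, u.1.2⟩,
        fun u => rfl, fun u => rfl⟩
      · rw [Subgroup.mem_centralizer_singleton_iff]
        exact Subtype.ext (Subgroup.mem_centralizer_singleton_iff.mp u.1.2)
      · rw [Subgroup.mem_centralizer_singleton_iff]
        exact congrArg Subtype.val (Subgroup.mem_centralizer_singleton_iff.mp u.2)
    have hi : ((alternatingGroup (Fin n)).subgroupOf C).index ∣ 2 := by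
      have := (alternatingGroup (Fin n)).relIndex_dvd_index_of_normal C
      refine this.trans ?_
      rcases subsingleton_or_nontrivial (Fin n) with h | h
      · simp [Subgroup.index_eq_one.mpr (Subsingleton.elim _ _)]
      · rw [alternatingGroup.index_eq_two]
    have hC := ((alternatingGroup (Fin n)).subgroupOf C).card_mul_index
    rcases (Nat.dvd_prime Nat.prime_two).mp hi with h | h <;> rw [h, e] at hC <;> omega
  have hxx : Nat.card (Subgroup.centralizer {y}) = Nat.card (Subgroup.centralizer {x}) := by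
    symm
    apply Nat.card_congr
    refine (φ.subgroupMap (Subgroup.centralizer {x})).toEquiv.trans (Equiv.setCongr ?_)
    ext u
    simp only [Subgroup.coe_map, Set.mem_image, SetLike.mem_coe, Subgroup.mem_centralizer_singleton_iff]
    constructor
    · rintro ⟨w, hw, rfl⟩
      change φ w * φ x = φ x * φ w
      rw [← map_mul, hw, map_mul]
    · intro hu
      refine ⟨φ.symm u, ?_, by simp⟩
      apply φ.injective
      simpa [hy] using hu
  -- the odd permutation centralising `x`
  have hxodd : Nat.card (Subgroup.centralizer {(x : Equiv.Perm (Fin n))}) = 2 * Nat.card (Subgroup.centralizer {x}) := by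
    rcases cA x with h | h
    swap; exact h
    exfalso
    have hcard : 2 ≤ ((x : Equiv.Perm (Fin n)).supportᶜ).card := by
      rw [Finset.card_compl, hx.card_support, Fintype.card_fin]; omega
    obtain ⟨p, hp, q, hq, hpq⟩ := Finset.one_lt_card.mp hcard
    rw [Finset.mem_compl, Equiv.Perm.notMem_support] at hp hq
    have hmem : Equiv.swap p q ∈ Subgroup.centralizer {(x : Equiv.Perm (Fin n))} := by
      rw [Subgroup.mem_centralizer_singleton_iff]
      have := Equiv.swap_apply_apply (x : Equiv.Perm (Fin n)) p q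
      rw [hp, hq] at this
      conv_lhs => rw [this]
      group
    set C := Subgroup.centralizer {(x : Equiv.Perm (Fin n))}
    have hC : Nat.card ((alternatingGroup (Fin n)).subgroupOf C) = Nat.card C := by
      rw [h]
      apply Nat.card_congr
      refine ⟨fun u => ⟨⟨(u.1 : Equiv.Perm (Fin n)), u.2⟩, ?_⟩, fun u => ⟨⟨(u.1 : Equiv.Perm (Fin n)), ?_⟩, u.1.2⟩,
        fun u => rfl, fun u => rfl⟩
      · rw [Subgroup.mem_centralizer_singleton_iff]
        exact Subtype.ext (Subgroup.mem_centralizer_singleton_iff.mp u.1.2)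
      · rw [Subgroup.mem_centralizer_singleton_iff]
        exact congrArg Subtype.val (Subgroup.mem_centralizer_singleton_iff.mp u.2)
    have := Subgroup.eq_top_of_card_eq _ hC
    have hmem' : (⟨_, hmem⟩ : C) ∈ (alternatingGroup (Fin n)).subgroupOf C := this ▸ Subgroup.mem_top _
    rw [Subgroup.mem_subgroupOf, Equiv.Perm.mem_alternatingGroup, Equiv.Perm.sign_swap hpq] at hmem'
    exact absurd hmem' (by decide)
  have key : (n - 3).factorial * 3 = (n - 3 * (m + 1)).factorial * 3 ^ (m + 1) * (m + 1).factorial ∨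
      (n - 3).factorial * 3 = 2 * ((n - 3 * (m + 1)).factorial * 3 ^ (m + 1) * (m + 1).factorial) := by
    rw [← cx, ← cy]
    rcases cA y with h | h <;> rw [hxx] at h <;> omega
  rcases Nat.lt_or_ge m 2 with hm2 | hm2
  · obtain rfl : m = 1 := by omega
    obtain ⟨e, rfl⟩ : ∃ e, n = e + 7 := ⟨n - 7, by omega⟩
    have h1 : e + 7 - 3 = e + 1 + 1 + 1 + 1 := by omega
    have h2 : e + 7 - 3 * (1 + 1) = e + 1 := by omega
    rw [h1, h2, Nat.factorial_succ (e + 1 + 1 + 1), Nat.factorial_succ (e + 1 + 1),
      Nat.factorial_succ (e + 1), show (1 + 1 : ℕ).factorial = 2 from rfl] at key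
    have hpos := Nat.factorial_pos (e + 1)
    have h24 : 24 ≤ (e + 1 + 1 + 1 + 1) * ((e + 1 + 1 + 1) * (e + 1 + 1)) := by
      have := Nat.mul_le_mul (show 4 ≤ e + 1 + 1 + 1 + 1 by omega)
        (Nat.mul_le_mul (show 3 ≤ e + 1 + 1 + 1 by omega) (show 2 ≤ e + 1 + 1 by omega))
      omega
    have := Nat.mul_le_mul_right (e + 1).factorial h24
    rcases key with k | k <;> norm_num at k <;> nlinarith
  · -- `(n-3)! ≥ (3m)! (n-3m-3)!`
    have hineq : ∀ k, 2 ≤ k → 2 * 3 ^ k * (k + 1).factorial < (3 * k).factorial := by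
      intro k hk
      induction k, hk using Nat.le_induction with
      | base => decide
      | succ k hk ih =>
        rw [Nat.factorial_succ (k + 1), show 3 * (k + 1) = 3 * k + 1 + 1 + 1 by ring,
          Nat.factorial_succ (3 * k + 1 + 1), Nat.factorial_succ (3 * k + 1), Nat.factorial_succ (3 * k), pow_succ]
        have h0 : 2 ≤ (3 * k + 1 + 1) * (3 * k + 1) := by nlinarith
        have h1 : 3 * (k + 1 + 1) ≤ (3 * k + 1 + 1 + 1) * ((3 * k + 1 + 1) * (3 * k + 1)) :=
          (show 3 * (k + 1 + 1) ≤ (3 * k + 1 + 1 + 1) * 2 by omega).trans (Nat.mul_le_mul_left _ h0)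
        calc 2 * (3 ^ k * 3) * ((k + 1 + 1) * (k + 1).factorial)
            = 3 * (k + 1 + 1) * (2 * 3 ^ k * (k + 1).factorial) := by ring
          _ < 3 * (k + 1 + 1) * (3 * k).factorial := by
              apply Nat.mul_lt_mul_of_pos_left ih; omega
          _ ≤ (3 * k + 1 + 1 + 1) * ((3 * k + 1 + 1) * (3 * k + 1)) * (3 * k).factorial :=
              Nat.mul_le_mul_right _ h1
          _ = _ := by ring
    have h1 : (3 * m).factorial * (n - 3 * (m + 1)).factorial ≤ (n - 3).factorial :=
      Nat.le_of_dvd (Nat.factorial_pos _) ((Nat.factorial_mul_factorial_dvd_factorial_add _ _).trans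
        (Nat.factorial_dvd_factorial (by omega)))
    have h2 := hineq m hm2
    have hpos := Nat.factorial_pos (n - 3 * (m + 1))
    rw [pow_succ] at key
    rcases key with k | k <;> nlinarith

/-- Automorphisms of the alternating groups: for n ≥ 4 with n ≠ 6, every automorphism of the alternating group of degree n is conjugation by a unique permutation, i.e. conjugation induces an isomorphism from the symmetric group of degree n onto the automorphism group of the alternating group (so the outer automorphism group has order 2). -/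
theorem result (n : ℕ) (hn : 4 ≤ n) (h6 : n ≠ 6) : Function.Bijective (MulAut.conjNormal : Equiv.Perm (Fin n) →* MulAut ↥(alternatingGroup (Fin n))) := by
  set ψ : Equiv.Perm (Fin n) →* MulAut ↥(alternatingGroup (Fin n)) := MulAut.conjNormal with hψ
  have hconj : ∀ (σ : Equiv.Perm (Fin n)) (g : ↥(alternatingGroup (Fin n))),
      (ψ σ g : Equiv.Perm (Fin n)) = σ * g * σ⁻¹ := fun σ g => MulAut.conjNormal_apply σ g
  constructor
  · rw [injective_iff_map_eq_one]
    intro σ hσ
    ext1 a
    by_contra hne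
    rw [Equiv.Perm.one_apply] at hne
    obtain ⟨c, hc⟩ : ∃ c, c ∉ ({a, σ a} : Finset (Fin n)) := by
      by_contra! h
      have e := Finset.card_le_two (a := a) (b := σ a)
      rw [Finset.eq_univ_iff_forall.mpr h, Finset.card_univ, Fintype.card_fin] at e
      omega
    obtain ⟨d, hd⟩ : ∃ d, d ∉ ({a, σ a, c} : Finset (Fin n)) := by
      by_contra! h
      have e := Finset.card_le_three (a := a) (b := σ a) (c := c)
      rw [Finset.eq_univ_iff_forall.mpr h, Finset.card_univ, Fintype.card_fin] at e
      omega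
    simp only [Finset.mem_insert, Finset.mem_singleton, not_or] at hc hd
    have hT := isThreeCycle_T (a := a) (b := c) (c := d) (Ne.symm hc.1) (Ne.symm hd.1) (Ne.symm hd.2.2)
    have h := congrArg (fun f : MulAut ↥(alternatingGroup (Fin n)) =>
      (f ⟨T a c d, hT.mem_alternatingGroup⟩ : Equiv.Perm (Fin n))) hσ
    simp only [hconj, MulAut.one_apply, conj_T] at h
    have h' : T (σ a) (σ c) (σ d) (σ a) = T a c d (σ a) := congrArg (fun f : Equiv.Perm (Fin n) => f (σ a)) h
    rw [T_a (fun e => hc.1 (σ.injective e).symm) (fun e => hd.1 (σ.injective e).symm),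
      T_o hne (Ne.symm hc.2) (Ne.symm hd.2.1)] at h'
    exact hc.1 (σ.injective h')
  · intro φ
    obtain ⟨a, b, hab⟩ : ∃ a b : Fin n, a ≠ b := ⟨⟨0, by omega⟩, ⟨1, by omega⟩, by simp⟩
    set y : {i // a ≠ i ∧ b ≠ i} → Equiv.Perm (Fin n) := fun i =>
      φ ⟨T a b i.1, (isThreeCycle_T hab i.2.1 i.2.2).mem_alternatingGroup⟩ with hy
    have hy3 : ∀ i, (y i).IsThreeCycle := fun i =>
      isThreeCycle_image h6 φ (isThreeCycle_T hab i.2.1 i.2.2)
    have hedge : ∀ i j, i ≠ j → ∃ x, y i x ≠ x ∧ y j x = y i x := by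
      intro i j hij
      have hij' : i.1 ≠ j.1 := fun h => hij (Subtype.ext h)
      obtain ⟨hsq, hne⟩ := mul_T_sq hab i.2.1 i.2.2 j.2.1 j.2.2 hij'
      set ti : ↥(alternatingGroup (Fin n)) := ⟨T a b i.1, (isThreeCycle_T hab i.2.1 i.2.2).mem_alternatingGroup⟩
      set tj : ↥(alternatingGroup (Fin n)) := ⟨T a b j.1, (isThreeCycle_T hab j.2.1 j.2.2).mem_alternatingGroup⟩
      have hprod : y i * y j = ((φ (ti * tj) : ↥(alternatingGroup (Fin n))) : Equiv.Perm (Fin n)) := by
        rw [map_mul]; rfl
      refine edge (hy3 i) (hy3 j) ?_ ?_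
      · have hone : (ti * tj) ^ 2 = 1 := Subtype.ext hsq
        rw [hprod, ← SubgroupClass.coe_pow, ← map_pow, hone, map_one]
        rfl
      · intro h
        rw [hprod] at h
        have : φ (ti * tj) = 1 := Subtype.ext h
        exact hne (congrArg Subtype.val (φ.injective (this.trans (map_one φ).symm)))
    obtain ⟨i₀, j₀, hij₀⟩ : ∃ i j : {i // a ≠ i ∧ b ≠ i}, i ≠ j := by
      have hc : 1 < Fintype.card {i // a ≠ i ∧ b ≠ i} := by
        rw [Fintype.card_subtype]
        have : (Finset.univ.filter (fun i => a ≠ i ∧ b ≠ i)) = ({a, b} : Finset (Fin n))ᶜ := by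
          ext i; simp [eq_comm]
        rw [this, Finset.card_compl, Finset.card_pair hab, Fintype.card_fin]
        omega
      exact Fintype.one_lt_card_iff.mp hc
    obtain ⟨A, hA, hA'⟩ := hedge i₀ j₀ hij₀
    set B := y i₀ A with hB
    have hAB : A ≠ B := Ne.symm hA
    have hform : ∀ {w : Equiv.Perm (Fin n)}, w.IsThreeCycle → w A = B →
        w = T A B (w B) ∧ w B ≠ A ∧ w B ≠ B := by
      intro w hw hwA
      obtain ⟨h, -, h1, h2⟩ := eq_T hw (x := A) (by rw [hwA]; exact hA)
      rw [hwA] at h h1 h2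
      exact ⟨h, h1, h2⟩
    have hyinj : Function.Injective y := fun i j h => by
      have := φ.injective (Subtype.ext h)
      have h' := congrArg (fun f : ↥(alternatingGroup (Fin n)) => (f : Equiv.Perm (Fin n)) b) this
      simp only [T_b i.2.1 i.2.2, T_b j.2.1 j.2.2] at h'
      exact Subtype.ext h'
    have hall : ∀ i, y i A = B := by
      intro i
      by_cases h0 : i = i₀
      · rw [h0]
      by_cases h1 : i = j₀
      · rw [h1, hA']
      obtain ⟨e0, a0, b0⟩ := hform (hy3 i₀) rfl
      obtain ⟨e1, a1, b1⟩ := hform (hy3 j₀) hA'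
      have hCD : y i₀ B ≠ y j₀ B := fun h => hij₀ (hyinj (e0.trans (h ▸ e1.symm)))
      refine third (hy3 i) hAB a0.symm b0.symm a1.symm b1.symm hCD ?_ ?_
      · rw [← e0]; exact hedge i₀ i (Ne.symm h0)
      · rw [← e1]; exact hedge j₀ i (Ne.symm h1)
    set s : Fin n → Fin n := fun x => if ha : x = a then A else if hb : x = b then B
      else y ⟨x, Ne.symm ha, Ne.symm hb⟩ B with hs
    have hsa : s a = A := by simp [hs]
    have hsb : s b = B := by simp [hs, hab.symm]
    have hsi : ∀ i : {i // a ≠ i ∧ b ≠ i}, s i.1 = y i B := fun i => by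
      simp [hs, Ne.symm i.2.1, Ne.symm i.2.2]
    have hsinj : Function.Injective s := by
      have key : ∀ i : {i // a ≠ i ∧ b ≠ i}, y i B ≠ A ∧ y i B ≠ B := fun i =>
        (hform (hy3 i) (hall i)).2
      have hs_cases : ∀ u, (u = a ∧ s u = A) ∨ (u = b ∧ s u = B) ∨
          ∃ i : {i // a ≠ i ∧ b ≠ i}, i.1 = u ∧ s u = y i B := by
        intro u
        by_cases ua : u = a
        · exact Or.inl ⟨ua, ua ▸ hsa⟩
        by_cases ub : u = b
        · exact Or.inr (Or.inl ⟨ub, ub ▸ hsb⟩)
        exact Or.inr (Or.inr ⟨⟨u, Ne.symm ua, Ne.symm ub⟩, rfl, hsi ⟨u, Ne.symm ua, Ne.symm ub⟩⟩)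
      intro u v huv
      rcases hs_cases u with ⟨hu, eu⟩ | ⟨hu, eu⟩ | ⟨i, hu, eu⟩ <;>
        rcases hs_cases v with ⟨hv, ev⟩ | ⟨hv, ev⟩ | ⟨j, hv, ev⟩ <;> rw [eu, ev] at huv
      · rw [hu, hv]
      · exact absurd huv hAB
      · exact absurd huv.symm (key j).1
      · exact absurd huv.symm hAB
      · rw [hu, hv]
      · exact absurd huv.symm (key j).2
      · exact absurd huv (key i).1
      · exact absurd huv (key i).2
      · have ei := (hform (hy3 i) (hall i)).1
        rw [huv] at ei
        rw [← hu, ← hv, hyinj (ei.trans (hform (hy3 j) (hall j)).1.symm)]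
    set σ : Equiv.Perm (Fin n) := Equiv.ofBijective s (Finite.injective_iff_bijective.mp hsinj) with hσ
    refine ⟨σ, MulEquiv.toMonoidHom_injective ?_⟩
    apply MonoidHom.eq_of_eqOn_dense (s := {g : ↥(alternatingGroup (Fin n)) |
      ∃ i, a ≠ i ∧ b ≠ i ∧ (g : Equiv.Perm (Fin n)) = T a b i})
    · rw [eq_top_iff]
      rintro g -
      have : (g : Equiv.Perm (Fin n)) ∈ (Subgroup.closure {g : ↥(alternatingGroup (Fin n)) |
          ∃ i, a ≠ i ∧ b ≠ i ∧ (g : Equiv.Perm (Fin n)) = T a b i}).map (alternatingGroup (Fin n)).subtype := by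
        have himg : (alternatingGroup (Fin n)).subtype '' {g : ↥(alternatingGroup (Fin n)) |
            ∃ i, a ≠ i ∧ b ≠ i ∧ (g : Equiv.Perm (Fin n)) = T a b i} =
            {g : Equiv.Perm (Fin n) | ∃ i, a ≠ i ∧ b ≠ i ∧ g = T a b i} := by
          ext z
          constructor
          · rintro ⟨w, hw, rfl⟩; exact hw
          · rintro ⟨i, h1, h2, rfl⟩
            exact ⟨⟨_, (isThreeCycle_T hab h1 h2).mem_alternatingGroup⟩, ⟨i, h1, h2, rfl⟩, rfl⟩
        rw [MonoidHom.map_closure, himg]
        have hall3 : alternatingGroup (Fin n) ≤ Subgroup.closure {g : Equiv.Perm (Fin n) | ∃ i, a ≠ i ∧ b ≠ i ∧ g = T a b i} := by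
          rw [← Equiv.Perm.closure_three_cycles_eq_alternating, Subgroup.closure_le]
          exact fun t ht => three_cycle_mem_closure hab ht
        exact hall3 g.2
      obtain ⟨w, hw, hwg⟩ := this
      rwa [← Subtype.ext hwg]
    · rintro g ⟨i, h1, h2, hg⟩
      apply Subtype.ext
      have : g = ⟨T a b i, (isThreeCycle_T hab h1 h2).mem_alternatingGroup⟩ := Subtype.ext hg
      subst this
      change ((ψ σ) _ : Equiv.Perm (Fin n)) = _
      rw [hconj, conj_T]
      have e1 : σ a = A := hsa
      have e2 : σ b = B := hsb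
      have e3 : σ i = y ⟨i, h1, h2⟩ B := hsi ⟨i, h1, h2⟩
      rw [e1, e2, e3]
      exact ((hform (hy3 _) (hall _)).1).symm

end Cfsg.Agent.S2119
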