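import Cfsg.Statements.S0519
import Cfsg.Agent.Lib.ClassK.CyclicNormal

set_option autoImplicit false
open Cfsg

namespace Cfsg.Agent.S0519

open Subgroup CfsgLib.ClassK



/-- Let P be a finite p-group in which every abelian normal subgroup is cyclic, but which has a non-cyclic abelian
subgroup. Then p = 2 and P is generalized quaternion, dihedral of order at least 16, or quasi-dihedral. -/
theorem result {P : Type*} [Group P] [Finite P] (p : ℕ) [Fact p.Prime]
    (hP : IsPGroup p P) (hn : ∀ A : Subgroup P, A.Normal → IsMulCommutative A → IsCyclic A)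
    (hm : ∃ B : Subgroup P, IsMulCommutative B ∧ ¬ IsCyclic B) :
    p = 2 ∧ ((∃ n : ℕ, Nonempty (P ≃* QuaternionGroup n)) ∨ (∃ n : ℕ, 8 ≤ n ∧ Nonempty (P ≃* DihedralGroup n)) ∨
      Cfsg.IsQuasiDihedral P) := by
  classical
  have hp : p.Prime := Fact.out
  obtain ⟨B, hBc, hBnc⟩ := hm
  obtain ⟨A, -, hAn, hAc, hself⟩ :=
    CfsgLib.OddLocal.exists_normal_self_centralizing hP (⊥ : Subgroup P) inferInstance
  haveI := hn A hAn hAc
  obtain ⟨⟨a, haA⟩, hgen⟩ := IsCyclic.exists_generator (α := A)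
  have hAa : A = zpowers a := le_antisymm (fun x hx => by
    obtain ⟨i, hi⟩ := mem_zpowers_iff.1 (hgen ⟨x, hx⟩)
    exact mem_zpowers_iff.2 ⟨i, congrArg Subtype.val hi⟩) (zpowers_le.2 haA)
  subst hAa
  obtain ⟨m, hm⟩ := hP.exists_card_eq (G := P) |>.elim fun n hn' =>
    (Nat.dvd_prime_pow hp).1 (hn' ▸ _root_.orderOf_dvd_natCard a) |>.imp fun i h => h.2
  -- an element of order `p` outside `⟨a⟩`
  obtain ⟨y, hy, hyA⟩ : ∃ y : P, orderOf y = p ∧ y ∉ zpowers a := by
    by_contra! hno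
    haveI := hn _ hAn hAc
    apply hBnc
    haveI : IsMulCommutative B := hBc
    refine CfsgLib.StructC.isCyclic_of_comm_of_unique (p := p) (hP.to_subgroup B)
      (fun u v hu hv huv => ?_) ⊤ inferInstance |> fun h => (topEquiv (G := B)).isCyclic.1 h
    have h1 := hno (u : P) (by rw [Subgroup.orderOf_coe, hu])
    have h2 := hno (v : P) (by rw [Subgroup.orderOf_coe, hv])
    have hz : ∀ w ∈ zpowers a, orderOf w = p → zpowers w = zpowers (a ^ ((p ^ (m - 1) : ℕ) : ℤ)) := by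
      intro w hw hwo
      obtain ⟨i, rfl⟩ := mem_zpowers_iff.1 hw
      have hle : zpowers (a ^ i) ≤ zpowers (a ^ ((p ^ (m - 1) : ℕ) : ℤ)) := by
        rw [zpowers_le]
        have hd : ((orderOf a : ℕ) : ℤ) ∣ i * p := by
          rw [orderOf_dvd_iff_zpow_eq_one, zpow_mul, zpow_natCast, ← hwo, pow_orderOf_eq_one]
        obtain ⟨t, ht⟩ : ((p ^ (m - 1) : ℕ) : ℤ) ∣ i := by
          rcases Nat.eq_zero_or_pos m with h0 | h0
          · subst h0; simp
          · obtain ⟨m', rfl⟩ : ∃ m', m = m' + 1 := ⟨m - 1, by omega⟩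
            rw [hm, pow_succ, Nat.cast_mul] at hd
            rw [Nat.add_sub_cancel]
            exact Int.dvd_of_mul_dvd_mul_right (by exact_mod_cast hp.ne_zero) hd
        rw [ht, zpow_mul]
        exact zpow_mem (mem_zpowers _) t
      refine eq_of_le_of_card_ge hle ?_
      rw [Nat.card_zpowers, Nat.card_zpowers, hwo]
      refine Nat.le_of_dvd hp.pos (orderOf_dvd_of_pow_eq_one ?_)
      rw [← zpow_natCast (a ^ _) p, ← zpow_mul, ← Nat.cast_mul, ← pow_succ, zpow_natCast,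
        ← orderOf_dvd_iff_pow_eq_one, hm]
      exact pow_dvd_pow p (by omega)
    obtain ⟨i, hi⟩ := mem_zpowers_iff.1
      ((hz _ h2 (by rw [Subgroup.orderOf_coe, hv])).le.trans (hz _ h1 (by rw [Subgroup.orderOf_coe, hu])).ge
        (mem_zpowers _))
    exact mem_zpowers_iff.2 ⟨i, Subtype.ext (by simpa using hi)⟩
  have hm1 : 1 ≤ m := by
    by_contra h
    have h0 : m = 0 := by omega
    rw [h0, pow_zero, orderOf_eq_one_iff] at hm
    subst hm
    refine hyA (hself.le ?_)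
    simp [mem_centralizer_singleton_iff]
  have hact : ∀ g : P, ∃ k : ℤ, g * a * g⁻¹ = a ^ k := fun g => by
    obtain ⟨k, hk⟩ := mem_zpowers_iff.1 (hAn.conj_mem a (mem_zpowers a) g)
    exact ⟨k, hk.symm⟩
  have hdvd : ∀ (g : P) (k : ℤ) (n : ℕ), g * a * g⁻¹ = a ^ k → g ^ n ∈ zpowers a →
      ((p ^ m : ℕ) : ℤ) ∣ k ^ n - 1 := by
    intro g k n hk hgn
    have h1 := conj_pow_of_conj hk n
    obtain ⟨j, hj⟩ := mem_zpowers_iff.1 hgn
    rw [← hj, show a ^ j * a * (a ^ j)⁻¹ = a by group] at h1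
    rw [← hm, orderOf_dvd_sub_iff_zpow_eq_zpow, zpow_one, ← h1]
  obtain ⟨k, hk⟩ := hact y
  have hyp := hdvd y k p hk (by rw [← hy, pow_orderOf_eq_one]; exact one_mem _)
  have hp2 : p = 2 := by
    by_contra hne
    refine false_of_conj_congr_one hn hAn hself hm1 hm hy hyA hk ?_ (fun h => absurd h hne)
    rw [← ZMod.intCast_zmod_eq_zero_iff_dvd]
    have : ((k ^ p - 1 : ℤ) : ZMod p) = 0 :=
      (ZMod.intCast_zmod_eq_zero_iff_dvd _ _).2
        (dvd_trans (by exact_mod_cast dvd_pow_self p (by omega : m ≠ 0)) hyp)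
    push_cast at this ⊢
    rwa [ZMod.pow_card] at this
  subst hp2
  refine ⟨rfl, Or.inr ?_⟩
  -- `⟨a⟩` has index two
  have hcases : ∀ h : P, ∀ u : ℤ, h * a * h⁻¹ = a ^ u → (4 : ℤ) ∣ u - 1 → h ∈ zpowers a := by
    intro h u hu h4
    by_contra hh
    have hex : ∃ l : ℕ, h ^ 2 ^ l ∈ zpowers a := by
      obtain ⟨l, hl⟩ := hP h
      exact ⟨l, hl ▸ one_mem _⟩
    have hl0 : Nat.find hex ≠ 0 := fun e => hh (by
      have := Nat.find_spec hex
      rwa [e, pow_zero, pow_one] at this)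
    set g := h ^ 2 ^ (Nat.find hex - 1) with hg
    have hgA : g ∉ zpowers a := Nat.find_min hex (by omega)
    have hg2 : g ^ 2 ∈ zpowers a := by
      rw [hg, ← pow_mul, ← pow_succ, Nat.sub_add_cancel (by omega)]
      exact Nat.find_spec hex
    have hgu : g * a * g⁻¹ = a ^ (u ^ 2 ^ (Nat.find hex - 1)) := conj_pow_of_conj hu _
    obtain ⟨v, hv⟩ : ∃ v, u ^ 2 ^ (Nat.find hex - 1) = v := ⟨_, rfl⟩
    rw [hv] at hgu
    have hv4 : (4 : ℤ) ∣ v - 1 := by
      rw [← hv]
      exact dvd_trans h4 (by simpa using sub_dvd_pow_sub_pow u 1 (2 ^ (Nat.find hex - 1)))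
    obtain ⟨j, hj⟩ := mem_zpowers_iff.1 hg2
    obtain ⟨c, hc⟩ := hv4
    rcases Int.even_or_odd j with ⟨j', hj'⟩ | hjo
    · -- an involution in the coset
      have hcop : IsCoprime (1 + 2 * c) ((2 : ℤ) ^ m) :=
        IsCoprime.pow_right ⟨1, -c, by ring⟩
      obtain ⟨r, s, hrs⟩ := hcop
      have hinv : (a ^ (-(j' * r)) * g) ^ 2 = 1 := by
        rw [zpow_mul_pow_of_conj hgu, ← hj, ← zpow_add, ← orderOf_dvd_iff_zpow_eq_one, hm]
        refine ⟨2 * j' * s, ?_⟩
        push_cast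
        simp [Finset.sum_range_succ, show v = 1 + 4 * c by linarith, hj']
        linear_combination (-2 * j') * hrs
      refine false_of_conj_congr_one hn hAn hself hm1 hm (y := a ^ (-(j' * r)) * g) (k := v)
        (orderOf_eq_prime hinv fun e => hgA ?_) (fun e => hgA ?_) ?_
        ⟨2 * c, by push_cast; linarith⟩ fun _ => ⟨c, hc⟩
      · rw [eq_inv_of_mul_eq_one_right e]
        exact inv_mem (zpow_mem (mem_zpowers a) _)
      · exact (Subgroup.mul_mem_cancel_left _ (zpow_mem (mem_zpowers a) _)).1 e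
      · calc a ^ (-(j' * r)) * g * a * (a ^ (-(j' * r)) * g)⁻¹
            = a ^ (-(j' * r)) * (g * a * g⁻¹) * (a ^ (-(j' * r)))⁻¹ := by group
          _ = a ^ v := by rw [hgu, ← zpow_neg, ← zpow_add, ← zpow_add]; ring_nf
    · refine hgA (hself.le ?_)
      rw [zpowers_eq_closure, centralizer_closure, mem_centralizer_singleton_iff]
      have hcop : IsCoprime j ((2 : ℤ) ^ m) := by
        obtain ⟨j', hj'⟩ := hjo
        exact IsCoprime.pow_right ⟨1, -j', by rw [hj']; ring⟩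
      obtain ⟨r, s, hrs⟩ := hcop
      have ha' : a = (g ^ 2) ^ r := by
        rw [← hj, ← zpow_mul]
        conv_lhs => rw [← zpow_one a]
        rw [zpow_eq_zpow_iff_modEq, hm, Int.modEq_iff_dvd]
        refine ⟨-s, ?_⟩
        push_cast
        linear_combination hrs
      rw [ha']
      exact (((Commute.self_pow g 2).zpow_right r)).eq
  have hodd : ∀ (h : P) (u : ℤ), h * a * h⁻¹ = a ^ u → Odd u := by
    intro h u hu
    obtain ⟨l, hl⟩ := hP h
    have h1 := hdvd h u (2 ^ l) hu (hl ▸ one_mem _)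
    rcases Int.even_or_odd u with he | ho
    · have h2 : (2 : ℤ) ∣ u ^ 2 ^ l - 1 :=
        dvd_trans (by exact_mod_cast dvd_pow_self 2 (by omega : m ≠ 0)) h1
      have h3 : (2 : ℤ) ∣ u ^ 2 ^ l := dvd_pow (even_iff_two_dvd.1 he) (by positivity)
      omega
    · exact ho
  have hk4 : ¬ (4 : ℤ) ∣ k - 1 := fun h => hyA (hcases y k hk h)
  have hcoset : ∀ h : P, h ∈ zpowers a ∨ h * y ∈ zpowers a := by
    intro h
    obtain ⟨u, hu⟩ := hact h
    by_cases h4 : (4 : ℤ) ∣ u - 1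
    · exact Or.inl (hcases h u hu h4)
    · refine Or.inr (hcases (h * y) (u * k) ?_ ?_)
      · rw [show h * y * a * (h * y)⁻¹ = h * (y * a * y⁻¹) * h⁻¹ by group, hk, conj_zpow_of_conj hu]
      · obtain ⟨u', rfl⟩ := hodd h u hu
        obtain ⟨k', rfl⟩ := hodd y k hk
        obtain ⟨u'', rfl⟩ : Odd u' := Int.not_even_iff_odd.1 fun ⟨t, ht⟩ => h4 ⟨t, by rw [ht]; ring⟩
        obtain ⟨k'', rfl⟩ : Odd k' := Int.not_even_iff_odd.1 fun ⟨t, ht⟩ => hk4 ⟨t, by rw [ht]; ring⟩
        exact ⟨4 * u'' * k'' + 3 * u'' + 3 * k'' + 2, by ring⟩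
  have hindex : (zpowers a).index = 2 := by
    refine index_eq_two_iff.2 ⟨y, fun h => ?_⟩
    rcases hcoset h with h' | h'
    · exact Or.inr ⟨h', fun e => hyA ((Subgroup.mul_mem_cancel_left _ h').1 e)⟩
    · exact Or.inl ⟨h', fun e => hyA ((Subgroup.mul_mem_cancel_left _ e).1 h')⟩
  have hcard : Nat.card P = 2 ^ (m + 1) := by
    rw [← (zpowers a).card_mul_index, hindex, Nat.card_zpowers, hm, pow_succ]
  have hm3 : 3 ≤ m := by
    by_contra hlt
    obtain ⟨l, hl⟩ := (hP.to_subgroup B).exists_card_eq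
    have hl2 : 2 ≤ l := by
      by_contra h
      refine hBnc ?_
      rcases (show l = 0 ∨ l = 1 by omega) with rfl | rfl
      · haveI : Subsingleton B := (Nat.card_eq_one_iff_unique.1 (by simpa using hl)).1
        infer_instance
      · haveI : Fact (Nat.Prime 2) := ⟨Nat.prime_two⟩
        exact isCyclic_of_prime_card (p := 2) (by simpa using hl)
    have hBn : B.Normal := by
      suffices h2 : B.index = 1 ∨ B.index = 2 from h2.elim normal_of_index_eq_one normal_of_index_eq_two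
      have h := B.card_mul_index
      rw [hl, hcard] at h
      have h2 : B.index ∣ 2 := by
        refine Nat.dvd_of_mul_dvd_mul_left (k := 2 ^ l) (by positivity) ?_
        rw [h, ← pow_succ]
        exact pow_dvd_pow 2 (by omega)
      exact (Nat.dvd_prime Nat.prime_two).1 h2
    exact hBnc (hn B hBn hBc)
  -- the action of `y`
  have hk1 : (2 : ℤ) ^ (m - 1) ∣ k + 1 := by
    obtain ⟨k', rfl⟩ := hodd y k hk
    obtain ⟨m', rfl⟩ : ∃ m', m = m' + 2 := ⟨m - 2, by omega⟩
    push_cast at hyp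
    rw [show (2 * k' + 1) ^ 2 - 1 = 4 * (k' * (k' + 1)) by ring,
      show (2 : ℤ) ^ (m' + 2) = 4 * 2 ^ m' by ring] at hyp
    have hko : Odd k' := Int.not_even_iff_odd.1 fun ⟨t, ht⟩ => hk4 ⟨t, by rw [ht]; ring⟩
    obtain ⟨k'', rfl⟩ := hko
    have hd : (2 : ℤ) ^ m' ∣ 2 * k'' + 1 + 1 :=
      (IsCoprime.pow_left (⟨-k'', 1, by ring⟩ : IsCoprime (2 : ℤ) (2 * k'' + 1))).dvd_of_dvd_mul_left
        (Int.dvd_of_mul_dvd_mul_left (by norm_num) hyp)
    obtain ⟨t, ht⟩ := hd
    refine ⟨t, ?_⟩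
    rw [show m' + 2 - 1 = m' + 1 by omega, pow_succ]
    linear_combination 2 * ht
  have hconj : y * a * y⁻¹ = a⁻¹ ∨ y * a * y⁻¹ = a ^ (2 ^ (m - 1) - 1) := by
    obtain ⟨t, ht⟩ := hk1
    have hm' : (2 : ℤ) ^ m = 2 ^ (m - 1) * 2 := by
      rw [← pow_succ, Nat.sub_add_cancel (by omega)]
    rcases Int.even_or_odd t with ⟨t', rfl⟩ | ⟨t', rfl⟩
    · left
      rw [hk, ← zpow_neg_one, zpow_eq_zpow_iff_modEq, hm, Int.modEq_iff_dvd]
      refine ⟨-t', ?_⟩
      push_cast
      rw [hm']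
      linear_combination -ht
    · right
      rw [hk, ← zpow_natCast, zpow_eq_zpow_iff_modEq, hm, Int.modEq_iff_dvd,
        Nat.cast_sub Nat.one_le_two_pow]
      refine ⟨-t', ?_⟩
      push_cast
      rw [hm']
      linear_combination -ht
  rcases hconj with hinv | hqd
  · left
    refine ⟨2 ^ m, ?_, ?_⟩
    · exact le_trans (by norm_num : 8 ≤ 2 ^ 3) (Nat.pow_le_pow_right two_pos hm3)
    · haveI : NeZero (2 ^ m) := ⟨by positivity⟩
      obtain ⟨e⟩ := CfsgLib.Invol.exists_mulEquiv_dihedral hm hy hinv hyA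
      have htop : closure ({a, y} : Set P) = ⊤ := by
        refine eq_top_iff.2 fun h _ => ?_
        have ha' : zpowers a ≤ closure ({a, y} : Set P) :=
          zpowers_le.2 (subset_closure (Or.inl rfl))
        have hy' : y ∈ closure ({a, y} : Set P) := subset_closure (Or.inr rfl)
        rcases hcoset h with h' | h'
        · exact ha' h'
        · exact (Subgroup.mul_mem_cancel_right _ hy').1 (ha' h')
      exact ⟨(topEquiv.symm.trans (MulEquiv.subgroupCongr htop.symm)).trans e⟩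
  · right
    exact ⟨m, hm3, hcard, a, y, hm, hy, hqd⟩

end Cfsg.Agent.S0519
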