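import Cfsg.Statements.S0203
import Cfsg.Agent.Lib.Invol.Klein

set_option autoImplicit false
open Cfsg

namespace Cfsg.Agent.S0203

/-- If a Sylow 2-subgroup P of a finite group G is a Klein four-group, then G has three classes of involutions if and only if P has a normal complement in G. -/
theorem result {G : Type*} [Group G] [Finite G] (P : Sylow 2 G) (hP : IsKleinFour (P : Subgroup G)) : Nat.card {C : ConjClasses G // ∃ t : G, orderOf t = 2 ∧ ConjClasses.mk t = C} = 3 ↔ ∃ N : Subgroup G, N.Normal ∧ Subgroup.IsComplement' N (P : Subgroup G) := by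
  have hcomm := IsKleinFour.isMulCommutative (G := (P : Subgroup G))
  constructor
  · intro h3
    rcases CfsgLib.Invol.klein_card_classes P hP with ⟨h, -⟩ | ⟨-, h⟩
    · refine (CfsgLib.Transfer.hasNormalPComplement_iff_exists_isComplement' P).1
        (CfsgLib.Transfer.hasNormalPComplement_of_normalizer_le_centralizer P fun n hn => ?_)
      exact Subgroup.mem_centralizer_iff.2 fun a ha => (mul_inv_eq_iff_eq_mul.1 (h n hn a ha)).symm
    · omega
  · rintro ⟨N, hN, hc⟩
    rcases CfsgLib.Invol.klein_card_classes P hP with ⟨-, h⟩ | ⟨hall, -⟩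
    · exact h
    exfalso
    obtain ⟨⟨a, haP⟩, ha1⟩ := (Subgroup.ne_bot_iff_exists_ne_one).1 (show (P : Subgroup G) ≠ ⊥ by
      intro e
      have h4 := hP.card_four
      rw [e, Subgroup.card_bot] at h4
      omega)
    obtain ⟨⟨b, hbP⟩, hb1, hba⟩ : ∃ b : (P : Subgroup G), b ≠ 1 ∧ b ≠ ⟨a, haP⟩ := by
      classical
      have := Fintype.ofFinite (P : Subgroup G)
      have hc : 2 < Fintype.card (P : Subgroup G) := by rw [← Nat.card_eq_fintype_card, hP.card_four]; norm_num
      obtain ⟨x, y, z, hxy, hxz, hyz⟩ := Fintype.two_lt_card_iff.1 hc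
      by_contra hno
      push Not at hno
      rcases eq_or_ne x 1 with rfl | hx
      · exact hyz ((hno y hxy.symm).trans (hno z hxz.symm).symm)
      rcases eq_or_ne y 1 with rfl | hy
      · exact hxz ((hno x hxy).trans (hno z hyz.symm).symm)
      · exact hxy ((hno x hx).trans (hno y hy).symm)
    obtain ⟨g, hg⟩ := isConj_iff.1 (hall a haP b hbP (fun e => ha1 (Subtype.ext e))
      (fun e => hb1 (Subtype.ext e)))
    -- in the abelian quotient `G / N ≅ P` conjugate elements coincide
    have hg' : (g : G ⧸ N) * (a : G ⧸ N) * (g : G ⧸ N)⁻¹ = (b : G ⧸ N) :=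
      congrArg (QuotientGroup.mk' N) hg
    obtain ⟨p, hp⟩ : ∃ p : (P : Subgroup G), ((p : G) : G ⧸ N) = (g : G ⧸ N) := by
      obtain ⟨⟨n, p⟩, hnp⟩ := hc.2 g
      exact ⟨p, by rw [← hnp]; simp [(QuotientGroup.eq_one_iff (n : G)).2 n.2]⟩
    have e : (p : G) * a * (p : G)⁻¹ = a := by
      rw [show (p : G) * a = a * p from congrArg Subtype.val (hcomm.is_comm.comm p ⟨a, haP⟩),
        mul_inv_cancel_right]
    have hab : (a : G ⧸ N) = (b : G ⧸ N) := by
      rw [← hg', ← hp]
      exact (congrArg (QuotientGroup.mk' N) e).symm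
    refine hba (Subtype.ext ?_)
    have hmem : a⁻¹ * b ∈ N ⊓ (P : Subgroup G) :=
      Subgroup.mem_inf.2 ⟨QuotientGroup.eq.1 hab,
        (P : Subgroup G).mul_mem ((P : Subgroup G).inv_mem haP) hbP⟩
    rw [hc.disjoint.eq_bot, Subgroup.mem_bot, inv_mul_eq_one] at hmem
    exact hmem.symm

end Cfsg.Agent.S0203
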