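import Cfsg.Statements.S0948
import Cfsg.Agent.Lib.Block.PrincipalSection
import Cfsg.Agent.Lib.Block.Homocyclic
import Cfsg.Agent.Lib.Block.Knorr
import Cfsg.Agent.Lib.Invol.Q8Main

set_option autoImplicit false
open Cfsg
open scoped ComplexConjugate

namespace Cfsg.Agent.S0948

open CfsgLib.Block in
/-- The centralizer of an involution of `P` has a normal 2-complement and order `4` 2-part. -/
theorem centralizer_facts {G : Type*} [Group G] [Finite G] (P : Sylow 2 G)
    (hP : IsKleinFour (P : Subgroup G)) {z : G} (hzP : z ∈ (P : Subgroup G)) (hz : z ≠ 1) :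
    Cfsg.HasNormalPComplement 2 (Subgroup.centralizer ({z} : Set G)) ∧
      (Nat.card (Subgroup.centralizer ({z} : Set G))).factorization 2 = 2 := by
  have hz2 : z ^ 2 = 1 := by
    rw [pow_two]; exact congrArg Subtype.val (IsKleinFour.mul_self (⟨z, hzP⟩ : (P : Subgroup G)))
  obtain ⟨e⟩ : Nonempty ((P : Subgroup G) ≃* Multiplicative (ZMod (2 ^ 1) × ZMod (2 ^ 1))) :=
    (IsKleinFour.nonempty_mulEquiv : Nonempty ((P : Subgroup G) ≃* Multiplicative (ZMod 2 × ZMod 2)))
  set H := Subgroup.centralizer ({z} : Set G)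
  have hPH : (P : Subgroup G) ≤ H := fun a ha => Subgroup.mem_centralizer_singleton_iff.2
    ((Subgroup.mem_centralizer_iff.1 (Homocyclic.le_centralizer e ha) z hzP).symm)
  let Q : Sylow 2 H := P.subtype hPH
  have hQ : (Q : Subgroup H) = (P : Subgroup G).subgroupOf H := rfl
  refine ⟨CfsgLib.Transfer.hasNormalPComplement_of_normalizer_le_centralizer Q fun n hn => ?_, ?_⟩
  · have hnN : (n : G) ∈ Subgroup.normalizer (P : Set G) := by
      refine Subgroup.mem_normalizer_iff.2 fun x => ?_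
      constructor
      · intro hx
        exact (Subgroup.mem_normalizer_iff.1 hn ⟨x, hPH hx⟩).1 hx
      · intro hx
        have hxH : x ∈ H := by
          have := mul_mem (mul_mem (inv_mem n.2) (hPH hx)) n.2
          simpa [mul_assoc] using this
        exact (Subgroup.mem_normalizer_iff.1 hn ⟨x, hxH⟩).2 hx
    have hnC : (n : G) ∈ Subgroup.centralizer (P : Set G) := by
      refine (Homocyclic.main e le_rfl).2.1 ⟨n, hnN⟩ ⟨z, hzP, hz2, hz⟩ (Subtype.ext ?_)
      change (n : G) * z * (n : G)⁻¹ = z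
      rw [Subgroup.mem_centralizer_singleton_iff.1 n.2, mul_inv_cancel_right]
    rw [Subgroup.mem_centralizer_iff]
    intro v hv
    exact Subtype.ext (Subgroup.mem_centralizer_iff.1 hnC v hv)
  · have h1 := Q.card_eq_multiplicity
    rw [hQ, Nat.card_congr (Subgroup.subgroupOfEquivOfLe hPH).toEquiv, hP.card_four] at h1
    exact (Nat.pow_right_injective le_rfl (show 2 ^ 2 = 2 ^ _ from h1)).symm

open CfsgLib.Block in
/-- Let the finite group G have a Sylow 2-subgroup P that is a Klein four-group, suppose all involutions of G are conjugate, and fix a maximal ideal M of the algebraic integers containing 2. Then the principal block consists of exactly four irreducible characters, the principal character and ζ₂, ζ₃, ζ₄, and there is a sign ε such that for every involution z: ζ₂ z = 1, ζ₃ z = ε, ζ₄ z = -1; moreover ζ₂ 1 ≡ 1, ζ₃ 1 ≡ ε, ζ₄ 1 ≡ -1 (mod 4), and 1 + ζ₂ y + ε ζ₃ y - ζ₄ y = 0 for every y of odd order. -/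
theorem result {G : Type*} [Group G] [Finite G] (M : Ideal Cfsg.AlgInt) (hM : Cfsg.IsPModular 2 M) (P : Sylow 2 G) (hP : IsKleinFour (P : Subgroup G)) (hone : ∀ s t : G, orderOf s = 2 → orderOf t = 2 → IsConj s t) : ∃ ζ₂ ζ₃ ζ₄ : Cfsg.IrrCharacter G, ∃ ε : ℤ, (ε = 1 ∨ ε = -1) ∧ (ζ₂ : G → ℂ) ≠ (fun _ => 1) ∧ (ζ₃ : G → ℂ) ≠ (fun _ => 1) ∧ ζ₂ ≠ ζ₃ ∧ ζ₂ ≠ ζ₄ ∧ ζ₃ ≠ ζ₄ ∧ Cfsg.principalBlock M G = {χ : Cfsg.IrrCharacter G | (χ : G → ℂ) = (fun _ => 1) ∨ χ = ζ₂ ∨ χ = ζ₃ ∨ χ = ζ₄} ∧ (∀ z : G, orderOf z = 2 → (ζ₂ : G → ℂ) z = 1 ∧ (ζ₃ : G → ℂ) z = (ε : ℂ) ∧ (ζ₄ : G → ℂ) z = -1) ∧ (4 : ℤ) ∣ (Cfsg.charDegree (ζ₂ : G → ℂ) : ℤ) - 1 ∧ (4 : ℤ) ∣ (Cfsg.charDegree (ζ₃ : G → ℂ) : ℤ) - ε ∧ (4 : ℤ) ∣ (Cfsg.charDegree (ζ₄ : G → ℂ) : ℤ) + 1 ∧ ∀ y : G, Odd (orderOf y) → 1 + (ζ₂ : G → ℂ) y + (ε : ℂ) * (ζ₃ : G → ℂ) y - (ζ₄ : G → ℂ) y = 0 := by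
  classical
  have := hM.2.1.isPrime
  have := Fintype.ofFinite G
  have := Fintype.ofFinite (IrrCharacter G)
  obtain ⟨⟨z, hzP⟩, hz⟩ : ∃ z : (P : Subgroup G), z ≠ 1 := by
    have : Nontrivial (P : Subgroup G) := by
      rw [← Finite.one_lt_card_iff_nontrivial, hP.card_four]; norm_num
    exact exists_ne 1
  have hz1 : z ≠ 1 := fun h => hz (Subtype.ext h)
  have hzo : orderOf z = 2 := by
    refine orderOf_eq_prime ?_ hz1
    rw [pow_two]; exact congrArg Subtype.val (IsKleinFour.mul_self (⟨z, hzP⟩ : (P : Subgroup G)))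
  obtain ⟨hC, hC2⟩ := centralizer_facts P hP hzP hz1
  obtain ⟨-, hsum⟩ := principal_section hM (x := z) ⟨1, by rw [hzo, pow_one]⟩ hC
  have hB := isPBlock_principalBlock (M := M) (G := G)
  have hall : ∀ χ : IrrCharacter G, ∀ w : G, orderOf w = 2 → (χ : G → ℂ) w = (χ : G → ℂ) z :=
    fun χ w hw => CfsgLib.Char.isClassFunction_isConj (CfsgLib.Char.irr_isClassFunction χ.2)
      (hone w z hw hzo)
  choose v hv using fun χ : IrrCharacter G => CfsgLib.Invol.invol_value χ hzo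
  set one : IrrCharacter G := trivIrr with hone'
  have hv1 : v one = 1 := by exact_mod_cast ((hv one).symm.trans rfl : ((v one : ℤ) : ℂ) = 1)
  have h2G : (Nat.card G).factorization 2 = 2 := by
    have h1 := P.card_eq_multiplicity
    rw [hP.card_four] at h1
    exact (Nat.pow_right_injective le_rfl (show 2 ^ 2 = 2 ^ _ from h1)).symm
  -- no member of the principal block vanishes at the involutions
  have hne : ∀ χ ∈ principalBlock M G, v χ ≠ 0 := by
    intro χ hχ h0
    have h1 := blockDefect_eq_zero_of_vanish hM hB hχ fun w hw => by rw [hall χ w hw, hv χ, h0]; simp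
    have h2 := sInf_degree_add_blockDefect hM hB
    have h3 : sInf ((fun ψ : IrrCharacter G => (charDegree (ψ : G → ℂ)).factorization 2) ''
        principalBlock M G) ≤ (charDegree (one : G → ℂ)).factorization 2 :=
      Nat.sInf_le ⟨one, one_mem_principalBlock, rfl⟩
    have h4 : charDegree (one : G → ℂ) = 1 := by simp [charDegree, hone', trivIrr]
    rw [h4, Nat.factorization_one, Finsupp.zero_apply] at h3
    omega
  set B := (Set.toFinite (principalBlock M G)).toFinset with hBdef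
  have hmem : ∀ χ, χ ∈ B ↔ χ ∈ principalBlock M G := fun χ => Set.Finite.mem_toFinset _
  have hsq : ∑ χ ∈ B, v χ ^ 2 = 4 := by
    have h : ((∑ χ ∈ B, v χ ^ 2 : ℤ) : ℂ) = ((4 : ℤ) : ℂ) := by
      rw [hC2] at hsum
      rw [finsum_mem_eq_finite_toFinset_sum _ (Set.toFinite _)] at hsum
      push_cast
      rw [hBdef, Finset.sum_congr rfl (fun χ _ =>
        show (v χ : ℂ) ^ 2 = (χ : G → ℂ) z * conj ((χ : G → ℂ) z) by
          rw [hv χ, map_intCast, sq]), hsum]
      norm_num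
    exact_mod_cast h
  have hone_mem : one ∈ B := (hmem _).2 one_mem_principalBlock
  have hpos : ∀ χ ∈ B, 1 ≤ v χ ^ 2 := fun χ hχ => by
    have := hne χ ((hmem χ).1 hχ)
    nlinarith [Int.one_le_abs this, sq_abs (v χ), abs_nonneg (v χ)]
  have hpm : ∀ χ ∈ B, v χ = 1 ∨ v χ = -1 := by
    intro χ hχ
    by_contra h
    push Not at h
    have h4 : 4 ≤ v χ ^ 2 := by
      have h0 := hne χ ((hmem χ).1 hχ)
      have : v χ ≤ -2 ∨ 2 ≤ v χ := by omega
      rcases this with h' | h' <;> nlinarith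
    have hne' : χ ≠ one := by rintro rfl; exact h.1 hv1
    have hsub : ∑ φ ∈ ({χ, one} : Finset (IrrCharacter G)), v φ ^ 2 ≤ ∑ φ ∈ B, v φ ^ 2 :=
      Finset.sum_le_sum_of_subset_of_nonneg (by
        intro φ hφ
        rcases Finset.mem_insert.1 hφ with rfl | hφ
        · exact hχ
        · rw [Finset.mem_singleton.1 hφ]; exact hone_mem) fun φ _ _ => sq_nonneg _
    rw [Finset.sum_pair hne', hsq, hv1] at hsub
    omega
  have hcard : B.card = 4 := by
    rw [Finset.sum_congr rfl (g := fun _ => (1 : ℤ)) (fun χ hχ => by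
      rcases hpm χ hχ with h | h <;> simp [h]), Finset.sum_const, nsmul_eq_mul, mul_one] at hsq
    exact_mod_cast hsq
  -- orthogonality with the elements of odd order
  have horth : ∀ y : G, Odd (orderOf y) → ∑ χ ∈ B, (v χ : ℂ) * (χ : G → ℂ) y = 0 := by
    intro y hy
    have h1 := sum_block_eq_zero_of_regular_singular hM hB (g := y) (h := z)
      (fun hd => Nat.not_even_iff_odd.2 hy (even_iff_two_dvd.2 hd)) (by rw [hzo])
    rw [finsum_mem_eq_finite_toFinset_sum _ (Set.toFinite _)] at h1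
    rw [← h1]
    refine Finset.sum_congr rfl fun χ _ => ?_
    rw [hv χ, map_intCast, mul_comm]
  have hdeg : ∑ χ ∈ B, v χ * (charDegree (χ : G → ℂ) : ℤ) = 0 := by
    have h : ((∑ χ ∈ B, v χ * (charDegree (χ : G → ℂ) : ℤ) : ℤ) : ℂ) = 0 := by
      push_cast
      rw [← horth 1 (by rw [orderOf_one]; exact odd_one)]
      exact Finset.sum_congr rfl fun χ _ => by
        rw [charDegree_cast (CfsgLib.Char.irr_isCharacter χ.2)]
    exact_mod_cast h
  have hdpos : ∀ χ : IrrCharacter G, 0 < (charDegree (χ : G → ℂ) : ℤ) := fun χ => by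
    exact_mod_cast Nat.pos_of_ne_zero (charDegree_ne_zero χ.2)
  obtain ⟨a, b, c, hab, hac, hbc, habc⟩ := Finset.card_eq_three.1
    (show (B.erase one).card = 3 by rw [Finset.card_erase_of_mem hone_mem, hcard])
  have hmemB : ∀ χ, χ ∈ B ↔ χ = one ∨ χ = a ∨ χ = b ∨ χ = c := by
    intro χ
    by_cases h : χ = one
    · simp [h, hone_mem]
    · have : χ ∈ B.erase one ↔ χ ∈ B := by simp [h]
      rw [← this, habc]
      simp [h]
  have ha1 : a ≠ one := fun h => by
    have : a ∈ B.erase one := by rw [habc]; simp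
    exact (Finset.mem_erase.1 this).1 h
  have hb1 : b ≠ one := fun h => by
    have : b ∈ B.erase one := by rw [habc]; simp
    exact (Finset.mem_erase.1 this).1 h
  have hc1 : c ≠ one := fun h => by
    have : c ∈ B.erase one := by rw [habc]; simp
    exact (Finset.mem_erase.1 this).1 h
  have hsplit : ∀ {R : Type} [AddCommMonoid R] (f : IrrCharacter G → R),
      ∑ χ ∈ B, f χ = f one + (f a + (f b + f c)) := by
    intro R _ f
    rw [← Finset.add_sum_erase B f hone_mem, habc, Finset.sum_insert (by simp [hab, hac]),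
      Finset.sum_insert (by simp [hbc]), Finset.sum_singleton]
  -- both signs occur among the three
  have hva := hpm a ((hmemB a).2 (by simp))
  have hvb := hpm b ((hmemB b).2 (by simp))
  have hvc := hpm c ((hmemB c).2 (by simp))
  have hd1 : (charDegree (one : G → ℂ) : ℤ) = 1 := by simp [charDegree, hone', trivIrr]
  obtain ⟨ζ₂, ζ₃, ζ₄, h23, h24, h34, hset, hv2, hv4⟩ : ∃ ζ₂ ζ₃ ζ₄ : IrrCharacter G,
      ζ₂ ≠ ζ₃ ∧ ζ₂ ≠ ζ₄ ∧ ζ₃ ≠ ζ₄ ∧
      (∀ χ, (χ = a ∨ χ = b ∨ χ = c) ↔ (χ = ζ₂ ∨ χ = ζ₃ ∨ χ = ζ₄)) ∧ v ζ₂ = 1 ∧ v ζ₄ = -1 := by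
    rw [hsplit, hv1, hd1] at hdeg
    have := hdpos a
    have := hdpos b
    have := hdpos c
    rcases hva with ha | ha <;> rcases hvb with hb | hb <;> rcases hvc with hc | hc <;>
      rw [ha, hb, hc] at hdeg
    · linarith
    · exact ⟨a, b, c, hab, hac, hbc, fun χ => Iff.rfl, ha, hc⟩
    · exact ⟨a, c, b, hac, hab, hbc.symm, fun χ => by tauto, ha, hb⟩
    · exact ⟨a, b, c, hab, hac, hbc, fun χ => Iff.rfl, ha, hc⟩
    · exact ⟨b, c, a, hbc, hab.symm, hac.symm, fun χ => by tauto, hb, ha⟩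
    · exact ⟨b, a, c, hab.symm, hbc, hac, fun χ => by tauto, hb, hc⟩
    · exact ⟨c, b, a, hbc.symm, hac.symm, hab.symm, fun χ => by tauto, hc, ha⟩
    · linarith
  have hmem' : ∀ χ, χ ∈ B ↔ χ = one ∨ χ = ζ₂ ∨ χ = ζ₃ ∨ χ = ζ₄ := fun χ => by
    rw [hmemB, hset]
  have hζne : ∀ χ, (χ = a ∨ χ = b ∨ χ = c) → χ ≠ one := by
    rintro χ (rfl | rfl | rfl) <;> assumption
  have hn2 := hζne ζ₂ ((hset _).2 (Or.inl rfl))
  have hn3 := hζne ζ₃ ((hset _).2 (Or.inr (Or.inl rfl)))
  have hn4 := hζne ζ₄ ((hset _).2 (Or.inr (Or.inr rfl)))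
  have hcong : ∀ χ : IrrCharacter G, (4 : ℤ) ∣ (charDegree (χ : G → ℂ) : ℤ) - v χ := by
    intro χ
    have := Fintype.ofFinite (P : Subgroup G)
    obtain ⟨k, hk⟩ := CfsgLib.Char.classInner_isCharacter_nat
      (CfsgLib.Char.isCharacter_restrict (CfsgLib.Char.irr_isCharacter χ.2) (P : Subgroup G))
      (CfsgLib.Char.isCharacter_one (G := (P : Subgroup G)))
    rw [CfsgLib.Char.classInner_def] at hk
    simp only [map_one, mul_one] at hk
    rw [inv_mul_eq_iff_eq_mul₀ CfsgLib.Char.natCard_ne_zero, ← Finset.add_sum_erase _ _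
      (Finset.mem_univ (1 : (P : Subgroup G))), Finset.sum_congr rfl (g := fun _ => (v χ : ℂ))
        (fun w hw => by
          rw [← hv χ]
          refine hall χ (w : G) ?_
          rw [Subgroup.orderOf_coe]
          exact orderOf_eq_prime (by rw [pow_two]; exact IsKleinFour.mul_self w)
            (Finset.mem_erase.1 hw).1), Finset.sum_const, Finset.card_erase_of_mem (Finset.mem_univ _),
      Finset.card_univ, ← Nat.card_eq_fintype_card, hP.card_four, nsmul_eq_mul,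
      OneMemClass.coe_one, ← charDegree_cast (CfsgLib.Char.irr_isCharacter χ.2)] at hk
    refine ⟨(k : ℤ) - v χ, ?_⟩
    have h : ((charDegree (χ : G → ℂ) : ℤ) : ℂ) - (v χ : ℂ) =
        ((4 * ((k : ℤ) - v χ) : ℤ) : ℂ) := by
      push_cast at hk ⊢
      linear_combination hk
    exact_mod_cast h
  refine ⟨ζ₂, ζ₃, ζ₄, v ζ₃, hpm _ ((hmem' _).2 (by simp)), fun h => hn2 (Subtype.ext h),
    fun h => hn3 (Subtype.ext h), h23, h24, h34, ?_, fun w hw => ?_, ?_, hcong ζ₃, ?_, fun y hy => ?_⟩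
  · ext χ
    rw [← hmem, hmem', Set.mem_ofPred_eq]
    refine or_congr_left ⟨fun h => by rw [h]; rfl, fun h => Subtype.ext h⟩
  · refine ⟨?_, ?_, ?_⟩ <;> rw [hall _ w hw, hv]
    · rw [hv2]; simp
    · rw [hv4]; simp
  · have := hcong ζ₂; rwa [hv2] at this
  · have := hcong ζ₄; rwa [hv4, sub_neg_eq_add] at this
  · have h := horth y hy
    have hBeq : B = {one, ζ₂, ζ₃, ζ₄} := by ext χ; rw [hmem']; simp
    rw [hBeq, Finset.sum_insert (by simp [Ne.symm hn2, Ne.symm hn3, Ne.symm hn4]),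
      Finset.sum_insert (by simp [h23, h24]), Finset.sum_insert (by simp [h34]),
      Finset.sum_singleton, hv1, hv2, hv4] at h
    have e1 : (one : G → ℂ) y = 1 := rfl
    rw [e1] at h
    push_cast at h
    linear_combination h

end Cfsg.Agent.S0948
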