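import Cfsg.Statements.S2758
import Cfsg.Agent.Lib.Invol.Dihedral
import Mathlib.GroupTheory.Sylow
import Mathlib.Tactic

set_option autoImplicit false
open Cfsg

namespace Cfsg.Agent.S2758

open Subgroup

theorem exists_inverted {G : Type*} [Group G] [Finite G] {p : ℕ} [Fact p.Prime] {x : G} {P : Subgroup G}
    (hx : ∃ k : ℕ, orderOf x = 2 ^ k) (hP : IsPGroup p P) (hn : x ∈ normalizer (P : Set G))
    (hc : x ∉ centralizer (P : Set G)) :
    ∃ x y : G, (∃ k : ℕ, orderOf x = 2 ^ k) ∧ (∃ k : ℕ, orderOf y = p ^ k) ∧ y ≠ 1 ∧ x * y * x⁻¹ = y⁻¹ := by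
  obtain ⟨k, hk⟩ := hx
  induction k generalizing x with
  | zero => exact absurd (by rw [orderOf_eq_one_iff.1 (hk.trans (pow_zero 2))]; exact one_mem _) hc
  | succ k ih =>
    by_cases hc2 : x ^ 2 ∈ centralizer (P : Set G)
    · obtain ⟨v, hv, hvx⟩ : ∃ v ∈ P, x * v * x⁻¹ ≠ v := by
        by_contra hall
        push Not at hall
        exact hc fun v hv => ((mul_inv_eq_iff_eq_mul.1 (hall v hv))).symm
      refine ⟨x, x * v * x⁻¹ * v⁻¹, ⟨k + 1, hk⟩, ?_, fun e => hvx (mul_inv_eq_one.1 e), ?_⟩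
      · obtain ⟨j, hj⟩ := hP ⟨x * v * x⁻¹ * v⁻¹, mul_mem ((mem_normalizer_iff.1 hn v).1 hv) (inv_mem hv)⟩
        obtain ⟨i, -, hi⟩ := (Nat.dvd_prime_pow (Fact.out : p.Prime)).1
          (orderOf_dvd_of_pow_eq_one (show (x * v * x⁻¹ * v⁻¹) ^ p ^ j = 1 from congrArg Subtype.val hj))
        exact ⟨i, hi⟩
      · have h2 : x * x * v = v * (x * x) := by rw [← pow_two]; exact (hc2 v hv).symm
        calc x * (x * v * x⁻¹ * v⁻¹) * x⁻¹ = (x * x * v) * (x * x)⁻¹ * (x * v⁻¹ * x⁻¹) := by group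
          _ = (x * v * x⁻¹ * v⁻¹)⁻¹ := by rw [h2]; group
    · exact ih (pow_mem hn 2) hc2 (by
        rw [orderOf_pow, hk, pow_succ, Nat.gcd_eq_right (dvd_mul_left 2 _), Nat.mul_div_cancel _ two_pos])

theorem involves_of_inverted {G : Type*} [Group G] [Finite G] {p : ℕ} [Fact p.Prime] (hp : p ≠ 2) {x y : G}
    (hx : ∃ k : ℕ, orderOf x = 2 ^ k) (hy : ∃ k : ℕ, orderOf y = p ^ k) (hy1 : y ≠ 1)
    (hinv : x * y * x⁻¹ = y⁻¹) : Cfsg.Involves (DihedralGroup p) G := by
  obtain ⟨k, hk⟩ := hy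
  have hk0 : k ≠ 0 := by rintro rfl; exact hy1 (orderOf_eq_one_iff.1 (hk.trans (pow_zero p)))
  obtain ⟨k', rfl⟩ := Nat.exists_eq_succ_of_ne_zero hk0
  set y' := y ^ p ^ k' with hy'
  have hy'o : orderOf y' = p := by
    rw [hy', orderOf_pow, hk, pow_succ, Nat.gcd_eq_right (dvd_mul_right _ _), Nat.mul_div_cancel_left _ (pow_pos (Fact.out : p.Prime).pos _)]
  have hinv' : x * y' * x⁻¹ = y'⁻¹ := by rw [hy', ← conj_pow, hinv, inv_pow]
  have hcomm : x ^ 2 * y' = y' * x ^ 2 := by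
    have e : x * (x * y' * x⁻¹) * x⁻¹ = y' := by
      rw [hinv', show x * y'⁻¹ * x⁻¹ = (x * y' * x⁻¹)⁻¹ by group, hinv', inv_inv]
    rw [pow_two]
    calc x * x * y' = x * (x * y' * x⁻¹) * x⁻¹ * (x * x) := by group
      _ = y' * (x * x) := by rw [e]
  set K := closure ({y', x} : Set G) with hK
  have hyK : y' ∈ K := subset_closure (by simp)
  have hxK : x ∈ K := subset_closure (by simp)
  set R := zpowers (x ^ 2)
  haveI hRn : (R.subgroupOf K).Normal := by
    refine ⟨fun r hr a => ?_⟩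
    rw [mem_subgroupOf] at hr ⊢
    have hle : K ≤ centralizer (R : Set G) := by
      rw [hK, closure_le]
      rintro z (rfl | rfl) w hw
      · obtain ⟨j, rfl⟩ := mem_zpowers_iff.1 hw
        exact (show Commute (x ^ 2) y' from hcomm).zpow_left j
      · obtain ⟨j, rfl⟩ := mem_zpowers_iff.1 hw
        exact ((Commute.refl z).pow_left 2).zpow_left j
    show (a : G) * r * (a : G)⁻¹ ∈ R
    rw [← hle a.2 _ hr, mul_inv_cancel_right]
    exact hr
  set f := QuotientGroup.mk' (R.subgroupOf K)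
  have hnx : ∀ z : G, z ∈ K → z ∈ R → (orderOf z).Coprime 2 → z = 1 := by
    intro z _ hz hzc
    obtain ⟨j, hj⟩ := hx
    have h1 : orderOf z ∣ 2 ^ j := (orderOf_dvd_natCard R hz).trans (by
      rw [Nat.card_zpowers]; exact hj ▸ orderOf_pow_dvd 2)
    exact orderOf_eq_one_iff.1 (Nat.eq_one_of_dvd_coprimes (hzc.pow_right j) dvd_rfl h1)
  have hr' : orderOf (f ⟨y', hyK⟩) = p := by
    refine orderOf_eq_prime ?_ ?_
    · rw [← map_pow, show (⟨y', hyK⟩ : K) ^ p = 1 from Subtype.ext (by simpa [← hy'o] using pow_orderOf_eq_one y'), map_one]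
    · intro h
      have h1 := hnx y' hyK (mem_subgroupOf.1 ((QuotientGroup.eq_one_iff _).1 h))
        (by rw [hy'o]; exact (Nat.coprime_primes Fact.out Nat.prime_two).2 hp)
      rw [h1, orderOf_one] at hy'o
      exact (Fact.out : p.Prime).one_lt.ne hy'o
  have hxR : x ∉ R := fun h => by
    obtain ⟨j, hj⟩ := mem_zpowers_iff.1 h
    have h1 : x * y' * x⁻¹ = y' := by
      rw [← hj, ((show Commute (x ^ 2) y' from hcomm).zpow_left j).eq, mul_inv_cancel_right]
    rw [hinv', inv_eq_iff_mul_eq_one, ← pow_two] at h1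
    have h2 := orderOf_dvd_of_pow_eq_one h1
    rw [hy'o] at h2
    exact hp ((Nat.prime_dvd_prime_iff_eq Fact.out Nat.prime_two).1 h2)
  have hs : orderOf (f ⟨x, hxK⟩) = 2 := by
    refine orderOf_eq_prime ?_ fun h => hxR (mem_subgroupOf.1 ((QuotientGroup.eq_one_iff _).1 h))
    rw [← map_pow]
    exact (QuotientGroup.eq_one_iff _).2 (mem_subgroupOf.2 (by simp [R]))
  haveI : NeZero p := ⟨(Fact.out : p.Prime).ne_zero⟩
  obtain ⟨e⟩ := CfsgLib.Invol.exists_mulEquiv_dihedral hr' hs (by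
      rw [← map_inv, ← map_inv, ← map_mul, ← map_mul]; congr 1; exact Subtype.ext hinv') (fun h => by
      have h1 := orderOf_dvd_natCard _ h
      rw [hs, Nat.card_zpowers, hr'] at h1
      exact hp ((Nat.prime_dvd_prime_iff_eq Nat.prime_two Fact.out).1 h1).symm)
  have htop : closure ({f ⟨y', hyK⟩, f ⟨x, hxK⟩} : Set (K ⧸ R.subgroupOf K)) = ⊤ := by
    have h0 : closure ({⟨y', hyK⟩, ⟨x, hxK⟩} : Set K) = ⊤ := by
      apply map_injective K.subtype_injective
      rw [MonoidHom.map_closure, ← MonoidHom.range_eq_map, K.range_subtype, Set.image_pair]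
      exact hK.symm
    rw [← map_top_of_surjective f (QuotientGroup.mk'_surjective _), ← h0, MonoidHom.map_closure]
    congr 1
    ext z
    simp [eq_comm]
  exact ⟨K, R, hRn, ⟨(Subgroup.topEquiv.symm.trans (MulEquiv.subgroupCongr htop.symm)).trans e⟩⟩

theorem exists_normalizing_of_involves {G : Type*} [Group G] [Finite G] {p : ℕ} [Fact p.Prime] (hp : p ≠ 2)
    (h : Cfsg.Involves (DihedralGroup p) G) : ∃ (x : G) (P : Subgroup G), (∃ k : ℕ, orderOf x = 2 ^ k) ∧
      IsPGroup p P ∧ x ∈ normalizer (P : Set G) ∧ x ∉ centralizer (P : Set G) := by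
  obtain ⟨K, R, hR, ⟨φ⟩⟩ := h
  let f : K →* DihedralGroup p := φ.toMonoidHom.comp (QuotientGroup.mk' (R.subgroupOf K))
  have hf : Function.Surjective f := φ.surjective.comp (QuotientGroup.mk'_surjective _)
  haveI : NeZero p := ⟨(Fact.out : p.Prime).ne_zero⟩
  set C := zpowers (DihedralGroup.r (1 : ZMod p))
  have hCi : C.index = 2 := by
    have h := card_mul_index C
    rw [Nat.card_zpowers, DihedralGroup.orderOf_r_one, DihedralGroup.nat_card, mul_comm 2 p] at h
    exact Nat.eq_of_mul_eq_mul_left (NeZero.pos p) h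
  haveI : C.Normal := normal_of_index_eq_two hCi
  obtain ⟨P⟩ : Nonempty (Sylow p (C.comap f)) := inferInstance
  set Pm := (P : Subgroup (C.comap f)).map (C.comap f).subtype
  have hPC : ∀ v ∈ Pm, f v ∈ C := by rintro _ ⟨⟨v, hv⟩, -, rfl⟩; exact hv
  -- some element of `Pm` has nontrivial image
  have hPimg : ∃ v ∈ Pm, f v ≠ 1 := by
    by_contra hall
    push Not at hall
    have hle : (P : Subgroup (C.comap f)) ≤ (f.ker).subgroupOf (C.comap f) := fun v hv =>
      mem_subgroupOf.2 (hall v ⟨v, hv, rfl⟩)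
    have h1 : ((f.ker).subgroupOf (C.comap f)).index = p := by
      show f.ker.relIndex (C.comap f) = p
      rw [← MonoidHom.comap_bot, relIndex_comap, map_comap_eq_self_of_surjective hf, relIndex_bot_left,
        Nat.card_zpowers, DihedralGroup.orderOf_r_one]
    refine P.not_dvd_index ?_
    have h9 := index_dvd_of_le hle
    rwa [h1] at h9
  obtain ⟨v, hv, hv1⟩ := hPimg
  obtain ⟨g, hg⟩ := hf (DihedralGroup.sr 0)
  have hcov : ∃ n ∈ normalizer (Pm : Set K), f n ∉ C := by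
    by_contra hall
    push Not at hall
    have htop : C.comap f = ⊤ := by
      rw [eq_top_iff, ← Sylow.normalizer_sup_eq_top P, sup_le_iff]
      exact ⟨fun n hn => hall n hn, le_rfl⟩
    have h2 : f g ∈ C := (htop ▸ mem_top g : g ∈ C.comap f)
    rw [hg, mem_zpowers_iff] at h2
    obtain ⟨j, hj⟩ := h2
    rw [DihedralGroup.r_one_zpow] at hj
    simp at hj
  obtain ⟨n, hn, hnC⟩ := hcov
  -- the `2`-part of `n`
  obtain ⟨a, b, hb, hab⟩ := Nat.exists_eq_two_pow_mul_odd (n := orderOf n) (orderOf_pos n).ne'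
  set x := n ^ b with hx
  have hxo : orderOf x ∣ 2 ^ a := orderOf_dvd_of_pow_eq_one (by rw [hx, ← pow_mul, mul_comm b, ← hab, pow_orderOf_eq_one])
  obtain ⟨i, -, hi⟩ := (Nat.dvd_prime_pow Nat.prime_two).1 hxo
  refine ⟨(x : G), Pm.map K.subtype, ⟨i, by rw [Subgroup.orderOf_coe, hi]⟩, (P.isPGroup'.map _).map _,
    le_normalizer_map K.subtype ⟨x, pow_mem hn b, rfl⟩, fun hc => ?_⟩
  have hcv : x * v = v * x := Subtype.ext (hc (v : G) ⟨v, hv, rfl⟩).symm
  -- images in the dihedral group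
  obtain ⟨j, hj⟩ : ∃ j, f n = DihedralGroup.sr j := by
    rcases hfn : f n with j | j
    · exact absurd (hfn ▸ mem_zpowers_iff.2 ⟨j.val, by rw [DihedralGroup.r_one_zpow]; simp⟩) hnC
    · exact ⟨j, rfl⟩
  have hfx : f x = DihedralGroup.sr j := by
    obtain ⟨m, rfl⟩ := hb
    rw [hx, map_pow, hj, pow_succ, pow_mul, pow_two, DihedralGroup.sr_mul_self, one_pow, one_mul]
  obtain ⟨i', hi'⟩ : ∃ i', f v = DihedralGroup.r i' := by
    obtain ⟨m, hm⟩ := mem_zpowers_iff.1 (hPC v hv)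
    exact ⟨(m : ZMod p), by rw [← hm, DihedralGroup.r_one_zpow]⟩
  have h3 := congrArg f hcv
  rw [map_mul, map_mul, hfx, hi', DihedralGroup.sr_mul_r, DihedralGroup.r_mul_sr, DihedralGroup.sr.injEq] at h3
  have h4 : (2 : ZMod p) * i' = 0 := by linear_combination h3
  have h5 : (2 : ZMod p) ≠ 0 := fun h => by
    have h3 : ((2 : ℕ) : ZMod p) = 0 := by exact_mod_cast h
    rw [ZMod.natCast_eq_zero_iff] at h3
    exact hp ((Nat.prime_dvd_prime_iff_eq Fact.out Nat.prime_two).1 h3)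
  rcases mul_eq_zero.1 h4 with h | h
  · exact h5 h
  · exact hv1 (by rw [hi', h, ← DihedralGroup.one_def])

/-- For an odd prime p and a finite group G the following are equivalent: the dihedral group of order 2p is involved in G; some element of 2-power order normalizes but does not centralize some p-subgroup of G; some element of 2-power order inverts some nonidentity element of p-power order. -/
theorem result {G : Type*} [Group G] [Finite G] {p : ℕ} [Fact p.Prime] (hp : p ≠ 2) : (Cfsg.Involves (DihedralGroup p) G ↔ ∃ (x : G) (P : Subgroup G), (∃ k : ℕ, orderOf x = 2 ^ k) ∧ IsPGroup p ↥P ∧ x ∈ Subgroup.normalizer (P : Set G) ∧ x ∉ Subgroup.centralizer (P : Set G)) ∧ (Cfsg.Involves (DihedralGroup p) G ↔ ∃ x y : G, (∃ k : ℕ, orderOf x = 2 ^ k) ∧ (∃ k : ℕ, orderOf y = p ^ k) ∧ y ≠ 1 ∧ x * y * x⁻¹ = y⁻¹) := by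
  refine ⟨⟨exists_normalizing_of_involves hp, ?_⟩, ⟨fun h => ?_, ?_⟩⟩
  · rintro ⟨x, P, hx, hP, hn, hc⟩
    obtain ⟨x', y, h1, h2, h3, h4⟩ := exists_inverted hx hP hn hc
    exact involves_of_inverted hp h1 h2 h3 h4
  · obtain ⟨x, P, hx, hP, hn, hc⟩ := exists_normalizing_of_involves hp h
    exact exists_inverted hx hP hn hc
  · rintro ⟨x, y, h1, h2, h3, h4⟩
    exact involves_of_inverted hp h1 h2 h3 h4

end Cfsg.Agent.S2758
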