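import Cfsg.Statements.S3224
import Cfsg.Agent.Lib.Transfer.MaxClassTwo
import Cfsg.Agent.Lib.Invol.Dihedral

set_option autoImplicit false
open Cfsg

namespace Cfsg.Agent.S3224

/-- A finite 2-group containing an involution whose centralizer has order 4 is dihedral, quasi-dihedral (semidihedral), or of order 4. -/
theorem result {S : Type*} [Group S] [Finite S] (hS : IsPGroup 2 S)
    (x : S) (hx : orderOf x = 2) (hC : Nat.card ↥(Subgroup.centralizer ({x} : Set S)) = 4) :
    (∃ n : ℕ, Nonempty (S ≃* DihedralGroup n)) ∨ Cfsg.IsQuasiDihedral S ∨ Nat.card S = 4 := by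
  classical
  obtain ⟨n, hn⟩ := IsPGroup.iff_card.1 hS
  set C : Subgroup S := Subgroup.centralizer ({x} : Set S) with hCdef
  have hxC : x ∈ C := Subgroup.mem_centralizer_singleton_iff.2 rfl
  have hxx : x * x = 1 := by rw [← pow_two, ← hx, pow_orderOf_eq_one]
  have hx1 : x ≠ 1 := fun h => by rw [h, orderOf_one] at hx; omega
  rcases Nat.lt_or_ge n 3 with hsmall | hn3
  · have hdvd := Subgroup.card_subgroup_dvd_card C
    rw [hn, hC, show (4 : ℕ) = 2 ^ 2 from rfl, Nat.pow_dvd_pow_iff_le_right one_lt_two] at hdvd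
    exact Or.inr (Or.inr (by rw [hn, show n = 2 by omega]; rfl))
  -- `C` is self-centralizing, so `S` has maximal class
  have hself : Subgroup.centralizer (C : Set S) = C := by
    haveI : IsMulCommutative ↥C := IsPGroup.isMulCommutative_of_card_eq_prime_sq (p := 2) (by rw [hC]; rfl)
    refine le_antisymm (fun g hg => Subgroup.mem_centralizer_singleton_iff.2 (hg x hxC).symm) ?_
    exact Subgroup.le_centralizer C
  have hclass := CfsgLib.Transfer.maxClass_of_self_centralizing (p := 2) hn C (by rw [hC]; rfl) hself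
  obtain ⟨A, hA, hAi⟩ := CfsgLib.Transfer.exists_cyclic_index_two hn3 hn hclass
  haveI : A.Normal := Subgroup.normal_of_index_eq_two hAi
  obtain ⟨r, hr⟩ := (Subgroup.isCyclic_iff_exists_zpowers_eq_top A).1 hA
  obtain ⟨m, rfl⟩ : ∃ m, n = m + 1 := ⟨n - 1, by omega⟩
  have hro : orderOf r = 2 ^ m := by
    rw [← Nat.card_zpowers, hr]
    have h := A.card_mul_index
    rw [hAi, hn, pow_succ] at h
    omega
  set z : S := r ^ 2 ^ (m - 1) with hz
  have hz2 : z * z = 1 := by
    rw [hz, ← pow_add, ← two_mul, ← pow_succ', Nat.sub_add_cancel (by omega), ← hro, pow_orderOf_eq_one]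
  have hinv : ∀ w ∈ A, w * w = 1 → w = 1 ∨ w = z := by
    intro w hw hw2
    rw [← hr, ← mem_powers_iff_mem_zpowers] at hw
    obtain ⟨i, rfl⟩ := (Submonoid.mem_powers_iff _ _).1 hw
    rw [← pow_add, ← orderOf_dvd_iff_pow_eq_one, hro] at hw2
    obtain ⟨j, rfl⟩ : 2 ^ (m - 1) ∣ i := by
      obtain ⟨t, ht⟩ := hw2
      rw [show 2 ^ m = 2 * 2 ^ (m - 1) by rw [← pow_succ']; congr 1; omega] at ht
      exact ⟨t, by linarith⟩
    rw [pow_mul, ← hz]
    obtain ⟨q, rfl | rfl⟩ : ∃ q, j = 2 * q ∨ j = 2 * q + 1 := ⟨j / 2, by omega⟩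
    · left; rw [pow_mul, pow_two, hz2, one_pow]
    · right; rw [pow_succ, pow_mul, pow_two, hz2, one_pow, one_mul]
  have hxA : x ∉ A := by
    intro hxA
    rcases hinv x hxA hxx with h | h
    · exact hx1 h
    have hc : ∀ g : S, g * x = x * g := by
      intro g
      have h2 : g * x * g⁻¹ * (g * x * g⁻¹) = 1 := by
        rw [show g * x * g⁻¹ * (g * x * g⁻¹) = g * (x * x) * g⁻¹ by group, hxx, mul_one, mul_inv_cancel]
      rcases hinv _ ((inferInstance : A.Normal).conj_mem x hxA g) h2 with h3 | h3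
      · exact absurd (by simpa using h3 : x = 1) hx1
      · rw [← h, mul_inv_eq_iff_eq_mul] at h3
        exact h3
    have htop : C = ⊤ := top_le_iff.1 fun g _ => Subgroup.mem_centralizer_singleton_iff.2 (hc g)
    rw [htop, Subgroup.card_top, hn] at hC
    have := Nat.pow_le_pow_right (show 0 < 2 by norm_num) hn3
    omega
  have hrA : r ∈ A := hr ▸ Subgroup.mem_zpowers r
  have hcommA : ∀ a ∈ A, ∀ b ∈ A, a * b = b * a := by
    intro a ha b hb
    rw [← hr] at ha hb
    obtain ⟨i, rfl⟩ := ha
    obtain ⟨j, rfl⟩ := hb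
    exact (Commute.refl r).zpow_zpow i j |>.eq
  set w : S := x * r * x⁻¹ * r with hw
  have hwA : w ∈ A := mul_mem ((inferInstance : A.Normal).conj_mem r hrA x) hrA
  have hxi : x⁻¹ = x := inv_eq_of_mul_eq_one_right hxx
  have hxw : x * w * x⁻¹ = w := by
    rw [hw, hcommA _ ((inferInstance : A.Normal).conj_mem r hrA x) r hrA, hxi]
    calc x * (r * (x * r * x)) * x = x * r * x * r * (x * x) := by group
      _ = x * r * x * r := by rw [hxx, mul_one]
      _ = r * (x * r * x) := by
        have h := hcommA _ ((inferInstance : A.Normal).conj_mem r hrA x) r hrA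
        rw [hxi] at h; exact h
  -- the centralizer of `x` in `A` has order at most `2`
  have hsmallC : ∀ v ∈ A, x * v * x⁻¹ = v → v * v = 1 := by
    intro v hv hvx
    have hvC : Subgroup.zpowers v ≤ C :=
      Subgroup.zpowers_le.2 (Subgroup.mem_centralizer_singleton_iff.2 (mul_inv_eq_iff_eq_mul.1 hvx).symm)
    have hvA : Subgroup.zpowers v ≤ A := Subgroup.zpowers_le.2 hv
    let f : Subgroup.zpowers v × Fin 2 → C := fun q => ⟨(q.1 : S) * x ^ (q.2 : ℕ),
      mul_mem (hvC q.1.2) (pow_mem hxC _)⟩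
    have hf : Function.Injective f := by
      rintro ⟨a, i⟩ ⟨b, j⟩ h
      have h' : (a : S) * x ^ (i : ℕ) = (b : S) * x ^ (j : ℕ) := congrArg Subtype.val h
      fin_cases i <;> fin_cases j <;> simp only [Nat.reduceAdd, pow_zero, pow_one, mul_one] at h' <;>
        first
          | exact Prod.ext (Subtype.ext (by simpa using h')) rfl
          | exact absurd (by rw [← inv_mul_cancel_left (b : S) x, ← h']; exact mul_mem (inv_mem (hvA b.2)) (hvA a.2)) hxA
          | exact absurd (by rw [← inv_mul_cancel_left (a : S) x, h']; exact mul_mem (inv_mem (hvA a.2)) (hvA b.2)) hxA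
    have hle := Nat.card_le_card_of_injective f hf
    rw [Nat.card_prod, Nat.card_zpowers, Nat.card_fin, hC] at hle
    have h2 : orderOf v ≤ 2 := by omega
    have h0 := orderOf_pos v
    rw [← pow_two, ← orderOf_dvd_iff_pow_eq_one]
    interval_cases (orderOf v) <;> norm_num
  have hgen : Subgroup.closure ({r, x} : Set S) = ⊤ := by
    have hle : A ≤ Subgroup.closure ({r, x} : Set S) :=
      hr ▸ Subgroup.zpowers_le.2 (Subgroup.subset_closure (by simp))
    refine Subgroup.index_eq_one.1 ?_
    rcases (Nat.dvd_prime Nat.prime_two).1 (hAi ▸ Subgroup.index_dvd_of_le hle) with h | h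
    · exact h
    · exfalso
      have heq := Subgroup.relIndex_mul_index hle
      rw [h, hAi] at heq
      have h1 : A.relIndex (Subgroup.closure ({r, x} : Set S)) = 1 := by omega
      exact hxA (Subgroup.relIndex_eq_one.1 h1 (Subgroup.subset_closure (by simp)))
  rcases hinv w hwA (hsmallC w hwA hxw) with h | h
  · refine Or.inl ⟨2 ^ m, ?_⟩
    haveI : NeZero (2 ^ m) := ⟨by positivity⟩
    obtain ⟨e⟩ := CfsgLib.Invol.exists_mulEquiv_dihedral hro hx (eq_inv_of_mul_eq_one_left h)
      (fun h' => hxA (hr ▸ h'))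
    exact ⟨(Subgroup.topEquiv.symm.trans (MulEquiv.subgroupCongr hgen.symm)).trans e⟩
  · have hm3 : 3 ≤ m := by
      by_contra hlt
      have hm2 : m = 2 := by omega
      -- then `x` centralizes `r`
      have hz' : z = r * r := by rw [hz, hm2]; exact pow_two r
      have : x * r * x⁻¹ = r := mul_right_cancel (h.trans hz')
      have h2 := hsmallC r hrA this
      rw [← pow_two, ← orderOf_dvd_iff_pow_eq_one, hro, hm2] at h2
      norm_num at h2
    refine Or.inr (Or.inl ⟨m, hm3, by rw [hn], r, x, hro, hx, ?_⟩)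
    rw [pow_sub r (Nat.one_le_two_pow), pow_one, ← hz, eq_mul_inv_iff_mul_eq]
    exact h

end Cfsg.Agent.S3224
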