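import Cfsg.Statements.S1312
import Cfsg.Agent.Lib.Comp.Bender
-- import your own Cfsg.Agent.* helpers here

set_option autoImplicit false
set_option linter.style.haveILetI false
set_option linter.unusedSectionVars false
open Cfsg

namespace Cfsg.Agent.S1312

open Subgroup CfsgLib.Comp

variable {G : Type*} [Group G] [Finite G]

theorem normalizer_eq_of_coatom [IsSimpleGroup G] {M : Subgroup G} (hM : IsCoatom M) {X : Subgroup G}
    (hX : X ≠ ⊥) (hXM : X ≤ M) (hn : M ≤ normalizer (X : Set G)) : normalizer (X : Set G) = M := by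
  rcases hM.le_iff.1 hn with h | h
  · exfalso
    rcases (normalizer_eq_top_iff.1 h).eq_bot_or_eq_top with h' | h'
    · exact hX h'
    · exact hM.1 (eq_top_iff.2 (h' ▸ hXM))
  · exact h

/-- `O_p(N)` is not trivial when `O_p(M)` is not, given trivial layers. -/
theorem radP_ne_bot {M N : Subgroup G} (hEN : Cfsg.layer N = ⊥)
    (hM : ∀ r : Nat.Primes, radP (r : ℕ) M ≤ N) (hN : ∀ r : Nat.Primes, radP (r : ℕ) N ≤ M)
    {p : ℕ} (hp : p.Prime) (h : radP p M ≠ ⊥) : radP p N ≠ ⊥ := by
  haveI := Fact.mk hp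
  intro hb
  apply h
  have hcent : ∀ r : Nat.Primes, radP p M ≤ centralizer (radP (r : ℕ) N : Set G) := by
    intro r
    by_cases hr : (r : ℕ) = p
    · rw [hr, hb, le_centralizer_iff]; exact bot_le
    · haveI : Fact (r : ℕ).Prime := ⟨r.2⟩
      exact radP_le_centralizer (Ne.symm hr) (isPGroup_radP p M) (isPGroup_radP _ N)
        ((hM ⟨p, hp⟩).trans (le_normalizer_radP _ N)) ((hN r).trans (le_normalizer_radP p M))
  have hle := inf_centralizer_le_fitting hEN (hM ⟨p, hp⟩) hcent
  rw [eq_bot_iff, ← hb]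
  refine le_radP (hM ⟨p, hp⟩) (isPGroup_radP p M) ?_
  haveI := isNilpotent_fittingSubgroup N
  haveI := fittingSubgroup_normal N
  set F := (Cfsg.fittingSubgroup N).map N.subtype
  haveI : Group.IsNilpotent F :=
    (Group.isNilpotent_congr ((Cfsg.fittingSubgroup N).equivMapOfInjective _ N.subtype_injective)).1
      inferInstance
  exact subgroupOf_isSubnormal_trans hle (map_subtype_le _)
    (CfsgLib.Solvable.isSubnormal_of_isNilpotent _)
    (subgroupOf_isSubnormal_of_le_normalizer (le_normalizer_map_subtype _))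


/-- Let G be a non-abelian finite simple group and M ≠ N maximal subgroups of G with F*(M) ≤ N and F*(N) ≤ M. Then there is a prime p such that F*(M) and F*(N) are both p-groups. -/
theorem result {G : Type*} [Group G] [Finite G] [IsSimpleGroup G] (hna : ¬ IsMulCommutative G) (M N : Subgroup G) (hM : IsCoatom M) (hN : IsCoatom N) (hMN : M ≠ N) (h1 : (Cfsg.generalizedFittingSubgroup ↥M).map M.subtype ≤ N) (h2 : (Cfsg.generalizedFittingSubgroup ↥N).map N.subtype ≤ M) : ∃ p : ℕ, p.Prime ∧ IsPGroup p ↥(Cfsg.generalizedFittingSubgroup ↥M) ∧ IsPGroup p ↥(Cfsg.generalizedFittingSubgroup ↥N) := by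
  have hbotM : M ≠ ⊥ := by
    intro h
    rcases hM.le_iff.1 (h ▸ bot_le : M ≤ N) with e | e
    · exact hN.1 e
    · exact hMN e.symm
  -- trivial layers
  set EM := (Cfsg.layer M).map M.subtype
  set EN := (Cfsg.layer N).map N.subtype
  have hEM : EM ≤ EN := by
    refine map_le_iff_le_comap.2 (sSup_le fun K hK => map_le_iff_le_comap.1 ?_)
    have hKM : K.map M.subtype ≤ M := map_subtype_le K
    have hKN : K.map M.subtype ≤ N :=
      (map_mono ((le_layer hK).trans (le_sup_left (b := Cfsg.fittingSubgroup M)))).trans h1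
    have hK' : Cfsg.IsComponent ((K.map M.subtype).subgroupOf M) := by
      rwa [subgroupOf, comap_map_eq_self_of_injective M.subtype_injective]
    rw [← map_subgroupOf_eq_of_le hKN]
    exact map_mono (le_layer (component_eq_of_le hKM hK' hKN h2))
  have hEN : EN ≤ EM := by
    refine map_le_iff_le_comap.2 (sSup_le fun K hK => map_le_iff_le_comap.1 ?_)
    have hKN : K.map N.subtype ≤ N := map_subtype_le K
    have hKM : K.map N.subtype ≤ M :=
      (map_mono ((le_layer hK).trans (le_sup_left (b := Cfsg.fittingSubgroup N)))).trans h2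
    have hK' : Cfsg.IsComponent ((K.map N.subtype).subgroupOf N) := by
      rwa [subgroupOf, comap_map_eq_self_of_injective N.subtype_injective]
    rw [← map_subgroupOf_eq_of_le hKM]
    exact map_mono (le_layer (component_eq_of_le hKN hK' hKM h1))
  have hE : EM = ⊥ := by
    by_contra hne
    have e : EN = EM := le_antisymm hEN hEM
    haveI := layer_normal M
    haveI := layer_normal N
    have a := normalizer_eq_of_coatom hM hne (map_subtype_le _) (le_normalizer_map_subtype _)
    have b := normalizer_eq_of_coatom hN (e.symm ▸ hne : EN ≠ ⊥) (map_subtype_le _)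
      (le_normalizer_map_subtype _)
    exact hMN (by rw [← a, ← e, b])
  have hlM : Cfsg.layer M = ⊥ := (map_eq_bot_iff_of_injective _ M.subtype_injective).1 hE
  have hlN : Cfsg.layer N = ⊥ :=
    (map_eq_bot_iff_of_injective _ N.subtype_injective).1 (eq_bot_iff.2 (hEN.trans hE.le))
  have hgenM : Cfsg.generalizedFittingSubgroup M = Cfsg.fittingSubgroup M := by
    rw [Cfsg.generalizedFittingSubgroup, hlM, bot_sup_eq]
  have hgenN : Cfsg.generalizedFittingSubgroup N = Cfsg.fittingSubgroup N := by
    rw [Cfsg.generalizedFittingSubgroup, hlN, bot_sup_eq]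
  rw [hgenM, fitting_map_eq] at h1
  rw [hgenN, fitting_map_eq] at h2
  have hM' : ∀ r : Nat.Primes, radP (r : ℕ) M ≤ N := iSup_le_iff.1 h1
  have hN' : ∀ r : Nat.Primes, radP (r : ℕ) N ≤ M := iSup_le_iff.1 h2
  obtain ⟨p, hp⟩ : ∃ p : Nat.Primes, radP (p : ℕ) M ≠ ⊥ := by
    by_contra h
    push Not at h
    refine hbotM (eq_bot_iff.2 ?_)
    refine (inf_centralizer_le_fitting hlM le_rfl fun q => ?_).trans ?_
    · rw [h q, le_centralizer_iff]; exact bot_le
    · rw [fitting_map_eq]; exact iSup_le fun q => (h q).le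
  haveI : Fact (p : ℕ).Prime := ⟨p.2⟩
  have huniq : ∀ q : Nat.Primes, q ≠ p → radP (q : ℕ) M = ⊥ := by
    intro q hqp
    by_contra hq
    haveI : Fact (q : ℕ).Prime := ⟨q.2⟩
    have hne : (p : ℕ) ≠ q := fun e => hqp (Subtype.ext e.symm)
    have hpN := radP_ne_bot hlN hM' hN' p.2 hp
    have hqN := radP_ne_bot hlN hM' hN' q.2 hq
    have hCN : centralizer (radP (p : ℕ) N : Set G) ≤ N :=
      (Subgroup.centralizer_le_normalizer _).trans_eq
        (normalizer_eq_of_coatom hN hpN (radP_le _ N) (le_normalizer_radP _ N))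
    have hCM : centralizer (radP (p : ℕ) M : Set G) ≤ M :=
      (Subgroup.centralizer_le_normalizer _).trans_eq
        (normalizer_eq_of_coatom hM hp (radP_le _ M) (le_normalizer_radP _ M))
    have e : radP (q : ℕ) N = radP (q : ℕ) M :=
      le_antisymm (radP_le_radP hne hlM hM' hN' (inf_le_right.trans hCN))
        (radP_le_radP hne hlN hN' hM' (inf_le_right.trans hCM))
    have a := normalizer_eq_of_coatom hM hq (radP_le _ M) (le_normalizer_radP _ M)
    have b := normalizer_eq_of_coatom hN hqN (radP_le _ N) (le_normalizer_radP _ N)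
    exact hMN (by rw [← a, ← e, b])
  have huniqN : ∀ q : Nat.Primes, q ≠ p → radP (q : ℕ) N = ⊥ := fun q hqp => by
    by_contra hq
    exact radP_ne_bot hlM hN' hM' q.2 hq (huniq q hqp)
  have key : ∀ H : Subgroup G, (∀ q : Nat.Primes, q ≠ p → radP (q : ℕ) H = ⊥) →
      IsPGroup (p : ℕ) (Cfsg.fittingSubgroup H) := by
    intro H h
    refine (isPGroup_pCore (p : ℕ) H).to_le ?_
    rw [CfsgLib.Solvable.fittingSubgroup_eq_iSup_pCore]
    refine iSup_le fun q => ?_
    by_cases hq : q = p
    · rw [hq]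
    · rw [(map_eq_bot_iff_of_injective _ H.subtype_injective).1 (h q hq)]; exact bot_le
  exact ⟨p, p.2, hgenM ▸ key M huniq, hgenN ▸ key N huniqN⟩

end Cfsg.Agent.S1312
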