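import Cfsg.Statements.S5891
import Cfsg.Agent.Lib.Geom.MaxBridge
-- import your own Cfsg.Agent.* helpers here

set_option autoImplicit false
open Cfsg CfsgLib.Geom

namespace Cfsg.Agent.S5891

/-- Let F be a finite field of odd order q > 3 and characteristic p, and let M be a maximal subgroup of PGL₂(F) not containing the image L of SL₂(F) (a copy of PSL₂(F) of index 2). Then one of the following holds: |M| = q(q − 1) (M is the stabiliser of a point of the projective line); q ≠ 5 and M is dihedral of order 2(q − 1); M is dihedral of order 2(q + 1); q = p ≡ ±3 (mod 8) and M ≅ S₄; or q = q₀^r for an odd prime r and M ≅ PGL₂(F₀) with |F₀| = q₀. -/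
theorem result {F : Type*} [Field F] [Fintype F]
    (hodd : Odd (Fintype.card F)) (h3 : 3 < Fintype.card F) (M : Subgroup (Matrix.ProjGenLinGroup (Fin 2) F)) (hM : IsCoatom M)
    (hML : ¬ (Matrix.ProjGenLinGroup.mk.comp Matrix.SpecialLinearGroup.toGL).range ≤ M) :
    Nat.card M = Fintype.card F * (Fintype.card F - 1) ∨
    (Fintype.card F ≠ 5 ∧ Nonempty (M ≃* DihedralGroup (Fintype.card F - 1))) ∨
    Nonempty (M ≃* DihedralGroup (Fintype.card F + 1)) ∨
    ((Fintype.card F).Prime ∧ (Fintype.card F % 8 = 3 ∨ Fintype.card F % 8 = 5) ∧ Nonempty (M ≃* Equiv.Perm (Fin 4))) ∨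
    (∃ (F₀ : Type) (_ : Field F₀) (_ : Fintype F₀) (r : ℕ), r.Prime ∧ Odd r ∧ Fintype.card F = Fintype.card F₀ ^ r ∧
        Nonempty (M ≃* Matrix.ProjGenLinGroup (Fin 2) F₀)) := by
  classical
  obtain ⟨E, _, _, f, hE, hQC⟩ := Moebius.exists_quadExt F
  obtain ⟨p, hp⟩ := CharP.exists F
  obtain ⟨n, hprime, hq⟩ := FiniteField.card F p
  have := Fact.mk hprime
  rw [Moebius.range_toGL_eq] at hML
  have hmax := maxIn_top hM
  have hG := Moebius.card_pgl_two (F := F)
  have := Moebius.finite_pgl_two (F := F)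
  -- a maximal subgroup inside the image would be the image
  have hnot : ¬ M ≤ Moebius.imL F := fun hle => hML
    (hmax.eq_of_le hle (lt_top_iff_ne_top.2 fun e => by
      have := Moebius.imL_index hodd
      rw [e, Subgroup.index_top] at this
      omega)).ge
  have alt : ∀ {n : ℕ}, (∀ x : alternatingGroup (Fin n), ∃ g h, x = g * g * (h * h)) →
      (M ≃* alternatingGroup (Fin n)) → False := by
    intro n hsq i
    refine hnot fun x hx => ?_
    obtain ⟨g, h, hgh⟩ := hsq (i ⟨x, hx⟩)
    have h' : (⟨x, hx⟩ : M) = i.symm g * i.symm g * (i.symm h * i.symm h) := by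
      rw [← map_mul, ← map_mul, ← map_mul, ← hgh, MulEquiv.symm_apply_apply]
    rw [show x = _ from congrArg Subtype.val h']
    exact Moebius.mem_imL_of_sq hodd
  cases Moebius.maxCase f p hE hQC h3 le_top hmax hML with
  | point P h =>
    left
    have hc := Moebius.card_pointStab_mul (F := F) le_top P
    rw [← h, Subgroup.card_top, hG] at hc
    exact Nat.eq_of_mul_eq_mul_left (Nat.succ_pos _) hc
  | pair P Q hPQ g hg hgP hgQ h =>
    obtain ⟨k, hk, ⟨e⟩, -⟩ := Moebius.pair_top f hE hQC h3 hPQ hg hgP hgQ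
    have i := ((MulEquiv.subgroupCongr h).trans (MulEquiv.subgroupCongr (inf_top_eq _))).trans e
    rcases hk with rfl | rfl
    · refine Or.inr (Or.inl ⟨fun h5 => ?_, ⟨i⟩⟩)
      obtain ⟨k, hk, -, ⟨e'⟩, h2k, -⟩ := Moebius.pair_imL f hE hQC h3 hodd hPQ hg hgP hgQ
      have hsub := Subgroup.card_dvd_of_le (inf_le_left :
        (Moebius.pairStab f P Q ⊓ Moebius.imL F : Subgroup _) ≤ Moebius.pairStab f P Q)
      rw [h2k, Nat.card_congr e.toEquiv, DihedralGroup.nat_card] at hsub
      obtain rfl : k = 2 := by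
        rcases hk with hk | hk
        · omega
        · rw [show k = 3 by omega, h5] at hsub
          norm_num at hsub
      exact Moebius.pair_klein_false f hQC h3 hodd le_top (h ▸ hmax) ⟨e'⟩
    · exact Or.inr (Or.inr (Or.inl ⟨i⟩))
  | tetrahedral ho hq' h hc => exact (alt altFour_two_squares h.some).elim
  | icosahedral ho hq' h hc => exact (alt altFive_two_squares h.some).elim
  | octahedral ho hq' h hc =>
    obtain ⟨i⟩ := h
    refine Or.inr (Or.inr (Or.inr (Or.inl ⟨hq' ▸ hprime, ?_, ⟨i⟩⟩)))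
    by_contra hn
    exact Moebius.octahedral_top_not_sq h3 hodd hmax hML (kleinNormal_permFour i) hc
      (Moebius.isSquare_two_of_mod (by omega))
  | subfieldGroup K u r hu hK hr hur m h =>
    obtain ⟨F₀, i1, i2, hc, ⟨φ⟩⟩ := Moebius.exists_typeZero_field K
    rw [Moebius.card_subfield_eq hK] at hc
    rw [inf_top_eq] at h
    have hr' : Odd r := hr.eq_two_or_odd'.resolve_left fun e =>
      hnot (h ▸ Moebius.subfieldPGL_le_imL hodd hK (e ▸ even_two) hur m)
    obtain ⟨e⟩ := Moebius.subfieldPGL_equiv K m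
    exact Or.inr (Or.inr (Or.inr (Or.inr ⟨F₀, i1, i2, r, hr, hr', by rw [hc, hur],
      ⟨((MulEquiv.subgroupCongr h).trans e).trans (Moebius.pglCongr φ)⟩⟩)))
end Cfsg.Agent.S5891
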