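import Cfsg.Statements.S0369
import Cfsg.Agent.Lib.Golay.Octads

set_option autoImplicit false
open Cfsg CfsgLib.Golay
open scoped Pointwise

namespace Cfsg.Agent.S0369

/-- The group of the length-24 code coincides with the automorphism group of its octad system. -/
theorem result : Cfsg.M24 = Cfsg.setSystemAut Cfsg.octads := by
  apply le_antisymm
  · intro σ hσ
    rw [MulAction.mem_stabilizer_iff]
    refine Set.eq_of_subset_of_ncard_le ?_ (by rw [Set.ncard_smul_set]) (Set.toFinite _)
    rintro _ ⟨o, ho, rfl⟩
    exact M24_smul_octad hσ ho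
  · intro σ hσ
    refine mem_M24_of_words fun x hx => ?_
    have h : ∀ x ∈ gens, mset x ∈ Cfsg.octads := fun x hx =>
      mem_octads_iff.2 ⟨x, mem_octList.2 ((show ∀ x ∈ gens, isCode x = true ∧ pop x = 8 by
        decide +kernel) x hx), rfl⟩
    have := Set.smul_mem_smul_set (a := σ) (h x hx)
    rw [MulAction.mem_stabilizer_iff.1 hσ] at this
    exact this.1

end Cfsg.Agent.S0369
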