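import Cfsg.Statements.S0374
import Cfsg.Agent.Lib.Golay.Mathieu

set_option autoImplicit false
open Cfsg CfsgLib.Golay
open scoped Pointwise

namespace Cfsg.Agent.S0374

/-- The group of the length-24 code is generated by x ↦ x+1, x ↦ -1/x and the cube-twist permutation. -/
theorem result : Subgroup.closure {Equiv.optionCongr (Equiv.addRight (1 : ZMod 23)), Cfsg.projInv, Cfsg.cubeTwist} = Cfsg.M24 := by
  set K := Subgroup.closure {Equiv.optionCongr (Equiv.addRight (1 : ZMod 23)), Cfsg.projInv,
    Cfsg.cubeTwist}
  have hinit : M24genInit.all inM24 = true := by decide +kernel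
  rw [List.all_eq_true] at hinit
  have h0 : permOf (M24genInit.getD 0 0) = Equiv.optionCongr (Equiv.addRight (1 : ZMod 23)) := by
    refine Equiv.ext fun p => ?_
    rw [permOf_apply (inM24_valid (hinit _ (by decide +kernel)))]
    revert p; decide +kernel
  have h1 : permOf (M24genInit.getD 1 0) = Cfsg.projInv := by
    refine Equiv.ext fun p => ?_
    rw [permOf_apply (inM24_valid (hinit _ (by decide +kernel)))]
    revert p; decide +kernel
  have h2 : permOf (M24genInit.getD 2 0) = Cfsg.cubeTwist := by
    refine Equiv.ext fun p => ?_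
    rw [permOf_apply (inM24_valid (hinit _ (by decide +kernel)))]
    show _ = Cfsg.cubeTwistFun p
    revert p; decide +kernel
  apply le_antisymm
  · rw [Subgroup.closure_le]
    rintro x (rfl | rfl | rfl)
    · rw [← h0]; exact inM24_mem (hinit _ (by decide +kernel))
    · rw [← h1]; exact inM24_mem (hinit _ (by decide +kernel))
    · rw [← h2]; exact inM24_mem (hinit _ (by decide +kernel))
  · rw [← fixMasks_nil]
    refine fixMasks_le_of_gens chainM24_ok (slpOK_sound (fun c hc => ?_) M24gen_ok)
    have : ∀ c ∈ M24genInit, c = M24genInit.getD 0 0 ∨ c = M24genInit.getD 1 0 ∨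
        c = M24genInit.getD 2 0 := by decide +kernel
    rcases this c hc with rfl | rfl | rfl
    · rw [h0]; exact Subgroup.subset_closure (by simp)
    · rw [h1]; exact Subgroup.subset_closure (by simp)
    · rw [h2]; exact Subgroup.subset_closure (by simp)

end Cfsg.Agent.S0374
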