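import Cfsg.Statements.S0358
import Cfsg.Agent.Lib.Golay.Code

set_option autoImplicit false
open Cfsg CfsgLib.Golay

namespace Cfsg.Agent.S0358

/-- The length-24 code built from the squares modulo 23 has dimension 12 over the field with two elements. -/
theorem result : Module.finrank (ZMod 2) Cfsg.golayCode = 12 := by
  let P : Fin 12 → Cfsg.GolayPt := fun i => pt i.val
  let f : Cfsg.golayCode →ₗ[ZMod 2] (Fin 12 → ZMod 2) :=
    (LinearMap.funLeft (ZMod 2) (ZMod 2) P).comp (Submodule.subtype _)
  have key : ∀ m (i : Fin 12), mword (m % 4096) (P i) = mword m (P i) := by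
    intro m i
    have hi := i.isLt
    simp only [mword, P, idx_pt (show i.val < 24 by omega),
      show (4096 : ℕ) = 2 ^ 12 by norm_num, Nat.testBit_mod_two_pow, hi, decide_true, Bool.true_and]
  have inj : Function.Injective f := by
    rw [← LinearMap.ker_eq_bot, LinearMap.ker_eq_bot']
    rintro ⟨w, hw⟩ h
    obtain ⟨m, hm, rfl⟩ := mem_golayCode_iff.1 hw
    have hz : m % 4096 = 0 := by
      apply Nat.eq_of_testBit_eq
      intro j
      rw [Nat.zero_testBit]
      by_cases hj : j < 12
      · have h' := congrFun h ⟨j, hj⟩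
        change mword m (P ⟨j, hj⟩) = 0 at h'
        rw [← key] at h'
        simp only [mword, P, idx_pt (show j < 24 by omega)] at h'
        cases hb : (m % 4096).testBit j <;> simp [hb] at h' ⊢
      · rw [show (4096 : ℕ) = 2 ^ 12 by norm_num, Nat.testBit_mod_two_pow]; simp [hj]
    rw [isCode_iff, hz] at hm
    apply Subtype.ext
    show mword m = 0
    rw [← hm, show enc 0 = 0 by decide +kernel, mword_zero]
  have surj : Function.Surjective f := by
    intro v
    let m := Nat.ofBits (fun i : Fin 12 => decide (v i = 1))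
    have hm : m < 4096 := Nat.lt_of_lt_of_eq (Nat.ofBits_lt_two_pow _) (by norm_num)
    refine ⟨⟨mword (enc m), mword_enc_mem m⟩, ?_⟩
    funext i
    show mword (enc m) (P i) = v i
    rw [← key, (enc_facts m hm).1]
    have hi := i.isLt
    simp only [mword, P, idx_pt (show i.val < 24 by omega), m, Nat.testBit_ofBits_lt _ _ hi]
    rcases (show ∀ a : ZMod 2, a = 0 ∨ a = 1 by decide) (v i) with h | h <;> simp [h]
  rw [(LinearEquiv.ofBijective f ⟨inj, surj⟩).finrank_eq]
  simp

end Cfsg.Agent.S0358
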