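import Cfsg.Statements.S1279
import Cfsg.Agent.Lib.Comp.ConstrainedBalance
-- import your own Cfsg.Agent.* helpers here

set_option autoImplicit false
open Cfsg

namespace Cfsg.Agent.S1279

/-- Let A be a noncyclic elementary abelian p-subgroup of the finite group G such that C_G(a) is solvable for every non-identity a ∈ A. Then a ↦ O_{p'}(C_G(a)) is a solvable A-signalizer functor on G. -/
theorem result {G : Type*} [Group G] [Finite G] (p : ℕ) [Fact p.Prime] (A : Subgroup G) (hA : Cfsg.IsElementaryAbelian p A) (hA2 : p ^ 2 ≤ Nat.card ↥A) (hsolv : ∀ a ∈ A, a ≠ 1 → Group.IsSolvable ↥(Subgroup.centralizer ({a} : Set G))) : Cfsg.IsSolvableSignalizerFunctor p A (fun a => Cfsg.centralizerPPrimeCore p a) := by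
  have hcomm : ∀ a ∈ A, ∀ b ∈ A, a ∈ Subgroup.centralizer ({b} : Set G) := fun a ha b hb =>
    Subgroup.mem_centralizer_singleton_iff.2
      (congrArg Subtype.val (hA.1.is_comm.comm ⟨a, ha⟩ ⟨b, hb⟩))
  refine ⟨⟨fun a _ _ => CfsgLib.Comp.centralizerPPrimeCore_le a, fun a _ _ =>
      (Fact.out : p.Prime).coprime_iff_not_dvd.1
        (CfsgLib.Comp.coprime_card_centralizerPPrimeCore (p := p) a).symm,
    fun a ha _ b hb x hx => (Subgroup.mem_normalizer_iff.1
      (CfsgLib.Comp.centralizer_le_normalizer_centralizerPPrimeCore a (hcomm b hb a ha)) x).1 hx,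
    fun a ha _ b hb hb1 => ?_⟩, fun a ha ha1 => ?_⟩
  · exact CfsgLib.Comp.centralizerPPrimeCore_inf_centralizer_le_of_isSolvable (hsolv b hb hb1)
      (hcomm a ha b hb) ((CfsgLib.Comp.isPGroup_of_elemAb hA).to_le (Subgroup.zpowers_le.2 ha))
  · exact CfsgLib.Coprime.isSolvable_of_le (hsolv a ha ha1) (CfsgLib.Comp.centralizerPPrimeCore_le a)

end Cfsg.Agent.S1279
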