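import Cfsg.Statements.S0071
import Cfsg.Agent.Lib.Transfer.Frobenius

set_option autoImplicit false
open Cfsg

namespace Cfsg.Agent.S0071

/-- The Frobenius normal p-complement Theorem states that a Sylow p-subgroup has a normal complement exactly when, for each of its subgroups Q, every element of the normalizer of Q of order prime to p centralizes Q. -/
theorem result {G : Type*} [Group G] [Finite G] {p : ℕ} [Fact p.Prime] (P : Sylow p G) : (∃ N : Subgroup G, N.Normal ∧ N.IsComplement' (P : Subgroup G)) ↔ ∀ Q : Subgroup G, Q ≤ (P : Subgroup G) → ∀ g ∈ Subgroup.normalizer (Q : Set G), Nat.Coprime (orderOf g) p → g ∈ Subgroup.centralizer (Q : Set G) := by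
  rw [← CfsgLib.Transfer.hasNormalPComplement_iff_exists_isComplement' P]
  refine ⟨fun h Q hQ g hg hgp =>
    CfsgLib.Transfer.hasNormalPComplement_iff_frobenius.1 h Q (P.2.to_le hQ) g hg hgp, fun h => ?_⟩
  refine CfsgLib.Transfer.hasNormalPComplement_iff_frobenius.2 fun D hD g hg hgp => ?_
  obtain ⟨R, hR⟩ := hD.exists_le_sylow
  obtain ⟨a, rfl⟩ := MulAction.exists_smul_eq G R P
  have hmem : ∀ d ∈ D, a * d * a⁻¹ ∈ ((a • R : Sylow p G) : Subgroup G) := fun d hd => by
    change a * d * a⁻¹ ∈ a • R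
    rw [CfsgLib.Transfer.sylow_smul_mem_iff]; simp only [mul_assoc, inv_mul_cancel_left,
      inv_mul_cancel, mul_one]; exact hR hd
  have h' := h (D.map (MulAut.conj a).toMonoidHom)
    (by rintro _ ⟨d, hd, rfl⟩; exact hmem d hd) (a * g * a⁻¹) ?_ ?_
  · rw [Subgroup.mem_centralizer_iff] at h' ⊢
    intro d hd
    have := h' (a * d * a⁻¹) ⟨d, hd, by simp⟩
    have h2 := congrArg (fun z => a⁻¹ * z * a) this
    simpa [mul_assoc] using h2
  · rw [← D.map_equiv_normalizer_eq (MulAut.conj a)]
    exact ⟨g, hg, by simp⟩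
  · rwa [← MulEquiv.orderOf_eq (MulAut.conj a) g] at hgp


end Cfsg.Agent.S0071
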