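import Cfsg.Statements.S5093
import Cfsg.Agent.Lib.Fusion.Tate
import Cfsg.Agent.Lib.Fusion.GroupFusion
import Cfsg.Agent.Lib.Transfer.Focal

set_option autoImplicit false
open Cfsg

namespace Cfsg.Agent.S5093

open CfsgLib.Fusion
open scoped commutatorElement

/-- Hyperfocal subgroup Theorem: for a finite group G with Sylow p-subgroup S, the hyperfocal subgroup of the fusion system of G on S equals S ∩ O^p(G), where O^p(G) is the subgroup generated by the elements of order prime to p. -/
theorem result {G : Type*} [Group G] [Finite G] (p : ℕ) [Fact p.Prime] (S : Sylow p G) : (Cfsg.groupFusionSystem (S : Subgroup G)).hyperfocalSubgroup p = (S : Subgroup G) ⊓ Cfsg.pResidual p G := by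
  have hK : (Cfsg.pResidual p G).Normal := CfsgLib.Transfer.pResidual_normal
  refine le_antisymm (hyperfocal_le_of _ fun P hP α hα hc x => ?_) ?_
  · refine ⟨(S : Subgroup G).mul_mem ((S : Subgroup G).inv_mem (hP x.2)) (hP (α x).2), ?_⟩
    rw [group_autGroup_eq (p := p) (S := S) hP, mem_autInducedBy_iff] at hα
    obtain ⟨g, -, hgx⟩ := hα
    -- replace `g` by a power of order prime to `p`
    set a := (orderOf g).factorization p with ha
    obtain ⟨j, hj⟩ : ∃ j : ℕ, α ^ (p ^ a * j) = α := by
      have h : (p ^ a).Coprime (orderOf α) := (hc.symm).pow_left a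
      obtain ⟨j, hj⟩ := exists_pow_eq_self_of_coprime h
      exact ⟨j, by rw [pow_mul, hj]⟩
    have hpow : ∀ (k : ℕ) (y : P), (((α ^ k) y : P) : G) = g ^ k * (y : G) * (g ^ k)⁻¹ := by
      intro k
      induction k with
      | zero => intro y; simp
      | succ k ih =>
        intro y
        rw [pow_succ, MulAut.mul_apply, ih, hgx, pow_succ, mul_inv_rev]
        simp only [mul_assoc]
    have hg' : g ^ (p ^ a * j) ∈ Cfsg.pResidual p G := by
      rw [pow_mul]
      refine Subgroup.pow_mem _ (Subgroup.subset_closure ?_) j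
      show (orderOf (g ^ p ^ a)).Coprime p
      rw [orderOf_pow_of_dvd (pow_ne_zero _ (Fact.out : p.Prime).ne_zero) (Nat.ordProj_dvd _ p)]
      exact (Nat.coprime_ordCompl (Fact.out : p.Prime) (orderOf_pos g).ne').symm
    have h := hpow (p ^ a * j) x
    rw [hj] at h
    have e : (x : G)⁻¹ * ((α x : P) : G) =
        (x : G)⁻¹ * g ^ (p ^ a * j) * ((x : G)⁻¹)⁻¹ * (g ^ (p ^ a * j))⁻¹ := by
      rw [h, inv_inv]
      simp only [mul_assoc]
    rw [e]
    exact (Cfsg.pResidual p G).mul_mem (hK.conj_mem _ hg' _) ((Cfsg.pResidual p G).inv_mem hg')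
  · set K := Cfsg.pResidual p G with hKdef
    set T : Subgroup G := (S : Subgroup G) ⊓ K with hTdef
    have hTp : IsPGroup p T := S.2.to_le inf_le_left
    obtain ⟨R, hR⟩ := CfsgLib.Transfer.exists_sylow_eq_subgroupOf S K
    set H := Cfsg.fusionSystemOfSubgroup K T inf_le_right with hH
    have hHs : IsSystemOf H K := isSystemOf_subgroup K T inf_le_right
    have hidx : ¬ p ∣ T.relIndex K := by
      rw [Subgroup.relIndex, hTdef, Subgroup.inf_subgroupOf_right, ← hR]
      exact R.not_dvd_index
    have hHsat : H.IsSaturated p := IsSystemOf.isSaturated hHs hTp hidx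
    have hfoc : T ≤ H.focalSubgroup := by
      have hfoc : (R : Subgroup K) ≤ (R : Subgroup K).focalSubgroup := by
        rw [← Subgroup.ker_transferFocal_inf_eq_focalSubgroup R]
        exact le_inf (fun x _ => CfsgLib.Transfer.eq_one_of_pResidual_eq_top _ (R.2.to_quotient _)
          CfsgLib.Transfer.pResidual_pResidual x) le_rfl
      have hmap : (R : Subgroup K).focalSubgroup.map K.subtype ≤ H.focalSubgroup := by
        rw [Subgroup.focalSubgroup_def, MonoidHom.map_closure, Subgroup.closure_le]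
        rintro _ ⟨_, ⟨hmem, x, hx, u, rfl⟩, rfl⟩
        rw [hR, Subgroup.mem_subgroupOf] at hx hmem
        have hxT : (x : G)⁻¹ ∈ T := T.inv_mem ⟨hx, x.2⟩
        have hmem' : (x : G) * (u : G) * (x : G)⁻¹ * (u : G)⁻¹ ∈ T := by
          have h := (⟨hmem, (⁅x, u⁆ : K).2⟩ : ((⁅x, u⁆ : K) : G) ∈ T)
          exact ⟨by simpa [commutatorElement_def] using h.1, by simpa [commutatorElement_def] using h.2⟩
        have hy : (u : G) * (x : G)⁻¹ * (u : G)⁻¹ ∈ T := by
          have h2 := T.mul_mem hxT hmem'
          simpa [mul_assoc] using h2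
        refine Subgroup.subset_closure ⟨Subgroup.zpowers (x : G)⁻¹,
          Cfsg.conjHom _ (u : G), ⟨_, Subgroup.mem_zpowers _⟩,
          ⟨Subgroup.zpowers_le.2 hxT, fun z => ?_, u, u.2, fun z => rfl⟩, ?_⟩
        · obtain ⟨n, hn⟩ := Subgroup.mem_zpowers_iff.1 z.2
          show (u : G) * (z : G) * (u : G)⁻¹ ∈ T
          rw [← hn, ← conj_zpow]
          exact T.zpow_mem hy n
        · show K.subtype ⁅x, u⁆ = ((x : G)⁻¹)⁻¹ * ((u : G) * (x : G)⁻¹ * (u : G)⁻¹)
          simp [commutatorElement_def, mul_assoc]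
      intro y hy
      exact hmap ⟨⟨y, hy.2⟩, hfoc (by rw [hR]; exact hy.1), rfl⟩
    have hsub : H.hyperfocalSubgroup p ≤ (Cfsg.groupFusionSystem (S : Subgroup G)).hyperfocalSubgroup p :=
      hyperfocal_le_of _ fun P hP α hα hc x => by
        refine sub_mem_hyperfocal_of_coprime (hP.trans inf_le_left) ?_ hc x
        obtain ⟨h1, h2, g, -, hg⟩ := (autGroup_mem_iff hP).1 hα
        exact (autGroup_mem_iff (hP.trans inf_le_left)).2
          ⟨h1.trans inf_le_left, fun z => (h2 z).1, g, hg⟩
    refine le_trans ?_ hsub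
    rw [focal_eq_hyperfocal_sup hTp hHsat] at hfoc
    have hHle := hyperfocal_le H p
    have h1 : (H.hyperfocalSubgroup p).subgroupOf T ⊔ frattini T = ⊤ := by
      rw [← Subgroup.map_subtype_inj, Subgroup.map_sup, Subgroup.map_subgroupOf_eq_of_le hHle,
        ← MonoidHom.range_eq_map, Subgroup.range_subtype]
      exact le_antisymm (sup_le hHle (Subgroup.map_subtype_le _))
        (hfoc.trans (sup_le_sup_left (commutator_le_frattini_map hTp) _))
    exact Subgroup.subgroupOf_eq_top.1 (frattini_nongenerating h1)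

end Cfsg.Agent.S5093
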