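import Cfsg.Statements.S4134
import Cfsg.Agent.Lib.StructC.FrobCount
import Cfsg.Agent.Lib.StructB.BaerPPower

set_option autoImplicit false
open Cfsg

namespace Cfsg.Agent.S4134

open Subgroup

/-- In a finite abelian group the solutions of `x ^ N = 1` form the Hall subgroup for `N`. -/
theorem card_pow_eq_one_of_coprime {D : Type*} [Group D] [Finite D] (H : Subgroup D) [H.Normal]
    {N : ℕ} (h1 : Nat.card H ∣ N) (h2 : H.index.Coprime N) :
    Nat.card {x : D // x ^ N = 1} = Nat.card H := by
  refine Nat.card_congr (Equiv.subtypeEquivRight fun x => ⟨fun hx => ?_, fun hx => ?_⟩)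
  · rw [← QuotientGroup.eq_one_iff, ← orderOf_eq_one_iff]
    exact Nat.eq_one_of_dvd_coprimes h2 (H.index_eq_card ▸ orderOf_dvd_natCard _)
      (orderOf_dvd_of_pow_eq_one (by rw [← QuotientGroup.mk_pow, hx, QuotientGroup.mk_one]))
  · exact orderOf_dvd_iff_pow_eq_one.1 ((H.orderOf_dvd_natCard hx).trans h1)

/-- Counting in an equal partition: no component order has two prime divisors. -/
theorem false_of_arith {m a b na nb : ℕ} (ha : 2 ≤ a) (hb : 2 ≤ b) (hn : 1 < na * nb)
    (h1 : a * na ∣ m * (a - 1) + 1) (h2 : b * nb ∣ m * (b - 1) + 1)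
    (h3 : m * (a * b - 1) + 1 = a * b * (na * nb)) : False := by
  obtain ⟨a', rfl⟩ : ∃ a', a = a' + 1 := ⟨a - 1, by omega⟩
  obtain ⟨b', rfl⟩ : ∃ b', b = b' + 1 := ⟨b - 1, by omega⟩
  have e : (a' + 1) * (b' + 1) - 1 = a' * b' + a' + b' := by
    rw [show (a' + 1) * (b' + 1) = a' * b' + a' + b' + 1 by ring]; omega
  rw [Nat.add_sub_cancel] at h1 h2
  rw [e] at h3
  have key : ∀ {u v nu nv : ℕ}, (u + 1) * nu ∣ m * u + 1 →
      m * (u * v + u + v) + 1 = (u + 1) * (v + 1) * (nu * nv) → nu ∣ v := by
    intro u v nu nv hu he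
    have hco : Nat.Coprime nu m := by
      refine Nat.coprime_of_dvd fun k hk hku hkm => hk.not_dvd_one ?_
      have hk1 : k ∣ m * u + 1 := (hku.trans (dvd_mul_left nu (u + 1))).trans hu
      exact (Nat.dvd_add_right (hkm.mul_right u)).1 hk1
    have h4 : (u + 1) * nu ∣ (u + 1) * (m * v) := by
      have h5 : (u + 1) * nu ∣ m * (u * v + u + v) + 1 :=
        he ▸ ⟨(v + 1) * nv, by ring⟩
      rw [show m * (u * v + u + v) + 1 = (u + 1) * (m * v) + (m * u + 1) by ring] at h5
      exact (Nat.dvd_add_left hu).1 h5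
    exact hco.dvd_of_dvd_mul_left (Nat.dvd_of_mul_dvd_mul_left (by omega) h4)
  have hna : na ∣ b' := key h1 h3
  have hnb : nb ∣ a' := key (u := b') (v := a') (nv := na) h2 (by
    rw [show b' * a' + b' + a' = a' * b' + a' + b' by ring, h3]; ring)
  have hle : na * nb ≤ b' * a' :=
    Nat.mul_le_mul (Nat.le_of_dvd (by omega) hna) (Nat.le_of_dvd (by omega) hnb)
  generalize na * nb = n at hn h3 hle
  have hk : a' * b' + a' + b' + 1 = (a' + 1) * (b' + 1) := by ring
  rw [← hk] at h3
  have hle' : n ≤ a' * b' := by rw [mul_comm]; exact hle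
  generalize a' * b' = w at h3 hle'
  have hnm : n < m := by
    by_contra hc
    have h4 : m * (w + a' + b') ≤ n * (w + a' + b') := Nat.mul_le_mul_right _ (not_lt.1 hc)
    nlinarith
  have h6 : (n + 1) * (w + a' + b') ≤ m * (w + a' + b') := Nat.mul_le_mul_right _ hnm
  nlinarith

variable {G : Type*} [Group G] [Finite G]

theorem center_le_centralizer_singleton (x : G) : center G ≤ centralizer ({x} : Set G) :=
  fun z hz => mem_centralizer_singleton_iff.2 (mem_center_iff.1 hz x).symm

theorem commute_of_mem_zpowers {u v z : G} (hv : v ∈ zpowers u) (hz : z * u = u * z) :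
    z * v = v * z := by
  obtain ⟨i, rfl⟩ := mem_zpowers_iff.1 hv
  exact (Commute.zpow_right hz i).eq

theorem centralizer_le_of_mem_zpowers {u v : G} (hv : v ∈ zpowers u) :
    centralizer ({u} : Set G) ≤ centralizer ({v} : Set G) := fun _ hz =>
  mem_centralizer_singleton_iff.2 (commute_of_mem_zpowers hv (mem_centralizer_singleton_iff.1 hz))

theorem mem_zpowers_mul {x y : G} (hc : Commute x y) (hco : (orderOf y).Coprime (orderOf x)) :
    x ∈ zpowers (x * y) := by
  obtain ⟨k, hk⟩ := exists_pow_eq_self_of_coprime hco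
  have h1 : x ^ orderOf y = (x * y) ^ orderOf y := by rw [hc.mul_pow, pow_orderOf_eq_one, mul_one]
  have h2 : (x ^ orderOf y) ^ k ∈ zpowers (x * y) := by
    rw [h1]
    exact pow_mem (pow_mem (mem_zpowers (x * y)) (orderOf y)) k
  rwa [hk] at h2

theorem exists_primary {g : G} (hg : g ∉ center G) :
    ∃ (p k : ℕ) (x : G), p.Prime ∧ x ^ p ^ k = 1 ∧ x ∈ zpowers g ∧ x ∉ center G := by
  by_contra hc
  push Not at hc
  refine hg ((subgroupOf_eq_top.1 (CfsgLib.Solvable.eq_top_of_forall_prime
    (H := (center G).subgroupOf (zpowers g)) fun p hp hd => ?_)) (mem_zpowers g))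
  have := Fact.mk hp
  obtain ⟨S⟩ := (inferInstance : Nonempty (Sylow p (zpowers g)))
  refine S.not_dvd_index (hd.trans (index_dvd_of_le fun x hx => ?_))
  obtain ⟨k, hk⟩ := S.2 ⟨x, hx⟩
  exact hc p k x hp (congrArg (fun w : (S : Subgroup (zpowers g)) => ((w : zpowers g) : G)) hk) x.2

variable {n : ℕ}

theorem index_eq
    (h : ∀ x : G, (centralizer ({x} : Set G)).index = 1 ∨ (centralizer ({x} : Set G)).index = n)
    {x : G} (hx : x ∉ center G) : (centralizer ({x} : Set G)).index = n :=
  (h x).resolve_left fun e => hx (CfsgLib.StructB.Baer.mem_center_of_index_eq_one e)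

theorem eq_of_le
    (h : ∀ x : G, (centralizer ({x} : Set G)).index = 1 ∨ (centralizer ({x} : Set G)).index = n)
    {x y : G} (hx : x ∉ center G) (hy : y ∉ center G)
    (hle : centralizer ({x} : Set G) ≤ centralizer ({y} : Set G)) :
    centralizer ({x} : Set G) = centralizer ({y} : Set G) := by
  refine eq_of_le_of_card_ge hle ?_
  have h1 := (centralizer ({x} : Set G)).card_mul_index
  have h2 := (centralizer ({y} : Set G)).card_mul_index
  rw [index_eq h hx] at h1
  rw [index_eq h hy] at h2
  have hn : 0 < n := Nat.pos_of_ne_zero (index_eq h hx ▸ index_ne_zero_of_finite)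
  exact (Nat.eq_of_mul_eq_mul_right hn (h2.trans h1.symm)).le

/-- `p'`-elements centralising a noncentral `p`-element are central in its centraliser. -/
theorem le_of_coprime
    (h : ∀ x : G, (centralizer ({x} : Set G)).index = 1 ∨ (centralizer ({x} : Set G)).index = n)
    {x y : G} (hx : x ∉ center G) (hc : Commute x y) (hco : (orderOf y).Coprime (orderOf x)) :
    centralizer ({x} : Set G) ≤ centralizer ({y} : Set G) := by
  have hxm := mem_zpowers_mul hc hco
  have hym : y ∈ zpowers (x * y) := hc.eq ▸ mem_zpowers_mul hc.symm hco.symm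
  have hxy : x * y ∉ center G := fun hz => hx ((zpowers_le.2 hz) hxm)
  exact (eq_of_le h hxy hx (centralizer_le_of_mem_zpowers hxm)).ge.trans
    (centralizer_le_of_mem_zpowers hym)

theorem exists_noncentral_of_other
    (h : ∀ x : G, (centralizer ({x} : Set G)).index = 1 ∨ (centralizer ({x} : Set G)).index = n)
    {p q k l : ℕ} (hq : q.Prime) (hp : p.Prime) (hpq : p ≠ q) {x y : G}
    (hx : x ∉ center G) (hxk : x ^ p ^ k = 1) (hy : y ∉ center G) (hyl : y ^ q ^ l = 1) :
    ∃ y' : G, y' ∉ center G ∧ y' ∈ centralizer ({x} : Set G) ∧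
      (∃ j, y' ^ q ^ j = 1) ∧ centralizer ({x} : Set G) = centralizer ({y'} : Set G) := by
  have := Fact.mk hq
  obtain ⟨T⟩ := (inferInstance : Nonempty (Sylow q (centralizer ({x} : Set G))))
  have hex : ∃ y' ∈ (T : Subgroup (centralizer ({x} : Set G))), (y' : G) ∉ center G := by
    by_contra hall
    push Not at hall
    -- the centraliser of `x` has too small a `q`-part
    set T' := (T : Subgroup (centralizer ({x} : Set G))).map
      (centralizer ({x} : Set G)).subtype with hT'
    have hT'Z : T' ≤ center G := by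
      rintro _ ⟨z, hz, rfl⟩
      exact hall z hz
    have hcardC : Nat.card (centralizer ({x} : Set G)) = Nat.card (centralizer ({y} : Set G)) := by
      have h1 := (centralizer ({x} : Set G)).card_mul_index
      have h2 := (centralizer ({y} : Set G)).card_mul_index
      rw [index_eq h hx] at h1
      rw [index_eq h hy] at h2
      have hn : 0 < n := Nat.pos_of_ne_zero (index_eq h hx ▸ index_ne_zero_of_finite)
      exact Nat.eq_of_mul_eq_mul_right hn (h1.trans h2.symm)
    have hT'card : Nat.card T' = q ^ (Nat.card (centralizer ({y} : Set G))).factorization q := by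
      rw [hT', card_map_of_injective (subtype_injective _), T.card_eq_multiplicity, hcardC]
    have hT'y : T' ≤ centralizer ({y} : Set G) :=
      hT'Z.trans (center_le_centralizer_singleton y)
    let S : Sylow q (centralizer ({y} : Set G)) := Sylow.ofCard (T'.subgroupOf _) (by
      rw [Nat.card_congr (subgroupOfEquivOfLe hT'y).toEquiv, hT'card])
    have hyy : y ∈ centralizer ({y} : Set G) := mem_centralizer_singleton_iff.2 rfl
    have hpg : IsPGroup q (zpowers (⟨y, hyy⟩ : centralizer ({y} : Set G))) := by
      obtain ⟨j, -, hj⟩ := (Nat.dvd_prime_pow hq).1 (orderOf_dvd_of_pow_eq_one hyl)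
      exact IsPGroup.of_card (n := j) (by rw [Nat.card_zpowers, Subgroup.orderOf_mk, hj])
    obtain ⟨S', hS'⟩ := hpg.exists_le_sylow
    obtain ⟨g, hg⟩ := MulAction.exists_smul_eq (centralizer ({y} : Set G)) S S'
    obtain ⟨s, hs, hsy⟩ : (⟨y, hyy⟩ : centralizer ({y} : Set G)) ∈
        (S : Subgroup _).map (MulAut.conj g).toMonoidHom := by
      rw [show (S : Subgroup _).map (MulAut.conj g).toMonoidHom = (S' : Subgroup _) from
        congrArg (fun P : Sylow q (centralizer ({y} : Set G)) =>
          (P : Subgroup (centralizer ({y} : Set G)))) hg]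
      exact hS' (mem_zpowers _)
    have hsZ : (s : G) ∈ center G := hT'Z hs
    apply hy
    have h3 : (g : G) * s * (g : G)⁻¹ = y := congrArg Subtype.val hsy
    rw [mem_center_iff.1 hsZ (g : G), mul_inv_cancel_right] at h3
    exact h3 ▸ hsZ
  obtain ⟨y', hy'T, hy'Z⟩ := hex
  obtain ⟨j, hj⟩ := T.2 ⟨y', hy'T⟩
  have hj' : (y' : G) ^ q ^ j = 1 :=
    congrArg (fun w : (T : Subgroup (centralizer ({x} : Set G))) =>
      ((w : centralizer ({x} : Set G)) : G)) hj
  have hcomm : Commute x (y' : G) := (mem_centralizer_singleton_iff.1 y'.2).symm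
  have hco : (orderOf (y' : G)).Coprime (orderOf x) :=
    Nat.Coprime.coprime_dvd_left (orderOf_dvd_of_pow_eq_one hj')
      (Nat.Coprime.coprime_dvd_right (orderOf_dvd_of_pow_eq_one hxk)
        (Nat.Coprime.pow j k ((Nat.coprime_primes hq hp).2 hpq.symm)))
  exact ⟨y', hy'Z, y'.2, ⟨j, hj'⟩, eq_of_le h hx hy'Z (le_of_coprime h hx hcomm hco)⟩

/-- All noncentral elements of prime power order belong to one prime. -/
theorem prime_unique (hn : 1 < n)
    (h : ∀ x : G, (centralizer ({x} : Set G)).index = 1 ∨ (centralizer ({x} : Set G)).index = n)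
    {p q k l : ℕ} (hp : p.Prime) (hq : q.Prime) {x y : G}
    (hx : x ∉ center G) (hxk : x ^ p ^ k = 1) (hy : y ∉ center G) (hyl : y ^ q ^ l = 1) :
    p = q := by
  by_contra hpq
  classical
  -- all centralisers of noncentral elements are abelian
  have habel : ∀ g : G, g ∉ center G → ∀ u ∈ centralizer ({g} : Set G),
      ∀ v ∈ centralizer ({g} : Set G), u * v = v * u := by
    intro g hg
    obtain ⟨r, i, w, hr, hwi, hwg, hw⟩ := exists_primary hg
    obtain ⟨s, j, z, hs, hsr, hzj, hz⟩ : ∃ (s j : ℕ) (z : G),
        s.Prime ∧ s ≠ r ∧ z ^ s ^ j = 1 ∧ z ∉ center G := by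
      by_cases hrp : r = p
      · exact ⟨q, l, y, hq, fun e => hpq (hrp.symm.trans e.symm), hyl, hy⟩
      · exact ⟨p, k, x, hp, Ne.symm hrp, hxk, hx⟩
    obtain ⟨z', hz', hz'w, ⟨j', hj'⟩, hwz⟩ :=
      exists_noncentral_of_other h hs hr hsr.symm hw hwi hz hzj
    have hCg : centralizer ({g} : Set G) ≤ centralizer ({w} : Set G) :=
      centralizer_le_of_mem_zpowers hwg
    have hcent : ∀ u ∈ centralizer ({w} : Set G),
        centralizer ({w} : Set G) ≤ centralizer ({u} : Set G) := by
      intro u hu
      by_cases huZ : u ∈ center G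
      · exact fun v _ => mem_centralizer_singleton_iff.2 (mem_center_iff.1 huZ v)
      · suffices hsub : ∀ (t e : ℕ) (u' : G), t.Prime → u' ^ t ^ e = 1 → u' ∈ zpowers u →
            centralizer ({w} : Set G) ≤ centralizer ({u'} : Set G) by
          intro v hv
          rw [mem_centralizer_singleton_iff]
          -- `v` commutes with all primary parts of `u`
          have hmem : u ∈ centralizer ({v} : Set G) := by
            refine (subgroupOf_eq_top.1 (CfsgLib.Solvable.eq_top_of_forall_prime
              (H := (centralizer ({v} : Set G)).subgroupOf (zpowers u)) fun t ht hd => ?_))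
              (mem_zpowers u)
            have := Fact.mk ht
            obtain ⟨S⟩ := (inferInstance : Nonempty (Sylow t (zpowers u)))
            refine S.not_dvd_index (hd.trans (index_dvd_of_le fun u' hu' => ?_))
            obtain ⟨e, he⟩ := S.2 ⟨u', hu'⟩
            have h1 := hsub t e u' ht
              (congrArg (fun w : (S : Subgroup (zpowers u)) => ((w : zpowers u) : G)) he) u'.2 hv
            exact mem_centralizer_singleton_iff.2 (mem_centralizer_singleton_iff.1 h1).symm
          exact (mem_centralizer_singleton_iff.1 hmem).symm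
        intro t e u' ht hu'e hu'u
        have hu'w : u' ∈ centralizer ({w} : Set G) := (zpowers_le.2 hu) hu'u
        by_cases htr : t = r
        · subst htr
          rw [hwz] at hu'w ⊢
          refine le_of_coprime h hz' (mem_centralizer_singleton_iff.1 hu'w).symm ?_
          exact Nat.Coprime.coprime_dvd_left (orderOf_dvd_of_pow_eq_one hu'e)
            (Nat.Coprime.coprime_dvd_right (orderOf_dvd_of_pow_eq_one hj')
              (Nat.Coprime.pow e j' ((Nat.coprime_primes ht hs).2 hsr.symm)))
        · refine le_of_coprime h hw (mem_centralizer_singleton_iff.1 hu'w).symm ?_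
          exact Nat.Coprime.coprime_dvd_left (orderOf_dvd_of_pow_eq_one hu'e)
            (Nat.Coprime.coprime_dvd_right (orderOf_dvd_of_pow_eq_one hwi)
              (Nat.Coprime.pow e i ((Nat.coprime_primes ht hr).2 htr)))
    intro u hu v hv
    exact (mem_centralizer_singleton_iff.1 (hcent v (hCg hv) (hCg hu)))
  -- the components of the partition of `G ⧸ Z(G)`
  let := Fintype.ofFinite G
  set Z := center G with hZ
  let f := QuotientGroup.mk' Z
  let := Fintype.ofFinite (G ⧸ Z)
  let comps : Finset (Subgroup (G ⧸ Z)) :=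
    (Finset.univ.filter fun g : G => g ∉ Z).image fun g => (centralizer ({g} : Set G)).map f
  have hcomap : ∀ g : G, ((centralizer ({g} : Set G)).map f).comap f = centralizer ({g} : Set G) := by
    intro g
    rw [comap_map_eq, QuotientGroup.ker_mk', sup_eq_left]
    exact center_le_centralizer_singleton g
  have hidx : ∀ g : G, g ∉ Z → ((centralizer ({g} : Set G)).map f).index = n := by
    intro g hg
    rw [← index_comap_of_surjective _ (QuotientGroup.mk'_surjective Z), hcomap, index_eq h hg]
  set K := Nat.card ((centralizer ({x} : Set G)).map f) with hK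
  have hcard : Nat.card (G ⧸ Z) = K * n := by
    rw [← hidx x hx, hK, card_mul_index]
  have hK' : ∀ g : G, g ∉ Z → Nat.card ((centralizer ({g} : Set G)).map f) = K := by
    intro g hg
    have h1 := ((centralizer ({g} : Set G)).map f).card_mul_index
    rw [hidx g hg, hcard] at h1
    exact Nat.eq_of_mul_eq_mul_right (by omega) h1
  have hKpos : 0 < K := Nat.card_pos
  have hcomm : ∀ D ∈ comps, ∀ u ∈ D, ∀ v ∈ D, u * v = v * u := by
    intro D hD
    simp only [comps, Finset.mem_image, Finset.mem_filter] at hD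
    obtain ⟨g, ⟨-, hg⟩, rfl⟩ := hD
    rintro _ ⟨u, hu, rfl⟩ _ ⟨v, hv, rfl⟩
    rw [← map_mul, ← map_mul, habel g hg u hu v hv]
  have hcov : ∀ z : G ⧸ Z, z ≠ 1 → ∃ D ∈ comps, z ∈ D ∧ ∀ D' ∈ comps, z ∈ D' → D' = D := by
    intro z hz
    obtain ⟨g, rfl⟩ := QuotientGroup.mk'_surjective Z z
    have hg : g ∉ Z := fun e => hz ((QuotientGroup.eq_one_iff g).2 e)
    refine ⟨(centralizer ({g} : Set G)).map f,
      Finset.mem_image.2 ⟨g, Finset.mem_filter.2 ⟨Finset.mem_univ g, hg⟩, rfl⟩,
      mem_map_of_mem f (mem_centralizer_singleton_iff.2 rfl), fun D' hD' hzD' => ?_⟩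
    simp only [comps, Finset.mem_image, Finset.mem_filter] at hD'
    obtain ⟨g', ⟨-, hg'⟩, rfl⟩ := hD'
    have hgg' : g ∈ centralizer ({g'} : Set G) := by rw [← hcomap g']; exact hzD'
    rw [eq_of_le h hg' hg fun v hv =>
      mem_centralizer_singleton_iff.2 (habel g' hg' v hv g hgg')]
  have hcount : ∀ N A : ℕ, (∀ D ∈ comps, Nat.card {z : D // z ^ N = 1} = A) →
      Nat.card {z : G ⧸ Z // z ^ N = 1} = comps.card * (A - 1) + 1 := by
    intro N A hA
    let X : Finset (G ⧸ Z) := Finset.univ.filter fun z => z ^ N = 1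
    have hX : Nat.card {z : G ⧸ Z // z ^ N = 1} = X.card := by
      rw [Nat.card_eq_fintype_card, Fintype.card_subtype]
    have hun : X.erase 1 = comps.biUnion fun D => (X.filter fun z => z ∈ D).erase 1 := by
      ext z
      simp only [Finset.mem_erase, Finset.mem_biUnion, Finset.mem_filter]
      constructor
      · rintro ⟨hz1, hz⟩
        obtain ⟨D, hD, hzD, -⟩ := hcov z hz1
        exact ⟨D, hD, hz1, hz, hzD⟩
      · rintro ⟨D, -, hz1, hz, -⟩
        exact ⟨hz1, hz⟩
    have hdisj : (comps : Set (Subgroup (G ⧸ Z))).PairwiseDisjoint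
        fun D => (X.filter fun z => z ∈ D).erase 1 := by
      intro D hD D' hD' hne
      rw [Function.onFun, Finset.disjoint_left]
      intro z hz hz'
      simp only [Finset.mem_erase, Finset.mem_filter] at hz hz'
      obtain ⟨E, -, -, huniq⟩ := hcov z hz.1
      exact hne ((huniq D hD hz.2.2).trans (huniq D' hD' hz'.2.2).symm)
    have hone : ∀ D ∈ comps, ((X.filter fun z => z ∈ D).erase 1).card = A - 1 := by
      intro D hD
      rw [Finset.card_erase_of_mem (by simp [X]), ← hA D hD]
      congr 1
      rw [Nat.card_eq_fintype_card, Fintype.card_subtype]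
      refine Finset.card_bij (fun z hz => (⟨z, (Finset.mem_filter.1 hz).2⟩ : D)) ?_ ?_ ?_
      · intro z hz
        simp only [X, Finset.mem_filter, Finset.mem_univ, true_and] at hz ⊢
        exact Subtype.ext hz.1
      · intro u _ v _ huv
        exact congrArg Subtype.val huv
      · intro z hz
        simp only [Finset.mem_filter, Finset.mem_univ, true_and] at hz
        refine ⟨z, ?_, rfl⟩
        simp only [X, Finset.mem_filter, Finset.mem_univ, true_and]
        exact ⟨congrArg Subtype.val hz, z.2⟩
    have h1 : (X.erase 1).card = comps.card * (A - 1) := by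
      rw [hun, Finset.card_biUnion hdisj, Finset.sum_congr rfl hone, Finset.sum_const, smul_eq_mul]
    have h1X : (1 : G ⧸ Z) ∈ X := by simp [X]
    rw [hX, ← Finset.card_erase_add_one h1X, h1]
  -- split off the prime `p`
  have := Fact.mk hp
  have hn0 : n ≠ 0 := by omega
  set a := p ^ K.factorization p with ha
  set b := K / a with hb
  set na := p ^ n.factorization p with hna
  set nb := n / na with hnb
  have hab : a * b = K := Nat.ordProj_mul_ordCompl_eq_self K p
  have hnab : na * nb = n := Nat.ordProj_mul_ordCompl_eq_self n p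
  have hbp : ¬ p ∣ b := Nat.not_dvd_ordCompl hp hKpos.ne'
  have hnbp : ¬ p ∣ nb := Nat.not_dvd_ordCompl hp hn0
  have hcard' : Nat.card (G ⧸ Z) = a * na * (b * nb) := by
    rw [hcard, ← hab, ← hnab]; ring
  have hKmem : ∀ D ∈ comps, Nat.card D = K := by
    intro D hD
    simp only [comps, Finset.mem_image, Finset.mem_filter] at hD
    obtain ⟨g, ⟨-, hg⟩, rfl⟩ := hD
    exact hK' g hg
  have hA1 : ∀ D ∈ comps, Nat.card {z : D // z ^ (a * na) = 1} = a := by
    intro D hD
    obtain ⟨S⟩ := (inferInstance : Nonempty (Sylow p D))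
    have : (S : Subgroup D).Normal := ⟨fun u hu g => by
      rwa [show g * u = u * g from Subtype.ext (hcomm D hD g g.2 u u.2), mul_inv_cancel_right]⟩
    have hS : Nat.card (S : Subgroup D) = a := by rw [S.card_eq_multiplicity, hKmem D hD, ha]
    rw [← hS]
    refine card_pow_eq_one_of_coprime _ (by rw [hS]; exact dvd_mul_right _ _) ?_
    rw [hS, ha, hna, ← pow_add]
    exact Nat.Coprime.pow_right _ ((Nat.Prime.coprime_iff_not_dvd hp).2 S.not_dvd_index).symm
  have hA2 : ∀ D ∈ comps, Nat.card {z : D // z ^ (b * nb) = 1} = b := by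
    intro D hD
    obtain ⟨S⟩ := (inferInstance : Nonempty (Sylow p D))
    have : (S : Subgroup D).Normal := ⟨fun u hu g => by
      rwa [show g * u = u * g from Subtype.ext (hcomm D hD g g.2 u u.2), mul_inv_cancel_right]⟩
    obtain ⟨H, hH⟩ := exists_right_complement'_of_coprime (N := (S : Subgroup D)) S.card_coprime_index
    have : H.Normal := ⟨fun u hu g => by
      rwa [show g * u = u * g from Subtype.ext (hcomm D hD g g.2 u u.2), mul_inv_cancel_right]⟩
    have hS : Nat.card (S : Subgroup D) = a := by rw [S.card_eq_multiplicity, hKmem D hD, ha]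
    have hHi : H.index = a := hH.index_eq_card.trans hS
    have hHc : Nat.card H = b := by
      have h1 := H.card_mul_index
      rw [hHi, hKmem D hD, ← hab, mul_comm a b] at h1
      exact Nat.eq_of_mul_eq_mul_right (pow_pos hp.pos _) h1
    rw [← hHc]
    refine card_pow_eq_one_of_coprime _ (by rw [hHc]; exact dvd_mul_right _ _) ?_
    rw [hHi, ha, hHc]
    exact Nat.Coprime.pow_left _ (((Nat.Prime.coprime_iff_not_dvd hp).2 fun hd =>
      (hp.dvd_mul.1 hd).elim hbp hnbp))
  have hA3 : ∀ D ∈ comps, Nat.card {z : D // z ^ (a * na * (b * nb)) = 1} = K := by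
    intro D hD
    rw [← hKmem D hD]
    refine Nat.card_congr (Equiv.subtypeUnivEquiv fun z => ?_)
    refine orderOf_dvd_iff_pow_eq_one.1 ((orderOf_dvd_natCard z).trans ?_)
    rw [hKmem D hD, ← hcard', hcard]
    exact dvd_mul_right _ _
  have e1 := CfsgLib.StructC.dvd_card_pow_eq_one (G := G ⧸ Z) (a * na)
    (hcard' ▸ dvd_mul_right _ _)
  rw [hcount _ _ hA1] at e1
  have e2 := CfsgLib.StructC.dvd_card_pow_eq_one (G := G ⧸ Z) (b * nb)
    (hcard' ▸ dvd_mul_left _ _)
  rw [hcount _ _ hA2] at e2
  have e3 : Nat.card {z : G ⧸ Z // z ^ (a * na * (b * nb)) = 1} = a * b * (na * nb) := by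
    rw [hab, hnab, ← hcard]
    refine Nat.card_congr (Equiv.subtypeUnivEquiv fun z => ?_)
    rw [← hcard']
    exact pow_card_eq_one'
  rw [hcount _ _ hA3, ← hab] at e3
  -- both parts are nontrivial
  have hpart : ∀ {r j : ℕ} {w : G}, r.Prime → w ∉ center G → w ^ r ^ j = 1 → r ∣ K := by
    intro r j w hr hw hwj
    have h1 : f w ∈ (centralizer ({w} : Set G)).map f :=
      mem_map_of_mem f (mem_centralizer_singleton_iff.2 rfl)
    have h2 := Subgroup.orderOf_dvd_natCard _ h1
    rw [hK' w hw] at h2
    obtain ⟨i, -, hi⟩ := (Nat.dvd_prime_pow hr).1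
      ((orderOf_map_dvd f w).trans (orderOf_dvd_of_pow_eq_one hwj))
    rw [hi] at h2
    have hi0 : i ≠ 0 := fun e => hw ((QuotientGroup.eq_one_iff w).1
      (orderOf_eq_one_iff.1 (by rw [e, pow_zero] at hi; exact hi)))
    exact (dvd_pow_self r hi0).trans h2
  have ha2 : 2 ≤ a := by
    have h1 : K.factorization p ≠ 0 :=
      (hp.factorization_pos_of_dvd hKpos.ne' (hpart hp hx hxk)).ne'
    exact hp.two_le.trans (Nat.le_self_pow h1 p)
  have hb2 : 2 ≤ b := by
    have hqb : q ∣ b := by
      have h1 := hpart hq hy hyl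
      rw [← hab] at h1
      exact (hq.dvd_mul.1 h1).resolve_left fun hd =>
        hpq (((Nat.prime_dvd_prime_iff_eq hq hp).1 (hq.dvd_of_dvd_pow hd)).symm)
    have hbpos : 0 < b := Nat.pos_of_ne_zero fun e => by
      rw [e, mul_zero] at hab; omega
    exact hq.two_le.trans (Nat.le_of_dvd hbpos hqb)
  exact false_of_arith ha2 hb2 (hnab.symm ▸ hn) e1 e2 e3

/-- Let G be a finite group whose conjugacy classes have exactly two sizes, 1 and n > 1. Then n is a power of a prime p and G is the direct product of a p-group and an abelian group of order prime to p: its Sylow p-subgroup P is normal with an abelian normal complement centralizing it; moreover P has an abelian normal subgroup A with P/A of exponent dividing p. -/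
theorem result {G : Type*} [Group G] [Finite G] (n : ℕ) (hn : 1 < n)
    (h : ∀ x : G, (Subgroup.centralizer ({x} : Set G)).index = 1 ∨ (Subgroup.centralizer ({x} : Set G)).index = n) (hex : ∃ x : G, (Subgroup.centralizer ({x} : Set G)).index = n) :
    ∃ (p : ℕ) (_ : Fact p.Prime) (a : ℕ), n = p ^ a ∧ ∀ P : Sylow p G, (P : Subgroup G).Normal ∧
      (∃ N : Subgroup G, N.Normal ∧ N.IsComplement' (P : Subgroup G) ∧ IsMulCommutative N ∧
        ∀ x ∈ N, ∀ y ∈ (P : Subgroup G), x * y = y * x) ∧
      ∃ A : Subgroup (P : Subgroup G), A.Normal ∧ IsMulCommutative A ∧ ∀ y : (P : Subgroup G), y ^ p ∈ A := by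
  classical
  obtain ⟨x₀, hx₀⟩ := hex
  have hx₀Z : x₀ ∉ center G := fun hz => by
    rw [CfsgLib.StructB.Baer.index_eq_one_of_mem_center hz] at hx₀; omega
  obtain ⟨p, k, x, hp, hxk, -, hx⟩ := exists_primary hx₀Z
  haveI : Fact p.Prime := ⟨hp⟩
  have hother : ∀ (q l : ℕ) (y : G), q.Prime → q ≠ p → y ^ q ^ l = 1 → y ∈ center G := by
    intro q l y hq hqp hyl
    by_contra hy
    exact hqp (prime_unique hn h hp hq hx hxk hy hyl).symm
  have hsup : ∀ P : Sylow p G, (P : Subgroup G) ⊔ center G = ⊤ := by
    intro P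
    refine CfsgLib.Solvable.eq_top_of_forall_prime fun q hq hd => ?_
    have := Fact.mk hq
    by_cases hqp : q = p
    · subst hqp
      exact P.not_dvd_index (hd.trans (index_dvd_of_le le_sup_left))
    · obtain ⟨S⟩ := (inferInstance : Nonempty (Sylow q G))
      refine S.not_dvd_index (hd.trans (index_dvd_of_le fun y hy => mem_sup_right ?_))
      obtain ⟨l, hl⟩ := S.2 ⟨y, hy⟩
      exact hother q l y hq hqp (congrArg Subtype.val hl)
  obtain ⟨P₀⟩ := (inferInstance : Nonempty (Sylow p G))
  have hZidx : ∃ e, (center G).index = p ^ e := by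
    obtain ⟨e, he⟩ := P₀.2.exists_card_eq
    have h1 : (center G).index ∣ p ^ e := by
      rw [← he, ← relIndex_top_right, ← hsup P₀, sup_comm, relIndex_sup_left]
      rw [← inf_relIndex_right]
      exact index_dvd_card _
    obtain ⟨e', -, he'⟩ := (Nat.dvd_prime_pow hp).1 h1
    exact ⟨e', he'⟩
  obtain ⟨e, he⟩ := hZidx
  obtain ⟨a, -, ha⟩ : ∃ a ≤ e, n = p ^ a := by
    rw [← Nat.dvd_prime_pow hp, ← he, ← index_eq h hx]
    exact index_dvd_of_le (center_le_centralizer_singleton x)
  refine ⟨p, ⟨hp⟩, a, ha, fun P => ?_⟩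
  have hPn : (P : Subgroup G).Normal := by
    refine normalizer_eq_top_iff.1 (eq_top_iff.2 ?_)
    rw [← hsup P]
    exact sup_le le_normalizer (center_le_normalizer _)
  refine ⟨hPn, ?_, ?_⟩
  · obtain ⟨N, hN⟩ := exists_right_complement'_of_coprime (N := (P : Subgroup G)) P.card_coprime_index
    have hNc : Nat.card N = (P : Subgroup G).index := hN.symm.index_eq_card.symm
    have hNZ : N ≤ center G := by
      intro y hy
      rw [← QuotientGroup.eq_one_iff, ← orderOf_eq_one_iff]
      have h1 : orderOf (y : G ⧸ center G) ∣ p ^ e := by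
        rw [← he, index_eq_card]
        exact orderOf_dvd_natCard _
      have h2 : orderOf (y : G ⧸ center G) ∣ (P : Subgroup G).index :=
        (orderOf_map_dvd (QuotientGroup.mk' _) y).trans (hNc ▸ N.orderOf_dvd_natCard hy)
      exact Nat.eq_one_of_dvd_coprimes
        (Nat.Coprime.pow_left _ (hp.coprime_iff_not_dvd.2 P.not_dvd_index)) h1 h2
    refine ⟨N, ⟨fun u hu g => by rwa [mem_center_iff.1 (hNZ hu) g, mul_inv_cancel_right]⟩,
      hN.symm, ⟨⟨fun u v => Subtype.ext (mem_center_iff.1 (hNZ v.2) (u : G))⟩⟩,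
      fun u hu v _ => (mem_center_iff.1 (hNZ hu) v).symm⟩
  · -- the elements whose `p`-th power is not central share their centraliser
    haveI : Nontrivial (G ⧸ center G) := by
      refine ⟨(x : G ⧸ center G), 1, fun e => hx ((QuotientGroup.eq_one_iff x).1 e)⟩
    have hQp : IsPGroup p (G ⧸ center G) := IsPGroup.of_card (n := e) (by rw [← index_eq_card, he])
    have := hQp.center_nontrivial
    obtain ⟨c, hc⟩ := exists_prime_orderOf_dvd_card' p
      ((hQp.to_subgroup (center (G ⧸ center G))).exists_card_eq.elim fun i hi => by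
        have h1 : 1 < Nat.card (center (G ⧸ center G)) := Finite.one_lt_card
        rw [hi] at h1 ⊢
        exact dvd_pow_self p fun e => by rw [e, pow_zero] at h1; omega)
    obtain ⟨z, hz⟩ := QuotientGroup.mk'_surjective (center G) (c : G ⧸ center G)
    have hzZ : z ∉ center G := fun hh => by
      have h1 : c = 1 := Subtype.ext (hz.symm.trans ((QuotientGroup.eq_one_iff z).2 hh))
      rw [h1, orderOf_one] at hc
      exact hp.one_lt.ne hc
    have hzc : ∀ w : G, (QuotientGroup.mk' (center G) z) * QuotientGroup.mk' (center G) w =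
        QuotientGroup.mk' (center G) w * QuotientGroup.mk' (center G) z := fun w => by
      rw [hz]; exact (mem_center_iff.1 c.2 _).symm
    have hzp : (QuotientGroup.mk' (center G) z) ^ p = 1 := by
      rw [hz, ← SubmonoidClass.coe_pow, ← hc, pow_orderOf_eq_one, OneMemClass.coe_one]
    have hsame : ∀ y : G, y ^ p ∉ center G →
        centralizer ({y} : Set G) = centralizer ({z} : Set G) := by
      intro y hy
      have hyZ : y ∉ center G := fun hh => hy (pow_mem hh p)
      have h1 := eq_of_le h hyZ hy (centralizer_le_of_mem_zpowers (pow_mem (mem_zpowers y) p))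
      obtain ⟨w, hw, hwe⟩ : ∃ w ∈ center G, (y * z) ^ p = y ^ p * w := by
        refine ⟨(y ^ p)⁻¹ * (y * z) ^ p, ?_, (mul_inv_cancel_left _ _).symm⟩
        rw [← QuotientGroup.eq_one_iff]
        show QuotientGroup.mk' (center G) _ = 1
        rw [map_mul, map_inv, map_pow, map_pow, map_mul,
          Commute.mul_pow (show Commute (QuotientGroup.mk' (center G) y) _ from (hzc y).symm), hzp,
          mul_one, inv_mul_cancel]
      have hyz' : (y * z) ^ p ∉ center G := fun hh => by
        rw [hwe] at hh
        exact hy ((Subgroup.mul_mem_cancel_right _ hw).1 hh)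
      have hyzZ : y * z ∉ center G := fun hh => hyz' (pow_mem hh p)
      have h2 := eq_of_le h hyzZ hyz' (centralizer_le_of_mem_zpowers (pow_mem (mem_zpowers _) p))
      have h3 : centralizer ({(y * z) ^ p} : Set G) = centralizer ({y ^ p} : Set G) := by
        ext u
        rw [hwe, mem_centralizer_singleton_iff, mem_centralizer_singleton_iff,
          ← mul_assoc, mul_assoc (y ^ p) w u, ← mem_center_iff.1 hw u, ← mul_assoc, mul_left_inj]
      refine eq_of_le h hyZ hzZ fun u hu => ?_
      have hu1 := mem_centralizer_singleton_iff.1 hu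
      have hu2 : u * (y * z) = y * z * u :=
        mem_centralizer_singleton_iff.1 (by rw [h2, h3, ← h1]; exact hu)
      rw [mem_centralizer_singleton_iff]
      apply mul_left_cancel (a := y)
      rw [← mul_assoc, ← hu1, mul_assoc, hu2, mul_assoc]
    let T : Set (P : Subgroup G) :=
      {y | (y : G) ∈ center G ∨ (y : G) ^ p ∉ center G}
    have hTcomm : ∀ u ∈ T, ∀ v ∈ T, u * v = v * u := by
      intro u hu v hv
      apply Subtype.ext
      rcases hu with hu | hu
      · exact (mem_center_iff.1 hu v).symm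
      rcases hv with hv | hv
      · exact mem_center_iff.1 hv u
      exact mem_centralizer_singleton_iff.1
        ((hsame _ hu).trans (hsame _ hv).symm ▸ mem_centralizer_singleton_iff.2 rfl :
          (u : G) ∈ centralizer ({(v : G)} : Set G))
    refine ⟨Subgroup.closure T, ⟨fun u hu g => ?_⟩, ?_, fun y => ?_⟩
    · have h1 : Subgroup.closure T ≤ (Subgroup.closure T).comap (MulAut.conj g).toMonoidHom := by
        refine (closure_le _).2 fun v hv => subset_closure ?_
        show ((g * v * g⁻¹ : (P : Subgroup G)) : G) ∈ center G ∨ _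
        rcases hv with hv | hv
        · left
          simp only [Subgroup.coe_mul, Subgroup.coe_inv]
          exact (inferInstance : (center G).Normal).conj_mem _ hv g
        · right
          intro hh
          apply hv
          have h2 := (inferInstance : (center G).Normal).conj_mem _ hh (g : G)⁻¹
          have h3 : (((MulAut.conj g).toMonoidHom v : (P : Subgroup G)) : G) ^ p =
              (g : G) * (v : G) ^ p * (g : G)⁻¹ := by
            show ((g : G) * v * (g : G)⁻¹) ^ p = _
            exact conj_pow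
          rw [h3] at h2
          simpa [mul_assoc] using h2
      exact h1 hu
    · have h1 : Subgroup.closure T ≤ centralizer (T : Set (P : Subgroup G)) :=
        (closure_le _).2 fun u hu => mem_centralizer_iff.2 fun v hv => hTcomm v hv u hu
      have h2 : Subgroup.closure T ≤ centralizer (Subgroup.closure T : Set (P : Subgroup G)) := by
        rw [le_centralizer_iff]
        exact (closure_le _).2 fun v hv => mem_centralizer_iff.2 fun u hu =>
          (mem_centralizer_iff.1 (h1 hu) v hv).symm
      exact ⟨⟨fun u v => Subtype.ext (mem_centralizer_iff.1 (h2 v.2) u u.2)⟩⟩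
    · by_cases hy : ((y : G)) ^ p ∈ center G
      · exact subset_closure (Or.inl (by rw [SubmonoidClass.coe_pow]; exact hy))
      · exact pow_mem (subset_closure (Or.inr hy) : y ∈ Subgroup.closure T) p

end Cfsg.Agent.S4134
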