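import Cfsg.Statements.S2072
import Cfsg.Agent.Lib.Golay.HSOut
import Cfsg.Agent.Lib.Comp.PComponentEquiv

set_option autoImplicit false
open Cfsg

namespace Cfsg.Agent.S2072

open CfsgLib.Golay in
theorem leechV_neg : Spor.leechV = -fiveV :=
  Subtype.ext (funext (by decide +kernel : ∀ i, Spor.vecV i = -five i))

open CfsgLib.Golay in
theorem leechU'_neg : Spor.leechU' = -xhs :=
  Subtype.ext (funext (by decide +kernel : ∀ i, Spor.vecU' i = -(xhs : GolayPt → ℤ) i))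

open CfsgLib.Golay in
theorem mem_sporHS_iff {g : Equiv.Perm leechLattice} :
    g ∈ Spor.HS ↔ ∃ h : g ∈ Co0, (⟨g, h⟩ : Co0) ∈ hsGroup := by
  constructor
  · rintro ⟨⟨h0, hV⟩, hU⟩
    refine ⟨h0, mem_hsGroup.2 ⟨?_, ?_⟩⟩
    · have h' : (⟨g, h0⟩ : Co0) • Spor.leechV = Spor.leechV := hV
      rwa [leechV_neg, co0_neg, neg_inj] at h'
    · have h' : (⟨g, h0⟩ : Co0) • Spor.leechU' = Spor.leechU' := hU
      rwa [leechU'_neg, co0_neg, neg_inj] at h'
  · rintro ⟨h0, h⟩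
    obtain ⟨h1, h2⟩ := mem_hsGroup.1 h
    refine ⟨⟨h0, ?_⟩, ?_⟩
    · show (⟨g, h0⟩ : Co0) • Spor.leechV = Spor.leechV
      rw [leechV_neg, co0_neg, h1]
    · show (⟨g, h0⟩ : Co0) • Spor.leechU' = Spor.leechU'
      rw [leechU'_neg, co0_neg, h2]

/-- The identification with the group of the standard pair. -/
noncomputable def hsEquiv : CfsgLib.Golay.hsGroup ≃* Spor.HS where
  toFun g := ⟨g.1.1, mem_sporHS_iff.2 ⟨g.1.2, g.2⟩⟩
  invFun g := ⟨⟨g.1, (mem_sporHS_iff.1 g.2).choose⟩, (mem_sporHS_iff.1 g.2).choose_spec⟩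
  left_inv _ := rfl
  right_inv _ := rfl
  map_mul' _ _ := rfl

/-- The outer automorphism group of the Higman–Sims group (as a two-vector stabiliser in the automorphism group of the rank-24 lattice) has order 2. -/
theorem result : Nat.card (Cfsg.Out ↥Cfsg.Spor.HS) = 2 := by
  haveI : Finite CfsgLib.Golay.hsGroup :=
    Nat.finite_of_card_ne_zero (by rw [CfsgLib.Golay.card_hsGroup]; norm_num)
  haveI : Finite Spor.HS := Finite.of_equiv _ hsEquiv.toEquiv
  obtain ⟨e⟩ := CfsgLib.Comp.out_congr hsEquiv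
  rw [← Nat.card_congr e.toEquiv]
  exact CfsgLib.Golay.card_out_hsGroup

end Cfsg.Agent.S2072
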