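import Cfsg.Statements.S0713
import Mathlib.GroupTheory.GroupAction.Jordan
import Mathlib.GroupTheory.Sylow
import Mathlib.Tactic.Group
import Mathlib.Data.Nat.Prime.Factorial

set_option autoImplicit false
open Cfsg

namespace Cfsg.Agent.S0713

/-- The elements of `G` moving only points of `g.support` have order not divisible by `p ^ 2`. -/
theorem exists_normalizer_of_perm {α : Type*} [Fintype α] [DecidableEq α] (G : Subgroup (Equiv.Perm α))
    {p : ℕ} (hp : p.Prime) {g : Equiv.Perm α} (hgc : g.IsCycle) (hgp : g.support.card = p) (hg : g ∈ G)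
    {h : Equiv.Perm α} (hh : h ∈ G) (hhS : ∀ x, h x ∈ g.support ↔ x ∈ g.support) :
    ∃ h' ∈ G, (∀ x ∉ g.support, h' x = h x) ∧ h' * g * h'⁻¹ ∈ Subgroup.zpowers g := by
  classical
  haveI : Fact p.Prime := ⟨hp⟩
  let K : Subgroup (Equiv.Perm α) := G ⊓ fixingSubgroup (Equiv.Perm α) ((g.support : Set α)ᶜ)
  have hmem : ∀ k, k ∈ K ↔ k ∈ G ∧ ∀ x ∉ g.support, k x = x := fun k => by
    simp only [K, Subgroup.mem_inf, mem_fixingSubgroup_iff, Set.mem_compl_iff, Finset.mem_coe, Equiv.Perm.smul_def]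
  have hgK : g ∈ K := (hmem g).mpr ⟨hg, fun x hx => Equiv.Perm.notMem_support.mp hx⟩
  have hord : orderOf g = p := hgc.orderOf.trans hgp
  have hdvd : Nat.card K ∣ p.factorial := by
    let r : K →* Equiv.Perm {x // x ∈ g.support} :=
      { toFun := fun k => (k : Equiv.Perm α).subtypePerm (fun x => by
          obtain ⟨-, hk⟩ := (hmem k).mp k.2
          constructor
          · intro hx
            by_contra hn
            rw [hk x hn] at hx
            exact hn hx
          · intro hx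
            by_contra hn
            have e := (k : Equiv.Perm α).injective (hk _ hn)
            rw [e] at hn
            exact hn hx)
        map_one' := rfl
        map_mul' := fun a b => rfl }
    have hr : Function.Injective r := by
      intro a b hab
      refine Subtype.ext (Equiv.ext fun x => ?_)
      by_cases hx : x ∈ g.support
      · exact congrArg Subtype.val (Equiv.congr_fun hab ⟨x, hx⟩)
      · rw [((hmem a).mp a.2).2 x hx, ((hmem b).mp b.2).2 x hx]
    have h1 := Subgroup.card_dvd_of_injective r hr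
    rwa [Nat.card_perm, Nat.card_eq_finsetCard, hgp] at h1
  have hfac : (Nat.card K).factorization p = 1 := by
    apply le_antisymm
    · by_contra hgt
      have h2 : p * p ∣ p.factorial := (((pow_two p).symm ▸ (pow_dvd_pow p (show 2 ≤ (Nat.card K).factorization p by omega))).trans (Nat.ordProj_dvd _ p)).trans hdvd
      rw [← Nat.mul_factorial_pred hp.ne_zero] at h2
      exact absurd ((hp.dvd_factorial).mp (Nat.dvd_of_mul_dvd_mul_left hp.pos h2)) (by have := hp.pos; omega)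
    · have h1 : p ∣ Nat.card K := by
        have e : orderOf (⟨g, hgK⟩ : K) = p := (Subgroup.orderOf_mk g hgK).trans hord
        rw [← e]; exact orderOf_dvd_natCard _
      exact hp.factorization_pos_of_dvd Nat.card_pos.ne' h1
  have hg' : h * g * h⁻¹ ∈ K := (hmem _).mpr ⟨G.mul_mem (G.mul_mem hh hg) (G.inv_mem hh), fun x hx => by
    have h1 : h⁻¹ x ∉ g.support := fun hn => hx (by
      have := (hhS (h⁻¹ x)).mpr hn
      rwa [Equiv.Perm.inv_def, Equiv.apply_symm_apply] at this)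
    rw [Equiv.Perm.mul_apply, Equiv.Perm.mul_apply, Equiv.Perm.notMem_support.mp h1, Equiv.Perm.inv_def, Equiv.apply_symm_apply]⟩
  have hsyl : ∀ z : K, orderOf (z : Equiv.Perm α) = p →
      Nat.card (Subgroup.zpowers z) = p ^ (Nat.card K).factorization p := fun z hz => by
    rw [hfac, pow_one, Nat.card_zpowers, ← Subgroup.orderOf_coe, hz]
  let P : Sylow p K := Sylow.ofCard (Subgroup.zpowers ⟨g, hgK⟩) (hsyl _ hord)
  let Q : Sylow p K := Sylow.ofCard (Subgroup.zpowers ⟨h * g * h⁻¹, hg'⟩)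
    (hsyl _ (by rw [Subtype.coe_mk, ← MulAut.conj_apply, MulEquiv.orderOf_eq, hord]))
  obtain ⟨k, hk⟩ := MulAction.exists_smul_eq K Q P
  refine ⟨(k : Equiv.Perm α) * h, G.mul_mem ((hmem _).mp k.2).1 hh, fun x hx => ?_, ?_⟩
  · rw [Equiv.Perm.mul_apply]
    exact ((hmem _).mp k.2).2 _ (fun hn => hx ((hhS x).mp hn))
  · have h1 : k * ⟨h * g * h⁻¹, hg'⟩ * k⁻¹ ∈ (P : Subgroup K) := by
      rw [← hk]
      exact Subgroup.smul_mem_pointwise_smul _ (MulAut.conj k) _ (Subgroup.mem_zpowers _)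
    obtain ⟨i, hi⟩ := h1
    refine ⟨i, ?_⟩
    have h2 := congrArg (fun z : K => (z : Equiv.Perm α)) hi
    simp only [Subgroup.coe_mul, Subgroup.coe_inv, SubgroupClass.coe_zpow] at h2
    rw [mul_inv_rev]
    simpa only [mul_assoc] using h2

/-- Jordan's Theorem: a primitive permutation group of degree `n ≥ 5` containing a `p`-cycle for a prime `p ≤ n - 3` contains the alternating group. -/
theorem result {α : Type*} [Fintype α] [DecidableEq α] (G : Subgroup (Equiv.Perm α)) (hG : MulAction.IsPreprimitive G α) {p : ℕ} (hp : p.Prime) (hn : 5 ≤ Fintype.card α) (hpn : p + 3 ≤ Fintype.card α) {g : Equiv.Perm α} (hgc : g.IsCycle) (hgp : g.support.card = p) (hg : g ∈ G) : alternatingGroup α ≤ G := by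
  classical
  by_cases hp3 : p = 3
  · exact Equiv.Perm.alternatingGroup_le_of_isPreprimitive_of_isThreeCycle_mem hG
      (card_support_eq_three_iff.mp (hgp.trans hp3)) hg
  set S := g.support with hS
  have hScard : (Sᶜ : Finset α).card = Fintype.card α - p := by rw [Finset.card_compl, hgp]
  obtain ⟨m, hm⟩ : ∃ m, Fintype.card α - p = m + 1 := ⟨Fintype.card α - p - 1, by omega⟩
  have hmp : MulAction.IsMultiplyPretransitive G α (m + 1) := by
    have h1 : ((S : Set α)ᶜ).ncard = m + 1 := by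
      rw [← Finset.coe_compl, Set.ncard_coe_finset, hScard, hm]
    haveI := Equiv.Perm.isPretransitive_of_isCycle_mem hgc hg
    have h2 : MulAction.IsPreprimitive (fixingSubgroup G ((S : Set α)ᶜ)) (SubMulAction.ofFixingSubgroup G ((S : Set α)ᶜ)) := by
      apply MulAction.IsPreprimitive.of_prime_card
      convert! hp
      rw [Nat.card_eq_fintype_card, Fintype.card_subtype, ← hgp]
      apply congr_arg
      ext x
      simp [hS, SubMulAction.mem_ofFixingSubgroup_iff]
    have hp2 := hp.two_le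
    haveI := hG.isMultiplyPreprimitive h1 (by rw [Nat.card_eq_fintype_card]; omega) h2
    haveI : MulAction.IsMultiplyPretransitive G α (m + 2) := MulAction.IsMultiplyPreprimitive.isMultiplyPretransitive ..
    exact MulAction.isMultiplyPretransitive_of_le (n := m + 2) (Nat.le_succ _) (by rw [Nat.card_eq_fintype_card]; omega)
  have hreal : ∀ σ : Equiv.Perm α, (∀ x, σ x ∈ S ↔ x ∈ S) →
      ∃ h ∈ G, (∀ x ∉ S, h x = σ x) ∧ h * g * h⁻¹ ∈ Subgroup.zpowers g := by
    intro σ hσ
    let e : Fin (m + 1) ↪ α := ((Sᶜ.equivFin.trans (finCongr (hScard.trans hm))).symm.toEmbedding).trans (Function.Embedding.subtype _)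
    obtain ⟨k, hk⟩ := MulAction.isMultiplyPretransitive_iff.mp hmp (e) (e.trans σ.toEmbedding)
    have hkσ : ∀ x ∉ S, (k : Equiv.Perm α) x = σ x := by
      intro x hx
      have h1 := DFunLike.congr_fun hk ((Sᶜ.equivFin.trans (finCongr (hScard.trans hm))) ⟨x, Finset.mem_compl.mpr hx⟩)
      simp [e] at h1
      exact h1
    have hkS : ∀ x, (k : Equiv.Perm α) x ∈ S ↔ x ∈ S := by
      have h1 : Sᶜ.map (k : Equiv.Perm α).toEmbedding = Sᶜ := by
        refine Finset.eq_of_subset_of_card_le (fun y hy => ?_) (by rw [Finset.card_map])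
        obtain ⟨x, hx, rfl⟩ := Finset.mem_map.mp hy
        show (k : Equiv.Perm α) x ∈ Sᶜ
        rw [hkσ x (Finset.mem_compl.mp hx), Finset.mem_compl, hσ]
        exact Finset.mem_compl.mp hx
      intro x
      have h2 : (k : Equiv.Perm α) x ∈ Sᶜ ↔ x ∈ Sᶜ := by
        conv_lhs => rw [← h1]
        simp
      simpa [not_iff_not] using h2
    obtain ⟨h, hh, hhx, hhn⟩ := exists_normalizer_of_perm G hp hgc hgp hg k.2 hkS
    exact ⟨h, hh, fun x hx => (hhx x hx).trans (hkσ x hx), hhn⟩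
  obtain ⟨x, hx, y, hy, z, hz, hxy, hxz, hyz⟩ := Finset.two_lt_card.mp (show 2 < (Sᶜ : Finset α).card by omega)
  rw [Finset.mem_compl] at hx hy hz
  have hsw : ∀ u v : α, u ∉ S → v ∉ S → ∀ w, Equiv.swap u v w ∈ S ↔ w ∈ S := fun u v hu hv w => by
    rcases em (w = u) with rfl | h1
    · simp [hu, hv]
    rcases em (w = v) with rfl | h2
    · simp [hu, hv]
    rw [Equiv.swap_apply_of_ne_of_ne h1 h2]
  obtain ⟨h₁, hh₁, hx₁, hn₁⟩ := hreal _ (hsw x y hx hy)
  obtain ⟨h₂, hh₂, hx₂, hn₂⟩ := hreal _ (hsw y z hy hz)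
  obtain ⟨r, hr⟩ := hn₁
  obtain ⟨s, hs⟩ := hn₂
  set c := (h₂ * h₁)⁻¹ * (h₁ * h₂) with hc
  have hcG : c ∈ G := G.mul_mem (G.inv_mem (G.mul_mem hh₂ hh₁)) (G.mul_mem hh₁ hh₂)
  have hcg : c * g = g * c := by
    have e1 : h₁ * h₂ * g * (h₁ * h₂)⁻¹ = g ^ (r * s) := by
      calc h₁ * h₂ * g * (h₁ * h₂)⁻¹ = h₁ * (h₂ * g * h₂⁻¹) * h₁⁻¹ := by group
        _ = (h₁ * g * h₁⁻¹) ^ s := by rw [← hs, conj_zpow]
        _ = g ^ (r * s) := by rw [← hr, ← zpow_mul]
    have e2 : h₂ * h₁ * g * (h₂ * h₁)⁻¹ = g ^ (r * s) := by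
      calc h₂ * h₁ * g * (h₂ * h₁)⁻¹ = h₂ * (h₁ * g * h₁⁻¹) * h₂⁻¹ := by group
        _ = (h₂ * g * h₂⁻¹) ^ r := by rw [← hr, conj_zpow]
        _ = g ^ (r * s) := by rw [← hs, ← zpow_mul, mul_comm]
    have e3 : c * g * c⁻¹ = g := by
      calc c * g * c⁻¹ = (h₂ * h₁)⁻¹ * (h₁ * h₂ * g * (h₁ * h₂)⁻¹) * (h₂ * h₁) := by rw [hc]; group
        _ = (h₂ * h₁)⁻¹ * (h₂ * h₁ * g * (h₂ * h₁)⁻¹) * (h₂ * h₁) := by rw [e1, e2]
        _ = g := by group
    calc c * g = c * g * c⁻¹ * c := by group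
      _ = g * c := by rw [e3]
  set τ : Equiv.Perm α := (Equiv.swap y z * Equiv.swap x y)⁻¹ * (Equiv.swap x y * Equiv.swap y z) with hτ
  have hout : ∀ w ∉ S, c w = τ w := by
    intro w hw
    have s1 := hsw x y hx hy
    have s2 := hsw y z hy hz
    have i1 : ∀ w ∉ S, h₁⁻¹ w = Equiv.swap x y w := fun w hw => by
      rw [Equiv.Perm.inv_eq_iff_eq, hx₁ _ (fun h => hw ((s1 w).mp h)), Equiv.swap_apply_self]
    have i2 : ∀ w ∉ S, h₂⁻¹ w = Equiv.swap y z w := fun w hw => by
      rw [Equiv.Perm.inv_eq_iff_eq, hx₂ _ (fun h => hw ((s2 w).mp h)), Equiv.swap_apply_self]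
    rw [hc, hτ]
    simp only [mul_inv_rev, Equiv.Perm.mul_apply, Equiv.swap_inv]
    have w1 : Equiv.swap y z w ∉ S := fun h => hw ((s2 w).mp h)
    have w2 : Equiv.swap x y (Equiv.swap y z w) ∉ S := fun h => w1 ((s1 _).mp h)
    have w3 : Equiv.swap y z (Equiv.swap x y (Equiv.swap y z w)) ∉ S := fun h => w2 ((s2 _).mp h)
    rw [hx₂ w hw, hx₁ _ w1, i2 _ w2, i1 _ w3]
  have hin : ∀ w ∈ S, (c ^ p) w = w := by
    intro w hw
    have hw' := Equiv.Perm.mem_support.mp hw
    have hcw : g (c w) ≠ c w := fun h => hw' (c.injective (by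
      rw [← Equiv.Perm.mul_apply, hcg, Equiv.Perm.mul_apply, h]))
    obtain ⟨i, hi⟩ := hgc.sameCycle hw' hcw
    have hcomm : Commute c (g ^ i) := Commute.zpow_right hcg i
    have hpow : ∀ j : ℕ, (c ^ j) w = ((g ^ i) ^ j) w := by
      intro j
      induction j with
      | zero => rfl
      | succ j IH =>
        have e : c * (g ^ i) ^ j = (g ^ i) ^ j * c := (hcomm.pow_right j).eq
        calc (c ^ (j + 1)) w = c ((c ^ j) w) := by rw [pow_succ']; rfl
          _ = c (((g ^ i) ^ j) w) := by rw [IH]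
          _ = ((g ^ i) ^ j) (c w) := by rw [← Equiv.Perm.mul_apply, e]; rfl
          _ = ((g ^ i) ^ j) ((g ^ i) w) := by rw [hi]
          _ = ((g ^ i) ^ (j + 1)) w := by rw [pow_succ]; rfl
    rw [hpow p, ← zpow_natCast, ← zpow_mul, mul_comm, zpow_mul, zpow_natCast,
      show g ^ p = 1 by rw [← hgp, ← hgc.orderOf]; exact pow_orderOf_eq_one g, one_zpow]
    rfl
  have houtp : ∀ j : ℕ, ∀ w ∉ S, (c ^ j) w = (τ ^ j) w ∧ (τ ^ j) w ∉ S := by
    have hτS : ∀ w ∉ S, τ w ∉ S := fun w hw => by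
      rw [hτ]
      simp only [mul_inv_rev, Equiv.Perm.mul_apply, Equiv.swap_inv, hsw x y hx hy, hsw y z hy hz]
      exact hw
    intro j
    induction j with
    | zero => exact fun w hw => ⟨rfl, hw⟩
    | succ j IH =>
      intro w hw
      rw [pow_succ', pow_succ', Equiv.Perm.mul_apply, Equiv.Perm.mul_apply, (IH w hw).1]
      exact ⟨hout _ (IH w hw).2, hτS _ (IH w hw).2⟩
  have hτ3 : τ.IsThreeCycle := by
    have h3 : (Equiv.swap y x * Equiv.swap y z).IsThreeCycle := Equiv.Perm.isThreeCycle_swap_mul_swap_same (Ne.symm hxy) hyz hxz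
    rw [hτ, mul_inv_rev, Equiv.swap_inv, Equiv.swap_inv, Equiv.swap_comm x y]
    simpa only [mul_assoc] using h3.isThreeCycle_sq
  have hτp : (τ ^ p).IsThreeCycle := by
    rcases (show p % 3 = 1 ∨ p % 3 = 2 by
      have : ¬ 3 ∣ p := fun h => hp3 ((Nat.prime_dvd_prime_iff_eq Nat.prime_three hp).mp h).symm
      omega) with h | h
    · rw [← pow_mod_orderOf, hτ3.orderOf, h, pow_one]; exact hτ3
    · rw [← pow_mod_orderOf, hτ3.orderOf, h, pow_two]; exact hτ3.isThreeCycle_sq
  have heq : c ^ p = τ ^ p := by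
    ext w
    by_cases hw : w ∈ S
    · rw [hin w hw]
      symm
      apply Equiv.Perm.pow_apply_eq_self_of_apply_eq_self
      have ne1 : w ≠ x := fun h => hx (h ▸ hw)
      have ne2 : w ≠ y := fun h => hy (h ▸ hw)
      have ne3 : w ≠ z := fun h => hz (h ▸ hw)
      simp [hτ, Equiv.swap_apply_of_ne_of_ne, ne1, ne2, ne3]
    · exact (houtp p w hw).1
  exact Equiv.Perm.alternatingGroup_le_of_isPreprimitive_of_isThreeCycle_mem hG hτp (heq ▸ G.pow_mem hcG p)

end Cfsg.Agent.S0713
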