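import Cfsg.Statements.S3261
import Cfsg.Agent.S0848
import Cfsg.Agent.S0495
import Cfsg.Agent.S0497
import Cfsg.Agent.Lib.InvChar.DihedralSylow
import Cfsg.Agent.Lib.InvChar.AltSixCentralizer

set_option autoImplicit false
open Cfsg

namespace Cfsg.Agent.S3261

open CfsgLib.InvChar.DihedralSylow

/-- Let α̃ be an involution of the alternating group A₆ that is a product of two disjoint transpositions (it lies in the centre of a Sylow 2-subgroup of A₆; its centralizer is dihedral of order 8). Let G be a finite group that has no subgroup of index 2 and contains an involution α, central in some Sylow 2-subgroup of G, with C_G(α) ≅ C_{A₆}(α̃). Then G is isomorphic to A₆ or to PSL₂(7). -/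
theorem result {G : Type*} [Group G] [Finite G]
    (hG : ∀ H : Subgroup G, H.index ≠ 2)
    (αt : ↥(alternatingGroup (Fin 6))) (hαt : orderOf αt = 2) (hsupp : (αt : Equiv.Perm (Fin 6)).support.card = 4)
    (α : G) (hα : orderOf α = 2) (S : Sylow 2 G) (hαS : α ∈ (S : Subgroup G)) (hαc : ∀ s ∈ (S : Subgroup G), s * α = α * s)
    (e : ↥(Subgroup.centralizer ({α} : Set G)) ≃* ↥(Subgroup.centralizer ({αt} : Set ↥(alternatingGroup (Fin 6))))) :
    Nonempty (G ≃* ↥(alternatingGroup (Fin 6))) ∨
      (∃ (F : Type) (_ : Field F) (_ : Fintype F), Fintype.card F = 7 ∧ Nonempty (G ≃* Matrix.ProjectiveSpecialLinearGroup (Fin 2) F)) := by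
  haveI : Fact (Nat.Prime 2) := ⟨Nat.prime_two⟩
  obtain ⟨eD⟩ := centralizer_doubleTransposition αt hαt hsupp
  let e' := e.trans eD
  -- the centraliser is a Sylow 2-subgroup
  have hS : (S : Subgroup G) = Subgroup.centralizer ({α} : Set G) :=
    (S.is_maximal' (IsPGroup.of_card (n := 3) (by rw [Nat.card_congr e'.toEquiv, DihedralGroup.nat_card]; norm_num))
      (fun s hs => Subgroup.mem_centralizer_singleton_iff.2 (hαc s hs))).symm
  have hαD : α ∈ Subgroup.centralizer ({α} : Set G) := Subgroup.mem_centralizer_singleton_iff.2 rfl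
  have hperf : commutator G = ⊤ := by
    by_contra hne
    have hmap : ∀ g : G, QuotientGroup.mk' (commutator G) g ^ 2 = 1 → g ∈ commutator G := by
      intro g hg
      by_contra hg'
      have hev : 2 ∣ (commutator G).index := by
        rw [Subgroup.index_eq_card]
        exact (orderOf_eq_prime hg fun h => hg' ((QuotientGroup.eq_one_iff g).1 h)) ▸ orderOf_dvd_natCard _
      exact hG _ (exists_index_two_of_even hev).choose_spec
    have hSle : (S : Subgroup G) ≤ commutator G := fun s hs => by
      refine mem_of_dihedral e' (commutator G) (fun x hx => hmap x ?_) s (hS ▸ hs)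
      rw [← map_pow, sq, hx, map_one]
    have hfr : Subgroup.normalizer ((S : Subgroup G) : Set G) ⊔ commutator G = ⊤ := by
      have h := Sylow.normalizer_sup_eq_top (S.subtype hSle)
      rwa [Sylow.coe_subtype, Subgroup.map_subgroupOf_eq_of_le hSle] at h
    have hN : Subgroup.normalizer ((S : Subgroup G) : Set G) ≤ (S : Subgroup G) := by
      intro n hn
      rw [hS, Subgroup.mem_centralizer_singleton_iff]
      exact fixes_center e' hαD hα (hS ▸ hn)
    exact hne (top_le_iff.1 (hfr ▸ sup_le (hN.trans hSle) le_rfl))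
  have hord := Cfsg.Agent.S0848.result hperf α hα e'
  haveI := CfsgLib.InvChar.DihedralSylow.isSimpleGroup_of_centralizer hperf α hα e' hord
  rcases hord with h | h
  · haveI : Fact (Nat.Prime 7) := ⟨by norm_num⟩
    exact Or.inr ⟨ZMod 7, inferInstance, inferInstance, ZMod.card 7, Cfsg.Agent.S0495.result h (ZMod.card 7)⟩
  · exact Or.inl (Cfsg.Agent.S0497.result h)

end Cfsg.Agent.S3261
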