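import Cfsg.Statements.S3035
import Cfsg.Agent.S3261
import Cfsg.Agent.Lib.Perm.KleinSmall
import Cfsg.Agent.Lib.Perm.SwappedPair
import Cfsg.Agent.Lib.Classical.ExcIsoSeven

set_option autoImplicit false
open Cfsg

namespace Cfsg.Agent.S3035

open Subgroup

theorem card_eq_two_mul {G : Type*} [Group G] [Finite G] {N H : Subgroup G} (hN2 : N.index = 2)
    (hHN : ¬ H ≤ N) : Nat.card H = 2 * Nat.card ↥(H ⊓ N) := by
  have : N.Normal := normal_of_index_eq_two hN2
  have h1 : N.relIndex H = 2 := by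
    rcases (Nat.dvd_prime Nat.prime_two).1 (hN2 ▸ N.relIndex_dvd_index_of_normal H) with h | h
    · exact absurd (relIndex_eq_one.1 h) hHN
    · exact h
  have h2 := (N.subgroupOf H).card_mul_index
  rw [show (N.subgroupOf H).index = 2 from h1] at h2
  rw [← h2, mul_comm]
  congr 1
  rw [← inf_subgroupOf_left, Nat.card_congr (subgroupOfEquivOfLe inf_le_left).toEquiv]

theorem equiv_perm_of_index {G : Type*} [Group G] [Finite G] (H : Subgroup G) (n : ℕ)
    (hn : H.index = n) (hcore : H.normalCore = ⊥) :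
    ∃ f : G →* Equiv.Perm (Fin n), Function.Injective f := by
  obtain ⟨e⟩ : Nonempty (G ⧸ H ≃ Fin n) := ⟨Finite.equivFinOfCardEq (H.index_eq_card ▸ hn)⟩
  refine ⟨e.permCongrHom.toMonoidHom.comp (MulAction.toPermHom G (G ⧸ H)),
    e.permCongrHom.injective.comp ?_⟩
  rw [← MonoidHom.ker_eq_bot_iff, ← normalCore_eq_ker, hcore]

theorem psl_two_seven_to_sl_three {G : Type*} [Group G] {F : Type} [Field F] [Fintype F]
    (hF : Fintype.card F = 7) (e : G ≃* Matrix.ProjectiveSpecialLinearGroup (Fin 2) F) :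
    Nonempty (G ≃* Matrix.SpecialLinearGroup (Fin 3) (ZMod 2)) := by
  haveI : Fact (Nat.Prime 7) := ⟨by norm_num⟩
  obtain ⟨e7⟩ := CfsgLib.Classical.psl_two_seven_equiv
  haveI hs : IsSimpleGroup (Matrix.ProjectiveSpecialLinearGroup (Fin 2) (ZMod 7)) :=
    Matrix.ProjectiveSpecialLinearGroup.rank_two_simple (by simp)
  haveI : Nontrivial (Matrix.ProjectiveSpecialLinearGroup (Fin 3) (ZMod 2)) := e7.symm.toEquiv.nontrivial
  haveI : IsSimpleGroup (Matrix.ProjectiveSpecialLinearGroup (Fin 3) (ZMod 2)) :=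
    IsSimpleGroup.isSimpleGroup_of_surjective e7.toMonoidHom e7.surjective
  have h168 : Nat.card (Matrix.ProjectiveSpecialLinearGroup (Fin 3) (ZMod 2)) = 168 := by
    rw [← Nat.card_congr e7.toEquiv]
    exact CfsgLib.Classical.card_psl_two_eq (ZMod.card 7) 168 (by norm_num)
  obtain ⟨e'⟩ := Cfsg.Agent.S0495.result h168 hF
  have hbot : Subgroup.center (Matrix.SpecialLinearGroup (Fin 3) (ZMod 2)) = ⊥ :=
    Subgroup.eq_bot_of_card_eq _ (by rw [CfsgLib.Classical.card_center_sl, ZMod.card, Fintype.card_fin]; rfl)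
  exact ⟨((e.trans e'.symm).trans (QuotientGroup.quotientMulEquivOfEq hbot)).trans
    QuotientGroup.quotientBot⟩

theorem exists_double_transposition : ∃ αt : ↥(alternatingGroup (Fin 6)),
    orderOf αt = 2 ∧ (αt : Equiv.Perm (Fin 6)).support.card = 4 :=
  ⟨⟨Equiv.swap 0 1 * Equiv.swap 2 3, by rw [Equiv.Perm.mem_alternatingGroup]; decide⟩,
    orderOf_eq_prime (by decide +kernel) (by decide +kernel), by decide⟩

theorem index_two_case {G : Type*} [Group G] [Finite G] (z : G) (hz : orderOf z = 2)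
    (e : ↥(centralizer ({z} : Set G)) ≃* DihedralGroup 4) (T : Sylow 2 G)
    (hT : (T : Subgroup G) = centralizer ({z} : Set G)) (N : Subgroup G) (hN2 : N.index = 2)
    {g : G} (hgc : Commute z (g * z * g⁻¹)) (hgne : g * z * g⁻¹ ≠ z) :
    Nonempty (G ≃* Equiv.Perm (Fin 4)) ∨ Nonempty (G ≃* Equiv.Perm (Fin 5)) := by
  classical
  haveI : Fact (Nat.Prime 2) := ⟨Nat.prime_two⟩
  haveI hNn : N.Normal := normal_of_index_eq_two hN2
  obtain ⟨C, hCe⟩ : ∃ C, C = centralizer ({z} : Set G) := ⟨_, rfl⟩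
  rw [← hCe] at hT
  have hzC : z ∈ C := hCe ▸ mem_centralizer_singleton_iff.2 rfl
  have hC8 : Nat.card C = 8 := by rw [hCe, Nat.card_congr e.toEquiv, DihedralGroup.nat_card]
  have hz1 : z ≠ 1 := fun h => by rw [h, orderOf_one] at hz; norm_num at hz
  have hzz : z * z = 1 := by rw [← sq, ← hz, pow_orderOf_eq_one]
  -- `z` is a square
  have hsq : ∃ r : G, r * r = z := by
    have hc : ∀ y : DihedralGroup 4, e ⟨z, hCe ▸ hzC⟩ * y = y * e ⟨z, hCe ▸ hzC⟩ := fun y => by
      obtain ⟨x, rfl⟩ := e.surjective y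
      rw [← map_mul, ← map_mul]
      exact congrArg e (Subtype.ext (mem_centralizer_singleton_iff.1 x.2).symm)
    rcases CfsgLib.Clifford.DihedralEight.eq_center _ hc with h | h
    · exact absurd (congrArg Subtype.val (e.injective (h.trans (map_one e).symm))) hz1
    · refine ⟨(e.symm (.r 1) : G), ?_⟩
      rw [← coe_mul, ← map_mul, show (DihedralGroup.r 1 : DihedralGroup 4) * .r 1 = .r 2 from by decide,
        ← h, e.symm_apply_apply]
  have hnc : ¬ ∀ x ∈ C, ∀ y ∈ C, x * y = y * x := fun h => by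
    have h2 := h _ (by rw [hCe]; exact (e.symm (.r 1)).2) _ (by rw [hCe]; exact (e.symm (.sr 0)).2)
    have h3 : (DihedralGroup.r 1 : DihedralGroup 4) * .sr 0 = .sr 0 * .r 1 :=
      e.symm.injective (Subtype.ext (by rw [map_mul, map_mul, coe_mul, coe_mul]; exact h2))
    revert h3; decide
  have hzN : z ∈ N := by
    obtain ⟨r, hr⟩ := hsq
    exact hr ▸ mul_self_mem_of_index_two hN2 r
  have hCN : ¬ C ≤ N := fun h => by
    have h2 := index_dvd_of_le h
    rw [hN2, ← hT] at h2
    exact T.not_dvd_index h2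
  obtain ⟨c₀, hc₀C, hc₀N⟩ := SetLike.not_le_iff_exists.1 hCN
  have hP0 : Nat.card ↥(C ⊓ N) = 4 := by
    have := card_eq_two_mul hN2 hCN
    omega
  obtain ⟨u, hu⟩ : ∃ u, u = g * z * g⁻¹ := ⟨_, rfl⟩
  rw [← hu] at hgne hgc
  have huC : u ∈ C := hCe ▸ mem_centralizer_singleton_iff.2 hgc.eq.symm
  have huN : u ∈ N := hu ▸ hNn.conj_mem z hzN g
  have huu : u * u = 1 := by
    rw [hu]
    calc g * z * g⁻¹ * (g * z * g⁻¹) = g * (z * z) * g⁻¹ := by group
      _ = 1 := by rw [hzz]; group
  have hu1 : u ≠ 1 := fun h => hz1 (conj_eq_one_iff.1 (hu ▸ h))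
  have hzu1 : z * u ≠ 1 := fun h => hgne
    ((inv_eq_of_mul_eq_one_right h).symm.trans (inv_eq_of_mul_eq_one_right hzz))
  have hset : ((C ⊓ N : Subgroup G) : Set G) = {1, z, u, z * u} := by
    refine (Set.eq_of_subset_of_ncard_le ?_ ?_ (Set.toFinite _)).symm
    · intro x hx
      simp only [Set.mem_insert_iff, Set.mem_singleton_iff] at hx
      rcases hx with rfl | rfl | rfl | rfl
      exacts [one_mem _, ⟨hzC, hzN⟩, ⟨huC, huN⟩, ⟨mul_mem hzC huC, mul_mem hzN huN⟩]
    · rw [← Nat.card_coe_set_eq, show Nat.card ((C ⊓ N : Subgroup G) : Set G) = 4 from hP0]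
      have h1 : z ≠ z * u := fun h => hu1 (mul_eq_left.1 h.symm)
      have h2 : u ≠ z * u := fun h => hz1 (mul_eq_right.1 h.symm)
      rw [Set.ncard_insert_of_notMem (by simp [Ne.symm hz1, Ne.symm hu1, Ne.symm hzu1]) (Set.toFinite _),
        Set.ncard_insert_of_notMem (by simp [Ne.symm hgne, h1]) (Set.toFinite _), Set.ncard_pair h2]
  have hsqP : ∀ x ∈ C ⊓ N, x * x = 1 := by
    intro x hx
    have hx' : x ∈ ((C ⊓ N : Subgroup G) : Set G) := hx
    rw [hset] at hx'
    simp only [Set.mem_insert_iff, Set.mem_singleton_iff] at hx'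
    rcases hx' with rfl | rfl | rfl | rfl
    · exact one_mul 1
    · exact hzz
    · exact huu
    · rw [hgc.symm.mul_mul_mul_comm, hzz, huu, one_mul]
  -- the Sylow subgroup of `N`
  obtain ⟨m, hm, hGm⟩ : ∃ m, Odd m ∧ Nat.card G = 8 * m := by
    refine ⟨C.index, ?_, by rw [← hC8]; exact C.card_mul_index.symm⟩
    rw [← hT, ← Nat.not_even_iff_odd, even_iff_two_dvd]
    exact T.not_dvd_index
  have hNm : Nat.card N = 4 * m := by
    have := N.card_mul_index
    rw [hN2, hGm] at this
    omega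
  have hm0 : ¬ 2 ∣ m := fun h => Nat.not_even_iff_odd.2 hm (even_iff_two_dvd.2 h)
  obtain ⟨P, hP⟩ : ∃ P : Sylow 2 N, (P : Subgroup N) = (C ⊓ N).subgroupOf N := by
    refine ⟨Sylow.ofCard ((C ⊓ N).subgroupOf N) ?_, rfl⟩
    rw [Nat.card_congr (subgroupOfEquivOfLe inf_le_right).toEquiv, hP0, hNm,
      Nat.factorization_mul (by norm_num) (by rintro rfl; simp at hm0), Finsupp.add_apply,
      show (4 : ℕ) = 2 ^ 2 by norm_num, Nat.factorization_pow_self Nat.prime_two,
      Nat.factorization_eq_zero_of_not_dvd hm0]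
  have hzP : (⟨z, hzN⟩ : N) ∈ (P : Subgroup N) := by rw [hP, mem_subgroupOf]; exact ⟨hzC, hzN⟩
  have hzo : orderOf (⟨z, hzN⟩ : N) = 2 := by rw [← hz, ← Subgroup.orderOf_coe]
  obtain ⟨n, hnN, hnu⟩ : ∃ n ∈ N, n * z * n⁻¹ = u := by
    by_cases hg : g ∈ N
    · exact ⟨g, hg, hu.symm⟩
    · refine ⟨g * c₀, ?_, ?_⟩
      · exact (mul_mem_iff_of_index_two hN2).2 (iff_of_false hg hc₀N)
      · have hc : c₀ * z = z * c₀ := mem_centralizer_singleton_iff.1 (hCe ▸ hc₀C)
        rw [hu]
        calc g * c₀ * z * (g * c₀)⁻¹ = g * (c₀ * z) * c₀⁻¹ * g⁻¹ := by group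
          _ = g * z * g⁻¹ := by rw [hc]; group
  have hncN : ¬ ∃ K : Subgroup N, K.Normal ∧ Nat.card K = m := by
    rintro ⟨K, hKn, hKc⟩
    have hq : Nat.card (N ⧸ K) = 2 ^ 2 := by
      have := K.card_mul_index
      rw [index_eq_card, hKc, hNm, mul_comm 4 m] at this
      exact Nat.eq_of_mul_eq_mul_left (Nat.pos_of_ne_zero (by rintro rfl; simp at hm0))
        (this.trans (by norm_num))
    have hcm := IsPGroup.commutative_of_card_eq_prime_sq hq
    have hmem : (⟨z, hzN⟩ : N)⁻¹ * ⟨u, huN⟩ ∈ K := by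
      rw [← QuotientGroup.eq]
      have : (⟨u, huN⟩ : N) = ⟨n, hnN⟩ * ⟨z, hzN⟩ * (⟨n, hnN⟩)⁻¹ := Subtype.ext hnu.symm
      rw [this, QuotientGroup.mk_mul, QuotientGroup.mk_mul, QuotientGroup.mk_inv,
        hcm (QuotientGroup.mk (⟨n, hnN⟩ : N)), mul_inv_cancel_right]
    have h2 : orderOf ((⟨z, hzN⟩ : N)⁻¹ * ⟨u, huN⟩) ∣ 2 := orderOf_dvd_of_pow_eq_one (Subtype.ext (by
      show (z⁻¹ * u) ^ 2 = 1
      rw [inv_eq_of_mul_eq_one_right hzz, sq]
      exact hsqP _ (mul_mem ⟨hzC, hzN⟩ ⟨huC, huN⟩)))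
    have h1 := orderOf_eq_one_iff.1 (Nat.eq_one_of_dvd_coprimes ((Nat.coprime_two_left).2 hm) h2
      (hKc ▸ K.orderOf_dvd_natCard hmem))
    refine hzu1 ?_
    have := congrArg Subtype.val h1
    rwa [coe_mul, coe_inv, coe_one, inv_eq_of_mul_eq_one_right hzz] at this
  obtain ⟨hK, hone⟩ := CfsgLib.BlockA.klein_setup hm hNm hncN P
  have hcz : centralizer ({(⟨z, hzN⟩ : N)} : Set N) = (P : Subgroup N) := by
    ext x
    rw [mem_centralizer_singleton_iff, hP, mem_subgroupOf, mem_inf, hCe, mem_centralizer_singleton_iff]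
    exact ⟨fun h => ⟨congrArg Subtype.val h, x.2⟩, fun h => Subtype.ext h.1⟩
  -- nontrivial normal subgroups contain `C ⊓ N`
  have key : ∀ K : Subgroup G, K.Normal → K ≠ ⊥ → C ⊓ N ≤ K := by
    intro K hKn hK1
    by_cases hKi : ∃ x : N, orderOf x = 2 ∧ (x : G) ∈ K
    · obtain ⟨x, hx, hxK⟩ := hKi
      intro y hy
      rcases eq_or_ne y 1 with rfl | hy1
      · exact one_mem _
      · have hyo : orderOf (⟨y, hy.2⟩ : N) = 2 := orderOf_eq_prime (Subtype.ext (by
          show y ^ 2 = 1
          rw [sq]; exact hsqP y hy)) fun h => hy1 (congrArg Subtype.val h)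
        obtain ⟨a, ha⟩ := isConj_iff.1 (hone x _ hx hyo)
        have : (a : G) * (x : G) * (a : G)⁻¹ = y := congrArg Subtype.val ha
        exact this ▸ hKn.conj_mem _ hxK _
    · exfalso
      have hodd : Odd (Nat.card (K.subgroupOf N)) := by
        rw [← Nat.not_even_iff_odd, even_iff_two_dvd]
        intro h2
        obtain ⟨x, hx⟩ := exists_prime_orderOf_dvd_card' (p := 2) h2
        exact hKi ⟨(x : N), by rw [Subgroup.orderOf_coe, hx], x.2⟩
      have hbot := CfsgLib.Perm.KleinSmall.eq_bot_of_odd hK hone hzo hcz (K.subgroupOf N) hodd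
      have hdisj : ∀ x ∈ K, x ∈ N → x = 1 := fun x hxK hxN => by
        have : (⟨x, hxN⟩ : N) ∈ K.subgroupOf N := mem_subgroupOf.2 hxK
        rw [hbot, mem_bot] at this
        exact congrArg Subtype.val this
      obtain ⟨c, hcK, hc1⟩ := (K.bot_or_exists_ne_one).resolve_left hK1
      have hcN : c ∉ N := fun h => hc1 (hdisj c hcK h)
      have hcomm : ∀ y ∈ N, y * c = c * y := fun y hy => by
        have h1 : y * c * y⁻¹ * c⁻¹ = 1 := hdisj _ (mul_mem (hKn.conj_mem c hcK y) (inv_mem hcK))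
          (by rw [mul_assoc y c, mul_assoc y (c * y⁻¹)]; exact mul_mem hy (hNn.conj_mem _ (inv_mem hy) c))
        calc y * c = y * c * y⁻¹ * c⁻¹ * (c * y) := by group
          _ = c * y := by rw [h1, one_mul]
      have hcC : c ∈ C := hCe ▸ mem_centralizer_singleton_iff.2 (hcomm z hzN).symm
      have hdec : ∀ x ∈ C, ∃ y ∈ C ⊓ N, x = y ∨ x = y * c := by
        intro x hx
        by_cases hxN : x ∈ N
        · exact ⟨x, ⟨hx, hxN⟩, Or.inl rfl⟩
        · refine ⟨x * c⁻¹, ⟨C.mul_mem hx (C.inv_mem hcC), ?_⟩, Or.inr (inv_mul_cancel_right x c).symm⟩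
          exact (mul_mem_iff_of_index_two hN2).2 (iff_of_false hxN (by simpa using hcN))
      refine hnc fun x hx x' hx' => ?_
      obtain ⟨y, hy, hxy⟩ := hdec x hx
      obtain ⟨y', hy', hxy'⟩ := hdec x' hx'
      have hyy : Commute y y' := by
        have h := hsqP _ (mul_mem hy hy')
        have e1 := inv_eq_of_mul_eq_one_right h
        rw [mul_inv_rev, inv_eq_of_mul_eq_one_right (hsqP y hy),
          inv_eq_of_mul_eq_one_right (hsqP y' hy')] at e1
        exact e1.symm
      have hc1' : Commute y c := hcomm y hy.2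
      have hc2' : Commute y' c := hcomm y' hy'.2
      rcases hxy with rfl | rfl <;> rcases hxy' with rfl | rfl
      · exact hyy.eq
      · exact (hyy.mul_right hc1').eq
      · exact (hyy.mul_left hc2'.symm).eq
      · exact ((hyy.mul_right hc1').mul_left (hc2'.symm.mul_right (Commute.refl c))).eq
  -- orders
  have h12 := CfsgLib.Perm.KleinSmall.card_normalizer hK hone hzo hcz
  have h72 := CfsgLib.Perm.KleinSmall.card_le hK hone hzo hcz
  have h12d : 12 ∣ Nat.card N := h12 ▸ card_subgroup_dvd_card _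
  rw [hNm] at h72 h12d
  obtain ⟨k, rfl⟩ : 3 ∣ m := by omega
  have hk : k = 1 ∨ k = 3 ∨ k = 5 := by
    obtain ⟨j, hj⟩ := hm
    omega
  by_cases hk5 : k = 5
  · right
    subst hk5
    obtain ⟨H, hH⟩ : ∃ H, H = normalizer ((C ⊓ N : Subgroup G) : Set G) := ⟨_, rfl⟩
    have hCH : C ≤ H := by
      intro c hc
      rw [hH, mem_normalizer_iff]
      intro x
      refine ⟨fun hx => ⟨C.mul_mem (C.mul_mem hc hx.1) (C.inv_mem hc), hNn.conj_mem x hx.2 c⟩, fun hx => ?_⟩
      have hxC := C.mul_mem (C.mul_mem (C.inv_mem hc) hx.1) hc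
      have hxN := hNn.conj_mem _ hx.2 c⁻¹
      rw [inv_inv] at hxN
      rw [show c⁻¹ * (c * x * c⁻¹) * c = x by group] at hxC hxN
      exact ⟨hxC, hxN⟩
    have hHN : H.subgroupOf N = normalizer ((P : Subgroup N) : Set N) := by
      rw [hH, hP]; exact subgroupOf_normalizer_eq inf_le_right
    have hHN12 : Nat.card ↥(H ⊓ N) = 12 := by
      rw [← h12, ← hHN, ← inf_subgroupOf_right,
        Nat.card_congr (subgroupOfEquivOfLe inf_le_right).toEquiv]
    have hHcard := card_eq_two_mul hN2 (fun h => hCN (hCH.trans h))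
    have hHi : H.index = 5 := by
      have := H.card_mul_index
      rw [hHcard, hHN12, hGm] at this
      omega
    have hcore : H.normalCore = ⊥ := by
      by_contra hne
      have hle := key _ H.normalCore_normal hne
      have hall : ∀ a : G, a ∈ H := by
        intro a
        obtain ⟨Q, hQ⟩ : ∃ Q : Subgroup N, Q = ((C ⊓ N).map (MulAut.conj a).toMonoidHom).subgroupOf N :=
          ⟨_, rfl⟩
        have hQle : Q ≤ normalizer ((P : Subgroup N) : Set N) := by
          rw [← hHN, hQ]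
          intro x hx
          rw [mem_subgroupOf] at hx ⊢
          obtain ⟨y, hy, hyx⟩ := hx
          rw [← hyx]
          exact normalCore_le H (H.normalCore_normal.conj_mem y (hle hy) a)
        have hmapN : (C ⊓ N).map (MulAut.conj a).toMonoidHom ≤ N := by
          rintro _ ⟨y, hy, rfl⟩
          exact hNn.conj_mem y hy.2 a
        have hQp : IsPGroup 2 Q := IsPGroup.of_card (n := 2) (by
          rw [hQ, Nat.card_congr (subgroupOfEquivOfLe hmapN).toEquiv,
            card_map_of_injective (MulAut.conj a).injective, hP0]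
          norm_num)
        have hPQ := P.is_maximal' (hQp.to_sup_of_normal_right' P.2 hQle) le_sup_right
        have hmap : (C ⊓ N).map (MulAut.conj a).toMonoidHom ≤ C ⊓ N := by
          intro x hx
          have hxQ : (⟨x, hmapN hx⟩ : N) ∈ Q := by rw [hQ, mem_subgroupOf]; exact hx
          have := hPQ.le (mem_sup_left hxQ)
          rw [hP, mem_subgroupOf] at this
          exact this
        have heq := eq_of_le_of_card_ge hmap (by rw [card_map_of_injective (MulAut.conj a).injective])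
        rw [hH, mem_normalizer_iff]
        intro x
        constructor
        · intro hx
          exact heq.le ⟨x, hx, rfl⟩
        · intro hx
          obtain ⟨y, hy, hyx⟩ := heq.ge hx
          have : y = x := (MulAut.conj a).injective hyx
          exact this ▸ hy
      rw [show H = ⊤ from eq_top_iff.2 fun a _ => hall a, index_top] at hHi
      omega
    obtain ⟨f, hf⟩ := equiv_perm_of_index H 5 hHi hcore
    exact ⟨MulEquiv.ofBijective f ((Nat.bijective_iff_injective_and_card f).2 ⟨hf, by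
      rw [hGm, Nat.card_perm, Nat.card_fin]; decide⟩)⟩
  · left
    haveI : Fact (Nat.Prime 3) := ⟨Nat.prime_three⟩
    obtain ⟨S⟩ : Nonempty (Sylow 3 G) := inferInstance
    have hdvd : Nat.card (Sylow 3 G) ∣ 8 := by
      refine S.card_dvd_index.trans ?_
      have h1 := (S : Subgroup G).card_mul_index
      rw [S.card_eq_multiplicity, hGm] at h1
      rcases hk with rfl | rfl | rfl
      · rw [show (8 * (3 * 1) : ℕ).factorization 3 = 1 by
          rw [show (8 * (3 * 1) : ℕ) = 3 * 8 by norm_num, Nat.factorization_mul (by norm_num) (by norm_num),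
            Finsupp.add_apply, Nat.Prime.factorization_self Nat.prime_three,
            Nat.factorization_eq_zero_of_not_dvd (show ¬ 3 ∣ 8 by norm_num)]] at h1
        exact dvd_of_eq (by omega)
      · rw [show (8 * (3 * 3) : ℕ).factorization 3 = 2 by
          rw [show (8 * (3 * 3) : ℕ) = 3 ^ 2 * 8 by norm_num, Nat.factorization_mul (by norm_num) (by norm_num),
            Finsupp.add_apply, Nat.factorization_pow_self Nat.prime_three,
            Nat.factorization_eq_zero_of_not_dvd (show ¬ 3 ∣ 8 by norm_num)]] at h1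
        exact dvd_of_eq (by omega)
      · exact absurd rfl hk5
    have hmod := card_sylow_modEq_one 3 G
    unfold Nat.ModEq at hmod
    have hmem : Nat.card (Sylow 3 G) ∈ Nat.divisors 8 := Nat.mem_divisors.2 ⟨hdvd, by norm_num⟩
    rw [show Nat.divisors 8 = {1, 2, 4, 8} by decide] at hmem
    simp only [Finset.mem_insert, Finset.mem_singleton] at hmem
    have hn : Nat.card (Sylow 3 G) = 1 ∨ Nat.card (Sylow 3 G) = 4 := by omega
    obtain ⟨H, hH⟩ : ∃ H, H = normalizer ((S : Subgroup G) : Set G) := ⟨_, rfl⟩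
    have hHi : H.index = Nat.card (Sylow 3 G) := hH ▸ S.card_eq_index_normalizer.symm
    rcases hn with hn | hn
    · exfalso
      have hSn : (S : Subgroup G).Normal := by
        rw [hn, hH, index_eq_one, normalizer_eq_top_iff] at hHi
        exact hHi
      have hSne : (S : Subgroup G) ≠ ⊥ := S.ne_bot_of_dvd_card (by rw [hGm]; omega)
      have hzS := key _ hSn hSne ⟨hzC, hzN⟩
      obtain ⟨i, hi⟩ := S.2 ⟨z, hzS⟩
      have : orderOf z ∣ 3 ^ i := orderOf_dvd_of_pow_eq_one (congrArg Subtype.val hi)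
      rw [hz] at this
      exact absurd (Nat.prime_two.dvd_of_dvd_pow this) (by norm_num)
    · rw [hn] at hHi
      have hcore : H.normalCore = ⊥ := by
        by_contra hne
        have hle := (key _ H.normalCore_normal hne).trans (normalCore_le H)
        have h4 := card_dvd_of_le hle
        have h5 := H.card_mul_index
        rw [hHi, hGm] at h5
        rw [hP0] at h4
        rcases hk with rfl | rfl | rfl <;> omega
      obtain ⟨f, hf⟩ := equiv_perm_of_index H 4 hHi hcore
      have h24 : Nat.card (Equiv.Perm (Fin 4)) = 24 := by rw [Nat.card_perm, Nat.card_fin]; decide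
      have hle := Nat.card_le_card_of_injective f hf
      rw [h24, hGm] at hle
      exact ⟨MulEquiv.ofBijective f ((Nat.bijective_iff_injective_and_card f).2 ⟨hf, by
        rw [h24, hGm]; omega⟩)⟩


/-- Let G be a finite group with an involution z whose centralizer is dihedral of order 8. Then G = C_G(z) O(G) with O(G) the largest normal subgroup of odd order, or G is isomorphic to the symmetric group of degree 4, the symmetric group of degree 5, the group SL₃(2), or the alternating group of degree 6. -/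
theorem result {G : Type*} [Group G] [Finite G] (z : G) (hz : orderOf z = 2)
    (hC : Nonempty (↥(Subgroup.centralizer ({z} : Set G)) ≃* DihedralGroup 4)) :
    Subgroup.centralizer ({z} : Set G) ⊔ Cfsg.oddCore G = ⊤ ∨ Nonempty (G ≃* Equiv.Perm (Fin 4)) ∨ Nonempty (G ≃* Equiv.Perm (Fin 5)) ∨
      Nonempty (G ≃* Matrix.SpecialLinearGroup (Fin 3) (ZMod 2)) ∨ Nonempty (G ≃* ↥(alternatingGroup (Fin 6))) := by
  classical
  haveI : Fact (Nat.Prime 2) := ⟨Nat.prime_two⟩
  obtain ⟨e⟩ := hC
  have hzC : z ∈ Subgroup.centralizer ({z} : Set G) := Subgroup.mem_centralizer_singleton_iff.2 rfl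
  have hz1 : z ≠ 1 := fun h => by rw [h, orderOf_one] at hz; norm_num at hz
  obtain ⟨T, hT'⟩ := (IsPGroup.of_card (p := 2) (n := 3)
    (by rw [Nat.card_congr e.toEquiv, DihedralGroup.nat_card]; norm_num) :
      IsPGroup 2 (Subgroup.centralizer ({z} : Set G))).exists_le_sylow
  have hT : (T : Subgroup G) = Subgroup.centralizer ({z} : Set G) := by
    refine le_antisymm (fun g hg => ?_) hT'
    haveI : Nontrivial (T : Subgroup G) :=
      ⟨⟨⟨z, hT' hzC⟩, 1, fun h => hz1 (congrArg Subtype.val h)⟩⟩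
    haveI := T.2.center_nontrivial
    obtain ⟨⟨w, hw⟩, hw1⟩ := exists_ne (1 : Subgroup.center (T : Subgroup G))
    have hcomm : ∀ y ∈ (T : Subgroup G), (w : G) * y = y * w := fun y hy =>
      (congrArg Subtype.val (Subgroup.mem_center_iff.1 hw ⟨y, hy⟩)).symm
    have hwC : (w : G) ∈ Subgroup.centralizer ({z} : Set G) :=
      Subgroup.mem_centralizer_singleton_iff.2 (hcomm z (hT' hzC))
    have hc : ∀ x : ↥(Subgroup.centralizer ({z} : Set G)), (∀ y, x * y = y * x) →
        x = 1 ∨ e x = .r 2 := fun x hx => by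
      rcases CfsgLib.Clifford.DihedralEight.eq_center (e x) (fun y => by
        obtain ⟨y', rfl⟩ := e.surjective y
        rw [← map_mul, ← map_mul, hx y']) with h | h
      · exact Or.inl (e.injective (h.trans (map_one e).symm))
      · exact Or.inr h
    rcases hc ⟨w, hwC⟩ (fun y => Subtype.ext (hcomm y (hT' y.2))) with h | h
    · exact absurd (Subtype.ext (Subtype.ext (congrArg Subtype.val h : (w : G) = 1))) hw1
    · rcases hc ⟨z, hzC⟩ (fun y => Subtype.ext
        (Subgroup.mem_centralizer_singleton_iff.1 y.2).symm) with h' | h'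
      · exact absurd (congrArg Subtype.val h') hz1
      · have hwz : (w : G) = z := congrArg Subtype.val (e.injective (h.trans h'.symm))
        exact Subgroup.mem_centralizer_singleton_iff.2 (by rw [← hwz]; exact (hcomm g hg).symm)
  by_cases hiso : Cfsg.IsIsolatedInvolution z
  · exact Or.inl (CfsgLib.Perm.SwappedPair.sup_oddCore_eq_top hiso)
  obtain ⟨g, hgc, hgne⟩ : ∃ g : G, Commute z (g * z * g⁻¹) ∧ g * z * g⁻¹ ≠ z := by
    by_contra h
    exact hiso ⟨hz, fun g hg => by by_contra hne; exact h ⟨g, hg, hne⟩⟩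
  by_cases hN : ∀ H : Subgroup G, H.index ≠ 2
  · obtain ⟨αt, hαt, hsupp⟩ : ∃ αt : ↥(alternatingGroup (Fin 6)),
        orderOf αt = 2 ∧ (αt : Equiv.Perm (Fin 6)).support.card = 4 := by
      exact exists_double_transposition
    obtain ⟨eD⟩ := CfsgLib.InvChar.DihedralSylow.centralizer_doubleTransposition αt hαt hsupp
    rcases Cfsg.Agent.S3261.result hN αt hαt hsupp z hz T (hT' hzC)
        (fun s hs => Subgroup.mem_centralizer_singleton_iff.1 (hT ▸ hs)) (e.trans eD.symm) with h | h
    · exact Or.inr (Or.inr (Or.inr (Or.inr h)))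
    · obtain ⟨F, _, _, hF, ⟨e'⟩⟩ := h
      exact Or.inr (Or.inr (Or.inr (Or.inl (psl_two_seven_to_sl_three hF e'))))
  · push Not at hN
    obtain ⟨N, hN2⟩ := hN
    rcases index_two_case z hz e T hT N hN2 hgc hgne with h | h
    · exact Or.inr (Or.inl h)
    · exact Or.inr (Or.inr (Or.inl h))

end Cfsg.Agent.S3035
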