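import Cfsg.Statements.S0997
import Cfsg.Agent.Lib.Block.BrauerTuanTheorem

set_option autoImplicit false
open Cfsg

namespace Cfsg.Agent.S0997

/-- Let G be a non-cyclic finite simple group of order p * q^b * g₀, where p and q are distinct primes and g₀ < p - 1. Then either p has the form 2^m + 1 or 2^m - 1 and G is isomorphic to the projective special linear group of dimension 2 over the field with p elements, or p = 2^m + 1 > 3 and G is isomorphic to that group over the field with 2^m elements. -/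
theorem result {G : Type*} [Group G] [Finite G] [IsSimpleGroup G] (hG : ¬ IsCyclic G) (p q b g₀ : ℕ) (hp : p.Prime) (hq : q.Prime) (hpq : p ≠ q) (hG' : Nat.card G = p * q ^ b * g₀) (hg : g₀ < p - 1) : (∃ (m : ℕ) (F : Type) (_ : Field F) (_ : Fintype F), Fintype.card F = p ∧ (p = 2 ^ m + 1 ∨ p = 2 ^ m - 1) ∧ Nonempty (G ≃* Matrix.ProjectiveSpecialLinearGroup (Fin 2) F)) ∨ (∃ (m : ℕ) (F : Type) (_ : Field F) (_ : Fintype F), Fintype.card F = 2 ^ m ∧ p = 2 ^ m + 1 ∧ 3 < p ∧ Nonempty (G ≃* Matrix.ProjectiveSpecialLinearGroup (Fin 2) F)) := by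
  have hg0 : g₀ ≠ 0 := fun h => by
    rw [h, mul_zero] at hG'
    exact Nat.card_pos.ne' hG'
  obtain ⟨k, g, hqg, rfl⟩ := Nat.exists_eq_pow_mul_and_not_dvd hg0 q hq.ne_one
  have hgle : g ≤ q ^ k * g := Nat.le_mul_of_pos_left g (Nat.pow_pos hq.pos)
  rcases CfsgLib.Block.BrauerTuan.main hG hp hq hpq (b := b + k) (g₀ := g)
    (by rw [hG', pow_add]; ring) (lt_of_le_of_lt hgle hg) hqg with
    ⟨F, iF, iF', hF, -, -, hs, hψ⟩ | h
  · refine Or.inl ⟨b + k, F, iF, iF', hF, ?_, hψ⟩
    rcases hs with ⟨h1, -⟩ | ⟨h1, -⟩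
    · right; omega
    · left; have := hp.two_le; omega
  · exact Or.inr h

end Cfsg.Agent.S0997
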