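import Cfsg.Statements.S1011
import Cfsg.Agent.Lib.ClassK.Simple504
import Cfsg.Agent.Lib.Geom.DicksonPSL

set_option autoImplicit false
open Cfsg

namespace Cfsg.Agent.S1011

/-- A simple group of order 504 is isomorphic to the projective special linear group of dimension 2 over the field with 8 elements. -/
theorem result {G : Type*} [Group G] [Finite G] [IsSimpleGroup G] (h : Nat.card G = 504) {F : Type*} [Field F] [Fintype F] (hF : Fintype.card F = 8) : Nonempty (G ≃* Matrix.ProjectiveSpecialLinearGroup (Fin 2) F) := by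
  obtain ⟨F', _, _, f, hf, hF', ⟨e⟩⟩ := CfsgLib.Invol.ct_exists_psl
    (CfsgLib.ClassK.Simple504.nonabelian h) (CfsgLib.ClassK.Simple504.abelian_centralizers h)
  have h1 := Nat.card_congr e.toEquiv
  have h2 := CfsgLib.Classical.card_psl_two_mul (F := F')
  rw [← h1, h, hF'] at h2
  have hg : Nat.gcd 2 (2 ^ f - 1) = 1 := by
    have : Odd (2 ^ f - 1) := by
      rw [Nat.odd_sub (Nat.one_le_two_pow)]
      simp [Nat.even_pow]
      omega
    exact Nat.coprime_two_left.2 this
  rw [hg, one_mul] at h2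
  have hlt : f < 4 := by
    by_contra hge
    have h16 : 16 ≤ 2 ^ f := by
      calc (16 : ℕ) = 2 ^ 4 := by norm_num
        _ ≤ 2 ^ f := Nat.pow_le_pow_right (by norm_num) (not_lt.1 hge)
    have : 16 * 255 ≤ 2 ^ f * ((2 ^ f) ^ 2 - 1) :=
      Nat.mul_le_mul h16 (by
        have : 16 ^ 2 ≤ (2 ^ f) ^ 2 := Nat.pow_le_pow_left h16 2
        omega)
    omega
  interval_cases f
  · norm_num at h2
  · exact ⟨e.trans (CfsgLib.Geom.Moebius.pslCongr
      (FiniteField.ringEquivOfCardEq (hF'.trans (by rw [hF]; norm_num))))⟩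

end Cfsg.Agent.S1011
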