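import Cfsg.Statements.S3341
import Cfsg.Agent.Lib.TISylow.Structure
import Cfsg.Agent.S0497

set_option autoImplicit false
open Cfsg

namespace Cfsg.Agent.S3341

/-- Let G be a finite simple group whose Sylow 3-subgroup S is elementary abelian of order 9, such that G has more than one conjugacy class of elements of order 3 and C_G(s) = S for every non-identity s in S. Then G is isomorphic to the alternating group of degree 6. -/
theorem result {G : Type*} [Group G] [Finite G] [IsSimpleGroup G]
    (P : Sylow 3 G) (S : Subgroup G) (hSP : S = P) (hcomm : IsMulCommutative S) (hexp : ∀ a ∈ S, a ^ 3 = 1)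
    (hcard : Nat.card S = 9)
    (hclasses : ∃ a b : G, orderOf a = 3 ∧ orderOf b = 3 ∧ ∀ g : G, g * a * g⁻¹ ≠ b)
    (hcent : ∀ s ∈ S, s ≠ 1 → Subgroup.centralizer ({s} : Set G) = S) :
    Nonempty (G ≃* alternatingGroup (Fin 6)) := by
  subst hSP
  have hC : Subgroup.centralizer ((P : Subgroup G) : Set G) ≤ (P : Subgroup G) := by
    obtain ⟨s, hs, hs1⟩ : ∃ s ∈ (P : Subgroup G), s ≠ 1 := by
      by_contra hcon
      push Not at hcon
      rw [(Subgroup.eq_bot_iff_forall _).2 hcon, Subgroup.card_bot] at hcard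
      omega
    exact (Subgroup.centralizer_le (Set.singleton_subset_iff.2 hs)).trans (hcent s hs hs1).le
  have S : CfsgLib.TISylow.Setup P := ⟨hcard, hexp, hC,
    fun t ht ht1 => (hcent t ht ht1).le.trans Subgroup.le_normalizer⟩
  have : Fact (Nat.Prime 3) := ⟨Nat.prime_three⟩
  set T := (P : Subgroup G) with hT
  set N := Subgroup.normalizer (T : Set G) with hN
  obtain ⟨a, b, ha, hb, hab⟩ := hclasses
  have ha3 : a ^ 3 = 1 := by rw [← ha, pow_orderOf_eq_one]
  have hb3 : b ^ 3 = 1 := by rw [← hb, pow_orderOf_eq_one]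
  have hNtop : N ≠ ⊤ := by
    intro e
    have hn : T.Normal := Subgroup.normalizer_eq_top_iff.1 e
    rcases hn.eq_bot_or_eq_top with e' | e'
    · rw [e', Subgroup.card_bot] at hcard; omega
    · have hcG : Nat.card G = 9 := by rw [← hcard, e', Subgroup.card_top]
      have hcomG := IsPGroup.isMulCommutative_of_card_eq_prime_sq (p := 3) (G := G)
        (by rw [hcG]; norm_num)
      have hz := (Subgroup.zpowers a).normal_of_comm
      rcases hz.eq_bot_or_eq_top with e2 | e2
      · rw [Subgroup.zpowers_eq_bot] at e2; rw [e2, orderOf_one] at ha; omega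
      · have := congrArg (fun H : Subgroup G => Nat.card H) e2
        simp only [Nat.card_zpowers, ha, Subgroup.card_top, hcG] at this
        omega
  haveI : (T.subgroupOf N).Normal := Subgroup.normal_in_normalizer
  have hmul := Subgroup.card_mul_index (T.subgroupOf N)
  rw [Nat.card_congr (Subgroup.subgroupOfEquivOfLe Subgroup.le_normalizer).toEquiv, hcard] at hmul
  set k := (T.subgroupOf N).index with hk
  -- the automizer acts freely and intransitively on the nonidentity elements
  obtain ⟨ga, hga⟩ := S.nine.toHyp.conj_mem a ha3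
  obtain ⟨gb, hgb⟩ := S.nine.toHyp.conj_mem b hb3
  set a' := ga * a * ga⁻¹ with ha'
  set b' := gb * b * gb⁻¹ with hb'
  have ha1 : a' ≠ 1 := fun e => by
    rw [ha', conj_eq_one_iff] at e
    rw [e, orderOf_one] at ha
    omega
  have hb1 : b' ≠ 1 := fun e => by
    rw [hb', conj_eq_one_iff] at e
    rw [e, orderOf_one] at hb
    omega
  have hne : ∀ g : G, g * a' * g⁻¹ ≠ b' := fun g e => hab (gb⁻¹ * g * ga) (by
    rw [show gb⁻¹ * g * ga * a * (gb⁻¹ * g * ga)⁻¹ = gb⁻¹ * (g * (ga * a * ga⁻¹) * g⁻¹) * gb by
      group, ← ha', e, hb']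
    group)
  have hk8 : k < 8 := by
    classical
    haveI := Fintype.ofFinite (N ⧸ T.subgroupOf N)
    haveI := Fintype.ofFinite T
    let f : N ⧸ T.subgroupOf N → T := fun q => ⟨(q.out : G) * a' * (q.out : G)⁻¹,
      (Subgroup.mem_normalizer_iff.1 q.out.2 a').1 hga⟩
    have hf : Function.Injective f := by
      intro p q e
      have e' : (p.out : G) * a' * (p.out : G)⁻¹ = (q.out : G) * a' * (q.out : G)⁻¹ :=
        congrArg Subtype.val e
      rw [← QuotientGroup.out_eq' p, ← QuotientGroup.out_eq' q]
      refine QuotientGroup.eq.2 (Subgroup.mem_subgroupOf.2 ((hcent a' hga ha1).le ?_))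
      refine Subgroup.mem_centralizer_singleton_iff.2 ?_
      simp only [Subgroup.coe_mul, Subgroup.coe_inv]
      rw [← mul_inv_eq_iff_eq_mul, show (p.out : G)⁻¹ * q.out * a' * ((p.out : G)⁻¹ * q.out)⁻¹ =
        (p.out : G)⁻¹ * ((q.out : G) * a' * (q.out : G)⁻¹) * p.out by group, ← e']
      group
    have h1 : (Finset.univ.image f).card ≤
        ((((Finset.univ : Finset T).erase 1).erase ⟨b', hgb⟩)).card :=
      Finset.card_le_card fun x hx => by
        obtain ⟨q, -, rfl⟩ := Finset.mem_image.1 hx
        refine Finset.mem_erase.2 ⟨fun e => hne _ (congrArg Subtype.val e),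
          Finset.mem_erase.2 ⟨fun e => ha1 ?_, Finset.mem_univ _⟩⟩
        exact conj_eq_one_iff.1 (congrArg Subtype.val e)
    rw [Finset.card_image_of_injective _ hf, Finset.card_univ,
      Finset.card_erase_of_mem (Finset.mem_erase.2 ⟨fun e => hb1 (congrArg Subtype.val e),
        Finset.mem_univ _⟩), Finset.card_erase_of_mem (Finset.mem_univ _), Finset.card_univ,
      ← Nat.card_eq_fintype_card, ← Nat.card_eq_fintype_card (α := T), hcard] at h1
    show Nat.card (N ⧸ T.subgroupOf N) < 8
    omega
  have hk1 : k ≠ 1 := by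
    intro e
    rw [e, mul_one] at hmul
    have hNT : N = T := (Subgroup.eq_of_le_of_card_ge Subgroup.le_normalizer (show Nat.card N ≤ Nat.card T by rw [← hmul, hcard])).symm
    obtain ⟨R, C, hCn, hc⟩ := CfsgLib.Transfer.hasNormalPComplement_of_normalizer_le_centralizer P
      (show N ≤ Subgroup.centralizer (T : Set G) by
        rw [hNT]
        exact fun x hx => Subgroup.mem_centralizer_iff.2 fun y hy => S.nine.comm y hy x hx)
    have hRcard : Nat.card (R : Subgroup G) = 9 := by
      rw [← hcard]
      exact (R.card_eq_multiplicity).trans P.card_eq_multiplicity.symm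
    rcases hCn.eq_bot_or_eq_top with e' | e'
    · have hR : (R : Subgroup G) = ⊤ := by
        have := hc.sup_eq_top
        rwa [e', bot_sup_eq] at this
      have hGT : T = ⊤ := Subgroup.eq_top_of_card_eq _ (by
        rw [hcard, ← hRcard, hR, Subgroup.card_top])
      exact hNtop (top_le_iff.1 (hGT ▸ Subgroup.le_normalizer))
    · have := hc.disjoint
      rw [e', top_disjoint] at this
      rw [this, Subgroup.card_bot] at hRcard
      omega
  have hk24 : k = 2 ∨ k = 4 := by
    have hpos : 0 < k := Nat.pos_of_ne_zero fun e => by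
      have := Nat.card_pos (α := N); rw [← hmul, e, mul_zero] at this; omega
    have hp : ∀ p, p.Prime → p ∣ k → p = 2 := fun p hp hd => S.prime_eq_two hp hd
    interval_cases k
    · exact absurd rfl hk1
    · exact Or.inl rfl
    · exact absurd (hp 3 Nat.prime_three dvd_rfl) (by norm_num)
    · exact Or.inr rfl
    · exact absurd (hp 5 (by norm_num) dvd_rfl) (by norm_num)
    · exact absurd (hp 3 Nat.prime_three ⟨2, rfl⟩) (by norm_num)
    · exact absurd (hp 7 (by norm_num) dvd_rfl) (by norm_num)
  rcases hk24 with e | e <;> rw [e] at hmul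
  · exfalso
    refine hNtop (S.eq_top_two hmul.symm fun n hn => ?_)
    by_cases hnT : n ∈ T
    · exact Or.inl hnT
    refine Or.inr fun t ht => ?_
    have hct := (Subgroup.mem_normalizer_iff.1 hn t).1 ht
    have hn2 := S.pow_mem (k := 2) hmul.symm hn
    by_contra hne2
    refine hnT ((hcent (t * (n * t * n⁻¹)) (T.mul_mem ht hct)
      (fun e => hne2 (eq_inv_of_mul_eq_one_right e))).le ?_)
    refine Subgroup.mem_centralizer_singleton_iff.2 (mul_inv_eq_iff_eq_mul.1 ?_)
    rw [show n * (t * (n * t * n⁻¹)) * n⁻¹ = (n * t * n⁻¹) * (n ^ 2 * t * (n ^ 2)⁻¹) by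
      simp [pow_two, mul_assoc], S.nine.comm _ hn2 _ ht, mul_inv_cancel_right]
    exact S.nine.comm _ hct _ ht
  · by_cases hsq : ∀ n ∈ N, n * n ∈ T
    · exact absurd (S.eq_top_klein hmul.symm hsq) hNtop
    · push Not at hsq
      obtain ⟨f, hf, hf2⟩ := hsq
      have h360 := (S.four hmul.symm hf hf2 hNtop).2
      exact Cfsg.Agent.S0497.result h360

end Cfsg.Agent.S3341
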