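import Cfsg.Statements.S3681


set_option autoImplicit false
open Cfsg

namespace Cfsg.Agent.S3681

/-- Permutations whose supports meet in one point have a three-cycle as commutator. -/
theorem commutator_isThreeCycle {α : Type*} [DecidableEq α] [Fintype α] {y z : Equiv.Perm α} {x : α}
    (h : ∀ w, y w ≠ w → z w ≠ w → w = x) (hy : y x ≠ x) (hz : z x ≠ x) :
    (y * z * y⁻¹ * z⁻¹).IsThreeCycle := by
  have hyz : ∀ w, w ≠ x → y w ≠ w → z w = w := fun w hw h1 => by_contra fun h2 => hw (h w h1 h2)
  have hzy : ∀ w, w ≠ x → z w ≠ w → y w = w := fun w hw h1 => by_contra fun h2 => hw (h w h2 h1)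
  have hab : y x ≠ z x := fun he => by
    have h1 : y (y x) ≠ y x := fun e => hy (y.injective e)
    have h2 : z (z x) ≠ z x := fun e => hz (z.injective e)
    exact hy (h (y x) h1 (he ▸ h2))
  have key : y * z * y⁻¹ * z⁻¹ = Equiv.swap (y x) x * Equiv.swap (y x) (z x) := by
    ext w
    have hi : ∀ (f : Equiv.Perm α) v u, f u = v → f⁻¹ v = u := fun f v u e => by
      rw [← e]; exact f.symm_apply_apply u
    simp only [Equiv.Perm.mul_apply]
    have hw1 : ∀ (f : Equiv.Perm α) v, f v ≠ v → f (f v) ≠ f v := fun f v e e' => e (f.injective e')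
    rcases eq_or_ne w (z x) with rfl | hwb
    · rw [hi z _ _ rfl, Equiv.swap_apply_right, Equiv.swap_apply_left]
      set u := y⁻¹ x with hu
      have hux : y u = x := y.apply_symm_apply x
      have hune : u ≠ x := fun e => hy (e ▸ hux)
      rw [hyz u hune (hux ▸ hune.symm), hux]
    rcases eq_or_ne w x with rfl | hwx
    · set v := z⁻¹ w with hv
      have hvx : z v = w := z.apply_symm_apply w
      have hvne : v ≠ w := fun e => hz (e ▸ hvx)
      have hyv : y v = v := hzy v hvne (hvx ▸ hvne.symm)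
      rw [hi y v v hyv, hvx, Equiv.swap_apply_of_ne_of_ne hy.symm (Ne.symm hz), Equiv.swap_apply_right]
    rcases eq_or_ne w (y x) with rfl | hwa
    · have hza : z (y x) = y x := hyz _ hwx (hw1 y x hy)
      rw [hi z _ _ hza, hi y _ _ rfl, Equiv.swap_apply_left]
      rw [hzy _ hz (hw1 z x hz), Equiv.swap_apply_of_ne_of_ne hab.symm hz]
    rw [Equiv.swap_apply_of_ne_of_ne hwa hwb, Equiv.swap_apply_of_ne_of_ne hwa hwx]
    by_cases hyw : y w = w
    · by_cases hzw : z w = w
      · rw [hi z _ _ hzw, hi y _ _ hyw, hzw, hyw]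
      · set v := z⁻¹ w with hv
        have hvx : z v = w := z.apply_symm_apply w
        have hvne : v ≠ x := fun e => hwb (e ▸ hvx.symm)
        have hzv : z v ≠ v := fun e => hzw (by rw [show w = v from hvx.symm.trans e]; exact e)
        rw [hi y v v (hzy v hvne hzv), hvx, hyw]
    · rw [hi z _ _ (hyz w hwx hyw)]
      set u := y⁻¹ w with hu
      have hux : y u = w := y.apply_symm_apply w
      have hune : u ≠ x := fun e => hwa (e ▸ hux.symm)
      have hyu : y u ≠ u := fun e => hyw (by rw [show w = u from hux.symm.trans e]; exact e)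
      rw [hyz u hune hyu, hux]
  rw [key]
  exact Equiv.Perm.isThreeCycle_swap_mul_swap_same hy hab (Ne.symm hz)

/-- Bochert's bound for primitive groups. Let a finite group G act faithfully and primitively on a finite set Ω with n elements, and suppose the image of G in the symmetric group of Ω does not contain the alternating group of Ω. Then |G| · ⌊(n + 1)/2⌋! ≤ n!, that is, the index of G in the symmetric group is at least ⌊(n + 1)/2⌋!. -/
theorem result {G Ω : Type*} [Group G] [Finite G] [MulAction G Ω] [FaithfulSMul G Ω] [Fintype Ω] [DecidableEq Ω]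
    (hprim : MulAction.IsPreprimitive G Ω) (hA : ¬ alternatingGroup Ω ≤ (MulAction.toPermHom G Ω).range) :
    Nat.card G * Nat.factorial ((Fintype.card Ω + 1) / 2) ≤ Nat.factorial (Fintype.card Ω) := by
  classical
  set R := (MulAction.toPermHom G Ω).range with hR
  have hRprim : MulAction.IsPreprimitive R Ω := by
    let f : Ω →ₑ[(MulAction.toPermHom G Ω).rangeRestrict] Ω := { toFun := id, map_smul' := fun g x => rfl }
    exact MulAction.IsPreprimitive.of_surjective (f := f) Function.surjective_id
  -- a smallest base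
  have hex : ∃ d, ∃ Δ : Finset Ω, Δ.card = d ∧ ∀ g : G, (∀ x ∈ Δ, g • x = x) → g = 1 :=
    ⟨_, Finset.univ, rfl, fun g hg => FaithfulSMul.eq_of_smul_eq_smul (α := Ω) fun x => by
      rw [one_smul, hg x (Finset.mem_univ x)]⟩
  obtain ⟨Δ, hΔc, hΔ⟩ := Nat.find_spec hex
  have hmin : ∀ Γ : Finset Ω, Γ.card < Δ.card → ∃ g : G, (∀ x ∈ Γ, g • x = x) ∧ g ≠ 1 := by
    intro Γ hΓ
    by_contra h
    push Not at h
    exact Nat.find_min hex (hΔc ▸ hΓ) ⟨Γ, rfl, h⟩
  have hsmall : 2 * Δ.card ≤ Fintype.card Ω := by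
    by_contra hlt
    obtain ⟨y, hy, hy1⟩ := hmin Δᶜ (by rw [Finset.card_compl]; omega)
    obtain ⟨x, hx, hyx⟩ : ∃ x ∈ Δ, y • x ≠ x := by
      by_contra h
      push Not at h
      exact hy1 (hΔ y h)
    obtain ⟨z, hz, hz1⟩ := hmin (Δ.erase x) (Finset.card_erase_lt_of_mem hx)
    have hzx : z • x ≠ x := fun h => hz1 (hΔ z fun w hw => by
      rcases eq_or_ne w x with rfl | hne
      · exact h
      · exact hz w (Finset.mem_erase.mpr ⟨hne, hw⟩))
    refine hA ?_
    have h3 := commutator_isThreeCycle (y := MulAction.toPermHom G Ω y) (z := MulAction.toPermHom G Ω z) (x := x)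
      (fun w hyw hzw => by
        by_contra hwx
        by_cases hw : w ∈ Δ
        · exact hzw (hz w (Finset.mem_erase.mpr ⟨hwx, hw⟩))
        · exact hyw (hy w (Finset.mem_compl.mpr hw))) hyx hzx
    exact Equiv.Perm.alternatingGroup_le_of_isPreprimitive_of_isThreeCycle_mem hRprim h3
      ⟨y * z * y⁻¹ * z⁻¹, by simp only [map_mul, map_inv]⟩
  have hle : Nat.card G ≤ (Fintype.card Ω).descFactorial Δ.card := by
    rw [← Fintype.card_coe Δ, ← Fintype.card_embedding_eq, ← Nat.card_eq_fintype_card (α := _ ↪ Ω)]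
    refine Nat.card_le_card_of_injective (fun g : G => ⟨fun x : Δ => g • (x : Ω), fun a b h => Subtype.ext (MulAction.injective g h)⟩) ?_
    intro g h hgh
    have := hΔ (h⁻¹ * g) fun x hx => by
      rw [mul_smul, show g • x = h • x from congrFun (congrArg DFunLike.coe hgh) ⟨x, hx⟩, inv_smul_smul]
    exact (inv_mul_eq_one.mp this).symm
  calc Nat.card G * Nat.factorial ((Fintype.card Ω + 1) / 2)
      ≤ (Fintype.card Ω).descFactorial Δ.card * Nat.factorial (Fintype.card Ω - Δ.card) :=
        Nat.mul_le_mul hle (Nat.factorial_le (by omega))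
    _ = Nat.factorial (Fintype.card Ω) := by
        rw [mul_comm, Nat.factorial_mul_descFactorial (by omega)]

end Cfsg.Agent.S3681
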