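import Cfsg.Statements.S0710
import Cfsg.Agent.Lib.Perm.Basic
import Mathlib.GroupTheory.Perm.Cycle.Type
import Mathlib.GroupTheory.Perm.Centralizer
import Mathlib.GroupTheory.Sylow

set_option autoImplicit false
open Cfsg

namespace Cfsg.Agent.S0710

/-- No transitive permutation group on 13 points has order `13 * 12 * 11 * 10 * 9 * 8`. -/
theorem result {α : Type*} [Fintype α] [DecidableEq α] (hα : Fintype.card α = 13) (G : Subgroup (Equiv.Perm α)) [MulAction.IsPretransitive G α] : Nat.card G ≠ 13 * 12 * 11 * 10 * 9 * 8 := by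
  intro hG
  have : Fact (Nat.Prime 13) := ⟨by decide⟩
  let P : Sylow 13 G := default
  have hP : Nat.card (P : Subgroup G) = 13 := by
    rw [Sylow.card_eq_multiplicity, hG]
    have : (13 * 12 * 11 * 10 * 9 * 8).factorization 13 = 1 := by
      rw [show 13 * 12 * 11 * 10 * 9 * 8 = 13 * 95040 by norm_num,
        Nat.factorization_mul (by norm_num) (by norm_num)]
      simp [Nat.Prime.factorization (by decide : Nat.Prime 13),
        Nat.factorization_eq_zero_of_not_dvd (by norm_num : ¬ 13 ∣ 95040)]
    rw [this, pow_one]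
  set N := Subgroup.normalizer ((P : Subgroup G) : Set G) with hN
  have hn : Nat.card (Sylow 13 G) = N.index := P.card_eq_index_normalizer
  have hmod : Nat.card (Sylow 13 G) ≡ 1 [MOD 13] := card_sylow_modEq_one 13 G
  obtain ⟨σ, hσ⟩ := isCyclic_of_prime_card hP |>.exists_generator
  have hσ1 : orderOf σ = 13 := by rw [orderOf_eq_card_of_forall_mem_zpowers hσ, hP]
  set c : Equiv.Perm α := ((σ : G) : Equiv.Perm α) with hc
  have hco : orderOf c = 13 := by rw [hc, Subgroup.orderOf_coe, Subgroup.orderOf_coe, hσ1]
  have hcyc : c.IsCycle :=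
    Equiv.Perm.isCycle_of_prime_order' (by rw [hco]; decide) (by rw [hα, hco]; norm_num)
  have hcs : c.support.card = 13 := by rw [← hcyc.orderOf, hco]
  let φ : N →* MulAut (P : Subgroup G) := (P : Subgroup G).normalizerMonoidHom
  have hker : ∀ k ∈ φ.ker, (((k : N) : G) : Equiv.Perm α) ∈ Subgroup.zpowers c := by
    intro k hk
    have hk' : ∀ x : (P : Subgroup G), ((k : N) : G) * x * ((k : N) : G)⁻¹ = x := fun x => by
      have := congrArg (fun f : MulAut (P : Subgroup G) => ((f x : (P : Subgroup G)) : G)) hk
      exact this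
    have hkc : c * (((k : N) : G) : Equiv.Perm α) = (((k : N) : G) : Equiv.Perm α) * c := by
      have := congrArg (fun g : G => (g : Equiv.Perm α)) (hk' σ)
      simp only [Subgroup.coe_mul, Subgroup.coe_inv] at this
      rw [mul_inv_eq_iff_eq_mul] at this
      exact this.symm
    have hmem : (((k : N) : G) : Equiv.Perm α) ∈ Subgroup.centralizer {c} :=
      Subgroup.mem_centralizer_singleton_iff.mpr hkc.symm
    have hle : Subgroup.zpowers c ≤ Subgroup.centralizer {c} := by
      rw [Subgroup.zpowers_le, Subgroup.mem_centralizer_singleton_iff]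
    have hcard : Nat.card (Subgroup.centralizer {c}) = 13 := by
      rw [Equiv.Perm.nat_card_centralizer, hcyc.cycleType, hcs, hα]
      simp
    have heq : Subgroup.zpowers c = Subgroup.centralizer {c} :=
      Subgroup.eq_of_le_of_card_ge hle (by rw [hcard, Nat.card_zpowers, hco])
    rw [heq]; exact hmem
  have hker13 : Nat.card φ.ker ≤ 13 := by
    let f : φ.ker → Subgroup.zpowers c := fun k => ⟨_, hker k.1 k.2⟩
    have hf : Function.Injective f := by
      intro x y e
      simp only [f, Subtype.ext_iff] at e
      exact Subtype.ext (Subtype.ext (Subtype.ext e))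
    calc Nat.card φ.ker ≤ Nat.card (Subgroup.zpowers c) := Nat.card_le_card_of_injective f hf
      _ = 13 := by rw [Nat.card_zpowers, hco]
  have haut : Nat.card (MulAut (P : Subgroup G)) = 12 := by
    have := isCyclic_of_prime_card hP
    rw [IsCyclic.card_mulAut, hP]; decide
  have hN1 : Nat.card N = φ.ker.index * Nat.card φ.ker := (Subgroup.index_mul_card _).symm
  have hidx : φ.ker.index ∣ 12 := by
    rw [Subgroup.index_ker, ← haut]; exact Subgroup.card_subgroup_dvd_card _
  have h13 : 13 ∣ Nat.card N := by
    rw [← hP]; exact Subgroup.card_dvd_of_le Subgroup.le_normalizer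
  have hk13 : Nat.card φ.ker = 13 := by
    rw [hN1] at h13
    rcases (Nat.Prime.dvd_mul (by decide : Nat.Prime 13)).mp h13 with h | h
    · have := Nat.le_of_dvd (by norm_num) (h.trans hidx); omega
    · have := Nat.le_of_dvd Nat.card_pos h; omega
  have hmain : N.index * (φ.ker.index * 13) = 13 * 12 * 11 * 10 * 9 * 8 := by
    calc N.index * (φ.ker.index * 13) = N.index * (φ.ker.index * Nat.card φ.ker) := congrArg (fun z => N.index * (φ.ker.index * z)) hk13.symm
      _ = _ := by rw [← hN1, Subgroup.index_mul_card, hG]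

  have hle : φ.ker.index ≤ 12 := Nat.le_of_dvd (by norm_num) hidx
  rw [hn, Nat.ModEq] at hmod
  generalize hd : φ.ker.index = d at hmain hle hidx
  generalize hi : N.index = i at hmain hmod
  interval_cases d <;> omega

end Cfsg.Agent.S0710
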