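import Cfsg.Statements.S3277
import Cfsg.Agent.S1230
import Cfsg.Agent.S0252
import Cfsg.Agent.Lib.Invol.Basic
import Cfsg.Agent.Lib.InvChar.Basic

set_option autoImplicit false
set_option maxHeartbeats 1000000
open Cfsg CfsgLib.Invol

namespace Cfsg.Agent.S3277

theorem not_five {G : Type*} [Group G] [Finite G] (H : Subgroup G) (hH : Nat.card H = 4) {a b c d e : G}
    (ha : a ∈ H) (hb : b ∈ H) (hc : c ∈ H) (hd : d ∈ H) (he : e ∈ H)
    (hab : a ≠ b) (hac : a ≠ c) (had : a ≠ d) (hae : a ≠ e) (hbc : b ≠ c) (hbd : b ≠ d) (hbe : b ≠ e)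
    (hcd : c ≠ d) (hce : c ≠ e) (hde : d ≠ e) : False := by
  classical
  haveI := Fintype.ofFinite G
  let s : Finset G := {a, b, c, d, e}
  have hs : s.card = 5 := by simp [s, *]
  have hle : s.card ≤ Nat.card H := by
    rw [Nat.card_eq_fintype_card, Fintype.card_subtype]
    refine Finset.card_le_card fun w hw => ?_
    simp only [s, Finset.mem_insert, Finset.mem_singleton] at hw
    rcases hw with rfl | rfl | rfl | rfl | rfl <;> simp [*]
  omega

/-- Let G be a finite group containing an involution whose centralizer is elementary abelian of order 4. If G has no normal 2-complement and no normal elementary abelian 2-subgroup of order 2 or 4, then G is isomorphic to the alternating group of degree 5 (that is, to PSL(2, 5)). -/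
theorem result {G : Type*} [Group G] [Finite G] (x : G) (hx : orderOf x = 2)
    (hC4 : Nat.card ↥(Subgroup.centralizer ({x} : Set G)) = 4) (hCe : ∀ c ∈ Subgroup.centralizer ({x} : Set G), c ^ 2 = 1)
    (hnc : ¬ Cfsg.HasNormalPComplement 2 G)
    (hne : ∀ E : Subgroup G, E.Normal → Cfsg.IsElementaryAbelian 2 E → Nat.card ↥E ≠ 2 ∧ Nat.card ↥E ≠ 4) :
    Nonempty (G ≃* ↥(alternatingGroup (Fin 5))) := by
  classical
  haveI : Fact (Nat.Prime 2) := ⟨Nat.prime_two⟩
  set C := Subgroup.centralizer ({x} : Set G) with hC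
  have hC2 : IsPGroup 2 C := IsPGroup.of_card (n := 2) (by rw [hC4]; rfl)
  obtain ⟨S, hCS⟩ := hC2.exists_le_sylow
  have hxC : x ∈ C := Subgroup.mem_centralizer_singleton_iff.2 rfl
  have hCcomm : ∀ a ∈ C, ∀ b ∈ C, Commute a b := by
    intro a ha b hb
    have h := hCe _ (mul_mem ha hb)
    rw [pow_two] at h
    have ea : a⁻¹ = a := inv_eq_of_mul_eq_one_right (pow_two a ▸ hCe a ha)
    have eb : b⁻¹ = b := inv_eq_of_mul_eq_one_right (pow_two b ▸ hCe b hb)
    calc a * b = (a * b)⁻¹ := eq_inv_of_mul_eq_one_left h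
      _ = b * a := by rw [mul_inv_rev, ea, eb]
  -- the Sylow 2-subgroup is the centralizer
  have hSC : (S : Subgroup G) = C := by
    by_contra hne'
    have hlt : C < (S : Subgroup G) := lt_of_le_of_ne hCS (fun h => hne' h.symm)
    haveI : Nontrivial ↥(S : Subgroup G) := (Subgroup.nontrivial_iff_ne_bot _).2 fun h => by
      have hx1 : x = 1 := Subgroup.mem_bot.1 (h ▸ hCS hxC)
      rw [hx1, orderOf_one] at hx
      omega
    haveI := S.2.center_nontrivial
    obtain ⟨z0, hz0⟩ := exists_prime_orderOf_dvd_card' (G := ↥(Subgroup.center ↥(S : Subgroup G))) 2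
      ((S.2.to_subgroup _).card_eq_or_dvd.resolve_left Finite.one_lt_card.ne')
    set z : G := ((z0 : ↥(S : Subgroup G)) : G) with hzdef
    have hz : orderOf z = 2 := by rw [hzdef, Subgroup.orderOf_coe, Subgroup.orderOf_coe, hz0]
    have hzS : ∀ s ∈ (S : Subgroup G), Commute s z := fun s hs =>
      congrArg Subtype.val (Subgroup.mem_center_iff.1 z0.2 ⟨s, hs⟩)
    have hzC : z ∈ C := Subgroup.mem_centralizer_singleton_iff.2 (hzS x (hCS hxC)).symm.eq
    have hxz : ¬ IsConj x z := by
      intro h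
      obtain ⟨g, hg⟩ := isConj_iff.1 h
      have hle : (S : Subgroup G) ≤ C.map (MulAut.conj g).toMonoidHom := by
        intro s hs
        refine ⟨g⁻¹ * s * g, Subgroup.mem_centralizer_singleton_iff.2 ?_, by simp [mul_assoc]⟩
        have h2 : Commute s (g * x * g⁻¹) := hg ▸ hzS s hs
        have h3 := h2.map (MulAut.conj g⁻¹).toMonoidHom
        simpa [mul_assoc] using h3.eq
      have hcard := Subgroup.card_le_of_le hle
      rw [Subgroup.card_map_of_injective (MulAut.conj g).injective] at hcard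
      exact hne' (Subgroup.eq_of_le_of_card_ge hCS hcard).symm
    have hxz' : x ≠ z := fun h => hxz (h ▸ IsConj.refl x)
    have hall : ∀ v ∈ C, v = 1 ∨ v = x ∨ v = z ∨ v = x * z := by
      intro v hv
      by_contra hcon
      simp only [not_or] at hcon
      have e1 : x * z ≠ 1 := fun h => hxz' (by
        rw [eq_inv_of_mul_eq_one_left h, invol_inv hz])
      exact not_five C hC4 (one_mem C) hxC hzC (mul_mem hxC hzC) hv (invol_ne_one hx).symm (invol_ne_one hz).symm
        e1.symm (Ne.symm hcon.1) hxz' (fun h => invol_ne_one hz (left_eq_mul.1 h)) (Ne.symm hcon.2.1)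
        (fun h => invol_ne_one hx (right_eq_mul.1 h)) (Ne.symm hcon.2.2.1) (Ne.symm hcon.2.2.2)
    obtain ⟨s, hsS, hs⟩ : ∃ s : G, s ∈ (S : Subgroup G) ∧ s * x * s⁻¹ = x * z := by
      haveI := S.2.isNilpotent
      have hlt' : C.subgroupOf (S : Subgroup G) < ⊤ := lt_top_iff_ne_top.2 fun h =>
        hlt.not_ge (Subgroup.subgroupOf_eq_top.1 h)
      obtain ⟨m, hm, hmT⟩ := SetLike.exists_of_lt (Group.normalizerCondition_of_isNilpotent _ hlt')
      have h1 := (Subgroup.mem_normalizer_iff.1 hm ⟨x, hCS hxC⟩).1 hxC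
      have h2 : (m : G) * x * (m : G)⁻¹ ∈ C := h1
      rcases hall _ h2 with h | h | h | h
      · exact absurd (conj_eq_one_iff.1 h) (invol_ne_one hx)
      · exact absurd (Subgroup.mem_centralizer_singleton_iff.2 (mul_inv_eq_iff_eq_mul.1 h)) hmT
      · exact absurd (isConj_iff.2 ⟨_, h⟩) hxz
      · exact ⟨_, m.2, h⟩
    -- all conjugates of `z` commute
    have hpair : ∀ v, IsConj z v → Commute v z := by
      intro v hzv
      have hvo : orderOf v = 2 := by rw [orderOf_eq_of_isConj hzv, hz]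
      obtain ⟨w, hwo, hwx, hwv⟩ := exists_commute_both hx hvo
        (even_of_not_isConj hx hvo fun h => hxz (h.trans hzv.symm))
      rcases hall w (Subgroup.mem_centralizer_singleton_iff.2 hwx.eq) with rfl | rfl | rfl | rfl
      · exact absurd rfl (invol_ne_one hwo)
      · exact hCcomm v (Subgroup.mem_centralizer_singleton_iff.2 hwv.symm.eq) z hzC
      · exact hwv.symm
      · rw [← hs] at hwv
        have h' := hwv.symm.map (MulAut.conj s⁻¹).toMonoidHom
        simp only [MulEquiv.coe_toMonoidHom, MulAut.conj_apply] at h'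
        have h'' : Commute (s⁻¹ * v * s) x := by simpa [mul_assoc] using h'
        have h3 := (hCcomm _ (Subgroup.mem_centralizer_singleton_iff.2 h''.eq) z hzC).map (MulAut.conj s).toMonoidHom
        simp only [MulEquiv.coe_toMonoidHom, MulAut.conj_apply] at h3
        rw [show s * z * s⁻¹ = z from mul_inv_eq_iff_eq_mul.2 (hzS s hsS).eq] at h3
        simpa [mul_assoc] using h3
    set E := Subgroup.closure {v : G | IsConj z v} with hE
    have hEn : E.Normal := by
      refine ⟨fun e he g => ?_⟩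
      have hle : E ≤ E.comap (MulAut.conj g).toMonoidHom := (Subgroup.closure_le _).2 fun v hv =>
        Subgroup.subset_closure (IsConj.trans hv (isConj_iff.2 ⟨g, rfl⟩))
      exact hle he
    have hEc : ∀ a ∈ E, ∀ b ∈ E, Commute a b := by
      have h1 : E ≤ Subgroup.centralizer {v : G | IsConj z v} := by
        refine (Subgroup.closure_le _).2 fun a ha b hb => ?_
        obtain ⟨g, rfl⟩ := isConj_iff.1 (show IsConj z a from ha)
        have h := (hpair (g⁻¹ * b * g) (IsConj.trans hb (isConj_iff.2 ⟨g⁻¹, by group⟩))).map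
          (MulAut.conj g).toMonoidHom
        simpa [mul_assoc] using h.eq
      have h2 : E ≤ Subgroup.centralizer (E : Set G) := by
        rw [hE, Subgroup.centralizer_closure]; exact h1
      intro a ha b hb
      exact h2 hb a ha
    have hE2 : ∀ a ∈ E, a * a = 1 := by
      intro a ha
      refine Subgroup.closure_induction (p := fun a _ => a * a = 1) ?_ (one_mul 1) ?_ ?_ ha
      · intro v hv; exact invol_mul_self (by rw [orderOf_eq_of_isConj (show IsConj z v from hv), hz])
      · intro a b ha' hb' ha hb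
        rw [mul_assoc, ← mul_assoc b a b, (hEc b hb' a ha').eq, mul_assoc a b b, hb, mul_one, ha]
      · intro a _ ha; rw [← mul_inv_rev, ha, inv_one]
    have hEe : Cfsg.IsElementaryAbelian 2 E :=
      ⟨⟨⟨fun a b => Subtype.ext (hEc a a.2 b b.2)⟩⟩, fun a ha => by rw [pow_two]; exact hE2 a ha⟩
    have hzE : z ∈ E := Subgroup.subset_closure (IsConj.refl z)
    have hzle : Subgroup.zpowers z ≤ E := Subgroup.zpowers_le.2 hzE
    by_cases hxE : x ∈ E
    · have hEC : E ≤ C := fun e he => Subgroup.mem_centralizer_singleton_iff.2 (hEc e he x hxE).eq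
      have hCE : C ≤ E := fun v hv => by
        rcases hall v hv with rfl | rfl | rfl | rfl
        exacts [one_mem _, hxE, hzE, mul_mem hxE hzE]
      exact (hne E hEn hEe).2 (by rw [le_antisymm hEC hCE, hC4])
    · have hfix : ∀ e ∈ E, x * e * x⁻¹ = e → e = 1 ∨ e = z := by
        intro e he hfe
        rcases hall e (Subgroup.mem_centralizer_singleton_iff.2 (mul_inv_eq_iff_eq_mul.1 hfe).symm) with h | h | h | h
        · exact Or.inl h
        · exact absurd (h ▸ he) hxE
        · exact Or.inr h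
        · exact absurd (by simpa [h, mul_assoc] using mul_mem he (inv_mem hzE)) hxE
      -- commutation with `x` has kernel and image in `⟨z⟩`
      let δ : ↥E →* G := MonoidHom.mk' (fun e => (e : G) * (x * (e : G) * x⁻¹)) (fun a b => by
        have hb' : x * (a : G) * x⁻¹ ∈ E := hEn.conj_mem a a.2 x
        calc (a : G) * b * (x * ((a : G) * b) * x⁻¹) = (a : G) * b * (x * a * x⁻¹) * (x * b * x⁻¹) := by group
          _ = (a : G) * (x * a * x⁻¹) * b * (x * b * x⁻¹) := by
            rw [mul_assoc (a : G) b, (hEc b b.2 _ hb').eq]; group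
          _ = _ := by group)
      have hker : Nat.card δ.ker ≤ 2 := by
        let f : ↥δ.ker → Bool := fun e => decide (((e : ↥E) : G) = 1)
        have hmem : ∀ e : ↥δ.ker, ((e : ↥E) : G) = 1 ∨ ((e : ↥E) : G) = z := fun e => by
          have h := MonoidHom.mem_ker.1 e.2
          refine hfix _ (e : ↥E).2 ?_
          have h' : x * ((e : ↥E) : G) * x⁻¹ = ((e : ↥E) : G)⁻¹ := eq_inv_of_mul_eq_one_right h
          rw [h', inv_eq_of_mul_eq_one_right (hE2 _ (e : ↥E).2)]
        have hf : Function.Injective f := by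
          intro a b hab
          simp only [f, decide_eq_decide] at hab
          apply Subtype.ext; apply Subtype.ext
          rcases hmem a with ha | ha <;> rcases hmem b with hb | hb <;> simp_all [invol_ne_one hz]
        simpa using Nat.card_le_card_of_injective f hf
      have hran : δ.range ≤ Subgroup.zpowers z := by
        rintro _ ⟨e, rfl⟩
        show (e : G) * (x * (e : G) * x⁻¹) ∈ Subgroup.zpowers z
        have hm : x * (e : G) * x⁻¹ ∈ E := hEn.conj_mem e e.2 x
        rcases hfix _ (mul_mem e.2 hm) (by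
          calc x * ((e : G) * (x * e * x⁻¹)) * x⁻¹ = (x * e * x⁻¹) * ((x * x) * e * (x * x)⁻¹) := by group
            _ = (x * e * x⁻¹) * e := by rw [invol_mul_self hx]; group
            _ = e * (x * e * x⁻¹) := ((hEc _ hm e e.2)).eq) with h | h <;> rw [h]
        exacts [one_mem _, Subgroup.mem_zpowers z]
      have hcardE : Nat.card E ≤ 4 := by
        rw [← δ.ker.card_mul_index, Subgroup.index_ker]
        have := Subgroup.card_le_of_le hran
        rw [Nat.card_zpowers, hz] at this
        calc Nat.card δ.ker * Nat.card δ.range ≤ 2 * 2 := Nat.mul_le_mul hker this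
          _ = 4 := rfl
      have h2 : 2 ∣ Nat.card E := hz ▸ Subgroup.orderOf_dvd_natCard E hzE
      obtain ⟨j, hj⟩ := IsPGroup.iff_card.1 (show IsPGroup 2 E from
        fun e => ⟨1, Subtype.ext (by simpa [pow_two] using hE2 e e.2)⟩)
      rw [hj] at hcardE h2
      have hj2 : j ≤ 2 := (Nat.pow_le_pow_iff_right (le_refl 2)).1 (hcardE.trans_eq rfl)
      have := hne E hEn hEe
      rw [hj] at this
      interval_cases j
      · norm_num at h2
      · exact this.1 rfl
      · exact this.2 rfl
  have hnn : ¬ (S : Subgroup G).Normal := fun h =>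
    (hne _ h ⟨⟨⟨fun a b => Subtype.ext (hCcomm a (hSC ▸ a.2) b (hSC ▸ b.2))⟩⟩, fun a ha => hCe a (hSC ▸ ha)⟩).2
      (by rw [hSC, hC4])
  have hncyc : ¬ IsCyclic ↥(S : Subgroup G) := by
    rintro ⟨g, hg⟩
    have h4 : Nat.card (S : Subgroup G) = 4 := by rw [hSC, hC4]
    rw [← orderOf_eq_card_of_forall_mem_zpowers hg] at h4
    have h2 : orderOf g ∣ 2 := orderOf_dvd_of_pow_eq_one (Subtype.ext (hCe g (hSC ▸ g.2)))
    rw [h4] at h2
    exact absurd (Nat.le_of_dvd (by norm_num) h2) (by norm_num)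
  -- an element of odd order normalizing `S` without centralizing it
  set N := Subgroup.normalizer ((S : Subgroup G) : Set G) with hN
  obtain ⟨m, hmN, hmodd, hmS⟩ : ∃ m ∈ N, Odd (orderOf m) ∧ m ∉ Subgroup.centralizer ((S : Subgroup G) : Set G) := by
    by_contra hcon
    simp only [not_exists, not_and, not_not] at hcon
    have hle : N ≤ Subgroup.centralizer ((S : Subgroup G) : Set G) := by
      intro g hg
      obtain ⟨k, q, hq, hkq⟩ := Nat.exists_eq_two_pow_mul_odd (orderOf_pos g).ne'
      have h1 : g ^ 2 ^ k ∈ Subgroup.centralizer ((S : Subgroup G) : Set G) := hcon _ (pow_mem hg _) (by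
        rw [orderOf_pow' _ (by positivity), hkq, Nat.gcd_eq_right (dvd_mul_right _ _),
          Nat.mul_div_cancel_left _ (by positivity)]; exact hq)
      have h2 : g ^ q ∈ Subgroup.centralizer ((S : Subgroup G) : Set G) := by
        haveI : ((S : Subgroup G).subgroupOf N).Normal := Subgroup.normal_in_normalizer
        have h3 : (⟨g, hg⟩ : N) ^ q ∈ (S : Subgroup G).subgroupOf N :=
          CfsgLib.InvChar.mem_of_normal_of_coprime_index (p := 2) (k := k)
            (Subtype.ext (by simp [← pow_mul, mul_comm q, ← hkq, pow_orderOf_eq_one]))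
            (Nat.prime_two.coprime_iff_not_dvd.2 fun h =>
              S.not_dvd_index (h.trans (Subgroup.relIndex_dvd_index_of_le Subgroup.le_normalizer)))
        have h4 : g ^ q ∈ (S : Subgroup G) := h3
        intro s hs
        exact (hCcomm s (hSC ▸ hs) _ (hSC ▸ h4)).eq
      have hco : Nat.gcd (2 ^ k) q = 1 := (Nat.coprime_two_left.2 hq).pow_left k
      have hb : g ^ ((2 ^ k).gcd q : ℕ) = g := by rw [hco, pow_one]
      rw [← hb, ← zpow_natCast, Nat.gcd_eq_gcd_ab, zpow_add, zpow_mul, zpow_mul, zpow_natCast, zpow_natCast]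
      exact mul_mem (zpow_mem h1 _) (zpow_mem h2 _)
    refine hnc ⟨S, (MonoidHom.transferSylow S hle).ker, inferInstance, MonoidHom.ker_transferSylow_isComplement' S hle⟩
  have hfixall : ∀ u, u ∈ (S : Subgroup G) → u ≠ 1 → m * u * m⁻¹ ≠ u := by
    intro u huS hu1 hu
    refine hmS ?_
    have h2 : ∀ w ∈ (S : Subgroup G), (m * m) * w * (m * m)⁻¹ = w := by
      intro w hw
      have hw1 : m * w * m⁻¹ ∈ (S : Subgroup G) := (Subgroup.mem_normalizer_iff.1 hmN w).1 hw
      have hw2 : (m * m) * w * (m * m)⁻¹ ∈ (S : Subgroup G) :=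
        (Subgroup.mem_normalizer_iff.1 (mul_mem hmN hmN) w).1 hw
      by_contra hne2
      have hw0 : w ≠ 1 := fun h => hne2 (by simp [h])
      have hwu : w ≠ u := fun h => hne2 (by
        rw [h, show m * m * u * (m * m)⁻¹ = m * (m * u * m⁻¹) * m⁻¹ by group, hu, hu])
      have hcancel : ∀ a b : G, m * a * m⁻¹ = m * b * m⁻¹ → a = b := fun a b h =>
        mul_left_cancel (mul_right_cancel h)
      have e1 : m * w * m⁻¹ ≠ u := fun h => hwu (hcancel _ _ (h.trans hu.symm))
      have e2 : m * w * m⁻¹ ≠ w := fun h => hne2 (by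
        rw [show m * m * w * (m * m)⁻¹ = m * (m * w * m⁻¹) * m⁻¹ by group, h, h])
      have e3 : m * m * w * (m * m)⁻¹ ≠ u := fun h => e1 (hcancel _ _ ((by
        rw [show m * (m * w * m⁻¹) * m⁻¹ = m * m * w * (m * m)⁻¹ by group, h, hu])))
      have e4 : m * m * w * (m * m)⁻¹ ≠ m * w * m⁻¹ := fun h => e2 (hcancel _ _ (by
        rw [show m * (m * w * m⁻¹) * m⁻¹ = m * m * w * (m * m)⁻¹ by group, h]))
      have f1 : m * w * m⁻¹ ≠ 1 := fun h => hw0 (conj_eq_one_iff.1 h)
      have f2 : m * m * w * (m * m)⁻¹ ≠ 1 := fun h => hw0 (conj_eq_one_iff.1 h)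
      exact not_five (S : Subgroup G) (by rw [hSC, hC4]) (one_mem _) huS hw hw1 hw2 hu1.symm hw0.symm f1.symm
        f2.symm hwu.symm e1.symm e3.symm e2.symm (Ne.symm hne2) e4.symm
    intro s hs
    obtain ⟨t, ht⟩ := hmodd
    have e : m = (m * m) ^ (t + 1) := by
      rw [← pow_two, ← pow_mul, show 2 * (t + 1) = (2 * t + 1) + 1 by ring, ← ht, pow_succ,
        pow_orderOf_eq_one, one_mul]
    have hc2 : Commute s (m * m) := (mul_inv_eq_iff_eq_mul.1 (h2 s hs)).symm
    rw [e]
    exact (hc2.pow_right _).eq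
  have hconj : ∀ t : G, orderOf t = 2 → IsConj x t := by
    intro t ht
    obtain ⟨g, hg⟩ := exists_conj_invol_mem_sylow S ht
    refine IsConj.trans ?_ (isConj_iff.2 ⟨g⁻¹, show g⁻¹ * (g * t * g⁻¹) * g⁻¹⁻¹ = t by group⟩)
    set u := g * t * g⁻¹ with hu
    have hu1 : u ≠ 1 := fun h => invol_ne_one ht (conj_eq_one_iff.1 h)
    have hxS : x ∈ (S : Subgroup G) := hSC ▸ hxC
    set y := m * x * m⁻¹ with hy
    have hyS : y ∈ (S : Subgroup G) := (Subgroup.mem_normalizer_iff.1 hmN x).1 hxS
    set y2 := m * y * m⁻¹ with hy2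
    have hy2S : y2 ∈ (S : Subgroup G) := (Subgroup.mem_normalizer_iff.1 hmN y).1 hyS
    have hx1 := invol_ne_one hx
    have hy1 : y ≠ 1 := fun h => hx1 (conj_eq_one_iff.1 h)
    have hy21 : y2 ≠ 1 := fun h => hy1 (conj_eq_one_iff.1 h)
    have d1 : y ≠ x := hfixall x hxS hx1
    have d2 : y2 ≠ y := hfixall y hyS hy1
    have d3 : y2 ≠ x := by
      intro h
      -- otherwise the third involution is fixed
      have hxy : x * y ≠ 1 := fun h1 => d1 (by
        rw [eq_inv_of_mul_eq_one_left h1, inv_eq_of_mul_eq_one_right (pow_two y ▸ hCe y (hSC ▸ hyS))])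
      refine hfixall (x * y) (mul_mem hxS hyS) hxy ?_
      rw [show m * (x * y) * m⁻¹ = (m * x * m⁻¹) * (m * y * m⁻¹) by group, ← hy, ← hy2, h]
      exact (hCcomm y (hSC ▸ hyS) x hxC).eq
    by_contra hne3
    have c1 : u ≠ x := fun h => hne3 (h ▸ IsConj.refl x)
    have c2 : u ≠ y := fun h => hne3 (h ▸ isConj_iff.2 ⟨m, rfl⟩)
    have c3 : u ≠ y2 := fun h => hne3 (h ▸ isConj_iff.2 ⟨m * m, by rw [hy2, hy]; group⟩)
    exact not_five (S : Subgroup G) (by rw [hSC, hC4]) (one_mem _) hxS hyS hy2S hg hx1.symm hy1.symm hy21.symm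
      hu1.symm d1.symm d3.symm c1.symm d2.symm c2.symm c3.symm
  obtain ⟨F, iF, iF', hF, ⟨e⟩⟩ := Cfsg.Agent.S1230.result S hncyc hnn (fun t ht => by
    obtain ⟨g, rfl⟩ := isConj_iff.1 (hconj t ht)
    have hmem : ∀ c ∈ Subgroup.centralizer ({g * x * g⁻¹} : Set G), g⁻¹ * c * g ∈ C := by
      intro c hc
      have h := (show Commute c (g * x * g⁻¹) from Subgroup.mem_centralizer_singleton_iff.1 hc).map
        (MulAut.conj g⁻¹).toMonoidHom
      refine Subgroup.mem_centralizer_singleton_iff.2 ?_
      simpa [mul_assoc] using h.eq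
    refine ⟨⟨⟨fun a b => Subtype.ext ?_⟩⟩, fun c hc => ?_⟩
    · have h := (hCcomm _ (hmem a a.2) _ (hmem b b.2)).map (MulAut.conj g).toMonoidHom
      simp only [MulEquiv.coe_toMonoidHom, MulAut.conj_apply] at h
      rw [show g * (g⁻¹ * (a : G) * g) * g⁻¹ = a by group, show g * (g⁻¹ * (b : G) * g) * g⁻¹ = b by group] at h
      exact h.eq
    · have h := congrArg (fun w => g * w * g⁻¹) (hCe _ (hmem c hc))
      simp only [pow_two, mul_one, mul_inv_cancel] at h
      rw [pow_two, ← h]; group)
  have hF4 : Fintype.card F = 4 := by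
    rw [hF]; show Nat.card (S : Subgroup G) = 4; rw [hSC, hC4]
  obtain ⟨e'⟩ := Cfsg.Agent.S0252.result hF4
  exact ⟨e.trans e'⟩

end Cfsg.Agent.S3277
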