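import Cfsg.Statements.S0235
import Cfsg.Agent.Lib.Invol.Basic

set_option autoImplicit false
open Cfsg

namespace Cfsg.Agent.S0235

/-- If x² ≠ 1, the ordered pairs (u, v) of involutions with uv = x correspond bijectively to the involutions t with t x t⁻¹ = x⁻¹ (via (u, v) ↦ u), so the two counts agree. -/
theorem result {G : Type*} [Group G] [Finite G] (x : G) (hx : x ^ 2 ≠ 1) : Nat.card {p : G × G // orderOf p.1 = 2 ∧ orderOf p.2 = 2 ∧ p.1 * p.2 = x} = Nat.card {t : G // orderOf t = 2 ∧ t * x * t⁻¹ = x⁻¹} := by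
  refine Nat.card_congr ⟨fun p => ⟨p.1.1, p.2.1, ?_⟩, fun t => ⟨(t.1, t.1 * x), t.2.1, ?_, ?_⟩,
    ?_, ?_⟩
  · obtain ⟨⟨u, v⟩, hu, hv, rfl⟩ := p
    exact CfsgLib.Invol.conj_left_mul hu hv
  · obtain ⟨t, ht, htx⟩ := t
    show orderOf (t * x) = 2
    refine CfsgLib.Invol.invol_of_mul_self ?_ fun h => hx ?_
    · rw [← mul_assoc]
      nth_rewrite 1 [← CfsgLib.Invol.invol_inv ht] at htx
      rw [CfsgLib.Invol.invol_inv ht] at htx
      rw [htx, inv_mul_cancel]
    · rw [eq_inv_of_mul_eq_one_right h, CfsgLib.Invol.invol_inv ht, pow_two,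
        CfsgLib.Invol.invol_mul_self ht]
  · show t.1 * (t.1 * x) = x
    rw [← mul_assoc, CfsgLib.Invol.invol_mul_self t.2.1, one_mul]
  · rintro ⟨⟨u, v⟩, hu, hv, h⟩
    simp only at h
    refine Subtype.ext (Prod.ext rfl ?_)
    show u * x = v
    rw [← h, ← mul_assoc, CfsgLib.Invol.invol_mul_self hu, one_mul]
  · rintro ⟨t, ht⟩
    rfl

end Cfsg.Agent.S0235
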