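import Cfsg.Statements.S0239
import Cfsg.Agent.Lib.Invol.Basic

set_option autoImplicit false
open Cfsg

namespace Cfsg.Agent.S0239

/-- If some nontrivial element x of a finite group G is conjugate to x⁻¹, then |G| is even. -/
theorem result {G : Type*} [Group G] [Finite G] (x : G) (hx : x ≠ 1) (hreal : IsConj x x⁻¹) : Even (Nat.card G) := by
  obtain ⟨g, hg⟩ := isConj_iff.1 hreal
  by_contra hodd
  rw [Nat.not_even_iff_odd] at hodd
  have h2 : (g * g) * x * (g * g)⁻¹ = x := by
    calc (g * g) * x * (g * g)⁻¹ = g * (g * x * g⁻¹) * g⁻¹ := by group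
      _ = g * x⁻¹ * g⁻¹ := by rw [hg]
      _ = (g * x * g⁻¹)⁻¹ := by group
      _ = x := by rw [hg, inv_inv]
  have hord : Odd (orderOf g) := hodd.of_dvd_nat (orderOf_dvd_natCard g)
  obtain ⟨m, hm⟩ := hord
  have hgm : g = (g * g) ^ (m + 1) := by
    rw [← pow_two, ← pow_mul, show 2 * (m + 1) = orderOf g + 1 by omega, pow_succ,
      pow_orderOf_eq_one, one_mul]
  have hfix : g * x * g⁻¹ = x := by
    have hc : Commute (g * g) x := by
      unfold Commute SemiconjBy
      exact mul_inv_eq_iff_eq_mul.1 h2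
    have := hc.pow_left (m + 1)
    rw [← hgm] at this
    rw [this.eq, mul_inv_cancel_right]
  rw [hg] at hfix
  have hxo : orderOf x = 2 := CfsgLib.Invol.invol_of_inv hfix hx
  have := hodd.of_dvd_nat (hxo ▸ orderOf_dvd_natCard x)
  exact absurd this (by decide)

end Cfsg.Agent.S0239
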