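import Cfsg.Statements.S3189
import Cfsg.Agent.Lib.Invol.EightMain
import Cfsg.Agent.Lib.StructC.SmallCommutatorElement
import Cfsg.Agent.Lib.Transfer.AbelianSylow

set_option autoImplicit false
open Cfsg

namespace Cfsg.Agent.S3189

/-- Let G be a non-abelian finite simple group whose Sylow 2-subgroup S is elementary abelian of order 8, and suppose the centralizer of every involution of G is solvable. Then the normalizer of S modulo the centralizer of S has order 7. -/
theorem result {G : Type*} [Group G] [Finite G]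
    [IsSimpleGroup G] (hG : ¬ IsMulCommutative G) (S : Sylow 2 G)
    (hS : Cfsg.IsElementaryAbelian 2 (S : Subgroup G)) (hS8 : Nat.card ↥(S : Subgroup G) = 8)
    (hC : ∀ t : G, orderOf t = 2 → Group.IsSolvable ↥(Subgroup.centralizer ({t} : Set G))) :
    (Subgroup.centralizer ((S : Subgroup G) : Set G)).relIndex (Subgroup.normalizer ((S : Subgroup G) : Set G)) = 7 := by
  classical
  have : IsMulCommutative (S : Subgroup G) := hS.1
  have hab : ∀ a ∈ (S : Subgroup G), ∀ b ∈ (S : Subgroup G), a * b = b * a := fun a ha b hb =>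
    congrArg Subtype.val (hS.1.is_comm.comm (⟨a, ha⟩ : (S : Subgroup G)) ⟨b, hb⟩)
  have hperf : commutator G = ⊤ :=
    (Subgroup.Normal.eq_bot_or_eq_top (H := commutator G) inferInstance).resolve_left fun h => hG
      ⟨⟨fun a b => commutatorElement_eq_one_iff_mul_comm.1 (by
        have := Subgroup.commutator_mem_commutator (Subgroup.mem_top a) (Subgroup.mem_top b)
        rwa [← commutator_def, h, Subgroup.mem_bot] at this)⟩⟩
  set N := Subgroup.normalizer ((S : Subgroup G) : Set G) with hN
  set C := Subgroup.centralizer ((S : Subgroup G) : Set G) with hC'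
  let φ : N →* MulAut (S : Subgroup G) := (S : Subgroup G).normalizerMonoidHom
  have hker : φ.ker = C.subgroupOf N := Subgroup.normalizerMonoidHom_ker _
  have ha : C.relIndex N = Nat.card φ.range := by
    rw [← Subgroup.index_ker, hker]; rfl
  have h168 : C.relIndex N ∣ 168 := by
    have h := CfsgLib.StructC.SmallComm.card_mulAut_dvd (V := (S : Subgroup G))
      (fun a b => hS.1.is_comm.comm a b)
      (fun a => Subtype.ext (by rw [SubmonoidClass.coe_pow]; exact hS.2 a a.2)) (n := 3) hS8
    rw [show ∏ i : Fin 3, (2 ^ 3 - 2 ^ (i : ℕ)) = 168 from rfl] at h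
    exact ha ▸ (Subgroup.card_subgroup_dvd_card _).trans h
  have hodd : ¬ 2 ∣ C.relIndex N := fun h => S.not_dvd_index
    (h.trans ((Subgroup.relIndex_dvd_of_le_left N (Subgroup.le_centralizer _)).trans
      (Subgroup.relIndex_dvd_index_of_le Subgroup.le_normalizer)))
  have h21 : C.relIndex N ∣ 21 := by
    refine (Nat.Coprime.dvd_of_dvd_mul_left ?_ (show C.relIndex N ∣ 8 * 21 from h168))
    rw [show 8 = 2 ^ 3 from rfl]
    exact Nat.Coprime.pow_right 3 ((Nat.prime_two.coprime_iff_not_dvd.2 hodd).symm)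
  -- fixed points of the range
  let : MulAction φ.range (S : Subgroup G) := MulAction.compHom _ φ.range.subtype
  have h7 : 7 ∣ C.relIndex N := by
    by_contra h7
    have h3 : C.relIndex N ∣ 3 :=
      (Nat.Coprime.dvd_of_dvd_mul_left (((show Nat.Prime 7 by norm_num).coprime_iff_not_dvd.2 h7).symm)
        (show C.relIndex N ∣ 7 * 3 from h21))
    have : Fact (Nat.Prime 3) := ⟨Nat.prime_three⟩
    obtain ⟨k, -, hk⟩ := (Nat.dvd_prime_pow Nat.prime_three).1 (show Nat.card φ.range ∣ 3 ^ 1 by
      rw [← ha, pow_one]; exact h3)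
    have hp : IsPGroup 3 φ.range := IsPGroup.of_card (n := k) hk
    have hmod := hp.card_modEq_card_fixedPoints (S : Subgroup G)
    rw [hS8] at hmod
    obtain ⟨f, hf, hf1⟩ : ∃ f ∈ MulAction.fixedPoints φ.range (S : Subgroup G), f ≠ 1 := by
      by_contra hcon
      push Not at hcon
      have h1 : MulAction.fixedPoints φ.range (S : Subgroup G) = {1} := by
        refine Set.ext fun x => ⟨hcon x, ?_⟩
        rintro (rfl : x = 1)
        exact fun g => map_one g.1
      rw [h1, Nat.card_coe_set_eq, Set.ncard_singleton] at hmod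
      exact absurd hmod (by decide)
    have hfc : (f : G) ∈ Subgroup.centralizer (N : Set G) := by
      refine Subgroup.mem_centralizer_iff.2 fun n hn => ?_
      exact mul_inv_eq_iff_eq_mul.1 (congrArg Subtype.val (hf ⟨φ ⟨n, hn⟩, ⟨n, hn⟩, rfl⟩) :)
    have hfocal := CfsgLib.Transfer.commutator_inf_abelian_sylow S
    rw [hperf, top_inf_eq] at hfocal
    have hd := (CfsgLib.Transfer.abelian_sylow_decomposition S).1
    rw [← hfocal] at hd
    exact hf1 (Subtype.ext (Subgroup.mem_bot.1 (hd ▸
      (Subgroup.mem_inf.2 ⟨f.2, Subgroup.mem_inf.2 ⟨f.2, hfc⟩⟩ :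
        (f : G) ∈ (S : Subgroup G) ⊓ ((S : Subgroup G) ⊓ Subgroup.centralizer (N : Set G))))))
  -- transitivity
  have htrans : ∀ f : (S : Subgroup G), f ≠ 1 → ∀ t : (S : Subgroup G), t ≠ 1 →
      t ∈ MulAction.orbit φ.range f := by
    intro f hf t ht
    have : Fact (Nat.Prime 7) := ⟨by norm_num⟩
    obtain ⟨g, hg⟩ := exists_prime_orderOf_dvd_card' 7 (ha ▸ h7)
    have hp : IsPGroup 7 (Subgroup.zpowers g) :=
      IsPGroup.of_card (n := 1) (by rw [Nat.card_zpowers, hg, pow_one])
    let F : Subgroup (S : Subgroup G) :=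
      { carrier := MulAction.fixedPoints (Subgroup.zpowers g) (S : Subgroup G)
        one_mem' := fun x => map_one (x.1).1
        mul_mem' := fun {a b} ha hb x => by
          have e1 : (x.1).1 a = a := ha x
          have e2 : (x.1).1 b = b := hb x
          show (x.1).1 (a * b) = a * b
          rw [map_mul, e1, e2]
        inv_mem' := fun {a} ha x => by
          have e1 : (x.1).1 a = a := ha x
          show (x.1).1 a⁻¹ = a⁻¹
          rw [map_inv, e1] }
    have hmod : 8 ≡ Nat.card F [MOD 7] := hS8 ▸ hp.card_modEq_card_fixedPoints (S : Subgroup G)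
    obtain ⟨i, hi, hiF⟩ := (Nat.dvd_prime_pow Nat.prime_two).1
      (show Nat.card F ∣ 2 ^ 3 by rw [show (2 : ℕ) ^ 3 = 8 from rfl, ← hS8]
                                  exact Subgroup.card_subgroup_dvd_card F)
    have hFbot : F = ⊥ := by
      interval_cases i
      · exact Subgroup.card_eq_one.1 (by simpa using hiF)
      · rw [hiF] at hmod; exact absurd hmod (by decide)
      · rw [hiF] at hmod; exact absurd hmod (by decide)
      · exfalso
        have hFt : F = ⊤ := Subgroup.eq_top_of_card_eq F (by rw [hiF, hS8]; rfl)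
        have hg1 : g = 1 := Subtype.ext (MulEquiv.ext fun x =>
          ((hFt ▸ Subgroup.mem_top x : x ∈ F) ⟨g, Subgroup.mem_zpowers g⟩ :))
        rw [hg1, orderOf_one] at hg
        omega
    obtain ⟨j, hj, hjo⟩ := (Nat.dvd_prime_pow (Fact.out : Nat.Prime 7)).1
      (show (MulAction.orbit (Subgroup.zpowers g) f).ncard ∣ 7 ^ 1 by
        rw [← MulAction.index_stabilizer, pow_one]
        have := Subgroup.index_dvd_card (MulAction.stabilizer (Subgroup.zpowers g) f)
        rwa [Nat.card_zpowers, hg] at this)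
    have hsub : MulAction.orbit (Subgroup.zpowers g) f ⊆ ({1}ᶜ : Set (S : Subgroup G)) := by
      rintro _ ⟨x, rfl⟩ h
      exact hf ((map_eq_one_iff (x.1).1 (MulEquiv.injective _)).1 h)
    have hcompl : ({1}ᶜ : Set (S : Subgroup G)).ncard = 7 := by
      rw [Set.ncard_compl, Set.ncard_singleton, hS8]
    have heq : MulAction.orbit (Subgroup.zpowers g) f = ({1}ᶜ : Set (S : Subgroup G)) := by
      refine Set.eq_of_subset_of_ncard_le hsub ?_ (Set.toFinite _)
      rw [hcompl, hjo]
      rcases (show j = 0 ∨ j = 1 by omega) with rfl | rfl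
      · exfalso
        have hfix : f ∈ MulAction.fixedPoints (Subgroup.zpowers g) (S : Subgroup G) := by
          intro x
          obtain ⟨w, hw⟩ := Set.ncard_eq_one.1 hjo
          have h1 := MulAction.mem_orbit f x
          have h2 := (MulAction.mem_orbit_self f : f ∈ MulAction.orbit (Subgroup.zpowers g) f)
          rw [hw, Set.mem_singleton_iff] at h1 h2
          rw [h1, ← h2]
        exact hf (Subgroup.mem_bot.1 (hFbot ▸ (hfix : f ∈ F)))
      · norm_num
    obtain ⟨x, hx⟩ := (heq ▸ (ht : t ∈ ({1}ᶜ : Set (S : Subgroup G))) :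
      t ∈ MulAction.orbit (Subgroup.zpowers g) f)
    exact ⟨x.1, hx⟩
  obtain ⟨i, hi⟩ : ∃ i, C.relIndex N = 7 * i := h7
  have hi3 : i ∣ 3 := by
    rw [hi, show 21 = 7 * 3 from rfl] at h21
    exact Nat.dvd_of_mul_dvd_mul_left (by norm_num) h21
  rcases Nat.prime_three.eq_one_or_self_of_dvd i hi3 with rfl | rfl
  · simpa using hi
  exfalso
  obtain ⟨z, hz⟩ := exists_prime_orderOf_dvd_card' (G := (S : Subgroup G)) 2 (by rw [hS8]; norm_num)
  have hz1 : z ≠ 1 := fun h => by rw [h, orderOf_one] at hz; norm_num at hz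
  have horb : MulAction.orbit φ.range z = ({1}ᶜ : Set (S : Subgroup G)) := by
    refine Set.Subset.antisymm ?_ fun t ht => htrans z hz1 t ht
    rintro _ ⟨x, rfl⟩ h
    exact hz1 ((map_eq_one_iff x.1 (MulEquiv.injective _)).1 h)
  have hconj : ∀ t ∈ (S : Subgroup G), t ≠ 1 → IsConj (z : G) t := by
    intro t ht ht1
    obtain ⟨⟨_, n, rfl⟩, hx⟩ := htrans z hz1 ⟨t, ht⟩ fun h => ht1 (congrArg Subtype.val h)
    exact isConj_iff.2 ⟨n, congrArg Subtype.val hx⟩
  set H := Subgroup.centralizer ({(z : G)} : Set G)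
  have hidx : (N ⊓ H).relIndex N = 7 := by
    let : MulAction N (S : Subgroup G) := MulAction.compHom _ φ
    have e : (N ⊓ H).subgroupOf N = MulAction.stabilizer N z := by
      ext n
      rw [Subgroup.mem_subgroupOf, Subgroup.mem_inf, MulAction.mem_stabilizer_iff]
      constructor
      · rintro ⟨-, h⟩
        exact Subtype.ext (mul_inv_eq_iff_eq_mul.2 (Subgroup.mem_centralizer_singleton_iff.1 h) :)
      · intro h
        exact ⟨n.2, Subgroup.mem_centralizer_singleton_iff.2
          (mul_inv_eq_iff_eq_mul.1 (congrArg Subtype.val h :))⟩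
    rw [Subgroup.relIndex, e, MulAction.index_stabilizer,
      show MulAction.orbit N z = MulAction.orbit φ.range z from Set.ext fun t =>
        ⟨fun ⟨n, hn⟩ => ⟨⟨φ n, n, rfl⟩, hn⟩, fun ⟨⟨_, n, rfl⟩, hn⟩ => ⟨n, hn⟩⟩,
      horb, Set.ncard_compl, Set.ncard_singleton, hS8]
  have hle : C ≤ N ⊓ H := le_inf (Subgroup.centralizer_le_normalizer _)
    (Subgroup.centralizer_le (Set.singleton_subset_iff.2 z.2))
  have hstab : C.relIndex (N ⊓ H) = 3 := by
    have := Subgroup.relIndex_mul_relIndex C (N ⊓ H) N hle inf_le_left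
    rw [hidx, hi] at this
    omega
  let D : CfsgLib.Invol.Eight.Data G :=
    { S := S
      z := z
      hab := hab
      hexp := fun a ha => by rw [← pow_two]; exact hS.2 a ha
      h8 := hS8
      hzS := z.2
      hz := by rw [Subgroup.orderOf_coe, hz]
      hconj := hconj
      hsol := hC z (by rw [Subgroup.orderOf_coe, hz])
      hstab := hstab }
  refine D.false_of_perfect fun χ h1 => ?_
  obtain ⟨l, hl⟩ := CfsgLib.Char.exists_hom_of_degree_one (CfsgLib.Char.irr_isCharacter χ.2) h1
  have hk : l.ker = ⊤ := top_le_iff.1 (hperf ▸ Abelianization.commutator_subset_ker l)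
  funext g
  rw [hl]
  simp [MonoidHom.mem_ker.1 (hk ▸ Subgroup.mem_top g : g ∈ l.ker)]

end Cfsg.Agent.S3189
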