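import Cfsg.Statements.S0486
import Cfsg.Agent.S3176
import Cfsg.Agent.Lib.Invol.UThreeFour.Shape

set_option autoImplicit false
open Cfsg

namespace Cfsg.Agent.S0486

/-- A finite simple group whose Sylow 2-subgroups are isomorphic to a Sylow 2-subgroup of the projective special
unitary group of dimension 3 over the field with 16 elements is isomorphic to that unitary group. -/
theorem result {G : Type*} [Group G] [Finite G] [IsSimpleGroup G]
    {F : Type*} [Field F] [Fintype F] (hF : Fintype.card F = 16) (S : Sylow 2 G) (P : Sylow 2 (Cfsg.PSU 3 F 4))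
    (hS : Nonempty ((S : Subgroup G) ≃* (P : Subgroup (Cfsg.PSU 3 F 4)))) :
    Nonempty (G ≃* Cfsg.PSU 3 F 4) := by
  obtain ⟨f⟩ := hS
  obtain ⟨g⟩ := CfsgLib.Invol.UU.sylow_equiv hF P
  obtain ⟨Z, hZ, -⟩ := CfsgLib.Invol.UThreeFour.exists_shape (f.trans g)
  haveI : Fact (Nat.Prime 2) := ⟨Nat.prime_two⟩
  have hS64 : Nat.card (S : Subgroup G) = 64 := hZ.cardS
  have heven : ¬ Odd (Nat.card G) := fun h => by
    have h2 : 2 ∣ Nat.card G := dvd_trans (by norm_num : 2 ∣ 64)
      (hS64 ▸ Subgroup.card_subgroup_dvd_card (S : Subgroup G))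
    exact Nat.not_even_iff_odd.2 h (even_iff_two_dvd.2 h2)
  have hO : Cfsg.oddCore G = ⊥ := by
    haveI : (Cfsg.oddCore G).Normal := CfsgLib.Solvable.pPrimeCore_normal 2 G
    refine ((inferInstance : (Cfsg.oddCore G).Normal).eq_bot_or_eq_top).resolve_right fun h => heven ?_
    have := CfsgLib.Invol.odd_card_oddCore G
    rwa [h, Subgroup.card_top] at this
  have hO' : ∀ N : Subgroup G, N.Normal → Odd N.index → N = ⊤ := fun N hN hodd =>
    hN.eq_bot_or_eq_top.resolve_left fun h => heven (by rwa [h, Subgroup.index_bot] at hodd)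
  refine (Cfsg.Agent.S3176.result hF S P ⟨f⟩ hO hO').resolve_right fun htop => ?_
  have hZn : Z.Normal := ⟨fun z hz x => by
    rw [← hZ.cen z hz x (htop ▸ Subgroup.mem_top x), mul_inv_cancel_right]; exact hz⟩
  rcases hZn.eq_bot_or_eq_top with h | h
  · have := hZ.cardZ
    rw [h, Subgroup.card_bot] at this
    omega
  · have h1 := hZ.cardZ
    rw [h, Subgroup.card_top] at h1
    rw [htop, Subgroup.card_top, h1] at hS64
    omega

end Cfsg.Agent.S0486
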