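import Cfsg.Statements.S1237
import Cfsg.Agent.Lib.Invol.HigmanTwo
import Cfsg.Agent.Lib.Invol.PSUThreeFour

set_option autoImplicit false
set_option linter.style.haveILetI false
open Cfsg

namespace Cfsg.Agent.S1237

open CfsgLib.Invol

theorem exists_higData {T : Type*} [Group T] [Finite T] (hT : IsPGroup 2 T)
    (h2 : Cfsg.PRankLE 2 2 T) (h1 : ¬ Cfsg.PRankLE 2 1 T) (φ : MulAut T)
    (htrans : ∀ s t : T, orderOf s = 2 → orderOf t = 2 → ∃ k : ℕ, (φ ^ k) s = t) :
    Nonempty (HigData T) := by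
  classical
  haveI : Fact (Nat.Prime 2) := ⟨Nat.prime_two⟩
  obtain ⟨A, -, hA2, hA⟩ : ∃ A : Subgroup T, IsMulCommutative A ∧ (∀ a ∈ A, a ^ 2 = 1) ∧
      2 < Nat.card A := by
    by_contra hc
    push Not at hc
    exact h1 fun A hAc hA2 => by simpa using hc A hAc hA2
  haveI : Nontrivial T := Finite.one_lt_card_iff_nontrivial.1
    (lt_of_lt_of_le (by omega) (Subgroup.card_le_card_group A))
  haveI := hT.center_nontrivial
  obtain ⟨c, hc⟩ := exists_prime_orderOf_dvd_card' 2
    ((hT.to_subgroup (Subgroup.center T)).card_eq_or_dvd.resolve_left Finite.one_lt_card.ne')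
  have hc2 : orderOf (c : T) = 2 := by rw [Subgroup.orderOf_coe]; exact hc
  have hcentφ : ∀ k : ℕ, (φ ^ k) (c : T) ∈ Subgroup.center T := by
    intro k
    rw [Subgroup.mem_center_iff]
    intro g
    obtain ⟨g, rfl⟩ := (φ ^ k).surjective g
    rw [← map_mul, ← map_mul, Subgroup.mem_center_iff.1 c.2 g]
  have hone : ∀ s : T, s * s = 1 → s ≠ 1 → orderOf s = 2 := fun s hs hs1 =>
    orderOf_eq_prime (by rw [pow_two]; exact hs) hs1
  have hcentral : ∀ s : T, s * s = 1 → ∀ g : T, Commute s g := by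
    intro s hs g
    by_cases hs1 : s = 1
    · rw [hs1]; exact Commute.one_left g
    obtain ⟨k, rfl⟩ := htrans c s hc2 (hone s hs hs1)
    exact (Subgroup.mem_center_iff.1 (hcentφ k) g).symm
  let V : Subgroup T :=
    { carrier := {s | s * s = 1}
      one_mem' := one_mul 1
      mul_mem' := fun {a b} ha hb => by
        show a * b * (a * b) = 1
        rw [((hcentral b hb) a).mul_mul_mul_comm, show a * a = 1 from ha, show b * b = 1 from hb,
          one_mul]
      inv_mem' := fun {a} ha => by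
        show a⁻¹ * a⁻¹ = 1
        rw [← mul_inv_rev, show a * a = 1 from ha, inv_one] }
  have hV4 : Nat.card V ≤ 4 := h2 V
    ⟨⟨fun a b => Subtype.ext (hcentral a a.2 b).eq⟩⟩ fun a ha => by rw [pow_two]; exact ha
  have hAV : A ≤ V := fun a ha => by
    show a * a = 1
    rw [← pow_two]; exact hA2 a ha
  have hV3 : 3 ≤ Nat.card V := le_trans hA (Subgroup.card_le_of_le hAV)
  have hcV : (c : T) * c = 1 := by rw [← pow_two, ← hc2, pow_orderOf_eq_one]
  have hc1 : (c : T) ≠ 1 := fun e => by rw [e, orderOf_one] at hc2; omega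
  set z : T := (c : T) with hz
  have hψV : ∀ (τ : MulAut T) (s : T), s * s = 1 → τ s * τ s = 1 := fun τ s hs => by
    rw [← map_mul, hs, map_one]
  -- the orbit of `z` contains every involution
  have horb : ∀ s : T, s * s = 1 → s ≠ 1 → ∃ k : ℕ, (φ ^ k) z = s := fun s hs hs1 =>
    htrans z s hc2 (hone s hs hs1)
  have hVfin : ∀ S : Finset T, (∀ s : T, s * s = 1 → s ∈ S) → Nat.card V ≤ S.card := by
    intro S hS
    have := Nat.card_le_card_of_injective (fun s : V => (⟨s.1, hS s.1 s.2⟩ : {x // x ∈ S}))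
      fun a b e => Subtype.ext (Subtype.mk.inj e)
    simpa using this
  have hstep : ∀ (k : ℕ) (x : T), (φ ^ (k + 1)) x = φ ((φ ^ k) x) := fun k x => by
    rw [pow_succ']; rfl
  have h01 : φ z ≠ z := by
    intro e
    have hall : ∀ k, (φ ^ k) z = z := fun k => by
      induction k with
      | zero => rfl
      | succ k ih => rw [hstep, ih, e]
    have := hVfin {1, z} fun s hs => by
      by_cases hs1 : s = 1
      · simp [hs1]
      · obtain ⟨k, rfl⟩ := horb s hs hs1
        simp [hall k]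
    have h' := this.trans Finset.card_le_two
    omega
  have h02 : φ (φ z) ≠ z := by
    intro e
    have hall : ∀ k, (φ ^ k) z = z ∨ (φ ^ k) z = φ z := fun k => by
      induction k with
      | zero => exact Or.inl rfl
      | succ k ih =>
        rcases ih with ih | ih
        · exact Or.inr (by rw [hstep, ih])
        · exact Or.inl (by rw [hstep, ih, e])
    have := hVfin {1, z, φ z} fun s hs => by
      by_cases hs1 : s = 1
      · simp [hs1]
      · obtain ⟨k, rfl⟩ := horb s hs hs1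
        rcases hall k with h | h <;> simp [h]
    have h' := this.trans Finset.card_le_three
    obtain ⟨n, hn⟩ := IsPGroup.iff_card.1 (hT.to_subgroup V)
    rw [hn] at hV3 hV4 h'
    have hn3 : n < 3 := (Nat.pow_lt_pow_iff_right (by norm_num : 1 < 2)).1 (lt_of_le_of_lt hV4 (by norm_num))
    interval_cases n <;> omega
  have hne : ∀ x : T, x * x = 1 → x ≠ 1 → φ x * φ x = 1 ∧ φ x ≠ 1 := fun x hx hx1 =>
    ⟨hψV φ x hx, fun e => hx1 (φ.injective (e.trans (map_one φ).symm))⟩
  obtain ⟨z1s, z1n⟩ := hne z hcV hc1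
  obtain ⟨z2s, z2n⟩ := hne _ z1s z1n
  have h12 : φ (φ z) ≠ φ z := fun e => h01 (φ.injective e)
  have hcover : ∀ s : T, s * s = 1 → s = 1 ∨ s = z ∨ s = φ z ∨ s = φ (φ z) := by
    intro s hs
    by_contra hcon
    push Not at hcon
    have h5 : ({1, z, φ z, φ (φ z), s} : Finset T).card = 5 := by
      rw [Finset.card_insert_of_notMem, Finset.card_insert_of_notMem, Finset.card_insert_of_notMem,
        Finset.card_insert_of_notMem, Finset.card_singleton]
      · simp [hcon.2.2.2.symm]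
      · simp [h12.symm, hcon.2.2.1.symm]
      · simp [h01.symm, h02.symm, hcon.2.1.symm]
      · simp [hc1.symm, z1n.symm, z2n.symm, hcon.1.symm]
    have : ({1, z, φ z, φ (φ z), s} : Finset T).card ≤ Nat.card V := by
      haveI := Fintype.ofFinite V
      rw [Nat.card_eq_fintype_card, ← Finset.card_univ, ← Finset.card_map (Function.Embedding.subtype (fun x => x ∈ V))]
      refine Finset.card_le_card fun x hx => ?_
      simp only [Finset.mem_map, Finset.mem_univ, true_and]
      refine ⟨⟨x, ?_⟩, rfl⟩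
      show x * x = 1
      simp only [Finset.mem_insert, Finset.mem_singleton] at hx
      rcases hx with rfl | rfl | rfl | rfl | rfl
      exacts [one_mul 1, hcV, z1s, z2s, hs]
    omega
  have h3 : φ (φ (φ z)) = z := by
    obtain ⟨hs, hn⟩ := hne _ z2s z2n
    rcases hcover _ hs with e | e | e | e
    · exact absurd e hn
    · exact e
    · exact absurd (φ.injective e) h02
    · exact absurd (φ.injective e) h12
  have hmod : ∀ k : ℕ, (φ ^ k) z = (φ ^ (k % 3)) z := by
    intro k
    induction k using Nat.strong_induction_on with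
    | _ k ih =>
      by_cases hk : k < 3
      · rw [Nat.mod_eq_of_lt hk]
      · obtain ⟨j, rfl⟩ : ∃ j, k = j + 3 := ⟨k - 3, by omega⟩
        rw [Nat.add_mod_right, ← ih j (by omega), pow_add]
        show (φ ^ j) (φ (φ (φ z))) = _
        rw [h3]
  haveI : Finite (MulAut T) := Finite.of_injective (fun τ : MulAut T => (τ : T → T)) DFunLike.coe_injective
  obtain ⟨a, m, hm3, hN⟩ := Nat.exists_eq_pow_mul_and_not_dvd (orderOf_pos φ).ne' 3 (by norm_num)
  set ψ := φ ^ m with hψ
  have hψa : ψ ^ 3 ^ a = 1 := by rw [hψ, ← pow_mul, mul_comm, ← hN, pow_orderOf_eq_one]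
  have hψz : ψ z = φ z ∧ ψ (ψ z) = φ (φ z) ∨ ψ z = φ (φ z) ∧ ψ (ψ z) = φ z := by
    have e2 : ψ (ψ z) = (φ ^ (2 * m)) z := by rw [two_mul, pow_add]; rfl
    rw [e2, hmod (2 * m), show ψ z = (φ ^ (m % 3)) z from hmod m]
    rcases (show m % 3 = 1 ∧ 2 * m % 3 = 2 ∨ m % 3 = 2 ∧ 2 * m % 3 = 1 by omega) with ⟨e, e'⟩ | ⟨e, e'⟩
    · rw [e, e']; exact Or.inl ⟨rfl, rfl⟩
    · rw [e, e']; exact Or.inr ⟨rfl, rfl⟩
  have hψfix : ∀ i : ℕ, ψ ((φ ^ i) z) ≠ (φ ^ i) z := by
    intro i e
    have e' : (φ ^ i) (ψ z) = (φ ^ i) z := by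
      rw [← e]
      show (φ ^ i * φ ^ m) z = (φ ^ m * φ ^ i) z
      rw [← pow_add, ← pow_add, add_comm]
    have hz' := (φ ^ i).injective e'
    rcases hψz with ⟨h, -⟩ | ⟨h, -⟩ <;> rw [h] at hz'
    · exact h01 hz'
    · exact h02 hz'
  refine ⟨⟨ψ, z, hT, ⟨a, hψa⟩, fun x hx => ?_, hc2, hcentral, fun s hs => ?_⟩⟩
  · by_contra hx1
    obtain ⟨k, hk⟩ := hT x
    obtain ⟨s, hs, hs1, hsfix⟩ : ∃ s : T, s * s = 1 ∧ s ≠ 1 ∧ ψ s = s := by
      induction k generalizing x with
      | zero => exact absurd (by simpa using hk) hx1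
      | succ k ih =>
        by_cases hxx : x * x = 1
        · exact ⟨x, hxx, hx1, hx⟩
        · exact ih (x * x) (by rw [map_mul, hx]) hxx
            (by rw [← pow_two, ← pow_mul, ← pow_succ']; exact hk)
    obtain ⟨i, rfl⟩ := horb s hs hs1
    exact hψfix i hsfix
  · rcases hψz with ⟨e1, e2⟩ | ⟨e1, e2⟩ <;> rw [e2, e1]
    · exact hcover s hs
    · rcases hcover s hs with h | h | h | h
      exacts [Or.inl h, Or.inr (Or.inl h), Or.inr (Or.inr (Or.inr h)), Or.inr (Or.inr (Or.inl h))]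

/-- The Sylow 2-subgroup of `PSU_3(4)` as an example. -/
theorem uu_higData {F : Type*} [Field F] [Fintype F] (hF : Fintype.card F = 16) :
    Nonempty (HigData (UU F hF)) ∧ ¬ IsMulCommutative (UU F hF) := by
  classical
  haveI : Fact (Nat.Prime 2) := ⟨Nat.prime_two⟩
  haveI : Fact (Nat.Prime 3) := ⟨Nat.prime_three⟩
  haveI : Finite (UU F hF) := Nat.finite_of_card_ne_zero (by rw [UU.card_eq]; norm_num)
  obtain ⟨u, hu⟩ := exists_prime_orderOf_dvd_card' (G := Fˣ) 3
    (by rw [Nat.card_units, Nat.card_eq_fintype_card, hF]; norm_num)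
  set l : F := (u : F) with hl
  have hl3 : l ^ 3 = 1 := by
    rw [hl, ← Units.val_pow_eq_pow_val, ← hu, pow_orderOf_eq_one, Units.val_one]
  have hl1 : l ≠ 1 := fun e => by rw [Units.val_eq_one.1 e, orderOf_one] at hu; omega
  have hl0 : l ≠ 0 := u.ne_zero
  have hls : 1 + l + l ^ 2 = 0 := by
    have h : (l - 1) * (1 + l + l ^ 2) = 0 := by linear_combination hl3
    exact (mul_eq_zero.1 h).resolve_left (sub_ne_zero.2 hl1)
  have hl5 : l * l ^ 4 = l ^ 2 := by linear_combination l ^ 2 * hl3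
  have hl8 : (l ^ 2) ^ 4 = l ^ 2 := by linear_combination (l ^ 5 + l ^ 2) * hl3
  let σ : UU F hF →* UU F hF :=
    { toFun := fun x => ⟨l * x.a, l ^ 2 * x.b, by
        rw [mul_pow, mul_pow, hl8]
        linear_combination l ^ 2 * x.ok + x.a * x.a ^ 4 * hl5⟩
      map_one' := by ext <;> simp [UU.one_a, UU.one_b]
      map_mul' := fun x y => by
        ext
        · simp only [UU.mul_a]; ring
        · simp only [UU.mul_b, mul_pow]
          linear_combination (-(x.a * y.a ^ 4)) * hl5 }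
  have hσ3 : ∀ x, σ (σ (σ x)) = x := fun x => by
    ext
    · show l * (l * (l * x.a)) = x.a
      linear_combination x.a * hl3
    · show l ^ 2 * (l ^ 2 * (l ^ 2 * x.b)) = x.b
      linear_combination (l ^ 3 + 1) * x.b * hl3
  let ψ : MulAut (UU F hF) := MonoidHom.toMulEquiv σ (σ.comp σ)
    (MonoidHom.ext fun x => hσ3 x) (MonoidHom.ext fun x => hσ3 x)
  let z : UU F hF := ⟨0, 1, by linear_combination sixteen_two hF⟩
  have ha0 : ∀ s : UU F hF, s * s = 1 → s.a = 0 := fun s hs => by
    have h : (s ^ 2).b = 0 := by rw [pow_two, hs, UU.one_b]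
    rw [UU.sq_b, mul_eq_zero, pow_eq_zero_iff (by norm_num : (4 : ℕ) ≠ 0), or_self] at h
    exact h
  refine ⟨⟨⟨ψ, z, IsPGroup.of_card (n := 6) (by rw [UU.card_eq]; norm_num), ⟨1, ?_⟩, ?_, ?_, ?_, ?_⟩⟩, ?_⟩
  · exact MulEquiv.ext fun x => hσ3 x
  · intro x hx
    have hxa : l * x.a = x.a := congrArg UU.a hx
    have hxb : l ^ 2 * x.b = x.b := congrArg UU.b hx
    have e1 : (l - 1) * x.a = 0 := by linear_combination hxa
    have e2 : (l ^ 2 - 1) * x.b = 0 := by linear_combination hxb
    have hl2 : l ^ 2 - 1 ≠ 0 := fun e => hl1 (by linear_combination hl3 - l * e)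
    ext
    · exact (mul_eq_zero.1 e1).resolve_left (sub_ne_zero.2 hl1)
    · exact (mul_eq_zero.1 e2).resolve_left hl2
  · refine orderOf_eq_prime (by rw [UU.sq_eq_one_of_center rfl]) fun e => ?_
    have : (1 : F) = 0 := congrArg UU.b e
    exact one_ne_zero this
  · intro s hs g
    exact (Subgroup.mem_center_iff.1 (UU.mem_center_iff.2 (ha0 s hs)) g).symm
  · intro s hs
    have hsa := ha0 s hs
    have hb := s.ok
    rw [hsa, zero_mul, add_zero] at hb
    have hprod : s.b * ((s.b - 1) * (s.b - l ^ 2) * (s.b - l)) = 0 := by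
      have hneg := sixteen_two hF
      linear_combination hb - s.b * hneg - s.b ^ 3 * hls + s.b ^ 2 * (l * hls) + (-s.b) * hl3
    simp only [mul_eq_zero, sub_eq_zero] at hprod
    have he : ∀ (v : F) (t : UU F hF), t.a = 0 → t.b = v → s.b = v → s = t := fun v t h1 h2 h3 =>
      UU.ext (hsa.trans h1.symm) (h3.trans h2.symm)
    rcases hprod with h | (h | h) | h
    · exact Or.inl (he 0 1 rfl rfl h)
    · exact Or.inr (Or.inl (he 1 z rfl rfl h))
    · exact Or.inr (Or.inr (Or.inl (he _ (ψ z) (mul_zero l) (mul_one _) h)))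
    · refine Or.inr (Or.inr (Or.inr (he _ (ψ (ψ z)) ?_ ?_ h)))
      · show l * (l * 0) = 0
        simp
      · show l ^ 2 * (l ^ 2 * 1) = l
        linear_combination l * hl3
  · intro hcomm
    have htop : Subgroup.center (UU F hF) = ⊤ := by
      rw [eq_top_iff]
      exact fun x _ => Subgroup.mem_center_iff.2 fun g => hcomm.is_comm.comm g x
    have := UU.card_center (hF := hF)
    rw [htop, Subgroup.card_top, UU.card_eq] at this
    omega

/-- Let T be a finite 2-group of 2-rank exactly 2 (it has a Klein four-subgroup but no elementary abelian subgroup of order 8) admitting an automorphism φ such that any two involutions of T are carried to one another by a power of φ. Then T ≅ Z_{2^n} × Z_{2^n} for some n ≥ 1, or T is isomorphic to a Sylow 2-subgroup of PSU(3) over the field with 16 elements. -/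
theorem result {T : Type*} [Group T] [Finite T] (hT : IsPGroup 2 T) (h2 : Cfsg.PRankLE 2 2 T) (h1 : ¬ Cfsg.PRankLE 2 1 T) (φ : MulAut T) (htrans : ∀ s t : T, orderOf s = 2 → orderOf t = 2 → ∃ k : ℕ, (φ ^ k) s = t) {F : Type*} [Field F] [Fintype F] (hF : Fintype.card F = 16) (P : Sylow 2 (Cfsg.PSU 3 F 4)) : (∃ n : ℕ, 1 ≤ n ∧ Nonempty (T ≃* Multiplicative (ZMod (2 ^ n) × ZMod (2 ^ n)))) ∨ Nonempty (T ≃* (P : Subgroup (Cfsg.PSU 3 F 4))) := by
  classical
  obtain ⟨H⟩ := exists_higData hT h2 h1 φ htrans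
  by_cases hab : IsMulCommutative T
  · exact Or.inl (H.homocyclic fun a b => hab.is_comm.comm a b)
  right
  obtain ⟨e⟩ := CfsgLib.Invol.UU.sylow_equiv hF P
  obtain ⟨⟨K⟩, hK⟩ := uu_higData hF
  haveI : Finite (CfsgLib.Invol.UU F hF) := Finite.of_equiv _ e.toEquiv
  obtain ⟨g1⟩ := H.exists_gens hab
  obtain ⟨g2⟩ := K.exists_gens hK
  obtain ⟨f⟩ := g1.mulEquiv g2
  exact ⟨f.trans e.symm⟩

end Cfsg.Agent.S1237
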