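import Cfsg.Statements.S1080
import Cfsg.Agent.Lib.Chev.Good
-- import your own Cfsg.Agent.* helpers here

set_option autoImplicit false
open Cfsg

namespace Cfsg.Agent.S1080

/-- Field automorphisms: for every field automorphism `f` there is a group automorphism sending each `x_r(t)` to `x_r(f t)`. -/
theorem result {F : Type*} [Field F] (D : Cfsg.Lie.ChevalleyDatum) (hD : D ∈ [Cfsg.Lie.chevG2, Cfsg.Lie.chevB2, Cfsg.Lie.chevD4, Cfsg.Lie.chevF4, Cfsg.Lie.chevE6, Cfsg.Lie.chevE7, Cfsg.Lie.chevE8]) (f : F ≃+* F) :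
    ∃ α : ↥(D.group F) ≃* ↥(D.group F), ∀ (g : ↥(D.group F)) (r : ℕ) (t : F), r < D.nroots →
      ((g : GL D.Idx F) : Matrix D.Idx D.Idx F) = D.x F r t → ((α g : GL D.Idx F) : Matrix D.Idx D.Idx F) = D.x F r (f t) := by
  have g := CfsgLib.Chev.good_of_mem hD
  let φ : GL D.Idx F ≃* GL D.Idx F := Units.mapEquiv (f.mapMatrix (m := D.Idx)).toMulEquiv
  have hφ : ∀ (r : ℕ) (t : F), φ (g.xG r t) = g.xG r (f t) := by
    intro r t
    refine Units.ext ?_
    show (D.x F r t).map f = D.x F r (f t)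
    by_cases hr : r < D.nroots
    · rw [g.x_eq_xr hr, g.x_eq_xr hr]
      exact CfsgLib.Chev.xr_map f.toRingHom r t
    · rw [CfsgLib.Chev.Good.x_out hr, CfsgLib.Chev.Good.x_out hr]
      exact Matrix.map_one _ (map_zero f) (map_one f)
  have hmap : (D.group F).map φ.toMonoidHom = D.group F := by
    rw [Cfsg.Lie.ChevalleyDatum.group, MonoidHom.map_closure]
    congr 1
    ext y
    constructor
    · rintro ⟨z, ⟨r, t, hz⟩, rfl⟩
      have hx : z = g.xG r t := g.eq_xG (by simpa [Cfsg.Lie.ChevalleyDatum.x] using hz)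
      refine ⟨r, f t, ?_⟩
      subst hx
      rw [MulEquiv.coe_toMonoidHom, hφ, g.coe_xG]
      simp [Cfsg.Lie.ChevalleyDatum.x]
    · rintro ⟨r, t, hy⟩
      refine ⟨g.xG r (f.symm t), ⟨r, f.symm t, by simp [g.coe_xG, Cfsg.Lie.ChevalleyDatum.x]⟩, ?_⟩
      rw [MulEquiv.coe_toMonoidHom, hφ, f.apply_symm_apply]
      exact (g.eq_xG (by simpa [Cfsg.Lie.ChevalleyDatum.x] using hy)).symm
  refine ⟨(φ.subgroupMap (D.group F)).trans (MulEquiv.subgroupCongr hmap), fun u r t hr hu => ?_⟩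
  have hx : (u : GL D.Idx F) = g.xG r t := g.eq_xG hu
  show ((φ (u : GL D.Idx F) : GL D.Idx F) : Matrix D.Idx D.Idx F) = _
  rw [hx, hφ, g.coe_xG]

end Cfsg.Agent.S1080
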