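import Cfsg.Statements.S0962
import Cfsg.Agent.Lib.Block.LamZero
import Cfsg.Agent.Lib.Block.DefectOrder

set_option autoImplicit false
open Cfsg CfsgLib.Block

namespace Cfsg.Agent.S0962

/-- Fix a maximal ideal M of the algebraic integers containing the prime p and a natural number d. The number of blocks of the finite group G of defect at least d is at most the number of conjugacy classes of p-regular elements of G of defect at least d, where the defect of a class is the exponent of p in the order of the centralizer of any of its elements. -/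
theorem result {G : Type*} [Group G] [Finite G] (p : ℕ) [Fact p.Prime] (M : Ideal Cfsg.AlgInt) (hM : Cfsg.IsPModular p M) (d : ℕ) : Nat.card {B : Set (Cfsg.IrrCharacter G) // Cfsg.IsPBlock M B ∧ d ≤ Cfsg.blockDefect p B} ≤ Nat.card {C : ConjClasses G // ∃ g : G, ConjClasses.mk g = C ∧ Cfsg.IsPRegular p g ∧ d ≤ (Nat.card (Subgroup.centralizer ({g} : Set G))).factorization p} := by
  classical
  have := isPrime_of_pmodular hM
  have := Fintype.ofFinite G
  let T := {C : ConjClasses G // ∃ g : G, ConjClasses.mk g = C ∧ Cfsg.IsPRegular p g ∧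
    d ≤ (Nat.card (Subgroup.centralizer ({g} : Set G))).factorization p}
  let β := {B : Set (Cfsg.IrrCharacter G) // Cfsg.IsPBlock M B ∧ d ≤ Cfsg.blockDefect p B}
  have : Finite (ConjClasses G) := Finite.of_surjective ConjClasses.mk ConjClasses.mk_surjective
  have := Fintype.ofFinite T
  have := Fintype.ofFinite β
  have := Fintype.ofFinite (ConjClasses G)
  let v : β → T → kres M :=
    fun B C => (blkIdem M B.1 : MonoidAlgebra (kres M) G).coeff C.1.out
  have hli : LinearIndependent (kres M) v := by
    rw [Fintype.linearIndependent_iff]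
    intro c hc A
    obtain ⟨χ, hχ⟩ := isPBlock_nonempty A.2.1
    set z := ∑ B : β, c B • blkIdem M B.1 with hz
    have h1 : lam M χ z = c A := by
      rw [hz, map_sum, Finset.sum_eq_single A]
      · rw [map_smul, (algHom_blkIdem_eq_one_iff hM A.2.1 χ).2 hχ, smul_eq_mul, mul_one]
      · intro B _ hB
        rw [map_smul, lam_blkIdem hM B.2.1 χ, if_neg, smul_zero]
        exact fun h => hB (Subtype.ext (isPBlock_eq_of_mem B.2.1 A.2.1 h hχ))
      · simp
    by_contra hne
    rw [← h1] at hne
    obtain ⟨g, hg0, hgl⟩ := exists_classSumZ_of_lam_ne_zero hM A.2.1 hχ hne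
    obtain ⟨y, hy⟩ := exists_isDefectClass hM A.2.1
    let P : Sylow p (Subgroup.centralizer ({y} : Set G)) := Classical.arbitrary _
    let Q : Sylow p (Subgroup.centralizer ({g} : Set G)) := Classical.arbitrary _
    obtain ⟨x, hx⟩ := exists_defect_le_conj hM A.2.1 hy P hχ hgl Q
    have hgT : d ≤ (Nat.card (Subgroup.centralizer ({g} : Set G))).factorization p := by
      have h2 := Subgroup.card_le_of_le hx
      rw [natCard_map_conj, natCard_cenSub, natCard_cenSub,
        Nat.pow_le_pow_iff_right hM.1.one_lt, ← blockDefect_eq hM A.2.1 hy] at h2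
      exact A.2.2.trans h2
    apply hg0
    rw [hz, AddSubmonoidClass.coe_finsetSum, MonoidAlgebra.coeff_sum, Finset.sum_apply']
    simp only [SetLike.val_smul, MonoidAlgebra.coeff_smul, Finsupp.smul_apply, smul_eq_mul]
    by_cases hgr : p ∣ orderOf g
    · exact Finset.sum_eq_zero fun B _ => by
        rw [blkIdem_coeff_eq_zero_of_singular hM B.2.1 hgr, mul_zero]
    · have h3 := congrFun hc ⟨ConjClasses.mk g, g, rfl, hgr, hgT⟩
      simp only [v, Finset.sum_apply, Pi.smul_apply, smul_eq_mul, Pi.zero_apply] at h3
      rw [← h3]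
      refine Finset.sum_congr rfl fun B _ => ?_
      rw [coeff_eq_of_isConj (isClassCoeff_center (blkIdem M B.1))
        (ConjClasses.mk_eq_mk_iff_isConj.1 (Quotient.out_eq (ConjClasses.mk g)).symm)]
  have h := hli.fintype_card_le_finrank
  rwa [Module.finrank_pi, ← Nat.card_eq_fintype_card, ← Nat.card_eq_fintype_card] at h

end Cfsg.Agent.S0962
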