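import Cfsg.Statements.S0953
import Cfsg.Agent.Lib.Block.LamZero
import Cfsg.Agent.Lib.Block.FrobTrick
import Cfsg.Agent.Lib.Block.FirstMain
import Cfsg.Agent.S0962

set_option autoImplicit false
open Cfsg CfsgLib.Block

namespace Cfsg.Agent.S0953

/-- Let P be a Sylow p-subgroup of the finite group G with normalizer N, and fix a maximal ideal M of the algebraic integers containing p. The number of blocks of G having P as a defect group equals the number of conjugacy classes of N consisting of elements of order prime to p that centralize P. -/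
theorem result {G : Type*} [Group G] [Finite G] (p : ℕ) [Fact p.Prime] (M : Ideal Cfsg.AlgInt) (hM : Cfsg.IsPModular p M) (P : Sylow p G) : Nat.card {B : Set (Cfsg.IrrCharacter G) // Cfsg.IsPBlock M B ∧ Cfsg.IsDefectGroup p M B (P : Subgroup G)} = Nat.card {C : ConjClasses (Subgroup.normalizer ((P : Subgroup G) : Set G)) // ∀ n : Subgroup.normalizer ((P : Subgroup G) : Set G), ConjClasses.mk n = C → ¬ p ∣ orderOf n ∧ (n : G) ∈ Subgroup.centralizer ((P : Subgroup G) : Set G)} := by
  classical
  have := isPrime_of_pmodular hM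
  have := charP_kres hM
  have := Fintype.ofFinite G
  set a := (Nat.card G).factorization p with ha
  have hPcard : Nat.card (P : Subgroup G) = p ^ a := Sylow.card_eq_multiplicity P
  have hmaxP : ∀ D : Subgroup G, IsPGroup p D → p ^ a ≤ Nat.card D →
      ∃ x : G, (P : Subgroup G).map (MulAut.conj x).toMonoidHom = D := by
    intro D hD hcard
    obtain ⟨Q, hQ⟩ := hD.exists_le_sylow
    obtain ⟨x, hx⟩ := MulAction.exists_smul_eq G P Q
    refine ⟨x, ?_⟩
    have h1 : (P : Subgroup G).map (MulAut.conj x).toMonoidHom = (Q : Subgroup G) :=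
      congrArg (fun S : Sylow p G => (S : Subgroup G)) hx
    refine h1.trans (Subgroup.eq_of_le_of_card_ge hQ ?_).symm
    rw [Sylow.card_eq_multiplicity Q]
    exact hcard
  have hdef : ∀ B : Set (Cfsg.IrrCharacter G), Cfsg.IsPBlock M B →
      (Cfsg.IsDefectGroup p M B (P : Subgroup G) ↔ a ≤ Cfsg.blockDefect p B) := by
    intro B hB
    constructor
    · intro h
      rw [← Nat.pow_le_pow_iff_right hM.1.one_lt, ← natCard_defectGroup hM hB h, hPcard]
    · intro h
      obtain ⟨D, hD⟩ := exists_isDefectGroup hM hB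
      obtain ⟨x, hx⟩ := hmaxP D (isPGroup_defectGroup hM hB hD) (by
        rw [natCard_defectGroup hM hB hD]; exact Nat.pow_le_pow_right hM.1.pos h)
      have h2 := defectGroup_conj hM hB (hx ▸ hD) x⁻¹
      rwa [map_conj_map_conj, inv_mul_cancel, map_conj_one] at h2
  let N := Subgroup.normalizer ((P : Subgroup G) : Set G)
  have hPN : (P : Subgroup G) ≤ N := Subgroup.le_normalizer
  have hCN : Subgroup.centralizer ((P : Subgroup G) : Set G) ≤ N :=
    Subgroup.centralizer_le_normalizer _
  let T := {C : ConjClasses N // ∀ n : N, ConjClasses.mk n = C →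
    ¬ p ∣ orderOf n ∧ (n : G) ∈ Subgroup.centralizer ((P : Subgroup G) : Set G)}
  have hout : ∀ C : T, ¬ p ∣ orderOf (C.1.out : N) ∧
      ((C.1.out : N) : G) ∈ Subgroup.centralizer ((P : Subgroup G) : Set G) :=
    fun C => C.2 _ (Quotient.out_eq C.1)
  have hsyl : ∀ c : G, c ∈ Subgroup.centralizer ((P : Subgroup G) : Set G) →
      ∃ S : Sylow p (Subgroup.centralizer ({c} : Set G)),
        cenSub c (S : Subgroup (Subgroup.centralizer ({c} : Set G))) = (P : Subgroup G) := by
    intro c hc
    obtain ⟨S, hS⟩ := exists_sylow_cenSub_ge P.2 (g := c) fun y hy => by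
      rw [Subgroup.mem_centralizer_singleton_iff]
      exact Subgroup.mem_centralizer_iff.1 hc y hy
    exact ⟨S, P.is_maximal' (isPGroup_cenSub c S) hS⟩
  have hinj : ∀ C C' : T, IsConj ((C.1.out : N) : G) ((C'.1.out : N) : G) → C = C' := by
    intro C C' h
    obtain ⟨n, hn, hnc⟩ := exists_normalizer_conj (hsyl _ (hout C).2) (hout C').2 h
    apply Subtype.ext
    rw [← Quotient.out_eq C.1, ← Quotient.out_eq C'.1]
    exact ConjClasses.mk_eq_mk_iff_isConj.2 (isConj_iff.2 ⟨⟨n, hn⟩, Subtype.ext hnc⟩)
  let S := {C : ConjClasses G // ∃ g : G, ConjClasses.mk g = C ∧ Cfsg.IsPRegular p g ∧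
    a ≤ (Nat.card (Subgroup.centralizer ({g} : Set G))).factorization p}
  have : Finite (ConjClasses G) := Finite.of_surjective ConjClasses.mk ConjClasses.mk_surjective
  have : Finite (ConjClasses N) := Finite.of_surjective ConjClasses.mk ConjClasses.mk_surjective
  -- every regular class of full defect comes from `N`
  have hle : Nat.card S ≤ Nat.card T := by
    let f : T → S := fun C => ⟨ConjClasses.mk ((C.1.out : N) : G), _, rfl,
      fun h => (hout C).1 (by rwa [Subgroup.orderOf_coe] at h), by
        obtain ⟨Q, hQ⟩ := hsyl _ (hout C).2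
        rw [← Nat.pow_le_pow_iff_right hM.1.one_lt, ← natCard_cenSub _ Q, hQ, hPcard]⟩
    refine Nat.card_le_card_of_surjective f fun ⟨C, g, hgC, hgr, hga⟩ => ?_
    let Q : Sylow p (Subgroup.centralizer ({g} : Set G)) := Classical.arbitrary _
    obtain ⟨x, hx⟩ := hmaxP (cenSub g Q) (isPGroup_cenSub g Q)
      (by rw [natCard_cenSub]; exact Nat.pow_le_pow_right hM.1.pos hga)
    have hc : x⁻¹ * g * x ∈ Subgroup.centralizer ((P : Subgroup G) : Set G) := by
      rw [Subgroup.mem_centralizer_iff]
      intro w hw
      have h1 : x * w * x⁻¹ ∈ Subgroup.centralizer ({g} : Set G) :=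
        cenSub_le g _ (hx ▸ Subgroup.mem_map_of_mem _ hw)
      rw [Subgroup.mem_centralizer_singleton_iff] at h1
      calc w * (x⁻¹ * g * x) = x⁻¹ * (x * w * x⁻¹ * g) * x := by group
        _ = x⁻¹ * (g * (x * w * x⁻¹)) * x := by rw [h1]
        _ = _ := by group
    let n : N := ⟨x⁻¹ * g * x, hCN hc⟩
    have hnr : ¬ p ∣ orderOf n := by
      rw [← Subgroup.orderOf_coe]
      change ¬ p ∣ orderOf (x⁻¹ * g * x)
      have : orderOf (x⁻¹ * g * x) = orderOf g := by
        simpa using orderOf_injective (MulAut.conj x⁻¹).toMonoidHom (MulAut.conj x⁻¹).injective g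
      rwa [this]
    refine ⟨⟨ConjClasses.mk n, fun m hm => ?_⟩, Subtype.ext ?_⟩
    · obtain ⟨y, hy⟩ := isConj_iff.1 (ConjClasses.mk_eq_mk_iff_isConj.1 hm).symm
      constructor
      · rw [← hy]
        have : orderOf (y * n * y⁻¹) = orderOf n := by
          simpa using orderOf_injective (MulAut.conj y).toMonoidHom (MulAut.conj y).injective n
        rwa [this]
      · rw [← hy, Subgroup.mem_centralizer_iff]
        intro w hw
        have h1 : ((y : G)⁻¹ * w * y) * (n : G) = (n : G) * ((y : G)⁻¹ * w * y) :=
          Subgroup.mem_centralizer_iff.1 hc _ ((Subgroup.mem_normalizer_iff''.1 y.2 w).1 hw)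
        push_cast
        calc w * ((y : G) * n * (y : G)⁻¹) = (y : G) * ((y : G)⁻¹ * w * y * n) * (y : G)⁻¹ := by group
          _ = (y : G) * (n * ((y : G)⁻¹ * w * y)) * (y : G)⁻¹ := by rw [h1]
          _ = _ := by group
    · change ConjClasses.mk (((ConjClasses.mk n).out : N) : G) = C
      rw [← hgC, ConjClasses.mk_eq_mk_iff_isConj]
      have h1 : IsConj n (ConjClasses.mk n).out :=
        (ConjClasses.mk_eq_mk_iff_isConj.1 (Quotient.out_eq (ConjClasses.mk n))).symm
      exact (N.subtype.map_isConj h1).symm.trans (isConj_iff.2 ⟨x, by change x * (x⁻¹ * g * x) * x⁻¹ = g; group⟩)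
  let β := {B : Set (Cfsg.IrrCharacter G) // Cfsg.IsPBlock M B ∧
    Cfsg.IsDefectGroup p M B (P : Subgroup G)}
  refine le_antisymm (le_trans ?_ ((Cfsg.Agent.S0962.result p M hM a).trans hle)) ?_
  · exact le_of_eq (Nat.card_congr (Equiv.subtypeEquivRight fun B =>
      and_congr_right fun hB => hdef B hB))
  -- the lower bound
  have := Fintype.ofFinite T
  have := Fintype.ofFinite β
  have hχ : ∀ B : β, ∃ χ, χ ∈ B.1 := fun B => isPBlock_nonempty B.2.1
  choose χ hχ using hχ
  let zz : (T → kres M) →ₗ[kres M] Subalgebra.center (kres M) (MonoidAlgebra (kres M) G) :=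
    Fintype.linearCombination (kres M) fun C : T => classSumZ (kres M) ((C.1.out : N) : G)
  let L : (T → kres M) →ₗ[kres M] (β → kres M) :=
    LinearMap.pi fun B => (lam M (χ B)).toLinearMap.comp zz
  have hL : Function.Injective L := by
    rw [← LinearMap.ker_eq_bot, LinearMap.ker_eq_bot']
    intro w hw
    set z := zz w with hz
    set q := brHom (k := kres M) P.2 hCN (le_refl N) z with hq
    have hq0 : ∀ ξ : Cfsg.IrrCharacter N, lam M ξ q = 0 := by
      intro ξ
      obtain ⟨B, hind⟩ := exists_isInducedBlock_of_normalizer hM P.2 hPN hCN le_rfl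
        (isPBlock_blockOf (M := M) ξ)
      obtain ⟨Db, hDb⟩ := exists_isDefectGroup hM hind.1
      have : ((P : Subgroup G).subgroupOf N).Normal := Subgroup.normal_in_normalizer
      have h1 : (P : Subgroup G).subgroupOf N ≤ Db :=
        normal_le_defectGroup hM (Q := (P : Subgroup G).subgroupOf N)
          (P.2.comap_subtype (K := N)) hind.1 hDb
      obtain ⟨E, hE, hle'⟩ := exists_map_subtype_le_defect hM hind hDb
      have hBa : a ≤ Cfsg.blockDefect p B := by
        rw [← Nat.pow_le_pow_iff_right hM.1.one_lt, ← natCard_defectGroup hM hind.2.1 hE, ← hPcard]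
        refine Subgroup.card_le_of_le (le_trans ?_ hle')
        rw [show (P : Subgroup G) = ((P : Subgroup G).subgroupOf N).map N.subtype by
          rw [Subgroup.subgroupOf_map_subtype, inf_eq_left.2 hPN]]
        exact Subgroup.map_mono h1
      let B' : β := ⟨B, hind.2.1, (hdef B hind.2.1).2 hBa⟩
      rw [hq, ← lam_resZ_eq_brHom hM P.2 hPN hCN le_rfl,
        (isInducedBlock_iff N hind.1 hind.2.1 (mem_blockOf_self ξ) (hχ B')).1 hind]
      exact congrFun hw B'
    obtain ⟨m, hm⟩ := isNilpotent_of_lam_eq_zero hM hq0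
    have hnil : IsNilpotent (q : MonoidAlgebra (kres M) N) :=
      ⟨m, by rw [← SubmonoidClass.coe_pow, hm]; rfl⟩
    have hval : ∀ n : N, (n : G) ∈ Subgroup.centralizer ((P : Subgroup G) : Set G) →
        (q : MonoidAlgebra (kres M) N).coeff n =
          ∑ C : T, w C * if IsConj ((C.1.out : N) : G) (n : G) then 1 else 0 := by
      intro n hn
      rw [hq, coe_brHom, coeff_brRes_of_mem _ hn, hz, Fintype.linearCombination_apply,
        AddSubmonoidClass.coe_finsetSum, MonoidAlgebra.coeff_sum, Finset.sum_apply']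
      refine Finset.sum_congr rfl fun C _ => ?_
      rw [SetLike.val_smul, MonoidAlgebra.coeff_smul, Finsupp.smul_apply, smul_eq_mul, classSumZ,
        coeff_classSum]
    funext C
    have h2 := coeff_eq_zero_of_isNilpotent (p := p) (isClassCoeff_center q) hnil ?_
      (g := C.1.out) ?_
    · rw [hval _ (hout C).2, Finset.sum_eq_single C] at h2
      · rw [if_pos (IsConj.refl _), mul_one] at h2
        exact h2
      · intro C' _ hne
        rw [if_neg (fun h => hne (hinj C' C h)), mul_zero]
      · simp
    · intro n hn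
      by_cases hnC : (n : G) ∈ Subgroup.centralizer ((P : Subgroup G) : Set G)
      · rw [hval n hnC]
        refine Finset.sum_eq_zero fun C _ => ?_
        rw [if_neg, mul_zero]
        intro h
        obtain ⟨c, hc⟩ := isConj_iff.1 h
        apply (hout C).1
        have h3 : orderOf (n : G) = orderOf ((C.1.out : N) : G) := by
          rw [← hc]
          simpa using orderOf_injective (MulAut.conj c).toMonoidHom (MulAut.conj c).injective
            ((C.1.out : N) : G)
        rw [← Subgroup.orderOf_coe, ← h3, Subgroup.orderOf_coe]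
        exact hn
      · rw [hq, coe_brHom, coeff_brRes_of_not_mem _ hnC]
    · intro hd
      refine P.not_dvd_index ((hd.trans (Subgroup.index_dvd_of_le ?_)).trans
        (Subgroup.relIndex_dvd_index_of_le hPN))
      intro u hu
      rw [Subgroup.mem_centralizer_singleton_iff]
      exact Subtype.ext (Subgroup.mem_centralizer_iff.1 (hout C).2 _ hu)
  have h := LinearMap.finrank_le_finrank_of_injective hL
  rwa [Module.finrank_pi, Module.finrank_pi, ← Nat.card_eq_fintype_card,
    ← Nat.card_eq_fintype_card] at h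

end Cfsg.Agent.S0953
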