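import Cfsg.Statements.S2391
import Mathlib

-- import your own Cfsg.Agent.* helpers here

set_option autoImplicit false
open Cfsg

namespace Cfsg.Agent.S2391

/-- The Borel–Tits property of `SL_n(q)` in flag form: for a field `F` of characteristic `p` with finitely many elements and a non-trivial `p`-subgroup `U` of `SL_n(F)`, there is a flag `0 = V₀ < V₁ < ⋯ < V_{k+1} = F^n` with at least one proper non-zero member such that every element of the normaliser of `U` maps each `V_i` onto itself and every element of `U` acts trivially on each quotient `V_{i+1}/V_i` (so the normaliser lies in the parabolic subgroup of the flag and `U` in its unipotent radical). -/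
theorem result {F : Type*} [Field F] [Fintype F] (p : ℕ) [Fact p.Prime] [CharP F p] (n : ℕ)
    (U : Subgroup (Matrix.SpecialLinearGroup (Fin n) F)) (hU : IsPGroup p ↥U) (hne : U ≠ ⊥) :
    ∃ (k : ℕ) (V : Fin (k + 2) → Submodule F (Fin n → F)), 1 ≤ k ∧ StrictMono V ∧ V 0 = ⊥ ∧ V (Fin.last (k + 1)) = ⊤ ∧
      (∀ g ∈ Subgroup.normalizer (U : Set (Matrix.SpecialLinearGroup (Fin n) F)), ∀ i, (V i).map (Matrix.mulVecLin (g : Matrix (Fin n) (Fin n) F)) = V i) ∧
      (∀ u ∈ U, ∀ i : Fin (k + 1), ∀ v ∈ V i.succ, (u : Matrix (Fin n) (Fin n) F).mulVec v - v ∈ V (Fin.castSucc i)) := by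
  classical
  obtain ⟨W, hW0, hsucc⟩ : ∃ W : ℕ → Submodule F (Fin n → F), W 0 = ⊥ ∧ ∀ i v, v ∈ W (i + 1) ↔
      ∀ u ∈ U, (u : Matrix (Fin n) (Fin n) F).mulVec v - v ∈ W i := by
    refine ⟨fun i => Nat.rec (motive := fun _ => Submodule F (Fin n → F)) ⊥ (fun _ W => ⨅ u : U,
      W.comap (Matrix.mulVecLin ((u : Matrix.SpecialLinearGroup (Fin n) F) :
        Matrix (Fin n) (Fin n) F) - LinearMap.id)) i, rfl, fun i v => ?_⟩
    simp [Submodule.mem_iInf]
  -- each term is stable under the normalizer
  have hnorm : ∀ i, ∀ g ∈ Subgroup.normalizer (U : Set (Matrix.SpecialLinearGroup (Fin n) F)), ∀ v ∈ W i,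
      (g : Matrix (Fin n) (Fin n) F).mulVec v ∈ W i := by
    intro i
    induction i with
    | zero => intro g _ v hv; rw [hW0, Submodule.mem_bot] at hv ⊢; simp [hv]
    | succ i ih =>
      intro g hg v hv
      rw [hsucc] at hv ⊢
      intro u hu
      have h1 := ih g hg _ (hv (g⁻¹ * u * g) ((Subgroup.mem_normalizer_iff''.1 hg u).1 hu))
      rw [Matrix.mulVec_sub, Matrix.mulVec_mulVec, ← Matrix.SpecialLinearGroup.coe_mul,
        show g * (g⁻¹ * u * g) = u * g by group, Matrix.SpecialLinearGroup.coe_mul,
        ← Matrix.mulVec_mulVec] at h1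
      exact h1
  have hmono : ∀ i, W i ≤ W (i + 1) := by
    intro i v hv
    rw [hsucc]
    intro u hu
    exact sub_mem (hnorm i u (Subgroup.le_normalizer hu) v hv) hv
  have hstrict : ∀ i, W i ≠ ⊤ → W i < W (i + 1) := by
    intro i hi
    refine lt_of_le_of_ne (hmono i) fun heq => ?_
    -- the p-group U fixes a non-zero vector of the quotient
    let Q := (Fin n → F) ⧸ W i
    let act : U → Q → Q := fun u => (W i).mapQ (W i) (Matrix.mulVecLin ((u.1 : Matrix.SpecialLinearGroup (Fin n) F) : Matrix (Fin n) (Fin n) F))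
      (fun v hv => hnorm i u.1 (Subgroup.le_normalizer u.2) v hv)
    letI : MulAction U Q :=
      { smul := act
        one_smul := fun x => by
          induction x using Submodule.Quotient.induction_on with
          | _ v => show Submodule.Quotient.mk _ = _; simp
        mul_smul := fun a b x => by
          induction x using Submodule.Quotient.induction_on with
          | _ v =>
            show Submodule.Quotient.mk _ = Submodule.Quotient.mk _
            simp [Matrix.mulVec_mulVec] }
    haveI : Finite Q := Finite.of_surjective (Submodule.Quotient.mk (p := W i))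
      (Submodule.Quotient.mk_surjective _)
    have hdvd : p ∣ Nat.card Q := by
      haveI : Nontrivial Q := Submodule.Quotient.nontrivial_iff.2 hi
      haveI : Fintype Q := Fintype.ofFinite Q
      rw [Nat.card_eq_fintype_card, Module.card_eq_pow_finrank (K := F) (V := Q)]
      obtain ⟨k, -, hk⟩ := FiniteField.card F p
      rw [hk]
      exact dvd_pow (dvd_pow_self p k.ne_zero) Module.finrank_pos.ne'
    have h0 : (0 : Q) ∈ MulAction.fixedPoints U Q := fun u => map_zero ((W i).mapQ (W i) _ _)
    obtain ⟨b, hb, hb0⟩ := hU.exists_fixed_point_of_prime_dvd_card_of_fixed_point Q hdvd h0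
    induction b using Submodule.Quotient.induction_on with
    | _ v =>
      have hv : v ∈ W (i + 1) := (hsucc i v).2 fun u hu => (Submodule.Quotient.eq _).1 (hb ⟨u, hu⟩)
      rw [← heq] at hv
      exact hb0 ((Submodule.Quotient.mk_eq_zero _).2 hv).symm
  have hW1 : W 1 ≠ ⊤ := by
    intro htop
    apply hne
    rw [Subgroup.eq_bot_iff_forall]
    intro u hu
    apply Subtype.ext
    refine Matrix.ext_of_mulVec_single fun j => ?_
    have h1 := (hsucc 0 (Pi.single j 1)).1 (by simp [htop]) u hu
    rw [hW0, Submodule.mem_bot, sub_eq_zero] at h1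
    rw [h1, Matrix.SpecialLinearGroup.coe_one, Matrix.one_mulVec]
  have hex : ∃ i, W i = ⊤ := by
    by_contra! hno
    have hgrow : ∀ i, i ≤ Module.finrank F (W i) := by
      intro i
      induction i with
      | zero => exact Nat.zero_le _
      | succ i ih =>
        have := Submodule.finrank_lt_finrank_of_lt (hstrict i (hno i))
        omega
    have h1 := hgrow (n + 1)
    have h2 := Submodule.finrank_le (W (n + 1))
    rw [Module.finrank_fin_fun] at h2
    omega
  have htop : W (Nat.find hex) = ⊤ := Nat.find_spec hex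
  have hmin : ∀ i < Nat.find hex, W i ≠ ⊤ := fun i hi => Nat.find_min hex hi
  have hn0 : (⊥ : Submodule F (Fin n → F)) ≠ ⊤ := fun h => hW1 (top_le_iff.1 (h.symm.le.trans bot_le))
  obtain ⟨k, hk⟩ : ∃ k, Nat.find hex = k + 1 := ⟨Nat.find hex - 1, by
    have : Nat.find hex ≠ 0 := fun h => hn0 (by rw [h, hW0] at htop; exact htop)
    omega⟩
  rw [hk] at htop hmin
  refine ⟨k, fun i => W i.val, ?_, Fin.strictMono_iff_lt_succ.2 fun i => ?_, hW0, htop, ?_, ?_⟩
  · rcases Nat.eq_zero_or_pos k with rfl | h
    · exact absurd htop hW1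
    · exact h
  · exact hstrict i.val (hmin _ i.2)
  · intro g hg i
    refine le_antisymm (Submodule.map_le_iff_le_comap.2 fun v hv => hnorm _ g hg v hv) fun v hv => ?_
    refine ⟨(g⁻¹ : Matrix.SpecialLinearGroup (Fin n) F).1.mulVec v, hnorm _ g⁻¹ (inv_mem hg) v hv, ?_⟩
    show (g : Matrix (Fin n) (Fin n) F).mulVec _ = v
    rw [Matrix.mulVec_mulVec, ← Matrix.SpecialLinearGroup.coe_mul, mul_inv_cancel,
      Matrix.SpecialLinearGroup.coe_one, Matrix.one_mulVec]
  · intro u hu i v hv
    exact (hsucc i.val v).1 hv u hu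

end Cfsg.Agent.S2391
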