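import Cfsg.Statements.S0827
import Cfsg.Agent.Lib.Geom.UThreeTwo
import Cfsg.Agent.S0282
-- import your own Cfsg.Agent.* helpers here

set_option autoImplicit false
open Cfsg CfsgLib.Geom

namespace Cfsg.Agent.S0827

/-- U_3(2) ≅ 3².Q_8: PSU_3(2) (form over the field with 4 elements) has a normal subgroup N which is elementary abelian of order 9 such that the quotient by N is isomorphic to the quaternion group of order 8. -/
theorem result {F : Type*} [Field F] [Fintype F] (hF : Fintype.card F = 4) : ∃ (N : Subgroup (Cfsg.PSU 3 F 2)) (_ : N.Normal), Nat.card N = 9 ∧ (∀ x ∈ N, x ^ 3 = 1) ∧ Nonempty (Cfsg.PSU 3 F 2 ⧸ N ≃* QuaternionGroup 2) := by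
  have key : ∀ x y : UThreeTwo.Four, x ≠ y → ∃ z, UThreeTwo.fmul (x - y) z = (1, 0) := by decide +kernel
  classical
  have h2 : (2 : F) = 0 := by
    have h := FiniteField.cast_card_eq_zero F
    rw [hF, Nat.cast_ofNat, show (4 : F) = 2 * 2 by norm_num] at h
    exact mul_self_eq_zero.1 h
  obtain ⟨w, hw⟩ : ∃ w : F, w * w = w + 1 := by
    have hlt : ({0, 1} : Finset F).card < Fintype.card F := by
      rw [hF]; exact lt_of_le_of_lt Finset.card_le_two (by norm_num)
    obtain ⟨w, hw⟩ := Finset.exists_mem_notMem_of_card_lt_card (s := ({0, 1} : Finset F)) (t := Finset.univ) hlt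
    have hw0 : w ≠ 0 := fun e => hw.2 (by simp [e])
    have hw1 : w - 1 ≠ 0 := fun e => hw.2 (by simp [sub_eq_zero.1 e])
    have h3 : w ^ 3 = 1 := by
      have h := FiniteField.pow_card_sub_one_eq_one w hw0
      rwa [hF] at h
    refine ⟨w, mul_left_cancel₀ hw1 ?_⟩
    linear_combination h3 - (w * w - 1) * h2
  have : Fact (Nat.Prime 2) := ⟨Nat.prime_two⟩
  have : CharP F 2 := by
    refine ringChar.of_eq ?_
    exact ((Nat.dvd_prime Nat.prime_two).1 ((ringChar.spec F 2).1 (by exact_mod_cast h2))).resolve_left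
      CharP.ringChar_ne_one
  let ι : ZMod 2 →+* F := ZMod.castHom (dvd_refl 2) F
  let ev : UThreeTwo.Four → F := fun x => ι x.1 + ι x.2 * w
  have eadd : ∀ x y, ev (x + y) = ev x + ev y := fun x y => by simp [ev]; ring
  have emul : ∀ x y, ev (UThreeTwo.fmul x y) = ev x * ev y := fun x y => by
    simp [ev, UThreeTwo.fmul]; linear_combination -(ι x.2 * ι y.2) * hw
  have ev0 : ev (0, 0) = 0 := by simp [ev]
  have ev1 : ev (1, 0) = 1 := by simp [ev]
  let evM : UThreeTwo.Mat → Matrix (Fin 3) (Fin 3) F := fun A => Matrix.of fun i j => ev (A i j)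
  have emm : ∀ A B, evM (UThreeTwo.mmul A B) = evM A * evM B := fun A B => by
    ext i j
    simp [evM, UThreeTwo.mmul, Matrix.mul_apply, Fin.sum_univ_three, eadd, emul]
  have esc : ∀ c A, evM (UThreeTwo.scal c A) = ev c • evM A := fun c A => by
    ext i j
    simp [evM, UThreeTwo.scal, emul]
  have e1 : evM UThreeTwo.one = 1 := by
    ext i j
    fin_cases i <;> fin_cases j <;> simp [evM, UThreeTwo.one, UThreeTwo.mat, ev]
  have evinj : Function.Injective ev := by
    intro x y e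
    by_contra hne
    obtain ⟨z, hz⟩ := key x y hne
    have := congrArg ev hz
    rw [emul, ev1] at this
    have hsub : ev (x - y) = 0 := by
      have := eadd (x - y) y
      rw [sub_add_cancel, e] at this
      simpa using this
    rw [hsub, zero_mul] at this
    exact zero_ne_one this
  have evMinj : Function.Injective evM := fun A B e => funext fun i => funext fun j =>
    evinj (congrFun (congrFun e i) j)
  have hdet : ∀ A, UThreeTwo.IsUnitary A → (evM A).det = 1 := fun A hA => by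
    have h := congrArg ev hA.2
    simp only [eadd, emul, ev1] at h
    rw [Matrix.det_fin_three]
    simp only [evM, Matrix.of_apply]
    linear_combination h - (ev (A 0 2) * ev (A 1 1) * ev (A 2 0) + ev (A 0 0) * ev (A 1 2) * ev (A 2 1) +
      ev (A 0 1) * ev (A 1 0) * ev (A 2 2)) * h2
  have hF2 : Fintype.card F = 2 ^ 2 := by rw [hF]; rfl
  let X : {A // UThreeTwo.IsUnitary A} → Cfsg.SU 3 F 2 := fun A => ⟨⟨evM A.1, hdet _ A.2⟩, by
    refine (CfsgLib.Classical.mem_su_iff hF2 _).2 ?_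
    ext i j
    have h := congrArg ev (A.2.1 i j)
    simp only [eadd, UThreeTwo.fsq, emul] at h
    rw [← e1]
    show ∑ k, evM A.1 k i * CfsgLib.Classical.qFrob hF2 (evM A.1 k j) = _
    simp only [CfsgLib.Classical.qFrob_apply, Fin.sum_univ_three, evM, Matrix.of_apply]
    linear_combination h⟩
  have hXM : ∀ A, ((X A).1 : Matrix (Fin 3) (Fin 3) F) = evM A.1 := fun A => rfl
  let π : Cfsg.SU 3 F 2 →* Cfsg.PSU 3 F 2 := QuotientGroup.mk' _
  have hscal : ∀ (A B : Cfsg.SU 3 F 2) (c : F),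
      (A.1 : Matrix (Fin 3) (Fin 3) F) = c • (B.1 : Matrix (Fin 3) (Fin 3) F) → π A = π B := by
    intro A B c h
    refine QuotientGroup.eq.2 (Subgroup.mem_center_iff.2 fun D => ?_)
    apply mul_left_cancel (a := A)
    refine Subtype.ext (Subtype.ext ?_)
    have hmul : (A.1 : Matrix (Fin 3) (Fin 3) F) * (D.1 * ((A⁻¹ * B : Cfsg.SU 3 F 2).1 : Matrix (Fin 3) (Fin 3) F)) =
        (A.1 : Matrix (Fin 3) (Fin 3) F) * (((A⁻¹ * B : Cfsg.SU 3 F 2).1 : Matrix (Fin 3) (Fin 3) F) * D.1) := by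
      have e : (A.1 : Matrix (Fin 3) (Fin 3) F) * ((A⁻¹ * B : Cfsg.SU 3 F 2).1 : Matrix (Fin 3) (Fin 3) F) = B.1 := by
        rw [← Matrix.SpecialLinearGroup.coe_mul, ← Subgroup.coe_mul, mul_inv_cancel_left]
      have e' : ((A⁻¹ * B : Cfsg.SU 3 F 2).1 : Matrix (Fin 3) (Fin 3) F) * c • 1 = 1 := by
        have hA : ((A⁻¹ : Cfsg.SU 3 F 2).1 : Matrix (Fin 3) (Fin 3) F) * A.1 = 1 := by
          rw [← Matrix.SpecialLinearGroup.coe_mul, ← Subgroup.coe_mul, inv_mul_cancel]; rfl
        rw [Subgroup.coe_mul, Matrix.SpecialLinearGroup.coe_mul, Matrix.mul_smul, mul_one, ← Matrix.mul_smul, ← h, hA]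
      have hc : c ≠ 0 := fun e => by
        rw [e, zero_smul, Matrix.mul_zero] at e'
        exact zero_ne_one e'
      have e'' : ((A⁻¹ * B : Cfsg.SU 3 F 2).1 : Matrix (Fin 3) (Fin 3) F) = c⁻¹ • 1 := by
        rw [Matrix.mul_smul, mul_one] at e'
        rw [← e', smul_smul, inv_mul_cancel₀ hc, one_smul]
      rw [e'']
      simp
    exact hmul
  have hcent : ∀ A : Cfsg.SU 3 F 2, π A = 1 → ∀ D : Cfsg.SU 3 F 2,
      (A.1 : Matrix (Fin 3) (Fin 3) F) * D.1 = D.1 * A.1 := by
    intro A hA D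
    have := Subgroup.mem_center_iff.1 ((QuotientGroup.eq_one_iff A).1 hA) D
    exact (congrArg (fun z : Cfsg.SU 3 F 2 => (z.1 : Matrix (Fin 3) (Fin 3) F)) this).symm
  let Xq : QuaternionGroup 2 → Cfsg.SU 3 F 2 := fun q => X ⟨_, UThreeTwo.quat_unitary q⟩
  let Xn : ZMod 3 × ZMod 3 → Cfsg.SU 3 F 2 := fun x => X ⟨_, UThreeTwo.nine_unitary x⟩
  let ψ : QuaternionGroup 2 →* Cfsg.PSU 3 F 2 := MonoidHom.mk' (fun q => π (Xq q)) fun q r => by
    rw [← map_mul]
    congr 1
    refine Subtype.ext (Subtype.ext ?_)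
    show evM _ = evM _ * evM _
    rw [← emm, UThreeTwo.quat_mul]
  let φ : Multiplicative (ZMod 3 × ZMod 3) →* Cfsg.PSU 3 F 2 :=
    MonoidHom.mk' (fun x => π (Xn (Multiplicative.toAdd x))) fun x y => by
      obtain ⟨c, -, hc⟩ := UThreeTwo.nine_mul (Multiplicative.toAdd x) (Multiplicative.toAdd y)
      show π (Xn (Multiplicative.toAdd x + Multiplicative.toAdd y)) = π _ * π _
      rw [← map_mul]
      refine (hscal _ _ (ev c) ?_).symm
      show evM _ * evM _ = ev c • evM _
      rw [← emm, hc, esc]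
  have hψ : Function.Injective ψ := (injective_iff_map_eq_one ψ).2 fun q hq => by
    have h := hcent (Xq q) hq
    have h1 := h (Xn (1, 0))
    have h2' := h (Xn (0, 1))
    change evM _ * evM _ = evM _ * evM _ at h1 h2'
    rw [← emm, ← emm] at h1 h2'
    exact UThreeTwo.quat_faithful q (evMinj h1) (evMinj h2')
  have hφ : Function.Injective φ := (injective_iff_map_eq_one φ).2 fun x hx => by
    have h := hcent (Xn (Multiplicative.toAdd x)) hx
    have h1 := h (Xn (1, 0))
    have h2' := h (Xn (0, 1))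
    change evM _ * evM _ = evM _ * evM _ at h1 h2'
    rw [← emm, ← emm] at h1 h2'
    exact Multiplicative.toAdd.injective (UThreeTwo.nine_faithful _ (evMinj h1) (evMinj h2'))
  set N := φ.range
  set Q := ψ.range
  have hN : Nat.card N = 9 := by
    rw [← Nat.card_congr (MonoidHom.ofInjective hφ).toEquiv, Nat.card_congr Multiplicative.toAdd,
      Nat.card_prod, Nat.card_zmod]
  have hQ : Nat.card Q = 8 := by
    rw [← Nat.card_congr (MonoidHom.ofInjective hψ).toEquiv, Nat.card_eq_fintype_card, QuaternionGroup.card]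
  have hle : Q ≤ Subgroup.normalizer (N : Set (Cfsg.PSU 3 F 2)) := by
    have hfwd : ∀ g ∈ Q, ∀ z ∈ N, g * z * g⁻¹ ∈ N := by
      rintro _ ⟨q, rfl⟩ _ ⟨x, rfl⟩
      obtain ⟨y, c, -, hc⟩ := UThreeTwo.nine_normal q (Multiplicative.toAdd x)
      refine ⟨Multiplicative.ofAdd y, eq_mul_inv_of_mul_eq ?_⟩
      show π (Xn y) * π (Xq q) = π (Xq q) * π (Xn (Multiplicative.toAdd x))
      rw [← map_mul, ← map_mul]
      refine (hscal _ _ (ev c) ?_).symm
      show evM _ * evM _ = ev c • (evM _ * evM _)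
      rw [← emm, hc, esc, emm]
    intro g hg
    refine Subgroup.mem_normalizer_iff.2 fun z => ⟨hfwd g hg z, fun h => ?_⟩
    have := hfwd g⁻¹ (inv_mem hg) _ h
    rwa [show g⁻¹ * (g * z * g⁻¹) * g⁻¹⁻¹ = z by group] at this
  have hinf : N ⊓ Q = ⊥ := Subgroup.inf_eq_bot_of_coprime (by rw [hN, hQ]; norm_num)
  have h72 := (Cfsg.Agent.S0282.result hF).1
  have hinj : Function.Injective fun x : Q × N => (x.1 : Cfsg.PSU 3 F 2) * x.2 :=
    Subgroup.mul_injective_of_disjoint (disjoint_iff.2 (inf_comm N Q ▸ hinf))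
  have hbij : Function.Bijective fun x : Q × N => (x.1 : Cfsg.PSU 3 F 2) * x.2 :=
    (Nat.bijective_iff_injective_and_card _).2 ⟨hinj, by rw [Nat.card_prod, hN, hQ, h72]⟩
  have hnormal : N.Normal := Subgroup.normalizer_eq_top_iff.1 (eq_top_iff.2 fun g _ => by
    obtain ⟨⟨a, b⟩, rfl⟩ := hbij.2 g
    exact mul_mem (hle a.2) (Subgroup.le_normalizer b.2))
  refine ⟨N, hnormal, hN, ?_, ?_⟩
  · rintro _ ⟨x, rfl⟩
    rw [← map_pow, ← map_one φ]
    congr 1
    refine Multiplicative.toAdd.injective ?_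
    have h3 : ∀ z : ZMod 3 × ZMod 3, 3 • z = 0 := by decide
    exact h3 _
  · let f : QuaternionGroup 2 →* Cfsg.PSU 3 F 2 ⧸ N := (QuotientGroup.mk' N).comp ψ
    have hfinj : Function.Injective f := (injective_iff_map_eq_one f).2 fun q hq => hψ (by
      rw [map_one]
      exact Subgroup.mem_bot.1 (hinf ▸ ⟨(QuotientGroup.eq_one_iff _).1 hq, q, rfl⟩))
    have hcard : Nat.card (QuaternionGroup 2) = Nat.card (Cfsg.PSU 3 F 2 ⧸ N) := by
      have h := N.card_mul_index
      rw [hN, h72] at h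
      rw [Nat.card_eq_fintype_card (α := QuaternionGroup 2), QuaternionGroup.card, ← Subgroup.index_eq_card]
      omega
    exact ⟨(MulEquiv.ofBijective f ((Nat.bijective_iff_injective_and_card f).2 ⟨hfinj, hcard⟩)).symm⟩
end Cfsg.Agent.S0827
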