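import Cfsg.Statements.S5639
import Cfsg.Agent.Lib.MaxSub.Rational
import Mathlib.LinearAlgebra.Matrix.GeneralLinearGroup.Card
import Mathlib.GroupTheory.Sylow
import Mathlib.LinearAlgebra.Matrix.Permutation

set_option autoImplicit false
set_option linter.unusedSectionVars false
open Cfsg

namespace Cfsg.Agent.S5639

open Matrix CfsgLib.MaxSub

variable {F : Type*} [Field F] [Fintype F] {n : ℕ}

/-- The standing hypotheses: an overgroup of the subfield group not containing `SL`. -/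
structure Ctx (F₀ : Subfield F) (r : ℕ) (M : Subgroup (GL (Fin n) F)) : Prop where
  hn : 4 ≤ n
  prime : r.Prime
  card : Fintype.card F = Nat.card F₀ ^ r
  le : Cfsg.Geo.subfieldSubgroup F₀ 1 ⊓ Cfsg.Geo.specialLinear (Fin n) F ≤ M
  le_sl : M ≤ Cfsg.Geo.specialLinear (Fin n) F
  not_sl : ¬ Cfsg.Geo.specialLinear (Fin n) F ≤ M

theorem exists_avoid {n : ℕ} (s : Finset (Fin n)) (h : s.card < n) : ∃ i, i ∉ s := by
  by_contra hno
  push Not at hno
  have := Finset.card_le_card (s := Finset.univ) (t := s) fun x _ => hno x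
  simp at this
  omega

section General

variable {F₀ : Subfield F} {r : ℕ} {M : Subgroup (GL (Fin n) F)} (C : Ctx F₀ r M)
include C

theorem rat_tv {x φ : Fin n → F} (hx : RatVec F₀ x) (hφ : RatVec F₀ φ) (h : φ ⬝ᵥ x = 0) :
    HasTv M x φ :=
  (hasTv_iff h).2 (C.le ⟨ratMat_mem_subfieldSubgroup (ratMat_tvMat hx hφ),
    tvGL_mem_specialLinear _ _ _⟩)

theorem subring_top (L : Subring F) (hL : ∀ x ∈ F₀, x ∈ L) {c : F} (hc : c ∈ L) (hc0 : c ∉ F₀) :
    ∀ x, x ∈ L := by
  have hfin : Module.finrank F₀ F = r := by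
    have h1 := Module.natCard_eq_pow_finrank (K := F₀) (V := F)
    rw [Nat.card_eq_fintype_card (α := F), C.card] at h1
    exact (Nat.pow_right_injective (Finite.one_lt_card (α := F₀)) h1).symm
  let A : Subalgebra F₀ F :=
    { toSubsemiring := L.toSubsemiring
      algebraMap_mem' := fun x => hL _ x.2 }
  haveI := Subalgebra.isSimpleOrder_of_finrank_prime F₀ F (hfin.symm ▸ C.prime)
  rcases IsSimpleOrder.eq_bot_or_eq_top A with h | h
  · exfalso
    have hmem : c ∈ A := hc
    rw [h, Algebra.mem_bot] at hmem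
    obtain ⟨y, rfl⟩ := hmem
    exact hc0 y.2
  · intro x
    have : x ∈ A := by rw [h]; trivial
    exact this

theorem no_entry {i j : Fin n} (hij : i ≠ j) {c : F}
    (h : HasTv M (Pi.single i 1) (c • Pi.single j 1)) : c ∈ F₀ := by
  classical
  by_contra hc
  let P : Fin n → Fin n → F → Prop := fun i j c => HasTv M (Pi.single i 1) (c • Pi.single j 1)
  have mul : ∀ {i j k : Fin n} {a b : F}, i ≠ j → j ≠ k → i ≠ k → P i j a → P j k b → P i k (a * b) := by
    intro i j k a b hij hjk hik ha hb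
    have := HasTv.comm hb ha (by simp [Ne.symm hik, hik])
    simpa [P, smul_smul, dotProduct_single] using this
  have one : ∀ {i j : Fin n}, i ≠ j → P i j 1 := fun {i j} hij =>
    rat_tv C (ratVec_single _ (one_mem _)) (by simpa using ratVec_single (F₀ := F₀) j (one_mem _))
      (by simp [hij, Ne.symm hij])
  have right : ∀ {i j k : Fin n} {a : F}, i ≠ j → i ≠ k → P i j a → P i k a := by
    intro i j k a hij hik ha
    rcases eq_or_ne j k with rfl | hjk
    · exact ha
    · simpa using mul hij hjk hik ha (one hjk)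
  have left : ∀ {i j k : Fin n} {a : F}, i ≠ j → k ≠ j → P i j a → P k j a := by
    intro i j k a hij hkj ha
    rcases eq_or_ne k i with rfl | hki
    · exact ha
    · simpa using mul hki hij hkj (one hki) ha
  have spread : ∀ {i j : Fin n} {a : F}, i ≠ j → P i j a → ∀ k l, k ≠ l → P k l a := by
    intro i j a hij ha k l hkl
    rcases eq_or_ne k j with rfl | hkj
    · obtain ⟨p, hp⟩ := exists_avoid ({i, k} : Finset (Fin n))
        (Finset.card_le_two.trans_lt (by have := C.hn; omega))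
      simp only [Finset.mem_insert, Finset.mem_singleton, not_or] at hp
      exact right (Ne.symm hp.2) hkl (left (Ne.symm hp.1) (Ne.symm hp.2) (right hij (Ne.symm hp.1) ha))
    · exact right hkj hkl (left hij hkj ha)
  have hr : ∀ a ∈ F₀, ∀ i j : Fin n, i ≠ j → P i j a := fun a ha i j hij =>
    rat_tv C (ratVec_single _ (one_mem _)) (RatVec.smul ha (ratVec_single _ (one_mem _)))
      (by simp [hij, Ne.symm hij])
  let L : Subring F :=
    { carrier := {a | ∀ i j : Fin n, i ≠ j → P i j a}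
      mul_mem' := fun {a b} ha hb i j hij => by
        obtain ⟨p, hp⟩ := exists_avoid ({i, j} : Finset (Fin n))
          (Finset.card_le_two.trans_lt (by have := C.hn; omega))
        simp only [Finset.mem_insert, Finset.mem_singleton, not_or] at hp
        exact mul (Ne.symm hp.1) hp.2 hij (ha _ _ (Ne.symm hp.1)) (hb _ _ hp.2)
      one_mem' := fun i j hij => one hij
      add_mem' := fun {a b} ha hb i j hij => by
        have := HasTv.add (ha i j hij) (hb i j hij)
        rwa [← add_smul] at this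
      zero_mem' := hr 0 (zero_mem _)
      neg_mem' := fun {a} ha i j hij => by
        have := HasTv.neg (ha i j hij)
        rwa [← neg_smul] at this }
  have hall := subring_top C L hr (c := c) (spread hij h) hc
  refine C.not_sl (specialLinear_le_of_hasTv fun i j hij a => ?_)
  have h1 : HasTv M (Pi.single i (1 : F)) (a • Pi.single j 1) := hall a i j hij
  rcases eq_or_ne a 0 with rfl | ha
  · rw [Pi.single_zero]; exact hasTv_zero_left _
  · rw [← hasTv_smul_iff ha, ← Pi.single_smul] at h1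
    simpa using h1

/-- A transvection with rational centre has rational functional. -/
theorem win {x φ : Fin n → F} (hx : RatVec F₀ x) (hx0 : x ≠ 0) (h : HasTv M x φ) :
    RatVec F₀ φ := by
  classical
  intro k
  by_contra hk
  obtain ⟨k₀, hk₀⟩ := Function.ne_iff.mp hx0
  obtain ⟨χ, hχ, hχx, hχk, l, l', hχs, m, hm⟩ : ∃ χ : Fin n → F, RatVec F₀ χ ∧ χ ⬝ᵥ x = 0 ∧
      χ k = 0 ∧ ∃ l l', (∀ i, i ≠ l → i ≠ l' → χ i = 0) ∧ ∃ m, χ m ≠ 0 := by
    obtain ⟨l, hl⟩ := exists_avoid ({k} : Finset (Fin n))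
      (by rw [Finset.card_singleton]; have := C.hn; omega)
    obtain ⟨l', hl'⟩ := exists_avoid ({k, l} : Finset (Fin n))
      (Finset.card_le_two.trans_lt (by have := C.hn; omega))
    simp only [Finset.mem_insert, Finset.mem_singleton, not_or] at hl hl'
    by_cases hxl : x l = 0
    · exact ⟨Pi.single l 1, ratVec_single _ (one_mem _), by simp [hxl], by simp [Ne.symm hl], l, l,
        fun i h1 _ => by simp [h1], l, by simp⟩
    · refine ⟨x l • Pi.single l' 1 - x l' • Pi.single l 1,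
        RatVec.sub (RatVec.smul (hx l) (ratVec_single _ (one_mem _)))
          (RatVec.smul (hx l') (ratVec_single _ (one_mem _))), ?_, ?_, l, l',
        fun i h1 h2 => by simp [h1, h2], l', ?_⟩
      · simp [sub_dotProduct]; ring
      · simp [Ne.symm hl, Ne.symm hl'.1]
      · simp [hl'.2, hxl]
  obtain ⟨i, hi⟩ := exists_avoid ({l, l', k₀} : Finset (Fin n))
    (Finset.card_le_three.trans_lt (by have := C.hn; omega))
  simp only [Finset.mem_insert, Finset.mem_singleton, not_or] at hi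
  have hχi : χ i = 0 := hχs i hi.1 hi.2.1
  -- `T(x, φ_k χ)`
  have h1 : HasTv M x ((φ ⬝ᵥ Pi.single k 1) • χ) :=
    (rat_tv C (ratVec_single k (one_mem _)) hχ (by simp [hχk])).comm h hχx
  rw [dotProduct_single, mul_one] at h1
  -- `T(e_i, φ_k χ)`
  have h2 : HasTv M (Pi.single i 1) (φ k • χ) := by
    have hθ : HasTv M (Pi.single i 1) ((x k₀)⁻¹ • Pi.single k₀ 1) :=
      rat_tv C (ratVec_single _ (one_mem _))
        (RatVec.smul (inv_mem (hx k₀)) (ratVec_single _ (one_mem _)))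
        (by simp [hi.2.2, Ne.symm hi.2.2])
    have := h1.comm hθ (by simp [hχi])
    rwa [smul_dotProduct, single_dotProduct, one_mul, smul_eq_mul, inv_mul_cancel₀ hk₀, one_smul]
      at this
  obtain ⟨j, hj⟩ := exists_avoid ({i, m} : Finset (Fin n))
    (Finset.card_le_two.trans_lt (by have := C.hn; omega))
  simp only [Finset.mem_insert, Finset.mem_singleton, not_or] at hj
  have h3 := (rat_tv C (ratVec_single m (one_mem _)) (ratVec_single (F₀ := F₀) j (one_mem _))
      (by simp [hj.2, Ne.symm hj.2])).comm h2 (by simp [hj.1, Ne.symm hj.1])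
  rw [smul_dotProduct, dotProduct_single, mul_one, smul_eq_mul] at h3
  have := no_entry C (Ne.symm hj.1) h3
  exact hk (by simpa [hm] using mul_mem this (inv_mem (hχ m)))

omit C in
theorem exists_omega {x x' : Fin n → F} (hx : RatVec F₀ x) (hx' : RatVec F₀ x') {a b : Fin n}
    (hab : x a * x' b - x b * x' a ≠ 0) :
    ∃ ω, RatVec F₀ ω ∧ ω ⬝ᵥ x = 0 ∧ ω ⬝ᵥ x' = 1 := by
  refine ⟨(x a * x' b - x b * x' a)⁻¹ • (x a • Pi.single b 1 - x b • Pi.single a 1),
    RatVec.smul (inv_mem (sub_mem (mul_mem (hx a) (hx' b)) (mul_mem (hx b) (hx' a))))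
      (RatVec.sub (RatVec.smul (hx a) (ratVec_single _ (one_mem _)))
        (RatVec.smul (hx b) (ratVec_single _ (one_mem _)))), ?_, ?_⟩
  · simp [sub_dotProduct, mul_comm]
  · simp only [smul_dotProduct, sub_dotProduct, single_dotProduct, one_mul, smul_eq_mul]
    exact inv_mul_cancel₀ hab

omit C in
/-- A vector pairing rationally with the rational annihilators of two independent vectors is
rational. -/
theorem ratVec_of_pair {y y' w : Fin n → F} (hy : RatVec F₀ y) (hy' : RatVec F₀ y') {a b : Fin n}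
    (hab : y a * y' b - y b * y' a ≠ 0)
    (h : ∀ χ, RatVec F₀ χ → χ ⬝ᵥ y = 0 → χ ⬝ᵥ w ∈ F₀)
    (h' : ∀ χ, RatVec F₀ χ → χ ⬝ᵥ y' = 0 → χ ⬝ᵥ w ∈ F₀) : RatVec F₀ w := by
  intro l
  obtain ⟨ω, hω, h1, h2⟩ := exists_omega hy hy' hab
  have e := ratVec_single (F₀ := F₀) l (one_mem F₀)
  have := add_mem (h ((Pi.single l 1 ⬝ᵥ y') • ω) (RatVec.smul (RatVec.dot e hy') hω)
      (by rw [smul_dotProduct, h1, smul_zero]))
    (h' (Pi.single l 1 - (Pi.single l 1 ⬝ᵥ y') • ω) (RatVec.sub e (RatVec.smul (RatVec.dot e hy') hω))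
      (by rw [sub_dotProduct, smul_dotProduct, h2, smul_eq_mul, mul_one, sub_self]))
  rw [← add_dotProduct, add_sub_cancel, single_dotProduct, one_mul] at this
  exact this

theorem mem_of_two_vectors {g : GL (Fin n) F} (hg : g ∈ M) {c : F} (hc : c ≠ 0)
    {x x' : Fin n → F} (hx : RatVec F₀ x) (hx' : RatVec F₀ x') {a b : Fin n}
    (hab : x a * x' b - x b * x' a ≠ 0)
    (h : RatVec F₀ (c • ((g : Matrix (Fin n) (Fin n) F) *ᵥ x)))
    (h' : RatVec F₀ (c • ((g : Matrix (Fin n) (Fin n) F) *ᵥ x'))) :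
    g ∈ Cfsg.Geo.subfieldSubgroup F₀ 1 := by
  have key : ∀ y, RatVec F₀ y → y ≠ 0 → RatVec F₀ (c • ((g : Matrix (Fin n) (Fin n) F) *ᵥ y)) →
      ∀ θ, RatVec F₀ θ → θ ⬝ᵥ y = 0 →
        RatVec F₀ (c⁻¹ • (θ ᵥ* ((g⁻¹ : GL (Fin n) F) : Matrix (Fin n) (Fin n) F))) := by
    intro y hy hy0 hgy θ hθ hθy
    refine win C hgy (fun h0 => hy0 ?_) ?_
    · have := congrArg (((g⁻¹ : GL (Fin n) F) : Matrix (Fin n) (Fin n) F) *ᵥ ·) h0
      simpa [mulVec_smul, inv_mulVec_mulVec, hc] using this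
    · rw [hasTv_smul_iff hc, smul_smul, mul_inv_cancel₀ hc, one_smul]
      exact (rat_tv C hy hθ hθy).conj hg
  have hx0 : x ≠ 0 := by rintro rfl; simp at hab
  have hx0' : x' ≠ 0 := by rintro rfl; simp at hab
  obtain ⟨ω, hω, h1, h2⟩ := exists_omega hx hx' hab
  refine (inv_mem_iff (G := GL (Fin n) F)).1
    ((mem_subfieldSubgroup_one _).2 ⟨c⁻¹, inv_ne_zero hc, fun l j => ?_⟩)
  have e := ratVec_single (F₀ := F₀) l (one_mem F₀)
  have := RatVec.add
    (key x hx hx0 h ((Pi.single l 1 ⬝ᵥ x') • ω) (RatVec.smul (RatVec.dot e hx') hω)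
      (by rw [smul_dotProduct, h1, smul_zero]))
    (key x' hx' hx0' h' (Pi.single l 1 - (Pi.single l 1 ⬝ᵥ x') • ω)
      (RatVec.sub e (RatVec.smul (RatVec.dot e hx') hω))
      (by rw [sub_dotProduct, smul_dotProduct, h2, smul_eq_mul, mul_one, sub_self])) j
  rw [← smul_add, ← add_vecMul, add_sub_cancel, single_one_vecMul] at this
  simpa using this

/-- Commuting with a rational matrix which has two independent rational eigenvectors for one
eigenvalue forces membership. -/
theorem mem_of_commute {g : GL (Fin n) F} (hg : g ∈ M) {R : Matrix (Fin n) (Fin n) F}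
    (hR : RatMat F₀ R) (hgR : Commute (g : Matrix (Fin n) (Fin n) F) R) {lam : F} (hl : lam ∈ F₀)
    (hne : R ≠ lam • 1) {y y' : Fin n → F} (hy : RatVec F₀ y) (hy' : RatVec F₀ y') {a b : Fin n}
    (hab : y a * y' b - y b * y' a ≠ 0) (he : R *ᵥ y = lam • y) (he' : R *ᵥ y' = lam • y') :
    g ∈ Cfsg.Geo.subfieldSubgroup F₀ 1 := by
  obtain ⟨k, hk⟩ : ∃ k, (R - lam • (1 : Matrix (Fin n) (Fin n) F)) k ≠ 0 :=
    Function.ne_iff.mp (sub_ne_zero.2 hne)
  set ψ : Fin n → F := (R - lam • (1 : Matrix (Fin n) (Fin n) F)) k with hψdef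
  have hψ : RatVec F₀ ψ := fun j => by
    simp only [hψdef, Matrix.sub_apply, Matrix.smul_apply, smul_eq_mul, Matrix.one_apply]
    refine sub_mem (hR k j) (mul_mem hl ?_)
    split_ifs
    exacts [one_mem _, zero_mem _]
  have hψdot : ∀ v, R *ᵥ v = lam • v → ψ ⬝ᵥ v = 0 := by
    intro v hv
    show ((R - lam • (1 : Matrix (Fin n) (Fin n) F)) *ᵥ v) k = 0
    rw [sub_mulVec, smul_mulVec, one_mulVec, hv, sub_self, Pi.zero_apply]
  have hginv : Commute (((g⁻¹ : GL (Fin n) F)) : Matrix (Fin n) (Fin n) F) R := Commute.units_inv_left hgR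
  have hψ' : ∀ v, R *ᵥ v = lam • v →
      (ψ ᵥ* ((g⁻¹ : GL (Fin n) F) : Matrix (Fin n) (Fin n) F)) ⬝ᵥ v = 0 := by
    intro v hv
    rw [vecMul_inv_dotProduct]
    refine hψdot _ ?_
    rw [mulVec_mulVec, ← hginv.eq, ← mulVec_mulVec, hv, mulVec_smul]
  set φ := ψ ᵥ* ((g⁻¹ : GL (Fin n) F) : Matrix (Fin n) (Fin n) F) with hφ
  obtain ⟨j, hj⟩ : ∃ j, φ j ≠ 0 := by
    by_contra hno
    push Not at hno
    have hφ0 : φ = 0 := funext hno
    refine hk ?_
    have := congrArg (· ᵥ* (g : Matrix (Fin n) (Fin n) F)) hφ0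
    simpa [hφ, vecMul_vecMul, ← Units.val_mul] using this
  have hy0 : y ≠ 0 := by rintro rfl; simp at hab
  have hy0' : y' ≠ 0 := by rintro rfl; simp at hab
  have key : ∀ v, RatVec F₀ v → R *ᵥ v = lam • v →
      RatVec F₀ (φ j • ((g : Matrix (Fin n) (Fin n) F) *ᵥ v)) := by
    intro v hv hev
    have hT : HasTv M ((g : Matrix (Fin n) (Fin n) F) *ᵥ v) φ := (rat_tv C hv hψ (hψdot v hev)).conj hg
    have step : ∀ u, RatVec F₀ u → u ≠ 0 → R *ᵥ u = lam • u → ∀ χ, RatVec F₀ χ → χ ⬝ᵥ u = 0 →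
        χ ⬝ᵥ (φ j • ((g : Matrix (Fin n) (Fin n) F) *ᵥ v)) ∈ F₀ := by
      intro u hu hu0 heu χ hχ hχu
      have := win C hu hu0 (hT.comm (rat_tv C hu hχ hχu) (hψ' u heu)) j
      rw [Pi.smul_apply, smul_eq_mul] at this
      rwa [dotProduct_smul, smul_eq_mul, mul_comm]
    exact ratVec_of_pair hy hy' hab (step y hy hy0 he) (step y' hy' hy0' he')
  exact mem_of_two_vectors C hg hj hy hy' hab (key y hy he) (key y' hy' he')

/-- The centraliser in `M` of a rational involution lies in the subfield group. -/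
theorem mem_of_commute_involution {g : GL (Fin n) F} (hg : g ∈ M) {R : Matrix (Fin n) (Fin n) F}
    (hR : RatMat F₀ R) (hR2 : R * R = 1) (h1 : R ≠ 1) (h2 : R ≠ -1)
    (hgR : Commute (g : Matrix (Fin n) (Fin n) F) R) : g ∈ Cfsg.Geo.subfieldSubgroup F₀ 1 := by
  set A := R + 1 with hA
  have hAr : RatMat F₀ A := fun i j => by
    simp only [hA, Matrix.add_apply, Matrix.one_apply]
    refine add_mem (hR i j) ?_
    split_ifs
    exacts [one_mem _, zero_mem _]
  by_cases hmin : ∃ a b k l, A a k * A b l - A b k * A a l ≠ 0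
  · obtain ⟨a, b, k, l, hd⟩ := hmin
    have hRA : R * A = A := by rw [hA, mul_add, hR2, mul_one, add_comm]
    have hcol : ∀ i, R *ᵥ (fun j => A j i) = (1 : F) • fun j => A j i := by
      intro i
      rw [one_smul]
      funext j
      exact congrFun (congrFun hRA j) i
    exact mem_of_commute C hg hR hgR (one_mem F₀) (by rwa [one_smul])
      (y := fun j => A j k) (y' := fun j => A j l) (fun j => hAr j k) (fun j => hAr j l) hd
      (hcol k) (hcol l)
  · push Not at hmin
    obtain ⟨k, q, hkq⟩ : ∃ k q, A k q ≠ 0 := by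
      by_contra hno
      push Not at hno
      exact h2 (eq_neg_of_add_eq_zero_left (Matrix.ext hno))
    obtain ⟨p, hp⟩ := exists_avoid ({q} : Finset (Fin n))
      (by rw [Finset.card_singleton]; have := C.hn; omega)
    obtain ⟨p', hp'⟩ := exists_avoid ({p, q} : Finset (Fin n))
      (Finset.card_le_two.trans_lt (by have := C.hn; omega))
    simp only [Finset.mem_insert, Finset.mem_singleton, not_or] at hp hp'
    let v : Fin n → Fin n → F := fun p => A k q • Pi.single p 1 - A k p • Pi.single q 1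
    have hv : ∀ p, RatVec F₀ (v p) := fun p =>
      RatVec.sub (RatVec.smul (hAr k q) (ratVec_single _ (one_mem _)))
        (RatVec.smul (hAr k p) (ratVec_single _ (one_mem _)))
    have hev : ∀ p, R *ᵥ v p = (-1 : F) • v p := by
      intro p
      have h0 : A *ᵥ v p = 0 := by
        funext i
        simp only [v, mulVec_sub, mulVec_smul, mulVec_single_one, Pi.sub_apply, Pi.smul_apply,
          Matrix.col_apply, smul_eq_mul, Pi.zero_apply]
        linear_combination hmin k i q p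
      rw [hA, add_mulVec, one_mulVec] at h0
      rw [eq_neg_of_add_eq_zero_left h0, neg_smul, one_smul]
    refine mem_of_commute C hg hR hgR (neg_mem (one_mem F₀)) (by rwa [neg_smul, one_smul])
      (hv p) (hv p') (a := p) (b := p') ?_ (hev p) (hev p')
    simp [v, hp, hp'.1, Ne.symm hp'.1, hp'.2, hkq]

theorem mem_of_entries {g : GL (Fin n) F}
    (h : ∀ k l : Fin n, k ≠ l → ∀ a b,
      (g : Matrix (Fin n) (Fin n) F) a k * ((g⁻¹ : GL (Fin n) F) : Matrix (Fin n) (Fin n) F) l b ∈ F₀) :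
    g ∈ Cfsg.Geo.subfieldSubgroup F₀ 1 := by
  have hrow : ∀ l, ∃ b, ((g⁻¹ : GL (Fin n) F) : Matrix (Fin n) (Fin n) F) l b ≠ 0 := by
    intro l
    by_contra hno
    push Not at hno
    exact ((Matrix.isUnit_iff_isUnit_det _).1 (g⁻¹ : GL (Fin n) F).isUnit).ne_zero
      (Matrix.det_eq_zero_of_row_eq_zero l hno)
  have hcol : ∀ k, ∃ a, (g : Matrix (Fin n) (Fin n) F) a k ≠ 0 := by
    intro k
    by_contra hno
    push Not at hno
    exact ((Matrix.isUnit_iff_isUnit_det _).1 g.isUnit).ne_zero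
      (Matrix.det_eq_zero_of_column_eq_zero k hno)
  obtain ⟨j, hj⟩ := exists_avoid (∅ : Finset (Fin n)) (by have := C.hn; simp; omega)
  obtain ⟨j', hj'⟩ := exists_avoid ({j} : Finset (Fin n))
    (by rw [Finset.card_singleton]; have := C.hn; omega)
  obtain ⟨i, hi⟩ := exists_avoid ({j, j'} : Finset (Fin n))
    (Finset.card_le_two.trans_lt (by have := C.hn; omega))
  simp only [Finset.mem_insert, Finset.mem_singleton, not_or] at hi hj'
  obtain ⟨b, hb⟩ := hrow j
  obtain ⟨b', hb'⟩ := hrow j'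
  obtain ⟨a, ha⟩ := hcol i
  refine (mem_subfieldSubgroup_one g).2 ⟨((g⁻¹ : GL (Fin n) F) : Matrix (Fin n) (Fin n) F) j b, hb,
    fun x y => ?_⟩
  rw [Matrix.smul_apply, smul_eq_mul, mul_comm]
  by_cases hy : y = j
  · subst hy
    have h1 := h i y hi.1 a b
    have h2 := h i j' hi.2 a b'
    have h3 := h y j' (Ne.symm hj') x b'
    have := mul_mem (mul_mem h3 h1) (inv_mem h2)
    convert this using 1
    field_simp
  · exact h y j hy x b

/-- A transvection in the subfield group is rational. -/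
theorem tv_rat {a φ : Fin n → F} (h0 : φ ⬝ᵥ a = 0) {T : GL (Fin n) F}
    (hT : T ∈ Cfsg.Geo.subfieldSubgroup F₀ 1) (hTv : (T : Matrix (Fin n) (Fin n) F) = tvMat a φ) :
    ∀ i j, a i * φ j ∈ F₀ := by
  obtain ⟨c, hc, hrat⟩ := (mem_subfieldSubgroup_one T).1 hT
  rw [hTv] at hrat
  simp only [RatMat, Matrix.smul_apply, tvMat, Matrix.add_apply, vecMulVec_apply, smul_eq_mul]
    at hrat
  by_cases hoff : ∃ i j, i ≠ j ∧ a i * φ j ≠ 0
  · obtain ⟨i, j, hij, hne⟩ := hoff
    obtain ⟨k, hk⟩ := exists_avoid ({i, j} : Finset (Fin n))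
      (Finset.card_le_two.trans_lt (by have := C.hn; omega))
    simp only [Finset.mem_insert, Finset.mem_singleton, not_or] at hk
    have h1 := hrat i j
    have h2 := hrat k k
    have h3 := hrat i k
    have h4 := hrat k j
    simp only [Matrix.one_apply, if_neg hij, if_neg (Ne.symm hk.1), if_neg hk.2, if_true,
      zero_add] at h1 h2 h3 h4
    have hcmem : c ∈ F₀ := by
      have := sub_mem h2 (mul_mem (mul_mem h3 h4) (inv_mem h1))
      convert this using 1
      have ha : a i ≠ 0 := left_ne_zero_of_mul hne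
      have hφ : φ j ≠ 0 := right_ne_zero_of_mul hne
      field_simp
      ring
    intro x y
    have h5 := sub_mem (mul_mem (inv_mem hcmem) (hrat x y))
      (show (1 : Matrix (Fin n) (Fin n) F) x y ∈ F₀ by
        rw [Matrix.one_apply]; split_ifs; exacts [one_mem _, zero_mem _])
    convert h5 using 1
    field_simp
    ring
  · push Not at hoff
    intro x y
    rcases ne_or_eq x y with hxy | rfl
    · rw [hoff x y hxy]; exact zero_mem _
    · have : a x * φ x = 0 := by
        by_contra hne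
        have hsum : φ ⬝ᵥ a = φ x * a x := by
          refine Finset.sum_eq_single x (fun z _ hz => ?_) (fun hh => absurd (Finset.mem_univ _) hh)
          rcases mul_eq_zero.1 (hoff z x hz) with h | h
          · rw [h, mul_zero]
          · exact absurd (by rw [h, mul_zero]) hne
        rw [h0] at hsum
        exact hne (by rw [mul_comm]; exact hsum.symm)
      rw [this]; exact zero_mem _

theorem sq_mem (hr2 : r ≠ 2 ∨ (2 : F) = 0) {c : F} (h : c * c ∈ F₀) : c ∈ F₀ := by
  rcases hr2 with hr | h2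
  · by_contra hc
    let L : Subring F :=
      { carrier := {x | ∃ a ∈ F₀, ∃ b ∈ F₀, x = a + b * c}
        mul_mem' := by
          rintro _ _ ⟨a, ha, b, hb, rfl⟩ ⟨a', ha', b', hb', rfl⟩
          exact ⟨a * a' + b * b' * (c * c), add_mem (mul_mem ha ha') (mul_mem (mul_mem hb hb') h),
            a * b' + b * a', add_mem (mul_mem ha hb') (mul_mem hb ha'), by ring⟩
        one_mem' := ⟨1, one_mem _, 0, zero_mem _, by ring⟩
        add_mem' := by
          rintro _ _ ⟨a, ha, b, hb, rfl⟩ ⟨a', ha', b', hb', rfl⟩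
          exact ⟨a + a', add_mem ha ha', b + b', add_mem hb hb', by ring⟩
        zero_mem' := ⟨0, zero_mem _, 0, zero_mem _, by ring⟩
        neg_mem' := by
          rintro _ ⟨a, ha, b, hb, rfl⟩
          exact ⟨-a, neg_mem ha, -b, neg_mem hb, by ring⟩ }
    have hall := subring_top C L (fun x hx => ⟨x, hx, 0, zero_mem _, by ring⟩)
      (c := c) ⟨0, zero_mem _, 1, one_mem _, by ring⟩ hc
    have hsurj : Function.Surjective (fun p : F₀ × F₀ => (p.1 : F) + (p.2 : F) * c) := fun x => by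
      obtain ⟨a, ha, b, hb, rfl⟩ := hall x
      exact ⟨(⟨a, ha⟩, ⟨b, hb⟩), rfl⟩
    have hle := Nat.card_le_card_of_surjective _ hsurj
    rw [Nat.card_prod, Nat.card_eq_fintype_card (α := F), C.card, ← sq] at hle
    have := (Nat.pow_le_pow_iff_right (Finite.one_lt_card (α := F₀))).1 hle
    have := C.prime.two_le
    omega
  · haveI : CharP F₀ 2 := CharTwo.of_one_ne_zero_of_two_eq_zero one_ne_zero
      (Subtype.ext (by push_cast; exact h2))
    obtain ⟨d, hd⟩ := FiniteField.isSquare_of_char_two (ringChar.eq F₀ 2) (⟨_, h⟩ : F₀)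
    have hd' : c * c = (d : F) * d := congrArg Subtype.val hd
    haveI : CharP F 2 := CharTwo.of_one_ne_zero_of_two_eq_zero one_ne_zero h2
    have h3 : (c + d) * (c + d) = 0 := by linear_combination hd' + (c * d + d * d) * h2
    have h4 : c = (d : F) := by
      linear_combination (mul_self_eq_zero.1 h3) - (d : F) * h2
    rw [h4]; exact d.2

theorem ratMat_of_involution (hr2 : r ≠ 2 ∨ (2 : F) = 0) {t : GL (Fin n) F} (ht2 : t * t = 1)
    (ht : t ∈ Cfsg.Geo.subfieldSubgroup F₀ 1) : RatMat F₀ (t : Matrix (Fin n) (Fin n) F) := by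
  obtain ⟨c, hc, hrat⟩ := (mem_subfieldSubgroup_one t).1 ht
  obtain ⟨i, -⟩ := exists_avoid (∅ : Finset (Fin n)) (by have := C.hn; simp; omega)
  have h1 : ((c • (t : Matrix (Fin n) (Fin n) F)) * (c • (t : Matrix (Fin n) (Fin n) F))) i i ∈ F₀ :=
    RatVec.dot (fun j => hrat i j) (fun j => hrat j i)
  rw [smul_mul_smul_comm, ← Units.val_mul, ht2, Units.val_one, Matrix.smul_apply, one_apply_eq,
    smul_eq_mul, mul_one] at h1
  have hcm := sq_mem C hr2 h1
  intro a b
  have := mul_mem (inv_mem hcm) (hrat a b)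
  rwa [Matrix.smul_apply, smul_eq_mul, ← mul_assoc, inv_mul_cancel₀ hc, one_mul] at this

theorem centralizer_le (hr2 : r ≠ 2 ∨ (2 : F) = 0) {t : GL (Fin n) F} (ht2 : t * t = 1)
    (h1 : t ≠ 1) (h2 : (t : Matrix (Fin n) (Fin n) F) ≠ -1) (ht : t ∈ Cfsg.Geo.subfieldSubgroup F₀ 1)
    {g : GL (Fin n) F} (hg : g ∈ M) (hgt : Commute g t) :
    g ∈ Cfsg.Geo.subfieldSubgroup F₀ 1 :=
  mem_of_commute_involution C hg (ratMat_of_involution C hr2 ht2 ht)
    (by rw [← Units.val_mul, ht2, Units.val_one]) (fun h => h1 (Units.ext h)) h2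
    (hgt.map (Units.coeHom _))

/-- The case of a transvection seeded by an involution pair. -/
theorem conj_rat (hr2 : r ≠ 2 ∨ (2 : F) = 0) {h : GL (Fin n) F} (hh : h ∈ M)
    {s i : GL (Fin n) F} (hsM : s ∈ M) (hiM : i ∈ M) (hs2 : s * s = 1) (hi2 : i * i = 1)
    (hs1 : s ≠ 1) (hs' : (s : Matrix (Fin n) (Fin n) F) ≠ -1) (hi1 : i ≠ 1) (hi' : (i : Matrix (Fin n) (Fin n) F) ≠ -1)
    (hsS : s ∈ Cfsg.Geo.subfieldSubgroup F₀ 1) (hsi : ¬ IsConj s i)
    (hneg : ∀ j : GL (Fin n) F, (j : Matrix (Fin n) (Fin n) F) = -1 → j ≠ 1 →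
      ¬ IsConj s (s * j) ∧ ¬ IsConj i (s * j))
    {k l : Fin n} (hkl : k ≠ l)
    (hcomm : Commute (tvGL (Pi.single k (1 : F)) (Pi.single l 1) (by simp [Ne.symm hkl])) i)
    (a b : Fin n) :
    (h : Matrix (Fin n) (Fin n) F) a k * ((h⁻¹ : GL (Fin n) F) : Matrix (Fin n) (Fin n) F) l b ∈ F₀ := by
  set t := h * i * h⁻¹ with ht
  have hconj : IsConj i t := isConj_iff.2 ⟨h, rfl⟩
  have htM : t ∈ M := mul_mem (mul_mem hh hiM) (inv_mem hh)
  have ht2 : t * t = 1 := by
    rw [ht, show h * i * h⁻¹ * (h * i * h⁻¹) = h * (i * i) * h⁻¹ by group, hi2, mul_one,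
      mul_inv_cancel]
  have ht1 : t ≠ 1 := fun e => hi1 (by
    have := congrArg (fun z => h⁻¹ * z * h) e
    simpa [ht, mul_assoc] using this)
  have ht' : (t : Matrix (Fin n) (Fin n) F) ≠ -1 := fun e => hi' (by
    have := congrArg (fun z => ((h⁻¹ : GL (Fin n) F) : Matrix (Fin n) (Fin n) F) * z * (h : Matrix (Fin n) (Fin n) F)) e
    simpa [ht, Units.val_mul, mul_assoc, ← Units.val_mul] using this)
  obtain ⟨j, hjz, hj1, hj2, hjs, hjt, hjc⟩ :=
    exists_commuting_involution s t hs2 ht2 fun e => hsi (e.trans hconj.symm)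
  have hjM : j ∈ M := (Subgroup.zpowers_le.2 (mul_mem hsM htM)) hjz
  have hjS : j ∈ Cfsg.Geo.subfieldSubgroup F₀ 1 :=
    centralizer_le C hr2 hs2 hs1 hs' hsS hjM hjs
  have hj' : (j : Matrix (Fin n) (Fin n) F) ≠ -1 := by
    intro e
    obtain ⟨h1, h2⟩ := hneg j e hj1
    rcases hjc with hh' | hh'
    · exact h1 hh'
    · exact h2 (hconj.trans hh')
  have htS : t ∈ Cfsg.Geo.subfieldSubgroup F₀ 1 :=
    centralizer_le C hr2 hj2 hj1 hj' hjS htM hjt.symm
  have h0 := rat_tv C (ratVec_single (F₀ := F₀) k (one_mem _))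
    (ratVec_single (F₀ := F₀) l (one_mem _)) (by simp [Ne.symm hkl])
  set T := tvGL (Pi.single k (1 : F)) (Pi.single l 1) (by simp [Ne.symm hkl]) with hTdef
  have hTM : T ∈ M := (hasTv_iff _).1 h0
  have hT' : h * T * h⁻¹ ∈ Cfsg.Geo.subfieldSubgroup F₀ 1 := by
    refine centralizer_le C hr2 ht2 ht1 ht' htS (mul_mem (mul_mem hh hTM) (inv_mem hh)) ?_
    show h * T * h⁻¹ * (h * i * h⁻¹) = h * i * h⁻¹ * (h * T * h⁻¹)
    rw [show h * T * h⁻¹ * (h * i * h⁻¹) = h * (T * i) * h⁻¹ by group, hcomm.eq]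
    group
  have := tv_rat C (a := (h : Matrix (Fin n) (Fin n) F) *ᵥ Pi.single k 1)
    (φ := Pi.single l 1 ᵥ* ((h⁻¹ : GL (Fin n) F) : Matrix (Fin n) (Fin n) F)) (h0.conj hh).1 hT'
    (by rw [Units.val_mul, Units.val_mul, hTdef, coe_tvGL, mul_tvMat_mul _ _ _ _ (by
      rw [← Units.val_mul, mul_inv_cancel, Units.val_one])]) a b
  simpa [Matrix.col_apply] using this

omit C in
theorem rank_conj {s t : GL (Fin n) F} (h : IsConj s t) :
    ((t : Matrix (Fin n) (Fin n) F) - 1).rank = ((s : Matrix (Fin n) (Fin n) F) - 1).rank := by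
  obtain ⟨c, rfl⟩ := isConj_iff.1 h
  have : ((c * s * c⁻¹ : GL (Fin n) F) : Matrix (Fin n) (Fin n) F) - 1 =
      (c : Matrix (Fin n) (Fin n) F) * ((s : Matrix (Fin n) (Fin n) F) - 1) * ((c⁻¹ : GL (Fin n) F) : Matrix (Fin n) (Fin n) F) := by
    rw [mul_sub, sub_mul, mul_one, ← Units.val_mul, ← Units.val_mul, ← Units.val_mul, mul_inv_cancel,
      Units.val_one]
  rw [this, Matrix.rank_mul_eq_left_of_isUnit_det _ _
      ((Matrix.isUnit_iff_isUnit_det _).1 (c⁻¹ : GL (Fin n) F).isUnit),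
    Matrix.rank_mul_eq_right_of_isUnit_det _ _ ((Matrix.isUnit_iff_isUnit_det _).1 c.isUnit)]

omit C in
/-- The diagonal sign matrix which is `-1` on `s`. -/
def signs (s : Finset (Fin n)) : GL (Fin n) F where
  val := diagonal fun i => if i ∈ s then -1 else 1
  inv := diagonal fun i => if i ∈ s then -1 else 1
  val_inv := by rw [diagonal_mul_diagonal, ← diagonal_one]; congr 1; funext i; split_ifs <;> simp
  inv_val := by rw [diagonal_mul_diagonal, ← diagonal_one]; congr 1; funext i; split_ifs <;> simp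

omit C in
theorem signs_sq (s : Finset (Fin n)) : (signs s : GL (Fin n) F) * signs s = 1 :=
  Units.ext (signs s).val_inv

theorem signs_mem (s : Finset (Fin n)) (hs : Even s.card) :
    (signs s : GL (Fin n) F) ∈ Cfsg.Geo.subfieldSubgroup F₀ 1 ∧
      (signs s : GL (Fin n) F) ∈ M := by
  have h1 : (signs s : GL (Fin n) F) ∈ Cfsg.Geo.subfieldSubgroup F₀ 1 := by
    refine ratMat_mem_subfieldSubgroup fun i j => ?_
    show diagonal (fun i => if i ∈ s then (-1 : F) else 1) i j ∈ F₀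
    rw [diagonal_apply]
    split_ifs
    exacts [neg_mem (one_mem _), one_mem _, zero_mem _]
  refine ⟨h1, C.le ⟨h1, ?_⟩⟩
  show Matrix.GeneralLinearGroup.det (signs s : GL (Fin n) F) = 1
  refine Units.ext ?_
  show (diagonal fun i => if i ∈ s then (-1 : F) else 1).det = 1
  rw [det_diagonal, Finset.prod_ite_mem, Finset.univ_inter, Finset.prod_const, hs.neg_one_pow]

omit C in
theorem signs_rank (h2 : (2 : F) ≠ 0) (s : Finset (Fin n)) :
    (((signs s : GL (Fin n) F) : Matrix (Fin n) (Fin n) F) - 1).rank = s.card := by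
  classical
  have : ((signs s : GL (Fin n) F) : Matrix (Fin n) (Fin n) F) - 1 =
      diagonal fun i => if i ∈ s then -(2 : F) else 0 := by
    rw [show ((signs s : GL (Fin n) F) : Matrix (Fin n) (Fin n) F) =
      diagonal fun i => if i ∈ s then (-1 : F) else 1 from rfl, ← diagonal_one, diagonal_sub]
    congr 1; funext i; split_ifs <;> ring
  rw [this, rank_diagonal, Fintype.card_subtype]
  congr 1
  ext i
  by_cases hi : i ∈ s <;> simp [hi, h2]

theorem case_odd (hn : 6 ≤ n) (hn6 : n ≠ 6) (hr2 : r ≠ 2) (h2 : (2 : F) ≠ 0) {h : GL (Fin n) F} (hh : h ∈ M) :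
    h ∈ Cfsg.Geo.subfieldSubgroup F₀ 1 := by
  classical
  refine mem_of_entries C fun k l hkl a b => ?_
  -- the ranks `ms`, `mi` and `n - ms` are distinct
  obtain ⟨ms, mi, hms, hmi, h_1, h_2, h_3, hes, hei, h0⟩ : ∃ ms mi : ℕ, ms < n ∧ mi + 2 ≤ n ∧
      ms ≠ mi ∧ n - ms ≠ ms ∧ n - ms ≠ mi ∧ Even ms ∧ Even mi ∧ (0 < ms ∧ 0 < mi) := by
    by_cases h8 : n = 8
    · exact ⟨6, 4, by omega, by omega, by omega, by omega, by omega, ⟨3, rfl⟩, ⟨2, rfl⟩, by omega⟩
    · exact ⟨4, 2, by omega, by omega, by omega, by omega, by omega, ⟨2, rfl⟩, ⟨1, rfl⟩, by omega⟩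
  obtain ⟨S4, -, hS4⟩ := Finset.exists_subset_card_eq
    (s := (Finset.univ : Finset (Fin n))) (n := ms) (by simp; omega)
  obtain ⟨I, hI, hi⟩ := Finset.exists_subset_card_eq
    (s := ((Finset.univ : Finset (Fin n)) \ {k, l})) (n := mi) (by
      rw [Finset.card_univ_sdiff, Finset.card_pair hkl, Fintype.card_fin]; omega)
  have hIk : k ∉ I ∧ l ∉ I := ⟨fun e => by simpa using hI e, fun e => by simpa using hI e⟩
  obtain ⟨hsS, hsM⟩ := signs_mem C S4 (by rw [hS4]; exact hes)
  obtain ⟨hiS, hiM⟩ := signs_mem C I (by rw [hi]; exact hei)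
  have hdist : ∀ s : Finset (Fin n), s.card ≠ 0 → (signs s : GL (Fin n) F) ≠ 1 := fun s hs e => by
    have := signs_rank h2 s
    rw [e, Units.val_one, sub_self, rank_zero] at this
    exact hs this.symm
  have hnegone : ∀ s : Finset (Fin n), s.card ≠ n →
      ((signs s : GL (Fin n) F) : Matrix (Fin n) (Fin n) F) ≠ -1 := fun s hs e => by
    have := signs_rank h2 s
    rw [e, show (-1 : Matrix (Fin n) (Fin n) F) - 1 = diagonal fun _ => -(2 : F) by
      rw [← diagonal_one, diagonal_neg, diagonal_sub]; congr 1; funext i; ring,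
      rank_diagonal, Fintype.card_subtype] at this
    simp [h2] at this
    exact hs this.symm
  refine conj_rat C (.inl hr2) hh hsM hiM (signs_sq _) (signs_sq _) (hdist _ (by omega))
    (hnegone _ (by omega)) (hdist _ (by omega)) (hnegone _ (by omega)) hsS
    (fun e => by have := rank_conj e; rw [signs_rank h2, signs_rank h2] at this; omega)
    (fun j hj _ => ?_) hkl ?_ a b
  · have hrk : (((signs S4 * j : GL (Fin n) F)) : Matrix (Fin n) (Fin n) F) - 1 =
        diagonal fun i => if i ∈ S4 then (0 : F) else -2 := by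
      rw [Units.val_mul, hj, mul_neg, mul_one, show ((signs S4 : GL (Fin n) F) : Matrix (Fin n) (Fin n) F) =
        diagonal fun i => if i ∈ S4 then (-1 : F) else 1 from rfl, diagonal_neg, ← diagonal_one,
        diagonal_sub]
      congr 1; funext i; split_ifs <;> ring
    have hc : ((((signs S4 * j : GL (Fin n) F)) : Matrix (Fin n) (Fin n) F) - 1).rank = n - ms := by
      rw [hrk, rank_diagonal, Fintype.card_subtype,
        show (Finset.univ.filter fun i => (if i ∈ S4 then (0 : F) else -2) ≠ 0) = S4ᶜ by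
          ext i; by_cases hi : i ∈ S4 <;> simp [hi, h2],
        Finset.card_compl, Fintype.card_fin, hS4]
    constructor <;> intro e <;> have := rank_conj e <;>
      rw [hc, signs_rank h2] at this <;> omega
  · refine Units.ext ?_
    show tvMat _ _ * (diagonal _) = (diagonal _) * tvMat _ _
    rw [tvMat_single]
    ext x y
    simp only [Matrix.transvection, add_mul, mul_add, one_mul, mul_one, Matrix.add_apply,
      Matrix.mul_diagonal, Matrix.diagonal_mul, Matrix.single_apply]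
    by_cases hxy : k = x ∧ l = y
    · obtain ⟨rfl, rfl⟩ := hxy
      simp [hIk.1, hIk.2]
    · rcases eq_or_ne x y with rfl | hne
      · simp [hxy]
      · simp [hxy, hne]

theorem case_two (h2 : (2 : F) = 0) {h : GL (Fin n) F} (hh : h ∈ M) :
    h ∈ Cfsg.Geo.subfieldSubgroup F₀ 1 := by
  classical
  refine mem_of_entries C fun k l hkl a b => ?_
  haveI : CharP F 2 := CharTwo.of_one_ne_zero_of_two_eq_zero one_ne_zero h2
  have hn := C.hn
  let e0 : Fin n := ⟨0, by omega⟩
  let e1 : Fin n := ⟨1, by omega⟩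
  let e2 : Fin n := ⟨2, by omega⟩
  let e3 : Fin n := ⟨3, by omega⟩
  have h01 : (Pi.single e1 (1 : F) : Fin n → F) ⬝ᵥ Pi.single e0 1 = 0 := by simp [e0, e1]
  have h23 : (Pi.single e3 (1 : F) : Fin n → F) ⬝ᵥ Pi.single e2 1 = 0 := by simp [e2, e3]
  have hkl0 : (Pi.single l (1 : F) : Fin n → F) ⬝ᵥ Pi.single k 1 = 0 := by simp [Ne.symm hkl]
  set T1 := tvGL (Pi.single e0 (1 : F)) (Pi.single e1 1) h01 with hT1
  set T2 := tvGL (Pi.single e2 (1 : F)) (Pi.single e3 1) h23 with hT2
  set i := tvGL (Pi.single k (1 : F)) (Pi.single l 1) hkl0 with hi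
  have hsq : ∀ (a φ : Fin n → F) (h : φ ⬝ᵥ a = 0), tvGL a φ h * tvGL a φ h = 1 := by
    intro a φ h0
    refine Units.ext ?_
    rw [Units.val_mul, coe_tvGL, tvMat_mul_same_center _ _ _ h0,
      show φ + φ = 0 from funext fun x => CharTwo.add_self_eq_zero (φ x), tvMat_zero, Units.val_one]
  have hS : ∀ (p q : Fin n) (h : (Pi.single q (1 : F) : Fin n → F) ⬝ᵥ Pi.single p 1 = 0),
      tvGL (Pi.single p (1 : F)) (Pi.single q 1) h ∈
        Cfsg.Geo.subfieldSubgroup F₀ 1 ⊓ Cfsg.Geo.specialLinear (Fin n) F := fun p q h =>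
    ⟨ratMat_mem_subfieldSubgroup (ratMat_tvMat (ratVec_single _ (one_mem _))
      (ratVec_single _ (one_mem _))), tvGL_mem_specialLinear _ _ _⟩
  have hcomm : Commute T1 T2 := by
    refine Units.ext ?_
    simp only [Units.val_mul, hT1, hT2, coe_tvGL, tvMat_mul]
    simp [e0, e1, e2, e3]
    abel
  have hs2 : T1 * T2 * (T1 * T2) = 1 := by
    rw [show T1 * T2 * (T1 * T2) = T1 * (T2 * T1) * T2 by group, ← hcomm.eq,
      show T1 * (T1 * T2) * T2 = (T1 * T1) * (T2 * T2) by group, hsq, hsq, mul_one]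
  have hs : ((T1 * T2 : GL (Fin n) F) : Matrix (Fin n) (Fin n) F) - 1 =
      vecMulVec (Pi.single e0 1) (Pi.single e1 1) + vecMulVec (Pi.single e2 1) (Pi.single e3 1) := by
    have h12 : (Pi.single e1 (1 : F) : Fin n → F) ⬝ᵥ Pi.single e2 1 = 0 := by simp [e1, e2]
    rw [Units.val_mul, hT1, hT2, coe_tvGL, coe_tvGL, tvMat_mul, h12, zero_smul, add_zero, add_assoc,
      add_sub_cancel_left]
  have hi1 : i ≠ 1 := fun e => by
    have h := congrArg (fun z : GL (Fin n) F => (z : Matrix (Fin n) (Fin n) F) k l) e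
    rw [hi, coe_tvGL, tvMat, Units.val_one, Matrix.add_apply, vecMulVec_apply] at h
    simp [hkl] at h
  have hneg1 : (-1 : Matrix (Fin n) (Fin n) F) = 1 := Matrix.ext fun x y => by
    simp [CharTwo.neg_eq]
  have hs1 : T1 * T2 ≠ 1 := fun e => by
    rw [e, Units.val_one, sub_self] at hs
    have h := congrFun (congrFun hs e0) e1
    simp [e0, e1, e2, e3, vecMulVec_apply] at h
  refine conj_rat C (.inr h2) hh (C.le (mul_mem (hS _ _ h01) (hS _ _ h23))) (C.le (hS _ _ hkl0))
    hs2 (hsq _ _ _) hs1 ?_ hi1 ?_ (mul_mem (hS _ _ h01).1 (hS _ _ h23).1) (fun e => ?_)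
    (fun j hj hj1 => absurd (Units.ext (hj.trans hneg1)) hj1) hkl (Commute.refl _) a b
  · rw [hneg1]; exact fun e => hs1 (Units.ext e)
  · rw [hneg1]; exact fun e => hi1 (Units.ext e)
  · obtain ⟨c, hc⟩ := isConj_iff.1 e.symm
    have h1 : ((c * i * c⁻¹ : GL (Fin n) F) : Matrix (Fin n) (Fin n) F) - 1 =
        vecMulVec ((c : Matrix (Fin n) (Fin n) F) *ᵥ Pi.single k 1)
          (Pi.single l 1 ᵥ* ((c⁻¹ : GL (Fin n) F) : Matrix (Fin n) (Fin n) F)) := by
      rw [Units.val_mul, Units.val_mul, hi, coe_tvGL, mul_tvMat_mul _ _ _ _ (by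
        rw [← Units.val_mul, mul_inv_cancel, Units.val_one]), tvMat, add_sub_cancel_left]
    rw [hc, hs] at h1
    have a01 := congrFun (congrFun h1 e0) e1
    have a23 := congrFun (congrFun h1 e2) e3
    have a03 := congrFun (congrFun h1 e0) e3
    simp [e0, e1, e2, e3, vecMulVec_apply, Fin.ext_iff] at a01 a23 a03
    rcases a03 with h' | h' <;> simp [h'] at a01 a23

theorem case_quadratic (hr2 : r = 2) {g : GL (Fin n) F} (hg : g ∈ M) :
    g ∈ Cfsg.Geo.subfieldSubgroup F₀ 1 := by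
  classical
  refine mem_of_entries C fun k l hkl a0 b0 => ?_
  by_contra hbad
  have h0 := (rat_tv C (ratVec_single (F₀ := F₀) k (one_mem _))
    (ratVec_single (F₀ := F₀) l (one_mem _)) (by simp [Ne.symm hkl])).conj hg
  set a := (g : Matrix (Fin n) (Fin n) F) *ᵥ Pi.single k 1 with ha
  set φ := (Pi.single l 1 : Fin n → F) ᵥ* ((g⁻¹ : GL (Fin n) F) : Matrix (Fin n) (Fin n) F) with hφ
  have hbad' : a a0 * φ b0 ∉ F₀ := by simpa [ha, hφ, Matrix.col_apply] using hbad
  have hn := C.hn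
  by_cases hp : ∃ d : F, d ≠ 0 ∧ RatVec F₀ (d • φ)
  · obtain ⟨d, hd, hdφ⟩ := hp
    set φ' := d • φ with hφ'
    have h1 : HasTv M (d⁻¹ • a) φ' := by
      rw [hasTv_smul_iff (inv_ne_zero hd), hφ', smul_smul, inv_mul_cancel₀ hd, one_smul]
      exact h0
    obtain ⟨q, hq⟩ : ∃ q, φ' q ≠ 0 := by
      by_contra hno
      push Not at hno
      apply hbad'
      have := hno b0
      rw [hφ', Pi.smul_apply, smul_eq_mul, mul_eq_zero, or_iff_right hd] at this
      rw [this, mul_zero]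
      exact zero_mem _
    obtain ⟨p, hp'⟩ := exists_avoid ({q} : Finset (Fin n))
      (by rw [Finset.card_singleton]; omega)
    obtain ⟨p', hpp'⟩ := exists_avoid ({p, q} : Finset (Fin n))
      (Finset.card_le_two.trans_lt (by omega))
    simp only [Finset.mem_insert, Finset.mem_singleton, not_or] at hp' hpp'
    let v : Fin n → Fin n → F := fun p => φ' q • Pi.single p 1 - φ' p • Pi.single q 1
    have hv : ∀ p, RatVec F₀ (v p) := fun p =>
      RatVec.sub (RatVec.smul (hdφ q) (ratVec_single _ (one_mem _)))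
        (RatVec.smul (hdφ p) (ratVec_single _ (one_mem _)))
    have step : ∀ p, p ≠ q → ∀ χ, RatVec F₀ χ → χ ⬝ᵥ v p = 0 → χ ⬝ᵥ (d⁻¹ • a) ∈ F₀ := by
      intro p hpq χ hχ hχv
      have hv0 : v p ≠ 0 := fun e => by
        have := congrFun e p; simp [v, hpq, hq] at this
      have := win C (hv p) hv0 (h1.comm (rat_tv C (hv p) hχ hχv)
        (by simp [v, dotProduct_sub, mul_comm])) q
      rw [Pi.smul_apply, smul_eq_mul] at this
      have h' := mul_mem this (inv_mem (hdφ q))
      rwa [mul_assoc, mul_inv_cancel₀ hq, mul_one] at h'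
    have hrat := ratVec_of_pair (hv p) (hv p') (a := p) (b := p')
      (by simp [v, hp', hpp'.1, Ne.symm hpp'.1, hpp'.2, hq]) (step p hp') (step p' hpp'.2)
    apply hbad'
    have := mul_mem (hrat a0) (hdφ b0)
    simp only [hφ', Pi.smul_apply, smul_eq_mul] at this
    convert this using 1
    field_simp
  · push Not at hp
    have hfin : Module.finrank F₀ F = 2 := by
      have h1 := Module.natCard_eq_pow_finrank (K := F₀) (V := F)
      rw [Nat.card_eq_fintype_card (α := F), C.card, hr2] at h1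
      exact (Nat.pow_right_injective (Finite.one_lt_card (α := F₀)) h1).symm
    let e : Fin 3 → Fin n := fun i => ⟨i.1, by omega⟩
    have he : Function.Injective e := fun i j h => Fin.ext (Fin.mk.inj h)
    have hdep : ¬ LinearIndependent F₀ (fun i : Fin 3 => φ (e i)) := fun h => by
      have := h.fintype_card_le_finrank
      simp [hfin] at this
    rw [Fintype.not_linearIndependent_iff] at hdep
    obtain ⟨w, hw, i0, hi0⟩ := hdep
    let x : Fin n → F := ∑ i, (w i : F) • Pi.single (e i) (1 : F)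
    have hx : RatVec F₀ x := fun j => by
      simp only [x, Finset.sum_apply]
      exact sum_mem fun i _ => RatVec.smul (w i).2 (ratVec_single _ (one_mem _)) j
    have hxi : x (e i0) = (w i0 : F) := by
      simp [x, Finset.sum_apply, Pi.single_apply, he.eq_iff]
    have hw0 : (w i0 : F) ≠ 0 := fun h => hi0 (Subtype.ext h)
    have hφx : φ ⬝ᵥ x = 0 := by
      simp only [x, dotProduct_sum, dotProduct_smul, dotProduct_single, mul_one, smul_eq_mul]
      exact hw
    have hx0 : x ≠ 0 := fun h => hw0 (by rw [← hxi, h, Pi.zero_apply])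
    have hstep : ∀ ψ, RatVec F₀ ψ → ψ ⬝ᵥ x = 0 → ψ ⬝ᵥ a = 0 := by
      intro ψ hψ hψx
      by_contra hne
      exact hp _ hne (win C hx hx0 (h0.comm (rat_tv C hx hψ hψx) hφx))
    have hax : a = (a (e i0) / (w i0 : F)) • x := by
      funext j
      have := hstep ((w i0 : F) • Pi.single j 1 - x j • Pi.single (e i0) 1)
        (RatVec.sub (RatVec.smul (w i0).2 (ratVec_single _ (one_mem _)))
          (RatVec.smul (hx j) (ratVec_single _ (one_mem _))))
        (by simp [sub_dotProduct, hxi]; ring)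
      simp only [sub_dotProduct, smul_dotProduct, single_dotProduct, one_mul, smul_eq_mul] at this
      rw [Pi.smul_apply, smul_eq_mul, div_mul_eq_mul_div, eq_div_iff hw0]
      linear_combination this
    by_cases hd : a (e i0) / (w i0 : F) = 0
    · apply hbad'
      rw [hax, hd, zero_smul, Pi.zero_apply, zero_mul]
      exact zero_mem _
    · rw [hax, hasTv_smul_iff hd] at h0
      exact hp _ hd (win C hx hx0 h0)

end General

section Six

/-- The block decomposition `4 + 2`. -/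
def blk : Matrix (Fin 6) (Fin 6) F ≃ₐ[F] Matrix (Fin 4 ⊕ Fin 2) (Fin 4 ⊕ Fin 2) F :=
  Matrix.reindexAlgEquiv F F (finSumFinEquiv (m := 4) (n := 2)).symm

theorem blk_apply (A : Matrix (Fin 6) (Fin 6) F) (i j : Fin 4 ⊕ Fin 2) :
    blk A i j = A (finSumFinEquiv i) (finSumFinEquiv j) := rfl

theorem blk_ratMat {F₀ : Subfield F} {A : Matrix (Fin 6) (Fin 6) F} (h : RatMat F₀ A) (i j : Fin 4 ⊕ Fin 2) :
    blk A i j ∈ F₀ := h _ _

/-- The elements stabilising the span of the first four coordinates. -/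
def parab (F : Type*) [Field F] [Fintype F] : Subgroup (GL (Fin 6) F) where
  carrier := {y | (blk (y : Matrix (Fin 6) (Fin 6) F)).toBlocks₂₁ = 0}
  one_mem' := by
    show (blk (1 : Matrix (Fin 6) (Fin 6) F)).toBlocks₂₁ = 0
    rw [map_one]
    ext i j; simp [Matrix.toBlocks₂₁]
  mul_mem' {y z} hy hz := by
    simp only [Set.mem_ofPred_eq, Units.val_mul, map_mul] at hy hz ⊢
    rw [← fromBlocks_toBlocks (blk (y : Matrix (Fin 6) (Fin 6) F)),
      ← fromBlocks_toBlocks (blk (z : Matrix (Fin 6) (Fin 6) F)), fromBlocks_multiply,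
      toBlocks_fromBlocks₂₁, hy, hz, Matrix.zero_mul, Matrix.mul_zero, add_zero]
  inv_mem' {y} hy := by
    have hpow : ∀ m : ℕ, (blk ((y ^ m : GL (Fin 6) F) : Matrix (Fin 6) (Fin 6) F)).toBlocks₂₁ = 0 := by
      intro m
      induction m with
      | zero =>
        rw [pow_zero, Units.val_one, map_one]
        ext i j; simp [Matrix.toBlocks₂₁]
      | succ m ih =>
        rw [pow_succ, Units.val_mul, map_mul,
          ← fromBlocks_toBlocks (blk ((y ^ m : GL (Fin 6) F) : Matrix (Fin 6) (Fin 6) F)),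
          ← fromBlocks_toBlocks (blk (y : Matrix (Fin 6) (Fin 6) F)), fromBlocks_multiply,
          toBlocks_fromBlocks₂₁, ih, show (blk (y : Matrix (Fin 6) (Fin 6) F)).toBlocks₂₁ = 0 from hy,
          Matrix.zero_mul, Matrix.mul_zero, add_zero]
    have h := hpow (orderOf y - 1)
    rwa [← show y⁻¹ = y ^ (orderOf y - 1) by
      refine inv_eq_of_mul_eq_one_right ?_
      rw [← pow_succ', Nat.sub_add_cancel (orderOf_pos y), pow_orderOf_eq_one]] at h

theorem mem_parab {y : GL (Fin 6) F} :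
    y ∈ parab F ↔ (blk (y : Matrix (Fin 6) (Fin 6) F)).toBlocks₂₁ = 0 := Iff.rfl

theorem blk_of_mem {y : GL (Fin 6) F} (hy : y ∈ parab F) :
    blk (y : Matrix (Fin 6) (Fin 6) F) =
      fromBlocks (blk (y : Matrix (Fin 6) (Fin 6) F)).toBlocks₁₁
        (blk (y : Matrix (Fin 6) (Fin 6) F)).toBlocks₁₂ 0
        (blk (y : Matrix (Fin 6) (Fin 6) F)).toBlocks₂₂ := by
  conv_lhs => rw [← fromBlocks_toBlocks (blk (y : Matrix (Fin 6) (Fin 6) F))]
  rw [mem_parab.1 hy]

/-- The sign matrix of the first four coordinates. -/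
def sgn (F : Type*) [Field F] [Fintype F] : GL (Fin 6) F :=
  signs (Finset.univ.filter fun i : Fin 6 => (i : ℕ) < 4)

theorem blk_sgn : blk (sgn F : Matrix (Fin 6) (Fin 6) F) = fromBlocks (-1) 0 0 1 := by
  ext i j
  rw [blk_apply]
  show diagonal _ _ _ = _
  rcases i with i | i <;> rcases j with j | j <;>
    simp [diagonal_apply, Fin.ext_iff, Matrix.one_apply, neg_ite]
  all_goals
    split_ifs with h1 h2 <;> first
      | rfl
      | exact absurd i.isLt h2
      | exact absurd h2 (by show ¬ (4 + (i : ℕ) < 4); omega)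

theorem rank_neg_eq (A : Matrix (Fin 6) (Fin 6) F) : (-A).rank = A.rank := by
  rw [Matrix.rank, Matrix.rank,
    show LinearMap.range (-A).mulVecLin = LinearMap.range A.mulVecLin by
      ext v
      constructor <;> rintro ⟨w, rfl⟩ <;> exact ⟨-w, by simp [Matrix.neg_mulVec, Matrix.mulVec_neg]⟩]

theorem ratVec_of_pow {F₀ : Subfield F} {y : GL (Fin 6) F}
    (hy : y ∈ Cfsg.Geo.subfieldSubgroup F₀ 1) {p m : ℕ} [Fact p.Prime] [CharP F p]
    (h : y ^ p ^ m = 1) : RatMat F₀ (y : Matrix (Fin 6) (Fin 6) F) := by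
  obtain ⟨c, hc, hrat⟩ := (mem_subfieldSubgroup_one y).1 hy
  have hpow : ∀ k : ℕ, RatMat F₀ ((c • (y : Matrix (Fin 6) (Fin 6) F)) ^ k) := by
    intro k
    induction k with
    | zero =>
      intro i j
      rw [pow_zero, Matrix.one_apply]
      split_ifs
      exacts [one_mem _, zero_mem _]
    | succ k ih =>
      intro i j
      rw [pow_succ, Matrix.mul_apply]
      exact sum_mem fun l _ => mul_mem (ih i l) (hrat l j)
  have h1 := hpow (p ^ m) 0 0
  rw [smul_pow, ← Units.val_pow_eq_pow_val, h, Units.val_one, Matrix.smul_apply, one_apply_eq,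
    smul_eq_mul, mul_one] at h1
  have hinj : Function.Injective fun x : F₀ => x ^ p ^ m := fun x x' e =>
    Subtype.ext (iterateFrobenius_inj F p m (by simpa [iterateFrobenius_def] using congrArg Subtype.val e))
  obtain ⟨x, hx⟩ := (Finite.injective_iff_surjective.1 hinj) ⟨_, h1⟩
  have hcx : (x : F) = c := iterateFrobenius_inj F p m (by
    simpa [iterateFrobenius_def] using congrArg Subtype.val hx)
  have hcm : c ∈ F₀ := hcx ▸ x.2
  intro i j
  have := mul_mem (inv_mem hcm) (hrat i j)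
  rwa [Matrix.smul_apply, smul_eq_mul, ← mul_assoc, inv_mul_cancel₀ hc, one_mul] at this

theorem neg_rank (h2 : (2 : F) ≠ 0) :
    ((signs (Finset.univ : Finset (Fin 6)) : GL (Fin 6) F) : Matrix (Fin 6) (Fin 6) F) = -1 := by
  show diagonal _ = _
  simp [← diagonal_one]

theorem not_dvd_seven {q : ℕ} (hq : 1 < q) :
    ¬ q ^ 8 ∣ (∏ i : Fin 4, (q ^ 4 - q ^ (i : ℕ))) * ∏ i : Fin 2, (q ^ 2 - q ^ (i : ℕ)) := by
  intro h
  have e : (∏ i : Fin 4, (q ^ 4 - q ^ (i : ℕ))) * ∏ i : Fin 2, (q ^ 2 - q ^ (i : ℕ)) =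
      q ^ 7 * ((q ^ 4 - 1) * (q ^ 3 - 1) * (q ^ 2 - 1) * (q - 1) * (q ^ 2 - 1) * (q - 1)) := by
    simp only [Fin.prod_univ_four, Fin.prod_univ_two, Fin.val_zero, Fin.val_one, pow_zero, pow_one]
    simp only [show ((2 : Fin 4) : ℕ) = 2 from rfl, show ((3 : Fin 4) : ℕ) = 3 from rfl]
    rw [show q ^ 4 - q = q * (q ^ 3 - 1) by rw [Nat.mul_sub]; ring_nf,
      show q ^ 4 - q ^ 2 = q ^ 2 * (q ^ 2 - 1) by rw [Nat.mul_sub]; ring_nf,
      show q ^ 4 - q ^ 3 = q ^ 3 * (q - 1) by rw [Nat.mul_sub]; ring_nf,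
      show q ^ 2 - q = q * (q - 1) by rw [Nat.mul_sub]; ring_nf]
    ring
  rw [e, pow_succ q 7, Nat.mul_dvd_mul_iff_left (pow_pos (by omega) 7),
    ← ZMod.natCast_eq_zero_iff] at h
  have : Fact (1 < q) := ⟨hq⟩
  have hk : ∀ k : ℕ, 0 < k → ((q ^ k - 1 : ℕ) : ZMod q) = -1 := fun k hk => by
    rw [Nat.cast_sub (Nat.one_le_pow _ _ (by omega)), Nat.cast_pow, ZMod.natCast_self,
      zero_pow hk.ne', Nat.cast_one, zero_sub]
  have h1 : ((q - 1 : ℕ) : ZMod q) = -1 := by simpa using hk 1 one_pos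
  simp only [Nat.cast_mul, hk 4 (by norm_num), hk 3 (by norm_num), hk 2 (by norm_num), h1] at h
  norm_num at h

theorem mem_sl_of_det {x : GL (Fin 6) F} (h : (x : Matrix (Fin 6) (Fin 6) F).det = 1) :
    x ∈ Cfsg.Geo.specialLinear (Fin 6) F := by
  show Matrix.GeneralLinearGroup.det x = 1
  refine Units.ext ?_
  rw [Matrix.GeneralLinearGroup.val_det_apply, h, Units.val_one]

theorem det_blk_symm (X : Matrix (Fin 4 ⊕ Fin 2) (Fin 4 ⊕ Fin 2) F) : (blk.symm X).det = X.det :=
  by simp [blk]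

/-- The unipotent radical of `parab`. -/
def radGL (A : Matrix (Fin 4) (Fin 2) F) : GL (Fin 6) F where
  val := blk.symm (fromBlocks 1 A 0 1)
  inv := blk.symm (fromBlocks 1 (-A) 0 1)
  val_inv := by
    rw [← map_mul, fromBlocks_multiply]
    simp [fromBlocks_one]
  inv_val := by
    rw [← map_mul, fromBlocks_multiply]
    simp [fromBlocks_one]

theorem radGL_blk (A : Matrix (Fin 4) (Fin 2) F) :
    blk (radGL A : Matrix (Fin 6) (Fin 6) F) = fromBlocks 1 A 0 1 := blk.apply_symm_apply _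

theorem radGL_mem_parab (A : Matrix (Fin 4) (Fin 2) F) : radGL A ∈ parab F := by
  rw [mem_parab, radGL_blk, toBlocks_fromBlocks₂₁]

theorem radGL_conj (A : Matrix (Fin 4) (Fin 2) F) :
    blk ((radGL A * sgn F * (radGL A)⁻¹ : GL (Fin 6) F) : Matrix (Fin 6) (Fin 6) F) =
      fromBlocks (-1) ((2 : F) • A) 0 1 := by
  rw [Units.val_mul, Units.val_mul, map_mul, map_mul, blk_sgn, radGL_blk]
  show _ * blk (blk.symm _) = _
  rw [AlgEquiv.apply_symm_apply, fromBlocks_multiply, fromBlocks_multiply]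
  simp [two_smul]

theorem parab_conj {y : GL (Fin 6) F} (hy : y ∈ parab F) :
    ∃ B, blk ((y * sgn F * y⁻¹ : GL (Fin 6) F) : Matrix (Fin 6) (Fin 6) F) = fromBlocks (-1) B 0 1 := by
  obtain ⟨Y, hY⟩ : ∃ Y, Y = blk (y : Matrix (Fin 6) (Fin 6) F) := ⟨_, rfl⟩
  obtain ⟨Y', hY'⟩ : ∃ Y', Y' = blk ((y⁻¹ : GL (Fin 6) F) : Matrix (Fin 6) (Fin 6) F) := ⟨_, rfl⟩
  have e1 := blk_of_mem hy
  have e2 := blk_of_mem (inv_mem hy)
  rw [← hY] at e1
  rw [← hY'] at e2
  have hYY : Y * Y' = 1 := by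
    rw [hY, hY', ← map_mul, ← Units.val_mul, mul_inv_cancel, Units.val_one, map_one]
  rw [Units.val_mul, Units.val_mul, map_mul, map_mul, blk_sgn, ← hY, ← hY', e1, e2,
    fromBlocks_multiply, fromBlocks_multiply]
  rw [e1, e2, fromBlocks_multiply, ← fromBlocks_one, fromBlocks_inj] at hYY
  simp only [Matrix.mul_zero, Matrix.zero_mul, add_zero, zero_add] at hYY
  refine ⟨_, fromBlocks_inj.2 ⟨?_, rfl, ?_, ?_⟩⟩
  · simp [hYY.1]
  · simp
  · simp [hYY.2.2.2]

theorem mem_parab_of_commute (h2 : (2 : F) ≠ 0) {z : GL (Fin 6) F} (hz : Commute z (sgn F)) :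
    z ∈ parab F := by
  rw [mem_parab]
  have h : blk (z : Matrix (Fin 6) (Fin 6) F) * fromBlocks (-1) 0 0 1 =
      fromBlocks (-1) 0 0 1 * blk (z : Matrix (Fin 6) (Fin 6) F) := by
    rw [← blk_sgn, ← map_mul, ← map_mul, ← Units.val_mul, ← Units.val_mul, hz.eq]
  rw [← fromBlocks_toBlocks (blk (z : Matrix (Fin 6) (Fin 6) F)),
    fromBlocks_multiply, fromBlocks_multiply, fromBlocks_inj] at h
  have h21 := h.2.2.1
  simp only [Matrix.mul_neg, Matrix.mul_one, Matrix.zero_mul, Matrix.mul_zero, add_zero,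
    zero_add, Matrix.one_mul] at h21
  ext i j
  have := congrFun (congrFun h21 i) j
  rw [Matrix.neg_apply, neg_eq_iff_add_eq_zero, ← two_mul] at this
  exact (mul_eq_zero.1 this).resolve_left h2

theorem exists_kill {K : Type*} [Field K] (A : Matrix (Fin 4) (Fin 2) K) :
    ∃ W : Matrix (Fin 4) (Fin 4) K, (∀ i : Fin 4, 2 ≤ (i : ℕ) → ∀ j, (W * A) i j = 0) ∧ W.det = 1 := by
  classical
  let L : (Fin 4 → K) →ₗ[K] (Fin 2 → K) := Matrix.vecMulLinear A
  have h1 := LinearMap.finrank_range_add_finrank_ker L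
  have h3 : Module.finrank K (LinearMap.range L) ≤ 2 :=
    (Submodule.finrank_le _).trans (le_of_eq (Module.finrank_fin_fun K))
  rw [Module.finrank_fin_fun] at h1
  obtain ⟨w, hw⟩ := exists_linearIndependent_of_le_finrank (R := K) (M := LinearMap.ker L) (n := 2)
    (by omega)
  obtain ⟨S, hS⟩ : ∃ S : Submodule K (Fin 4 → K), S = Submodule.span K (Set.range fun i => (w i : Fin 4 → K)) :=
    ⟨_, rfl⟩
  have hS2 : Module.finrank K S = 2 := by
    have hw' : LinearIndependent K (fun i => (w i : Fin 4 → K)) := hw.map' _ (Submodule.ker_subtype _)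
    rw [hS, finrank_span_eq_card hw', Fintype.card_fin]
  obtain ⟨S', hS'⟩ := S.exists_isCompl
  have hS'2 : Module.finrank K S' = 2 := by
    have := Submodule.finrank_add_eq_of_isCompl hS'
    rw [Module.finrank_fin_fun] at this; omega
  let b₀ : Module.Basis (Fin 2 ⊕ Fin 2) K (Fin 4 → K) :=
    ((Module.finBasisOfFinrankEq K S' hS'2).prod (Module.finBasisOfFinrankEq K S hS2)).map
      (Submodule.prodEquivOfIsCompl S' S hS'.symm)
  have hb₀ : ∀ k, b₀ (Sum.inr k) ∈ LinearMap.ker L := fun k => by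
    have hle : S ≤ LinearMap.ker L := by
      rw [hS, Submodule.span_le]
      rintro _ ⟨i, rfl⟩
      exact (w i).2
    refine hle ?_
    simp [b₀]
  let b : Module.Basis (Fin 4) K (Fin 4 → K) := b₀.reindex finSumFinEquiv
  let W₀ : Matrix (Fin 4) (Fin 4) K := Matrix.of fun i => b i
  have hW₀ : IsUnit W₀.det := by
    rw [← Matrix.isUnit_iff_isUnit_det, ← Matrix.linearIndependent_rows_iff_isUnit]
    exact b.linearIndependent
  refine ⟨diagonal (Function.update (fun _ => 1) 0 W₀.det⁻¹) * W₀, fun i hi j => ?_, ?_⟩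
  · obtain ⟨k, hk⟩ : ∃ k : Fin 2, (finSumFinEquiv (m := 2) (n := 2)).symm i = Sum.inr k := by
      fin_cases i <;> first | exact ⟨_, rfl⟩ | simp at hi
    have h4 : (W₀ * A) i j = 0 := by
      have := congrFun (LinearMap.mem_ker.1 (hb₀ k)) j
      rw [← hk] at this
      simpa [W₀, b, L, Matrix.mul_apply, Matrix.vecMul, dotProduct] using this
    rw [Matrix.mul_assoc, Matrix.diagonal_mul, h4, mul_zero]
  · rw [det_mul, det_diagonal, Fin.prod_univ_four]
    simp [inv_mul_cancel₀ hW₀.ne_zero]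

/-- The permutation carrying `e₂ e₃` to `e₄ e₅`. -/
def pairSwap : Equiv.Perm (Fin 6) := Equiv.swap 2 4 * Equiv.swap 3 5

theorem pairSwap_sgn {F₀ : Subfield F} :
    blk (pairSwap.permMatrix F * (sgn F : Matrix (Fin 6) (Fin 6) F) * pairSwap.permMatrix F) =
      fromBlocks ((diagonal fun i : Fin 4 => if (i : ℕ) < 2 then (-1 : F₀) else 1).map F₀.subtype) 0 0 (-1) := by
  rw [Equiv.Perm.permMatrix, PEquiv.toMatrix_toPEquiv_mul, PEquiv.mul_toMatrix_toPEquiv]
  ext a b
  rw [blk_apply, show (sgn F : Matrix (Fin 6) (Fin 6) F) =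
    diagonal fun i => if i ∈ (Finset.univ.filter fun i : Fin 6 => (i : ℕ) < 4) then (-1 : F) else 1 from rfl]
  simp only [Matrix.submatrix_apply, id, diagonal_apply, show pairSwap.symm = pairSwap by decide]
  rcases a with a | a <;> rcases b with b | b <;> fin_cases a <;> fin_cases b <;>
    simp [pairSwap, Equiv.swap_apply_def, finSumFinEquiv]

/-- A radical element commutes with a rational conjugate of the sign matrix. -/
theorem exists_commute {F₀ : Subfield F} (A : Matrix (Fin 4) (Fin 2) F₀) :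
    ∃ g ∈ Cfsg.Geo.subfieldSubgroup F₀ (1 : GL (Fin 6) F) ⊓ Cfsg.Geo.specialLinear (Fin 6) F,
      Commute (radGL (A.map F₀.subtype)) (g * sgn F * g⁻¹) := by
  classical
  obtain ⟨W, hW, hWdet⟩ := exists_kill A
  have hσ2 : pairSwap.permMatrix F * pairSwap.permMatrix F = 1 := by
    rw [← Matrix.permMatrix_mul, show pairSwap * pairSwap = 1 by decide, Matrix.permMatrix_one]
  have hWW : W⁻¹ * W = 1 := Matrix.nonsing_inv_mul W (by rw [hWdet]; exact isUnit_one)
  let G₁ : Matrix (Fin 6) (Fin 6) F :=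
    blk.symm (fromBlocks (W⁻¹.map F₀.subtype) 0 0 1) * pairSwap.permMatrix F
  let G₂ : Matrix (Fin 6) (Fin 6) F :=
    pairSwap.permMatrix F * blk.symm (fromBlocks (W.map F₀.subtype) 0 0 1)
  have h12 : G₁ * G₂ = 1 := by
    simp only [G₁, G₂]
    rw [Matrix.mul_assoc, ← Matrix.mul_assoc (pairSwap.permMatrix F), hσ2, Matrix.one_mul, ← map_mul,
      fromBlocks_multiply, ← Matrix.map_mul, hWW]
    simp [fromBlocks_one]
  let g₁ : GL (Fin 6) F := ⟨G₁, G₂, h12, mul_eq_one_comm.1 h12⟩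
  have hdet : G₁.det = 1 := by
    rw [det_mul, det_permutation, show Equiv.Perm.sign pairSwap = 1 by decide,
      det_blk_symm, det_fromBlocks_zero₂₁, det_one, mul_one,
      show W⁻¹.map F₀.subtype = F₀.subtype.mapMatrix W⁻¹ from rfl, ← RingHom.map_det, Matrix.det_nonsing_inv,
      hWdet]
    simp
  refine ⟨g₁, ⟨ratMat_mem_subfieldSubgroup fun i j => ?_, mem_sl_of_det hdet⟩, ?_⟩
  · show G₁ i j ∈ F₀
    simp only [G₁, Matrix.mul_apply]
    refine sum_mem fun k _ => mul_mem ?_ ?_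
    · show fromBlocks _ _ _ _ _ _ ∈ F₀
      rcases (finSumFinEquiv (m := 4) (n := 2)).symm i with a | a <;>
        rcases (finSumFinEquiv (m := 4) (n := 2)).symm k with b | b
      · exact (W⁻¹ a b).2
      · exact zero_mem _
      · exact zero_mem _
      · rw [fromBlocks_apply₂₂, Matrix.one_apply]; split_ifs; exacts [one_mem _, zero_mem _]
    · rw [Equiv.Perm.permMatrix, PEquiv.toMatrix_apply]
      split_ifs
      exacts [one_mem _, zero_mem _]
  · refine Units.ext (blk.injective ?_)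
    have hc : blk ((g₁ * sgn F * g₁⁻¹ : GL (Fin 6) F) : Matrix (Fin 6) (Fin 6) F) =
        fromBlocks ((W⁻¹ * (diagonal fun i : Fin 4 => if (i : ℕ) < 2 then (-1 : F₀) else 1) * W).map F₀.subtype)
          0 0 (-1) := by
      show blk (G₁ * (sgn F : Matrix (Fin 6) (Fin 6) F) * G₂) = _
      have e : G₁ * (sgn F : Matrix (Fin 6) (Fin 6) F) * G₂ =
          blk.symm (fromBlocks (W⁻¹.map F₀.subtype) 0 0 1) *
            (pairSwap.permMatrix F * (sgn F : Matrix (Fin 6) (Fin 6) F) * pairSwap.permMatrix F) *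
            blk.symm (fromBlocks (W.map F₀.subtype) 0 0 1) := by
        simp only [G₁, G₂, Matrix.mul_assoc]
      rw [e, map_mul, map_mul, pairSwap_sgn (F₀ := F₀), AlgEquiv.apply_symm_apply,
        AlgEquiv.apply_symm_apply, fromBlocks_multiply, fromBlocks_multiply]
      simp only [Matrix.zero_mul, Matrix.mul_zero, add_zero, zero_add, Matrix.one_mul, Matrix.mul_one,
        ← Matrix.map_mul]
    show blk ((radGL (A.map F₀.subtype) : Matrix (Fin 6) (Fin 6) F) *
        ((g₁ * sgn F * g₁⁻¹ : GL (Fin 6) F) : Matrix (Fin 6) (Fin 6) F)) =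
      blk (((g₁ * sgn F * g₁⁻¹ : GL (Fin 6) F) : Matrix (Fin 6) (Fin 6) F) *
        (radGL (A.map F₀.subtype) : Matrix (Fin 6) (Fin 6) F))
    rw [map_mul, map_mul, hc, radGL_blk, fromBlocks_multiply,
      fromBlocks_multiply]
    have h6 : W⁻¹ * (diagonal fun i : Fin 4 => if (i : ℕ) < 2 then (-1 : F₀) else 1) * W * A = -A := by
      have h5 : (diagonal fun i : Fin 4 => if (i : ℕ) < 2 then (-1 : F₀) else 1) * (W * A) = -(W * A) := by
        ext i j
        rw [Matrix.diagonal_mul, Matrix.neg_apply]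
        split_ifs with hi
        · rw [neg_one_mul]
        · rw [hW i (by omega) j]; simp
      rw [Matrix.mul_assoc, Matrix.mul_assoc, h5, Matrix.mul_neg, ← Matrix.mul_assoc, hWW, Matrix.one_mul]
    refine fromBlocks_inj.2 ⟨by simp, ?_, by simp, by simp⟩
    rw [← Matrix.map_mul, h6]
    ext i j; simp


variable {F₀ : Subfield F} {r : ℕ} {M : Subgroup (GL (Fin 6) F)} (C : Ctx F₀ r M)
include C

/-- The centraliser in `M` of a rational unipotent element with square-zero residual. -/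
theorem mem_of_commute_unipotent {g : GL (Fin 6) F} (hg : g ∈ M) {R : Matrix (Fin 6) (Fin 6) F}
    (hR : RatMat F₀ R) (hA2 : (R - 1) * (R - 1) = 0) (h1 : R ≠ 1)
    (hgR : Commute (g : Matrix (Fin 6) (Fin 6) F) R) : g ∈ Cfsg.Geo.subfieldSubgroup F₀ 1 := by
  set A := R - 1 with hA
  have hAr : RatMat F₀ A := fun i j => by
    simp only [hA, Matrix.sub_apply, Matrix.one_apply]
    refine sub_mem (hR i j) ?_
    split_ifs
    exacts [one_mem _, zero_mem _]
  have hne : R ≠ (1 : F) • 1 := by rwa [one_smul]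
  by_cases hmin : ∃ a b k l, A a k * A b l - A b k * A a l ≠ 0
  · obtain ⟨a, b, k, l, hd⟩ := hmin
    have hRA : R * A = A := by rw [show R = A + 1 by rw [hA, sub_add_cancel], add_mul, hA2, zero_add, one_mul]
    have hcol : ∀ i, R *ᵥ (fun j => A j i) = (1 : F) • fun j => A j i := by
      intro i
      rw [one_smul]
      funext j
      exact congrFun (congrFun hRA j) i
    exact mem_of_commute C hg hR hgR (one_mem F₀) hne
      (y := fun j => A j k) (y' := fun j => A j l) (fun j => hAr j k) (fun j => hAr j l) hd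
      (hcol k) (hcol l)
  · push Not at hmin
    obtain ⟨k, q, hkq⟩ : ∃ k q, A k q ≠ 0 := by
      by_contra hno
      push Not at hno
      exact h1 (sub_eq_zero.1 (Matrix.ext hno : A = 0))
    obtain ⟨p, hp⟩ := exists_avoid ({q} : Finset (Fin 6)) (by rw [Finset.card_singleton]; omega)
    obtain ⟨p', hp'⟩ := exists_avoid ({p, q} : Finset (Fin 6))
      (Finset.card_le_two.trans_lt (by omega))
    simp only [Finset.mem_insert, Finset.mem_singleton, not_or] at hp hp'
    let v : Fin 6 → Fin 6 → F := fun p => A k q • Pi.single p 1 - A k p • Pi.single q 1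
    have hv : ∀ p, RatVec F₀ (v p) := fun p =>
      RatVec.sub (RatVec.smul (hAr k q) (ratVec_single _ (one_mem _)))
        (RatVec.smul (hAr k p) (ratVec_single _ (one_mem _)))
    have hev : ∀ p, R *ᵥ v p = (1 : F) • v p := by
      intro p
      have h0 : A *ᵥ v p = 0 := by
        funext i
        simp only [v, mulVec_sub, mulVec_smul, mulVec_single_one, Pi.sub_apply, Pi.smul_apply,
          Matrix.col_apply, smul_eq_mul, Pi.zero_apply]
        linear_combination hmin k i q p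
      rw [show R = A + 1 by rw [hA, sub_add_cancel], add_mulVec, one_mulVec, h0, zero_add, one_smul]
    refine mem_of_commute C hg hR hgR (one_mem F₀) hne (hv p) (hv p') (a := p) (b := p') ?_ (hev p) (hev p')
    simp [v, hp, hp'.1, Ne.symm hp'.1, hp'.2, hkq]

/-- Conjugates of the sign matrix by the radical give `q ^ 8` points of an orbit. -/
theorem parab_orbit (hr2 : r ≠ 2) (h2 : (2 : F) ≠ 0) {D : Subgroup (GL (Fin 6) F)}
    (hDS : D ≤ Cfsg.Geo.subfieldSubgroup F₀ 1) (hsS : sgn F ∈ Cfsg.Geo.subfieldSubgroup F₀ 1)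
    (htr : ∀ g ∈ Cfsg.Geo.subfieldSubgroup F₀ (1 : GL (Fin 6) F) ⊓ Cfsg.Geo.specialLinear (Fin 6) F,
      ∃ R ∈ D, R * (g * sgn F * g⁻¹) * R⁻¹ = sgn F) :
    Nat.card F₀ ^ 8 ∣ Nat.card (D ⊓ parab F : Subgroup (GL (Fin 6) F)) := by
  classical
  obtain ⟨H, hH⟩ : ∃ H, H = D ⊓ parab F := ⟨_, rfl⟩
  rw [← hH]
  letI act : MulAction H (GL (Fin 6) F) :=
    MulAction.compHom (GL (Fin 6) F) ((MulAut.conj (G := GL (Fin 6) F)).comp H.subtype)
  have hUS : ∀ A : Matrix (Fin 4) (Fin 2) F₀, radGL (A.map F₀.subtype) ∈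
      Cfsg.Geo.subfieldSubgroup F₀ (1 : GL (Fin 6) F) ⊓ Cfsg.Geo.specialLinear (Fin 6) F := fun A => by
    refine ⟨ratMat_mem_subfieldSubgroup fun i j => ?_, mem_sl_of_det ?_⟩
    · show fromBlocks 1 _ 0 1 _ _ ∈ F₀
      rcases (finSumFinEquiv (m := 4) (n := 2)).symm i with a | a <;>
        rcases (finSumFinEquiv (m := 4) (n := 2)).symm j with b | b
      · rw [fromBlocks_apply₁₁, Matrix.one_apply]; split_ifs; exacts [one_mem _, zero_mem _]
      · exact SetLike.coe_mem _
      · exact zero_mem _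
      · rw [fromBlocks_apply₂₂, Matrix.one_apply]; split_ifs; exacts [one_mem _, zero_mem _]
    · rw [show ((radGL (A.map F₀.subtype) : GL (Fin 6) F) : Matrix (Fin 6) (Fin 6) F) =
        blk.symm (fromBlocks 1 (A.map F₀.subtype) 0 1) from rfl]
      rw [det_blk_symm, det_fromBlocks_zero₂₁, det_one, det_one, one_mul]
  have hUinj : Function.Injective fun A : Matrix (Fin 4) (Fin 2) F₀ =>
      radGL (A.map F₀.subtype) * sgn F * (radGL (A.map F₀.subtype))⁻¹ := fun A B e => by
    have := congrArg (fun x : GL (Fin 6) F => blk (x : Matrix (Fin 6) (Fin 6) F)) e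
    simp only [radGL_conj, fromBlocks_inj] at this
    ext i j
    have h := congrFun (congrFun this.2.1 i) j
    simp only [Matrix.smul_apply, Matrix.map_apply, smul_eq_mul] at h
    exact mul_left_cancel₀ h2 h
  have horb : MulAction.orbit H (sgn F) = Set.range fun A : Matrix (Fin 4) (Fin 2) F₀ =>
      radGL (A.map F₀.subtype) * sgn F * (radGL (A.map F₀.subtype))⁻¹ := by
    ext x
    constructor
    · rintro ⟨⟨y, hy⟩, rfl⟩
      obtain ⟨hyD, hyQ⟩ : y ∈ D ∧ y ∈ parab F := Subgroup.mem_inf.1 (hH ▸ hy)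
      show y * sgn F * y⁻¹ ∈ _
      have hs2 : sgn F * sgn F = 1 := signs_sq _
      have hxr : RatMat F₀ ((y * sgn F * y⁻¹ : GL (Fin 6) F) : Matrix (Fin 6) (Fin 6) F) :=
        ratMat_of_involution C (.inl hr2)
          (by rw [show y * sgn F * y⁻¹ * (y * sgn F * y⁻¹) = y * (sgn F * sgn F) * y⁻¹ by group, hs2, mul_one,
            mul_inv_cancel])
          (mul_mem (mul_mem (hDS hyD) hsS) (inv_mem (hDS hyD)))
      obtain ⟨B, hB⟩ := parab_conj hyQ
      have hBr : ∀ i j, B i j ∈ F₀ := fun i j => by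
        have := blk_ratMat hxr (.inl i) (.inr j)
        rwa [hB, fromBlocks_apply₁₂] at this
      refine ⟨fun i j => (2 : F₀)⁻¹ * ⟨B i j, hBr i j⟩, Units.ext (blk.injective ?_)⟩
      beta_reduce
      refine (radGL_conj _).trans (Eq.trans ?_ hB.symm)
      refine fromBlocks_inj.2 ⟨rfl, ?_, rfl, rfl⟩
      ext i j
      show (2 : F) * ((2⁻¹ * ⟨B i j, hBr i j⟩ : F₀) : F) = B i j
      push_cast
      rw [show ((2 : F₀) : F) = 2 from rfl, ← mul_assoc, mul_inv_cancel₀ h2, one_mul]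
    · rintro ⟨A, rfl⟩
      obtain ⟨R, hR, hRx⟩ := htr _ (hUS A)
      have hcs : Commute (R * radGL (A.map F₀.subtype)) (sgn F) := by
        refine mul_inv_eq_iff_eq_mul.1 ?_
        refine Eq.trans ?_ hRx
        group
      have hRQ : R ∈ parab F := by
        simpa using mul_mem (mem_parab_of_commute h2 hcs) (inv_mem (radGL_mem_parab (A.map F₀.subtype)))
      refine ⟨⟨R⁻¹, hH ▸ Subgroup.mem_inf.2 ⟨inv_mem hR, inv_mem hRQ⟩⟩, ?_⟩
      show R⁻¹ * sgn F * R⁻¹⁻¹ = _
      nth_rewrite 1 [← hRx]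
      group
  have h1 := MulAction.index_stabilizer H (sgn F)
  rw [horb, Set.ncard_range_of_injective hUinj] at h1
  have h3 : Nat.card (Matrix (Fin 4) (Fin 2) F₀) = Nat.card F₀ ^ 8 := by
    rw [Matrix, Nat.card_fun, Nat.card_fun]; simp [← pow_mul]
  rw [← h3, ← h1]
  exact Subgroup.index_dvd_card _

omit C in
/-- A rational subgroup of `parab` of order divisible by `q ^ 8` meets the radical. -/
theorem exists_rad {H : Subgroup (GL (Fin 6) F)} (hHS : H ≤ Cfsg.Geo.subfieldSubgroup F₀ 1)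
    (hHQ : H ≤ parab F) (hdvd : Nat.card F₀ ^ 8 ∣ Nat.card H) :
    ∃ A : Matrix (Fin 4) (Fin 2) F₀, radGL (A.map F₀.subtype) ∈ H ∧ A ≠ 0 := by
  classical
  obtain ⟨p, hp⟩ := CharP.exists F
  have hpp : p.Prime := CharP.char_is_prime F p
  have : Fact p.Prime := ⟨hpp⟩
  have : CharP F₀ p := (RingHom.charP_iff_charP F₀.subtype p).2 hp
  obtain ⟨f, -, hq⟩ := FiniteField.card F₀ p
  have hq' : Nat.card F₀ = p ^ (f : ℕ) := by rw [Nat.card_eq_fintype_card]; exact hq
  obtain ⟨P⟩ := (inferInstance : Nonempty (Sylow p H))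
  have hPr : ∀ y : ↥(P : Subgroup H), RatMat F₀ ((y.1.1 : GL (Fin 6) F) : Matrix (Fin 6) (Fin 6) F) := by
    intro y
    obtain ⟨m, hm⟩ := P.2 y
    refine ratVec_of_pow (hHS y.1.2) (p := p) (m := m) ?_
    simpa using congrArg (fun w : ↥(P : Subgroup H) => (w.1.1 : GL (Fin 6) F)) hm
  have hPQ : ∀ y : ↥(P : Subgroup H), (y.1.1 : GL (Fin 6) F) ∈ parab F := fun y => hHQ y.1.2
  let B : ↥(P : Subgroup H) → Matrix (Fin 4) (Fin 4) F₀ × Matrix (Fin 2) (Fin 2) F₀ := fun y =>
    (fun i j => ⟨_, blk_ratMat (hPr y) (.inl i) (.inl j)⟩, fun i j => ⟨_, blk_ratMat (hPr y) (.inr i) (.inr j)⟩)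
  have hB : ∀ y, (B y).1.map F₀.subtype = (blk ((y.1.1 : GL (Fin 6) F) : Matrix (Fin 6) (Fin 6) F)).toBlocks₁₁ ∧
      (B y).2.map F₀.subtype = (blk ((y.1.1 : GL (Fin 6) F) : Matrix (Fin 6) (Fin 6) F)).toBlocks₂₂ :=
    fun y => ⟨rfl, rfl⟩
  have hcoe : ∀ {m : ℕ}, Function.Injective fun A : Matrix (Fin m) (Fin m) F₀ => A.map F₀.subtype :=
    fun {m} => Matrix.map_injective F₀.subtype.injective
  let φ : ↥(P : Subgroup H) →* Matrix (Fin 4) (Fin 4) F₀ × Matrix (Fin 2) (Fin 2) F₀ :=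
    { toFun := B
      map_one' := Prod.ext (hcoe (by
          beta_reduce
          rw [(hB 1).1, Prod.fst_one, Matrix.map_one _ (map_zero _) (map_one _)]
          simp [← fromBlocks_one]))
        (hcoe (by
          beta_reduce
          rw [(hB 1).2, Prod.snd_one, Matrix.map_one _ (map_zero _) (map_one _)]
          simp [← fromBlocks_one]))
      map_mul' := fun y w => Prod.ext (hcoe (by
          beta_reduce
          rw [(hB _).1, Prod.fst_mul, Matrix.map_mul, (hB _).1, (hB _).1]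
          simp only [Subgroup.coe_mul, Units.val_mul, map_mul]
          rw [blk_of_mem (hPQ y), blk_of_mem (hPQ w), fromBlocks_multiply]
          simp))
        (hcoe (by
          beta_reduce
          rw [(hB _).2, Prod.snd_mul, Matrix.map_mul, (hB _).2, (hB _).2]
          simp only [Subgroup.coe_mul, Units.val_mul, map_mul]
          rw [blk_of_mem (hPQ y), blk_of_mem (hPQ w), fromBlocks_multiply]
          simp)) }
  obtain ⟨y, hyφ, hy1⟩ : ∃ y, φ y = 1 ∧ y ≠ 1 := by
    by_contra hno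
    push Not at hno
    have hinj : Function.Injective φ.toHomUnits := by
      refine (injective_iff_map_eq_one _).2 fun y hy => hno y ?_
      simpa using congrArg Units.val hy
    have h1 := Subgroup.card_dvd_of_injective _ hinj
    rw [Nat.card_congr MulEquiv.prodUnits.toEquiv, Nat.card_prod, card_GL_field, card_GL_field,
      ← Nat.card_eq_fintype_card] at h1
    refine not_dvd_seven (Finite.one_lt_card (α := F₀)) (dvd_trans ?_ h1)
    rw [P.card_eq_multiplicity, hq', ← pow_mul]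
    refine pow_dvd_pow p ((hpp.pow_dvd_iff_le_factorization Nat.card_pos.ne').1 ?_)
    rw [pow_mul, ← hq']
    exact hdvd
  obtain ⟨A, hA⟩ : ∃ A : Matrix (Fin 4) (Fin 2) F₀,
      A = fun i j => ⟨_, blk_ratMat (hPr y) (.inl i) (.inr j)⟩ := ⟨_, rfl⟩
  have hyA : y.1.1 = radGL (A.map F₀.subtype) := by
    refine Units.ext (blk.injective ?_)
    rw [radGL_blk, blk_of_mem (hPQ y), ← (hB y).1, ← (hB y).2, show B y = 1 from hyφ, hA,
      Prod.fst_one, Prod.snd_one, Matrix.map_one _ (map_zero _) (map_one _),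
      Matrix.map_one _ (map_zero _) (map_one _)]
    rfl
  refine ⟨A, hyA ▸ y.1.2, fun h0 => hy1 (Subtype.ext (Subtype.ext ?_))⟩
  refine hyA.trans (Units.ext (blk.injective ?_))
  rw [radGL_blk, h0, Matrix.map_zero _ (map_zero _)]
  simp [← fromBlocks_one]


/-- An involution of `M` with two-dimensional residual lies in the subfield group. -/
theorem six_key (hr2 : r ≠ 2) (h2 : (2 : F) ≠ 0) {t : GL (Fin 6) F} (ht : t ∈ M) (ht2 : t * t = 1)
    (hrk : ((t : Matrix (Fin 6) (Fin 6) F) - 1).rank = 2) : t ∈ Cfsg.Geo.subfieldSubgroup F₀ 1 := by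
  classical
  by_contra htS
  set S := Cfsg.Geo.subfieldSubgroup F₀ (1 : GL (Fin 6) F) with hSdef
  set SL := Cfsg.Geo.specialLinear (Fin 6) F
  obtain ⟨hzS, hzM⟩ := signs_mem C (Finset.univ : Finset (Fin 6)) (by simp; decide)
  set z₀ : GL (Fin 6) F := signs (Finset.univ : Finset (Fin 6))
  have hz₀ : (z₀ : Matrix (Fin 6) (Fin 6) F) = -1 := neg_rank h2
  have hrkneg : ∀ {x : GL (Fin 6) F}, x * x = 1 → ((x : Matrix (Fin 6) (Fin 6) F) - 1).rank = 4 →
      (((z₀ * x : GL (Fin 6) F)) : Matrix (Fin 6) (Fin 6) F) - 1 = -((x : Matrix (Fin 6) (Fin 6) F) + 1) := by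
    intro x _ _
    rw [Units.val_mul, hz₀, neg_one_mul, neg_add, sub_eq_add_neg]
  -- the standard involution and its rational conjugates
  set s := sgn F with hsdef
  have hcard4 : (Finset.univ.filter fun i : Fin 6 => (i : ℕ) < 4).card = 4 := by decide
  obtain ⟨hsS, hsM⟩ : s ∈ S ∧ s ∈ M := signs_mem C _
    (show Even (Finset.univ.filter fun i : Fin 6 => (i : ℕ) < 4).card by rw [hcard4]; decide)
  have hs2 : s * s = 1 := signs_sq _
  have hsr : ((s : Matrix (Fin 6) (Fin 6) F) - 1).rank = 4 := (signs_rank h2 _).trans hcard4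
  have hr1 : ∀ {x : GL (Fin 6) F}, ((x : Matrix (Fin 6) (Fin 6) F) - 1).rank = 4 → x ≠ 1 := by
    intro x hx e
    rw [e, Units.val_one, sub_self, rank_zero] at hx
    omega
  have hr6 : ((-1 : Matrix (Fin 6) (Fin 6) F) - 1).rank = 6 := by
    have := signs_rank h2 (Finset.univ : Finset (Fin 6))
    rwa [neg_rank h2] at this
  have hr1' : ∀ {x : GL (Fin 6) F}, ((x : Matrix (Fin 6) (Fin 6) F) - 1).rank = 4 →
      (x : Matrix (Fin 6) (Fin 6) F) ≠ -1 := by
    intro x hx e
    rw [e, hr6] at hx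
    omega
  -- the negative of an involution with residual of dimension 4
  have hswap : ∀ {x : GL (Fin 6) F}, x * x = 1 →
      ((x : Matrix (Fin 6) (Fin 6) F) - 1).rank + (((z₀ * x : GL (Fin 6) F) : Matrix (Fin 6) (Fin 6) F) - 1).rank = 6 := by
    intro x hx
    rw [Units.val_mul, hz₀, neg_one_mul, ← neg_add', rank_neg_eq]
    set X := (x : Matrix (Fin 6) (Fin 6) F)
    have hX : X * X = 1 := by rw [← Units.val_mul, hx, Units.val_one]
    have hinf : LinearMap.range (X - 1).mulVecLin ⊔ LinearMap.range (X + 1).mulVecLin = ⊤ := by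
      rw [eq_top_iff]
      intro v _
      rw [Submodule.mem_sup]
      refine ⟨(X - 1) *ᵥ ((-2 : F)⁻¹ • v), ⟨_, rfl⟩, (X + 1) *ᵥ ((2 : F)⁻¹ • v), ⟨_, rfl⟩, ?_⟩
      rw [mulVec_smul, mulVec_smul, sub_mulVec, add_mulVec, one_mulVec, inv_neg, neg_smul, ← smul_neg,
        ← smul_add, neg_sub, show v - X *ᵥ v + (X *ᵥ v + v) = (2 : F) • v by rw [two_smul]; abel,
        smul_smul, inv_mul_cancel₀ h2, one_smul]
    have hdis : LinearMap.range (X - 1).mulVecLin ⊓ LinearMap.range (X + 1).mulVecLin = ⊥ := by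
      rw [eq_bot_iff]
      rintro v ⟨⟨a, ha⟩, b, hb⟩
      have e1 : X *ᵥ v = -v := by
        rw [← ha]; simp only [mulVecLin_apply, sub_mulVec, one_mulVec, mulVec_sub, mulVec_mulVec, hX]
        abel
      have e2 : X *ᵥ v = v := by
        rw [← hb]; simp only [mulVecLin_apply, add_mulVec, one_mulVec, mulVec_add, mulVec_mulVec, hX]
        abel
      rw [Submodule.mem_bot]
      have : (2 : F) • v = 0 := by rw [two_smul]; nth_rewrite 1 [← e2]; rw [e1, neg_add_cancel]
      exact (smul_eq_zero.1 this).resolve_left h2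
    have := Submodule.finrank_sup_add_finrank_inf_eq (LinearMap.range (X - 1).mulVecLin)
      (LinearMap.range (X + 1).mulVecLin)
    rw [hinf, hdis, finrank_top, finrank_bot, Module.finrank_fin_fun] at this
    exact this.symm
  set t' := z₀ * t with ht'def
  have hzc : ∀ x : GL (Fin 6) F, Commute z₀ x := fun x => Units.ext (by
    simp [hz₀])
  have ht'2 : t' * t' = 1 := by
    rw [ht'def, show z₀ * t * (z₀ * t) = z₀ * (t * z₀) * t by group, ← (hzc t).eq,
      show z₀ * (z₀ * t) * t = (z₀ * z₀) * (t * t) by group, signs_sq _, ht2, one_mul]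
  have ht'M : t' ∈ M := mul_mem hzM ht
  have ht'S : t' ∉ S := fun e => htS (by
    have := mul_mem hzS e
    rwa [ht'def, ← mul_assoc, signs_sq _, one_mul] at this)
  have ht'r : ((t' : Matrix (Fin 6) (Fin 6) F) - 1).rank = 4 := by
    have h6 := hswap ht2
    rw [show ((z₀ * t : GL (Fin 6) F)) = t' from rfl] at h6
    rw [hrk] at h6
    omega
  -- every rational conjugate of `s` is carried to `t'` by an element it inverts
  have claim : ∀ g ∈ S ⊓ SL, ∀ x : GL (Fin 6) F, x = g * s * g⁻¹ →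
      ∃ d ∈ M, x * d * x⁻¹ = d⁻¹ ∧ d * x * d⁻¹ = t' := by
    rintro g ⟨hgS, hgL⟩ x hx
    have hgM : g ∈ M := C.le ⟨hgS, hgL⟩
    have hxS : x ∈ S := hx ▸ mul_mem (mul_mem hgS hsS) (inv_mem hgS)
    have hxM : x ∈ M := hx ▸ mul_mem (mul_mem hgM hsM) (inv_mem hgM)
    have hx2 : x * x = 1 := by
      rw [hx, show g * s * g⁻¹ * (g * s * g⁻¹) = g * (s * s) * g⁻¹ by group, hs2, mul_one, mul_inv_cancel]
    have hxr : ((x : Matrix (Fin 6) (Fin 6) F) - 1).rank = 4 := by
      rw [rank_conj (isConj_iff.2 ⟨g, hx.symm⟩), hsr]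
    obtain ⟨ρ, hρ⟩ : ∃ ρ, ρ = x * t' := ⟨_, rfl⟩
    have hxi : x⁻¹ = x := inv_eq_of_mul_eq_one_right hx2
    have hxρ : x * ρ * x⁻¹ = ρ⁻¹ := by
      rw [hρ, _root_.mul_inv_rev, hxi, inv_eq_of_mul_eq_one_right ht'2, ← mul_assoc, hx2, one_mul]
    have hpow : ∀ m : ℕ, x * ρ ^ m * x⁻¹ = (ρ ^ m)⁻¹ := fun m => by rw [← conj_pow, hxρ, inv_pow]
    have hconj : ∀ m : ℕ, (ρ ^ m)⁻¹ * x * ρ ^ m = x * ρ ^ (2 * m) := fun m => by
      rw [← hpow, hxi, two_mul, pow_add]
      calc x * ρ ^ m * x * x * ρ ^ m = x * ρ ^ m * (x * x) * ρ ^ m := by group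
        _ = x * (ρ ^ m * ρ ^ m) := by rw [hx2, mul_one, mul_assoc]
    have htx : t' = x * ρ := by rw [hρ, ← mul_assoc, hx2, one_mul]
    rcases Nat.even_or_odd' (orderOf ρ) with ⟨k, hk | hk⟩
    · exfalso
      have hk0 : 0 < k := by have := orderOf_pos ρ; omega
      set j := ρ ^ k with hj
      have hj1 : j ≠ 1 := pow_ne_one_of_lt_orderOf hk0.ne' (by omega)
      have hj2 : j * j = 1 := by rw [hj, ← pow_add, ← two_mul, ← hk, pow_orderOf_eq_one]
      have hjx : Commute j x := by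
        have hh : x * ρ ^ k * x⁻¹ = ρ ^ k := by
          rw [hpow, inv_eq_iff_mul_eq_one, ← pow_add, ← two_mul, ← hk, pow_orderOf_eq_one]
        exact (mul_inv_eq_iff_eq_mul.1 hh).symm
      have hjt : Commute j t' := by rw [htx]; exact hjx.mul_right (Commute.pow_self ρ k)
      have hjS : j ∈ S := centralizer_le C (.inl hr2) hx2 (hr1 hxr) (hr1' hxr) hxS
        (pow_mem (hρ ▸ mul_mem hxM ht'M) k) hjx
      by_cases hjn : (j : Matrix (Fin 6) (Fin 6) F) = -1
      · have hxj : IsConj x (z₀ * x) ∨ IsConj t' (z₀ * x) := by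
          have e : z₀ * x = x * ρ ^ k := by
            rw [← hj, show j = z₀ from Units.ext (hjn.trans hz₀.symm)]; exact (hzc x).eq
          rcases Nat.even_or_odd' k with ⟨l, rfl | rfl⟩
          · exact .inl (isConj_iff.2 ⟨(ρ ^ l)⁻¹, by rw [inv_inv, e, hconj]⟩)
          · refine .inr (isConj_iff.2 ⟨(ρ ^ l)⁻¹, ?_⟩)
            rw [inv_inv, e, htx, pow_succ, ← mul_assoc x, ← hconj l]
            group
        have h6 := hswap hx2
        rcases hxj with h | h <;> have := rank_conj h <;> omega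
      · exact ht'S (centralizer_le C (.inl hr2) hj2 hj1 hjn hjS ht'M hjt.symm)
    · refine ⟨(ρ ^ (k + 1))⁻¹, inv_mem (pow_mem (hρ ▸ mul_mem hxM ht'M) _), ?_, ?_⟩
      · rw [← conj_inv, hpow]
      · rw [inv_inv, hconj, show 2 * (k + 1) = orderOf ρ + 1 by omega, pow_succ, pow_orderOf_eq_one,
          one_mul, ← htx]
  obtain ⟨d, hdM, hds, hdt⟩ := claim 1 (one_mem _) s (by simp)
  -- the elements which stay rational under `d`
  let D : Subgroup (GL (Fin 6) F) := (S ⊓ M) ⊓ S.comap (MulAut.conj d⁻¹).toMonoidHom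
  have hD : ∀ {y}, y ∈ D ↔ (y ∈ S ∧ y ∈ M) ∧ d⁻¹ * y * d ∈ S := fun {y} => by
    simp [D]
  have trans : ∀ g ∈ S ⊓ SL, ∃ R ∈ D, R * (g * s * g⁻¹) * R⁻¹ = s := by
    intro g hg
    obtain ⟨e, heM, hex, het⟩ := claim g hg _ rfl
    have hRM : d⁻¹ * e ∈ M := mul_mem (inv_mem hdM) heM
    have hgM : g ∈ M := C.le hg
    have hR : d⁻¹ * e * (g * s * g⁻¹) * (d⁻¹ * e)⁻¹ = s := by
      rw [show d⁻¹ * e * (g * s * g⁻¹) * (d⁻¹ * e)⁻¹ = d⁻¹ * (e * (g * s * g⁻¹) * e⁻¹) * d by group,
        het, ← hdt]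
      group
    have hcomm : Commute (d⁻¹ * e * g) s := by
      refine mul_inv_eq_iff_eq_mul.1 ?_
      refine Eq.trans ?_ hR
      group
    have hRg : d⁻¹ * e * g ∈ S :=
      centralizer_le C (.inl hr2) hs2 (hr1 hsr) (hr1' hsr) hsS (mul_mem hRM hgM) hcomm
    have hRS : d⁻¹ * e ∈ S := by
      have := mul_mem hRg (inv_mem hg.1)
      rwa [mul_inv_cancel_right] at this
    refine ⟨d⁻¹ * e, hD.2 ⟨⟨hRS, hRM⟩, ?_⟩, hR⟩
    obtain ⟨R, hRdef⟩ : ∃ R, R = d⁻¹ * e := ⟨_, rfl⟩
    rw [← hRdef] at hR hRS ⊢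
    have hx' : g * s * g⁻¹ = R⁻¹ * s * R := by nth_rewrite 2 [← hR]; group
    have he : e = d * R := by rw [hRdef, mul_inv_cancel_left]
    rw [hx', he] at hex
    have key : R * d * s * R = d * s := by
      calc R * d * s * R
          = s⁻¹ * R * (R⁻¹ * s * R * (d * R) * (R⁻¹ * s * R)⁻¹) * R⁻¹ * s * s * R := by group
        _ = s⁻¹ * R * (d * R)⁻¹ * R⁻¹ * s * s * R := by rw [hex]
        _ = s⁻¹ * d⁻¹ * R⁻¹ * (s * s) * R := by group
        _ = s⁻¹ * (s * d * s⁻¹) := by rw [hds, hs2, mul_one]; group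
        _ = d * s⁻¹ := by group
        _ = d * s := by rw [inv_eq_of_mul_eq_one_right hs2]
    have : d⁻¹ * R * d = s * R⁻¹ * s := by
      calc d⁻¹ * R * d = d⁻¹ * (R * d * s * R) * R⁻¹ * s⁻¹ := by group
        _ = s * R⁻¹ * s := by rw [key, inv_eq_of_mul_eq_one_right hs2]; group
    rw [this]
    exact mul_mem (mul_mem hsS (inv_mem hRS)) hsS
  -- no unipotent element of the radical stays rational
  have hfinal : ∀ y ∈ D, RatMat F₀ (y : Matrix (Fin 6) (Fin 6) F) →
      ((y : Matrix (Fin 6) (Fin 6) F) - 1) * ((y : Matrix (Fin 6) (Fin 6) F) - 1) = 0 → y ≠ 1 →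
      ∀ g ∈ S ⊓ SL, ¬ Commute y (g * s * g⁻¹) := by
    intro y hy hyr hy2 hy1 g hg hcomm
    obtain ⟨p, hp⟩ := CharP.exists F
    have : Fact p.Prime := ⟨CharP.char_is_prime F p⟩
    have hpow : ∀ m : ℕ, (y : Matrix (Fin 6) (Fin 6) F) ^ m = 1 + (m : F) • ((y : Matrix (Fin 6) (Fin 6) F) - 1) := by
      intro m
      induction m with
      | zero => simp
      | succ m ih =>
        set A := (y : Matrix (Fin 6) (Fin 6) F) - 1 with hA
        rw [pow_succ, ih, show (y : Matrix (Fin 6) (Fin 6) F) = 1 + A by rw [hA, add_sub_cancel],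
          mul_add, mul_one, add_mul, one_mul, smul_mul_assoc, hy2, smul_zero, add_zero, Nat.cast_succ,
          add_smul, one_smul, add_assoc]
    have hyp : y ^ p ^ 1 = 1 := Units.ext (by
      rw [pow_one, Units.val_pow_eq_pow_val, hpow, CharP.cast_eq_zero, zero_smul, add_zero, Units.val_one])
    have hyd := (hD.1 hy).2
    set yd := d⁻¹ * y * d with hyddef
    have hydr : RatMat F₀ (yd : Matrix (Fin 6) (Fin 6) F) := ratVec_of_pow hyd (p := p) (m := 1) (by
      have h := conj_pow (i := p ^ 1) (a := d⁻¹) (b := y)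
      rw [inv_inv, hyp, mul_one, inv_mul_cancel] at h
      exact h)
    have hyd2 : ((yd : Matrix (Fin 6) (Fin 6) F) - 1) * ((yd : Matrix (Fin 6) (Fin 6) F) - 1) = 0 := by
      have e : (yd : Matrix (Fin 6) (Fin 6) F) - 1 = ((d⁻¹ : GL (Fin 6) F) : Matrix (Fin 6) (Fin 6) F) *
          ((y : Matrix (Fin 6) (Fin 6) F) - 1) * (d : Matrix (Fin 6) (Fin 6) F) := by
        rw [hyddef, Units.val_mul, Units.val_mul, mul_sub, sub_mul, mul_one, ← Units.val_mul d⁻¹ d,
          inv_mul_cancel, Units.val_one]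
      rw [e]
      calc _ = ((d⁻¹ : GL (Fin 6) F) : Matrix (Fin 6) (Fin 6) F) * (((y : Matrix (Fin 6) (Fin 6) F) - 1) *
            ((d * d⁻¹ : GL (Fin 6) F) : Matrix (Fin 6) (Fin 6) F) * ((y : Matrix (Fin 6) (Fin 6) F) - 1)) *
            (d : Matrix (Fin 6) (Fin 6) F) := by rw [Units.val_mul]; noncomm_ring
        _ = 0 := by rw [mul_inv_cancel, Units.val_one, mul_one, hy2, mul_zero, zero_mul]
    have hgM : g ∈ M := C.le hg
    obtain ⟨e, he⟩ : ∃ e, e = g * s * g⁻¹ := ⟨_, rfl⟩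
    rw [← he] at hcomm
    have heS : d⁻¹ * e * d ∈ S := by
      refine mem_of_commute_unipotent C
        (mul_mem (mul_mem (inv_mem hdM) (he ▸ mul_mem (mul_mem hgM hsM) (inv_mem hgM))) hdM) hydr hyd2
        (fun h => hy1 ?_) ?_
      · have := congrArg (fun w : GL (Fin 6) F => d * w * d⁻¹) (Units.ext h : yd = 1)
        simpa [hyddef, mul_assoc] using this
      · refine Commute.units_val ?_
        show d⁻¹ * e * d * (d⁻¹ * y * d) = d⁻¹ * y * d * (d⁻¹ * e * d)
        rw [show d⁻¹ * e * d * (d⁻¹ * y * d) = d⁻¹ * (e * y) * d by group, ← hcomm.eq]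
        group
    obtain ⟨R, hR, hRe⟩ := trans g hg
    rw [← he] at hRe
    have h3 : d⁻¹ * s * d ∈ S := by
      have := mul_mem (mul_mem (hD.1 hR).2 heS) (inv_mem (hD.1 hR).2)
      convert this using 1
      rw [← hRe]; group
    apply ht'S
    have h4 := mul_mem (mul_mem hsS h3) (inv_mem hsS)
    convert h4 using 1
    rw [← hdt]
    calc d * s * d⁻¹ = (s * d⁻¹ * s⁻¹) * s * (s * d⁻¹ * s⁻¹)⁻¹ := by rw [← conj_inv, hds, inv_inv]
      _ = _ := by group
  obtain ⟨A, hAH, hA0⟩ := exists_rad (H := D ⊓ parab F) (fun y hy => (hD.1 hy.1).1.1) inf_le_right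
    (parab_orbit C hr2 h2 (fun y hy => (hD.1 hy).1.1) hsS trans)
  obtain ⟨g, hg, hgc⟩ := exists_commute A
  refine hfinal _ hAH.1 (fun i j => ?_) ?_ (fun h => hA0 ?_) g hg hgc
  · show fromBlocks 1 _ 0 1 _ _ ∈ F₀
    rcases (finSumFinEquiv (m := 4) (n := 2)).symm i with a | a <;>
      rcases (finSumFinEquiv (m := 4) (n := 2)).symm j with b | b
    · rw [fromBlocks_apply₁₁, Matrix.one_apply]; split_ifs; exacts [one_mem _, zero_mem _]
    · exact SetLike.coe_mem _
    · exact zero_mem _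
    · rw [fromBlocks_apply₂₂, Matrix.one_apply]; split_ifs; exacts [one_mem _, zero_mem _]
  · apply blk.injective
    rw [map_mul, map_sub, map_one, radGL_blk, map_zero, ← fromBlocks_one, sub_eq_add_neg, fromBlocks_neg,
      fromBlocks_add, fromBlocks_multiply]
    simp
  · have h' := congrArg (fun x : GL (Fin 6) F => blk (x : Matrix (Fin 6) (Fin 6) F)) h
    simp only [radGL_blk, Units.val_one, map_one, ← fromBlocks_one, fromBlocks_inj] at h'
    ext i j
    simpa using congrFun (congrFun h'.2.1 i) j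

theorem case_six (hr2 : r ≠ 2) (h2 : (2 : F) ≠ 0) {h : GL (Fin 6) F} (hh : h ∈ M) :
    h ∈ Cfsg.Geo.subfieldSubgroup F₀ 1 := by
  classical
  refine mem_of_entries C fun k l hkl a b => ?_
  obtain ⟨u, hu⟩ := exists_avoid ({k, l} : Finset (Fin 6)) (Finset.card_le_two.trans_lt (by omega))
  obtain ⟨v, hv⟩ := exists_avoid ({k, l, u} : Finset (Fin 6))
    (Finset.card_le_three.trans_lt (by omega))
  simp only [Finset.mem_insert, Finset.mem_singleton, not_or] at hu hv
  have hi : ({u, v} : Finset (Fin 6)).card = 2 := Finset.card_pair (Ne.symm hv.2.2)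
  obtain ⟨hiS, hiM⟩ := signs_mem C {u, v} (by rw [hi]; decide)
  obtain ⟨t, ht⟩ : ∃ t, t = h * signs {u, v} * h⁻¹ := ⟨_, rfl⟩
  have ht2 : t * t = 1 := by
    rw [ht, show h * signs {u, v} * h⁻¹ * (h * signs {u, v} * h⁻¹) =
      h * (signs {u, v} * signs {u, v}) * h⁻¹ by group, signs_sq _, mul_one, mul_inv_cancel]
  have htr : ((t : Matrix (Fin 6) (Fin 6) F) - 1).rank = 2 := by
    rw [rank_conj (isConj_iff.2 ⟨h, ht.symm⟩), signs_rank h2, hi]
  have htS := six_key C hr2 h2 (ht ▸ mul_mem (mul_mem hh hiM) (inv_mem hh)) ht2 htr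
  have h0 := rat_tv C (ratVec_single (F₀ := F₀) k (one_mem _))
    (ratVec_single (F₀ := F₀) l (one_mem _)) (by simp [Ne.symm hkl])
  set T := tvGL (Pi.single k (1 : F)) (Pi.single l 1) (by simp [Ne.symm hkl]) with hTdef
  have hTM : T ∈ M := (hasTv_iff _).1 h0
  have hcomm : Commute T (signs {u, v}) := by
    refine Units.ext ?_
    show tvMat _ _ * (diagonal _) = (diagonal _) * tvMat _ _
    rw [tvMat_single]
    ext x y
    simp only [Matrix.transvection, add_mul, mul_add, one_mul, mul_one, Matrix.add_apply,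
      Matrix.mul_diagonal, Matrix.diagonal_mul, Matrix.single_apply]
    by_cases hxy : k = x ∧ l = y
    · obtain ⟨rfl, rfl⟩ := hxy
      simp [Ne.symm hu.1, Ne.symm hu.2, Ne.symm hv.1, Ne.symm hv.2.1]
    · rcases eq_or_ne x y with rfl | hne
      · simp [hxy]
      · simp [hxy, hne]
  have hne1 : t ≠ 1 := fun e => by
    rw [e, Units.val_one, sub_self, rank_zero] at htr; omega
  have hne2 : (t : Matrix (Fin 6) (Fin 6) F) ≠ -1 := fun e => by
    have h6 := signs_rank h2 (Finset.univ : Finset (Fin 6))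
    rw [neg_rank h2, ← e, htr] at h6
    simp at h6
  have hT' : h * T * h⁻¹ ∈ Cfsg.Geo.subfieldSubgroup F₀ 1 := by
    refine centralizer_le C (.inl hr2) ht2 hne1 hne2 htS (mul_mem (mul_mem hh hTM) (inv_mem hh)) ?_
    show h * T * h⁻¹ * t = t * (h * T * h⁻¹)
    rw [ht, show h * T * h⁻¹ * (h * signs {u, v} * h⁻¹) = h * (T * signs {u, v}) * h⁻¹ by group, hcomm.eq]
    group
  have := tv_rat C (a := (h : Matrix (Fin 6) (Fin 6) F) *ᵥ Pi.single k 1)
    (φ := Pi.single l 1 ᵥ* ((h⁻¹ : GL (Fin 6) F) : Matrix (Fin 6) (Fin 6) F)) (h0.conj hh).1 hT'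
    (by rw [Units.val_mul, Units.val_mul, hTdef, coe_tvGL, mul_tvMat_mul _ _ _ _ (by
      rw [← Units.val_mul, mul_inv_cancel, Units.val_one])]) a b
  simpa [Matrix.col_apply] using this

end Six

variable {F₀ : Subfield F} {r : ℕ} {M : Subgroup (GL (Fin n) F)} (C : Ctx F₀ r M)
include C

theorem main (hn : 6 ≤ n) {g : GL (Fin n) F} (hg : g ∈ M) : g ∈ Cfsg.Geo.subfieldSubgroup F₀ 1 := by
  by_cases hr2 : r = 2
  · exact case_quadratic C hr2 hg
  · by_cases h2 : (2 : F) = 0
    · exact case_two C h2 hg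
    · by_cases hn6 : n = 6
      · subst hn6; exact case_six C hr2 h2 hg
      · exact case_odd C hn hn6 hr2 h2 hg

omit C in
theorem base (hn : 6 ≤ n) (F₀ : Subfield F) (r : ℕ) (hr : r.Prime)
    (hcard : Fintype.card F = Nat.card F₀ ^ r) :
    Cfsg.Geo.IsMaximalIn (Cfsg.Geo.specialLinear (Fin n) F)
      (Cfsg.Geo.subfieldSubgroup F₀ 1 ⊓ Cfsg.Geo.specialLinear (Fin n) F) := by
  obtain ⟨c, hc⟩ : ∃ c : F, c ∉ F₀ := by
    by_contra hno
    push Not at hno
    have h1 : Nat.card F₀ = Nat.card F :=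
      Nat.card_congr (Equiv.subtypeUnivEquiv hno)
    rw [Nat.card_eq_fintype_card (α := F), hcard] at h1
    have h2 : 2 ≤ r := hr.two_le
    have h3 : Nat.card F₀ ^ 1 = Nat.card F₀ ^ r := by rw [pow_one]; exact h1
    have := Nat.pow_right_injective (Finite.one_lt_card (α := F₀)) h3
    omega
  refine isMaximalIn_of_lt (lt_of_le_of_ne inf_le_right fun heq => ?_) fun M hM1 hM2 g hg hgH => ?_
  · let i : Fin n := ⟨0, by omega⟩
    let j : Fin n := ⟨1, by omega⟩
    let k : Fin n := ⟨2, by omega⟩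
    have hij : (c • Pi.single j (1 : F) : Fin n → F) ⬝ᵥ Pi.single i 1 = 0 := by simp [i, j]
    have hT := tvGL_mem_specialLinear _ _ hij
    rw [← heq] at hT
    obtain ⟨d, hd, hrat⟩ := (mem_subfieldSubgroup_one _).1 hT.1
    have h1 := hrat k k
    have h2 := hrat i j
    simp [tvMat, i, j, k, vecMulVec_apply, Fin.ext_iff] at h1 h2
    exact hc (by simpa [hd, ← mul_assoc] using mul_mem (inv_mem h1) h2)
  · by_contra hno
    exact hgH ⟨main ⟨by omega, hr, hcard, hM1, hM2, hno⟩ hn hg, hM2 hg⟩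

omit C

/-- For a finite field F, a subfield F₀ with |F| = |F₀| ^ r for a prime r, and n ≥ 13, the subfield group (the conjugate by any P of the product of GL_n(F₀) with the non-zero scalars of F, intersected with SL_n(F)) is a maximal subgroup of SL_n(F). -/
theorem result {F : Type*} [Field F] [Fintype F] (n : ℕ) (hn : 13 ≤ n) (F₀ : Subfield F) (r : ℕ) (hr : r.Prime) (hcard : Fintype.card F = Nat.card F₀ ^ r) (P : Matrix.GeneralLinearGroup (Fin n) F) : Cfsg.Geo.IsMaximalIn (Cfsg.Geo.specialLinear (Fin n) F) (Cfsg.Geo.subfieldSubgroup F₀ P ⊓ Cfsg.Geo.specialLinear (Fin n) F) := by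
  have h := isMaximalIn_map (MulAut.conj P) (base (F := F) (n := n) (by omega) F₀ r hr hcard)
  have hsl : (Cfsg.Geo.specialLinear (Fin n) F).map (MulAut.conj P).toMonoidHom =
      Cfsg.Geo.specialLinear (Fin n) F := by
    haveI : (Cfsg.Geo.specialLinear (Fin n) F).Normal := MonoidHom.normal_ker _
    exact le_antisymm (Subgroup.map_le_iff_le_comap.2 fun x hx => Subgroup.Normal.conj_mem inferInstance x hx P) fun x hx => ⟨P⁻¹ * x * P, by simpa using Subgroup.Normal.conj_mem (H := Cfsg.Geo.specialLinear (Fin n) F) inferInstance x hx P⁻¹, by simp [mul_assoc]⟩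
  have hsub : (Cfsg.Geo.subfieldSubgroup F₀ (1 : GL (Fin n) F)).map (MulAut.conj P).toMonoidHom =
      Cfsg.Geo.subfieldSubgroup F₀ P := by
    rw [Cfsg.Geo.subfieldSubgroup, Cfsg.Geo.subfieldSubgroup, map_one, Subgroup.map_map]
    rfl
  rwa [Subgroup.map_inf _ _ _ (MulAut.conj P).injective, hsl, hsub] at h

end Cfsg.Agent.S5639
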