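import Cfsg.Statements.S5642
import Cfsg.Agent.Lib.MaxSub.Transvection
import Cfsg.Agent.Lib.MaxSub.Dual

set_option autoImplicit false
open Cfsg

namespace Cfsg.Agent.S5642

open Matrix CfsgLib.MaxSub

variable {F : Type*} [Field F] {n : ℕ} {f : (Fin n → F) → (Fin n → F) → F}

/-- The functional `f(·, v)` as a coordinate vector. -/
def dual (hf : Cfsg.Geo.IsBilinearForm f) : (Fin n → F) →ₗ[F] (Fin n → F) where
  toFun v i := f (Pi.single i 1) v
  map_add' u v := funext fun i => hf.add_right _ _ _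
  map_smul' c v := funext fun i => hf.smul_right _ _ _

theorem dual_dot (hf : Cfsg.Geo.IsBilinearForm f) (x v : Fin n → F) :
    dual hf v ⬝ᵥ x = f x v := by
  let L : (Fin n → F) →ₗ[F] F :=
    { toFun := fun y => f y v
      map_add' := fun a b => hf.add_left a b v
      map_smul' := fun c a => hf.smul_left c a v }
  have hx : x = ∑ i, x i • (Pi.single i 1 : Fin n → F) := by
    ext j; simp [Finset.sum_apply, Pi.single_apply]
  show _ = L x
  conv_rhs => rw [hx, map_sum]
  simp [dotProduct, L, dual, mul_comm]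

theorem dual_injective (hf : Cfsg.Geo.IsSymplecticForm f) :
    Function.Injective (dual hf.bilinear) := by
  rw [injective_iff_map_eq_zero]
  intro v hv
  by_contra h
  obtain ⟨x, hx⟩ := (hf.nondegenerate v h).1
  exact hx (by rw [← dual_dot hf.bilinear, hv, zero_dotProduct])

theorem self_tv (hf : Cfsg.Geo.IsSymplecticForm f) (a : Fin n → F) (c : F)
    {M : Subgroup (GL (Fin n) F)}
    (hM : Cfsg.Geo.similarityGroup f ⊓ Cfsg.Geo.specialLinear (Fin n) F ≤ M) :
    HasTv M a (c • dual hf.bilinear a) := by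
  have h0 : (c • dual hf.bilinear a) ⬝ᵥ a = 0 := by simp [dual_dot, hf.alternating]
  rw [hasTv_iff h0]
  refine hM ⟨⟨1, fun u v => ?_⟩, tvGL_mem_specialLinear _ _ _⟩
  simp only [coe_tvGL, tvMat_mulVec, smul_dotProduct, dual_dot, hf.bilinear.add_left,
    hf.bilinear.add_right, hf.bilinear.smul_left, hf.bilinear.smul_right, hf.alternating,
    smul_eq_mul, Units.val_one, one_mul]
  rw [hf.skew a v]
  ring

theorem spread (hf : Cfsg.Geo.IsSymplecticForm f) {M : Subgroup (GL (Fin n) F)}
    (hM : Cfsg.Geo.similarityGroup f ⊓ Cfsg.Geo.specialLinear (Fin n) F ≤ M) {a : Fin n → F}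
    (h : ∀ φ, φ ⬝ᵥ a = 0 → HasTv M a φ) (b : Fin n → F) (hab : f a b ≠ 0) :
    ∀ φ, φ ⬝ᵥ b = 0 → HasTv M b φ := by
  intro φ hφ
  set z := b - a with hz
  set c := (f a b)⁻¹ with hc
  obtain ⟨h0, g, hg, hgv⟩ := self_tv hf z c hM
  have hga : (g : Matrix (Fin n) (Fin n) F) *ᵥ a = b := by
    rw [hgv, tvMat_mulVec, smul_dotProduct, dual_dot]
    have : f a z = f a b := by
      have := hf.bilinear.add_right a z a
      rw [hz, sub_add_cancel, hf.alternating, add_zero] at this
      rw [hz]; exact this.symm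
    rw [this, smul_eq_mul, hc, inv_mul_cancel₀ hab, one_smul, hz]
    abel
  have key : HasTv M a (φ ᵥ* (g : Matrix (Fin n) (Fin n) F)) := by
    refine h _ ?_
    rw [← dotProduct_mulVec, hga, hφ]
  have := key.conj hg
  rwa [hga, vecMul_vecMul, ← Units.val_mul, mul_inv_cancel, Units.val_one, vecMul_one] at this

theorem key (hf : Cfsg.Geo.IsSymplecticForm f) {M : Subgroup (GL (Fin n) F)}
    (hM : Cfsg.Geo.similarityGroup f ⊓ Cfsg.Geo.specialLinear (Fin n) F ≤ M)
    (g : GL (Fin n) F) (hg : g ∈ M) (hgS : g ∉ Cfsg.Geo.similarityGroup f) :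
    Cfsg.Geo.specialLinear (Fin n) F ≤ M := by
  set R := dual hf.bilinear with hR
  have hRi : Function.Injective R := dual_injective hf
  have hRs : Function.Surjective R := LinearMap.injective_iff_surjective.1 hRi
  -- a transvection in `M` which is not symplectic
  have hex : ∃ a w, HasTv M a (R w) ∧ w ∉ Submodule.span F {a} ∧ a ≠ 0 := by
    by_contra hno
    push Not at hno
    let gm : (Fin n → F) →ₗ[F] (Fin n → F) := Matrix.toLin' (g : Matrix (Fin n) (Fin n) F)
    let R' : (Fin n → F) →ₗ[F] (Fin n → F) :=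
      (Matrix.vecMulLinear (g : Matrix (Fin n) (Fin n) F)).comp (R.comp gm)
    have hgi : ∀ v, (g : Matrix (Fin n) (Fin n) F) *ᵥ v = 0 → v = 0 := fun v hv => by
      have := congrArg (((g⁻¹ : GL (Fin n) F) : Matrix (Fin n) (Fin n) F) *ᵥ ·) hv
      simpa [inv_mulVec_mulVec] using this
    have hall : ∀ v, ∃ c : F, R' v = c • R v := by
      intro v
      rcases eq_or_ne v 0 with rfl | hv
      · exact ⟨0, by simp⟩
      have h1 := (self_tv hf v 1 hM).conj hg
      rw [one_smul] at h1
      obtain ⟨w, hw⟩ := hRs (R v ᵥ* ((g⁻¹ : GL (Fin n) F) : Matrix (Fin n) (Fin n) F))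
      rw [← hR, ← hw] at h1
      have hv' : (g : Matrix (Fin n) (Fin n) F) *ᵥ v ≠ 0 := fun h0 => hv (hgi v h0)
      have hmem : w ∈ Submodule.span F {(g : Matrix (Fin n) (Fin n) F) *ᵥ v} := by
        by_contra hw'; exact hv' (hno _ w h1 hw')
      obtain ⟨c, hc⟩ := Submodule.mem_span_singleton.1 hmem
      have h2 : c • R' v = R v := by
        have := congrArg (fun x => x ᵥ* (g : Matrix (Fin n) (Fin n) F)) hw
        simp only [vecMul_vecMul, ← Units.val_mul, inv_mul_cancel, Units.val_one, vecMul_one] at this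
        rw [← this, ← hc, map_smul, smul_vecMul]
        rfl
      have hc0 : c ≠ 0 := by
        rintro rfl
        rw [zero_smul] at h2
        exact hv (hRi (by rw [← h2, map_zero]))
      exact ⟨c⁻¹, by rw [← h2, smul_smul, inv_mul_cancel₀ hc0, one_smul]⟩
    obtain ⟨c, hc⟩ := exists_smul_of_forall_smul R' R hRi hall
    have hform : ∀ u v, f ((g : Matrix (Fin n) (Fin n) F) *ᵥ u)
        ((g : Matrix (Fin n) (Fin n) F) *ᵥ v) = c * f u v := by
      intro u v
      have := congrArg (· ⬝ᵥ u) (hc v)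
      simp only [R', gm, LinearMap.coe_comp, Function.comp_apply, Matrix.toLin'_apply,
        Matrix.vecMulLinear_apply, smul_dotProduct, smul_eq_mul] at this
      rwa [← dotProduct_mulVec, hR, dual_dot, dual_dot] at this
    by_cases hc0 : c = 0
    · by_cases hn0 : ∀ v : Fin n → F, v = 0
      · exact hgS ⟨1, fun u v => by simp [hn0 u, hn0 v, hn0 ((g : Matrix (Fin n) (Fin n) F) *ᵥ 0)]⟩
      push Not at hn0
      obtain ⟨v, hv⟩ := hn0
      obtain ⟨x, hx⟩ := (hf.nondegenerate _ (fun h0 => hv (hgi v h0))).1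
      have := hform (((g⁻¹ : GL (Fin n) F) : Matrix (Fin n) (Fin n) F) *ᵥ x) v
      rw [mulVec_mulVec_inv, hc0, zero_mul] at this
      exact hx this
    · exact hgS ⟨Units.mk0 c hc0, fun u v => hform u v⟩
  obtain ⟨a, w, haw, hwa, ha⟩ := hex
  -- all transvections with centre `a`
  have hstep : ∀ z, f a z = 0 → ∀ w', HasTv M a (R w') → HasTv M a (f z w' • R z) := by
    intro z hz w' hw'
    have h1 := (self_tv hf z 1 hM).comm hw' (by simp [dual_dot, hz])
    simpa [one_smul, hR, dual_dot] using h1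
  have haz : (R w) ∉ Submodule.span F {R a} := fun hmem => by
    obtain ⟨c, hc⟩ := Submodule.mem_span_singleton.1 hmem
    exact hwa (Submodule.mem_span_singleton.2 ⟨c, hRi (by rw [map_smul, hc])⟩)
  obtain ⟨z₀, hz₀a, hz₀w⟩ := exists_dot_eq_zero_of_notMem haz
  rw [hR, dual_dot] at hz₀a hz₀w
  have hz₀a' : f a z₀ = 0 := by rw [hf.skew, hz₀a, neg_zero]
  -- the whole line through any `z ⊥ a` not orthogonal to `w`
  have hline : ∀ z, f a z = 0 → f z w ≠ 0 → ∀ c : F, HasTv M a (c • R z) := by
    intro z hz hzw c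
    rcases eq_or_ne c 0 with rfl | hc
    · rw [zero_smul]; exact hasTv_zero _
    · -- replace `z` by a multiple `t • z` with `t² f(z,w) = c` after a self-transvection
      have h1 := (self_tv hf z (c / f z w) hM).comm haw (by simp [dual_dot, hz])
      simp only [hR, dual_dot, smul_smul] at h1
      rw [mul_div_cancel₀ _ hzw] at h1
      exact h1
  have hfull : ∀ φ, φ ⬝ᵥ a = 0 → HasTv M a φ := by
    intro φ hφ
    obtain ⟨z, rfl⟩ := hRs φ
    rw [hR, dual_dot] at hφ
    by_cases hzw : f z w = 0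
    · have h1 := hline (z + z₀) (by rw [hf.bilinear.add_right, hφ, hz₀a', add_zero])
        (by rw [hf.bilinear.add_left, hzw, zero_add, hz₀w]; exact one_ne_zero) 1
      have h2 := hline z₀ hz₀a' (by rw [hz₀w]; exact one_ne_zero) 1
      rw [one_smul] at h1 h2
      simpa [map_add] using h1.sub h2
    · simpa using hline z hφ hzw 1
  refine specialLinear_le_of_forall_center fun b φ hb hφ => ?_
  obtain ⟨d, hd1, hd2⟩ := exists_dot_ne_ne (fun h => ha (hRi (h.trans (map_zero R).symm)) : R a ≠ 0)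
    (fun h => hb (hRi (h.trans (map_zero R).symm)) : R b ≠ 0)
  rw [hR, dual_dot] at hd1 hd2
  have h1 := spread hf hM hfull d (by rw [hf.skew]; exact neg_ne_zero.2 hd1)
  exact spread hf hM h1 b hd2 φ hφ

/-- For a finite field F and n ≥ 13, let f be a non-degenerate symplectic form on F^n (so n is even). Then the elements of SL_n(F) that are similarities of f (f(gu, gv) = c f(u, v) for a non-zero scalar c depending on g) form a maximal subgroup of SL_n(F). -/
theorem result {F : Type*} [Field F] [Fintype F] (n : ℕ) (hn : 13 ≤ n) (f : (Fin n → F) → (Fin n → F) → F) (hf : Cfsg.Geo.IsSymplecticForm f) : Cfsg.Geo.IsMaximalIn (Cfsg.Geo.specialLinear (Fin n) F) (Cfsg.Geo.similarityGroup f ⊓ Cfsg.Geo.specialLinear (Fin n) F) := by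
  set R := dual hf.bilinear with hR
  have hRi : Function.Injective R := dual_injective hf
  have hn0 : ∃ a : Fin n → F, a ≠ 0 :=
    ⟨Pi.single ⟨0, by omega⟩ 1, by simp⟩
  obtain ⟨a, ha⟩ := hn0
  -- a vector orthogonal to `a` outside its line
  obtain ⟨w, hwa, hw⟩ : ∃ w, f a w = 0 ∧ w ∉ Submodule.span F {a} := by
    by_contra hno
    push Not at hno
    let L : (Fin n → F) →ₗ[F] F :=
      { toFun := fun y => f a y
        map_add' := fun u v => hf.bilinear.add_right a u v
        map_smul' := fun c v => hf.bilinear.smul_right c a v }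
    have hle : LinearMap.ker L ≤ Submodule.span F {a} := fun y hy => hno y hy
    have h1 := LinearMap.finrank_range_add_finrank_ker L
    have h2 : Module.finrank F (LinearMap.range L) ≤ 1 :=
      (Submodule.finrank_le _).trans (le_of_eq (Module.finrank_self F))
    have h3 : Module.finrank F (LinearMap.ker L) ≤ 1 :=
      (Submodule.finrank_mono hle).trans (le_of_eq (finrank_span_singleton ha))
    rw [Module.finrank_fin_fun] at h1
    omega
  have h0 : R w ⬝ᵥ a = 0 := by rw [hR, dual_dot, hwa]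
  refine isMaximalIn_of_lt (lt_of_le_of_ne inf_le_right fun heq => ?_) fun M hM1 hM2 g hg hgH =>
    key hf hM1 g hg fun hgS => hgH ⟨hgS, hM2 hg⟩
  have hT := tvGL_mem_specialLinear a (R w) h0
  rw [← heq] at hT
  obtain ⟨⟨c, hc⟩, -⟩ := hT
  simp only [coe_tvGL, tvMat_mulVec, hR, dual_dot, hf.bilinear.add_left, hf.bilinear.add_right,
    hf.bilinear.smul_left, hf.bilinear.smul_right, hf.alternating] at hc
  have hne : R a ≠ 0 := fun h => ha (hRi (h.trans (map_zero R).symm))
  have hnm : R w ∉ Submodule.span F {R a} := fun hmem => by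
    obtain ⟨d, hd⟩ := Submodule.mem_span_singleton.1 hmem
    exact hw (Submodule.mem_span_singleton.2 ⟨d, hRi (by rw [map_smul, hd])⟩)
  obtain ⟨y, hy1, hy2⟩ := exists_dot_pair hne hnm 1 0
  rw [hR, dual_dot] at hy1 hy2
  obtain ⟨x, hx1, hx2⟩ := exists_dot_eq_zero_of_notMem hnm
  rw [hR, dual_dot] at hx1 hx2
  have e1 := hc a y
  rw [hwa, hy2, hf.skew a y, hy1] at e1
  have e2 := hc x y
  rw [hx1, hx2, hy2, hf.skew a y, hy1] at e2
  have hc1 : (c : F) = 1 := by linear_combination e1
  rw [hc1] at e2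
  exact one_ne_zero (α := F) (by linear_combination -e2)

end Cfsg.Agent.S5642
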