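import Cfsg.Statements.S5643
import Cfsg.Agent.Lib.MaxSub.Herm

set_option autoImplicit false
open Cfsg

namespace Cfsg.Agent.S5643

open Matrix CfsgLib.MaxSub

variable {F : Type*} [Field F] [Finite F] {n : ℕ} {σ : F ≃+* F}
  {f : (Fin n → F) → (Fin n → F) → F} {M : Subgroup (GL (Fin n) F)}

/-- `T(b, ψ)` is not a unitary transvection. -/
def NonUnitary (σ : F ≃+* F) (f : (Fin n → F) → (Fin n → F) → F) (b ψ : Fin n → F) : Prop :=
  b ≠ 0 ∧ ψ ≠ 0 ∧ ¬ (f b b = 0 ∧ ∃ c, c + σ c = 0 ∧ ψ = c • hDual f b)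

theorem unitary_tv (hf : Cfsg.Geo.IsUnitaryForm σ f)
    (hM : Cfsg.Geo.similarityGroup f ⊓ Cfsg.Geo.specialLinear (Fin n) F ≤ M)
    {a : Fin n → F} (ha : f a a = 0) {c : F} (hc : c + σ c = 0) :
    HasTv M a (c • hDual f a) := by
  have h0 : (c • hDual f a) ⬝ᵥ a = 0 := by rw [smul_dotProduct, hDual_dot hf, ha, smul_zero]
  rw [hasTv_iff h0]
  refine hM ⟨⟨1, fun u v => ?_⟩, tvGL_mem_specialLinear _ _ _⟩
  simp only [coe_tvGL, tvMat_mulVec, smul_dotProduct, hDual_dot hf, hf.add_left,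
    herm_add_right hf, hf.smul_left, herm_smul_right hf, ha, smul_eq_mul, Units.val_one, one_mul,
    map_mul]
  rw [← hf.herm a v]
  linear_combination (f u a * f a v) * hc

theorem half_space (hn : 6 ≤ n) (χ : Fin n → F) :
    n + 2 < 2 * Module.finrank F (dotKer χ) := by
  have := finrank_dotKer_ge χ
  omega

theorem whole_space (hn : 6 ≤ n) :
    n + 2 < 2 * Module.finrank F (⊤ : Submodule F (Fin n → F)) := by
  rw [finrank_top, Module.finrank_fin_fun]
  omega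

theorem exists_nonUnitary (hf : Cfsg.Geo.IsUnitaryForm σ f) (hn : 6 ≤ n)
    (hM : Cfsg.Geo.similarityGroup f ⊓ Cfsg.Geo.specialLinear (Fin n) F ≤ M)
    {g : GL (Fin n) F} (hg : g ∈ M) (hgS : g ∉ Cfsg.Geo.similarityGroup f) :
    ∃ b ψ, HasTv M b ψ ∧ NonUnitary σ f b ψ := by
  by_contra hno
  have hno' : ∀ b ψ, HasTv M b ψ → b ≠ 0 → ψ ≠ 0 →
      f b b = 0 ∧ ∃ c, c + σ c = 0 ∧ ψ = c • hDual f b := fun b ψ h h1 h2 => by
    by_contra hc; exact hno ⟨b, ψ, h, h1, h2, hc⟩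
  obtain ⟨c₀, hc₀, hc₀'⟩ := exists_trace_zero hf
  have hginj : ∀ x, (g : Matrix (Fin n) (Fin n) F) *ᵥ x = 0 → x = 0 := fun x hx => by
    have := congrArg (((g⁻¹ : GL (Fin n) F) : Matrix (Fin n) (Fin n) F) *ᵥ ·) hx
    simpa [inv_mulVec_mulVec] using this
  have hloc : ∀ a, f a a = 0 → a ≠ 0 → ∃ μ : F, ∀ x,
      f ((g : Matrix (Fin n) (Fin n) F) *ᵥ x) ((g : Matrix (Fin n) (Fin n) F) *ᵥ a) = μ * f x a := by
    intro a ha ha0
    have h1 := (unitary_tv hf hM ha hc₀').conj hg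
    have hne : (c₀ • hDual f a) ᵥ* ((g⁻¹ : GL (Fin n) F) : Matrix (Fin n) (Fin n) F) ≠ 0 := by
      intro e
      refine smul_ne_zero hc₀ (hDual_ne_zero hf ha0) ?_
      have := congrArg (fun z => z ᵥ* (g : Matrix (Fin n) (Fin n) F)) e
      simpa [vecMul_vecMul] using this
    obtain ⟨-, d, -, hd⟩ := hno' _ _ h1 (fun e => ha0 (hginj a e)) hne
    have hd0 : d ≠ 0 := fun e => hne (by rw [hd, e, zero_smul])
    refine ⟨c₀ / d, fun x => ?_⟩
    have := congrArg (· ⬝ᵥ ((g : Matrix (Fin n) (Fin n) F) *ᵥ x)) hd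
    simp only [vecMul_inv_dotProduct, inv_mulVec_mulVec, smul_dotProduct, hDual_dot hf,
      smul_eq_mul] at this
    rw [div_mul_eq_mul_div, eq_div_iff hd0, this, mul_comm]
  choose! μ hμ using hloc
  have hpair : ∀ a a', f a a = 0 → f a' a' = 0 → f a a' ≠ 0 → μ a' = σ (μ a) := by
    intro a a' ha ha' hne
    have ha0 : a ≠ 0 := fun e => hne (by rw [e, herm_zero_left hf])
    have ha'0 : a' ≠ 0 := fun e => hne (by rw [e, herm_zero_right hf])
    have h1 := hμ a' ha' ha'0 a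
    rw [hf.herm, hμ a ha ha0 a', map_mul, ← hf.herm] at h1
    exact (mul_right_cancel₀ hne h1).symm
  have htop : ∀ χ : Fin n → F, χ ≠ 0 → ∃ y ∈ (⊤ : Submodule F (Fin n → F)), χ ⬝ᵥ y ≠ 0 :=
    fun χ hχ => by
      obtain ⟨y, hy⟩ := exists_dot_ne hχ
      exact ⟨y, trivial, by rw [hy]; exact one_ne_zero⟩
  have hcommon : ∀ a a', f a a = 0 → f a' a' = 0 → a ≠ 0 → a' ≠ 0 →
      ∃ w, f w w = 0 ∧ f w a ≠ 0 ∧ f w a' ≠ 0 := by
    intro a a' _ _ ha0 ha'0
    obtain ⟨w, -, hw, h1, h2⟩ := exists_isotropic_avoid hf (whole_space hn)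
      (htop _ (hDual_ne_zero hf ha0)) (htop _ (hDual_ne_zero hf ha'0))
    rw [hDual_dot hf] at h1 h2
    exact ⟨w, hw, h1, h2⟩
  have : Nontrivial (Fin n → F) := by
    have : Nonempty (Fin n) := ⟨⟨0, by omega⟩⟩
    infer_instance
  obtain ⟨a₀, -, ha₀0, ha₀⟩ := exists_isotropic hf (U := (⊤ : Submodule F (Fin n → F)))
    (by rw [finrank_top, Module.finrank_fin_fun]; omega)
  have hconst : ∀ a, f a a = 0 → a ≠ 0 → μ a = μ a₀ := by
    intro a ha ha0
    obtain ⟨w, hw, h1, h2⟩ := hcommon a a₀ ha ha₀ ha0 ha₀0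
    rw [hpair w a hw ha h1, hpair w a₀ hw ha₀ h2]
  let P : Submodule F (Fin n → F) :=
    { carrier := {y | ∀ x, f ((g : Matrix (Fin n) (Fin n) F) *ᵥ x)
        ((g : Matrix (Fin n) (Fin n) F) *ᵥ y) = μ a₀ * f x y}
      add_mem' := fun {u v} hu hv x => by
        rw [mulVec_add, herm_add_right hf, herm_add_right hf, hu x, hv x, mul_add]
      zero_mem' := fun x => by rw [mulVec_zero, herm_zero_right hf, herm_zero_right hf, mul_zero]
      smul_mem' := fun c u hu x => by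
        rw [mulVec_smul, herm_smul_right hf, herm_smul_right hf, hu x, mul_left_comm] }
  have hP : (⊤ : Submodule F (Fin n → F)) ≤ P := le_of_isotropic_mem hf (whole_space hn) fun a _ ha => by
    rcases eq_or_ne a 0 with rfl | ha0
    · exact P.zero_mem
    · intro x
      rw [hμ a ha ha0 x, hconst a ha ha0]
  have hμ0 : μ a₀ ≠ 0 := by
    intro e
    obtain ⟨x, hx⟩ := (hf.nondegenerate _ (fun h => ha₀0 (hginj _ h))).1
    have := hP (Submodule.mem_top : a₀ ∈ ⊤) (((g⁻¹ : GL (Fin n) F) : Matrix (Fin n) (Fin n) F) *ᵥ x)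
    rw [mulVec_mulVec_inv, e, zero_mul] at this
    exact hx this
  exact hgS ⟨Units.mk0 _ hμ0, fun u v => hP (Submodule.mem_top : v ∈ ⊤) u⟩

theorem exists_iso_noncol (hf : Cfsg.Geo.IsUnitaryForm σ f) (hn : 6 ≤ n)
    (hM : Cfsg.Geo.similarityGroup f ⊓ Cfsg.Geo.specialLinear (Fin n) F ≤ M)
    {b ψ : Fin n → F} (h : HasTv M b ψ) (hnu : NonUnitary σ f b ψ) :
    ∃ b' ψ', f b' b' = 0 ∧ b' ≠ 0 ∧ HasTv M b' ψ' ∧ ψ' ∉ Submodule.span F {hDual f b'} := by
  obtain ⟨hb0, hψ, hnu⟩ := hnu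
  obtain ⟨c₀, hc₀, hc₀'⟩ := exists_trace_zero hf
  have aniso : ∀ {b ψ : Fin n → F}, HasTv M b ψ → ψ ≠ 0 → f b b ≠ 0 →
      ∃ b' ψ', f b' b' = 0 ∧ b' ≠ 0 ∧ HasTv M b' ψ' ∧ ψ' ∉ Submodule.span F {hDual f b'} := by
    intro b ψ h hψ hbb
    have hb0 : b ≠ 0 := fun e => hbb (by rw [e, herm_zero_left hf])
    have hex : ∃ y ∈ dotKer ψ, hDual f b ⬝ᵥ y ≠ 0 := ⟨b, h.1, by rw [hDual_dot hf]; exact hbb⟩
    obtain ⟨a, ha, haa, hab, -⟩ := exists_isotropic_avoid hf (half_space hn ψ) hex hex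
    rw [hDual_dot hf] at hab
    have hba : f b a ≠ 0 := fun e => hab (herm_eq_zero_comm hf e)
    have ha0 : a ≠ 0 := fun e => hab (by rw [e, herm_zero_left hf])
    refine ⟨a, _, haa, ha0, h.comm (unitary_tv hf hM haa hc₀') ha, fun hmem => ?_⟩
    rw [smul_dotProduct, hDual_dot hf, smul_eq_mul] at hmem
    have hmem' : ψ ∈ Submodule.span F {hDual f a} :=
      (Submodule.smul_mem_iff _ (mul_ne_zero hc₀ hba)).mp hmem
    obtain ⟨e, he⟩ := Submodule.mem_span_singleton.mp hmem'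
    have h0 := h.1
    rw [← he, smul_dotProduct, hDual_dot hf, smul_eq_mul, mul_eq_zero, or_iff_left hba] at h0
    exact hψ (by rw [← he, h0, zero_smul])
  by_cases hbb : f b b = 0
  · by_cases hmem : ψ ∈ Submodule.span F {hDual f b}
    · obtain ⟨e, he⟩ := Submodule.mem_span_singleton.mp hmem
      have hee : e + σ e ≠ 0 := fun h0 => hnu ⟨hbb, e, h0, he.symm⟩
      obtain ⟨y, hy⟩ := exists_dot_ne (hDual_ne_zero hf hb0)
      have hex : ∃ y ∈ (⊤ : Submodule F (Fin n → F)), hDual f b ⬝ᵥ y ≠ 0 :=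
        ⟨y, trivial, by rw [hy]; exact one_ne_zero⟩
      obtain ⟨a, -, haa, hab, -⟩ := exists_isotropic_avoid hf (whole_space hn) hex hex
      rw [hDual_dot hf] at hab
      have h1 := (unitary_tv hf hM haa hc₀').conj_tv h
      rw [← he, smul_dotProduct, hDual_dot hf, smul_eq_mul] at h1
      have hne : f (a + (e * f a b) • b) (a + (e * f a b) • b) ≠ 0 := by
        simp only [hf.add_left, hf.smul_left, herm_add_right hf, herm_smul_right hf, haa, hbb,
          mul_zero, add_zero, zero_add, map_mul]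
        rw [hf.herm b a, show σ e * σ (f a b) * f a b + e * f a b * σ (f a b)
          = (e + σ e) * (σ (f a b) * f a b) by ring]
        exact mul_ne_zero hee (mul_ne_zero ((map_ne_zero σ).mpr hab) hab)
      refine aniso h1 ?_ hne
      intro e0
      have h2 := congrArg (· ⬝ᵥ b) e0
      simp only [sub_dotProduct, smul_dotProduct, hDual_dot hf, hbb, smul_eq_mul, mul_zero,
        sub_zero, zero_dotProduct, mul_eq_zero, hc₀, false_or] at h2
      exact hab (herm_eq_zero_comm hf h2)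
    · exact ⟨b, ψ, hbb, hb0, h, hmem⟩
  · exact aniso h hψ hbb

/-- the full line `F · H a` at centre `b`, with `a` isotropic and independent of `b` -/
theorem exists_line (hf : Cfsg.Geo.IsUnitaryForm σ f) (hn : 6 ≤ n)
    (hM : Cfsg.Geo.similarityGroup f ⊓ Cfsg.Geo.specialLinear (Fin n) F ≤ M)
    {b ψ : Fin n → F} (hbb : f b b = 0) (hb0 : b ≠ 0) (h : HasTv M b ψ)
    (hψ : ψ ∉ Submodule.span F {hDual f b}) :
    ∃ a, f a a = 0 ∧ f a b = 0 ∧ a ∉ Submodule.span F {b} ∧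
      ∀ u : F, HasTv M b (u • hDual f a) := by
  obtain ⟨c₀, hc₀, hc₀'⟩ := exists_trace_zero hf
  obtain ⟨y, hy1, hy2⟩ := exists_dot_eq_zero_of_notMem hψ
  have hex : ∃ z ∈ dotKer (hDual f b), ψ ⬝ᵥ z ≠ 0 := ⟨y, hy1, by rw [hy2]; exact one_ne_zero⟩
  obtain ⟨a₁, ha₁b, ha₁, hψa₁, -⟩ :=
    exists_isotropic_avoid hf (half_space hn (hDual f b)) hex hex
  obtain ⟨χ, hχb, -⟩ := exists_dot_of_notMem (P := (⊥ : Submodule F (Fin n → F))) (x := b)
    (by simpa using hb0)
  have hdim := finrank_le_inf_dotKer (dotKer (hDual f b)) (hDual f a₁)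
  have hdim2 := finrank_le_inf_dotKer (dotKer (hDual f b) ⊓ dotKer (hDual f a₁)) ψ
  have hdim3 := finrank_le_inf_dotKer
    (dotKer (hDual f b) ⊓ dotKer (hDual f a₁) ⊓ dotKer ψ) χ
  have hdim0 := finrank_dotKer_ge (hDual f b)
  obtain ⟨a₂, ⟨⟨⟨ha₂b, ha₂1⟩, ha₂ψ⟩, ha₂χ⟩, ha₂0, ha₂⟩ := exists_isotropic hf
    (U := dotKer (hDual f b) ⊓ dotKer (hDual f a₁) ⊓ dotKer ψ ⊓ dotKer χ) (by omega)
  have hb1 : f a₁ b = 0 := by rw [← hDual_dot hf]; exact ha₁b
  have hb2 : f a₂ b = 0 := by rw [← hDual_dot hf]; exact ha₂b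
  have h21 : f a₂ a₁ = 0 := by rw [← hDual_dot hf]; exact ha₂1
  refine ⟨a₂, ha₂, hb2, fun hmem => ?_, ?_⟩
  · obtain ⟨e, he⟩ := Submodule.mem_span_singleton.mp hmem
    have : χ ⬝ᵥ a₂ = 0 := ha₂χ
    rw [← he, dotProduct_smul, hχb, smul_eq_mul, mul_one] at this
    exact ha₂0 (by rw [← he, this, zero_smul])
  -- unitary transvections with centre orthogonal to `b` spread `ψ`
  have step : ∀ a, f a a = 0 → f a b = 0 → HasTv M b ((ψ ⬝ᵥ a) • c₀ • hDual f a) := by
    intro a ha hab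
    exact (unitary_tv hf hM ha hc₀').comm h
      (by rw [smul_dotProduct, hDual_dot hf, herm_eq_zero_comm hf hab, smul_zero])
  intro u
  set s := u / ((ψ ⬝ᵥ a₁) * c₀) with hs
  have h12 : f (s • a₁) a₂ = 0 := by rw [hf.smul_left, herm_eq_zero_comm hf h21, mul_zero]
  have hsa : f (s • a₁) (s • a₁) = 0 := by
    rw [hf.smul_left, herm_smul_right hf, ha₁, mul_zero, mul_zero]
  have hsum : f (s • a₁ + a₂) (s • a₁ + a₂) = 0 := by
    rw [hf.add_left, herm_add_right hf, herm_add_right hf, hsa, ha₂, h12,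
      herm_eq_zero_comm hf h12]
    simp
  have hsb : f (s • a₁) b = 0 := by rw [hf.smul_left, hb1, mul_zero]
  have h1 := (step _ hsum (by rw [hf.add_left, hsb, hb2, add_zero])).sub (step _ hsa hsb)
  have hψ2 : ψ ⬝ᵥ a₂ = 0 := ha₂ψ
  rw [dotProduct_add, hψ2, add_zero, hDual_add hf, smul_add, smul_add, add_sub_cancel_left,
    smul_smul, dotProduct_smul, smul_eq_mul] at h1
  rwa [show s * (ψ ⬝ᵥ a₁) * c₀ = u by
    rw [mul_assoc, hs, div_mul_cancel₀ _ (mul_ne_zero hψa₁ hc₀)]] at h1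

/-- one line gives every transvection with the same centre -/
theorem closure_line (hf : Cfsg.Geo.IsUnitaryForm σ f) (hn : 6 ≤ n)
    (hM : Cfsg.Geo.similarityGroup f ⊓ Cfsg.Geo.specialLinear (Fin n) F ≤ M)
    {b a : Fin n → F} (hbb : f b b = 0) (haa : f a a = 0) (hab : f a b = 0)
    (hspan : a ∉ Submodule.span F {b}) (h : ∀ u : F, HasTv M b (u • hDual f a)) :
    ∀ φ, φ ⬝ᵥ b = 0 → HasTv M b φ := by
  obtain ⟨c₀, hc₀, hc₀'⟩ := exists_trace_zero hf
  let P : Submodule F (Fin n → F) :=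
    { carrier := {y | ∀ u : F, HasTv M b (u • hDual f y)}
      add_mem' := fun {x y} hx hy u => by
        rw [hDual_add hf, smul_add]; exact (hx u).add (hy u)
      zero_mem' := fun u => by rw [hDual_zero hf, smul_zero]; exact hasTv_zero b
      smul_mem' := fun c y hy u => by rw [hDual_smul hf, smul_smul]; exact hy _ }
  have near : ∀ a a', a ∈ P → f a' a' = 0 → f a' b = 0 → f a' a ≠ 0 → a' ∈ P := by
    intro a a' ha ha' ha'b hne u
    have h1 := (unitary_tv hf hM ha' hc₀').comm (ha (u / (f a' a * c₀)))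
      (by rw [smul_dotProduct, hDual_dot hf, herm_eq_zero_comm hf ha'b, smul_zero])
    rw [smul_dotProduct, hDual_dot hf, smul_smul, smul_eq_mul] at h1
    rwa [show u / (f a' a * c₀) * f a' a * c₀ = u by
      rw [mul_assoc, div_mul_cancel₀ _ (mul_ne_zero hne hc₀)]] at h1
  have hnz : ∀ z, z ∉ Submodule.span F {b} → ∃ y ∈ dotKer (hDual f b), hDual f z ⬝ᵥ y ≠ 0 := by
    intro z hz
    obtain ⟨y, hy1, hy2⟩ := exists_dot_eq_zero_of_notMem
      (φ := hDual f b) (ψ := hDual f z) fun hmem => hz (mem_span_of_hDual hf hmem)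
    exact ⟨y, hy1, by rw [hy2]; exact one_ne_zero⟩
  have hout : ∀ a', f a' a' = 0 → f a' b = 0 → a' ∉ Submodule.span F {b} → a' ∈ P := by
    intro a' ha' ha'b hsp
    obtain ⟨w, hwb, hww, hwa, hwa'⟩ :=
      exists_isotropic_avoid hf (half_space hn (hDual f b)) (hnz a hspan) (hnz a' hsp)
    rw [hDual_dot hf] at hwa hwa'
    have hwb' : f w b = 0 := by rw [← hDual_dot hf]; exact hwb
    have hwP : w ∈ P := near a w h hww hwb' hwa
    exact near w a' hwP ha' ha'b fun e => hwa' (herm_eq_zero_comm hf e)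
  have hle : dotKer (hDual f b) ≤ P := le_of_isotropic_mem hf (half_space hn _) fun x hx hxx => by
    have hxb : f x b = 0 := by rw [← hDual_dot hf]; exact hx
    by_cases hsp : x ∈ Submodule.span F {b}
    · have h2 : a + x ∈ P := by
        refine hout _ ?_ (by rw [hf.add_left, hab, hxb, add_zero]) fun hmem => hspan ?_
        · obtain ⟨e, rfl⟩ := Submodule.mem_span_singleton.mp hsp
          simp [hf.add_left, hf.smul_left, herm_add_right hf, herm_smul_right hf, haa, hbb, hab,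
            herm_eq_zero_comm hf hab]
        · simpa using sub_mem hmem hsp
      simpa using sub_mem h2 (h : a ∈ P)
    · exact hout x hxx hxb hsp
  intro φ hφ
  obtain ⟨y, rfl⟩ := hDual_surjective hf φ
  rw [hDual_dot hf] at hφ
  have hy : y ∈ dotKer (hDual f b) := by
    show hDual f b ⬝ᵥ y = 0
    rw [hDual_dot hf]; exact herm_eq_zero_comm hf hφ
  simpa using hle hy 1

/-- passing to a non-orthogonal isotropic centre -/
theorem transfer (hf : Cfsg.Geo.IsUnitaryForm σ f) (hn : 6 ≤ n)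
    (hM : Cfsg.Geo.similarityGroup f ⊓ Cfsg.Geo.specialLinear (Fin n) F ≤ M)
    {b a : Fin n → F} (hfull : ∀ φ, φ ⬝ᵥ b = 0 → HasTv M b φ)
    (haa : f a a = 0) (hba : f b a ≠ 0) : ∀ φ, φ ⬝ᵥ a = 0 → HasTv M a φ := by
  obtain ⟨c₀, hc₀, hc₀'⟩ := exists_trace_zero hf
  have ha0 : a ≠ 0 := fun e => hba (by rw [e, herm_zero_right hf])
  obtain ⟨χ, hχa, -⟩ := exists_dot_of_notMem (P := (⊥ : Submodule F (Fin n → F))) (x := a)
    (by simpa using ha0)
  have hdim0 := finrank_dotKer_ge (hDual f b)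
  have hdim := finrank_le_inf_dotKer (dotKer (hDual f b)) (hDual f a)
  have hdim2 := finrank_le_inf_dotKer (dotKer (hDual f b) ⊓ dotKer (hDual f a)) χ
  obtain ⟨a₃, ⟨⟨h3b, h3a⟩, h3χ⟩, h30, h33⟩ := exists_isotropic hf
    (U := dotKer (hDual f b) ⊓ dotKer (hDual f a) ⊓ dotKer χ) (by omega)
  have h3b' : f a₃ b = 0 := by rw [← hDual_dot hf]; exact h3b
  have h3a' : f a₃ a = 0 := by rw [← hDual_dot hf]; exact h3a
  refine closure_line hf hn hM haa h33 h3a' (fun hmem => ?_) fun u => ?_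
  · obtain ⟨e, he⟩ := Submodule.mem_span_singleton.mp hmem
    have : χ ⬝ᵥ a₃ = 0 := h3χ
    rw [← he, dotProduct_smul, hχa, smul_eq_mul, mul_one] at this
    exact h30 (by rw [← he, this, zero_smul])
  · have h1 := (hfull ((u / (c₀ * f b a)) • hDual f a₃)
      (by rw [smul_dotProduct, hDual_dot hf, herm_eq_zero_comm hf h3b', smul_zero])).comm
        (unitary_tv hf hM haa hc₀')
        (by rw [smul_dotProduct, hDual_dot hf, herm_eq_zero_comm hf h3a', smul_zero])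
    rw [smul_dotProduct, hDual_dot hf, smul_smul, smul_eq_mul,
      mul_div_cancel₀ _ (mul_ne_zero hc₀ hba)] at h1
    exact h1

theorem key (hf : Cfsg.Geo.IsUnitaryForm σ f) (hn : 6 ≤ n)
    (hM : Cfsg.Geo.similarityGroup f ⊓ Cfsg.Geo.specialLinear (Fin n) F ≤ M)
    {g : GL (Fin n) F} (hg : g ∈ M) (hgS : g ∉ Cfsg.Geo.similarityGroup f) :
    Cfsg.Geo.specialLinear (Fin n) F ≤ M := by
  obtain ⟨b₁, ψ₁, h₁, hnu⟩ := exists_nonUnitary hf hn hM hg hgS
  obtain ⟨b, ψ, hbb, hb0, h, hψ⟩ := exists_iso_noncol hf hn hM h₁ hnu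
  obtain ⟨a, haa, hab, hspan, hline⟩ := exists_line hf hn hM hbb hb0 h hψ
  have hfull := closure_line hf hn hM hbb haa hab hspan hline
  have hiso : ∀ x, x ≠ 0 → f x x = 0 → ∀ φ, φ ⬝ᵥ x = 0 → HasTv M x φ := by
    intro x hx0 hxx
    have htop : ∀ z, z ≠ 0 → ∃ y ∈ (⊤ : Submodule F (Fin n → F)), hDual f z ⬝ᵥ y ≠ 0 := fun z hz => by
      obtain ⟨y, hy⟩ := exists_dot_ne (hDual_ne_zero hf hz)
      exact ⟨y, trivial, by rw [hy]; exact one_ne_zero⟩
    obtain ⟨w, -, hww, hwb, hwx⟩ :=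
      exists_isotropic_avoid hf (whole_space hn) (htop b hb0) (htop x hx0)
    rw [hDual_dot hf] at hwb hwx
    exact transfer hf hn hM
      (transfer hf hn hM hfull hww fun e => hwb (herm_eq_zero_comm hf e)) hxx hwx
  refine specialLinear_le_of_forall_center fun x φ _ hφ => ?_
  let P : Submodule F (Fin n → F) :=
    { carrier := {y | φ ⬝ᵥ y = 0 ∧ ∀ s : F, HasTv M (s • y) φ}
      add_mem' := fun {u v} hu hv => ⟨by rw [dotProduct_add, hu.1, hv.1, add_zero],
        fun s => by rw [smul_add]; exact (hu.2 s).add_left (hv.2 s)⟩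
      zero_mem' := ⟨dotProduct_zero φ, fun s => by rw [smul_zero]; exact hasTv_zero_left φ⟩
      smul_mem' := fun c y hy => ⟨by rw [dotProduct_smul, hy.1, smul_zero],
        fun s => by rw [smul_smul]; exact hy.2 _⟩ }
  have hle : dotKer φ ≤ P := le_of_isotropic_mem hf (half_space hn φ) fun y hy hyy => by
    refine ⟨hy, fun s => ?_⟩
    rcases eq_or_ne (s • y) 0 with e | e
    · rw [e]; exact hasTv_zero_left φ
    · refine hiso _ e (by rw [hf.smul_left, herm_smul_right hf, hyy, mul_zero, mul_zero]) φ ?_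
      rw [dotProduct_smul, show φ ⬝ᵥ y = 0 from hy, smul_zero]
  simpa using (hle (show x ∈ dotKer φ from hφ)).2 1

/-- For a finite field F and n ≥ 13, let σ be a field automorphism of F of order two and f a non-degenerate unitary form on F^n with respect to σ. Then the elements of SL_n(F) that are similarities of f form a maximal subgroup of SL_n(F). -/
theorem result {F : Type*} [Field F] [Fintype F] (n : ℕ) (hn : 13 ≤ n) (σ : F ≃+* F) (f : (Fin n → F) → (Fin n → F) → F) (hf : Cfsg.Geo.IsUnitaryForm σ f) : Cfsg.Geo.IsMaximalIn (Cfsg.Geo.specialLinear (Fin n) F) (Cfsg.Geo.similarityGroup f ⊓ Cfsg.Geo.specialLinear (Fin n) F) := by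
  refine isMaximalIn_of_lt (lt_of_le_of_ne inf_le_right fun heq => ?_) fun M hM1 hM2 g hg hgH =>
    key hf (by omega) hM1 hg fun hgS => hgH ⟨hgS, hM2 hg⟩
  obtain ⟨a, -, ha0, ha⟩ := exists_isotropic hf (U := (⊤ : Submodule F (Fin n → F)))
    (by rw [finrank_top, Module.finrank_fin_fun]; omega)
  obtain ⟨s, hs⟩ := exists_trace_ne hf
  have h0 : (s • hDual f a) ⬝ᵥ a = 0 := by rw [smul_dotProduct, hDual_dot hf, ha, smul_zero]
  have hT := tvGL_mem_specialLinear a (s • hDual f a) h0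
  rw [← heq] at hT
  obtain ⟨⟨c, hc⟩, -⟩ := hT
  simp only [coe_tvGL, tvMat_mulVec, smul_dotProduct, hDual_dot hf, hf.add_left,
    herm_add_right hf, hf.smul_left, herm_smul_right hf, ha, smul_eq_mul, mul_zero, add_zero,
    map_mul] at hc
  obtain ⟨y, hy⟩ := (hf.nondegenerate a ha0).1
  have hya : f a y ≠ 0 := fun e => hy (herm_eq_zero_comm hf e)
  have hc1 : (c : F) = 1 := by
    have e1 := hc y a
    simp only [ha, map_zero, mul_zero, zero_mul, add_zero] at e1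
    exact (mul_right_cancel₀ hy (by rw [one_mul]; exact e1)).symm
  have e2 := hc y y
  rw [← hf.herm a y, hc1, one_mul] at e2
  have h3 : (s + σ s) * (f y a * f a y) = 0 := by linear_combination e2
  exact hs ((mul_eq_zero.mp h3).resolve_right (mul_ne_zero hy hya))

end Cfsg.Agent.S5643
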