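import Cfsg.Statements.S0801
import Cfsg.Agent.Lib.Geom.TwoTransvections
import Cfsg.Agent.Lib.Geom.NineFieldPair
import Cfsg.Agent.Lib.Geom.SL2Anti
import Cfsg.Agent.Lib.Classical.SLGen
import Cfsg.Agent.Lib.Classical.SLTwoSylow
import Cfsg.Agent.Lib.Classical.PSLTwoPerm
-- import your own Cfsg.Agent.* helpers here

set_option autoImplicit false
open Cfsg CfsgLib.Geom

namespace Cfsg.Agent.S0801

/-- Let F be a finite field of odd characteristic and λ ≠ 0 an element generating F as a field. Then the lower and upper unitriangular matrices with off-diagonal entries 1 and λ generate SL_2(F), unless |F| = 9 and λ² = −1, in which case they generate a subgroup of order 120. -/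
theorem result {F : Type*} [Field F] [Fintype F] (h2 : (2 : F) ≠ 0) (lam : F) (hlam : lam ≠ 0) (hgen : Subfield.closure ({lam} : Set F) = ⊤) : (Subgroup.closure {g : Matrix.SpecialLinearGroup (Fin 2) F | (g : Matrix (Fin 2) (Fin 2) F) = !![1, 0; 1, 1] ∨ (g : Matrix (Fin 2) (Fin 2) F) = !![1, lam; 0, 1]} = ⊤ ∧ ¬ (Fintype.card F = 9 ∧ lam ^ 2 = -1)) ∨ (Fintype.card F = 9 ∧ lam ^ 2 = -1 ∧ Nat.card ↥(Subgroup.closure {g : Matrix.SpecialLinearGroup (Fin 2) F | (g : Matrix (Fin 2) (Fin 2) F) = !![1, 0; 1, 1] ∨ (g : Matrix (Fin 2) (Fin 2) F) = !![1, lam; 0, 1]}) = 120) := by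
  classical
  obtain ⟨p, hp⟩ := CharP.exists F
  obtain ⟨n, hprime, hq⟩ := FiniteField.card F p
  have := Fact.mk hprime
  have hp2 : p ≠ 2 := fun e => h2 (by
    subst e
    exact_mod_cast CharP.cast_eq_zero F 2)
  set S := {g : Matrix.SpecialLinearGroup (Fin 2) F | (g : Matrix (Fin 2) (Fin 2) F) = !![1, 0; 1, 1] ∨
    (g : Matrix (Fin 2) (Fin 2) F) = !![1, lam; 0, 1]}
  set G0 := Subgroup.closure S
  set E := FiniteField.Extension F p 2
  set f := algebraMap F E
  have : CharP E p := charP_of_injective_ringHom f.injective p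
  let _ : Fintype (Moebius.Line E) := Fintype.ofFinite _
  have hE : Moebius.QuadClosed f := Moebius.quadClosed_extension p
  let pr : Matrix.SpecialLinearGroup (Fin 2) F →* Matrix.ProjectiveSpecialLinearGroup (Fin 2) F :=
    QuotientGroup.mk' (Subgroup.center _)
  set H := G0.map pr
  set G := H.map (Moebius.pslExt f)
  have : Finite G := Finite.of_equiv _ (H.equivMapOfInjective _ (Moebius.pslExt_injective f)).toEquiv
  have hfix : ∀ g ∈ G, ∃ P : Moebius.Line E, g • P = P := by
    rintro _ ⟨x, -, rfl⟩
    exact Moebius.exists_fixed f hE _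
  let up : F → Matrix.SpecialLinearGroup (Fin 2) F := fun c =>
    Matrix.SpecialLinearGroup.transvection (show (0 : Fin 2) ≠ 1 by decide) c
  let lo : F → Matrix.SpecialLinearGroup (Fin 2) F := fun c =>
    Matrix.SpecialLinearGroup.transvection (show (1 : Fin 2) ≠ 0 by decide) c
  have tz : ∀ (i j : Fin 2) (hij : i ≠ j),
      Matrix.SpecialLinearGroup.transvection hij (0 : F) = 1 :=
    fun i j hij => Subtype.ext (Matrix.transvection_zero i j)
  have hupM : ∀ c, (up c : Matrix (Fin 2) (Fin 2) F) = !![1, c; 0, 1] := fun c => by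
    ext i j; fin_cases i <;> fin_cases j <;>
      simp [up, Matrix.SpecialLinearGroup.transvection, Matrix.transvection]
  have hloM : ∀ c, (lo c : Matrix (Fin 2) (Fin 2) F) = !![1, 0; c, 1] := fun c => by
    ext i j; fin_cases i <;> fin_cases j <;>
      simp [lo, Matrix.SpecialLinearGroup.transvection, Matrix.transvection]
  have eup : ∀ c, Moebius.pslExt f (pr (up c)) = Moebius.aff 1 (f c) := fun c => by
    show Moebius.extHom f (Matrix.ProjGenLinGroup.mk (Matrix.SpecialLinearGroup.toGL (up c))) = _
    rw [Moebius.mk_transvection_zero_one, Moebius.extHom_aff, map_one]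
  have elo : ∀ c, Moebius.pslExt f (pr (lo c)) = Moebius.low (f c) := fun c => by
    show Moebius.extHom f (Matrix.ProjGenLinGroup.mk (Matrix.SpecialLinearGroup.toGL (lo c))) = _
    rw [Moebius.mk_transvection_one_zero, Moebius.extHom_low]
  have hu0 : up lam ∈ G0 := Subgroup.subset_closure (Or.inr (hupM lam))
  have hl0 : lo 1 ∈ G0 := Subgroup.subset_closure (Or.inl (hloM 1))
  have hgt : Moebius.aff 1 (f lam) ∈ G := ⟨_, ⟨_, hu0, rfl⟩, eup lam⟩
  have hg1 : Moebius.low (1 : E) ∈ G := ⟨_, ⟨_, hl0, rfl⟩, by rw [elo, map_one]⟩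
  have hft : f lam ≠ 0 := (map_ne_zero f).2 hlam
  have hcenter : ∀ z ∈ Subgroup.center (Matrix.SpecialLinearGroup (Fin 2) F), z = 1 ∨ z = -1 :=
    fun z hz => (SL2Anti.mem_center_iff_sign h2).1 hz
  rcases Moebius.two_para_cases G p hp2 hfix hft hgt hg1 with ⟨u, k, d, h0, h1⟩ | ⟨h60, hp3, ⟨i5⟩⟩
  · -- the subfield is everything
    obtain ⟨K, hK, -, -, hlow⟩ := Moebius.exists_subfield (G := G) p d h0 h1
    have hall : ∀ c, f c ∈ K := by
      intro c
      have h : Subfield.closure ({lam} : Set F) ≤ K.comap f := by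
        rw [Subfield.closure_le, Set.singleton_subset_iff]
        exact (hK _).2 hgt
      exact h (hgen ▸ Subfield.mem_top c)
    have lift : ∀ y : Matrix.SpecialLinearGroup (Fin 2) F, Moebius.pslExt f (pr y) ∈ G → y ^ p = 1 → y ∈ G0 := by
      intro y hy hyp
      obtain ⟨x, ⟨z, hz, rfl⟩, hx⟩ := hy
      have e : (pr z) = pr y := Moebius.pslExt_injective f hx
      rcases hcenter _ (QuotientGroup.eq.1 e) with e' | e'
      · rw [show y = z by rw [← mul_one z, ← e', mul_inv_cancel_left]]; exact hz
      · have ey : y = -z := by rw [show y = z * (z⁻¹ * y) by group, e', mul_neg, mul_one]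
        have hm : (-1 : Matrix.SpecialLinearGroup (Fin 2) F) ∈ G0 := by
          have hodd : Odd p := hprime.odd_of_ne_two hp2
          have ezp : z ^ p = -1 := by
            rw [show z = -y by rw [ey, neg_neg], hodd.neg_pow, hyp]
          exact ezp ▸ pow_mem hz p
        rw [ey, show -z = -1 * z by rw [neg_one_mul]]
        exact mul_mem hm hz
    have hpow : ∀ (i j : Fin 2) (hij : i ≠ j) (c : F),
        (Matrix.SpecialLinearGroup.transvection hij c) ^ p = 1 := by
      intro i j hij c
      have h : ∀ m : ℕ, (Matrix.SpecialLinearGroup.transvection hij c) ^ m =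
          Matrix.SpecialLinearGroup.transvection hij (m • c) := by
        intro m
        induction m with
        | zero => rw [pow_zero, zero_smul]; exact (tz i j hij).symm
        | succ m ih => rw [pow_succ, ih, succ_nsmul, Matrix.SpecialLinearGroup.transvection_add]
      rw [h, nsmul_eq_mul, CharP.cast_eq_zero, zero_mul, tz]
    have htop : G0 = ⊤ := by
      refine CfsgLib.Classical.sl_transvection_induction G0 fun i j hij c => ?_
      refine lift _ ?_ (hpow i j hij c)
      fin_cases i <;> fin_cases j <;> first | exact absurd rfl hij | skip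
      · rw [show pr (Matrix.SpecialLinearGroup.transvection hij c) = pr (up c) from rfl, eup]
        exact (hK _).1 (hall c)
      · rw [show pr (Matrix.SpecialLinearGroup.transvection hij c) = pr (lo c) from rfl, elo]
        exact hlow _ (hall c)
    refine Or.inl ⟨htop, fun ⟨h9, hl⟩ => ?_⟩
    have hp3 : p = 3 := by
      have hd : p ∣ 3 ^ 2 := by
        rw [show (3 : ℕ) ^ 2 = 9 from rfl, ← h9, hq]
        exact dvd_pow_self p n.ne_zero
      exact (Nat.prime_dvd_prime_iff_eq hprime Nat.prime_three).1 (hprime.dvd_of_dvd_pow hd)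
    subst hp3
    have hle : Nat.card G0 ≤ 120 := NineFieldPair.card_closure_le lam hl
    rw [htop, Subgroup.card_top, CfsgLib.Classical.card_sl_two_eq, h9] at hle
    norm_num at hle
  · -- the icosahedral case
    subst hp3
    have hG : Nat.card H = 60 := by
      rw [← h60]
      exact Nat.card_congr (H.equivMapOfInjective _ (Moebius.pslExt_injective f)).toEquiv
    have h3 : (3 : F) = 0 := by exact_mod_cast CharP.cast_eq_zero F 3
    have ne_prime : lam ^ 3 ≠ lam := by
      intro e
      have htop : ∀ x : F, x ^ 3 = x := by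
        intro x
        have h : Subfield.closure ({lam} : Set F) ≤ RingHom.eqLocusField (frobenius F 3) (RingHom.id F) := by
          rw [Subfield.closure_le, Set.singleton_subset_iff]
          exact e
        exact h (hgen ▸ Subfield.mem_top x)
      have hq3 : Fintype.card F ≤ 3 := by
        have hsub : (Finset.univ : Finset F) ⊆ (Polynomial.X ^ 3 - Polynomial.X : Polynomial F).roots.toFinset :=
          fun x _ => by
            rw [Multiset.mem_toFinset, Polynomial.mem_roots (FiniteField.X_pow_card_sub_X_ne_zero F (by norm_num))]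
            simp [htop x]
        refine (Finset.card_le_card hsub).trans ((Multiset.toFinset_card_le _).trans ((Polynomial.card_roots' _).trans ?_))
        rw [FiniteField.X_pow_card_sub_X_natDegree_eq F (by norm_num)]
      have hdvd := H.card_subgroup_dvd_card
      rw [hG] at hdvd
      have hq' : Fintype.card F = 3 := by
        have hd : 3 ∣ Fintype.card F := hq ▸ dvd_pow_self 3 n.ne_zero
        have := Nat.le_of_dvd Fintype.card_pos hd
        omega
      rw [CfsgLib.Classical.card_psl_two_eq hq' 12 (by norm_num)] at hdvd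
      norm_num at hdvd
    have hord : ∀ y ∈ G0, ∃ j, (j = 2 ∨ j = 3 ∨ j = 5) ∧ y ^ j ∈ Subgroup.center _ := by
      intro y hy
      have key : ∀ σ : Equiv.Perm (Fin 5), Equiv.Perm.sign σ = 1 → σ ^ 2 = 1 ∨ σ ^ 3 = 1 ∨ σ ^ 5 = 1 := by
        decide +kernel
      set g : G := ⟨_, ⟨_, ⟨y, hy, rfl⟩, rfl⟩⟩ with hg
      have hj : ∀ j, (i5 g).1 ^ j = 1 → y ^ j ∈ Subgroup.center _ := by
        intro j e
        have e' : g ^ j = 1 := i5.injective (by rw [map_pow, map_one]; exact Subtype.ext e)
        refine (QuotientGroup.eq_one_iff _).1 (Moebius.pslExt_injective f ?_)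
        rw [map_one]
        show Moebius.pslExt f (pr (y ^ j)) = 1
        rw [map_pow, map_pow]
        exact congrArg Subtype.val e'
      rcases key _ (Equiv.Perm.mem_alternatingGroup.1 (i5 g).2) with e | e | e
      · exact ⟨2, Or.inl rfl, hj 2 e⟩
      · exact ⟨3, Or.inr (Or.inl rfl), hj 3 e⟩
      · exact ⟨5, Or.inr (Or.inr rfl), hj 5 e⟩
    have hval : ∀ x : F, up x ∈ G0 → x ^ 3 ≠ x → (x - 1) ^ 4 = -1 := by
      intro x hx hx3
      obtain ⟨j, hj, hc⟩ := hord _ (mul_mem hx hl0)
      have h10 : ((↑((up x * lo 1) ^ j)) : Matrix (Fin 2) (Fin 2) F) 1 0 = 0 := by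
        rcases hcenter _ hc with e | e <;> simp [e]
      rw [Matrix.SpecialLinearGroup.coe_pow, Matrix.SpecialLinearGroup.coe_mul, hupM, hloM] at h10
      rcases hj with rfl | rfl | rfl <;>
        simp [pow_succ, Matrix.mul_fin_two] at h10
      · exact absurd (show x ^ 3 = x by linear_combination (x ^ 2 - 2 * x + 3) * h10 - 2 * h3) hx3
      · refine absurd (show x ^ 3 = x by linear_combination (x - 4) * h10 + (4 * x + 4) * h3) hx3
      · linear_combination h10 + (-4 * x ^ 3 - 5 * x ^ 2 - 8 * x - 1) * h3
    have e1 := hval lam hu0 ne_prime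
    have e2 := hval (-lam) (by
      have : up (-lam) = (up lam)⁻¹ := eq_inv_of_mul_eq_one_left (by
        show Matrix.SpecialLinearGroup.transvection _ (-lam) * Matrix.SpecialLinearGroup.transvection _ lam = 1
        rw [← Matrix.SpecialLinearGroup.transvection_add, neg_add_cancel, tz])
      exact this ▸ inv_mem hu0) (fun e => ne_prime (by linear_combination -e))
    have hl2 : lam ^ 2 = -1 := by
      refine eq_neg_of_add_eq_zero_left ((mul_eq_zero.1 (?_ : lam * (lam ^ 2 + 1) = 0)).resolve_left hlam)
      linear_combination e1 - e2 + (3 * lam ^ 3 + 3 * lam) * h3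
    have h9 : Fintype.card F = 9 := by
      have htop : ∀ x : F, x ^ 9 = x := by
        intro x
        have h : Subfield.closure ({lam} : Set F) ≤
            RingHom.eqLocusField ((frobenius F 3).comp (frobenius F 3)) (RingHom.id F) := by
          rw [Subfield.closure_le, Set.singleton_subset_iff]
          show (lam ^ 3) ^ 3 = lam
          linear_combination lam * (lam ^ 6 - lam ^ 4 + lam ^ 2 - 1) * hl2
        have := h (hgen ▸ Subfield.mem_top x)
        rw [show x ^ 9 = (x ^ 3) ^ 3 by ring]
        exact this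
      have hle : Fintype.card F ≤ 9 := by
        have hsub : (Finset.univ : Finset F) ⊆ (Polynomial.X ^ 9 - Polynomial.X : Polynomial F).roots.toFinset :=
          fun x _ => by
            rw [Multiset.mem_toFinset, Polynomial.mem_roots (FiniteField.X_pow_card_sub_X_ne_zero F (by norm_num))]
            simp [htop x]
        refine (Finset.card_le_card hsub).trans ((Multiset.toFinset_card_le _).trans ((Polynomial.card_roots' _).trans ?_))
        rw [FiniteField.X_pow_card_sub_X_natDegree_eq F (by norm_num)]
      have hdvd := H.card_subgroup_dvd_card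
      rw [hG] at hdvd
      have h1 : (n : ℕ) ≤ 2 := (Nat.pow_le_pow_iff_right (by norm_num : 1 < 3)).1 (hq ▸ hle)
      have h0 : (n : ℕ) ≠ 1 := fun e => by
        rw [e, pow_one] at hq
        rw [CfsgLib.Classical.card_psl_two_eq hq 12 (by norm_num)] at hdvd
        norm_num at hdvd
      have := n.pos
      rw [hq, show (n : ℕ) = 2 by omega]; rfl
    refine Or.inr ⟨h9, hl2, ?_⟩
    set φ : G0 →* Matrix.ProjectiveSpecialLinearGroup (Fin 2) F := pr.comp G0.subtype
    have hrange : φ.range = H := by rw [MonoidHom.range_comp, Subgroup.range_subtype]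
    have hm := φ.ker.card_mul_index
    rw [Subgroup.index_ker, hrange, hG] at hm
    have hneg : (-1 : Matrix.SpecialLinearGroup (Fin 2) F) ∈ G0 := by
      have : Fact (Nat.Prime 2) := ⟨Nat.prime_two⟩
      obtain ⟨z, hz⟩ := exists_prime_orderOf_dvd_card' (G := G0) 2 ⟨Nat.card φ.ker * 30, by rw [← hm]; ring⟩
      have hzz : (z : Matrix.SpecialLinearGroup (Fin 2) F) * z = 1 := by
        have e := pow_orderOf_eq_one z
        rw [hz, sq] at e
        exact congrArg Subtype.val e
      rcases SL2Anti.eq_or_eq_neg_of_sq_one h2 hzz with e | e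
      · rw [show z = 1 from Subtype.ext e, orderOf_one] at hz
        norm_num at hz
      · exact e ▸ z.2
    have hker : Nat.card φ.ker = 2 := by
      rw [Nat.card_eq_two_iff]
      refine ⟨⟨1, one_mem _⟩, ⟨⟨-1, hneg⟩, ?_⟩, ?_, ?_⟩
      · exact (QuotientGroup.eq_one_iff _).2 ((SL2Anti.mem_center_iff_sign h2).2 (Or.inr rfl))
      · intro e
        exact SL2Anti.one_ne_neg_one h2 (congrArg (fun w : φ.ker => w.1.1) e)
      · ext ⟨⟨w, hw⟩, hk⟩
        simp only [Set.mem_insert_iff, Set.mem_singleton_iff, Set.mem_univ, iff_true]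
        rcases hcenter w ((QuotientGroup.eq_one_iff _).1 hk) with e | e
        · exact Or.inl (Subtype.ext (Subtype.ext e))
        · exact Or.inr (Subtype.ext (Subtype.ext e))
    rw [← hm, hker]
end Cfsg.Agent.S0801
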