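import Cfsg.Statements.S0197
import Cfsg.Agent.Lib.GLTwoThree.Values
import Mathlib.Tactic.FieldSimp
import Mathlib.Tactic.IntervalCases

set_option autoImplicit false
open Cfsg

namespace Cfsg.Agent.S0197

open CfsgLib.GLTwoThree

/-- The arithmetic of the two equations. -/
theorem arith {N : ℕ} (hN : 0 < N) {u w : ℤ} (hu : u % 16 = 13) (hw : w % 16 = 11) (h1 : u + w ≠ 0)
    (e0 : (N : ℂ) * (1 + 16 / ((u : ℂ) - 1) - 9 / (u : ℂ)) = 9216)
    (e1 : (N : ℂ) * (16 / ((u : ℂ) - 1) + 9 / (w : ℂ) + 1 / (1 - (u : ℂ) - (w : ℂ))) = 9216) :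
    N = 5616 ∨ N = 7920 := by
  have hu0 : (u : ℂ) ≠ 0 := by exact_mod_cast (show u ≠ 0 by omega)
  have hu1 : (u : ℂ) - 1 ≠ 0 := sub_ne_zero.mpr (by exact_mod_cast (show u ≠ 1 by omega))
  have hw0 : (w : ℂ) ≠ 0 := by exact_mod_cast (show w ≠ 0 by omega)
  have huw : 1 - (u : ℂ) - (w : ℂ) ≠ 0 := by
    intro h
    have : ((1 - u - w : ℤ) : ℂ) = 0 := by push_cast; exact h
    have := Int.cast_eq_zero.mp this
    omega
  have hN' : (N : ℂ) ≠ 0 := Nat.cast_ne_zero.mpr hN.ne'
  have key : 1 - 9 / (u : ℂ) - 9 / (w : ℂ) - 1 / (1 - (u : ℂ) - (w : ℂ)) = 0 := by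
    apply mul_left_cancel₀ hN'
    linear_combination e0 - e1
  have key2 : ((u + w) * (u * w - 9 * (u + w) + 9) : ℤ) = 0 := by
    refine Int.cast_injective (α := ℂ) ?_
    field_simp at key
    push_cast
    linear_combination -key
  have key3 : (u - 9) * (w - 9) = 72 := by
    have := (mul_eq_zero.mp key2).resolve_left h1
    linear_combination this
  have hdvd : (u - 9) ∣ 72 := ⟨w - 9, key3.symm⟩
  have hb1 : u - 9 ≤ 72 := Int.le_of_dvd (by norm_num) hdvd
  have hb2 : -(u - 9) ≤ 72 := Int.le_of_dvd (by norm_num) (neg_dvd.mpr hdvd)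
  have e0' : (N : ℂ) * (((u + 3) * (u + 3) : ℤ) : ℂ) = 9216 * (((u - 1) * u : ℤ) : ℂ) := by
    field_simp at e0
    push_cast
    linear_combination e0
  have e0'' : (N : ℤ) * ((u + 3) * (u + 3)) = 9216 * ((u - 1) * u) :=
    Int.cast_injective (α := ℂ) (by push_cast at e0' ⊢; linear_combination e0')
  have hlo : -63 ≤ u := by omega
  have hhi : u ≤ 81 := by omega
  interval_cases u <;> omega

/-- If a finite simple group has an involution whose centralizer is isomorphic to the general linear group GL(2, 3), then the group has order 5616 or 7920. -/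
theorem result {G : Type*} [Group G] [Finite G] [IsSimpleGroup G] (t : G) (ht : orderOf t = 2) (e : Subgroup.centralizer ({t} : Set G) ≃* Matrix.GeneralLinearGroup (Fin 2) (ZMod 3)) : Nat.card G = 5616 ∨ Nat.card G = 7920 := by
  classical
  obtain ⟨K⟩ := exists_coord e
  have := Fintype.ofFinite G
  have hfin : Finite (Cfsg.IrrCharacter G) := (CfsgLib.Char.finite_setOf_isIrr (G := G)).to_subtype
  have := Fintype.ofFinite (Cfsg.IrrCharacter G)
  have hconj := isConj_t ht K
  obtain ⟨A, hk, hd, hone⟩ := exists_multData K (classInner_Phi ht K)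
  obtain ⟨B, C, D, E, sB, sC, sD, sE, hsB, hsC, hsD, hsE, b0, b1, b4, c0, c1, c4, d0, d1, d4,
    f0, f1, f4, h23, s0, s1, hB, hC, hBC, hCD, hCE, hDE⟩ := A.exists_shape
  rw [hk] at b0 b1 b4 c0 c1 c4 d0 d1 d4 f0 f1 f4 h23 s0 s1
  obtain ⟨-, b2, b3⟩ := h23 B (by simp)
  obtain ⟨-, c2, c3⟩ := h23 C (by simp)
  obtain ⟨-, d2, d3⟩ := h23 D (by simp)
  obtain ⟨hE1, f2, f3⟩ := h23 E (by simp)
  have valB : (B : G → ℂ) t = 3 * (sB : ℂ) := by
    rw [apply_t ht K B, b0, b1, b2, b3, b4]; push_cast; ring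
  have valC : (C : G → ℂ) t = 4 * (sC : ℂ) := by
    rw [apply_t ht K C, c0, c1, c2, c3, c4]; push_cast; ring
  have valD : (D : G → ℂ) t = 3 * (sD : ℂ) := by
    rw [apply_t ht K D, d0, d1, d2, d3, d4]; push_cast; ring
  have valE : (E : G → ℂ) t = (sE : ℂ) := by
    rw [apply_t ht K E, f0, f1, f2, f3, f4]; push_cast; ring
  obtain ⟨mB, hmB⟩ := degree_congr ht K hconj B
  obtain ⟨mC, hmC⟩ := degree_congr ht K hconj C
  obtain ⟨mD, hmD⟩ := degree_congr ht K hconj D
  rw [b0, b1, b2, b3, b4] at hmB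
  rw [c0, c1, c2, c3, c4] at hmC
  rw [d0, d1, d2, d3, d4] at hmD
  have ko0 : mult K 0 A.one = 1 := by rw [← hk]; exact A.triv_eq 0
  have hdo : degree A.one = 1 := by rw [← hd]; exact A.d_one
  have hdeg0 := A.deg_eq 0
  have hdeg1 := A.deg_eq 1
  rw [hk, hd, sum_supp (v := mult K 0) (fun x hx => by simp [hx]), s0,
    Finset.sum_insert (by simp [hB, hC]), Finset.sum_pair hBC, b0, c0, ko0, hdo] at hdeg0
  rw [hk, hd, sum_supp (v := mult K 1) (fun x hx => by simp [hx]), s1,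
    Finset.sum_insert (by simp [hCD, hCE]), Finset.sum_pair hDE, c1, d1, f1] at hdeg1
  have e0 := pair_equation ht K hconj 0 (by decide)
  have e1 := pair_equation ht K hconj 1 (by decide)
  rw [sum_supp (v := mult K 0) (fun x hx => by simp [hx]), s0,
    Finset.sum_insert (by simp [hB, hC]), Finset.sum_pair hBC, b0, c0, ko0, valB, valC,
    degree_spec B, degree_spec C, hone] at e0
  rw [sum_supp (v := mult K 1) (fun x hx => by simp [hx]), s1,
    Finset.sum_insert (by simp [hCD, hCE]), Finset.sum_pair hDE, c1, d1, f1, valC, valD, valE,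
    degree_spec C, degree_spec D, degree_spec E] at e1
  have sgn : ∀ (s : ℤ), (s = 1 ∨ s = -1) → ∀ (c : ℤ) (x : ℂ),
      (s : ℂ) * (x * (s : ℂ) * (x * (s : ℂ)) / (c : ℂ)) = x * x / ((s * c : ℤ) : ℂ) := by
    rintro s (rfl | rfl) c x <;> push_cast
    · ring
    · rw [show (-1 : ℂ) * c = -(c : ℂ) by ring, div_neg]; ring
  rw [sgn sB hsB, sgn sC hsC] at e0
  rw [sgn sC hsC, sgn sD hsD, show (sE : ℂ) = (1 : ℂ) * sE from (one_mul _).symm] at e1
  have hE' : (sE : ℂ) * ((1 : ℂ) * sE * ((1 : ℂ) * sE) / (degree E : ℂ)) =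
      1 * 1 / ((sE * degree E : ℤ) : ℂ) := sgn sE hsE (degree E) 1
  rw [one_mul] at e1 hE'
  rw [hE'] at e1
  -- `E` is not linear
  have hE : sE * degree E ≠ 1 := by
    intro h
    have h' : degree E = 1 := by
      have := degree_pos E
      rcases hsE with rfl | rfl <;> omega
    obtain ⟨lam, hlam⟩ := CfsgLib.Char.exists_hom_of_degree_one (CfsgLib.Char.irr_isCharacter E.2)
      (by rw [degree_spec, h', Int.cast_one])
    rcases lam.normal_ker.eq_bot_or_eq_top with hker | hker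
    · obtain ⟨q, hq, r, hr, hqr⟩ := elems_noncomm
      obtain ⟨a, rfl⟩ := K.surj q hq
      obtain ⟨b, rfl⟩ := K.surj r hr
      apply hqr
      rw [← K.map_mul, ← K.map_mul]
      refine congrArg K.c (Subtype.ext ((MonoidHom.ker_eq_bot_iff lam).mp hker ?_))
      rw [Subgroup.coe_mul, Subgroup.coe_mul, map_mul, map_mul, mul_comm]
    · refine hE1 (Subtype.ext ?_)
      rw [hone, hlam]
      funext g
      have := MonoidHom.mem_ker.mp (hker ▸ Subgroup.mem_top g : g ∈ lam.ker)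
      rw [this, Units.val_one]
  obtain ⟨u, hu⟩ : ∃ u, u = 1 + sC * degree C := ⟨_, rfl⟩
  obtain ⟨w, hw⟩ : ∃ w, w = sD * degree D := ⟨_, rfl⟩
  have hbu : sB * degree B = -u := by omega
  have hcu : sC * degree C = u - 1 := by omega
  have heu : sE * degree E = 1 - u - w := by omega
  rw [hbu, hcu] at e0
  rw [← hw, hcu, heu] at e1
  push_cast at e0 e1
  refine arith Nat.card_pos (u := u) (w := w) ?_ ?_ (by omega) ?_ ?_
  · rcases hsC with rfl | rfl <;> omega
  · rcases hsD with rfl | rfl <;> omega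
  · linear_combination e0
  · linear_combination e1

end Cfsg.Agent.S0197
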