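import Cfsg.Statements.S2916
import Cfsg.Agent.Lib.GLTwoThree.Reduce
import Cfsg.Agent.Lib.Recog.LThreePlane
import Cfsg.Agent.Lib.Recog.OrderM11Data
import Cfsg.Agent.S0197

set_option autoImplicit false
open Cfsg

namespace Cfsg.Agent.S2916

open CfsgLib.GLTwoThree

theorem hyp {G : Type*} [Group G] [Finite G] [IsSimpleGroup G] {t : G} (ht : orderOf t = 2)
    (K : Coord (Subgroup.centralizer ({t} : Set G))) (hcard : Nat.card G = 5616) :
    CfsgLib.Recog.LThreeOrder.Hyp G t := by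
  classical
  have hthree : ∀ (a : Subgroup.centralizer ({t} : Set G)), orderOf a = 3 → K.c a ∈ threes := by
    intro a ha
    have h1 : powQ (K.c a) 3 = oneQ := by rw [← K.map_pow, ← ha, pow_orderOf_eq_one, K.map_one]
    have h2 : K.c a ≠ oneQ := fun e => by
      rw [K.inj (e.trans K.map_one.symm), orderOf_one] at ha; omega
    simp [threes, K.mem a, h1, h2]
  refine ⟨inferInstance, hcard, ht, isConj_t ht K, K.natCard, ?_, ?_⟩
  · intro a ha hat
    have ha' : a ∈ Subgroup.centralizer ({t} : Set G) := Subgroup.mem_centralizer_singleton_iff.2 hat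
    have h3 := hthree ⟨a, ha'⟩ (by rw [Subgroup.orderOf_mk]; exact ha)
    rw [← threes_cent _ h3, ← List.toFinset_card_of_nodup (elems_nodup.filter _),
      ← Nat.card_eq_finsetCard]
    refine Nat.card_congr (Equiv.ofBijective
      (fun b => ⟨K.c ⟨(b : G), (Subgroup.mem_inf.1 b.2).2⟩, ?_⟩) ⟨?_, ?_⟩)
    · simp only [List.mem_toFinset, List.mem_filter, beq_iff_eq, ← K.map_mul]
      refine ⟨K.mem _, congrArg K.c (Subtype.ext ?_)⟩
      exact Subgroup.mem_centralizer_singleton_iff.1 (Subgroup.mem_inf.1 b.2).1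
    · intro b b' h
      exact Subtype.ext (congrArg Subtype.val (K.inj (congrArg Subtype.val h)) :)
    · rintro ⟨q, hq⟩
      simp only [List.mem_toFinset, List.mem_filter, beq_iff_eq] at hq
      obtain ⟨b, rfl⟩ := K.surj q hq.1
      obtain ⟨-, hq2⟩ := hq
      rw [← K.map_mul, ← K.map_mul, K.inj.eq_iff, Subtype.ext_iff] at hq2
      simp only [Subgroup.coe_mul] at hq2
      exact ⟨⟨b, Subgroup.mem_inf.2 ⟨Subgroup.mem_centralizer_singleton_iff.2 hq2, b.2⟩⟩, rfl⟩
  · intro a b ha hb hat hbt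
    obtain ⟨g, hg, e⟩ := threes_conj _
      (hthree ⟨a, Subgroup.mem_centralizer_singleton_iff.2 hat⟩ (by rw [Subgroup.orderOf_mk]; exact ha)) _
      (hthree ⟨b, Subgroup.mem_centralizer_singleton_iff.2 hbt⟩ (by rw [Subgroup.orderOf_mk]; exact hb))
    obtain ⟨g, rfl⟩ := K.surj g hg
    rw [← K.map_mul, ← K.map_mul, K.inj.eq_iff, Subtype.ext_iff] at e
    simp only [Subgroup.coe_mul] at e
    exact isConj_iff.2 ⟨g, by rw [e, mul_inv_cancel_right]⟩

/-- Let G be a finite group with O²(G) = G (no proper normal subgroup of 2-power index), and let t be an involution of G whose centralizer C_G(t) is isomorphic to GL₂(3). Then G is isomorphic to PSL₃(3) or to the Mathieu group M₁₁. -/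
theorem result {G : Type*} [Group G] [Finite G] (hO : Cfsg.pResidual 2 G = ⊤) (t : G) (ht : orderOf t = 2) (hC : Nonempty (↥(Subgroup.centralizer ({t} : Set G)) ≃* GL (Fin 2) (ZMod 3))) : (∃ (F : Type) (_ : Field F) (_ : Fintype F), Fintype.card F = 3 ∧ Nonempty (G ≃* Matrix.ProjectiveSpecialLinearGroup (Fin 3) F)) ∨ Cfsg.Spor.IsoM11 G := by
  obtain ⟨e⟩ := hC
  obtain ⟨K⟩ := exists_coord e
  have hS := CfsgLib.GLTwoThree.isSimple ht K hO
  rcases S0197.result t ht e with h | h
  · have : Fact (Nat.Prime 3) := ⟨Nat.prime_three⟩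
    obtain ⟨f⟩ := CfsgLib.Recog.LThreeOrder.equiv_psl (hyp ht K h)
    exact Or.inl ⟨ZMod 3, inferInstance, inferInstance, ZMod.card 3, ⟨f⟩⟩
  · exact Or.inr (CfsgLib.Recog.OrderM11.iso_of_isM11 ⟨hS, h⟩
      ⟨CfsgLib.Golay.isSimple_sporM11, CfsgLib.Golay.card_sporM11⟩)

end Cfsg.Agent.S2916
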