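import Cfsg.Statements.S5665
import Cfsg.Agent.Lib.MaxSub.SpUnitary
-- import your own Cfsg.Agent.* helpers here

set_option autoImplicit false
open Cfsg

namespace Cfsg.Agent.S5665

open Matrix CfsgLib.MaxSub

section
variable {F : Type*} [Field F] {m : ℕ} {j : Matrix (Fin m ⊕ Fin m) (Fin m ⊕ Fin m) F} {d : F}

theorem mem_normalizer {K : Subalgebra F (Matrix (Fin m ⊕ Fin m) (Fin m ⊕ Fin m) F)} (hjK : j ∈ K)
    (hspan : ∀ k ∈ K, ∃ p q : F, k = p • 1 + q • j)
    {g : Matrix.GeneralLinearGroup (Fin m ⊕ Fin m) F} {β : F} (hβ : β ≠ 0)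
    (h : (g : Matrix (Fin m ⊕ Fin m) (Fin m ⊕ Fin m) F) * j = β • (j * (g : Matrix (Fin m ⊕ Fin m) (Fin m ⊕ Fin m) F))) :
    g ∈ Cfsg.Geo.subalgebraNormalizer K := by
  have fwd : ∀ k ∈ K, (g : Matrix (Fin m ⊕ Fin m) (Fin m ⊕ Fin m) F) * k *
      ((g⁻¹ : Matrix.GeneralLinearGroup (Fin m ⊕ Fin m) F) : Matrix (Fin m ⊕ Fin m) (Fin m ⊕ Fin m) F) ∈ K := by
    intro k hk
    obtain ⟨p, q, rfl⟩ := hspan k hk
    rw [Matrix.mul_add, Matrix.mul_smul, Matrix.mul_smul, h, Matrix.mul_one, Matrix.add_mul,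
      Matrix.smul_mul, Matrix.smul_mul, Matrix.smul_mul, Matrix.mul_assoc, ← Units.val_mul,
      mul_inv_cancel, Units.val_one, Matrix.mul_one]
    exact add_mem (K.smul_mem (one_mem K) p) (K.smul_mem (K.smul_mem hjK β) q)
  intro k
  refine ⟨fwd k, fun hk => ?_⟩
  obtain ⟨p, q, hpq⟩ := hspan _ hk
  have h' : (g : Matrix (Fin m ⊕ Fin m) (Fin m ⊕ Fin m) F) * k *
      ((g⁻¹ : Matrix.GeneralLinearGroup (Fin m ⊕ Fin m) F) : Matrix (Fin m ⊕ Fin m) (Fin m ⊕ Fin m) F) *
      (g : Matrix (Fin m ⊕ Fin m) (Fin m ⊕ Fin m) F) =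
      (g : Matrix (Fin m ⊕ Fin m) (Fin m ⊕ Fin m) F) * (p • 1 + (q / β) • j) := by
    rw [hpq, Matrix.mul_add, Matrix.mul_smul, Matrix.mul_smul, h, smul_smul, div_mul_cancel₀ _ hβ,
      Matrix.mul_one, Matrix.add_mul, Matrix.smul_mul, Matrix.smul_mul, Matrix.one_mul]
  rw [Matrix.mul_assoc, ← Units.val_mul, inv_mul_cancel, Units.val_one, Matrix.mul_one] at h'
  rw [show k = p • 1 + (q / β) • j from g.isUnit.mul_left_cancel h']
  exact add_mem (K.smul_mem (one_mem K) p) (K.smul_mem hjK _)

variable [Finite F] (A : SpAnti (m := m) j d) (h2 : (2 : F) ≠ 0) (hm : 5 ≤ m)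
  {M : Subgroup (Matrix.GeneralLinearGroup (Fin m ⊕ Fin m) F)}
  (hU : ∀ v c, Cfsg.sympForm m F v (j *ᵥ v) = 0 → spU j d v c ∈ M)
include A h2 hm hU

/-- one full isotropic centre gives all of them -/
theorem all_full {y : Fin m ⊕ Fin m → F} (hy0 : y ≠ 0) (hyy : Cfsg.sympForm m F y (j *ᵥ y) = 0)
    (hy : SpFull M y) : ∀ x, SpFull M x := by
  classical
  -- one step
  have step : ∀ v w, Cfsg.sympForm m F w (j *ᵥ w) = 0 → SpFull M v →
      Cfsg.sympForm m F v w ≠ 0 → Cfsg.sympForm m F v (j *ᵥ w) = 0 → SpFull M w := by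
    intro v w hw hv hne heq
    have h1 := hv.conj (hU w (Cfsg.sympForm m F v w)⁻¹ hw) (spU_mem_spGL _ _ _ _)
    rw [A.spU_mulVec hw, heq, mul_zero, zero_smul, add_zero, inv_mul_cancel₀ hne, one_smul] at h1
    have h2 := h1.add (hv.smul (-1)) (by
      rw [sympForm_smul_right, sympForm_add_left, sympForm_self, zero_add, sympForm_swap v w]
      simpa using hne)
    simpa using h2
  -- isotropic vectors outside `F[j] v`
  have two : ∀ v w, v ≠ 0 → Cfsg.sympForm m F v (j *ᵥ v) = 0 → SpFull M v →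
      Cfsg.sympForm m F w (j *ᵥ w) = 0 → w ∉ Submodule.span F {v, j *ᵥ v} → SpFull M w := by
    intro v w hv0 hvv hv hww hw
    obtain ⟨z, hz, hzS, hzv⟩ := A.exists_iso h2 hm (S := {j *ᵥ v, j *ᵥ w, w - v})
      (le_trans Finset.card_le_three (by norm_num)) (b := v) (fun h => by
        simp only [Finset.coe_insert, Finset.coe_singleton, Submodule.mem_span_insert] at h
        obtain ⟨p, t, ⟨q, t', ht', rfl⟩, h⟩ := h
        obtain ⟨r, rfl⟩ := Submodule.mem_span_singleton.1 ht'
        -- `(1 + r) v - p jv = r w + q jw`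
        have h' : r • w + q • (j *ᵥ w) = (1 + r) • v + (-p) • (j *ᵥ v) := by
          linear_combination (norm := module) -h
        by_cases hrq : r * r - q * q * d = 0
        · rcases eq_or_ne q 0 with rfl | hq
          · have hr : r = 0 := mul_self_eq_zero.1 (by linear_combination hrq)
            subst hr
            have h'' : (1 : F) • v + (-p) • (j *ᵥ v) = 0 := by
              linear_combination (norm := module) -h'
            exact one_ne_zero (A.indep hv0 h'').1
          · exact A.nonsq (r / q) (by field_simp; linear_combination hrq)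
        · apply hw
          refine (Submodule.smul_mem_iff _ hrq).1 ?_
          have hmul : (r * r - q * q * d) • w = r • (r • w + q • (j *ᵥ w)) +
              (-q) • (j *ᵥ (r • w + q • (j *ᵥ w))) := by
            rw [mulVec_add, mulVec_smul, mulVec_smul, A.sq]; module
          rw [hmul, h', mulVec_add, mulVec_smul, mulVec_smul, A.sq]
          exact Submodule.mem_span_pair.2 ⟨r * (1 + r) + (-q) * ((-p) * d),
            r * (-p) + (-q) * (1 + r), by module⟩)
    have e1 : Cfsg.sympForm m F z (j *ᵥ v) = 0 := hzS _ (by simp)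
    have e2 : Cfsg.sympForm m F z (j *ᵥ w) = 0 := hzS _ (by simp)
    have e3 : Cfsg.sympForm m F z w = Cfsg.sympForm m F z v := by
      have := hzS (w - v) (by simp)
      rw [sub_eq_add_neg, ← neg_one_smul F v, sympForm_add_right, sympForm_smul_right] at this
      linear_combination this
    have hzfull := step v z hz hv (fun e => hzv (sympForm_eq_zero_swap e)) (by rw [A.form_symm]; exact e1)
    exact step z w hww hzfull (e3 ▸ hzv) e2
  have iso : ∀ w, Cfsg.sympForm m F w (j *ᵥ w) = 0 → SpFull M w := by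
    intro w hw
    rcases eq_or_ne w 0 with rfl | hw0
    · exact spFull_zero
    by_cases hin : w ∈ Submodule.span F {y, j *ᵥ y}
    · obtain ⟨v, -, hvQ, hv⟩ := exists_singular_avoid (A.quadForm h2) h2 (W := ⊤)
        (P := Submodule.span F {y, j *ᵥ y}) (by
          rw [finrank_top, Module.finrank_pi, Fintype.card_sum, Fintype.card_fin]; omega) (by
          intro hle
          obtain ⟨x, -, hx⟩ := exists_notMem_span_pair (F := F) (U := (⊤ : Submodule F (Fin m ⊕ Fin m → F)))
            y (j *ᵥ y) (by rw [finrank_top, Module.finrank_pi, Fintype.card_sum, Fintype.card_fin]; omega)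
          exact hx (hle trivial))
      have hv0 : v ≠ 0 := fun e => hv (e ▸ Submodule.zero_mem _)
      refine two v w hv0 hvQ (two y v hy0 hyy hy hvQ hv) hw fun hw' => hv ?_
      -- then `v` would lie in `F[j] y`
      obtain ⟨p, q, hpq⟩ := Submodule.mem_span_pair.1 hw'
      obtain ⟨p', q', hpq'⟩ := Submodule.mem_span_pair.1 hin
      by_cases hn : p * p - q * q * d = 0
      · rcases eq_or_ne q 0 with rfl | hq
        · exact absurd (by rw [← hpq, mul_self_eq_zero.1 (by linear_combination hn : p * p = 0)]; simp) hw0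
        · exact absurd (by field_simp; linear_combination hn) (A.nonsq (p / q))
      · refine (Submodule.smul_mem_iff _ hn).1 ?_
        have hmul : (p * p - q * q * d) • v = p • (p • v + q • (j *ᵥ v)) +
            (-q) • (j *ᵥ (p • v + q • (j *ᵥ v))) := by
          rw [mulVec_add, mulVec_smul, mulVec_smul, A.sq]; module
        rw [hmul, hpq, ← hpq', mulVec_add, mulVec_smul, mulVec_smul, A.sq]
        exact Submodule.mem_span_pair.2 ⟨p * p' + (-q) * (q' * d), p * q' + (-q) * p', by module⟩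
    · exact two y w hy0 hyy hy hw hin
  intro x
  by_cases hx : Cfsg.sympForm m F x (j *ᵥ x) = 0
  · exact iso x hx
  have hxj : x ∉ Submodule.span F (({j *ᵥ x - x} : Finset (Fin m ⊕ Fin m → F)) : Set (Fin m ⊕ Fin m → F)) := by
    rw [Finset.coe_singleton, Submodule.mem_span_singleton]
    rintro ⟨t, ht⟩
    have h' : (1 + t) • x + (-t) • (j *ᵥ x) = 0 := by linear_combination (norm := module) -ht
    obtain ⟨e1, e2⟩ := A.indep (fun e => hx (by rw [e]; exact zero_dotProduct _)) h'
    exact one_ne_zero (by linear_combination e1 + e2)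
  obtain ⟨p, hp, hpS, hpx⟩ := A.exists_iso h2 hm (S := {j *ᵥ x - x})
    (by simp) (b := x) hxj
  have hpjx : Cfsg.sympForm m F p (j *ᵥ x) = Cfsg.sympForm m F p x := by
    have := hpS (j *ᵥ x - x) (by simp)
    rw [sub_eq_add_neg, ← neg_one_smul F x, sympForm_add_right, sympForm_smul_right] at this
    linear_combination this
  set k := Cfsg.sympForm m F x (j *ᵥ x) / (2 * Cfsg.sympForm m F p x) with hk
  have hk0 : k ≠ 0 := div_ne_zero hx (mul_ne_zero h2 hpx)
  have hq : Cfsg.sympForm m F (x + (-k) • p) (j *ᵥ (x + (-k) • p)) = 0 := by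
    simp only [mulVec_add, mulVec_smul, sympForm_add_left, sympForm_add_right, sympForm_smul_left,
      sympForm_smul_right, hp, A.form_symm x p, hpjx]
    rw [hk]; field_simp; ring
  have hkp : SpFull M (k • p) := (iso p hp).smul k
  have := hkp.add (iso _ hq) (by
    rw [sympForm_smul_left, sympForm_add_right, sympForm_smul_right, sympForm_self, mul_zero, add_zero]
    exact mul_ne_zero hk0 hpx)
  simpa using this

end

/-- the maximality for `m ≥ 5` -/
theorem base {F : Type*} [Field F] [Fintype F] (m : ℕ) (hm : 5 ≤ m) (hodd : Odd (Fintype.card F)) (K : Subalgebra F (Matrix (Fin m ⊕ Fin m) (Fin m ⊕ Fin m) F)) (hK : Cfsg.Geo.IsFieldSubalgebra 2 K) (hac : Cfsg.Geo.IsAdjointClosedFor (Cfsg.sympForm m F) K) (hnsa : ¬ Cfsg.Geo.IsSelfAdjointFor (Cfsg.sympForm m F) K) : Cfsg.Geo.IsMaximalIn (Cfsg.spGL m F) (Cfsg.Geo.subalgebraNormalizer K ⊓ Cfsg.spGL m F) := by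
  classical
  have h2 : (2 : F) ≠ 0 := by
    intro h
    have hc : ringChar F = 2 := by
      have := CharP.charP_iff_prime_eq_zero Nat.prime_two |>.2 (by exact_mod_cast h : ((2 : ℕ) : F) = 0)
      exact ringChar.eq F 2
    exact (Nat.not_even_iff_odd.2 hodd) (Nat.even_iff.2 (FiniteField.even_card_of_char_two hc))
  haveI : Nonempty (Fin m ⊕ Fin m) := ⟨Sum.inl ⟨0, by omega⟩⟩
  -- the anti-self-adjoint element
  obtain ⟨j, hjK, hj0, hanti⟩ : ∃ j ∈ K, j ≠ 0 ∧
      ∀ u v, Cfsg.sympForm m F (j *ᵥ u) v = -Cfsg.sympForm m F u (j *ᵥ v) := by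
    simp only [Cfsg.Geo.IsSelfAdjointFor, not_forall] at hnsa
    obtain ⟨k, hk, u₀, v₀, hne⟩ := hnsa
    obtain ⟨k', hk', hadj⟩ := hac k hk
    have hadj' : ∀ u v, Cfsg.sympForm m F (k' *ᵥ u) v = Cfsg.sympForm m F u (k *ᵥ v) := fun u v => by
      rw [sympForm_swap v (k' *ᵥ u), ← hadj, sympForm_swap u (k *ᵥ v), neg_neg]
    refine ⟨k - k', sub_mem hk hk', fun e => hne ?_, fun u v => ?_⟩
    · rw [hadj, ← sub_eq_zero.1 e]
    · rw [sub_mulVec, sub_mulVec, sub_eq_add_neg, sub_eq_add_neg, ← neg_one_smul F (k' *ᵥ u),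
        ← neg_one_smul F (k' *ᵥ v), sympForm_add_left, sympForm_add_right, sympForm_smul_left,
        sympForm_smul_right, hadj, hadj']
      ring
  have hnsc : ∀ c : F, j ≠ c • 1 := by
    intro c e
    obtain ⟨u, v, huv⟩ : ∃ u v : Fin m ⊕ Fin m → F, Cfsg.sympForm m F u v ≠ 0 := by
      let u : Fin m ⊕ Fin m → F := Pi.single (Sum.inl ⟨0, by omega⟩) 1
      obtain ⟨v, -, hv⟩ := exists_spPerp_of_notMem (W := (⊥ : Submodule F (Fin m ⊕ Fin m → F))) (x := u)
        (fun h => by simpa [u] using h)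
      exact ⟨u, v, hv⟩
    have := hanti u v
    rw [e, smul_mulVec, smul_mulVec, one_mulVec, one_mulVec, sympForm_smul_left,
      sympForm_smul_right] at this
    have hc : c = 0 := by
      have : c * (2 * Cfsg.sympForm m F u v) = 0 := by linear_combination this
      exact (mul_eq_zero.1 this).resolve_right (mul_ne_zero h2 huv)
    exact hj0 (by rw [e, hc, zero_smul])
  have hspan : ∀ k ∈ K, ∃ p q : F, k = p • 1 + q • j := by
    have hle : Submodule.span F {(1 : Matrix (Fin m ⊕ Fin m) (Fin m ⊕ Fin m) F), j} ≤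
        Subalgebra.toSubmodule K := Submodule.span_le.2 (by
      rintro _ (rfl | rfl)
      · exact one_mem K
      · exact hjK)
    have hli : LinearIndependent F ![(1 : Matrix (Fin m ⊕ Fin m) (Fin m ⊕ Fin m) F), j] :=
      (LinearIndependent.pair_iff' (one_ne_zero)).2 fun c e => hnsc c e.symm
    have hfr := finrank_span_eq_card hli
    rw [Fintype.card_fin, show Set.range ![(1 : Matrix (Fin m ⊕ Fin m) (Fin m ⊕ Fin m) F), j] = {1, j} by
      simp [Set.pair_comm]] at hfr
    have he := Submodule.eq_of_le_of_finrank_eq hle (by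
      rw [hfr]; exact hK.finrank_eq.symm)
    intro k hk
    have : k ∈ Submodule.span F {(1 : Matrix (Fin m ⊕ Fin m) (Fin m ⊕ Fin m) F), j} := by
      rw [he]; exact hk
    obtain ⟨p, q, h⟩ := Submodule.mem_span_pair.1 this
    exact ⟨p, q, h.symm⟩
  obtain ⟨d, hd⟩ : ∃ d : F, j * j = d • 1 := by
    obtain ⟨p, q, hpq⟩ := hspan _ (mul_mem hjK hjK)
    refine ⟨p, ?_⟩
    suffices q = 0 by rw [hpq, this, zero_smul, add_zero]
    by_contra hq
    obtain ⟨w, hw⟩ : ∃ w, j *ᵥ w ≠ 0 := by
      by_contra hno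
      push Not at hno
      exact hj0 (Matrix.ext_of_mulVec_single fun i => by rw [hno, zero_mulVec])
    refine hw (CfsgLib.Geom.sympBilin_sep _ fun v => ?_)
    rw [CfsgLib.Geom.sympBilin_apply]
    have e1 := hanti (j *ᵥ w) v
    rw [hanti w, mulVec_mulVec, mulVec_mulVec, hpq, add_mulVec, add_mulVec, smul_mulVec, smul_mulVec,
      smul_mulVec, smul_mulVec, one_mulVec, one_mulVec, sympForm_add_left, sympForm_add_right,
      sympForm_smul_left, sympForm_smul_left, sympForm_smul_right, sympForm_smul_right, hanti] at e1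
    have : 2 * q * Cfsg.sympForm m F w (j *ᵥ v) = 0 := by linear_combination -e1
    rw [hanti, (mul_eq_zero.1 this).resolve_left (mul_ne_zero h2 hq), neg_zero]
  have A : SpAnti (m := m) j d := by
    refine ⟨hanti, fun v => by rw [mulVec_mulVec, hd, smul_mulVec, one_mulVec], fun c hc => ?_⟩
    have hzero : (j + c • 1) * (j - c • 1) = 0 := by
      rw [Matrix.add_mul, Matrix.mul_sub, Matrix.mul_sub, hd, Matrix.mul_smul, Matrix.mul_one,
        Matrix.smul_mul, Matrix.one_mul, Matrix.smul_mul, Matrix.one_mul, smul_smul, hc]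
      abel
    have hne : j + c • 1 ≠ 0 := fun e => hnsc (-c) (by rw [neg_smul]; exact eq_neg_of_add_eq_zero_left e)
    obtain ⟨y, hy, hxy⟩ := hK.inv _ (add_mem hjK (K.smul_mem (one_mem K) c)) hne
    refine hnsc c (sub_eq_zero.1 ?_)
    have := congrArg (y * ·) hzero
    simp only [← Matrix.mul_assoc, Matrix.mul_zero] at this
    rwa [hK.comm y hy _ (add_mem hjK (K.smul_mem (one_mem K) c)), hxy, Matrix.one_mul] at this
  -- the unitary transvections lie in the subgroup
  have hH : ∀ v c, Cfsg.sympForm m F v (j *ᵥ v) = 0 →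
      spU j d v c ∈ Cfsg.Geo.subalgebraNormalizer K ⊓ Cfsg.spGL m F := fun v c hv =>
    ⟨mem_normalizer hjK hspan one_ne_zero (by
      rw [one_smul]
      refine Matrix.ext_of_mulVec_single fun i => ?_
      rw [← mulVec_mulVec, ← mulVec_mulVec, A.spU_comm hv]), spU_mem_spGL _ _ _ _⟩
  refine isMaximalIn_of_lt (lt_of_le_of_ne inf_le_right fun he => ?_) fun M hM hMS g hg hgH => ?_
  · let v : Fin m ⊕ Fin m → F := Pi.single (Sum.inl ⟨0, by omega⟩) 1
    have hv0 : v ≠ 0 := by simp [v]
    have hT := spT_mem_spGL v (1 : F)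
    rw [← he] at hT
    obtain ⟨p, q, hpq⟩ := hspan _ ((hT.1 j).1 hjK)
    have e : ∀ x, (spT v (1 : F) : Matrix _ _ F) *ᵥ (j *ᵥ x) =
        p • ((spT v (1 : F) : Matrix _ _ F) *ᵥ x) + q • (j *ᵥ ((spT v (1 : F) : Matrix _ _ F) *ᵥ x)) := by
      intro x
      have := congrArg (fun N : Matrix (Fin m ⊕ Fin m) (Fin m ⊕ Fin m) F =>
        N *ᵥ ((spT v (1 : F) : Matrix _ _ F) *ᵥ x)) hpq
      simp only [← mulVec_mulVec, inv_mulVec_mulVec, add_mulVec, smul_mulVec, one_mulVec] at this
      exact this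
    -- a vector orthogonal to `v` and `jv`, independent of `F[j] v`
    obtain ⟨x, hx, hxj, hx0⟩ : ∃ x, Cfsg.sympForm m F x v = 0 ∧
        Cfsg.sympForm m F x (j *ᵥ v) = 0 ∧ x ≠ 0 := by
      have h1 := finrank_le_inf_ker (⊤ : Submodule F (Fin m ⊕ Fin m → F)) (spLin v)
      have h2 := finrank_le_inf_ker ((⊤ : Submodule F (Fin m ⊕ Fin m → F)) ⊓ LinearMap.ker (spLin v))
        (spLin (j *ᵥ v))
      rw [finrank_top, Module.finrank_pi, Fintype.card_sum, Fintype.card_fin] at h1
      obtain ⟨x, hx, hx0⟩ := Submodule.exists_mem_ne_zero_of_ne_bot (p :=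
        (⊤ : Submodule F (Fin m ⊕ Fin m → F)) ⊓ LinearMap.ker (spLin v) ⊓ LinearMap.ker (spLin (j *ᵥ v)))
        (fun e => by rw [e, finrank_bot] at h2; omega)
      exact ⟨x, hx.1.2, hx.2, hx0⟩
    have e' := e x
    simp only [spT_mulVec, hx, A.anti x v, hxj, mul_zero, neg_zero, zero_smul, add_zero] at e'
    obtain ⟨rfl, hq⟩ := A.indep hx0 (p := p) (q := q - 1)
      (by linear_combination (norm := module) -e')
    obtain rfl : q = 1 := sub_eq_zero.1 hq
    obtain ⟨z, -, hz⟩ := exists_spPerp_of_notMem (W := (⊥ : Submodule F (Fin m ⊕ Fin m → F))) (x := v)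
      (fun h => hv0 (by simpa using h))
    have hz' : Cfsg.sympForm m F z v ≠ 0 := fun h => hz (sympForm_eq_zero_swap h)
    have e'' := e z
    simp only [spT_mulVec, one_mul, mulVec_add, mulVec_smul] at e''
    exact hz' (neg_eq_zero.1 (A.indep hv0 (p := Cfsg.sympForm m F (j *ᵥ z) v)
      (q := -Cfsg.sympForm m F z v) (by linear_combination (norm := module) e'')).2)
  · let G := (g : Matrix (Fin m ⊕ Fin m) (Fin m ⊕ Fin m) F)
    let G' := ((g⁻¹ : Matrix.GeneralLinearGroup (Fin m ⊕ Fin m) F) : Matrix (Fin m ⊕ Fin m) (Fin m ⊕ Fin m) F)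
    have hU : ∀ v c, Cfsg.sympForm m F v (j *ᵥ v) = 0 → spU j d v c ∈ M := fun v c hv => hM (hH v c hv)
    obtain ⟨v, hv, hout⟩ : ∃ v, Cfsg.sympForm m F v (j *ᵥ v) = 0 ∧
        G *ᵥ (j *ᵥ v) ∉ Submodule.span F {G *ᵥ v, j *ᵥ (G *ᵥ v)} := by
      by_contra hno
      push Not at hno
      have hinjG : ∀ x, G *ᵥ x = 0 → x = 0 := fun x e => by
        have e' : (g : Matrix (Fin m ⊕ Fin m) (Fin m ⊕ Fin m) F) *ᵥ x = 0 := e
        rw [← inv_mulVec_mulVec g x, e', mulVec_zero]
      let L := G' * j * G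
      have hLsq : ∀ x, L *ᵥ (L *ᵥ x) = d • x := fun x => by
        simp only [L, G, G', ← mulVec_mulVec, mulVec_mulVec_inv, A.sq, mulVec_smul, inv_mulVec_mulVec]
      have hLv : ∀ v, Cfsg.sympForm m F v (j *ᵥ v) = 0 → v ≠ 0 →
          ∃ α β : F, L *ᵥ v = α • v + β • (j *ᵥ v) := by
        intro v hv hv0
        obtain ⟨p, q, hpq⟩ := Submodule.mem_span_pair.1 (hno v hv)
        rcases eq_or_ne q 0 with rfl | hq
        · exfalso
          rw [zero_smul, add_zero, ← mulVec_smul] at hpq
          have h0 : G *ᵥ (p • v - j *ᵥ v) = 0 := by rw [mulVec_sub, hpq, sub_self]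
          exact one_ne_zero (neg_eq_zero.1 (A.indep hv0 (p := p) (q := -1)
            (by rw [neg_smul, one_smul, ← sub_eq_add_neg]; exact hinjG _ h0)).2)
        · refine ⟨-(p / q), q⁻¹, ?_⟩
          refine smul_right_injective _ hq ?_
          simp only [smul_add, smul_smul, mul_neg, mul_div_cancel₀ _ hq, mul_inv_cancel₀ hq, one_smul]
          have := congrArg (G' *ᵥ ·) hpq
          simp only [G, G', mulVec_add, mulVec_smul, inv_mulVec_mulVec] at this
          simp only [L, G, G', ← mulVec_mulVec]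
          linear_combination (norm := module) this
      -- coefficients agree on orthogonal pairs
      have hpair : ∀ v w, Cfsg.sympForm m F v (j *ᵥ v) = 0 → Cfsg.sympForm m F w (j *ᵥ w) = 0 →
          Cfsg.sympForm m F w (j *ᵥ v) = 0 → w ∉ Submodule.span F {v, j *ᵥ v} → v ≠ 0 →
          ∀ α β : F, L *ᵥ v = α • v + β • (j *ᵥ v) → L *ᵥ w = α • w + β • (j *ᵥ w) := by
        intro v w hv hw hwv hind hv0 α β hα
        have hw0 : w ≠ 0 := fun e => hind (e ▸ Submodule.zero_mem _)
        obtain ⟨α₁, β₁, h1⟩ := hLv w hw hw0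
        have hsum0 : v + w ≠ 0 := fun e => hind (by
          rw [eq_neg_of_add_eq_zero_right e]
          exact Submodule.neg_mem _ (Submodule.subset_span (by simp)))
        obtain ⟨α₂, β₂, h2'⟩ := hLv (v + w) (by
          rw [mulVec_add]
          simp [sympForm_add_left, sympForm_add_right, hv, hw, hwv, A.form_symm v w]) hsum0
        rw [mulVec_add, hα, h1] at h2'
        have key : (α₁ - α₂) • w + (β₁ - β₂) • (j *ᵥ w) = (α₂ - α) • v + (β₂ - β) • (j *ᵥ v) := by
          rw [mulVec_add] at h2'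
          linear_combination (norm := module) h2'
        by_cases hn : (α₁ - α₂) * (α₁ - α₂) - (β₁ - β₂) * (β₁ - β₂) * d = 0
        · have hb : β₁ - β₂ = 0 := by
            by_contra hb
            exact A.nonsq ((α₁ - α₂) / (β₁ - β₂)) (by field_simp; linear_combination hn)
          have ha : α₁ - α₂ = 0 := by rw [hb] at hn; exact mul_self_eq_zero.1 (by linear_combination hn)
          rw [ha, hb, zero_smul, zero_smul, add_zero] at key
          obtain ⟨e1, e2⟩ := A.indep hv0 key.symm
          rw [h1, show α₁ = α by linear_combination ha + e1, show β₁ = β by linear_combination hb + e2]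
        · exfalso
          apply hind
          refine (Submodule.smul_mem_iff _ hn).1 ?_
          have hmul : ((α₁ - α₂) * (α₁ - α₂) - (β₁ - β₂) * (β₁ - β₂) * d) • w =
              (α₁ - α₂) • ((α₁ - α₂) • w + (β₁ - β₂) • (j *ᵥ w)) +
              (-(β₁ - β₂)) • (j *ᵥ ((α₁ - α₂) • w + (β₁ - β₂) • (j *ᵥ w))) := by
            rw [mulVec_add, mulVec_smul, mulVec_smul, A.sq]; module
          rw [hmul, key, mulVec_add, mulVec_smul, mulVec_smul, A.sq]
          exact Submodule.mem_span_pair.2 ⟨(α₁ - α₂) * (α₂ - α) + (-(β₁ - β₂)) * ((β₂ - β) * d),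
            (α₁ - α₂) * (β₂ - β) + (-(β₁ - β₂)) * (α₂ - α), by module⟩
      obtain ⟨v₀, -, hv₀0, hv₀⟩ := exists_singular (A.quadForm h2) h2
        (W := (⊤ : Submodule F (Fin m ⊕ Fin m → F)))
        (by rw [finrank_top, Module.finrank_pi, Fintype.card_sum, Fintype.card_fin]; omega)
      obtain ⟨α, β, hαβ⟩ := hLv v₀ hv₀ hv₀0
      have hall : ∀ v, Cfsg.sympForm m F v (j *ᵥ v) = 0 → L *ᵥ v = α • v + β • (j *ᵥ v) := by
        intro v hv
        rcases eq_or_ne v 0 with rfl | hv0
        · simp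
        classical
        set S : Finset (Fin m ⊕ Fin m → F) := {j *ᵥ v₀, j *ᵥ v}
        have h1 := finrank_le_finrank_spPerp_add (Submodule.span F (S : Set (Fin m ⊕ Fin m → F)))
        have h3 := finrank_span_finset_le_card (R := F) S
        have h3' : S.card ≤ 2 := Finset.card_le_two
        simp only [Set.finrank] at h3
        set T : Finset (Fin m ⊕ Fin m → F) := {v₀, j *ᵥ v₀, v, j *ᵥ v}
        have h4 := finrank_span_finset_le_card (R := F) T
        have h4' : T.card ≤ 4 := Finset.card_le_four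
        simp only [Set.finrank] at h4
        obtain ⟨w, hwW, hw, hwT⟩ := exists_singular_avoid (A.quadForm h2) h2
          (W := spPerp (Submodule.span F (S : Set (Fin m ⊕ Fin m → F))))
          (P := Submodule.span F (T : Set (Fin m ⊕ Fin m → F)))
          (by rw [Fintype.card_sum, Fintype.card_fin]; omega)
          (fun hle => by have := Submodule.finrank_mono hle; omega)
        have hsub : ∀ x ∈ ({v₀, j *ᵥ v₀} : Set (Fin m ⊕ Fin m → F)), x ∈ T := by
          rintro x (rfl | rfl) <;> simp [T]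
        have hsub' : ∀ x ∈ ({v, j *ᵥ v} : Set (Fin m ⊕ Fin m → F)), x ∈ T := by
          rintro x (rfl | rfl) <;> simp [T]
        have hLw := hpair v₀ w hv₀ hw (hwW _ (Submodule.subset_span (by simp [S])))
          (fun h => hwT (Submodule.span_mono hsub h)) hv₀0 α β hαβ
        have hw0 : w ≠ 0 := fun e => hwT (e ▸ Submodule.zero_mem _)
        refine hpair w v hw hv (by rw [A.form_symm]; exact hwW _ (Submodule.subset_span (by simp [S])))
          (fun h => ?_) hw0 α β hLw
        -- `w` would lie in `F[j] v`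
        obtain ⟨p, q, hpq⟩ := Submodule.mem_span_pair.1 h
        apply hwT
        by_cases hn : p * p - q * q * d = 0
        · exfalso
          rcases eq_or_ne q 0 with rfl | hq
          · exact hv0 (by rw [← hpq, mul_self_eq_zero.1 (by linear_combination hn : p * p = 0)]; simp)
          · exact A.nonsq (p / q) (by field_simp; linear_combination hn)
        · refine Submodule.span_mono hsub' ((Submodule.smul_mem_iff _ hn).1 ?_)
          have hmul : (p * p - q * q * d) • w = p • (p • w + q • (j *ᵥ w)) +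
              (-q) • (j *ᵥ (p • w + q • (j *ᵥ w))) := by
            rw [mulVec_add, mulVec_smul, mulVec_smul, A.sq]; module
          rw [hmul, hpq]
          exact Submodule.mem_span_pair.2 ⟨p, -q, rfl⟩
      have heq : L = α • 1 + β • j := by
        refine Matrix.ext_of_mulVec_single fun i => ?_
        have := le_of_singular_mem (A.quadForm h2) h2 (W := ⊤)
          (S := LinearMap.ker (Matrix.toLin' (L - (α • 1 + β • j))))
          (by rw [finrank_top, Module.finrank_pi, Fintype.card_sum, Fintype.card_fin]; omega)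
          (fun s _ hs => by
            rw [LinearMap.mem_ker, Matrix.toLin'_apply, sub_mulVec, add_mulVec, smul_mulVec,
              smul_mulVec, one_mulVec, hall s hs, sub_self])
        have h0 := this (x := Pi.single i 1) trivial
        rw [LinearMap.mem_ker, Matrix.toLin'_apply, sub_mulVec] at h0
        exact sub_eq_zero.1 h0
      obtain ⟨hα0, hβ⟩ : α = 0 ∧ β ≠ 0 := by
        have h := hLsq v₀
        simp only [heq, add_mulVec, smul_mulVec, one_mulVec, mulVec_add, mulVec_smul, A.sq] at h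
        obtain ⟨e1, e2⟩ := A.indep hv₀0 (p := α * α + β * β * d - d) (q := 2 * (α * β))
          (by linear_combination (norm := module) h)
        rcases mul_eq_zero.1 ((mul_eq_zero.1 e2).resolve_left h2) with ha | hb
        · refine ⟨ha, fun hb => A.d_ne ?_⟩
          rw [ha, hb] at e1; linear_combination -e1
        · exfalso
          exact A.nonsq α (by rw [hb] at e1; linear_combination e1)
      refine hgH ⟨mem_normalizer hjK hspan (inv_ne_zero hβ) ?_, hMS hg⟩
      have h1 : G * L = G * (α • 1 + β • j) := by rw [heq]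
      simp only [L, G, G', ← Matrix.mul_assoc, ← Units.val_mul, mul_inv_cancel, Units.val_one,
        Matrix.one_mul, hα0, zero_smul, zero_add, Matrix.mul_smul] at h1
      rw [h1, smul_smul, inv_mul_cancel₀ hβ, one_smul]
    have hgS := hMS hg
    have hE := mul_mem (mul_mem hg (hU v 1 hv)) (inv_mem hg)
    rw [spU, show g * (spT v (1 : F) * spT (j *ᵥ v) (-(1 / d))) * g⁻¹ =
      (g * spT v (1 : F) * g⁻¹) * (g * spT (j *ᵥ v) (-(1 / d)) * g⁻¹) by group, spT_conj hgS,
      spT_conj hgS] at hE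
    obtain ⟨y, hy0, hyy, hy⟩ := A.exists_full h2 hm hU (neg_ne_zero.2 (one_div_ne_zero A.d_ne))
      ((spGL_form hgS v (j *ᵥ v)).trans hv) hout hE
    exact spGL_le_of_spFull (all_full A h2 hm hU hy0 hyy hy)

/-- For a finite field F of odd order and m ≥ 7, let K be a subfield of the algebra of 2m × 2m matrices over F containing the scalars, of degree 2 over F, that is closed under adjoints for the standard alternating form on F^(2m) but whose elements are not all self-adjoint (so the adjoint map induces the automorphism of order two of K). Then the elements of Sp_2m(F) normalising K form a maximal subgroup of Sp_2m(F). -/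
theorem result {F : Type*} [Field F] [Fintype F] (m : ℕ) (hm : 7 ≤ m) (hodd : Odd (Fintype.card F)) (K : Subalgebra F (Matrix (Fin m ⊕ Fin m) (Fin m ⊕ Fin m) F)) (hK : Cfsg.Geo.IsFieldSubalgebra 2 K) (hac : Cfsg.Geo.IsAdjointClosedFor (Cfsg.sympForm m F) K) (hnsa : ¬ Cfsg.Geo.IsSelfAdjointFor (Cfsg.sympForm m F) K) : Cfsg.Geo.IsMaximalIn (Cfsg.spGL m F) (Cfsg.Geo.subalgebraNormalizer K ⊓ Cfsg.spGL m F) :=
  base m (by omega) hodd K hK hac hnsa

end Cfsg.Agent.S5665
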