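import Cfsg.Statements.S5647
import Cfsg.Agent.Lib.MaxSub.Symp
import Cfsg.Agent.Lib.Geom.SympSpace

set_option autoImplicit false
set_option linter.unusedSectionVars false
open Cfsg

namespace Cfsg.Agent.S5647

open Matrix CfsgLib.MaxSub

variable {F : Type*} [Field F] [Fintype F] {m k t : ℕ}
  {D : Fin t → Submodule F (Fin m ⊕ Fin m → F)}

/-- The stabiliser of the decomposition in the symplectic group. -/
abbrev stabSp (D : Fin t → Submodule F (Fin m ⊕ Fin m → F)) : Subgroup (GL (Fin m ⊕ Fin m) F) :=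
  Cfsg.Geo.decompositionStabilizer D ⊓ Cfsg.spGL m F

theorem form_eq_bilin (u v : (Fin m ⊕ Fin m → F)) : Cfsg.sympForm m F u v = CfsgLib.Geom.sympBilin m F u v :=
  (CfsgLib.Geom.sympBilin_apply u v).symm

theorem form_zero_left (v : (Fin m ⊕ Fin m → F)) : Cfsg.sympForm m F 0 v = 0 := by
  rw [form_eq_bilin, map_zero, LinearMap.zero_apply]

theorem form_zero_right (v : (Fin m ⊕ Fin m → F)) : Cfsg.sympForm m F v 0 = 0 := by rw [form_eq_bilin, map_zero]

theorem form_sum_left {α : Type*} (s : Finset α) (c : α → (Fin m ⊕ Fin m → F)) (v : (Fin m ⊕ Fin m → F)) :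
    Cfsg.sympForm m F (∑ j ∈ s, c j) v = ∑ j ∈ s, Cfsg.sympForm m F (c j) v := by
  simp only [form_eq_bilin, map_sum, LinearMap.sum_apply]

theorem form_sum_right {α : Type*} (s : Finset α) (c : α → (Fin m ⊕ Fin m → F)) (v : (Fin m ⊕ Fin m → F)) :
    Cfsg.sympForm m F v (∑ j ∈ s, c j) = ∑ j ∈ s, Cfsg.sympForm m F v (c j) := by
  simp only [form_eq_bilin, map_sum]

section decomp

variable (hD : Cfsg.Geo.IsNondegenerateMDecomposition (Cfsg.sympForm m F) k D)
include hD

theorem exists_comps (v : (Fin m ⊕ Fin m → F)) : ∃ c : Fin t → (Fin m ⊕ Fin m → F), (∀ i, c i ∈ D i) ∧ ∑ i, c i = v := by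
  classical
  have hv : v ∈ ⨆ i, D i := by rw [hD.decomp.iSup_eq_top]; trivial
  obtain ⟨c, hc, hs⟩ := (Submodule.mem_iSup_iff_exists_finsupp D v).1 hv
  exact ⟨c, hc, by rw [← hs, Finsupp.sum_fintype _ _ (fun _ => rfl)]⟩

/-- The component of `v` in the `i`-th member. -/
noncomputable def comp (v : (Fin m ⊕ Fin m → F)) (i : Fin t) : (Fin m ⊕ Fin m → F) := (exists_comps hD v).choose i

theorem comp_mem (v : (Fin m ⊕ Fin m → F)) (i : Fin t) : comp hD v i ∈ D i := (exists_comps hD v).choose_spec.1 i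

theorem sum_comp (v : (Fin m ⊕ Fin m → F)) : ∑ i, comp hD v i = v := (exists_comps hD v).choose_spec.2

theorem form_sum_block {c : Fin t → (Fin m ⊕ Fin m → F)} (hc : ∀ i, c i ∈ D i) {i : Fin t} {x : (Fin m ⊕ Fin m → F)} (hx : x ∈ D i) :
    Cfsg.sympForm m F (∑ j, c j) x = Cfsg.sympForm m F (c i) x := by
  rw [form_sum_left, Finset.sum_eq_single i]
  · exact fun j _ hj => hD.orthogonal j i hj _ (hc j) _ hx
  · exact fun h => absurd (Finset.mem_univ i) h

theorem comp_eq {c : Fin t → (Fin m ⊕ Fin m → F)} {v : (Fin m ⊕ Fin m → F)} (hc : ∀ i, c i ∈ D i) (hs : ∑ i, c i = v) (i : Fin t) :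
    comp hD v i = c i := by
  by_contra hne
  have hne' : comp hD v i - c i ≠ 0 := sub_ne_zero.2 hne
  obtain ⟨x, hx, hfx⟩ := (hD.nondegenerate i _ (sub_mem (comp_mem hD v i) (hc i)) hne').2
  refine hfx ?_
  have h1 := form_sum_block hD (comp_mem hD v) hx
  have h2 := form_sum_block hD hc hx
  rw [sum_comp] at h1
  rw [hs] at h2
  rw [sub_eq_add_neg, sympForm_add_left, ← neg_one_smul F (c i), sympForm_smul_left, ← h1, ← h2]
  ring

theorem comp_add (u v : (Fin m ⊕ Fin m → F)) (i : Fin t) : comp hD (u + v) i = comp hD u i + comp hD v i :=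
  comp_eq hD (fun j => add_mem (comp_mem hD u j) (comp_mem hD v j))
    (by rw [Finset.sum_add_distrib, sum_comp, sum_comp]) i

theorem comp_smul (c : F) (v : (Fin m ⊕ Fin m → F)) (i : Fin t) : comp hD (c • v) i = c • comp hD v i :=
  comp_eq hD (fun j => Submodule.smul_mem _ c (comp_mem hD v j))
    (by rw [← Finset.smul_sum, sum_comp]) i

theorem comp_sub (u v : (Fin m ⊕ Fin m → F)) (i : Fin t) : comp hD (u - v) i = comp hD u i - comp hD v i := by
  rw [eq_sub_iff_add_eq, ← comp_add, sub_add_cancel]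

theorem comp_of_mem {v : (Fin m ⊕ Fin m → F)} {i : Fin t} (hv : v ∈ D i) (j : Fin t) :
    comp hD v j = if j = i then v else 0 := by
  refine comp_eq hD (c := fun j => if j = i then v else 0) (fun j => ?_) ?_ j
  · split_ifs with h
    · exact h ▸ hv
    · exact zero_mem _
  · simp

theorem form_eq_sum (u v : (Fin m ⊕ Fin m → F)) : Cfsg.sympForm m F u v = ∑ i, Cfsg.sympForm m F (comp hD u i) (comp hD v i) := by
  conv_lhs => rw [← sum_comp hD v]
  rw [form_sum_right]
  refine Finset.sum_congr rfl fun i _ => ?_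
  conv_lhs => rw [← sum_comp hD u]
  exact form_sum_block hD (comp_mem hD u) (comp_mem hD v i)

/-- The support of a vector. -/
noncomputable def supp (v : (Fin m ⊕ Fin m → F)) : Finset (Fin t) :=
  haveI := Classical.decEq (Fin m ⊕ Fin m → F)
  Finset.univ.filter fun i => comp hD v i ≠ 0

theorem mem_supp {v : (Fin m ⊕ Fin m → F)} {i : Fin t} : i ∈ supp hD v ↔ comp hD v i ≠ 0 := by
  simp [supp]

theorem supp_sum {S : Finset (Fin t)} {c : Fin t → (Fin m ⊕ Fin m → F)} (hc : ∀ j, c j ∈ D j)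
    (hS : ∀ j, c j ≠ 0 ↔ j ∈ S) : supp hD (∑ j, c j) = S := by
  ext j; rw [mem_supp, comp_eq hD hc rfl j, hS]

theorem mem_of_supp_subset {v : (Fin m ⊕ Fin m → F)} {i : Fin t} (h : supp hD v ⊆ {i}) : v ∈ D i := by
  rw [← sum_comp hD v, Finset.sum_eq_single i]
  · exact comp_mem hD v i
  · intro j _ hj
    by_contra h0
    exact hj (Finset.mem_singleton.1 (h ((mem_supp hD).2 h0)))
  · exact fun h => absurd (Finset.mem_univ i) h

theorem exists_nondeg (i : Fin t) {a : (Fin m ⊕ Fin m → F)} (ha : a ∈ D i) (h0 : a ≠ 0) :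
    ∃ y ∈ D i, Cfsg.sympForm m F a y = 1 := by
  obtain ⟨x, hx, hfx⟩ := (hD.nondegenerate i a ha h0).2
  exact ⟨(Cfsg.sympForm m F a x)⁻¹ • x, Submodule.smul_mem _ _ hx,
    by rw [sympForm_smul_right, inv_mul_cancel₀ hfx]⟩

theorem exists_nonzero (i : Fin t) : ∃ a ∈ D i, a ≠ 0 :=
  Submodule.exists_mem_ne_zero_of_ne_bot fun h => by
    have := hD.decomp.finrank_eq i
    rw [h, finrank_bot] at this
    have := hD.decomp.pos
    omega

theorem two_le_k : 2 ≤ k := by
  by_contra h
  have ht := hD.decomp.two_le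
  have hk : k = 1 := by have := hD.decomp.pos; omega
  let i : Fin t := ⟨0, by omega⟩
  obtain ⟨a, ha, h0⟩ := exists_nonzero hD i
  obtain ⟨x, hx, hfx⟩ := (hD.nondegenerate i a ha h0).2
  have h1 : Module.finrank F (D i) = 1 := by rw [hD.decomp.finrank_eq i, hk]
  obtain ⟨s, hs⟩ := exists_smul_eq_of_finrank_eq_one h1
    (x := ⟨a, ha⟩) (by simpa [Submodule.mk_eq_zero] using h0) ⟨x, hx⟩
  have hs' : s • a = x := congrArg Subtype.val hs
  rw [← hs', sympForm_smul_right, sympForm_self, mul_zero] at hfx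
  exact hfx rfl

theorem exists_orth_ne (hex : ¬ (k = 2 ∧ Fintype.card F = 2)) (i : Fin t) {u : (Fin m ⊕ Fin m → F)} (hu : u ∈ D i)
    (h0 : u ≠ 0) : ∃ y ∈ D i, y ≠ 0 ∧ u + y ≠ 0 ∧ Cfsg.sympForm m F u y = 0 := by
  classical
  by_cases hs : ∃ s : F, s ≠ 0 ∧ s ≠ -1
  · obtain ⟨s, hs0, hs1⟩ := hs
    refine ⟨s • u, Submodule.smul_mem _ _ hu, smul_ne_zero hs0 h0, fun h => hs1 ?_, ?_⟩
    · rw [← one_smul F u, smul_smul, mul_one, ← add_smul] at h
      rcases smul_eq_zero.1 h with h' | h'
      · exact (eq_neg_of_add_eq_zero_right h')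
      · exact absurd h' h0
    · rw [sympForm_smul_right, sympForm_self, mul_zero]
  push Not at hs
  have hq : Fintype.card F = 2 := by
    refine le_antisymm ?_ Fintype.one_lt_card
    calc Fintype.card F ≤ ({0, -1} : Finset F).card := Finset.card_le_card fun s _ => by
          by_cases h : s = 0
          · simp [h]
          · simp [hs s h]
      _ ≤ 2 := Finset.card_le_two
  have hk : 3 ≤ k := by have := two_le_k hD; omega
  let φ : D i →ₗ[F] F := (CfsgLib.Geom.sympBilin m F u).comp (D i).subtype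
  have hfk : k - 1 ≤ Module.finrank F (LinearMap.ker φ) := by
    have h1 := LinearMap.finrank_range_add_finrank_ker φ
    have h2 : Module.finrank F (LinearMap.range φ) ≤ 1 :=
      le_trans (Submodule.finrank_le _) (le_of_eq (Module.finrank_self F))
    rw [hD.decomp.finrank_eq i] at h1
    omega
  have hspan : ¬ (LinearMap.ker φ).map (D i).subtype ≤ Submodule.span F {u} := by
    intro hle
    have h1 := Submodule.finrank_mono hle
    rw [Submodule.finrank_map_subtype_eq, finrank_span_singleton h0] at h1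
    omega
  obtain ⟨y, hy, hyu⟩ := SetLike.not_le_iff_exists.1 hspan
  obtain ⟨z, hz, rfl⟩ := Submodule.mem_map.1 hy
  refine ⟨_, z.2, fun h => hyu ?_, fun h => hyu ?_, ?_⟩
  · rw [Submodule.subtype_apply, h]; exact zero_mem _
  · rw [Submodule.subtype_apply, eq_neg_of_add_eq_zero_right h]
    exact neg_mem (Submodule.mem_span_singleton_self u)
  · rw [form_eq_bilin]; exact hz

theorem mem_stab_of_maps {g : GL (Fin m ⊕ Fin m) F} (σ : Equiv.Perm (Fin t))
    (h : ∀ i, ∀ x ∈ D i, (g : Matrix (Fin m ⊕ Fin m) (Fin m ⊕ Fin m) F) *ᵥ x ∈ D (σ i)) :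
    g ∈ Cfsg.Geo.decompositionStabilizer D := by
  refine ⟨σ, fun i => Submodule.eq_of_le_of_finrank_le ?_ (le_of_eq ?_)⟩
  · rintro y ⟨x, hx, rfl⟩
    rw [Matrix.toLin'_apply]
    exact h i x hx
  · have hinj : Function.Injective (Matrix.toLin' (g : Matrix (Fin m ⊕ Fin m) (Fin m ⊕ Fin m) F)) := fun x y hxy => by
      have := congrArg (((g⁻¹ : GL (Fin m ⊕ Fin m) F) : Matrix (Fin m ⊕ Fin m) (Fin m ⊕ Fin m) F) *ᵥ ·) hxy
      simpa [Matrix.toLin'_apply, inv_mulVec_mulVec] using this
    rw [hD.decomp.finrank_eq,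
      (Submodule.equivMapOfInjective _ hinj (D i)).finrank_eq.symm, hD.decomp.finrank_eq]

theorem block_tv {i : Fin t} {v : (Fin m ⊕ Fin m → F)} (hv : v ∈ D i) (c : F) :
    tvGL v (c • (Matrix.J (Fin m) F *ᵥ v)) (spDual_smul_dot c v) ∈ stabSp D := by
  refine ⟨mem_stab_of_maps hD 1 fun j x hx => ?_, spTv_mem_spGL v c⟩
  rw [coe_tvGL, spTv_mulVec, Equiv.Perm.one_apply]
  by_cases hji : j = i
  · subst hji; exact add_mem hx (Submodule.smul_mem _ _ hv)
  · rw [hD.orthogonal j i hji x hx v hv, mul_zero, zero_smul, add_zero]; exact hx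

theorem block_step {i : Fin t} {a b : (Fin m ⊕ Fin m → F)} (ha : a ∈ D i) (hb : b ∈ D i) (hab : Cfsg.sympForm m F a b ≠ 0) :
    ∃ g ∈ stabSp D, (g : Matrix (Fin m ⊕ Fin m) (Fin m ⊕ Fin m) F) *ᵥ a = b ∧
      ∀ j, j ≠ i → ∀ x ∈ D j, (g : Matrix (Fin m ⊕ Fin m) (Fin m ⊕ Fin m) F) *ᵥ x = x := by
  refine ⟨_, block_tv hD (sub_mem hb ha) (Cfsg.sympForm m F a b)⁻¹, ?_, fun j hj x hx => ?_⟩
  · rw [coe_tvGL, spTv_mulVec]
    have h : Cfsg.sympForm m F a (b - a) = Cfsg.sympForm m F a b := by
      rw [form_eq_bilin, map_sub, ← form_eq_bilin, ← form_eq_bilin, sympForm_self, sub_zero]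
    rw [h, inv_mul_cancel₀ hab, one_smul, add_sub_cancel]
  · rw [coe_tvGL, spTv_mulVec, hD.orthogonal j i hj x hx _ (sub_mem hb ha), mul_zero, zero_smul,
      add_zero]

theorem block_trans {i : Fin t} {a b : (Fin m ⊕ Fin m → F)} (ha : a ∈ D i) (ha0 : a ≠ 0) (hb : b ∈ D i)
    (hb0 : b ≠ 0) : ∃ g ∈ stabSp D, (g : Matrix (Fin m ⊕ Fin m) (Fin m ⊕ Fin m) F) *ᵥ a = b ∧
      ∀ j, j ≠ i → ∀ x ∈ D j, (g : Matrix (Fin m ⊕ Fin m) (Fin m ⊕ Fin m) F) *ᵥ x = x := by
  by_cases hab : Cfsg.sympForm m F a b = 0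
  · obtain ⟨x, hx, hax⟩ := exists_nondeg hD i ha ha0
    obtain ⟨y, hy, hby⟩ := exists_nondeg hD i hb hb0
    obtain ⟨w, hw, haw, hbw⟩ : ∃ w ∈ D i, Cfsg.sympForm m F a w ≠ 0 ∧ Cfsg.sympForm m F b w ≠ 0 := by
      by_cases h1 : Cfsg.sympForm m F b x = 0
      · by_cases h2 : Cfsg.sympForm m F a y = 0
        · refine ⟨x + y, add_mem hx hy, ?_, ?_⟩
          · rw [sympForm_add_right, hax, h2, add_zero]; exact one_ne_zero
          · rw [sympForm_add_right, hby, h1, zero_add]; exact one_ne_zero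
        · exact ⟨y, hy, h2, by rw [hby]; exact one_ne_zero⟩
      · exact ⟨x, hx, by rw [hax]; exact one_ne_zero, h1⟩
    obtain ⟨g, hg, hga, hgf⟩ := block_step hD ha hw haw
    obtain ⟨g', hg', hga', hgf'⟩ := block_step hD hw hb (a := w) (b := b)
      (by rw [sympForm_swap b w]; exact neg_ne_zero.2 hbw)
    refine ⟨g' * g, mul_mem hg' hg, ?_, fun j hj z hz => ?_⟩
    · rw [Units.val_mul, ← mulVec_mulVec, hga, hga']
    · rw [Units.val_mul, ← mulVec_mulVec, hgf j hj z hz, hgf' j hj z hz]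
  · exact block_step hD ha hb hab

theorem exists_mixed {g : GL (Fin m ⊕ Fin m) F} (hg : g ∉ Cfsg.Geo.decompositionStabilizer D) :
    ∃ i, ∃ v ∈ D i, 2 ≤ (supp hD ((g : Matrix (Fin m ⊕ Fin m) (Fin m ⊕ Fin m) F) *ᵥ v)).card := by
  classical
  by_contra hcon
  push Not at hcon
  refine hg ?_
  have hinj : ∀ x : (Fin m ⊕ Fin m → F), (g : Matrix (Fin m ⊕ Fin m) (Fin m ⊕ Fin m) F) *ᵥ x = 0 → x = 0 := fun x hx => by
    have := congrArg (((g⁻¹ : GL (Fin m ⊕ Fin m) F) : Matrix (Fin m ⊕ Fin m) (Fin m ⊕ Fin m) F) *ᵥ ·) hx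
    simpa [inv_mulVec_mulVec] using this
  have hsingle : ∀ i, ∃ j, ∀ v ∈ D i, (g : Matrix (Fin m ⊕ Fin m) (Fin m ⊕ Fin m) F) *ᵥ v ∈ D j := by
    intro i
    obtain ⟨a, ha, ha0⟩ := exists_nonzero hD i
    obtain ⟨j, hj⟩ : ∃ j, comp hD ((g : Matrix (Fin m ⊕ Fin m) (Fin m ⊕ Fin m) F) *ᵥ a) j ≠ 0 := by
      by_contra h
      push Not at h
      refine ha0 (hinj a ?_)
      rw [← sum_comp hD ((g : Matrix (Fin m ⊕ Fin m) (Fin m ⊕ Fin m) F) *ᵥ a)]
      exact Finset.sum_eq_zero fun j _ => h j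
    refine ⟨j, fun v hv => mem_of_supp_subset hD fun l hl => Finset.mem_singleton.2 ?_⟩
    by_contra hlj
    rw [mem_supp] at hl
    by_cases hvj : comp hD ((g : Matrix (Fin m ⊕ Fin m) (Fin m ⊕ Fin m) F) *ᵥ v) j = 0
    · by_cases hal : comp hD ((g : Matrix (Fin m ⊕ Fin m) (Fin m ⊕ Fin m) F) *ᵥ a) l = 0
      · have h2 : 1 < (supp hD ((g : Matrix (Fin m ⊕ Fin m) (Fin m ⊕ Fin m) F) *ᵥ (a + v))).card := by
          refine Finset.one_lt_card.2 ⟨j, ?_, l, ?_, fun e => hlj e.symm⟩ <;>
            rw [mem_supp, mulVec_add, comp_add]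
          · rw [hvj, add_zero]; exact hj
          · rw [hal, zero_add]; exact hl
        have := hcon i (a + v) (add_mem ha hv)
        omega
      · have h2 : 1 < (supp hD ((g : Matrix (Fin m ⊕ Fin m) (Fin m ⊕ Fin m) F) *ᵥ a)).card :=
          Finset.one_lt_card.2 ⟨j, (mem_supp hD).2 hj, l, (mem_supp hD).2 hal, fun e => hlj e.symm⟩
        have := hcon i a ha
        omega
    · have h2 : 1 < (supp hD ((g : Matrix (Fin m ⊕ Fin m) (Fin m ⊕ Fin m) F) *ᵥ v)).card :=
        Finset.one_lt_card.2 ⟨j, (mem_supp hD).2 hvj, l, (mem_supp hD).2 hl, fun e => hlj e.symm⟩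
      have := hcon i v hv
      omega
  choose σ hσ using hsingle
  have hσsurj : Function.Surjective σ := by
    intro j
    by_contra hj
    push Not at hj
    obtain ⟨a, ha, ha0⟩ := exists_nonzero hD j
    set x := ((g⁻¹ : GL (Fin m ⊕ Fin m) F) : Matrix (Fin m ⊕ Fin m) (Fin m ⊕ Fin m) F) *ᵥ a with hx
    have h1 : comp hD ((g : Matrix (Fin m ⊕ Fin m) (Fin m ⊕ Fin m) F) *ᵥ x) j = a := by
      rw [hx, mulVec_mulVec_inv, comp_of_mem hD ha, if_pos rfl]
    refine ha0 ?_
    rw [← h1, ← sum_comp hD x, mulVec_sum]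
    have h2 : ∀ s : Finset (Fin t),
        comp hD (∑ i ∈ s, (g : Matrix (Fin m ⊕ Fin m) (Fin m ⊕ Fin m) F) *ᵥ comp hD x i) j = 0 := by
      intro s
      induction s using Finset.induction_on with
      | empty =>
        rw [Finset.sum_empty]
        have := comp_smul hD (0 : F) (0 : (Fin m ⊕ Fin m → F)) j
        simpa using this
      | insert i s hi ih =>
        rw [Finset.sum_insert hi, comp_add, ih, add_zero,
          comp_of_mem hD (hσ i _ (comp_mem hD x i)), if_neg (fun e => hj i e.symm)]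
    exact h2 _
  exact mem_stab_of_maps hD
    (Equiv.ofBijective σ ((Finite.surjective_iff_bijective).1 hσsurj)) hσ

theorem exists_swap (i j : Fin t) : ∃ g ∈ stabSp D, ∀ v : (Fin m ⊕ Fin m → F),
    supp hD ((g : Matrix (Fin m ⊕ Fin m) (Fin m ⊕ Fin m) F) *ᵥ v) = (supp hD v).map (Equiv.swap i j).toEmbedding := by
  classical
  let B (l : Fin t) : D l →ₗ[F] D l →ₗ[F] F :=
    (CfsgLib.Geom.sympBilin m F).compl₁₂ (D l).subtype (D l).subtype
  have hB : ∀ (l : Fin t) (x : D l), (∀ y, B l x y = 0) → x = 0 := fun l x hx => by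
    by_contra h0
    obtain ⟨y, hy, hxy⟩ := (hD.nondegenerate l x x.2 (by simpa using h0)).2
    exact hxy ((form_eq_bilin _ _).trans (hx ⟨y, hy⟩))
  have hA : ∀ (l : Fin t) (x : D l), B l x x = 0 := fun l x => CfsgLib.Geom.sympBilin_self (x : (Fin m ⊕ Fin m → F))
  obtain ⟨e, he⟩ := CfsgLib.Geom.exists_symp_isometry (F := F) k (B i) (B j) (hA i) (hB i) (hA j)
    (hB j) (hD.decomp.finrank_eq i) (hD.decomp.finrank_eq j)
  have he' : ∀ x y : D j, B i (e.symm x) (e.symm y) = B j x y := fun x y => by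
    rw [← he, e.apply_symm_apply, e.apply_symm_apply]
  let c : (Fin m ⊕ Fin m → F) → Fin t → (Fin m ⊕ Fin m → F) := fun v l =>
    if l = i then (e.symm ⟨comp hD v j, comp_mem hD v j⟩ : D i)
    else if l = j then (e ⟨comp hD v i, comp_mem hD v i⟩ : D j) else comp hD v l
  have hcm : ∀ v l, c v l ∈ D l := fun v l => by
    simp only [c]
    split_ifs with h1 h2
    · exact h1 ▸ (e.symm _).2
    · exact h2 ▸ (e _).2
    · exact comp_mem hD v l
  have hcadd : ∀ u v l, c (u + v) l = c u l + c v l := fun u v l => by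
    simp only [c]
    split_ifs
    · rw [← Submodule.coe_add, ← map_add]
      exact congrArg _ (congrArg _ (Subtype.ext (comp_add hD u v j)))
    · rw [← Submodule.coe_add, ← map_add]
      exact congrArg _ (congrArg _ (Subtype.ext (comp_add hD u v i)))
    · exact comp_add hD u v l
  have hcsmul : ∀ (s : F) v l, c (s • v) l = s • c v l := fun s v l => by
    simp only [c]
    split_ifs
    · rw [← Submodule.coe_smul, ← map_smul]
      exact congrArg _ (congrArg _ (Subtype.ext (comp_smul hD s v j)))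
    · rw [← Submodule.coe_smul, ← map_smul]
      exact congrArg _ (congrArg _ (Subtype.ext (comp_smul hD s v i)))
    · exact comp_smul hD s v l
  let h : (Fin m ⊕ Fin m → F) →ₗ[F] (Fin m ⊕ Fin m → F) :=
    { toFun := fun v => ∑ l, c v l
      map_add' := fun u v => by simp only [hcadd, Finset.sum_add_distrib]
      map_smul' := fun s v => by simp only [hcsmul, Finset.smul_sum, RingHom.id_apply] }
  have hcomp : ∀ v l, comp hD (h v) l = c v l := fun v l => comp_eq hD (hcm v) rfl l
  have hform : ∀ u v, Cfsg.sympForm m F (h u) (h v) = Cfsg.sympForm m F u v := by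
    intro u v
    rw [form_eq_sum hD, form_eq_sum hD u v]
    simp only [hcomp]
    rw [← Equiv.sum_comp (Equiv.swap i j) fun l => Cfsg.sympForm m F (comp hD u l) (comp hD v l)]
    refine Finset.sum_congr rfl fun l _ => ?_
    simp only [c]
    split_ifs with h1 h2
    · subst h1
      rw [Equiv.swap_apply_left, form_eq_bilin, form_eq_bilin]
      exact he' _ _
    · subst h2
      rw [Equiv.swap_apply_right, form_eq_bilin, form_eq_bilin]
      exact he _ _
    · rw [Equiv.swap_apply_of_ne_of_ne h1 h2]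
  have hhinj : Function.Injective h := by
    rw [injective_iff_map_eq_zero]
    intro x hx
    refine CfsgLib.Geom.sympBilin_sep x fun y => ?_
    rw [← form_eq_bilin, ← hform, hx, form_zero_left]
  let E : (Fin m ⊕ Fin m → F) ≃ₗ[F] (Fin m ⊕ Fin m → F) := LinearEquiv.ofBijective h
    ⟨hhinj, LinearMap.injective_iff_surjective.1 hhinj⟩
  let g : GL (Fin m ⊕ Fin m) F :=
    { val := LinearMap.toMatrix' (E : (Fin m ⊕ Fin m → F) →ₗ[F] (Fin m ⊕ Fin m → F))
      inv := LinearMap.toMatrix' (E.symm : (Fin m ⊕ Fin m → F) →ₗ[F] (Fin m ⊕ Fin m → F))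
      val_inv := by rw [← LinearMap.toMatrix'_comp]; simp
      inv_val := by rw [← LinearMap.toMatrix'_comp]; simp }
  have hgv : ∀ v, (g : Matrix (Fin m ⊕ Fin m) (Fin m ⊕ Fin m) F) *ᵥ v = h v := fun v => by
    rw [← Matrix.toLin'_apply]
    show Matrix.toLin' (LinearMap.toMatrix' (E : (Fin m ⊕ Fin m → F) →ₗ[F] (Fin m ⊕ Fin m → F))) v = _
    rw [Matrix.toLin'_toMatrix']
    rfl
  refine ⟨g, ⟨mem_stab_of_maps hD (Equiv.swap i j) fun l x hx => ?_, fun u v => ?_⟩, fun v => ?_⟩
  · rw [hgv]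
    refine mem_of_supp_subset hD fun l' hl' => Finset.mem_singleton.2 ?_
    rw [mem_supp, hcomp] at hl'
    by_contra hne
    apply hl'
    simp only [c]
    split_ifs with h1 h2
    · subst h1
      rw [show (⟨comp hD x j, comp_mem hD x j⟩ : D j) = 0 from Subtype.ext ?_]
      · simp
      · show comp hD x j = 0
        rw [comp_of_mem hD hx, if_neg]
        rintro rfl
        exact hne (Equiv.swap_apply_right _ _).symm
    · subst h2
      rw [show (⟨comp hD x i, comp_mem hD x i⟩ : D i) = 0 from Subtype.ext ?_]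
      · simp
      · show comp hD x i = 0
        rw [comp_of_mem hD hx, if_neg]
        rintro rfl
        exact hne (Equiv.swap_apply_left _ _).symm
    · rw [comp_of_mem hD hx, if_neg]
      rintro rfl
      exact hne (Equiv.swap_apply_of_ne_of_ne h1 h2).symm
  · show Cfsg.sympForm m F ((g : Matrix (Fin m ⊕ Fin m) (Fin m ⊕ Fin m) F) *ᵥ u) ((g : Matrix (Fin m ⊕ Fin m) (Fin m ⊕ Fin m) F) *ᵥ v) = _
    rw [hgv, hgv]; exact hform u v
  · ext l
    rw [hgv, mem_supp, hcomp, Finset.mem_map_equiv, Equiv.symm_swap, mem_supp]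
    simp only [c]
    split_ifs with h1 h2
    · subst h1
      rw [Equiv.swap_apply_left]
      simp [Submodule.mk_eq_zero]
    · subst h2
      rw [Equiv.swap_apply_right]
      simp [Submodule.mk_eq_zero]
    · rw [Equiv.swap_apply_of_ne_of_ne h1 h2]

end decomp

/-- All symplectic transvections with centre `v` lie in `M`. -/
def Good (M : Subgroup (GL (Fin m ⊕ Fin m) F)) (v : (Fin m ⊕ Fin m → F)) : Prop := ∀ c, HasSpTv M v c

variable {M : Subgroup (GL (Fin m ⊕ Fin m) F)}

theorem good_zero : Good M (0 : (Fin m ⊕ Fin m → F)) := fun _ => hasTv_zero_left _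

theorem Good.map {v : (Fin m ⊕ Fin m → F)} (h : Good M v) {g : GL (Fin m ⊕ Fin m) F} (hg : g ∈ M)
    (hgS : g ∈ Cfsg.spGL m F) : Good M ((g : Matrix (Fin m ⊕ Fin m) (Fin m ⊕ Fin m) F) *ᵥ v) := fun c => (h c).conj hg hgS

theorem Good.add_of_form {u v : (Fin m ⊕ Fin m → F)} (hu : Good M u) (hv : Good M v) (h : Cfsg.sympForm m F u v ≠ 0) :
    Good M (u + v) := by
  have h1 := hu.map ((hasSpTv_iff v (Cfsg.sympForm m F u v)⁻¹).1 (hv _)) (spTv_mem_spGL v _)
  rwa [coe_tvGL, spTv_mulVec, inv_mul_cancel₀ h, one_smul] at h1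

section main

variable (hD : Cfsg.Geo.IsNondegenerateMDecomposition (Cfsg.sympForm m F) k D) (hN : stabSp D ≤ M)
include hD hN

theorem good_block {i : Fin t} {v : (Fin m ⊕ Fin m → F)} (hv : v ∈ D i) : Good M v := fun c =>
  (hasSpTv_iff v c).2 (hN (block_tv hD hv c))

theorem good_of_same_supp {u v : (Fin m ⊕ Fin m → F)} (hu : Good M u) (h : supp hD v = supp hD u) : Good M v := by
  classical
  have key : ∀ s : Finset (Fin t),
      Good M (∑ j, if j ∈ s then comp hD v j else comp hD u j) := by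
    intro s
    induction s using Finset.induction_on with
    | empty => simpa [sum_comp] using hu
    | insert i s hi ih =>
      by_cases h0 : comp hD u i = 0
      · have h0' : comp hD v i = 0 := by
          by_contra hne
          have := (mem_supp hD).2 hne
          rw [h, mem_supp] at this
          exact this h0
        convert ih using 1
        refine Finset.sum_congr rfl fun j _ => ?_
        by_cases hj : j = i
        · subst hj; simp [hi, h0, h0']
        · simp [hj]
      · have h0' : comp hD v i ≠ 0 := by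
          have := (mem_supp hD).2 h0
          rw [← h, mem_supp] at this
          exact this
        obtain ⟨g, hg, hga, hgf⟩ :=
          block_trans hD (comp_mem hD u i) h0 (comp_mem hD v i) h0'
        have h1 := ih.map (hN hg) hg.2
        rw [mulVec_sum] at h1
        convert h1 using 1
        refine Finset.sum_congr rfl fun j _ => ?_
        by_cases hj : j = i
        · subst hj; simp [hi, hga]
        · rw [hgf j hj _ (by split_ifs <;> exact comp_mem hD _ j)]
          simp [hj]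
  have := key Finset.univ
  simpa [sum_comp] using this

theorem erase_supp (hex : ¬ (k = 2 ∧ Fintype.card F = 2)) {w : (Fin m ⊕ Fin m → F)} (hw : Good M w) {i j : Fin t}
    (hi : i ∈ supp hD w) (hj : j ∈ supp hD w) (hij : j ≠ i) :
    ∃ w' : (Fin m ⊕ Fin m → F), Good M w' ∧ supp hD w' = (supp hD w).erase i := by
  classical
  have hy : ∀ l, ∃ y ∈ D l, l ∈ supp hD w → y ≠ 0 ∧ comp hD w l + y ≠ 0 ∧
      Cfsg.sympForm m F (comp hD w l) y = 0 := fun l => by
    by_cases hl : l ∈ supp hD w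
    · obtain ⟨y, h1, h2⟩ := exists_orth_ne hD hex l (comp_mem hD w l) ((mem_supp hD).1 hl)
      exact ⟨y, h1, fun _ => h2⟩
    · exact ⟨0, zero_mem _, fun h => absurd h hl⟩
  choose y hy1 hy2 using hy
  obtain ⟨z, hz, hwz⟩ := exists_nondeg hD j (comp_mem hD w j) ((mem_supp hD).1 hj)
  let c : Fin t → (Fin m ⊕ Fin m → F) := fun l => if l = i then -comp hD w i else
    if l = j then z else if l ∈ supp hD w then y l else 0
  have hcm : ∀ l, c l ∈ D l := fun l => by
    simp only [c]
    split_ifs with h1 h2 h3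
    · subst h1; exact neg_mem (comp_mem hD w _)
    · exact h2 ▸ hz
    · exact hy1 l
    · exact zero_mem _
  have hz0 : z ≠ 0 := by rintro rfl; rw [form_zero_right] at hwz; exact zero_ne_one hwz
  have hz1 : comp hD w j + z ≠ 0 := fun h => by
    rw [eq_neg_of_add_eq_zero_right h, ← neg_one_smul F, sympForm_smul_right, sympForm_self,
      mul_zero] at hwz
    exact zero_ne_one hwz
  have hu : Good M (∑ l, c l) := good_of_same_supp hD hN hw (supp_sum hD hcm fun l => by
    simp only [c]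
    split_ifs with h1 h2 h3
    · subst h1; exact iff_of_true (neg_ne_zero.2 ((mem_supp hD).1 hi)) hi
    · exact iff_of_true hz0 (h2 ▸ hj)
    · exact iff_of_true (hy2 l h3).1 h3
    · exact iff_of_false (fun h => h rfl) h3)
  refine ⟨w + ∑ l, c l, hw.add_of_form hu ?_, ?_⟩
  · rw [form_eq_sum hD, Finset.sum_eq_single j]
    · rw [comp_eq hD hcm rfl]
      simp [c, hij, hwz]
    · intro l _ hlj
      rw [comp_eq hD hcm rfl]
      simp only [c]
      split_ifs with h1 h3
      · subst h1; rw [← neg_one_smul F, sympForm_smul_right, sympForm_self, mul_zero]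
      · exact (hy2 l h3).2.2
      · exact form_zero_right _
    · exact fun h => absurd (Finset.mem_univ j) h
  · ext l
    rw [mem_supp, comp_add, comp_eq hD hcm rfl, Finset.mem_erase, mem_supp]
    simp only [c]
    split_ifs with h1 h2 h3
    · subst h1; simp
    · subst h2; exact iff_of_true hz1 ⟨h1, (mem_supp hD).1 hj⟩
    · exact iff_of_true (hy2 l h3).2.1 ⟨h1, (mem_supp hD).1 h3⟩
    · rw [mem_supp, not_not] at h3; simp [h3]

theorem exists_pair (hex : ¬ (k = 2 ∧ Fintype.card F = 2)) :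
    ∀ (n : ℕ) {w : (Fin m ⊕ Fin m → F)}, Good M w → (supp hD w).card = n → 2 ≤ n →
      ∃ w', Good M w' ∧ (supp hD w').card = 2 := by
  classical
  intro n
  induction n using Nat.strong_induction_on with
  | _ n ih =>
    intro w hw hn h2
    rcases eq_or_lt_of_le h2 with h | h
    · exact ⟨w, hw, hn.trans h.symm⟩
    · obtain ⟨i, hi, j, hj, hij⟩ := Finset.one_lt_card.1 (show 1 < (supp hD w).card by omega)
      obtain ⟨w', hw', hs⟩ := erase_supp hD hN hex hw hi hj (Ne.symm hij)
      refine ih (n - 1) (by omega) hw' ?_ (by omega)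
      rw [hs, Finset.card_erase_of_mem hi, hn]

theorem good_swap {w : (Fin m ⊕ Fin m → F)} (hw : Good M w) (i j : Fin t) :
    ∃ w', Good M w' ∧ supp hD w' = (supp hD w).map (Equiv.swap i j).toEmbedding := by
  obtain ⟨g, hg, hgs⟩ := exists_swap hD i j
  exact ⟨_, hw.map (hN hg) hg.2, hgs w⟩

theorem good_all_pairs {w : (Fin m ⊕ Fin m → F)} (hw : Good M w) (hc : (supp hD w).card = 2) {v : (Fin m ⊕ Fin m → F)}
    (hv : (supp hD v).card = 2) : Good M v := by
  classical
  obtain ⟨a, b, hab, hs⟩ := Finset.card_eq_two.1 hc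
  obtain ⟨c, d, hcd, hvs⟩ := Finset.card_eq_two.1 hv
  obtain ⟨w1, hw1, hs1⟩ := good_swap hD hN hw a c
  have hs1' : supp hD w1 = {c, Equiv.swap a c b} := by
    rw [hs1, hs]; simp [Finset.map_insert]
  set b' := Equiv.swap a c b with hb'
  have hcb : b' ≠ c := by
    rw [hb', Ne, Equiv.apply_eq_iff_eq_symm_apply, Equiv.symm_swap, Equiv.swap_apply_right]
    exact hab.symm
  obtain ⟨w2, hw2, hs2⟩ := good_swap hD hN hw1 b' d
  refine good_of_same_supp hD hN hw2 ?_
  rw [hs2, hs1', hvs]
  simp [Finset.map_insert, Equiv.swap_apply_of_ne_of_ne hcb.symm hcd]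

theorem good_everything {w : (Fin m ⊕ Fin m → F)} (hw : Good M w) (hc : (supp hD w).card = 2) :
    ∀ (n : ℕ) (v : (Fin m ⊕ Fin m → F)), (supp hD v).card = n → Good M v := by
  classical
  intro n
  induction n using Nat.strong_induction_on with
  | _ n ih =>
    intro v hn
    rcases Nat.lt_or_ge n 2 with h2 | h2
    · rcases Nat.eq_zero_or_pos n with h0 | h0
      · have hv : v = 0 := by
          rw [← sum_comp hD v]
          refine Finset.sum_eq_zero fun l _ => ?_
          by_contra hne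
          have := Finset.card_pos.2 ⟨l, (mem_supp hD).2 hne⟩
          omega
        exact hv ▸ good_zero
      · obtain ⟨i, hi⟩ := Finset.card_eq_one.1 (show (supp hD v).card = 1 by omega)
        exact good_block hD hN (mem_of_supp_subset hD hi.subset)
    rcases eq_or_lt_of_le h2 with h | h
    · exact good_all_pairs hD hN hw hc (hn.trans h.symm)
    obtain ⟨a, ha, b, hb, hab⟩ := Finset.one_lt_card.1 (show 1 < (supp hD v).card by omega)
    obtain ⟨y, hy, hvy⟩ := exists_nondeg hD a (comp_mem hD v a) ((mem_supp hD).1 ha)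
    have hy0 : y ≠ 0 := by rintro rfl; rw [form_zero_right] at hvy; exact zero_ne_one hvy
    set u : (Fin m ⊕ Fin m → F) := y + comp hD v b with hu
    have hcu : ∀ l, comp hD u l =
        (if l = a then y else 0) + if l = b then comp hD v b else 0 := fun l => by
      rw [hu, comp_add, comp_of_mem hD hy, comp_of_mem hD (comp_mem hD v b)]
    have hus : (supp hD u).card = 2 := by
      rw [show supp hD u = {a, b} from ?_, Finset.card_pair hab]
      ext l
      rw [mem_supp, hcu, Finset.mem_insert, Finset.mem_singleton]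
      by_cases hla : l = a
      · subst hla; simp [hy0, hab]
      · by_cases hlb : l = b
        · subst hlb; simp [hla, (mem_supp hD).1 hb]
        · simp [hla, hlb]
    have hrest : Good M (v - u) := by
      refine ih _ ?_ (v - u) rfl
      rw [← hn]
      refine Finset.card_lt_card (Finset.ssubset_iff_of_subset ?_ |>.2 ⟨b, hb, ?_⟩)
      · intro l hl
        rw [mem_supp, comp_sub, hcu] at hl
        by_contra hlv
        rw [mem_supp, not_not] at hlv
        have hla : l ≠ a := by rintro rfl; exact (mem_supp hD).1 ha hlv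
        have hlb : l ≠ b := by rintro rfl; exact (mem_supp hD).1 hb hlv
        simp [hla, hlb, hlv] at hl
      · rw [mem_supp, comp_sub, hcu]
        simp [hab.symm]
    have := (good_all_pairs hD hN hw hc hus).add_of_form hrest ?_
    · rwa [add_sub_cancel] at this
    · rw [form_eq_bilin, map_sub, ← form_eq_bilin, ← form_eq_bilin, sympForm_self, sub_zero, hu,
        sympForm_add_left]
      have e1 : Cfsg.sympForm m F y v = -1 := by
        rw [sympForm_swap v y]
        have h := form_sum_block hD (comp_mem hD v) hy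
        rw [sum_comp] at h
        rw [h, hvy]
      have e2 : Cfsg.sympForm m F (comp hD v b) v = 0 := by
        rw [sympForm_swap v]
        have h := form_sum_block hD (comp_mem hD v) (comp_mem hD v b)
        rw [sum_comp] at h
        rw [h, sympForm_self, neg_zero]
      rw [e1, e2, add_zero]
      exact neg_ne_zero.2 one_ne_zero

end main

/-- For a finite field F with q elements and m ≥ 7, let D be a decomposition of F^(2m) into t ≥ 2 pairwise orthogonal subspaces of equal dimension k on each of which the standard alternating form is non-degenerate, spanning F^(2m). Unless k = 2 and q = 2, the elements of Sp_2m(F) permuting the members of D form a maximal subgroup of Sp_2m(F). -/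
theorem result {F : Type*} [Field F] [Fintype F] (m : ℕ) (hm : 7 ≤ m) {t : ℕ} (k : ℕ) (D : Fin t → Submodule F (Fin m ⊕ Fin m → F)) (hD : Cfsg.Geo.IsNondegenerateMDecomposition (Cfsg.sympForm m F) k D) (hex : ¬ (k = 2 ∧ Fintype.card F = 2)) : Cfsg.Geo.IsMaximalIn (Cfsg.spGL m F) (Cfsg.Geo.decompositionStabilizer D ⊓ Cfsg.spGL m F) := by
  classical
  refine isMaximalIn_of_lt (lt_of_le_of_ne inf_le_right fun he => ?_) fun M hN hM g hg hgN => ?_
  · have ht := hD.decomp.two_le
    let i : Fin t := ⟨0, by omega⟩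
    let j : Fin t := ⟨1, by omega⟩
    have hij : i ≠ j := fun h => by simp [i, j] at h
    obtain ⟨a, ha, ha0⟩ := exists_nonzero hD i
    obtain ⟨b, hb, hb0⟩ := exists_nonzero hD j
    obtain ⟨x, hx, hax⟩ := exists_nondeg hD i ha ha0
    have hT := spTv_mem_spGL (F := F) (a + b) 1
    rw [← he] at hT
    obtain ⟨σ, hσ⟩ := hT.1
    have hmem : tvMat (a + b) ((1 : F) • (Matrix.J (Fin m) F *ᵥ (a + b))) *ᵥ x ∈ D (σ i) := by
      rw [← hσ i]
      exact ⟨x, hx, by rw [Matrix.toLin'_apply]; rfl⟩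
    have hxa : Cfsg.sympForm m F x (a + b) = -1 := by
      rw [sympForm_add_right, sympForm_swap a x, hax, hD.orthogonal i j hij x hx b hb, add_zero]
    rw [spTv_mulVec, hxa, one_mul, neg_one_smul] at hmem
    have h1 := comp_of_mem hD hmem i
    have h2 := comp_of_mem hD hmem j
    have hn : -(a + b) = (-1 : F) • (a + b) := by rw [neg_one_smul]
    rw [hn, comp_add, comp_smul, comp_add, comp_of_mem hD hx, comp_of_mem hD ha,
      comp_of_mem hD hb] at h1 h2
    simp only [if_neg hij, if_neg hij.symm, if_pos, add_zero, zero_add, if_true] at h1 h2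
    by_cases hσi : i = σ i
    · rw [if_neg (fun e => hij (hσi.trans e.symm))] at h2
      simp [hb0] at h2
    · rw [if_neg hσi, neg_one_smul, ← sub_eq_add_neg, sub_eq_zero] at h1
      rw [h1, sympForm_self] at hax
      exact zero_ne_one hax
  · have hgS : g ∈ Cfsg.spGL m F := hM hg
    obtain ⟨i, v, hv, hc⟩ := exists_mixed hD fun h => hgN ⟨h, hgS⟩
    obtain ⟨w, hw, hw2⟩ := exists_pair hD hN hex _ ((good_block hD hN hv).map hg hgS) rfl hc
    exact spGL_le_of_hasSpTv fun u c _ => good_everything hD hN hw hw2 _ u rfl c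

end Cfsg.Agent.S5647
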