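import Cfsg.Statements.S5652
import Cfsg.Agent.Lib.MaxSub.Symp

set_option autoImplicit false
open Cfsg

namespace Cfsg.Agent.S5652

open Matrix CfsgLib.MaxSub

variable {F : Type*} [Field F] [Fintype F] {m : ℕ} {Q : (Fin m ⊕ Fin m → F) → F}

local notation "𝕍" => (Fin m ⊕ Fin m → F)

/-- Hypotheses on the quadratic form. -/
structure Good (Q : 𝕍 → F) : Prop where
  smul : ∀ (c : F) (v : 𝕍), Q (c • v) = c ^ 2 * Q v
  add : ∀ u v, Q (u + v) = Q u + Q v + Cfsg.sympForm m F u v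
  two : (2 : F) = 0

variable (G : Good Q)
include G

theorem neg_eq (x : F) : -x = x := by linear_combination (-x) * G.two

theorem add_smul (v x : 𝕍) (t : F) :
    Q (v + t • x) = Q v + t ^ 2 * Q x + t * Cfsg.sympForm m F v x := by
  rw [G.add, G.smul, sympForm_smul_right]

theorem exists_singular (hm : 2 ≤ m) : ∃ u : 𝕍, u ≠ 0 ∧ Q u = 0 := by
  classical
  let v : 𝕍 := Pi.single (Sum.inl ⟨0, by omega⟩) 1
  let w : 𝕍 := Pi.single (Sum.inl ⟨1, by omega⟩) 1
  have hvw : Cfsg.sympForm m F v w = 0 := by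
    simp [CfsgLib.Geom.sympForm_eq_sum, v, w, Pi.single_apply]
  by_cases hw : Q w = 0
  · exact ⟨w, by simp [w], hw⟩
  · haveI : CharP F 2 := CharTwo.of_one_ne_zero_of_two_eq_zero one_ne_zero G.two
    obtain ⟨s, hs⟩ := FiniteField.isSquare_of_char_two (ringChar.eq F 2) (Q v / Q w)
    refine ⟨v + s • w, fun h => ?_, ?_⟩
    · have h0 := congrFun h (Sum.inl ⟨0, by omega⟩)
      simp [v, w, Pi.single_apply, Fin.ext_iff] at h0
    · rw [add_smul G, hvw, mul_zero, add_zero, sq, ← hs, div_mul_cancel₀ _ hw]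
      linear_combination Q v * G.two

theorem adjust {u y : 𝕍} (hu : Q u = 0) (h : Cfsg.sympForm m F y u ≠ 0) :
    ∃ t : F, Q (y + t • u) = 0 :=
  ⟨-(Q y / Cfsg.sympForm m F y u), by rw [add_smul G, hu]; field_simp; ring⟩

theorem exists_singular_pair {u x : 𝕍} (hu : Q u = 0) (hu0 : u ≠ 0) (hx : x ≠ 0)
    (h : Cfsg.sympForm m F u x = 0) :
    ∃ y, Q y = 0 ∧ Cfsg.sympForm m F y u ≠ 0 ∧ Cfsg.sympForm m F y x ≠ 0 := by
  obtain ⟨y, hy1, hy2⟩ := exists_dot_ne_ne (spDual_ne_zero hu0) (spDual_ne_zero hx)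
  rw [spDual_dot] at hy1 hy2
  obtain ⟨t, ht⟩ := adjust G hu hy1
  refine ⟨_, ht, ?_, ?_⟩
  · rwa [sympForm_add_left, sympForm_smul_left, sympForm_self, mul_zero, add_zero]
  · rwa [sympForm_add_left, sympForm_smul_left, h, mul_zero, add_zero]

theorem orth_mem (v : 𝕍) (hv : Q v ≠ 0) :
    tvGL v ((Q v)⁻¹ • (Matrix.J (Fin m) F *ᵥ v)) (spDual_smul_dot _ v) ∈
      Cfsg.Geo.quadSimilarityGroup Q ⊓ Cfsg.spGL m F := by
  refine ⟨⟨1, fun x => ?_⟩, spTv_mem_spGL _ _⟩
  simp only [coe_tvGL, spTv_mulVec, add_smul G, Units.val_one, one_mul]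
  field_simp
  linear_combination (Cfsg.sympForm m F x v ^ 2) * G.two

variable {M : Subgroup (GL (Fin m ⊕ Fin m) F)}
  (hM : Cfsg.Geo.quadSimilarityGroup Q ⊓ Cfsg.spGL m F ≤ M)
include hM

theorem orth_hasSpTv (v : 𝕍) (hv : Q v ≠ 0) : HasSpTv M v (Q v)⁻¹ :=
  (hasSpTv_iff _ _).2 (hM (orth_mem G v hv))

theorem move {u u' : 𝕍} (hu : Q u = 0) (hu' : Q u' = 0) (h : Cfsg.sympForm m F u u' ≠ 0)
    {c : F} (hc : HasSpTv M u c) : HasSpTv M u' c := by
  have hw : Q (u + u') = Cfsg.sympForm m F u u' := by rw [G.add, hu, hu', zero_add, zero_add]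
  have hmem := orth_mem G (u + u') (by rw [hw]; exact h)
  have := hc.conj (hM hmem) hmem.2
  rw [coe_tvGL, spTv_mulVec, hw, sympForm_add_right, sympForm_self, zero_add,
    inv_mul_cancel₀ h, one_smul] at this
  convert this using 1
  funext i
  simp only [Pi.add_apply]
  linear_combination (-u i) * G.two

theorem move' {u u' : 𝕍} (hu : Q u = 0) (hu' : Q u' = 0) (hu0 : u ≠ 0) (hu0' : u' ≠ 0)
    {c : F} (hc : HasSpTv M u c) : HasSpTv M u' c := by
  by_cases h : Cfsg.sympForm m F u u' = 0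
  · obtain ⟨y, hy, h1, h2⟩ := exists_singular_pair G hu hu0 hu0' h
    exact move G hM hy hu' h2
      (move G hM hu hy (by rw [sympForm_swap, neg_eq G]; exact h1) hc)
  · exact move G hM hu hu' h hc

theorem key (hM2 : M ≤ Cfsg.spGL m F) (hm : 2 ≤ m) (g : GL (Fin m ⊕ Fin m) F) (hg : g ∈ M)
    (hgQ : g ∉ Cfsg.Geo.quadSimilarityGroup Q) : Cfsg.spGL m F ≤ M := by
  -- a transvection with singular centre
  obtain ⟨u, c₀, hu0, hu, hc₀, hT⟩ :
      ∃ u c, u ≠ 0 ∧ Q u = 0 ∧ c ≠ 0 ∧ HasSpTv M u c := by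
    suffices h : ∃ h ∈ M, ∃ v : 𝕍, Q v ≠ 0 ∧ Q ((h : Matrix _ _ F) *ᵥ v) = 0 by
      obtain ⟨h, hh, v, hv, hv'⟩ := h
      refine ⟨(h : Matrix (Fin m ⊕ Fin m) (Fin m ⊕ Fin m) F) *ᵥ v, _, fun h0 => hv ?_, hv', inv_ne_zero hv,
        (orth_hasSpTv G hM v hv).conj hh (hM2 hh)⟩
      have := congrArg (((h⁻¹ : GL (Fin m ⊕ Fin m) F) : Matrix (Fin m ⊕ Fin m) (Fin m ⊕ Fin m) F) *ᵥ ·) h0
      rw [inv_mulVec_mulVec, mulVec_zero] at this
      rw [this, ← zero_smul F (0 : 𝕍), G.smul]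
      ring
    by_contra hno
    push Not at hno
    have hsing : ∀ v, Q v = 0 → Q ((g : Matrix _ _ F) *ᵥ v) = 0 := by
      intro v hv
      by_contra h
      have := hno g⁻¹ (inv_mem hg) _ h
      rw [inv_mulVec_mulVec] at this
      exact this hv
    have hadd : ∀ x y, Q ((g : Matrix _ _ F) *ᵥ (x + y)) - Q (x + y) =
        (Q ((g : Matrix _ _ F) *ᵥ x) - Q x) + (Q ((g : Matrix _ _ F) *ᵥ y) - Q y) := by
      intro x y
      have := hM2 hg x y
      simp only [Units.coeHom_apply] at this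
      rw [mulVec_add, G.add, G.add, this]
      ring
    obtain ⟨u, hu0, hu⟩ := exists_singular G hm
    have h1 : ∀ x, Cfsg.sympForm m F x u ≠ 0 → Q ((g : Matrix _ _ F) *ᵥ x) - Q x = 0 := by
      intro x hx
      obtain ⟨t, ht⟩ := adjust G hu hx
      have := hadd (x + t • u) ((-t) • u)
      have htu : ∀ s : F, Q (s • u) = 0 := fun s => by rw [G.smul, hu, mul_zero]
      rw [ht, hsing _ ht, htu, hsing _ (htu _), neg_smul, add_neg_cancel_right] at this
      simpa using this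
    refine hgQ ⟨1, fun x => ?_⟩
    rw [Units.val_one, one_mul, ← sub_eq_zero]
    by_cases hx : Cfsg.sympForm m F x u = 0
    · obtain ⟨y, hy⟩ := exists_dot_ne (spDual_ne_zero hu0)
      rw [spDual_dot] at hy
      have h2 := h1 (x + y) (by rw [sympForm_add_left, hx, hy, zero_add]; exact one_ne_zero)
      rw [hadd, h1 y (by rw [hy]; exact one_ne_zero), add_zero] at h2
      exact h2
    · exact h1 x hx
  haveI : CharP F 2 := CharTwo.of_one_ne_zero_of_two_eq_zero one_ne_zero G.two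
  have hsing : ∀ (u' : 𝕍) (c : F), u' ≠ 0 → Q u' = 0 → HasSpTv M u' c := by
    intro u' c hu' hQu'
    rcases eq_or_ne c 0 with rfl | hc
    · exact hasSpTv_zero _
    obtain ⟨s, hs⟩ := FiniteField.isSquare_of_char_two (ringChar.eq F 2) (c / c₀)
    have hs0 : s ≠ 0 := by
      rintro rfl
      rw [mul_zero, div_eq_zero_iff] at hs
      tauto
    have := move' G hM hu (by rw [G.smul, hQu', mul_zero]) hu0
      (smul_ne_zero hs0 hu') hT
    rw [hasSpTv_smul hs0, mul_assoc, ← hs, mul_div_cancel₀ _ hc₀] at this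
    exact this
  refine spGL_le_of_hasSpTv fun v c hv => ?_
  by_cases hQv : Q v = 0
  · exact hsing v c hv hQv
  obtain ⟨x, hx, hvx⟩ : ∃ x, Q x = 0 ∧ Cfsg.sympForm m F v x ≠ 0 := by
    by_contra hno
    push Not at hno
    obtain ⟨y, hy, -, h2⟩ := exists_singular_pair G hu hu0 hv
      (by rw [sympForm_swap, hno u hu, neg_zero])
    exact h2 (by rw [sympForm_swap, hno y hy, neg_zero])
  set f := Cfsg.sympForm m F v x with hf
  have hx0 : x ≠ 0 := by
    rintro rfl
    exact hvx (by simp [hf, Cfsg.sympForm])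
  set l := Q v / f with hl
  have hlf : l * f = Q v := div_mul_cancel₀ _ hvx
  have hsx : Q (v + l • x) = 0 := by
    rw [add_smul G, hx, ← hf]
    linear_combination hlf + Q v * G.two
  have hne : v + l • x ≠ 0 := by
    intro h0
    apply hQv
    rw [eq_neg_of_add_eq_zero_left h0, ← neg_smul, G.smul, hx, mul_zero]
  have hb := hsing x (l / f) hx0 hx
  have hmem := (hasSpTv_iff _ _).1 hb
  have := (hsing _ c hne hsx).conj hmem (spTv_mem_spGL _ _)
  rw [coe_tvGL, spTv_mulVec, sympForm_add_left, sympForm_smul_left, sympForm_self, mul_zero,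
    add_zero, ← hf, div_mul_cancel₀ _ hvx] at this
  convert this using 1
  funext i
  simp only [Pi.add_apply, Pi.smul_apply, smul_eq_mul]
  linear_combination (-(l * x i)) * G.two

omit G hM

/-- For a finite field F of characteristic two and m ≥ 7, let Q be a non-degenerate quadratic form on F^(2m) whose polar form is the standard alternating form. Then the elements of Sp_2m(F) that are similarities of Q (they are exactly the isometries of Q) form a maximal subgroup of Sp_2m(F). -/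
theorem result {F : Type*} [Field F] [Fintype F] (m : ℕ) (hm : 7 ≤ m) (heven : ¬ Odd (Fintype.card F)) (Q : (Fin m ⊕ Fin m → F) → F) (hQ : Cfsg.Geo.IsNondegenerateQuadraticForm Q) (hpol : ∀ u v, QuadraticMap.polar Q u v = Cfsg.sympForm m F u v) : Cfsg.Geo.IsMaximalIn (Cfsg.spGL m F) (Cfsg.Geo.quadSimilarityGroup Q ⊓ Cfsg.spGL m F) := by
  have hchar : ringChar F = 2 := by
    by_contra h
    exact heven (Nat.odd_iff.2 (FiniteField.odd_card_of_char_ne_two h))
  have G : Good Q :=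
    { smul := hQ.smul
      add := fun u v => by rw [← hpol u v]; simp only [QuadraticMap.polar]; ring
      two := by
        haveI := ringChar.of_eq hchar
        exact CharTwo.two_eq_zero }
  refine isMaximalIn_of_lt (lt_of_le_of_ne inf_le_right fun heq => ?_) fun M hM1 hM2 g hg hgH =>
    key G hM1 hM2 (by omega) g hg fun hgQ => hgH ⟨hgQ, hM2 hg⟩
  obtain ⟨u, hu0, hu⟩ := exists_singular G (by omega)
  have hT := spTv_mem_spGL u (1 : F)
  rw [← heq] at hT
  obtain ⟨⟨c, hc⟩, -⟩ := hT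
  obtain ⟨x, hx⟩ := exists_dot_ne (spDual_ne_zero hu0)
  rw [spDual_dot] at hx
  obtain ⟨t, ht⟩ := adjust G hu (y := x) (by rw [hx]; exact one_ne_zero)
  have := hc (x + t • u)
  simp only [coe_tvGL, spTv_mulVec, sympForm_add_left, sympForm_smul_left, sympForm_self, mul_zero,
    add_zero, hx, one_mul] at this
  rw [one_smul, G.add, ht, hu, sympForm_add_left, sympForm_smul_left, hx, sympForm_self] at this
  simp at this

end Cfsg.Agent.S5652
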