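import Cfsg.Statements.S5653
import Cfsg.Agent.Lib.MaxSub.HermPerp
-- import your own Cfsg.Agent.* helpers here

set_option autoImplicit false
open Cfsg

namespace Cfsg.Agent.S5653

/-- the statement down to dimension 4 -/
theorem base_four {F : Type*} [Field F] [Fintype F] (n q : ℕ) (hF : Fintype.card F = q ^ 2) (hn : 4 ≤ n) (W : Submodule F (Fin n → F)) (hW0 : W ≠ ⊥) (hW : Cfsg.Geo.IsTotallySingularFor (Cfsg.hermForm n F q) W) : Cfsg.Geo.IsMaximalIn (Cfsg.GU n F q ⊓ Cfsg.Geo.specialLinear (Fin n) F) (Cfsg.Geo.subspaceStabilizer W ⊓ (Cfsg.GU n F q ⊓ Cfsg.Geo.specialLinear (Fin n) F)) := by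
  open Matrix CfsgLib.MaxSub in
  have hf : Cfsg.Geo.IsUnitaryForm (qConj hF) (Cfsg.hermForm n F q) := isUnitaryForm_hermForm hF n
  let P := hPerp hf W
  have hWP : W ≤ P := fun x hx w hw => hW x hx w hw
  obtain ⟨w₀, hw₀, hw₀0⟩ := W.exists_mem_ne_zero_of_ne_bot hW0
  obtain ⟨c₀, hc₀, hc₀'⟩ := exists_trace_zero hf
  have hd : ∀ z, Cfsg.hermForm n F q z z = 0 → ∀ c : F,
      (c • hDual (Cfsg.hermForm n F q) z) ⬝ᵥ z = 0 := fun z hz c => by
    rw [smul_dotProduct, hDual_dot hf, hz, smul_zero]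
  refine isMaximalIn_of_lt (lt_of_le_of_ne inf_le_right fun he => ?_) fun M hM hMS g hg hgH => ?_
  · obtain ⟨⟨y, hy⟩, -⟩ := hf.nondegenerate w₀ hw₀0
    obtain ⟨t, ht⟩ := exists_shift hf (hW w₀ hw₀ w₀ hw₀) hy
    have hmem := uTv_mem_su hF ht hc₀' (hd _ ht c₀)
    rw [← he] at hmem
    have := maps_of_mem_subspaceStabilizer hmem.1 hw₀
    have hne : Cfsg.hermForm n F q w₀ (y + t • w₀) ≠ 0 := by
      rw [herm_add_right hf, herm_smul_right hf, hW w₀ hw₀ w₀ hw₀, mul_zero, add_zero]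
      exact fun e => hy (herm_eq_zero_comm hf e)
    rw [coe_tvGL, uTv_mulVec hf, Submodule.add_mem_iff_right _ hw₀,
      W.smul_mem_iff (mul_ne_zero hc₀ hne), Submodule.add_mem_iff_left _ (W.smul_mem _ hw₀)] at this
    exact hy (hW y this w₀ hw₀)
  · have hiso : ∀ h ∈ M, ∀ a b, Cfsg.hermForm n F q ((h : Matrix (Fin n) (Fin n) F) *ᵥ a)
        ((h : Matrix (Fin n) (Fin n) F) *ᵥ b) = Cfsg.hermForm n F q a b := fun h hh a b => (hMS hh).1 a b
    have hbase : ∀ z ∈ P, Cfsg.hermForm n F q z z = 0 →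
        UFull (qConj hF) (Cfsg.hermForm n F q) M z := fun z hz hzz =>
      ⟨hzz, fun c hc => (hasTv_iff (hd z hzz c)).2 (hM ⟨mem_subspaceStabilizer_of_maps fun x hx => by
        rw [coe_tvGL, uTv_mulVec hf, hPerp_comm hf hz hx, mul_zero, zero_smul, add_zero]; exact hx,
        uTv_mem_su hF hzz hc _⟩)⟩
    obtain ⟨x₀, hx₀, hx₀P⟩ : ∃ x₀, UFull (qConj hF) (Cfsg.hermForm n F q) M x₀ ∧ x₀ ∉ P := by
      by_contra hno
      push Not at hno
      have hP : ∀ z ∈ P, Cfsg.hermForm n F q z z = 0 → (g : Matrix (Fin n) (Fin n) F) *ᵥ z ∈ P :=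
        fun z hz hzz => hno _ ((hbase z hz hzz).conj hf hg (hiso g hg))
      apply hgH
      refine ⟨?_, hMS hg⟩
      by_cases hex : ∃ s ∈ P, Cfsg.hermForm n F q s s = 0 ∧ ∃ z₀ ∈ P, Cfsg.hermForm n F q z₀ s ≠ 0
      · obtain ⟨s, hs, hss, z₀, hz₀, hne⟩ := hex
        exact mem_of_map_hPerp hf (hiso g hg)
          (le_of_isotropic_sep hf (S := P.comap (Matrix.toLin' (g : Matrix (Fin n) (Fin n) F))) hs hss hz₀ hne
            fun x hx hxx => hP x hx hxx)
      · push Not at hex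
        refine mem_subspaceStabilizer_of_maps fun w hw => ?_
        by_contra hgw
        obtain ⟨y, hy, hne⟩ := exists_hPerp_of_notMem hf hgw
        exact hne (herm_eq_zero_comm hf (hex _ (hP w (hWP hw) (hW w hw w hw))
          (by rw [hiso g hg]; exact hW w hw w hw) y hy))
    obtain ⟨w₁, hw₁, hw₁x⟩ : ∃ w ∈ W, Cfsg.hermForm n F q x₀ w ≠ 0 := by
      simpa [P, mem_hPerp] using hx₀P
    refine su_le_of_uFull hF (by omega) fun x hxx => ?_
    by_cases hxP : x ∈ P
    · exact hbase x hxP hxx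
    obtain ⟨w₂, hw₂, hw₂x⟩ : ∃ w ∈ W, Cfsg.hermForm n F q x w ≠ 0 := by
      simpa [P, mem_hPerp] using hxP
    obtain ⟨w, hw, ha, hb⟩ : ∃ w ∈ W, Cfsg.hermForm n F q x₀ w ≠ 0 ∧ Cfsg.hermForm n F q x w ≠ 0 := by
      by_cases h : Cfsg.hermForm n F q x w₁ = 0
      · by_cases h' : Cfsg.hermForm n F q x₀ w₂ = 0
        · exact ⟨w₁ + w₂, add_mem hw₁ hw₂, by rw [herm_add_right hf, h', add_zero]; exact hw₁x,
            by rw [herm_add_right hf, h, zero_add]; exact hw₂x⟩
        · exact ⟨w₂, hw₂, h', hw₂x⟩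
      · exact ⟨w₁, hw₁, hw₁x, h⟩
    set c := Cfsg.hermForm n F q x w with hc
    set x₁ := (c / Cfsg.hermForm n F q x₀ w) • x₀ with hx₁
    have hx₁w : Cfsg.hermForm n F q x₁ w = c := by rw [hx₁, hf.smul_left, div_mul_cancel₀ _ ha]
    set y := c⁻¹ • (x₁ - x) with hy
    have hyw : Cfsg.hermForm n F q y w = 0 := by
      rw [hy, sub_eq_add_neg, ← neg_one_smul F x, hf.smul_left, hf.add_left, hx₁w, hf.smul_left, ← hc]
      ring
    have hwy := herm_eq_zero_comm hf hyw
    obtain ⟨k, hk⟩ := exists_trace_eq hf (a := -Cfsg.hermForm n F q y y) (by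
      rw [map_neg, herm_self_fixed hf])
    have hww := hW w hw w hw
    have hE : hEich hf w y k hww hwy ∈ Cfsg.Geo.subspaceStabilizer W ⊓
        (Cfsg.GU n F q ⊓ Cfsg.Geo.specialLinear (Fin n) F) :=
      ⟨mem_subspaceStabilizer_of_maps fun u hu => by
        rw [hEich_mulVec hf, hW u hu w hw, neg_zero, zero_smul, add_zero]
        exact add_mem hu (W.smul_mem _ hw),
        fun a b => hEich_isometry hf w y k hww hwy hk a b, hEich_mem_specialLinear hf _ _ _ _ _⟩
    have h1 := (hx₀.smul hf (c / Cfsg.hermForm n F q x₀ w)).conj hf (hM hE) (hiso _ (hM hE))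
    rw [← hx₁, hEich_mulVec hf, hx₁w] at h1
    set s := Cfsg.hermForm n F q x₁ y + k * c
    have h1' : x₁ + s • w + -c • y = x + s • w := by
      rw [hy, smul_smul, neg_mul, mul_inv_cancel₀ hb]; module
    rw [h1'] at h1
    rcases eq_or_ne s 0 with hs | hs
    · rwa [hs, zero_smul, add_zero] at h1
    have h2 : UFull (qConj hF) (Cfsg.hermForm n F q) M (x + s • w + (-s) • w) :=
      h1.add hf ((hbase w (hWP hw) hww).smul hf (-s))
      (by
        rw [herm_smul_right hf, hf.add_left, hf.smul_left, hww, mul_zero, add_zero, map_neg]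
        exact mul_ne_zero (neg_ne_zero.2 ((map_ne_zero_iff _ (qConj hF).injective).2 hs)) hb)
      (by rw [neg_smul, add_neg_cancel_right]; exact hxx)
    rwa [neg_smul, add_neg_cancel_right] at h2

/-- the statement down to dimension 6 -/
theorem base {F : Type*} [Field F] [Fintype F] (n q : ℕ) (hF : Fintype.card F = q ^ 2) (hn : 6 ≤ n) (W : Submodule F (Fin n → F)) (hW0 : W ≠ ⊥) (hW : Cfsg.Geo.IsTotallySingularFor (Cfsg.hermForm n F q) W) : Cfsg.Geo.IsMaximalIn (Cfsg.GU n F q ⊓ Cfsg.Geo.specialLinear (Fin n) F) (Cfsg.Geo.subspaceStabilizer W ⊓ (Cfsg.GU n F q ⊓ Cfsg.Geo.specialLinear (Fin n) F)) :=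
  base_four n q hF (le_trans (by norm_num) hn) W hW0 hW

/-- Let F be the field with q² elements and n ≥ 13, and let SU_n(q) be the group of matrices of determinant one preserving the standard unitary form Σ u_i v_i^q on F^n (the intersection of the unitary group GU_n with the kernel of the determinant). The elements of SU_n(q) stabilising a non-zero subspace on which the form vanishes identically form a maximal subgroup of SU_n(q). -/
theorem result {F : Type*} [Field F] [Fintype F] (n q : ℕ) (hF : Fintype.card F = q ^ 2) (hn : 13 ≤ n) (W : Submodule F (Fin n → F)) (hW0 : W ≠ ⊥) (hW : Cfsg.Geo.IsTotallySingularFor (Cfsg.hermForm n F q) W) : Cfsg.Geo.IsMaximalIn (Cfsg.GU n F q ⊓ Cfsg.Geo.specialLinear (Fin n) F) (Cfsg.Geo.subspaceStabilizer W ⊓ (Cfsg.GU n F q ⊓ Cfsg.Geo.specialLinear (Fin n) F)) :=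
  base n q hF (by omega) W hW0 hW

end Cfsg.Agent.S5653
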