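import Cfsg.Statements.S5654
import Cfsg.Agent.Lib.MaxSub.HermPerp
-- import your own Cfsg.Agent.* helpers here

set_option autoImplicit false
open Cfsg

namespace Cfsg.Agent.S5654

open Matrix CfsgLib.MaxSub

section
variable {F : Type*} [Field F] [Finite F] {n : ℕ} {σ : F ≃+* F} {f : (Fin n → F) → (Fin n → F) → F}
  (hf : Cfsg.Geo.IsUnitaryForm σ f)
include hf

theorem finrank_hPerp_add_le (K : Submodule F (Fin n → F)) :
    Module.finrank F (hPerp hf K) + Module.finrank F K ≤ n := by
  let b := Module.finBasis F K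
  let A : Matrix (Fin (Module.finrank F K)) (Fin n) F := fun i => hDual f (b i)
  have hA : LinearIndependent F A.row := by
    rw [Fintype.linearIndependent_iff]
    intro c hc
    let D : K →+ (Fin n → F) := AddMonoidHom.mk' (fun u => hDual f (u : Fin n → F))
      fun u v => hDual_add hf _ _
    have h1 : D (∑ i, σ (c i) • b i) = 0 := by
      rw [map_sum, ← hc]
      refine Finset.sum_congr rfl fun i _ => ?_
      show hDual f (σ (c i) • (b i : Fin n → F)) = c i • hDual f (b i)
      rw [hDual_smul hf, hf.involutive]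
    have h2 : ∑ i, σ (c i) • b i = 0 := Subtype.ext (hDual_injective hf (by
      rw [show hDual f ((0 : K) : Fin n → F) = 0 from hDual_zero hf]; exact h1))
    intro i
    exact (map_eq_zero_iff σ σ.injective).1 (Fintype.linearIndependent_iff.1 b.linearIndependent _ h2 i)
  have hr := hA.rank_matrix
  rw [Matrix.rank, Fintype.card_fin] at hr
  have h1 := LinearMap.finrank_range_add_finrank_ker A.mulVecLin
  have h2 : hPerp hf K ≤ LinearMap.ker A.mulVecLin := fun x hx => by
    rw [LinearMap.mem_ker]
    funext i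
    show hDual f (b i) ⬝ᵥ x = 0
    rw [hDual_dot hf]
    exact hx _ (b i).2
  have h3 := Submodule.finrank_mono h2
  rw [Module.finrank_fin_fun] at h1
  omega

end

section
variable {F : Type*} [Field F] [Finite F] {n : ℕ} {σ : F ≃+* F} {f : (Fin n → F) → (Fin n → F) → F}
  (hf : Cfsg.Geo.IsUnitaryForm σ f) {W : Submodule F (Fin n → F)}
  (hbot : W ⊓ hPerp hf W = ⊥) (hp : 4 ≤ Module.finrank F (hPerp hf W))
include hf hbot hp

/-- prescribed norm and two prescribed products in `W^⊥` -/
theorem exists_pres {b₀ : Fin n → F} (hb₀ : b₀ ∈ hPerp hf W) {u₁ : Fin n → F}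
    (hu₁ : u₁ ∈ hPerp hf W) (u₂ : Fin n → F)
    (hu : u₁ = u₂ ∨ f u₁ u₁ ≠ 0 ∨ f b₀ u₁ ≠ 0) {e : F} (he : σ e = e) : ∃ b ∈ hPerp hf W, f b u₁ = f b₀ u₁ ∧ f b u₂ = f b₀ u₂ ∧ f b b = e := by
  have h1 := finrank_le_inf_ker (hPerp hf W) (hLin hf u₁)
  have h2 := finrank_le_inf_ker (hPerp hf W ⊓ LinearMap.ker (hLin hf u₁)) (hLin hf u₂)
  set K := hPerp hf W ⊓ LinearMap.ker (hLin hf u₁) ⊓ LinearMap.ker (hLin hf u₂) with hKdef
  have hKP : K ≤ hPerp hf W := inf_le_left.trans inf_le_left
  have hfix : σ (e - f b₀ b₀) = e - f b₀ b₀ := by rw [map_sub, he, herm_self_fixed hf]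
  -- translates of `b₀` by `K` attain the norm
  suffices hex : ∃ c ∈ K, f (b₀ + c) (b₀ + c) = e by
    obtain ⟨c, ⟨⟨hcP, hc1⟩, hc2⟩, hce⟩ := hex
    refine ⟨b₀ + c, add_mem hb₀ hcP, ?_, ?_, hce⟩
    · rw [hf.add_left, show f c u₁ = 0 from hc1, add_zero]
    · rw [hf.add_left, show f c u₂ = 0 from hc2, add_zero]
  by_cases hani : ∃ c ∈ K, f c c ≠ 0
  · obtain ⟨c, hc, hcc⟩ := hani
    obtain ⟨t, ht⟩ := exists_norm_eq hf (e := (e - f b₀ b₀ + f c b₀ * f b₀ c / f c c) / f c c) (by
      rw [map_div₀, map_add, hfix, map_div₀, map_mul, herm_self_fixed hf, ← hf.herm b₀ c, ← hf.herm c b₀,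
        mul_comm (f b₀ c)])
    refine ⟨(t - f b₀ c / f c c) • c, K.smul_mem _ hc, ?_⟩
    simp only [hf.add_left, herm_add_right hf, hf.smul_left, herm_smul_right hf, map_sub, map_div₀,
      herm_self_fixed hf, ← hf.herm c b₀]
    field_simp at ht ⊢
    linear_combination ht
  push Not at hani
  have hti : ∀ x ∈ K, ∀ y ∈ K, f x y = 0 := by
    intro x hx y hy
    by_contra hxy
    obtain ⟨s, hs⟩ := exists_trace_ne hf
    have h := hani ((s / f x y) • x + y) (add_mem (K.smul_mem _ hx) hy)
    simp only [hf.add_left, hf.smul_left, herm_add_right hf, herm_smul_right hf,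
      hani x hx, hani y hy, mul_zero, zero_add, add_zero] at h
    rw [div_mul_cancel₀ _ hxy, hf.herm y x, ← map_mul, div_mul_cancel₀ _ hxy] at h
    exact hs h
  by_cases hne : ∃ c ∈ K, f c b₀ ≠ 0
  · obtain ⟨c, hc, hcb⟩ := hne
    obtain ⟨s, hs⟩ := exists_trace_eq hf hfix
    refine ⟨(s / f c b₀) • c, K.smul_mem _ hc, ?_⟩
    simp only [hf.add_left, herm_add_right hf, hf.smul_left, herm_smul_right hf, hani c hc, mul_zero, add_zero]
    rw [div_mul_cancel₀ _ hcb, hf.herm b₀ c, ← map_mul, div_mul_cancel₀ _ hcb]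
    linear_combination hs
  push Not at hne
  exfalso
  have hle : K ⊔ W ≤ hPerp hf K := sup_le (fun x hx y hy => hti x hx y hy)
    fun w hw y hy => hPerp_comm hf (hKP hy) hw
  have h4 := finrank_hPerp_add_le hf K
  have h5 := Submodule.finrank_mono hle
  have h6 := Submodule.finrank_sup_add_finrank_inf_eq K W
  have h7 : K ⊓ W = ⊥ := by
    rw [eq_bot_iff, ← hbot]; exact le_inf inf_le_right (inf_le_left.trans hKP)
  rw [h7, finrank_bot] at h6
  have h8 := finrank_le_finrank_hPerp_add hf W
  have h9 := Submodule.finrank_le (W ⊔ hPerp hf W)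
  have h10 := Submodule.finrank_sup_add_finrank_inf_eq W (hPerp hf W)
  rw [hbot, finrank_bot] at h10
  rw [Module.finrank_fin_fun] at h9
  -- the subspace is its own perpendicular, so the prescribed vectors lie in it
  have h11 : Module.finrank F (hPerp hf K) ≤ Module.finrank F (K ⊔ W : Submodule F _) := by
    omega
  have heq : K ⊔ W = hPerp hf K := Submodule.eq_of_le_of_finrank_le hle h11
  have hin : ∀ x ∈ hPerp hf W, (∀ y ∈ K, f y x = 0) → x ∈ K := by
    intro x hx hxK
    have hxK' : x ∈ K ⊔ W := by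
      rw [heq]; exact fun y hy => herm_eq_zero_comm hf (hxK y hy)
    obtain ⟨k, hk, w, hw, rfl⟩ := Submodule.mem_sup.1 hxK'
    have hwP : w ∈ hPerp hf W := by simpa using sub_mem hx (hKP hk)
    have hw0 : w = 0 := (Submodule.eq_bot_iff _).1 hbot w ⟨hw, hwP⟩
    rwa [hw0, add_zero]
  have hu₁K := hin u₁ hu₁ fun y hy => hy.1.2
  have hb₀K := hin b₀ hb₀ hne
  rcases hu with rfl | h | h
  · have h12 : hPerp hf W ⊓ LinearMap.ker (hLin hf u₁) ⊓ LinearMap.ker (hLin hf u₁) =
        hPerp hf W ⊓ LinearMap.ker (hLin hf u₁) := inf_eq_left.2 inf_le_right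
    have h13 : Module.finrank F K = Module.finrank F
        (hPerp hf W ⊓ LinearMap.ker (hLin hf u₁) : Submodule F (Fin n → F)) := by rw [hKdef, h12]
    omega
  · exact h hu₁K.1.2
  · exact h hb₀K.1.2

end

/-- the statement down to dimension 6 -/
theorem base {F : Type*} [Field F] [Fintype F] (n q : ℕ) (hF : Fintype.card F = q ^ 2) (hn : 6 ≤ n) (W : Submodule F (Fin n → F)) (hW0 : W ≠ ⊥) (hW : Cfsg.Geo.IsNondegenerateOn (Cfsg.hermForm n F q) W) (hdim : 2 * Module.finrank F W < n) : Cfsg.Geo.IsMaximalIn (Cfsg.GU n F q ⊓ Cfsg.Geo.specialLinear (Fin n) F) (Cfsg.Geo.subspaceStabilizer W ⊓ (Cfsg.GU n F q ⊓ Cfsg.Geo.specialLinear (Fin n) F)) := by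
  classical
  have hf : Cfsg.Geo.IsUnitaryForm (qConj hF) (Cfsg.hermForm n F q) := isUnitaryForm_hermForm hF n
  set f := Cfsg.hermForm n F q
  set σ := qConj hF
  let P := hPerp hf W
  have hbot : W ⊓ P = ⊥ := by
    refine (Submodule.eq_bot_iff _).2 fun x hx => ?_
    by_contra hx0
    obtain ⟨y, hy, hxy⟩ := (hW x hx.1 hx0).2
    exact hxy (hx.2 y hy)
  have hfr : n ≤ Module.finrank F P + Module.finrank F W := finrank_le_finrank_hPerp_add hf W
  have hp : 4 ≤ Module.finrank F P := by omega
  have htop : W ⊔ P = ⊤ := by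
    refine Submodule.eq_top_of_finrank_eq (le_antisymm (Submodule.finrank_le _) ?_)
    have := Submodule.finrank_sup_add_finrank_inf_eq W P
    rw [hbot, finrank_bot] at this
    rw [Module.finrank_fin_fun]
    omega
  have hdec : ∀ x, ∃ a ∈ W, ∃ z ∈ P, a + z = x := fun x => Submodule.mem_sup.1 (by rw [htop]; trivial)
  have hzero : ∀ {a}, a ∈ W → a ∈ P → a = 0 := fun ha hb => (Submodule.eq_bot_iff _).1 hbot _ ⟨ha, hb⟩
  have hsepP : ∀ u ∈ P, u ≠ 0 → ∃ v ∈ P, f v u ≠ 0 := fun u hu hu0 => by
    obtain ⟨v, hv, huv⟩ := exists_hPerp_of_notMem hf (W := W) (x := u) fun huW => hu0 (hzero huW hu)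
    exact ⟨v, hv, fun e => huv (herm_eq_zero_comm hf e)⟩
  have hnorm : ∀ a b, a ∈ W → b ∈ P → f (a + b) (a + b) = f a a + f b b := fun a b ha hb => by
    rw [hf.add_left, herm_add_right hf, herm_add_right hf, hb a ha, hPerp_comm hf hb ha]; ring
  obtain ⟨ζ, hζ0, hζ⟩ := exists_trace_zero hf
  have hd : ∀ z, f z z = 0 → ∀ c : F, (c • hDual f z) ⬝ᵥ z = 0 := fun z hz c => by
    rw [smul_dotProduct, hDual_dot hf, hz, smul_zero]
  refine isMaximalIn_of_lt (lt_of_le_of_ne inf_le_right fun he => ?_) fun M hM hMS g hg hgH => ?_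
  · obtain ⟨a, ha, ha0⟩ := W.exists_mem_ne_zero_of_ne_bot hW0
    obtain ⟨x, hx, hxa⟩ := (hW a ha ha0).1
    obtain ⟨u, hu, hu0⟩ := P.exists_mem_ne_zero_of_ne_bot (by intro e; rw [e, finrank_bot] at hp; omega)
    obtain ⟨b₀, hb₀, hb₀u⟩ := hsepP u hu hu0
    obtain ⟨b, hb, hbu, -, hbb⟩ := exists_pres hf hbot hp hb₀ hu u (.inl rfl) (e := -f a a) (by
      rw [map_neg, herm_self_fixed hf])
    have hiso : f (a + b) (a + b) = 0 := by rw [hnorm a b ha hb, hbb, add_neg_cancel]
    have hmem := uTv_mem_su (n := n) hF hiso hζ (hd _ hiso ζ)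
    rw [← he] at hmem
    have := maps_of_mem_subspaceStabilizer hmem.1 hx
    rw [coe_tvGL, uTv_mulVec hf, Submodule.add_mem_iff_right _ hx, herm_add_right hf,
      hPerp_comm hf hb hx, add_zero, W.smul_mem_iff (mul_ne_zero hζ0 hxa),
      Submodule.add_mem_iff_right _ ha] at this
    refine hb₀u ?_
    rw [← hbu, hzero this hb, herm_zero_left hf]
  · have hiso : ∀ h ∈ M, ∀ a b, f ((h : Matrix (Fin n) (Fin n) F) *ᵥ a)
        ((h : Matrix (Fin n) (Fin n) F) *ᵥ b) = f a b := fun h hh a b => (hMS hh).1 a b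
    have hbase : ∀ z, z ∈ W ∨ z ∈ P → f z z = 0 → UFull σ f M z := fun z hz hzz =>
      ⟨hzz, fun c hc => (hasTv_iff (hd z hzz c)).2 (hM ⟨mem_subspaceStabilizer_of_maps fun x hx => by
        rw [coe_tvGL, uTv_mulVec hf]
        rcases hz with hz | hz
        · exact add_mem hx (W.smul_mem _ hz)
        · rw [hPerp_comm hf hz hx, mul_zero, zero_smul, add_zero]; exact hx,
        uTv_mem_su hF hzz hc _⟩)⟩
    -- some isotropic vector of `P` moves out of both
    obtain ⟨v, hv, hvv, hvW, hvP⟩ : ∃ v ∈ P, f v v = 0 ∧ (g : Matrix (Fin n) (Fin n) F) *ᵥ v ∉ W ∧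
        (g : Matrix (Fin n) (Fin n) F) *ᵥ v ∉ P := by
      by_contra hno
      push Not at hno
      have hinj : ∀ z, (g : Matrix (Fin n) (Fin n) F) *ᵥ z = 0 → z = 0 := fun z hz => by
        rw [← inv_mulVec_mulVec g z, hz, mulVec_zero]
      obtain ⟨s, hs, hs0, hss⟩ := exists_isotropic hf (U := P) (by omega)
      obtain ⟨z₀, hz₀, hz₀s⟩ := hsepP s hs hs0
      -- orthogonal isotropic vectors go to the same side
      have hside : ∀ z₁ ∈ P, ∀ z₂ ∈ P, f z₁ z₁ = 0 → f z₂ z₂ = 0 → f z₁ z₂ = 0 → z₁ ≠ 0 → z₂ ≠ 0 →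
          (g : Matrix (Fin n) (Fin n) F) *ᵥ z₁ ∈ W → (g : Matrix (Fin n) (Fin n) F) *ᵥ z₂ ∈ W := by
        intro z₁ h₁ z₂ h₂ e₁ e₂ e₁₂ n₁ n₂ hW₁
        by_contra hW₂
        have hP₂ := hno z₂ h₂ e₂ hW₂
        have e3 : f (z₁ + z₂) (z₁ + z₂) = 0 := by
          rw [hf.add_left, herm_add_right hf, herm_add_right hf, e₁, e₂, e₁₂,
            herm_eq_zero_comm hf e₁₂]; ring
        by_cases h3 : (g : Matrix (Fin n) (Fin n) F) *ᵥ (z₁ + z₂) ∈ W
        · rw [mulVec_add, Submodule.add_mem_iff_right _ hW₁] at h3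
          exact hW₂ h3
        · have h4 := hno _ (add_mem h₁ h₂) e3 h3
          rw [mulVec_add, Submodule.add_mem_iff_left _ hP₂] at h4
          exact n₁ (hinj _ (hzero hW₁ h4))
      have hall : ∀ z ∈ P, f z z = 0 → z ≠ 0 → ((g : Matrix (Fin n) (Fin n) F) *ᵥ z ∈ W ↔
          (g : Matrix (Fin n) (Fin n) F) *ᵥ s ∈ W) := by
        intro z hz hzz hz0
        have h1 := finrank_le_inf_ker P (hLin hf z)
        have h2 := finrank_le_inf_ker (P ⊓ LinearMap.ker (hLin hf z)) (hLin hf s)
        obtain ⟨r, ⟨⟨hrP, hrz⟩, hrs⟩, hr0, hrr⟩ := exists_isotropic hf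
          (U := P ⊓ LinearMap.ker (hLin hf z) ⊓ LinearMap.ker (hLin hf s)) (by omega)
        have hrz' : f r z = 0 := hrz
        have hrs' : f r s = 0 := hrs
        exact ⟨fun h => hside r hrP s hs hrr hss hrs' hr0 hs0
            (hside z hz r hrP hzz hrr (herm_eq_zero_comm hf hrz') hz0 hr0 h),
          fun h => hside r hrP z hz hrr hzz hrz' hr0 hz0
            (hside s hs r hrP hss hrr (herm_eq_zero_comm hf hrs') hs0 hr0 h)⟩
      by_cases hsW : (g : Matrix (Fin n) (Fin n) F) *ᵥ s ∈ W
      · have hle := le_of_isotropic_sep hf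
          (S := W.comap (Matrix.toLin' (g : Matrix (Fin n) (Fin n) F))) hs hss hz₀ hz₀s fun x hx hxx => by
            rcases eq_or_ne x 0 with rfl | hx0
            · exact Submodule.zero_mem _
            · exact (hall x hx hxx hx0).2 hsW
        have hinj' : Function.Injective (Matrix.toLin' (g : Matrix (Fin n) (Fin n) F)) :=
          fun a b e => sub_eq_zero.1 (hinj _ (by rw [mulVec_sub]; exact sub_eq_zero.2 e))
        have := Submodule.finrank_mono (Submodule.map_le_iff_le_comap.2 hle)
        rw [← (Submodule.equivMapOfInjective _ hinj' P).finrank_eq] at this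
        omega
      · refine hgH ⟨mem_of_map_hPerp hf (hiso g hg) (le_of_isotropic_sep hf
          (S := P.comap (Matrix.toLin' (g : Matrix (Fin n) (Fin n) F))) hs hss hz₀ hz₀s fun x hx hxx => ?_),
          hMS hg⟩
        rcases eq_or_ne x 0 with rfl | hx0
        · exact Submodule.zero_mem _
        · exact hno x hx hxx fun h => hsW ((hall x hx hxx hx0).1 h)
    obtain ⟨a₁, ha₁, b₁, hb₁, hsum⟩ := hdec ((g : Matrix (Fin n) (Fin n) F) *ᵥ v)
    have ha₁0 : a₁ ≠ 0 := by rintro rfl; exact hvP (by rw [← hsum, zero_add]; exact hb₁)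
    have hb₁0 : b₁ ≠ 0 := by rintro rfl; exact hvW (by rw [← hsum, add_zero]; exact ha₁)
    have hx₀ : UFull σ f M (a₁ + b₁) := by
      rw [hsum]; exact (hbase v (.inr hv) hvv).conj hf hg (hiso g hg)
    -- one move of the component in `P`
    have move : ∀ a ∈ W, ∀ b ∈ P, ∀ b' ∈ P, UFull σ f M (a + b) → f b' b' = f b b →
        f b b' + f b' b = f b b + f b b → f b b' ≠ f b b → UFull σ f M (a + b') := by
      intro a ha b hb b' hb' h hN htr hne
      have hd0 : f (b' - b) (b' - b) = 0 := by
        rw [sub_eq_add_neg, ← neg_one_smul F b]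
        simp only [hf.add_left, herm_add_right hf, hf.smul_left, herm_smul_right hf, map_neg, map_one, hN]
        linear_combination -htr
      set c := (f b b' - f b b)⁻¹
      have hc : c + σ c = 0 := by
        have hne' : f b b' - f b b ≠ 0 := sub_ne_zero.2 hne
        have hσ : σ (f b b' - f b b) = -(f b b' - f b b) := by
          rw [map_sub, ← hf.herm b' b, herm_self_fixed hf]; linear_combination htr
        rw [show c = (f b b' - f b b)⁻¹ from rfl, map_inv₀, hσ, inv_neg, add_neg_cancel]
      have hT := (hasTv_iff (hd _ hd0 c)).1 ((hbase _ (.inr (sub_mem hb' hb)) hd0).2 c hc)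
      have := h.conj hf hT (hiso _ hT)
      rw [coe_tvGL, uTv_mulVec hf, hf.add_left, hPerp_comm hf (sub_mem hb' hb) ha, zero_add,
        show f b (b' - b) = f b b' - f b b by
          rw [sub_eq_add_neg, ← neg_one_smul F b, herm_add_right hf, herm_smul_right hf, map_neg, map_one]
          ring,
        inv_mul_cancel₀ (sub_ne_zero.2 hne), one_smul] at this
      convert this using 1; abel
    -- all vectors of the same norm
    have orbit : ∀ a ∈ W, ∀ b ∈ P, b ≠ 0 → UFull σ f M (a + b) → ∀ b' ∈ P, b' ≠ 0 →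
        f b' b' = f b b → UFull σ f M (a + b') := by
      intro a ha b hb hb0 h b' hb' hb'0 hN
      set e := f b b with he
      have heσ : σ e = e := herm_self_fixed hf b
      have hσζ : σ ζ = -ζ := by linear_combination hζ
      -- a partner with the two prescribed products
      have two : ∀ u ∈ P, ∀ u' ∈ P, u ≠ 0 → u' ≠ 0 → u ∉ Submodule.span F {u'} →
          u' ∉ Submodule.span F {u} → f u u = e → f u' u' = e →
          UFull σ f M (a + u) → UFull σ f M (a + u') := by
        intro u hu u' hu' _ _ h1 h2 hNu hNu' hF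
        have hout : ∀ x ∈ P, ∀ z ∈ P, x ∉ Submodule.span F {z} → ∃ y ∈ P, f y z = 0 ∧ f y x = 1 := by
          intro x hx z hz hxz
          obtain ⟨y, hy, hxy⟩ := exists_hPerp_of_notMem hf (W := W ⊔ Submodule.span F {z}) (x := x)
            (fun hm => by
              obtain ⟨w, hw, z', hz', rfl⟩ := Submodule.mem_sup.1 hm
              have hzP : z' ∈ P := (Submodule.span_le.2 (Set.singleton_subset_iff.2 hz)) hz'
              have hw0 : w = 0 := hzero hw (by simpa using sub_mem hx hzP)
              rw [hw0, zero_add] at hxz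
              exact hxz hz')
          have hyx : f y x ≠ 0 := fun e' => hxy (herm_eq_zero_comm hf e')
          refine ⟨(f y x)⁻¹ • y, P.smul_mem _ fun w hw => hy w (Submodule.mem_sup_left hw), ?_, ?_⟩
          · rw [hf.smul_left, hy z (Submodule.mem_sup_right (Submodule.mem_span_singleton_self z)),
              mul_zero]
          · rw [hf.smul_left, inv_mul_cancel₀ hyx]
        obtain ⟨y₁, hy₁, h11, h12⟩ := hout u hu u' hu' h1
        obtain ⟨y₂, hy₂, h21, h22⟩ := hout u' hu' u hu h2
        have hv1 : f ((e + ζ) • y₁ + (e + ζ) • y₂) u = e + ζ := by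
          rw [hf.add_left, hf.smul_left, hf.smul_left, h12, h21]; ring
        have hv2 : f ((e + ζ) • y₁ + (e + ζ) • y₂) u' = e + ζ := by
          rw [hf.add_left, hf.smul_left, hf.smul_left, h11, h22]; ring
        obtain ⟨z, hz, hzu, hzu', hzz⟩ := exists_pres hf hbot hp
          (add_mem (P.smul_mem (e + ζ) hy₁) (P.smul_mem (e + ζ) hy₂)) hu u' (by
            rw [hv1, hNu]
            by_cases h0 : e = 0
            · exact .inr (.inr (by rw [h0, zero_add]; exact hζ0))
            · exact .inr (.inl h0)) heσ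
        rw [hv1] at hzu
        rw [hv2] at hzu'
        have huz : f u z = e - ζ := by rw [hf.herm, hzu, map_add, heσ, hσζ]; ring
        have hu'z : f u' z = e - ζ := by rw [hf.herm, hzu', map_add, heσ, hσζ]; ring
        refine move a ha z hz u' hu' (move a ha u hu z hz hF (by rw [hzz, hNu]) (by
          rw [huz, hzu, hNu]; ring) (by rw [huz, hNu]; simpa using hζ0)) (by rw [hNu', hzz])
          (by rw [hzu', hu'z, hzz]; ring) (by rw [hzu', hzz]; simpa using hζ0)
      have indep : ∀ u u' : Fin n → F, u ≠ 0 → u' ∉ Submodule.span F {u} →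
          u ∉ Submodule.span F {u'} := by
        intro u u' hu hu' h
        obtain ⟨s, hs⟩ := Submodule.mem_span_singleton.1 h
        have hs0 : s ≠ 0 := fun e' => hu (by rw [← hs, e', zero_smul])
        exact hu' (Submodule.mem_span_singleton.2 ⟨s⁻¹, by rw [← hs, inv_smul_smul₀ hs0]⟩)
      by_cases hdep : b' ∈ Submodule.span F {b}
      · -- go through an independent vector
        obtain ⟨y, hy, hyb⟩ := hsepP b hb hb0
        obtain ⟨z, hz, hzb, -, hzz⟩ := exists_pres hf hbot hp
          (P.smul_mem ((e + ζ) / f y b) hy) hb b (.inl rfl) heσ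
        rw [hf.smul_left, div_mul_cancel₀ _ hyb] at hzb
        have hzind : z ∉ Submodule.span F {b} := by
          intro hm
          obtain ⟨μ, rfl⟩ := Submodule.mem_span_singleton.1 hm
          rw [hf.smul_left, ← he] at hzb
          rw [hf.smul_left, herm_smul_right hf, ← he] at hzz
          rcases eq_or_ne e 0 with h0 | h0
          · exact hζ0 (by rw [h0] at hzb; linear_combination -hzb)
          · have h1 := congrArg σ hzb
            rw [map_mul, map_add, heσ, hσζ] at h1
            have h2 : (e + ζ) * (e - ζ) = e * e := by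
              rw [← hzb]; linear_combination (μ * e) * (-h1) + e * hzz
            have h3 : ζ * ζ = 0 := by linear_combination -h2
            exact hζ0 (mul_self_eq_zero.1 h3)
        have hz0 : z ≠ 0 := fun h => hzind (h ▸ Submodule.zero_mem _)
        obtain ⟨μ, hμ⟩ := Submodule.mem_span_singleton.1 hdep
        have hzind' : z ∉ Submodule.span F {b'} := fun h' => hzind (by
          obtain ⟨s, hs⟩ := Submodule.mem_span_singleton.1 h'
          exact Submodule.mem_span_singleton.2 ⟨s * μ, by rw [mul_smul, hμ, hs]⟩)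
        exact two z hz b' hb' hz0 hb'0 hzind' (indep b' z hb'0 hzind') hzz hN
          (two b hb z hz hb0 hz0 (indep b z hb0 hzind) hzind he.symm hzz h)
      · exact two b hb b' hb' hb0 hb'0 (indep b b' hb0 hdep) hdep he.symm hN h
    -- components in `W` with all partners
    let A₀ : Submodule F (Fin n → F) :=
      { carrier := {a | a ∈ W ∧ ∀ b ∈ P, f a a + f b b = 0 → UFull σ f M (a + b)}
        zero_mem' := ⟨W.zero_mem, fun b hb h => by
          rw [zero_add]; exact hbase b (.inr hb) (by simpa [herm_zero_left hf] using h)⟩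
        add_mem' := by
          rintro a a' ⟨ha, hA⟩ ⟨ha', hA'⟩
          refine ⟨add_mem ha ha', fun b hb h => ?_⟩
          rcases eq_or_ne b 0 with rfl | hb0
          · rw [add_zero]
            exact hbase _ (.inl (add_mem ha ha')) (by simpa [herm_zero_left hf] using h)
          obtain ⟨y, hy, hyb⟩ := hsepP b hb hb0
          obtain ⟨t, ht⟩ := exists_trace_eq hf (a := f b b - f a a + f a' a') (by
            simp only [map_sub, map_add, herm_self_fixed hf])
          obtain ⟨s, hs, hne⟩ : ∃ s, s + σ s = f b b - f a a + f a' a' ∧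
              f a a' + s + f a a ≠ 0 := by
            by_cases h' : f a a' + t + f a a = 0
            · refine ⟨t + ζ, by rw [map_add]; linear_combination ht + hζ, fun h'' => hζ0 ?_⟩
              linear_combination h'' - h'
            · exact ⟨t, ht, h'⟩
          obtain ⟨b₂, hb₂, hb₂b, -, hb₂N⟩ := exists_pres hf hbot hp (P.smul_mem (s / f y b) hy) hb b (.inl rfl)
            (e := -f a a) (by rw [map_neg, herm_self_fixed hf])
          rw [hf.smul_left, div_mul_cancel₀ _ hyb] at hb₂b
          have h1 := hA b₂ hb₂ (by rw [hb₂N, add_neg_cancel])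
          have h2 := hA' (b - b₂) (sub_mem hb hb₂) (by
            rw [sub_eq_add_neg, ← neg_one_smul F b₂]
            simp only [hf.add_left, herm_add_right hf, hf.smul_left, herm_smul_right hf, map_neg,
              map_one, hb₂N, hb₂b, hf.herm b b₂]
            linear_combination -hs)
          have h3 := h1.add hf h2 (by
            rw [hf.add_left, herm_add_right hf, herm_add_right hf,
              hPerp_comm hf (sub_mem hb hb₂) ha, hb₂ a' ha', add_zero, zero_add,
              sub_eq_add_neg, ← neg_one_smul F b₂, herm_add_right hf, herm_smul_right hf, map_neg,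
              map_one, hb₂N, hb₂b]
            intro h''; exact hne (by linear_combination h'')) (by
            rw [show a + b₂ + (a' + (b - b₂)) = a + a' + b by abel, hnorm _ _ (add_mem ha ha') hb]
            exact h)
          rwa [show a + b₂ + (a' + (b - b₂)) = a + a' + b by abel] at h3
        smul_mem' := by
          rintro t a ⟨ha, hA⟩
          refine ⟨W.smul_mem t ha, fun b hb h => ?_⟩
          rcases eq_or_ne t 0 with rfl | ht
          · rw [zero_smul, zero_add]
            exact hbase b (.inr hb) (by simpa [zero_smul, herm_zero_left hf] using h)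
          have h' : f (t • a + b) (t • a + b) = 0 := by rw [hnorm _ _ (W.smul_mem t ha) hb]; exact h
          have h1 := (hA (t⁻¹ • b) (P.smul_mem _ hb) (by
            have h'' := h
            rw [hf.smul_left, herm_smul_right hf] at h''
            rw [hf.smul_left, herm_smul_right hf, map_inv₀]
            have hσt : σ t ≠ 0 := (map_ne_zero_iff _ σ.injective).2 ht
            field_simp
            linear_combination h'')).smul hf t
          rwa [smul_add, smul_inv_smul₀ ht] at h1 }
    have hA₁ : a₁ ∈ A₀ := ⟨ha₁, fun b hb h => by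
      have hN : f a₁ a₁ + f b₁ b₁ = 0 := by rw [← hnorm _ _ ha₁ hb₁]; exact hx₀.1
      rcases eq_or_ne b 0 with rfl | hb0
      · rw [add_zero]; exact hbase a₁ (.inl ha₁) (by simpa [herm_zero_left hf] using h)
      · exact orbit a₁ ha₁ b₁ hb₁ hb₁0 hx₀ b hb hb0 (by linear_combination h - hN)⟩
    have hA : W ≤ A₀ := by
      rcases Nat.lt_or_ge (Module.finrank F W) 2 with hk | hk
      · have h1 : Submodule.span F {a₁} ≤ W :=
          Submodule.span_le.2 (Set.singleton_subset_iff.2 ha₁)
        have h2 := Submodule.finrank_mono h1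
        rw [finrank_span_singleton ha₁0] at h2
        rw [← Submodule.eq_of_le_of_finrank_eq h1 (by rw [finrank_span_singleton ha₁0]; omega)]
        exact Submodule.span_le.2 (Set.singleton_subset_iff.2 hA₁)
      · have step : ∀ a ∈ A₀, ∀ w ∈ W, f w w = 0 → f a w ≠ 0 → w ∈ A₀ := by
          intro a ha w hw hww haw
          have hmem : a + (ζ * f a w) • w ∈ A₀ := by
            refine ⟨add_mem ha.1 (W.smul_mem _ hw), fun b hb h => ?_⟩
            have hT := (hasTv_iff (hd _ hww ζ)).1 ((hbase _ (.inl hw) hww).2 ζ hζ)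
            have hN : f (a + (ζ * f a w) • w) (a + (ζ * f a w) • w) = f a a := by
              simp only [hf.add_left, herm_add_right hf, hf.smul_left, herm_smul_right hf, hww,
                map_mul, ← hf.herm w a]
              linear_combination (f a w * f w a) * hζ
            have := (ha.2 b hb (by rw [← hN]; exact h)).conj hf hT (hiso _ hT)
            rw [coe_tvGL, uTv_mulVec hf, hf.add_left, hb w hw, add_zero] at this
            convert this using 1; abel
          have := sub_mem hmem ha
          rw [add_sub_cancel_left] at this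
          exact (A₀.smul_mem_iff (mul_ne_zero hζ0 haw)).1 this
        obtain ⟨s, hs, hs0, hss⟩ := exists_isotropic hf hk
        obtain ⟨z₀, hz₀, hz₀s⟩ := (hW s hs hs0).1
        have hsee : ∀ u ∈ W, u ≠ 0 → ∃ w ∈ W, f w w = 0 ∧ f w u ≠ 0 := by
          intro u hu hu0
          by_contra hno
          push Not at hno
          obtain ⟨x, hx, hxu⟩ := (hW u hu hu0).1
          exact hxu (le_of_isotropic_sep hf (S := LinearMap.ker (hLin hf u)) hs hss hz₀ hz₀s hno hx)
        refine le_of_isotropic_sep hf hs hss hz₀ hz₀s fun w hw hww => ?_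
        rcases eq_or_ne w 0 with rfl | hw0
        · exact A₀.zero_mem
        obtain ⟨wa, hwa, hwaa, hwane⟩ := hsee a₁ ha₁ ha₁0
        obtain ⟨ww, hwwm, hwww, hwwne⟩ := hsee w hw hw0
        by_cases h1 : f a₁ w = 0
        · have hwaA : wa ∈ A₀ := step a₁ hA₁ wa hwa hwaa fun e => hwane (herm_eq_zero_comm hf e)
          by_cases h2 : f wa w = 0
          · by_cases h3 : f a₁ ww = 0
            · by_cases h4 : f wa ww = 0
              · have hiso' : f (wa + ww) (wa + ww) = 0 := by
                  rw [hf.add_left, herm_add_right hf, herm_add_right hf, hwaa, hwww, h4,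
                    herm_eq_zero_comm hf h4]; ring
                refine step _ (step a₁ hA₁ _ (add_mem hwa hwwm) hiso' ?_) w hw hww ?_
                · rw [herm_add_right hf, h3, add_zero]
                  exact fun e => hwane (herm_eq_zero_comm hf e)
                · rw [hf.add_left, h2, zero_add]; exact hwwne
              · exact step ww (step wa hwaA ww hwwm hwww h4) w hw hww hwwne
            · exact step ww (step a₁ hA₁ ww hwwm hwww h3) w hw hww hwwne
          · exact step wa hwaA w hw hww h2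
        · exact step a₁ hA₁ w hw hww h1
    refine su_le_of_uFull hF (by omega) fun x hx => ?_
    obtain ⟨a, ha, b, hb, rfl⟩ := hdec x
    exact (hA ha).2 b hb (by rw [← hnorm _ _ ha hb]; exact hx)

/-- Let F be the field with q² elements and n ≥ 13. In SU_n(q) (determinant-one isometries of the standard unitary form on F^n) the stabiliser of a non-zero subspace W on which the form is non-degenerate and with 2 dim W < n is a maximal subgroup. -/
theorem result {F : Type*} [Field F] [Fintype F] (n q : ℕ) (hF : Fintype.card F = q ^ 2) (hn : 13 ≤ n) (W : Submodule F (Fin n → F)) (hW0 : W ≠ ⊥) (hW : Cfsg.Geo.IsNondegenerateOn (Cfsg.hermForm n F q) W) (hdim : 2 * Module.finrank F W < n) : Cfsg.Geo.IsMaximalIn (Cfsg.GU n F q ⊓ Cfsg.Geo.specialLinear (Fin n) F) (Cfsg.Geo.subspaceStabilizer W ⊓ (Cfsg.GU n F q ⊓ Cfsg.Geo.specialLinear (Fin n) F)) :=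
  base n q hF (by omega) W hW0 hW hdim

end Cfsg.Agent.S5654
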