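import Cfsg.Statements.S5657
import Cfsg.Agent.Lib.MaxSub.HermPolar
-- import your own Cfsg.Agent.* helpers here

set_option autoImplicit false
open Cfsg

namespace Cfsg.Agent.S5657

/-- the statement down to dimension 6 -/
theorem base {F : Type*} [Field F] [Fintype F] (n q : ℕ) (hF : Fintype.card F = q ^ 2) (hn : 6 ≤ n) (k : ℕ) (hk : 2 * k = n) (D : Fin 2 → Submodule F (Fin n → F)) (hD : Cfsg.Geo.IsMDecomposition k D) (hts : ∀ i, Cfsg.Geo.IsTotallySingularFor (Cfsg.hermForm n F q) (D i)) : Cfsg.Geo.IsMaximalIn (Cfsg.GU n F q ⊓ Cfsg.Geo.specialLinear (Fin n) F) (Cfsg.Geo.decompositionStabilizer D ⊓ (Cfsg.GU n F q ⊓ Cfsg.Geo.specialLinear (Fin n) F)) := by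
  open Matrix CfsgLib.MaxSub in
  classical
  have hf : Cfsg.Geo.IsUnitaryForm (qConj hF) (Cfsg.hermForm n F q) := isUnitaryForm_hermForm hF n
  set f := Cfsg.hermForm n F q
  set σ := qConj hF
  let A := D 0
  let B := D 1
  obtain ⟨ζ, hζ0, hζ⟩ := exists_trace_zero hf
  have hσζ : σ ζ = -ζ := by linear_combination hζ
  have P : HPolar σ f k A B := by
    refine ⟨hf, hts 0, hts 1, disjoint_iff.1 (hD.indep.pairwiseDisjoint (by decide : (0 : Fin 2) ≠ 1)),
      ?_, hD.finrank_eq 0, hD.finrank_eq 1⟩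
    rw [eq_top_iff, ← hD.iSup_eq_top, iSup_le_iff]
    intro i
    fin_cases i
    · exact le_sup_left
    · exact le_sup_right
  have hinj : ∀ g : Matrix.GeneralLinearGroup (Fin n) F,
      Function.Injective (Matrix.toLin' (g : Matrix (Fin n) (Fin n) F)) := fun g x y e => by
    have := congrArg (((g⁻¹ : Matrix.GeneralLinearGroup (Fin n) F) : Matrix (Fin n) (Fin n) F) *ᵥ ·) e
    simpa [inv_mulVec_mulVec] using this
  have hmem : ∀ g : Matrix.GeneralLinearGroup (Fin n) F, ∀ π : Equiv.Perm (Fin 2),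
      (∀ i, ∀ x ∈ D i, (g : Matrix (Fin n) (Fin n) F) *ᵥ x ∈ D (π i)) →
      g ∈ Cfsg.Geo.decompositionStabilizer D := by
    intro g π h
    refine ⟨π, fun i => ?_⟩
    refine Submodule.eq_of_le_of_finrank_eq (by rintro _ ⟨x, hx, rfl⟩; exact h i x hx) ?_
    rw [← (Submodule.equivMapOfInjective _ (hinj g) (D i)).finrank_eq, hD.finrank_eq, hD.finrank_eq]
  have hEH : ∀ u ∈ A, ∀ α ∈ B, ∀ (hu : f u u = 0) (h : f u α = 0),
      hEich hf u α 0 hu h ∈ Cfsg.Geo.decompositionStabilizer D ⊓
        (Cfsg.GU n F q ⊓ Cfsg.Geo.specialLinear (Fin n) F) := by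
    intro u hu α hα huu h
    refine ⟨hmem _ 1 fun i x hx => ?_, fun a b => hEich_isometry hf u α 0 huu h
      (by rw [map_zero, add_zero, P.isoB α hα α hα, neg_zero]) a b, hEich_mem_specialLinear hf _ _ _ _ _⟩
    rw [hEich_mulVec hf, Equiv.Perm.one_apply, zero_mul, add_zero]
    fin_cases i
    · rw [P.isoA x hx u hu, neg_zero, zero_smul, add_zero]
      exact add_mem hx (A.smul_mem _ hu)
    · rw [P.isoB x hx α hα, zero_smul, add_zero]
      exact add_mem hx (B.smul_mem _ hα)
  have hd : ∀ z, f z z = 0 → ∀ c : F, (c • hDual f z) ⬝ᵥ z = 0 := fun z hz c => by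
    rw [smul_dotProduct, hDual_dot hf, hz, smul_zero]
  have hsepA : ∀ b ∈ B, b ≠ 0 → ∃ c ∈ A, f c b ≠ 0 := by
    intro b hb hb0
    by_contra hno
    push Not at hno
    exact hb0 (P.zero_of_orth (fun x hx => herm_eq_zero_comm hf (hno x hx)) fun x hx => P.isoB b hb x hx)
  -- dual bases
  let bA := (Module.finBasis F A).reindex (finCongr P.dimA)
  let L : B →ₗ[F] (Fin k → F) :=
    { toFun := fun y i => f y (bA i)
      map_add' := fun y z => funext fun i => hf.add_left _ _ _
      map_smul' := fun c y => funext fun i => hf.smul_left _ _ _ }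
  have hAorth : ∀ y, (∀ i, f y (bA i) = 0) → ∀ a ∈ A, f y a = 0 := by
    intro y hy a ha
    let φ : A →ₗ[F] F := (hLin hf y).comp A.subtype
    have hφ : φ = 0 := bA.ext fun i => herm_eq_zero_comm hf (hy i)
    exact herm_eq_zero_comm hf (LinearMap.congr_fun hφ ⟨a, ha⟩)
  have hLinj : Function.Injective L := by
    rw [← LinearMap.ker_eq_bot, Submodule.eq_bot_iff]
    intro y hy
    exact Subtype.ext (P.zero_of_orth (hAorth _ fun i => congrFun (LinearMap.mem_ker.mp hy) i)
      fun b hb => P.isoB y y.2 b hb)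
  have hLsurj : Function.Surjective L :=
    (LinearMap.injective_iff_surjective_of_finrank_eq_finrank (by
      rw [P.dimB, Module.finrank_fin_fun])).1 hLinj
  choose fB hfB using fun j => hLsurj (Pi.single j 1)
  let eL : Fin k → (Fin n → F) := fun i => (bA i : Fin n → F)
  let fL : Fin k → (Fin n → F) := fun i => (fB i : Fin n → F)
  have hfe : ∀ i j, f (fL j) (eL i) = if i = j then 1 else 0 := fun i j => by
    have := congrFun (hfB j) i
    rw [Pi.single_apply] at this
    exact this
  have hef : ∀ i j, f (eL i) (fL j) = if i = j then 1 else 0 := fun i j => by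
    rw [hf.herm, hfe]; split <;> simp
  have hee : ∀ i j, f (eL i) (eL j) = 0 := fun i j => P.isoA _ (bA i).2 _ (bA j).2
  have hff : ∀ i j, f (fL i) (fL j) = 0 := fun i j => P.isoB _ (fB i).2 _ (fB j).2
  -- the interchanging element
  have hζ' : -ζ⁻¹ + σ (-ζ⁻¹) = 0 := by rw [map_neg, map_inv₀, hσζ, inv_neg]; ring
  have hswap : ∀ S : Finset (Fin k), ∃ s ∈ Cfsg.GU n F q ⊓ Cfsg.Geo.specialLinear (Fin n) F,
      (∀ i ∈ S, (s : Matrix (Fin n) (Fin n) F) *ᵥ eL i = (-ζ⁻¹) • fL i ∧
        (s : Matrix (Fin n) (Fin n) F) *ᵥ fL i = ζ • eL i) ∧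
      ∀ i ∉ S, (s : Matrix (Fin n) (Fin n) F) *ᵥ eL i = eL i ∧
        (s : Matrix (Fin n) (Fin n) F) *ᵥ fL i = fL i := by
    intro S
    induction S using Finset.induction with
    | empty => exact ⟨1, one_mem _, by simp, fun i _ => by simp⟩
    | insert j S hj ih =>
      obtain ⟨s, hs, hS, hS'⟩ := ih
      let T₁ := tvGL (eL j) (ζ • hDual f (eL j)) (hd _ (hee j j) ζ)
      let T₂ := tvGL (fL j) ((-ζ⁻¹) • hDual f (fL j)) (hd _ (hff j j) (-ζ⁻¹))
      have hT : ∀ x, ((T₁ * T₂ * T₁ : Matrix.GeneralLinearGroup (Fin n) F) :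
          Matrix (Fin n) (Fin n) F) *ᵥ x =
          tvMat (eL j) (ζ • hDual f (eL j)) *ᵥ (tvMat (fL j) ((-ζ⁻¹) • hDual f (fL j)) *ᵥ
            (tvMat (eL j) (ζ • hDual f (eL j)) *ᵥ x)) := fun x => by
        simp only [T₁, T₂, Units.val_mul, coe_tvGL, ← mulVec_mulVec]
      have hrot : ((T₁ * T₂ * T₁ : Matrix.GeneralLinearGroup (Fin n) F) :
            Matrix (Fin n) (Fin n) F) *ᵥ eL j = (-ζ⁻¹) • fL j ∧
          ((T₁ * T₂ * T₁ : Matrix.GeneralLinearGroup (Fin n) F) :
            Matrix (Fin n) (Fin n) F) *ᵥ fL j = ζ • eL j := by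
        constructor <;>
        · rw [hT]
          simp only [uTv_mulVec hf, hf.add_left, hf.smul_left, hee, hef, hfe, hff, if_true, mul_zero,
            zero_smul, add_zero, zero_add, mul_one]
          match_scalars <;> field_simp <;> ring
      have hfix : ∀ i, i ≠ j → ((T₁ * T₂ * T₁ : Matrix.GeneralLinearGroup (Fin n) F) :
            Matrix (Fin n) (Fin n) F) *ᵥ eL i = eL i ∧
          ((T₁ * T₂ * T₁ : Matrix.GeneralLinearGroup (Fin n) F) :
            Matrix (Fin n) (Fin n) F) *ᵥ fL i = fL i := by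
        intro i hij
        constructor <;> rw [hT] <;>
          simp only [uTv_mulVec hf, hee, hff, hef, hfe, hij, Ne.symm hij, if_false, mul_zero,
            zero_smul, add_zero]
      refine ⟨T₁ * T₂ * T₁ * s, mul_mem (mul_mem (mul_mem (uTv_mem_su hF (hee j j) hζ _)
        (uTv_mem_su hF (hff j j) hζ' _)) (uTv_mem_su hF (hee j j) hζ _)) hs, fun i hi => ?_,
        fun i hi => ?_⟩
      · rw [Units.val_mul, ← mulVec_mulVec, ← mulVec_mulVec]
        rcases Finset.mem_insert.1 hi with rfl | hi'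
        · rw [(hS' i hj).1, (hS' i hj).2]; exact hrot
        · have hij : i ≠ j := fun e => hj (e ▸ hi')
          rw [(hS i hi').1, (hS i hi').2, mulVec_smul, mulVec_smul, (hfix i hij).1, (hfix i hij).2]
          exact ⟨rfl, rfl⟩
      · rw [Finset.mem_insert, not_or] at hi
        rw [Units.val_mul, ← mulVec_mulVec, ← mulVec_mulVec, (hS' i hi.2).1, (hS' i hi.2).2]
        exact hfix i hi.1
  obtain ⟨s, hsS, hsU, -⟩ := hswap Finset.univ
  have hsA : ∀ x ∈ A, (s : Matrix (Fin n) (Fin n) F) *ᵥ x ∈ B := by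
    intro x hx
    have hsum := congrArg Subtype.val (bA.sum_repr ⟨x, hx⟩)
    simp only [Submodule.coe_sum, Submodule.coe_smul] at hsum
    rw [← hsum, mulVec_sum]
    refine Submodule.sum_mem _ fun i _ => ?_
    rw [mulVec_smul, (hsU i (Finset.mem_univ i)).1]
    exact B.smul_mem _ (B.smul_mem _ (fB i).2)
  have hsB : ∀ x ∈ B, (s : Matrix (Fin n) (Fin n) F) *ᵥ x ∈ A := by
    intro x hx
    have hx' : (⟨x, hx⟩ : B) = ∑ j, L ⟨x, hx⟩ j • fB j := hLinj (by
      rw [map_sum]
      simp_rw [map_smul, hfB]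
      exact pi_eq_sum_univ' _)
    have hsum := congrArg Subtype.val hx'
    simp only [Submodule.coe_sum, Submodule.coe_smul] at hsum
    rw [hsum, mulVec_sum]
    refine Submodule.sum_mem _ fun i _ => ?_
    rw [mulVec_smul, (hsU i (Finset.mem_univ i)).2]
    exact A.smul_mem _ (A.smul_mem _ (bA i).2)
  have hsH : s ∈ Cfsg.Geo.decompositionStabilizer D ⊓
      (Cfsg.GU n F q ⊓ Cfsg.Geo.specialLinear (Fin n) F) :=
    ⟨hmem s (Equiv.swap 0 1) fun i x hx => by
      fin_cases i
      · exact hsA x hx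
      · exact hsB x hx, hsS⟩
  refine isMaximalIn_of_lt (lt_of_le_of_ne inf_le_right fun he => ?_) fun M hM hMS g hg hgH => ?_
  · let e₀ : Fin k := ⟨0, by omega⟩
    let e₁ : Fin k := ⟨1, by omega⟩
    have h01 : e₀ ≠ e₁ := by simp [e₀, e₁]
    have hv : f (eL e₀ + ζ • fL e₀) (eL e₀ + ζ • fL e₀) = 0 := by
      simp only [hf.add_left, herm_add_right hf, hf.smul_left, herm_smul_right hf, hee, hff, hef, hfe,
        if_true, hσζ]
      ring
    have hT := uTv_mem_su hF hv hζ (hd _ hv ζ)
    rw [← he] at hT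
    obtain ⟨π, hπ⟩ := hT.1
    have hx : eL e₀ + eL e₁ ∈ D 0 := add_mem (bA e₀).2 (bA e₁).2
    have him : tvMat (eL e₀ + ζ • fL e₀) (ζ • hDual f (eL e₀ + ζ • fL e₀)) *ᵥ (eL e₀ + eL e₁) ∈
        D (π 0) := by
      rw [← hπ 0]; exact ⟨_, hx, rfl⟩
    have hval : f (eL e₀ + eL e₁) (eL e₀ + ζ • fL e₀) = -ζ := by
      simp only [hf.add_left, herm_add_right hf, herm_smul_right hf, hee, hef, h01.symm, if_true,
        if_false, hσζ]
      ring
    rw [uTv_mulVec hf, hval, smul_add, ← add_assoc, smul_smul] at him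
    have hz : ζ * -ζ * ζ ≠ 0 := mul_ne_zero (mul_ne_zero hζ0 (neg_ne_zero.2 hζ0)) hζ0
    rcases Fin.exists_fin_two.1 ⟨π 0, rfl⟩ with h | h <;> rw [h] at him
    · have := (Submodule.add_mem_iff_right A (add_mem hx (A.smul_mem _ (bA e₀).2))).1 him
      have h0 := P.zero_of_mem ((A.smul_mem_iff hz).1 this) (fB e₀).2
      have := hfe e₀ e₀
      rw [if_pos rfl, show fL e₀ = 0 from h0, herm_zero_left hf] at this
      exact zero_ne_one this
    · have := (Submodule.add_mem_iff_left B (B.smul_mem _ (fB e₀).2)).1 him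
      have h0 := P.zero_of_mem (add_mem hx (A.smul_mem _ (bA e₀).2)) this
      change eL e₀ + eL e₁ + (ζ * -ζ) • eL e₀ = 0 at h0
      have h1 := congrArg (fun z => f z (fL e₁)) h0
      simp only [hf.add_left, hf.smul_left, hef, h01, if_true, if_false, herm_zero_left hf] at h1
      exact one_ne_zero (show (1 : F) = 0 by linear_combination h1)
  · have hiso : ∀ h ∈ M, ∀ a b, f ((h : Matrix (Fin n) (Fin n) F) *ᵥ a)
        ((h : Matrix (Fin n) (Fin n) F) *ᵥ b) = f a b := fun h hh a b => (hMS hh).1 a b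
    have hM' : ∀ u (hu : u ∈ A) (α : Fin n → F), α ∈ B → ∀ h : f u α = 0,
        hEich P.form u α 0 (P.isoA u hu u hu) h ∈ M := fun u hu α hα h => hM (hEH u hu α hα _ h)
    -- reversing a pair
    have hrev : ∀ a b (haa : f a a = 0) (hbb : f b b = 0) (hab : f a b = 0) (hba : f b a = 0),
        hEich hf a b 0 haa hab ∈ M → hEich hf b a 0 hbb hba ∈ M := by
      intro a b haa hbb hab hba h
      convert inv_mem h using 1
      rw [eq_comm]
      refine inv_eq_of_mul_eq_one_right (glExt_mulVec fun x => ?_)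
      rw [Units.val_mul, ← mulVec_mulVec, hEich_mulVec hf, hEich_mulVec hf, Units.val_one, one_mulVec]
      simp only [hf.add_left, hf.smul_left, haa, hbb, hab, hba]
      module
    have hM'' : ∀ u (hu : u ∈ B) (α : Fin n → F), α ∈ A → ∀ h : f u α = 0,
        hEich P.symm.form u α 0 (P.symm.isoA u hu u hu) h ∈ M := fun u hu α hα h =>
      hrev α u (P.isoA α hα α hα) (P.isoB u hu u hu) (herm_eq_zero_comm hf h) h
        (hM' α hα u hu _)
    have hg0 : ∀ x, (g : Matrix (Fin n) (Fin n) F) *ᵥ x = 0 → x = 0 := fun x e => by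
      rw [← inv_mulVec_mulVec g x, e, mulVec_zero]
    obtain ⟨U, U', hpol, hUM, u, hu, huA, huB⟩ : ∃ U U', ∃ hp : HPolar σ f k U U',
        (∀ u (hu : u ∈ U) (α : Fin n → F), α ∈ U' → ∀ h : f u α = 0,
          hEich hp.form u α 0 (hp.isoA u hu u hu) h ∈ M) ∧
        ∃ u ∈ U, (g : Matrix (Fin n) (Fin n) F) *ᵥ u ∉ A ∧
          (g : Matrix (Fin n) (Fin n) F) *ᵥ u ∉ B := by
      by_contra hno
      push Not at hno
      have hA' : ∀ x ∈ A.map (Matrix.toLin' (g : Matrix (Fin n) (Fin n) F)), x ∈ A ∨ x ∈ B := by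
        rintro _ ⟨x, hx, rfl⟩
        exact or_iff_not_imp_left.2 (hno A B P hM' x hx)
      have hB' : ∀ x ∈ B.map (Matrix.toLin' (g : Matrix (Fin n) (Fin n) F)), x ∈ A ∨ x ∈ B := by
        rintro _ ⟨x, hx, rfl⟩
        exact or_iff_not_imp_left.2 (hno B A P.symm hM'' x hx)
      have hnotboth : ∀ W : Submodule F (Fin n → F), Module.finrank F W = k →
          A.map (Matrix.toLin' (g : Matrix (Fin n) (Fin n) F)) ≤ W →
          B.map (Matrix.toLin' (g : Matrix (Fin n) (Fin n) F)) ≤ W → False := by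
        intro W hW h h'
        have htop : (⊤ : Submodule F (Fin n → F)).map
            (Matrix.toLin' (g : Matrix (Fin n) (Fin n) F)) ≤ W := by
          rw [← P.sup_eq, Submodule.map_sup]; exact sup_le h h'
        rw [Submodule.map_top] at htop
        have := Submodule.finrank_mono htop
        rw [LinearMap.finrank_range_of_inj (hinj g), Module.finrank_fin_fun, hW] at this
        omega
      apply hgH
      refine ⟨?_, hMS hg⟩
      rcases le_or_le_of_forall_mem hA' with h | h <;> rcases le_or_le_of_forall_mem hB' with h' | h'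
      · exact (hnotboth A P.dimA h h').elim
      · refine hmem g 1 fun i x hx => ?_
        fin_cases i
        · exact h ⟨x, hx, rfl⟩
        · exact h' ⟨x, hx, rfl⟩
      · refine hmem g (Equiv.swap 0 1) fun i x hx => ?_
        fin_cases i
        · exact h ⟨x, hx, rfl⟩
        · exact h' ⟨x, hx, rfl⟩
      · exact (hnotboth B P.dimB h h').elim
    obtain ⟨w, hw, w', hw', hsum⟩ := P.decomp ((g : Matrix (Fin n) (Fin n) F) *ᵥ u)
    have hw0 : w ≠ 0 := by rintro rfl; exact huB (by rw [← hsum, zero_add]; exact hw')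
    have hw'0 : w' ≠ 0 := by rintro rfl; exact huA (by rw [← hsum, add_zero]; exact hw)
    obtain ⟨α, hα, hαout⟩ : ∃ α ∈ U' ⊓ LinearMap.ker (hLin hf u),
        (g : Matrix (Fin n) (Fin n) F) *ᵥ α ∉ Submodule.span F {w, w'} := by
      by_contra hno
      push Not at hno
      have h1 := finrank_le_inf_ker U' (hLin hf u)
      rw [hpol.dimB] at h1
      have hle : (U' ⊓ LinearMap.ker (hLin hf u)).map (Matrix.toLin' (g : Matrix (Fin n) (Fin n) F)) ≤
          Submodule.span F {w, w'} := by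
        rintro _ ⟨α, hα, rfl⟩
        exact hno α hα
      have h2 := Submodule.finrank_mono hle
      rw [← (Submodule.equivMapOfInjective _ (hinj g) _).finrank_eq] at h2
      have h3 : Module.finrank F (Submodule.span F ({w, w'} : Set (Fin n → F))) ≤ 2 := by
        classical
        refine (finrank_span_le_card _).trans ?_
        rw [Set.toFinset_insert, Set.toFinset_singleton]
        exact Finset.card_le_two
      have hgu : (g : Matrix (Fin n) (Fin n) F) *ᵥ u ∈ Submodule.span F {w, w'} :=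
        hsum ▸ add_mem (Submodule.subset_span (by simp)) (Submodule.subset_span (by simp))
      rw [← Submodule.eq_of_le_of_finrank_le hle (by
        rw [← (Submodule.equivMapOfInjective _ (hinj g) _).finrank_eq]; omega)] at hgu
      obtain ⟨α, hα, hαu⟩ := hgu
      have h4 : α = u := hinj g hαu
      rw [h4] at hα
      have hu0 := hpol.zero_of_mem hu hα.1
      exact huB (by rw [hu0, mulVec_zero]; exact B.zero_mem)
    have hαu : f α u = 0 := hα.2
    set a := (g : Matrix (Fin n) (Fin n) F) *ᵥ α with hadef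
    set b := (g : Matrix (Fin n) (Fin n) F) *ᵥ u with hbdef
    have haa : f a a = 0 := (hiso g hg α α).trans (hpol.isoB α hα.1 α hα.1)
    have hbb : f b b = 0 := (hiso g hg u u).trans (hpol.isoA u hu u hu)
    have hab : f a b = 0 := (hiso g hg α u).trans hαu
    have hS : hEich hf a b 0 haa hab ∈ M := by
      have h1 := hUM u hu α hα.1 (herm_eq_zero_comm hf hαu)
      have h1' := hrev u α (hpol.isoA u hu u hu) (hpol.isoB α hα.1 α hα.1) (herm_eq_zero_comm hf hαu) hαu h1
      have h2 := mul_mem (mul_mem hg h1') (inv_mem hg)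
      rwa [hEich_conj hf (hiso g hg)] at h2
    have hSr : ∀ r : F, ∀ (h : f (r • a) (r • a) = 0) (h' : f (r • a) b = 0),
        hEich hf (r • a) b 0 h h' ∈ M := by
      intro r h h'
      have hrα : r • α ∈ U' := U'.smul_mem r hα.1
      have hru : f (r • α) u = 0 := by rw [hf.smul_left, hαu, mul_zero]
      have h1 := hUM u hu (r • α) hrα (herm_eq_zero_comm hf hru)
      have h1' := hrev u (r • α) (hpol.isoA u hu u hu) (hpol.isoB _ hrα _ hrα) (herm_eq_zero_comm hf hru) hru h1
      have h2 := mul_mem (mul_mem hg h1') (inv_mem hg)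
      rw [hEich_conj hf (hiso g hg)] at h2
      convert h2 using 2
      rw [hadef, mulVec_smul]
    obtain ⟨a₁, ha₁, a₂, ha₂, hasum⟩ := P.decomp a
    have hsM := hM hsH
    have hmove : ∀ U U' : Submodule F (Fin n → F),
        (∀ x ∈ U, (s : Matrix (Fin n) (Fin n) F) *ᵥ x ∈ U') →
        Module.finrank F U = k → Module.finrank F U' = k →
        (∀ x ∈ U, UFull σ f M x) → ∀ y ∈ U', UFull σ f M y := by
      intro U U' h hU hU' hF' y hy
      have he : U.map (Matrix.toLin' (s : Matrix (Fin n) (Fin n) F)) = U' :=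
        Submodule.eq_of_le_of_finrank_eq (by rintro _ ⟨x, hx, rfl⟩; exact h x hx)
          (by rw [← (Submodule.equivMapOfInjective _ (hinj s) U).finrank_eq, hU, hU'])
      rw [← he] at hy
      obtain ⟨x, hx, rfl⟩ := hy
      exact (hF' x hx).conj hf hsM (hiso s hsM)
    have hAB : (∀ x ∈ A, UFull σ f M x) ∧ ∀ x ∈ B, UFull σ f M x := by
      by_cases h : a₁ ∈ Submodule.span F {w}
      · have hFB : ∀ x ∈ B, UFull σ f M x := P.symm.uFull_of_pair_three hM'' (by omega) ha₂ ha₁
          (by rw [add_comm]; exact hasum) hw' hw (by rw [add_comm]; exact hsum) haa hbb hab hSr hw'0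
          fun h' => hαout (by
            rw [← hasum]
            exact add_mem (Submodule.span_mono (by simp) h) (Submodule.span_mono (by simp) h'))
        exact ⟨hmove B A hsB P.dimB P.dimA hFB, hFB⟩
      · have hFA : ∀ x ∈ A, UFull σ f M x :=
          P.uFull_of_pair_three hM' (by omega) ha₁ ha₂ hasum hw hw' hsum haa hbb hab hSr hw0 h
        exact ⟨hFA, hmove A B hsA P.dimA P.dimB hFA⟩
    refine su_le_of_uFull hF (by omega) fun x hxx => ?_
    obtain ⟨a', ha', b', hb', rfl⟩ := P.decomp x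
    by_cases h : f a' b' = 0
    · rcases eq_or_ne b' 0 with rfl | hb'0
      · rw [add_zero]; exact hAB.1 a' ha'
      obtain ⟨y, hy, hyb⟩ := hsepA b' hb' hb'0
      set y' := (ζ / f y b') • y with hy'
      have hy'A : y' ∈ A := A.smul_mem _ hy
      have hy'b : f y' b' = ζ := by rw [hy', hf.smul_left, div_mul_cancel₀ _ hyb]
      have hb'y' : f b' y' = -ζ := by rw [hf.herm, hy'b, hσζ]
      have e1 : f (a' - y') b' = -ζ := by
        rw [sub_eq_add_neg, ← neg_one_smul F y', hf.add_left, hf.smul_left, h, hy'b]; ring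
      have h1 : UFull σ f M (a' - y' + b') := (hAB.1 _ (sub_mem ha' hy'A)).add hf (hAB.2 b' hb')
        (by rw [e1]; exact neg_ne_zero.2 hζ0) (by
          have e2 : f b' (a' - y') = ζ := by rw [hf.herm, e1, map_neg, hσζ, neg_neg]
          rw [hf.add_left, herm_add_right hf, herm_add_right hf,
            P.isoA _ (sub_mem ha' hy'A) _ (sub_mem ha' hy'A), P.isoB b' hb' b' hb', e1, e2]
          ring)
      have h2 := h1.add hf (hAB.1 y' hy'A) (by
        rw [hf.add_left, P.isoA _ (sub_mem ha' hy'A) y' hy'A, zero_add, hb'y']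
        exact neg_ne_zero.2 hζ0) (by
        rw [show a' - y' + b' + y' = a' + b' by abel]; exact hxx)
      rwa [show a' - y' + b' + y' = a' + b' by abel] at h2
    · exact (hAB.1 a' ha').add hf (hAB.2 b' hb') h hxx

/-- Let F be the field with q² elements and n = 2k ≥ 13. Let D be a decomposition of F^n into two complementary subspaces of dimension k on each of which the standard unitary form vanishes identically. Then the elements of SU_n(q) preserving or interchanging the two subspaces form a maximal subgroup of SU_n(q). -/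
theorem result {F : Type*} [Field F] [Fintype F] (n q : ℕ) (hF : Fintype.card F = q ^ 2) (hn : 13 ≤ n) (k : ℕ) (hk : 2 * k = n) (D : Fin 2 → Submodule F (Fin n → F)) (hD : Cfsg.Geo.IsMDecomposition k D) (hts : ∀ i, Cfsg.Geo.IsTotallySingularFor (Cfsg.hermForm n F q) (D i)) : Cfsg.Geo.IsMaximalIn (Cfsg.GU n F q ⊓ Cfsg.Geo.specialLinear (Fin n) F) (Cfsg.Geo.decompositionStabilizer D ⊓ (Cfsg.GU n F q ⊓ Cfsg.Geo.specialLinear (Fin n) F)) :=
  base n q hF (by omega) k hk D hD hts

end Cfsg.Agent.S5657
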