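import Cfsg.Statements.S5658
import Cfsg.Agent.Lib.MaxSub.SkewSubfield
import Cfsg.Agent.Lib.MaxSub.HermFull
import Cfsg.Agent.Lib.Geom.HermNorm

set_option autoImplicit false
open Cfsg

namespace Cfsg.Agent.S5658

open CfsgLib.MaxSub Matrix

/-- the statement for n ≥ 9 and n = 6, 8 -/
theorem base {F : Type*} [Field F] [Fintype F] (n q : ℕ) (hF : Fintype.card F = q ^ 2) (hn : 9 ≤ n ∨ n = 8 ∨ n = 6) (F₀ : Subfield F) (r : ℕ) (hr : r.Prime) (hro : Odd r) (hcard : Fintype.card F = Nat.card F₀ ^ r) (P : Matrix.GeneralLinearGroup (Fin n) F) (hP : Cfsg.Geo.IsFormRationalStructure (Cfsg.hermForm n F q) F₀ 1 P) : Cfsg.Geo.IsMaximalIn (Cfsg.GU n F q ⊓ Cfsg.Geo.specialLinear (Fin n) F) (Cfsg.Geo.subfieldSubgroup F₀ P ⊓ (Cfsg.GU n F q ⊓ Cfsg.Geo.specialLinear (Fin n) F)) := by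
  classical
  have hf := isUnitaryForm_hermForm hF n
  set σ : F →+* F := (qConj hF).toRingHom with hσdef
  have hσ : ∀ x, σ x = qConj hF x := fun x => rfl
  have hσσ : ∀ x, σ (σ x) = x := fun x => qConj_qConj hF x
  have hsig : ∀ x ∈ F₀, σ x ∈ F₀ := fun x hx => by rw [hσ, qConj_apply]; exact pow_mem hx q
  have hσne : σ ≠ RingHom.id F := fun h => hf.ne_refl (RingEquiv.ext fun x => RingHom.congr_fun h x)
  -- the involution moves the subfield, the degree being odd
  obtain ⟨a₀, ha₀, ha₀σ⟩ : ∃ a ∈ F₀, σ a ≠ a := by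
    by_contra hno
    push Not at hno
    let e : F ≃ₐ[F₀] F := AlgEquiv.ofRingEquiv (f := qConj hF) fun x => hno x.1 x.2
    have he : e ^ 2 = 1 := AlgEquiv.ext fun x => by rw [sq, AlgEquiv.mul_apply]; exact hσσ x
    have hfin : Module.finrank F₀ F = r := by
      have h1 := Module.natCard_eq_pow_finrank (K := F₀) (V := F)
      rw [Nat.card_eq_fintype_card (α := F), hcard] at h1
      exact (Nat.pow_right_injective (Finite.one_lt_card (α := F₀)) h1).symm
    have h1 : orderOf e ∣ r := by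
      have := orderOf_dvd_natCard e
      rwa [IsGalois.card_aut_eq_finrank, hfin] at this
    have h2 : orderOf e ∣ 2 := orderOf_dvd_of_pow_eq_one he
    have h3 : e = 1 := orderOf_eq_one_iff.1 (Nat.dvd_one.1
      (Nat.Coprime.gcd_eq_one (Nat.coprime_two_right.2 hro) ▸ Nat.dvd_gcd h1 h2))
    exact hσne (RingHom.ext fun x => AlgEquiv.congr_fun h3 x)
  set θ := a₀ - σ a₀ with hθdef
  have hθ0 : θ ≠ 0 := sub_ne_zero.2 (Ne.symm ha₀σ)
  have hθσ : σ θ = -θ := by rw [hθdef, map_sub, hσσ, neg_sub]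
  have hθm : θ ∈ F₀ := sub_mem ha₀ (hsig _ ha₀)
  let B : (Fin n → F) →ₛₗ[σ] (Fin n → F) →ₗ[F] F :=
    LinearMap.mk₂'ₛₗ σ (RingHom.id F) (fun v x => θ * Cfsg.hermForm n F q x v)
      (fun a b x => by simp only [herm_add_right hf]; ring)
      (fun c a x => by simp only [herm_smul_right hf, smul_eq_mul, hσ]; ring)
      (fun a b x => by simp only [hf.add_left]; ring)
      (fun c a x => by simp only [hf.smul_left, RingHom.id_apply, smul_eq_mul]; ring)
  have hBv : ∀ v x, B v x = θ * Cfsg.hermForm n F q x v := fun v x => rfl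
  have hskew : ∀ x y, B y x = -σ (B x y) := fun x y => by
    rw [hBv, hBv, map_mul, hθσ, hσ, ← hf.herm x y]; ring
  have hB : IsSkew B := ⟨hσσ, hskew, fun x hx => by
    by_contra hx0
    obtain ⟨-, y, hy⟩ := hf.nondegenerate x hx0
    exact mul_ne_zero hθ0 hy (by rw [← hBv]; exact hx y)⟩
  have hrat : ∀ u v, B (incP F₀ P u) (incP F₀ P v) ∈ F₀ := fun u v => by
    have := hP (fun i => (v i : F)) (fun i => (u i : F)) (fun i => (v i).2) fun i => (u i).2
    rw [one_mul] at this
    exact mul_mem hθm this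
  -- traces and norms inside the subfield
  let σ₀ : F₀ →+* F₀ := (σ.comp F₀.subtype).codRestrict F₀ fun x => hsig x.1 x.2
  have hσ₀ : ∀ x : F₀, ((σ₀ x : F₀) : F) = σ (x : F) := fun x => rfl
  have hne₀ : σ₀ ≠ RingHom.id F₀ := fun h => ha₀σ (by
    rw [← hσ₀ ⟨a₀, ha₀⟩, h]; rfl)
  have hsmall : ∀ c : F, c * c ∈ F₀ → c ∈ F₀ := fun c hc => by
    by_contra hcm
    have hfin : Module.finrank F₀ F = r := by
      have h1 := Module.natCard_eq_pow_finrank (K := F₀) (V := F)
      rw [Nat.card_eq_fintype_card (α := F), hcard] at h1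
      exact (Nat.pow_right_injective (Finite.one_lt_card (α := F₀)) h1).symm
    have hc' : IsIntegral F₀ c := IsIntegral.of_finite F₀ c
    have h1 : (minpoly F₀ c).natDegree ∣ r := hfin ▸ minpoly.degree_dvd hc'
    have h2 : (minpoly F₀ c).natDegree ≤ 2 := by
      have h := Polynomial.natDegree_le_of_dvd
        (minpoly.dvd F₀ c (p := Polynomial.X ^ 2 - Polynomial.C (⟨c * c, hc⟩ : F₀))
          (by simp [sq, Subfield.coe_subtype]; exact sub_self _))
        (Polynomial.X_pow_sub_C_ne_zero (by norm_num) _)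
      rwa [Polynomial.natDegree_X_pow_sub_C] at h
    have h3 : (minpoly F₀ c).natDegree = 1 := by
      rcases (Nat.dvd_prime hr).1 h1 with h | h
      · exact h
      · obtain ⟨k, hk⟩ := hro; have := hr.two_le; omega
    obtain ⟨y, hy⟩ := minpoly.natDegree_eq_one_iff.1 h3
    exact hcm (hy ▸ y.2)
  refine skew_isMaximalIn B hB F₀ r hr hcard (by
      rw [Fintype.card_fin]
      refine hn.imp_right fun h68 => Or.inl ⟨?_, hsmall⟩
      rcases h68 with h8 | h6
      · exact Or.inr h8
      refine Or.inl ⟨h6, fun h2 => ?_⟩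
      obtain ⟨i, hi⟩ := (FiniteField.isSquare_neg_one_iff (F := F)).2 (by
        have hodd : Odd q := by
          rcases Nat.even_or_odd q with he | ho
          · exfalso
            apply h2
            have h1 : ringChar F = 2 := FiniteField.even_card_iff_char_two.2 (by
              rw [hF]; exact Nat.even_iff.1 (Nat.even_pow.2 ⟨he, by norm_num⟩))
            exact_mod_cast (ringChar.spec F 2).2 (h1 ▸ dvd_rfl)
          · exact ho
        rw [hF]
        obtain ⟨k, rfl⟩ := hodd
        have : (2 * k + 1) ^ 2 = 4 * (k * k + k) + 1 := by ring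
        omega)
      exact ⟨i, hsmall i (by rw [← hi]; exact neg_mem (one_mem _)), hi.symm⟩) P hrat hsig
    (fun W hW => ?_) (fun z e he hez => ?_) (fun S hS k hk => ?_) _ (fun g hg x y => ?_) (fun x k hx hk => ?_)
    (fun M hM => su_le_of_uFull hF (by omega) fun v hv => ⟨hv, fun c hc => ?_⟩)
  · -- isotropic vectors in rational planes
    obtain ⟨a, haW, ha0⟩ := Submodule.exists_mem_ne_zero_of_ne_bot (p := W) fun e => by
      rw [e, finrank_bot] at hW; omega
    by_cases hqa : B (incP F₀ P a) (incP F₀ P a) = 0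
    · exact ⟨a, haW, ha0, hqa⟩
    let L : (Fin n → F₀) →ₗ[F₀] F₀ :=
      { toFun := fun x => ⟨_, hrat a x⟩
        map_add' := fun x y => Subtype.ext (by simp [map_add])
        map_smul' := fun c x => Subtype.ext (by simp [incP_smul, bilin_smul_right]) }
    obtain ⟨⟨b, hbW⟩, hb, hb0⟩ := Submodule.exists_mem_ne_zero_of_ne_bot
      (p := LinearMap.ker (L ∘ₗ W.subtype)) fun e => by
        have h1 := (L ∘ₗ W.subtype).finrank_range_add_finrank_ker
        have h2 := Submodule.finrank_le (LinearMap.range (L ∘ₗ W.subtype))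
        rw [e, finrank_bot, add_zero] at h1
        rw [Module.finrank_self] at h2
        omega
    have hab : B (incP F₀ P a) (incP F₀ P b) = 0 := congrArg Subtype.val hb
    have hb0' : b ≠ 0 := fun h => hb0 (Subtype.ext h)
    by_cases hqb : B (incP F₀ P b) (incP F₀ P b) = 0
    · exact ⟨b, hbW, hb0', hqb⟩
    obtain ⟨t, ht⟩ := CfsgLib.Geom.exists_norm_eq hne₀ (fun x => Subtype.ext (hσσ x.1))
      (c := ⟨-B (incP F₀ P a) (incP F₀ P a) / B (incP F₀ P b) (incP F₀ P b),
        div_mem (neg_mem (hrat a a)) (hrat b b)⟩) (Subtype.ext (by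
          have e1 : σ (B (incP F₀ P a) (incP F₀ P a)) = -B (incP F₀ P a) (incP F₀ P a) := by
            linear_combination hskew (incP F₀ P a) (incP F₀ P a)
          have e2 : σ (B (incP F₀ P b) (incP F₀ P b)) = -B (incP F₀ P b) (incP F₀ P b) := by
            linear_combination hskew (incP F₀ P b) (incP F₀ P b)
          rw [hσ₀]
          show σ (-_ / _) = _
          rw [map_div₀, map_neg, e1, e2, neg_div_neg_eq]))
    have ht' : (t : F) * σ (t : F) = -B (incP F₀ P a) (incP F₀ P a) / B (incP F₀ P b) (incP F₀ P b) :=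
      congrArg Subtype.val ht
    refine ⟨a + t • b, add_mem haW (W.smul_mem t hbW), fun h => ?_, ?_⟩
    · refine hqa ?_
      have e := congrArg (B (incP F₀ P a)) (congrArg (incP F₀ P) h)
      rwa [map_add, map_add, incP_smul, bilin_smul_right, hab, mul_zero, add_zero, map_zero, map_zero] at e
    · simp only [map_add, LinearMap.add_apply, incP_smul, bilin_smul_left, bilin_smul_right, hab,
        hB.perp_symm hab, mul_zero, add_zero, zero_add]
      rw [← mul_assoc, ht', div_mul_cancel₀ _ hqb, add_neg_cancel]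
  · -- making a vector isotropic along an isotropic one
    set d := -B (incP F₀ P z) (incP F₀ P z) with hd
    set b := B (incP F₀ P e) (incP F₀ P z) with hb
    have hdσ : σ d = -d := by rw [hd, map_neg, ← hskew, neg_neg]
    set w := d * a₀ / θ with hw
    have hwd : w - σ w = d := by
      rw [hw, map_div₀, map_mul, hdσ, hθσ, hθdef]
      have := hθ0
      rw [hθdef] at this
      field_simp
    have hwm : σ (w / b) ∈ F₀ :=
      hsig _ (div_mem (div_mem (mul_mem (neg_mem (hrat z z)) ha₀) hθm) (hrat e z))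
    refine ⟨⟨_, hwm⟩, ?_⟩
    simp only [map_add, LinearMap.add_apply, incP_smul, bilin_smul_left, bilin_smul_right, he, mul_zero,
      add_zero, hσσ, hskew (incP F₀ P e) (incP F₀ P z)]
    rw [div_mul_cancel₀ _ hez, ← hb, map_div₀, mul_neg, div_mul_cancel₀ _ (fun h => hez ((map_eq_zero σ).1 h))]
    linear_combination hwd - hd
  · obtain ⟨a, ha⟩ := CfsgLib.Geom.exists_norm_eq hσne hσσ hk
    exact ha ▸ hS a
  · rw [hBv, hBv]
    exact congrArg (θ * ·) (hg.1 x y)
  · have hx' : Cfsg.hermForm n F q x x = 0 := (mul_eq_zero.1 (hBv x x ▸ hx)).resolve_left hθ0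
    have hc : k * θ + qConj hF (k * θ) = 0 := by
      rw [← hσ, map_mul, hk, hθσ]; ring
    refine ⟨_, uTv_mem_su hF hx' hc (by rw [smul_dotProduct, hDual_dot hf, hx', smul_zero]), fun y => ?_⟩
    rw [coe_tvGL, uTv_mulVec hf, hBv, mul_assoc]
  · have hk : σ (c / θ) = c / θ := by
      rw [map_div₀, hθσ, hσ, eq_neg_of_add_eq_zero_right hc, neg_div_neg_eq]
    obtain ⟨g, hg, hgv⟩ := hM v (c / θ) (by rw [hBv, hv, mul_zero]) hk
    rw [hasTv_iff (show (c • hDual (Cfsg.hermForm n F q) v) ⬝ᵥ v = 0 by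
      rw [smul_dotProduct, hDual_dot hf, hv, smul_zero])]
    convert hg using 1
    refine Units.ext (Matrix.ext_of_mulVec_single fun i => ?_)
    rw [coe_tvGL, uTv_mulVec hf, hgv, hBv, ← mul_assoc, div_mul_cancel₀ _ hθ0]

/-- Let F be the field with q² elements, n ≥ 13, and F₀ a subfield with |F| = |F₀| ^ r for an odd prime r. Let P be an invertible matrix such that the standard unitary form takes values in F₀ on the F₀-span of the columns of P. Then the elements of SU_n(q) lying in the subfield group of P (the conjugate by P of the product of GL_n(F₀) with the scalars) form a maximal subgroup of SU_n(q). -/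
theorem result {F : Type*} [Field F] [Fintype F] (n q : ℕ) (hF : Fintype.card F = q ^ 2) (hn : 13 ≤ n) (F₀ : Subfield F) (r : ℕ) (hr : r.Prime) (hro : Odd r) (hcard : Fintype.card F = Nat.card F₀ ^ r) (P : Matrix.GeneralLinearGroup (Fin n) F) (hP : Cfsg.Geo.IsFormRationalStructure (Cfsg.hermForm n F q) F₀ 1 P) : Cfsg.Geo.IsMaximalIn (Cfsg.GU n F q ⊓ Cfsg.Geo.specialLinear (Fin n) F) (Cfsg.Geo.subfieldSubgroup F₀ P ⊓ (Cfsg.GU n F q ⊓ Cfsg.Geo.specialLinear (Fin n) F)) :=
  base n q hF (Or.inl (by omega)) F₀ r hr hro hcard P hP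

end Cfsg.Agent.S5658
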