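import Cfsg.Statements.S5659
import Cfsg.Agent.Lib.MaxSub.SkewSubfield
import Cfsg.Agent.Lib.MaxSub.SymInvol
import Cfsg.Agent.Lib.MaxSub.HermFull

set_option autoImplicit false
open Cfsg

namespace Cfsg.Agent.S5659

open CfsgLib.MaxSub Matrix

/-- the statement down to dimension 6 -/
theorem base {F : Type*} [Field F] [Fintype F] (n q : ℕ) (hF : Fintype.card F = q ^ 2) (hn : 6 ≤ n) (hodd : Odd q) (F₀ : Subfield F) (hcard : Fintype.card F = Nat.card F₀ ^ 2) (P : Matrix.GeneralLinearGroup (Fin n) F) (hP : Cfsg.Geo.IsFormRationalStructure (Cfsg.hermForm n F q) F₀ 1 P) : Cfsg.Geo.IsMaximalIn (Cfsg.GU n F q ⊓ Cfsg.Geo.specialLinear (Fin n) F) (Cfsg.Geo.subfieldSubgroup F₀ P ⊓ (Cfsg.GU n F q ⊓ Cfsg.Geo.specialLinear (Fin n) F)) := by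
  classical
  have hf := isUnitaryForm_hermForm hF n
  set σ : F →+* F := (qConj hF).toRingHom with hσdef
  have hσ : ∀ x, σ x = qConj hF x := fun x => rfl
  have hσσ : ∀ x, σ (σ x) = x := fun x => qConj_qConj hF x
  have hσne : σ ≠ RingHom.id F := fun h => hf.ne_refl (RingEquiv.ext fun x => RingHom.congr_fun h x)
  have h2 : (2 : F) ≠ 0 := fun h => by
    have h1 : ringChar F = 2 := CharP.ringChar_of_prime_eq_zero Nat.prime_two (by exact_mod_cast h)
    have h3 := FiniteField.even_card_of_char_two h1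
    rw [hF] at h3
    exact (Nat.not_even_iff_odd.2 (hodd.pow (n := 2))) (Nat.even_iff.2 h3)
  haveI : NeZero (2 : F) := ⟨h2⟩
  have hq : Nat.card F₀ = q := by
    have := hcard.symm.trans hF
    exact Nat.pow_left_injective (by norm_num) this
  have hfin : Module.finrank F₀ F = 2 := by
    have h1 := Module.natCard_eq_pow_finrank (K := F₀) (V := F)
    rw [Nat.card_eq_fintype_card (α := F), hcard] at h1
    exact (Nat.pow_right_injective (Finite.one_lt_card (α := F₀)) h1).symm
  have hring : ∀ L : Subring F, (∀ x ∈ F₀, x ∈ L) → ∀ c ∈ L, c ∉ F₀ → ∀ x, x ∈ L := by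
    intro L hL c hc hc0
    let S : Subalgebra F₀ F :=
      { toSubsemiring := L.toSubsemiring
        algebraMap_mem' := fun x => hL _ x.2 }
    haveI := Subalgebra.isSimpleOrder_of_finrank_prime F₀ F (hfin.symm ▸ Nat.prime_two)
    rcases IsSimpleOrder.eq_bot_or_eq_top S with h | h
    · exfalso
      have hmem : c ∈ S := hc
      rw [h, Algebra.mem_bot] at hmem
      obtain ⟨y, rfl⟩ := hmem
      exact hc0 y.2
    · intro x
      have : x ∈ S := by rw [h]; trivial
      exact this
  have hfixed : ∀ x, σ x = x ↔ x ∈ F₀ := by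
    have h1 : ∀ x ∈ F₀, σ x = x := fun x hx => by
      haveI : Fintype F₀ := Fintype.ofFinite F₀
      have := congrArg Subtype.val (FiniteField.pow_card (⟨x, hx⟩ : F₀))
      rw [Fintype.card_eq_nat_card, hq] at this
      rw [hσ, qConj_apply]
      simpa using this
    refine fun x => ⟨fun hx => ?_, h1 x⟩
    by_contra hx0
    refine hσne (RingHom.ext fun y => ?_)
    exact hring (RingHom.eqLocus σ (RingHom.id F)) h1 x hx hx0 y
  obtain ⟨a₀, ha₀⟩ : ∃ a, σ a ≠ a := by
    by_contra hno
    push Not at hno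
    exact hσne (RingHom.ext hno)
  set θ := a₀ - σ a₀ with hθdef
  have hθ0 : θ ≠ 0 := sub_ne_zero.2 (Ne.symm ha₀)
  have hθσ : σ θ = -θ := by rw [hθdef, map_sub, hσσ, neg_sub]
  let B : (Fin n → F) →ₛₗ[σ] (Fin n → F) →ₗ[F] F :=
    LinearMap.mk₂'ₛₗ σ (RingHom.id F) (fun v x => θ * Cfsg.hermForm n F q x v)
      (fun a b x => by simp only [herm_add_right hf]; ring)
      (fun c a x => by simp only [herm_smul_right hf, smul_eq_mul, hσ]; ring)
      (fun a b x => by simp only [hf.add_left]; ring)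
      (fun c a x => by simp only [hf.smul_left, RingHom.id_apply, smul_eq_mul]; ring)
  have hBv : ∀ v x, B v x = θ * Cfsg.hermForm n F q x v := fun v x => rfl
  have hskew : ∀ x y, B y x = -σ (B x y) := fun x y => by
    rw [hBv, hBv, map_mul, hθσ, hσ, ← hf.herm x y]; ring
  have hB : IsSkew B := ⟨hσσ, hskew, fun x hx => by
    by_contra hx0
    obtain ⟨-, y, hy⟩ := hf.nondegenerate x hx0
    exact mul_ne_zero hθ0 hy (by rw [← hBv]; exact hx y)⟩
  -- the symmetric form on the rational vectors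
  set inc := incP F₀ P with hinc
  have hmem : ∀ u v, Cfsg.hermForm n F q (inc u) (inc v) ∈ F₀ := fun u v => by
    have := hP (fun i => (u i : F)) (fun i => (v i : F)) (fun i => (u i).2) fun i => (v i).2
    rwa [one_mul] at this
  let β : LinearMap.BilinMap F₀ (Fin n → F₀) F₀ :=
    LinearMap.mk₂ F₀ (fun u v => ⟨Cfsg.hermForm n F q (inc u) (inc v) / 2,
      div_mem (hmem u v) ((hfixed 2).1 (map_ofNat σ 2))⟩)
      (fun a b x => Subtype.ext (by
        simp only [map_add, hf.add_left, AddMemClass.coe_add]; ring))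
      (fun c a x => Subtype.ext (by
        simp only [hinc, incP_smul, hf.smul_left, smul_eq_mul, MulMemClass.coe_mul]; ring))
      (fun a b x => Subtype.ext (by
        simp only [map_add, herm_add_right hf, AddMemClass.coe_add]; ring))
      (fun c a x => Subtype.ext (by
        simp only [hinc, incP_smul, herm_smul_right hf, smul_eq_mul, MulMemClass.coe_mul]
        rw [← hσ, (hfixed _).2 c.2]; ring))
  let Q₀ : QuadraticForm F₀ (Fin n → F₀) := LinearMap.BilinMap.toQuadraticMap β
  have hbval : ∀ x y, B (inc x) (inc y) = θ * ((QuadraticMap.polar Q₀ x y : F₀) : F) := fun x y => by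
    have e : QuadraticMap.polar Q₀ x y = β x y + β y x := LinearMap.BilinMap.polar_toQuadraticMap x y
    rw [e, hBv, AddMemClass.coe_add]
    show _ = θ * (Cfsg.hermForm n F q (inc x) (inc y) / 2 + Cfsg.hermForm n F q (inc y) (inc x) / 2)
    rw [hf.herm (inc x) (inc y), ← hσ, (hfixed _).2 (hmem y x), add_halves]
  have hdimF : Module.finrank F (Fin n → F) = n := Module.finrank_fin_fun F
  have hsingle : ∀ i, inc (Pi.single i (1 : F₀)) =
      (P : Matrix (Fin n) (Fin n) F) *ᵥ Pi.single i (1 : F) := fun i => by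
    rw [hinc, incP_apply]
    congr 1
    funext j
    simp only [Pi.single_apply]; split <;> simp
  have A : SymRat B Q₀ inc θ := by
    refine ⟨hB, incP_smul F₀ P, fun u v h => ?_, ?_, hbval, hfixed, hθσ, hθ0, h2,
      by rw [hdimF, Module.finrank_fin_fun], by rw [hdimF]; exact hn, hring⟩
    · have h1 := congrArg (fun v => ((P⁻¹ : Matrix.GeneralLinearGroup (Fin n) F) :
        Matrix (Fin n) (Fin n) F) *ᵥ v) h
      simp only [hinc, incP_apply, inv_mulVec_mulVec] at h1
      exact funext fun i => Subtype.ext (congrFun h1 i)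
    · rw [eq_top_iff]
      intro x _
      rw [← mulVec_mulVec_inv P x, pi_eq_sum_univ' (((P⁻¹ : Matrix.GeneralLinearGroup (Fin n) F) :
        Matrix (Fin n) (Fin n) F) *ᵥ x), mulVec_sum]
      exact Submodule.sum_mem _ fun i _ => by
        rw [mulVec_smul]
        exact Submodule.smul_mem _ _ (Submodule.subset_span ⟨Pi.single i 1, hsingle i⟩)
  let Φ : sIsoms B →* Matrix.GeneralLinearGroup (Fin n) F := CfsgLib.Geom.glOfEquiv.comp (sIsoms B).subtype
  have hΦ : ∀ (g : sIsoms B) v, (Φ g : Matrix (Fin n) (Fin n) F) *ᵥ v = g.1 v := fun g v =>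
    CfsgLib.Geom.glOfEquiv_mulVec g.1 v
  have hiff : ∀ g : sIsoms B, Φ g ∈ Cfsg.Geo.subfieldSubgroup F₀ P ↔ SKRat inc g := fun g => by
    rw [mem_subfieldSubgroup_iff]
    simp only [hΦ, SKRat, hinc]
  have htvG : ∀ x k, B x x = 0 → σ k = k →
      Φ (sTv B x k) ∈ Cfsg.GU n F q ⊓ Cfsg.Geo.specialLinear (Fin n) F := fun x k hx hk => by
    have hx' : Cfsg.hermForm n F q x x = 0 := (mul_eq_zero.1 (hBv x x ▸ hx)).resolve_left hθ0
    have hc : k * θ + qConj hF (k * θ) = 0 := by
      rw [← hσ, map_mul, hk, hθσ]; ring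
    convert uTv_mem_su hF hx' hc (by rw [smul_dotProduct, hDual_dot hf, hx', smul_zero]) using 1
    refine Units.ext (Matrix.ext_of_mulVec_single fun i => ?_)
    rw [coe_tvGL, uTv_mulVec hf, hΦ, hB.tv_apply hx hk, hBv, mul_assoc]
  refine ⟨lt_of_le_not_ge inf_le_right fun hle => ?_, fun M hHM hMG => ?_⟩
  · obtain ⟨v, hv, -, hvout⟩ := A.exists_out ∅ (by simp)
    obtain ⟨w, hw, hwS, hwout⟩ := A.exists_out {v} (by simp)
    simp only [Finset.coe_singleton] at hwout
    have hv0 : v ≠ 0 := fun e => hvout (e ▸ Submodule.zero_mem _)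
    have hvw : B (inc v) (inc w) = 0 := hwS v (by simp)
    have hs : B (inc v + inc w) (inc v + inc w) = 0 := by rw [← map_add]; exact A.iso_add hv hw hvw
    have h1 : σ (-1 : F) = -1 := by rw [map_neg, map_one]
    have hmem' : Φ (sEv B (inc v) (inc w)) ∈ Cfsg.GU n F q ⊓ Cfsg.Geo.specialLinear (Fin n) F := by
      rw [sEv, map_mul, map_mul]
      exact mul_mem (mul_mem (htvG _ _ hs (map_one σ)) (htvG _ _ hv h1)) (htvG _ _ hw h1)
    obtain ⟨c, hc, h⟩ := (hiff _).1 (hle hmem').1
    obtain ⟨p, -, -, hpv⟩ := A.exists_unit ∅ (by simp) (b := v) (by simpa using hv0)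
    obtain ⟨y, hy⟩ := h v
    rw [hB.ev_apply hv hw hvw, hv, A.inc_symm hvw] at hy
    have hcm : c ∈ F₀ := by
      have e := congrArg (B (inc p)) hy
      rw [zero_smul, zero_smul, add_zero, add_zero, bilin_smul_right, hpv] at e
      have := A.rat' p y
      rwa [← e, mul_left_comm, inv_mul_cancel₀ hθ0, mul_one] at this
    obtain ⟨z, -, hzS, hzv⟩ := A.exists_unit {w} (by simp) (b := v) (by
      simpa using not_mem_span_symm hv0 hwout)
    obtain ⟨u, -, -, huw⟩ := A.exists_unit ∅ (by simp) (b := w)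
      (fun hm => hwout (Submodule.span_mono (by simp) hm))
    obtain ⟨y', hy'⟩ := h z
    rw [hB.ev_apply hv hw hvw, hzS w (by simp), zero_smul, add_zero, A.bsymm v z, hzv] at hy'
    have e := congrArg (B (inc u)) hy'
    rw [bilin_smul_right, map_add, bilin_smul_right, huw] at e
    have hθm : θ ∈ F₀ := by
      rw [show θ = θ⁻¹ * B (inc u) (inc y') / c - θ⁻¹ * B (inc u) (inc z) by rw [← e]; field_simp; ring]
      exact sub_mem (div_mem (A.rat' _ _) hcm) (A.rat' _ _)
    have e2 := (hfixed θ).2 hθm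
    rw [hθσ] at e2
    exact hθ0 ((mul_eq_zero.1 (show (2 : F) * θ = 0 by linear_combination -e2)).resolve_left h2)
  by_cases hex : ∀ g ∈ M, g ∈ Cfsg.Geo.subfieldSubgroup F₀ P
  · exact Or.inl (le_antisymm (fun g hg => ⟨hex g hg, hMG hg⟩) hHM)
  refine Or.inr (le_antisymm hMG ?_)
  by_contra hle
  refine hex fun g hg => ?_
  have C : SymCtx B Q₀ inc θ (M.comap Φ) := by
    refine ⟨A, fun g₀ hg₀ => ?_, fun hall => hle (su_le_of_uFull hF (by omega) fun v hv => ⟨hv, fun c hc => ?_⟩)⟩
    · let N : Matrix.GeneralLinearGroup (Fin n) F := P *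
        Matrix.GeneralLinearGroup.map (F₀.subtype : F₀ →+* F) (CfsgLib.Geom.glOfEquiv g₀.1) * P⁻¹
      have hN : ∀ z, (N : Matrix (Fin n) (Fin n) F) *ᵥ inc z = inc (g₀.1 z) := fun z => by
        simp only [N, hinc, incP_apply, Units.val_mul, ← mulVec_mulVec, inv_mulVec_mulVec]
        congr 1
        funext i
        rw [← CfsgLib.Geom.glOfEquiv_mulVec g₀.1 z]
        exact (RingHom.map_mulVec (F₀.subtype : F₀ →+* F) (CfsgLib.Geom.glOfEquiv g₀.1 :
          Matrix (Fin n) (Fin n) F₀) z i).symm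
      obtain ⟨e, he⟩ := (CfsgLib.Geom.glOfEquiv_bijective (F := F) (ι := Fin n)).2 N
      have hez : ∀ z, e (inc z) = inc (g₀.1 z) := fun z => by
        rw [← CfsgLib.Geom.glOfEquiv_mulVec, he, hN]
      have heS : e ∈ sIsoms B := by
        have h0 : ∀ a b, B (e (inc b)) (e (inc a)) = B (inc b) (inc a) := fun a b => by
          rw [hez, hez, hbval, hbval]
          exact congrArg (fun t : F₀ => θ * (t : F)) (CfsgLib.Geom.OrthSub.polar_map g₀ b a)
        intro x y
        have h1 : ∀ b, (B (e (inc b))).comp e.toLinearMap = B (inc b) := fun b =>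
          LinearMap.ext_on A.span (by rintro _ ⟨a, rfl⟩; exact h0 a b)
        have h3 : y ∈ Submodule.span F (Set.range inc) := by rw [A.span]; trivial
        induction h3 using Submodule.span_induction with
        | mem u hu => obtain ⟨b, rfl⟩ := hu; exact LinearMap.congr_fun (h1 b) x
        | zero => simp
        | add u v _ _ hu hv => simp only [map_add, LinearMap.add_apply, hu, hv]
        | smul k u _ hu => simp only [map_smul, bilin_smul_left, hu]
      refine ⟨⟨e, heS⟩, ?_, hez⟩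
      show Φ ⟨e, heS⟩ ∈ M
      refine hHM ⟨(hiff _).2 ⟨1, one_ne_zero, fun z => ⟨g₀.1 z, by rw [one_smul]; exact hez z⟩⟩, ?_, ?_⟩
      · intro x y
        have h := heS x y
        rw [hBv, hBv] at h
        show Cfsg.hermForm n F q ((Φ ⟨e, heS⟩ : Matrix (Fin n) (Fin n) F) *ᵥ x)
          ((Φ ⟨e, heS⟩ : Matrix (Fin n) (Fin n) F) *ᵥ y) = _
        rw [hΦ, hΦ]
        exact mul_left_cancel₀ hθ0 h
      · show Matrix.GeneralLinearGroup.det (CfsgLib.Geom.glOfEquiv e) = 1
        rw [he]
        let D : CfsgLib.Geom.quadIsoms Q₀ →* F₀ˣ :=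
          (Matrix.GeneralLinearGroup.det.comp CfsgLib.Geom.glOfEquiv).comp
            (CfsgLib.Geom.quadIsoms Q₀).subtype
        have hD : D g₀ = 1 := Abelianization.commutator_subset_ker D hg₀
        simp only [N, map_mul, map_inv, mul_inv_cancel_comm]
        rw [show Matrix.GeneralLinearGroup.det (Matrix.GeneralLinearGroup.map (F₀.subtype : F₀ →+* F)
            (CfsgLib.Geom.glOfEquiv g₀.1)) = Units.map (F₀.subtype : F₀ →+* F).toMonoidHom (D g₀) from
          Matrix.GeneralLinearGroup.map_det _ _, hD, map_one]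
    · have hk : σ (c / θ) = c / θ := by
        rw [map_div₀, hθσ, hσ, eq_neg_of_add_eq_zero_right hc, neg_div_neg_eq]
      have hv' : B v v = 0 := by rw [hBv, hv, mul_zero]
      have h : Φ (sTv B v (c / θ)) ∈ M := hall v (c / θ) hv' hk
      rw [hasTv_iff (show (c • hDual (Cfsg.hermForm n F q) v) ⬝ᵥ v = 0 by
        rw [smul_dotProduct, hDual_dot hf, hv, smul_zero])]
      convert h using 1
      refine Units.ext (Matrix.ext_of_mulVec_single fun i => ?_)
      rw [coe_tvGL, uTv_mulVec hf, hΦ, hB.tv_apply hv' hk, hBv, ← mul_assoc, div_mul_cancel₀ _ hθ0]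
  obtain ⟨e, rfl⟩ := (CfsgLib.Geom.glOfEquiv_bijective (F := F) (ι := Fin n)).2 g
  have he : e ∈ sIsoms B := fun x y => by
    rw [hBv, hBv]
    have := (hMG hg).1 x y
    show θ * Cfsg.hermForm n F q (e x) (e y) = _
    rw [← CfsgLib.Geom.glOfEquiv_mulVec e x, ← CfsgLib.Geom.glOfEquiv_mulVec e y]
    exact congrArg (θ * ·) this
  exact (hiff ⟨e, he⟩).2 (C.sym_dichotomy (g := ⟨e, he⟩) hg)

/-- Let F be the field with q² elements, q odd, n ≥ 13, and F₀ the subfield with q elements. Let P be an invertible matrix such that the standard unitary form takes values in F₀ on the F₀-span of the columns of P (so it restricts to a non-degenerate symmetric bilinear form there). Then the elements of SU_n(q) lying in the subfield group of P form a maximal subgroup of SU_n(q). -/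
theorem result {F : Type*} [Field F] [Fintype F] (n q : ℕ) (hF : Fintype.card F = q ^ 2) (hn : 13 ≤ n) (hodd : Odd q) (F₀ : Subfield F) (hcard : Fintype.card F = Nat.card F₀ ^ 2) (P : Matrix.GeneralLinearGroup (Fin n) F) (hP : Cfsg.Geo.IsFormRationalStructure (Cfsg.hermForm n F q) F₀ 1 P) : Cfsg.Geo.IsMaximalIn (Cfsg.GU n F q ⊓ Cfsg.Geo.specialLinear (Fin n) F) (Cfsg.Geo.subfieldSubgroup F₀ P ⊓ (Cfsg.GU n F q ⊓ Cfsg.Geo.specialLinear (Fin n) F)) :=
  base n q hF (by omega) hodd F₀ hcard P hP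

end Cfsg.Agent.S5659
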