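import Cfsg.Statements.S5660
import Cfsg.Agent.Lib.MaxSub.HermFull
import Cfsg.Agent.Lib.MaxSub.Rational
-- import your own Cfsg.Agent.* helpers here

set_option autoImplicit false
open Cfsg

namespace Cfsg.Agent.S5660

open Matrix CfsgLib.MaxSub

section
variable {F : Type*} [Field F] {n : ℕ} {F₀ : Subfield F}

/-- rational vectors inside `Fⁿ` -/
def inc (u : Fin n → F₀) : Fin n → F := fun i => (u i : F)

theorem inc_add (u v : Fin n → F₀) : inc (u + v) = inc u + inc v := funext fun _ => rfl

theorem inc_smul (c : F₀) (u : Fin n → F₀) : inc (c • u) = (c : F) • inc u := funext fun _ => rfl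

theorem inc_injective : Function.Injective (inc : (Fin n → F₀) → Fin n → F) := fun u v h =>
  funext fun i => Subtype.ext (congrFun h i)

theorem inc_rat (u : Fin n → F₀) : RatVec F₀ (inc u) := fun i => (u i).2

theorem exists_inc {x : Fin n → F} (h : RatVec F₀ x) : ∃ u : Fin n → F₀, inc u = x :=
  ⟨fun i => ⟨x i, h i⟩, rfl⟩

/-- coefficients of a rational combination of independent rational vectors are rational -/
theorem coeff_rat {x y : Fin n → F₀} (hx : x ≠ 0) (hy : y ∉ Submodule.span F₀ {x}) {a b : F}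
    (h : RatVec F₀ (a • inc x + b • inc y)) : a ∈ F₀ ∧ b ∈ F₀ := by
  obtain ⟨i, hi⟩ : ∃ i, x i ≠ 0 := Function.ne_iff.1 hx
  have hne : y - (y i / x i) • x ≠ 0 := fun e =>
    hy (Submodule.mem_span_singleton.2 ⟨_, (sub_eq_zero.1 e).symm⟩)
  obtain ⟨k, hk⟩ : ∃ k, (y - (y i / x i) • x) k ≠ 0 := Function.ne_iff.1 hne
  obtain ⟨r, hr⟩ := exists_inc h
  have hi' : (x i : F) ≠ 0 := by simpa using hi
  have hk' : ((y k : F) - (y i : F) / (x i : F) * (x k : F)) ≠ 0 := by
    intro e
    apply hk
    apply Subtype.ext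
    simpa using e
  have e1 : a * (x i : F) + b * (y i : F) = r i := (congrFun hr i).symm
  have e2 : a * (x k : F) + b * (y k : F) = r k := (congrFun hr k).symm
  have hb : b = ((r k : F) - (r i : F) / (x i : F) * (x k : F)) /
      ((y k : F) - (y i : F) / (x i : F) * (x k : F)) := by
    rw [eq_div_iff hk', ← e1, ← e2]; field_simp; ring
  have hbm : b ∈ F₀ := by
    rw [hb]
    exact div_mem (sub_mem (r k).2 (mul_mem (div_mem (r i).2 (x i).2) (x k).2))
      (sub_mem (y k).2 (mul_mem (div_mem (y i).2 (x i).2) (x k).2))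
  refine ⟨?_, hbm⟩
  rw [show a = ((r i : F) - b * (y i : F)) / (x i : F) by rw [eq_div_iff hi']; linear_combination e1]
  exact div_mem (sub_mem (r i).2 (mul_mem hbm (y i).2)) (x i).2

end

/-- the statement down to dimension 4 -/
theorem base_four {F : Type*} [Field F] [Fintype F] (n q : ℕ) (hF : Fintype.card F = q ^ 2) (hn : 4 ≤ n) (heven : Even n) (F₀ : Subfield F) (hcard : Fintype.card F = Nat.card F₀ ^ 2) (ζ : F) (hζ0 : ζ ≠ 0) (hζ : ζ + ζ ^ q = 0) (P : Matrix.GeneralLinearGroup (Fin n) F) (hP : Cfsg.Geo.IsFormRationalStructure (Cfsg.hermForm n F q) F₀ ζ P) (halt : ∀ u : Fin n → F, (∀ i, u i ∈ F₀) → Cfsg.hermForm n F q (Matrix.mulVec (P : Matrix (Fin n) (Fin n) F) u) (Matrix.mulVec (P : Matrix (Fin n) (Fin n) F) u) = 0) : Cfsg.Geo.IsMaximalIn (Cfsg.GU n F q ⊓ Cfsg.Geo.specialLinear (Fin n) F) (Cfsg.Geo.subfieldSubgroup F₀ P ⊓ (Cfsg.GU n F q ⊓ Cfsg.Geo.specialLinear (Fin n) F)) := by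
  classical
  set σ := qConj hF with hσdef
  have hf : Cfsg.Geo.IsUnitaryForm σ (Cfsg.hermForm n F q) := isUnitaryForm_hermForm hF n
  set f := Cfsg.hermForm n F q with hfdef
  have hq : Nat.card F₀ = q := by
    have : Nat.card F₀ ^ 2 = q ^ 2 := by rw [← hcard, hF]
    exact Nat.pow_left_injective two_ne_zero this
  -- `F₀` is the fixed field of `σ`
  haveI : Fintype F₀ := Fintype.ofFinite _
  have hfix : ∀ x ∈ F₀, σ x = x := fun x hx => by
    rw [qConj_apply]
    have := congrArg Subtype.val (FiniteField.pow_card (⟨x, hx⟩ : F₀))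
    rw [← Nat.card_eq_fintype_card, hq] at this
    exact this
  have hq1 : 1 < q := hq ▸ Finite.one_lt_card
  have hmemF : ∀ x, σ x = x → x ∈ F₀ := by
    intro x hx
    have hp : ((Polynomial.X : Polynomial F) ^ q - Polynomial.X) ≠ 0 :=
      FiniteField.X_pow_card_sub_X_ne_zero F hq1
    by_contra hno
    let S : Finset F := insert x ((Finset.univ : Finset F₀).image Subtype.val)
    have hS : S ⊆ ((Polynomial.X : Polynomial F) ^ q - Polynomial.X).roots.toFinset := by
      intro y hy
      rw [Multiset.mem_toFinset, Polynomial.mem_roots hp, Polynomial.IsRoot, Polynomial.eval_sub,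
        Polynomial.eval_pow, Polynomial.eval_X, sub_eq_zero, ← qConj_apply hF]
      rcases Finset.mem_insert.1 hy with rfl | hy
      · exact hx
      · obtain ⟨z, -, rfl⟩ := Finset.mem_image.1 hy
        exact hfix _ z.2
    have h1 := (Finset.card_le_card hS).trans (Multiset.toFinset_card_le _)
    have h2 := h1.trans (Polynomial.card_roots' _)
    rw [FiniteField.X_pow_card_sub_X_natDegree_eq F hq1, Finset.card_insert_of_notMem (fun h => by
      obtain ⟨z, -, rfl⟩ := Finset.mem_image.1 h
      exact hno z.2), Finset.card_image_of_injective _ Subtype.val_injective, Finset.card_univ,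
      ← Nat.card_eq_fintype_card, hq] at h2
    omega
  have hσζ : σ ζ = -ζ := by rw [qConj_apply]; linear_combination hζ
  -- the alternating form on rational vectors
  set e : (Fin n → F₀) → (Fin n → F) := fun u => (P : Matrix (Fin n) (Fin n) F) *ᵥ inc u with hedef
  have he_add : ∀ u v, e (u + v) = e u + e v := fun u v => by simp only [e, inc_add, mulVec_add]
  have he_smul : ∀ (c : F₀) u, e (c • u) = (c : F) • e u := fun c u => by
    simp only [e, inc_smul, mulVec_smul]
  have hPinj : ∀ x y, (P : Matrix (Fin n) (Fin n) F) *ᵥ x = (P : Matrix (Fin n) (Fin n) F) *ᵥ y → x = y :=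
    fun x y h => by rw [← inv_mulVec_mulVec P x, h, inv_mulVec_mulVec]
  have he0 : e 0 = 0 := by simp only [e]; rw [show inc (0 : Fin n → F₀) = 0 from rfl, mulVec_zero]
  let B : (Fin n → F₀) → (Fin n → F₀) → F₀ := fun u v => ⟨ζ * f (e u) (e v), hP _ _ (inc_rat u) (inc_rat v)⟩
  have hB : ∀ u v, (B u v : F) = ζ * f (e u) (e v) := fun u v => rfl
  have hBself : ∀ u, f (e u) (e u) = 0 := fun u => halt _ (inc_rat u)
  have hBswap : ∀ u v, f (e v) (e u) = -f (e u) (e v) := by
    intro u v
    have h := hBself (u + v)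
    rw [he_add, hf.add_left, herm_add_right hf, herm_add_right hf, hBself, hBself] at h
    linear_combination h
  let L : (Fin n → F₀) → (Fin n → F₀) →ₗ[F₀] F₀ := fun v =>
    { toFun := fun u => B u v
      map_add' := fun a b => Subtype.ext (by simp [hB, he_add, hf.add_left, mul_add])
      map_smul' := fun c a => Subtype.ext (by simp [hB, he_smul, hf.smul_left, mul_left_comm]) }
  have hL0 : ∀ {u v}, u ∈ LinearMap.ker (L v) ↔ f (e u) (e v) = 0 := by
    intro u v
    rw [LinearMap.mem_ker]
    constructor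
    · intro h
      have := congrArg Subtype.val h
      exact (mul_eq_zero.1 this).resolve_left hζ0
    · intro h
      apply Subtype.ext
      show ζ * f (e u) (e v) = 0
      rw [h, mul_zero]
  -- every vector is `inc p + θ • inc r`
  obtain ⟨θ, hθ⟩ : ∃ θ, σ θ ≠ θ := by
    by_contra hno
    push Not at hno
    exact hf.ne_refl (RingEquiv.ext hno)
  have hθσ : θ - σ θ ≠ 0 := sub_ne_zero.2 (Ne.symm hθ)
  have hsplit : ∀ z : Fin n → F, ∃ p r : Fin n → F₀, z = inc p + θ • inc r := by
    intro z
    have h1 : ∀ i, (z i - σ (z i)) / (θ - σ θ) ∈ F₀ := fun i => hmemF _ (by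
      rw [map_div₀, map_sub, map_sub, hf.involutive, hf.involutive, ← neg_sub, ← neg_sub θ (σ θ),
        neg_div_neg_eq])
    have h2 : ∀ i, z i - θ * ((z i - σ (z i)) / (θ - σ θ)) ∈ F₀ := fun i => hmemF _ (by
      rw [map_sub, map_mul, hfix _ (h1 i)]
      field_simp
      ring)
    exact ⟨fun i => ⟨_, h2 i⟩, fun i => ⟨_, h1 i⟩, funext fun i => by simp [inc]⟩
  have hnondeg : ∀ v : Fin n → F₀, v ≠ 0 → ∃ u, f (e u) (e v) ≠ 0 := by
    intro v hv
    by_contra hno
    push Not at hno
    have hev : e v ≠ 0 := fun h => hv (inc_injective (by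
      refine hPinj _ _ ?_
      rw [show inc (0 : Fin n → F₀) = 0 from rfl, mulVec_zero]
      exact h))
    obtain ⟨x, hx⟩ := (hf.nondegenerate _ hev).1
    obtain ⟨p, r, hpr⟩ := hsplit (((P⁻¹ : Matrix.GeneralLinearGroup (Fin n) F) :
      Matrix (Fin n) (Fin n) F) *ᵥ x)
    apply hx
    rw [← mulVec_mulVec_inv P x, hpr, mulVec_add, mulVec_smul, hf.add_left, hf.smul_left]
    show f (e p) (e v) + θ * f (e r) (e v) = 0
    rw [hno, hno, mul_zero, add_zero]
  -- kernels of independent functionals
  have hsep : ∀ x y : Fin n → F₀, x ∉ Submodule.span F₀ {y} →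
      ∃ w, f (e w) (e y) = 0 ∧ f (e w) (e x) ≠ 0 := by
    intro x y hxy
    by_contra hno
    push Not at hno
    have hx0 : x ≠ 0 := fun h => hxy (h ▸ Submodule.zero_mem _)
    rcases eq_or_ne y 0 with hy | hy
    · obtain ⟨u, hu⟩ := hnondeg x hx0
      exact hu (hno u (by rw [hy, he0]; exact herm_zero_right hf _))
    obtain ⟨w₀, hw₀⟩ := hnondeg y hy
    set a : F₀ := B w₀ x / B w₀ y with ha
    have ha' : (a : F) = f (e w₀) (e x) / f (e w₀) (e y) := by
      rw [ha]; push_cast; rw [hB, hB, mul_div_mul_left _ _ hζ0]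
    refine hxy (Submodule.mem_span_singleton.2 ⟨a, ?_⟩)
    by_contra hne
    obtain ⟨u, hu⟩ := hnondeg (x - a • y) (sub_ne_zero.2 (Ne.symm hne))
    apply hu
    set c : F₀ := B u y / B w₀ y with hc
    have hc' : (c : F) = f (e u) (e y) / f (e w₀) (e y) := by
      rw [hc]; push_cast; rw [hB, hB, mul_div_mul_left _ _ hζ0]
    have h1 : f (e (u + (-c) • w₀)) (e y) = 0 := by
      rw [he_add, he_smul, hf.add_left, hf.smul_left]; push_cast; rw [hc']; field_simp; ring
    have h2 := hno _ h1
    rw [he_add, he_smul, hf.add_left, hf.smul_left] at h2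
    push_cast at h2
    rw [hc'] at h2
    rw [sub_eq_add_neg, ← neg_smul, he_add, he_smul, herm_add_right hf, herm_smul_right hf]
    push_cast
    rw [map_neg, hfix _ a.2, ha']
    field_simp at h2 ⊢
    linear_combination h2
  have htr : ∀ {u v}, f (e u) (e v) + σ (f (e u) (e v)) = 0 := fun {u v} => by
    rw [← hf.herm (e v) (e u), hBswap u v, add_neg_cancel]
  have hinv_tr : ∀ {u v}, (f (e u) (e v))⁻¹ + σ (f (e u) (e v))⁻¹ = 0 := fun {u v} => by
    have h : σ (f (e u) (e v)) = -f (e u) (e v) := by linear_combination htr (u := u) (v := v)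
    rw [map_inv₀, h, inv_neg, add_neg_cancel]
  -- membership in the subgroup
  have hmem : ∀ g : Matrix.GeneralLinearGroup (Fin n) F, g ∈ Cfsg.Geo.subfieldSubgroup F₀ P ↔
      ∃ c : F, c ≠ 0 ∧ RatMat F₀ (c • (((P⁻¹ * g * P : Matrix.GeneralLinearGroup (Fin n) F)) :
        Matrix (Fin n) (Fin n) F)) := by
    intro g
    rw [← mem_subfieldSubgroup_one, Cfsg.Geo.subfieldSubgroup, Cfsg.Geo.subfieldSubgroup,
      Subgroup.mem_map_equiv, Subgroup.mem_map_equiv, MulAut.conj_symm_apply, MulAut.conj_symm_apply,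
      inv_one, one_mul, mul_one]
  -- transvections with rational centre
  have hT : ∀ u : Fin n → F₀, ∀ c, c + σ c = 0 → ∀ h : (c • hDual f (e u)) ⬝ᵥ e u = 0,
      tvGL (e u) (c • hDual f (e u)) h ∈
        Cfsg.Geo.subfieldSubgroup F₀ P ⊓ (Cfsg.GU n F q ⊓ Cfsg.Geo.specialLinear (Fin n) F) := by
    intro u c hc h
    refine ⟨(hmem _).2 ⟨1, one_ne_zero, fun i k => ?_⟩, uTv_mem_su hF (hBself u) hc h⟩
    rw [one_smul, Units.val_mul, Units.val_mul, coe_tvGL, mul_tvMat_mul _ _ _ _ (by
      rw [← Units.val_mul, inv_mul_cancel, Units.val_one])]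
    refine ratMat_tvMat ?_ (fun m => ?_) i k
    · rw [show e u = (P : Matrix (Fin n) (Fin n) F) *ᵥ inc u from rfl, inv_mulVec_mulVec]
      exact inc_rat u
    · have hcol : ((c • hDual f (e u)) ᵥ* (P : Matrix (Fin n) (Fin n) F)) m =
          c * f (e (Pi.single m 1)) (e u) := by
        have : inc (Pi.single m (1 : F₀)) = Pi.single m (1 : F) := funext fun i => by
          simp only [inc, Pi.single_apply]; split <;> simp
        rw [show e (Pi.single m 1) = (P : Matrix (Fin n) (Fin n) F) *ᵥ Pi.single m 1 by rw [← this],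
          ← hDual_dot hf, dotProduct_mulVec, smul_vecMul]
        simp
      rw [hcol]
      refine hmemF _ ?_
      rw [map_mul]
      linear_combination -(f (e (Pi.single m 1)) (e u)) * hc + σ c * htr (u := Pi.single m 1) (v := u)
  have hH : ∀ g ∈ Cfsg.Geo.subfieldSubgroup F₀ P, ∀ u, ∃ (t : F) (r : Fin n → F₀),
      (g : Matrix (Fin n) (Fin n) F) *ᵥ e u = t • e r := by
    intro g hg u
    obtain ⟨c, hc, hA⟩ := (hmem g).1 hg
    obtain ⟨r, hr⟩ := exists_inc (hA.mulVec (inc_rat u))
    refine ⟨c⁻¹, r, ?_⟩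
    show _ = c⁻¹ • ((P : Matrix (Fin n) (Fin n) F) *ᵥ inc r)
    rw [hr, smul_mulVec, mulVec_smul, smul_smul, inv_mul_cancel₀ hc, one_smul, Units.val_mul,
      Units.val_mul, ← mulVec_mulVec, ← mulVec_mulVec, mulVec_mulVec_inv]
  refine isMaximalIn_of_lt (lt_of_le_of_ne inf_le_right fun he => ?_) fun M hM hMS g hg hgH => ?_
  · -- a unitary transvection outside the subgroup
    let x : Fin n → F₀ := Pi.single ⟨0, by omega⟩ 1
    have hx : x ≠ 0 := by simp [x]
    obtain ⟨w, hw⟩ := hnondeg x hx
    obtain ⟨y, hy, hyx⟩ : ∃ y, y ∈ LinearMap.ker (L x) ∧ y ∉ Submodule.span F₀ {x} := by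
      by_contra hno
      push Not at hno
      have h1 := finrank_le_inf_ker (⊤ : Submodule F₀ (Fin n → F₀)) (L x)
      rw [finrank_top, Module.finrank_fin_fun, top_inf_eq] at h1
      have h2 := Submodule.finrank_mono (show LinearMap.ker (L x) ≤ Submodule.span F₀ {x} from hno)
      rw [finrank_span_singleton hx] at h2
      omega
    have hxy : x ∉ Submodule.span F₀ {y} := fun h => by
      obtain ⟨s, hs⟩ := Submodule.mem_span_singleton.1 h
      have hs0 : s ≠ 0 := fun e' => hx (by rw [← hs, e', zero_smul])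
      exact hyx (Submodule.mem_span_singleton.2 ⟨s⁻¹, by rw [← hs, inv_smul_smul₀ hs0]⟩)
    obtain ⟨z, hzy, hzx⟩ := hsep x y hxy
    set v := e x + θ • e y
    have hxy0 : f (e y) (e x) = 0 := hL0.1 hy
    have hv : f v v = 0 := by
      simp only [v, hf.add_left, herm_add_right hf, hf.smul_left, herm_smul_right hf, hBself, hxy0,
        hBswap y x, neg_zero, mul_zero, add_zero]
    set c := (f (e z) (e x))⁻¹
    have hd : (c • hDual f v) ⬝ᵥ v = 0 := by rw [smul_dotProduct, hDual_dot hf, hv, smul_zero]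
    have hmemv := uTv_mem_su (n := n) hF hv (hinv_tr (u := z) (v := x)) hd
    rw [← he] at hmemv
    obtain ⟨t, r, htr'⟩ := hH _ hmemv.1 z
    rw [coe_tvGL, uTv_mulVec hf, show f (e z) v = f (e z) (e x) by
      simp [v, herm_add_right hf, herm_smul_right hf, hzy], inv_mul_cancel₀ hzx, one_smul] at htr'
    -- `z + x + θ y` is no multiple of a rational vector
    have h1 : inc (z + x) + θ • inc y = t • inc r := hPinj _ _ (by
      rw [mulVec_add, mulVec_smul, mulVec_smul]
      show e (z + x) + θ • e y = t • e r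
      rw [he_add, ← htr']; simp only [v]; abel)
    have hzxy : z + x ≠ 0 := fun h => hzx (by
      rw [eq_neg_of_add_eq_zero_left h, show -x = (-1 : F₀) • x by simp, he_smul, hf.smul_left, hBself,
        mul_zero])
    have hy' : y ∉ Submodule.span F₀ {z + x} := by
      intro h
      obtain ⟨s, hs⟩ := Submodule.mem_span_singleton.1 h
      have hs0 : (s : F) ≠ 0 := fun e' => hyx (by
        rw [← hs, show s = 0 from Subtype.ext e', zero_smul]; exact Submodule.zero_mem _)
      have := hxy0
      rw [← hs, he_smul, hf.smul_left, he_add, hf.add_left, hBself, add_zero] at this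
      exact hzx ((mul_eq_zero.1 this).resolve_left hs0)
    have ht : t ≠ 0 := by
      rintro rfl
      rw [zero_smul] at h1
      have := coeff_rat (a := 1) (b := θ) hzxy hy' (by
        rw [one_smul, h1]; exact fun i => zero_mem _)
      exact hθ (hfix θ this.2)
    obtain ⟨ha, hb⟩ := coeff_rat (a := t⁻¹) (b := t⁻¹ * θ) hzxy hy' (by
      rw [mul_smul, ← smul_add, h1, inv_smul_smul₀ ht]; exact inc_rat r)
    refine hθ (hfix θ ?_)
    have := div_mem hb ha
    rwa [mul_div_assoc, div_eq_mul_inv, ← mul_assoc, mul_comm _ θ, mul_assoc,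
      mul_inv_cancel₀ (inv_ne_zero ht), mul_one] at this
  · have hbase : ∀ u, UFull σ f M (e u) := fun u => ⟨hBself u, fun c hc =>
      (hasTv_iff (by rw [smul_dotProduct, hDual_dot hf, hBself, smul_zero])).2 (hM (hT u c hc _))⟩
    have hiso : ∀ h ∈ M, ∀ a b,
        f ((h : Matrix (Fin n) (Fin n) F) *ᵥ a) ((h : Matrix (Fin n) (Fin n) F) *ᵥ b) = f a b :=
      fun h hh a b => (hMS hh).1 a b
    -- some rational vector leaves the rational lines
    obtain ⟨x, y, hyx, hxyF, hxy0⟩ : ∃ x y : Fin n → F₀, y ∉ Submodule.span F₀ {x} ∧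
        UFull σ f M (e x + θ • e y) ∧ x ≠ 0 := by
      by_contra hno
      push Not at hno
      -- then `g` maps rational vectors to rational lines
      let A := ((P⁻¹ * g * P : Matrix.GeneralLinearGroup (Fin n) F))
      have hline : ∀ u : Fin n → F₀, ∃ (t : F) (r : Fin n → F₀),
          (A : Matrix (Fin n) (Fin n) F) *ᵥ inc u = t • inc r := by
        intro u
        obtain ⟨p, r, hpr⟩ := hsplit ((A : Matrix (Fin n) (Fin n) F) *ᵥ inc u)
        have hfull : UFull σ f M (e p + θ • e r) := by
          have hh := (hbase u).conj hf hg (hiso g hg)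
          convert hh using 1
          simp only [e]
          rw [← mulVec_smul, ← mulVec_add, ← hpr]
          simp only [A, Units.val_mul, ← mulVec_mulVec, mulVec_mulVec_inv]
        rcases eq_or_ne p 0 with rfl | hp
        · exact ⟨θ, r, by rw [hpr, show inc (0 : Fin n → F₀) = 0 from rfl, zero_add]⟩
        · by_cases hrp : r ∈ Submodule.span F₀ {p}
          · obtain ⟨s, rfl⟩ := Submodule.mem_span_singleton.1 hrp
            refine ⟨1 + θ * (s : F), p, ?_⟩
            rw [hpr, inc_smul, add_smul, one_smul, mul_smul]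
          · exact absurd (hno p r hrp hfull) hp
      choose t r htr' using fun i : Fin n => hline (Pi.single i 1)
      have hsingle : ∀ i : Fin n, inc (Pi.single i (1 : F₀)) = Pi.single i (1 : F) := fun i => funext fun k => by
        simp only [inc, Pi.single_apply]; split <;> simp
      have hAinj : ∀ z, (A : Matrix (Fin n) (Fin n) F) *ᵥ z = 0 → z = 0 := fun z hz => by
        rw [← inv_mulVec_mulVec A z, hz, mulVec_zero]
      have ht0 : ∀ i, t i ≠ 0 := fun i h => by
        have := hAinj _ (by rw [htr' i, h, zero_smul])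
        rw [hsingle] at this
        simpa using congrFun this i
      have hr0 : ∀ i, r i ≠ 0 := fun i h => by
        have := hAinj _ (by rw [htr' i, h]; exact smul_zero _)
        rw [hsingle] at this
        simpa using congrFun this i
      have hratio : ∀ i k, t k / t i ∈ F₀ := by
        intro i k
        rcases eq_or_ne i k with rfl | hik
        · rw [div_self (ht0 i)]; exact one_mem _
        have hind : r k ∉ Submodule.span F₀ {r i} := by
          intro h
          obtain ⟨s, hs⟩ := Submodule.mem_span_singleton.1 h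
          have := hAinj ((t i)⁻¹ • (s : F) • inc (Pi.single i (1 : F₀)) - (t k)⁻¹ • inc (Pi.single k (1 : F₀))) (by
            simp only [mulVec_sub, mulVec_smul, htr', smul_smul]
            rw [inv_mul_cancel₀ (ht0 k), one_smul, ← hs, inc_smul,
              show (t i)⁻¹ * (s : F) * t i = (s : F) by field_simp [ht0 i], sub_self])
          have := congrFun this k
          simp [hsingle, Ne.symm hik, ht0 k] at this
        obtain ⟨t', r', h'⟩ := hline (Pi.single i 1 + Pi.single k 1)
        rw [inc_add, mulVec_add, htr', htr'] at h'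
        have ht' : t' ≠ 0 := by
          rintro rfl
          rw [zero_smul] at h'
          have := hAinj (inc (Pi.single i (1 : F₀)) + inc (Pi.single k 1)) (by
            rw [mulVec_add, htr', htr', h'])
          simpa [hsingle, hik] using congrFun this i
        obtain ⟨e1, e2⟩ := coeff_rat (a := t'⁻¹ * t i) (b := t'⁻¹ * t k) (hr0 i) hind (by
          rw [mul_smul, mul_smul, ← smul_add, h', inv_smul_smul₀ ht']; exact inc_rat r')
        have := div_mem e2 e1
        rwa [mul_div_mul_left _ _ (inv_ne_zero ht')] at this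
      refine hgH ⟨(hmem g).2 ⟨(t ⟨0, by omega⟩)⁻¹, inv_ne_zero (ht0 _), fun i k => ?_⟩, hMS hg⟩
      have h1 := congrFun (htr' k) i
      rw [hsingle] at h1
      simp only [mulVec_single, MulOpposite.op_one, one_smul, Pi.smul_apply, smul_eq_mul,
        Matrix.col_apply] at h1
      rw [Matrix.smul_apply, smul_eq_mul, h1, ← mul_assoc, inv_mul_eq_div]
      exact mul_mem (hratio _ k) (r k i).2
    have hxy : x ∉ Submodule.span F₀ {y} := fun h => by
      obtain ⟨s, hs⟩ := Submodule.mem_span_singleton.1 h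
      have hs0 : s ≠ 0 := fun e' => hxy0 (by rw [← hs, e', zero_smul])
      exact hyx (Submodule.mem_span_singleton.2 ⟨s⁻¹, by rw [← hs, inv_smul_smul₀ hs0]⟩)
    have hy0 : y ≠ 0 := fun h => hyx (h ▸ Submodule.zero_mem _)
    have horth : ∀ a b : Fin n → F₀, f (e a + θ • e b) (e a + θ • e b) = 0 → f (e a) (e b) = 0 := by
      intro a b h
      simp only [hf.add_left, herm_add_right hf, hf.smul_left, herm_smul_right hf, hBself,
        hBswap a b] at h
      have h' : (σ θ - θ) * f (e a) (e b) = 0 := by linear_combination h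
      exact (mul_eq_zero.1 h').resolve_left (sub_ne_zero.2 hθ)
    -- moving one component
    have moveX : ∀ a a' b, UFull σ f M (e a + θ • e b) → f (e a') (e b) = 0 →
        f (e a) (e a') ≠ 0 → UFull σ f M (e a' + θ • e b) := by
      intro a a' b h hb hne
      have hab := horth a b h.1
      have hc := hinv_tr (u := a) (v := a')
      have h0 : ((f (e a) (e a'))⁻¹ • hDual f (e (a' - a))) ⬝ᵥ e (a' - a) = 0 := by
        rw [smul_dotProduct, hDual_dot hf, hBself, smul_zero]
      have := h.conj hf (hM (hT (a' - a) _ hc h0)) (hiso _ (hM (hT (a' - a) _ hc h0)))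
      have heq : e (a' - a) = e a' + (-1 : F) • e a := by
        rw [sub_eq_add_neg, show -a = (-1 : F₀) • a by simp, he_add, he_smul]; simp
      rw [coe_tvGL, uTv_mulVec hf, hf.add_left, hf.smul_left,
        show f (e b) (e (a' - a)) = 0 by
          rw [heq, herm_add_right hf, herm_smul_right hf, hBswap a' b, hb, hBswap a b, hab]; simp,
        show f (e a) (e (a' - a)) = f (e a) (e a') by
          rw [heq, herm_add_right hf, herm_smul_right hf, hBself]; simp,
        mul_zero, add_zero, inv_mul_cancel₀ hne, one_smul, heq] at this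
      convert this using 1
      module
    have moveY : ∀ a b b', UFull σ f M (e a + θ • e b) → f (e a) (e b') = 0 →
        f (e b) (e b') ≠ 0 → UFull σ f M (e a + θ • e b') := by
      intro a b b' h hb hne
      have hab := horth a b h.1
      have hc := hinv_tr (u := b) (v := b')
      have h0 : ((f (e b) (e b'))⁻¹ • hDual f (e (b' - b))) ⬝ᵥ e (b' - b) = 0 := by
        rw [smul_dotProduct, hDual_dot hf, hBself, smul_zero]
      have := h.conj hf (hM (hT (b' - b) _ hc h0)) (hiso _ (hM (hT (b' - b) _ hc h0)))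
      have heq : e (b' - b) = e b' + (-1 : F) • e b := by
        rw [sub_eq_add_neg, show -b = (-1 : F₀) • b by simp, he_add, he_smul]; simp
      rw [coe_tvGL, uTv_mulVec hf, hf.add_left, hf.smul_left,
        show f (e a) (e (b' - b)) = 0 by
          rw [heq, herm_add_right hf, herm_smul_right hf, hb, hab]; simp,
        show f (e b) (e (b' - b)) = f (e b) (e b') by
          rw [heq, herm_add_right hf, herm_smul_right hf, hBself]; simp,
        zero_add, show (f (e b) (e b'))⁻¹ * (θ * f (e b) (e b')) = θ by field_simp, heq] at this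
      convert this using 1
      module
    have both : ∀ a c d : Fin n → F₀, a ∉ Submodule.span F₀ {c} → d ∉ Submodule.span F₀ {c} →
        ∃ w, f (e w) (e c) = 0 ∧ f (e w) (e a) ≠ 0 ∧ f (e w) (e d) ≠ 0 := by
      intro a c d ha hd
      obtain ⟨u, hu, hua⟩ := hsep a c ha
      obtain ⟨v, hv, hvd⟩ := hsep d c hd
      by_cases h : f (e u) (e d) = 0
      · by_cases h' : f (e v) (e a) = 0
        · exact ⟨u + v, by rw [he_add, hf.add_left, hu, hv, add_zero],
            by rw [he_add, hf.add_left, h', add_zero]; exact hua,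
            by rw [he_add, hf.add_left, h, zero_add]; exact hvd⟩
        · exact ⟨v, hv, h', hvd⟩
      · exact ⟨u, hu, hua, h⟩
    have goX : ∀ a a' b, a ∉ Submodule.span F₀ {b} → a' ∉ Submodule.span F₀ {b} →
        UFull σ f M (e a + θ • e b) → f (e a') (e b) = 0 → UFull σ f M (e a' + θ • e b) := by
      intro a a' b ha ha' h hb
      obtain ⟨w, hw, hwa, hwa'⟩ := both a b a' ha ha'
      exact moveX w a' b (moveX a w b h hw (by rw [hBswap w a]; exact neg_ne_zero.2 hwa)) hb hwa'
    have goY : ∀ a b b', b ∉ Submodule.span F₀ {a} → b' ∉ Submodule.span F₀ {a} →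
        UFull σ f M (e a + θ • e b) → f (e a) (e b') = 0 → UFull σ f M (e a + θ • e b') := by
      intro a b b' hb hb' h hab
      obtain ⟨w, hw, hwb, hwb'⟩ := both b a b' hb hb'
      exact moveY a w b' (moveY a b w h (by rw [hBswap w a, hw, neg_zero])
        (by rw [hBswap w b]; exact neg_ne_zero.2 hwb)) hab hwb'
    refine su_le_of_uFull hF (by omega) fun v hv => ?_
    obtain ⟨p, r, hpr⟩ := hsplit (((P⁻¹ : Matrix.GeneralLinearGroup (Fin n) F) :
      Matrix (Fin n) (Fin n) F) *ᵥ v)
    have hv' : v = e p + θ • e r := by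
      rw [← mulVec_mulVec_inv P v, hpr, mulVec_add, mulVec_smul]
    subst hv'
    rcases eq_or_ne p 0 with rfl | hp
    · rw [he0, zero_add]; exact (hbase r).smul hf θ
    by_cases hrp : r ∈ Submodule.span F₀ {p}
    · obtain ⟨s, rfl⟩ := Submodule.mem_span_singleton.1 hrp
      rw [he_smul, smul_smul]
      have := (hbase p).smul hf (1 + θ * (s : F))
      rwa [add_smul, one_smul] at this
    have hpr' : p ∉ Submodule.span F₀ {r} := fun h => by
      obtain ⟨s, hs⟩ := Submodule.mem_span_singleton.1 h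
      have hs0 : s ≠ 0 := fun e' => hp (by rw [← hs, e', zero_smul])
      exact hrp (Submodule.mem_span_singleton.2 ⟨s⁻¹, by rw [← hs, inv_smul_smul₀ hs0]⟩)
    have hr0 : r ≠ 0 := fun h => hrp (h ▸ Submodule.zero_mem _)
    -- a common partner of `y` and `r`
    obtain ⟨p₁, hp₁, hp₁y, hp₁r⟩ : ∃ p₁, p₁ ∈ LinearMap.ker (L y) ⊓ LinearMap.ker (L r) ∧
        p₁ ∉ Submodule.span F₀ {y} ∧ p₁ ∉ Submodule.span F₀ {r} := by
      have h1 := finrank_le_inf_ker (⊤ : Submodule F₀ (Fin n → F₀)) (L y)
      rw [finrank_top, Module.finrank_fin_fun, top_inf_eq] at h1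
      have h2 := finrank_le_inf_ker (LinearMap.ker (L y)) (L r)
      by_contra hno
      push Not at hno
      have h3 : Module.finrank F₀ (LinearMap.ker (L y) ⊓ LinearMap.ker (L r) : Submodule F₀ (Fin n → F₀)) ≤ 1 := by
        rcases le_or_le_of_forall_mem (U := LinearMap.ker (L y) ⊓ LinearMap.ker (L r))
          (A := Submodule.span F₀ {y}) (B := Submodule.span F₀ {r})
          (fun w hw => or_iff_not_imp_left.2 (hno w hw)) with h | h <;>
        exact (Submodule.finrank_mono h).trans (finrank_span_le_card _ |>.trans (by simp))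
      omega
    have hflip : ∀ {a b : Fin n → F₀}, a ≠ 0 → b ∉ Submodule.span F₀ {a} → a ∉ Submodule.span F₀ {b} := by
      intro a b ha hb h
      obtain ⟨s, hs⟩ := Submodule.mem_span_singleton.1 h
      have hs0 : s ≠ 0 := fun e' => ha (by rw [← hs, e', zero_smul])
      exact hb (Submodule.mem_span_singleton.2 ⟨s⁻¹, by rw [← hs, inv_smul_smul₀ hs0]⟩)
    have s1 := goX x p₁ y hxy hp₁y hxyF (hL0.1 hp₁.1)
    have s2 := goY p₁ y r (hflip hy0 hp₁y) (hflip hr0 hp₁r) s1 (hL0.1 hp₁.2)
    exact goX p₁ p r hp₁r hpr' s2 (horth p r hv)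

/-- the statement down to dimension 6 -/
theorem base {F : Type*} [Field F] [Fintype F] (n q : ℕ) (hF : Fintype.card F = q ^ 2) (hn : 6 ≤ n) (heven : Even n) (F₀ : Subfield F) (hcard : Fintype.card F = Nat.card F₀ ^ 2) (ζ : F) (hζ0 : ζ ≠ 0) (hζ : ζ + ζ ^ q = 0) (P : Matrix.GeneralLinearGroup (Fin n) F) (hP : Cfsg.Geo.IsFormRationalStructure (Cfsg.hermForm n F q) F₀ ζ P) (halt : ∀ u : Fin n → F, (∀ i, u i ∈ F₀) → Cfsg.hermForm n F q (Matrix.mulVec (P : Matrix (Fin n) (Fin n) F) u) (Matrix.mulVec (P : Matrix (Fin n) (Fin n) F) u) = 0) : Cfsg.Geo.IsMaximalIn (Cfsg.GU n F q ⊓ Cfsg.Geo.specialLinear (Fin n) F) (Cfsg.Geo.subfieldSubgroup F₀ P ⊓ (Cfsg.GU n F q ⊓ Cfsg.Geo.specialLinear (Fin n) F)) :=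
  base_four n q hF (le_trans (by norm_num) hn) heven F₀ hcard ζ hζ0 hζ P hP halt

/-- Let F be the field with q² elements, n ≥ 13 even, and F₀ the subfield with q elements. Let ζ be a non-zero element with ζ + ζ^q = 0 and P an invertible matrix such that ζ times the standard unitary form takes values in F₀ on the F₀-span of the columns of P and the form vanishes on every pair (u, u) of that span (so ζ times the form restricts to a non-degenerate alternating form there). Then the elements of SU_n(q) lying in the subfield group of P form a maximal subgroup of SU_n(q). -/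
theorem result {F : Type*} [Field F] [Fintype F] (n q : ℕ) (hF : Fintype.card F = q ^ 2) (hn : 13 ≤ n) (heven : Even n) (F₀ : Subfield F) (hcard : Fintype.card F = Nat.card F₀ ^ 2) (ζ : F) (hζ0 : ζ ≠ 0) (hζ : ζ + ζ ^ q = 0) (P : Matrix.GeneralLinearGroup (Fin n) F) (hP : Cfsg.Geo.IsFormRationalStructure (Cfsg.hermForm n F q) F₀ ζ P) (halt : ∀ u : Fin n → F, (∀ i, u i ∈ F₀) → Cfsg.hermForm n F q (Matrix.mulVec (P : Matrix (Fin n) (Fin n) F) u) (Matrix.mulVec (P : Matrix (Fin n) (Fin n) F) u) = 0) : Cfsg.Geo.IsMaximalIn (Cfsg.GU n F q ⊓ Cfsg.Geo.specialLinear (Fin n) F) (Cfsg.Geo.subfieldSubgroup F₀ P ⊓ (Cfsg.GU n F q ⊓ Cfsg.Geo.specialLinear (Fin n) F)) :=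
  base n q hF (by omega) heven F₀ hcard ζ hζ0 hζ P hP halt

end Cfsg.Agent.S5660
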