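import Cfsg.Statements.S1525
import Mathlib
import Cfsg.Agent.S1498
import Cfsg.Agent.Lib.Char.Basic

set_option autoImplicit false
open Cfsg

namespace Cfsg.Agent.S1525

/-- Under the Dade hypothesis for (A, L, H), let χ be a class function of G and let ψ be a function on L whose value at each a ∈ A is the average of χ over the coset a·H(a). Then (1/|G|) Σ |χ g|² over the elements g of G conjugate into some coset a·H(a) with a ∈ A is at least (1/|L|) Σ_{a ∈ A ∩ L} |ψ a|². -/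
theorem result {G : Type*} [Group G] [Fintype G] (A : Set G) (L : Subgroup G) [Fintype L] (H : G → Subgroup G) (hD : Cfsg.DadeHypothesis A L H) (χ : G → ℂ) (hχ : Cfsg.IsClassFunction G χ) (ψ : L → ℂ) (hψ : ∀ a : L, (a : G) ∈ A → ψ a = (Nat.card (H a) : ℂ)⁻¹ * ∑ᶠ u ∈ (H a : Set G), χ (a * u)) : (Nat.card L : ℝ)⁻¹ * ∑ᶠ a ∈ {a : L | (a : G) ∈ A}, ‖ψ a‖ ^ 2 ≤ (Nat.card G : ℝ)⁻¹ * ∑ᶠ g ∈ {g : G | ∃ a ∈ A, ∃ u ∈ H a, ∃ x : G, x * g * x⁻¹ = a * u}, ‖χ g‖ ^ 2 := by
  classical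
  let A' : Finset G := Finset.univ.filter (· ∈ A)
  let U : G → Finset G := fun a => Finset.univ.filter (· ∈ H a)
  let D : Finset G := Finset.univ.filter fun g => ∃ a ∈ A, ∃ u ∈ H a, ∃ x : G, x * g * x⁻¹ = a * u
  let F : G → ℝ := fun g => ‖χ g‖ ^ 2
  let w : G → ℝ := fun a => (Nat.card (H a) : ℝ)⁻¹
  have hU : ∀ a, (U a).card = Nat.card (H a) := fun a => by
    rw [Nat.card_eq_fintype_card, Fintype.card_subtype]
  have hself : ∀ a ∈ A, a ∈ L ⊓ Subgroup.centralizer ({a} : Set G) := fun a ha =>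
    ⟨hD.subset ha, Subgroup.mem_centralizer_singleton_iff.mpr rfl⟩
  have hR : ∑ᶠ g ∈ {g : G | ∃ a ∈ A, ∃ u ∈ H a, ∃ x : G, x * g * x⁻¹ = a * u}, ‖χ g‖ ^ 2 = ∑ g ∈ D, F g := by
    rw [finsum_mem_eq_toFinset_sum]
    exact Finset.sum_congr (by ext; simp [D]) fun _ _ => rfl
  have hL : ∑ᶠ a ∈ {a : L | (a : G) ∈ A}, ‖ψ a‖ ^ 2 ≤ ∑ a ∈ A', w a * ∑ u ∈ U a, F (a * u) := by
    have h1 : ∀ a : L, (a : G) ∈ A → ‖ψ a‖ ^ 2 ≤ w a * ∑ u ∈ U (a : G), F ((a : G) * u) := by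
      intro a ha
      rw [hψ a ha, finsum_mem_eq_toFinset_sum, norm_mul, mul_pow, norm_inv, Complex.norm_natCast]
      have hs : (H (a : G) : Set G).toFinset = U a := by ext; simp [U]
      rw [hs]
      have hcs := (sq_sum_le_card_mul_sum_sq (s := U (a : G)) (f := fun u => ‖χ ((a : G) * u)‖))
      have hn := pow_le_pow_left₀ (norm_nonneg _) (norm_sum_le (U (a : G)) fun u => χ ((a : G) * u)) 2
      rw [hU] at hcs
      have hc : (0 : ℝ) < Nat.card (H (a : G)) := Nat.cast_pos.mpr Nat.card_pos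
      calc _ ≤ ((Nat.card (H (a : G)) : ℝ)⁻¹) ^ 2 * ((Nat.card (H (a : G)) : ℝ) * ∑ u ∈ U (a : G), F ((a : G) * u)) :=
            mul_le_mul_of_nonneg_left (hn.trans hcs) (sq_nonneg _)
        _ = _ := by simp only [w]; field_simp
    rw [finsum_mem_eq_toFinset_sum]
    refine (Finset.sum_le_sum fun a ha => h1 a (by simpa using ha)).trans (le_of_eq ?_)
    refine Finset.sum_bij (fun a _ => (a : G)) (fun a ha => by simpa [A'] using ha)
      (fun a _ b _ h => Subtype.ext h) (fun b hb => ?_) (fun _ _ => rfl)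
    have hb : b ∈ A := by simpa [A'] using hb
    exact ⟨⟨b, hD.subset hb⟩, by simpa using hb, rfl⟩
  let T : Finset ((_ : G × G) × G) := ((Finset.univ : Finset G) ×ˢ A').sigma fun p => U p.2
  let Φ : (_ : G × G) × G → G := fun t => t.1.1 * (t.1.2 * t.2) * t.1.1⁻¹
  have hkey : ∀ g, ∑ t ∈ T.filter (fun t => Φ t = g), w t.1.2 ≤ Nat.card L := by
    intro g
    rcases (T.filter (fun t => Φ t = g)).eq_empty_or_nonempty with h | ⟨⟨⟨x, a⟩, u⟩, ht⟩
    · rw [h, Finset.sum_empty]; positivity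
    obtain ⟨ha, hu, hg⟩ : a ∈ A ∧ u ∈ H a ∧ x * (a * u) * x⁻¹ = g := by
      simpa [T, Φ, A', U, and_assoc] using ht
    set C := Subgroup.centralizer ({a} : Set G)
    have hdec : ∀ t ∈ T.filter (fun t => Φ t = g),
        t.1.2 ∈ A ∧ (x⁻¹ * t.1.1) * t.1.2 * (x⁻¹ * t.1.1)⁻¹ = a ∧ x * (a * u) * x⁻¹ = Φ t ∧
          t.2 ∈ H t.1.2 := by
      rintro ⟨⟨y, b⟩, v⟩ ht'
      obtain ⟨hb, hv, hgv⟩ : b ∈ A ∧ v ∈ H b ∧ y * (b * v) * y⁻¹ = g := by
        simpa [T, Φ, A', U, and_assoc] using ht'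
      refine ⟨hb, ?_, hg.trans hgv.symm, hv⟩
      have hord : ∀ c ∈ A, ∀ d ∈ A, Nat.Coprime (orderOf c) (Nat.card (H d)) := fun c hc d hd =>
        ((hD.coprime d hd c hc).symm).coprime_dvd_left (Subgroup.orderOf_dvd_natCard _ (hself c hc))
      have hc2 : Nat.Coprime (Nat.lcm (orderOf a) (orderOf b)) (Nat.card (H a) * Nat.card (H b)) :=
        Nat.Coprime.coprime_dvd_left (Nat.lcm_dvd_mul _ _)
          (Nat.Coprime.mul_left (Nat.Coprime.mul_right (hord a ha a ha) (hord a ha b hb))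
            (Nat.Coprime.mul_right (hord b hb a ha) (hord b hb b hb)))
      obtain ⟨m, hm1, hm0⟩ := Nat.chineseRemainder hc2 1 0
      have hp : ∀ c ∈ A, ∀ s ∈ H c, orderOf c ∣ Nat.lcm (orderOf a) (orderOf b) →
          Nat.card (H c) ∣ Nat.card (H a) * Nat.card (H b) → (c * s) ^ m = c := by
        intro c hc s hs h1 h2
        rw [Commute.mul_pow (Subgroup.mem_centralizer_singleton_iff.mp (hD.le_centralizer c hc hs)).symm,
          orderOf_dvd_iff_pow_eq_one.mp (((Subgroup.orderOf_dvd_natCard (H c) hs).trans h2).trans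
            (Nat.modEq_zero_iff_dvd.mp hm0)), mul_one, ← pow_mod_orderOf, hm1.of_dvd h1, pow_mod_orderOf,
          pow_one]
      have := congr_arg (· ^ m) (hgv.trans hg.symm)
      simp only [conj_pow, hp a ha u hu (Nat.dvd_lcm_left _ _) (dvd_mul_right _ _),
        hp b hb v hv (Nat.dvd_lcm_right _ _) (dvd_mul_left _ _)] at this
      calc x⁻¹ * y * b * (x⁻¹ * y)⁻¹ = x⁻¹ * (y * b * y⁻¹) * x := by group
        _ = a := by rw [this]; group
    have hfus : ∀ b ∈ A, (∃ y : G, y * b * y⁻¹ = a) → ∃ l ∈ L, l * a * l⁻¹ = b := by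
      rintro b hb ⟨y, hy⟩
      have h2 : y⁻¹ * a * y⁻¹⁻¹ = b := by rw [← hy]; group
      obtain ⟨l, hl, hle⟩ := hD.fusion a ha y⁻¹ (h2 ▸ hb)
      exact ⟨l, hl, hle.trans h2⟩
    choose! lift hlift using hfus
    let S := T.filter fun t => Φ t = g
    have hw : ∀ t ∈ S, w t.1.2 = w a := by
      intro t ht'
      obtain ⟨hb, hy, -, -⟩ := hdec t ht'
      obtain ⟨hl, hle⟩ := hlift t.1.2 hb ⟨_, hy⟩
      simp only [w]
      rw [← hle, Cfsg.Agent.S1498.result A L H hD a ha _ hl,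
        Nat.card_congr (Subgroup.equivMapOfInjective _ _ (MulEquiv.injective _)).symm.toEquiv]
    rw [Finset.sum_congr rfl hw, Finset.sum_const, nsmul_eq_mul]
    have hinj : S.card * Nat.card ↥(L ⊓ C) ≤ Nat.card C * Nat.card L := by
      rw [← Nat.card_eq_finsetCard, ← Nat.card_prod, ← Nat.card_prod]
      have hmem : ∀ t : S, (x⁻¹ * t.1.1.1) * lift t.1.1.2 ∈ C ∧ lift t.1.1.2 ∈ L := by
        rintro ⟨t, ht'⟩
        obtain ⟨hb, hy, -, -⟩ := hdec t ht'
        obtain ⟨hl, hle⟩ := hlift t.1.2 hb ⟨_, hy⟩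
        refine ⟨Subgroup.mem_centralizer_singleton_iff.mpr (mul_inv_eq_iff_eq_mul.mp ?_), hl⟩
        calc _ = (x⁻¹ * t.1.1) * (lift t.1.2 * a * (lift t.1.2)⁻¹) * (x⁻¹ * t.1.1)⁻¹ := by group
          _ = a := by rw [hle, hy]
      let f : S × ↥(L ⊓ C) → C × L := fun p =>
        (⟨_, (hmem p.1).1⟩, ⟨lift p.1.1.1.2 * p.2, L.mul_mem (hmem p.1).2 p.2.2.1⟩)
      refine Nat.card_le_card_of_injective f ?_
      rintro ⟨⟨t, htS⟩, c⟩ ⟨⟨t', htS'⟩, c'⟩ hf
      simp only [f, Prod.mk.injEq, Subtype.mk.injEq] at hf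
      obtain ⟨e1, e2⟩ := hf
      obtain ⟨hb, hy, hgt, -⟩ := hdec t htS
      obtain ⟨hb', hy', hgt', -⟩ := hdec t' htS'
      have hcom : ∀ z : ↥(L ⊓ C), (z : G) * a * (z : G)⁻¹ = a := fun z =>
        mul_inv_eq_iff_eq_mul.mpr (Subgroup.mem_centralizer_singleton_iff.mp z.2.2)
      have eb : t.1.2 = t'.1.2 := by
        calc t.1.2 = lift t.1.2 * (c * a * (c : G)⁻¹) * (lift t.1.2)⁻¹ := by
              rw [hcom, (hlift _ hb ⟨_, hy⟩).2]
          _ = lift t.1.2 * c * a * (lift t.1.2 * c)⁻¹ := by group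
          _ = lift t'.1.2 * c' * a * (lift t'.1.2 * c')⁻¹ := by rw [e2]
          _ = lift t'.1.2 * (c' * a * (c' : G)⁻¹) * (lift t'.1.2)⁻¹ := by group
          _ = t'.1.2 := by rw [hcom, (hlift _ hb' ⟨_, hy'⟩).2]
      rw [eb] at e1 e2
      have ey : t.1.1 = t'.1.1 := mul_left_cancel (mul_right_cancel e1)
      have ev : t.2 = t'.2 := by
        have e := hgt.symm.trans hgt'
        simp only [Φ, eb, ey] at e
        exact mul_left_cancel (mul_left_cancel (mul_right_cancel e))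
      obtain ⟨⟨y, b⟩, v⟩ := t
      obtain ⟨⟨y', b'⟩, v'⟩ := t'
      dsimp only at eb ey ev
      subst eb ey ev
      exact Prod.ext rfl (Subtype.ext (mul_left_cancel e2))
    have hC : Nat.card C ≤ Nat.card (H a) * Nat.card ↥(L ⊓ C) := by
      rw [← Nat.card_prod]
      have hnorm : L ⊓ C ≤ Subgroup.normalizer (H a : Set G) := by
        intro c hc h
        refine ⟨fun hh => hD.conj_mem_H a ha c hc.2 h hh, fun hh => ?_⟩
        simpa [mul_assoc] using hD.conj_mem_H a ha c⁻¹ (C.inv_mem hc.2) _ hh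
      have hex : ∀ c : C, ∃ p : H a × ↥(L ⊓ C), (p.1 : G) * p.2 = c := by
        intro c
        have hc : (c : G) ∈ ((H a ⊔ (L ⊓ C) : Subgroup G) : Set G) := by rw [hD.sup_eq a ha]; exact c.2
        rw [Subgroup.coe_mul_of_right_le_normalizer_left (H a) _ hnorm, Set.mem_mul] at hc
        obtain ⟨p, hp, q, hq, he⟩ := hc
        exact ⟨(⟨p, hp⟩, ⟨q, hq⟩), he⟩
      choose pr hpr using hex
      exact Nat.card_le_card_of_injective pr fun c d h => Subtype.ext (by rw [← hpr c, ← hpr d, h])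
    have h3 : S.card ≤ Nat.card (H a) * Nat.card L := by
      refine Nat.le_of_mul_le_mul_right ?_ (Nat.card_pos (α := ↥(L ⊓ C)))
      calc _ ≤ Nat.card C * Nat.card L := hinj
        _ ≤ _ := Nat.mul_le_mul_right _ hC
        _ = _ := by ring
    simp only [w]
    rw [← div_eq_mul_inv, div_le_iff₀ (Nat.cast_pos.mpr Nat.card_pos), mul_comm]
    exact_mod_cast h3
  have hmain : (Nat.card G : ℝ) * ∑ a ∈ A', w a * ∑ u ∈ U a, F (a * u) ≤ (Nat.card L : ℝ) * ∑ g ∈ D, F g := by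
    have e : (Nat.card G : ℝ) * ∑ a ∈ A', w a * ∑ u ∈ U a, F (a * u) = ∑ t ∈ T, w t.1.2 * F (Φ t) := by
      rw [Finset.sum_sigma, Finset.sum_product]
      have : ∀ x a u, F (x * (a * u) * x⁻¹) = F (a * u) := fun x a u => by simp only [F]; rw [hχ]
      simp only [Φ, this]
      simp only [← Finset.mul_sum]
      rw [Finset.sum_const, nsmul_eq_mul, Finset.card_univ, ← Nat.card_eq_fintype_card]
    rw [e, ← Finset.sum_fiberwise_of_maps_to (g := Φ) (t := D) fun t ht => ?_, Finset.mul_sum]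
    · refine Finset.sum_le_sum fun g _ => ?_
      rw [Finset.sum_congr rfl (fun t ht => by rw [(Finset.mem_filter.mp ht).2]), ← Finset.sum_mul]
      exact mul_le_mul_of_nonneg_right (hkey g) (by positivity)
    · obtain ⟨⟨x, a⟩, u⟩ := t
      obtain ⟨ha, hu⟩ : a ∈ A ∧ u ∈ H a := by simpa [T, A', U] using ht
      simp only [D, Φ, Finset.mem_filter, Finset.mem_univ, true_and]
      exact ⟨a, ha, u, hu, x⁻¹, by group⟩
  rw [hR]
  have hGpos : (0 : ℝ) < Nat.card G := Nat.cast_pos.mpr Nat.card_pos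
  have hLpos : (0 : ℝ) < Nat.card L := Nat.cast_pos.mpr Nat.card_pos
  rw [inv_mul_le_iff₀ hLpos, ← mul_assoc, mul_comm (Nat.card L : ℝ), mul_assoc, le_inv_mul_iff₀ hGpos]
  exact (mul_le_mul_of_nonneg_left hL hGpos.le).trans hmain

end Cfsg.Agent.S1525
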