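import Cfsg.Statements.S1454
import Cfsg.Agent.S1448
import Cfsg.Agent.Lib.OddLocal.NarrowAction
import Cfsg.Agent.Lib.OddLocal.Metacyclic
import Cfsg.Agent.Lib.Solvable.PCore

set_option autoImplicit false
open Cfsg
open scoped commutatorElement

namespace Cfsg.Agent.S1454

open Subgroup in
theorem conjHom_injective {G : Type*} [Group G] {R A : Subgroup G} (hA : A ≤ normalizer (R : Set G))
    (hfaith : A ⊓ centralizer (R : Set G) = ⊥) : Function.Injective (CfsgLib.Coprime.conjHom hA) := by
  rw [injective_iff_map_eq_one]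
  intro a ha
  have h : (a : G) ∈ A ⊓ centralizer (R : Set G) := by
    refine ⟨a.2, mem_centralizer_iff.2 fun r hr => ?_⟩
    have h2 : (a : G) * r * (a : G)⁻¹ = r := congrArg (fun f : MulAut R => ((f ⟨r, hr⟩ : R) : G)) ha
    exact (mul_inv_eq_iff_eq_mul.1 h2).symm
  rw [hfaith, mem_bot] at h
  exact Subtype.ext h

open Subgroup in
theorem card_cube {R : Type*} [Group R] [Finite R] {p : ℕ} [Fact p.Prime] (hp3 : 3 < p) (hR : IsPGroup p R)
    (hrk : Cfsg.PRankLE p 2 R) {A : Type*} [Group A] [Finite A] (hodd : Odd (Nat.card A))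
    (φ : A →* MulAut R) (hq : (Nat.card A).Prime) (hqd : ¬ Nat.card A ∣ p * (p - 1))
    (hgen : closure {x : R | ∃ a : A, ∃ z : R, φ a z * z⁻¹ = x} = ⊤)
    (hna : ¬ ∀ g h : R, Commute g h) : Nat.card R = p ^ 3 := by
  have hpr := (Fact.out : p.Prime)
  have hqp : Nat.card A ≠ p := fun h => hqd (by rw [h]; exact dvd_mul_right p _)
  have hcop : (Nat.card A).Coprime (Nat.card R) := by
    obtain ⟨k, hk⟩ := IsPGroup.iff_card.1 hR
    rw [hk]; exact ((Nat.coprime_primes hq hpr).2 hqp).pow_right k
  rcases CfsgLib.OddLocal.structure_of_coprime_action hp3 hR hrk hodd φ hcop hgen with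
    h | ⟨O, C, hsup, hcomm, -, hcard, -, hcyc, hCc, -⟩
  · exact absurd h hna
  haveI := hcyc
  have hCch : C.Characteristic := hCc ▸ inferInstance
  let res : A →* MulAut C :=
    { toFun := fun a =>
        { toFun := fun c => ⟨φ a c, characteristic_iff_map_le.1 hCch (φ a) ⟨c, c.2, rfl⟩⟩
          invFun := fun c => ⟨(φ a).symm c, characteristic_iff_map_le.1 hCch (φ a).symm ⟨c, c.2, rfl⟩⟩
          left_inv := fun c => Subtype.ext ((φ a).symm_apply_apply _)
          right_inv := fun c => Subtype.ext ((φ a).apply_symm_apply _)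
          map_mul' := fun u v => Subtype.ext (map_mul (φ a) (u : R) v) }
      map_one' := by ext c; simp
      map_mul' := fun a b => by ext c; simp }
  have hres : ∀ a, res a = 1 := by
    intro a
    obtain ⟨k, hk⟩ := IsPGroup.iff_card.1 (hR.to_subgroup C)
    have h1 : Nat.card res.range ∣ Nat.card A := card_range_dvd res
    rcases (Nat.dvd_prime hq).1 h1 with h | h
    · have h' := eq_bot_of_card_eq _ h
      have h2 : res a ∈ res.range := ⟨a, rfl⟩
      rwa [h', mem_bot] at h2
    · exfalso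
      have h2 : Nat.card A ∣ Nat.card (ZMod (Nat.card C))ˣ := by
        rw [← Nat.card_congr (IsCyclic.mulAutMulEquiv C).toEquiv, ← h]
        exact card_subgroup_dvd_card _
      haveI : NeZero (p ^ k) := ⟨(Nat.pow_pos hpr.pos).ne'⟩
      rw [hk, Nat.card_eq_fintype_card (α := (ZMod (p ^ k))ˣ), ZMod.card_units_eq_totient] at h2
      rcases Nat.eq_zero_or_pos k with rfl | hk0
      · rw [pow_zero, Nat.totient_one] at h2
        exact hq.not_dvd_one h2
      · rw [Nat.totient_prime_pow hpr hk0] at h2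
        rcases hq.dvd_mul.1 h2 with h3 | h3
        · exact hqd (dvd_mul_of_dvd_left (hq.dvd_of_dvd_pow h3) _)
        · exact hqd (dvd_mul_of_dvd_right h3 _)
  have hOn : C ≤ normalizer (O : Set R) := fun c hc => (centralizer_le_normalizer _)
    (mem_centralizer_iff.2 fun o ho => hcomm o ho c hc)
  have hder : commutator R ≤ O := by
    rw [_root_.commutator_def, Subgroup.commutator_le]
    intro g _ h _
    obtain ⟨o, ho, c, hc, rfl⟩ := (CfsgLib.Coprime.mem_sup_of_le_normalizer hOn).1 (hsup ▸ mem_top g)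
    obtain ⟨o', ho', c', hc', rfl⟩ := (CfsgLib.Coprime.mem_sup_of_le_normalizer hOn).1 (hsup ▸ mem_top h)
    rw [hCc] at hc hc'
    rw [CfsgLib.OddLocal.comm_mul_central_left _ (fun w => mem_center_iff.1 hc w),
      CfsgLib.OddLocal.comm_mul_central_right _ (fun w => mem_center_iff.1 hc' w), commutatorElement_def]
    exact mul_mem (mul_mem (mul_mem ho ho') (inv_mem ho)) (inv_mem ho')
  have hinv : ∀ a : A, ∀ z ∈ commutator R, φ a z ∈ commutator R := fun a z hz =>
    characteristic_iff_map_le.1 (inferInstance : (commutator R).Characteristic) (φ a) ⟨z, hz, rfl⟩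
  have htop : O = ⊤ := by
    rw [eq_top_iff, ← hsup]
    refine sup_le le_rfl fun c hc => hder (CfsgLib.OddLocal.mem_of_fixed_mod φ hcop hgen _ le_rfl hinv fun a => ?_)
    have h1 : φ a c = c := congrArg (fun f : MulAut C => ((f ⟨c, hc⟩ : C) : R)) (hres a)
    rw [h1, mul_inv_cancel]
    exact one_mem _
  rw [← hcard, htop, card_top]


/-- Let G be a finite group, p an odd prime, R a narrow p-subgroup and A a solvable subgroup of odd order normalizing R with A ∩ C_G(R) = 1. Then [A, A] ≤ O_p(A) and the index of O_p(A) in A is coprime to p; if R has an elementary abelian subgroup of order p ^ 3 then the order of every element of A of order coprime to p divides p − 1; and if the order of A is a prime not dividing p(p − 1), then 2·#A divides p + 1, and if in addition [R, A] = R and R is non-abelian then #R = p ^ 3. -/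
theorem result {G : Type*} [Group G] [Finite G] (p : ℕ) [Fact p.Prime] (hp : p ≠ 2) (R A : Subgroup G) (hR : IsPGroup p R) (hRn : Cfsg.IsNarrow p R)
    (hA : (A ≤ Subgroup.normalizer (R : Set G))) (hAs : Group.IsSolvable A) (hAodd : Odd (Nat.card A)) (hfaith : A ⊓ Subgroup.centralizer (R : Set G) = ⊥) :
    (commutator ↥A ≤ Cfsg.pCore p ↥A ∧ ((Cfsg.pCore p ↥A).index).Coprime p) ∧
      (¬ Cfsg.PRankLE p 2 R → ∀ a ∈ A, (orderOf a).Coprime p → orderOf a ∣ p - 1) ∧
      ((Nat.card A).Prime → ¬ Nat.card A ∣ p * (p - 1) →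
        2 * Nat.card A ∣ p + 1 ∧ (⁅R, A⁆ = R → ¬ IsMulCommutative R → Nat.card R = p ^ 3)) := by
  open Subgroup in
  have hpr := (Fact.out : p.Prime)
  haveI : Group.IsSolvable A := hAs
  set φ := CfsgLib.Coprime.conjHom hA with hφdef
  have hinj : Function.Injective φ := conjHom_injective hA hfaith
  have hbig : ¬ Cfsg.PRankLE p 2 R → ∀ a : A, CfsgLib.OddLocal.trivOnSmall p R (φ a) →
      (orderOf a).Coprime p → a = 1 := fun hr a ht hc => hinj (by
    rw [map_one]
    exact CfsgLib.OddLocal.eq_one_of_trivOnSmall hp hR hr hRn (φ a)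
      (by rwa [orderOf_injective φ hinj]) ht)
  obtain ⟨hcm, hpow, hone, hmul, hinv⟩ := CfsgLib.OddLocal.trivOnSmall_facts (R := R) (p := p) hR
  have hder : IsPGroup p (commutator A) := by
    by_cases hr : Cfsg.PRankLE p 2 R
    · exact CfsgLib.OddLocal.isPGroup_commutator_of_rank_two hp hR hr hAodd φ hinj
    · let S : Subgroup A :=
        { carrier := {a | CfsgLib.OddLocal.trivOnSmall p R (φ a)}
          one_mem' := by show CfsgLib.OddLocal.trivOnSmall p R (φ 1); rw [map_one]; exact hone
          mul_mem' := fun {a b} ha hb => by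
            show CfsgLib.OddLocal.trivOnSmall p R (φ (a * b)); rw [map_mul]; exact hmul _ _ ha hb
          inv_mem' := fun {a} ha => by
            show CfsgLib.OddLocal.trivOnSmall p R (φ a⁻¹); rw [map_inv]; exact hinv _ ha }
      refine IsPGroup.to_le (H := commutator A) (K := S) ?_ ?_
      · intro a
        obtain ⟨e, m, hpm, hm⟩ := Nat.exists_eq_pow_mul_and_not_dvd (orderOf_pos (a : A)).ne' p hpr.ne_one
        refine ⟨e, Subtype.ext ?_⟩
        rw [SubmonoidClass.coe_pow, OneMemClass.coe_one]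
        refine hbig hr _ (show (a : A) ^ p ^ e ∈ S from pow_mem a.2 _) ?_
        rw [orderOf_pow' _ (Nat.pow_pos hpr.pos).ne', hm, Nat.gcd_mul_right_left,
          Nat.mul_div_cancel_left _ (Nat.pow_pos hpr.pos)]
        exact (hpr.coprime_iff_not_dvd.2 hpm).symm
      · rw [_root_.commutator_def, Subgroup.commutator_le]
        intro a _ b _
        show CfsgLib.OddLocal.trivOnSmall p R (φ _)
        rw [map_commutatorElement]
        exact hcm _ _
  have hle : commutator A ≤ Cfsg.pCore p A := CfsgLib.Solvable.le_pCore inferInstance hder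
  refine ⟨⟨hle, ?_⟩, ?_, ?_⟩
  · obtain ⟨P, hP⟩ := hder.exists_le_sylow
    haveI hPn : (P : Subgroup A).Normal := Subgroup.Normal.of_commutator_le A hP
    have hPle : (P : Subgroup A) ≤ Cfsg.pCore p A := CfsgLib.Solvable.le_pCore hPn P.isPGroup'
    exact (Nat.Coprime.coprime_dvd_left (Subgroup.index_dvd_of_le hPle)
      ((hpr.coprime_iff_not_dvd.2 P.not_dvd_index).symm))
  · intro hr a ha hc
    set x : A := ⟨a, ha⟩
    have hx : (orderOf x).Coprime p := by rwa [Subgroup.orderOf_mk]
    have h1 : x ^ (p - 1) = 1 := hbig hr _ (by rw [map_pow]; exact hpow _)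
      (hx.coprime_dvd_left (orderOf_pow_dvd _))
    have := orderOf_dvd_of_pow_eq_one h1
    rwa [Subgroup.orderOf_mk] at this
  · intro hq hqd
    haveI := Fact.mk hq
    have hqp : Nat.card A ≠ p := fun h => hqd (by rw [h]; exact dvd_mul_right p _)
    have hr : Cfsg.PRankLE p 2 R := by
      by_contra hr
      obtain ⟨x, hx⟩ := exists_prime_orderOf_dvd_card' (G := A) (Nat.card A) dvd_rfl
      have h1 : x ^ (p - 1) = 1 := hbig hr _ (by rw [map_pow]; exact hpow _)
        (((hx ▸ (Nat.coprime_primes hq hpr).2 hqp : (orderOf x).Coprime p)).coprime_dvd_left (orderOf_pow_dvd _))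
      exact hqd (dvd_mul_of_dvd_right (hx ▸ orderOf_dvd_of_pow_eq_one h1) _)
    have h2 := CfsgLib.OddLocal.dvd_card_gl_two_of_prime_dvd_aut hp hR hr hq hqp (by
      have h : Nat.card φ.range = Nat.card A := (Nat.card_congr (MonoidHom.ofInjective hinj).toEquiv).symm
      exact h ▸ Subgroup.card_subgroup_dvd_card _)
    have h3 : Nat.card A ∣ p + 1 := by
      have h4 := h2.1
      rw [show p ^ 2 - 1 = (p + 1) * (p - 1) by rw [← Nat.sq_sub_sq, one_pow]] at h4
      exact (hq.dvd_mul.1 h4).resolve_right fun h => hqd (dvd_mul_of_dvd_right h _)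
    refine ⟨Nat.Coprime.mul_dvd_of_dvd_of_dvd ((Nat.coprime_two_left).2 hAodd)
      (Odd.add_one (hpr.odd_of_ne_two hp)).two_dvd h3, fun hRA hna => ?_⟩
    have hR1 : R ≠ ⊥ := fun h => hna (h ▸ inferInstance)
    have hp3 := Cfsg.Agent.S1448.three_lt hp hR hR1 hr hA ((Nat.coprime_primes hq hpr).2 hqp) hAodd hRA
    refine card_cube hp3 hR hr hAodd φ hq hqd ?_ fun h => hna ⟨⟨fun a b => (h a b).eq⟩⟩
    set S := Subgroup.closure {x : R | ∃ a : A, ∃ z : R, φ a z * z⁻¹ = x} with hS
    have h1 : ⁅R, A⁆ ≤ S.map R.subtype := by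
      refine Subgroup.commutator_le.2 fun z hz a ha => ?_
      refine ⟨(φ ⟨a, ha⟩ ⟨z, hz⟩ * (⟨z, hz⟩ : R)⁻¹)⁻¹,
        S.inv_mem (Subgroup.subset_closure ⟨_, _, rfl⟩), ?_⟩
      simp [φ, CfsgLib.Coprime.conjHom_apply, commutatorElement_def, mul_assoc]
    rw [hRA] at h1
    refine Subgroup.map_injective R.subtype_injective (le_antisymm ?_ ?_)
    · exact Subgroup.map_mono le_top
    · rw [← MonoidHom.range_eq_map, R.range_subtype]; exact h1

end Cfsg.Agent.S1454
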