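import Cfsg.Statements.S1538
import Cfsg.Agent.Lib.PF.DadeSets
import Cfsg.Agent.Lib.BG.TypeTI
import Cfsg.Agent.S1381

set_option autoImplicit false
open Cfsg

namespace Cfsg.Agent.S1538

/-- Let G be a minimal simple group of odd order and M a maximal subgroup of Type II. Then each of A₀(M), A(M), A₁(M) is a TI-subset of G whose set normaliser is M. -/
theorem result {G : Type*} [Group G] [Finite G] (hG : Cfsg.IsMinSimpleOddOrder G) (M : Subgroup G) (hM : IsCoatom M) (hII : Cfsg.IsOfTypeII M) : (Cfsg.IsTISubset (Cfsg.typeA0 M) ∧ Subgroup.normalizer (Cfsg.typeA0 M) = M) ∧ (Cfsg.IsTISubset (Cfsg.typeA M) ∧ Subgroup.normalizer (Cfsg.typeA M) = M) ∧ (Cfsg.IsTISubset (Cfsg.typeA1 M) ∧ Subgroup.normalizer (Cfsg.typeA1 M) = M) := by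
  haveI : CfsgLib.BG.TypeKnown M := ⟨Or.inr (let ⟨a, b, c, h, _⟩ := hII; ⟨a, b, c, h⟩)⟩
  open CfsgLib.BG CfsgLib.OddLocal Subgroup in
  have hC : ∀ x ∈ Cfsg.typeA0 M, Subgroup.centralizer ({x} : Set G) ≤ M := by
    intro x hx c hc
    by_contra hcM
    obtain ⟨K, U, h⟩ := CfsgLib.BG.exists_sigma_decomposition hG hM
    obtain ⟨hK, hU⟩ := (Cfsg.Agent.S1381.result hG M hM K U h).mp hII
    have hTI := fittingOf_TI_of_U hG hM h hK hU
    obtain ⟨hxS, hx1⟩ := mem_sigmaCore_of_not_le hG hM hx fun hle => hcM (hle hc)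
    have heq : Cfsg.fittingHallOf M = Cfsg.sigmaCore M := by
      by_contra hne
      exact hU (Cfsg.Agent.S1437.result hG M hM K U h hne).1
    have hxF : x ∈ Cfsg.fittingOf M := fittingHallOf_le_fittingOf M (heq.ge hxS)
    refine hx1 (hTI c (fun hn => hcM ?_) x hxF ?_)
    · exact (normalizer_eq_max hG hM (fun e => hx1 (mem_bot.mp (e ▸ hxF))) (fittingOf_le M)
        (le_normalizer_fittingOf M)).le hn
    · rw [mem_centralizer_singleton_iff.mp hc, mul_inv_cancel_right]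
      exact hxF
  open CfsgLib.PF in
  have hall : ∀ A : Set G, IsTypeSet M A → Cfsg.IsTISubset A ∧ Subgroup.normalizer A = M := fun A hA =>
    ⟨hA.isTISubset hG hM fun x hx => hC x (hA.subset hG hM hx), hA.normalizer_eq hG hM⟩
  exact ⟨hall _ (Or.inr (Or.inr rfl)), hall _ (Or.inr (Or.inl rfl)), hall _ (Or.inl rfl)⟩


end Cfsg.Agent.S1538
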