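import Cfsg.Statements.S1225
import Cfsg.Agent.Lib.Invol.Strong

set_option autoImplicit false
open Cfsg

namespace Cfsg.Agent.S1225

/-- Let H be a strongly embedded subgroup of the finite group G, u an involution outside H and D = H ∩ uHu⁻¹. Then any two involutions of H are conjugate by an element of D, and any two involutions of G are conjugate in G. -/
theorem result {G : Type*} [Group G] [Finite G] (H : Subgroup G) (hH : Cfsg.IsStronglyEmbedded H) (u : G) (hu : orderOf u = 2) (huH : u ∉ H) (s t : G) (hs : orderOf s = 2) (hsH : s ∈ H) (ht : orderOf t = 2) (htH : t ∈ H) : (∃ d ∈ (H ⊓ H.map (MulAut.conj u).toMonoidHom), d * s * d⁻¹ = t) ∧ ∀ a b : G, orderOf a = 2 → orderOf b = 2 → IsConj a b := by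
  refine ⟨?_, fun a b ha hb => CfsgLib.Invol.se_isConj hH ha hb⟩
  have hne : ((1 : G) : G ⧸ H) ≠ (u : G ⧸ H) := by
    rw [Ne, QuotientGroup.eq, inv_one, one_mul]
    exact huH
  have hfix : ∀ r : G, r ∈ H → r • ((1 : G) : G ⧸ H) = ((1 : G) : G ⧸ H) := fun r hr =>
    (CfsgLib.Invol.fix_coset_iff r 1).2 (by simpa using hr)
  obtain ⟨d, hd1, hd2, hd⟩ := CfsgLib.Invol.se_stab_transitive hH hne hs ht (hfix s hsH) (hfix t htH)
  exact ⟨d, CfsgLib.Invol.mem_inter_conj_iff.2 ⟨hd1, hd2⟩, hd⟩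

end Cfsg.Agent.S1225
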