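import Cfsg.Statements.S5061
import Cfsg.Agent.Lib.Trans3.Unipotent

set_option autoImplicit false
open Cfsg

namespace Cfsg.Agent.S5061

/-- Let M be a finite-dimensional vector space over a field k, G ≤ GL(M), and 𝒲 a set of subgroups of G, invariant under conjugation by G, such that any two members of 𝒲 generate a subgroup acting unipotently on M (for some n all products of n endomorphisms g − 1 from it vanish). Then the subgroup generated by all members of 𝒲 acts unipotently on M and is normal in G. -/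
theorem result {k : Type*} [Field k] {M : Type*} [AddCommGroup M] [Module k M] [FiniteDimensional k M]
    {G : Subgroup (LinearMap.GeneralLinearGroup k M)} {W : Set (Subgroup (LinearMap.GeneralLinearGroup k M))} (hWG : ∀ A ∈ W, A ≤ G)
    (hWW : ∀ A ∈ W, ∀ B ∈ W, Cfsg.IsUnipotentOn (A ⊔ B)) (hWconj : ∀ A ∈ W, ∀ g ∈ G, Cfsg.conjBy A g ∈ W) :
    Cfsg.IsUnipotentOn (⨆ A ∈ W, A) ∧ ∀ g ∈ G, Cfsg.conjBy (⨆ A ∈ W, A) g = ⨆ A ∈ W, A := by
  refine ⟨?_, fun g hg => ?_⟩
  · rw [CfsgLib.Trans3.Unipotent.isUnipotentOn_iff]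
    have h := CfsgLib.Trans3.Unipotent.isNilSet_closure (CfsgLib.Trans3.Unipotent.isNilSet_dFam
      (W := W) (fun A hA B hB b hb => hWconj A hA b (hWG B hB hb))
      (fun A hA B hB => CfsgLib.Trans3.Unipotent.isUnipotentOn_iff.1 (hWW A hA B hB)))
    convert h using 4
    rw [Subgroup.iSup_eq_closure]
    refine le_antisymm ((Subgroup.closure_le _).2 ?_) ((Subgroup.closure_le _).2 ?_)
    · intro x hx
      simp only [Set.mem_iUnion] at hx
      obtain ⟨A, hx⟩ := hx
      by_cases hA : A ∈ W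
      · rw [iSup_pos hA] at hx
        exact Subgroup.subset_closure ⟨A, hA, hx⟩
      · rw [iSup_neg hA, SetLike.mem_coe, Subgroup.mem_bot] at hx
        rw [hx]; exact one_mem _
    · rintro x ⟨A, hA, hx⟩
      exact Subgroup.subset_closure (Set.mem_iUnion.2 ⟨A, by rw [iSup_pos hA]; exact hx⟩)
  · refine le_antisymm ?_ ?_
    · rw [Cfsg.conjBy, Subgroup.map_iSup]
      refine iSup_le fun A => ?_
      rw [Subgroup.map_iSup]
      exact iSup_le fun hA => le_iSup₂_of_le _ (hWconj A hA g hg) le_rfl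
    · refine iSup₂_le fun A hA x hx => ?_
      rw [CfsgLib.Trans3.RankOne.mem_conjBy]
      refine SetLike.le_def.1
        (le_iSup₂ (f := fun A (_ : A ∈ W) => A) _ (hWconj A hA g⁻¹ (inv_mem hg))) ?_
      rw [CfsgLib.Trans3.RankOne.mem_conjBy]
      simpa [mul_assoc] using hx

end Cfsg.Agent.S5061
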