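import Cfsg.Statements.S2761
import Mathlib.GroupTheory.Perm.Basic
import Mathlib.LinearAlgebra.Matrix.Determinant.Basic
import Mathlib.Data.Fintype.Perm
import Mathlib.Tactic

set_option autoImplicit false
open Cfsg

namespace Cfsg.Agent.S2761

def pt : Fin 4 → Fin 3 → ZMod 2 := ![![0, 0, 1], ![1, 0, 1], ![0, 1, 1], ![1, 1, 1]]

def idx (v : Fin 3 → ZMod 2) : Fin 4 :=
  if v 0 = 0 then (if v 1 = 0 then 0 else 2) else (if v 1 = 0 then 1 else 3)

theorem pt_idx : ∀ v : Fin 3 → ZMod 2, v 2 = 1 → pt (idx v) = v := by decide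

theorem pt_inj : ∀ {i j : Fin 4}, pt i = pt j → i = j := by decide

def mat (σ : Equiv.Perm (Fin 4)) : Matrix (Fin 3) (Fin 3) (ZMod 2) := Matrix.of fun r c =>
  (![pt (σ 1) r - pt (σ 0) r, pt (σ 2) r - pt (σ 0) r, pt (σ 0) r] : Fin 3 → ZMod 2) c

theorem mat_spec : ∀ x y : Fin 4, (let σ : Equiv.Perm (Fin 4) := Equiv.swap x y;
    ((mat σ) 0 0 * (mat σ) 1 1 - (mat σ) 0 1 * (mat σ) 1 0 = 1) ∧
    ((mat σ) 2 0 = 0 ∧ (mat σ) 2 1 = 0 ∧ (mat σ) 2 2 = 1) ∧
    ∀ i r, (mat σ) r 0 * pt i 0 + (mat σ) r 1 * pt i 1 + (mat σ) r 2 * pt i 2 = pt (σ i) r) := by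
  decide

set_option maxHeartbeats 2000000 in
/-- The group Qd(2), the natural semidirect product of an elementary abelian group of order 4 by SL₂(2) (realised as the affine subgroup of SL₃(2)), is isomorphic to the symmetric group of degree 4. -/
theorem result : Nonempty (↥(Cfsg.qd 2) ≃* Equiv.Perm (Fin 4)) := by
  classical
  have hrow : ∀ M : Matrix.SpecialLinearGroup (Fin 3) (ZMod 2), M ∈ Cfsg.qd 2 →
      (M : Matrix (Fin 3) (Fin 3) (ZMod 2)) 2 0 = 0 ∧ (M : Matrix (Fin 3) (Fin 3) (ZMod 2)) 2 1 = 0 ∧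
        (M : Matrix (Fin 3) (Fin 3) (ZMod 2)) 2 2 = 1 := by
    intro M hM
    have key : ∀ M : Matrix.SpecialLinearGroup (Fin 3) (ZMod 2), M ∈ Cfsg.qd 2 →
        ∀ v : Fin 3 → ZMod 2, ((M : Matrix (Fin 3) (Fin 3) (ZMod 2)).mulVec v) 2 = v 2 := by
      intro M hM
      induction hM using Subgroup.closure_induction with
      | mem M h => intro v; simp [Matrix.mulVec, dotProduct, Fin.sum_univ_three, h.1, h.2.1, h.2.2]
      | one => intro v; simp
      | mul M N _ _ hm hn => intro v; rw [Matrix.SpecialLinearGroup.coe_mul, ← Matrix.mulVec_mulVec, hm, hn]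
      | inv M _ hm =>
        intro v
        have := hm ((↑(M⁻¹) : Matrix (Fin 3) (Fin 3) (ZMod 2)).mulVec v)
        rwa [Matrix.mulVec_mulVec, ← Matrix.SpecialLinearGroup.coe_mul, mul_inv_cancel,
          Matrix.SpecialLinearGroup.coe_one, Matrix.one_mulVec, eq_comm] at this
    have a := key M hM ![1, 0, 0]
    have b := key M hM ![0, 1, 0]
    have c := key M hM ![0, 0, 1]
    simp [Matrix.mulVec, dotProduct, Fin.sum_univ_three] at a b c
    exact ⟨a, b, c⟩
  let act : ↥(Cfsg.qd 2) → Fin 4 → Fin 4 := fun M i =>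
    idx ((M : Matrix.SpecialLinearGroup (Fin 3) (ZMod 2)).1.mulVec (pt i))
  have hact : ∀ (M : ↥(Cfsg.qd 2)) (i : Fin 4), pt (act M i) = (M : Matrix.SpecialLinearGroup (Fin 3) (ZMod 2)).1.mulVec (pt i) := by
    intro M i
    refine pt_idx _ ?_
    obtain ⟨a, b, c⟩ := hrow M.1 M.2
    have hp : pt i 2 = 1 := by fin_cases i <;> rfl
    simp [Matrix.mulVec, dotProduct, Fin.sum_univ_three, a, b, c, hp]
  have hone : ∀ i, act 1 i = i := fun i => pt_inj (by rw [hact]; simp)
  have hmul : ∀ M N i, act (M * N) i = act M (act N i) := fun M N i => pt_inj (by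
    rw [hact, hact, hact, Subgroup.coe_mul, Matrix.SpecialLinearGroup.coe_mul, Matrix.mulVec_mulVec])
  let perm : ↥(Cfsg.qd 2) → Equiv.Perm (Fin 4) := fun M =>
    ⟨act M, act M⁻¹, fun i => by rw [← hmul, inv_mul_cancel, hone], fun i => by rw [← hmul, mul_inv_cancel, hone]⟩
  let φ : ↥(Cfsg.qd 2) →* Equiv.Perm (Fin 4) := MonoidHom.mk' perm fun M N => Equiv.ext fun i => hmul M N i
  have hinj : Function.Injective φ := (injective_iff_map_eq_one φ).2 fun M hM => by
    have h : ∀ i, (M : Matrix.SpecialLinearGroup (Fin 3) (ZMod 2)).1.mulVec (pt i) = pt i := fun i => by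
      rw [← hact]; exact congrArg pt (Equiv.congr_fun hM i)
    refine Subtype.ext (Matrix.SpecialLinearGroup.ext _ _ fun r c => ?_)
    have h0 := congrFun (h 0) r
    have h1 := congrFun (h 1) r
    have h2 := congrFun (h 2) r
    simp [Matrix.mulVec, dotProduct, Fin.sum_univ_three, pt] at h0 h1 h2
    fin_cases r <;> fin_cases c <;> simp_all
  have hswap : ∀ x y : Fin 4, Equiv.swap x y ∈ φ.range := by
    intro x y
    obtain ⟨hd, hr, hm⟩ := mat_spec x y
    have hdet : (mat (Equiv.swap x y)).det = 1 := by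
      rw [Matrix.det_fin_three, hr.1, hr.2.1, hr.2.2]
      simpa using hd
    let M : Matrix.SpecialLinearGroup (Fin 3) (ZMod 2) := ⟨mat (Equiv.swap x y), hdet⟩
    refine ⟨⟨M, Subgroup.subset_closure hr⟩, Equiv.ext fun i => pt_inj ?_⟩
    show pt (act _ i) = _
    rw [hact]
    funext r
    rw [← hm i r]
    simp [M, Matrix.mulVec, dotProduct, Fin.sum_univ_three]
  refine ⟨MulEquiv.ofBijective φ ⟨hinj, fun σ => ?_⟩⟩
  induction σ using Equiv.Perm.swap_induction_on with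
  | one => exact ⟨1, map_one φ⟩
  | swap_mul f x y _ ih =>
    obtain ⟨M, rfl⟩ := ih
    obtain ⟨N, hN⟩ := hswap x y
    exact ⟨N * M, by rw [map_mul, hN]⟩

end Cfsg.Agent.S2761
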