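import Cfsg.Statements.S2759
import Cfsg.Agent.Lib.Complement.SymFour
import Cfsg.Agent.Lib.Complement.TwoTools
import Cfsg.Agent.Lib.PLocal.Section
import Cfsg.Agent.S2758
import Cfsg.Agent.Lib.StructC.BurnsideBasis

set_option autoImplicit false
open Cfsg

namespace Cfsg.Agent.S2759

open Subgroup

def dih (d : DihedralGroup 3) : Equiv.Perm (Fin 3) :=
  match d with
  | DihedralGroup.r i => finRotate 3 ^ i.val
  | DihedralGroup.sr i => Equiv.swap 0 1 * finRotate 3 ^ i.val

theorem dih_mul : ∀ a b : DihedralGroup 3, dih (a * b) = dih a * dih b := by decide +kernel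

theorem dih_bij : Function.Bijective dih := by
  refine (Fintype.bijective_iff_injective_and_card dih).2 ⟨?_, by decide +kernel⟩
  intro a b
  revert a b
  decide +kernel

noncomputable def dihEquiv : DihedralGroup 3 ≃* Equiv.Perm (Fin 3) :=
  MulEquiv.ofBijective (MonoidHom.mk' dih dih_mul) dih_bij

/-- the partner of `0` in the image of the partition of `Fin 4` with block `{0, j+1}` -/
def par (σ : Equiv.Perm (Fin 4)) (j : Fin 3) : Fin 3 :=
  let a : ℕ := (σ 0).val
  let b : ℕ := (σ j.succ).val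
  let c : ℕ := if a = 0 then b else if b = 0 then a else 6 - a - b
  ⟨(c - 1) % 3, Nat.mod_lt _ (by norm_num)⟩

theorem par_comp : ∀ σ τ : Equiv.Perm (Fin 4), ∀ j, par (σ * τ) j = par σ (par τ j) := by decide +kernel

theorem par_one : ∀ j, par 1 j = j := by decide +kernel

def parPerm (σ : Equiv.Perm (Fin 4)) : Equiv.Perm (Fin 3) :=
  ⟨par σ, par σ⁻¹, fun j => by rw [← par_comp, inv_mul_cancel, par_one],
    fun j => by rw [← par_comp, mul_inv_cancel, par_one]⟩

def parHom : Equiv.Perm (Fin 4) →* Equiv.Perm (Fin 3) :=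
  MonoidHom.mk' parPerm fun σ τ => Equiv.ext fun j => par_comp σ τ j

theorem parHom_surjective : Function.Surjective parHom := by
  have : ∀ π : Equiv.Perm (Fin 3), ∃ σ : Equiv.Perm (Fin 4), ∀ j, par σ j = π j := by decide +kernel
  intro π
  obtain ⟨σ, h⟩ := this π
  exact ⟨σ, Equiv.ext h⟩

theorem parHom_ker_comm : ∀ σ τ : Equiv.Perm (Fin 4),
    (∀ j, par σ j = j) → (∀ j, par τ j = j) → σ * τ = τ * σ := by decide +kernel

theorem parHom_ker_self : ∀ σ : Equiv.Perm (Fin 4),
    (∀ τ : Equiv.Perm (Fin 4), (∀ j, par τ j = j) → τ * σ = σ * τ) → ∀ j, par σ j = j := by decide +kernel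

theorem parHom_ker_card : (Finset.univ.filter fun σ : Equiv.Perm (Fin 4) => ∀ j, par σ j = j).card = 4 := by
  decide +kernel

theorem s4_of_action {G : Type*} [Group G] [Finite G] {W : Subgroup G}
    (hWc : ∀ x ∈ W, ∀ y ∈ W, x * y = y * x) (hW2 : ∀ x ∈ W, x * x = 1) {a k : G}
    (haW : a ∈ normalizer (W : Set G)) (hkW : k ∈ normalizer (W : Set G))
    (hk3 : k ^ 3 ∈ centralizer (W : Set G)) (hk : k ∉ centralizer (W : Set G))
    (hinv : a * k * a⁻¹ * k ∈ centralizer (W : Set G)) {m : ℕ}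
    (hm : a ^ 2 ^ m ∈ centralizer (W : Set G)) : Cfsg.Involves (Equiv.Perm (Fin 4)) G := by
  obtain ⟨φ, hφ⟩ : ∃ φ : normalizer (W : Set G) →* MulAut W, φ = W.normalizerMonoidHom := ⟨_, rfl⟩
  obtain ⟨cj, hcj⟩ : ∃ cj : normalizer (W : Set G) → W → W, ∀ g w, ((cj g w : W) : G) = g * w * (g : G)⁻¹ :=
    ⟨fun g w => ⟨g * w * (g : G)⁻¹, (mem_normalizer_iff.1 g.2 w).1 w.2⟩, fun _ _ => rfl⟩
  have hcm : ∀ g h w, cj (g * h) w = cj g (cj h w) := fun g h w => Subtype.ext (by
    simp only [hcj, Subgroup.coe_mul]; group)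
  have hcx : ∀ g v w, cj g (v * w) = cj g v * cj g w := fun g v w => Subtype.ext (by
    simp only [hcj, Subgroup.coe_mul]; group)
  have hcC : ∀ g : normalizer (W : Set G), (g : G) ∈ centralizer (W : Set G) → ∀ w, cj g w = w :=
    fun g hg w => Subtype.ext (by rw [hcj, ← hg w w.2, mul_inv_cancel_right])
  have hcCi : ∀ g : normalizer (W : Set G), (∀ w, cj g w = w) → (g : G) ∈ centralizer (W : Set G) := by
    intro g h w hw
    have h1 := congrArg Subtype.val (h ⟨w, hw⟩)
    rw [hcj] at h1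
    exact (mul_inv_eq_iff_eq_mul.1 h1).symm
  have hW2' : ∀ w : W, w * w = 1 := fun w => Subtype.ext (hW2 w w.2)
  have hWc' : ∀ v w : W, v * w = w * v := fun v w => Subtype.ext (hWc v v.2 w w.2)
  set A : normalizer (W : Set G) := ⟨a, haW⟩
  set K : normalizer (W : Set G) := ⟨k, hkW⟩
  -- `A ^ 2` commutes with `K` on `W`
  have hak : ∀ w, cj (A * A) (cj K w) = cj K (cj (A * A) w) := by
    intro w
    have h1 : ∀ w, cj (A * K * A⁻¹ * K) w = w := hcC _ hinv
    have e1 : ∀ w, cj (A * K * A⁻¹) w = cj K⁻¹ w := by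
      intro w
      have h2 := h1 (cj K⁻¹ w)
      rw [← hcm, mul_inv_cancel_right] at h2
      exact h2
    have e2 : ∀ w, cj (A * A * K * (A * A)⁻¹) w = cj K w := by
      intro w
      have h3 : cj (A * K * A⁻¹) (cj A (cj K (cj A⁻¹ w))) = cj K⁻¹ (cj A (cj K (cj A⁻¹ w))) := e1 _
      have h4 : cj (A * K⁻¹ * A⁻¹) w = cj K w := by
        have h5 := e1 (cj (A * K⁻¹ * A⁻¹) w)
        rw [← hcm, ← hcm, show A * K * A⁻¹ * (A * K⁻¹ * A⁻¹) = 1 by group] at h5
        have h6 := congrArg (cj K) h5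
        rw [← hcm, ← hcm, mul_one, mul_inv_cancel_left] at h6
        exact h6.symm
      rw [show A * A * K * (A * A)⁻¹ = A * (A * K * A⁻¹) * A⁻¹ by group, hcm, hcm, e1, ← hcm, ← hcm]
      exact h4
    have := e2 (cj (A * A) w)
    rw [← hcm, inv_mul_cancel_right] at this
    rw [← hcm, this]
  -- `K` moves a fixed point of `A ^ 2`
  have hmove : ∃ w, cj (A * A) w = w ∧ cj K w ≠ w := by
    by_contra hall
    push Not at hall
    have key : ∀ j, ∀ w, cj ((A * A) ^ 2 ^ j) w = w → cj K w = w := by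
      intro j
      induction j with
      | zero => intro w h; rw [pow_zero, pow_one] at h; exact hall w h
      | succ j ih =>
        intro w h
        set τ := (A * A) ^ 2 ^ j with hτ
        have hτK : ∀ w, cj τ (cj K w) = cj K (cj τ w) := by
          have : ∀ i : ℕ, ∀ w, cj ((A * A) ^ i) (cj K w) = cj K (cj ((A * A) ^ i) w) := by
            intro i
            induction i with
            | zero => intro w; rw [pow_zero, hcC 1 (one_mem _), hcC 1 (one_mem _)]
            | succ i ih2 => intro w; rw [pow_succ, hcm ((A * A) ^ i) (A * A), hak, ih2, hcm ((A * A) ^ i) (A * A)]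
          exact this _
        have hττ : cj τ (cj τ w) = w := by rw [← hcm, hτ, ← pow_add, ← two_mul, ← pow_succ']; exact h
        have hv : cj τ (cj τ w * w) = cj τ w * w := by rw [hcx, hττ, hWc']
        have hKv := ih _ hv
        rw [hcx, ← hτK] at hKv
        have hd : cj τ (cj K w * w) = cj K w * w := by
          rw [hcx]
          calc cj τ (cj K w) * cj τ w
              = (cj τ (cj K w) * cj K w) * (cj K w * cj τ w) := by
                rw [mul_assoc, ← mul_assoc (cj K w) (cj K w), hW2', one_mul]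
            _ = (cj τ w * w) * (cj K w * cj τ w) := by rw [hKv]
            _ = cj K w * w := by
                rw [hWc' (cj τ w) w, hWc' (cj K w) (cj τ w), mul_assoc, ← mul_assoc (cj τ w) (cj τ w), hW2',
                  one_mul, hWc']
        have hKd := ih _ hd
        rw [hcx] at hKd
        have hKK : cj K (cj K w) = w := by
          calc cj K (cj K w) = (cj K (cj K w) * cj K w) * cj K w := by rw [mul_assoc, hW2', mul_one]
            _ = (cj K w * w) * cj K w := by rw [hKd]
            _ = w := by rw [hWc' (cj K w) w, mul_assoc, hW2', mul_one]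
        have h3 : cj (K ^ 3) w = w := hcC _ hk3 w
        rw [pow_succ', hcm, pow_two, hcm, hKK] at h3
        exact h3
    refine hk (hcCi K fun w => key m w (hcC _ ?_ w))
    have : ((A * A) ^ 2 ^ m : normalizer (W : Set G)).val = (a ^ 2 ^ m) * (a ^ 2 ^ m) := by
      show (a * a) ^ 2 ^ m = _
      rw [← pow_two, ← pow_two, ← pow_mul, ← pow_mul, mul_comm]
    rw [this]
    exact mul_mem hm hm
  obtain ⟨w, hw, hwk⟩ := hmove
  set W' := W ⊓ centralizer ({a * a} : Set G) with hW'
  have hmem : ∀ v : W, (v : G) ∈ W' ↔ cj (A * A) v = v := by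
    intro v
    constructor
    · intro hv
      refine Subtype.ext ?_
      rw [hcj]
      have := mem_centralizer_singleton_iff.1 hv.2
      show a * a * (v : G) * (a * a)⁻¹ = v
      rw [← this, mul_inv_cancel_right]
    · intro hv
      refine ⟨v.2, mem_centralizer_singleton_iff.2 ?_⟩
      have h1 := congrArg Subtype.val hv
      rw [hcj] at h1
      exact (mul_inv_eq_iff_eq_mul.1 h1).symm
  have hnorm : ∀ g : normalizer (W : Set G),
      (∀ v, cj (A * A) v = v → cj (A * A) (cj g v) = cj g v) → (g : G) ∈ normalizer (W' : Set G) := by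
    intro g hg
    rw [mem_normalizer_iff_map_conj_eq]
    refine eq_of_le_of_card_ge ?_ (card_map_of_injective (MulAut.conj (g : G)).injective).ge
    rintro _ ⟨x, hx, rfl⟩
    have h1 := (hmem (cj g ⟨x, hx.1⟩)).2 (hg _ ((hmem ⟨x, hx.1⟩).1 hx))
    rw [hcj] at h1
    exact h1
  refine CfsgLib.Complement.involves_symFour (W := W') (a := a) (k := k)
    (fun x hx y hy => hWc x hx.1 y hy.1) (fun x hx => hW2 x hx.1) (hnorm A fun v hv => ?_)
    (hnorm K fun v hv => by rw [hak, hv]) (centralizer_le inf_le_left hk3) ?_ ?_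
    (centralizer_le inf_le_left hinv)
  · rw [← hcm, show A * A * A = A * (A * A) by group, hcm, hv]
  · intro h
    refine hwk (Subtype.ext ?_)
    rw [hcj, ← h w ((hmem w).2 hw), mul_inv_cancel_right]
  · intro x hx
    exact mem_centralizer_singleton_iff.1 hx.2

theorem s4_of_s3 {G : Type*} [Group G] [Finite G] {T : Subgroup G} (hT : IsPGroup 2 T)
    [hC : ((centralizer (T : Set G)).subgroupOf (normalizer (T : Set G))).Normal]
    (h : Cfsg.Involves (Equiv.Perm (Fin 3))
      (↥(normalizer (T : Set G)) ⧸ (centralizer (T : Set G)).subgroupOf (normalizer (T : Set G)))) :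
    Cfsg.Involves (Equiv.Perm (Fin 4)) G := by
  haveI : Fact (Nat.Prime 3) := ⟨Nat.prime_three⟩
  haveI : Fact (Nat.Prime 2) := ⟨Nat.prime_two⟩
  set N := normalizer (T : Set G) with hN
  set π := QuotientGroup.mk' ((centralizer (T : Set G)).subgroupOf N) with hπ
  obtain ⟨K, R, hR, ⟨e⟩⟩ := h
  obtain ⟨x, y, ⟨m, hm⟩, ⟨n, hn⟩, hy1, hinv⟩ :=
    ((S2758.result (p := 3) (by norm_num)).2).1 ⟨K, R, hR, ⟨e.trans dihEquiv.symm⟩⟩
  obtain ⟨a, ha⟩ := QuotientGroup.mk'_surjective _ x
  obtain ⟨g, hg⟩ := QuotientGroup.mk'_surjective _ y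
  -- an odd-order preimage
  set e2 := (orderOf g).factorization 2 with he2
  have hy' : y ^ 2 ^ e2 ≠ 1 := fun h1 => hy1 (orderOf_eq_one_iff.1 (Nat.eq_one_of_dvd_coprimes
    (((by norm_num : Nat.Coprime 3 2).pow n e2)) hn.dvd (orderOf_dvd_of_pow_eq_one h1)))
  set k := g ^ 2 ^ e2 with hk
  have hkodd : (orderOf k).Coprime 2 := by
    rw [hk, orderOf_pow' g (pow_ne_zero _ (by norm_num)),
      Nat.gcd_eq_right (Nat.ordProj_dvd (orderOf g) 2)]
    exact (Nat.coprime_ordCompl Nat.prime_two (orderOf_pos g).ne').symm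
  -- pass to `N / Φ(T)`
  set T₀ := T.subgroupOf N with hT₀
  haveI : T₀.Normal := normal_in_normalizer
  have hT₀p : IsPGroup 2 T₀ := hT.comap_subtype
  set Φ := (frattini T₀).map T₀.subtype with hΦ
  set q := QuotientGroup.mk' Φ with hq
  set W := T₀.map q with hW
  have hzero : ∀ z : N, π z = 1 → z ∈ centralizer (T₀ : Set N) := by
    intro z hz t ht
    exact Subtype.ext (mem_subgroupOf.1 ((QuotientGroup.eq_one_iff z).1 hz) (t : G) ht)
  have hzeroW : ∀ z : N, π z = 1 → q z ∈ centralizer (W : Set (N ⧸ Φ)) := by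
    rintro z hz _ ⟨t, ht, rfl⟩
    rw [← map_mul, ← map_mul, hzero z hz t ht]
  have hWn : ∀ z : N, q z ∈ normalizer (W : Set (N ⧸ Φ)) := fun z => by
    have : W.Normal := Normal.map inferInstance q (QuotientGroup.mk'_surjective _)
    rw [normalizer_eq_top]; exact mem_top _
  have hkW : q k ∉ centralizer (W : Set (N ⧸ Φ)) := by
    intro hc
    apply hy'
    have h1 : k ∈ centralizer (T₀ : Set N) := by
      refine CfsgLib.PLocal.centralizes_of_trivial_on_frattini_quotient (p := 2) hT₀p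
        (by rw [normalizer_eq_top]; exact mem_top _) hkodd fun t ht => ?_
      have := hc _ (mem_map_of_mem q ht)
      refine (QuotientGroup.eq_one_iff (N := Φ) _).1 ?_
      show q (t⁻¹ * k⁻¹ * t * k) = 1
      rw [map_mul, map_mul, map_mul, map_inv, map_inv]
      rw [mul_assoc _ (q t) (q k), this]
      group
    rw [← hg, ← map_pow, ← hk]
    refine (QuotientGroup.eq_one_iff _).2 (mem_subgroupOf.2 fun t ht => ?_)
    exact congrArg Subtype.val (h1 ⟨t, le_normalizer ht⟩ ht)
  -- the least power of `k` acting with order three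
  have hex : ∃ j, q k ^ 3 ^ j ∈ centralizer (W : Set (N ⧸ Φ)) := by
    refine ⟨n, ?_⟩
    rw [← map_pow]
    refine hzeroW _ ?_
    rw [map_pow, hk, map_pow, hg, ← pow_mul, mul_comm, pow_mul, ← hn, pow_orderOf_eq_one, one_pow]
  classical
  obtain ⟨j, hj⟩ : ∃ j, Nat.find hex = j + 1 := by
    refine Nat.exists_eq_succ_of_ne_zero fun h0 => hkW ?_
    have := Nat.find_spec hex
    rwa [h0, pow_zero, pow_one] at this
  have hj0 : q k ^ 3 ^ j ∉ centralizer (W : Set (N ⧸ Φ)) := Nat.find_min hex (by omega)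
  have hj1 : (q k ^ 3 ^ j) ^ 3 ∈ centralizer (W : Set (N ⧸ Φ)) := by
    rw [← pow_mul, ← pow_succ, ← hj]; exact Nat.find_spec hex
  haveI hΦn : Φ.Normal := by rw [hΦ]; infer_instance
  have hWc : ∀ u ∈ W, ∀ v ∈ W, u * v = v * u := by
    rintro _ ⟨u, hu, rfl⟩ _ ⟨v, hv, rfl⟩
    rw [← map_mul, ← map_mul]
    refine QuotientGroup.eq.2 ?_
    refine ⟨(⟨v, hv⟩ : T₀)⁻¹ * (⟨u, hu⟩ : T₀)⁻¹ * ⟨v, hv⟩ * ⟨u, hu⟩,
      CfsgLib.StructC.comm_mem_frattini hT₀p ⟨v, hv⟩ ⟨u, hu⟩, ?_⟩
    show v⁻¹ * u⁻¹ * v * u = (u * v)⁻¹ * (v * u)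
    group
  have hW2 : ∀ u ∈ W, u * u = 1 := by
    rintro _ ⟨u, hu, rfl⟩
    rw [← map_mul]
    refine (QuotientGroup.eq_one_iff _).2 ⟨(⟨u, hu⟩ : T₀) * ⟨u, hu⟩, ?_, rfl⟩
    rw [← pow_two]
    exact CfsgLib.StructC.pow_mem_frattini hT₀p _
  refine CfsgLib.Complement.involves_of_subgroup (L := N)
    (CfsgLib.Complement.involves_of_quotient (N := Φ) ?_)
  refine s4_of_action (W := W) hWc hW2 (a := q a) (k := q k ^ 3 ^ j) (m := m) (hWn a)
    (by rw [← map_pow]; exact hWn _) hj1 hj0 ?_ ?_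
  · rw [← map_pow, ← map_inv, ← map_mul, ← map_mul, ← map_mul]
    refine hzeroW _ ?_
    rw [map_mul, map_mul, map_mul, map_inv, map_pow, hk, map_pow, hg, ha, ← pow_mul, ← conj_pow, hinv,
      inv_pow, inv_mul_cancel]
  · rw [← map_pow]
    refine hzeroW _ ?_
    rw [map_pow, ha, ← hm, pow_orderOf_eq_one]

theorem s3_of_s4 {G : Type*} [Group G] [Finite G] (h : Cfsg.Involves (Equiv.Perm (Fin 4)) G) :
    ∃ T : Subgroup G, IsPGroup 2 T ∧ ∀ [((centralizer (T : Set G)).subgroupOf (normalizer (T : Set G))).Normal],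
      Cfsg.Involves (Equiv.Perm (Fin 3))
        (↥(normalizer (T : Set G)) ⧸ (centralizer (T : Set G)).subgroupOf (normalizer (T : Set G))) := by
  haveI : Fact (Nat.Prime 2) := ⟨Nat.prime_two⟩
  obtain ⟨H, f, hf⟩ := CfsgLib.Complement.involves_iff_exists_hom.1 h
  set L := (parHom.comp f).ker with hL
  obtain ⟨P⟩ : Nonempty (Sylow 2 L) := inferInstance
  set P₀ := (P : Subgroup L).map L.subtype with hP₀
  have hP₀p : IsPGroup 2 P₀ := P.2.map _
  set T := P₀.map H.subtype with hT
  have hTp : IsPGroup 2 T := hP₀p.map _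
  refine ⟨T, hTp, ?_⟩
  intro _
  -- `f` maps `P₀` onto the Klein four-group
  have hV : ∀ σ : Equiv.Perm (Fin 4), parHom σ = 1 → ∃ t ∈ P₀, f t = σ := by
    let f' : L →* parHom.ker := (f.comp L.subtype).codRestrict _ fun l => l.2
    have hf' : Function.Surjective f' := by
      rintro ⟨σ, hσ⟩
      obtain ⟨z, rfl⟩ := hf σ
      exact ⟨⟨z, hσ⟩, Subtype.ext rfl⟩
    have hcard : Nat.card parHom.ker = 2 ^ 2 := by
      rw [Nat.card_eq_fintype_card, Fintype.card_subtype]
      refine Eq.trans (congrArg Finset.card (Finset.filter_congr fun σ _ => ?_)) parHom_ker_card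
      exact ⟨fun h j => congrArg (fun π : Equiv.Perm (Fin 3) => π j) h, fun h => Equiv.ext h⟩
    have htop : (P : Subgroup L).map f' = ⊤ := by
      have := (P.mapSurjective hf').card_eq_multiplicity
      refine eq_top_of_card_eq _ ?_
      rw [show Nat.card ↥((P : Subgroup L).map f') = Nat.card (P.mapSurjective hf') from rfl, this, hcard,
        Nat.prime_two.factorization_pow, Finsupp.single_eq_same]
    intro σ hσ
    obtain ⟨t, ht, he⟩ := htop ▸ mem_top (⟨σ, hσ⟩ : parHom.ker)
    exact ⟨t, mem_map_of_mem _ ht, congrArg Subtype.val he⟩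
  set M := normalizer (P₀ : Set H) with hM
  have hMT : ∀ z ∈ M, (z : G) ∈ normalizer (T : Set G) := fun z hz =>
    le_normalizer_map (H := P₀) H.subtype (mem_map_of_mem _ hz)
  -- `M` maps onto the quotient `S₃`
  let j : M →* ↥(normalizer (T : Set G)) :=
    (H.subtype.comp M.subtype).codRestrict _ fun z => hMT z z.2
  set π := (QuotientGroup.mk' ((centralizer (T : Set G)).subgroupOf (normalizer (T : Set G)))).comp j
    with hπ
  let ψ : M →* Equiv.Perm (Fin 3) := parHom.comp (f.comp M.subtype)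
  have hψ : Function.Surjective ψ := by
    intro σ
    obtain ⟨z, hz⟩ := (parHom_surjective.comp hf) σ
    have h1 : M ⊔ L = ⊤ := Sylow.normalizer_sup_eq_top P
    have h2 : z ∈ ((M ⊔ L : Subgroup H) : Set H) := by rw [h1]; trivial
    rw [mul_normal M L] at h2
    obtain ⟨u, hu, l, hl, rfl⟩ := h2
    refine ⟨⟨u, hu⟩, ?_⟩
    have h3 : parHom (f l) = 1 := hl
    show parHom (f u) = σ
    rw [← hz]
    show parHom (f u) = parHom (f (u * l))
    rw [map_mul, map_mul, h3, mul_one]
  have hker : π.ker ≤ ψ.ker := by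
    intro z hz
    have hz' : ((z : H) : G) ∈ centralizer (T : Set G) :=
      mem_subgroupOf.1 ((QuotientGroup.eq_one_iff (j z)).1 hz)
    refine Equiv.ext fun i => parHom_ker_self (f z) (fun τ hτ => ?_) i
    obtain ⟨t, ht, rfl⟩ := hV τ (Equiv.ext hτ)
    rw [← map_mul, ← map_mul]
    exact congrArg f (Subtype.ext (hz' (t : G) (mem_map_of_mem _ ht)))
  exact CfsgLib.Complement.involves_iff_exists_hom.2
    ⟨π.range, (QuotientGroup.lift π.ker ψ hker).comp (QuotientGroup.quotientKerEquivRange π).symm.toMonoidHom,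
      (QuotientGroup.lift_surjective_of_surjective _ _ hψ hker).comp
        (QuotientGroup.quotientKerEquivRange π).symm.surjective⟩

/-- For a finite group G, the symmetric group of degree 4 is involved in G if and only if there is a 2-subgroup T of G such that the symmetric group of degree 3 is involved in N(T)/C(T). -/
theorem result {G : Type*} [Group G] [Finite G] : Cfsg.Involves (Equiv.Perm (Fin 4)) G ↔ ∃ T : Subgroup G, IsPGroup 2 ↥T ∧ Cfsg.Involves (Equiv.Perm (Fin 3)) (↥(Subgroup.normalizer (T : Set G)) ⧸ (Subgroup.centralizer (T : Set G)).subgroupOf (Subgroup.normalizer (T : Set G))) := by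
  constructor
  · intro h
    obtain ⟨T, hT, hq⟩ := s3_of_s4 h
    exact ⟨T, hT, hq⟩
  · rintro ⟨T, hT, h⟩
    exact s4_of_s3 hT h

end Cfsg.Agent.S2759
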