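import Cfsg.Statements.S5944
import Cfsg.Agent.S2119

set_option autoImplicit false
open Cfsg

namespace Cfsg.Agent.S5944

/-- A permutation commuting with all even permutations is trivial. -/
theorem eq_one_of_comm_alternating {α : Type*} [Fintype α] [DecidableEq α] (h4 : 4 ≤ Fintype.card α)
    (x : Equiv.Perm α) (h : ∀ a ∈ alternatingGroup α, a * x = x * a) : x = 1 := by
  refine Equiv.ext fun a => ?_
  by_contra hne
  rw [Equiv.Perm.one_apply] at hne
  have hex : ∀ s : Finset α, s.card ≤ 3 → ∃ c, c ∉ s := fun s hs => by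
    by_contra hall
    push Not at hall
    have := Finset.card_le_card (fun c _ => hall c : (Finset.univ : Finset α) ⊆ s)
    rw [Finset.card_univ] at this
    omega
  obtain ⟨c, hc⟩ := hex {a, x a} (Finset.card_le_two.trans (by omega))
  obtain ⟨d, hd⟩ := hex {a, x a, c} Finset.card_le_three
  simp only [Finset.mem_insert, Finset.mem_singleton, not_or] at hc hd
  have hT : S2119.T a c d ∈ alternatingGroup α :=
    (S2119.isThreeCycle_T (Ne.symm hc.1) (Ne.symm hd.1) (Ne.symm hd.2.2)).mem_alternatingGroup
  have h1 := congrArg (fun e : Equiv.Perm α => e a) (h _ hT)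
  simp only [Equiv.Perm.mul_apply, S2119.T_a (Ne.symm hc.1) (Ne.symm hd.1),
    S2119.T_o hne (Ne.symm hc.2) (Ne.symm hd.2.1)] at h1
  exact hc.1 (x.injective h1).symm

/-- A proper subgroup of a symmetric group other than the alternating group has index at least the degree. -/
theorem le_index_of_proper {α : Type*} [Fintype α] [DecidableEq α] (h4 : Fintype.card α ≠ 4)
    {H : Subgroup (Equiv.Perm α)} (hH : H ≠ ⊤) (hA : H ≠ alternatingGroup α) :
    Fintype.card α ≤ H.index := by
  by_contra hlt
  push Not at hlt
  have h0 : H.index ≠ 0 := Subgroup.index_ne_zero_of_finite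
  have h1 : H.index ≠ 1 := fun h => hH (Subgroup.index_eq_one.1 h)
  have h2 : H.index ≠ 2 := fun h => hA (Equiv.Perm.eq_alternatingGroup_of_index_eq_two h)
  have h5 : 5 ≤ Fintype.card α := by omega
  have hker : (MulAction.toPermHom (Equiv.Perm α) (Equiv.Perm α ⧸ H)).ker ≠ ⊥ := fun hb => by
    have hinj := (MonoidHom.ker_eq_bot_iff _).1 hb
    have hle := Nat.card_le_card_of_injective _ hinj
    rw [Nat.card_perm, Nat.card_perm, ← Subgroup.index_eq_card, Nat.card_eq_fintype_card (α := α)] at hle
    exact absurd ((Nat.factorial_lt (by omega)).2 hlt) (not_lt.2 hle)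
  set N := (MulAction.toPermHom (Equiv.Perm α) (Equiv.Perm α ⧸ H)).ker with hN
  have hNn : N.Normal := MonoidHom.normal_ker _
  have hNH : N ≤ H := by
    intro x hx
    have := congrArg (fun e : Equiv.Perm (Equiv.Perm α ⧸ H) => e ((1 : Equiv.Perm α) : _ ⧸ H))
      (MonoidHom.mem_ker.1 hx)
    simpa [QuotientGroup.eq, inv_mem_iff] using this
  have hAle : alternatingGroup α ≤ H := by
    have := alternatingGroup.isSimpleGroup (α := α) (by rw [Nat.card_eq_fintype_card]; exact h5)
    rcases (hNn.subgroupOf (alternatingGroup α)).eq_bot_or_eq_top with h | h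
    · exfalso
      refine hker ((Subgroup.eq_bot_iff_forall _).2 fun x hx => ?_)
      by_contra hx1
      have hc : x ∈ Subgroup.centralizer (alternatingGroup α : Set (Equiv.Perm α)) := by
        rw [Subgroup.mem_centralizer_iff]
        intro a ha
        have h3 : a * x * a⁻¹ * x⁻¹ ∈ N := mul_mem (hNn.conj_mem x hx a) (inv_mem hx)
        have h4 : a * x * a⁻¹ * x⁻¹ ∈ alternatingGroup α := by
          rw [show a * x * a⁻¹ * x⁻¹ = a * (x * a⁻¹ * x⁻¹) by group]
          exact mul_mem ha ((alternatingGroup.normal (α := α)).conj_mem _ (inv_mem ha) x)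
        have h6 : (⟨_, h4⟩ : alternatingGroup α) ∈ N.subgroupOf (alternatingGroup α) := h3
        rw [h, Subgroup.mem_bot, Subtype.ext_iff] at h6
        rwa [Subgroup.coe_one, mul_inv_eq_one, mul_inv_eq_iff_eq_mul] at h6
      exact hx1 (eq_one_of_comm_alternating (by omega) x (Subgroup.mem_centralizer_iff.1 hc))
    · exact fun x hx => hNH (show (⟨x, hx⟩ : alternatingGroup α) ∈ N.subgroupOf _ from h ▸ Subgroup.mem_top _)
  have : Nontrivial α := Fintype.one_lt_card_iff_nontrivial.1 (by omega)
  have h7 := Subgroup.index_dvd_of_le hAle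
  rw [alternatingGroup.index_eq_two] at h7
  rcases (Nat.dvd_prime Nat.prime_two).1 h7 with h | h <;> omega

/-- For n ≠ 4, every proper subgroup of the symmetric group S_n other than the alternating group A_n has index at least n. -/
theorem result (n : ℕ) (hn : n ≠ 4) (H : Subgroup (Equiv.Perm (Fin n))) (hH : H ≠ ⊤) (hA : H ≠ alternatingGroup (Fin n)) : n ≤ H.index := by
  exact le_index_of_proper (by simpa using hn) hH hA |>.trans_eq' (by simp)

end Cfsg.Agent.S5944
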