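import Cfsg.Statements.S5912
import Cfsg.Agent.S5944

set_option autoImplicit false
open Cfsg

namespace Cfsg.Agent.S5912

section helpers

open MulAction
open scoped Pointwise

variable {Ω : Type*} [Fintype Ω] [DecidableEq Ω] (h6 : Fintype.card Ω = 6)
include h6

theorem core_bot {H : Subgroup (Equiv.Perm Ω)} (hH : H.index = 6) : H.normalCore = ⊥ := by
  have : Nontrivial Ω := Fintype.one_lt_card_iff_nontrivial.1 (by omega)
  by_contra hne
  have hA : H.normalCore ≠ alternatingGroup Ω := fun e => by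
    have h1 := Subgroup.index_dvd_of_le (H.normalCore_le)
    rw [e, alternatingGroup.index_eq_two, hH] at h1
    omega
  have := alternatingGroup.isSimpleGroup (α := Ω) (by rw [Nat.card_eq_fintype_card]; omega)
  rcases ((H.normalCore_normal).subgroupOf (alternatingGroup Ω)).eq_bot_or_eq_top with h | h
  · refine hne ((Subgroup.eq_bot_iff_forall _).2 fun x hx => ?_)
    refine S5944.eq_one_of_comm_alternating (by omega) x fun a ha => ?_
    have h3 : a * x * a⁻¹ * x⁻¹ ∈ H.normalCore :=
      mul_mem (H.normalCore_normal.conj_mem x hx a) (inv_mem hx)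
    have h4 : a * x * a⁻¹ * x⁻¹ ∈ alternatingGroup Ω := by
      rw [show a * x * a⁻¹ * x⁻¹ = a * (x * a⁻¹ * x⁻¹) by group]
      exact mul_mem ha ((alternatingGroup.normal (α := Ω)).conj_mem _ (inv_mem ha) x)
    have h5 : (⟨_, h4⟩ : alternatingGroup Ω) ∈ H.normalCore.subgroupOf (alternatingGroup Ω) := h3
    rw [h, Subgroup.mem_bot, Subtype.ext_iff] at h5
    rwa [Subgroup.coe_one, mul_inv_eq_one, mul_inv_eq_iff_eq_mul] at h5
  · have hAle : alternatingGroup Ω ≤ H := fun x hx =>
      H.normalCore_le (show (⟨x, hx⟩ : alternatingGroup Ω) ∈ H.normalCore.subgroupOf _ from h ▸ Subgroup.mem_top _)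
    have h7 := Subgroup.index_dvd_of_le hAle
    rw [alternatingGroup.index_eq_two, hH] at h7
    omega

/-- A subgroup of index six is a point stabiliser after an automorphism. -/
theorem exists_auto {H : Subgroup (Equiv.Perm Ω)} (hH : H.index = 6) :
    ∃ (ψ : Equiv.Perm Ω ≃* Equiv.Perm Ω) (x : Ω), ∀ g, g ∈ H ↔ ψ g x = x := by
  obtain ⟨e⟩ : Nonempty ((Equiv.Perm Ω ⧸ H) ≃ Ω) := by
    have : Fintype (Equiv.Perm Ω ⧸ H) := Fintype.ofFinite _
    exact ⟨Fintype.equivOfCardEq (by rw [← Nat.card_eq_fintype_card, ← Subgroup.index_eq_card, hH, h6])⟩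
  let φ : Equiv.Perm Ω →* Equiv.Perm Ω := e.permCongrHom.toMonoidHom.comp
    (toPermHom (Equiv.Perm Ω) (Equiv.Perm Ω ⧸ H))
  have hφinj : Function.Injective φ := e.permCongrHom.injective.comp
    ((MonoidHom.ker_eq_bot_iff _).1 (by rw [← Subgroup.normalCore_eq_ker, core_bot h6 hH]))
  refine ⟨MulEquiv.ofBijective φ (Finite.injective_iff_bijective.1 hφinj),
    e ((1 : Equiv.Perm Ω) : _ ⧸ H), fun g => ?_⟩
  show _ ↔ e (g • e.symm (e ((1 : Equiv.Perm Ω) : _ ⧸ H))) = _
  rw [e.symm_apply_apply, e.apply_eq_iff_eq, MulAction.Quotient.smul_coe, QuotientGroup.eq]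
  simp [inv_mem_iff]

theorem eq_stab_of_intransitive {H : Subgroup (Equiv.Perm Ω)} (hH : H.index = 6)
    (hnt : ¬ ∀ x y : Ω, ∃ g ∈ H, g x = y) : ∃ a : Ω, H = stabilizer (Equiv.Perm Ω) a := by
  push Not at hnt
  obtain ⟨x, y, hxy⟩ := hnt
  let s : Set Ω := {z | ∃ g ∈ H, g x = z}
  have hxs : x ∈ s := ⟨1, one_mem H, rfl⟩
  have hys : y ∉ s := fun ⟨g, hg, he⟩ => hxy g hg he
  have hle : H ≤ stabilizer (Equiv.Perm Ω) s := fun g hg => by
    rw [mem_stabilizer_iff]
    ext z
    rw [Set.mem_smul_set_iff_inv_smul_mem, Equiv.Perm.smul_def]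
    constructor
    · rintro ⟨k, hk, he⟩
      exact ⟨g * k, mul_mem hg hk, by rw [Equiv.Perm.mul_apply, he, Equiv.Perm.inv_def, Equiv.apply_symm_apply]⟩
    · rintro ⟨k, hk, he⟩
      exact ⟨g⁻¹ * k, mul_mem (inv_mem hg) hk, by rw [Equiv.Perm.mul_apply, he]⟩
  have hne4 : Fintype.card Ω ≠ 4 := by omega
  have : Nontrivial Ω := Fintype.one_lt_card_iff_nontrivial.1 (by omega)
  have hd := Subgroup.index_dvd_of_le hle
  rw [hH] at hd
  have hsmall : (stabilizer (Equiv.Perm Ω) s).index = 6 := by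
    refine le_antisymm (Nat.le_of_dvd (by omega) hd) (h6 ▸ S5944.le_index_of_proper hne4 ?_ ?_)
    · intro htop
      have : Equiv.swap x y ∈ stabilizer (Equiv.Perm Ω) s := htop ▸ Subgroup.mem_top _
      rw [mem_stabilizer_iff] at this
      exact hys ((Set.ext_iff.1 this y).1 ⟨x, hxs, Equiv.swap_apply_left x y⟩)
    · intro hA
      have h7 := Subgroup.index_dvd_of_le hle
      rw [hA, alternatingGroup.index_eq_two] at h7
      -- the alternating group is transitive
      obtain ⟨z, hz⟩ : ∃ z, z ∉ ({x, y} : Finset Ω) := by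
        by_contra hall
        push Not at hall
        have := (Finset.card_le_card (fun c _ => hall c : (Finset.univ : Finset Ω) ⊆ _)).trans Finset.card_le_two
        rw [Finset.card_univ] at this; omega
      simp only [Finset.mem_insert, Finset.mem_singleton, not_or] at hz
      have hne : x ≠ y := fun e => hys (e ▸ hxs)
      have hT : S2119.T x y z ∈ stabilizer (Equiv.Perm Ω) s := hA ▸
        (S2119.isThreeCycle_T hne (Ne.symm hz.1) (Ne.symm hz.2)).mem_alternatingGroup
      rw [mem_stabilizer_iff] at hT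
      exact hys ((Set.ext_iff.1 hT y).1 ⟨x, hxs, S2119.T_a hne (Ne.symm hz.1)⟩)
  have hHs : H = stabilizer (Equiv.Perm Ω) s := Subgroup.eq_of_le_of_card_ge hle (by
    have h1 := H.card_mul_index
    have h2 := (stabilizer (Equiv.Perm Ω) s).card_mul_index
    rw [hH] at h1
    rw [hsmall] at h2
    omega)
  have hpre : IsPretransitive (Equiv.Perm Ω) (Set.powersetCard Ω s.ncard) :=
    Set.powersetCard.isPretransitive
  have hchoose : Nat.choose 6 s.ncard = 6 := by
    have hmem : (Set.toFinite s).toFinset ∈ Set.powersetCard Ω s.ncard := by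
      rw [Set.powersetCard.mem_iff, ← Set.ncard_eq_toFinset_card]
    have hstab : stabilizer (Equiv.Perm Ω) (⟨_, hmem⟩ : Set.powersetCard Ω s.ncard) =
        stabilizer (Equiv.Perm Ω) s := by
      ext g
      rw [mem_stabilizer_iff, mem_stabilizer_iff, ← Subtype.coe_inj, Set.powersetCard.coe_smul,
        ← Finset.coe_inj, Finset.coe_smul_finset, Set.Finite.coe_toFinset]
    have h8 := index_stabilizer_of_transitive (Equiv.Perm Ω) (⟨_, hmem⟩ : Set.powersetCard Ω s.ncard)
    rw [hstab, hsmall, Set.powersetCard.card, Nat.card_eq_fintype_card, h6] at h8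
    exact h8.symm
  have hle6 : s.ncard ≤ 6 := h6 ▸ (Set.ncard_le_ncard (Set.subset_univ s)).trans
    (le_of_eq (by rw [Set.ncard_univ, Nat.card_eq_fintype_card]))
  obtain ⟨a, ha⟩ : ∃ a, s = {a} ∨ sᶜ = {a} := by
    have hc : s.ncard = 1 ∨ sᶜ.ncard = 1 := by
      have h9 := Set.ncard_add_ncard_compl s
      rw [Nat.card_eq_fintype_card, h6] at h9
      have hdec : ∀ k ≤ 6, Nat.choose 6 k = 6 → k = 1 ∨ k = 5 := by decide
      rcases hdec _ hle6 hchoose with e | e
      · exact Or.inl e
      · exact Or.inr (by omega)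
    rcases hc with hc | hc
    · obtain ⟨a, ha⟩ := Set.ncard_eq_one.1 hc; exact ⟨a, Or.inl ha⟩
    · obtain ⟨a, ha⟩ := Set.ncard_eq_one.1 hc; exact ⟨a, Or.inr ha⟩
  refine ⟨a, ?_⟩
  rw [hHs]
  ext g
  simp only [mem_stabilizer_iff]
  rcases ha with ha | ha
  · rw [ha, Set.smul_set_singleton, Set.singleton_eq_singleton_iff]
  · rw [← compl_compl s, Set.smul_set_compl, compl_inj_iff, ha, Set.smul_set_singleton,
      Set.singleton_eq_singleton_iff]

theorem no_swap_of_transitive {H : Subgroup (Equiv.Perm Ω)} (hH : H.index = 6)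
    (ht : ∀ x y : Ω, ∃ g ∈ H, g x = y) {σ : Equiv.Perm Ω} (hσ : σ.IsSwap) : σ ∉ H := by
  intro hσH
  have htr : IsPretransitive H Ω := ⟨fun x y => by
    obtain ⟨g, hg, he⟩ := ht x y
    exact ⟨⟨g, hg⟩, he⟩⟩
  have hfact : Fact (Nat.Prime 5) := ⟨by norm_num⟩
  have hcard : Nat.card H = 120 := by
    have h1 := H.card_mul_index
    rw [hH, Nat.card_perm, Nat.card_eq_fintype_card (α := Ω), h6, show Nat.factorial 6 = 720 from rfl] at h1
    omega
  obtain ⟨⟨g, hg⟩, hgo⟩ := exists_prime_orderOf_dvd_card' (G := H) 5 (by rw [hcard]; norm_num)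
  rw [Subgroup.orderOf_mk] at hgo
  have hprim : IsPreprimitive H Ω := by
    have hb : ∀ B : Set Ω, IsBlock H B → B.Nonempty → B.Subsingleton ∨ B = Set.univ := by
      intro B hB hBn
      have hd := hB.ncard_dvd_card hBn
      rw [Nat.card_eq_fintype_card, h6] at hd
      have hle : B.ncard ≤ 6 := Nat.le_of_dvd (by omega) hd
      by_contra hno
      push Not at hno
      have hB2 : 2 ≤ B.ncard := (Set.one_lt_ncard (Set.toFinite _)).2 hno.1
      have hB6 : B.ncard ≠ 6 := fun e => hno.2 (Set.eq_of_subset_of_ncard_le (Set.subset_univ _)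
        (by rw [Set.ncard_univ, Nat.card_eq_fintype_card, h6, e]) Set.finite_univ)
      -- the element of order five fixes exactly one point
      have hfix : ∀ z w, g z = z → g w = w → z = w := by
        intro z w hz hw
        by_contra hzw
        have hsub : g.support ⊆ Finset.univ \ {z, w} := fun u hu => by
          simp only [Finset.mem_sdiff, Finset.mem_univ, true_and, Finset.mem_insert, Finset.mem_singleton]
          rintro (rfl | rfl)
          · exact Equiv.Perm.mem_support.1 hu hz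
          · exact Equiv.Perm.mem_support.1 hu hw
        have h1 := Finset.card_le_card hsub
        rw [Finset.card_sdiff_of_subset (Finset.subset_univ _), Finset.card_univ, Finset.card_pair hzw, h6] at h1
        have h2 : g.cycleType.sum = g.support.card := Equiv.Perm.sum_cycleType g
        have h3 : (5 : ℕ) ∣ g.cycleType.lcm := by rw [Equiv.Perm.lcm_cycleType, hgo]
        have h4 : ∀ k ∈ g.cycleType, k = 5 := fun k hk => by
          have h5 : k ∣ 5 := hgo ▸ Equiv.Perm.dvd_of_mem_cycleType hk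
          rcases (Nat.dvd_prime (by norm_num)).1 h5 with e | e
          · have := Equiv.Perm.two_le_of_mem_cycleType hk; omega
          · exact e
        rcases Multiset.empty_or_exists_mem g.cycleType with e | ⟨k, hk⟩
        · rw [Equiv.Perm.cycleType_eq_zero.1 e, orderOf_one] at hgo; omega
        · have := Multiset.single_le_sum (fun x _ => Nat.zero_le x) k hk
          rw [h4 k hk] at this
          omega
      -- blocks moved by a power of `g`
      obtain ⟨z₀, hz₀⟩ : ∃ z, g z = z := by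
        by_contra hall
        push Not at hall
        have : g.support = Finset.univ := Finset.eq_univ_of_forall fun u => Equiv.Perm.mem_support.2 (hall u)
        have h2 := Equiv.Perm.sum_cycleType g
        rw [this, Finset.card_univ, h6] at h2
        have h4 : ∀ k ∈ g.cycleType, k = 5 := fun k hk => by
          have h5 : k ∣ 5 := hgo ▸ Equiv.Perm.dvd_of_mem_cycleType hk
          rcases (Nat.dvd_prime (by norm_num)).1 h5 with e | e
          · have := Equiv.Perm.two_le_of_mem_cycleType hk; omega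
          · exact e
        rw [Multiset.eq_replicate_card.2 h4, Multiset.sum_replicate, smul_eq_mul] at h2
        omega
      -- the block through the fixed point is invariant
      obtain ⟨b, hb⟩ := hBn
      obtain ⟨k, hk, hkb⟩ := ht b z₀
      have hB' : IsBlock H ((⟨k, hk⟩ : H) • B) := hB.translate _
      set B' := (⟨k, hk⟩ : H) • B with hB'def
      have hz₀B : z₀ ∈ B' := ⟨b, hb, hkb⟩
      have hinv : (⟨g, hg⟩ : H) • B' = B' := hB'.smul_eq_of_mem hz₀B (show g z₀ ∈ B' by rwa [hz₀])
      have hcB : B'.ncard = B.ncard := Set.ncard_image_of_injective B (MulAction.injective _)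
      obtain ⟨u, hu, huz⟩ := Set.exists_ne_of_one_lt_ncard (by omega : 1 < B'.ncard) z₀
      have horb : ∀ i : ℕ, (g ^ i) u ∈ B' := by
        intro i
        induction i with
        | zero => simpa using hu
        | succ i ih =>
          rw [pow_succ', Equiv.Perm.mul_apply, ← hinv]
          exact ⟨_, ih, rfl⟩
      have hinj : Function.Injective fun i : Fin 5 => (g ^ (i : ℕ)) u := by
        intro i j hij
        by_contra hne
        have key : ∀ i j : ℕ, i < j → j < 5 → (g ^ i) u = (g ^ j) u → False := by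
          intro i j hlt hj he
          rw [← Nat.add_sub_cancel' hlt.le, pow_add, Equiv.Perm.mul_apply] at he
          have he' : (g ^ (j - i)) u = u := ((g ^ i).injective he).symm
          have hcop : Nat.Coprime (j - i) (orderOf g) := by
            rw [hgo]
            exact Nat.Coprime.symm ((Nat.Prime.coprime_iff_not_dvd hfact.out).2
              (Nat.not_dvd_of_pos_of_lt (by omega) (by omega)))
          obtain ⟨r, hr⟩ := exists_pow_eq_self_of_coprime hcop
          have hgu : g u = u := by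
            rw [← hr]
            exact Equiv.Perm.pow_apply_eq_self_of_apply_eq_self he' r
          exact huz (hfix u z₀ hgu hz₀)
        rcases lt_or_gt_of_ne (fun e => hne (Fin.ext e)) with hlt | hlt
        · exact key i j hlt j.2 hij
        · exact key j i hlt i.2 hij.symm
      have h5 : 5 ≤ B'.ncard := by
        have h10 := Set.ncard_le_ncard (Set.range_subset_iff.2 fun i : Fin 5 => horb i) (Set.toFinite B')
        rwa [Set.ncard_range_of_injective hinj, Nat.card_eq_fintype_card, Fintype.card_fin] at h10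
      rw [hcB] at h5
      interval_cases hbc : B.ncard <;> simp_all
    exact ⟨fun {B} hB => by
      rcases B.eq_empty_or_nonempty with h | h
      · exact Or.inl (by simp [h])
      · exact hb B hB h⟩
  have := Equiv.Perm.subgroup_eq_top_of_isPreprimitive_of_isSwap_mem hprim σ hσ hσH
  rw [this, Subgroup.index_top] at hH
  omega

theorem odd_inv_conj {u v : Equiv.Perm Ω} (hu2 : u ^ 2 = 1) (hus : Equiv.Perm.sign u = -1)
    (hu : ¬ u.IsSwap) (hv2 : v ^ 2 = 1) (hvs : Equiv.Perm.sign v = -1) (hv : ¬ v.IsSwap) : IsConj u v := by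
  have key : ∀ w : Equiv.Perm Ω, w ^ 2 = 1 → Equiv.Perm.sign w = -1 → ¬ w.IsSwap →
      w.cycleType = Multiset.replicate 3 2 := by
    intro w hw2 hws hw
    have h2 : ∀ k ∈ w.cycleType, k = 2 := fun k hk => by
      have h5 : k ∣ 2 := (Equiv.Perm.dvd_of_mem_cycleType hk).trans (orderOf_dvd_of_pow_eq_one hw2)
      rcases (Nat.dvd_prime Nat.prime_two).1 h5 with e | e
      · have := Equiv.Perm.two_le_of_mem_cycleType hk; omega
      · exact e
    have hrep := Multiset.eq_replicate_card.2 h2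
    have hsum : w.cycleType.sum ≤ 6 := by
      rw [Equiv.Perm.sum_cycleType]; exact (Finset.card_le_univ _).trans (le_of_eq h6)
    rw [hrep, Multiset.sum_replicate, smul_eq_mul] at hsum
    rw [Equiv.Perm.sign_of_cycleType, hrep, Multiset.sum_replicate, Multiset.card_replicate, smul_eq_mul] at hws
    have hk : w.cycleType.card ≤ 3 := by omega
    interval_cases hc : w.cycleType.card
    · simp at hws
    · refine absurd ?_ hw
      rw [← Equiv.Perm.card_support_eq_two, ← Equiv.Perm.sum_cycleType, hrep, Multiset.sum_replicate]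
      rfl
    · simp [pow_succ] at hws
    · exact hrep
  rw [Equiv.Perm.isConj_iff_cycleType_eq, key u hu2 hus hu, key v hv2 hvs hv]

theorem sign_auto (ψ : Equiv.Perm Ω ≃* Equiv.Perm Ω) (g : Equiv.Perm Ω) :
    Equiv.Perm.sign (ψ g) = Equiv.Perm.sign g := by
  have : Nontrivial Ω := Fintype.one_lt_card_iff_nontrivial.1 (by omega)
  have h1 : (Equiv.Perm.sign : Equiv.Perm Ω →* ℤˣ).comp ψ.toMonoidHom = Equiv.Perm.sign :=
    Equiv.Perm.eq_sign_of_surjective_hom
      ((Equiv.Perm.sign_surjective Ω).comp ψ.surjective)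
  exact DFunLike.congr_fun h1 g

/-- Two transitive subgroups of index six are conjugate. -/
theorem conj_of_transitive {H₁ H₂ : Subgroup (Equiv.Perm Ω)} (h₁ : H₁.index = 6) (h₂ : H₂.index = 6)
    (t₁ : ∀ x y : Ω, ∃ g ∈ H₁, g x = y) (t₂ : ∀ x y : Ω, ∃ g ∈ H₂, g x = y) :
    ∃ g : Equiv.Perm Ω, H₁.map (MulAut.conj g).toMonoidHom = H₂ := by
  have hswapstab : ∀ z : Ω, ∃ σ : Equiv.Perm Ω, σ.IsSwap ∧ σ z = z := fun z => by
    obtain ⟨p, hp⟩ : ∃ p, p ≠ z := by
      have : Nontrivial Ω := Fintype.one_lt_card_iff_nontrivial.1 (by omega)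
      exact exists_ne z
    obtain ⟨r, hr⟩ : ∃ r, r ∉ ({p, z} : Finset Ω) := by
      by_contra hall
      push Not at hall
      have := (Finset.card_le_card (fun c _ => hall c : (Finset.univ : Finset Ω) ⊆ _)).trans Finset.card_le_two
      rw [Finset.card_univ] at this; omega
    simp only [Finset.mem_insert, Finset.mem_singleton, not_or] at hr
    exact ⟨Equiv.swap p r, ⟨p, r, Ne.symm hr.1, rfl⟩, Equiv.swap_apply_of_ne_of_ne hp.symm (Ne.symm hr.2)⟩
  obtain ⟨ψ₁, x₁, e₁⟩ := exists_auto h6 h₁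
  obtain ⟨ψ₂, x₂, e₂⟩ := exists_auto h6 h₂
  have hinvol : ∀ {σ : Equiv.Perm Ω}, σ.IsSwap → σ ^ 2 = 1 ∧ Equiv.Perm.sign σ = -1 := by
    intro σ hσ
    refine ⟨?_, hσ.sign_eq⟩
    obtain ⟨p, r, -, rfl⟩ := hσ
    rw [pow_two, Equiv.swap_mul_self]
  -- the preimage of a transposition is not a transposition
  have htrip : ∀ (H : Subgroup (Equiv.Perm Ω)) (ψ : Equiv.Perm Ω ≃* Equiv.Perm Ω) (x : Ω),
      H.index = 6 → (∀ p r : Ω, ∃ g ∈ H, g p = r) → (∀ g, g ∈ H ↔ ψ g x = x) →
      ∀ σ : Equiv.Perm Ω, σ.IsSwap →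
        (ψ.symm σ) ^ 2 = 1 ∧ Equiv.Perm.sign (ψ.symm σ) = -1 ∧ ¬ (ψ.symm σ).IsSwap := by
    intro H ψ x hH t e σ hσ
    refine ⟨by rw [← map_pow, (hinvol hσ).1, map_one], by rw [sign_auto h6, (hinvol hσ).2], fun hsw => ?_⟩
    obtain ⟨τ, hτ, hτx⟩ := hswapstab x
    obtain ⟨c, hc⟩ := isConj_iff.1 (Equiv.Perm.isConj_iff_cycleType_eq.2 (show σ.cycleType = τ.cycleType by
      rw [Equiv.Perm.card_support_eq_two.2 hσ |> fun h => ((Equiv.Perm.card_support_eq_two.1 h).isCycle).cycleType,
        (hτ.isCycle).cycleType, Equiv.Perm.card_support_eq_two.2 hσ, Equiv.Perm.card_support_eq_two.2 hτ]))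
    have hsw' : (ψ.symm τ).IsSwap := by
      rw [← hc, map_mul, map_mul, map_inv]
      obtain ⟨p, r, hpr, he⟩ := hsw
      rw [he]
      exact ⟨_, _, (ψ.symm c).injective.ne hpr, (Equiv.swap_apply_apply (ψ.symm c) p r).symm⟩
    exact no_swap_of_transitive h6 hH t hsw' ((e _).2 (by rw [ψ.apply_symm_apply, hτx]))
  let χ : Equiv.Perm Ω ≃* Equiv.Perm Ω := ψ₁.trans ψ₂.symm
  have hχswap : ∀ σ : Equiv.Perm Ω, σ.IsSwap → (χ σ).IsSwap := by
    intro σ hσ
    by_contra hno
    -- `χ σ` is then a non-transposition odd involution, hence the `ψ₂`-preimage of a transposition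
    obtain ⟨τ, hτ, hτx⟩ := hswapstab x₂
    obtain ⟨a1, a2, a3⟩ := htrip H₂ ψ₂ x₂ h₂ t₂ e₂ τ hτ
    obtain ⟨b1, b2, b3⟩ := htrip H₁ ψ₁ x₁ h₁ t₁ e₁ τ hτ
    have hc1 : IsConj (χ σ) (ψ₂.symm τ) := odd_inv_conj h6 (by rw [← map_pow, (hinvol hσ).1, map_one])
      (by rw [sign_auto h6, (hinvol hσ).2]) hno a1 a2 a3
    have hc2 : IsConj (ψ₁ σ) τ := by
      have := ψ₂.toMonoidHom.map_isConj hc1
      simpa [χ] using this
    obtain ⟨c, hc⟩ := isConj_iff.1 hc2
    apply b3
    rw [← hc, map_mul, map_mul, map_inv, ψ₁.symm_apply_apply]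
    obtain ⟨p, r, hpr, he⟩ := hσ
    rw [he]
    exact ⟨_, _, (ψ₁.symm c).injective.ne hpr, (Equiv.swap_apply_apply (ψ₁.symm c) p r).symm⟩
  have hχ : ∀ z : Ω, ∃ a, ∀ g, g z = z ↔ χ g a = a := by
    intro z
    have hi : ((stabilizer (Equiv.Perm Ω) z).map χ.toMonoidHom).index = 6 :=
      (Subgroup.index_map_equiv _ χ).trans (by rw [index_stabilizer_of_transitive, Nat.card_eq_fintype_card, h6])
    obtain ⟨σ, hσ, hσz⟩ := hswapstab z
    obtain ⟨a, ha⟩ := eq_stab_of_intransitive h6 hi fun ht =>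
      no_swap_of_transitive h6 hi ht (hχswap σ hσ) ⟨σ, hσz, rfl⟩
    refine ⟨a, fun g => ?_⟩
    have h3 : χ g ∈ (stabilizer (Equiv.Perm Ω) z).map χ.toMonoidHom ↔ g z = z :=
      ⟨fun ⟨k, hk, he⟩ => χ.injective he ▸ hk, fun h => ⟨g, h, rfl⟩⟩
    rw [← h3, ha]
    rfl
  choose π hπ using hχ
  have huniq : ∀ a a' : Ω, (∀ g : Equiv.Perm Ω, g a = a → g a' = a') → a = a' := by
    intro a a' h
    by_contra hne
    obtain ⟨r, hr⟩ : ∃ r, r ∉ ({a, a'} : Finset Ω) := by
      by_contra hall
      push Not at hall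
      have := (Finset.card_le_card (fun c _ => hall c : (Finset.univ : Finset Ω) ⊆ _)).trans Finset.card_le_two
      rw [Finset.card_univ] at this; omega
    simp only [Finset.mem_insert, Finset.mem_singleton, not_or] at hr
    have := h (Equiv.swap a' r) (Equiv.swap_apply_of_ne_of_ne hne (Ne.symm hr.1))
    rw [Equiv.swap_apply_left] at this
    exact hr.2 this
  have hequiv : ∀ g z, χ g (π z) = π (g z) := fun g z => by
    refine (huniq _ _ fun k hk => ?_).symm
    obtain ⟨k, rfl⟩ := χ.surjective k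
    rw [← hπ] at hk
    have h4 : (g⁻¹ * k * g) z = z := by
      rw [Equiv.Perm.mul_apply, Equiv.Perm.mul_apply, hk, Equiv.Perm.inv_def, Equiv.symm_apply_apply]
    rw [hπ, map_mul, map_mul, map_inv, Equiv.Perm.mul_apply, Equiv.Perm.mul_apply, Equiv.Perm.inv_def,
      Equiv.symm_apply_eq] at h4
    exact h4
  have hπinj : Function.Injective π := fun z w h => huniq z w fun g hg => by
    rw [hπ, ← h, ← hπ]; exact hg
  let P : Equiv.Perm Ω := Equiv.ofBijective π (Finite.injective_iff_bijective.1 hπinj)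
  have hχconj : ∀ g, χ g = P * g * P⁻¹ := fun g => Equiv.ext fun a => by
    obtain ⟨z, rfl⟩ := P.surjective a
    rw [Equiv.Perm.mul_apply, Equiv.Perm.mul_apply, Equiv.Perm.inv_def, Equiv.symm_apply_apply]
    exact hequiv g z
  obtain ⟨c, hc⟩ := (IsPretransitive.exists_smul_eq (M := Equiv.Perm Ω) x₁ x₂)
  refine ⟨ψ₂.symm c * P, ?_⟩
  ext g
  rw [Subgroup.mem_map_equiv, MulAut.conj_symm_apply, e₁, e₂]
  have h5 : ψ₁ ((ψ₂.symm c * P)⁻¹ * g * (ψ₂.symm c * P)) = c⁻¹ * ψ₂ g * c := by
    have h6' : ∀ u, ψ₁ u = ψ₂ (P * u * P⁻¹) := fun u => by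
      rw [← hχconj u]; exact (ψ₂.apply_symm_apply _).symm
    rw [h6', show P * ((ψ₂.symm c * P)⁻¹ * g * (ψ₂.symm c * P)) * P⁻¹ = (ψ₂.symm c)⁻¹ * g * ψ₂.symm c by group,
      map_mul, map_mul, map_inv, ψ₂.apply_symm_apply]
  rw [h5, Equiv.Perm.mul_apply, Equiv.Perm.mul_apply, Equiv.Perm.inv_def, Equiv.symm_apply_eq]
  rw [← hc, Equiv.Perm.smul_def]

/-- There is a transitive subgroup of index six. -/
theorem exists_transitive : ∃ H : Subgroup (Equiv.Perm Ω), H.index = 6 ∧ ∀ x y : Ω, ∃ g ∈ H, g x = y := by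
  have hfact : Fact (Nat.Prime 5) := ⟨by norm_num⟩
  let S := Equiv.Perm (Fin 5)
  have hScard : Nat.card S = 120 := by rw [Nat.card_perm, Nat.card_eq_fintype_card, Fintype.card_fin]; rfl
  have hsyl : Nat.card (Sylow 5 S) = 6 := by
    obtain ⟨P⟩ : Nonempty (Sylow 5 S) := inferInstance
    have h1 : Nat.card (Sylow 5 S) ≡ 1 [MOD 5] := card_sylow_modEq_one 5 S
    have hP : Nat.card P = 5 := by
      have hPd : Nat.card P = 5 ^ (120 : ℕ).factorization 5 := by rw [P.card_eq_multiplicity, hScard]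
      have h120 : (120 : ℕ).factorization 5 = 1 := by
        rw [show (120 : ℕ) = 5 * 24 by norm_num, Nat.factorization_mul (by norm_num) (by norm_num),
          Finsupp.add_apply, Nat.Prime.factorization_self (by norm_num : Nat.Prime 5),
          Nat.factorization_eq_zero_of_not_dvd (show ¬ 5 ∣ 24 by norm_num)]
      rw [hPd, h120, pow_one]
    have h2 : Nat.card (Sylow 5 S) ∣ 24 := by
      have h3 := (P : Subgroup S).card_mul_index
      rw [hP, hScard] at h3
      have h4 := P.card_dvd_index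
      rwa [show (P : Subgroup S).index = 24 by omega] at h4
    have h5 : Nat.card (Sylow 5 S) ≠ 1 := by
      intro h
      have := (Nat.card_eq_one_iff_unique.1 h).1
      have hn : (P : Subgroup S).Normal := Sylow.normal_of_subsingleton P
      have := S5944.le_index_of_proper (α := Fin 5) (by simp) (H := (P : Subgroup S))
        (fun e => by rw [e, Subgroup.card_top, hScard] at hP; omega)
        (fun e => by
          have h7 := (alternatingGroup (Fin 5)).card_mul_index
          rw [alternatingGroup.index_eq_two, ← e, hP, hScard] at h7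
          omega)
      have hA : alternatingGroup (Fin 5) ≤ (P : Subgroup S) := by
        have := alternatingGroup.isSimpleGroup (α := Fin 5) (by simp)
        rcases (hn.subgroupOf (alternatingGroup (Fin 5))).eq_bot_or_eq_top with h8 | h8
        · exfalso
          obtain ⟨⟨g, hg⟩, hgo⟩ := exists_prime_orderOf_dvd_card' (G := (P : Subgroup S)) 5 (by rw [hP])
          rw [Subgroup.orderOf_mk] at hgo
          have hs : Equiv.Perm.sign g = 1 := by
            have h9 : Equiv.Perm.sign g ^ 5 = 1 := by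
              rw [← map_pow, show g ^ 5 = 1 from orderOf_dvd_iff_pow_eq_one.1 (dvd_of_eq hgo), map_one]
            rcases Int.units_eq_one_or (Equiv.Perm.sign g) with h' | h' <;> rw [h'] at h9 ⊢
            simp [pow_succ] at h9
          have h10 : (⟨g, Equiv.Perm.mem_alternatingGroup.2 hs⟩ : alternatingGroup (Fin 5)) ∈
              (P : Subgroup S).subgroupOf (alternatingGroup (Fin 5)) := hg
          rw [h8, Subgroup.mem_bot, Subtype.ext_iff] at h10
          rw [show g = 1 from h10, orderOf_one] at hgo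
          omega
        · exact fun x hx => show (⟨x, hx⟩ : alternatingGroup (Fin 5)) ∈ (P : Subgroup S).subgroupOf _ from h8 ▸ Subgroup.mem_top _
      have h11 := Subgroup.card_dvd_of_le hA
      have h7 := (alternatingGroup (Fin 5)).card_mul_index
      rw [alternatingGroup.index_eq_two, hScard] at h7
      rw [hP, show Nat.card (alternatingGroup (Fin 5)) = 60 by omega] at h11
      norm_num at h11
    generalize Nat.card (Sylow 5 S) = N at h1 h2 h5 ⊢
    have : N ≤ 24 := Nat.le_of_dvd (by omega) h2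
    unfold Nat.ModEq at h1
    interval_cases N <;> omega
  obtain ⟨e⟩ : Nonempty (Sylow 5 S ≃ Ω) := by
    have : Fintype (Sylow 5 S) := Fintype.ofFinite _
    exact ⟨Fintype.equivOfCardEq (by rw [← Nat.card_eq_fintype_card, hsyl, h6])⟩
  let φ : S →* Equiv.Perm Ω := e.permCongrHom.toMonoidHom.comp (toPermHom S (Sylow 5 S))
  have htr : ∀ x y : Ω, ∃ g : S, φ g x = y := fun x y => by
    obtain ⟨g, hg⟩ := IsPretransitive.exists_smul_eq (M := S) (e.symm x) (e.symm y)
    exact ⟨g, show e (g • e.symm x) = y by rw [hg, e.apply_symm_apply]⟩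
  have hinj : Function.Injective φ := by
    rw [← MonoidHom.ker_eq_bot_iff]
    by_contra hne
    have hn : φ.ker.Normal := MonoidHom.normal_ker φ
    have := alternatingGroup.isSimpleGroup (α := Fin 5) (by simp)
    have hA : alternatingGroup (Fin 5) ≤ φ.ker := by
      rcases (hn.subgroupOf (alternatingGroup (Fin 5))).eq_bot_or_eq_top with h8 | h8
      · exfalso
        refine hne ((Subgroup.eq_bot_iff_forall _).2 fun x hx => ?_)
        refine S5944.eq_one_of_comm_alternating (by simp) x fun a ha => ?_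
        have h3 : a * x * a⁻¹ * x⁻¹ ∈ φ.ker := mul_mem (hn.conj_mem x hx a) (inv_mem hx)
        have h4 : a * x * a⁻¹ * x⁻¹ ∈ alternatingGroup (Fin 5) := by
          rw [show a * x * a⁻¹ * x⁻¹ = a * (x * a⁻¹ * x⁻¹) by group]
          exact mul_mem ha ((alternatingGroup.normal (α := Fin 5)).conj_mem _ (inv_mem ha) x)
        have h5 : (⟨_, h4⟩ : alternatingGroup (Fin 5)) ∈ φ.ker.subgroupOf (alternatingGroup (Fin 5)) := h3
        rw [h8, Subgroup.mem_bot, Subtype.ext_iff] at h5
        rwa [Subgroup.coe_one, mul_inv_eq_one, mul_inv_eq_iff_eq_mul] at h5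
      · exact fun x hx => show (⟨x, hx⟩ : alternatingGroup (Fin 5)) ∈ φ.ker.subgroupOf _ from h8 ▸ Subgroup.mem_top _
    have hr : φ.ker.index ≤ 2 := by
      have h12 := Subgroup.index_dvd_of_le hA
      rw [alternatingGroup.index_eq_two] at h12
      exact Nat.le_of_dvd (by omega) h12
    rw [Subgroup.index_ker] at hr
    obtain ⟨x⟩ : Nonempty Ω := Fintype.card_pos_iff.1 (by omega)
    have hsur : Function.Surjective fun g : φ.range => (g : Equiv.Perm Ω) x := fun y => by
      obtain ⟨g, hg⟩ := htr x y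
      exact ⟨⟨φ g, g, rfl⟩, hg⟩
    have h13 := Nat.card_le_card_of_surjective _ hsur
    rw [Nat.card_eq_fintype_card (α := Ω), h6] at h13
    omega
  refine ⟨φ.range, ?_, fun x y => ?_⟩
  · have h1 := φ.range.card_mul_index
    rw [← Nat.card_congr (MonoidHom.ofInjective hinj).toEquiv, hScard, Nat.card_perm,
      Nat.card_eq_fintype_card, h6, show Nat.factorial 6 = 720 from rfl] at h1
    omega
  · obtain ⟨g, hg⟩ := htr x y
    exact ⟨φ g, ⟨g, rfl⟩, hg⟩

end helpers

/-- The symmetric group on a 6-element set Ω has exactly two conjugacy classes of subgroups of index 6: there are two non-conjugate subgroups of index 6 (a point stabilizer and a transitive subgroup isomorphic to S₅), and every subgroup of index 6 is conjugate to one of them. -/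
theorem result {Ω : Type*} [Fintype Ω] [DecidableEq Ω] (h6 : Fintype.card Ω = 6) :
    ∃ H₁ H₂ : Subgroup (Equiv.Perm Ω), H₁.index = 6 ∧ H₂.index = 6 ∧
      (¬ ∃ g : Equiv.Perm Ω, Subgroup.map (MulAut.conj g).toMonoidHom H₁ = H₂) ∧
      ∀ H : Subgroup (Equiv.Perm Ω), H.index = 6 →
        ∃ g : Equiv.Perm Ω, Subgroup.map (MulAut.conj g).toMonoidHom H₁ = H ∨ Subgroup.map (MulAut.conj g).toMonoidHom H₂ = H := by
  obtain ⟨H₂, h₂, t₂⟩ := exists_transitive h6
  obtain ⟨x⟩ : Nonempty Ω := Fintype.card_pos_iff.1 (by omega)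
  have h₁ : (MulAction.stabilizer (Equiv.Perm Ω) x).index = 6 := by
    rw [MulAction.index_stabilizer_of_transitive, Nat.card_eq_fintype_card, h6]
  refine ⟨_, H₂, h₁, h₂, ?_, fun H hH => ?_⟩
  · rintro ⟨g, hg⟩
    have : Nontrivial Ω := Fintype.one_lt_card_iff_nontrivial.1 (by omega)
    obtain ⟨y, hy⟩ := exists_ne (g x)
    obtain ⟨k, hk, hky⟩ := t₂ (g x) y
    rw [← hg, Subgroup.mem_map_equiv, MulAut.conj_symm_apply, MulAction.mem_stabilizer_iff,
      Equiv.Perm.smul_def, Equiv.Perm.mul_apply, Equiv.Perm.mul_apply, Equiv.Perm.inv_def,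
      Equiv.symm_apply_eq, hky] at hk
    exact hy hk
  · by_cases ht : ∀ a b : Ω, ∃ g ∈ H, g a = b
    · obtain ⟨g, hg⟩ := conj_of_transitive h6 h₂ hH t₂ ht
      exact ⟨g, Or.inr hg⟩
    · obtain ⟨a, rfl⟩ := eq_stab_of_intransitive h6 hH ht
      refine ⟨Equiv.swap x a, Or.inl ?_⟩
      rw [← MulAction.stabilizer_smul_eq_stabilizer_map_conj, Equiv.Perm.smul_def, Equiv.swap_apply_left]

end Cfsg.Agent.S5912
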