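import Cfsg.Statements.S0689
import Cfsg.Agent.Lib.Perm.IcoNonsolvable
import Cfsg.Agent.Lib.StructC.FrobSemi
import Mathlib.Tactic.LinearCombination

set_option autoImplicit false
open Cfsg

namespace Cfsg.Agent.S0689

/-- Generators of a quaternion subgroup of `SL(2,5)`. -/
def qI : Matrix.SpecialLinearGroup (Fin 2) (ZMod 5) := ⟨!![2, 0; 0, 3], by decide⟩

/-- Generators of a quaternion subgroup of `SL(2,5)`. -/
def qJ : Matrix.SpecialLinearGroup (Fin 2) (ZMod 5) := ⟨!![0, 1; 4, 0], by decide⟩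

theorem q_spec : qI * qI = CfsgLib.Recog.binIcoGen 2 ∧ qJ * qJ = CfsgLib.Recog.binIcoGen 2 ∧
    qI * qJ = CfsgLib.Recog.binIcoGen 2 * (qJ * qI) := by
  decide +kernel

theorem prime_power_options {Q e m : ℕ} {p k : ℕ} (hp : p.Prime) (hQ : Q = p ^ k)
    (he : e = 1 ∨ e = 2) (hm : m ∣ Q - 1) (hcop : m.Coprime 30) (hm0 : 0 < m)
    (heq : Q * Q = 120 * m * e + 1) :
    e = 1 ∧ ((Q = 11 ∧ m = 1) ∨ (Q = 29 ∧ m = 7) ∨ (Q = 59 ∧ m = 29)) := by
  have hQ1 : 2 ≤ Q := by
    by_contra h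
    interval_cases Q <;> rcases he with rfl | rfl <;> omega
  obtain ⟨s, hs⟩ := hm
  have h1 : s * (Q + 1) = 120 * e := by
    have : (Q - 1) * (Q + 1) = 120 * m * e := by
      obtain ⟨t, rfl⟩ : ∃ t, Q = t + 1 := ⟨Q - 1, by omega⟩
      rw [Nat.add_sub_cancel]
      linarith
    rw [hs] at this
    exact Nat.eq_of_mul_eq_mul_left hm0 (by linarith)
  have hQle : Q + 1 ≤ 240 := by
    have hspos : 1 ≤ s := by
      rcases Nat.eq_zero_or_pos s with rfl | h
      · simp at h1; omega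
      · exact h
    have : Q + 1 ≤ s * (Q + 1) := Nat.le_mul_of_pos_left _ hspos
    omega
  have hd : Q + 1 ∣ 120 * e := ⟨s, by linarith⟩
  have key : ∀ Q ∈ List.range 240, 2 ≤ Q → ∀ e ∈ [1, 2], Q + 1 ∣ 120 * e →
      120 * e / (Q + 1) ∣ Q - 1 → Nat.Coprime ((Q - 1) / (120 * e / (Q + 1))) 30 →
      (e = 1 ∧ ((Q = 11 ∧ (Q - 1) / (120 * e / (Q + 1)) = 1) ∨
        (Q = 29 ∧ (Q - 1) / (120 * e / (Q + 1)) = 7) ∨
        (Q = 59 ∧ (Q - 1) / (120 * e / (Q + 1)) = 29))) ∨ Q ∈ [119, 14, 15, 39] := by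
    decide +kernel
  have hs' : 120 * e / (Q + 1) = s := by rw [← h1]; exact Nat.mul_div_cancel _ (by omega)
  have hspos : 0 < s := by
    rcases Nat.eq_zero_or_pos s with rfl | h
    · simp at h1; omega
    · exact h
  have hmd : (Q - 1) / s = m := by rw [hs]; exact Nat.mul_div_cancel _ hspos
  rcases key Q (List.mem_range.2 (by omega)) hQ1 e (by rcases he with rfl | rfl <;> simp) hd
    (hs' ▸ ⟨m, by rw [hs, mul_comm]⟩) (by rw [hs', hmd]; exact hcop) with h | h
  · rwa [hs', hmd] at h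
  · exfalso
    simp only [List.mem_cons, List.not_mem_nil, or_false] at h
    have : ∀ a b : ℕ, a.Prime → b.Prime → a ∣ p ^ k → b ∣ p ^ k → a = b := fun a b ha hb hda hdb =>
      ((Nat.prime_dvd_prime_iff_eq ha hp).1 (ha.dvd_of_dvd_pow hda)).trans
        ((Nat.prime_dvd_prime_iff_eq hb hp).1 (hb.dvd_of_dvd_pow hdb)).symm
    rcases h with rfl | rfl | rfl | rfl
    · exact absurd (this 7 17 (by norm_num) (by norm_num) (by rw [← hQ]; norm_num) (by rw [← hQ]; norm_num)) (by norm_num)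
    · exact absurd (this 2 7 (by norm_num) (by norm_num) (by rw [← hQ]; norm_num) (by rw [← hQ]; norm_num)) (by norm_num)
    · exact absurd (this 3 5 (by norm_num) (by norm_num) (by rw [← hQ]; norm_num) (by rw [← hQ]; norm_num)) (by norm_num)
    · exact absurd (this 3 13 (by norm_num) (by norm_num) (by rw [← hQ]; norm_num) (by rw [← hQ]; norm_num)) (by norm_num)

/-- The insoluble sharply doubly transitive groups: a non-solvable linear group over the prime field that is regular on the non-zero vectors of `V` occurs only for `|V| = 11², 29², 59²`, and is `SL(2,5) × C_m` with `m = 1, 7, 29` respectively. -/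
theorem result {p : ℕ} [Fact p.Prime] {V : Type*} [AddCommGroup V] [Module (ZMod p) V] [Finite V] (H : Subgroup (V ≃ₗ[ZMod p] V)) (hreg : ∀ v w : V, v ≠ 0 → w ≠ 0 → ∃! h : H, (h : V ≃ₗ[ZMod p] V) v = w) (hsolv : ¬ Group.IsSolvable H) : (Nat.card V = 121 ∧ Nonempty (H ≃* Matrix.SpecialLinearGroup (Fin 2) (ZMod 5))) ∨ (Nat.card V = 841 ∧ Nonempty (H ≃* Matrix.SpecialLinearGroup (Fin 2) (ZMod 5) × Multiplicative (ZMod 7))) ∨ (Nat.card V = 3481 ∧ Nonempty (H ≃* Matrix.SpecialLinearGroup (Fin 2) (ZMod 5) × Multiplicative (ZMod 29))) := by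
  classical
  have hp := (Fact.out : p.Prime)
  have hfree : ∀ g : H, ∀ v : V, v ≠ 0 → (g : V ≃ₗ[ZMod p] V) v = v → g = 1 := fun g v hv h =>
    (hreg v v hv hv).unique h rfl
  have hnt : Nontrivial H := by
    by_contra h
    rw [not_nontrivial_iff_subsingleton] at h
    exact hsolv inferInstance
  have : Finite H := Finite.of_injective (fun g : H => fun v => (g : V ≃ₗ[ZMod p] V) v)
    (fun g h e => Subtype.ext (LinearEquiv.ext (congrFun e)))
  have hntV : Nontrivial V := by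
    by_contra h
    rw [not_nontrivial_iff_subsingleton] at h
    obtain ⟨g, hg⟩ := exists_ne (1 : H)
    exact hg (Subtype.ext (LinearEquiv.ext fun v => Subsingleton.elim _ _))
  obtain ⟨L, hL, hLf, C, hC, he, -⟩ := CfsgLib.StructC.exists_frobenius_of_fpf_add (H := H) (V := V)
    (fun g v => (g : V ≃ₗ[ZMod p] V) v) (fun v => rfl) (fun a b v => rfl)
    (fun a v w => map_add _ v w) (fun g hg v hv => by_contra fun h => hg (hfree g v h hv))
  obtain ⟨d, f, hd, hf⟩ := CfsgLib.Perm.Ico.exists_fpf_complex ⟨L, hL, hLf, C, hC, he⟩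
  have : Nonempty (Fin d) := ⟨⟨0, hd⟩⟩
  obtain ⟨ψ, M, hinj, -, -, hinf, hcomm, hcyc, hcop, hGn, hidx⟩ :=
    CfsgLib.Perm.Ico.nonsolvable_structure hf hsolv
  -- the order of `H`
  obtain ⟨v₀, hv₀⟩ := exists_ne (0 : V)
  have hcardH : Nat.card H + 1 = Nat.card V := by
    have e : H ≃ {v : V // v ≠ 0} := Equiv.ofBijective
      (fun g => ⟨(g : V ≃ₗ[ZMod p] V) v₀, by simpa using hv₀⟩)
      ⟨fun g h e => (hreg v₀ _ hv₀ (by simpa using hv₀)).unique rfl (congrArg Subtype.val e).symm,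
        fun w => ⟨(hreg v₀ w.1 hv₀ w.2).exists.choose, Subtype.ext (hreg v₀ w.1 hv₀ w.2).exists.choose_spec⟩⟩
    rw [Nat.card_congr e]
    have := Fintype.ofFinite V
    rw [Nat.card_eq_fintype_card, Nat.card_eq_fintype_card, Fintype.card_subtype_compl,
      Fintype.card_subtype_eq]
    have : 0 < Fintype.card V := Fintype.card_pos
    omega
  have hcm : ∀ (s : Matrix.SpecialLinearGroup (Fin 2) (ZMod 5)) (x : M),
      Commute (ψ s) (M.subtype x) := fun s x => hcomm (ψ s) (MonoidHom.mem_range.2 ⟨s, rfl⟩) x x.2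
  obtain ⟨φ, hφ⟩ : ∃ φ : Matrix.SpecialLinearGroup (Fin 2) (ZMod 5) × M →* H,
      φ = MonoidHom.noncommCoprod ψ M.subtype hcm := ⟨_, rfl⟩
  have hφinj : Function.Injective φ := by
    rw [← MonoidHom.ker_eq_bot_iff, eq_bot_iff]
    rintro ⟨s, x⟩ h
    rw [MonoidHom.mem_ker, hφ, MonoidHom.noncommCoprod_apply] at h
    have h1 : ψ s ∈ ψ.range ⊓ M := ⟨⟨s, rfl⟩, by
      rw [eq_inv_of_mul_eq_one_left h]; exact M.inv_mem x.2⟩
    rw [hinf, Subgroup.mem_bot] at h1
    rw [h1, one_mul] at h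
    rw [Subgroup.mem_bot, Prod.mk_eq_one]
    exact ⟨hinj (h1.trans (map_one ψ).symm), Subtype.ext h⟩
  have hrange : φ.range = ψ.range ⊔ M := by
    rw [hφ, MonoidHom.noncommCoprod_range, Subgroup.range_subtype]
  have hcard : Nat.card H = 120 * Nat.card M * (ψ.range ⊔ M).index := by
    rw [← (ψ.range ⊔ M).card_mul_index, ← hrange, ← Nat.card_congr (MonoidHom.ofInjective hφinj).toEquiv,
      Nat.card_prod, CfsgLib.Recog.natCard_slTwoFive]
  -- an invariant subspace of half the dimension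
  have hz1 : CfsgLib.Recog.binIcoGen 2 ≠ 1 := CfsgLib.Perm.Ico.z_sq.2.1
  have hneg : ∀ v : V, ((ψ (CfsgLib.Recog.binIcoGen 2) : H) : V ≃ₗ[ZMod p] V) v = -v := by
    intro v
    obtain ⟨z, hz⟩ : ∃ z, z = ψ (CfsgLib.Recog.binIcoGen 2) := ⟨_, rfl⟩
    rw [← hz]
    have hzz : z * z = 1 := by
      rw [hz, ← map_mul, ← pow_two, CfsgLib.Perm.Ico.z_sq.1, map_one]
    have h2 : (z : V ≃ₗ[ZMod p] V) ((z : V ≃ₗ[ZMod p] V) v) = v := by
      show ((z * z : H) : V ≃ₗ[ZMod p] V) v = v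
      rw [hzz]; rfl
    by_contra hne
    have h3 : (z : V ≃ₗ[ZMod p] V) v + v ≠ 0 := fun e => hne (eq_neg_of_add_eq_zero_left e)
    exact hz1 (hinj (by rw [map_one, ← hz]; exact hfree z _ h3 (by rw [map_add, h2, add_comm])))
  let act : Matrix.SpecialLinearGroup (Fin 2) (ZMod 5) → V →ₗ[ZMod p] V := fun s =>
    ((ψ s : H) : V ≃ₗ[ZMod p] V).toLinearMap
  have hact : ∀ s t, ∀ v, act s (act t v) = act (s * t) v := fun s t v => by
    simp only [act, map_mul]; rfl
  obtain ⟨hII, hJJ, hIJ⟩ := q_spec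
  have eI : ∀ v, act qI (act qI v) = -v := fun v => by rw [hact, hII]; exact hneg v
  have eJ : ∀ v, act qJ (act qJ v) = -v := fun v => by rw [hact, hJJ]; exact hneg v
  have eIJ : ∀ v, act qI (act qJ v) = -(act qJ (act qI v)) := fun v => by
    rw [hact, hact, hIJ, ← hact]; exact hneg _
  have hp2 : (2 : ZMod p) ≠ 0 := by
    intro h2
    have hVV : ∀ v : V, v + v = 0 := fun v => by rw [← two_smul (ZMod p) v, h2, zero_smul]
    exact hz1 (hinj (by
      rw [map_one]
      exact hfree _ v₀ hv₀ (by rw [hneg, neg_eq_iff_add_eq_zero, hVV])))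
  obtain ⟨x, y, hxy⟩ := ZMod.sq_add_sq p (-1 : ZMod p)
  let N : V →ₗ[ZMod p] V := x • act qI + y • act qJ + (act qI).comp (act qJ)
  have hN : ∀ v, N v = x • act qI v + y • act qJ v + act qI (act qJ v) := fun v => rfl
  have hNN : ∀ v, N (N v) = 0 := by
    intro v
    simp only [hN, map_add, map_smul, eI, eJ, eIJ, map_neg]
    linear_combination (norm := module) (-1 : ZMod p) • congrArg (fun t : ZMod p => t • v) hxy
  have hNK : ∀ v, N (act qI (act qJ v)) + act qI (act qJ (N v)) = (-2 : ZMod p) • v := by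
    intro v
    simp only [hN, map_add, map_smul, eI, eJ, eIJ, map_neg]
    module
  have hker : LinearMap.ker N = LinearMap.range N := by
    ext v
    rw [LinearMap.mem_ker, LinearMap.mem_range]
    refine ⟨fun h => ⟨(-2 : ZMod p)⁻¹ • act qI (act qJ v), ?_⟩, fun ⟨w, hw⟩ => hw ▸ hNN w⟩
    have := hNK v
    rw [h, map_zero, map_zero, add_zero] at this
    rw [map_smul, this, smul_smul, inv_mul_cancel₀ (neg_ne_zero.2 hp2), one_smul]
  have hQ : Nat.card V = Nat.card (LinearMap.ker N) * Nat.card (LinearMap.ker N) := by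
    have h1 := Submodule.card_eq_card_quotient_mul_card (LinearMap.ker N)
    rw [Nat.card_congr N.quotKerEquivRange.toEquiv] at h1
    rw [h1, hker]
  obtain ⟨k, hk⟩ : ∃ k, Nat.card (LinearMap.ker N) = p ^ k := by
    refine ⟨Module.finrank (ZMod p) (LinearMap.ker N), ?_⟩
    rw [Module.natCard_eq_pow_finrank (K := ZMod p), Nat.card_zmod]
  -- the orbits of `M` on this subspace
  have hcomN : ∀ g ∈ M, ∀ v, N ((g : V ≃ₗ[ZMod p] V) v) = (g : V ≃ₗ[ZMod p] V) (N v) := by
    intro g hg v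
    have hc : ∀ s, ∀ w, act s ((g : V ≃ₗ[ZMod p] V) w) = (g : V ≃ₗ[ZMod p] V) (act s w) := fun s w => by
      show ((ψ s * g : H) : V ≃ₗ[ZMod p] V) w = ((g * ψ s : H) : V ≃ₗ[ZMod p] V) w
      rw [hcomm (ψ s) (MonoidHom.mem_range.2 ⟨s, rfl⟩) g hg]
    simp only [hN, hc, map_add, map_smul]
  have hmdvd : Nat.card M ∣ Nat.card (LinearMap.ker N) - 1 := by
    let _ : MulAction M {v : LinearMap.ker N // v ≠ 0} :=
      { smul := fun g v => ⟨⟨((g : H) : V ≃ₗ[ZMod p] V) v.1.1, by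
            rw [LinearMap.mem_ker, hcomN g g.2, LinearMap.mem_ker.1 v.1.2, map_zero]⟩, fun e => v.2
              (Subtype.ext (by simpa using congrArg Subtype.val e))⟩
        one_smul := fun v => rfl
        mul_smul := fun g h v => rfl }
    have horb : ∀ v : {v : LinearMap.ker N // v ≠ 0}, MulAction.stabilizer M v = ⊥ := by
      intro v
      rw [eq_bot_iff]
      intro g hg
      rw [Subgroup.mem_bot]
      refine Subtype.ext (hfree g v.1.1 (fun e => v.2 (Subtype.ext e)) ?_)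
      exact congrArg (fun t : {v : LinearMap.ker N // v ≠ 0} => t.1.1) hg
    have h := Nat.card_congr (MulAction.selfEquivSigmaOrbitsQuotientStabilizer M
      {v : LinearMap.ker N // v ≠ 0})
    have : Fintype (MulAction.orbitRel.Quotient M {v : LinearMap.ker N // v ≠ 0}) := Fintype.ofFinite _
    rw [Nat.card_sigma] at h
    rw [Finset.sum_congr rfl (fun i _ => by rw [horb, ← Subgroup.index_eq_card, Subgroup.index_bot]),
      Finset.sum_const, smul_eq_mul] at h
    have hc : Nat.card {v : LinearMap.ker N // v ≠ 0} = Nat.card (LinearMap.ker N) - 1 := by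
      have := Fintype.ofFinite (LinearMap.ker N)
      rw [Nat.card_eq_fintype_card, Nat.card_eq_fintype_card, Fintype.card_subtype_compl,
        Fintype.card_subtype_eq]
    rw [← hc, h]
    exact dvd_mul_left _ _
  obtain ⟨he1, hcases⟩ := prime_power_options hp hk hidx hmdvd hcop Nat.card_pos
    (by rw [← hQ, ← hcardH, hcard])
  have htop : φ.range = ⊤ := by rw [hrange]; exact Subgroup.index_eq_one.1 he1
  have iso : Matrix.SpecialLinearGroup (Fin 2) (ZMod 5) × M ≃* H :=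
    (MonoidHom.ofInjective hφinj).trans ((MulEquiv.subgroupCongr htop).trans Subgroup.topEquiv)
  rcases hcases with ⟨hQ', hm⟩ | ⟨hQ', hm⟩ | ⟨hQ', hm⟩
  · refine Or.inl ⟨by rw [hQ, hQ'], ⟨iso.symm.trans ?_⟩⟩
    have : Subsingleton M := (Nat.card_eq_one_iff_unique.1 hm).1
    exact
      { toFun := Prod.fst, invFun := fun s => (s, 1),
        left_inv := fun a => Prod.ext rfl (Subsingleton.elim _ _), right_inv := fun s => rfl,
        map_mul' := fun a b => rfl }
  · have : Fact (Nat.Prime 7) := ⟨by norm_num⟩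
    exact Or.inr (Or.inl ⟨by rw [hQ, hQ'], ⟨iso.symm.trans (MulEquiv.prodCongr (MulEquiv.refl _)
      (mulEquivOfPrimeCardEq (p := 7) hm (by rw [Nat.card_congr Multiplicative.toAdd, Nat.card_zmod])))⟩⟩)
  · have : Fact (Nat.Prime 29) := ⟨by norm_num⟩
    exact Or.inr (Or.inr ⟨by rw [hQ, hQ'], ⟨iso.symm.trans (MulEquiv.prodCongr (MulEquiv.refl _)
      (mulEquivOfPrimeCardEq (p := 29) hm (by rw [Nat.card_congr Multiplicative.toAdd, Nat.card_zmod])))⟩⟩)

end Cfsg.Agent.S0689
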