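import Cfsg.Statements.S0708
import Mathlib.GroupTheory.GroupAction.MultipleTransitivity
import Mathlib.GroupTheory.SpecificGroups.Cyclic
import Mathlib.Tactic.Group
import Mathlib.Tactic.FinCases
import Mathlib.Tactic.NormNum.Prime

set_option autoImplicit false
open Cfsg

namespace Cfsg.Agent.S0708

section

variable {G : Type*} [Group G] {Ω : Type*} [MulAction G Ω]
  (h4 : MulAction.IsMultiplyPretransitive G Ω 4) (hsharp : ∀ x : Fin 4 ↪ Ω, MulAction.stabilizer G x = ⊥)

/-- Four points are distinct. -/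
def Distinct4 (a b c d : Ω) : Prop := a ≠ b ∧ a ≠ c ∧ a ≠ d ∧ b ≠ c ∧ b ≠ d ∧ c ≠ d

def quad {a b c d : Ω} (h : Distinct4 a b c d) : Fin 4 ↪ Ω :=
  ⟨![a, b, c, d], by
    obtain ⟨h1, h2, h3, h4, h5, h6⟩ := h
    intro i j
    fin_cases i <;> fin_cases j <;>
      simp [h1, h2, h3, h4, h5, h6, Ne.symm h1, Ne.symm h2, Ne.symm h3, Ne.symm h4, Ne.symm h5, Ne.symm h6]⟩

include h4 in
theorem exists_map {a b c d a' b' c' d' : Ω} (h : Distinct4 a b c d) (h' : Distinct4 a' b' c' d') :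
    ∃ g : G, g • a = a' ∧ g • b = b' ∧ g • c = c' ∧ g • d = d' := by
  obtain ⟨g, hg⟩ := MulAction.isMultiplyPretransitive_iff.mp h4 (quad h) (quad h')
  exact ⟨g, DFunLike.congr_fun hg 0, DFunLike.congr_fun hg 1, DFunLike.congr_fun hg 2, DFunLike.congr_fun hg 3⟩

include hsharp in
theorem eq_of_agree {a b c d : Ω} (h : Distinct4 a b c d) {g g' : G} (ha : g • a = g' • a) (hb : g • b = g' • b)
    (hc : g • c = g' • c) (hd : g • d = g' • d) : g = g' := by
  have h1 : g'⁻¹ * g ∈ MulAction.stabilizer G (quad h) := by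
    refine MulAction.mem_stabilizer_iff.mpr (Function.Embedding.ext fun i => ?_)
    show (g'⁻¹ * g) • quad h i = quad h i
    rw [mul_smul, inv_smul_eq_iff]
    fin_cases i
    exacts [ha, hb, hc, hd]
  rw [hsharp, Subgroup.mem_bot, inv_mul_eq_one] at h1
  exact h1.symm

include hsharp in
theorem eq_one_of_fix {a b c d : Ω} (h : Distinct4 a b c d) {g : G} (ha : g • a = a) (hb : g • b = b)
    (hc : g • c = c) (hd : g • d = d) : g = 1 :=
  eq_of_agree hsharp h (by rw [one_smul, ha]) (by rw [one_smul, hb]) (by rw [one_smul, hc]) (by rw [one_smul, hd])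

include h4 hsharp in
/-- There is no sharply four transitive group of degree ten. -/
theorem card_ne_ten [Finite Ω] : Nat.card Ω ≠ 10 := by
  classical
  intro hn
  haveI := Fintype.ofFinite Ω
  rw [Nat.card_eq_fintype_card] at hn
  obtain ⟨a, b, z, w, hd⟩ : ∃ a b z w : Ω, Distinct4 a b z w := by
    obtain ⟨e⟩ := Function.Embedding.nonempty_of_card_le (α := Fin 4) (β := Ω) (by rw [Fintype.card_fin]; omega)
    exact ⟨e 0, e 1, e 2, e 3, by simp [Distinct4, e.injective.eq_iff]⟩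
  obtain ⟨hab, haz, haw, hbz, hbw, hzw⟩ := hd
  let R : Finset Ω := Finset.univ.filter fun x => x ≠ a ∧ x ≠ b ∧ x ≠ z
  have hRmem : ∀ x, x ∈ R ↔ x ≠ a ∧ x ≠ b ∧ x ≠ z := fun x => by simp [R]
  have hR : R.card = 7 := by
    have e : R = ({a, b, z} : Finset Ω)ᶜ := by ext x; simp [R]
    rw [e, Finset.card_compl, hn, Finset.card_insert_of_notMem (by simp [hab, haz]), Finset.card_pair hbz]
  have hwR : w ∈ R := (hRmem w).mpr ⟨Ne.symm haw, Ne.symm hbw, Ne.symm hzw⟩
  have hd4 : ∀ x ∈ R, Distinct4 a b z x := fun x hx => by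
    obtain ⟨h1, h2, h3⟩ := (hRmem x).mp hx
    exact ⟨hab, haz, Ne.symm h1, hbz, Ne.symm h2, Ne.symm h3⟩
  let K : Subgroup G := MulAction.stabilizer G a ⊓ MulAction.stabilizer G b ⊓ MulAction.stabilizer G z
  have hKR : ∀ k ∈ K, ∀ x ∈ R, k • x ∈ R := by
    intro k hk x hx
    obtain ⟨h1, h2, h3⟩ := (hRmem x).mp hx
    refine (hRmem _).mpr ⟨fun e => h1 ?_, fun e => h2 ?_, fun e => h3 ?_⟩
    · exact MulAction.injective k (e.trans hk.1.1.symm)
    · exact MulAction.injective k (e.trans hk.1.2.symm)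
    · exact MulAction.injective k (e.trans hk.2.symm)
  have hKcard : Nat.card K = 7 := by
    rw [← hR, ← Nat.card_eq_finsetCard]
    refine Nat.card_congr (Equiv.ofBijective (fun k : K => (⟨(k : G) • w, hKR k k.2 w hwR⟩ : R)) ⟨?_, ?_⟩)
    · intro k k' e
      exact Subtype.ext (eq_of_agree hsharp (hd4 w hwR) (k.2.1.1.trans k'.2.1.1.symm) (k.2.1.2.trans k'.2.1.2.symm)
        (k.2.2.trans k'.2.2.symm) (congrArg Subtype.val e))
    · rintro ⟨x, hx⟩
      obtain ⟨g, g1, g2, g3, g4⟩ := exists_map h4 (hd4 w hwR) (hd4 x hx)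
      exact ⟨⟨g, ⟨g1, g2⟩, g3⟩, Subtype.ext g4⟩
  haveI : Fact (Nat.Prime 7) := ⟨by norm_num⟩
  haveI : Finite K := Nat.finite_of_card_ne_zero (by omega)
  haveI : Nontrivial K := Finite.one_lt_card_iff_nontrivial.mp (by omega)
  obtain ⟨g, hg1⟩ := exists_ne (1 : K)
  have htop := zpowers_eq_top_of_prime_card hKcard hg1
  obtain ⟨u, hu1, hu2, hu3, -⟩ := exists_map h4 (hd4 w hwR) (a' := b) (b' := a) (c' := z) (d' := w)
    ⟨Ne.symm hab, hbz, hbw, haz, haw, hzw⟩
  obtain ⟨v, hv1, hv2, hv3, -⟩ := exists_map h4 (hd4 w hwR) (a' := a) (b' := z) (c' := b) (d' := w)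
    ⟨haz, hab, haw, Ne.symm hbz, hzw, hbw⟩
  have hconj : ∀ h : G, (h⁻¹ • a = a ∨ h⁻¹ • a = b ∨ h⁻¹ • a = z) → (h⁻¹ • b = a ∨ h⁻¹ • b = b ∨ h⁻¹ • b = z) →
      (h⁻¹ • z = a ∨ h⁻¹ • z = b ∨ h⁻¹ • z = z) → ∃ i : ℤ, h * g * h⁻¹ = (g : G) ^ i := by
    intro h p1 p2 p3
    have hfix : ∀ x, (x = a ∨ x = b ∨ x = z) → (g : G) • x = x := by
      rintro x (rfl | rfl | rfl)
      exacts [g.2.1.1, g.2.1.2, g.2.2]
    have hmem : h * g * h⁻¹ ∈ K := by
      refine ⟨⟨?_, ?_⟩, ?_⟩
      · show (h * g * h⁻¹) • a = a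
        rw [mul_smul, mul_smul, hfix _ p1, smul_inv_smul]
      · show (h * g * h⁻¹) • b = b
        rw [mul_smul, mul_smul, hfix _ p2, smul_inv_smul]
      · show (h * g * h⁻¹) • z = z
        rw [mul_smul, mul_smul, hfix _ p3, smul_inv_smul]
    have hz : (⟨_, hmem⟩ : K) ∈ Subgroup.zpowers g := htop ▸ Subgroup.mem_top _
    obtain ⟨i, hi⟩ := hz
    exact ⟨i, (congrArg Subtype.val hi).symm.trans (SubgroupClass.coe_zpow g i)⟩
  have iu1 : u⁻¹ • a = b := by rw [inv_smul_eq_iff, hu2]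
  have iu2 : u⁻¹ • b = a := by rw [inv_smul_eq_iff, hu1]
  have iu3 : u⁻¹ • z = z := by rw [inv_smul_eq_iff, hu3]
  have iv1 : v⁻¹ • a = a := by rw [inv_smul_eq_iff, hv1]
  have iv2 : v⁻¹ • b = z := by rw [inv_smul_eq_iff, hv3]
  have iv3 : v⁻¹ • z = b := by rw [inv_smul_eq_iff, hv2]
  obtain ⟨i, hi⟩ := hconj u (Or.inr (Or.inl iu1)) (Or.inl iu2) (Or.inr (Or.inr iu3))
  obtain ⟨j, hj⟩ := hconj v (Or.inl iv1) (Or.inr (Or.inr iv2)) (Or.inr (Or.inl iv3))
  set c := (v * u)⁻¹ * (u * v) with hc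
  have e1 : u * v * g * (u * v)⁻¹ = (g : G) ^ (i * j) := by
    calc u * v * g * (u * v)⁻¹ = u * (v * g * v⁻¹) * u⁻¹ := by group
      _ = (u * g * u⁻¹) ^ j := by rw [hj, conj_zpow]
      _ = _ := by rw [hi, ← zpow_mul]
  have e2 : v * u * g * (v * u)⁻¹ = (g : G) ^ (i * j) := by
    calc v * u * g * (v * u)⁻¹ = v * (u * g * u⁻¹) * v⁻¹ := by group
      _ = (v * g * v⁻¹) ^ i := by rw [hi, conj_zpow]
      _ = _ := by rw [hj, ← zpow_mul, mul_comm]
  have hcg : c * g = g * c := by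
    have e3 : c * g * c⁻¹ = g := by
      calc c * g * c⁻¹ = (v * u)⁻¹ * (u * v * g * (u * v)⁻¹) * (v * u) := by rw [hc]; group
        _ = (v * u)⁻¹ * (v * u * g * (v * u)⁻¹) * (v * u) := by rw [e1, e2]
        _ = g := by group
    calc c * g = c * g * c⁻¹ * c := by group
      _ = g * c := by rw [e3]
  have hca : c • a ≠ a := by
    rw [hc, mul_inv_rev, mul_smul, mul_smul, mul_smul, hv1, hu1, iv2, iu3]
    exact Ne.symm haz
  have hcR : c • w ∈ R := by
    refine (hRmem _).mpr ⟨?_, ?_, ?_⟩ <;> intro e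
    all_goals
      have h1 : w = c⁻¹ • _ := (inv_smul_eq_iff.mpr e.symm).symm
      rw [hc] at h1
      simp only [mul_inv_rev, inv_inv, mul_smul, hu1, hu2, hu3, hv1, hv2, hv3, iu1, iu2, iu3, iv1, iv2, iv3] at h1
      first | exact haw h1.symm | exact hbw h1.symm | exact hzw h1.symm
  obtain ⟨k, hk1, hk2, hk3, hk4⟩ := exists_map h4 (hd4 w hwR) (hd4 _ hcR)
  have hkc : (k : G) * g = g * k := by
    have hk' : (⟨k, ⟨hk1, hk2⟩, hk3⟩ : K) ∈ Subgroup.zpowers g := htop ▸ Subgroup.mem_top _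
    obtain ⟨l, hl⟩ := hk'
    have : k = (g : G) ^ l := (congrArg Subtype.val hl).symm.trans (SubgroupClass.coe_zpow g l)
    rw [this]
    exact ((Commute.refl (g : G)).zpow_left l).eq
  have hpow : ∀ l : ℕ, k⁻¹ * c * (g : G) ^ l = (g : G) ^ l * (k⁻¹ * c) := fun l => by
    have h1 : Commute (k⁻¹ * c) (g : G) := (Commute.inv_left hkc).mul_left hcg
    exact (h1.pow_right l).eq
  have hall : ∀ x ∈ R, (k⁻¹ * c) • x = x := by
    intro x hx
    obtain ⟨g', g1, g2, g3, g4⟩ := exists_map h4 (hd4 w hwR) (hd4 x hx)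
    have hg' : (⟨g', ⟨g1, g2⟩, g3⟩ : K) ∈ Submonoid.powers g :=
      mem_powers_iff_mem_zpowers.mpr (htop ▸ Subgroup.mem_top _)
    obtain ⟨l, hl⟩ := hg'
    have : g' = (g : G) ^ l := (congrArg Subtype.val hl).symm.trans (Subgroup.coe_pow K g l)
    rw [← g4, this, ← mul_smul, hpow, mul_smul, mul_smul k⁻¹ c w, ← hk4, inv_smul_smul]
  obtain ⟨e⟩ : Nonempty (Fin 4 ↪ R) := Function.Embedding.nonempty_of_card_le (by rw [Fintype.card_coe, hR, Fintype.card_fin]; omega)
  have hone := eq_one_of_fix hsharp (a := (e 0 : Ω)) (b := e 1) (c := e 2) (d := e 3) (g := k⁻¹ * c)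
    (by simp [Distinct4, ← Subtype.ext_iff, e.injective.eq_iff]) (hall _ (e 0).2) (hall _ (e 1).2) (hall _ (e 2).2) (hall _ (e 3).2)
  rw [inv_mul_eq_one] at hone
  exact hca (hone ▸ hk1)

include h4 hsharp in
theorem tits {p₁ p₂ p₃ p₄ : Ω} (hd : Distinct4 p₁ p₂ p₃ p₄) :
    Finite Ω ∧ Nat.card Ω ≤ 11 ∧ (Even (Nat.card Ω) → Nat.card Ω ≤ 6) := by
  classical
  obtain ⟨d12, d13, d14, d23, d24, d34⟩ := hd
  have hd : Distinct4 p₁ p₂ p₃ p₄ := ⟨d12, d13, d14, d23, d24, d34⟩
  obtain ⟨a, a1, a2, a3, a4⟩ := exists_map h4 hd (a' := p₁) (b' := p₂) (c' := p₄) (d' := p₃)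
    ⟨d12, d14, d13, d24, d23, Ne.symm d34⟩
  obtain ⟨b, b1, b2, b3, b4⟩ := exists_map h4 hd (a' := p₂) (b' := p₁) (c' := p₄) (d' := p₃)
    ⟨Ne.symm d12, d24, d23, d14, d13, Ne.symm d34⟩
  have haa : a * a = 1 := eq_one_of_fix hsharp hd (by rw [mul_smul, a1, a1]) (by rw [mul_smul, a2, a2]) (by rw [mul_smul, a3, a4]) (by rw [mul_smul, a4, a3])
  have hbb : b * b = 1 := eq_one_of_fix hsharp hd (by rw [mul_smul, b1, b2]) (by rw [mul_smul, b2, b1]) (by rw [mul_smul, b3, b4]) (by rw [mul_smul, b4, b3])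
  have hab : a * b = b * a := eq_of_agree hsharp hd (by rw [mul_smul, mul_smul, b1, a2, a1, b1]) (by rw [mul_smul, mul_smul, b2, a1, a2, b2])
    (by rw [mul_smul, mul_smul, b3, a4, a3, b4]) (by rw [mul_smul, mul_smul, b4, a3, a4, b3])
  obtain ⟨c, hc⟩ : ∃ c : G, c = a * b := ⟨_, rfl⟩
  have c1 : c • p₁ = p₂ := by rw [hc, mul_smul, b1, a2]
  have c2 : c • p₂ = p₁ := by rw [hc, mul_smul, b2, a1]
  have c3 : c • p₃ = p₃ := by rw [hc, mul_smul, b3, a4]
  have c4 : c • p₄ = p₄ := by rw [hc, mul_smul, b4, a3]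
  have hA : ∀ x : Ω, a • a • x = x := fun x => by rw [smul_smul, haa, one_smul]
  have hB : ∀ x : Ω, b • b • x = x := fun x => by rw [smul_smul, hbb, one_smul]
  have hBA : ∀ x : Ω, b • a • x = c • x := fun x => by rw [smul_smul, hc, hab]
  have hAB : ∀ x : Ω, a • b • x = c • x := fun x => by rw [smul_smul, hc]
  have hAC : ∀ x : Ω, a • c • x = b • x := fun x => by rw [hc, mul_smul, hA]
  have hCA : ∀ x : Ω, c • a • x = b • x := fun x => by rw [← hBA, hA]
  have hBC : ∀ x : Ω, b • c • x = a • x := fun x => by rw [hc, hab, mul_smul, hB]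
  have hCB : ∀ x : Ω, c • b • x = a • x := fun x => by rw [← hAB, hB]
  have hCC : ∀ x : Ω, c • c • x = x := fun x => by rw [← hAB (c • x), hBC, hA]
  set Four : Finset Ω := {p₁, p₂, p₃, p₄} with hFour
  -- a point fixed by `b` and three more give at most three fixed points
  have hfixb : ∃ S : Finset Ω, S.card ≤ 3 ∧ ∀ x, b • x = x → x ∈ S := by
    by_contra h
    push Not at h
    obtain ⟨y₁, hy₁, -⟩ := h ∅ (by simp)
    obtain ⟨y₂, hy₂, hy₂'⟩ := h {y₁} (by simp)
    obtain ⟨y₃, hy₃, hy₃'⟩ := h {y₁, y₂} (Finset.card_le_two.trans (by omega))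
    obtain ⟨y₄, hy₄, hy₄'⟩ := h {y₁, y₂, y₃} (((Finset.card_insert_le _ _).trans (Nat.succ_le_succ Finset.card_le_two)))
    simp only [Finset.mem_insert, Finset.mem_singleton, not_or] at hy₂' hy₃' hy₄'
    have := eq_one_of_fix hsharp (a := y₁) (b := y₂) (c := y₃) (d := y₄) (g := b)
      ⟨Ne.symm hy₂', Ne.symm hy₃'.1, Ne.symm hy₄'.1, Ne.symm hy₃'.2, Ne.symm hy₄'.2.1, Ne.symm hy₄'.2.2⟩ hy₁ hy₂ hy₃ hy₄
    rw [this, one_smul] at b1
    exact d12 b1
  obtain ⟨S, hS, hSb⟩ := hfixb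
  have hreg : ∀ x, x ∉ Four → b • x ≠ x → a • x ≠ x ∧ c • x ≠ x := by
    intro x hx hbx
    simp only [hFour, Finset.mem_insert, Finset.mem_singleton, not_or] at hx
    obtain ⟨x1, x2, x3, x4⟩ := hx
    constructor
    · intro hax
      have h1 : a • b • x = b • x := by rw [hAB, ← hBA, hax]
      have := eq_one_of_fix hsharp (a := p₁) (b := p₂) (c := x) (d := b • x) (g := a)
        ⟨d12, Ne.symm x1, fun e => x2 (by rw [← hB x, ← e, b1]), Ne.symm x2, fun e => x1 (by rw [← hB x, ← e, b2]), Ne.symm hbx⟩ a1 a2 hax h1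
      rw [this, one_smul] at a3
      exact d34 a3
    · intro hcx
      have h1 : c • b • x = b • x := by rw [hCB, ← hBC, hcx]
      have := eq_one_of_fix hsharp (a := p₃) (b := p₄) (c := x) (d := b • x) (g := c)
        ⟨d34, Ne.symm x3, fun e => x4 (by rw [← hB x, ← e, b3]), Ne.symm x4, fun e => x3 (by rw [← hB x, ← e, b4]), Ne.symm hbx⟩ c3 c4 hcx h1
      rw [this, one_smul] at c1
      exact d12 c1
  have hfour : Four.card ≤ 4 := by
    refine (Finset.card_insert_le _ _).trans (Nat.succ_le_succ ((Finset.card_insert_le _ _).trans (Nat.succ_le_succ Finset.card_le_two)))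
  by_cases hex : ∃ γ, γ ∉ Four ∧ b • γ ≠ γ
  swap
  · push Not at hex
    have hu : (Set.univ : Set Ω) ⊆ ↑(Four ∪ S) := fun x _ => by
      by_cases hx : x ∈ Four
      · exact Finset.mem_union_left _ hx
      · exact Finset.mem_union_right _ (hSb x (hex x hx))
    haveI : Finite Ω := Set.finite_univ_iff.mp ((Four ∪ S).finite_toSet.subset hu)
    have hcard : Nat.card Ω ≤ 7 := by
      rw [← Set.ncard_univ]
      refine (Set.ncard_le_ncard hu).trans ?_
      rw [Set.ncard_coe_finset]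
      exact (Finset.card_union_le _ _).trans (by omega)
    exact ⟨inferInstance, by omega, fun he => by rw [Nat.even_iff] at he; omega⟩
  obtain ⟨γ, hγ, hbγ⟩ := hex
  obtain ⟨haγ, hcγ⟩ := hreg γ hγ hbγ
  have hdist : ∀ x : Ω, a • x ≠ x → b • x ≠ x → c • x ≠ x → Distinct4 x (a • x) (b • x) (c • x) := fun x ha hb hc' =>
    ⟨Ne.symm ha, Ne.symm hb, Ne.symm hc', fun e => hc' (by rw [← hAB, ← e, hA]),
      fun e => hb (by rw [← hAC, ← e, hA]), fun e => ha (by rw [← hBC, ← e, hB])⟩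
  have hdγ := hdist γ haγ hbγ hcγ
  obtain ⟨q1, q2, q3, q4, q5, q6⟩ := hdγ
  have hdγ : Distinct4 γ (a • γ) (b • γ) (c • γ) := ⟨q1, q2, q3, q4, q5, q6⟩
  -- `τ` exchanges `a` and `b`
  obtain ⟨τ, t1, t2, t3, t4⟩ := exists_map h4 hdγ (a' := γ) (b' := b • γ) (c' := a • γ) (d' := c • γ)
    ⟨q2, q1, q3, Ne.symm q4, q6, q5⟩
  have hττ : τ * τ = 1 := eq_one_of_fix hsharp hdγ (by rw [mul_smul, t1, t1]) (by rw [mul_smul, t2, t3]) (by rw [mul_smul, t3, t2]) (by rw [mul_smul, t4, t4])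
  have hta : τ * a = b * τ := eq_of_agree hsharp hdγ (by rw [mul_smul, mul_smul, t2, t1]) (by rw [mul_smul, mul_smul, hA, t1, t2, hB])
    (by rw [mul_smul, mul_smul, hAB, t4, t3, hBA]) (by rw [mul_smul, mul_smul, hAC, t3, t4, hBC])
  have hTA : ∀ x : Ω, τ • a • x = b • τ • x := fun x => by rw [smul_smul, smul_smul, hta]
  have hTT : ∀ x : Ω, τ • τ • x = x := fun x => by rw [smul_smul, hττ, one_smul]
  have hTB : ∀ x : Ω, τ • b • x = a • τ • x := fun x => by
    refine MulAction.injective τ ?_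
    show τ • τ • b • x = τ • a • τ • x
    rw [hTT, hTA, hTT]
  have hTC : ∀ x : Ω, τ • c • x = c • τ • x := fun x => by rw [← hAB, hTA, hTB, hBA]
  have hτne : τ ≠ 1 := fun e => q4 (by rw [e, one_smul] at t2; exact t2)
  set Γ : Finset Ω := {γ, a • γ, b • γ, c • γ} with hΓ
  have hu : (Set.univ : Set Ω) ⊆ ↑(Four ∪ S ∪ Γ) := fun δ _ => by
    by_cases h1 : δ ∈ Four
    · exact Finset.mem_union_left _ (Finset.mem_union_left _ h1)
    by_cases h2 : b • δ = δ
    · exact Finset.mem_union_left _ (Finset.mem_union_right _ (hSb δ h2))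
    refine Finset.mem_union_right _ ?_
    by_contra h3
    simp only [hΓ, Finset.mem_insert, Finset.mem_singleton, not_or] at h3
    obtain ⟨e1, e2, e3, e4⟩ := h3
    obtain ⟨ha', hc'⟩ := hreg δ h1 h2
    obtain ⟨r1, r2, r3, r4, r5, r6⟩ := hdist δ ha' h2 hc'
    -- two fixed points of `τ` in the orbit of `δ`
    have key : ∀ y : Ω, y ≠ γ → y ≠ c • γ → c • y ≠ y → τ • y = y → False := by
      intro y y1 y2 y3 hy
      refine hτne (eq_one_of_fix hsharp (a := γ) (b := c • γ) (c := y) (d := c • y)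
        ⟨q3, Ne.symm y1, fun e => y2 (by rw [e, hCC]), Ne.symm y2, fun e => y1 (MulAction.injective c e).symm, Ne.symm y3⟩ t1 t4 hy (by rw [hTC, hy]))
    have hτδ : τ • δ ∈ ({δ, a • δ, b • δ, c • δ} : Finset Ω) := by
      -- `τ` centralises nothing else
      obtain ⟨τ', u1, u2, u3, u4⟩ := exists_map h4 (hdist δ ha' h2 hc') (a' := δ) (b' := b • δ) (c' := a • δ) (d' := c • δ)
        ⟨r2, r1, r3, Ne.symm r4, r6, r5⟩
      have huu : τ' * τ' = 1 := eq_one_of_fix hsharp (hdist δ ha' h2 hc') (by rw [mul_smul, u1, u1]) (by rw [mul_smul, u2, u3]) (by rw [mul_smul, u3, u2]) (by rw [mul_smul, u4, u4])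
      have hua : τ' * a = b * τ' := eq_of_agree hsharp (hdist δ ha' h2 hc') (by rw [mul_smul, mul_smul, u2, u1]) (by rw [mul_smul, mul_smul, hA, u1, u2, hB])
        (by rw [mul_smul, mul_smul, hAB, u4, u3, hBA]) (by rw [mul_smul, mul_smul, hAC, u3, u4, hBC])
      have hub : τ' * b = a * τ' := by
        calc τ' * b = τ' * (b * τ') * τ' := by rw [mul_assoc, mul_assoc, huu, mul_one]
          _ = τ' * (τ' * a) * τ' := by rw [hua]
          _ = a * τ' := by rw [← mul_assoc τ' τ', huu, one_mul]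
      set g := τ' * τ with hg
      have hga : ∀ x : Ω, g • a • x = a • g • x := fun x => by
        rw [hg, mul_smul, mul_smul, hTA, smul_smul, hub, mul_smul]
      have hgb : ∀ x : Ω, g • b • x = b • g • x := fun x => by
        rw [hg, mul_smul, mul_smul, hTB, smul_smul, hua, mul_smul]
      -- `g` permutes the fixed points of `a` and of `a * b`
      have hgV : g • δ ∈ ({δ, a • δ, b • δ, c • δ} : Finset Ω) := by
        have hgc : ∀ x : Ω, g • c • x = c • g • x := fun x => by rw [← hAB, hga, hgb, hAB]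
        have hA12 : ∀ y : Ω, a • y = y → y ≠ p₁ → y ≠ p₂ → b • y = y := by
          intro y hy y1 y2
          by_contra hby
          by_cases hy4 : y ∈ Four
          · simp only [hFour, Finset.mem_insert, Finset.mem_singleton] at hy4
            rcases hy4 with rfl | rfl | rfl | rfl
            · exact y1 rfl
            · exact y2 rfl
            · exact d34 (hy.symm.trans a3)
            · exact d34 ((a4.symm.trans hy))
          · exact (hreg y hy4 hby).1 hy
        have hC34 : ∀ y : Ω, c • y = y → y ≠ p₃ → y ≠ p₄ → b • y = y := by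
          intro y hy y1 y2
          by_contra hby
          by_cases hy4 : y ∈ Four
          · simp only [hFour, Finset.mem_insert, Finset.mem_singleton] at hy4
            rcases hy4 with rfl | rfl | rfl | rfl
            · exact d12 (hy.symm.trans c1)
            · exact d12 (c2.symm.trans hy)
            · exact y1 rfl
            · exact y2 rfl
          · exact (hreg y hy4 hby).2 hy
        have g1 : g • p₁ = p₁ ∨ g • p₁ = p₂ := by
          by_contra h
          push Not at h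
          have := hA12 (g • p₁) (by rw [← hga, a1]) h.1 h.2
          rw [← hgb, b1] at this
          exact d12 (MulAction.injective g this).symm
        have g3 : g • p₃ = p₃ ∨ g • p₃ = p₄ := by
          by_contra h
          push Not at h
          have := hC34 (g • p₃) (by rw [← hgc, c3]) h.1 h.2
          rw [← hgb, b3] at this
          exact d34 (MulAction.injective g this).symm
        have g2 : g • p₂ = b • g • p₁ := by rw [← hgb, b1]
        have g4 : g • p₄ = b • g • p₃ := by rw [← hgb, b3]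
        simp only [Finset.mem_insert, Finset.mem_singleton]
        rcases g1 with h₁ | h₁ <;> rcases g3 with h₃ | h₃
        · left
          rw [eq_one_of_fix hsharp hd h₁ (by rw [g2, h₁, b1]) h₃ (by rw [g4, h₃, b3]), one_smul]
        · right; left
          rw [eq_of_agree hsharp hd (g := g) (g' := a) (by rw [h₁, a1]) (by rw [g2, h₁, b1, a2]) (by rw [h₃, a3]) (by rw [g4, h₃, b4, a4])]
        · right; right; right
          rw [eq_of_agree hsharp hd (g := g) (g' := c) (by rw [h₁, c1]) (by rw [g2, h₁, b2, c2]) (by rw [h₃, c3]) (by rw [g4, h₃, b3, c4])]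
        · right; right; left
          rw [eq_of_agree hsharp hd (g := g) (g' := b) (by rw [h₁, b1]) (by rw [g2, h₁]) (by rw [h₃, b3]) (by rw [g4, h₃])]
      simp only [Finset.mem_insert, Finset.mem_singleton] at hgV ⊢
      have e : τ • δ = τ' • g • δ := by rw [hg, mul_smul, smul_smul τ' τ', huu, one_smul]
      rw [e]
      rcases hgV with h | h | h | h <;> rw [h]
      · exact Or.inl u1
      · exact Or.inr (Or.inr (Or.inl u2))
      · exact Or.inr (Or.inl u3)
      · exact Or.inr (Or.inr (Or.inr u4))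
    simp only [Finset.mem_insert, Finset.mem_singleton] at hτδ
    rcases hτδ with h | h | h | h
    · exact key δ e1 e4 hc' h
    · have h1 := hTT δ
      rw [h, hTA, h, hBA] at h1
      exact hc' h1
    · have h1 := hTT δ
      rw [h, hTB, h, hAB] at h1
      exact hc' h1
    · refine key (a • δ) (fun e => e2 (by rw [← e, hA])) (fun e => e3 (by rw [← hAC γ, ← e, hA])) ?_ (by rw [hTA, h, hBC])
      rw [hCA]
      exact Ne.symm r4
  haveI : Finite Ω := Set.finite_univ_iff.mp ((Four ∪ S ∪ Γ).finite_toSet.subset hu)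
  have hΓ4 : Γ.card ≤ 4 := by
    refine (Finset.card_insert_le _ _).trans (Nat.succ_le_succ ((Finset.card_insert_le _ _).trans (Nat.succ_le_succ Finset.card_le_two)))
  have hcard : Nat.card Ω ≤ 11 := by
    rw [← Set.ncard_univ]
    refine (Set.ncard_le_ncard hu).trans ?_
    rw [Set.ncard_coe_finset]
    exact ((Finset.card_union_le _ _).trans (Nat.add_le_add_right (Finset.card_union_le _ _) _)).trans (by omega)
  refine ⟨inferInstance, hcard, fun he => ?_⟩
  exfalso
  -- at least ten points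
  obtain ⟨w, w1, w2, w3, w4⟩ := exists_map h4 hdγ (a' := γ) (b' := b • γ) (c' := c • γ) (d' := a • γ)
    ⟨q2, q3, q1, q6, Ne.symm q4, Ne.symm q5⟩
  have hwa : w * a = b * w := eq_of_agree hsharp hdγ (by rw [mul_smul, mul_smul, w2, w1]) (by rw [mul_smul, mul_smul, hA, w1, w2, hB])
    (by rw [mul_smul, mul_smul, hAB, w4, w3, hBC]) (by rw [mul_smul, mul_smul, hAC, w3, w4, hBA])
  have hw : ∀ p : Ω, a • p = p → b • w • p = w • p := fun p hp => by rw [smul_smul, ← hwa, mul_smul, hp]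
  have hout : ∀ y : Ω, b • y = y → y ∉ ({p₁, p₂, p₃, p₄, γ, a • γ, b • γ, c • γ} : Finset Ω) := by
    intro y hy hmem
    simp only [Finset.mem_insert, Finset.mem_singleton] at hmem
    rcases hmem with rfl | rfl | rfl | rfl | rfl | rfl | rfl | rfl
    · exact d12 (hy.symm.trans b1)
    · exact d12 (b2.symm.trans hy)
    · exact d34 (hy.symm.trans b3)
    · exact d34 (b4.symm.trans hy)
    · exact hbγ hy
    · rw [hBA] at hy; exact q5 hy.symm
    · rw [hB] at hy; exact q2 hy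
    · rw [hBC] at hy; exact q5 hy
  haveI := Fintype.ofFinite Ω
  have h10 : 10 ≤ Nat.card Ω := by
    rw [Nat.card_eq_fintype_card]
    refine le_trans (le_of_eq ?_) (Finset.card_le_univ (insert (w • p₁) (insert (w • p₂) {p₁, p₂, p₃, p₄, γ, a • γ, b • γ, c • γ})))
    simp only [hFour, Finset.mem_insert, Finset.mem_singleton, not_or] at hγ
    obtain ⟨g1, g2, g3, g4⟩ := hγ
    have n1 : w • p₁ ∉ insert (w • p₂) ({p₁, p₂, p₃, p₄, γ, a • γ, b • γ, c • γ} : Finset Ω) := fun h =>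
      (Finset.mem_insert.mp h).elim (fun e => d12 (MulAction.injective w e)) (hout _ (hw _ a1))
    rw [Finset.card_insert_of_notMem n1, Finset.card_insert_of_notMem (hout _ (hw _ a2))]
    have a1' : a • γ ≠ p₁ := fun e => g1 (by rw [← hA γ, e, a1])
    have a2' : a • γ ≠ p₂ := fun e => g2 (by rw [← hA γ, e, a2])
    have a3' : a • γ ≠ p₃ := fun e => g4 (by rw [← hA γ, e, a3])
    have a4' : a • γ ≠ p₄ := fun e => g3 (by rw [← hA γ, e, a4])
    have b1' : b • γ ≠ p₁ := fun e => g2 (by rw [← hB γ, e, b1])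
    have b2' : b • γ ≠ p₂ := fun e => g1 (by rw [← hB γ, e, b2])
    have b3' : b • γ ≠ p₃ := fun e => g4 (by rw [← hB γ, e, b3])
    have b4' : b • γ ≠ p₄ := fun e => g3 (by rw [← hB γ, e, b4])
    have c1' : c • γ ≠ p₁ := fun e => g2 (by rw [← hCC γ, e, c1])
    have c2' : c • γ ≠ p₂ := fun e => g1 (by rw [← hCC γ, e, c2])
    have c3' : c • γ ≠ p₃ := fun e => g3 (by rw [← hCC γ, e, c3])
    have c4' : c • γ ≠ p₄ := fun e => g4 (by rw [← hCC γ, e, c4])
    rw [Finset.card_insert_of_notMem (by simp [d12, d13, d14, Ne.symm g1, Ne.symm a1', Ne.symm b1', Ne.symm c1']),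
      Finset.card_insert_of_notMem (by simp [d23, d24, Ne.symm g2, Ne.symm a2', Ne.symm b2', Ne.symm c2']),
      Finset.card_insert_of_notMem (by simp [d34, Ne.symm g3, Ne.symm a3', Ne.symm b3', Ne.symm c3']),
      Finset.card_insert_of_notMem (by simp [Ne.symm g4, Ne.symm a4', Ne.symm b4', Ne.symm c4']),
      Finset.card_insert_of_notMem (by simp [q1, q2, q3]), Finset.card_insert_of_notMem (by simp [q4, q5]),
      Finset.card_pair q6]
  have h11 := card_ne_ten h4 hsharp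
  rw [Nat.even_iff] at he
  omega

end

/-- Tits' argument: a sharply 4-transitive group (no finiteness assumed) has finite degree at most 11, and at most 6 when the degree is even. -/
theorem result {G : Type*} [Group G] {Ω : Type*} [MulAction G Ω] (h4 : MulAction.IsMultiplyPretransitive G Ω 4) (hsharp : ∀ x : Fin 4 ↪ Ω, MulAction.stabilizer G x = ⊥) (hne : Nonempty (Fin 4 ↪ Ω)) : Finite Ω ∧ Nat.card Ω ≤ 11 ∧ (Even (Nat.card Ω) → Nat.card Ω ≤ 6) := by
  obtain ⟨e⟩ := hne
  exact tits h4 hsharp (p₁ := e 0) (p₂ := e 1) (p₃ := e 2) (p₄ := e 3) (by simp [Distinct4, e.injective.eq_iff])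

end Cfsg.Agent.S0708
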