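import Cfsg.Statements.S0743
import Cfsg.Agent.Lib.Perm.Multi
import Mathlib.GroupTheory.PGroup

set_option autoImplicit false
open Cfsg

namespace Cfsg.Agent.S0743

theorem gleason {p : ℕ} (hp : p.Prime) (k : ℕ) : ∀ {G α : Type*} [Group G] [MulAction G α] [Finite α],
    1 ≤ k → k < Nat.card α →
    (∀ s : Set α, s.ncard = k → ∃ P : Subgroup G, IsPGroup p P ∧ MulAction.fixedPoints P α = s) →
    MulAction.IsMultiplyPretransitive G α k := by
  induction k with
  | zero => intros; omega
  | succ k ih =>
    intro G α _ _ _ _ hlt h
    have : Fact p.Prime := ⟨hp⟩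
    rcases Nat.eq_zero_or_pos k with rfl | hk
    · rw [MulAction.is_one_pretransitive_iff]
      constructor
      intro a b
      by_contra hne
      obtain ⟨P, hP, hPa⟩ := h {a} (Set.ncard_singleton a)
      obtain ⟨Q, hQ, hQb⟩ := h {b} (Set.ncard_singleton b)
      let O : SubMulAction G α :=
        { carrier := MulAction.orbit G a
          smul_mem' := fun g x hx => by
            obtain ⟨m, rfl⟩ := hx
            exact ⟨g * m, mul_smul g m a⟩ }
      have hfix : ∀ (R : Subgroup G) (c : α), MulAction.fixedPoints R α = {c} →
          ∀ x : O, x ∈ MulAction.fixedPoints R O ↔ (x : α) = c := by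
        intro R c hR x
        rw [← Set.mem_singleton_iff, ← hR]
        simp only [MulAction.mem_fixedPoints]
        exact forall_congr' fun r => by rw [Subtype.ext_iff]; rfl
      have h1 := hP.card_modEq_card_fixedPoints O
      have h2 := hQ.card_modEq_card_fixedPoints O
      have hfa : MulAction.fixedPoints P O = {⟨a, MulAction.mem_orbit_self a⟩} := by
        ext x; rw [hfix P a hPa]; simp [Subtype.ext_iff]
      have hfb : MulAction.fixedPoints Q O = ∅ := by
        ext x; rw [hfix Q b hQb]
        simp only [Set.mem_empty_iff_false, iff_false]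
        intro e
        obtain ⟨m, hm⟩ := x.2
        exact hne ⟨m, hm.trans e⟩
      rw [hfa, Nat.card_eq_fintype_card (α := ({_} : Set O))] at h1
      rw [hfb] at h2
      simp only [Fintype.card_unique, Nat.card_of_isEmpty] at h1 h2
      have := h1.symm.trans h2
      rw [Nat.ModEq] at this
      simp [Nat.mod_eq_of_lt hp.one_lt] at this
    · refine CfsgLib.Perm.isMultiplyPretransitive_succ_of_stabilizers hk (by omega) fun a => ?_
      have := SubMulAction.nat_card_ofStabilizer_add_one_eq G a
      refine ih (G := MulAction.stabilizer G a) (α := SubMulAction.ofStabilizer G a) hk (by omega) ?_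
      intro s hs
      have hna : a ∉ Subtype.val '' s := by
        rintro ⟨x, _, hx⟩; exact x.2 (by rw [Set.mem_singleton_iff]; exact hx)
      obtain ⟨P, hP, hPs⟩ := h (insert a (Subtype.val '' s)) (by
        rw [Set.ncard_insert_of_notMem hna, Set.ncard_image_of_injective _ Subtype.val_injective, hs])
      have hPle : P ≤ MulAction.stabilizer G a := fun g hg => by
        have : a ∈ MulAction.fixedPoints P α := by rw [hPs]; exact Or.inl rfl
        exact this ⟨g, hg⟩
      refine ⟨P.subgroupOf (MulAction.stabilizer G a), hP.of_equiv (Subgroup.subgroupOfEquivOfLe hPle).symm, ?_⟩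
      ext x
      have hx : (x : α) ∈ MulAction.fixedPoints P α ↔ x ∈ s := by
        rw [hPs, Set.mem_insert_iff, Subtype.val_injective.mem_set_image]
        exact or_iff_right (fun e => x.2 (by rw [Set.mem_singleton_iff]; exact e))
      rw [← hx]
      constructor
      · intro h' g
        exact congrArg Subtype.val (h' ⟨⟨(g : G), hPle g.2⟩, g.2⟩)
      · intro h' g
        exact Subtype.ext (h' ⟨((g : MulAction.stabilizer G a) : G), g.2⟩)

/-- Gleason's Lemma: let `p` be a prime and `1 ≤ k < n`; if every `k`-subset of the `n` points is exactly the fixed-point set of some `p`-subgroup of `G`, then `G` is `k`-transitive. -/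
theorem result {α : Type*} [Fintype α] [DecidableEq α] (G : Subgroup (Equiv.Perm α)) {p k : ℕ} (hp : p.Prime) (hk : 1 ≤ k) (hkn : k < Fintype.card α) (h : ∀ s : Finset α, s.card = k → ∃ P : Subgroup G, IsPGroup p P ∧ MulAction.fixedPoints P α = (s : Set α)) : MulAction.IsMultiplyPretransitive G α k := by
  refine gleason hp k (G := G) (α := α) hk (by rw [Nat.card_eq_fintype_card]; exact hkn) ?_
  intro s hs
  obtain ⟨P, hP, hPs⟩ := h s.toFinite.toFinset (by rw [← Set.ncard_eq_toFinset_card s, hs])
  exact ⟨P, hP, by rw [hPs]; simp⟩

end Cfsg.Agent.S0743
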