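import Cfsg.Statements.S0736
import Mathlib.NumberTheory.Padics.PadicVal.Basic
import Mathlib.Combinatorics.Enumerative.DoubleCounting
import Mathlib.GroupTheory.GroupAction.SubMulAction.Combination

set_option autoImplicit false
open Cfsg

namespace Cfsg.Agent.S0736

open scoped Pointwise
theorem not_dvd_choose {p a k : ℕ} (hp : p.Prime) (hk : p ^ a ∣ k) (hk0 : k ≠ 0) :
    ¬ p ∣ (k + (p ^ a - 1)).choose k := by
  have : Fact p.Prime := ⟨hp⟩
  intro hdvd
  have hpos : (k + (p ^ a - 1)).choose k ≠ 0 := (Nat.choose_pos (Nat.le_add_right _ _)).ne'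
  have h1 := one_le_padicValNat_of_dvd hpos hdvd
  rw [padicValNat_choose (Nat.le_add_right _ _) (Nat.lt_succ_self (Nat.log p (k + (p ^ a - 1))))] at h1
  rw [Nat.add_sub_cancel_left, Nat.one_le_iff_ne_zero, Finset.card_ne_zero] at h1
  obtain ⟨i, hi⟩ := h1
  obtain ⟨-, hi⟩ := Finset.mem_filter.mp hi
  have hpa : 0 < p ^ a := pow_pos hp.pos a
  have hpi : 0 < p ^ i := pow_pos hp.pos i
  have h2 := Nat.mod_lt (p ^ a - 1) hpi
  have h3 := Nat.mod_le (p ^ a - 1) (p ^ i)
  rcases Nat.lt_or_ge a i with h | h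
  · obtain ⟨d, hd⟩ : p ^ a ∣ p ^ i - k % p ^ i :=
      Nat.dvd_sub (pow_dvd_pow p h.le) ((Nat.dvd_mod_iff (pow_dvd_pow p h.le)).mpr hk)
    have h4 := Nat.mod_lt k hpi
    rcases Nat.eq_zero_or_pos d with rfl | hd0
    · omega
    · have := Nat.le_mul_of_pos_right (p ^ a) hd0
      omega
  · have h5 : k % p ^ i = 0 := Nat.mod_eq_zero_of_dvd ((pow_dvd_pow p h).trans hk)
    omega

/-- A `k`-homogeneous permutation group of degree `n`, `k ≥ 2`, with `k + q - 1 ≤ n` for every prime power `q` dividing `k`, is `(k-1)`-homogeneous. -/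
theorem result {α : Type*} [Fintype α] [DecidableEq α] (G : Subgroup (Equiv.Perm α)) {k : ℕ} (hk : 2 ≤ k) (hG : MulAction.IsPretransitive G (Set.powersetCard α k)) (hq : ∀ q : ℕ, IsPrimePow q → q ∣ k → k + q - 1 ≤ Fintype.card α) : MulAction.IsPretransitive G (Set.powersetCard α (k - 1)) := by
  classical
  set n := Fintype.card α with hn
  constructor
  intro A A'
  let O : Set (Set.powersetCard α (k - 1)) := MulAction.orbit G A
  let c : Finset α → ℕ := fun B => Nat.card {C : Set.powersetCard α (k - 1) // C ∈ O ∧ (C : Finset α) ⊆ B}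
  have hinv : ∀ (g : G) (B : Finset α), c B ≤ c (g • B) := by
    intro g B
    refine Nat.card_le_card_of_injective
      (fun C => ⟨g • C.1, ?_, ?_⟩) (fun C D h => ?_)
    · obtain ⟨m, hm⟩ := C.2.1
      exact ⟨g * m, (mul_smul g m A).trans (by simp only at hm; rw [hm])⟩
    · exact Finset.smul_finset_subset_smul_finset C.2.2
    · exact Subtype.ext (MulAction.injective g (congrArg Subtype.val h))
  have hsub : ∀ C : Set.powersetCard α (k - 1), k ≤ n → ∃ B : Finset α, (C : Finset α) ⊆ B ∧ B.card = k := by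
    intro C hkn
    obtain ⟨B, h1, -, h3⟩ := Finset.exists_subsuperset_card_eq (Finset.subset_univ (C : Finset α))
      (by rw [C.2]; omega : (C : Finset α).card ≤ k) (by rw [Finset.card_univ]; exact hkn)
    exact ⟨B, h1, h3⟩
  obtain ⟨p0, hp0, hp0k⟩ := Nat.exists_prime_and_dvd (show k ≠ 1 by omega)
  have hkn : k ≤ n := by
    have := hq p0 hp0.isPrimePow hp0k
    have := hp0.two_le
    omega
  obtain ⟨B0, hAB0, hB0⟩ := hsub A hkn
  have hconst : ∀ B : Finset α, B.card = k → c B = c B0 := by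
    intro B hB
    obtain ⟨g, hg⟩ := hG.exists_smul_eq ⟨B, hB⟩ ⟨B0, hB0⟩
    have hg' : g • B = B0 := by
      exact congrArg (fun C : Set.powersetCard α k => (C : Finset α)) hg
    refine le_antisymm (hg' ▸ hinv g B) ?_
    calc c B0 ≤ c (g⁻¹ • B0) := hinv g⁻¹ B0
      _ = c B := by rw [← hg', inv_smul_smul]
  have hdvd : k ∣ c B0 := by
    rcases Nat.eq_zero_or_pos (c B0) with h0 | h0
    · rw [h0]; exact dvd_zero k
    refine (Nat.dvd_iff_prime_pow_dvd_dvd (c B0) k).mpr fun p j hp hpj => ?_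
    set a := k.factorization p with ha
    have hja : j ≤ a := (hp.pow_dvd_iff_le_factorization (by omega)).mp hpj
    refine (pow_dvd_pow p hja).trans ?_
    rcases Nat.eq_zero_or_pos a with h | h
    · rw [h]; exact one_dvd _
    have hqk : p ^ a ∣ k := Nat.ordProj_dvd k p
    have hkq := hq (p ^ a) (hp.isPrimePow.pow h.ne') hqk
    obtain ⟨X, -, hX⟩ := Finset.exists_subset_card_eq (s := (Finset.univ : Finset α))
      (n := k + p ^ a - 1) (by rw [Finset.card_univ]; exact hkq)
    have hpa : 0 < p ^ a := pow_pos hp.pos a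
    let S : Finset (Finset α) := (X.powersetCard (k - 1)).filter fun C => ∃ hC : C.card = k - 1, (⟨C, hC⟩ : Set.powersetCard α (k - 1)) ∈ O
    let T : Finset (Finset α) := X.powersetCard k
    have h1 : ∀ B ∈ T, (S.bipartiteBelow (· ⊆ ·) B).card = c B0 := by
      intro B hB
      rw [Finset.mem_powersetCard] at hB
      rw [← hconst B hB.2]
      rw [← Nat.card_eq_finsetCard]
      refine Nat.card_congr
        { toFun := fun C => ⟨⟨C.1, ?_⟩, ?_, ?_⟩
          invFun := fun C => ⟨(C.1 : Finset α), ?_⟩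
          left_inv := fun C => rfl
          right_inv := fun C => rfl }
      · exact (Finset.mem_powersetCard.mp (Finset.mem_filter.mp (Finset.mem_bipartiteBelow _ |>.mp C.2).1).1).2
      · obtain ⟨_, hO⟩ := (Finset.mem_filter.mp (Finset.mem_bipartiteBelow _ |>.mp C.2).1).2
        exact hO
      · exact (Finset.mem_bipartiteBelow _ |>.mp C.2).2
      · rw [Finset.mem_bipartiteBelow, Finset.mem_filter, Finset.mem_powersetCard]
        exact ⟨⟨⟨C.2.2.trans hB.1, C.1.2⟩, C.1.2, C.2.1⟩, C.2.2⟩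
    have h2 : ∀ C ∈ S, (T.bipartiteAbove (· ⊆ ·) C).card = p ^ a := by
      intro C hC
      obtain ⟨hCX, hCk⟩ := Finset.mem_powersetCard.mp (Finset.mem_filter.mp hC).1
      have himg : T.bipartiteAbove (· ⊆ ·) C = (X \ C).image (fun x => insert x C) := by
        ext B
        simp only [T, Finset.mem_bipartiteAbove, Finset.mem_powersetCard, Finset.mem_image, Finset.mem_sdiff]
        constructor
        · rintro ⟨⟨hBX, hBk⟩, hCB⟩
          have : (B \ C).card = 1 := by rw [Finset.card_sdiff_of_subset hCB]; omega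
          obtain ⟨x, hx⟩ := Finset.card_eq_one.mp this
          have hxmem : x ∈ B \ C := by rw [hx]; exact Finset.mem_singleton_self x
          rw [Finset.mem_sdiff] at hxmem
          refine ⟨x, ⟨hBX hxmem.1, hxmem.2⟩, ?_⟩
          rw [← Finset.sdiff_union_of_subset hCB, hx, Finset.insert_eq]
        · rintro ⟨x, ⟨hxX, hxC⟩, rfl⟩
          refine ⟨⟨Finset.insert_subset hxX hCX, ?_⟩, Finset.subset_insert _ _⟩
          rw [Finset.card_insert_of_notMem hxC]; omega
      rw [himg, Finset.card_image_of_injOn, Finset.card_sdiff_of_subset hCX, hX, hCk]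
      · omega
      · intro x hx y hy hxy
        simp only [Finset.coe_sdiff, Set.mem_sdiff, Finset.mem_coe] at hx
        simp only at hxy
        have : x ∈ insert y C := by rw [← hxy]; exact Finset.mem_insert_self x C
        exact (Finset.mem_insert.mp this).resolve_right hx.2
    have hsum := Finset.sum_card_bipartiteAbove_eq_sum_card_bipartiteBelow (s := S) (t := T) (· ⊆ ·)
    rw [Finset.sum_congr rfl h1, Finset.sum_congr rfl h2, Finset.sum_const, Finset.sum_const,
      smul_eq_mul, smul_eq_mul, Finset.card_powersetCard, hX] at hsum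
    have hcop : (p ^ a).Coprime ((k + p ^ a - 1).choose k) := by
      refine Nat.Coprime.pow_left a ((hp.coprime_iff_not_dvd).mpr ?_)
      rw [show k + p ^ a - 1 = k + (p ^ a - 1) by omega]
      exact not_dvd_choose hp hqk (by omega)
    exact hcop.dvd_of_dvd_mul_left ⟨S.card, by rw [← hsum, mul_comm]⟩
  have hle : ∀ B : Finset α, B.card = k → Nat.card {C : Set.powersetCard α (k - 1) // (C : Finset α) ⊆ B} = k := by
    intro B hB
    have hk' : Nat.card (B.powersetCard (k - 1)) = k := by
      rw [Nat.card_eq_finsetCard, Finset.card_powersetCard, hB]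
      obtain ⟨j, rfl⟩ : ∃ j, k = j + 1 := ⟨k - 1, by omega⟩
      rw [Nat.add_sub_cancel, Nat.choose_succ_self_right]
    refine Eq.trans ?_ hk'
    refine Nat.card_congr
      { toFun := fun C => ⟨(C.1 : Finset α), Finset.mem_powersetCard.mpr ⟨C.2, C.1.2⟩⟩
        invFun := fun C => ⟨⟨C.1, (Finset.mem_powersetCard.mp C.2).2⟩, (Finset.mem_powersetCard.mp C.2).1⟩
        left_inv := fun C => rfl
        right_inv := fun C => rfl }
  obtain ⟨B, hA'B, hB⟩ := hsub A' hkn
  have hpos : 0 < c B0 := by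
    have : Nonempty {C : Set.powersetCard α (k - 1) // C ∈ O ∧ (C : Finset α) ⊆ B0} :=
      ⟨⟨A, MulAction.mem_orbit_self A, hAB0⟩⟩
    exact Nat.card_pos
  have hinj : Function.Injective (fun C : {C : Set.powersetCard α (k - 1) // C ∈ O ∧ (C : Finset α) ⊆ B} =>
      (⟨C.1, C.2.2⟩ : {C : Set.powersetCard α (k - 1) // (C : Finset α) ⊆ B})) :=
    fun C D h => Subtype.ext (congrArg (fun z => z.1) h)
  have hcB := hconst B hB
  have hge : k ≤ c B0 := Nat.le_of_dvd hpos hdvd
  have hcard : Nat.card {C : Set.powersetCard α (k - 1) // (C : Finset α) ⊆ B} ≤ c B := by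
    rw [hle B hB, hcB]; exact hge
  obtain ⟨C, hC⟩ := (hinj.bijective_of_nat_card_le hcard).2 ⟨A', hA'B⟩
  have : C.1 = A' := congrArg Subtype.val hC
  rw [← this]
  exact C.2.1

end Cfsg.Agent.S0736
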