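import Cfsg.Statements.S0744
import Cfsg.Agent.Lib.Perm.Multi

set_option autoImplicit false
open Cfsg

namespace Cfsg.Agent.S0744

theorem aux (k : ℕ) : ∀ {G α : Type*} [Group G] [MulAction G α] [Finite α] [Finite G] (l m : ℕ),
    k + 1 ≤ Nat.card α → l ≠ m →
    (∀ s : Set α, s.ncard = k → Nat.card (fixingSubgroup G s) = l) →
    (∀ s : Set α, s.ncard = k + 1 → Nat.card (fixingSubgroup G s) = m) →
    MulAction.IsMultiplyPretransitive G α k := by
  induction k with
  | zero => intros; exact MulAction.is_zero_pretransitive'
  | succ k ih =>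
    intro G α _ _ _ _ l m hcard hlm hl hm
    rcases Nat.eq_zero_or_pos k with rfl | hk
    · rw [MulAction.is_one_pretransitive_iff]
      have hst : ∀ a : α, Nat.card (MulAction.stabilizer G a) = l := fun a => by
        rw [← hl {a} (Set.ncard_singleton a)]
        refine Nat.card_congr (Equiv.subtypeEquivRight fun g => ?_)
        simp [mem_fixingSubgroup_iff]
      constructor
      intro a b
      by_contra hne
      have hab : a ≠ b := fun e => hne ⟨1, by rw [one_smul, e]⟩
      have hpair : ∀ x : α, x ≠ a → Nat.card (MulAction.stabilizer (MulAction.stabilizer G a) x) = m := by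
        intro x hx
        rw [← hm {a, x} (by rw [Set.ncard_pair (Ne.symm hx)])]
        refine Nat.card_congr
          { toFun := fun g => ⟨((g : MulAction.stabilizer G a) : G), by
              rw [mem_fixingSubgroup_iff]
              rintro y (rfl | rfl)
              · exact g.1.2
              · exact g.2⟩
            invFun := fun g => ⟨⟨(g : G), (mem_fixingSubgroup_iff G).mp g.2 a (Or.inl rfl)⟩,
              (mem_fixingSubgroup_iff G).mp g.2 x (Or.inr rfl)⟩
            left_inv := fun g => rfl
            right_inv := fun g => rfl }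
      have hr : ∀ x : α, x ≠ a → Nat.card (MulAction.orbit (MulAction.stabilizer G a) x) * m = l := by
        intro x hx
        rw [← hpair x hx, ← hst a, Nat.card_coe_set_eq, ← MulAction.index_stabilizer, Subgroup.index_mul_card]
      set r := Nat.card (MulAction.orbit (MulAction.stabilizer G a) b) with hrdef
      have hrb := hr b (Ne.symm hab)
      have hmpos : 0 < m := by rw [← hpair b (Ne.symm hab)]; exact Nat.card_pos
      have hdiv : ∀ c : α, Nat.card (MulAction.orbit G c) * l = Nat.card G := fun c => by
        rw [← hst c, Nat.card_coe_set_eq, ← MulAction.index_stabilizer, Subgroup.index_mul_card]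
      have hdvd : ∀ (S : Finset α), a ∉ S → (∀ g : MulAction.stabilizer G a, ∀ x ∈ S, g • x ∈ S) →
          r ∣ S.card := by
        classical
        have := Fintype.ofFinite α
        intro S
        induction S using Finset.strongInduction with
        | _ S IH =>
          intro haS hinv
          rcases S.eq_empty_or_nonempty with rfl | ⟨x, hx⟩
          · simp
          let O : Finset α := (MulAction.orbit (MulAction.stabilizer G a) x).toFinset
          have hOS : O ⊆ S := fun y hy => by
            obtain ⟨g, rfl⟩ := Set.mem_toFinset.mp hy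
            exact hinv g x hx
          have hOcard : O.card = r := by
            have h1 := hr x (fun e => haS (e ▸ hx))
            rw [Set.toFinset_card, ← Nat.card_eq_fintype_card]
            exact Nat.eq_of_mul_eq_mul_right hmpos (h1.trans hrb.symm)
          have hxO : x ∈ O := Set.mem_toFinset.mpr (MulAction.mem_orbit_self x)
          have := IH (S \ O) (Finset.sdiff_ssubset hOS ⟨x, hxO⟩) (by simp [haS]) (by
            intro g y hy
            rw [Finset.mem_sdiff] at hy ⊢
            refine ⟨hinv g y hy.1, fun h => hy.2 ?_⟩
            rw [Set.mem_toFinset] at h ⊢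
            obtain ⟨k, hk⟩ := h
            exact ⟨g⁻¹ * k, (mul_smul g⁻¹ k x).trans (by simp only at hk; rw [hk, inv_smul_smul])⟩)
          rw [← Finset.card_sdiff_add_card_eq_card hOS, hOcard]
          exact dvd_add this dvd_rfl
      classical
      have := Fintype.ofFinite α
      have h1 : r ∣ ((MulAction.orbit G b).toFinset).card := by
        refine hdvd _ (fun h => ?_) fun g x hx => ?_
        · obtain ⟨g, hg⟩ := Set.mem_toFinset.mp h
          exact hne ⟨g⁻¹, by simp only at hg; rw [← hg, inv_smul_smul]⟩
        · rw [Set.mem_toFinset] at hx ⊢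
          obtain ⟨m', rfl⟩ := hx
          exact ⟨(g : G) * m', mul_smul _ _ b⟩
      have h2 : r ∣ ((MulAction.orbit G a).toFinset.erase a).card := by
        refine hdvd _ (Finset.notMem_erase _ _) fun g x hx => ?_
        rw [Finset.mem_erase, Set.mem_toFinset] at hx ⊢
        refine ⟨fun e => hx.1 ?_, ?_⟩
        · have h' : g⁻¹ • a = a := (g⁻¹).2
          rw [← inv_smul_smul g x, e, h']
        · obtain ⟨m', hm'⟩ := hx.2
          refine ⟨(g : G) * m', (mul_smul _ _ a).trans ?_⟩
          simp only at hm'; rw [hm']; rfl
      rw [Finset.card_erase_of_mem (Set.mem_toFinset.mpr (MulAction.mem_orbit_self a)),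
        Set.toFinset_card, ← Nat.card_eq_fintype_card] at h2
      rw [Set.toFinset_card, ← Nat.card_eq_fintype_card] at h1
      have hlpos : 0 < l := by rw [← hst a]; exact Nat.card_pos
      have heq : Nat.card (MulAction.orbit G a) = Nat.card (MulAction.orbit G b) :=
        Nat.eq_of_mul_eq_mul_right hlpos ((hdiv a).trans (hdiv b).symm)
      rw [← heq] at h1
      have hpos : 1 ≤ Nat.card (MulAction.orbit G a) := by
        have : Nonempty (MulAction.orbit G a) := ⟨⟨a, MulAction.mem_orbit_self a⟩⟩
        exact Nat.card_pos
      have h3 := Nat.dvd_sub h1 h2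
      rw [Nat.sub_sub_self hpos, Nat.dvd_one] at h3
      rw [hrdef] at h3; rw [h3, one_mul] at hrb
      exact hlm hrb.symm
    · refine CfsgLib.Perm.isMultiplyPretransitive_succ_of_stabilizers hk (by omega) fun a => ?_
      have := SubMulAction.nat_card_ofStabilizer_add_one_eq G a
      have key : ∀ (s : Set (SubMulAction.ofStabilizer G a)) (j : ℕ), s.ncard = j →
          (insert a (Subtype.val '' s)).ncard = j + 1 := fun s j hs => by
        have hna : a ∉ Subtype.val '' s := by rintro ⟨x, _, hx⟩; exact x.2 (by rw [Set.mem_singleton_iff]; exact hx)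
        rw [Set.ncard_insert_of_notMem hna,
          Set.ncard_image_of_injective _ Subtype.val_injective, hs]
      refine ih (G := MulAction.stabilizer G a) (α := SubMulAction.ofStabilizer G a) l m (by omega) hlm ?_ ?_
      · intro s hs; rw [CfsgLib.Perm.fixingSubgroup_insert_card]; exact hl _ (key s k hs)
      · intro s hs; rw [CfsgLib.Perm.fixingSubgroup_insert_card]; exact hm _ (key s (k + 1) hs)

/-- If for some `k > 1` the pointwise stabilisers of all `(k-1)`-subsets have the same order `> 1` and those of all `k`-subsets have the same order, then the group is `(k-1)`-transitive. -/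
theorem result {α : Type*} [Fintype α] [DecidableEq α] (G : Subgroup (Equiv.Perm α)) {k : ℕ} (hk : 1 < k) (hkn : k ≤ Fintype.card α) (l m : ℕ) (hl : 1 < l) (hkm1 : ∀ s : Finset α, s.card = k - 1 → Nat.card (fixingSubgroup G (s : Set α)) = l) (hkm : ∀ s : Finset α, s.card = k → Nat.card (fixingSubgroup G (s : Set α)) = m) : MulAction.IsMultiplyPretransitive G α (k - 1) := by
  obtain ⟨j, rfl⟩ : ∃ j, k = j + 1 := ⟨k - 1, by omega⟩
  simp only [Nat.add_sub_cancel] at hkm1 ⊢
  have hl' : ∀ s : Set α, s.ncard = j → Nat.card (fixingSubgroup G s) = l := fun s hs => by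
    have := hkm1 s.toFinite.toFinset (by rw [← Set.ncard_eq_toFinset_card s, hs])
    rwa [Set.Finite.coe_toFinset] at this
  have hm' : ∀ s : Set α, s.ncard = j + 1 → Nat.card (fixingSubgroup G s) = m := fun s hs => by
    have := hkm s.toFinite.toFinset (by rw [← Set.ncard_eq_toFinset_card s, hs])
    rwa [Set.Finite.coe_toFinset] at this
  refine aux j l m (by rw [Nat.card_eq_fintype_card]; exact hkn) ?_ hl' hm'
  intro e
  obtain ⟨S, -, hS⟩ := Set.exists_subset_card_eq (s := (Set.univ : Set α)) (n := j)
    (by rw [Set.ncard_univ, Nat.card_eq_fintype_card]; omega)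
  have hbot : fixingSubgroup G S = ⊥ := by
    rw [Subgroup.eq_bot_iff_forall]
    intro g hg
    apply Subtype.ext
    ext x
    by_cases hx : x ∈ S
    · exact (mem_fixingSubgroup_iff G).mp hg x hx
    · have hle : fixingSubgroup G (insert x S) ≤ fixingSubgroup G S :=
        fixingSubgroup_antitone G α (Set.subset_insert x S)
      have heq : fixingSubgroup G (insert x S) = fixingSubgroup G S :=
        Subgroup.eq_of_le_of_card_ge hle (by
          rw [hl' S hS, hm' _ (by rw [Set.ncard_insert_of_notMem hx, hS]), e])
      rw [← heq] at hg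
      exact (mem_fixingSubgroup_iff G).mp hg x (Set.mem_insert x S)
  have := hl' S hS
  rw [hbot, Subgroup.card_bot] at this
  omega

end Cfsg.Agent.S0744
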