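import Cfsg.Statements.S0526
import Cfsg.Agent.Lib.Solvable.Supersolvable

set_option autoImplicit false
open Cfsg
open scoped Pointwise commutatorElement

namespace Cfsg.Agent.S0526

/-- In a finite supersolvable group the commutator subgroup is nilpotent. -/
theorem result {G : Type*} [Group G] [Finite G] (hG : Cfsg.IsSupersolvable G) : Group.IsNilpotent (commutator G) := by
  induction hn : Nat.card G using Nat.strong_induction_on generalizing G with
  | _ n ih =>
    subst hn
    rcases subsingleton_or_nontrivial G with hs | hs
    · infer_instance
    · obtain ⟨Q, hQn, hQp, hQc, hQs⟩ := CfsgLib.Solvable.exists_normal_prime_quotient hG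
      haveI := hQn; haveI := hQc
      have key := ih _ (CfsgLib.Solvable.card_quotient_lt (CfsgLib.Solvable.ne_bot_of_card_prime hQp)) hQs rfl
      haveI := key
      let π := QuotientGroup.mk' Q
      let φ : G →* MulAut Q := MulAut.conjNormal
      have hker : commutator G ≤ φ.ker := by
        rw [commutator_def, Subgroup.commutator_le]
        intro a _ b _
        rw [MonoidHom.mem_ker, map_commutatorElement, commutatorElement_eq_one_iff_mul_comm]
        obtain ⟨u, hu⟩ := MonoidHom.map_cyclic (φ a).toMonoidHom
        obtain ⟨v, hv⟩ := MonoidHom.map_cyclic (φ b).toMonoidHom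
        ext z
        simp only [MulAut.mul_apply]
        rw [show φ a (φ b z) = (φ b z) ^ u from hu _, show φ b z = z ^ v from hv z,
          show φ b (φ a z) = (φ a z) ^ v from hv _, show φ a z = z ^ u from hu z, ← zpow_mul, ← zpow_mul, mul_comm]
      let f : commutator G →* commutator (G ⧸ Q) := (π.comp (commutator G).subtype).codRestrict _ fun x => by
        show π x.1 ∈ commutator (G ⧸ Q)
        have h2 : (commutator G).map π ≤ commutator (G ⧸ Q) := by
          rw [commutator_def, commutator_def, Subgroup.map_commutator]
          exact Subgroup.commutator_mono le_top le_top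
        exact h2 ⟨x, x.2, rfl⟩
      refine Subgroup.isNilpotent_of_ker_le_center f fun x hx => ?_
      have hxQ : (x : G) ∈ Q := (QuotientGroup.eq_one_iff _).mp (congrArg Subtype.val (MonoidHom.mem_ker.mp hx))
      rw [Subgroup.mem_center_iff]
      intro y
      have h3 := congrArg Subtype.val (DFunLike.congr_fun (MonoidHom.mem_ker.mp (hker y.2)) ⟨x, hxQ⟩)
      simp only [φ, MulAut.conjNormal_apply, MulAut.one_apply] at h3
      exact Subtype.ext (mul_inv_eq_iff_eq_mul.mp h3)

end Cfsg.Agent.S0526
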