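import Cfsg.Statements.S3778
import Cfsg.Agent.Lib.StructC.Commutator
import Mathlib.GroupTheory.PGroup
import Mathlib.GroupTheory.Index
import Mathlib.GroupTheory.Nilpotent

set_option autoImplicit false
open Cfsg
open scoped commutatorElement

namespace Cfsg.Agent.S3778

/-- If G is a finite p-group in which every conjugacy class has at most p^b elements (every element has centralizer of index at most p^b), then G is abelian when b = 0, and when b ≥ 1 its nilpotency class c satisfies (c − 1)(p − 1) < bp, that is c < bp/(p − 1) + 1, and hence c ≤ 2b. -/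
theorem result {G : Type*} [Group G] [Finite G] {p : ℕ} [Fact p.Prime] (hG : IsPGroup p G) (b : ℕ) (hb : ∀ x : G, (Subgroup.centralizer ({x} : Set G)).index ≤ p ^ b) : ∃ c : ℕ, (⊤ : Subgroup G).lowerCentralSeries c = ⊥ ∧ (b ≠ 0 → (c - 1) * (p - 1) < b * p ∧ c ≤ 2 * b) ∧ (b = 0 → c ≤ 1) := by
  classical
  have hp : p.Prime := Fact.out
  have hnil := hG.isNilpotent
  set gam := (⊤ : Subgroup G).lowerCentralSeries with hgam
  obtain ⟨c, hc, hmin⟩ : ∃ c, gam c = ⊥ ∧ ∀ k < c, gam k ≠ ⊥ := by
    have h := Subgroup.nilpotent_iff_lowerCentralSeries.1 hnil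
    exact ⟨Nat.find h, Nat.find_spec h, fun k hk => Nat.find_min h hk⟩
  have hnormal : ∀ i, (gam i).Normal := fun i => CfsgLib.StructC.normal_lowerCentralSeries _ i
  have hstep : ∀ i, ∀ g ∈ gam i, ∀ x : G, ⁅g, x⁆ ∈ gam (i + 1) := fun i g hg x =>
    Subgroup.commutator_mem_commutator hg (Subgroup.mem_top x)
  let Cg : ℕ → Subgroup G := fun i =>
    { carrier := {x | ∀ g ∈ gam i, ⁅g, x⁆ ∈ gam (i + 2)}
      one_mem' := fun g _ => by simp
      mul_mem' := fun {x y} hx hy g hg => by
        rw [show ⁅g, x * y⁆ = ⁅g, x⁆ * (x * ⁅g, y⁆ * x⁻¹) by simp only [commutatorElement_def]; group]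
        exact mul_mem (hx g hg) ((hnormal _).conj_mem _ (hy g hg) x)
      inv_mem' := fun {x} hx g hg => by
        rw [show ⁅g, x⁻¹⁆ = x⁻¹ * ⁅g, x⁆⁻¹ * x⁻¹⁻¹ by simp only [commutatorElement_def]; group]
        exact (hnormal _).conj_mem _ (inv_mem (hx g hg)) x⁻¹ }
  -- each two-step centraliser is proper
  have hproper : ∀ i, i + 1 < c → Cg i ≠ ⊤ := by
    intro i hi e
    have h1 : gam (i + 1) ≤ gam (i + 2) := by
      show ⁅gam i, ⊤⁆ ≤ _
      exact Subgroup.commutator_le.2 fun g hg x _ => (e ▸ Subgroup.mem_top x : x ∈ Cg i) g hg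
    have h2 : ∀ j, gam (i + 1) ≤ gam (i + 1 + j) := by
      intro j
      induction j with
      | zero => exact le_rfl
      | succ j ih =>
        refine h1.trans ?_
        show ⁅gam (i + 1), ⊤⁆ ≤ ⁅gam (i + 1 + j), ⊤⁆
        exact Subgroup.commutator_mono ih le_rfl
    exact hmin _ hi (eq_bot_iff.2 ((h2 c).trans
      ((Subgroup.lowerCentralSeries_antitone _ (Nat.le_add_left c (i + 1))).trans hc.le)))
  -- an element outside many of them has a large class
  let N : G → ℕ := fun x => ((Finset.range (c - 1)).filter fun i => x ∉ Cg i).card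
  have hN : ∀ x, N x ≤ b := by
    intro x
    set C := Subgroup.centralizer ({x} : Set G)
    have key : ∀ j k, k + j = c - 1 →
        p ^ ((Finset.Ico k (c - 1)).filter fun i => x ∉ Cg i).card ≤ C.relIndex (gam k) := by
      intro j
      induction j with
      | zero =>
        intro k hk
        rw [Finset.Ico_eq_empty (by omega), Finset.filter_empty, Finset.card_empty, pow_zero]
        exact Nat.one_le_iff_ne_zero.2 Subgroup.index_ne_zero_of_finite
      | succ j ih =>
        intro k hk
        have hrec := ih (k + 1) (by omega)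
        set C' := C ⊓ gam k
        set H := C' ⊔ gam (k + 1)
        have hk1 : gam (k + 1) ≤ gam k := Subgroup.lowerCentralSeries_antitone _ (Nat.le_succ k)
        have hmul := Subgroup.relIndex_mul_relIndex C' H (gam k) le_sup_left (sup_le inf_le_right hk1)
        rw [show C'.relIndex (gam k) = C.relIndex (gam k) from Subgroup.inf_relIndex_right C (gam k)] at hmul
        have hle : C.relIndex (gam (k + 1)) ≤ C'.relIndex H := by
          have h3 : C'.relIndex (gam (k + 1)) ≤ C'.relIndex H :=
            Subgroup.relIndex_le_of_le_right (le_sup_right (a := C') (b := gam (k + 1)))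
              Subgroup.index_ne_zero_of_finite
          exact le_trans (Subgroup.relIndex_le_of_le_left inf_le_left Subgroup.index_ne_zero_of_finite) h3
        rw [← hmul]
        have hH0 : H.relIndex (gam k) ≠ 0 := Subgroup.index_ne_zero_of_finite
        have hsplit : Finset.Ico k (c - 1) = insert k (Finset.Ico (k + 1) (c - 1)) :=
          (Finset.insert_Ico_succ_left_eq_Ico (by omega)).symm
        rw [hsplit, Finset.filter_insert]
        by_cases hx : x ∈ Cg k
        · rw [if_neg (not_not.2 hx)]
          exact le_trans (hrec.trans hle) (Nat.le_mul_of_pos_right _ (Nat.pos_of_ne_zero hH0))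
        · rw [if_pos hx, Finset.card_insert_of_notMem (fun h => by
            have := (Finset.mem_Ico.1 (Finset.mem_filter.1 h).1).1; omega), pow_succ]
          refine Nat.mul_le_mul (hrec.trans hle) ?_
          obtain ⟨m, hm⟩ := (hG.to_subgroup (gam k)).index (H.subgroupOf (gam k))
          rw [Subgroup.relIndex, hm]
          refine Nat.le_self_pow (fun e => hx fun g hg => ?_) p
          rw [e, pow_zero, Subgroup.index_eq_one, Subgroup.subgroupOf_eq_top] at hm
          have := hnormal (k + 1)
          obtain ⟨a, ha, h, hh, rfl⟩ := Subgroup.mem_sup_of_normal_right.1 (hm hg)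
          have hax : ⁅a, x⁆ = 1 := commutatorElement_eq_one_iff_mul_comm.2
            (Subgroup.mem_centralizer_singleton_iff.1 ha.1)
          rw [show ⁅a * h, x⁆ = a * ⁅h, x⁆ * a⁻¹ * ⁅a, x⁆ by simp only [commutatorElement_def]; group,
            hax, mul_one]
          exact (hnormal _).conj_mem _ (hstep _ h hh x) a
    have h0 := key (c - 1) 0 (by omega)
    rw [show gam 0 = (⊤ : Subgroup G) from rfl, Subgroup.relIndex_top_right, Nat.Ico_zero_eq_range] at h0
    exact (Nat.pow_le_pow_iff_right hp.one_lt).1 (h0.trans (hb x))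
  -- averaging
  have : Fintype G := Fintype.ofFinite G
  have hsum : (c - 1) * ((p - 1) * Fintype.card G) ≤ p * ((Fintype.card G - 1) * b) := by
    have h1 : ∑ x : G, N x ≤ (Fintype.card G - 1) * b := by
      rw [← Finset.add_sum_erase _ _ (Finset.mem_univ (1 : G))]
      have h10 : N 1 = 0 := Finset.card_eq_zero.2 (Finset.filter_eq_empty_iff.2
        fun i _ => not_not.2 (one_mem (Cg i)))
      rw [h10, zero_add]
      refine (Finset.sum_le_card_nsmul _ _ b fun x _ => hN x).trans (le_of_eq ?_)
      rw [Finset.card_erase_of_mem (Finset.mem_univ _), Finset.card_univ, smul_eq_mul]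
    have h2 : ∑ x : G, N x = ∑ i ∈ Finset.range (c - 1),
        ((Finset.univ : Finset G).filter fun x => x ∉ Cg i).card := by
      simp only [N, Finset.card_filter]
      rw [Finset.sum_comm]
    have h3 : ∀ i ∈ Finset.range (c - 1), (p - 1) * Fintype.card G
        ≤ p * ((Finset.univ : Finset G).filter fun x => x ∉ Cg i).card := by
      intro i hi
      rw [Finset.mem_range] at hi
      have hidx : p ≤ (Cg i).index := by
        obtain ⟨m, hm⟩ := hG.index (Cg i)
        rw [hm]
        refine Nat.le_self_pow (fun e => hproper i (by omega) (Subgroup.index_eq_one.1 ?_)) p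
        rw [hm, e, pow_zero]
      have hcard := (Cg i).card_mul_index
      rw [Nat.card_eq_fintype_card (α := G)] at hcard
      have hcompl : ((Finset.univ : Finset G).filter fun x => x ∉ Cg i).card + Nat.card (Cg i)
          = Fintype.card G := by
        rw [Nat.card_eq_fintype_card, Fintype.card_subtype, add_comm,
          Finset.card_filter_add_card_filter_not, Finset.card_univ]
      have hle : p * Nat.card (Cg i) ≤ Fintype.card G := by
        rw [← hcard, mul_comm p]; exact Nat.mul_le_mul_left _ hidx
      have e1 := congrArg (p * ·) hcompl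
      simp only [mul_add] at e1
      rw [Nat.sub_mul, one_mul]
      omega
    calc (c - 1) * ((p - 1) * Fintype.card G)
        = ∑ i ∈ Finset.range (c - 1), (p - 1) * Fintype.card G := by
          rw [Finset.sum_const, Finset.card_range, smul_eq_mul]
      _ ≤ ∑ i ∈ Finset.range (c - 1), p * ((Finset.univ : Finset G).filter fun x => x ∉ Cg i).card :=
          Finset.sum_le_sum h3
      _ ≤ _ := by rw [← Finset.mul_sum, ← h2]; exact Nat.mul_le_mul_left _ h1
  refine ⟨c, hc, fun hb0 => ?_, fun hb0 => ?_⟩
  · have hmain : (c - 1) * (p - 1) < b * p := by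
      by_contra hcon
      push Not at hcon
      have hG0 : 0 < Fintype.card G := Fintype.card_pos
      have h4 : b * p * Fintype.card G ≤ p * ((Fintype.card G - 1) * b) :=
        (Nat.mul_le_mul_right _ hcon).trans (by rw [mul_assoc]; exact hsum)
      rw [mul_comm b p, mul_assoc] at h4
      have h5 := Nat.le_of_mul_le_mul_left h4 hp.pos
      rw [mul_comm (Fintype.card G - 1) b] at h5
      have h6 := Nat.le_of_mul_le_mul_left h5 (Nat.pos_of_ne_zero hb0)
      omega
    refine ⟨hmain, ?_⟩
    have h7 : b * p ≤ 2 * b * (p - 1) := by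
      rw [mul_comm 2 b, mul_assoc]
      exact Nat.mul_le_mul_left b (by have := hp.two_le; omega)
    have := Nat.lt_of_mul_lt_mul_right (hmain.trans_le h7)
    omega
  · subst hb0
    rw [mul_zero, mul_zero, Nat.le_zero, mul_eq_zero] at hsum
    rcases hsum with h | h
    · omega
    · rw [mul_eq_zero] at h
      have := Fintype.card_pos (α := G)
      have := hp.two_le
      omega

end Cfsg.Agent.S3778
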