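import Cfsg.Statements.S4482
import Cfsg.Agent.Lib.BlockA.DihedralOrder
import Cfsg.Agent.Lib.Invol.Dihedral

set_option autoImplicit false
open Cfsg

namespace Cfsg.Agent.S4482

/-- An order formula for groups with dihedral Sylow 2-subgroups and one class of involutions. Let G be a finite group whose Sylow 2-subgroup P = ⟨σ, τ⟩ is dihedral of order 2^n ≥ 8 (σ of order 2^(n−1), τ an involution inverting σ), let J be the central involution σ^(2^(n−2)), and suppose J, τ and στ are conjugate in G. Fix M over 2 and let χ₁ be an irreducible character in the principal 2-block taking one constant value δ₁ = ±1 at every non-identity power of σ, with χ₁ ≠ 1. Then, with x₁ = χ₁(1) and c(·) denoting orders of centralizers, x₁ ≠ δ₁ and #G · (x₁ − δ₁)² = 2·x₁(x₁ + δ₁)·c(J)³·(1/c(J, τ) + 1/c(J, στ))², where c(J, y) is the order of the joint centralizer of J and y. -/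
theorem result {G : Type*} [Group G] [Finite G] (M : Ideal Cfsg.AlgInt) (hM : Cfsg.IsPModular 2 M) (n : ℕ) (hn : 3 ≤ n) (P : Sylow 2 G) (σ τ : G) (hσ : σ ∈ (P : Subgroup G)) (hτ : τ ∈ (P : Subgroup G)) (hσo : orderOf σ = 2 ^ (n - 1)) (hτo : orderOf τ = 2) (hrel : τ * σ * τ⁻¹ = σ⁻¹) (hgen : Subgroup.closure ({σ, τ} : Set G) = (P : Subgroup G)) (hconj : IsConj (σ ^ (2 ^ (n - 2))) τ ∧ IsConj (σ ^ (2 ^ (n - 2))) (σ * τ)) (χ₁ : Cfsg.IrrCharacter G) (hχ₁ : χ₁ ∈ Cfsg.principalBlock M G) (h1 : (χ₁ : G → ℂ) ≠ (fun _ => 1)) (δ₁ : ℤ) (hδ₁ : δ₁ = 1 ∨ δ₁ = -1) (hval : ∀ l : ℕ, 0 < l → l < 2 ^ (n - 1) → (χ₁ : G → ℂ) (σ ^ l) = δ₁) : (Cfsg.charDegree (χ₁ : G → ℂ) : ℤ) ≠ δ₁ ∧ (Nat.card G : ℚ) * ((Cfsg.charDegree (χ₁ : G → ℂ) : ℚ) - δ₁) ^ 2 = 2 * (Cfsg.charDegree (χ₁ : G → ℂ) : ℚ) * ((Cfsg.charDegree (χ₁ : G → ℂ) : ℚ) + δ₁) * (Nat.card (Subgroup.centralizer ({σ ^ (2 ^ (n - 2))} : Set G)) : ℚ) ^ 3 * (1 / (Nat.card (Subgroup.centralizer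 ({σ ^ (2 ^ (n - 2)), τ} : Set G)) : ℚ) + 1 / (Nat.card (Subgroup.centralizer ({σ ^ (2 ^ (n - 2)), σ * τ} : Set G)) : ℚ)) ^ 2 := by
  classical
  have := CfsgLib.Block.isPrime_of_pmodular hM
  have hq : 2 ^ (n - 1) = 2 * 2 ^ (n - 2) := by
    rw [← pow_succ']; congr 1; omega
  have h2 : 2 ≤ 2 ^ (n - 2) := Nat.le_self_pow (by omega) 2
  have hnot : τ ∉ Subgroup.zpowers σ := by
    rintro ⟨i, hi⟩
    have hc : Commute τ σ := hi ▸ (Commute.refl σ).zpow_left i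
    rw [hc.eq, mul_inv_cancel_right, eq_inv_iff_mul_eq_one, ← pow_two,
      ← orderOf_dvd_iff_pow_eq_one, hσo, hq] at hrel
    have := Nat.le_of_dvd two_pos hrel
    omega
  have hcard : Nat.card (P : Subgroup G) = 4 * 2 ^ (n - 2) := by
    have : NeZero (2 ^ (n - 1)) := ⟨by positivity⟩
    obtain ⟨e⟩ := CfsgLib.Invol.exists_mulEquiv_dihedral hσo hτo hrel hnot
    rw [← hgen, Nat.card_congr e.toEquiv, DihedralGroup.nat_card, hq]
    ring
  obtain ⟨D, hDh, hDr, hDs⟩ := CfsgLib.BlockA.DihedralBlock.exists_data_of_elems P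
    (h := 2 ^ (n - 2)) (by omega) ⟨n - 2, rfl⟩ hcard hσ hτ (hσo.trans hq) hτo hrel hnot
  have hqD : 2 * D.h = 2 ^ (n - 1) := by rw [hDh, hq]
  have hh : 2 ≤ D.h := by omega
  obtain ⟨ζ, hζ⟩ : ∃ ζ : ℂ, IsPrimitiveRoot ζ (2 * D.h) :=
    ⟨_, Complex.isPrimitiveRoot_exp _ (by omega)⟩
  have hJ : σ ^ (2 ^ (n - 2)) = CfsgLib.Invol.dz P D := by
    rw [← CfsgLib.BlockA.DihedralBlock.rot_pow_h P D, hDh, CfsgLib.BlockA.DihedralBlock.rot, hDr]
  have ht0 : CfsgLib.Invol.dt P D 0 = τ := by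
    simp [CfsgLib.Invol.dt, hDs]
  have ht1 : CfsgLib.Invol.dt P D 1 = σ * τ := by
    simp [CfsgLib.Invol.dt, hDs, hDr]
  have hone : ∀ s t : G, orderOf s = 2 → orderOf t = 2 → IsConj s t := by
    have key : ∀ s : G, orderOf s = 2 → IsConj s (CfsgLib.Invol.dz P D) := fun s hs => by
      rcases CfsgLib.Invol.invol_dih P D hs with e | e | e
      · exact e
      · exact e.trans (by rw [ht0, ← hJ]; exact hconj.1.symm)
      · exact e.trans (by rw [ht1, ← hJ]; exact hconj.2.symm)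
    exact fun s t hs ht => (key s hs).trans (key t ht).symm
  obtain ⟨c₁, c₂, c₃, c', e₁, e₂, e₃, S⟩ :=
    CfsgLib.BlockA.DihedralBlock.exists_shape hM P D hh hζ
  have hr : ∀ l : ℕ, σ ^ l = CfsgLib.BlockA.DihedralBlock.rot P D ^ l := fun l => by rw [← hDr]
  have hnd : ∀ l : ℕ, 0 < l → l < 2 ^ (n - 1) → ¬ 2 * D.h ∣ l := fun l h0 hl h => by
    have := Nat.le_of_dvd h0 h
    omega
  have hv : ∀ l : ℕ, 0 < l → l < 2 ^ (n - 1) →
      (χ₁ : G → ℂ) (CfsgLib.BlockA.DihedralBlock.rot P D ^ l) = δ₁ := fun l h0 hl => by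
    rw [← hr]; exact hval l h0 hl
  have hδ0 : (δ₁ : ℂ) ≠ 0 := by rcases hδ₁ with e | e <;> simp [e]
  have hid : χ₁ = c₁ := by
    rcases (S.block_eq χ₁).1 hχ₁ with e | e | e | e | ⟨j, hj, e⟩
    · exact absurd e h1
    · exact e
    · exfalso
      have a := hv 1 one_pos (by omega)
      have b := hv 2 two_pos (by omega)
      rw [e, S.val₂ 1 (hnd 1 one_pos (by omega))] at a
      rw [e, S.val₂ 2 (hnd 2 two_pos (by omega))] at b
      exact hδ0 (by linear_combination -(a + b) / 2)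
    · exfalso
      have a := hv 1 one_pos (by omega)
      have b := hv 2 two_pos (by omega)
      rw [e, S.val₃ 1 (hnd 1 one_pos (by omega))] at a
      rw [e, S.val₃ 2 (hnd 2 two_pos (by omega))] at b
      exact hδ0 (by linear_combination -(a + b) / 2)
    · exfalso
      have a := hv D.h (by omega) (by omega)
      rw [e, CfsgLib.BlockA.DihedralBlock.rot_pow_h,
        ((S.weights P D hh hζ).2.2.2 j hj).2] at a
      rcases S.sgn₁ with h | h <;> rcases neg_one_pow_eq_or ℂ j with h' | h' <;>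
        rcases hδ₁ with h'' | h'' <;> rw [h, h', h''] at a <;> norm_num at a
  subst hid
  have hδ : δ₁ = e₁ := by
    have a := hv 1 one_pos (by omega)
    rw [S.val₁ 1 (hnd 1 one_pos (by omega))] at a
    exact_mod_cast a.symm
  subst hδ
  have h := CfsgLib.BlockA.DihedralBlock.order_formula hM P D hh hζ S hone
  rwa [← hJ, ht0, ht1] at h

end Cfsg.Agent.S4482
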