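import Cfsg.Statements.S4034
import Cfsg.Agent.Lib.Char.Burnside
import Cfsg.Agent.Lib.Char.Column
import Cfsg.Agent.Lib.Solvable.Hall
import Cfsg.Agent.Lib.Solvable.HallHigman
import Mathlib.Tactic

set_option autoImplicit false
open Cfsg

universe u

namespace Cfsg.Agent.S4034

/-- Every p-regular element has p-power class size. -/
def Reg (p : ℕ) (G : Type u) [Group G] : Prop :=
  ∀ x : G, (orderOf x).Coprime p → ∃ k : ℕ, (Subgroup.centralizer ({x} : Set G)).index = p ^ k

/-- An abelian p-complement exists. -/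
def AbCompl (p : ℕ) (G : Type u) [Group G] : Prop :=
  ∃ H : Subgroup G, IsMulCommutative H ∧ ¬ p ∣ Nat.card H ∧ ∃ k : ℕ, H.index = p ^ k

variable {p : ℕ}

theorem relIndex_dvd_index {G : Type u} [Group G] [Finite G] (C N : Subgroup G) [N.Normal] :
    C.relIndex N ∣ C.index := by
  have h1 : C.relIndex N * N.relIndex (C ⊔ N) = N.relIndex C * C.relIndex (C ⊔ N) := by
    have a := Subgroup.relIndex_mul_relIndex (C ⊓ N) N (C ⊔ N) inf_le_right le_sup_right
    have b := Subgroup.relIndex_mul_relIndex (C ⊓ N) C (C ⊔ N) inf_le_left le_sup_left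
    rw [Subgroup.inf_relIndex_right] at a
    rw [Subgroup.inf_relIndex_left] at b
    rw [a, b]
  rw [Subgroup.relIndex_sup_right] at h1
  have h2 : C.relIndex N = C.relIndex (C ⊔ N) := by
    refine Nat.eq_of_mul_eq_mul_right (Nat.pos_of_ne_zero ?_) (h1.trans (mul_comm _ _))
    exact Subgroup.index_ne_zero_of_finite
  exact h2 ▸ Dvd.intro _ (Subgroup.relIndex_mul_index le_sup_left)

theorem Reg.normal {G : Type u} [Group G] [Finite G] (hp : p.Prime) (h : Reg p G) (N : Subgroup G)
    [N.Normal] : Reg p N := by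
  intro x hx
  obtain ⟨k, hk⟩ := h x (by rwa [Subgroup.orderOf_coe])
  have he : Subgroup.centralizer ({x} : Set N) =
      (Subgroup.centralizer ({(x : G)} : Set G)).subgroupOf N := by
    ext y
    simp [Subgroup.mem_subgroupOf, Subgroup.mem_centralizer_singleton_iff, Subtype.ext_iff]
  obtain ⟨j, -, hj⟩ := (Nat.dvd_prime_pow hp).1
    (hk ▸ relIndex_dvd_index (Subgroup.centralizer ({(x : G)} : Set G)) N)
  exact ⟨j, by rw [he]; exact hj⟩

theorem Reg.quotient {G : Type u} [Group G] [Finite G] (hp : p.Prime) (h : Reg p G) (N : Subgroup G)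
    [N.Normal] : Reg p (G ⧸ N) := by
  intro x hx
  obtain ⟨g, rfl⟩ := QuotientGroup.mk'_surjective N x
  obtain ⟨a, m, hm, he⟩ := Nat.exists_eq_pow_mul_and_not_dvd (orderOf_pos g).ne' p hp.ne_one
  obtain ⟨j, hj⟩ : ∃ j : ℕ, (QuotientGroup.mk' N g) ^ (p ^ a * j) = QuotientGroup.mk' N g := by
    rcases eq_or_ne (orderOf (QuotientGroup.mk' N g)) 1 with h1 | h1
    · exact ⟨0, by rw [orderOf_eq_one_iff] at h1; rw [h1, one_pow]⟩
    · obtain ⟨j, hj⟩ := Nat.exists_mul_mod_eq_one_of_coprime
        (hx.symm.pow_left a) (Nat.lt_of_le_of_ne (orderOf_pos _) (Ne.symm h1))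
      refine ⟨j, ?_⟩
      rw [← pow_mod_orderOf, hj.2, pow_one]
  have hco : (orderOf (g ^ (p ^ a * j))).Coprime p := by
    refine Nat.Coprime.coprime_dvd_left ?_ ((hp.coprime_iff_not_dvd.2 hm).symm)
    rw [orderOf_dvd_iff_pow_eq_one, ← pow_mul, mul_right_comm, ← he, pow_mul, pow_orderOf_eq_one,
      one_pow]
  obtain ⟨k, hk⟩ := h _ hco
  rw [← map_pow] at hj
  have hd : (Subgroup.centralizer ({QuotientGroup.mk' N g} : Set (G ⧸ N))).index ∣ p ^ k := by
    refine (Subgroup.index_dvd_of_le ?_).trans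
      (hk ▸ Subgroup.index_map_dvd (H := Subgroup.centralizer ({g ^ (p ^ a * j)} : Set G))
        (QuotientGroup.mk'_surjective N))
    rintro _ ⟨y, hy, rfl⟩
    rw [← hj, Subgroup.mem_centralizer_singleton_iff, ← map_mul, ← map_mul,
      Subgroup.mem_centralizer_singleton_iff.1 hy]
  obtain ⟨i, -, hi⟩ := (Nat.dvd_prime_pow hp).1 hd
  exact ⟨i, hi⟩

theorem AbCompl.normal {G : Type u} [Group G] [Finite G] (hp : p.Prime) (h : AbCompl p G)
    (N : Subgroup G) [N.Normal] : AbCompl p N := by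
  obtain ⟨H, hab, hd, k, hk⟩ := h
  refine ⟨H.subgroupOf N, ?_, fun h2 => hd (h2.trans ?_), ?_⟩
  · exact CfsgLib.Solvable.isMulCommutative_subgroupOf H N
  · rw [← CfsgLib.Solvable.card_map_subtype (H.subgroupOf N), Subgroup.subgroupOf_map_subtype]
    exact Subgroup.card_dvd_of_le inf_le_left
  · obtain ⟨j, -, hj⟩ := (Nat.dvd_prime_pow hp).1 (hk ▸ relIndex_dvd_index H N)
    exact ⟨j, hj⟩

theorem AbCompl.quotient {G : Type u} [Group G] [Finite G] (hp : p.Prime) (h : AbCompl p G)
    (N : Subgroup G) [N.Normal] : AbCompl p (G ⧸ N) := by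
  obtain ⟨H, hab, hd, k, hk⟩ := h
  refine ⟨H.map (QuotientGroup.mk' N), inferInstance, fun h2 => hd (h2.trans ?_), ?_⟩
  · exact CfsgLib.Solvable.card_map_mk'_dvd N H
  · obtain ⟨j, -, hj⟩ := (Nat.dvd_prime_pow hp).1
      (hk ▸ Subgroup.index_map_dvd (H := H) (QuotientGroup.mk'_surjective N))
    exact ⟨j, hj⟩

/-- A property inherited by normal subgroups and quotients, forcing a class of prime power size in a simple
group which is not a p-group, forces solvability. -/
theorem isSolvable_of_prop (hp : p.Prime) (P : ∀ (G : Type u) [Group G], Prop)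
    (hN : ∀ (G : Type u) [Group G] [Finite G], P G → ∀ (N : Subgroup G) [N.Normal], P N)
    (hQ : ∀ (G : Type u) [Group G] [Finite G], P G → ∀ (N : Subgroup G) [N.Normal], P (G ⧸ N))
    (hS : ∀ (G : Type u) [Group G] [Finite G], P G → IsSimpleGroup G → IsPGroup p G ∨
      ∃ (g : G) (k : ℕ), g ≠ 1 ∧ (Subgroup.centralizer ({g} : Set G)).index = p ^ k) :
    ∀ (n : ℕ) (G : Type u) [Group G] [Finite G], Nat.card G = n → P G → Group.IsSolvable G := by
  intro n
  induction n using Nat.strong_induction_on with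
  | _ n ih =>
    intro G _ _ hn hG
    by_cases hNex : ∃ N : Subgroup G, N.Normal ∧ N ≠ ⊥ ∧ N ≠ ⊤
    · obtain ⟨N, hNn, hN1, hN2⟩ := hNex
      haveI := ih _ (hn ▸ CfsgLib.Solvable.card_subgroup_lt hN2) N rfl (hN G hG N)
      haveI := ih _ (hn ▸ CfsgLib.Solvable.card_quotient_lt hN1) (G ⧸ N) rfl (hQ G hG N)
      exact Group.isSolvable_of_ker_le_range N.subtype (QuotientGroup.mk' N) (by simp)
    rcases subsingleton_or_nontrivial G with hs | hs
    · exact Group.isSolvable_of_comm fun x y => Subsingleton.elim _ _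
    have hsimp : IsSimpleGroup G := ⟨fun H hH => by
      by_contra hc; push Not at hc; exact hNex ⟨H, hH, hc⟩⟩
    rcases hS G hG hsimp with h | ⟨g, k, hg, hk⟩
    · haveI : Fact p.Prime := ⟨hp⟩
      haveI := h.isNilpotent
      infer_instance
    · haveI : Fact (Nat.card G).Prime := ⟨CfsgLib.Char.burnside_class_prime_power p k hp g hg hk⟩
      haveI : IsCyclic G := isCyclic_of_prime_card rfl
      exact Group.isSolvable_of_comm fun x y => IsCyclic.commGroup.mul_comm x y

theorem Reg.isSolvable {G : Type u} [Group G] [Finite G] (hp : p.Prime) (h : Reg p G) :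
    Group.IsSolvable G := by
  refine isSolvable_of_prop hp (fun G _ => Reg p G) (fun G _ _ h N _ => h.normal hp N)
    (fun G _ _ h N _ => h.quotient hp N) (fun G _ _ h _ => ?_) _ G rfl h
  by_cases hg : ∃ g : G, g ≠ 1 ∧ (orderOf g).Coprime p
  · obtain ⟨g, hg1, hg2⟩ := hg
    obtain ⟨k, hk⟩ := h g hg2
    exact Or.inr ⟨g, k, hg1, hk⟩
  · refine Or.inl (IsPGroup.of_card (n := (Nat.card G).factorization p) ?_)
    by_contra hne
    obtain ⟨r, hr, hrd, hrp⟩ : ∃ r : ℕ, r.Prime ∧ r ∣ Nat.card G ∧ r ≠ p := by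
      by_contra hall
      push Not at hall
      obtain ⟨j, hj⟩ : ∃ j, Nat.card G = p ^ j :=
        ⟨_, Nat.eq_prime_pow_of_unique_prime_dvd Nat.card_pos.ne' fun {r} hr hd => hall r hr hd⟩
      exact hne (by rw [hj, hp.factorization_pow, Finsupp.single_eq_same])
    haveI : Fact r.Prime := ⟨hr⟩
    obtain ⟨g, hg'⟩ := exists_prime_orderOf_dvd_card' r hrd
    refine hg ⟨g, fun h1 => hr.ne_one ?_, ?_⟩
    · rw [← hg', h1, orderOf_one]
    · rw [hg']; exact (Nat.coprime_primes hr hp).2 hrp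

theorem AbCompl.isSolvable {G : Type u} [Group G] [Finite G] (hp : p.Prime) (h : AbCompl p G) :
    Group.IsSolvable G := by
  refine isSolvable_of_prop hp (fun G _ => AbCompl p G) (fun G _ _ h N _ => h.normal hp N)
    (fun G _ _ h N _ => h.quotient hp N) (fun G _ _ h _ => ?_) _ G rfl h
  obtain ⟨H, hab, hd, k, hk⟩ := h
  by_cases hH : H = ⊥
  · subst hH
    rw [Subgroup.index_bot] at hk
    exact Or.inl (IsPGroup.of_card hk)
  · obtain ⟨g, hg, hg1⟩ := H.bot_or_exists_ne_one.resolve_left hH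
    have hle : H ≤ Subgroup.centralizer ({g} : Set G) := fun y hy => by
      rw [Subgroup.mem_centralizer_singleton_iff]
      exact setLike_mul_comm hy hg
    obtain ⟨j, -, hj⟩ := (Nat.dvd_prime_pow hp).1 (hk ▸ Subgroup.index_dvd_of_le hle)
    exact Or.inr ⟨g, j, hg1, hj⟩

/-- The Hall p'-subgroups are abelian when `O_p(G) = 1`. -/
theorem comm_of_core_bot {G : Type u} [Group G] [Finite G] [Fact p.Prime] (h : Reg p G)
    [Group.IsSolvable G] (hcore : Cfsg.pCore p G = ⊥) {H : Subgroup G} (hd : ¬ p ∣ Nat.card H)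
    {k : ℕ} (hk : H.index = p ^ k) : IsMulCommutative H := by
  have hp : p.Prime := Fact.out
  have hG : Nat.card G = Nat.card H * p ^ k := by rw [← hk, Subgroup.card_mul_index]
  have hmn : (Nat.card H).Coprime (p ^ k) := ((hp.coprime_iff_not_dvd.2 hd).symm).pow_right k
  have key : ∀ x ∈ H, Cfsg.fittingSubgroup G ≤ Subgroup.centralizer ({x} : Set G) := by
    intro x hx
    rw [CfsgLib.Solvable.fittingSubgroup_eq_iSup_pCore]
    refine iSup_le fun q => ?_
    by_cases hqp : (q : ℕ) = p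
    · rw [hqp, hcore]; exact bot_le
    set N := Cfsg.pCore (q : ℕ) G
    haveI : Fact (q : ℕ).Prime := ⟨q.2⟩
    haveI : N.Normal := CfsgLib.Solvable.pCore_normal _ _
    have hxo : (orderOf x).Coprime p :=
      Nat.Coprime.coprime_dvd_left (Subgroup.orderOf_dvd_natCard H hx) (hp.coprime_iff_not_dvd.2 hd).symm
    obtain ⟨j, hj⟩ := h x hxo
    set C := Subgroup.centralizer ({x} : Set G)
    -- a Hall subgroup of `G` inside `C`
    have hCG := C.card_mul_index
    rw [hj, hG] at hCG
    have hdvd : Nat.card H ∣ Nat.card C :=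
      Nat.Coprime.dvd_of_dvd_mul_right (((hp.coprime_iff_not_dvd.2 hd).symm).pow_right j)
        (hCG ▸ dvd_mul_right _ _)
    obtain ⟨e, he⟩ := hdvd
    have hek : e ∣ p ^ k := by
      refine Nat.dvd_of_mul_dvd_mul_left (Nat.card_pos (α := H)) ?_
      rw [← he, ← hCG]; exact dvd_mul_right _ _
    haveI : Group.IsSolvable C := inferInstance
    obtain ⟨K, hK⟩ := CfsgLib.Solvable.exists_hall (G := C) he (hmn.coprime_dvd_right hek)
    set K' := K.map C.subtype
    have hKc : Nat.card K' = Nat.card H := by rw [CfsgLib.Solvable.card_map_subtype, hK]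
    obtain ⟨i, hi⟩ := IsPGroup.iff_card.1 (CfsgLib.Solvable.pCore_isPGroup (G := G) (q : ℕ))
    have hsup : Nat.card (K' ⊔ N : Subgroup G) ∣ Nat.card H := by
      refine Nat.Coprime.dvd_of_dvd_mul_right ?_ (hG ▸ Subgroup.card_subgroup_dvd_card _)
      refine Nat.Coprime.coprime_dvd_left (CfsgLib.Solvable.card_sup_dvd K' N) ?_
      rw [hKc, hi]
      exact hmn.mul_left (Nat.Coprime.pow i k ((Nat.coprime_primes q.2 hp).2 hqp))
    have heq : K' = K' ⊔ N := CfsgLib.Solvable.eq_of_le_of_card_le le_sup_left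
      (by rw [hKc]; exact Nat.le_of_dvd Nat.card_pos hsup)
    calc N ≤ K' ⊔ N := le_sup_right
      _ = K' := heq.symm
      _ ≤ C := Subgroup.map_subtype_le K
  have hle : H ≤ Cfsg.fittingSubgroup G := fun x hx =>
    CfsgLib.Solvable.centralizer_fittingSubgroup_le
      (Subgroup.mem_centralizer_iff.2 fun f hf =>
        Subgroup.mem_centralizer_singleton_iff.1 (key x hx hf))
  exact ⟨⟨fun a b => Subtype.ext
    (Subgroup.mem_centralizer_singleton_iff.1 (key b b.2 (hle a.2)))⟩⟩

/-- Let G be a finite group and p a prime. Every conjugacy class of p-regular elements of G (elements of order prime to p) has p-power size if and only if G has an abelian p-complement, i.e. an abelian subgroup of order prime to p and p-power index. -/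
theorem result {G : Type*} [Group G] [Finite G] {p : ℕ} (hp : p.Prime) :
    (∀ x : G, (orderOf x).Coprime p → ∃ k : ℕ, (ConjClasses.mk x).carrier.ncard = p ^ k) ↔
    (∃ H : Subgroup G, IsMulCommutative H ∧ ¬ p ∣ Nat.card H ∧ ∃ k : ℕ, H.index = p ^ k) := by
  haveI : Fact p.Prime := ⟨hp⟩
  classical
  have := Fintype.ofFinite G
  have hconv : ∀ x : G, (ConjClasses.mk x).carrier.ncard = (Subgroup.centralizer ({x} : Set G)).index :=
    fun x => (Nat.card_coe_set_eq _).symm.trans (CfsgLib.Char.natCard_carrier_eq_index x)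
  constructor
  · intro h
    have hR : Reg p G := fun x hx => by simpa [hconv] using h x hx
    haveI := hR.isSolvable hp
    obtain ⟨a, m, hm, he⟩ := Nat.exists_eq_pow_mul_and_not_dvd (Nat.card_pos (α := G)).ne' p hp.ne_one
    have hcop : m.Coprime (p ^ a) := ((hp.coprime_iff_not_dvd.2 hm).symm).pow_right a
    obtain ⟨H, hH⟩ := CfsgLib.Solvable.exists_hall (G := G) (he.trans (mul_comm _ _)) hcop
    have hi : H.index = p ^ a := by
      have := H.card_mul_index
      rw [hH, he, mul_comm (p ^ a)] at this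
      exact Nat.eq_of_mul_eq_mul_left (Nat.pos_of_ne_zero fun h0 => hm (by rw [h0]; exact dvd_zero p)) this
    refine ⟨H, ?_, hH ▸ hm, a, hi⟩
    haveI := CfsgLib.Solvable.pCore_normal p G
    set N := Cfsg.pCore p G
    obtain ⟨k, -, hk⟩ := (Nat.dvd_prime_pow hp).1
      (hi ▸ Subgroup.index_map_dvd (H := H) (QuotientGroup.mk'_surjective N))
    have hab : IsMulCommutative (H.map (QuotientGroup.mk' N)) :=
      comm_of_core_bot (hR.quotient hp N) (CfsgLib.Solvable.pCore_quotient_eq_bot p)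
        (fun h2 => hm (hH ▸ h2.trans (CfsgLib.Solvable.card_map_mk'_dvd N H))) hk
    refine ⟨⟨fun x y => Subtype.ext ?_⟩⟩
    have h1 : (x : G)⁻¹ * ((y : G)⁻¹ * ((x : G) * y)) ∈ N := by
      rw [← QuotientGroup.eq_one_iff]
      have := setLike_mul_comm
        (Subgroup.mem_map_of_mem (QuotientGroup.mk' N) x.2) (Subgroup.mem_map_of_mem (QuotientGroup.mk' N) y.2)
      simp only [QuotientGroup.mk'_apply] at this
      simp only [QuotientGroup.mk_mul, QuotientGroup.mk_inv, this]
      group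
    have h2 : (x : G)⁻¹ * ((y : G)⁻¹ * ((x : G) * y)) = 1 := by
      obtain ⟨i, hi'⟩ := IsPGroup.iff_card.1 (CfsgLib.Solvable.pCore_isPGroup (G := G) p)
      have hdis : Disjoint H N := disjoint_iff.2 (Subgroup.inf_eq_bot_of_coprime (by
        rw [hH, hi']; exact ((hp.coprime_iff_not_dvd.2 hm).symm).pow_right i))
      exact Subgroup.disjoint_def.1 hdis
        (H.mul_mem (H.inv_mem x.2) (H.mul_mem (H.inv_mem y.2) (H.mul_mem x.2 y.2))) h1
    have h3 : (x : G) * y = y * x := by
      rw [inv_mul_eq_one] at h2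
      conv_rhs => rw [h2]
      group
    exact h3
  · rintro ⟨H, hab, hd, k, hk⟩ x hx
    haveI := (⟨H, hab, hd, k, hk⟩ : AbCompl p G)
    haveI := AbCompl.isSolvable hp (⟨H, hab, hd, k, hk⟩ : AbCompl p G)
    obtain ⟨g, hg⟩ := CfsgLib.Solvable.exists_conj_le_hall (G := G) (m := Nat.card H) (n := p ^ k)
      (by rw [← hk, Subgroup.card_mul_index]) (((hp.coprime_iff_not_dvd.2 hd).symm).pow_right k)
      rfl (K := Subgroup.zpowers x) (by rw [Nat.card_zpowers]; exact hx.pow_right k)
    have hy : g * x * g⁻¹ ∈ H := hg (by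
      rw [CfsgLib.Solvable.mem_conj_smul]
      have : g⁻¹ * (g * x * g⁻¹) * g = x := by group
      rw [this]; exact Subgroup.mem_zpowers x)
    have hle : H ≤ Subgroup.centralizer ({g * x * g⁻¹} : Set G) := fun z hz => by
      rw [Subgroup.mem_centralizer_singleton_iff]
      exact setLike_mul_comm hz hy
    obtain ⟨j, -, hj⟩ := (Nat.dvd_prime_pow hp).1 (hk ▸ Subgroup.index_dvd_of_le hle)
    refine ⟨j, ?_⟩
    rw [ConjClasses.mk_eq_mk_iff_isConj.2 (isConj_iff.2 ⟨g, rfl⟩ : IsConj x (g * x * g⁻¹)), hconv]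
    exact hj

end Cfsg.Agent.S4034
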