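import Cfsg.Statements.S1181
import Cfsg.Agent.Lib.Invol.Isolated

set_option autoImplicit false
open Cfsg

namespace Cfsg.Agent.S1181

/-- Let z be an isolated involution of the finite group G and N a normal subgroup with z ∉ N. Then the centralizer of zN in G/N is the image of C_G(z), and zN is an isolated involution of G/N. -/
theorem result {G : Type*} [Group G] [Finite G] (z : G) (hz : Cfsg.IsIsolatedInvolution z) (N : Subgroup G) [N.Normal] (hzN : z ∉ N) : Subgroup.centralizer ({(QuotientGroup.mk z : G ⧸ N)} : Set (G ⧸ N)) = (Subgroup.centralizer ({z} : Set G)).map (QuotientGroup.mk' N) ∧ Cfsg.IsIsolatedInvolution (QuotientGroup.mk z : G ⧸ N) := by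
  have hcoe : (QuotientGroup.mk z : G ⧸ N) ≠ 1 := by rwa [Ne, QuotientGroup.eq_one_iff]
  have hzo : orderOf (QuotientGroup.mk z : G ⧸ N) = 2 :=
    CfsgLib.Invol.invol_of_mul_self (by rw [← QuotientGroup.mk_mul,
      CfsgLib.Invol.invol_mul_self hz.1, QuotientGroup.mk_one]) hcoe
  -- a conjugate of `z` commuting with `z` modulo `N` is congruent to `z` modulo `N`
  have key : ∀ g : G, Commute (QuotientGroup.mk z : G ⧸ N) (QuotientGroup.mk (g * z * g⁻¹)) →
      z * (g * z * g⁻¹) ∈ N := by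
    intro g hc
    set v := g * z * g⁻¹
    have hvo : orderOf v = 2 := by rw [CfsgLib.Invol.orderOf_conj_eq, hz.1]
    rw [← QuotientGroup.eq_one_iff]
    refine CfsgLib.Invol.eq_one_of_sq_of_odd ?_ ((CfsgLib.Invol.isolated_odd_mul_conj hz g).of_dvd_nat
      (orderOf_map_dvd (QuotientGroup.mk' N) _))
    have e : ((z * v : G) : G ⧸ N) * ((z * v : G) : G ⧸ N) =
        ((z * z : G) : G ⧸ N) * ((v * v : G) : G ⧸ N) := by
      simp only [QuotientGroup.mk_mul]
      rw [mul_assoc, ← mul_assoc (v : G ⧸ N), ← hc.eq]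
      simp [mul_assoc]
    rw [e, CfsgLib.Invol.invol_mul_self hz.1, CfsgLib.Invol.invol_mul_self hvo]
    simp
  refine ⟨le_antisymm ?_ ?_, hzo, ?_⟩
  · intro q hq
    obtain ⟨g, rfl⟩ := QuotientGroup.mk_surjective q
    rw [Subgroup.mem_centralizer_singleton_iff] at hq
    have hc : Commute (QuotientGroup.mk z : G ⧸ N) (QuotientGroup.mk (g * z * g⁻¹)) := by
      simp only [QuotientGroup.mk_mul, QuotientGroup.mk_inv]
      rw [hq, mul_inv_cancel_right]
    obtain ⟨d, hd, hdz⟩ := CfsgLib.Invol.isolated_exists_conj' hz g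
    have hdN : d ∈ N := Subgroup.zpowers_le.2 (key g hc) hd
    refine ⟨d⁻¹ * g, ?_, ?_⟩
    · rw [SetLike.mem_coe, Subgroup.mem_centralizer_singleton_iff]
      calc d⁻¹ * g * z = d⁻¹ * (g * z * g⁻¹) * g := by group
        _ = d⁻¹ * (d * z * d⁻¹) * g := by rw [hdz]
        _ = _ := by group
    · rw [QuotientGroup.mk'_apply, QuotientGroup.mk_mul, QuotientGroup.mk_inv,
        (QuotientGroup.eq_one_iff d).2 hdN, inv_one, one_mul]
  · rintro _ ⟨g, hg, rfl⟩
    rw [SetLike.mem_coe, Subgroup.mem_centralizer_singleton_iff] at hg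
    rw [Subgroup.mem_centralizer_singleton_iff, QuotientGroup.mk'_apply,
      ← QuotientGroup.mk_mul, hg, QuotientGroup.mk_mul]
  · intro q hq
    obtain ⟨g, rfl⟩ := QuotientGroup.mk_surjective q
    simp only [← QuotientGroup.mk_inv, ← QuotientGroup.mk_mul] at hq ⊢
    have h := key g hq
    symm
    rw [QuotientGroup.eq, CfsgLib.Invol.invol_inv hz.1]
    exact h

end Cfsg.Agent.S1181
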