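import Cfsg.Statements.S2279
import Cfsg.Agent.Lib.Geom.RegUnipFive
import Cfsg.Agent.Lib.Geom.RegUnipLarge
import Cfsg.Agent.Lib.Geom.RegUnipCert

set_option autoImplicit false
open Cfsg

namespace Cfsg.Agent.S2279

/-- Let F be a finite field with q elements and n ≥ 4. Then SL_n(F) is generated by two regular unipotent elements (elements u with u − 1 nilpotent and (u − 1)^(n−1) ≠ 0); if q is prime, the two can be taken conjugate in SL_n(F). -/
theorem result {F : Type*} [Field F] [Fintype F] (n : ℕ) (hn : 4 ≤ n) :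
    (∃ u v : Matrix.SpecialLinearGroup (Fin n) F, (IsNilpotent ((u : Matrix (Fin n) (Fin n) F) - 1) ∧ ((u : Matrix (Fin n) (Fin n) F) - 1) ^ (n - 1) ≠ 0) ∧ (IsNilpotent ((v : Matrix (Fin n) (Fin n) F) - 1) ∧ ((v : Matrix (Fin n) (Fin n) F) - 1) ^ (n - 1) ≠ 0) ∧
      Subgroup.closure ({u, v} : Set (Matrix.SpecialLinearGroup (Fin n) F)) = ⊤) ∧
    ((Fintype.card F).Prime → ∃ u g : Matrix.SpecialLinearGroup (Fin n) F, (IsNilpotent ((u : Matrix (Fin n) (Fin n) F) - 1) ∧ ((u : Matrix (Fin n) (Fin n) F) - 1) ^ (n - 1) ≠ 0) ∧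
      Subgroup.closure ({u, g * u * g⁻¹} : Set (Matrix.SpecialLinearGroup (Fin n) F)) = ⊤) := by
  have hprime : (Fintype.card F).Prime → CfsgLib.Geom.RuGoodConj F n := by
    intro hp
    rcases (show n = 4 ∨ n = 5 ∨ 6 ≤ n by omega) with rfl | rfl | h6
    · by_cases h3 : Fintype.card F = 3
      · exact CfsgLib.Geom.ru_goodConj_four_three h3
      · exact CfsgLib.Geom.ru_goodConj_four hp h3
    · by_cases h2 : Fintype.card F = 2
      · exact CfsgLib.Geom.ru_goodConj_five_two h2
      · exact CfsgLib.Geom.ru_goodConj_five hp h2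
    · exact CfsgLib.Geom.ru_goodConj_large h6 hp
  refine ⟨?_, fun hp => ?_⟩
  · by_cases hp : (Fintype.card F).Prime
    · obtain ⟨u, v, h1, h2, h3⟩ := (hprime hp).good
      exact ⟨u, v, h1, h2, h3⟩
    · rcases (show n = 4 ∨ n = 5 ∨ 6 ≤ n by omega) with rfl | rfl | h6
      · obtain ⟨u, v, h1, h2, h3⟩ := CfsgLib.Geom.ru_good_four hp
        exact ⟨u, v, h1, h2, h3⟩
      · have hcard : Fintype.card F = 4 ∨ 8 ≤ Fintype.card F := by
          obtain ⟨p, hc⟩ := CharP.exists F
          obtain ⟨m, hpp, hq⟩ := FiniteField.card F p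
          have h1 : 2 ≤ Fintype.card F := Fintype.one_lt_card
          by_contra hcon
          push Not at hcon
          obtain ⟨h4, h8⟩ := hcon
          interval_cases hf : Fintype.card F <;> first | omega | (norm_num at hp; done) | skip
          -- six is not a prime power
          have hd : (2 : ℕ) ∣ p ^ (m : ℕ) := ⟨3, by omega⟩
          have hd' : (3 : ℕ) ∣ p ^ (m : ℕ) := ⟨2, by omega⟩
          have e2 := (Nat.prime_dvd_prime_iff_eq Nat.prime_two hpp).1 (Nat.prime_two.dvd_of_dvd_pow hd)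
          have e3 := (Nat.prime_dvd_prime_iff_eq Nat.prime_three hpp).1
            (Nat.prime_three.dvd_of_dvd_pow hd')
          omega
        rcases hcard with h4 | h8
        · obtain ⟨u, v, h1, h2, h3⟩ := CfsgLib.Geom.ru_good_five_four h4
          exact ⟨u, v, h1, h2, h3⟩
        · obtain ⟨u, v, h1, h2, h3⟩ := CfsgLib.Geom.ru_good_five_large h8
          exact ⟨u, v, h1, h2, h3⟩
      · obtain ⟨u, v, h1, h2, h3⟩ := CfsgLib.Geom.ru_good_large h6 hp
        exact ⟨u, v, h1, h2, h3⟩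
  · obtain ⟨u, g, h1, -, h3⟩ := hprime hp
    exact ⟨u, g, h1, h3⟩

end Cfsg.Agent.S2279
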