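import Cfsg.Statements.S0281
import Cfsg.Agent.Lib.KnownB.UnitaryEmbed
import Cfsg.Agent.Lib.Classical.SLOrder
import Cfsg.Agent.S0278

set_option autoImplicit false
open Cfsg

namespace Cfsg.Agent.S0281

/-- SU_2(q) is isomorphic to SL_2(q). -/
theorem result {F K : Type*} [Field F] [Fintype F] [Field K] [Fintype K] {q : ℕ} (hF : Fintype.card F = q ^ 2) (hK : Fintype.card K = q) : Nonempty (Cfsg.SU 2 F q ≃* Matrix.SpecialLinearGroup (Fin 2) K) := by
  classical
  obtain ⟨F₀, hge, φ, hφ⟩ := CfsgLib.KnownB.exists_sl2SU (n := 2) le_rfl hF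
  have hq2 : 2 ≤ q := hK ▸ Fintype.one_lt_card
  have hsu : Nat.card (Cfsg.SU 2 F q) = q * (q ^ 2 - 1) := by
    have h := Cfsg.Agent.S0278.result hF 2 (by norm_num)
    simp [Finset.prod_range_succ] at h
    refine Nat.eq_of_mul_eq_mul_left (show 0 < q + 1 by omega) ?_
    rw [Nat.card_eq_fintype_card, h]; ring
  have hsl : ∀ (L : Type _) [Field L] [Fintype L],
      Nat.card (Matrix.SpecialLinearGroup (Fin 2) L) = Fintype.card L * (Fintype.card L ^ 2 - 1) := by
    intro L _ _
    have h := CfsgLib.Classical.card_sl_mul (F := L) (n := 2) (by norm_num)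
    rw [Fin.prod_univ_two] at h
    simp only [Fin.val_zero, Fin.val_one, pow_zero, pow_one] at h
    have h1 : 1 < Fintype.card L := Fintype.one_lt_card
    refine Nat.eq_of_mul_eq_mul_left (show 0 < Fintype.card L - 1 by omega) (h.trans ?_)
    rw [sq, show Fintype.card L * Fintype.card L - Fintype.card L = Fintype.card L * (Fintype.card L - 1) from
      (Nat.mul_sub_one _ _).symm]
    ring
  let _ : Fintype F₀ := Fintype.ofFinite F₀
  have hcK : Fintype.card F₀ = q := by
    have h1 := Nat.card_le_card_of_injective φ hφ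
    rw [hsu, hsl] at h1
    rw [Nat.card_eq_fintype_card] at hge
    have h2 : 1 < Fintype.card F₀ := Fintype.one_lt_card
    have hle : Fintype.card F₀ ≤ q := by
      by_contra hlt
      have h3 : q ^ 2 - 1 < Fintype.card F₀ ^ 2 - 1 := by
        have := Nat.pow_lt_pow_left (Nat.lt_of_not_le hlt) (two_ne_zero)
        have : 1 ≤ q ^ 2 := Nat.one_le_pow _ _ (by omega)
        omega
      exact absurd h1 (Nat.not_le.2 (Nat.mul_lt_mul_of_lt_of_lt (Nat.lt_of_not_le hlt) h3))
    have hdvd : Fintype.card F₀ ∣ q ^ 2 := by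
      rw [← hF, Module.card_eq_pow_finrank (K := F₀) (V := F)]
      exact dvd_pow_self _ Module.finrank_pos.ne'
    by_contra hne
    have he : Fintype.card F₀ + 1 = q := by omega
    rw [← he] at hdvd
    have h3 := (Nat.Coprime.pow_right 2 (Nat.coprime_self_add_right.2 (Nat.coprime_one_right _))).eq_one_of_dvd hdvd
    omega
  have e : K ≃+* F₀ := FiniteField.ringEquivOfCardEq (hK.trans hcK.symm)
  have hcard : Nat.card (Matrix.SpecialLinearGroup (Fin 2) F₀) = Nat.card (Cfsg.SU 2 F q) := by
    rw [hsu, hsl, hcK]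
  exact ⟨(MulEquiv.ofBijective φ ((Nat.bijective_iff_injective_and_card φ).2 ⟨hφ, hcard⟩)).symm.trans
    ({ Matrix.SpecialLinearGroup.map (n := Fin 2) (e.symm : F₀ →+* K) with
      invFun := Matrix.SpecialLinearGroup.map (e : K →+* F₀)
      left_inv := fun A => Subtype.ext (Matrix.ext fun i j => e.apply_symm_apply (A.1 i j))
      right_inv := fun A => Subtype.ext (Matrix.ext fun i j => e.symm_apply_apply (A.1 i j)) } :
      Matrix.SpecialLinearGroup (Fin 2) F₀ ≃* Matrix.SpecialLinearGroup (Fin 2) K)⟩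

end Cfsg.Agent.S0281
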