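import Cfsg.Statements.S1447
import Cfsg.Agent.Lib.OddLocal.MetacyclicCoprime
import Cfsg.Agent.Lib.Solvable.Nilpotent

set_option autoImplicit false
open Cfsg
open scoped commutatorElement

namespace Cfsg.Agent.S1447

open Subgroup in
theorem isCyclic_of_zpowers_subgroup {G : Type*} [Group G] [Finite G] {p : ℕ} [Fact p.Prime] (hp : p ≠ 2)
    {X : Subgroup G} (hX : IsPGroup p X) {z : G} (hzX : z ∈ X) (hzp : z ^ p = 1) (hz1 : z ≠ 1)
    (h : ∀ y ∈ X, y ^ p = 1 → y ∈ zpowers z) : IsCyclic X := by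
  refine CfsgLib.Transfer.isCyclic_of_card_omega_one_le hp hX ?_
  calc Nat.card (closure {x : X | x ^ p = 1}) ≤ Nat.card (zpowers (⟨z, hzX⟩ : X)) := by
        refine Nat.le_of_dvd Nat.card_pos (card_dvd_of_le ((closure_le _).2 fun x hx => ?_))
        obtain ⟨i, hi⟩ := h x x.2 (congrArg Subtype.val hx)
        exact ⟨i, Subtype.ext (by simpa using hi)⟩
    _ = p := by
        rw [Nat.card_zpowers, ← Subgroup.orderOf_coe, orderOf_eq_prime hzp hz1]

open Subgroup in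
theorem exists_central_prime {G : Type*} [Group G] [Finite G] {p : ℕ} [Fact p.Prime]
    {X N : Subgroup G} (hX : IsPGroup p X) (hN : N ≤ X) (hXN : X ≤ normalizer (N : Set G)) (h1 : N ≠ ⊥) :
    ∃ z ∈ N, z ^ p = 1 ∧ z ≠ 1 ∧ ∀ x ∈ X, x * z = z * x := by
  haveI : Group.IsNilpotent X := hX.isNilpotent
  haveI : (N.subgroupOf X).Normal := CfsgLib.Coprime.normal_subgroupOf_of_le_normalizer hXN
  haveI : Nontrivial (N.subgroupOf X) := by
    rw [← Finite.one_lt_card_iff_nontrivial, CfsgLib.Coprime.card_subgroupOf hN]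
    exact (one_lt_card_iff_ne_bot N).2 h1
  have hne : center X ⊓ N.subgroupOf X ≠ ⊥ := by
    rw [inf_comm]
    exact CfsgLib.Solvable.normal_inf_center_ne_bot (N.subgroupOf X) (nontrivial_iff_ne_bot _ |>.1 ‹_›)
  set K := center X ⊓ N.subgroupOf X
  have hK : IsPGroup p K := hX.to_subgroup K
  obtain ⟨k, hk⟩ := IsPGroup.iff_card.1 hK
  have hk0 : k ≠ 0 := fun h => hne (eq_bot_of_card_eq _ (by rw [hk, h, pow_zero]))
  obtain ⟨z, hz⟩ := exists_prime_orderOf_dvd_card' (G := K) p (hk ▸ dvd_pow_self p hk0)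
  refine ⟨z.1.1, z.2.2, ?_, ?_, fun x hx => congrArg Subtype.val (mem_center_iff.1 z.2.1 ⟨x, hx⟩)⟩
  · have := pow_orderOf_eq_one z
    rw [hz] at this
    simpa using congrArg (fun t : K => t.1.1) this
  · intro h
    have : z = 1 := Subtype.ext (Subtype.ext h)
    rw [this, orderOf_one] at hz
    exact (Fact.out : p.Prime).ne_one hz.symm


/-- Let G be a finite group, p an odd prime, R a metacyclic p-subgroup and A a subgroup of order coprime to p normalizing R. Then [R, A] is abelian; R is generated by [R, A] and R ∩ C_G(A), which meet trivially; and if R is non-abelian and A does not centralize R, then [R, A] and R ∩ C_G(A) are nontrivial cyclic groups and [R, R] ≤ [R, A]. -/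
theorem result {G : Type*} [Group G] [Finite G] (p : ℕ) [Fact p.Prime] (hp : p ≠ 2) (R A : Subgroup G) (hR : IsPGroup p R) (hRm : Cfsg.IsMetacyclic R)
    (hA : (A ≤ Subgroup.normalizer (R : Set G))) (hcop : (Nat.card A).Coprime p) :
    IsMulCommutative ↥⁅R, A⁆ ∧ ⁅R, A⁆ ⊔ (R ⊓ Subgroup.centralizer (A : Set G)) = R ∧ ⁅R, A⁆ ⊓ (R ⊓ Subgroup.centralizer (A : Set G)) = ⊥ ∧
      (¬ IsMulCommutative R → ¬ A ≤ Subgroup.centralizer (R : Set G) →
        ⁅R, A⁆ ≠ ⊥ ∧ IsCyclic ↥⁅R, A⁆ ∧ (R ⊓ Subgroup.centralizer (A : Set G)) ≠ ⊥ ∧ IsCyclic ↥(R ⊓ Subgroup.centralizer (A : Set G)) ∧ ⁅R, R⁆ ≤ ⁅R, A⁆) := by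
  open Subgroup in
  have hpr := (Fact.out : p.Prime)
  have hcop' : (Nat.card A).Coprime (Nat.card R) := by
    obtain ⟨k, hk⟩ := IsPGroup.iff_card.1 hR
    rw [hk]; exact hcop.pow_right k
  haveI : Group.IsNilpotent R := hR.isNilpotent
  set P := ⁅R, A⁆ with hPdef
  set C := R ⊓ Subgroup.centralizer (A : Set G) with hCdef
  have hP : IsMulCommutative P := CfsgLib.OddLocal.isMulCommutative_commutator_of_metacyclic hp hR hRm hA hcop'
  have hPR : P ≤ R := Subgroup.le_normalizer_iff_commutator_le_left.mp hA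
  have hsup : P ⊔ C = R := CfsgLib.Coprime.commutator_sup_centralizer hA hcop' (Or.inr inferInstance)
  have hPA : A ≤ Subgroup.normalizer (P : Set G) := Subgroup.normalizer_commutator_ge_right R A
  have hRP : R ≤ Subgroup.normalizer (P : Set G) := Subgroup.normalizer_commutator_ge_left R A
  have hinf : P ⊓ C = ⊥ := by
    have h1 := CfsgLib.Coprime.commutator_inf_centralizer_eq_bot hP hPA
      (hcop'.coprime_dvd_right (Subgroup.card_dvd_of_le hPR))
    rw [CfsgLib.Coprime.commutator_commutator_eq hA hcop' (Or.inr inferInstance)] at h1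
    exact eq_bot_iff.2 (h1 ▸ inf_le_inf_left _ inf_le_right)
  refine ⟨hP, hsup, hinf, fun hna hnc => ?_⟩
  have hPne : P ≠ ⊥ := fun h => hnc ((Subgroup.le_centralizer_iff.1
    (Subgroup.commutator_eq_bot_iff_le_centralizer.1 h)))
  have hCne : C ≠ ⊥ := fun h => hna (by rw [h, sup_bot_eq] at hsup; exact hsup ▸ hP)
  have hCR : C ≤ R := inf_le_left
  obtain ⟨z, hzP, hzp, hz1, hzc⟩ := exists_central_prime hR hPR hRP hPne
  obtain ⟨c0, hc0, hc0p, hc01, hc0c⟩ :=
    exists_central_prime (hR.to_le hCR) le_rfl Subgroup.le_normalizer hCne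
  have hc0P : c0 ∉ P := fun h => hc01 (by
    have : c0 ∈ P ⊓ C := ⟨h, hc0⟩
    rwa [hinf, Subgroup.mem_bot] at this)
  open scoped IsMulCommutative in
  have hPcomm : ∀ x ∈ P, ∀ y ∈ P, x * y = y * x := fun x hx y hy =>
    congrArg Subtype.val (mul_comm' (⟨x, hx⟩ : P) ⟨y, hy⟩)
  have hPc : IsCyclic P := by
    refine isCyclic_of_zpowers_subgroup hp (hR.to_le hPR) hzP hzp hz1 fun y hy hyp => ?_
    by_contra hyz
    let U : Subgroup G :=
      { carrier := {x | x ∈ P ∧ x ^ p = 1}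
        one_mem' := ⟨P.one_mem, one_pow p⟩
        mul_mem' := fun {a b} ha hb => ⟨P.mul_mem ha.1 hb.1, by
          rw [(Commute.mul_pow (hPcomm a ha.1 b hb.1) p), ha.2, hb.2, one_mul]⟩
        inv_mem' := fun {a} ha => ⟨P.inv_mem ha.1, by rw [inv_pow, ha.2, inv_one]⟩ }
    have hzU : Subgroup.zpowers z < U := by
      refine lt_of_le_of_ne (Subgroup.zpowers_le.2 ⟨hzP, hzp⟩) fun h => hyz ?_
      rw [h]; exact ⟨hy, hyp⟩
    have hU2 : p ^ 2 ≤ Nat.card U := by
      have h1 : Nat.card (Subgroup.zpowers z) = p := by rw [Nat.card_zpowers, orderOf_eq_prime hzp hz1]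
      obtain ⟨k, hk⟩ := IsPGroup.iff_card.1 ((hR.to_le hPR).to_le (fun x hx => hx.1 : U ≤ P))
      have h2 : Nat.card (Subgroup.zpowers z) < Nat.card U := by
        refine lt_of_le_of_ne (Nat.le_of_dvd Nat.card_pos (Subgroup.card_dvd_of_le hzU.le)) fun h => ?_
        exact hzU.ne (Subgroup.eq_of_le_of_card_ge hzU.le h.ge)
      rw [h1, hk] at h2
      rw [hk]
      refine Nat.pow_le_pow_right hpr.pos ?_
      by_contra hlt
      have : p ^ k ≤ p ^ 1 := Nat.pow_le_pow_right hpr.pos (by omega)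
      rw [pow_one] at this
      omega
    refine CfsgLib.OddLocal.false_of_metacyclic hp hR hRm (U := U) (fun x hx => hPR hx.1) (fun x hx => hx.2)
      (fun x hx y hy => hPcomm x hx.1 y hy.1) hU2 (hCR hc0) hc0p (fun h => hc0P h.1) ?_
    rw [Subgroup.mem_normalizer_iff]
    intro x
    have h1 := Subgroup.mem_normalizer_iff.1 (hRP (hCR hc0)) x
    constructor
    · rintro ⟨hx, hxp⟩
      exact ⟨h1.1 hx, by rw [conj_pow, hxp, mul_one, mul_inv_cancel]⟩
    · rintro ⟨hx, hxp⟩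
      exact ⟨h1.2 hx, by rwa [conj_pow, mul_inv_eq_one, mul_eq_left] at hxp⟩
  have hCc : IsCyclic C := by
    refine isCyclic_of_zpowers_subgroup hp (hR.to_le hCR) hc0 hc0p hc01 fun y hy hyp => ?_
    by_contra hyc
    set Z := Subgroup.zpowers z with hZ
    set Y := Subgroup.zpowers c0 with hY
    have hYZ : Y ≤ Subgroup.normalizer (Z : Set G) := by
      refine le_trans ?_ (Subgroup.centralizer_le_normalizer _)
      rw [hY, Subgroup.zpowers_le, Subgroup.mem_centralizer_iff]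
      rintro w ⟨i, rfl⟩
      exact ((show Commute z c0 from (hzc c0 (hCR hc0)).symm).zpow_left i).eq
    have hYZ1 : Y ⊓ Z = ⊥ := eq_bot_iff.2 fun w hw => by
      have : w ∈ P ⊓ C := ⟨Subgroup.zpowers_le.2 hzP hw.2, Subgroup.zpowers_le.2 hc0 hw.1⟩
      rwa [hinf] at this
    have hcard : Nat.card (Z ⊔ Y : Subgroup G) = p ^ 2 := by
      rw [CfsgLib.Coprime.card_sup_of_inf_eq_bot hYZ hYZ1, hZ, hY, Nat.card_zpowers, Nat.card_zpowers,
        orderOf_eq_prime hzp hz1, orderOf_eq_prime hc0p hc01, sq]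
    have hmem : ∀ w ∈ Z ⊔ Y, ∃ i j : ℤ, w = z ^ i * c0 ^ j := by
      intro w hw
      obtain ⟨_, ⟨i, rfl⟩, _, ⟨j, rfl⟩, rfl⟩ := (CfsgLib.Coprime.mem_sup_of_le_normalizer hYZ).1 hw
      exact ⟨i, j, rfl⟩
    have hzc0 : Commute z c0 := (hzc c0 (hCR hc0)).symm
    refine CfsgLib.OddLocal.false_of_metacyclic hp hR hRm (U := Z ⊔ Y) (y := y)
      (sup_le (Subgroup.zpowers_le.2 (hPR hzP)) (Subgroup.zpowers_le.2 (hCR hc0))) ?_ ?_ hcard.ge (hCR hy) hyp ?_ ?_
    · intro w hw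
      obtain ⟨i, j, rfl⟩ := hmem w hw
      rw [(hzc0.zpow_zpow i j).mul_pow, ← zpow_natCast, ← zpow_natCast, zpow_comm z, zpow_natCast, hzp,
        zpow_comm c0, zpow_natCast, hc0p, one_zpow, one_zpow, one_mul]
    · intro a ha b hb
      obtain ⟨i, j, rfl⟩ := hmem a ha
      obtain ⟨k, l, rfl⟩ := hmem b hb
      exact ((((Commute.refl z).zpow_zpow i k).mul_right (hzc0.zpow_zpow i l)).mul_left
        ((hzc0.symm.zpow_zpow j k).mul_right ((Commute.refl c0).zpow_zpow j l))).eq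
    · intro hmemy
      obtain ⟨i, j, hij⟩ := hmem y hmemy
      have hzi : z ^ i ∈ P ⊓ C := by
        refine ⟨P.zpow_mem hzP i, ?_⟩
        rw [show z ^ i = y * (c0 ^ j)⁻¹ by rw [hij, mul_inv_cancel_right]]
        exact C.mul_mem hy (C.inv_mem (C.zpow_mem hc0 j))
      rw [hinf, Subgroup.mem_bot] at hzi
      exact hyc ⟨j, by rw [hij, hzi, one_mul]⟩
    · refine Subgroup.centralizer_le_normalizer _ ?_
      rw [Subgroup.mem_centralizer_iff]
      intro w hw
      obtain ⟨i, j, rfl⟩ := hmem w hw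
      exact (((show Commute z y from (hzc y (hCR hy)).symm).zpow_left i).mul_left
        ((show Commute c0 y from (hc0c y hy).symm).zpow_left j)).eq
  refine ⟨hPne, hPc, hCne, hCc, ?_⟩
  obtain ⟨c, hc⟩ := hCc.exists_generator
  refine Subgroup.commutator_le.2 fun a ha b hb => ?_
  rw [← hsup] at ha hb
  obtain ⟨u, hu, v, hv, rfl⟩ := (CfsgLib.Coprime.mem_sup_of_le_normalizer (hCR.trans hRP)).1 ha
  obtain ⟨u', hu', v', hv', rfl⟩ := (CfsgLib.Coprime.mem_sup_of_le_normalizer (hCR.trans hRP)).1 hb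
  obtain ⟨i, hi⟩ := hc ⟨v, hv⟩
  obtain ⟨j, hj⟩ := hc ⟨v', hv'⟩
  have hvv : v * v' = v' * v := by
    have h1 : ((c ^ i : C) * c ^ j : C) = c ^ j * c ^ i := ((Commute.refl c).zpow_zpow i j).eq
    simp only at hi hj
    rw [hi, hj] at h1
    exact congrArg Subtype.val h1
  have hconj : ∀ t ∈ C, ∀ w ∈ P, t * w * t⁻¹ ∈ P := fun t ht w hw =>
    (Subgroup.mem_normalizer_iff.1 (hRP (hCR ht)) w).1 hw
  have hvv2 : v' * v⁻¹ = v⁻¹ * v' := by
    calc v' * v⁻¹ = v⁻¹ * (v * v') * v⁻¹ := by group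
      _ = v⁻¹ * (v' * v) * v⁻¹ := by rw [hvv]
      _ = v⁻¹ * v' := by group
  rw [show ⁅u * v, u' * v'⁆ = u * (v * u' * v⁻¹) * (v' * u⁻¹ * v'⁻¹) * u'⁻¹ by
      calc ⁅u * v, u' * v'⁆ = u * v * u' * (v' * v⁻¹) * u⁻¹ * v'⁻¹ * u'⁻¹ := by
            rw [commutatorElement_def]; group
        _ = _ := by rw [hvv2]; group]
  exact P.mul_mem (P.mul_mem (P.mul_mem hu (hconj v hv u' hu')) (hconj _ hv' _ (P.inv_mem hu))) (P.inv_mem hu')

end Cfsg.Agent.S1447
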