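import Cfsg.Statements.S3888
import Cfsg.Agent.Lib.Coprime.BlackburnFamilies

set_option autoImplicit false
open Cfsg

namespace Cfsg.Agent.S3888

/-- The classification of the p-groups of rank at most two for odd p. Let p be an odd prime and G a group of order p^n with no elementary abelian subgroup of order p³. Then one of the following holds: G is metacyclic; n ≥ 3 and G is generated by elements x, y, z with x^p = y^p = z^(p^(n−2)) = 1, z commuting with x and y, and x⁻¹yx = y z^(p^(n−3)); n ≥ 4 and G is generated by elements x, y, z with x^p = y^p = z^(p^(n−2)) = 1, yz = zy, x⁻¹yx = y z^(s p^(n−3)) and x⁻¹zx = yz, where s = 1 or s is a quadratic non-residue modulo p; or p = 3 and G has maximal class (nilpotency class n − 1). -/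
theorem result {G : Type*} [Group G] [Finite G] {p : ℕ} [Fact p.Prime] (hp : p ≠ 2) (n : ℕ) (hG : Nat.card G = p ^ n)
    (hrk : Cfsg.PRankLE p 2 G) :
    Cfsg.IsMetacyclic G ∨
    (3 ≤ n ∧ ∃ x y z : G, Subgroup.closure ({x, y, z} : Set G) = ⊤ ∧ x ^ p = 1 ∧ y ^ p = 1 ∧ z ^ p ^ (n - 2) = 1 ∧
        x * z = z * x ∧ y * z = z * y ∧ x⁻¹ * y * x = y * z ^ p ^ (n - 3)) ∨
    (4 ≤ n ∧ ∃ (s : ℕ) (x y z : G), (s = 1 ∨ ¬ IsSquare (s : ZMod p)) ∧ Subgroup.closure ({x, y, z} : Set G) = ⊤ ∧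
        x ^ p = 1 ∧ y ^ p = 1 ∧ z ^ p ^ (n - 2) = 1 ∧ y * z = z * y ∧ x⁻¹ * y * x = y * z ^ (s * p ^ (n - 3)) ∧
        x⁻¹ * z * x = y * z) ∨
    (p = 3 ∧ 2 ≤ n ∧ (⊤ : Subgroup G).lowerCentralSeries (n - 2) ≠ ⊥) := by
  have hpp := (Fact.out : p.Prime)
  have hGp : IsPGroup p G := IsPGroup.of_card hG
  by_cases hcyc : IsCyclic G
  · left
    obtain ⟨g, hg⟩ := IsCyclic.exists_generator (α := G)
    refine CfsgLib.PGroup.isMetacyclic_of_gen 1 g ?_ (eq_top_iff.2 fun x _ => ?_)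
    · rw [Subgroup.zpowers_one_eq_bot]; infer_instance
    · exact (Subgroup.zpowers_le.2 (Subgroup.subset_closure
        (Set.mem_insert_of_mem 1 (Set.mem_singleton g)))) (hg x)
  obtain ⟨E, h⟩ := CfsgLib.BlackburnRankTwo.exists_base hp hGp hcyc hrk
  set C := Subgroup.centralizer (E : Set G) with hC
  by_cases htop : C = ⊤
  · exact Or.inl (h.metacyclic_of_central hp hGp htop)
  by_cases hom : ∀ g : G, g ^ p = 1 → g ∈ C
  · rcases h.of_omega_le hp hG htop hom with h1 | h1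
    · exact Or.inl h1
    · exact Or.inr (Or.inr (Or.inr h1))
  push Not at hom
  obtain ⟨x, hxp, hx⟩ := hom
  by_cases h3 : p = 3 ∧ ∀ y ∈ C, x * y = y * x → y ∈ E
  · exact Or.inr (Or.inr (Or.inr ⟨h3.1, h.maxClass h3.1 hG hx h3.2⟩))
  push Not at h3
  obtain ⟨z, hzC, hzgen⟩ := h.exists_gen_mod hp hGp hx hxp h3
  obtain ⟨m, hm⟩ : ∃ m, E.relIndex C = p ^ m := (hGp.to_subgroup C).index _
  have hn : n = m + 3 := by
    refine Nat.pow_right_injective hpp.two_le ?_
    show p ^ n = p ^ (m + 3)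
    rw [← hG, ← C.card_mul_index, h.index_C hGp htop]
    have h4 := (E.subgroupOf C).card_mul_index
    rw [Nat.card_congr (Subgroup.subgroupOfEquivOfLe h.le_C).toEquiv, h.card,
      show (E.subgroupOf C).index = p ^ m from hm] at h4
    rw [← h4]; ring
  subst hn
  rw [show m + 3 - 2 = m + 1 by omega, show m + 3 - 3 = m by omega]
  rcases Nat.eq_zero_or_pos m with rfl | hm0
  · refine Or.inr (Or.inl ⟨le_rfl, ?_⟩)
    obtain ⟨a, y, w, h1, h2, h5, h4, h6, h7, h8⟩ := h.family_small hGp hx hxp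
      (Subgroup.relIndex_eq_one.1 (hm.trans (pow_zero p)))
    exact ⟨a, y, w, h1, h2, h5, by simpa using h4, h6, h7, by simpa using h8⟩
  rcases h.family_large hp hGp ⟨hzC, hzgen, hm0, hm⟩ hx hxp with h1 | h1
  · exact Or.inr (Or.inl ⟨by omega, h1⟩)
  · exact Or.inr (Or.inr (Or.inl ⟨by omega, h1⟩))

end Cfsg.Agent.S3888
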