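import Cfsg.Statements.S3972
import Cfsg.Agent.Lib.Recog.SchurCyclic
import Mathlib.RingTheory.Polynomial.Cyclotomic.Expand
import Mathlib.RingTheory.Polynomial.Cyclotomic.Roots
import Mathlib.RingTheory.Polynomial.Cyclotomic.Eval
import Mathlib.RingTheory.RootsOfUnity.Complex
import Mathlib.RingTheory.Polynomial.ScaleRoots
import Mathlib.Algebra.MonoidAlgebra.Module
import Mathlib.FieldTheory.Minpoly.IsIntegrallyClosed
import Mathlib.RingTheory.IntegralClosure.IntegrallyClosed

set_option autoImplicit false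
open Cfsg

namespace Cfsg.Agent.S3972

open MulAction Finset Polynomial

/-- The congruence behind the theorem: if `G(ζ) - k` is `p` times an algebraic integer then the
coefficient set of `G` is trivial. -/
theorem coeff_contra {p : ℕ} (hp : p.Prime) {ζ : ℂ} (hζ : IsPrimitiveRoot ζ p) (U : Finset ℕ)
    (hU : U ⊆ Finset.range p) (h0 : 0 ∉ U) {u₁ u₀ : ℕ} (hu₁ : u₁ ∈ U) (hu₀ : u₀ < p) (hu₀' : u₀ ≠ 0)
    (hu₀U : u₀ ∉ U) (Q : ℤ[X]) (hQ : Q.Monic)
    (hroot : aeval ((∑ u ∈ U, ζ ^ u) - (U.card : ℂ)) (Q.scaleRoots (p : ℤ)) = 0) : False := by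
  have : Fact p.Prime := ⟨hp⟩
  let S : Subalgebra ℤ ℂ := Algebra.adjoin ℤ {ζ}
  have hζint : IsIntegral ℤ ζ := hζ.isIntegral hp.pos
  have hSint : ∀ x ∈ S, IsIntegral ℤ x := fun x hx =>
    (Algebra.adjoin_le_iff (S := integralClosure ℤ ℂ)).2 (Set.singleton_subset_iff.2 hζint) hx
  have hmemS : ∀ x ∈ S, ∃ H : ℤ[X], aeval ζ H = x := fun x hx => by
    have hx' : x ∈ Algebra.adjoin ℤ ({ζ} : Set ℂ) := hx
    rw [Algebra.adjoin_singleton_eq_range_aeval] at hx'
    exact hx'
  have hSmem : ∀ H : ℤ[X], aeval ζ H ∈ S := fun H => by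
    show aeval ζ H ∈ Algebra.adjoin ℤ {ζ}
    rw [Algebra.adjoin_singleton_eq_range_aeval]
    exact ⟨H, rfl⟩
  set π := ζ - 1 with hπ
  have hπS : π ∈ S := by
    have h := hSmem (X - 1)
    simpa using h
  have hcyc : cyclotomic p ℤ = ∑ i ∈ Finset.range p, X ^ i := cyclotomic_prime ℤ p
  have hmap : ((cyclotomic p ℤ).map (Int.castRingHom (ZMod p))) = (X - 1) ^ (p - 1) := by
    have h := cyclotomic_mul_prime_pow_eq (ZMod p) (m := 1) (p := p) (by simp [hp.ne_one]) (k := 1) one_pos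
    simpa using h
  -- `π ^ (p - 1)` and `p` divide each other
  obtain ⟨v, hvS, hv⟩ : ∃ v ∈ S, (p : ℂ) = π ^ (p - 1) * v := by
    have h1 : (p : ℂ) = ∏ μ ∈ primitiveRoots p ℂ, (1 - μ) := by
      have h := congrArg (Polynomial.eval (1 : ℂ)) (cyclotomic_eq_prod_X_sub_primitiveRoots hζ)
      rw [eval_one_cyclotomic_prime, eval_prod] at h
      simpa using h
    have h2 : ∀ μ ∈ primitiveRoots p ℂ, ∃ w ∈ S, 1 - μ = π * w := by
      intro μ hμ
      obtain ⟨i, -, rfl⟩ := hζ.eq_pow_of_pow_eq_one ((mem_primitiveRoots hp.pos).1 hμ).pow_eq_one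
      refine ⟨-(∑ j ∈ Finset.range i, ζ ^ j), neg_mem (Subalgebra.sum_mem S fun j _ =>
        pow_mem (Algebra.self_mem_adjoin_singleton ℤ ζ) j), ?_⟩
      rw [hπ, mul_neg, mul_geom_sum]
      ring
    choose w hw hw' using h2
    refine ⟨∏ μ ∈ (primitiveRoots p ℂ).attach, w μ.1 μ.2,
      Subalgebra.prod_mem S fun μ _ => hw μ.1 μ.2, ?_⟩
    rw [h1, ← Finset.prod_attach, Finset.prod_congr rfl (fun μ _ => hw' μ.1 μ.2),
      Finset.prod_mul_distrib, Finset.prod_const, Finset.card_attach, hζ.card_primitiveRoots,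
      Nat.totient_prime hp]
  obtain ⟨h, hh⟩ : ∃ h : ℤ[X], π ^ (p - 1) = (p : ℂ) * aeval ζ h := by
    have h1 : ((X - 1) ^ (p - 1) - cyclotomic p ℤ : ℤ[X]).map (Int.castRingHom (ZMod p)) = 0 := by
      rw [Polynomial.map_sub, hmap]; simp
    obtain ⟨h, hh⟩ : C (p : ℤ) ∣ ((X - 1) ^ (p - 1) - cyclotomic p ℤ : ℤ[X]) := by
      rw [C_dvd_iff_dvd_coeff]
      intro i
      rw [← ZMod.intCast_zmod_eq_zero_iff_dvd]
      have h2 := congrArg (fun q => q.coeff i) h1
      simp only [Polynomial.coeff_map, coeff_zero, eq_intCast] at h2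
      exact h2
    refine ⟨h, ?_⟩
    have h2 := congrArg (aeval ζ) hh
    simp only [map_sub, map_pow, aeval_X, map_one, map_mul, aeval_C] at h2
    have h3 : aeval ζ (cyclotomic p ℤ) = 0 := by
      rw [aeval_def, ← eval_map, map_cyclotomic]
      exact hζ.isRoot_cyclotomic hp.pos
    rw [h3, sub_zero] at h2
    simpa [hπ] using h2
  -- `π` is not a unit of `S`
  have hπnu : ∀ w ∈ S, π * w ≠ 1 := by
    intro w hw hw1
    have h1 : (p : ℂ) * (aeval ζ h * w ^ (p - 1)) = 1 := by
      rw [← mul_assoc, ← hh, ← mul_pow, hw1, one_pow]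
    have h2 : IsIntegral ℤ ((p : ℚ)⁻¹) := by
      rw [← isIntegral_algebraMap_iff (algebraMap ℚ ℂ).injective]
      have h3 : algebraMap ℚ ℂ ((p : ℚ)⁻¹) = aeval ζ h * w ^ (p - 1) := by
        rw [map_inv₀, map_natCast]
        exact inv_eq_of_mul_eq_one_right h1
      rw [h3]
      exact hSint _ (mul_mem (hSmem h) (pow_mem hw _))
    obtain ⟨k, hk⟩ := IsIntegrallyClosed.isIntegral_iff.1 h2
    have h4 : (p : ℚ) * (k : ℚ) = 1 := by
      rw [show (k : ℚ) = algebraMap ℤ ℚ k from rfl, hk, mul_inv_cancel₀]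
      exact_mod_cast hp.ne_zero
    have h5 : (p : ℤ) * k = 1 := by exact_mod_cast h4
    have h6 := Int.natAbs_mul (p : ℤ) k
    rw [h5, Int.natAbs_natCast, Int.natAbs_one] at h6
    exact hp.ne_one (Nat.eq_one_of_mul_eq_one_right h6.symm)
  -- `S / π` is a domain
  have hres : ∀ u ∈ S, ∀ k : ℕ, (∃ w ∈ S, u ^ k = π * w) → ∃ w ∈ S, u = π * w := by
    rintro u hu k ⟨w, hw, huk⟩
    obtain ⟨H, rfl⟩ := hmemS u hu
    set c : ℤ := H.eval 1 with hc
    obtain ⟨K, hK⟩ : (X - C (1 : ℤ)) ∣ H - C c := by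
      rw [dvd_iff_isRoot]; simp [hc]
    have hHK : aeval ζ H = (c : ℂ) + π * aeval ζ K := by
      have h2 := congrArg (aeval ζ) hK
      simp only [map_sub, aeval_C, map_mul, aeval_X, map_one] at h2
      rw [hπ]
      linear_combination h2
    by_cases hpc : (p : ℤ) ∣ c
    · obtain ⟨d, hd⟩ := hpc
      refine ⟨π ^ (p - 2) * v * d + aeval ζ K, add_mem (mul_mem (mul_mem (pow_mem hπS _) hvS)
        (intCast_mem S d)) (hSmem K), ?_⟩
      rw [hHK, hd, Int.cast_mul, Int.cast_natCast, hv, show p - 1 = p - 2 + 1 by have := hp.two_le; omega,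
        pow_succ]
      ring
    · exfalso
      have hcop : IsCoprime (p : ℤ) (c ^ k) :=
        ((Nat.prime_iff_prime_int.1 hp).coprime_iff_not_dvd.2 hpc).pow_right
      obtain ⟨a, b, hab⟩ := hcop
      obtain ⟨L, hLS, hL⟩ : ∃ L ∈ S, aeval ζ H ^ k = (c : ℂ) ^ k + π * L := by
        clear huk hab
        clear! a b
        induction k with
        | zero => exact ⟨0, zero_mem _, by simp⟩
        | succ k ih =>
          obtain ⟨L, hL, hL'⟩ := ih
          refine ⟨L * aeval ζ H + (c : ℂ) ^ k * aeval ζ K,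
            add_mem (mul_mem hL (hSmem H)) (mul_mem (pow_mem (intCast_mem S c) k) (hSmem K)), ?_⟩
          rw [pow_succ, hL', pow_succ]
          linear_combination ((c : ℂ) ^ k) * hHK
      refine hπnu ((a : ℂ) * π ^ (p - 2) * v + (b : ℂ) * (w - L))
        (add_mem (mul_mem (mul_mem (intCast_mem S a) (pow_mem hπS _)) hvS)
          (mul_mem (intCast_mem S b) (sub_mem hw hLS))) ?_
      have hab' : (a : ℂ) * (p : ℂ) + (b : ℂ) * (c : ℂ) ^ k = 1 := by exact_mod_cast hab
      rw [hv, show p - 1 = p - 2 + 1 by have := hp.two_le; omega, pow_succ] at hab'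
      linear_combination hab' + (b : ℂ) * hL - (b : ℂ) * huk
  -- so `π ^ (p - 1)` divides the root
  set G0 : ℤ[X] := (∑ u ∈ U, X ^ u) - C (U.card : ℤ) with hG0
  set z := (∑ u ∈ U, ζ ^ u) - (U.card : ℂ) with hz
  have hzG : aeval ζ G0 = z := by simp [hG0, hz]
  have hdiv : ∀ j, j ≤ p - 1 → ∃ w ∈ S, z = π ^ j * w := by
    intro j
    induction j with
    | zero => exact fun _ => ⟨z, hzG ▸ hSmem G0, by simp⟩
    | succ j ih =>
      intro hj
      obtain ⟨u, hu, hzu⟩ := ih (by omega)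
      set n := Q.natDegree with hn
      have hexp := hroot
      rw [aeval_eq_sum_range, natDegree_scaleRoots, ← hn, Finset.sum_range_succ] at hexp
      have hlead : (Q.scaleRoots (p : ℤ)).coeff n = 1 := by
        rw [coeff_scaleRoots, hn, hQ.coeff_natDegree, Nat.sub_self, pow_zero, one_mul]
      rw [hlead, one_smul] at hexp
      have hterm : ∀ i ∈ Finset.range n, ∃ w ∈ S, (Q.scaleRoots (p : ℤ)).coeff i • z ^ i =
          π ^ (n * j + 1) * w := by
        intro i hi
        rw [Finset.mem_range] at hi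
        obtain ⟨l, hl⟩ : ∃ l, (p - 1) * (n - i) + j * i = n * j + 1 + l := by
          refine Nat.exists_eq_add_of_le ?_
          obtain ⟨e, he⟩ : ∃ e, p - 1 = j + 1 + e := Nat.exists_eq_add_of_le hj
          obtain ⟨d, hd⟩ : ∃ d, n = i + 1 + d := Nat.exists_eq_add_of_le hi
          rw [he, show n - i = 1 + d by omega, hd]
          ring_nf
          omega
        refine ⟨(Q.coeff i : ℂ) * v ^ (n - i) * u ^ i * π ^ l,
          mul_mem (mul_mem (mul_mem (intCast_mem S _) (pow_mem hvS _)) (pow_mem hu _)) (pow_mem hπS _), ?_⟩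
        rw [coeff_scaleRoots, ← hn, zsmul_eq_mul, Int.cast_mul, Int.cast_pow, Int.cast_natCast, hv, hzu,
          mul_pow, mul_pow, ← pow_mul, ← pow_mul]
        calc (Q.coeff i : ℂ) * (π ^ ((p - 1) * (n - i)) * v ^ (n - i)) * (π ^ (j * i) * u ^ i)
            = π ^ ((p - 1) * (n - i) + j * i) * ((Q.coeff i : ℂ) * v ^ (n - i) * u ^ i) := by
              rw [pow_add]; ring
          _ = _ := by rw [hl, pow_add]; ring
      choose w hw hw' using hterm
      have hπ0 : π ≠ 0 := sub_ne_zero.2 (hζ.ne_one hp.one_lt)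
      obtain ⟨w', hw'S, huw⟩ := hres u hu n ⟨-(∑ i ∈ (Finset.range n).attach, w i.1 i.2),
        neg_mem (Subalgebra.sum_mem S fun i _ => hw i.1 i.2), by
          refine mul_left_cancel₀ (pow_ne_zero (n * j) hπ0) ?_
          rw [← Finset.sum_attach, Finset.sum_congr rfl (fun i _ => hw' i.1 i.2), ← Finset.mul_sum, hzu,
            mul_pow, ← pow_mul, mul_comm j n, pow_succ] at hexp
          linear_combination hexp⟩
      exact ⟨w', hw'S, by rw [hzu, huw, pow_succ]; ring⟩
  obtain ⟨w, hw, hzw⟩ := hdiv (p - 1) le_rfl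
  obtain ⟨W, hW⟩ := hmemS _ hw
  have h0' : aeval ζ (G0 - C (p : ℤ) * (h * W)) = 0 := by
    rw [map_sub, map_mul, map_mul, hzG, hzw, hh, hW, aeval_C]
    simp [mul_assoc]
  have hdvd : cyclotomic p ℤ ∣ G0 - C (p : ℤ) * (h * W) := by
    rw [cyclotomic_eq_minpoly hζ hp.pos]
    exact minpoly.isIntegrallyClosed_dvd hζint h0'
  obtain ⟨R, hR⟩ := hdvd
  set f := Int.castRingHom (ZMod p) with hf
  have hR' : G0.map f = (cyclotomic p ℤ).map f * R.map f := by
    rw [← Polynomial.map_mul, ← hR]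
    simp [hf]
  set Cp := (cyclotomic p ℤ).map f with hCp
  have hCsum : Cp = ∑ i ∈ Finset.range p, X ^ i := by
    rw [hCp, hcyc, Polynomial.map_sum]; simp
  have hco : ∀ i, (G0.map f).coeff i = (if i ∈ U then (1 : ZMod p) else 0) -
      if i = 0 then (U.card : ZMod p) else 0 := by
    intro i
    simp only [hG0, Polynomial.coeff_map, coeff_sub, finsetSum_coeff, coeff_X_pow, coeff_C, map_sub, hf,
      eq_intCast, Int.cast_sum]
    congr 1
    · simp [Finset.sum_ite_eq]
    · rcases eq_or_ne i 0 with rfl | h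
      · simp
      · simp [h]
  have hdeg : (G0.map f).natDegree ≤ p - 1 := by
    rw [natDegree_le_iff_coeff_eq_zero]
    intro i hi
    rw [hco, if_neg (fun h' => absurd (Finset.mem_range.1 (hU h')) (by omega)), if_neg (by omega), sub_zero]
  have hne : G0.map f ≠ 0 := fun h' => by
    have h2 := congrArg (fun q => q.coeff u₁) h'
    simp only [coeff_zero] at h2
    rw [hco, if_pos hu₁, if_neg (fun e : u₁ = 0 => h0 (e ▸ hu₁)), sub_zero] at h2
    exact one_ne_zero h2
  obtain ⟨r, hr⟩ : ∃ r : ZMod p, R.map f = C r := by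
    refine ⟨(R.map f).coeff 0, eq_C_of_natDegree_le_zero ?_⟩
    have hC0 : Cp ≠ 0 := fun h' => hne (by rw [hR', h', zero_mul])
    have hR0 : R.map f ≠ 0 := fun h' => hne (by rw [hR', h', mul_zero])
    have h2 := natDegree_mul hC0 hR0
    rw [← hR'] at h2
    have h3 : Cp.natDegree = p - 1 := by
      rw [hCp, (cyclotomic.monic p ℤ).natDegree_map f, natDegree_cyclotomic, Nat.totient_prime hp]
    omega
  have hall : ∀ i < p, (G0.map f).coeff i = r := by
    intro i hi
    rw [hR', hr, coeff_mul_C, hCsum, finsetSum_coeff]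
    simp [coeff_X_pow, hi]
  have e1 := hall u₁ (Finset.mem_range.1 (hU hu₁))
  have e0 := hall u₀ hu₀
  rw [hco, if_pos hu₁, if_neg (fun e : u₁ = 0 => h0 (e ▸ hu₁)), sub_zero] at e1
  rw [hco, if_neg hu₀U, if_neg hu₀', sub_zero] at e0
  exact one_ne_zero (e1.trans e0.symm)

open CfsgLib.Recog.SchurCyclic

variable {G Ω C : Type*} [Group G] [MulAction G Ω] [CommGroup C] [Finite C]
  (φ : C →* G) (a : Ω) (hbij : Function.Bijective fun c : C => φ c • a)

include hbij

/-- The prime power degree case of Schur's theorem. -/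
theorem two_transitive_of_prime_power {p m : ℕ} (hp : p.Prime) (hm : 2 ≤ m) (g : C)
    (hgen : ∀ c, c ∈ Subgroup.zpowers g) (hg : orderOf g = p ^ m) (hprim : IsPreprimitive G Ω) :
    IsMultiplyPretransitive G Ω 2 := by
  classical
  haveI := Fintype.ofFinite C
  have : Fact p.Prime := ⟨hp⟩
  have hcyc : IsCyclic C := ⟨g, hgen⟩
  haveI : Nontrivial Ω := by
    have : Nontrivial C := ⟨g, 1, fun h => by
      rw [h, orderOf_one] at hg
      exact (Nat.one_lt_pow (by omega) hp.one_lt).ne hg⟩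
    exact (hbij.1).nontrivial
  haveI := hprim.toIsPretransitive
  have hco : IsCoatom (stabilizer G a) := (isCoatom_stabilizer_iff_preprimitive G a).2 hprim
  set e := g ^ p ^ (m - 1) with hedef
  have he : orderOf e = p := by
    rw [hedef, orderOf_pow' _ (pow_ne_zero _ hp.ne_zero), hg,
      Nat.gcd_eq_right (pow_dvd_pow p (Nat.sub_le m 1)), Nat.pow_div (Nat.sub_le m 1) hp.pos,
      show m - (m - 1) = 1 by omega, pow_one]
  set E := Subgroup.zpowers e with hE
  have hEcard : Nat.card E = p := by rw [hE, Nat.card_zpowers, he]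
  have hEx : ∀ x : C, x ^ p = 1 → x ∈ E := by
    intro x hx
    have hsub : ((E : Set C).toFinset) ⊆ univ.filter fun y : C => y ^ p = 1 := by
      intro y hy
      rw [Set.mem_toFinset] at hy
      refine mem_filter.2 ⟨mem_univ _, ?_⟩
      rw [← orderOf_dvd_iff_pow_eq_one, ← hEcard]
      exact Subgroup.orderOf_dvd_natCard E hy
    have heq := Finset.eq_of_subset_of_card_le hsub
      ((IsCyclic.card_pow_eq_one_le (α := C) hp.pos).trans (le_of_eq (by
        rw [Set.toFinset_card, ← Nat.card_eq_fintype_card]; exact hEcard.symm)))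
    have : x ∈ univ.filter fun y : C => y ^ p = 1 := mem_filter.2 ⟨mem_univ _, hx⟩
    rw [← heq, Set.mem_toFinset] at this
    exact this
  have hnp : ∀ d : C, d ^ p ≠ g := by
    intro d hd
    have h1 : g ^ p ^ (m - 1) = 1 := by
      rw [← hd, ← pow_mul, ← pow_succ', show m - 1 + 1 = m by omega, ← orderOf_dvd_iff_pow_eq_one, ← hg]
      exact orderOf_dvd_of_mem_zpowers (hgen d)
    rw [← hedef] at h1
    rw [h1, orderOf_one] at he
    exact hp.ne_one he.symm
  have hsymm : ∀ c c', Rel φ a c c' → Rel φ a c' c := by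
    rintro c c' ⟨h, hh, e'⟩
    exact ⟨h⁻¹, inv_mem hh, inv_smul_eq_iff.2 e'.symm⟩
  have htrans : ∀ c c' c'', Rel φ a c c' → Rel φ a c' c'' → Rel φ a c c'' := by
    rintro c c' c'' ⟨h, hh, e'⟩ ⟨h', hh', e''⟩
    exact ⟨h' * h, mul_mem hh' hh, by rw [mul_smul, e', e'']⟩
  have hone : ∀ c, Rel φ a 1 c → c = 1 := by
    rintro c ⟨h, hh, e'⟩
    rw [map_one, one_smul, mem_stabilizer_iff.1 hh] at e'
    exact hbij.1 (by simpa using e'.symm)
  have hnotone : ∀ c, c ≠ 1 → ¬ Rel φ a c 1 := fun c hc h => hc (hone c (hsymm _ _ h))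
  -- cosets of `E` outside `E` lie in one orbit
  have hcoset : ∀ c t, Rel φ a c t → t ∉ E → ∀ x ∈ E, Rel φ a c (t * x) := fun c t hct htE x hx =>
    union_of_cosets φ a hbij hco hp E hEcard hEx ⟨g, hnp⟩ {d | Rel φ a c d}
      (fun d d' hdd' hcd => htrans _ _ _ hcd hdd') hct htE hx
  -- every orbit meets `E`
  have hmeetE : ∀ c, c ≠ 1 → ∃ x ∈ E, Rel φ a c x := by
    intro c hc
    by_contra hno
    push Not at hno
    let R : Subgroup C :=
      { carrier := {r | ∀ t, Rel φ a c t ↔ Rel φ a c (t * r)}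
        one_mem' := fun t => by rw [mul_one]
        mul_mem' := fun {r s} hr hs t => by rw [hr, hs, mul_assoc]
        inv_mem' := fun {r} hr t => by rw [hr (t * r⁻¹), inv_mul_cancel_right] }
    have hRE : ∀ x ∈ E, x ∈ R := fun x hx t =>
      ⟨fun ht => hcoset c t ht (fun h => hno t h ht) x hx, fun ht => by
        simpa using hcoset c (t * x) ht (fun h => hno _ h ht) x⁻¹ (inv_mem hx)⟩
    have hrefl : Rel φ a c c := ⟨1, one_mem _, one_smul _ _⟩
    have hRrel : ∀ r r', Rel φ a r r' → r ∈ R → r' ∈ R := by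
      rintro r r' ⟨h, hh, hr⟩ hmem t
      choose σ hσ using exists_moved φ a hbij h
      have hinj : Function.Injective σ := fun d d' hd => hbij.1 (smul_left_cancel h (by rw [hσ, hσ, hd]))
      obtain ⟨d, hd⟩ := (Finite.injective_iff_bijective.1 hinj).2 (t * r')
      have h1 := translate φ a hbij hr (hσ d)
      rw [hd, mul_comm t, inv_mul_cancel_left] at h1
      have h2 : Rel φ a d (t * r') := hd ▸ ⟨h, hh, hσ d⟩
      have h3 := hmem (r⁻¹ * d)
      rw [mul_comm (r⁻¹ * d) r, mul_inv_cancel_left] at h3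
      exact ⟨fun ht => htrans _ _ _ (h3.1 (htrans _ _ _ ht (hsymm _ _ h1))) h2,
        fun ht => htrans _ _ _ (h3.2 (htrans _ _ _ ht (hsymm _ _ h2))) h1⟩
    rcases subgroup_trivial φ a hbij hco R hRrel with h | h
    · have h' := hRE e (Subgroup.mem_zpowers e)
      rw [h, Subgroup.mem_bot] at h'
      rw [h', orderOf_one] at he
      exact hp.ne_one he.symm
    · have h' := ((h ▸ Subgroup.mem_top c⁻¹ : c⁻¹ ∈ R) c).1 hrefl
      rw [mul_inv_cancel] at h'
      exact hnotone c hc h'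
  rw [is_two_pretransitive_iff]
  suffices hkey : ∀ c₁ c₂ : C, c₁ ≠ 1 → c₂ ≠ 1 → Rel φ a c₁ c₂ by
    intro x₁ y₁ x₂ y₂ hx hy
    obtain ⟨g₁, hg₁⟩ := exists_smul_eq G x₁ a
    obtain ⟨g₂, hg₂⟩ := exists_smul_eq G x₂ a
    obtain ⟨c₁, hc₁⟩ := hbij.2 (g₁ • y₁)
    obtain ⟨c₂, hc₂⟩ := hbij.2 (g₂ • y₂)
    have n1 : c₁ ≠ 1 := fun e' => hx (smul_left_cancel g₁ (by rw [hg₁, ← hc₁, e']; simp))
    have n2 : c₂ ≠ 1 := fun e' => hy (smul_left_cancel g₂ (by rw [hg₂, ← hc₂, e']; simp))
    obtain ⟨h, hh, e'⟩ := hkey c₁ c₂ n1 n2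
    simp only at hc₁ hc₂
    refine ⟨g₂⁻¹ * h * g₁, ?_, ?_⟩
    · rw [mul_smul, mul_smul, hg₁, mem_stabilizer_iff.1 hh, ← hg₂, inv_smul_smul]
    · rw [mul_smul, mul_smul, ← hc₁, e', hc₂, inv_smul_smul]
  intro c₁ c₂ hc₁ hc₂
  by_contra hnot
  -- the orbit of `c₁`
  obtain ⟨x₁, hx₁E, hx₁⟩ := hmeetE c₁ hc₁
  obtain ⟨x₂, hx₂E, hx₂⟩ := hmeetE c₂ hc₂
  obtain ⟨ω, hω⟩ : ∃ ω : ℂ, IsPrimitiveRoot ω (p ^ m) :=
    ⟨_, Complex.isPrimitiveRoot_exp _ (pow_ne_zero _ hp.ne_zero)⟩
  let χ : C →* ℂ := (Units.coeHom ℂ).comp (monoidHomOfForallMemZpowers hgen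
    (g' := (hω.isUnit (pow_ne_zero _ hp.ne_zero)).unit) (by
      rw [hg, orderOf_dvd_iff_pow_eq_one, Units.ext_iff, Units.val_pow_eq_pow_val, IsUnit.unit_spec]
      exact hω.pow_eq_one))
  have hχg : χ g = ω := by
    simp only [χ, MonoidHom.comp_apply, monoidHomOfForallMemZpowers_apply_gen]
    rfl
  set ζ := χ e with hζdef
  have hζ : IsPrimitiveRoot ζ p := by
    rw [hζdef, hedef, map_pow, hχg]
    exact hω.pow (Nat.pos_of_ne_zero (pow_ne_zero _ hp.ne_zero))
      (by rw [← pow_succ, show m - 1 + 1 = m by omega])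
  let T : Finset C := univ.filter fun d => Rel φ a c₁ d
  let x : MonoidAlgebra ℤ C := ∑ d ∈ T, MonoidAlgebra.single d 1
  let U : Finset ℕ := (Finset.range p).filter fun u => Rel φ a c₁ (e ^ u)
  let B : Finset C := T.filter fun d => d ∉ E
  let π : MonoidAlgebra ℤ C →ₐ[ℤ] MonoidAlgebra ℤ (C ⧸ E) :=
    MonoidAlgebra.mapDomainAlgHom ℤ ℤ (QuotientGroup.mk' E)
  have hTE : (T.filter fun d => d ∈ E) = U.image fun u => e ^ u := by
    ext d
    simp only [T, U, mem_filter, mem_univ, true_and, mem_image, Finset.mem_range]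
    constructor
    · rintro ⟨hd, hdE⟩
      obtain ⟨k, rfl⟩ := mem_powers_iff_mem_zpowers.2 hdE
      refine ⟨k % p, ⟨Nat.mod_lt _ hp.pos, ?_⟩, ?_⟩
      · simpa only [← he, pow_mod_orderOf] using hd
      · simp only [← he, pow_mod_orderOf]
    · rintro ⟨u, ⟨-, hu⟩, rfl⟩
      exact ⟨hu, pow_mem (Subgroup.mem_zpowers e) u⟩
  have hUinj : Set.InjOn (fun u => e ^ u) (U : Set ℕ) := by
    intro u hu v hv huv
    simp only [U, coe_filter, Finset.mem_range, Set.mem_ofPred_eq] at hu hv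
    have := (pow_eq_pow_iff_modEq.1 huv)
    rw [he] at this
    exact Nat.ModEq.eq_of_lt_of_lt this hu.1 hv.1
  have hxsplit : x = (∑ u ∈ U, MonoidAlgebra.single (e ^ u) 1) + ∑ d ∈ B, MonoidAlgebra.single d 1 := by
    simp only [x, B]
    rw [← Finset.sum_filter_add_sum_filter_not T (fun d => d ∈ E), hTE, Finset.sum_image hUinj]
  -- `π` maps `x - |U|` into multiples of `p`
  let z : MonoidAlgebra ℤ C := x - (U.card : MonoidAlgebra ℤ C)
  obtain ⟨b, hb⟩ : ∃ b : MonoidAlgebra ℤ (C ⧸ E), π z = (p : ℤ) • b := by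
    refine ⟨∑ q ∈ B.image (QuotientGroup.mk' E), MonoidAlgebra.single q 1, ?_⟩
    have hsingle : ∀ d : C, π (MonoidAlgebra.single d 1) = MonoidAlgebra.single (QuotientGroup.mk' E d) 1 :=
      fun d => by simp [π]
    have h1 : ∀ u ∈ U, π (MonoidAlgebra.single (e ^ u) 1) = 1 := fun u _ => by
      rw [hsingle, MonoidAlgebra.one_def]
      congr 1
      exact (QuotientGroup.eq_one_iff _).2 (pow_mem (Subgroup.mem_zpowers e) u)
    simp only [z]
    rw [hxsplit, map_sub, map_add, map_sum, Finset.sum_congr rfl h1, map_natCast, Finset.sum_const,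
      nsmul_one, add_sub_cancel_left, map_sum, Finset.sum_congr rfl (fun d _ => hsingle d),
      Finset.smul_sum, ← Finset.sum_fiberwise_of_maps_to (t := B.image (QuotientGroup.mk' E))
        (fun d hd => mem_image_of_mem _ hd)]
    refine Finset.sum_congr rfl fun q hq => ?_
    obtain ⟨d, hd, rfl⟩ := mem_image.1 hq
    rw [Finset.sum_congr rfl (fun d' hd' => by rw [(mem_filter.1 hd').2]), Finset.sum_const,
      ← natCast_zsmul]
    congr 2
    rw [← hEcard, Nat.card_eq_fintype_card, ← Finset.card_univ]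
    refine Eq.symm (Finset.card_bij (fun (x : E) _ => d * (x : C)) (fun x _ => ?_) (fun x _ y _ h => ?_) fun d' hd' => ?_)
    · simp only [B, T, mem_filter, mem_univ, true_and] at hd
      refine mem_filter.2 ⟨mem_filter.2 ⟨mem_filter.2 ⟨mem_univ _, hcoset _ _ hd.1 hd.2 _ x.2⟩,
        fun h => hd.2 ((E.mul_mem_cancel_right x.2).1 h)⟩, ?_⟩
      exact QuotientGroup.eq.2 (by simp)
    · exact Subtype.ext (mul_left_cancel h)
    · obtain ⟨-, hd'q⟩ := mem_filter.1 hd'
      refine ⟨⟨d⁻¹ * d', QuotientGroup.eq.1 hd'q.symm⟩, mem_univ _, mul_inv_cancel_left d d'⟩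
  -- the restriction of `π` to invariant elements is injective
  have hpinj : ∀ f : MonoidAlgebra ℤ C, Inv φ a (fun c => f.coeff c) → π f = 0 → f = 0 := by
    intro f hf hπf
    have hsum : ∀ d : C, ∑ x : E, f.coeff (d * x) = 0 := by
      intro d
      have h1 := congrArg (fun w => w.coeff (QuotientGroup.mk' E d)) hπf
      simp only [MonoidAlgebra.coeff_zero, Finsupp.coe_zero, Pi.zero_apply] at h1
      rw [← h1]
      have h2 : (π f).coeff (QuotientGroup.mk' E d) =
          ∑ c ∈ univ.filter (fun c : C => QuotientGroup.mk' E c = QuotientGroup.mk' E d), f.coeff c := by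
        have hf' : f = ∑ c : C, MonoidAlgebra.single c (f.coeff c) := by
          ext c; simp [MonoidAlgebra.coeff_sum, Finsupp.single_apply]
        conv_lhs => rw [hf']
        simp [π, MonoidAlgebra.coeff_sum, Finsupp.single_apply]
        exact (Finset.sum_filter _ _).symm.trans (Finset.sum_congr (Finset.ext fun c => ⟨fun h => Finset.mem_filter.2 ⟨Finset.mem_univ c, (Finset.mem_filter.1 h).2⟩,
          fun h => Finset.mem_filter.2 ⟨Finset.mem_univ c, (Finset.mem_filter.1 h).2⟩⟩) fun _ _ => rfl)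
      rw [h2]
      refine Finset.sum_bij (fun x _ => d * (x : C)) (fun x _ => ?_) (fun x _ y _ h => ?_) (fun c hc => ?_)
        (fun _ _ => rfl)
      · exact mem_filter.2 ⟨mem_univ _, QuotientGroup.eq.2 (by simp)⟩
      · exact Subtype.ext (mul_left_cancel h)
      · exact ⟨⟨d⁻¹ * c, QuotientGroup.eq.1 (mem_filter.1 hc).2.symm⟩, mem_univ _, mul_inv_cancel_left d c⟩
    have hout : ∀ d, d ∉ E → f.coeff d = 0 := by
      intro d hd
      have h1 := hsum d
      rw [Finset.sum_congr rfl (fun x _ => (hf _ _ (hcoset d d ⟨1, one_mem _, one_smul _ _⟩ hd _ x.2)).symm),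
        Finset.sum_const, Finset.card_univ, ← Nat.card_eq_fintype_card, hEcard, nsmul_eq_mul,
        mul_eq_zero] at h1
      exact h1.resolve_left (by exact_mod_cast hp.ne_zero)
    have hne : ∀ d, d ≠ 1 → f.coeff d = 0 := by
      intro d hd
      obtain ⟨t, ht, htE⟩ : ∃ t, Rel φ a d t ∧ t ∉ E := by
        by_contra hno
        push Not at hno
        rcases invariant_set φ a hbij hco {t | Rel φ a d t} (fun _ _ h h' => htrans _ _ _ h' h) with h | h
        · exact hd (h (⟨1, one_mem _, one_smul _ _⟩ : Rel φ a d d))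
        · have hg' : g ∈ E := by
            have : Subgroup.closure {t | Rel φ a d t} ≤ E := (Subgroup.closure_le _).2 fun t ht => hno t ht
            exact this (h ▸ Subgroup.mem_top g)
          have h4 := Subgroup.orderOf_dvd_natCard E hg'
          rw [hg, hEcard] at h4
          have h5 := Nat.le_of_dvd hp.pos h4
          have := Nat.pow_lt_pow_right hp.one_lt (show 1 < m by omega)
          rw [pow_one] at this
          omega
      exact (hf d t ht).trans (hout t htE)
    ext c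
    rw [MonoidAlgebra.coeff_zero, Finsupp.coe_zero, Pi.zero_apply]
    by_cases hc : c = 1
    · subst hc
      have h1 := hsum 1
      rw [Finset.sum_eq_single (1 : E)] at h1
      · simpa using h1
      · intro x _ hx
        exact hne _ (by simpa using hx)
      · simp
    · exact hne c hc
  -- invariant elements are closed under polynomials
  have hinvz : Inv φ a (fun c => z.coeff c) := by
    intro c c' hcc'
    have h1 := inv_one φ a hbij (R := ℤ) c c' hcc'
    simp only at h1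
    simp only [z, x, MonoidAlgebra.coeff_sub, Finsupp.coe_sub, Pi.sub_apply, ← nsmul_one,
      MonoidAlgebra.coeff_smul, Finsupp.coe_smul, Pi.smul_apply, h1, MonoidAlgebra.coeff_sum,
      Finsupp.coe_finset_sum, Finset.sum_apply, MonoidAlgebra.coeff_single, Finsupp.single_apply]
    congr 1
    simp only [Finset.sum_ite_eq', T, mem_filter, mem_univ, true_and]
    exact if_congr ⟨fun h => htrans _ _ _ h hcc', fun h => htrans _ _ _ h (hsymm _ _ hcc')⟩ rfl rfl
  obtain ⟨Q, hQ, hQb⟩ := IsIntegral.of_finite ℤ b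
  have hQb' : aeval b Q = 0 := by rw [aeval_def]; exact hQb
  have hinvpoly : Inv φ a (fun c => (aeval z (Q.scaleRoots (p : ℤ))).coeff c) := by
    intro c c' hcc'
    simp only [aeval_eq_sum_range, MonoidAlgebra.coeff_sum, Finsupp.coe_finset_sum, Finset.sum_apply,
      MonoidAlgebra.coeff_smul, Finsupp.coe_smul, Pi.smul_apply]
    exact Finset.sum_congr rfl fun i _ => congrArg _ (inv_pow φ a hbij z hinvz i c c' hcc')
  have hzero : aeval z (Q.scaleRoots (p : ℤ)) = 0 := by
    refine hpinj _ hinvpoly ?_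
    rw [← aeval_algHom_apply, hb]
    have h1 := scaleRoots_aeval_eq_zero (r := (p : ℤ)) hQb'
    rwa [← Algebra.smul_def] at h1
  let Χ : MonoidAlgebra ℤ C →ₐ[ℤ] ℂ := MonoidAlgebra.lift ℤ ℂ C χ
  have hΧx : Χ z = (∑ u ∈ U, ζ ^ u) - (U.card : ℂ) := by
    have h2 : ∀ d : C, Χ (MonoidAlgebra.single d 1) = χ d := fun d => by simp [Χ]
    simp only [z]
    rw [hxsplit, map_sub, map_natCast, map_add, map_sum, map_sum, Finset.sum_congr rfl (fun d _ => h2 d),
      Finset.sum_congr rfl (fun u _ => (h2 (e ^ u)).trans (map_pow χ e u))]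
    have hB0 : ∑ d ∈ B, χ d = 0 := by
      have hBe : ∀ d ∈ B, ∀ x ∈ E, d * x ∈ B := by
        intro d hd x hx
        simp only [B, T, mem_filter, mem_univ, true_and] at hd ⊢
        exact ⟨hcoset _ _ hd.1 hd.2 x hx, fun h => hd.2 ((E.mul_mem_cancel_right hx).1 h)⟩
      have h3 : ∑ d ∈ B, χ d = ∑ d ∈ B, χ d * ζ := by
        refine Finset.sum_bij' (fun d _ => d * e⁻¹) (fun d _ => d * e)
          (fun d hd => hBe d hd _ (inv_mem (Subgroup.mem_zpowers e)))
          (fun d hd => hBe d hd _ (Subgroup.mem_zpowers e)) (fun d _ => by simp) (fun d _ => by simp)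
          fun d _ => ?_
        rw [hζdef, ← map_mul, inv_mul_cancel_right]
      rw [← Finset.sum_mul] at h3
      by_contra h0
      exact hζ.ne_one hp.one_lt (mul_left_cancel₀ h0 (h3.symm.trans (mul_one _).symm))
    rw [hB0, add_zero]
  have h0U : 0 ∉ U := fun h => by
    simp only [U, mem_filter, pow_zero] at h
    exact hnotone c₁ hc₁ h.2
  obtain ⟨u₁, hu₁, hu₁e⟩ := mem_image.1
    (show x₁ ∈ U.image (fun u => e ^ u) from hTE ▸ mem_filter.2 ⟨mem_filter.2 ⟨mem_univ _, hx₁⟩, hx₁E⟩)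
  obtain ⟨k, hk⟩ := mem_powers_iff_mem_zpowers.2 hx₂E
  simp only at hk
  refine coeff_contra hp hζ U (filter_subset _ _) h0U hu₁ (Nat.mod_lt k hp.pos) ?_ ?_ Q hQ
    (by rw [← hΧx, aeval_algHom_apply, hzero, map_zero])
  · intro h
    have : e ^ k = 1 := by rw [← pow_mod_orderOf, he, h, pow_zero]
    exact hnotone c₂ hc₂ (this ▸ hk.symm ▸ hx₂)
  · intro h
    simp only [U, mem_filter] at h
    have h' := h.2
    rw [← he, pow_mod_orderOf, hk] at h'
    exact hnot (htrans _ _ _ h' (hsymm _ _ hx₂))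

omit hbij

/-- Let `p` be a prime, `m ≥ 2`, and `G` a transitive but not doubly transitive permutation group on `p ^ m` points containing a permutation of order `p ^ m` (necessarily a full cycle). Then `G` is imprimitive, and the normal closure in `G` of the `p ^ (m - 1)`-th power of that permutation is an intransitive normal subgroup. -/
theorem result {Ω : Type*} [Fintype Ω] [DecidableEq Ω] (p m : ℕ) (hp : p.Prime) (hm : 2 ≤ m) (hΩ : Fintype.card Ω = p ^ m) (G : Subgroup (Equiv.Perm Ω)) (htr : MulAction.IsPretransitive G Ω) (h2 : ¬ MulAction.IsMultiplyPretransitive G Ω 2) (g : G) (hg : orderOf g = p ^ m) : ¬ MulAction.IsPreprimitive G Ω ∧ ¬ MulAction.IsPretransitive (Subgroup.normalClosure ({g ^ (p ^ (m - 1))} : Set G)) Ω := by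
  classical
  have : Fact p.Prime := ⟨hp⟩
  set C := Subgroup.zpowers g with hC
  letI : CommGroup C := { (inferInstance : Group C) with
    mul_comm := fun x y => (IsCyclic.isMulCommutative (α := C)).is_comm.comm x y }
  set e := g ^ p ^ (m - 1) with hedef
  have hn1 : ¬ g ^ p ^ (m - 1) = 1 := by
    intro h
    have h' := orderOf_dvd_of_pow_eq_one h
    rw [hg, Nat.pow_dvd_pow_iff_le_right hp.one_lt] at h'
    omega
  obtain ⟨a, ha⟩ : ∃ a : Ω, (e : Equiv.Perm Ω) • a ≠ a := by
    by_contra h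
    push Not at h
    refine hn1 (Subtype.ext (Equiv.ext fun x => ?_))
    exact h x
  have hmin : ∀ H : Subgroup G, H ≤ C → H ≠ ⊥ → e ∈ H := by
    intro H hH hne
    obtain ⟨⟨x, hxH⟩, hx1'⟩ := Subgroup.ne_bot_iff_exists_ne_one.1 hne
    have hx1 : x ≠ 1 := fun h => hx1' (Subtype.ext h)
    obtain ⟨j, hj⟩ := mem_powers_iff_mem_zpowers.2 (hH hxH)
    have hj' : g ^ j = x := hj
    obtain ⟨i, hi, hgi⟩ := (Nat.dvd_prime_pow hp).1 (Nat.gcd_dvd_right j (p ^ m))
    have hmem : g ^ Nat.gcd j (p ^ m) ∈ H := by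
      have h1 := Nat.gcd_eq_gcd_ab j (p ^ m)
      rw [← zpow_natCast, h1, zpow_add, zpow_mul, zpow_mul, zpow_natCast, zpow_natCast, hj', ← hg,
        pow_orderOf_eq_one, one_zpow, mul_one]
      exact zpow_mem hxH _
    have him : i ≤ m - 1 := by
      rcases Nat.lt_or_ge i m with h | h
      · omega
      exfalso
      have h2 : p ^ m ∣ j := by
        have := Nat.gcd_dvd_left j (p ^ m)
        rw [hgi] at this
        exact (pow_dvd_pow p h).trans this
      refine hx1 ?_
      rw [← hj', ← orderOf_dvd_iff_pow_eq_one, hg]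
      exact h2
    rw [hgi] at hmem
    rw [hedef, show m - 1 = i + (m - 1 - i) by omega, pow_add, pow_mul]
    exact pow_mem hmem _
  have hstab : ∀ c : C, (c : G) • a = a → c = 1 := by
    intro c hc
    by_contra hne
    have h := hmin (MulAction.stabilizer G a ⊓ C) inf_le_right (fun h => hne (Subtype.ext (by
      have : (c : G) ∈ MulAction.stabilizer G a ⊓ C := ⟨hc, c.2⟩
      rw [h, Subgroup.mem_bot] at this
      exact this)))
    exact ha h.1
  have hbij : Function.Bijective fun c : C => C.subtype c • a := by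
    rw [Nat.bijective_iff_injective_and_card]
    refine ⟨fun c d h => ?_, ?_⟩
    · have : ((d⁻¹ * c : C) : G) • a = a := by
        rw [Subgroup.coe_mul, Subgroup.coe_inv, mul_smul, inv_smul_eq_iff]
        exact h
      exact (inv_mul_eq_one.1 (hstab _ this)).symm
    · rw [hC, Nat.card_zpowers, hg, Nat.card_eq_fintype_card, hΩ]
  have hgen : ∀ c : C, c ∈ Subgroup.zpowers (⟨g, Subgroup.mem_zpowers g⟩ : C) := by
    rintro ⟨c, hc⟩
    obtain ⟨k, rfl⟩ := Subgroup.mem_zpowers_iff.1 hc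
    exact ⟨k, rfl⟩
  have himp : ¬ MulAction.IsPreprimitive G Ω := fun hprim => h2
    (two_transitive_of_prime_power C.subtype a hbij hp hm ⟨g, Subgroup.mem_zpowers g⟩ hgen
      (by rw [Subgroup.orderOf_mk, hg]) hprim)
  refine ⟨himp, fun hN => ?_⟩
  have hnt : Nontrivial Ω := ⟨_, a, ha⟩
  have hnco : ¬ IsCoatom (MulAction.stabilizer G a) := fun h =>
    himp ((MulAction.isCoatom_stabilizer_iff_preprimitive G a).1 h)
  obtain ⟨U, hU, hUne⟩ : ∃ U, MulAction.stabilizer G a < U ∧ U ≠ ⊤ := by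
    by_contra h
    push Not at h
    refine hnco ⟨fun h' => ?_, h⟩
    have hst : e ∈ MulAction.stabilizer G a := by rw [h']; exact Subgroup.mem_top e
    exact ha (MulAction.mem_stabilizer_iff.1 hst)
  -- `U` contains `e`
  have heU : e ∈ U := by
    refine (hmin (U ⊓ C) inf_le_right ?_).1
    obtain ⟨u, huU, hua⟩ := SetLike.exists_of_lt hU
    obtain ⟨c, hc⟩ := hbij.2 (u • a)
    have hc' : (c : G) • a = u • a := hc
    have hst : (c : G)⁻¹ * u ∈ MulAction.stabilizer G a := by
      rw [MulAction.mem_stabilizer_iff, mul_smul, ← hc', inv_smul_smul]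
    have hcU : (c : G) ∈ U := by
      have := U.mul_mem huU (U.inv_mem (hU.le hst))
      simpa using this
    intro h
    have hc1 : (c : G) ∈ U ⊓ C := ⟨hcU, c.2⟩
    rw [h, Subgroup.mem_bot] at hc1
    exact hua (by rwa [hc1, _root_.inv_one, one_mul] at hst)
  have hNU : Subgroup.normalClosure ({e} : Set G) ≤ U := by
    rw [Subgroup.normalClosure, Subgroup.closure_le]
    intro y hy
    obtain ⟨e', he', hy'⟩ := Group.mem_conjugatesOfSet_iff.1 hy
    rw [Set.mem_singleton_iff] at he'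
    subst he'
    obtain ⟨h, rfl⟩ := isConj_iff.1 hy'
    obtain ⟨c, hc⟩ := hbij.2 (h⁻¹ • a)
    have hc' : (c : G) • a = h⁻¹ • a := hc
    have hst : h * (c : G) ∈ MulAction.stabilizer G a := by
      rw [MulAction.mem_stabilizer_iff, mul_smul, hc', smul_inv_smul]
    have hce : (c : G)⁻¹ * e * c = e := by
      obtain ⟨k, hk⟩ := Subgroup.mem_zpowers_iff.1 c.2
      rw [← hk, hedef]
      group
    have hs := U.mul_mem (U.mul_mem (hU.le hst) heU) (U.inv_mem (hU.le hst))
    rw [SetLike.mem_coe]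
    convert hs using 1
    calc h * e * h⁻¹ = h * (c * ((c : G)⁻¹ * e * c) * (c : G)⁻¹) * h⁻¹ := by group
      _ = h * (c * e * (c : G)⁻¹) * h⁻¹ := by rw [hce]
      _ = _ := by group
  refine hUne ((Subgroup.eq_top_iff' U).2 fun u => ?_)
  obtain ⟨⟨n, hn⟩, hna⟩ := hN.exists_smul_eq a (u • a)
  have hna' : n • a = u • a := hna
  have hst : n⁻¹ * u ∈ MulAction.stabilizer G a := by
    rw [MulAction.mem_stabilizer_iff, mul_smul, ← hna', inv_smul_smul]
  have := U.mul_mem (hNU hn) (hU.le hst)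
  simpa using this

end Cfsg.Agent.S3972
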