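import Cfsg.Statements.S4137
import Cfsg.Agent.Lib.InvChar.ConjRank.CentreFree

set_option autoImplicit false
open Cfsg

namespace Cfsg.Agent.S4137

open CfsgLib.InvChar.ConjRank

theorem ncard_values_le {G : Type*} [Group G] [Finite G] (hZ : Subgroup.center G = ⊥)
    (h : Nat.card {n : ℕ | 1 < n ∧ ∃ x : G, (Subgroup.centralizer ({x} : Set G)).index = n} ≤ 3) :
    {v : ℕ | ∃ x : G, x ≠ 1 ∧ Nat.card (cent x) = v}.ncard ≤ 3 := by
  rw [Nat.card_coe_set_eq] at h
  have hfin : {n : ℕ | 1 < n ∧ ∃ x : G, (Subgroup.centralizer ({x} : Set G)).index = n}.Finite := by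
    refine (Set.finite_Iic (Nat.card G)).subset ?_
    rintro _ ⟨-, x, rfl⟩
    exact Nat.le_of_dvd Nat.card_pos (Subgroup.index_dvd_card _)
  refine le_trans ?_ h
  refine Set.ncard_le_ncard_of_injOn (fun v => Nat.card G / v) ?_ ?_ hfin
  · rintro _ ⟨x, hx, rfl⟩
    have hi : Nat.card G / Nat.card (cent x) = (cent x).index := by
      rw [← Subgroup.card_mul_index (cent x), Nat.mul_div_cancel_left _ Nat.card_pos]
    refine ⟨?_, x, hi.symm⟩
    show 1 < Nat.card G / Nat.card (cent x)
    rw [hi]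
    have h0 : (cent x).index ≠ 0 := Subgroup.index_ne_zero_of_finite
    have h1 : (cent x).index ≠ 1 := fun e => card_cent_ne_card_of_center hZ hx
      (by rw [← Subgroup.card_mul_index (cent x), e, mul_one])
    omega
  · rintro _ ⟨x, -, rfl⟩ _ ⟨y, -, rfl⟩ he
    exact (Nat.div_eq_iff_eq_of_dvd_dvd Nat.card_pos.ne' (Subgroup.card_subgroup_dvd_card _)
      (Subgroup.card_subgroup_dvd_card _)).mp he

/-- Let G be a finite group with trivial centre and at most three distinct sizes of conjugacy classes other than 1. Then G is solvable or G is isomorphic to PSL₂(2^a) for some a ≥ 1. -/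
theorem result {G : Type*} [Group G] [Finite G]
    (hZ : Subgroup.center G = ⊥) (h : Nat.card {n : ℕ | 1 < n ∧ ∃ x : G, (Subgroup.centralizer ({x} : Set G)).index = n} ≤ 3) :
    Group.IsSolvable G ∨ ∃ a : ℕ, 0 < a ∧ Nonempty (G ≃* Matrix.ProjectiveSpecialLinearGroup (Fin 2) (GaloisField 2 a)) := by
  by_cases hs : Group.IsSolvable G
  · exact Or.inl hs
  · exact Or.inr (exists_psl_of_minC hZ hs
      (minC_of_centreFree hZ hs (ncard_values_le hZ h)))

end Cfsg.Agent.S4137
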