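import Cfsg.Statements.S2508
import Cfsg.Agent.Lib.Geom.PSLTwoCentralizer
-- import your own Cfsg.Agent.* helpers here

set_option autoImplicit false
open Cfsg CfsgLib.Geom

namespace Cfsg.Agent.S2508

/-- Let F be a finite field with q elements, q odd and q ≥ 7. If q ≡ 1 (mod 4) the conjugacy class sizes of PSL(2,F) are exactly 1, (q² − 1)/2, q(q + 1)/2, q(q − 1) and q(q + 1); if q ≡ 3 (mod 4) they are exactly 1, (q² − 1)/2, q(q − 1)/2, q(q + 1) and q(q − 1). -/
theorem result {F : Type*} [Field F] [Fintype F]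
    (hodd : ¬ 2 ∣ Fintype.card F) (h7 : 7 ≤ Fintype.card F) :
    (Fintype.card F % 4 = 1 →
      Set.range (fun g : (Matrix.ProjectiveSpecialLinearGroup (Fin 2) F) => (Subgroup.centralizer ({g} : Set (Matrix.ProjectiveSpecialLinearGroup (Fin 2) F))).index) =
        {1, (Fintype.card F ^ 2 - 1) / 2, Fintype.card F * (Fintype.card F + 1) / 2,
          Fintype.card F * (Fintype.card F - 1), Fintype.card F * (Fintype.card F + 1)}) ∧
    (Fintype.card F % 4 = 3 →
      Set.range (fun g : (Matrix.ProjectiveSpecialLinearGroup (Fin 2) F) => (Subgroup.centralizer ({g} : Set (Matrix.ProjectiveSpecialLinearGroup (Fin 2) F))).index) =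
        {1, (Fintype.card F ^ 2 - 1) / 2, Fintype.card F * (Fintype.card F - 1) / 2,
          Fintype.card F * (Fintype.card F + 1), Fintype.card F * (Fintype.card F - 1)}) := by
  classical
  obtain ⟨E, _, _, f, hE, hQC⟩ := Moebius.exists_quadExt F
  have ho : Odd (Fintype.card F) := Nat.odd_iff.2 (by omega)
  set q := Fintype.card F with hq
  have hd := Moebius.gcd_two_of_odd (F := F) ho
  have hG := Moebius.card_psl_two_split (F := F)
  rw [hd, ← hq] at hG
  have h4 : 4 ≤ q := by omega
  obtain ⟨j, hj⟩ := ho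
  have hidx : ∀ g : Matrix.ProjectiveSpecialLinearGroup (Fin 2) F, 2 * ((Subgroup.centralizer ({g} : Set _)).index *
      Nat.card (Subgroup.centralizer ({g} : Set (Matrix.ProjectiveSpecialLinearGroup (Fin 2) F)))) =
      (q + 1) * (q * (q - 1)) := fun g => by rw [Subgroup.index_mul_card, hG]
  have hsq : q ^ 2 - 1 = (q + 1) * (q - 1) := by rw [← Nat.sq_sub_sq, one_pow]
  have val : ∀ g : Matrix.ProjectiveSpecialLinearGroup (Fin 2) F, g ≠ 1 →
      (Nat.card (Subgroup.centralizer ({g} : Set _)) = q ∧ (Subgroup.centralizer ({g} : Set _)).index = (q ^ 2 - 1) / 2) ∨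
      ∃ k, (2 * k = q - 1 ∨ 2 * k = q + 1) ∧ orderOf g ∣ k ∧
        (orderOf g = 2 ∧ Even k ∧ ((Subgroup.centralizer ({g} : Set _)).index = if 2 * k = q - 1 then q * (q + 1) / 2 else q * (q - 1) / 2) ∨
          orderOf g ≠ 2 ∧ ((Subgroup.centralizer ({g} : Set _)).index = if 2 * k = q - 1 then q * (q + 1) else q * (q - 1))) := by
    intro g hg
    have h := hidx g
    rcases Moebius.card_centralizer_cases f hE hQC h4 g hg with e | ⟨k, hk, hdvd, hinv, hne⟩
    · left
      rw [e, ← hq] at h
      refine ⟨e, (Nat.div_eq_of_eq_mul_left two_pos ?_).symm⟩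
      refine Nat.eq_of_mul_eq_mul_right (show 0 < q by omega) ?_
      rw [hsq]; linarith
    · right
      rw [hd, ← hq] at hk
      refine ⟨k, hk, hdvd, ?_⟩
      by_cases hgg : g * g = 1
      · left
        have h2' : orderOf g = 2 := orderOf_eq_prime (by rw [sq]; exact hgg) hg
        rw [hinv hgg] at h
        refine ⟨h2', even_iff_two_dvd.2 (h2' ▸ hdvd), ?_⟩
        split_ifs with h1
        · rw [h1] at h
          refine (Nat.div_eq_of_eq_mul_left two_pos ?_).symm
          exact Nat.eq_of_mul_eq_mul_right (show 0 < q - 1 by omega) (by linarith)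
        · rw [hk.resolve_left h1] at h
          refine (Nat.div_eq_of_eq_mul_left two_pos ?_).symm
          exact Nat.eq_of_mul_eq_mul_right (show 0 < q + 1 by omega) (by linarith)
      · right
        refine ⟨fun e => hgg ?_, ?_⟩
        · have := pow_orderOf_eq_one g
          rwa [e, sq] at this
        · rw [hne hgg, mul_left_comm] at h
          split_ifs with h1
          · rw [h1] at h
            exact Nat.eq_of_mul_eq_mul_right (show 0 < q - 1 by omega) (by linarith)
          · rw [hk.resolve_left h1] at h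
            exact Nat.eq_of_mul_eq_mul_right (show 0 < q + 1 by omega) (by linarith)
  have mem : ∀ g : Matrix.ProjectiveSpecialLinearGroup (Fin 2) F,
      orderOf g ∣ Nat.card (Subgroup.centralizer ({g} : Set (Matrix.ProjectiveSpecialLinearGroup (Fin 2) F))) := by
    intro g
    rw [← Subgroup.orderOf_mk g (Subgroup.mem_centralizer_singleton_iff.2 rfl)]
    exact orderOf_dvd_natCard _
  have one : (Subgroup.centralizer ({1} : Set (Matrix.ProjectiveSpecialLinearGroup (Fin 2) F))).index = 1 := by
    rw [Subgroup.index_eq_one, Subgroup.eq_top_iff']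
    exact fun x => Subgroup.mem_centralizer_singleton_iff.2 (by simp)
  have uni : ∃ g : Matrix.ProjectiveSpecialLinearGroup (Fin 2) F,
      (Subgroup.centralizer ({g} : Set _)).index = (q ^ 2 - 1) / 2 := by
    obtain ⟨g, hg, hc⟩ := Moebius.exists_unipotent_centralizer f hE hQC
    refine ⟨g, (Nat.div_eq_of_eq_mul_left two_pos ?_).symm⟩
    have h := hidx g
    rw [hc, ← hq] at h
    refine Nat.eq_of_mul_eq_mul_right (show 0 < q by omega) ?_
    rw [hsq]; linarith
  have noq : ∀ n, 2 ≤ n → (n ∣ q - 1 ∨ n ∣ q + 1) → ¬ n ∣ q := by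
    intro n hn hn' hnq
    have h1 : n ∣ 1 := by
      rcases hn' with h | h
      · have := Nat.dvd_sub hnq h
        rwa [show q - (q - 1) = 1 by omega] at this
      · have := Nat.dvd_sub h hnq
        rwa [show q + 1 - q = 1 by omega] at this
    have := Nat.le_of_dvd one_pos h1
    omega
  have tor : ∀ k, (2 * k = q - 1 ∨ 2 * k = q + 1) → ∃ g : Matrix.ProjectiveSpecialLinearGroup (Fin 2) F,
      (Subgroup.centralizer ({g} : Set _)).index = if 2 * k = q - 1 then q * (q + 1) else q * (q - 1) := by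
    intro k hk
    obtain ⟨g, hg⟩ := Moebius.exists_psl_of_dvd f hE hQC h4 (k := k) dvd_rfl (by rw [hd]; exact hk)
    refine ⟨g, ?_⟩
    rcases val g (fun e => by rw [e, orderOf_one] at hg; omega) with ⟨e, -⟩ | ⟨k', hk', hdvd, ⟨h2', -⟩ | ⟨-, e⟩⟩
    · exact absurd (e ▸ hg ▸ mem g) (noq k (by omega) (hk.imp (fun h => ⟨2, by omega⟩) (fun h => ⟨2, by omega⟩)))
    · omega
    · rw [hg] at hdvd
      obtain rfl : k = k' := by
        obtain ⟨c, hc⟩ := hdvd
        rcases c with - | - | c
        · omega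
        · omega
        · have : k * 2 ≤ k * (c + 1 + 1) := Nat.mul_le_mul_left _ (by omega)
          omega
      exact e
  have inv : ∀ k, (2 * k = q - 1 ∨ 2 * k = q + 1) → Even k → ∃ g : Matrix.ProjectiveSpecialLinearGroup (Fin 2) F,
      (Subgroup.centralizer ({g} : Set _)).index = if 2 * k = q - 1 then q * (q + 1) / 2 else q * (q - 1) / 2 := by
    intro k hk hev
    obtain ⟨g, hg⟩ := Moebius.exists_psl_of_dvd f hE hQC h4 (k := k) (even_iff_two_dvd.1 hev) (by rw [hd]; exact hk)
    refine ⟨g, ?_⟩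
    rcases val g (fun e => by rw [e, orderOf_one] at hg; omega) with ⟨e, -⟩ | ⟨k', hk', -, ⟨-, hev', e⟩ | ⟨hne, -⟩⟩
    · have hd2 : 2 ∣ q := by have h := mem g; rwa [hg, e] at h
      omega
    · rw [Nat.even_iff] at hev hev'
      obtain rfl : k = k' := by omega
      exact e
    · exact absurd hg hne
  constructor <;> intro hmod <;> ext i <;> simp only [Set.mem_range, Set.mem_insert_iff, Set.mem_singleton_iff] <;>
    constructor
  · rintro ⟨g, rfl⟩
    by_cases hg : g = 1
    · left; rw [hg]; exact one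
    rcases val g hg with ⟨-, e⟩ | ⟨k, hk, -, ⟨-, hev, e⟩ | ⟨-, e⟩⟩
    · exact Or.inr (Or.inl e)
    · rw [Nat.even_iff] at hev
      rw [if_pos (by omega)] at e
      exact Or.inr (Or.inr (Or.inl e))
    · right; right; right
      split_ifs at e with h1
      · exact Or.inr e
      · exact Or.inl e
  · rintro (rfl | rfl | rfl | rfl | rfl)
    · exact ⟨1, one⟩
    · exact uni
    · obtain ⟨g, e⟩ := inv ((q - 1) / 2) (Or.inl (by omega)) (Nat.even_iff.2 (by omega))
      rw [if_pos (by omega)] at e
      exact ⟨g, e⟩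
    · obtain ⟨g, e⟩ := tor ((q + 1) / 2) (Or.inr (by omega))
      rw [if_neg (by omega)] at e
      exact ⟨g, e⟩
    · obtain ⟨g, e⟩ := tor ((q - 1) / 2) (Or.inl (by omega))
      rw [if_pos (by omega)] at e
      exact ⟨g, e⟩
  · rintro ⟨g, rfl⟩
    by_cases hg : g = 1
    · left; rw [hg]; exact one
    rcases val g hg with ⟨-, e⟩ | ⟨k, hk, -, ⟨-, hev, e⟩ | ⟨-, e⟩⟩
    · exact Or.inr (Or.inl e)
    · rw [Nat.even_iff] at hev
      rw [if_neg (by omega)] at e
      exact Or.inr (Or.inr (Or.inl e))
    · right; right; right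
      split_ifs at e with h1
      · exact Or.inl e
      · exact Or.inr e
  · rintro (rfl | rfl | rfl | rfl | rfl)
    · exact ⟨1, one⟩
    · exact uni
    · obtain ⟨g, e⟩ := inv ((q + 1) / 2) (Or.inr (by omega)) (Nat.even_iff.2 (by omega))
      rw [if_neg (by omega)] at e
      exact ⟨g, e⟩
    · obtain ⟨g, e⟩ := tor ((q - 1) / 2) (Or.inl (by omega))
      rw [if_pos (by omega)] at e
      exact ⟨g, e⟩
    · obtain ⟨g, e⟩ := tor ((q + 1) / 2) (Or.inr (by omega))
      rw [if_neg (by omega)] at e
      exact ⟨g, e⟩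
end Cfsg.Agent.S2508
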