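import Cfsg.Statements.S4217
import Mathlib
import Cfsg.Agent.Lib.Solvable.Gaschutz

set_option autoImplicit false
open Cfsg
open scoped Pointwise
set_option linter.style.haveILetI false

namespace Cfsg.Agent.S4217

open scoped IsMulCommutative

variable {G : Type*} [Group G] {K : Subgroup G} [K.Normal] [IsMulCommutative K]

open Subgroup in
/-- Averaging a complement of `K` in `U` over the cosets of `U`. -/
theorem exists_cocycle_index [Finite G] {U A : Subgroup G} (hKU : K ≤ U)
    (hAK : A ⊓ K = ⊥) (hKA : K ⊔ A = U) :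
    ∃ c : G → K, (∀ g h, c (g * h) = c g * MulAut.conjNormal g (c h)) ∧ ∀ k : K, c k = k ^ U.index := by
  classical
  have : Fintype (G ⧸ U) := Fintype.ofFinite _
  have hu : ∀ (g : G) (q : G ⧸ U), ∃ k : K, (k : G)⁻¹ * ((g • q).out⁻¹ * g * q.out) ∈ A := by
    intro g q
    have h1 : (g • q).out⁻¹ * g * q.out ∈ U := by
      rw [mul_assoc, ← QuotientGroup.eq, QuotientGroup.out_eq']
      exact (congrArg (g • ·) (QuotientGroup.out_eq' q)).symm
    replace h1 : (g • q).out⁻¹ * g * q.out ∈ K ⊔ A := hKA.symm.le h1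
    obtain ⟨k, hk, a, ha, e⟩ := CfsgLib.Solvable.exists_mul_of_mem_sup h1
    exact ⟨⟨k, hk⟩, by rw [e, inv_mul_cancel_left]; exact ha⟩
  choose κ hκ using hu
  refine ⟨fun g => ∏ q, MulAut.conjNormal (g • q).out (κ g q), fun g h => ?_, fun k => ?_⟩
  · simp only [map_prod]
    rw [← Equiv.prod_comp (MulAction.toPerm h) fun q => MulAut.conjNormal (g • q).out (κ g q),
      ← Finset.prod_mul_distrib]
    refine Finset.prod_congr rfl fun q _ => ?_
    change MulAut.conjNormal ((g * h) • q).out (κ (g * h) q) =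
      MulAut.conjNormal (g • h • q).out (κ g (h • q)) *
        MulAut.conjNormal g (MulAut.conjNormal (h • q).out (κ h q))
    rw [mul_smul]
    obtain ⟨a', ha', e'⟩ : ∃ a' ∈ A, (g • h • q).out⁻¹ * g * (h • q).out = κ g (h • q) * a' :=
      ⟨_, hκ g (h • q), (mul_inv_cancel_left _ _).symm⟩
    obtain ⟨a, ha, e⟩ : ∃ a ∈ A, (h • q).out⁻¹ * h * q.out = κ h q * a :=
      ⟨_, hκ h q, (mul_inv_cancel_left _ _).symm⟩
    have hκ' : κ (g * h) q = κ g (h • q) * MulAut.conjNormal a' (κ h q) := by
      refine CfsgLib.Solvable.eq_of_mul_eq_of_inf_eq_bot hAK (hκ (g * h) q) (mul_mem ha' ha) ?_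
      rw [mul_inv_cancel_left, Subgroup.coe_mul, MulAut.conjNormal_apply, mul_smul]
      calc (g • h • q).out⁻¹ * (g * h) * q.out
          = ((g • h • q).out⁻¹ * g * (h • q).out) * ((h • q).out⁻¹ * h * q.out) := by group
        _ = (κ g (h • q) * a') * (κ h q * a) := by rw [e', e]
        _ = _ := by group
    rw [hκ', map_mul]
    congr 1
    rw [← MulAut.mul_apply, ← map_mul, ← MulAut.mul_apply, ← map_mul]
    have e2 : g * (h • q).out = (g • h • q).out * (κ g (h • q) * a') := by
      rw [← e']; group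
    rw [e2, map_mul, map_mul, map_mul]
    simp only [MulAut.mul_apply, CfsgLib.Solvable.conjNormal_of_mem (κ g (h • q)).2]
  · have h1 : ∀ q : G ⧸ U, (k : G) • q = q := by
      intro q
      induction q using QuotientGroup.induction_on with
      | _ x =>
        rw [MulAction.Quotient.smul_coe, smul_eq_mul, QuotientGroup.eq]
        have h2 : (x⁻¹ * (k : G)⁻¹ * x) ∈ U :=
          hKU (by simpa using Subgroup.Normal.conj_mem ‹K.Normal› _ (inv_mem k.2) x⁻¹)
        simpa [mul_assoc] using h2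
    rw [U.index_eq_card, Nat.card_eq_fintype_card, ← Finset.card_univ, ← Finset.prod_const]
    refine Finset.prod_congr rfl fun q _ => ?_
    have h3 : κ (k : G) q = MulAut.conjNormal (q.out)⁻¹ k := by
      refine CfsgLib.Solvable.eq_of_mul_eq_of_inf_eq_bot hAK (hκ (k : G) q) (one_mem A) ?_
      rw [mul_inv_cancel_left, h1, MulAut.conjNormal_apply, inv_inv, mul_one]
    rw [h1, h3, ← MulAut.mul_apply, ← map_mul, mul_inv_cancel, map_one, MulAut.one_apply]

/-- The exponents by which crossed homomorphisms act on `K`. -/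
def cocycleExps (K : Subgroup G) [K.Normal] [IsMulCommutative K] : AddSubgroup ℤ where
  carrier := {m | ∃ c : G → K, (∀ g h, c (g * h) = c g * MulAut.conjNormal g (c h)) ∧ ∀ k : K, c k = k ^ m}
  zero_mem' := ⟨1, fun g h => by simp, fun k => by simp⟩
  add_mem' := by
    rintro a b ⟨c, hc, hc'⟩ ⟨d, hd, hd'⟩
    exact ⟨c * d, fun g h => by simp only [Pi.mul_apply, hc, hd, map_mul]; exact mul_mul_mul_comm _ _ _ _,
      fun k => by simp [hc', hd', zpow_add]⟩
  neg_mem' := by
    rintro a ⟨c, hc, hc'⟩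
    exact ⟨c⁻¹, fun g h => by simp only [Pi.inv_apply, hc, map_inv]; exact mul_inv _ _,
      fun k => by simp [hc', zpow_neg]⟩

theorem index_mem_cocycleExps [Finite G] {U A : Subgroup G} (hKU : K ≤ U)
    (hAK : A ⊓ K = ⊥) (hKA : K ⊔ A = U) : (U.index : ℤ) ∈ cocycleExps K := by
  obtain ⟨c, hc, hc'⟩ := exists_cocycle_index hKU hAK hKA
  exact ⟨c, hc, fun k => by rw [hc', zpow_natCast]⟩

/-- Let `A` be an abelian normal subgroup of the finite group `G`. Then `A` has a complement in `G` if and only if, for every prime `p` dividing the index of `A`, there are a Sylow `p`-subgroup `S` of `G/A` and a subgroup `K` of `G` with `K ∩ A = 1` and `KA` equal to the preimage of `S` (that is, `A` has a complement in the preimage of a Sylow `p`-subgroup of `G/A`). -/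
theorem result {G : Type*} [Group G] [Finite G] (A : Subgroup G) [A.Normal] (hA : IsMulCommutative A) : (∃ K : Subgroup G, K.IsComplement' A) ↔ ∀ p : ℕ, p.Prime → p ∣ A.index → ∃ (S : Sylow p (G ⧸ A)) (K : Subgroup G), K ⊓ A = ⊥ ∧ K ⊔ A = (S : Subgroup (G ⧸ A)).comap (QuotientGroup.mk' A) := by
  have := hA
  constructor
  · rintro ⟨K, hK⟩ p hp -
    have : Fact p.Prime := ⟨hp⟩
    let S : Sylow p (G ⧸ A) := default
    refine ⟨S, K ⊓ (S : Subgroup (G ⧸ A)).comap (QuotientGroup.mk' A), ?_, ?_⟩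
    · rw [inf_right_comm, disjoint_iff.1 hK.disjoint, bot_inf_eq]
    · refine le_antisymm (sup_le inf_le_right
        ((QuotientGroup.ker_mk' A).ge.trans (Subgroup.ker_le_comap _ _))) fun x hx => ?_
      obtain ⟨⟨k, a⟩, hka, -⟩ := Subgroup.IsComplement.existsUnique hK x
      simp only at hka
      have ha : (a : G) ∈ (S : Subgroup (G ⧸ A)).comap (QuotientGroup.mk' A) :=
        (Subgroup.ker_le_comap _ _) ((QuotientGroup.ker_mk' A).ge a.2)
      rw [← hka] at hx ⊢
      refine Subgroup.mul_mem_sup ⟨k.2, ?_⟩ a.2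
      have := Subgroup.mul_mem _ hx (Subgroup.inv_mem _ ha)
      rwa [mul_inv_cancel_right] at this
  · intro h
    obtain ⟨d, hd⟩ := Int.subgroup_cyclic (cocycleExps A)
    have hdvd : ∀ m ∈ cocycleExps A, d ∣ m := by
      intro m hm
      rw [hd, AddSubgroup.mem_closure_singleton] at hm
      obtain ⟨k, rfl⟩ := hm
      exact Dvd.intro_left k (by rw [smul_eq_mul])
    suffices h1 : (1 : ℤ) ∈ cocycleExps A by
      obtain ⟨c, hc, hc'⟩ := h1
      obtain ⟨H, hH⟩ := CfsgLib.Solvable.exists_isComplement'_of_cocycle c 1 (Nat.coprime_one_right _) hc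
        (fun k => by rw [hc', zpow_one, pow_one])
      exact ⟨H, hH.symm⟩
    rcases eq_or_ne A.index 1 with hi | hi
    · refine ⟨fun g => ⟨g, (Subgroup.index_eq_one.1 hi).ge trivial⟩, fun g h => ?_, fun k => ?_⟩
      · apply Subtype.ext
        have : g * h * g⁻¹ = h := by
          have := congrArg Subtype.val (mul_comm' (⟨g, (Subgroup.index_eq_one.1 hi).ge trivial⟩ : A)
            ⟨h, (Subgroup.index_eq_one.1 hi).ge trivial⟩)
          simp only [Subgroup.coe_mul] at this
          rw [this, mul_inv_cancel_right]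
        simp [this]
      · simp
    by_contra hne
    have key : ∀ p : ℕ, p.Prime → p ∣ A.index → ¬ ((p : ℤ) ∣ d) := by
      intro p hp hpi hpd
      have : Fact p.Prime := ⟨hp⟩
      obtain ⟨S, K, hK1, hK2⟩ := h p hp hpi
      have hm := hdvd _ (index_mem_cocycleExps
        ((QuotientGroup.ker_mk' A).ge.trans (Subgroup.ker_le_comap _ _)) hK1 (by rw [sup_comm]; exact hK2))
      have h2 := Int.natCast_dvd_natCast.1 (hpd.trans hm)
      rw [Subgroup.index_comap_of_surjective _ (QuotientGroup.mk'_surjective A)] at h2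
      exact S.not_dvd_index h2
    obtain ⟨p0, hp0, hp0i⟩ := Nat.exists_prime_and_dvd hi
    have hidx : (A.index : ℤ) ∈ cocycleExps A :=
      index_mem_cocycleExps (U := A) (A := ⊥) le_rfl (bot_inf_eq _) (sup_bot_eq _)
    have hd1 : d.natAbs ≠ 1 := by
      intro h1
      apply hne
      rw [hd, AddSubgroup.mem_closure_singleton]
      exact ⟨d, by rw [smul_eq_mul, ← Int.natAbs_mul_self, h1]; rfl⟩
    obtain ⟨q, hq, hqd⟩ := Nat.exists_prime_and_dvd hd1
    refine key q hq ?_ (Int.natCast_dvd.2 hqd)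
    exact Int.natCast_dvd_natCast.1 ((Int.natCast_dvd.2 hqd).trans (hdvd _ hidx))

end Cfsg.Agent.S4217
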