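import Cfsg.Statements.S3050
import Cfsg.Agent.Lib.Amalgam.HigmanSL2Group


set_option autoImplicit false
open Cfsg Matrix Subgroup CfsgLib.Amalgam.Higman

namespace Cfsg.Agent.S3050

/-- Let G be a finite group with a normal 2-subgroup Q such that G/Q is isomorphic to SL(2, 2ⁿ) with n ≥ 2, and suppose some element of G of order 3 fixes no nonidentity element of Q under conjugation. Then Q is elementary abelian and is the direct product of normal subgroups of G on each of which G acts as SL(2, 2ⁿ) acts on its natural two-dimensional module (a Galois twist of the natural action allowed). -/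
theorem result {G : Type*} [Group G] [Finite G]
    (Q : Subgroup G) [Q.Normal] (hQ : IsPGroup 2 ↥Q) (n : ℕ) (hn : 2 ≤ n)
    (K : Type*) [Field K] [Fintype K] (hK : Fintype.card K = 2 ^ n)
    (e : G ⧸ Q ≃* Matrix.SpecialLinearGroup (Fin 2) K)
    (x : G) (hx : orderOf x = 3) (hfpf : ∀ q ∈ Q, x * q * x⁻¹ = q → q = 1) :
    Cfsg.IsElementaryAbelian 2 Q ∧
      ∃ (k : ℕ) (V : Fin k → Subgroup G), (∀ i, V i ≤ Q ∧ (V i).Normal ∧
        Cfsg.ActsAsSL2OnSection K ⊤ ⊤ (V i) ⊥) ∧ iSupIndep V ∧ ⨆ i, V i = Q := by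
  classical
  haveI : Fact (Nat.Prime 2) := ⟨Nat.prime_two⟩
  haveI : CharP K 2 := charP_of_card_eq_prime_pow hK
  have hK4 : 3 < Fintype.card K :=
    hK ▸ lt_of_lt_of_le (by norm_num : 3 < 2 ^ 2) (Nat.pow_le_pow_right (by norm_num) hn)
  -- move the image of `x` to the standard element of order three
  have hx3 : x * x * x = 1 := by rw [← pow_three', ← hx, pow_orderOf_eq_one]
  have hxQ : x ∉ Q := fun hxm => by
    obtain ⟨k, hk⟩ := hQ ⟨x, hxm⟩
    have h1 : x ^ 2 ^ k = 1 := congrArg Subtype.val hk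
    have h2 := orderOf_dvd_of_pow_eq_one h1
    rw [hx] at h2
    have := Nat.Prime.dvd_of_dvd_pow Nat.prime_three h2
    omega
  obtain ⟨P, hP⟩ := exists_conj_x (M := e (QuotientGroup.mk' Q x))
    (by rw [← map_mul, ← map_mul, ← map_mul, ← map_mul, hx3, map_one, map_one])
    (fun h => hxQ ((QuotientGroup.eq_one_iff x).1 (e.injective (h.trans (map_one e).symm))))
  let e' := e.trans (MulAut.conj P⁻¹)
  have hex : e' (QuotientGroup.mk' Q x) = U 1 * W K := by
    show P⁻¹ * e (QuotientGroup.mk' Q x) * P⁻¹⁻¹ = _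
    rw [inv_inv, hP]
  obtain ⟨hab, hsq⟩ := elementary hK4 _ G rfl Q hQ e' x hex hfpf
  refine ⟨⟨⟨⟨fun a b => Subtype.ext (hab _ a.2 _ b.2)⟩⟩, fun a ha => by rw [sq]; exact hsq a ha⟩, ?_⟩
  let _ : CommGroup ↥Q :=
    { (inferInstance : Group ↥Q) with mul_comm := fun a b => Subtype.ext (hab _ a.2 _ b.2) }
  have hQc : Q ≤ centralizer (Q : Set G) := fun a ha =>
    mem_centralizer_iff.2 fun b hb => hab b hb a ha
  haveI : Finite (Mod (phi e' Q hQc)) := inferInstanceAs (Finite (Additive ↥Q))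
  obtain ⟨k, ι, co, hι, hco, hsum⟩ := exists_decomp (V := Mod (phi e' Q hQc))
    (fpf_mod (phi_fpf e' Q hQc le_rfl hex hfpf)) hK4
    (fun v => Subtype.ext (hsq _ (Additive.toMul (α := ↥Q) v).2))
  let j : Fin k → Multiplicative (Fin 2 → K) →* G := fun i =>
    Q.subtype.comp (AddMonoidHom.toMultiplicativeLeft (α := Fin 2 → K) (β := ↥Q) (ι i))
  have hjval : ∀ i v, j i v = ((Additive.toMul (α := ↥Q) (ι i v.toAdd) : ↥Q) : G) := fun i v => rfl
  have hjinj : ∀ i, Function.Injective (j i) := by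
    intro i u v h
    rw [hjval, hjval] at h
    have h' := congrArg (co i) (show ι i u.toAdd = ι i v.toAdd from Subtype.ext h)
    rw [hco, hco, if_pos rfl] at h'
    simpa using h'
  have hjconj : ∀ i (g : G) (v : Multiplicative (Fin 2 → K)), g * j i v * g⁻¹ =
      j i (Multiplicative.ofAdd ((e' (QuotientGroup.mk' Q g)).1.mulVec v.toAdd)) := by
    intro i g v
    rw [hjval, hjval, toAdd_ofAdd, hι]
    exact (phi_apply e' Q hQc g _).symm
  refine ⟨k, fun i => (j i).range, fun i => ⟨?_, ?_, ?_⟩, ?_, ?_⟩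
  · rintro _ ⟨v, rfl⟩; exact SetLike.coe_mem _
  · constructor
    rintro _ ⟨v, rfl⟩ g
    exact ⟨_, (hjconj i g v).symm⟩
  · refine ⟨fun g _ => ?_, bot_le,
      (e'.toMonoidHom.comp (QuotientGroup.mk' Q)).comp (⊤ : Subgroup G).subtype,
      (MonoidHom.ofInjective (hjinj i)).symm.toMonoidHom, ?_, ?_, ?_, ?_⟩
    · refine mem_normalizer_iff.2 fun u => ⟨?_, ?_⟩
      · rintro ⟨v, rfl⟩; exact ⟨_, (hjconj i g v).symm⟩
      · rintro ⟨v, hv⟩
        refine ⟨_, (hjconj i g⁻¹ v).symm.trans ?_⟩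
        rw [hv]; group
    · rw [MonoidHom.range_eq_top]
      intro y
      obtain ⟨g, hg⟩ := QuotientGroup.mk'_surjective Q (e'.symm y)
      exact ⟨⟨g, mem_top g⟩, by
        show e' (QuotientGroup.mk' Q g) = y
        rw [hg, e'.apply_symm_apply]⟩
    · exact (MonoidHom.ofInjective (hjinj i)).symm.surjective
    · intro u
      rw [Subgroup.mem_bot]
      show (MonoidHom.ofInjective (hjinj i)).symm u = 1 ↔ _
      rw [MulEquiv.map_eq_one_iff, Subtype.ext_iff]
      rfl
    · rintro g u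
      obtain ⟨v, rfl⟩ := (MonoidHom.ofInjective (hjinj i)).surjective u
      refine ⟨MonoidHom.ofInjective (hjinj i)
        (Multiplicative.ofAdd ((e' (QuotientGroup.mk' Q (g : G))).1.mulVec v.toAdd)), ?_, ?_⟩
      · exact (hjconj i g v).symm
      · show Multiplicative.toAdd ((MonoidHom.ofInjective (hjinj i)).symm _) =
          Matrix.mulVec _ (Multiplicative.toAdd ((MonoidHom.ofInjective (hjinj i)).symm _))
        rw [MulEquiv.symm_apply_apply, MulEquiv.symm_apply_apply]
        rfl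
  · intro i
    rw [disjoint_iff, eq_bot_iff]
    intro g hg
    obtain ⟨⟨v, rfl⟩, hg2⟩ := mem_inf.1 hg
    have hle : (⨆ (l : Fin k) (_ : l ≠ i), (j l).range) ≤
        ((AddMonoidHom.toMultiplicativeRight (α := ↥Q) (β := Fin 2 → K) (co i)).ker).map Q.subtype := by
      refine iSup₂_le fun l hl => ?_
      rintro _ ⟨w, rfl⟩
      refine ⟨Additive.toMul (α := ↥Q) (ι l w.toAdd), ?_, rfl⟩
      show Multiplicative.ofAdd (co i (ι l w.toAdd)) = 1
      rw [hco, if_neg (Ne.symm hl)]; rfl
    obtain ⟨q, hq, hqv⟩ := hle hg2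
    have hq' : co i (Additive.ofMul q) = 0 := hq
    have h1 : (Additive.ofMul q : Additive ↥Q) = ι i v.toAdd := Subtype.ext hqv
    rw [h1, hco, if_pos rfl] at hq'
    rw [show v = 1 from hq', map_one]
    exact one_mem _
  · refine le_antisymm (iSup_le fun i => ?_) fun q hq => ?_
    · rintro _ ⟨v, rfl⟩; exact SetLike.coe_mem _
    · let toG : Mod (phi e' Q hQc) → G := fun v => ((Additive.toMul (α := ↥Q) v : ↥Q) : G)
      set u : Mod (phi e' Q hQc) := Mod.of (phi e' Q hQc) ⟨q, hq⟩ with hu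
      have hmem : ∀ s : Finset (Fin k), toG (∑ i ∈ s, ι i (co i u)) ∈ ⨆ i, (j i).range := by
        intro s
        induction s using Finset.induction with
        | empty => rw [Finset.sum_empty]; exact one_mem _
        | insert a s ha ih =>
          rw [Finset.sum_insert ha]
          exact mul_mem (le_iSup (fun i => (j i).range) a ⟨Multiplicative.ofAdd (co a u), rfl⟩) ih
      have := hmem Finset.univ
      rw [hsum] at this
      exact this

end Cfsg.Agent.S3050
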