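import Cfsg.Statements.S1475
import Cfsg.Agent.Lib.OddLocal.FrobAct
import Cfsg.Agent.Lib.Solvable.Hall
import Cfsg.Agent.Lib.Solvable.MinNormal
import Mathlib.GroupTheory.Perm.Cycle.Type

set_option autoImplicit false
open Cfsg

namespace Cfsg.Agent.S1475

theorem not_commute_of_orders {G : Type*} [Group G] [Finite G]
    (h : ∀ g : G, IsPrimePow (orderOf g) ∨ g = 1) {p q : ℕ} (hp : p.Prime) (hq : q.Prime) (hpq : p ≠ q)
    {x y : G} (hx : p ∣ orderOf x) (hy : q ∣ orderOf y) (hcop : (orderOf x).Coprime (orderOf y)) :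
    ¬ Commute x y := by
  intro hc
  have ho := hc.orderOf_mul_eq_mul_orderOf_of_coprime hcop
  rcases h (x * y) with h1 | h1
  · obtain ⟨r, k, hr, hk, hrk⟩ := h1
    rw [ho] at hrk
    have e1 : p = r := (Nat.prime_dvd_prime_iff_eq hp (Nat.prime_iff.mpr hr)).mp
      (hp.dvd_of_dvd_pow (hrk ▸ hx.mul_right _))
    have e2 : q = r := (Nat.prime_dvd_prime_iff_eq hq (Nat.prime_iff.mpr hr)).mp
      (hq.dvd_of_dvd_pow (hrk ▸ hy.mul_left _))
    exact hpq (e1.trans e2.symm)
  · rw [h1, orderOf_one] at ho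
    have h2 := Nat.eq_one_of_mul_eq_one_right ho.symm
    rw [h2] at hx
    exact hp.ne_one (Nat.dvd_one.mp hx)


/-- Let G be a finite solvable group such that the order of every element is a prime power (1 included). Then at most two distinct primes divide the order of G. -/
theorem result {G : Type*} [Group G] [Finite G] [Group.IsSolvable G] (h : ∀ g : G, IsPrimePow (orderOf g) ∨ g = 1) :
    (Nat.card G).primeFactors.card ≤ 2 := by
  by_contra hcard
  have : Nontrivial G := by
    by_contra hn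
    rw [not_nontrivial_iff_subsingleton] at hn
    rw [Nat.card_of_subsingleton (1 : G)] at hcard
    simp at hcard
  obtain ⟨N, hNn, hNne, hNmin⟩ := CfsgLib.Solvable.exists_minimal_normal (G := G)
  have := hNn
  obtain ⟨p, hp, hNp, -, hNc⟩ := CfsgLib.Solvable.exists_isPGroup_of_minimal_normal hNne hNmin
  haveI := Fact.mk hp
  obtain ⟨n, hn⟩ := IsPGroup.iff_card.mp hNp
  -- a Hall `p'`-subgroup
  obtain ⟨P⟩ : Nonempty (Sylow p G) := inferInstance
  have hPi : (Nat.card (P : Subgroup G)).Coprime (P : Subgroup G).index := by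
    obtain ⟨k, hk⟩ := IsPGroup.iff_card.mp P.2
    rw [hk]; exact Nat.Coprime.pow_left k (hp.coprime_iff_not_dvd.mpr P.not_dvd_index)
  obtain ⟨K, hK⟩ := CfsgLib.Solvable.exists_hall (G := G)
    (m := (P : Subgroup G).index) (n := Nat.card (P : Subgroup G))
    (by rw [mul_comm]; exact (Subgroup.card_mul_index _).symm) hPi.symm
  have hKp : ¬ p ∣ Nat.card K := hK ▸ P.not_dvd_index
  have hK1 : K ≠ ⊥ ∧ 2 ≤ (Nat.card K).primeFactors.card := by
    have h2 : 2 ≤ (Nat.card K).primeFactors.card := by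
      have hsub : (Nat.card G).primeFactors ⊆ insert p (Nat.card K).primeFactors := by
        intro r hr
        rw [Nat.mem_primeFactors] at hr
        rw [Finset.mem_insert, Nat.mem_primeFactors]
        by_cases hrp : r = p
        · exact Or.inl hrp
        · refine Or.inr ⟨hr.1, ?_, Nat.card_pos.ne'⟩
          have h1 := hr.2.1
          rw [← (P : Subgroup G).card_mul_index, ← hK] at h1
          rcases hr.1.dvd_mul.mp h1 with h | h
          · obtain ⟨k, hk⟩ := IsPGroup.iff_card.mp P.2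
            rw [hk] at h
            exact absurd ((Nat.prime_dvd_prime_iff_eq hr.1 hp).mp (hr.1.dvd_of_dvd_pow h)) hrp
          · exact h
      have := (Finset.card_le_card hsub).trans (Finset.card_insert_le _ _)
      omega
    refine ⟨fun hbot => ?_, h2⟩
    rw [hbot, Subgroup.card_bot] at h2
    simp at h2
  have : Nontrivial K := (Subgroup.nontrivial_iff_ne_bot K).mpr hK1.1
  obtain ⟨M, hMn, hMne, hMmin⟩ := CfsgLib.Solvable.exists_minimal_normal (G := K)
  have := hMn
  obtain ⟨q, hq, hMq, -, -⟩ := CfsgLib.Solvable.exists_isPGroup_of_minimal_normal hMne hMmin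
  haveI := Fact.mk hq
  obtain ⟨m, hm⟩ := IsPGroup.iff_card.mp hMq
  obtain ⟨r, hr, hrK, hrq⟩ : ∃ r, r.Prime ∧ r ∣ Nat.card K ∧ r ≠ q := by
    obtain ⟨a, ha, b, hb, hab⟩ := Finset.one_lt_card.mp hK1.2
    rw [Nat.mem_primeFactors] at ha hb
    by_cases h' : a = q
    · exact ⟨b, hb.1, hb.2.1, fun hbq => hab (h'.trans hbq.symm)⟩
    · exact ⟨a, ha.1, ha.2.1, h'⟩
  haveI := Fact.mk hr
  obtain ⟨y, hy⟩ := exists_prime_orderOf_dvd_card' (G := K) r hrK
  have hMG : Nat.card (M.map K.subtype) = Nat.card M := Subgroup.card_map_of_injective K.subtype_injective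
  have hKelt : ∀ x ∈ K, ¬ p ∣ orderOf x := fun x hx h =>
    hKp (h.trans (Subgroup.orderOf_dvd_natCard K hx))
  have hMord : ∀ x ∈ M.map K.subtype, x ≠ 1 → ∃ k, 0 < k ∧ orderOf x = q ^ k := by
    intro x hx hx1
    have := Subgroup.orderOf_dvd_natCard _ hx
    rw [hMG, hm] at this
    obtain ⟨k, -, hk⟩ := (Nat.dvd_prime_pow hq).mp this
    refine ⟨k, Nat.pos_of_ne_zero fun h0 => hx1 (orderOf_eq_one_iff.mp (by rw [hk, h0, pow_zero])), hk⟩
  have hVfree : ∀ x ∈ K, x ≠ 1 → ∀ v ∈ N, Commute x v → v = 1 := by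
    intro x hx hx1 v hv hc
    by_contra hv1
    obtain ⟨s, hs, hsd⟩ := Nat.exists_prime_and_dvd (fun h0 => hx1 (orderOf_eq_one_iff.mp h0))
    have hvd := Subgroup.orderOf_dvd_natCard N hv
    rw [hn] at hvd
    obtain ⟨k, -, hk⟩ := (Nat.dvd_prime_pow hp).mp hvd
    have hk0 : k ≠ 0 := fun h0 => hv1 (orderOf_eq_one_iff.mp (by rw [hk, h0, pow_zero]))
    refine not_commute_of_orders h hs hp (fun e => hKelt x hx (e ▸ hsd)) hsd
      (hk ▸ dvd_pow_self p hk0) ?_ hc
    rw [hk]
    exact Nat.Coprime.pow_right k (hp.coprime_iff_not_dvd.mpr (hKelt x hx)).symm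
  refine CfsgLib.OddLocal.no_fixedPointFree_frobenius (V := N) (hV := hNc) (M := M.map K.subtype)
    (y := (y : G)) hr (by rw [Subgroup.orderOf_coe]; exact hy) hNne ?_ ?_ ?_ ?_ ?_ ?_
  · rwa [Ne, Subgroup.map_eq_bot_iff_of_injective _ K.subtype_injective]
  · rw [Subgroup.mem_normalizer_iff]
    intro x
    constructor
    · rintro ⟨z, hz, rfl⟩
      exact ⟨y * z * y⁻¹, Subgroup.Normal.conj_mem hMn z hz y, rfl⟩
    · rintro ⟨z, hz, hzx⟩
      refine ⟨y⁻¹ * z * y, Subgroup.Normal.conj_mem' hMn z hz y, ?_⟩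
      show (y : G)⁻¹ * (z : G) * y = x
      rw [show (z : G) = y * x * (y : G)⁻¹ from hzx]
      group
  · rw [hMG, hn]
    exact Nat.Coprime.pow_right n ((hp.coprime_iff_not_dvd.mpr fun h' =>
      hKp (h'.trans (Subgroup.card_subgroup_dvd_card M))).symm)
  · intro i hi x hx hc
    by_contra hx1
    obtain ⟨k, hk0, hk⟩ := hMord x hx hx1
    have hyo : orderOf ((y : G) ^ i) = r := by
      have hd : orderOf ((y : G) ^ i) ∣ r := by
        have := orderOf_pow_dvd (x := (y : G)) i
        rwa [Subgroup.orderOf_coe, hy] at this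
      rcases (Nat.dvd_prime hr).mp hd with h' | h'
      · exact absurd (orderOf_dvd_of_pow_eq_one (orderOf_eq_one_iff.mp h'))
          (by rw [Subgroup.orderOf_coe, hy]; exact hi)
      · exact h'
    refine not_commute_of_orders h hr hq hrq (dvd_of_eq hyo.symm)
      (hk ▸ dvd_pow_self q hk0.ne') ?_ hc
    rw [hyo, hk]
    exact Nat.Coprime.pow_right k ((Nat.coprime_primes hr hq).mpr hrq)
  · intro x hx hx1
    exact hVfree x (Subgroup.map_subtype_le M hx) hx1
  · intro x hx
    have hxK := Subgroup.map_subtype_le M hx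
    refine hVfree _ (K.mul_mem (K.mul_mem hxK y.2) (K.inv_mem hxK)) fun h' => ?_
    have hy1 : (y : G) = 1 := by
      calc (y : G) = x⁻¹ * (x * y * x⁻¹) * x := by group
        _ = 1 := by rw [h']; group
    rw [← Subgroup.orderOf_coe, hy1, orderOf_one] at hy
    exact hr.ne_one hy.symm

end Cfsg.Agent.S1475
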