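import Cfsg.Statements.S3992
import Cfsg.Agent.Lib.StructC.PrimePowerOrders

set_option autoImplicit false
open Cfsg

namespace Cfsg.Agent.S3992

/-- Let G be a finite non-solvable group in which every element has prime-power order, and let R be its largest solvable normal subgroup. Then R is a p-group for some prime p; G/R has a non-abelian simple normal subgroup contained in every nontrivial normal subgroup of G/R (its unique minimal normal subgroup); and the order of every solvable subgroup of G has at most two prime divisors. -/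
theorem result {G : Type*} [Group G] [Finite G] (hns : ¬ Group.IsSolvable G) (hpp : ∀ g : G, g ≠ 1 → IsPrimePow (orderOf g))
    (R : Subgroup G) [R.Normal] (hRs : Group.IsSolvable ↥R) (hRmax : ∀ N : Subgroup G, N.Normal → Group.IsSolvable ↥N → N ≤ R) :
    (∃ p : ℕ, p.Prime ∧ IsPGroup p ↥R) ∧
      (∃ M : Subgroup (G ⧸ R), M.Normal ∧ IsSimpleGroup ↥M ∧ ¬ IsMulCommutative ↥M ∧
        ∀ N : Subgroup (G ⧸ R), N.Normal → N ≠ ⊥ → M ≤ N) ∧
      ∀ H : Subgroup G, Group.IsSolvable ↥H → (Nat.card ↥H).primeFactors.card ≤ 2 := by
  haveI := hRs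
  refine ⟨CfsgLib.StructC.PrimePowerOrders.isPGroup_radical hpp hns R, ?_, fun H hH => ?_⟩
  · refine CfsgLib.StructC.PrimePowerOrders.exists_socle
      (CfsgLib.StructC.PrimePowerOrders.pp_quotient hpp R) (fun hs => hns ?_) fun K hK hKs => ?_
    · exact Group.isSolvable_of_ker_le_range R.subtype (QuotientGroup.mk' R)
        (by rw [QuotientGroup.ker_mk', R.range_subtype])
    · have h1 : K.comap (QuotientGroup.mk' R) ≤ R := by
        refine hRmax _ (hK.comap _) ?_
        haveI := hKs
        refine Group.isSolvable_of_ker_le_range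
          (Subgroup.inclusion (show R ≤ K.comap (QuotientGroup.mk' R) from
            (QuotientGroup.ker_mk' R).ge.trans (MonoidHom.ker_le_comap _ K)))
          ((QuotientGroup.mk' R).subgroupComap K) ?_
        intro x hx
        refine ⟨⟨(x : G), ?_⟩, rfl⟩
        have := congrArg Subtype.val (MonoidHom.mem_ker.1 hx)
        exact (QuotientGroup.eq_one_iff (x : G)).1 this
      refine eq_bot_iff.2 fun c hc => ?_
      obtain ⟨g, rfl⟩ := QuotientGroup.mk'_surjective R c
      exact Subgroup.mem_bot.2 ((QuotientGroup.eq_one_iff g).2 (h1 hc))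
  · haveI := hH
    exact CfsgLib.StructC.PrimePowerOrders.primeFactors_le_two
      (CfsgLib.StructC.PrimePowerOrders.pp_subgroup hpp H)

end Cfsg.Agent.S3992
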