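import Cfsg.Statements.S3494
import Mathlib

set_option autoImplicit false
open Cfsg

namespace Cfsg.Agent.S3494

open scoped Pointwise in
open MulAction in
theorem manning_kernel_eq_one {G : Type*} [Group G] [Finite G] {Ω : Type*} [Fintype Ω] [Nontrivial Ω]
    [MulAction G Ω] [FaithfulSMul G Ω] [MulAction.IsPreprimitive G Ω]
    (hep : ∀ a b : Ω, IsPreprimitive (stabilizer G a) (orbit (stabilizer G a) b))
    {α ω : Ω} (hH : stabilizer G α ≠ ⊥) (hω : ω ≠ α) (h : G) (hh : h ∈ stabilizer G α)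
    (hfix : ∀ x ∈ orbit (stabilizer G α) ω, h • x = x) : h = 1 := by
  classical
  set S := stabilizer G α with hS
  set Γ := orbit S ω with hΓ
  have hΓinv : ∀ a ∈ S, ∀ z ∈ Γ, a • z ∈ Γ := by
    intro a ha z hz
    obtain ⟨b, rfl⟩ := hz
    exact ⟨⟨a, ha⟩ * b, mul_smul _ _ _⟩
  let K : Subgroup G :=
    { carrier := {k | k ∈ S ∧ ∀ z ∈ Γ, k • z = z}
      one_mem' := ⟨S.one_mem, fun z _ => one_smul G z⟩
      mul_mem' := fun {a b} ha hb => ⟨S.mul_mem ha.1 hb.1, fun z hz => by rw [mul_smul, hb.2 z hz, ha.2 z hz]⟩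
      inv_mem' := fun {a} ha => ⟨S.inv_mem ha.1, fun z hz => by rw [inv_smul_eq_iff, ha.2 z hz]⟩ }
  have hK : ∀ {k : G}, k ∈ K ↔ k ∈ S ∧ ∀ z ∈ Γ, k • z = z := Iff.rfl
  have hSK : ∀ a ∈ S, ∀ k ∈ K, a * k * a⁻¹ ∈ K := by
    intro a ha k hk
    refine ⟨S.mul_mem (S.mul_mem ha hk.1) (S.inv_mem ha), fun z hz => ?_⟩
    rw [mul_smul, mul_smul, hk.2 _ (hΓinv _ (S.inv_mem ha) z hz), smul_inv_smul]
  have hmax : IsCoatom S := IsPreprimitive.isCoatom_stabilizer_of_isPreprimitive (G := G) α
  obtain ⟨g, hg⟩ := exists_smul_eq G α ω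
  have hgS : g ∉ S := fun hgs => hω (hg.symm.trans hgs)
  -- K fixes the out-neighbourhood of ω
  have hfix2 : ∀ k ∈ K, ∀ z ∈ Γ, k • (g • z) = g • z := by
    by_contra hcon
    push Not at hcon
    obtain ⟨k₀, hk₀, z₀, hz₀, hmove⟩ := hcon
    set y := g • z₀ with hy
    have hωΓ : ω ∈ Γ := mem_orbit_self ω
    let N : Subgroup S := K.subgroupOf S
    haveI : N.Normal := ⟨fun n hn a => by
      rw [Subgroup.mem_subgroupOf] at hn ⊢
      simpa using hSK a a.2 n hn⟩
    haveI := hep α y
    have hNfix : fixedPoints N (orbit S y) ≠ Set.univ := by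
      intro hu
      have h1 : (⟨⟨k₀, hk₀.1⟩, (Subgroup.mem_subgroupOf.mpr hk₀ : (⟨k₀, hk₀.1⟩ : S) ∈ N)⟩ : N) •
          (⟨y, mem_orbit_self y⟩ : orbit S y) = ⟨y, mem_orbit_self y⟩ := by
        have hm : (⟨y, mem_orbit_self y⟩ : orbit S y) ∈ fixedPoints N (orbit S y) := hu ▸ Set.mem_univ _
        exact hm _
      exact hmove (congrArg (fun q : orbit S y => (q : Ω)) h1)
    haveI := IsQuasiPreprimitive.isPretransitive_of_normal (G := S) (X := orbit S y) (N := N) hNfix
    -- the suborbit of y lies in the out-neighbourhood of ω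
    have hΔ : ∀ a ∈ S, ∃ z ∈ Γ, a • y = g • z := by
      intro a ha
      obtain ⟨n, hn⟩ := exists_smul_eq N (⟨y, mem_orbit_self y⟩ : orbit S y)
        ⟨a • y, ⟨⟨a, ha⟩, rfl⟩⟩
      have hnK : (n.1.1 : G) ∈ K := n.2
      have hn' : (n.1.1 : G) • y = a • y := congrArg (fun q : orbit S y => (q : Ω)) hn
      have hc : g⁻¹ * n.1.1 * g ∈ S := by
        change (g⁻¹ * n.1.1 * g) • α = α
        rw [mul_smul, mul_smul, hg, hnK.2 ω hωΓ, ← hg, inv_smul_smul]
      refine ⟨(g⁻¹ * n.1.1 * g) • z₀, hΓinv _ hc _ hz₀, ?_⟩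
      rw [← hn', hy, smul_smul, smul_smul]
      congr 1
      group
    let T : Set Ω := {x | ∃ c : G, c • α = x ∧ ∃ z ∈ Γ, c • z = y}
    have hΓT : Γ ⊆ T := by
      rintro x ⟨a, rfl⟩
      obtain ⟨z, hz, hzy⟩ := hΔ _ (S.inv_mem a.2)
      refine ⟨a.1 * g, by rw [mul_smul, hg]; rfl, z, hz, ?_⟩
      rw [mul_smul, ← hzy, smul_inv_smul]
    -- T is a translate of the orbit of α under the stabiliser of ω
    obtain ⟨c, hc⟩ := exists_smul_eq G ω y
    have hT : T = (c • ·) '' orbit (stabilizer G ω) α := by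
      ext x
      constructor
      · rintro ⟨d, hd, z, ⟨a, rfl⟩, hz⟩
        refine ⟨(c⁻¹ * (d * a.1)) • α, ⟨⟨c⁻¹ * (d * a.1), ?_⟩, rfl⟩, ?_⟩
        · change (c⁻¹ * (d * a.1)) • ω = ω
          rw [mul_smul, mul_smul]
          change c⁻¹ • d • (a • ω) = ω
          rw [hz, ← hc, inv_smul_smul]
        · have ha : (a.1 : G) • α = α := a.2
          simp only [mul_smul, ha, hd, smul_inv_smul]
      · rintro ⟨_, ⟨b, rfl⟩, rfl⟩
        refine ⟨c * b.1, mul_smul _ _ _, ω, hωΓ, ?_⟩
        have hb : (b.1 : G) • ω = ω := b.2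
        rw [mul_smul, hb, hc]
    have hcard : T.ncard ≤ Γ.ncard := by
      rw [hT]
      refine le_trans Set.ncard_image_le ?_
      set U := stabilizer G ω
      have h1 : Γ.ncard * Nat.card (stabilizer S ω) = Nat.card S := by
        rw [← Nat.card_coe_set_eq, ← Nat.card_prod]
        exact Nat.card_congr (orbitProdStabilizerEquivGroup S ω)
      have h2 : (orbit U α).ncard * Nat.card (stabilizer U α) = Nat.card U := by
        rw [← Nat.card_coe_set_eq, ← Nat.card_prod]
        exact Nat.card_congr (orbitProdStabilizerEquivGroup U α)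
      have h3 : Nat.card S = Nat.card U := Nat.card_congr (stabilizerEquivStabilizer hg.symm).toEquiv
      have h4 : Nat.card (stabilizer S ω) = Nat.card (stabilizer U α) := Nat.card_congr
        { toFun := fun a => ⟨⟨a.1.1, a.2⟩, a.1.2⟩
          invFun := fun a => ⟨⟨a.1.1, a.2⟩, a.1.2⟩
          left_inv := fun a => rfl
          right_inv := fun a => rfl }
      rw [← h3, ← h4, ← h1] at h2
      exact (Nat.eq_of_mul_eq_mul_right Nat.card_pos h2).le
    have hΓeq : Γ = T := Set.eq_of_subset_of_ncard_le hΓT hcard (Set.toFinite _)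
    -- Γ is invariant under two point stabilisers
    let Q : Subgroup G := stabilizer G Γ
    have hSQ : S ≤ Q := by
      intro a ha
      refine (mem_stabilizer_set_iff_subset_smul_set Γ.toFinite).mpr ?_
      intro z hz
      exact ⟨a⁻¹ • z, hΓinv _ (S.inv_mem ha) z hz, smul_inv_smul _ _⟩
    have hyQ : stabilizer G y ≤ Q := by
      intro a ha
      refine (mem_stabilizer_set_iff_subset_smul_set Γ.toFinite).mpr ?_
      intro z hz
      have hzT : z ∈ T := hΓeq ▸ hz
      obtain ⟨d, hd, w, hw, hdw⟩ := hzT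
      have : a⁻¹ • z ∈ T := ⟨a⁻¹ * d, by rw [mul_smul, hd], w, hw, by
        rw [mul_smul, hdw, inv_smul_eq_iff]; exact ha.symm⟩
      exact ⟨a⁻¹ • z, hΓeq.symm ▸ this, smul_inv_smul _ _⟩
    rcases hmax.le_iff.mp hSQ with hQ | hQ
    · obtain ⟨d, hd⟩ := exists_smul_eq G α ω
      have hdQ : d ∈ Q := hQ ▸ Subgroup.mem_top d
      have : ω ∈ d • Γ := by rw [mem_stabilizer_iff.mp hdQ]; exact hωΓ
      obtain ⟨z, ⟨a, rfl⟩, hz⟩ := this
      have hza : a • ω = α := smul_left_cancel d (hz.trans hd.symm)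
      have haα : a⁻¹ • α = α := (a⁻¹).2
      exact hω (((eq_inv_smul_iff).mpr hza).trans haα)
    · -- G_y = G_α forces G_α = 1
      have hyα : y ≠ α := fun e => hmove (e ▸ hk₀.1)
      obtain ⟨d, hd⟩ := exists_smul_eq G α y
      have hdS : d ∉ S := fun hds => hyα (hd.symm.trans hds)
      have hle : ∀ a ∈ S, d * a * d⁻¹ ∈ S := by
        intro a ha
        apply hQ.le
        apply hyQ
        change (d * a * d⁻¹) • y = y
        rw [mul_smul, mul_smul, ← hd, inv_smul_smul, mem_stabilizer_iff.mp ha]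
      have hdN : d ∈ Subgroup.normalizer (S : Set G) :=
        Subgroup.mem_normalizer_fintype hle
      have hSn : S.Normal := by
        rw [← Subgroup.normalizer_eq_top_iff]
        refine (hmax.le_iff.mp Subgroup.le_normalizer).resolve_right ?_
        intro e
        exact hdS (e ▸ hdN)
      apply hH
      rw [Subgroup.eq_bot_iff_forall]
      intro a ha
      apply eq_of_smul_eq_smul (α := Ω)
      intro z
      obtain ⟨e, rfl⟩ := exists_smul_eq G α z
      have h5 : e⁻¹ * a * e ∈ S := by simpa using hSn.conj_mem a ha e⁻¹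
      have h6 : (e⁻¹ * a * e) • α = α := h5
      rw [mul_smul, mul_smul, inv_smul_eq_iff] at h6
      rw [one_smul]
      exact h6
  -- hence g normalises K
  have hgK : g ∈ Subgroup.normalizer (K : Set G) := by
    apply (inv_mem_iff (H := Subgroup.normalizer (K : Set G))).mp
    refine Subgroup.mem_normalizer_fintype fun k hk => ?_
    rw [inv_inv]
    refine ⟨?_, fun z hz => ?_⟩
    · change (g⁻¹ * k * g) • α = α
      rw [mul_smul, mul_smul, hg, hk.2 ω (mem_orbit_self ω), ← hg, inv_smul_smul]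
    · rw [mul_smul, mul_smul, hfix2 k hk z hz, inv_smul_smul]
  have hKn : K.Normal := by
    rw [← Subgroup.normalizer_eq_top_iff]
    have hle : S ≤ Subgroup.normalizer (K : Set G) := fun a ha =>
      Subgroup.mem_normalizer_fintype fun k hk => hSK a ha k hk
    exact (hmax.le_iff.mp hle).resolve_right fun e => hgS (e ▸ hgK)
  apply eq_of_smul_eq_smul (α := Ω)
  intro z
  obtain ⟨e, rfl⟩ := exists_smul_eq G α z
  have h5 : e⁻¹ * h * e ∈ K := by simpa using hKn.conj_mem h ⟨hh, hfix⟩ e⁻¹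
  have h6 : (e⁻¹ * h * e) • α = α := h5.1
  rw [mul_smul, mul_smul, inv_smul_eq_iff] at h6
  rw [one_smul]
  exact h6

/-- Manning's Theorem on extremely primitive groups. Let a finite group G act faithfully and primitively on a finite set Ω with non-trivial point stabilizers, and suppose every point stabilizer G_α acts primitively on each of its orbits. Then G_α acts faithfully on each of its orbits other than {α}: an element of G_α fixing every point of one such orbit is the identity. -/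
theorem result {G : Type*} [Group G] [Finite G] {Ω : Type*} [Fintype Ω] [MulAction G Ω] [FaithfulSMul G Ω] (hprim : MulAction.IsPreprimitive G Ω) (hH : ∀ α : Ω, MulAction.stabilizer G α ≠ ⊥) (hep : ∀ (α : Ω) (ω : Ω), MulAction.IsPreprimitive (MulAction.stabilizer G α) (MulAction.orbit (MulAction.stabilizer G α) ω))
    (α ω : Ω) (hω : ω ≠ α) (h : MulAction.stabilizer G α) (hfix : ∀ x ∈ MulAction.orbit (MulAction.stabilizer G α) ω, h • x = x) : h = 1 := by
  classical
  haveI := hprim
  haveI : MulAction.IsPretransitive G Ω := hprim.toIsPretransitive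
  haveI : Nontrivial Ω := ⟨⟨ω, α, hω⟩⟩
  exact Subtype.ext (manning_kernel_eq_one (fun a b => hep a b) (hH α) hω h.1 h.2 hfix)

end Cfsg.Agent.S3494
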