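import Cfsg.Statements.S1679
import Mathlib.Tactic
import Cfsg.Agent.Lib.InvChar.SporSuzG2Simple

set_option autoImplicit false
open Cfsg

namespace Cfsg.Agent.S1679

open CfsgLib.InvChar CfsgLib.InvChar.Coset Cfsg.Spor

set_option maxRecDepth 100000

/-- the coordinates, numbered -/
def coord : Cfsg.Lie.chevG2.Idx ≃ Fin 14 := finSumFinEquiv

/-- A packed matrix on the coordinates of the Lie algebra. -/
def mat (A : PMat) : Matrix Cfsg.Lie.chevG2.Idx Cfsg.Lie.chevG2.Idx FQ4 :=
  (PMat.interp A : Matrix (Fin 14) (Fin 14) FQ4).submatrix coord coord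

theorem mat_one : mat G2Four.one = 1 := by
  have : (PMat.interp G2Four.one : Matrix (Fin 14) (Fin 14) FQ4) = 1 := by
    have key : ∀ i j : Fin 14, PMat.rowEntry (G2Four.one.getD i (0, 0)) j = if i = j then (1 : FQ4) else 0 := by
      decide +kernel
    ext i j
    rw [Matrix.one_apply]
    exact key i j
  rw [mat, this, Matrix.submatrix_one_equiv]

theorem mat_mul (A B : PMat) (hA : A.length = 14) (hB : B.length = 14) :
    mat (PMat.mul A B) = mat A * mat B := by
  rw [mat, mat, mat, PMat.interp_mul A B hA hB, Matrix.submatrix_mul_equiv]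

theorem gens_len : ∀ A ∈ G2Four.gens, A.length = 14 := by decide +kernel

theorem roots_len : ∀ A ∈ G2Four.roots, A.length = 14 := by decide +kernel

theorem mat_word (gens : List PMat) (hlen : ∀ A ∈ gens, A.length = 14) :
    ∀ L : List ℕ, (PMat.wordMul gens G2Four.one L).length = 14 ∧
      mat (PMat.wordMul gens G2Four.one L) = (L.map fun x => mat (gens.getD x G2Four.one)).prod := by
  intro L
  induction L with
  | nil => exact ⟨rfl, mat_one⟩
  | cons x L ih =>
    have hx : (gens.getD x G2Four.one).length = 14 := by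
      rcases lt_or_ge x gens.length with h | h
      · rw [List.getD_eq_getElem _ _ h]; exact hlen _ (List.getElem_mem h)
      · rw [List.getD_eq_default _ _ h]; rfl
    exact ⟨by rw [PMat.wordMul, PMat.length_mul, hx],
      by rw [PMat.wordMul, mat_mul _ _ hx ih.1, ih.2, List.map_cons, List.prod_cons]⟩

theorem mat_gen_sq (x : ℕ) : mat (G2Four.gens.getD x G2Four.one) * mat (G2Four.gens.getD x G2Four.one) = 1 := by
  rcases lt_or_ge x G2Four.gens.length with h | h
  · rw [List.getD_eq_getElem _ _ h, ← mat_mul _ _ (gens_len _ (List.getElem_mem h)) (gens_len _ (List.getElem_mem h)),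
      G2Four.gens_sq _ (List.getElem_mem h), mat_one]
  · rw [List.getD_eq_default _ _ h, mat_one, one_mul]

/-- The six generators as invertible matrices. -/
def gl (x : ℕ) : GL Cfsg.Lie.chevG2.Idx FQ4 :=
  ⟨mat (G2Four.gens.getD x G2Four.one), mat (G2Four.gens.getD x G2Four.one), mat_gen_sq x, mat_gen_sq x⟩

theorem coe_wprod_gl (L : List ℕ) :
    ((wprod gl L : GL Cfsg.Lie.chevG2.Idx FQ4) : Matrix Cfsg.Lie.chevG2.Idx Cfsg.Lie.chevG2.Idx FQ4) =
      mat (PMat.wordMul G2Four.gens G2Four.one L) := by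
  rw [(mat_word _ gens_len L).2]
  induction L with
  | nil => rfl
  | cons a L ih =>
    have e : wprod gl (a :: L) = gl a * wprod gl L := rfl
    rw [e]
    rw [Units.val_mul, ih, List.map_cons, List.prod_cons]
    rfl

theorem gl_rel : ∀ r ∈ SuzB.rels, wprod gl r = 1 := by
  intro r hr
  refine Units.ext ?_
  rw [coe_wprod_gl, (by decide +kernel : ∀ r ∈ SuzB.rels, PMat.wordMul G2Four.gens G2Four.one r = G2Four.one) r hr,
    mat_one]
  rfl

theorem gl_ne_one : gl 0 ≠ 1 := by
  intro h
  have h1 := congrArg (fun g : GL Cfsg.Lie.chevG2.Idx FQ4 => fun p : Cfsg.Lie.chevG2.Idx × Cfsg.Lie.chevG2.Idx =>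
    (g : Matrix Cfsg.Lie.chevG2.Idx Cfsg.Lie.chevG2.Idx FQ4) p.1 p.2) h
  revert h1
  decide +kernel

/-- number of a root element -/
def rootIdx (r : ℕ) (t : FQ4) : ℕ := 3 * r + t.v.val - 1

/-- an entry of a root element -/
def xEntry (r : Fin 12) (t : FQ4) (i j : Fin 2 ⊕ Fin 12) : FQ4 := Cfsg.Lie.chevG2.xMat FQ4 r t i j

theorem xMat_eq (r : Fin Cfsg.Lie.chevG2.nroots) (t : FQ4) :
    Cfsg.Lie.chevG2.xMat FQ4 r t = if t.v = 0 then 1 else mat (G2Four.roots.getD (rootIdx r t) G2Four.one) := by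
  have key : ∀ (r : Fin 12) (t : FQ4) (i j : Fin 2 ⊕ Fin 12),
      xEntry r t i j =
        PMat.rowEntry ((if t.v = 0 then G2Four.one else G2Four.roots.getD (rootIdx r.val t) G2Four.one).getD
          (finSumFinEquiv i).val (0, 0)) (finSumFinEquiv j).val := by decide +kernel
  ext i j
  have h := key r t i j
  rcases eq_or_ne t.v 0 with ht | ht
  · rw [if_pos ht] at h
    rw [if_pos ht, ← mat_one]
    exact h
  · rw [if_neg ht] at h
    rw [if_neg ht]
    exact h

theorem root_word (r : Fin Cfsg.Lie.chevG2.nroots) (t : FQ4) : ∃ L : List ℕ, (∀ x ∈ L, x < 6) ∧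
    ((wprod gl L : GL Cfsg.Lie.chevG2.Idx FQ4) : Matrix Cfsg.Lie.chevG2.Idx Cfsg.Lie.chevG2.Idx FQ4) =
      Cfsg.Lie.chevG2.xMat FQ4 r t := by
  rw [xMat_eq]
  by_cases ht : t.v = 0
  · exact ⟨[], by simp, by rw [if_pos ht]; rfl⟩
  · have hi : rootIdx r t < G2Four.rootWords.length := by
      have : G2Four.rootWords.length = 36 := rfl
      have h1 := r.2
      have h2 := t.v.2
      have : (Cfsg.Lie.chevG2.nroots : ℕ) = 12 := rfl
      unfold rootIdx; omega
    refine ⟨G2Four.rootWords[rootIdx r t], ?_, ?_⟩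
    · exact (by decide +kernel : ∀ L ∈ G2Four.rootWords, ∀ x ∈ L, x < 6) _ (List.getElem_mem _)
    · rw [if_neg ht, coe_wprod_gl]
      congr 1
      rw [← G2Four.rootWords_ok, List.getD_eq_getElem _ _ (by simpa using hi), List.getElem_map]

theorem gl_mem : ∀ i < 6, gl i ∈ Cfsg.Lie.chevG2.group FQ4 := by
  intro i hi
  have hg : (gl i : Matrix Cfsg.Lie.chevG2.Idx Cfsg.Lie.chevG2.Idx FQ4) =
      ((G2Four.genWords.getD i []).map fun x => mat (G2Four.roots.getD x G2Four.one)).prod := by
    rw [← (mat_word _ roots_len _).2]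
    show mat (G2Four.gens.getD i G2Four.one) = _
    congr 1
    rw [← G2Four.genWords_ok, List.getD_eq_getElem _ _ (by simpa [G2Four.genWords] using hi), List.getElem_map,
      List.getD_eq_getElem _ _ (by simpa [G2Four.genWords] using hi)]
  have hmem : ∀ x : ℕ, ∃ g ∈ Cfsg.Lie.chevG2.group FQ4, (g : Matrix _ _ FQ4) = mat (G2Four.roots.getD x G2Four.one) := by
    intro x
    rcases lt_or_ge x G2Four.roots.length with h | h
    · have h36 : x < 36 := h
      obtain ⟨r, t, hrt, ht⟩ := (by decide +kernel :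
        ∀ x < 36, ∃ r : Fin Cfsg.Lie.chevG2.nroots, ∃ t : FQ4, rootIdx r t = x ∧ t.v ≠ 0) x h36
      obtain ⟨L, -, hL⟩ := root_word r t
      refine ⟨wprod gl L, Subgroup.subset_closure ⟨r, t, hL⟩, ?_⟩
      rw [hL, xMat_eq, if_neg ht, hrt]
    · exact ⟨1, one_mem _, by rw [List.getD_eq_default _ _ h, mat_one]; rfl⟩
  choose g hg1 hg2 using hmem
  have : gl i = ((G2Four.genWords.getD i []).map g).prod := by
    refine Units.ext ?_
    rw [hg, ← Units.coeHom_apply, map_list_prod, List.map_map]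
    exact congrArg List.prod (List.map_congr_left fun x _ => (hg2 x).symm)
  rw [this]
  exact list_prod_mem fun y hy => by
    obtain ⟨x, -, rfl⟩ := List.mem_map.1 hy
    exact hg1 x

/-- In the presented sporadic Suzuki group (generators a, …, g), the subgroup generated by the images of a, …, f is isomorphic to the adjoint Chevalley group of type G₂ over a field with four elements. -/
theorem result : ∃ (K : Type) (_ : Field K) (_ : Fintype K), Fintype.card K = 4 ∧ Nonempty ((((Subgroup.closure ({Cfsg.Spor.Suz.a, Cfsg.Spor.Suz.b, Cfsg.Spor.Suz.c, Cfsg.Spor.Suz.d, Cfsg.Spor.Suz.e, Cfsg.Spor.Suz.f} : Set (FreeGroup Cfsg.Spor.Suz.Gen))).map (PresentedGroup.mk (Cfsg.Spor.coxRelators Cfsg.Spor.Suz.edges ∪ {r | r ∈ Cfsg.Spor.Suz.extra})))) ≃* Cfsg.Lie.chevG2.group K) := by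
  have hH : (Subgroup.closure ({Cfsg.Spor.Suz.a, Cfsg.Spor.Suz.b, Cfsg.Spor.Suz.c, Cfsg.Spor.Suz.d, Cfsg.Spor.Suz.e, Cfsg.Spor.Suz.f} : Set (FreeGroup Cfsg.Spor.Suz.Gen))).map (PresentedGroup.mk (Cfsg.Spor.coxRelators Cfsg.Spor.Suz.edges ∪ {r | r ∈ Cfsg.Spor.Suz.extra})) = lettersClosure SporSuz.gen SuzB.emb := by
    rw [SporSuz.pres.map_closure, lettersClosure]
    refine congrArg Subgroup.closure ?_
    simp only [Set.image_insert_eq, Set.image_singleton]
    rw [show letters SporSuz.idx Suz.a = [0] by decide +kernel, show letters SporSuz.idx Suz.b = [1] by decide +kernel,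
      show letters SporSuz.idx Suz.c = [2] by decide +kernel, show letters SporSuz.idx Suz.d = [3] by decide +kernel,
      show letters SporSuz.idx Suz.e = [4] by decide +kernel, show letters SporSuz.idx Suz.f = [5] by decide +kernel]
    have hset : Set.Iio SuzB.emb.length = {0, 1, 2, 3, 4, 5} := by
      ext i; simp [SuzB.emb]; omega
    rw [hset]
    simp [Set.image_insert_eq, subGen, SuzB.emb, wprod]
  rw [hH]
  -- the map onto the subgroup of the Suzuki group is bijective
  haveI hfin : Finite SporSuzG2.Pre := SporSuzG2.card_le.1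
  obtain ⟨ψ, hψ⟩ := SporSuzG2.exists_hom SporSuz.gen fun r hr =>
    SporSuz.pres.gen_rel r ((by decide +kernel : ∀ r ∈ SuzB.rels, r ∈ SuzA.rels) r hr)
  have hemb : ∀ i < 6, subGen SporSuz.gen SuzB.emb i = SporSuz.gen i := by
    intro i hi; interval_cases i <;> rfl
  have hrange : ψ.range = lettersClosure SporSuz.gen SuzB.emb := by
    rw [MonoidHom.range_eq_map, ← SporSuzG2.closure_gen, MonoidHom.map_closure, lettersClosure, ← Set.image_comp]
    refine congrArg Subgroup.closure (Set.ext fun y => ⟨?_, ?_⟩)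
    · rintro ⟨i, hi, rfl⟩; exact ⟨i, hi, by rw [hemb i hi, Function.comp_apply, hψ i hi]⟩
    · rintro ⟨i, hi, rfl⟩; exact ⟨i, hi, by rw [hemb i hi, Function.comp_apply, hψ i hi]⟩
  have hψinj : Function.Injective ψ := by
    haveI : Finite Suz := SporSuz.card_le.1
    have hidx := SuzA.covered.index_le SporSuz.gen (lettersClosure SporSuz.gen SuzB.emb) SporSuz.gen_mul_self
      (fun r hr => SporSuz.pres.gen_rel r hr)
      (fun r hr => mem_lettersClosure SporSuz.gen SuzB.emb
        ((by decide +kernel : ∀ r ∈ SuzA.subs, r ∈ SuzB.emb.map fun x => [x]) r hr))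
      SporSuz.closure_gen
    have hc := (index_eq_of_card _ (n := 1782) (N := 251596800) (SporSuz.card_eq.1.trans (by norm_num)) (by norm_num)
      hidx.2 SporSuz.card_abcdef_le.2).2
    refine (card_eq_and_injective ψ (by norm_num) SporSuzG2.card_le ?_).2
    rw [hrange, hc]
  refine ⟨CfsgLib.InvChar.FQ4, inferInstance, inferInstance, CfsgLib.InvChar.FQ4.card_eq, ?_⟩
  -- the matrix representation
  let f : ℕ → GL Cfsg.Lie.chevG2.Idx CfsgLib.InvChar.FQ4 := gl
  obtain ⟨φ, hφ⟩ := SporSuzG2.exists_hom f gl_rel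
  have hφrange : φ.range = Cfsg.Lie.chevG2.group CfsgLib.InvChar.FQ4 := by
    apply le_antisymm
    · rw [MonoidHom.range_eq_map, ← SporSuzG2.closure_gen, MonoidHom.map_closure, Subgroup.closure_le]
      rintro _ ⟨_, ⟨i, hi, rfl⟩, rfl⟩
      rw [hφ i hi]
      exact gl_mem i hi
    · rw [Cfsg.Lie.ChevalleyDatum.group, Subgroup.closure_le]
      rintro g ⟨r, t, hg⟩
      obtain ⟨L, hL, hLg⟩ := root_word r t
      refine ⟨wprod SporSuzG2.gen L, ?_⟩
      rw [map_wprod φ SporSuzG2.gen f L fun x hx => hφ x (hL x hx)]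
      exact Units.ext (hLg.trans hg.symm)
  have hφinj : Function.Injective φ := by
    haveI := SporSuzG2.isSimpleGroup
    rw [← MonoidHom.ker_eq_bot_iff]
    refine ((inferInstance : φ.ker.Normal).eq_bot_or_eq_top).resolve_right fun htop => ?_
    have h1 : φ (SporSuzG2.gen 0) = 1 := by rw [← MonoidHom.mem_ker, htop]; trivial
    rw [hφ 0 (by norm_num)] at h1
    exact gl_ne_one h1
  exact ⟨(MulEquiv.subgroupCongr hrange.symm).trans ((MonoidHom.ofInjective hψinj).symm.trans
    ((MonoidHom.ofInjective hφinj).trans (MulEquiv.subgroupCongr hφrange)))⟩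

end Cfsg.Agent.S1679
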