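import Cfsg.Statements.S5892
import Cfsg.Agent.Lib.Geom.MaxBridge
-- import your own Cfsg.Agent.* helpers here

set_option autoImplicit false
open Cfsg CfsgLib.Geom

namespace Cfsg.Agent.S5892

/-- Let F be a finite field of odd order q ≥ 5 and characteristic p, and let M be a maximal subgroup of PSL₂(F). Then one of the following holds: |M| = q(q − 1)/2 (the stabiliser of a point of the projective line); q ≥ 13 and M is dihedral of order q − 1; q ∉ {7, 9} and M is dihedral of order q + 1; q = q₀² and M ≅ PGL₂(F₀) with |F₀| = q₀; q = q₀^r for an odd prime r and M ≅ PSL₂(F₀) with |F₀| = q₀; q ≡ ±1 (mod 10) with q = p or q = p², p ≡ ±3 (mod 10), and M ≅ A₅; q = p ≡ ±3 (mod 8), q ≢ ±1 (mod 10), and M ≅ A₄; or q = p ≡ ±1 (mod 8) and M ≅ S₄. -/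
theorem result {F : Type*} [Field F] [Fintype F] (p : ℕ)
    [Fact p.Prime] [CharP F p] (hodd : Odd (Fintype.card F)) (h5 : 5 ≤ Fintype.card F)
    (M : Subgroup (Matrix.ProjectiveSpecialLinearGroup (Fin 2) F)) (hM : IsCoatom M) :
    2 * Nat.card M = Fintype.card F * (Fintype.card F - 1) ∨
    (13 ≤ Fintype.card F ∧ (∃ k : ℕ, 2 * k = Fintype.card F - 1 ∧ Nonempty (M ≃* DihedralGroup k))) ∨
    (Fintype.card F ≠ 7 ∧ Fintype.card F ≠ 9 ∧ (∃ k : ℕ, 2 * k = Fintype.card F + 1 ∧ Nonempty (M ≃* DihedralGroup k))) ∨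
    (∃ (F₀ : Type) (_ : Field F₀) (_ : Fintype F₀), Fintype.card F = Fintype.card F₀ ^ 2 ∧
        Nonempty (M ≃* Matrix.ProjGenLinGroup (Fin 2) F₀)) ∨
    (∃ (F₀ : Type) (_ : Field F₀) (_ : Fintype F₀) (r : ℕ), r.Prime ∧ Odd r ∧ Fintype.card F = Fintype.card F₀ ^ r ∧
        Nonempty (M ≃* Matrix.ProjectiveSpecialLinearGroup (Fin 2) F₀)) ∨
    ((Fintype.card F % 10 = 1 ∨ Fintype.card F % 10 = 9) ∧
        (Fintype.card F = p ∨ (Fintype.card F = p ^ 2 ∧ (p % 10 = 3 ∨ p % 10 = 7))) ∧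
        Nonempty (M ≃* alternatingGroup (Fin 5))) ∨
    (Fintype.card F = p ∧ (p % 8 = 3 ∨ p % 8 = 5) ∧ ¬ (p % 10 = 1 ∨ p % 10 = 9) ∧
        Nonempty (M ≃* alternatingGroup (Fin 4))) ∨
    (Fintype.card F = p ∧ (p % 8 = 1 ∨ p % 8 = 7) ∧ Nonempty (M ≃* Equiv.Perm (Fin 4))) := by
  classical
  obtain ⟨E, _, _, f, hE, hQC⟩ := Moebius.exists_quadExt F
  obtain ⟨hmax, hne⟩ := Moebius.maxIn_map_psl hM
  have hp : p.Prime := Fact.out
  have hG := Moebius.card_imL_two (F := F)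
  rw [Moebius.gcd_two_of_odd hodd] at hG
  cases Moebius.maxCase f p hE hQC (by omega) le_rfl hmax hne with
  | point P h =>
    left
    have hc := Moebius.card_pointStab_mul (F := F) le_rfl P
    rw [← h, Moebius.card_map_toPGL] at hc
    rw [← hc, mul_left_comm] at hG
    exact Nat.eq_of_mul_eq_mul_left (Nat.succ_pos _) hG
  | pair P Q hPQ g hg hgP hgQ h =>
    obtain ⟨k, i, ⟨hk, hq⟩ | ⟨hk, h7, h9⟩⟩ :=
      Moebius.pair_psl_small f hE hQC (by omega) hodd hM hPQ hg hgP hgQ h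
    · exact Or.inr (Or.inl ⟨hq, k, hk, i⟩)
    · exact Or.inr (Or.inr (Or.inl ⟨h7, h9, k, hk, i⟩))
  | tetrahedral ho hq h hc =>
    right; right; right; right; right; right; left
    obtain ⟨i⟩ := h
    have h8 : p % 8 = 3 ∨ p % 8 = 5 := by
      by_contra hn
      exact Moebius.tetrahedral_not_sq (by omega) hodd hmax (kleinNormal_altFour i) hc
        (Moebius.isSquare_two_of_mod (by omega))
    refine ⟨hq, h8, fun h10 => ?_, ⟨(Moebius.mapEquiv M).trans i⟩⟩
    have h11 : 11 ≤ p := by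
      by_contra hlt
      interval_cases p <;> first | omega | exact absurd hp (by norm_num)
    refine Moebius.tetrahedral_not_five (by omega) hodd hmax (kleinNormal_altFour i) hc ?_ ?_
    · rw [hq]
      exact lt_of_lt_of_le (by norm_num : 120 < 12 * (11 * 10)) (Nat.mul_le_mul (by omega) (Nat.mul_le_mul h11 (by omega)))
    · rw [hq]
      exact (Golden.five_dvd_iff hp (by omega) (by omega)).2 h10
  | octahedral ho hq h hc =>
    right; right; right; right; right; right; right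
    obtain ⟨i⟩ := h
    refine ⟨hq, ?_, ⟨(Moebius.mapEquiv M).trans i⟩⟩
    have hdvd := Subgroup.card_dvd_of_le hmax.1.le
    rw [hc] at hdvd
    obtain ⟨c, hc'⟩ := hdvd
    rw [hc', hq] at hG
    obtain ⟨j, hj⟩ := hq ▸ hodd
    have h16 : 16 ∣ (p + 1) * (p - 1) := by
      have h3 : 16 ∣ ((p + 1) * (p - 1)) * p := ⟨3 * c, by rw [mul_assoc, mul_comm (p - 1)]; omega⟩
      refine (Nat.Coprime.dvd_of_dvd_mul_right ?_ h3)
      exact Nat.Coprime.pow_left 4 (Nat.prime_two.coprime_iff_not_dvd.2 (by omega))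
    by_contra hn
    obtain ⟨t, ht⟩ : ∃ t, p = 8 * t + 3 ∨ p = 8 * t + 5 := ⟨p / 8, by omega⟩
    rcases ht with rfl | rfl
    · rw [show (8 * t + 3 + 1) * (8 * t + 3 - 1) = 16 * (4 * t ^ 2 + 3 * t) + 8 by
        rw [show 8 * t + 3 - 1 = 8 * t + 2 by omega]; ring] at h16
      omega
    · rw [show (8 * t + 5 + 1) * (8 * t + 5 - 1) = 16 * (4 * t ^ 2 + 5 * t + 1) + 8 by
        rw [show 8 * t + 5 - 1 = 8 * t + 4 by omega]; ring] at h16
      omega
  | icosahedral ho hq h hc =>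
    right; right; right; right; right; left
    obtain ⟨i⟩ := h
    refine ⟨?_, hq.imp And.left id, ⟨(Moebius.mapEquiv M).trans i⟩⟩
    rcases hq with ⟨hq, h10⟩ | ⟨hq, h10⟩
    · rw [hq]; exact h10
    · rw [hq, Nat.pow_mod]
      rcases h10 with h10 | h10 <;> rw [h10] <;> omega
  | subfieldGroup K u r hu hK hr hur m h =>
    obtain ⟨F₀, i1, i2, hc, ⟨φ⟩⟩ := Moebius.exists_typeZero_field K
    rw [Moebius.card_subfield_eq hK] at hc
    rcases hr.eq_two_or_odd' with rfl | hr'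
    · rw [inf_eq_left.2 (Moebius.subfieldPGL_le_imL hodd hK even_two hur m)] at h
      obtain ⟨e⟩ := Moebius.subfieldPGL_equiv K m
      exact Or.inr (Or.inr (Or.inr (Or.inl ⟨F₀, i1, i2, by rw [hc, hur],
        ⟨(Moebius.mapEquiv M).trans (((MulEquiv.subgroupCongr h).trans e).trans (Moebius.pglCongr φ))⟩⟩)))
    · rw [Moebius.subfieldPGL_inf_imL hK hur (Or.inl hr') hr.ne_zero] at h
      obtain ⟨e⟩ := Moebius.subfieldPSL_equiv K m
      exact Or.inr (Or.inr (Or.inr (Or.inr (Or.inl ⟨F₀, i1, i2, r, hr, hr', by rw [hc, hur],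
        ⟨(Moebius.mapEquiv M).trans (((MulEquiv.subgroupCongr h).trans e).trans (Moebius.pslCongr φ))⟩⟩))))
end Cfsg.Agent.S5892
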