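import Cfsg.Statements.S3344
import Cfsg.Agent.Lib.Recog.QSThree.Frame
import Cfsg.Agent.Lib.Recog.QSThree.NoOuter
import Cfsg.Agent.Lib.Recog.QSThree.M12Leg
import Cfsg.Agent.Lib.Recog.QSThree.ClosedLeg
import Cfsg.Agent.Lib.Recog.QSThree.Alt
-- import your own Cfsg.Agent.* helpers here

set_option autoImplicit false
open Cfsg

namespace Cfsg.Agent.S3344

open CfsgLib.Recog.QSThree in
/-- Enough involutions in the centraliser. -/
theorem invol_count {G : Type*} [Group G] {s : G} {T : Tab} (D : Data T s) (hT : T.Ok)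
    {S : Finset ℕ} (hS : 7 < S.card) (h : ∀ i ∈ S, i < 192 ∧ i ≠ 0 ∧ T.mul i i = 0) :
    ∃ S : Finset G, 7 < S.card ∧ ∀ i ∈ S, orderOf i = 2 ∧ i * s = s * i := by
  classical
  refine ⟨S.image D.el, ?_, fun i hi => ?_⟩
  · rwa [Finset.card_image_of_injOn fun a ha b hb e => D.el_inj (h a ha).1 (h b hb).1 e]
  · obtain ⟨n, hn, rfl⟩ := Finset.mem_image.1 hi
    exact ⟨D.orderOf_el hT (h n hn).1 (h n hn).2.1 (h n hn).2.2, D.el_comm_s (h n hn).1⟩

/-- Let G be a finite group with an involution s, L = C_G(s) and Q = O₂(L). Suppose Q is extraspecial of order 32, L/Q is isomorphic to Sym(3), C_Q(X) = ⟨s⟩ for a Sylow 3-subgroup X of L, and s is not weakly closed in Q with respect to G (some conjugate of s other than s lies in Q). Then either G has an elementary abelian normal subgroup of order 8 with quotient isomorphic to PSL(3,2), or G is isomorphic to the alternating group of degree 8 or 9, or to the Mathieu group M₁₂. -/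
theorem result {G : Type*} [Group G] [Finite G]
    (s : G) (hs : orderOf s = 2) (L : Subgroup G) (hL : L = Subgroup.centralizer ({s} : Set G))
    (Q : Subgroup G) (hQ : Q = (Cfsg.pCore 2 L).map L.subtype)
    (hQex : Cfsg.IsExtraspecial 2 Q) (hQcard : Nat.card Q = 32)
    (e : L ⧸ Cfsg.pCore 2 L ≃* Equiv.Perm (Fin 3))
    (X : Sylow 3 L) (hCQX : Q ⊓ Subgroup.centralizer (((X : Subgroup L).map L.subtype : Subgroup G) : Set G) = Subgroup.zpowers s)
    (hnwc : ∃ g : G, g * s * g⁻¹ ∈ Q ∧ g * s * g⁻¹ ≠ s) :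
    (∃ (N : Subgroup G) (hN : N.Normal), IsMulCommutative N ∧ (∀ n ∈ N, n ^ 2 = 1) ∧ Nat.card N = 8 ∧
        Nonempty (G ⧸ N ≃* Matrix.ProjectiveSpecialLinearGroup (Fin 3) (ZMod 2))) ∨
    Nonempty (G ≃* alternatingGroup (Fin 8)) ∨ Nonempty (G ≃* alternatingGroup (Fin 9)) ∨ Cfsg.Spor.IsoM12 G := by
  obtain ⟨c, t, S⟩ :=
    CfsgLib.Recog.QSThree.exists_setup s hs L hL Q hQ hQex hQcard e X hCQX
  obtain ⟨g, hgQ, hgs⟩ := hnwc
  rcases S.exists_data with ⟨D, hD⟩ | ⟨D, hD⟩ | ⟨D, hD⟩ | ⟨D, hD⟩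
  · rcases CfsgLib.Recog.QSThree.M12Leg.closed_or_m12 D ⟨g, hD _ hgQ, hgs⟩ with h | h
    · exact Or.inl (CfsgLib.Recog.QSThree.psl_of_closed hs h D.card_centralizer
        (invol_count D CfsgLib.Recog.QSThree.tabM_ok (S := {5, 10, 15, 16, 21, 26, 31, 96})
          (by decide) (by decide +kernel)))
    · exact Or.inr (Or.inr (Or.inr h))
  · rcases CfsgLib.Recog.QSThree.alt_or_closed D hs ⟨g, hD _ hgQ, hgs⟩ with h | h | h
    · exact Or.inl (CfsgLib.Recog.QSThree.psl_of_closed hs h D.card_centralizer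
        (invol_count D CfsgLib.Recog.QSThree.tabA_ok (S := {5, 10, 15, 16, 21, 26, 31, 96})
          (by decide) (by decide +kernel)))
    · exact Or.inr (Or.inl h)
    · exact Or.inr (Or.inr (Or.inl h))
  · exact (CfsgLib.Recog.QSThree.no_tabP D ⟨g, hD _ hgQ, hgs⟩).elim
  · exact (CfsgLib.Recog.QSThree.no_tabS D ⟨g, hD _ hgQ, hgs⟩).elim

end Cfsg.Agent.S3344
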