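import Cfsg.Statements.S2073
import Cfsg.Agent.Lib.Golay.McLOut
import Cfsg.Agent.Lib.Comp.PComponentEquiv

set_option autoImplicit false
open Cfsg

namespace Cfsg.Agent.S2073

open CfsgLib.Golay in
theorem leechV_neg : Spor.leechV = -fiveV :=
  Subtype.ext (funext (by decide +kernel : ∀ i, Spor.vecV i = -five i))

open CfsgLib.Golay in
theorem leechU_min : Spor.leechU = min44 :=
  Subtype.ext (funext (by decide +kernel : ∀ i, (Spor.leechU : GolayPt → ℤ) i = (min44 : GolayPt → ℤ) i))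

open CfsgLib.Golay in
theorem mem_sporMcL_iff {g : Equiv.Perm leechLattice} :
    g ∈ Spor.McL ↔ ∃ h : g ∈ Co0, (⟨g, h⟩ : Co0) ∈ mclGroup := by
  constructor
  · rintro ⟨⟨h0, hV⟩, hU⟩
    refine ⟨h0, ?_, ?_⟩
    · have hV' : (⟨g, h0⟩ : Co0) • Spor.leechV = Spor.leechV := hV
      rw [leechV_neg, co0_neg, neg_inj] at hV'
      exact hV'
    · have hU' : (⟨g, h0⟩ : Co0) • Spor.leechU = Spor.leechU := hU
      rwa [leechU_min] at hU'
  · rintro ⟨h0, h1, h2⟩
    refine ⟨⟨h0, ?_⟩, ?_⟩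
    · show (⟨g, h0⟩ : Co0) • Spor.leechV = Spor.leechV
      rw [leechV_neg, co0_neg, h1]
    · show (⟨g, h0⟩ : Co0) • Spor.leechU = Spor.leechU
      rw [leechU_min, h2]

open CfsgLib.Golay in
/-- The identification with the model. -/
noncomputable def mclEquiv : mclGroup ≃* Spor.McL where
  toFun g := ⟨g.1.1, mem_sporMcL_iff.2 ⟨g.1.2, g.2⟩⟩
  invFun g := ⟨⟨g.1, (mem_sporMcL_iff.1 g.2).choose⟩, (mem_sporMcL_iff.1 g.2).choose_spec⟩
  left_inv _ := rfl
  right_inv _ := rfl
  map_mul' _ _ := rfl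

/-- The outer automorphism group of the McLaughlin group (as a two-vector stabiliser in the automorphism group of the rank-24 lattice) has order 2. -/
theorem result : Nat.card (Cfsg.Out ↥Cfsg.Spor.McL) = 2 := by
  haveI : Finite CfsgLib.Golay.mclGroup :=
    Nat.finite_of_card_ne_zero (by rw [CfsgLib.Golay.card_mclGroup]; norm_num)
  haveI : Finite Spor.McL := Finite.of_equiv _ mclEquiv.toEquiv
  obtain ⟨e⟩ := CfsgLib.Comp.out_congr mclEquiv
  rw [← Nat.card_congr e.toEquiv]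
  exact CfsgLib.Golay.McLOut.card_out_mclGroup

end Cfsg.Agent.S2073
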