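import Cfsg.Statements.S3333
import Cfsg.Agent.Lib.TISylow.Dihedral

set_option autoImplicit false
open Cfsg

namespace Cfsg.Agent.S3333

/-- Let G be a finite group with a Sylow 3-subgroup S of order 9 that is its own centralizer, with N_G(S)/S dihedral of order 8, and such that C_G(x) ≤ N_G(S) for every non-identity x in S. Then S is normal in G or G is isomorphic to the symmetric group of degree 6. -/
theorem result {G : Type*} [Group G] [Finite G]
    (P : Sylow 3 G) (S : Subgroup G) (hSP : S = P) (hcard : Nat.card S = 9)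
    (hC : Subgroup.centralizer (S : Set G) = S)
    (eN : Subgroup.normalizer (S : Set G) ⧸ S.subgroupOf (Subgroup.normalizer (S : Set G)) ≃* DihedralGroup 4)
    (hcent : ∀ x ∈ S, x ≠ 1 → Subgroup.centralizer ({x} : Set G) ≤ Subgroup.normalizer (S : Set G)) :
    S.Normal ∨ Nonempty (G ≃* Equiv.Perm (Fin 6)) := by
  subst hSP
  have hexp : ∀ x ∈ (P : Subgroup G), x ^ 3 = 1 := by
    intro x hx
    by_contra hne
    -- otherwise `P` is cyclic of order nine, whose automizer is not dihedral
    have : Fact (Nat.Prime 3) := ⟨Nat.prime_three⟩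
    have h9 : orderOf x = 3 ^ (1 + 1) := orderOf_eq_prime_pow
      (by rw [pow_one]; exact hne) (by
        have := pow_card_eq_one' (x := (⟨x, hx⟩ : (P : Subgroup G)))
        rw [hcard] at this
        simpa using congrArg Subtype.val this)
    set N := Subgroup.normalizer ((P : Subgroup G) : Set G)
    have hpow : ∀ y ∈ (P : Subgroup G), ∃ i : ℕ, x ^ i = y := by
      intro y hy
      have hz : Subgroup.zpowers x = (P : Subgroup G) := Subgroup.eq_of_le_of_card_ge
        (Subgroup.zpowers_le.2 hx) (by rw [hcard, Nat.card_zpowers, h9]; norm_num)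
      exact (Submonoid.mem_powers_iff _ _).1 (mem_powers_iff_mem_zpowers.2 (hz.symm ▸ hy))
    have hcomm : ∀ a b : N, (a * b * a⁻¹ * b⁻¹ : N) ∈ (P : Subgroup G).subgroupOf N := by
      intro a b
      obtain ⟨i, hi⟩ := hpow _ ((Subgroup.mem_normalizer_iff.1 a.2 x).1 hx)
      obtain ⟨j, hj⟩ := hpow _ ((Subgroup.mem_normalizer_iff.1 b.2 x).1 hx)
      have hab : (a : G) * ((b : G) * x * (b : G)⁻¹) * (a : G)⁻¹ =
          (b : G) * ((a : G) * x * (a : G)⁻¹) * (b : G)⁻¹ := by
        rw [← hj, ← hi, ← conj_pow, ← conj_pow, ← hi, ← hj, ← pow_mul, ← pow_mul, mul_comm]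
      rw [Subgroup.mem_subgroupOf]
      refine hC.le (Subgroup.mem_centralizer_iff.2 fun y hy => ?_)
      obtain ⟨m, rfl⟩ := hpow y hy
      set c : G := ((a * b * a⁻¹ * b⁻¹ : N) : G) with hc
      have hcx : c * x * c⁻¹ = x := by
        have hz : ∀ z ∈ (P : Subgroup G), (a : G) * ((b : G) * z * (b : G)⁻¹) * (a : G)⁻¹ =
            (b : G) * ((a : G) * z * (a : G)⁻¹) * (b : G)⁻¹ := by
          intro z hz
          obtain ⟨m, rfl⟩ := hpow z hz
          simp only [← conj_pow, hab]
        have hw : (a : G)⁻¹ * ((b : G)⁻¹ * x * (b : G)) * (a : G) ∈ (P : Subgroup G) := by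
          have h1 := (Subgroup.mem_normalizer_iff.1 (inv_mem b.2) x).1 hx
          rw [inv_inv] at h1
          have h2 := (Subgroup.mem_normalizer_iff.1 (inv_mem a.2) _).1 h1
          rwa [inv_inv] at h2
        calc c * x * c⁻¹ = (a : G) * ((b : G) * ((a : G)⁻¹ * ((b : G)⁻¹ * x * (b : G)) * (a : G)) *
              (b : G)⁻¹) * (a : G)⁻¹ := by simp only [hc, Subgroup.coe_mul, Subgroup.coe_inv]; group
          _ = x := by rw [hz _ hw]; group
      have : c * x ^ m * c⁻¹ = x ^ m := by rw [← conj_pow, hcx]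
      exact (mul_inv_eq_iff_eq_mul.1 this).symm
    have hD : ∀ u v : DihedralGroup 4, u * v * u⁻¹ * v⁻¹ = 1 := by
      intro u v
      obtain ⟨a, rfl⟩ := eN.surjective u
      obtain ⟨b, rfl⟩ := eN.surjective v
      obtain ⟨a, rfl⟩ := QuotientGroup.mk_surjective a
      obtain ⟨b, rfl⟩ := QuotientGroup.mk_surjective b
      rw [← map_inv, ← map_inv, ← map_mul, ← map_mul, ← map_mul,
        ← QuotientGroup.mk_inv, ← QuotientGroup.mk_inv, ← QuotientGroup.mk_mul,
        ← QuotientGroup.mk_mul, ← QuotientGroup.mk_mul,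
        (QuotientGroup.eq_one_iff _).2 (hcomm a b), map_one]
    exact absurd (hD (DihedralGroup.r 1) (DihedralGroup.sr 0)) (by decide)
  have S : CfsgLib.TISylow.Setup P := ⟨hcard, hexp, hC.le, hcent⟩
  obtain ⟨f, s, d⟩ := S.exists_dih eN
  by_cases hN : Subgroup.normalizer ((P : Subgroup G) : Set G) = ⊤
  · exact Or.inl (Subgroup.normalizer_eq_top_iff.1 hN)
  obtain ⟨H, hH, hsimple, h360, r, a, hr, haH, ha3, ha1, hra⟩ := S.dihedral d hN
  have := Subgroup.normal_of_index_eq_two hH
  refine Or.inr (CfsgLib.TISylow.nonempty_equiv_perm_six H hH h360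
    (S.centralizer_eq_bot H (fun x hx => CfsgLib.TISylow.index_two_cube_mem hH (hexp x hx)) h360)
    hr haH ha3 ha1 hra)

end Cfsg.Agent.S3333
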