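import Cfsg.Statements.S0814
import Cfsg.Agent.Lib.KnownC.AutPSpOut

set_option autoImplicit false
open Cfsg

namespace Cfsg.Agent.S0814

/-- |Aut(PSp_2m(q))| = gcd(2, q−1) · f · |PSp_2m(q)| for q = p^f, m ≥ 2, (m, q) ≠ (2, 2), with an extra factor 2 exactly when m = 2 and p = 2. -/
theorem result {F : Type*} [Field F] [Fintype F] (p f : ℕ) [Fact p.Prime] (hf : 1 ≤ f) (hF : Fintype.card F = p ^ f) (m : ℕ) (hm : 2 ≤ m) (h22 : m = 2 → 3 ≤ p ^ f) : Nat.card (MulAut (Cfsg.PSp m F)) = (if m = 2 ∧ p = 2 then 2 else 1) * Nat.gcd 2 (p ^ f - 1) * f * Nat.card (Cfsg.PSp m F) := by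
  haveI : CharP F p := charP_of_card_eq_prime_pow hF
  have hA := (CfsgLib.KnownC.exists_zmod_mulEquiv_ringAut hF).1
  have hU : Nat.card Fˣ = p ^ f - 1 := by rw [Nat.card_units, Nat.card_eq_fintype_card, hF]
  by_cases hc : m = 2 ∧ p = 2
  · obtain ⟨rfl, rfl⟩ := hc
    rw [CfsgLib.KnownC.card_mulAut_psp_four, hA, hU, if_pos ⟨rfl, rfl⟩]
    ring
  · rw [CfsgLib.KnownC.card_mulAut_psp hm (by
      rcases Nat.lt_or_ge m 3 with hlt | hge
      · refine Or.inl fun h2 => hc ⟨by omega, ?_⟩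
        exact (Nat.prime_dvd_prime_iff_eq Fact.out Nat.prime_two).1
          ((CharP.cast_eq_zero_iff F p 2).1 (by exact_mod_cast h2))
      · exact Or.inr hge), hA, hU, if_neg hc]
    ring

end Cfsg.Agent.S0814
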