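import Cfsg.Statements.S2879
import Cfsg.Agent.Lib.Transfer.QuaternionSection
import Cfsg.Agent.Lib.Solvable.HallHigman
import Cfsg.Agent.Lib.Solvable.PCore

set_option autoImplicit false
open Cfsg

namespace Cfsg.Agent.S2879

open Subgroup CfsgLib.Transfer
open scoped commutatorElement

theorem card_center_eq_two {P : Type*} [Group P] [Finite P] [Nontrivial P] (hP : IsPGroup 2 P) (w : P)
    (hc : ∀ c ∈ center P, c = 1 ∨ c = w) : Nat.card (center P) = 2 := by
  classical
  haveI : Fact (Nat.Prime 2) := ⟨Nat.prime_two⟩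
  haveI := hP.center_nontrivial
  have h1 : 1 < Nat.card (center P) := Finite.one_lt_card
  have h2 : Nat.card (center P) ≤ 2 := by
    refine le_trans (Nat.card_le_card_of_injective (fun c : center P => decide ((c : P) = 1)) ?_) (by simp)
    intro a b hab
    refine Subtype.ext ?_
    rcases hc _ a.2 with ha | ha <;> rcases hc _ b.2 with hb | hb
    · rw [ha, hb]
    · by_cases h : (b : P) = 1
      · rw [ha, h]
      · simp [ha, h] at hab
    · by_cases h : (a : P) = 1
      · rw [hb, h]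
      · simp [hb, h] at hab
    · rw [ha, hb]
  omega

theorem dihedral_shape {P : Type*} [Group P] [Finite P] (hP : IsPGroup 2 P)
    (h : (∃ n : ℕ, 4 ≤ n ∧ Nonempty (P ≃* DihedralGroup n)) ∨ Cfsg.IsQuasiDihedral P) :
    (∃ r : P, (zpowers r).index = 2 ∧ ∀ y ∉ zpowers r, y ^ 4 = 1) ∧ Nat.card (center P) = 2 := by
  haveI : Fact (Nat.Prime 2) := ⟨Nat.prime_two⟩
  rcases h with ⟨n, hn, ⟨e⟩⟩ | ⟨n, hn, hcard, x, y, hx, hy, hxy⟩
  · haveI : NeZero n := ⟨by omega⟩
    haveI : Nontrivial P := e.toEquiv.nontrivial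
    have hcard : Nat.card P = 2 * n := by rw [Nat.card_congr e.toEquiv, DihedralGroup.nat_card]
    set r := e.symm (DihedralGroup.r 1) with hr
    have hro : orderOf r = n := by rw [hr, MulEquiv.orderOf_eq, DihedralGroup.orderOf_r_one]
    have hidx : (zpowers r).index = 2 := by
      have h := (zpowers r).card_mul_index
      rw [Nat.card_zpowers, hro, hcard, mul_comm 2 n] at h
      exact Nat.eq_of_mul_eq_mul_left (by omega) h
    have hmem : ∀ i : ZMod n, e.symm (DihedralGroup.r i) ∈ zpowers r := fun i => by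
      refine ⟨(i.val : ℤ), ?_⟩
      show r ^ ((i.val : ℕ) : ℤ) = _
      rw [zpow_natCast, hr, ← map_pow, DihedralGroup.r_one_pow, ZMod.natCast_zmod_val]
    refine ⟨⟨r, hidx, fun u hu => ?_⟩, ?_⟩
    · obtain ⟨d, rfl⟩ := e.symm.surjective u
      rcases d with i | i
      · exact absurd (hmem i) hu
      · rw [← map_pow, show (4 : ℕ) = 2 * 2 from rfl, pow_mul, pow_two (DihedralGroup.sr i), DihedralGroup.sr_mul_self, one_pow, map_one]
    · refine card_center_eq_two hP (e.symm (DihedralGroup.r ((n / 2 : ℕ) : ZMod n))) fun c hc => ?_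
      obtain ⟨d, rfl⟩ := e.symm.surjective c
      have hcom : ∀ d', d * d' = d' * d := fun d' => by
        have h := mem_center_iff.1 hc (e.symm d')
        rw [← map_mul, ← map_mul] at h
        exact (e.symm.injective h).symm
      rcases d with i | i
      · have h := hcom (DihedralGroup.sr 0)
        rw [DihedralGroup.r_mul_sr, DihedralGroup.sr_mul_r] at h
        injection h with h
        have h2 : ((2 * i.val : ℕ) : ZMod n) = 0 := by
          push_cast
          rw [ZMod.natCast_zmod_val]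
          linear_combination -h
        rw [ZMod.natCast_eq_zero_iff] at h2
        obtain ⟨k, hk⟩ := h2
        have hlt := i.val_lt
        have : i.val = 0 ∨ i.val = n / 2 := by
          rcases k with - | - | k
          · left; omega
          · right; omega
          · exfalso
            have : n * 2 ≤ n * (k + 1 + 1) := Nat.mul_le_mul_left _ (by omega)
            omega
        rcases this with h0 | h0
        · left
          rw [ZMod.val_eq_zero] at h0
          rw [h0, DihedralGroup.r_zero, map_one]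
        · right; rw [← h0, ZMod.natCast_zmod_val]
      · exfalso
        have h := hcom (DihedralGroup.r 1)
        rw [DihedralGroup.r_mul_sr, DihedralGroup.sr_mul_r] at h
        injection h with h
        have h2 : ((2 : ℕ) : ZMod n) = 0 := by push_cast; linear_combination h
        rw [ZMod.natCast_eq_zero_iff] at h2
        have := Nat.le_of_dvd two_pos h2
        omega
  · haveI : Nontrivial P := ⟨y, 1, fun e => by rw [e, orderOf_one] at hy; omega⟩
    obtain ⟨k, rfl⟩ : ∃ k, n = k + 3 := ⟨n - 3, by omega⟩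
    have hm : 2 ^ (k + 3 - 1) = 4 * 2 ^ k := by rw [show k + 3 - 1 = k + 2 by omega, pow_add]; ring
    have hN : 2 ^ (k + 3) = 8 * 2 ^ k := by ring
    have hpos : 0 < 2 ^ k := by positivity
    rw [hm] at hxy
    rw [hN] at hx
    have hne : y * x * y⁻¹ ≠ x := by
      rw [hxy]
      intro h
      have h1 : x ^ (4 * 2 ^ k - 1) = x ^ 1 := by rw [pow_one]; exact h
      rw [pow_eq_pow_iff_modEq, hx] at h1
      have := h1.eq_of_lt_of_lt (by omega) (by omega)
      omega
    have hyx : y ∉ zpowers x := by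
      rintro ⟨i, rfl⟩
      apply hne
      rw [mul_inv_eq_iff_eq_mul]
      exact ((Commute.refl x).zpow_left i).eq
    have hidx : (zpowers x).index = 2 := by
      have h := (zpowers x).card_mul_index
      rw [Nat.card_zpowers, hx, hcard, pow_succ, hN] at h
      exact Nat.eq_of_mul_eq_mul_left (by omega) h
    have hform : ∀ u ∉ zpowers x, ∃ i : ℕ, u = x ^ i * y := by
      intro u hu
      have h : u * y⁻¹ ∈ zpowers x :=
        (mul_mem_iff_of_index_two hidx).2 (iff_of_false hu (by rwa [inv_mem_iff]))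
      rw [← mem_powers_iff_mem_zpowers] at h
      obtain ⟨i, hi⟩ := h
      exact ⟨i, (eq_mul_inv_iff_mul_eq.1 hi).symm⟩
    have hconj : ∀ i : ℕ, y * x ^ i * y⁻¹ = x ^ ((4 * 2 ^ k - 1) * i) := fun i => by
      rw [← conj_pow, hxy, ← pow_mul]
    have hy2 : y * y = 1 := by rw [← pow_two, ← hy, pow_orderOf_eq_one]
    refine ⟨⟨x, hidx, fun u hu => ?_⟩, ?_⟩
    · obtain ⟨i, rfl⟩ := hform u hu
      have h2 : (x ^ i * y) ^ 2 = x ^ (4 * 2 ^ k * i) := by
        rw [pow_two, show x ^ i * y * (x ^ i * y) = x ^ i * (y * x ^ i * y⁻¹) * (y * y) by group, hy2, hconj,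
          mul_one, ← pow_add]
        congr 1
        rw [Nat.sub_mul, one_mul]
        have : i ≤ 4 * 2 ^ k * i := Nat.le_mul_of_pos_left _ (by omega)
        omega
      rw [show (4 : ℕ) = 2 * 2 from rfl, pow_mul, h2, ← pow_mul,
        show 4 * 2 ^ k * i * 2 = 8 * 2 ^ k * i by ring, pow_mul, ← hx, pow_orderOf_eq_one, one_pow]
    · refine card_center_eq_two hP (x ^ (4 * 2 ^ k)) fun c hc => ?_
      have hcx := mem_center_iff.1 hc
      by_cases hcm : c ∈ zpowers x
      · rw [← mem_powers_iff_mem_zpowers] at hcm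
        obtain ⟨i, rfl⟩ := hcm
        have h := hconj i
        rw [mul_inv_eq_iff_eq_mul.2 (hcx y), pow_eq_pow_iff_modEq, hx] at h
        have hd : (8 * 2 ^ k : ℤ) ∣ ((4 * 2 ^ k - 1) * i : ℤ) - i := by
          have h' := h.dvd
          have e1 : ((4 * 2 ^ k - 1 : ℕ) : ℤ) = 4 * 2 ^ k - 1 := by
            rw [Nat.cast_sub (by omega : 1 ≤ 4 * 2 ^ k)]; push_cast; rfl
          simp only [Nat.cast_mul, e1, Nat.cast_pow, Nat.cast_ofNat] at h'
          exact h'
        have hd2 : (4 * 2 ^ k : ℤ) ∣ (2 * 2 ^ k - 1) * i := by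
          obtain ⟨c, hc⟩ := hd
          exact ⟨c, mul_left_cancel₀ (two_ne_zero (α := ℤ)) (by linear_combination hc)⟩
        have hcop : IsCoprime (4 * 2 ^ k : ℤ) (2 * 2 ^ k - 1) := by
          rw [show (4 * 2 ^ k : ℤ) = 2 ^ (k + 2) by ring]
          exact (IsCoprime.pow_left ⟨2 ^ k, -1, by ring⟩)
        have hd3 : (4 * 2 ^ k : ℤ) ∣ (i : ℤ) := hcop.dvd_of_dvd_mul_left hd2
        have hd4 : 4 * 2 ^ k ∣ i := by exact_mod_cast hd3
        obtain ⟨j, rfl⟩ := hd4
        rcases Nat.even_or_odd' j with ⟨l, rfl | rfl⟩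
        · left
          show x ^ (4 * 2 ^ k * (2 * l)) = 1
          rw [show 4 * 2 ^ k * (2 * l) = 8 * 2 ^ k * l by ring, pow_mul, ← hx, pow_orderOf_eq_one, one_pow]
        · right
          show x ^ (4 * 2 ^ k * (2 * l + 1)) = _
          rw [show 4 * 2 ^ k * (2 * l + 1) = 4 * 2 ^ k + 8 * 2 ^ k * l by ring, pow_add, pow_mul x (8 * 2 ^ k), ← hx,
            pow_orderOf_eq_one, one_pow, mul_one]
      · exfalso
        obtain ⟨i, rfl⟩ := hform c hcm
        apply hne
        have e := hcx x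
        rw [← mul_assoc, ← pow_succ', pow_succ, mul_assoc, mul_assoc] at e
        exact mul_inv_eq_iff_eq_mul.2 (mul_left_cancel e).symm

variable {G : Type*} [Group G] [Finite G]

theorem centralizes_of_comm_mem {D : Subgroup G} (hD : IsPGroup 2 D) {g q : G} (hg : Odd (orderOf g))
    (hgD : ∀ d ∈ D, g * d = d * g) (hq : g * q * g⁻¹ * q⁻¹ ∈ D) : g * q = q * g := by
  set d := g * q * g⁻¹ * q⁻¹ with hd
  have hk : ∀ k : ℕ, g ^ k * q * (g ^ k)⁻¹ = d ^ k * q := by
    intro k
    induction k with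
    | zero => simp
    | succ k ih =>
      have e : g * d ^ k = d ^ k * g := hgD _ (pow_mem hq k)
      calc g ^ (k + 1) * q * (g ^ (k + 1))⁻¹ = g * (g ^ k * q * (g ^ k)⁻¹) * g⁻¹ := by rw [pow_succ']; group
        _ = g * d ^ k * q * g⁻¹ := by rw [ih]; group
        _ = d ^ k * (g * q * g⁻¹) := by rw [e]; group
        _ = d ^ k * (d * q) := by rw [hd, inv_mul_cancel_right]
        _ = d ^ (k + 1) * q := by rw [pow_succ, ← mul_assoc]
  have h1 := hk (orderOf g)
  rw [pow_orderOf_eq_one, one_mul, inv_one, mul_one] at h1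
  have hdk : d ^ orderOf g = 1 := mul_eq_right.1 h1.symm
  obtain ⟨j, hj⟩ := hD ⟨d, hq⟩
  have hj' : d ^ 2 ^ j = 1 := congrArg Subtype.val hj
  have hd1 : d = 1 := orderOf_eq_one_iff.1 (Nat.eq_one_of_dvd_coprimes
    ((Nat.coprime_two_left.2 hg).pow_left j) (orderOf_dvd_of_pow_eq_one hj') (orderOf_dvd_of_pow_eq_one hdk))
  rw [hd, mul_inv_eq_one, mul_inv_eq_iff_eq_mul] at hd1
  exact hd1

theorem centralizes_cyclic {D : Subgroup G} (hD : IsPGroup 2 D) [IsCyclic D] {g : G} (hg : Odd (orderOf g))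
    (hn : g ∈ normalizer (D : Set G)) : ∀ d ∈ D, g * d = d * g := by
  intro d hd
  have h1 : D.normalizerMonoidHom ⟨g, hn⟩ ^ orderOf g = 1 := by
    rw [← map_pow, show (⟨g, hn⟩ : normalizer (D : Set G)) ^ orderOf g = 1 from Subtype.ext (pow_orderOf_eq_one g),
      map_one]
  have h := mulAut_eq_one_of_isCyclic_two hD _ hg h1
  exact mul_inv_eq_iff_eq_mul.1 (congrArg (fun φ : MulAut D => ((φ ⟨d, hd⟩ : D) : G)) h)

theorem iso_sl23 {G : Type*} [Group G] [Finite G] (Q : Subgroup G) (e : Q ≃* QuaternionGroup 2) (g : G)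
    (hn : g ∈ normalizer (Q : Set G)) (hg : orderOf g = 3) (hc : g ∉ centralizer (Q : Set G)) :
    Nonempty (↥(Q ⊔ zpowers g) ≃* Matrix.SpecialLinearGroup (Fin 2) (ZMod 3)) := by
  let χ : zpowers g →* MulAut Q := Q.normalizerMonoidHom.comp (inclusion (zpowers_le.2 hn))
  let φ : MulAut (QuaternionGroup 2) := MulAut.congr e (χ ⟨g, mem_zpowers g⟩)
  have hφ3 : φ ^ 3 = 1 := by
    rw [← map_pow, ← map_pow, show (⟨g, mem_zpowers g⟩ : zpowers g) ^ 3 = 1 from
      Subtype.ext (hg ▸ pow_orderOf_eq_one g), map_one, map_one]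
  have hφ : φ ≠ 1 := by
    intro h
    apply hc
    have h' : χ ⟨g, mem_zpowers g⟩ = 1 := by
      have := congrArg (MulAut.congr e).symm h
      rwa [MulEquiv.symm_apply_apply, map_one] at this
    rw [mem_centralizer_iff]
    intro q hq
    exact (mul_inv_eq_iff_eq_mul.1 (congrArg (fun ψ : MulAut Q => ((ψ ⟨q, hq⟩ : Q) : G)) h')).symm
  obtain ⟨ι, s, hι, hs, -, hcomp⟩ := QSL.exists_sl23_realization φ hφ (by decide) hφ3
  let σ : zpowers g →* Matrix.SpecialLinearGroup (Fin 2) (ZMod 3) :=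
    monoidHomOfForallMemZpowers (g := (⟨g, mem_zpowers g⟩ : zpowers g))
      (fun x => by obtain ⟨x, i, rfl⟩ := x; exact ⟨i, rfl⟩) (g' := s)
      (by rw [Subgroup.orderOf_mk, hg, hs])
  have hσ : σ ⟨g, mem_zpowers g⟩ = s := monoidHomOfForallMemZpowers_apply_gen _ _
  have hgen : ∀ (n : zpowers g) (q : Q), (ι.comp e.toMonoidHom) (χ n q) = σ n * (ι.comp e.toMonoidHom) q * (σ n)⁻¹ := by
    intro n
    obtain ⟨k, hk⟩ : ∃ k : ℕ, n = ⟨g, mem_zpowers g⟩ ^ k := by
      obtain ⟨x, hx⟩ := n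
      have hx' := hx
      rw [← mem_powers_iff_mem_zpowers] at hx'
      obtain ⟨k, hk⟩ := hx'
      exact ⟨k, Subtype.ext hk.symm⟩
    subst hk
    induction k with
    | zero => intro q; simp
    | succ k ih =>
      intro q
      rw [pow_succ', map_mul, MulAut.mul_apply, map_mul, hσ, mul_inv_rev]
      have h := hcomp (e (χ (⟨g, mem_zpowers g⟩ ^ k) q))
      simp only [φ, MulAut.congr, MulEquiv.coe_mk, Equiv.coe_fn_mk, MulEquiv.trans_apply, MulEquiv.symm_apply_apply] at h
      show ι (e (χ ⟨g, mem_zpowers g⟩ (χ (⟨g, mem_zpowers g⟩ ^ k) q))) = _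
      rw [h]
      have e2 : ι (e (χ (⟨g, mem_zpowers g⟩ ^ k) q)) = σ (⟨g, mem_zpowers g⟩ ^ k) *
          (ι.comp e.toMonoidHom) q * (σ (⟨g, mem_zpowers g⟩ ^ k))⁻¹ := ih q
      rw [e2]
      group
  let ρ : Q ⋊[χ] zpowers g →* Matrix.SpecialLinearGroup (Fin 2) (ZMod 3) :=
    SemidirectProduct.lift (ι.comp e.toMonoidHom) σ (fun n => MonoidHom.ext fun q => hgen n q)
  let π : Q ⋊[χ] zpowers g →* G :=
    SemidirectProduct.lift Q.subtype (zpowers g).subtype (fun n => MonoidHom.ext fun q => rfl)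
  have hcardS : Nat.card (Q ⋊[χ] zpowers g) = 24 := by
    rw [SemidirectProduct.card, Nat.card_congr e.toEquiv, Nat.card_eq_fintype_card, QuaternionGroup.card,
      Nat.card_zpowers, hg]
  have hdis : ∀ x ∈ zpowers g, x ∈ Q → x = 1 := by
    intro x hx hxQ
    refine orderOf_eq_one_iff.1 (Nat.eq_one_of_dvd_coprimes (show Nat.Coprime 8 3 by norm_num) ?_ ?_)
    · have h8 := Subgroup.orderOf_dvd_natCard Q hxQ
      rwa [Nat.card_congr e.toEquiv, Nat.card_eq_fintype_card, QuaternionGroup.card] at h8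
    · have h3 := Subgroup.orderOf_dvd_natCard (zpowers g) hx
      rwa [Nat.card_zpowers, hg] at h3
  have hπ : Function.Injective π := by
    rw [injective_iff_map_eq_one]
    rintro ⟨q, n⟩ h
    have h' : (q : G) * (n : G) = 1 := h
    have hn1 : (n : G) = 1 := hdis _ n.2 (by rw [eq_inv_of_mul_eq_one_right h']; exact inv_mem q.2)
    rw [hn1, mul_one] at h'
    exact SemidirectProduct.ext (Subtype.ext h') (Subtype.ext hn1)
  have hπr : π.range = Q ⊔ zpowers g := by
    refine le_antisymm ?_ (sup_le (fun q hq => ⟨SemidirectProduct.inl ⟨q, hq⟩, SemidirectProduct.lift_inl ..⟩)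
      (fun x hx => ⟨SemidirectProduct.inr ⟨x, hx⟩, SemidirectProduct.lift_inr ..⟩))
    rintro _ ⟨⟨q, n⟩, rfl⟩
    exact mul_mem (mem_sup_left q.2) (mem_sup_right n.2)
  have hρ : Function.Surjective ρ := by
    rw [← MonoidHom.range_eq_top]
    refine eq_top_of_le_card _ ?_
    have h8 : 8 ∣ Nat.card ρ.range := by
      have h1 : ι.range ≤ ρ.range := by
        rintro _ ⟨x, rfl⟩
        exact ⟨SemidirectProduct.inl (e.symm x), by simp [ρ]⟩
      have h2 := card_dvd_of_le h1
      rwa [← Nat.card_congr (MonoidHom.ofInjective hι).toEquiv, Nat.card_eq_fintype_card,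
        QuaternionGroup.card] at h2
    have h3 : 3 ∣ Nat.card ρ.range := by
      have hmem : s ∈ ρ.range := ⟨SemidirectProduct.inr ⟨g, mem_zpowers g⟩, by simp [ρ, hσ]⟩
      have h := Subgroup.orderOf_dvd_natCard _ hmem
      rwa [hs] at h
    have h24 := Nat.le_of_dvd Nat.card_pos
      (Nat.Coprime.mul_dvd_of_dvd_of_dvd (show Nat.Coprime 8 3 by norm_num) h8 h3)
    rw [CfsgLib.Classical.card_sl_two_eq, ZMod.card]
    exact h24
  haveI : Finite (Q ⋊[χ] zpowers g) := Finite.of_equiv _ SemidirectProduct.equivProd.symm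
  have hbij : Function.Bijective ρ := (Nat.bijective_iff_surjective_and_card _).2 ⟨hρ, by
    rw [hcardS, CfsgLib.Classical.card_sl_two_eq, ZMod.card]; norm_num⟩
  exact ⟨((MulEquiv.subgroupCongr hπr.symm).trans (MonoidHom.ofInjective hπ).symm).trans
    (MulEquiv.ofBijective ρ hbij)⟩

theorem qEval_eq {M : Type*} [Monoid M] (f f' : QuaternionGroup 2 →* M)
    (ha : f (QuaternionGroup.a 1) = f' (QuaternionGroup.a 1))
    (hx : f (QuaternionGroup.xa 0) = f' (QuaternionGroup.xa 0)) : f = f' := by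
  ext x
  rw [QSL.qM_eq_of_hom f x, QSL.qM_eq_of_hom f' x, ha, hx]

theorem card_mulAut_quaternion : Nat.card (MulAut (QuaternionGroup 2)) ≤ 24 := by
  let T := {v : QuaternionGroup 2 × QuaternionGroup 2 //
    v.1 ^ 2 ≠ 1 ∧ v.2 ^ 2 ≠ 1 ∧ v.2 ≠ v.1 ∧ v.2 ≠ v.1 ^ 3}
  have hne : (QuaternionGroup.a 1 : QuaternionGroup 2) ^ 2 ≠ 1 ∧ (QuaternionGroup.xa 0 : QuaternionGroup 2) ^ 2 ≠ 1 ∧
      (QuaternionGroup.xa 0 : QuaternionGroup 2) ≠ QuaternionGroup.a 1 ∧
      (QuaternionGroup.xa 0 : QuaternionGroup 2) ≠ QuaternionGroup.a 1 ^ 3 := by decide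
  let f : MulAut (QuaternionGroup 2) → T := fun φ => ⟨(φ (QuaternionGroup.a 1), φ (QuaternionGroup.xa 0)),
    fun h => hne.1 (φ.injective (by rw [map_pow, map_one, h])),
    fun h => hne.2.1 (φ.injective (by rw [map_pow, map_one, h])),
    fun h => hne.2.2.1 (φ.injective h),
    fun h => hne.2.2.2 (φ.injective (by rw [map_pow]; exact h))⟩
  have hf : Function.Injective f := by
    intro φ ψ h
    have h1 := congrArg (fun v : T => v.1.1) h
    have h2 := congrArg (fun v : T => v.1.2) h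
    exact MulEquiv.ext fun x => DFunLike.congr_fun (qEval_eq φ.toMonoidHom ψ.toMonoidHom h1 h2) x
  refine (Nat.card_le_card_of_injective f hf).trans ?_
  rw [Nat.card_eq_fintype_card]
  decide

/-- Let G be a finite solvable group with O(G) = 1 whose Sylow 2-subgroup T is dihedral of order at least 8 or semidihedral, with G ≠ T and Z(T) normal in G. Then G has a normal subgroup isomorphic to SL₂(3). -/
theorem result {G : Type*} [Group G] [Finite G] (hsol : IsSolvable G) (hO : Cfsg.oddCore G = ⊥) (T : Sylow 2 G) (hT : (∃ n : ℕ, 4 ≤ n ∧ Nonempty (↥(T : Subgroup G) ≃* DihedralGroup n)) ∨ Cfsg.IsQuasiDihedral ↥(T : Subgroup G)) (hne : (T : Subgroup G) ≠ ⊤) (hZ : ((T : Subgroup G) ⊓ Subgroup.centralizer ((T : Subgroup G) : Set G)).Normal) : ∃ U : Subgroup G, U.Normal ∧ Nonempty (↥U ≃* Matrix.SpecialLinearGroup (Fin 2) (ZMod 3)) := by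
  haveI : Group.IsSolvable G := hsol
  haveI : Fact (Nat.Prime 2) := ⟨Nat.prime_two⟩
  haveI := CfsgLib.Solvable.pCore_normal 2 G
  set Q := Cfsg.pCore 2 G with hQdef
  have hQ : IsPGroup 2 Q := CfsgLib.Solvable.pCore_isPGroup 2
  have hCQ : centralizer (Q : Set G) ≤ Q := CfsgLib.Solvable.centralizer_pCore_le 2 hO
  have hQT : Q ≤ (T : Subgroup G) := CfsgLib.Solvable.pCore_le_sylow T
  obtain ⟨⟨r, hr2, hr4⟩, hZ2⟩ := dihedral_shape T.2 hT
  -- the central involution
  set Z := (T : Subgroup G) ⊓ centralizer ((T : Subgroup G) : Set G) with hZdef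
  have hZcard : Nat.card Z = 2 := by
    have e : Z.subgroupOf (T : Subgroup G) = center ↥(T : Subgroup G) := by
      ext x
      rw [mem_subgroupOf, mem_center_iff, hZdef, mem_inf, mem_centralizer_iff]
      exact ⟨fun h y => Subtype.ext (h.2 y y.2), fun h => ⟨x.2, fun y hy => congrArg Subtype.val (h ⟨y, hy⟩)⟩⟩
    rw [← hZ2, ← e, Nat.card_congr (subgroupOfEquivOfLe inf_le_left).toEquiv]
  have hZQ : Z ≤ Q := CfsgLib.Solvable.le_pCore hZ (T.2.to_le inf_le_left)
  obtain ⟨z, hz, hzo⟩ : ∃ z ∈ Z, orderOf z = 2 := by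
    obtain ⟨x, hx⟩ := exists_prime_orderOf_dvd_card' (G := Z) 2 (by rw [hZcard])
    exact ⟨x, x.2, by rw [Subgroup.orderOf_coe, hx]⟩
  have hZz : zpowers z = Z := eq_of_le_of_card_ge (zpowers_le.2 hz) (by rw [hZcard, Nat.card_zpowers, hzo])
  -- an element of odd order
  obtain ⟨g, hgodd, hg1⟩ : ∃ g : G, Odd (orderOf g) ∧ g ≠ 1 := by
    have hidx : (T : Subgroup G).index ≠ 1 := fun h => hne (index_eq_one.1 h)
    obtain ⟨q, hq, hqd⟩ := Nat.exists_prime_and_dvd hidx
    haveI : Fact q.Prime := ⟨hq⟩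
    obtain ⟨g, hg⟩ := exists_prime_orderOf_dvd_card' (G := G) q (hqd.trans (index_dvd_card _))
    refine ⟨g, ?_, fun h => hq.ne_one (by rw [← hg, h, orderOf_one])⟩
    rw [hg]
    exact hq.odd_of_ne_two fun h => T.not_dvd_index (h ▸ hqd)
  have hnorm : ∀ x : G, x ∈ normalizer (Q : Set G) := fun x => by rw [normalizer_eq_top]; exact mem_top x
  have hcent : ∀ x : G, Odd (orderOf x) → (∀ q ∈ Q, x * q = q * x) → x = 1 := by
    intro x hx h
    have hxQ : x ∈ Q := hCQ (mem_centralizer_iff.2 fun q hq => (h q hq).symm)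
    obtain ⟨j, hj⟩ := hQ ⟨x, hxQ⟩
    exact orderOf_eq_one_iff.1 (Nat.eq_one_of_dvd_coprimes ((Nat.coprime_two_left.2 hx).pow_left j)
      (orderOf_dvd_of_pow_eq_one (congrArg Subtype.val hj)) dvd_rfl)
  have hzc : ∀ x : G, Odd (orderOf x) → ∀ d ∈ zpowers z, x * d = d * x := by
    intro x hx
    refine centralizes_cyclic (hQ.to_le (hZz.le.trans hZQ)) hx ?_
    rw [hZz, normalizer_eq_top (H := Z)]
    exact mem_top x
  have hbig : 4 < Nat.card Q := by
    by_contra hle
    push Not at hle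
    apply hg1
    apply hcent g hgodd
    intro q hq
    refine centralizes_of_comm_mem (hQ.to_le (hZz.le.trans hZQ)) hgodd (hzc g hgodd) ?_
    set Zq := (zpowers z).subgroupOf Q with hZq
    have hidx : Zq.index ≤ 2 := by
      have h := Zq.card_mul_index
      rw [hZq, Nat.card_congr (subgroupOfEquivOfLe (hZz.le.trans hZQ)).toEquiv, Nat.card_zpowers, hzo, ← hZq] at h
      omega
    rcases Nat.lt_or_ge Zq.index 2 with h1 | h1
    · have h0 : Zq.index ≠ 0 := FiniteIndex.index_ne_zero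
      have htop : Zq = ⊤ := index_eq_one.1 (by omega)
      have hqq : g * q * g⁻¹ ∈ Q := (mem_normalizer_iff.1 (hnorm g) q).1 hq
      have : (⟨_, mul_mem hqq (inv_mem hq)⟩ : Q) ∈ Zq := htop ▸ mem_top _
      exact this
    · have hqq : g * q * g⁻¹ ∈ Q := (mem_normalizer_iff.1 (hnorm g) q).1 hq
      have hiff : q ∈ zpowers z ↔ g * q * g⁻¹ ∈ zpowers z := by
        refine mem_normalizer_iff.1 ?_ q
        rw [hZz, normalizer_eq_top (H := Z)]
        exact mem_top g
      have h := (mul_mem_iff_of_index_two (le_antisymm hidx h1) (a := (⟨_, hqq⟩ : Q)) (b := ⟨q, hq⟩⁻¹)).2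
        (by rw [inv_mem_iff]; exact hiff.symm)
      exact h
  -- the cyclic subgroup of index two
  set D := Q ⊓ (zpowers r).map (T : Subgroup G).subtype with hD
  have hrC : ∀ x, x ∈ (zpowers r).map (T : Subgroup G).subtype ↔ ∃ hx : x ∈ (T : Subgroup G), (⟨x, hx⟩ : ↥(T : Subgroup G)) ∈ zpowers r := by
    intro x
    exact ⟨fun ⟨t, ht, e⟩ => ⟨e ▸ t.2, by subst e; exact ht⟩, fun ⟨hx, h⟩ => ⟨⟨x, hx⟩, h, rfl⟩⟩
  haveI hcycr : IsCyclic ↥((zpowers r).map (T : Subgroup G).subtype) :=
    (((zpowers r).equivMapOfInjective _ (T : Subgroup G).subtype_injective).isCyclic).1 inferInstance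
  haveI hDcyc : IsCyclic D := isCyclic_of_injective (inclusion (inf_le_right : D ≤ _))
    (inclusion_injective _)
  have hDQ : D ≤ Q := inf_le_left
  have hDidx : ∀ a ∈ Q, ∀ b ∈ Q, a ∉ D → b ∉ D → a * b⁻¹ ∈ D := by
    intro a ha b hb ha' hb'
    have key : ∀ x, ∀ hx : x ∈ Q, x ∉ D → (⟨x, hQT hx⟩ : ↥(T : Subgroup G)) ∉ zpowers r :=
      fun x hx h hm => h ⟨hx, (hrC x).2 ⟨hQT hx, hm⟩⟩
    refine ⟨(mul_mem ha (inv_mem hb) : a * b⁻¹ ∈ Q), (hrC _).2 ⟨mul_mem (hQT ha) (inv_mem (hQT hb)), ?_⟩⟩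
    exact (mul_mem_iff_of_index_two hr2 (a := (⟨a, hQT ha⟩ : ↥(T : Subgroup G))) (b := ⟨b, hQT hb⟩⁻¹)).2
      (iff_of_false (key a ha ha') (by rw [inv_mem_iff]; exact key b hb hb'))
  have hDp : IsPGroup 2 D := hQ.to_le hDQ
  have hmove : ∀ x : G, Odd (orderOf x) → (∀ d, d ∈ D → x * d * x⁻¹ ∈ D) → x = 1 := by
    intro x hx hfix
    refine hcent x hx fun q hq => centralizes_of_comm_mem hDp hx ?_ ?_
    · refine centralizes_cyclic hDp hx (mem_normalizer_iff.2 fun d => ⟨hfix d, fun hd => ?_⟩)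
      obtain ⟨k, hk⟩ : ∃ k, orderOf x = k + 1 := ⟨orderOf x - 1, by have := orderOf_pos x; omega⟩
      have hit : ∀ (j : ℕ) (d : G), d ∈ D → x ^ j * d * (x ^ j)⁻¹ ∈ D := by
        intro j
        induction j with
        | zero => intro d hd; simpa using hd
        | succ j ih =>
          intro d hd
          have := hfix _ (ih d hd)
          rw [pow_succ']
          simpa [mul_assoc] using this
      have h := hit k _ hd
      have e : x ^ k = x⁻¹ := eq_inv_of_mul_eq_one_left (by rw [← pow_succ, ← hk, pow_orderOf_eq_one])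
      rw [e] at h
      simpa [mul_assoc] using h
    · have hqq : x * q * x⁻¹ ∈ Q := (mem_normalizer_iff.1 (hnorm x) q).1 hq
      by_cases hqD : q ∈ D
      · exact mul_mem (hfix q hqD) (inv_mem hqD)
      · refine hDidx _ hqq _ hq (fun h => hqD ?_) hqD
        have hit : ∀ (j : ℕ) (d : G), d ∈ D → x ^ j * d * (x ^ j)⁻¹ ∈ D := by
          intro j
          induction j with
          | zero => intro d hd; simpa using hd
          | succ j ih =>
            intro d hd
            have := hfix _ (ih d hd)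
            rw [pow_succ']
            simpa [mul_assoc] using this
        obtain ⟨k, hk⟩ : ∃ k, orderOf x = k + 1 := ⟨orderOf x - 1, by have := orderOf_pos x; omega⟩
        have h' := hit k _ h
        have e : x ^ k = x⁻¹ := eq_inv_of_mul_eq_one_left (by rw [← pow_succ, ← hk, pow_orderOf_eq_one])
        rw [e] at h'
        simpa [mul_assoc] using h'
  -- the three conjugates of `D`
  let Dc : G → Subgroup G := fun x => D.map (MulAut.conj x).toMonoidHom
  have hmemDc : ∀ x d, d ∈ Dc x ↔ x⁻¹ * d * x ∈ D := by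
    intro x d
    constructor
    · rintro ⟨c, hc, rfl⟩
      simpa [mul_assoc] using hc
    · intro h
      exact ⟨_, h, by simp [mul_assoc]⟩
  have hgD : ¬ ∀ d, d ∈ D → g * d * g⁻¹ ∈ D := fun h => hg1 (hmove g hgodd h)
  push Not at hgD
  obtain ⟨d₁, hd₁, hd₁'⟩ := hgD
  have hordD : ∀ d ∈ D, d ^ 4 = 1 := by
    obtain ⟨⟨u, hu⟩, hgen⟩ := IsCyclic.exists_generator (α := D)
    have hud : g * u * g⁻¹ ∉ D := by
      intro h
      apply hd₁'
      obtain ⟨i, hi⟩ := hgen ⟨d₁, hd₁⟩
      have e : u ^ i = d₁ := congrArg Subtype.val hi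
      rw [← e, ← conj_zpow]
      exact zpow_mem h i
    have hqu : g * u * g⁻¹ ∈ Q := (mem_normalizer_iff.1 (hnorm g) u).1 (hDQ hu)
    have h4 := hr4 ⟨_, hQT hqu⟩ fun h => hud ⟨hqu, (hrC _).2 ⟨_, h⟩⟩
    have h4' : (g * u * g⁻¹) ^ 4 = 1 := congrArg Subtype.val h4
    rw [conj_pow, conj_eq_one_iff] at h4'
    intro d hd
    obtain ⟨i, hi⟩ := hgen ⟨d, hd⟩
    have e : u ^ i = d := congrArg Subtype.val hi
    have e2 : (u ^ i) ^ 4 = (u ^ 4) ^ i := by
      rw [← zpow_natCast, ← zpow_natCast, ← zpow_mul, ← zpow_mul, mul_comm]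
    rw [← e, e2, h4', one_zpow]
  have hDsub : D.relIndex Q ≤ 2 := by
    have h := (zpowers r).map (T : Subgroup G).subtype |>.relIndex (T : Subgroup G)
    have h1 : ((zpowers r).map (T : Subgroup G).subtype).relIndex (T : Subgroup G) = 2 := by
      show (((zpowers r).map (T : Subgroup G).subtype).comap (T : Subgroup G).subtype).index = 2
      rw [comap_map_eq_self_of_injective (T : Subgroup G).subtype_injective, hr2]
    rw [hD, inf_relIndex_left]
    exact (relIndex_le_of_le_right hQT (by rw [h1]; norm_num)).trans h1.le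
  have hD4 : Nat.card D ≤ 4 := by
    obtain ⟨⟨u, hu⟩, hgen⟩ := IsCyclic.exists_generator (α := D)
    rw [← orderOf_eq_card_of_forall_mem_zpowers hgen, Subgroup.orderOf_mk]
    exact Nat.le_of_dvd (by norm_num) (orderOf_dvd_of_pow_eq_one (hordD u hu))
  have hcardQ : Nat.card Q = 8 ∧ Nat.card D = 4 := by
    have h := relIndex_mul_relIndex ⊥ D Q bot_le hDQ
    rw [relIndex_bot_left, relIndex_bot_left] at h
    obtain ⟨j, hj⟩ := hQ.exists_card_eq
    have hb : Nat.card Q ≤ 8 := by rw [← h]; exact (Nat.mul_le_mul hD4 hDsub).trans (by norm_num)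
    have hj' : Nat.card Q = 8 := by
      rw [hj] at hb hbig ⊢
      have : j ≤ 3 := by
        by_contra h
        have := Nat.pow_le_pow_right two_pos (show 4 ≤ j by omega)
        omega
      interval_cases j <;> omega
    refine ⟨hj', le_antisymm hD4 ?_⟩
    rw [hj'] at h
    have := Nat.mul_le_mul_left (Nat.card D) hDsub
    omega
  obtain ⟨hQ8, hD4'⟩ := hcardQ
  have hDcQ : ∀ x, Dc x ≤ Q := fun x d hd => by
    rw [hmemDc] at hd
    have := (inferInstance : Q.Normal).conj_mem _ (hDQ hd) x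
    simpa [mul_assoc] using this
  have hidxc : ∀ x : G, ∀ a ∈ Q, ∀ b ∈ Q, a ∉ Dc x → b ∉ Dc x → a * b⁻¹ ∈ Dc x := by
    intro x a ha b hb ha' hb'
    rw [hmemDc] at ha' hb' ⊢
    have hcq : ∀ c ∈ Q, x⁻¹ * c * x ∈ Q := fun c hc => by
      simpa using (inferInstance : Q.Normal).conj_mem c hc x⁻¹
    have h := hDidx _ (hcq a ha) _ (hcq b hb) ha' hb'
    simpa [mul_assoc] using h
  have hneq : ∀ x, Odd (orderOf x) → x ≠ 1 → D ≠ Dc x := by
    intro x hx hx1 e
    exact hx1 (hmove x hx fun d hd => e.symm ▸ (hmemDc x _).2 (by simpa [mul_assoc] using hd))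
  have hg2 : Odd (orderOf (g ^ 2)) := by
    rw [Nat.Coprime.orderOf_pow (Nat.coprime_two_right.2 hgodd)]; exact hgodd
  have hg21 : g ^ 2 ≠ 1 := fun h => hg1 (by
    have := Nat.Coprime.orderOf_pow (y := g) (Nat.coprime_two_right.2 hgodd)
    rw [h, orderOf_one] at this
    exact orderOf_eq_one_iff.1 this.symm)
  set D' := Dc g with hD'
  set D'' := Dc (g ^ 2) with hD''
  have hne'' : D' ≠ D'' := by
    intro e
    apply hneq g hgodd hg1
    apply map_injective (f := (MulAut.conj g).toMonoidHom) (MulAut.conj g).injective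
    show Dc g = (Dc g).map (MulAut.conj g).toMonoidHom
    rw [map_map]
    show Dc g = D.map ((MulAut.conj g).toMonoidHom.comp (MulAut.conj g).toMonoidHom)
    refine e.trans ?_
    show D.map _ = D.map _
    congr 1
    ext y
    show g ^ 2 * y * (g ^ 2)⁻¹ = g * (g * y * g⁻¹) * g⁻¹
    rw [pow_two]; group
  have hcardc : ∀ x, Nat.card (Dc x) = 4 := fun x => by
    rw [← hD4']; exact (Nat.card_congr (D.equivMapOfInjective _ (MulAut.conj x).injective).toEquiv).symm
  -- at most one involution in each conjugate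
  have hinvc : ∀ x, ∀ a ∈ Dc x, ∀ b ∈ Dc x, orderOf a = 2 → orderOf b = 2 → a = b := by
    intro x a ha b hb hao hbo
    haveI : IsCyclic (Dc x) := ((D.equivMapOfInjective _ (MulAut.conj x).injective).isCyclic).1 hDcyc
    classical
    letI := Fintype.ofFinite (Dc x)
    by_contra hab
    have h2 := IsCyclic.card_pow_eq_one_le (α := Dc x) (n := 2) two_pos
    have hsub : ({1, ⟨a, ha⟩, ⟨b, hb⟩} : Finset (Dc x)) ⊆ Finset.univ.filter fun u => u ^ 2 = 1 := by
      intro u hu
      simp only [Finset.mem_insert, Finset.mem_singleton] at hu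
      refine Finset.mem_filter.2 ⟨Finset.mem_univ _, ?_⟩
      rcases hu with rfl | rfl | rfl
      · exact one_pow 2
      · exact Subtype.ext (orderOf_dvd_iff_pow_eq_one.1 hao.dvd)
      · exact Subtype.ext (orderOf_dvd_iff_pow_eq_one.1 hbo.dvd)
    have hna : (1 : Dc x) ≠ ⟨a, ha⟩ := fun e => by
      have e' := congrArg Subtype.val e
      simp only [OneMemClass.coe_one] at e'
      rw [← e', orderOf_one] at hao
      omega
    have hnb : (1 : Dc x) ≠ ⟨b, hb⟩ := fun e => by
      have e' := congrArg Subtype.val e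
      simp only [OneMemClass.coe_one] at e'
      rw [← e', orderOf_one] at hbo
      omega
    have h3 : ({1, ⟨a, ha⟩, ⟨b, hb⟩} : Finset (Dc x)).card = 3 :=
      Finset.card_eq_three.2 ⟨_, _, _, hna, hnb, fun e => hab (congrArg Subtype.val e), rfl⟩
    have h4 := (Finset.card_le_card hsub).trans h2
    omega
  have hD1 : Dc 1 = D := by
    ext d
    rw [hmemDc]
    simp
  have hinter : ∀ x y, Dc x ≠ Dc y → ∃ w, w ∈ Dc x ∧ w ∈ Dc y ∧ orderOf w = 2 := by
    intro x y hxy
    obtain ⟨a, ha, hay⟩ : ∃ a ∈ Dc x, a ∉ Dc y := by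
      by_contra! hall
      exact hxy (eq_of_le_of_card_ge hall (by rw [hcardc, hcardc]))
    by_cases h2 : a ^ 2 = 1
    · by_contra hno
      push Not at hno
      obtain ⟨b, hb, hb2, hb1⟩ : ∃ b ∈ Dc x, b ^ 2 ≠ 1 ∧ b ≠ a := by
        haveI : IsCyclic (Dc x) := ((D.equivMapOfInjective _ (MulAut.conj x).injective).isCyclic).1 hDcyc
        obtain ⟨⟨u, hu⟩, hgen⟩ := IsCyclic.exists_generator (α := Dc x)
        have huo : orderOf u = 4 := by
          rw [← Subgroup.orderOf_mk u hu, orderOf_eq_card_of_forall_mem_zpowers hgen, hcardc]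
        have hu2 : u ^ 2 ≠ 1 := fun h => by
          have := Nat.le_of_dvd two_pos (huo ▸ orderOf_dvd_of_pow_eq_one h)
          omega
        exact ⟨u, hu, hu2, fun e => hu2 (by rw [e, h2])⟩
      have hbo : orderOf (b ^ 2) = 2 := by
        refine orderOf_eq_prime ?_ hb2
        rw [← pow_mul]
        exact orderOf_dvd_iff_pow_eq_one.1 ((Subgroup.orderOf_dvd_natCard _ hb).trans (by rw [hcardc]))
      by_cases hby : b ∈ Dc y
      · exact hno _ (pow_mem hb 2) (pow_mem hby 2) hbo
      · have := hidxc y b (hDcQ x hb) b⁻¹ (inv_mem (hDcQ x hb)) hby (by rwa [inv_mem_iff])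
        rw [inv_inv, ← pow_two] at this
        exact hno _ (pow_mem hb 2) this hbo
    · refine ⟨a ^ 2, pow_mem ha 2, ?_, ?_⟩
      · have := hidxc y a (hDcQ x ha) a⁻¹ (inv_mem (hDcQ x ha)) hay (by rwa [inv_mem_iff])
        rwa [inv_inv, ← pow_two] at this
      · refine orderOf_eq_prime ?_ h2
        rw [← pow_mul]
        exact orderOf_dvd_iff_pow_eq_one.1 ((Subgroup.orderOf_dvd_natCard _ ha).trans (by rw [hcardc]))
  obtain ⟨w, hwD, hwD', hwo⟩ := hinter 1 g (by rw [hD1]; exact hneq g hgodd hg1)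
  obtain ⟨w', hw'D, hw'D'', hw'o⟩ := hinter 1 (g ^ 2) (by rw [hD1]; exact hneq _ hg2 hg21)
  have hww : w' = w := hinvc 1 _ hw'D _ hwD hw'o hwo
  rw [hww] at hw'D''
  have hcover : ∀ q ∈ Q, q ∈ Dc 1 ∨ q ∈ D' ∨ q ∈ D'' := by
    intro q hq
    by_contra! hno
    obtain ⟨h1, h2, h3⟩ := hno
    obtain ⟨a, ha, haD⟩ : ∃ a ∈ D'', a ∉ Dc 1 := by
      by_contra! hall
      exact hneq _ hg2 hg21 (hD1 ▸ (eq_of_le_of_card_ge hall (by rw [hcardc, hcardc])).symm)
    by_cases haD' : a ∈ D'
    · -- then `D'' ≤ D'`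
      apply hne''
      refine (eq_of_le_of_card_ge ?_ (by rw [hcardc, hcardc])).symm
      intro b hb
      have ha2 : a ^ 2 ≠ 1 := by
        intro h
        have hao : orderOf a = 2 := orderOf_eq_prime h fun e => haD (by rw [e]; exact one_mem _)
        exact haD (hinvc (g ^ 2) _ ha _ hw'D'' hao hwo ▸ hwD)
      have hao : orderOf a = 4 := by
        have h4 := Subgroup.orderOf_dvd_natCard _ ha
        rw [hcardc] at h4
        obtain ⟨j, hj, hj'⟩ := (Nat.dvd_prime_pow Nat.prime_two).1 (show orderOf a ∣ 2 ^ 2 from h4)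
        interval_cases j
        · exact absurd (show a ^ 2 = 1 by rw [orderOf_eq_one_iff.1 hj', one_pow]) ha2
        · exact absurd (show a ^ 2 = 1 by rw [show (2 : ℕ) = orderOf a from hj'.symm, pow_orderOf_eq_one]) ha2
        · exact hj'
      have e : zpowers a = Dc (g ^ 2) := eq_of_le_of_card_ge (zpowers_le.2 ha) (by rw [hcardc, Nat.card_zpowers, hao])
      exact zpowers_le.2 haD' (e.symm ▸ hb)
    · have e1 := hidxc 1 q hq a (hDcQ _ ha) h1 haD
      have e2 := hidxc g q hq a (hDcQ _ ha) h2 haD'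
      have e3 : q * a⁻¹ ∈ D'' := by
        by_cases hq1 : q * a⁻¹ = 1
        · rw [hq1]; exact one_mem _
        · by_cases hsq : (q * a⁻¹) ^ 2 = 1
          · rw [hinvc 1 _ e1 _ hwD (orderOf_eq_prime hsq hq1) hwo]; exact hw'D''
          · exfalso
            apply hneq g hgodd hg1
            rw [← hD1]
            have hao : orderOf (q * a⁻¹) = 4 := by
              have h4 := Subgroup.orderOf_dvd_natCard _ e1
              rw [hcardc] at h4
              obtain ⟨j, hj, hj'⟩ := (Nat.dvd_prime_pow Nat.prime_two).1 (show orderOf (q * a⁻¹) ∣ 2 ^ 2 from h4)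
              interval_cases j
              · exact absurd (orderOf_eq_one_iff.1 hj') hq1
              · exact absurd (show (q * a⁻¹) ^ 2 = 1 by rw [show (2 : ℕ) = orderOf (q * a⁻¹) from hj'.symm, pow_orderOf_eq_one]) hsq
              · exact hj'
            rw [← eq_of_le_of_card_ge (zpowers_le.2 e1) (by rw [hcardc, Nat.card_zpowers, hao]),
              ← eq_of_le_of_card_ge (zpowers_le.2 e2) (by rw [hcardc, Nat.card_zpowers, hao])]
      exact h3 (by simpa using mul_mem e3 ha)
  have huniq : ∀ q ∈ Q, orderOf q = 2 → q = w := by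
    intro q hq hqo
    rcases hcover q hq with h | h | h
    · exact hinvc 1 _ h _ hwD hqo hwo
    · exact hinvc g _ h _ hwD' hqo hwo
    · exact hinvc (g ^ 2) _ h _ hw'D'' hqo hwo
  obtain ⟨eQ⟩ : Nonempty (Q ≃* QuaternionGroup 2) := by
    rcases CfsgLib.Solvable.isCyclic_or_quaternion_of_unique hQ (fun A B hA hB => by
      have key : ∀ L : Subgroup Q, Nat.card L = 2 → ∃ x : Q, (x : G) = w ∧ L = zpowers x := by
        intro L hL
        obtain ⟨x, hx⟩ := exists_prime_orderOf_dvd_card' (G := L) 2 (by rw [hL])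
        exact ⟨x, huniq _ (x : Q).2 (by rw [Subgroup.orderOf_coe, Subgroup.orderOf_coe, hx]),
          (eq_of_le_of_card_ge (zpowers_le.2 x.2)
            (by rw [hL, Nat.card_zpowers, Subgroup.orderOf_coe, hx])).symm⟩
      obtain ⟨x, hx, rfl⟩ := key A hA
      obtain ⟨y, hy, rfl⟩ := key B hB
      rw [show x = y from Subtype.ext (hx.trans hy.symm)]) with hc | ⟨-, m, ⟨e⟩⟩
    · haveI := hc
      exact absurd (hcent g hgodd (centralizes_cyclic hQ hgodd (hnorm g))) hg1
    · rcases m with - | - | m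
      · have h := Nat.card_congr e.toEquiv
        rw [hQ8, Nat.card_eq_fintype_card, QuaternionGroup.card] at h
        norm_num at h
      · exact ⟨e⟩
      · haveI : NeZero (2 ^ (m + 1 + 1)) := ⟨by positivity⟩
        have h := Nat.card_congr e.toEquiv
        rw [hQ8, Nat.card_eq_fintype_card, QuaternionGroup.card] at h
        have : 4 ≤ 2 ^ (m + 1 + 1) := by
          rw [pow_succ, pow_succ]
          have : 0 < 2 ^ m := by positivity
          omega
        omega
  -- conjugation embeds `G` modulo `Z(Q)` in `Aut Q`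
  let c : G →* MulAut (QuaternionGroup 2) :=
    (MulAut.congr eQ).toMonoidHom.comp (Q.normalizerMonoidHom.comp ((MonoidHom.id G).codRestrict _ hnorm))
  have hcker : ∀ x, x ∈ c.ker → x ∈ Q ⊓ centralizer (Q : Set G) := by
    intro x hx
    have h' : Q.normalizerMonoidHom ⟨x, hnorm x⟩ = 1 := by
      have := congrArg (MulAut.congr eQ).symm (MonoidHom.mem_ker.1 hx)
      rw [map_one] at this
      exact ((MulAut.congr eQ).symm_apply_apply _).symm.trans this
    have hxc : x ∈ centralizer (Q : Set G) := mem_centralizer_iff.2 fun q hq =>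
      (mul_inv_eq_iff_eq_mul.1 (congrArg (fun ψ : MulAut Q => ((ψ ⟨q, hq⟩ : Q) : G)) h')).symm
    exact ⟨hCQ hxc, hxc⟩
  have hkcard : Nat.card c.ker ≤ 2 := by
    have h1 : ∀ x ∈ Q ⊓ centralizer (Q : Set G), x = 1 ∨ x = w := by
      intro x hx
      by_cases h : x = 1
      · exact Or.inl h
      right
      have hcen : eQ ⟨x, hx.1⟩ ∈ center (QuaternionGroup 2) := mem_center_iff.2 fun y => by
        obtain ⟨q, rfl⟩ := eQ.surjective y
        rw [← map_mul, ← map_mul]
        exact congrArg eQ (Subtype.ext (mem_centralizer_iff.1 hx.2 q q.2))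
      refine huniq x hx.1 (orderOf_eq_prime ?_ h)
      have key : ∀ u : QuaternionGroup 2, (∀ y, y * u = u * y) → u ^ 2 = 1 := by decide
      exact congrArg Subtype.val (eQ.injective (show eQ (⟨x, hx.1⟩ ^ 2) = eQ 1 by
        rw [map_pow, map_one, key _ (mem_center_iff.1 hcen)]))
    classical
    refine le_trans (Nat.card_le_card_of_injective (fun x : c.ker => decide ((x : G) = 1)) ?_) (by simp)
    intro a b hab
    refine Subtype.ext ?_
    rcases h1 _ (hcker a a.2) with ha | ha <;> rcases h1 _ (hcker b b.2) with hb | hb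
    · rw [ha, hb]
    · by_cases h : (b : G) = 1
      · rw [ha, h]
      · simp [ha, h] at hab
    · by_cases h : (a : G) = 1
      · rw [hb, h]
      · simp [hb, h] at hab
    · rw [ha, hb]
  have hGcard : Nat.card G ≤ 48 := by
    rw [← c.ker.card_mul_index, index_ker]
    calc _ ≤ 2 * 24 := Nat.mul_le_mul hkcard ((Nat.card_le_card_of_injective c.range.subtype Subtype.val_injective).trans card_mulAut_quaternion)
      _ = 48 := rfl
  have hg3 : orderOf g = 3 := by
    let φ := c g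
    have hφ : φ ≠ 1 := fun h => by
      obtain ⟨h1, h2⟩ := mem_inf.1 (hcker g h)
      exact hg1 (hcent g hgodd fun q hq => (mem_centralizer_iff.1 h2 q hq).symm)
    obtain ⟨-, -, -, -, hφ3, -⟩ := CfsgLib.Transfer.QSL.exists_sl23_realization φ hφ hgodd
      (by rw [← map_pow, pow_orderOf_eq_one, map_one])
    have h3 : φ ^ 3 = 1 := hφ3 ▸ pow_orderOf_eq_one φ
    have hg3' : g ^ 3 = 1 := by
      refine hcent _ (hgodd.of_dvd_nat (orderOf_pow_dvd 3)) fun q hq => ?_
      have hk : g ^ 3 ∈ c.ker := by rw [MonoidHom.mem_ker, map_pow]; exact h3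
      exact (mem_centralizer_iff.1 (hcker _ hk).2 q hq).symm
    exact orderOf_eq_prime hg3' hg1
  obtain ⟨eU⟩ := iso_sl23 Q eQ g (hnorm g) hg3 (fun h => hg1 (hcent g hgodd fun q hq => (mem_centralizer_iff.1 h q hq).symm))
  refine ⟨Q ⊔ zpowers g, ?_, ⟨eU⟩⟩
  have hU : Nat.card ↥(Q ⊔ zpowers g) = 24 := by
    rw [Nat.card_congr eU.toEquiv, CfsgLib.Classical.card_sl_two_eq, ZMod.card]; norm_num
  have h := (Q ⊔ zpowers g).card_mul_index
  rw [hU] at h
  have hi0 : (Q ⊔ zpowers g).index ≠ 0 := FiniteIndex.index_ne_zero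
  rcases Nat.lt_or_ge (Q ⊔ zpowers g).index 2 with h2 | h2
  · rw [index_eq_one.1 (show (Q ⊔ zpowers g).index = 1 by omega)]; infer_instance
  · exact normal_of_index_eq_two (show (Q ⊔ zpowers g).index = 2 by omega)

end Cfsg.Agent.S2879
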