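import Cfsg.Statements.S3178
import Mathlib.Tactic
import Cfsg.Agent.Lib.InvChar.OddAct

set_option autoImplicit false
open Cfsg

namespace Cfsg.Agent.S3178

/-- Groups with a modular Sylow 2-subgroup have a normal 2-complement. Let S, of order 2^(n+1) with n ≥ 3, be a Sylow 2-subgroup of a finite group G, and suppose S contains an element a of order 2^n and an involution b with b a b⁻¹ = a^(2^(n-1) + 1); so S is the non-abelian 2-group with a cyclic subgroup of index 2 that is neither dihedral, semidihedral nor generalized quaternion. Then G has a normal 2-complement. -/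
theorem result {G : Type*} [Group G] [Finite G]
    (S : Sylow 2 G) (n : ℕ) (hn : 3 ≤ n) (hS : Nat.card ↥(S : Subgroup G) = 2 ^ (n + 1))
    (a b : G) (ha : a ∈ (S : Subgroup G)) (hb : b ∈ (S : Subgroup G))
    (hao : orderOf a = 2 ^ n) (hbo : orderOf b = 2) (hrel : b * a * b⁻¹ = a ^ (2 ^ (n - 1) + 1)) :
    Cfsg.HasNormalPComplement 2 G := by
  haveI : Fact (Nat.Prime 2) := ⟨Nat.prime_two⟩
  set A := Subgroup.zpowers a with hA
  set z := a ^ 2 ^ (n - 1) with hz
  set r := a ^ 2 ^ (n - 2) with hr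
  set c := 2 ^ (n - 1) + 1 with hc
  have h2n : (2:ℕ) ^ n = 2 ^ (n - 1) * 2 := by rw [← pow_succ]; congr 1; omega
  have h2n1 : (2:ℕ) ^ (n - 1) = 2 ^ (n - 2) * 2 := by rw [← pow_succ]; congr 1; omega
  have hz1 : z ≠ 1 := fun h => by
    have := orderOf_dvd_of_pow_eq_one h
    rw [hao, h2n] at this
    have := Nat.le_of_dvd (by positivity) this
    have : 0 < 2 ^ (n - 1) := by positivity
    omega
  have hzz : z * z = 1 := by rw [hz, ← pow_add, ← two_mul, mul_comm, ← h2n, ← hao, pow_orderOf_eq_one]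
  have hrr : r * r = z := by rw [hz, hr, ← pow_add, ← two_mul, mul_comm, ← h2n1]
  have hσ : ∀ u ∈ A, b * u * b⁻¹ = u ^ c := by
    intro u hu
    obtain ⟨i, rfl⟩ := Subgroup.mem_zpowers_iff.1 hu
    rw [← conj_zpow, hrel, ← zpow_natCast a c, ← zpow_natCast (a ^ i) c, ← zpow_mul, ← zpow_mul, mul_comm]
  have hzA : z ∈ A := Subgroup.npow_mem_zpowers a _
  have hrA : r ∈ A := Subgroup.npow_mem_zpowers a _
  have hbA : b ∉ A := by
    intro h
    obtain ⟨i, hi⟩ := Subgroup.mem_zpowers_iff.1 h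
    have hcomm : b * a * b⁻¹ = a := by rw [← hi]; group
    rw [hrel, hc, pow_succ, ← hz] at hcomm
    exact hz1 (mul_eq_right.1 hcomm)
  have hAS : A ≤ (S : Subgroup G) := Subgroup.zpowers_le.2 ha
  have hbinv : b⁻¹ = b := inv_eq_of_mul_eq_one_right (by rw [← sq, ← hbo, pow_orderOf_eq_one])
  have hbb : b * b = 1 := by nth_rw 2 [← hbinv]; exact mul_inv_cancel b
  have hidx : (A.subgroupOf (S : Subgroup G)).index = 2 := by
    have h := (A.subgroupOf (S : Subgroup G)).card_mul_index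
    rw [hS, Nat.card_congr (Subgroup.subgroupOfEquivOfLe hAS).toEquiv, Nat.card_zpowers, hao, pow_succ] at h
    exact Nat.eq_of_mul_eq_mul_left (by positivity) h
  have hdec : ∀ x ∈ (S : Subgroup G), x ∈ A ∨ ∃ u ∈ A, x = u * b := by
    intro x hx
    refine or_iff_not_imp_left.2 fun hxA => ⟨x * b, ?_, by rw [mul_assoc, hbb, mul_one]⟩
    exact (Subgroup.mul_mem_iff_of_index_two (H := A.subgroupOf (S : Subgroup G)) hidx
      (a := ⟨x, hx⟩) (b := ⟨b, hb⟩)).2 (by simp only [Subgroup.mem_subgroupOf, hxA, hbA])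
  have hpown : ∀ u ∈ A, u ^ 2 ^ n = 1 := by
    intro u hu
    obtain ⟨i, rfl⟩ := Subgroup.mem_zpowers_iff.1 hu
    rw [← zpow_natCast, ← zpow_mul, mul_comm, zpow_mul, zpow_natCast, ← hao, pow_orderOf_eq_one, one_zpow]
  set d := 2 ^ (n - 2) + 1 with hd
  have hdodd : Nat.Coprime (2 ^ n) d := by
    refine Nat.Coprime.pow_left _ ?_
    rw [Nat.prime_two.coprime_iff_not_dvd, hd]
    obtain ⟨j, hj⟩ := dvd_pow_self 2 (show n - 2 ≠ 0 by omega)
    omega
  have hsq : ∀ u ∈ A, (u * b) * (u * b) = (u ^ 2) ^ d := by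
    intro u hu
    have h1 : (u * b) * (u * b) = u * (b * u * b⁻¹) := by rw [hbinv]; simp [mul_assoc]
    rw [h1, hσ u hu, ← pow_succ', ← pow_mul]
    congr 1
    rw [hc, hd, h2n1]; ring
  have hpow : ∀ u ∈ A, ∀ m, (u * b) ^ 2 ^ (m + 1) = (u ^ 2 ^ (m + 1)) ^ d := by
    intro u hu m
    rw [pow_succ' 2 m, pow_mul, sq, hsq u hu, ← pow_mul, ← pow_mul, ← pow_mul]
    congr 1; ring
  have hcancel : ∀ w ∈ A, w ^ d = 1 → w = 1 := by
    intro w hw h
    refine orderOf_eq_one_iff.1 (Nat.eq_one_of_dvd_one (hdodd ▸ Nat.dvd_gcd ?_ (orderOf_dvd_of_pow_eq_one h)))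
    exact orderOf_dvd_of_pow_eq_one (hpown w hw)
  have hinv : ∀ w ∈ A, w * w = 1 → w ≠ 1 → w = z := by
    intro w hw hww hw1
    obtain ⟨i, rfl⟩ := Subgroup.mem_zpowers_iff.1 hw
    rw [← zpow_add, ← orderOf_dvd_iff_zpow_eq_one, hao] at hww
    have h2 : ((2 ^ (n - 1) : ℕ) : ℤ) ∣ i := by
      obtain ⟨j, hj⟩ := hww
      refine ⟨j, ?_⟩
      rw [h2n] at hj; push_cast at hj ⊢; linarith
    obtain ⟨j, rfl⟩ := h2
    rw [zpow_mul, zpow_natCast, ← hz] at hw1 ⊢
    rcases Int.even_or_odd' j with ⟨l, rfl | rfl⟩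
    · exact absurd (by rw [zpow_mul, zpow_ofNat, sq, hzz, one_zpow]) hw1
    · rw [zpow_add, zpow_mul, zpow_ofNat, sq, hzz, one_zpow, one_mul, zpow_one]
  -- squares lie in `A`; involutions of `S`
  have hsqA : ∀ x ∈ (S : Subgroup G), x * x ∈ A := by
    intro x hx
    rcases hdec x hx with h | ⟨u, hu, rfl⟩
    · exact mul_mem h h
    · rw [hsq u hu]; exact pow_mem (pow_mem hu _) _
  have hV : ∀ x ∈ (S : Subgroup G), x * x = 1 → x = 1 ∨ x = z ∨ x = b ∨ x = z * b := by
    intro x hx hxx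
    rcases hdec x hx with h | ⟨u, hu, rfl⟩
    · rcases eq_or_ne x 1 with h1 | h1
      · exact Or.inl h1
      · exact Or.inr (Or.inl (hinv x h hxx h1))
    · rw [hsq u hu] at hxx
      have hu2 := hcancel _ (pow_mem hu _) hxx
      rcases eq_or_ne u 1 with h1 | h1
      · exact Or.inr (Or.inr (Or.inl (by rw [h1, one_mul])))
      · exact Or.inr (Or.inr (Or.inr (by rw [hinv u hu (by rw [← sq, hu2]) h1])))
  have hrb : r * b = b * r := by
    have h := hσ r hrA
    have h4 : r ^ c = r := by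
      have : r ^ 4 = 1 := by rw [show 4 = 2 * 2 from rfl, pow_mul, sq r, hrr, sq, hzz]
      obtain ⟨j, hj⟩ : 4 ∣ 2 ^ (n - 1) := by
        rw [show (4 : ℕ) = 2 ^ 2 from rfl]; exact pow_dvd_pow 2 (by omega)
      rw [hc, hj, pow_succ, pow_mul, this, one_pow, one_mul]
    rw [h4] at h
    exact (mul_inv_eq_iff_eq_mul.1 h).symm
  have hrz : r * z = z * r := by rw [← hrr, mul_assoc]
  have hzb : z * b = b * z := by rw [← hrr, mul_assoc, hrb, ← mul_assoc, hrb, mul_assoc]
  -- the key claim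
  have key : ∀ D : Subgroup G, D ≤ (S : Subgroup G) → ∀ g ∈ Subgroup.normalizer (D : Set G),
      (orderOf g).Coprime 2 → ∀ x ∈ D, g * x * g⁻¹ = x := by
    intro D hDS g hg hgo
    have hgD : ∀ {x}, x ∈ D → g * x * g⁻¹ ∈ D := fun hx => (Subgroup.mem_normalizer_iff.1 hg _).1 hx
    have hgD' : ∀ {x}, x ∈ D → g⁻¹ * x * g⁻¹⁻¹ ∈ D := fun hx => (Subgroup.mem_normalizer_iff.1 (inv_mem hg) _).1 hx
    have hfixz : z ∈ D → g * z * g⁻¹ = z := by
      intro hzD
      by_contra hgz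
      have hy := hgD hzD
      have hyy : g * z * g⁻¹ * (g * z * g⁻¹) = 1 := by
        rw [show g * z * g⁻¹ * (g * z * g⁻¹) = g * (z * z) * g⁻¹ by group, hzz]; group
      have hbD : b ∈ D := by
        rcases hV _ (hDS hy) hyy with h | h | h | h
        · exact absurd (conj_eq_one_iff.1 h) hz1
        · exact absurd h hgz
        · exact h ▸ hy
        · have : z * (g * z * g⁻¹) ∈ D := mul_mem hzD hy
          rwa [h, ← mul_assoc, hzz, one_mul] at this
      let V : Set G := {w | w ∈ (S : Subgroup G) ∧ w * w = 1}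
      have hVD : ∀ w ∈ V, w ∈ D := by
        rintro w ⟨hw, hww⟩
        rcases hV w hw hww with rfl | rfl | rfl | rfl
        exacts [one_mem _, hzD, hbD, mul_mem hzD hbD]
      let C := Subgroup.centralizer V
      have hrC : r ∈ C := Subgroup.mem_centralizer_iff.2 fun w ⟨hw, hww⟩ => by
        rcases hV w hw hww with rfl | rfl | rfl | rfl
        · simp
        · exact hrz.symm
        · exact hrb.symm
        · rw [mul_assoc, ← hrb, ← mul_assoc, ← hrz, mul_assoc]
      have hcommC : ∀ h : G, (∀ w ∈ V, h⁻¹ * w * h⁻¹⁻¹ ∈ V) → ∀ x ∈ C, h * x * h⁻¹ ∈ C := by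
        intro h hh x hx
        refine Subgroup.mem_centralizer_iff.2 fun w hw => ?_
        have e := Subgroup.mem_centralizer_iff.1 hx _ (hh w hw)
        rw [inv_inv] at e
        calc w * (h * x * h⁻¹) = h * (h⁻¹ * w * h * x) * h⁻¹ := by group
          _ = h * (x * (h⁻¹ * w * h)) * h⁻¹ := by rw [e]
          _ = h * x * h⁻¹ * w := by group
      have hconjsq : ∀ h w : G, w * w = 1 → h * w * h⁻¹ * (h * w * h⁻¹) = 1 := fun h w hw => by
        rw [show h * w * h⁻¹ * (h * w * h⁻¹) = h * (w * w) * h⁻¹ by group, hw]; group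
      have hSC : (S : Subgroup G) ≤ Subgroup.normalizer (C : Set G) := by
        intro s hs
        have hs1 : ∀ t ∈ (S : Subgroup G), ∀ w ∈ V, t * w * t⁻¹ ∈ V := fun t ht w ⟨hw, hww⟩ =>
          ⟨mul_mem (mul_mem ht hw) (inv_mem ht), hconjsq t w hww⟩
        refine Subgroup.mem_normalizer_iff.2 fun x => ⟨fun hx => hcommC s (hs1 _ (inv_mem hs)) x hx, fun hx => ?_⟩
        have := hcommC s⁻¹ (fun w hw => by simpa using hs1 s hs w hw) _ hx
        simpa [mul_assoc] using this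
      have htC : g * r * g⁻¹ ∈ C := hcommC g (fun w hw => ⟨hDS (hgD' (hVD w hw)), hconjsq _ _ hw.2⟩) r hrC
      have ht4 : (g * r * g⁻¹) ^ 2 ^ 2 = 1 := by
        rw [conj_pow, show (2:ℕ) ^ 2 = 2 * 2 from rfl, pow_mul, sq r, hrr, sq, hzz]; group
      obtain ⟨e, he, heS⟩ := CfsgLib.InvChar.exists_conj_mem_of_normalizes S hSC htC ht4
      have h1 := hsqA _ heS
      have h2 : e * (g * r * g⁻¹) * e⁻¹ * (e * (g * r * g⁻¹) * e⁻¹) = g * z * g⁻¹ := by
        have h3 := Subgroup.mem_centralizer_iff.1 he _ (show g * z * g⁻¹ ∈ V from ⟨hDS hy, hyy⟩)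
        calc _ = e * (g * (r * r) * g⁻¹) * e⁻¹ := by group
          _ = e * (g * z * g⁻¹) * e⁻¹ := by rw [hrr]
          _ = g * z * g⁻¹ := by rw [← h3, mul_inv_cancel_right]
      rw [h2] at h1
      exact hgz (hinv _ h1 hyy fun h => hz1 (conj_eq_one_iff.1 h))
    suffices hall : ∀ m, ∀ x ∈ D, x ^ 2 ^ (m + 1) = 1 → g * x * g⁻¹ = x by
      intro x hx
      obtain ⟨k, hk⟩ := S.isPGroup' ⟨x, hDS hx⟩
      have hk : x ^ 2 ^ k = 1 := congrArg Subtype.val hk
      exact hall k x hx (by rw [pow_succ, pow_mul, hk, one_pow])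
    intro m
    induction m with
    | zero =>
      intro x hx hxx
      rw [zero_add, pow_one, sq] at hxx
      by_contra hne
      have hy := hgD hx
      have hyy : g * x * g⁻¹ * (g * x * g⁻¹) = 1 := by
        rw [show g * x * g⁻¹ * (g * x * g⁻¹) = g * (x * x) * g⁻¹ by group, hxx]; group
      have he : ∀ e : G, e ∈ D → (e = 1 ∨ e = z) → g * e * g⁻¹ = e := by
        rintro e he (rfl | rfl)
        · group
        · exact hfixz he
      rcases hV x (hDS hx) hxx with h | h | h | h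
      · exact hne (by rw [h]; group)
      · exact hne (by rw [h]; exact hfixz (h ▸ hx))
      all_goals
        have hxz : ∀ y, (y = 1 ∨ y = z ∨ y = b ∨ y = z * b) → y ≠ x → (y = 1 ∨ y = z) ∨ x⁻¹ * y = z := by
          intro y hy' hyx
          rcases hy' with rfl | rfl | rfl | rfl
          · exact Or.inl (Or.inl rfl)
          · exact Or.inl (Or.inr rfl)
          · right; first
              | exact absurd h.symm hyx
              | (rw [h, mul_inv_rev, hbinv, inv_eq_of_mul_eq_one_right hzz, mul_assoc, hzb, ← mul_assoc, hbb, one_mul])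
          · right; first
              | exact absurd h.symm hyx
              | (rw [h, hbinv, ← mul_assoc, ← hzb, mul_assoc, hbb, mul_one])
        rcases hxz _ (hV _ (hDS hy) hyy) hne with (h1 | h1) | h1
        · exact hne (by rw [h1, conj_eq_one_iff.1 h1])
        · have hzD : z ∈ D := h1 ▸ hy
          have h2 := hfixz hzD
          exact hne (by rw [h1]; exact (mul_left_cancel (mul_right_cancel (h1.trans h2.symm))).symm)
        · have hzD : z ∈ D := h1 ▸ mul_mem (inv_mem hx) hy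
          exact hne (CfsgLib.InvChar.fix_of_conj_eq_mul (p := 2) (k := 1) hgo
            (by rw [pow_one, sq, hzz]) (hfixz hzD) (by rw [← h1, mul_inv_cancel_left]))
    | succ m ih =>
      intro x hx hxx
      rcases eq_or_ne (x ^ 2 ^ (m + 1)) 1 with h | hne1
      · exact ih x hx h
      have hy := hgD hx
      have hyy : (g * x * g⁻¹) ^ 2 ^ (m + 1 + 1) = 1 := by rw [conj_pow, hxx]; group
      have hyne : (g * x * g⁻¹) ^ 2 ^ (m + 1) ≠ 1 := by
        rw [conj_pow]; exact fun h => hne1 (conj_eq_one_iff.1 h)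
      -- the `A`-part
      have part : ∀ w ∈ D, w ^ 2 ^ (m + 1 + 1) = 1 → w ^ 2 ^ (m + 1) ≠ 1 →
          ∃ u ∈ A, (w = u ∨ w = u * b) ∧ u ^ 2 ^ (m + 1) = z := by
        intro w hw hww hwne
        rcases hdec w (hDS hw) with h | ⟨u, hu, rfl⟩
        · refine ⟨w, h, Or.inl rfl, hinv _ (pow_mem h _) ?_ hwne⟩
          rw [← pow_add, ← two_mul, ← pow_succ']; exact hww
        · rw [hpow u hu] at hww hwne
          refine ⟨u, hu, Or.inr rfl, hinv _ (pow_mem hu _) ?_ fun h => hwne (by rw [h, one_pow])⟩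
          rw [← pow_add, ← two_mul, ← pow_succ']; exact hcancel _ (pow_mem hu _) hww
      obtain ⟨u, hu, hux, huz⟩ := part x hx hxx hne1
      obtain ⟨v, hv, hvy, hvz⟩ := part _ hy hyy hyne
      have hw : (u⁻¹ * v) ^ 2 ^ (m + 1) = 1 := by
        have hcuv : Commute u⁻¹ v := by
          obtain ⟨i, rfl⟩ := Subgroup.mem_zpowers_iff.1 hu
          obtain ⟨j, rfl⟩ := Subgroup.mem_zpowers_iff.1 hv
          exact (((Commute.refl a).zpow_zpow i j)).inv_left
        rw [hcuv.mul_pow, inv_pow, huz, hvz, inv_mul_cancel]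
      have hwA : u⁻¹ * v ∈ A := mul_mem (inv_mem hu) hv
      have hAb : ∀ w ∈ A, w ^ 2 ^ (m + 1) = 1 → (b * w * b) ^ 2 ^ (m + 1) = 1 ∧ (w * b) ^ 2 ^ (m + 1) = 1 ∧ (b * w) ^ 2 ^ (m + 1) = 1 := by
        intro w hw' hw1
        have h3 : (w * b) ^ 2 ^ (m + 1) = 1 := by rw [hpow w hw', hw1, one_pow]
        refine ⟨?_, h3, ?_⟩
        · nth_rw 2 [← hbinv]; rw [conj_pow, hw1]; group
        · rw [show b * w = b * (w * b) * b⁻¹ by group, conj_pow, h3]; group
      have he : (x⁻¹ * (g * x * g⁻¹)) ^ 2 ^ (m + 1) = 1 := by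
        obtain ⟨h4, h5, h6⟩ := hAb _ hwA hw
        rcases hux with hxu | hxu <;> rcases hvy with hyv | hyv <;> rw [hyv, hxu]
        · exact hw
        · rw [← mul_assoc]; exact h5
        · rw [mul_inv_rev, hbinv, mul_assoc]; exact h6
        · rw [mul_inv_rev, hbinv, mul_assoc b, ← mul_assoc u⁻¹, ← mul_assoc]; exact h4
      exact CfsgLib.InvChar.fix_of_conj_eq_mul (p := 2) hgo he (ih _ (mul_mem (inv_mem hx) hy) he) (mul_inv_cancel_left _ _).symm
  rw [CfsgLib.Transfer.hasNormalPComplement_iff_frobenius]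
  intro D hD g hg hgo
  obtain ⟨R, hR⟩ := hD.exists_le_sylow
  obtain ⟨h, hh⟩ := MulAction.exists_smul_eq G R S
  have hin : D.map (MulAut.conj h).toMonoidHom ≤ (S : Subgroup G) := by
    rw [← hh, Sylow.coe_subgroup_smul]
    rintro _ ⟨x, hx, rfl⟩; exact ⟨x, hR hx, rfl⟩
  have hgn : h * g * h⁻¹ ∈ Subgroup.normalizer ((D.map (MulAut.conj h).toMonoidHom : Subgroup G) : Set G) := by
    refine Subgroup.mem_normalizer_iff.2 fun y => ⟨?_, ?_⟩
    · rintro ⟨x, hx, rfl⟩
      exact ⟨g * x * g⁻¹, (Subgroup.mem_normalizer_iff.1 hg x).1 hx, by simp [mul_assoc]⟩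
    · rintro ⟨x, hx, hxy⟩
      refine ⟨g⁻¹ * x * g, by simpa using (Subgroup.mem_normalizer_iff.1 (inv_mem hg) x).1 hx, ?_⟩
      have : y = (h * g * h⁻¹)⁻¹ * (h * x * h⁻¹) * (h * g * h⁻¹) := by
        rw [show h * x * h⁻¹ = h * g * h⁻¹ * y * (h * g * h⁻¹)⁻¹ from hxy]; group
      rw [this]; simp [mul_assoc]
  refine Subgroup.mem_centralizer_iff.2 fun x hx => ?_
  have h1 := key _ hin _ hgn (by rwa [show orderOf (h * g * h⁻¹) = orderOf g from (MulAut.conj h).orderOf_eq g]) _ ⟨x, hx, rfl⟩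
  have h2 : h * (g * x * g⁻¹) * h⁻¹ = h * x * h⁻¹ := by
    have e : h * g * h⁻¹ * (h * x * h⁻¹) * (h * g * h⁻¹)⁻¹ = h * x * h⁻¹ := h1
    rw [← e]; group
  exact (mul_inv_eq_iff_eq_mul.1 (mul_left_cancel (mul_right_cancel h2))).symm

end Cfsg.Agent.S3178
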