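import Cfsg.Statements.S0200
import Cfsg.Agent.Lib.Invol.BaerSuzuki

set_option autoImplicit false
open Cfsg

namespace Cfsg.Agent.S0200

/-- An involution lying in no normal 2-subgroup of a finite group inverts a nontrivial element of odd order (a consequence of the Baer–Suzuki Theorem). -/
theorem result {G : Type*} [Group G] [Finite G] (t : G) (ht : orderOf t = 2) (hO : ∀ N : Subgroup G, N.Normal → IsPGroup 2 N → t ∉ N) : ∃ h : G, h ≠ 1 ∧ Odd (orderOf h) ∧ t * h * t⁻¹ = h⁻¹ := by
  by_contra hcon
  push Not at hcon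
  obtain ⟨N, hN, hN2, htN⟩ := CfsgLib.Invol.baer_suzuki (p := 2) (Subgroup.zpowers t) (fun g => by
    set s := g * t * g⁻¹ with hs
    have hso : orderOf s = 2 := by rw [hs, CfsgLib.Invol.orderOf_conj_eq, ht]
    -- the order of `t * s` is a power of two
    obtain ⟨a, m, hm2, hm⟩ := Nat.exists_eq_pow_mul_and_not_dvd (orderOf_pos (t * s)).ne' 2 (by norm_num)
    have hw : (t * s) ^ 2 ^ a = 1 := by
      by_contra hne
      refine hcon _ hne ?_ ?_
      · rw [orderOf_pow' _ (by positivity), hm, Nat.gcd_eq_right (Dvd.intro m rfl),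
          Nat.mul_div_cancel_left _ (by positivity)]
        exact Nat.not_even_iff_odd.1 fun h => hm2 (even_iff_two_dvd.1 h)
      · exact CfsgLib.Invol.conj_pow_inv (CfsgLib.Invol.conj_left_mul ht hso) _
    have e : Subgroup.zpowers t ⊔ (Subgroup.zpowers t).map (MulAut.conj g).toMonoidHom =
        Subgroup.closure ({t, s} : Set G) := by
      rw [MonoidHom.map_zpowers, Subgroup.zpowers_eq_closure, Subgroup.zpowers_eq_closure,
        ← Subgroup.closure_union, Set.singleton_union]
      simp [hs]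
    rw [e]
    rintro ⟨x, hx⟩
    refine ⟨a + 1, Subtype.ext ?_⟩
    have hk : ∀ k : ℤ, ((t * s) ^ k) ^ 2 ^ a = 1 := fun k => by
      rw [← zpow_natCast, ← zpow_mul, mul_comm, zpow_mul, zpow_natCast, hw, one_zpow]
    simp only [SubmonoidClass.mk_pow, OneMemClass.coe_one]
    obtain ⟨k, rfl | rfl⟩ := (CfsgLib.Invol.mem_closure_pair ht hso).1 hx
    · rw [pow_succ, pow_mul, hk, one_pow]
    · rw [pow_succ', pow_mul]
      have h2 : ((t * s) ^ k * t) ^ 2 = 1 := by
        rw [pow_two]
        by_cases h1 : (t * s) ^ k * t = 1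
        · rw [h1, one_mul]
        · exact CfsgLib.Invol.invol_mul_self (CfsgLib.Invol.left_mul_pow_invol ht hso k h1)
      rw [h2, one_pow])
  exact hO N hN hN2 (htN (Subgroup.mem_zpowers t))

end Cfsg.Agent.S0200
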