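import Cfsg.Statements.S2015
import Cfsg.Agent.Lib.PLocal.KTransfer

set_option autoImplicit false
universe u
open Cfsg
open scoped commutatorElement

namespace Cfsg.Agent.S2015

/-- For p ≥ 5, every finite p-group P has a characteristic subgroup K containing Z(P), depending only on P, whose normalizer controls transfer wherever P is a Sylow subgroup: for every finite group G and every embedding ι of P onto a Sylow p-subgroup of G, the intersection of ι(P) with the derived subgroup of G equals its intersection with the derived subgroup of N_G(ι(K)). -/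
theorem result (p : ℕ) [Fact p.Prime] (hp : 5 ≤ p) (P : Type u) [Group P] [Finite P] (hP : IsPGroup p P) : ∃ K : Subgroup P, K.Characteristic ∧ Subgroup.center P ≤ K ∧ ∀ (G : Type u) [Group G] [Finite G] (ι : P →* G), Function.Injective ι → (∃ T : Sylow p G, (T : Subgroup G) = ι.range) → ι.range ⊓ commutator G = ι.range ⊓ (commutator ↥(Subgroup.normalizer ((K.map ι : Subgroup G) : Set G))).map (Subgroup.normalizer ((K.map ι : Subgroup G) : Set G)).subtype := by
  open CfsgLib.PLocal Subgroup in
  · refine ⟨Cfsg.kInfLower P, ?_, (center_le_kInf hP).1, fun G _ _ ι hι ⟨T, hT⟩ => ?_⟩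
    · exact characteristic_iff_map_eq.2 fun φ => kInfLower_isCharPFunctor.2 P P hP φ
    · have h1 := (ctrlT_iff kInfLower_singleton_functor T).1 (ctrlT_kInfLower hp G (isSec_self G))
      simp only [transferJoin, Set.mem_singleton_iff, iSup_iSup_eq_left] at h1
      have hK : (Cfsg.kInfLower P).map ι = Cfsg.inducedFunctor (G := G) Cfsg.kInfLower (T : Subgroup G) := by
        show _ = (Cfsg.kInfLower (T : Subgroup G)).map (T : Subgroup G).subtype
        let e : P ≃* (T : Subgroup G) :=
          (MonoidHom.ofInjective hι).trans (MulEquiv.subgroupCongr hT.symm)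
        have he : (Cfsg.kInfLower P).map e.toMonoidHom = Cfsg.kInfLower (T : Subgroup G) :=
          kInfLower_isCharPFunctor.2 P _ hP e
        rw [← he, Subgroup.map_map]
        rfl
      rw [hK, map_subtype_commutator, ← hT]
      exact le_antisymm h1 (inf_le_inf_left _ (commutator_mono le_top le_top))

end Cfsg.Agent.S2015
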