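import Cfsg.Statements.S0609
import Cfsg.Agent.Lib.PLocal.QuotientCoprime

set_option autoImplicit false
open Cfsg
open scoped commutatorElement

namespace Cfsg.Agent.S0609

/-- Thompson factorizability passes to and from the quotient by the largest normal subgroup of order prime to p. -/
theorem result {G : Type*} [Group G] [Finite G] {p : ℕ} [Fact p.Prime] : Cfsg.IsThompsonFactorizable p G ↔ Cfsg.IsThompsonFactorizable p (G ⧸ Cfsg.pPrimeCore p G) := by
  haveI := Cfsg.pPrimeCore_normal p G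
  set π := QuotientGroup.mk' (Cfsg.pPrimeCore p G) with hπ
  have hπs : Function.Surjective π := QuotientGroup.mk'_surjective _
  have hO := CfsgLib.Comp.coprime_card_pPrimeCore p G
  have hO' : Cfsg.pPrimeCore p (G ⧸ Cfsg.pPrimeCore p G) = ⊥ :=
    CfsgLib.Solvable.pPrimeCore_quotient_eq_bot p
  have key : ∀ S : Sylow p G,
      Subgroup.centralizer ((Cfsg.omegaOne p (((S.mapSurjective hπs : Sylow p (G ⧸ Cfsg.pPrimeCore p G)) : Subgroup (G ⧸ Cfsg.pPrimeCore p G)) ⊓
          Subgroup.centralizer (((S.mapSurjective hπs : Sylow p (G ⧸ Cfsg.pPrimeCore p G)) : Subgroup (G ⧸ Cfsg.pPrimeCore p G)) : Set (G ⧸ Cfsg.pPrimeCore p G))) : Subgroup (G ⧸ Cfsg.pPrimeCore p G)) : Set (G ⧸ Cfsg.pPrimeCore p G)) =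
        (Subgroup.centralizer (Cfsg.omegaOne p ((S : Subgroup G) ⊓
          Subgroup.centralizer ((S : Subgroup G) : Set G)) : Set G)).map π ∧
      Subgroup.normalizer ((Cfsg.thompsonSubgroupOf p ((S.mapSurjective hπs : Sylow p (G ⧸ Cfsg.pPrimeCore p G)) : Subgroup (G ⧸ Cfsg.pPrimeCore p G)) : Subgroup (G ⧸ Cfsg.pPrimeCore p G)) : Set (G ⧸ Cfsg.pPrimeCore p G)) =
        (Subgroup.normalizer (Cfsg.thompsonSubgroupOf p (S : Subgroup G) : Set G)).map π := by
    intro S
    have hi := CfsgLib.PLocal.injOn_mk'_of_isPGroup hO S.2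
    constructor
    · rw [Sylow.coe_mapSurjective, ← CfsgLib.PLocal.center_map_of_injOn π hi,
        ← CfsgLib.PLocal.omegaOne_map_of_injOn π hi inf_le_left,
        CfsgLib.Comp.map_centralizer_eq hO
          (S.2.to_le ((CfsgLib.PLocal.omegaOne_le p _).trans inf_le_left))]
    · rw [Sylow.coe_mapSurjective, ← CfsgLib.PLocal.thompsonOf_map_of_injOn π hi,
        CfsgLib.Comp.map_normalizer_eq hO (S.2.to_le (CfsgLib.PLocal.thompsonOf_le _))]
  constructor
  · intro h S' g'
    obtain ⟨S, rfl⟩ := Sylow.mapSurjective_surjective hπs p S'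
    obtain ⟨g, rfl⟩ := hπs g'
    obtain ⟨x, hx, c, hc, n, hn, rfl⟩ := h S g
    refine ⟨1, one_mem _, π c, ?_, π n, ?_, ?_⟩
    · rw [(key S).1]; exact Subgroup.mem_map_of_mem π hc
    · rw [(key S).2]; exact Subgroup.mem_map_of_mem π hn
    · rw [map_mul, map_mul, hπ, (QuotientGroup.mk'_apply _ x), (QuotientGroup.eq_one_iff x).2 hx]
  · intro h S g
    obtain ⟨x', hx', c', hc', n', hn', he⟩ := h (S.mapSurjective hπs) (π g)
    rw [hO', Subgroup.mem_bot] at hx'
    subst hx'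
    rw [(key S).1] at hc'
    rw [(key S).2] at hn'
    obtain ⟨c, hc, rfl⟩ := hc'
    obtain ⟨n, hn, rfl⟩ := hn'
    refine ⟨g * n⁻¹ * c⁻¹, ?_, c, hc, n, hn, by group⟩
    rw [← QuotientGroup.eq_one_iff, ← QuotientGroup.mk'_apply, map_mul, map_mul, map_inv, map_inv,
      ← hπ, he]
    group

end Cfsg.Agent.S0609
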