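import Cfsg.Statements.S0618
import Cfsg.Agent.Lib.Comp.FFFail

set_option autoImplicit false
set_option linter.style.haveILetI false
open Cfsg

namespace Cfsg.Agent.S0618

/-- A p-separable group with trivial p'-core in which the Thompson factorization fails has p = 2 or 3, and J(G) induces on the normal closure of Ω₁(Z(S)) a group containing a normal SL(2, p). -/
theorem result {G : Type*} [Group G] [Finite G] {p : ℕ} [Fact p.Prime] (hsep : Cfsg.IsPSolvable p G) (hO : Cfsg.pPrimeCore p G = ⊥) (hnf : ¬ Cfsg.IsThompsonFactorizable p G) : (p = 2 ∨ p = 3) ∧ ∃ E : Subgroup G, Subgroup.centralizer ((⨆ S : Sylow p G, Cfsg.omegaOne p ((S : Subgroup G) ⊓ Subgroup.centralizer ((S : Subgroup G) : Set G))) : Set G) ≤ E ∧ E ≤ Cfsg.thompsonSubgroup p G ⊔ Subgroup.centralizer ((⨆ S : Sylow p G, Cfsg.omegaOne p ((S : Subgroup G) ⊓ Subgroup.centralizer ((S : Subgroup G) : Set G))) : Set G) ∧ Cfsg.thompsonSubgroup p G ⊔ Subgroup.centralizer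 ((⨆ S : Sylow p G, Cfsg.omegaOne p ((S : Subgroup G) ⊓ Subgroup.centralizer ((S : Subgroup G) : Set G))) : Set G) ≤ Subgroup.normalizer (E : Set G) ∧ ∃ hn : ((Subgroup.centralizer ((⨆ S : Sylow p G, Cfsg.omegaOne p ((S : Subgroup G) ⊓ Subgroup.centralizer ((S : Subgroup G) : Set G))) : Set G)).subgroupOf E).Normal, Nonempty ((↥E ⧸ (Subgroup.centralizer ((⨆ S : Sylow p G, Cfsg.omegaOne p ((S : Subgroup G) ⊓ Subgroup.centralizer ((S : Subgroup G) : Set G))) : Set G)).subgroupOf E) ≃* Matrix.SpecialLinearGroup (Fin 2) (ZMod p)) := by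
  obtain ⟨A, hA⟩ := CfsgLib.Comp.FF.exists_atom_fail hsep hO hnf
  have S := CfsgLib.Comp.FF.setup_fail hsep hO
  have hn := (CfsgLib.Comp.FF.factorData S (CfsgLib.Comp.FF.hS3_fail hsep hO) hA).norm
  obtain ⟨e⟩ := (CfsgLib.Comp.FF.ecData S hA).iso
  have hle := (CfsgLib.Comp.FF.ecData S hA).le
  refine ⟨CfsgLib.Comp.FF.prime_of_atom S hA, ?_⟩
  rw [CfsgLib.Comp.FF.centralizer_iUnion_vz]
  set V := CfsgLib.Comp.FF.VZ p G
  set ρ := CfsgLib.Comp.FF.rho V with hρ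
  set C := Subgroup.centralizer (V : Set G) with hC
  set Ē := CfsgLib.Comp.FF.Ec p (CfsgLib.Comp.FF.JH V p) A with hĒ
  have hker : ρ.ker = C := CfsgLib.Comp.FF.rho_ker V
  have hJ : (CfsgLib.Comp.FF.JH V p).comap ρ = Cfsg.thompsonSubgroup p G ⊔ C := by
    rw [CfsgLib.Comp.FF.JH, Subgroup.comap_map_eq, hker]
  refine ⟨Ē.comap ρ, hker ▸ MonoidHom.ker_le_comap _ _, hJ ▸ Subgroup.comap_mono hle, ?_, ?_⟩
  · rw [← hJ]
    exact (Subgroup.comap_mono hn).trans (Subgroup.le_normalizer_comap ρ)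
  · have hrng : Ē ≤ ρ.range := hle.trans (CfsgLib.Comp.FF.JH_le_range V)
    let f : ↥(Ē.comap ρ) →* Ē := (ρ.comp (Ē.comap ρ).subtype).codRestrict Ē fun x => x.2
    have hf : Function.Surjective f := by
      rintro ⟨y, hy⟩
      obtain ⟨x, rfl⟩ := hrng hy
      exact ⟨⟨x, hy⟩, rfl⟩
    have hk : f.ker = C.subgroupOf (Ē.comap ρ) := by
      ext x
      rw [MonoidHom.mem_ker, Subgroup.mem_subgroupOf, ← hker, MonoidHom.mem_ker, Subtype.ext_iff]
      rfl
    have hnk : (C.subgroupOf (Ē.comap ρ)).Normal := hk ▸ inferInstance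
    exact ⟨hnk, ⟨((QuotientGroup.quotientMulEquivOfEq hk.symm).trans
      (QuotientGroup.quotientKerEquivOfSurjective f hf)).trans e⟩⟩

end Cfsg.Agent.S0618
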