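import Cfsg.Statements.S3021
import Cfsg.Agent.Lib.Transfer.Frobenius
import Cfsg.Agent.Lib.PLocal.Sylow
import Cfsg.Agent.Lib.Coprime.Basic

set_option autoImplicit false
open Cfsg

namespace Cfsg.Agent.S3021

/-- Let G be a finite group, p a prime and H a p-subgroup of G that is extremely closed (for every g, the subgroup generated by H and g H g⁻¹ meets N_G(H) exactly in H). Then every p-subgroup Q of G containing H has N_G(Q) ≤ N_G(H); in particular every Sylow p-subgroup P of G containing H normalizes H, and H is strongly closed in P with respect to G. -/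
theorem result {G : Type*} [Group G] [Finite G] {p : ℕ} [Fact p.Prime] (H : Subgroup G) (hHp : IsPGroup p H) (hcl : Cfsg.IsExtremelyClosed H) : (∀ Q : Subgroup G, IsPGroup p Q → H ≤ Q → Subgroup.normalizer (Q : Set G) ≤ Subgroup.normalizer (H : Set G)) ∧ ∀ P : Sylow p G, H ≤ (P : Subgroup G) → (P : Subgroup G) ≤ Subgroup.normalizer (H : Set G) ∧ Cfsg.IsStronglyClosed H (P : Subgroup G) := by
  have key : ∀ {g : G}, H.map (MulAut.conj g).toMonoidHom ≤ Subgroup.normalizer (H : Set G) →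
      g ∈ Subgroup.normalizer (H : Set G) := by
    intro g hg
    have h1 := hcl g
    rw [inf_eq_left.2 (sup_le Subgroup.le_normalizer hg)] at h1
    refine CfsgLib.PLocal.mem_normalizer_map_conj.2
      (Subgroup.eq_of_le_of_card_ge (le_sup_right.trans h1.le) ?_)
    rw [CfsgLib.Coprime.card_map_conj]
  have hQ : ∀ Q : Subgroup G, IsPGroup p Q → H ≤ Q → Q ≤ Subgroup.normalizer (H : Set G) := by
    intro Q hQp hHQ
    by_contra hne
    have hlt : Q ⊓ Subgroup.normalizer (H : Set G) < Q :=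
      lt_of_le_not_ge inf_le_left fun h => hne (h.trans inf_le_right)
    obtain ⟨g, hgQ, hgN, hgK⟩ := CfsgLib.Transfer.exists_mem_normalizer_not_mem hQp hlt
    refine hgK (Subgroup.mem_inf.2 ⟨hgQ, key ?_⟩)
    rintro _ ⟨h, hh, rfl⟩
    exact ((Subgroup.mem_normalizer_iff.1 hgN h).1
      (Subgroup.mem_inf.2 ⟨hHQ hh, Subgroup.le_normalizer hh⟩)).2
  refine ⟨fun Q hQp hHQ n hn => key ?_, fun P hHP => ⟨hQ _ P.isPGroup' hHP, hHP, fun x hx g hg => ?_⟩⟩
  · rintro _ ⟨h, hh, rfl⟩
    exact hQ Q hQp hHQ ((Subgroup.mem_normalizer_iff.1 hn h).1 (hHQ hh))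
  · refine (hcl g).le (Subgroup.mem_inf.2 ⟨Subgroup.mem_sup_right ⟨x, hx, rfl⟩, ?_⟩)
    exact hQ _ P.isPGroup' hHP hg

end Cfsg.Agent.S3021
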