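import Cfsg.Statements.S0617
import Cfsg.Agent.Lib.Comp.FFStructure

set_option autoImplicit false
set_option linter.style.haveILetI false
open Cfsg

namespace Cfsg.Agent.S0617

/-- Structure Theorem for failure of factorization: a faithful group generated by best offenders, with self-centralizing p'-core, is a direct product of copies of SL(2, p) (p = 2 or 3), each acting on its own plane in V, which is the direct product of these planes and C_V(H). -/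
theorem result {G : Type*} [Group G] [Finite G] {p : ℕ} [Fact p.Prime] (V H : Subgroup G) (hV : Cfsg.IsElementaryAbelian p V) (hHV : H ≤ Subgroup.normalizer (V : Set G)) (hf : H ⊓ Subgroup.centralizer (V : Set G) = ⊥) (hS1 : Subgroup.centralizer (Cfsg.pPrimeCore p ↥H : Set ↥H) ≤ Cfsg.pPrimeCore p ↥H) (hS3 : H = ⨆ A : {A : Subgroup G // A ≤ H ∧ Cfsg.IsBestOffenderOn p V A}, (A : Subgroup G)) (hH1 : H ≠ ⊥) : (p = 2 ∨ p = 3) ∧ (∀ E : {E : Subgroup G // ∃ A : Subgroup G, A ≤ H ∧ Cfsg.IsBestOffenderOn p V A ∧ ⁅V, A⁆ ≠ ⊥ ∧ (∀ B : Subgroup G, B ≤ A → Cfsg.IsBestOffenderOn p V B → ⁅V, B⁆ ≠ ⊥ → B = A) ∧ E = ⁅((Cfsg.pPrimeCore p ↥H).map H.subtype), A⁆ ⊔ A}, H ≤ Subgroup.normalizer ((E : Subgroup G) : Set G) ∧ Nonempty (↥(E : Subgroup G) ≃* Matrix.SpecialLinearGroup (Fin 2) (ZMod p)) ∧ Nat.card ↥(⁅V, (E : Subgroup G)⁆) = p ^ 2) ∧ iSupIndep (fun E : {E : Subgroup G // ∃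 A : Subgroup G, A ≤ H ∧ Cfsg.IsBestOffenderOn p V A ∧ ⁅V, A⁆ ≠ ⊥ ∧ (∀ B : Subgroup G, B ≤ A → Cfsg.IsBestOffenderOn p V B → ⁅V, B⁆ ≠ ⊥ → B = A) ∧ E = ⁅((Cfsg.pPrimeCore p ↥H).map H.subtype), A⁆ ⊔ A} => (E : Subgroup G)) ∧ (⨆ E : {E : Subgroup G // ∃ A : Subgroup G, A ≤ H ∧ Cfsg.IsBestOffenderOn p V A ∧ ⁅V, A⁆ ≠ ⊥ ∧ (∀ B : Subgroup G, B ≤ A → Cfsg.IsBestOffenderOn p V B → ⁅V, B⁆ ≠ ⊥ → B = A) ∧ E = ⁅((Cfsg.pPrimeCore p ↥H).map H.subtype), A⁆ ⊔ A}, (E : Subgroup G)) = H ∧ iSupIndep (fun o : Option {E : Subgroup G // ∃ A : Subgroup G, A ≤ H ∧ Cfsg.IsBestOffenderOn p V A ∧ ⁅V, A⁆ ≠ ⊥ ∧ (∀ B : Subgroup G, B ≤ A → Cfsg.IsBestOffenderOn p V B → ⁅V, B⁆ ≠ ⊥ → B = A) ∧ E = ⁅((Cfsg.pPrimeCore p ↥H).map H.subtype), A⁆ ⊔ A} => o.elim (V ⊓ Subgroup.centralizer (H : Set G)) (fun E => ⁅V, (E : Subgroup G)⁆)) ∧ (V ⊓ Subgroup.centralizer (H : Set G)) ⊔ (⨆ E : {E : Subgroup G //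 ∃ A : Subgroup G, A ≤ H ∧ Cfsg.IsBestOffenderOn p V A ∧ ⁅V, A⁆ ≠ ⊥ ∧ (∀ B : Subgroup G, B ≤ A → Cfsg.IsBestOffenderOn p V B → ⁅V, B⁆ ≠ ⊥ → B = A) ∧ E = ⁅((Cfsg.pPrimeCore p ↥H).map H.subtype), A⁆ ⊔ A}, ⁅V, (E : Subgroup G)⁆) = V := by
  classical
  have S : CfsgLib.Comp.FF.Setup p V H := ⟨hV, hHV, hf, hS1⟩
  obtain ⟨A₀, hA₀⟩ : ∃ A, CfsgLib.Comp.FF.Atom p V H A := by
    by_contra hc
    push Not at hc
    exact hH1 (le_bot_iff.1 (CfsgLib.Comp.FF.le_of_atoms S hS3 fun A hA => absurd hA (hc A)))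
  let ι := {E : Subgroup G // ∃ A : Subgroup G, A ≤ H ∧ Cfsg.IsBestOffenderOn p V A ∧ ⁅V, A⁆ ≠ ⊥ ∧
    (∀ B : Subgroup G, B ≤ A → Cfsg.IsBestOffenderOn p V B → ⁅V, B⁆ ≠ ⊥ → B = A) ∧
    E = ⁅((Cfsg.pPrimeCore p ↥H).map H.subtype), A⁆ ⊔ A}
  have hι : ∀ E : ι, ∃ A, CfsgLib.Comp.FF.Atom p V H A ∧ (E : Subgroup G) = CfsgLib.Comp.FF.Ec p H A := by
    rintro ⟨E, A, h1, h2, h3, h4, h5⟩
    exact ⟨A, CfsgLib.Comp.FF.atom_of_minimal S h1 h2 h3 h4, h5⟩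
  have hmk : ∀ A, CfsgLib.Comp.FF.Atom p V H A →
      ∃ E : ι, (E : Subgroup G) = CfsgLib.Comp.FF.Ec p H A := fun A hA =>
    ⟨⟨_, A, hA.1, hA.2.2, (CfsgLib.Comp.FF.commutator_ne_bot_iff S hA.1).2
      (CfsgLib.Comp.FF.ne_bot_of_atom hA), CfsgLib.Comp.FF.minimal_of_atom hA, rfl⟩, rfl⟩
  haveI := Fintype.ofFinite ι
  let s : Finset (Subgroup G) := (Finset.univ : Finset ι).image (fun E : ι => E.1)
  have hs : ∀ E ∈ s, ∃ A, CfsgLib.Comp.FF.Atom p V H A ∧ E = CfsgLib.Comp.FF.Ec p H A := by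
    intro E hE
    obtain ⟨E', -, rfl⟩ := Finset.mem_image.1 hE
    exact hι E'
  have hs' : ∀ A, CfsgLib.Comp.FF.Atom p V H A → CfsgLib.Comp.FF.Ec p H A ∈ s := by
    intro A hA
    obtain ⟨E, hE⟩ := hmk A hA
    exact Finset.mem_image.2 ⟨E, Finset.mem_univ _, hE⟩
  have hsup : s.sup id = H := CfsgLib.Comp.FF.sup_Ec S hS3 s hs' hs
  have hsupι : (⨆ E : ι, (E : Subgroup G)) = H := by
    refine Eq.trans ?_ hsup
    refine le_antisymm (iSup_le fun E => ?_) (Finset.sup_le fun E hE => ?_)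
    · exact Finset.le_sup (f := id) (Finset.mem_image.2 ⟨E, Finset.mem_univ _, rfl⟩)
    · obtain ⟨E', -, rfl⟩ := Finset.mem_image.1 hE
      exact le_iSup (fun E : ι => (E : Subgroup G)) E'
  have hsupU : s.sup (fun E => ⁅V, E⁆) = ⨆ E : ι, ⁅V, (E : Subgroup G)⁆ := by
    refine le_antisymm (Finset.sup_le fun E hE => ?_) (iSup_le fun E => ?_)
    · obtain ⟨E', -, rfl⟩ := Finset.mem_image.1 hE
      exact le_iSup (fun E : ι => ⁅V, (E : Subgroup G)⁆) E'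
    · exact Finset.le_sup (f := fun E => ⁅V, E⁆) (Finset.mem_image.2 ⟨E, Finset.mem_univ _, rfl⟩)
  obtain ⟨hfix, hspan⟩ := CfsgLib.Comp.FF.planes_finset S hS3 s hs
  rw [hsup, hsupU] at hfix hspan
  refine ⟨CfsgLib.Comp.FF.prime_of_atom S hA₀, fun E => ?_, fun i => ?_, hsupι, fun o => ?_, ?_⟩
  · obtain ⟨A, hA, hE⟩ := hι E
    rw [hE]
    exact ⟨(CfsgLib.Comp.FF.factorData S hS3 hA).norm, (CfsgLib.Comp.FF.ecData S hA).iso,
      (CfsgLib.Comp.FF.ecData S hA).card⟩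
  · obtain ⟨A, hA, hE⟩ := hι i
    rw [disjoint_iff]
    show (i : Subgroup G) ⊓ _ = ⊥
    rw [hE]
    refine le_bot_iff.1 ((inf_le_inf_left _ ?_).trans (CfsgLib.Comp.FF.Ec_inf_Fc S hA).le)
    refine iSup₂_le fun j hj => ?_
    obtain ⟨A', hA', hE'⟩ := hι j
    show (j : Subgroup G) ≤ _
    rw [hE']
    exact CfsgLib.Comp.FF.other_le_Fc S hS3 hA hA' fun e => hj (Subtype.ext (by rw [hE', hE, e]))
  · rw [disjoint_iff]
    cases o with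
    | none =>
      refine le_bot_iff.1 ((inf_le_inf_left _ ?_).trans hfix.le)
      refine iSup₂_le fun j hj => ?_
      cases j with
      | none => exact absurd rfl hj
      | some E => exact le_iSup (fun E : ι => ⁅V, (E : Subgroup G)⁆) E
    | some i =>
      obtain ⟨A, hA, hE⟩ := hι i
      show ⁅V, (i : Subgroup G)⁆ ⊓ _ = ⊥
      rw [hE]
      refine le_bot_iff.1 ((inf_le_inf_left _ ?_).trans (CfsgLib.Comp.FF.ecData S hA).inf.le)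
      refine iSup₂_le fun j hj => ?_
      cases j with
      | none => exact inf_le_inf_left _ (Subgroup.centralizer_le (CfsgLib.Comp.FF.ecData S hA).le)
      | some E =>
        obtain ⟨A', hA', hE'⟩ := hι E
        show ⁅V, (E : Subgroup G)⁆ ≤ _
        rw [hE']
        exact CfsgLib.Comp.FF.other_plane_le S hS3 hA hA' fun e =>
          hj (congrArg some (Subtype.ext (by rw [hE', hE, e])))
  · refine le_antisymm (sup_le inf_le_left (iSup_le fun E => ?_)) (hspan.trans (sup_comm _ _).le)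
    obtain ⟨A, hA, hE⟩ := hι E
    exact Subgroup.le_normalizer_iff_commutator_le_left.1 (by
      rw [hE]; exact (CfsgLib.Comp.FF.ecData S hA).le.trans hHV)

end Cfsg.Agent.S0617
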