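import Cfsg.Statements.S0875
import Cfsg.Agent.Lib.Char.Brauer
import Mathlib

set_option autoImplicit false
open Cfsg

open scoped ComplexConjugate
namespace Cfsg.Agent.S0875

theorem exists_partSubgroups {E : Type*} [Group E] [Finite E] {q : ℕ} (hq : q.Prime)
    (hE : Cfsg.IsElementary q E) {a b : ℕ} (hab : Nat.Coprime a b) (hdvd : Nat.card E ∣ a * b) :
    ∃ A : Subgroup E, ∀ u, u ∈ A ↔ u ^ a = 1 := by
  obtain ⟨x, hx, hcop, k, hk⟩ := hE
  have hle : Subgroup.zpowers x ≤ Subgroup.center E := Subgroup.zpowers_le.2 hx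
  have hn : (Subgroup.zpowers x).Normal := ⟨fun c hc g => by
    rw [Subgroup.mem_center_iff.1 (hle hc) g, mul_inv_cancel_right]; exact hc⟩
  have hclosed : ∀ u v : E, u ^ a = 1 → v ^ a = 1 → (u * v) ^ a = 1 := by
    intro u v hu hv
    by_cases hqb : q ∣ b
    · have hqa : ¬ q ∣ a := fun h => hq.not_dvd_one (hab ▸ Nat.dvd_gcd h hqb)
      have h1 : (u : E ⧸ Subgroup.zpowers x) = 1 := by
        refine orderOf_eq_one_iff.mp (Nat.eq_one_of_dvd_coprimes
          (Nat.Coprime.pow_left k (hq.coprime_iff_not_dvd.2 hqa))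
          (hk ▸ Subgroup.index_eq_card (Subgroup.zpowers x) ▸ orderOf_dvd_natCard _) ?_)
        exact orderOf_dvd_of_pow_eq_one (by rw [← QuotientGroup.mk_pow, hu]; rfl)
      rw [(show Commute u v from
        (Subgroup.mem_center_iff.1 (hle ((QuotientGroup.eq_one_iff u).mp h1)) v).symm).mul_pow,
        hu, hv, one_mul]
    · have hidx : (Subgroup.center E).index ∣ q ^ k := hk ▸ Subgroup.index_dvd_of_le hle
      obtain ⟨j, -, hj⟩ := (Nat.dvd_prime_pow hq).1 hidx
      have hpow : ∀ g : E, ((MonoidHom.transferCenterPow E g : Subgroup.center E) : E) = g ^ q ^ j :=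
        fun g => by rw [← hj, MonoidHom.transferCenterPow_apply]
      have hc : Commute (u ^ q ^ j) (v ^ q ^ j) := by
        rw [← hpow u, ← hpow v]
        exact Subgroup.mem_center_iff.1 (MonoidHom.transferCenterPow E v).2 _
      have h1 : (u * v) ^ (q ^ j * a) = 1 := by
        rw [pow_mul, ← hpow, map_mul, Subgroup.coe_mul, hpow, hpow, hc.mul_pow, ← pow_mul,
          ← pow_mul, mul_comm, pow_mul, pow_mul, hu, hv, one_pow, one_mul]
      have h2 : Nat.gcd (q ^ j * a) (a * b) = a := by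
        rw [mul_comm (q ^ j) a, Nat.gcd_mul_left,
          (Nat.Coprime.pow_left j (hq.coprime_iff_not_dvd.2 hqb)).gcd_eq_one, mul_one]
      rw [← h2]
      exact orderOf_dvd_iff_pow_eq_one.1 (Nat.dvd_gcd (orderOf_dvd_of_pow_eq_one h1)
        ((orderOf_dvd_natCard _).trans hdvd))
  let A : Subgroup E :=
    { carrier := {u | u ^ a = 1}
      one_mem' := one_pow a
      mul_mem' := hclosed _ _
      inv_mem' := fun {u} (hu : u ^ a = 1) => show u⁻¹ ^ a = 1 by rw [inv_pow, hu, inv_one] }
  exact ⟨A, fun _ => Iff.rfl⟩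

theorem commute_of_elementary {E : Type*} [Group E] [Finite E] {q : ℕ} (hq : q.Prime)
    (hE : Cfsg.IsElementary q E) {u v : E} (h : Nat.Coprime (orderOf u) (orderOf v)) :
    Commute u v := by
  obtain ⟨x, hx, hcop, k, hk⟩ := hE
  have hle : Subgroup.zpowers x ≤ Subgroup.center E := Subgroup.zpowers_le.2 hx
  have hn : (Subgroup.zpowers x).Normal := ⟨fun c hc g => by
    rw [Subgroup.mem_center_iff.1 (hle hc) g, mul_inv_cancel_right]; exact hc⟩
  have key : ∀ w : E, ¬ q ∣ orderOf w → w ∈ Subgroup.center E := fun w hw => by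
    refine hle ((QuotientGroup.eq_one_iff w).mp (orderOf_eq_one_iff.mp (Nat.eq_one_of_dvd_coprimes
      (Nat.Coprime.pow_left k (hq.coprime_iff_not_dvd.2 hw))
      (hk ▸ Subgroup.index_eq_card (Subgroup.zpowers x) ▸ orderOf_dvd_natCard _)
      (orderOf_map_dvd (QuotientGroup.mk' _) w))))
  by_cases hu : q ∣ orderOf u
  · exact Subgroup.mem_center_iff.1 (key v fun hv => hq.not_dvd_one (h ▸ Nat.dvd_gcd hu hv)) u
  · exact (Subgroup.mem_center_iff.1 (key u hu) v).symm

/-- The indicator of a section, as a function of a power of the element. -/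
theorem indicator_eq {G : Type*} [Group G] [Finite G] {m n k : ℕ} (hcard : Nat.card G ∣ m * n)
    (hcop : Nat.Coprime m n) (hk1 : k ≡ 1 [MOD n]) (hk0 : k ≡ 0 [MOD m]) (g x : G) :
    (∃ v : G, IsConj v g ∧ (∃ u : G, x = u * v ∧ Commute u v ∧ Nat.Coprime (orderOf u) n ∧
      Nat.Coprime (orderOf v) m)) ↔ IsConj (x ^ k) g := by
  have hord : ∀ y : G, orderOf y ∣ m * n := fun y => (orderOf_dvd_natCard y).trans hcard
  constructor
  · rintro ⟨v, hv, u, rfl, hc, hu, hvm⟩
    rw [hc.mul_pow, orderOf_dvd_iff_pow_eq_one.mp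
      ((hu.dvd_of_dvd_mul_right (hord u)).trans (Nat.modEq_zero_iff_dvd.mp hk0)), one_mul,
      ← pow_mod_orderOf, hk1.of_dvd (hvm.dvd_of_dvd_mul_left (hord v)), pow_mod_orderOf, pow_one]
    exact hv
  · intro h
    refine ⟨x ^ k, h, x * (x ^ k)⁻¹, by group, ?_, ?_, ?_⟩
    · exact (Commute.refl x).pow_right k |>.mul_left ((Commute.refl (x ^ k)).inv_left)
    · refine (Nat.Coprime.coprime_dvd_left (orderOf_dvd_of_pow_eq_one (n := m) ?_) hcop)
      rw [((Commute.refl x).pow_right k).inv_right.mul_pow, inv_pow, ← pow_mul, mul_inv_eq_one]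
      refine (pow_eq_pow_iff_modEq.mpr ?_).symm
      have h1 : m * k ≡ m * 1 [MOD m * n] := Nat.ModEq.mul_left' m hk1
      rw [mul_one] at h1
      exact ((mul_comm k m).symm ▸ h1).of_dvd (hord x)
    · refine (Nat.Coprime.coprime_dvd_left (orderOf_dvd_of_pow_eq_one (n := n) ?_) hcop.symm)
      rw [← pow_mul, ← orderOf_dvd_iff_pow_eq_one]
      exact (hord x).trans (mul_dvd_mul_right (Nat.modEq_zero_iff_dvd.mp hk0) n)

/-- Let G be a finite group of order m * n with m and n coprime, and g an element whose order is coprime to m. Every x in G factors uniquely as x = u * v with u, v commuting, the order of u coprime to n and the order of v coprime to m; let ϑ be the function on G equal to n at those x whose factor v is conjugate to g and equal to 0 elsewhere. Then ϑ is a linear combination of the irreducible characters of G with algebraic-integer coefficients. -/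
theorem result {G : Type*} [Group G] [Fintype G] (m n : ℕ) (hmn : Nat.card G = m * n) (hcop : Nat.Coprime m n) (g : G) (hg : Nat.Coprime (orderOf g) m) (ϑ : G → ℂ) (hϑ1 : ∀ x : G, (∃ v : G, IsConj v g ∧ (∃ u : G, x = u * v ∧ Commute u v ∧ Nat.Coprime (orderOf u) n ∧ Nat.Coprime (orderOf v) m)) → ϑ x = n) (hϑ0 : ∀ x : G, (¬ ∃ v : G, IsConj v g ∧ (∃ u : G, x = u * v ∧ Commute u v ∧ Nat.Coprime (orderOf u) n ∧ Nat.Coprime (orderOf v) m)) → ϑ x = 0) : ∃ c : Cfsg.IrrCharacter G → ℂ, (∀ χ, c χ ∈ Cfsg.AlgInt) ∧ ϑ = ∑ᶠ χ : Cfsg.IrrCharacter G, c χ • (χ : G → ℂ) := by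
  classical
  obtain ⟨k, hk1, hk0⟩ := Nat.chineseRemainder hcop.symm 1 0
  have hform : ∀ x, ϑ x = if IsConj (x ^ k) g then (n : ℂ) else 0 := fun x => by
    split_ifs with h
    · exact hϑ1 x ((indicator_eq (hmn ▸ dvd_rfl) hcop hk1 hk0 g x).mpr h)
    · exact hϑ0 x fun h' => h ((indicator_eq (hmn ▸ dvd_rfl) hcop hk1 hk0 g x).mp h')
  have hcl : Cfsg.IsClassFunction G ϑ := by
    intro x y
    rw [hform, hform, conj_pow]
    have : IsConj (y * x ^ k * y⁻¹) g ↔ IsConj (x ^ k) g :=
      have h : IsConj (x ^ k) (y * x ^ k * y⁻¹) := isConj_iff.mpr ⟨y, rfl⟩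
      ⟨fun h' => h.trans h', fun h' => h.symm.trans h'⟩
    rw [if_congr this rfl rfl]
  have key : ∀ (E : Subgroup G) (μ : E →* ℂˣ), (∃ q : ℕ, q.Prime ∧ Cfsg.IsElementary q E) →
      IsIntegral ℤ (Cfsg.classInner ϑ (Cfsg.indFun E fun e => (μ e : ℂ))) := by
    intro E μ ⟨q, hq, hE⟩
    rw [← CfsgLib.Char.classInner_conj_symm, CfsgLib.Char.frobenius_reciprocity E _ _ hcl,
      CfsgLib.Char.classInner_conj_symm, CfsgLib.Char.classInner_def]
    have hEd : Nat.card E ∣ m * n := hmn ▸ Subgroup.card_subgroup_dvd_card E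
    obtain ⟨A, hA⟩ := exists_partSubgroups hq hE hcop hEd
    obtain ⟨B, hB⟩ := exists_partSubgroups hq hE hcop.symm (mul_comm m n ▸ hEd)
    have hordA : ∀ u : A, orderOf (u : E) ∣ m := fun u => orderOf_dvd_of_pow_eq_one ((hA u).mp u.2)
    have hordB : ∀ v : B, orderOf (v : E) ∣ n := fun v => orderOf_dvd_of_pow_eq_one ((hB v).mp v.2)
    have hco : ∀ (u : A) (v : B), Commute (u : E) v := fun u v => commute_of_elementary hq hE
      ((hcop.coprime_dvd_left (hordA u)).coprime_dvd_right (hordB v))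
    have hpk : ∀ (u : A) (v : B), ((u : E) * v) ^ k = v := fun u v => by
      rw [(hco u v).mul_pow, orderOf_dvd_iff_pow_eq_one.mp
        ((hordA u).trans (Nat.modEq_zero_iff_dvd.mp hk0)), one_mul, ← pow_mod_orderOf,
        hk1.of_dvd (hordB v), pow_mod_orderOf, pow_one]
    have hxm : ∀ x : E, (x * (x ^ k)⁻¹) ^ m = 1 ∧ (x ^ k) ^ n = 1 := fun x => by
      have hx : orderOf x ∣ m * n := (orderOf_dvd_natCard x).trans hEd
      refine ⟨?_, ?_⟩
      · rw [((Commute.refl x).pow_right k).inv_right.mul_pow, inv_pow, ← pow_mul, mul_inv_eq_one]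
        refine (pow_eq_pow_iff_modEq.mpr ?_).symm
        have h1 : m * k ≡ m * 1 [MOD m * n] := Nat.ModEq.mul_left' m hk1
        rw [mul_one] at h1
        exact ((mul_comm k m).symm ▸ h1).of_dvd hx
      · rw [← pow_mul, ← orderOf_dvd_iff_pow_eq_one]
        exact hx.trans (mul_dvd_mul_right (Nat.modEq_zero_iff_dvd.mp hk0) n)
    have hbij : Function.Bijective (fun p : A × B => (p.1 : E) * p.2) := by
      refine ⟨fun p p' h => ?_, fun x => ?_⟩
      · have h2 := congr_arg (· ^ k) h
        simp only [hpk] at h2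
        simp only [h2, mul_left_inj] at h
        exact Prod.ext (Subtype.ext h) (Subtype.ext h2)
      · exact ⟨(⟨_, (hA _).mpr (hxm x).1⟩, ⟨_, (hB _).mpr (hxm x).2⟩), by simp⟩
    have hcard : Nat.card A * Nat.card B = Nat.card E := by
      rw [← Nat.card_prod]; exact Nat.card_eq_of_bijective _ hbij
    have hBn : Nat.card B ∣ n := by
      refine Nat.Coprime.dvd_of_dvd_mul_left ?_ ((Subgroup.card_subgroup_dvd_card B).trans hEd)
      refine Nat.coprime_of_dvd fun r hr hrB hrm => ?_
      have := Fact.mk hr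
      obtain ⟨z, hz⟩ := exists_prime_orderOf_dvd_card' r hrB
      refine hr.not_dvd_one (hcop ▸ Nat.dvd_gcd hrm ?_)
      rw [← hz, ← Subgroup.orderOf_coe]
      exact hordB z
    obtain ⟨c, hc⟩ := hBn
    rw [← Fintype.sum_bijective _ hbij (fun p : A × B => ϑ (((p.1 : E) * p.2 : E) : G) *
      (starRingEnd ℂ) (μ ((p.1 : E) * p.2))) _ fun p => rfl, Fintype.sum_prod_type, Finset.sum_comm]
    simp only [hform, map_mul, Units.val_mul]
    simp only [← Subgroup.coe_mul, ← SubmonoidClass.coe_pow, hpk]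
    rw [Finset.sum_congr rfl (g := fun v : B => (if IsConj ((v : E) : G) g then (n : ℂ) else 0) *
      (starRingEnd ℂ) (μ v) * ∑ u : A, (starRingEnd ℂ) (μ u)) fun v _ => by
        rw [Finset.mul_sum]
        exact Finset.sum_congr rfl fun u _ => by ring,
      ← Finset.sum_mul, ← map_sum]
    have hAsum : ∑ u : A, (μ u : ℂ) = 0 ∨ ∑ u : A, (μ u : ℂ) = (Nat.card A : ℂ) := by
      have := sum_hom_units ((Units.coeHom ℂ).comp (μ.comp A.subtype))
      simp only [MonoidHom.coe_comp, Function.comp_apply, Units.coeHom_apply, Subgroup.coe_subtype]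
        at this
      rw [this, Nat.card_eq_fintype_card]
      split_ifs
      · exact Or.inr (by push_cast; rfl)
      · exact Or.inl (by simp)
    rcases hAsum with h0 | h0
    · simp only [h0, map_zero, mul_zero]; exact isIntegral_zero
    rw [h0, map_natCast, ← hcard]
    have e : ∀ v : B, (if IsConj ((v : E) : G) g then (n : ℂ) else 0) * (starRingEnd ℂ) (μ v) =
        (n : ℂ) * (if IsConj ((v : E) : G) g then (starRingEnd ℂ) (μ v) else 0) := fun v => by
      split_ifs <;> ring
    rw [Finset.sum_congr rfl fun v _ => e v, ← Finset.mul_sum, hc]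
    push_cast
    have hAne : (Nat.card A : ℂ) ≠ 0 := Nat.cast_ne_zero.mpr Nat.card_pos.ne'
    have hBne : (Nat.card B : ℂ) ≠ 0 := Nat.cast_ne_zero.mpr Nat.card_pos.ne'
    have hint : IsIntegral ℤ (∑ v : B, if IsConj ((v : E) : G) g then (starRingEnd ℂ) (μ v) else 0) := by
      refine IsIntegral.sum _ fun v _ => ?_
      split_ifs
      · have hpow : (μ v : ℂ) ^ Nat.card E = 1 := by
          rw [← Units.val_pow_eq_pow_val, ← map_pow, pow_card_eq_one', map_one, Units.val_one]
        exact IsIntegral.of_pow Nat.card_pos (by rw [← map_pow, hpow, map_one]; exact isIntegral_one)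
      · exact isIntegral_zero
    refine (congr_arg (IsIntegral ℤ) ?_).mpr ((isIntegral_algebraMap (x := (c : ℤ))).mul hint)
    simp only [algebraMap_int_eq, eq_intCast, Int.cast_natCast]
    field_simp
  have hint : ∀ χ : Cfsg.IrrCharacter G, Cfsg.classInner ϑ (χ : G → ℂ) ∈ Cfsg.AlgInt := by
    rintro ⟨χ, hχ⟩
    show IsIntegral ℤ (Cfsg.classInner ϑ χ)
    have hmem := CfsgLib.Char.brauer_induction (CfsgLib.Char.irr_isCharacter hχ)
    rw [CfsgLib.Char.brauerSpan] at hmem
    clear hχ
    induction hmem using AddSubgroup.closure_induction with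
    | mem x hx => obtain ⟨E, μ, hE, rfl⟩ := hx; exact key E μ hE
    | zero => rw [CfsgLib.Char.classInner_zero_right]; exact isIntegral_zero
    | add a b _ _ ha hb => rw [CfsgLib.Char.classInner_add_right]; exact ha.add hb
    | neg a _ ha =>
      rw [show -a = (-1 : ℂ) • a by module, CfsgLib.Char.classInner_smul_right, map_neg, map_one,
        neg_one_mul]
      exact ha.neg
  exact ⟨fun χ => Cfsg.classInner ϑ (χ : G → ℂ), hint, CfsgLib.Char.classFunction_eq_finsum hcl⟩

end Cfsg.Agent.S0875
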