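import Cfsg.Statements.S0877
import Cfsg.Agent.S0875
import Cfsg.Agent.Lib.Char.Brauer
import Cfsg.Agent.Lib.Char.Linear
import Cfsg.Agent.Lib.Char.Integral

set_option autoImplicit false
open Cfsg

namespace Cfsg.Agent.S0877

/-- Frobenius: the number of solutions of `v ^ d = 1` is a multiple of `d` for a Hall divisor `d`. -/
theorem dvd_card_pow_eq_one (C : Type*) [Group C] [Finite C] (c d : ℕ) (hcd : Nat.card C = d * c)
    (hcop : Nat.Coprime d c) : d ∣ Nat.card {v : C // v ^ d = 1} := by
  classical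
  have := Fintype.ofFinite C
  obtain ⟨k, hk1, hk0⟩ := Nat.chineseRemainder hcop.symm 1 0
  have hiff : ∀ x : C, x ^ k = 1 ↔ x ^ d = 1 := fun x => by
    have hx : orderOf x ∣ d * c := hcd ▸ orderOf_dvd_natCard x
    rw [← orderOf_dvd_iff_pow_eq_one, ← orderOf_dvd_iff_pow_eq_one]
    refine ⟨fun h => ?_, fun h => h.trans (Nat.modEq_zero_iff_dvd.mp hk0)⟩
    have h1 : Nat.Coprime k c := by
      show Nat.gcd k c = 1
      rw [hk1.gcd_eq, Nat.gcd_one_left]
    exact ((h1.coprime_dvd_left h)).dvd_of_dvd_mul_right hx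
  have hchar := Cfsg.Agent.S0875.indicator_eq (G := C) (hcd ▸ dvd_rfl) hcop hk1 hk0 1
  obtain ⟨θ, hθ⟩ : ∃ θ : C → ℂ, θ = fun x => if x ^ k = 1 then (c : ℂ) else 0 := ⟨_, rfl⟩
  obtain ⟨a, ha, hsum⟩ := Cfsg.Agent.S0875.result d c hcd hcop (1 : C) (by simp) θ
    (fun x hx => by rw [hθ]; simp only; rw [if_pos (isConj_one_left.mp ((hchar x).mp hx))])
    (fun x hx => by
      rw [hθ]; simp only
      rw [if_neg fun h => hx ((hchar x).mpr (isConj_one_left.mpr h))])
  have : Fintype (Cfsg.IrrCharacter C) := Fintype.ofFinite _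
  let one : Cfsg.IrrCharacter C := ⟨fun _ => 1, CfsgLib.Char.isIrrCharacter_one⟩
  have hinner : Cfsg.classInner θ (fun _ => (1 : ℂ)) = a one := by
    rw [hsum, finsum_eq_sum_of_fintype, CfsgLib.Char.classInner_sum_left, Finset.sum_eq_single one]
    · rw [CfsgLib.Char.classInner_smul_left, CfsgLib.Char.irr_classInner_self one.2, mul_one]
    · intro χ _ hne
      rw [CfsgLib.Char.classInner_smul_left, CfsgLib.Char.irr_classInner_ne χ.2 one.2
        (fun h => hne (Subtype.ext h)), mul_zero]
    · simp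
  have hval : Cfsg.classInner θ (fun _ => (1 : ℂ)) =
      ((Nat.card {v : C // v ^ d = 1} : ℚ) / d : ℚ) := by
    rw [CfsgLib.Char.classInner_def, hθ]
    simp only [map_one, mul_one]
    rw [Finset.sum_congr rfl (g := fun x : C => if x ^ d = 1 then (c : ℂ) else 0) fun x _ =>
      if_congr (hiff x) rfl rfl, ← Finset.sum_filter, Finset.sum_const, nsmul_eq_mul,
      ← Fintype.card_subtype, ← Nat.card_eq_fintype_card, hcd]
    have hc : (c : ℂ) ≠ 0 := by
      rw [Nat.cast_ne_zero]; intro h; rw [h, mul_zero] at hcd; exact Nat.card_pos.ne' hcd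
    push_cast
    field_simp
  have hint : IsIntegral ℤ (((Nat.card {v : C // v ^ d = 1} : ℚ) / d : ℚ) : ℂ) := by
    rw [← hval, hinner]; exact ha one
  obtain ⟨z, hz⟩ := CfsgLib.Char.exists_int_of_isIntegral_rat hint
  have hd : (d : ℚ) ≠ 0 := by
    rw [Nat.cast_ne_zero]; intro h; rw [h, zero_mul] at hcd; exact Nat.card_pos.ne' hcd
  rw [div_eq_iff hd] at hz
  exact Int.natCast_dvd_natCast.mp ⟨z, by rw [mul_comm]; exact_mod_cast hz⟩

theorem commute_mul_eq_pow {G : Type*} [Group G] {h v : G} {k : ℕ} (hc : Commute h v)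
    (h1 : h ^ k = h) (h0 : v ^ k = 1) : (h * v) ^ k = h := by
  rw [hc.mul_pow, h1, h0, mul_one]

/-- For a group with a cyclic subgroup there is a prime not dividing it making it elementary. -/
theorem exists_elementary_zpowers {G : Type*} [Group G] [Finite G] (h : G) :
    ∃ p : ℕ, p.Prime ∧ Cfsg.IsElementary p ↥(Subgroup.zpowers h) := by
  obtain ⟨p, hge, hp⟩ := Nat.exists_infinite_primes (orderOf h + 1)
  refine ⟨p, hp, ⟨⟨h, Subgroup.mem_zpowers h⟩, ?_, ?_, 0, ?_⟩⟩
  · rw [Subgroup.mem_center_iff]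
    rintro ⟨y, hy⟩
    obtain ⟨i, rfl⟩ := Subgroup.mem_zpowers_iff.mp hy
    exact Subtype.ext ((Commute.refl h).zpow_left i).eq
  · rw [← Subgroup.orderOf_coe]
    exact ((hp.coprime_iff_not_dvd).2 fun hd => by
      have := Nat.le_of_dvd (orderOf_pos h) hd; omega).symm
  · rw [pow_zero, Subgroup.index_eq_one, eq_top_iff]
    rintro ⟨y, hy⟩ -
    obtain ⟨i, rfl⟩ := Subgroup.mem_zpowers_iff.mp hy
    exact Subgroup.mem_zpowers_iff.mpr ⟨i, Subtype.ext (by simp)⟩

/-- Let H be a subgroup of the finite group G whose order is coprime to its index. Suppose that elements of H conjugate in G are conjugate in H, and that every subgroup E of G that is elementary for some prime (in the sense used for Brauer's characterisation of characters) and whose order divides the order of H is conjugate to a subgroup of H. Then there is a normal subgroup K with K ⊔ H = ⊤ and K ⊓ H trivial. -/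
theorem result {G : Type*} [Group G] [Finite G] (H : Subgroup G) (hHall : Nat.Coprime (Nat.card H) H.index) (hfus : ∀ x ∈ H, ∀ y ∈ H, IsConj x y → ∃ h ∈ H, h * x * h⁻¹ = y) (helem : ∀ (E : Subgroup G) (p : ℕ), p.Prime → Cfsg.IsElementary p E → Nat.card E ∣ Nat.card H → ∃ g : G, E.map (MulAut.conj g).toMonoidHom ≤ H) : ∃ K : Subgroup G, K.Normal ∧ K ⊔ H = ⊤ ∧ K ⊓ H = ⊥ := by
  classical
  have : Fintype G := Fintype.ofFinite G
  have : Fintype H := Fintype.ofFinite H
  set n := Nat.card H
  set m := H.index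
  have hG : Nat.card G = m * n := (H.index_mul_card).symm
  have hn0 : 0 < n := Nat.card_pos
  have hm0 : 0 < m := Nat.pos_of_ne_zero H.index_ne_zero_of_finite
  obtain ⟨k, hk1, hk0⟩ := Nat.chineseRemainder hHall 1 0
  have hkn : ∀ y : G, orderOf y ∣ n → y ^ k = y := fun y hy => by
    rw [← pow_mod_orderOf, hk1.of_dvd hy, pow_mod_orderOf, pow_one]
  have hxkn : ∀ x : G, orderOf (x ^ k) ∣ n := fun x => orderOf_dvd_of_pow_eq_one (by
    rw [← pow_mul, ← orderOf_dvd_iff_pow_eq_one]
    exact (orderOf_dvd_natCard x).trans (hG ▸ mul_dvd_mul_right (Nat.modEq_zero_iff_dvd.mp hk0) n))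
  have hex : ∀ x : G, ∃ h : H, IsConj (x ^ k) (h : G) := fun x => by
    obtain ⟨p, hp, hE⟩ := exists_elementary_zpowers (x ^ k)
    obtain ⟨g, hg⟩ := helem _ p hp hE (by rw [Nat.card_zpowers]; exact hxkn x)
    exact ⟨⟨g * x ^ k * g⁻¹, hg ⟨x ^ k, Subgroup.mem_zpowers _, rfl⟩⟩, isConj_iff.mpr ⟨g, rfl⟩⟩
  choose h₀ hh₀ using hex
  let F : G → ConjClasses H := fun x => ConjClasses.mk (h₀ x)
  have hF : ∀ (x : G) (h : H), F x = ConjClasses.mk h ↔ IsConj (x ^ k) (h : G) := fun x h => by
    constructor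
    · intro e
      obtain ⟨c, hc⟩ := isConj_iff.mp (ConjClasses.mk_eq_mk_iff_isConj.mp e)
      exact (hh₀ x).trans (isConj_iff.mpr ⟨c, congr_arg Subtype.val hc⟩)
    · intro e
      obtain ⟨c, hc, he⟩ := hfus _ (h₀ x).2 _ h.2 ((hh₀ x).symm.trans e)
      exact ConjClasses.mk_eq_mk_iff_isConj.mpr (isConj_iff.mpr ⟨⟨c, hc⟩, Subtype.ext he⟩)
  have : Fintype (ConjClasses H) := Fintype.ofFinite _
  let fib : ConjClasses H → Finset G := fun C => Finset.univ.filter fun x => F x = C
  have hlow : ∀ C : ConjClasses H, m * Nat.card C.carrier ≤ (fib C).card := by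
    intro C
    obtain ⟨h, rfl⟩ := ConjClasses.mk_surjective C
    set Z := Subgroup.centralizer ({(h : G)} : Set G) with hZ
    set ZH := Subgroup.centralizer ({h} : Set H)
    have hcarr := CfsgLib.Char.natCard_carrier_mul_centralizer h
    have hZHle : Nat.card ZH ∣ Nat.card Z := by
      refine Subgroup.card_dvd_of_injective (f := (H.subtype.comp ZH.subtype).codRestrict Z
        (fun z => Subgroup.mem_centralizer_singleton_iff.mpr
          (congr_arg Subtype.val (Subgroup.mem_centralizer_singleton_iff.mp z.2)))) ?_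
      intro a b e
      exact Subtype.ext (Subtype.ext (congr_arg Subtype.val e :))
    -- the π-part of the centraliser is inside `H`
    have hpdvd : ∀ p : ℕ, p.Prime → p ∣ n →
        ordProj[p] (Nat.card Z) ∣ Nat.card ZH := by
      intro p hp hpn
      have := Fact.mk hp
      obtain ⟨P⟩ : Nonempty (Sylow p Z) := inferInstance
      let hz : Z := ⟨h, Subgroup.mem_centralizer_singleton_iff.mpr rfl⟩
      let q : Z := hz ^ p ^ (Nat.card H).factorization p
      let E : Subgroup Z := Subgroup.zpowers q ⊔ P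
      have hqc : q ∈ Subgroup.center Z := Subgroup.mem_center_iff.mpr fun z => by
        have : Commute z hz := Subtype.ext (Subgroup.mem_centralizer_singleton_iff.mp z.2)
        exact this.pow_right _
      have hqn : orderOf q ∣ ordCompl[p] n := by
        refine orderOf_dvd_of_pow_eq_one ?_
        rw [← pow_mul, Nat.ordProj_mul_ordCompl_eq_self]
        exact Subtype.ext (orderOf_dvd_iff_pow_eq_one.mp (Subgroup.orderOf_dvd_natCard H h.2))
      have hcq : Nat.Coprime (orderOf q) p :=
        ((hp.coprime_iff_not_dvd.2 (Nat.not_dvd_ordCompl hp hn0.ne')).symm).coprime_dvd_left hqn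
      have hqn' : (Subgroup.zpowers q).Normal := ⟨fun a ha g => by
        rw [Subgroup.mem_center_iff.1 ((Subgroup.zpowers_le.2 hqc) ha) g, mul_inv_cancel_right]
        exact ha⟩
      have hPcard := P.card_eq_multiplicity
      have hdis : Subgroup.zpowers q ⊓ P = ⊥ := Subgroup.inf_eq_bot_of_coprime (by
        rw [Nat.card_zpowers, hPcard]; exact hcq.pow_right _)
      have hcardE : Nat.card E = orderOf q * Nat.card (P : Subgroup Z) := by
        rw [← Nat.card_zpowers, ← Nat.card_prod]
        refine (Nat.card_eq_of_bijective (fun z : Subgroup.zpowers q × (P : Subgroup Z) =>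
          (⟨(z.1 : Z) * z.2, Subgroup.mul_mem_sup z.1.2 z.2.2⟩ : E)) ⟨fun a b e => ?_, fun z => ?_⟩).symm
        · exact Subgroup.mul_injective_of_disjoint (disjoint_iff.mpr hdis) (congr_arg Subtype.val e)
        · obtain ⟨a, ha, b, hb, e⟩ := Subgroup.mem_sup_of_normal_left.mp z.2
          exact ⟨(⟨a, ha⟩, ⟨b, hb⟩), Subtype.ext e⟩
      have hEle : Nat.card E ∣ n := by
        rw [hcardE, hPcard]
        refine (Nat.Coprime.mul_dvd_of_dvd_of_dvd (hcq.pow_right _) (hqn.trans (Nat.ordCompl_dvd _ _)) ?_)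
        refine (Nat.Coprime.dvd_of_dvd_mul_left ?_
          (hG ▸ ((Nat.ordProj_dvd _ _).trans (Subgroup.card_subgroup_dvd_card Z))))
        exact Nat.Coprime.pow_left _ (Nat.Coprime.coprime_dvd_left hpn hHall)
      have hel : Cfsg.IsElementary p ↥(E.map Z.subtype) := by
        refine CfsgLib.Char.isElementary_map Z.subtype_injective ?_
        refine ⟨⟨q, Subgroup.mem_sup_left (Subgroup.mem_zpowers q)⟩,
          Subgroup.mem_center_iff.mpr fun z => Subtype.ext (Subgroup.mem_center_iff.mp hqc z), ?_,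
          (Nat.card Z).factorization p, ?_⟩
        · rw [← Subgroup.orderOf_coe]; exact hcq
        · refine mul_right_cancel₀ (orderOf_pos q).ne' ?_
          rw [mul_comm (p ^ _), ← hPcard, ← hcardE, ← Subgroup.index_mul_card
            (Subgroup.zpowers (⟨q, Subgroup.mem_sup_left (Subgroup.mem_zpowers q)⟩ : E)),
            Nat.card_zpowers, show orderOf (⟨q, Subgroup.mem_sup_left (Subgroup.mem_zpowers q)⟩ : E) = orderOf q from (Subgroup.orderOf_coe _).symm]
      obtain ⟨g, hg⟩ := helem _ p hp hel (by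
        rw [Subgroup.card_map_of_injective Z.subtype_injective]; exact hEle)
      have hgh : g * h * g⁻¹ ∈ H := by
        have hhE : hz ∈ E := by
          have h1 : hz ^ ordCompl[p] n ∈ P.1 := by
            have hc : IsPGroup p (Subgroup.zpowers (hz ^ ordCompl[p] n)) := by
              refine IsPGroup.of_card (n := (orderOf (hz ^ ordCompl[p] n)).factorization p) ?_
              rw [Nat.card_zpowers]
              have hd : orderOf (hz ^ ordCompl[p] n) ∣ ordProj[p] n := by
                refine orderOf_dvd_of_pow_eq_one ?_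
                rw [← pow_mul, mul_comm, Nat.ordProj_mul_ordCompl_eq_self]
                exact Subtype.ext (orderOf_dvd_iff_pow_eq_one.mp (Subgroup.orderOf_dvd_natCard H h.2))
              obtain ⟨j, -, hj⟩ := (Nat.dvd_prime_pow hp).1 hd
              rw [hj, hp.factorization_pow, Finsupp.single_eq_same]
            obtain ⟨Q, hQ⟩ := hc.exists_le_sylow
            obtain ⟨z, hz'⟩ := MulAction.exists_smul_eq Z Q P
            rw [← hz']
            have hcz : Commute z (hz ^ ordCompl[p] n) :=
              (show Commute z hz from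
                Subtype.ext (Subgroup.mem_centralizer_singleton_iff.mp z.2)).pow_right _
            exact ⟨_, hQ (Subgroup.mem_zpowers _), by simp [hcz.eq]⟩
          have hb : ∃ a b : ℤ, a * (p ^ n.factorization p : ℕ) + b * (ordCompl[p] n : ℕ) = 1 :=
            Nat.isCoprime_iff_coprime.2 (Nat.Coprime.pow_left (n.factorization p)
                (hp.coprime_iff_not_dvd.2 (Nat.not_dvd_ordCompl hp hn0.ne')))
          obtain ⟨a, b, hab⟩ := hb
          rw [← zpow_one hz, ← hab, zpow_add, zpow_mul', zpow_mul', zpow_natCast, zpow_natCast]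
          exact E.mul_mem (E.zpow_mem (Subgroup.mem_sup_left (Subgroup.mem_zpowers q)) a)
            (E.zpow_mem (Subgroup.mem_sup_right h1) b)
        exact hg ⟨_, ⟨hz, hhE, rfl⟩, rfl⟩
      obtain ⟨c, hc, hce⟩ := hfus _ hgh _ h.2 (isConj_iff.mpr ⟨g⁻¹, by group⟩)
      have hinto : ∀ z : (P : Subgroup Z), c * g * (z : Z) * (c * g)⁻¹ ∈ H := fun z => by
        have h1 := H.mul_mem (H.mul_mem hc
          (hg ⟨_, ⟨(z : Z), Subgroup.mem_sup_right z.2, rfl⟩, rfl⟩)) (H.inv_mem hc)
        simpa [mul_assoc] using h1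
      have hfix : c * g * (h : G) * (c * g)⁻¹ = h := by
        calc c * g * (h : G) * (c * g)⁻¹ = c * (g * h * g⁻¹) * c⁻¹ := by group
          _ = h := hce
      rw [← hPcard]
      refine Subgroup.card_dvd_of_injective (f :=
        { toFun := fun z : (P : Subgroup Z) => (⟨⟨_, hinto z⟩, Subgroup.mem_centralizer_singleton_iff.mpr
            (Subtype.ext (by
              show c * g * (z : Z) * (c * g)⁻¹ * (h : G) = (h : G) * (c * g * (z : Z) * (c * g)⁻¹)
              have hcz : ((z : Z) : G) * h = h * (z : Z) :=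
                Subgroup.mem_centralizer_singleton_iff.mp (z : Z).2
              conv_lhs => rw [← hfix]
              conv_rhs => rw [← hfix]
              calc _ = c * g * (((z : Z) : G) * h) * (c * g)⁻¹ := by group
                _ = _ := by rw [hcz]; group))⟩ : ZH)
          map_one' := Subtype.ext (Subtype.ext (by simp))
          map_mul' := fun a b => Subtype.ext (Subtype.ext (by simp [mul_assoc])) }) ?_
      intro a b e
      exact Subtype.ext (Subtype.ext (mul_left_cancel (mul_right_cancel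
        (congr_arg (fun w : ZH => ((w : H) : G)) e :))))
    obtain ⟨d, hd⟩ := hZHle
    have hZHn : Nat.card ZH ∣ n := Subgroup.card_subgroup_dvd_card ZH
    have hdn : Nat.Coprime n d := by
      refine Nat.coprime_of_dvd fun p hp hpn hpd => ?_
      have h1 := hpdvd p hp hpn
      have h2 : p * ordProj[p] (Nat.card Z) ∣ Nat.card Z := by
        rw [mul_comm]
        conv_rhs => rw [hd]
        exact mul_dvd_mul h1 hpd
      rw [mul_comm, ← pow_succ] at h2
      exact Nat.pow_succ_factorization_not_dvd Nat.card_pos.ne' hp h2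
    have hdm : d ∣ m := by
      refine Nat.Coprime.dvd_of_dvd_mul_right hdn.symm ?_
      rw [← hG]
      exact (Dvd.intro_left _ hd.symm).trans (Subgroup.card_subgroup_dvd_card Z)
    have hN := dvd_card_pow_eq_one Z (Nat.card ZH) d (hd.trans (mul_comm _ _))
      (hdn.symm.coprime_dvd_right hZHn)
    have hN' : d ≤ Nat.card {v : Z // v ^ d = 1} :=
      Nat.le_of_dvd (have : Nonempty {v : Z // v ^ d = 1} := ⟨⟨1, one_pow d⟩⟩; Nat.card_pos) hN
    have hfibmem : ∀ (z : G) (v : {v : Z // v ^ d = 1}),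
        z * (h * (v.1 : G)) * z⁻¹ ∈ fib (ConjClasses.mk h) ∧
          (z * (h * (v.1 : G)) * z⁻¹) ^ k = z * h * z⁻¹ := by
      intro z v
      have hp : (z * (h * (v.1 : G)) * z⁻¹) ^ k = z * h * z⁻¹ := by
        rw [conj_pow, commute_mul_eq_pow
          (Subgroup.mem_centralizer_singleton_iff.mp v.1.2).symm
          (hkn h (Subgroup.orderOf_dvd_natCard H h.2))]
        have : orderOf (v.1 : G) ∣ d := orderOf_dvd_of_pow_eq_one (congr_arg Subtype.val v.2)
        exact orderOf_dvd_iff_pow_eq_one.mp ((this.trans hdm).trans (Nat.modEq_zero_iff_dvd.mp hk0))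
      exact ⟨Finset.mem_filter.mpr ⟨Finset.mem_univ _, (hF _ h).mpr
        (hp ▸ (isConj_iff.mpr ⟨z, rfl⟩ : IsConj (h : G) (z * h * z⁻¹)).symm)⟩, hp⟩
    have hy : ∀ y : fib (ConjClasses.mk h), ∃ z : G, z * h * z⁻¹ = (y : G) ^ k := fun y => by
      exact isConj_iff.mp ((hF _ h).mp (Finset.mem_filter.mp y.2).2).symm
    choose zy hzy using hy
    have hle : Nat.card G * Nat.card {v : Z // v ^ d = 1} ≤
        (fib (ConjClasses.mk h)).card * Nat.card Z := by
      rw [← Nat.card_eq_finsetCard, ← Nat.card_prod, ← Nat.card_prod]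
      let Φ : G × {v : Z // v ^ d = 1} → fib (ConjClasses.mk h) × Z := fun p =>
        (⟨_, (hfibmem p.1 p.2).1⟩, ⟨(zy ⟨_, (hfibmem p.1 p.2).1⟩)⁻¹ * p.1, by
          rw [Subgroup.mem_centralizer_singleton_iff, ← mul_inv_eq_iff_eq_mul]
          have e := (hzy ⟨_, (hfibmem p.1 p.2).1⟩).trans (hfibmem p.1 p.2).2
          set z0 := zy ⟨_, (hfibmem p.1 p.2).1⟩
          calc z0⁻¹ * p.1 * h * (z0⁻¹ * p.1)⁻¹ = z0⁻¹ * (p.1 * h * p.1⁻¹) * z0 := by group
            _ = (h : G) := by rw [← e]; group⟩)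
      refine Nat.card_le_card_of_injective Φ fun p q e => ?_
      simp only [Φ, Prod.mk.injEq, Subtype.mk.injEq] at e
      obtain ⟨e1, e2⟩ := e
      simp only [e1] at e2
      have ez : p.1 = q.1 := mul_left_cancel e2
      rw [ez] at e1
      exact Prod.ext ez (Subtype.ext (Subtype.ext
        (mul_left_cancel (mul_left_cancel (mul_right_cancel e1)))))
    refine Nat.le_of_mul_le_mul_right ?_ (Nat.card_pos (α := Z))
    calc m * Nat.card (ConjClasses.mk h).carrier * Nat.card Z
        = m * (Nat.card (ConjClasses.mk h).carrier * Nat.card ZH) * d := by rw [hd]; ring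
      _ = Nat.card G * d := by rw [hcarr, hG]
      _ ≤ Nat.card G * Nat.card {v : Z // v ^ d = 1} := Nat.mul_le_mul_left _ hN'
      _ ≤ _ := hle
  have hsumc : ∑ C : ConjClasses H, Nat.card C.carrier = n := by
    rw [show n = (Finset.univ : Finset H).card by rw [Finset.card_univ, ← Nat.card_eq_fintype_card],
      Finset.card_eq_sum_card_fiberwise (f := ConjClasses.mk) (t := Finset.univ) fun x _ => Finset.mem_univ _]
    refine Finset.sum_congr rfl fun C _ => ?_
    rw [Nat.card_eq_fintype_card, Fintype.card_subtype]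
    congr 1
    ext y
    simp [ConjClasses.mem_carrier_iff_mk_eq]
  have hfibcard : ∀ C : ConjClasses H, (fib C).card = m * Nat.card C.carrier := by
    have htot : ∑ C : ConjClasses H, (fib C).card = ∑ C : ConjClasses H, m * Nat.card C.carrier := by
      rw [← Finset.card_eq_sum_card_fiberwise (f := F) (t := Finset.univ) fun x _ => Finset.mem_univ _,
        ← Finset.mul_sum, hsumc, Finset.card_univ, ← Nat.card_eq_fintype_card, hG]
    exact fun C => ((Finset.sum_eq_sum_iff_of_le fun C _ => hlow C).mp htot.symm C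
      (Finset.mem_univ C)).symm
  have hint : ∀ φ : H → ℂ, Cfsg.IsClassFunction H φ →
      ∑ x : G, φ (h₀ x) = (m : ℂ) * ∑ h : H, φ h := by
    intro φ hφ
    rw [← Finset.sum_fiberwise Finset.univ F,
      ← Finset.sum_fiberwise (Finset.univ : Finset H) ConjClasses.mk, Finset.mul_sum]
    refine Finset.sum_congr rfl fun C _ => ?_
    obtain ⟨c, rfl⟩ := ConjClasses.mk_surjective C
    rw [Finset.sum_congr rfl (g := fun _ => φ c) fun x hx => CfsgLib.Char.isClassFunction_isConj hφ
        (ConjClasses.mk_eq_mk_iff_isConj.mp (Finset.mem_filter.mp hx).2),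
      Finset.sum_congr rfl (g := fun _ => φ c) fun x hx => CfsgLib.Char.isClassFunction_isConj hφ
        (ConjClasses.mk_eq_mk_iff_isConj.mp (Finset.mem_filter.mp hx).2),
      Finset.sum_const, Finset.sum_const, nsmul_eq_mul, nsmul_eq_mul,
      show (Finset.univ.filter fun x => F x = ConjClasses.mk c).card =
        (fib (ConjClasses.mk c)).card from rfl, hfibcard, Nat.cast_mul, mul_assoc]
    congr 3
    rw [Nat.card_eq_fintype_card, Fintype.card_subtype]
    congr 1
    ext y
    simp [ConjClasses.mem_carrier_iff_mk_eq]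
  have hθirr : ∀ χ : H → ℂ, Cfsg.IsIrrCharacter H χ →
      Cfsg.IsIrrCharacter G (fun x => χ (h₀ x)) := by
    intro χ hχ
    have hχc := CfsgLib.Char.irr_isClassFunction hχ
    have hval : ∀ x (h : H), IsConj (x ^ k) (h : G) → χ (h₀ x) = χ h := fun x h e =>
      CfsgLib.Char.isClassFunction_isConj hχc (ConjClasses.mk_eq_mk_iff_isConj.mp ((hF x h).mpr e))
    have hcl : Cfsg.IsClassFunction G (fun x => χ (h₀ x)) := fun x y => by
      refine hval _ _ ?_
      rw [conj_pow]
      exact (isConj_iff.mpr ⟨y⁻¹, by group⟩ : IsConj (y * x ^ k * y⁻¹) (x ^ k)).trans (hh₀ x)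
    have hgen : Cfsg.IsGeneralizedCharacter G (fun x => χ (h₀ x)) := by
      refine CfsgLib.Char.brauer_characterization hcl fun E p hp hE => ?_
      have hdvd : Nat.card E ∣ n * m := by rw [mul_comm, ← hG]; exact Subgroup.card_subgroup_dvd_card E
      obtain ⟨A, hA⟩ := Cfsg.Agent.S0875.exists_partSubgroups hp hE hHall hdvd
      have hAn : Nat.card A ∣ n := by
        refine Nat.Coprime.dvd_of_dvd_mul_right ?_ ((Subgroup.card_subgroup_dvd_card A).trans hdvd)
        refine Nat.coprime_of_dvd fun r hr hrA hrm => ?_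
        have := Fact.mk hr
        obtain ⟨z, hz⟩ := exists_prime_orderOf_dvd_card' r hrA
        refine hr.not_dvd_one (hHall ▸ Nat.dvd_gcd ?_ hrm)
        rw [← hz, ← Subgroup.orderOf_coe]
        exact orderOf_dvd_of_pow_eq_one ((hA z).mp z.2)
      obtain ⟨g, hg⟩ := helem (A.map E.subtype) p hp
        (CfsgLib.Char.isElementary_map E.subtype_injective
          (CfsgLib.Char.isElementary_subgroup hp hE A))
        (by rw [Subgroup.card_map_of_injective E.subtype_injective]; exact hAn)
      have hproj : ∀ e : E, e ^ k ∈ A := fun e => (hA _).mpr (by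
        rw [← pow_mul, ← orderOf_dvd_iff_pow_eq_one]
        exact (orderOf_dvd_natCard e).trans (hdvd.trans (by
          rw [mul_comm]; exact mul_dvd_mul_right (Nat.modEq_zero_iff_dvd.mp hk0) n)))
      obtain ⟨B, hB⟩ := Cfsg.Agent.S0875.exists_partSubgroups hp hE hHall.symm (mul_comm n m ▸ hdvd)
      have hsplit : ∀ e : E, e * (e ^ k)⁻¹ ∈ B := fun e => (hB _).mpr (by
        have hx : orderOf e ∣ m * n := (orderOf_dvd_natCard e).trans (mul_comm n m ▸ hdvd)
        rw [((Commute.refl e).pow_right k).inv_right.mul_pow, inv_pow, ← pow_mul, mul_inv_eq_one]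
        refine (pow_eq_pow_iff_modEq.mpr ?_).symm
        have h1 : m * k ≡ m * 1 [MOD m * n] := Nat.ModEq.mul_left' m hk1
        rw [mul_one] at h1
        exact ((mul_comm k m).symm ▸ h1).of_dvd hx)
      have hcomm : ∀ u v : E, u ∈ A → v ∈ B → Commute u v := fun u v hu hv =>
        Cfsg.Agent.S0875.commute_of_elementary hp hE ((hHall.coprime_dvd_left
          (orderOf_dvd_of_pow_eq_one ((hA u).mp hu))).coprime_dvd_right
            (orderOf_dvd_of_pow_eq_one ((hB v).mp hv)))
      have hmul : ∀ e f : E, (e * f) ^ k = e ^ k * f ^ k := by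
        intro e f
        have hab : e * f = (e ^ k * f ^ k) * ((e * (e ^ k)⁻¹) * (f * (f ^ k)⁻¹)) := by
          calc e * f = (e * (e ^ k)⁻¹ * e ^ k) * (f * (f ^ k)⁻¹ * f ^ k) := by group
            _ = (e ^ k * (e * (e ^ k)⁻¹)) * (f ^ k * (f * (f ^ k)⁻¹)) := by
              rw [(hcomm _ _ (hproj e) (hsplit e)).eq, (hcomm _ _ (hproj f) (hsplit f)).eq]
            _ = e ^ k * ((e * (e ^ k)⁻¹) * f ^ k) * (f * (f ^ k)⁻¹) := by group
            _ = _ := by rw [← (hcomm _ _ (hproj f) (hsplit e)).eq]; group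
        have hu := A.mul_mem (hproj e) (hproj f)
        have hv := B.mul_mem (hsplit e) (hsplit f)
        rw [hab]
        refine commute_mul_eq_pow (hcomm _ _ hu hv) ?_ ?_
        · have ho := orderOf_dvd_of_pow_eq_one ((hA _).mp hu)
          rw [← pow_mod_orderOf, hk1.of_dvd ho, pow_mod_orderOf, pow_one]
        · exact orderOf_dvd_iff_pow_eq_one.mp ((orderOf_dvd_of_pow_eq_one ((hB _).mp hv)).trans
            (Nat.modEq_zero_iff_dvd.mp hk0))
      let f : E →* H := MonoidHom.mk' (fun e => ⟨g * ((e ^ k : E) : G) * g⁻¹,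
        hg ⟨_, ⟨e ^ k, hproj e, rfl⟩, rfl⟩⟩) fun e e' => Subtype.ext (by
          show g * (((e * e') ^ k : E) : G) * g⁻¹ = _
          rw [hmul]; simp [mul_assoc])
      have : (fun e : E => χ (h₀ e)) = χ ∘ f := funext fun e => hval _ (f e)
        (isConj_iff.mpr ⟨g, by simp [f]⟩)
      rw [this]
      exact CfsgLib.Char.isGeneralized_of_isCharacter
        (CfsgLib.Char.isCharacter_comp (CfsgLib.Char.irr_isCharacter hχ) f)
    have hnorm : Cfsg.classInner (fun x => χ (h₀ x)) (fun x => χ (h₀ x)) = 1 := by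
      rw [← CfsgLib.Char.irr_classInner_self hχ, CfsgLib.Char.classInner_def,
        CfsgLib.Char.classInner_def,
        hint (fun h => χ h * (starRingEnd ℂ) (χ h)) (fun a b => by simp only [hχc a b]), hG]
      have : (m : ℂ) ≠ 0 := Nat.cast_ne_zero.mpr hm0.ne'
      push_cast
      field_simp
      rw [mul_div_assoc, show (Nat.card H : ℂ) = (n : ℂ) from rfl, div_self (Nat.cast_ne_zero.mpr hn0.ne'), mul_one]
    rcases CfsgLib.Char.isGeneralized_norm_one hgen hnorm with h | h
    · exact h
    · exfalso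
      obtain ⟨a, ha, ha1⟩ := CfsgLib.Char.irr_apply_one_pos h
      obtain ⟨b, hb, hb1⟩ := CfsgLib.Char.irr_apply_one_pos hχ
      rw [Pi.neg_apply, hval 1 1 (by simp), hb1] at ha1
      have : ((a + b : ℕ) : ℂ) = 0 := by push_cast; rw [← ha1]; ring
      rw [Nat.cast_eq_zero] at this
      omega
  have hker : ∀ x : G, x ^ k = 1 ↔ ∀ χ : H → ℂ, Cfsg.IsIrrCharacter H χ → χ (h₀ x) = χ 1 := by
    intro x
    constructor
    · intro hx χ hχ
      exact CfsgLib.Char.isClassFunction_isConj (CfsgLib.Char.irr_isClassFunction hχ)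
        (ConjClasses.mk_eq_mk_iff_isConj.mp ((hF x 1).mpr (by rw [hx]; simp)))
    · intro hall
      have h1 := (CfsgLib.Char.isConj_iff_forall_irr (h₀ x) 1).mpr fun χ => hall _ χ.2
      have h2 := hh₀ x
      rw [isConj_one_left.mp h1] at h2
      exact isConj_one_left.mp h2
  have hone : ∀ χ : H → ℂ, Cfsg.IsIrrCharacter H χ → χ (h₀ 1) = χ 1 := fun χ hχ =>
    (hker 1).mp (one_pow k) χ hχ
  let K : Subgroup G :=
    { carrier := {x | x ^ k = 1}
      one_mem' := one_pow k
      mul_mem' := fun {x y} (hx : x ^ k = 1) (hy : y ^ k = 1) => by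
        refine (hker _).mpr fun χ hχ => ?_
        obtain ⟨N, ρ, -, hρ⟩ := hθirr χ hχ
        have e : ∀ z : G, ρ z = 1 ↔ χ (h₀ z) = χ (h₀ 1) := fun z =>
          MonoidHom.mem_ker.symm.trans ((CfsgLib.Char.mem_ker_iff_char ρ z).trans (by rw [hρ]))
        rw [← hone χ hχ, ← e, map_mul, (e x).mpr (by rw [(hker x).mp hx χ hχ, hone χ hχ]),
          (e y).mpr (by rw [(hker y).mp hy χ hχ, hone χ hχ]), mul_one]
      inv_mem' := fun {x} (hx : x ^ k = 1) => show x⁻¹ ^ k = 1 by rw [inv_pow, hx, inv_one] }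
  have hKmem : ∀ x, x ∈ K ↔ x ^ k = 1 := fun _ => Iff.rfl
  have hKn : K.Normal := ⟨fun x hx g => by
    rw [hKmem] at hx ⊢; rw [conj_pow, hx, mul_one, mul_inv_cancel]⟩
  have hKH : K ⊓ H = ⊥ := (Subgroup.eq_bot_iff_forall _).mpr fun x hx => by
    rw [← hkn x (Subgroup.orderOf_dvd_natCard H hx.2)]; exact (hKmem x).mp hx.1
  have hKcard : Nat.card K = m := by
    have h1 : Nat.card (ConjClasses.mk (1 : H)).carrier = 1 := by
      rw [CfsgLib.Char.natCard_carrier_eq_index, Subgroup.centralizer_eq_top_iff_subset.mpr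
        (by simp), Subgroup.index_top]
    have h2 := hfibcard (ConjClasses.mk 1)
    rw [h1, mul_one] at h2
    rw [← h2, ← Nat.card_eq_finsetCard]
    exact Nat.card_congr (Equiv.subtypeEquivRight fun x => by
      rw [hKmem]
      simp only [fib, Finset.mem_filter, Finset.mem_univ, true_and, hF, Subgroup.coe_one,
        isConj_one_left])
  refine ⟨K, hKn, ?_, hKH⟩
  refine (Subgroup.isComplement'_of_card_mul_and_disjoint ?_ (disjoint_iff.mpr hKH)).sup_eq_top
  rw [hKcard, hG]

end Cfsg.Agent.S0877
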