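import Cfsg.Statements.S0034
import Cfsg.Agent.Lib.StructC.FrobKernel

set_option autoImplicit false
open Cfsg
open scoped Pointwise
set_option linter.style.haveILetI false

namespace Cfsg.Agent.S0034

/-- For a Frobenius complement H, the set of elements lying in no conjugate of H, together with 1, has exactly as many elements as the index of H, and that index is congruent to 1 modulo the order of H. -/
theorem result {G : Type*} [Group G] [Finite G] (H : Subgroup G) (hH : Cfsg.IsFrobeniusComplement H) :
    Nat.card (Cfsg.frobeniusKernel H) = H.index ∧ H.index % Nat.card H = 1 % Nat.card H := by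
  obtain ⟨N, hN, hn, hc⟩ := CfsgLib.StructC.frobenius_kernel_theorem hH
  refine ⟨CfsgLib.StructC.frob_card_kernel hH, ?_⟩
  -- the complement acts freely on the cosets other than itself
  have h : ∀ h : H, h ≠ 1 → ∀ q : G ⧸ H, h • q = q → q = (QuotientGroup.mk 1 : G ⧸ H) := by
    intro h hh q
    induction q using QuotientGroup.induction_on with
    | _ x =>
      intro e
      have e' : (QuotientGroup.mk ((h : G) * x) : G ⧸ H) = QuotientGroup.mk x := e
      rw [QuotientGroup.eq] at e'
      rw [QuotientGroup.eq]
      have hm : x⁻¹ * (h : G)⁻¹ * x ∈ H := by simpa [mul_assoc] using e'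
      simpa using CfsgLib.StructC.frob_conj_mem hH (H.inv_mem h.2) hm
        (fun e => hh (Subtype.ext (inv_eq_one.1 e)))
  classical
  have := Fintype.ofFinite G
  have hsum := MulAction.sum_card_fixedBy_eq_card_orbits_mul_card_group H (G ⧸ H)
  rw [← Fintype.sum_subtype_add_sum_subtype (fun h : H => h = 1)] at hsum
  have h1 : ∀ h : H, h = 1 → Fintype.card (MulAction.fixedBy (G ⧸ H) h) = H.index := by
    rintro h rfl
    rw [Subgroup.index_eq_card, Nat.card_eq_fintype_card]
    exact Fintype.card_congr (Equiv.subtypeUnivEquiv fun q => one_smul _ q)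
  have h2 : ∀ h : H, h ≠ 1 → Fintype.card (MulAction.fixedBy (G ⧸ H) h) = 1 := by
    intro a ha
    refine Fintype.card_eq_one_iff.2 ⟨⟨QuotientGroup.mk 1, ?_⟩, fun q => Subtype.ext (h a ha q q.2)⟩
    show (QuotientGroup.mk ((a : G) * 1) : G ⧸ H) = QuotientGroup.mk 1
    rw [QuotientGroup.eq]; simp
  rw [Finset.sum_congr rfl (fun (x : {h : H // h = 1}) _ => h1 x.1 x.2), Finset.sum_congr rfl (fun (x : {h : H // ¬ h = 1}) _ => h2 x.1 x.2)] at hsum
  simp only [Finset.sum_const, Finset.card_univ, smul_eq_mul, mul_one,
    Fintype.card_subtype_compl, Fintype.card_subtype_eq, one_mul] at hsum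
  rw [Nat.card_eq_fintype_card]
  have hpos : 0 < Fintype.card H := Fintype.card_pos
  generalize Fintype.card (MulAction.orbitRel.Quotient H (G ⧸ H)) = r at hsum
  have e : H.index + Fintype.card H = 1 + r * Fintype.card H := by omega
  have e2 := congrArg (· % Fintype.card H) e
  simpa using e2

end Cfsg.Agent.S0034
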