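import Cfsg.Statements.S1620
import Cfsg.Agent.Lib.InvChar.IcoJ2
-- import your own Cfsg.Agent.* helpers here

set_option autoImplicit false
open Quaternion
open Cfsg

namespace Cfsg.Agent.S1620

/-- The Hall–Janko group is simple and non-abelian. -/
theorem result : IsSimpleGroup Cfsg.Spor.J2 ∧ ∃ a b : Cfsg.Spor.J2, a * b ≠ b * a := by
  have e := CfsgLib.InvChar.Ico.equivP
  haveI : IsSimpleGroup CfsgLib.InvChar.SporJ2.P := CfsgLib.InvChar.SporJ2.isSimpleGroup
  haveI : Nontrivial Cfsg.Spor.J2 := e.toEquiv.nontrivial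
  refine ⟨IsSimpleGroup.isSimpleGroup_of_surjective e.symm.toMonoidHom e.symm.surjective, ?_⟩
  obtain ⟨a, b, h⟩ := CfsgLib.InvChar.SporJ2.exists_noncomm
  refine ⟨e.symm a, e.symm b, fun hh => h ?_⟩
  simpa using congrArg e hh

end Cfsg.Agent.S1620
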