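import Cfsg.Statements.S0855
import Mathlib
import Cfsg.Agent.Lib.Char.CliffordApps
import Cfsg.Agent.Lib.Clifford.Degree
import Cfsg.Agent.Lib.Clifford.Constituents
import Cfsg.Agent.Lib.Char.Column
import Cfsg.Agent.Lib.Char.Linear
import Cfsg.Agent.Lib.Char.Induce

set_option autoImplicit false
open Cfsg

namespace Cfsg.Agent.S0855

theorem forward.{u} (p : ℕ) (hp : p.Prime) : ∀ (G : Type u) [Group G] [Finite G] (N : ℕ), Nat.card G ≤ N →
    (∀ χ : Cfsg.IrrCharacter G, ∃ k : ℕ, (χ : G → ℂ) 1 = (p : ℂ) ^ k) →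
    ∃ A : Subgroup G, A.Normal ∧ (∀ a ∈ A, ∀ b ∈ A, a * b = b * a) ∧ Nat.Coprime (Nat.card A) p ∧
      ∃ k : ℕ, A.index = p ^ k := by
  intro G _ _ N
  induction N using Nat.strong_induction_on generalizing G with
  | _ N IH =>
    intro hN hdeg
    classical
    have := Fintype.ofFinite G
    have := CfsgLib.Char.finite_irrCharacter (G := G)
    have : Fintype (Cfsg.IrrCharacter G) := Fintype.ofFinite _
    choose d hd using hdeg
    by_cases hpd : p ∣ Nat.card G
    swap
    · have hlin : ∀ χ : Cfsg.IrrCharacter G, (χ : G → ℂ) 1 = 1 := fun χ => by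
        obtain ⟨χ, n, ρ, hρ, rfl⟩ := χ
        have h1 := CfsgLib.Char.degree_dvd_card ρ
        have h2 := hd ⟨ρ.character, n, ρ, hρ, rfl⟩
        change ρ.character 1 = _ at h2
        rw [Representation.char_one, Module.finrank_fin_fun] at h2
        rw [Module.finrank_fin_fun] at h1
        have h2 : n = p ^ d ⟨ρ.character, n, ρ, hρ, rfl⟩ := by exact_mod_cast h2
        rcases Nat.eq_zero_or_pos (d ⟨ρ.character, n, ρ, hρ, rfl⟩) with h | h
        · show ρ.character 1 = 1
          rw [Representation.char_one, Module.finrank_fin_fun, h2, h]; simp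
        · exact absurd ((dvd_pow_self p h.ne').trans (h2 ▸ h1)) hpd
      have hc := CfsgLib.Char.comm_iff_forall_degree_one.mpr hlin
      exact ⟨⊤, inferInstance, fun a _ b _ => hc a b,
        by rw [Subgroup.card_top]; exact (hp.coprime_iff_not_dvd.mpr hpd).symm, 0, by simp⟩
    have hsum : ∑ χ : Cfsg.IrrCharacter G, (p ^ d χ) ^ 2 = Nat.card G := by
      have h := CfsgLib.Char.sum_irr_sq (G := G)
      simp only [hd] at h
      exact_mod_cast h
    have hlin : (Finset.univ.filter fun χ : Cfsg.IrrCharacter G => d χ = 0).card = (commutator G).index := by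
      rw [← CfsgLib.Char.natCard_linearIrr, Nat.card_eq_fintype_card, Fintype.card_subtype]
      congr 1
      refine Finset.filter_congr fun χ _ => ?_
      rw [hd χ]
      refine ⟨fun h => by rw [h, pow_zero], fun h => ?_⟩
      have : p ^ d χ = 1 := by exact_mod_cast h
      exact (Nat.pow_eq_one.mp this).resolve_left hp.one_lt.ne'
    have hidx : p ∣ (commutator G).index := by
      rw [← hlin, ← Nat.dvd_add_iff_left (k := p) (n := ∑ χ ∈ Finset.univ.filter
        (fun χ : Cfsg.IrrCharacter G => ¬ d χ = 0), (p ^ d χ) ^ 2) ?_ |>.symm]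
      · rw [← hsum, ← Finset.sum_filter_add_sum_filter_not Finset.univ (fun χ : Cfsg.IrrCharacter G => d χ = 0),
          Finset.sum_congr rfl (g := fun _ => 1) (fun χ h => by rw [(Finset.mem_filter.mp h).2]; simp)] at hpd
        simpa using hpd
      · exact Finset.dvd_sum fun χ h => dvd_pow (dvd_pow_self p (Finset.mem_filter.mp h).2) two_ne_zero
    have := Fact.mk hp
    obtain ⟨M, hM, hMi⟩ : ∃ M : Subgroup G, M.Normal ∧ M.index = p := by
      have hcard : Nat.card (Abelianization G) = (commutator G).index := (Subgroup.index_eq_card _).symm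
      obtain ⟨U, hU⟩ : ∃ U : Subgroup (Abelianization G), U.index = p := by
        let R : Subgroup (Abelianization G) := (powMonoidHom p).range
        have hq : IsPGroup p (Abelianization G ⧸ R) := fun x => by
          obtain ⟨x, rfl⟩ := QuotientGroup.mk_surjective x
          exact ⟨1, by rw [pow_one, ← QuotientGroup.mk_pow, QuotientGroup.eq_one_iff]; exact ⟨x, rfl⟩⟩
        have hR : R ≠ ⊤ := fun h => by
          obtain ⟨x, hx⟩ := exists_prime_orderOf_dvd_card' (G := Abelianization G) p (hcard ▸ hidx)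
          have hinj := Finite.injective_iff_surjective.mpr
            (MonoidHom.range_eq_top.mp h : Function.Surjective (powMonoidHom p : Abelianization G →* _))
          have : x = 1 := hinj (by simp [powMonoidHom_apply, ← hx, pow_orderOf_eq_one])
          rw [this, orderOf_one] at hx
          exact hp.one_lt.ne hx
        obtain ⟨a, ha⟩ := hq.exists_card_eq
        obtain ⟨a, rfl⟩ : ∃ b, a = b + 1 := Nat.exists_eq_succ_of_ne_zero fun h0 => hR (by
          rw [← Subgroup.index_eq_one, Subgroup.index_eq_card, ha, h0, pow_zero])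
        obtain ⟨V, hV⟩ := Sylow.exists_subgroup_card_pow_prime p
          (G := Abelianization G ⧸ R) (n := a) (by rw [ha]; exact pow_dvd_pow p (Nat.le_succ a))
        refine ⟨V.comap (QuotientGroup.mk' R), ?_⟩
        rw [Subgroup.index_comap_of_surjective _ (QuotientGroup.mk'_surjective R)]
        have := V.index_mul_card
        rw [hV, ha, pow_succ'] at this
        exact Nat.eq_of_mul_eq_mul_right (pow_pos hp.pos a) this
      exact ⟨U.comap Abelianization.of, inferInstance, by
        rw [Subgroup.index_comap_of_surjective _ QuotientGroup.mk_surjective, hU]⟩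
    have hlt : Nat.card M < Nat.card G := by
      rw [← M.index_mul_card, hMi]
      exact lt_mul_of_one_lt_left Nat.card_pos hp.one_lt
    have := Fintype.ofFinite M
    obtain ⟨A, hA, hab, hcop, k, hk⟩ := IH (Nat.card M) (lt_of_lt_of_le hlt hN) M le_rfl (fun θ => by
      obtain ⟨χ, hχ, hne⟩ := CfsgLib.Clifford.exists_irr_constituent (F := Cfsg.indFun M (θ : M → ℂ))
        (CfsgLib.Char.isCharacter_indFun M (CfsgLib.Char.irr_isCharacter θ.2)) fun h0 => by
          have := congr_fun h0 1
          rw [CfsgLib.Char.indFun_apply_one, Pi.zero_apply, mul_eq_zero, Nat.cast_eq_zero] at this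
          exact this.elim M.index_ne_zero_of_finite (CfsgLib.Char.irr_apply_one_ne_zero θ.2)
      rw [CfsgLib.Char.frobenius_reciprocity M _ _ (CfsgLib.Char.irr_isClassFunction hχ)] at hne
      obtain ⟨e, he, -⟩ := CfsgLib.Clifford.degree_quot_dvd_index (N := M) hχ θ.2 (by
        rw [← CfsgLib.Char.classInner_conj_symm]; simpa using hne)
      obtain ⟨t, ht⟩ := CfsgLib.Char.char_apply_one_eq_nat (CfsgLib.Char.irr_isCharacter θ.2)
      rw [show χ 1 = (p : ℂ) ^ d ⟨χ, hχ⟩ from hd ⟨χ, hχ⟩, ht] at he
      have he : p ^ d ⟨χ, hχ⟩ = e * t := by exact_mod_cast he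
      obtain ⟨i, -, hi⟩ := (Nat.dvd_prime_pow hp).mp ⟨e, by rw [he, mul_comm]⟩
      exact ⟨i, by rw [ht, hi]; push_cast; rfl⟩)
    have hchar : ∀ x : M, Nat.Coprime (orderOf x) p → x ∈ A := by
      intro x hx
      have := hA
      rw [← QuotientGroup.eq_one_iff, ← orderOf_eq_one_iff]
      refine Nat.eq_one_of_dvd_coprimes (Nat.Coprime.pow_right k hx) (orderOf_map_dvd (QuotientGroup.mk' A) x) ?_
      rw [← hk, Subgroup.index_eq_card]
      exact orderOf_dvd_natCard _
    refine ⟨A.map M.subtype, ⟨?_⟩, ?_, ?_, k + 1, ?_⟩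
    · rintro _ ⟨x, hx, rfl⟩ g
      refine ⟨⟨_, hM.conj_mem _ x.2 g⟩, hchar _ ?_, rfl⟩
      rw [← Subgroup.orderOf_coe]
      show Nat.Coprime (orderOf (MulAut.conj g (x : G))) p
      rw [MulEquiv.orderOf_eq, Subgroup.orderOf_coe]
      exact hcop.coprime_dvd_left (A.orderOf_dvd_natCard hx)
    · rintro _ ⟨a, ha, rfl⟩ _ ⟨b, hb, rfl⟩
      rw [← map_mul, hab a ha b hb, map_mul]
    · rwa [Subgroup.card_map_of_injective M.subtype_injective]
    · rw [Subgroup.index_map_subtype, hk, hMi, pow_succ]

/-- For a finite group G and a prime p: every irreducible character of G has degree a power of p if and only if G has an abelian normal subgroup whose order is prime to p and whose index is a power of p. -/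
theorem result {G : Type*} [Group G] [Finite G] (p : ℕ) (hp : p.Prime) : (∀ χ : Cfsg.IrrCharacter G, ∃ k : ℕ, (χ : G → ℂ) 1 = (p : ℂ) ^ k) ↔ ∃ A : Subgroup G, A.Normal ∧ (∀ a ∈ A, ∀ b ∈ A, a * b = b * a) ∧ Nat.Coprime (Nat.card A) p ∧ ∃ k : ℕ, A.index = p ^ k := by
  constructor
  · exact forward p hp G (Nat.card G) le_rfl
  · rintro ⟨A, hA, hab, hcop, k, hk⟩ ⟨χ, n, ρ, hρ, rfl⟩
    have : A.Normal := hA
    have := CfsgLib.Char.ito_degree_dvd_index ρ A hab
    rw [hk, Module.finrank_fin_fun] at this
    obtain ⟨i, -, hi⟩ := (Nat.dvd_prime_pow hp).mp this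
    exact ⟨i, by simp [Representation.char_one, hi]⟩

end Cfsg.Agent.S0855
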