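import Cfsg.Statements.S5032
import Cfsg.Agent.Lib.Trans3.RootComponent

set_option autoImplicit false
open Cfsg

namespace Cfsg.Agent.S5032

/-- Let S be a set of abstract root subgroups of G with more than one member. Then the graph of rank one pairs on S is connected if and only if S is a single conjugacy class of G and some member of S has a rank one partner in S. -/
theorem result {G : Type*} [Group G] {S : Set (Subgroup G)} (hS : Cfsg.IsRootSubgroupSet S) (h2 : ∃ A ∈ S, ∃ B ∈ S, A ≠ B) :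
    Cfsg.IsConnectedFamily (Cfsg.FAdj S) S ↔
      (Cfsg.IsConjClassOfSubgroups S ∧ ∃ A ∈ S, ¬ Cfsg.IsIsolatedIn (Cfsg.FAdj S) S A) := by
  obtain ⟨A₀, hA₀, B₀, hB₀, hne⟩ := h2
  constructor
  · intro hc
    refine ⟨⟨⟨A₀, hA₀⟩, fun A hA B hB => CfsgLib.Trans3.RankOne.exists_conj_of_fReach (hc A hA B hB)⟩,
      A₀, hA₀, fun hiso => ?_⟩
    rcases Relation.ReflTransGen.cases_head (hc A₀ hA₀ B₀ hB₀) with h | ⟨D, hD, -⟩
    · exact hne h
    · exact (hiso.2 D).1 hD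
  · rintro ⟨hconj, A₁, hA₁, hiso⟩ A hA B hB
    obtain ⟨D, hD, hp⟩ := CfsgLib.Trans3.RankOne.exists_partner_of_not_isolated hS hA₁ hiso
    obtain ⟨g, rfl⟩ := hconj.2 A₁ hA₁ A hA
    obtain ⟨g', rfl⟩ := hconj.2 A₁ hA₁ B hB
    exact (CfsgLib.Trans3.RankOne.fReach_symm
      (CfsgLib.Trans3.RankOne.fReach_conjBy hS hA₁ ⟨D, hD, hp⟩ g)).trans
      (CfsgLib.Trans3.RankOne.fReach_conjBy hS hA₁ ⟨D, hD, hp⟩ g')

end Cfsg.Agent.S5032
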