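import Cfsg.Statements.S5036
import Cfsg.Agent.Lib.Trans3.RootPartition

set_option autoImplicit false
open Cfsg CfsgLib.Trans3.RankOne
open scoped commutatorElement

namespace Cfsg.Agent.S5036

theorem mem_centralizer_sup' {G : Type*} [Group G] {A D : Subgroup G} {z : G}
    (hA : ∀ a ∈ A, z * a = a * z) (hD : ∀ d ∈ D, z * d = d * z) :
    z ∈ Subgroup.centralizer ((A ⊔ D : Subgroup G) : Set G) := by
  rw [Subgroup.sup_eq_closure, Subgroup.centralizer_closure, Subgroup.mem_centralizer_iff]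
  rintro x (hx | hx)
  exacts [(hA x hx).symm, (hD x hx).symm]

theorem conjBy_eq_of_fix {G : Type*} [Group G] {D : Subgroup G} {f : G}
    (h : ∀ d ∈ D, f * d = d * f) : conjBy D f = D := by
  refine le_antisymm ?_ fun d hd => ⟨d, hd, ?_⟩
  · rintro _ ⟨d, hd, rfl⟩
    simpa [h d hd] using hd
  · simp [h d hd]

/-- Let S be a set of abstract root subgroups of G, A, B ∈ S with C = ⁅A, B⁆ ∈ S, and D ∈ S with ⁅D, C⁆ = A. Put X = ⟨B, D⟩ and N = AC. Then B, D form a rank one pair; the conjugates of A under X are the conjugates of C under X, namely the conjugates of A by elements of B together with C, equally the conjugates of C by elements of D together with A, and they partition N; and the centralizer of N in X is central in X. -/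
theorem result {G : Type*} [Group G] {S : Set (Subgroup G)} (hS : Cfsg.IsRootSubgroupSet S)
    {A B D : Subgroup G} (hA : A ∈ S) (hB : B ∈ S) (hC : ⁅A, B⁆ ∈ S) (hD : D ∈ S) (hDC : ⁅D, ⁅A, B⁆⁆ = A) :
    Cfsg.IsRankOnePair B D ∧
    {E | ∃ x ∈ B ⊔ D, E = Cfsg.conjBy A x} = {E | ∃ x ∈ B ⊔ D, E = Cfsg.conjBy ⁅A, B⁆ x} ∧
    {E | ∃ x ∈ B ⊔ D, E = Cfsg.conjBy A x} = (fun b : G => Cfsg.conjBy A b) '' (B : Set G) ∪ {⁅A, B⁆} ∧
    {E | ∃ x ∈ B ⊔ D, E = Cfsg.conjBy A x} = (fun d : G => Cfsg.conjBy ⁅A, B⁆ d) '' (D : Set G) ∪ {A} ∧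
    Cfsg.IsSubgroupPartition (A ⊔ ⁅A, B⁆) {E | ∃ x ∈ B ⊔ D, E = Cfsg.conjBy A x} ∧
    ∀ x ∈ (B ⊔ D) ⊓ Subgroup.centralizer ((A ⊔ ⁅A, B⁆ : Subgroup G) : Set G), ∀ y ∈ B ⊔ D, x * y = y * x := by
  let C : Subgroup G := ⁅A, B⁆
  let N : Subgroup G := A ⊔ C
  have h1 := commutatorCase_of_mem hS hA hB hC
  have h2 := commutatorCase_of_mem hS hD hC (hDC.symm ▸ hA)
  have hAcomm : ∀ d ∈ D, ∀ a ∈ A, a * d = d * a := fun d hd a ha =>
    h2.2.1 a (hDC.symm ▸ ha) d (Subgroup.mem_sup_left hd)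
  have hCcomm : ∀ b ∈ B, ∀ c ∈ C, c * b = b * c := fun b hb c hc =>
    h1.2.1 c hc b (Subgroup.mem_sup_right hb)
  have hAC : ∀ a ∈ A, ∀ c ∈ C, a * c = c * a := fun a ha c hc =>
    (h1.2.1 c hc a (Subgroup.mem_sup_left ha)).symm
  have faithA : ∀ a ∈ A, (∀ b ∈ B, a * b = b * a) → a = 1 := by
    intro a ha h
    by_contra ha1
    refine hS.ne_bot _ hC ?_
    rw [← h1.2.2.1 a ha ha1, Subgroup.closure_eq_bot_iff]
    rintro _ ⟨b, hb, rfl⟩
    simp [h b hb]
  have faithB : ∀ b ∈ B, (∀ a ∈ A, a * b = b * a) → b = 1 := by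
    intro b hb h
    by_contra hb1
    refine hS.ne_bot _ hC ?_
    rw [← h1.2.2.2 b hb hb1, Subgroup.closure_eq_bot_iff]
    rintro _ ⟨a, ha, rfl⟩
    simp [h a ha]
  have faithC : ∀ c ∈ C, (∀ d ∈ D, d * c = c * d) → c = 1 := by
    intro c hc h
    by_contra hc1
    refine hS.ne_bot A hA ?_
    rw [← hDC, ← h2.2.2.2 c hc hc1, Subgroup.closure_eq_bot_iff]
    rintro _ ⟨d, hd, rfl⟩
    simp [h d hd]
  have faithD : ∀ d ∈ D, (∀ c ∈ C, d * c = c * d) → d = 1 := by
    intro d hd h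
    by_contra hd1
    refine hS.ne_bot A hA ?_
    rw [← hDC, ← h2.2.2.1 d hd hd1, Subgroup.closure_eq_bot_iff]
    rintro _ ⟨c, hc, rfl⟩
    simp [h c hc]
  have hdec : ∀ n ∈ N, ∃ a ∈ A, ∃ c ∈ C, n = a * c := by
    intro n hn
    have hn' : n ∈ ((A ⊔ C : Subgroup G) : Set G) := hn
    rw [Subgroup.coe_mul_of_left_le_normalizer_right _ _
      (Subgroup.normalizer_commutator_ge_left A B)] at hn'
    obtain ⟨a, ha, c, hc, rfl⟩ := hn'
    exact ⟨a, ha, c, hc, rfl⟩
  have hCB : ∀ n ∈ N, (∀ b ∈ B, n * b = b * n) → n ∈ C := by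
    intro n hn h
    obtain ⟨a, ha, c, hc, rfl⟩ := hdec n hn
    rw [faithA a ha (fun b hb => ?_), one_mul]
    · exact hc
    · have := (show Commute (a * c) b from h b hb).mul_left (show Commute c b from hCcomm b hb c hc).inv_left
      simpa using this.eq
  have hAD' : ∀ n ∈ N, (∀ d ∈ D, n * d = d * n) → n ∈ A := by
    intro n hn h
    obtain ⟨a, ha, c, hc, rfl⟩ := hdec n hn
    rw [faithC c hc (fun d hd => ?_), mul_one]
    · exact ha
    · have := (show Commute a d from hAcomm d hd a ha).inv_left.mul_left (show Commute (a * c) d from h d hd)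
      rw [inv_mul_cancel_left] at this
      exact this.eq.symm
  have hNle : B ⊔ D ≤ Subgroup.normalizer (N : Set G) := by
    have hgen : ∀ g : G, (∀ a ∈ A, g * a * g⁻¹ ∈ N) → (∀ c ∈ C, g * c * g⁻¹ ∈ N) →
        conjBy N g ≤ N := by
      intro g hga hgc
      rw [conjBy, Subgroup.map_sup]
      refine sup_le ?_ ?_
      · rintro _ ⟨a, ha, rfl⟩; exact hga a ha
      · rintro _ ⟨c, hc, rfl⟩; exact hgc c hc
    have hB' : ∀ b ∈ B, conjBy N b ≤ N := fun b hb => hgen b
      (fun a ha => by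
        have h3 : ⁅b, a⁆ ∈ C := by
          show _ ∈ ⁅A, B⁆
          rw [Subgroup.commutator_comm]
          exact Subgroup.commutator_mem_commutator hb ha
        have := mul_mem (Subgroup.mem_sup_right (S := A) h3) (Subgroup.mem_sup_left (T := C) ha)
        rw [commutatorElement_def] at this
        simpa [mul_assoc] using this)
      (fun c hc => by rw [← hCcomm b hb c hc, mul_inv_cancel_right]; exact Subgroup.mem_sup_right hc)
    have hD' : ∀ d ∈ D, conjBy N d ≤ N := fun d hd => hgen d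
      (fun a ha => by rw [← hAcomm d hd a ha, mul_inv_cancel_right]; exact Subgroup.mem_sup_left ha)
      (fun c hc => by
        have h3 : ⁅d, c⁆ ∈ A := hDC ▸ Subgroup.commutator_mem_commutator hd hc
        have := mul_mem (Subgroup.mem_sup_left (T := C) h3) (Subgroup.mem_sup_right (S := A) hc)
        rw [commutatorElement_def] at this
        simpa [mul_assoc] using this)
    have hN : ∀ (H : Subgroup G), (∀ h ∈ H, conjBy N h ≤ N) →
        H ≤ Subgroup.normalizer (N : Set G) := by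
      intro H hH h hh
      refine conjBy_eq_self_iff.1 (le_antisymm (hH h hh) fun x hx => ?_)
      rw [mem_conjBy]
      refine hH h⁻¹ (inv_mem hh) ?_
      rw [mem_conjBy, inv_inv]
      simpa [mul_assoc] using hx
    exact sup_le (hN B hB') (hN D hD')
  have hconjN : ∀ x ∈ B ⊔ D, ∀ n ∈ N, x * n * x⁻¹ ∈ N := fun x hx n hn =>
    (Subgroup.mem_normalizer_iff.1 (hNle hx) n).1 hn
  have hR : IsRankOnePair B D := by
    rcases hS.pair B hB D hD with h | h | h
    · exfalso
      refine hS.ne_bot B hB ((Subgroup.eq_bot_iff_forall _).2 fun b hb => faithB b hb fun a ha => ?_)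
      have hA' : A ≤ Subgroup.centralizer {b} := by
        rw [← hDC, Subgroup.commutator_le]
        intro d hd c hc
        rw [Subgroup.mem_centralizer_iff]
        rintro y rfl
        have e1 : Commute y d := commute_of_commutator h hb hd
        have e2 : Commute y c := (hCcomm y hb c hc).symm
        rw [commutatorElement_def]
        exact (((e1.mul_right e2).mul_right e1.inv_right).mul_right e2.inv_right).eq
      exact ((Subgroup.mem_centralizer_iff.1 (hA' ha)) b rfl).symm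
    · exact h
    exfalso
    have hEX : ∀ e ∈ ⁅B, D⁆, e ∈ B ⊔ D := by
      intro e he
      refine (Subgroup.commutator_le.2 fun b hb d hd => ?_) he
      rw [commutatorElement_def]
      exact mul_mem (mul_mem (mul_mem (Subgroup.mem_sup_left hb) (Subgroup.mem_sup_right hd))
        (inv_mem (Subgroup.mem_sup_left hb))) (inv_mem (Subgroup.mem_sup_right hd))
    have hEA : ∀ e ∈ ⁅B, D⁆, ∀ a ∈ A, e * a * e⁻¹ ∈ A := by
      intro e he a ha
      refine hAD' _ (hconjN e (hEX e he) a (Subgroup.mem_sup_left ha)) fun d hd => ?_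
      have e1 : Commute e d := h.2.1 e he d (Subgroup.mem_sup_right hd)
      exact ((e1.mul_left (show Commute a d from hAcomm d hd a ha)).mul_left e1.inv_left).eq
    rcases hS.pair A hA _ h.1 with h3 | h3 | h3
    · obtain ⟨a, ha, ha1⟩ := A.bot_or_exists_ne_one.resolve_left (hS.ne_bot A hA)
      refine ha1 (faithA a ha fun b hb => ?_)
      have hc : ⁅a, b⁻¹⁆ ∈ C := Subgroup.commutator_mem_commutator ha (inv_mem hb)
      have h5 : ⁅a, b⁻¹⁆ = 1 := by
        refine faithC _ hc fun d hd => ?_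
        have e1 : Commute a ⁅b, d⁆ :=
          commute_of_commutator h3 ha (Subgroup.commutator_mem_commutator hb hd)
        have e2 : d⁻¹ * a * d = a := by rw [mul_assoc, hAcomm d hd a ha, inv_mul_cancel_left]
        have h6 : b * (d * (b⁻¹ * a * b) * d⁻¹) * b⁻¹ = a := by
          calc b * (d * (b⁻¹ * a * b) * d⁻¹) * b⁻¹
              = ⁅b, d⁆ * (d * a * d⁻¹) * ⁅b, d⁆⁻¹ := by rw [commutatorElement_def]; group
            _ = a := by
              rw [show d * a * d⁻¹ = a by rw [← hAcomm d hd a ha, mul_inv_cancel_right], ← e1.eq,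
                mul_inv_cancel_right]
        have h7 : b⁻¹ * a * b = ⁅a, b⁻¹⁆⁻¹ * a := by rw [commutatorElement_def]; group
        rw [h7] at h6
        have h8 : d * (⁅a, b⁻¹⁆⁻¹ * a) * d⁻¹ = ⁅a, b⁻¹⁆⁻¹ * a := by
          calc d * (⁅a, b⁻¹⁆⁻¹ * a) * d⁻¹
              = b⁻¹ * (b * (d * (⁅a, b⁻¹⁆⁻¹ * a) * d⁻¹) * b⁻¹) * b := by group
            _ = b⁻¹ * a * b := by rw [h6]
            _ = ⁅a, b⁻¹⁆⁻¹ * a := h7
        have h9 : Commute d (⁅a, b⁻¹⁆⁻¹ * a) := mul_inv_eq_iff_eq_mul.1 h8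
        have h10 := h9.mul_right (show Commute a d from hAcomm d hd a ha).symm.inv_right
        rw [mul_inv_cancel_right] at h10
        simpa using h10.inv_right.eq
      have h11 := (show Commute a b⁻¹ from commutatorElement_eq_one_iff_mul_comm.1 h5).inv_right
      rwa [inv_inv] at h11
    · obtain ⟨e, he, he1⟩ := exists_mem_ne_one (RankOnePair_symm h3)
      refine he1 (eq_one_of_mem_normalizer (RankOnePair_symm h3) he
        (conjBy_eq_self_iff.1 (le_antisymm ?_ fun a ha => ?_)))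
      · rintro _ ⟨a, ha, rfl⟩; exact hEA e he a ha
      · rw [mem_conjBy]; simpa using hEA e⁻¹ (inv_mem he) a ha
    · obtain ⟨f, hf, hf1⟩ := (⁅A, ⁅B, D⁆⁆).bot_or_exists_ne_one.resolve_left (hS.ne_bot _ h3.1)
      have hfA : f ∈ A := by
        refine (Subgroup.commutator_le.2 fun a ha e he => ?_) hf
        rw [commutatorElement_def, mul_assoc a e a⁻¹, mul_assoc a]
        exact mul_mem ha (hEA e he a⁻¹ (inv_mem ha))
      refine hS.ne_bot _ h3.1 ?_
      rw [← h3.2.2.1 f hfA hf1, Subgroup.closure_eq_bot_iff]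
      rintro _ ⟨e, he, rfl⟩
      simp [h3.2.1 f hf e (Subgroup.mem_sup_right he)]
  have hphiC : ∀ x ∈ B ⊔ D, ∀ n ∈ N,
      n ∈ conjBy C x ↔ ∀ y ∈ conjBy B x, n * y = y * n := by
    intro x hx n hn
    constructor
    · rintro ⟨c, hc, rfl⟩ _ ⟨b, hb, rfl⟩
      simp only [MulEquiv.coe_toMonoidHom, MulAut.conj_apply]
      exact ((show Commute c b from hCcomm b hb c hc).conj x).eq
    · intro h
      rw [mem_conjBy]
      have hn' := hconjN x⁻¹ (inv_mem hx) n hn
      rw [inv_inv] at hn'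
      refine hCB _ hn' fun b hb => ?_
      have := (show Commute n (x * b * x⁻¹) from (h _ (conj_mem_conjBy hb))).conj x⁻¹
      simpa [mul_assoc] using this.eq
  have hphiA : ∀ x ∈ B ⊔ D, ∀ n ∈ N,
      n ∈ conjBy A x ↔ ∀ y ∈ conjBy D x, n * y = y * n := by
    intro x hx n hn
    constructor
    · rintro ⟨a, ha, rfl⟩ _ ⟨d, hd, rfl⟩
      simp only [MulEquiv.coe_toMonoidHom, MulAut.conj_apply]
      exact ((show Commute a d from hAcomm d hd a ha).conj x).eq
    · intro h
      rw [mem_conjBy]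
      have hn' := hconjN x⁻¹ (inv_mem hx) n hn
      rw [inv_inv] at hn'
      refine hAD' _ hn' fun d hd => ?_
      have := (show Commute n (x * d * x⁻¹) from (h _ (conj_mem_conjBy hd))).conj x⁻¹
      simpa [mul_assoc] using this.eq
  have hleN : ∀ x ∈ B ⊔ D, conjBy A x ≤ N ∧ conjBy C x ≤ N := fun x hx =>
    ⟨by rintro _ ⟨a, ha, rfl⟩; exact hconjN x hx a (Subgroup.mem_sup_left ha),
      by rintro _ ⟨c, hc, rfl⟩; exact hconjN x hx c (Subgroup.mem_sup_right hc)⟩
  have hCA : ∀ x ∈ B ⊔ D, ∀ y ∈ B ⊔ D, conjBy B x = conjBy D y → conjBy C x = conjBy A y := by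
    intro x hx y hy he
    ext n
    constructor
    · intro hn
      rw [hphiA y hy n ((hleN x hx).2 hn), ← he]
      exact (hphiC x hx n ((hleN x hx).2 hn)).1 hn
    · intro hn
      rw [hphiC x hx n ((hleN y hy).1 hn), he]
      exact (hphiA y hy n ((hleN y hy).1 hn)).1 hn
  have hCC : ∀ x ∈ B ⊔ D, conjBy B x = B → conjBy C x = C := by
    intro x hx he
    ext n
    constructor
    · intro hn
      exact hCB n ((hleN x hx).2 hn) (he ▸ (hphiC x hx n ((hleN x hx).2 hn)).1 hn)
    · intro hn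
      rw [hphiC x hx n (Subgroup.mem_sup_right hn), he]
      exact fun b hb => hCcomm b hb n hn
  have hAA : ∀ x ∈ B ⊔ D, conjBy D x = D → conjBy A x = A := by
    intro x hx he
    ext n
    constructor
    · intro hn
      exact hAD' n ((hleN x hx).1 hn) (he ▸ (hphiA x hx n ((hleN x hx).1 hn)).1 hn)
    · intro hn
      rw [hphiA x hx n (Subgroup.mem_sup_left hn), he]
      exact fun d hd => hAcomm d hd n hn
  obtain ⟨x₀, hx₀, hD₀⟩ := right_mem hR
  have hA₀ : conjBy C x₀ = A := by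
    rw [hCA x₀ hx₀ 1 (one_mem _) (by rw [← hD₀, conjBy_one]), conjBy_one]
  have hC₀ : conjBy A x₀⁻¹ = C := by rw [← hA₀, conjBy_conjBy, inv_mul_cancel, conjBy_one]
  have horb : {E | ∃ x ∈ B ⊔ D, E = conjBy A x} = {E | ∃ x ∈ B ⊔ D, E = conjBy C x} := by
    ext E
    constructor
    · rintro ⟨x, hx, rfl⟩
      exact ⟨x * x₀, mul_mem hx hx₀, by rw [← conjBy_conjBy, hA₀]⟩
    · rintro ⟨x, hx, rfl⟩
      exact ⟨x * x₀⁻¹, mul_mem hx (inv_mem hx₀), by rw [← conjBy_conjBy, hC₀]⟩
  have horbB : {E | ∃ x ∈ B ⊔ D, E = conjBy A x} =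
      (fun b : G => conjBy A b) '' (B : Set G) ∪ {C} := by
    ext E
    constructor
    · intro hE
      rw [horb] at hE
      obtain ⟨x, hx, rfl⟩ := hE
      by_cases he : conjBy B x = B
      · exact Or.inr (hCC x hx he)
      · obtain ⟨b, hb, hb'⟩ := exists_eq_conjBy hR ⟨x, hx, rfl⟩ he
        exact Or.inl ⟨b, hb, (hCA x hx b (Subgroup.mem_sup_left hb) hb').symm⟩
    · rintro (⟨b, hb, rfl⟩ | rfl)
      · exact ⟨b, Subgroup.mem_sup_left hb, rfl⟩
      · exact ⟨x₀⁻¹, inv_mem hx₀, hC₀.symm⟩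
  have horbD : {E | ∃ x ∈ B ⊔ D, E = conjBy A x} =
      (fun d : G => conjBy C d) '' (D : Set G) ∪ {A} := by
    ext E
    constructor
    · rintro ⟨x, hx, rfl⟩
      by_cases he : conjBy D x = D
      · exact Or.inr (hAA x hx he)
      · have hmem : conjBy D x ∈ unipotentSubgroups D B :=
          ⟨x, by rwa [sup_comm], rfl⟩
        obtain ⟨d, hd, hd'⟩ := exists_eq_conjBy (RankOnePair_symm hR) hmem he
        exact Or.inl ⟨d, hd, hCA d (Subgroup.mem_sup_right hd) x hx hd'.symm⟩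
    · rintro (⟨d, hd, rfl⟩ | hE)
      · rw [horb]; exact ⟨d, Subgroup.mem_sup_right hd, rfl⟩
      · exact ⟨1, one_mem _, by rw [conjBy_one]; exact hE⟩
  have hmeet : ∀ x ∈ B ⊔ D, ∀ y ∈ B ⊔ D, conjBy D x ≠ conjBy D y →
      conjBy A x ⊓ conjBy A y = ⊥ := by
    intro x hx y hy hne
    refine (Subgroup.eq_bot_iff_forall _).2 fun n hn => ?_
    have hm : ∀ z ∈ B ⊔ D, conjBy D z ∈ unipotentSubgroups B D := fun z hz =>
      conjBy_mem (right_mem hR) hz
    have hnN := (hleN x hx).1 hn.1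
    have hz := mem_centralizer_sup' ((hphiA x hx n hnN).1 hn.1)
      ((hphiA y hy n hnN).1 hn.2)
    rw [sup_eq_of_mem hR (hm x hx) (hm y hy) hne] at hz
    have hz' : ∀ y ∈ B ⊔ D, n * y = y * n := fun y hy =>
      (Subgroup.mem_centralizer_iff.1 hz y hy).symm
    exact faithA n (hAD' n hnN fun d hd => hz' d (Subgroup.mem_sup_right hd))
      fun b hb => hz' b (Subgroup.mem_sup_left hb)
  refine ⟨hR, horb, horbB, horbD, ⟨?_, ?_, ?_⟩, ?_⟩
  · rintro E ⟨x, hx, rfl⟩
    exact (hleN x hx).1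
  · intro n hn _
    rw [horbB]
    obtain ⟨a, ha, c, hc, rfl⟩ := hdec n hn
    rcases eq_or_ne a 1 with rfl | ha1
    · exact ⟨C, Or.inr rfl, by rwa [one_mul]⟩
    · obtain ⟨b, hb, hm⟩ := exists_conjBy_mem h1 ha ha1 hc
      exact ⟨_, Or.inl ⟨b, hb, rfl⟩, by rwa [hAC a ha c hc]⟩
  · rintro E ⟨x, hx, rfl⟩ F ⟨y, hy, rfl⟩ hne
    refine hmeet x hx y hy fun he => hne ?_
    have h3 := hAA (y⁻¹ * x) (mul_mem (inv_mem hy) hx)
      (by rw [← conjBy_conjBy, he, conjBy_conjBy, inv_mul_cancel, conjBy_one])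
    rw [← mul_inv_cancel_left y x, ← conjBy_conjBy, h3]
  · rintro x ⟨hx, hxc⟩ y hy
    have hxn : ∀ n ∈ N, n * x = x * n := fun n hn => Subgroup.mem_centralizer_iff.1 hxc n hn
    have hfixA : conjBy A x = A :=
      conjBy_eq_of_fix fun a ha => (hxn a (Subgroup.mem_sup_left ha)).symm
    have hD' : conjBy D x = D := by
      by_contra he
      have h3 := hmeet x hx 1 (one_mem _) (by rwa [conjBy_one])
      rw [hfixA, conjBy_one, inf_idem] at h3
      exact hS.ne_bot A hA h3
    have hx0 : x₀⁻¹ * x * x₀ ∈ B ⊔ D := mul_mem (mul_mem (inv_mem hx₀) hx) hx₀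
    have hB' : conjBy B x = B := by
      by_contra he
      obtain ⟨b, hb, hb'⟩ := exists_eq_conjBy hR ⟨x, hx, rfl⟩ he
      have h3 := hCA x hx b (Subgroup.mem_sup_left hb) hb'
      rw [conjBy_eq_of_fix fun c hc => (hxn c (Subgroup.mem_sup_right hc)).symm] at h3
      have h4 := hmeet b (Subgroup.mem_sup_left hb) x₀⁻¹ (inv_mem hx₀) (by
        rw [← hb', show conjBy D x₀⁻¹ = B by
          rw [hD₀, conjBy_conjBy, inv_mul_cancel, conjBy_one]]
        exact he)
      rw [← h3, hC₀, inf_idem] at h4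
      exact hS.ne_bot _ hC h4
    have hxB : ∀ b ∈ B, x * b = b * x := by
      intro b hb
      have hm : x * b * x⁻¹ * b⁻¹ ∈ B :=
        mul_mem (hB' ▸ conj_mem_conjBy hb) (inv_mem hb)
      refine mul_inv_eq_iff_eq_mul.1 (mul_inv_eq_one.1 (faithB _ hm fun a ha => ?_))
      have e1 : Commute a x := hxn a (Subgroup.mem_sup_left ha)
      have hn2 : b * x * b⁻¹ ∈ Subgroup.centralizer (N : Set G) := by
        rw [Subgroup.mem_centralizer_iff]
        intro n hn
        have hn' := hconjN b⁻¹ (inv_mem (Subgroup.mem_sup_left hb)) n hn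
        rw [inv_inv] at hn'
        have := (show Commute (b⁻¹ * n * b) x from hxn _ hn').conj b
        simpa [mul_assoc] using this.eq
      have e2 : Commute a (b * x⁻¹ * b⁻¹) := by
        have := (show Commute a (b * x * b⁻¹) from
          Subgroup.mem_centralizer_iff.1 hn2 a (Subgroup.mem_sup_left ha)).inv_right
        simpa [mul_assoc] using this
      have := e1.mul_right e2
      simpa [mul_assoc] using this.eq
    have hxD : ∀ d ∈ D, x * d = d * x := by
      intro d hd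
      have hm : x * d * x⁻¹ * d⁻¹ ∈ D :=
        mul_mem (hD' ▸ conj_mem_conjBy hd) (inv_mem hd)
      refine mul_inv_eq_iff_eq_mul.1 (mul_inv_eq_one.1 (faithD _ hm fun c hc => Eq.symm ?_))
      have e1 : Commute c x := hxn c (Subgroup.mem_sup_right hc)
      have hn2 : d * x * d⁻¹ ∈ Subgroup.centralizer (N : Set G) := by
        rw [Subgroup.mem_centralizer_iff]
        intro n hn
        have hn' := hconjN d⁻¹ (inv_mem (Subgroup.mem_sup_right hd)) n hn
        rw [inv_inv] at hn'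
        have := (show Commute (d⁻¹ * n * d) x from hxn _ hn').conj d
        simpa [mul_assoc] using this.eq
      have e2 : Commute c (d * x⁻¹ * d⁻¹) := by
        have := (show Commute c (d * x * d⁻¹) from
          Subgroup.mem_centralizer_iff.1 hn2 c (Subgroup.mem_sup_right hc)).inv_right
        simpa [mul_assoc] using this
      have := e1.mul_right e2
      simpa [mul_assoc] using this.eq
    exact (Subgroup.mem_centralizer_iff.1 (mem_centralizer_sup' hxB hxD) y hy).symm

end Cfsg.Agent.S5036
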