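import Cfsg.Statements.S0012


import Mathlib.Tactic.Group

set_option autoImplicit false
open Cfsg

namespace Cfsg.Agent.S0012

/-- In a finite p-group every commutator and every p-th power lies in the Frattini subgroup, so the Frattini quotient is elementary abelian. -/
theorem result {G : Type*} [Group G] [Finite G] (p : ℕ) [Fact p.Prime]
    (hG : IsPGroup p G) : commutator G ≤ frattini G ∧ ∀ x : G, x ^ p ∈ frattini G := by
  have := hG.isNilpotent
  refine ⟨le_iInf₂ fun M hM => ?_, fun x => (Subgroup.mem_iInf.mpr fun M => Subgroup.mem_iInf.mpr fun hM => ?_)⟩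
  all_goals
    have hMn : M.Normal := (Group.isNilpotent_of_finite_tfae (G := G)).out 0 2 rfl rfl |>.mp ‹_› M hM
    haveI := hMn
    have hsimple : IsSimpleGroup (G ⧸ M) := by
      haveI : Nontrivial (G ⧸ M) := by
        rw [← Finite.one_lt_card_iff_nontrivial, ← Subgroup.index_eq_card]
        exact M.one_lt_index_of_ne_top hM.1
      refine ⟨fun H _ => ?_⟩
      rcases hM.le_iff.mp (show M ≤ H.comap (QuotientGroup.mk' M) from fun y hy => by
        simp [(QuotientGroup.eq_one_iff y).mpr hy]) with h | h
      · exact Or.inr (Subgroup.comap_injective (QuotientGroup.mk'_surjective M) (h.trans (Subgroup.comap_top _).symm))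
      · refine Or.inl ?_
        rw [← Subgroup.map_comap_eq_self_of_surjective (QuotientGroup.mk'_surjective M) H, h, QuotientGroup.map_mk'_self]
    haveI := hsimple
    haveI : Group.IsNilpotent (G ⧸ M) := inferInstance
  · rw [commutator_def, Subgroup.commutator_le]
    intro a _ b _
    rw [← QuotientGroup.eq_one_iff, commutatorElement_def, QuotientGroup.mk_mul, QuotientGroup.mk_mul, QuotientGroup.mk_mul,
      QuotientGroup.mk_inv, QuotientGroup.mk_inv, IsSimpleGroup.comm_iff_isSolvable.mpr inferInstance (a : G ⧸ M) b]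
    group
  · obtain ⟨k, hk⟩ := IsPGroup.iff_card.mp (hG.to_quotient M)
    have hpr : (Nat.card (G ⧸ M)).Prime := by
      letI : CommGroup (G ⧸ M) := { (inferInstance : Group (G ⧸ M)) with mul_comm := IsSimpleGroup.comm_iff_isSolvable.mpr inferInstance }
      exact IsSimpleGroup.prime_card
    have hkp : Nat.card (G ⧸ M) = p := by
      rw [hk] at hpr ⊢
      rw [(Nat.Prime.pow_eq_iff hpr).mp rfl |>.2, pow_one]
    rw [← QuotientGroup.eq_one_iff, QuotientGroup.mk_pow, ← hkp, pow_card_eq_one']

end Cfsg.Agent.S0012
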