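import Cfsg.Statements.S0013
import Cfsg.Agent.Lib.Solvable.Frattini
import Cfsg.Agent.Lib.Solvable.PGroupBasics

set_option autoImplicit false
open Cfsg

namespace Cfsg.Agent.S0013

/-- In a finite p-group the Frattini subgroup is the smallest normal subgroup with elementary abelian quotient: it lies below any normal subgroup containing all commutators and all p-th powers. -/
theorem result {G : Type*} [Group G] [Finite G] (p : ℕ) [Fact p.Prime]
    (hG : IsPGroup p G) (N : Subgroup G) [N.Normal] (hcomm : commutator G ≤ N) (hpow : ∀ x : G, x ^ p ∈ N) :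
    frattini G ≤ N := by
  let Q := G ⧸ N
  have hab : ∀ a b : Q, a * b = b * a := fun a b => by
    induction a using QuotientGroup.induction_on with | H x => ?_
    induction b using QuotientGroup.induction_on with | H y => ?_
    rw [← QuotientGroup.mk_mul, ← QuotientGroup.mk_mul, QuotientGroup.eq]
    have := hcomm (Subgroup.commutator_mem_commutator (Subgroup.mem_top y⁻¹) (Subgroup.mem_top x⁻¹))
    simpa [commutatorElement_def, mul_assoc] using this
  letI : CommGroup Q := { (inferInstance : Group Q) with mul_comm := hab }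
  -- a maximal subgroup avoiding a given element
  intro x hx
  by_contra hxN
  haveI : IsMulCommutative Q := ⟨⟨hab⟩⟩
  obtain ⟨H, hH⟩ : ∃ H : Subgroup Q, IsCompl (Subgroup.zpowers (x : Q)) H := by
    haveI : IsPGroup p Q := hG.to_quotient N
    exact CfsgLib.Solvable.exists_isCompl_of_pow_eq_one (p := p) (fun q => by
      induction q using QuotientGroup.induction_on with | H y => ?_
      rw [← QuotientGroup.mk_pow, QuotientGroup.eq_one_iff]
      exact hpow y) _
  have hxH : (x : Q) ∉ H := fun hh => hxN ((QuotientGroup.eq_one_iff x).mp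
    (Subgroup.mem_bot.mp (hH.1.le_bot ⟨Subgroup.mem_zpowers _, hh⟩)))
  have hco : IsCoatom (H.comap (QuotientGroup.mk' N)) := by
    refine Subgroup.isCoatom_comap_of_surjective (QuotientGroup.mk'_surjective N) ⟨?_, ?_⟩
    · intro he; exact hxH (he ▸ Subgroup.mem_top _)
    · intro K hK
      obtain ⟨k, hk, hkH⟩ := Set.exists_of_ssubset (SetLike.coe_ssubset_coe.mpr hK)
      have hk' : k ∈ ((Subgroup.zpowers (x : Q) ⊔ H : Subgroup Q) : Set Q) := by
        rw [hH.2.eq_top]; trivial
      rw [Subgroup.mul_normal] at hk'
      obtain ⟨a, ha, b, hb, rfl⟩ := Set.mem_mul.mp hk'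
      have haK : a ∈ K := (K.mul_mem_cancel_right (hK.le hb)).mp hk
      have ha1 : a ≠ 1 := fun h1 => hkH (by rw [h1, one_mul]; exact hb)
      have hxo : orderOf (x : Q) = p := by
        refine orderOf_eq_prime (by rw [← QuotientGroup.mk_pow]; exact (QuotientGroup.eq_one_iff _).mpr (hpow x)) ?_
        exact fun h1 => hxN ((QuotientGroup.eq_one_iff x).mp h1)
      have hza : Subgroup.zpowers a = Subgroup.zpowers (x : Q) := by
        refine CfsgLib.Solvable.eq_of_le_of_card_le (Subgroup.zpowers_le.mpr ha) ?_
        rw [Nat.card_zpowers, Nat.card_zpowers, hxo]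
        exact Nat.le_of_dvd (orderOf_pos a) ((Nat.prime_dvd_prime_iff_eq Fact.out Fact.out).mpr rfl |>.trans (dvd_of_eq (by
          refine (orderOf_eq_prime (x := a) ?_ ha1).symm
          induction a using QuotientGroup.induction_on with | H y => ?_
          rw [← QuotientGroup.mk_pow, QuotientGroup.eq_one_iff]; exact hpow y)))
      rw [eq_top_iff, ← hH.2.eq_top]
      exact sup_le (hza ▸ Subgroup.zpowers_le.mpr haK) hK.le
  exact hxH (frattini_le_coatom hco hx)

end Cfsg.Agent.S0013
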