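import Cfsg.Statements.S0015
import Cfsg.Agent.Lib.Solvable.Nilpotent

set_option autoImplicit false
open Cfsg

namespace Cfsg.Agent.S0015

/-- In a finite nilpotent group, an abelian normal subgroup that is maximal among abelian normal subgroups equals its own centralizer. -/
theorem result {G : Type*} [Group G] [Finite G] [Group.IsNilpotent G]
    (N : Subgroup G) [N.Normal] [IsMulCommutative N]
    (hmax : ∀ M : Subgroup G, M.Normal → IsMulCommutative M → N ≤ M → M = N) :
    Subgroup.centralizer (N : Set G) = N := by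
  refine le_antisymm ?_ (fun x hx => Subgroup.mem_centralizer_iff.mpr fun y hy =>
    congrArg Subtype.val ((‹IsMulCommutative N›).is_comm.comm ⟨y, hy⟩ ⟨x, hx⟩))
  set C := Subgroup.centralizer (N : Set G) with hC
  by_contra hnle
  set π := QuotientGroup.mk' N
  have hne : C.map π ≠ ⊥ := fun he => hnle (by
    rwa [Subgroup.map_eq_bot_iff, QuotientGroup.ker_mk'] at he)
  have : (C.map π).Normal := Subgroup.Normal.map inferInstance _ (QuotientGroup.mk'_surjective _)
  have hk := CfsgLib.Solvable.normal_inf_center_ne_bot (C.map π) hne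
  obtain ⟨q, hq, hq1⟩ := (C.map π ⊓ Subgroup.center (G ⧸ N)).ne_bot_iff_exists_ne_one.mp hk |>.imp fun _ h => And.intro trivial h
  obtain ⟨⟨c, hc, hcq⟩, hz⟩ := q.2
  -- the preimage of the cyclic group on `q`
  set M := N ⊔ Subgroup.zpowers c with hM
  have hMn : M.Normal := by
    refine ⟨fun x hx g => ?_⟩
    have hxq : π x ∈ Subgroup.zpowers (q : G ⧸ N) := by
      have h2 := Subgroup.mem_map_of_mem π hx
      rwa [hM, Subgroup.map_sup, MonoidHom.map_zpowers, hcq, QuotientGroup.map_mk'_self,
        bot_sup_eq] at h2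
    obtain ⟨k, hk⟩ := hxq
    have hcomm : π (g * x * g⁻¹) = π x := by
      rw [map_mul, map_mul, map_inv, ← hk]
      rw [Subgroup.mem_center_iff.mp (Subgroup.zpow_mem _ hz k) (π g), mul_inv_cancel_right]
    have hN' : x⁻¹ * (g * x * g⁻¹) ∈ N := QuotientGroup.eq.mp hcomm.symm
    have := M.mul_mem hx (Subgroup.mem_sup_left (T := Subgroup.zpowers c) hN')
    rwa [mul_inv_cancel_left] at this
  have hMc : IsMulCommutative M := by
    rw [hM, sup_comm, Subgroup.zpowers_eq_closure, ← Subgroup.closure_eq N, ← Subgroup.closure_union]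
    refine Subgroup.isMulCommutative_closure ?_
    rintro x (rfl | hx) y (rfl | hy)
    · rfl
    · exact (Subgroup.mem_centralizer_iff.mp hc y hy).symm
    · exact Subgroup.mem_centralizer_iff.mp hc x hx
    · exact congrArg Subtype.val ((‹IsMulCommutative N›).is_comm.comm ⟨x, hx⟩ ⟨y, hy⟩)
  have hMN := hmax M hMn hMc le_sup_left
  apply hq1
  have : c ∈ N := hMN.le (Subgroup.mem_sup_right (Subgroup.mem_zpowers c))
  exact Subtype.ext (hcq.symm.trans ((QuotientGroup.eq_one_iff c).mpr this))

end Cfsg.Agent.S0015
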