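import Cfsg.Statements.S0018
import Cfsg.Agent.Lib.Solvable.HallHigman

set_option autoImplicit false
open Cfsg

namespace Cfsg.Agent.S0018

/-- A finite solvable group whose Sylow p-subgroups are abelian has p-length one: a Sylow p-subgroup together with the largest normal subgroup of order prime to p generates a normal subgroup. -/
theorem result {G : Type*} [Group G] [Finite G] [Group.IsSolvable G]
    (p : ℕ) [Fact p.Prime] (P : Sylow p G) (hP : IsMulCommutative P) :
    ((P : Subgroup G) ⊔ Cfsg.pPrimeCore p G).Normal := by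
  set O := Cfsg.pPrimeCore p G with hO
  haveI : O.Normal := CfsgLib.Solvable.pPrimeCore_normal p G
  set π := QuotientGroup.mk' O with hπ
  have hs : Function.Surjective π := QuotientGroup.mk'_surjective O
  let P' : Sylow p (G ⧸ O) := P.mapSurjective hs
  have hle : (P' : Subgroup (G ⧸ O)) ≤ Subgroup.centralizer (Cfsg.pCore p (G ⧸ O) : Set (G ⧸ O)) := by
    intro x hx
    rw [Subgroup.mem_centralizer_iff]
    intro y hy
    have hy' := CfsgLib.Solvable.pCore_le_sylow P' hy
    rw [show (P' : Subgroup (G ⧸ O)) = (P : Subgroup G).map π from rfl] at hx hy'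
    obtain ⟨a, ha, rfl⟩ := hx
    obtain ⟨b, hb, rfl⟩ := hy'
    rw [← map_mul, ← map_mul]
    exact congrArg π (congrArg Subtype.val (hP.is_comm.comm ⟨b, hb⟩ ⟨a, ha⟩))
  have heq : (P : Subgroup G).map π = Cfsg.pCore p (G ⧸ O) :=
    le_antisymm (hle.trans (CfsgLib.Solvable.centralizer_pCore_le p (CfsgLib.Solvable.pPrimeCore_quotient_eq_bot p)))
      (CfsgLib.Solvable.pCore_le_sylow P')
  have h2 : ((P : Subgroup G) ⊔ O) = (Cfsg.pCore p (G ⧸ O)).comap π := by
    rw [← heq, Subgroup.comap_map_eq, QuotientGroup.ker_mk']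
  rw [h2]
  exact (CfsgLib.Solvable.pCore_normal p _).comap π

end Cfsg.Agent.S0018
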