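import Cfsg.Statements.S0028
import Cfsg.Agent.Lib.Coprime.Action
import Cfsg.Agent.Lib.Transfer.Frobenius
import Cfsg.Agent.Lib.Solvable.PCore

set_option autoImplicit false
open Cfsg

namespace Cfsg.Agent.S0028

/-- Thompson's P × Q Lemma: let a p-subgroup P and a subgroup Q of order prime to p centralise each other and normalise a p-subgroup U; if every element of U fixed by P is fixed by Q, then Q centralises U. -/
theorem result {G : Type*} [Group G] [Finite G] (p : ℕ) [Fact p.Prime]
    (P Q U : Subgroup G) (hP : IsPGroup p P) (hQ : (Nat.card Q).Coprime p) (hU : IsPGroup p U)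
    (hPQ : P ≤ Subgroup.centralizer (Q : Set G))
    (hPU : P ≤ Subgroup.normalizer (U : Set G)) (hQU : Q ≤ Subgroup.normalizer (U : Set G))
    (hC : U ⊓ Subgroup.centralizer (P : Set G) ≤ Subgroup.centralizer (Q : Set G)) :
    Q ≤ Subgroup.centralizer (U : Set G) := by
  induction hn : Nat.card U using Nat.strong_induction_on generalizing U with
  | _ n ih =>
    subst hn
    obtain ⟨k, hk⟩ := IsPGroup.iff_card.mp hU
    have hcop : (Nat.card Q).Coprime (Nat.card U) := hk ▸ hQ.pow_right k
    have hs : Group.IsSolvable Q ∨ Group.IsSolvable U := Or.inr (by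
      haveI := hU.isNilpotent
      infer_instance)
    by_cases hbot : U = ⊥
    · subst hbot
      intro q _
      exact Subgroup.mem_centralizer_iff.mpr fun u hu => by
        rw [Subgroup.mem_bot.mp hu, one_mul, mul_one]
    have small : ∀ W : Subgroup G, W ≤ U → P ≤ Subgroup.normalizer (W : Set G) →
        Q ≤ Subgroup.normalizer (W : Set G) → W ≠ U → Q ≤ Subgroup.centralizer (W : Set G) := by
      intro W hWU hPW hQW hne
      refine ih _ ?_ W (hU.to_le hWU) hPW hQW ((inf_le_inf_right _ hWU).trans hC) rfl
      by_contra hlt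
      exact hne (CfsgLib.Solvable.eq_of_le_of_card_le hWU (not_lt.mp hlt))
    have hQP : Q ≤ Subgroup.normalizer (P : Set G) := by
      intro q hq
      rw [Subgroup.mem_normalizer_iff]
      intro x
      constructor
      · intro hx
        have := Subgroup.mem_centralizer_iff.mp (hPQ hx) q hq
        rwa [this, mul_inv_cancel_right]
      · intro hx
        have hcomm := Subgroup.mem_centralizer_iff.mp (hPQ hx) q hq
        have h2 : q * x * q⁻¹ = x := by
          have := congrArg (fun z => q⁻¹ * z) hcomm
          simp [mul_assoc] at this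
          simpa [mul_assoc] using this
        rwa [h2] at hx
    have nV : ∀ X W : Subgroup G, X ≤ Subgroup.normalizer (U : Set G) → X ≤ Subgroup.normalizer (W : Set G) →
        X ≤ Subgroup.normalizer ((⁅U, W⁆ : Subgroup G) : Set G) := fun X W h1 h2 x hx => by
      rw [← CfsgLib.Solvable.conj_smul_eq_self_iff, CfsgLib.Solvable.conj_smul_eq_map, Subgroup.map_commutator,
        ← CfsgLib.Solvable.conj_smul_eq_map, ← CfsgLib.Solvable.conj_smul_eq_map,
        CfsgLib.Solvable.conj_smul_eq_self_iff.mpr (h1 hx), CfsgLib.Solvable.conj_smul_eq_self_iff.mpr (h2 hx)]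
    have hPQn : P ≤ Subgroup.normalizer (Q : Set G) :=
      hPQ.trans (Subgroup.centralizer_le_normalizer (Q : Set G))
    rw [Subgroup.le_centralizer_iff, ← Subgroup.commutator_eq_bot_iff_le_centralizer]
    have hVU : ⁅U, Q⁆ ≤ U := Subgroup.le_normalizer_iff_commutator_le_left.mp hQU
    by_cases hV : ⁅U, Q⁆ = U
    · have hWU : ⁅U, P⁆ ≤ U := Subgroup.le_normalizer_iff_commutator_le_left.mp hPU
      have hWne : ⁅U, P⁆ ≠ U := by
        intro he
        haveI : Group.IsNilpotent (P ⊔ U : Subgroup G) :=
          (IsPGroup.to_sup_of_normal_right' hP hU hPU).isNilpotent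
        exact hbot (CfsgLib.Transfer.eq_bot_of_le_commutator (K := P ⊔ U) (Q := U) le_sup_right
          (he.ge.trans (Subgroup.commutator_mono le_rfl le_sup_left)))
      have h1 : ⁅⁅U, P⁆, Q⁆ = ⊥ := by
        rw [Subgroup.commutator_eq_bot_iff_le_centralizer, Subgroup.le_centralizer_iff]
        exact small _ hWU (nV P P hPU Subgroup.le_normalizer) (nV Q P hQU hQP) hWne
      have h2 : ⁅⁅P, Q⁆, U⁆ = ⊥ := by
        rw [(Subgroup.commutator_eq_bot_iff_le_centralizer).mpr hPQ]
        exact Subgroup.commutator_eq_bot_iff_le_centralizer.mpr bot_le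
      have h3 := Subgroup.commutator_commutator_eq_bot_of_rotate h1 h2
      rw [Subgroup.commutator_comm Q U, hV, Subgroup.commutator_eq_bot_iff_le_centralizer] at h3
      rw [Subgroup.commutator_eq_bot_iff_le_centralizer]
      exact fun u hu => hC ⟨hu, h3 hu⟩
    · have h1 := small _ hVU (nV P Q hPU hPQn) (nV Q Q hQU Subgroup.le_normalizer) hV
      rw [← CfsgLib.Coprime.commutator_commutator_eq hQU hcop hs, Subgroup.commutator_eq_bot_iff_le_centralizer]
      exact Subgroup.le_centralizer_iff.mp h1

end Cfsg.Agent.S0028
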