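import Cfsg.Statements.S0029
import Cfsg.Agent.Lib.Coprime.Complements
import Cfsg.Agent.Lib.Solvable.Frattini

set_option autoImplicit false
open Cfsg

namespace Cfsg.Agent.S0029

/-- An action that is trivial on the Frattini quotient and coprime on the Frattini subgroup is trivial: if A normalises K, the orders of A and of the Frattini subgroup of K are coprime, and every commutator of an element of A with an element of K lies in the Frattini subgroup of K, then A centralises K. -/
theorem result {G : Type*} [Group G] [Finite G] (A K : Subgroup G)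
    (hAK : A ≤ Subgroup.normalizer (K : Set G))
    (hcop : (Nat.card A).Coprime (Nat.card (frattini K)))
    (htriv : ∀ a ∈ A, ∀ k ∈ K, a * k * a⁻¹ * k⁻¹ ∈ (frattini K).map K.subtype) :
    A ≤ Subgroup.centralizer (K : Set G) := by
  set N := (frattini K).map K.subtype with hN
  have hNK : N ≤ K := Subgroup.map_subtype_le _
  have hcN : Nat.card N = Nat.card (frattini K) := Subgroup.card_map_of_injective K.subtype_injective
  have hconj : ∀ a ∈ A, ∀ f ∈ N, a * f * a⁻¹ ∈ N := fun a ha f hf => by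
    simpa using N.mul_mem (htriv a ha f (hNK hf)) hf
  have hAN : A ≤ Subgroup.normalizer (N : Set G) := by
    intro a ha
    rw [Subgroup.mem_normalizer_iff]
    refine fun x => ⟨hconj a ha x, fun hx => ?_⟩
    simpa [mul_assoc] using hconj a⁻¹ (A.inv_mem ha) _ hx
  have hsol : Group.IsSolvable N := by
    haveI := frattini_nilpotent (G := K)
    exact Group.isSolvable_of_surjective (f := K.subtype.subgroupMap (frattini K))
      (K.subtype.subgroupMap_surjective _)
  have key : ∀ k ∈ K, ∃ n ∈ N, k * n ∈ Subgroup.centralizer (A : Set G) := by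
    intro k hk
    set B := A.map (MulAut.conj k⁻¹).toMonoidHom with hB
    have hmem : ∀ a ∈ A, k⁻¹ * a * k * a⁻¹ ∈ N := fun a ha => by
      have := (Subgroup.mem_normalizer_iff.mp (show k⁻¹ ∈ Subgroup.normalizer (N : Set G) from ?_) _).mp (htriv a ha k hk)
      · simpa [mul_assoc] using this
      · rw [Subgroup.mem_normalizer_iff]
        intro x
        constructor
        · rintro ⟨f, hf, rfl⟩
          exact ⟨(⟨k⁻¹, K.inv_mem hk⟩ : K) * f * (⟨k⁻¹, K.inv_mem hk⟩ : K)⁻¹,
            (inferInstance : (frattini K).Normal).conj_mem f hf _, by simp⟩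
        · rintro ⟨f, hf, hfe⟩
          refine ⟨(⟨k, hk⟩ : K) * f * (⟨k, hk⟩ : K)⁻¹,
            (inferInstance : (frattini K).Normal).conj_mem f hf _, ?_⟩
          simp only [Subgroup.coe_subtype] at hfe
          simp [hfe, mul_assoc]
    have hBN : B ≤ Subgroup.normalizer (N : Set G) := by
      rintro _ ⟨a, ha, rfl⟩
      have : (MulAut.conj k⁻¹).toMonoidHom a = k⁻¹ * a * k * a⁻¹ * a := by simp [mul_assoc]
      rw [this]
      exact mul_mem (Subgroup.le_normalizer (hmem a ha)) (hAN ha)
    have hsup : N ⊔ A = N ⊔ B := by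
      refine le_antisymm (sup_le le_sup_left fun a ha => ?_) (sup_le le_sup_left ?_)
      · have hb : k⁻¹ * a * k ∈ B := ⟨a, ha, by simp [mul_assoc]⟩
        have h2 := mul_mem (inv_mem (Subgroup.mem_sup_left (T := B) (hmem a ha))) (Subgroup.mem_sup_right (S := N) hb)
        simpa [mul_assoc] using h2
      · rintro _ ⟨a, ha, rfl⟩
        have : (MulAut.conj k⁻¹).toMonoidHom a = k⁻¹ * a * k * a⁻¹ * a := by simp [mul_assoc]
        rw [this]
        exact mul_mem (Subgroup.mem_sup_left (hmem a ha)) (Subgroup.mem_sup_right ha)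
    have hc : (Nat.card A).Coprime (Nat.card N) := hcN ▸ hcop
    obtain ⟨n, hn, hnB⟩ := CfsgLib.Coprime.exists_conj_eq_of_coprime hAN hBN hsup hc
      ((CfsgLib.Coprime.card_map_conj k⁻¹ A).symm ▸ hc) (Or.inr hsol)
    refine ⟨n, hn, Subgroup.mem_centralizer_iff.mpr fun a ha => ?_⟩
    have h3 : A.map (MulAut.conj (k * n)).toMonoidHom = A := by
      rw [← CfsgLib.Coprime.map_conj_conj, ← hnB, hB, CfsgLib.Coprime.map_conj_conj, mul_inv_cancel]
      simp [MulEquiv.toMonoidHom, Subgroup.ext_iff, Subgroup.mem_map]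
    have hA2 : k * n * a * (k * n)⁻¹ ∈ A := h3.le ⟨a, ha, by simp [mul_assoc]⟩
    have h5 : a * (k * n) * a⁻¹ * (k * n)⁻¹ ∈ A ⊓ N :=
      ⟨by have := A.mul_mem ha (A.inv_mem hA2); simpa [mul_assoc] using this,
        htriv a ha _ (K.mul_mem hk (hNK hn))⟩
    rw [CfsgLib.Coprime.inf_eq_bot_of_coprime hc, Subgroup.mem_bot, mul_inv_eq_one, mul_inv_eq_iff_eq_mul] at h5
    exact h5
  rw [Subgroup.le_centralizer_iff]
  refine Subgroup.subgroupOf_eq_top.mp (CfsgLib.Solvable.eq_top_of_sup_eq_top_of_le_frattini le_rfl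
    (eq_top_iff.mpr fun x _ => ?_))
  obtain ⟨n, hn, hxn⟩ := key x x.2
  obtain ⟨f, hf, rfl⟩ := hn
  have he : x = (⟨(x : G) * f, K.mul_mem x.2 f.2⟩ : K) * f⁻¹ := Subtype.ext (by simp)
  rw [he]
  exact Subgroup.mul_mem _ (Subgroup.mem_sup_left hxn) (Subgroup.mem_sup_right (Subgroup.inv_mem _ hf))

end Cfsg.Agent.S0029
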