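import Cfsg.Statements.S0031
import Cfsg.Agent.Lib.Solvable.PCore

set_option autoImplicit false
open Cfsg

namespace Cfsg.Agent.S0031

/-- A fixed-point-free automorphism of a finite group maps some Sylow p-subgroup to itself. -/
theorem result {G : Type*} [Group G] [Finite G] (φ : G ≃* G)
    (hφ : MonoidHom.FixedPointFree (φ : G →* G)) (p : ℕ) [Fact p.Prime] :
    ∃ P : Sylow p G, (P : Subgroup G).map (φ : G →* G) = P := by
  obtain ⟨P⟩ := (inferInstance : Nonempty (Sylow p G))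
  obtain ⟨Q, hQ⟩ : ∃ Q : Sylow p G, (Q : Subgroup G) = (P : Subgroup G).map (φ : G →* G) :=
    ⟨P.mapSurjective (f := (φ : G →* G)) φ.surjective, rfl⟩
  obtain ⟨g, hg⟩ := MulAction.exists_smul_eq G P Q
  obtain ⟨m, hm⟩ := hφ.commutatorMap_surjective g⁻¹
  refine ⟨m⁻¹ • P, ?_⟩
  have h1 : φ m⁻¹ * g = m⁻¹ := by
    have : m / φ m = g⁻¹ := hm
    replace this : g = (m / φ m)⁻¹ := by rw [this, inv_inv]
    rw [this, div_eq_mul_inv, mul_inv_rev, inv_inv, map_inv, ← mul_assoc, inv_mul_cancel, one_mul]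
  rw [Sylow.coe_subgroup_smul, CfsgLib.Solvable.map_conj_smul, ← hQ, ← hg, Sylow.coe_subgroup_smul,
    CfsgLib.Solvable.conj_smul_conj_smul]
  simp only [MonoidHom.coe_coe]
  rw [h1]

end Cfsg.Agent.S0031
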