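import Cfsg.Statements.S0041
import Cfsg.Agent.Lib.Solvable.FixedPointFree

set_option autoImplicit false
open Cfsg

namespace Cfsg.Agent.S0041

/-- A group acting on a nontrivial abelian group so that no nonidentity element has a nonidentity fixed point is cyclic, provided it is abelian or its order is a product of two (possibly equal) primes. -/
theorem result {G : Type*} [Group G] [Finite G] (A V : Subgroup G) [IsMulCommutative V]
    (hV : V ≠ ⊥) (hAV : A ≤ Subgroup.normalizer (V : Set G)) (hfpf : ∀ a ∈ A, a ≠ 1 → V ⊓ Subgroup.centralizer {a} = ⊥)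
    (hA : IsMulCommutative A ∨ ∃ p q : ℕ, p.Prime ∧ q.Prime ∧ Nat.card A = p * q) : IsCyclic A := by
  let _ : CommGroup V := { (inferInstance : Group V) with mul_comm := (inferInstance : IsMulCommutative V).is_comm.comm }
  have : Nontrivial V := V.nontrivial_iff_ne_bot.mpr hV
  set φ : A →* MulAut V := V.normalizerMonoidHom.comp (Subgroup.inclusion hAV) with hφ
  have hf : ∀ a : A, a ≠ 1 → ∀ v : V, φ a v = v → v = 1 := fun a ha v hv => by
    have h1 : (a : G) * v * (a : G)⁻¹ = v := congrArg Subtype.val hv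
    have h2 : (v : G) ∈ V ⊓ Subgroup.centralizer {(a : G)} :=
      ⟨v.2, Subgroup.mem_centralizer_singleton_iff.mpr (mul_inv_eq_iff_eq_mul.mp h1).symm⟩
    rw [hfpf a a.2 (fun h => ha (Subtype.ext h)), Subgroup.mem_bot] at h2
    exact Subtype.ext h2
  rcases hA with hA | ⟨p, q, hp, hq, hc⟩
  · have : IsMulCommutative (⊤ : Subgroup A) := ⟨⟨fun a b => Subtype.ext (hA.is_comm.comm _ _)⟩⟩
    have := CfsgLib.Solvable.isCyclic_of_fpf φ hf (⊤ : Subgroup A)
    exact isCyclic_of_surjective (Subgroup.topEquiv (G := A)).toMonoidHom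
      (Subgroup.topEquiv (G := A)).surjective
  · exact CfsgLib.Solvable.isCyclic_of_card_prime_mul_prime φ hf hp hq hc

end Cfsg.Agent.S0041
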