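import Cfsg.Statements.S0042
import Cfsg.Agent.Lib.Solvable.FrobeniusKernel
import Cfsg.Agent.Lib.Complement.FpfNilpotent

set_option autoImplicit false
open Cfsg

namespace Cfsg.Agent.S0042

/-- In a finite Frobenius group, the Frobenius kernel is (the carrier of) a normal subgroup which is nilpotent. -/
theorem result {G : Type*} [Group G] [Finite G] (H : Subgroup G) (hH : Cfsg.IsFrobeniusComplement H) :
    ∃ N : Subgroup G, (N : Set G) = Cfsg.frobeniusKernel H ∧ N.Normal ∧ Group.IsNilpotent N := by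
  obtain ⟨N, hN, hNn, hc⟩ := CfsgLib.Solvable.exists_frobeniusKernel hH
  refine ⟨N, hN, hNn, ?_⟩
  have h1 : Nat.card H ≠ 1 := fun e => hH.1 (Subgroup.card_eq_one.1 e)
  obtain ⟨r, hr, hrH⟩ := Nat.exists_prime_and_dvd h1
  have := Fact.mk hr
  obtain ⟨h, hh⟩ := exists_prime_orderOf_dvd_card' r hrH
  refine CfsgLib.Complement.isNilpotent_of_fpf N (MulAut.conjNormal (h : G)) r hr ?_ fun x hx => ?_
  · rw [← map_pow, ← Subgroup.coe_pow, ← hh, pow_orderOf_eq_one, Subgroup.coe_one, map_one]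
  · have hx' : (h : G) * (x : G) * (h : G)⁻¹ = x := by
      rw [← MulAut.conjNormal_apply, hx]
    have hcomm : (h : G) * x = x * h := mul_inv_eq_iff_eq_mul.1 hx'
    have hxh : (x : G) * h * (x : G)⁻¹ = h := by rw [← hcomm, mul_inv_cancel_right]
    have hne : (h : G) ≠ 1 := fun e => hr.ne_one (by
      rw [← hh, ← Subgroup.orderOf_coe, e, orderOf_one])
    have hxH : (x : G) ∈ H :=
      CfsgLib.Solvable.frobenius_mem_of_conj_mem hH h.2 hne (by rw [hxh]; exact h.2)
    have h2 : (x : G) ∈ (⊥ : Subgroup G) := hc.disjoint.eq_bot ▸ Subgroup.mem_inf.2 ⟨x.2, hxH⟩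
    exact Subtype.ext (Subgroup.mem_bot.1 h2)

end Cfsg.Agent.S0042
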