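import Cfsg.Statements.S0048
import Cfsg.Agent.Lib.Solvable.MinNormal
import Cfsg.Agent.Lib.Solvable.Products

set_option autoImplicit false
open Cfsg
open scoped Pointwise commutatorElement

namespace Cfsg.Agent.S0048

/-- In a finite solvable group every maximal subgroup has index a prime power. -/
theorem result {G : Type*} [Group G] [Finite G] [Group.IsSolvable G]
    (M : Subgroup G) (hM : IsCoatom M) : IsPrimePow M.index := by
  induction hn : Nat.card G using Nat.strong_induction_on generalizing G with
  | _ n ih =>
    subst hn
    haveI : Nontrivial G := by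
      by_contra h
      haveI := not_nontrivial_iff_subsingleton.mp h
      exact hM.1 (Subsingleton.elim _ _)
    obtain ⟨N, hNn, hNne, hmin⟩ := CfsgLib.Solvable.exists_minimal_normal (G := G)
    haveI := hNn
    by_cases hle : N ≤ M
    · set π := QuotientGroup.mk' N
      have hs : Function.Surjective π := QuotientGroup.mk'_surjective N
      have hcm : (M.map π).comap π = M := by rw [Subgroup.comap_map_eq, QuotientGroup.ker_mk', sup_eq_left.mpr hle]
      have hco : IsCoatom (M.map π) := by
        refine ⟨fun h => hM.1 ?_, fun K hK => ?_⟩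
        · rw [← hcm, h, Subgroup.comap_top]
        · refine Subgroup.comap_injective hs ?_
          rw [Subgroup.comap_top]
          refine hM.2 _ (hcm.symm.le.trans (Subgroup.comap_mono hK.le) |>.lt_of_ne fun he => hK.ne ?_)
          rw [he, Subgroup.map_comap_eq_self_of_surjective hs]
      have := ih _ (CfsgLib.Solvable.card_quotient_lt hNne) (M.map π) hco rfl
      rwa [M.index_map_eq hs (by rwa [QuotientGroup.ker_mk'])] at this
    · obtain ⟨p, hp, hNp, -, -⟩ := CfsgLib.Solvable.exists_isPGroup_of_minimal_normal hNne hmin
      haveI : Fact p.Prime := ⟨hp⟩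
      have htop : N ⊔ M = ⊤ := hM.2 _ (lt_of_le_of_ne le_sup_right fun he => hle (he ▸ le_sup_left))
      have h1 := Subgroup.relIndex_mul_index (inf_le_right : N ⊓ M ≤ M)
      obtain ⟨j, hj⟩ := hNp.index (M.subgroupOf N)
      have h2 : (M.relIndex N) = M.index := by
        have hc := CfsgLib.Solvable.card_mul_set N M
        rw [← Subgroup.normal_mul, htop, Subgroup.coe_top, Nat.card_coe_set_eq, Set.ncard_univ, ← M.card_mul_index] at hc
        exact (Nat.eq_of_mul_eq_mul_left Nat.card_pos hc).symm
      rw [← h2, Subgroup.relIndex, hj]
      refine hp.prime.isPrimePow.pow ?_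
      rintro rfl
      rw [pow_zero, Subgroup.index_eq_one, Subgroup.subgroupOf_eq_top] at hj
      exact hle hj

end Cfsg.Agent.S0048
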