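import Cfsg.Statements.S0049
import Cfsg.Agent.Lib.Solvable.Frattini
import Mathlib.GroupTheory.SchurZassenhaus

set_option autoImplicit false
open Cfsg

namespace Cfsg.Agent.S0049

/-- A prime divisor of the order of a finite group also divides the index of the Frattini subgroup. -/
theorem result {G : Type*} [Group G] [Finite G] (p : ℕ) (hp : p.Prime) (hdvd : p ∣ Nat.card G) :
    p ∣ (frattini G).index := by
  haveI : Fact p.Prime := ⟨hp⟩
  by_contra hnd
  obtain ⟨P⟩ := (inferInstance : Nonempty (Sylow p G))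
  set Φ := frattini G
  haveI : Group.IsNilpotent Φ := frattini_nilpotent
  have hidx : ¬ p ∣ ((Cfsg.pCore p Φ).map Φ.subtype).index := by
    rw [Subgroup.index_map_subtype]
    exact fun hd => (hp.dvd_mul.mp hd).elim (CfsgLib.Solvable.isNilpotent_iff_pCore_index.mp ‹_› p hp) hnd
  haveI := CfsgLib.Solvable.pCore_characteristic p Φ
  set A := (Cfsg.pCore p Φ).map Φ.subtype
  have hA : IsPGroup p A := (CfsgLib.Solvable.pCore_isPGroup p).map _
  obtain ⟨k, hk⟩ := IsPGroup.iff_card.mp hA
  obtain ⟨H, hH⟩ := Subgroup.exists_right_complement'_of_coprime (N := A)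
    (by rw [hk]; exact Nat.Coprime.pow_left _ (hp.coprime_iff_not_dvd.mpr hidx))
  have htop : H = ⊤ := CfsgLib.Solvable.eq_top_of_sup_eq_top_of_le_frattini
    (N := A) (Subgroup.map_subtype_le _) (by rw [sup_comm]; exact hH.sup_eq_top)
  subst htop
  rw [Subgroup.isComplement'_top_right] at hH
  rw [hH, Subgroup.index_bot] at hidx
  exact hidx hdvd

end Cfsg.Agent.S0049
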