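import Cfsg.Statements.S0050
import Cfsg.Agent.Lib.Solvable.Hall

set_option autoImplicit false
open Cfsg
open scoped Pointwise

namespace Cfsg.Agent.S0050

/-- Frattini argument for Hall subgroups: if L is a solvable normal subgroup and H a subgroup of L of order coprime to its index in L, then L together with the normaliser of H generates the whole group. -/
theorem result {G : Type*} [Group G] [Finite G] (L : Subgroup G) [L.Normal] (hL : Group.IsSolvable L)
    (H : Subgroup G) (hHL : H ≤ L) (hHall : (Nat.card H).Coprime (H.relIndex L)) :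
    L ⊔ Subgroup.normalizer (H : Set G) = ⊤ := by
  haveI := hL
  rw [eq_top_iff]
  intro g _
  have hgL : MulAut.conj g • H ≤ L := (CfsgLib.Solvable.conj_smul_mono g hHL).trans
    (Subgroup.Normal.conj_smul_eq_self g L).le
  have e1 : Nat.card (H.subgroupOf L) = Nat.card H := Nat.card_congr (Subgroup.subgroupOfEquivOfLe hHL).toEquiv
  have e2 : Nat.card ((MulAut.conj g • H).subgroupOf L) = Nat.card H :=
    (Nat.card_congr (Subgroup.subgroupOfEquivOfLe hgL).toEquiv).trans (CfsgLib.Solvable.card_conj_smul g H)
  have hL' : Nat.card L = Nat.card H * H.relIndex L := by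
    have := (H.subgroupOf L).card_mul_index
    rw [e1] at this; exact this.symm
  obtain ⟨l, hl, he⟩ := CfsgLib.Solvable.exists_conj_of_subgroupOf hHL hgL
    (CfsgLib.Solvable.hall_conj hL' hHall e1 e2)
  have hn : l⁻¹ * g ∈ Subgroup.normalizer (H : Set G) := by
    rw [← CfsgLib.Solvable.conj_smul_eq_self_iff, ← CfsgLib.Solvable.conj_smul_conj_smul, ← he,
      CfsgLib.Solvable.conj_smul_conj_smul, inv_mul_cancel, CfsgLib.Solvable.conj_one_smul]
  have := Subgroup.mul_mem_sup hl hn
  rwa [mul_inv_cancel_left] at this

end Cfsg.Agent.S0050
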