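import Cfsg.Statements.S0054
import Cfsg.Agent.Lib.Perm.RegularNormal

set_option autoImplicit false
open Cfsg
open scoped Pointwise

namespace Cfsg.Agent.S0054

/-- A regular normal subgroup of a finite 2-transitive group is elementary abelian: it is commutative and all its elements have order dividing one prime. -/
theorem result {G : Type*} [Group G] [Finite G]
    {X : Type*} [Nonempty X] [MulAction G X] (h2 : MulAction.IsMultiplyPretransitive G X 2)
    (N : Subgroup G) [N.Normal] (htrans : MulAction.IsPretransitive N X) (hreg : ∀ x : X, MulAction.stabilizer N x = ⊥) :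
    IsMulCommutative N ∧ ∃ p : ℕ, p.Prime ∧ ∀ n ∈ N, n ^ p = 1 := by
  by_cases hX : Subsingleton X
  · obtain ⟨x⟩ := (inferInstance : Nonempty X)
    have hN : ∀ n : N, n = 1 := fun n => by
      have : n ∈ MulAction.stabilizer N x := MulAction.mem_stabilizer_iff.mpr (Subsingleton.elim _ _)
      rwa [hreg, Subgroup.mem_bot] at this
    refine ⟨⟨⟨fun a b => by rw [hN a, hN b]⟩⟩, 2, Nat.prime_two, fun n hn => ?_⟩
    have := congrArg Subtype.val (hN ⟨n, hn⟩)
    simp only [Subgroup.coe_one] at this
    rw [this, one_pow]
  obtain ⟨x⟩ := (inferInstance : Nonempty X)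
  have := htrans
  have hfin : Finite X := Finite.of_surjective (fun n : N => n • x) (MulAction.exists_smul_eq N x)
  rw [not_subsingleton_iff_nontrivial] at hX
  obtain ⟨h, p, m, hp, hpow, -⟩ := CfsgLib.Perm.regular_normal_two_transitive
    (Finite.one_lt_card (α := X)) h2 htrans hreg
  exact ⟨h, p, hp, hpow⟩

end Cfsg.Agent.S0054
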