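import Cfsg.Statements.S0055
import Cfsg.Agent.Lib.Coprime.Action

set_option autoImplicit false
open Cfsg

namespace Cfsg.Agent.S0055

/-- If A normalises an abelian subgroup V of coprime order, then V is the internal direct product of its A-fixed points and its commutator with A: the two meet trivially and generate V. -/
theorem result {G : Type*} [Group G] [Finite G] (A V : Subgroup G) [IsMulCommutative V]
    (hAV : A ≤ Subgroup.normalizer (V : Set G)) (hcop : (Nat.card A).Coprime (Nat.card V)) :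
    (V ⊓ Subgroup.centralizer (A : Set G)) ⊓ ⁅V, A⁆ = ⊥ ∧ (V ⊓ Subgroup.centralizer (A : Set G)) ⊔ ⁅V, A⁆ = V := by
  have hs : Group.IsSolvable A ∨ Group.IsSolvable V := Or.inr (open scoped IsMulCommutative in inferInstance)
  refine ⟨?_, by rw [sup_comm]; exact CfsgLib.Coprime.commutator_sup_centralizer hAV hcop hs⟩
  set C := V ⊓ Subgroup.centralizer (A : Set G) with hC
  have hcomm : ∀ v ∈ V, ∀ w ∈ V, v * w = w * v := fun v hv w hw =>
    congrArg Subtype.val (‹IsMulCommutative V›.is_comm.comm ⟨v, hv⟩ ⟨w, hw⟩)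
  -- averaging map
  classical
  haveI : Fintype A := Fintype.ofFinite A
  letI : CommGroup V := { (inferInstance : Group V) with mul_comm := fun a b => Subtype.ext (hcomm a a.2 b b.2) }
  let c : A → V →* V := fun a =>
    { toFun := fun v => ⟨(a : G) * v * (a : G)⁻¹, (Subgroup.mem_normalizer_iff.mp (hAV a.2) v).mp v.2⟩
      map_one' := Subtype.ext (by simp)
      map_mul' := fun v w => Subtype.ext (by simp [mul_assoc]) }
  let T : V →* V := ∏ a : A, c a
  have hT1 : ∀ v : V, ∀ b : A, T (c b v) = T v := by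
    intro v b
    simp only [T, MonoidHom.finsetProd_apply]
    refine Fintype.prod_equiv (Equiv.mulRight b) _ _ fun a => Subtype.ext ?_
    simp [c, mul_assoc]
  have hker : ⁅V, A⁆ ≤ T.ker.map V.subtype := by
    rw [Subgroup.commutator_le]
    intro v hv a ha
    have hmem : a * v⁻¹ * a⁻¹ ∈ V := (Subgroup.mem_normalizer_iff.mp (hAV ha) _).mp (V.inv_mem hv)
    refine ⟨⟨v, hv⟩ * c ⟨a, ha⟩ ⟨v, hv⟩⁻¹, ?_, ?_⟩
    · rw [SetLike.mem_coe, MonoidHom.mem_ker, map_mul, hT1, map_inv, mul_inv_cancel]
    · simp [c, commutatorElement_def, mul_assoc]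
  rw [eq_bot_iff]
  rintro _ ⟨⟨hvV, hvC⟩, hv⟩
  obtain ⟨v, hTv, rfl⟩ := hker hv
  have h1 : T v = v ^ Nat.card A := by
    simp only [T, MonoidHom.finsetProd_apply]
    rw [Nat.card_eq_fintype_card, ← Finset.card_univ, ← Finset.prod_const]
    refine Finset.prod_congr rfl fun a _ => Subtype.ext ?_
    have := Subgroup.mem_centralizer_iff.mp hvC a a.2
    simp only [Subgroup.coe_subtype] at this
    simp [c, this]
  rw [SetLike.mem_coe, MonoidHom.mem_ker, h1] at hTv
  have : v = 1 := orderOf_eq_one_iff.mp (Nat.eq_one_of_dvd_coprimes hcop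
    (orderOf_dvd_of_pow_eq_one hTv) (orderOf_dvd_natCard v))
  simp [this]

end Cfsg.Agent.S0055
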