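import Cfsg.Statements.S0056
import Cfsg.Agent.Lib.Coprime.Generation
import Cfsg.Agent.Lib.Coprime.Action

set_option autoImplicit false
open Cfsg

namespace Cfsg.Agent.S0056

/-- A coprime action on an abelian group that fixes all elements of prime order is trivial. -/
theorem result {G : Type*} [Group G] [Finite G] (A V : Subgroup G) [IsMulCommutative V]
    (hAV : A ≤ Subgroup.normalizer (V : Set G)) (hcop : (Nat.card A).Coprime (Nat.card V))
    (hΩ : ∀ v ∈ V, (orderOf v).Prime → ∀ a ∈ A, a * v = v * a) : A ≤ Subgroup.centralizer (V : Set G) := by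
  rw [Subgroup.le_centralizer_iff, ← Subgroup.commutator_eq_bot_iff_le_centralizer]
  by_contra hne
  haveI := (Subgroup.nontrivial_iff_ne_bot _).mpr hne
  obtain ⟨x, hx⟩ := exists_ne (1 : (⁅V, A⁆ : Subgroup G))
  have hx1 : orderOf (x : G) ≠ 1 := fun h => hx (Subtype.ext (orderOf_eq_one_iff.mp h))
  set q := (orderOf (x : G)).minFac with hq
  have hqp : q.Prime := Nat.minFac_prime hx1
  set y := (x : G) ^ (orderOf (x : G) / q) with hy
  have hyo : orderOf y = q := orderOf_pow_orderOf_div (orderOf_pos _).ne' (Nat.minFac_dvd _)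
  have hyV : y ∈ (⁅V, A⁆ : Subgroup G) := Subgroup.pow_mem _ x.2 _
  have hyVV : y ∈ V := Subgroup.le_normalizer_iff_commutator_le_left.mp hAV hyV
  have hbot := CfsgLib.Coprime.commutator_inf_centralizer_eq_bot (X := G) ‹IsMulCommutative V› hAV hcop
  have : y = 1 := Subgroup.mem_bot.mp (hbot.le ⟨hyV, Subgroup.mem_centralizer_iff.mpr (hΩ y hyVV (hyo ▸ hqp))⟩)
  rw [this, orderOf_one] at hyo
  exact hqp.ne_one hyo.symm

end Cfsg.Agent.S0056
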