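import Cfsg.Statements.S0057
import Cfsg.Agent.Lib.Coprime.Sylow
import Cfsg.Agent.Lib.Coprime.Generation
import Cfsg.Agent.Lib.Solvable.Products
import Cfsg.Agent.Lib.Solvable.PCore

import Mathlib.Tactic.Group

set_option autoImplicit false
open Cfsg
open scoped Pointwise commutatorElement

namespace Cfsg.Agent.S0057

/-- Under coprime action, if the centraliser of A in K has prime index p in K then the commutator subgroup [K, A] has order exactly p. -/
theorem result {G : Type*} [Group G] [Finite G] (A K : Subgroup G) (hAK : A ≤ Subgroup.normalizer (K : Set G))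
    (hcop : (Nat.card A).Coprime (Nat.card K)) (hsolv : Group.IsSolvable A ∨ Group.IsSolvable K)
    (p : ℕ) (hp : p.Prime) (hidx : (K ⊓ Subgroup.centralizer (A : Set G)).relIndex K = p) :
    Nat.card (⁅K, A⁆ : Subgroup G) = p := by
  haveI : Fact p.Prime := ⟨hp⟩
  set C := K ⊓ Subgroup.centralizer (A : Set G) with hC
  have hCK : C ≤ K := inf_le_left
  have hmulC : Nat.card C * p = Nat.card K := by
    rw [← hidx, ← Subgroup.relIndex_bot_left C, Subgroup.relIndex_mul_relIndex ⊥ C K bot_le hCK,
      Subgroup.relIndex_bot_left]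
  obtain ⟨P, hP⟩ := CfsgLib.Coprime.exists_invariant_sylow hAK hcop hsolv p
  set Pm := (P : Subgroup K).map K.subtype with hPm
  have hPK : Pm ≤ K := Subgroup.map_subtype_le _
  have hPp : IsPGroup p Pm := P.2.map _
  have hPC : ¬ Pm ≤ C := by
    intro hle
    refine P.not_dvd_index ?_
    have h1 : C.relIndex K ∣ Pm.relIndex K := Subgroup.relIndex_dvd_of_le_left K hle
    rw [hidx] at h1
    rwa [Subgroup.relIndex, Subgroup.subgroupOf, hPm,
      Subgroup.comap_map_eq_self_of_injective K.subtype_injective] at h1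
  have hPCK : ∀ k ∈ K, ∃ y ∈ Pm, ∃ c ∈ C, k = y * c := by
    have hge : p ≤ C.relIndex Pm := by
      obtain ⟨j, hj⟩ := hPp.index (C.subgroupOf Pm)
      rw [Subgroup.relIndex, hj]
      rcases Nat.eq_zero_or_pos j with h | h
      · exfalso; apply hPC
        rw [h, pow_zero, Subgroup.index_eq_one, Subgroup.subgroupOf_eq_top] at hj
        exact hj
      · exact Nat.le_self_pow h.ne' p
    have hset : (Pm : Set G) * (C : Set G) = (K : Set G) := by
      refine Set.eq_of_subset_of_ncard_le (Subgroup.mul_subset hPK hCK) ?_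
      rw [← Nat.card_coe_set_eq, ← Nat.card_coe_set_eq, CfsgLib.Solvable.card_mul_set]
      show Nat.card K ≤ _
      rw [← hmulC]
      exact Nat.mul_le_mul_left _ hge
    intro k hk
    have hk' : k ∈ (Pm : Set G) * (C : Set G) := by rw [hset]; exact hk
    obtain ⟨y, hy, c, hc, rfl⟩ := Set.mem_mul.mp hk'
    exact ⟨y, hy, c, hc, rfl⟩
  set L := ⁅K, A⁆ with hL
  have hLP : L ≤ Pm := by
    rw [hL, Subgroup.commutator_le]
    intro k hk a ha
    obtain ⟨y, hy, c, hc, rfl⟩ := hPCK k hk
    have hca := Subgroup.mem_centralizer_iff.mp hc.2 a ha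
    have he : ⁅y * c, a⁆ = y * (a * y⁻¹ * a⁻¹) := by
      rw [commutatorElement_def, mul_inv_rev]
      calc y * c * a * (c⁻¹ * y⁻¹) * a⁻¹ = y * (c * a) * c⁻¹ * y⁻¹ * a⁻¹ := by group
        _ = y * (a * c) * c⁻¹ * y⁻¹ * a⁻¹ := by rw [hca]
        _ = _ := by group
    rw [he]
    exact mul_mem hy ((Subgroup.mem_normalizer_iff.mp (hP ha) _).mp (inv_mem hy))
  have hLp : IsPGroup p L := hPp.to_le hLP
  haveI := hLp.isNilpotent
  have hLK : L ≤ K := Subgroup.le_normalizer_iff_commutator_le_left.mp hAK
  have hLA : A ≤ Subgroup.normalizer (L : Set G) := Subgroup.normalizer_commutator_ge_right K A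
  have hcopL : (Nat.card A).Coprime (Nat.card L) := hcop.coprime_dvd_right (Subgroup.card_dvd_of_le hLK)
  have hLL : ⁅L, A⁆ = L := CfsgLib.Coprime.commutator_commutator_eq hAK hcop hsolv
  set D := L ⊓ Subgroup.centralizer (A : Set G) with hD
  have hDC : D = L ⊓ C := by
    rw [hC, hD, ← inf_assoc, inf_eq_left.mpr hLK]
  have hDi : (D.subgroupOf L).index = p := by
    have hset : (L : Set G) * (C : Set G) = (K : Set G) := by
      refine Set.Subset.antisymm (Subgroup.mul_subset hLK hCK) fun k hk => ?_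
      obtain ⟨n, hn, c, hc, h⟩ := CfsgLib.Coprime.exists_mul_eq' hAK hcop hsolv hk
      exact ⟨n, hn, c, hc, h⟩
    have h1 := CfsgLib.Solvable.card_mul_set L C
    rw [hset] at h1
    have h2 : Nat.card K = Nat.card C * C.relIndex L := h1
    rw [← hmulC] at h2
    show D.relIndex L = p
    rw [hDC, Subgroup.inf_relIndex_left]
    exact (Nat.eq_of_mul_eq_mul_left Nat.card_pos h2).symm
  -- `D` is normal in `L`
  have hDn : L ≤ Subgroup.normalizer (D : Set G) := by
    refine (Subgroup.normal_subgroupOf_iff_le_normalizer inf_le_left).mp ?_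
    rw [← Subgroup.normalizer_eq_top_iff]
    have hlt := Group.normalizerCondition_of_isNilpotent (G := L) (D.subgroupOf L)
      (lt_top_iff_ne_top.mpr fun h => by rw [h, Subgroup.index_top] at hDi; exact hp.ne_one hDi.symm)
    have h2 := Subgroup.index_strictAnti hlt
    have h3 := Subgroup.index_dvd_of_le hlt.le
    rw [hDi] at h2 h3
    rcases (Nat.dvd_prime hp).mp h3 with h | h
    · exact Subgroup.index_eq_one.mp h
    · exact absurd h h2.ne
  have hcen : ⁅L, D⁆ = ⊥ := by
    have h1 : ⁅⁅A, D⁆, L⁆ = ⊥ := by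
      have : ⁅A, D⁆ = ⊥ := by
        rw [Subgroup.commutator_eq_bot_iff_le_centralizer, Subgroup.le_centralizer_iff]
        exact inf_le_right
      rw [this, Subgroup.commutator_eq_bot_iff_le_centralizer]
      exact bot_le
    have h2 : ⁅⁅D, L⁆, A⁆ = ⊥ := by
      rw [Subgroup.commutator_eq_bot_iff_le_centralizer]
      exact (Subgroup.le_normalizer_iff_commutator_le_left.mp hDn).trans inf_le_right
    have h3 := Subgroup.commutator_commutator_eq_bot_of_rotate h1 h2
    rwa [hLL] at h3
  have hDL : D.subgroupOf L ≤ Subgroup.center L := by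
    intro d hd
    rw [Subgroup.mem_center_iff]
    intro l
    have := Subgroup.mem_centralizer_iff.mp ((Subgroup.commutator_eq_bot_iff_le_centralizer.mp hcen) l.2) (d : G) hd
    exact Subtype.ext this.symm
  have hab : IsMulCommutative L := by
    haveI : (D.subgroupOf L).Normal := Subgroup.normal_subgroupOf_of_le_normalizer hDn
    haveI : IsCyclic (L ⧸ D.subgroupOf L) := isCyclic_of_prime_card (p := p) (by rw [← Subgroup.index_eq_card, hDi])
    exact ⟨⟨commutative_of_cyclic_center_quotient (QuotientGroup.mk' (D.subgroupOf L)) (by rwa [QuotientGroup.ker_mk'])⟩⟩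
  have hbot := CfsgLib.Coprime.commutator_inf_centralizer_eq_bot (X := G) hab hLA hcopL
  rw [hLL, ← hD] at hbot
  rwa [hbot, Subgroup.bot_subgroupOf, Subgroup.index_bot] at hDi

end Cfsg.Agent.S0057
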