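import Cfsg.Statements.S0059
import Cfsg.Agent.Lib.Coprime.Action

set_option autoImplicit false
open Cfsg

namespace Cfsg.Agent.S0059

/-- Let a finite group act on a set on which a normal subgroup K of coprime order and index is transitive, with K or the quotient solvable. Then any complement H of K has a fixed point, and any two H-fixed points are interchanged by an element of K centralising H. -/
theorem result {G : Type*} [Group G] [Finite G] {X : Type*} [Nonempty X] [MulAction G X]
    (K H : Subgroup G) [K.Normal] (hc : Subgroup.IsComplement' K H) (hcop : (Nat.card K).Coprime K.index)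
    (hsolv : Group.IsSolvable K ∨ Group.IsSolvable (G ⧸ K)) (htrans : MulAction.IsPretransitive K X) :
    (∃ x : X, ∀ h ∈ H, h • x = x) ∧
    ∀ x y : X, (∀ h ∈ H, h • x = x) → (∀ h ∈ H, h • y = y) → ∃ k ∈ K ⊓ Subgroup.centralizer (H : Set G), k • x = y := by
  have hnorm : H ≤ Subgroup.normalizer (K : Set G) := by rw [Subgroup.normalizer_eq_top]; exact le_top
  have hcard : Nat.card H = K.index := hc.symm.index_eq_card.symm
  have hcop' : (Nat.card H).Coprime (Nat.card K) := by rw [hcard]; exact hcop.symm
  have hs : Group.IsSolvable H ∨ Group.IsSolvable K := hsolv.symm.imp_left fun h => by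
    haveI := h
    exact Group.isSolvable_of_isSolvable_injective (f := (QuotientGroup.mk' K).comp H.subtype) (by
      rw [← MonoidHom.ker_eq_bot_iff, eq_bot_iff]
      intro y hy
      have h2 : (y : G) ∈ K := (QuotientGroup.eq_one_iff _).mp (MonoidHom.mem_ker.mp hy)
      exact Subgroup.mem_bot.mpr (Subtype.ext (Subgroup.mem_bot.mp (hc.disjoint.le_bot ⟨h2, y.2⟩))))
  refine ⟨?_, fun x y hx hy => ?_⟩
  · obtain ⟨x, -, hx⟩ := CfsgLib.Coprime.exists_fixed_point hnorm hcop' hs (Set.univ : Set X)
      Set.univ_nonempty (by simp) (by simp) fun s _ t _ => by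
        obtain ⟨k, hk⟩ := htrans.exists_smul_eq s t
        exact ⟨k, k.2, hk⟩
    exact ⟨x, hx⟩
  · obtain ⟨k, hk⟩ := htrans.exists_smul_eq x y
    exact CfsgLib.Coprime.exists_smul_eq_of_fixed hnorm hcop' hs hx hy ⟨k, k.2, hk⟩

end Cfsg.Agent.S0059
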