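import Cfsg.Statements.S0060
import Cfsg.Agent.Lib.Transfer.SylowLemmas
import Cfsg.Agent.Lib.Solvable.PCore

set_option autoImplicit false
open Pointwise
open Cfsg
open scoped Pointwise

namespace Cfsg.Agent.S0060

/-- Brodkey's Theorem: in a finite group with abelian Sylow p-subgroups and no nontrivial normal p-subgroup, some conjugate of a Sylow p-subgroup meets it trivially. -/
theorem result {G : Type*} [Group G] [Finite G] (p : ℕ) [Fact p.Prime]
    (S : Sylow p G) (hS : IsMulCommutative S) (hOp : Cfsg.pCore p G = ⊥) :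
    ∃ g : G, (S : Subgroup G) ⊓ MulAut.conj g • (S : Subgroup G) = ⊥ := by
  have hab : ∀ P : Sylow p G, IsMulCommutative (P : Subgroup G) := fun P => by
    obtain ⟨g, rfl⟩ := MulAction.exists_smul_eq G S P
    refine ⟨⟨fun a b => ?_⟩⟩
    obtain ⟨a', rfl⟩ := (S.equivSMul g).surjective a
    obtain ⟨b', rfl⟩ := (S.equivSMul g).surjective b
    rw [← map_mul, ← map_mul, hS.is_comm.comm]
  obtain ⟨P, Q, hPQ⟩ := CfsgLib.Transfer.exists_inf_eq_iInf_of_abelian hab
  rw [← CfsgLib.Solvable.pCore_eq_iInf_sylow, hOp] at hPQ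
  obtain ⟨h, hh⟩ := MulAction.exists_smul_eq G P S
  obtain ⟨g, hg⟩ := MulAction.exists_smul_eq G S (h • Q)
  refine ⟨g, ?_⟩
  rw [← Sylow.coe_subgroup_smul, hg, ← hh, Sylow.coe_subgroup_smul, Sylow.coe_subgroup_smul,
    ← Subgroup.smul_inf, hPQ, Subgroup.smul_bot]

end Cfsg.Agent.S0060
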