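import Cfsg.Statements.S0063


set_option autoImplicit false
open Cfsg

namespace Cfsg.Agent.S0063

/-- A finite group of prime-power order p ^ m with m > 1 is nilpotent of class at most m - 1. -/
theorem result {G : Type*} [Group G] [Finite G] (p m : ℕ) [Fact p.Prime]
    (hG : Nat.card G = p ^ m) (hm : 1 < m) : Group.nilpotencyClass G ≤ m - 1 := by
  induction m using Nat.strong_induction_on generalizing G with
  | _ m ih =>
    have hGp : IsPGroup p G := IsPGroup.of_card hG
    haveI := hGp.isNilpotent
    by_cases hab : Group.nilpotencyClass G ≤ 1
    · omega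
    haveI : Nontrivial G := by
      rw [← Finite.one_lt_card_iff_nontrivial, hG]
      exact Nat.one_lt_pow (by omega) (Fact.out : p.Prime).one_lt
    obtain ⟨j, hj⟩ := IsPGroup.iff_card.mp (hGp.to_quotient (Subgroup.center G))
    have hlt : p ^ j < p ^ m := by
      rw [← hj, ← hG, (Subgroup.center G).card_eq_card_quotient_mul_card_subgroup]
      exact lt_mul_of_one_lt_right Nat.card_pos ((Subgroup.one_lt_card_iff_ne_bot _).mpr hGp.bot_lt_center.ne')
    have hjm : j < m := (Nat.pow_lt_pow_iff_right (Fact.out : p.Prime).one_lt).mp hlt
    rw [Group.nilpotencyClass_eq_quotient_center_plus_one] at hab ⊢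
    have hj2 : 1 < j := by
      by_contra h
      haveI : IsCyclic (G ⧸ Subgroup.center G) := by
        obtain rfl | rfl : j = 0 ∨ j = 1 := by omega
        · haveI : Subsingleton (G ⧸ Subgroup.center G) := (Nat.card_eq_one_iff_unique.mp (by rw [hj, pow_zero])).1
          infer_instance
        · exact isCyclic_of_prime_card (by rw [hj, pow_one])
      have hc := commutative_of_cyclic_center_quotient (QuotientGroup.mk' (Subgroup.center G)) (by rw [QuotientGroup.ker_mk'])
      letI : CommGroup G := { (inferInstance : Group G) with mul_comm := hc }
      have := CommGroup.nilpotencyClass_le_one (G := G)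
      rw [Group.nilpotencyClass_eq_quotient_center_plus_one] at this
      exact hab this
    have := ih j hjm hj hj2
    omega

end Cfsg.Agent.S0063
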