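import Cfsg.Statements.S0064
import Cfsg.Agent.Lib.Solvable.Nilpotent

set_option autoImplicit false
open Cfsg

namespace Cfsg.Agent.S0064

/-- A finite group is nilpotent exactly when each of its subgroups is subnormal. -/
theorem result {G : Type*} [Group G] [Finite G] :
    Group.IsNilpotent G ↔ ∀ H : Subgroup G, H.IsSubnormal := by
  constructor
  · intro h H
    exact CfsgLib.Solvable.isSubnormal_of_isNilpotent H
  · intro h
    refine (Group.isNilpotent_of_finite_tfae (G := G)).out 1 0 rfl rfl |>.mp fun H hH => ?_
    rcases Subgroup.IsSubnormal.iff_eq_top_or_exists.mp (h H) with he | ⟨K, hK, -, hn⟩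
    · exact absurd he hH.ne
    · exact lt_of_lt_of_le hK ((Subgroup.normal_subgroupOf_iff_le_normalizer hK.le).mp hn)

end Cfsg.Agent.S0064
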