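import Cfsg.Statements.S0068
import Cfsg.Agent.Lib.Solvable.Basic
import Mathlib.GroupTheory.Perm.Cycle.Type

set_option autoImplicit false
open Cfsg

namespace Cfsg.Agent.S0068

/-- Frobenius complements of even order: if H complements a nontrivial normal subgroup K, each nonidentity element of H has trivial centraliser in K, and H has even order, then H contains a unique involution s, K is abelian, and s inverts every element of K. -/
theorem result {G : Type*} [Group G] [Finite G] (K H : Subgroup G) [K.Normal]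
    (hc : Subgroup.IsComplement' K H) (hK : K ≠ ⊥) (hfpf : ∀ h ∈ H, h ≠ 1 → K ⊓ Subgroup.centralizer {h} = ⊥)
    (heven : 2 ∣ Nat.card H) :
    (∃ s ∈ H, orderOf s = 2 ∧ (∀ t ∈ H, orderOf t = 2 → t = s) ∧ ∀ k ∈ K, s * k * s⁻¹ = k⁻¹) ∧ IsMulCommutative K := by
  classical
  obtain ⟨s₀, hs₀⟩ := exists_prime_orderOf_dvd_card' 2 heven
  have hinv : ∀ t ∈ H, orderOf t = 2 → ∀ k ∈ K, t * k * t⁻¹ = k⁻¹ := by
    intro t ht hto
    have ht1 : t ≠ 1 := fun h => by rw [h, orderOf_one] at hto; omega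
    have htt : t * t = 1 := by rw [← sq, ← hto, pow_orderOf_eq_one]
    have hti : t⁻¹ = t := inv_eq_of_mul_eq_one_right htt
    let f : K → K := fun k => ⟨(k : G)⁻¹ * (t * k * t⁻¹),
      K.mul_mem (K.inv_mem k.2) (Subgroup.Normal.conj_mem inferInstance _ k.2 t)⟩
    have hf : Function.Injective f := by
      intro a b hab
      have h : (a : G)⁻¹ * (t * a * t⁻¹) = (b : G)⁻¹ * (t * b * t⁻¹) := congrArg Subtype.val hab
      have hc' : (b : G) * (a : G)⁻¹ ∈ K ⊓ Subgroup.centralizer {t} := by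
        refine ⟨K.mul_mem b.2 (K.inv_mem a.2), Subgroup.mem_centralizer_singleton_iff.mpr ?_⟩
        have e : (b : G) * (a : G)⁻¹ = t * b * t⁻¹ * (t * a * t⁻¹)⁻¹ := by
          rw [eq_mul_inv_iff_mul_eq, mul_assoc, h, mul_inv_cancel_left]
        calc (b : G) * (a : G)⁻¹ * t = t * b * t⁻¹ * (t * a * t⁻¹)⁻¹ * t := by rw [← e]
          _ = t * ((b : G) * (a : G)⁻¹) := by group
      rw [hfpf t ht ht1, Subgroup.mem_bot, mul_inv_eq_one] at hc'
      exact Subtype.ext hc'.symm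
    intro k hk
    obtain ⟨a, ha⟩ := (Finite.injective_iff_surjective.mp hf) ⟨k, hk⟩
    have ha' : (a : G)⁻¹ * (t * a * t⁻¹) = k := congrArg Subtype.val ha
    rw [← ha', hti]
    calc t * ((a : G)⁻¹ * (t * a * t)) * t = t * (a : G)⁻¹ * t * a * (t * t) := by group
      _ = t * (a : G)⁻¹ * t * a := by rw [htt, mul_one]
      _ = t⁻¹ * (a : G)⁻¹ * t⁻¹ * a := by rw [hti]
      _ = ((a : G)⁻¹ * (t * a * t))⁻¹ := by group
  have hso : orderOf (s₀ : G) = 2 := by rw [Subgroup.orderOf_coe, hs₀]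
  refine ⟨⟨s₀, s₀.2, hso, fun t ht hto => ?_, hinv _ s₀.2 hso⟩, ⟨⟨fun a b => Subtype.ext ?_⟩⟩⟩
  · obtain ⟨⟨k, hk⟩, hk1⟩ := Subgroup.ne_bot_iff_exists_ne_one.mp hK
    by_contra hne
    apply hk1
    have hmem : k ∈ K ⊓ Subgroup.centralizer {(s₀ : G)⁻¹ * t} := by
      refine ⟨hk, Subgroup.mem_centralizer_singleton_iff.mpr ?_⟩
      have e1 := hinv _ s₀.2 hso k hk
      have e2 := hinv t ht hto k hk
      calc k * ((s₀ : G)⁻¹ * t) = (s₀ : G)⁻¹ * ((s₀ : G) * k * (s₀ : G)⁻¹) * t := by group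
        _ = (s₀ : G)⁻¹ * (t * k * t⁻¹) * t := by rw [e1, e2]
        _ = (s₀ : G)⁻¹ * t * k := by group
    rw [hfpf _ (H.mul_mem (H.inv_mem s₀.2) ht)
      (fun h => hne (inv_mul_eq_one.mp h).symm), Subgroup.mem_bot] at hmem
    exact Subtype.ext hmem
  · show (a : G) * b = b * a
    have ea := hinv _ s₀.2 hso _ a.2
    have eb := hinv _ s₀.2 hso _ b.2
    have eab := hinv _ s₀.2 hso _ (K.mul_mem a.2 b.2)
    have e : ((a : G) * b)⁻¹ = (a : G)⁻¹ * (b : G)⁻¹ := by
      rw [← eab, ← ea, ← eb]; group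
    rw [mul_inv_rev] at e
    have e' := congrArg Inv.inv e
    simp only [mul_inv_rev, inv_inv] at e'
    exact e'

end Cfsg.Agent.S0068
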