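import Cfsg.Statements.S0070
import Cfsg.Agent.Lib.Solvable.Frattini2

set_option autoImplicit false
open Cfsg

namespace Cfsg.Agent.S0070

/-- The Fitting subgroup commutes with passing to the Frattini quotient: the Fitting subgroup of G modulo its Frattini subgroup is the image of the Fitting subgroup of G. -/
theorem result {G : Type*} [Group G] [Finite G] :
    Cfsg.fittingSubgroup (G ⧸ frattini G) = (Cfsg.fittingSubgroup G).map (QuotientGroup.mk' (frattini G)) := by
  set π := QuotientGroup.mk' (frattini G) with hπ
  have hs : Function.Surjective π := QuotientGroup.mk'_surjective _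
  haveI := CfsgLib.Solvable.fittingSubgroup_normal G
  haveI := CfsgLib.Solvable.fittingSubgroup_normal (G ⧸ frattini G)
  haveI := CfsgLib.Solvable.fittingSubgroup_isNilpotent (G := G)
  refine le_antisymm ?_ (CfsgLib.Solvable.le_fittingSubgroup (Subgroup.Normal.map inferInstance _ hs)
    (Group.nilpotent_of_surjective (π.subgroupMap _) (π.subgroupMap_surjective _)))
  set A := (Cfsg.fittingSubgroup (G ⧸ frattini G)).comap π with hA
  have hBA : frattini G ≤ A := fun x hx => by simp [hA, hπ, (QuotientGroup.eq_one_iff x).mpr hx]
  have hn : Group.IsNilpotent A := by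
    refine CfsgLib.Solvable.isNilpotent_of_quotient_frattini hBA le_rfl ?_
    let f : A →* Cfsg.fittingSubgroup (G ⧸ frattini G) := π.subgroupComap _
    have hf : Function.Surjective f := π.subgroupComap_surjective_of_surjective _ hs
    have hker : f.ker = (frattini G).subgroupOf A := by
      ext x
      rw [MonoidHom.mem_ker, Subgroup.mem_subgroupOf, ← QuotientGroup.eq_one_iff, Subtype.ext_iff]
      rfl
    haveI := CfsgLib.Solvable.fittingSubgroup_isNilpotent (G := G ⧸ frattini G)
    exact (Group.isNilpotent_congr ((QuotientGroup.quotientMulEquivOfEq hker.symm).trans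
      (QuotientGroup.quotientKerEquivOfSurjective f hf))).mpr inferInstance
  calc Cfsg.fittingSubgroup (G ⧸ frattini G) = A.map π := (Subgroup.map_comap_eq_self_of_surjective hs _).symm
    _ ≤ _ := Subgroup.map_mono (CfsgLib.Solvable.le_fittingSubgroup inferInstance hn)

end Cfsg.Agent.S0070
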