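import Cfsg.Statements.S0072
import Cfsg.Agent.Lib.Transfer.Frobenius

set_option autoImplicit false
open Cfsg

namespace Cfsg.Agent.S0072

/-- A finite group has a normal p-complement if and only if every p-local subgroup (normalizer of a nontrivial p-subgroup) has one. -/
theorem result {G : Type*} [Group G] [Finite G] (p : ℕ) [Fact p.Prime] : Cfsg.HasNormalPComplement p G ↔ ∀ Q : Subgroup G, IsPGroup p Q → Q ≠ ⊥ → Cfsg.HasNormalPComplement p (Subgroup.normalizer (Q : Set G)) := by
  refine ⟨fun h Q _ _ => CfsgLib.Transfer.hasNormalPComplement_subgroup _ h, fun h => ?_⟩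
  refine CfsgLib.Transfer.hasNormalPComplement_iff_frobenius.2 fun D hD g hg hgp => ?_
  rcases eq_or_ne D ⊥ with rfl | hne
  · rw [Subgroup.mem_centralizer_iff]
    intro d hd
    rw [Subgroup.mem_bot.1 hd]; simp
  · exact CfsgLib.Transfer.mem_centralizer_of_hasNormalPComplement hD (h D hD hne) hg hgp


end Cfsg.Agent.S0072
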