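import Cfsg.Statements.S0073
import Cfsg.Agent.Lib.Transfer.SimpleCount
import Cfsg.Agent.Lib.Transfer.AbelianSylow

set_option autoImplicit false
open Cfsg

namespace Cfsg.Agent.S0073

/-- For a finite non-abelian simple group, either the cube of the least prime divisor of the order divides the order, or 12 does. -/
theorem result {G : Type*} [Group G] [Finite G] [IsSimpleGroup G] (hG : ∃ x y : G, x * y ≠ y * x) : (Nat.card G).minFac ^ 3 ∣ Nat.card G ∨ 12 ∣ Nat.card G := by
  have hna : ¬ IsMulCommutative G := fun hc => by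
    obtain ⟨x, y, hxy⟩ := hG
    exact hxy (hc.is_comm.comm x y)
  set p := (Nat.card G).minFac with hpdef
  have hne1 : Nat.card G ≠ 1 := by
    intro h
    have := (Nat.card_eq_one_iff_unique.1 h).1
    exact hna ⟨⟨fun a b => Subsingleton.elim _ _⟩⟩
  have : Fact p.Prime := ⟨Nat.minFac_prime hne1⟩
  by_contra hcon
  push Not at hcon
  obtain ⟨h3, h12⟩ := hcon
  have hdvd : p ∣ Nat.card G := Nat.minFac_dvd _
  obtain ⟨P⟩ := (inferInstance : Nonempty (Sylow p G))
  obtain ⟨n, hn⟩ := P.2.exists_card_eq
  have hn3 : n ≤ 2 := by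
    by_contra hlt
    exact h3 ((pow_dvd_pow p (by omega : 3 ≤ n)).trans (hn ▸ Subgroup.card_subgroup_dvd_card _))
  have hcomm : IsMulCommutative (P : Subgroup G) := by
    interval_cases n
    · have : Subsingleton (P : Subgroup G) := (Nat.card_eq_one_iff_unique.1 (by simpa using hn)).1
      exact ⟨⟨fun a b => Subsingleton.elim _ _⟩⟩
    · have := isCyclic_of_prime_card (p := p) (by simpa using hn)
      exact IsCyclic.isMulCommutative
    · exact IsPGroup.isMulCommutative_of_card_eq_prime_sq hn
  refine CfsgLib.Transfer.not_normalizer_le_centralizer hna hdvd P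
    (CfsgLib.Transfer.normalizer_le_centralizer_of_no_prime P hn ?_)
  intro r hr hrp hrd j hj hmod
  have hpr : p < r := lt_of_le_of_ne (Nat.minFac_le_of_dvd hr.two_le hrd) (Ne.symm hrp)
  have hp2 := (Fact.out : p.Prime).two_le
  have hd := (Nat.modEq_iff_dvd' (Nat.pow_le_pow_right (by omega) hj.le)).1 hmod.symm
  interval_cases n <;> interval_cases j
  · simp only [pow_zero, pow_one] at hd
    exact absurd (Nat.le_of_dvd (by omega) hd) (by omega)
  · rw [pow_zero, ← one_pow 2, Nat.sq_sub_sq] at hd
    rcases hr.dvd_mul.1 hd with h | h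
    · have hr1 : r = p + 1 := le_antisymm (Nat.le_of_dvd (by omega) h) (by omega)
      have hp : p = 2 := by
        rcases (Fact.out : p.Prime).eq_two_or_odd with h2 | h2
        · exact h2
        · rcases hr.eq_two_or_odd with h2' | h2' <;> omega
      refine h12 (Nat.Coprime.mul_dvd_of_dvd_of_dvd (m := 4) (n := 3) (by norm_num) ?_ ?_)
      · refine Dvd.dvd.trans ?_ (Subgroup.card_subgroup_dvd_card (P : Subgroup G))
        rw [hn, hp]; norm_num
      · rw [hr1, hp] at hrd; exact hrd
    · exact absurd (Nat.le_of_dvd (by omega) h) (by omega)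
  · rw [sq, pow_one, ← Nat.mul_sub_one] at hd
    rcases hr.dvd_mul.1 hd with h | h
    · exact absurd (Nat.le_of_dvd (by omega) h) (by omega)
    · exact absurd (Nat.le_of_dvd (by omega) h) (by omega)


end Cfsg.Agent.S0073
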