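import Cfsg.Statements.S0076
import Cfsg.Agent.Lib.Transfer.Focal

set_option autoImplicit false
open Cfsg

namespace Cfsg.Agent.S0076

/-- Two P-invariant subsets of a Sylow p-subgroup P that are conjugate in G are conjugate under the normalizer of P. -/
theorem result {G : Type*} [Group G] [Finite G] {p : ℕ} [Fact p.Prime] (P : Sylow p G) (X Y : Set G) (hXP : X ⊆ P) (hYP : Y ⊆ P) (hX : ∀ x ∈ P, (fun y => x * y * x⁻¹) '' X = X) (hY : ∀ x ∈ P, (fun y => x * y * x⁻¹) '' Y = Y) (g : G) (hg : (fun y => g * y * g⁻¹) '' X = Y) : ∃ n ∈ Subgroup.normalizer (P : Set G), (fun y => n * y * n⁻¹) '' X = Y := by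
  set H := Subgroup.normalizer Y with hH
  have hsetmem : ∀ a : G, (fun y => a * y * a⁻¹) '' Y = Y → a ∈ H := by
    intro a ha
    rw [hH, Subgroup.mem_set_normalizer_iff]
    intro n
    constructor
    · intro hn; rw [← ha]; exact ⟨n, hn, rfl⟩
    · intro hn
      rw [← ha] at hn
      obtain ⟨m, hm, hmn⟩ := hn
      have : m = n := mul_left_cancel (mul_right_cancel hmn)
      exact this ▸ hm
  have h1 : (P : Subgroup G) ≤ H := fun a ha => hsetmem a (hY a ha)
  have h2 : ((g • P : Sylow p G) : Subgroup G) ≤ H := by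
    intro a ha
    have ha' : a ∈ g • P := ha
    rw [CfsgLib.Transfer.sylow_smul_mem_iff] at ha'
    apply hsetmem
    have := hX _ ha'
    rw [← hg, ← Set.image_comp]
    conv_rhs => rw [← this, ← Set.image_comp]
    congr 1
    funext y
    simp [mul_assoc]
  obtain ⟨c, hc⟩ := MulAction.exists_smul_eq H ((g • P).subtype h2) (P.subtype h1)
  rw [Sylow.smul_subtype] at hc
  have hc' := Sylow.subtype_injective hc
  refine ⟨(c : G) * g, ?_, ?_⟩
  · exact Sylow.smul_eq_iff_mem_normalizer.1 (by rw [mul_smul]; exact hc')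
  · have hcY : (fun y => (c : G) * y * (c : G)⁻¹) '' Y = Y := by
      ext n
      constructor
      · rintro ⟨m, hm, rfl⟩
        exact (Subgroup.mem_set_normalizer_iff.1 c.2 m).1 hm
      · intro hn
        refine ⟨(c : G)⁻¹ * n * c, ?_, by simp [mul_assoc]⟩
        refine (Subgroup.mem_set_normalizer_iff.1 c.2 _).2 ?_
        simpa [mul_assoc] using hn
    conv_rhs => rw [← hcY, ← hg, ← Set.image_comp]
    congr 1
    funext y
    simp [mul_assoc]


end Cfsg.Agent.S0076
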