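import Cfsg.Statements.S0078
import Cfsg.Agent.Lib.Transfer.Focal

set_option autoImplicit false
open Cfsg

namespace Cfsg.Agent.S0078

/-- In a p-normal group, a Sylow p-subgroup P meets O^p(G) exactly where it meets O^p(V), for any subgroup V containing the normalizer of the centre of P. -/
theorem result {G : Type*} [Group G] [Finite G] {p : ℕ} [Fact p.Prime] (P : Sylow p G) (hn : ∀ Q : Sylow p G, (P : Subgroup G) ⊓ Subgroup.centralizer (P : Set G) ≤ (Q : Subgroup G) → (Q : Subgroup G) ⊓ Subgroup.centralizer (Q : Set G) = (P : Subgroup G) ⊓ Subgroup.centralizer (P : Set G)) (V : Subgroup G) (hV : Subgroup.normalizer (((P : Subgroup G) ⊓ Subgroup.centralizer (P : Set G) : Subgroup G) : Set G) ≤ V) : (P : Subgroup G) ⊓ Cfsg.pResidual p G = (P : Subgroup G) ⊓ (Cfsg.pResidual p V).map V.subtype := by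
  set Z := (P : Subgroup G) ⊓ Subgroup.centralizer (P : Set G) with hZdef
  have hW : Cfsg.IsWeaklyClosed Z (P : Subgroup G) := by
    refine ⟨inf_le_left, fun g hg => ?_⟩
    have hZQ : Z ≤ ((g⁻¹ • P : Sylow p G) : Subgroup G) := by
      intro z hz
      change z ∈ g⁻¹ • P
      rw [CfsgLib.Transfer.sylow_smul_mem_iff, inv_inv]
      exact hg ⟨z, hz, by simp⟩
    have hQ := hn (g⁻¹ • P) hZQ
    -- `Z(P^g) = Z(P)^g`
    refine le_antisymm ?_ ?_
    · rintro _ ⟨z, hz, rfl⟩
      rw [SetLike.mem_coe, ← hQ] at hz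
      obtain ⟨h1, h2⟩ := Subgroup.mem_inf.1 hz
      refine Subgroup.mem_inf.2 ⟨?_, ?_⟩
      · have h1' : z ∈ g⁻¹ • P := h1
        rw [CfsgLib.Transfer.sylow_smul_mem_iff, inv_inv] at h1'
        exact (by simpa using h1' : (MulAut.conj g).toMonoidHom z ∈ P)
      · rw [Subgroup.mem_centralizer_iff]
        intro y hy
        have hy' : g⁻¹ * y * g ∈ ((g⁻¹ • P : Sylow p G) : Subgroup G) := by
          change g⁻¹ * y * g ∈ g⁻¹ • P
          rw [CfsgLib.Transfer.sylow_smul_mem_iff]
          simpa [mul_assoc] using hy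
        have h := congrArg (fun w => g * w * g⁻¹) (Subgroup.mem_centralizer_iff.1 h2 _ hy')
        simpa [mul_assoc] using h
    · intro z hz
      have hz' := hz
      obtain ⟨h1, h2⟩ := Subgroup.mem_inf.1 hz
      refine ⟨g⁻¹ * z * g, ?_, by simp [mul_assoc]⟩
      rw [SetLike.mem_coe, ← hQ]
      refine Subgroup.mem_inf.2 ⟨?_, ?_⟩
      · change g⁻¹ * z * g ∈ g⁻¹ • P
        rw [CfsgLib.Transfer.sylow_smul_mem_iff, inv_inv]
        simpa [mul_assoc] using (show z ∈ P from h1)
      · rw [Subgroup.mem_centralizer_iff]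
        intro y hy
        have hy' : y ∈ g⁻¹ • P := hy
        rw [CfsgLib.Transfer.sylow_smul_mem_iff, inv_inv] at hy'
        have h := congrArg (fun w => g⁻¹ * w * g) (Subgroup.mem_centralizer_iff.1 h2 _ hy')
        simpa [mul_assoc] using h
  have hPN : (P : Subgroup G) ≤ Subgroup.normalizer (Z : Set G) := by
    intro x hx
    rw [Subgroup.mem_normalizer_iff]
    intro z
    constructor
    · intro hz
      rwa [Subgroup.mem_centralizer_iff.1 (Subgroup.mem_inf.1 hz).2 x hx, mul_inv_cancel_right]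
    · intro hz
      have h := Subgroup.mem_centralizer_iff.1 (Subgroup.mem_inf.1 hz).2 x hx
      have h' : z = x * z * x⁻¹ := mul_right_cancel (b := x⁻¹) (by
        have := congrArg (fun w => x⁻¹ * w * x⁻¹) h
        simpa [mul_assoc] using this.symm)
      rwa [h']
  refine CfsgLib.Transfer.inf_pResidual_eq_of_controls P (hPN.trans hV) fun x hx g hg => ?_
  obtain ⟨v, hv, hvx⟩ := CfsgLib.Transfer.weaklyClosed_controls P inf_le_right hW x hx g hg
  exact ⟨v, hV hv, hvx⟩


end Cfsg.Agent.S0078
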