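import Cfsg.Statements.S0079
import Cfsg.Agent.Lib.Transfer.HallComplement

set_option autoImplicit false
open Cfsg

namespace Cfsg.Agent.S0079

/-- A nilpotent Hall subgroup has a normal complement exactly when elements of it that are conjugate in the whole group are already conjugate inside it. -/
theorem result {G : Type*} [Group G] [Finite G] (H : Subgroup G) (hH : Group.IsNilpotent H) (hHall : Nat.Coprime (Nat.card H) H.index) : (∃ N : Subgroup G, N.Normal ∧ N.IsComplement' H) ↔ ∀ x ∈ H, ∀ y ∈ H, (∃ g : G, g * x * g⁻¹ = y) → ∃ h ∈ H, h * x * h⁻¹ = y := by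
  constructor
  · rintro ⟨N, hN, hc⟩ x hx y hy ⟨g, hg⟩
    obtain ⟨⟨n, a⟩, hna, -⟩ := hc.existsUnique g
    obtain ⟨n, hn⟩ := n
    obtain ⟨a, ha⟩ := a
    change n * a = g at hna
    refine ⟨a, ha, ?_⟩
    have h1 : y * (a * x * a⁻¹)⁻¹ ∈ N ⊓ H := by
      refine Subgroup.mem_inf.2 ⟨?_, mul_mem hy (inv_mem (mul_mem (mul_mem ha hx) (inv_mem ha)))⟩
      rw [← hg, ← hna]
      have h2 := mul_mem hn (hN.conj_mem _ (inv_mem hn) (a * x * a⁻¹))
      convert h2 using 1
      group
    rw [hc.disjoint.eq_bot, Subgroup.mem_bot, mul_inv_eq_one] at h1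
    exact h1.symm
  · exact CfsgLib.Transfer.exists_normal_complement_of_controls_fusion H hHall


end Cfsg.Agent.S0079
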