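import Cfsg.Statements.S0082
import Cfsg.Agent.Lib.Transfer.AbelianSylow

set_option autoImplicit false
open Cfsg

namespace Cfsg.Agent.S0082

/-- With a cyclic Sylow p-subgroup, either there is a normal p-complement or the elements of order prime to p generate the whole group. -/
theorem result {G : Type*} [Group G] [Finite G] {p : ℕ} [Fact p.Prime] (P : Sylow p G) (hP : IsCyclic P) : Cfsg.HasNormalPComplement p G ∨ Cfsg.pResidual p G = ⊤ := by
  have : IsMulCommutative (P : Subgroup G) := @IsCyclic.isMulCommutative _ _ hP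
  by_cases hC : Subgroup.normalizer ((P : Subgroup G) : Set G) ≤
      Subgroup.centralizer ((P : Subgroup G) : Set G)
  · exact Or.inl (CfsgLib.Transfer.hasNormalPComplement_of_normalizer_le_centralizer P hC)
  right
  have hK := CfsgLib.Transfer.pResidual_normal (G := G) (p := p)
  have h1 := CfsgLib.Transfer.inf_pResidual_abelian_sylow P
  have h2 := CfsgLib.Transfer.pResidual_sup_sylow P
  suffices h : (P : Subgroup G) ≤ Cfsg.pResidual p G by
    rwa [sup_eq_left.2 h] at h2
  rw [← inf_eq_left, h1]
  refine le_antisymm (h1 ▸ inf_le_left) ?_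
  obtain ⟨hd1, hd2⟩ := CfsgLib.Transfer.abelian_sylow_decomposition P
  set D := ⁅(P : Subgroup G), Subgroup.normalizer ((P : Subgroup G) : Set G)⁆ with hD
  have hDP : D ≤ (P : Subgroup G) := h1 ▸ inf_le_left
  set E := (P : Subgroup G) ⊓
    Subgroup.centralizer (Subgroup.normalizer ((P : Subgroup G) : Set G) : Set G) with hE
  -- subgroups of a cyclic `p`-group form a chain
  have hchain : D ≤ E ∨ E ≤ D := by
    obtain ⟨i, -, hi⟩ := (Nat.dvd_prime_pow Fact.out).1
      ((P.2.exists_card_eq).choose_spec ▸ Subgroup.card_dvd_of_le hDP)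
    obtain ⟨j, -, hj⟩ := (Nat.dvd_prime_pow Fact.out).1
      ((P.2.exists_card_eq).choose_spec ▸
        Subgroup.card_dvd_of_le (show E ≤ (P : Subgroup G) from inf_le_left))
    have key : ∀ A B : Subgroup G, A ≤ (P : Subgroup G) → B ≤ (P : Subgroup G) →
        Nat.card A ∣ Nat.card B → A ≤ B := by
      intro A B hA hB hd a ha
      classical
      let _ : Fintype (P : Subgroup G) := Fintype.ofFinite _
      have := hP
      set b := Nat.card B with hb
      have hsub : (B.subgroupOf (P : Subgroup G) : Set (P : Subgroup G)).toFinset ⊆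
          Finset.univ.filter fun y : (P : Subgroup G) => y ^ b = 1 := by
        intro y hy
        rw [Set.mem_toFinset] at hy
        simp only [Finset.mem_filter, Finset.mem_univ, true_and]
        exact Subtype.ext (orderOf_dvd_iff_pow_eq_one.1 (Subgroup.orderOf_dvd_natCard B hy))
      have hmem : (⟨a, hA ha⟩ : (P : Subgroup G)) ∈
          (Finset.univ.filter fun y : (P : Subgroup G) => y ^ b = 1) := by
        simp only [Finset.mem_filter, Finset.mem_univ, true_and]
        exact Subtype.ext (orderOf_dvd_iff_pow_eq_one.1 ((Subgroup.orderOf_dvd_natCard A ha).trans hd))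
      have heq := Finset.eq_of_subset_of_card_le hsub (by
        rw [Set.toFinset_card, ← Nat.card_eq_fintype_card]
        refine (IsCyclic.card_pow_eq_one_le (α := (P : Subgroup G)) Nat.card_pos).trans (le_of_eq ?_)
        exact (Nat.card_congr (Subgroup.subgroupOfEquivOfLe hB).toEquiv).symm)
      rw [← heq, Set.mem_toFinset] at hmem
      exact hmem
    rcases le_total i j with hij | hji
    · exact Or.inl (key D E hDP inf_le_left (hi ▸ hj ▸ pow_dvd_pow p hij))
    · exact Or.inr (key E D inf_le_left hDP (hi ▸ hj ▸ pow_dvd_pow p hji))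
  rcases hchain with hle | hle
  · exfalso
    rw [inf_eq_left.2 hle] at hd1
    rw [hd1, bot_sup_eq, hE, inf_eq_left] at hd2
    exact hC fun g hg => Subgroup.mem_centralizer_iff.2 fun y hy =>
      (Subgroup.mem_centralizer_iff.1 (hd2 hy) g hg).symm
  · rw [sup_eq_left.2 hle] at hd2
    exact hd2.ge


end Cfsg.Agent.S0082
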