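import Cfsg.Statements.S0083
import Cfsg.Agent.Lib.Transfer.AbelianSylow

set_option autoImplicit false
open Cfsg

namespace Cfsg.Agent.S0083

/-- For an abelian Sylow p-subgroup P, a normal p-complement exists exactly when the normalizer of P is an internal direct product of P with some subgroup. -/
theorem result {G : Type*} [Group G] [Finite G] {p : ℕ} [Fact p.Prime] (P : Sylow p G) (hP : IsMulCommutative P) : Cfsg.HasNormalPComplement p G ↔ ∃ Q : Subgroup G, Q ≤ Subgroup.centralizer (P : Set G) ∧ Q ⊓ (P : Subgroup G) = ⊥ ∧ Q ⊔ (P : Subgroup G) = Subgroup.normalizer (P : Set G) := by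
  have := hP
  constructor
  · intro h
    set N := Subgroup.normalizer ((P : Subgroup G) : Set G)
    have hK := CfsgLib.Transfer.pResidual_normal (G := G) (p := p)
    have hbot := (CfsgLib.Transfer.hasNormalPComplement_iff_pResidual_inf_eq_bot P).1 h
    set K := Cfsg.pResidual p G
    refine ⟨K ⊓ N, ?_, ?_, ?_⟩
    · intro g hg
      exact CfsgLib.Transfer.hasNormalPComplement_iff_frobenius.1 h _ P.2 g hg.2
        ((CfsgLib.Transfer.mem_pResidual_iff h g).1 hg.1)
    · rw [eq_bot_iff, ← hbot]; exact inf_le_inf_right _ inf_le_left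
    · refine le_antisymm (sup_le inf_le_right Subgroup.le_normalizer) fun g hg => ?_
      open scoped Pointwise in
      have hg' : g ∈ (K : Set G) * ((P : Subgroup G) : Set G) := by
        rw [← Subgroup.normal_mul, CfsgLib.Transfer.pResidual_sup_sylow]; trivial
      obtain ⟨k, hk, x, hx, rfl⟩ := hg'
      refine Subgroup.mul_mem_sup ⟨hk, ?_⟩ hx
      have := mul_mem hg (inv_mem (Subgroup.le_normalizer (H := (P : Subgroup G)) hx))
      simpa [N] using this
  · rintro ⟨Q, hQ, -, hsup⟩
    refine CfsgLib.Transfer.hasNormalPComplement_of_normalizer_le_centralizer P ?_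
    rw [Sylow.coe_coe, ← hsup]
    exact sup_le hQ (Subgroup.le_centralizer _)


end Cfsg.Agent.S0083
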