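import Cfsg.Statements.S0084
import Cfsg.Agent.Lib.Transfer.AbelianSylow

set_option autoImplicit false
open Cfsg

namespace Cfsg.Agent.S0084

/-- A group whose Sylow 2-subgroups are Klein four-groups and whose order is prime to 3 has a normal 2-complement. -/
theorem result {G : Type*} [Group G] [Finite G] (T : Sylow 2 G) (hT : IsKleinFour T) (h3 : ¬ 3 ∣ Nat.card G) : Cfsg.HasNormalPComplement 2 G := by
  have : IsMulCommutative (T : Subgroup G) := ⟨⟨fun a b => by
    have := hT
    have ha := eq_inv_of_mul_eq_one_left (IsKleinFour.mul_self a)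
    have hb := eq_inv_of_mul_eq_one_left (IsKleinFour.mul_self b)
    have hab := eq_inv_of_mul_eq_one_left (IsKleinFour.mul_self (a * b))
    rw [hab, mul_inv_rev, ← ha, ← hb]⟩⟩
  refine CfsgLib.Transfer.hasNormalPComplement_of_normalizer_le_centralizer T
    (CfsgLib.Transfer.normalizer_le_centralizer_of_no_prime T (n := 2) hT.card_four ?_)
  intro r hr hr2 hrd j hj hmod
  interval_cases j <;> have hd := (Nat.modEq_iff_dvd' (by norm_num)).1 hmod.symm <;> norm_num at hd
  · exact h3 ((Nat.prime_dvd_prime_iff_eq hr Nat.prime_three).1 hd ▸ hrd)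
  · exact hr2 ((Nat.prime_dvd_prime_iff_eq hr Nat.prime_two).1 hd)


end Cfsg.Agent.S0084
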