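import Cfsg.Statements.S0085
import Cfsg.Agent.Lib.Transfer.AbelianSylow

set_option autoImplicit false
open Cfsg

namespace Cfsg.Agent.S0085

/-- A group whose Sylow 2-subgroups are elementary abelian of order 8 and whose order is prime to 3 and to 7 has a normal 2-complement. -/
theorem result {G : Type*} [Group G] [Finite G] (T : Sylow 2 G) (h8 : Nat.card T = 8) (he : ∀ x : T, x * x = 1) (h3 : ¬ 3 ∣ Nat.card G) (h7 : ¬ 7 ∣ Nat.card G) : Cfsg.HasNormalPComplement 2 G := by
  have : IsMulCommutative (T : Subgroup G) := ⟨⟨fun a b => by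
    have ha := eq_inv_of_mul_eq_one_left (he a)
    have hb := eq_inv_of_mul_eq_one_left (he b)
    have hab := eq_inv_of_mul_eq_one_left (he (a * b))
    rw [hab, mul_inv_rev, ← ha, ← hb]⟩⟩
  refine CfsgLib.Transfer.hasNormalPComplement_of_normalizer_le_centralizer T
    (CfsgLib.Transfer.normalizer_le_centralizer_of_no_prime T (n := 3) h8 ?_)
  intro r hr hr2 hrd j hj hmod
  interval_cases j <;> have hd := (Nat.modEq_iff_dvd' (by norm_num)).1 hmod.symm <;> norm_num at hd
  · exact h7 ((Nat.prime_dvd_prime_iff_eq hr (by norm_num)).1 hd ▸ hrd)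
  · rcases (hr.dvd_mul.1 (show r ∣ 2 * 3 from hd)) with h | h
    · exact hr2 ((Nat.prime_dvd_prime_iff_eq hr Nat.prime_two).1 h)
    · exact h3 ((Nat.prime_dvd_prime_iff_eq hr Nat.prime_three).1 h ▸ hrd)
  · exact hr2 ((Nat.prime_dvd_prime_iff_eq hr Nat.prime_two).1 (hr.dvd_of_dvd_pow (show r ∣ 2 ^ 2 from hd)))


end Cfsg.Agent.S0085
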