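import Cfsg.Statements.S0089
import Cfsg.Agent.Lib.Transfer.AbelianSylow

set_option autoImplicit false
open Cfsg

namespace Cfsg.Agent.S0089

/-- When all Sylow subgroups are abelian, the derived subgroup meets the centre trivially. -/
theorem result {G : Type*} [Group G] [Finite G] (h : ∀ p : ℕ, p.Prime → ∀ P : Sylow p G, IsMulCommutative P) : commutator G ⊓ Subgroup.center G = ⊥ := by
  rw [eq_bot_iff]
  intro x hx
  by_contra hne
  have hx1 : orderOf x ≠ 1 := fun h1 => hne (Subgroup.mem_bot.2 (orderOf_eq_one_iff.1 h1))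
  obtain ⟨p, hp, hpd⟩ := Nat.exists_prime_and_dvd hx1
  have := Fact.mk hp
  set y := x ^ (orderOf x / p)
  have hy : orderOf y = p := by
    rw [orderOf_pow_of_dvd _ (Nat.div_dvd_of_dvd hpd),
      Nat.div_div_self hpd (orderOf_pos x).ne']
    exact (Nat.div_pos (Nat.le_of_dvd (orderOf_pos x) hpd) hp.pos).ne'
  have hyp : IsPGroup p (Subgroup.zpowers y) :=
    IsPGroup.of_card (n := 1) (by rw [Nat.card_zpowers, hy, pow_one])
  obtain ⟨P, hP⟩ := hyp.exists_le_sylow
  have := h p hp P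
  have hb := CfsgLib.Transfer.inf_commutator_inf_center_eq_bot (P : Subgroup G) P.card_coprime_index
  have hmem : y ∈ (P : Subgroup G) ⊓ commutator G ⊓ Subgroup.center G :=
    ⟨⟨hP (Subgroup.mem_zpowers y), pow_mem hx.1 _⟩, pow_mem hx.2 _⟩
  rw [hb, Subgroup.mem_bot] at hmem
  exact hp.ne_one (hy ▸ orderOf_eq_one_iff.2 hmem)


end Cfsg.Agent.S0089
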