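import Cfsg.Statements.S0092
import Cfsg.Agent.Lib.Transfer.Focal
import Cfsg.Agent.Lib.Coprime.Generation
import Cfsg.Agent.Lib.Coprime.Complements

set_option autoImplicit false
open scoped commutatorElement Pointwise
open Cfsg

namespace Cfsg.Agent.S0092

/-- If the Sylow p-subgroups of O^p(G) are abelian then G splits over O^p(G). -/
theorem result {G : Type*} [Group G] [Finite G] {p : ℕ} [Fact p.Prime] (h : ∀ Q : Sylow p (Cfsg.pResidual p G), IsMulCommutative Q) : ∃ K : Subgroup G, K.IsComplement' (Cfsg.pResidual p G) := by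
  classical
  have hp := (Fact.out : p.Prime)
  set K := Cfsg.pResidual p G with hK
  have hKn : K.Normal := CfsgLib.Transfer.pResidual_normal
  let S : Sylow p K := default
  have := h S
  set Q : Subgroup G := (S : Subgroup K).map K.subtype with hQ
  have hQK : Q ≤ K := Subgroup.map_subtype_le _
  have hQab : ∀ a ∈ Q, ∀ b ∈ Q, a * b = b * a := by
    rintro _ ⟨a, ha, rfl⟩ _ ⟨b, hb, rfl⟩
    exact congrArg K.subtype (congrArg Subtype.val ((h S).is_comm.comm ⟨a, ha⟩ ⟨b, hb⟩) :)
  have hQp : IsPGroup p Q := S.2.map _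
  set N := Subgroup.normalizer (Q : Set G)
  set NK := K ⊓ N
  have hQNK : Q ≤ NK := le_inf hQK Subgroup.le_normalizer
  -- complement of `Q` in its normalizer in `K`
  set Q' := Q.subgroupOf NK
  have hQ'n : Q'.Normal := Subgroup.normal_subgroupOf_of_le_normalizer inf_le_right
  have hQ'p : ¬ p ∣ Q'.index := by
    intro hd
    have h1 : Q.relIndex NK ∣ Q.relIndex K := by
      rw [← Subgroup.relIndex_mul_relIndex Q NK K hQNK inf_le_left]; exact dvd_mul_right _ _
    have h2 : Q.relIndex K = (S : Subgroup K).index := by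
      rw [hQ, Subgroup.relIndex, Subgroup.subgroupOf,
        Subgroup.comap_map_eq_self_of_injective K.subtype_injective]
    exact S.not_dvd_index (h2 ▸ hd.trans h1)
  have hcop' : (Nat.card Q').Coprime Q'.index := by
    obtain ⟨m, hm⟩ := hQp.exists_card_eq
    rw [Nat.card_congr (Subgroup.subgroupOfEquivOfLe hQNK).toEquiv, hm]
    exact (hp.coprime_iff_not_dvd.2 hQ'p).pow_left m
  obtain ⟨H', hH'⟩ := Subgroup.exists_right_complement'_of_coprime hcop'
  set H := H'.map NK.subtype with hH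
  have hHNK : H ≤ NK := Subgroup.map_subtype_le _
  have hsup : Q ⊔ H = NK := by
    rw [← Subgroup.map_subgroupOf_eq_of_le hQNK, hH, ← Subgroup.map_sup, hH'.sup_eq_top,
      ← MonoidHom.range_eq_map, Subgroup.range_subtype]
  have hinf : Q ⊓ H = ⊥ := by
    rw [← Subgroup.map_subgroupOf_eq_of_le hQNK, hH,
      ← Subgroup.map_inf _ _ _ NK.subtype_injective, hH'.disjoint.eq_bot, Subgroup.map_bot]
  have hHQ : (Nat.card H).Coprime (Nat.card Q) := by
    rw [hH, Subgroup.card_map_of_injective NK.subtype_injective, ← hH'.symm.index_eq_card,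
      ← Nat.card_congr (Subgroup.subgroupOfEquivOfLe hQNK).toEquiv]
    exact hcop'.symm
  have hHN : H ≤ N := hHNK.trans inf_le_right
  -- `Q = [Q, H]`
  have hfix : Q ⊓ Subgroup.centralizer (H : Set G) = ⊥ := by
    have h1 : Q ≤ ⁅Q, H⁆ := by
      have h2 := CfsgLib.Transfer.inf_pResidual_abelian_sylow S
      rw [CfsgLib.Transfer.pResidual_pResidual, inf_top_eq] at h2
      conv_lhs => rw [hQ, h2, Subgroup.map_commutator]
      rw [← hQ, Subgroup.commutator_le]
      rintro x hx _ ⟨n, hn, rfl⟩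
      have hnN : K.subtype n ∈ NK := Subgroup.mem_inf.2 ⟨n.2, Subgroup.le_normalizer_map _
        (Subgroup.mem_map_of_mem _ hn)⟩
      rw [← hsup] at hnN
      obtain ⟨q, hq, u, hu, e⟩ :=
        (CfsgLib.Coprime.mem_sup_of_le_normalizer hHN).1 hnN
      rw [← e]
      have hxu : ⁅x, u⁆ ∈ Q := by
        have := mul_mem hx ((Subgroup.mem_normalizer_iff.1 (hHN hu) x⁻¹).1 (inv_mem hx))
        simpa [commutatorElement_def, mul_assoc] using this
      have e2 : ⁅x, q * u⁆ = ⁅x, u⁆ := by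
        have e3 : ⁅x, q * u⁆ = ⁅x, q⁆ * (q * ⁅x, u⁆ * q⁻¹) := by
          simp [commutatorElement_def, mul_assoc]
        rw [e3, commutatorElement_eq_one_iff_mul_comm.2 (hQab x hx q hq), hQab q hq _ hxu,
          mul_inv_cancel_right, one_mul]
      rw [e2]
      exact Subgroup.commutator_mem_commutator hx hu
    refine eq_bot_iff.2 ((inf_le_inf_right _ h1).trans (le_of_eq ?_))
    exact CfsgLib.Coprime.commutator_inf_centralizer_eq_bot
      ⟨⟨fun a b => Subtype.ext (hQab a a.2 b b.2)⟩⟩ hHN hHQ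
  set M := N ⊓ Subgroup.normalizer (H : Set G)
  have hKM : ∀ g : G, ∃ m ∈ M, m⁻¹ * g ∈ K := by
    intro g
    obtain ⟨n, hn, k, hk, e⟩ : ∃ n ∈ N, ∃ k ∈ K, n * k = g := by
      have h1 : g ∈ ((N : Set G) * (K : Set G)) := by
        rw [← Subgroup.mul_normal, S.normalizer_sup_eq_top]; trivial
      exact h1
    have hconj : H.map (MulAut.conj n).toMonoidHom ≤ NK := by
      rintro _ ⟨a, ha, rfl⟩
      exact Subgroup.mem_inf.2 ⟨hKn.conj_mem a (hHNK ha).1 n,
        mul_mem (mul_mem hn (hHN ha)) (inv_mem hn)⟩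
    have hQn : Q.map (MulAut.conj n).toMonoidHom = Q := Subgroup.mem_normalizer_iff_map_conj_eq.1 hn
    obtain ⟨q, hq, hqe⟩ := CfsgLib.Coprime.exists_conj_eq_of_coprime (N := Q) (A := H)
      (B := H.map (MulAut.conj n).toMonoidHom) hHN (hconj.trans inf_le_right) (by
        refine (hsup.trans (le_antisymm ?_ (sup_le hQNK hconj))).symm.symm
        rw [← hsup]
        refine (Subgroup.eq_of_le_of_card_ge (hsup.symm ▸ sup_le hQNK hconj) ?_).ge
        rw [show Q ⊔ H.map (MulAut.conj n).toMonoidHom = (Q ⊔ H).map (MulAut.conj n).toMonoidHom by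
          rw [Subgroup.map_sup, hQn], Subgroup.card_map_of_injective (MulEquiv.injective _)])
      hHQ (by rw [Subgroup.card_map_of_injective (MulEquiv.injective _)]; exact hHQ)
      (Or.inr (Group.isSolvable_of_comm fun a b => Subtype.ext (hQab a a.2 b b.2)))
    refine ⟨q⁻¹ * n, Subgroup.mem_inf.2 ⟨mul_mem (inv_mem (Subgroup.le_normalizer hq)) hn, ?_⟩, ?_⟩
    · refine Subgroup.mem_normalizer_iff_map_conj_eq.2 ?_
      change H.map (MulAut.conj (q⁻¹ * n)).toMonoidHom = H
      have e1 : (MulAut.conj (q⁻¹ * n)).toMonoidHom =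
          (MulAut.conj q⁻¹).toMonoidHom.comp (MulAut.conj n).toMonoidHom := by
        ext x; simp [mul_assoc]
      rw [e1, ← Subgroup.map_map, hqe, Subgroup.map_map]
      convert Subgroup.map_id H
      ext x; simp [mul_assoc]
    · rw [← e]
      have h2 := mul_mem (hKn.conj_mem q (hQK hq) n⁻¹) hk
      convert h2 using 1
      group
  -- a Sylow subgroup of `M` is a complement
  let f : M →* G ⧸ K := (QuotientGroup.mk' K).comp M.subtype
  have hf : Function.Surjective f := by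
    intro x
    obtain ⟨g, rfl⟩ := QuotientGroup.mk'_surjective K x
    obtain ⟨m, hm, hmg⟩ := hKM g
    exact ⟨⟨m, hm⟩, QuotientGroup.eq.2 hmg⟩
  let T : Sylow p M := default
  have hT : (T : Subgroup M).map f = ⊤ := by
    have hGK : IsPGroup p (G ⧸ K) := CfsgLib.Transfer.isPGroup_quotient_of_pResidual_le le_rfl
    exact ((T.mapSurjective hf).3 (hGK.to_subgroup ⊤) le_top).symm
  set R := (T : Subgroup M).map M.subtype
  have hRK : R ⊓ K = ⊥ := by
    rw [eq_bot_iff]
    rintro x ⟨hxR, hxK⟩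
    obtain ⟨t, ht, rfl⟩ := hxR
    have hxQ : (t : G) ∈ Q := by
      have hx' : (t : G) ∈ NK := Subgroup.mem_inf.2 ⟨hxK, t.2.1⟩
      obtain ⟨k, hk⟩ := IsPGroup.iff_orderOf.1 (T.2.map M.subtype) ⟨(t : G), Subgroup.mem_map_of_mem _ ht⟩
      rw [← Subgroup.orderOf_coe] at hk
      have h1 : orderOf (QuotientGroup.mk' Q' (⟨(t : G), hx'⟩ : NK)) ∣ p ^ k := by
        rw [show (p ^ k) = orderOf (⟨(t : G), hx'⟩ : NK) from (hk.symm.trans (Subgroup.orderOf_coe (⟨(t : G), hx'⟩ : NK)))]
        exact orderOf_map_dvd _ _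
      have h2 : orderOf (QuotientGroup.mk' Q' (⟨(t : G), hx'⟩ : NK)) ∣ Q'.index := orderOf_dvd_natCard _
      have h3 := Nat.eq_one_of_dvd_coprimes ((hp.coprime_iff_not_dvd.2 hQ'p).pow_left k) h1 h2
      have h6 : (⟨(t : G), hx'⟩ : NK) ∈ Q' := (QuotientGroup.eq_one_iff _).1 (orderOf_eq_one_iff.1 h3)
      exact Subgroup.mem_subgroupOf.1 h6
    refine hfix ▸ Subgroup.mem_inf.2 ⟨hxQ, Subgroup.mem_centralizer_iff.2 fun u hu => ?_⟩
    have h4 : u * (t : G) * u⁻¹ * (t : G)⁻¹ ∈ Q ⊓ H := by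
      refine Subgroup.mem_inf.2 ⟨mul_mem ((Subgroup.mem_normalizer_iff.1 (hHN hu) _).1 hxQ)
        (inv_mem hxQ), ?_⟩
      have h5 := mul_mem hu ((Subgroup.mem_normalizer_iff.1 t.2.2 u⁻¹).1 (inv_mem hu))
      simpa [mul_assoc] using h5
    rw [hinf, Subgroup.mem_bot, mul_inv_eq_one, mul_inv_eq_iff_eq_mul] at h4
    exact h4
  refine ⟨R, Subgroup.isComplement'_of_disjoint_and_mul_eq_univ (disjoint_iff.2 hRK) ?_⟩
  rw [← Subgroup.mul_normal, ← Subgroup.coe_top, SetLike.coe_set_eq, eq_top_iff]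
  intro g _
  have h1 : QuotientGroup.mk' K g ∈ (T : Subgroup M).map f := hT ▸ Subgroup.mem_top _
  obtain ⟨t, ht, hte⟩ := h1
  have h2 : (t : G)⁻¹ * g ∈ K := QuotientGroup.eq.1 hte
  have := mul_mem (Subgroup.mem_sup_left (T := K) (Subgroup.mem_map_of_mem M.subtype ht))
    (Subgroup.mem_sup_right (S := R) h2)
  simpa using this


end Cfsg.Agent.S0092
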