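import Cfsg.Statements.S0097
import Cfsg.Agent.Lib.Transfer.Extraspecial

set_option autoImplicit false
open Cfsg

namespace Cfsg.Agent.S0097

/-- For odd p and E extraspecial, the subgroup generated by the elements of order dividing p has exponent dividing p and index at most p. -/
theorem result {E : Type*} [Group E] [Finite E] {p : ℕ} [Fact p.Prime] (hp : p ≠ 2) (h : Cfsg.IsExtraspecial p E) : (Subgroup.closure {x : E | x ^ p = 1}).index ≤ p ∧ ∀ g ∈ Subgroup.closure {x : E | x ^ p = 1}, g ^ p = 1 := by
  have hc := CfsgLib.Transfer.special_commutatorElement_mem_center h.1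
  let f : E →* Subgroup.center E :=
    { toFun := fun x => ⟨x ^ p, h.1.2.1 ▸ CfsgLib.Transfer.pow_mem_frattini h.1.1 x⟩
      map_one' := Subtype.ext (one_pow p)
      map_mul' := fun x y => Subtype.ext (CfsgLib.Transfer.mul_pow_prime_class_two hc Fact.out hp x y
        (CfsgLib.Transfer.special_commutatorElement_pow h.1 y x)) }
  refine ⟨?_, fun g hg => CfsgLib.Transfer.pow_eq_one_of_mem_closure_class_two Fact.out hp hc hg⟩
  have hle : f.ker ≤ Subgroup.closure {x : E | x ^ p = 1} := fun x hx =>
    Subgroup.subset_closure (congrArg Subtype.val (MonoidHom.mem_ker.1 hx))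
  refine (Nat.le_of_dvd (Nat.pos_of_ne_zero Subgroup.FiniteIndex.index_ne_zero)
    (Subgroup.index_dvd_of_le hle)).trans ?_
  rw [Subgroup.index_ker]
  exact (Subgroup.card_le_card_group f.range).trans h.2.le


end Cfsg.Agent.S0097
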