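import Cfsg.Statements.S0099
import Cfsg.Agent.Lib.Transfer.ExtraspecialIso

set_option autoImplicit false
open Cfsg

namespace Cfsg.Agent.S0099

/-- Among three extraspecial 2-groups of equal order, some two are isomorphic. -/
theorem result {E₁ : Type*} {E₂ : Type*} {E₃ : Type*} [Group E₁] [Group E₂] [Group E₃] [Finite E₁] [Finite E₂] [Finite E₃] (h₁ : Cfsg.IsExtraspecial 2 E₁) (h₂ : Cfsg.IsExtraspecial 2 E₂) (h₃ : Cfsg.IsExtraspecial 2 E₃) (h12 : Nat.card E₁ = Nat.card E₂) (h23 : Nat.card E₂ = Nat.card E₃) : Nonempty (E₁ ≃* E₂) ∨ Nonempty (E₂ ≃* E₃) ∨ Nonempty (E₁ ≃* E₃) := by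
  have h := CfsgLib.Transfer.esGood_two_of_three h₁ h₂ h₃ _ ⊤ ⊤ ⊤
    CfsgLib.Transfer.isEsGood_top CfsgLib.Transfer.isEsGood_top CfsgLib.Transfer.isEsGood_top rfl
    (by rw [Subgroup.card_top, Subgroup.card_top, h12])
    (by rw [Subgroup.card_top, Subgroup.card_top, h12, h23])
  rcases h with h | h | h <;> obtain ⟨e⟩ := h
  · exact Or.inl ⟨Subgroup.topEquiv.symm.trans (e.trans Subgroup.topEquiv)⟩
  · exact Or.inr (Or.inl ⟨Subgroup.topEquiv.symm.trans (e.trans Subgroup.topEquiv)⟩)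
  · exact Or.inr (Or.inr ⟨Subgroup.topEquiv.symm.trans (e.trans Subgroup.topEquiv)⟩)


end Cfsg.Agent.S0099
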