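import Cfsg.Statements.S0100
import Cfsg.Agent.Lib.Transfer.UniqueOrderP

set_option autoImplicit false
open Cfsg

namespace Cfsg.Agent.S0100

/-- For odd p, a p-group without normal elementary abelian subgroups of order p^3 has p-rank at most 2. -/
theorem result {P : Type*} [Group P] [Finite P] {p : ℕ} [Fact p.Prime] (hp : p ≠ 2) (hP : IsPGroup p P) (h : ∀ A : Subgroup P, A.Normal → IsMulCommutative A → (∀ a ∈ A, a ^ p = 1) → Nat.card A ≠ p ^ 3) (E : Subgroup P) (hE : IsMulCommutative E) (hEe : ∀ e ∈ E, e ^ p = 1) : Nat.card E ≤ p ^ 2 := by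
  classical
  have hp' := (Fact.out : p.Prime)
  obtain ⟨A, -, hA⟩ := Finite.exists_le_maximal
    (p := fun A : Subgroup P => A.Normal ∧ IsMulCommutative A ∧ ∀ a ∈ A, a ^ p = 1) (a := ⊥)
    ⟨inferInstance, inferInstance, fun a ha => by rw [Subgroup.mem_bot.1 ha, one_pow]⟩
  obtain ⟨hAn, hAc, hAe⟩ := hA.prop
  obtain ⟨j, hj⟩ := (hP.to_subgroup A).exists_card_eq
  have hj2 : j ≤ 2 := by
    by_contra hj3
    obtain ⟨M, hMn, hMA, hM⟩ := CfsgLib.Transfer.exists_normal_le_card hP A (k := 3)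
      (hj ▸ pow_dvd_pow p (by omega : 3 ≤ j))
    exact h M hMn ⟨⟨fun a b => Subtype.ext (congrArg Subtype.val
      (hAc.is_comm.comm ⟨a, hMA a.2⟩ ⟨b, hMA b.2⟩) :)⟩⟩ (fun a ha => hAe a (hMA ha)) hM
  set C := Subgroup.centralizer (A : Set P)
  have hEC : E ⊓ C ≤ A := fun x hx => CfsgLib.Transfer.mem_of_maximal_normal_abelian_exponent hP 1
    (by simpa using hp) A (by simpa using hAe)
    (fun B hBn hBc hBe hAB => le_antisymm (hA.le_of_ge ⟨hBn, hBc, by simpa using hBe⟩ hAB) hAB)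
    hx.2 (by simpa using hEe x hx.1)
  have hi : C.index ≤ p ^ 1 := (CfsgLib.Transfer.index_centralizer_le_of_normal hP j A hj).trans
    (Nat.pow_le_pow_right hp'.pos (by interval_cases j <;> norm_num))
  by_contra hlt
  rw [not_le] at hlt
  have hcard : Nat.card (E ⊓ C : Subgroup P) * C.relIndex E = Nat.card E := by
    rw [← Subgroup.inf_relIndex_left, ← Subgroup.relIndex_bot_left, ← Subgroup.relIndex_bot_left]
    exact Subgroup.relIndex_mul_relIndex _ _ _ bot_le inf_le_left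
  have hr : C.relIndex E ≤ p ^ 1 :=
    le_trans (Nat.le_of_dvd (Nat.pos_of_ne_zero Subgroup.index_ne_zero_of_finite)
      (Subgroup.relIndex_dvd_index_of_normal C E)) hi
  obtain ⟨a, ha⟩ := (hP.to_subgroup (E ⊓ C : Subgroup P)).exists_card_eq
  obtain ⟨e, he⟩ := (hP.to_subgroup E).exists_card_eq
  have h3 : p ^ 3 ≤ Nat.card E := by
    rw [he] at hlt ⊢
    exact Nat.pow_le_pow_right hp'.pos ((Nat.pow_lt_pow_iff_right hp'.one_lt).1 hlt)
  have hle : Nat.card (E ⊓ C : Subgroup P) ≤ Nat.card A := Subgroup.card_le_of_le hEC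
  have hA2 : Nat.card A ≤ p ^ 2 := hj ▸ Nat.pow_le_pow_right hp'.pos hj2
  have heq : E ⊓ C = A := by
    refine Subgroup.eq_of_le_of_card_ge hEC ?_
    by_contra hlt'
    have h4 : p ^ 3 < p ^ 2 * p ^ 1 :=
      calc p ^ 3 ≤ Nat.card (E ⊓ C : Subgroup P) * C.relIndex E := hcard ▸ h3
        _ ≤ Nat.card (E ⊓ C : Subgroup P) * p ^ 1 := Nat.mul_le_mul_left _ hr
        _ < p ^ 2 * p ^ 1 := Nat.mul_lt_mul_of_pos_right
            (lt_of_lt_of_le (not_le.1 hlt') hA2) (pow_pos hp'.pos 1)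
    exact lt_irrefl _ (by rwa [← pow_add] at h4)
  have hAE : A ≤ E := heq ▸ inf_le_left
  have hE' : E ≤ C := fun x hx => Subgroup.mem_centralizer_iff.2 fun b hb =>
    congrArg Subtype.val (hE.is_comm.comm ⟨b, hAE hb⟩ ⟨x, hx⟩)
  rw [inf_eq_left.2 hE'] at heq
  rw [heq] at hlt
  omega


end Cfsg.Agent.S0100
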