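import Cfsg.Statements.S0101
import Cfsg.Agent.Lib.Transfer.ClassTwo

set_option autoImplicit false
open Cfsg

namespace Cfsg.Agent.S0101

/-- In a perfect central extension, the kernel meets each Sylow p-subgroup P inside the Frattini subgroup of P. -/
theorem result {H : Type*} {G : Type*} [Group H] [Group G] [Finite H] (σ : H →* G) (hσ : Function.Surjective σ) (hc : σ.ker ≤ Subgroup.center H) (hH : commutator H = ⊤) {p : ℕ} [Fact p.Prime] (P : Sylow p H) : σ.ker ⊓ (P : Subgroup H) ≤ (frattini P).map (P : Subgroup H).subtype := by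
  intro z hz
  obtain ⟨hzk, hzP⟩ := Subgroup.mem_inf.1 hz
  refine Subgroup.mem_map.2 ⟨⟨z, hzP⟩, ?_, rfl⟩
  rw [frattini, Order.radical, Subgroup.mem_iInf]
  intro M
  rw [Subgroup.mem_iInf]
  intro hM
  obtain ⟨hMn, hMi⟩ := CfsgLib.Transfer.coatom_index_eq_prime P.2 hM
  have : IsCyclic (↥(P : Subgroup H) ⧸ M) :=
    isCyclic_of_prime_card (p := p) (by rw [← Subgroup.index_eq_card]; exact hMi)
  let e : Multiplicative (ZMod (Nat.card (↥(P : Subgroup H) ⧸ M))) ≃* (↥(P : Subgroup H) ⧸ M) :=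
    zmodCyclicMulEquiv this
  let φ := e.symm.toMonoidHom.comp (QuotientGroup.mk' M)
  have hkey : ∀ (k : ℕ) (g₀ : H), g₀⁻¹ * z ^ k * g₀ ∈ (P : Subgroup H) →
      g₀⁻¹ * z ^ k * g₀ = z ^ k := by
    intro k g₀ _
    rw [mul_assoc, ← Subgroup.mem_center_iff.1 (pow_mem (hc hzk) k) g₀, inv_mul_cancel_left]
  have h1 : φ.transfer z = 1 := by
    have h2 : commutator H ≤ φ.transfer.ker := Abelianization.commutator_subset_ker _
    exact h2 (hH ▸ Subgroup.mem_top z)
  rw [MonoidHom.transfer_eq_pow φ z hkey] at h1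
  have h3 : (⟨z, hzP⟩ : (P : Subgroup H)) ^ (P : Subgroup H).index ∈ M := by
    rw [← QuotientGroup.eq_one_iff]
    apply e.symm.injective
    rw [map_one]
    exact h1
  have h4 : (⟨z, hzP⟩ : (P : Subgroup H)) ^ p ∈ M := by
    have h5 := Subgroup.pow_index_mem M (⟨z, hzP⟩ : (P : Subgroup H))
    rwa [hMi] at h5
  have hcop : Nat.Coprime (P : Subgroup H).index p :=
    ((Fact.out : p.Prime).coprime_iff_not_dvd.2 P.not_dvd_index).symm
  rw [← QuotientGroup.eq_one_iff] at h3 h4 ⊢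
  rw [QuotientGroup.mk_pow] at h3 h4
  have h6 := orderOf_dvd_of_pow_eq_one h3
  have h7 := orderOf_dvd_of_pow_eq_one h4
  exact orderOf_eq_one_iff.1 (Nat.eq_one_of_dvd_coprimes hcop h6 h7)


end Cfsg.Agent.S0101
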