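import Cfsg.Statements.S0104
import Cfsg.Agent.Lib.Transfer.Focal

set_option autoImplicit false
open Cfsg

namespace Cfsg.Agent.S0104

/-- A subgroup Z of a Sylow p-subgroup P that is normalized by N_G(P) is weakly closed in P exactly when it is normal in every Sylow p-subgroup containing it. -/
theorem result {G : Type*} [Group G] [Finite G] {p : ℕ} [Fact p.Prime] (P : Sylow p G) (Z : Subgroup G) (hZP : Z ≤ (P : Subgroup G)) (hZN : Subgroup.normalizer (P : Set G) ≤ Subgroup.normalizer (Z : Set G)) : Cfsg.IsWeaklyClosed Z P ↔ ∀ R : Sylow p G, Z ≤ (R : Subgroup G) → (R : Subgroup G) ≤ Subgroup.normalizer (Z : Set G) := by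
  constructor
  · intro hW R hR
    obtain ⟨a, rfl⟩ := MulAction.exists_smul_eq G P R
    have ha : a⁻¹ ∈ Subgroup.normalizer (Z : Set G) := by
      refine Subgroup.mem_normalizer_iff_map_conj_eq.2 (hW.2 _ ?_)
      rintro _ ⟨z, hz, rfl⟩
      have : z ∈ a • P := hR hz
      rw [CfsgLib.Transfer.sylow_smul_mem_iff] at this
      simp only [MulEquiv.coe_toMonoidHom, MulAut.conj_apply, inv_inv]
      exact this
    intro x hx
    have hx' : x ∈ a • P := hx
    rw [CfsgLib.Transfer.sylow_smul_mem_iff] at hx'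
    have h := hZN (Subgroup.le_normalizer hx')
    have := mul_mem (mul_mem (inv_mem ha) h) ha
    simpa [mul_assoc] using this
  · intro h
    refine ⟨hZP, fun g hg => ?_⟩
    have h1 : (P : Subgroup G) ≤ Subgroup.normalizer (Z : Set G) :=
      (Subgroup.le_normalizer).trans hZN
    have hR : Z ≤ ((g⁻¹ • P : Sylow p G) : Subgroup G) := by
      intro z hz
      change z ∈ g⁻¹ • P
      rw [CfsgLib.Transfer.sylow_smul_mem_iff, inv_inv]
      exact hg ⟨z, hz, by simp⟩
    have h2 := h _ hR
    obtain ⟨c, hc⟩ := MulAction.exists_smul_eq (Subgroup.normalizer (Z : Set G))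
      (P.subtype h1) ((g⁻¹ • P).subtype h2)
    rw [Sylow.smul_subtype] at hc
    have hc' : (c : G) • P = g⁻¹ • P := Sylow.subtype_injective hc
    have hn : g * (c : G) ∈ Subgroup.normalizer (P : Set G) :=
      Sylow.smul_eq_iff_mem_normalizer.1 (by rw [mul_smul, hc', smul_inv_smul])
    have hgm : g ∈ Subgroup.normalizer (Z : Set G) := by
      have := mul_mem (hZN hn) (inv_mem c.2)
      simpa using this
    exact Subgroup.mem_normalizer_iff_map_conj_eq.1 hgm


end Cfsg.Agent.S0104
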