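import Cfsg.Statements.S0109
import Cfsg.Agent.Lib.Complement.QuadSolvable
import Cfsg.Agent.Lib.OddLocal.Replace
import Cfsg.Agent.Lib.Solvable.PCore
import Cfsg.Agent.Lib.PLocal.Sylow
import Cfsg.Agent.Lib.Solvable.HallHigman

set_option autoImplicit false
open Cfsg

namespace Cfsg.Agent.S0109

/-- The Thompson factorization Theorem for solvable groups states that, with p odd (and abelian Sylow 2-subgroups when p = 3) and no nontrivial normal subgroup of order prime to p, every element of G is a product of an element normalizing J(P) and an element centralizing the elements of order dividing p in the centre of P. -/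
theorem result {G : Type*} [Group G] [Finite G] {p : ℕ} [Fact p.Prime] (hp : p ≠ 2) (hs : Group.IsSolvable G) (h3 : p = 3 → ∀ T : Sylow 2 G, IsMulCommutative T) (hF : ∀ N : Subgroup G, N.Normal → Nat.Coprime (Nat.card N) p → N = ⊥) (P : Sylow p G) (g : G) : ∃ a ∈ Subgroup.normalizer (Cfsg.thompsonSubgroupOf p (P : Subgroup G) : Set G), ∃ c ∈ Subgroup.centralizer {x : G | x ∈ (P : Subgroup G) ∧ (∀ y ∈ (P : Subgroup G), x * y = y * x) ∧ x ^ p = 1}, g = a * c := by
  have := hs
  classical
  set Z : Set G := {x : G | x ∈ (P : Subgroup G) ∧ (∀ y ∈ (P : Subgroup G), x * y = y * x) ∧ x ^ p = 1}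
  have hpp : IsPGroup p (P : Subgroup G) := P.2
  have hO : Cfsg.pPrimeCore p G = ⊥ := by
    unfold Cfsg.pPrimeCore
    exact sSup_eq_bot.mpr fun N hN => hF N hN.1 hN.2
  set U := Cfsg.pCore p G with hU
  have hUn : U.Normal := CfsgLib.Solvable.pCore_normal p G
  have hUP : U ≤ P := CfsgLib.Solvable.pCore_le_sylow P
  have hCU : Subgroup.centralizer (U : Set G) ≤ U := CfsgLib.Solvable.centralizer_pCore_le p hO
  -- the elements of order dividing `p` in `Z(U)`
  have hcomm : ∀ x ∈ U, x ∈ Subgroup.centralizer (U : Set G) → ∀ y ∈ U, y * x = x * y :=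
    fun x _ hx y hy => Subgroup.mem_centralizer_iff.mp hx y hy
  let W : Subgroup G :=
    { carrier := {x | x ∈ U ∧ x ∈ Subgroup.centralizer (U : Set G) ∧ x ^ p = 1}
      one_mem' := ⟨U.one_mem, Subgroup.one_mem _, one_pow p⟩
      mul_mem' := fun {x y} hx hy => ⟨U.mul_mem hx.1 hy.1, Subgroup.mul_mem _ hx.2.1 hy.2.1, by
        rw [(show Commute x y from hcomm y hy.1 hy.2.1 x hx.1).mul_pow, hx.2.2, hy.2.2, one_mul]⟩
      inv_mem' := fun {x} hx => ⟨U.inv_mem hx.1, Subgroup.inv_mem _ hx.2.1, by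
        rw [inv_pow, hx.2.2, inv_one]⟩ }
  have hWn : W.Normal := ⟨fun x hx h => ⟨hUn.conj_mem x hx.1 h,
    (Subgroup.normal_centralizer (H := U)).conj_mem x hx.2.1 h, by rw [conj_pow, hx.2.2]; group⟩⟩
  have hZW : Z ⊆ W := fun x hx => by
    have hxc : x ∈ Subgroup.centralizer (U : Set G) :=
      Subgroup.mem_centralizer_iff.mpr fun y hy => (hx.2.1 y (hUP hy)).symm
    exact ⟨hCU hxc, hxc, hx.2.2⟩
  set V := Subgroup.normalClosure Z
  have hVW : V ≤ W := Subgroup.normalClosure_le_normal hZW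
  have hVP : V ≤ P := fun x hx => hUP (hVW hx).1
  have hVc : IsMulCommutative V := isMulCommutative_iff.mpr fun x y => Subtype.ext
    (hcomm y (hVW y.2).1 (hVW y.2).2.1 x (hVW x.2).1)
  have hVp : ∀ m ∈ V, m ^ p = 1 := fun m hm => (hVW hm).2.2
  set C := Subgroup.centralizer (V : Set G) with hC
  have hCn : C.Normal := Subgroup.normal_centralizer
  have hCZ : C ≤ Subgroup.centralizer Z := Subgroup.centralizer_le Subgroup.subset_normalClosure
  have hOp : Cfsg.pCore p (G ⧸ C) = ⊥ := by
    set f := QuotientGroup.mk' C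
    have hf : Function.Surjective f := QuotientGroup.mk'_surjective C
    have hle : Cfsg.pCore p (G ⧸ C) ≤ (P : Subgroup G).map f :=
      CfsgLib.Solvable.pCore_le_sylow (P.mapSurjective hf)
    set K := (Cfsg.pCore p (G ⧸ C)).comap f with hK
    have hKn : K.Normal := (CfsgLib.Solvable.pCore_normal p (G ⧸ C)).comap f
    have hKZ : K ≤ Subgroup.centralizer Z := by
      intro y hy
      obtain ⟨x, hx, hxy⟩ := hle hy
      have hc : x⁻¹ * y ∈ C := QuotientGroup.eq.mp hxy
      have hxZ : x ∈ Subgroup.centralizer Z :=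
        Subgroup.mem_centralizer_iff.mpr fun z hz => hz.2.1 x hx
      simpa using Subgroup.mul_mem _ hxZ (hCZ hc)
    have hCKn : (Subgroup.centralizer (K : Set G)).Normal := Subgroup.normal_centralizer
    have hVK : V ≤ Subgroup.centralizer (K : Set G) := Subgroup.normalClosure_le_normal fun z hz =>
      Subgroup.mem_centralizer_iff.mpr fun y hy => ((Subgroup.mem_centralizer_iff.mp (hKZ hy)) z hz).symm
    have hKC : K ≤ C := Subgroup.le_centralizer_iff.mp hVK
    rw [eq_bot_iff]
    intro q hq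
    obtain ⟨y, rfl⟩ := hf q
    exact (QuotientGroup.eq_one_iff y).mpr (hKC hq)
  have h2 : p = 3 → ∀ Q : Subgroup G, IsPGroup 2 Q → IsMulCommutative Q := by
    intro h Q hQ
    have : Fact (Nat.Prime 2) := ⟨Nat.prime_two⟩
    obtain ⟨T, hT⟩ := hQ.exists_le_sylow
    exact isMulCommutative_iff.mpr fun x y => Subtype.ext (congrArg Subtype.val
      ((h3 h T).is_comm.comm ⟨(x : G), hT x.2⟩ ⟨(y : G), hT y.2⟩) :)
  have hodd : Odd p := (Fact.out : p.Prime).odd_of_ne_two hp
  -- every elementary abelian subgroup of largest order of `P` centralizes `V`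
  have hAC : ∀ A ∈ CfsgLib.PLocal.maxElemIn p (P : Subgroup G), A ≤ C := by
    by_contra hcon
    push Not at hcon
    obtain ⟨A, ⟨hA, hAn⟩, hmax⟩ := Set.Finite.exists_maximalFor
      (fun A : Subgroup G => Nat.card ↥(A ⊓ V))
      {A | A ∈ CfsgLib.PLocal.maxElemIn p (P : Subgroup G) ∧ ¬ A ≤ C} (Set.toFinite _) hcon
    by_cases hN : V ≤ Subgroup.normalizer (A : Set G)
    · apply hAn
      intro a ha
      refine CfsgLib.Complement.quadratic_mem_centralizer_of_pCore_eq_bot hp h2 V hVp hOp ?_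
      intro m hm
      have hz : a * m * a⁻¹ * m⁻¹ ∈ A := by
        have := A.mul_mem ha ((Subgroup.mem_normalizer_iff.mp (hN hm) a⁻¹).mp (A.inv_mem ha))
        simpa [mul_assoc] using this
      have := congrArg Subtype.val (hA.2.1.1.is_comm.comm (⟨a, ha⟩ : A) ⟨_, hz⟩)
      exact mul_inv_eq_iff_eq_mul.mpr this
    · have hVV : ∀ x ∈ V, ∀ y ∈ V, x * y * x⁻¹ * y⁻¹ = 1 := fun x hx y hy => by
        rw [show x * y = y * x from congrArg Subtype.val (hVc.is_comm.comm (⟨x, hx⟩ : V) ⟨y, hy⟩),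
          mul_inv_cancel_right, mul_inv_cancel]
      obtain ⟨A', hA', hA'N, hlt⟩ := CfsgLib.OddLocal.elementary_replacement hodd hpp hA hVP
        (by rw [Subgroup.normalizer_eq_top_iff.mpr inferInstance]; exact le_top) hVp
        (fun x hx y hy z _ => by rw [hVV x hx y hy]; exact Commute.one_right z)
        (fun x hx y hy a _ => by rw [hVV x hx y hy]; exact Commute.one_right a) hN
      by_cases hA'C : A' ≤ C
      · apply hN
        have hel : Cfsg.IsElementaryAbelian p (A' ⊔ V) :=
          CfsgLib.PLocal.elemAb_sup hA'.2.1 ⟨hVc, hVp⟩ hA'C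
        have hcard := hA'.2.2 _ (sup_le hA'.1 hVP) hel
        have heq := Subgroup.eq_of_le_of_card_ge le_sup_left hcard
        exact (le_sup_right.trans heq.ge).trans hA'N
      · exact absurd (hmax ⟨hA', hA'C⟩ hlt.le) (not_le.mpr hlt)
  -- Frattini argument
  set R := (P : Subgroup G) ⊓ C
  have hJR : Cfsg.thompsonSubgroupOf p (P : Subgroup G) ≤ R := by
    rw [CfsgLib.PLocal.thompsonOf_eq]
    exact sSup_le fun A hA => le_inf hA.1 (hAC A hA)
  have hNJ : Subgroup.normalizer (R : Set G) ≤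
      Subgroup.normalizer (Cfsg.thompsonSubgroupOf p (P : Subgroup G) : Set G) := by
    rw [← CfsgLib.PLocal.thompsonOf_eq_of_le hJR inf_le_left]
    exact CfsgLib.PLocal.normalizer_le_normalizer_thompsonOf R
  obtain ⟨c, hc, a, ha, rfl⟩ := CfsgLib.PLocal.frattini_mul P C g
  refine ⟨a, hNJ ha, a⁻¹ * c * a, hCZ ?_, by group⟩
  simpa using hCn.conj_mem c hc a⁻¹

end Cfsg.Agent.S0109
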