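import Cfsg.Statements.S0110
import Cfsg.Agent.Lib.Transfer.Extraspecial

set_option autoImplicit false
open scoped commutatorElement Pointwise
open Cfsg

namespace Cfsg.Agent.S0110

/-- In a p-group G, an extraspecial subgroup E with [G, E] ≤ Z(E) satisfies G = E C_G(E). -/
theorem result {G : Type*} [Group G] [Finite G] {p : ℕ} [Fact p.Prime] (hG : IsPGroup p G) (E : Subgroup G) (hE : Cfsg.IsExtraspecial p E) (h : ⁅(⊤ : Subgroup G), E⁆ ≤ E ⊓ Subgroup.centralizer (E : Set G)) : E ⊔ Subgroup.centralizer (E : Set G) = ⊤ := by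
  refine top_le_iff.1 fun g _ => ?_
  have hcen : ∀ e : E, (⁅g, (e : G)⁆) ∈ E ⊓ Subgroup.centralizer (E : Set G) := fun e =>
    h (Subgroup.commutator_mem_commutator (Subgroup.mem_top g) e.2)
  have hmem : ∀ e : E, (⟨⁅g, (e : G)⁆, (hcen e).1⟩ : E) ∈ Subgroup.center E := fun e =>
    Subgroup.mem_center_iff.2 fun k => Subtype.ext
      (Subgroup.mem_centralizer_iff.1 (hcen e).2 k k.2)
  let c : E →* Subgroup.center E :=
    { toFun := fun e => ⟨_, hmem e⟩
      map_one' := Subtype.ext (Subtype.ext (commutatorElement_one_right g))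
      map_mul' := fun a b => Subtype.ext (Subtype.ext (by
        change ⁅g, (a : G) * b⁆ = ⁅g, (a : G)⁆ * ⁅g, (b : G)⁆
        have hk := Subgroup.mem_centralizer_iff.1 (hcen b).2 a a.2
        calc ⁅g, (a : G) * b⁆ = ⁅g, (a : G)⁆ * ((a : G) * ⁅g, (b : G)⁆ * (a : G)⁻¹) := by
              simp only [commutatorElement_def]; group
          _ = _ := by rw [hk, mul_inv_cancel_right])) }
  have hker : Subgroup.center E ≤ c.ker := by
    open scoped IsMulCommutative in
    exact hE.1.2.2.ge.trans (Abelianization.commutator_subset_ker c)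
  obtain ⟨e, he⟩ := CfsgLib.Transfer.extraspecial_exists_commutator_eq hE c hker
  have hg : (e : G)⁻¹ * g ∈ Subgroup.centralizer (E : Set G) := by
    rw [Subgroup.mem_centralizer_iff]
    intro k hk
    have h1 : ⁅g, k⁆ = ⁅(e : G), k⁆ := congrArg Subtype.val (he ⟨k, hk⟩)
    have h2 : g * k * g⁻¹ = (e : G) * k * (e : G)⁻¹ := by
      simpa [commutatorElement_def] using h1
    have h3 := congrArg (fun v => (e : G)⁻¹ * v * g) h2
    simpa [mul_assoc] using h3.symm
  have := Subgroup.mul_mem_sup e.2 hg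
  rwa [mul_inv_cancel_left] at this


end Cfsg.Agent.S0110
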