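import Cfsg.Statements.S0115
import Cfsg.Agent.Lib.Transfer.MaxClassTwo

set_option autoImplicit false
open Cfsg

namespace Cfsg.Agent.S0115

/-- A 2-group of order 2^n, n ≥ 3, is of maximal class exactly when its commutator quotient is a Klein four-group. -/
theorem result {X : Type*} [Group X] [Finite X] (n : ℕ) (hn : 3 ≤ n) (hX : Nat.card X = 2 ^ n) : Group.nilpotencyClass X = n - 1 ↔ IsKleinFour (X ⧸ commutator X) := by
  constructor
  · intro hc
    obtain ⟨h4, hsq⟩ := CfsgLib.Transfer.commutator_index_four_of_maxClass hn hX hc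
    have hcard : Nat.card (X ⧸ commutator X) = 4 := (Subgroup.index_eq_card _).symm.trans h4
    have : Nontrivial (X ⧸ commutator X) :=
      Finite.one_lt_card_iff_nontrivial.1 (by rw [hcard]; norm_num)
    refine ⟨hcard, (Nat.prime_two.eq_one_or_self_of_dvd _ ?_).resolve_left
      fun e => (not_subsingleton (X ⧸ commutator X)) (Monoid.exp_eq_one_iff.1 e)⟩
    refine Monoid.exponent_dvd_of_forall_pow_eq_one fun q => ?_
    obtain ⟨x, rfl⟩ := QuotientGroup.mk'_surjective _ q
    rw [sq, ← map_mul]
    exact (QuotientGroup.eq_one_iff _).2 (hsq x)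
  · intro hK
    refine CfsgLib.Transfer.maxClass_of_commutator hn hX ((Subgroup.index_eq_card _).trans hK.card_four) fun x => ?_
    rw [← QuotientGroup.eq_one_iff, QuotientGroup.mk_mul]
    exact IsKleinFour.mul_self _


end Cfsg.Agent.S0115
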