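import Cfsg.Statements.S0123
import Cfsg.Agent.Lib.Transfer.ClassThree

set_option autoImplicit false
open scoped commutatorElement Pointwise
open Cfsg

namespace Cfsg.Agent.S0123

/-- For a p-group of small class relative to p (class ≤ 2 with p odd, or class ≤ 3 with p > 3) whose derived subgroup is generated by elements of order dividing p, the p-th power map is multiplicative. -/
theorem result {R : Type*} [Group R] [Finite R] {p : ℕ} [Fact p.Prime] (hR : IsPGroup p R) (hcl : (p ≠ 2 ∧ ⁅commutator R, (⊤ : Subgroup R)⁆ = ⊥) ∨ (3 < p ∧ ⁅⁅commutator R, (⊤ : Subgroup R)⁆, (⊤ : Subgroup R)⁆ = ⊥)) (hder : commutator R ≤ Subgroup.closure {x : R | x ^ p = 1}) (x y : R) : (x * y) ^ p = x ^ p * y ^ p := by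
  have hp := (Fact.out : p.Prime)
  have hcom : ∀ a b : R, ⁅a, b⁆ ∈ Subgroup.closure {x : R | x ^ p = 1} := fun a b =>
    hder (Subgroup.commutator_mem_commutator (Subgroup.mem_top a) (Subgroup.mem_top b))
  rcases hcl with ⟨hp2, h2⟩ | ⟨hp3, h3⟩
  · have hc := CfsgLib.Transfer.commutatorElement_mem_center_of_class_two h2
    exact CfsgLib.Transfer.mul_pow_prime_class_two hc hp hp2 x y
      (CfsgLib.Transfer.pow_eq_one_of_mem_closure_class_two hp hp2 hc (hcom y x))
  · have hc := CfsgLib.Transfer.commutatorElement_mem_center_of_class_three h3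
    have h1 : ∀ a b : R, ⁅a, b⁆ ^ p = 1 := fun a b =>
      CfsgLib.Transfer.pow_eq_one_of_mem_closure_class_three hp hp3 hc (hcom a b)
    rw [CfsgLib.Transfer.mul_pow_class_three (hc y x x) (hc y x y)]
    obtain ⟨k, hk⟩ := Nat.Prime.dvd_choose_self hp (k := 2) (by norm_num) (by omega)
    obtain ⟨l, hl⟩ : p ∣ (p + 1).choose 3 := by
      have h2 : (p + 1).choose 3 = p.choose 2 + p.choose 3 := Nat.choose_succ_succ p 2
      rw [h2]
      exact dvd_add ⟨k, hk⟩ (Nat.Prime.dvd_choose_self hp (by norm_num) hp3)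
    rw [hk, hl, pow_mul, h1, pow_mul, h1, show 2 * (p * l) = p * (2 * l) by ring, pow_mul, h1]
    simp


end Cfsg.Agent.S0123
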