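import Cfsg.Statements.S0125
import Cfsg.Agent.Lib.Transfer.Frobenius

set_option autoImplicit false
open scoped commutatorElement Pointwise
open Cfsg

namespace Cfsg.Agent.S0125

/-- The centralizer of a self-centralizing normal subgroup A of a Sylow p-subgroup is the direct product of A with a normal p'-subgroup. -/
theorem result {G : Type*} [Group G] [Finite G] {p : ℕ} [Fact p.Prime] (R : Sylow p G) (A : Subgroup G) (hAR : A ≤ (R : Subgroup G)) (hAn : (R : Subgroup G) ≤ Subgroup.normalizer (A : Set G)) (hC : (R : Subgroup G) ⊓ Subgroup.centralizer (A : Set G) = A) : ∃ H : Subgroup G, H ≤ Subgroup.centralizer (A : Set G) ∧ Nat.Coprime (Nat.card H) p ∧ Subgroup.centralizer (A : Set G) ≤ Subgroup.normalizer (H : Set G) ∧ H ⊓ A = ⊥ ∧ H ⊔ A = Subgroup.centralizer (A : Set G) := by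
  set N := Subgroup.normalizer (A : Set G) with hN
  set C := Subgroup.centralizer (A : Set G) with hC'
  have hCN : C ≤ N := Subgroup.centralizer_le_normalizer _
  have hCn : (C.subgroupOf N).Normal := Subgroup.normal_subgroupOf_centralizer_normalizer _
  let R' := R.subtype hAn
  obtain ⟨S, hS⟩ := CfsgLib.Transfer.exists_sylow_eq_subgroupOf R' (C.subgroupOf N)
  have hmem : ∀ c : C.subgroupOf N, c ∈ S ↔ ((c : N) : G) ∈ A := by
    intro c
    change c ∈ (S : Subgroup (C.subgroupOf N)) ↔ _
    rw [hS]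
    refine ⟨fun hc => hC ▸ Subgroup.mem_inf.2 ⟨hc, c.2⟩, fun hc => hAR hc⟩
  have hcomp : Cfsg.HasNormalPComplement p (C.subgroupOf N) := by
    refine CfsgLib.Transfer.hasNormalPComplement_of_normalizer_le_centralizer S fun g _ => ?_
    rw [Subgroup.mem_centralizer_iff]
    intro s hs
    exact Subtype.ext (Subtype.ext
      (Subgroup.mem_centralizer_iff.1 (show ((g : N) : G) ∈ C from g.2) _ ((hmem s).1 hs)))
  have hbot := (CfsgLib.Transfer.hasNormalPComplement_iff_pResidual_inf_eq_bot S).1 hcomp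
  have hcop := CfsgLib.Transfer.hasNormalPComplement_iff_coprime_pResidual.1 hcomp
  have hsup := CfsgLib.Transfer.pResidual_sup_sylow S
  have hch := CfsgLib.Transfer.pResidual_characteristic (G := C.subgroupOf N) (p := p)
  let K := (Cfsg.pResidual p (C.subgroupOf N)).map (C.subgroupOf N).subtype
  have hKn : K.Normal := ConjAct.normal_of_characteristic_of_normal
  refine ⟨K.map N.subtype, ?_, ?_, ?_, ?_, ?_⟩
  · rintro _ ⟨_, ⟨k, -, rfl⟩, rfl⟩
    exact k.2
  · rwa [Subgroup.card_map_of_injective N.subtype_injective,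
      Subgroup.card_map_of_injective (C.subgroupOf N).subtype_injective]
  · intro c hc
    refine Subgroup.mem_normalizer_iff_map_conj_eq.2 ?_
    rw [Subgroup.map_map]
    have e : ((MulAut.conj c) : G →* G).comp N.subtype =
        N.subtype.comp ((MulAut.conj (⟨c, hCN hc⟩ : N)) : N →* N) := MonoidHom.ext fun x => rfl
    rw [e, ← Subgroup.map_map, Subgroup.mem_normalizer_iff_map_conj_eq.1
      (show (⟨c, hCN hc⟩ : N) ∈ Subgroup.normalizer (K : Set N) by
        rw [Subgroup.normalizer_eq_top]; trivial)]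
  · rw [eq_bot_iff]
    rintro _ ⟨⟨_, ⟨k, hk, rfl⟩, rfl⟩, hA'⟩
    have : k ∈ Cfsg.pResidual p (C.subgroupOf N) ⊓ (S : Subgroup _) := ⟨hk, (hmem k).2 hA'⟩
    rw [hbot, Subgroup.mem_bot] at this
    subst this
    exact Subgroup.one_mem _
  · refine le_antisymm (sup_le ?_ ?_) fun c hc => ?_
    · rintro _ ⟨_, ⟨k, -, rfl⟩, rfl⟩
      exact k.2
    · exact hC ▸ inf_le_right
    · open scoped Pointwise in
      have h1 : (⟨⟨c, hCN hc⟩, hc⟩ : C.subgroupOf N) ∈
          ((Cfsg.pResidual p (C.subgroupOf N)) : Set (C.subgroupOf N)) *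
            ((S : Subgroup (C.subgroupOf N)) : Set (C.subgroupOf N)) := by
        have := CfsgLib.Transfer.pResidual_normal (G := C.subgroupOf N) (p := p)
        rw [← Subgroup.normal_mul, hsup]; trivial
      obtain ⟨k, hk, s, hs, hks⟩ := h1
      rw [show c = ((k : N) : G) * ((s : N) : G) from (congrArg (fun v : C.subgroupOf N => ((v : N) : G)) hks).symm]
      exact Subgroup.mul_mem_sup ⟨k, ⟨k, hk, rfl⟩, rfl⟩ ((hmem s).1 hs)


end Cfsg.Agent.S0125
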