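import Cfsg.Statements.S0129
import Cfsg.Agent.Lib.Transfer.PGroupNormal

set_option autoImplicit false
open Cfsg

namespace Cfsg.Agent.S0129

/-- The order of a p-group is bounded by p^(a(a+1)/2) when it has a maximal normal abelian subgroup of order p^a. -/
theorem result {G : Type*} [Group G] [Finite G] {p : ℕ} [Fact p.Prime] (hG : IsPGroup p G) (A : Subgroup G) [A.Normal] (hA : IsMulCommutative A) (hmax : ∀ B : Subgroup G, B.Normal → IsMulCommutative B → A ≤ B → B = A) (a : ℕ) (ha : Nat.card A = p ^ a) : Nat.card G ≤ p ^ (a * (a + 1) / 2) := by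
  have h1 := CfsgLib.Transfer.index_centralizer_le_of_normal hG a A ha
  rw [CfsgLib.Transfer.centralizer_eq_of_maximal_normal_abelian hG A hmax] at h1
  rw [← A.card_mul_index, ha]
  refine (Nat.mul_le_mul_left _ h1).trans ?_
  rw [← pow_add]
  refine Nat.pow_le_pow_right (Fact.out : p.Prime).pos (le_of_eq ?_)
  rcases a with _ | a
  · rfl
  · rw [show (a + 1) * (a + 1 + 1) = (a + 1) * (a + 1 - 1) + 2 * (a + 1) by
      simp only [Nat.add_sub_cancel]; ring, Nat.add_mul_div_left _ _ (by norm_num)]
    ring


end Cfsg.Agent.S0129
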