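import Cfsg.Statements.S0131
import Cfsg.Agent.Lib.Transfer.Focal

set_option autoImplicit false
open Cfsg

namespace Cfsg.Agent.S0131

/-- P/P' has a normal complement in G exactly when the focal subgroup G' ∩ P is as small as possible, namely P'. -/
theorem result {G : Type*} [Group G] [Finite G] {p : ℕ} [Fact p.Prime] (P : Sylow p G) : (∃ N : Subgroup G, N.Normal ∧ N ⊓ (P : Subgroup G) = ⁅(P : Subgroup G), (P : Subgroup G)⁆ ∧ N ⊔ (P : Subgroup G) = ⊤) ↔ commutator G ⊓ (P : Subgroup G) = ⁅(P : Subgroup G), (P : Subgroup G)⁆ := by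
  constructor
  · rintro ⟨N, hN, hNP, hsup⟩
    refine le_antisymm ?_ (le_inf (Subgroup.commutator_mono le_top le_top)
      (Subgroup.commutator_le_self _))
    have hle : commutator G ≤ N := by
      rw [← Subgroup.Normal.quotient_commutative_iff_commutator_le]
      refine ⟨⟨fun a b => ?_⟩⟩
      have key : ∀ q : G ⧸ N, ∃ x : (P : Subgroup G), ((x : G) : G ⧸ N) = q := by
        intro q
        obtain ⟨g, rfl⟩ := QuotientGroup.mk_surjective q
        open scoped Pointwise in
        have hg : g ∈ (N : Set G) * ((P : Subgroup G) : Set G) := by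
          rw [← Subgroup.normal_mul, hsup]; trivial
        obtain ⟨k, hk, x, hx, rfl⟩ := hg
        exact ⟨⟨x, hx⟩, by rw [QuotientGroup.mk_mul, (QuotientGroup.eq_one_iff k).2 hk, one_mul]⟩
      obtain ⟨x, rfl⟩ := key a
      obtain ⟨y, rfl⟩ := key b
      rw [← QuotientGroup.mk_mul, ← QuotientGroup.mk_mul, QuotientGroup.eq]
      have hm : ((x : G) * y)⁻¹ * (y * x) ∈ ⁅(P : Subgroup G), (P : Subgroup G)⁆ := by
        have := Subgroup.commutator_mem_commutator (inv_mem y.2) (inv_mem x.2)
        simpa [commutatorElement_def, mul_assoc] using this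
      rw [← hNP] at hm
      exact (Subgroup.mem_inf.1 hm).1
    calc commutator G ⊓ (P : Subgroup G) ≤ N ⊓ (P : Subgroup G) := inf_le_inf_right _ hle
      _ = _ := hNP
  · intro h
    obtain ⟨h1, h2, h3⟩ := CfsgLib.Transfer.commutator_inf_eq_focal_of_coprime (P : Subgroup G) (by
      obtain ⟨n, hn⟩ := IsPGroup.iff_card.1 (P.2.to_quotient (P : Subgroup G).focalSubgroupOf)
      rw [hn]
      exact (((Fact.out : p.Prime).coprime_iff_not_dvd.2 P.not_dvd_index).symm).pow_right n)
    exact ⟨_, inferInstance, by rw [h2, ← h1, h], h3⟩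


end Cfsg.Agent.S0131
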