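import Cfsg.Statements.S0132
import Cfsg.Agent.Lib.Transfer.Frobenius
import Cfsg.Agent.Lib.OddLocal.FittingHall

set_option autoImplicit false
open scoped commutatorElement Pointwise
open Cfsg

namespace Cfsg.Agent.S0132

/-- A minimal non-p-nilpotent finite group is a minimal non-nilpotent group with a normal Sylow p-subgroup. -/
theorem result {G : Type*} [Group G] [Finite G] {p : ℕ} [Fact p.Prime] (h1 : ¬ Cfsg.HasNormalPComplement p G) (h2 : ∀ H : Subgroup G, H ≠ ⊤ → Cfsg.HasNormalPComplement p H) : (∀ H : Subgroup G, H ≠ ⊤ → Group.IsNilpotent H) ∧ ¬ Group.IsNilpotent G ∧ ∀ P : Sylow p G, (P : Subgroup G).Normal := by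
  classical
  have hp := (Fact.out : p.Prime)
  rw [CfsgLib.Transfer.hasNormalPComplement_iff_frobenius] at h1
  push Not at h1
  obtain ⟨D, hD, g, hgN, hgp, hgC⟩ := h1
  have hN : Subgroup.normalizer (D : Set G) = ⊤ := by
    by_contra hne
    exact hgC (CfsgLib.Transfer.mem_centralizer_of_hasNormalPComplement hD (h2 _ hne) hgN hgp)
  have hDn : D.Normal := Subgroup.normalizer_eq_top_iff.1 hN
  have hgen : D ⊔ Subgroup.zpowers g = ⊤ := by
    by_contra hne
    set L := D ⊔ Subgroup.zpowers g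
    have hgL : g ∈ L := Subgroup.mem_sup_right (Subgroup.mem_zpowers g)
    have hDL : D ≤ L := le_sup_left
    have := CfsgLib.Transfer.mem_centralizer_of_hasNormalPComplement
      (D := D.subgroupOf L) (hD.of_equiv (Subgroup.subgroupOfEquivOfLe hDL).symm)
      (CfsgLib.Transfer.hasNormalPComplement_subgroup _ (h2 L hne))
      (g := ⟨g, hgL⟩) (Subgroup.Normal.subgroupOf hDn L |> Subgroup.normalizer_eq_top_iff.2 |>
        fun e => e ▸ Subgroup.mem_top _) (by rwa [Subgroup.orderOf_mk])
    refine hgC (Subgroup.mem_centralizer_iff.2 fun d hd => ?_)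
    exact congrArg Subtype.val (Subgroup.mem_centralizer_iff.1 this ⟨d, hDL hd⟩ hd)
  have hidx : D.index ∣ orderOf g := by
    rw [← Subgroup.relIndex_top_right, ← hgen, Subgroup.relIndex_sup_left, ← Nat.card_zpowers]
    exact Subgroup.relIndex_dvd_card _ _
  have hpi : ¬ p ∣ D.index := fun hd => hp.ne_one (Nat.eq_one_of_dvd_coprimes
    hgp (hd.trans hidx) dvd_rfl)
  have hcyc : ∀ a b : G ⧸ D, a * b = b * a := by
    have key : ∀ a : G ⧸ D, ∃ i : ℤ, (g : G ⧸ D) ^ i = a := by
      intro a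
      obtain ⟨x, rfl⟩ := QuotientGroup.mk_surjective a
      have hx : x ∈ ((D : Set G) * (Subgroup.zpowers g : Set G)) := by
        rw [← Subgroup.normal_mul, hgen]; trivial
      obtain ⟨d, hd, _, ⟨i, rfl⟩, rfl⟩ := hx
      exact ⟨i, by simp [(QuotientGroup.eq_one_iff d).2 hd]⟩
    intro a b
    obtain ⟨i, rfl⟩ := key a
    obtain ⟨j, rfl⟩ := key b
    rw [← zpow_add, ← zpow_add, add_comm]
  refine ⟨fun H hH => ?_, fun hnil => ?_, fun P => ?_⟩
  · set DH := D.subgroupOf H
    set K := Cfsg.pResidual p H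
    have hKn : K.Normal := CfsgLib.Transfer.pResidual_normal
    have hKp : (Nat.card K).Coprime p :=
      CfsgLib.Transfer.hasNormalPComplement_iff_coprime_pResidual.1 (h2 H hH)
    have hDHp : IsPGroup p DH := hD.comap_subtype
    have hint : DH ⊓ K = ⊥ := by
      obtain ⟨k, hk⟩ := hDHp.exists_card_eq
      refine (disjoint_iff.1 (Subgroup.disjoint_of_coprime_natCard ?_))
      rw [hk]
      exact (hKp.pow_right k).symm
    have hKc : K ≤ Subgroup.center H := by
      intro k hk
      rw [Subgroup.mem_center_iff]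
      intro x
      refine commutatorElement_eq_one_iff_mul_comm.1 (Subgroup.mem_bot.1 (hint ▸
        Subgroup.mem_inf.2 ⟨Subgroup.mem_subgroupOf.2 ?_, ?_⟩ : ⁅x, k⁆ ∈ (⊥ : Subgroup H)))
      · rw [← QuotientGroup.eq_one_iff]
        show QuotientGroup.mk' D (H.subtype ⁅x, k⁆) = 1
        rw [map_commutatorElement, map_commutatorElement]
        exact commutatorElement_eq_one_iff_mul_comm.2 (hcyc _ _)
      · have := mul_mem (hKn.conj_mem k hk x) (inv_mem hk)
        simpa [commutatorElement_def, mul_assoc] using this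
    have hq : IsPGroup p (H ⧸ Subgroup.center H) :=
      CfsgLib.Transfer.isPGroup_quotient_of_pResidual_le hKc
    exact Group.of_quotient_center_nilpotent hq.isNilpotent
  · refine hgC (Subgroup.mem_centralizer_iff.2 fun d hd => ?_)
    refine (CfsgLib.OddLocal.commute_of_coprime_of_isNilpotent hnil ?_).eq
    obtain ⟨k, hk⟩ := IsPGroup.iff_orderOf.1 hD ⟨d, hd⟩
    rw [Subgroup.orderOf_mk] at hk
    rw [hk]
    exact (hgp.pow_right k).symm
  · obtain ⟨Q, hQ⟩ := hD.exists_le_sylow
    have hQD : (Q : Subgroup G) = D := by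
      refine le_antisymm (fun x hx => ?_) hQ
      rw [← QuotientGroup.eq_one_iff, ← orderOf_eq_one_iff]
      obtain ⟨k, hk⟩ := IsPGroup.iff_orderOf.1 Q.2 ⟨x, hx⟩
      rw [Subgroup.orderOf_mk] at hk
      refine Nat.eq_one_of_dvd_coprimes ((hp.coprime_iff_not_dvd.2 hpi).pow_left k)
        (hk ▸ orderOf_map_dvd (QuotientGroup.mk' D) x) ?_
      exact orderOf_dvd_natCard _
    obtain ⟨u, hu⟩ := MulAction.exists_smul_eq G Q P
    rw [← hu, Sylow.coe_subgroup_smul, hQD, hDn.conj_smul_eq_self u]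
    exact hDn


end Cfsg.Agent.S0132
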