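import Cfsg.Statements.S0201
import Cfsg.Agent.Lib.Invol.BrauerSuzuki

set_option autoImplicit false
open Cfsg

namespace Cfsg.Agent.S0201

open CfsgLib.Invol in
theorem q8_facts : (∀ x : QuaternionGroup 2, x * x = 1 → x = 1 ∨ x = QuaternionGroup.a 2) ∧
    ∀ s : QuaternionGroup 2, (∀ x, s * x = x * s) → s * s = 1 := by decide

/-- Brauer–Suzuki Theorem: if a Sylow 2-subgroup of a finite group is generalized quaternion (of order at least 8) and the group has no nontrivial normal subgroup of odd order, then its centre has order 2. -/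
theorem result {G : Type*} [Group G] [Finite G] (S : Sylow 2 G) (n : ℕ) (e : (S : Subgroup G) ≃* QuaternionGroup (2 ^ (n + 1))) (hO : ∀ N : Subgroup G, N.Normal → Odd (Nat.card N) → N = ⊥) : Nat.card (Subgroup.center G) = 2 := by
  classical
  match n, e with
  | m + 1, e =>
    have := Fintype.ofFinite G
    exact CfsgLib.Clifford.Quat.natCard_center (n := m) e hO
  | 0, e =>
    have heven : Even (Nat.card G) := by
      refine even_iff_two_dvd.2 (dvd_trans ?_ (S : Subgroup G).card_subgroup_dvd_card)
      rw [Nat.card_congr e.toEquiv, Nat.card_eq_fintype_card, QuaternionGroup.card]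
      norm_num
    set z : G := ((e.symm (QuaternionGroup.a 2) : (S : Subgroup G)) : G)
    have huniq : ∀ x ∈ (S : Subgroup G), x * x = 1 → x = 1 ∨ x = z := fun x hx h =>
      (q8_facts.1 (e ⟨x, hx⟩) (by
        rw [← map_mul, show (⟨x, hx⟩ : (S : Subgroup G)) * ⟨x, hx⟩ = 1 from Subtype.ext h, map_one])).imp
        (fun h' => congrArg Subtype.val (e.map_eq_one_iff.1 h'))
        (fun h' => congrArg Subtype.val (e.eq_symm_apply.2 h'))
    have hrank : ∀ E : Subgroup G, ¬ IsKleinFour E := by
      intro E hE
      obtain ⟨g, hg⟩ := CfsgLib.Invol.exists_conj_mem_sylow (p := 2) S (H := E)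
        (IsPGroup.of_card (n := 2) (by rw [hE.card_four]; rfl))
      have hsub : Nat.card E ≤ Nat.card ({1, z} : Set G) := by
        refine Nat.card_le_card_of_injective (fun x => ⟨g * (x : G) * g⁻¹, ?_⟩) fun a b h => ?_
        · refine (huniq _ (hg x x.2) ?_).imp id id
          rw [conj_mul, show (x : G) * x = 1 from congrArg Subtype.val (IsKleinFour.mul_self x),
            mul_one, mul_inv_cancel]
        · exact Subtype.ext (mul_left_cancel (mul_right_cancel (congrArg Subtype.val h)))
      rw [hE.card_four, Nat.card_coe_set_eq] at hsub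
      have : ({1, z} : Set G).ncard ≤ 2 :=
        (Set.ncard_insert_le _ _).trans (by rw [Set.ncard_singleton])
      omega
    obtain ⟨w, hwc, hw⟩ := CfsgLib.Invol.centralInvol G heven hrank hO
    -- the centre is a 2-group
    have hZS : Subgroup.center G ≤ (S : Subgroup G) := by
      have hpZ : IsPGroup 2 (Subgroup.center G) := by
        refine IsPGroup.of_card (n := (Nat.card (Subgroup.center G)).primeFactorsList.length)
          (Nat.eq_prime_pow_of_unique_prime_dvd Nat.card_pos.ne' fun {q} hq hqd => ?_)
        by_contra hq2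
        haveI := Fact.mk hq
        obtain ⟨c, hc⟩ := exists_prime_orderOf_dvd_card' (G := Subgroup.center G) q hqd
        have hcn : (Subgroup.zpowers (c : G)).Normal := ⟨fun n hn g => by
          obtain ⟨j, rfl⟩ := hn
          rw [Subgroup.mem_center_iff.1 (Subgroup.zpow_mem _ c.2 j) g, mul_inv_cancel_right]
          exact ⟨j, rfl⟩⟩
        have := hO _ hcn (by
          rw [Nat.card_zpowers, Subgroup.orderOf_coe, hc]; exact hq.odd_of_ne_two hq2)
        rw [Subgroup.zpowers_eq_bot, OneMemClass.coe_eq_one] at this
        rw [this, orderOf_one] at hc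
        exact hq.ne_one hc.symm
      obtain ⟨g, hg⟩ := CfsgLib.Invol.exists_conj_mem_sylow (p := 2) S hpZ
      intro c hc
      have := hg c hc
      rwa [Subgroup.mem_center_iff.1 hc g, mul_inv_cancel_right] at this
    have hsub : (Subgroup.center G : Set G) = {1, w} := by
      refine Set.eq_of_subset_of_subset (fun c hc => ?_) ?_
      · have h1 : ∀ c ∈ Subgroup.center G, c = 1 ∨ c = z := fun c hc => by
          refine huniq c (hZS hc) ?_
          refine congrArg Subtype.val (e.injective (?_ : e (⟨c, hZS hc⟩ * ⟨c, hZS hc⟩) = e 1))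
          rw [map_mul, map_one]
          refine q8_facts.2 _ fun v => ?_
          obtain ⟨v, rfl⟩ := e.surjective v
          rw [← map_mul, ← map_mul]
          exact congrArg e (Subtype.ext (Subgroup.mem_center_iff.1 hc v).symm)
        rcases h1 c hc with h | h
        · exact Or.inl h
        · exact Or.inr (h.trans ((h1 w hwc).resolve_left (CfsgLib.Invol.invol_ne_one hw)).symm)
      · rintro x (rfl | rfl)
        · exact one_mem _
        · exact hwc
    rw [show Nat.card (Subgroup.center G) = Nat.card ((Subgroup.center G : Set G)) from rfl, hsub,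
      Nat.card_coe_set_eq, Set.ncard_pair (CfsgLib.Invol.invol_ne_one hw).symm]

end Cfsg.Agent.S0201
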