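import Cfsg.Statements.S0210
import Cfsg.Agent.Lib.Invol.Basic

set_option autoImplicit false
open Cfsg

namespace Cfsg.Agent.S0210

/-- If x, y are involutions whose product has even order, no element of the subgroup generated by x and y conjugates x to y. -/
theorem result {G : Type*} [Group G] [Finite G] (x y : G) (hx : orderOf x = 2) (hy : orderOf y = 2) (heven : Even (orderOf (x * y))) (d : G) (hd : d ∈ Subgroup.closure ({x, y} : Set G)) : d * x * d⁻¹ ≠ y := by
  intro h
  have key : ∃ k : ℤ, (x * y) ^ (2 * k) * x = y := by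
    obtain ⟨k, rfl | rfl⟩ := (CfsgLib.Invol.mem_closure_pair hx hy).1 hd
    · exact ⟨k, by rw [← CfsgLib.Invol.zpow_conj_left hx hy]; exact h⟩
    · exact ⟨k, by rw [← CfsgLib.Invol.refl_conj_left hx hy]; exact h⟩
  obtain ⟨k, hk⟩ := key
  conv_rhs at hk => rw [← CfsgLib.Invol.right_eq hx hy]
  rw [mul_left_inj, zpow_eq_zpow_iff_modEq] at hk
  obtain ⟨m, hm⟩ := even_iff_two_dvd.1 heven
  have h2 : (2 : ℤ) ∣ (orderOf (x * y) : ℤ) := ⟨(m : ℤ), by omega⟩
  have h4 := Int.ModEq.of_dvd h2 hk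
  unfold Int.ModEq at h4
  omega

end Cfsg.Agent.S0210
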