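import Cfsg.Statements.S0211
import Cfsg.Agent.Lib.Invol.Basic

set_option autoImplicit false
open Cfsg

namespace Cfsg.Agent.S0211

/-- Let x, y be involutions with xy of even order n and z = (xy)^(n/2). Then xz is conjugate to x by an element of the subgroup generated by x, y if and only if 4 divides n. -/
theorem result {G : Type*} [Group G] [Finite G] (x y : G) (hx : orderOf x = 2) (hy : orderOf y = 2) (heven : Even (orderOf (x * y))) : (∃ d ∈ Subgroup.closure ({x, y} : Set G), d * x * d⁻¹ = x * (x * y) ^ (orderOf (x * y) / 2)) ↔ 4 ∣ orderOf (x * y) := by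
  have hc := (CfsgLib.Invol.commute_pow_half_left hx hy heven).eq
  constructor
  · rintro ⟨d, hd, h⟩
    have key : ∃ k : ℤ, (x * y) ^ (2 * k) * x = (x * y) ^ ((orderOf (x * y) / 2 : ℕ) : ℤ) * x := by
      rw [zpow_natCast, hc]
      obtain ⟨k, rfl | rfl⟩ := (CfsgLib.Invol.mem_closure_pair hx hy).1 hd
      · exact ⟨k, by rw [← CfsgLib.Invol.zpow_conj_left hx hy]; exact h⟩
      · exact ⟨k, by rw [← CfsgLib.Invol.refl_conj_left hx hy]; exact h⟩
    obtain ⟨k, hk⟩ := key
    rw [mul_left_inj, zpow_eq_zpow_iff_modEq] at hk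
    obtain ⟨m, hm⟩ := even_iff_two_dvd.1 heven
    have h2 : (2 : ℤ) ∣ (orderOf (x * y) : ℤ) := ⟨(m : ℤ), by omega⟩
    have h4 := Int.ModEq.of_dvd h2 hk
    unfold Int.ModEq at h4
    omega
  · rintro ⟨m, hm⟩
    refine ⟨(x * y) ^ (m : ℤ), CfsgLib.Invol.zpow_mem_closure_pair _, ?_⟩
    rw [CfsgLib.Invol.zpow_conj_left hx hy, ← hc]
    congr 1
    rw [← zpow_natCast]
    congr 1
    omega

end Cfsg.Agent.S0211
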