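import Cfsg.Statements.S0212
import Cfsg.Agent.Lib.Invol.Counting
import Cfsg.Agent.Lib.Invol.Simple

set_option autoImplicit false
open Cfsg

namespace Cfsg.Agent.S0212

/-- The Brauer–Fowler bound: if G is a finite simple group and t an involution of G whose centralizer has order n, then |G| ≤ (2n^2)!. -/
theorem result {G : Type*} [Group G] [Finite G] [IsSimpleGroup G] (t : G) (ht : orderOf t = 2) : Nat.card G ≤ Nat.factorial (2 * (Nat.card (Subgroup.centralizer ({t} : Set G))) ^ 2) := by
  have heven : Even (Nat.card G) := even_iff_two_dvd.2 (ht ▸ orderOf_dvd_natCard t)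
  by_cases hna : IsMulCommutative G
  · have htop : Subgroup.zpowers t = ⊤ := by
      let : CommGroup G := { ‹Group G› with mul_comm := hna.is_comm.comm }
      exact (((Subgroup.zpowers t).normal_of_comm).eq_bot_or_eq_top).resolve_left fun h =>
        CfsgLib.Invol.invol_ne_one ht (Subgroup.zpowers_eq_bot.1 h)
    have h2 : Nat.card G = 2 := by
      rw [← Subgroup.card_top (G := G), ← htop, Nat.card_zpowers, ht]
    have hpos : 1 ≤ Nat.card (Subgroup.centralizer ({t} : Set G)) := Nat.card_pos
    have h3 : 2 ≤ 2 * Nat.card (Subgroup.centralizer ({t} : Set G)) ^ 2 := by nlinarith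
    rw [h2]
    exact le_trans h3 (Nat.self_le_factorial _)
  · have hZ : Odd (Nat.card (Subgroup.center G)) := by
      rw [CfsgLib.Invol.center_eq_bot_of_simple hna, Subgroup.card_bot]; exact odd_one
    obtain ⟨H, hH, h2 | hlt⟩ := CfsgLib.Invol.brauer_fowler heven hZ
    · exact absurd h2 (CfsgLib.Invol.index_ne_two_of_simple hna H)
    · have h1 := CfsgLib.Invol.exists_pair_of_index t hlt ht
      refine le_trans (Nat.le_of_dvd (Nat.factorial_pos _)
        (CfsgLib.Invol.card_dvd_index_factorial hH)) (Nat.factorial_le ?_)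
      omega

end Cfsg.Agent.S0212
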