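import Cfsg.Statements.S0213
import Cfsg.Agent.Lib.Invol.Basic

set_option autoImplicit false
open Cfsg

namespace Cfsg.Agent.S0213

/-- Thompson Order Formula, two-class case: if every involution of the finite group G is conjugate to exactly one of the non-conjugate involutions x₁, x₂, and nᵢ is the number of pairs (u, v) with u conjugate to x₁, v conjugate to x₂ and xᵢ in the cyclic group generated by uv, then |G| = |C(x₂)| n₁ + |C(x₁)| n₂. -/
theorem result {G : Type*} [Group G] [Finite G] (x₁ x₂ : G) (h₁ : orderOf x₁ = 2) (h₂ : orderOf x₂ = 2) (hnc : ¬ IsConj x₁ x₂) (hall : ∀ t : G, orderOf t = 2 → IsConj x₁ t ∨ IsConj x₂ t) : Nat.card G = Nat.card (Subgroup.centralizer ({x₂} : Set G)) * Nat.card {p : G × G // IsConj x₁ p.1 ∧ IsConj x₂ p.2 ∧ x₁ ∈ Subgroup.zpowers (p.1 * p.2)} + Nat.card (Subgroup.centralizer ({x₁} : Set G)) * Nat.card {p : G × G // IsConj x₁ p.1 ∧ IsConj x₂ p.2 ∧ x₂ ∈ Subgroup.zpowers (p.1 * p.2)} := by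
  classical
  have : Fintype G := Fintype.ofFinite G
  set c₁ := Nat.card (Subgroup.centralizer ({x₁} : Set G))
  set c₂ := Nat.card (Subgroup.centralizer ({x₂} : Set G))
  set k₁ := Nat.card {t : G // IsConj x₁ t}
  set k₂ := Nat.card {t : G // IsConj x₂ t}
  -- the pairs attached to an involution
  let n : G → ℕ := fun w => Nat.card {p : G × G // IsConj x₁ p.1 ∧ IsConj x₂ p.2 ∧ w ∈ Subgroup.zpowers (p.1 * p.2)}
  have hconjn : ∀ g w, n (g * w * g⁻¹) = n w := by
    intro g w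
    refine (Nat.card_congr (((MulAut.conj g).toEquiv.prodCongr (MulAut.conj g).toEquiv).subtypeEquiv ?_)).symm
    rintro ⟨a, b⟩
    show _ ↔ IsConj x₁ (g * a * g⁻¹) ∧ IsConj x₂ (g * b * g⁻¹) ∧ g * w * g⁻¹ ∈ Subgroup.zpowers (g * a * g⁻¹ * (g * b * g⁻¹))
    have e1 : ∀ x y : G, IsConj x (g * y * g⁻¹) ↔ IsConj x y := fun x y =>
      ⟨fun h => h.trans (isConj_iff.2 ⟨g, rfl⟩ : IsConj y _).symm, fun h => h.trans (isConj_iff.2 ⟨g, rfl⟩)⟩
    rw [e1, e1]
    refine and_congr_right fun _ => and_congr_right fun _ => ?_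
    rw [conj_mul]
    constructor
    · rintro ⟨i, hi⟩
      exact ⟨i, by simp only at hi ⊢; rw [← CfsgLib.Invol.conj_zpow_eq, hi]⟩
    · rintro ⟨i, hi⟩
      refine ⟨i, ?_⟩
      simp only at hi ⊢
      rw [← CfsgLib.Invol.conj_zpow_eq] at hi
      exact mul_left_cancel (mul_right_cancel hi)
  have horder : ∀ w, IsConj x₁ w ∨ IsConj x₂ w → orderOf w = 2 := by
    rintro w (h | h) <;> rw [CfsgLib.Invol.orderOf_eq_of_isConj h] <;> assumption
  -- each pair is attached to exactly one involution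
  have huniq : ∀ a b : G, IsConj x₁ a → IsConj x₂ b → ∃! w : G, orderOf w = 2 ∧ w ∈ Subgroup.zpowers (a * b) := by
    intro a b ha hb
    have hao := horder a (Or.inl ha)
    have hbo := horder b (Or.inr hb)
    have heven := CfsgLib.Invol.even_of_not_isConj hao hbo fun h => hnc ((ha.trans h).trans hb.symm)
    refine ⟨(a * b) ^ (orderOf (a * b) / 2),
      ⟨CfsgLib.Invol.orderOf_pow_half heven, pow_mem (Subgroup.mem_zpowers _) _⟩, ?_⟩
    rintro w ⟨hw, k, rfl⟩
    simp only at hw ⊢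
    obtain ⟨m, hm⟩ := heven
    have hh : orderOf (a * b) / 2 = m := by omega
    have h2 := CfsgLib.Invol.invol_mul_self hw
    rw [← zpow_add, ← orderOf_dvd_iff_zpow_eq_one] at h2
    obtain ⟨c, hc⟩ := h2
    obtain ⟨d, rfl | rfl⟩ := Int.even_or_odd' c
    · refine absurd ?_ (CfsgLib.Invol.invol_ne_one hw)
      rw [← orderOf_dvd_iff_zpow_eq_one]
      exact ⟨d, by linarith⟩
    · rw [← zpow_natCast, hh, zpow_eq_zpow_iff_modEq, Int.modEq_iff_dvd]
      refine ⟨-d, ?_⟩
      have : (orderOf (a * b) : ℤ) = m + m := by exact_mod_cast hm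
      rw [this] at hc ⊢
      linarith
  have hprod : k₁ * k₂ = ∑ w ∈ Finset.univ.filter (fun w : G => orderOf w = 2), n w := by
    rw [Finset.sum_subtype (Finset.univ.filter fun w : G => orderOf w = 2)
      (p := fun w : G => orderOf w = 2) (by simp) n]
    show _ = ∑ w : {w : G // orderOf w = 2}, Nat.card {p : G × G //
      IsConj x₁ p.1 ∧ IsConj x₂ p.2 ∧ (w : G) ∈ Subgroup.zpowers (p.1 * p.2)}
    rw [← Nat.card_sigma, ← Nat.card_prod]
    symm
    refine Nat.card_eq_of_bijective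
      (fun s => (⟨s.2.1.1, s.2.2.1⟩, ⟨s.2.1.2, s.2.2.2.1⟩)) ⟨?_, ?_⟩
    · rintro ⟨⟨w, hw⟩, ⟨a, b⟩, ha, hb, hwab⟩ ⟨⟨v, hv⟩, ⟨c, d⟩, hc, hd, hvcd⟩ e
      obtain rfl : a = c := congrArg (fun q : {t // IsConj x₁ t} × {t // IsConj x₂ t} => q.1.1) e
      obtain rfl : b = d := congrArg (fun q : {t // IsConj x₁ t} × {t // IsConj x₂ t} => q.2.1) e
      obtain rfl : w = v := (huniq a b ha hb).unique ⟨hw, hwab⟩ ⟨hv, hvcd⟩
      rfl
    · rintro ⟨⟨a, ha⟩, b, hb⟩
      obtain ⟨w, hw, -⟩ := huniq a b ha hb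
      exact ⟨⟨⟨w, hw.1⟩, ⟨(a, b), ha, hb, hw.2⟩⟩, rfl⟩
  have hsplit : ∑ w ∈ Finset.univ.filter (fun w : G => orderOf w = 2), n w = k₁ * n x₁ + k₂ * n x₂ := by
    rw [← Finset.sum_filter_add_sum_filter_not _ (fun w => IsConj x₁ w)]
    have h1 : (Finset.univ.filter fun w : G => orderOf w = 2).filter (fun w => IsConj x₁ w) =
        Finset.univ.filter (fun w => IsConj x₁ w) := by
      ext w
      simp only [Finset.mem_filter, Finset.mem_univ, true_and]
      exact ⟨fun h => h.2, fun h => ⟨horder w (Or.inl h), h⟩⟩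
    have h2' : (Finset.univ.filter fun w : G => orderOf w = 2).filter (fun w => ¬ IsConj x₁ w) =
        Finset.univ.filter (fun w => IsConj x₂ w) := by
      ext w
      simp only [Finset.mem_filter, Finset.mem_univ, true_and]
      exact ⟨fun h => (hall w h.1).resolve_left h.2,
        fun h => ⟨horder w (Or.inr h), fun h' => hnc (h'.trans h.symm)⟩⟩
    rw [h1, h2']
    congr 1
    · rw [Finset.sum_congr rfl (g := fun _ => n x₁) (fun w hw => ?_), Finset.sum_const, smul_eq_mul]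
      · simp [k₁, Fintype.card_subtype]
      · obtain ⟨g, rfl⟩ := isConj_iff.1 (Finset.mem_filter.1 hw).2
        exact hconjn g x₁
    · rw [Finset.sum_congr rfl (g := fun _ => n x₂) (fun w hw => ?_), Finset.sum_const, smul_eq_mul]
      · simp [k₂, Fintype.card_subtype]
      · obtain ⟨g, rfl⟩ := isConj_iff.1 (Finset.mem_filter.1 hw).2
        exact hconjn g x₂
  have hk₁ := CfsgLib.Invol.card_class_mul_card_centralizer x₁
  have hk₂ := CfsgLib.Invol.card_class_mul_card_centralizer x₂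
  refine Nat.eq_of_mul_eq_mul_left (Nat.card_pos (α := G)) ?_
  show Nat.card G * Nat.card G = Nat.card G * (c₂ * n x₁ + c₁ * n x₂)
  calc Nat.card G * Nat.card G = (k₁ * k₂) * (c₁ * c₂) := by
        nth_rewrite 1 [← hk₁]; rw [← hk₂]; ring
    _ = (k₁ * c₁) * (c₂ * n x₁) + (k₂ * c₂) * (c₁ * n x₂) := by rw [hprod, hsplit]; ring
    _ = _ := by rw [hk₁, hk₂]; ring

end Cfsg.Agent.S0213
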