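import Cfsg.Statements.S0214
import Cfsg.Agent.Lib.Invol.Control
import Cfsg.Agent.Lib.Invol.Strong

set_option autoImplicit false
open Cfsg

namespace Cfsg.Agent.S0214

/-- Let H be a proper subgroup of the finite group G and P a nontrivial Sylow 2-subgroup of H. Then H is strongly embedded in G if and only if N_G(X) ≤ H for every nontrivial subgroup X of P. -/
theorem result {G : Type*} [Group G] [Finite G] (H : Subgroup G) (hH : H ≠ ⊤) (P : Sylow 2 ↥H) (hP : (P : Subgroup ↥H) ≠ ⊥) : Cfsg.IsStronglyEmbedded H ↔ (∀ X : Subgroup ↥H, X ≤ (P : Subgroup ↥H) → X ≠ ⊥ → Subgroup.normalizer ((X.map H.subtype : Subgroup G) : Set G) ≤ H) := by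
  obtain ⟨u, huP, hu⟩ : ∃ u ∈ (P : Subgroup H), orderOf u = 2 := by
    have hne : Nontrivial (P : Subgroup H) := (Subgroup.nontrivial_iff_ne_bot _).2 hP
    obtain ⟨k, hk, hcard⟩ := P.2.nontrivial_iff_card.1 hne
    exact CfsgLib.Invol.exists_invol_mem (by rw [hcard]; exact (Nat.even_pow.2 ⟨even_two, hk.ne'⟩))
  constructor
  · intro hSE X hXP hX n hn
    obtain ⟨t, htX, ht⟩ : ∃ t ∈ X, orderOf t = 2 := by
      have hne : Nontrivial X := (Subgroup.nontrivial_iff_ne_bot _).2 hX
      obtain ⟨k, hk, hcard⟩ := (P.2.to_le hXP).nontrivial_iff_card.1 hne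
      exact CfsgLib.Invol.exists_invol_mem (by rw [hcard]; exact (Nat.even_pow.2 ⟨even_two, hk.ne'⟩))
    refine CfsgLib.Invol.se_mem_of_conj hSE (u := (t : G)) (by rw [Subgroup.orderOf_coe]; exact ht)
      t.2 ?_
    obtain ⟨w, -, hw⟩ := (Subgroup.mem_normalizer_iff.1 hn (t : G)).1 ⟨t, htX, rfl⟩
    rw [← hw]; exact w.2
  · intro hN
    refine ⟨hH, ?_, fun g hg => ?_⟩
    · refine CfsgLib.Invol.even_card_of_invol_mem (x := (u : G)) ?_ u.2
      rw [Subgroup.orderOf_coe]; exact hu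
    rw [← Nat.not_even_iff_odd]
    intro heven
    obtain ⟨t, htD, ht⟩ := CfsgLib.Invol.exists_invol_mem heven
    refine CfsgLib.Invol.not_prop_of_normalizer_le H P (fun X => X ≠ ⊥)
      (fun X Y hXY _ hX hY => hX (le_bot_iff.1 (hY ▸ hXY)))
      (fun X g hX hY => hX ((Subgroup.map_eq_bot_iff_of_injective _ (MulAut.conj g).injective).1 hY))
      ?_ hg (CfsgLib.Invol.isPGroup_zpowers_of_invol ht) (Subgroup.zpowers_le.2 htD) fun h =>
        CfsgLib.Invol.invol_ne_one ht (Subgroup.zpowers_eq_bot.1 h)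
    intro X hX hXne
    have e : (X.subgroupOf H).map H.subtype = X :=
      Subgroup.map_subgroupOf_eq_of_le (hX.trans (Subgroup.map_subtype_le _))
    have := hN (X.subgroupOf H) (fun x hx => ?_) fun h => hXne (by rw [← e, h, Subgroup.map_bot])
    · rwa [e] at this
    · obtain ⟨w, hw, hw'⟩ := hX hx
      rwa [← Subtype.ext (show (w : G) = x from hw')]

end Cfsg.Agent.S0214
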