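import Cfsg.Statements.S0216
import Cfsg.Agent.Lib.Invol.Isolated

set_option autoImplicit false
open Cfsg

namespace Cfsg.Agent.S0216

/-- For an involution u in a Sylow 2-subgroup P of a finite group G, the following are equivalent: no G-conjugate of u other than u lies in P; every commutator of u with an element of G has odd order. -/
theorem result {G : Type*} [Group G] [Finite G] (P : Sylow 2 G) (u : G) (hu : orderOf u = 2) (huP : u ∈ P) : (∀ g : G, g * u * g⁻¹ ∈ P → g * u * g⁻¹ = u) ↔ (∀ g : G, Odd (orderOf (u * g * u⁻¹ * g⁻¹))) := by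
  have hrw : ∀ g : G, u * g * u⁻¹ * g⁻¹ = u * (g * u * g⁻¹) := fun g => by
    rw [CfsgLib.Invol.invol_inv hu]; group
  constructor
  · intro hiso g
    rw [hrw]
    exact CfsgLib.Invol.isolated_odd_mul_conj (CfsgLib.Invol.isolated_of_sylow P hu huP hiso) g
  · intro hodd g hg
    obtain ⟨k, hk⟩ := P.2 ⟨_, mul_mem huP hg⟩
    have hk' : (u * (g * u * g⁻¹)) ^ 2 ^ k = 1 := by simpa using congrArg Subtype.val hk
    have h1 := Nat.eq_one_of_dvd_coprimes (Nat.Coprime.pow_right k
      (Nat.coprime_two_right.2 (hrw g ▸ hodd g))) dvd_rfl (orderOf_dvd_of_pow_eq_one hk')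
    have e := eq_inv_of_mul_eq_one_right (orderOf_eq_one_iff.1 h1)
    rwa [CfsgLib.Invol.invol_inv hu] at e

end Cfsg.Agent.S0216
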