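import Cfsg.Statements.S0218
import Cfsg.Agent.Lib.Invol.Basic
import Mathlib.GroupTheory.SpecificGroups.Quaternion

set_option autoImplicit false
open Cfsg

namespace Cfsg.Agent.S0218

/-- The generalized quaternion group of order 2^(n+3) contains exactly one element of order 2. -/
theorem result (n : ℕ) : Nat.card {x : QuaternionGroup (2 ^ (n + 1)) // orderOf x = 2} = 1 := by
  have key : ∀ x : QuaternionGroup (2 ^ (n + 1)),
      orderOf x = 2 ↔ x = QuaternionGroup.a ((2 ^ (n + 1) : ℕ) : ZMod (2 * 2 ^ (n + 1))) := by
    have hne : ((2 ^ (n + 1) : ℕ) : ZMod (2 * 2 ^ (n + 1))) ≠ 0 := by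
      rw [Ne, ZMod.natCast_eq_zero_iff]
      intro h
      have := Nat.le_of_dvd (by positivity) h
      have h0 : 0 < 2 ^ (n + 1) := by positivity
      omega
    intro x
    constructor
    · intro hx
      rcases x with i | i
      · have hsq := CfsgLib.Invol.invol_mul_self hx
        rw [QuaternionGroup.a_mul_a, QuaternionGroup.one_def] at hsq
        injection hsq with hsq
        have hi : i ≠ 0 := by
          rintro rfl
          exact CfsgLib.Invol.invol_ne_one hx rfl
        congr 1
        apply ZMod.val_injective
        rw [ZMod.val_natCast, Nat.mod_eq_of_lt (by have : 0 < 2 ^ (n + 1) := by positivity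
                                                   omega)]
        have h1 := congrArg ZMod.val hsq
        rw [ZMod.val_add, ZMod.val_zero] at h1
        have h2 := i.val_lt
        have h3 : i.val ≠ 0 := fun h => hi ((ZMod.val_eq_zero i).1 h)
        obtain ⟨c, hc⟩ := Nat.dvd_of_mod_eq_zero h1
        rcases c with _ | _ | c
        · omega
        · omega
        · nlinarith
      · rw [QuaternionGroup.orderOf_xa] at hx
        omega
    · rintro rfl
      apply CfsgLib.Invol.invol_of_mul_self
      · rw [QuaternionGroup.a_mul_a, QuaternionGroup.one_def]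
        congr 1
        rw [← Nat.cast_add, ← two_mul, ZMod.natCast_self]
      · rw [QuaternionGroup.one_def]
        intro h
        injection h with h
        exact hne h
  have : Unique {x : QuaternionGroup (2 ^ (n + 1)) // orderOf x = 2} :=
    ⟨⟨⟨_, (key _).2 rfl⟩⟩, fun ⟨x, hx⟩ => Subtype.ext ((key x).1 hx)⟩
  exact Nat.card_unique

end Cfsg.Agent.S0218
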