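import Cfsg.Statements.S0220
import Cfsg.Agent.Lib.Invol.Basic
import Cfsg.Agent.S0219

set_option autoImplicit false
open Cfsg

namespace Cfsg.Agent.S0220

/-- If x is an involution of a finite group G and a Sylow 2-subgroup of the centralizer of x is cyclic, then G has a subgroup of index 2; in particular G is not simple unless it has order 2. -/
theorem result {G : Type*} [Group G] [Finite G] (x : G) (hx : orderOf x = 2) (S : Sylow 2 ↥(Subgroup.centralizer ({x} : Set G))) (hS : IsCyclic (S : Subgroup ↥(Subgroup.centralizer ({x} : Set G)))) : ∃ H : Subgroup G, H.index = 2 := by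
  have hxC : x ∈ (Subgroup.centralizer ({x} : Set G)) := Subgroup.mem_centralizer_singleton_iff.2 rfl
  -- `x` is in every Sylow 2-subgroup of its centraliser
  have hxS : (⟨x, hxC⟩ : (Subgroup.centralizer ({x} : Set G))) ∈ (S : Subgroup (Subgroup.centralizer ({x} : Set G))) := by
    have hn : (Subgroup.zpowers (⟨x, hxC⟩ : (Subgroup.centralizer ({x} : Set G)))).Normal := by
      refine ⟨fun w hw g => ?_⟩
      have hwc : Commute g w := by
        obtain ⟨i, rfl⟩ := hw
        refine Commute.zpow_right ?_ i
        exact Subtype.ext (Subgroup.mem_centralizer_singleton_iff.1 g.2)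
      rwa [hwc.eq, mul_inv_cancel_right]
    have hp := CfsgLib.Invol.isPGroup_zpowers_of_invol (x := (⟨x, hxC⟩ : (Subgroup.centralizer ({x} : Set G)))) (by rw [Subgroup.orderOf_mk, hx])
    exact hp.le_sylow_of_normal S (Subgroup.mem_zpowers _)
  set S' := (S : Subgroup (Subgroup.centralizer ({x} : Set G))).map (Subgroup.centralizer ({x} : Set G)).subtype
  obtain ⟨T, hT⟩ := (S.2.map (Subgroup.centralizer ({x} : Set G)).subtype : IsPGroup 2 S').exists_le_sylow
  have hxT : x ∈ (T : Subgroup G) := hT ⟨_, hxS, rfl⟩
  -- the elements of `T` centralising `x` form `S'`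
  have hTC : ∀ w ∈ (T : Subgroup G), w * x = x * w → w ∈ S' := by
    intro w hw hwx
    have heq : ((T : Subgroup G).comap (Subgroup.centralizer ({x} : Set G)).subtype) = (S : Subgroup (Subgroup.centralizer ({x} : Set G))) :=
      S.3 T.2.comap_subtype (fun c hc => hT ⟨c, hc, rfl⟩)
    exact ⟨⟨w, Subgroup.mem_centralizer_singleton_iff.2 hwx⟩, heq ▸ hw, rfl⟩
  have hcent : ∀ w ∈ (T : Subgroup G), w * x = x * w := by
    have : Nontrivial (T : Subgroup G) := ⟨⟨⟨x, hxT⟩, 1, fun h =>
      CfsgLib.Invol.invol_ne_one hx (congrArg Subtype.val h)⟩⟩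
    have := T.2.center_nontrivial
    obtain ⟨k, hk⟩ := (T.2.to_subgroup (Subgroup.center (T : Subgroup G))).exists_card_eq
    have hk0 : k ≠ 0 := by
      rintro rfl
      have := Finite.one_lt_card (α := Subgroup.center (T : Subgroup G))
      omega
    obtain ⟨⟨⟨z, hzT⟩, hzc⟩, hz⟩ := exists_prime_orderOf_dvd_card'
      (G := Subgroup.center (T : Subgroup G)) 2 (hk ▸ dvd_pow_self 2 hk0)
    have hz2 : orderOf z = 2 := by simpa [Subgroup.orderOf_mk] using hz
    have hzw : ∀ w ∈ (T : Subgroup G), w * z = z * w := fun w hw =>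
      congrArg Subtype.val (Subgroup.mem_center_iff.1 hzc ⟨w, hw⟩)
    obtain ⟨⟨z', hz'C⟩, hz'S, hz'⟩ := hTC z hzT (hzw x hxT).symm
    have hzz : z' = z := hz'
    subst hzz
    -- a cyclic group has only one involution
    have hzx : z' = x := by
      by_contra hne
      classical
      have : Fintype (S : Subgroup (Subgroup.centralizer ({x} : Set G))) := Fintype.ofFinite _
      have h2 := IsCyclic.card_pow_eq_one_le (α := (S : Subgroup (Subgroup.centralizer ({x} : Set G)))) (n := 2) (by norm_num)
      let a : (S : Subgroup (Subgroup.centralizer ({x} : Set G))) := ⟨⟨x, hxC⟩, hxS⟩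
      let b : (S : Subgroup (Subgroup.centralizer ({x} : Set G))) := ⟨⟨z', hz'C⟩, hz'S⟩
      have hsub : ({1, a, b} : Finset (S : Subgroup (Subgroup.centralizer ({x} : Set G)))) ⊆ Finset.univ.filter fun w => w ^ 2 = 1 := by
        intro w hw
        simp only [Finset.mem_insert, Finset.mem_singleton] at hw
        simp only [Finset.mem_filter, Finset.mem_univ, true_and]
        rcases hw with rfl | rfl | rfl
        · simp
        · exact Subtype.ext (Subtype.ext (by simpa [a, pow_two] using CfsgLib.Invol.invol_mul_self hx))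
        · exact Subtype.ext (Subtype.ext (by simpa [b, pow_two] using CfsgLib.Invol.invol_mul_self hz2))
      have ha1 : (1 : (S : Subgroup (Subgroup.centralizer ({x} : Set G)))) ≠ a := fun h => CfsgLib.Invol.invol_ne_one hx
        (congrArg (fun w : (S : Subgroup (Subgroup.centralizer ({x} : Set G))) => ((w : (Subgroup.centralizer ({x} : Set G))) : G)) h).symm
      have hb1 : (1 : (S : Subgroup (Subgroup.centralizer ({x} : Set G)))) ≠ b := fun h => CfsgLib.Invol.invol_ne_one hz2
        (congrArg (fun w : (S : Subgroup (Subgroup.centralizer ({x} : Set G))) => ((w : (Subgroup.centralizer ({x} : Set G))) : G)) h).symm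
      have hab : a ≠ b := fun h => hne (congrArg (fun w : (S : Subgroup (Subgroup.centralizer ({x} : Set G))) => ((w : (Subgroup.centralizer ({x} : Set G))) : G)) h).symm
      have := (Finset.card_le_card hsub).trans h2
      rw [Finset.card_insert_of_notMem (by simp [ha1, hb1]), Finset.card_insert_of_notMem (by simp [hab]),
        Finset.card_singleton] at this
      omega
    exact hzx ▸ hzw
  have hTS : (T : Subgroup G) = S' := le_antisymm (fun w hw => hTC w hw (hcent w hw)) hT
  have hcyc : IsCyclic (T : Subgroup G) := by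
    have e := Subgroup.equivMapOfInjective (S : Subgroup (Subgroup.centralizer ({x} : Set G))) (Subgroup.centralizer ({x} : Set G)).subtype (Subgroup.centralizer ({x} : Set G)).subtype_injective
    rw [hTS]
    exact e.isCyclic.1 hS
  exact Cfsg.Agent.S0219.result (CfsgLib.Invol.even_card_of_invol_mem hx (Subgroup.mem_top x) |> fun h => by
    rwa [Subgroup.card_top] at h) T hcyc

end Cfsg.Agent.S0220
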