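import Cfsg.Statements.S0221
import Cfsg.Agent.Lib.Invol.FourGroup
import Cfsg.Agent.Lib.Transfer.Thompson

set_option autoImplicit false
open Cfsg

namespace Cfsg.Agent.S0221

/-- Let G be a finite group with no subgroup of index 2 whose 2-rank is at least 3 (it contains an elementary abelian subgroup of order 8). Then the centralizer of every involution of G also contains an elementary abelian subgroup of order 8. -/
theorem result {G : Type*} [Group G] [Finite G] (hno : ∀ H : Subgroup G, H.index ≠ 2) (hrank : ∃ E : Subgroup G, Nat.card E = 8 ∧ ∀ e ∈ E, e ^ 2 = 1) (x : G) (hx : orderOf x = 2) : ∃ E : Subgroup G, E ≤ Subgroup.centralizer ({x} : Set G) ∧ Nat.card E = 8 ∧ ∀ e ∈ E, e ^ 2 = 1 := by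
  classical
  obtain ⟨E, hE8, hEsq⟩ := hrank
  have hEsq' : ∀ e ∈ E, e * e = 1 := fun e he => by rw [← pow_two]; exact hEsq e he
  have hEc : ∀ a ∈ E, ∀ b ∈ E, a * b = b * a := fun a ha b hb => by
    have h := hEsq' _ (mul_mem ha hb)
    calc a * b = (a * b)⁻¹ := eq_inv_of_mul_eq_one_left h
      _ = b * a := by
        rw [mul_inv_rev, inv_eq_of_mul_eq_one_right (hEsq' a ha), inv_eq_of_mul_eq_one_right (hEsq' b hb)]
  have hEp : IsPGroup 2 E := fun e => ⟨1, Subtype.ext (by simpa using hEsq e e.2)⟩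
  obtain ⟨T, hET⟩ := hEp.exists_le_sylow
  -- a normal four-group of `T`
  obtain ⟨U₀, hU₀n, hU₀4, hU₀c, hU₀sq⟩ := CfsgLib.Invol.exists_normal_four T.2
    (E := E.subgroupOf (T : Subgroup G)) (fun a ha b hb => Subtype.ext (hEc a ha b hb))
    (fun a ha => Subtype.ext (hEsq' a ha))
    (by rw [Nat.card_congr (Subgroup.subgroupOfEquivOfLe hET).toEquiv, hE8])
  set Q₀ := Subgroup.centralizer (U₀ : Set (T : Subgroup G))
  have hQn : Q₀.Normal := Subgroup.normal_centralizer
  -- index at most two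
  have hQidx : Q₀.index ≤ 2 := by
    obtain ⟨z, hzU, hz1, hzc⟩ := CfsgLib.OddLocal.exists_central_mod T.2 ⊥ U₀
      (bot_lt_iff_ne_bot.2 fun e => by rw [e, Subgroup.card_bot] at hU₀4; omega)
    have hz1' : z ≠ 1 := fun e => hz1 (e ▸ one_mem _)
    have hzc' : ∀ g : (T : Subgroup G), g * z * g⁻¹ = z := fun g =>
      mul_inv_eq_one.1 (Subgroup.mem_bot.1 (hzc g))
    obtain ⟨u, huU, hu⟩ : ∃ u ∈ U₀, u ∉ ({1, z} : Set (T : Subgroup G)) := by
      by_contra h
      push Not at h
      have h2 := Set.ncard_le_ncard (fun u hu => h u hu : (U₀ : Set (T : Subgroup G)) ⊆ {1, z}) (Set.toFinite _)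
      rw [← Nat.card_coe_set_eq, show Nat.card ((U₀ : Set (T : Subgroup G)) : Type _) = 4 from hU₀4,
        Set.ncard_pair (Ne.symm hz1')] at h2
      omega
    simp only [Set.mem_insert_iff, Set.mem_singleton_iff, not_or] at hu
    have hUeq : ∀ w ∈ U₀, w = 1 ∨ w = z ∨ w = u ∨ w = z * u := by
      intro w hw
      by_contra h
      push Not at h
      obtain ⟨h1, h2, h3, h4⟩ := h
      have hsub : (↑({1, z, u, z * u, w} : Finset (T : Subgroup G)) : Set (T : Subgroup G)) ⊆ U₀ := by
        simp [Set.insert_subset_iff, one_mem, hzU, huU, hw, mul_mem hzU huU]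
      have hne : z * u ≠ 1 := fun e => hu.2 (by
        rw [← inv_eq_of_mul_eq_one_right (hU₀sq z hzU)]; exact (inv_eq_of_mul_eq_one_right e).symm)
      have hne2 : z * u ≠ z := fun e => hu.1 (by simpa using e)
      have hne3 : z * u ≠ u := fun e => hz1' (by simpa using e)
      have h5 := Set.ncard_le_ncard hsub (Set.toFinite _)
      rw [Set.ncard_coe_finset, ← Nat.card_coe_set_eq,
        show Nat.card ((U₀ : Set (T : Subgroup G)) : Type _) = 4 from hU₀4] at h5
      simp [Ne.symm hz1', Ne.symm hu.1, Ne.symm hu.2, Ne.symm hne, Ne.symm h1, Ne.symm h2, Ne.symm h3,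
        Ne.symm h4, Ne.symm hne2, Ne.symm hne3] at h5
    -- a conjugate of `u` is `u` or `z u`
    have hfun : ∀ g : (T : Subgroup G), g * u * g⁻¹ = u ∨ g * u * g⁻¹ = z * u := by
      intro g
      rcases hUeq _ (hU₀n.conj_mem u huU g) with h | h | h
      · exact absurd (conj_eq_one_iff.1 h) hu.1
      · exact absurd ((MulAut.conj g).injective (by
          simp only [MulAut.conj_apply]; rw [h, hzc'])) hu.2
      · exact h
    have hmem : ∀ g : (T : Subgroup G), g * u * g⁻¹ = u → g ∈ Q₀ := fun g hg => by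
      refine Subgroup.mem_centralizer_iff.2 fun w hw => ?_
      have hgu : Commute g u := mul_inv_eq_iff_eq_mul.1 hg
      have hgz : Commute g z := mul_inv_eq_iff_eq_mul.1 (hzc' g)
      rcases hUeq w hw with h | h | h | h <;> rw [h]
      · simp
      · exact hgz.eq.symm
      · exact hgu.eq.symm
      · exact (hgz.mul_right hgu).eq.symm
    by_contra hidx
    push Not at hidx
    have := Fintype.ofFinite ((T : Subgroup G) ⧸ Q₀)
    rw [Subgroup.index_eq_card, Nat.card_eq_fintype_card] at hidx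
    obtain ⟨a, b, c, hab, hac, hbc⟩ := Fintype.two_lt_card_iff.1 hidx
    obtain ⟨a, rfl⟩ := QuotientGroup.mk_surjective a
    obtain ⟨b, rfl⟩ := QuotientGroup.mk_surjective b
    obtain ⟨c, rfl⟩ := QuotientGroup.mk_surjective c
    have key : ∀ p q : (T : Subgroup G), p * u * p⁻¹ = q * u * q⁻¹ → (p : (T : Subgroup G) ⧸ Q₀) = q :=
      fun p q h => QuotientGroup.eq.2 (hmem _ (by
        calc p⁻¹ * q * u * (p⁻¹ * q)⁻¹ = p⁻¹ * (q * u * q⁻¹) * p := by group
          _ = u := by rw [← h]; group))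
    rcases hfun a with h1 | h1 <;> rcases hfun b with h2 | h2 <;> rcases hfun c with h3 | h3 <;>
      first
      | exact hab (key _ _ (h1.trans h2.symm))
      | exact hac (key _ _ (h1.trans h3.symm))
      | exact hbc (key _ _ (h2.trans h3.symm))
  set U := U₀.map (T : Subgroup G).subtype
  set Q := Q₀.map (T : Subgroup G).subtype
  have hUsq : ∀ u ∈ U, u * u = 1 := by
    rintro _ ⟨u, hu, rfl⟩; rw [← map_mul, hU₀sq u hu, map_one]
  have hQU : ∀ q ∈ Q, ∀ u ∈ U, u * q = q * u := by
    rintro _ ⟨q, hq, rfl⟩ _ ⟨u, hu, rfl⟩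
    rw [← map_mul, ← map_mul, Subgroup.mem_centralizer_iff.1 hq u hu]
  have hU4 : Nat.card U = 4 := by
    rw [← hU₀4, Nat.card_congr (U₀.equivMapOfInjective _ (Subgroup.subtype_injective _)).toEquiv]
  -- `x` is conjugate into `Q`
  obtain ⟨g, hgx⟩ : ∃ g : G, g * x * g⁻¹ ∈ Q := by
    obtain ⟨g₀, hg₀⟩ := CfsgLib.Invol.exists_conj_invol_mem_sylow T hx
    rcases (show Q₀.index = 1 ∨ Q₀.index = 2 by
      have : Q₀.index ≠ 0 := Subgroup.FiniteIndex.index_ne_zero
      omega) with h | h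
    · exact ⟨g₀, ⟨⟨_, hg₀⟩, by rw [Subgroup.index_eq_one.1 h]; trivial, rfl⟩⟩
    · have hrel : Q.relIndex (T : Subgroup G) = 2 := by
        rw [Subgroup.relIndex, Subgroup.subgroupOf,
          Subgroup.comap_map_eq_self_of_injective (Subgroup.subtype_injective _), h]
      rcases CfsgLib.Transfer.thompson_transfer_involution T (Subgroup.map_subtype_le _) hrel
        (u := g₀ * x * g₀⁻¹) (by rw [← CfsgLib.Invol.orderOf_conj_eq g₀ x] at hx; rw [pow_two, CfsgLib.Invol.invol_mul_self hx]) hg₀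
        with ⟨M, -, hM, -⟩ | ⟨g, hg⟩
      · exact absurd hM (hno M)
      · exact ⟨g * g₀, by
          rw [show g * g₀ * x * (g * g₀)⁻¹ = g * (g₀ * x * g₀⁻¹) * g⁻¹ by group]; exact hg⟩
  -- an elementary abelian subgroup of order eight centralising `g x g⁻¹`
  set y := g * x * g⁻¹
  have hy : orderOf y = 2 := by rw [CfsgLib.Invol.orderOf_conj_eq, hx]
  suffices h : ∃ E' : Subgroup G, Nat.card E' = 8 ∧ (∀ e ∈ E', e ^ 2 = 1) ∧ ∀ e ∈ E', y * e = e * y by
    obtain ⟨E', h8, hsq, hcy⟩ := h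
    refine ⟨E'.map (MulAut.conj g⁻¹).toMonoidHom, ?_, ?_, ?_⟩
    · rintro _ ⟨e, he, rfl⟩
      refine Subgroup.mem_centralizer_singleton_iff.2 ?_
      have := congrArg (MulAut.conj g⁻¹) (hcy e he)
      simp only [map_mul] at this
      have hyx : MulAut.conj g⁻¹ y = x := by simp [y, mul_assoc]
      rw [hyx] at this
      exact this.symm
    · rw [← h8, Nat.card_congr (E'.equivMapOfInjective (MulAut.conj g⁻¹).toMonoidHom (MulAut.conj g⁻¹).injective).toEquiv]
    · rintro _ ⟨e, he, rfl⟩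
      rw [← map_pow, hsq e he, map_one]
  have sup8 : ∀ (V : Subgroup G) (w : G), Nat.card V = 4 → (∀ v ∈ V, v * v = 1) → w * w = 1 → w ∉ V →
      (∀ v ∈ V, v * w = w * v) → (∀ a ∈ V, ∀ b ∈ V, a * b = b * a) →
      ∃ E' : Subgroup G, Nat.card E' = 8 ∧ (∀ e ∈ E', e ^ 2 = 1) ∧
        ∀ e ∈ E', ∃ v ∈ V, e = v ∨ e = v * w := by
    intro V w h4 hsq hw hwV hcw hcV
    let E' : Subgroup G :=
      { carrier := {e | ∃ v ∈ V, e = v ∨ e = v * w}
        one_mem' := ⟨1, one_mem _, Or.inl rfl⟩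
        mul_mem' := by
          rintro a b ⟨v, hv, rfl | rfl⟩ ⟨v', hv', rfl | rfl⟩
          · exact ⟨_, mul_mem hv hv', Or.inl rfl⟩
          · exact ⟨_, mul_mem hv hv', Or.inr (mul_assoc _ _ _).symm⟩
          · exact ⟨_, mul_mem hv hv', Or.inr (by rw [mul_assoc, ← hcw _ hv', ← mul_assoc])⟩
          · exact ⟨_, mul_mem hv hv', Or.inl (by
              rw [mul_assoc, ← mul_assoc w, ← hcw _ hv', mul_assoc, hw, mul_one])⟩
        inv_mem' := by
          rintro a ⟨v, hv, rfl | rfl⟩
          · exact ⟨_, inv_mem hv, Or.inl rfl⟩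
          · exact ⟨_, inv_mem hv, Or.inr (by
              rw [mul_inv_rev, inv_eq_of_mul_eq_one_right hw, hcw _ (inv_mem hv)])⟩ }
    refine ⟨E', ?_, ?_, fun e he => he⟩
    · have hset : (E' : Set G) = (V : Set G) ∪ (fun v => v * w) '' (V : Set G) := by
        ext e
        refine ⟨?_, ?_⟩
        · rintro ⟨v, hv, rfl | rfl⟩
          exacts [Or.inl hv, Or.inr ⟨v, hv, rfl⟩]
        · rintro (hv | ⟨v, hv, rfl⟩)
          exacts [⟨e, hv, Or.inl rfl⟩, ⟨v, hv, Or.inr rfl⟩]
      show Nat.card ((E' : Set G) : Type _) = 8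
      have hdisj : Disjoint (V : Set G) ((fun v => v * w) '' (V : Set G)) := by
        rw [Set.disjoint_right]
        rintro _ ⟨v, hv, rfl⟩ hmem
        exact hwV (by simpa using mul_mem (inv_mem hv) (show v * w ∈ V from hmem))
      rw [Nat.card_coe_set_eq, hset, Set.ncard_union_eq hdisj,
        Set.ncard_image_of_injective _ (mul_left_injective w), ← Nat.card_coe_set_eq]
      simp [h4]
    · rintro e ⟨v, hv, rfl | rfl⟩
      · rw [pow_two, hsq _ hv]
      · rw [pow_two, mul_assoc, ← mul_assoc w, ← hcw _ hv, mul_assoc, hw, mul_one, hsq _ hv]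
  have hUc : ∀ a ∈ U, ∀ b ∈ U, a * b = b * a := fun a ha b hb => hQU b (by
    obtain ⟨b', hb', rfl⟩ := hb
    exact ⟨b', Subgroup.le_centralizer_iff_isMulCommutative.2 hU₀c hb', rfl⟩) a ha
  by_cases hyU : y ∈ U
  · by_cases hEU : ∀ e ∈ E, e ∈ Q → e ∈ U
    · -- then `U ≤ E`
      have hle : Nat.card (E ⊓ Q : Subgroup G) ≤ 4 := hU4 ▸ Subgroup.card_le_of_le
        (fun e he => hEU e he.1 he.2)
      have hge : 4 ≤ Nat.card (E ⊓ Q : Subgroup G) := by
        have h1 : Q.relIndex E ≤ 2 := by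
          refine le_trans (Nat.le_of_dvd (Nat.pos_of_ne_zero fun h => ?_) ?_) hQidx
          · have h' : Q₀.index = 0 := h
            exact Subgroup.FiniteIndex.index_ne_zero h'
          · have h2 : Q.relIndex E ∣ Q.relIndex (T : Subgroup G) := by
              have e1 : Q.relIndex E = Q₀.relIndex (E.subgroupOf (T : Subgroup G)) := by
                rw [← Subgroup.relIndex_map_map_of_injective _ _ (Subgroup.subtype_injective (T : Subgroup G)),
                  Subgroup.map_subgroupOf_eq_of_le hET]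
              rw [e1, show Q.relIndex (T : Subgroup G) = Q₀.index by
                rw [Subgroup.relIndex, Subgroup.subgroupOf,
                  Subgroup.comap_map_eq_self_of_injective (Subgroup.subtype_injective _)]]
              exact Subgroup.relIndex_dvd_index_of_normal Q₀ _
            rw [show Q.relIndex (T : Subgroup G) = Q₀.index by
                rw [Subgroup.relIndex, Subgroup.subgroupOf,
                  Subgroup.comap_map_eq_self_of_injective (Subgroup.subtype_injective _)]] at h2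
            exact h2
        have h3 := (Q.subgroupOf E).card_mul_index
        rw [show Nat.card (Q.subgroupOf E) = Nat.card (E ⊓ Q : Subgroup G) by
          rw [← Subgroup.inf_subgroupOf_left, Nat.card_congr (Subgroup.subgroupOfEquivOfLe inf_le_left).toEquiv]] at h3
        have h4 : (Q.subgroupOf E).index = Q.relIndex E := rfl
        rw [h4, hE8] at h3
        by_contra hlt
        have : Nat.card (E ⊓ Q : Subgroup G) * Q.relIndex E ≤ 3 * 2 := Nat.mul_le_mul (by omega) h1
        omega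
      have heq : (E ⊓ Q : Subgroup G) = U := Subgroup.eq_of_le_of_card_ge
        (fun e he => hEU e he.1 he.2) (by omega)
      have hyE : y ∈ E := (heq.symm ▸ hyU : y ∈ E ⊓ Q).1
      exact ⟨E, hE8, hEsq, fun e he => hEc y hyE e he⟩
    · push Not at hEU
      obtain ⟨e, heE, heQ, heU⟩ := hEU
      obtain ⟨E', h8, hsq, hmem⟩ := sup8 U e hU4 hUsq (hEsq' e heE) heU (hQU e heQ) hUc
      refine ⟨E', h8, hsq, fun a ha => ?_⟩
      obtain ⟨v, hv, rfl | rfl⟩ := hmem a ha
      · exact hUc y hyU _ hv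
      · rw [← mul_assoc, hUc y hyU v hv, mul_assoc, hQU e heQ y hyU, ← mul_assoc]
  · obtain ⟨E', h8, hsq, hmem⟩ := sup8 U y hU4 hUsq (CfsgLib.Invol.invol_mul_self hy) hyU (hQU y hgx) hUc
    refine ⟨E', h8, hsq, fun a ha => ?_⟩
    obtain ⟨v, hv, rfl | rfl⟩ := hmem a ha
    · exact (hQU y hgx _ hv).symm
    · rw [← mul_assoc, ← hQU y hgx v hv]

end Cfsg.Agent.S0221
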