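import Cfsg.Statements.S0224
import Cfsg.Agent.Lib.Invol.Strong

set_option autoImplicit false
open Cfsg

namespace Cfsg.Agent.S0224

/-- Let H be a proper subgroup of even order of the finite group G. Then H is strongly embedded if and only if each involution of H fixes exactly one point (namely the coset H) in the action of G on the cosets of H. -/
theorem result {G : Type*} [Group G] [Finite G] (H : Subgroup G) (hH : H ≠ ⊤) (heven : Even (Nat.card H)) : Cfsg.IsStronglyEmbedded H ↔ ∀ t ∈ H, orderOf t = 2 → Nat.card {c : G ⧸ H // t • c = c} = 1 := by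
  constructor
  · intro hSE t _ h2
    obtain ⟨x, hx, huniq⟩ := CfsgLib.Invol.se_existsUnique_fix hSE h2
    have : Unique {c : G ⧸ H // t • c = c} :=
      ⟨⟨⟨x, hx⟩⟩, fun ⟨y, hy⟩ => Subtype.ext (huniq y hy)⟩
    exact Nat.card_unique
  · intro hone
    refine ⟨hH, heven, fun g hg => Nat.not_even_iff_odd.1 fun he => hg ?_⟩
    obtain ⟨t, ⟨htH, s, hsH, hst⟩, h2⟩ := CfsgLib.Invol.exists_invol_mem he
    obtain ⟨hsub, -⟩ := Nat.card_eq_one_iff_unique.1 (hone t htH h2)
    have h1 : t • ((1 : G) : G ⧸ H) = ((1 : G) : G ⧸ H) :=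
      (CfsgLib.Invol.fix_coset_iff t 1).2 (by simpa using htH)
    have h2' : t • ((g : G) : G ⧸ H) = (g : G ⧸ H) :=
      (CfsgLib.Invol.fix_coset_iff t g).2 (by rw [← hst]; simpa [mul_assoc] using hsH)
    have := congrArg Subtype.val (Subsingleton.elim (⟨_, h1⟩ : {c : G ⧸ H // t • c = c}) ⟨_, h2'⟩)
    simpa [QuotientGroup.eq] using this

end Cfsg.Agent.S0224
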