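import Cfsg.Statements.S0226
import Cfsg.Agent.Lib.Invol.Basic
import Mathlib.GroupTheory.Perm.Cycle.Type

set_option autoImplicit false
open Cfsg

namespace Cfsg.Agent.S0226

/-- A finite group of even order has an odd number of involutions. -/
theorem result {G : Type*} [Group G] [Finite G] (heven : Even (Nat.card G)) : Odd (Nat.card {t : G // orderOf t = 2}) := by
  classical
  have : Fintype G := Fintype.ofFinite G
  have hσ : (Equiv.inv G : Equiv.Perm G) ^ 2 ^ 1 = 1 := Equiv.Perm.ext fun g => by
    simp [pow_two]
  have h := Equiv.Perm.card_compl_support_modEq (p := 2) (n := 1) hσ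
  have hset : ((Equiv.inv G : Equiv.Perm G).support)ᶜ = insert 1 (Finset.univ.filter fun t : G => orderOf t = 2) := by
    ext t
    simp only [Finset.mem_compl, Equiv.Perm.mem_support, Equiv.inv_apply, not_not, Finset.mem_insert,
      Finset.mem_filter, Finset.mem_univ, true_and]
    constructor
    · intro ht
      by_cases h1 : t = 1
      · exact Or.inl h1
      · exact Or.inr (CfsgLib.Invol.invol_of_inv ht h1)
    · rintro (rfl | ht)
      · simp
      · exact CfsgLib.Invol.invol_inv ht
  rw [hset, Finset.card_insert_of_notMem (by simp), ← Fintype.card_subtype] at h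
  rw [Nat.card_eq_fintype_card] at heven ⊢
  rw [Nat.ModEq, Nat.even_iff.1 heven] at h
  rw [Nat.odd_iff]
  omega

end Cfsg.Agent.S0226
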