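import Cfsg.Statements.S0229
import Cfsg.Agent.Lib.Invol.Isolated

set_option autoImplicit false
open Cfsg

namespace Cfsg.Agent.S0229

/-- Let t be an involution of a Sylow 2-subgroup S of a finite group G, conjugate in G to no other element of S, and let s be an involution of G not conjugate to t. Then the order of st is twice an odd number. -/
theorem result {G : Type*} [Group G] [Finite G] (S : Sylow 2 G) (t : G) (ht : orderOf t = 2) (htS : t ∈ S) (hiso : ∀ g : G, g * t * g⁻¹ ∈ S → g * t * g⁻¹ = t) (s : G) (hs : orderOf s = 2) (hns : ¬ IsConj s t) : orderOf (s * t) % 4 = 2 := by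
  have hi := CfsgLib.Invol.isolated_of_sylow S ht htS hiso
  obtain ⟨m, hm⟩ := CfsgLib.Invol.even_of_not_isConj ht hs (fun h => hns h.symm)
  rw [CfsgLib.Invol.orderOf_mul_symm ht hs]
  by_contra h4
  obtain ⟨j, hj⟩ : ∃ j, m = 2 * j := ⟨m / 2, by omega⟩
  have heven : Even (orderOf (t * s)) := ⟨m, hm⟩
  have hw := CfsgLib.Invol.orderOf_pow_half heven
  have hc := CfsgLib.Invol.commute_pow_half_left ht hs heven
  have hconj : (t * s) ^ (j : ℤ) * t * ((t * s) ^ (j : ℤ))⁻¹ =
      (t * s) ^ (orderOf (t * s) / 2) * t := by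
    rw [CfsgLib.Invol.zpow_conj_left ht hs, ← zpow_natCast (n := orderOf (t * s) / 2)]
    congr 2
    omega
  have heq := CfsgLib.Invol.isolated_eq_of_commute hi (IsConj.refl t)
    (isConj_iff.2 ⟨_, hconj⟩) ((hc.symm).mul_right (Commute.refl t))
  exact CfsgLib.Invol.invol_ne_one hw (mul_eq_right.1 heq.symm)

end Cfsg.Agent.S0229
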