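import Cfsg.Statements.S0230
import Cfsg.Agent.Lib.Invol.Basic

set_option autoImplicit false
open Cfsg

namespace Cfsg.Agent.S0230

/-- Let G be a finite group with two non-conjugate involutions, and let t be an involution whose centralizer has maximal order among centralizers of involutions. Then |G| < |C_G(t)|^3. -/
theorem result {G : Type*} [Group G] [Finite G] (s t : G) (hs : orderOf s = 2) (ht : orderOf t = 2) (hnc : ¬ IsConj s t) (hmax : ∀ u : G, orderOf u = 2 → Nat.card (Subgroup.centralizer ({u} : Set G)) ≤ Nat.card (Subgroup.centralizer ({t} : Set G))) : Nat.card G < Nat.card (Subgroup.centralizer ({t} : Set G)) ^ 3 := by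
  classical
  have : Fintype G := Fintype.ofFinite G
  set c := Nat.card (Subgroup.centralizer ({t} : Set G)) with hc
  let Z := {z : G // orderOf z = 2 ∧ Commute z t}
  have hZ : Nat.card Z + 1 ≤ c := by
    rw [hc, ← Finite.card_option]
    refine Nat.card_le_card_of_injective (fun o => o.elim ⟨1, one_mem _⟩
      fun z => ⟨z.1, Subgroup.mem_centralizer_singleton_iff.2 z.2.2⟩) ?_
    rintro (_ | z) (_ | z') e <;> simp only [Option.elim_none, Option.elim_some, Subtype.mk.injEq] at e
    · rfl
    · exact absurd e.symm (CfsgLib.Invol.invol_ne_one z'.2.1)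
    · exact absurd e (CfsgLib.Invol.invol_ne_one z.2.1)
    · exact congrArg some (Subtype.ext e)
  have hsum : Nat.card {v : G // IsConj s v} ≤ Nat.card Z * c := by
    have hex : ∀ v : {v : G // IsConj s v}, ∃ z : Z, v.1 ∈ Subgroup.centralizer ({z.1} : Set G) := by
      rintro ⟨v, hv⟩
      have hvo : orderOf v = 2 := by rw [CfsgLib.Invol.orderOf_eq_of_isConj hv, hs]
      obtain ⟨z, hz, hzt, hzv⟩ := CfsgLib.Invol.exists_commute_both ht hvo
        (CfsgLib.Invol.even_of_not_isConj ht hvo fun h => hnc (hv.trans h.symm))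
      exact ⟨⟨z, hz, hzt⟩, Subgroup.mem_centralizer_singleton_iff.2 hzv.symm⟩
    choose f hf using hex
    calc Nat.card {v : G // IsConj s v} ≤ Nat.card (Σ z : Z, Subgroup.centralizer ({z.1} : Set G)) := by
          refine Nat.card_le_card_of_injective (fun v => ⟨f v, ⟨v.1, hf v⟩⟩) ?_
          intro a b e
          exact Subtype.ext (congrArg (fun w : (Σ z : Z, Subgroup.centralizer ({z.1} : Set G)) => (w.2 : G)) e)
      _ ≤ Nat.card Z * c := by
          rw [Nat.card_sigma, Nat.card_eq_fintype_card (α := Z)]
          exact (Finset.sum_le_card_nsmul _ _ c fun z _ => hmax z.1 z.2.1).trans (le_of_eq rfl)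
  have hs' := CfsgLib.Invol.card_class_mul_card_centralizer s
  have hcs := hmax s hs
  have hcpos : 0 < c := Nat.card_pos
  calc Nat.card G ≤ Nat.card Z * c * c := by
        rw [← hs']; exact Nat.mul_le_mul hsum hcs
    _ < c * c * c := by
        have : Nat.card Z * c < c * c := Nat.mul_lt_mul_of_pos_right (by omega) hcpos
        exact Nat.mul_lt_mul_of_pos_right this hcpos
    _ = c ^ 3 := by ring

end Cfsg.Agent.S0230
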