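import Cfsg.Statements.S0231
import Cfsg.Agent.Lib.Invol.Simple

set_option autoImplicit false
open scoped Pointwise
open Cfsg

namespace Cfsg.Agent.S0231

/-- Let T be a Sylow 2-subgroup of the finite group G which is not normal and which intersects every other Sylow 2-subgroup trivially. Then G has a single conjugacy class of involutions. -/
theorem result {G : Type*} [Group G] [Finite G] (T : Sylow 2 G) (hnn : ¬ (T : Subgroup G).Normal) (hTI : ∀ g : G, MulAut.conj g • (T : Subgroup G) ≠ T → MulAut.conj g • (T : Subgroup G) ⊓ T = ⊥) (s t : G) (hs : orderOf s = 2) (ht : orderOf t = 2) : IsConj s t := by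
  have step : ∀ a z : G, orderOf a = 2 → orderOf z = 2 → a ∈ T → Commute a z → z ∈ T := by
    intro a z ha hz haT hc
    obtain ⟨g, hg⟩ := CfsgLib.Invol.exists_conj_mem_sylow T
      (CfsgLib.Invol.isPGroup_closure_of_commute ha hz hc)
    have hmem : ∀ w ∈ Subgroup.closure ({a, z} : Set G), w ∈ MulAut.conj g⁻¹ • (T : Subgroup G) := by
      intro w hw
      rw [Subgroup.mem_pointwise_smul_iff_inv_smul_mem, ← map_inv, inv_inv, MulAut.smul_def]
      exact hg w hw
    by_cases heq : MulAut.conj g⁻¹ • (T : Subgroup G) = T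
    · have := hmem z (Subgroup.subset_closure (by simp))
      rwa [heq] at this
    · have := hTI g⁻¹ heq
      have ha' : a ∈ MulAut.conj g⁻¹ • (T : Subgroup G) ⊓ (T : Subgroup G) :=
        ⟨hmem a (Subgroup.subset_closure (by simp)), haT⟩
      rw [this, Subgroup.mem_bot] at ha'
      exact absurd ha' (CfsgLib.Invol.invol_ne_one ha)
  by_contra hst
  obtain ⟨g₀, hg₀⟩ := CfsgLib.Invol.exists_conj_invol_mem_sylow T hs
  set a := g₀ * s * g₀⁻¹
  have ha : orderOf a = 2 := by rw [CfsgLib.Invol.orderOf_conj_eq, hs]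
  have hat : ∀ g : G, g * t * g⁻¹ ∈ T := by
    intro g
    have hb : orderOf (g * t * g⁻¹) = 2 := by rw [CfsgLib.Invol.orderOf_conj_eq, ht]
    have hnc : ¬ IsConj a (g * t * g⁻¹) := fun h => hst
      (((isConj_iff.2 ⟨g₀, rfl⟩ : IsConj s a).trans h).trans (isConj_iff.2 ⟨g, rfl⟩ : IsConj t _).symm)
    obtain ⟨z, hz, hza, hzb⟩ := CfsgLib.Invol.exists_commute_both ha hb
      (CfsgLib.Invol.even_of_not_isConj ha hb hnc)
    exact step z _ hz hb (step a z ha hz hg₀ hza.symm) hzb
  apply hnn
  refine ⟨fun w hw g => ?_⟩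
  by_cases heq : MulAut.conj g • (T : Subgroup G) = T
  · have : g * w * g⁻¹ ∈ MulAut.conj g • (T : Subgroup G) :=
      Subgroup.smul_mem_pointwise_smul w (MulAut.conj g) _ hw
    rwa [heq] at this
  · exfalso
    have hmem : g * t * g⁻¹ ∈ MulAut.conj g • (T : Subgroup G) ⊓ (T : Subgroup G) :=
      ⟨Subgroup.smul_mem_pointwise_smul t (MulAut.conj g) _ (show t ∈ T by simpa using hat 1), hat g⟩
    rw [hTI g heq, Subgroup.mem_bot] at hmem
    exact CfsgLib.Invol.invol_ne_one (x := g * t * g⁻¹)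
      (by rw [CfsgLib.Invol.orderOf_conj_eq, ht]) hmem

end Cfsg.Agent.S0231
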