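import Cfsg.Statements.S0232
import Cfsg.Agent.Lib.Invol.Counting
import Mathlib.GroupTheory.Index

set_option autoImplicit false
open Cfsg

namespace Cfsg.Agent.S0232

universe v

theorem aux : ∀ (k : ℕ) (G : Type v) [Group G] [Finite G], Nat.card G = k → Even k → 2 < k →
    ∃ H : Subgroup G, H ≠ ⊤ ∧ k < (Nat.card H) ^ 3 := by
  intro k
  induction k using Nat.strong_induction_on with
  | _ k ih =>
    intro G _ _ hk heven hgt
    by_cases hidx : ∃ H : Subgroup G, H.index = 2
    · obtain ⟨H, hH⟩ := hidx
      refine ⟨H, fun h => by rw [h, Subgroup.index_top] at hH; omega, ?_⟩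
      have h := H.card_mul_index
      rw [hH, hk] at h
      have h2 : 2 ≤ Nat.card H := by omega
      rw [← h, pow_three]
      have := Nat.mul_le_mul h2 h2
      nlinarith
    subst hk
    by_cases hZ : Even (Nat.card (Subgroup.center G))
    · obtain ⟨z, hzc, hz⟩ := CfsgLib.Invol.exists_invol_mem hZ
      have : (Subgroup.zpowers z).Normal := by
        refine ⟨fun w hw g => ?_⟩
        have hwc : w ∈ Subgroup.center G := Subgroup.zpowers_le.2 hzc hw
        rwa [Subgroup.mem_center_iff.1 hwc g, mul_inv_cancel_right]
      set q := Nat.card (G ⧸ Subgroup.zpowers z)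
      have hq : Nat.card G = q * 2 := by
        rw [Subgroup.card_eq_card_quotient_mul_card_subgroup (Subgroup.zpowers z), Nat.card_zpowers, hz]
      have hqeven : Even q := by
        by_contra ho
        apply hidx
        obtain ⟨T⟩ := (inferInstance : Nonempty (Sylow 2 G))
        refine Cfsg.Agent.S0219.result heven T ?_
        obtain ⟨n, hn⟩ := T.2.exists_card_eq
        rcases n with _ | _ | n
        · have := T.dvd_card_of_dvd_card (even_iff_two_dvd.1 heven)
          rw [hn] at this; norm_num at this
        · exact isCyclic_of_prime_card (p := 2) (by simpa using hn)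
        · exfalso
          have h4 : 2 ^ 2 ∣ q * 2 := hq ▸ ((pow_dvd_pow 2 (by omega)).trans (hn ▸
            Subgroup.card_subgroup_dvd_card (T : Subgroup G)))
          exact ho (even_iff_two_dvd.2 (by omega))
      by_cases hq2 : q = 2
      · exfalso
        exact hidx ⟨Subgroup.zpowers z, by rw [Subgroup.index_eq_card]; exact hq2⟩
      · obtain ⟨j, hj⟩ := hqeven
        obtain ⟨K, hK, hlt⟩ := ih q (by omega) (G ⧸ Subgroup.zpowers z) rfl ⟨j, hj⟩ (by omega)
        have hcard : Nat.card (K.comap (QuotientGroup.mk' (Subgroup.zpowers z))) = 2 * Nat.card K := by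
          have h1 := (K.comap (QuotientGroup.mk' (Subgroup.zpowers z))).card_mul_index
          rw [Subgroup.index_comap_of_surjective _ (QuotientGroup.mk'_surjective _), hq] at h1
          have h2 : Nat.card K * K.index = q := K.card_mul_index
          refine Nat.eq_of_mul_eq_mul_right (Nat.pos_of_ne_zero K.index_ne_zero_of_finite) ?_
          rw [h1, mul_assoc, h2, mul_comm]
        refine ⟨K.comap (QuotientGroup.mk' (Subgroup.zpowers z)), fun h => hK ?_, ?_⟩
        · rw [← Subgroup.map_comap_eq_self_of_surjective (QuotientGroup.mk'_surjective _) K, h,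
            ← MonoidHom.range_eq_map, MonoidHom.range_eq_top.2 (QuotientGroup.mk'_surjective _)]
        · rw [hcard, mul_pow]; omega
    · rw [Nat.not_even_iff_odd] at hZ
      obtain ⟨H, hH, h2 | hlt⟩ := CfsgLib.Invol.brauer_fowler heven hZ
      · exact absurd ⟨H, h2⟩ hidx
      obtain ⟨t, ht⟩ := exists_prime_orderOf_dvd_card' (G := G) 2 (even_iff_two_dvd.1 heven)
      have h1 := CfsgLib.Invol.exists_pair_of_index t hlt ht
      have hC : Subgroup.centralizer ({t} : Set G) ≠ ⊤ := by
        intro htop
        refine (Nat.not_even_iff_odd.2 hZ) (CfsgLib.Invol.even_card_of_invol_mem ht ?_)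
        rw [Subgroup.mem_center_iff]
        exact fun g => Subgroup.mem_centralizer_singleton_iff.1 (htop ▸ Subgroup.mem_top g)
      have hg : Nat.card G < Nat.card H * Nat.card (Subgroup.centralizer ({t} : Set G)) ^ 2 := by
        rw [← H.card_mul_index]
        exact Nat.mul_lt_mul_of_pos_left h1 Nat.card_pos
      rcases le_total (Nat.card H) (Nat.card (Subgroup.centralizer ({t} : Set G))) with h | h
      · refine ⟨_, hC, lt_of_lt_of_le hg ?_⟩
        rw [pow_succ' _ 2]
        exact Nat.mul_le_mul_right _ h
      · refine ⟨_, hH, lt_of_lt_of_le hg ?_⟩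
        rw [pow_succ' _ 2]
        exact Nat.mul_le_mul_left _ (Nat.pow_le_pow_left h 2)

/-- A finite group G of even order greater than 2 has a proper subgroup H with |G| < |H|^3. -/
theorem result {G : Type*} [Group G] [Finite G] (heven : Even (Nat.card G)) (hgt : 2 < Nat.card G) : ∃ H : Subgroup G, H ≠ ⊤ ∧ Nat.card G < (Nat.card H) ^ 3 := by
  exact aux _ G rfl heven hgt

end Cfsg.Agent.S0232
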