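import Cfsg.Statements.S0234
import Cfsg.Agent.Lib.Invol.Counting
import Cfsg.Agent.Lib.Invol.Simple

set_option autoImplicit false
open Cfsg

namespace Cfsg.Agent.S0234

theorem card_invol_A5 :
    Nat.card {t : alternatingGroup (Fin 5) // orderOf t = 2} = 15 := by
  rw [Nat.card_congr (Equiv.subtypeEquivRight
    (q := fun t : alternatingGroup (Fin 5) => t * t = 1 ∧ t ≠ 1) fun t =>
      ⟨fun h => ⟨CfsgLib.Invol.invol_mul_self h, CfsgLib.Invol.invol_ne_one h⟩,
        fun h => CfsgLib.Invol.invol_of_mul_self h.1 h.2⟩), Nat.card_eq_fintype_card]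
  decide +kernel

/-- In a finite simple group G of even order greater than 2, the number n of involutions satisfies 3n < |G|. -/
theorem result {G : Type*} [Group G] [Finite G] [IsSimpleGroup G] (heven : Even (Nat.card G)) (hgt : 2 < Nat.card G) : 3 * Nat.card {t : G // orderOf t = 2} < Nat.card G := by
  by_cases hna : IsMulCommutative G
  · exfalso
    obtain ⟨t, ht⟩ := exists_prime_orderOf_dvd_card' (G := G) 2 (even_iff_two_dvd.1 heven)
    have htop : Subgroup.zpowers t = ⊤ := by
      let : CommGroup G := { ‹Group G› with mul_comm := hna.is_comm.comm }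
      exact (((Subgroup.zpowers t).normal_of_comm).eq_bot_or_eq_top).resolve_left fun h =>
        CfsgLib.Invol.invol_ne_one ht (Subgroup.zpowers_eq_bot.1 h)
    rw [← Subgroup.card_top (G := G), ← htop, Nat.card_zpowers, ht] at hgt
    omega
  have hZ : Odd (Nat.card (Subgroup.center G)) := by
    rw [CfsgLib.Invol.center_eq_bot_of_simple hna, Subgroup.card_bot]; exact odd_one
  obtain ⟨H, hH, h2 | hlt⟩ := CfsgLib.Invol.brauer_fowler heven hZ
  · exact absurd h2 (CfsgLib.Invol.index_ne_two_of_simple hna H)
  set n := Nat.card {t : G // orderOf t = 2} with hn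
  by_contra h3
  push Not at h3
  have h5 := CfsgLib.Invol.five_le_index hna hH
  have hidx : H.index = 5 := by
    by_contra h
    have h6 : 6 ≤ H.index := by omega
    have := Nat.mul_le_mul_right (n ^ 2) (Nat.mul_le_mul_left 2 h6)
    nlinarith
  classical
  have : Fintype (G ⧸ H) := Fintype.ofFinite _
  have hc5 : Fintype.card (G ⧸ H) = 5 := by
    rw [← Nat.card_eq_fintype_card, ← Subgroup.index_eq_card, hidx]
  let e := Fintype.equivFinOfCardEq hc5
  let f : G →* Equiv.Perm (Fin 5) := (Equiv.permCongrHom e).toMonoidHom.comp (MulAction.toPermHom G (G ⧸ H))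
  have hf : Function.Injective f :=
    (Equiv.permCongrHom e).injective.comp (CfsgLib.Invol.toPermHom_injective_of_simple hH)
  have heven' : ∀ g, f g ∈ alternatingGroup (Fin 5) := by
    intro g
    rw [Equiv.Perm.mem_alternatingGroup]
    rcases ((Equiv.Perm.sign.comp f).normal_ker).eq_bot_or_eq_top with h | h
    · exfalso
      apply hna
      rw [MonoidHom.ker_eq_bot_iff] at h
      exact ⟨⟨fun a b => h (by simp only [map_mul]; exact mul_comm _ _)⟩⟩
    · have : g ∈ (Equiv.Perm.sign.comp f).ker := h ▸ Subgroup.mem_top g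
      exact this
  let f' : G →* alternatingGroup (Fin 5) := f.codRestrict _ heven'
  have hf' : Function.Injective f' := fun a b h => hf (congrArg Subtype.val h)
  have hA : Nat.card (alternatingGroup (Fin 5)) = 60 := by
    rw [nat_card_alternatingGroup, Nat.card_fin]; rfl
  have hsurj : Function.Surjective f' := by
    rw [← MonoidHom.range_eq_top]
    by_contra hne
    have hna5 : ¬ IsMulCommutative (alternatingGroup (Fin 5)) := fun h => hna
      ⟨⟨fun a b => hf' (by rw [map_mul, map_mul]; exact h.is_comm.comm _ _)⟩⟩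
    have h5' := CfsgLib.Invol.five_le_index hna5 hne
    have hc : Nat.card f'.range = Nat.card G := (Nat.card_congr (MonoidHom.ofInjective hf').toEquiv).symm
    have := f'.range.card_mul_index
    rw [hc, hA] at this
    have h13 := CfsgLib.Invol.thirteen_le_card_of_simple hna
    have := Nat.mul_le_mul h13 h5'
    omega
  let E := MulEquiv.ofBijective f' ⟨hf', hsurj⟩
  have hn15 : n = 15 := by
    rw [hn, ← card_invol_A5]
    exact Nat.card_congr (E.toEquiv.subtypeEquiv fun t => by
      show orderOf t = 2 ↔ orderOf (E t) = 2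
      rw [MulEquiv.orderOf_eq])
  have hg : Nat.card G = 60 := by rw [Nat.card_congr E.toEquiv, hA]
  omega

end Cfsg.Agent.S0234
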