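import Cfsg.Statements.S0240
import Cfsg.Agent.Lib.Invol.Basic

set_option autoImplicit false
open Cfsg

namespace Cfsg.Agent.S0240

/-- Let G be a finite group with n involutions and H a subgroup with |H|·(n+1) > |G|. Then some nontrivial h ∈ H is strongly real in G: an involution t of G satisfies t h t⁻¹ = h⁻¹. -/
theorem result {G : Type*} [Group G] [Finite G] (H : Subgroup G) (hH : Nat.card G < Nat.card H * (Nat.card {t : G // orderOf t = 2} + 1)) : ∃ h : G, h ∈ H ∧ h ≠ 1 ∧ ∃ t : G, orderOf t = 2 ∧ t * h * t⁻¹ = h⁻¹ := by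
  by_contra hcon
  push Not at hcon
  have hinj : Nat.card H * (Nat.card {t : G // orderOf t = 2} + 1) ≤ Nat.card G := by
    rw [← Finite.card_option, ← Nat.card_prod]
    refine Nat.card_le_card_of_injective (fun p => (p.1 : G) * p.2.elim 1 Subtype.val) ?_
    have key : ∀ (a b : G) (s : G), a ∈ H → b ∈ H → orderOf s = 2 → a * s ≠ b := by
      intro a b s ha hb hs e
      have hsH : s ∈ H := by
        have : s = a⁻¹ * b := by rw [← e, inv_mul_cancel_left]
        exact this ▸ mul_mem (inv_mem ha) hb
      exact hcon s hsH (CfsgLib.Invol.invol_ne_one hs) s hs (by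
        rw [mul_inv_cancel_right, CfsgLib.Invol.invol_inv hs])
    rintro ⟨⟨a, ha⟩, o⟩ ⟨⟨b, hb⟩, o'⟩ e
    rcases o with _ | ⟨s, hs⟩ <;> rcases o' with _ | ⟨s', hs'⟩ <;>
      simp only [Option.elim_none, Option.elim_some, mul_one] at e
    · subst e; rfl
    · exact absurd e.symm (key b a s' hb ha hs')
    · exact absurd e (key a b s ha hb hs)
    · by_cases h1 : s = s'
      · subst h1
        have := mul_right_cancel e
        subst this; rfl
      · exfalso
        have hmem : s * s' ∈ H := by
          have : s * s' = a⁻¹ * b := by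
            rw [eq_inv_mul_iff_mul_eq, ← mul_assoc, e, mul_assoc, CfsgLib.Invol.invol_mul_self hs',
              mul_one]
          exact this ▸ mul_mem (inv_mem ha) hb
        exact hcon _ hmem (fun h => h1 (by
          rw [eq_inv_of_mul_eq_one_left h, CfsgLib.Invol.invol_inv hs'])) s hs
          (CfsgLib.Invol.conj_left_mul hs hs')
  omega

end Cfsg.Agent.S0240
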