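import Cfsg.Statements.S0241
import Cfsg.Agent.Lib.Invol.Basic

set_option autoImplicit false
open Cfsg

namespace Cfsg.Agent.S0241

/-- If x ≠ 1 is conjugate to x⁻¹ in a finite group G and |C_G(x)| is odd, then some involution t satisfies t x t⁻¹ = x⁻¹. -/
theorem result {G : Type*} [Group G] [Finite G] (x : G) (hx : x ≠ 1) (hreal : IsConj x x⁻¹) (hodd : Odd (Nat.card (Subgroup.centralizer ({x} : Set G)))) : ∃ t : G, orderOf t = 2 ∧ t * x * t⁻¹ = x⁻¹ := by
  obtain ⟨g, hg⟩ := isConj_iff.1 hreal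
  obtain ⟨a, m, hm2, hm⟩ := Nat.exists_eq_pow_mul_and_not_dvd (orderOf_pos g).ne' 2 (by norm_num)
  obtain ⟨j, rfl⟩ : Odd m := Nat.not_even_iff_odd.1 fun h => hm2 (even_iff_two_dvd.1 h)
  set t := g ^ (2 * j + 1) with ht
  have hgg : ∀ k : ℕ, g ^ (2 * k) * x * (g ^ (2 * k))⁻¹ = x := by
    intro k
    induction k with
    | zero => simp
    | succ k ih =>
      calc g ^ (2 * (k + 1)) * x * (g ^ (2 * (k + 1)))⁻¹
          = g ^ (2 * k) * (g * (g * x * g⁻¹) * g⁻¹) * (g ^ (2 * k))⁻¹ := by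
            rw [show 2 * (k + 1) = 2 * k + 1 + 1 by ring, pow_succ, pow_succ]; group
        _ = x := by
            rw [hg, ← conj_inv, hg, inv_inv]; exact ih
  have htx : t * x * t⁻¹ = x⁻¹ := by
    calc t * x * t⁻¹ = g * (g ^ (2 * j) * x * (g ^ (2 * j))⁻¹) * g⁻¹ := by
          rw [ht, pow_succ']; group
      _ = x⁻¹ := by rw [hgg, hg]
  have hc : t * t ∈ Subgroup.centralizer ({x} : Set G) := by
    rw [Subgroup.mem_centralizer_singleton_iff, ← mul_inv_eq_iff_eq_mul]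
    calc t * t * x * (t * t)⁻¹ = t * (t * x * t⁻¹) * t⁻¹ := by group
      _ = x := by rw [htx, ← conj_inv, htx, inv_inv]
  have ht2 : t * t = 1 := by
    have h1 : (t * t) ^ 2 ^ a = 1 := by
      rw [ht, ← pow_two, ← pow_mul, ← pow_mul, show (2 * j + 1) * (2 * 2 ^ a) = orderOf g * 2 by
        rw [hm]; ring, pow_mul, pow_orderOf_eq_one, one_pow]
    exact orderOf_eq_one_iff.1 (Nat.eq_one_of_dvd_coprimes (Nat.Coprime.pow_right a
      (Nat.coprime_two_right.2 hodd)) (Subgroup.orderOf_dvd_natCard _ hc)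
      (orderOf_dvd_of_pow_eq_one h1))
  refine ⟨t, CfsgLib.Invol.invol_of_mul_self ht2 ?_, htx⟩
  intro h1
  rw [h1] at htx
  simp at htx
  exact (Nat.not_even_iff_odd.2 hodd) (CfsgLib.Invol.even_card_of_invol_mem
    (CfsgLib.Invol.invol_of_inv htx.symm hx) (Subgroup.mem_centralizer_singleton_iff.2 rfl))

end Cfsg.Agent.S0241
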