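import Cfsg.Statements.S0250
import Cfsg.Agent.Lib.Classical.PSLTwoPerm

set_option autoImplicit false
open Cfsg

namespace Cfsg.Agent.S0250

/-- SL_2(2) is isomorphic to S_3. -/
theorem result {F : Type*} [Field F] [Fintype F] (hF : Fintype.card F = 2) : Nonempty (Matrix.SpecialLinearGroup (Fin 2) F ≃* Equiv.Perm (Fin 3)) := by
  obtain ⟨f, hf⟩ := CfsgLib.Classical.exists_psl_two_embedding (F := F)
  have hc : Nat.card (Subgroup.center (Matrix.SpecialLinearGroup (Fin 2) F)) = 1 := by
    rw [CfsgLib.Classical.card_center_sl, hF, Fintype.card_fin]; rfl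
  have hbot := Subgroup.eq_bot_of_card_eq _ hc
  have hinj : Function.Injective
      (QuotientGroup.mk' (Subgroup.center (Matrix.SpecialLinearGroup (Fin 2) F))) := by
    rw [← MonoidHom.ker_eq_bot_iff, QuotientGroup.ker_mk', hbot]
  have e := MulEquiv.ofBijective _ ⟨hinj, QuotientGroup.mk'_surjective _⟩
  have hcard := CfsgLib.Classical.card_psl_two_eq hF 6 (by norm_num)
  let g := ((finCongr (by rw [hF])).permCongrHom : Equiv.Perm (Fin (Fintype.card F + 1)) ≃*
    Equiv.Perm (Fin 3)).toMonoidHom.comp f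
  refine ⟨e.trans (MulEquiv.ofBijective g ((Nat.bijective_iff_injective_and_card g).2 ⟨?_, ?_⟩))⟩
  · simp only [g, MonoidHom.coe_comp, MulEquiv.coe_toMonoidHom]
    exact (MulEquiv.injective _).comp hf
  · rw [hcard, Nat.card_perm, Nat.card_fin]; rfl

end Cfsg.Agent.S0250
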