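import Cfsg.Statements.S0253
import Cfsg.Agent.Lib.Classical.ExcIsoPermOdd

set_option autoImplicit false
open Cfsg

namespace Cfsg.Agent.S0253

/-- PSL_2(5) is isomorphic to A_5. -/
theorem result {F : Type*} [Field F] [Fintype F] (hF : Fintype.card F = 5) : Nonempty (Matrix.ProjectiveSpecialLinearGroup (Fin 2) F ≃* alternatingGroup (Fin 5)) := by
  have : Fact (Nat.Prime 5) := ⟨by norm_num⟩
  obtain ⟨e⟩ := CfsgLib.Classical.psl_two_five_equiv
  exact ⟨(CfsgLib.Classical.centerQuotCongr
    (CfsgLib.Classical.slCongr (ZMod.ringEquivOfPrime F (by norm_num : Nat.Prime 5) hF).symm)).trans e⟩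

end Cfsg.Agent.S0253
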