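import Cfsg.Statements.S0255
import Cfsg.Agent.Lib.Classical.ExcIsoSeven

set_option autoImplicit false
open Cfsg

namespace Cfsg.Agent.S0255

/-- PSL_2(7) is isomorphic to PSL_3(2). -/
theorem result {F K : Type*} [Field F] [Fintype F] [Field K] [Fintype K] (hF : Fintype.card F = 7) (hK : Fintype.card K = 2) : Nonempty (Matrix.ProjectiveSpecialLinearGroup (Fin 2) F ≃* Matrix.ProjectiveSpecialLinearGroup (Fin 3) K) := by
  have : Fact (Nat.Prime 7) := ⟨by norm_num⟩
  have : Fact (Nat.Prime 2) := ⟨Nat.prime_two⟩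
  obtain ⟨e⟩ := CfsgLib.Classical.psl_two_seven_equiv
  exact ⟨((CfsgLib.Classical.centerQuotCongr
    (CfsgLib.Classical.slCongr (ZMod.ringEquivOfPrime F (by norm_num : Nat.Prime 7) hF).symm)).trans e).trans
    (CfsgLib.Classical.centerQuotCongr
    (CfsgLib.Classical.slCongr (ZMod.ringEquivOfPrime K Nat.prime_two hK)))⟩

end Cfsg.Agent.S0255
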