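import Cfsg.Statements.S0257
import Cfsg.Agent.Lib.Classical.SLTwoSylowTwo
import Cfsg.Agent.Lib.Classical.SLOrder

set_option autoImplicit false
open Cfsg

namespace Cfsg.Agent.S0257

/-- SL_2(3) has a normal subgroup of index 3 isomorphic to the quaternion group of order 8, and its centre has order 2. -/
theorem result {F : Type*} [Field F] [Fintype F] (hF : Fintype.card F = 3) : (∃ Q : Subgroup (Matrix.SpecialLinearGroup (Fin 2) F), Q.Normal ∧ Q.index = 3 ∧ Nonempty (Q ≃* QuaternionGroup 2)) ∧ Nat.card (Subgroup.center (Matrix.SpecialLinearGroup (Fin 2) F)) = 2 := by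
  constructor
  · have hp : Fact (Nat.Prime 3) := ⟨by norm_num⟩
    have hc : CharP F 3 := charP_of_card_eq_prime (by rw [hF])
    let e : ZMod 3 ≃+* F := ZMod.ringEquiv F (by rw [hF])
    let E : Matrix.SpecialLinearGroup (Fin 2) (ZMod 3) →* Matrix.SpecialLinearGroup (Fin 2) F :=
      Matrix.SpecialLinearGroup.map e.toRingHom
    have hEi : Function.Injective E := fun a b h => Subtype.ext (Matrix.ext fun i j =>
      e.injective (congrArg (fun A : Matrix.SpecialLinearGroup (Fin 2) F =>
        (A : Matrix (Fin 2) (Fin 2) F) i j) h))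
    have hEs : Function.Surjective E := fun A => by
      refine ⟨Matrix.SpecialLinearGroup.map e.symm.toRingHom A, Subtype.ext (Matrix.ext fun i j => ?_)⟩
      simp [E]
    have hmul : ∀ a b : Matrix.SpecialLinearGroup (Fin 2) (ZMod 3),
        a ^ 4 = 1 → b ^ 4 = 1 → (a * b) ^ 4 = 1 := by decide +kernel
    have hcard : (Finset.univ.filter
        fun a : Matrix.SpecialLinearGroup (Fin 2) (ZMod 3) => a ^ 4 = 1).card = 8 := by decide +kernel
    let P : Subgroup (Matrix.SpecialLinearGroup (Fin 2) (ZMod 3)) :=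
      { carrier := {a | a ^ 4 = 1}
        mul_mem' := fun {a b} ha hb => hmul a b ha hb
        one_mem' := one_pow 4
        inv_mem' := fun {a} ha => by
          show a⁻¹ ^ 4 = 1
          rw [inv_pow, show a ^ 4 = 1 from ha, inv_one] }
    have hQcard : Nat.card (P.map E) = 8 := by
      rw [Nat.card_congr (P.equivMapOfInjective E hEi).toEquiv.symm, ← hcard]
      rw [← Nat.card_eq_finsetCard]
      exact Nat.card_congr (Equiv.subtypeEquivRight fun a => by simp [P])
    have hG : Nat.card (Matrix.SpecialLinearGroup (Fin 2) F) = 24 := by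
      rw [CfsgLib.Classical.card_sl_two_eq, hF]; norm_num
    obtain ⟨k, -, hk, hQ⟩ := CfsgLib.Classical.sylow_two_sl_two (F := F) (by rw [hF]; decide)
    have h3 : (Nat.card (Matrix.SpecialLinearGroup (Fin 2) F)).factorization 2 = 3 := by
      rw [hG, show 24 = 2 ^ 3 * 3 by rfl, Nat.factorization_mul (by norm_num) (by norm_num),
        Finsupp.add_apply, Nat.Prime.factorization_pow Nat.prime_two, Finsupp.single_eq_same,
        Nat.factorization_eq_zero_of_not_dvd (n := 3) (p := 2) (by norm_num)]
    refine ⟨P.map E, Subgroup.Normal.map ⟨fun a ha g => ?_⟩ E hEs, ?_, ?_⟩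
    · show (g * a * g⁻¹) ^ 4 = 1
      rw [conj_pow, show a ^ 4 = 1 from ha, mul_one, mul_inv_cancel]
    · have h := (P.map E).card_mul_index
      rw [hQcard, hG] at h
      omega
    · obtain ⟨f⟩ := hQ (Sylow.ofCard (P.map E) (by rw [hQcard, h3]; rfl))
      have hk1 : k = 1 := by omega
      subst hk1
      exact ⟨(MulEquiv.subgroupCongr (Sylow.coe_ofCard _ _).symm).trans f⟩
  · rw [CfsgLib.Classical.card_center_sl, Fintype.card_fin, hF]; rfl

end Cfsg.Agent.S0257
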