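import Cfsg.Statements.S0263
import Cfsg.Agent.Lib.Classical.SLOrder

set_option autoImplicit false
open Cfsg

namespace Cfsg.Agent.S0263

/-- A Sylow p-subgroup of GL_n(q), p the characteristic, has order q^(n(n-1)/2). -/
theorem result {F : Type*} [Field F] [Fintype F] {q : ℕ} (hF : Fintype.card F = q) (p : ℕ) [Fact p.Prime] [CharP F p] (n : ℕ) (P : Sylow p (Matrix.GeneralLinearGroup (Fin n) F)) : Nat.card P = q ^ (n * (n - 1) / 2) := by
  subst hF
  obtain ⟨f, hf⟩ := FiniteField.card F p
  obtain ⟨hp, hfq⟩ := hf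
  rw [P.card_eq_multiplicity]
  have hq : 1 < Fintype.card F := Fintype.one_lt_card
  have e : Nat.card (Matrix.GeneralLinearGroup (Fin n) F) =
      Fintype.card F ^ (n * (n - 1) / 2) * ∏ i : Fin n, (Fintype.card F ^ (n - (i : ℕ)) - 1) := by
    rw [Matrix.card_GL_field, ← Finset.sum_range_id, ← Finset.prod_pow_eq_pow_sum,
      ← Fin.prod_univ_eq_prod_range, ← Finset.prod_mul_distrib]
    refine Finset.prod_congr rfl fun i _ => ?_
    rw [Nat.mul_sub, mul_one, ← pow_add, Nat.add_sub_cancel' i.2.le]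
  rw [e, Nat.factorization_mul (by positivity)]
  · have hnd : (∏ i : Fin n, (Fintype.card F ^ (n - (i : ℕ)) - 1)).factorization p = 0 := by
      apply Nat.factorization_eq_zero_of_not_dvd
      rw [Prime.dvd_finsetProd_iff hp.prime]
      rintro ⟨i, -, hi⟩
      have h2 : p ∣ Fintype.card F ^ (n - (i : ℕ)) :=
        dvd_pow (by rw [hfq]; exact dvd_pow_self p f.ne_zero) (by omega)
      have h3 := Nat.dvd_sub h2 hi
      rw [Nat.sub_sub_self (Nat.one_le_pow _ _ (by omega))] at h3
      exact hp.not_dvd_one h3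
    rw [Finsupp.add_apply, hnd, add_zero, hfq, ← pow_mul, hp.factorization_pow,
      Finsupp.single_eq_same]
  · rw [Finset.prod_ne_zero_iff]
    intro i _
    have := Nat.one_lt_pow (n := n - (i : ℕ)) (by omega) hq
    omega

end Cfsg.Agent.S0263
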