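import Cfsg.Statements.S0264
import Cfsg.Agent.Lib.Classical.SLGen
import Cfsg.Agent.Lib.Classical.SLOrder

set_option autoImplicit false
open Cfsg

namespace Cfsg.Agent.S0264

/-- GL_n(F)' = SL_n(F) (as the kernel of det), for every field F and every n, except n = 2 over the field of two elements. -/
theorem result {F : Type*} [Field F] (n : ℕ) (h : n = 2 → ∃ a : F, a ≠ 0 ∧ a ≠ 1) : commutator (Matrix.GeneralLinearGroup (Fin n) F) = (Matrix.GeneralLinearGroup.det : Matrix.GeneralLinearGroup (Fin n) F →* Fˣ).ker := by
  open scoped commutatorElement in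
  refine le_antisymm (Abelianization.commutator_subset_ker _) ?_
  rw [← CfsgLib.Classical.range_toGL, MonoidHom.range_eq_map]
  by_cases hn2 : n = 2
  · obtain ⟨a, ha0, ha1⟩ := h hn2
    rw [← CfsgLib.Classical.sl_transvection_induction
      ((commutator (Matrix.GeneralLinearGroup (Fin n) F)).comap Matrix.SpecialLinearGroup.toGL)
      (fun i j hij c => ?_)]
    · exact Subgroup.map_comap_le _ _
    let D : Matrix.GeneralLinearGroup (Fin n) F := Matrix.GeneralLinearGroup.mk'' 
      (Matrix.diagonal (fun k => if k = i then a else 1)) (by
        rw [isUnit_iff_ne_zero, Matrix.det_diagonal, Finset.prod_ne_zero_iff]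
        intro k _; split_ifs <;> simp [ha0])
    set T := Matrix.SpecialLinearGroup.transvection hij (c / (a - 1)) with hT
    have : Matrix.SpecialLinearGroup.toGL (Matrix.SpecialLinearGroup.transvection hij c) =
        ⁅D, Matrix.SpecialLinearGroup.toGL T⁆ := by
      rw [commutatorElement_def, eq_mul_inv_iff_mul_eq, eq_mul_inv_iff_mul_eq]
      have hc : c / (a - 1) * (a - 1) = c := div_mul_cancel₀ _ (sub_ne_zero_of_ne ha1)
      refine Units.ext (Matrix.ext_iff_smul.2 fun w => funext fun k => ?_)
      have key : ∀ (d : F) (v : Fin n → F),
          Matrix.mulVec ((Matrix.SpecialLinearGroup.transvection hij d).1) v k =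
            if k = i then v k + d * v j else v k :=
        fun d v => CfsgLib.Classical.transvection_smul_apply hij d v k
      have keyj : ∀ (d : F) (v : Fin n → F),
          Matrix.mulVec ((Matrix.SpecialLinearGroup.transvection hij d).1) v j = v j :=
        fun d v => (CfsgLib.Classical.transvection_smul_apply hij d v j).trans (if_neg hij.symm)
      simp [D, hT, ← Matrix.mulVec_mulVec, Matrix.mulVec_diagonal, key, keyj, hij.symm]
      by_cases hki : k = i
      · simp [hki]
        linear_combination (-w j) * hc
      · simp [hki]
    rw [Subgroup.mem_comap, this]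
    exact Subgroup.commutator_mem_commutator (Subgroup.mem_top _) (Subgroup.mem_top _)
  · rw [Subgroup.map_le_iff_le_comap]
    rcases (show n ≤ 1 ∨ 3 ≤ n by omega) with h1 | h3
    · intro g _
      have : Subsingleton (Fin n) := Fin.subsingleton_iff_le_one.2 h1
      rw [Subsingleton.elim g 1]
      exact one_mem _
    · rw [← CfsgLib.Classical.commutator_sl_eq_top (F := F) (ι := Fin n) (by simpa using h3)]
      rw [← Subgroup.map_le_iff_le_comap, commutator_def, commutator_def, Subgroup.map_commutator]
      exact Subgroup.commutator_mono le_top le_top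

end Cfsg.Agent.S0264
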