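import Cfsg.Statements.S0268
import Mathlib


set_option autoImplicit false
open Cfsg

namespace Cfsg.Agent.S0268

/-- For q odd, -1 is the unique involution of SL_2(q). -/
theorem result {F : Type*} [Field F] [Fintype F] (hF : Odd (Fintype.card F)) (g : Matrix.SpecialLinearGroup (Fin 2) F) (h1 : g ≠ 1) (h2 : g * g = 1) : (g : Matrix (Fin 2) (Fin 2) F) = -1 := by
  have two0 : (2 : F) ≠ 0 := by
    intro h
    have hc : ringChar F = 2 := by
      have hd : ringChar F ∣ 2 := ringChar.dvd (by exact_mod_cast h)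
      rcases (Nat.dvd_prime Nat.prime_two).1 hd with h' | h'
      · exact absurd h' (CharP.ringChar_ne_one)
      · exact h'
    obtain ⟨k, hk⟩ := FiniteField.card F (ringChar F)
    rw [hc] at hk
    rw [hk.2] at hF
    exact Nat.not_even_iff_odd.2 hF (Nat.even_pow.2 ⟨even_two, k.ne_zero⟩)
  have hinv : g⁻¹ = g := inv_eq_of_mul_eq_one_left ‹g * g = 1›
  have e := congrArg (fun x : Matrix.SpecialLinearGroup (Fin 2) F => (x : Matrix (Fin 2) (Fin 2) F)) hinv
  simp only [Matrix.SpecialLinearGroup.coe_inv, Matrix.adjugate_fin_two] at e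
  have e00 : g.1 1 1 = g.1 0 0 := by simpa using congr($e 0 0)
  have e01 : -g.1 0 1 = g.1 0 1 := by simpa using congr($e 0 1)
  have e10 : -g.1 1 0 = g.1 1 0 := by simpa using congr($e 1 0)
  have z01 : g.1 0 1 = 0 := (mul_eq_zero.1 (show (2 : F) * g.1 0 1 = 0 by linear_combination -e01)).resolve_left two0
  have z10 : g.1 1 0 = 0 := (mul_eq_zero.1 (show (2 : F) * g.1 1 0 = 0 by linear_combination -e10)).resolve_left two0
  have hd := g.2
  rw [Matrix.det_fin_two, z01, z10, e00] at hd
  rcases mul_self_eq_one_iff.1 (by linear_combination hd : g.1 0 0 * g.1 0 0 = 1) with ha | ha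
  · refine absurd (Subtype.ext ?_) h1
    rw [Matrix.eta_fin_two g.1, z01, z10, e00, ha]
    exact Matrix.one_fin_two.symm
  · rw [Matrix.eta_fin_two g.1, z01, z10, e00, ha, Matrix.one_fin_two]
    simp

end Cfsg.Agent.S0268
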