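import Cfsg.Statements.S0271
import Cfsg.Agent.Lib.Geom.Symp

set_option autoImplicit false
open Cfsg

namespace Cfsg.Agent.S0271

/-- Sp_{2m}(F) is transitive on non-zero vectors. -/
theorem result {F : Type*} [Field F] (m : ℕ) (v w : Fin m ⊕ Fin m → F) (hv : v ≠ 0) (hw : w ≠ 0) : ∃ g : Matrix.symplecticGroup (Fin m) F, (g : Matrix (Fin m ⊕ Fin m) (Fin m ⊕ Fin m) F).mulVec v = w := by
  let φ : (F ∙ v) →ₗ[F] (Fin m ⊕ Fin m → F) :=
    (LinearMap.toSpanSingleton F _ w).comp (LinearEquiv.toSpanNonzeroSingleton F _ v hv).symm.toLinearMap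
  have hφ : ∀ t : F, φ ⟨t • v, Submodule.smul_mem _ t (Submodule.mem_span_singleton_self v)⟩ = t • w := by
    intro t
    have : (LinearEquiv.toSpanNonzeroSingleton F _ v hv).symm
        ⟨t • v, Submodule.smul_mem _ t (Submodule.mem_span_singleton_self v)⟩ = t := by
      rw [LinearEquiv.symm_apply_eq]; rfl
    simp [φ, this]
  obtain ⟨g, -, hg, hgX⟩ := CfsgLib.Geom.witt_alternating (CfsgLib.Geom.sympBilin m F)
    CfsgLib.Geom.sympBilin_self CfsgLib.Geom.sympBilin_sep (F ∙ v) φ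
    (fun x y hxy => (LinearEquiv.toSpanNonzeroSingleton F _ v hv).symm.injective
      (smul_left_injective F hw (by simpa [φ] using hxy))) (by
      rintro ⟨a, ha⟩ ⟨b, hb⟩
      obtain ⟨a, rfl⟩ := Submodule.mem_span_singleton.1 ha
      obtain ⟨b, rfl⟩ := Submodule.mem_span_singleton.1 hb
      rw [hφ, hφ]
      simp [CfsgLib.Geom.sympBilin_self])
  refine ⟨CfsgLib.Geom.spEquiv m F ⟨g, hg⟩, (CfsgLib.Geom.spEquiv_mulVec _ v).trans ?_⟩
  have := hgX ⟨v, Submodule.mem_span_singleton_self v⟩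
  simpa [hφ] using this.trans (by simpa using hφ 1)

end Cfsg.Agent.S0271
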