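import Cfsg.Statements.S0291
import Cfsg.Agent.Lib.Classical.Counts

set_option autoImplicit false
open Cfsg

namespace Cfsg.Agent.S0291

/-- For q odd, the form x_0^2 + sum_{i<m} x_i y_i on F^(2m+1) has exactly q^(2m) zeros. -/
theorem result {F : Type*} [Field F] [Fintype F] {q : ℕ} (hF : Fintype.card F = q) (hodd : Odd q) (m : ℕ) : Nat.card {v : Unit ⊕ (Fin m ⊕ Fin m) → F // Cfsg.quadFormOdd m F v = 0} = q ^ (2 * m) := by
  subst hF
  rw [CfsgLib.Classical.card_quadFormOdd_eq]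
  have h1 : Nat.card {t : F // t ^ 2 = 0} = 1 :=
    Nat.card_eq_one_iff_unique.2 ⟨⟨fun ⟨x, hx⟩ ⟨y, hy⟩ => Subtype.ext (by
      rw [sq_eq_zero_iff] at hx hy; exact hx.trans hy.symm)⟩, ⟨⟨0, by simp⟩⟩⟩
  rw [h1, mul_one]
  rcases m with _ | k
  · simp
  · simp only [Nat.add_sub_cancel]
    rw [mul_assoc, ← pow_succ, Nat.sub_mul, one_mul, ← pow_add, show k + 1 + (k + 1) = 2 * (k + 1) by ring]
    exact Nat.add_sub_cancel' (Nat.pow_le_pow_right Fintype.card_pos (by omega))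

end Cfsg.Agent.S0291
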