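import Cfsg.Statements.S0307
import Mathlib
import Cfsg.Agent.Lib.Classical.SLOrder

set_option autoImplicit false
open Cfsg

namespace Cfsg.Agent.S0307

/-- PSL_n(q) is normal in PGL_n(q) with cyclic quotient of order gcd(n, q-1): the image of the natural map PSL_n → PGL_n is the kernel of a surjective homomorphism onto the cyclic group of that order. -/
theorem result {F : Type*} [Field F] [Fintype F] {q : ℕ} (hF : Fintype.card F = q) (n : ℕ) (hn : 1 ≤ n) : ∃ g : Matrix.ProjGenLinGroup (Fin n) F →* Multiplicative (ZMod (Nat.gcd n (q - 1))), Function.Surjective g ∧ g.ker = (Matrix.ProjectiveSpecialLinearGroup.toPGL : Matrix.ProjectiveSpecialLinearGroup (Fin n) F →* Matrix.ProjGenLinGroup (Fin n) F).range := by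
  subst hF
  have : Nonempty (Fin n) := ⟨⟨0, hn⟩⟩
  let P : Subgroup Fˣ := (powMonoidHom n : Fˣ →* Fˣ).range
  let d : Matrix.GeneralLinearGroup (Fin n) F →* Fˣ ⧸ P :=
    (QuotientGroup.mk' P).comp Matrix.GeneralLinearGroup.det
  have hd : d.comp (Matrix.GeneralLinearGroup.scalar (Fin n)) = 1 := by
    ext u
    simp only [d, MonoidHom.comp_apply, MonoidHom.one_apply, QuotientGroup.mk'_apply,
      QuotientGroup.eq_one_iff]
    exact ⟨u, by ext; simp⟩
  let g := Matrix.ProjGenLinGroup.lift d hd
  have : IsCyclic (Fˣ ⧸ P) := isCyclic_of_surjective _ (QuotientGroup.mk'_surjective P)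
  have hcard : Nat.card (Fˣ ⧸ P) = Nat.card (Multiplicative (ZMod (Nat.gcd n (Fintype.card F - 1)))) := by
    rw [← Subgroup.index_eq_card, IsCyclic.index_powMonoidHom_range, Nat.card_units,
      Nat.card_eq_fintype_card (α := F), Nat.gcd_comm,
      Nat.card_congr Multiplicative.toAdd, Nat.card_zmod]
  let e := mulEquivOfCyclicCardEq hcard
  refine ⟨e.toMonoidHom.comp g, ?_, ?_⟩
  · refine e.surjective.comp ?_
    intro x
    obtain ⟨u, rfl⟩ := QuotientGroup.mk'_surjective P x
    obtain ⟨A, rfl⟩ := Matrix.GeneralLinearGroup.det_surjective (n := Fin n) u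
    exact ⟨Matrix.ProjGenLinGroup.mk A, rfl⟩
  · rw [show (e.toMonoidHom.comp g).ker = g.ker by ext x; simp]
    ext x
    obtain ⟨A, rfl⟩ := Matrix.ProjGenLinGroup.mk_surjective x
    rw [MonoidHom.mem_ker, MonoidHom.mem_range, Matrix.ProjGenLinGroup.lift_mk]
    constructor
    · intro h
      simp only [d, MonoidHom.comp_apply, QuotientGroup.mk'_apply, QuotientGroup.eq_one_iff] at h
      obtain ⟨u, hu⟩ := h
      rw [powMonoidHom_apply] at hu
      have hs : A * Matrix.GeneralLinearGroup.scalar (Fin n) u⁻¹ ∈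
          (Matrix.GeneralLinearGroup.det : Matrix.GeneralLinearGroup (Fin n) F →* Fˣ).ker := by
        rw [MonoidHom.mem_ker, map_mul, ← hu]
        ext
        simp
      rw [← CfsgLib.Classical.range_toGL] at hs
      obtain ⟨s, hs⟩ := hs
      refine ⟨QuotientGroup.mk s, ?_⟩
      rw [Matrix.ProjectiveSpecialLinearGroup.toPGL_mk, hs, map_mul, Matrix.ProjGenLinGroup.mk_scalar,
        mul_one]
    · rintro ⟨y, hy⟩
      obtain ⟨s, rfl⟩ := QuotientGroup.mk_surjective y
      rw [Matrix.ProjectiveSpecialLinearGroup.toPGL_mk] at hy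
      have := congrArg g hy
      simp only [g, Matrix.ProjGenLinGroup.lift_mk] at this
      rw [← this]
      have hs : Matrix.GeneralLinearGroup.det (Matrix.SpecialLinearGroup.toGL s) = 1 := by
        ext; simp
      simp [d, hs]

end Cfsg.Agent.S0307
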