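import Cfsg.Statements.S0316
import Cfsg.Agent.Lib.Chev.BNParabolic

set_option autoImplicit false
open Cfsg

namespace Cfsg.Agent.S0316

/-- The map `J ↦ P_J` is a lattice isomorphism from the power set of the set of distinguished generators onto the
subgroups containing `B`. -/
theorem result {G : Type*} [Group G] (P : Cfsg.BNPair G) :
    ∃ e : Set P.S ≃o {M : Subgroup G // P.B ≤ M},
      ∀ J : Set P.S, ((e J : {M : Subgroup G // P.B ≤ M}) : Subgroup G) = P.parabolic (Subtype.val '' J) := by
  have hsub : ∀ J : Set P.S, Subtype.val '' J ⊆ P.S := fun J x ⟨y, _, h⟩ => h ▸ y.2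
  let e : Set P.S ≃o {M : Subgroup G // P.B ≤ M} :=
    { toFun := fun J => ⟨P.parabolic (Subtype.val '' J), CfsgLib.Chev.BN.B_le_parabolic P _⟩
      invFun := fun M => {s | (s : G) ∈ M.1}
      left_inv := fun J => by
        ext s
        simp only [Set.mem_ofPred_eq]
        rw [CfsgLib.Chev.BN.mem_parabolic_iff_mem P (hsub J) s.2]
        simp
      right_inv := fun M => by
        apply Subtype.ext
        have h := CfsgLib.Chev.BN.eq_parabolic P M.2
        simp only
        rw [show (Subtype.val '' {s : P.S | (s : G) ∈ M.1}) = P.S ∩ (M.1 : Set G) by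
          ext x; simp [and_comm], ← h]
      map_rel_iff' := fun {J K} => by
        simp only [Equiv.coe_fn_mk, Subtype.mk_le_mk]
        refine ⟨fun h s hs => ?_, fun h => CfsgLib.Chev.BN.parabolic_mono P (Set.image_mono h)⟩
        have h' := (CfsgLib.Chev.BN.mem_parabolic_iff_mem P (hsub K) s.2).1
          (h (CfsgLib.Chev.BN.mem_parabolic_of_mem P ⟨s, hs, rfl⟩))
        simpa using h' }
  exact ⟨e, fun J => rfl⟩

end Cfsg.Agent.S0316
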