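import Cfsg.Statements.S0321
import Cfsg.Agent.Lib.Chev.BNParabolic

set_option autoImplicit false
open Cfsg

namespace Cfsg.Agent.S0321

/-- For `n ∈ N` not in `B`, the union `B ∪ B n B` is (the underlying set of) a subgroup exactly when `n` agrees
modulo `B ⊓ N` with one of the distinguished representatives; thus the distinguished involutions are
determined by `B` and `N`. -/
theorem result {G : Type*} [Group G] (P : Cfsg.BNPair G) {n : G}
    (hn : n ∈ P.N) (hnB : n ∉ P.B) :
    (∃ H : Subgroup G, (H : Set G) = (P.B : Set G) ∪ DoubleCoset.doubleCoset n (P.B : Set G) P.B) ↔ ∃ s ∈ P.S, s⁻¹ * n ∈ P.B := by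
  constructor
  · rintro ⟨H, hH⟩
    have hB : P.B ≤ H := fun x hx => (Set.ext_iff.1 hH x).2 (Or.inl hx)
    have hnH : n ∈ H := (Set.ext_iff.1 hH n).2 (Or.inr (DoubleCoset.mem_doubleCoset_self _ _ _))
    obtain ⟨l, hl, hred⟩ := CfsgLib.Chev.BN.exists_reduced P hn
    cases l with
    | nil => exact absurd ((CfsgLib.Chev.BN.isWord_nil P).1 hl) hnB
    | cons s l' =>
      have hs : s ∈ P.S := hl.1 s (by simp)
      refine ⟨s, hs, ?_⟩
      have hsH : s ∈ H := CfsgLib.Chev.BN.letters_mem P hB hn
        (fun b hb => H.mul_mem (H.mul_mem hnH (hB hb)) (H.inv_mem hnH)) hl hred s (by simp)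
      rcases (Set.ext_iff.1 hH s).1 hsH with h | h
      · exact absurd h (CfsgLib.Chev.BN.s_not_mem_B P hs)
      · have := P.B.inv_mem (CfsgLib.Chev.BN.cell_inj P hn (P.subset hs)
          (CfsgLib.Chev.BN.cell_eq_of_mem P h).symm)
        simpa using this
  · rintro ⟨s, hs, hsn⟩
    refine ⟨P.parabolic {s}, ?_⟩
    ext g
    rw [SetLike.mem_coe, Set.mem_union]
    have hcell : CfsgLib.Chev.BN.cell P s = CfsgLib.Chev.BN.cell P n :=
      CfsgLib.Chev.BN.cell_congr P hsn
    constructor
    · intro hg
      have hsJ : ({s} : Set G) ⊆ P.S := by simpa using hs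
      obtain ⟨l, hl, hc⟩ := (CfsgLib.Chev.BN.mem_parabolic P hsJ).1 hg
      have hlN := CfsgLib.Chev.BN.prod_mem_N P hsJ hl
      obtain ⟨l', hl', he⟩ := CfsgLib.Chev.BN.exists_reduced_subword P hsJ (l := l) (n := l.prod)
        ⟨hl, by simp⟩ hlN
      rw [← CfsgLib.Chev.BN.cell_congr P hl'.2] at hc
      have hls : ∀ x ∈ l', x = s := fun x hx => hl'.1 x hx
      match l', hls, hc, hl', he with
      | [], _, hc, _, _ => exact Or.inl ((CfsgLib.Chev.BN.mem_cell_one P).1 (by simpa using hc))
      | [x], hls, hc, _, _ =>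
        obtain rfl := hls x (by simp)
        right
        rw [List.prod_singleton, hcell] at hc
        exact hc
      | x :: y :: l'', hls, _, hl', he =>
        obtain rfl := hls x (by simp)
        obtain rfl := hls y (by simp)
        exfalso
        have hyN := P.subset hs
        have h2 : l''.prod ∈ P.N := CfsgLib.Chev.BN.prod_mem_N P hsJ
          fun z hz => hl'.1 z (by simp [hz])
        have h3 : (y :: y :: l'').prod⁻¹ * l''.prod ∈ P.B := by
          have := CfsgLib.Chev.BN.conj_mem' P h2 (P.B.inv_mem (P.sq_mem y hs))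
            (P.N.inv_mem (P.N.mul_mem hyN hyN))
          simpa [mul_assoc] using this
        have hlong := CfsgLib.Chev.BN.len_congr P (P.N.mul_mem hyN (P.N.mul_mem hyN h2))
          h2 (by simpa using h3)
        have hshort := CfsgLib.Chev.BN.len_le P (n := l''.prod) (l := l'')
          ⟨fun z hz => hsJ (hl'.1 z (by simp [hz])), by simp⟩
        have hee := CfsgLib.Chev.BN.len_congr P (CfsgLib.Chev.BN.prod_mem_N P hsJ hl'.1) hlN hl'.2
        simp only [List.prod_cons, List.length_cons] at hee he
        omega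
    · rintro (hg | hg)
      · exact CfsgLib.Chev.BN.B_le_parabolic P _ hg
      · refine CfsgLib.Chev.BN.cell_subset P (CfsgLib.Chev.BN.B_le_parabolic P _)
          (CfsgLib.Chev.BN.mem_parabolic_of_mem P rfl) (show g ∈ CfsgLib.Chev.BN.cell P s by rw [hcell]; exact hg)

end Cfsg.Agent.S0321
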