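import Cfsg.Statements.S0322
import Cfsg.Agent.Lib.Chev.BNParabolic

set_option autoImplicit false
open Cfsg

namespace Cfsg.Agent.S0322

/-- A group with a (B,N)-pair of rank one acts doubly transitively on the left cosets of `B`. -/
theorem result {G : Type*} [Group G] (P : Cfsg.BNPair G) (h : P.rank = 1) : MulAction.IsMultiplyPretransitive G (G ⧸ P.B) 2 := by
  have hcard : Nat.card P.S = 1 := h
  obtain ⟨s₀⟩ : Nonempty P.S := (Nat.card_ne_zero.1 (by rw [hcard]; exact one_ne_zero)).1
  have hsub : Subsingleton P.S := (Nat.card_eq_one_iff_unique.1 hcard).1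
  have hS : P.S = {(s₀ : G)} := by
    ext x
    refine ⟨fun hx => congrArg Subtype.val (Subsingleton.elim (⟨x, hx⟩ : P.S) s₀), ?_⟩
    rintro rfl
    exact s₀.2
  obtain ⟨s, hs⟩ := s₀
  -- every element is in `B` or in `B s B`
  have hcov : ∀ g : G, g ∈ P.B ∨ g ∈ CfsgLib.Chev.BN.cell P s := by
    intro g
    obtain ⟨n, hn, hg⟩ := CfsgLib.Chev.BN.exists_mem_cell P g
    obtain ⟨l, hl, hlen⟩ := CfsgLib.Chev.BN.exists_reduced P hn
    rw [← CfsgLib.Chev.BN.cell_congr P hl.2] at hg
    have hls : ∀ x ∈ l, x = s := fun x hx => by simpa [hS] using hl.1 x hx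
    match l, hls, hg, hl, hlen with
    | [], _, hg, _, _ => exact Or.inl ((CfsgLib.Chev.BN.mem_cell_one P).1 (by simpa using hg))
    | [x], hls, hg, _, _ =>
      obtain rfl := hls x (by simp)
      exact Or.inr (by simpa using hg)
    | x :: y :: l', hls, _, hl, hlen =>
      obtain rfl := hls x (by simp)
      obtain rfl := hls y (by simp)
      exfalso
      have hN := P.subset hs
      have h2 : l'.prod ∈ P.N := CfsgLib.Chev.BN.prod_mem_N P subset_rfl
        fun z hz => hl.1 z (by simp [hz])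
      have h3 : (y :: y :: l').prod ∈ P.N := CfsgLib.Chev.BN.prod_mem_N P subset_rfl hl.1
      have h4 := CfsgLib.Chev.BN.len_congr P h3 h2 (by
        simpa [mul_assoc] using CfsgLib.Chev.BN.conj_mem' P h2 (P.B.inv_mem (P.sq_mem y hs))
          (P.N.inv_mem (P.N.mul_mem hN hN)))
      have h5 := CfsgLib.Chev.BN.len_le P (l := l') (n := l'.prod)
        ⟨fun z hz => hl.1 z (by simp [hz]), by simp⟩
      have h6 := CfsgLib.Chev.BN.len_congr P h3 hn hl.2
      simp only [List.length_cons] at hlen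
      omega
  -- every pair of distinct points is a translate of `(B, s B)`
  have key : ∀ p q : G ⧸ P.B, p ≠ q → ∃ g : G,
      g • ((1 : G) : G ⧸ P.B) = p ∧ g • ((s : G) : G ⧸ P.B) = q := by
    intro p q hpq
    obtain ⟨a, rfl⟩ := QuotientGroup.mk_surjective p
    obtain ⟨c, rfl⟩ := QuotientGroup.mk_surjective q
    rcases hcov (a⁻¹ * c) with h' | h'
    · exact absurd (QuotientGroup.eq.2 h') hpq
    · obtain ⟨b, hb, b', hb', he⟩ := (CfsgLib.Chev.BN.mem_cell P).1 h'
      refine ⟨a * b, ?_, ?_⟩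
      · exact QuotientGroup.eq.2 (by simpa using hb)
      · refine QuotientGroup.eq.2 ?_
        have : (a * b * s)⁻¹ * c = b' := by
          rw [show (a * b * s)⁻¹ * c = s⁻¹ * b⁻¹ * (a⁻¹ * c) by group, he]; group
        show (a * b * s)⁻¹ * c ∈ P.B
        rwa [this]
  rw [MulAction.is_two_pretransitive_iff]
  intro p q p' q' hpq hpq'
  obtain ⟨g, hg1, hg2⟩ := key p q hpq
  obtain ⟨g', hg1', hg2'⟩ := key p' q' hpq'
  refine ⟨g' * g⁻¹, ?_, ?_⟩
  · rw [← hg1, mul_smul, inv_smul_smul, hg1']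
  · rw [← hg2, mul_smul, inv_smul_smul, hg2']

end Cfsg.Agent.S0322
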