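import Cfsg.Statements.S0323
import Cfsg.Agent.Lib.Chev.BNParabolic

set_option autoImplicit false
open scoped Pointwise
open Cfsg

namespace Cfsg.Agent.S0323

/-- A doubly transitive action on a set with at least three points yields a (B,N)-pair of rank one:
`B` is the stabiliser of a point `x`, `N` the setwise stabiliser of a pair `{x, y}`. -/
theorem result {G Ω : Type*} [Group G] [MulAction G Ω]
    (h2 : MulAction.IsMultiplyPretransitive G Ω 2) {x y z : Ω} (hxy : x ≠ y) (hyz : y ≠ z) (hxz : x ≠ z) :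
    ∃ P : Cfsg.BNPair G, P.B = MulAction.stabilizer G x ∧
      P.N = MulAction.stabilizer G ({x, y} : Set Ω) ∧ P.rank = 1 := by
  have hpair : ∀ {a b c d : Ω}, a ≠ b → c ≠ d → ∃ g : G, g • a = c ∧ g • b = d :=
    MulAction.is_two_pretransitive_iff.1 h2
  obtain ⟨w, hwx, hwy⟩ := hpair (a := x) (b := y) (c := y) (d := x) hxy hxy.symm
  have hw'x : w⁻¹ • x = y := inv_smul_eq_iff.2 hwy.symm
  let B := MulAction.stabilizer G x
  let N := MulAction.stabilizer G ({x, y} : Set Ω)
  have hNmem : ∀ g : G, g ∈ N ↔ (g • x = x ∧ g • y = y) ∨ (g • x = y ∧ g • y = x) := by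
    intro g
    show g • ({x, y} : Set Ω) = {x, y} ↔ _
    rw [← Set.image_smul, Set.image_pair, Set.pair_eq_pair_iff]
  have hwN : w ∈ N := (hNmem w).2 (Or.inr ⟨hwx, hwy⟩)
  have hwB : w ∉ B := fun h => hxy ((show w • x = x from h).symm.trans hwx)
  have hcov : ∀ g : G, g ∈ B ∨ g ∈ DoubleCoset.doubleCoset w (B : Set G) B := by
    intro g
    by_cases hg : g • x = x
    · exact Or.inl hg
    · obtain ⟨b, hb, hby⟩ := hpair (a := x) (b := y) (c := x) (d := g • x) hxy (Ne.symm hg)
      refine Or.inr (DoubleCoset.mem_doubleCoset.2 ⟨b, hb, (b * w)⁻¹ * g, ?_, by group⟩)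
      show ((b * w)⁻¹ * g) • x = x
      rw [mul_smul, inv_smul_eq_iff, mul_smul, hwx, hby]
  have hNB : ∀ n ∈ N, n ∉ B → w⁻¹ * n ∈ B ⊓ N := by
    intro n hn hnB
    refine ⟨?_, N.mul_mem (N.inv_mem hwN) hn⟩
    rcases (hNmem n).1 hn with h | h
    · exact absurd h.1 hnB
    · show (w⁻¹ * n) • x = x
      rw [mul_smul, h.1, inv_smul_eq_iff, hwx]
  refine ⟨{
    B := B
    N := N
    S := {w}
    sup_eq_top := ?_
    conj_mem := ?_
    subset := by simpa using hwN
    sq_mem := ?_
    inj := ?_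
    closure_sup := ?_
    mul_mem_union := ?_
    conj_ne := ?_ }, rfl, rfl, ?_⟩
  · refine Subgroup.eq_top_iff' _ |>.2 fun g => ?_
    rcases hcov g with h | h
    · exact Subgroup.mem_sup_left h
    · obtain ⟨a, ha, b, hb, rfl⟩ := DoubleCoset.mem_doubleCoset.1 h
      exact Subgroup.mul_mem _ (Subgroup.mul_mem _ (Subgroup.mem_sup_left ha)
        (Subgroup.mem_sup_right hwN)) (Subgroup.mem_sup_left hb)
  · rintro n hn t ⟨htB, htN⟩
    have hty : t • y = y := by
      rcases (hNmem t).1 htN with h | h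
      · exact h.2
      · exact absurd ((show t • x = x from htB).symm.trans h.1) hxy
    have hn' := (hNmem n⁻¹).1 (N.inv_mem hn)
    show (n * t * n⁻¹) • x = x
    rw [mul_smul, mul_smul]
    rcases hn' with h | h
    · rw [h.1, show t • x = x from htB, ← eq_inv_smul_iff, h.1]
    · rw [h.1, hty, ← eq_inv_smul_iff, h.1]
  · rintro s rfl
    show (s * s) • x = x
    rw [mul_smul, hwx, hwy]
  · rintro s rfl s' rfl -
    rfl
  · apply le_antisymm
    · exact sup_le ((Subgroup.closure_le _).2 (by simpa using hwN)) inf_le_right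
    · intro n hn
      by_cases hnB : n ∈ B
      · exact Subgroup.mem_sup_right ⟨hnB, hn⟩
      · have e : n = w * (w⁻¹ * n) := by group
        rw [e]
        exact Subgroup.mul_mem _ (Subgroup.mem_sup_left (Subgroup.subset_closure rfl))
          (Subgroup.mem_sup_right (hNB n hn hnB))
  · rintro s rfl n hn b hb
    by_cases hnB : n ∈ B
    · exact Or.inl (DoubleCoset.mem_doubleCoset.2 ⟨1, B.one_mem, n⁻¹ * b * n,
        B.mul_mem (B.mul_mem (B.inv_mem hnB) hb) hnB, by group⟩)
    · have ht : (s⁻¹ * n) • x = x := (hNB n hn hnB).1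
      rcases hcov (s * b * n) with h | h
      · refine Or.inl (DoubleCoset.mem_doubleCoset.2
          ⟨(s * b * n) * (s * n)⁻¹, B.mul_mem h (B.inv_mem ?_), 1, B.one_mem, by group⟩)
        show (s * n) • x = x
        rw [mul_smul, inv_smul_eq_iff] at ht
        rw [mul_smul, ht, hwx, hwy]
      · obtain ⟨a, ha, c, hc, he⟩ := DoubleCoset.mem_doubleCoset.1 h
        refine Or.inr (DoubleCoset.mem_doubleCoset.2
          ⟨a, ha, (s⁻¹ * n)⁻¹ * c, B.mul_mem (B.inv_mem ht) hc, by rw [he]; group⟩)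
  · rintro s rfl heq
    obtain ⟨b, hb, hby⟩ := hpair (a := x) (b := y) (c := x) (d := z) hxy hxz
    have h : s * b * s ∈ (B : Set G) := heq ▸ ⟨b, hb, rfl⟩
    have h' : (s * b * s) • x = x := h
    rw [mul_smul, mul_smul, hwx, hby, ← eq_inv_smul_iff, hw'x] at h'
    exact hyz h'.symm
  · show Nat.card ({w} : Set G) = 1
    simp

end Cfsg.Agent.S0323
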