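import Cfsg.Statements.S0326
import Mathlib

set_option autoImplicit false
open Cfsg

namespace Cfsg.Agent.S0326

/-- The Suzuki–Tits ovoid over a finite field with `q` elements has `q² + 1` points. -/
theorem result {F : Type*} [Field F] [Fintype F] (m : ℕ) :
    Nat.card (Cfsg.suzukiOvoid F m) = Fintype.card F ^ 2 + 1 := by
  rw [Nat.card_coe_set_eq]
  have hset : Cfsg.suzukiOvoid F m = insert (Projectivization.mk F ![1, 0, 0, 0] (by simp))
      (Set.range fun p : F × F => Projectivization.mk F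
        ![p.1 * p.2 + p.1 ^ (2 ^ (m + 1) + 2) + p.2 ^ (2 ^ (m + 1)), p.2, p.1, 1] (by simp)) := by
    ext q
    constructor
    · rintro ⟨v, hv, rfl, rfl | ⟨x, y, rfl⟩⟩
      · exact Set.mem_insert _ _
      · exact Set.mem_insert_of_mem _ ⟨(x, y), rfl⟩
    · rintro (rfl | ⟨⟨x, y⟩, rfl⟩)
      · exact ⟨_, _, rfl, Or.inl rfl⟩
      · exact ⟨_, _, rfl, Or.inr ⟨x, y, rfl⟩⟩
  rw [hset, Set.ncard_insert_of_notMem, Set.ncard_range_of_injective, Nat.card_prod,
    Nat.card_eq_fintype_card, sq]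
  · rintro ⟨x, y⟩ ⟨x', y'⟩ h
    obtain ⟨c, hc⟩ := (Projectivization.mk_eq_mk_iff' F _ _ _ _).1 h
    have h3 := congrFun hc 3
    have h2 := congrFun hc 2
    have h1 := congrFun hc 1
    simp at h3 h2 h1
    subst h3
    simp at h2 h1
    exact Prod.ext h2.symm h1.symm
  · rintro ⟨p, hp⟩
    obtain ⟨c, hc⟩ := (Projectivization.mk_eq_mk_iff' F _ _ _ _).1 hp
    have h3 := congrFun hc 3
    simp at h3

end Cfsg.Agent.S0326
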