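import Cfsg.Statements.S0327
import Cfsg.Agent.Lib.Suzuki.Simple

set_option autoImplicit false
open Cfsg

namespace Cfsg.Agent.S0327

/-- The Suzuki group (`m ≥ 1`) is a Zassenhaus group on the `q² + 1` points of the Suzuki–Tits ovoid. -/
theorem result {F : Type*} [Field F] [Fintype F] {m : ℕ} (hm : 1 ≤ m)
    (hF : Fintype.card F = 2 ^ (2 * m + 1)) :
    Cfsg.IsZassenhausGroup (Cfsg.Sz F m) (Cfsg.suzukiOvoid F m) := by
  haveI : CharP F 2 := charP_of_card_eq_prime_pow hF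
  have h := CfsgLib.Suzuki.thSq_of_card hF
  refine ⟨CfsgLib.Suzuki.faithful hm hF, CfsgLib.Suzuki.two_transitive hF, ?_, ?_, ?_⟩
  · intro g a b c hab hbc hac h1 h2 h3
    exact CfsgLib.Suzuki.three_fixed hm hF a.2 b.2 c.2 (fun e => hab (Subtype.ext e))
      (fun e => hbc (Subtype.ext e)) (fun e => hac (Subtype.ext e))
      (congrArg Subtype.val h1) (congrArg Subtype.val h2) (congrArg Subtype.val h3)
  · obtain ⟨s, hs⟩ := CfsgLib.Suzuki.exists_unit_ne_one hm hF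
    refine ⟨CfsgLib.Suzuki.hG h s, fun e => hs (CfsgLib.Suzuki.hG_injective h (e.trans (map_one _).symm)),
      ⟨CfsgLib.Suzuki.pInf F, CfsgLib.Suzuki.mem_ovoid.2 (Or.inl rfl)⟩,
      ⟨CfsgLib.Suzuki.pFin m 0 0, CfsgLib.Suzuki.mem_ovoid.2 (Or.inr ⟨0, 0, rfl⟩)⟩,
      fun e => CfsgLib.Suzuki.pFin_ne_inf 0 0 (congrArg Subtype.val e).symm,
      Subtype.ext (CfsgLib.Suzuki.hSL_smul_inf s), Subtype.ext ?_⟩
    exact (CfsgLib.Suzuki.hSL_smul h s 0 0).trans (by rw [mul_zero, mul_zero])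
  · intro N hN htr
    haveI := CfsgLib.Suzuki.isSimpleGroup_sz hm hF
    refine ⟨⟨CfsgLib.Suzuki.pInf F, CfsgLib.Suzuki.mem_ovoid.2 (Or.inl rfl)⟩, ?_⟩
    rcases hN.eq_bot_or_eq_top with rfl | rfl
    · obtain ⟨g, hg⟩ := htr.exists_smul_eq
        (⟨CfsgLib.Suzuki.pInf F, CfsgLib.Suzuki.mem_ovoid.2 (Or.inl rfl)⟩ : ↥(Cfsg.suzukiOvoid F m))
        ⟨CfsgLib.Suzuki.pFin m 0 0, CfsgLib.Suzuki.mem_ovoid.2 (Or.inr ⟨0, 0, rfl⟩)⟩
      have : g.1 = 1 := Subgroup.mem_bot.1 g.2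
      have e := congrArg Subtype.val hg
      rw [show g = 1 from Subtype.ext this, one_smul] at e
      exact absurd e.symm (CfsgLib.Suzuki.pFin_ne_inf 0 0)
    · obtain ⟨s, hs⟩ := CfsgLib.Suzuki.exists_unit_ne_one hm hF
      intro e
      refine hs (CfsgLib.Suzuki.hG_injective h ?_)
      rw [map_one]
      have hmem : (⟨CfsgLib.Suzuki.hG h s, Subgroup.mem_top _⟩ : (⊤ : Subgroup (Cfsg.Sz F m))) ∈
          MulAction.stabilizer _ (⟨CfsgLib.Suzuki.pInf F, CfsgLib.Suzuki.mem_ovoid.2 (Or.inl rfl)⟩ :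
            ↥(Cfsg.suzukiOvoid F m)) := Subtype.ext (CfsgLib.Suzuki.hSL_smul_inf s)
      rw [e, Subgroup.mem_bot] at hmem
      exact congrArg Subtype.val hmem

end Cfsg.Agent.S0327
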