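import Cfsg.Statements.S0328
import Cfsg.Agent.Lib.Suzuki.Simple

set_option autoImplicit false
open Cfsg

namespace Cfsg.Agent.S0328

/-- The stabiliser in the Suzuki group of the two ovoid points spanned by `(1,0,0,0)` and `(0,0,0,1)` is
isomorphic to the multiplicative group of the field (cyclic of order `q - 1`). -/
theorem result {F : Type*} [Field F] [Fintype F] {m : ℕ} (hm : 1 ≤ m)
    (hF : Fintype.card F = 2 ^ (2 * m + 1)) :
    Nonempty (↥(MulAction.stabilizer (Cfsg.Sz F m) (Cfsg.suzukiPointInfinity F) ⊓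
        MulAction.stabilizer (Cfsg.Sz F m) (Cfsg.suzukiPointZero F)) ≃* Fˣ) := by
  haveI : CharP F 2 := charP_of_card_eq_prime_pow hF
  have h := CfsgLib.Suzuki.thSq_of_card hF
  refine ⟨((MonoidHom.ofInjective (CfsgLib.Suzuki.hG_injective h)).trans
    (MulEquiv.subgroupCongr ?_)).symm⟩
  ext g
  simp only [Subgroup.mem_inf, MulAction.mem_stabilizer_iff, MonoidHom.mem_range]
  rw [← CfsgLib.Suzuki.pFin_zero (m := m), ← CfsgLib.Suzuki.pInf_eq]
  constructor
  · rintro ⟨s, rfl⟩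
    exact ⟨CfsgLib.Suzuki.hSL_smul_inf s,
      (CfsgLib.Suzuki.hSL_smul h s 0 0).trans (by rw [mul_zero, mul_zero])⟩
  · rintro ⟨h1, h2⟩
    obtain ⟨s, hs⟩ := CfsgLib.Suzuki.stab_two hm hF g.2 h1 h2
    exact ⟨s, Subtype.ext hs.symm⟩

end Cfsg.Agent.S0328
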