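import Cfsg.Statements.S0329
import Cfsg.Agent.Lib.Suzuki.Simple

set_option autoImplicit false
open Cfsg

namespace Cfsg.Agent.S0329

/-- The stabiliser in the Suzuki group of the ovoid point spanned by `(1,0,0,0)` has order `q² (q - 1)`. -/
theorem result {F : Type*} [Field F] [Fintype F] {m : ℕ} (hm : 1 ≤ m)
    (hF : Fintype.card F = 2 ^ (2 * m + 1)) :
    Nat.card (MulAction.stabilizer (Cfsg.Sz F m) (Cfsg.suzukiPointInfinity F)) =
      (2 ^ (2 * m + 1)) ^ 2 * (2 ^ (2 * m + 1) - 1) := by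
  haveI : CharP F 2 := charP_of_card_eq_prime_pow hF
  have h1 := Subgroup.card_mul_index (CfsgLib.Suzuki.bSub F m)
  have h2 : (CfsgLib.Suzuki.bSub F m).index = Fintype.card F ^ 2 + 1 := by
    rw [CfsgLib.Suzuki.bSub, MulAction.index_stabilizer, ← Nat.card_eq_fintype_card,
      ← CfsgLib.Suzuki.card_ovoid (m := m)]
    congr 1
    ext p
    constructor
    · rintro ⟨g, rfl⟩
      exact CfsgLib.Suzuki.smul_mem_ovoid g.2 (CfsgLib.Suzuki.mem_ovoid.2 (Or.inl rfl))
    · intro hp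
      rcases CfsgLib.Suzuki.mem_ovoid.1 hp with rfl | ⟨x, y, rfl⟩
      · exact MulAction.mem_orbit_self _
      · have h := CfsgLib.Suzuki.thSq_of_card hF
        refine ⟨CfsgLib.Suzuki.tG h x y * CfsgLib.Suzuki.wG h, ?_⟩
        show (CfsgLib.Suzuki.tSL m x y * CfsgLib.Suzuki.wSL F) • CfsgLib.Suzuki.pInf F = _
        rw [mul_smul, CfsgLib.Suzuki.wSL_smul_inf, CfsgLib.Suzuki.tSL_smul h]
        simp
  rw [h2, CfsgLib.Suzuki.card_sz hm hF] at h1
  show Nat.card (CfsgLib.Suzuki.bSub F m) = _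
  rw [← hF]
  exact Nat.eq_of_mul_eq_mul_right (by positivity) h1

end Cfsg.Agent.S0329
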