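import Cfsg.Statements.S0331
import Cfsg.Agent.Lib.Suzuki.Tori

set_option autoImplicit false
open Cfsg

namespace Cfsg.Agent.S0331

/-- For every odd prime `p` the Sylow `p`-subgroups of the Suzuki group are cyclic. -/
theorem result {F : Type*} [Field F] [Fintype F] {m : ℕ} (hm : 1 ≤ m)
    (hF : Fintype.card F = 2 ^ (2 * m + 1)) {p : ℕ} [Fact p.Prime] (hp : p ≠ 2)
    (P : Sylow p (Cfsg.Sz F m)) : IsCyclic P := by
  haveI : CharP F 2 := charP_of_card_eq_prime_pow hF
  classical
  set h := CfsgLib.Suzuki.thSq_of_card hF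
  have hp' : p.Prime := Fact.out
  by_cases hpd : p ∣ Fintype.card F ^ 2 + 1
  · obtain ⟨A, hA, hle⟩ := CfsgLib.Suzuki.exists_torus_sylow hm hF hpd P
    haveI := hA.isCyclic hF
    exact isCyclic_of_injective (Subgroup.inclusion hle) (Subgroup.inclusion_injective hle)
  obtain ⟨Q⟩ := (inferInstance : Nonempty (Sylow p (CfsgLib.Suzuki.hSub h)))
  have hQ : Nat.card (Q.toSubgroup.map (CfsgLib.Suzuki.hSub h).subtype) =
      p ^ (Nat.card (Cfsg.Sz F m)).factorization p := by
    rw [Subgroup.card_map_of_injective (CfsgLib.Suzuki.hSub h).subtype_injective,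
      Q.card_eq_multiplicity, CfsgLib.Suzuki.card_hSub, CfsgLib.Suzuki.card_sz hm hF]
    have h2 := CfsgLib.Suzuki.two_lt_card hm hF
    have hq2 : ¬ p ∣ Fintype.card F ^ 2 := fun hd => by
      have h3 := hp'.dvd_of_dvd_pow hd
      rw [hF] at h3
      exact hp ((Nat.prime_dvd_prime_iff_eq hp' Nat.prime_two).1 (hp'.dvd_of_dvd_pow h3))
    rw [Nat.factorization_mul (Nat.mul_ne_zero (by positivity) (by omega)) (by positivity),
      Nat.factorization_mul (by positivity) (by omega), Finsupp.add_apply, Finsupp.add_apply,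
      Nat.factorization_eq_zero_of_not_dvd hpd, Nat.factorization_eq_zero_of_not_dvd hq2,
      zero_add, add_zero]
  let S : Sylow p (Cfsg.Sz F m) := Sylow.ofCard _ hQ
  have hle : (S : Subgroup (Cfsg.Sz F m)) ≤ CfsgLib.Suzuki.hSub h := by
    rintro _ ⟨x, -, rfl⟩
    exact x.2
  haveI := CfsgLib.Suzuki.isCyclic_hSub h
  haveI : IsCyclic S := isCyclic_of_injective (Subgroup.inclusion hle) (Subgroup.inclusion_injective hle)
  exact isCyclic_of_surjective (S.equiv P) (S.equiv P).surjective

end Cfsg.Agent.S0331
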