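import Cfsg.Statements.S0332
import Cfsg.Agent.Lib.Suzuki.Tori

set_option autoImplicit false
open Cfsg

namespace Cfsg.Agent.S0332

/-- The Suzuki group is a CN-group: every non-identity element has nilpotent centraliser. -/
theorem result {F : Type*} [Field F] [Fintype F] {m : ℕ} (hm : 1 ≤ m)
    (hF : Fintype.card F = 2 ^ (2 * m + 1)) : Cfsg.IsCNGroup (Cfsg.Sz F m) := by
  haveI : CharP F 2 := charP_of_card_eq_prime_pow hF
  haveI : Fact (Nat.Prime 2) := ⟨Nat.prime_two⟩
  set h := CfsgLib.Suzuki.thSq_of_card hF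
  intro g hg
  have hcyc : ∀ A : Subgroup (Cfsg.Sz F m), IsCyclic A → Group.IsNilpotent A := fun A hA => by
    letI := hA.commGroup
    exact CommGroup.isNilpotent
  have key : ∀ k : Cfsg.Sz F m, Group.IsNilpotent (Subgroup.centralizer {k * g * k⁻¹}) →
      Group.IsNilpotent (Subgroup.centralizer {g}) := by
    intro k hk
    haveI := hk
    let f : Subgroup.centralizer {g} →* Subgroup.centralizer {k * g * k⁻¹} :=
      ((MulAut.conj k).toMonoidHom.comp (Subgroup.centralizer {g}).subtype).codRestrict _ fun c => by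
        have hc := Subgroup.mem_centralizer_singleton_iff.1 c.2
        rw [Subgroup.mem_centralizer_singleton_iff]
        show k * c.1 * k⁻¹ * (k * g * k⁻¹) = k * g * k⁻¹ * (k * c.1 * k⁻¹)
        calc k * c.1 * k⁻¹ * (k * g * k⁻¹) = k * (c.1 * g) * k⁻¹ := by group
          _ = k * g * k⁻¹ * (k * c.1 * k⁻¹) := by rw [hc]; group
    refine Group.nilpotent_of_mulEquiv (MulEquiv.ofBijective f ⟨fun a b e => ?_, fun b => ?_⟩).symm
    · exact Subtype.ext ((MulAut.conj k).injective (congrArg Subtype.val e))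
    · refine ⟨⟨k⁻¹ * b.1 * k, ?_⟩, Subtype.ext ?_⟩
      · have hb := Subgroup.mem_centralizer_singleton_iff.1 b.2
        rw [Subgroup.mem_centralizer_singleton_iff]
        calc k⁻¹ * b.1 * k * g = k⁻¹ * (b.1 * (k * g * k⁻¹)) * k := by group
          _ = g * (k⁻¹ * b.1 * k) := by rw [hb]; group
      · show k * (k⁻¹ * b.1 * k) * k⁻¹ = b.1
        group
  rcases CfsgLib.Suzuki.conj_cases hm hF g with h1 | ⟨k, hk⟩ | ⟨k, s, hs, hk⟩
  · exact hcyc _ ((h1.isTorus hm hF).isCyclic hF)
  · refine key k ?_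
    have hle := CfsgLib.Suzuki.centralizer_le_uSub hm hF hk (fun e => hg (conj_eq_one_iff.1 e))
    exact ((CfsgLib.Suzuki.isPGroup_uSub hF).to_le hle).isNilpotent
  · refine key k ?_
    rw [hk, CfsgLib.Suzuki.centralizer_hG hm hF hs]
    exact hcyc _ (CfsgLib.Suzuki.isCyclic_hSub h)

end Cfsg.Agent.S0332
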