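import Cfsg.Statements.S0335
import Cfsg.Agent.Lib.Suzuki.Sylow
open Matrix

set_option autoImplicit false
open Cfsg

namespace Cfsg.Agent.S0335

/-- The Suzuki–Tits point set is an ovoid: any three distinct points of it are projectively independent
(no line of projective 3-space meets it in more than two points). -/
theorem result {F : Type*} [Field F] [Fintype F] {m : ℕ} (hm : 1 ≤ m)
    (hF : Fintype.card F = 2 ^ (2 * m + 1)) (p : Fin 3 ↪ Cfsg.suzukiOvoid F m) :
    Projectivization.Independent (fun i => (p i : Projectivization F (Fin 4 → F))) := by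
  haveI : CharP F 2 := charP_of_card_eq_prime_pow hF
  set h := CfsgLib.Suzuki.thSq_of_card hF
  have hne : ∀ i j : Fin 3, i ≠ j → (p i : Projectivization F (Fin 4 → F)) ≠ p j := fun i j hij e =>
    hij (p.injective (Subtype.ext e))
  obtain ⟨g, hg, hg0, hg1⟩ := CfsgLib.Suzuki.exists_two_point h (p 0).2 (p 1).2 (hne 0 1 (by decide))
  obtain ⟨x, y, hxy⟩ : ∃ x y, g • (p 2 : Projectivization F (Fin 4 → F)) = CfsgLib.Suzuki.pFin m x y :=
    (CfsgLib.Suzuki.mem_ovoid.1 (CfsgLib.Suzuki.smul_mem_ovoid hg (p 2).2)).resolve_left fun e =>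
      hne 0 2 (by decide) (MulAction.injective g (hg0.trans e.symm))
  have hxy0 : x ≠ 0 ∨ y ≠ 0 := by
    by_contra hh
    push Not at hh
    exact hne 1 2 (by decide) (MulAction.injective g (hg1.trans (hh.1 ▸ hh.2 ▸ hxy).symm))
  have hlin : LinearIndependent F
      ![CfsgLib.Suzuki.infV F, CfsgLib.Suzuki.pv m 0 0, CfsgLib.Suzuki.pv m x y] := by
    rw [Fintype.linearIndependent_iff]
    intro c hc
    have h0 := congrFun hc 0
    have h1 := congrFun hc 1
    have h2 := congrFun hc 2
    have h3 := congrFun hc 3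
    simp [Fin.sum_univ_three, CfsgLib.Suzuki.infV, CfsgLib.Suzuki.pv, CfsgLib.Suzuki.ovF] at h0 h1 h2 h3
    have hc2 : c 2 = 0 := by
      rcases hxy0 with hx | hy
      · exact h2.resolve_right hx
      · exact h1.resolve_right hy
    rw [hc2] at h0 h3
    intro i
    fin_cases i <;> simp_all
  have hf : ∀ i, (p i : Projectivization F (Fin 4 → F)) = g⁻¹ • (![CfsgLib.Suzuki.pInf F,
      CfsgLib.Suzuki.pFin m 0 0, CfsgLib.Suzuki.pFin m x y] i) := by
    intro i
    rw [eq_inv_smul_iff]
    fin_cases i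
    · exact hg0
    · exact hg1
    · exact hxy
  have hmap : LinearIndependent F (fun i => g⁻¹.1 *ᵥ
      (![CfsgLib.Suzuki.infV F, CfsgLib.Suzuki.pv m 0 0, CfsgLib.Suzuki.pv m x y] i)) := by
    have hinj : Function.Injective (Matrix.toLin' g⁻¹.1) := fun u v e => by
      have h' : g⁻¹ • u = g⁻¹ • v := by
        rw [Matrix.SpecialLinearGroup.smul_def, Matrix.SpecialLinearGroup.smul_def]
        exact e
      exact MulAction.injective g⁻¹ h'
    exact hlin.map' (Matrix.toLin' g⁻¹.1) (LinearMap.ker_eq_bot.2 hinj)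
  have hne0 : ∀ i : Fin 3, g⁻¹.1 *ᵥ
      (![CfsgLib.Suzuki.infV F, CfsgLib.Suzuki.pv m 0 0, CfsgLib.Suzuki.pv m x y] i) ≠ 0 :=
    fun i => hmap.ne_zero i
  convert Projectivization.Independent.mk _ hne0 hmap using 1
  funext i
  rw [hf]
  fin_cases i <;> rfl

end Cfsg.Agent.S0335
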