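import Cfsg.Statements.S0346
import Cfsg.Agent.Lib.Clifford.Zass
import Cfsg.Agent.Lib.Perm.ZassenhausFeit
import Cfsg.Agent.S0738
import Cfsg.Agent.S0741

set_option autoImplicit false
open Cfsg

namespace Cfsg.Agent.S0346

/-- The number of points of a finite simple Zassenhaus group is `p^k + 1` for some prime power `p^k` (the regular normal
subgroup of a point stabiliser is a `p`-group). -/
theorem result {G Ω : Type*} [Group G] [Finite G] [MulAction G Ω] [Fintype Ω]
    (hZ : Cfsg.IsZassenhausGroup G Ω) [IsSimpleGroup G] :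
    IsPrimePow (Fintype.card Ω - 1) := by
  classical
  obtain ⟨hf, h2t, h3, ⟨g₀, hg₀, a, b, hab, hga, hgb⟩, -⟩ := id hZ
  haveI := hf
  obtain ⟨h1, hbig⟩ := CfsgLib.Clifford.zass_big hZ hab
  rw [isPrimePow_nat_iff]
  rcases le_or_gt (Fintype.card Ω - 2)
      (2 * Nat.card ↥(MulAction.stabilizer G a ⊓ MulAction.stabilizer G b)) with hd | hd
  · obtain ⟨w, -, hw⟩ := Finset.exists_mem_notMem_of_card_lt_card
      (s := ({a, b} : Finset Ω)) (t := Finset.univ)
      (lt_of_le_of_lt Finset.card_le_two (by rw [Finset.card_univ]; omega))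
    rw [Finset.mem_insert, Finset.mem_singleton, not_or] at hw
    obtain ⟨F, hFle, hFn, hreg⟩ := CfsgLib.Perm.exists_regular_kernel h2t h3 hab hw.1 hw.2
      (fun e => by rw [e, Subgroup.card_bot] at h1; exact lt_irrefl _ h1)
    obtain ⟨-, p, f, hp, -, hc⟩ := Cfsg.Agent.S0738.result hZ hab hd F hFle hFn hreg
    refine ⟨p, f, hp, Nat.pos_of_ne_zero fun e => ?_, by omega⟩
    rw [e, pow_zero] at hc
    omega
  · have hodd : Odd (Nat.card ↥(MulAction.stabilizer G a ⊓ MulAction.stabilizer G b)) := by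
      rcases Nat.even_or_odd
        (Nat.card ↥(MulAction.stabilizer G a ⊓ MulAction.stabilizer G b)) with he | ho
      · exact absurd (Cfsg.Agent.S0741.result hZ hab he) (not_le.mpr hd)
      · exact ho
    obtain ⟨H, hHa, hHc, hHfix⟩ := CfsgLib.Clifford.exists_zass_kernel hZ hab
    rcases CfsgLib.Perm.FeitCoherent.feit_bound hZ hab (Fintype.card Ω - 1) _
      (by omega) rfl hodd H hHa hHc hHfix with h | ⟨hP, -, -⟩
    · omega
    · obtain ⟨k, hk⟩ := IsPGroup.iff_card.mp hP
      refine ⟨2, k, Nat.prime_two, Nat.pos_of_ne_zero fun e => ?_, by omega⟩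
      rw [e, pow_zero] at hk
      omega

end Cfsg.Agent.S0346
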