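import Cfsg.Statements.S0351
import Cfsg.Agent.Lib.Golay.Steiner

set_option autoImplicit false
open Cfsg CfsgLib.Golay
open scoped Pointwise

namespace Cfsg.Agent.S0351

/-- Derived design: removing a point p from the blocks through p of an S(t+1, k+1, v) yields an S(t, k, v-1) on the points other than p. -/
theorem result {α : Type*} [Fintype α] [DecidableEq α] {t k : ℕ} {B : Set (Finset α)} (hB : Cfsg.IsSteinerSystem (t + 1) (k + 1) B) (p : α) : Cfsg.IsSteinerSystem t k {b' : Finset {a : α // a ≠ p} | ∃ b ∈ B, p ∈ b ∧ b' = Finset.subtype (fun a => a ≠ p) b} := by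
  have hc : ∀ b ∈ B, p ∈ b → (Finset.subtype (fun a => a ≠ p) b).card = k := by
    intro b hb hp
    rw [Finset.card_subtype, Finset.filter_ne', Finset.card_erase_of_mem hp, hB.1 b hb]; rfl
  refine ⟨?_, fun s hs => ?_⟩
  · rintro _ ⟨b, hb, hp, rfl⟩; exact hc b hb hp
  · have hp : p ∉ s.map (Function.Embedding.subtype _) := by
      rw [Finset.mem_map]; rintro ⟨x, -, hx⟩; exact x.2 hx
    have key : ∀ b : Finset α, p ∈ b →
        (s ⊆ Finset.subtype (fun a => a ≠ p) b ↔ insert p (s.map (Function.Embedding.subtype _)) ⊆ b) := by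
      intro b hpb
      rw [Finset.insert_subset_iff, and_iff_right hpb]
      simp only [Finset.subset_iff, Finset.mem_map, Finset.mem_subtype, Function.Embedding.coe_subtype]
      exact ⟨fun h x ⟨y, hy, e⟩ => e ▸ h hy, fun h y hy => h ⟨y, hy, rfl⟩⟩
    obtain ⟨b, ⟨hb, hsub⟩, huniq⟩ := hB.2 (insert p (s.map (Function.Embedding.subtype _)))
      (by rw [Finset.card_insert_of_notMem hp, Finset.card_map, hs])
    have hpb : p ∈ b := hsub (Finset.mem_insert_self _ _)
    refine ⟨_, ⟨⟨b, hb, hpb, rfl⟩, (key b hpb).2 hsub⟩, ?_⟩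
    rintro _ ⟨⟨c, hc', hpc, rfl⟩, hsub'⟩
    rw [huniq c ⟨hc', (key c hpc).1 hsub'⟩]

end Cfsg.Agent.S0351
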