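import Cfsg.Statements.S0353
import Cfsg.Agent.Lib.Golay.Steiner

set_option autoImplicit false
open Cfsg CfsgLib.Golay
open scoped Pointwise

namespace Cfsg.Agent.S0353

/-- In an S(5, 8, 24), the symmetric difference of two blocks meeting in four points is a block. -/
theorem result {α : Type*} [Fintype α] [DecidableEq α] (hα : Fintype.card α = 24) {B : Set (Finset α)} (hB : Cfsg.IsSteinerSystem 5 8 B) {b c : Finset α} (hb : b ∈ B) (hc : c ∈ B) (h4 : (b ∩ c).card = 4) : symmDiff b c ∈ B := by
  have hsd := card_symmDiff_add b c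
  rw [h4, hB.1 b hb, hB.1 c hc] at hsd
  refine block_of_even hα hB (by omega) fun d hd => ?_
  have h := card_symmDiff_add (b ∩ d) (c ∩ d)
  have e1 : symmDiff (b ∩ d) (c ∩ d) = symmDiff b c ∩ d := (inf_symmDiff_distrib_right b c d).symm
  rw [e1] at h
  have h1 := inter_even_5_8_24 hα hB hb hd
  have h2 := inter_even_5_8_24 hα hB hc hd
  omega

end Cfsg.Agent.S0353
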