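import Cfsg.Statements.S0355
import Cfsg.Agent.Lib.Golay.Steiner

set_option autoImplicit false
open Cfsg CfsgLib.Golay
open scoped Pointwise

namespace Cfsg.Agent.S0355

/-- In a Steiner system S(4, 7, 23), two distinct blocks intersect in 1 or 3 points. -/
theorem result {α : Type*} [Fintype α] [DecidableEq α] (hα : Fintype.card α = 23) {B : Set (Finset α)} (hB : Cfsg.IsSteinerSystem 4 7 B) {b c : Finset α} (hb : b ∈ B) (hc : c ∈ B) (hbc : b ≠ c) : (b ∩ c).card = 1 ∨ (b ∩ c).card = 3 := by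
  obtain ⟨hlt, h0, h1, h2, h3⟩ := inter_4_7_23 hα hB hb
  have hc' : c ∈ (blocks B).erase b := Finset.mem_erase.2 ⟨Ne.symm hbc, mem_blocks.2 hc⟩
  have := hlt c hc'
  rcases (show (b ∩ c).card = 0 ∨ (b ∩ c).card = 1 ∨ (b ∩ c).card = 2 ∨ (b ∩ c).card = 3 by omega)
    with e | e | e | e
  · have := interNum_pos hc' e; omega
  · exact Or.inl e
  · have := interNum_pos hc' e; omega
  · exact Or.inr e

end Cfsg.Agent.S0355
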