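import Cfsg.Statements.S0371
import Cfsg.Agent.Lib.Golay.Perm

set_option autoImplicit false
open Cfsg CfsgLib.Golay

namespace Cfsg.Agent.S0371

/-- Multiplication by a nonzero square residue modulo 23, fixing the extra point, lies in the group of the length-24 code. -/
theorem result (u : (ZMod 23)ˣ) (hu : IsSquare u) : Equiv.optionCongr (Units.mulLeft u) ∈ Cfsg.M24 := by
  let L : List (ℕ × ℕ) := [(1, 984818244535754528103549039458486304), (2, 983435072843990828779021698901151808), (3, 982051901153124072706648311500937312), (4, 980668730378935070469623699575545984), (6, 977903326592794432676351619257413824), (8, 975166140090675008210365318152896768), (9, 973782968399780250007192978068752672), (12, 970567384681219435340729552166356352), (13, 969184212989482915311201746032266656), (16, 965063883269089610517257152230401536), (18, 962298451038133363011374430748423744)]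
  have hL : ∀ t ∈ L, inM24 t.2 = true ∧
      ∀ i < 23, img t.2 i = t.1 * i % 23 := by decide +kernel
  have hL' : ∀ t ∈ L, img t.2 23 = 23 := by decide +kernel
  have hu' : ∃ t ∈ L, t.1 = ((u : (ZMod 23)ˣ) : ZMod 23).val := by
    obtain ⟨r, rfl⟩ := hu
    revert r
    decide +kernel
  obtain ⟨⟨a, g⟩, ht, ha⟩ := hu'
  have hg := (hL _ ht).1
  have e : Equiv.optionCongr (Units.mulLeft u) = permOf g := by
    refine Equiv.ext fun p => ?_
    rw [permOf_apply (inM24_valid hg)]
    rcases p with _ | x
    · rw [show idx none = 23 from rfl, hL' _ ht]; rfl
    · have hx : x.val < 23 := x.val_lt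
      rw [show idx (some x) = x.val from rfl, (hL _ ht).2 _ hx, pt, dif_pos (Nat.mod_lt _ (by norm_num))]
      simp only [Equiv.optionCongr_apply, Option.map_some, Units.mulLeft_apply]
      congr 1
      apply ZMod.val_injective
      rw [ZMod.val_mul, ← ha]
      rfl
  rw [e]; exact inM24_mem hg

end Cfsg.Agent.S0371
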