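import Cfsg.Statements.S0372
import Cfsg.Agent.Lib.Golay.Perm

set_option autoImplicit false
open Cfsg CfsgLib.Golay

namespace Cfsg.Agent.S0372

/-- The involution x ↦ -1/x of the projective line over ZMod 23 lies in the group of the length-24 code. -/
theorem result : Cfsg.projInv ∈ Cfsg.M24 := by
  have hg : inM24 1795248432537898728475572672376535 = true := by decide +kernel
  have e : Cfsg.projInv = permOf 1795248432537898728475572672376535 := by
    refine Equiv.ext fun p => ?_
    rw [permOf_apply (inM24_valid hg)]
    revert p; decide +kernel
  rw [e]; exact inM24_mem hg

end Cfsg.Agent.S0372
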