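import Cfsg.Statements.S0373
import Cfsg.Agent.Lib.Golay.Perm

set_option autoImplicit false
open Cfsg CfsgLib.Golay

namespace Cfsg.Agent.S0373

/-- The cube-twist permutation (squares t ↦ t^3/9, non-squares t ↦ 9t^3, extra point fixed) lies in the group of the length-24 code. -/
theorem result : Cfsg.cubeTwist ∈ Cfsg.M24 := by
  have hg : inM24 974380510768821363662145534143076928 = true := by decide +kernel
  have e : Cfsg.cubeTwist = permOf 974380510768821363662145534143076928 := by
    refine Equiv.ext fun p => ?_
    rw [permOf_apply (inM24_valid hg)]
    show Cfsg.cubeTwistFun p = _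
    revert p; decide +kernel
  rw [e]; exact inM24_mem hg

end Cfsg.Agent.S0373
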