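import Cfsg.Statements.S0381
import Cfsg.Agent.Lib.Golay.ChainOctPts

set_option autoImplicit false
open Cfsg CfsgLib.Golay
open scoped Pointwise

namespace Cfsg.Agent.S0381

/-- The pointwise stabiliser of an octad in the group of the length-24 code has order 16 and every element of it squares to the identity. -/
theorem result (o : Finset Cfsg.GolayPt) (ho : o ∈ Cfsg.octads) : Nat.card ↥(Cfsg.M24 ⊓ fixingSubgroup (Equiv.Perm Cfsg.GolayPt) (o : Set Cfsg.GolayPt)) = 16 ∧ ∀ g ∈ Cfsg.M24 ⊓ fixingSubgroup (Equiv.Perm Cfsg.GolayPt) (o : Set Cfsg.GolayPt), g * g = 1 := by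
  obtain ⟨hcard, hinv⟩ := octPts_facts
  obtain ⟨c, rfl⟩ := M24_trans_octads octMask_mem ho
  have key : ∀ g : Equiv.Perm Cfsg.GolayPt,
      g ∈ Cfsg.M24 ⊓ fixingSubgroup (Equiv.Perm Cfsg.GolayPt) ((c • mset octMask : Finset _) : Set Cfsg.GolayPt)
      ↔ (c : Equiv.Perm Cfsg.GolayPt)⁻¹ * g * c ∈ fixMasks (bitsList octMask) := by
    intro g
    rw [mem_fix_pointwise, Subgroup.mem_inf, Subgroup.mem_inf, mem_fixingSubgroup_iff,
      mem_fixingSubgroup_iff, Subgroup.mul_mem_cancel_right _ c.2,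
      Subgroup.mul_mem_cancel_left _ (Subgroup.inv_mem _ c.2)]
    refine and_congr_right fun _ => ⟨fun h p hp => ?_, fun h p hp => ?_⟩
    · show (c : Equiv.Perm Cfsg.GolayPt)⁻¹ (g ((c : Equiv.Perm Cfsg.GolayPt) p)) = p
      rw [Equiv.Perm.inv_eq_iff_eq]
      exact h _ (by rw [Finset.coe_smul_finset]; exact Set.smul_mem_smul_set hp)
    · rw [Finset.coe_smul_finset] at hp
      obtain ⟨r, hr, rfl⟩ := hp
      have := h r hr
      change (c : Equiv.Perm Cfsg.GolayPt)⁻¹ (g ((c : Equiv.Perm Cfsg.GolayPt) r)) = r at this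
      rw [Equiv.Perm.inv_eq_iff_eq] at this
      exact this
  constructor
  · rw [← hcard]
    refine Nat.card_congr
      { toFun := fun g => ⟨_, (key g.1).1 g.2⟩
        invFun := fun g => ⟨(c : Equiv.Perm Cfsg.GolayPt) * g.1 * (c : Equiv.Perm Cfsg.GolayPt)⁻¹,
          (key _).2 (by simpa [mul_assoc] using g.2)⟩
        left_inv := fun g => Subtype.ext (by simp [mul_assoc])
        right_inv := fun g => Subtype.ext (by simp [mul_assoc]) }
  · intro g hg
    have := hinv _ ((key g).1 hg)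
    calc g * g = c * (((c : Equiv.Perm Cfsg.GolayPt)⁻¹ * g * c) *
          ((c : Equiv.Perm Cfsg.GolayPt)⁻¹ * g * c)) * (c : Equiv.Perm Cfsg.GolayPt)⁻¹ := by group
      _ = 1 := by rw [this]; group

end Cfsg.Agent.S0381
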