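import Cfsg.Statements.S0385
import Cfsg.Agent.Lib.Golay.Stab

set_option autoImplicit false
open Cfsg CfsgLib.Golay
open scoped Pointwise

namespace Cfsg.Agent.S0385

/-- The 6-point intersections of octads with a fixed dodecad form a Steiner system S(5, 6, 12) on the dodecad. -/
theorem result (d : Finset Cfsg.GolayPt) (hd : d ∈ Cfsg.dodecads) : Cfsg.IsSteinerSystem 5 6 {h : Finset {p : Cfsg.GolayPt // p ∈ d} | ∃ o ∈ Cfsg.octads, (o ∩ d).card = 6 ∧ h = Finset.subtype (fun p => p ∈ d) o} := by
  classical
  refine ⟨?_, ?_⟩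
  · rintro h ⟨o, -, h6, rfl⟩
    rw [Finset.card_subtype, Finset.filter_mem_eq_inter]
    exact h6
  · intro s hs
    have hs5 : (s.map (Function.Embedding.subtype _)).card = 5 := by rw [Finset.card_map, hs]
    obtain ⟨o, ⟨ho, hso⟩, huniq⟩ := octad_exists_unique hs5
    have h5 : 5 ≤ (o ∩ d).card := by
      rw [← hs5]
      refine Finset.card_le_card (Finset.subset_inter hso ?_)
      intro x hx
      obtain ⟨y, -, rfl⟩ := Finset.mem_map.1 hx
      exact y.2
    have h6 : (o ∩ d).card = 6 := by
      have heven := supports_inter_even ho.1 hd.1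
      have hle : (o ∩ d).card ≤ 8 := by rw [← ho.2]; exact Finset.card_le_card Finset.inter_subset_left
      have hne : (o ∩ d).card ≠ 8 := by
        intro h8
        have hsub : o ∩ d = o := Finset.eq_of_subset_of_card_le Finset.inter_subset_left
          (by rw [h8, ho.2])
        have hw := supports_card (symmDiff_mem_supports hd.1 ho.1)
        rw [symmDiff_def, Finset.sup_eq_union,
          Finset.sdiff_eq_empty_iff_subset.2 (Finset.inter_eq_left.1 hsub), Finset.union_empty,
          Finset.card_sdiff, hsub, ho.2, hd.2] at hw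
        omega
      omega
    have hmem : ∀ o' : Finset Cfsg.GolayPt, s ⊆ Finset.subtype (fun p => p ∈ d) o' ↔
        s.map (Function.Embedding.subtype _) ⊆ o' := by
      intro o'
      constructor
      · intro h x hx
        obtain ⟨y, hy, rfl⟩ := Finset.mem_map.1 hx
        exact Finset.mem_subtype.1 (h hy)
      · intro h y hy
        exact Finset.mem_subtype.2 (h (Finset.mem_map.2 ⟨y, hy, rfl⟩))
    refine ⟨Finset.subtype (fun p => p ∈ d) o, ⟨⟨o, ho, h6, rfl⟩, (hmem o).2 hso⟩, ?_⟩
    rintro _ ⟨⟨o', ho', -, rfl⟩, hsub⟩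
    rw [huniq o' ⟨ho', (hmem o').1 hsub⟩]

end Cfsg.Agent.S0385
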