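import Cfsg.Statements.S0386
import Cfsg.Agent.Lib.Golay.Count

set_option autoImplicit false
open Cfsg CfsgLib.Golay
open scoped Pointwise

namespace Cfsg.Agent.S0386

/-- For a fixed dodecad, 132 octads meet it in 6 points, 132 in 2 points and 495 in 4 points. -/
theorem result (d : Finset Cfsg.GolayPt) (hd : d ∈ Cfsg.dodecads) : {o : Finset Cfsg.GolayPt | o ∈ Cfsg.octads ∧ (o ∩ d).card = 6}.ncard = 132 ∧ {o : Finset Cfsg.GolayPt | o ∈ Cfsg.octads ∧ (o ∩ d).card = 2}.ncard = 132 ∧ {o : Finset Cfsg.GolayPt | o ∈ Cfsg.octads ∧ (o ∩ d).card = 4}.ncard = 495 := by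
  obtain ⟨g, hg⟩ := M24_trans_dodecads hd sqMask_mem
  have key : ∀ k : ℕ, {o : Finset Cfsg.GolayPt | o ∈ Cfsg.octads ∧ (o ∩ d).card = k}.ncard =
      (octList.filter fun m => Nat.beq (pop (Nat.land m sqMask)) k).length := by
    intro k
    rw [← ncard_octads_filter (P := fun o => (o ∩ mset sqMask).card = k)
      (pb := fun m => Nat.beq (pop (Nat.land m sqMask)) k) fun m => inter_card_iff]
    refine ncard_transport g fun s => ?_
    show g • s ∈ Cfsg.octads ∧ _ ↔ s ∈ Cfsg.octads ∧ _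
    rw [← hg, smul_inter_card, smul_mem_octads_iff]
  rw [key 6, key 2, key 4]
  decide +kernel

end Cfsg.Agent.S0386
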