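import Cfsg.Statements.S0394
import Cfsg.Agent.Lib.Golay.LeechCount

set_option autoImplicit false
open Cfsg CfsgLib.Golay
open scoped Pointwise

namespace Cfsg.Agent.S0394

/-- Exactly 196560 lattice vectors have sum of squares 32. -/
theorem result : {x : Cfsg.GolayPt → ℤ | x ∈ Cfsg.leechLattice ∧ Cfsg.sqNorm x = 32}.ncard = 196560 := by
  have h := ncard_norm 8 (by norm_num)
  rw [show (4 : ℤ) * ((8 : ℕ) : ℤ) = 32 by norm_num] at h
  rw [h]
  decide +kernel

end Cfsg.Agent.S0394
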