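import Cfsg.Statements.S0396
import Cfsg.Agent.Lib.Golay.LeechCount

set_option autoImplicit false
open Cfsg CfsgLib.Golay
open scoped Pointwise

namespace Cfsg.Agent.S0396

/-- Exactly 398034000 lattice vectors have sum of squares 64. -/
theorem result : {x : Cfsg.GolayPt → ℤ | x ∈ Cfsg.leechLattice ∧ Cfsg.sqNorm x = 64}.ncard = 398034000 := by
  have h := ncard_norm 16 (by norm_num)
  rw [show (4 : ℤ) * ((16 : ℕ) : ℤ) = 64 by norm_num] at h
  rw [h]
  decide +kernel

end Cfsg.Agent.S0396
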