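import Cfsg.Statements.S0406
import Cfsg.Agent.Lib.Golay.Frame
import Cfsg.Agent.Lib.Golay.MatrixLattice

set_option autoImplicit false
open Matrix
open Cfsg CfsgLib.Golay
open scoped Pointwise

namespace Cfsg.Agent.S0406

/-- A rank-24 even lattice with no roots and the stated numbers of vectors of norms 4, 6, 8 is isomorphic to the Leech lattice. -/
theorem result (B : Matrix (Fin 24) (Fin 24) ℤ) (hsymm : B.IsSymm) (hpos : ∀ x : Fin 24 → ℤ, x ≠ 0 → 0 < x ⬝ᵥ (B *ᵥ x)) (heven : ∀ x : Fin 24 → ℤ, (2 : ℤ) ∣ x ⬝ᵥ (B *ᵥ x)) (h2 : ∀ x : Fin 24 → ℤ, x ⬝ᵥ (B *ᵥ x) ≠ 2) (h4 : {x : Fin 24 → ℤ | x ⬝ᵥ (B *ᵥ x) = 4}.ncard = 196560) (h6 : {x : Fin 24 → ℤ | x ⬝ᵥ (B *ᵥ x) = 6}.ncard = 16773120) (h8 : {x : Fin 24 → ℤ | x ⬝ᵥ (B *ᵥ x) = 8}.ncard = 398034000) : ∃ f : (Fin 24 → ℤ) ≃+ Cfsg.leechLattice, ∀ x : Fin 24 → ℤ, Cfsg.sqNorm ((f x : Cfsg.leechLattice)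 : Cfsg.GolayPt → ℤ) = 8 * (x ⬝ᵥ (B *ᵥ x)) := by
  let R := matRootless B hsymm hpos heven h2
  have h : R.Counts := ⟨h4, h6, h8⟩
  obtain ⟨x, hx⟩ : {x : Fin 24 → ℤ | R.q x = 8}.Nonempty :=
    Set.nonempty_of_ncard_ne_zero (by rw [h.c8]; norm_num)
  obtain ⟨f, hf8, hfo, hfc, -⟩ := h.exists_frame hx
  let ε : Cfsg.GolayPt ≃ Fin 24 := Fintype.equivFinOfCardEq (by simp)
  have hF : R.IsFrame (fun p => f (ε p)) :=
    ⟨fun k => hf8 _, fun j k hjk => hfo _ _ fun e => hjk (ε.injective e),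
      fun j k => (hfc _).trans (hfc _).symm⟩
  obtain ⟨F, hdot, -⟩ := Rootless.frame_iso hF h4
  refine ⟨F, fun y => ?_⟩
  rw [← dotInt_self]
  exact hdot y y

end Cfsg.Agent.S0406
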