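import Cfsg.Statements.S0407
import Cfsg.Agent.Lib.Golay.SteinerIso
import Cfsg.Agent.Lib.Golay.Mathieu

set_option autoImplicit false
open Cfsg CfsgLib.Golay
open scoped Pointwise

namespace Cfsg.Agent.S0407

/-- Uniqueness of the Steiner system S(5, 8, 24) up to isomorphism. -/
theorem result {α β : Type*} [Fintype α] [DecidableEq α] [Fintype β] [DecidableEq β] (hα : Fintype.card α = 24) (hβ : Fintype.card β = 24) {B : Set (Finset α)} {B' : Set (Finset β)} (hB : Cfsg.IsSteinerSystem 5 8 B) (hB' : Cfsg.IsSteinerSystem 5 8 B') : Cfsg.SetSystemIso B B' := by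
  obtain ⟨e, he⟩ := steiner24_iso hα hB
  obtain ⟨e', he'⟩ := steiner24_iso hβ hB'
  refine ⟨e.trans e'.symm, image_family_eq fun w => ?_⟩
  rw [← he' _, ← he w, Finset.image_image]
  exact iff_of_eq (congrArg (fun f : α → Cfsg.GolayPt => w.image f ∈ Cfsg.octads)
    (funext fun x => e'.apply_symm_apply (e x)))

end Cfsg.Agent.S0407
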