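import Cfsg.Statements.S0408
import Cfsg.Agent.Lib.Golay.Steiner12Aut

set_option autoImplicit false
open Cfsg

namespace Cfsg.Agent.S0408

/-- Uniqueness of the Steiner system S(5, 6, 12) up to isomorphism. -/
theorem result {α β : Type*} [Fintype α] [DecidableEq α] [Fintype β] [DecidableEq β] (hα : Fintype.card α = 12) (hβ : Fintype.card β = 12) {B : Set (Finset α)} {B' : Set (Finset β)} (hB : Cfsg.IsSteinerSystem 5 6 B) (hB' : Cfsg.IsSteinerSystem 5 6 B') : Cfsg.SetSystemIso B B' := by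
  obtain ⟨x⟩ : Nonempty (Fin 5 ↪ α) := Function.Embedding.nonempty_of_card_le (by simp [hα])
  obtain ⟨y⟩ : Nonempty (Fin 5 ↪ β) := Function.Embedding.nonempty_of_card_le (by simp [hβ])
  obtain ⟨φ, hφ, -⟩ := CfsgLib.Golay.steiner12_label hα hB x
  obtain ⟨χ, hχ, -⟩ := CfsgLib.Golay.steiner12_label hβ hB' y
  refine ⟨φ.trans χ.symm, CfsgLib.Golay.image_family_eq fun w => ?_⟩
  rw [hχ, hφ w, Finset.image_image]
  refine iff_of_eq (congrArg (fun f : α → Fin 12 => w.image f ∈ CfsgLib.Golay.B12) (funext fun b => ?_))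
  show χ (χ.symm (φ b)) = _
  rw [Equiv.apply_symm_apply]

end Cfsg.Agent.S0408
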