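import Cfsg.Statements.S0409
import Cfsg.Agent.Lib.Golay.SteinerExt
import Cfsg.Agent.Lib.Golay.Mathieu

set_option autoImplicit false
open Cfsg CfsgLib.Golay
open scoped Pointwise

namespace Cfsg.Agent.S0409

/-- Uniqueness of the Steiner system S(4, 7, 23) up to isomorphism. -/
theorem result {α β : Type*} [Fintype α] [DecidableEq α] [Fintype β] [DecidableEq β] (hα : Fintype.card α = 23) (hβ : Fintype.card β = 23) {B : Set (Finset α)} {B' : Set (Finset β)} (hB : Cfsg.IsSteinerSystem 4 7 B) (hB' : Cfsg.IsSteinerSystem 4 7 B') : Cfsg.SetSystemIso B B' := by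
  obtain ⟨e, he0, he⟩ := steiner23_iso hα hB
  obtain ⟨e', he0', he'⟩ := steiner23_iso hβ hB'
  let f : Option α ≃ Option β := e.trans e'.symm
  have hf : f none = none := by
    show e'.symm (e none) = none
    rw [he0, ← he0', Equiv.symm_apply_apply]
  refine ⟨f.removeNone, image_family_eq fun w => ?_⟩
  have hs : ∀ x, some (f.removeNone x) = f (some x) := fun x => by
    rcases hx : f (some x) with _ | y
    · rw [← hf] at hx; exact absurd (f.injective hx) (by simp)
    · exact (Equiv.removeNone_some f ⟨y, hx⟩).trans hx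
  rw [← he' _, ← he w]
  refine iff_of_eq (congrArg (fun z => z ∈ Cfsg.octads) ?_)
  ext p
  simp only [Finset.mem_image, Finset.mem_insertNone]
  constructor
  · rintro ⟨y, hy, rfl⟩
    rcases y with _ | y
    · exact ⟨none, by simp, by rw [he0, he0']⟩
    · obtain ⟨x, hx, hxy⟩ := hy y rfl
      refine ⟨some x, fun a ha => (Option.some.inj ha) ▸ hx, ?_⟩
      rw [← hxy, hs]
      exact (e'.apply_symm_apply _).symm
  · rintro ⟨y, hy, rfl⟩
    rcases y with _ | x
    · exact ⟨none, by simp, by rw [he0, he0']⟩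
    · refine ⟨some (f.removeNone x), fun a ha => ⟨x, hy x rfl, Option.some.inj ha⟩, ?_⟩
      rw [hs]
      exact e'.apply_symm_apply _

end Cfsg.Agent.S0409
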