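import Cfsg.Statements.S0410
import Cfsg.Agent.Lib.Golay.Steiner22Aut

set_option autoImplicit false
open Cfsg

namespace Cfsg.Agent.S0410

/-- Uniqueness of the Steiner system S(3, 6, 22) up to isomorphism. -/
theorem result {α β : Type*} [Fintype α] [DecidableEq α] [Fintype β] [DecidableEq β] (hα : Fintype.card α = 22) (hβ : Fintype.card β = 22) {B : Set (Finset α)} {B' : Set (Finset β)} (hB : Cfsg.IsSteinerSystem 3 6 B) (hB' : Cfsg.IsSteinerSystem 3 6 B') : Cfsg.SetSystemIso B B' := by
  obtain ⟨k, k1, k2, hk⟩ := CfsgLib.Golay.steiner22_iso hβ hB'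
  obtain ⟨e', e1, e2, he'⟩ := CfsgLib.Golay.steiner22_iso hα hB
  let φ : Option (Option α) ≃ Option (Option β) := e'.trans k.symm
  have f1 : φ none = none := k.symm_apply_eq.2 (e1.trans k1.symm)
  have f2 : φ (some none) = some none := k.symm_apply_eq.2 (e2.trans k2.symm)
  let ψ : α ≃ β := φ.removeNone.removeNone
  have hψ : ∀ a, φ (some (some a)) = some (some (ψ a)) := by
    intro a
    have h1 : some (φ.removeNone (some a)) = φ (some (some a)) := by
      refine Equiv.removeNone_some φ ?_
      rcases h : φ (some (some a)) with _ | y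
      · exact absurd (φ.injective (h.trans f1.symm)) (by simp)
      · exact ⟨y, rfl⟩
    have h2 : φ.removeNone none = none := by
      have : some (φ.removeNone none) = φ (some none) := Equiv.removeNone_some φ ⟨none, f2⟩
      exact Option.some.inj (this.trans f2)
    have h3 : some (ψ a) = φ.removeNone (some a) := by
      refine Equiv.removeNone_some φ.removeNone ?_
      rcases h : φ.removeNone (some a) with _ | y
      · exact absurd (φ.removeNone.injective (h.trans h2.symm)) (by simp)
      · exact ⟨y, rfl⟩
    rw [h3, h1]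
  refine ⟨ψ, CfsgLib.Golay.image_family_eq (fun w => ?_)⟩
  rw [← hk, ← he']
  refine iff_of_eq (congrArg (· ∈ Cfsg.octads) ?_)
  ext x
  obtain ⟨y, rfl⟩ := e'.surjective x
  have hy : e' y = k (φ y) := (k.apply_symm_apply _).symm
  conv_lhs => rw [hy]
  rw [k.injective.mem_finset_image, e'.injective.mem_finset_image]
  rcases y with _ | _ | a
  · simp [f1, CfsgLib.Golay.ins22]
  · simp [f2, CfsgLib.Golay.ins22]
  · simp [hψ, CfsgLib.Golay.ins22]

end Cfsg.Agent.S0410
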