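import Cfsg.Statements.S0412
import Cfsg.Agent.Lib.Golay.SteinerIso
import Cfsg.Agent.Lib.Golay.Mathieu

set_option autoImplicit false
open Cfsg CfsgLib.Golay
open scoped Pointwise

namespace Cfsg.Agent.S0412

/-- Aut of an S(5, 8, 24) is simple of order 244823040 and 5-transitive on points. -/
theorem result {α : Type*} [Fintype α] [DecidableEq α] (hα : Fintype.card α = 24) {B : Set (Finset α)} (hB : Cfsg.IsSteinerSystem 5 8 B) : Cfsg.IsM24 (Cfsg.setSystemAut B) ∧ MulAction.IsMultiplyPretransitive (Cfsg.setSystemAut B) α 5 := by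
  obtain ⟨e, he⟩ := steiner24_iso hα hB
  obtain ⟨φ, hφ⟩ := aut_equiv he
  have ψ : ↥(Cfsg.setSystemAut B) ≃* ↥Cfsg.M24 :=
    φ.trans (MulEquiv.subgroupCongr Cfsg.Agent.S0369.result.symm)
  haveI := isSimple_M24
  refine ⟨⟨ψ.isSimpleGroup, (Nat.card_congr ψ.toEquiv).trans card_M24⟩, ⟨fun x y => ?_⟩⟩
  obtain ⟨g, hg⟩ := M24_five_trans (x.trans e.toEmbedding) (y.trans e.toEmbedding)
  have hg' : (g : Equiv.Perm Cfsg.GolayPt) ∈ Cfsg.setSystemAut Cfsg.octads :=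
    Cfsg.Agent.S0369.result ▸ g.2
  refine ⟨φ.symm ⟨g, hg'⟩, ?_⟩
  ext i
  apply e.injective
  show e ((φ.symm ⟨g, hg'⟩).1 (x i)) = e (y i)
  rw [← hφ, MulEquiv.apply_symm_apply]
  exact congrFun (congrArg DFunLike.coe hg) i

end Cfsg.Agent.S0412
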