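import Cfsg.Statements.S0413
import Cfsg.Agent.Lib.Golay.SteinerExt
import Cfsg.Agent.Lib.Golay.Mathieu

set_option autoImplicit false
open Cfsg CfsgLib.Golay
open scoped Pointwise

namespace Cfsg.Agent.S0413

/-- Aut of an S(4, 7, 23) is simple of order 10200960 and 4-transitive. -/
theorem result {α : Type*} [Fintype α] [DecidableEq α] (hα : Fintype.card α = 23) {B : Set (Finset α)} (hB : Cfsg.IsSteinerSystem 4 7 B) : Cfsg.IsM23 (Cfsg.setSystemAut B) ∧ MulAction.IsMultiplyPretransitive (Cfsg.setSystemAut B) α 4 := by
  obtain ⟨e, he0, he⟩ := steiner23_iso hα hB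
  have h1 : ∀ (g : Equiv.Perm α) (w : Finset α),
      e.permCongr g.optionCongr • (Finset.insertNone w).image e =
        (Finset.insertNone (g • w)).image e := by
    intro g w
    have h : Finset.insertNone (g • w) = (Finset.insertNone w).image g.optionCongr := by
      ext a
      rcases a with _ | a
      · simp
      · simp [Finset.mem_smul_finset]
    rw [Finset.smul_finset_def, h, Finset.image_image, Finset.image_image]
    refine Finset.image_congr fun a _ => ?_
    simp [Equiv.permCongr_apply]
  have hmem : ∀ g : Equiv.Perm α, g ∈ Cfsg.setSystemAut B → e.permCongr g.optionCongr ∈ Cfsg.M24 := by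
    intro g hg
    refine mem_M24_of_octads_through fun o ho hp => ?_
    obtain ⟨u, rfl⟩ : ∃ u : Finset (Option α), u.image e = o :=
      ⟨o.image e.symm, by simp [Finset.image_image]⟩
    have hn : none ∈ u := by
      rw [← he0] at hp
      simpa using hp
    have hu : Finset.insertNone (Finset.eraseNone u) = u := by
      rw [Finset.insertNone_eraseNone, Finset.insert_eq_of_mem hn]
    rw [← hu] at ho ⊢
    rw [h1, he]
    have := Set.smul_mem_smul_set (a := g) ((he _).1 ho)
    rwa [MulAction.mem_stabilizer_iff.1 hg] at this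
  have hfix : ∀ g : Equiv.Perm α, e.permCongr g.optionCongr (pt 23) = pt 23 := fun g => by
    rw [← he0]; simp [Equiv.permCongr_apply]
  have hsome : ∀ (g : Equiv.Perm α) (x : α), e.permCongr g.optionCongr (e (some x)) = e (some (g x)) :=
    fun g x => by simp [Equiv.permCongr_apply]
  let φ : ↥(Cfsg.setSystemAut B) →* ↥(MulAction.stabilizer ↥Cfsg.M24 (pt 23)) :=
    { toFun := fun g => ⟨⟨e.permCongr g.1.optionCongr, hmem _ g.2⟩, hfix _⟩
      map_one' := by
        apply Subtype.ext; apply Subtype.ext; apply Equiv.ext; intro p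
        obtain ⟨a, rfl⟩ := e.surjective p
        rcases a with _ | a <;> simp [Equiv.permCongr_apply]
      map_mul' := fun g k => by
        apply Subtype.ext; apply Subtype.ext; apply Equiv.ext; intro p
        obtain ⟨a, rfl⟩ := e.surjective p
        rcases a with _ | a <;> simp [Equiv.permCongr_apply] }
  have hφ : Function.Bijective φ := by
    constructor
    · intro g k h
      apply Subtype.ext; apply Equiv.ext; intro x
      have h' : e.permCongr g.1.optionCongr = e.permCongr k.1.optionCongr :=
        congrArg (fun s : ↥(MulAction.stabilizer ↥Cfsg.M24 (pt 23)) => s.1.1) h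
      have := congrArg (fun p : Equiv.Perm Cfsg.GolayPt => p (e (some x))) h'
      simp only [hsome] at this
      exact Option.some.inj (e.injective this)
    · rintro ⟨⟨s, hs⟩, hsfix⟩
      have hs23 : s (pt 23) = pt 23 := hsfix
      let t : Equiv.Perm (Option α) := e.symm.permCongr s
      have ht : t none = none := by
        show e.symm (s (e none)) = none
        rw [he0, hs23, ← he0, Equiv.symm_apply_apply]
      let g : Equiv.Perm α := t.removeNone
      have hg : g.optionCongr = t := by
        apply Equiv.ext; intro a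
        rcases a with _ | a
        · simp [ht]
        · show some (t.removeNone a) = t (some a)
          rcases hx : t (some a) with _ | c
          · rw [← ht] at hx; exact absurd (t.injective hx) (by simp)
          · exact (Equiv.removeNone_some t ⟨c, hx⟩).trans hx
      have hsg : e.permCongr g.optionCongr = s := by
        rw [hg]; apply Equiv.ext; intro p; simp [t, Equiv.permCongr_apply]
      refine ⟨⟨g, ?_⟩, Subtype.ext (Subtype.ext hsg)⟩
      rw [MulAction.mem_stabilizer_iff]
      refine Set.eq_of_subset_of_ncard_le ?_ (by rw [Set.ncard_smul_set]) (Set.toFinite _)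
      rintro _ ⟨w, hw, rfl⟩
      show g • w ∈ B
      rw [← he, ← h1, hsg]
      exact M24_smul_octad hs ((he w).2 hw)
  let ψ := MulEquiv.ofBijective φ hφ
  obtain ⟨χ⟩ := stab1_equiv (pt 23)
  haveI := isSimple_fix23
  refine ⟨⟨(ψ.trans χ).isSimpleGroup, (Nat.card_congr (ψ.trans χ).toEquiv).trans card_fix23⟩,
    ⟨fun x y => ?_⟩⟩
  let ext5 : (Fin 4 ↪ α) → (Fin 5 ↪ Cfsg.GolayPt) := fun x =>
    ⟨fun i => e (Fin.cases none (fun j => some (x j)) i), fun i j h => by
      have h' := e.injective h
      rcases Fin.eq_zero_or_eq_succ i with rfl | ⟨i, rfl⟩ <;>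
        rcases Fin.eq_zero_or_eq_succ j with rfl | ⟨j, rfl⟩ <;> simp at h' ⊢
      exact h'⟩
  obtain ⟨s, hs⟩ := M24_five_trans (ext5 x) (ext5 y)
  have hs' : ∀ i, (s : Equiv.Perm Cfsg.GolayPt) (ext5 x i) = ext5 y i := fun i =>
    congrFun (congrArg DFunLike.coe hs) i
  have hext : ∀ (x : Fin 4 ↪ α) i, ext5 x i = e (Fin.cases none (fun j => some (x j)) i) :=
    fun _ _ => rfl
  have hs0 : s • pt 23 = pt 23 := by
    have := hs' 0
    rw [hext, hext, Fin.cases_zero, Fin.cases_zero, he0] at this
    exact this
  obtain ⟨g, hg⟩ := hφ.2 ⟨s, hs0⟩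
  refine ⟨g, ?_⟩
  ext i
  have h2 := hs' i.succ
  rw [hext, hext, Fin.cases_succ, Fin.cases_succ] at h2
  have hg' : e.permCongr g.1.optionCongr = (s : Equiv.Perm Cfsg.GolayPt) :=
    congrArg (fun s : ↥(MulAction.stabilizer ↥Cfsg.M24 (pt 23)) => s.1.1) hg
  rw [← hg', hsome] at h2
  exact Option.some.inj (e.injective h2)

end Cfsg.Agent.S0413
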