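import Cfsg.Statements.S0423
import Cfsg.Agent.Lib.InvChar.SporJ2
-- import your own Cfsg.Agent.* helpers here

set_option autoImplicit false
open Cfsg

namespace Cfsg.Agent.S0423

/-- Existence of a simple group of order 604800. -/
theorem result : ∃ G : Subgroup (Equiv.Perm (Fin 100)), Cfsg.IsJ2 G := by
  let φ : CfsgLib.InvChar.SporJ2.P →* Equiv.Perm (Fin 100) := CfsgLib.InvChar.SporJ2.rep
  have hinj : Function.Injective φ := CfsgLib.InvChar.SporJ2.card_eq.2
  have e := MonoidHom.ofInjective hinj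
  refine ⟨φ.range, ?_, ?_⟩
  · haveI : IsSimpleGroup CfsgLib.InvChar.SporJ2.P := CfsgLib.InvChar.SporJ2.isSimpleGroup
    haveI : Nontrivial φ.range := e.symm.toEquiv.nontrivial
    exact IsSimpleGroup.isSimpleGroup_of_surjective e.toMonoidHom e.surjective
  · rw [← Nat.card_congr e.toEquiv]
    exact CfsgLib.InvChar.SporJ2.card_eq.1

end Cfsg.Agent.S0423
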