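import Cfsg.Statements.S0427
import Cfsg.Agent.Lib.Golay.Steiner22

set_option autoImplicit false
open Cfsg CfsgLib.Golay
open scoped Pointwise

namespace Cfsg.Agent.S0427

/-- The block graph (adjacent = disjoint) of an S(3, 6, 22) is strongly regular with parameters (77, 16, 0, 4). -/
theorem result {α : Type*} [Fintype α] (hα : Fintype.card α = 22) {B : Set (Finset α)} (hB : Cfsg.IsSteinerSystem 3 6 B) [Fintype B] [DecidableRel (Cfsg.blockGraph B).Adj] : (Cfsg.blockGraph B).IsSRGWith 77 16 0 4 := by
  classical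
  have hadj : ∀ b c : B, (Cfsg.blockGraph B).Adj b c ↔ Disjoint (b : Finset α) (c : Finset α) := by
    intro b c
    rw [Cfsg.blockGraph, SimpleGraph.fromRel_adj, disjoint_comm (a := (c : Finset α)), or_self]
    refine and_iff_right_of_imp fun h e => ?_
    rw [e, disjoint_self, Finset.bot_eq_empty] at h
    have := hB.1 _ c.2
    simp [h] at this
  have hcount : ∀ (T : Finset (Finset α)), (∀ c ∈ T, c ∈ B) → ∀ (S : Set B),
      (∀ x : B, x ∈ S ↔ x.1 ∈ T) → ∀ [Fintype S], Fintype.card S = T.card := by
    intro T hT S hS _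
    rw [← Nat.card_eq_fintype_card, Nat.card_coe_set_eq, ← Set.ncard_coe_finset,
      ← Set.ncard_image_of_injective S Subtype.val_injective]
    congr 1
    ext c
    simp only [Set.mem_image, Subtype.exists, exists_and_right, exists_eq_right, Finset.mem_coe]
    exact ⟨fun ⟨h, hc⟩ => (hS ⟨c, h⟩).1 hc, fun hc => ⟨hT c hc, (hS ⟨c, hT c hc⟩).2 hc⟩⟩
  refine ⟨?_, fun v => ?_, fun v w h => ?_, fun v w hne h => ?_⟩
  · rw [← Nat.card_eq_fintype_card, Nat.card_coe_set_eq, ncard_blocks]
    have := steiner_count hB ∅ (Nat.zero_le _)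
    simp [hα, Nat.choose] at this
    omega
  · rw [← SimpleGraph.card_neighborSet_eq_degree, hcount (offBlocks B v.1)
      (fun c hc => (mem_offBlocks.1 hc).1) _ fun x => by simp [hadj, mem_offBlocks]]
    exact card_offBlocks hα hB v.2
  · rw [hcount ((offBlocks B v.1).filter fun c => Disjoint (w : Finset α) c)
      (fun c hc => (mem_offBlocks.1 (Finset.mem_filter.1 hc).1).1) _
      fun x => by simp [SimpleGraph.commonNeighbors, hadj, mem_offBlocks],
      common_off_of_disjoint hα hB v.2 w.2 ((hadj v w).1 h)]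
    rfl
  · rw [hcount ((offBlocks B v.1).filter fun c => Disjoint (w : Finset α) c)
      (fun c hc => (mem_offBlocks.1 (Finset.mem_filter.1 hc).1).1) _
      fun x => by simp [SimpleGraph.commonNeighbors, hadj, mem_offBlocks]]
    refine common_off_of_meet hα hB v.2 w.2 ?_
    rcases inter_cases22 hα hB v.2 w.2 (fun e => hne (Subtype.ext e)) with e | e
    · exact absurd ((hadj v w).2 (Finset.disjoint_iff_inter_eq_empty.2 (Finset.card_eq_zero.1 e))) h
    · exact e

end Cfsg.Agent.S0427
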