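import Cfsg.Statements.S0428
import Cfsg.Agent.Lib.Golay.Steiner22

set_option autoImplicit false
open Cfsg CfsgLib.Golay
open scoped Pointwise

namespace Cfsg.Agent.S0428

/-- The point-block graph of an S(3, 6, 22) is strongly regular with parameters (100, 22, 0, 6). -/
theorem result {α : Type*} [Fintype α] (hα : Fintype.card α = 22) {B : Set (Finset α)} (hB : Cfsg.IsSteinerSystem 3 6 B) [Fintype B] [DecidableRel (Cfsg.pointBlockGraph B).Adj] : (Cfsg.pointBlockGraph B).IsSRGWith 100 22 0 6 := by
  classical
  have hadj : ∀ x y, (Cfsg.pointBlockGraph B).Adj x y ↔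
      x ≠ y ∧ (Cfsg.pointBlockRel B x y ∨ Cfsg.pointBlockRel B y x) := fun x y => Iff.rfl
  have hne6 : ∀ b ∈ B, b ≠ (∅ : Finset α) := fun b hb e => by
    have := hB.1 b hb; simp [e] at this
  -- adjacency in closed form
  have h0p : ∀ a : α, (Cfsg.pointBlockGraph B).Adj none (some (Sum.inl a)) := fun a => by
    simp [hadj, Cfsg.pointBlockRel]
  have h0b : ∀ b : B, ¬ (Cfsg.pointBlockGraph B).Adj none (some (Sum.inr b)) := fun b => by
    simp [hadj, Cfsg.pointBlockRel]
  have hpp : ∀ a a' : α, ¬ (Cfsg.pointBlockGraph B).Adj (some (Sum.inl a)) (some (Sum.inl a')) :=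
    fun a a' => by simp [hadj, Cfsg.pointBlockRel]
  have hpb : ∀ (a : α) (b : B), (Cfsg.pointBlockGraph B).Adj (some (Sum.inl a)) (some (Sum.inr b)) ↔
      a ∈ (b : Finset α) := fun a b => by simp [hadj, Cfsg.pointBlockRel]
  have hbb : ∀ b c : B, (Cfsg.pointBlockGraph B).Adj (some (Sum.inr b)) (some (Sum.inr c)) ↔
      Disjoint (b : Finset α) (c : Finset α) := fun b c => by
    rw [hadj]
    simp only [ne_eq, Option.some.injEq, Sum.inr.injEq, Cfsg.pointBlockRel,
      disjoint_comm (a := (c : Finset α)), or_self]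
    refine and_iff_right_of_imp fun h e => ?_
    rw [e, disjoint_self, Finset.bot_eq_empty] at h
    exact hne6 _ c.2 h
  have hsymm : ∀ x y, (Cfsg.pointBlockGraph B).Adj x y → (Cfsg.pointBlockGraph B).Adj y x :=
    fun x y h => h.symm
  have hb0 : ∀ b : B, ¬ (Cfsg.pointBlockGraph B).Adj (some (Sum.inr b)) none :=
    fun b h => h0b b h.symm
  have hbp : ∀ (b : B) (a : α), (Cfsg.pointBlockGraph B).Adj (some (Sum.inr b)) (some (Sum.inl a)) ↔
      a ∈ (b : Finset α) := fun b a => ⟨fun h => (hpb a b).1 h.symm, fun h => ((hpb a b).2 h).symm⟩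
  have hp0 : ∀ a : α, (Cfsg.pointBlockGraph B).Adj (some (Sum.inl a)) none := fun a => (h0p a).symm
  have h00 : ¬ (Cfsg.pointBlockGraph B).Adj none none := SimpleGraph.irrefl _
  -- counting
  have hsum : ∀ (P : Option (α ⊕ B) → Prop) [DecidablePred P],
      (Finset.univ.filter P).card = (if P none then 1 else 0) +
        ((Finset.univ.filter fun a : α => P (some (Sum.inl a))).card +
          (Finset.univ.filter fun b : B => P (some (Sum.inr b))).card) := by
    intro P _
    simp only [Finset.card_filter, Fintype.sum_option, Fintype.sum_sum_type]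
  have hblk : ∀ (P : Finset α → Prop) [DecidablePred P],
      (Finset.univ.filter fun b : B => P b.1).card = ((blocks B).filter P).card := by
    intro P _
    refine Finset.card_bij (fun b _ => b.1) (fun b hb => ?_) (fun b _ c _ h => Subtype.ext h)
      (fun c hc => ?_)
    · simpa [mem_blocks] using hb
    · simp [mem_blocks] at hc; exact ⟨⟨c, hc.1⟩, by simp [hc.2], rfl⟩
  have hcard : ∀ v (P : Option (α ⊕ B) → Prop) [DecidablePred P], (∀ w, w ∈ v ↔ P w) →
      ∀ [Fintype ↥(v : Set (Option (α ⊕ B)))], Fintype.card ↥v = (Finset.univ.filter P).card := by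
    intro v P _ h _
    rw [← Set.toFinset_card]
    congr 1
    ext w; simp [h]
  have deg : ∀ v, (Cfsg.pointBlockGraph B).degree v =
      (Finset.univ.filter fun w => (Cfsg.pointBlockGraph B).Adj v w).card := fun v => by
    rw [← SimpleGraph.card_neighborSet_eq_degree]
    exact hcard _ _ fun w => Iff.rfl
  have com : ∀ v w, Fintype.card ↥((Cfsg.pointBlockGraph B).commonNeighbors v w) =
      (Finset.univ.filter fun x => (Cfsg.pointBlockGraph B).Adj v x ∧
        (Cfsg.pointBlockGraph B).Adj w x).card := fun v w => hcard _ _ fun x => Iff.rfl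
  have hoff : ∀ (b : B), ((blocks B).filter fun c => Disjoint (b : Finset α) c).card = 16 :=
    fun b => card_offBlocks hα hB b.2
  refine ⟨?_, fun v => ?_, fun v w h => ?_, fun v w hne h => ?_⟩
  · rw [Fintype.card_option, Fintype.card_sum, hα, ← Nat.card_eq_fintype_card, Nat.card_coe_set_eq,
      ncard_blocks]
    have := steiner_count hB ∅ (Nat.zero_le _)
    simp [hα, Nat.choose] at this
    omega
  · rw [deg, hsum]
    rcases v with _ | a | b
    · simp [h00, h0p, h0b, Finset.card_univ, hα]
    · simp only [hp0, hpp, hpb, Finset.filter_false, if_true, Finset.card_empty, zero_add]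
      rw [hblk fun c => a ∈ c, card_point_blocks22 hα hB a]
    · simp only [hb0, hbp, hbb, if_false, zero_add]
      rw [hblk fun c => Disjoint (b : Finset α) c, hoff]
      simp [hB.1 _ b.2]
  · rw [com, Finset.card_eq_zero, Finset.filter_eq_empty_iff]
    rintro x - ⟨hv, hw⟩
    rcases v with _ | a | b <;> rcases w with _ | a' | c <;>
      rcases x with _ | p | d <;>
      simp only [h00, h0b, hb0, hpp, hpb, hbp, hbb] at h hv hw
    · exact Finset.disjoint_left.1 hw h hv
    · exact Finset.disjoint_left.1 hv h hw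
    · exact Finset.disjoint_left.1 h hv hw
    · have := common_off_of_disjoint hα hB b.2 c.2 h
      rw [Finset.filter_eq_empty_iff] at this
      exact this (mem_offBlocks.2 ⟨d.2, hv⟩) hw
  · rw [com, hsum]
    rcases v with _ | a | b <;> rcases w with _ | a' | c
    · exact absurd rfl hne
    · exact absurd (h0p a') h
    · simp [h00, h0p, h0b, hb0, hbp, hB.1 _ c.2]
    · exact absurd (hp0 a) h
    · have hne' : a ≠ a' := fun e => hne (by rw [e])
      simp only [hp0, hpp, hpb, and_self, Finset.filter_false, if_true, Finset.card_empty, zero_add]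
      rw [hblk fun x => a ∈ x ∧ a' ∈ x, card_pair_blocks22 hα hB hne']
    · have hac : a ∉ (c : Finset α) := fun e => h ((hpb a c).2 e)
      simp only [hb0, hpp, hpb, hbb, and_false, false_and, Finset.filter_false, if_false,
        Finset.card_empty, zero_add]
      rw [hblk fun x => a ∈ x ∧ Disjoint (c : Finset α) x, ← offBlocks_degree hα hB c.2 hac]
      congr 1
      ext x; simp [mem_offBlocks, mem_blocks]; tauto
    · simp [h00, h0p, h0b, hb0, hbp, hB.1 _ b.2]
    · have hab : a' ∉ (b : Finset α) := fun e => h ((hbp b a').2 e)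
      simp only [hb0, hpp, hpb, hbb, and_false, false_and, Finset.filter_false, if_false,
        Finset.card_empty, zero_add]
      rw [hblk fun x => Disjoint (b : Finset α) x ∧ a' ∈ x, ← offBlocks_degree hα hB b.2 hab]
      congr 1
      ext x; simp [mem_offBlocks, mem_blocks]; tauto
    · have hbc : (b.1 ∩ c.1).card = 2 := by
        rcases inter_cases22 hα hB b.2 c.2 (fun e => hne (by rw [Subtype.ext e])) with e | e
        · exact absurd ((hbb b c).2 (Finset.disjoint_iff_inter_eq_empty.2 (Finset.card_eq_zero.1 e))) h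
        · exact e
      simp only [hb0, hbp, hbb, false_and, if_false, zero_add]
      rw [hblk fun x => Disjoint (b : Finset α) x ∧ Disjoint (c : Finset α) x]
      have h4 := common_off_of_meet hα hB b.2 c.2 hbc
      rw [offBlocks, Finset.filter_filter] at h4
      rw [h4]
      have : (Finset.univ.filter fun x : α => x ∈ (b : Finset α) ∧ x ∈ (c : Finset α)) = b.1 ∩ c.1 := by
        ext x; simp
      rw [this, hbc]

end Cfsg.Agent.S0428
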