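import Cfsg.Statements.S0439
import Cfsg.Agent.Lib.Trans3.Basic
import Mathlib.GroupTheory.Perm.Cycle.Type
import Mathlib.Tactic

set_option autoImplicit false
open Cfsg

namespace Cfsg.Agent.S0439

/-- In the symmetric group of degree n ≥ 2, the set of transpositions is a conjugacy class of 3-transpositions which generates the group. -/
theorem result (n : ℕ) (hn : 2 ≤ n) : Cfsg.IsThreeTranspositionClass {σ : Equiv.Perm (Fin n) | σ.IsSwap} := by
  have ho : ∀ σ : Equiv.Perm (Fin n), σ.IsSwap → orderOf σ = 2 := by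
    rintro σ ⟨a, b, hab, rfl⟩
    exact orderOf_eq_prime (by rw [pow_two, Equiv.swap_mul_self]) (by simp [Equiv.swap_eq_one_iff, hab])
  refine ⟨⟨ho, ?_⟩, ⟨Equiv.swap ⟨0, by omega⟩ ⟨1, by omega⟩, ⟨_, _, by simp [Fin.ext_iff], rfl⟩, ?_⟩,
    Equiv.Perm.closure_isSwap⟩
  · rintro σ ⟨a, b, hab, rfl⟩ τ ⟨c, d, hcd, rfl⟩
    have two : ∀ {x y : Equiv.Perm (Fin n)}, x * x = 1 → y * y = 1 → Commute x y → (x * y) ^ 2 = 1 := by
      intro x y hx hy h
      rw [h.mul_pow, pow_two, pow_two, hx, hy, one_mul]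
    have three : ∀ {x y z : Fin n}, x ≠ y → x ≠ z → y ≠ z → (Equiv.swap x y * Equiv.swap x z) ^ 3 = 1 := by
      intro x y z h1 h2 h3
      rw [← (Equiv.Perm.isThreeCycle_swap_mul_swap_same h1 h2 h3).orderOf]
      exact pow_orderOf_eq_one _
    by_cases h : Equiv.Perm.Disjoint (Equiv.swap a b) (Equiv.swap c d)
    · exact Or.inl (two (Equiv.swap_mul_self _ _) (Equiv.swap_mul_self _ _) h.commute)
    by_cases he : Equiv.swap a b = Equiv.swap c d
    · left; rw [he, Equiv.swap_mul_self, one_pow]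
    right
    rw [Equiv.Perm.disjoint_iff_disjoint_support, Equiv.Perm.support_swap hab,
      Equiv.Perm.support_swap hcd, Finset.disjoint_left] at h
    push Not at h
    obtain ⟨x, hx1, hx2⟩ := h
    simp only [Finset.mem_insert, Finset.mem_singleton] at hx1 hx2
    rcases hx1 with rfl | rfl <;> rcases hx2 with rfl | rfl
    · exact three hab hcd (fun e => he (by rw [e]))
    · rw [Equiv.swap_comm c x]
      exact three hab hcd.symm (fun e => he (by rw [e, Equiv.swap_comm]))
    · rw [Equiv.swap_comm a x]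
      exact three hab.symm hcd (fun e => he (by rw [e, Equiv.swap_comm]))
    · rw [Equiv.swap_comm a x, Equiv.swap_comm c x]
      exact three hab.symm hcd.symm (fun e => he (by rw [e]))
  · ext σ
    show σ.IsSwap ↔ IsConj _ σ
    constructor
    · rintro ⟨a, b, hab, rfl⟩
      exact Equiv.Perm.isConj_swap (by simp [Fin.ext_iff]) hab
    · intro h
      obtain ⟨g, rfl⟩ := isConj_iff.1 h
      exact ⟨g ⟨0, by omega⟩, g ⟨1, by omega⟩, by simp [Fin.ext_iff],
        (Equiv.swap_apply_apply g _ _).symm⟩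

end Cfsg.Agent.S0439
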