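import Cfsg.Statements.S0441
import Cfsg.Agent.Lib.Trans3.Structure

set_option autoImplicit false
open Cfsg

namespace Cfsg.Agent.S0441

/-- Fischer's rank-three property. Let a finite group be generated by a conjugacy class D of 3-transpositions, with non-abelian simple commutator subgroup. Then for a in D there are members of D other than a commuting with a and members not commuting with a, and the centraliser of a acts transitively on each of these two sets. -/
theorem result {G : Type*} [Group G] [Finite G] {D : Set G} (hD : Cfsg.IsThreeTranspositionClass D) (hsimple : IsSimpleGroup (commutator G)) (hnonab : ∃ x y : commutator G, x * y ≠ y * x) {a : G} (ha : a ∈ D) : (∃ b ∈ D, b ≠ a ∧ Commute a b) ∧ (∃ c ∈ D, ¬ Commute a c) ∧ (∀ b ∈ D, ∀ b' ∈ D, b ≠ a → b' ≠ a → Commute a b → Commute a b' → ∃ g : G, Commute g a ∧ g * b * g⁻¹ = b') ∧ (∀ c ∈ D, ∀ c' ∈ D, ¬ Commute a c → ¬ Commute a c' → ∃ g : G, Commute g a ∧ g * c * g⁻¹ = c') := by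
  haveI := hsimple
  obtain ⟨hP, hw⟩ := CfsgLib.Trans3.primitive_of_simple_commutator hD hnonab
  have hG := CfsgLib.Trans3.class_isGroup hD
  refine ⟨CfsgLib.Trans3.exists_comm hG hP hw ha, CfsgLib.Trans3.exists_noncomm_of_primitive hG hP ha,
    fun b hb b' hb' hba hba' hab hab' => ?_, fun c hc c' hc' hac hac' => ?_⟩
  · obtain ⟨g, hg, h⟩ := CfsgLib.Trans3.trans_comm hG hP hw ha hb hba hab hb' hba' hab'
    exact ⟨g, CfsgLib.Trans3.commute_of_conj_eq hg, h⟩
  · obtain ⟨g, hg, h⟩ := CfsgLib.Trans3.trans_noncomm hG hP hw ha hc hac hc' hac'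
    exact ⟨g, CfsgLib.Trans3.commute_of_conj_eq hg, h⟩

end Cfsg.Agent.S0441
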