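import Cfsg.Statements.S0442
import Cfsg.Agent.Lib.Trans3.Basic
import Mathlib.Tactic

set_option autoImplicit false
open Cfsg

namespace Cfsg.Agent.S0442

/-- A standard trick for producing elements of an involution centraliser: for an involution a and an element g, let b be the conjugate g⁻¹ * a * g. If a * b has odd order 2m + 1 then g * (a * b) ^ m commutes with a; if a * b has even order 2m then (a * b) ^ m and (a * (g * a * g⁻¹)) ^ m commute with a. -/
theorem result {G : Type*} [Group G] (a g : G) (ha : orderOf a = 2) : (∀ m : ℕ, orderOf (a * (g⁻¹ * a * g)) = 2 * m + 1 → Commute (g * (a * (g⁻¹ * a * g)) ^ m) a) ∧ (∀ m : ℕ, orderOf (a * (g⁻¹ * a * g)) = 2 * m → Commute ((a * (g⁻¹ * a * g)) ^ m) a ∧ Commute ((a * (g * a * g⁻¹)) ^ m) a) := by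
  have ha2 := CfsgLib.Trans3.invol_mul_self ha
  have hai := CfsgLib.Trans3.invol_inv ha
  set b := g⁻¹ * a * g with hb
  have hb2 : b * b = 1 := by
    rw [hb]
    calc g⁻¹ * a * g * (g⁻¹ * a * g) = g⁻¹ * (a * a) * g := by group
      _ = 1 := by rw [ha2]; group
  -- `a` inverts `a * c` whenever `c` is an involution
  have inv : ∀ c : G, c * c = 1 → ∀ n : ℕ, a * (a * c) ^ n * a = ((a * c) ^ n)⁻¹ := by
    intro c hc n
    have : a * (a * c) * a⁻¹ = (a * c)⁻¹ := by
      rw [hai, mul_inv_rev, hai, eq_comm, ← inv_eq_of_mul_eq_one_right hc]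
      simp [← mul_assoc, ha2, inv_eq_of_mul_eq_one_right hc]
    have h := congrArg (· ^ n) this
    simp only [conj_pow, inv_pow] at h
    rwa [hai] at h
  refine ⟨fun m hm => ?_, fun m hm => ⟨?_, ?_⟩⟩
  · set x := a * b with hx
    have hp : x * x ^ m * x ^ m = 1 := by
      have h1 := pow_orderOf_eq_one x
      rw [hm] at h1
      rw [← pow_succ', ← pow_add, show m + 1 + m = 2 * m + 1 by ring]
      exact h1
    have h1 : a * x ^ m * a = (x ^ m)⁻¹ := inv b hb2 m
    have h2 : g⁻¹ * a * g = b := hb.symm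
    show g * x ^ m * a = a * (g * x ^ m)
    have h3 : x ^ m * a = a * (x ^ m)⁻¹ := by
      rw [← h1, ← mul_assoc, ← mul_assoc, ha2, one_mul]
    have h4 : x * x ^ m = (x ^ m)⁻¹ := eq_inv_of_mul_eq_one_left hp
    calc g * x ^ m * a = g * (a * (x * x ^ m)) := by rw [mul_assoc, h3, h4]
      _ = g * (a * a * b * x ^ m) := by rw [hx]; simp only [mul_assoc]
      _ = g * (g⁻¹ * a * g * x ^ m) := by rw [ha2, one_mul, h2]
      _ = a * (g * x ^ m) := by group
  all_goals
    first
    | (have hp : (a * b) ^ (2 * m) = 1 := by rw [← hm]; exact pow_orderOf_eq_one _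
       have h1 := inv b hb2 m
       have h2 : (a * b) ^ m * (a * b) ^ m = 1 := by rw [← pow_add, ← two_mul]; exact hp
       rw [inv_eq_of_mul_eq_one_right h2] at h1
       show (a * b) ^ m * a = a * (a * b) ^ m
       calc (a * b) ^ m * a = a * (a * (a * b) ^ m * a) := by
             simp only [← mul_assoc]; rw [ha2, one_mul]
         _ = a * (a * b) ^ m := by rw [h1]; done)
    | skip
  have hc2 : g * a * g⁻¹ * (g * a * g⁻¹) = 1 := by
    calc g * a * g⁻¹ * (g * a * g⁻¹) = g * (a * a) * g⁻¹ := by group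
      _ = 1 := by rw [ha2]; group
  have ho : orderOf (a * (g * a * g⁻¹)) = orderOf (a * b) := by
    have : a * (g * a * g⁻¹) = g * (a * b)⁻¹ * g⁻¹ := by
      rw [hb]; simp [mul_inv_rev, hai]; group
    rw [this, CfsgLib.Trans3.orderOf_conj, orderOf_inv]
  have h1 := inv _ hc2 m
  have h2 : (a * (g * a * g⁻¹)) ^ m * (a * (g * a * g⁻¹)) ^ m = 1 := by
    rw [← pow_add, ← two_mul, ← hm, ← ho]; exact pow_orderOf_eq_one _
  rw [inv_eq_of_mul_eq_one_right h2] at h1
  show (a * (g * a * g⁻¹)) ^ m * a = a * (a * (g * a * g⁻¹)) ^ m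
  calc (a * (g * a * g⁻¹)) ^ m * a = a * (a * (a * (g * a * g⁻¹)) ^ m * a) := by
        simp only [← mul_assoc]; rw [ha2, one_mul]
    _ = a * (a * (g * a * g⁻¹)) ^ m := by rw [h1]

end Cfsg.Agent.S0442
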