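import Cfsg.Statements.S0444
import Cfsg.Agent.Lib.Trans3.Basic
import Cfsg.Agent.Lib.Trans3.Sym

set_option autoImplicit false
open Cfsg

namespace Cfsg.Agent.S0444

/-- Two members of a set of 3-transpositions which do not commute generate a subgroup isomorphic to the symmetric group on three letters. -/
theorem result {G : Type*} [Group G] {E : Set G} (hE : Cfsg.IsThreeTranspositionSet E) {d e : G} (hd : d ∈ E) (he : e ∈ E) (h : ¬ Commute d e) : Nonempty (Subgroup.closure ({d, e} : Set G) ≃* Equiv.Perm (Fin 3)) := by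
  obtain ⟨φ, hinj, h1, h2⟩ := CfsgLib.Trans3.exists_hom_perm_three
    (CfsgLib.Trans3.sq_one hE hd) (CfsgLib.Trans3.sq_one hE he) (CfsgLib.Trans3.braid hE hd he h)
    (CfsgLib.Trans3.ne_of_not_commute h) (CfsgLib.Trans3.invol_ne_one (hE.1 d hd))
  have hgen : Subgroup.closure ({Equiv.swap 0 1, Equiv.swap 1 2} : Set (Equiv.Perm (Fin 3))) = ⊤ := by
    rw [Subgroup.eq_top_iff']
    intro σ
    have key : ∀ σ : Equiv.Perm (Fin 3), σ = 1 ∨ σ = Equiv.swap 0 1 ∨ σ = Equiv.swap 1 2 ∨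
        σ = Equiv.swap 0 1 * Equiv.swap 1 2 ∨ σ = Equiv.swap 1 2 * Equiv.swap 0 1 ∨
        σ = Equiv.swap 0 1 * Equiv.swap 1 2 * Equiv.swap 0 1 := by decide +kernel
    have hA : (Equiv.swap 0 1 : Equiv.Perm (Fin 3)) ∈ Subgroup.closure ({Equiv.swap 0 1, Equiv.swap 1 2} : Set (Equiv.Perm (Fin 3))) :=
      Subgroup.subset_closure (by simp)
    have hB : (Equiv.swap 1 2 : Equiv.Perm (Fin 3)) ∈ Subgroup.closure ({Equiv.swap 0 1, Equiv.swap 1 2} : Set (Equiv.Perm (Fin 3))) :=
      Subgroup.subset_closure (by simp)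
    rcases key σ with r | r | r | r | r | r <;> subst r
    exacts [one_mem _, hA, hB, mul_mem hA hB, mul_mem hB hA, mul_mem (mul_mem hA hB) hA]
  have hr : φ.range = Subgroup.closure ({d, e} : Set G) := by
    rw [MonoidHom.range_eq_map, ← hgen, MonoidHom.map_closure, Set.image_pair, h1, h2]
  exact ⟨((MonoidHom.ofInjective hinj).trans (MulEquiv.subgroupCongr hr)).symm⟩

end Cfsg.Agent.S0444
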