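import Cfsg.Statements.S0445


set_option autoImplicit false
open Cfsg

namespace Cfsg.Agent.S0445

/-- In the special linear group of dimension 5 over the field with two elements, the centraliser of a transvection has order 21504 = 2 ^ 7 · 168 (it is an extension of an extraspecial group of order 2 ^ 7 by the simple group of order 168). -/
theorem result (s : Matrix.SpecialLinearGroup (Fin 5) (ZMod 2)) (hs : (s : Matrix (Fin 5) (Fin 5) (ZMod 2)) = Matrix.transvection 0 1 1) : Nat.card (Subgroup.centralizer ({s} : Set (Matrix.SpecialLinearGroup (Fin 5) (ZMod 2)))) = 21504 := by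
  classical
  haveI : DecidableEq (Matrix.SpecialLinearGroup (Fin 5) (ZMod 2)) := Classical.decEq _
  -- description of the centraliser
  have hC : ∀ M : Matrix.SpecialLinearGroup (Fin 5) (ZMod 2),
      M ∈ Subgroup.centralizer ({s} : Set _) ↔
      (∀ i : Fin 4, M.1 i.succ 0 = 0) ∧ M.1 0 0 = 1 ∧ M.1 1 1 = 1 ∧
        ∀ j : Fin 5, j ≠ 1 → M.1 1 j = 0 := by
    intro M
    have e0 : M * s = s * M ↔
        ((M * s : Matrix.SpecialLinearGroup (Fin 5) (ZMod 2)) : Matrix (Fin 5) (Fin 5) (ZMod 2)) =
          (s * M : Matrix.SpecialLinearGroup (Fin 5) (ZMod 2)) := ⟨congrArg _, Subtype.ext⟩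
    rw [Subgroup.mem_centralizer_singleton_iff, e0,
      Matrix.SpecialLinearGroup.coe_mul, Matrix.SpecialLinearGroup.coe_mul, hs, Matrix.transvection,
      mul_add, add_mul, mul_one, one_mul, add_right_inj]
    constructor
    · intro h
      have h0 : ∀ i : Fin 4, M.1 i.succ 0 = 0 := fun i => by
        have e := congrFun (congrFun h i.succ) 1
        rwa [Matrix.mul_single_apply_same, Matrix.single_mul_apply_of_ne (h := Fin.succ_ne_zero i),
          mul_one] at e
      have h1 : ∀ j : Fin 5, j ≠ 1 → M.1 1 j = 0 := fun j hj => by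
        have e := congrFun (congrFun h 0) j
        rw [Matrix.mul_single_apply_of_ne (hbj := hj), Matrix.single_mul_apply_same, one_mul] at e
        exact e.symm
      have heq : M.1 0 0 = M.1 1 1 := by
        have e := congrFun (congrFun h 0) 1
        rwa [Matrix.mul_single_apply_same, Matrix.single_mul_apply_same, one_mul, mul_one] at e
      have hne : M.1 0 0 ≠ 0 := by
        intro hz
        have hdet := M.2
        rw [Matrix.det_eq_zero_of_column_eq_zero 0 (fun i => ?_)] at hdet
        · exact zero_ne_one hdet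
        · rcases Fin.eq_zero_or_eq_succ i with rfl | ⟨k, rfl⟩
          exacts [hz, h0 k]
      have h00 : M.1 0 0 = 1 := by
        revert hne; generalize M.1 0 0 = a; revert a; decide
      exact ⟨h0, h00, heq ▸ h00, h1⟩
    · rintro ⟨h0, h00, h11, h1⟩
      ext i j
      rw [Matrix.mul_apply, Matrix.mul_apply]
      simp only [Matrix.single_apply, mul_ite, mul_one, mul_zero, ite_mul, one_mul, zero_mul]
      rcases Fin.eq_zero_or_eq_succ i with rfl | ⟨k, rfl⟩
      · by_cases hj : j = 1
        · subst hj; simp [h00, h11]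
        · simp [h1 j hj, Ne.symm hj]
      · by_cases hj : j = 1
        · subst hj; simp [h0 k, (Fin.succ_ne_zero k).symm]
        · simp [Ne.symm hj, (Fin.succ_ne_zero k).symm]
  have hdet : ∀ M : Matrix (Fin 5) (Fin 5) (ZMod 2), (∀ i : Fin 4, M i.succ 0 = 0) → M 0 0 = 1 →
      M 1 1 = 1 → (∀ j : Fin 5, j ≠ 1 → M 1 j = 0) →
      M.det = (Matrix.of fun i j : Fin 3 => M i.succ.succ j.succ.succ).det := by
    intro M h0 h00 h11 h1
    rw [Matrix.det_succ_column_zero, Fin.sum_univ_succ, Finset.sum_eq_zero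
      (fun i _ => by rw [h0 i]; ring), add_zero, h00, Matrix.det_succ_row_zero, Fin.sum_univ_succ,
      Finset.sum_eq_zero (fun j _ => by
        rw [Matrix.submatrix_apply, Fin.succAbove_zero, show (0 : Fin 4).succ = (1 : Fin 5) from rfl,
          h1 _ (fun h => (Fin.succ_ne_zero j) (Fin.succ_injective _ h))]
        ring), add_zero]
    simp only [Matrix.submatrix_apply, Fin.succAbove_zero, Matrix.submatrix_submatrix]
    rw [show (0 : Fin 4).succ = (1 : Fin 5) from rfl, h11]
    simp
    rfl
  let build : (Fin 4 → ZMod 2) × (Fin 3 → ZMod 2) ×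
      Matrix.SpecialLinearGroup (Fin 3) (ZMod 2) → Matrix (Fin 5) (Fin 5) (ZMod 2) := fun p =>
    Matrix.of fun i j => Fin.cases (Fin.cases 1 p.1 j)
      (fun k => Fin.cases (if j = 1 then 1 else 0)
        (fun r => Fin.cases 0 (fun l => Fin.cases (p.2.1 r) (fun c => p.2.2.1 r c) l) j) k) i
  have hb : ∀ p, (∀ i : Fin 4, build p i.succ 0 = 0) ∧ build p 0 0 = 1 ∧ build p 1 1 = 1 ∧
      ∀ j : Fin 5, j ≠ 1 → build p 1 j = 0 := by
    intro p
    refine ⟨fun i => ?_, rfl, rfl, fun j hj => ?_⟩
    · rcases Fin.eq_zero_or_eq_succ i with rfl | ⟨k, rfl⟩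
      · rfl
      · rfl
    · show (if j = 1 then (1 : ZMod 2) else 0) = 0
      rw [if_neg hj]
  have hbd : ∀ p, (build p).det = 1 := fun p => by
    obtain ⟨a, b, c, d⟩ := hb p
    rw [hdet _ a b c d]
    exact p.2.2.2
  let e : (Fin 4 → ZMod 2) × (Fin 3 → ZMod 2) × Matrix.SpecialLinearGroup (Fin 3) (ZMod 2) ≃
      ↥(Subgroup.centralizer ({s} : Set (Matrix.SpecialLinearGroup (Fin 5) (ZMod 2)))) :=
    Equiv.ofBijective (fun p => ⟨⟨build p, hbd p⟩, (hC _).2 (hb p)⟩) ⟨fun p q h => by
      have h' : build p = build q := congrArg (fun M => M.1.1) h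
      refine Prod.ext (funext fun j => congrFun (congrFun h' 0) j.succ)
        (Prod.ext (funext fun r => congrFun (congrFun h' r.succ.succ) 1) (Subtype.ext ?_))
      ext r c
      exact congrFun (congrFun h' r.succ.succ) c.succ.succ,
      fun M => by
      obtain ⟨h0, h00, h11, h1⟩ := (hC M.1).1 M.2
      refine ⟨(fun j => M.1.1 0 j.succ, fun r => M.1.1 r.succ.succ 1,
        ⟨Matrix.of fun r c => M.1.1 r.succ.succ c.succ.succ, by
          rw [← hdet _ h0 h00 h11 h1]; exact M.1.2⟩), Subtype.ext (Subtype.ext ?_)⟩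
      ext i j
      rcases Fin.eq_zero_or_eq_succ i with rfl | ⟨k, rfl⟩
      · rcases Fin.eq_zero_or_eq_succ j with rfl | ⟨l, rfl⟩
        · exact h00.symm
        · rfl
      rcases Fin.eq_zero_or_eq_succ k with rfl | ⟨r, rfl⟩
      · show (if j = 1 then (1 : ZMod 2) else 0) = M.1.1 1 j
        by_cases hj : j = 1
        · rw [if_pos hj, hj, h11]
        · rw [if_neg hj, h1 j hj]
      rcases Fin.eq_zero_or_eq_succ j with rfl | ⟨l, rfl⟩
      · exact (h0 r.succ).symm
      rcases Fin.eq_zero_or_eq_succ l with rfl | ⟨c, rfl⟩ <;> rfl⟩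
  have hsl : Nat.card (Matrix.SpecialLinearGroup (Fin 3) (ZMod 2)) = 168 := by
    refine (Nat.card_eq_fintype_card (α := {M : Matrix (Fin 3) (Fin 3) (ZMod 2) // M.det = 1})).trans ?_
    rw [Fintype.card_subtype]
    decide +kernel
  rw [← Nat.card_congr e, Nat.card_prod, Nat.card_prod, hsl, Nat.card_fun, Nat.card_fun,
    Nat.card_zmod, Nat.card_eq_fintype_card, Nat.card_eq_fintype_card, Fintype.card_fin,
    Fintype.card_fin]
  norm_num

end Cfsg.Agent.S0445
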