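import Cfsg.Statements.S0447
import Cfsg.Agent.Lib.Solvable.Gaschutz
import Cfsg.Agent.Lib.Clifford.AltCover

set_option autoImplicit false
open Cfsg
open scoped commutatorElement

namespace Cfsg.Agent.S0447

/-- A subgroup generated by two involutions has at most twice the order of their product. -/
theorem card_sup_le {H : Type*} [Group H] [Finite H] (a b : H) (ha : a * a = 1) (hb : b * b = 1) :
    Nat.card (Subgroup.zpowers (a * b) ⊔ Subgroup.zpowers b : Subgroup H) ≤ 2 * orderOf (a * b) := by
  have hbi : b⁻¹ = b := inv_eq_of_mul_eq_one_right hb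
  have hai : a⁻¹ = a := inv_eq_of_mul_eq_one_right ha
  have hle : Subgroup.zpowers b ≤ Subgroup.normalizer ((Subgroup.zpowers (a * b) : Subgroup H) : Set H) := by
    rw [Subgroup.zpowers_le, Subgroup.mem_normalizer_iff]
    intro w
    have key : ∀ i : ℤ, b * (a * b) ^ i * b⁻¹ ∈ Subgroup.zpowers (a * b) := by
      intro i
      rw [← conj_zpow, hbi, show b * (a * b) * b = (a * b)⁻¹ by
        rw [mul_inv_rev, hai, hbi, mul_assoc, mul_assoc a, hb, mul_one]]
      exact Subgroup.zpow_mem _ (inv_mem (Subgroup.mem_zpowers _)) i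
    constructor
    · rintro ⟨i, rfl⟩
      exact key i
    · rintro ⟨i, hi⟩
      have e : (a * b) ^ i = b * w * b⁻¹ := hi
      have := key i
      rw [e, hbi] at this
      simpa [mul_assoc, hb, ← mul_assoc b b] using this
  have hcoe : ((Subgroup.zpowers (a * b) ⊔ Subgroup.zpowers b : Subgroup H) : Set H) ⊆
      (fun p : Subgroup.zpowers (a * b) × Subgroup.zpowers b => (p.1 : H) * (p.2 : H)) '' Set.univ := by
    rw [Subgroup.coe_mul_of_right_le_normalizer_left _ _ hle]
    rintro x ⟨u, hu, v, hv, rfl⟩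
    exact ⟨(⟨u, hu⟩, ⟨v, hv⟩), trivial, rfl⟩
  calc Nat.card (Subgroup.zpowers (a * b) ⊔ Subgroup.zpowers b : Subgroup H)
      ≤ Nat.card ((fun p : Subgroup.zpowers (a * b) × Subgroup.zpowers b => (p.1 : H) * (p.2 : H)) '' Set.univ) :=
        Nat.card_mono (Set.toFinite _) hcoe
    _ ≤ Nat.card (Set.univ : Set (Subgroup.zpowers (a * b) × Subgroup.zpowers b)) :=
        Nat.card_image_le (Set.toFinite _)
    _ = orderOf (a * b) * orderOf b := by
        rw [Nat.card_coe_set_eq, Set.ncard_univ, Nat.card_prod, Nat.card_zpowers, Nat.card_zpowers]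
    _ ≤ 2 * orderOf (a * b) := by
        rw [mul_comm 2]
        exact Nat.mul_le_mul_left _ (orderOf_le_of_pow_eq_one two_pos (by rw [pow_two, hb]))

/-- Lifting criterion: a central extension by a group of order two in which all lifts of
involutions are involutions splits as soon as a Sylow 2-subgroup of the quotient is dihedral. -/
theorem split_of_lifts {H A : Type*} [Group H] [Finite H] [Group A] [Finite A]
    (π : H →* A) (hπ : Function.Surjective π) (hc : π.ker ≤ Subgroup.center H)
    (hk : Nat.card π.ker = 2) (hinv : ∀ g : H, orderOf (π g) = 2 → g * g = 1)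
    (σ τ : A) (hσ : orderOf σ = 2) (hτ : orderOf τ = 2) (m : ℕ) (hm : orderOf (σ * τ) = 2 * m)
    (hm2 : orderOf ((σ * τ) ^ m) = 2) (hmem : τ ∉ Subgroup.zpowers (σ * τ))
    (hA : ∃ e : ℕ, Odd e ∧ Nat.card A = 4 * m * e) :
    ∃ L : Subgroup H, π.ker.IsComplement' L := by
  obtain ⟨e, he, hAe⟩ := hA
  obtain ⟨a, rfl⟩ := hπ σ
  obtain ⟨b, rfl⟩ := hπ τ
  have hmpos : 0 < 2 * m := hm ▸ orderOf_pos _
  have hord : orderOf (a * b) ∣ 2 * m := by
    apply orderOf_dvd_of_pow_eq_one
    rw [mul_comm, pow_mul, pow_two]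
    apply hinv
    rw [map_pow, map_mul]
    exact hm2
  obtain ⟨K, hK⟩ : ∃ K : Subgroup H, K = Subgroup.zpowers (a * b) ⊔ Subgroup.zpowers b := ⟨_, rfl⟩
  have hKle : Nat.card K ≤ 4 * m := by
    have h1 := card_sup_le a b (hinv a hσ) (hinv b hτ)
    rw [← hK] at h1
    have h2 := Nat.le_of_dvd hmpos hord
    omega
  have hKmap : 4 * m ≤ Nat.card (K.map π) := by
    obtain ⟨j, hj⟩ : Nat.card (Subgroup.zpowers (π a * π b)) ∣ Nat.card (K.map π) := by
      apply Subgroup.card_dvd_of_le
      rw [Subgroup.zpowers_le, ← map_mul]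
      exact Subgroup.mem_map_of_mem π (hK ▸ Subgroup.mem_sup_left (Subgroup.mem_zpowers _))
    rw [Nat.card_zpowers, hm] at hj
    have hj2 : 2 ≤ j := by
      by_contra hlt
      have hj1 : j = 1 := by
        have : 0 < Nat.card (K.map π) := Nat.card_pos
        rcases Nat.eq_zero_or_pos j with rfl | h
        · rw [mul_zero] at hj; omega
        · omega
      rw [hj1, mul_one] at hj
      have heq : Subgroup.zpowers (π a * π b) = K.map π := by
        refine Subgroup.eq_of_le_of_card_ge ?_ (by rw [Nat.card_zpowers, hm, hj])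
        rw [Subgroup.zpowers_le, ← map_mul]
        exact Subgroup.mem_map_of_mem π (hK ▸ Subgroup.mem_sup_left (Subgroup.mem_zpowers _))
      apply hmem
      rw [heq]
      exact Subgroup.mem_map_of_mem π (hK ▸ Subgroup.mem_sup_right (Subgroup.mem_zpowers _))
    calc 4 * m = 2 * m * 2 := by ring
      _ ≤ 2 * m * j := Nat.mul_le_mul_left _ hj2
      _ = Nat.card (K.map π) := hj.symm
  have hKeq : Nat.card K = 4 * m := by
    have := Nat.le_of_dvd Nat.card_pos (Subgroup.card_map_dvd (H := K) π)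
    omega
  have hinj : K ⊓ π.ker = ⊥ := by
    rw [Subgroup.eq_bot_iff_forall]
    rintro x ⟨hxK, hxk⟩
    have hcard : Nat.card (K.map π) = Nat.card K := by
      have := Nat.le_of_dvd Nat.card_pos (Subgroup.card_map_dvd (H := K) π)
      omega
    have hbij : Function.Bijective (π.subgroupMap K) :=
      (π.subgroupMap_surjective K).bijective_of_nat_card_le hcard.ge
    have := hbij.1 (a₁ := ⟨x, hxK⟩) (a₂ := 1) (by
      apply Subtype.ext
      rw [map_one]
      exact hxk)
    exact congrArg Subtype.val this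
  haveI : IsMulCommutative π.ker :=
    ⟨⟨fun u v => Subtype.ext ((Subgroup.mem_center_iff.mp (hc v.2) u))⟩⟩
  refine CfsgLib.Solvable.gaschutz_exists (K := π.ker) (U := π.ker ⊔ K) (A := K) le_sup_left ?_
    hinj rfl
  rw [hk, Nat.coprime_two_left]
  have hUcard : Nat.card (π.ker ⊔ K : Subgroup H) = 2 * (4 * m) := by
    have h1 : Subgroup.IsComplement' (π.ker.subgroupOf (π.ker ⊔ K)) (K.subgroupOf (π.ker ⊔ K)) := by
      apply Subgroup.isComplement'_of_disjoint_and_mul_eq_univ
      · rw [disjoint_iff, Subgroup.eq_bot_iff_forall]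
        rintro ⟨u, hu⟩ ⟨hu1, hu2⟩
        exact Subtype.ext (Subgroup.mem_bot.mp (hinj ▸ (⟨hu2, hu1⟩ : u ∈ K ⊓ π.ker)))
      · ext ⟨x, hx⟩
        simp only [Set.mem_univ, iff_true]
        have hx' : x ∈ ((π.ker ⊔ K : Subgroup H) : Set H) := hx
        rw [Subgroup.normal_mul] at hx'
        obtain ⟨u, hu, v, hv, rfl⟩ := hx'
        exact ⟨⟨u, Subgroup.mem_sup_left hu⟩, hu, ⟨v, Subgroup.mem_sup_right hv⟩, hv, rfl⟩
    have h2 := h1.card_mul
    rw [Nat.card_congr (Subgroup.subgroupOfEquivOfLe le_sup_left).toEquiv,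
      Nat.card_congr (Subgroup.subgroupOfEquivOfLe le_sup_right).toEquiv, hk, hKeq] at h2
    exact h2.symm
  have hH : Nat.card H = 2 * (4 * m * e) := by
    rw [Subgroup.card_eq_card_quotient_mul_card_subgroup π.ker, hk,
      Nat.card_congr (QuotientGroup.quotientKerEquivOfSurjective π hπ).toEquiv, hAe]
    ring
  have h3 := Subgroup.card_mul_index (π.ker ⊔ K)
  rw [hUcard, hH] at h3
  have : (π.ker ⊔ K).index = e := by
    refine Nat.eq_of_mul_eq_mul_left (show 0 < 2 * (4 * m) by omega) ?_
    rw [h3]; ring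
  rwa [this]

/-- In degree at most seven the involutions of the alternating group are conjugate. -/
theorem conj_of_involutions {n : ℕ} (hn : n ≤ 7) (ρ ρ' : alternatingGroup (Fin n))
    (h : orderOf ρ = 2) (h' : orderOf ρ' = 2) : IsConj ρ ρ' := by
  have key : ∀ ρ : alternatingGroup (Fin n), orderOf ρ = 2 →
      (ρ : Equiv.Perm (Fin n)).cycleType = {2, 2} := by
    intro ρ h
    have ho : orderOf (ρ : Equiv.Perm (Fin n)) = 2 := by rwa [Subgroup.orderOf_coe]
    obtain ⟨k, hk⟩ := Equiv.Perm.cycleType_prime_order (σ := (ρ : Equiv.Perm (Fin n)))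
      (by rw [ho]; exact Nat.prime_two)
    rw [ho] at hk
    have hs : (ρ : Equiv.Perm (Fin n)).cycleType.sum ≤ 7 := by
      rw [Equiv.Perm.sum_cycleType]
      exact le_trans (Finset.card_le_univ _) (by rw [Fintype.card_fin]; exact hn)
    have hsg := Equiv.Perm.sign_of_cycleType (ρ : Equiv.Perm (Fin n))
    rw [Equiv.Perm.mem_alternatingGroup.mp ρ.2, hk, Multiset.sum_replicate, Multiset.card_replicate,
      smul_eq_mul] at hsg
    rw [hk, Multiset.sum_replicate, smul_eq_mul] at hs
    rw [hk]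
    rcases (show k = 0 ∨ k = 1 ∨ k = 2 by omega) with rfl | rfl | rfl
    · exact absurd hsg (by decide)
    · rfl
    · exact absurd hsg (by decide)
  obtain ⟨c, hc⟩ := isConj_iff.mp (Equiv.Perm.isConj_iff_cycleType_eq.mpr ((key ρ h).trans (key ρ' h').symm))
  rcases Int.units_eq_one_or (Equiv.Perm.sign c) with hs | hs
  · exact isConj_iff.mpr ⟨⟨c, Equiv.Perm.mem_alternatingGroup.mpr hs⟩, Subtype.ext hc⟩
  · -- a transposition commuting with ρ
    have hmv : ∃ i, (ρ : Equiv.Perm (Fin n)) i ≠ i := by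
      by_contra hne
      push Not at hne
      rw [show ρ = 1 from Subtype.ext (Equiv.ext hne), orderOf_one] at h
      omega
    obtain ⟨i, hi⟩ := hmv
    obtain ⟨t, ht⟩ : ∃ t, t = Equiv.swap i ((ρ : Equiv.Perm (Fin n)) i) := ⟨_, rfl⟩
    have hρρ : (ρ : Equiv.Perm (Fin n)) ((ρ : Equiv.Perm (Fin n)) i) = i := by
      have h2 : ρ * ρ = 1 := by rw [← pow_two, ← h, pow_orderOf_eq_one]
      have := congrArg (fun x : alternatingGroup (Fin n) => (x : Equiv.Perm (Fin n)) i) h2
      simpa using this
    have hcomm : (ρ : Equiv.Perm (Fin n)) * t = t * ρ := by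
      rw [ht, Equiv.mul_swap_eq_swap_mul, hρρ, Equiv.swap_comm]
    refine isConj_iff.mpr ⟨⟨c * t, Equiv.Perm.mem_alternatingGroup.mpr ?_⟩, Subtype.ext ?_⟩
    · rw [map_mul, hs, ht, Equiv.Perm.sign_swap (Ne.symm hi)]; decide
    · show c * t * (ρ : Equiv.Perm (Fin n)) * (c * t)⁻¹ = ρ'
      rw [mul_assoc c, ← hcomm, mul_inv_rev, ← hc]
      group

/-- At most one involution in degree at most seven. -/
theorem unique_involution (n : ℕ) (H : Type) [Group H] [Finite H] (hn : n ≤ 7)
    (hH : Cfsg.IsNonsplitDoubleCover H (alternatingGroup (Fin n))) (x : H) (hx : orderOf x = 2) :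
    x ∈ Subgroup.center H := by
  obtain ⟨hcard, ⟨e⟩, hns⟩ := hH
  by_contra hxz
  obtain ⟨π, hπdef⟩ : ∃ π : H →* alternatingGroup (Fin n),
    π = e.toMonoidHom.comp (QuotientGroup.mk' (Subgroup.center H)) := ⟨_, rfl⟩
  have hπ : Function.Surjective π := by
    rw [hπdef]; exact e.surjective.comp (QuotientGroup.mk'_surjective _)
  have hker : π.ker = Subgroup.center H := by
    rw [hπdef]
    ext g
    simp
  have hx2 : x * x = 1 := by rw [← pow_two, ← hx, pow_orderOf_eq_one]
  have hπx : orderOf (π x) = 2 := by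
    refine orderOf_eq_prime (by rw [← map_pow, pow_two, hx2, map_one]) ?_
    intro h1
    exact hxz (hker ▸ (MonoidHom.mem_ker.mpr h1))
  have hinv : ∀ g : H, orderOf (π g) = 2 → g * g = 1 := by
    intro g hg
    obtain ⟨c, hc⟩ := isConj_iff.mp (conj_of_involutions hn (π x) (π g) hπx hg)
    obtain ⟨d, rfl⟩ := hπ c
    have hz : (d * x * d⁻¹)⁻¹ * g ∈ Subgroup.center H := by
      rw [← hker, MonoidHom.mem_ker, map_mul, map_inv, map_mul, map_mul, map_inv, hc, inv_mul_cancel]
    obtain ⟨z, hzm, rfl⟩ : ∃ z ∈ Subgroup.center H, g = d * x * d⁻¹ * z :=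
      ⟨_, hz, (mul_inv_cancel_left _ _).symm⟩
    have hz2 : z * z = 1 := by
      have h2 : (⟨z, hzm⟩ : Subgroup.center H) ^ 2 = 1 := by
        rw [← hcard]; exact pow_card_eq_one'
      have := congrArg Subtype.val h2
      simpa [pow_two] using this
    have hcz : ∀ w, w * z = z * w := fun w => Subgroup.mem_center_iff.mp hzm w
    calc d * x * d⁻¹ * z * (d * x * d⁻¹ * z) = d * x * d⁻¹ * (z * (d * x * d⁻¹)) * z := by group
      _ = d * x * d⁻¹ * (d * x * d⁻¹ * z) * z := by rw [hcz (d * x * d⁻¹)]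
      _ = d * (x * x) * d⁻¹ * (z * z) := by group
      _ = 1 := by rw [hx2, hz2]; group
  have hdvd : 2 ∣ Nat.card (alternatingGroup (Fin n)) := hπx ▸ orderOf_dvd_natCard _
  have hsplit : ∃ L : Subgroup H, π.ker.IsComplement' L := by
    have hk : Nat.card π.ker = 2 := by rw [hker]; exact hcard
    have hc : π.ker ≤ Subgroup.center H := hker.le
    rcases (show n ≤ 3 ∨ n = 4 ∨ n = 5 ∨ n = 6 ∨ n = 7 by omega) with h | rfl | rfl | rfl | rfl
    · exfalso
      rw [Nat.card_eq_fintype_card] at hdvd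
      interval_cases n <;> revert hdvd <;> decide
    · refine split_of_lifts π hπ hc hk hinv
        ⟨Equiv.swap 0 1 * Equiv.swap 2 3, Equiv.Perm.mem_alternatingGroup.mpr (by decide)⟩ ⟨Equiv.swap 0 2 * Equiv.swap 1 3, Equiv.Perm.mem_alternatingGroup.mpr (by decide)⟩
        (orderOf_eq_prime (by decide) (by decide)) (orderOf_eq_prime (by decide) (by decide)) 1
        (show _ = 2 from orderOf_eq_prime (by decide) (by decide))
        (orderOf_eq_prime (by decide) (by decide)) ?_
        ⟨3, by decide, ?_⟩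
      · rw [mem_zpowers_iff_mem_range_orderOf, show orderOf _ = 2 from orderOf_eq_prime (by decide) (by decide)]
        decide
      · rw [Nat.card_eq_fintype_card]; rfl
    · refine split_of_lifts π hπ hc hk hinv
        ⟨Equiv.swap 0 1 * Equiv.swap 2 3, Equiv.Perm.mem_alternatingGroup.mpr (by decide)⟩ ⟨Equiv.swap 0 2 * Equiv.swap 1 3, Equiv.Perm.mem_alternatingGroup.mpr (by decide)⟩
        (orderOf_eq_prime (by decide) (by decide)) (orderOf_eq_prime (by decide) (by decide)) 1
        (show _ = 2 from orderOf_eq_prime (by decide) (by decide))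
        (orderOf_eq_prime (by decide) (by decide)) ?_
        ⟨15, by decide, ?_⟩
      · rw [mem_zpowers_iff_mem_range_orderOf, show orderOf _ = 2 from orderOf_eq_prime (by decide) (by decide)]
        decide
      · rw [nat_card_alternatingGroup, Nat.card_eq_fintype_card, Fintype.card_fin]; rfl
    · refine split_of_lifts π hπ hc hk hinv
        ⟨Equiv.swap 0 1 * Equiv.swap 2 3, Equiv.Perm.mem_alternatingGroup.mpr (by decide)⟩ ⟨Equiv.swap 1 3 * Equiv.swap 4 5, Equiv.Perm.mem_alternatingGroup.mpr (by decide)⟩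
        (orderOf_eq_prime (by decide) (by decide)) (orderOf_eq_prime (by decide) (by decide)) 2
        (orderOf_eq_prime_pow (p := 2) (n := 1) (by decide) (by decide))
        (orderOf_eq_prime (by decide) (by decide)) ?_ ⟨45, by decide, ?_⟩
      · rw [mem_zpowers_iff_mem_range_orderOf,
          show orderOf _ = 2 ^ (1 + 1) from orderOf_eq_prime_pow (p := 2) (n := 1) (by decide) (by decide)]
        decide
      · rw [nat_card_alternatingGroup, Nat.card_eq_fintype_card, Fintype.card_fin]; rfl
    · refine split_of_lifts π hπ hc hk hinv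
        ⟨Equiv.swap 0 1 * Equiv.swap 2 3, Equiv.Perm.mem_alternatingGroup.mpr (by decide)⟩ ⟨Equiv.swap 1 3 * Equiv.swap 4 5, Equiv.Perm.mem_alternatingGroup.mpr (by decide)⟩
        (orderOf_eq_prime (by decide) (by decide)) (orderOf_eq_prime (by decide) (by decide)) 2
        (orderOf_eq_prime_pow (p := 2) (n := 1) (by decide) (by decide))
        (orderOf_eq_prime (by decide) (by decide)) ?_ ⟨315, by decide, ?_⟩
      · rw [mem_zpowers_iff_mem_range_orderOf,
          show orderOf _ = 2 ^ (1 + 1) from orderOf_eq_prime_pow (p := 2) (n := 1) (by decide) (by decide)]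
        decide
      · rw [nat_card_alternatingGroup, Nat.card_eq_fintype_card, Fintype.card_fin]; rfl
  obtain ⟨L, hL⟩ := hsplit
  rw [hker] at hL
  exact hns L hL

open CfsgLib.Clifford.AltCover in
/-- The double cover in degree eight has a second involution. -/
theorem degree_eight : ∃ (H : Type) (_ : Group H) (_ : Finite H),
    Cfsg.IsNonsplitDoubleCover H (alternatingGroup (Fin 8)) ∧
      ∃ x y : H, x ≠ y ∧ orderOf x = 2 ∧ orderOf y = 2 := by
  have hker : (proj 8).ker = Subgroup.zpowers (zed 8) := by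
    refine le_antisymm (fun g hg => ?_) (Subgroup.zpowers_le.mpr rfl)
    rcases eq_one_or_zed 8 hg with rfl | rfl
    · exact one_mem _
    · exact Subgroup.mem_zpowers _
  haveI : Finite (proj 8).ker := by
    rw [hker]
    exact Nat.finite_of_card_ne_zero (by rw [Nat.card_zpowers, orderOf_zed]; norm_num)
  haveI : Finite (cover 8 ⧸ (proj 8).ker) :=
    Finite.of_equiv _ (QuotientGroup.quotientKerEquivOfSurjective _ (proj_surjective 8)).symm.toEquiv
  haveI hfin : Finite (cover 8) := Finite.of_subgroup_quotient (proj 8).ker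
  have hcen : Subgroup.center (cover 8) = (proj 8).ker := by
    refine le_antisymm (fun g hg => ?_) (hker ▸ Subgroup.zpowers_le.mpr (zed_central 8))
    have hb := alternatingGroup.center_eq_bot (α := Fin 8) (by rw [Nat.card_eq_fintype_card, Fintype.card_fin]; norm_num)
    rw [MonoidHom.mem_ker, ← Subgroup.mem_bot, ← hb, Subgroup.mem_center_iff]
    intro σ
    obtain ⟨d, rfl⟩ := proj_surjective 8 σ
    rw [← map_mul, ← map_mul, Subgroup.mem_center_iff.mp hg d]
  have hcard : Nat.card (Subgroup.center (cover 8)) = 2 := by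
    rw [hcen, hker, Nat.card_zpowers, orderOf_zed]
  have hns : ∀ L : Subgroup (cover 8), ¬ (Subgroup.center (cover 8)).IsComplement' L := by
    intro L hL
    have hzL : zed 8 ∈ L := by
      have hcm : commutator (cover 8) ≤ L := by
        rw [commutator_def, Subgroup.commutator_le]
        intro u _ v _
        obtain ⟨⟨⟨z1, hz1⟩, ⟨l1, hl1⟩⟩, rfl⟩ := hL.2 u
        obtain ⟨⟨⟨z2, hz2⟩, ⟨l2, hl2⟩⟩, rfl⟩ := hL.2 v
        have c1 : ∀ w, w * z1 = z1 * w := Subgroup.mem_center_iff.mp hz1
        have c2 : ∀ w, w * z2 = z2 * w := Subgroup.mem_center_iff.mp hz2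
        show ⁅z1 * l1, z2 * l2⁆ ∈ L
        have : ⁅z1 * l1, z2 * l2⁆ = ⁅l1, l2⁆ := by
          rw [commutatorElement_def, commutatorElement_def]
          calc z1 * l1 * (z2 * l2) * (z1 * l1)⁻¹ * (z2 * l2)⁻¹
              = z1 * (l1 * z2) * l2 * l1⁻¹ * z1⁻¹ * l2⁻¹ * z2⁻¹ := by group
            _ = z1 * (z2 * l1) * l2 * l1⁻¹ * z1⁻¹ * l2⁻¹ * z2⁻¹ := by rw [c2]
            _ = z1 * z2 * ((l1 * l2 * l1⁻¹) * z1⁻¹) * l2⁻¹ * z2⁻¹ := by group
            _ = z1 * z2 * (z1⁻¹ * (l1 * l2 * l1⁻¹)) * l2⁻¹ * z2⁻¹ := by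
                rw [Subgroup.mem_center_iff.mp (inv_mem hz1) (l1 * l2 * l1⁻¹)]
            _ = (z1 * (z2 * z1⁻¹)) * ((l1 * l2 * l1⁻¹ * l2⁻¹) * z2⁻¹) := by group
            _ = (z1 * (z1⁻¹ * z2)) * (z2⁻¹ * (l1 * l2 * l1⁻¹ * l2⁻¹)) := by
                rw [Subgroup.mem_center_iff.mp (inv_mem hz1) z2,
                  Subgroup.mem_center_iff.mp (inv_mem hz2) (l1 * l2 * l1⁻¹ * l2⁻¹)]
            _ = _ := by group
        rw [this, commutatorElement_def]
        exact mul_mem (mul_mem (mul_mem hl1 hl2) (inv_mem hl1)) (inv_mem hl2)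
      exact hcm (zed_mem_commutator 8 (by norm_num))
    have h1 : zed 8 = 1 := by
      have := hL.disjoint.le_bot ⟨zed_central 8, hzL⟩
      exact Subgroup.mem_bot.mp this
    have := orderOf_zed 8
    rw [h1, orderOf_one] at this
    omega
  refine ⟨cover 8, inferInstance, hfin, ⟨hcard, ⟨(QuotientGroup.quotientMulEquivOfEq hcen).trans
      (QuotientGroup.quotientKerEquivOfSurjective _ (proj_surjective 8))⟩, hns⟩, ?_⟩
  let P1 := pairLift 8 (i := 0) (j := 1) (k := 2) (l := 3) (by decide) (by decide)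
  let P2 := pairLift 8 (i := 4) (j := 5) (k := 6) (l := 7) (by decide) (by decide)
  refine ⟨P1 * P2, zed 8, ?_, orderOf_eq_prime ?_ ?_, orderOf_zed 8⟩
  · intro h
    have := congrArg (fun g => (proj 8 g : Equiv.Perm (Fin 8)) 0) h
    revert this
    simp [P1, P2, proj, zed, pairLift]
    decide
  · -- the square
    have hanti : ∀ i j k l : Fin 8, i ≠ k → i ≠ l → j ≠ k → j ≠ l →
        CliffordAlgebra.ι (Q 8) (root 8 k l) * CliffordAlgebra.ι (Q 8) (root 8 i j) =
          -(CliffordAlgebra.ι (Q 8) (root 8 i j) * CliffordAlgebra.ι (Q 8) (root 8 k l)) := by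
      intro i j k l h1 h2 h3 h4
      rw [CliffordAlgebra.ι_mul_ι_comm, polar_Q, sum_root_mul]
      simp [root, h1, h2, h3, h4, h1.symm, h2.symm, h3.symm, h4.symm]
    refine Subtype.ext (Prod.ext (Subtype.ext ?_) (Units.ext ?_))
    · simp only [Subgroup.coe_pow, Prod.pow_fst, SubmonoidClass.coe_pow]
      simp [P1, P2, pairLift, pow_two]
      decide
    · simp only [Subgroup.coe_pow, Prod.pow_snd, Units.val_pow_eq_pow_val, Subgroup.coe_one, Prod.snd_one,
        Units.val_one]
      simp only [Subgroup.coe_mul, Prod.snd_mul, Units.val_mul, P1, P2, pairLift, Units.val_mk, pow_two]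
      obtain ⟨A, hA⟩ : ∃ A, A = CliffordAlgebra.ι (Q 8) (root 8 0 1) := ⟨_, rfl⟩
      obtain ⟨B, hB⟩ : ∃ B, B = CliffordAlgebra.ι (Q 8) (root 8 2 3) := ⟨_, rfl⟩
      obtain ⟨C, hC⟩ : ∃ C, C = CliffordAlgebra.ι (Q 8) (root 8 4 5) := ⟨_, rfl⟩
      obtain ⟨D, hD⟩ : ∃ D, D = CliffordAlgebra.ι (Q 8) (root 8 6 7) := ⟨_, rfl⟩
      rw [← hA, ← hB, ← hC, ← hD]
      have hAA : A * A = 1 := hA ▸ ι_root_sq 8 (by decide)
      have hBB : B * B = 1 := hB ▸ ι_root_sq 8 (by decide)
      have hCC : C * C = 1 := hC ▸ ι_root_sq 8 (by decide)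
      have hDD : D * D = 1 := hD ▸ ι_root_sq 8 (by decide)
      have hBA : B * A = -(A * B) := by
        rw [hA, hB]; exact hanti 0 1 2 3 (by decide) (by decide) (by decide) (by decide)
      have hCA : C * A = -(A * C) := by
        rw [hA, hC]; exact hanti 0 1 4 5 (by decide) (by decide) (by decide) (by decide)
      have hCB : C * B = -(B * C) := by
        rw [hB, hC]; exact hanti 2 3 4 5 (by decide) (by decide) (by decide) (by decide)
      have hDA : D * A = -(A * D) := by
        rw [hA, hD]; exact hanti 0 1 6 7 (by decide) (by decide) (by decide) (by decide)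
      have hDB : D * B = -(B * D) := by
        rw [hB, hD]; exact hanti 2 3 6 7 (by decide) (by decide) (by decide) (by decide)
      have hDC : D * C = -(C * D) := by
        rw [hC, hD]; exact hanti 4 5 6 7 (by decide) (by decide) (by decide) (by decide)
      have h1 : C * D * (A * B) = A * B * (C * D) := by
        calc C * D * (A * B) = C * (D * A) * B := by noncomm_ring
          _ = -(C * A * (D * B)) := by rw [hDA]; noncomm_ring
          _ = C * A * (B * D) := by rw [hDB]; noncomm_ring
          _ = -(A * (C * B) * D) := by rw [hCA]; noncomm_ring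
          _ = A * B * (C * D) := by rw [hCB]; noncomm_ring
      have h2 : A * B * (A * B) = -1 := by
        calc A * B * (A * B) = A * (B * A) * B := by noncomm_ring
          _ = -((A * A) * (B * B)) := by rw [hBA]; noncomm_ring
          _ = -1 := by rw [hAA, hBB, one_mul]
      have h3 : C * D * (C * D) = -1 := by
        calc C * D * (C * D) = C * (D * C) * D := by noncomm_ring
          _ = -((C * C) * (D * D)) := by rw [hDC]; noncomm_ring
          _ = -1 := by rw [hCC, hDD, one_mul]
      calc A * B * (C * D) * (A * B * (C * D)) = A * B * (C * D * (A * B)) * (C * D) := by noncomm_ring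
        _ = (A * B * (A * B)) * (C * D * (C * D)) := by rw [h1]; noncomm_ring
        _ = 1 := by rw [h2, h3]; noncomm_ring
  · intro h
    have := congrArg (fun g => (proj 8 g : Equiv.Perm (Fin 8)) 0) h
    revert this
    simp [P1, P2, proj, pairLift]
    decide

/-- Involutions in double covers of alternating groups: for n ≤ 7, a finite non-split double cover of the alternating group of degree n has exactly one element of order 2 (the central one); for degree 8 there is a non-split double cover with two distinct involutions. -/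
theorem result : (∀ (n : ℕ) (H : Type) (_ : Group H) (_ : Finite H), n ≤ 7 → Cfsg.IsNonsplitDoubleCover H (alternatingGroup (Fin n)) → ∀ x y : H, orderOf x = 2 → orderOf y = 2 → x = y) ∧ ∃ (H : Type) (_ : Group H) (_ : Finite H), Cfsg.IsNonsplitDoubleCover H (alternatingGroup (Fin 8)) ∧ ∃ x y : H, x ≠ y ∧ orderOf x = 2 ∧ orderOf y = 2 := by
  refine ⟨fun n H _ _ hn hH x y hx hy => ?_, degree_eight⟩
  have hxc := unique_involution n H hn hH x hx
  have hyc := unique_involution n H hn hH y hy
  obtain ⟨u, hu, huniq⟩ := (Nat.card_eq_two_iff' (1 : Subgroup.center H)).mp hH.1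
  have ex : (⟨x, hxc⟩ : Subgroup.center H) = u := huniq _ (fun h => by
    have : x = 1 := congrArg Subtype.val h
    rw [this, orderOf_one] at hx; omega)
  have ey : (⟨y, hyc⟩ : Subgroup.center H) = u := huniq _ (fun h => by
    have : y = 1 := congrArg Subtype.val h
    rw [this, orderOf_one] at hy; omega)
  exact congrArg Subtype.val (ex.trans ey.symm)

end Cfsg.Agent.S0447
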