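import Cfsg.Statements.S0458
import Cfsg.Agent.Lib.Janko3.LSixteen
-- import your own Cfsg.Agent.* helpers here

set_option autoImplicit false
open Cfsg

namespace Cfsg.Agent.S0458

/-- Janko's third group exists as a transitive permutation group of degree 6156 with point stabiliser of order 8160: a simple group of order 50232960. -/
theorem result : ∃ H : Subgroup (Equiv.Perm (Fin 6156)), Cfsg.IsJ3 H ∧ MulAction.IsPretransitive H (Fin 6156) ∧ Nat.card (MulAction.stabilizer H (0 : Fin 6156)) = 8160 := by
  haveI : Fact (Nat.Prime 2) := ⟨Nat.prime_two⟩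
  let K := GaloisField 2 2
  letI : Fintype K := Fintype.ofFinite K
  have hK : Fintype.card K = 4 := by
    rw [← Nat.card_eq_fintype_card, GaloisField.card 2 2 (by norm_num)]; norm_num
  classical
  obtain ⟨u, hu⟩ : ∃ u : Kˣ, orderOf u = 3 := by
    haveI : Fact (Nat.Prime 3) := ⟨Nat.prime_three⟩
    exact exists_prime_orderOf_dvd_card' 3 (by
      rw [Nat.card_eq_fintype_card, Fintype.card_units, hK])
  have h3 : (u : K) ^ 3 = 1 := by
    rw [← Units.val_pow_eq_pow_val, ← hu, pow_orderOf_eq_one, Units.val_one]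
  have hne : (u : K) ≠ 1 := fun h => by
    rw [Units.val_eq_one.1 h, orderOf_one] at hu
    omega
  have hω : (u : K) ^ 2 + (u : K) + 1 = 0 := by
    refine (mul_eq_zero.1 (show ((u : K) - 1) * ((u : K) ^ 2 + (u : K) + 1) = 0 by
      linear_combination h3)).resolve_left (sub_ne_zero.2 hne)
  exact CfsgLib.Janko3.exists_perm_6156 (CfsgLib.Janko3.field4_of_card hK hω) hK

end Cfsg.Agent.S0458
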