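import Cfsg.Statements.S0462
import Cfsg.Agent.Lib.InvChar.SporHeSimple
import Cfsg.Agent.Lib.InvChar.SporHeSp

set_option autoImplicit false
open Cfsg

namespace Cfsg.Agent.S0462

/-- The Held group exists as a transitive permutation group of degree 2058: simple of order 4030387200, with point stabiliser containing, with index 2, a copy of the 4-dimensional symplectic group over the field with four elements. -/
theorem result : ∃ H : Subgroup (Equiv.Perm (Fin 2058)), Cfsg.IsHe H ∧ MulAction.IsPretransitive H (Fin 2058) ∧ ∃ (F : Type) (_ : Field F) (_ : Fintype F), Fintype.card F = 4 ∧ ∃ N : Subgroup (MulAction.stabilizer H (0 : Fin 2058)), N.index = 2 ∧ Nonempty (N ≃* Matrix.symplecticGroup (Fin 2) F) := by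
  open CfsgLib.InvChar CfsgLib.InvChar.Coset in
  have : Finite Cfsg.Spor.He := SporHe.card_le.1
  open CfsgLib.InvChar CfsgLib.InvChar.Coset in
  exact by
    obtain ⟨hidx, e, he0, he⟩ := SporHe.index_H
    let φ : Cfsg.Spor.He →* Equiv.Perm (Fin 2058) := SporHe.rep
    have hinj : Function.Injective φ := SporHe.card_eq.2
    let f : Cfsg.Spor.He ≃* ↥φ.range := MonoidHom.ofInjective hinj
    have hmove : ∀ g : Cfsg.Spor.He, φ g 0 = 0 ↔ g ∈ SporHe.H := by
      intro g
      refine ⟨fun h => ?_, fun h => SporHe.H_fix g h⟩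
      have h2 := he g ⟨0, HeA.covered.hn⟩
      rw [show SporHe.rep g ⟨0, HeA.covered.hn⟩ = ⟨0, HeA.covered.hn⟩ from h, he0] at h2
      have h3 : (g * 1)⁻¹ * 1 ∈ SporHe.H := QuotientGroup.eq.1 h2
      simpa using h3
    have htrans : MulAction.IsPretransitive ↥φ.range (Fin 2058) := by
      refine ⟨fun i j => ?_⟩
      obtain ⟨a, ha⟩ := MulAction.exists_smul_eq Cfsg.Spor.He (e i) (e j)
      exact ⟨f a, e.injective ((he a i).symm.trans ha)⟩
    have hmap : SporHe.H.map (f : Cfsg.Spor.He →* ↥φ.range) =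
        MulAction.stabilizer ↥φ.range (0 : Fin 2058) := by
      ext x
      obtain ⟨g, rfl⟩ := f.surjective x
      constructor
      · rintro ⟨k, hk, hkg⟩
        cases f.injective hkg
        exact (hmove _).2 hk
      · intro hx
        exact ⟨g, (hmove g).1 hx, rfl⟩
    let ψ : ↥SporHe.H ≃* ↥(MulAction.stabilizer ↥φ.range (0 : Fin 2058)) :=
      (f.subgroupMap SporHe.H).trans (MulEquiv.subgroupCongr hmap)
    obtain ⟨q⟩ := SporHeSp.exists_iso
    refine ⟨φ.range, ⟨?_, ?_⟩, htrans, FQ4, inferInstance, inferInstance, FQ4.card_eq,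
      SporHeSp.even.map (ψ : ↥SporHe.H →* _), ?_, ?_⟩
    · haveI := SporHe.isSimpleGroup
      haveI : Nontrivial ↥φ.range := f.symm.toEquiv.nontrivial
      exact IsSimpleGroup.isSimpleGroup_of_surjective (f : Cfsg.Spor.He →* ↥φ.range) f.surjective
    · rw [← Nat.card_congr f.toEquiv, SporHe.card_eq.1]
    · rw [Subgroup.index_map_equiv, SporHeSp.even_index]
    · exact ⟨(ψ.subgroupMap SporHeSp.even).symm.trans q⟩

end Cfsg.Agent.S0462
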