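import Cfsg.Statements.S0473
import Cfsg.Agent.Lib.Trans3.FiConf.HeldIn24
import Cfsg.Agent.Lib.InvChar.SporFi24Trans

set_option autoImplicit false
open Cfsg

namespace Cfsg.Agent.S0473

/-- The largest Fischer 3-transposition group: a group of order 2 · 1255205709190661721292800 generated by a conjugacy class of 306936 3-transpositions, in which a transposition centraliser has order 2 · 4089470473293004800 and contains a simple subgroup of order 4089470473293004800; its subgroup of index 2 is simple and contains simple subgroups of orders 4089470473293004800 and 4030387200. -/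
theorem result : ∃ (G : Type) (_ : Group G) (_ : Finite G), Nat.card G = 2 * 1255205709190661721292800 ∧ ∃ D : Set G, Cfsg.IsThreeTranspositionClass D ∧ Nat.card D = 306936 ∧ (∀ d ∈ D, Nat.card (Subgroup.centralizer ({d} : Set G)) = 2 * 4089470473293004800 ∧ ∃ K : Subgroup G, K ≤ Subgroup.centralizer ({d} : Set G) ∧ Cfsg.IsFi23 K) ∧ ∃ H : Subgroup G, H.index = 2 ∧ Cfsg.IsFi24' H ∧ (∃ K : Subgroup H, Cfsg.IsFi23 K) ∧ (∃ K : Subgroup H, Cfsg.IsHe K) := by
  classical
  obtain ⟨φ, hφ⟩ := CfsgLib.Trans3.FiConf.Held24.exists_injective_fi24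
  have := CfsgLib.InvChar.SporHe.isSimpleGroup
  have hev : CfsgLib.InvChar.SporFi24.evenH ≤ commutator Cfsg.Spor.Fi24 := inf_le_right
  have hhe : φ.range ≤ commutator Cfsg.Spor.Fi24 := by
    have hperf : commutator Cfsg.Spor.He = ⊤ := by
      refine (Subgroup.Normal.eq_bot_or_eq_top (H := commutator Cfsg.Spor.He) inferInstance).resolve_left ?_
      intro hbot
      rw [commutator_def, Subgroup.commutator_eq_bot_iff_le_centralizer, Subgroup.coe_top,
        Subgroup.centralizer_univ, top_le_iff] at hbot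
      have hc : ∀ a b : Cfsg.Spor.He, a * b = b * a := fun a b =>
        Subgroup.mem_center_iff.1 (hbot ▸ Subgroup.mem_top b) a
      letI : CommGroup Cfsg.Spor.He := { (inferInstance : Group Cfsg.Spor.He) with mul_comm := hc }
      have hp := IsSimpleGroup.prime_card (α := Cfsg.Spor.He)
      rw [CfsgLib.InvChar.SporHe.card_eq.1] at hp
      norm_num at hp
    rw [MonoidHom.range_eq_map, ← hperf, commutator_def, Subgroup.map_commutator, commutator_def]
    exact Subgroup.commutator_mono le_top le_top
  refine ⟨Cfsg.Spor.Fi24, inferInstance, CfsgLib.InvChar.SporFi24.finite, ?_,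
    conjugatesOf CfsgLib.InvChar.SporFi24.trans, CfsgLib.InvChar.SporFi24.isThreeTranspositionClass,
    CfsgLib.InvChar.SporFi24.card_transpositions, CfsgLib.InvChar.SporFi24.centralizer_transposition,
    commutator Cfsg.Spor.Fi24, Cfsg.Agent.S1691.result,
    ⟨CfsgLib.InvChar.SporFi24.commutator_simple, CfsgLib.InvChar.SporFi24.card_commutator⟩, ?_, ?_⟩
  · rw [CfsgLib.InvChar.SporFi24.card_eq]
  · obtain ⟨hsimp, hcard⟩ := CfsgLib.InvChar.SporFi24.evenH_isFi23
    refine ⟨CfsgLib.InvChar.SporFi24.evenH.subgroupOf (commutator Cfsg.Spor.Fi24), ?_, ?_⟩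
    · haveI := hsimp
      exact (Subgroup.subgroupOfEquivOfLe hev).isSimpleGroup
    · rw [Nat.card_congr (Subgroup.subgroupOfEquivOfLe hev).toEquiv, hcard]
  · have e : φ.range ≃* Cfsg.Spor.He := (MonoidHom.ofInjective hφ).symm
    refine ⟨φ.range.subgroupOf (commutator Cfsg.Spor.Fi24), ?_, ?_⟩
    · exact ((Subgroup.subgroupOfEquivOfLe hhe).trans e).isSimpleGroup
    · rw [Nat.card_congr ((Subgroup.subgroupOfEquivOfLe hhe).trans e).toEquiv,
        CfsgLib.InvChar.SporHe.card_eq.1]

end Cfsg.Agent.S0473
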