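import Cfsg.Statements.S0478
import Cfsg.Agent.Lib.Janko3.Unitary

set_option autoImplicit false
open Cfsg

namespace Cfsg.Agent.S0478

/-- A triple cover of Janko's third group inside a unitary group: for a field F with four elements, the special unitary group of dimension 9 (with respect to the form with q = 2) has a subgroup whose centre has order 3 and whose quotient by its centre is simple of order 50232960. -/
theorem result : ∃ (F : Type) (_ : Field F) (_ : Fintype F), Fintype.card F = 4 ∧ ∃ H : Subgroup (Cfsg.SU 9 F 2), Nat.card (Subgroup.center H) = 3 ∧ Cfsg.IsJ3 (H ⧸ Subgroup.center H) := by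
  classical
  haveI : Fintype (GaloisField 2 2) := Fintype.ofFinite _
  let F := GaloisField 2 2
  have hF : Fintype.card F = 4 := by
    rw [← Nat.card_eq_fintype_card, GaloisField.card 2 2 two_ne_zero]
    norm_num
  obtain ⟨ω, hω0, hω1⟩ : ∃ x : F, x ≠ 0 ∧ x ≠ 1 := by
    by_contra hcon
    push_neg at hcon
    have h : (Finset.univ : Finset F) ⊆ {0, 1} := fun x _ => by
      by_cases hx : x = 0
      · simp [hx]
      · simp [hcon x hx]
    have := (Finset.card_le_card h).trans Finset.card_le_two
    rw [Finset.card_univ, hF] at this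
    omega
  have hω : ω ^ 2 + ω + 1 = 0 := by
    have h3 : ω ^ 3 = 1 := by
      have := FiniteField.pow_card_sub_one_eq_one ω hω0
      rwa [hF] at this
    refine (mul_eq_zero.1 (?_ : (ω - 1) * (ω ^ 2 + ω + 1) = 0)).resolve_left (sub_ne_zero.2 hω1)
    linear_combination h3
  have hf := CfsgLib.Janko3.field4_of_card hF hω
  open CfsgLib.Janko3 Cfsg.Spor Matrix in
  let e : F9 ≃ Fin 9 := (Fintype.equivFinOfCardEq (by simp))
  open CfsgLib.Janko3 Cfsg.Spor Matrix in
  have hmem : ∀ g : GG F ω, ((⟨reindexAlgEquiv F F e ((g : GL F9 F) : Matrix F9 F9 F), by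
      rw [coe_reindexAlgEquiv, det_reindex_self]; exact det_GG hf hF g⟩ :
        Matrix.SpecialLinearGroup (Fin 9) F)) ∈ Cfsg.SU 9 F 2 := by
    intro g u v
    have key := GG_le_UU hf g.2 (u ∘ e) (v ∘ e)
    have hmv : ∀ x : Fin 9 → F, (reindexAlgEquiv F F e ((g : GL F9 F) : Matrix F9 F9 F)) *ᵥ x =
        (((g : GL F9 F) : Matrix F9 F9 F) *ᵥ (x ∘ e)) ∘ e.symm := fun x => by
      rw [coe_reindexAlgEquiv, reindex_apply, submatrix_mulVec_equiv, Equiv.symm_symm]
    show Cfsg.hermForm 9 F 2 (reindexAlgEquiv F F e ((g : GL F9 F) : Matrix F9 F9 F) *ᵥ u)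
      (reindexAlgEquiv F F e ((g : GL F9 F) : Matrix F9 F9 F) *ᵥ v) = _
    rw [hmv u, hmv v]
    simp only [Cfsg.hermForm, Function.comp_apply]
    rw [Equiv.sum_comp e.symm (fun z => (((g : GL F9 F) : Matrix F9 F9 F) *ᵥ (u ∘ e)) z *
      (((g : GL F9 F) : Matrix F9 F9 F) *ᵥ (v ∘ e)) z ^ 2), ← Equiv.sum_comp e]
    exact key
  open CfsgLib.Janko3 Cfsg.Spor Matrix in
  let ρ : GG F ω →* Cfsg.SU 9 F 2 :=
    MonoidHom.mk' (fun g => ⟨_, hmem g⟩) fun g h => Subtype.ext (Subtype.ext (by
      show reindexAlgEquiv F F e _ = _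
      exact map_mul (reindexAlgEquiv F F e) _ _))
  have hρ : Function.Injective ρ := fun g h hgh => Subtype.ext (Units.ext
    ((Matrix.reindexAlgEquiv F F e).injective (congrArg (fun t => (t.1.1 : Matrix _ _ F)) hgh)))
  let E := MonoidHom.ofInjective hρ
  refine ⟨F, inferInstance, inferInstance, hF, ρ.range, ?_, ?_⟩
  · rw [← Nat.card_congr (Subgroup.centerCongr E).toEquiv]
    exact CfsgLib.Janko3.card_center hf hF
  · have hEc : (Subgroup.center (CfsgLib.Janko3.GG F ω)).map E.toMonoidHom =
        Subgroup.center ρ.range := by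
      ext x
      rw [Subgroup.mem_map_equiv]
      simp only [Subgroup.mem_center_iff]
      exact ⟨fun h g => E.symm.injective (by simpa [map_mul] using h (E.symm g)),
        fun h g => by simpa [map_mul] using congrArg E.symm (h (E g))⟩
    let E' := QuotientGroup.congr _ _ E hEc
    haveI := CfsgLib.Janko3.simple_quotient hf hF
    haveI : Nontrivial (ρ.range ⧸ Subgroup.center ρ.range) := E'.symm.toEquiv.nontrivial
    refine ⟨IsSimpleGroup.isSimpleGroup_of_surjective E'.toMonoidHom E'.surjective, ?_⟩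
    rw [← Nat.card_congr E'.toEquiv]
    have := Subgroup.card_eq_card_quotient_mul_card_subgroup
      (Subgroup.center (CfsgLib.Janko3.GG F ω))
    rw [CfsgLib.Janko3.card_GG hf, CfsgLib.Janko3.card_center hf hF] at this
    omega

end Cfsg.Agent.S0478
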