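import Cfsg.Statements.S0499
import Cfsg.Agent.Lib.ClassK.SmallTwo
import Cfsg.Agent.Lib.Transfer.Frobenius

set_option autoImplicit false
open Cfsg

namespace Cfsg.Agent.S0499

/-- A non-abelian finite simple group of even order has order divisible by 12, 16 or 56. -/
theorem result {G : Type*} [Group G] [Finite G] [IsSimpleGroup G]
    (hG : ¬ IsMulCommutative G) (h2 : Even (Nat.card G)) :
    12 ∣ Nat.card G ∨ 16 ∣ Nat.card G ∨ 56 ∣ Nat.card G := by
  classical
  haveI : Fact (Nat.Prime 2) := ⟨Nat.prime_two⟩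
  by_cases h16 : 16 ∣ Nat.card G
  · exact Or.inr (Or.inl h16)
  have hnc : ¬ Cfsg.HasNormalPComplement 2 G := by
    intro h
    obtain ⟨N, hN, hc, hq⟩ := CfsgLib.Transfer.hasNormalPComplement_iff_exists.1 h
    rcases IsSimpleGroup.eq_bot_or_eq_top_of_normal N hN with rfl | rfl
    · have hP : IsPGroup 2 G := hq.of_equiv QuotientGroup.quotientBot
      haveI := hP.center_nontrivial
      have : Subgroup.center G = ⊤ :=
        (IsSimpleGroup.eq_bot_or_eq_top_of_normal _ inferInstance).resolve_left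
          (Subgroup.nontrivial_iff_ne_bot _ |>.1 inferInstance)
      exact hG ⟨⟨fun a b => by
        have : b ∈ Subgroup.center G := this ▸ Subgroup.mem_top b
        exact Subgroup.mem_center_iff.1 this a⟩⟩
    · rw [Subgroup.card_top, Nat.coprime_two_right] at hc
      exact (Nat.not_even_iff_odd.2 hc) h2
  rw [CfsgLib.Transfer.hasNormalPComplement_iff_frobenius] at hnc
  push Not at hnc
  obtain ⟨D, hD, g, hg, hgodd, hgD⟩ := hnc
  obtain ⟨p, F, hp, hpg, -, hFD, hmod⟩ := CfsgLib.ClassK.exists_prime_fixed_modEq hg hgD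
  obtain ⟨a, ha⟩ := hD.exists_card_eq
  have ha3 : a ≤ 3 := by
    by_contra hcon
    exact h16 ((pow_dvd_pow 2 (by omega : 4 ≤ a)).trans (ha ▸ D.card_subgroup_dvd_card))
  have hFdvd : Nat.card F ∣ 2 ^ a := ha ▸ Subgroup.card_dvd_of_le hFD.le
  obtain ⟨b, hba, hb⟩ := (Nat.dvd_prime_pow Nat.prime_two).1 hFdvd
  have hlt : b < a := by
    refine lt_of_le_of_ne hba fun h => hFD.ne ?_
    exact Subgroup.eq_of_le_of_card_ge hFD.le (by rw [hb, ha, h])
  have hdiv := (Nat.modEq_iff_dvd' (Subgroup.card_le_of_le hFD.le)).1 hmod.symm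
  rw [ha, hb] at hdiv
  have hp2 : ¬ p ∣ 2 := fun h => by
    have := Nat.Coprime.eq_one_of_dvd (hgodd.symm.coprime_dvd_left h) hpg
    exact hp.ne_one this
  have hpG : p ∣ Nat.card G := hpg.trans (orderOf_dvd_natCard g)
  have h4 : 2 ≤ a → 4 ∣ Nat.card G := fun h =>
    (pow_dvd_pow 2 h).trans (ha ▸ D.card_subgroup_dvd_card)
  have key3 : p ∣ 3 → 2 ≤ a → 12 ∣ Nat.card G := fun h h' => by
    rw [(Nat.prime_dvd_prime_iff_eq hp Nat.prime_three).1 h] at hpG
    exact Nat.Coprime.mul_dvd_of_dvd_of_dvd (by norm_num) (h4 h') hpG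
  have hpow : ∀ c, ¬ p ∣ 2 ^ c := fun c h => hp2 (hp.dvd_of_dvd_pow h)
  interval_cases a <;> interval_cases b <;> norm_num at hdiv
  · exact absurd hdiv hp.ne_one
  · exact Or.inl (key3 hdiv le_rfl)
  · exact absurd hdiv hp2
  · right; right
    rw [(Nat.prime_dvd_prime_iff_eq hp (by norm_num)).1 hdiv] at hpG
    exact Nat.Coprime.mul_dvd_of_dvd_of_dvd (by norm_num)
      (by have := D.card_subgroup_dvd_card; rw [ha] at this; exact this : 8 ∣ Nat.card G) hpG
  · refine Or.inl (key3 ?_ (by norm_num))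
    rcases (Nat.Prime.dvd_mul hp).1 (show p ∣ 2 * 3 from hdiv) with h | h
    · exact absurd h hp2
    · exact h
  · exact absurd (show p ∣ 2 ^ 2 from hdiv) (hpow 2)

end Cfsg.Agent.S0499
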