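import Cfsg.Statements.S0502
import Cfsg.Agent.Lib.ClassK.Connected
import Mathlib.GroupTheory.SpecificGroups.KleinFour
import Mathlib.Tactic.IntervalCases

set_option autoImplicit false
open Cfsg

namespace Cfsg.Agent.S0502

/-- If a finite 2-group has a normal elementary abelian subgroup of order at least 8, then any two of its Klein
four-subgroups are joined by a chain of Klein four-subgroups with consecutive members commuting elementwise. -/
theorem result {P : Type*} [Group P] [Finite P] (hP : IsPGroup 2 P)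
    (E : Subgroup P) [E.Normal] (hE : IsMulCommutative E) (hE2 : ∀ e ∈ E, e ^ 2 = 1) (hE8 : 8 ≤ Nat.card E) :
    Cfsg.IsFourConnected P := by
  haveI : Fact (Nat.Prime 2) := ⟨Nat.prime_two⟩
  intro U V hU hV
  have key : ∀ W : Subgroup P, IsKleinFour W → Cfsg.IsElementaryAbelian 2 W ∧ Nat.card W = 2 ^ 2 := by
    intro W hW
    have h2 : ∀ w : W, w ^ 2 = 1 := fun w => by
      rw [← hW.exponent_two]; exact Monoid.pow_exponent_eq_one w
    refine ⟨⟨⟨⟨fun x y => mul_comm_of_exponent_two hW.exponent_two x y⟩⟩,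
      fun w hw => congrArg Subtype.val (h2 ⟨w, hw⟩)⟩, by rw [hW.card_four]; norm_num⟩
  have conv : ∀ W : Subgroup P, Cfsg.IsElementaryAbelian 2 W → Nat.card W = 2 ^ 2 → IsKleinFour W := by
    intro W hW hc
    haveI : Nontrivial W := Finite.one_lt_card_iff_nontrivial.1 (by rw [hc]; norm_num)
    refine ⟨by rw [hc]; norm_num, ?_⟩
    refine ((Nat.prime_two.eq_one_or_self_of_dvd _ (Monoid.exponent_dvd_of_forall_pow_eq_one
      fun w => Subtype.ext (hW.2 w w.2))).resolve_left fun h => ?_)
    exact (not_subsingleton W) (Monoid.exp_eq_one_iff.1 h)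
  refine CfsgLib.ClassK.connected_of_normal_elementary hP ⟨hE, hE2⟩ (m := 2) ?_
    (key U hU).1 (key U hU).2 (key V hV).1 (key V hV).2 _
    fun C D hC hCc hD hDc h => ⟨conv C hC hCc, conv D hD hDc, h⟩
  intro j hj
  interval_cases j <;> simp <;> omega

end Cfsg.Agent.S0502
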