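import Cfsg.Statements.S0505
import Cfsg.Agent.Lib.ClassK.CharTwo

set_option autoImplicit false
open Cfsg

namespace Cfsg.Agent.S0505

/-- Let G be a finite group of even order in which the centralizer of every involution is solvable and has trivial
core (no nontrivial normal subgroup of odd order). Then G is of characteristic 2 type. -/
theorem result {G : Type*} [Group G] [Finite G]
    (h2 : Even (Nat.card G))
    (hs : ∀ t : G, orderOf t = 2 → Group.IsSolvable (Subgroup.centralizer ({t} : Set G)))
    (hc : ∀ t : G, orderOf t = 2 → Cfsg.oddCore (Subgroup.centralizer ({t} : Set G)) = ⊥) :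
    Cfsg.IsCharacteristicTwoType G := by
  classical
  haveI : Fact (Nat.Prime 2) := ⟨Nat.prime_two⟩
  refine CfsgLib.ClassK.isCharacteristicTwoType_of_centralizers h2 fun t ht => ?_
  refine (CfsgLib.Comp.centralizer_pCore_le_iff 2 _).2 ⟨?_, hc t ht⟩
  haveI := hs t ht
  exact CfsgLib.Comp.eq_bot_of_perfect_of_isSolvable (CfsgLib.Comp.commutator_layer_self _)
    inferInstance

end Cfsg.Agent.S0505
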