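import Cfsg.Statements.S0516
import Cfsg.Agent.Lib.InvChar.RankTwoSylow
import Cfsg.Agent.Lib.InvChar.SimpleInvol
import Cfsg.Agent.S0949
import Cfsg.Agent.S0205

set_option autoImplicit false
open Cfsg

namespace Cfsg.Agent.S0516

/-- In a non-abelian finite simple group of 2-rank at most 2, a Sylow 2-subgroup is dihedral (of order at least 4),
quasi-dihedral, wreathed, or isomorphic to a Sylow 2-subgroup of the projective special unitary group of dimension 3
over the field with 16 elements. -/
theorem result {G : Type*} [Group G] [Finite G] [IsSimpleGroup G]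
    (hG : ¬ IsMulCommutative G) (h2 : Cfsg.PRankLE 2 2 G) (S : Sylow 2 G) {F : Type*} [Field F] [Fintype F]
    (hF : Fintype.card F = 16) (P : Sylow 2 (Cfsg.PSU 3 F 4)) :
    (∃ n : ℕ, 2 ≤ n ∧ Nonempty ((S : Subgroup G) ≃* DihedralGroup n)) ∨ Cfsg.IsQuasiDihedral (S : Subgroup G) ∨
      Cfsg.IsWreathed (S : Subgroup G) ∨ Nonempty ((S : Subgroup G) ≃* (P : Subgroup (Cfsg.PSU 3 F 4))) := by
  haveI : Fact (Nat.Prime 2) := ⟨Nat.prime_two⟩
  have hiso : ∀ z : G, ¬ Cfsg.IsIsolatedInvolution z :=
    fun z => CfsgLib.InvChar.not_isolated_of_simple hG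
  have heven : ¬ Odd (Nat.card G) := by
    intro hodd
    haveI := Cfsg.Agent.S0205.result hodd
    exact hG ⟨⟨IsSimpleGroup.comm_iff_isSolvable.2 inferInstance⟩⟩
  -- the 2-rank is two
  have h1 : ¬ Cfsg.PRankLE 2 1 G := by
    intro h1
    have hdvd : 2 ∣ Nat.card (S : Subgroup G) :=
      S.dvd_card_of_dvd_card (even_iff_two_dvd.1 (Nat.not_odd_iff_even.1 heven))
    haveI : Nontrivial (S : Subgroup G) := by
      rw [← Finite.one_lt_card_iff_nontrivial]
      exact Nat.lt_of_lt_of_le one_lt_two (Nat.le_of_dvd Nat.card_pos hdvd)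
    haveI := S.isPGroup'.center_nontrivial
    obtain ⟨⟨⟨u, huS⟩, huc⟩, hu⟩ : ∃ u : Subgroup.center (S : Subgroup G), orderOf u = 2 := by
      refine exists_prime_orderOf_dvd_card' 2 ?_
      obtain ⟨k, hk0, hk⟩ := (S.isPGroup'.to_subgroup
        (Subgroup.center (S : Subgroup G))).nontrivial_iff_card.1 inferInstance
      rw [hk]
      exact dvd_pow_self 2 (by omega)
    rw [Subgroup.orderOf_mk, Subgroup.orderOf_mk] at hu
    refine hiso u (CfsgLib.Invol.isolated_of_sylow S hu huS fun g hg => ?_)
    by_contra hne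
    have hv : orderOf (g * u * g⁻¹) = 2 := by rw [CfsgLib.Invol.orderOf_conj_eq, hu]
    have hcomm : Commute u (g * u * g⁻¹) :=
      (congrArg Subtype.val (Subgroup.mem_center_iff.1 huc ⟨_, hg⟩)).symm
    have hpow : ∀ {a : G}, orderOf a = 2 → a * a = 1 := fun ha => by
      rw [← pow_two, ← ha]; exact pow_orderOf_eq_one _
    set A := Subgroup.closure ({u, g * u * g⁻¹} : Set G) with hA
    have hAc : IsMulCommutative A := Subgroup.isMulCommutative_closure (by
      rintro x (rfl | rfl) y (rfl | rfl)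
      · rfl
      · exact hcomm
      · exact hcomm.symm
      · rfl)
    have hAexp : ∀ a ∈ A, a ^ 2 = 1 := by
      intro a ha
      induction ha using Subgroup.closure_induction with
      | mem x hx =>
        rw [pow_two]
        rcases hx with rfl | rfl
        · exact hpow hu
        · exact hpow hv
      | one => simp
      | mul x y hx hy ihx ihy =>
        have hc : Commute x y := congrArg Subtype.val (hAc.is_comm.comm ⟨x, hx⟩ ⟨y, hy⟩)
        rw [hc.mul_pow, ihx, ihy, one_mul]
      | inv x _ ih => rw [inv_pow, ih, inv_one]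
    have hle := h1 A hAc hAexp
    have hcard : 2 < Nat.card A := by
      have h3 : ({1, u, g * u * g⁻¹} : Set G) ⊆ (A : Set G) := by
        rintro x (rfl | rfl | rfl)
        · exact A.one_mem
        · exact Subgroup.subset_closure (Or.inl rfl)
        · exact Subgroup.subset_closure (Or.inr rfl)
      have h4 := Set.ncard_le_ncard h3 (Set.toFinite _)
      rw [Set.ncard_eq_three.2 ⟨1, u, g * u * g⁻¹,
        fun h => by rw [← h, orderOf_one] at hu; omega,
        fun h => by rw [← h, orderOf_one] at hv; omega,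
        fun h => hne h.symm, rfl⟩, ← Nat.card_coe_set_eq] at h4
      exact h4
    omega
  rcases CfsgLib.InvChar.sylow_type_of_rank_two h2 h1 hiso S hF P with h | h | h | ⟨n, hn, ⟨e⟩⟩ | h
  · exact Or.inl h
  · exact Or.inr (Or.inl h)
  · exact Or.inr (Or.inr (Or.inl h))
  · exfalso
    have hO : ∀ N : Subgroup G, N.Normal → Odd (Nat.card N) → N = ⊥ := fun N hN hodd =>
      hN.eq_bot_or_eq_top.resolve_right fun h => heven (by rwa [h, Subgroup.card_top] at hodd)
    obtain ⟨hnorm, -, -⟩ := Cfsg.Agent.S0949.result S n hn e hO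
    rcases hnorm.eq_bot_or_eq_top with h | h
    · have hc := Nat.card_congr e.toEquiv
      rw [h, Subgroup.card_bot, Nat.card_congr Multiplicative.toAdd, Nat.card_prod,
        Nat.card_zmod] at hc
      have h22 : 2 ^ 2 ≤ 2 ^ n := Nat.pow_le_pow_right (by norm_num) hn
      nlinarith
    · refine hG ⟨⟨fun a b => ?_⟩⟩
      have ha : a ∈ (S : Subgroup G) := by rw [h]; trivial
      have hb : b ∈ (S : Subgroup G) := by rw [h]; trivial
      have hab : (⟨a, ha⟩ : (S : Subgroup G)) * ⟨b, hb⟩ = ⟨b, hb⟩ * ⟨a, ha⟩ :=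
        e.injective (by rw [map_mul, map_mul, mul_comm])
      exact congrArg Subtype.val hab
  · exact Or.inr (Or.inr (Or.inr h))

end Cfsg.Agent.S0516
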