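import Cfsg.Statements.S0520
import Cfsg.Agent.Lib.Comp.Normalize
import Cfsg.Agent.Lib.Invol.RankOne
import Cfsg.Agent.Lib.Transfer.Frobenius

set_option autoImplicit false
open Cfsg

namespace Cfsg.Agent.S0520

open Subgroup CfsgLib.Comp

variable {G : Type*} [Group G] [Finite G]

theorem klein_sq {V : Subgroup G} (hV : IsKleinFour V) {a : G} (ha : a ∈ V) : a * a = 1 :=
  congrArg Subtype.val (IsKleinFour.mul_self (⟨a, ha⟩ : V))

theorem klein_comm {V : Subgroup G} (hV : IsKleinFour V) {a b : G} (ha : a ∈ V) (hb : b ∈ V) :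
    a * b = b * a :=
  congrArg Subtype.val ((IsKleinFour.isMulCommutative (G := V)).is_comm.comm ⟨a, ha⟩ ⟨b, hb⟩)

theorem klein_map {H : Type*} [Group H] [Finite H] (f : G →* H) (hf : Function.Injective f)
    {V : Subgroup G} (hV : IsKleinFour V) : IsKleinFour (V.map f) := by
  refine CfsgLib.Invol.isKleinFour_of_sq (by rw [card_map_of_injective hf]; exact hV.card_four) ?_
  rintro _ ⟨u, hu, rfl⟩
  rw [← map_mul, klein_sq hV hu, map_one]

theorem klein_subgroupOf {V Q : Subgroup G} (hV : IsKleinFour V) (hVQ : V ≤ Q) :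
    IsKleinFour (V.subgroupOf Q) := by
  refine CfsgLib.Invol.isKleinFour_of_sq
    (by rw [Nat.card_congr (subgroupOfEquivOfLe hVQ).toEquiv]; exact hV.card_four) fun u hu => ?_
  exact Subtype.ext (klein_sq hV (mem_subgroupOf.1 hu))

/-- A subgroup has rank at least `2` iff it contains a four-group. -/
theorem rank_iff {Q : Subgroup G} : ¬ Cfsg.PRankLE 2 1 Q ↔ ∃ V ≤ Q, IsKleinFour V := by
  constructor
  · intro h
    obtain ⟨A, hA, hA2, hlt⟩ : ∃ A : Subgroup Q, IsMulCommutative A ∧ (∀ a ∈ A, a ^ 2 = 1) ∧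
        2 ^ 1 < Nat.card A := by
      simpa [Cfsg.PRankLE] using h
    have hp : IsPGroup 2 A := fun a => ⟨1, Subtype.ext (by simpa using hA2 a a.2)⟩
    obtain ⟨n, hn⟩ := hp.exists_card_eq
    have hn2 : 2 ≤ n := (Nat.pow_lt_pow_iff_right one_lt_two).1 (hn ▸ hlt)
    obtain ⟨D, hD⟩ := Sylow.exists_subgroup_card_pow_prime 2 (G := A) (hn ▸ pow_dvd_pow 2 hn2)
    refine ⟨(D.map A.subtype).map Q.subtype, map_subtype_le _, ?_⟩
    refine CfsgLib.Invol.isKleinFour_of_sq (by
      rw [card_map_of_injective Q.subtype_injective, card_map_of_injective A.subtype_injective, hD]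
      norm_num) ?_
    rintro _ ⟨_, ⟨u, hu, rfl⟩, rfl⟩
    rw [← map_mul, ← pow_two]
    exact (congrArg Q.subtype (hA2 u u.2)).trans (map_one _)
  · rintro ⟨V, hVQ, hV⟩ h
    have hV' := klein_subgroupOf hV hVQ
    have := h (V.subgroupOf Q) IsKleinFour.isMulCommutative
      fun a ha => (pow_two a).trans (klein_sq hV' ha)
    rw [hV'.card_four] at this
    norm_num at this

/-- Adjacency of four-subgroups. -/
def Adj (A B : Subgroup G) : Prop :=
  IsKleinFour A ∧ IsKleinFour B ∧ ∀ a ∈ A, ∀ b ∈ B, a * b = b * a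

theorem adj_symm {A B : Subgroup G} (h : Adj A B) : Adj B A :=
  ⟨h.2.1, h.1, fun b hb a ha => (h.2.2 a ha b hb).symm⟩

theorem adj_map {H : Type*} [Group H] [Finite H] (f : G →* H) (hf : Function.Injective f)
    {A B : Subgroup G} (h : Adj A B) : Adj (A.map f) (B.map f) := by
  refine ⟨klein_map f hf h.1, klein_map f hf h.2.1, ?_⟩
  rintro _ ⟨a, ha, rfl⟩ _ ⟨b, hb, rfl⟩
  rw [← map_mul, ← map_mul, h.2.2 a ha b hb]

theorem conn_map {H : Type*} [Group H] [Finite H] (f : G →* H) (hf : Function.Injective f)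
    {A B : Subgroup G} (h : Relation.ReflTransGen Adj A B) :
    Relation.ReflTransGen Adj (A.map f) (B.map f) :=
  h.lift (fun A => A.map f) fun _ _ => adj_map f hf

theorem conn_symm {A B : Subgroup G} (h : Relation.ReflTransGen Adj A B) :
    Relation.ReflTransGen Adj B A := by
  induction h with
  | refl => exact .refl
  | tail _ h ih => exact Relation.ReflTransGen.head (adj_symm h) ih

/-- The `2`-generated core. -/
def core (S : Sylow 2 G) : Subgroup G :=
  ⨆ Q : {Q : Subgroup G // Q ≤ (S : Subgroup G) ∧ ¬ Cfsg.PRankLE 2 1 Q},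
    normalizer ((Q : Subgroup G) : Set G)

theorem normalizer_le_core (S : Sylow 2 G) {Q : Subgroup G} (hQS : Q ≤ (S : Subgroup G))
    {V : Subgroup G} (hV : IsKleinFour V) (hVQ : V ≤ Q) : normalizer (Q : Set G) ≤ core S :=
  le_iSup (fun Q : {Q : Subgroup G // Q ≤ (S : Subgroup G) ∧ ¬ Cfsg.PRankLE 2 1 Q} =>
    normalizer ((Q : Subgroup G) : Set G)) ⟨Q, hQS, rank_iff.2 ⟨V, hVQ, hV⟩⟩

/-- A `2`-subgroup of the core is conjugate into `S` within it. -/
theorem exists_conj_le {S : Sylow 2 G} (hS : (S : Subgroup G) ≤ core S) {Q : Subgroup G}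
    (hQ : IsPGroup 2 Q) (hQc : Q ≤ core S) :
    ∃ γ ∈ core S, Q.map (MulAut.conj γ).toMonoidHom ≤ (S : Subgroup G) := by
  haveI : Fact (Nat.Prime 2) := ⟨Nat.prime_two⟩
  obtain ⟨T, hT⟩ := (hQ.comap_subtype (K := core S)).exists_le_sylow
  obtain ⟨γ, hγ⟩ := MulAction.exists_smul_eq (core S) T (S.subtype hS)
  refine ⟨γ, γ.2, ?_⟩
  rintro _ ⟨x, hx, rfl⟩
  have h1 : γ * ⟨x, hQc hx⟩ * γ⁻¹ ∈ ((γ • T : Sylow 2 (core S)) : Subgroup (core S)) := by
    rw [Sylow.coe_subgroup_smul]
    exact ⟨_, hT (mem_subgroupOf.2 hx), rfl⟩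
  rw [hγ, Sylow.coe_subtype] at h1
  exact mem_subgroupOf.1 h1

/-- If all of `S`'s conjugates through four-groups fuse, the core is everything. -/
theorem core_eq_top {S : Sylow 2 G} {U₀ : Subgroup G} (hU₀ : IsKleinFour U₀)
    (hU₀S : U₀ ≤ (S : Subgroup G))
    (hall : ∀ W : Subgroup G, IsKleinFour W →
      ∃ γ ∈ core S, W.map (MulAut.conj γ).toMonoidHom ≤ (S : Subgroup G)) : core S = ⊤ := by
  haveI : Fact (Nat.Prime 2) := ⟨Nat.prime_two⟩
  have hSc : (S : Subgroup G) ≤ core S :=
    le_normalizer.trans (normalizer_le_core S le_rfl hU₀ hU₀S)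
  refine eq_top_iff.2 fun g _ => ?_
  set W := U₀.map (MulAut.conj g).toMonoidHom with hW
  set T := (S : Subgroup G).map (MulAut.conj g).toMonoidHom with hT
  obtain ⟨γ₀, hγ₀, hle₀⟩ := hall W (klein_map _ (MulAut.conj g).injective hU₀)
  have hWc : W ≤ core S := fun w hw => by
    have h := hSc (hle₀ (mem_map_of_mem _ hw))
    have := mul_mem (mul_mem (inv_mem hγ₀) h) hγ₀
    simpa [mul_assoc] using this
  have hTp : IsPGroup 2 T := S.2.map _
  set D := T ⊓ core S with hD
  have hWT : W ≤ T := map_mono hU₀S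
  obtain ⟨γ, hγ, hle⟩ := exists_conj_le hSc (hTp.to_le inf_le_left) (inf_le_right : D ≤ core S)
  have hND : normalizer (D : Set G) ≤ core S := by
    have h := normalizer_le_core S hle (klein_map _ (MulAut.conj γ).injective
      (klein_map _ (MulAut.conj g).injective hU₀)) (map_mono (le_inf hWT hWc))
    intro x hx
    have hx' : γ * x * γ⁻¹ ∈ core S :=
      h (Subgroup.le_normalizer_map _ ⟨x, hx, rfl⟩)
    have := mul_mem (mul_mem (inv_mem hγ) hx') hγ
    simpa [mul_assoc] using this
  have hDT : D = T := by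
    by_contra hne
    obtain ⟨x, hxT, hxN, hxD⟩ := CfsgLib.Transfer.exists_mem_normalizer_not_mem hTp
      (lt_of_le_of_ne inf_le_left hne)
    exact hxD (mem_inf.2 ⟨hxT, hND hxN⟩)
  replace hle : T.map (MulAut.conj γ).toMonoidHom ≤ (S : Subgroup G) := (map_mono hDT.ge).trans hle
  have hγg : γ * g ∈ core S := by
    refine normalizer_le_core S le_rfl hU₀ hU₀S (map_conj_eq_iff.1 ?_)
    refine eq_of_le_of_card_ge ?_ (card_map_of_injective (MulAut.conj _).injective).ge
    rwa [map_conj_mul]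
  simpa using mul_mem (inv_mem hγ) hγg



/-- Let G be a finite group of 2-rank at least 2 and S a Sylow 2-subgroup whose commuting graph of Klein four-subgroups is
connected. Then the commuting graph of Klein four-subgroups of G is disconnected if and only if the 2-generated core — the
subgroup generated by the normalizers N_G(Q) of the subgroups Q of S that contain a Klein four-group — is a proper
subgroup of G. -/
theorem result {G : Type*} [Group G] [Finite G] (h2 : ¬ Cfsg.PRankLE 2 1 G)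
    (S : Sylow 2 G) (hS : Cfsg.IsFourConnected (S : Subgroup G)) :
    ¬ Cfsg.IsFourConnected G ↔
      (⨆ Q : {Q : Subgroup G // Q ≤ (S : Subgroup G) ∧ ¬ Cfsg.PRankLE 2 1 Q},
          Subgroup.normalizer ((Q : Subgroup G) : Set G)) ≠ ⊤ := by
  haveI : Fact (Nat.Prime 2) := ⟨Nat.prime_two⟩
  rw [ne_eq, not_iff_not]
  obtain ⟨U₁, hU₁⟩ : ∃ V : Subgroup G, IsKleinFour V := by
    have h : ¬ Cfsg.PRankLE 2 1 (⊤ : Subgroup G) := fun h => h2 fun A hA hA2 => by
      have := h (A.subgroupOf ⊤) inferInstance fun a ha => Subtype.ext (hA2 _ ha)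
      rwa [Nat.card_congr (subgroupOfEquivOfLe le_top).toEquiv] at this
    obtain ⟨V, -, hV⟩ := rank_iff.1 h
    exact ⟨V, hV⟩
  have hklein_p : ∀ V : Subgroup G, IsKleinFour V → IsPGroup 2 V := fun V hV =>
    IsPGroup.of_card (n := 2) (by rw [hV.card_four]; norm_num)
  have hinS : ∀ V : Subgroup G, IsKleinFour V → ∃ g : G,
      V.map (MulAut.conj g).toMonoidHom ≤ (S : Subgroup G) := by
    intro V hV
    obtain ⟨T, hT⟩ := (hklein_p V hV).exists_le_sylow
    obtain ⟨g, hg⟩ := MulAction.exists_smul_eq G T S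
    refine ⟨g, (map_mono hT).trans (le_of_eq ?_)⟩
    rw [← hg]
    rfl
  obtain ⟨g₁, hg₁⟩ := hinS U₁ hU₁
  set U₀ := U₁.map (MulAut.conj g₁).toMonoidHom with hU₀def
  have hU₀ : IsKleinFour U₀ := klein_map _ (MulAut.conj g₁).injective hU₁
  have hSconn : ∀ U V : Subgroup G, IsKleinFour U → IsKleinFour V → U ≤ (S : Subgroup G) →
      V ≤ (S : Subgroup G) → Relation.ReflTransGen Adj U V := by
    intro U V hU hV hUS hVS
    have h := conn_map (S : Subgroup G).subtype (subtype_injective _)
      (hS _ _ (klein_subgroupOf hU hUS) (klein_subgroupOf hV hVS))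
    rwa [map_subgroupOf_eq_of_le hUS, map_subgroupOf_eq_of_le hVS] at h
  change Cfsg.IsFourConnected G ↔ core S = ⊤
  constructor
  · intro hc
    refine core_eq_top hU₀ hg₁ fun W hW => ?_
    have hSc : (S : Subgroup G) ≤ core S :=
      le_normalizer.trans (normalizer_le_core S le_rfl hU₀ hg₁)
    have hpath : Relation.ReflTransGen Adj U₀ W := hc U₀ W hU₀ hW
    clear hW
    induction hpath with
    | refl => exact ⟨1, one_mem _, by rwa [map_conj_one]⟩
    | @tail A B _ hAB ih =>
      obtain ⟨γ, hγ, hle⟩ := ih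
      obtain ⟨hA', hB', hcomm⟩ := adj_map (MulAut.conj γ).toMonoidHom (MulAut.conj γ).injective hAB
      have hcore : B.map (MulAut.conj γ).toMonoidHom ≤ core S := by
        refine le_trans ?_ (normalizer_le_core S hle hA' le_rfl)
        refine le_trans ?_ (CfsgLib.Comp.centralizer_le_normalizer _)
        exact fun b hb => mem_centralizer_iff.2 fun a ha => hcomm a ha b hb
      obtain ⟨δ, hδ, hle'⟩ := exists_conj_le hSc (hklein_p _ hB') hcore
      exact ⟨δ * γ, mul_mem hδ hγ, by rwa [map_conj_mul]⟩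
  · intro htop
    let M : Subgroup G :=
      { carrier := {g | Relation.ReflTransGen Adj U₀ (U₀.map (MulAut.conj g).toMonoidHom)}
        one_mem' := by
          change Relation.ReflTransGen Adj U₀ _
          rw [map_conj_one]
        mul_mem' := fun {a b} ha hb => by
          change Relation.ReflTransGen Adj U₀ _
          rw [map_conj_mul]
          exact Relation.ReflTransGen.trans ha (conn_map _ (MulAut.conj a).injective hb)
        inv_mem' := fun {a} ha => by
          change Relation.ReflTransGen Adj U₀ _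
          have h := conn_map (MulAut.conj a⁻¹).toMonoidHom (MulAut.conj a⁻¹).injective ha
          rw [map_conj_inv] at h
          exact conn_symm h }
    have hM : core S ≤ M := by
      refine iSup_le ?_
      rintro ⟨Q, hQS, hQ2⟩ n hn
      obtain ⟨V, hVQ, hV⟩ := rank_iff.1 hQ2
      have hVn : V.map (MulAut.conj n).toMonoidHom ≤ (S : Subgroup G) :=
        (map_mono hVQ).trans ((map_conj_eq_iff.2 hn).le.trans hQS)
      exact (hSconn U₀ _ hU₀ (klein_map _ (MulAut.conj n).injective hV) hg₁ hVn).trans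
        (conn_map _ (MulAut.conj n).injective (hSconn V U₀ hV hU₀ (hVQ.trans hQS) hg₁))
    have hall : ∀ W : Subgroup G, IsKleinFour W → Relation.ReflTransGen Adj U₀ W := by
      intro W hW
      obtain ⟨g, hg⟩ := hinS W hW
      have h := conn_map (MulAut.conj g⁻¹).toMonoidHom (MulAut.conj g⁻¹).injective
        (hSconn U₀ _ hU₀ (klein_map _ (MulAut.conj g).injective hW) hg₁ hg)
      rw [map_conj_inv] at h
      exact Relation.ReflTransGen.trans
        (show g⁻¹ ∈ M from hM (htop.ge (mem_top _))) h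
    exact fun U V hU hV => (conn_symm (hall U hU)).trans (hall V hV)

end Cfsg.Agent.S0520
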