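import Cfsg.Statements.S0521
import Cfsg.Agent.Lib.PLocal.Section
import Cfsg.Agent.Lib.Invol.BaerSuzuki
import Cfsg.Agent.Lib.Comp.Local
import Cfsg.Agent.Lib.Comp.PConstrained
import Cfsg.Agent.Lib.Solvable.PCore
import Cfsg.Agent.Lib.Transfer.ClassTwo

set_option autoImplicit false
open Cfsg

namespace Cfsg.Agent.S0521

open Subgroup
open scoped commutatorElement

variable {Q : Type*} [Group Q] [Finite Q] {p : ℕ} [Fact p.Prime]

theorem fixed_of_step {h x l : Q} (hl : h * l * h⁻¹ = l) (hlp : l ^ p = 1)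
    (hx : h * x * h⁻¹ = l * x) (hcop : (orderOf h).Coprime p) : h * x * h⁻¹ = x := by
  have hit : ∀ n : ℕ, h ^ n * x * (h ^ n)⁻¹ = l ^ n * x := by
    intro n
    induction n with
    | zero => simp
    | succ n ih =>
      rw [pow_succ', show h * h ^ n * x * (h * h ^ n)⁻¹ = h * (h ^ n * x * (h ^ n)⁻¹) * h⁻¹ by group,
        ih, show h * (l ^ n * x) * h⁻¹ = (h * l * h⁻¹) ^ n * (h * x * h⁻¹) by rw [conj_pow]; group,
        hl, hx, ← mul_assoc, ← pow_succ]
  have h1 := hit (orderOf h)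
  rw [pow_orderOf_eq_one, one_mul, inv_one, mul_one, eq_comm, mul_eq_right] at h1
  have : l = 1 := orderOf_eq_one_iff.1
    (Nat.eq_one_of_dvd_coprimes hcop (orderOf_dvd_of_pow_eq_one h1) (orderOf_dvd_of_pow_eq_one hlp))
  rw [hx, this, one_mul]

/-- A group stabilizing a chain of an elementary abelian self-centralizing `V` is a `p`-group. -/
theorem isPGroup_of_chain {V K W : Subgroup Q} (hexp : ∀ x ∈ V, x ^ p = 1)
    (hself : ∀ h : Q, (∀ x ∈ V, h * x * h⁻¹ = x) → h ∈ V) (hWV : W ≤ V) (hKW : K ≤ W) {T : Set Q}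
    (h1 : ∀ g ∈ T, ∀ k ∈ K, g * k * g⁻¹ = k) (h2 : ∀ g ∈ T, ∀ u ∈ W, g * u * g⁻¹ * u⁻¹ ∈ K)
    (h3 : ∀ g ∈ T, ∀ x ∈ V, g * x * g⁻¹ * x⁻¹ ∈ W) : IsPGroup p (closure T) := by
  have hTM : ∀ h ∈ closure T, (∀ k ∈ K, h * k * h⁻¹ = k) ∧ (∀ u ∈ W, h * u * h⁻¹ * u⁻¹ ∈ K) ∧
      ∀ x ∈ V, h * x * h⁻¹ * x⁻¹ ∈ W := by
   let M : Submonoid Q :=
    { carrier := {g | (∀ k ∈ K, g * k * g⁻¹ = k) ∧ (∀ u ∈ W, g * u * g⁻¹ * u⁻¹ ∈ K) ∧
        ∀ x ∈ V, g * x * g⁻¹ * x⁻¹ ∈ W}
      one_mem' := ⟨by simp, fun u _ => by simp, fun x _ => by simp⟩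
      mul_mem' := fun {a b} ha hb => by
        refine ⟨fun k hk => ?_, fun u hu => ?_, fun x hx => ?_⟩
        · rw [show a * b * k * (a * b)⁻¹ = a * (b * k * b⁻¹) * a⁻¹ by group, hb.1 k hk, ha.1 k hk]
        · rw [show a * b * u * (a * b)⁻¹ * u⁻¹ =
            (a * (b * u * b⁻¹ * u⁻¹) * a⁻¹) * (a * u * a⁻¹ * u⁻¹) by group, ha.1 _ (hb.2.1 u hu)]
          exact mul_mem (hb.2.1 u hu) (ha.2.1 u hu)
        · rw [show a * b * x * (a * b)⁻¹ * x⁻¹ =
            (a * (b * x * b⁻¹ * x⁻¹) * a⁻¹) * (a * x * a⁻¹ * x⁻¹) by group]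
          refine mul_mem ?_ (ha.2.2 x hx)
          have hw := hb.2.2 x hx
          have := mul_mem (hKW (ha.2.1 _ hw)) hw
          simpa [mul_assoc] using this }
   intro h hh
   have : h ∈ Submonoid.closure T := by
     rw [← Subgroup.closure_toSubmonoid_of_finite]; exact hh
   exact (Submonoid.closure_le (S := M)).2 (fun g hg => (⟨h1 g hg, h2 g hg, h3 g hg⟩ :
     (∀ k ∈ K, g * k * g⁻¹ = k) ∧ (∀ u ∈ W, g * u * g⁻¹ * u⁻¹ ∈ K) ∧
       ∀ x ∈ V, g * x * g⁻¹ * x⁻¹ ∈ W)) this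
  intro ⟨h, hh⟩
  obtain ⟨k, m, hm, hkm⟩ := Nat.exists_eq_pow_mul_and_not_dvd (n := orderOf h)
    (orderOf_pos h).ne' p (Fact.out : p.Prime).ne_one
  refine ⟨k + 1, Subtype.ext ?_⟩
  have hcop : (orderOf (h ^ p ^ k)).Coprime p := by
    rw [orderOf_pow, hkm, Nat.gcd_mul_right_left, Nat.mul_div_cancel_left _ (pow_pos (Fact.out : p.Prime).pos k)]
    exact ((Fact.out : p.Prime).coprime_iff_not_dvd.2 hm).symm
  obtain ⟨g1, g2, g3⟩ := hTM _ (pow_mem hh (p ^ k))
  have hW : ∀ u ∈ W, h ^ p ^ k * u * (h ^ p ^ k)⁻¹ = u := fun u hu =>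
    fixed_of_step (g1 _ (g2 u hu)) (hexp _ (hWV (hKW (g2 u hu)))) (by group) hcop
  have hmem := hself (h ^ p ^ k) fun x hx =>
    fixed_of_step (hW _ (g3 x hx)) (hexp _ (hWV (g3 x hx))) (by group) hcop
  have := hexp _ hmem
  simpa [← pow_mul, ← pow_succ] using this

/-- Two conjugate transvections in a group of odd order generate a `p`-group. -/
theorem isPGroup_transvections (hp2 : p ≠ 2) (hodd : Odd (Nat.card Q)) {V : Subgroup Q} [hVn : V.Normal]
    (hVab : ∀ a ∈ V, ∀ b ∈ V, a * b = b * a) (hexp : ∀ x ∈ V, x ^ p = 1)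
    (hself : ∀ h : Q, (∀ x ∈ V, h * x * h⁻¹ = x) → h ∈ V) {s t v w : Q} (hv : v ∈ V) (hw : w ∈ V)
    (hs : ∀ x ∈ V, s * x * s⁻¹ * x⁻¹ ∈ zpowers v) (hsv : s * v * s⁻¹ = v)
    (ht : ∀ x ∈ V, t * x * t⁻¹ * x⁻¹ ∈ zpowers w) (htw : t * w * t⁻¹ = w) :
    IsPGroup p (closure ({s, t} : Set Q)) := by
  have hfixz : ∀ {g a : Q}, g * a * g⁻¹ = a → ∀ b ∈ zpowers a, g * b * g⁻¹ = b := by
    intro g a h b hb
    obtain ⟨i, rfl⟩ := mem_zpowers_iff.1 hb
    rw [← conj_zpow, h]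
  by_cases hvw : w ∈ zpowers v
  · refine isPGroup_of_chain hexp hself (zpowers_le.2 hv) (le_refl (zpowers v)) ?_ ?_ ?_
    · rintro g (rfl | rfl)
      · exact hfixz hsv
      · intro b hb
        by_cases hw1 : w = 1
        · have := ht b (zpowers_le.2 hv hb)
          rw [hw1, zpowers_one_eq_bot, mem_bot, mul_inv_eq_one] at this
          exact this
        · refine hfixz htw b ?_
          have : zpowers w = zpowers v := by
            refine eq_of_le_of_card_ge (zpowers_le.2 hvw) ?_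
            rw [Nat.card_zpowers, Nat.card_zpowers,
              orderOf_eq_prime (hexp w hw) hw1]
            exact Nat.le_of_dvd (Fact.out : p.Prime).pos (orderOf_dvd_of_pow_eq_one (hexp v hv))
          rw [this]; exact hb
    · rintro g (rfl | rfl) u hu
      · exact hs u (zpowers_le.2 hv hu)
      · exact zpowers_le.2 hvw (ht u (zpowers_le.2 hv hu))
    · rintro g (rfl | rfl) x hx
      · exact hs x hx
      · exact zpowers_le.2 hvw (ht x hx)
  by_cases hsw : s * w * s⁻¹ = w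
  · refine isPGroup_of_chain hexp hself (sup_le (zpowers_le.2 hv) (zpowers_le.2 hw))
      (le_sup_right : zpowers w ≤ zpowers v ⊔ zpowers w) ?_ ?_ ?_
    · rintro g (rfl | rfl)
      · exact hfixz hsw
      · exact hfixz htw
    · rintro g (rfl | rfl) u hu
      · have hle : zpowers v ⊔ zpowers w ≤ centralizer {g} := sup_le
          (zpowers_le.2 (mem_centralizer_singleton_iff.2 (mul_inv_eq_iff_eq_mul.1 hsv).symm))
          (zpowers_le.2 (mem_centralizer_singleton_iff.2 (mul_inv_eq_iff_eq_mul.1 hsw).symm))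
        rw [← mem_centralizer_singleton_iff.1 (hle hu), mul_inv_cancel_right, mul_inv_cancel]
        exact one_mem _
      · exact ht u (sup_le (zpowers_le.2 hv) (zpowers_le.2 hw) hu)
    · rintro g (rfl | rfl) x hx
      · exact mem_sup_left (hs x hx)
      · exact mem_sup_right (ht x hx)
  by_cases htv : t * v * t⁻¹ = v
  · refine isPGroup_of_chain hexp hself (sup_le (zpowers_le.2 hv) (zpowers_le.2 hw))
      (le_sup_left : zpowers v ≤ zpowers v ⊔ zpowers w) ?_ ?_ ?_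
    · rintro g (rfl | rfl)
      · exact hfixz hsv
      · exact hfixz htv
    · rintro g (rfl | rfl) u hu
      · exact hs u (sup_le (zpowers_le.2 hv) (zpowers_le.2 hw) hu)
      · have hle : zpowers v ⊔ zpowers w ≤ centralizer {g} := sup_le
          (zpowers_le.2 (mem_centralizer_singleton_iff.2 (mul_inv_eq_iff_eq_mul.1 htv).symm))
          (zpowers_le.2 (mem_centralizer_singleton_iff.2 (mul_inv_eq_iff_eq_mul.1 htw).symm))
        rw [← mem_centralizer_singleton_iff.1 (hle hu), mul_inv_cancel_right, mul_inv_cancel]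
        exact one_mem _
    · rintro g (rfl | rfl) x hx
      · exact mem_sup_left (hs x hx)
      · exact mem_sup_right (ht x hx)
  -- both act nontrivially: an element of even order
  exfalso
  obtain ⟨v₁, hv₁def⟩ : ∃ v₁, s * w * s⁻¹ * w⁻¹ = v₁ := ⟨_, rfl⟩
  have hv₁z : v₁ ∈ zpowers v := hv₁def ▸ hs w hw
  have hv₁V : v₁ ∈ V := zpowers_le.2 hv hv₁z
  have hv₁ne : v₁ ≠ 1 := fun h => hsw (mul_inv_eq_one.1 (hv₁def.trans h))
  have hsv₁ : s * v₁ * s⁻¹ = v₁ := hfixz hsv v₁ hv₁z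
  have hvv₁ : v ∈ zpowers v₁ := by
    have : zpowers v₁ = zpowers v := by
      refine eq_of_le_of_card_ge (zpowers_le.2 hv₁z) ?_
      rw [Nat.card_zpowers, Nat.card_zpowers, orderOf_eq_prime (hexp v₁ hv₁V) hv₁ne]
      exact Nat.le_of_dvd (Fact.out : p.Prime).pos (orderOf_dvd_of_pow_eq_one (hexp v hv))
    rw [this]; exact mem_zpowers v
  obtain ⟨c, hc⟩ := mem_zpowers_iff.1 (ht v₁ hv₁V)
  have hc0 : ¬ (p : ℤ) ∣ c := by
    rintro ⟨d, rfl⟩
    rw [zpow_mul, zpow_natCast, hexp w hw, one_zpow, eq_comm, mul_inv_eq_one] at hc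
    exact htv (hfixz hc v hvv₁)
  obtain ⟨a, b, hab⟩ := ((Nat.prime_iff_prime_int.1 (Fact.out : p.Prime)).coprime_iff_not_dvd.2 hc0)
  obtain ⟨i, hi⟩ : ∃ i : ℕ, (p : ℤ) ∣ c * i + 1 := by
    refine ⟨((-b) % (p : ℤ)).toNat, ?_⟩
    rw [Int.toNat_of_nonneg (Int.emod_nonneg _ (by exact_mod_cast (Fact.out : p.Prime).ne_zero))]
    refine ⟨a - c * ((-b) / (p : ℤ)), ?_⟩
    rw [Int.emod_def]
    linear_combination (-1 : ℤ) * hab
  have htpow : ∀ n : ℕ, t ^ n * v₁ * (t ^ n)⁻¹ = w ^ (c * n) * v₁ := by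
    intro n
    induction n with
    | zero => simp
    | succ n ih =>
      rw [pow_succ', show t * t ^ n * v₁ * (t * t ^ n)⁻¹ = t * (t ^ n * v₁ * (t ^ n)⁻¹) * t⁻¹ by group,
        ih, show t * (w ^ (c * n) * v₁) * t⁻¹ = (t * w ^ (c * (n : ℤ)) * t⁻¹) * (t * v₁ * t⁻¹) by group,
        ← conj_zpow, htw, show t * v₁ * t⁻¹ = w ^ c * v₁ by rw [hc]; group, ← mul_assoc, ← zpow_add]
      push_cast
      ring_nf
  have htw' : t ^ i * w * (t ^ i)⁻¹ = w := by
    have hcm : Commute t w := mul_inv_eq_iff_eq_mul.1 htw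
    rw [(hcm.pow_left i).eq, mul_inv_cancel_right]
  have htv₁ : t ^ i * v₁ * (t ^ i)⁻¹ = w⁻¹ * v₁ := by
    obtain ⟨d, hd⟩ := hi
    rw [htpow, show c * (i : ℤ) = (p : ℤ) * d + -1 by linarith, zpow_add, zpow_mul, zpow_natCast,
      hexp w hw, one_zpow, one_mul, zpow_neg_one]
  have hsw' : s * w * s⁻¹ = v₁ * w := by rw [← hv₁def]; group
  set u := s * t ^ i * s with hu
  have huv : u * v₁ * u⁻¹ = w⁻¹ := by
    calc u * v₁ * u⁻¹ = s * (t ^ i * (s * v₁ * s⁻¹) * (t ^ i)⁻¹) * s⁻¹ := by rw [hu]; group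
      _ = s * (w⁻¹ * v₁) * s⁻¹ := by rw [hsv₁, htv₁]
      _ = (s * w * s⁻¹)⁻¹ * (s * v₁ * s⁻¹) := by group
      _ = w⁻¹ := by rw [hsw', hsv₁]; group
  have huw : u * w * u⁻¹ = v₁ := by
    calc u * w * u⁻¹ = s * (t ^ i * (s * w * s⁻¹) * (t ^ i)⁻¹) * s⁻¹ := by rw [hu]; group
      _ = s * ((t ^ i * v₁ * (t ^ i)⁻¹) * (t ^ i * w * (t ^ i)⁻¹)) * s⁻¹ := by rw [hsw']; group
      _ = s * (w⁻¹ * (v₁ * w)) * s⁻¹ := by rw [htv₁, htw', mul_assoc w⁻¹]
      _ = v₁ := by rw [hVab v₁ hv₁V w hw, inv_mul_cancel_left, hsv₁]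
  have h4 : Commute (u ^ 4) w := by
    refine mul_inv_eq_iff_eq_mul.1 ?_
    have e1 : u ^ 2 * w * (u ^ 2)⁻¹ = w⁻¹ := by
      rw [show u ^ 2 * w * (u ^ 2)⁻¹ = u * (u * w * u⁻¹) * u⁻¹ by rw [pow_two]; group, huw, huv]
    calc u ^ 4 * w * (u ^ 4)⁻¹ = u ^ 2 * (u ^ 2 * w * (u ^ 2)⁻¹) * (u ^ 2)⁻¹ := by group
      _ = u ^ 2 * w⁻¹ * (u ^ 2)⁻¹ := by rw [e1]
      _ = (u ^ 2 * w * (u ^ 2)⁻¹)⁻¹ := by group
      _ = w := by rw [e1, inv_inv]
  have hou : Odd (orderOf u) := hodd.of_dvd_nat (_root_.orderOf_dvd_natCard u)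
  obtain ⟨j, hj⟩ := exists_pow_eq_self_of_coprime (x := u) (n := 4)
    (Nat.Coprime.pow_left 2 (Nat.coprime_two_left.2 hou))
  have hfix : u * w * u⁻¹ = w := by
    have := h4.pow_left j
    rw [hj] at this
    rw [this.eq, mul_inv_cancel_right]
  have hw2 : w ^ 2 = 1 := by
    have e : w⁻¹ = w := by rw [← huv, ← huw, hfix, hfix]
    rw [pow_two]
    nth_rw 1 [← e]
    exact inv_mul_cancel w
  apply hvw
  have : w = 1 := orderOf_eq_one_iff.1 (Nat.eq_one_of_dvd_coprimes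
    ((Nat.coprime_primes Nat.prime_two Fact.out).2 hp2.symm) (orderOf_dvd_of_pow_eq_one hw2)
    (orderOf_dvd_of_pow_eq_one (hexp w hw)))
  rw [this]; exact one_mem _

/-- The core-free case. -/
theorem le_pCore_of_core_eq_bot [Group.IsSolvable Q] (hp2 : p ≠ 2) (hodd : Odd (Nat.card Q))
    (hO : Cfsg.pPrimeCore p Q = ⊥) (S : Subgroup Q) (hSp : IsPGroup p S)
    (hR : Cfsg.pCore p Q ≤ S) (hS : IsCyclic (_root_.commutator S)) : S ≤ Cfsg.pCore p Q := by
  classical
  set R := Cfsg.pCore p Q with hRdef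
  have hRp : IsPGroup p R := CfsgLib.Comp.isPGroup_pCore p Q
  have hc : centralizer (R : Set Q) ≤ R := (CfsgLib.Comp.centralizer_pCore_le_iff p Q).2
    ⟨CfsgLib.Comp.eq_bot_of_perfect_of_isSolvable (CfsgLib.Comp.commutator_layer_self _)
      inferInstance, hO⟩
  haveI : R.Normal := Cfsg.pCore_normal p Q
  set Φ := (frattini R).map R.subtype with hΦ
  haveI : Φ.Normal := inferInstance
  have hKR : Cfsg.sectionKernel R Φ ≤ R := by
    refine CfsgLib.Solvable.le_pCore ?_ (CfsgLib.PLocal.sectionKernel_frattini_isPGroup hRp hc)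
    haveI := (‹R.Normal›).map (QuotientGroup.mk' Φ) (QuotientGroup.mk'_surjective Φ)
    exact Normal.comap inferInstance _
  set f := QuotientGroup.mk' Φ with hf
  have hfs : Function.Surjective f := QuotientGroup.mk'_surjective Φ
  set V := R.map f with hV
  haveI : V.Normal := (‹R.Normal›).map f hfs
  have hexp : ∀ x ∈ V, x ^ p = 1 := by
    rintro _ ⟨r, hr, rfl⟩
    rw [← map_pow, hf, QuotientGroup.mk'_apply, QuotientGroup.eq_one_iff]
    exact ⟨⟨r, hr⟩ ^ p, CfsgLib.Transfer.pow_mem_frattini hRp _, rfl⟩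
  have hVab : ∀ a ∈ V, ∀ b ∈ V, a * b = b * a := by
    rintro _ ⟨a, ha, rfl⟩ _ ⟨b, hb, rfl⟩
    rw [← commutatorElement_eq_one_iff_mul_comm, ← map_commutatorElement, hf,
      QuotientGroup.mk'_apply, QuotientGroup.eq_one_iff]
    refine ⟨⁅(⟨a, ha⟩ : R), ⟨b, hb⟩⁆, CfsgLib.Transfer.commutatorElement_mem_frattini hRp _ _, ?_⟩
    exact map_commutatorElement R.subtype _ _
  have hself : ∀ h, (∀ x ∈ V, h * x * h⁻¹ = x) → h ∈ V := by
    intro h hh
    obtain ⟨g, rfl⟩ := hfs h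
    refine mem_map_of_mem f (hKR (CfsgLib.PLocal.mem_sectionKernel.2 fun k hk => ?_))
    rw [← QuotientGroup.eq_one_iff, ← QuotientGroup.mk'_apply, ← hf, map_mul, map_mul, map_mul,
      map_inv, map_inv, mul_assoc _ _ (f g), ← mul_inv_eq_iff_eq_mul.1 (hh _ (mem_map_of_mem f hk))]
    group
  have hfrat : S.map f ≤ V := by
    rintro s hs
    obtain ⟨L, hLdef⟩ : ∃ L, ((_root_.commutator S).map S.subtype).map f ⊓ V = L := ⟨_, rfl⟩
    have hLs : ∀ x ∈ V, ∀ g ∈ S.map f, g * x * g⁻¹ * x⁻¹ ∈ L := by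
      rintro _ ⟨r, hr, rfl⟩ _ ⟨g, hg, rfl⟩
      rw [← hLdef]
      refine mem_inf.2 ⟨?_, mul_mem (Normal.conj_mem inferInstance _ (mem_map_of_mem f hr) _)
        (inv_mem (mem_map_of_mem f hr))⟩
      rw [← map_inv, ← map_inv, ← map_mul, ← map_mul, ← map_mul]
      refine mem_map_of_mem f ⟨⁅(⟨g, hg⟩ : S), ⟨r, hR hr⟩⁆, ?_, rfl⟩
      rw [_root_.commutator_def]
      exact commutator_mem_commutator (mem_top _) (mem_top _)
    obtain ⟨v, hvL⟩ : ∃ v, zpowers v = L := by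
      haveI : IsCyclic ((_root_.commutator S).map S.subtype : Subgroup Q) :=
        (equivMapOfInjective _ _ S.subtype_injective).isCyclic.1 hS
      haveI : IsCyclic (((_root_.commutator S).map S.subtype).map f : Subgroup (Q ⧸ Φ)) :=
        isCyclic_of_surjective (f.subgroupMap _) (f.subgroupMap_surjective _)
      haveI : IsCyclic L := by
        rw [← hLdef]
        exact Subgroup.isCyclic_of_le inf_le_left
      obtain ⟨⟨v, hv⟩, hgen⟩ := IsCyclic.exists_generator (α := L)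
      refine ⟨v, le_antisymm (zpowers_le.2 hv) fun x hx => ?_⟩
      obtain ⟨i, hi⟩ := mem_zpowers_iff.1 (hgen ⟨x, hx⟩)
      exact mem_zpowers_iff.2 ⟨i, congrArg Subtype.val hi⟩
    subst hvL
    have hvV : v ∈ V := (mem_inf.1 (hLdef.ge (mem_zpowers v))).2
    have hsv : s * v * s⁻¹ = v := by
      obtain ⟨c, hc⟩ := mem_zpowers_iff.1
        (by simpa using mul_mem (hLs v hvV s hs) (mem_zpowers v) : s * v * s⁻¹ ∈ zpowers v)
      by_cases hv1 : v = 1
      · rw [hv1]; simp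
      obtain ⟨k, hk⟩ := hSp.map f ⟨s, hs⟩
      have hk' : s ^ p ^ k = 1 := congrArg Subtype.val hk
      have hiter : ∀ n : ℕ, s ^ n * v * (s ^ n)⁻¹ = v ^ (c ^ n) := by
        intro n
        induction n with
        | zero => simp
        | succ n ih =>
          rw [pow_succ' s, show s * s ^ n * v * (s * s ^ n)⁻¹ = s * (s ^ n * v * (s ^ n)⁻¹) * s⁻¹ by group,
            ih, ← conj_zpow, ← hc, ← zpow_mul, pow_succ']
      have h1 := hiter (p ^ k)
      rw [hk', one_mul, inv_one, mul_one, eq_comm] at h1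
      have h2 : ((c ^ p ^ k : ℤ) : ZMod p) = ((1 : ℤ) : ZMod p) := by
        have h := zpow_eq_zpow_iff_modEq.1 (h1.trans (zpow_one v).symm)
        rw [orderOf_eq_prime (hexp v hvV) hv1] at h
        exact (ZMod.intCast_eq_intCast_iff _ _ _).2 h
      push_cast at h2
      rw [ZMod.pow_card_pow, ← Int.cast_one, ZMod.intCast_eq_intCast_iff,
        ← orderOf_eq_prime (hexp v hvV) hv1, ← zpow_eq_zpow_iff_modEq, zpow_one] at h2
      rw [← hc, h2]
    have hmem : s ∈ Cfsg.pCore p (Q ⧸ Φ) := CfsgLib.Invol.baer_suzuki_mem_pCore fun g => by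
      refine isPGroup_transvections hp2 (hodd.of_dvd_nat (card_quotient_dvd_card Φ)) hVab hexp hself
        hvV (w := g * v * g⁻¹) (Normal.conj_mem inferInstance v hvV g) (fun x hx => hLs x hx s hs)
        hsv (fun x hx => ?_) ?_
      · obtain ⟨i, hi⟩ := mem_zpowers_iff.1
          (hLs (g⁻¹ * x * g) (by simpa using (Normal.conj_mem ‹V.Normal› x hx g⁻¹)) s hs)
        refine mem_zpowers_iff.2 ⟨i, ?_⟩
        rw [conj_zpow, hi]; group
      · calc g * s * g⁻¹ * (g * v * g⁻¹) * (g * s * g⁻¹)⁻¹ = g * (s * v * s⁻¹) * g⁻¹ := by group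
          _ = g * v * g⁻¹ := by rw [hsv]
    have hcomap : IsPGroup p ((Cfsg.pCore p (Q ⧸ Φ)).comap f) := by
      refine (CfsgLib.Comp.isPGroup_pCore p (Q ⧸ Φ)).comap_of_ker_isPGroup f ?_
      rw [hf, QuotientGroup.ker_mk']
      exact hRp.to_le (map_subtype_le _)
    haveI := Cfsg.pCore_normal p (Q ⧸ Φ)
    have hle : (Cfsg.pCore p (Q ⧸ Φ)).comap f ≤ R :=
      CfsgLib.Solvable.le_pCore inferInstance hcomap
    obtain ⟨g, rfl⟩ := hfs s
    exact mem_map_of_mem f (hle hmem)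
  intro x hx
  obtain ⟨r, hr, hrx⟩ := hfrat (mem_map_of_mem f hx)
  have := (QuotientGroup.eq.1 (show (r : Q ⧸ Φ) = x from hrx))
  have h := mul_mem hr (map_subtype_le _ this)
  rwa [mul_inv_cancel_left] at h



/-- Let X be a finite solvable group of odd order, p a prime and S a Sylow p-subgroup of X whose commutator subgroup is
cyclic. Then the product of the largest normal subgroup of X of order prime to p with S is a normal subgroup of X. -/
theorem result {X : Type*} [Group X] [Finite X] [Group.IsSolvable X]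
    (hX : Odd (Nat.card X)) (p : ℕ) [Fact p.Prime] (S : Sylow p X) (hS : IsCyclic (commutator (S : Subgroup X))) :
    (Cfsg.pPrimeCore p X ⊔ (S : Subgroup X)).Normal := by
  classical
  have hp : p.Prime := Fact.out
  set O := Cfsg.pPrimeCore p X with hO
  haveI : O.Normal := Cfsg.pPrimeCore_normal p X
  by_cases hp2 : p = 2
  · subst hp2
    have hbot : (S : Subgroup X) = ⊥ := by
      rw [← card_eq_one]
      obtain ⟨n, hn⟩ := S.2.exists_card_eq
      rcases n with _ | n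
      · exact hn.trans (pow_zero 2)
      · exfalso
        exact (Nat.not_even_iff_odd.2 hX) (even_iff_two_dvd.2
          ((hn ▸ dvd_pow_self 2 n.succ_ne_zero : 2 ∣ Nat.card S).trans (card_subgroup_dvd_card _)))
    rw [hbot, sup_bot_eq]; infer_instance
  set f := QuotientGroup.mk' O with hf
  have hfs : Function.Surjective f := QuotientGroup.mk'_surjective O
  haveI : Group.IsSolvable (X ⧸ O) := Group.isSolvable_of_surjective hfs
  set S' := S.mapSurjective hfs with hS'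
  have hcyc : IsCyclic (_root_.commutator ((S' : Subgroup (X ⧸ O)))) := by
    haveI := hS
    let g : (S : Subgroup X) →* (S' : Subgroup (X ⧸ O)) := (f.comp (S : Subgroup X).subtype).codRestrict _
      fun x => by rw [hS', Sylow.coe_mapSurjective]; exact mem_map_of_mem f x.2
    have hg : Function.Surjective g := by
      rintro ⟨y, hy⟩
      rw [hS', Sylow.coe_mapSurjective] at hy
      obtain ⟨x, hx, rfl⟩ := hy
      exact ⟨⟨x, hx⟩, rfl⟩
    have : (_root_.commutator (S : Subgroup X)).map g = _root_.commutator (S' : Subgroup (X ⧸ O)) := by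
      rw [_root_.commutator_def, _root_.commutator_def, map_commutator, map_top_of_surjective g hg]
    rw [← this]
    exact isCyclic_of_surjective (g.subgroupMap _) (g.subgroupMap_surjective _)
  have hle := le_pCore_of_core_eq_bot (p := p) hp2 (hX.of_dvd_nat (card_quotient_dvd_card O))
    (CfsgLib.Comp.pPrimeCore_quotient_eq_bot p X) (S' : Subgroup (X ⧸ O)) S'.2
    (CfsgLib.Solvable.pCore_le_sylow S') hcyc
  haveI := Cfsg.pCore_normal p (X ⧸ O)
  have heq : O ⊔ (S : Subgroup X) = (Cfsg.pCore p (X ⧸ O)).comap f := by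
    have h2 : (Cfsg.pCore p (X ⧸ O)) = (S : Subgroup X).map f := by
      rw [← Sylow.coe_mapSurjective hfs S, ← hS']
      exact le_antisymm (CfsgLib.Solvable.pCore_le_sylow S') hle
    rw [h2, comap_map_eq, hf, QuotientGroup.ker_mk', sup_comm]
  rw [heq]
  infer_instance

end Cfsg.Agent.S0521
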