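import Cfsg.Statements.S0522
import Cfsg.Agent.Lib.ClassK.BaerTrick
import Cfsg.Agent.Lib.ClassK.SympSetting
import Cfsg.Agent.Lib.Coprime.Sylow
import Cfsg.Agent.Lib.Coprime.Generation
import Cfsg.Agent.Lib.Transfer.Frobenius

set_option autoImplicit false
open Cfsg

namespace Cfsg.Agent.S0522

open Subgroup CfsgLib.Coprime
open scoped commutatorElement

variable {X : Type*} [Group X] [Finite X] {p q : ℕ} [Fact p.Prime] [Fact q.Prime]

/-- A `p`-element centralizing `B` lies in `B`. -/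
theorem mem_of_centralizes (P : Sylow p X) {B : Subgroup X} (hBP : B ≤ (P : Subgroup X))
    (hBn : ∀ x ∈ (P : Subgroup X), ∀ b ∈ B, x * b * x⁻¹ ∈ B)
    (hBc : (P : Subgroup X) ⊓ centralizer (B : Set X) = B)
    {x : X} (hx : IsPGroup p (zpowers x)) (hxB : x ∈ centralizer (B : Set X)) : x ∈ B := by
  set N := normalizer (B : Set X) with hN
  have hPN : (P : Subgroup X) ≤ N := fun y hy => mem_normalizer_iff.2 fun b =>
    ⟨hBn y hy b, fun h => by
      have := hBn y⁻¹ (inv_mem hy) _ h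
      convert this using 1
      group⟩
  have hxN : zpowers x ≤ N := zpowers_le.2 (CfsgLib.Comp.centralizer_le_normalizer _ hxB)
  set H := B ⊔ zpowers x with hH
  have hHN : H ≤ N := sup_le le_normalizer hxN
  have hHp : IsPGroup p H := (P.2.to_le hBP).to_sup_of_normal_left' hx hxN
  obtain ⟨T, hT⟩ := (hHp.comap_subtype (K := N)).exists_le_sylow
  obtain ⟨n, hn⟩ := MulAction.exists_smul_eq N T (P.subtype hPN)
  have hnx : ((n : X) * x * (n : X)⁻¹) ∈ (P : Subgroup X) := by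
    have h1 : n * ⟨x, hxN (mem_zpowers x)⟩ * n⁻¹ ∈ ((n • T : Sylow p N) : Subgroup N) := by
      rw [Sylow.coe_subgroup_smul]
      exact ⟨_, hT (mem_subgroupOf.2 (mem_sup_right (mem_zpowers x))), rfl⟩
    rw [hn, Sylow.coe_subtype] at h1
    exact mem_subgroupOf.1 h1
  have hnc : ((n : X) * x * (n : X)⁻¹) ∈ centralizer (B : Set X) :=
    (mem_normalizer_iff.1 (CfsgLib.Comp.normalizer_le_normalizer_centralizer B n.2) x).1 hxB
  have : (n : X) * x * (n : X)⁻¹ ∈ B := hBc.le (mem_inf.2 ⟨hnx, hnc⟩)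
  exact (mem_normalizer_iff.1 n.2 x).2 this

/-- A `B`-invariant `p'`-subgroup of the centralizer of `a` lies in its `p'`-core. -/
theorem le_core (hp2 : p ≠ 2) (P : Sylow p X) {B : Subgroup X} (hBP : B ≤ (P : Subgroup X))
    (hBn : ∀ x ∈ (P : Subgroup X), ∀ b ∈ B, x * b * x⁻¹ ∈ B)
    (hBc : (P : Subgroup X) ⊓ centralizer (B : Set X) = B)
    {C : Subgroup X} (hC : Group.IsSolvable C) (hBC : B ≤ C) {Q : Subgroup X} (hQC : Q ≤ C)
    (hBQ : B ≤ normalizer (Q : Set X)) (hQ : (Nat.card Q).Coprime p) :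
    Q ≤ (Cfsg.pPrimeCore p C).map C.subtype := by
  set O := Cfsg.pPrimeCore p C with hO
  haveI : O.Normal := Cfsg.pPrimeCore_normal p C
  set f := QuotientGroup.mk' O with hf
  haveI : Group.IsSolvable (C ⧸ O) := haveI := hC; Group.isSolvable_of_surjective (QuotientGroup.mk'_surjective O)
  set R := Cfsg.pCore p (C ⧸ O) with hR
  haveI : R.Normal := Cfsg.pCore_normal p _
  have hRc : centralizer (R : Set (C ⧸ O)) ≤ R :=
    (CfsgLib.Comp.centralizer_pCore_le_iff p _).2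
      ⟨CfsgLib.Comp.eq_bot_of_perfect_of_isSolvable (CfsgLib.Comp.commutator_layer_self _)
        inferInstance, CfsgLib.Comp.pPrimeCore_quotient_eq_bot p C⟩
  have hBp : IsPGroup p B := P.2.to_le hBP
  set Bq := (B.subgroupOf C).map f with hBq
  set Qq := (Q.subgroupOf C).map f with hQq
  have hQc : (Nat.card Qq).Coprime p := Nat.Coprime.coprime_dvd_left (card_map_dvd _ f)
    (by rwa [Nat.card_congr (subgroupOfEquivOfLe hQC).toEquiv])
  have hRQ : R ⊓ Qq = ⊥ :=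
    CfsgLib.Comp.inf_eq_bot_of_isPGroup (CfsgLib.Comp.isPGroup_pCore p _) hQc
  have hBQn : Bq ≤ normalizer (Qq : Set (C ⧸ O)) := by
    refine (map_mono ?_).trans (le_normalizer_map f)
    intro b hb
    exact mem_normalizer_iff.2 fun w => mem_normalizer_iff.1 (hBQ (mem_subgroupOf.1 hb)) (w : X)
  have hcore : R ⊓ centralizer (Bq : Set (C ⧸ O)) ≤ Bq := by
    intro c hc
    obtain ⟨hcR, hcc⟩ := mem_inf.1 hc
    rw [hBq, ← CfsgLib.Comp.map_centralizer_eq (P := B.subgroupOf C) (CfsgLib.Comp.coprime_card_pPrimeCore p C)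
      hBp.comap_subtype] at hcc
    obtain ⟨c₀, hc₀, rfl⟩ := hcc
    obtain ⟨l, hl⟩ := CfsgLib.Comp.isPGroup_pCore p (C ⧸ O) ⟨_, hcR⟩
    have hl' : f c₀ ^ p ^ l = 1 := congrArg Subtype.val hl
    obtain ⟨k, m, hm, hkm⟩ := Nat.exists_eq_pow_mul_and_not_dvd (n := orderOf c₀)
      (orderOf_pos c₀).ne' p (Fact.out : p.Prime).ne_one
    have hmem : c₀ ^ m ∈ B.subgroupOf C := by
      refine mem_subgroupOf.2 (mem_of_centralizes P hBP hBn hBc ?_ ?_)
      · refine IsPGroup.of_card (n := k) ?_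
        rw [Nat.card_zpowers, Subgroup.orderOf_coe, orderOf_pow, hkm, Nat.gcd_mul_left_left,
          Nat.mul_div_cancel _ (Nat.pos_of_ne_zero fun h : m = 0 => hm (h ▸ dvd_zero p))]
      · refine mem_centralizer_iff.2 fun b hb => ?_
        exact congrArg Subtype.val (Commute.pow_right (show Commute (⟨b, hBC hb⟩ : C) c₀ from
          mem_centralizer_iff.1 hc₀ ⟨b, hBC hb⟩ (mem_subgroupOf.2 hb)) m).eq
    have hcop : m.Coprime (orderOf (f c₀)) :=
      Nat.Coprime.coprime_dvd_right (orderOf_dvd_of_pow_eq_one hl')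
        (Nat.Coprime.pow_right l ((Fact.out : p.Prime).coprime_iff_not_dvd.2 hm).symm)
    obtain ⟨j, hj⟩ := exists_pow_eq_self_of_coprime hcop
    rw [← hj]
    refine pow_mem ?_ j
    rw [← map_pow]
    exact mem_map_of_mem f hmem
  have hfix : Qq ≤ centralizer ((R ⊓ centralizer (Bq : Set (C ⧸ O)) : Subgroup _) : Set (C ⧸ O)) := by
    intro t ht
    refine mem_centralizer_iff.2 fun c hc => commutatorElement_eq_one_iff_mul_comm.1 ?_
    have h1 : ⁅c, t⁆ ∈ R ⊓ Qq := by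
      refine mem_inf.2 ⟨?_, mul_mem ((mem_normalizer_iff.1 (hBQn (hcore hc)) t).1 ht) (inv_mem ht)⟩
      rw [commutatorElement_def, mul_assoc c, mul_assoc c]
      exact mul_mem (mem_inf.1 hc).1 (Normal.conj_mem ‹_› _ (inv_mem (mem_inf.1 hc).1) t)
    rwa [hRQ, mem_bot] at h1
  have hQR : Qq ≤ centralizer (R : Set (C ⧸ O)) :=
    CfsgLib.ClassK.le_centralizer_of_centralizes_fixed_odd hp2 (CfsgLib.Comp.isPGroup_pCore p _)
      (hBp.comap_subtype.map f) hQc (CfsgLib.Comp.le_normalizer_of_normal' _ _)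
      (CfsgLib.Comp.le_normalizer_of_normal' _ _) hBQn hfix
  have hQbot : Qq = ⊥ := le_bot_iff.1 (hRQ ▸ le_inf (hQR.trans hRc) le_rfl)
  rw [hQq, Subgroup.map_eq_bot_iff, QuotientGroup.ker_mk'] at hQbot
  exact (map_subgroupOf_eq_of_le hQC).ge.trans (map_mono hQbot)

/-- Coprime action: some subgroup of index at most `p` of `E` fixes a point of `U` outside `D`. -/
theorem exists_cocyclic {E U D : Subgroup X} (hEc : IsMulCommutative E) (hE : ∀ e ∈ E, e ^ p = 1)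
    (hEU : E ≤ normalizer (U : Set X)) (hcop : (Nat.card E).Coprime (Nat.card U)) (hUD : ¬ U ≤ D) :
    ∃ F : Subgroup X, F ≤ E ∧ F.relIndex E ≤ p ∧ ¬ U ⊓ centralizer (F : Set X) ≤ D := by
  by_contra hno
  apply hUD
  conv_lhs => rw [← cocyclicJoin_eq hEc hEU hcop]
  refine iSup₂_le ?_
  rintro F ⟨hF, a, ha, hFa⟩
  by_contra hne
  refine hno ⟨F, hF, ?_, hne⟩
  have hFn : zpowers a ≤ normalizer (F : Set X) := by
    rw [zpowers_le]
    refine Subgroup.centralizer_le_normalizer _ (mem_centralizer_iff.mpr fun b hb => ?_)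
    exact congrArg Subtype.val (hEc.is_comm.comm (⟨b, hF hb⟩ : E) ⟨a, ha⟩)
  have h1 : Nat.card E ≤ Nat.card F * p := by
    refine (Subgroup.card_le_of_le hFa.ge).trans ?_
    refine (Nat.le_of_dvd (Nat.mul_pos Nat.card_pos Nat.card_pos)
      (CfsgLib.Comp.card_sup_dvd_mul hFn)).trans ?_
    refine Nat.mul_le_mul_left _ ?_
    rw [Nat.card_zpowers]
    exact Nat.le_of_dvd (Fact.out : p.Prime).pos (orderOf_dvd_of_pow_eq_one (hE a ha))
  rw [← CfsgLib.ClassK.card_mul_relIndex hF] at h1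
  exact Nat.le_of_mul_le_mul_left h1 Nat.card_pos

/-- Maximal `B`-invariant `q`-subgroups. -/
def MaxInv (q : ℕ) (B Q : Subgroup X) : Prop :=
  IsPGroup q Q ∧ B ≤ normalizer (Q : Set X) ∧
    ∀ R : Subgroup X, IsPGroup q R → B ≤ normalizer (R : Set X) → Q ≤ R → R = Q

theorem exists_maxInv {B U : Subgroup X} (hU : IsPGroup q U) (hBU : B ≤ normalizer (U : Set X)) :
    ∃ Q, MaxInv q B Q ∧ U ≤ Q := by
  haveI : Finite (Subgroup X) := Finite.of_injective _ SetLike.coe_injective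
  obtain ⟨Q, hUQ, hQ⟩ := Finite.exists_le_maximal
    (p := fun Q : Subgroup X => IsPGroup q Q ∧ B ≤ normalizer (Q : Set X)) ⟨hU, hBU⟩
  exact ⟨Q, ⟨hQ.prop.1, hQ.prop.2, fun R hR hR' hle =>
    le_antisymm (hQ.le_of_ge ⟨hR, hR'⟩ hle) hle⟩, hUQ⟩

theorem maxInv_map {B Q : Subgroup X} {c : X} (hc : c ∈ centralizer (B : Set X))
    (hQ : MaxInv q B Q) : MaxInv q B (Q.map (MulAut.conj c).toMonoidHom) := by
  have hB : B.map (MulAut.conj c).toMonoidHom = B :=
    CfsgLib.Comp.map_conj_eq_iff.2 (CfsgLib.Comp.centralizer_le_normalizer _ hc)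
  have hB' : B.map (MulAut.conj c⁻¹).toMonoidHom = B :=
    CfsgLib.Comp.map_conj_eq_iff.2 (CfsgLib.Comp.centralizer_le_normalizer _ (inv_mem hc))
  refine ⟨hQ.1.map _, hB.ge.trans ((map_mono hQ.2.1).trans (le_normalizer_map _)),
    fun R hR hR' hle => ?_⟩
  have h := hQ.2.2 (R.map (MulAut.conj c⁻¹).toMonoidHom) (hR.map _)
    (hB'.ge.trans ((map_mono hR').trans (le_normalizer_map _)))
    ((CfsgLib.Comp.map_conj_inv Q c).ge.trans (map_mono hle))
  rw [← h, CfsgLib.Coprime.map_conj_conj, mul_inv_cancel, CfsgLib.Comp.map_conj_one]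



/-- Transitivity Theorem (odd-order setting). Let X be a finite group of odd order in which the normalizer of every
nontrivial p-subgroup is solvable, P a Sylow p-subgroup, and B an abelian subgroup of P, normalized by P, with
C_P(B) = B and containing an elementary abelian subgroup of order p^3. Then for every prime q ≠ p, any two q-subgroups
that are maximal among the q-subgroups normalized by B are conjugate by an element of the centralizer of B. -/
theorem result {X : Type*} [Group X] [Finite X] (hX : Odd (Nat.card X)) (p : ℕ)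
    [Fact p.Prime] (hloc : ∀ T : Subgroup X, IsPGroup p T → T ≠ ⊥ → Group.IsSolvable (Subgroup.normalizer (T : Set X)))
    (P : Sylow p X) (B : Subgroup X) (hBP : B ≤ (P : Subgroup X))
    (hBn : ∀ x ∈ (P : Subgroup X), ∀ b ∈ B, x * b * x⁻¹ ∈ B) (hBa : IsMulCommutative B)
    (hBc : (P : Subgroup X) ⊓ Subgroup.centralizer (B : Set X) = B)
    (hB3 : ∃ E : Subgroup X, E ≤ B ∧ (∀ e ∈ E, e ^ p = 1) ∧ p ^ 3 ≤ Nat.card E)
    (q : ℕ) [Fact q.Prime] (hqp : q ≠ p) (Q₁ Q₂ : Subgroup X)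
    (h₁ : IsPGroup q Q₁ ∧ B ≤ Subgroup.normalizer (Q₁ : Set X) ∧
      ∀ R : Subgroup X, IsPGroup q R → B ≤ Subgroup.normalizer (R : Set X) → Q₁ ≤ R → R = Q₁)
    (h₂ : IsPGroup q Q₂ ∧ B ≤ Subgroup.normalizer (Q₂ : Set X) ∧
      ∀ R : Subgroup X, IsPGroup q R → B ≤ Subgroup.normalizer (R : Set X) → Q₂ ≤ R → R = Q₂) :
    ∃ c ∈ Subgroup.centralizer (B : Set X), Q₂ = Q₁.map (MulAut.conj c).toMonoidHom := by
  classical
  have hp : p.Prime := Fact.out
  set E := hB3.choose with hEdef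
  obtain ⟨hEB, hEp, hE3⟩ := hB3.choose_spec
  have hBp : IsPGroup p B := P.2.to_le hBP
  have hp2 : p ≠ 2 := by
    intro h
    obtain ⟨n, hn⟩ := hBp.exists_card_eq
    have hn0 : n ≠ 0 := by
      rintro rfl
      have := (Subgroup.card_le_of_le hEB).trans_eq hn
      have h8 := hE3.trans this
      rw [h] at h8
      norm_num at h8
    have : 2 ∣ Nat.card X :=
      (h ▸ dvd_pow_self p hn0 : 2 ∣ p ^ n).trans (hn ▸ B.card_subgroup_dvd_card)
    exact (Nat.not_even_iff_odd.2 hX) (even_iff_two_dvd.2 this)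
  have hEc : IsMulCommutative E := ⟨⟨fun a b => Subtype.ext
    (congrArg Subtype.val (hBa.is_comm.comm (⟨a, hEB a.2⟩ : B) ⟨b, hEB b.2⟩) :)⟩⟩
  have hcopq : ∀ H U : Subgroup X, H ≤ B → IsPGroup q U → (Nat.card H).Coprime (Nat.card U) := by
    intro H U hH hU
    obtain ⟨n, hn⟩ := (hBp.to_le hH).exists_card_eq
    obtain ⟨m, hm⟩ := hU.exists_card_eq
    rw [hn, hm]
    exact Nat.Coprime.pow n m ((Nat.coprime_primes hp Fact.out).2 hqp.symm)
  suffices key : ∀ n : ℕ, ∀ Q₁ Q₂ : Subgroup X, MaxInv q B Q₁ → MaxInv q B Q₂ →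
      (Q₁ ⊓ Q₂).index = n → ∃ c ∈ centralizer (B : Set X), Q₂ = Q₁.map (MulAut.conj c).toMonoidHom from
    key _ Q₁ Q₂ h₁ h₂ rfl
  intro n
  induction n using Nat.strong_induction_on with
  | _ n ih =>
  intro Q₁ Q₂ h₁ h₂ hn
  subst hn
  by_cases h12 : Q₁ ≤ Q₂
  · exact ⟨1, one_mem _, (h₁.2.2 Q₂ h₂.1 h₂.2.1 h12).trans (CfsgLib.Comp.map_conj_one Q₁).symm⟩
  by_cases h21 : Q₂ ≤ Q₁
  · exact ⟨1, one_mem _, (h₂.2.2 Q₁ h₁.1 h₁.2.1 h21).symm.trans (CfsgLib.Comp.map_conj_one Q₁).symm⟩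
  set D := Q₁ ⊓ Q₂ with hD
  set N := normalizer (D : Set X) with hN
  have hBN : B ≤ N := CfsgLib.Comp.le_normalizer_inf h₁.2.1 h₂.2.1
  have hfix : ∀ Q : Subgroup X, MaxInv q B Q → D < Q →
      ∃ F : Subgroup X, F ≤ E ∧ F.relIndex E ≤ p ∧ ¬ Q ⊓ N ⊓ centralizer (F : Set X) ≤ D := by
    intro Q hQ hDQ
    obtain ⟨x, hxQ, hxN, hxD⟩ := CfsgLib.Transfer.exists_mem_normalizer_not_mem hQ.1 hDQ
    exact exists_cocyclic hEc hEp
      (hEB.trans (CfsgLib.Comp.le_normalizer_inf hQ.2.1 (hBN.trans Subgroup.le_normalizer)))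
      (hcopq _ _ hEB (hQ.1.to_le inf_le_left)) fun h => hxD (h (mem_inf.2 ⟨hxQ, hxN⟩))
  obtain ⟨F₁, hF₁, hi₁, hU₁⟩ :=
    hfix Q₁ h₁ (lt_of_le_not_ge inf_le_left fun h => h12 (h.trans inf_le_right))
  obtain ⟨F₂, hF₂, hi₂, hU₂⟩ :=
    hfix Q₂ h₂ (lt_of_le_not_ge inf_le_right fun h => h21 (h.trans inf_le_left))
  have hF : F₁ ⊓ F₂ ≠ ⊥ := by
    intro hbot
    have h1 := CfsgLib.ClassK.card_mul_relIndex (inf_le_left.trans hF₁ : F₁ ⊓ F₂ ≤ E)
    rw [hbot, Subgroup.card_bot, one_mul, ← hbot] at h1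
    have h2 : Nat.card E ≤ p * p :=
      h1.ge.trans (relIndex_inf_le.trans (Nat.mul_le_mul hi₁ hi₂))
    have h3 : p ^ 3 ≤ p ^ 2 := hE3.trans (h2.trans_eq (pow_two p).symm)
    exact absurd ((Nat.pow_le_pow_iff_right hp.one_lt).1 h3) (by norm_num)
  obtain ⟨⟨a, ha⟩, ha1⟩ := Subgroup.ne_bot_iff_exists_ne_one.1 hF
  set C := centralizer ({a} : Set X) with hC
  have haB : a ∈ B := hEB (hF₁ (mem_inf.1 ha).1)
  have hne : zpowers a ≠ ⊥ := by
    rw [zpowers_ne_bot]; exact fun h => ha1 (Subtype.ext h)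
  have hCsol : Group.IsSolvable C := by
    haveI := hloc _ (hBp.to_le (zpowers_le.2 haB)) hne
    have hle : C ≤ normalizer (zpowers a : Set X) := by
      refine le_trans ?_ (CfsgLib.Comp.centralizer_le_normalizer _)
      rw [zpowers_eq_closure, centralizer_closure]
    exact CfsgLib.Coprime.isSolvable_of_le ‹_› hle
  have hBC : B ≤ C := fun b hb => mem_centralizer_singleton_iff.2
    (congrArg Subtype.val (hBa.is_comm.comm (⟨b, hb⟩ : B) ⟨a, haB⟩))
  set O := (Cfsg.pPrimeCore p C).map C.subtype with hO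
  set W := O ⊓ N with hW
  have hCO : C ≤ normalizer (O : Set X) := by
    haveI := Cfsg.pPrimeCore_normal p C
    have h1 := Subgroup.le_normalizer_map C.subtype (H := Cfsg.pPrimeCore p C)
    rwa [normalizer_eq_top, ← MonoidHom.range_eq_map, range_subtype] at h1
  have hBW : B ≤ normalizer (W : Set X) :=
    CfsgLib.Comp.le_normalizer_inf (hBC.trans hCO) (hBN.trans Subgroup.le_normalizer)
  have hWcop : (Nat.card B).Coprime (Nat.card W) := by
    refine CfsgLib.Comp.coprime_card_of_isPGroup hBp (Nat.Coprime.coprime_dvd_left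
      (Subgroup.card_dvd_of_le (inf_le_left : W ≤ O)) ?_)
    rw [hO, card_map_of_injective C.subtype_injective]
    exact CfsgLib.Comp.coprime_card_pPrimeCore p C
  have hBsol : Group.IsSolvable B := haveI : Group.IsNilpotent B := hBp.isNilpotent; inferInstance
  have hV : ∀ Q : Subgroup X, MaxInv q B Q → Q ⊓ N ⊓ C ≤ W ∧
      B ≤ normalizer ((Q ⊓ N ⊓ C : Subgroup X) : Set X) := by
    intro Q hQ
    have hn : B ≤ normalizer ((Q ⊓ N ⊓ C : Subgroup X) : Set X) := CfsgLib.Comp.le_normalizer_inf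
      (CfsgLib.Comp.le_normalizer_inf hQ.2.1 (hBN.trans Subgroup.le_normalizer))
      (hBC.trans Subgroup.le_normalizer)
    refine ⟨le_inf (le_core hp2 P hBP hBn hBc hCsol hBC inf_le_right hn ?_)
      (inf_le_left.trans inf_le_right), hn⟩
    obtain ⟨m, hm⟩ := (hQ.1.to_le (inf_le_left.trans inf_le_left : Q ⊓ N ⊓ C ≤ Q)).exists_card_eq
    rw [hm]
    exact Nat.Coprime.pow_left m ((Nat.coprime_primes Fact.out hp).2 hqp)
  have hnot : ∀ (Q F : Subgroup X), a ∈ F → ¬ Q ⊓ N ⊓ centralizer (F : Set X) ≤ D →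
      ¬ Q ⊓ N ⊓ C ≤ D := fun Q F haF h h' =>
    h ((inf_le_inf_left _ (centralizer_le (by simpa using haF))).trans h')
  obtain ⟨S₁, hS₁, hS₁B⟩ := exists_invariant_sylow_ge hBW hWcop (Or.inl hBsol)
    (h₁.1.to_le (inf_le_left.trans inf_le_left)) (hV Q₁ h₁).1 (hV Q₁ h₁).2
  obtain ⟨S₂, hS₂, hS₂B⟩ := exists_invariant_sylow_ge hBW hWcop (Or.inl hBsol)
    (h₂.1.to_le (inf_le_left.trans inf_le_left)) (hV Q₂ h₂).1 (hV Q₂ h₂).2
  obtain ⟨c, hc, hcS⟩ := exists_conj_invariant_sylow hBW hWcop (Or.inl hBsol) S₁ S₂ hS₁B hS₂B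
  obtain ⟨hcW, hcB⟩ := mem_inf.1 hc
  set U := (S₁ : Subgroup W).map W.subtype with hU
  have hUN : U ≤ N := (map_subtype_le _).trans inf_le_right
  have hDU : IsPGroup q ↥(D ⊔ U) :=
    (h₁.1.to_le inf_le_left).to_sup_of_normal_left' (S₁.2.map _) hUN
  obtain ⟨Q₃, h₃, hQ₃⟩ := exists_maxInv hDU (CfsgLib.Comp.le_normalizer_sup hBN hS₁B)
  have hDQ₃ : D ≤ Q₃ := le_sup_left.trans hQ₃
  set Q₄ := Q₃.map (MulAut.conj c).toMonoidHom with hQ₄
  have hDQ₄ : D ≤ Q₄ := by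
    have h := CfsgLib.Comp.map_conj_eq_iff.2 ((inf_le_right : W ≤ N) hcW)
    exact h.ge.trans (map_mono hDQ₃)
  have hS₂Q₄ : Q₂ ⊓ N ⊓ C ≤ Q₄ :=
    hS₂.trans (hcS ▸ map_mono (le_sup_right.trans hQ₃))
  have hlt₁ : D < Q₁ ⊓ Q₃ := lt_of_le_not_ge (le_inf inf_le_left hDQ₃) fun h =>
    hnot Q₁ F₁ (mem_inf.1 ha).1 hU₁
      ((le_inf (inf_le_left.trans inf_le_left) (hS₁.trans (le_sup_right.trans hQ₃))).trans h)
  have hlt₂ : D < Q₂ ⊓ Q₄ := lt_of_le_not_ge (le_inf inf_le_right hDQ₄) fun h =>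
    hnot Q₂ F₂ (mem_inf.1 ha).2 hU₂
      ((le_inf (inf_le_left.trans inf_le_left) hS₂Q₄).trans h)
  obtain ⟨k, hk, hk₃⟩ := ih _ (Subgroup.index_strictAnti hlt₁) Q₁ Q₃ h₁ h₃ rfl
  obtain ⟨l, hl, hl₄⟩ := ih _ (Subgroup.index_strictAnti hlt₂) Q₂ Q₄ h₂ (maxInv_map hcB h₃) rfl
  refine ⟨l⁻¹ * c * k, mul_mem (mul_mem (inv_mem hl) hcB) hk, ?_⟩
  rw [mul_assoc, ← CfsgLib.Coprime.map_conj_conj, ← CfsgLib.Coprime.map_conj_conj, ← hk₃, ← hQ₄,
    hl₄, CfsgLib.Comp.map_conj_inv]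

end Cfsg.Agent.S0522
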