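import Cfsg.Statements.S0525
import Cfsg.Agent.Lib.Solvable.Supersolvable

set_option autoImplicit false
open Cfsg

namespace Cfsg.Agent.S0525

/-- A direct product of two finite supersolvable groups is supersolvable. -/
theorem result {G H : Type*} [Group G] [Group H] [Finite G] [Finite H] (hG : Cfsg.IsSupersolvable G) (hH : Cfsg.IsSupersolvable H) : Cfsg.IsSupersolvable (G × H) := by
  induction hn : Nat.card G using Nat.strong_induction_on generalizing G with
  | _ n ih =>
    subst hn
    rcases subsingleton_or_nontrivial G with hs | hs
    · exact CfsgLib.Solvable.isSupersolvable_of_surjective (MonoidHom.prod 1 (MonoidHom.id H))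
        (fun x => ⟨x.2, Prod.ext (Subsingleton.elim _ _) rfl⟩) hH
    · obtain ⟨Q, hQn, hQp, hQc, hQs⟩ := CfsgLib.Solvable.exists_normal_prime_quotient hG
      haveI := hQn
      let f : G × H →* (G ⧸ Q) × H := MonoidHom.prodMap (QuotientGroup.mk' Q) (MonoidHom.id H)
      have hf : Function.Surjective f := fun x => by
        obtain ⟨g, hg⟩ := QuotientGroup.mk'_surjective Q x.1
        exact ⟨(g, x.2), Prod.ext hg rfl⟩
      haveI : IsCyclic f.ker := isCyclic_of_injective
        (((MonoidHom.fst G H).comp f.ker.subtype).codRestrict Q fun x =>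
          (QuotientGroup.eq_one_iff x.1.1).mp (congrArg Prod.fst x.2)) (by
          intro x y hxy
          refine Subtype.ext (Prod.ext (congrArg Subtype.val hxy) ?_)
          exact (congrArg Prod.snd x.2).trans (congrArg Prod.snd y.2).symm)
      have key := ih _ (CfsgLib.Solvable.card_quotient_lt (CfsgLib.Solvable.ne_bot_of_card_prime hQp)) hQs rfl
      exact CfsgLib.Solvable.isSupersolvable_of_cyclic_normal f.ker
        (CfsgLib.Solvable.isSupersolvable_of_surjective (QuotientGroup.quotientKerEquivOfSurjective f hf).symm.toMonoidHom
          (MulEquiv.surjective _) key)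

end Cfsg.Agent.S0525
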