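import Cfsg.Statements.S0527
import Cfsg.Agent.Lib.Solvable.Supersolvable
import Cfsg.Agent.Lib.Solvable.Products

set_option autoImplicit false
open Cfsg
open scoped Pointwise commutatorElement

namespace Cfsg.Agent.S0527

/-- In a finite supersolvable group the index of any maximal subgroup is a prime number. -/
theorem result {G : Type*} [Group G] [Finite G] (hG : Cfsg.IsSupersolvable G) (M : Subgroup G) (hM : IsCoatom M) : M.index.Prime := by
  induction hn : Nat.card G using Nat.strong_induction_on generalizing G with
  | _ n ih =>
    subst hn
    haveI : Nontrivial G := by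
      by_contra h
      haveI := not_nontrivial_iff_subsingleton.mp h
      exact hM.1 (Subsingleton.elim _ _)
    obtain ⟨N, hNn, hNp, -, hNs⟩ := CfsgLib.Solvable.exists_normal_prime_quotient hG
    haveI := hNn
    have hNne := CfsgLib.Solvable.ne_bot_of_card_prime hNp
    by_cases hle : N ≤ M
    · set π := QuotientGroup.mk' N
      have hs : Function.Surjective π := QuotientGroup.mk'_surjective N
      have hcm : (M.map π).comap π = M := by rw [Subgroup.comap_map_eq, QuotientGroup.ker_mk', sup_eq_left.mpr hle]
      have hco : IsCoatom (M.map π) := by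
        refine ⟨fun h => hM.1 ?_, fun K hK => ?_⟩
        · rw [← hcm, h, Subgroup.comap_top]
        · refine Subgroup.comap_injective hs ?_
          rw [Subgroup.comap_top]
          refine hM.2 _ (hcm.symm.le.trans (Subgroup.comap_mono hK.le) |>.lt_of_ne fun he => hK.ne ?_)
          rw [he, Subgroup.map_comap_eq_self_of_surjective hs]
      have := ih _ (CfsgLib.Solvable.card_quotient_lt hNne) hNs (M.map π) hco rfl
      rwa [M.index_map_eq hs (by rwa [QuotientGroup.ker_mk'])] at this
    · have htop : N ⊔ M = ⊤ := hM.2 _ (lt_of_le_of_ne le_sup_right fun he => hle (he ▸ le_sup_left))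
      have hc := CfsgLib.Solvable.card_mul_set N M
      rw [← Subgroup.normal_mul, htop, Subgroup.coe_top, Nat.card_coe_set_eq, Set.ncard_univ, ← M.card_mul_index] at hc
      have h2 : M.index = M.relIndex N := Nat.eq_of_mul_eq_mul_left Nat.card_pos hc
      rcases (Nat.dvd_prime hNp).mp (Subgroup.relIndex_dvd_card M N) with h | h
      · exact absurd (Subgroup.relIndex_eq_one.mp h) hle
      · rw [h2, h]; exact hNp

end Cfsg.Agent.S0527
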