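import Cfsg.Statements.S0529
import Cfsg.Agent.Lib.Solvable.Huppert

set_option autoImplicit false
open Cfsg

namespace Cfsg.Agent.S0529

/-- A finite supersolvable group has a chain of normal subgroups, from the trivial subgroup to the whole group, in which every step has prime index and the primes occurring are non-increasing as one goes up the chain. -/
theorem result {G : Type*} [Group G] [Finite G] (hG : Cfsg.IsSupersolvable G) : ∃ (n : ℕ) (H : Fin (n + 1) → Subgroup G), H 0 = ⊥ ∧ H (Fin.last n) = ⊤ ∧ (∀ i, (H i).Normal) ∧ (∀ i : Fin n, H i.castSucc ≤ H i.succ ∧ ((H i.castSucc).relIndex (H i.succ)).Prime) ∧ ∀ i j : Fin n, i ≤ j → (H j.castSucc).relIndex (H j.succ) ≤ (H i.castSucc).relIndex (H i.succ) := by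
  induction hn : Nat.card G using Nat.strong_induction_on generalizing G with
  | _ n ih =>
    subst hn
    rcases subsingleton_or_nontrivial G with hs | hs
    · exact ⟨0, fun _ => ⊥, rfl, Subsingleton.elim _ _, fun _ => inferInstance, fun i => i.elim0, fun i => i.elim0⟩
    obtain ⟨p, hp, hpd, hmax⟩ := CfsgLib.Solvable.exists_largest_prime (Finite.one_lt_card (α := G))
    haveI : Fact p.Prime := ⟨hp⟩
    obtain ⟨P⟩ := (inferInstance : Nonempty (Sylow p G))
    haveI := CfsgLib.Solvable.sylow_normal_of_isSupersolvable hG hmax P
    obtain ⟨Q, hQn, hQP, hQp⟩ := CfsgLib.Solvable.exists_normal_prime_le hG (N := (P : Subgroup G))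
      (P.ne_bot_of_dvd_card hpd)
    haveI := hQn
    have hQc : Nat.card Q = p := by
      obtain ⟨k, hk⟩ := IsPGroup.iff_card.mp P.2
      exact (Nat.prime_dvd_prime_iff_eq hQp hp).mp (hQp.dvd_of_dvd_pow (hk ▸ Subgroup.card_dvd_of_le hQP))
    set π := QuotientGroup.mk' Q
    have hsur : Function.Surjective π := QuotientGroup.mk'_surjective Q
    obtain ⟨k, H, h0, hlast, hnor, hstep, hmono⟩ := ih _
      (CfsgLib.Solvable.card_quotient_lt (CfsgLib.Solvable.ne_bot_of_card_prime hQp))
      (CfsgLib.Solvable.isSupersolvable_of_surjective π hsur hG) rfl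
    let A : Fin (k + 1 + 1) → Subgroup G := Fin.cons ⊥ fun i => (H i).comap π
    have e0 : ((A (0 : Fin (k + 1)).castSucc).relIndex (A (0 : Fin (k + 1)).succ)) = p := by
      simp only [A, Fin.castSucc_zero, Fin.cons_zero, Fin.cons_succ]
      rw [h0, MonoidHom.comap_bot, QuotientGroup.ker_mk', Subgroup.relIndex_bot_left, hQc]
    have es : ∀ i : Fin k, (A i.succ.castSucc).relIndex (A i.succ.succ) = (H i.castSucc).relIndex (H i.succ) := by
      intro i
      simp only [A, ← Fin.succ_castSucc, Fin.cons_succ]
      rw [Subgroup.relIndex_comap, Subgroup.map_comap_eq_self_of_surjective hsur]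
    refine ⟨k + 1, A, rfl, ?_, fun i => ?_, fun i => ?_, ?_⟩
    · simp only [A, ← Fin.succ_last, Fin.cons_succ]
      rw [hlast, Subgroup.comap_top]
    · induction i using Fin.cases with
      | zero => exact Subgroup.normal_bot
      | succ i => simp only [A, Fin.cons_succ]; exact (hnor i).comap π
    · induction i using Fin.cases with
      | zero => exact ⟨bot_le, e0 ▸ hp⟩
      | succ i =>
        refine ⟨?_, es i ▸ (hstep i).2⟩
        simp only [A, ← Fin.succ_castSucc, Fin.cons_succ]
        exact Subgroup.comap_mono (hstep i).1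
    · intro i j hij
      induction j using Fin.cases with
      | zero =>
        obtain rfl : i = 0 := Fin.le_zero_iff.mp hij
        exact le_rfl
      | succ j =>
        induction i using Fin.cases with
        | zero =>
          rw [e0, es j]
          refine hmax _ (hstep j).2 (((Subgroup.relIndex_dvd_card _ _).trans (H j.succ).card_subgroup_dvd_card).trans ?_)
          exact Q.card_quotient_dvd_card
        | succ i =>
          rw [es i, es j]
          exact hmono i j (Fin.succ_le_succ_iff.mp hij)

end Cfsg.Agent.S0529
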