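import Cfsg.Statements.S0530
import Mathlib.GroupTheory.IndexNormal
import Cfsg.Agent.Lib.Solvable.SupersolvableAction
import Mathlib.GroupTheory.SchurZassenhaus

set_option autoImplicit false
open Cfsg
open scoped Pointwise commutatorElement

namespace Cfsg.Agent.S0530

/-- A finite group whose order is twice a prime power is supersolvable. -/
theorem result {G : Type*} [Group G] [Finite G] (p n : ℕ) (hp : p.Prime) (hG : Nat.card G = 2 * p ^ n) : Cfsg.IsSupersolvable G := by
  haveI : Fact p.Prime := ⟨hp⟩
  by_cases hp2 : p = 2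
  · subst hp2
    exact CfsgLib.Solvable.isSupersolvable_of_isPGroup (p := 2) (IsPGroup.of_card (n := n + 1) (by rw [hG, pow_succ']))
  obtain ⟨P, hP⟩ := Sylow.exists_subgroup_card_pow_prime p (n := n) (G := G) (by rw [hG]; exact Dvd.intro_left _ rfl)
  have hidx : P.index = 2 := by
    have h := P.card_mul_index
    rw [hP, hG, mul_comm 2] at h
    exact Nat.eq_of_mul_eq_mul_left (pow_pos hp.pos n) h
  haveI : P.Normal := Subgroup.normal_of_index_eq_two hidx
  obtain ⟨H, hH⟩ := Subgroup.exists_right_complement'_of_coprime (N := P)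
    (by rw [hP, hidx]; exact Nat.Coprime.pow_left _ ((Nat.coprime_primes hp Nat.prime_two).mpr hp2))
  have hH2 : Nat.card H = 2 := by rw [← hidx]; exact hH.symm.index_eq_card.symm
  haveI : IsCyclic H := CfsgLib.Solvable.isCyclic_of_card_prime (by rw [hH2]; exact Nat.prime_two)
  haveI : Fact (Nat.Prime 2) := ⟨Nat.prime_two⟩
  refine CfsgLib.Solvable.isSupersolvable_of_action (P := P) (H := H) (IsPGroup.of_card hP) hH.sup_eq_top
    (CfsgLib.Solvable.isSupersolvable_of_isPGroup (p := 2) (IsPGroup.of_card (n := 1) (by rw [hH2, pow_one]))) ?_ ?_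
  · intro a ha b hb
    letI := IsCyclic.commGroup (α := H)
    have : a * b = b * a := congrArg Subtype.val (mul_comm (⟨a, ha⟩ : H) ⟨b, hb⟩)
    rw [commutatorElement_eq_one_iff_mul_comm.mpr this]
    exact Subgroup.one_mem _
  · intro a ha
    obtain ⟨k, hk⟩ : 2 ∣ p - 1 := by
      have := hp.eq_two_or_odd
      omega
    have : a ^ 2 = 1 := by
      rw [← hH2]
      exact congrArg Subtype.val (pow_card_eq_one' (x := (⟨a, ha⟩ : H)))
    rw [hk, pow_mul, this, one_pow]
    exact Subgroup.one_mem _

end Cfsg.Agent.S0530
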