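import Cfsg.Statements.S0531
import Cfsg.Agent.Lib.Solvable.Supersolvable
import Mathlib.GroupTheory.SchurZassenhaus

set_option autoImplicit false
open Cfsg

namespace Cfsg.Agent.S0531

/-- A finite supersolvable group has a subgroup of each order dividing its order. -/
theorem result {G : Type*} [Group G] [Finite G] (hG : Cfsg.IsSupersolvable G) : Cfsg.HasSubgroupOfEveryOrder G := by
  induction hn : Nat.card G using Nat.strong_induction_on generalizing G with
  | _ n ih =>
    subst hn
    intro d hd
    rcases subsingleton_or_nontrivial G with hs | hs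
    · rw [Nat.card_of_subsingleton (1 : G), Nat.dvd_one] at hd
      exact ⟨⊥, by rw [Subgroup.card_bot, hd]⟩
    obtain ⟨Q, hQn, hQp, -, hQs⟩ := CfsgLib.Solvable.exists_normal_prime_quotient hG
    haveI := hQn
    have IH := ih _ (CfsgLib.Solvable.card_quotient_lt (CfsgLib.Solvable.ne_bot_of_card_prime hQp)) hQs rfl
    rw [Q.card_eq_card_quotient_mul_card_subgroup] at hd
    by_cases hp : Nat.card Q ∣ d
    · obtain ⟨e, rfl⟩ := hp
      rw [mul_comm (Nat.card (G ⧸ Q))] at hd
      obtain ⟨U, hU⟩ := IH e ((Nat.mul_dvd_mul_iff_left hQp.pos).mp hd)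
      exact ⟨U.comap (QuotientGroup.mk' Q), by rw [CfsgLib.Solvable.card_comap_mk', hU, mul_comm]⟩
    · have hcop : (Nat.card Q).Coprime d := hQp.coprime_iff_not_dvd.mpr hp
      obtain ⟨U₀, hU₀⟩ := IH d (hcop.symm.dvd_of_dvd_mul_right hd)
      set U := U₀.comap (QuotientGroup.mk' Q) with hU
      have hQU : Q ≤ U := fun x hx => by simp [hU, (QuotientGroup.eq_one_iff x).mpr hx]
      have e1 := Nat.card_congr (Subgroup.subgroupOfEquivOfLe hQU).toEquiv
      have hidx : (Q.subgroupOf U).index = d := by
        refine Nat.eq_of_mul_eq_mul_left (Nat.card_pos (α := Q.subgroupOf U)) ?_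
        rw [Subgroup.card_mul_index, hU, CfsgLib.Solvable.card_comap_mk', hU₀, ← hU, e1, mul_comm]
      obtain ⟨C, hC⟩ := Subgroup.exists_right_complement'_of_coprime (N := Q.subgroupOf U)
        (by rw [e1, hidx]; exact hcop)
      exact ⟨C.map U.subtype, by rw [Subgroup.card_map_of_injective U.subtype_injective, ← hC.symm.index_eq_card, hidx]⟩

end Cfsg.Agent.S0531
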