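import Cfsg.Statements.S0532
import Mathlib.GroupTheory.IndexNormal
import Cfsg.Agent.Lib.Solvable.PCore

set_option autoImplicit false
open Cfsg

namespace Cfsg.Agent.S0532

/-- If each subgroup of a finite group satisfies the converse of Lagrange's theorem, then a Sylow subgroup for the largest prime dividing the group order is normal. -/
theorem result {G : Type*} [Group G] [Finite G] (h : ∀ H : Subgroup G, Cfsg.HasSubgroupOfEveryOrder H) (p : ℕ) [Fact p.Prime] (hdvd : p ∣ Nat.card G) (hmax : ∀ q : ℕ, q.Prime → q ∣ Nat.card G → q ≤ p) (P : Sylow p G) : (P : Subgroup G).Normal := by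
  induction hn : Nat.card G using Nat.strong_induction_on generalizing G with
  | _ n ih =>
    subst hn
    have hp : p.Prime := Fact.out
    set q := (Nat.card G).minFac with hq
    have hne : Nat.card G ≠ 1 := fun he => hp.ne_one (Nat.dvd_one.mp (he ▸ hdvd))
    have hqp : q.Prime := Nat.minFac_prime hne
    by_cases hpq : q = p
    · -- a `p`-group
      have hP : IsPGroup p G := by
        obtain ⟨k, hk⟩ : ∃ k, Nat.card G = p ^ k := ⟨_, Nat.eq_prime_pow_of_unique_prime_dvd Nat.card_pos.ne'
          fun {r} hr hrd => le_antisymm (hmax r hr hrd) (hpq ▸ hq ▸ Nat.minFac_le_of_dvd hr.two_le hrd)⟩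
        exact IsPGroup.of_card hk
      rw [(P.is_maximal' (Q := ⊤) (hP.to_subgroup ⊤) le_top).symm]
      infer_instance
    · obtain ⟨H₀, hH₀⟩ := h ⊤ (Nat.card G / q) (by rw [Subgroup.card_top]; exact Nat.div_dvd_of_dvd (Nat.minFac_dvd _))
      set H := H₀.map (⊤ : Subgroup G).subtype with hH
      have hcH : Nat.card H = Nat.card G / q := by rw [hH, CfsgLib.Solvable.card_map_subtype, hH₀]
      have hidx : H.index = q := by
        have h1 := H.card_mul_index
        have h2 : Nat.card G / q * q = Nat.card G := Nat.div_mul_cancel (Nat.minFac_dvd _)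
        rw [hcH] at h1
        exact Nat.eq_of_mul_eq_mul_left (hcH ▸ Nat.card_pos) (h1.trans h2.symm)
      haveI : H.Normal := Subgroup.normal_of_index_eq_minFac_card hidx
      have hPH : (P : Subgroup G) ≤ H := by
        intro x hx
        rw [← QuotientGroup.eq_one_iff, ← orderOf_eq_one_iff]
        obtain ⟨k, hk⟩ := IsPGroup.iff_orderOf.mp P.2 ⟨x, hx⟩
        rw [Subgroup.orderOf_mk] at hk
        refine Nat.eq_one_of_dvd_coprimes (Nat.Coprime.pow_left k ((Nat.coprime_primes hp hqp).mpr (Ne.symm hpq)))
          (hk ▸ orderOf_map_dvd (QuotientGroup.mk' H) x) ?_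
        rw [← hidx, Subgroup.index_eq_card]
        exact orderOf_dvd_natCard _
      have hlt : Nat.card H < Nat.card G := CfsgLib.Solvable.card_subgroup_lt (fun he => by
        rw [he, Subgroup.index_top] at hidx; exact hqp.ne_one hidx.symm)
      have hher : ∀ K : Subgroup H, Cfsg.HasSubgroupOfEveryOrder K := by
        intro K d hd
        let e := K.equivMapOfInjective _ H.subtype_injective
        obtain ⟨L, hL⟩ := h (K.map H.subtype) d (by rwa [← Nat.card_congr e.toEquiv])
        exact ⟨L.map e.symm.toMonoidHom, by rw [Subgroup.card_map_of_injective e.symm.injective, hL]⟩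
      have hdH : p ∣ Nat.card H := by
        rw [← H.card_mul_index, hidx] at hdvd
        exact ((Nat.coprime_primes hp hqp).mpr (Ne.symm hpq)).dvd_of_dvd_mul_right hdvd
      haveI := ih _ hlt hher hdH (fun r hr hd => hmax r hr (hd.trans H.card_subgroup_dvd_card)) (P.subtype hPH) rfl
      haveI := (P.subtype hPH).characteristic_of_normal this
      rw [← Subgroup.map_subgroupOf_eq_of_le hPH, ← Sylow.coe_subtype P hPH]
      exact CfsgLib.Solvable.map_subtype_normal _

end Cfsg.Agent.S0532
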