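import Cfsg.Statements.S0533
import Cfsg.Agent.S0532
import Cfsg.Agent.Lib.Solvable.Huppert
import Cfsg.Agent.Lib.Solvable.SchurZassenhaus

set_option autoImplicit false
open Cfsg
open scoped Pointwise commutatorElement

namespace Cfsg.Agent.S0533

/-- If every subgroup of a finite group has subgroups of all orders dividing its order, then the group is supersolvable. -/
theorem result {G : Type*} [Group G] [Finite G] (h : ∀ H : Subgroup G, Cfsg.HasSubgroupOfEveryOrder H) : Cfsg.IsSupersolvable G := by
  induction hn : Nat.card G using Nat.strong_induction_on generalizing G with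
  | _ n ih =>
    subst hn
    rcases subsingleton_or_nontrivial G with hs | hs
    · exact CfsgLib.Solvable.isSupersolvable_of_subsingleton G
    obtain ⟨p, hp, hpd, hmax⟩ := CfsgLib.Solvable.exists_largest_prime (Finite.one_lt_card (α := G))
    haveI : Fact p.Prime := ⟨hp⟩
    obtain ⟨S⟩ := (inferInstance : Nonempty (Sylow p G))
    set P : Subgroup G := (S : Subgroup G)
    have sub : ∀ U : Subgroup G, U ≠ ⊤ → Cfsg.IsSupersolvable U := by
      intro U hU
      refine ih _ (CfsgLib.Solvable.card_subgroup_lt hU) (fun K d hd => ?_) rfl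
      let e := K.equivMapOfInjective _ U.subtype_injective
      obtain ⟨L, hL⟩ := h (K.map U.subtype) d (by rwa [← Nat.card_congr e.toEquiv])
      exact ⟨L.map e.symm.toMonoidHom, by rw [Subgroup.card_map_of_injective e.symm.injective, hL]⟩
    haveI hPn : P.Normal := Cfsg.Agent.S0532.result h p hpd hmax S
    obtain ⟨j, hj⟩ := IsPGroup.iff_card.mp S.2
    have hjc : Nat.card P = p ^ j := hj
    have hj0 : j ≠ 0 := by
      rintro rfl
      exact S.ne_bot_of_dvd_card hpd (Subgroup.card_eq_one.mp (by rw [hjc, pow_zero]))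
    have hcopi : P.index.Coprime p := (hp.coprime_iff_not_dvd.mpr S.not_dvd_index).symm
    have hcopP : (Nat.card P).Coprime P.index := by rw [hjc]; exact hcopi.symm.pow_left _
    obtain ⟨H, hH⟩ := Subgroup.exists_right_complement'_of_coprime (N := P) hcopP
    have hHcard : Nat.card H = P.index := hH.symm.index_eq_card.symm
    have hG : p ^ j * P.index = Nat.card G := by rw [← hjc]; exact P.card_mul_index
    -- a subgroup of index `p`
    obtain ⟨U₀, hU₀⟩ := h ⊤ (Nat.card G / p) (by rw [Subgroup.card_top]; exact Nat.div_dvd_of_dvd hpd)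
    set U := U₀.map (⊤ : Subgroup G).subtype with hU
    have hcU : Nat.card U = p ^ (j - 1) * P.index := by
      rw [hU, Subgroup.card_map_of_injective (Subgroup.subtype_injective _), hU₀, ← hG]
      conv_lhs => rw [show j = (j - 1) + 1 by omega]
      rw [pow_succ', mul_assoc, Nat.mul_div_cancel_left _ hp.pos]
    have hUtop : U ≠ ⊤ := fun he => by
      rw [he, Subgroup.card_top] at hcU
      have h2 := Nat.eq_of_mul_eq_mul_right (Nat.pos_of_ne_zero Subgroup.index_ne_zero_of_finite) (hG.trans hcU)
      have := Nat.pow_right_injective hp.two_le h2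
      omega
    set T := P.subgroupOf U with hT
    have hTc : Nat.card T ∣ p ^ j := hjc ▸ Subgroup.card_comap_dvd_of_injective P U.subtype U.subtype_injective
    have hTi : T.index.Coprime p := hcopi.coprime_dvd_left (Subgroup.relIndex_dvd_index_of_normal P U)
    have hTmul : Nat.card T * T.index = p ^ (j - 1) * P.index := by rw [T.card_mul_index, hcU]
    have hTindex : T.index = P.index := by
      refine Nat.dvd_antisymm (Subgroup.relIndex_dvd_index_of_normal P U) ?_
      exact ((hcopi.pow_right j).coprime_dvd_right hTc).dvd_of_dvd_mul_left (hTmul ▸ dvd_mul_left _ _)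
    have hTcard : Nat.card T = p ^ (j - 1) :=
      Nat.eq_of_mul_eq_mul_right (Nat.pos_of_ne_zero Subgroup.index_ne_zero_of_finite) (hTindex ▸ hTmul)
    obtain ⟨C, hC⟩ := Subgroup.exists_right_complement'_of_coprime (N := T)
      (by rw [hTcard, hTindex]; exact hcopi.symm.pow_left _)
    have hCc : Subgroup.IsComplement' P (C.map U.subtype) := by
      refine CfsgLib.Solvable.isComplement'_of_card_eq_index hcopP ?_
      rw [Subgroup.card_map_of_injective U.subtype_injective, ← hC.symm.index_eq_card, hTindex]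
    haveI : Group.IsSolvable P := by
      haveI : Group.IsNilpotent P := S.2.isNilpotent
      infer_instance
    obtain ⟨g, hg⟩ := CfsgLib.Solvable.exists_conj_eq_of_isComplement' P hcopP (Or.inl inferInstance) hCc hH
    set U' := MulAut.conj g • U with hU'
    have hHU : H ≤ U' := hg ▸ CfsgLib.Solvable.conj_smul_mono g (Subgroup.map_subtype_le C)
    have hU's : Cfsg.IsSupersolvable U' := sub U' fun he => hUtop (by
      have := congrArg (fun X : Subgroup G => MulAut.conj g⁻¹ • X) he
      simp only [hU', CfsgLib.Solvable.conj_smul_conj_smul, inv_mul_cancel, CfsgLib.Solvable.conj_one_smul] at this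
      rw [this, Subgroup.Normal.conj_smul_eq_self])
    set P1 := P ⊓ U' with hP1
    have hP1c : Nat.card P1 = p ^ (j - 1) := by
      rw [hP1, ← Subgroup.Normal.conj_smul_eq_self g P, hU', ← Subgroup.smul_inf, CfsgLib.Solvable.card_conj_smul,
        ← Subgroup.subgroupOf_map_subtype, Subgroup.card_map_of_injective U.subtype_injective, ← hT, hTcard]
    have hP1i : (P1.subgroupOf P).index = p := by
      have h1 := (P1.subgroupOf P).card_mul_index
      rw [Nat.card_congr (Subgroup.subgroupOfEquivOfLe (inf_le_left : P1 ≤ P)).toEquiv, hP1c, hjc] at h1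
      refine Nat.eq_of_mul_eq_mul_left (pow_pos hp.pos (j - 1)) (h1.trans ?_)
      rw [← pow_succ, Nat.sub_add_cancel (Nat.pos_of_ne_zero hj0)]
    haveI hP1n : P1.Normal := by
      rw [← Subgroup.normalizer_eq_top_iff, eq_top_iff, ← hH.sup_eq_top]
      refine sup_le ?_ fun x hx => ?_
      · haveI : Group.IsNilpotent P := S.2.isNilpotent
        refine (Subgroup.normal_subgroupOf_iff_le_normalizer inf_le_left).mp ?_
        rw [← Subgroup.normalizer_eq_top_iff]
        have hlt := Group.normalizerCondition_of_isNilpotent (G := P) (P1.subgroupOf P)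
          (lt_top_iff_ne_top.mpr fun he => by rw [he, Subgroup.index_top] at hP1i; exact hp.ne_one hP1i.symm)
        have h2 := Subgroup.index_strictAnti hlt
        rw [hP1i] at h2
        rcases (Nat.dvd_prime hp).mp (hP1i ▸ Subgroup.index_dvd_of_le hlt.le) with h3 | h3
        · exact Subgroup.index_eq_one.mp h3
        · exact absurd h3 h2.ne
      · rw [← CfsgLib.Solvable.conj_smul_eq_self_iff, hP1, Subgroup.smul_inf,
          Subgroup.Normal.conj_smul_eq_self x P, Subgroup.conj_smul_eq_self_of_mem (hHU hx)]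
    have hHs : Cfsg.IsSupersolvable H := sub H fun he => by
      rw [he, Subgroup.isComplement'_top_right] at hH
      exact S.ne_bot_of_dvd_card hpd hH
    set π := QuotientGroup.mk' P1 with hπ
    have hs' : Function.Surjective π := QuotientGroup.mk'_surjective P1
    haveI : (P.map π).Normal := Subgroup.Normal.map ‹_› π hs'
    have hQs : Cfsg.IsSupersolvable (G ⧸ P1) := by
      haveI : IsCyclic (P.map π) := by
        refine CfsgLib.Solvable.isCyclic_of_card_prime ?_
        have h1 := CfsgLib.Solvable.card_map_mk'_eq P1 (inf_le_left : P1 ≤ P)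
        rw [hP1c, hjc, show p ^ j = p * p ^ (j - 1) by rw [← pow_succ', Nat.sub_add_cancel (Nat.pos_of_ne_zero hj0)]] at h1
        rw [Nat.eq_of_mul_eq_mul_right (pow_pos hp.pos _) h1]
        exact hp
      refine CfsgLib.Solvable.isSupersolvable_of_cyclic_normal (P.map π)
        (CfsgLib.Solvable.isSupersolvable_of_surjective
          (((QuotientGroup.mk' (P.map π)).comp π).comp H.subtype) (fun z => ?_) hHs)
      obtain ⟨y, rfl⟩ := QuotientGroup.mk'_surjective _ z
      obtain ⟨x, rfl⟩ := hs' y
      have hx : x ∈ (P : Set G) * (H : Set G) := by rw [hH.mul_eq]; trivial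
      obtain ⟨a, ha, b, hb, rfl⟩ := Set.mem_mul.mp hx
      refine ⟨⟨b, hb⟩, ?_⟩
      simp only [MonoidHom.comp_apply, Subgroup.coe_subtype, map_mul]
      rw [show QuotientGroup.mk' (P.map π) (π a) = 1 from (QuotientGroup.eq_one_iff _).mpr ⟨a, ha, rfl⟩, one_mul]
    have key : ∀ x ∈ H, ((∃ a b : U', (x : G) = ((⁅a, b⁆ : U') : G)) ∨ ∃ a : U', x = ((a ^ (p - 1) : U') : G)) →
        x ∈ Subgroup.centralizer (P : Set G) := by
      intro x hx hx2
      have hox : (orderOf x).Coprime p := hcopi.coprime_dvd_left (hHcard ▸ Subgroup.orderOf_dvd_natCard H hx)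
      have hcop : (Nat.card (Subgroup.zpowers x)).Coprime (Nat.card P) := by
        rw [Nat.card_zpowers, hjc]; exact hox.pow_right j
      haveI : (P1.subgroupOf U').Normal := Subgroup.normal_subgroupOf
      have c1 : (⟨x, hHU hx⟩ : U') ∈ Subgroup.centralizer ((P1.subgroupOf U') : Set U') := by
        refine CfsgLib.Solvable.mem_centralizer_of_isSupersolvable hU's
          (IsPGroup.of_equiv (IsPGroup.of_card hP1c) (Subgroup.subgroupOfEquivOfLe (inf_le_right : P1 ≤ U')).symm)
          (x := (⟨x, hHU hx⟩ : U')) (by rwa [Subgroup.orderOf_mk]) ?_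
        exact hx2.imp (fun ⟨a, b, e⟩ => ⟨a, b, Subtype.ext e⟩) fun ⟨a, e⟩ => ⟨a, Subtype.ext e⟩
      have c2 : π x ∈ Subgroup.centralizer ((P.map π : Subgroup _) : Set (G ⧸ P1)) :=
        CfsgLib.Solvable.mem_centralizer_of_isSupersolvable hQs (S.2.map π)
          (hox.coprime_dvd_left (orderOf_map_dvd π x))
          (hx2.imp (fun ⟨a, b, e⟩ => ⟨π a, π b, by rw [e, ← map_commutatorElement]; rfl⟩)
            fun ⟨a, e⟩ => ⟨π a, by rw [e, Subgroup.coe_pow, map_pow]⟩)
      refine CfsgLib.OddLocal.le_centralizer_of_stabilizes (inf_le_left : P1 ≤ P) hcop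
        (Subgroup.zpowers_le.mpr (Subgroup.mem_centralizer_iff.mpr fun q hq =>
          congrArg Subtype.val (Subgroup.mem_centralizer_iff.mp c1 ⟨q, hq.2⟩ hq))) (fun a ha y hy => ?_)
        (Subgroup.mem_zpowers x)
      have hca : π a ∈ Subgroup.centralizer ((P.map π : Subgroup _) : Set (G ⧸ P1)) := by
        obtain ⟨i, rfl⟩ := Subgroup.mem_zpowers_iff.mp ha
        rw [map_zpow]; exact Subgroup.zpow_mem _ c2 i
      have h3 := Subgroup.mem_centralizer_iff.mp hca (π y) ⟨y, hy, rfl⟩
      rw [← QuotientGroup.eq_one_iff]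
      show π (a * y * a⁻¹ * y⁻¹) = 1
      rw [map_mul, map_mul, map_mul, map_inv, map_inv, ← h3, mul_inv_cancel_right, mul_inv_cancel]
    refine CfsgLib.Solvable.isSupersolvable_of_action S.2 hH.sup_eq_top hHs ?_ ?_
    · intro a ha b hb
      refine key _ ?_ (Or.inl ⟨⟨a, hHU ha⟩, ⟨b, hHU hb⟩, rfl⟩)
      rw [commutatorElement_def]
      exact mul_mem (mul_mem (mul_mem ha hb) (inv_mem ha)) (inv_mem hb)
    · intro a ha
      exact key _ (pow_mem ha _) (Or.inr ⟨⟨a, hHU ha⟩, rfl⟩)

end Cfsg.Agent.S0533
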