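import Cfsg.Statements.S0542
import Cfsg.Agent.Lib.Solvable.Products

set_option autoImplicit false
open Cfsg

namespace Cfsg.Agent.S0542

/-- A Sylow p-subgroup of a finite group meets every subnormal subgroup H in a Sylow p-subgroup of H. -/
theorem result {G : Type*} [Group G] [Finite G] (p : ℕ) [Fact p.Prime] (H : Subgroup G) (hH : H.IsSubnormal) (S : Sylow p G) : ∃ Q : Sylow p H, (Q : Subgroup H) = (S : Subgroup G).subgroupOf H := by
  induction hH with
  | top =>
    refine ⟨S.subtype (N := (⊤ : Subgroup G)) le_top, ?_⟩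
    rfl
  | step H K hle _ hN ih =>
    obtain ⟨Q, hQ⟩ := ih
    set N := H.subgroupOf K
    have hd : ¬ p ∣ ((Q : Subgroup K).subgroupOf N).index := by
      intro hd
      refine Q.not_dvd_index (hd.trans ?_)
      have h1 := CfsgLib.Solvable.card_mul_set (N : Subgroup K) (Q : Subgroup K)
      rw [← Subgroup.normal_mul N] at h1
      have h2 := (N ⊔ (Q : Subgroup K)).card_subgroup_dvd_card
      rw [← (Q : Subgroup K).card_mul_index] at h2
      have h3 : Nat.card (N ⊔ (Q : Subgroup K) : Subgroup K) = Nat.card Q * (Q : Subgroup K).relIndex N := h1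
      rw [h3] at h2
      exact (Nat.mul_dvd_mul_iff_left Nat.card_pos).mp h2
    have hp' : IsPGroup p ((Q : Subgroup K).subgroupOf N) := Q.2.comap_subtype
    set e := Subgroup.subgroupOfEquivOfLe hle
    refine ⟨(hp'.toSylow hd).mapSurjective (f := e.toMonoidHom) e.surjective, ?_⟩
    show ((Q : Subgroup K).subgroupOf N).map e.toMonoidHom = (S : Subgroup G).subgroupOf H
    ext z
    constructor
    · rintro ⟨w, hw, rfl⟩
      have : (w : K) ∈ (Q : Subgroup K) := hw
      rw [hQ] at this
      exact this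
    · intro hz
      refine ⟨⟨⟨z, hle z.2⟩, z.2⟩, ?_, rfl⟩
      show (⟨z, hle z.2⟩ : K) ∈ (Q : Subgroup K)
      rw [hQ]; exact hz

end Cfsg.Agent.S0542
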