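import Cfsg.Statements.S0547
import Cfsg.Agent.Lib.Perm.Basic
import Cfsg.Agent.Lib.Solvable.MinNormal

set_option autoImplicit false
open Cfsg

namespace Cfsg.Agent.S0547

/-- Let a finite solvable group G act faithfully and primitively on a set, and let M be a minimal normal subgroup of G. Then M is transitive with trivial point stabilizers, and the number of points equals the order of M, which is a prime power p ^ d with d ≥ 1. -/
theorem result {G : Type*} [Group G] [Finite G] [Group.IsSolvable G] {Ω : Type*} [Nonempty Ω] [MulAction G Ω] [FaithfulSMul G Ω] (hprim : MulAction.IsPreprimitive G Ω) (M : Subgroup G) [M.Normal] (hM : M ≠ ⊥) (hmin : ∀ K : Subgroup G, K.Normal → K ≤ M → K = ⊥ ∨ K = M) : MulAction.IsPretransitive M Ω ∧ (∀ ω : Ω, MulAction.stabilizer M ω = ⊥) ∧ ∃ p d : ℕ, p.Prime ∧ 0 < d ∧ Nat.card Ω = p ^ d ∧ Nat.card M = p ^ d := by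
  haveI := hprim
  obtain ⟨p, hp, hMp, -, hab⟩ := CfsgLib.Solvable.exists_isPGroup_of_minimal_normal hM hmin
  haveI : Fact p.Prime := ⟨hp⟩
  haveI := CfsgLib.Perm.normal_isPretransitive (α := Ω) hM
  have hreg : ∀ ω : Ω, MulAction.stabilizer M ω = ⊥ := by
    intro ω
    rw [Subgroup.eq_bot_iff_forall]
    intro m hm
    refine Subtype.ext (FaithfulSMul.eq_of_smul_eq_smul (α := Ω) fun x => ?_)
    obtain ⟨y, rfl⟩ := MulAction.exists_smul_eq M ω x
    have : (m * y) • ω = (y * m) • ω := by rw [hab.is_comm.comm m y]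
    rw [mul_smul, mul_smul, MulAction.mem_stabilizer_iff.mp hm] at this
    rw [Subgroup.coe_one, one_smul]
    exact this
  refine ⟨inferInstance, hreg, ?_⟩
  obtain ⟨d, hd⟩ := IsPGroup.iff_card.mp hMp
  refine ⟨p, d, hp, ?_, ?_, hd⟩
  · rcases Nat.eq_zero_or_pos d with h | h
    · rw [h, pow_zero, Subgroup.card_eq_one] at hd; exact absurd hd hM
    · exact h
  · rw [← hd, CfsgLib.Perm.natCard_eq_of_regular (hreg (Classical.arbitrary Ω))]

end Cfsg.Agent.S0547
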