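import Cfsg.Statements.S0548
import Cfsg.Agent.Lib.Perm.Basic
import Cfsg.Agent.Lib.Solvable.MinNormal

set_option autoImplicit false
open Cfsg

namespace Cfsg.Agent.S0548

/-- Let a finite solvable group G act faithfully and primitively on a set, let M be a minimal normal subgroup and H the stabilizer of a point. Then H is a complement to M, no non-identity element of H centralizes M, and the only subgroups of M normalized by H are the trivial subgroup and M. -/
theorem result {G : Type*} [Group G] [Finite G] [Group.IsSolvable G] {Ω : Type*} [MulAction G Ω] [FaithfulSMul G Ω] (hprim : MulAction.IsPreprimitive G Ω) (M : Subgroup G) [M.Normal] (hM : M ≠ ⊥) (hmin : ∀ K : Subgroup G, K.Normal → K ≤ M → K = ⊥ ∨ K = M) (ω : Ω) : Subgroup.IsComplement' M (MulAction.stabilizer G ω) ∧ MulAction.stabilizer G ω ⊓ Subgroup.centralizer (M : Set G) = ⊥ ∧ ∀ K : Subgroup G, K ≤ M → MulAction.stabilizer G ω ≤ Subgroup.normalizer (K : Set G) → K = ⊥ ∨ K = M := by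
  haveI := hprim
  obtain ⟨p, hp, -, -, hab⟩ := CfsgLib.Solvable.exists_isPGroup_of_minimal_normal hM hmin
  haveI := CfsgLib.Perm.normal_isPretransitive (α := Ω) hM
  have hfix : ∀ g : G, g • ω = ω → (∀ m ∈ M, g * m = m * g) → g = 1 := by
    intro g hg hc
    refine FaithfulSMul.eq_of_smul_eq_smul (α := Ω) fun x => ?_
    obtain ⟨m, rfl⟩ := MulAction.exists_smul_eq M ω x
    rw [one_smul, Subgroup.smul_def, ← mul_smul, hc m m.2, mul_smul, hg]
  have h2 : ∀ g : G, ∃ h : M, h • (g • ω) = ω := fun g => MulAction.exists_smul_eq M (g • ω) ω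
  have hcompl : Subgroup.IsComplement' M (MulAction.stabilizer G ω) := by
    refine Subgroup.isComplement'_stabilizer ω (fun m hm => ?_) h2
    exact Subtype.ext (hfix m hm fun y hy => congrArg Subtype.val (hab.is_comm.comm m ⟨y, hy⟩))
  refine ⟨hcompl, ?_, fun K hKM hK => ?_⟩
  · rw [Subgroup.eq_bot_iff_forall]
    intro g hg
    exact hfix g hg.1 fun m hm => (Subgroup.mem_centralizer_iff.mp hg.2 m hm).symm
  · refine hmin K ?_ hKM
    rw [← Subgroup.normalizer_eq_top_iff, eq_top_iff, ← hcompl.sup_eq_top]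
    refine sup_le (fun m hm => Subgroup.centralizer_le_normalizer (K : Set G) ?_) hK
    exact Subgroup.mem_centralizer_iff.mpr fun k hk => congrArg Subtype.val (hab.is_comm.comm ⟨k, hKM hk⟩ ⟨m, hm⟩)

end Cfsg.Agent.S0548
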