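import Cfsg.Statements.S0549
import Cfsg.Agent.Lib.Solvable.Basic

set_option autoImplicit false
open Cfsg
open scoped Pointwise

namespace Cfsg.Agent.S0549

/-- Let U be a maximal subgroup of a finite group G whose normal core is trivial, and N a nontrivial normal subgroup with centralizer C. Then C ∩ U = 1, and either C = 1 or C is a minimal normal subgroup of G. -/
theorem result {G : Type*} [Group G] [Finite G] (U : Subgroup G) (hU : IsCoatom U) (hcore : U.normalCore = ⊥) (N : Subgroup G) [N.Normal] (hN : N ≠ ⊥) : Subgroup.centralizer (N : Set G) ⊓ U = ⊥ ∧ (Subgroup.centralizer (N : Set G) = ⊥ ∨ (Subgroup.centralizer (N : Set G) ≠ ⊥ ∧ ∀ K : Subgroup G, K.Normal → K ≤ Subgroup.centralizer (N : Set G) → K = ⊥ ∨ K = Subgroup.centralizer (N : Set G))) := by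
  have key : ∀ N : Subgroup G, N.Normal → N ≠ ⊥ → N ⊔ U = ⊤ := fun N hNn hNe => by
    refine hU.2 _ (lt_of_le_of_ne le_sup_right fun he => hNe ?_)
    rw [eq_bot_iff, ← hcore]
    haveI := hNn
    exact Subgroup.normal_le_normalCore.mpr (he ▸ le_sup_left)
  set C := Subgroup.centralizer (N : Set G) with hC
  have hbot : C ⊓ U = ⊥ := by
    have hn : (C ⊓ U).Normal := by
      rw [← Subgroup.normalizer_eq_top_iff, eq_top_iff, ← key N ‹_› hN]
      refine sup_le (le_trans ?_ (Subgroup.centralizer_le_normalizer _)) fun u hu => ?_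
      · rw [Subgroup.le_centralizer_iff]
        exact inf_le_left
      · rw [← CfsgLib.Solvable.conj_smul_eq_self_iff, Subgroup.smul_inf,
          Subgroup.Normal.conj_smul_eq_self u C, Subgroup.conj_smul_eq_self_of_mem hu]
    haveI := hn
    rw [eq_bot_iff, ← hcore]
    exact Subgroup.normal_le_normalCore.mpr inf_le_right
  refine ⟨hbot, or_iff_not_imp_left.mpr fun hne => ⟨hne, fun K hKn hKC => or_iff_not_imp_left.mpr fun hKe => ?_⟩⟩
  refine le_antisymm hKC fun c hc => ?_
  haveI := hKn
  have hc' : c ∈ ((K ⊔ U : Subgroup G) : Set G) := by rw [key K hKn hKe]; trivial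
  rw [Subgroup.normal_mul] at hc'
  obtain ⟨k, hk, u, hu, rfl⟩ := Set.mem_mul.mp hc'
  have : u ∈ C ⊓ U := ⟨(C.mul_mem_cancel_left (hKC hk)).mp hc, hu⟩
  rw [hbot, Subgroup.mem_bot] at this
  rwa [this, mul_one]

end Cfsg.Agent.S0549
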