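import Cfsg.Statements.S0552
import Cfsg.Agent.Lib.Solvable.HallHigman

import Mathlib.Tactic.Group

set_option autoImplicit false
open Cfsg

namespace Cfsg.Agent.S0552

/-- Let σ be an automorphism of a finite solvable group G fixing every element of the Fitting subgroup. If σ is not the identity then the order of σ and the order of G have a common prime factor. -/
theorem result {G : Type*} [Group G] [Finite G] [Group.IsSolvable G] (σ : G ≃* G) (hσ : ∀ x ∈ Cfsg.fittingSubgroup G, σ x = x) (hne : σ ≠ MulEquiv.refl G) : ¬ (orderOf σ).Coprime (Nat.card G) := by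
  intro hcop
  apply hne
  set F := Cfsg.fittingSubgroup G with hF
  haveI hFn : F.Normal := CfsgLib.Solvable.fittingSubgroup_normal G
  ext g
  have hc : g⁻¹ * σ g ∈ F := by
    refine CfsgLib.Solvable.centralizer_fittingSubgroup_le (Subgroup.mem_centralizer_iff.mpr fun f hf => ?_)
    have h1 := hσ _ (hFn.conj_mem f hf g)
    rw [map_mul, map_mul, map_inv, hσ f hf] at h1
    calc f * (g⁻¹ * σ g) = g⁻¹ * (g * f * g⁻¹) * σ g := by group
      _ = g⁻¹ * σ g * f := by rw [← h1]; group
  set c := g⁻¹ * σ g with hc'
  have key : ∀ n : ℕ, (σ ^ n : G ≃* G) g = g * c ^ n := by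
    intro n
    induction n with
    | zero => simp
    | succ n ih =>
      rw [pow_succ', MulAut.mul_apply, ih, map_mul, map_pow, hσ c hc, pow_succ' c n, ← mul_assoc g c,
        show g * c = σ g from mul_inv_cancel_left _ _]
  have h1 := key (orderOf σ)
  rw [pow_orderOf_eq_one, MulAut.one_apply, left_eq_mul, ← orderOf_dvd_iff_pow_eq_one] at h1
  have h2 : c = 1 := orderOf_eq_one_iff.mp
    (Nat.eq_one_of_dvd_coprimes hcop h1 (orderOf_dvd_natCard c))
  rw [hc', inv_mul_eq_one] at h2
  simpa using h2.symm

end Cfsg.Agent.S0552
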