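import Cfsg.Statements.S0554
import Cfsg.Agent.Lib.Solvable.MinNormal
import Cfsg.Agent.Lib.Solvable.PCore

set_option autoImplicit false
open Cfsg

namespace Cfsg.Agent.S0554

theorem prod_ofFn_mul_mem {G : Type*} [Group G] {N : Subgroup G} [hN : N.Normal] :
    ∀ (t : ℕ) (w : Fin t → G) (j : Fin t) (n : G), n ∈ N →
      ∃ y ∈ N, (List.ofFn w).prod * n = (List.ofFn (Function.update w j (w j * y))).prod := by
  intro t
  induction t with
  | zero => intro _ j; exact j.elim0
  | succ t ih =>
    intro w j n hn
    rw [List.ofFn_succ, List.prod_cons]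
    cases j using Fin.cases with
    | zero =>
      refine ⟨(List.ofFn fun i : Fin t => w i.succ).prod * n * (List.ofFn fun i : Fin t => w i.succ).prod⁻¹,
        hN.conj_mem n hn _, ?_⟩
      rw [List.ofFn_succ, List.prod_cons, Function.update_self]
      have : (fun i : Fin t => Function.update w 0 (w 0 * ((List.ofFn fun i : Fin t => w i.succ).prod * n * (List.ofFn fun i : Fin t => w i.succ).prod⁻¹)) i.succ) = fun i : Fin t => w i.succ :=
        funext fun i => Function.update_of_ne (Fin.succ_ne_zero i) _ _
      rw [this]; group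
    | succ j =>
      obtain ⟨y, hy, he⟩ := ih (fun i => w i.succ) j n hn
      refine ⟨y, hy, ?_⟩
      rw [List.ofFn_succ, List.prod_cons, Function.update_of_ne (Fin.succ_ne_zero j).symm, mul_assoc, he]
      congr 3
      funext i
      by_cases hij : i = j
      · subst hij; simp
      · rw [Function.update_of_ne hij, Function.update_of_ne (fun h => hij (Fin.succ_injective _ h))]


/-- Let G be a finite solvable group and let S assign to each of t distinct primes, including every prime divisor of the order of G, a Sylow subgroup of G. Then every element of G is a product s_0 s_1 ⋯ s_(t-1) with s_i in S i, the factors taken in the given order. -/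
theorem result {G : Type*} [Group G] [Finite G] [Group.IsSolvable G] (t : ℕ) (p : Fin t → ℕ) (hp : ∀ i, (p i).Prime) (hinj : Function.Injective p) (hall : ∀ q : ℕ, q.Prime → q ∣ Nat.card G → ∃ i, p i = q) (S : (i : Fin t) → Sylow (p i) G) : ∀ g : G, ∃ s : (i : Fin t) → G, (∀ i, s i ∈ (S i : Subgroup G)) ∧ g = (List.ofFn s).prod := by
  induction hn : Nat.card G using Nat.strong_induction_on generalizing G with
  | _ n ih =>
    subst hn
    by_cases htriv : Subsingleton G
    · intro g
      exact ⟨fun _ => 1, fun i => Subgroup.one_mem _, Subsingleton.elim _ _⟩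
    haveI := not_subsingleton_iff_nontrivial.mp htriv
    obtain ⟨N, hNn, hNne, hmin⟩ := CfsgLib.Solvable.exists_minimal_normal (G := G)
    haveI := hNn
    obtain ⟨q, hq, hNq, -, -⟩ := CfsgLib.Solvable.exists_isPGroup_of_minimal_normal hNne hmin
    haveI : Fact q.Prime := ⟨hq⟩
    obtain ⟨j, hj⟩ : ∃ j, p j = q := by
      obtain ⟨k, hk⟩ := IsPGroup.iff_card.mp hNq
      refine hall q hq ((dvd_pow_self q (fun hk0 => hNne ?_)).trans (hk ▸ N.card_subgroup_dvd_card))
      rw [← Subgroup.card_eq_one, hk, hk0, pow_zero]
    subst hj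
    have hNS : N ≤ (S j : Subgroup G) := CfsgLib.Solvable.normal_pgroup_le_sylow hNq (S j)
    set π := QuotientGroup.mk' N
    have hs : Function.Surjective π := QuotientGroup.mk'_surjective N
    haveI : ∀ i, Fact (p i).Prime := fun i => ⟨hp i⟩
    intro g
    obtain ⟨s, hsS, hsg⟩ := ih _ (CfsgLib.Solvable.card_quotient_lt hNne)
      (fun r hr hd => hall r hr (hd.trans N.card_quotient_dvd_card))
      (fun i => (S i).mapSurjective hs) rfl (π g)
    choose w hwS hw using hsS
    have hdiff : (List.ofFn w).prod⁻¹ * g ∈ N := by
      have h2 : π (List.ofFn w).prod = π g := by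
        rw [map_list_prod, List.map_ofFn, hsg]
        congr 2; funext i; exact hw i
      exact QuotientGroup.eq.mp h2
    obtain ⟨y, hy, he⟩ := prod_ofFn_mul_mem t w j _ hdiff
    refine ⟨Function.update w j (w j * y), fun i => ?_, by rw [← he, mul_inv_cancel_left]⟩
    by_cases hij : i = j
    · subst hij; rw [Function.update_self]; exact Subgroup.mul_mem _ (hwS i) (hNS hy)
    · rw [Function.update_of_ne hij]; exact hwS i

end Cfsg.Agent.S0554
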