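import Cfsg.Statements.S0555
import Cfsg.Agent.Lib.Solvable.Basic

set_option autoImplicit false
open Cfsg
open scoped Pointwise commutatorElement

namespace Cfsg.Agent.S0555

/-- Let i ≥ 1. If in the derived series of a group the quotient of the i-th term by the (i+1)-st and the quotient of the (i+1)-st by the (i+2)-nd are both cyclic, then the (i+1)-st and (i+2)-nd terms coincide. -/
theorem result {G : Type*} [Group G] (i : ℕ) (hi : 1 ≤ i) (h₁ : IsCyclic (↥(derivedSeries G i) ⧸ (derivedSeries G (i + 1)).subgroupOf (derivedSeries G i))) (h₂ : IsCyclic (↥(derivedSeries G (i + 1)) ⧸ (derivedSeries G (i + 2)).subgroupOf (derivedSeries G (i + 1)))) : derivedSeries G (i + 1) = derivedSeries G (i + 2) := by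
  set A := derivedSeries G i
  set B := derivedSeries G (i + 1) with hB
  set D := derivedSeries G (i + 2) with hD
  haveI : A.Normal := derivedSeries_normal G i
  haveI : B.Normal := derivedSeries_normal G (i + 1)
  haveI : D.Normal := derivedSeries_normal G (i + 2)
  have hBA : B ≤ A := derivedSeries_antitone G (Nat.le_succ i)
  have hDB : D ≤ B := derivedSeries_antitone G (Nat.le_succ (i + 1))
  have hAG : A ≤ commutator G := derivedSeries_one G ▸ derivedSeries_antitone G hi
  set π := QuotientGroup.mk' D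
  haveI : IsCyclic (B.map π) := by
    let e : (↥B ⧸ D.subgroupOf B) →* B.map π := QuotientGroup.lift _ (π.subgroupMap B) fun x hx => Subtype.ext ((QuotientGroup.eq_one_iff (x : G)).mpr hx)
    exact isCyclic_of_surjective e (QuotientGroup.lift_surjective_of_surjective _ _ (π.subgroupMap_surjective B) _)
  haveI : (B.map π).Normal := Subgroup.Normal.map ‹_› π (QuotientGroup.mk'_surjective D)
  let φ : G →* MulAut (B.map π) := MulAut.conjNormal.comp π
  have hker : commutator G ≤ φ.ker := by
    rw [commutator_def, Subgroup.commutator_le]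
    intro x _ y _
    rw [MonoidHom.mem_ker, map_commutatorElement, commutatorElement_eq_one_iff_mul_comm]
    obtain ⟨u, hu⟩ := MonoidHom.map_cyclic (φ x).toMonoidHom
    obtain ⟨v, hv⟩ := MonoidHom.map_cyclic (φ y).toMonoidHom
    ext z
    simp only [MulAut.mul_apply]
    rw [show φ x (φ y z) = (φ y z) ^ u from hu _, show φ y z = z ^ v from hv z,
      show φ y (φ x z) = (φ x z) ^ v from hv _, show φ x z = z ^ u from hu z, ← zpow_mul, ← zpow_mul, mul_comm]
  have hcen : ∀ a ∈ A, ∀ b ∈ B, π a * π b = π b * π a := by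
    intro a ha b hb
    have h := congrArg Subtype.val (DFunLike.congr_fun (MonoidHom.mem_ker.mp (hker (hAG ha))) ⟨π b, b, hb, rfl⟩)
    simp only [φ, MonoidHom.comp_apply, MulAut.conjNormal_apply, MulAut.one_apply] at h
    exact (mul_inv_eq_iff_eq_mul.mp h)
  obtain ⟨⟨a₀⟩, ha₀⟩ := h₁.exists_generator |>.imp' (fun q => q) fun _ h => h
  refine le_antisymm ?_ hDB
  rw [show B = ⁅A, A⁆ from derivedSeries_succ G i, Subgroup.commutator_le]
  intro x hx y hy
  rw [← QuotientGroup.eq_one_iff]
  change π ⁅x, y⁆ = 1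
  rw [map_commutatorElement, commutatorElement_eq_one_iff_mul_comm]
  have dec : ∀ z ∈ A, ∃ k : ℤ, ∃ b ∈ B, π z = π (a₀ : G) ^ k * π b := by
    intro z hz
    obtain ⟨k, hk⟩ := ha₀ (QuotientGroup.mk ⟨z, hz⟩)
    have h1 : ((a₀ ^ k : A) : ↥A ⧸ B.subgroupOf A) = ((⟨z, hz⟩ : A) : ↥A ⧸ B.subgroupOf A) := hk
    have h2 : ((a₀ : G) ^ k)⁻¹ * z ∈ B := by
      have := QuotientGroup.eq.mp h1
      rwa [Subgroup.mem_subgroupOf] at this
    exact ⟨k, _, h2, by rw [← map_zpow, ← map_mul, mul_inv_cancel_left]⟩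
  obtain ⟨k, b, hb, hxe⟩ := dec x hx
  obtain ⟨l, c, hc, hye⟩ := dec y hy
  rw [hxe, hye]
  have c1 : Commute (π (a₀ : G) ^ k) (π c) := (show Commute (π (a₀ : G)) (π c) from hcen _ a₀.2 c hc).zpow_left k
  have c2 : Commute (π b) (π (a₀ : G) ^ l) := (show Commute (π (a₀ : G)) (π b) from hcen _ a₀.2 b hb).symm.zpow_right l
  have c3 : Commute (π b) (π c) := hcen b (hBA hb) c hc
  exact ((Commute.zpow_zpow_self _ k l).mul_right c1).mul_left (c2.mul_right c3)

end Cfsg.Agent.S0555
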