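import Cfsg.Statements.S0560
import Cfsg.Agent.Lib.Solvable.Products
import Cfsg.Agent.Lib.Solvable.PCore

set_option autoImplicit false
open Pointwise
open Cfsg
open scoped Pointwise commutatorElement

namespace Cfsg.Agent.S0560

/-- Let the finite group G be the product HK of two subgroups and p a prime. Then there are Sylow p-subgroups P of H and Q of K and a Sylow p-subgroup R of G whose underlying set is the product set of P and Q. -/
theorem result {G : Type*} [Group G] [Finite G] (H K : Subgroup G) (hHK : ∀ g : G, ∃ h ∈ H, ∃ k ∈ K, g = h * k) (p : ℕ) [Fact p.Prime] : ∃ (P : Sylow p H) (Q : Sylow p K) (R : Sylow p G), ((R : Subgroup G) : Set G) = (((P : Subgroup H).map H.subtype : Subgroup G) : Set G) * (((Q : Subgroup K).map K.subtype : Subgroup G) : Set G) := by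
  obtain ⟨P0⟩ := (inferInstance : Nonempty (Sylow p H))
  obtain ⟨Q0⟩ := (inferInstance : Nonempty (Sylow p K))
  obtain ⟨R0, hR0⟩ := (P0.2.map H.subtype).exists_le_sylow
  obtain ⟨R1, hR1⟩ := (Q0.2.map K.subtype).exists_le_sylow
  obtain ⟨g, hg⟩ := MulAction.exists_smul_eq G R0 R1
  obtain ⟨k, hk, h, hh, hkh⟩ : ∃ k ∈ K, ∃ h ∈ H, g = k * h := by
    obtain ⟨h, hh, k, hk, he⟩ := hHK g⁻¹
    exact ⟨k⁻¹, K.inv_mem hk, h⁻¹, H.inv_mem hh, by rw [← mul_inv_rev, ← he, inv_inv]⟩
  set P : Sylow p H := (⟨h, hh⟩ : H) • P0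
  set Q : Sylow p K := (⟨k⁻¹, K.inv_mem hk⟩ : K) • Q0
  refine ⟨P, Q, h • R0, ?_⟩
  have hP : (P : Subgroup H).map H.subtype ≤ ((h • R0 : Sylow p G) : Subgroup G) := by
    rw [Sylow.coe_subgroup_smul, Sylow.coe_subgroup_smul, CfsgLib.Solvable.conj_smul_subtype]
    exact CfsgLib.Solvable.conj_smul_mono h hR0
  have hQ : (Q : Subgroup K).map K.subtype ≤ ((h • R0 : Sylow p G) : Subgroup G) := by
    rw [Sylow.coe_subgroup_smul, Sylow.coe_subgroup_smul, CfsgLib.Solvable.conj_smul_subtype]
    rw [← hg, Sylow.coe_subgroup_smul, hkh] at hR1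
    have := CfsgLib.Solvable.conj_smul_mono k⁻¹ hR1
    rwa [CfsgLib.Solvable.conj_smul_conj_smul, inv_mul_cancel_left] at this
  set A := (P : Subgroup H).map H.subtype
  set B := (Q : Subgroup K).map K.subtype
  refine (Set.eq_of_subset_of_ncard_le (Subgroup.mul_subset hP hQ) ?_).symm
  rw [← Nat.card_coe_set_eq, ← Nat.card_coe_set_eq]
  show Nat.card (h • R0 : Sylow p G) ≤ _
  have hAB := CfsgLib.Solvable.card_mul_set_mul_card_inf A B
  have hG := (CfsgLib.Solvable.forall_exists_mul_iff_card H K).mp hHK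
  have hle : Nat.card (A ⊓ B : Subgroup G) ≤ p ^ (Nat.card (H ⊓ K : Subgroup G)).factorization p := by
    obtain ⟨e, he⟩ := IsPGroup.iff_card.mp ((P.2.map H.subtype).to_inf_left (K := B))
    rw [he]
    refine Nat.le_of_dvd (pow_pos (Fact.out : p.Prime).pos _) ?_
    refine pow_dvd_pow p (((Fact.out : p.Prime).pow_dvd_iff_le_factorization Nat.card_pos.ne').mp ?_)
    rw [← he]
    exact Subgroup.card_dvd_of_le (inf_le_inf (Subgroup.map_subtype_le _) (Subgroup.map_subtype_le _))
  have hfac := congrArg (fun x => x.factorization p) hG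
  simp only [Nat.factorization_mul Nat.card_pos.ne' Nat.card_pos.ne', Finsupp.add_apply] at hfac
  have hcA : Nat.card A = p ^ (Nat.card H).factorization p := by
    rw [CfsgLib.Solvable.card_map_subtype]; exact P.card_eq_multiplicity
  have hcB : Nat.card B = p ^ (Nat.card K).factorization p := by
    rw [CfsgLib.Solvable.card_map_subtype]; exact Q.card_eq_multiplicity
  rw [(h • R0).card_eq_multiplicity]
  refine Nat.le_of_mul_le_mul_right ?_ (pow_pos (Fact.out : p.Prime).pos ((Nat.card (H ⊓ K : Subgroup G)).factorization p))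
  rw [← pow_add, hfac, pow_add, ← hcA, ← hcB, ← hAB]
  exact Nat.mul_le_mul_left _ hle

end Cfsg.Agent.S0560
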