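import Cfsg.Statements.S0563
import Cfsg.Agent.Lib.Solvable.KegelWielandt

set_option autoImplicit false
open Pointwise
open Cfsg

namespace Cfsg.Agent.S0563

/-- If a finite group G is the product AB of two nilpotent subgroups of coprime orders, then G is solvable, and for every Sylow p-subgroup P of A and Sylow q-subgroup Q of B the product set PQ is a subgroup. -/
theorem result {G : Type*} [Group G] [Finite G] (A B : Subgroup G) (hA : Group.IsNilpotent A) (hB : Group.IsNilpotent B) (hcop : (Nat.card A).Coprime (Nat.card B)) (hAB : ∀ g : G, ∃ a ∈ A, ∃ b ∈ B, g = a * b) : Group.IsSolvable G ∧ ∀ (p q : ℕ) [Fact p.Prime] [Fact q.Prime] (P : Sylow p A) (Q : Sylow q B), ∃ S : Subgroup G, (S : Set G) = (((P : Subgroup A).map A.subtype : Subgroup G) : Set G) * (((Q : Subgroup B).map B.subtype : Subgroup G) : Set G) := by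
  have hsolv := CfsgLib.Solvable.isSolvable_of_mul_nilpotent A B hA hB hAB
  refine ⟨hsolv, fun p q _ _ P Q => ?_⟩
  have hn : ∀ (C : Subgroup G), Group.IsNilpotent C → ∀ (r : ℕ) [Fact r.Prime] (T : Sylow r C),
      (((T : Subgroup C).map C.subtype).subgroupOf C).Normal := by
    intro C hC r _ T
    have := hC
    rw [← Subgroup.comap_subtype, Subgroup.comap_map_eq_self_of_injective C.subtype_injective]
    exact T.normal_of_normalizerCondition Group.normalizerCondition_of_isNilpotent
  have hinf : A ⊓ B = ⊥ := disjoint_iff.1 (Subgroup.disjoint_of_coprime_natCard hcop)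
  have hcard : Nat.card G = Nat.card A * Nat.card B := by
    have := (CfsgLib.Solvable.forall_exists_mul_iff_card A B).1 hAB
    rwa [hinf, Subgroup.card_bot, mul_one] at this
  have hhall : ∀ (C D : Subgroup G), Nat.card G = Nat.card C * Nat.card D →
      (Nat.card C).Coprime (Nat.card D) → ∀ (r : ℕ) [Fact r.Prime] (T : Sylow r C),
      (Nat.card ((T : Subgroup C).map C.subtype)).Coprime ((T : Subgroup C).map C.subtype).index := by
    intro C D hCD hc r _ T
    rw [Subgroup.card_map_of_injective C.subtype_injective, Subgroup.index_map_subtype]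
    refine Nat.Coprime.mul_right T.card_coprime_index ?_
    refine hc.coprime_dvd_left (T : Subgroup C).card_subgroup_dvd_card |>.coprime_dvd_right
      (dvd_of_eq (Nat.eq_of_mul_eq_mul_left (Nat.card_pos (α := C)) ?_))
    rw [C.card_mul_index, hCD]
  exact CfsgLib.Solvable.exists_coe_eq_mul_of_hall hAB (Subgroup.map_subtype_le _) (hn A hA p P)
    (Subgroup.map_subtype_le _) (hn B hB q Q) (hhall A B hcard hcop p P)
    (hhall B A (by rw [hcard, mul_comm]) hcop.symm q Q)

end Cfsg.Agent.S0563
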