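import Cfsg.Statements.S0567
import Cfsg.Agent.Lib.Solvable.Basic

set_option autoImplicit false
open Cfsg
open scoped Pointwise commutatorElement

namespace Cfsg.Agent.S0567

/-- A subgroup H of a group G is subnormal exactly when, for some m, the subgroup obtained from G by taking the commutator with H m times in succession is contained in H. -/
theorem result {G : Type*} [Group G] (H : Subgroup G) : H.IsSubnormal ↔ ∃ m : ℕ, (fun K : Subgroup G => ⁅K, H⁆)^[m] ⊤ ≤ H := by
  constructor
  · intro h
    induction h with
    | top => exact ⟨0, le_rfl⟩
    | step A B hle _ hN ih =>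
      obtain ⟨m, hm⟩ := ih
      refine ⟨m + 1, ?_⟩
      have hmono : ∀ i, (fun K : Subgroup G => ⁅K, A⁆)^[i] ⊤ ≤ (fun K : Subgroup G => ⁅K, B⁆)^[i] ⊤ := by
        intro i
        induction i with
        | zero => exact le_rfl
        | succ i ihi =>
          rw [Function.iterate_succ_apply', Function.iterate_succ_apply']
          exact Subgroup.commutator_mono ihi hle
      rw [Function.iterate_succ_apply']
      refine (Subgroup.commutator_mono ((hmono m).trans hm) le_rfl).trans ?_
      exact Subgroup.le_normalizer_iff_commutator_le_right.mp
        ((Subgroup.normal_subgroupOf_iff_le_normalizer hle).mp hN)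
  · rintro ⟨m, hm⟩
    set f := fun K : Subgroup G => ⁅K, H⁆ with hf
    have hnorm : ∀ i, H ≤ Subgroup.normalizer ((f^[i] ⊤ : Subgroup G) : Set G) := by
      intro i
      cases i with
      | zero => rw [Function.iterate_zero_apply, Subgroup.normalizer_eq_top]; exact le_top
      | succ i =>
        rw [Function.iterate_succ_apply']
        exact Subgroup.normalizer_commutator_ge_right _ _
    have hsub : ∀ i, (H ⊔ f^[i] ⊤).IsSubnormal := by
      intro i
      induction i with
      | zero => simp
      | succ i ihi =>
        have hX : ⁅f^[i] ⊤, H⁆ ≤ f^[i] ⊤ := Subgroup.le_normalizer_iff_commutator_le_left.mp (hnorm i)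
        have hle : H ⊔ f^[i + 1] ⊤ ≤ H ⊔ f^[i] ⊤ := by
          rw [Function.iterate_succ_apply']
          exact sup_le_sup_left hX H
        refine Subgroup.IsSubnormal.step _ _ hle ihi
          ((Subgroup.normal_subgroupOf_iff_le_normalizer hle).mpr (sup_le ?_ ?_))
        · exact le_sup_left.trans Subgroup.le_normalizer
        · rw [Function.iterate_succ_apply']
          set X := f^[i] ⊤
          have key : ∀ x ∈ X, MulAut.conj x • (H ⊔ ⁅X, H⁆) ≤ H ⊔ ⁅X, H⁆ := by
            intro x hx
            rw [Subgroup.smul_sup]
            refine sup_le ?_ ?_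
            · intro z hz
              rw [CfsgLib.Solvable.mem_conj_smul] at hz
              have h2 := Subgroup.mul_mem _ (Subgroup.mem_sup_right (S := H) (Subgroup.commutator_mem_commutator hx hz)) (Subgroup.mem_sup_left (T := ⁅X, H⁆) hz)
              simpa [commutatorElement_def, mul_assoc] using h2
            · rw [CfsgLib.Solvable.conj_smul_eq_self_iff.mpr (Subgroup.normalizer_commutator_ge_left X H hx)]
              exact le_sup_right
          intro x hx
          rw [← CfsgLib.Solvable.conj_smul_eq_self_iff]
          refine le_antisymm (key x hx) ?_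
          have h2 := CfsgLib.Solvable.conj_smul_mono x (key x⁻¹ (Subgroup.inv_mem _ hx))
          rwa [CfsgLib.Solvable.conj_smul_conj_smul, mul_inv_cancel, CfsgLib.Solvable.conj_one_smul] at h2
    have := hsub m
    rwa [sup_eq_left.mpr hm] at this

end Cfsg.Agent.S0567
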