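import Cfsg.Statements.S0576
import Cfsg.Agent.Lib.Solvable.Frattini2

set_option autoImplicit false
open Cfsg

namespace Cfsg.Agent.S0576

/-- Let H be a normal subgroup of a finite group G with H contained in the Frattini subgroup of G. Then the group of inner automorphisms of H is contained in the Frattini subgroup of the automorphism group of H. -/
theorem result {G : Type*} [Group G] [Finite G] (H : Subgroup G) [H.Normal] (hH : H ≤ frattini G) : (MulAut.conj : ↥H →* MulAut ↥H).range ≤ frattini (MulAut ↥H) := by
  have hn : (MulAut.conj : H →* MulAut H).range.Normal := by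
    refine ⟨fun x hx f => ?_⟩
    obtain ⟨y, rfl⟩ := hx
    refine ⟨f y, ?_⟩
    ext z
    simp
  refine CfsgLib.Solvable.le_frattini_of_le_frattini_subgroup
    (Y := (MulAut.conjNormal : G →* MulAut H).range) ?_
  rintro x ⟨h, rfl⟩
  set φ := (MulAut.conjNormal : G →* MulAut H).rangeRestrict
  refine ⟨φ h, frattini_le_comap_frattini_of_surjective (MonoidHom.rangeRestrict_surjective _) (hH h.2), ?_⟩
  ext z
  simp [φ]

end Cfsg.Agent.S0576
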