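import Cfsg.Statements.S0583
import Cfsg.Agent.Lib.Solvable.Fitting
import Cfsg.Agent.Lib.Solvable.Nilpotent

set_option autoImplicit false
open Cfsg

namespace Cfsg.Agent.S0583

/-- In a finite group the Fitting subgroup is contained in the centralizer of each minimal normal subgroup. -/
theorem result {G : Type*} [Group G] [Finite G] (M : Subgroup G) [M.Normal] (hM : M ≠ ⊥) (hmin : ∀ K : Subgroup G, K.Normal → K ≤ M → K = ⊥ ∨ K = M) : Cfsg.fittingSubgroup G ≤ Subgroup.centralizer (M : Set G) := by
  have := CfsgLib.Solvable.fittingSubgroup_normal G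
  rcases hmin (Cfsg.fittingSubgroup G ⊓ M) inferInstance inf_le_right with h | h
  · refine Subgroup.le_centralizer_iff.mp fun m hm => ?_
    rw [Subgroup.mem_centralizer_iff]
    intro f hf
    exact (Subgroup.commute_of_normal_of_disjoint _ _ (CfsgLib.Solvable.fittingSubgroup_normal G) ‹M.Normal› (disjoint_iff.mpr h) f m hf hm)
  · -- `M ≤ F`; `M` meets the centre of `F` nontrivially
    have hMF : M ≤ Cfsg.fittingSubgroup G := h ▸ inf_le_left
    have := CfsgLib.Solvable.fittingSubgroup_isNilpotent (G := G)
    have := CfsgLib.Solvable.fittingSubgroup_normal G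
    have hne : M.subgroupOf (Cfsg.fittingSubgroup G) ≠ ⊥ := fun he => hM (by
      rw [Subgroup.subgroupOf_eq_bot, disjoint_iff, inf_eq_left.mpr hMF] at he
      exact he)
    have key := CfsgLib.Solvable.normal_inf_center_ne_bot (M.subgroupOf (Cfsg.fittingSubgroup G)) hne
    set Z := (Subgroup.center (Cfsg.fittingSubgroup G)).map (Cfsg.fittingSubgroup G).subtype
    rcases hmin (M ⊓ Z) inferInstance inf_le_left with h2 | h2
    · exfalso
      apply key
      rw [eq_bot_iff]
      intro x hx
      have : (x : G) ∈ M ⊓ Z := ⟨hx.1, x, hx.2, rfl⟩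
      rw [h2, Subgroup.mem_bot] at this
      exact Subgroup.mem_bot.mpr (Subtype.ext this)
    · intro f hf
      rw [Subgroup.mem_centralizer_iff]
      intro m hm
      obtain ⟨z, hz, rfl⟩ := (h2.ge hm).2
      exact (congrArg Subtype.val (Subgroup.mem_center_iff.mp hz ⟨f, hf⟩)).symm

end Cfsg.Agent.S0583
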