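import Cfsg.Statements.S0586
import Cfsg.Agent.Lib.Solvable.Frattini2

set_option autoImplicit false
open Cfsg
open scoped Pointwise

namespace Cfsg.Agent.S0586

/-- If the Frattini subgroup of a finite group G is trivial, then the Fitting subgroup of G equals the join of all abelian minimal normal subgroups of G. -/
theorem result {G : Type*} [Group G] [Finite G] (hΦ : frattini G = ⊥) : Cfsg.fittingSubgroup G = sSup {N : Subgroup G | N.Normal ∧ N ≠ ⊥ ∧ IsMulCommutative N ∧ ∀ K : Subgroup G, K.Normal → K ≤ N → K = ⊥ ∨ K = N} := by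
  open scoped IsMulCommutative in
  set F := Cfsg.fittingSubgroup G with hF
  haveI hFn : F.Normal := CfsgLib.Solvable.fittingSubgroup_normal G
  haveI hFnil : Group.IsNilpotent F := CfsgLib.Solvable.fittingSubgroup_isNilpotent
  haveI hFab : IsMulCommutative F := by
    have h1 : (commutator F).map F.subtype ≤ frattini G :=
      CfsgLib.Solvable.le_frattini_of_le_frattini_subgroup
        (Subgroup.map_mono CfsgLib.Solvable.commutator_le_frattini)
    rw [hΦ, le_bot_iff, Subgroup.map_eq_bot_iff_of_injective _ F.subtype_injective] at h1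
    refine ⟨⟨fun a b => ?_⟩⟩
    have h2 := Subgroup.commutator_mem_commutator (Subgroup.mem_top a) (Subgroup.mem_top b)
    rw [← commutator_def, h1, Subgroup.mem_bot, commutatorElement_eq_one_iff_mul_comm] at h2
    exact h2
  set S := {N : Subgroup G | N.Normal ∧ N ≠ ⊥ ∧ IsMulCommutative N ∧ ∀ K : Subgroup G, K.Normal → K ≤ N → K = ⊥ ∨ K = N}
  haveI hAn : (sSup S).Normal := Subgroup.sSup_normal _ fun N hN => hN.1
  have hAF : sSup S ≤ F := sSup_le fun N hN =>
    CfsgLib.Solvable.le_fittingSubgroup_of_isMulCommutative hN.1 hN.2.2.1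
  refine le_antisymm ?_ hAF
  haveI : IsMulCommutative (sSup S : Subgroup G) :=
    ⟨⟨fun a b => Subtype.ext (congrArg (fun z : F => (z : G))
      (hFab.is_comm.comm ⟨a.1, hAF a.2⟩ ⟨b.1, hAF b.2⟩))⟩⟩
  obtain ⟨C, hC⟩ := CfsgLib.Solvable.exists_isComplement'_of_inf_frattini
    (A := sSup S) (by rw [hΦ, inf_bot_eq])
  have hn : (F ⊓ C).Normal := CfsgLib.Solvable.inf_normal_of_sup_eq_top
    (top_le_iff.mp (hC.sup_eq_top.ge.trans (sup_le_sup_right hAF C)))
  by_cases hb : F ⊓ C = ⊥
  · intro x hx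
    have hx' : x ∈ ((sSup S : Subgroup G) : Set G) * (C : Set G) := by rw [hC.mul_eq]; trivial
    obtain ⟨a, ha, c, hc, rfl⟩ := Set.mem_mul.mp hx'
    have : c ∈ F ⊓ C := ⟨(F.mul_mem_cancel_left (hAF ha)).mp hx, hc⟩
    rw [hb, Subgroup.mem_bot] at this
    rwa [this, mul_one]
  · exfalso
    obtain ⟨N, h1, h2, h3, h4⟩ := CfsgLib.Solvable.exists_minimal_normal_le hn hb
    have hNab : IsMulCommutative N :=
      ⟨⟨fun a b => Subtype.ext (congrArg (fun z : F => (z : G))
        (hFab.is_comm.comm ⟨a.1, (h3 a.2).1⟩ ⟨b.1, (h3 b.2).1⟩))⟩⟩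
    exact h2 (le_bot_iff.mp ((le_inf (le_sSup (show N ∈ S from ⟨h1, h2, hNab, h4⟩)) (h3.trans inf_le_right)).trans
      hC.disjoint.le_bot))

end Cfsg.Agent.S0586
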