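import Cfsg.Statements.S0588
import Cfsg.Agent.Lib.Solvable.PCore

set_option autoImplicit false
open Cfsg

namespace Cfsg.Agent.S0588

/-- If a subgroup H of a finite group G contains the centralizer of every non-identity element of H, then the order of H is coprime to its index. -/
theorem result {G : Type*} [Group G] [Finite G] (H : Subgroup G) (h : ∀ x ∈ H, x ≠ 1 → Subgroup.centralizer ({x} : Set G) ≤ H) : (Nat.card H).Coprime H.index := by
  refine Nat.coprime_of_dvd fun p hp h1 h2 => ?_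
  haveI : Fact p.Prime := ⟨hp⟩
  obtain ⟨P⟩ := (inferInstance : Nonempty (Sylow p H))
  have hPG : IsPGroup p ((P : Subgroup H).map H.subtype) := P.2.map _
  obtain ⟨S, hS⟩ := hPG.exists_le_sylow
  haveI : Nontrivial (P : Subgroup H) := (Subgroup.nontrivial_iff_ne_bot _).mpr (P.ne_bot_of_dvd_card h1)
  obtain ⟨x, hx⟩ := exists_ne (1 : (P : Subgroup H))
  have hxG : ((x : H) : G) ≠ 1 := fun he => hx (Subtype.ext (Subtype.ext he))
  have hxS : ((x : H) : G) ∈ (S : Subgroup G) := hS ⟨x, x.2, rfl⟩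
  haveI : Nontrivial S := ⟨⟨⟨_, hxS⟩, 1, fun he => hxG (congrArg Subtype.val he)⟩⟩
  haveI := S.2.center_nontrivial
  obtain ⟨z, hz⟩ := exists_ne (1 : Subgroup.center S)
  have hzG : ((z : S) : G) ≠ 1 := fun he => hz (Subtype.ext (Subtype.ext he))
  have hzH : ((z : S) : G) ∈ H := h _ (x : H).2 hxG (Subgroup.mem_centralizer_singleton_iff.mpr
    (congrArg Subtype.val (Subgroup.mem_center_iff.mp z.2 ⟨_, hxS⟩)).symm)
  have hSH : (S : Subgroup G) ≤ H := fun y hy => h _ hzH hzG (Subgroup.mem_centralizer_singleton_iff.mpr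
    (congrArg Subtype.val (Subgroup.mem_center_iff.mp z.2 ⟨y, hy⟩)))
  exact S.not_dvd_index (h2.trans (Subgroup.index_dvd_of_le hSH))

end Cfsg.Agent.S0588
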