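import Cfsg.Statements.S0590
import Cfsg.Agent.Lib.PLocal.Basic

set_option autoImplicit false
open Cfsg
open scoped commutatorElement

namespace Cfsg.Agent.S0590

/-- Quadratic action on an elementary abelian p-group forces the acting group modulo the kernel of the action to be elementary abelian. -/
theorem result {G : Type*} [Group G] [Finite G] {p : ℕ} [Fact p.Prime] (V H : Subgroup G) (hV : Cfsg.IsElementaryAbelian p V) (hHV : H ≤ Subgroup.normalizer (V : Set G)) (hq : ⁅⁅V, H⁆, H⁆ = ⊥) : ⁅H, H⁆ ≤ Subgroup.centralizer (V : Set G) ∧ ∀ a ∈ H, a ^ p ∈ Subgroup.centralizer (V : Set G) := by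
  have hVc := CfsgLib.PLocal.elemAb_le_centralizer hV
  refine ⟨?_, fun a ha => ?_⟩
  · have h1 : ⁅⁅V, H⁆, H⁆ = ⊥ := hq
    have h2 : ⁅⁅H, V⁆, H⁆ = ⊥ := by rwa [Subgroup.commutator_comm H V]
    exact Subgroup.commutator_eq_bot_iff_le_centralizer.1
      (Subgroup.commutator_commutator_eq_bot_of_rotate h2 h1)
  · have hz : Subgroup.zpowers a ≤ H := Subgroup.zpowers_le.2 ha
    have hqa : ⁅⁅V, Subgroup.zpowers a⁆, Subgroup.zpowers a⁆ = ⊥ :=
      le_bot_iff.1 (hq ▸ Subgroup.commutator_mono (Subgroup.commutator_mono le_rfl hz) hz)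
    intro v hv
    have hmem : (⁅a, v⁆ : G) ∈ V :=
      mul_mem ((Subgroup.mem_normalizer_iff.1 (hHV ha) v).1 hv) (inv_mem hv)
    have e := CfsgLib.PLocal.pow_commutator_of_quad (CfsgLib.PLocal.quad_elem hqa hv) p
    rw [hV.2 _ hmem, commutatorElement_eq_one_iff_mul_comm] at e
    exact e.symm

end Cfsg.Agent.S0590
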