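import Cfsg.Statements.S0592
import Cfsg.Agent.Lib.PLocal.QuadraticTwo
import Cfsg.Agent.Lib.PLocal.SLTwoSection

set_option autoImplicit false
open Cfsg
open scoped commutatorElement

namespace Cfsg.Agent.S0592

/-- Two quadratically acting generators of a linear group that is not a p-group, with the p'-part of the order of their product dividing q - 1, give a homomorphism onto a subgroup of SL(2, q) that is not a p-group. -/
theorem result {K : Type*} [Field K] [Fintype K] {p : ℕ} [Fact p.Prime] [CharP K p] {W : Type*} [AddCommGroup W] [Module K W] [FiniteDimensional K W] [Finite W] [Nontrivial W] (H : Subgroup (W ≃ₗ[K] W)) (a b : W ≃ₗ[K] W) (hH : H = Subgroup.closure {a, b}) (ha : ∀ w : W, a (a w - w) = a w - w) (hb : ∀ w : W, b (b w - w) = b w - w) (hnp : ¬ IsPGroup p H) (hk : ∃ e k : ℕ, orderOf (a * b) = p ^ e * k ∧ k ∣ Fintype.card K - 1) : ∃ φ : H →* Matrix.SpecialLinearGroup (Fin 2) K, ¬ IsPGroup p φ.range := by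
  classical
  haveI : Finite (W ≃ₗ[K] W) := Finite.of_injective _ DFunLike.coe_injective
  have haH : a ∈ H := hH ▸ Subgroup.subset_closure (Set.mem_insert _ _)
  have hbH : b ∈ H := hH ▸ Subgroup.subset_closure (Set.mem_insert_of_mem _ rfl)
  have hgen : Subgroup.closure {(⟨a, haH⟩ : H), ⟨b, hbH⟩} = ⊤ := by
    apply Subgroup.map_injective H.subtype_injective
    rw [MonoidHom.map_closure, Set.image_pair, ← MonoidHom.range_eq_map, Subgroup.range_subtype]
    exact hH.symm
  let ρ : H →* Module.End K W :=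
    { toFun := fun g => ((g : W ≃ₗ[K] W) : W →ₗ[K] W)
      map_one' := rfl
      map_mul' := fun _ _ => rfl }
  have hq : ∀ g : H, (∀ w : W, (g : W ≃ₗ[K] W) ((g : W ≃ₗ[K] W) w - w) = (g : W ≃ₗ[K] W) w - w) →
      (ρ g - 1) * (ρ g - 1) = 0 := fun g hg => LinearMap.ext fun w => by
    show (g : W ≃ₗ[K] W) ((g : W ≃ₗ[K] W) w - w) - ((g : W ≃ₗ[K] W) w - w) = 0
    rw [hg, sub_self]
  have hρ : Function.Injective ρ := fun x y h =>
    Subtype.ext (LinearEquiv.toLinearMap_injective h)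
  obtain ⟨e, k, hek, hkd⟩ := hk
  obtain ⟨φ, x, hx, hφa, hφb, -⟩ := CfsgLib.PLocal.exists_slTwo_hom (p := p) hgen ρ (hq _ ha) (hq _ hb)
    (fun hall => hnp fun g => by
      obtain ⟨i, hi⟩ := hall g
      exact ⟨i, hρ (by rw [map_pow, map_one]; exact hi)⟩)
    ⟨e, k, Subtype.ext (by
      show (a * b) ^ (p ^ e * k) = 1
      rw [← hek, pow_orderOf_eq_one]), hkd⟩
  exact ⟨φ, CfsgLib.PLocal.not_isPGroup_of_opposite φ.range hx ⟨_, hφa⟩ ⟨_, hφb⟩⟩

end Cfsg.Agent.S0592
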