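import Cfsg.Statements.S0593
import Cfsg.Agent.Lib.PLocal.SLTwoStable

set_option autoImplicit false
open Cfsg
open scoped commutatorElement

namespace Cfsg.Agent.S0593

/-- For odd p, a faithful group on an elementary abelian p-group generated by two quadratically acting elements is a p-group or has non-abelian Sylow 2-subgroups. -/
theorem result {G : Type*} [Group G] [Finite G] {p : ℕ} [Fact p.Prime] (hp : p ≠ 2) (V H : Subgroup G) (hV : Cfsg.IsElementaryAbelian p V) (hHV : H ≤ Subgroup.normalizer (V : Set G)) (hf : H ⊓ Subgroup.centralizer (V : Set G) = ⊥) (a b : G) (hab : H = Subgroup.closure {a, b}) (ha : ⁅⁅V, Subgroup.zpowers a⁆, Subgroup.zpowers a⁆ = ⊥) (hb : ⁅⁅V, Subgroup.zpowers b⁆, Subgroup.zpowers b⁆ = ⊥) (hnp : ¬ IsPGroup p H) (T : Sylow 2 H) : ¬ IsMulCommutative T := by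
  intro hT
  have haH : a ∈ H := hab ▸ Subgroup.subset_closure (Set.mem_insert _ _)
  have hbH : b ∈ H := hab ▸ Subgroup.subset_closure (Set.mem_insert_of_mem _ rfl)
  have hgen : Subgroup.closure {(⟨a, haH⟩ : H), ⟨b, hbH⟩} = ⊤ := by
    apply Subgroup.map_injective H.subtype_injective
    rw [MonoidHom.map_closure, Set.image_pair, ← MonoidHom.range_eq_map, Subgroup.range_subtype]
    exact hab.symm
  obtain ⟨W, _, _, _, ρ, hker, hsq⟩ := CfsgLib.PLocal.exists_conjRep hV hHV
  have hρ := CfsgLib.PLocal.conjRep_injective ρ hker hf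
  obtain ⟨K, f, hK, hfs⟩ := CfsgLib.PLocal.sec_of_two_quadratic hp hgen ρ (hsq _ ha) (hsq _ hb)
    fun hall => hnp fun g => by
      obtain ⟨i, hi⟩ := hall g
      exact ⟨i, hρ (by rw [map_pow, map_one]; exact hi)⟩
  exact CfsgLib.PLocal.no_slTwo_section_of_comm_sylow hp T hT (K.subgroupOf H)
    (f.comp (Subgroup.subgroupOfEquivOfLe hK).toMonoidHom)
    (hfs.comp (Subgroup.subgroupOfEquivOfLe hK).surjective)

end Cfsg.Agent.S0593
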