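import Cfsg.Statements.S0594
import Cfsg.Agent.Lib.PLocal.SLTwoStable

set_option autoImplicit false
open Cfsg
open scoped commutatorElement

namespace Cfsg.Agent.S0594

/-- For odd p, two quadratic generators of a faithful group that is not a p-group, one of which acts nontrivially on a normal subgroup of order prime to p, force p = 3 and a section isomorphic to SL(2,3). -/
theorem result {G : Type*} [Group G] [Finite G] {p : ℕ} [Fact p.Prime] (hp : p ≠ 2) (V H : Subgroup G) (hV : Cfsg.IsElementaryAbelian p V) (hHV : H ≤ Subgroup.normalizer (V : Set G)) (hf : H ⊓ Subgroup.centralizer (V : Set G) = ⊥) (a b : G) (hab : H = Subgroup.closure {a, b}) (ha : ⁅⁅V, Subgroup.zpowers a⁆, Subgroup.zpowers a⁆ = ⊥) (hb : ⁅⁅V, Subgroup.zpowers b⁆, Subgroup.zpowers b⁆ = ⊥) (hnp : ¬ IsPGroup p H) (Q : Subgroup G) (hQH : Q ≤ H) (hQn : H ≤ Subgroup.normalizer (Q : Set G)) (hQ : (Nat.card Q).Coprime p) (hQa : ⁅Q, Subgroup.zpowers a⁆ ≠ ⊥) : p = 3 ∧ ∃ (K L : Subgroup G) (hL : (L.subgroupOf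 K).Normal), K ≤ H ∧ Nonempty ((K ⧸ L.subgroupOf K) ≃* Matrix.SpecialLinearGroup (Fin 2) (ZMod 3)) := by
  classical
  have haH : a ∈ H := hab ▸ Subgroup.subset_closure (Set.mem_insert _ _)
  obtain ⟨W, _, _, _, ρ, hker, hsq⟩ := CfsgLib.PLocal.exists_conjRep hV hHV
  have hρ := CfsgLib.PLocal.conjRep_injective ρ hker hf
  have hap : a ^ p = 1 := congrArg Subtype.val (show (⟨a, haH⟩ : H) ^ p = 1 from hρ (by
    rw [map_pow, map_one]; exact CfsgLib.PLocal.pow_eq_one_of_quadratic (hsq _ ha)))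
  set A := Subgroup.zpowers a with hA
  set H₀ := Q ⊔ A with hH₀
  have hAH : A ≤ H := Subgroup.zpowers_le.2 haH
  have hH₀le : H₀ ≤ H := sup_le hQH hAH
  have hAN : A ≤ Subgroup.normalizer (Q : Set G) := hAH.trans hQn
  have hH₀N : H₀ ≤ Subgroup.normalizer (Q : Set G) := sup_le Subgroup.le_normalizer hAN
  haveI : (Q.subgroupOf H₀).Normal := Subgroup.normal_subgroupOf_of_le_normalizer hH₀N
  have hcardA : ∃ i, Nat.card A = p ^ i := by
    rw [hA, Nat.card_zpowers]
    obtain ⟨i, -, hi⟩ := (Nat.dvd_prime_pow (Fact.out : p.Prime)).1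
      ((orderOf_dvd_of_pow_eq_one hap).trans (pow_one p).symm.dvd)
    exact ⟨i, hi⟩
  have hidx : ∃ i, Q.relIndex H₀ = p ^ i := by
    obtain ⟨i, hi⟩ := hcardA
    have hd : Q.relIndex A ∣ p ^ i := hi ▸ Subgroup.relIndex_dvd_card Q A
    obtain ⟨j, -, hj⟩ := (Nat.dvd_prime_pow (Fact.out : p.Prime)).1 hd
    refine ⟨j, ?_⟩
    rw [← hj, hH₀, sup_comm, Subgroup.relIndex, Subgroup.relIndex]
    haveI : (Q.subgroupOf (A ⊔ Q)).Normal := Subgroup.normal_subgroupOf_of_le_normalizer (sup_le hAN Subgroup.le_normalizer)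
    haveI : (Q.subgroupOf A).Normal := Subgroup.normal_subgroupOf_of_le_normalizer hAN
    exact (Nat.card_congr (QuotientGroup.quotientInfEquivProdNormalizerQuotient A Q hAN).toEquiv).symm
  have hs : Cfsg.IsPSolvable p H₀ := by
    refine ⟨2, ![⊥, Q.subgroupOf H₀, ⊤], rfl, rfl, ?_, ?_, ?_⟩
    · refine Fin.monotone_iff_le_succ.2 fun i => ?_
      fin_cases i
      · exact bot_le
      · exact le_top
    · intro i
      fin_cases i
      · exact (inferInstance : (⊥ : Subgroup H₀).Normal)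
      · exact ‹(Q.subgroupOf H₀).Normal›
      · exact (inferInstance : (⊤ : Subgroup H₀).Normal)
    · intro i
      fin_cases i
      · right
        show ((⊥ : Subgroup H₀).relIndex (Q.subgroupOf H₀)).Coprime p
        rw [Subgroup.relIndex_bot_left,
          Nat.card_congr (Subgroup.subgroupOfEquivOfLe (le_sup_left : Q ≤ H₀)).toEquiv]
        exact hQ
      · left
        obtain ⟨j, hj⟩ := hidx
        refine ⟨j, ?_⟩
        show (Q.subgroupOf H₀).relIndex ⊤ = _
        rw [Subgroup.relIndex_top_right]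
        exact hj
  have hna : a ∉ (Cfsg.pCore p H₀).map H₀.subtype := by
    intro ha0
    refine hQa ?_
    set O := (Cfsg.pCore p H₀).map H₀.subtype with hO
    have hOp : IsPGroup p O := (CfsgLib.Solvable.pCore_isPGroup p).map _
    have h1 : ⁅Q, Subgroup.zpowers a⁆ ≤ Q ⊓ O := by
      rw [le_inf_iff]
      refine ⟨?_, ?_⟩
      · rw [Subgroup.commutator_comm, Subgroup.commutator_le]
        intro x hx y hy
        rw [commutatorElement_def]
        exact mul_mem ((Subgroup.mem_normalizer_iff.1 (hAN hx) y).1 hy) (inv_mem hy)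
      · rw [Subgroup.commutator_le]
        intro y hy x hx
        have hx0 : x ∈ O := Subgroup.zpowers_le.2 ha0 hx
        obtain ⟨x', hx', rfl⟩ := hx0
        haveI := Cfsg.pCore_normal p H₀
        refine ⟨⟨y, Subgroup.mem_sup_left hy⟩ * x' * ⟨y, Subgroup.mem_sup_left hy⟩⁻¹ * x'⁻¹,
          mul_mem (Subgroup.Normal.conj_mem inferInstance _ hx' _) (inv_mem hx'), by
            simp [commutatorElement_def]⟩
    rw [eq_bot_iff]
    refine h1.trans (le_of_eq ?_)
    obtain ⟨j, hj⟩ := hOp.exists_card_eq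
    exact Subgroup.inf_eq_bot_of_coprime (hj ▸ hQ.pow_right j)
  obtain ⟨K, f, hK, hfs⟩ := CfsgLib.PLocal.sec_of_faithful_quadratic hp hV (hH₀le.trans hHV)
    (le_bot_iff.1 ((inf_le_inf_right _ hH₀le).trans hf.le)) (Subgroup.mem_sup_right (Subgroup.mem_zpowers a))
    ha hna
  have h3 : p = 3 := by
    rcases Nat.lt_or_ge p 5 with h | h
    · have h2 := (Fact.out : p.Prime).two_le
      interval_cases p
      · exact absurd rfl hp
      · rfl
      · exact absurd (Fact.out : Nat.Prime 4) (by decide)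
    · exact absurd (hfs.comp (Subgroup.subgroupOfEquivOfLe hK).surjective)
        (CfsgLib.PLocal.no_slTwo_section_of_isPSolvable h hs (K.subgroupOf H₀)
          (f.comp (Subgroup.subgroupOfEquivOfLe hK).toMonoidHom))
  subst h3
  exact ⟨rfl, CfsgLib.PLocal.sec_quotient_form (hK.trans hH₀le) f hfs⟩

end Cfsg.Agent.S0594
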