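import Cfsg.Statements.S0597
import Cfsg.Agent.Lib.PLocal.SubnormalJoin
import Cfsg.Agent.Lib.Comp.Subnormal

set_option autoImplicit false
open Cfsg
open scoped commutatorElement

namespace Cfsg.Agent.S0597

/-- If two subnormal subgroups of a faithful group on an elementary abelian p-group satisfy [V, E₁, E₂] = 1, then their commutator lies in the largest normal p-subgroup. -/
theorem result {G : Type*} [Group G] [Finite G] {p : ℕ} [Fact p.Prime] (V H : Subgroup G) (hV : Cfsg.IsElementaryAbelian p V) (hHV : H ≤ Subgroup.normalizer (V : Set G)) (hf : H ⊓ Subgroup.centralizer (V : Set G) = ⊥) (E₁ E₂ : Subgroup G) (h₁ : E₁ ≤ H) (h₂ : E₂ ≤ H) (hs₁ : (E₁.subgroupOf H).IsSubnormal) (hs₂ : (E₂.subgroupOf H).IsSubnormal) (hc : ⁅⁅V, E₁⁆, E₂⁆ = ⊥) : ⁅E₁, E₂⁆ ≤ (Cfsg.pCore p H).map H.subtype := by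
  have hE₁V : E₁ ≤ Subgroup.normalizer (V : Set G) := h₁.trans hHV
  set V₁ : Subgroup G := ⁅V, E₁⁆ with hV₁
  have hV₁V : V₁ ≤ V := Subgroup.le_normalizer_iff_commutator_le_left.1 hE₁V
  have hE₁V₁ : E₁ ≤ Subgroup.normalizer (V₁ : Set G) := Subgroup.normalizer_commutator_ge_right _ _
  have hconj : ∀ a ∈ H, ∀ v ∈ V, a * v * a⁻¹ ∈ V := fun a ha v hv =>
    (Subgroup.mem_normalizer_iff.1 (hHV ha) v).1 hv
  have hconj' : ∀ a ∈ H, ∀ v ∈ V, a⁻¹ * v * a ∈ V := fun a ha v hv => by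
    simpa using hconj a⁻¹ (inv_mem ha) v hv
  let X : Subgroup G :=
    { carrier := {a | a ∈ H ∧ (∀ w ∈ V₁, a * w * a⁻¹ = w) ∧ ∀ v ∈ V, a * v * a⁻¹ * v⁻¹ ∈ V₁}
      one_mem' := ⟨H.one_mem, by simp, fun v _ => by simp [V₁.one_mem]⟩
      mul_mem' := by
        rintro a b ⟨ha, ha1, ha2⟩ ⟨hb, hb1, hb2⟩
        refine ⟨H.mul_mem ha hb, fun w hw => ?_, fun v hv => ?_⟩
        · calc a * b * w * (a * b)⁻¹ = a * (b * w * b⁻¹) * a⁻¹ := by group
            _ = _ := by rw [hb1 w hw, ha1 w hw]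
        · have e : a * b * v * (a * b)⁻¹ * v⁻¹ =
              (a * (b * v * b⁻¹ * v⁻¹) * a⁻¹) * (a * v * a⁻¹ * v⁻¹) := by group
          rw [e, ha1 _ (hb2 v hv)]
          exact V₁.mul_mem (hb2 v hv) (ha2 v hv)
      inv_mem' := by
        rintro a ⟨ha, ha1, ha2⟩
        refine ⟨H.inv_mem ha, fun w hw => ?_, fun v hv => ?_⟩
        · conv_lhs => rw [← ha1 w hw]
          group
        · have h := V₁.inv_mem (ha2 (a⁻¹ * v * a) (hconj' a ha v hv))
          simpa [mul_assoc] using h }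
  have he₂ : ∀ e ∈ E₂, ∀ w ∈ V₁, e * w * e⁻¹ = w := fun e he w hw => by
    have h := Subgroup.mem_centralizer_iff.1
      (Subgroup.commutator_eq_bot_iff_le_centralizer.1 hc hw) e he
    rw [h]; group
  have he₁ : ∀ e ∈ E₁, ∀ v ∈ V, e * v * e⁻¹ * v⁻¹ ∈ V₁ := fun e he v hv => by
    have h := V₁.inv_mem (Subgroup.commutator_mem_commutator hv he : ⁅v, e⁆ ∈ V₁)
    rw [commutatorElement_inv] at h
    simpa [commutatorElement_def] using h
  have hKX : ⁅E₁, E₂⁆ ≤ X := by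
    rw [Subgroup.commutator_le]
    intro a ha b hb
    refine ⟨?_, fun w hw => ?_, fun v hv => ?_⟩
    · rw [commutatorElement_def]
      exact H.mul_mem (H.mul_mem (H.mul_mem (h₁ ha) (h₂ hb)) (H.inv_mem (h₁ ha))) (H.inv_mem (h₂ hb))
    · have hb' : b⁻¹ * w * b = w := by simpa using he₂ b⁻¹ (inv_mem hb) w hw
      have ha' : a⁻¹ * w * a ∈ V₁ := by
        simpa using (Subgroup.mem_normalizer_iff.1 (hE₁V₁ (inv_mem ha)) w).1 hw
      calc ⁅a, b⁆ * w * ⁅a, b⁆⁻¹ = a * (b * (a⁻¹ * (b⁻¹ * w * b) * a) * b⁻¹) * a⁻¹ := by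
            rw [commutatorElement_def]; group
        _ = a * (b * (a⁻¹ * w * a) * b⁻¹) * a⁻¹ := by rw [hb']
        _ = a * (a⁻¹ * w * a) * a⁻¹ := by rw [he₂ b hb _ ha']
        _ = w := by group
    · set v' := b⁻¹ * v * b with hv'
      have hv'V : v' ∈ V := hconj' b (h₂ hb) v hv
      set w := a⁻¹ * v' * a * v'⁻¹ with hw
      have hwV : w ∈ V₁ := by simpa [hw] using he₁ a⁻¹ (inv_mem ha) v' hv'V
      have e : ⁅a, b⁆ * v * ⁅a, b⁆⁻¹ * v⁻¹ =
          a * (b * w * b⁻¹) * a⁻¹ * (a * v * a⁻¹ * v⁻¹) := by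
        rw [commutatorElement_def, hw, hv']; group
      rw [e, he₂ b hb _ hwV]
      exact V₁.mul_mem ((Subgroup.mem_normalizer_iff.1 (hE₁V₁ ha) w).1 hwV) (he₁ a ha v hv)
  have hpow : ∀ a ∈ X, a ^ p = 1 := by
    rintro a ⟨ha, ha1, ha2⟩
    rw [← Subgroup.mem_bot, ← hf]
    refine ⟨H.pow_mem ha p, Subgroup.mem_centralizer_iff.2 fun v hv => ?_⟩
    set w := a * v * a⁻¹ * v⁻¹ with hw
    have hwV : w ∈ V₁ := ha2 v hv
    have hind : ∀ n : ℕ, a ^ n * v * (a ^ n)⁻¹ = w ^ n * v := by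
      intro n
      induction n with
      | zero => simp
      | succ n ih =>
        calc a ^ (n + 1) * v * (a ^ (n + 1))⁻¹ = a * (a ^ n * v * (a ^ n)⁻¹) * a⁻¹ := by
              rw [pow_succ']; group
          _ = (a * w ^ n * a⁻¹) * (a * v * a⁻¹) := by rw [ih]; group
          _ = w ^ n * (w * v) := by rw [ha1 _ (V₁.pow_mem hwV n), hw]; group
          _ = _ := by rw [pow_succ]; group
    have h := hind p
    rw [hV.2 w (hV₁V hwV), one_mul, mul_inv_eq_iff_eq_mul] at h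
    exact h.symm
  have hKH : ⁅E₁, E₂⁆ ≤ H := fun x hx => (hKX hx).1
  have hKp : IsPGroup p (⁅E₁, E₂⁆.subgroupOf H) := fun x => ⟨1, by
    rw [pow_one]; exact Subtype.ext (Subtype.ext (hpow _ (hKX x.2)))⟩
  have hKsn : (⁅E₁, E₂⁆.subgroupOf H).IsSubnormal := by
    have hj := CfsgLib.PLocal.isSubnormal_sup hs₁ hs₂
    refine CfsgLib.Comp.isSubnormal_of_le_normalizer ?_ hj ?_
    · intro x hx
      rw [← Subgroup.subgroupOf_sup h₁ h₂]
      exact (Subgroup.commutator_le.2 fun a ha b hb => (E₁ ⊔ E₂).mul_mem ((E₁ ⊔ E₂).mul_mem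
        ((E₁ ⊔ E₂).mul_mem (le_sup_left (b := E₂) ha) (le_sup_right (a := E₁) hb))
        (inv_mem (le_sup_left (b := E₂) ha))) (inv_mem (le_sup_right (a := E₁) hb))) hx
    · rw [← Subgroup.subgroupOf_normalizer_eq hKH]
      exact sup_le (Subgroup.comap_mono (Subgroup.normalizer_commutator_ge_left E₁ E₂))
        (Subgroup.comap_mono (Subgroup.normalizer_commutator_ge_right E₁ E₂))
  have := Subgroup.map_mono (f := H.subtype) (CfsgLib.Comp.le_pCore_of_isSubnormal hKsn hKp)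
  rwa [Subgroup.map_subgroupOf_eq_of_le hKH] at this

end Cfsg.Agent.S0597
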