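import Cfsg.Statements.S0600
import Cfsg.Agent.Lib.PLocal.OmegaJoin

set_option autoImplicit false
open Cfsg
open scoped commutatorElement

namespace Cfsg.Agent.S0600

/-- A normal elementary abelian p-subgroup generated by the fixed points of the Sylow p-subgroups admits no nontrivial normal p-subgroup of G modulo its centralizer. -/
theorem result {G : Type*} [Group G] [Finite G] {p : ℕ} [Fact p.Prime] (V : Subgroup G) [V.Normal] (hV : Cfsg.IsElementaryAbelian p V) (hgen : V = ⨆ S : Sylow p G, V ⊓ Subgroup.centralizer ((S : Subgroup G) : Set G)) : Cfsg.pCore p (G ⧸ Subgroup.centralizer (V : Set G)) = ⊥ := by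
  set C := Subgroup.centralizer (V : Set G)
  set D := (Cfsg.pCore p (G ⧸ C)).comap (QuotientGroup.mk' C)
  have hDn : D.Normal := Subgroup.Normal.comap inferInstance _
  have hCD : C ≤ D := fun z hz => by
    rw [Subgroup.mem_comap, QuotientGroup.mk'_apply, (QuotientGroup.eq_one_iff z).2 hz]
    exact one_mem _
  have h := CfsgLib.PLocal.le_centralizer_of_generated
    (fun S : Sylow p G => V ⊓ Subgroup.centralizer ((S : Subgroup G) : Set G))
    (fun S => inf_le_right) hgen hCD (CfsgLib.PLocal.pCore_comap_relIndex C)
  rw [← Subgroup.map_comap_eq_self_of_surjective (QuotientGroup.mk'_surjective C) (Cfsg.pCore p (G ⧸ C)), eq_bot_iff]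
  exact (Subgroup.map_mono h).trans (by rw [QuotientGroup.map_mk'_self])

end Cfsg.Agent.S0600
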