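import Cfsg.Statements.S0601
import Cfsg.Agent.Lib.PLocal.OmegaJoin

set_option autoImplicit false
open Cfsg
open scoped commutatorElement

namespace Cfsg.Agent.S0601

/-- When O_p(G) contains its centralizer, the normal closure of Ω₁(Z(S)) is elementary abelian and G has no nontrivial normal p-subgroup modulo its centralizer. -/
theorem result {G : Type*} [Group G] [Finite G] {p : ℕ} [Fact p.Prime] (hc : Subgroup.centralizer (Cfsg.pCore p G : Set G) ≤ Cfsg.pCore p G) : (⨆ S : Sylow p G, Cfsg.omegaOne p (((S : Subgroup G)) ⊓ Subgroup.centralizer ((S : Subgroup G) : Set G))).Normal ∧ Cfsg.IsElementaryAbelian p (⨆ S : Sylow p G, Cfsg.omegaOne p (((S : Subgroup G)) ⊓ Subgroup.centralizer ((S : Subgroup G) : Set G))) ∧ ∀ D : Subgroup G, D.Normal → Subgroup.centralizer ((⨆ S : Sylow p G, Cfsg.omegaOne p (((S : Subgroup G)) ⊓ Subgroup.centralizer ((S : Subgroup G) : Set G)) : Subgroup G) : Set G) ≤ D → (∃ k : ℕ, (Subgroup.centralizer ((⨆ S : Sylow p G, Cfsg.omegaOne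 p (((S : Subgroup G)) ⊓ Subgroup.centralizer ((S : Subgroup G) : Set G)) : Subgroup G) : Set G)).relIndex D = p ^ k) → D = Subgroup.centralizer ((⨆ S : Sylow p G, Cfsg.omegaOne p (((S : Subgroup G)) ⊓ Subgroup.centralizer ((S : Subgroup G) : Set G)) : Subgroup G) : Set G) := by
  have hn := CfsgLib.PLocal.omegaCenterJoin_normal (G := G) (p := p)
  refine ⟨hn, ?_, fun D hD hCD hidx => le_antisymm ?_ hCD⟩
  · refine CfsgLib.PLocal.elemAb_mono (CfsgLib.PLocal.omegaCenter_elemAb (p := p) (Cfsg.pCore p G)) (iSup_le fun S => (Subgroup.closure_le _).2 ?_)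
    rintro x ⟨⟨-, hxc⟩, hxp⟩
    have hc' := Subgroup.centralizer_le (CfsgLib.Solvable.pCore_le_sylow S) hxc
    exact Subgroup.subset_closure ⟨⟨hc hc', hc'⟩, hxp⟩
  · exact CfsgLib.PLocal.le_centralizer_of_generated (fun S : Sylow p G => Cfsg.omegaOne p ((S : Subgroup G) ⊓ Subgroup.centralizer ((S : Subgroup G) : Set G))) (fun S => (CfsgLib.PLocal.omegaOne_le p _).trans inf_le_right) rfl hCD hidx

end Cfsg.Agent.S0601
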