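import Cfsg.Statements.S0619
import Cfsg.Agent.Lib.Comp.FFAmbient

set_option autoImplicit false
set_option linter.style.haveILetI false
open Cfsg

namespace Cfsg.Agent.S0619

/-- For a p-separable group and a normal elementary abelian p-subgroup V with no nontrivial normal p-subgroup modulo its centralizer C, the Thompson subgroup J(G) moves Ω₁(Z(J(C))) only inside V. -/
theorem result {G : Type*} [Group G] [Finite G] {p : ℕ} [Fact p.Prime] (hsep : Cfsg.IsPSolvable p G) (V : Subgroup G) [V.Normal] (hV : Cfsg.IsElementaryAbelian p V) (hO : Cfsg.pCore p (G ⧸ Subgroup.centralizer (V : Set G)) = ⊥) : ⁅Cfsg.omegaOne p (Cfsg.centerThompsonOf p (Subgroup.centralizer (V : Set G))), Cfsg.thompsonSubgroup p G⁆ ≤ V := by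
  set π := QuotientGroup.mk' V with hπ
  set W := Cfsg.omegaOne p (Cfsg.centerThompsonOf p (Subgroup.centralizer (V : Set G))) with hW
  let R : Subgroup G := (Subgroup.centralizer ((W.map π : Subgroup (G ⧸ V)) : Set (G ⧸ V))).comap π
  have hR : Cfsg.thompsonSubgroup p G ≤ R := by
    refine sSup_le fun A hA => ?_
    have hA' : A ∈ CfsgLib.PLocal.maxElemIn p (⊤ : Subgroup G) := by rwa [CfsgLib.PLocal.maxElemIn_top]
    set C := Subgroup.centralizer (V : Set G) with hC
    have hVC : V ≤ C := CfsgLib.PLocal.elemAb_le_centralizer hV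
    set A0 := (A ⊓ C) ⊔ V with hA0
    have hA0e : Cfsg.IsElementaryAbelian p A0 :=
      CfsgLib.PLocal.elemAb_sup (CfsgLib.PLocal.elemAb_mono hA.1 inf_le_left) hV inf_le_right
    have hcard : Nat.card A ≤ Nat.card A0 := by
      have h1 := CfsgLib.Comp.FF.card_maxElem V hV hsep hO hA
      rw [CfsgLib.PLocal.inf_centralizer_eq_inf_of_maxElemIn le_top hV hA'] at h1
      have h2 : Nat.card ↥(A ⊓ C) * Nat.card V ≤ Nat.card A0 * Nat.card ↥(A ⊓ C ⊓ V) :=
        CfsgLib.PLocal.card_mul_le_card_sup_mul_inf _ _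
      have h3 : Nat.card ↥(A ⊓ C ⊓ V) ≤ Nat.card ↥(V ⊓ A) :=
        Subgroup.card_le_of_le (le_inf inf_le_right (inf_le_left.trans inf_le_left))
      refine Nat.le_of_mul_le_mul_right (c := Nat.card ↥(V ⊓ A)) ?_ Nat.card_pos
      rw [h1, mul_comm (Nat.card V)]
      exact h2.trans (Nat.mul_le_mul_left _ h3)
    have hA0m : A0 ∈ CfsgLib.PLocal.maxElemIn p C :=
      ⟨sup_le inf_le_right hVC, hA0e, fun B _ hB => (hA.2 B hB).trans hcard⟩
    have hWA0 : W ≤ A0 := CfsgLib.PLocal.omega_centerThompsonOf_le_maxElemIn hA0m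
    intro a ha
    show π a ∈ Subgroup.centralizer _
    rintro _ ⟨w, hw, rfl⟩
    have hn : V ≤ Subgroup.normalizer ((A ⊓ C : Subgroup G) : Set G) :=
      (Subgroup.le_centralizer_iff.1 (inf_le_right : A ⊓ C ≤ C)).trans
        (Subgroup.centralizer_le_normalizer _)
    obtain ⟨x, hx, v, hv, rfl⟩ := (CfsgLib.Coprime.mem_sup_of_le_normalizer hn).1 (hWA0 hw)
    have hπv : π v = 1 := (QuotientGroup.eq_one_iff v).2 hv
    have hcomm : x * a = a * x :=
      congrArg Subtype.val (hA.1.1.is_comm.comm ⟨x, hx.1⟩ ⟨a, ha⟩)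
    rw [map_mul, hπv, mul_one, ← map_mul, ← map_mul, hcomm]
  refine Subgroup.commutator_le.2 fun w hw j hj => ?_
  have h1 : π w * π j = π j * π w := Subgroup.mem_centralizer_iff.1 (hR hj) (π w) ⟨w, hw, rfl⟩
  rw [← QuotientGroup.eq_one_iff, ← QuotientGroup.mk'_apply, map_commutatorElement,
    commutatorElement_eq_one_iff_mul_comm]
  exact h1

end Cfsg.Agent.S0619
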