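import Cfsg.Statements.S0627
import Cfsg.Agent.S0624
import Cfsg.Agent.Lib.PLocal.SLTwoStable
import Cfsg.Agent.Lib.PLocal.SLTwoSection
import Cfsg.Agent.Lib.StructC.PSolvableQuot
import Cfsg.Agent.Lib.Block.PSolvable
import Cfsg.Agent.Lib.Comp.PComponent
import Cfsg.Agent.Lib.Comp.Local
-- import your own Cfsg.Agent.* helpers here

set_option autoImplicit false
open Cfsg

namespace Cfsg.Agent.S0627

/-- In a p-separable group with p at least 5, the normalizer of W(S) supplements the largest normal subgroup of order prime to p. -/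
theorem result {G : Type*} [Group G] [Finite G] {p : ℕ} [Fact p.Prime] (hp : 5 ≤ p) (hsep : Cfsg.IsPSolvable p G) (S : Sylow p G) : Cfsg.pPrimeCore p G ⊔ Subgroup.normalizer (((Cfsg.stableNormalClosure p ↥(S : Subgroup G)).map (S : Subgroup G).subtype) : Set G) = ⊤ := by
  set O := Cfsg.pPrimeCore p G with hO
  haveI : O.Normal := Cfsg.pPrimeCore_normal p G
  set π := QuotientGroup.mk' O with hπ
  have hsolv := CfsgLib.StructC.isPSolvable_quotient O hsep
  have hc := CfsgLib.Block.centralizer_pCore_le_of_isPSolvable hsolv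
    (CfsgLib.Comp.pPrimeCore_quotient_eq_bot p G)
  have hst : Cfsg.IsActionPStable p (G ⧸ O) := CfsgLib.PLocal.isActionPStable_of_no_sec
    (CfsgLib.PLocal.no_slTwo_section_of_isPSolvable hp hsolv) (by omega)
  set T := S.mapSurjective (f := π) (QuotientGroup.mk'_surjective O) with hT
  have hn := Cfsg.Agent.S0624.result hst hc T
  have hbot := CfsgLib.Comp.inf_eq_bot_of_isPGroup S.2 (CfsgLib.Comp.coprime_card_pPrimeCore p G)
  have hmem : ∀ x : ↥(S : Subgroup G), π x ∈ (T : Subgroup (G ⧸ O)) := fun x => by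
    rw [hT, Sylow.coe_mapSurjective]; exact Subgroup.mem_map_of_mem π x.2
  set η : ↥(S : Subgroup G) →* ↥(T : Subgroup (G ⧸ O)) :=
    (π.comp (S : Subgroup G).subtype).codRestrict _ hmem with hη
  have hinj : Function.Injective η := by
    intro x y h
    have h' : π x = π y := congrArg Subtype.val h
    have : ((x : G)⁻¹ * y) ∈ (S : Subgroup G) ⊓ O :=
      ⟨(S : Subgroup G).mul_mem ((S : Subgroup G).inv_mem x.2) y.2, QuotientGroup.eq.1 h'⟩
    rw [hbot, Subgroup.mem_bot, inv_mul_eq_one] at this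
    exact Subtype.ext this
  have hsurj : Function.Surjective η := by
    rintro ⟨y, hy⟩
    have hy' : y ∈ (S : Subgroup G).map π := by
      rwa [hT, Sylow.coe_mapSurjective] at hy
    obtain ⟨x, hx, hxy⟩ := hy'
    exact ⟨⟨x, hx⟩, Subtype.ext hxy⟩
  set WG := (Cfsg.stableNormalClosure p ↥(S : Subgroup G)).map (S : Subgroup G).subtype with hWG
  have hW : WG.map π = (Cfsg.stableNormalClosure p ↥(T : Subgroup (G ⧸ O))).map
      (T : Subgroup (G ⧸ O)).subtype := by
    rw [← CfsgLib.PLocal.stable_map_equiv (MulEquiv.ofBijective η ⟨hinj, hsurj⟩), hWG,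
      Subgroup.map_map, Subgroup.map_map]
    rfl
  have hNtop : (Subgroup.normalizer (WG : Set G)).map π = ⊤ := by
    rw [CfsgLib.Comp.map_normalizer_eq (CfsgLib.Comp.coprime_card_pPrimeCore p G)
      (S.2.to_le (Subgroup.map_subtype_le _)), hW, Subgroup.normalizer_eq_top_iff]
    exact hn
  have h := congrArg (Subgroup.comap π) hNtop
  rwa [Subgroup.comap_map_eq, QuotientGroup.ker_mk', Subgroup.comap_top, sup_comm] at h

end Cfsg.Agent.S0627
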