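import Cfsg.Statements.S0629
import Cfsg.Agent.Lib.Comp.PConstrained
import Cfsg.Agent.Lib.PLength.Constrained
import Cfsg.Agent.Lib.BlockA.PrincipalType

set_option autoImplicit false
set_option linter.style.haveILetI false
open Cfsg

namespace Cfsg.Agent.S0629

/-- A group in which the centralizer of a Sylow p-subgroup of O_{p',p}(G) is p-solvable is p-constrained. -/
theorem result {G : Type*} [Group G] [Finite G] {p : ℕ} [Fact p.Prime] (P : Sylow p ↥(Cfsg.pPrimePCore p G)) (hsol : Cfsg.IsPSolvable p ↥(Subgroup.centralizer (((P : Subgroup ↥(Cfsg.pPrimePCore p G)).map (Cfsg.pPrimePCore p G).subtype : Subgroup G) : Set G))) : Cfsg.IsPConstrained p G := by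
  open Subgroup CfsgLib.Comp in
  rw [isPConstrained_iff]
  haveI := Cfsg.pPrimeCore_normal p G
  set q := toModCore p G
  set R := Cfsg.pCore p (G ⧸ Cfsg.pPrimeCore p G) with hR
  set C := centralizer (R : Set (G ⧸ Cfsg.pPrimeCore p G)) with hC
  haveI hRn : R.Normal := Cfsg.pCore_normal p _
  haveI hCn : C.Normal := inferInstance
  set Pm := (P : Subgroup ↥(Cfsg.pPrimePCore p G)).map (Cfsg.pPrimePCore p G).subtype
  have hCeq : (centralizer (Pm : Set G)).map q = C := by
    rw [map_centralizer_eq (coprime_card_pPrimeCore p G) (P.isPGroup'.map _), sylow_pPrimePCore_map P]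
  let f : ↥(centralizer (Pm : Set G)) →* ↥C :=
    (MulEquiv.subgroupCongr hCeq).toMonoidHom.comp (q.subgroupMap _)
  have hs : Cfsg.IsPSolvable p ↥C := CfsgLib.BlockA.isPSolvable_of_surjective (φ := f)
    ((MulEquiv.subgroupCongr hCeq).surjective.comp (q.subgroupMap_surjective _)) hsol
  have hO : Cfsg.pPrimeCore p ↥C = ⊥ := by
    have h := pPrimeCore_map_subtype (p := p) (S := C) (Subgroup.Normal.isSubnormal hCn)
    rw [pPrimeCore_quotient_eq_bot, bot_inf_eq] at h
    exact (map_eq_bot_iff_of_injective _ C.subtype_injective).1 h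
  have h1 := CfsgLib.PLength.centralizer_pCore_le_of_isPSolvable hs hO
  have hcent : (Cfsg.pCore p ↥C).map C.subtype ≤ R := le_pCore_of_isSubnormal
    (isSubnormal_map_of_normal (Subgroup.Normal.isSubnormal hCn) _ (hH := Cfsg.pCore_normal p _))
    ((isPGroup_pCore p _).map _)
  intro c hc
  refine hcent ⟨⟨c, hc⟩, h1 ?_, rfl⟩
  rw [mem_centralizer_iff]
  intro d hd
  exact Subtype.ext (mem_centralizer_iff.1 hc _ (hcent ⟨d, hd, rfl⟩))

end Cfsg.Agent.S0629
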