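import Cfsg.Statements.S0630
import Cfsg.Agent.Lib.Comp.PConstrained
import Cfsg.Agent.Lib.Solvable.PCore

set_option autoImplicit false
open Cfsg

namespace Cfsg.Agent.S0630

/-- p-constraint passes to and from the quotient by the largest normal subgroup of order prime to p. -/
theorem result {G : Type*} [Group G] [Finite G] {p : ℕ} [Fact p.Prime] : Cfsg.IsPConstrained p G ↔ Cfsg.IsPConstrained p (G ⧸ Cfsg.pPrimeCore p G) := by
  haveI := Cfsg.pPrimeCore_normal p G
  haveI := Cfsg.pPrimeCore_normal p (G ⧸ Cfsg.pPrimeCore p G)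
  rw [CfsgLib.Comp.isPConstrained_iff, CfsgLib.Comp.isPConstrained_iff]
  set Q := G ⧸ Cfsg.pPrimeCore p G
  have hb : Cfsg.pPrimeCore p Q = ⊥ := CfsgLib.Comp.pPrimeCore_quotient_eq_bot p G
  let e : Q ⧸ Cfsg.pPrimeCore p Q ≃* Q :=
    (QuotientGroup.quotientMulEquivOfEq hb).trans QuotientGroup.quotientBot
  have key : ∀ {X Y : Type _} [Group X] [Group Y] (e : X ≃* Y),
      Subgroup.centralizer (Cfsg.pCore p X : Set X) ≤ Cfsg.pCore p X →
      Subgroup.centralizer (Cfsg.pCore p Y : Set Y) ≤ Cfsg.pCore p Y := by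
    intro X Y _ _ e h y hy
    rw [← CfsgLib.Solvable.map_pCore_equiv e p]
    refine ⟨e.symm y, h (Subgroup.mem_centralizer_iff.2 fun x hx => e.injective ?_),
      e.apply_symm_apply y⟩
    rw [map_mul, map_mul, e.apply_symm_apply]
    exact Subgroup.mem_centralizer_iff.1 hy (e x)
      (CfsgLib.Solvable.map_pCore_equiv e p ▸ Subgroup.mem_map_of_mem e.toMonoidHom hx)
  exact ⟨key e.symm, key e⟩

end Cfsg.Agent.S0630
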