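import Cfsg.Statements.S0631
import Cfsg.Agent.Lib.Comp.PConstrainedNormal

set_option autoImplicit false
set_option linter.style.haveILetI false
open Cfsg

namespace Cfsg.Agent.S0631

/-- In a p-constrained group the normalizer and the centralizer of any p-subgroup are again p-constrained. -/
theorem result {G : Type*} [Group G] [Finite G] {p : ℕ} [Fact p.Prime] (hG : Cfsg.IsPConstrained p G) (P : Subgroup G) (hP : IsPGroup p P) : Cfsg.IsPConstrained p ↥(Subgroup.normalizer (P : Set G)) ∧ Cfsg.IsPConstrained p ↥(Subgroup.centralizer (P : Set G)) := by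
  open Subgroup CfsgLib.Comp in
  have hN : Cfsg.IsPConstrained p ↥(normalizer (P : Set G)) :=
    (isPConstrained_iff_pLayer p _).2 (pLocal_of_pLayer_eq_bot ((isPConstrained_iff_pLayer p G).1 hG) hP).1
  refine ⟨hN, ?_⟩
  set N := normalizer (P : Set G)
  have hle : centralizer (P : Set G) ≤ N := centralizer_le_normalizer P
  haveI : ((centralizer (P : Set G)).subgroupOf N).Normal :=
    normal_subgroupOf_of_le_normalizer (le_normalizer_centralizer le_rfl)
  have h := isPConstrained_of_normal hN ((centralizer (P : Set G)).subgroupOf N)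
  rw [isPConstrained_iff_pLayer, pLayer_eq_bot_iff] at h ⊢
  set e := subgroupOfEquivOfLe hle
  have hmap : ∀ (A B : Type _) [Group A] [Finite A] [Group B] [Finite B] (e : A ≃* B),
      (Cfsg.pPrimeCore p A).map e.toMonoidHom ≤ Cfsg.pPrimeCore p B := fun A B _ _ _ _ e =>
    le_sSup ⟨Subgroup.Normal.map (Cfsg.pPrimeCore_normal p A) _ e.surjective,
      Nat.Coprime.coprime_dvd_left (card_map_dvd _ _) (coprime_card_pPrimeCore p A)⟩
  haveI := Cfsg.pPrimeCore_normal p ↥((centralizer (P : Set G)).subgroupOf N)
  haveI := Cfsg.pPrimeCore_normal p ↥(centralizer (P : Set G))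
  have heq : (Cfsg.pPrimeCore p ↥((centralizer (P : Set G)).subgroupOf N)).map e.toMonoidHom =
      Cfsg.pPrimeCore p ↥(centralizer (P : Set G)) := by
    refine le_antisymm (hmap _ _ e) ?_
    intro x hx
    exact ⟨e.symm x, hmap _ _ e.symm ⟨x, hx, rfl⟩, e.apply_symm_apply x⟩
  have h1 := layer_map_le_layer (QuotientGroup.congr _ _ e heq).symm.toMonoidHom
    (QuotientGroup.congr _ _ e heq).symm.surjective
  rw [h, le_bot_iff] at h1
  exact (map_eq_bot_iff_of_injective _ (QuotientGroup.congr _ _ e heq).symm.injective).1 h1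

end Cfsg.Agent.S0631
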