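import Cfsg.Statements.S0633
import Cfsg.Agent.Lib.HallHigman.Linear

set_option autoImplicit false
open Cfsg

namespace Cfsg.Agent.S0633

/-- Theorem B of Hall and Higman on the minimal polynomial of a p-element of order p^n in a p-solvable linear group on a nonzero vector space in characteristic p with no nontrivial normal p-subgroup: its degree is p^n, except when some p^n₀ - 1 (n₀ ≤ n) is a power of a prime q for which the Sylow q-subgroups are non-abelian, in which case the degree is at least p^(n-n₀)(p^n₀ - 1). -/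
theorem result {F : Type*} [Field F] {p : ℕ} [Fact p.Prime] [CharP F p] {V : Type*} [AddCommGroup V] [Module F V] [FiniteDimensional F V] [Nontrivial V] (H : Subgroup (V ≃ₗ[F] V)) [Finite H] (hsol : Cfsg.IsPSolvable p H) (hOp : Cfsg.pCore p H = ⊥) (x : V ≃ₗ[F] V) (hx : x ∈ H) (n : ℕ) (hn : orderOf x = p ^ n) (r : ℕ) (hr : minpoly F (x : Module.End F V) = (Polynomial.X - 1) ^ r) : r = p ^ n ∨ ∃ n₀ q m : ℕ, 1 ≤ n₀ ∧ n₀ ≤ n ∧ q.Prime ∧ 1 ≤ m ∧ p ^ n₀ - 1 = q ^ m ∧ (∀ Q : Sylow q H, ¬ IsMulCommutative Q) ∧ p ^ (n - n₀) * (p ^ n₀ - 1) ≤ r := by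
  have hp := (Fact.out : p.Prime)
  classical
  let ρ : Representation F H V :=
    { toFun := fun h => ((h : V ≃ₗ[F] V) : Module.End F V), map_one' := rfl, map_mul' := fun _ _ => rfl }
  have hρinj : Function.Injective ρ := fun a b e => Subtype.ext (LinearEquiv.toLinearMap_injective e)
  have hρx : ρ ⟨x, hx⟩ = (x : Module.End F V) := rfl
  have hord : orderOf (⟨x, hx⟩ : H) = p ^ n := by rw [Subgroup.orderOf_mk, hn]
  have hk : (ρ ⟨x, hx⟩ - 1) ^ r = 0 := by
    have h := minpoly.aeval F (x : Module.End F V)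
    rw [hr, map_pow, map_sub, Polynomial.aeval_X, map_one] at h
    exact h
  have hxP : (ρ ⟨x, hx⟩) ^ p ^ n = 1 := by
    rw [← map_pow, ← hord, pow_orderOf_eq_one, map_one]
  have hcp : CharP (Module.End F V) p := by
    obtain ⟨v, hv⟩ := exists_ne (0 : V)
    exact charP_of_injective_algebraMap (FaithfulSMul.algebraMap_injective F (Module.End F V)) p
  have hle : r ≤ p ^ n := by
    have h0 : (ρ ⟨x, hx⟩ - 1) ^ p ^ n = 0 := by
      rw [sub_pow_char_pow_of_commute (p := p) n (Commute.one_right _), hxP, one_pow, sub_self]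
    have hd := minpoly.dvd F (x : Module.End F V) (p := (Polynomial.X - 1) ^ p ^ n)
      (by rw [map_pow, map_sub, Polynomial.aeval_X, map_one]; exact h0)
    rw [hr] at hd
    have h1 : (Polynomial.X - 1 : Polynomial F) = Polynomial.X - Polynomial.C 1 := by simp
    have h2 := Polynomial.natDegree_le_of_dvd hd (pow_ne_zero _ (by rw [h1]; exact Polynomial.X_sub_C_ne_zero 1))
    rwa [Polynomial.natDegree_pow, Polynomial.natDegree_pow, h1, Polynomial.natDegree_X_sub_C, mul_one, mul_one] at h2
  rcases Nat.eq_zero_or_pos n with rfl | hn1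
  · left
    rw [pow_zero] at hle ⊢
    have h1 : 0 < r := by
      rcases Nat.eq_zero_or_pos r with rfl | h
      · rw [pow_zero] at hr
        exact absurd (hr ▸ isUnit_one) (minpoly.not_isUnit F _)
      · exact h
    omega
  obtain ⟨q, Q, hq, hqp, hQ, -, hb⟩ :=
    CfsgLib.HallHigman.exceptional_of_isPSolvable ρ hρinj hsol hOp hn1 hord hk
  rcases hb with hb | ⟨a, b, ha, han, hb1, hpab, hdeg, g, hg, g', hg', hne⟩
  · exact Or.inl (le_antisymm hle hb)
  · refine Or.inr ⟨a, q, b, ha, han, hq, hb1, by omega, fun S hS => ?_, ?_⟩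
    · have := Fact.mk hq
      obtain ⟨T, hT⟩ := hQ.exists_le_sylow
      have : IsMulCommutative (T : Subgroup H) := by
        refine ⟨⟨fun u v => ?_⟩⟩
        apply (Sylow.equiv T S).injective
        rw [map_mul, map_mul]
        exact hS.is_comm.comm _ _
      exact hne (congrArg Subtype.val (this.is_comm.comm (⟨g, hT hg⟩ : (T : Subgroup H)) ⟨g', hT hg'⟩))
    · rwa [show p ^ a - 1 = q ^ b by omega]

end Cfsg.Agent.S0633
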