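import Cfsg.Statements.S0634
import Cfsg.Agent.Lib.PLength.Series
import Cfsg.Agent.Lib.PLength.Constrained
import Cfsg.Agent.Lib.StructC.PSolvableQuot
import Cfsg.Agent.Lib.Comp.PComponent

set_option autoImplicit false
open Cfsg

namespace Cfsg.Agent.S0634

/-- In a p-soluble group each p-factor of the upper p-series contains its own centralizer in the corresponding quotient. -/
theorem result {G : Type*} [Group G] [Finite G] {p : ℕ} [Fact p.Prime] (hsol : Cfsg.IsPSolvable p G) (k : ℕ) : Subgroup.centralizer ((((Cfsg.upperPSeries p G (2 * k + 2)).1.map (QuotientGroup.mk' (Cfsg.upperPSeries p G (2 * k + 1)).1)) : Subgroup (G ⧸ (Cfsg.upperPSeries p G (2 * k + 1)).1)) : Set (G ⧸ (Cfsg.upperPSeries p G (2 * k + 1)).1)) ≤ (Cfsg.upperPSeries p G (2 * k + 2)).1.map (QuotientGroup.mk' (Cfsg.upperPSeries p G (2 * k + 1)).1) := by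
  haveI := (Cfsg.upperPSeries p G (2 * k)).2
  haveI := (Cfsg.upperPSeries p G (2 * k + 1)).2
  have hodd : ¬ Even (2 * k + 1) := by simp [parity_simps]
  have heven : Even (2 * k) := even_two_mul k
  have e1 := CfsgLib.PLength.upperPSeries_succ (G := G) (p := p) (2 * k + 1)
  rw [if_neg hodd] at e1
  rw [show 2 * k + 2 = 2 * k + 1 + 1 by omega, e1,
    Subgroup.map_comap_eq_self_of_surjective (QuotientGroup.mk'_surjective _)]
  refine CfsgLib.PLength.centralizer_pCore_le_of_isPSolvable
    (CfsgLib.StructC.isPSolvable_quotient _ hsol) ?_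
  set Q := G ⧸ (Cfsg.upperPSeries p G (2 * k + 1)).1
  haveI := Cfsg.pPrimeCore_normal p (G ⧸ (Cfsg.upperPSeries p G (2 * k)).1)
  haveI := Cfsg.pPrimeCore_normal p Q
  have e0 := CfsgLib.PLength.upperPSeries_succ (G := G) (p := p) (2 * k)
  rw [if_pos heven] at e0
  let q := QuotientGroup.mk' (Cfsg.upperPSeries p G (2 * k)).1
  let f : G →* (G ⧸ (Cfsg.upperPSeries p G (2 * k)).1) ⧸
      Cfsg.pPrimeCore p (G ⧸ (Cfsg.upperPSeries p G (2 * k)).1) :=
    (QuotientGroup.mk' _).comp q
  have hf : Function.Surjective f :=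
    (QuotientGroup.mk'_surjective _).comp (QuotientGroup.mk'_surjective _)
  have hker : (Cfsg.upperPSeries p G (2 * k + 1)).1 = f.ker := by
    rw [e0]
    show _ = ((QuotientGroup.mk' _).comp q).ker
    rw [← MonoidHom.comap_ker, QuotientGroup.ker_mk']
  let e := (QuotientGroup.quotientMulEquivOfEq hker).trans
    (QuotientGroup.quotientKerEquivOfSurjective f hf)
  rw [← Subgroup.map_eq_bot_iff_of_injective _ (f := e.toMonoidHom) e.injective,
    CfsgLib.Solvable.map_pPrimeCore_equiv e p]
  exact CfsgLib.Comp.pPrimeCore_quotient_eq_bot p _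

end Cfsg.Agent.S0634
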