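import Cfsg.Statements.S0647


set_option autoImplicit false
open Cfsg
open scoped commutatorElement

namespace Cfsg.Agent.S0647

/-- For a nonempty family of maximal abelian subgroups of a finite group, the intersection of the family is the centre of the subgroup it generates, which is also the full centralizer of that subgroup. -/
theorem result {S : Type*} [Group S] [Finite S] (𝒜 : Set (Subgroup S)) (hne : 𝒜.Nonempty) (hab : ∀ A ∈ 𝒜, IsMulCommutative A) (hmax : ∀ A ∈ 𝒜, ∀ B : Subgroup S, IsMulCommutative B → A ≤ B → B = A) : sInf 𝒜 = sSup 𝒜 ⊓ Subgroup.centralizer ((sSup 𝒜 : Subgroup S) : Set S) ∧ sInf 𝒜 = Subgroup.centralizer ((sSup 𝒜 : Subgroup S) : Set S) := by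
  obtain ⟨A₀, hA₀⟩ := hne
  have hinf : sInf 𝒜 = Subgroup.centralizer ((sSup 𝒜 : Subgroup S) : Set S) := by
    apply le_antisymm
    · rw [Subgroup.le_centralizer_iff]
      refine sSup_le fun A hA => ?_
      rw [Subgroup.le_centralizer_iff]
      exact (sInf_le hA).trans (Subgroup.le_centralizer_iff_isMulCommutative.2 (hab A hA))
    · refine le_sInf fun A hA x hx => ?_
      have hAc := Subgroup.le_centralizer_iff_isMulCommutative.2 (hab A hA)
      have hxA : Subgroup.zpowers x ≤ Subgroup.centralizer (A : Set S) :=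
        Subgroup.zpowers_le.2 (Subgroup.centralizer_le (SetLike.coe_subset_coe.2 (le_sSup hA : A ≤ sSup 𝒜)) hx)
      have hcomm : A ⊔ Subgroup.zpowers x ≤ Subgroup.centralizer ((A ⊔ Subgroup.zpowers x : Subgroup S) : Set S) := by
        refine sup_le ?_ ?_ <;> rw [Subgroup.le_centralizer_iff] <;> refine sup_le ?_ ?_
        · exact hAc
        · exact hxA
        · exact Subgroup.le_centralizer_iff.1 hxA
        · exact Subgroup.le_centralizer_iff_isMulCommutative.2 (Subgroup.zpowers_isMulCommutative x)
      rw [← hmax A hA _ (Subgroup.le_centralizer_iff_isMulCommutative.1 hcomm) le_sup_left]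
      exact Subgroup.mem_sup_right (Subgroup.mem_zpowers x)
  refine ⟨le_antisymm (le_inf ((sInf_le hA₀).trans (le_sSup hA₀)) hinf.le) ?_, hinf⟩
  exact inf_le_right.trans hinf.ge

end Cfsg.Agent.S0647
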