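import Cfsg.Statements.S0648
-- import your own Cfsg.Agent.* helpers here

set_option autoImplicit false
open Cfsg

namespace Cfsg.Agent.S0648

open scoped commutatorElement
variable {G : Type*} [Group G] [Finite G]

omit [Finite G] in
theorem mul_left_comm_el (u v q : G) : ⁅u * v, q⁆ = u * ⁅v, q⁆ * u⁻¹ * ⁅u, q⁆ := by
  simp only [commutatorElement_def]; group

omit [Finite G] in
theorem mul_right_comm_el (u v q : G) : ⁅u, v * q⁆ = ⁅u, v⁆ * (v * ⁅u, q⁆ * v⁻¹) := by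
  simp only [commutatorElement_def]; group

omit [Finite G] in
theorem conj_eq_of_comm {u z : G} (h : u * z = z * u) : u * z * u⁻¹ = z := by
  rw [h, mul_inv_cancel_right]


/-- If A acts on B centralizing [B, B], then [B, A] has derived subgroup central in B, and for abelian A and b ∈ B with [[b, A], A, A] = 1 the derived subgroup of the subgroup [b, A] generated by the commutators of b with A has exponent dividing 2. -/
theorem result {G : Type*} [Group G] [Finite G] (A B : Subgroup G) (hAB : A ≤ Subgroup.normalizer (B : Set G)) (hc : ⁅⁅B, B⁆, A⁆ = ⊥) : ⁅⁅B, A⁆, ⁅B, A⁆⁆ ≤ B ⊓ Subgroup.centralizer (B : Set G) ∧ (IsMulCommutative A → ∀ b ∈ B, ⁅⁅(Subgroup.closure {g : G | ∃ a ∈ A, g = b⁻¹ * a * b * a⁻¹}), A⁆, A⁆ = ⊥ → ∀ w ∈ ⁅(Subgroup.closure {g : G | ∃ a ∈ A, g = b⁻¹ * a * b * a⁻¹}), (Subgroup.closure {g : G | ∃ a ∈ A, g = b⁻¹ * a * b * a⁻¹})⁆, w ^ 2 = 1) := by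
  have hKB : ⁅B, A⁆ ≤ B := by
    refine Subgroup.commutator_le.2 fun u hu a ha => ?_
    have h : a * u⁻¹ * a⁻¹ ∈ B := (Subgroup.mem_normalizer_iff.1 (hAB ha) u⁻¹).1 (B.inv_mem hu)
    have e : ⁅u, a⁆ = u * (a * u⁻¹ * a⁻¹) := by simp only [commutatorElement_def]; group
    rw [e]; exact B.mul_mem hu h
  have h1 : ⁅⁅A, B⁆, ⁅B, B⁆⁆ = ⊥ := by
    refine Subgroup.commutator_commutator_eq_bot_of_rotate ?_ ?_
    · refine eq_bot_iff.2 ((Subgroup.commutator_mono ?_ le_rfl).trans hc.le)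
      exact Subgroup.commutator_mono le_rfl (Subgroup.commutator_le_self B)
    · rw [hc, Subgroup.commutator_bot_left]
  have hK : ∀ k ∈ ⁅B, A⁆, ∀ z ∈ ⁅B, B⁆, k * z = z * k := by
    intro k hk z hz
    rw [Subgroup.commutator_comm] at hk
    exact (Subgroup.mem_centralizer_iff.1
      (Subgroup.commutator_eq_bot_iff_le_centralizer.1 h1 hk) z hz).symm
  set K := ⁅B, A⁆ with hKdef
  have hKBB : ⁅K, B⁆ ≤ ⁅B, B⁆ := Subgroup.commutator_mono hKB le_rfl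
  have h2 : ⁅⁅K, K⁆, B⁆ = ⊥ := by
    have hz : ⁅⁅B, B⁆, K⁆ = ⊥ := by
      rw [Subgroup.commutator_eq_bot_iff_le_centralizer]
      exact fun z hz => Subgroup.mem_centralizer_iff.2 fun k hk => hK k hk z hz
    refine Subgroup.commutator_commutator_eq_bot_of_rotate ?_ ?_
    · exact eq_bot_iff.2 ((Subgroup.commutator_mono hKBB le_rfl).trans hz.le)
    · rw [Subgroup.commutator_comm B K]
      exact eq_bot_iff.2 ((Subgroup.commutator_mono hKBB le_rfl).trans hz.le)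
  have hKK : ⁅K, K⁆ ≤ Subgroup.centralizer (B : Set G) :=
    Subgroup.commutator_eq_bot_iff_le_centralizer.1 h2
  refine ⟨le_inf ((Subgroup.commutator_mono hKB hKB).trans (Subgroup.commutator_le_self B)) hKK, ?_⟩
  intro hA b hb hX
  set S : Set G := {g : G | ∃ a ∈ A, g = b⁻¹ * a * b * a⁻¹} with hS
  set X := Subgroup.closure S with hXdef
  have hfix : ∀ a ∈ A, ∀ u ∈ B, ∀ v ∈ B, ⁅a * u * a⁻¹, a * v * a⁻¹⁆ = ⁅u, v⁆ := by
    intro a ha u hu v hv
    have e : ⁅a * u * a⁻¹, a * v * a⁻¹⁆ = a * ⁅u, v⁆ * a⁻¹ := by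
      simp only [commutatorElement_def]; group
    rw [e]
    exact conj_eq_of_comm ((Subgroup.mem_centralizer_iff.1
      (Subgroup.commutator_eq_bot_iff_le_centralizer.1 hc
        (Subgroup.commutator_mem_commutator hu hv)) a ha))
  have hSK : ∀ x ∈ S, x ∈ K := by
    rintro x ⟨a, ha, rfl⟩
    have h := Subgroup.commutator_mem_commutator (B.inv_mem hb) ha
    rw [commutatorElement_def, inv_inv] at h
    exact h
  have hXK : X ≤ K := (Subgroup.closure_le _).2 hSK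
  have hcz : ∀ p ∈ K, ∀ q ∈ K, ∀ u ∈ B, u * ⁅p, q⁆ * u⁻¹ = ⁅p, q⁆ := fun p hp q hq u hu =>
    conj_eq_of_comm (Subgroup.mem_centralizer_iff.1
      (hKK (Subgroup.commutator_mem_commutator hp hq)) u hu)
  have hgen : ∀ a ∈ A, a * b * a⁻¹ = b * (b⁻¹ * a * b * a⁻¹) := fun a _ => by group
  -- conjugation invariance of `[b, q]`
  have hkey : ∀ a ∈ A, ∀ q ∈ K,
      ⁅b⁻¹ * a * b * a⁻¹, a * q * a⁻¹⁆ * ⁅b, a * q * a⁻¹⁆ = ⁅b, q⁆ := by
    intro a ha q hq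
    have hq' : a * q * a⁻¹ ∈ K := by
      have hq1 : ⁅q⁻¹, a⁆ ∈ K :=
        Subgroup.commutator_mem_commutator (hKB (K.inv_mem hq)) ha
      have e : a * q * a⁻¹ = q * ⁅q⁻¹, a⁆ := by simp only [commutatorElement_def]; group
      rw [e]; exact K.mul_mem hq hq1
    have h := hfix a ha b hb q (hKB hq)
    rw [hgen a ha, mul_left_comm_el, hcz _ (hSK _ ⟨a, ha, rfl⟩) _ hq' b hb] at h
    exact h
  -- fixed points are central in `X`
  have hfixc : ∀ w ∈ K, (∀ a ∈ A, a * w * a⁻¹ = w) → ∀ y ∈ S, ⁅y, w⁆ = 1 := by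
    rintro w hw hwf y ⟨a, ha, rfl⟩
    have h := hkey a ha w hw
    rw [hwf a ha] at h
    exact mul_eq_right.1 h
  have hAX : ∀ a ∈ A, ∀ x ∈ S, ∀ e ∈ A,
      e * (x⁻¹ * (a * x * a⁻¹)) * e⁻¹ = x⁻¹ * (a * x * a⁻¹) := by
    intro a ha x hx e he
    have hm : x⁻¹ * (a * x * a⁻¹) ∈ ⁅X, A⁆ := by
      have h := Subgroup.commutator_mem_commutator (X.inv_mem (Subgroup.subset_closure hx)) ha
      rw [commutatorElement_def, inv_inv] at h
      simpa only [mul_assoc] using h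
    exact conj_eq_of_comm (Subgroup.mem_centralizer_iff.1
      (Subgroup.commutator_eq_bot_iff_le_centralizer.1 hX hm) e he)
  have hval : ∀ a ∈ A, ∀ y ∈ S, (y⁻¹ * (a * y * a⁻¹)) ∈ K ∧
      ⁅b⁻¹ * a * b * a⁻¹, y⁆ * ⁅b, y⁻¹ * (a * y * a⁻¹)⁆ = 1 := by
    intro a ha y hy
    have hyK := hSK y hy
    set s := y⁻¹ * (a * y * a⁻¹) with hs
    have hsK : s ∈ K := by
      refine K.mul_mem (K.inv_mem hyK) ?_
      have e : a * y * a⁻¹ = y * ⁅y⁻¹, a⁆ := by simp only [commutatorElement_def]; group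
      rw [e]
      exact K.mul_mem hyK (Subgroup.commutator_mem_commutator (hKB (K.inv_mem hyK)) ha)
    refine ⟨hsK, ?_⟩
    have hxs : ⁅b⁻¹ * a * b * a⁻¹, s⁆ = 1 :=
      hfixc s hsK (fun e he => hAX a ha y hy e he) _ ⟨a, ha, rfl⟩
    have h := hkey a ha y hyK
    rw [show a * y * a⁻¹ = y * s by rw [hs]; group, mul_right_comm_el, hxs, mul_one,
      mul_inv_cancel, mul_one, mul_right_comm_el b,
      conj_eq_of_comm (hK y hyK _ (Subgroup.commutator_mem_commutator hb (hKB hsK)))] at h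
    have hcomm : ⁅b, y⁆ * ⁅b, s⁆ = ⁅b, s⁆ * ⁅b, y⁆ := by
      have hz := Subgroup.commutator_mem_commutator hb (hKB hyK)
      have hz' : b⁻¹ * ⁅b, y⁆ * b ∈ ⁅B, B⁆ := by
        have e : b⁻¹ * ⁅b, y⁆ * b = ⁅b⁻¹, ⁅b, y⁆⁆ * ⁅b, y⁆ := by
          simp only [commutatorElement_def]; group
        rw [e]
        exact mul_mem (Subgroup.commutator_mem_commutator (B.inv_mem hb)
          (Subgroup.commutator_le_self B hz)) hz
      have h4 := hK s hsK _ hz'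
      have h3 := hK s⁻¹ (K.inv_mem hsK) _ hz
      rw [commutatorElement_def b s]
      calc ⁅b, y⁆ * (b * s * b⁻¹ * s⁻¹) = b * ((b⁻¹ * ⁅b, y⁆ * b) * s) * b⁻¹ * s⁻¹ := by group
        _ = b * (s * (b⁻¹ * ⁅b, y⁆ * b)) * b⁻¹ * s⁻¹ := by rw [h4]
        _ = b * s * b⁻¹ * (⁅b, y⁆ * s⁻¹) := by group
        _ = b * s * b⁻¹ * s⁻¹ * ⁅b, y⁆ := by rw [← h3, ← mul_assoc]
    rw [hcomm, ← mul_assoc] at h
    exact mul_eq_right.1 h
  have hbase : ∀ x ∈ S, ∀ y ∈ S, ⁅x, y⁆ ^ 2 = 1 := by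
    rintro x ⟨a, ha, rfl⟩ y ⟨c, hc', rfl⟩
    set x := b⁻¹ * a * b * a⁻¹ with hx
    set y := b⁻¹ * c * b * c⁻¹ with hy
    have hxS : x ∈ S := ⟨a, ha, rfl⟩
    have hyS : y ∈ S := ⟨c, hc', rfl⟩
    obtain ⟨hsK, hs⟩ := hval a ha y hyS
    obtain ⟨htK, ht⟩ := hval c hc' x hxS
    have hac : a * c = c * a := congrArg Subtype.val (hA.is_comm.comm ⟨a, ha⟩ ⟨c, hc'⟩)
    have hrel : x * (a * y * a⁻¹) = y * (c * x * c⁻¹) := by
      calc x * (a * y * a⁻¹) = b⁻¹ * (a * c) * b * (a * c)⁻¹ := by rw [hx, hy]; group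
        _ = b⁻¹ * (c * a) * b * (c * a)⁻¹ := by rw [hac]
        _ = y * (c * x * c⁻¹) := by rw [hx, hy]; group
    have hts : x⁻¹ * (c * x * c⁻¹) = ⁅x⁻¹, y⁻¹⁆ * (y⁻¹ * (a * y * a⁻¹)) := by
      calc x⁻¹ * (c * x * c⁻¹) = x⁻¹ * y⁻¹ * (y * (c * x * c⁻¹)) := by group
        _ = x⁻¹ * y⁻¹ * (x * (a * y * a⁻¹)) := by rw [hrel]
        _ = _ := by simp only [commutatorElement_def]; group
    have hk := hcz _ (K.inv_mem (hSK x hxS)) _ (K.inv_mem (hSK y hyS)) b hb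
    have hbk : ⁅b, ⁅x⁻¹, y⁻¹⁆⁆ = 1 := by
      rw [commutatorElement_def b, hk, mul_inv_cancel]
    rw [hts, mul_right_comm_el b, hbk, one_mul, conj_eq_of_comm (hK _ ?_ _ ?_)] at ht
    · have e : ⁅x, y⁆ = ⁅y, x⁆ := mul_right_cancel (hs.trans ht.symm)
      rw [pow_two]
      nth_rewrite 2 [e]
      rw [← commutatorElement_inv x y, mul_inv_cancel]
    · exact Subgroup.commutator_le.2 (fun p hp q hq => by
        simp only [commutatorElement_def]
        exact K.mul_mem (K.mul_mem (K.mul_mem hp hq) (K.inv_mem hp)) (K.inv_mem hq))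
        (Subgroup.commutator_mem_commutator (K.inv_mem (hSK x hxS)) (K.inv_mem (hSK y hyS)))
    · exact Subgroup.commutator_mem_commutator hb (hKB hsK)
  have hsq : ∀ p ∈ X, ∀ q ∈ X, ∀ r ∈ X, ∀ r' ∈ X,
      ⁅p, q⁆ ^ 2 = 1 → ⁅r, r'⁆ ^ 2 = 1 → (⁅p, q⁆ * ⁅r, r'⁆) ^ 2 = 1 := by
    intro p hp q hq r hr r' hr' e1 e2
    have hcm : Commute ⁅p, q⁆ ⁅r, r'⁆ := (Subgroup.mem_centralizer_iff.1
      (hKK (Subgroup.commutator_mem_commutator (hXK hp) (hXK hq))) _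
      (Subgroup.commutator_le_self B (Subgroup.commutator_mem_commutator (hKB (hXK hr))
        (hKB (hXK hr'))))).symm
    rw [hcm.mul_pow, e1, e2, one_mul]
  have hright : ∀ p ∈ X, (∀ y ∈ S, ⁅p, y⁆ ^ 2 = 1) → ∀ q ∈ X, ⁅p, q⁆ ^ 2 = 1 := by
    intro p hp hp1 q hq
    induction hq using Subgroup.closure_induction with
    | mem y hy => exact hp1 y hy
    | one => simp
    | mul u v hu hv e1 e2 =>
      rw [mul_right_comm_el, hcz p (hXK hp) v (hXK hv) u (hKB (hXK hu))]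
      exact hsq p hp u hu p hp v hv e1 e2
    | inv u hu e1 =>
      have e : ⁅p, u⁻¹⁆ = u⁻¹ * ⁅p, u⁆⁻¹ * u := by simp only [commutatorElement_def]; group
      have := hcz p (hXK hp) u (hXK hu) u⁻¹ (B.inv_mem (hKB (hXK hu)))
      rw [inv_inv] at this
      have e3 : u⁻¹ * ⁅p, u⁆⁻¹ * u = (u⁻¹ * ⁅p, u⁆ * u)⁻¹ := by group
      rw [e, e3, this, inv_pow, e1, inv_one]
  have hall : ∀ p ∈ X, ∀ q ∈ X, ⁅p, q⁆ ^ 2 = 1 := by
    intro p hp q hq
    induction hq using Subgroup.closure_induction with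
    | mem y hy =>
      rw [← commutatorElement_inv y p, inv_pow,
        hright y (Subgroup.subset_closure hy) (fun z hz => hbase y hy z hz) p hp, inv_one]
    | one => simp
    | mul u v hu hv e1 e2 =>
      rw [mul_right_comm_el, hcz p (hXK hp) v (hXK hv) u (hKB (hXK hu))]
      exact hsq p hp u hu p hp v hv e1 e2
    | inv u hu e1 =>
      have e : ⁅p, u⁻¹⁆ = u⁻¹ * ⁅p, u⁆⁻¹ * u := by simp only [commutatorElement_def]; group
      have := hcz p (hXK hp) u (hXK hu) u⁻¹ (B.inv_mem (hKB (hXK hu)))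
      rw [inv_inv] at this
      have e3 : u⁻¹ * ⁅p, u⁆⁻¹ * u = (u⁻¹ * ⁅p, u⁆ * u)⁻¹ := by group
      rw [e, e3, this, inv_pow, e1, inv_one]
  intro w hw
  suffices h : w ∈ ⁅K, K⁆ ∧ w ^ 2 = 1 from h.2
  rw [Subgroup.commutator_def] at hw
  induction hw using Subgroup.closure_induction with
  | mem z hz =>
    obtain ⟨p, hp, q, hq, rfl⟩ := hz
    exact ⟨Subgroup.commutator_mem_commutator (hXK hp) (hXK hq), hall p hp q hq⟩
  | one => exact ⟨one_mem _, one_pow 2⟩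
  | mul u v _ _ e1 e2 =>
    refine ⟨mul_mem e1.1 e2.1, ?_⟩
    have hcm : Commute u v := (Subgroup.mem_centralizer_iff.1 (hKK e1.1) v
      ((Subgroup.commutator_mono hKB hKB).trans (Subgroup.commutator_le_self B) e2.1)).symm
    rw [hcm.mul_pow, e1.2, e2.2, one_mul]
  | inv u _ e1 => exact ⟨inv_mem e1.1, by rw [inv_pow, e1.2, inv_one]⟩

end Cfsg.Agent.S0648
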