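import Cfsg.Statements.S0650
import Cfsg.Agent.Lib.PLocal.ReplaceA

set_option autoImplicit false
open Cfsg
open scoped commutatorElement

namespace Cfsg.Agent.S0650

/-- The Glauberman replacement Theorem: from an abelian A ⊇ [B, B] not normalized by the normal subgroup B and a suitable b ∈ B one gets the abelian subgroup A* = (A ∩ b⁻¹Ab)[A, b] of the same order, containing [B, B], meeting B strictly more than A does but not containing B, mutually normalizing with A, with strictly larger normalizer containing b, and (p odd) of no larger exponent. -/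
theorem result {S : Type*} [Group S] [Finite S] {p : ℕ} [Fact p.Prime] (hS : IsPGroup p S) (B : Subgroup S) [B.Normal] (hB2 : p = 2 → IsMulCommutative B) (A : Subgroup S) (hA : IsMulCommutative A) (hBA : ⁅B, B⁆ ≤ A) (hnot : ¬ B ≤ Subgroup.normalizer (A : Set S)) (b : S) (hb : b ∈ B) (hbN : b ∈ Subgroup.normalizer ((Subgroup.normalizer (A : Set S)) : Set S)) (hbA : b ∉ Subgroup.normalizer (A : Set S)) : Nat.card ↥((A ⊓ A.map (MulAut.conj (b⁻¹)).toMonoidHom) ⊔ Subgroup.closure {g : S | ∃ a ∈ A, g = a * b⁻¹ * a⁻¹ * b}) = Nat.card A ∧ IsMulCommutative ↥((A ⊓ A.map (MulAut.conj (b⁻¹)).toMonoidHom) ⊔ Subgroup.closure {g : S | ∃ a ∈ A, g = a * b⁻¹ * a⁻¹ * b}) ∧ ⁅B, B⁆ ≤ ((A ⊓ A.map (MulAut.conj (b⁻¹)).toMonoidHom) ⊔ Subgroup.closure {g : S | ∃ a ∈ A, g = a * b⁻¹ * a⁻¹ * b}) ∧ A ⊓ B < ((A ⊓ A.map (MulAut.conj (b⁻¹)).toMonoidHom) ⊔ Subgroup.closure {g : S | ∃ a ∈ A, g = a * b⁻¹ * a⁻¹ * b}) ⊓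 B ∧ ((A ⊓ A.map (MulAut.conj (b⁻¹)).toMonoidHom) ⊔ Subgroup.closure {g : S | ∃ a ∈ A, g = a * b⁻¹ * a⁻¹ * b}) ⊓ B < B ∧ A ≤ Subgroup.normalizer (((A ⊓ A.map (MulAut.conj (b⁻¹)).toMonoidHom) ⊔ Subgroup.closure {g : S | ∃ a ∈ A, g = a * b⁻¹ * a⁻¹ * b} : Subgroup S) : Set S) ∧ ((A ⊓ A.map (MulAut.conj (b⁻¹)).toMonoidHom) ⊔ Subgroup.closure {g : S | ∃ a ∈ A, g = a * b⁻¹ * a⁻¹ * b}) ≤ Subgroup.normalizer (A : Set S) ∧ b ∈ Subgroup.normalizer (((A ⊓ A.map (MulAut.conj (b⁻¹)).toMonoidHom) ⊔ Subgroup.closure {g : S | ∃ a ∈ A, g = a * b⁻¹ * a⁻¹ * b} : Subgroup S) : Set S) ∧ Subgroup.normalizer (A : Set S) < Subgroup.normalizer (((A ⊓ A.map (MulAut.conj (b⁻¹)).toMonoidHom) ⊔ Subgroup.closure {g : S | ∃ a ∈ A, g = a * b⁻¹ * a⁻¹ * b} : Subgroup S) : Set S) ∧ (p ≠ 2 → Monoid.exponent ↥((A ⊓ A.map (MulAut.conj (b⁻¹)).toMonoidHom) ⊔ Subgroup.closure {g : S | ∃ a ∈ A, g = a * b⁻¹ * a⁻¹ * b}) ∣ Monoid.exponent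 A) := by
  classical
  have hBn : ∀ g : S, g ∈ Subgroup.normalizer (B : Set S) := fun g => by
    rw [Subgroup.normalizer_eq_top_iff.2 ‹B.Normal›]; exact Subgroup.mem_top g
  have hN : ∀ n ∈ Subgroup.normalizer (A : Set S),
      b * n * b⁻¹ ∈ Subgroup.normalizer (A : Set S) ∧ b⁻¹ * n * b ∈ Subgroup.normalizer (A : Set S) :=
    fun n hn => ⟨(Subgroup.mem_normalizer_iff.1 hbN n).1 hn, (Subgroup.mem_normalizer_iff''.1 hbN n).1 hn⟩
  have hodd : (∀ y ∈ B, y ^ 2 = 1 → y = 1) ∨ IsMulCommutative B := by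
    by_cases hp : p = 2
    · exact Or.inr (hB2 hp)
    · refine Or.inl fun y hy hy2 => ?_
      obtain ⟨k, hk⟩ := hS y
      obtain ⟨j, hj⟩ := (((Fact.out : p.Prime).odd_of_ne_two hp).pow : Odd (p ^ k))
      rwa [hj, pow_succ, pow_mul, hy2, one_pow, one_mul] at hk
  have h : CfsgLib.PLocal.ReplData A B b⁻¹ := ⟨hA, fun g _ => hBn g, hBA, hodd, B.inv_mem hb,
    fun a ha => by simpa using (hN a (Subgroup.le_normalizer ha)).2,
    fun a ha => by simpa using (hN a (Subgroup.le_normalizer ha)).1⟩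
  have hx : b⁻¹ ∉ Subgroup.normalizer (A : Set S) := fun hh => hbA (by simpa using inv_mem hh)
  have e : (A ⊓ A.map (MulAut.conj (b⁻¹)).toMonoidHom) ⊔
      Subgroup.closure {g : S | ∃ a ∈ A, g = a * b⁻¹ * a⁻¹ * b} = CfsgLib.PLocal.replA A b⁻¹ := by
    simp [CfsgLib.PLocal.replA]
  rw [e]
  refine ⟨h.card_eq, h.isMulCommutative, h.derived_le, h.inf_lt hx, h.inf_lt_B hx, h.le_normalizer_replA,
    h.le_normalizer_self, by simpa using inv_mem h.mem_normalizer_replA, ?_, fun hp => ?_⟩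
  · refine lt_of_le_of_ne (fun n hn => h.normalizer_le hn (hBn n) ?_ ?_) fun heq => hx ?_
    · rw [show n * b⁻¹ * n⁻¹ * b⁻¹⁻¹ = n * (b⁻¹ * n⁻¹ * b) by group]
      exact mul_mem hn (hN _ (inv_mem hn)).2
    · rw [show n⁻¹ * b⁻¹ * n * b⁻¹⁻¹ = n⁻¹ * (b⁻¹ * n * b) by group]
      exact mul_mem (inv_mem hn) (hN _ hn).2
    · rw [heq]; exact h.mem_normalizer_replA
  · obtain ⟨k, hk⟩ := (hS.to_subgroup A).exists_card_eq
    have hmo : Odd (Monoid.exponent A) := by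
      refine Odd.of_dvd_nat ?_ Group.exponent_dvd_nat_card
      rw [hk]; exact ((Fact.out : p.Prime).odd_of_ne_two hp).pow
    refine Monoid.exponent_dvd_of_forall_pow_eq_one fun g => Subtype.ext ?_
    exact h.pow_eq_one hmo (fun a ha => congrArg Subtype.val (Monoid.pow_exponent_eq_one (⟨a, ha⟩ : A))) g.2

end Cfsg.Agent.S0650
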