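import Cfsg.Statements.S0651
import Cfsg.Agent.Lib.PLocal.ReplaceA

set_option autoImplicit false
open Cfsg
open scoped commutatorElement

namespace Cfsg.Agent.S0651

/-- For odd p and D normal in the p-group S, the abelian subgroups of D of largest order satisfy the replacement property: a class-2 normal subgroup B of S with a member containing [B, B] but not B normalizes some such member. -/
theorem result {S : Type*} [Group S] [Finite S] {p : ℕ} [Fact p.Prime] (hS : IsPGroup p S) (hp : p ≠ 2) (D : Subgroup S) [D.Normal] : ∀ (B : Subgroup S) [B.Normal], ⁅⁅B, B⁆, B⁆ = ⊥ → (∃ U ∈ (Set.image (fun A : Subgroup ↥D => A.map D.subtype) (Cfsg.maxAbelianSubgroups ↥D)), ⁅B, B⁆ ≤ U ∧ ¬ B ≤ U) → ∃ A ∈ (Set.image (fun A : Subgroup ↥D => A.map D.subtype) (Cfsg.maxAbelianSubgroups ↥D)), ⁅B, B⁆ ≤ A ∧ ¬ B ≤ A ∧ B ≤ Subgroup.normalizer (A : Set S) := by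
  intro B _ _hB hex
  classical
  set 𝒜 := (Set.image (fun A : Subgroup ↥D => A.map D.subtype) (Cfsg.maxAbelianSubgroups ↥D)) with h𝒜
  obtain ⟨A, ⟨hA, hBA, hBnA⟩, hmax⟩ := Set.exists_max_image
    {A | A ∈ 𝒜 ∧ ⁅B, B⁆ ≤ A ∧ ¬ B ≤ A} (fun A => Nat.card ↥(A ⊓ B)) (Set.toFinite _)
    (by obtain ⟨U, hU, h1, h2⟩ := hex; exact ⟨U, hU, h1, h2⟩)
  refine ⟨A, hA, hBA, hBnA, ?_⟩
  by_contra hne
  obtain ⟨A₀, hA₀, rfl⟩ := hA
  have hAD : A₀.map D.subtype ≤ D := Subgroup.map_subtype_le A₀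
  haveI := hA₀.1
  have hAc : IsMulCommutative ↥(A₀.map D.subtype) := inferInstance
  obtain ⟨x, h, hx, -⟩ := CfsgLib.PLocal.exists_replData (S := (⊤ : Subgroup S))
    (fun y => (hS y.1).imp fun k hk => Subtype.ext hk) hAc le_top le_top
    (by rw [Subgroup.normalizer_eq_top_iff.2 ‹B.Normal›]) hBA (fun h2 => absurd h2 hp) hne
  set A' := CfsgLib.PLocal.replA (A₀.map D.subtype) x with hA'
  have hA'D : A' ≤ D := by
    refine h.le_sup_conj.trans (sup_le hAD ?_)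
    rintro _ ⟨a, ha, rfl⟩
    exact Subgroup.Normal.conj_mem ‹D.Normal› a (hAD ha) x
  have hmem : A' ∈ 𝒜 := by
    refine ⟨A'.subgroupOf D, ⟨?_, fun E hE => ?_⟩, Subgroup.map_subgroupOf_eq_of_le hA'D⟩
    · haveI := h.isMulCommutative
      exact ⟨⟨fun a b => Subtype.ext (Subtype.ext (show ((a : D) : S) * ((b : D) : S) = ((b : D) : S) * ((a : D) : S) from
        congrArg Subtype.val (h.isMulCommutative.is_comm.comm (⟨((a : D) : S), a.2⟩ : A') ⟨((b : D) : S), b.2⟩)))⟩⟩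
    · rw [Nat.card_congr (Subgroup.subgroupOfEquivOfLe hA'D).toEquiv, h.card_eq,
        Subgroup.card_map_of_injective D.subtype_injective]
      exact hA₀.2 E hE
  have hlt := h.inf_lt_B hx
  have := hmax A' ⟨hmem, h.derived_le, fun hle => hlt.ne (inf_eq_right.2 hle)⟩
  exact absurd (Subgroup.eq_of_le_of_card_ge (h.inf_lt hx).le this) (h.inf_lt hx).ne

end Cfsg.Agent.S0651
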