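import Cfsg.Statements.S0655
import Cfsg.Agent.Lib.PLocal.Thompson
import Cfsg.Agent.Lib.PLocal.Stable

set_option autoImplicit false
open Cfsg
open scoped commutatorElement

namespace Cfsg.Agent.S0655

/-- In a p-group the intersection of all elementary abelian subgroups of largest order is the subgroup generated by the elements of order dividing p in the centre (equivalently the centralizer) of the elementary-version Thompson subgroup. -/
theorem result {S : Type*} [Group S] [Finite S] {p : ℕ} [Fact p.Prime] (hS : IsPGroup p S) : sInf (Cfsg.maxElementaryAbelianSubgroups p S) = Cfsg.omegaCenterThompson p S ∧ Cfsg.omegaCenterThompson p S = Cfsg.omegaOne p (Subgroup.centralizer (Cfsg.thompsonSubgroup p S : Set S)) := by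
  obtain ⟨A₀, hA₀⟩ := CfsgLib.PLocal.exists_maxElem (G := S) p
  have key : ∀ A ∈ Cfsg.maxElementaryAbelianSubgroups p S, ∀ x : S, x ^ p = 1 → x ∈ Subgroup.centralizer (Cfsg.thompsonSubgroup p S : Set S) → x ∈ A := by
    intro A hA x hxp hxc
    rw [← CfsgLib.PLocal.maxElemIn_top] at hA
    exact CfsgLib.PLocal.mem_maxElemIn_of_centralizes hA (Subgroup.mem_top x) hxp
      (Subgroup.centralizer_le (CfsgLib.PLocal.le_thompson (CfsgLib.PLocal.maxElemIn_top (G := S) ▸ hA)) hxc)
  refine ⟨le_antisymm ?_ ?_, le_antisymm ?_ ?_⟩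
  · intro x hx
    have hx₀ : x ∈ A₀ := Subgroup.mem_sInf.1 hx A₀ hA₀
    refine Subgroup.subset_closure ⟨⟨CfsgLib.PLocal.le_thompson hA₀ hx₀, ?_⟩, hA₀.1.2 x hx₀⟩
    have hle : Cfsg.thompsonSubgroup p S ≤ Subgroup.centralizer ({x} : Set S) :=
      sSup_le fun A hA a ha y hy => by
        rw [Set.mem_singleton_iff.1 hy]
        exact CfsgLib.PLocal.elemAb_comm hA.1 (Subgroup.mem_sInf.1 hx A hA) ha
    exact fun y hy => ((hle hy) x rfl).symm
  · refine le_sInf fun A hA => (Subgroup.closure_le _).2 ?_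
    rintro x ⟨⟨-, hxc⟩, hxp⟩
    exact key A hA x hxp hxc
  · exact CfsgLib.PLocal.omegaOne_mono inf_le_right
  · refine (Subgroup.closure_le _).2 ?_
    rintro x ⟨hxc, hxp⟩
    exact Subgroup.subset_closure ⟨⟨CfsgLib.PLocal.le_thompson hA₀ (key A₀ hA₀ x hxp hxc), hxc⟩, hxp⟩

end Cfsg.Agent.S0655
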