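import Cfsg.Statements.S0657
import Cfsg.Agent.Lib.PLocal.PStableBridge
import Cfsg.Agent.Lib.PLocal.QdFree
-- import your own Cfsg.Agent.* helpers here

set_option autoImplicit false
open Cfsg

namespace Cfsg.Agent.S0657

/-- For odd p, a group that fails to be p-stable modulo its largest normal subgroup of order prime to p, and whose upper p-series does not stop there, has a section isomorphic to SL(2, p). -/
theorem result {G : Type*} [Group G] [Finite G] {p : ℕ} [Fact p.Prime] (hp : p ≠ 2) (hO : Cfsg.pPrimeCore p G < Cfsg.pPrimePCore p G) (hns : ¬ Cfsg.IsPStable p (G ⧸ Cfsg.pPrimeCore p G)) : ∃ (K L : Subgroup G) (hL : (L.subgroupOf K).Normal), K ≤ ⊤ ∧ Nonempty ((K ⧸ L.subgroupOf K) ≃* Matrix.SpecialLinearGroup (Fin 2) (ZMod p)) := by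
  haveI := Cfsg.pPrimeCore_normal p G
  by_contra hcon
  have hno : ∀ (K : Subgroup G) (f : K →* Matrix.SpecialLinearGroup (Fin 2) (ZMod p)),
      ¬ Function.Surjective f := fun K f hf => by
    obtain ⟨H, L, hL, -, he⟩ := CfsgLib.PLocal.sec_quotient_form (le_top : K ≤ ⊤) f hf
    exact hcon ⟨H, L, hL, le_top, he⟩
  refine hns (CfsgLib.PLocal.isPStable_of_forall_isPStableOn
    ((Fact.out : p.Prime).odd_of_ne_two hp) ?_ (CfsgLib.Solvable.pPrimeCore_quotient_eq_bot p)
    fun B _ hB => CfsgLib.PLocal.isPStableOn_of_no_qd hp (fun K f hf =>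
      CfsgLib.PLocal.not_involves_qd_of_no_sl (CfsgLib.PLocal.no_sec_quotient hno _)
        (CfsgLib.PLocal.involves_of_sec f hf)) B hB)
  intro h0
  refine hO.not_ge (fun x hx => (QuotientGroup.eq_one_iff x).1 ?_)
  have h1 := Subgroup.mem_comap.1 hx
  rw [h0] at h1
  exact Subgroup.mem_bot.1 h1

end Cfsg.Agent.S0657
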