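import Cfsg.Statements.S0658
import Cfsg.Agent.Lib.PLocal.ZJPStable
-- import your own Cfsg.Agent.* helpers here

set_option autoImplicit false
open Cfsg

namespace Cfsg.Agent.S0658

/-- In a group of characteristic p type all of whose p-locals are p-stable (p odd), the normalizer of Z(J(P)) contains the normalizer of every nontrivial subgroup of the Sylow p-subgroup P. -/
theorem result {G : Type*} [Group G] [Finite G] {p : ℕ} [Fact p.Prime] (hp : p ≠ 2) (hloc : ∀ Q : Subgroup G, IsPGroup p Q → Q ≠ ⊥ → Cfsg.pPrimeCore p ↥(Subgroup.normalizer (Q : Set G)) = ⊥ ∧ Cfsg.IsPConstrained p ↥(Subgroup.normalizer (Q : Set G)) ∧ Cfsg.IsPStable p ↥(Subgroup.normalizer (Q : Set G))) (P : Sylow p G) (Q : Subgroup G) (hQP : Q ≤ (P : Subgroup G)) (hQ1 : Q ≠ ⊥) : Subgroup.normalizer (Q : Set G) ≤ Subgroup.normalizer (Cfsg.centerThompsonAOf ((P : Subgroup G)) : Set G) := by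
  refine CfsgLib.PLocal.normalizer_le_of_locals hp (fun R hR hR1 T hT => ?_) P _ Q hQP hQ1 rfl
  obtain ⟨hO, hc, hs⟩ := hloc R hR hR1
  obtain ⟨W, hW⟩ := CfsgLib.Fusion.exists_sylow_of hT.2.1 hT.1 hT.2.2
  have hn := CfsgLib.PLocal.centerThompsonAOf_normal_of_isPStable hp hO
    (CfsgLib.PLocal.centralizer_pCore_le_of_isPConstrained hO hc) hs W
  have h1 := CfsgLib.PLocal.centerThompsonAOf_map (Subgroup.normalizer (R : Set G)).subtype
    (U := (W : Subgroup _)) (fun x _ hx =>
      (Subgroup.normalizer (R : Set G)).subtype_injective (hx.trans (map_one _).symm))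
  rw [hW, Subgroup.map_subgroupOf_eq_of_le hT.1, ← hW] at h1
  rw [← h1]
  intro x hx
  exact Subgroup.le_normalizer_map _
    ⟨⟨x, hx⟩, Subgroup.normalizer_eq_top_iff.2 hn ▸ Subgroup.mem_top _, rfl⟩

end Cfsg.Agent.S0658
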