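import Cfsg.Statements.S0660


set_option autoImplicit false
open Cfsg
open scoped commutatorElement

namespace Cfsg.Agent.S0660

/-- Under a coprime action on an abelian group, an invariant subgroup that is complemented admits an invariant complement. -/
theorem result {G : Type*} [Group G] [Finite G] (V A U : Subgroup G) (hVab : IsMulCommutative V) (hAV : A ≤ Subgroup.normalizer (V : Set G)) (hcop : (Nat.card A).Coprime (Nat.card V)) (hUV : U ≤ V) (hAU : A ≤ Subgroup.normalizer (U : Set G)) (W : Subgroup G) (hWV : W ≤ V) (hUW : U ⊓ W = ⊥) (hUWV : U ⊔ W = V) : ∃ W' : Subgroup G, W' ≤ V ∧ A ≤ Subgroup.normalizer (W' : Set G) ∧ U ⊓ W' = ⊥ ∧ U ⊔ W' = V := by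
  classical
  have : Fintype A := Fintype.ofFinite _
  letI : CommGroup V := { (inferInstance : Group V) with mul_comm := fun a b => hVab.is_comm.comm a b }
  let φ : A →* MulAut V := V.normalizerMonoidHom.comp (Subgroup.inclusion hAV)
  have hφ : ∀ (a : A) (v : V), (φ a v : G) = (a : G) * v * (a : G)⁻¹ := fun a v => rfl
  let U' := U.subgroupOf V
  let W' := W.subgroupOf V
  let m : U' × W' →* V := (U'.subtype).coprod W'.subtype
  have hm : Function.Bijective m := by
    constructor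
    · refine (injective_iff_map_eq_one m).2 fun x hx => ?_
      obtain ⟨u, w⟩ := x
      have hx' : (u : V) * (w : V) = 1 := hx
      have h1 : ((u : V) : G) ∈ U ⊓ W := ⟨u.2, by
        rw [eq_inv_of_mul_eq_one_left hx']; exact W.inv_mem w.2⟩
      rw [hUW, Subgroup.mem_bot] at h1
      have h2 : (u : V) = 1 := Subtype.ext h1
      rw [h2, one_mul] at hx'
      exact Prod.ext (Subtype.ext h2) (Subtype.ext hx')
    · intro v
      have hv : v ∈ U' ⊔ W' := by
        rw [← Subgroup.subgroupOf_sup hUV hWV, hUWV, Subgroup.subgroupOf_self]; trivial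
      obtain ⟨u, hu, w, hw, rfl⟩ := Subgroup.mem_sup.1 hv
      exact ⟨(⟨u, hu⟩, ⟨w, hw⟩), rfl⟩
  let e : U' × W' ≃* V := MulEquiv.ofBijective m hm
  let π : V →* V := U'.subtype.comp ((MonoidHom.fst U' W').comp e.symm.toMonoidHom)
  have hπU : ∀ v, π v ∈ U' := fun v => (e.symm v).1.2
  have hπid : ∀ u ∈ U', π u = u := by
    intro u hu
    have : e.symm u = (⟨u, hu⟩, 1) := e.symm_apply_eq.2 (by simp [e, m])
    simp [π, this]
  have hφU : ∀ (a : A), ∀ u ∈ U', φ a u ∈ U' := fun a u hu =>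
    (Subgroup.mem_normalizer_iff.1 (hAU a.2) _).1 hu
  let P : V →* V := ∏ a : A, (φ a).toMonoidHom.comp (π.comp (φ a⁻¹).toMonoidHom)
  have hP : ∀ v, P v = ∏ a : A, φ a (π (φ a⁻¹ v)) := fun v => by
    simp [P, MonoidHom.finsetProd_apply]
  have hPU : ∀ v, P v ∈ U' := fun v => by
    rw [hP]; exact Subgroup.prod_mem _ fun a _ => hφU a _ (hπU _)
  have hPid : ∀ u ∈ U', P u = u ^ Nat.card A := by
    intro u hu
    rw [hP, Nat.card_eq_fintype_card, ← Finset.card_univ, ← Finset.prod_const]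
    refine Finset.prod_congr rfl fun a _ => ?_
    rw [hπid _ (hφU _ u hu), map_inv]
    exact MulEquiv.apply_symm_apply (φ a) u
  have hPe : ∀ (b : A) v, P (φ b v) = φ b (P v) := by
    intro b v
    rw [hP, hP, map_prod, ← Equiv.prod_comp (Equiv.mulLeft b) fun a => φ a (π (φ a⁻¹ (φ b v)))]
    refine Finset.prod_congr rfl fun a _ => ?_
    simp [mul_inv_rev, map_mul, map_inv]
  refine ⟨P.ker.map V.subtype, Subgroup.map_subtype_le _, ?_, ?_, ?_⟩
  · intro b hb
    rw [Subgroup.mem_normalizer_iff_map_conj_eq]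
    refine Subgroup.eq_of_le_of_card_ge ?_ (le_of_eq (Subgroup.card_map_of_injective (MulAut.conj b).injective).symm)
    rintro _ ⟨_, ⟨v, hv, rfl⟩, rfl⟩
    exact ⟨φ ⟨b, hb⟩ v, by simp [MonoidHom.mem_ker, hPe, MonoidHom.mem_ker.1 hv], hφ _ _⟩
  · rw [eq_bot_iff]
    rintro _ ⟨hu, v, hv, rfl⟩
    rw [Subgroup.mem_bot]
    have h1 : v ^ Nat.card A = 1 := by rw [← hPid v hu]; exact hv
    have h2 : v = 1 := (powCoprime (hcop.symm : (Nat.card V).Coprime (Nat.card A))).injective
      (by show v ^ Nat.card A = (1 : V) ^ Nat.card A; rw [h1, one_pow])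
    rw [h2]; rfl
  · refine le_antisymm (sup_le hUV (Subgroup.map_subtype_le _)) fun g hg => ?_
    obtain ⟨u, hu⟩ := (powCoprime (hcop.symm.coprime_dvd_left (Subgroup.card_subgroup_dvd_card U') :
      (Nat.card U').Coprime (Nat.card A))).surjective ⟨P ⟨g, hg⟩, hPU _⟩
    have h1 : (⟨g, hg⟩ : V) * (u : V)⁻¹ ∈ P.ker := by
      rw [MonoidHom.mem_ker, map_mul, map_inv, hPid _ u.2, mul_inv_eq_one]
      exact (congrArg Subtype.val hu).symm
    have h2 : g = ((u : V) : G) * ((⟨g, hg⟩ : V) * (u : V)⁻¹ : V) := by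
      have := congrArg Subtype.val (show (⟨g, hg⟩ : V) = (u : V) * ((⟨g, hg⟩ : V) * (u : V)⁻¹) by
        rw [mul_comm (u : V), inv_mul_cancel_right])
      exact this
    rw [h2]
    exact Subgroup.mul_mem_sup u.2 ⟨_, h1, rfl⟩

end Cfsg.Agent.S0660
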