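import Cfsg.Statements.S0661
import Cfsg.Agent.Lib.Comp.Local

set_option autoImplicit false
open Cfsg

namespace Cfsg.Agent.S0661

/-- If, modulo the largest normal subgroup of order prime to p, the largest normal p-subgroup contains its centralizer, then for every p-subgroup P the p'-core of N_G(P) is just O_p'(G) ∩ N_G(P). -/
theorem result {G : Type*} [Group G] [Finite G] {p : ℕ} [Fact p.Prime] (hc : Subgroup.centralizer (Cfsg.pCore p (G ⧸ Cfsg.pPrimeCore p G) : Set (G ⧸ Cfsg.pPrimeCore p G)) ≤ Cfsg.pCore p (G ⧸ Cfsg.pPrimeCore p G)) (P : Subgroup G) (hP : IsPGroup p P) : (Cfsg.pPrimeCore p ↥(Subgroup.normalizer (P : Set G))).map (Subgroup.normalizer (P : Set G)).subtype = Cfsg.pPrimeCore p G ⊓ Subgroup.normalizer (P : Set G) := by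
  haveI := Cfsg.pPrimeCore_normal p G
  set O := Cfsg.pPrimeCore p G with hO
  set N := Subgroup.normalizer (P : Set G) with hN
  have hcop := CfsgLib.Comp.coprime_card_pPrimeCore p G
  refine le_antisymm (le_inf ?_ (Subgroup.map_subtype_le _)) ?_
  · set π := QuotientGroup.mk' O with hπ
    set D := (Cfsg.pPrimeCore p N).map N.subtype with hD
    have hDp : (Nat.card D).Coprime p := by
      rw [hD, Subgroup.card_map_of_injective N.subtype_injective]
      exact CfsgLib.Comp.coprime_card_pPrimeCore p N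
    set P' := P.map π with hP'
    set M := Subgroup.normalizer (P' : Set (G ⧸ O)) with hM
    have hNM : N.map π = M := CfsgLib.Comp.map_normalizer_eq hcop hP
    have hDN : D ≤ N := Subgroup.map_subtype_le _
    have hDM : D.map π ≤ M := (Subgroup.map_mono hDN).trans hNM.le
    have hDn : ((D.map π).subgroupOf M).Normal := by
      refine (Subgroup.normal_subgroupOf_iff_le_normalizer hDM).2 ?_
      rw [← hNM]
      refine (Subgroup.map_mono ?_).trans (Subgroup.le_normalizer_map π)
      haveI := Cfsg.pPrimeCore_normal p N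
      refine le_trans (le_of_eq ?_) (Subgroup.le_normalizer_map N.subtype)
      rw [Subgroup.normalizer_eq_top, ← MonoidHom.range_eq_map, Subgroup.range_subtype]
    have h1 : D.map π ≤ (Cfsg.pPrimeCore p M).map M.subtype := by
      rw [← Subgroup.map_subgroupOf_eq_of_le hDM]
      refine Subgroup.map_mono (le_sSup ⟨hDn, ?_⟩)
      rw [Nat.card_congr (Subgroup.subgroupOfEquivOfLe hDM).toEquiv]
      exact Nat.Coprime.coprime_dvd_left (Subgroup.card_map_dvd _ _) hDp
    have h2 : D.map π ≤ Cfsg.pCore p (G ⧸ O) :=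
      (h1.trans (CfsgLib.Comp.pPrimeCore_le_localLayer M)).trans
        ((CfsgLib.Comp.localLayer_le_centralizer_pCore (hP.map π)).trans hc)
    have h3 := CfsgLib.Comp.inf_eq_bot_of_isPGroup (CfsgLib.Comp.isPGroup_pCore p (G ⧸ O))
      (Nat.Coprime.coprime_dvd_left (Subgroup.card_map_dvd D π) hDp)
    intro x hx
    have h4 : π x ∈ Cfsg.pCore p (G ⧸ O) ⊓ D.map π :=
      ⟨h2 (Subgroup.mem_map_of_mem π hx), Subgroup.mem_map_of_mem π hx⟩
    rw [h3, Subgroup.mem_bot] at h4
    exact (QuotientGroup.eq_one_iff x).1 h4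
  · rw [← Subgroup.map_subgroupOf_eq_of_le (inf_le_right : O ⊓ N ≤ N)]
    refine Subgroup.map_mono (le_sSup ⟨?_, ?_⟩)
    · rw [Subgroup.inf_subgroupOf_right]
      infer_instance
    · rw [Nat.card_congr (Subgroup.subgroupOfEquivOfLe (inf_le_right : O ⊓ N ≤ N)).toEquiv]
      exact Nat.Coprime.coprime_dvd_left (Subgroup.card_dvd_of_le inf_le_left) hcop

end Cfsg.Agent.S0661
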