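import Cfsg.Statements.S0663
import Cfsg.Agent.Lib.PGroup.Uniserial

set_option autoImplicit false
open Cfsg

namespace Cfsg.Agent.S0663

/-- A p-group acts uniserially on a p-group N of order p^n exactly when the iterated commutator chain from N has length n; in that case the chain terms are all the invariant subgroups of N and they are normal in N. -/
theorem result {L : Type*} [Group L] [Finite L] {p : ℕ} [Fact p.Prime] (N G : Subgroup L) (hN : IsPGroup p N) (hG : IsPGroup p G) (hGN : G ≤ Subgroup.normalizer (N : Set L)) (n : ℕ) (hn : Nat.card N = p ^ n) : ((∀ H : Subgroup L, H ≤ N → G ≤ Subgroup.normalizer (H : Set L) → H ≠ ⊥ → (⁅H, G⁆).relIndex H = p) ↔ Cfsg.iterCommutator N G (n - 1) ≠ ⊥ ∨ n = 0) ∧ ((∀ H : Subgroup L, H ≤ N → G ≤ Subgroup.normalizer (H : Set L) → H ≠ ⊥ → (⁅H, G⁆).relIndex H = p) → ∀ H : Subgroup L, H ≤ N → G ≤ Subgroup.normalizer (H : Set L) → (∃ i ≤ n, H = Cfsg.iterCommutator N G i) ∧ N ≤ Subgroup.normalizer (H : Set L)) := by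
  have hp := (Fact.out : p.Prime)
  have hinv := CfsgLib.PGroup.iterCommutator_invariant (N := N) (G := G) hGN
  have hto : (∀ H : Subgroup L, H ≤ N → G ≤ Subgroup.normalizer (H : Set L) → H ≠ ⊥ →
      (⁅H, G⁆).relIndex H = p) → Cfsg.iterCommutator N G (n - 1) ≠ ⊥ ∨ n = 0 := by
    intro hu
    rcases Nat.eq_zero_or_pos n with h | h
    · exact Or.inr h
    have hc : ∀ i ≤ n - 1, Nat.card (Cfsg.iterCommutator N G i) = p ^ (n - i) := by
      intro i
      induction i with
      | zero => intro _; exact hn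
      | succ i ih =>
        intro hi
        have hci := ih (by omega)
        have hne : Cfsg.iterCommutator N G i ≠ ⊥ := by
          intro h0
          rw [h0, Subgroup.card_bot] at hci
          exact (Nat.one_lt_pow (by omega : n - i ≠ 0) hp.one_lt).ne hci
        have h1 := hu _ (hinv i).1 (hinv i).2 hne
        have h2 := Subgroup.relIndex_mul_relIndex ⊥ (Cfsg.iterCommutator N G (i + 1))
          (Cfsg.iterCommutator N G i) bot_le (CfsgLib.PGroup.iterCommutator_succ_le hGN i)
        rw [Subgroup.relIndex_bot_left, Subgroup.relIndex_bot_left, hci] at h2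
        change _ * (⁅Cfsg.iterCommutator N G i, G⁆).relIndex _ = _ at h2
        rw [h1, show n - i = n - (i + 1) + 1 by omega, pow_succ] at h2
        exact Nat.eq_of_mul_eq_mul_right hp.pos h2
    refine Or.inl fun h0 => ?_
    have h1 := hc (n - 1) le_rfl
    rw [h0, Subgroup.card_bot, show n - (n - 1) = 1 by omega, pow_one] at h1
    exact hp.ne_one h1.symm
  refine ⟨⟨hto, fun hbot H hH hGH hne => ?_⟩, fun hu H hH hGH => ?_⟩
  · obtain ⟨i, -, hi, rfl⟩ := CfsgLib.PGroup.eq_iterCommutator hN hG hGN hn hbot n le_rfl H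
      (by rw [Nat.sub_self]; exact hH) hGH
    have hci := CfsgLib.PGroup.card_iterCommutator hN hG hGN hn hbot hi
    have hlt : i < n := by
      rcases eq_or_lt_of_le hi with rfl | h
      · rw [Nat.sub_self, pow_zero] at hci
        exact absurd (Subgroup.card_eq_one.1 hci) hne
      · exact h
    have hci' := CfsgLib.PGroup.card_iterCommutator hN hG hGN hn hbot (i := i + 1) hlt
    have h2 := Subgroup.relIndex_mul_relIndex ⊥ (Cfsg.iterCommutator N G (i + 1))
      (Cfsg.iterCommutator N G i) bot_le (CfsgLib.PGroup.iterCommutator_succ_le hGN i)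
    rw [Subgroup.relIndex_bot_left, Subgroup.relIndex_bot_left, hci, hci',
      show n - i = n - (i + 1) + 1 by omega, pow_succ] at h2
    exact Nat.eq_of_mul_eq_mul_left (pow_pos hp.pos _) h2
  · have hbot := hto hu
    obtain ⟨i, -, hi, rfl⟩ := CfsgLib.PGroup.eq_iterCommutator hN hG hGN hn hbot n le_rfl H
      (by rw [Nat.sub_self]; exact hH) hGH
    exact ⟨⟨i, hi, rfl⟩, CfsgLib.PGroup.iterCommutator_normal hN hG hGN hn hbot hi⟩

end Cfsg.Agent.S0663
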