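import Cfsg.Statements.S0666
import Cfsg.Agent.Lib.Solvable.FrobeniusKernel
-- import your own Cfsg.Agent.* helpers here

set_option autoImplicit false
open Cfsg

namespace Cfsg.Agent.S0666

/-- A Frobenius group acting on a nontrivial abelian group of order prime to that of its kernel, with the kernel acting without nontrivial fixed points, has a complement with a nontrivial fixed point. -/
theorem result {G : Type*} [Group G] [Finite G] (V F : Subgroup G) (hVab : IsMulCommutative V) (hV1 : V ≠ ⊥) (hFV : F ≤ Subgroup.normalizer (V : Set G)) (H : Subgroup ↥F) (hH : Cfsg.IsFrobeniusComplement H) (hcop : (Nat.card V).Coprime (Nat.card (Cfsg.frobeniusKernel H))) (hCK : V ⊓ Subgroup.centralizer (Subtype.val '' Cfsg.frobeniusKernel H : Set G) = ⊥) : V ⊓ Subgroup.centralizer ((H.map F.subtype : Subgroup G) : Set G) ≠ ⊥ := by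
  classical
  intro hCH
  obtain ⟨N, hNset, hN, hc⟩ := CfsgLib.Solvable.exists_frobeniusKernel hH
  haveI : Fintype F := Fintype.ofFinite F
  letI : CommGroup V := { (inferInstance : Group V) with mul_comm := hVab.is_comm.comm }
  let α : F → V → V := fun f v => ⟨(f : G) * v * (f : G)⁻¹,
    (Subgroup.mem_normalizer_iff.1 (hFV f.2) v).1 v.2⟩
  have hαmul : ∀ (f g : F) (v : V), α (f * g) v = α f (α g v) := fun f g v =>
    Subtype.ext (by simp [α, mul_assoc])
  have hα1 : ∀ v : V, α 1 v = v := fun v => Subtype.ext (by simp [α])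
  let αh : F → V →* V := fun f => MonoidHom.mk' (α f) fun v w =>
    Subtype.ext (by simp [α, mul_assoc])
  have hαh : ∀ f v, αh f v = α f v := fun _ _ => rfl
  have hprod : ∀ (L : Subgroup F) (v : V) (l : F), l ∈ L →
      α l (∏ x : L, α x v) = ∏ x : L, α x v := by
    intro L v l hl
    rw [← hαh, map_prod]
    refine Fintype.prod_equiv (Equiv.mulLeft (⟨l, hl⟩ : L)) _ _ fun x => ?_
    rw [hαh, ← hαmul]
    rfl
  have hfix : ∀ (v : V) (T : Set G), (∀ t ∈ T, ∃ f : F, (f : G) = t ∧ α f v = v) →
      (v : G) ∈ V ⊓ Subgroup.centralizer T := by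
    intro v T h
    refine ⟨v.2, Subgroup.mem_centralizer_iff.2 fun t ht => ?_⟩
    obtain ⟨f, rfl, hf⟩ := h t ht
    exact mul_inv_eq_iff_eq_mul.1 (congrArg Subtype.val hf)
  have hPN : ∀ v : V, ∏ x : N, α x v = 1 := by
    intro v
    have h := hfix (∏ x : N, α x v) (Subtype.val '' Cfsg.frobeniusKernel H) (by
      rintro t ⟨f, hf, rfl⟩
      exact ⟨f, rfl, hprod N v f (by rw [← SetLike.mem_coe, hNset]; exact hf)⟩)
    rw [hCK, Subgroup.mem_bot] at h
    exact Subtype.ext h
  have hPH : ∀ v : V, ∏ x : H, α x v = 1 := by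
    intro v
    have h := hfix (∏ x : H, α x v) ((H.map F.subtype : Subgroup G) : Set G) (by
      rintro t ⟨f, hf, rfl⟩
      exact ⟨f, rfl, hprod H v f hf⟩)
    rw [hCH, Subgroup.mem_bot] at h
    exact Subtype.ext h
  have hPF : ∀ v : V, ∏ f : F, α f v = 1 := by
    intro v
    have h := hfix (∏ f : F, α f v) (Subtype.val '' Cfsg.frobeniusKernel H) (by
      rintro t ⟨f, -, rfl⟩
      refine ⟨f, rfl, ?_⟩
      rw [← hαh, map_prod]
      exact Fintype.prod_equiv (Equiv.mulLeft f) _ _ fun x => by rw [hαh, ← hαmul]; rfl)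
    rw [hCK, Subgroup.mem_bot] at h
    exact Subtype.ext h
  have hmain : ∀ v : V, v ^ Nat.card N = 1 := by
    intro v
    have h1 := Finset.prod_filter_mul_prod_filter_not Finset.univ (fun f : F => f ∈ N) (fun f => α f v)
    have h2 : ∏ f ∈ Finset.univ.filter (fun f : F => f ∈ N), α f v = 1 := by
      rw [← hPN v]
      exact Finset.prod_subtype _ (fun x => by simp) _
    have h3 : ∏ f ∈ Finset.univ.filter (fun f : F => f ∉ N), α f v =
        ∏ q ∈ (Finset.univ : Finset N) ×ˢ (Finset.univ.erase (1 : H)),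
          α ((q.1 : F) * q.2 * (q.1 : F)⁻¹) v := by
      symm
      refine Finset.prod_bij (fun q _ => (q.1 : F) * q.2 * (q.1 : F)⁻¹) ?_ ?_ ?_ (fun q _ => rfl)
      · intro q hq
        simp only [Finset.mem_product, Finset.mem_erase, Finset.mem_univ, and_true, true_and] at hq
        simp only [Finset.mem_filter, Finset.mem_univ, true_and]
        intro hcon
        have h := hN.conj_mem _ hcon (q.1 : F)⁻¹
        have hh : (q.2 : F) ∈ N := by simpa [mul_assoc] using h
        exact hq (Subtype.ext (Subgroup.disjoint_def.1 hc.disjoint hh q.2.2))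
      · intro q hq q' hq' h
        simp only [Finset.mem_product, Finset.mem_erase, Finset.mem_univ, and_true, true_and] at hq
        have hk : ((q'.1 : F)⁻¹ * q.1) ∈ H := by
          by_contra hcon
          refine hq (Subtype.ext (CfsgLib.Solvable.frobenius_eq_one_of_conj_mem hH hcon q.2.2 ?_))
          have e : (q'.1 : F)⁻¹ * q.1 * q.2 * ((q'.1 : F)⁻¹ * q.1)⁻¹ = q'.2 := by
            calc (q'.1 : F)⁻¹ * q.1 * q.2 * ((q'.1 : F)⁻¹ * q.1)⁻¹
                = (q'.1 : F)⁻¹ * ((q.1 : F) * q.2 * (q.1 : F)⁻¹) * q'.1 := by group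
              _ = (q'.1 : F)⁻¹ * ((q'.1 : F) * q'.2 * (q'.1 : F)⁻¹) * q'.1 := by rw [h]
              _ = q'.2 := by group
          rw [e]; exact q'.2.2
        have h1 : q.1 = q'.1 := Subtype.ext (inv_mul_eq_one.1
          (Subgroup.disjoint_def.1 hc.disjoint (N.mul_mem (N.inv_mem q'.1.2) q.1.2) hk)).symm
        rw [h1] at h
        exact Prod.ext h1 (Subtype.ext (mul_left_cancel (mul_right_cancel h)))
      · intro f hf
        simp only [Finset.mem_filter, Finset.mem_univ, true_and] at hf
        have hf' : f ∉ Cfsg.frobeniusKernel H := by rw [← hNset]; exact hf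
        simp only [Cfsg.frobeniusKernel, Set.mem_setOf_eq, not_or, not_forall, not_not] at hf'
        obtain ⟨hf1, g, hg⟩ := hf'
        obtain ⟨⟨k, l⟩, hkl⟩ := hc.2 g
        rw [Subgroup.mem_pointwise_smul_iff_inv_smul_mem] at hg
        have hg' : g⁻¹ * f * g ∈ H := by simpa [MulAut.smul_def, mul_assoc] using hg
        simp only at hkl
        refine ⟨(k, ⟨(l : F) * (g⁻¹ * f * g) * (l : F)⁻¹,
          H.mul_mem (H.mul_mem l.2 hg') (H.inv_mem l.2)⟩), ?_, ?_⟩
        · simp only [Finset.mem_product, Finset.mem_erase, Finset.mem_univ, and_true, true_and]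
          intro he
          have he' := congrArg Subtype.val he
          apply hf1
          simp only [Subgroup.coe_one] at he'
          rw [← hkl] at he'
          calc f = ((k : F)) * ((l : F) * (((k : F) * l)⁻¹ * f * ((k : F) * l)) * (l : F)⁻¹) * (k : F)⁻¹ := by group
            _ = 1 := by rw [he']; group
        · subst hkl
          simp only
          group
    rw [h2, one_mul, h3, Finset.prod_product, hPF] at h1
    have h4 : ∀ k : N, ∏ h ∈ Finset.univ.erase (1 : H), α ((k : F) * h * (k : F)⁻¹) v = v⁻¹ := by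
      intro k
      rw [Finset.prod_erase_eq_div (Finset.mem_univ _)]
      have : ∏ h : H, α ((k : F) * h * (k : F)⁻¹) v = 1 := by
        calc ∏ h : H, α ((k : F) * h * (k : F)⁻¹) v
            = αh (k : F) (∏ h : H, α h (α (k : F)⁻¹ v)) := by
              rw [map_prod]
              exact Finset.prod_congr rfl fun h _ => by rw [hαh, ← hαmul, ← hαmul]
          _ = 1 := by rw [hPH, map_one]
      rw [this, one_div]
      simp [hα1]
    simp only [h4, Finset.prod_const, Finset.card_univ] at h1
    rw [inv_pow, inv_eq_one] at h1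
    rwa [Nat.card_eq_fintype_card]
  refine hV1 (eq_bot_iff.2 fun v hv => ?_)
  have h1 := hmain ⟨v, hv⟩
  have h2 : (⟨v, hv⟩ : V) ^ Nat.card V = 1 := pow_card_eq_one'
  have hNc : Nat.card (Cfsg.frobeniusKernel H) = Nat.card N :=
    Nat.card_congr (Equiv.setCongr hNset.symm)
  have h3 := pow_gcd_eq_one.2 ⟨h2, h1⟩
  rw [← hNc, hcop, pow_one] at h3
  exact Subgroup.mem_bot.2 (congrArg Subtype.val h3)

end Cfsg.Agent.S0666
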