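import Cfsg.Statements.S0677
import Cfsg.Agent.Lib.Perm.PrimeDegree
import Cfsg.Agent.S0675
import Mathlib.Algebra.Field.ZMod
import Mathlib.Algebra.BigOperators.Group.Finset.Piecewise

set_option autoImplicit false
open Cfsg

namespace Cfsg.Agent.S0677

open scoped Pointwise

theorem solvable_case {α : Type*} [Fintype α] [DecidableEq α] {p : ℕ} [Fact p.Prime] (hα : Fintype.card α = p)
    (G : Subgroup (Equiv.Perm α)) [MulAction.IsPretransitive G α] [Group.IsSolvable G] (σ τ : G)
    (e : ZMod p ≃ α) (hσo : orderOf σ = p) (hσ : ∀ j, (σ : Equiv.Perm α) (e j) = e (j + 1))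
    (hτo : orderOf τ = 2) (hp2 : p ≠ 2) (H : Subgroup G) (hH : H.index = p) (hpH : ¬ p ∣ Nat.card H) :
    ∃ a : α, H ≤ MulAction.stabilizer G a := by
  have hp : p.Prime := Fact.out
  choose A B hAB using fun g : G =>
    CfsgLib.Perm.affine_of_isSolvable hα G σ hσo e hσ (g : Equiv.Perm α) g.2
  have hA : ∀ g ∈ H, g ≠ 1 → A g ≠ 1 := by
    intro g hg hg1 hA1
    have hpow : g ^ p = 1 := by
      apply Subtype.ext; apply Equiv.ext
      intro x
      obtain ⟨j, rfl⟩ := e.surjective x
      have : ∀ (n : ℕ) (j : ZMod p), ((g : Equiv.Perm α) ^ n) (e j) = e (j + n * B g) := by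
        intro n
        induction n with
        | zero => intro j; simp
        | succ n ih =>
          intro j
          rw [pow_succ', Equiv.Perm.mul_apply, ih]
          have := hAB g (j + n * B g)
          rw [hA1, one_mul, Equiv.symm_apply_eq] at this
          rw [this]; push_cast; ring_nf
      rw [SubmonoidClass.coe_pow, this]; simp
    have h1 : orderOf g ∣ p := orderOf_dvd_of_pow_eq_one hpow
    rcases (Nat.dvd_prime hp).mp h1 with h | h
    · exact hg1 (orderOf_eq_one_iff.mp h)
    · apply hpH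
      have := orderOf_dvd_natCard (⟨g, hg⟩ : H)
      rwa [Subgroup.orderOf_mk, h] at this
  obtain ⟨⟨h, hhH⟩, hh⟩ : ∃ h : H, h ≠ 1 := by
    by_contra hall
    push Not at hall
    have : Nat.card H = 1 := by
      rw [Subgroup.card_eq_one, Subgroup.eq_bot_iff_forall]
      intro x hx
      exact congrArg Subtype.val (hall ⟨x, hx⟩)
    have h1 := Subgroup.index_mul_card H
    rw [hH, this, mul_one] at h1
    have h2 := orderOf_dvd_natCard τ
    rw [hτo, ← h1] at h2
    exact hp2 ((Nat.prime_dvd_prime_iff_eq Nat.prime_two hp).mp h2).symm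
  have hne : A h - 1 ≠ 0 := sub_ne_zero.mpr (hA h hhH (fun e' => hh (Subtype.ext e')))
  set x : ZMod p := -B h / (A h - 1) with hx
  refine ⟨e x, fun g hg => ?_⟩
  have hcomm : g * h = h * g := by
    by_contra hne'
    have hc1 : g * h * g⁻¹ * h⁻¹ ≠ 1 := fun e' => hne' (mul_inv_eq_iff_eq_mul.mp (mul_inv_eq_one.mp e'))
    apply hA _ (H.mul_mem (H.mul_mem (H.mul_mem hg hhH) (H.inv_mem hg)) (H.inv_mem hhH)) hc1
    set c := g * h * g⁻¹ * h⁻¹
    have hch : c * h * g = g * h := by simp [c, mul_assoc]
    have key : ∀ j, A c * (A h * (A g * j + B g) + B h) + B c = A g * (A h * j + B h) + B g := by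
      intro j
      have e1 := hAB g j
      have e2 := hAB h (A g * j + B g)
      have e3 := hAB c (A h * (A g * j + B g) + B h)
      have f1 := hAB h j
      have f2 := hAB g (A h * j + B h)
      rw [Equiv.symm_apply_eq] at e1 e2 f1
      rw [← e3, ← f2, ← e2, ← e1, ← f1]
      have := congrArg (fun z : G => (z : Equiv.Perm α) (e j)) hch
      simp only [Subgroup.coe_mul, Equiv.Perm.mul_apply] at this
      rw [this]
    have h0 := key 0
    have h1 := key 1
    have hAg : A g * A h ≠ 0 := by
      intro h0'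
      have hinj : ∀ k : G, A k ≠ 0 := by
        intro k hk
        have e1 := hAB k 0
        have e2 := hAB k 1
        rw [hk] at e1 e2
        simp only [zero_mul] at e1 e2
        exact zero_ne_one (e.injective ((k : Equiv.Perm α).injective (e.symm.injective (e1.trans e2.symm))))
      rcases mul_eq_zero.mp h0' with h | h <;> exact hinj _ h
    apply mul_right_cancel₀ hAg
    linear_combination h1 - h0
  have hfix : ∀ j, A h * j + B h = j → j = x := by
    intro j hj
    rw [hx, eq_div_iff hne]
    linear_combination hj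
  have h1 := hAB g x
  have hgx : (g : Equiv.Perm α) (e x) = e (A g * x + B g) := Equiv.symm_apply_eq e |>.mp h1
  have hhx : A h * x + B h = x := by rw [hx]; field_simp; ring
  have hfixg : A h * (A g * x + B g) + B h = A g * x + B g := by
    have e2 := hAB h (A g * x + B g)
    rw [← e2, Equiv.symm_apply_eq, ← hgx]
    have e3 := hAB h x
    rw [hhx, Equiv.symm_apply_eq] at e3
    have := congrArg (fun z : G => (z : Equiv.Perm α) (e x)) hcomm
    simp only [Subgroup.coe_mul, Equiv.Perm.mul_apply] at this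
    rw [← this, e3]
  show (g : Equiv.Perm α) (e x) = e x
  rw [hgx, hfix _ hfixg]

theorem even_card_of_involution {X : Type*} (s : Finset X) (f : X → X) (hf : ∀ x ∈ s, f x ∈ s)
    (hff : ∀ x ∈ s, f (f x) = x) (hne : ∀ x ∈ s, f x ≠ x) : Even s.card := by
  rw [even_iff_two_dvd, ← ZMod.natCast_eq_zero_iff, Finset.cast_card]
  exact Finset.sum_involution (fun x _ => f x) (fun x _ => by decide) (fun x hx _ => hne x hx) hf hff

theorem design_case {α : Type*} [Fintype α] [DecidableEq α] {p : ℕ} [Fact p.Prime]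
    (G : Subgroup (Equiv.Perm α)) (h2 : MulAction.IsMultiplyPretransitive G α 2) (σ τ : G) (e : ZMod p ≃ α)
    (hσo : orderOf σ = p) (hσ : ∀ j, (σ : Equiv.Perm α) (e j) = e (j + 1)) (hτo : orderOf τ = 2)
    (hτ : ∀ j, (τ : Equiv.Perm α) (e j) = e (-j)) (hp2 : p ≠ 2) (H : Subgroup G) (hH : H.index = p)
    (hpH : ¬ p ∣ Nat.card H) (O : Finset α) (hOinv : H ≤ MulAction.stabilizer G O) (hO : O.Nonempty)
    (hO' : O ≠ Finset.univ) : O.card = 1 ∨ O.card + 1 = p := by
  have hp : p.Prime := Fact.out
  haveI := MulAction.isPretransitive_of_is_two_pretransitive (h2 := h2)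
  have hstab : MulAction.stabilizer G O = H := by
    by_contra hne
    have hdvd := Subgroup.index_dvd_of_le hOinv
    rw [hH] at hdvd
    rcases (Nat.dvd_prime hp).mp hdvd with h | h
    · rw [Subgroup.index_eq_one] at h
      apply hO'
      obtain ⟨a, ha⟩ := hO
      refine Finset.eq_univ_iff_forall.mpr fun b => ?_
      obtain ⟨g, rfl⟩ := MulAction.exists_smul_eq G a b
      have hg : g • O = O := MulAction.mem_stabilizer_iff.mp (h ▸ Subgroup.mem_top g)
      rw [← hg]; exact Finset.smul_mem_smul_finset ha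
    · exact hne (Subgroup.eq_of_le_of_card_ge hOinv (by
        have h1 := Subgroup.index_mul_card H
        have h2 := Subgroup.index_mul_card (MulAction.stabilizer G O)
        rw [h, ← h1, hH] at h2
        exact (Nat.eq_of_mul_eq_mul_left hp.pos h2).le)).symm
  let orb : Set (Finset α) := MulAction.orbit G O
  have horb : orb.ncard = p := by rw [← MulAction.index_stabilizer, hstab, hH]
  obtain ⟨B, hB, hBτ⟩ : ∃ B ∈ orb, τ • B = B := by
    by_contra hcon
    push Not at hcon
    classical
    have hev : Even orb.toFinset.card := by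
      refine even_card_of_involution _ (fun B => τ • B) (fun B hB => ?_) (fun B _ => ?_)
        (fun B hB => hcon B (Set.mem_toFinset.mp hB))
      · rw [Set.mem_toFinset] at hB ⊢
        obtain ⟨g, rfl⟩ := hB
        exact ⟨τ * g, mul_smul τ g O⟩
      · rw [← mul_smul]
        have h := pow_orderOf_eq_one τ
        rw [hτo, pow_two] at h
        rw [h, one_smul]
    rw [Set.toFinset_card, ← Nat.card_eq_fintype_card, Nat.card_coe_set_eq, horb] at hev
    exact hp2 (hp.even_iff.mp hev)
  obtain ⟨g₀, rfl⟩ := hB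
  simp only at hBτ
  set D : Finset (ZMod p) := Finset.univ.filter fun j => e j ∈ g₀ • O with hD
  have hmemD : ∀ j, j ∈ D ↔ e j ∈ g₀ • O := fun j => by simp [hD]
  have hneg : ∀ j, -j ∈ D ↔ j ∈ D := by
    intro j
    rw [hmemD, hmemD]
    conv_rhs => rw [← Finset.smul_mem_smul_finset_iff τ]
    rw [hBτ]
    show _ ↔ (τ : Equiv.Perm α) (e j) ∈ _
    rw [hτ]
  let T : ℕ → Finset α := fun i => σ ^ i • g₀ • O
  have hTmem : ∀ (i : ℕ) (j : ZMod p), e j ∈ T i ↔ j - i ∈ D := by
    intro i j
    rw [hmemD]; conv_rhs => rw [← Finset.smul_mem_smul_finset_iff (σ ^ i)]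
    show _ ↔ ((σ ^ i : G) : Equiv.Perm α) (e (j - i)) ∈ _
    rw [SubmonoidClass.coe_pow, CfsgLib.Perm.pow_apply_label e _ hσ, sub_add_cancel]
  have hTinj : ∀ i < p, ∀ k < p, T i = T k → i = k := by
    have key : ∀ i k, i ≤ k → k < p → T i = T k → i = k := by
      intro i k hik hk h
      by_contra hne
      have h1 : g₀⁻¹ * σ ^ (k - i) * g₀ ∈ H := by
        rw [← hstab, MulAction.mem_stabilizer_iff, mul_smul, mul_smul, inv_smul_eq_iff]
        have h' : σ ^ i • σ ^ (k - i) • g₀ • O = σ ^ i • g₀ • O := by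
          rw [← mul_smul, ← pow_add, Nat.add_sub_cancel' hik]; exact h.symm
        exact smul_left_cancel _ h'
      have h2 : orderOf (g₀⁻¹ * σ ^ (k - i) * g₀) = p := by
        have : g₀⁻¹ * σ ^ (k - i) * g₀ = MulAut.conj g₀⁻¹ (σ ^ (k - i)) := by simp
        rw [this, MulEquiv.orderOf_eq, Nat.Coprime.orderOf_pow, hσo]
        rw [hσo]
        exact Nat.coprime_of_lt_prime (Nat.sub_ne_zero_of_lt (lt_of_le_of_ne hik hne)) (lt_of_le_of_lt (Nat.sub_le k i) hk) hp
      apply hpH
      have := orderOf_dvd_natCard (⟨_, h1⟩ : H)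
      rwa [Subgroup.orderOf_mk, h2] at this
    intro i hi k hk h
    rcases le_total i k with hik | hik
    · exact key i k hik hk h
    · exact (key k i hik hi h.symm).symm
  classical
  let BS : Finset (Finset α) := orb.toFinset
  have hBS : BS = (Finset.range p).image T := by
    symm
    apply Finset.eq_of_subset_of_card_le
    · intro B hB
      obtain ⟨i, -, rfl⟩ := Finset.mem_image.mp hB
      exact Set.mem_toFinset.mpr ⟨σ ^ i * g₀, mul_smul _ _ O⟩
    · rw [Finset.card_image_of_injOn (fun i hi k hk => hTinj i (Finset.mem_range.mp hi) k (Finset.mem_range.mp hk)),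
        Finset.card_range, Set.toFinset_card, ← Nat.card_eq_fintype_card, Nat.card_coe_set_eq, horb]
  let L : α → α → ℕ := fun x y => (BS.filter fun B => x ∈ B ∧ y ∈ B).card
  have hLinv : ∀ (g : G) x y, L (g • x) (g • y) = L x y := by
    intro g x y
    symm
    refine Finset.card_bij (fun B _ => g • B) (fun B hB => ?_) (fun _ _ _ _ h => MulAction.injective g h)
      (fun B hB => ⟨g⁻¹ • B, ?_, smul_inv_smul g B⟩)
    · rw [Finset.mem_filter, Set.mem_toFinset] at hB ⊢
      obtain ⟨m, hm⟩ := hB.1
      refine ⟨⟨g * m, (mul_smul g m O).trans (congrArg (g • ·) hm)⟩, ?_, ?_⟩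
      · exact Finset.smul_mem_smul_finset hB.2.1
      · exact Finset.smul_mem_smul_finset hB.2.2
    · rw [Finset.mem_filter, Set.mem_toFinset] at hB ⊢
      obtain ⟨m, hm⟩ := hB.1
      refine ⟨⟨g⁻¹ * m, (mul_smul g⁻¹ m O).trans (congrArg (g⁻¹ • ·) hm)⟩, ?_, ?_⟩
      · rw [← Finset.smul_mem_smul_finset_iff g, smul_inv_smul]; exact hB.2.1
      · rw [← Finset.smul_mem_smul_finset_iff g, smul_inv_smul]; exact hB.2.2
  have hN : ∀ d : ZMod p, L (e 0) (e d) = (D.filter fun u => u + d ∈ D).card := by
    intro d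
    simp only [L]
    rw [hBS, Finset.filter_image, Finset.card_image_of_injOn (fun i hi k hk =>
      hTinj i (Finset.mem_range.mp (Finset.mem_filter.mp hi).1) k (Finset.mem_range.mp (Finset.mem_filter.mp hk).1))]
    refine Finset.card_bij (fun i _ => -(i : ZMod p)) (fun i hi => ?_) (fun i hi k hk h => ?_) (fun u hu => ?_)
    · rw [Finset.mem_filter, hTmem, hTmem, zero_sub] at hi
      rw [Finset.mem_filter]
      exact ⟨hi.2.1, by rw [neg_add_eq_sub]; exact hi.2.2⟩
    · have h' := congrArg ZMod.val (neg_injective h)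
      rw [ZMod.val_cast_of_lt (Finset.mem_range.mp (Finset.mem_filter.mp hi).1),
        ZMod.val_cast_of_lt (Finset.mem_range.mp (Finset.mem_filter.mp hk).1)] at h'
      exact h'
    · rw [Finset.mem_filter] at hu
      refine ⟨(-u).val, ?_, by rw [ZMod.natCast_zmod_val, neg_neg]⟩
      rw [Finset.mem_filter, hTmem, hTmem, ZMod.natCast_zmod_val, zero_sub, neg_neg]
      exact ⟨Finset.mem_range.mpr (ZMod.val_lt _), hu.1, by rw [sub_neg_eq_add, add_comm]; exact hu.2⟩
  have h20 : (2 : ZMod p) ≠ 0 := by
    intro h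
    have h' : ((2 : ℕ) : ZMod p) = 0 := by exact_mod_cast h
    rw [ZMod.natCast_eq_zero_iff] at h'
    exact hp2 ((Nat.prime_dvd_prime_iff_eq hp Nat.prime_two).mp h')
  have hpar : ∀ d : ZMod p, d ≠ 0 → (Even (L (e 0) (e d)) ↔ d / 2 ∉ D) := by
    intro d hd
    rw [hN]
    set S := D.filter fun u => u + d ∈ D with hS
    have hf : ∀ u ∈ S, -u - d ∈ S := by
      intro u hu
      rw [hS, Finset.mem_filter] at hu ⊢
      exact ⟨by rw [show -u - d = -(u + d) by ring, hneg]; exact hu.2,
        by rw [show -u - d + d = -u by ring, hneg]; exact hu.1⟩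
    have hfix : ∀ u, -u - d = u ↔ u = -(d / 2) := fun u => by
      constructor
      · intro h
        field_simp
        linear_combination -h
      · intro h; rw [h]; field_simp; ring
    constructor
    · intro hev hmem
      have hmS : -(d / 2) ∈ S := by
        rw [hS, Finset.mem_filter]
        refine ⟨(hneg _).mpr hmem, ?_⟩
        rw [show -(d / 2) + d = d / 2 by field_simp; ring]; exact hmem
      have h2 := even_card_of_involution (S.erase (-(d / 2))) (fun u => -u - d) (fun u hu => ?_)
        (fun u _ => by ring) (fun u hu h => (Finset.mem_erase.mp hu).1 ((hfix u).mp h))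
      · rw [Finset.card_erase_of_mem hmS] at h2
        have hpos : 0 < S.card := Finset.card_pos.mpr ⟨_, hmS⟩
        rw [Nat.even_iff] at h2 hev
        omega
      · rw [Finset.mem_erase] at hu ⊢
        refine ⟨fun h => hu.1 ?_, hf u hu.2⟩
        have := congrArg (fun v => -v - d) h
        simp only [neg_sub, sub_neg_eq_add] at this
        rw [show u = d + u - d by ring, this]
        field_simp; ring
    · intro hmem
      refine even_card_of_involution S (fun u => -u - d) hf (fun u _ => by ring) (fun u hu h => hmem ?_)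
      rw [(hfix u).mp h, hS, Finset.mem_filter, hneg] at hu
      exact hu.1
  have hsame : ∀ u v : ZMod p, u ≠ 0 → v ≠ 0 → (u ∈ D ↔ v ∈ D) := by
    intro u v hu hv
    have hu2 : 2 * u ≠ 0 := mul_ne_zero h20 hu
    have hv2 : 2 * v ≠ 0 := mul_ne_zero h20 hv
    obtain ⟨g, hg0, hgu⟩ := CfsgLib.Perm.exists_smul_pair h2
      (show e 0 ≠ e (2 * u) from fun h => hu2 (e.injective h).symm)
      (show e 0 ≠ e (2 * v) from fun h => hv2 (e.injective h).symm)
    have hL := hLinv g (e 0) (e (2 * u))
    rw [hg0, hgu] at hL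
    have a1 := hpar _ hu2
    have a2 := hpar _ hv2
    rw [mul_div_cancel_left₀ _ h20] at a1 a2
    rw [hL] at a2
    exact not_iff_not.mp (a1.symm.trans a2)
  have hcard : (g₀ • O).card = D.card := by
    symm
    refine Finset.card_bij (fun j _ => e j) (fun j hj => (hmemD j).mp hj) (fun _ _ _ _ h => e.injective h)
      (fun x hx => ⟨e.symm x, (hmemD _).mpr (by rwa [e.apply_symm_apply]), e.apply_symm_apply x⟩)
  rw [Finset.card_smul_finset] at hcard
  rw [hcard]
  by_cases h1 : (1 : ZMod p) ∈ D
  · right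
    have hD0 : (0 : ZMod p) ∉ D := by
      intro h0
      apply hO'
      rw [← Finset.card_eq_iff_eq_univ, hcard]
      have : D = Finset.univ := Finset.eq_univ_iff_forall.mpr fun j => by
        by_cases hj : j = 0
        · rw [hj]; exact h0
        · exact (hsame 1 j one_ne_zero hj).mp h1
      rw [this, Finset.card_univ]
      exact Fintype.card_congr e
    have : D = Finset.univ.erase 0 := by
      ext j
      simp only [Finset.mem_erase, Finset.mem_univ, and_true]
      exact ⟨fun hj h0 => hD0 (h0 ▸ hj), fun hj => (hsame 1 j one_ne_zero hj).mp h1⟩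
    rw [this, Finset.card_erase_of_mem (Finset.mem_univ _), Finset.card_univ, ZMod.card]
    have := hp.pos; omega
  · left
    have hsub : D ⊆ {0} := fun j hj => by
      rw [Finset.mem_singleton]
      by_contra hj0
      exact h1 ((hsame j 1 hj0 one_ne_zero).mp hj)
    have h3 := Finset.card_le_card hsub
    rw [Finset.card_singleton] at h3
    have h4 : 0 < O.card := Finset.card_pos.mpr hO
    omega

/-- In a transitive permutation group of prime degree `p` whose Sylow `p`-normaliser has even order, the point stabilisers are the only subgroups of index `p`. -/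
theorem result {α : Type*} [Fintype α] [DecidableEq α] {p : ℕ} [Fact p.Prime] (hα : Fintype.card α = p) (G : Subgroup (Equiv.Perm α)) [MulAction.IsPretransitive G α] (P : Sylow p G) (heven : Even (Nat.card (Subgroup.normalizer ((P : Subgroup G) : Set G)))) (H : Subgroup G) (hH : H.index = p) : ∃ a : α, H = MulAction.stabilizer G a := by
  have hp : p.Prime := Fact.out
  have hpG : ¬ p * p ∣ Nat.card G := by
    intro h
    have h4 : Nat.card G ∣ p.factorial := by
      have := Subgroup.card_subgroup_dvd_card G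
      rwa [Nat.card_perm, Nat.card_eq_fintype_card (α := α), hα] at this
    have h5 := h.trans h4
    obtain ⟨m, rfl⟩ : ∃ m, p = m + 1 := ⟨p - 1, by have := hp.pos; omega⟩
    rw [Nat.factorial_succ] at h5
    have h6 := Nat.dvd_of_mul_dvd_mul_left hp.pos h5
    rw [hp.dvd_factorial] at h6
    omega
  have hpH : ¬ p ∣ Nat.card H := by
    intro h
    apply hpG
    rw [← Subgroup.index_mul_card H, hH]
    exact Nat.mul_dvd_mul_left p h
  obtain ⟨a0⟩ : Nonempty α := Fintype.card_pos_iff.mp (by rw [hα]; exact hp.pos)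
  have fromle : ∀ a : α, H ≤ MulAction.stabilizer G a → H = MulAction.stabilizer G a := fun a h =>
    Subgroup.eq_of_le_of_card_ge h (by
      have h1 := CfsgLib.Perm.natCard_eq_mul_stabilizer (G := G) a
      rw [Nat.card_eq_fintype_card (α := α), hα] at h1
      have h2 := Subgroup.index_mul_card H
      rw [hH, h1] at h2
      exact (Nat.eq_of_mul_eq_mul_left hp.pos h2).ge)
  obtain ⟨σ₁, -, hσ₁, -⟩ := CfsgLib.Perm.exists_equiv_zmod hα G
  by_cases hp2 : p = 2
  · subst hp2
    have hle : Nat.card G ≤ 2 := by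
      refine (Nat.le_of_dvd (by norm_num) ?_)
      have := Subgroup.card_subgroup_dvd_card G
      rwa [Nat.card_perm, Nat.card_eq_fintype_card (α := α), hα] at this
    refine ⟨a0, fromle a0 ?_⟩
    have : Nat.card H ≤ 1 := by
      have h2 := Subgroup.index_mul_card H
      rw [hH] at h2; omega
    have hbot : H = ⊥ := Subgroup.eq_bot_of_card_le H this
    rw [hbot]; exact bot_le
  obtain ⟨σ, τ, e, hσo, hτo, hσ, hτ⟩ := CfsgLib.Perm.exists_neg_of_even_normalizer hα hp2 G P heven
  by_cases hsol : Group.IsSolvable G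
  · obtain ⟨a, ha⟩ := solvable_case hα G σ τ e hσo hσ hτo hp2 H hH hpH
    exact ⟨a, fromle a ha⟩
  have h2 : MulAction.IsMultiplyPretransitive G α 2 :=
    (Cfsg.Agent.S0675.result (by rw [hα]; exact hp) G).resolve_left hsol
  classical
  let O : Finset α := (MulAction.orbit H a0).toFinset
  have hOinv : H ≤ MulAction.stabilizer G O := by
    intro g hg
    rw [MulAction.mem_stabilizer_iff]
    ext x
    rw [Finset.mem_smul_finset]
    simp only [O, Set.mem_toFinset]
    constructor
    · rintro ⟨y, ⟨k, rfl⟩, rfl⟩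
      exact ⟨⟨g, hg⟩ * k, mul_smul (⟨g, hg⟩ : H) k a0⟩
    · rintro ⟨k, rfl⟩
      refine ⟨g⁻¹ • k • a0, ⟨⟨g, hg⟩⁻¹ * k, mul_smul (⟨g, hg⟩⁻¹ : H) k a0⟩, smul_inv_smul g _⟩
  have hO : O.Nonempty := ⟨a0, Set.mem_toFinset.mpr (MulAction.mem_orbit_self a0)⟩
  have hO' : O ≠ Finset.univ := by
    intro h
    apply hpH
    have h1 : O.card = p := by rw [h, Finset.card_univ, hα]
    rw [Set.toFinset_card, ← Nat.card_eq_fintype_card, Nat.card_coe_set_eq, ← MulAction.index_stabilizer] at h1
    rw [← Subgroup.index_mul_card (MulAction.stabilizer H a0), h1]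
    exact dvd_mul_right _ _
  rcases design_case G h2 σ τ e hσo hσ hτo hτ hp2 H hH hpH O hOinv hO hO' with h1 | h1
  · obtain ⟨a, ha⟩ := Finset.card_eq_one.mp h1
    refine ⟨a, fromle a fun g hg => ?_⟩
    have hg' : g • O = O := hOinv hg
    rw [ha, Finset.smul_finset_singleton, Finset.singleton_inj] at hg'
    exact hg'
  · obtain ⟨a, ha⟩ := Finset.card_eq_one.mp (show (Finset.univ \ O).card = 1 by
      rw [Finset.card_sdiff_of_subset (Finset.subset_univ O), Finset.card_univ, hα]; omega)
    refine ⟨a, fromle a fun g hg => ?_⟩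
    have hg' : g • O = O := hOinv hg
    have hga : g • a ∈ Finset.univ \ O := by
      rw [Finset.mem_sdiff]
      refine ⟨Finset.mem_univ _, fun h => ?_⟩
      rw [← hg', Finset.smul_mem_smul_finset_iff] at h
      have hmem : a ∈ Finset.univ \ O := by rw [ha]; exact Finset.mem_singleton_self a
      exact (Finset.mem_sdiff.mp hmem).2 h
    rw [ha, Finset.mem_singleton] at hga
    exact hga

end Cfsg.Agent.S0677
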