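import Cfsg.Statements.S0678
import Cfsg.Agent.Lib.Perm.PrimeDegreeSylow
import Cfsg.Agent.S0675
import Cfsg.Agent.S0676
import Cfsg.Agent.Lib.Perm.Multi
import Mathlib.GroupTheory.SpecificGroups.Alternating
import Mathlib.Tactic.IntervalCases

set_option autoImplicit false
open Cfsg

namespace Cfsg.Agent.S0678

theorem neg_is_odd {α : Type*} [Fintype α] [DecidableEq α] (e : ZMod 7 ≃ α) (τ : Equiv.Perm α)
    (hτ : ∀ j, τ (e j) = e (-j)) : Equiv.Perm.sign τ = -1 := by
  have : τ = (e.symm.trans (Equiv.neg (ZMod 7))).trans e := Equiv.ext fun x => by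
    obtain ⟨j, rfl⟩ := e.surjective x; simp [hτ]
  rw [this, Equiv.Perm.sign_symm_trans_trans]
  decide

theorem dvd_42 {α : Type*} [Fintype α] [DecidableEq α] (hα : Fintype.card α = 7)
    (G : Subgroup (Equiv.Perm α)) [MulAction.IsPretransitive G α] (hG : ¬ Group.IsSolvable G) :
    42 ∣ Nat.card G := by
  have : Fact (Nat.Prime 7) := ⟨by decide⟩
  have h2 := (Cfsg.Agent.S0675.result (by rw [hα]; decide) G).resolve_left hG
  obtain ⟨a⟩ : Nonempty α := Fintype.card_pos_iff.mp (by rw [hα]; decide)
  have h1 := CfsgLib.Perm.natCard_eq_mul_stabilizer (G := G) a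
  have h3 : MulAction.IsPretransitive (MulAction.stabilizer G a) (SubMulAction.ofStabilizer G a) := by
    rw [← MulAction.is_one_pretransitive_iff]; exact SubMulAction.ofStabilizer.isMultiplyPretransitive.mp h2
  obtain ⟨b, hb⟩ := Fintype.exists_ne_of_one_lt_card (by rw [hα]; decide) a
  have h4 := CfsgLib.Perm.natCard_eq_mul_stabilizer (G := MulAction.stabilizer G a)
    (⟨b, hb⟩ : SubMulAction.ofStabilizer G a)
  have h5 : Nat.card (SubMulAction.ofStabilizer G a) = 6 := by
    have := SubMulAction.nat_card_ofStabilizer_add_one_eq G a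
    rw [Nat.card_eq_fintype_card (α := α), hα] at this; omega
  rw [h5] at h4
  rw [h1, h4, Nat.card_eq_fintype_card (α := α), hα, ← mul_assoc]
  exact dvd_mul_right _ _

theorem card_168 {α : Type*} [Fintype α] [DecidableEq α] (hα : Fintype.card α = 7)
    (G : Subgroup (Equiv.Perm α)) [MulAction.IsPretransitive G α] (hG : ¬ Group.IsSolvable G)
    (hle : G ≤ alternatingGroup α) (hne : G ≠ alternatingGroup α) : Nat.card G = 168 := by
  have : Fact (Nat.Prime 7) := ⟨by decide⟩
  have : Nontrivial α := Fintype.one_lt_card_iff_nontrivial.mp (by rw [hα]; decide)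
  obtain ⟨P⟩ : Nonempty (Sylow 7 G) := inferInstance
  obtain ⟨n, d, hcard, hn, hd, hN, -⟩ := CfsgLib.Perm.exists_sylow_decomposition hα G P
  have hd1 : d ≠ 1 := fun h => hG (CfsgLib.Perm.isSolvable_of_normalizer_card_eq hα G P (by rw [hN, h]))
  have hodd : ¬ Even d := by
    intro h
    obtain ⟨σ, τ, e, -, -, -, hτ⟩ := CfsgLib.Perm.exists_neg_of_even_normalizer hα (by decide) G P
      (by rw [hN]; exact h.mul_left 7)
    have h1 := Equiv.Perm.mem_alternatingGroup.mp (hle τ.2)
    rw [neg_is_odd e _ hτ] at h1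
    exact absurd h1 (by decide)
  have hd3 : d = 3 := by
    have := Nat.le_of_dvd (by decide) hd
    interval_cases d <;> simp_all (config := {decide := true})
  subst hd3
  have h2520 : Nat.card (alternatingGroup α) = 2520 := by
    rw [nat_card_alternatingGroup, Nat.card_eq_fintype_card, hα]; rfl
  have hdvd := Subgroup.card_dvd_of_le hle
  rw [h2520, hcard] at hdvd
  have hn120 : n ∣ 120 := by
    have : n * 21 ∣ 120 * 21 := hdvd
    exact Nat.dvd_of_mul_dvd_mul_right (by decide) this
  have h42 := dvd_42 hα G hG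
  rw [hcard] at h42
  have hne' : n ≠ 120 := fun h => hne (Subgroup.eq_of_le_of_card_ge hle (by rw [h2520, hcard, h]))
  have := Nat.le_of_dvd (by decide) hn120
  rw [hcard]
  interval_cases n <;> omega

/-- A non-solvable transitive permutation group on 7 points that does not contain the alternating group is a simple group of order 168. -/
theorem result {α : Type*} [Fintype α] [DecidableEq α] (hα : Fintype.card α = 7) (G : Subgroup (Equiv.Perm α)) [MulAction.IsPretransitive G α] (hG : ¬ Group.IsSolvable G) (hA : ¬ alternatingGroup α ≤ G) : Nat.card G = 168 ∧ IsSimpleGroup G := by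
  have : Fact (Nat.Prime 7) := ⟨by decide⟩
  have : Nontrivial α := Fintype.one_lt_card_iff_nontrivial.mp (by rw [hα]; decide)
  set N := (alternatingGroup α).subgroupOf G with hN
  have hNne : N ≠ ⊥ := by
    intro hbot
    obtain ⟨σ, e, hσo, -⟩ := CfsgLib.Perm.exists_equiv_zmod hα G
    have h7 : orderOf (σ : Equiv.Perm α) = 7 := by rw [Subgroup.orderOf_coe, hσo]
    have hσN : σ ∈ N := by
      rw [hN, Subgroup.mem_subgroupOf, Equiv.Perm.mem_alternatingGroup]
      rcases Int.units_eq_one_or (Equiv.Perm.sign (σ : Equiv.Perm α)) with h | h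
      · exact h
      · have h1 := congrArg Equiv.Perm.sign (pow_orderOf_eq_one (σ : Equiv.Perm α))
        rw [h7, map_pow, map_one, h] at h1
        exact absurd h1 (by decide)
    rw [hbot, Subgroup.mem_bot] at hσN
    rw [hσN, orderOf_one] at hσo
    omega
  obtain ⟨hMt, hMs⟩ := CfsgLib.Perm.normal_not_isSolvable hα G hG N hNne
  set M := (N.map G.subtype : Subgroup (Equiv.Perm α)) with hM
  have hMA : M ≤ alternatingGroup α := by
    rintro _ ⟨x, hx, rfl⟩; exact hx
  have hMG : M ≤ G := by rintro _ ⟨x, -, rfl⟩; exact x.2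
  have hMne : M ≠ alternatingGroup α := fun h => hA (h ▸ hMG)
  have hM168 := card_168 hα M hMs hMA hMne
  have hidx : N.index ≤ 2 := by
    let f := (Equiv.Perm.sign : Equiv.Perm α →* ℤˣ).comp G.subtype
    have hk : f.ker = N := by
      ext x; simp [f, hN, Subgroup.mem_subgroupOf, Equiv.Perm.mem_alternatingGroup]
    rw [← hk, Subgroup.index_ker]
    calc Nat.card f.range ≤ Nat.card ℤˣ := Subgroup.card_le_card_group _
      _ = 2 := by rw [Nat.card_eq_fintype_card]; rfl
  have hNcard : Nat.card N = 168 := by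
    rw [← hM168, hM]
    exact Nat.card_congr (N.equivMapOfInjective G.subtype G.subtype_injective).toEquiv
  have hGcard := Subgroup.index_mul_card N
  rw [hNcard] at hGcard
  have hG168 : Nat.card G = 168 := by
    obtain ⟨P⟩ : Nonempty (Sylow 7 G) := inferInstance
    obtain ⟨n, d, hcard, hn, hd, hN', -⟩ := CfsgLib.Perm.exists_sylow_decomposition hα G P
    have h0 : N.index ≠ 0 := Subgroup.index_ne_zero_of_finite
    by_contra hne
    have hi : N.index = 2 := by
      have : N.index ≠ 1 := fun h => hne (by rw [← hGcard, h])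
      omega
    have h336 : Nat.card G = 336 := by rw [← hGcard, hi]
    have hd1 : d ≠ 1 := fun h => hG (CfsgLib.Perm.isSolvable_of_normalizer_card_eq hα G P (by rw [hN', h]))
    rw [h336] at hcard
    have hdle := Nat.le_of_dvd (by decide) hd
    have heven : Even (Nat.card (Subgroup.normalizer ((P : Subgroup G) : Set G))) := by
      rw [hN', Nat.even_iff]
      interval_cases d <;> omega
    have h3 := Cfsg.Agent.S0676.result hα G hG P heven
    obtain ⟨s, hs⟩ : ∃ s : Set α, s.ncard = 3 :=
      ⟨_, (Set.exists_subset_card_eq (s := (Set.univ : Set α)) (n := 3)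
        (by rw [Set.ncard_univ, Nat.card_eq_fintype_card, hα]; decide)).choose_spec.2⟩
    have h4 := h3.index_of_fixingSubgroup_mul hs
    rw [Nat.card_eq_fintype_card (α := α), hα] at h4
    have h5 : (fixingSubgroup G s).index = 210 := by
      simp only [show (7 - 3).factorial = 24 from rfl, show Nat.factorial 7 = 5040 from rfl] at h4
      omega
    have h6 := Subgroup.index_mul_card (fixingSubgroup G s)
    rw [h5, h336] at h6
    omega
  refine ⟨hG168, ?_⟩
  haveI : Nontrivial G := Finite.one_lt_card_iff_nontrivial.mp (by rw [hG168]; decide)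
  refine ⟨fun L hL => ?_⟩
  rw [or_iff_not_imp_left]
  intro hLne
  have hNtop : N = ⊤ := Subgroup.eq_top_of_card_eq N (by rw [hNcard, hG168])
  obtain ⟨hLt, hLs⟩ := CfsgLib.Perm.normal_not_isSolvable hα G hG L hLne
  set ML := (L.map G.subtype : Subgroup (Equiv.Perm α)) with hML
  have hLG : ML ≤ G := by rintro _ ⟨x, -, rfl⟩; exact x.2
  have hLA : ML ≤ alternatingGroup α := by
    rintro _ ⟨x, -, rfl⟩
    have : x ∈ N := by rw [hNtop]; exact Subgroup.mem_top x
    exact this
  have hL168 := card_168 hα ML hLs hLA (fun h => hA (h ▸ hLG))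
  apply Subgroup.eq_top_of_card_eq
  rw [hG168, ← hL168, hML]
  exact Nat.card_congr (L.equivMapOfInjective G.subtype G.subtype_injective).toEquiv

end Cfsg.Agent.S0678
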