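import Cfsg.Statements.S0680
import Cfsg.Agent.Lib.Perm.SharplyTwo

set_option autoImplicit false
open Cfsg

namespace Cfsg.Agent.S0680

/-- A finite sharply doubly transitive permutation group has degree a prime power `p ^ j`; a Sylow `p`-subgroup is normal, elementary abelian and regular, and consists of the identity together with the elements without fixed points. (Frobenius' Theorem is not needed.) -/
theorem result {α : Type*} [Fintype α] [DecidableEq α] (G : Subgroup (Equiv.Perm α)) [MulAction.IsMultiplyPretransitive G α 2] (hsharp : ∀ x : Fin 2 ↪ α, MulAction.stabilizer G x = ⊥) (h2 : 2 ≤ Fintype.card α) : ∃ p j : ℕ, p.Prime ∧ 1 ≤ j ∧ Fintype.card α = p ^ j ∧ ∀ (hp : Fact p.Prime) (P : Sylow p G), (P : Subgroup G).Normal ∧ IsMulCommutative (P : Subgroup G) ∧ (∀ x ∈ (P : Subgroup G), x ^ p = 1) ∧ MulAction.IsPretransitive (P : Subgroup G) α ∧ (∀ a : α, MulAction.stabilizer (P : Subgroup G) a = ⊥) ∧ ∀ g : G, g ∈ (P : Subgroup G) ↔ g = 1 ∨ ∀ a : α, g • a ≠ a := by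
  obtain ⟨T, p, j, hp, hj, hn, hTn, hTc, hTp, hTt, hTreg, hTmem, hTcard, hG⟩ :=
    CfsgLib.Perm.sharply_two_structure G inferInstance hsharp h2
  refine ⟨p, j, hp, hj, hn, fun hpf P => ?_⟩
  have hTP : T = (P : Subgroup G) := by
    have hpT : IsPGroup p T := fun x => ⟨1, Subtype.ext (by simpa using hTp x x.2)⟩
    obtain ⟨Q, hTQ⟩ := hpT.exists_le_sylow
    have hle : T ≤ (P : Subgroup G) := by
      obtain ⟨g, rfl⟩ := MulAction.exists_smul_eq G Q P
      intro x hx
      rw [Sylow.coe_subgroup_smul, Subgroup.mem_pointwise_smul_iff_inv_smul_mem]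
      apply hTQ
      have := hTn.conj_mem x hx g⁻¹
      simpa using this
    refine Subgroup.eq_of_le_of_card_ge hle ?_
    rw [hTcard, Sylow.card_eq_multiplicity, hG, hn]
    have hj0 : 2 ≤ p ^ j := hn ▸ h2
    rw [Nat.factorization_mul (by omega) (by omega), Finsupp.add_apply, hp.factorization_pow,
      Finsupp.single_eq_same, Nat.factorization_eq_zero_of_not_dvd, add_zero]
    intro hd
    have h3 : p ∣ p ^ j := dvd_pow_self p (by omega)
    have h4 := Nat.dvd_sub h3 hd
    rw [Nat.sub_sub_self (by omega : 1 ≤ p ^ j), Nat.dvd_one] at h4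
    exact hp.one_lt.ne' h4
  rw [← hTP]
  exact ⟨hTn, hTc, hTp, hTt, hTreg, hTmem⟩

end Cfsg.Agent.S0680
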