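import Cfsg.Statements.S0681
import Mathlib.GroupTheory.GroupAction.MultipleTransitivity

set_option autoImplicit false
open Cfsg

namespace Cfsg.Agent.S0681

theorem nf_zero_mul {F : Type*} [Cfsg.NearField F] (a : F) : (0 : F) * a = 0 := by
  have h := Cfsg.NearField.right_distrib (0 : F) 0 a
  rw [add_zero] at h
  exact add_eq_left.mp h.symm

theorem nf_neg_mul {F : Type*} [Cfsg.NearField F] (y a : F) : (-y) * a = -(y * a) := by
  apply eq_neg_of_add_eq_zero_left
  rw [← Cfsg.NearField.right_distrib, neg_add_cancel, nf_zero_mul]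

theorem nf_ne_zero_mul {F : Type*} [Cfsg.NearField F] {a b : F} (ha : a ≠ 0) (hb : b ≠ 0) :
    a * b ≠ 0 := by
  intro h
  obtain ⟨c, hc, -⟩ := Cfsg.NearField.exists_inv b hb
  apply ha
  have h2 := congrArg (· * c) h
  simp only [nf_zero_mul] at h2
  rwa [mul_assoc, hc, mul_one] at h2

/-- The affine maps. -/
def affineSet (F : Type*) [Cfsg.NearField F] : Set (Equiv.Perm F) :=
  {σ | ∃ a b : F, a ≠ 0 ∧ ∀ x : F, σ x = x * a + b}

theorem exists_affine {F : Type*} [Cfsg.NearField F] {a : F} (b : F) (ha : a ≠ 0) :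
    ∃ σ : Equiv.Perm F, ∀ x, σ x = x * a + b := by
  obtain ⟨c, hac, hca⟩ := Cfsg.NearField.exists_inv a ha
  refine ⟨⟨fun x => x * a + b, fun y => y * c + -(b * c), fun x => ?_, fun y => ?_⟩, fun x => rfl⟩
  · show (x * a + b) * c + -(b * c) = x
    rw [Cfsg.NearField.right_distrib, mul_assoc, hac, mul_one, add_neg_cancel_right]
  · show (y * c + -(b * c)) * a + b = y
    rw [Cfsg.NearField.right_distrib, mul_assoc, hca, mul_one, nf_neg_mul, mul_assoc, hca, mul_one,
      neg_add_cancel_right]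

/-- The affine maps `x ↦ x * a + b`, `a ≠ 0`, of a near-field form a sharply doubly transitive permutation group. -/
theorem result {F : Type*} [Cfsg.NearField F] : ∃ H : Subgroup (Equiv.Perm F), (∀ σ : Equiv.Perm F, σ ∈ H ↔ ∃ a b : F, a ≠ 0 ∧ ∀ x : F, σ x = x * a + b) ∧ MulAction.IsMultiplyPretransitive H F 2 ∧ ∀ x : Fin 2 ↪ F, MulAction.stabilizer H x = ⊥ := by
  let H : Subgroup (Equiv.Perm F) :=
    { carrier := affineSet F
      one_mem' := ⟨1, 0, fun h => Cfsg.NearField.zero_ne_one h.symm, fun x => by simp⟩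
      mul_mem' := by
        rintro σ τ ⟨a, b, ha, hσ⟩ ⟨c, d, hc, hτ⟩
        refine ⟨c * a, d * a + b, nf_ne_zero_mul hc ha, fun x => ?_⟩
        rw [Equiv.Perm.mul_apply, hσ, hτ, Cfsg.NearField.right_distrib, mul_assoc, add_assoc]
      inv_mem' := by
        rintro σ ⟨a, b, ha, hσ⟩
        obtain ⟨c, hac, hca⟩ := Cfsg.NearField.exists_inv a ha
        refine ⟨c, -(b * c), fun e => ?_, fun y => ?_⟩
        · rw [e, Cfsg.NearField.mul_zero] at hac; exact Cfsg.NearField.zero_ne_one hac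
        · rw [Equiv.Perm.inv_eq_iff_eq, hσ, Cfsg.NearField.right_distrib, mul_assoc, hca, mul_one,
            nf_neg_mul, mul_assoc, hca, mul_one, neg_add_cancel_right] }
  refine ⟨H, fun σ => Iff.rfl, ?_, ?_⟩
  · have key : ∀ c d : F, c ≠ d → ∃ h : H, (h : Equiv.Perm F) 0 = c ∧ (h : Equiv.Perm F) 1 = d := by
      intro c d hcd
      have ha : d + -c ≠ 0 := fun h => hcd (eq_of_sub_eq_zero (by rwa [sub_eq_add_neg])).symm
      obtain ⟨σ, hσ⟩ := exists_affine c ha
      exact ⟨⟨σ, _, c, ha, hσ⟩, by rw [hσ, nf_zero_mul, zero_add], by rw [hσ, one_mul, neg_add_cancel_right]⟩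
    rw [MulAction.is_two_pretransitive_iff]
    intro a b c d hab hcd
    obtain ⟨h1, ha, hb⟩ := key a b hab
    obtain ⟨h2, hc, hd⟩ := key c d hcd
    refine ⟨h2 * h1⁻¹, ?_, ?_⟩
    · show (h2 : Equiv.Perm F) ((h1 : Equiv.Perm F)⁻¹ a) = c
      rw [← ha]; simp [hc]
    · show (h2 : Equiv.Perm F) ((h1 : Equiv.Perm F)⁻¹ b) = d
      rw [← hb]; simp [hd]
  · intro x
    rw [Subgroup.eq_bot_iff_forall]
    rintro ⟨σ, a, b, ha, hσ⟩ hfix
    have h0 : x 0 * a + b = x 0 := by
      rw [← hσ]; exact congrArg (fun f : Fin 2 ↪ F => f 0) hfix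
    have h1 : x 1 * a + b = x 1 := by
      rw [← hσ]; exact congrArg (fun f : Fin 2 ↪ F => f 1) hfix
    have hne : x 0 + -x 1 ≠ 0 := fun h => Fin.zero_ne_one (x.injective (eq_of_sub_eq_zero (by rwa [sub_eq_add_neg])))
    have hmul : (x 0 + -x 1) * a = x 0 + -x 1 := by
      rw [Cfsg.NearField.right_distrib, nf_neg_mul]
      conv_rhs => rw [← h0, ← h1]
      rw [neg_add_rev, add_assoc, add_neg_cancel_left]
    obtain ⟨c, -, hc⟩ := Cfsg.NearField.exists_inv _ hne
    have ha1 : a = 1 := by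
      have := congrArg (c * ·) hmul
      beta_reduce at this
      rwa [← mul_assoc, hc, one_mul] at this
    have hb0 : b = 0 := by rw [ha1, mul_one] at h0; exact add_eq_left.mp h0
    apply Subtype.ext
    apply Equiv.ext
    intro y
    show σ y = y
    rw [hσ, ha1, hb0, mul_one, add_zero]

end Cfsg.Agent.S0681
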