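import Cfsg.Statements.S0682
import Cfsg.Agent.S0680
import Cfsg.Agent.S0681

set_option autoImplicit false
open Cfsg

namespace Cfsg.Agent.S0682

/-- A finite near-field has prime-power order; its additive group is commutative of prime exponent. -/
theorem result {F : Type*} [Cfsg.NearField F] [Finite F] : ∃ p j : ℕ, p.Prime ∧ 1 ≤ j ∧ Nat.card F = p ^ j ∧ (∀ x y : F, x + y = y + x) ∧ ∀ x : F, p • x = 0 := by
  classical
  haveI := Fintype.ofFinite F
  obtain ⟨H, hH, h2t, hsharp⟩ := Cfsg.Agent.S0681.result (F := F)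
  haveI := h2t
  have h2 : 2 ≤ Fintype.card F := Fintype.one_lt_card_iff.mpr ⟨0, 1, Cfsg.NearField.zero_ne_one⟩
  obtain ⟨p, j, hp, hj, hcard, hP⟩ := Cfsg.Agent.S0680.result H hsharp h2
  haveI : Fact p.Prime := ⟨hp⟩
  obtain ⟨P⟩ : Nonempty (Sylow p H) := inferInstance
  obtain ⟨-, hPc, hPp, -, -, hPmem⟩ := hP ⟨hp⟩ P
  have htr : ∀ b : F, ∃ t : H, t ∈ (P : Subgroup H) ∧ ∀ x, (t : Equiv.Perm F) x = x + b := by
    intro b
    obtain ⟨σ, hσ⟩ := Cfsg.Agent.S0681.exists_affine b (a := (1 : F)) (fun h => Cfsg.NearField.zero_ne_one h.symm)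
    have hσH : σ ∈ H := (hH σ).mpr ⟨1, b, fun h => Cfsg.NearField.zero_ne_one h.symm, hσ⟩
    refine ⟨⟨σ, hσH⟩, (hPmem _).mpr ?_, fun x => by rw [hσ, mul_one]⟩
    by_cases hb : b = 0
    · left
      apply Subtype.ext; apply Equiv.ext
      intro x
      show σ x = x
      rw [hσ, hb, mul_one, add_zero]
    · right
      intro a ha
      change σ a = a at ha
      rw [hσ, mul_one] at ha
      exact hb (add_eq_left.mp ha)
  choose t htP ht using htr
  refine ⟨p, j, hp, hj, by rw [Nat.card_eq_fintype_card, hcard], fun x y => ?_, fun x => ?_⟩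
  · have hcomm : (⟨t y, htP y⟩ : (P : Subgroup H)) * ⟨t x, htP x⟩ = ⟨t x, htP x⟩ * ⟨t y, htP y⟩ :=
      hPc.is_comm.comm _ _
    have := congrArg (fun z : (P : Subgroup H) => ((z : H) : Equiv.Perm F) 0) hcomm
    simpa [ht] using this
  · have h := congrArg (fun z : H => (z : Equiv.Perm F) 0) (hPp _ (htP x))
    have hn : ∀ n : ℕ, ((t x : Equiv.Perm F) ^ n) 0 = n • x := by
      intro n
      induction n with
      | zero => simp
      | succ n ih => rw [pow_succ', Equiv.Perm.mul_apply, ih, ht, succ_nsmul]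
    simp only [SubmonoidClass.coe_pow] at h
    rw [hn] at h
    simpa using h

end Cfsg.Agent.S0682
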