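import Cfsg.Statements.S0683
import Cfsg.Agent.Lib.Perm.SharplyTwo
import Mathlib.Algebra.Group.MinimalAxioms

set_option autoImplicit false
open Cfsg

namespace Cfsg.Agent.S0683

/-- A finite sharply doubly transitive permutation group is the affine group of a near-field: the permuted set carries a near-field structure for which the group consists exactly of the maps `x ↦ x * a + b` with `a ≠ 0`. -/
theorem result {α : Type*} [Fintype α] [DecidableEq α] (H : Subgroup (Equiv.Perm α)) [MulAction.IsMultiplyPretransitive H α 2] (hsharp : ∀ x : Fin 2 ↪ α, MulAction.stabilizer H x = ⊥) (h2 : 2 ≤ Fintype.card α) : ∃ _ : Cfsg.NearField α, ∀ σ : Equiv.Perm α, σ ∈ H ↔ ∃ a b : α, a ≠ 0 ∧ ∀ x : α, σ x = x * a + b := by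
  classical
  obtain ⟨T, p, j, -, -, -, hTn, hTc, -, hTt, hTreg, -, -, -⟩ :=
    CfsgLib.Perm.sharply_two_structure H inferInstance hsharp h2
  obtain ⟨z, u, hzu⟩ := Fintype.exists_pair_of_one_lt_card (lt_of_lt_of_le one_lt_two h2)
  haveI := hTt
  let φ : T ≃ α := CfsgLib.Perm.regularEquiv (hTreg z)
  have hφ : ∀ t : T, φ t = (t : H) • z := fun t => rfl
  have hcomm : ∀ s t : T, s * t = t * s := fun s t => hTc.is_comm.comm s t
  have key : ∀ a : α, a ≠ z → ∃! k : H, k • z = z ∧ k • u = a := by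
    intro a ha
    obtain ⟨k, hk1, hk2⟩ := CfsgLib.Perm.exists_smul_pair (G := H) inferInstance hzu (Ne.symm ha)
    refine ⟨k, ⟨hk1, hk2⟩, fun k' hk' => ?_⟩
    have h1 : k⁻¹ * k' = 1 := CfsgLib.Perm.eq_one_of_fix_two H hsharp hzu
      (by rw [mul_smul, hk'.1, inv_smul_eq_iff, hk1]) (by rw [mul_smul, hk'.2, inv_smul_eq_iff, hk2])
    exact (inv_mul_eq_one.mp h1).symm
  choose k hk hku using key
  let m : α → α → α := fun x a => if h : a = z then z else (k a h) • x
  have hm0 : ∀ x, m x z = z := fun x => dif_pos rfl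
  have hm1 : ∀ x a (h : a ≠ z), m x a = (k a h) • x := fun x a h => dif_neg h
  have hzm : ∀ a, m z a = z := fun a => by
    by_cases h : a = z
    · rw [h, hm0]
    · rw [hm1 _ _ h]; exact (hk a h).1
  have hum : ∀ a, m u a = a := fun a => by
    by_cases h : a = z
    · rw [h, hm0]
    · rw [hm1 _ _ h]; exact (hk a h).2
  have hmu : ∀ x, m x u = x := fun x => by
    rw [hm1 _ _ (Ne.symm hzu), ← hku u (Ne.symm hzu) 1 ⟨one_smul _ _, one_smul _ _⟩, one_smul]
  have hkc : ∀ (c : α) (hc : c ≠ z) (b : α), b ≠ z → m b c ≠ z := by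
    intro c hc b hb e
    rw [hm1 _ _ hc] at e
    exact hb (MulAction.injective (k c hc) (e.trans (hk c hc).1.symm))
  have hassoc : ∀ a b c, m (m a b) c = m a (m b c) := by
    intro a b c
    by_cases hc : c = z
    · rw [hc, hm0, hm0, hm0]
    by_cases hb : b = z
    · rw [hb, hm0, hzm, hm0]
    have hbc := hkc c hc b hb
    rw [hm1 _ _ hbc, hm1 _ _ hc, hm1 _ _ hb, ← mul_smul]
    congr 1
    refine hku _ hbc _ ⟨?_, ?_⟩
    · rw [mul_smul, (hk b hb).1, (hk c hc).1]
    · rw [mul_smul, (hk b hb).2, hm1 _ _ hc]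
  have hdist : ∀ x y c, m (φ (φ.symm x * φ.symm y)) c = φ (φ.symm (m x c) * φ.symm (m y c)) := by
    intro x y c
    have hone : φ.symm z = 1 := by rw [Equiv.symm_apply_eq, hφ]; simp
    by_cases hc : c = z
    · rw [hc, hm0, hm0, hm0, hone, mul_one, hφ]; simp
    rw [hm1 _ _ hc, hm1 _ _ hc, hm1 _ _ hc]
    have conj : ∀ w : α, φ.symm (k c hc • w) = ⟨k c hc * (φ.symm w : H) * (k c hc)⁻¹, hTn.conj_mem _ (φ.symm w).2 _⟩ := by
      intro w
      rw [Equiv.symm_apply_eq, hφ]
      show k c hc • w = (k c hc * (φ.symm w : H) * (k c hc)⁻¹) • z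
      rw [mul_smul, mul_smul, inv_smul_eq_iff.mpr (hk c hc).1.symm, ← hφ, Equiv.apply_symm_apply]
    rw [conj, conj, hφ, hφ]
    simp only [Subgroup.coe_mul, mul_smul, inv_smul_eq_iff.mpr (hk c hc).1.symm, inv_smul_smul]
  letI iAdd : Add α := ⟨fun x y => φ (φ.symm x * φ.symm y)⟩
  letI iNeg : Neg α := ⟨fun x => φ (φ.symm x)⁻¹⟩
  letI iZero : Zero α := ⟨z⟩
  have hone : φ.symm z = 1 := by rw [Equiv.symm_apply_eq, hφ]; simp
  let A : AddGroup α := AddGroup.ofLeftAxioms
    (fun a b c => by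
      show φ (φ.symm (φ _) * _) = φ (_ * φ.symm (φ _))
      rw [Equiv.symm_apply_apply, Equiv.symm_apply_apply, mul_assoc])
    (fun a => by
      show φ (φ.symm z * φ.symm a) = a
      rw [hone, one_mul, Equiv.apply_symm_apply])
    (fun a => by
      show φ (φ.symm (φ _) * φ.symm a) = z
      rw [Equiv.symm_apply_apply, inv_mul_cancel, hφ]; simp)
  let M : Monoid α :=
    { mul := m, one := u, mul_assoc := hassoc, one_mul := hum, mul_one := hmu }
  let NF : Cfsg.NearField α :=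
    { A, M with
      right_distrib := hdist
      mul_zero := hm0
      zero_ne_one := hzu
      exists_inv := fun a ha => by
        have hb : (k a ha)⁻¹ • u ≠ z := fun e => hzu (by rw [inv_smul_eq_iff, (hk a ha).1] at e; exact e.symm)
        refine ⟨(k a ha)⁻¹ • u, ?_, ?_⟩
        · show m a ((k a ha)⁻¹ • u) = u
          rw [hm1 _ _ hb, ← hku _ hb (k a ha)⁻¹ ⟨by rw [inv_smul_eq_iff, (hk a ha).1], rfl⟩,
            inv_smul_eq_iff]
          exact (hk a ha).2.symm
        · show m ((k a ha)⁻¹ • u) a = u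
          rw [hm1 _ _ ha, smul_inv_smul] }
  refine ⟨NF, fun σ => ⟨fun hσ => ?_, ?_⟩⟩
  · set b := σ z with hb
    set t := φ.symm b with ht
    set g : H := (t : H)⁻¹ * ⟨σ, hσ⟩ with hg
    have hgz : g • z = z := by
      rw [hg, mul_smul, inv_smul_eq_iff, ← hφ, ht, Equiv.apply_symm_apply]; rfl
    have ha : g • u ≠ z := fun e => hzu (MulAction.injective g (hgz.trans e.symm))
    refine ⟨g • u, b, ha, fun x => ?_⟩
    show σ x = φ (φ.symm (m x (g • u)) * φ.symm b)
    rw [hm1 _ _ ha, ← hku _ ha g ⟨hgz, rfl⟩, hcomm, hφ, ← ht, Subgroup.coe_mul, mul_smul, ← hφ,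
      Equiv.apply_symm_apply, hg, mul_smul, smul_inv_smul]
    rfl
  · rintro ⟨a, b, ha, hσ⟩
    have : σ = ((((φ.symm b : T) : H) * k a ha : H) : Equiv.Perm α) := by
      apply Equiv.ext
      intro x
      show σ x = ((φ.symm b : T) : H) • k a ha • x
      rw [hσ x]
      show φ (φ.symm (m x a) * φ.symm b) = _
      rw [hm1 _ _ ha, hcomm, hφ, Subgroup.coe_mul, mul_smul, ← hφ (φ.symm (k a ha • x)),
        Equiv.apply_symm_apply]
    rw [this]
    exact SetLike.coe_mem _

end Cfsg.Agent.S0683
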