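import Cfsg.Statements.S0685
import Cfsg.Agent.Lib.Perm.LinearFree
import Mathlib.Tactic.Group
import Mathlib.GroupTheory.Subgroup.Centralizer
import Mathlib.Algebra.Group.Subgroup.Finite
import Mathlib.Tactic.Ring
import Mathlib.LinearAlgebra.FiniteDimensional.Lemmas

set_option autoImplicit false
open Cfsg

namespace Cfsg.Agent.S0685

theorem count {G : Type*} [Group G] [Finite G] {A : Subgroup G} [A.Normal] {p n k : ℕ}
    (hcard : Nat.card G = p ^ n - 1) (hcyc : IsCyclic A) (hdvd : Nat.card A ∣ p ^ k - 1)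
    (hker : (MulAut.conjNormal : G →* MulAut A).ker ≤ A) (h2k : 2 * k ≤ n) (hk : 1 ≤ k) (hp : 2 ≤ p) : False := by
  haveI := hcyc
  have h1 : Nat.card G ≤ Nat.card A * Nat.card A := by
    rw [← Subgroup.card_mul_index (MulAut.conjNormal : G →* MulAut A).ker, Subgroup.index_ker]
    refine Nat.mul_le_mul (Nat.le_of_dvd Nat.card_pos (Subgroup.card_dvd_of_le hker)) ?_
    refine le_trans (Nat.card_le_card_of_injective Subtype.val Subtype.val_injective) ?_
    rw [IsCyclic.card_mulAut]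
    exact Nat.totient_le _
  obtain ⟨x, hx⟩ : ∃ x, p ^ k = x + 2 := ⟨p ^ k - 2, by
    have := Nat.pow_le_pow_right (show 1 ≤ p by omega) hk
    rw [pow_one] at this; omega⟩
  have h2 : Nat.card A ≤ x + 1 := by
    have := Nat.le_of_dvd (by omega) hdvd
    omega
  have h3 : (x + 2) * (x + 2) ≤ p ^ n := by
    rw [← hx, ← pow_add]
    exact Nat.pow_le_pow_right (by omega) (by omega)
  have h4 := h1.trans (Nat.mul_le_mul h2 h2)
  rw [hcard] at h4
  ring_nf at h3 h4
  omega

/-- In a linear group over the prime field that is regular on non-zero vectors and has no irreducible cyclic normal subgroup, a maximal normal abelian subgroup is properly contained in its centraliser, which is non-abelian. -/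
theorem result {p : ℕ} [Fact p.Prime] {V : Type*} [AddCommGroup V] [Module (ZMod p) V] [Finite V] (H : Subgroup (V ≃ₗ[ZMod p] V)) (hreg : ∀ v w : V, v ≠ 0 → w ≠ 0 → ∃! h : H, (h : V ≃ₗ[ZMod p] V) v = w) (hI : ∀ A : Subgroup H, A.Normal → IsCyclic A → ∃ W : Submodule (ZMod p) V, W ≠ ⊥ ∧ W ≠ ⊤ ∧ ∀ a ∈ A, ∀ v ∈ W, ((a : H) : V ≃ₗ[ZMod p] V) v ∈ W) (A : Subgroup H) (hAn : A.Normal) (hAc : IsMulCommutative A) (hAmax : ∀ B : Subgroup H, B.Normal → IsMulCommutative B → A ≤ B → B = A) : A < Subgroup.centralizer (A : Set H) ∧ ¬ IsMulCommutative (Subgroup.centralizer (A : Set H)) := by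
  classical
  have hfree : ∀ h : H, ∀ v : V, v ≠ 0 → (h : V ≃ₗ[ZMod p] V) v = v → h = 1 := fun h v hv he =>
    (hreg v v hv hv).unique he rfl
  haveI : Finite (V ≃ₗ[ZMod p] V) := Finite.of_injective (fun e => (e : V → V)) DFunLike.coe_injective
  haveI := hAn
  haveI := hAc
  obtain ⟨W₁, h1, h2, -⟩ := hI (⊥ : Subgroup H) inferInstance inferInstance
  obtain ⟨W₂, -, hW₂⟩ := CfsgLib.Perm.exists_isMinInvariant H A (W₀ := ⊤) (fun e => h2 (top_le_iff.mp (e ▸ bot_le))) (fun _ _ _ _ => trivial)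
  obtain ⟨hcyc, -⟩ := CfsgLib.Perm.isCyclic_of_free H A hAc hfree hW₂
  obtain ⟨W₀, h0, h0', hinv⟩ := hI A hAn hcyc
  obtain ⟨W, hle, hW⟩ := CfsgLib.Perm.exists_isMinInvariant H A h0 hinv
  have hWtop : W ≠ ⊤ := fun e => h0' (top_le_iff.mp (e ▸ hle))
  obtain ⟨-, hdvd⟩ := CfsgLib.Perm.isCyclic_of_free H A hAc hfree hW
  have hle' : A ≤ Subgroup.centralizer (A : Set H) := Subgroup.le_centralizer_iff_isMulCommutative.mpr hAc
  set k := Module.finrank (ZMod p) W with hk
  set n := Module.finrank (ZMod p) V with hn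
  -- a translate of `W` is disjoint from `W`
  obtain ⟨v, hvW, hv0⟩ := (Submodule.ne_bot_iff _).mp hW.ne_bot
  obtain ⟨w, hw⟩ : ∃ w, w ∉ W := by
    by_contra h
    push Not at h
    exact hWtop (Submodule.eq_top_iff'.mpr h)
  have hw0 : w ≠ 0 := fun e => hw (e ▸ W.zero_mem)
  obtain ⟨h, hh, -⟩ := hreg v w hv0 hw0
  set W' := W.map ((h : V ≃ₗ[ZMod p] V) : V →ₗ[ZMod p] V) with hW'
  have hW'inv : ∀ a ∈ A, ∀ u ∈ W', ((a : H) : V ≃ₗ[ZMod p] V) u ∈ W' := by
    rintro a ha _ ⟨u, hu, rfl⟩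
    refine ⟨((h⁻¹ * a * h : H) : V ≃ₗ[ZMod p] V) u, hW.invariant (h⁻¹ * a * h) ?_ u hu, ?_⟩
    · have := hAn.conj_mem a ha h⁻¹
      rwa [inv_inv] at this
    · show (h : V ≃ₗ[ZMod p] V) ((h : V ≃ₗ[ZMod p] V).symm (((a : H) : V ≃ₗ[ZMod p] V) ((h : V ≃ₗ[ZMod p] V) u))) = _
      rw [LinearEquiv.apply_symm_apply]
      rfl
  have hfin : Module.finrank (ZMod p) W' = k := LinearEquiv.finrank_map_eq (h : V ≃ₗ[ZMod p] V) W
  have hdis : W ⊓ W' = ⊥ := by
    rcases hW.minimal (W ⊓ W') inf_le_left (fun a ha u hu => ⟨hW.invariant a ha u hu.1, hW'inv a ha u hu.2⟩) with h3 | h3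
    · exact h3
    · exfalso
      have h4 : W = W' := Submodule.eq_of_le_of_finrank_le (h3 ▸ inf_le_right) hfin.le
      exact hw (h4 ▸ ⟨v, hvW, hh⟩)
  have h2k : 2 * k ≤ n := by
    have h3 := Submodule.finrank_sup_add_finrank_inf_eq W W'
    rw [hdis, finrank_bot, add_zero, hfin] at h3
    have h4 := (W ⊔ W').finrank_le
    omega
  have hk1 : 1 ≤ k := Submodule.one_le_finrank_iff.mpr hW.ne_bot
  have hcardH : Nat.card H = p ^ n - 1 := by
    haveI : Fintype V := Fintype.ofFinite V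
    have e : Nat.card H = Nat.card {u : V // u ≠ 0} := Nat.card_congr (Equiv.ofBijective
      (fun g => ⟨(g : V ≃ₗ[ZMod p] V) v, fun e => hv0 ((g : V ≃ₗ[ZMod p] V).map_eq_zero_iff.mp e)⟩)
      ⟨fun g g' e => (hreg v _ hv0 (fun e => hv0 ((g : V ≃ₗ[ZMod p] V).map_eq_zero_iff.mp e))).unique rfl
          (congrArg Subtype.val e).symm,
        fun u => by
          obtain ⟨g, hg, -⟩ := hreg v u hv0 u.2
          exact ⟨g, Subtype.ext hg⟩⟩)
    rw [e, Nat.card_eq_fintype_card, Fintype.card_subtype_compl, Fintype.card_subtype_eq,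
      Module.card_eq_pow_finrank (K := ZMod p), ZMod.card]
  have hp2 := (Fact.out : p.Prime).two_le
  have hne : A ≠ Subgroup.centralizer (A : Set H) := fun e => by
    have hker : (MulAut.conjNormal : H →* MulAut A).ker ≤ A := by
      intro g hg
      rw [e]
      refine Subgroup.mem_centralizer_iff.mpr fun a ha => ?_
      have h4 := congrArg (fun φ : MulAut A => ((φ ⟨a, ha⟩ : A) : H)) (MonoidHom.mem_ker.mp hg)
      simp only [MulAut.conjNormal_apply, MulAut.one_apply] at h4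
      calc a * g = g * a * g⁻¹ * g := by rw [h4]
        _ = g * a := by group
    exact count hcardH hcyc hdvd hker h2k hk1 hp2
  exact ⟨lt_of_le_of_ne hle' hne, fun hC =>
    hne (hAmax _ Subgroup.normal_centralizer hC hle').symm⟩

end Cfsg.Agent.S0685
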