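import Cfsg.Statements.S0687
import Cfsg.Agent.Lib.Perm.IcoRegular

set_option autoImplicit false
open Cfsg

namespace Cfsg.Agent.S0687

/-- In a linear group over the prime field that is regular on non-zero vectors and has no irreducible cyclic normal subgroup, a normal subgroup `N` minimal among the non-abelian normal subgroups centralising a maximal normal abelian subgroup `A` is irreducible on `V`, and its centraliser is `A`. -/
theorem result {p : ℕ} [Fact p.Prime] {V : Type*} [AddCommGroup V] [Module (ZMod p) V] [Finite V] (H : Subgroup (V ≃ₗ[ZMod p] V)) (hreg : ∀ v w : V, v ≠ 0 → w ≠ 0 → ∃! h : H, (h : V ≃ₗ[ZMod p] V) v = w) (hI : ∀ A : Subgroup H, A.Normal → IsCyclic A → ∃ W : Submodule (ZMod p) V, W ≠ ⊥ ∧ W ≠ ⊤ ∧ ∀ a ∈ A, ∀ v ∈ W, ((a : H) : V ≃ₗ[ZMod p] V) v ∈ W) (A : Subgroup H) (hAn : A.Normal) (hAc : IsMulCommutative A) (hAmax : ∀ B : Subgroup H, B.Normal → IsMulCommutative B → A ≤ B → B = A) (N : Subgroup H) (hNn :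 N.Normal) (hNle : N ≤ Subgroup.centralizer (A : Set H)) (hNna : ¬ IsMulCommutative N) (hNmin : ∀ M : Subgroup H, M.Normal → M ≤ N → ¬ IsMulCommutative M → M = N) : (∀ W : Submodule (ZMod p) V, (∀ n ∈ N, ∀ v ∈ W, ((n : H) : V ≃ₗ[ZMod p] V) v ∈ W) → W = ⊥ ∨ W = ⊤) ∧ Subgroup.centralizer (N : Set H) = A := by
  classical
  obtain ⟨W, hW0, hW1, -⟩ := hI ⊥ inferInstance inferInstance
  obtain ⟨w, hwW, hw⟩ := W.exists_mem_ne_zero_of_ne_bot hW0
  have : Nontrivial V := nontrivial_of_ne w 0 hw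
  have : Nontrivial H := by
    by_contra hn
    rw [not_nontrivial_iff_subsingleton] at hn
    exact hNna ⟨⟨fun a b => Subsingleton.elim _ _⟩⟩
  obtain ⟨X, Q, hXn, -, hXna, hXc, hdich, hQ, hV⟩ := CfsgLib.Perm.Ico.exists_core H hreg hI
  obtain ⟨e1, e2⟩ := CfsgLib.Perm.Ico.eq_core A hAn hAc hAmax N hNn hNle hNna hNmin hXn hXna hXc hdich
  subst e1
  exact ⟨fun U hU => CfsgLib.Perm.Ico.irreducible_of_card_sq H.subtype
    (fun v hv g h => (hreg v v hv hv).unique h rfl) hQ hV N hXna U hU, e2⟩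

end Cfsg.Agent.S0687
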