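import Cfsg.Statements.S0688
import Cfsg.Agent.Lib.Perm.IcoRegular

set_option autoImplicit false
open Cfsg

namespace Cfsg.Agent.S0688

/-- Degrees of the soluble exceptional sharply doubly transitive groups: if a solvable linear group over the prime field is regular on the non-zero vectors of `V` and has no irreducible cyclic normal subgroup, then `V` has 25, 49, 121 or 529 elements. -/
theorem result {p : ℕ} [Fact p.Prime] {V : Type*} [AddCommGroup V] [Module (ZMod p) V] [Finite V] (H : Subgroup (V ≃ₗ[ZMod p] V)) (hreg : ∀ v w : V, v ≠ 0 → w ≠ 0 → ∃! h : H, (h : V ≃ₗ[ZMod p] V) v = w) (hI : ∀ A : Subgroup H, A.Normal → IsCyclic A → ∃ W : Submodule (ZMod p) V, W ≠ ⊥ ∧ W ≠ ⊤ ∧ ∀ a ∈ A, ∀ v ∈ W, ((a : H) : V ≃ₗ[ZMod p] V) v ∈ W) (hsolv : Group.IsSolvable H) : Nat.card V = 25 ∨ Nat.card V = 49 ∨ Nat.card V = 121 ∨ Nat.card V = 529 := by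
  classical
  have : Finite H := Finite.of_injective (fun g : H => fun v => (g : V ≃ₗ[ZMod p] V) v)
    (fun g h e => Subtype.ext (LinearEquiv.ext (congrFun e)))
  obtain ⟨W, hW0, hW1, -⟩ := hI ⊥ inferInstance inferInstance
  obtain ⟨w, hwW, hw⟩ := W.exists_mem_ne_zero_of_ne_bot hW0
  have : Nontrivial V := nontrivial_of_ne w 0 hw
  have : Nontrivial H := by
    by_contra hn
    rw [not_nontrivial_iff_subsingleton] at hn
    obtain ⟨u, hu⟩ : ∃ u, u ∉ W := by
      by_contra hall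
      push Not at hall
      exact hW1 (eq_top_iff.2 fun x _ => hall x)
    obtain ⟨g, hg, -⟩ := hreg w u hw (fun e => hu (e ▸ W.zero_mem))
    rw [Subsingleton.elim g 1] at hg
    exact hu (hg ▸ hwW)
  have htrans : ∀ v w : V, v ≠ 0 → w ≠ 0 → ∃ g : H, H.subtype g v = w := fun v w hv hw =>
    (hreg v w hv hw).exists
  have hfree : ∀ v : V, v ≠ 0 → ∀ g : H, H.subtype g v = v → g = 1 := fun v hv g h =>
    (hreg v v hv hv).unique h rfl
  by_cases hnil : CfsgLib.Perm.Ico.TwoNilp H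
  · exfalso
    obtain ⟨d, f, hd, hf⟩ := CfsgLib.Perm.Ico.fpf_of_free H.subtype hfree
    have : Nonempty (Fin d) := ⟨⟨0, hd⟩⟩
    obtain ⟨A, hAn, hAc, hAcyc, hC⟩ := CfsgLib.Perm.Ico.exists_selfCentralizing hf hnil
    obtain ⟨U, h1, h2, h3⟩ := hI A hAn hAcyc
    exact ((CfsgLib.Perm.Ico.semilinear_of_selfCentralizing H.subtype htrans hfree A hAc hC).2 U h3).elim h1 h2
  · obtain ⟨R, Q, -, hV, -, -, -, hQ⟩ :=
      CfsgLib.Perm.Ico.solvable_exceptional H.subtype htrans hfree hsolv hnil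
    rcases hQ with rfl | rfl | rfl | rfl <;> simp [hV]

end Cfsg.Agent.S0688
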