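import Cfsg.Statements.S0690
import Cfsg.Agent.Lib.Perm.IcoBridge

set_option autoImplicit false
open Cfsg

namespace Cfsg.Agent.S0690

/-- Zassenhaus: a perfect non-trivial group of fixed-point-free automorphisms of a finite group is isomorphic to `SL(2,5)`. -/
theorem result {K : Type*} [Group K] [Finite K] (G : Subgroup (MulAut K)) (hfpf : ∀ φ ∈ G, φ ≠ 1 → ∀ k : K, φ k = k → k = 1) (hperf : commutator G = ⊤) (hne : G ≠ ⊥) : Nonempty (G ≃* Matrix.SpecialLinearGroup (Fin 2) (ZMod 5)) := by
  have : Nontrivial G := (Subgroup.nontrivial_iff_ne_bot G).2 hne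
  have hK : Nontrivial K := by
    rcases subsingleton_or_nontrivial K with h | h
    · exfalso
      refine hne ((Subgroup.eq_bot_iff_forall _).2 fun φ _ => ?_)
      exact MulEquiv.ext fun k => Subsingleton.elim _ _
    · exact h
  obtain ⟨L, hG, hfin, C, hC, he, -⟩ := CfsgLib.StructC.exists_frobenius_of_fpf G.subtype
    (fun φ hφ n hn => hfpf φ φ.2 (fun e => hφ (Subtype.ext e)) n hn)
  exact CfsgLib.Perm.Ico.perfect_complement ⟨L, hG, hfin, C, hC, he⟩ hperf

end Cfsg.Agent.S0690
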