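import Cfsg.Statements.S0691
import Cfsg.Agent.Lib.Perm.TwoByTwo
import Mathlib.GroupTheory.SpecificGroups.Cyclic

set_option autoImplicit false
open Cfsg

namespace Cfsg.Agent.S0691

abbrev gens : List CfsgLib.Perm.NQuad := [(2, 0, 0, 3), (0, 4, 1, 0), (1, 2, 1, 3)]

abbrev elts : List CfsgLib.Perm.NQuad := [(4, 1, 2, 2),
  (4, 4, 3, 2),
  (2, 3, 4, 4),
  (2, 2, 1, 4),
  (3, 2, 1, 1),
  (1, 3, 4, 3),
  (1, 4, 3, 3),
  (3, 1, 2, 1),
  (1, 1, 2, 3),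
  (3, 4, 3, 1),
  (4, 3, 4, 2),
  (0, 1, 4, 0),
  (3, 0, 0, 2),
  (3, 3, 4, 1),
  (2, 1, 2, 4),
  (4, 2, 1, 2),
  (0, 2, 2, 0),
  (2, 4, 3, 4),
  (0, 3, 3, 0),
  (4, 0, 0, 4),
  (1, 2, 1, 3),
  (0, 4, 1, 0),
  (2, 0, 0, 3),
  (1, 0, 0, 1)]

theorem list_check : CfsgLib.Perm.nqCheck 5 gens elts = true := by decide +kernel

/-- An exceptional sharply doubly transitive group of degree 5^2: the listed matrices generate a subgroup of GL(2,5) of order 24 acting regularly on the non-zero vectors. -/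
theorem result (A : Matrix.GeneralLinearGroup (Fin 2) (ZMod 5)) (B : Matrix.GeneralLinearGroup (Fin 2) (ZMod 5)) (C : Matrix.GeneralLinearGroup (Fin 2) (ZMod 5)) (hA : (A : Matrix (Fin 2) (Fin 2) (ZMod 5)) = !![2, 0; 0, -2]) (hB : (B : Matrix (Fin 2) (Fin 2) (ZMod 5)) = !![0, -1; 1, 0]) (hC : (C : Matrix (Fin 2) (Fin 2) (ZMod 5)) = !![1, 2; 1, -2]) : Nat.card (Subgroup.closure ({A, B, C} : Set (Matrix.GeneralLinearGroup (Fin 2) (ZMod 5)))) = 24 ∧ ∀ v w : Fin 2 → ZMod 5, v ≠ 0 → w ≠ 0 → ∃! h : Subgroup.closure ({A, B, C} : Set (Matrix.GeneralLinearGroup (Fin 2) (ZMod 5))), Matrix.mulVec ((h : Matrix.GeneralLinearGroup (Fin 2) (ZMod 5)) : Matrix (Fin 2) (Fin 2) (ZMod 5)) v = w := by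
  haveI : Fact (Nat.Prime 5) := ⟨by norm_num⟩
  obtain ⟨hN, hfree'⟩ := CfsgLib.Perm.closure_of_nqCheck (p := 5) {A, B, C} gens elts list_check
    (fun g hg => by
      rcases hg with rfl | rfl | rfl
      · exact ⟨(2, 0, 0, 3), by simp [gens], by rw [hA]; simp [CfsgLib.Perm.quadMat, CfsgLib.Perm.nqCast]; try decide⟩
      · exact ⟨(0, 4, 1, 0), by simp [gens], by rw [hB]; simp [CfsgLib.Perm.quadMat, CfsgLib.Perm.nqCast]; try decide⟩
      · exact ⟨(1, 2, 1, 3), by simp [gens], by rw [hC]; simp [CfsgLib.Perm.quadMat, CfsgLib.Perm.nqCast]; try decide⟩)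
    (fun t ht => by
      simp only [gens, List.mem_cons, List.not_mem_nil, or_false] at ht
      rcases ht with rfl | rfl | rfl
      · exact ⟨A, by simp, by rw [hA]; simp [CfsgLib.Perm.quadMat, CfsgLib.Perm.nqCast]; try decide⟩
      · exact ⟨B, by simp, by rw [hB]; simp [CfsgLib.Perm.quadMat, CfsgLib.Perm.nqCast]; try decide⟩
      · exact ⟨C, by simp, by rw [hC]; simp [CfsgLib.Perm.quadMat, CfsgLib.Perm.nqCast]; try decide⟩)
  exact ⟨hN, CfsgLib.Perm.existsUnique_mulVec_of_free _ (hN.trans (by rfl)) hfree'⟩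

end Cfsg.Agent.S0691
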