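import Cfsg.Statements.S0692
import Cfsg.Agent.Lib.Perm.TwoByTwo
import Mathlib.GroupTheory.SpecificGroups.Cyclic

set_option autoImplicit false
open Cfsg

namespace Cfsg.Agent.S0692

abbrev gens : List CfsgLib.Perm.NQuad := [(0, 10, 1, 0), (2, 4, 1, 8)]

abbrev elts : List CfsgLib.Perm.NQuad := [(4, 4, 4, 7),
  (7, 4, 4, 4),
  (4, 6, 10, 7),
  (8, 2, 6, 3),
  (4, 7, 7, 7),
  (10, 7, 7, 5),
  (9, 8, 8, 6),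
  (2, 2, 2, 8),
  (7, 8, 8, 3),
  (6, 3, 3, 9),
  (7, 7, 7, 4),
  (5, 4, 4, 10),
  (7, 5, 1, 4),
  (3, 9, 5, 8),
  (4, 10, 6, 7),
  (8, 6, 2, 3),
  (2, 8, 9, 9),
  (8, 3, 4, 3),
  (9, 2, 3, 2),
  (3, 7, 8, 8),
  (1, 4, 4, 6),
  (5, 8, 8, 2),
  (3, 10, 0, 4),
  (6, 7, 7, 1),
  (2, 3, 3, 5),
  (9, 9, 9, 3),
  (4, 3, 3, 8),
  (0, 4, 8, 1),
  (3, 2, 2, 9),
  (8, 8, 8, 4),
  (1, 3, 7, 0),
  (2, 6, 5, 10),
  (4, 1, 0, 3),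
  (6, 2, 1, 6),
  (7, 1, 5, 4),
  (3, 5, 9, 8),
  (9, 3, 2, 2),
  (3, 8, 7, 8),
  (8, 1, 0, 7),
  (2, 9, 8, 9),
  (8, 4, 3, 3),
  (7, 0, 10, 8),
  (5, 10, 9, 5),
  (0, 3, 7, 10),
  (1, 6, 5, 9),
  (5, 2, 1, 5),
  (10, 4, 8, 0),
  (9, 6, 5, 1),
  (0, 7, 3, 10),
  (8, 9, 9, 2),
  (3, 3, 3, 7),
  (10, 8, 4, 0),
  (9, 5, 6, 1),
  (7, 10, 0, 8),
  (5, 9, 10, 5),
  (1, 5, 6, 9),
  (8, 0, 1, 7),
  (5, 1, 2, 5),
  (4, 5, 2, 0),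
  (5, 6, 3, 6),
  (10, 1, 9, 1),
  (0, 9, 6, 4),
  (4, 0, 1, 3),
  (6, 1, 2, 6),
  (0, 8, 4, 1),
  (10, 5, 6, 2),
  (6, 9, 10, 6),
  (1, 7, 3, 0),
  (2, 5, 6, 10),
  (2, 0, 7, 6),
  (3, 6, 6, 5),
  (9, 1, 1, 10),
  (6, 4, 0, 2),
  (5, 5, 5, 3),
  (10, 10, 10, 9),
  (2, 7, 0, 6),
  (10, 6, 5, 2),
  (3, 0, 10, 4),
  (6, 10, 9, 6),
  (7, 6, 9, 0),
  (6, 5, 8, 5),
  (1, 10, 2, 10),
  (0, 2, 5, 7),
  (5, 3, 6, 6),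
  (10, 9, 1, 1),
  (0, 6, 9, 4),
  (2, 1, 4, 8),
  (4, 2, 5, 0),
  (9, 0, 4, 5),
  (8, 5, 5, 6),
  (2, 10, 10, 1),
  (5, 7, 0, 9),
  (6, 6, 6, 8),
  (1, 1, 1, 2),
  (9, 4, 0, 5),
  (4, 8, 9, 10),
  (5, 0, 7, 9),
  (10, 2, 3, 4),
  (8, 10, 7, 2),
  (6, 8, 5, 5),
  (1, 2, 10, 10),
  (0, 5, 2, 7),
  (9, 10, 7, 3),
  (7, 9, 6, 0),
  (3, 4, 1, 9),
  (7, 2, 3, 1),
  (1, 8, 9, 7),
  (7, 3, 2, 1),
  (6, 0, 4, 2),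
  (1, 9, 8, 7),
  (3, 1, 4, 9),
  (9, 7, 10, 3),
  (0, 1, 10, 0),
  (8, 7, 10, 2),
  (4, 9, 8, 10),
  (10, 3, 2, 4),
  (10, 0, 0, 10),
  (2, 4, 1, 8),
  (0, 10, 1, 0),
  (1, 0, 0, 1)]

theorem list_check : CfsgLib.Perm.nqCheck 11 gens elts = true := by decide +kernel

/-- An exceptional sharply doubly transitive group of degree 11^2: the listed matrices generate a subgroup of GL(2,11) of order 120 acting regularly on the non-zero vectors. -/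
theorem result (A : Matrix.GeneralLinearGroup (Fin 2) (ZMod 11)) (B : Matrix.GeneralLinearGroup (Fin 2) (ZMod 11)) (hA : (A : Matrix (Fin 2) (Fin 2) (ZMod 11)) = !![0, -1; 1, 0]) (hB : (B : Matrix (Fin 2) (Fin 2) (ZMod 11)) = !![2, 4; 1, -3]) : Nat.card (Subgroup.closure ({A, B} : Set (Matrix.GeneralLinearGroup (Fin 2) (ZMod 11)))) = 120 ∧ ∀ v w : Fin 2 → ZMod 11, v ≠ 0 → w ≠ 0 → ∃! h : Subgroup.closure ({A, B} : Set (Matrix.GeneralLinearGroup (Fin 2) (ZMod 11))), Matrix.mulVec ((h : Matrix.GeneralLinearGroup (Fin 2) (ZMod 11)) : Matrix (Fin 2) (Fin 2) (ZMod 11)) v = w := by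
  haveI : Fact (Nat.Prime 11) := ⟨by norm_num⟩
  obtain ⟨hN, hfree'⟩ := CfsgLib.Perm.closure_of_nqCheck (p := 11) {A, B} gens elts list_check
    (fun g hg => by
      rcases hg with rfl | rfl
      · exact ⟨(0, 10, 1, 0), by simp [gens], by rw [hA]; simp [CfsgLib.Perm.quadMat, CfsgLib.Perm.nqCast]; try decide⟩
      · exact ⟨(2, 4, 1, 8), by simp [gens], by rw [hB]; simp [CfsgLib.Perm.quadMat, CfsgLib.Perm.nqCast]; try decide⟩)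
    (fun t ht => by
      simp only [gens, List.mem_cons, List.not_mem_nil, or_false] at ht
      rcases ht with rfl | rfl
      · exact ⟨A, by simp, by rw [hA]; simp [CfsgLib.Perm.quadMat, CfsgLib.Perm.nqCast]; try decide⟩
      · exact ⟨B, by simp, by rw [hB]; simp [CfsgLib.Perm.quadMat, CfsgLib.Perm.nqCast]; try decide⟩)
  exact ⟨hN, CfsgLib.Perm.existsUnique_mulVec_of_free _ (hN.trans (by rfl)) hfree'⟩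

end Cfsg.Agent.S0692
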