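import Cfsg.Statements.S0693
import Cfsg.Agent.Lib.Perm.TwoByTwo
import Mathlib.GroupTheory.SpecificGroups.Cyclic

set_option autoImplicit false
open Cfsg

namespace Cfsg.Agent.S0693

abbrev gens : List CfsgLib.Perm.NQuad := [(0, 58, 1, 0), (9, 15, 49, 49)]

abbrev elts : List CfsgLib.Perm.NQuad := [(3, 7, 7, 56),
  (52, 3, 3, 7),
  (34, 17, 43, 25),
  (41, 14, 40, 18),
  (7, 56, 56, 52),
  (43, 25, 25, 42),
  (45, 41, 41, 40),
  (48, 40, 40, 10),
  (53, 21, 21, 5),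
  (40, 18, 18, 45),
  (56, 52, 52, 3),
  (42, 34, 34, 43),
  (25, 42, 16, 34),
  (18, 45, 19, 41),
  (34, 43, 17, 25),
  (41, 40, 14, 18),
  (40, 10, 11, 19),
  (21, 5, 6, 38),
  (19, 48, 49, 40),
  (38, 53, 54, 21),
  (16, 34, 34, 17),
  (19, 41, 41, 14),
  (38, 30, 31, 54),
  (17, 25, 25, 16),
  (14, 18, 18, 19),
  (11, 19, 19, 49),
  (6, 38, 38, 54),
  (31, 54, 21, 29),
  (49, 40, 40, 11),
  (54, 21, 21, 6),
  (29, 38, 5, 31),
  (25, 28, 27, 35),
  (54, 29, 28, 38),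
  (32, 25, 24, 28),
  (25, 16, 42, 34),
  (18, 19, 45, 41),
  (19, 49, 48, 40),
  (38, 54, 53, 21),
  (21, 29, 28, 5),
  (40, 11, 10, 19),
  (21, 6, 5, 38),
  (5, 31, 30, 21),
  (27, 35, 34, 31),
  (28, 38, 5, 30),
  (24, 28, 27, 34),
  (31, 25, 24, 27),
  (30, 54, 21, 28),
  (34, 32, 31, 24),
  (28, 5, 38, 30),
  (10, 19, 19, 48),
  (5, 38, 38, 53),
  (30, 21, 54, 28),
  (34, 31, 32, 24),
  (5, 30, 31, 21),
  (27, 34, 35, 31),
  (24, 27, 28, 34),
  (21, 28, 29, 5),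
  (31, 24, 25, 27),
  (46, 11, 45, 39),
  (58, 55, 30, 1),
  (4, 36, 11, 55),
  (39, 14, 48, 46),
  (54, 28, 29, 38),
  (32, 24, 25, 28),
  (31, 21, 54, 29),
  (35, 31, 32, 25),
  (28, 34, 35, 32),
  (29, 5, 38, 31),
  (25, 27, 28, 35),
  (45, 39, 13, 48),
  (30, 1, 1, 4),
  (11, 55, 55, 23),
  (48, 46, 20, 45),
  (4, 58, 58, 30),
  (23, 4, 4, 11),
  (45, 13, 39, 48),
  (35, 32, 31, 25),
  (38, 31, 30, 54),
  (28, 35, 34, 32),
  (13, 48, 14, 20),
  (1, 4, 29, 58),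
  (55, 23, 48, 4),
  (20, 45, 11, 13),
  (58, 30, 55, 1),
  (4, 11, 36, 55),
  (39, 48, 14, 46),
  (9, 49, 15, 49),
  (46, 45, 11, 39),
  (14, 20, 46, 11),
  (29, 58, 58, 55),
  (48, 4, 4, 36),
  (11, 13, 39, 14),
  (55, 1, 1, 29),
  (36, 55, 55, 48),
  (14, 46, 20, 11),
  (15, 49, 50, 10),
  (11, 39, 13, 14),
  (10, 9, 10, 15),
  (49, 10, 44, 9),
  (1, 29, 4, 58),
  (55, 48, 23, 4),
  (20, 11, 45, 13),
  (50, 10, 44, 10),
  (13, 14, 48, 20),
  (10, 15, 49, 50),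
  (44, 9, 10, 49),
  (49, 49, 50, 44),
  (44, 10, 9, 49),
  (48, 20, 46, 45),
  (49, 50, 49, 44),
  (10, 49, 15, 50),
  (50, 44, 10, 10),
  (0, 1, 58, 0),
  (49, 44, 10, 9),
  (15, 50, 49, 10),
  (10, 10, 9, 15),
  (58, 0, 0, 58),
  (9, 15, 49, 49),
  (0, 58, 1, 0),
  (1, 0, 0, 1)]

theorem list_check : CfsgLib.Perm.nqCheck 59 gens elts = true := by decide +kernel

theorem four_ne_one : (4 : ZMod 59) ≠ 1 := by decide

/-- An exceptional sharply doubly transitive group of degree 59^2: the listed matrices generate a subgroup of GL(2,59) of order 3480 acting regularly on the non-zero vectors. -/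
theorem result (A : Matrix.GeneralLinearGroup (Fin 2) (ZMod 59)) (B : Matrix.GeneralLinearGroup (Fin 2) (ZMod 59)) (C : Matrix.GeneralLinearGroup (Fin 2) (ZMod 59)) (hA : (A : Matrix (Fin 2) (Fin 2) (ZMod 59)) = !![0, -1; 1, 0]) (hB : (B : Matrix (Fin 2) (Fin 2) (ZMod 59)) = !![9, 15; -10, -10]) (hC : (C : Matrix (Fin 2) (Fin 2) (ZMod 59)) = !![4, 0; 0, 4]) : Nat.card (Subgroup.closure ({A, B, C} : Set (Matrix.GeneralLinearGroup (Fin 2) (ZMod 59)))) = 3480 ∧ ∀ v w : Fin 2 → ZMod 59, v ≠ 0 → w ≠ 0 → ∃! h : Subgroup.closure ({A, B, C} : Set (Matrix.GeneralLinearGroup (Fin 2) (ZMod 59))), Matrix.mulVec ((h : Matrix.GeneralLinearGroup (Fin 2) (ZMod 59)) : Matrix (Fin 2) (Fin 2) (ZMod 59)) v = w := by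
  haveI : Fact (Nat.Prime 59) := ⟨by norm_num⟩
  obtain ⟨hN, hfree'⟩ := CfsgLib.Perm.closure_of_nqCheck (p := 59) {A, B} gens elts list_check
    (fun g hg => by
      rcases hg with rfl | rfl
      · exact ⟨(0, 58, 1, 0), by simp [gens], by rw [hA]; simp [CfsgLib.Perm.quadMat, CfsgLib.Perm.nqCast]; try decide⟩
      · exact ⟨(9, 15, 49, 49), by simp [gens], by rw [hB]; simp [CfsgLib.Perm.quadMat, CfsgLib.Perm.nqCast]; try decide⟩)
    (fun t ht => by
      simp only [gens, List.mem_cons, List.not_mem_nil, or_false] at ht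
      rcases ht with rfl | rfl
      · exact ⟨A, by simp, by rw [hA]; simp [CfsgLib.Perm.quadMat, CfsgLib.Perm.nqCast]; try decide⟩
      · exact ⟨B, by simp, by rw [hB]; simp [CfsgLib.Perm.quadMat, CfsgLib.Perm.nqCast]; try decide⟩)
  set K := Subgroup.closure ({A, B} : Set (Matrix.GeneralLinearGroup (Fin 2) (ZMod 59))) with hK
  have hKcard : Nat.card K = 120 := hN
  have hC' : (C : Matrix (Fin 2) (Fin 2) (ZMod 59)) = (4 : ZMod 59) • 1 := by
    rw [hC]; simp [Matrix.one_fin_two]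
  have hCpow : ∀ i : ℕ, ((C ^ i : Matrix.GeneralLinearGroup (Fin 2) (ZMod 59)) : Matrix (Fin 2) (Fin 2) (ZMod 59)) = (4 : ZMod 59) ^ i • 1 := by
    intro i; rw [Units.val_pow_eq_pow_val, hC', smul_pow, one_pow]
  have hcomm : ∀ g : Matrix.GeneralLinearGroup (Fin 2) (ZMod 59), g * C = C * g := fun g =>
    Units.ext (by rw [Units.val_mul, Units.val_mul, hC']; simp)
  have h4 : orderOf C = 29 := by
    haveI : Fact (Nat.Prime 29) := ⟨by norm_num⟩
    refine orderOf_eq_prime (Units.ext ?_) fun h => ?_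
    · rw [hCpow, show (4 : ZMod 59) ^ 29 = 1 from rfl, one_smul, Units.val_one]
    · have h1 : (C : Matrix (Fin 2) (Fin 2) (ZMod 59)) 0 0 = (1 : Matrix (Fin 2) (Fin 2) (ZMod 59)) 0 0 := by
        rw [h, Units.val_one]
      rw [hC, Matrix.one_apply_eq] at h1
      exact four_ne_one (by simpa using h1)
  set H := Subgroup.closure ({A, B, C} : Set (Matrix.GeneralLinearGroup (Fin 2) (ZMod 59))) with hH
  have hfreeC : ∀ (i : ℕ) (v : Fin 2 → ZMod 59), v ≠ 0 →
      Matrix.mulVec ((C ^ i : Matrix.GeneralLinearGroup (Fin 2) (ZMod 59)) : Matrix (Fin 2) (Fin 2) (ZMod 59)) v = v → C ^ i = 1 := by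
    intro i v hv h
    rw [hCpow, Matrix.smul_mulVec, Matrix.one_mulVec] at h
    have h1 : ((4 : ZMod 59) ^ i - 1) • v = 0 := by rw [sub_smul, one_smul, h, sub_self]
    have h2 := sub_eq_zero.mp ((smul_eq_zero.mp h1).resolve_right hv)
    exact Units.ext (by rw [hCpow, h2, one_smul, Units.val_one])
  let φ : K × Subgroup.zpowers C →* Matrix.GeneralLinearGroup (Fin 2) (ZMod 59) :=
    { toFun := fun x => (x.1 : Matrix.GeneralLinearGroup (Fin 2) (ZMod 59)) * x.2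
      map_one' := by simp
      map_mul' := fun x y => by
        obtain ⟨i, hi⟩ := Subgroup.mem_zpowers_iff.mp x.2.2
        have hc : Commute (y.1 : Matrix.GeneralLinearGroup (Fin 2) (ZMod 59)) (x.2 : Matrix.GeneralLinearGroup (Fin 2) (ZMod 59)) := by
          rw [← hi]; exact Commute.zpow_right (hcomm _) i
        simp only [Prod.fst_mul, Prod.snd_mul, Subgroup.coe_mul, mul_assoc]
        rw [← mul_assoc (y.1 : Matrix.GeneralLinearGroup (Fin 2) (ZMod 59)), hc.eq, mul_assoc] }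
  have hrange : φ.range = H := by
    apply le_antisymm
    · rintro _ ⟨x, rfl⟩
      refine mul_mem (Subgroup.closure_mono (by intro z hz; rcases hz with rfl | rfl <;> simp) x.1.2) ?_
      exact (Subgroup.zpowers_le.mpr (Subgroup.subset_closure (by simp))) x.2.2
    · rw [hH, Subgroup.closure_le]
      rintro g (rfl | rfl | rfl)
      · exact ⟨(⟨g, Subgroup.subset_closure (by simp)⟩, 1), by simp [φ]⟩
      · exact ⟨(⟨g, Subgroup.subset_closure (by simp)⟩, 1), by simp [φ]⟩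
      · exact ⟨(1, ⟨g, Subgroup.mem_zpowers g⟩), by simp [φ]⟩
  have hkey : ∀ (x : K × Subgroup.zpowers C) (v : Fin 2 → ZMod 59), v ≠ 0 →
      Matrix.mulVec ((φ x : Matrix.GeneralLinearGroup (Fin 2) (ZMod 59)) : Matrix (Fin 2) (Fin 2) (ZMod 59)) v = v → x = 1 := by
    intro x v hv hfix
    obtain ⟨i, hi⟩ := (mem_powers_iff_mem_zpowers (x := C)).mpr x.2.2
    have hpow : ∀ n : ℕ, Matrix.mulVec (((φ x) ^ n : Matrix.GeneralLinearGroup (Fin 2) (ZMod 59)) : Matrix (Fin 2) (Fin 2) (ZMod 59)) v = v := by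
      intro n
      induction n with
      | zero => rw [pow_zero, Units.val_one, Matrix.one_mulVec]
      | succ n IH => rw [pow_succ, Units.val_mul, ← Matrix.mulVec_mulVec, hfix, IH]
    have hk : x.1 ^ 120 = 1 := by rw [← hKcard]; exact pow_card_eq_one'
    have h120 : (φ x) ^ 120 = C ^ (i * 120) := by
      have hx2 : x.2 ^ 120 = ⟨C ^ (i * 120), pow_mem (Subgroup.mem_zpowers C) _⟩ :=
        Subtype.ext (by rw [Subgroup.coe_pow, ← hi, ← pow_mul])
      rw [← map_pow, show x ^ 120 = (x.1 ^ 120, x.2 ^ 120) from rfl, hk, hx2]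
      exact one_mul _
    have h1 := hfreeC (i * 120) v hv (h120 ▸ hpow 120)
    rw [← orderOf_dvd_iff_pow_eq_one, h4] at h1
    have h2 : 29 ∣ i := (Nat.Prime.dvd_mul (by norm_num)).mp h1 |>.resolve_right (by norm_num)
    have hx2 : x.2 = 1 := Subtype.ext (by
      rw [Subgroup.coe_one, ← hi]; exact orderOf_dvd_iff_pow_eq_one.mp (h4 ▸ h2))
    have hx1 : x.1 = 1 := Subtype.ext (hfree' _ x.1.2 v hv (by
      have e : φ x = (x.1 : Matrix.GeneralLinearGroup (Fin 2) (ZMod 59)) := by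
        show (x.1 : Matrix.GeneralLinearGroup (Fin 2) (ZMod 59)) * x.2 = _
        rw [hx2, Subgroup.coe_one, mul_one]
      rwa [e] at hfix))
    exact Prod.ext hx1 hx2
  have hinj : Function.Injective φ := by
    rw [injective_iff_map_eq_one]
    intro x hx
    exact hkey x ![1, 0] (by simp) (by rw [hx, Units.val_one, Matrix.one_mulVec])
  have hN : Nat.card H = 3480 := by
    rw [← hrange, ← Nat.card_congr (MonoidHom.ofInjective hinj).toEquiv, Nat.card_prod, hKcard, Nat.card_zpowers, h4]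
  refine ⟨hN, CfsgLib.Perm.existsUnique_mulVec_of_free _ (hN.trans (by rfl)) fun g hg v hv hfix => ?_⟩
  obtain ⟨x, rfl⟩ : g ∈ φ.range := hrange ▸ hg
  rw [hkey x v hv hfix, map_one]

end Cfsg.Agent.S0693
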