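import Cfsg.Statements.S0694
import Mathlib.NumberTheory.Multiplicity
import Mathlib.Data.ZMod.Basic
import Mathlib.FieldTheory.Finite.Basic
import Mathlib.Data.Nat.Totient

set_option autoImplicit false
open Cfsg

namespace Cfsg.Agent.S0694

theorem val_lower {q m s : ℕ} (hq : 2 ≤ q) (hs : s.Prime) (hsd : s ∣ q - 1) (hsm : s ∣ m) (hm : m ≠ 0) :
    padicValNat s (q - 1) + padicValNat s m ≤ padicValNat s (q ^ m - 1) := by
  haveI := Fact.mk hs
  have hsq : ¬ s ∣ q := fun h => hs.not_dvd_one (by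
    have := Nat.dvd_sub h hsd; rwa [Nat.sub_sub_self (by omega)] at this)
  rcases hs.eq_two_or_odd' with rfl | hodd
  · have h1 := padicValNat.pow_two_sub_one (x := q) (by omega) hsq hm (even_iff_two_dvd.mpr hsm)
    have h2 : 1 ≤ padicValNat 2 (q + 1) := one_le_padicValNat_of_dvd (by omega) (by omega)
    omega
  · have h1 := padicValNat.pow_sub_pow hodd (x := q) (y := 1) (by omega) hsd hsq hm
    rw [one_pow] at h1
    omega

theorem val_exact {q m s : ℕ} (hq : 2 ≤ q) (hs : s.Prime) (hsd : s ∣ q - 1) (hm : m ≠ 0)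
    (h4 : s = 2 → 2 ∣ m → 4 ∣ q - 1) :
    padicValNat s (q ^ m - 1) = padicValNat s (q - 1) + padicValNat s m := by
  haveI := Fact.mk hs
  have hsq : ¬ s ∣ q := fun h => hs.not_dvd_one (by
    have := Nat.dvd_sub h hsd; rwa [Nat.sub_sub_self (by omega)] at this)
  rcases hs.eq_two_or_odd' with rfl | hodd
  · by_cases hev : 2 ∣ m
    · have h1 := padicValNat.pow_two_sub_one (x := q) (by omega) hsq hm (even_iff_two_dvd.mpr hev)
      have h4' := h4 rfl hev
      have h2 : padicValNat 2 (q + 1) = 1 := by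
        have e : q + 1 = 2 * ((q + 1) / 2) := by omega
        rw [e, padicValNat.mul (by norm_num) (by omega), padicValNat.self (by norm_num),
          padicValNat.eq_zero_of_not_dvd (by omega)]
      omega
    · have hS : q ^ m - 1 = (q - 1) * ∑ i ∈ Finset.range m, q ^ i := by
        have h := geom_sum_mul_add (q - 1) m
        rw [Nat.sub_add_cancel (by omega : 1 ≤ q)] at h
        rw [← h, Nat.add_sub_cancel, mul_comm]
      have hodd : ¬ 2 ∣ ∑ i ∈ Finset.range m, q ^ i := by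
        intro h
        rw [← ZMod.natCast_eq_zero_iff] at h
        have hq1 : (q : ZMod 2) = 1 := by
          rw [← Nat.cast_one, ZMod.natCast_eq_natCast_iff]; unfold Nat.ModEq; omega
        simp only [Nat.cast_sum, Nat.cast_pow, hq1, one_pow, Finset.sum_const, Finset.card_range, nsmul_one] at h
        exact hev ((ZMod.natCast_eq_zero_iff _ _).mp h)
      have hSne : (∑ i ∈ Finset.range m, q ^ i) ≠ 0 := fun h => hodd (by rw [h]; exact dvd_zero 2)
      rw [hS, padicValNat.mul (by omega) hSne, padicValNat.eq_zero_of_not_dvd hodd, padicValNat.eq_zero_of_not_dvd hev]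
  · have h1 := padicValNat.pow_sub_pow hodd (x := q) (y := 1) (by omega) hsd hsq hm
    rw [one_pow] at h1
    exact h1

theorem modEq_one_iff {q m M : ℕ} (hq : 2 ≤ q) : q ^ m ≡ 1 [MOD M] ↔ M ∣ q ^ m - 1 :=
  ⟨fun h => (Nat.modEq_iff_dvd' (Nat.one_le_pow _ _ (by omega))).mp h.symm,
    fun h => ((Nat.modEq_iff_dvd' (Nat.one_le_pow _ _ (by omega))).mpr h).symm⟩

theorem dvd_of_val_le {A B : ℕ} (hA : A ≠ 0) (hB : B ≠ 0)
    (h : ∀ s : ℕ, s.Prime → s ∣ A → padicValNat s A ≤ padicValNat s B) : A ∣ B := by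
  rw [← Nat.factorization_le_iff_dvd hA hB, Finsupp.le_def]
  intro s
  by_cases hs : s.Prime
  · by_cases hd : s ∣ A
    · rw [Nat.factorization_def _ hs, Nat.factorization_def _ hs]; exact h s hs hd
    · rw [Nat.factorization_eq_zero_of_not_dvd hd]; exact Nat.zero_le _
  · rw [Nat.factorization_eq_zero_of_not_prime _ hs]; exact Nat.zero_le _

theorem gcd_totient_dvd {n r s e : ℕ} (hn : n ≠ 0) (hr : r.Prime) (hs : s.Prime) (hrn : r ∣ n)
    (he : 1 ≤ e) (hle : s ≤ r) (heq : s = r → e ≤ padicValNat r n) :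
    Nat.gcd n (Nat.totient (s ^ e)) ∣ n / r := by
  haveI := Fact.mk hr
  obtain ⟨t, ht⟩ := Nat.gcd_dvd_left n (Nat.totient (s ^ e))
  set g := Nat.gcd n (Nat.totient (s ^ e)) with hg
  have hrt : r ∣ t := by
    by_contra hrt
    have h1 : r ^ padicValNat r n ∣ g * t := ht ▸ pow_padicValNat_dvd
    have h2 : r ^ padicValNat r n ∣ Nat.totient (s ^ e) :=
      ((Nat.Coprime.pow_left _ ((Nat.Prime.coprime_iff_not_dvd hr).mpr hrt)).dvd_of_dvd_mul_right h1).trans (Nat.gcd_dvd_right _ _)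
    rw [Nat.totient_prime_pow hs he] at h2
    have hpos : 1 ≤ padicValNat r n := one_le_padicValNat_of_dvd hn hrn
    have hs1 : ¬ r ∣ s - 1 := fun h => by
      have := Nat.le_of_dvd (by have := hs.two_le; omega) h
      have := hs.two_le
      omega
    have h3 : r ^ padicValNat r n ∣ s ^ (e - 1) :=
      (Nat.Coprime.pow_left _ ((Nat.Prime.coprime_iff_not_dvd hr).mpr hs1)).dvd_of_dvd_mul_right h2
    have h4 : r ∣ s := hr.dvd_of_dvd_pow ((dvd_pow_self r (by omega)).trans h3)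
    obtain rfl := ((Nat.prime_dvd_prime_iff_eq hr hs).mp h4).symm
    have := (Nat.pow_dvd_pow_iff_le_right hr.one_lt).mp h3
    have := heq rfl
    omega
  obtain ⟨u, hu⟩ := hrt
  refine ⟨u, ?_⟩
  rw [ht, hu, mul_comm r u, ← mul_assoc, Nat.mul_div_cancel _ hr.pos]

theorem dvd_pow_div {q n r : ℕ} (hq : 2 ≤ q) (hn : 1 < n) (hdvd : n * (q - 1) ∣ q ^ n - 1)
    (hr : r.Prime) (hrn : r ∣ n) (hmax : ∀ s : ℕ, s.Prime → s ∣ n → ¬ s ∣ q - 1 → s ≤ r)
    (hbad : r ∣ q - 1 → r = 2 ∧ 4 ∣ n ∧ ¬ 4 ∣ q - 1) :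
    n * (q - 1) ∣ q ^ (n / r) - 1 := by
  have hm : n / r ≠ 0 := (Nat.div_pos (Nat.le_of_dvd (by omega) hrn) hr.pos).ne'
  have hpow : 1 < q ^ (n / r) := Nat.one_lt_pow hm (by omega)
  refine dvd_of_val_le (Nat.mul_ne_zero (by omega) (by omega)) (by omega) fun s hs hsA => ?_
  haveI := Fact.mk hs
  rw [padicValNat.mul (by omega) (by omega)]
  by_cases hsn : s ∣ n
  swap
  · rw [padicValNat.eq_zero_of_not_dvd hsn, zero_add]
    have h1 : q - 1 ∣ q ^ (n / r) - 1 := by simpa using Nat.sub_dvd_pow_sub_pow q 1 (n / r)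
    exact (padicValNat_dvd_iff_le (by omega)).mp (pow_padicValNat_dvd.trans h1)
  by_cases hsd : s ∣ q - 1
  · by_cases hsr : s = r
    · subst hsr
      obtain ⟨rfl, h4n, h4d⟩ := hbad hsd
      have hodd : ¬ 2 ∣ q := by omega
      have h1 := padicValNat.pow_two_sub_one (x := q) (n := n / 2) (by omega) hodd hm (even_iff_two_dvd.mpr (by omega))
      have h2 : 2 ≤ padicValNat 2 (q + 1) := (padicValNat_dvd_iff_le (by omega)).mp (by omega)
      have h3 : padicValNat 2 n = padicValNat 2 (n / 2) + 1 := by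
        conv_lhs => rw [← Nat.div_mul_cancel hsn]
        rw [padicValNat.mul hm (by norm_num), padicValNat.self (by norm_num)]
      have h5 : padicValNat 2 (q - 1) = 1 := by
        have e : q - 1 = 2 * ((q - 1) / 2) := by omega
        rw [e, padicValNat.mul (by norm_num) (by omega), padicValNat.self (by norm_num), padicValNat.eq_zero_of_not_dvd (by omega)]
      omega
    · have hsm : s ∣ n / r := by
        rw [← Nat.div_mul_cancel hrn] at hsn
        exact (hs.dvd_mul.mp hsn).resolve_right fun h => hsr ((Nat.prime_dvd_prime_iff_eq hs hr).mp h)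
      have h1 := val_lower hq hs hsd hsm hm
      have h3 : padicValNat s n = padicValNat s (n / r) := by
        conv_lhs => rw [← Nat.div_mul_cancel hrn]
        rw [padicValNat.mul hm hr.ne_zero, padicValNat.eq_zero_of_not_dvd (fun h => hsr ((Nat.prime_dvd_prime_iff_eq hs hr).mp h)), add_zero]
      omega
  · rw [padicValNat.eq_zero_of_not_dvd hsd, add_zero]
    refine (padicValNat_dvd_iff_le (by omega)).mp ((modEq_one_iff hq).mp ?_)
    set e := padicValNat s n with he
    have hse : s ^ e ∣ q ^ n - 1 := (pow_padicValNat_dvd.trans (dvd_mul_right n (q - 1))).trans hdvd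
    have hsq : ¬ s ∣ q := fun h => by
      have he1 : 1 ≤ e := one_le_padicValNat_of_dvd (by omega) hsn
      have h1 : s ∣ q ^ n - 1 := (dvd_pow_self s (by omega)).trans hse
      have h2 := Nat.dvd_sub (dvd_pow h (show n ≠ 0 by omega)) h1
      rw [Nat.sub_sub_self (Nat.one_le_pow _ _ (by omega))] at h2
      exact hs.not_dvd_one h2
    have hco : Nat.Coprime q (s ^ e) := (((Nat.Prime.coprime_iff_not_dvd hs).mpr hsq).symm).pow_right e
    have e1 : ((q : ZMod (s ^ e))) ^ Nat.totient (s ^ e) = 1 := by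
      rw [← Nat.cast_pow, ← Nat.cast_one, ZMod.natCast_eq_natCast_iff]; exact Nat.ModEq.pow_totient hco
    have e2 : ((q : ZMod (s ^ e))) ^ n = 1 := by
      rw [← Nat.cast_pow, ← Nat.cast_one, ZMod.natCast_eq_natCast_iff]; exact (modEq_one_iff hq).mpr hse
    have e3 := pow_gcd_eq_one.mpr ⟨e2, e1⟩
    obtain ⟨u, hu⟩ := gcd_totient_dvd (e := e) (by omega) hr hs hrn (one_le_padicValNat_of_dvd (by omega) hsn)
      (hmax s hs hsn hsd) (fun h => by rw [← h])
    have e4 : ((q : ZMod (s ^ e))) ^ (n / r) = 1 := by rw [hu, pow_mul, e3, one_pow]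
    rwa [← Nat.cast_pow, ← Nat.cast_one, ZMod.natCast_eq_natCast_iff] at e4

/-- The Dickson pair condition: for a prime power `q` and `n > 1`, (every prime factor of `n` divides `q - 1`, and `4 ∣ n → 4 ∣ q - 1`) holds exactly when `q ^ n ≡ 1` modulo `n * (q - 1)` but `q ^ i` is not, for `0 < i < n`. -/
theorem result (q n : ℕ) (hq : IsPrimePow q) (hn : 1 < n) : ((∀ r : ℕ, r.Prime → r ∣ n → r ∣ q - 1) ∧ (4 ∣ n → 4 ∣ q - 1)) ↔ (q ^ n ≡ 1 [MOD n * (q - 1)] ∧ ∀ i : ℕ, 0 < i → i < n → ¬ q ^ i ≡ 1 [MOD n * (q - 1)]) := by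
  have hq2 : 2 ≤ q := hq.two_le
  constructor
  · rintro ⟨hall, h4⟩
    have hpow1 : 1 < q ^ n := Nat.one_lt_pow (by omega) (by omega)
    have hN : q ^ n ≡ 1 [MOD n * (q - 1)] := by
      refine (modEq_one_iff hq2).mpr (dvd_of_val_le (Nat.mul_ne_zero (by omega) (by omega)) (by omega) fun s hs hsA => ?_)
      haveI := Fact.mk hs
      rw [padicValNat.mul (by omega) (by omega)]
      by_cases hsn : s ∣ n
      · have := val_lower hq2 hs (hall s hs hsn) hsn (show n ≠ 0 by omega)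
        omega
      · rw [padicValNat.eq_zero_of_not_dvd hsn, zero_add]
        have h1 : q - 1 ∣ q ^ n - 1 := by simpa using Nat.sub_dvd_pow_sub_pow q 1 n
        exact (padicValNat_dvd_iff_le (by omega)).mp (pow_padicValNat_dvd.trans h1)
    refine ⟨hN, fun i hi hin h => ?_⟩
    have hg : q ^ Nat.gcd n i ≡ 1 [MOD n * (q - 1)] := by
      rw [← ZMod.natCast_eq_natCast_iff, Nat.cast_pow, Nat.cast_one] at hN h ⊢
      exact pow_gcd_eq_one.mpr ⟨hN, h⟩
    have hglt : Nat.gcd n i < n := lt_of_le_of_lt (Nat.le_of_dvd hi (Nat.gcd_dvd_right n i)) hin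
    have hgd := Nat.gcd_dvd_left n i
    generalize Nat.gcd n i = g at hg hglt hgd
    obtain ⟨t, ht⟩ := hgd
    have ht1 : t ≠ 1 := fun h' => by rw [h', mul_one] at ht; omega
    obtain ⟨r, hr, hrt⟩ := Nat.exists_prime_and_dvd ht1
    obtain ⟨u, rfl⟩ := hrt
    have hrn : r ∣ n := ⟨g * u, by rw [ht]; ring⟩
    have hdiv : n / r = g * u := by
      rw [Nat.div_eq_of_eq_mul_left hr.pos]
      rw [ht]; ring
    have hm : q ^ (n / r) ≡ 1 [MOD n * (q - 1)] := by
      rw [hdiv, pow_mul]; simpa using hg.pow u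
    have hm0 : n / r ≠ 0 := (Nat.div_pos (Nat.le_of_dvd (by omega) hrn) hr.pos).ne'
    have hpow2 : 1 < q ^ (n / r) := Nat.one_lt_pow hm0 (by omega)
    haveI := Fact.mk hr
    have hle := (padicValNat_dvd_iff_le (p := r) (by omega : q ^ (n / r) - 1 ≠ 0)).mp ((pow_padicValNat_dvd (p := r) (n := n * (q - 1))).trans ((modEq_one_iff hq2).mp hm))
    rw [padicValNat.mul (by omega) (by omega), val_exact hq2 hr (hall r hr hrn) hm0 (fun h2 h2m => h4 (by
      subst h2
      have := Nat.div_mul_cancel hrn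
      omega))] at hle
    have h3 : padicValNat r n = padicValNat r (n / r) + 1 := by
      conv_lhs => rw [← Nat.div_mul_cancel hrn]
      rw [padicValNat.mul hm0 hr.ne_zero, padicValNat.self hr.one_lt]
    omega
  · rintro ⟨hN, hmin⟩
    have hdvd := (modEq_one_iff hq2).mp hN
    have key : ∀ r : ℕ, r.Prime → r ∣ n → (∀ s : ℕ, s.Prime → s ∣ n → ¬ s ∣ q - 1 → s ≤ r) →
        (r ∣ q - 1 → r = 2 ∧ 4 ∣ n ∧ ¬ 4 ∣ q - 1) → False := fun r hr hrn hmax hbad =>
      hmin (n / r) (Nat.div_pos (Nat.le_of_dvd (by omega) hrn) hr.pos) (Nat.div_lt_self (by omega) hr.one_lt)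
        ((modEq_one_iff hq2).mpr (dvd_pow_div hq2 hn hdvd hr hrn hmax hbad))
    have hall : ∀ r : ℕ, r.Prime → r ∣ n → r ∣ q - 1 := by
      by_contra h
      push Not at h
      obtain ⟨r, hr1, hr2, hr3⟩ := h
      let S := n.primeFactors.filter fun s => ¬ s ∣ q - 1
      have hne : S.Nonempty := ⟨r, Finset.mem_filter.mpr ⟨Nat.mem_primeFactors.mpr ⟨hr1, hr2, by omega⟩, hr3⟩⟩
      have hmem := Finset.mem_filter.mp (S.max'_mem hne)
      exact key _ (Nat.prime_of_mem_primeFactors hmem.1) (Nat.dvd_of_mem_primeFactors hmem.1)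
        (fun s hs hsn hsd => S.le_max' s (Finset.mem_filter.mpr ⟨Nat.mem_primeFactors.mpr ⟨hs, hsn, by omega⟩, hsd⟩))
        (fun h' => absurd h' hmem.2)
    refine ⟨hall, fun h4n => ?_⟩
    by_contra h4d
    exact key 2 Nat.prime_two ((dvd_mul_right 2 2).trans h4n) (fun s hs hsn hsd => absurd (hall s hs hsn) hsd)
      (fun _ => ⟨rfl, h4n, h4d⟩)

end Cfsg.Agent.S0694
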