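import Cfsg.Statements.S0698
import Cfsg.Agent.Lib.Perm.NormalMulti
import Mathlib.GroupTheory.SpecificGroups.Alternating.Simple

set_option autoImplicit false
open Cfsg

namespace Cfsg.Agent.S0698

/-- Jordan's Theorem on normal subgroups of multiply transitive groups: if `G` is `k`-transitive (`k > 1`) of degree greater than `k`, a non-trivial normal subgroup is `(k-1)`-transitive, except possibly for `k = 3` when it may be an elementary abelian 2-group. -/
theorem result {α : Type*} [Fintype α] [DecidableEq α] (G : Subgroup (Equiv.Perm α)) {k : ℕ} (hk : 1 < k) (hdeg : k < Fintype.card α) (hG : MulAction.IsMultiplyPretransitive G α k) (N : Subgroup G) [N.Normal] (hN : N ≠ ⊥) : MulAction.IsMultiplyPretransitive N α (k - 1) ∨ (k = 3 ∧ IsMulCommutative N ∧ ∀ n ∈ N, n ^ 2 = 1) := by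
  classical
  haveI : FaithfulSMul G α := ⟨fun {g k} h => Subtype.ext (Equiv.ext h)⟩
  obtain ⟨j, rfl⟩ : ∃ j, k = j + 1 := ⟨k - 1, by omega⟩
  rw [Nat.add_sub_cancel]
  haveI := hG
  have hn : Nat.card α = Fintype.card α := Nat.card_eq_fintype_card
  have hE : ((j + 1 : ℕ) : ℕ∞) ≤ ENat.card α := by
    rw [ENat.card_eq_coe_natCard, hn]; exact_mod_cast hdeg.le
  have hP : MulAction.IsMultiplyPreprimitive G α j :=
    MulAction.isMultiplyPreprimitive_of_isMultiplyPretransitive_succ G α hE
  have hEj : ((j : ℕ) : ℕ∞) ≤ ENat.card α := le_trans (by exact_mod_cast Nat.le_succ j) hE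
  by_cases hnr : ∃ a : α, MulAction.stabilizer N a ≠ ⊥
  · left
    by_cases htop : 3 ≤ j ∧ G = ⊤
    · obtain ⟨hj, rfl⟩ := htop
      let N' : Subgroup (Equiv.Perm α) := N.map (Subgroup.subtype ⊤)
      haveI : N'.Normal := by
        constructor
        rintro _ ⟨x, hx, rfl⟩ g
        exact ⟨⟨g, trivial⟩ * x * ⟨g, trivial⟩⁻¹, Subgroup.Normal.conj_mem inferInstance x hx _, rfl⟩
      have hnt : Nontrivial N' := by
        rw [Subgroup.nontrivial_iff_ne_bot]
        intro e
        exact hN ((Subgroup.map_eq_bot_iff_of_injective _ (Subgroup.subtype_injective _)).mp e)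
      have hA := Equiv.Perm.alternatingGroup_le_of_normal (by rw [hn]; omega) hnt
      haveI := alternatingGroup.isMultiplyPretransitive α
      have hAt : MulAction.IsMultiplyPretransitive (alternatingGroup α) α j :=
        MulAction.isMultiplyPretransitive_of_le (n := Nat.card α - 2) (by rw [hn]; omega) (Nat.sub_le _ _)
      constructor
      intro x y
      obtain ⟨g, hg⟩ := hAt.exists_smul_eq x y
      obtain ⟨m, hm, hme⟩ := hA g.2
      refine ⟨⟨m, hm⟩, ?_⟩
      ext i
      have := congrArg (fun z : Fin j ↪ α => z i) hg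
      show (m : Equiv.Perm α) (x i) = y i
      rw [show (m : Equiv.Perm α) = (g : Equiv.Perm α) from hme]
      exact this
    · refine CfsgLib.Perm.normal_isMultiplyPretransitive j (by rw [hn]; omega) hP N inferInstance hN
        (fun _ => hnr) fun hj hfull => htop ⟨hj, ?_⟩
      apply Equiv.Perm.eq_top_of_isMultiplyPretransitive
      exact MulAction.isMultiplyPretransitive_of_le (n := Nat.card α) (Nat.sub_le _ _) le_rfl
  · push Not at hnr
    rcases Nat.lt_or_ge j 2 with hj | hj
    · left
      obtain rfl : j = 1 := by omega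
      haveI := (MulAction.is_one_preprimitive_iff G α).mp hP
      exact MulAction.is_one_pretransitive_iff.mpr (CfsgLib.Perm.normal_isPretransitive hN)
    haveI : MulAction.IsPreprimitive G α :=
      (MulAction.is_one_preprimitive_iff G α).mp (MulAction.isMultiplyPreprimitive_of_le G α hP (by omega) hEj)
    have hNt : MulAction.IsPretransitive N α := CfsgLib.Perm.normal_isPretransitive hN
    rcases Nat.lt_or_ge j 3 with hj3 | hj3
    · right
      obtain rfl : j = 2 := by omega
      rcases CfsgLib.Perm.regular_normal_two_primitive (by rw [hn]; omega) hP hNt hnr with h | ⟨hc, hsq, -⟩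
      · omega
      · exact ⟨rfl, hc, hsq⟩
    · exfalso
      have := CfsgLib.Perm.regular_normal_three_primitive (by rw [hn]; omega)
        (MulAction.isMultiplyPreprimitive_of_le G α hP hj3 hEj) hNt hnr
      omega

end Cfsg.Agent.S0698
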