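import Cfsg.Statements.S0705
import Cfsg.Agent.Lib.Perm.Multi
import Mathlib.GroupTheory.Perm.ViaEmbedding

set_option autoImplicit false
open scoped Pointwise
open Cfsg

namespace Cfsg.Agent.S0705

theorem aux (k : ℕ) : ∀ {H X : Type*} [Group H] [MulAction H X] [Finite X],
    k < Nat.card X →
    (∀ s : Finset X, s.card = k + 1 → ∀ σ : Equiv.Perm ↥s, ∃ g : H, ∀ x : ↥s, g • (x : X) = σ x) →
    MulAction.IsMultiplyPretransitive H X k := by
  induction k with
  | zero => intros; exact MulAction.is_zero_pretransitive'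
  | succ k ih =>
    intro H X _ _ _ hlt h
    classical
    have := Fintype.ofFinite X
    have ht : MulAction.IsPretransitive H X := by
      constructor
      intro a b
      obtain ⟨s, hs, -, hcard⟩ := Finset.exists_subsuperset_card_eq (Finset.subset_univ ({a, b} : Finset X))
        (le_trans Finset.card_le_two (by omega : 2 ≤ k + 1 + 1))
        (by rw [Finset.card_univ, ← Nat.card_eq_fintype_card]; omega)
      obtain ⟨g, hg⟩ := h s hcard (Equiv.swap ⟨a, hs (by simp)⟩ ⟨b, hs (by simp)⟩)
      exact ⟨g, by have := hg ⟨a, hs (by simp)⟩; simpa using this⟩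
    obtain ⟨a⟩ : Nonempty X := (Nat.card_pos_iff.mp (by omega)).1
    apply CfsgLib.Perm.isMultiplyPretransitive_succ a
    have := SubMulAction.nat_card_ofStabilizer_add_one_eq H a
    refine ih (H := MulAction.stabilizer H a) (X := SubMulAction.ofStabilizer H a) (by omega) ?_
    intro s hs σ
    have hna : a ∉ s.map (Function.Embedding.subtype _) := by
      simp only [Finset.mem_map, not_exists, not_and]
      intro x _ e
      exact x.2 (Set.mem_singleton_iff.mpr e)
    let S : Finset X := insert a (s.map (Function.Embedding.subtype _))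
    have hS : S.card = k + 1 + 1 := by rw [Finset.card_insert_of_notMem hna, Finset.card_map, hs]
    let ι : ↥s → ↥S := fun x => ⟨((x : SubMulAction.ofStabilizer H a) : X),
      Finset.mem_insert_of_mem (Finset.mem_map.mpr ⟨x, x.2, rfl⟩)⟩
    have hι : Function.Injective ι := fun x y e => Subtype.ext (Subtype.ext (congrArg (Subtype.val : ↥S → X) e))
    let τ : Equiv.Perm ↥S := Equiv.Perm.viaEmbedding σ ⟨ι, hι⟩
    obtain ⟨g, hg⟩ := h S hS τ
    have hga : g ∈ MulAction.stabilizer H a := by
      have hnot : (⟨a, Finset.mem_insert_self _ _⟩ : ↥S) ∉ Set.range ι := by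
        rintro ⟨x, e⟩
        exact (x : SubMulAction.ofStabilizer H a).2 (Set.mem_singleton_iff.mpr (congrArg Subtype.val e))
      have h1 := hg ⟨a, Finset.mem_insert_self _ _⟩
      have h2 : τ ⟨a, Finset.mem_insert_self _ _⟩ = ⟨a, Finset.mem_insert_self _ _⟩ :=
        Equiv.Perm.viaEmbedding_apply_of_notMem σ ⟨ι, hι⟩ _ hnot
      rw [h2] at h1
      exact h1
    refine ⟨⟨g, hga⟩, fun x => Subtype.ext ?_⟩
    have h1 := hg (ι x)
    have h2 : τ (ι x) = ι (σ x) := Equiv.Perm.viaEmbedding_apply σ ⟨ι, hι⟩ x
    rw [h2] at h1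
    exact h1

/-- A generously `k`-transitive permutation group (every `(k+1)`-subset has its full symmetric group induced by the setwise stabiliser) of degree greater than `k` is `k`-transitive, and for a `k`-subset the setwise and pointwise stabilisers have the same orbits outside it. -/
theorem result {α : Type*} [Fintype α] [DecidableEq α] (G : Subgroup (Equiv.Perm α)) {k : ℕ} (hk : k < Fintype.card α) (hgen : ∀ s : Finset α, s.card = k + 1 → ∀ σ : Equiv.Perm ↥s, ∃ g ∈ G, ∀ x : ↥s, g (x : α) = σ x) : MulAction.IsMultiplyPretransitive G α k ∧ ∀ s : Finset α, s.card = k → ∀ a b : α, a ∉ s → b ∉ s → (∃ g ∈ G, g • s = s ∧ g a = b) → ∃ g ∈ G, (∀ x ∈ s, g x = x) ∧ g a = b := by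
  refine ⟨aux k (H := G) (X := α) (by rw [Nat.card_eq_fintype_card]; exact hk) ?_, ?_⟩
  · intro s hs σ
    obtain ⟨g, hg, hgs⟩ := hgen s hs σ
    exact ⟨⟨g, hg⟩, hgs⟩
  · rintro s hs a b ha - ⟨g, hg, hgs, hgab⟩
    have hmem : ∀ x ∈ s, g x ∈ s := fun x hx => by
      have h1 := Finset.smul_mem_smul_finset (a := g) hx
      rw [hgs] at h1
      exact h1
    let f : ↥(insert a s) → ↥(insert a s) := fun x =>
      if hx : (x : α) = a then x else
        ⟨g x, Finset.mem_insert_of_mem (hmem x ((Finset.mem_insert.mp x.2).resolve_left hx))⟩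
    have hf : Function.Injective f := by
      intro x y e
      simp only [f] at e
      split_ifs at e with h1 h2 h2
      · exact e
      · have h' : (x : α) = g y := congrArg Subtype.val e
        rw [h1] at h'
        exact absurd (h' ▸ hmem y ((Finset.mem_insert.mp y.2).resolve_left h2)) ha
      · have h' : g x = (y : α) := congrArg Subtype.val e
        rw [h2] at h'
        exact absurd (h' ▸ hmem x ((Finset.mem_insert.mp x.2).resolve_left h1)) ha
      · exact Subtype.ext (g.injective (congrArg Subtype.val e))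
    obtain ⟨h, hh, hhx⟩ := hgen (insert a s) (by rw [Finset.card_insert_of_notMem ha, hs])
      (Equiv.ofBijective f (Finite.injective_iff_bijective.mp hf))
    have hha : h a = a := by
      have h1 := hhx ⟨a, Finset.mem_insert_self a s⟩
      simpa [f] using h1
    have hhs : ∀ x ∈ s, h x = g x := by
      intro x hx
      have h1 := hhx ⟨x, Finset.mem_insert_of_mem hx⟩
      have hne : x ≠ a := fun e => ha (e ▸ hx)
      simpa [f, hne] using h1
    refine ⟨g * h⁻¹, mul_mem hg (inv_mem hh), fun x hx => ?_, ?_⟩
    · obtain ⟨y, hy, rfl⟩ : ∃ y ∈ s, g y = x := by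
        rw [← hgs] at hx
        obtain ⟨y, hy, e⟩ := Finset.mem_smul_finset.mp hx
        exact ⟨y, hy, e⟩
      simp only [Equiv.Perm.mul_apply]
      rw [show h⁻¹ (g y) = y by rw [← hhs y hy]; simp]
    · simp only [Equiv.Perm.mul_apply]
      rw [show h⁻¹ a = a by conv_lhs => rw [← hha]
                            simp]
      exact hgab

end Cfsg.Agent.S0705
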