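import Cfsg.Statements.S0706
import Cfsg.Agent.S0705
import Mathlib.GroupTheory.Sylow
import Mathlib.GroupTheory.Perm.Support
import Mathlib.GroupTheory.PGroup
import Mathlib.GroupTheory.Perm.Cycle.Basic
import Mathlib.GroupTheory.Perm.Fin

set_option autoImplicit false
open Cfsg

namespace Cfsg.Agent.S0706

open scoped Pointwise

/-- In a generously `k`-transitive permutation group, for a prime `p ≤ k` and a `k`-set `Γ`, there are no `p` points outside `Γ` lying in distinct orbits of the pointwise stabiliser of `Γ` all of length prime to `p` (at most `p - 1` such orbits). -/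
theorem result {α : Type*} [Fintype α] [DecidableEq α] (G : Subgroup (Equiv.Perm α)) {k : ℕ} (hk : k < Fintype.card α) (hgen : ∀ s : Finset α, s.card = k + 1 → ∀ σ : Equiv.Perm ↥s, ∃ g ∈ G, ∀ x : ↥s, g (x : α) = σ x) {p : ℕ} (hp : p.Prime) (hpk : p ≤ k) (Γ : Finset α) (hΓ : Γ.card = k) (f : Fin p → α) (hf : ∀ i, f i ∉ Γ) (hdist : ∀ i j, i ≠ j → f j ∉ MulAction.orbit (fixingSubgroup G (Γ : Set α)) (f i)) : ∃ i, p ∣ Nat.card (MulAction.orbit (fixingSubgroup G (Γ : Set α)) (f i)) := by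
  classical
  haveI : Fact p.Prime := ⟨hp⟩
  by_contra hcon
  push Not at hcon
  set K := fixingSubgroup G (Γ : Set α) with hK
  obtain ⟨htrans, hsame⟩ := Cfsg.Agent.S0705.result G hk hgen
  obtain ⟨P⟩ : Nonempty (Sylow p K) := inferInstance
  -- fixed points of `P` in every orbit
  let O : Fin p → SubMulAction K α := fun i =>
    { carrier := MulAction.orbit K (f i)
      smul_mem' := fun g x hx => by
        obtain ⟨m, rfl⟩ := hx
        exact ⟨g * m, mul_smul g m (f i)⟩ }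
  have hOcard : ∀ i, ¬ p ∣ Nat.card (O i) := hcon
  have hfixne : ∀ i, ∃ y : α, y ∈ MulAction.orbit K (f i) ∧ ∀ u : (P : Subgroup K), (u : K) • y = y := by
    intro i
    obtain ⟨y, hy⟩ := P.2.nonempty_fixed_point_of_prime_not_dvd_card (O i) (hOcard i)
    exact ⟨y, y.2, fun u => congrArg Subtype.val (hy u)⟩
  have hp0 : 0 < p := hp.pos
  have hout : ∀ i x, x ∈ MulAction.orbit K (f i) → x ∉ Γ := by
    rintro i _ ⟨m, rfl⟩ hmem
    apply hf i
    have h1 := (mem_fixingSubgroup_iff G).mp m.2 _ hmem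
    exact MulAction.injective (m : G) h1 ▸ hmem
  obtain ⟨y₀, hy₀, hy₀fix⟩ := hfixne ⟨0, hp0⟩
  have hy₀Γ : y₀ ∉ Γ := hout _ y₀ hy₀
  -- an element inducing a p-cycle on Γ
  obtain ⟨Δ, hΔΓ, hΔ⟩ := Finset.exists_subset_card_eq (s := Γ) (n := p) (by omega)
  let e : ↥Δ ≃ Fin p := Δ.equivFinOfCardEq hΔ
  let c : Equiv.Perm ↥Δ := e.trans ((finRotate p).trans e.symm)
  have hcne : ∀ x, c x ≠ x := by
    intro x h
    have h1 : finRotate p (e x) = e x := by
      have := congrArg e h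
      simpa [c] using this
    obtain ⟨m, rfl⟩ : ∃ m, p = m + 1 := ⟨p - 1, by omega⟩
    rw [finRotate_succ_apply, add_eq_left] at h1
    have := congrArg Fin.val h1
    rw [Fin.val_one', Fin.val_zero, Nat.mod_eq_of_lt (by have := hp.two_le; omega)] at this
    omega
  let S : Finset α := insert y₀ Γ
  let ι : ↥Δ ↪ ↥S := ⟨fun x => ⟨x, Finset.mem_insert_of_mem (hΔΓ x.2)⟩,
    fun x y h => Subtype.ext (congrArg (fun z : ↥S => (z : α)) h)⟩
  obtain ⟨g₀, hg₀, hg₀S⟩ := hgen S (by rw [Finset.card_insert_of_notMem hy₀Γ, hΓ]) (Equiv.Perm.viaEmbedding c ι)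
  have hcΔ : ∀ x : ↥Δ, g₀ (x : α) = (c x : α) := by
    intro x
    have h := hg₀S (ι x)
    rw [Equiv.Perm.viaEmbedding_apply] at h
    exact h
  have hother : ∀ x ∈ S, x ∉ Δ → g₀ x = x := by
    intro x hx hxΔ
    have h := hg₀S ⟨x, hx⟩
    rw [Equiv.Perm.viaEmbedding_apply_of_notMem] at h
    · exact h
    · rintro ⟨z, hz⟩
      have hzx : (z : α) = x := congrArg (fun w : ↥S => (w : α)) hz
      exact hxΔ (hzx ▸ z.2)
  have hy₀g : g₀ y₀ = y₀ := hother y₀ (Finset.mem_insert_self _ _) (fun h => hy₀Γ (hΔΓ h))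
  have hΓg : ∀ x ∈ Γ, g₀ x ∈ Γ := by
    intro x hx
    by_cases hxΔ : x ∈ Δ
    · rw [hcΔ ⟨x, hxΔ⟩]; exact hΔΓ (c ⟨x, hxΔ⟩).2
    · rwa [hother x (Finset.mem_insert_of_mem hx) hxΔ]
  let g₀' : G := ⟨g₀, hg₀⟩
  -- Frattini: correct `g₀` to normalise `P`
  let P' : Subgroup G := (P : Subgroup K).map K.subtype
  have hinvΓ : ∀ x ∈ Γ, ∃ x' ∈ Γ, g₀ x' = x := by
    intro x hx
    have himg : Γ.image g₀ = Γ := Finset.eq_of_subset_of_card_le
      (fun z hz => by obtain ⟨w, hw, rfl⟩ := Finset.mem_image.mp hz; exact hΓg w hw)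
      (by rw [Finset.card_image_of_injective _ g₀.injective])
    rw [← himg] at hx
    exact Finset.mem_image.mp hx
  let S' : Subgroup K := ((P : Subgroup K).map K.subtype |>.map (MulAut.conj g₀' : G ≃* G).toMonoidHom).subgroupOf K
  have hconjK : ∀ u : K, g₀' * u * g₀'⁻¹ ∈ K := by
    intro u
    refine (mem_fixingSubgroup_iff G).mpr ?_
    intro x hx
    obtain ⟨x', hx', rfl⟩ := hinvΓ x hx
    show g₀ ((u : G).1 (g₀⁻¹ (g₀ x'))) = g₀ x'
    simp only [Equiv.Perm.inv_def, Equiv.symm_apply_apply]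
    exact congrArg g₀ ((mem_fixingSubgroup_iff G).mp u.2 x' hx')
  have hS'le : ((P : Subgroup K).map K.subtype |>.map (MulAut.conj g₀' : G ≃* G).toMonoidHom) ≤ K := by
    rintro _ ⟨_, ⟨u, -, rfl⟩, rfl⟩
    exact hconjK u
  have hPcard : Nat.card P' = Nat.card (P : Subgroup K) :=
    (Nat.card_congr ((P : Subgroup K).equivMapOfInjective _ K.subtype_injective).toEquiv).symm
  have hS'card : Nat.card S' = p ^ (Nat.card K).factorization p := by
    rw [← Sylow.card_eq_multiplicity P, ← hPcard]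
    exact (Nat.card_congr (Subgroup.subgroupOfEquivOfLe hS'le).toEquiv).trans
      (Nat.card_congr (P'.equivMapOfInjective _ (MulAut.conj g₀').injective).toEquiv).symm
  obtain ⟨k₁, hk₁⟩ := MulAction.exists_smul_eq K P (Sylow.ofCard S' hS'card)
  set g₁ : G := (k₁ : G)⁻¹ * g₀' with hg₁
  have hg₁N : g₁ ∈ Subgroup.normalizer (P' : Set G) := by
    have hmem : ∀ u : G, u ∈ P' → g₁ * u * g₁⁻¹ ∈ P' := by
      rintro _ ⟨u, hu, rfl⟩
      have h1 : (⟨g₀' * u * g₀'⁻¹, hconjK u⟩ : K) ∈ S' := by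
        rw [Subgroup.mem_subgroupOf]
        exact ⟨(u : G), ⟨u, hu, rfl⟩, rfl⟩
      have h2 : (⟨g₀' * u * g₀'⁻¹, hconjK u⟩ : K) ∈ ((k₁ • P : Sylow p K) : Subgroup K) := by
        rw [hk₁]; exact h1
      rw [Sylow.coe_subgroup_smul, Subgroup.mem_pointwise_smul_iff_inv_smul_mem] at h2
      refine ⟨_, h2, ?_⟩
      simp only [hg₁, MulAut.smul_def, Subgroup.coe_subtype]
      simp [mul_assoc]
    rw [Subgroup.mem_normalizer_iff]
    intro u
    refine ⟨hmem u, fun hu => ?_⟩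
    have hfin : Function.Surjective (fun v : P' => (⟨g₁ * v * g₁⁻¹, hmem v v.2⟩ : P')) :=
      Finite.surjective_of_injective fun v w e => Subtype.ext
        (mul_left_cancel (mul_right_cancel (congrArg (fun z : P' => (z : G)) e)))
    obtain ⟨v, hv⟩ := hfin ⟨_, hu⟩
    have := congrArg (fun z : P' => (z : G)) hv
    simp only at this
    rw [← mul_left_cancel (mul_right_cancel this)]
    exact v.2
  have hg₁Γ : ∀ x ∈ Γ, (g₁ : Equiv.Perm α) x = g₀ x := by
    intro x hx
    show (((k₁⁻¹ : K) : G) • g₀ x) = g₀ x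
    exact (mem_fixingSubgroup_iff G).mp (k₁⁻¹).2 _ (hΓg x hx)
  -- make it a p-element
  set m := ordCompl[p] (orderOf g₁) with hm
  set g := g₁ ^ m with hg
  have hpm : ¬ p ∣ m := Nat.not_dvd_ordCompl hp (orderOf_pos g₁).ne'
  have hgN : g ∈ Subgroup.normalizer (P' : Set G) := Subgroup.pow_mem _ hg₁N m
  have hgp : IsPGroup p (Subgroup.zpowers g) := by
    intro x
    refine ⟨(orderOf g₁).factorization p, ?_⟩
    obtain ⟨n, hn⟩ := Subgroup.mem_zpowers_iff.mp x.2
    apply Subtype.ext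
    rw [SubmonoidClass.coe_pow, ← hn]
    show (g ^ n) ^ (p ^ _) = 1
    rw [← zpow_natCast, ← zpow_mul, mul_comm, zpow_mul, zpow_natCast, hg, ← pow_mul, hm, mul_comm,
      Nat.ordProj_mul_ordCompl_eq_self, pow_orderOf_eq_one, one_zpow]
  have hfixg₁ : ∀ x ∈ Γ, x ∉ Δ → (g₁ : Equiv.Perm α) x = x := fun x hx hxΔ => by
    rw [hg₁Γ x hx, hother x (Finset.mem_insert_of_mem hx) hxΔ]
  have hcg : ∀ (n : ℕ) (x : ↥Δ), ((g₁ : Equiv.Perm α) ^ n) x = ((c ^ n) x : α) := by
    intro n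
    induction n with
    | zero => intro x; rfl
    | succ n ih =>
      intro x
      rw [pow_succ', Equiv.Perm.mul_apply, ih, hg₁Γ _ (hΔΓ ((c ^ n) x).2), hcΔ]
      rw [pow_succ', Equiv.Perm.mul_apply]
  have hgΓ : ∀ x ∈ Γ, x ∉ Δ → (g : Equiv.Perm α) x = x := by
    intro x hx hxΔ
    have : ∀ n : ℕ, ((g₁ : Equiv.Perm α) ^ n) x = x := by
      intro n
      induction n with
      | zero => rfl
      | succ n ih => rw [pow_succ', Equiv.Perm.mul_apply, ih, hfixg₁ x hx hxΔ]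
    rw [hg, SubmonoidClass.coe_pow]; exact this m
  have hgmove : ∃ x ∈ Δ, (g : Equiv.Perm α) x ≠ x := by
    obtain ⟨x, hx⟩ := Finset.card_pos.mp (show 0 < Δ.card by omega)
    refine ⟨x, hx, fun h => ?_⟩
    rw [hg, SubmonoidClass.coe_pow, hcg m ⟨x, hx⟩] at h
    have h' : (c ^ m) ⟨x, hx⟩ = ⟨x, hx⟩ := Subtype.ext h
    have hcp : c ^ p = 1 := by
      have hrot : finRotate p ^ p = 1 := by
        obtain ⟨q, rfl⟩ : ∃ q, p = q + 2 := ⟨p - 2, by have := hp.two_le; omega⟩
        have hco : orderOf (finRotate (q + 2)) = q + 2 := by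
          rw [(isCycle_finRotate).orderOf, support_finRotate, Finset.card_fin]
        conv_lhs => arg 2; rw [← hco]
        exact pow_orderOf_eq_one _
      have hcq : ∀ (n : ℕ) (z : ↥Δ), (c ^ n) z = e.symm ((finRotate p ^ n) (e z)) := by
        intro n
        induction n with
        | zero => intro z; simp
        | succ n ih => intro z; rw [pow_succ', Equiv.Perm.mul_apply, ih]; simp [c, pow_succ']
      ext z; rw [hcq, hrot]; simp
    obtain ⟨u, -, hu⟩ := Nat.exists_mul_mod_eq_one_of_coprime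
      ((hp.coprime_iff_not_dvd.mpr hpm).symm) hp.one_lt
    apply hcne ⟨x, hx⟩
    have h2 : (c ^ (m * u)) ⟨x, hx⟩ = ⟨x, hx⟩ := by
      rw [pow_mul]
      have : ∀ n : ℕ, ((c ^ m) ^ n) ⟨x, hx⟩ = ⟨x, hx⟩ := by
        intro n
        induction n with
        | zero => rfl
        | succ n ih => rw [pow_succ', Equiv.Perm.mul_apply, ih, h']
      exact this u
    rw [pow_eq_pow_mod _ hcp, hu, pow_one] at h2
    exact h2
  -- `g` fixes a `P`-fixed point in each orbit
  have hgΓmem : ∀ x ∈ Γ, (g : Equiv.Perm α) x ∈ Γ := by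
    intro x hx
    by_cases hxΔ : x ∈ Δ
    · rw [hg, SubmonoidClass.coe_pow, hcg m ⟨x, hxΔ⟩]; exact hΔΓ ((c ^ m) ⟨x, hxΔ⟩).2
    · rwa [hgΓ x hx hxΔ]
  have hgset : ∀ n : G, (∀ x ∈ Γ, (n : Equiv.Perm α) x ∈ Γ) → (n : Equiv.Perm α) • Γ = Γ := by
    intro n hn
    apply Finset.eq_of_subset_of_card_le
    · intro z hz
      obtain ⟨w, hw, rfl⟩ := Finset.mem_smul_finset.mp hz
      exact hn w hw
    · rw [Finset.card_smul_finset]
  have hgorb : ∀ i x, x ∈ MulAction.orbit K (f i) → (g : Equiv.Perm α) x ∈ MulAction.orbit K (f i) := by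
    intro i x hx
    have hgx : (g : Equiv.Perm α) x ∉ Γ := fun h => by
      obtain ⟨x', hx', hxe⟩ : ∃ x' ∈ Γ, (g : Equiv.Perm α) • x' = (g : Equiv.Perm α) x := by
        have h' := h
        rw [← hgset g hgΓmem] at h'
        exact Finset.mem_smul_finset.mp h'
      exact hout i x hx ((g : Equiv.Perm α).injective hxe ▸ hx')
    obtain ⟨h', hh', hhfix, hhx⟩ := hsame Γ hΓ x ((g : Equiv.Perm α) x) (hout i x hx) hgx
      ⟨(g : Equiv.Perm α), g.2, hgset g hgΓmem, rfl⟩
    obtain ⟨m', hm'⟩ := hx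
    refine ⟨⟨⟨h', hh'⟩, (mem_fixingSubgroup_iff G).mpr fun z hz => hhfix z hz⟩ * m', ?_⟩
    exact (mul_smul _ m' (f i)).trans ((congrArg (fun w => h' w) hm').trans hhx)
  have hexz : ∀ i, ∃ z : α, z ∈ MulAction.orbit K (f i) ∧ (∀ u : (P : Subgroup K), (u : K) • z = z) ∧
      (g : Equiv.Perm α) z = z := by
    intro i
    let Φ : Set α := {x | x ∈ MulAction.orbit K (f i) ∧ ∀ u : (P : Subgroup K), (u : K) • x = x}
    have hΦg : ∀ x ∈ Φ, (g : Equiv.Perm α) x ∈ Φ := by
      rintro x ⟨hx1, hx2⟩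
      refine ⟨hgorb i x hx1, fun u => ?_⟩
      have hu : g⁻¹ * ((u : K) : G) * g ∈ P' := by
        have := (Subgroup.mem_normalizer_iff.mp (Subgroup.inv_mem _ hgN) _).mp
          (⟨(u : K), u.2, rfl⟩ : ((u : K) : G) ∈ P')
        rwa [inv_inv] at this
      obtain ⟨v, hv, hve⟩ := hu
      have h1 : (g⁻¹ * ((u : K) : G) * g) • x = x := by rw [← hve]; exact hx2 ⟨v, hv⟩
      rw [mul_smul, mul_smul, inv_smul_eq_iff] at h1
      exact h1
    have hΦinv : ∀ (q : Subgroup.zpowers g) (x : α), x ∈ Φ → (q : G) • x ∈ Φ := by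
      intro q x hx
      obtain ⟨n, hn⟩ := mem_powers_iff_mem_zpowers.mpr q.2
      rw [← hn]
      clear hn
      induction n with
      | zero => simpa using hx
      | succ n ih => show g ^ (n + 1) • x ∈ Φ; rw [pow_succ', mul_smul]; exact hΦg _ ih
    let ΦA : SubMulAction (Subgroup.zpowers g) α :=
      { carrier := Φ, smul_mem' := fun q x hx => hΦinv q x hx }
    have hmod : ¬ p ∣ Nat.card ΦA := by
      intro hdvd
      apply hOcard i
      have h1 := P.2.card_modEq_card_fixedPoints (O i)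
      have hcardeq : Nat.card (MulAction.fixedPoints (P : Subgroup K) (O i)) = Nat.card ΦA :=
        Nat.card_congr
          { toFun := fun w => ⟨(w.1 : α), w.1.2, fun u => congrArg Subtype.val (w.2 u)⟩
            invFun := fun w => ⟨⟨w.1, w.2.1⟩, fun u => Subtype.ext (w.2.2 u)⟩
            left_inv := fun w => rfl
            right_inv := fun w => rfl }
      rw [hcardeq] at h1
      exact Nat.modEq_zero_iff_dvd.mp (h1.trans (Nat.modEq_zero_iff_dvd.mpr hdvd))
    obtain ⟨z, hz⟩ := hgp.nonempty_fixed_point_of_prime_not_dvd_card ΦA hmod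
    exact ⟨z, z.2.1, z.2.2, congrArg Subtype.val (hz ⟨g, Subgroup.mem_zpowers g⟩)⟩
  choose z hzO hzP hzg using hexz
  have hzinj : Function.Injective z := by
    intro i j h
    by_contra hij
    have hi := hzO i
    rw [h] at hi
    apply hdist i j hij
    have e1 := MulAction.orbit_eq_iff.mpr hi
    have e2 := MulAction.orbit_eq_iff.mpr (hzO j)
    rw [← e1, e2]
    exact MulAction.mem_orbit_self _
  let Γ' : Finset α := (Γ \ Δ) ∪ Finset.univ.image z
  have hΓ'card : Γ'.card = k := by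
    rw [Finset.card_union_of_disjoint, Finset.card_sdiff_of_subset hΔΓ,
      Finset.card_image_of_injective _ hzinj, Finset.card_univ, Fintype.card_fin, hΓ, hΔ]
    · omega
    · rw [Finset.disjoint_left]
      intro x hx hx'
      obtain ⟨i, -, rfl⟩ := Finset.mem_image.mp hx'
      exact hout i _ (hzO i) (Finset.mem_sdiff.mp hx).1
  have hQ : P' ⊔ Subgroup.zpowers g ≤ fixingSubgroup G (Γ' : Set α) := by
    rw [sup_le_iff]
    refine ⟨?_, ?_⟩
    · rintro _ ⟨u, hu, rfl⟩
      rw [mem_fixingSubgroup_iff]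
      intro x hx
      rcases Finset.mem_union.mp hx with h | h
      · exact (mem_fixingSubgroup_iff G).mp u.2 x (Finset.mem_sdiff.mp h).1
      · obtain ⟨i, -, rfl⟩ := Finset.mem_image.mp h
        exact hzP i ⟨u, hu⟩
    · rw [Subgroup.zpowers_le, mem_fixingSubgroup_iff]
      intro x hx
      rcases Finset.mem_union.mp hx with h | h
      · exact hgΓ x (Finset.mem_sdiff.mp h).1 (Finset.mem_sdiff.mp h).2
      · obtain ⟨i, -, rfl⟩ := Finset.mem_image.mp h
        exact hzg i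
  have hQp : IsPGroup p (P' ⊔ Subgroup.zpowers g : Subgroup G) :=
    IsPGroup.to_sup_of_normal_left' (P.2.map K.subtype) hgp (Subgroup.zpowers_le.mpr hgN)
  haveI := htrans
  have hidx : ∀ T : Finset α, T.card = k →
      (fixingSubgroup G (T : Set α)).index * (Fintype.card α - k).factorial = (Fintype.card α).factorial := by
    intro T hT
    have := htrans.index_of_fixingSubgroup_mul (s := (T : Set α)) (by rw [Set.ncard_coe_finset, hT])
    rwa [Nat.card_eq_fintype_card] at this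
  have hcardeq : Nat.card (fixingSubgroup G (Γ' : Set α)) = Nat.card K := by
    have h1 := Subgroup.index_mul_card (fixingSubgroup G (Γ' : Set α))
    have h2 := Subgroup.index_mul_card K
    have h3 := Nat.eq_of_mul_eq_mul_right (Nat.factorial_pos _) ((hidx Γ' hΓ'card).trans (hidx Γ hΓ).symm)
    rw [h3, ← h2] at h1
    exact Nat.eq_of_mul_eq_mul_left (Nat.pos_of_ne_zero Subgroup.index_ne_zero_of_finite) h1
  have hQle : Nat.card (P' ⊔ Subgroup.zpowers g : Subgroup G) ≤ Nat.card P' := by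
    obtain ⟨n, hn⟩ := IsPGroup.iff_card.mp hQp
    have h1 := Subgroup.card_dvd_of_le hQ
    rw [hn, hcardeq, hp.pow_dvd_iff_le_factorization Nat.card_pos.ne'] at h1
    rw [hn, hPcard, Sylow.card_eq_multiplicity]
    exact Nat.pow_le_pow_right hp.pos h1
  have hgmem : g ∈ P' := by
    have := Subgroup.eq_of_le_of_card_ge (le_sup_left : P' ≤ P' ⊔ Subgroup.zpowers g) hQle
    rw [this]
    exact Subgroup.mem_sup_right (Subgroup.mem_zpowers g)
  obtain ⟨x, hxΔ, hx⟩ := hgmove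
  obtain ⟨u, -, hu⟩ := hgmem
  apply hx
  rw [← hu]
  exact (mem_fixingSubgroup_iff G).mp u.2 x (hΔΓ hxΔ)

end Cfsg.Agent.S0706
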