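import Cfsg.Statements.S0699
import Cfsg.Agent.S0698
import Cfsg.Agent.S0706
import Cfsg.Agent.Lib.Perm.Triple
import Cfsg.Agent.Lib.Perm.PrimeDegree
import Mathlib.GroupTheory.Perm.Cycle.Type
import Mathlib.Algebra.Group.Nat.Even

set_option autoImplicit false
open Cfsg

namespace Cfsg.Agent.S0699

theorem odd_orbit {H α : Type*} [Group H] [MulAction H α] [Fintype α] [DecidableEq α] (S : Finset α)
    (r : ℕ) (hinv : ∀ h : H, ∀ x ∈ S, h • x ∈ S)
    (hr : ∀ x ∈ S, Nat.card (MulAction.orbit H x) = r) : r ∣ S.card := by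
  classical
  induction S using Finset.strongInduction with
  | _ S IH =>
    rcases S.eq_empty_or_nonempty with rfl | ⟨x, hx⟩
    · simp
    let O : Finset α := (MulAction.orbit H x).toFinset
    have hOS : O ⊆ S := fun y hy => by
      obtain ⟨g, rfl⟩ := Set.mem_toFinset.mp hy
      exact hinv g x hx
    have hOcard : O.card = r := by
      rw [Set.toFinset_card, ← Nat.card_eq_fintype_card]; exact hr x hx
    have h1 := IH (S \ O) (Finset.sdiff_ssubset hOS ⟨x, Set.mem_toFinset.mpr (MulAction.mem_orbit_self x)⟩)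
      (fun g y hy => by
        rw [Finset.mem_sdiff] at hy ⊢
        refine ⟨hinv g y hy.1, fun h => hy.2 ?_⟩
        rw [Set.mem_toFinset] at h ⊢
        obtain ⟨k, hk⟩ := h
        exact ⟨g⁻¹ * k, (mul_smul g⁻¹ k x).trans ((congrArg (g⁻¹ • ·) hk).trans (inv_smul_smul g y))⟩)
      (fun y hy => hr y (Finset.mem_sdiff.mp hy).1)
    rw [← Finset.card_sdiff_add_card_eq_card hOS, hOcard]
    exact dvd_add h1 dvd_rfl

/-- Wagner's Theorem: a non-trivial normal subgroup of a triply transitive permutation group of odd degree at least 5 is triply transitive. -/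
theorem result {α : Type*} [Fintype α] [DecidableEq α] (G : Subgroup (Equiv.Perm α)) (hodd : Odd (Fintype.card α)) (h5 : 5 ≤ Fintype.card α) (hG : MulAction.IsMultiplyPretransitive G α 3) (N : Subgroup G) [N.Normal] (hN : N ≠ ⊥) : MulAction.IsMultiplyPretransitive N α 3 := by
  classical
  haveI : FaithfulSMul G α := ⟨fun {g k} h => Subtype.ext (Equiv.ext h)⟩
  have hn : Nat.card α = Fintype.card α := Nat.card_eq_fintype_card
  haveI := hG
  haveI hG2 : MulAction.IsMultiplyPretransitive G α 2 :=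
    MulAction.isMultiplyPretransitive_of_le (n := 3) (by omega) (by rw [hn]; omega)
  haveI : MulAction.IsPreprimitive G α := MulAction.isPreprimitive_of_is_two_pretransitive hG2
  haveI hNt : MulAction.IsPretransitive N α := CfsgLib.Perm.normal_isPretransitive hN
  obtain ⟨a₀⟩ : Nonempty α := Fintype.card_pos_iff.mp (by omega)
  have hN2 : MulAction.IsMultiplyPretransitive N α 2 := by
    rcases Cfsg.Agent.S0698.result G (by omega : 1 < 3) (by omega) hG N hN with h | ⟨-, hc, hsq⟩
    · exact h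
    exfalso
    haveI : FaithfulSMul N α := ⟨fun {g k} h => Subtype.ext (eq_of_smul_eq_smul h)⟩
    have hreg : MulAction.stabilizer N a₀ = ⊥ :=
      CfsgLib.Perm.stabilizer_eq_bot_of_commute (fun x y => hc.is_comm.comm x y) a₀
    have hcard := CfsgLib.Perm.natCard_eq_of_regular hreg
    rw [hn] at hcard
    haveI : Nontrivial N := (Subgroup.nontrivial_iff_ne_bot N).mpr hN
    obtain ⟨x, hx⟩ := exists_ne (1 : N)
    have h2 : orderOf x = 2 := orderOf_eq_prime (Subtype.ext (by simpa using hsq x x.2)) hx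
    have h3 := orderOf_dvd_natCard x
    rw [h2, hcard] at h3
    exact (Nat.not_even_iff_odd.mpr hodd) (even_iff_two_dvd.mpr h3)
  have heven : 2 ∣ Nat.card N := by
    obtain ⟨b₀, hb₀⟩ := Fintype.exists_ne_of_one_lt_card (by omega) a₀
    have h1 := CfsgLib.Perm.natCard_eq_mul_stabilizer (G := N) a₀
    haveI : MulAction.IsPretransitive (MulAction.stabilizer N a₀) (SubMulAction.ofStabilizer N a₀) := by
      rw [← MulAction.is_one_pretransitive_iff]; exact SubMulAction.ofStabilizer.isMultiplyPretransitive.mp hN2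
    have h2 := CfsgLib.Perm.natCard_eq_mul_stabilizer (G := MulAction.stabilizer N a₀)
      (⟨b₀, hb₀⟩ : SubMulAction.ofStabilizer N a₀)
    have h3 := SubMulAction.nat_card_ofStabilizer_add_one_eq N a₀
    rw [hn] at h3
    rw [h1, h2]
    refine dvd_mul_of_dvd_right (dvd_mul_of_dvd_left ?_ _) _
    obtain ⟨q, hq⟩ := hodd
    exact ⟨q, by omega⟩
  obtain ⟨u, hu⟩ := exists_prime_orderOf_dvd_card' (G := N) 2 heven
  let uP : Equiv.Perm α := ((u : G) : Equiv.Perm α)
  have hu2 : uP * uP = 1 := by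
    have := pow_orderOf_eq_one u
    rw [hu, pow_two] at this
    exact congrArg (fun z : N => ((z : G) : Equiv.Perm α)) this
  obtain ⟨a, ha⟩ : ∃ a, uP a = a := by
    by_contra hh
    push Not at hh
    have hcy : uP.support = Finset.univ := Finset.eq_univ_iff_forall.mpr fun x => Equiv.Perm.mem_support.mpr (hh x)
    haveI : Fact (Nat.Prime 2) := ⟨Nat.prime_two⟩
    obtain ⟨n, hn'⟩ := Equiv.Perm.cycleType_prime_order (σ := uP) (by
      rw [show orderOf uP = orderOf u from by rw [← Subgroup.orderOf_coe u, ← Subgroup.orderOf_coe (u : G)], hu]; exact Nat.prime_two)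
    have := Equiv.Perm.sum_cycleType uP
    rw [hn', hcy, Finset.card_univ, Multiset.sum_replicate, show orderOf uP = 2 from by
      rw [← hu, ← Subgroup.orderOf_coe u, ← Subgroup.orderOf_coe (u : G)]] at this
    exact (Nat.not_even_iff_odd.mpr hodd) ⟨n + 1, by rw [← this, smul_eq_mul]; ring⟩
  obtain ⟨b, hb⟩ : ∃ b, uP b ≠ b := by
    by_contra hh
    push Not at hh
    have : u = 1 := Subtype.ext (Subtype.ext (Equiv.ext hh))
    rw [this, orderOf_one] at hu
    omega
  set c := uP b with hc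
  have hab : a ≠ b := fun e => hb (by rw [hc, ← e]; exact ha)
  have hac : a ≠ c := fun e => hab (uP.injective (ha.trans e))
  have hbc : b ≠ c := Ne.symm hb
  have hcb : uP c = b := by rw [hc, ← Equiv.Perm.mul_apply, hu2, Equiv.Perm.one_apply]
  -- every triple admits every transposition inside `N`
  have hswap : ∀ x y z : α, x ≠ y → x ≠ z → y ≠ z → ∃ v : N, v • x = x ∧ v • y = z ∧ v • z = y := by
    intro x y z h1 h2 h3
    obtain ⟨g, hg1, hg2, hg3⟩ := (CfsgLib.Perm.is_three_pretransitive_iff.mp hG) a b c x y z hab hac hbc h1 h2 h3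
    refine ⟨⟨g * u * g⁻¹, Subgroup.Normal.conj_mem inferInstance _ u.2 g⟩, ?_, ?_, ?_⟩ <;>
      simp only [Subgroup.mk_smul, mul_smul]
    · rw [inv_smul_eq_iff.mpr hg1.symm]
      conv_rhs => rw [← hg1]
      exact congrArg (g • ·) ha
    · rw [inv_smul_eq_iff.mpr hg2.symm, ← hg3]
      rfl
    · rw [inv_smul_eq_iff.mpr hg3.symm, ← hg2]
      exact congrArg (g • ·) hcb
  let M : Subgroup (Equiv.Perm α) := N.map G.subtype
  have hMN : ∀ {h : Equiv.Perm α}, h ∈ M → ∃ v : N, ((v : G) : Equiv.Perm α) = h := by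
    rintro h ⟨v, hv, rfl⟩; exact ⟨⟨v, hv⟩, rfl⟩
  have hNM : ∀ v : N, ((v : G) : Equiv.Perm α) ∈ M := fun v => ⟨(v : G), v.2, rfl⟩
  have hgen : ∀ s : Finset α, s.card = 2 + 1 → ∀ σ : Equiv.Perm ↥s, ∃ g ∈ M, ∀ x : ↥s, g (x : α) = σ x := by
    intro s hs σ
    induction σ using Equiv.Perm.swap_induction_on with
    | one => exact ⟨1, M.one_mem, fun x => rfl⟩
    | swap_mul τ x y hxy ih =>
      obtain ⟨g, hg, hgs⟩ := ih
      have hxy' : (x : α) ≠ y := fun e => hxy (Subtype.ext e)
      obtain ⟨w, hw⟩ := Finset.card_eq_one.mp (show ((s.erase (x : α)).erase (y : α)).card = 1 by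
        rw [Finset.card_erase_of_mem (Finset.mem_erase.mpr ⟨Ne.symm hxy', y.2⟩),
          Finset.card_erase_of_mem x.2, hs])
      have hwmem : w ∈ (s.erase (x : α)).erase (y : α) := by rw [hw]; exact Finset.mem_singleton_self w
      simp only [Finset.mem_erase] at hwmem
      obtain ⟨v, hv1, hv2, hv3⟩ := hswap w x y hwmem.2.1 hwmem.1 hxy'
      refine ⟨((v : G) : Equiv.Perm α) * g, M.mul_mem (hNM v) hg, fun z => ?_⟩
      rw [Equiv.Perm.mul_apply, hgs, Equiv.Perm.mul_apply]
      set z' := τ z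
      by_cases hzx : z' = x
      · rw [hzx, Equiv.swap_apply_left]; exact hv2
      by_cases hzy : z' = y
      · rw [hzy, Equiv.swap_apply_right]; exact hv3
      rw [Equiv.swap_apply_of_ne_of_ne hzx hzy]
      have : (z' : α) = w := by
        have : (z' : α) ∈ (s.erase (x : α)).erase (y : α) := by
          simp only [Finset.mem_erase]
          exact ⟨fun e => hzy (Subtype.ext e), fun e => hzx (Subtype.ext e), z'.2⟩
        rw [hw] at this; exact Finset.mem_singleton.mp this
      rw [this]; exact hv1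
  have key : ∀ x y z w : α, x ≠ y → z ≠ x → z ≠ y → w ≠ x → w ≠ y →
      ∃ v : N, v • x = x ∧ v • y = y ∧ v • z = w := by
    intro x y z w hxy hzx hzy hwx hwy
    by_contra hne
    set Γ : Finset α := {x, y} with hΓ
    set H := fixingSubgroup M (Γ : Set α) with hH
    have hHfix : ∀ h : H, ((h : M) : Equiv.Perm α) x = x ∧ ((h : M) : Equiv.Perm α) y = y := fun h =>
      ⟨(mem_fixingSubgroup_iff M).mp h.2 x (by simp [hΓ]), (mem_fixingSubgroup_iff M).mp h.2 y (by simp [hΓ])⟩
    have hmk : ∀ v : N, v • x = x → v • y = y → ∃ h : H, ∀ p : α, h • p = v • p := by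
      intro v h1 h2
      refine ⟨⟨⟨_, hNM v⟩, (mem_fixingSubgroup_iff M).mpr ?_⟩, fun p => rfl⟩
      intro p hp
      simp only [hΓ, Finset.coe_insert, Finset.coe_singleton, Set.mem_insert_iff, Set.mem_singleton_iff] at hp
      rcases hp with rfl | rfl <;> assumption
    have hconst : ∀ z' : α, z' ≠ x → z' ≠ y →
        Nat.card (MulAction.orbit H z') = Nat.card (MulAction.orbit H z) := by
      intro z' h1 h2
      obtain ⟨g, hgx, hgy, hgz⟩ := (CfsgLib.Perm.is_three_pretransitive_iff.mp hG) x y z x y z' hxy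
        (Ne.symm hzx) (Ne.symm hzy) hxy (Ne.symm h1) (Ne.symm h2)
      have hgx' : g⁻¹ • x = x := by rw [inv_smul_eq_iff, hgx]
      have hgy' : g⁻¹ • y = y := by rw [inv_smul_eq_iff, hgy]
      have hconjmem : ∀ (m : G), m • x = x → m • y = y → ∀ h : H, ∃ h' : H, ∀ p : α, h' • p = m • h • m⁻¹ • p := by
        intro m hmx hmy h
        obtain ⟨v, hv⟩ := hMN (h : M).2
        have hv' : ∀ p : α, (v : G) • p = h • p := fun p => congrArg (fun f : Equiv.Perm α => f p) hv
        obtain ⟨h', hh'⟩ := hmk ⟨m * v * m⁻¹, Subgroup.Normal.conj_mem inferInstance _ v.2 m⟩ (by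
          show (m * v * m⁻¹) • x = x
          rw [mul_smul, mul_smul, inv_smul_eq_iff.mpr hmx.symm, hv']
          exact (congrArg (m • ·) (hHfix h).1).trans hmx) (by
          show (m * v * m⁻¹) • y = y
          rw [mul_smul, mul_smul, inv_smul_eq_iff.mpr hmy.symm, hv']
          exact (congrArg (m • ·) (hHfix h).2).trans hmy)
        exact ⟨h', fun p => (hh' p).trans (by
          show (m * v * m⁻¹) • p = _
          rw [mul_smul, mul_smul, hv'])⟩
      refine Nat.card_congr (Equiv.subtypeEquiv (MulAction.toPerm g⁻¹) fun p => ?_)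
      show p ∈ MulAction.orbit H z' ↔ g⁻¹ • p ∈ MulAction.orbit H z
      constructor
      · rintro ⟨h, rfl⟩
        obtain ⟨h', hh'⟩ := hconjmem g⁻¹ hgx' hgy' h
        refine ⟨h', (hh' z).trans ?_⟩
        rw [inv_inv, hgz]
      · rintro ⟨h, hh⟩
        obtain ⟨h', hh'⟩ := hconjmem g hgx hgy h
        refine ⟨h', (hh' z').trans ?_⟩
        rw [← hgz, inv_smul_smul]
        exact (congrArg (g • ·) hh).trans (smul_inv_smul g p)
    have hrdvd : Nat.card (MulAction.orbit H z) ∣ (Finset.univ \ Γ).card := by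
      refine odd_orbit (H := H) _ _ (fun h p hp => ?_) (fun p hp => ?_)
      · simp only [Finset.mem_sdiff, Finset.mem_univ, true_and, hΓ, Finset.mem_insert, Finset.mem_singleton, not_or] at hp ⊢
        refine ⟨fun e => hp.1 ?_, fun e => hp.2 ?_⟩
        · exact MulAction.injective h (e.trans (hHfix h).1.symm)
        · exact MulAction.injective h (e.trans (hHfix h).2.symm)
      · simp only [Finset.mem_sdiff, Finset.mem_univ, true_and, hΓ, Finset.mem_insert, Finset.mem_singleton, not_or] at hp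
        exact hconst p hp.1 hp.2
    have hrodd : Odd (Nat.card (MulAction.orbit H z)) := by
      rw [Finset.card_sdiff_of_subset (Finset.subset_univ _), Finset.card_univ, hΓ, Finset.card_pair hxy] at hrdvd
      refine Odd.of_dvd_nat ?_ hrdvd
      obtain ⟨q, hq⟩ := hodd
      exact ⟨q - 1, by omega⟩
    have hf' : ∀ i, (![z, w] : Fin 2 → α) i ∉ Γ := by
      intro i; fin_cases i <;> simp [hΓ, hzx, hzy, hwx, hwy]
    have hdist : ∀ i j, i ≠ j → (![z, w] : Fin 2 → α) j ∉ MulAction.orbit H ((![z, w] : Fin 2 → α) i) := by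
      have h1 : w ∉ MulAction.orbit H z := by
        rintro ⟨h, hh⟩
        obtain ⟨v, hv⟩ := hMN (h : M).2
        apply hne
        refine ⟨v, ?_, ?_, ?_⟩
        · show ((v : G) : Equiv.Perm α) x = x
          rw [hv]; exact (hHfix h).1
        · show ((v : G) : Equiv.Perm α) y = y
          rw [hv]; exact (hHfix h).2
        · show ((v : G) : Equiv.Perm α) z = w
          rw [hv]; exact hh
      intro i j hij
      fin_cases i <;> fin_cases j <;> simp at hij ⊢
      · exact h1
      · intro h2; exact h1 (MulAction.mem_orbit_symm.mp h2)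
    obtain ⟨i, hi⟩ := Cfsg.Agent.S0706.result M (k := 2) (by omega) hgen Nat.prime_two le_rfl Γ
      (by rw [hΓ, Finset.card_pair hxy]) ![z, w] hf' hdist
    apply Nat.not_even_iff_odd.mpr hrodd
    rw [even_iff_two_dvd]
    fin_cases i
    · exact hi
    · rw [← hconst w hwx hwy]; exact hi
  rw [CfsgLib.Perm.is_three_pretransitive_iff]
  intro x y z x' y' z' h1 h2 h3 h4 h5 h6
  obtain ⟨v, hv1, hv2⟩ := CfsgLib.Perm.exists_smul_pair hN2 h1 h4
  obtain ⟨w, hw1, hw2, hw3⟩ := key x' y' (v • z) z' h4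
    (fun e => h2 (MulAction.injective v (hv1.trans e.symm)))
    (fun e => h3 (MulAction.injective v (hv2.trans e.symm))) (Ne.symm h5) (Ne.symm h6)
  exact ⟨w * v, by rw [mul_smul, hv1, hw1], by rw [mul_smul, hv2, hw2], by rw [mul_smul, hw3]⟩

end Cfsg.Agent.S0699
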