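import Cfsg.Statements.S0700
import Cfsg.Agent.Lib.Perm.TransitiveNormal
import Cfsg.Agent.Lib.Perm.RegularNormal
import Cfsg.Agent.Lib.Perm.OrbitPartition
import Mathlib.GroupTheory.Complement
import Mathlib.Order.Preorder.Finite

set_option autoImplicit false
open Cfsg

namespace Cfsg.Agent.S0700

open scoped Pointwise

theorem exists_twoPoint_ne_bot {α : Type*} [Fintype α] [DecidableEq α] (G : Subgroup (Equiv.Perm α))
    (hG : MulAction.IsMultiplyPretransitive G α 2) (h2 : 2 ≤ Fintype.card α) (N : Subgroup G) [N.Normal]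
    [MulAction.IsPretransitive N α] (hmin : ∀ M : Subgroup G, M.Normal → M ≤ N → M = ⊥ ∨ M = N)
    (hnr : ∃ a : α, MulAction.stabilizer N a ≠ ⊥) :
    ∃ a b : α, a ≠ b ∧ ∃ g : N, g ≠ 1 ∧ g • a = a ∧ g • b = b := by
  classical
  by_contra hsharp
  push Not at hsharp
  have huniq : ∀ a b : α, a ≠ b → ∀ g : N, g • a = a → g • b = b → g = 1 :=
    fun a b hab g ha hb => by_contra fun h => hsharp a b hab g h ha hb
  haveI := Fintype.ofFinite N
  obtain ⟨a⟩ : Nonempty α := Fintype.card_pos_iff.mp (by omega)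
  set s := Nat.card (MulAction.stabilizer N a) with hs
  set n := Fintype.card α with hn
  have hN : Nat.card N = n * s := by
    rw [CfsgLib.Perm.natCard_eq_mul_stabilizer a, Nat.card_eq_fintype_card (α := α)]
  have hst : ∀ b : α, (Finset.univ.filter fun g : N => g • b = b).card = s := by
    intro b
    have h1 := CfsgLib.Perm.natCard_eq_mul_stabilizer (G := N) b
    rw [hN, Nat.card_eq_fintype_card (α := α)] at h1
    rw [Nat.eq_of_mul_eq_mul_left (by omega) h1, Nat.card_eq_fintype_card, Fintype.card_subtype]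
    rfl
  set D : Finset N := Finset.univ.filter fun g => ∀ b : α, g • b ≠ b with hD
  have hs1 : 1 ≤ s := Nat.card_pos
  have hDcard : D.card = n - 1 := by
    let F : α → Finset N := fun b => (Finset.univ.filter fun g : N => g • b = b).erase 1
    have hF : ∀ b, (F b).card = s - 1 := fun b => by
      rw [Finset.card_erase_of_mem (by simp), hst]
    have hpart : (Finset.univ.erase (1 : N)) = D ∪ Finset.univ.biUnion F := by
      ext g
      simp only [Finset.mem_erase, Finset.mem_univ, and_true, Finset.mem_union, Finset.mem_biUnion,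
        true_and, hD, F, Finset.mem_filter]
      constructor
      · intro hg
        by_cases h : ∀ b : α, g • b ≠ b
        · exact Or.inl h
        · push Not at h
          obtain ⟨b, hb⟩ := h
          exact Or.inr ⟨b, hg, hb⟩
      · rintro (h | ⟨b, hg, -⟩)
        · intro e; exact h a (by rw [e, one_smul])
        · exact hg
    have hdisj : Disjoint D (Finset.univ.biUnion F) := by
      rw [Finset.disjoint_left]
      intro g hg hg'
      simp only [Finset.mem_biUnion, Finset.mem_univ, true_and, F, Finset.mem_erase, Finset.mem_filter] at hg'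
      obtain ⟨b, -, hb⟩ := hg'
      exact (Finset.mem_filter.mp hg).2 b hb
    have h1 := congrArg Finset.card hpart
    rw [Finset.card_union_of_disjoint hdisj, Finset.card_biUnion] at h1
    · simp only [hF, Finset.sum_const, smul_eq_mul, Finset.card_univ, ← hn] at h1
      rw [Finset.card_erase_of_mem (Finset.mem_univ _), Finset.card_univ, ← Nat.card_eq_fintype_card, hN] at h1
      obtain ⟨t, ht⟩ : ∃ t, s = t + 1 := ⟨s - 1, by omega⟩
      rw [ht, Nat.add_sub_cancel, Nat.mul_succ] at h1
      omega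
    · intro x _ y _ hxy
      show Disjoint (F x) (F y)
      rw [Finset.disjoint_left]
      intro g hg hg'
      simp only [F, Finset.mem_erase, Finset.mem_filter, Finset.mem_univ, true_and] at hg hg'
      exact hg.1 (huniq x y hxy g hg.2 hg'.2)
  have hconj : ∀ (m : G) (g : N), ∃ g' : N, ∀ z : α, g' • z = m • (g : G) • m⁻¹ • z := fun m g =>
    ⟨⟨m * g * m⁻¹, Subgroup.Normal.conj_mem inferInstance _ g.2 m⟩, fun z => by
      show (m * (g : G) * m⁻¹) • z = _
      rw [mul_smul, mul_smul]⟩
  have honce : ∀ x y : α, x ≠ y → (D.filter fun g => g • x = y).card = 1 := by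
    have hle : ∀ x y x' y' : α, x ≠ y → x' ≠ y' →
        (D.filter fun g => g • x = y).card ≤ (D.filter fun g => g • x' = y').card := by
      intro x y x' y' hxy hxy'
      obtain ⟨m, hm1, hm2⟩ := CfsgLib.Perm.exists_smul_pair hG hxy hxy'
      choose c hc using hconj m
      refine Finset.card_le_card_of_injOn c (fun g hg => ?_) (fun g _ g' _ e => ?_)
      · simp only [Finset.coe_filter, Set.mem_ofPred_eq, hD, Finset.mem_filter, Finset.mem_univ, true_and] at hg ⊢
        refine ⟨fun z hz => hg.1 (m⁻¹ • z) ?_, ?_⟩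
        · rw [hc] at hz
          exact eq_inv_smul_iff.mpr hz
        · rw [hc, inv_smul_eq_iff.mpr hm1.symm, ← hm2]
          exact congrArg (m • ·) hg.2
      · apply Subtype.ext
        refine Subtype.ext (Equiv.ext fun z => ?_)
        have h1 := hc g (m • z)
        have h2 := hc g' (m • z)
        rw [e, h2, inv_smul_smul] at h1
        exact (MulAction.injective m h1).symm
    obtain ⟨b, hb⟩ := Fintype.exists_ne_of_one_lt_card (by omega) a
    intro x y hxy
    set c := (D.filter fun g => g • a = b).card with hc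
    have hall : ∀ y', y' ≠ a → (D.filter fun g => g • a = y').card = c := fun y' hy' =>
      le_antisymm (hle a y' a b (Ne.symm hy') (Ne.symm hb)) (hle a b a y' (Ne.symm hb) (Ne.symm hy'))
    have h1 := Finset.card_eq_sum_card_fiberwise (f := fun g : N => g • a) (s := D)
      (t := Finset.univ.erase a) (fun g hg => Finset.mem_coe.mpr
        (Finset.mem_erase.mpr ⟨(Finset.mem_filter.mp hg).2 a, Finset.mem_univ _⟩))
    rw [Finset.sum_congr rfl (fun y' hy' => hall y' (Finset.mem_erase.mp hy').1), Finset.sum_const,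
      smul_eq_mul, Finset.card_erase_of_mem (Finset.mem_univ _), Finset.card_univ, ← hn, hDcard] at h1
    have hc1 : c = 1 := by
      have h3 : (n - 1) * 1 = (n - 1) * c := by rw [Nat.mul_one]; exact h1
      exact (Nat.eq_of_mul_eq_mul_left (by omega) h3).symm
    exact le_antisymm (hc1 ▸ hle x y a b hxy (Ne.symm hb)) (hc1 ▸ hle a b x y (Ne.symm hb) hxy)
  have hclosed : ∀ d₁ ∈ D, ∀ d₂ ∈ D, d₁ * d₂ = 1 ∨ d₁ * d₂ ∈ D := by
    intro d₁ h1 d₂ h2
    by_cases h : ∀ b : α, (d₁ * d₂) • b ≠ b
    · exact Or.inr (Finset.mem_filter.mpr ⟨Finset.mem_univ _, h⟩)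
    push Not at h
    obtain ⟨c, hc⟩ := h
    left
    rw [mul_smul] at hc
    obtain ⟨w, hw⟩ := Finset.card_eq_one.mp (honce c (d₂ • c) (Ne.symm ((Finset.mem_filter.mp h2).2 c)))
    have m2 : d₂ ∈ D.filter fun g => g • c = d₂ • c := Finset.mem_filter.mpr ⟨h2, rfl⟩
    have m1 : d₁⁻¹ ∈ D.filter fun g => g • c = d₂ • c := by
      refine Finset.mem_filter.mpr ⟨Finset.mem_filter.mpr ⟨Finset.mem_univ _, fun b hb => ?_⟩, ?_⟩
      · exact (Finset.mem_filter.mp h1).2 b (inv_smul_eq_iff.mp hb).symm
      · rw [inv_smul_eq_iff, hc]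
    rw [hw, Finset.mem_singleton] at m1 m2
    rw [m2, ← m1, mul_inv_cancel]
  let T : Subgroup G :=
    { carrier := {g | g ∈ N ∧ (g = 1 ∨ ∀ b : α, g • b ≠ b)}
      one_mem' := ⟨N.one_mem, Or.inl rfl⟩
      mul_mem' := by
        rintro g k ⟨hg, hg'⟩ ⟨hk, hk'⟩
        refine ⟨N.mul_mem hg hk, ?_⟩
        rcases hg' with rfl | hg'
        · rw [one_mul]; exact hk'
        rcases hk' with rfl | hk'
        · rw [mul_one]; exact Or.inr hg'
        rcases hclosed ⟨g, hg⟩ (Finset.mem_filter.mpr ⟨Finset.mem_univ _, hg'⟩) ⟨k, hk⟩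
          (Finset.mem_filter.mpr ⟨Finset.mem_univ _, hk'⟩) with h | h
        · exact Or.inl (congrArg Subtype.val h)
        · exact Or.inr (Finset.mem_filter.mp h).2
      inv_mem' := by
        rintro g ⟨hg, hg'⟩
        exact ⟨N.inv_mem hg, hg'.imp (fun h => by rw [h, inv_one]) fun h b e => h b (inv_smul_eq_iff.mp e).symm⟩ }
  have hTn : T.Normal := ⟨fun g hg k => ⟨Subgroup.Normal.conj_mem inferInstance g hg.1 k,
    hg.2.imp (fun h => by rw [h]; group) fun h b e => h (k⁻¹ • b) (by
      rw [mul_smul, mul_smul] at e; rw [eq_inv_smul_iff, e])⟩⟩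
  rcases hmin T hTn (fun g hg => hg.1) with h | h
  · obtain ⟨d, hd⟩ := Finset.card_pos.mp (show 0 < D.card by omega)
    have h1 : (d : G) ∈ T := ⟨d.2, Or.inr (Finset.mem_filter.mp hd).2⟩
    rw [h, Subgroup.mem_bot] at h1
    exact (Finset.mem_filter.mp hd).2 a (by show (d : G) • a = a; rw [h1, one_smul])
  · obtain ⟨c, hc⟩ := hnr
    apply hc
    rw [Subgroup.eq_bot_iff_forall]
    intro g hg
    have h1 : (g : G) ∈ T := by rw [h]; exact g.2
    rcases h1.2 with h2 | h2
    · exact Subtype.ext h2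
    · exact absurd hg (h2 c)

/-- Burnside's Theorem on doubly transitive groups: a minimal normal subgroup of a finite doubly transitive permutation group is elementary abelian and regular, or simple and primitive. -/
theorem result {α : Type*} [Fintype α] [DecidableEq α] (G : Subgroup (Equiv.Perm α)) (hG : MulAction.IsMultiplyPretransitive G α 2) (N : Subgroup G) [N.Normal] (hN : N ≠ ⊥) (hmin : ∀ M : Subgroup G, M.Normal → M ≤ N → M = ⊥ ∨ M = N) : (IsMulCommutative N ∧ (∃ p : ℕ, p.Prime ∧ ∀ n ∈ N, n ^ p = 1) ∧ ∀ a : α, MulAction.stabilizer N a = ⊥) ∨ (IsSimpleGroup N ∧ MulAction.IsPreprimitive N α) := by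
  classical
  haveI : FaithfulSMul G α := ⟨fun {g k} h => Subtype.ext (Equiv.ext h)⟩
  haveI : MulAction.IsPreprimitive G α := MulAction.isPreprimitive_of_is_two_pretransitive hG
  haveI hNt : MulAction.IsPretransitive N α := CfsgLib.Perm.normal_isPretransitive hN
  have h2 : 2 ≤ Fintype.card α := by
    by_contra h
    apply hN
    haveI : Subsingleton α := Fintype.card_le_one_iff_subsingleton.mp (by omega)
    rw [Subgroup.eq_bot_iff_forall]
    intro x _
    exact Subtype.ext (Equiv.ext fun y => Subsingleton.elim _ _)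
  by_cases hreg : ∀ a : α, MulAction.stabilizer N a = ⊥
  · left
    obtain ⟨hc, p, m, hp, hpow, -⟩ := CfsgLib.Perm.regular_normal_two_transitive
      (by rw [Nat.card_eq_fintype_card]; exact h2) hG hNt hreg
    exact ⟨hc, ⟨p, hp, hpow⟩, hreg⟩
  right
  push Not at hreg
  obtain ⟨u₀, v₀, huv₀, g₀, hg₀, hg₀u, hg₀v⟩ := exists_twoPoint_ne_bot G hG h2 N hmin hreg
  let S1 : α → Subgroup N := fun x => MulAction.stabilizer N x
  let S2 : α → α → Subgroup N := fun x y => MulAction.stabilizer N x ⊓ MulAction.stabilizer N y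
  set m := Nat.card (S2 u₀ v₀) with hm
  set s := Nat.card (S1 u₀) with hs
  have hS1 : ∀ x, Nat.card (S1 x) = s := by
    intro x
    have h1 := CfsgLib.Perm.natCard_eq_mul_stabilizer (G := N) x
    have h2' := CfsgLib.Perm.natCard_eq_mul_stabilizer (G := N) u₀
    rw [h2'] at h1
    exact (Nat.eq_of_mul_eq_mul_left (by rw [Nat.card_eq_fintype_card]; omega) h1).symm
  have hS2le : ∀ x y x' y', x ≠ y → x' ≠ y' → Nat.card (S2 x y) ≤ Nat.card (S2 x' y') := by
    intro x y x' y' hxy hxy'
    obtain ⟨k, hk1, hk2⟩ := CfsgLib.Perm.exists_smul_pair hG hxy hxy'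
    refine Nat.card_le_card_of_injective (fun g =>
      ⟨⟨k * ((g : N) : G) * k⁻¹, Subgroup.Normal.conj_mem inferInstance _ (g : N).2 k⟩, ?_, ?_⟩) ?_
    · show (k * ((g : N) : G) * k⁻¹) • x' = x'
      rw [mul_smul, mul_smul, inv_smul_eq_iff.mpr hk1.symm]
      exact (congrArg (k • ·) g.2.1).trans hk1
    · show (k * ((g : N) : G) * k⁻¹) • y' = y'
      rw [mul_smul, mul_smul, inv_smul_eq_iff.mpr hk2.symm]
      exact (congrArg (k • ·) g.2.2).trans hk2
    · intro g g' e
      have e' := congrArg (fun z : S2 x' y' => ((z : N) : G)) e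
      exact Subtype.ext (Subtype.ext (mul_left_cancel (mul_right_cancel e')))
  have hS2 : ∀ x y, x ≠ y → Nat.card (S2 x y) = m := fun x y h =>
    le_antisymm (hS2le x y u₀ v₀ h huv₀) (hS2le u₀ v₀ x y huv₀ h)
  have hm1 : m ≠ 1 := by
    rw [hm, ne_eq, Subgroup.card_eq_one, Subgroup.eq_bot_iff_forall]
    intro h
    exact hg₀ (h g₀ ⟨hg₀u, hg₀v⟩)
  have hmpos : 0 < m := Nat.card_pos
  -- orbit of the stabilizer of `x` on `y`
  have horb : ∀ x y, x ≠ y → Nat.card (MulAction.orbit (S1 x) y) * m = s := by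
    intro x y hxy
    have e : Nat.card (MulAction.stabilizer (S1 x) y) = m := by
      rw [← hS2 x y hxy]
      exact Nat.card_congr
        { toFun := fun g => ⟨(g : S1 x), (g : S1 x).2, g.2⟩
          invFun := fun g => ⟨⟨(g : N), g.2.1⟩, g.2.2⟩
          left_inv := fun g => rfl
          right_inv := fun g => rfl }
    rw [← e, Nat.card_coe_set_eq, ← MulAction.index_stabilizer, Subgroup.index_mul_card, hS1]
  set r := Nat.card (MulAction.orbit (S1 u₀) v₀) with hr
  have hrm : r * m = s := horb u₀ v₀ huv₀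
  have horbr : ∀ x y, x ≠ y → Nat.card (MulAction.orbit (S1 x) y) = r := fun x y h =>
    Nat.eq_of_mul_eq_mul_right hmpos ((horb x y h).trans hrm.symm)
  -- primitivity
  have hprim : MulAction.IsPreprimitive N α := by
    refine ⟨fun {B} hB => ?_⟩
    rcases B.subsingleton_or_nontrivial with hss | hnt
    · exact Or.inl hss
    right
    by_contra hne
    have hfix : ∀ (B : Set α), MulAction.IsBlock N B → B.Nontrivial → ∀ a ∈ B, ∀ c ∉ B,
        ∀ g : N, g • a = a → g • c = c → ∀ h : N, h • a = c → ∀ y ∈ h • B, g • y = y := by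
      intro B hB hBnt a ha c hc g hga hgc h hh y hy
      set C := h • B with hC
      have hcC : c ∈ C := hh ▸ Set.smul_mem_smul_set ha
      have haC : a ∉ C := fun haC => by
        have h1 := hB.smul_eq_of_mem ha (show h⁻¹ • a ∈ B by rw [hC, Set.mem_smul_set_iff_inv_smul_mem] at haC; exact haC)
        have : C = B := by rw [hC]; conv_lhs => rw [← h1]
                           rw [smul_inv_smul]
        exact hc (this ▸ hcC)
      have hCblock : MulAction.IsBlock N C := hB.translate h
      let St : Subgroup N := S1 a ⊓ MulAction.stabilizer N C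
      have hSt : ∀ z ∈ C, S2 a z ≤ St := by
        intro z hz k hk
        refine ⟨hk.1, ?_⟩
        exact MulAction.isBlock_iff_smul_eq_of_mem.mp hCblock hz (by rw [hk.2]; exact hz)
      have hSto : ∀ z ∈ C, Nat.card (MulAction.orbit St z) * m = Nat.card St := by
        intro z hz
        have hne' : a ≠ z := fun e => haC (e ▸ hz)
        have e : Nat.card (MulAction.stabilizer St z) = m := by
          rw [← hS2 a z hne']
          exact Nat.card_congr
            { toFun := fun k => ⟨(k : St), (k : St).2.1, k.2⟩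
              invFun := fun k => ⟨⟨(k : N), hSt z hz k.2⟩, k.2.2⟩
              left_inv := fun k => rfl
              right_inv := fun k => rfl }
        rw [← e, Nat.card_coe_set_eq, ← MulAction.index_stabilizer, Subgroup.index_mul_card]
      set q := Nat.card (MulAction.orbit St c) with hq
      have hqm := hSto c hcC
      have hqC : q ∣ C.ncard := by
        refine CfsgLib.Perm.dvd_ncard_of_orbits (H := St) C q (fun k z hz => ?_) fun z hz =>
          Nat.eq_of_mul_eq_mul_right hmpos ((hSto z hz).trans hqm.symm)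
        have h1 : (k : N) • C = C := k.2.2
        rw [← h1]; exact Set.smul_mem_smul_set hz
      have hqr : q ∣ r := by
        have h1 : Nat.card St ∣ Nat.card (S1 a) := Subgroup.card_dvd_of_le inf_le_left
        rw [hS1, ← hrm, ← hqm] at h1
        exact Nat.dvd_of_mul_dvd_mul_right hmpos h1
      have hCcard : C.ncard = B.ncard := Set.ncard_smul_set h B
      have hrB : r ∣ (B \ {a}).ncard := by
        refine CfsgLib.Perm.dvd_ncard_of_orbits (H := S1 a) _ r (fun k z hz => ?_) fun z hz => horbr a z (fun e => hz.2 e.symm)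
        have hk : (k : N) • a = a := k.2
        have h1 := hB.smul_eq_of_mem ha (show (k : N) • a ∈ B by rw [hk]; exact ha)
        refine ⟨h1 ▸ Set.smul_mem_smul_set hz.1, fun e => hz.2 (MulAction.injective (k : N) ?_)⟩
        exact (Set.mem_singleton_iff.mp e).trans hk.symm
      rw [Set.ncard_sdiff_singleton_of_mem ha] at hrB
      have hq1 : q = 1 := by
        have h1 : q ∣ B.ncard - 1 := hqr.trans hrB
        rw [hCcard] at hqC
        have hBpos : 1 ≤ B.ncard := (Set.ncard_pos (Set.toFinite B)).mpr ⟨a, ha⟩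
        have := Nat.dvd_sub hqC h1
        rwa [Nat.sub_sub_self hBpos, Nat.dvd_one] at this
      have hgSt : g ∈ St := hSt c hcC ⟨hga, hgc⟩
      have hqy : Nat.card (MulAction.orbit St y) = 1 := by
        have h1 := hSto y hy
        rw [← hqm, show Nat.card (MulAction.orbit St c) = 1 from hq1] at h1
        exact Nat.eq_of_mul_eq_mul_right hmpos h1
      obtain ⟨hsub, -⟩ := Nat.card_eq_one_iff_unique.mp hqy
      exact congrArg Subtype.val (hsub.elim (⟨g • y, ⟨⟨g, hgSt⟩, rfl⟩⟩ : MulAction.orbit St y) ⟨y, MulAction.mem_orbit_self y⟩)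
    obtain ⟨a, ha, a', ha', haa⟩ := hnt
    have hBnt : B.Nontrivial := ⟨a, ha, a', ha', haa⟩
    obtain ⟨c₀, hc₀⟩ : ∃ c, c ∉ B := by
      by_contra h
      push Not at h
      exact hne (Set.eq_univ_iff_forall.mpr h)
    have hall : ∀ c, c ∉ B → ∀ g : N, g • a = a → g • c = c → ∀ z ∈ B, g • z = z := by
      intro c hc g hga hgc z hz
      obtain ⟨h, hh⟩ := hNt.exists_smul_eq a c
      have hcC : c ∈ h • B := hh ▸ Set.smul_mem_smul_set ha
      have haC : a ∉ h • B := fun haC => by
        have h1 := hB.smul_eq_of_mem ha (show h⁻¹ • a ∈ B by rw [Set.mem_smul_set_iff_inv_smul_mem] at haC; exact haC)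
        have h3 : h • B = B := by conv_lhs => rw [← h1]
                                  rw [smul_inv_smul]
        exact hc (h3 ▸ hcC)
      refine hfix (h • B) (hB.translate h) ?_ c hcC a haC g hgc hga h⁻¹ (by rw [← hh, inv_smul_smul]) z
        (by rw [inv_smul_smul]; exact hz)
      exact ⟨h • a, Set.smul_mem_smul_set ha, h • a', Set.smul_mem_smul_set ha', fun e => haa (MulAction.injective h e)⟩
    have heq : ∀ c, c ∉ B → S2 a c = S2 a a' := by
      intro c hc
      refine Subgroup.eq_of_le_of_card_ge (fun g hg => ⟨hg.1, hall c hc g hg.1 hg.2 a' ha'⟩) ?_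
      rw [hS2 a c (fun e => hc (e ▸ ha)), hS2 a a' haa]
    apply hm1
    rw [← hS2 a a' haa, Subgroup.card_eq_one, Subgroup.eq_bot_iff_forall]
    intro g hg
    have hg0 : g ∈ S2 a c₀ := by rw [heq c₀ hc₀]; exact hg
    apply Subtype.ext
    refine eq_of_smul_eq_smul fun z : α => ?_
    rw [show ((1 : N) : G) = 1 from rfl, one_smul]
    by_cases hz : z ∈ B
    · exact hall c₀ hc₀ g hg0.1 hg0.2 z hz
    · have : g ∈ S2 a z := by rw [heq z hz]; exact hg
      exact this.2
  refine ⟨?_, hprim⟩
  haveI : Nontrivial N := (Subgroup.nontrivial_iff_ne_bot N).mpr hN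
  refine ⟨fun M0 hM0 => ?_⟩
  rw [or_iff_not_imp_left]
  intro hM0ne
  haveI : Finite (Subgroup N) := Finite.of_injective (fun K => (K : Set N)) SetLike.coe_injective
  obtain ⟨K, hKM, hKmin⟩ := Finite.exists_le_minimal
    (p := fun K : Subgroup N => K.Normal ∧ K ≠ ⊥) (a := M0) ⟨hM0, hM0ne⟩
  haveI hKn : K.Normal := hKmin.prop.1
  have hKne : K ≠ ⊥ := hKmin.prop.2
  suffices K = ⊤ by rw [this] at hKM; exact top_le_iff.mp hKM
  -- conjugates of `K` under `G`
  let cj : G → N ≃* N := fun g =>
    { toFun := fun x => ⟨g * x * g⁻¹, Subgroup.Normal.conj_mem inferInstance _ x.2 g⟩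
      invFun := fun x => ⟨g⁻¹ * x * g, by
        have := Subgroup.Normal.conj_mem (inferInstance : N.Normal) _ x.2 g⁻¹
        rwa [inv_inv] at this⟩
      left_inv := fun x => Subtype.ext (by simp [mul_assoc])
      right_inv := fun x => Subtype.ext (by simp [mul_assoc])
      map_mul' := fun x y => Subtype.ext (by simp [mul_assoc]) }
  let C : G → Subgroup N := fun g => K.map (cj g).toMonoidHom
  have hCn : ∀ g, (C g).Normal := fun g => hKn.map _ (cj g).surjective
  have hKnmin : ∀ L : Subgroup N, L.Normal → L ≤ K → L = ⊥ ∨ L = K := by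
    intro L hL hLK
    rw [or_iff_not_imp_left]
    intro hLne
    exact le_antisymm hLK (hKmin.le_of_le ⟨hL, hLne⟩ hLK)
  by_cases hall : ∀ g, C g = K
  · have hn : (K.map N.subtype).Normal := ⟨by
      rintro _ ⟨x, hx, rfl⟩ g
      refine ⟨cj g x, ?_, rfl⟩
      rw [← hall g]; exact ⟨x, hx, rfl⟩⟩
    rcases hmin _ hn (Subgroup.map_subtype_le K) with h | h
    · exact absurd ((Subgroup.map_eq_bot_iff_of_injective _ N.subtype_injective).mp h) hKne
    · rw [eq_top_iff]
      intro x _
      obtain ⟨y, hy, hye⟩ : (x : G) ∈ K.map N.subtype := by rw [h]; exact x.2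
      rwa [← Subtype.ext (by exact hye) (a1 := y) (a2 := x)]
  exfalso
  push Not at hall
  obtain ⟨g₁, hg₁⟩ := hall
  haveI : FaithfulSMul N α := ⟨fun {g k} h => Subtype.ext (eq_of_smul_eq_smul h)⟩
  haveI := hprim
  haveI := hCn g₁
  have hCmin : ∀ g, ∀ L : Subgroup N, L.Normal → L ≤ C g → L = ⊥ ∨ L = C g := by
    intro g L hL hLC
    rcases hKnmin (L.comap (cj g).toMonoidHom) (hL.comap _) (by
      intro x hx
      obtain ⟨y, hy, hye⟩ := hLC hx
      rwa [← (cj g).injective hye]) with h | h
    · left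
      rw [Subgroup.eq_bot_iff_forall]
      intro x hx
      obtain ⟨y, -, rfl⟩ := hLC hx
      have h1 : y ∈ L.comap (cj g).toMonoidHom := hx
      rw [h, Subgroup.mem_bot] at h1
      rw [h1, map_one]
    · right
      apply le_antisymm hLC
      rintro _ ⟨y, hy, rfl⟩
      rw [← h] at hy
      exact hy
  have hCne : ∀ g, C g ≠ ⊥ := fun g h => hKne
    ((Subgroup.map_eq_bot_iff_of_injective _ (cj g).injective).mp h)
  let img : Subgroup N → Subgroup (Equiv.Perm α) := fun L => (L.map N.subtype).map G.subtype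
  have himg : ∀ L : Subgroup N, L.Normal → L ≠ ⊥ → MulAction.IsPretransitive (img L) α := by
    intro L hL hLne
    haveI := CfsgLib.Perm.normal_isPretransitive (α := α) (N := L) hLne
    constructor
    intro x y
    obtain ⟨⟨l, hl⟩, hxy⟩ := MulAction.exists_smul_eq L x y
    exact ⟨⟨((l : G) : Equiv.Perm α), (l : G), ⟨l, hl, rfl⟩, rfl⟩, hxy⟩
  have himgc : ∀ L L' : Subgroup N, (∀ x ∈ L, ∀ y ∈ L', x * y = y * x) → ∀ x ∈ img L, ∀ y ∈ img L', x * y = y * x := by
    rintro L L' h _ ⟨_, ⟨x, hx, rfl⟩, rfl⟩ _ ⟨_, ⟨y, hy, rfl⟩, rfl⟩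
    exact congrArg (fun z : N => ((z : G) : Equiv.Perm α)) (h x hx y hy)
  have himginj : Function.Injective img := fun L L' h =>
    Subgroup.map_injective N.subtype_injective (Subgroup.map_injective G.subtype_injective h)
  have hcomm := CfsgLib.Perm.commute_of_minimal K (C g₁) hKnmin (hCmin g₁) hg₁
  haveI := himg K hKn hKne
  have hthree : ∀ g, C g = K ∨ C g = C g₁ := by
    intro g
    rw [or_iff_not_imp_left]
    intro hne
    haveI := hCn g
    apply himginj
    have h1 := CfsgLib.Perm.centralizer_eq_of_transitive (img K) (img (C g)) (himg _ (hCn g) (hCne g))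
      (himgc _ _ (CfsgLib.Perm.commute_of_minimal K (C g) hKnmin (hCmin g) hne))
    have h2' := CfsgLib.Perm.centralizer_eq_of_transitive (img K) (img (C g₁)) (himg _ (hCn g₁) (hCne g₁))
      (himgc _ _ hcomm)
    exact h1.symm.trans h2'
  have hcjmul : ∀ (g g' : G) (x : N), cj g (cj g' x) = cj (g * g') x := fun g g' x =>
    Subtype.ext (by simp [cj, mul_assoc])
  have hU : ((K ⊔ C g₁).map N.subtype).Normal := ⟨by
    rintro _ ⟨x, hx, rfl⟩ g
    refine ⟨cj g x, ?_, rfl⟩
    have hle : (K ⊔ C g₁).map (cj g).toMonoidHom ≤ K ⊔ C g₁ := by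
      rw [Subgroup.map_sup, sup_le_iff]
      have hm1 : C g ≤ K ⊔ C g₁ := by
        rcases hthree g with h | h <;> rw [h]
        · exact le_sup_left
        · exact le_sup_right
      have hm2 : (C g₁).map (cj g).toMonoidHom ≤ K ⊔ C g₁ := by
        have : (C g₁).map (cj g).toMonoidHom = C (g * g₁) := by
          rw [Subgroup.map_map]
          congr 1
        rw [this]
        rcases hthree (g * g₁) with h | h <;> rw [h]
        · exact le_sup_left
        · exact le_sup_right
      exact ⟨hm1, hm2⟩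
    exact hle ⟨x, hx, rfl⟩⟩
  have hsup : K ⊔ C g₁ = ⊤ := by
    rcases hmin _ hU (Subgroup.map_subtype_le _) with h | h
    · have h1 := (Subgroup.map_eq_bot_iff_of_injective _ N.subtype_injective).mp h
      exact absurd (le_bot_iff.mp (h1 ▸ le_sup_left)) hKne
    · rw [eq_top_iff]
      intro x _
      obtain ⟨y, hy, hye⟩ : (x : G) ∈ (K ⊔ C g₁).map N.subtype := by rw [h]; exact x.2
      rwa [← Subtype.ext (by exact hye) (a1 := y) (a2 := x)]
  have hdis : Disjoint K (C g₁) := by
    rw [disjoint_iff]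
    rcases hKnmin (K ⊓ C g₁) inferInstance inf_le_left with h | h
    · exact h
    · rcases hCmin g₁ (K ⊓ C g₁) inferInstance inf_le_right with h' | h'
      · exact h'
      · exact absurd (h'.symm.trans h) hg₁
  have hcompl : Subgroup.IsComplement' K (C g₁) := by
    refine Subgroup.isComplement'_of_disjoint_and_mul_eq_univ hdis ?_
    rw [← Subgroup.normal_mul K (C g₁), hsup, Subgroup.coe_top]
  have hcardN := hcompl.card_mul
  haveI := himg _ (hCn g₁) (hCne g₁)
  obtain ⟨a⟩ : Nonempty α := ⟨u₀⟩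
  have hcK : Nat.card (img K) = Nat.card α := CfsgLib.Perm.natCard_eq_of_regular
    (CfsgLib.Perm.stabilizer_eq_bot_of_commute_transitive (img (C g₁)) (img K)
      (himgc _ _ fun x hx y hy => (hcomm y hy x hx).symm) a)
  have hcC : Nat.card (img (C g₁)) = Nat.card α := CfsgLib.Perm.natCard_eq_of_regular
    (CfsgLib.Perm.stabilizer_eq_bot_of_commute_transitive (img K) (img (C g₁))
      (himgc _ _ hcomm) a)
  have hcardimg : ∀ L : Subgroup N, Nat.card (img L) = Nat.card L := fun L =>
    ((Nat.card_congr (L.equivMapOfInjective _ N.subtype_injective).toEquiv).trans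
      (Nat.card_congr ((L.map N.subtype).equivMapOfInjective _ G.subtype_injective).toEquiv)).symm
  rw [← hcardimg, ← hcardimg (C g₁), hcK, hcC, CfsgLib.Perm.natCard_eq_mul_stabilizer (G := N) u₀] at hcardN
  have hsn : s = Nat.card α := (Nat.eq_of_mul_eq_mul_left (by rw [Nat.card_eq_fintype_card]; omega) hcardN).symm
  have hr1 : r ∣ Nat.card α := hsn ▸ ⟨m, hrm.symm⟩
  have hr2 : r ∣ Nat.card α - 1 := by
    have h1 : r ∣ ((Set.univ : Set α) \ {u₀}).ncard := by
      refine CfsgLib.Perm.dvd_ncard_of_orbits (H := S1 u₀) _ r (fun k z hz => ⟨trivial, fun e => hz.2 ?_⟩)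
        fun z hz => horbr u₀ z (fun e => hz.2 e.symm)
      exact MulAction.injective (k : N) ((Set.mem_singleton_iff.mp e).trans (k.2 : (k : N) • u₀ = u₀).symm)
    rwa [Set.ncard_sdiff_singleton_of_mem (Set.mem_univ u₀), Set.ncard_univ] at h1
  have hr3 : r = 1 := by
    have := Nat.dvd_sub hr1 hr2
    rwa [Nat.sub_sub_self (by rw [Nat.card_eq_fintype_card]; omega), Nat.dvd_one] at this
  rw [hr3, one_mul] at hrm
  have hS1bot : S1 u₀ = ⊥ := by
    rw [Subgroup.eq_bot_iff_forall]
    intro g hg
    apply Subtype.ext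
    refine eq_of_smul_eq_smul fun z : α => ?_
    rw [show ((1 : N) : G) = 1 from rfl, one_smul]
    by_cases hz : z = u₀
    · rw [hz]; exact hg
    · have : S2 u₀ z = S1 u₀ := Subgroup.eq_of_le_of_card_ge inf_le_left (by
        rw [hS2 u₀ z (Ne.symm hz), hrm])
      rw [← this] at hg
      exact hg.2
  apply hm1
  rw [hrm, hs, hS1bot, Subgroup.card_bot]

end Cfsg.Agent.S0700
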