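import Cfsg.Statements.S0701
import Cfsg.Agent.Lib.Perm.Basic

set_option autoImplicit false
open Cfsg

namespace Cfsg.Agent.S0701

/-- The centraliser in the full symmetric group of a transitive permutation group `G` is semiregular, and it is transitive if and only if `G` is regular. -/
theorem result {α : Type*} (G : Subgroup (Equiv.Perm α)) [MulAction.IsPretransitive G α] : (∀ c ∈ Subgroup.centralizer (G : Set (Equiv.Perm α)), ∀ a : α, c a = a → c = 1) ∧ (MulAction.IsPretransitive (Subgroup.centralizer (G : Set (Equiv.Perm α))) α ↔ ∀ a : α, MulAction.stabilizer G a = ⊥) := by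
  have key : ∀ c ∈ Subgroup.centralizer (G : Set (Equiv.Perm α)), ∀ a : α, c a = a → c = 1 := by
    intro c hc a ha
    refine CfsgLib.Perm.perm_eq_one_of_commute_of_fix (G := G) (fun g x => ?_) ha
    have := hc (g : Equiv.Perm α) g.2
    exact (congrArg (fun f : Equiv.Perm α => f x) this).symm
  refine ⟨key, ?_, ?_⟩
  · intro hC a
    rw [Subgroup.eq_bot_iff_forall]
    intro g hg
    apply Subtype.ext
    apply Equiv.ext
    intro x
    obtain ⟨⟨c, hc⟩, rfl⟩ := hC.exists_smul_eq a x
    have := congrArg (fun f : Equiv.Perm α => f a) (hc (g : Equiv.Perm α) g.2)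
    change (g : Equiv.Perm α) (c a) = c a
    simp only [Equiv.Perm.mul_apply] at this
    rw [this]
    exact congrArg c hg
  · intro h
    constructor
    intro a b
    let e := CfsgLib.Perm.regularEquiv (h a)
    let f := CfsgLib.Perm.regularEquiv (h b)
    refine ⟨⟨e.symm.trans f, ?_⟩, ?_⟩
    · intro g hg
      ext x
      simp only [Equiv.Perm.mul_apply, Equiv.trans_apply]
      have : e.symm (g x) = ⟨g, hg⟩ * e.symm x := by
        rw [Equiv.symm_apply_eq]
        show g x = (⟨g, hg⟩ * e.symm x) • a
        rw [mul_smul]
        exact congrArg g (e.apply_symm_apply x).symm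
      rw [this]
      show g (f (e.symm x)) = (⟨g, hg⟩ * e.symm x) • b
      rw [mul_smul]; rfl
    · show f (e.symm a) = b
      have : e.symm a = 1 := by rw [Equiv.symm_apply_eq]; exact (one_smul G a).symm
      rw [this]; exact one_smul G b

end Cfsg.Agent.S0701
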