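import Cfsg.Statements.S0702
import Cfsg.Agent.Lib.Perm.Basic

set_option autoImplicit false
open Cfsg

namespace Cfsg.Agent.S0702

/-- For a transitive permutation group `G` on a finite set, the centraliser of `G` in the symmetric group is isomorphic to `N_G(G_ω)/G_ω`, and its orbit of `ω` is the set of fixed points of `G_ω`. -/
theorem result {α : Type*} [Finite α] (G : Subgroup (Equiv.Perm α)) [MulAction.IsPretransitive G α] (a : α) : Nonempty (Subgroup.centralizer (G : Set (Equiv.Perm α)) ≃* Subgroup.normalizer ((MulAction.stabilizer G a : Subgroup G) : Set G) ⧸ (MulAction.stabilizer G a).subgroupOf (Subgroup.normalizer ((MulAction.stabilizer G a : Subgroup G) : Set G))) ∧ MulAction.orbit (Subgroup.centralizer (G : Set (Equiv.Perm α))) a = MulAction.fixedPoints (MulAction.stabilizer G a) α := by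
  set C := Subgroup.centralizer (G : Set (Equiv.Perm α)) with hCdef
  set H := MulAction.stabilizer G a with hHdef
  have comm : ∀ c ∈ C, ∀ (g : G) (x : α), c (g • x) = g • c x := fun c hc g x =>
    (congrArg (fun f : Equiv.Perm α => f x) (hc (g : Equiv.Perm α) g.2)).symm
  have hst : ∀ c ∈ C, MulAction.stabilizer G (c a) = H := by
    intro c hc
    ext g
    simp only [hHdef, MulAction.mem_stabilizer_iff, ← comm c hc]
    exact c.injective.eq_iff
  have hnorm : ∀ g : G, g ∈ Subgroup.normalizer (H : Set G) ↔ MulAction.stabilizer G (g • a) = H := by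
    intro g
    rw [Subgroup.mem_normalizer_iff]
    constructor
    · intro h
      ext h'
      rw [h (g⁻¹ * h' * g) |>.symm.trans (Iff.rfl) |> fun e => show h' ∈ MulAction.stabilizer G (g • a) ↔ g⁻¹ * h' * g ∈ H by
        simp only [hHdef, MulAction.mem_stabilizer_iff, mul_smul]; rw [inv_smul_eq_iff]]
      have := h (g⁻¹ * h' * g)
      simpa [mul_assoc] using this
    · intro h h'
      conv_rhs => rw [← h]
      simp only [hHdef, MulAction.mem_stabilizer_iff, mul_smul, inv_smul_smul, smul_left_cancel_iff]
  have build : ∀ b : α, MulAction.stabilizer G b = H → ∃ c ∈ C, c a = b := by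
    intro b hb
    choose σ hσ using fun x : α => MulAction.exists_smul_eq G a x
    have inj : Function.Injective fun x => σ x • b := by
      intro x y hxy
      have : (σ y)⁻¹ * σ x ∈ MulAction.stabilizer G b := by
        rw [MulAction.mem_stabilizer_iff, mul_smul]; simp only at hxy; rw [hxy, inv_smul_smul]
      rw [hb, hHdef, MulAction.mem_stabilizer_iff, mul_smul, inv_smul_eq_iff, hσ, hσ] at this
      exact this
    have key : ∀ g h : G, g • a = h • a → g • b = h • b := by
      intro g h e
      have : h⁻¹ * g ∈ H := by rw [hHdef, MulAction.mem_stabilizer_iff, mul_smul, e, inv_smul_smul]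
      rw [← hb, MulAction.mem_stabilizer_iff, mul_smul, inv_smul_eq_iff] at this
      exact this
    refine ⟨Equiv.ofBijective _ (Finite.injective_iff_bijective.mp inj), ?_, ?_⟩
    · intro g hg
      ext x
      show (⟨g, hg⟩ : G) • σ x • b = σ (g x) • b
      rw [← mul_smul]
      apply key
      rw [mul_smul, hσ, hσ]
      rfl
    · show σ a • b = b
      rw [key (σ a) 1 (by rw [hσ, one_smul]), one_smul]
  refine ⟨?_, ?_⟩
  · choose τ hτ using fun c : C => MulAction.exists_smul_eq G a ((c : Equiv.Perm α)⁻¹ a)
    have hτN : ∀ c : C, τ c ∈ Subgroup.normalizer (H : Set G) := fun c => by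
      rw [hnorm, hτ]; exact hst _ (inv_mem c.2)
    let ψ : C →* Subgroup.normalizer (H : Set G) ⧸ H.subgroupOf (Subgroup.normalizer (H : Set G)) :=
      MonoidHom.mk' (fun c => QuotientGroup.mk ⟨τ c, hτN c⟩) (by
        intro c d
        rw [← QuotientGroup.mk_mul]
        apply QuotientGroup.eq.mpr
        show ((τ (c * d))⁻¹ * (τ c * τ d)) ∈ H
        rw [hHdef, MulAction.mem_stabilizer_iff, mul_smul, mul_smul, hτ, inv_smul_eq_iff, hτ,
          ← comm _ (inv_mem d.2), hτ]
        simp)
    have hψ : Function.Bijective ψ := by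
      constructor
      · rw [injective_iff_map_eq_one]
        intro c hc
        have : τ c ∈ H := by
          have := (QuotientGroup.eq_one_iff _).mp hc
          exact this
        rw [hHdef, MulAction.mem_stabilizer_iff, hτ] at this
        apply Subtype.ext
        have h1 : ((c : Equiv.Perm α))⁻¹ = 1 :=
          CfsgLib.Perm.perm_eq_one_of_commute_of_fix (comm _ (inv_mem c.2)) this
        exact inv_eq_one.mp h1
      · intro q
        obtain ⟨⟨g, hg⟩, rfl⟩ := QuotientGroup.mk_surjective q
        obtain ⟨c, hc, hca⟩ := build (g • a) ((hnorm g).mp hg)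
        refine ⟨⟨c⁻¹, inv_mem hc⟩, ?_⟩
        apply QuotientGroup.eq.mpr
        show (τ ⟨c⁻¹, _⟩)⁻¹ * g ∈ H
        rw [hHdef, MulAction.mem_stabilizer_iff, mul_smul, inv_smul_eq_iff, hτ]
        simp [hca]
    exact ⟨MulEquiv.ofBijective ψ hψ⟩
  · ext b
    constructor
    · rintro ⟨⟨c, hc⟩, rfl⟩
      rintro ⟨g, hg⟩
      have : g ∈ MulAction.stabilizer G (c a) := by rw [hst c hc]; exact hg
      exact this
    · intro hb
      have hle : H ≤ MulAction.stabilizer G b := fun g hg => hb ⟨g, hg⟩
      have e1 : Nat.card G = Nat.card α * Nat.card H := CfsgLib.Perm.natCard_eq_mul_stabilizer a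
      have e2 : Nat.card G = Nat.card α * Nat.card (MulAction.stabilizer G b) :=
        CfsgLib.Perm.natCard_eq_mul_stabilizer b
      have hpos : 0 < Nat.card α := by
        have : Nonempty α := ⟨a⟩
        exact Nat.card_pos
      have := Nat.eq_of_mul_eq_mul_left hpos (e2.symm.trans e1)
      have heq : H = MulAction.stabilizer G b := Subgroup.eq_of_le_of_card_ge hle this.le
      obtain ⟨c, hc, rfl⟩ := build b heq.symm
      exact ⟨⟨c, hc⟩, rfl⟩

end Cfsg.Agent.S0702
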