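import Cfsg.Statements.S0703
import Cfsg.Agent.Lib.Perm.TransitiveNormal
import Mathlib.GroupTheory.Perm.Cycle.Type

set_option autoImplicit false
open Cfsg

namespace Cfsg.Agent.S0703

/-- An abelian transitive minimal normal subgroup `M` of a permutation group on a finite set is self-centralising in the symmetric group, regular, elementary abelian, and is the unique minimal normal subgroup. -/
theorem result {α : Type*} [Finite α] (G : Subgroup (Equiv.Perm α)) (M : Subgroup G) [M.Normal] (hM : M ≠ ⊥) (hmin : ∀ L : Subgroup G, L.Normal → L ≤ M → L = ⊥ ∨ L = M) (hab : IsMulCommutative M) (htrans : MulAction.IsPretransitive M α) : Subgroup.centralizer ((M.map G.subtype : Subgroup (Equiv.Perm α)) : Set (Equiv.Perm α)) = M.map G.subtype ∧ (∀ a : α, MulAction.stabilizer M a = ⊥) ∧ (∃ p : ℕ, p.Prime ∧ ∀ m ∈ M, m ^ p = 1) ∧ ∀ L : Subgroup G, L.Normal → L ≠ ⊥ → (∀ L' : Subgroup G, L'.Normal → L' ≤ L → L' = ⊥ ∨ L' = L) → L = M := by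
  set M' := (M.map G.subtype : Subgroup (Equiv.Perm α)) with hM'
  haveI hM't : MulAction.IsPretransitive M' α := CfsgLib.Perm.isPretransitive_map G M htrans
  have hc' : ∀ m ∈ M', ∀ n ∈ M', m * n = n * m := by
    rintro _ ⟨m, hm, rfl⟩ _ ⟨n, hn, rfl⟩
    exact congrArg (fun z : M => ((z : G) : Equiv.Perm α)) (hab.is_comm.comm ⟨m, hm⟩ ⟨n, hn⟩)
  have hC := CfsgLib.Perm.centralizer_eq_of_transitive M' M' hM't hc'
  refine ⟨hC, fun a => ?_, ?_, fun L hL hLne hLmin => ?_⟩
  · rw [Subgroup.eq_bot_iff_forall]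
    intro n hn
    have h0 : (⟨((n : G) : Equiv.Perm α), (n : G), n.2, rfl⟩ : M') ∈ MulAction.stabilizer M' a := hn
    rw [CfsgLib.Perm.stabilizer_eq_bot_of_commute_transitive M' M' hc' a, Subgroup.mem_bot] at h0
    exact Subtype.ext (Subtype.ext (congrArg (fun z : M' => (z : Equiv.Perm α)) h0))
  · haveI : Nontrivial M := (Subgroup.nontrivial_iff_ne_bot M).mpr hM
    obtain ⟨p, hp, hpd⟩ := Nat.exists_prime_and_dvd (n := Nat.card M) (Finite.one_lt_card).ne'
    haveI : Fact p.Prime := ⟨hp⟩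
    obtain ⟨m₀, hm₀⟩ := exists_prime_orderOf_dvd_card' p hpd
    let L : Subgroup G :=
      { carrier := {g | g ∈ M ∧ g ^ p = 1}
        one_mem' := ⟨M.one_mem, one_pow p⟩
        mul_mem' := by
          rintro x y ⟨hx, hxp⟩ ⟨hy, hyp⟩
          refine ⟨M.mul_mem hx hy, ?_⟩
          rw [(show Commute x y from congrArg Subtype.val (hab.is_comm.comm ⟨x, hx⟩ ⟨y, hy⟩)).mul_pow, hxp, hyp, one_mul]
        inv_mem' := by
          rintro x ⟨hx, hxp⟩
          exact ⟨M.inv_mem hx, by rw [inv_pow, hxp, inv_one]⟩ }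
    have hLn : L.Normal := ⟨fun x hx g => ⟨Subgroup.Normal.conj_mem inferInstance x hx.1 g, by
      rw [conj_pow, hx.2]; group⟩⟩
    rcases hmin L hLn (fun x hx => hx.1) with h | h
    · exfalso
      have h1 : (m₀ : G) ∈ L := ⟨m₀.2, by rw [← SubmonoidClass.coe_pow, ← hm₀, pow_orderOf_eq_one]; rfl⟩
      rw [h, Subgroup.mem_bot] at h1
      rw [← Subgroup.orderOf_coe m₀, h1, orderOf_one] at hm₀
      exact hp.ne_one hm₀.symm
    · exact ⟨p, hp, fun m hm => (h.symm ▸ hm : m ∈ L).2⟩
  · by_contra hne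
    haveI := hL
    have h1 := CfsgLib.Perm.commute_of_minimal M L hmin hLmin hne
    have hLM : L ≤ M := by
      intro l hl
      have : (l : Equiv.Perm α) ∈ Subgroup.centralizer (M' : Set (Equiv.Perm α)) := by
        rintro _ ⟨m, hm, rfl⟩
        exact congrArg Subtype.val (h1 m hm l hl)
      rw [hC] at this
      exact CfsgLib.Perm.mem_map_subtype this
    rcases hmin L hL hLM with h | h
    · exact hLne h
    · exact hne h

end Cfsg.Agent.S0703
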