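import Cfsg.Statements.S0704
import Cfsg.Agent.Lib.Perm.TransitiveNormal

set_option autoImplicit false
open Cfsg

namespace Cfsg.Agent.S0704

/-- Two distinct transitive minimal normal subgroups `M`, `N` of a permutation group are regular, non-abelian, isomorphic, each other's centraliser in the symmetric group, and the only minimal normal subgroups. -/
theorem result {α : Type*} (G : Subgroup (Equiv.Perm α)) (M N : Subgroup G) [M.Normal] [N.Normal] (hM : M ≠ ⊥) (hN : N ≠ ⊥) (hMmin : ∀ L : Subgroup G, L.Normal → L ≤ M → L = ⊥ ∨ L = M) (hNmin : ∀ L : Subgroup G, L.Normal → L ≤ N → L = ⊥ ∨ L = N) (hMN : M ≠ N) (hMt : MulAction.IsPretransitive M α) (hNt : MulAction.IsPretransitive N α) : (∀ a : α, MulAction.stabilizer M a = ⊥) ∧ (∀ a : α, MulAction.stabilizer N a = ⊥) ∧ ¬ IsMulCommutative M ∧ Nonempty (M ≃* N) ∧ Subgroup.centralizer ((M.map G.subtype : Subgroup (Equiv.Perm α)) : Set (Equiv.Perm α)) = N.map G.subtype ∧ Subgroup.centralizer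 ((N.map G.subtype : Subgroup (Equiv.Perm α)) : Set (Equiv.Perm α)) = M.map G.subtype ∧ ∀ L : Subgroup G, L.Normal → L ≠ ⊥ → (∀ L' : Subgroup G, L'.Normal → L' ≤ L → L' = ⊥ ∨ L' = L) → L = M ∨ L = N := by
  set M' := (M.map G.subtype : Subgroup (Equiv.Perm α)) with hM'
  set N' := (N.map G.subtype : Subgroup (Equiv.Perm α)) with hN'
  haveI hM't : MulAction.IsPretransitive M' α := CfsgLib.Perm.isPretransitive_map G M hMt
  haveI hN't : MulAction.IsPretransitive N' α := CfsgLib.Perm.isPretransitive_map G N hNt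
  have hc := CfsgLib.Perm.commute_of_minimal M N hMmin hNmin hMN.symm
  have hc' : ∀ m ∈ M', ∀ n ∈ N', m * n = n * m := by
    rintro _ ⟨m, hm, rfl⟩ _ ⟨n, hn, rfl⟩
    exact congrArg Subtype.val (hc m hm n hn)
  have hc'' : ∀ n ∈ N', ∀ m ∈ M', n * m = m * n := fun n hn m hm => (hc' m hm n hn).symm
  have hsN : ∀ a : α, MulAction.stabilizer N a = ⊥ := fun a => by
    rw [Subgroup.eq_bot_iff_forall]
    intro n hn
    have h0 : (⟨((n : G) : Equiv.Perm α), (n : G), n.2, rfl⟩ : N') ∈ MulAction.stabilizer N' a := hn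
    rw [CfsgLib.Perm.stabilizer_eq_bot_of_commute_transitive M' N' hc' a, Subgroup.mem_bot] at h0
    exact Subtype.ext (Subtype.ext (congrArg (fun z : N' => (z : Equiv.Perm α)) h0))
  have hsM : ∀ a : α, MulAction.stabilizer M a = ⊥ := fun a => by
    rw [Subgroup.eq_bot_iff_forall]
    intro n hn
    have h0 : (⟨((n : G) : Equiv.Perm α), (n : G), n.2, rfl⟩ : M') ∈ MulAction.stabilizer M' a := hn
    rw [CfsgLib.Perm.stabilizer_eq_bot_of_commute_transitive N' M' hc'' a, Subgroup.mem_bot] at h0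
    exact Subtype.ext (Subtype.ext (congrArg (fun z : M' => (z : Equiv.Perm α)) h0))
  obtain ⟨m₀, hm₀, hm₀1⟩ := (Subgroup.ne_bot_iff_exists_ne_one).mp hM |> fun ⟨m, hm⟩ => (⟨(m : G), m.2, fun e => hm (Subtype.ext e)⟩ : ∃ m, m ∈ M ∧ m ≠ 1)
  have hne : Nonempty α := by
    by_contra h
    exact hm₀1 (Subtype.ext (Equiv.ext fun x => (h ⟨x⟩).elim))
  obtain ⟨a⟩ := hne
  have hCM := CfsgLib.Perm.centralizer_eq_of_transitive M' N' hN't hc'
  have hCN := CfsgLib.Perm.centralizer_eq_of_transitive N' M' hM't hc''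
  refine ⟨hsM, hsN, fun hab => ?_, ?_, hCM, hCN, fun L hL hLne hLmin => ?_⟩
  · have h1 : (m₀ : Equiv.Perm α) ∈ Subgroup.centralizer (M' : Set (Equiv.Perm α)) := by
      rintro _ ⟨m, hm, rfl⟩
      exact congrArg (fun z : M => ((z : G) : Equiv.Perm α))
        (hab.is_comm.comm ⟨m, hm⟩ ⟨m₀, hm₀⟩)
    rw [hCM] at h1
    have h2 : m₀ ∈ M ⊓ N := ⟨hm₀, CfsgLib.Perm.mem_map_subtype h1⟩
    rcases hMmin (M ⊓ N) inferInstance inf_le_left with h | h
    · rw [h, Subgroup.mem_bot] at h2; exact hm₀1 h2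
    · rcases hNmin (M ⊓ N) inferInstance inf_le_right with h' | h'
      · rw [h', Subgroup.mem_bot] at h2; exact hm₀1 h2
      · exact hMN (h.symm.trans h')
  · haveI := hMt
    haveI := hNt
    let φ := CfsgLib.Perm.regularEquiv (hsN a)
    let ψ := CfsgLib.Perm.regularEquiv (hsM a)
    refine ⟨MulEquiv.ofBijective (MonoidHom.mk' (fun m => φ.symm (ψ m⁻¹)) fun x y => ?_)
      (((Equiv.inv M).trans ψ).trans φ.symm).bijective⟩
    rw [Equiv.symm_apply_eq]
    show ((x * y)⁻¹ : M) • a = ((φ.symm (ψ x⁻¹) * φ.symm (ψ y⁻¹) : N)) • a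
    rw [mul_smul, show φ.symm (ψ y⁻¹) • a = ψ y⁻¹ from φ.apply_symm_apply _, mul_inv_rev, mul_smul]
    show _ = φ.symm (ψ x⁻¹) • (y⁻¹ : M) • a
    have h1 : φ.symm (ψ x⁻¹) • a = (x⁻¹ : M) • a := φ.apply_symm_apply _
    rw [← h1]
    exact congrArg (fun f : Equiv.Perm α => f a)
      (congrArg Subtype.val (hc ((y⁻¹ : M) : G) (y⁻¹).2 ((φ.symm (ψ x⁻¹) : N) : G) (φ.symm (ψ x⁻¹)).2))
  · by_contra hcon
    push Not at hcon
    haveI := hL
    have h1 := CfsgLib.Perm.commute_of_minimal M L hMmin hLmin hcon.1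
    have hLN : L ≤ N := by
      intro l hl
      have : (l : Equiv.Perm α) ∈ Subgroup.centralizer (M' : Set (Equiv.Perm α)) := by
        rintro _ ⟨m, hm, rfl⟩
        exact congrArg Subtype.val (h1 m hm l hl)
      rw [hCM] at this
      exact CfsgLib.Perm.mem_map_subtype this
    rcases hNmin L hL hLN with h | h
    · exact hLne h
    · exact hcon.2 h

end Cfsg.Agent.S0704
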