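import Cfsg.Statements.S0707
import Cfsg.Agent.Lib.Perm.Basic
import Mathlib.GroupTheory.GroupAction.Primitive
import Mathlib.GroupTheory.SpecificGroups.Cyclic

set_option autoImplicit false
open Cfsg

namespace Cfsg.Agent.S0707

/-- In a primitive permutation group, distinct points have distinct stabilisers unless the group is regular of prime degree. -/
theorem result {α : Type*} (G : Subgroup (Equiv.Perm α)) [MulAction.IsPreprimitive G α] (h : ¬ (Nat.card α).Prime ∨ ∃ a : α, MulAction.stabilizer G a ≠ ⊥) {a b : α} (hab : a ≠ b) : MulAction.stabilizer G a ≠ MulAction.stabilizer G b := by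
  intro heq
  set B : Set α := {x | MulAction.stabilizer G x = MulAction.stabilizer G a}
  have hB : MulAction.IsBlock G B := by
    rw [MulAction.isBlock_iff_smul_eq_of_mem]
    intro g x hx hgx
    have e : ∀ y : α, MulAction.stabilizer G (g • y) = MulAction.stabilizer G (g • x) ↔
        MulAction.stabilizer G y = MulAction.stabilizer G x := fun y => by
      rw [MulAction.stabilizer_smul_eq_stabilizer_map_conj g y, MulAction.stabilizer_smul_eq_stabilizer_map_conj g x,
        (Subgroup.map_injective (MulEquiv.injective _)).eq_iff]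
    ext z
    rw [Set.mem_smul_set_iff_inv_smul_mem]
    show MulAction.stabilizer G (g⁻¹ • z) = _ ↔ MulAction.stabilizer G z = _
    have := e (g⁻¹ • z)
    rw [smul_inv_smul, hgx, hx] at this
    exact this.symm
  rcases hB.subsingleton_or_eq_univ with hs | hu
  · exact hab (hs (show a ∈ B from rfl) (show b ∈ B from heq.symm))
  · have hall : ∀ x, MulAction.stabilizer G x = MulAction.stabilizer G a :=
      fun x => Set.eq_univ_iff_forall.mp hu x
    have hbot : MulAction.stabilizer G a = ⊥ := by
      rw [Subgroup.eq_bot_iff_forall]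
      intro g hg
      apply Subtype.ext
      ext x
      rw [← hall x] at hg
      exact hg
    have : Nontrivial α := ⟨⟨a, b, hab⟩⟩
    have hco := MulAction.IsPreprimitive.isCoatom_stabilizer_of_isPreprimitive G a
    rw [hbot] at hco
    have hnt : Nontrivial G := by
      obtain ⟨g, hg⟩ := MulAction.exists_smul_eq G a b
      exact ⟨⟨g, 1, fun e => hab (by rw [← hg, e, one_smul])⟩⟩
    have : IsSimpleOrder (Subgroup G) := by
      refine ⟨fun K => ?_⟩
      by_cases hK : K = ⊥
      · exact Or.inl hK
      · exact Or.inr (hco.2 K (Ne.bot_lt hK))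
    have hsimple : IsSimpleGroup G := ⟨fun K _ => eq_bot_or_eq_top K⟩
    obtain ⟨g0, hg0⟩ := exists_ne (1 : G)
    have hcyc : IsCyclic G := by
      refine ⟨g0, fun x => ?_⟩
      rcases eq_bot_or_eq_top (Subgroup.zpowers g0) with h0 | h0
      · exact absurd (Subgroup.zpowers_eq_bot.mp h0) hg0
      · exact Subgroup.mem_zpowers_iff.mp (by rw [h0]; exact Subgroup.mem_top x)
    letI : CommGroup G := IsCyclic.commGroup
    have hp : (Nat.card G).Prime := IsSimpleGroup.prime_card
    rw [CfsgLib.Perm.natCard_eq_of_regular hbot] at hp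
    rcases h with h | ⟨c, hc⟩
    · exact h hp
    · exact hc ((hall c).trans hbot)

end Cfsg.Agent.S0707
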