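import Cfsg.Statements.S0709
import Mathlib.GroupTheory.GroupAction.MultipleTransitivity
import Mathlib.Tactic.Group

set_option autoImplicit false
open Cfsg

namespace Cfsg.Agent.S0709

/-- If `s` normalises `A` up to `B` and satisfies a braid-type relation, `B ∪ B s B` is a subgroup. -/
theorem mem_double_of_closure {M : Type*} [Group M] (A B : Subgroup M) (s r : M) (hAB : A ≤ B) (hr : r ∈ B)
    (hB : ∀ b ∈ B, b ∈ A ∨ ∃ a ∈ A, ∃ c ∈ A, b = a * r * c) (hs2 : s * s ∈ B)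
    (hA : ∀ a ∈ A, s * a * s⁻¹ ∈ A)
    (hbr : ∃ b ∈ B, ∃ c ∈ B, s * r * s = b * s * c) :
    ∀ g ∈ Subgroup.closure ((B : Set M) ∪ {s}), g ∈ B ∨ ∃ b ∈ B, ∃ c ∈ B, g = b * s * c := by
  have hsinv : s⁻¹ = (s * s)⁻¹ * s := by group
  have hmul : ∀ b ∈ B, s * b * s ∈ B ∨ ∃ b' ∈ B, ∃ c ∈ B, s * b * s = b' * s * c := by
    intro b hb
    rcases hB b hb with h | ⟨a, ha, c, hc, rfl⟩
    · left
      rw [show s * b * s = s * b * s⁻¹ * (s * s) by group]
      exact B.mul_mem (hAB (hA b h)) hs2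
    · right
      obtain ⟨b', hb', c', hc', he⟩ := hbr
      refine ⟨s * a * s⁻¹ * b', B.mul_mem (hAB (hA a ha)) hb', c' * ((s * s)⁻¹ * (s * c * s⁻¹) * (s * s)),
        B.mul_mem hc' (B.mul_mem (B.mul_mem (B.inv_mem hs2) (hAB (hA c hc))) hs2), ?_⟩
      calc s * (a * r * c) * s = (s * a * s⁻¹) * (s * r * s) * ((s * s)⁻¹ * (s * c * s⁻¹) * (s * s)) := by group
        _ = _ := by rw [he]; group
  intro g hg
  induction hg using Subgroup.closure_induction with
  | mem g hg =>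
    rcases hg with hg | hg
    · exact Or.inl hg
    · exact Or.inr ⟨1, B.one_mem, 1, B.one_mem, by rw [Set.mem_singleton_iff.mp hg]; group⟩
  | one => exact Or.inl B.one_mem
  | inv g _ h =>
    rcases h with h | ⟨b, hb, c, hc, rfl⟩
    · exact Or.inl (B.inv_mem h)
    · refine Or.inr ⟨c⁻¹ * (s * s)⁻¹, B.mul_mem (B.inv_mem hc) (B.inv_mem hs2), b⁻¹, B.inv_mem hb, ?_⟩
      rw [mul_inv_rev, mul_inv_rev, hsinv]; group
  | mul x y _ _ hx hy =>
    rcases hx with hx | ⟨b, hb, c, hc, rfl⟩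
    · rcases hy with hy | ⟨b', hb', c', hc', rfl⟩
      · exact Or.inl (B.mul_mem hx hy)
      · exact Or.inr ⟨x * b', B.mul_mem hx hb', c', hc', by group⟩
    · rcases hy with hy | ⟨b', hb', c', hc', rfl⟩
      · exact Or.inr ⟨b, hb, c * y, B.mul_mem hc hy, by group⟩
      · rcases hmul (c * b') (B.mul_mem hc hb') with h | ⟨u, hu, v, hv, he⟩
        · refine Or.inl ?_
          rw [show b * s * c * (b' * s * c') = b * (s * (c * b') * s) * c' by group]
          exact B.mul_mem (B.mul_mem hb h) hc'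
        · refine Or.inr ⟨b * u, B.mul_mem hb hu, v * c', B.mul_mem hv hc', ?_⟩
          rw [show b * s * c * (b' * s * c') = b * (s * (c * b') * s) * c' by group, he]; group

variable {α : Type*}

/-- The chain of subgroups of the construction. -/
def chain (G : Subgroup (Equiv.Perm α)) (q : ℕ → α) (s : ℕ → Equiv.Perm α) : ℕ → Subgroup (Equiv.Perm α)
  | 0 => G ⊓ MulAction.stabilizer (Equiv.Perm α) (q 2)
  | j + 1 => Subgroup.closure ((G : Set (Equiv.Perm α)) ∪ {x | ∃ i : ℕ, 2 ≤ i ∧ i ≤ j + 1 ∧ x = s i})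

/-- Witt's Lemma for constructing transitive extensions. Points `q 1, …, q t` (`t ≥ 2`) of a finite set are given; `G` fixes `q i` for `i ≥ 3` and is doubly transitive on the remaining points; `s 1 ∈ G` swaps `q 1, q 2`; for `2 ≤ i ≤ t-1`, `s i` swaps `q i, q (i+1)` and fixes the other `q j`; with `H` the stabiliser of `q 1, q 2` in `G`: `s i ^ 2 ∈ H`, `(s i * s (i+1)) ^ 3 ∈ H`, `(s i * s j) ^ 2 ∈ H` for `j ≥ i + 2`, and `s i` (`i ≥ 2`) normalises the stabiliser of `q 2` in `G`. Then `G` and the `s i` generate a `t`-transitive group whose pointwise stabiliser of the `q`'s is `H`. -/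
theorem result {α : Type*} [Fintype α] [DecidableEq α] (t : ℕ) (ht : 2 ≤ t) (q : ℕ → α) (hq : ∀ i j : ℕ, 1 ≤ i → i ≤ t → 1 ≤ j → j ≤ t → q i = q j → i = j) (G : Subgroup (Equiv.Perm α)) (hfix : ∀ g ∈ G, ∀ i : ℕ, 3 ≤ i → i ≤ t → g (q i) = q i) (h2 : ∀ a b c d : α, (∀ i, 3 ≤ i → i ≤ t → a ≠ q i ∧ b ≠ q i ∧ c ≠ q i ∧ d ≠ q i) → a ≠ b → c ≠ d → ∃ g ∈ G, g a = c ∧ g b = d) (s : ℕ → Equiv.Perm α) (hs1 : s 1 ∈ G) (hs1q : s 1 (q 1) = q 2 ∧ s 1 (q 2) = q 1) (hsq : ∀ i : ℕ, 2 ≤ i → i + 1 ≤ t → s i (q i) = q (i + 1) ∧ s i (q (i + 1)) = q i ∧ ∀ j : ℕ, 1 ≤ j → j ≤ t → j ≠ i → j ≠ i + 1 → s i (q j) = q j) (H : Subgroup (Equiv.Perm α)) (hH : H = G ⊓ MulAction.stabilizer (Equiv.Perm α) (q 1) ⊓ MulAction.stabilizer (Equiv.Perm α) (q 2)) (hsq2 : ∀ i : ℕ, 1 ≤ i → i + 1 ≤ t → s i ^ 2 ∈ H) (hbraid : ∀ i : ℕ, 1 ≤ i → i + 2 ≤ t → (s i * s (i + 1)) ^ 3 ∈ H) (hcomm : ∀ i j : ℕ, 1 ≤ i → i + 2 ≤ j → j + 1 ≤ t → (s i * s j) ^ 2 ∈ H ∧ (s j * s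 i) ^ 2 ∈ H) (hnorm : ∀ i : ℕ, 2 ≤ i → i + 1 ≤ t → ∀ g ∈ G ⊓ MulAction.stabilizer (Equiv.Perm α) (q 2), s i * g * (s i)⁻¹ ∈ G ⊓ MulAction.stabilizer (Equiv.Perm α) (q 2)) : MulAction.IsMultiplyPretransitive ↥(Subgroup.closure ((G : Set (Equiv.Perm α)) ∪ {x | ∃ i : ℕ, 2 ≤ i ∧ i + 1 ≤ t ∧ x = s i})) α t ∧ Subgroup.closure ((G : Set (Equiv.Perm α)) ∪ {x | ∃ i : ℕ, 2 ≤ i ∧ i + 1 ≤ t ∧ x = s i}) ⊓ fixingSubgroup (Equiv.Perm α) {x | ∃ i : ℕ, 1 ≤ i ∧ i ≤ t ∧ x = q i} = H := by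
  classical
  set K := chain G q s with hK
  have hK1 : K 1 = G := by
    refine le_antisymm ((Subgroup.closure_le G).mpr ?_) (fun g hg => Subgroup.subset_closure (Or.inl hg))
    rintro g (hg | ⟨i, hi, hi', -⟩)
    · exact hg
    · exact absurd (hi.trans hi') (by decide)
  have hK0 : K 0 = G ⊓ MulAction.stabilizer (Equiv.Perm α) (q 2) := rfl
  have hmono : ∀ j, K j ≤ K (j + 1) := by
    intro j
    cases j with
    | zero => intro g hg; exact Subgroup.subset_closure (Or.inl hg.1)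
    | succ j =>
      refine Subgroup.closure_mono ?_
      rintro g (hg | ⟨i, hi, hi', rfl⟩)
      · exact Or.inl hg
      · exact Or.inr ⟨i, hi, by omega, rfl⟩
  have hGK : ∀ j, 1 ≤ j → G ≤ K j := by
    intro j hj
    obtain ⟨j, rfl⟩ : ∃ k, j = k + 1 := ⟨j - 1, by omega⟩
    exact fun g hg => Subgroup.subset_closure (Or.inl hg)
  have hHK0 : H ≤ K 0 := by rw [hH]; exact fun g hg => ⟨hg.1.1, hg.2⟩
  have hHK : ∀ j, H ≤ K j := by
    intro j
    induction j with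
    | zero => exact hHK0
    | succ j IH => exact IH.trans (hmono j)
  have hsK : ∀ i j, 1 ≤ i → i ≤ j → s i ∈ K j := by
    intro i j hi hij
    obtain ⟨k, rfl⟩ : ∃ k, j = k + 1 := ⟨j - 1, by omega⟩
    rcases Nat.lt_or_ge i 2 with h | h
    · obtain rfl : i = 1 := by omega
      exact hGK _ (by omega) hs1
    · exact Subgroup.subset_closure (Or.inr ⟨i, h, hij, rfl⟩)
  have hfixK : ∀ j i, 1 ≤ j → j + 2 ≤ i → i ≤ t → ∀ g ∈ K j, g (q i) = q i := by
    intro j i hj hji hit g hg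
    have hle : K j ≤ MulAction.stabilizer (Equiv.Perm α) (q i) := by
      obtain ⟨j, rfl⟩ : ∃ k, j = k + 1 := ⟨j - 1, by omega⟩
      refine (Subgroup.closure_le _).mpr ?_
      rintro x (hx | ⟨l, hl, hl', rfl⟩)
      · exact hfix x hx i (by omega) hit
      · exact (hsq l hl (by omega)).2.2 i (by omega) hit (by omega) (by omega)
    exact hle hg
  have hq12 : q 1 ≠ q 2 := fun e => absurd (hq 1 2 le_rfl (by omega) (by omega) ht e) (by omega)
  have hout : ∀ i, 1 ≤ i → i ≤ 2 → ∀ l, 3 ≤ l → l ≤ t → q i ≠ q l := fun i hi hi' l hl hl' e =>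
    absurd (hq i l hi (by omega) (by omega) hl' e) (by omega)
  have hbase : ∀ g ∈ G, g ∈ K 0 ∨ ∃ a ∈ K 0, ∃ c ∈ K 0, g = a * s 1 * c := by
    intro g hg
    by_cases h : g (q 2) = q 2
    · exact Or.inl ⟨hg, h⟩
    right
    have hgout : ∀ l, 3 ≤ l → l ≤ t → g (q 2) ≠ q l := fun l hl hl' e =>
      hout 2 (by omega) le_rfl l hl hl' (g.injective (e.trans (hfix g hg l hl hl').symm))
    obtain ⟨a, ha, ha2, ha1⟩ := h2 (q 2) (q 1) (q 2) (g (q 2))
      (fun l hl hl' => ⟨hout 2 (by omega) le_rfl l hl hl', hout 1 le_rfl (by omega) l hl hl', hout 2 (by omega) le_rfl l hl hl', hgout l hl hl'⟩)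
      (Ne.symm hq12) (Ne.symm h)
    refine ⟨a, ⟨ha, ha2⟩, (a * s 1)⁻¹ * g, ⟨G.mul_mem (G.inv_mem (G.mul_mem ha hs1)) hg, ?_⟩, by group⟩
    show ((a * s 1)⁻¹ * g) (q 2) = q 2
    rw [Equiv.Perm.mul_apply, Equiv.Perm.inv_eq_iff_eq, Equiv.Perm.mul_apply, hs1q.2, ha1]
  have hK0le : ∀ j, K 0 ≤ K j := by
    intro j
    induction j with
    | zero => exact le_rfl
    | succ j IH => exact IH.trans (hmono j)
  have hdec : ∀ j, 1 ≤ j → j + 1 ≤ t → ∀ g ∈ K j, g ∈ K (j - 1) ∨ ∃ a ∈ K (j - 1), ∃ c ∈ K (j - 1), g = a * s j * c := by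
    intro j hj
    induction j, hj using Nat.le_induction with
    | base => intro _ g hg; exact hbase g (hK1 ▸ hg)
    | succ j hj IH =>
      intro hjt g hg
      have IH' := IH (by omega)
      rw [Nat.add_sub_cancel]
      have hAnorm : ∀ a ∈ K (j - 1), s (j + 1) * a * (s (j + 1))⁻¹ ∈ K (j - 1) := by
        have h0 : ∀ a ∈ K 0, s (j + 1) * a * (s (j + 1))⁻¹ ∈ K 0 := fun a ha => hnorm (j + 1) (by omega) hjt a ha
        rcases Nat.lt_or_ge j 2 with h | h
        · rw [show j - 1 = 0 by omega]; exact h0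
        obtain ⟨k, rfl⟩ : ∃ k, j = k + 2 := ⟨j - 2, by omega⟩
        have hsi : ∀ i, 1 ≤ i → i ≤ k + 1 → s (k + 2 + 1) * s i * (s (k + 2 + 1))⁻¹ ∈ K (k + 1) := by
          intro i hi hik
          have h1 := (hcomm i (k + 2 + 1) hi (by omega) (by omega)).2
          have h3 := hsq2 (k + 2 + 1) (by omega) (by omega)
          rw [show s (k + 2 + 1) * s i * (s (k + 2 + 1))⁻¹ = (s (k + 2 + 1) * s i) ^ 2 * (s i)⁻¹ * (s (k + 2 + 1) ^ 2)⁻¹ by simp only [pow_two]; group]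
          exact mul_mem (mul_mem (hHK _ h1) (inv_mem (hsK i _ hi hik))) (inv_mem (hHK _ h3))
        have hle : K (k + 1) ≤ (K (k + 1)).comap (MulAut.conj (s (k + 2 + 1))).toMonoidHom := by
          refine (Subgroup.closure_le _).mpr ?_
          rintro x (hx | ⟨i, hi, hi', rfl⟩)
          · show s (k + 2 + 1) * x * (s (k + 2 + 1))⁻¹ ∈ K (k + 1)
            rcases hbase x hx with h1 | ⟨a, ha, c, hc, rfl⟩
            · exact hK0le _ (h0 x h1)
            · rw [show s (k + 2 + 1) * (a * s 1 * c) * (s (k + 2 + 1))⁻¹ = (s (k + 2 + 1) * a * (s (k + 2 + 1))⁻¹) * (s (k + 2 + 1) * s 1 * (s (k + 2 + 1))⁻¹) * (s (k + 2 + 1) * c * (s (k + 2 + 1))⁻¹) by group]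
              exact mul_mem (mul_mem (hK0le _ (h0 a ha)) (hsi 1 le_rfl (by omega))) (hK0le _ (h0 c hc))
          · exact hsi i (by omega) hi'
        exact fun a ha => hle ha
      have hbr : ∃ b ∈ K j, ∃ c ∈ K j, s (j + 1) * s j * s (j + 1) = b * s (j + 1) * c := by
        have h3 := hHK j (hbraid j hj (by omega))
        have hj2 := hHK j (hsq2 (j + 1) (by omega) hjt)
        have hsj := hsK j j hj le_rfl
        refine ⟨(s j)⁻¹ * (s j * s (j + 1)) ^ 3 * (s (j + 1) ^ 2)⁻¹,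
          mul_mem (mul_mem (inv_mem hsj) h3) (inv_mem hj2), (s j)⁻¹, inv_mem hsj, ?_⟩
        simp only [pow_succ, pow_zero, one_mul]
        group
      refine mem_double_of_closure (K (j - 1)) (K j) (s (j + 1)) (s j) ?_ (hsK j j hj le_rfl) IH'
        (by rw [← pow_two]; exact hHK j (hsq2 (j + 1) (by omega) hjt)) hAnorm hbr g ?_
      · have := hmono (j - 1)
        rwa [Nat.sub_add_cancel hj] at this
      · refine (Subgroup.closure_le _).mpr ?_ hg
        rintro x (hx | ⟨i, hi, hi', rfl⟩)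
        · exact Subgroup.subset_closure (Or.inl (hGK j hj hx))
        · rcases Nat.lt_or_ge i (j + 1) with h | h
          · exact Subgroup.subset_closure (Or.inl (hsK i j (by omega) (by omega)))
          · exact Subgroup.subset_closure (Or.inr (by rw [show i = j + 1 by omega]; rfl))
  have htrans : ∀ j, 1 ≤ j → j + 1 ≤ t → ∀ x : α, (∀ i, j + 2 ≤ i → i ≤ t → x ≠ q i) → ∃ g ∈ K j, g (q (j + 1)) = x := by
    intro j hj
    induction j, hj using Nat.le_induction with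
    | base =>
      intro _ x hx
      by_cases hx2 : x = q 2
      · exact ⟨1, one_mem _, by rw [hx2]; rfl⟩
      obtain ⟨g, hg, hg1, -⟩ := h2 (q 2) (q 1) x (q 2)
        (fun l hl hl' => ⟨hout 2 (by omega) le_rfl l hl hl', hout 1 le_rfl (by omega) l hl hl', hx l hl hl', hout 2 (by omega) le_rfl l hl hl'⟩)
        (Ne.symm hq12) hx2
      exact ⟨g, hK1.symm ▸ hg, hg1⟩
    | succ j hj IH =>
      intro hjt x hx
      by_cases hxe : x = q (j + 1 + 1)
      · exact ⟨1, one_mem _, by rw [hxe]; rfl⟩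
      obtain ⟨g, hg, hgx⟩ := IH (by omega) x (fun i hi hit => by
        rcases Nat.lt_or_ge i (j + 3) with h | h
        · rw [show i = j + 1 + 1 by omega]; exact hxe
        · exact hx i (by omega) hit)
      refine ⟨g * s (j + 1), mul_mem (hmono j hg) (hsK (j + 1) (j + 1) (by omega) le_rfl), ?_⟩
      rw [Equiv.Perm.mul_apply, (hsq (j + 1) (by omega) hjt).2.1, hgx]
  have hmulti : ∀ j, 1 ≤ j → j + 1 ≤ t → ∀ f : ℕ → α,
      (∀ i l, 1 ≤ i → i ≤ j + 1 → 1 ≤ l → l ≤ j + 1 → f i = f l → i = l) →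
      (∀ i, 1 ≤ i → i ≤ j + 1 → ∀ l, j + 2 ≤ l → l ≤ t → f i ≠ q l) →
      ∃ g ∈ K j, ∀ i, 1 ≤ i → i ≤ j + 1 → g (q i) = f i := by
    intro j hj
    induction j, hj using Nat.le_induction with
    | base =>
      intro _ f hinj hf
      obtain ⟨g, hg, hg1, hg2⟩ := h2 (q 1) (q 2) (f 1) (f 2)
        (fun l hl hl' => ⟨hout 1 le_rfl (by omega) l hl hl', hout 2 (by omega) le_rfl l hl hl', hf 1 le_rfl (by omega) l hl hl', hf 2 (by omega) le_rfl l hl hl'⟩)
        hq12 (fun e => absurd (hinj 1 2 le_rfl (by omega) (by omega) le_rfl e) (by omega))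
      refine ⟨g, hK1.symm ▸ hg, fun i hi hi' => ?_⟩
      rcases (show i = 1 ∨ i = 2 by omega) with rfl | rfl
      exacts [hg1, hg2]
    | succ j hj IH =>
      intro hjt f hinj hf
      obtain ⟨a, ha, hae⟩ := htrans (j + 1) (by omega) hjt (f (j + 1 + 1)) (hf (j + 1 + 1) (by omega) le_rfl)
      have ha' : ∀ l, j + 3 ≤ l → l ≤ t → a⁻¹ (q l) = q l := fun l hl hl' =>
        Equiv.Perm.inv_eq_iff_eq.mpr (hfixK (j + 1) l (by omega) (by omega) hl' a ha).symm
      obtain ⟨g, hg, hgi⟩ := IH (by omega) (fun i => a⁻¹ (f i))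
        (fun i l hi hi' hl hl' e => hinj i l hi (by omega) hl (by omega) (a⁻¹.injective e))
        (fun i hi hi' l hl hl' e => by
          rcases Nat.lt_or_ge l (j + 3) with h | h
          · rw [show l = j + 1 + 1 by omega, Equiv.Perm.inv_eq_iff_eq, hae] at e
            exact absurd (hinj i (j + 1 + 1) hi (by omega) (by omega) le_rfl e) (by omega)
          · exact hf i hi (by omega) l (by omega) hl' ((Equiv.Perm.inv_eq_iff_eq.mp e).trans (hfixK (j + 1) l (by omega) (by omega) hl' a ha)))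
      refine ⟨a * g, mul_mem ha (hmono j hg), fun i hi hi' => ?_⟩
      rw [Equiv.Perm.mul_apply]
      rcases Nat.lt_or_ge i (j + 2) with h | h
      · rw [hgi i hi (by omega), Equiv.Perm.inv_def, Equiv.apply_symm_apply]
      · rw [show i = j + 1 + 1 by omega, hfixK j (j + 1 + 1) hj (by omega) (by omega) g hg, hae]
  have hstab : ∀ j, 1 ≤ j → j + 1 ≤ t → ∀ g ∈ K j, g (q (j + 1)) = q (j + 1) → g ∈ K (j - 1) := by
    intro j hj hjt g hg hge
    rcases hdec j hj hjt g hg with h | ⟨a, ha, c, hc, rfl⟩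
    · exact h
    exfalso
    rcases (show j = 1 ∨ 2 ≤ j by omega) with rfl | hj2
    · have hc2 : c (q 2) = q 2 := hc.2
      have ha2 : a (q 2) = q 2 := ha.2
      rw [Equiv.Perm.mul_apply, Equiv.Perm.mul_apply, hc2, hs1q.2] at hge
      exact hq12 (a.injective (hge.trans ha2.symm))
    · have hfa := hfixK (j - 1) (j + 1) (by omega) (by omega) hjt
      rw [Equiv.Perm.mul_apply, Equiv.Perm.mul_apply, hfa c hc, (hsq j hj2 hjt).2.1] at hge
      exact absurd (hq j (j + 1) (by omega) (by omega) (by omega) hjt (a.injective (hge.trans (hfa a ha).symm))) (by omega)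
  obtain ⟨m, hm⟩ : ∃ m, t = m + 1 + 1 := ⟨t - 2, by omega⟩
  have hKL : K (m + 1) = Subgroup.closure ((G : Set (Equiv.Perm α)) ∪ {x | ∃ i : ℕ, 2 ≤ i ∧ i + 1 ≤ t ∧ x = s i}) := by
    refine congrArg Subgroup.closure (congrArg ((G : Set (Equiv.Perm α)) ∪ ·) (Set.ext fun x => ?_))
    exact ⟨fun ⟨i, a, b, c⟩ => ⟨i, a, by omega, c⟩, fun ⟨i, a, b, c⟩ => ⟨i, a, by omega, c⟩⟩
  rw [← hKL]
  refine ⟨?_, le_antisymm ?_ ?_⟩
  · rw [MulAction.isMultiplyPretransitive_iff]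
    intro x y
    have hget : ∀ z : Fin t ↪ α, ∃ g ∈ K (m + 1), ∀ i : Fin t, g (q (i + 1)) = z i := by
      intro z
      obtain ⟨g, hg, hgi⟩ := hmulti (m + 1) (by omega) (by omega) (fun i => if h : i - 1 < t then z ⟨i - 1, h⟩ else q i)
        (fun i l hi hi' hl hl' e => by
          rw [dif_pos (show i - 1 < t by omega), dif_pos (show l - 1 < t by omega)] at e
          have := congrArg Fin.val (z.injective e)
          simp only at this
          omega)
        (fun i hi hi' l hl hl' => absurd hl' (by omega))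
      refine ⟨g, hg, fun i => ?_⟩
      rw [hgi (i + 1) (by omega) (by omega), dif_pos (show (i : ℕ) + 1 - 1 < t by omega)]
      congr 1
    obtain ⟨gx, hgx, hx⟩ := hget x
    obtain ⟨gy, hgy, hy⟩ := hget y
    refine ⟨⟨gy * gx⁻¹, mul_mem hgy (inv_mem hgx)⟩, Function.Embedding.ext fun i => ?_⟩
    show (gy * gx⁻¹) (x i) = y i
    rw [Equiv.Perm.mul_apply, ← hx, Equiv.Perm.inv_def, Equiv.symm_apply_apply, hy]
  · rintro g ⟨hgK, hgq⟩
    have hgfix : ∀ i, 1 ≤ i → i ≤ t → g (q i) = q i := fun i hi hit =>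
      (mem_fixingSubgroup_iff _).mp hgq (q i) ⟨i, hi, hit, rfl⟩
    have : ∀ d, d ≤ m + 1 → g ∈ K (m + 1 - d) := by
      intro d
      induction d with
      | zero => intro _; exact hgK
      | succ d IH =>
        intro hd
        have := hstab (m + 1 - d) (by omega) (by omega) g (IH (by omega)) (hgfix _ (by omega) (by omega))
        rwa [show m + 1 - (d + 1) = m + 1 - d - 1 by omega]
    have h0 := this (m + 1) le_rfl
    rw [Nat.sub_self] at h0
    rw [hH]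
    exact ⟨⟨h0.1, hgfix 1 le_rfl (by omega)⟩, h0.2⟩
  · intro g hg
    refine ⟨hHK _ hg, (mem_fixingSubgroup_iff _).mpr ?_⟩
    rintro y ⟨i, hi, hit, rfl⟩
    rw [hH] at hg
    rcases (show i = 1 ∨ i = 2 ∨ 3 ≤ i by omega) with rfl | rfl | h
    exacts [hg.1.2, hg.2, hfix g hg.1.1 i h hit]

end Cfsg.Agent.S0709
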