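import Cfsg.Statements.S0711
import Mathlib.GroupTheory.GroupAction.Jordan

set_option autoImplicit false
open Cfsg

namespace Cfsg.Agent.S0711

open scoped Pointwise

variable {α : Type*} [Fintype α] [DecidableEq α]

theorem exists_fix_apply {G : Subgroup (Equiv.Perm α)} {k : ℕ} (hG : MulAction.IsMultiplyPretransitive G α k)
    (hkn : k ≤ Fintype.card α) (F : Finset α) {d e : α} (hd : d ∉ F) (he : e ∉ F) (hF : F.card + 1 ≤ k) :
    ∃ h ∈ G, (∀ x ∈ F, h x = x) ∧ h d = e := by
  haveI := hG
  have h1 : MulAction.IsMultiplyPretransitive G α (F.card + 1) :=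
    MulAction.isMultiplyPretransitive_of_le (n := k) hF (by rw [Nat.card_eq_fintype_card]; omega)
  let u : (z : α) → z ∉ F → Fin (F.card + 1) ↪ α := fun z hz =>
    ⟨Fin.cons z (fun i => (F.equivFin.symm i : α)), Fin.cons_injective_iff.mpr
      ⟨fun ⟨i, hi⟩ => hz (hi ▸ (F.equivFin.symm i).2), Subtype.val_injective.comp F.equivFin.symm.injective⟩⟩
  obtain ⟨g, hg⟩ := MulAction.isMultiplyPretransitive_iff.mp h1 (u d hd) (u e he)
  refine ⟨g, g.2, fun x hx => ?_, ?_⟩
  · have h2 := DFunLike.congr_fun hg (F.equivFin ⟨x, hx⟩).succ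
    simp [u] at h2
    exact h2
  · have h2 := DFunLike.congr_fun hg 0
    simp [u] at h2
    exact h2

theorem support_commutator_subset (g h : Equiv.Perm α) (F : Finset α) (hF : ∀ x ∈ F, h x = x) :
    (g⁻¹ * (h * g * h⁻¹)).support ⊆ (g.support ∪ g.support.image h) \ F.filter (fun x => g x ∈ F) := by
  intro z hz
  rw [Equiv.Perm.mem_support] at hz
  rw [Finset.mem_sdiff]
  constructor
  · by_contra h1
    simp only [Finset.mem_union, Finset.mem_image, Equiv.Perm.mem_support, not_or, not_exists, not_and, not_not] at h1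
    apply hz
    have h2 : g (h⁻¹ z) = h⁻¹ z := by
      by_contra h3
      exact h1.2 _ h3 (h.apply_symm_apply z)
    simp only [Equiv.Perm.mul_apply, h2]
    rw [Equiv.Perm.inv_def h, Equiv.apply_symm_apply, Equiv.Perm.inv_eq_iff_eq, h1.1]
  · intro h1
    rw [Finset.mem_filter] at h1
    apply hz
    simp only [Equiv.Perm.mul_apply]
    rw [show h⁻¹ z = z from Equiv.Perm.inv_eq_iff_eq.mpr (hF z h1.1).symm, hF _ h1.2]
    exact g.symm_apply_apply z

theorem exists_path (g : Equiv.Perm α) : ∀ f : ℕ, 1 ≤ f → f ≤ g.support.card →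
    ∃ (F : Finset α) (y : α), F ⊆ g.support ∧ F.card = f ∧ y ∈ F ∧ ∀ x ∈ F, x ≠ y → g x ∈ F
  | 0, h, _ => absurd h (by omega)
  | 1, _, h2 => by
    obtain ⟨a, ha⟩ := Finset.card_pos.mp (show 0 < g.support.card by omega)
    exact ⟨{a}, a, Finset.singleton_subset_iff.mpr ha, Finset.card_singleton a, Finset.mem_singleton_self a,
      fun x hx hne => absurd (Finset.mem_singleton.mp hx) hne⟩
  | f + 2, _, h2 => by
    obtain ⟨F, y, hFS, hFc, hy, hcl⟩ := exists_path g (f + 1) (by omega) (by omega)
    by_cases hgy : g y ∈ F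
    · obtain ⟨z, hz, hzF⟩ := Finset.not_subset.mp (fun h : g.support ⊆ F => by
        have := Finset.card_le_card h; omega)
      refine ⟨insert z F, z, Finset.insert_subset hz hFS, by rw [Finset.card_insert_of_notMem hzF, hFc],
        Finset.mem_insert_self z F, fun x hx hne => Finset.mem_insert_of_mem ?_⟩
      have hxF := (Finset.mem_insert.mp hx).resolve_left hne
      by_cases hxy : x = y
      · exact hxy ▸ hgy
      · exact hcl x hxF hxy
    · refine ⟨insert (g y) F, g y, Finset.insert_subset (Equiv.Perm.apply_mem_support.mpr (hFS hy)) hFS,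
        by rw [Finset.card_insert_of_notMem hgy, hFc], Finset.mem_insert_self _ F, fun x hx hne => ?_⟩
      have hxF := (Finset.mem_insert.mp hx).resolve_left hne
      by_cases hxy : x = y
      · rw [hxy]; exact Finset.mem_insert_self _ F
      · exact Finset.mem_insert_of_mem (hcl x hxF hxy)

theorem exists_smaller {G : Subgroup (Equiv.Perm α)} {k : ℕ} (hG : MulAction.IsMultiplyPretransitive G α k)
    (hbig : k + 3 ≤ Fintype.card α) {g : Equiv.Perm α} (hg : g ∈ G) (hs4 : 4 ≤ g.support.card)
    (hs : g.support.card + 3 ≤ 2 * k) :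
    ∃ c ∈ G, c ≠ 1 ∧ c.support.card < g.support.card := by
  have hmem : ∀ h ∈ G, g⁻¹ * (h * g * h⁻¹) ∈ G := fun h hh =>
    G.mul_mem (G.inv_mem hg) (G.mul_mem (G.mul_mem hh hg) (G.inv_mem hh))
  have hne : ∀ (h : Equiv.Perm α) (y : α), h (g y) ≠ g (h y) → g⁻¹ * (h * g * h⁻¹) ≠ 1 := by
    intro h y hy h1
    have h2 : h * g = g * h := mul_inv_eq_iff_eq_mul.mp (inv_mul_eq_one.mp h1).symm
    exact hy (Equiv.congr_fun h2 y)
  set S := g.support with hS
  have hcount : ∀ (h : Equiv.Perm α) (F : Finset α), F ⊆ S → (∀ x ∈ F, h x = x) →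
      (g⁻¹ * (h * g * h⁻¹)).support.card + (F.filter fun x => g x ∈ F).card ≤ S.card + ((S.image h) \ S).card := by
    intro h F hFS hF
    have h1 := Finset.card_le_card (support_commutator_subset g h F hF)
    have h2 : (F.filter fun x => g x ∈ F) ⊆ S ∪ S.image h :=
      (Finset.filter_subset _ _).trans (hFS.trans Finset.subset_union_left)
    rw [Finset.card_sdiff_of_subset h2] at h1
    have h3 := Finset.card_le_card h2
    have h4 : (S ∪ S.image h).card = S.card + ((S.image h) \ S).card := by
      rw [← Finset.union_sdiff_self_eq_union, Finset.card_union_of_disjoint Finset.disjoint_sdiff]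
    omega
  by_cases hall : S.card = Fintype.card α
  · -- everything is moved
    have hSu : S = Finset.univ := Finset.eq_univ_of_card S hall
    obtain ⟨x, hx⟩ := Finset.card_pos.mp (show 0 < S.card by omega)
    have hx' := Equiv.Perm.mem_support.mp hx
    have hgoal : ∀ (F : Finset α) (d e : α), x ∈ F → g x ∈ F → d ∉ F → e ∉ F → d ≠ e → F.card + 1 ≤ k →
        (∃ y ∈ F, g y = d ∧ g y ≠ e) → ∃ c ∈ G, c ≠ 1 ∧ c.support.card < S.card := by
      intro F d e hxF hgx hd he hde hF ⟨y, hy, hyd, _⟩
      obtain ⟨h, hh, hfix, hhd⟩ := exists_fix_apply hG (by omega) F hd he hF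
      refine ⟨_, hmem h hh, hne h y ?_, ?_⟩
      · rw [hfix y hy, hyd, hhd]; exact Ne.symm hde
      · have h1 := hcount h F (hSu ▸ Finset.subset_univ F) hfix
        have h2 : ((S.image h) \ S).card = 0 := by
          rw [hSu, Finset.sdiff_eq_empty_iff_subset.mpr (Finset.subset_univ _), Finset.card_empty]
        have h3 : 0 < (F.filter fun x => g x ∈ F).card :=
          Finset.card_pos.mpr ⟨x, Finset.mem_filter.mpr ⟨hxF, hgx⟩⟩
        omega
    by_cases hggx : g (g x) = x
    · obtain ⟨z, hz⟩ : ∃ z, z ∉ ({x, g x} : Finset α) := by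
        by_contra h
        push Not at h
        have := Finset.card_le_card (fun y _ => h y : (Finset.univ : Finset α) ⊆ {x, g x})
        rw [Finset.card_univ] at this
        have := this.trans Finset.card_le_two
        omega
      simp only [Finset.mem_insert, Finset.mem_singleton, not_or] at hz
      have hd : g z ∉ ({x, g x, z} : Finset α) := by
        simp only [Finset.mem_insert, Finset.mem_singleton, not_or]
        refine ⟨fun h => hz.2 (g.injective (h.trans hggx.symm)), fun h => hz.1 (g.injective h), ?_⟩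
        exact Equiv.Perm.mem_support.mp (hSu ▸ Finset.mem_univ z : z ∈ S)
      obtain ⟨e, he⟩ : ∃ e, e ∉ insert (g z) ({x, g x, z} : Finset α) := by
        by_contra h
        push Not at h
        have h1 := Finset.card_le_card (fun y _ => h y : (Finset.univ : Finset α) ⊆ insert (g z) ({x, g x, z} : Finset α))
        rw [Finset.card_univ] at h1
        have h2 := Finset.card_insert_le (g z) ({x, g x, z} : Finset α)
        have h3 := (Finset.card_insert_le x ({g x, z} : Finset α)).trans (Nat.succ_le_succ Finset.card_le_two)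
        omega
      rw [Finset.mem_insert, not_or] at he
      refine hgoal {x, g x, z} (g z) e (by simp) (by simp) hd he.2 (Ne.symm he.1) ?_ ⟨z, by simp, rfl, Ne.symm he.1⟩
      have h3 := (Finset.card_insert_le x ({g x, z} : Finset α)).trans (Nat.succ_le_succ Finset.card_le_two)
      omega
    · have hd : g (g x) ∉ ({x, g x} : Finset α) := by
        simp only [Finset.mem_insert, Finset.mem_singleton, not_or]
        exact ⟨hggx, fun h => hx' (g.injective h)⟩
      obtain ⟨e, he⟩ : ∃ e, e ∉ insert (g (g x)) ({x, g x} : Finset α) := by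
        by_contra h
        push Not at h
        have h1 := Finset.card_le_card (fun y _ => h y : (Finset.univ : Finset α) ⊆ insert (g (g x)) ({x, g x} : Finset α))
        rw [Finset.card_univ] at h1
        have h2 := (Finset.card_insert_le (g (g x)) ({x, g x} : Finset α)).trans (Nat.succ_le_succ Finset.card_le_two)
        omega
      rw [Finset.mem_insert, not_or] at he
      refine hgoal {x, g x} (g (g x)) e (by simp) (by simp) hd he.2 (Ne.symm he.1) ?_ ⟨g x, by simp, rfl, Ne.symm he.1⟩
      have h3 : ({x, g x} : Finset α).card ≤ 2 := Finset.card_le_two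
      omega
  obtain ⟨o, ho⟩ : ∃ o, o ∉ S := by
    by_contra h
    push Not at h
    exact hall (by rw [Finset.eq_univ_iff_forall.mpr h, Finset.card_univ])
  set f := min (k - 1) (S.card - 1) with hf
  obtain ⟨F, y, hFS, hFc, hy, hcl⟩ := exists_path g f (by omega) (by rw [← hS]; omega)
  have hFfix : ∀ (h : Equiv.Perm α), (∀ x ∈ F, h x = x) → (S.image h) \ S ⊆ (S \ F).image h := by
    intro h hfix z hz
    obtain ⟨hz1, hz2⟩ := Finset.mem_sdiff.mp hz
    obtain ⟨w, hw, rfl⟩ := Finset.mem_image.mp hz1
    refine Finset.mem_image_of_mem _ (Finset.mem_sdiff.mpr ⟨hw, fun hwF => hz2 ?_⟩)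
    rw [hfix w hwF]; exact hw
  have hSF : (S \ F).card = S.card - f := by rw [Finset.card_sdiff_of_subset hFS, hFc]
  by_cases hgy : g y ∈ F
  · -- a union of cycles
    have hclosed : F.filter (fun x => g x ∈ F) = F := Finset.filter_true_of_mem fun x hx => by
      by_cases hxy : x = y
      · exact hxy ▸ hgy
      · exact hcl x hx hxy
    obtain ⟨d, hd, hdF⟩ := Finset.not_subset.mp (fun h : S ⊆ F => by
      have := Finset.card_le_card h; omega)
    obtain ⟨h, hh, hfix, hhd⟩ := exists_fix_apply hG (by omega) F hdF (fun h => ho (hFS h)) (by omega : F.card + 1 ≤ k)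
    refine ⟨_, hmem h hh, hne h d ?_, ?_⟩
    · rw [hhd, Equiv.Perm.notMem_support.mp ho]
      intro h1
      exact Equiv.Perm.mem_support.mp hd (h.injective (h1.trans hhd.symm))
    · have h1 := hcount h F hFS hfix
      rw [hclosed, hFc] at h1
      have h2 := (Finset.card_le_card (hFfix h hfix)).trans Finset.card_image_le
      rcases Nat.lt_or_ge f (S.card - 1) with h3 | h3
      · omega
      · omega
  · -- a path
    have hfil : f ≤ (F.filter fun x => g x ∈ F).card + 1 := by
      rw [← hFc, ← Finset.card_erase_add_one hy]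
      refine Nat.succ_le_succ (Finset.card_le_card fun x hx => ?_)
      obtain ⟨hxy, hxF⟩ := Finset.mem_erase.mp hx
      exact Finset.mem_filter.mpr ⟨hxF, hcl x hxF hxy⟩
    have hgyS : g y ∈ S := Equiv.Perm.apply_mem_support.mpr (hFS hy)
    by_cases hcase : f + 2 ≤ S.card
    · obtain ⟨e, he, heF⟩ := Finset.not_subset.mp (fun h : S ⊆ insert (g y) F => by
        have := Finset.card_le_card h; rw [Finset.card_insert_of_notMem hgy] at this; omega)
      rw [Finset.mem_insert, not_or] at heF
      obtain ⟨h, hh, hfix, hhd⟩ := exists_fix_apply hG (by omega) F hgy heF.2 (by omega : F.card + 1 ≤ k)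
      refine ⟨_, hmem h hh, hne h y ?_, ?_⟩
      · rw [hfix y hy, hhd]; exact heF.1
      · have h1 := hcount h F hFS hfix
        have h2 : (S.image h) \ S ⊆ ((S \ F).erase (g y)).image h := by
          intro z hz
          obtain ⟨w, hw, rfl⟩ := Finset.mem_image.mp (hFfix h hfix hz)
          refine Finset.mem_image_of_mem _ (Finset.mem_erase.mpr ⟨fun hwy => (Finset.mem_sdiff.mp hz).2 ?_, hw⟩)
          rw [hwy, hhd]; exact he
        have h3 := (Finset.card_le_card h2).trans Finset.card_image_le
        rw [Finset.card_erase_of_mem (Finset.mem_sdiff.mpr ⟨hgyS, hgy⟩)] at h3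
        omega
    · obtain ⟨h, hh, hfix, hhd⟩ := exists_fix_apply hG (by omega) F hgy (fun h => ho (hFS h)) (by omega : F.card + 1 ≤ k)
      refine ⟨_, hmem h hh, hne h y ?_, ?_⟩
      · rw [hfix y hy, hhd]
        exact fun h1 => ho (h1 ▸ hgyS)
      · have h1 := hcount h F hFS hfix
        have h2 := (Finset.card_le_card (hFfix h hfix)).trans Finset.card_image_le
        omega

/-- A `k`-transitive permutation group (`k ≥ 3`) with a non-identity element of support smaller than `2k - 2` contains a non-identity element of support at most 3, and therefore contains the alternating group. -/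
theorem result {α : Type*} [Fintype α] [DecidableEq α] (G : Subgroup (Equiv.Perm α)) {k : ℕ} (hk : 3 ≤ k) (hkn : k ≤ Fintype.card α) (hG : MulAction.IsMultiplyPretransitive G α k) (g : Equiv.Perm α) (hg : g ∈ G) (hg1 : g ≠ 1) (hsupp : g.support.card < 2 * k - 2) : (∃ h : Equiv.Perm α, h ∈ G ∧ h ≠ 1 ∧ h.support.card ≤ 3) ∧ alternatingGroup α ≤ G := by
  classical
  haveI := hG
  haveI hG2 : MulAction.IsMultiplyPretransitive G α 2 :=
    MulAction.isMultiplyPretransitive_of_le (n := k) (by omega) (by rw [Nat.card_eq_fintype_card]; omega)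
  have hprim : MulAction.IsPreprimitive G α := MulAction.isPreprimitive_of_is_two_pretransitive hG2
  have hA : alternatingGroup α ≤ G := by
    rcases Nat.lt_or_ge (k + 2) (Fintype.card α) with hbig | hsmall
    · induction hs : g.support.card using Nat.strong_induction_on generalizing g with
      | _ s IH =>
        subst hs
        rcases Nat.lt_or_ge g.support.card 4 with h4 | h4
        · have hlt : 1 < g.support.card := Equiv.Perm.one_lt_card_support_of_ne_one hg1
          rcases (show g.support.card = 2 ∨ g.support.card = 3 by omega) with h | h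
          · rw [Equiv.Perm.subgroup_eq_top_of_isPreprimitive_of_isSwap_mem hprim g (Equiv.Perm.card_support_eq_two.mp h) hg]
            exact le_top
          · exact Equiv.Perm.alternatingGroup_le_of_isPreprimitive_of_isThreeCycle_mem hprim (card_support_eq_three_iff.mp h) hg
        · obtain ⟨c, hc, hc1, hlt⟩ := exists_smaller hG (by omega) hg h4 (by omega)
          exact IH _ hlt c hc hc1 (by omega) rfl
    · haveI : MulAction.IsMultiplyPretransitive G α (Nat.card α - 2) :=
        MulAction.isMultiplyPretransitive_of_le (n := k) (by rw [Nat.card_eq_fintype_card]; omega) (by rw [Nat.card_eq_fintype_card]; omega)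
      exact IsMultiplyPretransitive.alternatingGroup_le α G inferInstance
  refine ⟨?_, hA⟩
  obtain ⟨x, -, y, -, z, -, hxy, hxz, hyz⟩ := Finset.two_lt_card.mp (show 2 < (Finset.univ : Finset α).card by rw [Finset.card_univ]; omega)
  have h3 := Equiv.Perm.isThreeCycle_swap_mul_swap_same hxy hxz hyz
  exact ⟨_, hA h3.mem_alternatingGroup, fun h => by simpa [h] using h3.card_support, h3.card_support.le⟩

end Cfsg.Agent.S0711
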