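import Cfsg.Statements.S0712
import Cfsg.Agent.Lib.Perm.Multi
import Mathlib.GroupTheory.GroupAction.Jordan

set_option autoImplicit false
open Cfsg

namespace Cfsg.Agent.S0712

theorem aux (m : ℕ) : ∀ {H X : Type*} [Group H] [MulAction H X] [Finite X] (s : Set X),
    MulAction.IsPreprimitive H X → s.ncard = m → m + 2 ≤ Nat.card X →
    MulAction.IsMultiplyPretransitive (fixingSubgroup H s) (SubMulAction.ofFixingSubgroup H s) 2 →
    MulAction.IsMultiplyPretransitive H X (m + 2) := by
  induction m with
  | zero =>
    intro H X _ _ _ s _ hs _ h2
    rw [Set.ncard_eq_zero] at hs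
    subst hs
    exact (MulAction.IsPretransitive.of_embedding_congr
      SubMulAction.of_fixingSubgroupEmpty_mapScalars_surjective
      SubMulAction.ofFixingSubgroupEmpty_equivariantMap_bijective).mp h2
  | succ m ih =>
    intro H X _ _ _ s hP hs hn h2
    obtain ⟨a, has⟩ : s.Nonempty := by rw [← Set.ncard_pos, hs]; omega
    have hprim2 : MulAction.IsMultiplyPreprimitive H X 2 :=
      hP.is_two_preprimitive hs (by omega) (MulAction.isPreprimitive_of_is_two_pretransitive h2)
    let t : Set (SubMulAction.ofStabilizer H a) := Subtype.val ⁻¹' s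
    have hst : s = insert a (Subtype.val '' t) := by
      ext x
      by_cases hx : x = a <;> simp [t, hx, SubMulAction.mem_ofStabilizer_iff, has]
    have ha' : a ∉ Subtype.val '' t := by
      rintro ⟨x, -, hx⟩; exact x.2 (Set.mem_singleton_iff.mpr hx)
    have := hP.toIsPretransitive
    apply CfsgLib.Perm.isMultiplyPretransitive_succ a
    have hc := SubMulAction.nat_card_ofStabilizer_add_one_eq H a
    refine ih (H := MulAction.stabilizer H a) (X := SubMulAction.ofStabilizer H a) t ?_ ?_ (by omega) ?_
    · rw [← MulAction.is_one_preprimitive_iff]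
      exact MulAction.isMultiplyPreprimitive_ofStabilizer H X
    · rw [hst, Set.ncard_insert_of_notMem ha', Set.ncard_image_of_injective _ Subtype.val_injective] at hs
      omega
    · rw [hst] at h2
      exact (MulAction.IsPretransitive.of_embedding_congr
        (SubMulAction.fixingSubgroupInsertEquiv a t).surjective
        SubMulAction.ofFixingSubgroup_insert_map_bijective).mp h2

/-- Jordan: a primitive group in which the pointwise stabiliser of a set `s` is doubly transitive on the complement of `s` (which has at least 2 points) is `(|s| + 2)`-transitive. -/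
theorem result {α : Type*} [Fintype α] [DecidableEq α] (G : Subgroup (Equiv.Perm α)) (hG : MulAction.IsPreprimitive G α) (s : Set α) {m : ℕ} (hsm : s.ncard = m) (hm : m + 2 ≤ Fintype.card α) (h2 : MulAction.IsMultiplyPretransitive (fixingSubgroup G s) (SubMulAction.ofFixingSubgroup G s) 2) : MulAction.IsMultiplyPretransitive G α (m + 2) := by
  exact aux m (H := G) (X := α) s hG hsm (by rw [Nat.card_eq_fintype_card]; exact hm) h2

end Cfsg.Agent.S0712
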