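import Cfsg.Statements.S0714
import Cfsg.Agent.Lib.Perm.PermModule
import Mathlib.GroupTheory.SpecificGroups.Alternating
import Mathlib.Tactic.FieldSimp

set_option autoImplicit false
open Cfsg

namespace Cfsg.Agent.S0714

theorem exists_even_apply {α : Type*} [Fintype α] [DecidableEq α] (hα : 4 ≤ Fintype.card α) {a b x y : α}
    (hab : a ≠ b) (hxy : x ≠ y) : ∃ g : alternatingGroup α, g • a = x ∧ g • b = y := by
  obtain ⟨σ, hσa, hσb⟩ : ∃ σ : Equiv.Perm α, σ a = x ∧ σ b = y := by
    refine ⟨Equiv.swap (Equiv.swap a x b) y * Equiv.swap a x, ?_, by simp⟩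
    rw [Equiv.Perm.mul_apply, Equiv.swap_apply_left]
    refine Equiv.swap_apply_of_ne_of_ne (fun e => hab ?_) hxy
    have h1 := congrArg (Equiv.swap a x) e
    rwa [Equiv.swap_apply_right, Equiv.swap_apply_self] at h1
  rcases Int.units_eq_one_or (Equiv.Perm.sign σ) with h | h
  · exact ⟨⟨σ, Equiv.Perm.mem_alternatingGroup.mpr h⟩, hσa, hσb⟩
  · obtain ⟨u, hu, v, hv, huv⟩ : ∃ u ∈ (Finset.univ \ {x, y} : Finset α), ∃ v ∈ (Finset.univ \ {x, y} : Finset α), u ≠ v := by
      refine Finset.one_lt_card.mp ?_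
      rw [Finset.card_sdiff, Finset.inter_univ, Finset.card_univ, Finset.card_pair hxy]
      omega
    simp only [Finset.mem_sdiff, Finset.mem_univ, true_and, Finset.mem_insert, Finset.mem_singleton, not_or] at hu hv
    refine ⟨⟨Equiv.swap u v * σ, Equiv.Perm.mem_alternatingGroup.mpr (by
      rw [map_mul, Equiv.Perm.sign_swap huv, h]; simp)⟩, ?_, ?_⟩
    · show Equiv.swap u v (σ a) = x
      rw [hσa, Equiv.swap_apply_of_ne_of_ne (Ne.symm hu.1) (Ne.symm hv.1)]
    · show Equiv.swap u v (σ b) = y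
      rw [hσb, Equiv.swap_apply_of_ne_of_ne (Ne.symm hu.2) (Ne.symm hv.2)]

theorem exists_avoid {α : Type*} [Fintype α] (S : Finset α) (h : S.card < Fintype.card α) : ∃ x, x ∉ S := by
  by_contra h'
  push Not at h'
  rw [Finset.eq_univ_iff_forall.mpr h', Finset.card_univ] at h
  exact lt_irrefl _ h

/-- Over any field, the permutation module of the alternating group of degree at least 5 has exactly four invariant subspaces: zero, the constant functions, the functions with coordinate sum zero, and everything. -/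
theorem result {α : Type*} [Fintype α] [DecidableEq α] (hα : 5 ≤ Fintype.card α) {K : Type*} [Field K] (W : Subrepresentation (Cfsg.permRep K (alternatingGroup α) α)) : W.toSubmodule = ⊥ ∨ W = Cfsg.permConstants K (alternatingGroup α) α ∨ W = Cfsg.permSumZero K (alternatingGroup α) α ∨ W.toSubmodule = ⊤ := by
  classical
  set S := W.toSubmodule with hS
  have hsub : ∀ {f : α → K}, f ∈ S → ∀ σ : Equiv.Perm α, Equiv.Perm.sign σ = 1 → (fun z => f z - f (σ z)) ∈ S := by
    intro f hf σ hσ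
    have h1 := W.apply_mem_toSubmodule (⟨σ, Equiv.Perm.mem_alternatingGroup.mpr hσ⟩⁻¹ : alternatingGroup α) hf
    have h2 := S.sub_mem hf h1
    convert h2 using 1
    funext z
    simp only [Pi.sub_apply, CfsgLib.Perm.permRep_apply, inv_inv]
    rfl
  by_cases hconst : ∀ f ∈ S, ∀ x y : α, f x = f y
  · have hle : S ≤ (Cfsg.permConstants K (alternatingGroup α) α).toSubmodule := by
      intro f hf
      obtain ⟨a⟩ : Nonempty α := Fintype.card_pos_iff.mp (by omega)
      exact CfsgLib.Perm.mem_permConstants.mpr ⟨f a, funext fun x => hconst f hf x a⟩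
    by_cases hbot : S = ⊥
    · exact Or.inl hbot
    right; left
    refine Subrepresentation.toSubmodule_injective (le_antisymm hle ?_)
    obtain ⟨f, hf, hf0⟩ := (Submodule.ne_bot_iff _).mp hbot
    obtain ⟨c, rfl⟩ := CfsgLib.Perm.mem_permConstants.mp (hle hf)
    intro g hg
    obtain ⟨d, rfl⟩ := CfsgLib.Perm.mem_permConstants.mp hg
    have hc : c ≠ 0 := fun h => hf0 (by rw [h]; rfl)
    have := S.smul_mem (d * c⁻¹) hf
    convert this using 1
    funext z
    simp [mul_assoc, inv_mul_cancel₀ hc]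
  push Not at hconst
  obtain ⟨f, hf, a, b, hfab⟩ := hconst
  have hab : a ≠ b := fun e => hfab (by rw [e])
  obtain ⟨c, hc⟩ := exists_avoid {a, b} (by rw [Finset.card_pair hab]; omega)
  simp only [Finset.mem_insert, Finset.mem_singleton, not_or] at hc
  obtain ⟨y, hy, hy0, hya⟩ : ∃ y ∈ S, (∀ z, z ≠ a → z ≠ b → z ≠ c → y z = 0) ∧ ∃ u, y u ≠ 0 := by
    refine ⟨_, hsub hf (Equiv.swap a c * Equiv.swap a b) ?_, fun z h1 h2 h3 => ?_, a, ?_⟩
    · rw [map_mul, Equiv.Perm.sign_swap (Ne.symm hc.1), Equiv.Perm.sign_swap hab]; simp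
    · simp [Equiv.swap_apply_of_ne_of_ne h1 h2, Equiv.swap_apply_of_ne_of_ne h1 h3]
    · simp [Equiv.swap_apply_of_ne_of_ne (Ne.symm hab) (Ne.symm hc.2), sub_eq_zero, hfab]
  obtain ⟨x, u, v, hxu, hxv, huv, hyx, hy0⟩ : ∃ x u v : α, x ≠ u ∧ x ≠ v ∧ u ≠ v ∧ y x ≠ 0 ∧
      ∀ z, z ≠ x → z ≠ u → z ≠ v → y z = 0 := by
    obtain ⟨w, hw⟩ := hya
    by_cases h1 : w = a
    · exact ⟨a, b, c, hab, Ne.symm hc.1, Ne.symm hc.2, h1 ▸ hw, hy0⟩
    by_cases h2 : w = b
    · exact ⟨b, a, c, Ne.symm hab, Ne.symm hc.2, Ne.symm hc.1, h2 ▸ hw, fun z p q r => hy0 z q p r⟩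
    by_cases h3 : w = c
    · exact ⟨c, a, b, hc.1, hc.2, hab, h3 ▸ hw, fun z p q r => hy0 z q r p⟩
    exact absurd (hy0 w h1 h2 h3) hw
  obtain ⟨d, hd⟩ := exists_avoid {x, u, v} (by
    have := (Finset.card_insert_le x ({u, v} : Finset α)).trans (Nat.succ_le_succ Finset.card_le_two)
    omega)
  simp only [Finset.mem_insert, Finset.mem_singleton, not_or] at hd
  obtain ⟨e, he⟩ := exists_avoid {d, x, u, v} (by
    have h1 := (Finset.card_insert_le x ({u, v} : Finset α)).trans (Nat.succ_le_succ Finset.card_le_two)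
    have h2 := Finset.card_insert_le d ({x, u, v} : Finset α)
    omega)
  simp only [Finset.mem_insert, Finset.mem_singleton, not_or] at he
  obtain ⟨hdx, hdu, hdv⟩ := hd
  obtain ⟨hed, hex, heu, hev⟩ := he
  have hyd : y d = 0 := hy0 d hdx hdu hdv
  have hye : y e = 0 := hy0 e hex heu hev
  obtain ⟨p, q, hpq, hδ⟩ : ∃ p q : α, p ≠ q ∧ (Pi.single p 1 - Pi.single q 1 : α → K) ∈ S := by
    by_cases huvy : y u = y v
    · refine ⟨x, d, Ne.symm hdx, ?_⟩
      have h1 := S.smul_mem (y x)⁻¹ (hsub hy (Equiv.swap x d * Equiv.swap u v) (by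
        rw [map_mul, Equiv.Perm.sign_swap (Ne.symm hdx), Equiv.Perm.sign_swap huv]; simp))
      convert h1 using 1
      funext z
      simp only [Pi.smul_apply, smul_eq_mul, Pi.sub_apply, Equiv.Perm.mul_apply]
      rcases em (z = x) with rfl | e1
      · simp [Equiv.swap_apply_of_ne_of_ne hxu hxv, hyd, Ne.symm hdx, hyx]
      rcases em (z = d) with rfl | e2
      · simp [Pi.single_apply, Equiv.swap_apply_of_ne_of_ne hdu hdv, hyd, e1, hyx]
      rcases em (z = u) with rfl | h3
      · simp [Pi.single_apply, Equiv.swap_apply_of_ne_of_ne (Ne.symm hxv) (Ne.symm hdv), e1, e2, huvy]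
      rcases em (z = v) with rfl | h4
      · simp [Pi.single_apply, Equiv.swap_apply_of_ne_of_ne (Ne.symm hxu) (Ne.symm hdu), e1, e2, huvy]
      simp [Equiv.swap_apply_of_ne_of_ne h3 h4, Equiv.swap_apply_of_ne_of_ne e1 e2, e1, e2]
    · refine ⟨u, v, huv, ?_⟩
      have h1 := S.smul_mem (y u - y v)⁻¹ (hsub hy (Equiv.swap d e * Equiv.swap u v) (by
        rw [map_mul, Equiv.Perm.sign_swap (Ne.symm hed), Equiv.Perm.sign_swap huv]; simp))
      convert h1 using 1
      funext z
      have hne : y u - y v ≠ 0 := sub_ne_zero.mpr huvy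
      simp only [Pi.smul_apply, smul_eq_mul, Pi.sub_apply, Equiv.Perm.mul_apply]
      rcases em (z = u) with rfl | h3
      · simp [Equiv.swap_apply_of_ne_of_ne (Ne.symm hdv) (Ne.symm hev), huv, hne]
      rcases em (z = v) with rfl | h4
      · simp [Equiv.swap_apply_of_ne_of_ne (Ne.symm hdu) (Ne.symm heu), h3]
        field_simp
        ring
      rcases em (z = d) with rfl | h2
      · simp [Equiv.swap_apply_of_ne_of_ne hdu hdv, hyd, hye, hdu, hdv]
      rcases em (z = e) with rfl | h5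
      · simp [Equiv.swap_apply_of_ne_of_ne heu hev, hyd, hye, heu, hev]
      simp [Equiv.swap_apply_of_ne_of_ne h3 h4, Equiv.swap_apply_of_ne_of_ne h2 h5, h3, h4]
  have hall : ∀ r s : α, r ≠ s → (Pi.single r 1 - Pi.single s 1 : α → K) ∈ S := by
    intro r s hrs
    obtain ⟨g, hg1, hg2⟩ := exists_even_apply (by omega) hpq hrs
    have h1 := W.apply_mem_toSubmodule g hδ
    rwa [map_sub, CfsgLib.Perm.permRep_single, CfsgLib.Perm.permRep_single, hg1, hg2] at h1
  have hsum : ∀ h : α → K, ∑ z, h z = 0 → h ∈ S := by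
    intro h hh
    have e : h = ∑ z, h z • (Pi.single z 1 - Pi.single a 1 : α → K) := by
      funext w
      simp only [Finset.sum_apply, Pi.smul_apply, Pi.sub_apply, smul_eq_mul, mul_sub, Finset.sum_sub_distrib, ← Finset.sum_mul, hh, zero_mul, sub_zero]
      rw [Finset.sum_eq_single w (fun z _ hz => by simp [Ne.symm hz]) (by simp)]
      simp
    rw [e]
    refine S.sum_mem fun z _ => ?_
    by_cases hz : z = a
    · rw [hz, sub_self, smul_zero]; exact S.zero_mem
    · exact S.smul_mem _ (hall z a hz)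
  right; right
  by_cases hle : ∀ g ∈ S, ∑ z, g z = 0
  · left
    exact Subrepresentation.toSubmodule_injective (le_antisymm (fun g hg => hle g hg) (fun g hg => hsum g hg))
  right
  push Not at hle
  obtain ⟨g, hg, hg0⟩ := hle
  rw [eq_top_iff]
  intro h _
  have h1 := hsum (h - ((∑ z, h z) / ∑ z, g z) • g) (by
    simp only [Pi.sub_apply, Pi.smul_apply, smul_eq_mul, Finset.sum_sub_distrib, ← Finset.mul_sum]
    rw [div_mul_cancel₀ _ hg0, sub_self])
  have h2 := S.add_mem h1 (S.smul_mem ((∑ z, h z) / ∑ z, g z) hg)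
  rwa [sub_add_cancel] at h2

end Cfsg.Agent.S0714
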