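import Cfsg.Statements.S0716
import Cfsg.Agent.Lib.Perm.Subdegree

set_option autoImplicit false
open Cfsg

namespace Cfsg.Agent.S0716

theorem equal_degrees {G : Type*} [Group G] [Fintype G] {Ω : Type*} [Fintype Ω] [MulAction G Ω] [MulAction.IsPretransitive G Ω] (a : Ω) (f : ℕ)
    (hf : ∀ χ : G → ℂ, Cfsg.IsIrrCharacter G χ → χ ≠ (fun _ => 1) → Cfsg.classInner (CfsgLib.Perm.permChar G Ω) χ ≠ 0 → χ 1 = f) :
    (∀ χ : G → ℂ, Cfsg.IsIrrCharacter G χ → Cfsg.classInner (CfsgLib.Perm.permChar G Ω) χ = 0 ∨ Cfsg.classInner (CfsgLib.Perm.permChar G Ω) χ = 1) ∧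
      ∀ b : Ω, b ≠ a → Nat.card (MulAction.orbit (MulAction.stabilizer G a) b) = f := by
  classical
  haveI : Nonempty Ω := ⟨a⟩
  haveI := Fintype.ofFinite (Cfsg.IrrCharacter G)
  haveI := Fintype.ofFinite (MulAction.orbitRel.Quotient (MulAction.stabilizer G a) Ω)
  obtain ⟨m, hm, hsum, hrk⟩ := CfsgLib.Perm.exists_multiplicities (G := G) (Ω := Ω)
  let one : Cfsg.IrrCharacter G := ⟨fun _ => 1, CfsgLib.Char.isIrrCharacter_one⟩
  have hm1 : m one = 1 := by
    have := (hm one).symm.trans (CfsgLib.Perm.classInner_permChar_one (G := G) (Ω := Ω))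
    exact_mod_cast this
  set R := Finset.univ.erase one with hR
  have hn : Fintype.card Ω = 1 + f * ∑ χ ∈ R, m χ := by
    have h1 := hsum 1
    rw [← Finset.add_sum_erase _ _ (Finset.mem_univ one), hm1] at h1
    have h2 : ∀ χ ∈ R, (m χ : ℂ) * (χ : G → ℂ) 1 = (m χ : ℂ) * f := by
      intro χ hχ
      by_cases h0 : m χ = 0
      · simp [h0]
      · rw [hf χ χ.2 (fun e => Finset.ne_of_mem_erase hχ (Subtype.ext e)) (by rw [hm]; exact_mod_cast h0)]
    rw [Finset.sum_congr rfl h2] at h1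
    have e : CfsgLib.Perm.permChar G Ω 1 = (Fintype.card Ω : ℂ) := by
      simp [CfsgLib.Perm.permChar]
    rw [e] at h1
    apply Nat.cast_injective (R := ℂ)
    rw [h1]
    push_cast
    rw [Finset.mul_sum]
    simp [one, mul_comm]
  have hcard : Fintype.card (MulAction.orbitRel.Quotient (MulAction.stabilizer G a) Ω) = 1 + ∑ χ ∈ R, m χ ^ 2 := by
    rw [← Nat.card_eq_fintype_card, Nat.card_congr (CfsgLib.Perm.orbitPairEquiv a), ← CfsgLib.Perm.finrank_permEnd, hrk,
      ← Finset.add_sum_erase _ _ (Finset.mem_univ one), hm1]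
    rfl
  set size : MulAction.orbitRel.Quotient (MulAction.stabilizer G a) Ω → ℕ := fun ω =>
    Nat.card (MulAction.orbit (MulAction.stabilizer G a) ω.out) with hsize
  have htot : Fintype.card Ω = ∑ ω, size ω := by
    rw [← Nat.card_eq_fintype_card, Nat.card_congr (MulAction.selfEquivSigmaOrbits (MulAction.stabilizer G a) Ω), Nat.card_sigma]
  set oa : MulAction.orbitRel.Quotient (MulAction.stabilizer G a) Ω := ⟦a⟧ with hoa
  have hout : ∀ ω, ω ≠ oa → ω.out ≠ a := fun ω hω e => hω (by rw [← Quotient.out_eq ω, e])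
  have hsa : size oa = 1 := by
    obtain ⟨g, hg⟩ : oa.out ∈ MulAction.orbit (MulAction.stabilizer G a) a := Quotient.exact (Quotient.out_eq oa)
    have e : oa.out = a := hg.symm.trans g.2
    simp only [hsize, e]
    have : MulAction.orbit (MulAction.stabilizer G a) a = ({a} : Set Ω) := Set.eq_singleton_iff_unique_mem.mpr
      ⟨MulAction.mem_orbit_self a, by rintro _ ⟨g, rfl⟩; exact g.2⟩
    rw [this, Nat.card_coe_set_eq, Set.ncard_singleton]
  have hdvd : ∀ b, b ≠ a → f ∣ Nat.card (MulAction.orbit (MulAction.stabilizer G a) b) := fun b hb =>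
    CfsgLib.Perm.dvd_subdegree f (fun χ h1 h2 h3 => ⟨1, by rw [hf χ h1 h2 h3, Nat.cast_one, mul_one]⟩) a b hb
  have hpos : ∀ b : Ω, 0 < Nat.card (MulAction.orbit (MulAction.stabilizer G a) b) := fun b => by
    haveI : Nonempty (MulAction.orbit (MulAction.stabilizer G a) b) := ⟨⟨b, MulAction.mem_orbit_self b⟩⟩
    exact Nat.card_pos
  have hge : ∀ ω ∈ Finset.univ.erase oa, f ≤ size ω := fun ω hω =>
    Nat.le_of_dvd (hpos _) (hdvd _ (hout ω (Finset.ne_of_mem_erase hω)))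
  have htot' : f * ∑ χ ∈ R, m χ = ∑ ω ∈ Finset.univ.erase oa, size ω := by
    have := htot
    rw [← Finset.add_sum_erase _ _ (Finset.mem_univ oa), hsa, hn] at this
    omega
  have hcard' : (Finset.univ.erase oa).card = ∑ χ ∈ R, m χ ^ 2 := by
    rw [Finset.card_erase_of_mem (Finset.mem_univ oa), Finset.card_univ, hcard]
    omega
  have h1 : f * ∑ χ ∈ R, m χ ^ 2 ≤ ∑ ω ∈ Finset.univ.erase oa, size ω := by
    rw [← hcard', mul_comm, ← smul_eq_mul, ← Finset.sum_const]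
    exact Finset.sum_le_sum hge
  rcases Nat.eq_zero_or_pos f with hf0 | hfpos
  · have hR0 : ∀ χ ∈ R, m χ = 0 := by
      intro χ hχ
      by_contra h0
      have := hf χ χ.2 (fun e => Finset.ne_of_mem_erase hχ (Subtype.ext e)) (by rw [hm]; exact_mod_cast h0)
      rw [hf0, Nat.cast_zero] at this
      exact CfsgLib.Char.irr_apply_one_ne_zero χ.2 this
    refine ⟨fun χ hχ => ?_, fun b hb => ?_⟩
    · by_cases h : (⟨χ, hχ⟩ : Cfsg.IrrCharacter G) = one
      · right; rw [show χ = (fun _ => 1) from congrArg Subtype.val h]; exact CfsgLib.Perm.classInner_permChar_one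
      · left; rw [show χ = ((⟨χ, hχ⟩ : Cfsg.IrrCharacter G) : G → ℂ) from rfl, hm, hR0 _ (Finset.mem_erase.mpr ⟨h, Finset.mem_univ _⟩), Nat.cast_zero]
    · obtain ⟨c, hc⟩ := hdvd b hb
      rw [hc, hf0, Nat.zero_mul]
  have h2 : ∑ χ ∈ R, m χ ^ 2 ≤ ∑ χ ∈ R, m χ := Nat.le_of_mul_le_mul_left (h1.trans htot'.ge) hfpos
  have h3 : ∀ χ ∈ R, m χ = m χ ^ 2 := by
    rw [← Finset.sum_eq_sum_iff_of_le (fun χ _ => Nat.le_self_pow two_ne_zero (m χ))]
    exact le_antisymm (Finset.sum_le_sum fun χ _ => Nat.le_self_pow two_ne_zero (m χ)) h2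
  have h4 : ∀ χ ∈ R, m χ ≤ 1 := fun χ hχ => by
    by_contra h
    have e := h3 χ hχ
    rw [pow_two] at e
    have := Nat.eq_of_mul_eq_mul_left (show 0 < m χ by omega) (e.symm.trans (Nat.mul_one _).symm)
    omega
  have h5 : ∀ ω ∈ Finset.univ.erase oa, f = size ω := by
    rw [← Finset.sum_eq_sum_iff_of_le hge, Finset.sum_const, smul_eq_mul, hcard', mul_comm, ← htot']
    rw [Finset.sum_congr rfl (fun χ hχ => (h3 χ hχ).symm)]
  refine ⟨fun χ hχ => ?_, fun b hb => ?_⟩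
  · by_cases h : (⟨χ, hχ⟩ : Cfsg.IrrCharacter G) = one
    · right; rw [show χ = (fun _ => 1) from congrArg Subtype.val h]; exact CfsgLib.Perm.classInner_permChar_one
    · have := h4 _ (Finset.mem_erase.mpr ⟨h, Finset.mem_univ _⟩)
      rw [show χ = ((⟨χ, hχ⟩ : Cfsg.IrrCharacter G) : G → ℂ) from rfl, hm, Nat.cast_eq_zero, Nat.cast_eq_one]
      omega
  · have hne : (⟦b⟧ : MulAction.orbitRel.Quotient (MulAction.stabilizer G a) Ω) ≠ oa := fun e => by
      obtain ⟨g, hg⟩ := Quotient.exact e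
      exact hb (hg.symm.trans g.2)
    rw [h5 _ (Finset.mem_erase.mpr ⟨hne, Finset.mem_univ _⟩)]
    obtain ⟨g, hg⟩ := Quotient.exact (Quotient.out_eq (⟦b⟧ : MulAction.orbitRel.Quotient (MulAction.stabilizer G a) Ω))
    exact congrArg (fun s : Set Ω => Nat.card s) (MulAction.orbit_eq_iff.mpr ⟨g, hg⟩).symm

/-- (a) If all non-principal irreducible constituents of the permutation character of a transitive group have the same degree `f`, the character is multiplicity-free and all non-trivial subdegrees equal `f`. (b) A transitive group of rank at most 5 has multiplicity-free permutation character. -/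
theorem result {G : Type*} [Group G] [Fintype G] {Ω : Type*} [Fintype Ω] [MulAction G Ω] [MulAction.IsPretransitive G Ω] (a : Ω) : ((f : ℕ) → (∀ χ : G → ℂ, Cfsg.IsIrrCharacter G χ → χ ≠ (fun _ => 1) → Cfsg.classInner (fun g : G => (Nat.card (MulAction.fixedBy Ω g) : ℂ)) χ ≠ 0 → χ 1 = f) → (∀ χ : G → ℂ, Cfsg.IsIrrCharacter G χ → Cfsg.classInner (fun g : G => (Nat.card (MulAction.fixedBy Ω g) : ℂ)) χ = 0 ∨ Cfsg.classInner (fun g : G => (Nat.card (MulAction.fixedBy Ω g) : ℂ)) χ = 1) ∧ ∀ b : Ω, b ≠ a → Nat.card (MulAction.orbit (MulAction.stabilizer G a) b) = f) ∧ (Nat.card (MulAction.orbitRel.Quotient (MulAction.stabilizer G a) Ω) ≤ 5 → ∀ χ : G → ℂ, Cfsg.IsIrrCharacter G χ → Cfsg.classInner (fun g : G => (Nat.card (MulAction.fixedBy Ω g) : ℂ)) χ = 0 ∨ Cfsg.classInner (fun g : G => (Nat.card (MulAction.fixedBy Ω g) : ℂ)) χ = 1) := by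
  refine ⟨fun f hf => equal_degrees a f hf, fun hr χ hχ => ?_⟩
  classical
  haveI : Nonempty Ω := ⟨a⟩
  haveI := Fintype.ofFinite (Cfsg.IrrCharacter G)
  obtain ⟨m, hm, -, hrk⟩ := CfsgLib.Perm.exists_multiplicities (G := G) (Ω := Ω)
  let one : Cfsg.IrrCharacter G := ⟨fun _ => 1, CfsgLib.Char.isIrrCharacter_one⟩
  have hm1 : m one = 1 := by
    have := (hm one).symm.trans (CfsgLib.Perm.classInner_permChar_one (G := G) (Ω := Ω))
    exact_mod_cast this
  set c : Cfsg.IrrCharacter G := ⟨χ, hχ⟩ with hc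
  rw [show χ = (c : G → ℂ) from rfl, hm]
  by_contra hbig
  rw [Nat.cast_eq_zero, Nat.cast_eq_one] at hbig
  have hc1 : c ≠ one := fun e => hbig (Or.inr (e ▸ hm1))
  rw [Nat.card_congr (CfsgLib.Perm.orbitPairEquiv a), ← CfsgLib.Perm.finrank_permEnd, hrk,
    ← Finset.add_sum_erase _ _ (Finset.mem_univ one), hm1,
    ← Finset.add_sum_erase _ _ (Finset.mem_erase.mpr ⟨hc1, Finset.mem_univ c⟩)] at hr
  have h4 : 4 ≤ m c ^ 2 := by
    have := Nat.pow_le_pow_left (show 2 ≤ m c by omega) 2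
    omega
  have h0 : ∀ ψ ∈ (Finset.univ.erase one).erase c, m ψ = 0 := by
    intro ψ hψ
    have h1 := Finset.single_le_sum (f := fun ψ => m ψ ^ 2) (fun _ _ => Nat.zero_le _) hψ
    have h2 : m ψ ^ 2 = 0 := by omega
    exact pow_eq_zero_iff two_ne_zero |>.mp h2
  obtain ⟨d, hd⟩ := CfsgLib.Char.char_apply_one_eq_nat (CfsgLib.Char.irr_isCharacter hχ)
  have hfree := (equal_degrees a d (fun ψ hψ hψ1 hψπ => by
    by_cases e : (⟨ψ, hψ⟩ : Cfsg.IrrCharacter G) = c
    · rw [show ψ = χ from congrArg Subtype.val e, hd]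
    · exfalso
      apply hψπ
      rw [show ψ = ((⟨ψ, hψ⟩ : Cfsg.IrrCharacter G) : G → ℂ) from rfl, hm,
        h0 _ (Finset.mem_erase.mpr ⟨e, Finset.mem_erase.mpr ⟨fun e' => hψ1 (congrArg Subtype.val e'), Finset.mem_univ _⟩⟩), Nat.cast_zero])).1 χ hχ
  rw [show χ = (c : G → ℂ) from rfl, hm, Nat.cast_eq_zero, Nat.cast_eq_one] at hfree
  exact hbig hfree

end Cfsg.Agent.S0716
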