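import Cfsg.Statements.S0717
import Cfsg.Agent.Lib.Perm.PermChar

set_option autoImplicit false
open Cfsg

namespace Cfsg.Agent.S0717

/-- All suborbits of a transitive group are self-paired (every pair of points is interchanged by some group element) if and only if the permutation character is multiplicity-free and each of its irreducible constituents is real-valued. -/
theorem result {G : Type*} [Group G] [Fintype G] {Ω : Type*} [Fintype Ω] [MulAction G Ω] [MulAction.IsPretransitive G Ω] : (∀ a b : Ω, ∃ g : G, g • a = b ∧ g • b = a) ↔ ∀ χ : G → ℂ, Cfsg.IsIrrCharacter G χ → Cfsg.classInner (fun g : G => (Nat.card (MulAction.fixedBy Ω g) : ℂ)) χ ≠ 0 → Cfsg.classInner (fun g : G => (Nat.card (MulAction.fixedBy Ω g) : ℂ)) χ = 1 ∧ ∀ g : G, (starRingEnd ℂ) (χ g) = χ g := by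
  classical
  let e := CfsgLib.Perm.intertwinerEquiv ℂ G Ω Ω
  have hentry : ∀ (T : CfsgLib.Perm.permEnd G Ω) (x y : Ω),
      (T : (Ω → ℂ) →ₗ[ℂ] (Ω → ℂ)) (Pi.single x 1) y = e T ⟦(x, y)⟧ := fun T x y => rfl
  constructor
  · intro hsp χ hχ hne
    have hsym : ∀ T ∈ CfsgLib.Perm.permEnd G Ω, ∀ x y : Ω, T (Pi.single x 1) y = T (Pi.single y 1) x := by
      intro T hT x y
      have hq : (⟦(x, y)⟧ : MulAction.orbitRel.Quotient G (Ω × Ω)) = ⟦(y, x)⟧ := by
        obtain ⟨g, h1, h2⟩ := hsp y x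
        exact Quotient.sound ⟨g, Prod.ext h1 h2⟩
      exact (hentry ⟨T, hT⟩ x y).trans ((congrArg (e ⟨T, hT⟩) hq).trans (hentry ⟨T, hT⟩ y x).symm)
    have happ : ∀ (T : (Ω → ℂ) →ₗ[ℂ] (Ω → ℂ)) (f : Ω → ℂ) (y : Ω), T f y = ∑ z, f z * T (Pi.single z 1) y := by
      intro T f y
      conv_lhs => rw [pi_eq_sum_univ' f, map_sum, Finset.sum_apply]
      exact Finset.sum_congr rfl fun z _ => by rw [map_smul, Pi.smul_apply, smul_eq_mul]
    have hcomm : ∀ S T : (Ω → ℂ) →ₗ[ℂ] (Ω → ℂ), S ∈ CfsgLib.Perm.permEnd G Ω → T ∈ CfsgLib.Perm.permEnd G Ω →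
        S ∘ₗ T = T ∘ₗ S := by
      intro S T hS hT
      have hST : S ∘ₗ T ∈ CfsgLib.Perm.permEnd G Ω := by
        refine (Representation.mem_linHom_invariants_iff_isIntertwining _).mpr ⟨fun g v => ?_⟩
        show S (T (Cfsg.permRep ℂ G Ω g v)) = Cfsg.permRep ℂ G Ω g (S (T v))
        rw [CfsgLib.Perm.intertwiner_commute ⟨T, hT⟩, CfsgLib.Perm.intertwiner_commute ⟨S, hS⟩]
      apply LinearMap.pi_ext'
      intro x
      apply LinearMap.ext_ring
      funext y
      show S (T (Pi.single x 1)) y = T (S (Pi.single x 1)) y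
      rw [show S (T (Pi.single x 1)) y = S (T (Pi.single y 1)) x from hsym _ hST x y,
        happ S (T (Pi.single y 1)) x, happ T (S (Pi.single x 1)) y]
      refine Finset.sum_congr rfl fun z _ => ?_
      rw [hsym S hS z x, hsym T hT y z, mul_comm]
    refine ⟨(CfsgLib.Perm.multiplicityFree_of_commute hcomm hχ).resolve_left hne, fun g => ?_⟩
    obtain ⟨p, hp, hpc⟩ := CfsgLib.Perm.exists_subrep_of_constituent hχ hne
    have hχ' := CfsgLib.Char.isIrrCharacter_conj hχ
    have hop : CfsgLib.Char.classOp χ (Cfsg.permRep ℂ G Ω) =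
        CfsgLib.Char.classOp (fun g => (starRingEnd ℂ) (χ g)) (Cfsg.permRep ℂ G Ω) := by
      apply LinearMap.pi_ext'
      intro x
      apply LinearMap.ext_ring
      funext y
      show CfsgLib.Char.classOp χ (Cfsg.permRep ℂ G Ω) (Pi.single x 1) y = CfsgLib.Char.classOp _ (Cfsg.permRep ℂ G Ω) (Pi.single x 1) y
      rw [hsym _ (CfsgLib.Perm.classOp_mem_permEnd (CfsgLib.Char.irr_isClassFunction hχ)) x y,
        CfsgLib.Perm.classOp_permRep_entry, CfsgLib.Perm.classOp_permRep_entry]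
      refine Fintype.sum_equiv (Equiv.inv G) _ _ fun h => ?_
      rw [Equiv.inv_apply]
      by_cases hh : h • x = y
      · rw [if_pos hh, if_pos (inv_smul_eq_iff.mpr hh.symm), CfsgLib.Char.char_inv (CfsgLib.Char.irr_isCharacter hχ), Complex.conj_conj]
      · rw [if_neg hh, if_neg (fun e => hh (inv_smul_eq_iff.mp e).symm)]
    by_contra hne'
    have hχne : (fun g => (starRingEnd ℂ) (χ g)) ≠ χ := fun e => hne' (congrFun e g)
    haveI := hp
    haveI := CfsgLib.Char.nontrivial_of_isIrreducible p.toRepresentation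
    obtain ⟨x, hx⟩ := exists_ne (0 : p.toSubmodule)
    have h1 := LinearMap.congr_fun hop (x : Ω → ℂ)
    rw [CfsgLib.Perm.classOp_apply_subrep (CfsgLib.Char.irr_isClassFunction hχ) p hp x x.2,
      CfsgLib.Perm.classOp_apply_subrep (CfsgLib.Char.irr_isClassFunction hχ') p hp x x.2, hpc,
      CfsgLib.Char.irr_classInner_self hχ, CfsgLib.Char.irr_classInner_ne hχ' hχ hχne, mul_zero, zero_div, zero_smul,
      mul_one] at h1
    rcases div_eq_zero_iff.mp ((smul_eq_zero.mp h1).resolve_right fun e => hx (Subtype.ext e)) with h2 | h2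
    · exact CfsgLib.Char.natCard_ne_zero h2
    · exact (Module.finrank_pos (R := ℂ) (M := p.toSubmodule)).ne' (by exact_mod_cast h2)
  · intro h a b
    haveI := Fintype.ofFinite (Cfsg.IrrCharacter G)
    haveI := Fintype.ofFinite (MulAction.orbitRel.Quotient G (Ω × Ω))
    have hspan := CfsgLib.Perm.span_classOp (G := G) (Ω := Ω) fun χ hχ => or_iff_not_imp_left.mpr fun hne => (h χ hχ hne).1
    have hsym : ∀ T ∈ CfsgLib.Perm.permEnd G Ω, ∀ x y : Ω, T (Pi.single x 1) y = T (Pi.single y 1) x := by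
      intro T hT x y
      rw [← hspan] at hT
      induction hT using Submodule.span_induction with
      | mem T hT =>
        obtain ⟨⟨χ, hχne⟩, rfl⟩ := hT
        show CfsgLib.Char.classOp (χ : G → ℂ) (Cfsg.permRep ℂ G Ω) (Pi.single x 1) y = CfsgLib.Char.classOp (χ : G → ℂ) (Cfsg.permRep ℂ G Ω) (Pi.single y 1) x
        rw [CfsgLib.Perm.classOp_permRep_entry, CfsgLib.Perm.classOp_permRep_entry]
        refine Fintype.sum_equiv (Equiv.inv G) _ _ fun k => ?_
        rw [Equiv.inv_apply]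
        by_cases hk : k • y = x
        · rw [if_pos hk, if_pos (inv_smul_eq_iff.mpr hk.symm), CfsgLib.Char.char_inv (CfsgLib.Char.irr_isCharacter χ.2), (h χ χ.2 hχne).2]
        · rw [if_neg hk, if_neg (fun e => hk (inv_smul_eq_iff.mp e).symm)]
      | zero => simp
      | add S T _ _ hS hT => simp [hS, hT]
      | smul c T _ hT => simp [hT]
    let T := e.symm (Pi.single ⟦(a, b)⟧ 1)
    have h1 := hsym T T.2 a b
    rw [hentry, hentry, LinearEquiv.apply_symm_apply, Pi.single_eq_same] at h1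
    have hq : (⟦(b, a)⟧ : MulAction.orbitRel.Quotient G (Ω × Ω)) = ⟦(a, b)⟧ := by
      by_contra hne
      rw [Pi.single_eq_of_ne hne] at h1
      exact one_ne_zero h1
    obtain ⟨g, hg⟩ := Quotient.exact hq
    exact ⟨g, congrArg Prod.fst hg, congrArg Prod.snd hg⟩

end Cfsg.Agent.S0717
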