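import Cfsg.Statements.S0719
import Cfsg.Agent.Lib.Perm.Subdegree
import Mathlib.GroupTheory.GroupAction.Primitive
import Mathlib.Tactic.Linarith
import Mathlib.Algebra.Group.Subgroup.Basic

set_option autoImplicit false
open Cfsg

namespace Cfsg.Agent.S0719

/-- The arithmetic of a rank three group of degree `2m`. -/
theorem arith {m k : ℕ} {L M : ℤ} (hm : 2 ≤ m) (hk : 2 ≤ k) (hkm : k + 1 ≤ m)
    (h1 : ((m : ℤ) - 1) * L + m * M = -k)
    (h2 : ((m : ℤ) - 1) * L ^ 2 + m * M ^ 2 = 2 * m * k - (k : ℤ) ^ 2) :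
    ∃ a : ℕ, 0 < a ∧ m = 2 * a ^ 2 + 2 * a + 1 ∧ k = a * (2 * a + 1) := by
  obtain ⟨t, ht⟩ : ∃ t, L = k - m * t := ⟨-(L + M), by linear_combination -h1⟩
  have hmz : (2 : ℤ) ≤ m := by exact_mod_cast hm
  have hkz : (2 : ℤ) ≤ k := by exact_mod_cast hk
  have hkmz : (k : ℤ) + 1 ≤ m := by exact_mod_cast hkm
  have hbound : ((m : ℤ) - 1) * L ^ 2 ≤ k * (2 * m - k) := by nlinarith [sq_nonneg M]
  rcases (show t ≤ -1 ∨ t = 0 ∨ t = 1 ∨ 2 ≤ t by omega) with h | h | h | h
  · exfalso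
    have hL : (m : ℤ) + k ≤ L := by nlinarith
    have : ((m : ℤ) + k) ^ 2 ≤ L ^ 2 := by nlinarith
    nlinarith
  · exfalso
    subst h
    have hL : L = k := by rw [ht]; ring
    have hM : M = -k := by
      have : (m : ℤ) * M = m * (-k) := by rw [hL] at h1; linear_combination h1
      exact mul_left_cancel₀ (by omega) this
    rw [hL, hM] at h2
    have : (k : ℤ) * (2 * m * k - 2 * m) = 0 := by linear_combination h2
    rcases mul_eq_zero.mp this with h3 | h3
    · omega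
    · nlinarith
  · subst h
    have hL : L = k - m := by rw [ht]; ring
    have hM : M = m - 1 - k := by
      have : (m : ℤ) * M = m * (m - 1 - k) := by rw [hL] at h1; linear_combination h1
      exact mul_left_cancel₀ (by omega) this
    rw [hL, hM] at h2
    set d : ℤ := 2 * m - 1 - 2 * k with hd
    have hd2 : d ^ 2 = 2 * m - 1 := by
      have h4 : (m : ℤ) * (d ^ 2 - (2 * m - 1)) = 0 := by rw [hd]; linear_combination 2 * h2
      rcases mul_eq_zero.mp h4 with h5 | h5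
      · omega
      · linarith
    refine ⟨m - 1 - k, ?_, ?_⟩
    · by_contra h0
      have : d = 1 := by omega
      rw [this] at hd2
      omega
    · have he : d = 2 * ((m - 1 - k : ℕ) : ℤ) + 1 := by omega
      rw [he] at hd2
      have hm' : (m : ℤ) = 2 * ((m - 1 - k : ℕ) : ℤ) ^ 2 + 2 * ((m - 1 - k : ℕ) : ℤ) + 1 := by linarith
      refine ⟨by exact_mod_cast hm', ?_⟩
      have hk' : (k : ℤ) = ((m - 1 - k : ℕ) : ℤ) * (2 * ((m - 1 - k : ℕ) : ℤ) + 1) := by
        have : 2 * (k : ℤ) = 2 * m - 1 - d := by omega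
        rw [he, hm'] at this
        linarith
      exact_mod_cast hk'
  · exfalso
    have hL : 2 * (m : ℤ) - k ≤ -L := by nlinarith
    have : (2 * (m : ℤ) - k) ^ 2 ≤ L ^ 2 := by nlinarith
    nlinarith

/-- Groups of Wielandt type: if a primitive group of degree `2m` has rank 3 and permutation character `1 + χ₁ + χ₂` with irreducible `χ₁, χ₂` of degrees `m - 1` and `m`, then `m = 2a² + 2a + 1` for some positive integer `a` and the two non-trivial subdegrees are `a(2a+1)` and `(a+1)(2a+1)`. -/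
theorem result {G : Type*} [Group G] [Fintype G] {Ω : Type*} [Fintype Ω] [MulAction G Ω] (hprim : MulAction.IsPreprimitive G Ω) {m : ℕ} (hm : Fintype.card Ω = 2 * m) (a₀ : Ω) (hrank : Nat.card (MulAction.orbitRel.Quotient (MulAction.stabilizer G a₀) Ω) = 3) (χ₁ χ₂ : G → ℂ) (h₁ : Cfsg.IsIrrCharacter G χ₁) (h₂ : Cfsg.IsIrrCharacter G χ₂) (hπ : (fun g : G => (Nat.card (MulAction.fixedBy Ω g) : ℂ)) = fun g => 1 + χ₁ g + χ₂ g) (hd₁ : χ₁ 1 = (m : ℂ) - 1) (hd₂ : χ₂ 1 = m) : ∃ a : ℕ, 0 < a ∧ m = 2 * a ^ 2 + 2 * a + 1 ∧ ∀ b : Ω, b ≠ a₀ → Nat.card (MulAction.orbit (MulAction.stabilizer G a₀) b) = a * (2 * a + 1) ∨ Nat.card (MulAction.orbit (MulAction.stabilizer G a₀) b) = (a + 1) * (2 * a + 1) := by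
  classical
  haveI := hprim
  haveI := Fintype.ofFinite (Cfsg.IrrCharacter G)
  set Q := MulAction.orbitRel.Quotient G (Ω × Ω) with hQdef
  haveI : Fintype Q := Fintype.ofFinite _
  haveI : Nonempty Ω := ⟨a₀⟩
  have hQ : Fintype.card Q = 3 := by
    rw [← Nat.card_eq_fintype_card, ← hrank]
    exact (Nat.card_congr (CfsgLib.Perm.orbitPairEquiv a₀)).symm
  set q₀ : Q := ⟦(a₀, a₀)⟧ with hq₀
  have hdiag : ∀ x y : Ω, (⟦(x, y)⟧ : Q) = q₀ ↔ x = y := by
    intro x y
    constructor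
    · intro h
      obtain ⟨g, hg⟩ := Quotient.exact h.symm
      have hg' := congrArg (g⁻¹ • ·) hg
      simp only [inv_smul_smul] at hg'
      have h1 : x = g⁻¹ • a₀ := congrArg Prod.fst hg'
      have h2 : y = g⁻¹ • a₀ := congrArg Prod.snd hg'
      rw [h1, h2]
    · rintro rfl
      obtain ⟨g, hg⟩ := MulAction.exists_smul_eq G a₀ x
      exact Quotient.sound ⟨g, Prod.ext hg hg⟩
  obtain ⟨q₁', q₂', hne12, hqs⟩ := Finset.card_eq_two.mp (show (Finset.univ.erase q₀).card = 2 by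
    rw [Finset.card_erase_of_mem (Finset.mem_univ _), Finset.card_univ, hQ])
  have hqcases : ∀ q : Q, q = q₀ ∨ q = q₁' ∨ q = q₂' := by
    intro q
    by_cases h : q = q₀
    · exact Or.inl h
    · have : q ∈ Finset.univ.erase q₀ := Finset.mem_erase.mpr ⟨h, Finset.mem_univ _⟩
      rw [hqs, Finset.mem_insert, Finset.mem_singleton] at this
      exact Or.inr this
  -- every orbital is self-paired
  have hsym : ∀ x y : Ω, (⟦(x, y)⟧ : Q) = ⟦(y, x)⟧ := by
    set P : Subgroup (Equiv.Perm Ω) := (MulAction.toPermHom G Ω).range with hP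
    have hdvd : Fintype.card Ω ∣ Nat.card P := by
      haveI : MulAction.IsPretransitive P Ω := ⟨fun x y => by
        obtain ⟨g, hg⟩ := MulAction.exists_smul_eq G x y
        exact ⟨⟨_, g, rfl⟩, hg⟩⟩
      rw [CfsgLib.Perm.natCard_eq_mul_stabilizer (G := P) a₀, Nat.card_eq_fintype_card (α := Ω)]
      exact dvd_mul_right _ _
    obtain ⟨⟨σ, g, rfl⟩, hσ⟩ := exists_prime_orderOf_dvd_card' (G := P) 2 ((hm ▸ dvd_mul_right 2 m : 2 ∣ Fintype.card Ω).trans hdvd)
    have hσ2 : ∀ z, g • g • z = z := fun z => by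
      have h1 := congrArg (fun p : P => (p : Equiv.Perm Ω) z) (hσ ▸ pow_orderOf_eq_one (⟨_, g, rfl⟩ : P))
      simpa [pow_two, Equiv.Perm.mul_apply] using h1
    obtain ⟨x₀, hx₀⟩ : ∃ x, g • x ≠ x := by
      by_contra h
      push Not at h
      have : (⟨_, g, rfl⟩ : P) = 1 := Subtype.ext (Equiv.ext h)
      rw [this, orderOf_one] at hσ
      omega
    have h01 : (⟦(x₀, g • x₀)⟧ : Q) = ⟦(g • x₀, x₀)⟧ := Quotient.sound ⟨g, Prod.ext (hσ2 x₀) rfl⟩
    let sw : Q → Q := Quotient.map Prod.swap (by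
      rintro u v ⟨k, hk⟩
      exact ⟨k, congrArg Prod.swap hk⟩)
    have hswsw : ∀ q, sw (sw q) = q := fun q => Quotient.inductionOn q fun z => rfl
    have hsw0 : sw q₀ = q₀ := rfl
    have hfix : sw ⟦(x₀, g • x₀)⟧ = ⟦(x₀, g • x₀)⟧ := h01.symm
    have hne0 : (⟦(x₀, g • x₀)⟧ : Q) ≠ q₀ := fun h => hx₀ ((hdiag _ _).mp h).symm
    have hall : ∀ q, sw q = q := by
      have inj : Function.Injective sw := fun u v h => by rw [← hswsw u, h, hswsw]
      rcases hqcases ⟦(x₀, g • x₀)⟧ with h | h | h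
      · exact absurd h hne0
      · rw [h] at hfix
        intro q
        rcases hqcases q with e0 | e0 | e0 <;> rw [e0]
        · exact hsw0
        · exact hfix
        · rcases hqcases (sw q₂') with e | e | e
          · exact absurd (inj (e.trans hsw0.symm)) (fun e' => Finset.ne_of_mem_erase (hqs ▸ (by simp) : q₂' ∈ Finset.univ.erase q₀) e')
          · exact absurd (inj (e.trans hfix.symm)).symm hne12
          · exact e
      · rw [h] at hfix
        intro q
        rcases hqcases q with e0 | e0 | e0 <;> rw [e0]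
        · exact hsw0
        · rcases hqcases (sw q₁') with e | e | e
          · exact absurd (inj (e.trans hsw0.symm)) (fun e' => Finset.ne_of_mem_erase (hqs ▸ (by simp) : q₁' ∈ Finset.univ.erase q₀) e')
          · exact e
          · exact absurd (inj (e.trans hfix.symm)) hne12
        · exact hfix
    exact fun x y => (hall ⟦(x, y)⟧).symm
  -- sizes
  let size : Q → ℕ := fun q => (Finset.univ.filter fun x : Ω => (⟦(x, a₀)⟧ : Q) = q).card
  have hsize0 : size q₀ = 1 := by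
    rw [Finset.card_eq_one]
    exact ⟨a₀, by ext x; simp [hdiag]⟩
  have hsizes : Fintype.card Ω = 1 + (size q₁' + size q₂') := by
    rw [← Finset.card_univ, Finset.card_eq_sum_card_fiberwise (f := fun x : Ω => (⟦(x, a₀)⟧ : Q)) (t := Finset.univ) (fun x _ => Finset.mem_univ _),
      ← Finset.add_sum_erase _ _ (Finset.mem_univ q₀), hqs, Finset.sum_pair hne12]
    exact congrArg (· + _) hsize0
  have hrep : ∀ q : Q, ∃ x, (⟦(x, a₀)⟧ : Q) = q := fun q => Quotient.inductionOn q fun z => by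
    obtain ⟨g, hg⟩ := MulAction.exists_smul_eq G z.2 a₀
    exact ⟨g • z.1, Quotient.sound ⟨g, Prod.ext rfl hg⟩⟩
  have hsizepos : ∀ q, 0 < size q := fun q => by
    obtain ⟨x, hx⟩ := hrep q
    exact Finset.card_pos.mpr ⟨x, by simpa using hx⟩
  have horbit : ∀ b, Nat.card (MulAction.orbit (MulAction.stabilizer G a₀) b) = size ⟦(b, a₀)⟧ := by
    intro b
    rw [Nat.card_eq_fintype_card, Fintype.card_subtype]
    exact congrArg Finset.card (Finset.filter_congr fun x _ => CfsgLib.Perm.orbitPair_iff.symm)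
  have hm2 : 2 ≤ m := by
    have := hsizepos q₁'
    have := hsizepos q₂'
    omega
  obtain ⟨q₁, q₂, hne, hq12, hle⟩ : ∃ q₁ q₂ : Q, q₁ ≠ q₂ ∧ (∀ q, q = q₀ ∨ q = q₁ ∨ q = q₂) ∧ size q₁ + 1 ≤ m := by
    rcases Nat.lt_or_ge (size q₁') m with h | h
    · exact ⟨q₁', q₂', hne12, hqcases, h⟩
    · exact ⟨q₂', q₁', Ne.symm hne12, fun q => (hqcases q).imp_right Or.symm, by omega⟩
  have hsum12 : size q₁ + size q₂ + 1 = 2 * m := by
    rcases hqcases q₁ with h | h | h
    · exfalso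
      rcases hqcases q₂ with h' | h' | h'
      · exact hne (h.trans h'.symm)
      · rcases hq12 q₂' with e | e | e
        · exact Finset.ne_of_mem_erase (hqs ▸ (by simp) : q₂' ∈ Finset.univ.erase q₀) e
        · exact Finset.ne_of_mem_erase (hqs ▸ (by simp) : q₂' ∈ Finset.univ.erase q₀) (e.trans h)
        · exact hne12 (h'.symm.trans e.symm)
      · rcases hq12 q₁' with e | e | e
        · exact Finset.ne_of_mem_erase (hqs ▸ (by simp) : q₁' ∈ Finset.univ.erase q₀) e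
        · exact Finset.ne_of_mem_erase (hqs ▸ (by simp) : q₁' ∈ Finset.univ.erase q₀) (e.trans h)
        · exact hne12 (e.trans h')
    · rcases hq12 q₂' with e | e | e
      · exact absurd e (Finset.ne_of_mem_erase (hqs ▸ (by simp) : q₂' ∈ Finset.univ.erase q₀))
      · exact absurd (e.trans h).symm hne12
      · rw [h, ← e]; omega
    · rcases hq12 q₁' with e | e | e
      · exact absurd e (Finset.ne_of_mem_erase (hqs ▸ (by simp) : q₁' ∈ Finset.univ.erase q₀))
      · exact absurd (e.trans h) hne12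
      · rw [h, ← e]; omega
  have hne0 : q₁ ≠ q₀ ∧ q₂ ≠ q₀ := by
    have hmem : ∀ q : Q, q ≠ q₀ → q = q₁ ∨ q = q₂ := fun q h => (hq12 q).resolve_left h
    have h1 := hmem q₁' (Finset.ne_of_mem_erase (hqs ▸ (by simp) : q₁' ∈ Finset.univ.erase q₀))
    have h2 := hmem q₂' (Finset.ne_of_mem_erase (hqs ▸ (by simp) : q₂' ∈ Finset.univ.erase q₀))
    constructor <;> intro e
    · have a1 : q₁' = q₂ := h1.resolve_left fun h => Finset.ne_of_mem_erase (hqs ▸ (by simp) : q₁' ∈ Finset.univ.erase q₀) (h.trans e)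
      have a2 : q₂' = q₂ := h2.resolve_left fun h => Finset.ne_of_mem_erase (hqs ▸ (by simp) : q₂' ∈ Finset.univ.erase q₀) (h.trans e)
      exact hne12 (a1.trans a2.symm)
    · have a1 : q₁' = q₁ := h1.resolve_right fun h => Finset.ne_of_mem_erase (hqs ▸ (by simp) : q₁' ∈ Finset.univ.erase q₀) (h.trans e)
      have a2 : q₂' = q₁ := h2.resolve_right fun h => Finset.ne_of_mem_erase (hqs ▸ (by simp) : q₂' ∈ Finset.univ.erase q₀) (h.trans e)
      exact hne12 (a1.trans a2.symm)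
  -- the algebra
  set T := (CfsgLib.Perm.orbOp (G := G) q₁).1 with hT
  set T' := (CfsgLib.Perm.orbOp (G := G) q₂).1 with hT'
  set T₀ := (CfsgLib.Perm.orbOp (G := G) q₀).1 with hT₀
  have hid : T₀ = LinearMap.id := by
    refine LinearMap.ext fun f => funext fun y => ?_
    rw [hT₀, CfsgLib.Perm.orbOp_apply]
    simp [hdiag]
  have hall : ∀ f y, T₀ f y + T f y + T' f y = ∑ x, f x := by
    intro f y
    rw [hT₀, hT, hT', CfsgLib.Perm.orbOp_apply, CfsgLib.Perm.orbOp_apply, CfsgLib.Perm.orbOp_apply, ← Finset.sum_add_distrib, ← Finset.sum_add_distrib]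
    refine Finset.sum_congr rfl fun x _ => ?_
    rcases hq12 ⟦(x, y)⟧ with h | h | h
    · rw [if_pos h, if_neg (fun e => hne0.1 (e.symm.trans h)), if_neg (fun e => hne0.2 (e.symm.trans h))]; ring
    · rw [if_pos h, if_neg (fun e => hne0.1 (h.symm.trans e)), if_neg (fun e => hne (h.symm.trans e))]; ring
    · rw [if_pos h, if_neg (fun e => hne0.2 (h.symm.trans e)), if_neg (fun e => hne (e.symm.trans h))]; ring
  set J := T₀ + T + T' with hJ
  have hJ' : ∀ f y, J f y = ∑ x, f x := hall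
  set k := size q₁ with hk
  have hT1 : ∀ y, T (fun _ => 1) y = (k : ℂ) := by
    intro y
    obtain ⟨b, hb⟩ := hrep q₁
    rw [hT, ← hb, CfsgLib.Perm.orbOp_one, horbit, hb]
  have hcomp : T ∘ₗ T ∈ CfsgLib.Perm.permEnd G Ω :=
    (Representation.mem_linHom_invariants_iff_isIntertwining _).mpr ⟨fun g v => by
      show T (T (Cfsg.permRep ℂ G Ω g v)) = Cfsg.permRep ℂ G Ω g (T (T v))
      rw [hT, CfsgLib.Perm.intertwiner_commute, CfsgLib.Perm.intertwiner_commute]⟩
  have hcount : ∀ x y : Ω, T (T (Pi.single x 1)) y =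
      ((Finset.univ.filter fun z => (⟦(x, z)⟧ : Q) = q₁ ∧ (⟦(z, y)⟧ : Q) = q₁).card : ℂ) := by
    intro x y
    rw [hT, CfsgLib.Perm.orbOp_apply, ← Finset.sum_boole]
    refine Finset.sum_congr rfl fun z _ => ?_
    rw [CfsgLib.Perm.orbOp_apply, Finset.sum_eq_single x (fun w _ hw => by rw [Pi.single_eq_of_ne hw, zero_mul]) (by simp),
      Pi.single_eq_same, one_mul, ite_and]
    split_ifs <;> simp
  obtain ⟨b₁, hb₁⟩ := hrep q₁
  obtain ⟨b₂, hb₂⟩ := hrep q₂
  set c₀ := (Finset.univ.filter fun z => (⟦(a₀, z)⟧ : Q) = q₁ ∧ (⟦(z, a₀)⟧ : Q) = q₁).card with hc₀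
  set c₁ := (Finset.univ.filter fun z => (⟦(b₁, z)⟧ : Q) = q₁ ∧ (⟦(z, a₀)⟧ : Q) = q₁).card with hc₁
  set c₂ := (Finset.univ.filter fun z => (⟦(b₂, z)⟧ : Q) = q₁ ∧ (⟦(z, a₀)⟧ : Q) = q₁).card with hc₂
  have hc₀k : c₀ = k := by
    refine congrArg Finset.card (Finset.filter_congr fun z _ => ?_)
    rw [hsym a₀ z, and_self_iff]
  have hsq : T ∘ₗ T = (c₀ : ℂ) • T₀ + (c₁ : ℂ) • T + (c₂ : ℂ) • T' := by
    have hinv := LinearEquiv.injective (CfsgLib.Perm.intertwinerEquiv ℂ G Ω Ω)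
    have e : (⟨T ∘ₗ T, hcomp⟩ : CfsgLib.Perm.permEnd G Ω) = (c₀ : ℂ) • CfsgLib.Perm.orbOp q₀ + (c₁ : ℂ) • CfsgLib.Perm.orbOp q₁ + (c₂ : ℂ) • CfsgLib.Perm.orbOp q₂ := by
      apply hinv
      funext q
      simp only [map_add, map_smul, CfsgLib.Perm.orbOp, LinearEquiv.apply_symm_apply, Pi.add_apply, Pi.smul_apply, smul_eq_mul]
      rcases hq12 q with rfl | rfl | rfl
      · rw [Pi.single_eq_same, Pi.single_eq_of_ne (Ne.symm hne0.1), Pi.single_eq_of_ne (Ne.symm hne0.2), mul_one, mul_zero, mul_zero, add_zero, add_zero]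
        exact hcount a₀ a₀
      · rw [Pi.single_eq_same, Pi.single_eq_of_ne hne0.1, Pi.single_eq_of_ne hne, mul_one, mul_zero, mul_zero, zero_add, add_zero, ← hb₁]
        show (T ∘ₗ T) (Pi.single b₁ 1) a₀ = _
        exact hcount b₁ a₀
      · rw [Pi.single_eq_same, Pi.single_eq_of_ne hne0.2, Pi.single_eq_of_ne (Ne.symm hne), mul_one, mul_zero, mul_zero, zero_add, zero_add, ← hb₂]
        show (T ∘ₗ T) (Pi.single b₂ 1) a₀ = _
        exact hcount b₂ a₀
    exact congrArg Subtype.val e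
  -- the constituents
  let one : Cfsg.IrrCharacter G := ⟨fun _ => 1, CfsgLib.Char.isIrrCharacter_one⟩
  let c1 : Cfsg.IrrCharacter G := ⟨χ₁, h₁⟩
  let c2 : Cfsg.IrrCharacter G := ⟨χ₂, h₂⟩
  have hπ' : CfsgLib.Perm.permChar G Ω = (fun _ => (1 : ℂ)) + χ₁ + χ₂ := hπ
  have hin : ∀ χ : G → ℂ, Cfsg.IsIrrCharacter G χ → Cfsg.classInner (CfsgLib.Perm.permChar G Ω) χ =
      (if (fun _ => (1 : ℂ)) = χ then 1 else 0) + (if χ₁ = χ then 1 else 0) + (if χ₂ = χ then 1 else 0) := fun χ hχ => by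
    rw [hπ', CfsgLib.Char.classInner_add_left, CfsgLib.Char.classInner_add_left,
      CfsgLib.Char.irr_classInner CfsgLib.Char.isIrrCharacter_one hχ, CfsgLib.Char.irr_classInner h₁ hχ, CfsgLib.Char.irr_classInner h₂ hχ]
  have h12 : χ₁ ≠ χ₂ := fun e => by
    rw [e, hd₂] at hd₁
    exact one_ne_zero (show (1 : ℂ) = 0 by linear_combination hd₁)
  have hone_inner := CfsgLib.Perm.classInner_permChar_one (G := G) (Ω := Ω)
  rw [hin _ CfsgLib.Char.isIrrCharacter_one, if_pos rfl] at hone_inner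
  have h1o : χ₁ ≠ fun _ => 1 := fun e => by
    rw [if_pos e] at hone_inner
    split_ifs at hone_inner <;> norm_num at hone_inner
  have h2o : χ₂ ≠ fun _ => 1 := fun e => by
    rw [if_pos e, if_neg h1o] at hone_inner
    norm_num at hone_inner
  have hp1' : Cfsg.classInner (CfsgLib.Perm.permChar G Ω) χ₁ = 1 := by
    rw [hin χ₁ h₁, if_neg (Ne.symm h1o), if_pos rfl, if_neg (Ne.symm h12)]; ring
  have hp2' : Cfsg.classInner (CfsgLib.Perm.permChar G Ω) χ₂ = 1 := by
    rw [hin χ₂ h₂, if_neg (Ne.symm h2o), if_neg h12, if_pos rfl]; ring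
  have hfree : ∀ χ, Cfsg.IsIrrCharacter G χ → Cfsg.classInner (CfsgLib.Perm.permChar G Ω) χ = 0 ∨ Cfsg.classInner (CfsgLib.Perm.permChar G Ω) χ = 1 := by
    intro χ hχ
    by_cases e0 : (fun _ => (1 : ℂ)) = χ
    · right; rw [← e0]; exact CfsgLib.Perm.classInner_permChar_one
    by_cases e1 : χ₁ = χ
    · right; rw [← e1]; exact hp1'
    by_cases e2 : χ₂ = χ
    · right; rw [← e2]; exact hp2'
    left; rw [hin χ hχ, if_neg e0, if_neg e1, if_neg e2]; ring
  let p0 := Cfsg.permConstants ℂ G Ω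
  have hfin0 : Module.finrank ℂ p0.toSubmodule = 1 := finrank_span_singleton (fun h => one_ne_zero (congrFun h a₀))
  have hp0 : p0.toRepresentation.IsIrreducible := CfsgLib.Char.isIrreducible_of_finrank_eq_one _ hfin0
  have hp0c : p0.toRepresentation.character = (one : G → ℂ) := by
    funext g
    have : p0.toRepresentation g = 1 := by
      refine LinearMap.ext fun v => Subtype.ext ?_
      obtain ⟨c, hc⟩ := CfsgLib.Perm.mem_permConstants.mp v.2
      show Cfsg.permRep ℂ G Ω g (v : Ω → ℂ) = (v : Ω → ℂ)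
      rw [hc]; rfl
    rw [Representation.character, this, LinearMap.trace_one, hfin0, Nat.cast_one]
  obtain ⟨p1, hp1, hp1c⟩ := CfsgLib.Perm.exists_subrep_of_constituent h₁ (hp1' ▸ one_ne_zero)
  obtain ⟨p2, hp2, hp2c⟩ := CfsgLib.Perm.exists_subrep_of_constituent h₂ (hp2' ▸ one_ne_zero)
  haveI := hp1
  haveI := hp2
  haveI := CfsgLib.Char.nontrivial_of_isIrreducible p1.toRepresentation
  haveI := CfsgLib.Char.nontrivial_of_isIrreducible p2.toRepresentation
  obtain ⟨⟨x₁, hx₁⟩, hx₁0⟩ := exists_ne (0 : p1.toSubmodule)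
  obtain ⟨⟨x₂, hx₂⟩, hx₂0⟩ := exists_ne (0 : p2.toSubmodule)
  replace hx₁0 : x₁ ≠ 0 := fun e => hx₁0 (Subtype.ext e)
  replace hx₂0 : x₂ ≠ 0 := fun e => hx₂0 (Subtype.ext e)
  have hscal : ∀ F ∈ CfsgLib.Perm.permEnd G Ω, ∃ l0 l1 l2 : ℂ, F (fun _ => 1) = l0 • (fun _ => 1) ∧ F x₁ = l1 • x₁ ∧ F x₂ = l2 • x₂ ∧
      LinearMap.trace ℂ (Ω → ℂ) F = l0 + ((m : ℂ) - 1) * l1 + m * l2 := by
    intro F hF
    obtain ⟨lam, htr, hsc⟩ := CfsgLib.Perm.scalar_of_multiplicityFree hfree hF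
    refine ⟨lam one, lam c1, lam c2, hsc one p0 hp0 hp0c _ (Submodule.mem_span_singleton_self _),
      hsc c1 p1 hp1 hp1c x₁ hx₁, hsc c2 p2 hp2 hp2c x₂ hx₂, ?_⟩
    rw [htr, ← Finset.add_sum_erase _ _ (Finset.mem_univ one),
      ← Finset.add_sum_erase _ _ (Finset.mem_erase.mpr ⟨fun e : c1 = one => h1o (congrArg Subtype.val e), Finset.mem_univ c1⟩),
      ← Finset.add_sum_erase _ _ (Finset.mem_erase.mpr ⟨fun e : c2 = c1 => h12 (congrArg Subtype.val e).symm,
        Finset.mem_erase.mpr ⟨fun e : c2 = one => h2o (congrArg Subtype.val e), Finset.mem_univ c2⟩⟩),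
      Finset.sum_eq_zero, add_zero]
    · simp only [one, c1, c2, CfsgLib.Perm.classInner_permChar_one, hp1', hp2', hd₁, hd₂]
      ring
    · intro χ hχ
      simp only [Finset.mem_erase, Finset.mem_univ, and_true] at hχ
      rw [hin _ χ.2, if_neg (fun e => hχ.2.2 (Subtype.ext e.symm)), if_neg (fun e => hχ.2.1 (Subtype.ext e.symm)),
        if_neg (fun e => hχ.1 (Subtype.ext e.symm))]
      ring
  have huniq : ∀ {x : Ω → ℂ}, x ≠ 0 → ∀ {u v : ℂ}, u • x = v • x → u = v := fun {x} hx {u v} h =>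
    (smul_left_injective ℂ hx) h
  obtain ⟨j0, j1, j2, hj0, hj1, hj2, hjtr⟩ := hscal J ((CfsgLib.Perm.permEnd G Ω).add_mem ((CfsgLib.Perm.permEnd G Ω).add_mem (CfsgLib.Perm.orbOp q₀).2 (CfsgLib.Perm.orbOp q₁).2) (CfsgLib.Perm.orbOp q₂).2)
  have htr0 : LinearMap.trace ℂ (Ω → ℂ) T₀ = (2 * m : ℂ) := by
    rw [hid, LinearMap.trace_id, Module.finrank_fintype_fun_eq_card, hm]; push_cast; ring
  have htrT : ∀ q : Q, q ≠ q₀ → LinearMap.trace ℂ (Ω → ℂ) (CfsgLib.Perm.orbOp (G := G) q).1 = 0 := by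
    intro q hq
    obtain ⟨b, hb⟩ := hrep q
    rw [← hb]
    exact CfsgLib.Perm.trace_orbOp fun e => hq (hb.symm.trans ((hdiag b a₀).mpr e))
  have hj00 : j0 = (2 * m : ℂ) := by
    have := congrFun hj0 a₀
    rw [hJ', Finset.sum_const, Finset.card_univ, hm, nsmul_one, Pi.smul_apply, smul_eq_mul, mul_one] at this
    rw [← this]; push_cast; ring
  rw [hJ, map_add, map_add, htr0, htrT q₁ hne0.1, htrT q₂ hne0.2, hj00] at hjtr
  have hJJ : ∀ (x : Ω → ℂ) (j : ℂ), x ≠ 0 → J x = j • x → j = 0 ∨ j = (2 * m : ℂ) := by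
    intro x j hx hj
    have h1 : J (J x) = (2 * m : ℂ) • J x := by
      funext y
      rw [hJ', Pi.smul_apply, smul_eq_mul, hJ', Finset.sum_congr rfl (fun z _ => hJ' x z), Finset.sum_const, Finset.card_univ, hm, nsmul_eq_mul]
      push_cast; ring
    rw [hj, map_smul, hj, smul_smul, smul_smul] at h1
    have := huniq hx h1
    by_cases hz : j = 0
    · exact Or.inl hz
    · exact Or.inr (mul_right_cancel₀ hz this)
  have hmC : (m : ℂ) ≠ 0 := by exact_mod_cast (by omega : m ≠ 0)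
  have hm1C : (m : ℂ) - 1 ≠ 0 := by
    rw [sub_ne_zero]
    exact_mod_cast (by omega : m ≠ 1)
  have hj12 : j1 = 0 ∧ j2 = 0 := by
    rcases hJJ x₁ j1 hx₁0 hj1 with e1 | e1 <;> rcases hJJ x₂ j2 hx₂0 hj2 with e2 | e2 <;> subst e1 e2
    · exact ⟨rfl, rfl⟩
    · exfalso
      exact hmC ((mul_eq_zero.mp (show (m : ℂ) * (2 * m) = 0 by linear_combination -hjtr)).elim id fun h => (mul_eq_zero.mp h).resolve_left two_ne_zero)
    · exfalso
      exact hm1C ((mul_eq_zero.mp (show ((m : ℂ) - 1) * (2 * m) = 0 by linear_combination -hjtr)).elim id fun h => absurd ((mul_eq_zero.mp h).resolve_left two_ne_zero) hmC)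
    · exfalso
      have h3 : ((2 * m - 1 : ℕ) : ℂ) * (2 * m) = 0 := by
        rw [Nat.cast_sub (by omega)]; push_cast; linear_combination -hjtr
      rcases mul_eq_zero.mp h3 with h | h
      · have : 2 * m - 1 = 0 := by exact_mod_cast h
        omega
      · exact hmC ((mul_eq_zero.mp h).resolve_left two_ne_zero)
  obtain ⟨l0, l1, l2, hl0, hl1, hl2, hltr⟩ := hscal T (CfsgLib.Perm.orbOp q₁).2
  obtain ⟨s0, s1, s2, hs0, hs1, hs2, hstr⟩ := hscal _ hcomp
  have hl00 : l0 = (k : ℂ) := by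
    have := congrFun hl0 a₀
    rw [hT1] at this
    simpa using this.symm
  have hs : ∀ (x : Ω → ℂ) (l s : ℂ), x ≠ 0 → T x = l • x → (T ∘ₗ T) x = s • x → s = l * l := by
    intro x l s hx hl hs
    rw [LinearMap.comp_apply, hl, map_smul, hl, smul_smul] at hs
    exact huniq hx hs.symm
  have hs00 : s0 = (k : ℂ) * k := hl00 ▸ hs _ l0 s0 (fun h => one_ne_zero (congrFun h a₀)) hl0 hs0
  have hs11 := hs x₁ l1 s1 hx₁0 hl1 hs1
  have hs22 := hs x₂ l2 s2 hx₂0 hl2 hs2
  rw [hT, htrT q₁ hne0.1, hl00] at hltr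
  rw [hsq, map_add, map_add, map_smul, map_smul, map_smul, htr0, hT, hT', htrT q₁ hne0.1, htrT q₂ hne0.2, hc₀k, hs00, hs11, hs22,
    smul_zero, smul_zero, add_zero, add_zero, smul_eq_mul] at hstr
  have hquad : ∀ (x : Ω → ℂ) (l s j : ℂ), x ≠ 0 → T x = l • x → (T ∘ₗ T) x = s • x → J x = j • x → j = 0 →
      l * l = (c₀ : ℂ) + c₁ * l + c₂ * (-1 - l) := by
    intro x l s j hx hl hsx hj hj0
    have hT'x : T' x = (-1 - l) • x := by
      have e : T₀ x + T x + T' x = J x := rfl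
      rw [hj, hj0, zero_smul, hid, LinearMap.id_apply, hl] at e
      rw [sub_smul, neg_smul, one_smul]
      exact eq_of_sub_eq_zero (by rw [← e]; abel)
    apply huniq hx
    rw [← hs x l s hx hl hsx, ← hsx, hsq]
    simp only [LinearMap.add_apply, LinearMap.smul_apply, hid, LinearMap.id_apply, hl, hT'x, smul_smul, ← add_smul]
  have hq1 := hquad x₁ l1 s1 j1 hx₁0 hl1 hs1 hj1 hj12.1
  have hq2 := hquad x₂ l2 s2 j2 hx₂0 hl2 hs2 hj2 hj12.2
  by_cases hll : l1 = l2
  · exfalso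
    subst hll
    have e1 : (2 * (m : ℂ) - 1) * l1 = -(k : ℂ) := by linear_combination -hltr
    have e2 : (2 * (m : ℂ) - 1) * (l1 * l1) = 2 * m * k - k * k := by linear_combination -hstr
    have e3 : (k : ℂ) * k = (2 * m - 1) * (2 * m * k - k * k) := by
      rw [← e2]; linear_combination (-((2 * (m : ℂ) - 1) * l1) + k) * e1
    have e4 : ((2 * m * (k * k) : ℕ) : ℂ) = (((2 * m - 1) * (2 * m) * k : ℕ) : ℂ) := by
      push_cast [Nat.cast_sub (show 1 ≤ 2 * m by omega)]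
      linear_combination e3
    have e5 : 2 * m * (k * k) = (2 * m - 1) * (2 * m) * k := by exact_mod_cast e4
    have e6 : (2 * m * k) * k = (2 * m * k) * (2 * m - 1) := by rw [mul_assoc]; rw [e5]; ring
    have hkpos : 0 < k := hsizepos q₁
    have := Nat.eq_of_mul_eq_mul_left (Nat.mul_pos (by omega) hkpos) e6
    omega
  have hsum : l1 + l2 = (c₁ : ℂ) - c₂ := by
    have : (l1 - l2) * (l1 + l2 - ((c₁ : ℂ) - c₂)) = 0 := by linear_combination hq1 - hq2
    exact sub_eq_zero.mp ((mul_eq_zero.mp this).resolve_left (sub_ne_zero.mpr hll))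
  set S : ℤ := (c₁ : ℤ) - c₂ with hSdef
  set L : ℤ := m * S + k with hLdef
  have hL : l1 = (L : ℂ) := by rw [hLdef, hSdef]; push_cast; linear_combination hltr + (m : ℂ) * hsum
  have hM : l2 = ((S - L : ℤ) : ℂ) := by rw [Int.cast_sub, ← hL, hSdef]; push_cast; linear_combination hsum
  rw [hL, hM] at hltr hstr
  push_cast at hltr hstr
  have hz1 : ((m : ℤ) - 1) * L + m * (S - L) = -k := by
    have : ((((m : ℤ) - 1) * L + m * (S - L) : ℤ) : ℂ) = ((-k : ℤ) : ℂ) := by push_cast; linear_combination -hltr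
    exact_mod_cast this
  have hz2 : ((m : ℤ) - 1) * L ^ 2 + m * (S - L) ^ 2 = 2 * m * k - (k : ℤ) ^ 2 := by
    have : ((((m : ℤ) - 1) * L ^ 2 + m * (S - L) ^ 2 : ℤ) : ℂ) = ((2 * m * k - (k : ℤ) ^ 2 : ℤ) : ℂ) := by
      push_cast; linear_combination -hstr
    exact_mod_cast this
  have hk2 : 2 ≤ k := by
    by_contra hk1
    have hk1' : k = 1 := by have := hsizepos q₁; omega
    have hb : b₁ ≠ a₀ := fun e => hne0.1 (hb₁.symm.trans ((hdiag b₁ a₀).mpr e))
    have horb1 : ∀ g ∈ MulAction.stabilizer G a₀, g • b₁ = b₁ := by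
      intro g hg
      have h1 := horbit b₁
      rw [hb₁, ← hk, hk1'] at h1
      obtain ⟨hsub, -⟩ := Nat.card_eq_one_iff_unique.mp h1
      exact congrArg Subtype.val (hsub.elim (⟨g • b₁, ⟨⟨g, hg⟩, rfl⟩⟩ : MulAction.orbit (MulAction.stabilizer G a₀) b₁) ⟨b₁, MulAction.mem_orbit_self b₁⟩)
    haveI : Nontrivial Ω := ⟨⟨b₁, a₀, hb⟩⟩
    have hco := fun z => (MulAction.isCoatom_stabilizer_iff_preprimitive G z).mpr hprim
    have hle : MulAction.stabilizer G a₀ ≤ MulAction.stabilizer G b₁ := horb1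
    have heq : MulAction.stabilizer G a₀ = MulAction.stabilizer G b₁ :=
      ((hco a₀).le_iff.mp hle).resolve_left (hco b₁).ne_top |>.symm
    obtain ⟨g, hg⟩ := MulAction.exists_smul_eq G a₀ b₁
    have hgn : g ∈ Subgroup.normalizer (MulAction.stabilizer G a₀ : Set G) := by
      refine Subgroup.mem_normalizer_iff.mpr fun h => ?_
      conv_rhs => rw [heq]
      simp only [MulAction.mem_stabilizer_iff, mul_smul, ← hg, inv_smul_smul]
      exact ⟨fun e => by rw [e], fun e => MulAction.injective g e⟩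
    have hnorm : (MulAction.stabilizer G a₀).Normal := by
      rw [← Subgroup.normalizer_eq_top_iff]
      refine (hco a₀).2 _ (lt_of_le_of_ne Subgroup.le_normalizer fun e => ?_)
      rw [← e] at hgn
      exact hb (hg.symm.trans hgn)
    have htriv : ∀ h ∈ MulAction.stabilizer G a₀, ∀ z : Ω, h • z = z := by
      intro h hh z
      obtain ⟨u, rfl⟩ := MulAction.exists_smul_eq G a₀ z
      have h1 : (u⁻¹ * h * u⁻¹⁻¹) • a₀ = a₀ := hnorm.conj_mem h hh u⁻¹
      rw [inv_inv, mul_smul, mul_smul, inv_smul_eq_iff] at h1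
      exact h1
    have h2 : size q₂ = 1 := by
      rw [← hb₂, ← horbit, Nat.card_eq_one_iff_unique]
      refine ⟨⟨?_⟩, ⟨⟨b₂, MulAction.mem_orbit_self b₂⟩⟩⟩
      rintro ⟨_, u, rfl⟩ ⟨_, v, rfl⟩
      exact Subtype.ext ((htriv u u.2 b₂).trans (htriv v v.2 b₂).symm)
    omega
  obtain ⟨a, ha, hma, hka⟩ := arith hm2 hk2 hle hz1 hz2
  refine ⟨a, ha, hma, fun b hb => ?_⟩
  rw [horbit]
  rcases hq12 ⟦(b, a₀)⟧ with h | h | h
  · exact absurd ((hdiag b a₀).mp h) hb
  · left; rw [h]; exact hka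
  · right
    rw [h]
    have e : a * (2 * a + 1) + (a + 1) * (2 * a + 1) + 1 = 2 * m := by rw [hma]; ring
    omega

end Cfsg.Agent.S0719
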