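import Cfsg.Statements.S0720
import Cfsg.Agent.Lib.Perm.DegreeTwoPClassify
import Cfsg.Agent.S0713

set_option autoImplicit false
open Cfsg

namespace Cfsg.Agent.S0720

open scoped Classical in
/-- Coordinates from a fixed point free element of order `p`. -/
theorem exists_config {α : Type*} [Fintype α] [DecidableEq α] {p : ℕ} [Fact p.Prime]
    (hα : Fintype.card α = 2 * p) (G : Subgroup (Equiv.Perm α)) (u : G) (hu : orderOf u = p)
    (hfree : ∀ x : α, (u : Equiv.Perm α) x ≠ x) : Nonempty (CfsgLib.Perm.TwoP.Config G α p) := by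
  have hp : p.Prime := Fact.out
  have hup : u ^ p = 1 := hu ▸ pow_orderOf_eq_one u
  have hmod : ∀ n : ℕ, u ^ n = u ^ (n % p) := fun n => (pow_mod_orderOf u n |>.symm).trans (by rw [hu])
  have hadd : ∀ y z : ZMod p, u ^ (y + z).val = u ^ y.val * u ^ z.val := fun y z => by
    rw [ZMod.val_add, ← hmod, pow_add]
  have hinj : ∀ (x : α) (y z : ZMod p), u ^ y.val • x = u ^ z.val • x → y = z := by
    intro x y z e
    by_contra hne
    have hfix : u ^ (y - z).val • x = x := by
      have h1 : u ^ y.val • x = u ^ z.val • (u ^ (y - z).val • x) := by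
        rw [← mul_smul, ← hadd, add_sub_cancel]
      rw [h1] at e
      exact MulAction.injective _ e
    have hcop : Nat.Coprime (y - z).val (orderOf u) := by
      rw [hu]
      exact ((hp.coprime_iff_not_dvd).mpr fun hd => hne (sub_eq_zero.mp ((ZMod.val_eq_zero _).mp
        (Nat.eq_zero_of_dvd_of_lt hd (y - z).val_lt)))).symm
    obtain ⟨m, hm⟩ := exists_pow_eq_self_of_coprime hcop
    refine hfree x ?_
    have hpow : ∀ k : ℕ, (u ^ (y - z).val) ^ k • x = x := by
      intro k
      induction k with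
      | zero => simp
      | succ k ih => rw [pow_succ, mul_smul, hfix, ih]
    have := hpow m
    rw [hm] at this
    exact this
  obtain ⟨x₁⟩ : Nonempty α := Fintype.card_pos_iff.mp (by have := hp.pos; omega)
  obtain ⟨x₂, -, hx₂⟩ : ∃ x₂ ∈ (Finset.univ : Finset α),
      x₂ ∉ Finset.univ.image (fun y : ZMod p => u ^ y.val • x₁) :=
    Finset.exists_mem_notMem_of_card_lt_card (lt_of_le_of_lt Finset.card_image_le (by
      rw [Finset.card_univ, Finset.card_univ, ZMod.card, hα]; have := hp.pos; omega))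
  let f : Bool × ZMod p → α := fun q => u ^ q.2.val • (if q.1 then x₁ else x₂)
  have hsep : ∀ y z : ZMod p, u ^ y.val • x₁ ≠ u ^ z.val • x₂ := by
    intro y z e
    refine hx₂ (Finset.mem_image.mpr ⟨y - z, Finset.mem_univ _, ?_⟩)
    refine MulAction.injective (u ^ z.val) ?_
    show u ^ z.val • u ^ (y - z).val • x₁ = u ^ z.val • x₂
    rw [← mul_smul, ← hadd, add_sub_cancel, e]
  have hf : Function.Bijective f := by
    rw [Fintype.bijective_iff_injective_and_card]
    refine ⟨?_, by rw [Fintype.card_prod, Fintype.card_bool, ZMod.card, hα]⟩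
    rintro ⟨b, y⟩ ⟨c, z⟩ e
    cases b <;> cases c <;> simp only [f, if_true, Bool.false_eq_true, if_false] at e
    · rw [hinj x₂ y z e]
    · exact absurd e.symm (hsep z y)
    · exact absurd e (hsep y z)
    · rw [hinj x₁ y z e]
  refine ⟨⟨Equiv.ofBijective f hf, u, fun b y => ?_⟩⟩
  show u • u ^ y.val • (if b then x₁ else x₂) = u ^ (y + 1).val • (if b then x₁ else x₂)
  rw [← mul_smul, ← pow_succ', hadd, ← pow_add]
  congr 1
  rw [hmod (y.val + 1), hmod (y.val + (1 : ZMod p).val), ZMod.val_one p]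

/-- Wielandt's Theorem on primitive groups of degree `2p`: such a group is doubly transitive, or it has rank 3, `p = 2a² + 2a + 1`, and subdegrees `a(2a+1)` and `(a+1)(2a+1)`. -/
theorem result {α : Type*} [Fintype α] [DecidableEq α] {p : ℕ} (hp : p.Prime) (hα : Fintype.card α = 2 * p) (G : Subgroup (Equiv.Perm α)) (hG : MulAction.IsPreprimitive G α) (a₀ : α) : MulAction.IsMultiplyPretransitive G α 2 ∨ (Nat.card (MulAction.orbitRel.Quotient (MulAction.stabilizer G a₀) α) = 3 ∧ ∃ a : ℕ, 0 < a ∧ p = 2 * a ^ 2 + 2 * a + 1 ∧ ∀ b : α, b ≠ a₀ → Nat.card (MulAction.orbit (MulAction.stabilizer G a₀) b) = a * (2 * a + 1) ∨ Nat.card (MulAction.orbit (MulAction.stabilizer G a₀) b) = (a + 1) * (2 * a + 1)) := by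
  classical
  haveI : Fact p.Prime := ⟨hp⟩
  haveI := hG
  by_cases hA : MulAction.IsMultiplyPretransitive G α 2
  · exact Or.inl hA
  have hdvd : p ∣ Nat.card G := by
    refine (dvd_mul_left p 2).trans ?_
    rw [CfsgLib.Perm.natCard_eq_mul_stabilizer (G := G) a₀, Nat.card_eq_fintype_card (α := α), hα]
    exact dvd_mul_right _ _
  obtain ⟨u, hu⟩ := exists_prime_orderOf_dvd_card' p hdvd
  have hord : orderOf (u : Equiv.Perm α) = p := (Subgroup.orderOf_coe u).trans hu
  have hfree : ∀ x : α, (u : Equiv.Perm α) x ≠ x := by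
    intro x hx
    have hlt : (u : Equiv.Perm α).support.card < 2 * p := by
      rw [← hα]
      exact Finset.card_lt_univ_of_notMem (x := x) (by rw [Equiv.Perm.notMem_support]; exact hx)
    have hcyc : (u : Equiv.Perm α).IsCycle :=
      Equiv.Perm.isCycle_of_prime_order (hord.symm ▸ hp) (hord.symm ▸ hlt)
    have hcard : (u : Equiv.Perm α).support.card = p := hcyc.orderOf.symm.trans hord
    rcases hp.eq_two_or_odd with h2 | hodd
    · subst h2
      have htop : G = ⊤ := Equiv.Perm.subgroup_eq_top_of_isPreprimitive_of_isSwap_mem hG _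
        (Equiv.Perm.card_support_eq_two.mp hcard) u.2
      apply hA
      rw [MulAction.is_two_pretransitive_iff]
      intro a b c d hab hcd
      haveI := Equiv.Perm.isMultiplyPretransitive α 2
      obtain ⟨σ, h1, h2⟩ := CfsgLib.Perm.exists_smul_pair (G := Equiv.Perm α) this hab hcd
      exact ⟨⟨σ, htop ▸ Subgroup.mem_top σ⟩, h1, h2⟩
    · have hp3 : 3 ≤ p := by have := hp.two_le; omega
      have hle := Cfsg.Agent.S0713.result G hG hp (by omega) (by omega) hcyc hcard u.2
      apply hA
      haveI := alternatingGroup.isMultiplyPretransitive α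
      haveI h2 : MulAction.IsMultiplyPretransitive (alternatingGroup α) α 2 :=
        MulAction.isMultiplyPretransitive_of_le (n := Nat.card α - 2) (by rw [Nat.card_eq_fintype_card]; omega)
          (by rw [Nat.card_eq_fintype_card]; omega)
      rw [MulAction.is_two_pretransitive_iff]
      intro a b c d hab hcd
      obtain ⟨σ, h1, h2⟩ := CfsgLib.Perm.exists_smul_pair (G := alternatingGroup α) h2 hab hcd
      exact ⟨⟨σ, hle σ.2⟩, h1, h2⟩
  obtain ⟨C⟩ := exists_config hα G u hu hfree
  haveI := Fintype.ofFinite G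
  rcases C.classify with h | ⟨i, l, a, ha, hpa, hil, hid, hld, hall, hdi, hdl⟩
  · exact absurd (CfsgLib.Perm.isTwoPretransitive_of_stabilizer (G := G) a₀ fun y z hy hz => by
      obtain ⟨g, h1, h2⟩ := CfsgLib.Perm.TwoP.exists_of_col_eq (h a₀ z y hz hy)
      exact ⟨g, h1, h2⟩) hA
  refine Or.inr ⟨?_, a, ha, hpa, fun b hb => ?_⟩
  · rw [Nat.card_congr (CfsgLib.Perm.orbitPairEquiv (G := G) a₀)]
    haveI := Fintype.ofFinite (MulAction.orbitRel.Quotient G (α × α))
    rw [Nat.card_eq_fintype_card, ← Finset.card_univ,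
      show (Finset.univ : Finset (MulAction.orbitRel.Quotient G (α × α))) = {C.diag, i, l} from by
        ext q
        simp only [Finset.mem_univ, Finset.mem_insert, Finset.mem_singleton, true_iff]
        by_cases hq : q = C.diag
        · exact Or.inl hq
        · exact Or.inr (hall q hq)]
    rw [Finset.card_insert_of_notMem (by simp [Ne.symm hid, Ne.symm hld]), Finset.card_pair hil]
  · have e : ∀ z : α, z ∈ MulAction.orbit (MulAction.stabilizer G a₀) b ↔
        CfsgLib.Perm.TwoP.col G a₀ z = CfsgLib.Perm.TwoP.col G a₀ b := by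
      intro z
      constructor
      · rintro ⟨g, rfl⟩
        have h1 := CfsgLib.Perm.TwoP.col_smul (g : G) a₀ b
        rw [show (g : G) • a₀ = a₀ from g.2] at h1
        exact h1
      · intro h
        obtain ⟨g, h1, h2⟩ := CfsgLib.Perm.TwoP.exists_of_col_eq h
        exact ⟨⟨g, h1⟩, h2⟩
    have hc : (Nat.card (MulAction.orbit (MulAction.stabilizer G a₀) b) : ℤ) =
        C.deg (CfsgLib.Perm.TwoP.col G a₀ b) := by
      rw [← C.row_sum _ a₀, Finset.sum_boole,
        Nat.subtype_card (Finset.univ.filter fun z => CfsgLib.Perm.TwoP.col G a₀ z = CfsgLib.Perm.TwoP.col G a₀ b)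
          (fun z => by rw [Finset.mem_filter]; exact ⟨fun h => (e z).mpr h.2, fun h => ⟨Finset.mem_univ _, (e z).mp h⟩⟩)]
    rcases hall _ ((C.ne_diag_iff _).mpr ⟨a₀, b, Ne.symm hb, rfl⟩) with r | r <;> rw [r] at hc
    · left; rw [hdi] at hc; exact_mod_cast hc
    · right; rw [hdl] at hc; exact_mod_cast hc

end Cfsg.Agent.S0720
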