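import Cfsg.Statements.S0721
import Cfsg.Agent.Lib.Recog.Conjugates
import Cfsg.Agent.Lib.Solvable.MinNormal
import Mathlib.GroupTheory.NoncommPiCoprod
import Mathlib.LinearAlgebra.Dimension.Free
import Mathlib.LinearAlgebra.Dimension.Finite
import Mathlib.Algebra.Module.ZMod
import Mathlib.Algebra.Field.ZMod
import Mathlib.LinearAlgebra.Basis.VectorSpace
import Mathlib.Algebra.Group.TransferInstance
import Mathlib.GroupTheory.SpecificGroups.Cyclic
import Mathlib.RingTheory.Finiteness.Finsupp
import Mathlib.LinearAlgebra.FreeModule.Finite.Basic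

set_option autoImplicit false
open Cfsg

namespace Cfsg.Agent.S0721

open scoped IsMulCommutative

theorem elementary_pi {A : Type*} [CommGroup A] [Finite A] [Nontrivial A] {p : ℕ} [Fact p.Prime]
    (hp : ∀ a : A, a ^ p = 1) : ∃ m : ℕ, 0 < m ∧ Nonempty (A ≃* (Fin m → Multiplicative (ZMod p))) := by
  letI : Module (ZMod p) (Additive A) := AddCommGroup.zmodModule (n := p) (G := Additive A) (fun a : Additive A => hp a.toMul)
  haveI : Module.Finite (ZMod p) (Additive A) := Module.Finite.of_finite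
  let e : Additive A ≃ₗ[ZMod p] (Fin (Module.finrank (ZMod p) (Additive A)) → ZMod p) := (Module.finBasis (ZMod p) (Additive A)).equivFun
  refine ⟨Module.finrank (ZMod p) (Additive A), Module.finrank_pos (R := ZMod p) (M := Additive A), ⟨
    { toFun := fun x i => Multiplicative.ofAdd (e (Additive.ofMul x) i)
      invFun := fun f => (e.symm fun i => (f i).toAdd).toMul
      left_inv := fun x => by simp
      right_inv := fun f => by funext i; simp
      map_mul' := fun x y => by funext i; simp [ofMul_mul, map_add] }⟩⟩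

theorem small_model {T : Type*} [Group T] [Finite T] :
    ∃ (T₀ : Type) (_ : Group T₀), Nonempty (T ≃* T₀) :=
  let e : T ≃ {i : Fin (Nat.card T) // True} := (Finite.equivFin T).trans (Equiv.subtypeUnivEquiv fun _ => trivial).symm
  ⟨_, e.symm.group, ⟨letI := e.symm.group; (Equiv.mulEquiv e.symm).symm⟩⟩

/-- A minimal normal subgroup of a finite group is isomorphic to a direct power `T ^ m` of a simple group `T` (possibly of prime order). -/
theorem result {H : Type*} [Group H] [Finite H] (N : Subgroup H) [N.Normal] (hN : N ≠ ⊥) (hmin : ∀ M : Subgroup H, M.Normal → M ≤ N → M = ⊥ ∨ M = N) : ∃ (T : Type) (_ : Group T) (m : ℕ), IsSimpleGroup T ∧ 0 < m ∧ Nonempty (N ≃* (Fin m → T)) := by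
  classical
  haveI : Nontrivial N := N.nontrivial_iff_ne_bot.mpr hN
  by_cases hab : IsMulCommutative N
  · obtain ⟨p, hp, hpow⟩ := CfsgLib.Solvable.exists_prime_pow_eq_one_of_minimal_normal (N := N) hN hmin
    haveI : Fact p.Prime := ⟨hp⟩
    obtain ⟨m, hm, he⟩ := elementary_pi (A := N) (p := p) (fun a => Subtype.ext (hpow a a.2))
    refine ⟨Multiplicative (ZMod p), inferInstance, m, ?_, hm, he⟩
    exact isSimpleGroup_of_prime_card (p := p) ((Nat.card_congr Multiplicative.toAdd).trans (Nat.card_zmod p))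
  obtain ⟨T, hT⟩ := CfsgLib.Recog.exists_isFactor (inferInstance : N.Normal) hN hmin hab
  obtain ⟨T₀, gT₀, ⟨eT⟩⟩ := small_model (T := T)
  let ι := {M : Subgroup H // M ∈ Set.range fun g : H => CfsgLib.Recog.cj g T}
  haveI : Finite ι := Finite.of_surjective (fun g : H => (⟨_, g, rfl⟩ : ι)) (fun M => by
    obtain ⟨g, hg⟩ := M.2; exact ⟨g, Subtype.ext hg⟩)
  haveI := Fintype.ofFinite ι
  let F : ι → Subgroup H := fun i => i.1
  have hcen : ∀ i j : ι, i ≠ j → F i ≤ Subgroup.centralizer (F j : Set H) := by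
    rintro ⟨A, g, rfl⟩ ⟨B, g', rfl⟩ hne
    show CfsgLib.Recog.cj g T ≤ _
    intro s hs
    refine Subgroup.mem_centralizer_iff.mpr fun t ht => ?_
    rcases hT.eq_or_le_centralizer (g'⁻¹ * g) with h | h
    · refine absurd (Subtype.ext ?_) hne
      show CfsgLib.Recog.cj g T = CfsgLib.Recog.cj g' T
      conv_rhs => rw [← h]
      rw [← CfsgLib.Recog.cj_mul, mul_inv_cancel_left]
    · have hs' : g'⁻¹ * s * g' ∈ CfsgLib.Recog.cj (g'⁻¹ * g) T := by
        rw [CfsgLib.Recog.mem_cj]
        have := CfsgLib.Recog.mem_cj.mp hs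
        simpa [mul_assoc] using this
      have ht' : g'⁻¹ * t * g' ∈ T := CfsgLib.Recog.mem_cj.mp ht
      have := Subgroup.mem_centralizer_iff.mp (h hs') _ ht'
      have e : g'⁻¹ * (t * s) * g' = g'⁻¹ * (s * t) * g' := by simpa [mul_assoc] using this
      simpa using e
  have hcomm : Pairwise fun i j => ∀ x y : H, x ∈ F i → y ∈ F j → Commute x y := fun i j hne x y hx hy =>
    (Subgroup.mem_centralizer_iff.mp (hcen i j hne hx) y hy).symm
  have hind : iSupIndep F := by
    intro i
    rw [disjoint_iff, eq_bot_iff]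
    rintro x ⟨hx, hx'⟩
    have h1 : x ∈ Subgroup.centralizer (F i : Set H) := by
      refine (iSup_le fun j => iSup_le fun hj => hcen j i hj) hx'
    obtain ⟨g, hg⟩ := i.2
    rw [show F i = CfsgLib.Recog.cj g T from hg.symm] at hx h1
    have h2 : g⁻¹ * x * g ∈ T ⊓ Subgroup.centralizer (T : Set H) := by
      refine ⟨CfsgLib.Recog.mem_cj.mp hx, Subgroup.mem_centralizer_iff.mpr fun t ht => ?_⟩
      have := Subgroup.mem_centralizer_iff.mp h1 _ (CfsgLib.Recog.conj_mem_cj (g := g) ht)
      have e : g * (t * (g⁻¹ * x * g)) * g⁻¹ = g * ((g⁻¹ * x * g) * t) * g⁻¹ := by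
        simpa [mul_assoc] using this
      simpa using e
    rw [hT.inf_centralizer, Subgroup.mem_bot] at h2
    rw [Subgroup.mem_bot]
    calc x = g * (g⁻¹ * x * g) * g⁻¹ := by group
      _ = 1 := by rw [h2]; group
  have hsup : (⨆ i, F i) = N := by
    refine le_antisymm (iSup_le fun i => ?_) ?_
    · obtain ⟨g, hg⟩ := i.2
      rw [show F i = CfsgLib.Recog.cj g T from hg.symm, ← hT.iSup_eq]
      exact le_iSup (fun g : H => CfsgLib.Recog.cj g T) g
    · rw [← hT.iSup_eq]
      exact iSup_le fun g => le_iSup F ⟨_, g, rfl⟩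
  let φ := Subgroup.noncommPiCoprod hcomm
  have hinj : Function.Injective φ := Subgroup.injective_noncommPiCoprod_of_iSupIndep hind
  have hrange : φ.range = N := by rw [Subgroup.noncommPiCoprod_range]; exact hsup
  let e₁ : ∀ i : ι, F i ≃* T₀ := fun i =>
    ((MulEquiv.subgroupCongr (Classical.choose_spec i.2 : CfsgLib.Recog.cj (Classical.choose i.2) T = F i)).symm.trans
      (T.equivMapOfInjective (MulAut.conj (Classical.choose i.2)).toMonoidHom (MulEquiv.injective _)).symm).trans eT
  haveI : IsSimpleGroup T := hT.simple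
  haveI : Nontrivial T₀ := eT.symm.toEquiv.nontrivial
  refine ⟨T₀, gT₀, Fintype.card ι, IsSimpleGroup.isSimpleGroup_of_surjective (f := eT.toMonoidHom) eT.surjective,
    Fintype.card_pos_iff.mpr ⟨⟨_, 1, rfl⟩⟩, ⟨?_⟩⟩
  exact (((MonoidHom.ofInjective hinj).trans (MulEquiv.subgroupCongr hrange)).symm.trans
    (MulEquiv.piCongrRight e₁)).trans
    { (Fintype.equivFin ι).arrowCongr (Equiv.refl T₀) with map_mul' := fun x y => rfl }

end Cfsg.Agent.S0721
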