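import Cfsg.Statements.S0722
import Cfsg.Agent.Lib.Perm.Basic

set_option autoImplicit false
open Cfsg

namespace Cfsg.Agent.S0722

/-- In a primitive group `H`, with `N` a minimal normal subgroup and `K` a point stabiliser, `K ⊓ N` is maximal among proper `K`-invariant subgroups of `N`. -/
theorem result {α : Type*} [Finite α] (H : Subgroup (Equiv.Perm α)) [MulAction.IsPreprimitive H α] (N : Subgroup H) [N.Normal] (hN : N ≠ ⊥) (hmin : ∀ M : Subgroup H, M.Normal → M ≤ N → M = ⊥ ∨ M = N) (a : α) (X : Subgroup H) (hX : X ≤ N) (hKX : MulAction.stabilizer H a ⊓ N ≤ X) (hinv : MulAction.stabilizer H a ≤ Subgroup.normalizer (X : Set H)) : X = MulAction.stabilizer H a ⊓ N ∨ X = N := by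
  set K := MulAction.stabilizer H a with hK
  let Y : Subgroup H := X ⊔ K
  rcases subsingleton_or_nontrivial α with hsub | hnt
  · right
    have : H = ⊥ := by
      rw [Subgroup.eq_bot_iff_forall]
      intro h _
      exact Subsingleton.elim _ _
    apply le_antisymm hX
    intro n hn
    have : n = 1 := by
      apply Subtype.ext
      exact Subsingleton.elim _ _
    rw [this]; exact X.one_mem
  rcases (MulAction.IsPreprimitive.isCoatom_stabilizer_of_isPreprimitive H a).le_iff.mp (le_sup_right : K ≤ Y) with hY | hY
  swap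
  · left
    exact le_antisymm (le_inf (le_sup_left.trans hY.le) hX) hKX
  · right
    apply le_antisymm hX
    intro n hn
    have hn' : n ∈ (↑(X ⊔ K) : Set H) := by
      show n ∈ Y
      rw [show Y = ⊤ from hY]; exact Subgroup.mem_top n
    rw [Subgroup.coe_mul_of_right_le_normalizer_left X K hinv, Set.mem_mul] at hn'
    obtain ⟨x, hx, k, hk, rfl⟩ := hn'
    apply X.mul_mem hx
    apply hKX
    refine ⟨hk, ?_⟩
    have := N.mul_mem (N.inv_mem (hX hx)) hn
    simpa using this

end Cfsg.Agent.S0722
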