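import Cfsg.Statements.S0724
import Mathlib.GroupTheory.GroupAction.Quotient
import Mathlib.Algebra.Polynomial.Eval.Defs
import Mathlib.Algebra.Polynomial.Degree.Definitions
import Mathlib.Algebra.BigOperators.Fin

set_option autoImplicit false
open Cfsg

namespace Cfsg.Agent.S0724

/-- Blichfeldt's Theorem: if a finite set `L` of natural numbers contains the number of fixed points of every non-identity element of a permutation group `G` of degree `n`, then the order of `G` divides `∏ (n - l)` over `l ∈ L`. -/
theorem result {α : Type*} [Fintype α] [DecidableEq α] (G : Subgroup (Equiv.Perm α)) (L : Finset ℕ) (hL : ∀ g ∈ G, g ≠ 1 → Nat.card (MulAction.fixedBy α g) ∈ L) : Nat.card G ∣ ∏ l ∈ L, (Fintype.card α - l) := by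
  classical
  haveI : Fintype G := Fintype.ofFinite _
  have key : ∀ k : ℕ, (Nat.card G : ℤ) ∣ ∑ g : G, (Nat.card (MulAction.fixedBy α g) : ℤ) ^ k := by
    intro k
    have h := MulAction.sum_card_fixedBy_eq_card_orbits_mul_card_group G (Fin k → α)
    have e : ∀ g : G, Fintype.card (MulAction.fixedBy (Fin k → α) g) = Nat.card (MulAction.fixedBy α g) ^ k := by
      intro g
      rw [← Nat.card_eq_fintype_card, ← Nat.card_fin k, ← Nat.card_fun]
      rw [Nat.card_fin]
      exact Nat.card_congr
        { toFun := fun f i => ⟨f.1 i, congrFun f.2 i⟩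
          invFun := fun f => ⟨fun i => (f i).1, funext fun i => (f i).2⟩
          left_inv := fun f => rfl
          right_inv := fun f => rfl }
    simp only [e] at h
    rw [Nat.card_eq_fintype_card]
    refine ⟨(Fintype.card (Quotient (MulAction.orbitRel G (Fin k → α))) : ℤ), ?_⟩
    have h2 := congrArg (Nat.cast : ℕ → ℤ) h
    push_cast at h2
    rw [h2, mul_comm]
  let P : Polynomial ℤ := ∏ l ∈ L, (Polynomial.X - Polynomial.C (l : ℤ))
  have hsum : (Nat.card G : ℤ) ∣ ∑ g : G, P.eval (Nat.card (MulAction.fixedBy α g) : ℤ) := by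
    simp only [Polynomial.eval_eq_sum, Polynomial.sum]
    rw [Finset.sum_comm]
    refine Finset.dvd_sum fun i _ => ?_
    rw [← Finset.mul_sum]
    exact dvd_mul_of_dvd_right (key i) _
  have hone : ∑ g : G, P.eval (Nat.card (MulAction.fixedBy α g) : ℤ) = ∏ l ∈ L, ((Fintype.card α : ℤ) - l) := by
    rw [Finset.sum_eq_single (1 : G)]
    · rw [MulAction.fixedBy_one_eq_univ, Nat.card_univ, Nat.card_eq_fintype_card]
      simp [P, Polynomial.eval_prod]
    · intro g _ hg
      simp only [P, Polynomial.eval_prod]
      refine Finset.prod_eq_zero (hL (g : Equiv.Perm α) g.2 fun e => hg (Subtype.ext e)) ?_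
      simp only [P, Polynomial.eval_X, Polynomial.eval_sub, Polynomial.eval_C]
      exact sub_eq_zero.mpr rfl
    · simp
  rw [hone] at hsum
  by_cases hbig : ∃ l ∈ L, Fintype.card α ≤ l
  · obtain ⟨l, hl, hle⟩ := hbig
    rw [Finset.prod_eq_zero hl (Nat.sub_eq_zero_of_le hle)]
    exact dvd_zero _
  · push Not at hbig
    have : ((∏ l ∈ L, (Fintype.card α - l) : ℕ) : ℤ) = ∏ l ∈ L, ((Fintype.card α : ℤ) - l) := by
      push_cast
      refine Finset.prod_congr rfl fun l hl => ?_
      rw [Nat.cast_sub (hbig l hl).le]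
    rw [← this] at hsum
    exact_mod_cast hsum

end Cfsg.Agent.S0724
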