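import Cfsg.Statements.S0726

set_option autoImplicit false
open Cfsg

namespace Cfsg.Agent.S0726

/-- The left and right regular permutation representations of a group are each other's centralisers in the symmetric group: the centraliser of the left regular image is the right regular image, and a transitive subgroup centralising the left regular image is the whole right regular image. -/
theorem result {G : Type*} [Group G] : Subgroup.centralizer ((MulAction.toPermHom G G).range : Set (Equiv.Perm G)) = (MulAction.toPermHom Gᵐᵒᵖ G).range ∧ ∀ H : Subgroup (Equiv.Perm G), H ≤ Subgroup.centralizer ((MulAction.toPermHom G G).range : Set (Equiv.Perm G)) → MulAction.IsPretransitive H G → H = (MulAction.toPermHom Gᵐᵒᵖ G).range := by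
  have key : ∀ c : Equiv.Perm G, c ∈ Subgroup.centralizer ((MulAction.toPermHom G G).range : Set (Equiv.Perm G)) → ∀ g, c g = g * c 1 := by
    intro c hc g
    have := congrArg (fun f : Equiv.Perm G => f 1) (hc (MulAction.toPermHom G G g) ⟨g, rfl⟩)
    simpa using this.symm
  have first : Subgroup.centralizer ((MulAction.toPermHom G G).range : Set (Equiv.Perm G)) = (MulAction.toPermHom Gᵐᵒᵖ G).range := by
    ext c
    constructor
    · intro hc
      refine ⟨MulOpposite.op (c 1), Equiv.ext fun g => ?_⟩
      simp [key c hc g]
    · rintro ⟨u, rfl⟩ _ ⟨g, rfl⟩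
      ext x
      simp [mul_assoc]
  refine ⟨first, fun H hH ht => le_antisymm (first ▸ hH) ?_⟩
  rintro _ ⟨u, rfl⟩
  obtain ⟨⟨k, hk⟩, hk1⟩ := ht.exists_smul_eq (1 : G) u.unop
  have : MulAction.toPermHom Gᵐᵒᵖ G u = k := by
    ext g
    have h1 : k g = g * k 1 := key k (hH hk) g
    have h2 : k 1 = u.unop := hk1
    simp [h1, h2]
  rw [this]; exact hk

end Cfsg.Agent.S0726
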