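import Cfsg.Statements.S0730
import Cfsg.Agent.Lib.Perm.SharplyThree
import Cfsg.Agent.Lib.Solvable.FixedPointFree
import Mathlib.GroupTheory.FixedPointFree
import Mathlib.GroupTheory.SpecificGroups.Quaternion
import Mathlib.GroupTheory.Transfer
import Mathlib.LinearAlgebra.Determinant
import Mathlib.LinearAlgebra.Basis.VectorSpace

set_option autoImplicit false
open Cfsg

namespace Cfsg.Agent.S0730

set_option maxHeartbeats 1600000

/-- A sharply triply transitive group of degree `p^f + 1`, `p` an odd prime and `f` odd, is isomorphic to the projective general linear group of degree 2 over the field with `p^f` elements (for even `f` there is a second, twisted, group). -/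
theorem result {α : Type*} [Fintype α] [DecidableEq α] {p f : ℕ} (hp : p.Prime) (hp2 : p ≠ 2) (hfo : Odd f) (hα : Fintype.card α = p ^ f + 1) (G : Subgroup (Equiv.Perm α)) (h3 : MulAction.IsMultiplyPretransitive G α 3) (hsharp : ∀ x : Fin 3 ↪ α, MulAction.stabilizer G x = ⊥) : ∃ (F : Type) (_ : Field F) (_ : Fintype F), Fintype.card F = p ^ f ∧ Nonempty (G ≃* Matrix.ProjGenLinGroup (Fin 2) F) := by
  classical
  haveI := Fact.mk hp
  have hf1 : 1 ≤ f := hfo.pos
  have hp3 : 3 ≤ p := by have := hp.two_le; omega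
  have hq3 : 3 ≤ p ^ f := hp3.trans (Nat.le_self_pow (by omega) p)
  have hab : ∀ a b : α, a ≠ b → ∀ g h : G, g • a = a → g • b = b → h • a = a → h • b = b → g * h = h * g := by
    intro a b hab g h hga hgb hha hhb
    obtain ⟨c, -, hc⟩ : ∃ c ∈ (Finset.univ : Finset α), c ∉ ({a, b} : Finset α) :=
      Finset.exists_mem_notMem_of_card_lt_card (by rw [Finset.card_pair hab, Finset.card_univ]; omega)
    simp only [Finset.mem_insert, Finset.mem_singleton, not_or] at hc
    obtain ⟨s, hsa, hsb, hsc⟩ := CfsgLib.Perm.exists_smul_triple G h3 hab (Ne.symm hc.1) (Ne.symm hc.2)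
      (Ne.symm hab) (Ne.symm hc.2) (Ne.symm hc.1)
    obtain ⟨hss, hC2, -⟩ := CfsgLib.Perm.sharply_three_swap G hsharp hab (Ne.symm hc.1) (Ne.symm hc.2) hsa hsb hsc
    set K : Subgroup G := MulAction.stabilizer G a ⊓ MulAction.stabilizer G b with hK
    -- the kernel of the point stabiliser
    obtain ⟨N, p', j, hp', hcardn, hNcard, hNc, hNp, hNn, hNreg⟩ :=
      CfsgLib.Perm.sharply_three_kernel G h3 hsharp (by omega) a
    have hpp : p' = p := by
      have e : p ^ f = p' ^ j := by omega
      exact ((Nat.prime_dvd_prime_iff_eq hp hp').mp (hp.dvd_of_dvd_pow (e ▸ dvd_pow_self p (by omega : f ≠ 0)))).symm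
    subst hpp
    have hjf : j = f := Nat.pow_right_injective hp.two_le (show p' ^ j = p' ^ f by omega)
    subst hjf
    let _ : CommGroup N := { (inferInstance : Group N) with mul_comm := hNc.1.1 }
    let φ : K →* MulAut N :=
      { toFun := fun k =>
          { toFun := fun x => ⟨k * x * (k : G)⁻¹, hNn k k.2.1 x x.2⟩
            invFun := fun x => ⟨(k : G)⁻¹ * x * k, by simpa using hNn (k : G)⁻¹ (inv_smul_eq_iff.mpr (k.2.1 : (k : G) • a = a).symm) x x.2⟩
            left_inv := fun x => Subtype.ext (by show (k : G)⁻¹ * (k * x * (k : G)⁻¹) * k = x; group)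
            right_inv := fun x => Subtype.ext (by show (k : G) * ((k : G)⁻¹ * x * k) * (k : G)⁻¹ = x; group)
            map_mul' := fun x y => Subtype.ext (by simp only [Subgroup.coe_mul]; group) }
        map_one' := MulEquiv.ext fun x => Subtype.ext (by simp)
        map_mul' := fun k l => MulEquiv.ext fun x => Subtype.ext (by
          show ((k * l : K) : G) * x * ((k * l : K) : G)⁻¹ = k * (l * x * (l : G)⁻¹) * (k : G)⁻¹
          rw [Subgroup.coe_mul]; group) }
    have hfpf : ∀ k : K, k ≠ 1 → ∀ v : N, φ k v = v → v = 1 := by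
      intro k hk v hv
      by_contra hv1
      have e : (k : G) * v = v * k := mul_inv_eq_iff_eq_mul.mp (congrArg Subtype.val hv)
      have hva : (v : G) • a = a := (hNreg v v.2).1
      refine hk (Subtype.ext (CfsgLib.Perm.eq_one_of_fix_three G hsharp hab (c := (v : G) • b) ?_ ?_ k.2.1 k.2.2 ?_))
      · exact fun e' => hab (MulAction.injective (v : G) (hva.trans e'))
      · exact fun e' => hv1 (Subtype.ext ((hNreg v v.2).2 ⟨b, Ne.symm hab, e'.symm⟩))
      · rw [smul_smul, e, mul_smul, show (k : G) • b = b from k.2.2]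
    have hN1 : 1 < Nat.card N := by rw [hNcard]; omega
    haveI : Nontrivial N := Finite.one_lt_card_iff_nontrivial.mp hN1
    -- no element of odd-dimensional fixed-point-free groups inverts another
    have hnoinv : ∀ u r : K, u * r * u⁻¹ = r⁻¹ → r * r = 1 := by
      intro u r hur
      by_contra hr
      have hmod : ∀ x : Additive N, p' • x = 0 := fun x => by
        apply Additive.toMul.injective
        rw [toMul_nsmul, toMul_zero]
        exact Subtype.ext (hNp _ (Additive.toMul x).2)
      letI : Module (ZMod p') (Additive N) := AddCommGroup.zmodModule (n := p') (G := Additive N) hmod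
      let L : K → Additive N →ₗ[ZMod p'] Additive N := fun k =>
        AddMonoidHom.toZModLinearMap p' (MonoidHom.toAdditive (φ k).toMonoidHom)
      have hL : ∀ (k l : K) (v : Additive N), L (k * l) v = L k (L l v) := fun k l v => by
        show Additive.ofMul (φ (k * l) v.toMul) = Additive.ofMul (φ k (φ l v.toMul))
        rw [map_mul]; rfl
      have hL0 : ∀ k : K, k ≠ 1 → ∀ v : Additive N, L k v = v → v = 0 := fun k hk v hv =>
        Additive.toMul.injective (hfpf k hk v.toMul (congrArg Additive.toMul hv))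
      let D : Additive N →ₗ[ZMod p'] Additive N := L r - L r⁻¹
      have hD : Function.Injective D := by
        rw [injective_iff_map_eq_zero]
        intro v hv
        refine hL0 (r * r) hr v ?_
        rw [hL, show L r v = L r⁻¹ v from sub_eq_zero.mp hv, ← hL, mul_inv_cancel]
        show Additive.ofMul (φ 1 v.toMul) = v
        rw [map_one]; rfl
      have hu : Function.Injective (L u) := fun v w h =>
        Additive.toMul.injective ((φ u).injective (congrArg Additive.toMul h))
      have e1 : u * r = r⁻¹ * u := by rw [← hur]; group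
      have e2 : u * r⁻¹ = r * u := by
        calc u * r⁻¹ = (u * r * u⁻¹)⁻¹ * u := by group
          _ = r * u := by rw [hur, inv_inv]
      have hanti : L u ∘ₗ D = (-1 : ZMod p') • (D ∘ₗ L u) := by
        refine LinearMap.ext fun v => ?_
        show L u (L r v - L r⁻¹ v) = (-1 : ZMod p') • (L r (L u v) - L r⁻¹ (L u v))
        rw [map_sub, ← hL, ← hL, ← hL, ← hL, e1, e2, neg_one_smul, neg_sub]
      haveI : Module.Finite (ZMod p') (Additive N) := Module.Finite.of_finite
      have hdim : Module.finrank (ZMod p') (Additive N) = j := by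
        have h := Module.natCard_eq_pow_finrank (K := ZMod p') (V := Additive N)
        rw [Nat.card_congr Additive.toMul, hNcard, Nat.card_zmod] at h
        exact (Nat.pow_right_injective hp.two_le h).symm
      have hdet := congrArg LinearMap.det hanti
      rw [LinearMap.det_comp, LinearMap.det_smul, LinearMap.det_comp, hdim, hfo.neg_one_pow] at hdet
      have h2 : (2 : ZMod p') * (LinearMap.det (L u) * LinearMap.det D) = 0 := by linear_combination hdet
      have hne2 : (2 : ZMod p') ≠ 0 := by
        intro e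
        have := (ZMod.natCast_eq_zero_iff 2 p').mp (by exact_mod_cast e) |> Nat.le_of_dvd two_pos
        omega
      rcases mul_eq_zero.mp h2 with e | e
      · exact hne2 e
      rcases mul_eq_zero.mp e with e | e
      · exact (LinearEquiv.isUnit_det' (LinearEquiv.ofInjectiveEndo (L u) hu)).ne_zero e
      · exact (LinearEquiv.isUnit_det' (LinearEquiv.ofInjectiveEndo D hD)).ne_zero e
    -- a cyclic Sylow two-subgroup
    have hKcard : Nat.card K = p' ^ j - 1 := by
      have e : Nat.card K = Nat.card {y : α // y ∉ ({a, b} : Finset α)} := by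
        refine Nat.card_congr (Equiv.ofBijective (fun k : K => (⟨(k : G) • c, ?_⟩ : {y : α // y ∉ ({a, b} : Finset α)})) ⟨?_, ?_⟩)
        · simp only [Finset.mem_insert, Finset.mem_singleton, not_or]
          exact ⟨fun e => hc.1 (MulAction.injective (k : G) (e.trans (k.2.1 : (k : G) • a = a).symm)),
            fun e => hc.2 (MulAction.injective (k : G) (e.trans (k.2.2 : (k : G) • b = b).symm))⟩
        · intro k l e
          have e' : (k : G) • c = (l : G) • c := congrArg Subtype.val e
          have h1 : (l : G)⁻¹ * k = 1 := CfsgLib.Perm.eq_one_of_fix_three G hsharp hab (Ne.symm hc.1) (Ne.symm hc.2)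
            ((K.mul_mem (K.inv_mem l.2) k.2).1) ((K.mul_mem (K.inv_mem l.2) k.2).2) (by rw [mul_smul, e', inv_smul_smul])
          exact Subtype.ext (inv_mul_eq_one.mp h1).symm
        · rintro ⟨y, hy⟩
          simp only [Finset.mem_insert, Finset.mem_singleton, not_or] at hy
          obtain ⟨k, k1, k2, k3⟩ := CfsgLib.Perm.exists_smul_triple G h3 hab (Ne.symm hc.1) (Ne.symm hc.2)
            hab (Ne.symm hy.1) (Ne.symm hy.2)
          exact ⟨⟨k, k1, k2⟩, Subtype.ext k3⟩
      rw [e, Nat.card_eq_fintype_card, Fintype.card_subtype_compl, Fintype.card_coe, Finset.card_pair hab, hα]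
      omega
    have hKeven : 2 ∣ Nat.card K := by
      obtain ⟨k, hk⟩ := (hp.odd_of_ne_two hp2).pow (n := j)
      exact ⟨k, by omega⟩
    obtain ⟨P⟩ : Nonempty (Sylow 2 K) := inferInstance
    haveI hPc : IsCyclic P := by
      rcases CfsgLib.Solvable.isCyclic_or_quaternion_of_fpf φ hfpf P with h | ⟨-, n, ⟨e⟩⟩
      · exact h
      rcases Nat.eq_zero_or_pos n with rfl | hn
      · haveI : IsCyclic (QuaternionGroup (2 ^ 0)) := QuaternionGroup.quaternionGroup_one_isCyclic
        exact isCyclic_of_surjective e.symm.toMonoidHom e.symm.surjective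
      exfalso
      have h1 : (e.symm (QuaternionGroup.xa 0)) * e.symm (QuaternionGroup.a 1) * (e.symm (QuaternionGroup.xa 0))⁻¹
          = (e.symm (QuaternionGroup.a 1))⁻¹ := by
        rw [← map_inv, ← map_mul, ← map_inv, ← map_mul]
        congr 1
        rw [mul_inv_eq_iff_eq_mul]
        show _ = (QuaternionGroup.a (-1 : ZMod (2 * 2 ^ n))) * _
        simp [QuaternionGroup.xa_mul_a, QuaternionGroup.a_mul_xa]
      have h2 := hnoinv _ _ (congrArg Subtype.val h1)
      have h3' : e.symm (QuaternionGroup.a 1) * e.symm (QuaternionGroup.a 1) = 1 := Subtype.ext h2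
      rw [← map_mul, MulEquivClass.map_eq_one_iff] at h3'
      have h4 : orderOf (QuaternionGroup.a (1 : ZMod (2 * 2 ^ n))) ∣ 2 := orderOf_dvd_of_pow_eq_one (by rw [pow_two, h3'])
      rw [QuaternionGroup.orderOf_a_one] at h4
      have := Nat.le_of_dvd two_pos h4
      have : 2 ≤ 2 ^ n := Nat.le_self_pow (by omega) 2
      omega
    haveI : IsMulCommutative (P : Subgroup K) := inferInstance
    have hPn := hPc.normalizer_le_centralizer ((Nat.minFac_eq_two_iff _).mpr hKeven)
    let t := MonoidHom.transferSylow P hPn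
    have hM : ∀ x, x ∈ t.ker ↔ Odd (orderOf x) := by
      intro x
      constructor
      · intro hx
        rw [← Nat.not_even_iff_odd, even_iff_two_dvd]
        intro h2
        exact MonoidHom.not_dvd_card_ker_transferSylow P hPn
          (h2.trans (Subgroup.orderOf_mk x hx ▸ orderOf_dvd_natCard (⟨x, hx⟩ : t.ker)))
      · intro hx
        have h1 : orderOf (t x) ∣ orderOf x := orderOf_map_dvd t x
        obtain ⟨k, hk⟩ := P.2 (t x)
        have h2 : orderOf (t x) ∣ 2 ^ k := orderOf_dvd_of_pow_eq_one hk
        exact orderOf_eq_one_iff.mp (Nat.eq_one_of_dvd_coprimes ((Nat.coprime_two_left.mpr hx).pow_left k) h2 h1)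
    -- conjugation by `s`
    have hmem : ∀ k ∈ K, s * k * s⁻¹ ∈ K := fun k hk => by
      refine ⟨?_, ?_⟩
      · show (s * k * s⁻¹) • a = a
        rw [mul_smul, mul_smul, inv_smul_eq_iff.mpr hsb.symm, show k • b = b from hk.2, hsb]
      · show (s * k * s⁻¹) • b = b
        rw [mul_smul, mul_smul, inv_smul_eq_iff.mpr hsa.symm, show k • a = a from hk.1, hsa]
    let σ : K →* K :=
      { toFun := fun k => ⟨s * k * s⁻¹, hmem k k.2⟩
        map_one' := Subtype.ext (by simp)
        map_mul' := fun u v => Subtype.ext (by simp only [Subgroup.coe_mul]; group) }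
    have hσσ : ∀ k, σ (σ k) = k := fun k => Subtype.ext (by
      show s * (s * k * s⁻¹) * s⁻¹ = k
      rw [show s * (s * k * s⁻¹) * s⁻¹ = (s * s) * k * (s * s)⁻¹ by group, hss, inv_one, one_mul, mul_one])
    have hfixK : Nat.card {k : K // σ k = k} ≤ 2 := by
      refine le_trans (Nat.card_le_card_of_injective
        (fun k : {k : K // σ k = k} => (⟨((k : K) : G), (k : K).2.1, (k : K).2.2, mul_inv_eq_iff_eq_mul.mp (congrArg Subtype.val k.2)⟩ :
          {g : G // g • a = a ∧ g • b = b ∧ s * g = g * s})) fun k l e => ?_) hC2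
      exact Subtype.ext (Subtype.ext (congrArg Subtype.val e :))
    have hσM : ∀ x ∈ t.ker, σ x ∈ t.ker := fun x hx => by
      rw [hM] at hx ⊢
      exact hx.of_dvd_nat (orderOf_map_dvd σ x)
    let σM : t.ker →* t.ker :=
      { toFun := fun x => ⟨σ x, hσM x x.2⟩
        map_one' := Subtype.ext (map_one σ)
        map_mul' := fun u v => Subtype.ext (map_mul σ _ _) }
    have hfree : MonoidHom.FixedPointFree σM := by
      intro x hx
      have hx' : σ (x : K) = x := congrArg Subtype.val hx
      by_contra h1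
      have hne : (x : K) ≠ 1 := fun e => h1 (Subtype.ext e)
      have hne2 : (x : K) * x ≠ 1 := fun e => by
        have h2 : orderOf (x : K) ∣ 2 := orderOf_dvd_of_pow_eq_one (by rw [pow_two, e])
        exact hne (orderOf_eq_one_iff.mp (Nat.eq_one_of_dvd_coprimes (Nat.coprime_two_left.mpr ((hM _).mp x.2)) h2 dvd_rfl))
      let f3 : Fin 3 → {k : K // σ k = k} := ![⟨1, map_one σ⟩, ⟨x, hx'⟩, ⟨x * x, by rw [map_mul, hx']⟩]
      have hinj : Function.Injective f3 := by
        intro u v e
        have e' := congrArg Subtype.val e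
        fin_cases u <;> fin_cases v <;>
          simp [f3, hne, hne2, Ne.symm hne, Ne.symm hne2] at e' ⊢
      have := Nat.card_le_card_of_injective f3 hinj
      rw [Nat.card_fin] at this
      omega
    have hinv2 : Function.Involutive σM := fun x => Subtype.ext (hσσ x)
    have hMc : ∀ u v : t.ker, Commute u v := hfree.commute_all_of_involutive hinv2
    have hMinv : ∀ x ∈ t.ker, σ x = x⁻¹ := fun x hx =>
      congrArg Subtype.val (congrFun (hfree.coe_eq_inv_of_involutive hinv2) ⟨x, hx⟩)
    set Z := Subgroup.centralizer ((t.ker : Subgroup K) : Set K) with hZ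
    have hcent : ∀ k : K, k⁻¹ * σ k ∈ Z := by
      intro k
      refine Subgroup.mem_centralizer_iff.mpr fun m hm => ?_
      have e1 : σ k * m⁻¹ * (σ k)⁻¹ = k * m⁻¹ * k⁻¹ := by
        have := hMinv _ ((inferInstance : t.ker.Normal).conj_mem m hm k)
        rw [map_mul, map_mul, map_inv, hMinv m hm] at this
        rw [this]; group
      have e2 : k⁻¹ * σ k * m⁻¹ = m⁻¹ * (k⁻¹ * σ k) := by
        calc k⁻¹ * σ k * m⁻¹ = k⁻¹ * (σ k * m⁻¹ * (σ k)⁻¹) * σ k := by group
          _ = m⁻¹ * (k⁻¹ * σ k) := by rw [e1]; group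
      have h := (show Commute (k⁻¹ * σ k) m⁻¹ from e2).inv_right
      rw [inv_inv] at h
      exact h.symm.eq
    have hsq : ∀ k : K, k * k ∈ Z := by
      intro k
      have hle : Nat.card K ≤ Nat.card Z * 2 := by
        haveI := Fintype.ofFinite K
        rw [Nat.card_eq_fintype_card, Nat.card_eq_fintype_card]
        refine (Finset.card_le_mul_card_image_of_maps_to (f := fun k : K => (⟨k⁻¹ * σ k, hcent k⟩ : Z))
          (s := Finset.univ) (t := Finset.univ) (fun _ _ => Finset.mem_univ _) 2 fun y _ => ?_).trans_eq (mul_comm _ _)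
        by_cases hy : ∃ k₀ : K, (⟨k₀⁻¹ * σ k₀, hcent k₀⟩ : Z) = y
        · obtain ⟨k₀, rfl⟩ := hy
          refine le_trans ?_ hfixK
          rw [Nat.card_eq_fintype_card, Fintype.card_subtype]
          refine Finset.card_le_card_of_injOn (fun k => k * k₀⁻¹) (fun k hk => ?_) fun u _ v _ e => mul_right_cancel e
          simp only [Finset.coe_filter, Finset.mem_univ, true_and, Set.mem_ofPred_eq] at hk ⊢
          have e : k⁻¹ * σ k = k₀⁻¹ * σ k₀ := congrArg Subtype.val hk
          rw [map_mul, map_inv]
          calc σ k * (σ k₀)⁻¹ = k * (k⁻¹ * σ k) * (σ k₀)⁻¹ := by group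
            _ = k * k₀⁻¹ := by rw [e]; group
        · rw [Finset.card_eq_zero.mpr (Finset.filter_eq_empty_iff.mpr fun k _ e => hy ⟨k, e⟩)]
          exact Nat.zero_le 2
      rw [← Z.card_mul_index] at hle
      have hi : Z.index ≤ 2 := Nat.le_of_mul_le_mul_left hle Nat.card_pos
      have h0 : Z.index ≠ 0 := Subgroup.index_ne_zero_of_finite
      rcases (show Z.index = 1 ∨ Z.index = 2 by omega) with hZi | hZi
      · rw [Subgroup.index_eq_one.mp hZi]; exact Subgroup.mem_top _
      · exact Subgroup.mul_self_mem_of_index_two hZi k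
    have hMcen : ∀ m ∈ t.ker, ∀ k : K, k * m = m * k := by
      intro m hm k
      have hkm : k * m * k⁻¹ ∈ t.ker := (inferInstance : t.ker.Normal).conj_mem m hm k
      have hr : k * m * k⁻¹ * m⁻¹ ∈ t.ker := mul_mem hkm (inv_mem hm)
      have e1 : k * k * m = m * (k * k) := ((Subgroup.mem_centralizer_iff.mp (hsq k)) m hm).symm
      have e2 : k * (k * m * k⁻¹ * m⁻¹) * k⁻¹ = (k * m * k⁻¹ * m⁻¹)⁻¹ := by
        calc k * (k * m * k⁻¹ * m⁻¹) * k⁻¹ = (k * k * m) * (k * k)⁻¹ * (k * m⁻¹ * k⁻¹) := by group
          _ = m * (k * m⁻¹ * k⁻¹) := by rw [e1, mul_inv_cancel_right]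
          _ = _ := by group
      have h2 : orderOf (k * m * k⁻¹ * m⁻¹) ∣ 2 := orderOf_dvd_of_pow_eq_one (by rw [pow_two, hnoinv _ _ e2])
      have h1 := orderOf_eq_one_iff.mp (Nat.eq_one_of_dvd_coprimes (Nat.coprime_two_left.mpr ((hM _).mp hr)) h2 dvd_rfl)
      rw [mul_inv_eq_one, mul_inv_eq_iff_eq_mul] at h1
      exact h1
    have hKc : ∀ u v : K, u * v = v * u :=
      commutative_of_cyclic_center_quotient t fun m hm => Subgroup.mem_center_iff.mpr fun k => hMcen m hm k
    exact congrArg Subtype.val (hKc (⟨g, hga, hgb⟩ : K) ⟨h, hha, hhb⟩)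
  obtain ⟨F, iF, iFin, hcard, hiso⟩ := CfsgLib.Perm.sharply_three_pgl_of_abelian G h3 hsharp hab (by omega)
  exact ⟨F, iF, iFin, by omega, hiso⟩

end Cfsg.Agent.S0730
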