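import Cfsg.Statements.S0731
import Cfsg.Agent.Lib.Perm.ZassenhausClassify

set_option autoImplicit false
open Cfsg

namespace Cfsg.Agent.S0731

/-- A finite Zassenhaus group whose point stabiliser has an abelian regular normal subgroup on the remaining points is sharply triply transitive or isomorphic to `PSL(2, F)` for a finite field `F` of odd characteristic. -/
theorem result {G Ω : Type*} [Group G] [Finite G] [MulAction G Ω] [Finite Ω] (hZ : Cfsg.IsZassenhausGroup G Ω) (x : Ω) (F : Subgroup G) (hFle : F ≤ MulAction.stabilizer G x) (hFn : (F.subgroupOf (MulAction.stabilizer G x)).Normal) (hFab : IsMulCommutative F) (hreg : ∀ y z : Ω, y ≠ x → z ≠ x → ∃! u : F, (u : G) • y = z) : (MulAction.IsMultiplyPretransitive G Ω 3 ∧ ∀ t : Fin 3 ↪ Ω, MulAction.stabilizer G t = ⊥) ∨ ∃ (K : Type) (_ : Field K) (_ : Fintype K), ringChar K ≠ 2 ∧ Nonempty (G ≃* Matrix.ProjectiveSpecialLinearGroup (Fin 2) K) := by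
  haveI := Fintype.ofFinite Ω
  obtain ⟨-, -, -, ⟨-, -, c, d, hcd, -, -⟩, -⟩ := id hZ
  obtain ⟨b, hab⟩ : ∃ b : Ω, x ≠ b := by
    by_cases h : x = c
    · exact ⟨d, fun e => hcd (h.symm.trans e)⟩
    · exact ⟨c, h⟩
  rcases CfsgLib.Perm.ZassenhausClass.classify hZ hab F hFle hFn hFab hreg with ⟨-, h⟩ | ⟨-, K, iK, iKf, hc, -, hiso⟩
  · exact Or.inl h
  · exact Or.inr ⟨K, iK, iKf, hc, hiso⟩

end Cfsg.Agent.S0731
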