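import Cfsg.Statements.S0732
import Cfsg.Agent.Lib.Perm.ZassenhausClassify
import Cfsg.Agent.Lib.Perm.SharplyThree
import Cfsg.Agent.Lib.Perm.SharplyTwo
import Cfsg.Agent.Lib.Perm.RegularNormal
import Mathlib.FieldTheory.Finite.GaloisField
import Mathlib.FieldTheory.Galois.Basic
import Mathlib.NumberTheory.Fermat

set_option autoImplicit false
set_option maxHeartbeats 1600000
set_option linter.style.haveILetI false
open Cfsg

namespace Cfsg.Agent.S0732

/-- A ring isomorphism induces an isomorphism of projective general linear groups. -/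
def pglEquiv {R S : Type*} [CommRing R] [CommRing S] (e : R ≃+* S) :
    Matrix.ProjGenLinGroup (Fin 2) R ≃* Matrix.ProjGenLinGroup (Fin 2) S :=
  MonoidHom.toMulEquiv (Matrix.ProjGenLinGroup.map (e : R →+* S)) (Matrix.ProjGenLinGroup.map (e.symm : S →+* R))
    (by rw [← Matrix.ProjGenLinGroup.map_comp, RingEquiv.symm_comp, Matrix.ProjGenLinGroup.map_id])
    (by rw [← Matrix.ProjGenLinGroup.map_comp, RingEquiv.comp_symm, Matrix.ProjGenLinGroup.map_id])

/-- A ring isomorphism induces an isomorphism of projective special linear groups. -/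
noncomputable def pslEquiv {R S : Type*} [CommRing R] [CommRing S] (e : R ≃+* S) :
    Matrix.ProjectiveSpecialLinearGroup (Fin 2) R ≃* Matrix.ProjectiveSpecialLinearGroup (Fin 2) S :=
  let m : Matrix.SpecialLinearGroup (Fin 2) R ≃* Matrix.SpecialLinearGroup (Fin 2) S :=
    MonoidHom.toMulEquiv (Matrix.SpecialLinearGroup.map (e : R →+* S))
      (Matrix.SpecialLinearGroup.map (e.symm : S →+* R)) (by ext A i j; simp) (by ext A i j; simp)
  QuotientGroup.congr _ _ m (by
    refine le_antisymm ?_ ?_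
    · rintro _ ⟨x, hx, rfl⟩
      refine Subgroup.mem_center_iff.mpr fun y => ?_
      obtain ⟨y, rfl⟩ := m.surjective y
      show m y * m x = m x * m y
      rw [← map_mul, ← map_mul, Subgroup.mem_center_iff.mp hx y]
    · intro x hx
      refine ⟨m.symm x, Subgroup.mem_center_iff.mpr fun y => m.injective ?_, m.apply_symm_apply x⟩
      rw [map_mul, map_mul, m.apply_symm_apply]
      exact Subgroup.mem_center_iff.mp hx _)

open MulAction in
/-- The normal subgroup of order `p` of a point stabiliser. -/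
theorem exists_kernel {α : Type*} [Fintype α] [DecidableEq α] {p d : ℕ} (hp : p.Prime)
    (hα : Fintype.card α = p + 1) (G : Subgroup (Equiv.Perm α)) [IsPretransitive G α]
    (hG : Nat.card G = (p + 1) * p * d) (hd : d < p) (a : α) :
    ∃ P : Subgroup G, P ≤ stabilizer G a ∧ Nat.card P = p ∧
      (∀ g : G, g • a = a → ∀ u ∈ P, g * u * g⁻¹ ∈ P) ∧
      ∀ y z : α, y ≠ a → z ≠ a → ∃! u : P, (u : G) • y = z := by
  classical
  haveI := Fact.mk hp
  have hd0 : 0 < d := by
    rcases Nat.eq_zero_or_pos d with h | h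
    · rw [h, mul_zero] at hG; exact absurd hG Nat.card_pos.ne'
    · exact h
  have hS : Nat.card (stabilizer G a) = p * d := by
    have h := CfsgLib.Perm.natCard_eq_mul_stabilizer (G := G) a
    rw [hG, Nat.card_eq_fintype_card (α := α), hα, mul_assoc] at h
    exact (Nat.eq_of_mul_eq_mul_left (Nat.succ_pos p) h).symm
  obtain ⟨P₀⟩ : Nonempty (Sylow p (stabilizer G a)) := inferInstance
  have hnd : ¬ p ∣ d := fun h => absurd (Nat.le_of_dvd hd0 h) (by omega)
  have hP₀ : Nat.card (P₀ : Subgroup (stabilizer G a)) = p := by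
    rw [P₀.card_eq_multiplicity, hS, Nat.factorization_mul hp.pos.ne' hd0.ne', Finsupp.add_apply,
      Nat.factorization_eq_zero_of_not_dvd hnd, hp.factorization_self, add_zero, pow_one]
  have hidx : (P₀ : Subgroup (stabilizer G a)).index = d := by
    have h := Subgroup.card_mul_index (P₀ : Subgroup (stabilizer G a))
    rw [hP₀, hS] at h
    exact Nat.eq_of_mul_eq_mul_left hp.pos h
  haveI hsub : Subsingleton (Sylow p (stabilizer G a)) := by
    refine Finite.card_le_one_iff_subsingleton.mp (le_of_eq ?_)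
    have h1 : Nat.card (Sylow p (stabilizer G a)) ≤ d :=
      Nat.le_of_dvd hd0 (hidx ▸ P₀.card_dvd_index)
    have h2 := card_sylow_modEq_one p (stabilizer G a)
    have h3 : 0 < Nat.card (Sylow p (stabilizer G a)) := Nat.card_pos
    unfold Nat.ModEq at h2
    rw [Nat.mod_eq_of_lt (by omega), Nat.mod_eq_of_lt hp.one_lt] at h2
    exact h2
  have hn := P₀.normal_of_subsingleton
  set P : Subgroup G := (P₀ : Subgroup (stabilizer G a)).map (stabilizer G a).subtype with hP
  have hPc : Nat.card P = p := by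
    rw [hP, Subgroup.card_map_of_injective (stabilizer G a).subtype_injective, hP₀]
  have hPle : P ≤ stabilizer G a := Subgroup.map_subtype_le _
  have hPn : ∀ g : G, g • a = a → ∀ u ∈ P, g * u * g⁻¹ ∈ P := by
    rintro g hg _ ⟨v, hv, rfl⟩
    exact ⟨⟨g, hg⟩ * v * (⟨g, hg⟩ : stabilizer G a)⁻¹, hn.conj_mem v hv _, by simp⟩
  have hfree : ∀ u ∈ P, ∀ y : α, y ≠ a → u • y = y → u = 1 := by
    intro u hu y hy e
    by_contra hu1
    have hord : orderOf ((u : G) : Equiv.Perm α) = p := by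
      rw [Subgroup.orderOf_coe]
      have h1 : orderOf u ∣ p := hPc ▸ Subgroup.orderOf_dvd_natCard P hu
      exact ((Nat.dvd_prime hp).mp h1).resolve_left fun h => hu1 (orderOf_eq_one_iff.mp h)
    have hσ : ((u : G) : Equiv.Perm α) ^ p ^ 1 = 1 := by rw [pow_one, ← hord, pow_orderOf_eq_one]
    have h2 := Equiv.Perm.card_compl_support_modEq (p := p) hσ
    have h3 : 2 ≤ (((u : G) : Equiv.Perm α).supportᶜ).card := by
      calc 2 = ({a, y} : Finset α).card := (Finset.card_pair (Ne.symm hy)).symm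
        _ ≤ _ := Finset.card_le_card (by
          intro z hz
          simp only [Finset.mem_insert, Finset.mem_singleton] at hz
          rw [Finset.mem_compl, Equiv.Perm.notMem_support]
          rcases hz with rfl | rfl
          · exact hPle hu
          · exact e)
    have h4 : (((u : G) : Equiv.Perm α).supportᶜ).card < p + 1 := by
      rw [← hα]
      obtain ⟨w, hw⟩ := Finset.nonempty_iff_ne_empty.mpr
        (fun h => hu1 (Subtype.ext (Equiv.Perm.support_eq_empty_iff.mp h)) :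
          ((u : G) : Equiv.Perm α).support ≠ ∅)
      refine Finset.card_lt_univ_of_notMem (x := w) ?_
      rw [Finset.mem_compl, not_not]
      exact hw
    rw [hα] at h2
    unfold Nat.ModEq at h2
    rcases eq_or_lt_of_le (Nat.le_of_lt_succ h4) with h5 | h5
    · rw [h5, Nat.mod_self, Nat.add_mod_left, Nat.mod_eq_of_lt hp.one_lt] at h2
      omega
    · rw [Nat.mod_eq_of_lt h5, Nat.add_mod_left, Nat.mod_eq_of_lt hp.one_lt] at h2
      omega
  refine ⟨P, hPle, hPc, hPn, fun y z hy hz => ?_⟩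
  have hmem : ∀ u : P, (u : G) • y ≠ a := fun u e =>
    hy (MulAction.injective (u : G) (e.trans (hPle u.2).symm))
  let f : P → {z : α // z ≠ a} := fun u => ⟨(u : G) • y, hmem u⟩
  have hf : Function.Injective f := by
    intro u v e
    refine Subtype.ext (inv_mul_eq_one.mp (hfree _ (mul_mem (inv_mem v.2) u.2) y hy ?_)).symm
    rw [mul_smul, show (u : G) • y = (v : G) • y from congrArg Subtype.val e, inv_smul_smul]
  have hb := (Nat.bijective_iff_injective_and_card f).mpr ⟨hf, by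
    rw [hPc, Nat.card_eq_fintype_card, Fintype.card_subtype_compl, Fintype.card_subtype_eq, hα,
      Nat.add_sub_cancel]⟩
  obtain ⟨u, hu⟩ := hb.2 ⟨z, hz⟩
  exact ⟨u, congrArg Subtype.val hu, fun v hv => hf (Subtype.ext (hv.trans (congrArg Subtype.val hu).symm))⟩

open MulAction in
/-- A regular normal elementary abelian two-subgroup gives semi-affine coordinates. -/
theorem semiaffine {α : Type*} [Fintype α] [DecidableEq α] (G : Subgroup (Equiv.Perm α))
    (N : Subgroup G) [N.Normal] (hNc : IsMulCommutative N) (hN2 : ∀ n ∈ N, n ^ 2 = 1)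
    (hNt : IsPretransitive N α) (hNs : ∀ c : α, stabilizer N c = ⊥) {q : ℕ} (hq : q ≠ 0)
    (hcard : Fintype.card α = 2 ^ q) {a b : α} (hab : a ≠ b) (P : Subgroup G)
    (hPa : ∀ u ∈ P, u • a = a) (hPn : ∀ g : G, g • a = a → ∀ u ∈ P, g * u * g⁻¹ ∈ P)
    (u₀ : G) (hu₀ : u₀ ∈ P) (hgen : ∀ u ∈ P, ∃ i : ℕ, u₀ ^ i = u)
    (hPt : ∀ y : α, y ≠ a → ∃ u ∈ P, u • b = y) :
    ∃ e : α ≃ GaloisField 2 q,
      (∀ g : G, e.symm.trans (((g : Equiv.Perm α)).trans e) ∈ Cfsg.semiaffineGroup (GaloisField 2 q)) ∧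
      Nat.card (stabilizer G a ⊓ stabilizer G b : Subgroup G) ∣ q := by
  classical
  haveI := hNt
  haveI : Fact (Nat.Prime 2) := ⟨Nat.prime_two⟩
  let ev : N → α := fun n => (n : G) • a
  have hev : Function.Bijective ev := by
    refine ⟨fun n m e => ?_, fun y => ?_⟩
    · have h : m⁻¹ * n ∈ stabilizer N a := by
        show ((m⁻¹ * n : N) : G) • a = a
        rw [Subgroup.coe_mul, Subgroup.coe_inv, mul_smul, show (n : G) • a = (m : G) • a from e, inv_smul_smul]
      rw [hNs, Subgroup.mem_bot] at h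
      exact (inv_mul_eq_one.mp h).symm
    · obtain ⟨n, hn⟩ := exists_smul_eq N a y
      exact ⟨n, hn⟩
  let NE := Equiv.ofBijective ev hev
  let _ : CommGroup N := { (inferInstance : Group N) with mul_comm := hNc.1.1 }
  let _ : AddCommGroup α := (NE.symm.trans Additive.ofMul).addCommGroup
  have hzero : (0 : α) = a := one_smul G a
  have hNEsymm : ∀ v : α, (NE.symm v : G) • a = v := fun v => NE.apply_symm_apply v
  have hadd : ∀ v w : α, v + w = (NE.symm v : G) • w := by
    intro v w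
    show ((NE.symm v * NE.symm w : N) : G) • a = _
    rw [Subgroup.coe_mul, mul_smul, hNEsymm]
  have hlin : ∀ g : G, g • a = a → ∀ v w : α, g • (v + w) = g • v + g • w := by
    intro g hg v w
    rw [hadd, hadd]
    have hc : (⟨g * NE.symm v * g⁻¹, Subgroup.Normal.conj_mem ‹_› _ (NE.symm v).2 g⟩ : N) =
        NE.symm (g • v) := by
      rw [Equiv.eq_symm_apply]
      show (g * (NE.symm v : G) * g⁻¹) • a = g • v
      rw [mul_smul, mul_smul, inv_smul_eq_iff.mpr hg.symm, hNEsymm]
    rw [← hc]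
    show g • (NE.symm v : G) • w = (g * (NE.symm v : G) * g⁻¹) • g • w
    rw [mul_smul, mul_smul, inv_smul_smul]
  let em : ∀ g : G, g • a = a → AddMonoid.End α := fun g hg => AddMonoidHom.mk' (fun v => g • v) (hlin g hg)
  have hu₀a : u₀ • a = a := hPa u₀ hu₀
  let K : Subring (AddMonoid.End α) := Subring.centralizer {em u₀ hu₀a}
  have hk : ∀ (k : K) (v : α), (k : AddMonoid.End α) (u₀ • v) = u₀ • (k : AddMonoid.End α) v :=
    fun k v => (DFunLike.congr_fun (Subring.mem_centralizer_iff.mp k.2 _ (Set.mem_singleton _)) v).symm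
  have hkpow : ∀ (k : K) (i : ℕ) (v : α), (k : AddMonoid.End α) (u₀ ^ i • v) = u₀ ^ i • (k : AddMonoid.End α) v := by
    intro k i
    induction i with
    | zero => intro v; simp
    | succ i ih => intro v; rw [pow_succ, mul_smul, mul_smul, ih, hk]
  have hinvt : ∀ u ∈ P, ∀ y, y ≠ a → ∀ z, z ≠ a → ∃ i : ℕ, u₀ ^ i • y = z := by
    intro u _ y hy z hz
    obtain ⟨v, hv, hv'⟩ := hPt y hy
    obtain ⟨w, hw, hw'⟩ := hPt z hz
    obtain ⟨i, hi⟩ := hgen _ (mul_mem hw (inv_mem hv))
    exact ⟨i, by rw [hi, mul_smul, ← hv', inv_smul_smul, hw']⟩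
  have hbig : ∀ W : AddSubgroup α, (∀ i : ℕ, ∀ v, v ∈ W → u₀ ^ i • v ∈ W) → ∀ v ∈ W, v ≠ 0 → W = ⊤ := by
    intro W hW v hv hv0
    rw [AddSubgroup.eq_top_iff']
    intro z
    by_cases hz : z = a
    · rw [hz, ← hzero]; exact W.zero_mem
    rw [hzero] at hv0
    obtain ⟨i, hi⟩ := hinvt u₀ hu₀ v hv0 z hz
    exact hi ▸ hW i v hv
  have hfix : ∀ i : ℕ, u₀ ^ i • a = a := fun i => hPa _ (pow_mem hu₀ i)
  have hinjK : ∀ k : K, k ≠ 0 → Function.Injective (k : AddMonoid.End α) := by
    intro k hk0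
    rw [injective_iff_map_eq_zero]
    intro v hv
    by_contra hv0
    have hW := hbig (AddMonoidHom.ker (k : AddMonoid.End α)) (fun i w hw => by
      show (k : AddMonoid.End α) (u₀ ^ i • w) = 0
      rw [hkpow, show (k : AddMonoid.End α) w = 0 from hw, hzero, hfix]) v hv hv0
    exact hk0 (Subtype.ext (DFunLike.ext _ _ fun w =>
      (show w ∈ AddMonoidHom.ker (k : AddMonoid.End α) from hW ▸ AddSubgroup.mem_top w)))
  let E : K →+ α :=
    { toFun := fun k => (k : AddMonoid.End α) b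
      map_zero' := rfl
      map_add' := fun _ _ => rfl }
  have hb0 : b ≠ 0 := by rw [hzero]; exact hab.symm
  have hEb : Function.Bijective E := by
    constructor
    · rw [injective_iff_map_eq_zero]
      intro k hk0
      by_contra hne
      exact hb0 (hinjK k hne (hk0.trans (map_zero (k : AddMonoid.End α)).symm))
    · refine AddMonoidHom.range_eq_top.mp (hbig E.range ?_ b ⟨1, rfl⟩ hb0)
      rintro i _ ⟨k, rfl⟩
      refine ⟨⟨em (u₀ ^ i) (hfix i), Subring.mem_centralizer_iff.mpr ?_⟩ * k, rfl⟩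
      rintro _ rfl
      refine DFunLike.ext _ _ fun v => ?_
      show u₀ • u₀ ^ i • v = u₀ ^ i • u₀ • v
      rw [← mul_smul, ← mul_smul, ← pow_succ', ← pow_succ]
  haveI : Nontrivial K := ⟨⟨1, 0, fun h => hb0 (congrArg E h)⟩⟩
  haveI : NoZeroDivisors K := ⟨fun {k l} h => by
    by_contra hc
    rw [not_or] at hc
    have h0 : ((k * l : K) : AddMonoid.End α) b = 0 := by rw [h]; rfl
    exact hb0 (hinjK l hc.2 ((hinjK k hc.1 (h0.trans (map_zero (k : AddMonoid.End α)).symm)).trans
      (map_zero (l : AddMonoid.End α)).symm))⟩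
  haveI : IsDomain K := NoZeroDivisors.to_isDomain K
  haveI : Finite K := Finite.of_injective E hEb.1
  letI : Field K := (Finite.isDomain_to_isField K).toField
  letI : Fintype K := Fintype.ofFinite K
  letI : Fintype (GaloisField 2 q) := Fintype.ofFinite _
  let ψ : GaloisField 2 q ≃+* K := FiniteField.ringEquivOfCardEq (by
    rw [← Nat.card_eq_fintype_card, ← Nat.card_eq_fintype_card, GaloisField.card 2 q hq,
      Nat.card_eq_of_bijective E hEb, Nat.card_eq_fintype_card, hcard])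
  obtain ⟨c, hc⟩ : ∃ c : GaloisField 2 q ≃+ α, ∀ z, c z = ((ψ z : K) : AddMonoid.End α) b :=
    ⟨ψ.toAddEquiv.trans (AddEquiv.ofBijective E hEb), fun z => rfl⟩
  have hc0 : c 0 = a := by rw [map_zero, hzero]
  have hc1 : c 1 = b := by rw [hc, map_one]; rfl
  -- the scalars
  have hζ : ∀ i : ℕ, ∃ ζ : GaloisField 2 q, ∀ z, u₀ ^ i • c z = c (ζ * z) := by
    intro i
    have hm : em (u₀ ^ i) (hfix i) ∈ K := Subring.mem_centralizer_iff.mpr (by
      rintro _ rfl
      refine DFunLike.ext _ _ fun v => ?_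
      show u₀ • u₀ ^ i • v = u₀ ^ i • u₀ • v
      rw [← mul_smul, ← mul_smul, ← pow_succ', ← pow_succ])
    refine ⟨ψ.symm ⟨_, hm⟩, fun z => ?_⟩
    rw [hc, hc, map_mul, ψ.apply_symm_apply]
    rfl
  choose ζ hζ using hζ
  have hζ1 : ∀ z : GaloisField 2 q, z ≠ 0 → ∃ i, z = ζ i := by
    intro z hz
    obtain ⟨u, hu, hu'⟩ := hPt (c z) (fun e => hz (c.injective (e.trans hc0.symm)))
    obtain ⟨i, rfl⟩ := hgen u hu
    refine ⟨i, c.injective ?_⟩
    rw [← hu', ← hc1, hζ, mul_one]
  have haddc : ∀ (n : N) (z : GaloisField 2 q), (n : G) • c z = c (c.symm (NE n) + z) := by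
    intro n z
    rw [map_add, c.apply_symm_apply, hadd, NE.symm_apply_apply]
  -- the semilinear maps
  have hsemi : ∀ g : G, g • a = a → ∃ (β : GaloisField 2 q) (φ : GaloisField 2 q ≃+* GaloisField 2 q),
      β ≠ 0 ∧ ∀ z, g • c z = c (β * φ z) := by
    intro g hg
    let L : GaloisField 2 q → GaloisField 2 q := fun z => c.symm (g • c z)
    have hL : ∀ z w, L (z + w) = L z + L w := fun z w => by
      simp only [L, map_add, hlin g hg, map_add]
    have hcL : ∀ z, c (L z) = g • c z := fun z => c.apply_symm_apply _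
    have hLinj : Function.Injective L := fun z w e => c.injective (MulAction.injective g (c.symm.injective e))
    have hL0 : L 0 = 0 := c.injective (by rw [hcL, hc0, hg])
    obtain ⟨β, hβ⟩ : ∃ β, β = L 1 := ⟨_, rfl⟩
    have hβ0 : β ≠ 0 := fun e => one_ne_zero (hLinj (show L 1 = L 0 by rw [← hβ, e, hL0]))
    have hconj : ∀ i, ∃ j, ∀ z, L (ζ i * z) = ζ j * L z := by
      intro i
      obtain ⟨j, hj⟩ := hgen _ (hPn g hg _ (pow_mem hu₀ i))
      refine ⟨j, fun z => c.injective ?_⟩
      rw [hcL, ← hζ i, ← hζ j, hcL, hj, mul_smul, mul_smul, inv_smul_smul]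
    have hmul : ∀ z w, L (z * w) * β = L z * L w := by
      intro z w
      by_cases hz : z = 0
      · rw [hz, zero_mul, hL0]; ring
      obtain ⟨i, rfl⟩ := hζ1 z hz
      obtain ⟨j, hj⟩ := hconj i
      have := hj 1
      rw [mul_one] at this
      rw [hj w, this, ← hβ]
      ring
    let φf : GaloisField 2 q →+* GaloisField 2 q :=
      { toFun := fun z => β⁻¹ * L z
        map_one' := by rw [← hβ, inv_mul_cancel₀ hβ0]
        map_mul' := fun z w => by
          rw [mul_mul_mul_comm, ← hmul, mul_comm (L (z * w)) β, ← mul_assoc, mul_assoc β⁻¹,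
            inv_mul_cancel₀ hβ0, mul_one]
        map_zero' := by rw [hL0, mul_zero]
        map_add' := fun z w => by rw [hL, mul_add] }
    refine ⟨β, RingEquiv.ofBijective φf (Finite.injective_iff_bijective.mp φf.injective), hβ0, fun z => ?_⟩
    show g • c z = c (β * (β⁻¹ * L z))
    rw [mul_inv_cancel_left₀ hβ0, hcL]
  refine ⟨c.symm.toEquiv, fun g => ?_, ?_⟩
  · obtain ⟨n, hn⟩ := exists_smul_eq N a ((g : G) • a)
    obtain ⟨β, φ, hβ0, hg⟩ := hsemi ((n : G)⁻¹ * g) (by
      rw [mul_smul, ← show (n : G) • a = g • a from hn, inv_smul_smul])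
    refine ⟨Units.mk0 β hβ0, c.symm (NE n), φ, fun z => ?_⟩
    show c.symm (g • c z) = β * φ z + c.symm (NE n)
    apply c.injective
    rw [c.apply_symm_apply, add_comm, ← haddc, ← hg, ← mul_smul, mul_inv_cancel_left]
  · choose β φ hβ0 hsc using hsemi
    have hφ : ∀ (g : G) (hg : g ∈ stabilizer G a ⊓ stabilizer G b) (z), g • c z = c (φ g hg.1 z) := by
      intro g hg z
      have h1 := hsc g hg.1 1
      rw [map_one (φ g hg.1), mul_one, hc1, show g • b = b from hg.2] at h1
      have h2 : c 1 = c (β g hg.1) := hc1.trans h1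
      rw [hsc g hg.1, ← c.injective h2, one_mul]
    let Φ : (stabilizer G a ⊓ stabilizer G b : Subgroup G) → (GaloisField 2 q ≃ₐ[ZMod 2] GaloisField 2 q) :=
      fun g => AlgEquiv.ofRingEquiv (f := φ g g.2.1) fun x =>
        RingHom.congr_fun (RingHom.ext_zmod ((φ g g.2.1 : GaloisField 2 q →+* GaloisField 2 q).comp
          (algebraMap (ZMod 2) _)) (algebraMap (ZMod 2) _)) x
    have hΦ : ∀ (g : (stabilizer G a ⊓ stabilizer G b : Subgroup G)) z,
        (g : G) • c z = c (Φ g z) := fun g z => hφ g g.2 z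
    let Φ' : (stabilizer G a ⊓ stabilizer G b : Subgroup G) →* (GaloisField 2 q ≃ₐ[ZMod 2] GaloisField 2 q) :=
      MonoidHom.mk' Φ fun g h => AlgEquiv.ext fun z => c.injective (by
        rw [← hΦ, Subgroup.coe_mul, mul_smul, hΦ, hΦ]; rfl)
    have hΦinj : Function.Injective Φ' := by
      intro g h e
      refine Subtype.ext (eq_of_smul_eq_smul fun y : α => ?_)
      rw [← c.apply_symm_apply y, hΦ, hΦ, show Φ g = Φ h from e]
    have := Subgroup.card_dvd_of_injective Φ' hΦinj
    rwa [IsGalois.card_aut_eq_finrank, GaloisField.finrank 2 hq] at this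

/-- A transitive permutation group on `p + 1` points (`p` prime) of order `(p+1) p d` with `d < p` is isomorphic to `PGL(2,p)` with `d = p - 1`, or to `PSL(2,p)` with `2d = p - 1`, or else `p + 1 = 2^q` for a prime `q`, `d = 1` or `d = q`, and the group is permutation-isomorphic to a group of semi-affine maps `x ↦ a φ(x) + b` of the field with `2^q` elements. -/
theorem result {α : Type*} [Fintype α] [DecidableEq α] {p d : ℕ} (hp : p.Prime) (hα : Fintype.card α = p + 1) (G : Subgroup (Equiv.Perm α)) [MulAction.IsPretransitive G α] (hG : Nat.card G = (p + 1) * p * d) (hd : d < p) : (d = p - 1 ∧ Nonempty (G ≃* Matrix.ProjGenLinGroup (Fin 2) (ZMod p))) ∨ (2 * d = p - 1 ∧ Nonempty (G ≃* Matrix.ProjectiveSpecialLinearGroup (Fin 2) (ZMod p))) ∨ (∃ q : ℕ, q.Prime ∧ p + 1 = 2 ^ q ∧ (d = 1 ∨ d = q) ∧ ∃ e : α ≃ GaloisField 2 q, ∀ g : G, (e.symm.trans (((g : Equiv.Perm α)).trans e)) ∈ Cfsg.semiaffineGroup (GaloisField 2 q)) := by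
  classical
  haveI := Fact.mk hp
  have hd0 : 0 < d := by
    rcases Nat.eq_zero_or_pos d with h | h
    · rw [h, mul_zero] at hG; exact absurd hG Nat.card_pos.ne'
    · exact h
  obtain ⟨a, b, hab⟩ := Fintype.exists_pair_of_one_lt_card (α := α) (by rw [hα]; have := hp.two_le; omega)
  have hker := exists_kernel hp hα G hG hd
  obtain ⟨P, hPle, hPc, hPn, hreg⟩ := hker a
  have h2t : MulAction.IsMultiplyPretransitive G α 2 :=
    CfsgLib.Perm.isTwoPretransitive_of_stabilizer a fun y z hy hz => by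
      obtain ⟨u, hu, -⟩ := hreg y z hy hz
      exact ⟨u, hPle u.2, hu⟩
  have h3 : ∀ g : G, ∀ x y z : α, x ≠ y → y ≠ z → x ≠ z → g • x = x → g • y = y → g • z = z → g = 1 := by
    intro g x y z hxy hyz hxz hgx hgy hgz
    obtain ⟨Q, hQle, hQc, hQn, hQreg⟩ := hker x
    obtain ⟨u, hu, hux⟩ := hQreg y z (Ne.symm hxy) (Ne.symm hxz)
    have hu1 : (u : G) ≠ 1 := fun e => hyz (by rw [← hu, e, one_smul])
    have hgi : g⁻¹ • y = y := by rw [inv_smul_eq_iff, hgy]
    have e : g * u * g⁻¹ = u := congrArg Subtype.val (hux ⟨g * u * g⁻¹, hQn g hgx u u.2⟩ (by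
      show (g * (u : G) * g⁻¹) • y = z
      rw [mul_smul, mul_smul, hgi, hu, hgz]))
    have hcomm : g * u = u * g := mul_inv_eq_iff_eq_mul.mp e
    refine eq_of_smul_eq_smul fun w : α => ?_
    rw [one_smul]
    by_cases hw : w = x
    · rw [hw, hgx]
    obtain ⟨v, hv, -⟩ := hQreg y w (Ne.symm hxy) hw
    have hgen : v ∈ Subgroup.zpowers u := by
      have hu1' : u ≠ 1 := fun e => hu1 (congrArg Subtype.val e)
      exact mem_zpowers_of_prime_card hQc hu1'
    obtain ⟨i, rfl⟩ := hgen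
    have hci : Commute g ((u : G) ^ i) := Commute.zpow_right hcomm i
    show g • w = w
    rw [← hv, Subgroup.coe_zpow, ← mul_smul, hci.eq, mul_smul, hgy]
  have hH : Nat.card (MulAction.stabilizer G a ⊓ MulAction.stabilizer G b : Subgroup G) = d := by
    have h := CfsgLib.Perm.natCard_two_transitive (G := G) h2t hab
    rw [hG, hα, Nat.add_sub_cancel] at h
    have h0 : 0 < (p + 1) * p := Nat.mul_pos (Nat.succ_pos _) hp.pos
    exact (Nat.eq_of_mul_eq_mul_left h0 (h.trans (mul_comm _ _))).symm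
  obtain ⟨u₀, hu₀⟩ : ∃ u₀ : P, u₀ ≠ 1 := by
    haveI : Nontrivial P := Finite.one_lt_card_iff_nontrivial.mp (hPc.symm ▸ hp.one_lt)
    exact exists_ne 1
  by_cases hfull : d = p - 1
  · refine Or.inl ⟨hfull, ?_⟩
    obtain ⟨ht3, hsharp⟩ := CfsgLib.Perm.ZassenhausClass.sharp_of_full h2t h3 hab (by rw [hH, hα, hfull]; omega)
    obtain ⟨F, iF, iFF, hFc, ⟨e⟩⟩ := CfsgLib.Perm.sharply_three_pgl_of_abelian G ht3 hsharp (by
      intro x y hxy g h hgx hgy hhx hhy
      obtain ⟨Q, hQle, hQc, hQn, hQreg⟩ := hker x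
      obtain ⟨u₁, hu₁⟩ : ∃ u₁ : Q, u₁ ≠ 1 := by
        haveI : Nontrivial Q := Finite.one_lt_card_iff_nontrivial.mp (hQc.symm ▸ hp.one_lt)
        exact exists_ne 1
      have hpow : ∀ k : G, k • x = x → ∃ i : ℕ, k * u₁ * k⁻¹ = (u₁ : G) ^ i := by
        intro k hk
        obtain ⟨i, hi⟩ := (mem_powers_iff_mem_zpowers (y := (⟨k * u₁ * k⁻¹, hQn k hk _ u₁.2⟩ : Q)) (x := u₁)).mpr
          (mem_zpowers_of_prime_card hQc hu₁)
        exact ⟨i, by rw [← SubmonoidClass.coe_pow]; exact (congrArg Subtype.val hi).symm⟩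
      obtain ⟨i, hi⟩ := hpow g hgx
      obtain ⟨j, hj⟩ := hpow h hhx
      have e1 : (g * h) * (u₁ : G) * (g * h)⁻¹ = (h * g) * u₁ * (h * g)⁻¹ := by
        rw [show (g * h) * (u₁ : G) * (g * h)⁻¹ = g * (h * u₁ * h⁻¹) * g⁻¹ by group,
          show (h * g) * (u₁ : G) * (h * g)⁻¹ = h * (g * u₁ * g⁻¹) * h⁻¹ by group, hi, hj, ← conj_pow,
          ← conj_pow, hi, hj, ← pow_mul, ← pow_mul, mul_comm]
      have hk : ((h * g)⁻¹ * (g * h)) * (u₁ : G) = u₁ * ((h * g)⁻¹ * (g * h)) := by
        have := congrArg (fun t => (h * g)⁻¹ * t * (g * h)) e1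
        simpa [mul_assoc] using this
      have hfa : ((h * g)⁻¹ * (g * h)) • x = x := by
        rw [mul_smul, mul_smul, hhx, hgx, inv_smul_eq_iff, mul_smul, hgx, hhx]
      have hfb : ((h * g)⁻¹ * (g * h)) • y = y := by
        rw [mul_smul, mul_smul, hhy, hgy, inv_smul_eq_iff, mul_smul, hgy, hhy]
      have hz : ((h * g)⁻¹ * (g * h)) • (u₁ : G) • y = (u₁ : G) • y := by
        rw [← mul_smul, hk, mul_smul, hfb]
      have hzy : (u₁ : G) • y ≠ y := fun e => hu₁
        ((hQreg y y (Ne.symm hxy) (Ne.symm hxy)).unique (y₁ := u₁) e (one_smul _ _))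
      have hzx : (u₁ : G) • y ≠ x := fun e => hxy (MulAction.injective (u₁ : G)
        ((hQle u₁.2).trans e.symm))
      exact (inv_mul_eq_one.mp (h3 _ x y ((u₁ : G) • y) hxy (Ne.symm hzy) (Ne.symm hzx) hfa hfb hz)).symm)
      (by rw [hα]; have := hp.two_le; omega)
    letI := iF
    letI := iFF
    exact ⟨e.trans (pglEquiv (FiniteField.ringEquivOfCardEq (K := F) (K' := ZMod p) (by rw [ZMod.card]; omega)))⟩
  have hdle : d ∣ p - 1 := by
    have h := CfsgLib.Perm.ZassenhausClass.stab_dvd (G := G) h3 hab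
    rwa [hH, hα, show p + 1 - 2 = p - 1 by omega] at h
  have hp2 : p ≠ 2 := fun e => hfull (by omega)
  haveI hf : FaithfulSMul G α := inferInstance
  by_cases hreg' : 1 < d ∧ ∀ N : Subgroup G, N.Normal → MulAction.IsPretransitive N α →
      ∃ c : α, MulAction.stabilizer N c ≠ ⊥
  · obtain ⟨hd1, hreg'⟩ := hreg'
    obtain ⟨⟨g₀, hg₀⟩, hne⟩ : ∃ g : (MulAction.stabilizer G a ⊓ MulAction.stabilizer G b : Subgroup G), g ≠ 1 := by
      haveI : Nontrivial (MulAction.stabilizer G a ⊓ MulAction.stabilizer G b : Subgroup G) :=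
        Finite.one_lt_card_iff_nontrivial.mp (hH.symm ▸ hd1)
      exact exists_ne 1
    have hZ : Cfsg.IsZassenhausGroup G α :=
      ⟨hf, h2t, h3, ⟨g₀, fun e => hne (Subtype.ext e), a, b, hab, hg₀.1, hg₀.2⟩, hreg'⟩
    have hFn : (P.subgroupOf (MulAction.stabilizer G a)).Normal := ⟨fun u hu g =>
      Subgroup.mem_subgroupOf.mpr (hPn g g.2 u (Subgroup.mem_subgroupOf.mp hu))⟩
    have hPcomm : IsMulCommutative P := by
      haveI := isCyclic_of_prime_card hPc
      exact IsCyclic.isMulCommutative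
    rcases CfsgLib.Perm.ZassenhausClass.classify hZ hab P hPle hFn hPcomm hreg with
      ⟨hc, -⟩ | ⟨hc, K, iK, iKf, -, hKc, ⟨e⟩⟩
    · exfalso; rw [hH, hα] at hc; omega
    · rw [hH, hα] at hc
      refine Or.inr (Or.inl ⟨by omega, ?_⟩)
      letI := iK
      letI := iKf
      exact ⟨e.trans (pslEquiv (FiniteField.ringEquivOfCardEq (K := K) (K' := ZMod p) (by rw [ZMod.card]; omega)))⟩
  -- a regular normal subgroup
  obtain ⟨N, hNn, hNt, hNs⟩ : ∃ N : Subgroup G, N.Normal ∧ MulAction.IsPretransitive N α ∧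
      ∀ c : α, MulAction.stabilizer N c = ⊥ := by
    by_cases hd1 : d = 1
    · have hs2 : ∀ t : Fin 2 ↪ α, MulAction.stabilizer G t = ⊥ := by
        intro t
        rw [Subgroup.eq_bot_iff_forall]
        intro g hg
        obtain ⟨k, k1, k2⟩ := CfsgLib.Perm.exists_smul_pair h2t hab
          (fun e => absurd (t.injective e) (by decide) : t 0 ≠ t 1)
        have hm : k⁻¹ * g * k ∈ (MulAction.stabilizer G a ⊓ MulAction.stabilizer G b : Subgroup G) :=
          ⟨show (k⁻¹ * g * k) • a = a by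
            rw [mul_smul, mul_smul, k1, show g • t 0 = t 0 from congrArg (fun e : Fin 2 ↪ α => e 0) hg,
              inv_smul_eq_iff, k1],
          show (k⁻¹ * g * k) • b = b by
            rw [mul_smul, mul_smul, k2, show g • t 1 = t 1 from congrArg (fun e : Fin 2 ↪ α => e 1) hg,
              inv_smul_eq_iff, k2]⟩
        rw [Subgroup.card_eq_one.mp (hH.trans hd1), Subgroup.mem_bot] at hm
        rw [show g = k * (k⁻¹ * g * k) * k⁻¹ by group, hm]
        group
      obtain ⟨T, _, _, -, -, -, hTn, -, -, hTt, hTs, -, -, -⟩ :=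
        CfsgLib.Perm.sharply_two_structure G h2t hs2 (by rw [hα]; omega)
      exact ⟨T, hTn, hTt, hTs⟩
    · push Not at hreg'
      obtain ⟨N, h1, h2, h4⟩ := hreg' (by omega)
      exact ⟨N, h1, h2, h4⟩
  haveI := hNn
  obtain ⟨hNc, r, m, hr, hNr, hrm⟩ := CfsgLib.Perm.regular_normal_two_transitive (G := G) (N := N)
    (by rw [Nat.card_eq_fintype_card, hα]; have := hp.two_le; omega) h2t hNt hNs
  rw [Nat.card_eq_fintype_card, hα] at hrm
  have hr2 : r = 2 := by
    have h2 : 2 ∣ r ^ m := by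
      rw [← hrm]
      exact even_iff_two_dvd.mp ((hp.odd_of_ne_two hp2).add_one)
    exact ((Nat.prime_dvd_prime_iff_eq Nat.prime_two hr).mp (Nat.prime_two.dvd_of_dvd_pow h2)).symm
  subst hr2
  have hm1 : m ≠ 1 := fun h => by rw [h] at hrm; have := hp.two_le; omega
  have hmp : m.Prime := Nat.prime_of_pow_sub_one_prime hm1 (by rw [← hrm]; simpa using hp) |>.2
  have hgen : ∀ u ∈ P, ∃ i : ℕ, (u₀ : G) ^ i = u := by
    intro u hu
    obtain ⟨i, hi⟩ := (mem_powers_iff_mem_zpowers (y := (⟨u, hu⟩ : P)) (x := u₀)).mpr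
      (mem_zpowers_of_prime_card hPc hu₀)
    exact ⟨i, by rw [← SubmonoidClass.coe_pow]; exact congrArg Subtype.val hi⟩
  obtain ⟨e, he, hdvd⟩ := semiaffine G N hNc hNr hNt hNs hmp.ne_zero (hα.trans hrm) hab P
    (fun u hu => hPle hu) hPn u₀ u₀.2 hgen (fun y hy => by
      obtain ⟨u, hu, -⟩ := hreg b y hab.symm hy
      exact ⟨u, u.2, hu⟩)
  rw [hH] at hdvd
  exact Or.inr (Or.inr ⟨m, hmp, hrm, (Nat.dvd_prime hmp).mp hdvd, e, he⟩)

end Cfsg.Agent.S0732
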