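import Cfsg.Statements.S0733
import Cfsg.Agent.Lib.Perm.Basic
import Mathlib.GroupTheory.GroupAction.Pointwise
import Mathlib.Algebra.Module.ZMod

set_option autoImplicit false
open Cfsg

namespace Cfsg.Agent.S0733

open scoped Pointwise

/-- A permutation group of affine type — generated by the translations of a finite vector space `V` over `ZMod p` together with a group `G₀` of linear automorphisms — is primitive on `V` if and only if `G₀` is irreducible on `V`. -/
theorem result {p : ℕ} [Fact p.Prime] {V : Type*} [AddCommGroup V] [Module (ZMod p) V] [Finite V] [Nontrivial V] (G₀ : Subgroup (V ≃ₗ[ZMod p] V)) (G : Subgroup (Equiv.Perm V)) (hG : ∀ σ : Equiv.Perm V, σ ∈ G ↔ ∃ g ∈ G₀, ∃ b : V, ∀ x : V, σ x = (g : V ≃ₗ[ZMod p] V) x + b) : MulAction.IsPreprimitive G V ↔ ∀ W : Submodule (ZMod p) V, (∀ g ∈ G₀, ∀ v ∈ W, (g : V ≃ₗ[ZMod p] V) v ∈ W) → W = ⊥ ∨ W = ⊤ := by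
  let tr : V → Equiv.Perm V := fun b => Equiv.addRight b
  have htr : ∀ b, tr b ∈ G := fun b => (hG _).mpr ⟨1, G₀.one_mem, b, fun x => rfl⟩
  have : MulAction.IsPretransitive G V := ⟨fun x y => ⟨⟨tr (-x + y), htr _⟩, by
    show x + (-x + y) = y
    rw [← add_assoc, add_neg_cancel, zero_add]⟩⟩
  constructor
  · intro hP W hW
    have hblock : MulAction.IsBlock G (W : Set V) := by
      rw [MulAction.isBlock_iff_smul_eq_of_mem]
      rintro ⟨σ, hσ⟩ x hx hσx
      obtain ⟨g, hg, b, hb⟩ := (hG σ).mp hσ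
      have hgi : ∀ v ∈ W, (g⁻¹ : V ≃ₗ[ZMod p] V) v ∈ W := fun v hv => hW _ (inv_mem hg) v hv
      have hsm : ∀ v, (⟨σ, hσ⟩ : G) • v = g v + b := hb
      rw [SetLike.mem_coe] at hx hσx
      rw [hsm] at hσx
      have hbW : b ∈ W := by have := W.sub_mem hσx (hW g hg x hx); simpa using this
      ext z
      rw [Set.mem_smul_set]
      constructor
      · rintro ⟨v, hv, rfl⟩
        rw [SetLike.mem_coe, hsm]
        exact W.add_mem (hW g hg v hv) hbW
      · intro hz
        refine ⟨(g⁻¹ : V ≃ₗ[ZMod p] V) (z - b), hgi _ (W.sub_mem hz hbW), ?_⟩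
        rw [hsm]
        show g (g.symm (z - b)) + b = z
        rw [LinearEquiv.apply_symm_apply, sub_add_cancel]
    rcases hblock.subsingleton_or_eq_univ with h | h
    · left
      rw [Submodule.eq_bot_iff]
      exact fun v hv => h hv W.zero_mem
    · right
      rw [← SetLike.coe_set_eq, Submodule.top_coe]
      exact h
  · intro h
    refine MulAction.IsPreprimitive.of_isTrivialBlock_base (0 : V) fun {B} h0 hB => ?_
    rw [MulAction.isBlock_iff_smul_eq_of_mem] at hB
    have hadd : ∀ b ∈ B, ∀ x : V, x + b ∈ B ↔ x ∈ B := by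
      intro b hb x
      have h1 : (⟨tr b, htr b⟩ : G) • B = B := hB h0 (by show (0 : V) + b ∈ B; rwa [zero_add])
      constructor
      · intro hx
        rw [← h1, Set.mem_smul_set] at hx
        obtain ⟨v, hv, e⟩ := hx
        have e' : v + b = x + b := e
        exact add_right_cancel e' ▸ hv
      · intro hx
        rw [← h1]
        exact Set.smul_mem_smul_set hx
    let A : AddSubgroup V :=
      { carrier := B
        add_mem' := fun {x y} hx hy => (hadd y hy x).mpr hx
        zero_mem' := h0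
        neg_mem' := fun {x} hx => (hadd x hx (-x)).mp (by rwa [neg_add_cancel]) }
    let W : Submodule (ZMod p) V := AddSubgroup.toZModSubmodule p A
    have hWB : ∀ v, v ∈ W ↔ v ∈ B := fun v => Iff.rfl
    have hinv : ∀ g ∈ G₀, ∀ v ∈ W, (g : V ≃ₗ[ZMod p] V) v ∈ W := by
      intro g hg v hv
      have hmem : g.toEquiv ∈ G := (hG _).mpr ⟨g, hg, 0, fun x => (add_zero _).symm⟩
      have h1 : (⟨g.toEquiv, hmem⟩ : G) • B = B := hB h0 (by show g 0 ∈ B; rwa [map_zero])
      rw [hWB] at hv ⊢
      rw [← h1]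
      exact Set.smul_mem_smul_set (a := (⟨g.toEquiv, hmem⟩ : G)) hv
    rcases h W hinv with e | e
    · left
      intro x hx y hy
      have hx' : x ∈ W := (hWB x).mpr hx
      have hy' : y ∈ W := (hWB y).mpr hy
      rw [e, Submodule.mem_bot] at hx' hy'
      rw [hx', hy']
    · right
      rw [Set.eq_univ_iff_forall]
      intro x
      rw [← hWB, e]
      trivial

end Cfsg.Agent.S0733
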