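import Cfsg.Statements.S0734
import Cfsg.Agent.Lib.Perm.Basic

set_option autoImplicit false
open Cfsg

namespace Cfsg.Agent.S0734

/-- Higman's criterion for primitivity: a transitive action on a finite set is primitive if and only if every non-trivial orbital graph (edges = images of a fixed pair of distinct points) is connected. -/
theorem result {G : Type*} [Group G] {Ω : Type*} [Finite Ω] [MulAction G Ω] [MulAction.IsPretransitive G Ω] [Nontrivial Ω] : MulAction.IsPreprimitive G Ω ↔ ∀ a b : Ω, a ≠ b → (SimpleGraph.fromRel fun x y : Ω => ∃ g : G, g • a = x ∧ g • b = y).Connected := by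
  constructor
  · intro hP a b hab
    set Γ := SimpleGraph.fromRel fun x y : Ω => ∃ g : G, g • a = x ∧ g • b = y with hΓ
    have hadj : ∀ (g : G) (x y : Ω), Γ.Adj x y → Γ.Adj (g • x) (g • y) := by
      intro g x y h
      rw [hΓ, SimpleGraph.fromRel_adj] at h ⊢
      refine ⟨fun e => h.1 (MulAction.injective g e), ?_⟩
      rcases h.2 with ⟨m, h1, h2⟩ | ⟨m, h1, h2⟩
      · exact Or.inl ⟨g * m, by rw [mul_smul, h1], by rw [mul_smul, h2]⟩
      · exact Or.inr ⟨g * m, by rw [mul_smul, h1], by rw [mul_smul, h2]⟩
    let φ : ∀ g : G, Γ →g Γ := fun g => ⟨fun x => g • x, fun {x y} h => hadj g x y h⟩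
    have hr : ∀ (g : G) (x y : Ω), Γ.Reachable x y → Γ.Reachable (g • x) (g • y) := fun g x y h => h.map (φ g)
    let B : Set Ω := {x | Γ.Reachable a x}
    have hB : MulAction.IsBlock G B := by
      rw [MulAction.isBlock_iff_smul_eq_of_mem]
      intro g x hx hgx
      have hga : Γ.Reachable a (g • a) := hgx.trans (hr g a x hx).symm
      ext z
      rw [Set.mem_smul_set_iff_inv_smul_mem]
      constructor
      · intro hz
        have := hr g _ _ hz
        rw [smul_inv_smul] at this
        exact hga.trans this
      · intro hz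
        have := hr g⁻¹ _ _ (hga.symm.trans hz)
        rwa [inv_smul_smul] at this
    have hb : b ∈ B := SimpleGraph.Adj.reachable (by
      rw [hΓ, SimpleGraph.fromRel_adj]; exact ⟨hab, Or.inl ⟨1, one_smul _ _, one_smul _ _⟩⟩)
    rcases hB.subsingleton_or_eq_univ with h | h
    · exact absurd (h (SimpleGraph.Reachable.refl a) hb) hab
    · have hall : ∀ x, Γ.Reachable a x := fun x => Set.eq_univ_iff_forall.mp h x
      exact ⟨fun x y => (hall x).symm.trans (hall y)⟩
  · intro h
    refine ⟨fun {B} hB => ?_⟩
    rcases B.subsingleton_or_nontrivial with hs | ⟨a, ha, b, hb, hab⟩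
    · exact Or.inl hs
    · right
      have key : ∀ x y : Ω, (∃ g : G, g • a = x ∧ g • b = y) → (x ∈ B ↔ y ∈ B) := by
        rintro x y ⟨g, rfl, rfl⟩
        rw [MulAction.isBlock_iff_smul_eq_of_mem] at hB
        constructor
        · intro hx; rw [← hB (g := g) ha hx]; exact Set.smul_mem_smul_set hb
        · intro hx; rw [← hB (g := g) hb hx]; exact Set.smul_mem_smul_set ha
      rw [Set.eq_univ_iff_forall]
      intro x
      obtain ⟨w⟩ := (h a b hab).preconnected a x
      have : ∀ (u v : Ω), (SimpleGraph.fromRel fun x y : Ω => ∃ g : G, g • a = x ∧ g • b = y).Walk u v → u ∈ B → v ∈ B := by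
        intro u v w
        induction w with
        | nil => exact id
        | cons hadj _ ih =>
          intro hu
          rw [SimpleGraph.fromRel_adj] at hadj
          rcases hadj.2 with h | h
          · exact ih ((key _ _ h).mp hu)
          · exact ih ((key _ _ h).mpr hu)
      exact this a x w ha

end Cfsg.Agent.S0734
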