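import Cfsg.Statements.S0735
import Cfsg.Agent.Lib.Perm.Basic
import Mathlib.GroupTheory.Perm.Cycle.Type

set_option autoImplicit false
open Cfsg

namespace Cfsg.Agent.S0735

open scoped Pointwise

/-- A 2-homogeneous permutation group (transitive on 2-subsets) of even order is doubly transitive; a non-trivial 2-homogeneous group is primitive. -/
theorem result {α : Type*} [Fintype α] [DecidableEq α] (G : Subgroup (Equiv.Perm α)) (h2 : MulAction.IsPretransitive G (Set.powersetCard α 2)) (hα : 3 ≤ Fintype.card α) : (Even (Nat.card G) → MulAction.IsMultiplyPretransitive G α 2) ∧ (G ≠ ⊥ → MulAction.IsPreprimitive G α) := by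
  have hp : ∀ a b c d : α, a ≠ b → c ≠ d → ∃ g : G, (g • a = c ∧ g • b = d) ∨ (g • a = d ∧ g • b = c) := by
    intro a b c d hab hcd
    obtain ⟨g, hg⟩ := h2.exists_smul_eq ⟨{a, b}, Finset.card_pair hab⟩ ⟨{c, d}, Finset.card_pair hcd⟩
    refine ⟨g, ?_⟩
    have hg' : g • ({a, b} : Finset α) = {c, d} := by
      have := congrArg (fun C : Set.powersetCard α 2 => (C : Finset α)) hg
      exact this
    have ha : g • a ∈ ({c, d} : Finset α) := hg' ▸ Finset.smul_mem_smul_finset (by simp)
    have hb : g • b ∈ ({c, d} : Finset α) := hg' ▸ Finset.smul_mem_smul_finset (by simp)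
    have hne : g • a ≠ g • b := fun e => hab (MulAction.injective g e)
    simp only [Finset.mem_insert, Finset.mem_singleton] at ha hb
    rcases ha with ha | ha <;> rcases hb with hb | hb
    · exact absurd (ha.trans hb.symm) hne
    · exact Or.inl ⟨ha, hb⟩
    · exact Or.inr ⟨ha, hb⟩
    · exact absurd (ha.trans hb.symm) hne
  have third : ∀ a b : α, ∃ c : α, c ≠ a ∧ c ≠ b := by
    intro a b
    obtain ⟨c, -, hc⟩ := Finset.exists_mem_notMem_of_card_lt_card
      (s := ({a, b} : Finset α)) (t := Finset.univ) (by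
        have : ({a, b} : Finset α).card ≤ 2 := Finset.card_le_two
        rw [Finset.card_univ]; omega)
    simp only [Finset.mem_insert, Finset.mem_singleton, not_or] at hc
    exact ⟨c, hc⟩
  have htrans : MulAction.IsPretransitive G α := by
    constructor
    intro a b
    by_cases hab : a = b
    · exact ⟨1, by rw [hab, one_smul]⟩
    obtain ⟨c, hca, hcb⟩ := third a b
    obtain ⟨g, ⟨h1, -⟩ | ⟨h1, h1'⟩⟩ := hp a c b c (Ne.symm hca) (Ne.symm hcb)
    · exact ⟨g, h1⟩
    obtain ⟨m, ⟨h3, -⟩ | ⟨h3, -⟩⟩ := hp a b c b hab hcb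
    · obtain ⟨k, ⟨h5, -⟩ | ⟨-, h5⟩⟩ := hp c a b a hca (Ne.symm hab)
      · exact ⟨k * m, by rw [mul_smul, h3, h5]⟩
      · exact ⟨k, h5⟩
    · exact ⟨m, h3⟩
  refine ⟨fun heven => ?_, fun _ => ?_⟩
  · obtain ⟨t, ht⟩ := exists_prime_orderOf_dvd_card' (G := G) 2 heven.two_dvd
    have ht2 : t * t = 1 := by rw [← pow_two, ← ht]; exact pow_orderOf_eq_one t
    have ht1 : t ≠ 1 := fun e => by rw [e, orderOf_one] at ht; omega
    obtain ⟨u, hu⟩ : ∃ u : α, t • u ≠ u := by
      by_contra h
      push Not at h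
      exact ht1 (Subtype.ext (Equiv.ext h))
    have htu : t • t • u = u := by rw [← mul_smul, ht2, one_smul]
    rw [MulAction.is_two_pretransitive_iff]
    intro a b c d hab hcd
    obtain ⟨g, h | h⟩ := hp a b c d hab hcd
    · exact ⟨g, h⟩
    · obtain ⟨k, hk | hk⟩ := hp u (t • u) c d (Ne.symm hu) hcd
      · refine ⟨k * t * k⁻¹ * g, ?_, ?_⟩
        · rw [mul_smul, mul_smul, mul_smul, h.1, ← hk.2, inv_smul_smul, htu, hk.1]
        · rw [mul_smul, mul_smul, mul_smul, h.2, ← hk.1, inv_smul_smul, hk.2]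
      · refine ⟨k * t * k⁻¹ * g, ?_, ?_⟩
        · rw [mul_smul, mul_smul, mul_smul, h.1, ← hk.1, inv_smul_smul, hk.2]
        · rw [mul_smul, mul_smul, mul_smul, h.2, ← hk.2, inv_smul_smul, htu, hk.1]
  · refine ⟨fun {B} hB => ?_⟩
    rcases B.subsingleton_or_nontrivial with hs | ⟨a, ha, b, hb, hab⟩
    · exact Or.inl hs
    · right
      rw [Set.eq_univ_iff_forall]
      intro c
      by_contra hc
      have hac : a ≠ c := fun e => hc (e ▸ ha)
      rw [MulAction.isBlock_iff_smul_eq_of_mem] at hB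
      obtain ⟨g, ⟨h1, h1'⟩ | ⟨h1, h1'⟩⟩ := hp a b a c hab hac
      · have := hB (g := g) ha (by rw [h1]; exact ha)
        exact hc (by rw [← this, ← h1']; exact Set.smul_mem_smul_set hb)
      · have := hB (g := g) hb (by rw [h1']; exact ha)
        exact hc (by rw [← this, ← h1]; exact Set.smul_mem_smul_set ha)

end Cfsg.Agent.S0735
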