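import Cfsg.Statements.S0752
import Cfsg.Agent.Lib.Geom.SympSpace
import Cfsg.Agent.Lib.Geom.Symp
import Cfsg.Agent.Lib.Geom.PSpInvol

set_option autoImplicit false
open Cfsg

namespace Cfsg.Agent.S0752

/-- Classification of alternating forms: for an alternating bilinear form B on a finite-dimensional space over any field there is a basis indexed by (Fin m ⊕ Fin m) ⊕ Fin k such that B (e_i, f_j) = δ_ij, the e's are pairwise orthogonal, the f's are pairwise orthogonal, and the last k basis vectors are orthogonal to everything (they span the radical). -/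
theorem result {F V : Type*} [Field F] [AddCommGroup V] [Module F V] [FiniteDimensional F V] (B : LinearMap.BilinForm F V) (hA : B.IsAlt) : ∃ (m k : ℕ) (b : Module.Basis ((Fin m ⊕ Fin m) ⊕ Fin k) F V), (∀ i j : Fin m, B (b (Sum.inl (Sum.inl i))) (b (Sum.inl (Sum.inr j))) = if i = j then 1 else 0) ∧ (∀ i j : Fin m, B (b (Sum.inl (Sum.inl i))) (b (Sum.inl (Sum.inl j))) = 0) ∧ (∀ i j : Fin m, B (b (Sum.inl (Sum.inr i))) (b (Sum.inl (Sum.inr j))) = 0) ∧ (∀ (j : Fin k) (v : V), B (b (Sum.inr j)) v = 0) := by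
  classical
  set R := LinearMap.ker B with hR
  obtain ⟨W, hW⟩ := Submodule.exists_isCompl R
  have hA' : ∀ v, B v v = 0 := hA
  have hsep : ∀ x : W, (∀ y : W, B (x : V) (y : V) = 0) → x = 0 := by
    intro x hx
    have hxR : (x : V) ∈ R := by
      refine LinearMap.mem_ker.2 (LinearMap.ext fun z => ?_)
      obtain ⟨p, hp, q, hq, rfl⟩ := Submodule.mem_sup.1
        (show z ∈ R ⊔ W by rw [hW.sup_eq_top]; trivial)
      have hpz : B (x : V) p = 0 := by
        rw [CfsgLib.Geom.alt_neg_swap B hA' p (x : V), LinearMap.mem_ker.1 hp]; simp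
      simp [hpz, hx ⟨q, hq⟩]
    exact Subtype.ext ((Submodule.mem_bot F).1 (hW.disjoint.le_bot ⟨hxR, x.2⟩))
  obtain ⟨m, hm⟩ := CfsgLib.Geom.even_finrank_symp _ (B.compl₁₂ W.subtype W.subtype) (fun w => hA' w) hsep rfl
  obtain ⟨e, he⟩ := CfsgLib.Geom.exists_symp_isometry (2 * m) (CfsgLib.Geom.sympBilin m F) (B.compl₁₂ W.subtype W.subtype)
    CfsgLib.Geom.sympBilin_self CfsgLib.Geom.sympBilin_sep (fun w => hA' w) hsep (by simp; ring) (by omega)
  -- `sympForm` pairs `inr` with `inl` positively, so the two halves are exchanged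
  let c : Module.Basis (Fin m ⊕ Fin m) F W :=
    ((Pi.basisFun F (Fin m ⊕ Fin m)).map e).reindex (Equiv.sumComm (Fin m) (Fin m))
  let k := Module.finrank F R
  let b : Module.Basis ((Fin m ⊕ Fin m) ⊕ Fin k) F V :=
    (c.prod (Module.finBasis F R)).map (Submodule.prodEquivOfIsCompl W R hW.symm)
  have hb : ∀ s, b (Sum.inl s) = (c s : V) := fun s => by simp [b]
  have hc : ∀ s t, B (c s : V) (c t : V) =
      Cfsg.sympForm m F (Pi.single s.swap 1) (Pi.single t.swap 1) := fun s t => by
    rw [← CfsgLib.Geom.sympBilin_apply, ← he]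
    simp [c]
  refine ⟨m, k, b, fun i j => ?_, fun i j => ?_, fun i j => ?_, fun j v => ?_⟩
  · rw [hb, hb, hc, CfsgLib.Geom.sympForm_eq_sum]
    simp [Pi.single_apply, eq_comm]
  · rw [hb, hb, hc, CfsgLib.Geom.sympForm_eq_sum]
    simp [Pi.single_apply]
  · rw [hb, hb, hc, CfsgLib.Geom.sympForm_eq_sum]
    simp [Pi.single_apply]
  · have : b (Sum.inr j) ∈ R := by simp [b]
    rw [LinearMap.mem_ker.1 this]; rfl

end Cfsg.Agent.S0752
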