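import Cfsg.Statements.S0753

set_option autoImplicit false
open Cfsg

namespace Cfsg.Agent.S0753

/-- If σ is a ring endomorphism of the field F other than the identity and B is a σ-sesquilinear conjugate-symmetric form with B v v = 0 for every v, then B = 0. -/
theorem result {F V : Type*} [Field F] [AddCommGroup V] [Module F V] (σ : F →+* F) (hσ : σ ≠ RingHom.id F) (B : V →ₛₗ[σ] V →ₗ[F] F) (hS : B.IsSymm) (h0 : ∀ v : V, B v v = 0) : B = 0 := by
  have hadd : ∀ v w, B v w + B w v = 0 := fun v w => by
    have h := h0 (v + w)
    simp only [map_add, LinearMap.add_apply, h0] at h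
    linear_combination h
  refine LinearMap.ext fun v => LinearMap.ext fun w => ?_
  by_contra hne
  simp only [LinearMap.zero_apply] at hne
  have hneg : ∀ v w, σ (B v w) = -(B v w) := fun v w => by
    rw [hS.eq v w]
    linear_combination hadd v w
  apply hσ
  refine RingHom.ext fun a => ?_
  have h1 := hneg v (a • w)
  rw [map_smul, smul_eq_mul, map_mul, hneg v w] at h1
  simp only [RingHom.id_apply]
  refine mul_right_cancel₀ hne ?_
  linear_combination -h1

end Cfsg.Agent.S0753
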