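import Cfsg.Statements.S0754

set_option autoImplicit false
open Cfsg

namespace Cfsg.Agent.S0754

/-- In a field F with q^2 elements, every non-zero μ with μ^q = μ (that is, μ in the subfield of order q) has exactly q + 1 solutions λ of λ^(q+1) = μ. -/
theorem result {F : Type*} [Field F] [Fintype F] {q : ℕ} (hF : Fintype.card F = q ^ 2) (μ : F) (hμ : μ ≠ 0) (hμq : μ ^ q = μ) : Nat.card {x : F // x ^ (q + 1) = μ} = q + 1 := by
  classical
  have hq0 : q ≠ 0 := by
    rintro rfl
    simp at hF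
  have hq1 : q ≠ 1 := by
    rintro rfl
    have := Fintype.one_lt_card (α := F)
    omega
  have hq : 2 ≤ q := by omega
  have hcard : Nat.card Fˣ = q ^ 2 - 1 := by
    rw [Nat.card_eq_fintype_card, Fintype.card_units, hF]
  have hmul : (q + 1) * (q - 1) = q ^ 2 - 1 := by
    rw [← Nat.sq_sub_sq, one_pow]
  set u : Fˣ := Units.mk0 μ hμ with hu
  have hu1 : u ^ (q - 1) = 1 := by
    apply Units.ext
    simp only [hu, Units.val_pow_eq_pow_val, Units.val_mk0, Units.val_one]
    refine mul_right_cancel₀ hμ ?_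
    rw [one_mul, ← pow_succ, Nat.sub_add_cancel (by omega), hμq]
  let f : Fˣ →* Fˣ := powMonoidHom (q + 1)
  have hker : Nat.card f.ker = q + 1 := by
    rw [IsCyclic.card_powMonoidHom_ker, hcard, ← hmul, Nat.gcd_comm, Nat.gcd_eq_left (Dvd.intro _ rfl)]
  have hrange : Nat.card f.range = q - 1 := by
    rw [IsCyclic.card_powMonoidHom_range, hcard, ← hmul, Nat.gcd_comm,
      Nat.gcd_eq_left (Dvd.intro _ rfl), Nat.mul_div_cancel_left _ (by omega)]
  have hle : f.range ≤ (powMonoidHom (q - 1) : Fˣ →* Fˣ).ker := by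
    rintro _ ⟨x, rfl⟩
    show (x ^ (q + 1)) ^ (q - 1) = 1
    rw [← pow_mul, hmul, ← hcard]
    exact pow_card_eq_one'
  have hker' : Nat.card (powMonoidHom (q - 1) : Fˣ →* Fˣ).ker = q - 1 := by
    rw [IsCyclic.card_powMonoidHom_ker, hcard, ← hmul, Nat.gcd_comm,
      Nat.gcd_eq_left (Dvd.intro_left _ rfl)]
  have heq : f.range = (powMonoidHom (q - 1) : Fˣ →* Fˣ).ker :=
    Subgroup.eq_of_le_of_card_ge hle (by rw [hker', hrange])
  obtain ⟨x₀, hx₀⟩ : u ∈ f.range := by rw [heq]; exact hu1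
  have hx0 : (x₀ : F) ^ (q + 1) = μ := congrArg Units.val hx₀
  have hne : ∀ {x : F}, x ^ (q + 1) = μ → x ≠ 0 := by
    intro x hx h0
    rw [h0, zero_pow (Nat.succ_ne_zero q)] at hx
    exact hμ hx.symm
  refine Eq.trans ?_ hker
  exact Nat.card_congr
    { toFun := fun x => ⟨Units.mk0 (x.1 / x₀) (div_ne_zero (hne x.2) x₀.ne_zero), Units.ext (by
        show (x.1 / (x₀ : F)) ^ (q + 1) = 1
        rw [div_pow, x.2, hx0, div_self hμ])⟩
      invFun := fun y => ⟨(y.1 : F) * x₀, by
        have h1 : (y.1 : F) ^ (q + 1) = 1 := congrArg Units.val y.2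
        rw [mul_pow, h1, one_mul, hx0]⟩
      left_inv := fun x => Subtype.ext (by simp [div_mul_cancel₀])
      right_inv := fun y => Subtype.ext (Units.ext (by simp)) }

end Cfsg.Agent.S0754
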