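import Cfsg.Statements.S0756
import Cfsg.Agent.Lib.Geom.PlusType

set_option autoImplicit false
open Cfsg

namespace Cfsg.Agent.S0756

/-- Classification of symmetric bilinear forms over finite fields of odd characteristic: if B is non-degenerate symmetric on V of dimension n + 1 and α is a fixed non-square of F, there is an orthogonal basis b_0, ..., b_n with B(b_i, b_i) = 1 for i < n and B(b_n, b_n) ∈ {1, α}. -/
theorem result {F V : Type*} [Field F] [Finite F] [AddCommGroup V] [Module F V] [FiniteDimensional F V] (h2 : (2 : F) ≠ 0) (B : LinearMap.BilinForm F V) (hS : B.IsSymm) (hB : B.Nondegenerate) {n : ℕ} (hn : Module.finrank F V = n + 1) (α : F) (hα : ¬ IsSquare α) : ∃ b : Module.Basis (Fin (n + 1)) F V, (∀ i j, i ≠ j → B (b i) (b j) = 0) ∧ (∀ i, i ≠ Fin.last n → B (b i) (b i) = 1) ∧ (B (b (Fin.last n)) (b (Fin.last n)) = 1 ∨ B (b (Fin.last n)) (b (Fin.last n)) = α) := by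
  classical
  set Q := LinearMap.BilinMap.toQuadraticMap B with hQdef
  obtain ⟨b, d, hd, hb, hbv⟩ := CfsgLib.Geom.exists_normal_basis Q h2 (CfsgLib.Geom.sep_toQuadraticMap B hS h2 hB.1) hn
  have hperp : ∀ i j, i ≠ j → B (b i) (b j) = 0 := fun i j hij => by
    have h := hb i j hij
    rw [← QuadraticMap.polarBilin_apply_apply, hQdef, CfsgLib.Geom.polarBilin_toQuadraticMap B hS] at h
    simpa [h2] using h
  have hval : ∀ i, B (b i) (b i) = if i = Fin.last n then d else 1 := fun i => hbv i
  have hα0 : α ≠ 0 := fun h => hα ⟨0, by simp [h]⟩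
  obtain ⟨u, hu⟩ : ∃ u : Fˣ, (u : F) * u * d = 1 ∨ (u : F) * u * d = α := by
    by_cases hsq : IsSquare d
    · obtain ⟨r, hr⟩ := hsq
      have hr0 : r ≠ 0 := fun h => hd (by rw [hr, h, mul_zero])
      exact ⟨Units.mk0 r⁻¹ (inv_ne_zero hr0), Or.inl (by simp [hr]; field_simp)⟩
    · obtain ⟨r, hr⟩ := CfsgLib.Geom.isSquare_mul_of_not d α hsq hα
      have hr0 : r ≠ 0 := fun h => mul_ne_zero hd hα0 (by rw [hr, h, mul_zero])
      refine ⟨Units.mk0 (r / d) (div_ne_zero hr0 hd), Or.inr ?_⟩
      simp only [Units.val_mk0]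
      field_simp
      linear_combination -hr
  refine ⟨b.unitsSMul fun i => if i = Fin.last n then u else 1, fun i j hij => ?_, fun i hi => ?_, ?_⟩
  · rw [Module.Basis.unitsSMul_apply, Module.Basis.unitsSMul_apply]
    split_ifs <;> simp [Units.smul_def, hperp i j hij]
  · simp [Module.Basis.unitsSMul_apply, Units.smul_def, hval, hi]
  · simpa [Module.Basis.unitsSMul_apply, Units.smul_def, hval, mul_assoc] using hu

end Cfsg.Agent.S0756
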