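import Cfsg.Statements.S0757

set_option autoImplicit false
open Cfsg

namespace Cfsg.Agent.S0757

/-- The two diagonal forms Σ x_i^2 and Σ_(i<n) x_i^2 + α x_n^2 on F^(n+1), with α a non-square and 2 ≠ 0 in F, are inequivalent quadratic forms (so over a finite field of odd order there are exactly two classes of non-singular symmetric bilinear forms in each dimension). -/
theorem result {F : Type*} [Field F] (h2 : (2 : F) ≠ 0) (n : ℕ) (α : F) (hα : ¬ IsSquare α) : ¬ (QuadraticMap.weightedSumSquares F (fun _ : Fin (n + 1) => (1 : F))).Equivalent (QuadraticMap.weightedSumSquares F (fun i : Fin (n + 1) => if i = Fin.last n then α else (1 : F))) := by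
  classical
  rintro ⟨e⟩
  set w : Fin (n + 1) → F := fun i => if i = Fin.last n then α else 1 with hw
  let M : Matrix (Fin (n + 1)) (Fin (n + 1)) F :=
    LinearMap.toMatrix' (e.toLinearEquiv : (Fin (n + 1) → F) →ₗ[F] (Fin (n + 1) → F))
  have hv : ∀ v, ∑ i, w i * (M.mulVec v i * M.mulVec v i) = ∑ i, v i * v i := by
    intro v
    have h := e.map_app v
    simp only [QuadraticMap.weightedSumSquares_apply, smul_eq_mul, one_mul] at h
    simp only [M, LinearMap.toMatrix'_mulVec]
    exact h
  have hbil : ∀ u v, ∑ i, w i * (M.mulVec u i * M.mulVec v i) = ∑ i, u i * v i := by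
    intro u v
    have h1 := hv (u + v)
    simp only [Matrix.mulVec_add, Pi.add_apply, mul_add, add_mul, Finset.sum_add_distrib, hv] at h1
    have h2' : ∑ i, w i * (M.mulVec v i * M.mulVec u i) = ∑ i, w i * (M.mulVec u i * M.mulVec v i) :=
      Finset.sum_congr rfl fun i _ => by ring
    have h3 : ∑ i, v i * u i = ∑ i, u i * v i := Finset.sum_congr rfl fun i _ => by ring
    rw [h2', h3] at h1
    refine mul_left_cancel₀ h2 ?_
    linear_combination h1
  have hmat : M.transpose * Matrix.diagonal w * M = 1 := by
    ext i j
    have h1 := hbil (Pi.single i 1) (Pi.single j 1)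
    simp [Matrix.mulVec_single, Pi.single_apply] at h1
    rw [Matrix.mul_apply, Matrix.one_apply]
    simp only [Matrix.mul_diagonal, Matrix.transpose_apply]
    refine Eq.trans (Finset.sum_congr rfl fun k _ => ?_) (h1.trans (by simp [eq_comm]))
    ring
  have hdet := congrArg Matrix.det hmat
  rw [Matrix.det_mul, Matrix.det_mul, Matrix.det_transpose, Matrix.det_diagonal, Matrix.det_one] at hdet
  have hprod : ∏ i, w i = α := by
    rw [hw, Finset.prod_ite_eq' Finset.univ (Fin.last n) (fun _ => α)]
    simp
  rw [hprod] at hdet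
  have hM : M.det ≠ 0 := fun h => by simp [h] at hdet
  exact hα ⟨1 / M.det, by field_simp; linear_combination hdet⟩

end Cfsg.Agent.S0757
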