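import Cfsg.Statements.S0758

set_option autoImplicit false
open Cfsg

namespace Cfsg.Agent.S0758

/-- For a finite field F of odd order q and a non-square α: the form x² + y² is isotropic iff q ≡ 1 mod 4, and the form x² + α y² is isotropic iff q ≡ 3 mod 4. -/
theorem result {F : Type*} [Field F] [Fintype F] (h2 : (2 : F) ≠ 0) (α : F) (hα : ¬ IsSquare α) : ((∃ x y : F, (x ≠ 0 ∨ y ≠ 0) ∧ x ^ 2 + y ^ 2 = 0) ↔ Fintype.card F % 4 = 1) ∧ ((∃ x y : F, (x ≠ 0 ∨ y ≠ 0) ∧ x ^ 2 + α * y ^ 2 = 0) ↔ Fintype.card F % 4 = 3) := by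
  classical
  have hchar : ringChar F ≠ 2 := by
    intro h
    have h' : ((2 : ℕ) : F) = 0 := by rw [← h]; exact ringChar.Nat.cast_ringChar
    exact h2 (by exact_mod_cast h')
  have hodd : Fintype.card F % 2 = 1 := FiniteField.odd_card_of_char_ne_two hchar
  have hiff := FiniteField.isSquare_neg_one_iff (F := F)
  constructor
  · constructor
    · rintro ⟨x, y, hxy, he⟩
      have hy : y ≠ 0 := by
        rintro rfl
        simp at hxy he
        exact hxy he
      have : IsSquare (-1 : F) := ⟨x / y, by field_simp; linear_combination -he⟩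
      have := hiff.1 this
      omega
    · intro h4
      obtain ⟨i, hi⟩ := hiff.2 (by omega : Fintype.card F % 4 ≠ 3)
      exact ⟨i, 1, Or.inr one_ne_zero, by linear_combination -hi⟩
  · have hα0 : α ≠ 0 := fun h => hα ⟨0, by simp [h]⟩
    constructor
    · rintro ⟨x, y, hxy, he⟩
      have hy : y ≠ 0 := by
        rintro rfl
        simp at hxy he
        exact hxy he
      by_contra h3
      obtain ⟨i, hi⟩ := hiff.2 h3
      refine hα ⟨i * (x / y), ?_⟩
      field_simp
      linear_combination he + x ^ 2 * hi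
    · intro h3
      have hns : ¬ IsSquare (-1 : F) := fun hh => hiff.1 hh h3
      have hsq : IsSquare (-α) := by
        have h1 := quadraticChar_neg_one_iff_not_isSquare.2 hns
        have h2' := quadraticChar_neg_one_iff_not_isSquare.2 hα
        refine (quadraticChar_one_iff_isSquare (neg_ne_zero.2 hα0)).1 ?_
        rw [neg_eq_neg_one_mul α, map_mul, h1, h2']
        norm_num
      obtain ⟨r, hr⟩ := hsq
      exact ⟨r, 1, Or.inr one_ne_zero, by linear_combination -hr⟩

end Cfsg.Agent.S0758
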