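import Cfsg.Statements.S0759
import Cfsg.Agent.Lib.Geom.PlusType

set_option autoImplicit false
open Cfsg

namespace Cfsg.Agent.S0759

/-- Type of the orthonormal form: over a finite field of odd order q and for m ≥ 1, the quadratic form Σ_(i<2m) x_i² on F^(2m) admits an m-dimensional subspace on which it vanishes identically if and only if it is not the case that q ≡ 3 (mod 4) and m is odd. -/
theorem result {F : Type*} [Field F] [Fintype F] (h2 : (2 : F) ≠ 0) (m : ℕ) (hm : 1 ≤ m) : (∃ W : Submodule F (Fin (2 * m) → F), Module.finrank F W = m ∧ ∀ w ∈ W, ∑ i, w i ^ 2 = 0) ↔ ¬ (Fintype.card F % 4 = 3 ∧ Odd m) := by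
  classical
  set Q : QuadraticForm F (Fin (2 * m) → F) :=
    QuadraticMap.weightedSumSquares F (fun _ : Fin (2 * m) => (1 : F)) with hQ
  have happ : ∀ w, Q w = ∑ i, w i ^ 2 := fun w => by simp [hQ, sq]
  let b := Pi.basisFun F (Fin (2 * m))
  have hperp : ∀ i j, i ≠ j → QuadraticMap.polar Q (b i) (b j) = 0 := by
    intro i j hij
    simp only [QuadraticMap.polar, happ, ← Finset.sum_sub_distrib]
    refine Finset.sum_eq_zero fun k _ => ?_
    by_cases hk : k = i
    · simp [b, hk, hij]
    · simp [b, hk]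
  have hone : ∀ i, Q (b i) = 1 := fun i => by simp [happ, b, Pi.single_apply]
  have hdet : (LinearMap.toMatrix₂ b b Q.polarBilin).det = 2 ^ (2 * m) := by
    rw [CfsgLib.Geom.toMatrix₂_orth Q b hperp]
    simp [hone]
  have hsep : ∀ x, (∀ y, QuadraticMap.polar Q x y = 0) → x = 0 := by
    have hnd : LinearMap.Nondegenerate Q.polarBilin :=
      (LinearMap.nondegenerate_toMatrix₂_iff b b).1
        (Matrix.nondegenerate_iff_det_ne_zero.2 (hdet ▸ pow_ne_zero _ h2))
    exact fun x hx => hnd.1 x fun y => by simpa using hx y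
  have hsq : IsSquare ((-1 : F) ^ m * (LinearMap.toMatrix₂ b b Q.polarBilin).det) ↔
      IsSquare ((-1 : F) ^ m) := by
    rw [hdet, two_mul, pow_add]
    constructor
    · rintro ⟨r, hr⟩
      refine ⟨r / 2 ^ m, ?_⟩
      field_simp
      linear_combination hr
    · rintro ⟨r, hr⟩
      exact ⟨r * 2 ^ m, by rw [hr]; ring⟩
  have hm' : IsSquare ((-1 : F) ^ m) ↔ ¬ (Fintype.card F % 4 = 3 ∧ Odd m) := by
    rcases Nat.even_or_odd m with h | h
    · simp [h.neg_one_pow, Nat.not_odd_iff_even.2 h]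
    · rw [h.neg_one_pow, FiniteField.isSquare_neg_one_iff]
      simp [h]
  rw [← hm', ← hsq]
  constructor
  · rintro ⟨W, hW, hW0⟩
    exact CfsgLib.Geom.isSquare_of_totallySingular Q (by simp) W hW (fun w hw => by rw [happ]; exact hW0 w hw) b
  · intro h
    obtain ⟨W, hW, hW0⟩ := CfsgLib.Geom.exists_totallySingular Q h2 hsep (by simp) b h
    exact ⟨W, hW, fun w hw => by rw [← happ]; exact hW0 w hw⟩

end Cfsg.Agent.S0759
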