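import Cfsg.Statements.S0760
import Cfsg.Agent.Lib.Geom.WittQuad

set_option autoImplicit false
open Cfsg

namespace Cfsg.Agent.S0760

/-- Witt index is well defined: if Q is a quadratic form on a finite-dimensional space V over a finite field with non-degenerate polar form, and W₁, W₂ are subspaces on which Q vanishes that are maximal with this property, then W₁ and W₂ have the same dimension, and twice this dimension is at most dim V. -/
theorem result {F V : Type*} [Field F] [Finite F] [AddCommGroup V] [Module F V] [FiniteDimensional F V] (Q : QuadraticForm F V) (hQ : (QuadraticMap.polarBilin Q).Nondegenerate) (W₁ W₂ : Submodule F V) (h₁ : ∀ w ∈ W₁, Q w = 0) (h₂ : ∀ w ∈ W₂, Q w = 0) (hmax₁ : ∀ W : Submodule F V, W₁ ≤ W → (∀ w ∈ W, Q w = 0) → W = W₁) (hmax₂ : ∀ W : Submodule F V, W₂ ≤ W → (∀ w ∈ W, Q w = 0) → W = W₂) : Module.finrank F W₁ = Module.finrank F W₂ ∧ 2 * Module.finrank F W₁ ≤ Module.finrank F V := by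
  have hsep : ∀ x, (∀ y, QuadraticMap.polar Q x y = 0) → x = 0 := fun x hx =>
    hQ.1 x fun y => by simpa using hx y
  have key : ∀ W W' : Submodule F V, (∀ w ∈ W, Q w = 0) → (∀ w ∈ W', Q w = 0) →
      (∀ U : Submodule F V, W ≤ U → (∀ w ∈ U, Q w = 0) → U = W) →
      Module.finrank F W ≤ Module.finrank F W' → Module.finrank F W = Module.finrank F W' := by
    intro W W' hW hW' hmax hle
    obtain ⟨j, hj⟩ : ∃ j : W →ₗ[F] W', Function.Injective j :=
      ⟨(Module.finBasis F W).constr F fun i => Module.finBasis F W' (Fin.castLE hle i), by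
        rw [← LinearMap.ker_eq_bot]
        have hli := (Module.finBasis F W').linearIndependent.comp _ (Fin.castLE_injective hle)
        rw [Submodule.eq_bot_iff]
        intro x hx
        rw [LinearMap.mem_ker, Module.Basis.constr_apply_fintype] at hx
        have h0 := Fintype.linearIndependent_iff.1 hli _ hx
        exact (Module.finBasis F W).equivFun.injective (funext fun i => by simpa using h0 i)⟩
    obtain ⟨g, hg, hgW⟩ := CfsgLib.Geom.witt_quadratic Q hsep W (W'.subtype.comp j)
      (W'.injective_subtype.comp hj) (fun x => by rw [hW _ x.2]; exact hW' _ (j x).2)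
    have hU : W'.comap (g : V →ₗ[F] V) = W := by
      refine hmax _ (fun w hw => ?_) (fun w hw => ?_)
      · show g w ∈ W'
        rw [hgW ⟨w, hw⟩]
        exact (j ⟨w, hw⟩).2
      · rw [← hg w]; exact hW' _ hw
    rw [← hU, Submodule.comap_equiv_eq_map_symm]
    exact LinearEquiv.finrank_map_eq g.symm W'
  refine ⟨?_, ?_⟩
  · rcases le_total (Module.finrank F W₁) (Module.finrank F W₂) with h | h
    · exact key W₁ W₂ h₁ h₂ hmax₁ h
    · exact (key W₂ W₁ h₂ h₁ hmax₂ h).symm
  · have hsymm : LinearMap.IsRefl Q.polarBilin := fun a b h => by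
      simpa [QuadraticMap.polar_comm] using h
    have horth := LinearMap.BilinForm.finrank_orthogonal hQ W₁
    have hle : W₁ ≤ LinearMap.BilinForm.orthogonal Q.polarBilin W₁ := by
      intro w hw n hn
      show QuadraticMap.polar Q n w = 0
      simp [QuadraticMap.polar, h₁ _ hw, h₁ _ hn, h₁ _ (W₁.add_mem hn hw)]
    have h3 := Submodule.finrank_mono hle
    have h4 := Submodule.finrank_le W₁
    omega

end Cfsg.Agent.S0760
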