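import Cfsg.Statements.S0761
import Cfsg.Agent.Lib.Geom.Perp

set_option autoImplicit false
open Cfsg

namespace Cfsg.Agent.S0761

/-- Hyperbolic partners: let B be a non-degenerate bilinear form on a finite-dimensional space, either alternating, or symmetric with 2 ≠ 0. If Z is a subspace on which B vanishes, x ∉ Z is isotropic and orthogonal to Z, then there is an isotropic y with B x y = 1 which is orthogonal to Z. -/
theorem result {F V : Type*} [Field F] [AddCommGroup V] [Module F V] [FiniteDimensional F V] (B : LinearMap.BilinForm F V) (hB : B.Nondegenerate) (hform : B.IsAlt ∨ (B.IsSymm ∧ (2 : F) ≠ 0)) (x : V) (Z : Submodule F V) (hxZ : x ∉ Z) (hx : B x x = 0) (hxz : ∀ z ∈ Z, B x z = 0) (hZ : ∀ z ∈ Z, ∀ z' ∈ Z, B z z' = 0) : ∃ y : V, B y y = 0 ∧ B x y = 1 ∧ ∀ z ∈ Z, B z y = 0 := by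
  obtain ⟨y₀, hy₀Z, hy₀x⟩ := CfsgLib.Geom.exists_perp_pair B (fun u hu => hB.1 u hu) Z hxZ
  rcases hform with hA | ⟨hS, h2⟩
  · exact ⟨y₀, hA y₀, hy₀x, hy₀Z⟩
  · have hsw : B y₀ x = 1 := by rw [hS.eq, hy₀x]
    refine ⟨y₀ + (-(B y₀ y₀) / 2) • x, ?_, ?_, fun z hz => ?_⟩
    · simp only [map_add, map_smul, LinearMap.add_apply, LinearMap.smul_apply, smul_eq_mul, hx,
        hy₀x, hsw]
      field_simp
      ring
    · simp [hx, hy₀x]
    · have : B z x = 0 := by rw [hS.eq, hxz z hz]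
      simp [this, hy₀Z z hz]

end Cfsg.Agent.S0761
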