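import Cfsg.Statements.S0762

set_option autoImplicit false
open Cfsg

namespace Cfsg.Agent.S0762

/-- In characteristic two over a finite field, a quadratic form on a space of dimension at least 3 vanishes on some non-zero vector. -/
theorem result {F V : Type*} [Field F] [Finite F] [CharP F 2] [AddCommGroup V] [Module F V] [FiniteDimensional F V] (Q : QuadraticForm F V) (h3 : 3 ≤ Module.finrank F V) : ∃ v : V, v ≠ 0 ∧ Q v = 0 := by
  classical
  haveI : PerfectRing F 2 := PerfectRing.ofFiniteOfIsReduced 2 F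
  have hb : ∀ v : V, v ≠ 0 → Q v ≠ 0 → ∀ w ∈ LinearMap.ker (Q.polarBilin v), ∃ t : F, Q (w + t • v) = 0 := by
    intro v _ hv w hw
    obtain ⟨t, ht⟩ := surjective_frobenius F 2 (-(Q w) / Q v)
    refine ⟨t, ?_⟩
    have hwv : QuadraticMap.polar Q w v = 0 := by
      rw [QuadraticMap.polar_comm]; exact hw
    rw [QuadraticMap.map_add Q w (t • v), QuadraticMap.polar_smul_right, hwv, QuadraticMap.map_smul,
      smul_zero, add_zero, smul_eq_mul, ← pow_two, ← frobenius_def (R := F) (p := 2), ht, div_mul_cancel₀ _ hv]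
    ring
  by_contra hno
  push Not at hno
  haveI : Nontrivial V := Module.nontrivial_of_finrank_pos (R := F) (by omega)
  obtain ⟨v, hv⟩ : ∃ v : V, v ≠ 0 := exists_ne 0
  have hk := (Q.polarBilin v).finrank_range_add_finrank_ker
  have hr : Module.finrank F (LinearMap.range (Q.polarBilin v)) ≤ 1 :=
    (Submodule.finrank_le _).trans_eq (Module.finrank_self F)
  have hlt : Module.finrank F (F ∙ v) < Module.finrank F (LinearMap.ker (Q.polarBilin v)) := by
    rw [finrank_span_singleton hv]; omega
  obtain ⟨w, hw, hwv⟩ : ∃ w ∈ LinearMap.ker (Q.polarBilin v), w ∉ (F ∙ v) := by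
    by_contra hall
    push Not at hall
    exact absurd (Submodule.finrank_mono hall) (not_le.2 hlt)
  obtain ⟨t, ht⟩ := hb v hv (hno v hv) w hw
  refine hno _ (fun h0 => hwv ?_) ht
  rw [Submodule.mem_span_singleton]
  exact ⟨-t, by rw [neg_smul, neg_eq_iff_add_eq_zero, add_comm, h0]⟩

end Cfsg.Agent.S0762
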