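import Cfsg.Statements.S0763

set_option autoImplicit false
open Cfsg

namespace Cfsg.Agent.S0763

/-- Binary quadratic forms in characteristic two over a finite field: if Q is a quadratic form on a 2-dimensional space whose polar form is non-degenerate, then either there are vectors v, w with Q v = Q w = 0 and polar value 1 (Q is xy in these coordinates), or there are v, w and μ with Q v = 1, Q w = μ, polar value 1 and x² + x + μ without roots in F (Q is x² + xy + μy²). -/
theorem result {F V : Type*} [Field F] [Finite F] [CharP F 2] [AddCommGroup V] [Module F V] (Q : QuadraticForm F V) (h2 : Module.finrank F V = 2) (hQ : (QuadraticMap.polarBilin Q).Nondegenerate) : (∃ v w : V, LinearIndependent F ![v, w] ∧ Q v = 0 ∧ Q w = 0 ∧ QuadraticMap.polar Q v w = 1) ∨ (∃ (v w : V) (μ : F), LinearIndependent F ![v, w] ∧ (∀ x : F, x ^ 2 + x + μ ≠ 0) ∧ Q v = 1 ∧ Q w = μ ∧ QuadraticMap.polar Q v w = 1) := by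
  classical
  haveI : PerfectRing F 2 := PerfectRing.ofFiniteOfIsReduced 2 F
  haveI : FiniteDimensional F V := Module.finite_of_finrank_eq_succ h2
  have hself : ∀ x, QuadraticMap.polar Q x x = 0 := fun x => by
    rw [QuadraticMap.polar_self]
    simp [two_smul, CharTwo.add_self_eq_zero]
  have hex : ∀ v : V, v ≠ 0 → ∃ w, QuadraticMap.polar Q v w = 1 ∧ LinearIndependent F ![v, w] := by
    intro v hv
    obtain ⟨w, hw⟩ : ∃ w, QuadraticMap.polar Q v w ≠ 0 := by
      by_contra h
      push Not at h
      exact hv (hQ.1 v fun y => by simpa using h y)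
    have h1 : QuadraticMap.polar Q v ((QuadraticMap.polar Q v w)⁻¹ • w) = 1 := by
      simp [QuadraticMap.polar_smul_right, inv_mul_cancel₀ hw]
    refine ⟨_, h1, ?_⟩
    rw [LinearIndependent.pair_iff' hv]
    intro a h
    rw [← h, QuadraticMap.polar_smul_right, hself] at h1
    simp at h1
  have hexp : ∀ (a : F) (x y : V), Q (a • x + y) = a * a * Q x + Q y + a * QuadraticMap.polar Q x y := by
    intro a x y
    rw [QuadraticMap.map_add Q, QuadraticMap.map_smul, QuadraticMap.polar_smul_left]
    simp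
  by_cases hsing : ∃ v : V, v ≠ 0 ∧ Q v = 0
  · obtain ⟨v, hv, hQv⟩ := hsing
    obtain ⟨w, hw, hli⟩ := hex v hv
    left
    refine ⟨v, Q w • v + w, ?_, hQv, ?_, ?_⟩
    · rw [LinearIndependent.pair_iff] at hli ⊢
      intro s t h
      obtain ⟨h1, h2'⟩ := hli (s + t * Q w) t (by rw [← h, smul_add, smul_smul, add_smul]; abel)
      exact ⟨by simpa [h2'] using h1, h2'⟩
    · rw [hexp, hQv, hw]
      simp [CharTwo.add_self_eq_zero]
    · rw [QuadraticMap.polar_add_right, QuadraticMap.polar_smul_right, hself, hw]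
      simp
  · push Not at hsing
    right
    haveI : Nontrivial V := Module.nontrivial_of_finrank_pos (R := F) (by omega)
    obtain ⟨v₀, hv₀⟩ := exists_ne (0 : V)
    obtain ⟨r, hr⟩ := surjective_frobenius F 2 ((Q v₀)⁻¹)
    rw [frobenius_def] at hr
    have hr0 : r ≠ 0 := fun h => hsing v₀ hv₀ (by simpa [h] using hr.symm)
    have hv : r • v₀ ≠ 0 := smul_ne_zero hr0 hv₀
    have hQv : Q (r • v₀) = 1 := by
      rw [QuadraticMap.map_smul, smul_eq_mul, ← sq, hr, inv_mul_cancel₀ (hsing v₀ hv₀)]
    obtain ⟨w, hw, hli⟩ := hex _ hv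
    refine ⟨r • v₀, w, Q w, hli, fun x hx => ?_, hQv, rfl, hw⟩
    refine hsing (x • (r • v₀) + w) ?_ (by rw [hexp, hQv, hw]; linear_combination hx)
    intro h
    exact one_ne_zero ((LinearIndependent.pair_iff.1 hli x 1 (by rw [one_smul]; exact h)).2)

end Cfsg.Agent.S0763
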