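import Cfsg.Statements.S0766
import Cfsg.Agent.Lib.Geom.Symp

set_option autoImplicit false
open Cfsg

namespace Cfsg.Agent.S0766

/-- The subgroup generated by the symplectic transvections acts transitively on ordered pairs (u, v) with f(u, v) = 1. -/
theorem result {F : Type*} [Field F] (m : ℕ) (u v u' v' : Fin m ⊕ Fin m → F) (h : Cfsg.sympForm m F u v = 1) (h' : Cfsg.sympForm m F u' v' = 1) : ∃ A ∈ Subgroup.closure {A : Matrix.symplecticGroup (Fin m) F | ∃ (w : Fin m ⊕ Fin m → F) (c : F), (A : Matrix (Fin m ⊕ Fin m) (Fin m ⊕ Fin m) F) = Cfsg.sympTransvection m w c}, (A : Matrix (Fin m ⊕ Fin m) (Fin m ⊕ Fin m) F).mulVec u = u' ∧ (A : Matrix (Fin m ⊕ Fin m) (Fin m ⊕ Fin m) F).mulVec v = v' := by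
  have hB := @CfsgLib.Geom.sympBilin_apply F _ m
  have huv : CfsgLib.Geom.sympBilin m F u v = 1 := by rw [hB, h]
  have huv' : CfsgLib.Geom.sympBilin m F u' v' = 1 := by rw [hB, h']
  set B := CfsgLib.Geom.sympBilin m F with hBdef
  have hA : ∀ x, B x x = 0 := CfsgLib.Geom.sympBilin_self
  have hli : ∀ a b : Fin m ⊕ Fin m → F, B a b = 1 → LinearIndependent F ![a, b] := by
    intro a b hab
    rw [LinearIndependent.pair_iff]
    intro s t hst
    have h1 := congrArg (B a) hst
    have h2 := congrArg (fun z => B z b) hst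
    simp [hA, hab] at h1 h2
    exact ⟨h2, h1⟩
  set bX := Module.Basis.span (hli u v huv) with hbX
  set φ := bX.constr F ![u', v'] with hφdef
  have hval : ∀ i, (bX i : Fin m ⊕ Fin m → F) = ![u, v] i := fun i => by rw [hbX, Module.Basis.span_apply]
  have hφ : ∀ i, φ (bX i) = ![u', v'] i := fun i => by simp [hφdef]
  have hinj : Function.Injective φ := by
    rw [← LinearMap.ker_eq_bot, Submodule.eq_bot_iff]
    intro x hx
    rw [LinearMap.mem_ker, hφdef, Module.Basis.constr_apply_fintype] at hx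
    have h0 := Fintype.linearIndependent_iff.1 (hli u' v' huv') _ hx
    exact bX.equivFun.injective (funext fun i => by simpa using h0 i)
  have hpres : (B.compl₁₂ φ φ) =
      B.compl₁₂ (Submodule.subtype _) (Submodule.subtype _) := by
    refine bX.ext fun i => bX.ext fun j => ?_
    simp only [LinearMap.compl₁₂_apply, Submodule.subtype_apply, hval, hφ]
    have e1 := CfsgLib.Geom.alt_swap B hA u v
    have e2 := CfsgLib.Geom.alt_swap B hA u' v'
    fin_cases i <;> fin_cases j <;> simp [hA, huv, huv', e1, e2]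
  obtain ⟨g, -, hgB, hgX⟩ := CfsgLib.Geom.witt_alternating B hA CfsgLib.Geom.sympBilin_sep _ φ hinj
    (fun x x' => by
      have := LinearMap.congr_fun (LinearMap.congr_fun hpres x) x'
      simpa using this)
  refine ⟨CfsgLib.Geom.spEquiv m F ⟨g, hgB⟩, ?_, ?_, ?_⟩
  · rw [CfsgLib.Geom.closure_sympTransvection]; exact Subgroup.mem_top _
  · rw [CfsgLib.Geom.spEquiv_mulVec]
    have := hgX (bX 0)
    rw [hval, hφ] at this
    simpa using this
  · rw [CfsgLib.Geom.spEquiv_mulVec]
    have := hgX (bX 1)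
    rw [hval, hφ] at this
    simpa using this

end Cfsg.Agent.S0766
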