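import Cfsg.Statements.S0767
import Cfsg.Agent.Lib.Geom.Symp

set_option autoImplicit false
open Cfsg CfsgLib.Geom

namespace Cfsg.Agent.S0767

/-- The root group of a point: T_v(c) T_v(d) = T_v(c + d), and for A in the symplectic group with A v = a v, the conjugate A T_v(c) A⁻¹ is again some T_v(d). -/
theorem result {F : Type*} [Field F] (m : ℕ) (v : Fin m ⊕ Fin m → F) : (∀ c d : F, Cfsg.sympTransvection m v c * Cfsg.sympTransvection m v d = Cfsg.sympTransvection m v (c + d)) ∧ ∀ (A : Matrix (Fin m ⊕ Fin m) (Fin m ⊕ Fin m) F) (a : F), A ∈ Matrix.symplecticGroup (Fin m) F → A.mulVec v = a • v → ∀ c : F, ∃ d : F, A * Cfsg.sympTransvection m v c * A⁻¹ = Cfsg.sympTransvection m v d := by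

  refine ⟨fun c d => ?_, fun A a hA hAv c => ?_⟩
  · refine Matrix.toLin'.injective (LinearMap.ext fun x => ?_)
    simp only [Matrix.toLin'_apply, ← Matrix.mulVec_mulVec, sympTransvection_mulVec, map_add,
      map_smul, LinearMap.add_apply, LinearMap.smul_apply, sympBilin_self, smul_eq_mul, mul_zero,
      add_zero]
    rw [add_mul, add_smul]
    abel
  · have hAdet : IsUnit A.det := SymplecticGroup.symplectic_det hA
    refine ⟨c * a * a, Matrix.toLin'.injective (LinearMap.ext fun x => ?_)⟩
    simp only [Matrix.toLin'_apply, ← Matrix.mulVec_mulVec, sympTransvection_mulVec]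
    rw [Matrix.mulVec_add, Matrix.mulVec_smul, Matrix.mulVec_mulVec, Matrix.mul_nonsing_inv _ hAdet,
      Matrix.one_mulVec, hAv, smul_smul]
    congr 2
    have := (mem_symplecticGroup_iff_form A).1 hA (A⁻¹.mulVec x) v
    rw [hAv, Matrix.mulVec_mulVec, Matrix.mul_nonsing_inv _ hAdet, Matrix.one_mulVec,
      ← sympBilin_apply, ← sympBilin_apply, map_smul, smul_eq_mul] at this
    rw [← this]; ring

end Cfsg.Agent.S0767
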