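import Cfsg.Statements.S0768
import Cfsg.Agent.Lib.Geom.Symp
import Cfsg.Agent.Lib.Geom.WittSesq
import Cfsg.Agent.Lib.Classical.Preserving
-- import your own Cfsg.Agent.* helpers here

set_option autoImplicit false
open scoped LinearAlgebra.Projectivization
open Cfsg CfsgLib.Geom

namespace Cfsg.Agent.S0768

/-- Primitivity: for m ≥ 1 and F finite, the symplectic group of the form sympForm (as a subgroup of the general linear group) acts primitively on the projective space of F^(2m). -/
theorem result {F : Type*} [Field F] [Finite F] (m : ℕ) (hm : 1 ≤ m) : MulAction.IsPreprimitive ↥(Cfsg.spGL m F) (ℙ F (Fin m ⊕ Fin m → F)) := by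
  have hA : ∀ v, sympBilin m F v v = 0 := sympBilin_self
  have hB := sympBilin_sep (m := m) (F := F)
  have hswap : ∀ a b, sympBilin m F b a = 0 ↔ sympBilin m F a b = 0 := fun a b => by
    rw [sympBilin_swap, neg_eq_zero]
  have hlift : ∀ g : (Fin m ⊕ Fin m → F) ≃ₗ[F] (Fin m ⊕ Fin m → F),
      (∀ x y, sympBilin m F (g x) (g y) = sympBilin m F x y) →
      ∃ G : ↥(Cfsg.spGL m F), ∀ x : Fin m ⊕ Fin m → F, G • x = g x := by
    intro g hg
    have hx : ∀ x, ((CfsgLib.Classical.glLin.symm g : GL (Fin m ⊕ Fin m) F) :
        Matrix (Fin m ⊕ Fin m) (Fin m ⊕ Fin m) F).mulVec x = g x := fun x => by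
      rw [← CfsgLib.Classical.glLin_apply, MulEquiv.apply_symm_apply]
    refine ⟨⟨CfsgLib.Classical.glLin.symm g, fun x y => ?_⟩, hx⟩
    have := hg x y
    rw [← hx, ← hx, sympBilin_apply, sympBilin_apply] at this
    exact this
  have hsm : ∀ (G : ↥(Cfsg.spGL m F)) (x y : Fin m ⊕ Fin m → F) (hx : x ≠ 0) (hy : y ≠ 0), G • x = y →
      G • Projectivization.mk F x hx = Projectivization.mk F y hy := by
    intro G x y hx hy h
    subst h
    rfl
  -- transitivity on pairs of vectors with the same form value
  have htrans : ∀ a b c : Fin m ⊕ Fin m → F, LinearIndependent F ![a, b] → LinearIndependent F ![a, c] →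
      sympBilin m F a b = sympBilin m F a c → ∃ g : ↥(Cfsg.spGL m F), g • a = a ∧ g • b = c := by
    intro a b c hab hac h
    let e := Module.Basis.span hab
    let φ : Submodule.span F (Set.range ![a, b]) →ₗ[F] (Fin m ⊕ Fin m → F) := e.constr F ![a, c]
    have hφe : ∀ i, φ (e i) = ![a, c] i := fun i => e.constr_basis F _ i
    have hφ : Function.Injective φ := by
      rw [← LinearMap.ker_eq_bot, Submodule.eq_bot_iff]
      intro x hx
      refine e.ext_elem fun i => ?_
      rw [LinearMap.mem_ker, ← e.sum_repr x, map_sum] at hx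
      simp only [map_smul, hφe] at hx
      simp [Fintype.linearIndependent_iff.1 hac _ hx i]
    have hpres : ∀ x x', sympBilin m F (φ x) (φ x') = sympBilin m F x x' := by
      have hcf : (sympBilin m F).compl₁₂ φ φ = (sympBilin m F).compl₁₂ (Submodule.span F (Set.range ![a, b])).subtype
          (Submodule.span F (Set.range ![a, b])).subtype := by
        refine LinearMap.ext_basis e e fun i j => ?_
        rw [LinearMap.compl₁₂_apply, LinearMap.compl₁₂_apply, hφe, hφe, Submodule.subtype_apply, Submodule.subtype_apply]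
        simp only [e, Module.Basis.span_apply]
        fin_cases i <;> fin_cases j <;> simp [hA, h, sympBilin_swap a]
      exact fun x x' => LinearMap.congr_fun₂ hcf x x'
    obtain ⟨g, -, hg, hgx⟩ := witt_alternating (sympBilin m F) hA hB _ φ hφ hpres
    obtain ⟨G, hG⟩ := hlift g hg
    refine ⟨G, ?_, ?_⟩
    · rw [hG]
      have := hgx (e 0)
      rw [hφe] at this
      simpa [e, Module.Basis.span_apply] using this
    · rw [hG]
      have := hgx (e 1)
      rw [hφe] at this
      simpa [e, Module.Basis.span_apply] using this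
  have hpair : ∀ (a : Fin m ⊕ Fin m → F), a ≠ 0 → ∃ b, sympBilin m F a b = 1 := fun a ha => by
    obtain ⟨b, hb⟩ : ∃ b, sympBilin m F a b ≠ 0 := by
      by_contra h; push Not at h; exact ha (hB a h)
    exact ⟨(sympBilin m F a b)⁻¹ • b, by simp [hb]⟩
  -- transitivity on points
  have : MulAction.IsPretransitive (↥(Cfsg.spGL m F)) (ℙ F (Fin m ⊕ Fin m → F)) := by
    refine ⟨fun p r => ?_⟩
    induction p using Projectivization.ind with
    | h u hu =>
      induction r using Projectivization.ind with
      | h v hv =>
        let φ : (F ∙ u) →ₗ[F] (Fin m ⊕ Fin m → F) :=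
          (LinearMap.toSpanSingleton F _ v).comp (LinearEquiv.toSpanNonzeroSingleton F _ u hu).symm.toLinearMap
        have hφ : ∀ c, φ (LinearEquiv.toSpanNonzeroSingleton F _ u hu c) = c • v := fun c => by
          simp only [φ, LinearMap.comp_apply, LinearEquiv.coe_coe, LinearEquiv.symm_apply_apply, LinearMap.toSpanSingleton_apply]
        obtain ⟨g, -, hg, hgx⟩ := witt_alternating (sympBilin m F) hA hB _ φ
          ((show Function.Injective (LinearMap.toSpanSingleton F _ v) from smul_left_injective F hv).comp
            (LinearEquiv.injective _))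
          (fun x x' => by
            obtain ⟨c, rfl⟩ := (LinearEquiv.toSpanNonzeroSingleton F _ u hu).surjective x
            obtain ⟨c', rfl⟩ := (LinearEquiv.toSpanNonzeroSingleton F _ u hu).surjective x'
            rw [hφ, hφ]; simp [hA, LinearEquiv.toSpanNonzeroSingleton_apply])
        obtain ⟨G, hG⟩ := hlift g hg
        refine ⟨G, ?_⟩
        have hGu : G • u = v := by
          rw [hG]
          have := hgx (LinearEquiv.toSpanNonzeroSingleton F _ u hu 1)
          rw [hφ] at this
          simpa [LinearEquiv.toSpanNonzeroSingleton_apply] using this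
        exact hsm G u v hu hv hGu
  refine ⟨fun {Bs} hBs => ?_⟩
  rw [MulAction.IsTrivialBlock, or_iff_not_imp_left]
  intro hns
  rw [Set.not_subsingleton_iff] at hns
  obtain ⟨p, hp, r, hr, hpr⟩ := hns
  induction p using Projectivization.ind with
  | h u hu =>
  induction r using Projectivization.ind with
  | h v hv =>
  have hind : ∀ {a b : Fin m ⊕ Fin m → F} (ha : a ≠ 0) (hb : b ≠ 0),
      Projectivization.mk F a ha ≠ Projectivization.mk F b hb → LinearIndependent F ![a, b] := by
    intro a b ha hb h
    rw [LinearIndependent.pair_iff' ha]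
    intro c hc
    exact h ((Projectivization.mk_eq_mk_iff' F a b ha hb).2 ⟨c⁻¹, by
      have hc0 : c ≠ 0 := fun h0 => hb (by rw [← hc, h0, zero_smul])
      rw [← hc, inv_smul_smul₀ hc0]⟩)
  -- the block contains everything in the same relation to one of its members
  have step : ∀ a b (ha : a ≠ 0) (hb : b ≠ 0), Projectivization.mk F a ha ∈ Bs →
      Projectivization.mk F b hb ∈ Bs → Projectivization.mk F a ha ≠ Projectivization.mk F b hb →
      ∀ c (hc : c ≠ 0), Projectivization.mk F a ha ≠ Projectivization.mk F c hc →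
      (sympBilin m F a b = 0 ↔ sympBilin m F a c = 0) → Projectivization.mk F c hc ∈ Bs := by
    intro a b ha hb haB hbB hab c hc hac hrel
    obtain ⟨t, ht, htc⟩ : ∃ t : F, t ≠ 0 ∧ sympBilin m F a b = sympBilin m F a (t • c) := by
      by_cases h0 : sympBilin m F a b = 0
      · exact ⟨1, one_ne_zero, by rw [one_smul, h0, hrel.1 h0]⟩
      · have h1 : sympBilin m F a c ≠ 0 := fun h => h0 (hrel.2 h)
        exact ⟨sympBilin m F a b / sympBilin m F a c, div_ne_zero h0 h1, by
          rw [map_smul, smul_eq_mul, div_mul_cancel₀ _ h1]⟩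
    have htc0 : t • c ≠ 0 := smul_ne_zero ht hc
    have hmk : Projectivization.mk F (t • c) htc0 = Projectivization.mk F c hc :=
      (Projectivization.mk_eq_mk_iff' F _ _ _ _).2 ⟨t, rfl⟩
    obtain ⟨g, hga, hgb⟩ := htrans a b (t • c) (hind ha hb hab) (hind ha htc0 (by rw [hmk]; exact hac)) htc
    have hgA : g • Projectivization.mk F a ha = Projectivization.mk F a ha := by
      exact hsm g a a ha ha hga
    have hgB := hBs.smul_eq_of_mem haB (hgA.symm ▸ haB)
    rw [← hmk, ← hgB]
    exact ⟨_, hbB, hsm g b _ hb htc0 hgb⟩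
  refine Set.eq_univ_of_forall fun s => ?_
  induction s using Projectivization.ind with
  | h w hw =>
  by_cases hsu : Projectivization.mk F u hu = Projectivization.mk F w hw
  · rw [← hsu]; exact hp
  by_cases h0 : sympBilin m F u v = 0
  · by_cases h1 : sympBilin m F u w = 0
    · exact step u v hu hv hp hr hpr w hw hsu (by simp [h0, h1])
    obtain ⟨x, hxu, hxw, hxn⟩ : ∃ x, sympBilin m F u x = 0 ∧ sympBilin m F w x = 0 ∧ x ∉ F ∙ u := by
      by_contra hcon
      push Not at hcon
      have hle : LinearMap.ker (sympBilin m F u) ⊓ LinearMap.ker (sympBilin m F w) ≤ (F ∙ u : Submodule F _) :=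
        fun x hx => hcon x hx.1 hx.2
      have hv1 : v ∈ LinearMap.ker (sympBilin m F u) := h0
      have hvn : v ∉ (F ∙ u : Submodule F _) := fun h => by
        obtain ⟨c, hc⟩ := Submodule.mem_span_singleton.1 h
        exact hpr ((Projectivization.mk_eq_mk_iff' F _ _ _ _).2 ⟨c, hc⟩).symm
      -- the kernel of `B w` inside `u⊥` would be at most a line
      have hd1 := Module.Dual.finrank_ker_add_one_of_ne_zero (f := sympBilin m F u)
        (fun h => hu (hB u (fun y => LinearMap.congr_fun h y)))
      have hd2 := Module.Dual.finrank_ker_add_one_of_ne_zero (f := sympBilin m F w)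
        (fun h => hw (hB w (fun y => LinearMap.congr_fun h y)))
      have hd3 := Submodule.finrank_sup_add_finrank_inf_eq (LinearMap.ker (sympBilin m F u))
        (LinearMap.ker (sympBilin m F w))
      have hd4 := Submodule.finrank_le (LinearMap.ker (sympBilin m F u) ⊔ LinearMap.ker (sympBilin m F w))
      have hd5 : Module.finrank F (LinearMap.ker (sympBilin m F u) ⊓ LinearMap.ker (sympBilin m F w) : Submodule F _) ≤ 0 := by
        rw [Nat.le_zero, Submodule.finrank_eq_zero, Submodule.eq_bot_iff]
        intro x hx
        obtain ⟨c, rfl⟩ := Submodule.mem_span_singleton.1 (hle hx)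
        have := hx.2
        simp only [SetLike.mem_coe, LinearMap.mem_ker, map_smul, smul_eq_mul] at this
        rw [sympBilin_swap u w] at this
        have hc : c = 0 := by simpa [h1] using this
        rw [hc, zero_smul]
      have hd6 : 2 ≤ Module.finrank F (LinearMap.ker (sympBilin m F u)) := by
        have hsub : Submodule.span F {u} < LinearMap.ker (sympBilin m F u) := by
          refine lt_of_le_of_ne ((Submodule.span_singleton_le_iff_mem _ _).2 (hA u)) fun h => hvn ?_
          rw [h]; exact hv1
        have := Submodule.finrank_lt_finrank_of_lt hsub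
        rw [finrank_span_singleton hu] at this
        omega
      omega
    have hx0 : x ≠ 0 := fun h => hxn (h ▸ Submodule.zero_mem _)
    have hux : Projectivization.mk F u hu ≠ Projectivization.mk F x hx0 := fun h => by
      obtain ⟨c, hc⟩ := (Projectivization.mk_eq_mk_iff' F _ _ _ _).1 h.symm
      exact hxn (Submodule.mem_span_singleton.2 ⟨c, hc⟩)
    have hxB := step u v hu hv hp hr hpr x hx0 hux (by simp [h0, hxu])
    have hxw' : Projectivization.mk F x hx0 ≠ Projectivization.mk F w hw := fun h => h1 (by
      obtain ⟨c, rfl⟩ := (Projectivization.mk_eq_mk_iff' F _ _ _ _).1 h.symm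
      simp [hxu])
    exact step x u hx0 hu hxB hp hux.symm w hw hxw' (by simp [(hswap u x).2 hxu, (hswap w x).2 hxw])
  · obtain ⟨x, hxu, hxw⟩ : ∃ x, sympBilin m F u x ≠ 0 ∧ sympBilin m F w x ≠ 0 := by
      obtain ⟨a, ha⟩ := hpair u hu
      obtain ⟨b, hb⟩ := hpair w hw
      by_cases h2 : sympBilin m F w a = 0
      · by_cases h3 : sympBilin m F u b = 0
        · exact ⟨a + b, by simp [ha, h3], by simp [hb, h2]⟩
        · exact ⟨b, h3, by simp [hb]⟩
      · exact ⟨a, by simp [ha], h2⟩
    have hx0 : x ≠ 0 := fun h => hxu (by simp [h])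
    have hux : Projectivization.mk F u hu ≠ Projectivization.mk F x hx0 := fun h => by
      obtain ⟨c, rfl⟩ := (Projectivization.mk_eq_mk_iff' F _ _ _ _).1 h.symm
      simp [hA] at hxu
    have hxB := step u v hu hv hp hr hpr x hx0 hux (by simp [h0, hxu])
    have hxw' : Projectivization.mk F x hx0 ≠ Projectivization.mk F w hw := fun h => by
      obtain ⟨c, rfl⟩ := (Projectivization.mk_eq_mk_iff' F _ _ _ _).1 h
      simp [hA] at hxw
    exact step x u hx0 hu hxB hp hux.symm w hw hxw'
      (by constructor <;> intro h <;> [exact absurd ((hswap u x).1 h) hxu; exact absurd ((hswap w x).1 h) hxw])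
end Cfsg.Agent.S0768
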