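import Cfsg.Statements.S0769
-- import your own Cfsg.Agent.* helpers here

set_option autoImplicit false
open Cfsg

namespace Cfsg.Agent.S0769

/-- Order of the Borel subgroup of GL_n(q): the invertible lower-triangular n × n matrices over a field with q elements number q^(n(n-1)/2) (q-1)^n (unitriangular part times the diagonal torus). -/
theorem result {F : Type*} [Field F] [Fintype F] {q : ℕ} (hF : Fintype.card F = q) (n : ℕ) : Nat.card {g : Matrix.GeneralLinearGroup (Fin n) F // ∀ i j : Fin n, i < j → (g : Matrix (Fin n) (Fin n) F) i j = 0} = q ^ (n * (n - 1) / 2) * (q - 1) ^ n := by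
  classical
  let P := {ij : Fin n × Fin n // ij.2 < ij.1}
  let mk : (Fin n → Fˣ) × (P → F) → Matrix (Fin n) (Fin n) F := fun x i j =>
    if h : j < i then x.2 ⟨(i, j), h⟩ else if i = j then (x.1 i : F) else 0
  have hlow : ∀ x i j, i < j → mk x i j = 0 := fun x i j hij => by
    simp [mk, not_lt.2 hij.le, hij.ne]
  have hdetlow : ∀ M : Matrix (Fin n) (Fin n) F, (∀ i j : Fin n, i < j → M i j = 0) →
      M.det = ∏ i, M i i := fun M hM => Matrix.det_of_lowerTriangular M fun i j hij => hM i j (by simpa using hij)
  let f : {g : Matrix.GeneralLinearGroup (Fin n) F // ∀ i j : Fin n, i < j →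
      (g : Matrix (Fin n) (Fin n) F) i j = 0} ≃ (Fin n → Fˣ) × (P → F) :=
    { toFun := fun g => (fun i => Units.mk0 ((g.1 : Matrix (Fin n) (Fin n) F) i i) (by
          have h := g.1.det.ne_zero
          rw [Matrix.GeneralLinearGroup.val_det_apply, hdetlow _ g.2] at h
          exact Finset.prod_ne_zero_iff.1 h i (Finset.mem_univ i)),
        fun p => (g.1 : Matrix (Fin n) (Fin n) F) p.1.1 p.1.2)
      invFun := fun x => ⟨Matrix.GeneralLinearGroup.mkOfDetNeZero (mk x) (by
          rw [hdetlow _ (hlow x)]
          exact Finset.prod_ne_zero_iff.2 fun i _ => by simp [mk]), hlow x⟩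
      left_inv := fun g => by
        refine Subtype.ext (Units.ext (Matrix.ext fun i j => ?_))
        show mk _ i j = _
        rcases lt_trichotomy j i with h | h | h
        · simp [mk, h]
        · subst h; simp [mk]
        · rw [g.2 i j h, hlow _ i j h]
      right_inv := fun x => by
        refine Prod.ext (funext fun i => Units.ext ?_) (funext fun p => ?_)
        · show mk x i i = _
          simp [mk]
        · show mk x p.1.1 p.1.2 = _
          simp [mk, p.2] }
  have hP : Fintype.card P = n * (n - 1) / 2 := by
    rw [← Finset.sum_range_id, ← Fin.sum_univ_eq_sum_range (fun i => i)]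
    let g : P ≃ Σ i : Fin n, Fin (i : ℕ) :=
      { toFun := fun p => ⟨p.1.1, ⟨p.1.2, p.2⟩⟩
        invFun := fun s => ⟨(s.1, ⟨s.2, s.2.2.trans s.1.2⟩), s.2.2⟩
        left_inv := fun p => rfl
        right_inv := fun s => rfl }
    rw [Fintype.card_congr g, Fintype.card_sigma]
    simp
  rw [Nat.card_congr f, Nat.card_prod]
  simp only [Nat.card_eq_fintype_card, Fintype.card_pi_const, Fintype.card_units, Fintype.card_fun,
    Fintype.card_fin, hP, hF]
  ring
end Cfsg.Agent.S0769
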