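import Cfsg.Statements.S0770

set_option autoImplicit false
open Cfsg

namespace Cfsg.Agent.S0770

/-- For a field with at least 3 elements, an invertible matrix normalises the subgroup of invertible diagonal matrices of GL_n if and only if it is monomial (exactly one non-zero entry in each row). -/
theorem result {F : Type*} [Field F] (hF : ∃ a : F, a ≠ 0 ∧ a ≠ 1) (n : ℕ) (g : Matrix.GeneralLinearGroup (Fin n) F) : g ∈ Subgroup.normalizer ((Units.map (Matrix.diagonalRingHom (Fin n) F).toMonoidHom).range : Subgroup (Matrix.GeneralLinearGroup (Fin n) F)) ↔ ∀ i : Fin n, ∃! j : Fin n, (g : Matrix (Fin n) (Fin n) F) i j ≠ 0 := by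
  classical
  set D := (Units.map (Matrix.diagonalRingHom (Fin n) F).toMonoidHom).range with hD
  have hmemD : ∀ h : Matrix.GeneralLinearGroup (Fin n) F, h ∈ D ↔
      ∃ d : Fin n → F, (∀ i, d i ≠ 0) ∧ (h : Matrix (Fin n) (Fin n) F) = Matrix.diagonal d := by
    intro h
    constructor
    · rintro ⟨u, rfl⟩
      exact ⟨(u : Fin n → F), fun i => (IsUnit.map (Pi.evalMonoidHom (fun _ : Fin n => F) i) u.isUnit).ne_zero, rfl⟩
    · rintro ⟨d, hd, he⟩
      refine ⟨⟨d, d⁻¹, funext fun i => mul_inv_cancel₀ (hd i), funext fun i => inv_mul_cancel₀ (hd i)⟩,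
        Units.ext ?_⟩
      exact he.symm
  have hrow : ∀ i, ∃ j, (g : Matrix (Fin n) (Fin n) F) i j ≠ 0 := by
    intro i
    by_contra h
    push Not at h
    exact (Matrix.GeneralLinearGroup.det_ne_zero g) (Matrix.det_eq_zero_of_row_eq_zero i h)
  rw [Subgroup.mem_normalizer_iff]
  constructor
  · intro hg i
    obtain ⟨j, hj⟩ := hrow i
    refine ⟨j, hj, fun k hk => ?_⟩
    by_contra hkj
    obtain ⟨a, ha0, ha1⟩ := hF
    let d : Fin n → F := fun l => if l = j then a else 1
    have hd : ∀ l, d l ≠ 0 := fun l => by simp only [d]; split <;> simp [ha0]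
    let h : Matrix.GeneralLinearGroup (Fin n) F :=
      Units.map (Matrix.diagonalRingHom (Fin n) F).toMonoidHom
        ⟨d, d⁻¹, funext fun i => mul_inv_cancel₀ (hd i), funext fun i => inv_mul_cancel₀ (hd i)⟩
    obtain ⟨e, -, hee⟩ := (hmemD _).1 ((hg h).1 ⟨_, rfl⟩)
    have hcomm : (g : Matrix (Fin n) (Fin n) F) * Matrix.diagonal d =
        Matrix.diagonal e * (g : Matrix (Fin n) (Fin n) F) := by
      rw [← hee, ← Units.val_mul, inv_mul_cancel_right]; rfl
    have e1 := congrFun (congrFun hcomm i) j
    have e2 := congrFun (congrFun hcomm i) k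
    rw [Matrix.mul_diagonal, Matrix.diagonal_mul] at e1 e2
    simp only [d, if_pos, if_neg hkj] at e1 e2
    have h1 : e i = a := mul_right_cancel₀ hj (by rw [← e1]; ring)
    have h2 : e i = 1 := mul_right_cancel₀ hk (by rw [← e2]; ring)
    exact ha1 (h1.symm.trans h2)
  · intro hmono
    choose π hπ hπu using hmono
    have hzero : ∀ i j, j ≠ π i → (g : Matrix (Fin n) (Fin n) F) i j = 0 := fun i j h =>
      not_not.1 fun hne => h (hπu i j hne)
    have hsurj : Function.Surjective π := by
      intro j
      by_contra h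
      push Not at h
      exact (Matrix.GeneralLinearGroup.det_ne_zero g)
        (Matrix.det_eq_zero_of_column_eq_zero j fun i => hzero i j (Ne.symm (h i)))
    let P := Equiv.ofBijective π ((Finite.surjective_iff_bijective).1 hsurj)
    have key : ∀ d : Fin n → F, (g : Matrix (Fin n) (Fin n) F) * Matrix.diagonal d =
        Matrix.diagonal (d ∘ π) * (g : Matrix (Fin n) (Fin n) F) := by
      intro d
      ext i j
      rw [Matrix.mul_diagonal, Matrix.diagonal_mul, Function.comp_apply]
      by_cases h : j = π i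
      · rw [h, mul_comm]
      · rw [hzero i j h, zero_mul, mul_zero]
    intro h
    rw [hmemD, hmemD]
    constructor
    · rintro ⟨d, hd, he⟩
      refine ⟨d ∘ π, fun i => hd _, ?_⟩
      rw [Units.val_mul, Units.val_mul, he, key, mul_assoc, ← Units.val_mul, mul_inv_cancel,
        Units.val_one, mul_one]
    · rintro ⟨d, hd, he⟩
      refine ⟨d ∘ P.symm, fun i => hd _, ?_⟩
      have h1 : (g : Matrix (Fin n) (Fin n) F) * (h : Matrix (Fin n) (Fin n) F) =
          Matrix.diagonal d * (g : Matrix (Fin n) (Fin n) F) := by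
        rw [← he, ← Units.val_mul, ← Units.val_mul, inv_mul_cancel_right]
      have h2 := key (d ∘ P.symm)
      rw [show (d ∘ P.symm) ∘ π = d from funext fun i => congrArg d (P.symm_apply_apply i)] at h2
      exact (Units.mul_right_inj g).1 (h1.trans h2.symm)

end Cfsg.Agent.S0770
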