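import Cfsg.Statements.S0771
import Cfsg.Agent.Lib.Geom.Parabolic
-- import your own Cfsg.Agent.* helpers here

set_option autoImplicit false
open Cfsg CfsgLib.Geom

namespace Cfsg.Agent.S0771

/-- Maximal parabolic of GL_n(q): the stabiliser of the coordinate subspace spanned by the first k basis vectors has order q^(k(n-k)) · |GL_k(q)| · |GL_(n-k)(q)| (unipotent radical of order q^(k(n-k)) and Levi complement GL_k × GL_(n-k)). -/
theorem result {F : Type*} [Field F] [Fintype F] {q : ℕ} (hF : Fintype.card F = q) (n k : ℕ) (hk : k ≤ n) : Nat.card ↥(Cfsg.stabilizing (Cfsg.glToMat (Fin n) F) {v : Fin n → F | ∀ i : Fin n, k ≤ (i : ℕ) → v i = 0}) = q ^ (k * (n - k)) * (∏ i : Fin k, (q ^ k - q ^ (i : ℕ))) * ∏ i : Fin (n - k), (q ^ (n - k) - q ^ (i : ℕ)) := by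
  classical
  obtain ⟨m, rfl⟩ : ∃ m, n = k + m := ⟨n - k, by omega⟩
  rw [Nat.add_sub_cancel_left]
  rw [← hF]
  let e : Fin k ⊕ Fin m ≃ Fin (k + m) := finSumFinEquiv
  have hel : ∀ a : Fin k, ((e (Sum.inl a) : Fin (k + m)) : ℕ) = a := fun a => rfl
  have her : ∀ a : Fin m, ((e (Sum.inr a) : Fin (k + m)) : ℕ) = k + a := fun a => rfl
  let B : GL (Fin (k + m)) F → Matrix (Fin k ⊕ Fin m) (Fin k ⊕ Fin m) F :=
    fun g => (g : Matrix (Fin (k + m)) (Fin (k + m)) F).submatrix e e
  have hB21 : ∀ g : GL (Fin (k + m)) F, g ∈ parab F (k + m) k ↔ (B g).toBlocks₂₁ = 0 := by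
    intro g
    rw [mem_parab]
    constructor
    · intro h
      ext a b
      exact h _ _ (by rw [her]; omega) (by rw [hel]; omega)
    · intro h i j hi hj
      obtain ⟨i, rfl⟩ := e.surjective i
      obtain ⟨j, rfl⟩ := e.surjective j
      rcases i with a | a
      · rw [hel] at hi; omega
      rcases j with b | b
      · exact congrFun (congrFun h a) b
      · rw [her] at hj; omega
  have hdet : ∀ g : parab F (k + m) k, (B g.1).toBlocks₁₁.det * (B g.1).toBlocks₂₂.det ≠ 0 := by
    intro g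
    rw [← Matrix.det_fromBlocks_zero₂₁ (B g.1).toBlocks₁₁ (B g.1).toBlocks₁₂, ← (hB21 g.1).1 g.2,
      Matrix.fromBlocks_toBlocks, Matrix.det_submatrix_equiv_self]
    simpa using g.1.det.ne_zero
  let f : parab F (k + m) k ≃ GL (Fin k) F × GL (Fin m) F × Matrix (Fin k) (Fin m) F :=
    { toFun := fun g => (Matrix.GeneralLinearGroup.mkOfDetNeZero _ (left_ne_zero_of_mul (hdet g)),
        Matrix.GeneralLinearGroup.mkOfDetNeZero _ (right_ne_zero_of_mul (hdet g)), (B g.1).toBlocks₁₂)
      invFun := fun x => ⟨Matrix.GeneralLinearGroup.mkOfDetNeZero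
          ((Matrix.fromBlocks (x.1 : Matrix (Fin k) (Fin k) F) x.2.2 0
            (x.2.1 : Matrix (Fin m) (Fin m) F)).submatrix e.symm e.symm) (by
          rw [Matrix.det_submatrix_equiv_self, Matrix.det_fromBlocks_zero₂₁]
          exact mul_ne_zero (by simpa using x.1.det.ne_zero) (by simpa using x.2.1.det.ne_zero)),
        (hB21 _).2 (by ext a b; simp [B, Matrix.GeneralLinearGroup.mkOfDetNeZero, Matrix.toBlocks₂₁])⟩
      left_inv := fun g => by
        refine Subtype.ext (Units.ext ?_)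
        have h := (hB21 g.1).1 g.2
        show (Matrix.fromBlocks (B g.1).toBlocks₁₁ (B g.1).toBlocks₁₂ 0 (B g.1).toBlocks₂₂).submatrix
          e.symm e.symm = _
        rw [← h, Matrix.fromBlocks_toBlocks]
        simp [B, Matrix.submatrix_submatrix]
      right_inv := fun x => by
        refine Prod.ext (Units.ext ?_) (Prod.ext (Units.ext ?_) ?_) <;>
          · ext a b
            simp [B, Matrix.GeneralLinearGroup.mkOfDetNeZero, Matrix.toBlocks₁₁, Matrix.toBlocks₁₂,
              Matrix.toBlocks₂₂] }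
  rw [show Nat.card ↥(parab F (k + m) k) = _ from Nat.card_congr f, Nat.card_prod, Nat.card_prod, Matrix.card_GL_field, Matrix.card_GL_field]
  simp [Nat.card_eq_fintype_card (α := Matrix (Fin k) (Fin m) F), Matrix, Fintype.card_pi, ← pow_mul,
    mul_comm m k]
  ring
end Cfsg.Agent.S0771
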