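import Cfsg.Statements.S0773
import Cfsg.Agent.Lib.Geom.Parabolic
-- import your own Cfsg.Agent.* helpers here

set_option autoImplicit false
open Cfsg CfsgLib.Geom

namespace Cfsg.Agent.S0773

/-- The stabilisers in GL_n(F), F finite, of the coordinate subspaces of dimensions k and n − k are isomorphic groups, but when 2k ≠ n (and 0 < k < n) no element of GL_n conjugates one onto the other. -/
theorem result {F : Type*} [Field F] [Finite F] (n k : ℕ) (hk0 : 0 < k) (hkn : k < n) (h2 : 2 * k ≠ n) : Nonempty (↥(Cfsg.stabilizing (Cfsg.glToMat (Fin n) F) {v : Fin n → F | ∀ i : Fin n, k ≤ (i : ℕ) → v i = 0}) ≃* ↥(Cfsg.stabilizing (Cfsg.glToMat (Fin n) F) {v : Fin n → F | ∀ i : Fin n, n - k ≤ (i : ℕ) → v i = 0})) ∧ ∀ g : Matrix.GeneralLinearGroup (Fin n) F, (Cfsg.stabilizing (Cfsg.glToMat (Fin n) F) {v : Fin n → F | ∀ i : Fin n, k ≤ (i : ℕ) → v i = 0}).map (MulAut.conj g).toMonoidHom ≠ Cfsg.stabilizing (Cfsg.glToMat (Fin n) F) {v : Fin n → F | ∀ i : Fin n, n - k ≤ (i : ℕ)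 → v i = 0} := by
  refine ⟨⟨((revInvTr F n).subgroupMap _).trans (MulEquiv.subgroupCongr ?_)⟩, fun g hg => h2 ?_⟩
  · ext x
    obtain ⟨y, rfl⟩ := (revInvTr F n).surjective x
    refine ⟨?_, fun hx => ⟨y, (revInvTr_mem_parab hkn.le y).1 hx, rfl⟩⟩
    rintro ⟨z, hz, he⟩
    obtain rfl : z = y := (revInvTr F n).injective he
    exact (revInvTr_mem_parab hkn.le z).2 hz
  · let T : Submodule F (Fin n → F) :=
      (coordSub F n k).map (Matrix.mulVecLin (g : Matrix (Fin n) (Fin n) F))
    have hd : Module.finrank F T = k := by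
      rw [← LinearEquiv.finrank_eq (Submodule.equivMapOfInjective _
        (show Function.Injective (Matrix.mulVecLin (g : Matrix (Fin n) (Fin n) F)) from
          Matrix.mulVec_injective_of_isUnit g.isUnit) _), finrank_coordSub hkn.le]
    have hT : ∀ p ∈ parab F n (n - k), ∀ v ∈ T, (p : Matrix (Fin n) (Fin n) F).mulVec v ∈ T := by
      intro p hp v hv
      obtain ⟨w, hw, rfl⟩ := hv
      rw [parab, ← hg] at hp
      obtain ⟨r, hr, rfl⟩ := hp
      refine ⟨(r : Matrix (Fin n) (Fin n) F).mulVec w, (hr w).1 hw, ?_⟩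
      simp [Matrix.mulVec_mulVec, mul_assoc]
    rcases eq_of_parab_invariant hT with h | h | h
    · rw [h, finrank_bot] at hd; omega
    · rw [h, finrank_coordSub (Nat.sub_le n k)] at hd; omega
    · rw [h, finrank_top] at hd; simp at hd; omega
end Cfsg.Agent.S0773
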