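import Cfsg.Statements.S0774
import Cfsg.Agent.Lib.Geom.IsoStabSymp
import Cfsg.Agent.Lib.Geom.StabEquiv
import Cfsg.Agent.Lib.Classical.Preserving
import Cfsg.Agent.S0769
-- import your own Cfsg.Agent.* helpers here

set_option autoImplicit false
open Cfsg CfsgLib.Geom

namespace Cfsg.Agent.S0774

/-- Borel subgroup of the symplectic group: the elements of Sp_2m(q) stabilising each of the totally isotropic coordinate subspaces ⟨e_0, ..., e_k⟩ (k < m) form a subgroup of order q^(m²) (q − 1)^m. -/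
theorem result {F : Type*} [Field F] [Fintype F] {q : ℕ} (hF : Fintype.card F = q) (m : ℕ) : Nat.card ↥(⨅ k : Fin m, Cfsg.stabilizing (Cfsg.spToMat m F) {v : Fin m ⊕ Fin m → F | (∀ i : Fin m, (k : ℕ) < (i : ℕ) → v (Sum.inl i) = 0) ∧ ∀ i : Fin m, v (Sum.inr i) = 0}) = q ^ (m ^ 2) * (q - 1) ^ m := by
  classical
  subst hF
  let ι : (Fin m → F) →ₗ[F] (Fin m ⊕ Fin m → F) :=
    { toFun := fun a => Sum.elim a 0
      map_add' := fun a b => funext fun i => by rcases i with i | i <;> simp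
      map_smul' := fun c a => funext fun i => by rcases i with i | i <;> simp }
  have hιi : Function.Injective ι := fun a b h => funext fun i => congrFun h (Sum.inl i)
  set W : Submodule F (Fin m ⊕ Fin m → F) := LinearMap.range ι with hWdef
  have hWmem : ∀ v : (Fin m ⊕ Fin m → F), v ∈ W ↔ ∀ i, v (Sum.inr i) = 0 := by
    intro v
    constructor
    · rintro ⟨a, rfl⟩ i; rfl
    · exact fun h => ⟨fun i => v (Sum.inl i), funext fun i => by rcases i with i | i <;> simp [ι, h]⟩
  have hiso : ∀ u ∈ W, ∀ v ∈ W, sympBilin m F u v = 0 := by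
    intro u hu v hv
    rw [sympBilin_apply, sympForm_eq_sum]
    exact Finset.sum_eq_zero fun i _ => by simp [(hWmem u).1 hu i, (hWmem v).1 hv i]
  let eW : (Fin m → F) ≃ₗ[F] W := LinearEquiv.ofInjective ι hιi
  let tri : (W ≃ₗ[F] W) → Prop := fun h =>
    ∀ i j : Fin m, j < i → (eW.symm (h (eW (Pi.single j 1)))) i = 0
  let P : isomStab (sympBilin m F) W → Prop := fun g =>
    ∀ i j : Fin m, j < i → (g.1 (ι (Pi.single j 1))) (Sum.inl i) = 0
  obtain ⟨E, hE⟩ := nonempty_spStabEquiv m W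
  have hB := sympBilin_sep (m := m) (F := F)
  have hw := hasWittExt_alt (sympBilin m F) sympBilin_self hB
  let res : isomStab (sympBilin m F) W → (W ≃ₗ[F] W) := fun g => LinearEquiv.ofSubmodules g.1 W W (le_antisymm
    (Submodule.map_le_iff_le_comap.2 fun y hy => (g.2.2 y).1 hy)
    (fun y hy => ⟨g.1.symm y, (g.2.2 _).2 (by simpa using hy), g.1.apply_symm_apply y⟩))
  have hres : ∀ g (x : W), (res g x : (Fin m ⊕ Fin m → F)) = g.1 x := fun g x => rfl
  have hsec : ∀ h : W ≃ₗ[F] W, ∃ g : isomStab (sympBilin m F) W, res g = h := by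
    intro h
    obtain ⟨g, hg, hgW⟩ := hw W (W.subtype.comp h.toLinearMap) (W.injective_subtype.comp h.injective)
      (fun x x' => by
        show sympBilin m F (h x : (Fin m ⊕ Fin m → F)) (h x' : (Fin m ⊕ Fin m → F)) = _
        rw [hiso _ (h x).2 _ (h x').2, hiso _ x.2 _ x'.2])
    refine ⟨⟨g, hg, fun v => ⟨fun hv => ?_, fun hv => ?_⟩⟩, LinearEquiv.ext fun x => Subtype.ext (hgW x)⟩
    · rw [hgW ⟨v, hv⟩]; exact (h ⟨v, hv⟩).2
    · obtain ⟨x, hx⟩ := h.surjective ⟨_, hv⟩
      have : v = x := g.injective (by rw [hgW x]; exact (congrArg Subtype.val hx).symm)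
      rw [this]; exact x.2
  choose sec hsec using hsec
  have hPtri : ∀ g, P g ↔ tri (res g) := by
    intro g
    refine forall₃_congr fun i j _ => ?_
    have hco : ∀ w : W, (eW.symm w) i = (w : (Fin m ⊕ Fin m → F)) (Sum.inl i) := fun w => by
      conv_rhs => rw [← eW.apply_symm_apply w]
      rfl
    rw [hco, hres]
    exact Iff.rfl
  have hfix : ∀ g : isomStab (sympBilin m F) W,
      g.1 ∈ CfsgLib.Classical.fixingIn (formIsoms (sympBilin m F)) W ↔ res g = LinearEquiv.refl F W := fun g =>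
    ⟨fun h => LinearEquiv.ext fun x => Subtype.ext (h.2 x x.2), fun h => ⟨g.2.1, fun w hw =>
      congrArg Subtype.val (LinearEquiv.congr_fun h (⟨w, hw⟩ : W))⟩⟩
  have hmul : ∀ a b, res (a * b) = (res b).trans (res a) := fun a b => rfl
  have h1 : Nat.card {g : isomStab (sympBilin m F) W // P g} =
      Nat.card {h : W ≃ₗ[F] W // tri h} *
        Nat.card (CfsgLib.Classical.fixingIn (formIsoms (sympBilin m F)) W) := by
    rw [← Nat.card_prod]
    have hS : ∀ f : CfsgLib.Classical.fixingIn (formIsoms (sympBilin m F)) W,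
        f.1 ∈ isomStab (sympBilin m F) W := fun f => ⟨f.2.1, fun v =>
      ⟨fun hv => by rw [f.2.2 v hv]; exact hv, fun hv => by
        have := f.1.injective (f.2.2 _ hv); rwa [this] at hv⟩⟩
    refine Nat.card_congr
      { toFun := fun g => (⟨res g.1, (hPtri g.1).1 g.2⟩, ⟨((sec (res g.1))⁻¹ * g.1).1, (hfix _).2 ?_⟩)
        invFun := fun p => ⟨sec p.1.1 * ⟨p.2.1, hS p.2⟩, (hPtri _).2 ?_⟩
        left_inv := fun g => Subtype.ext (Subtype.ext (by simp))
        right_inv := fun p => ?_ }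
    · refine LinearEquiv.ext fun x => Subtype.ext ?_
      show (sec (res g.1))⁻¹.1 (g.1.1 (x : (Fin m ⊕ Fin m → F))) = (x : (Fin m ⊕ Fin m → F))
      have : g.1.1 (x : (Fin m ⊕ Fin m → F)) = (sec (res g.1)).1 (x : (Fin m ⊕ Fin m → F)) := by rw [← hres, ← hres, hsec]
      rw [this]
      exact (sec (res g.1)).1.symm_apply_apply _
    · rw [hmul, hsec, (hfix ⟨p.2.1, hS p.2⟩).1 p.2.2, LinearEquiv.refl_trans]
      exact p.1.2
    · have h2 : res (sec p.1.1 * ⟨p.2.1, hS p.2⟩) = p.1.1 := by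
        rw [hmul, hsec, (hfix ⟨p.2.1, hS p.2⟩).1 p.2.2, LinearEquiv.refl_trans]
      refine Prod.ext (Subtype.ext h2) (Subtype.ext ?_)
      show ((sec (res (sec p.1.1 * ⟨p.2.1, hS p.2⟩)))⁻¹ * (sec p.1.1 * ⟨p.2.1, hS p.2⟩)).1 = p.2.1
      rw [h2, inv_mul_cancel_left]
  let tr : GL (Fin m) F → GL (Fin m) F := fun g => ⟨(g : Matrix (Fin m) (Fin m) F).transpose,
    ((g⁻¹ : GL (Fin m) F) : Matrix (Fin m) (Fin m) F).transpose,
    by rw [← Matrix.transpose_mul, g.inv_mul, Matrix.transpose_one],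
    by rw [← Matrix.transpose_mul, g.mul_inv, Matrix.transpose_one]⟩
  let cj : (W ≃ₗ[F] W) ≃ GL (Fin m) F :=
    ({ toFun := fun h => (eW.trans h).trans eW.symm
       invFun := fun h => (eW.symm.trans h).trans eW
       left_inv := fun h => LinearEquiv.ext fun x => by simp
       right_inv := fun h => LinearEquiv.ext fun x => by simp } :
      (W ≃ₗ[F] W) ≃ ((Fin m → F) ≃ₗ[F] (Fin m → F))).trans
      (CfsgLib.Classical.glLin (ι := Fin m) (F := F)).symm.toEquiv
  have hcj : ∀ h (i j : Fin m), (cj h : Matrix (Fin m) (Fin m) F) i j = eW.symm (h (eW (Pi.single j 1))) i := by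
    intro h i j
    have hh : ∀ v, (cj h : Matrix (Fin m) (Fin m) F).mulVec v = eW.symm (h (eW v)) := fun v => by
      rw [← CfsgLib.Classical.glLin_apply]
      simp [cj]
    rw [← hh]
    simp
  let etr : {h : W ≃ₗ[F] W // tri h} ≃ {g : GL (Fin m) F // ∀ i j : Fin m, i < j →
      (g : Matrix (Fin m) (Fin m) F) i j = 0} :=
    (cj.trans { toFun := tr, invFun := tr, left_inv := fun g => Units.ext rfl,
                right_inv := fun g => Units.ext rfl }).subtypeEquiv fun h => by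
      show (∀ i j : Fin m, j < i → _) ↔ ∀ i j : Fin m, i < j → (cj h : Matrix (Fin m) (Fin m) F) j i = 0
      exact ⟨fun H i j hij => by rw [hcj]; exact H j i hij, fun H i j hij => by rw [← hcj]; exact H j i hij⟩
  have hcol : ∀ (g : isomStab (sympBilin m F) W) (i : Fin m ⊕ Fin m) (j : Fin m),
      (E g : Matrix.symplecticGroup (Fin m) F).1 i (Sum.inl j) =
        ((E g : Matrix.symplecticGroup (Fin m) F).1.mulVec (ι (Pi.single j 1))) i := by
    intro g i j
    rw [show ι (Pi.single j 1) = Pi.single (Sum.inl j) 1 from funext fun a => by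
      rcases a with a | a <;> simp [ι, Pi.single_apply], Matrix.mulVec_single_one]
    rfl
  have hmem : ∀ g : Matrix.symplecticGroup (Fin m) F,
      g ∈ (⨅ k : Fin m, Cfsg.stabilizing (Cfsg.spToMat m F) {v : Fin m ⊕ Fin m → F |
        (∀ i : Fin m, (k : ℕ) < (i : ℕ) → v (Sum.inl i) = 0) ∧ ∀ i : Fin m, v (Sum.inr i) = 0}) ↔
      g ∈ Cfsg.stabilizing (Cfsg.spToMat m F) (W : Set (Fin m ⊕ Fin m → F)) ∧
        ∀ i j : Fin m, j < i → g.1 (Sum.inl i) (Sum.inl j) = 0 := by
    intro g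
    rw [Subgroup.mem_iInf]
    have hginj : Function.Injective g.1.mulVec := Matrix.mulVec_injective_of_isUnit
      ((Matrix.isUnit_iff_isUnit_det _).2 (SymplecticGroup.symplectic_det g.2))
    have hclosed : ∀ S : Set (Fin m ⊕ Fin m → F), (∀ v ∈ S, g.1.mulVec v ∈ S) → g ∈ Cfsg.stabilizing (Cfsg.spToMat m F) S := by
      intro S hS v
      refine ⟨fun hv => hS v hv, fun hv => ?_⟩
      let L : S → S := fun x => ⟨_, hS x x.2⟩
      obtain ⟨w, hw⟩ := (Finite.injective_iff_surjective (f := L)).1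
        (fun a b h => Subtype.ext (hginj (congrArg Subtype.val h))) ⟨_, hv⟩
      rw [← hginj (congrArg Subtype.val hw)]
      exact w.2
    have hsum : ∀ (v : (Fin m ⊕ Fin m → F)) (a : Fin m ⊕ Fin m), (∀ i : Fin m, v (Sum.inr i) = 0) →
        g.1.mulVec v a = ∑ j : Fin m, g.1 a (Sum.inl j) * v (Sum.inl j) := fun v a hv => by
      simp [Matrix.mulVec, dotProduct, Fintype.sum_sum_type, hv]
    constructor
    · intro h
      have hc : ∀ j : Fin m, (∀ i : Fin m, (j : ℕ) < (i : ℕ) → g.1 (Sum.inl i) (Sum.inl j) = 0) ∧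
          ∀ i : Fin m, g.1 (Sum.inr i) (Sum.inl j) = 0 := by
        intro j
        have := ((h j) (Pi.single (Sum.inl j) 1)).1 ⟨fun i hi => by
          simp [Pi.single_apply, show i ≠ j by rintro rfl; omega], fun i => by simp [Pi.single_apply]⟩
        simpa using this
      refine ⟨hclosed _ fun v hv => (hWmem _).2 fun i => ?_, fun i j hij => (hc j).1 i hij⟩
      rw [hsum v _ ((hWmem v).1 hv)]
      simp [(hc _).2]
    · rintro ⟨hW', htri⟩ k
      refine hclosed _ fun v hv => ?_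
      have hv' : g.1.mulVec v ∈ W := (hW' v).1 ((hWmem v).2 hv.2)
      refine ⟨fun i hi => ?_, (hWmem _).1 hv'⟩
      rw [hsum v _ hv.2]
      refine Finset.sum_eq_zero fun j _ => ?_
      by_cases hjk : (k : ℕ) < (j : ℕ)
      · rw [hv.1 j hjk, mul_zero]
      · rw [htri i j (show (j : ℕ) < (i : ℕ) by omega), zero_mul]
  have h2 : Nat.card ↥(⨅ k : Fin m, Cfsg.stabilizing (Cfsg.spToMat m F) {v : Fin m ⊕ Fin m → F |
        (∀ i : Fin m, (k : ℕ) < (i : ℕ) → v (Sum.inl i) = 0) ∧ ∀ i : Fin m, v (Sum.inr i) = 0}) =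
      Nat.card {g : Cfsg.stabilizing (Cfsg.spToMat m F) (W : Set (Fin m ⊕ Fin m → F)) //
        ∀ i j : Fin m, j < i → g.1.1 (Sum.inl i) (Sum.inl j) = 0} := by
    exact Nat.card_congr ((Equiv.subtypeEquivRight hmem).trans
      (Equiv.subtypeSubtypeEquivSubtypeInter _ _).symm)
  rw [h2]
  have hEv : ∀ (g : isomStab (sympBilin m F) W) v,
      (E g : Matrix.symplecticGroup (Fin m) F).1.mulVec v = g.1 v := hE
  rw [← Nat.card_congr (E.toEquiv.subtypeEquiv (p := P) fun g => forall₃_congr fun i j _ => by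
    rw [MulEquiv.toEquiv_eq_coe, EquivLike.coe_coe, hcol, hEv]), h1, Nat.card_congr etr,
    Cfsg.Agent.S0769.result rfl m]
  have hWk : Module.finrank F W = m := by rw [← eW.finrank_eq]; simp
  have h3 := card_isomStab_symp m m le_rfl W hWk hiso
  rw [card_isomStab (σ := RingHom.id F) (sympBilin m F) hw W hiso, card_linearEquiv hWk] at h3
  have h4 := Nat.eq_of_mul_eq_mul_left (Finset.prod_pos fun i _ => Nat.sub_pos_of_lt
    (Nat.pow_lt_pow_right Fintype.one_lt_card i.2)) h3
  rw [h4]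
  have h5 := sum_range_sub_aux (2 * m - m) m (by omega)
  rw [show 2 * m - m = m by omega] at h5 ⊢
  have h6 : m * (m - 1) / 2 + ∑ i ∈ Finset.range m, (m - i) = m ^ 2 := by
    have h7 : m * (m - 1) / 2 * 2 = m * (m - 1) := Nat.div_mul_cancel (Nat.even_mul_pred_self m).two_dvd
    have h8 : m * (m - 1) + m = m * m := by cases m with | zero => simp | succ n => simp; ring
    nlinarith
  simp only [Nat.sub_self, Finset.range_zero, Finset.prod_empty]
  rw [show (0 : ℕ) ^ 2 = 0 from rfl, pow_zero, ← h6, pow_add]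
  ring
end Cfsg.Agent.S0774
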