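import Cfsg.Statements.S0775
import Cfsg.Agent.Lib.Geom.IsoStabSymp
import Cfsg.Agent.Lib.Geom.StabEquiv
-- import your own Cfsg.Agent.* helpers here

set_option autoImplicit false
open Cfsg CfsgLib.Geom

namespace Cfsg.Agent.S0775

/-- Maximal parabolics of the symplectic group: if W is a k-dimensional subspace of F^(2m) on which the symplectic form vanishes identically, its stabiliser in Sp_2m(q) has order q^(k(k+1)/2 + 2k(m−k)) · |Sp_(2m−2k)(q)| · |GL_k(q)|. -/
theorem result {F : Type*} [Field F] [Fintype F] {q : ℕ} (hF : Fintype.card F = q) (m k : ℕ) (hk : k ≤ m) (W : Submodule F (Fin m ⊕ Fin m → F)) (hWk : Module.finrank F W = k) (hW : ∀ u ∈ W, ∀ v ∈ W, Cfsg.sympForm m F u v = 0) : Nat.card ↥(Cfsg.stabilizing (Cfsg.spToMat m F) (W : Set (Fin m ⊕ Fin m → F))) = q ^ (k * (k + 1) / 2 + 2 * k * (m - k)) * (q ^ ((m - k) ^ 2) * ∏ i ∈ Finset.range (m - k), (q ^ (2 * (i + 1)) - 1)) * ∏ i : Fin k, (q ^ k - q ^ (i : ℕ)) := by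
  subst hF
  obtain ⟨E, -⟩ := nonempty_spStabEquiv m W
  rw [← Nat.card_congr E.toEquiv, card_isomStab_symp m k hk W hWk (fun u hu v hv => by
    rw [sympBilin_apply]; exact hW u hu v hv)]
  have h1 := sum_range_sub_aux (2 * m - k) k (by omega)
  have he : ∑ i ∈ Finset.range k, (2 * m - k - i) = k * (k + 1) / 2 + 2 * k * (m - k) := by
    obtain ⟨d, rfl⟩ : ∃ d, m = k + d := ⟨m - k, by omega⟩
    rw [Nat.add_sub_cancel_left]
    rw [show 2 * (k + d) - k = k + 2 * d by omega] at h1 ⊢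
    have h2 : k * (k + 1) / 2 * 2 = k * (k + 1) := Nat.div_mul_cancel (Nat.even_mul_succ_self k).two_dvd
    nlinarith
  rw [he]
  ring
end Cfsg.Agent.S0775
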