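import Cfsg.Statements.S0776
import Cfsg.Agent.Lib.Geom.SplitStab
import Cfsg.Agent.Lib.Geom.Symp
import Cfsg.Agent.Lib.Geom.SympSpace
-- import your own Cfsg.Agent.* helpers here

set_option autoImplicit false
open Cfsg CfsgLib.Geom

namespace Cfsg.Agent.S0776

/-- If W ≤ F^(2m) is a 2k-dimensional subspace on which the symplectic form is non-degenerate, then the stabiliser of W in Sp_2m(F) is isomorphic to Sp_2k(F) × Sp_(2m−2k)(F). -/
theorem result {F : Type*} [Field F] (m k : ℕ) (hk : k ≤ m) (W : Submodule F (Fin m ⊕ Fin m → F)) (hWk : Module.finrank F W = 2 * k) (hW : ∀ u ∈ W, (∀ v ∈ W, Cfsg.sympForm m F u v = 0) → u = 0) : Nonempty (↥(Cfsg.stabilizing (Cfsg.spToMat m F) (W : Set (Fin m ⊕ Fin m → F))) ≃* Matrix.symplecticGroup (Fin k) F × Matrix.symplecticGroup (Fin (m - k)) F) := by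
  have hA : ∀ v, sympBilin m F v v = 0 := sympBilin_self
  have hR : ∀ x y, sympBilin m F x y = 0 → sympBilin m F y x = 0 := fun x y h => by
    rw [sympBilin_swap, h, neg_zero]
  obtain ⟨W', hc, h1⟩ := exists_perp_compl (sympBilin m F) hR W (fun u hu h => hW u hu fun v hv => by
    rw [← sympBilin_apply]; exact h v hv)
  have h2 : ∀ y ∈ W', ∀ w ∈ W, sympBilin m F y w = 0 := fun y hy w hw => hR _ _ ((h1 y).1 hy w hw)
  obtain ⟨E⟩ := nonempty_isomStab_equiv (sympBilin m F) hc h1 h2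
  have hsepW : ∀ x : W, (∀ y : W, sympBilin m F (x : _) (y : _) = 0) → x = 0 := fun x hx =>
    Subtype.ext (hW x x.2 fun v hv => by rw [← sympBilin_apply]; exact hx ⟨v, hv⟩)
  have hsepW' : ∀ x : W', (∀ y : W', sympBilin m F (x : _) (y : _) = 0) → x = 0 := fun x hx =>
    Subtype.ext (sympBilin_sep _ fun z => by
      obtain ⟨w, hw, y, hy, rfl⟩ := Submodule.mem_sup.1
        (show z ∈ W ⊔ W' by rw [hc.sup_eq_top]; trivial)
      rw [map_add, h2 _ x.2 w hw, zero_add]; exact hx ⟨y, hy⟩)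
  have hdim := Submodule.finrank_add_eq_of_isCompl hc
  have hn : Module.finrank F (Fin m ⊕ Fin m → F) = m + m := by simp
  obtain ⟨e₁, he₁⟩ := exists_symp_isometry (2 * k) (CfsgLib.Classical.restrictSesq (sympBilin m F) W)
    (sympBilin k F) (fun v => hA v) hsepW sympBilin_self sympBilin_sep hWk (by simp; omega)
  obtain ⟨e₂, he₂⟩ := exists_symp_isometry (2 * (m - k))
    (CfsgLib.Classical.restrictSesq (sympBilin m F) W') (sympBilin (m - k) F) (fun v => hA v) hsepW'
    sympBilin_self sympBilin_sep (by omega) (by simp; omega)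
  have hmap : (isomStab (sympBilin m F) W).subgroupOf (formIsoms (sympBilin m F)) =
      (Cfsg.stabilizing (Cfsg.spToMat m F) (W : Set (Fin m ⊕ Fin m → F))).comap
        (spEquiv m F).toMonoidHom := by
    ext g
    show (g.1 ∈ formIsoms _ ∧ ∀ v, v ∈ W ↔ g.1 v ∈ W) ↔ ∀ v, v ∈ (W : Set (Fin m ⊕ Fin m → F)) ↔
      (spEquiv m F g : Matrix (Fin m ⊕ Fin m) (Fin m ⊕ Fin m) F).mulVec v ∈ (W : Set _)
    simp only [spEquiv_mulVec, SetLike.mem_coe]
    exact ⟨fun h => h.2, fun h => ⟨g.2, h⟩⟩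
  refine ⟨((Subgroup.subgroupOfEquivOfLe
      (show isomStab (sympBilin m F) W ≤ formIsoms (sympBilin m F) from fun g hg => hg.1)).symm.trans
    ((MulEquiv.subgroupCongr hmap).trans (((spEquiv m F).subgroupMap _).trans (MulEquiv.subgroupCongr
      (Subgroup.map_comap_eq_self_of_surjective (spEquiv m F).surjective _))))).symm.trans
    (E.trans (MulEquiv.prodCongr ((formIsomsCongr _ _ e₁ he₁).trans (spEquiv k F))
      ((formIsomsCongr _ _ e₂ he₂).trans (spEquiv (m - k) F))))⟩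
end Cfsg.Agent.S0776
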