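import Cfsg.Statements.S0777
import Cfsg.Agent.Lib.Geom.Symp
-- import your own Cfsg.Agent.* helpers here

set_option autoImplicit false
open Cfsg CfsgLib.Geom

namespace Cfsg.Agent.S0777

/-- Weyl group of type C_m: for q ≥ 4 the diagonal matrices of Sp_2m(q) form a torus T ≅ (C_(q−1))^m (the elements stabilising every coordinate axis), and the normaliser of T in Sp_2m(q) has order 2^m · m! · (q − 1)^m. -/
theorem result {F : Type*} [Field F] [Fintype F] {q : ℕ} (hF : Fintype.card F = q) (hq : 4 ≤ q) (m : ℕ) : Nat.card ↥(Subgroup.normalizer (⨅ i : Fin m ⊕ Fin m, Cfsg.stabilizing (Cfsg.spToMat m F) ((Submodule.span F {(Pi.single i (1 : F) : Fin m ⊕ Fin m → F)} : Submodule F (Fin m ⊕ Fin m → F)) : Set (Fin m ⊕ Fin m → F)) : Set (Matrix.symplecticGroup (Fin m) F))) = 2 ^ m * Nat.factorial m * (q - 1) ^ m := by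
  classical
  subst hF
  set e : Fin m ⊕ Fin m → (Fin m ⊕ Fin m → F) := fun i => Pi.single i 1 with he
  set T : Subgroup (Matrix.symplecticGroup (Fin m) F) := ⨅ i : Fin m ⊕ Fin m, Cfsg.stabilizing (Cfsg.spToMat m F)
    ((Submodule.span F {e i} : Submodule F (Fin m ⊕ Fin m → F)) : Set (Fin m ⊕ Fin m → F)) with hT
  let sgn : Fin m ⊕ Fin m → F := Sum.elim (fun _ => -1) (fun _ => 1)
  have hsgn : ∀ i, sgn i ≠ 0 := by rintro (i | i) <;> simp [sgn]
  have hBe : ∀ a b, sympBilin m F (e a) (e b) = if b = Sum.swap a then sgn a else 0 := by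
    rintro (a | a) (b | b) <;>
      simp [he, sgn, sympBilin_apply, sympForm_eq_sum, Pi.single_apply] <;> split_ifs <;> simp_all
  let pos : Fin m → Bool → Fin m ⊕ Fin m := fun i b => if b then Sum.inr i else Sum.inl i
  have hposswap : ∀ i b, Sum.swap (pos i b) = pos i (!b) := by intro i b; cases b <;> simp [pos]
  have hposinj : ∀ i b i' b', pos i b = pos i' b' → i = i' ∧ b = b' := by
    intro i b i' b' h; cases b <;> cases b' <;> simp [pos] at h ⊢ <;> exact h
  let X := Equiv.Perm (Fin m) × (Fin m → Bool) × (Fin m → Fˣ)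
  let dd : X → Fin m → F := fun x i => (if x.2.1 i then -1 else 1) * ((x.2.2 i : F))⁻¹
  let img : X → Fin m ⊕ Fin m → Fin m ⊕ Fin m := fun x =>
    Sum.elim (fun i => pos (x.1 i) (x.2.1 i)) (fun i => pos (x.1 i) (!x.2.1 i))
  let coef : X → Fin m ⊕ Fin m → F := fun x => Sum.elim (fun i => (x.2.2 i : F)) (dd x)
  have hcoef : ∀ x j, coef x j ≠ 0 := by
    rintro x (i | i)
    · exact (x.2.2 i).ne_zero
    · simp only [coef, Sum.elim_inr, dd]
      split <;> simp
  let Mx : X → Matrix (Fin m ⊕ Fin m) (Fin m ⊕ Fin m) F := fun x =>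
    Matrix.of fun r j => coef x j * (e (img x j)) r
  have hMe : ∀ x j, (Mx x).mulVec (e j) = coef x j • e (img x j) := fun x j => by
    ext r; simp [Mx, he, Pi.single_apply]
  have hinjimg : ∀ x, Function.Injective (img x) := by
    rintro x (i | i) (i' | i') h <;> simp only [img, Sum.elim_inl, Sum.elim_inr] at h <;>
      obtain ⟨h1, h2⟩ := hposinj _ _ _ _ h <;> obtain rfl := x.1.injective h1 <;> first | rfl | simp at h2
  have hMmem : ∀ x, Mx x ∈ Matrix.symplecticGroup (Fin m) F := by
    intro x
    rw [mem_symplecticGroup_iff_form]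
    have h : (sympBilin m F).compl₁₂ (Matrix.mulVecLin (Mx x)) (Matrix.mulVecLin (Mx x)) = sympBilin m F := by
      refine LinearMap.ext_basis (Pi.basisFun F (Fin m ⊕ Fin m)) (Pi.basisFun F (Fin m ⊕ Fin m)) fun a b => ?_
      have hb : ∀ j, (Pi.basisFun F (Fin m ⊕ Fin m)) j = e j := fun j => by simp [he]
      rw [hb, hb, LinearMap.compl₁₂_apply, Matrix.mulVecLin_apply, Matrix.mulVecLin_apply, hMe, hMe,
        map_smul, LinearMap.map_smul, LinearMap.smul_apply, hBe, hBe]
      have hswap : Sum.swap (img x a) = img x (Sum.swap a) := by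
        rcases a with i | i <;> simp [img, hposswap]
      rw [hswap]
      by_cases hab : b = Sum.swap a
      · rw [if_pos hab, if_pos (congrArg (img x) hab), hab]
        rcases a with i | i <;>
          · simp only [Sum.swap_inl, Sum.swap_inr, coef, img, Sum.elim_inl, Sum.elim_inr, dd, smul_eq_mul]
            cases x.2.1 i <;> simp [pos, sgn]
      · rw [if_neg hab, if_neg fun h => hab (hinjimg x h)]
        simp
    intro u v
    have := LinearMap.congr_fun₂ h u v
    simpa [sympBilin_apply] using this
  let MS : X → Matrix.symplecticGroup (Fin m) F := fun x => ⟨Mx x, hMmem x⟩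
  have hspinj : ∀ g : Matrix.symplecticGroup (Fin m) F, Function.Injective g.1.mulVec := fun g =>
    Matrix.mulVec_injective_of_isUnit ((Matrix.isUnit_iff_isUnit_det _).2 (SymplecticGroup.symplectic_det g.2))
  -- monomial elements
  let Mono : Matrix.symplecticGroup (Fin m) F → Prop := fun g =>
    ∀ j, ∃ k, ∃ c : F, c ≠ 0 ∧ g.1.mulVec (e j) = c • e k
  have hTmem : ∀ g, g ∈ T ↔ ∀ j, ∃ c : F, c ≠ 0 ∧ g.1.mulVec (e j) = c • e j := by
    intro g
    rw [hT, Subgroup.mem_iInf]
    refine forall_congr' fun j => ⟨fun h => ?_, fun ⟨c, hc, h⟩ v => ?_⟩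
    · obtain ⟨c, hc⟩ := Submodule.mem_span_singleton.1 ((h (e j)).1 (Submodule.mem_span_singleton_self _))
      refine ⟨c, fun hc0 => ?_, hc.symm⟩
      rw [hc0, zero_smul] at hc
      have h0 : e j = 0 := hspinj g (by rw [Matrix.mulVec_zero]; exact hc.symm)
      simp [he] at h0
    · constructor
      · intro hv
        obtain ⟨d, rfl⟩ := Submodule.mem_span_singleton.1 hv
        show g.1.mulVec (d • e j) ∈ Submodule.span F {e j}
        rw [Matrix.mulVec_smul, h]
        exact Submodule.smul_mem _ _ (Submodule.smul_mem _ _ (Submodule.mem_span_singleton_self _))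
      · intro hv
        obtain ⟨d, hd⟩ := Submodule.mem_span_singleton.1 hv
        refine Submodule.mem_span_singleton.2 ⟨d * c⁻¹, hspinj g ?_⟩
        rw [Matrix.mulVec_smul, h, smul_smul, mul_assoc, inv_mul_cancel₀ hc, mul_one]
        exact hd
  have hmulvec : ∀ (a b : Matrix.symplecticGroup (Fin m) F) v, (a * b).1.mulVec v = a.1.mulVec (b.1.mulVec v) :=
    fun a b v => (Matrix.mulVec_mulVec v a.1 b.1).symm
  have hconj : ∀ g, Mono g → ∀ t ∈ T, g⁻¹ * t * g ∈ T := by
    intro g hg t ht
    rw [hTmem] at ht ⊢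
    intro j
    obtain ⟨k, c, hc, hk⟩ := hg j
    obtain ⟨d, hd, hdk⟩ := ht k
    refine ⟨d, hd, hspinj g ?_⟩
    rw [← hmulvec, show g * (g⁻¹ * t * g) = t * g by group, hmulvec, hk, Matrix.mulVec_smul, hdk,
      Matrix.mulVec_smul, hk, smul_smul, smul_smul, mul_comm]
  have hinv : ∀ g, Mono g → Mono g⁻¹ := by
    intro g hg k
    choose π c hc hk using hg
    have hπ : Function.Injective π := fun a b hab => by
      have h0 : g.1.mulVec ((c b) • e a) = g.1.mulVec ((c a) • e b) := by
        rw [Matrix.mulVec_smul, Matrix.mulVec_smul, hk, hk, hab, smul_smul, smul_smul, mul_comm]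
      have := congrFun (hspinj g h0) a
      by_contra hne
      simp [he, hne, hc b] at this
    obtain ⟨j, rfl⟩ := Finite.surjective_of_injective hπ k
    refine ⟨j, (c j)⁻¹, inv_ne_zero (hc j), hspinj g ?_⟩
    rw [← hmulvec, mul_inv_cancel, Matrix.mulVec_smul, hk, smul_smul, inv_mul_cancel₀ (hc j), one_smul]
    exact Matrix.one_mulVec _
  have hnorm : ∀ g, g ∈ Subgroup.normalizer (T : Set (Matrix.symplecticGroup (Fin m) F)) ↔ Mono g := by
    intro g
    rw [Subgroup.mem_normalizer_iff]
    constructor
    · intro h j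
      set v := g.1.mulVec (e j) with hv
      have hv0 : v ≠ 0 := fun h0 => by
        have h1 : e j = 0 := hspinj g (by rw [← hv, h0, Matrix.mulVec_zero])
        simp [he] at h1
      have heig : ∀ t ∈ T, ∃ l : F, t.1.mulVec v = l • v := by
        intro t ht
        have h1 : g⁻¹ * t * g ∈ T := (h _).2 (by simpa [mul_assoc] using ht)
        obtain ⟨l, -, hl⟩ := (hTmem _).1 h1 j
        refine ⟨l, ?_⟩
        rw [hv, ← hmulvec, show t * g = g * (g⁻¹ * t * g) by group, hmulvec, hl, Matrix.mulVec_smul]
      obtain ⟨r, hr⟩ := Function.ne_iff.1 hv0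
      refine ⟨r, v r, hr, funext fun r' => ?_⟩
      by_cases hrr : r' = r
      · subst hrr; simp [he]
      rw [Pi.smul_apply, show e r r' = 0 from Pi.single_eq_of_ne hrr _, smul_zero]
      by_contra hr'
      obtain ⟨a, ha0, ha1⟩ : ∃ a : Fˣ, (a : F) ≠ (a : F)⁻¹ ∧ (a : F) ≠ 1 := by
        obtain ⟨a, ha⟩ : ∃ a : F, a ∉ ({0, 1, -1} : Finset F) := by
          by_contra hall
          push Not at hall
          have := Finset.card_le_card (fun a (_ : a ∈ Finset.univ) => hall a)
          rw [Finset.card_univ] at this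
          have := this.trans Finset.card_le_three
          omega
        simp only [Finset.mem_insert, Finset.mem_singleton, not_or] at ha
        refine ⟨Units.mk0 a ha.1, fun hh => ?_, ha.2.1⟩
        have h2 : a * a = 1 := by
          rw [Units.val_mk0] at hh
          conv_lhs => arg 2; rw [hh]
          exact mul_inv_cancel₀ ha.1
        rcases mul_self_eq_one_iff.1 h2 with h3 | h3
        · exact ha.2.1 h3
        · exact ha.2.2 h3
      let i : Fin m := Sum.elim id id r
      let x : X := (1, fun _ => false, Function.update 1 i a)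
      have hx : ∀ k, img x k = k := by rintro (k | k) <;> simp [img, x, pos]
      have hxT : MS x ∈ T := (hTmem _).2 fun k => ⟨coef x k, hcoef x k, by
        show (Mx x).mulVec (e k) = _
        rw [hMe, hx]⟩
      obtain ⟨l, hl⟩ := heig _ hxT
      have hco : ∀ k, coef x k * v k = l * v k := by
        intro k
        have h1 := congrFun hl k
        have h2 : (Mx x).mulVec v k = coef x k * v k := by
          simp [Mx, Matrix.mulVec, dotProduct, hx, he, Pi.single_apply]
        rw [show (MS x).1 = Mx x from rfl, h2] at h1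
        exact h1
      have h1 := mul_right_cancel₀ hr (hco r)
      have h2 := mul_right_cancel₀ hr' (hco r')
      rw [← h1] at h2
      rcases r with r | r <;> rcases r' with r' | r' <;>
        (by_cases hir : r' = r
         · subst hir
           simp [coef, dd, x, i] at h2 hrr <;> first
             | exact absurd h2 ha0
             | exact absurd h2.symm ha0
         · simp [coef, dd, x, i, hir] at h2 <;> first
             | exact absurd h2 ha1
             | exact absurd h2.symm ha1
             | exact ha1 (by simpa using congrArg (·⁻¹) h2)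
             | exact ha1 (by simpa using congrArg (·⁻¹) h2.symm))
    · intro hg t
      refine ⟨fun ht => ?_, fun ht => ?_⟩
      · simpa using hconj g⁻¹ (hinv g hg) t ht
      · simpa [mul_assoc] using hconj g hg _ ht
  let Φ : X → Subgroup.normalizer (T : Set (Matrix.symplecticGroup (Fin m) F)) := fun x =>
    ⟨MS x, (hnorm _).2 fun j => ⟨img x j, coef x j, hcoef x j, hMe x j⟩⟩
  have hsingle : ∀ {a b : Fin m ⊕ Fin m} {c d : F}, c ≠ 0 → c • e a = d • e b → a = b ∧ c = d := by
    intro a b c d hc h
    have h1 := congrFun h a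
    by_cases hab : a = b
    · subst hab; simpa [he] using h1
    · simp [he, hab, hc] at h1
  have hΦinj : Function.Injective Φ := by
    rintro ⟨σ, b, c⟩ ⟨σ', b', c'⟩ h
    have hM : Mx (σ, b, c) = Mx (σ', b', c') := congrArg (fun z => z.1.1) h
    have key : ∀ i, (pos (σ i) (b i) = pos (σ' i) (b' i)) ∧ (c i : F) = c' i := fun i => by
      have h1 := congrArg (fun A => A.mulVec (e (Sum.inl i))) hM
      simp only [hMe] at h1
      exact hsingle (hcoef (σ, b, c) (Sum.inl i)) h1
    obtain rfl : σ = σ' := Equiv.ext fun i => (hposinj _ _ _ _ (key i).1).1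
    obtain rfl : b = b' := funext fun i => (hposinj _ _ _ _ (key i).1).2
    obtain rfl : c = c' := funext fun i => Units.ext (key i).2
    rfl
  have hΦsurj : Function.Surjective Φ := by
    intro g
    choose π c hc hk using (hnorm g.1).1 g.2
    have hform : ∀ j j', c j * c j' * sympBilin m F (e (π j)) (e (π j')) = sympBilin m F (e j) (e j') := fun j j' => by
      have h1 := spToLin_mem g.1 (e j) (e j')
      rw [hk, hk] at h1
      simp only [map_smul, LinearMap.smul_apply, smul_eq_mul] at h1
      linear_combination h1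
    have hπ : ∀ j, π (Sum.swap j) = Sum.swap (π j) := by
      intro j
      by_contra hne
      have h1 := hform j (Sum.swap j)
      rw [hBe, hBe, if_neg hne, if_pos rfl, mul_zero] at h1
      exact hsgn j h1.symm
    let σ : Fin m → Fin m := fun i => Sum.elim id id (π (Sum.inl i))
    let b : Fin m → Bool := fun i => (π (Sum.inl i)).isRight
    have hπl : ∀ i, π (Sum.inl i) = pos (σ i) (b i) := fun i => by
      rcases h : π (Sum.inl i) with k | k <;> simp [σ, b, h, pos]
    have hσ : Function.Injective σ := fun i i' hii => by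
      by_contra hne
      have h1 := hform (Sum.inl i) (Sum.inl i')
      rw [hπl, hπl, hii, hBe, hBe, if_neg (show ¬ (Sum.inl i' : Fin m ⊕ Fin m) = Sum.swap (Sum.inl i) by simp),
        hposswap] at h1
      by_cases hbb : b i' = !b i
      · rw [hbb, if_pos rfl] at h1
        exact mul_ne_zero (mul_ne_zero (hc _) (hc _)) (hsgn _) h1
      · have hbb' : b i' = b i := by revert hbb; cases b i <;> cases b i' <;> simp
        have h2 : π (Sum.inl i) = π (Sum.inl i') := by rw [hπl, hπl, hii, hbb']
        have h3 : g.1.1.mulVec (c (Sum.inl i') • e (Sum.inl i)) =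
            g.1.1.mulVec (c (Sum.inl i) • e (Sum.inl i')) := by
          rw [Matrix.mulVec_smul, Matrix.mulVec_smul, hk, hk, h2, smul_smul, smul_smul, mul_comm]
        have := congrFun (hspinj g.1 h3) (Sum.inl i)
        simp [he, hne, hc (Sum.inl i')] at this
    let x : X := (Equiv.ofBijective σ ⟨hσ, Finite.surjective_of_injective hσ⟩, b,
      fun i => Units.mk0 _ (hc (Sum.inl i)))
    refine ⟨x, Subtype.ext (Subtype.ext (Matrix.ext_iff_mulVec.2 fun v => ?_))⟩
    show (Mx x).mulVec v = g.1.1.mulVec v
    rw [pi_eq_sum_univ' v, Matrix.mulVec_sum, Matrix.mulVec_sum]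
    refine Finset.sum_congr rfl fun j _ => ?_
    rw [Matrix.mulVec_smul, Matrix.mulVec_smul]
    refine congrArg _ ?_
    show (Mx x).mulVec (e j) = g.1.1.mulVec (e j)
    rw [hMe, hk]
    have himg : img x j = π j := by
      rcases j with i | i
      · exact (hπl i).symm
      · have h1 := hπ (Sum.inl i)
        rw [Sum.swap_inl, hπl, hposswap] at h1
        exact h1.symm
    rw [himg]
    refine congrArg (fun z => z • e (π j)) ?_
    rcases j with i | i
    · rfl
    · have h1 := hform (Sum.inl i) (Sum.inr i)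
      have h2 := hπ (Sum.inl i)
      rw [Sum.swap_inl] at h2
      rw [h2, hBe, hBe, if_pos rfl, if_pos (by rfl), hπl] at h1
      have hci := hc (Sum.inl i)
      show (if b i then -1 else 1) * (c (Sum.inl i))⁻¹ = c (Sum.inr i)
      cases hb : b i <;> simp [hb, pos, sgn] at h1 ⊢ <;> field_simp <;> (first | linear_combination h1 | linear_combination -h1)
  rw [show (⨅ i, ((Cfsg.stabilizing (Cfsg.spToMat m F) ((Submodule.span F {e i} : Submodule F _) : Set _) :
    Subgroup (Matrix.symplecticGroup (Fin m) F)) : Set (Matrix.symplecticGroup (Fin m) F))) = (T : Set _) by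
      rw [hT, Subgroup.coe_iInf]; rfl]
  show Nat.card (Subgroup.normalizer (T : Set (Matrix.symplecticGroup (Fin m) F))) = _
  rw [← Nat.card_congr (Equiv.ofBijective Φ ⟨hΦinj, hΦsurj⟩)]
  simp [X, Nat.card_prod, Nat.card_fun, Nat.card_units, Fintype.card_perm, Fintype.card_units]
  ring
end Cfsg.Agent.S0777
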