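import Cfsg.Statements.S0778
import Cfsg.Agent.Lib.Geom.Symp

set_option autoImplicit false
open Cfsg

namespace Cfsg.Agent.S0778

/-- The elements of Sp_2m(F) stabilising both W = ⟨e_1..e_m⟩ and U = ⟨f_1..f_m⟩ form a subgroup isomorphic to GL_m(F) (block-diagonal matrices diag(X, X^(−ᵀ)) up to the sign convention of J), for m ≥ 1 or m = 0 alike. -/
theorem result {F : Type*} [Field F] (m : ℕ) : Nonempty (↥(Cfsg.stabilizing (Cfsg.spToMat m F) {v : Fin m ⊕ Fin m → F | ∀ i : Fin m, v (Sum.inr i) = 0} ⊓ Cfsg.stabilizing (Cfsg.spToMat m F) {v : Fin m ⊕ Fin m → F | ∀ i : Fin m, v (Sum.inl i) = 0}) ≃* Matrix.GeneralLinearGroup (Fin m) F) := by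
  classical
  set S := Cfsg.stabilizing (Cfsg.spToMat m F) {v : Fin m ⊕ Fin m → F | ∀ i : Fin m, v (Sum.inr i) = 0} ⊓
    Cfsg.stabilizing (Cfsg.spToMat m F) {v : Fin m ⊕ Fin m → F | ∀ i : Fin m, v (Sum.inl i) = 0} with hS
  let toSp : Matrix.GeneralLinearGroup (Fin m) F → Matrix.symplecticGroup (Fin m) F := fun g =>
    ⟨Matrix.fromBlocks (g : Matrix (Fin m) (Fin m) F) 0 0 ((↑g⁻¹ : Matrix (Fin m) (Fin m) F).transpose), by
      rw [SymplecticGroup.mem_iff, Matrix.J, Matrix.fromBlocks_transpose, Matrix.fromBlocks_multiply,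
        Matrix.fromBlocks_multiply]
      simp [← Matrix.transpose_mul]⟩
  have hmem : ∀ g, toSp g ∈ S := by
    intro g
    have hb : ∀ h : Matrix.GeneralLinearGroup (Fin m) F, ∀ v : Fin m ⊕ Fin m → F,
        ((∀ i, v (Sum.inr i) = 0) → ∀ i, ((toSp h : Matrix (Fin m ⊕ Fin m) (Fin m ⊕ Fin m) F).mulVec v) (Sum.inr i) = 0) ∧
        ((∀ i, v (Sum.inl i) = 0) → ∀ i, ((toSp h : Matrix (Fin m ⊕ Fin m) (Fin m ⊕ Fin m) F).mulVec v) (Sum.inl i) = 0) := by
      intro h v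
      constructor <;> intro hv i <;>
        simp [toSp, Matrix.fromBlocks_mulVec, Matrix.mulVec, dotProduct, hv]
    have hinv : ∀ v : Fin m ⊕ Fin m → F, (toSp g⁻¹ : Matrix (Fin m ⊕ Fin m) (Fin m ⊕ Fin m) F).mulVec
        ((toSp g : Matrix (Fin m ⊕ Fin m) (Fin m ⊕ Fin m) F).mulVec v) = v := by
      intro v
      rw [Matrix.mulVec_mulVec]
      simp [toSp, Matrix.fromBlocks_multiply, ← Matrix.transpose_mul]
    refine ⟨fun v => ⟨(hb g v).1, fun h => ?_⟩, fun v => ⟨(hb g v).2, fun h => ?_⟩⟩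
    · rw [← hinv v]; exact (hb g⁻¹ _).1 h
    · rw [← hinv v]; exact (hb g⁻¹ _).2 h
  let φ : Matrix.GeneralLinearGroup (Fin m) F →* S :=
    { toFun := fun g => ⟨toSp g, hmem g⟩
      map_one' := Subtype.ext (Subtype.ext (by simp [toSp]))
      map_mul' := fun g h => Subtype.ext (Subtype.ext (by
        simp [toSp, Matrix.fromBlocks_multiply, ← Matrix.transpose_mul])) }
  refine ⟨(MulEquiv.ofBijective φ ⟨fun g h e => ?_, fun A => ?_⟩).symm⟩
  · have e1 := congrArg (fun x : S => ((x : Matrix.symplecticGroup (Fin m) F) :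
      Matrix (Fin m ⊕ Fin m) (Fin m ⊕ Fin m) F).toBlocks₁₁) e
    exact Units.ext (by simpa [φ, toSp, Matrix.toBlocks_fromBlocks₁₁] using e1)
  · obtain ⟨⟨A, hA⟩, hW, hU⟩ := A
    have h21 : A.toBlocks₂₁ = 0 := by
      ext i j
      have := (hW (Pi.single (Sum.inl j) 1)).1 (fun k => by simp) i
      simpa [Matrix.toBlocks₂₁] using this
    have h12 : A.toBlocks₁₂ = 0 := by
      ext i j
      have := (hU (Pi.single (Sum.inr j) 1)).1 (fun k => by simp) i
      simpa [Matrix.toBlocks₁₂] using this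
    have hAb : A = Matrix.fromBlocks A.toBlocks₁₁ 0 0 A.toBlocks₂₂ := by
      conv_lhs => rw [← Matrix.fromBlocks_toBlocks A, h21, h12]
    have h := SymplecticGroup.mem_iff'.1 hA
    rw [hAb, Matrix.J, Matrix.fromBlocks_transpose, Matrix.fromBlocks_multiply,
      Matrix.fromBlocks_multiply] at h
    have h2 := congrArg Matrix.toBlocks₂₁ h
    simp [Matrix.toBlocks_fromBlocks₂₁] at h2
    -- `Dᵀ A = 1`
    let g : Matrix.GeneralLinearGroup (Fin m) F :=
      ⟨A.toBlocks₁₁, A.toBlocks₂₂.transpose, mul_eq_one_comm.1 h2, h2⟩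
    refine ⟨g, Subtype.ext (Subtype.ext ?_)⟩
    show Matrix.fromBlocks A.toBlocks₁₁ 0 0 (A.toBlocks₂₂.transpose.transpose) = A
    rw [Matrix.transpose_transpose]
    exact hAb.symm

end Cfsg.Agent.S0778
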