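import Cfsg.Statements.S0779
import Cfsg.Agent.Lib.Classical.HermOrder

set_option autoImplicit false
open Cfsg

namespace Cfsg.Agent.S0779

/-- Unitary transvections: let |F| = q², h the standard Hermitian form Σ x_i y_i^q and v ≠ 0 with h(v, v) = 0. The linear map x ↦ x + c h(x, v) v is an isometry of h if and only if c = 0 or c^(q−1) = −1. -/
theorem result {F : Type*} [Field F] [Fintype F] {q : ℕ} (hF : Fintype.card F = q ^ 2) (n : ℕ) (v : Fin n → F) (hv : v ≠ 0) (hv0 : Cfsg.hermForm n F q v v = 0) (c : F) : (∀ x y : Fin n → F, Cfsg.hermForm n F q ((Cfsg.unitaryTransvection n q v c).mulVec x) ((Cfsg.unitaryTransvection n q v c).mulVec y) = Cfsg.hermForm n F q x y) ↔ (c = 0 ∨ c ^ (q - 1) = -1) := by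
  have hq := CfsgLib.Classical.two_le_of_card_sq hF
  have hsw : ∀ x y : Fin n → F, Cfsg.hermForm n F q x y ^ q = Cfsg.hermForm n F q y x := fun x y => by
    rw [← CfsgLib.Classical.hermB_apply hF, ← CfsgLib.Classical.qFrob_apply hF,
      CfsgLib.Classical.hermB_conj, CfsgLib.Classical.hermB_apply]
  have hT : ∀ x, (Cfsg.unitaryTransvection n q v c).mulVec x = x + (c * Cfsg.hermForm n F q x v) • v := by
    intro x
    rw [Cfsg.unitaryTransvection, Matrix.add_mulVec, Matrix.one_mulVec, Matrix.smul_mulVec,
      Matrix.vecMulVec_mulVec]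
    ext i
    simp [Cfsg.hermForm, dotProduct]
    simp only [Finset.mul_sum, Finset.sum_mul]
    exact Finset.sum_congr rfl fun i _ => by ring
  have hexp : ∀ x y, Cfsg.hermForm n F q ((Cfsg.unitaryTransvection n q v c).mulVec x)
      ((Cfsg.unitaryTransvection n q v c).mulVec y) = Cfsg.hermForm n F q x y +
        Cfsg.hermForm n F q x v * Cfsg.hermForm n F q v y * (c + c ^ q) := by
    intro x y
    rw [hT, hT, ← CfsgLib.Classical.hermB_apply hF, ← CfsgLib.Classical.hermB_apply hF]
    simp only [map_add, LinearMap.map_smulₛₗ, LinearMap.add_apply, LinearMap.smul_apply, map_smul,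
      smul_eq_mul, map_mul, CfsgLib.Classical.hermB_apply, hv0, CfsgLib.Classical.qFrob_apply, hsw]
    ring
  obtain ⟨x, hx⟩ : ∃ x, Cfsg.hermForm n F q x v ≠ 0 := by
    by_contra h
    push Not at h
    refine hv (CfsgLib.Classical.hermB_sep hF v fun y => ?_)
    rw [CfsgLib.Classical.hermB_apply]; exact h y
  constructor
  · intro h
    have h1 := hexp x x
    rw [h x x] at h1
    have hvx : Cfsg.hermForm n F q v x ≠ 0 := by rw [← hsw]; exact pow_ne_zero _ hx
    have hc : c + c ^ q = 0 := by
      have : Cfsg.hermForm n F q x v * Cfsg.hermForm n F q v x * (c + c ^ q) = 0 := by linear_combination -h1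
      simpa [hx, hvx] using this
    by_cases hc0 : c = 0
    · exact Or.inl hc0
    · refine Or.inr (mul_right_cancel₀ hc0 ?_)
      rw [← pow_succ, Nat.sub_add_cancel (by omega)]
      linear_combination hc
  · intro h x y
    rw [hexp]
    rcases h with h | h
    · simp [h, zero_pow (show q ≠ 0 by omega)]
    · have : c + c ^ q = 0 := by
        rw [← Nat.sub_add_cancel (show 1 ≤ q by omega), pow_succ, h]; ring
      rw [this, mul_zero, add_zero]

end Cfsg.Agent.S0779
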