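import Cfsg.Statements.S0782
import Cfsg.Agent.Lib.Geom.IsoStabHerm
import Cfsg.Agent.Lib.Geom.StabEquiv
import Cfsg.Agent.Lib.Geom.HermNorm
import Cfsg.Agent.Lib.Classical.SUOrder
import Cfsg.Agent.Lib.MaxSub.Transvection
-- import your own Cfsg.Agent.* helpers here

set_option autoImplicit false
open Cfsg CfsgLib.Geom CfsgLib.Classical CfsgLib.MaxSub
open Matrix

namespace Cfsg.Agent.S0782

/-- Maximal parabolics of SU_n(q): if W is a k-dimensional subspace of F^n (n ≥ 1, |F| = q²) on which the Hermitian form vanishes, then (q + 1) times the order of its stabiliser in SU_n(q) equals q^(k(2n−3k)) · |GL_k(q²)| · |GU_(n−2k)(q)|, where |GU_m(q)| = q^(m(m−1)/2) Π_(i=1..m) (q^i − (−1)^i). -/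
theorem result {F : Type*} [Field F] [Fintype F] {q : ℕ} (hF : Fintype.card F = q ^ 2) (n k : ℕ) (hn : 1 ≤ n) (hk : 2 * k ≤ n) (W : Submodule F (Fin n → F)) (hWk : Module.finrank F W = k) (hW : ∀ u ∈ W, ∀ v ∈ W, Cfsg.hermForm n F q u v = 0) : (q + 1) * Nat.card ↥((Cfsg.stabilizing (Cfsg.slToMat n F) (W : Set (Fin n → F))).subgroupOf (Cfsg.SU n F q)) = q ^ (k * (2 * n - 3 * k)) * (∏ i : Fin k, ((q ^ 2) ^ k - (q ^ 2) ^ (i : ℕ))) * (q ^ ((n - 2 * k) * ((n - 2 * k) - 1) / 2) * ∏ i ∈ Finset.range (n - 2 * k), (if Even i then q ^ (i + 1) + 1 else q ^ (i + 1) - 1)) := by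
  classical
  have hσ2 := qFrob_qFrob hF
  have hq := two_le_of_card_sq hF
  have hW' : ∀ u ∈ W, ∀ v ∈ W, hermB hF n u v = 0 := fun u hu v hv => by
    rw [hermB_apply]; exact hW v hv u hu
  obtain ⟨E⟩ := nonempty_guStabEquiv hF n W
  have hcard := card_isomStab_herm hF n k hk W hWk hW'
  rw [Nat.card_congr E.toEquiv] at hcard
  set S := (Cfsg.stabilizing (Cfsg.glToMat (Fin n) F) (W : Set (Fin n → F))).subgroupOf (Cfsg.GU n F q) with hS
  let d : S →* Fˣ := (Matrix.GeneralLinearGroup.det.comp (Cfsg.GU n F q).subtype).comp S.subtype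
  have hdk : Nat.card d.ker =
      Nat.card ↥((Cfsg.stabilizing (Cfsg.slToMat n F) (W : Set (Fin n → F))).subgroupOf (Cfsg.SU n F q)) := by
    refine Nat.card_congr
      { toFun := fun g => ⟨⟨⟨((g.1.1.1 : GL (Fin n) F) : Matrix (Fin n) (Fin n) F), by
            have := congrArg Units.val (MonoidHom.mem_ker.1 g.2)
            simpa [d] using this⟩, fun u v => g.1.1.2 u v⟩, fun v => g.1.2 v⟩
        invFun := fun s => ⟨⟨⟨Matrix.SpecialLinearGroup.toGL s.1.1, fun u v => s.1.2 u v⟩, fun v => s.2 v⟩, by
          rw [MonoidHom.mem_ker]; ext; simp [d]⟩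
        left_inv := fun g => Subtype.ext (Subtype.ext (Subtype.ext (Units.ext rfl)))
        right_inv := fun s => Subtype.ext (Subtype.ext (Subtype.ext rfl)) }
  have hrange : d.range = (powMonoidHom (q + 1) : Fˣ →* Fˣ).ker := by
    refine le_antisymm ?_ fun u hu => ?_
    · rintro _ ⟨g, rfl⟩
      have h1 := congrArg Matrix.det ((mem_gu_iff hF g.1.1).1 g.1.2)
      rw [Matrix.det_mul, Matrix.det_transpose, ← RingHom.mapMatrix_apply, ← RingHom.map_det,
        qFrob_apply, Matrix.det_one] at h1
      rw [MonoidHom.mem_ker, powMonoidHom_apply]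
      ext
      simpa [d, pow_succ'] using h1
    · have hu' : (u : F) * qFrob hF (u : F) = 1 := by
        rw [qFrob_apply, ← pow_succ', ← Units.val_pow_eq_pow_val,
          show u ^ (q + 1) = 1 from MonoidHom.mem_ker.1 hu, Units.val_one]
      suffices h : ∃ M : Matrix (Fin n) (Fin n) F, M.det = u ∧
          (∀ x y, hermB hF n (M.mulVec x) (M.mulVec y) = hermB hF n x y) ∧ ∀ v ∈ W, M.mulVec v ∈ W by
        obtain ⟨M, hMd, hMB, hMW⟩ := h
        let G : GL (Fin n) F := Matrix.GeneralLinearGroup.mkOfDetNeZero M (by rw [hMd]; exact u.ne_zero)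
        have hG : G ∈ Cfsg.GU n F q := fun x y => by
          show Cfsg.hermForm n F q (M.mulVec x) (M.mulVec y) = _
          rw [← hermB_apply hF, hMB, hermB_apply]
        have hGW : G ∈ Cfsg.stabilizing (Cfsg.glToMat (Fin n) F) (W : Set (Fin n → F)) := by
          intro v
          refine ⟨fun hv => hMW v hv, fun hv => ?_⟩
          let L : W →ₗ[F] W := (Matrix.mulVecLin M).restrict hMW
          have hinj : Function.Injective L := fun a b h => Subtype.ext
            (Matrix.mulVec_injective_of_isUnit G.isUnit (congrArg Subtype.val h))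
          obtain ⟨w, hw⟩ := LinearMap.surjective_of_injective hinj ⟨_, hv⟩
          rw [← Matrix.mulVec_injective_of_isUnit G.isUnit
            (show M.mulVec (w : Fin n → F) = M.mulVec v from congrArg Subtype.val hw)]
          exact w.2
        exact ⟨⟨⟨G, hG⟩, hGW⟩, Units.ext hMd⟩
      have hrow : ∀ (w x : Fin n → F), (fun i => qFrob hF (w i)) ⬝ᵥ x = hermB hF n w x := fun w x => by
        simp [hermB, dotProduct, mul_comm]
      rcases Nat.eq_zero_or_pos k with hk0 | hk0
      · have hWbot : W = ⊥ := Submodule.finrank_eq_zero.1 (hWk.trans hk0)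
        let e : Fin n → F := Pi.single ⟨0, hn⟩ 1
        have hee : hermB hF n e e = 1 := by simp [hermB, e, Pi.single_apply, apply_ite (qFrob hF)]
        refine ⟨tvMat e (fun i => ((u : F) - 1) * qFrob hF (e i)), ?_, ?_, ?_⟩
        · rw [show tvMat e (fun i => ((u : F) - 1) * qFrob hF (e i)) = 1 + Matrix.replicateCol Unit e *
              Matrix.replicateRow Unit (((u : F) - 1) • fun i => qFrob hF (e i)) by
              ext r s; simp [tvMat, Matrix.vecMulVec_apply, Matrix.mul_apply]; ring,
            Matrix.det_one_add_replicateCol_mul_replicateRow, smul_dotProduct, hrow, hee]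
          simp
        · intro x y
          have hz : ∀ z, (fun i => ((u : F) - 1) * qFrob hF (e i)) ⬝ᵥ z = ((u : F) - 1) * hermB hF n e z :=
              fun z => by rw [← hrow, ← smul_eq_mul, ← smul_dotProduct]; rfl
          simp only [tvMat_mulVec, hz]
          simp only [map_add, LinearMap.add_apply, LinearMap.map_smulₛₗ, LinearMap.smul_apply, map_smul,
            smul_eq_mul, hee, map_mul, map_sub, map_one, RingHom.id_apply, hermB_conj]
          linear_combination (hermB hF n x e * hermB hF n e y) * hu'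
        · intro v hv
          rw [hWbot, Submodule.mem_bot] at hv ⊢
          rw [hv, Matrix.mulVec_zero]
      · let b := Module.finBasisOfFinrankEq F W hWk
        have hN := card_dualTuple_herm hF
          (b.linearIndependent.map' W.subtype (LinearMap.ker_eq_bot.2 W.injective_subtype))
          (fun i i' => hW' _ (b i).2 _ (b i').2) hk k le_rfl
        obtain ⟨F₀, hF₀⟩ : ∃ f : Fin k → (Fin n → F), IsDualTuple (hermB hF n) (W.subtype ∘ b) f :=
          nonempty_subtype.1 (Nat.card_pos_iff.1 (hN ▸ pow_pos (by omega) _)).1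
        let e : Fin n → F := b ⟨0, hk0⟩
        let f : Fin n → F := F₀ ⟨0, hk0⟩
        have hef : hermB hF n e f = 1 := by
          have := hF₀.1 ⟨0, hk0⟩ ⟨0, hk0⟩; rw [if_pos rfl] at this; exact this
        have hfe : hermB hF n f e = 1 := by rw [← hermB_conj, hef, map_one]
        have hff : hermB hF n f f = 0 := hF₀.2 _ _
        have hee : hermB hF n e e = 0 := hW' _ (b _).2 _ (b _).2
        obtain ⟨a, ha, hau⟩ := exists_div_conj (qFrob_ne_id hF) hσ2 hu'
        have hσa : qFrob hF a ≠ 0 := by simpa using ha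
        let U : Matrix (Fin n) (Fin 2) F := Matrix.of fun i => ![e i, f i]
        let V : Matrix (Fin 2) (Fin n) F := Matrix.of
          ![fun i => (a - 1) * qFrob hF (f i), fun i => ((qFrob hF a)⁻¹ - 1) * qFrob hF (e i)]
        have hMv : ∀ x, (1 + U * V).mulVec x = x + ((a - 1) * hermB hF n f x) • e +
            (((qFrob hF a)⁻¹ - 1) * hermB hF n e x) • f := by
          intro x
          rw [Matrix.add_mulVec, Matrix.one_mulVec, ← Matrix.mulVec_mulVec, ← hrow, ← hrow, add_assoc]
          congr 1
          ext i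
          simp [U, V, Matrix.mulVec, dotProduct, Fin.sum_univ_two, Finset.mul_sum, mul_assoc, mul_comm,
            mul_left_comm]
        refine ⟨1 + U * V, ?_, ?_, ?_⟩
        · rw [Matrix.det_one_add_mul_comm, Matrix.det_fin_two]
          have hent : ∀ (c : F) (w z : Fin n → F), ∑ i, c * qFrob hF (w i) * z i = c * hermB hF n w z :=
            fun c w z => by rw [← hrow, dotProduct, Finset.mul_sum]; simp [mul_assoc]
          have hVU : V * U = !![a - 1, 0; 0, (qFrob hF a)⁻¹ - 1] := by
            ext r s
            rw [Matrix.mul_apply]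
            fin_cases r <;> fin_cases s <;>
              simp only [U, V, Matrix.of_apply, Fin.mk_one, Fin.zero_eta, Fin.isValue, Matrix.cons_val_zero,
                Matrix.cons_val_one, Matrix.cons_val_fin_one, hent, hef, hfe, hee, hff, mul_zero, mul_one]
          rw [hVU]
          simp
          field_simp
          linear_combination -hau
        · intro x y
          rw [hMv, hMv]
          simp only [map_add, LinearMap.add_apply, LinearMap.map_smulₛₗ, LinearMap.smul_apply, map_smul,
            smul_eq_mul, hee, hff, hef, hfe, map_mul, map_sub, map_one, map_inv₀, RingHom.id_apply, hermB_conj,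
            hσ2]
          field_simp
          ring
        · intro v hv
          rw [hMv, show hermB hF n e v = 0 from hW' _ (b _).2 v hv, mul_zero, zero_smul, add_zero]
          exact W.add_mem hv (W.smul_mem _ (b _).2)
  have h1 := Subgroup.card_eq_card_quotient_mul_card_subgroup d.ker
  rw [Nat.card_congr (QuotientGroup.quotientKerEquivRange d).toEquiv, hrange,
    IsCyclic.card_powMonoidHom_ker, units_card_sq hF, mul_comm (q - 1), Nat.gcd_mul_right_left, hdk] at h1
  rw [← h1, hcard]
  ring
end Cfsg.Agent.S0782
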