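import Cfsg.Statements.S0783
import Cfsg.Agent.Lib.Classical.SUOrder
-- import your own Cfsg.Agent.* helpers here

set_option autoImplicit false
open Cfsg CfsgLib.Classical
open Matrix

namespace Cfsg.Agent.S0783

/-- PGU_n(q)/PSU_n(q) is cyclic of order (n, q+1): for n ≥ 2 and |F| = q² there is a surjective homomorphism from GU_n(q) onto the cyclic group of order gcd(n, q + 1) whose kernel is generated by the determinant-one elements together with the centre. -/
theorem result {F : Type*} [Field F] [Fintype F] {q : ℕ} (hF : Fintype.card F = q ^ 2) (n : ℕ) (hn : 2 ≤ n) : ∃ φ : ↥(Cfsg.GU n F q) →* Multiplicative (ZMod (Nat.gcd n (q + 1))), Function.Surjective φ ∧ φ.ker = (Matrix.GeneralLinearGroup.det : Matrix.GeneralLinearGroup (Fin n) F →* Fˣ).ker.subgroupOf (Cfsg.GU n F q) ⊔ Subgroup.center ↥(Cfsg.GU n F q) := by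
  classical
  have hq := two_le_of_card_sq hF
  set d := Nat.gcd n (q + 1) with hd
  let C : Subgroup Fˣ := (powMonoidHom (q + 1) : Fˣ →* Fˣ).ker
  have hC : Nat.card C = q + 1 := by
    rw [IsCyclic.card_powMonoidHom_ker, units_card_sq hF, mul_comm, Nat.gcd_mul_right_left]
  have hmemC : ∀ u : Fˣ, u ∈ C ↔ (u : F) ^ (q + 1) = 1 := fun u => by
    rw [MonoidHom.mem_ker, powMonoidHom_apply, ← Units.val_inj, Units.val_pow_eq_pow_val, Units.val_one]
  have hGU : ∀ M : GL (Fin n) F, M ∈ Cfsg.GU n F q ↔
      (M : Matrix (Fin n) (Fin n) F)ᵀ * (M : Matrix (Fin n) (Fin n) F).map (qFrob hF) = 1 := mem_gu_iff hF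
  have hdetC : ∀ g : Cfsg.GU n F q, Matrix.GeneralLinearGroup.det g.1 ∈ C := by
    intro g
    have h1 := congrArg Matrix.det ((hGU g.1).1 g.2)
    rw [Matrix.det_mul, Matrix.det_transpose, ← RingHom.mapMatrix_apply, ← RingHom.map_det,
      qFrob_apply, Matrix.det_one] at h1
    rw [hmemC]
    simpa [pow_succ'] using h1
  -- diagonal elements of `GU`
  have hdiag : ∀ f : Fin n → C, ∃ g : Cfsg.GU n F q,
      ((g : GL (Fin n) F) : Matrix (Fin n) (Fin n) F) = Matrix.diagonal fun i => ((f i : Fˣ) : F) := by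
    intro f
    refine ⟨⟨Matrix.GeneralLinearGroup.mkOfDetNeZero (Matrix.diagonal fun i => ((f i : Fˣ) : F)) (by
      rw [Matrix.det_diagonal]; exact Finset.prod_ne_zero_iff.2 fun i _ => (f i : Fˣ).ne_zero),
      (hGU _).2 ?_⟩, rfl⟩
    show (Matrix.diagonal fun i => ((f i : Fˣ) : F))ᵀ *
      (Matrix.diagonal fun i => ((f i : Fˣ) : F)).map (qFrob hF) = 1
    rw [Matrix.diagonal_transpose, Matrix.diagonal_map (map_zero _), Matrix.diagonal_mul_diagonal,
      ← Matrix.diagonal_one]
    congr 1
    funext i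
    show ((f i : Fˣ) : F) * qFrob hF ((f i : Fˣ) : F) = 1
    rw [qFrob_apply, ← pow_succ', (hmemC _).1 (f i).2]
  let det₀ : Cfsg.GU n F q →* C :=
    (Matrix.GeneralLinearGroup.det.comp (Cfsg.GU n F q).subtype).codRestrict C hdetC
  have hdet₀ : Function.Surjective det₀ := by
    intro c
    obtain ⟨g, hg⟩ := hdiag (Function.update 1 ⟨0, by omega⟩ c)
    refine ⟨g, Subtype.ext (Units.ext ?_)⟩
    show ((g : GL (Fin n) F) : Matrix (Fin n) (Fin n) F).det = _
    rw [hg, Matrix.det_diagonal, Finset.prod_eq_single (⟨0, by omega⟩ : Fin n)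
      (fun i _ hi => by rw [Function.update_of_ne hi]; rfl) (by simp), Function.update_self]
  have hcyc : IsCyclic C := inferInstance
  let ψ : C ≃* Multiplicative (ZMod (q + 1)) := hC ▸ (zmodCyclicMulEquiv hcyc).symm
  let r : ZMod (q + 1) →+ ZMod d := (ZMod.castHom (Nat.gcd_dvd_right n (q + 1)) (ZMod d)).toAddMonoidHom
  let π : C →* Multiplicative (ZMod d) := r.toMultiplicative.comp ψ.toMonoidHom
  have hr : Function.Surjective r := ZMod.ringHom_surjective _
  have hπ : Function.Surjective π := fun y => by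
    obtain ⟨x, hx⟩ := hr (Multiplicative.toAdd y)
    obtain ⟨c, hc⟩ := ψ.surjective (Multiplicative.ofAdd x)
    refine ⟨c, ?_⟩
    show r.toMultiplicative (ψ c) = y
    rw [hc]
    exact congrArg Multiplicative.ofAdd hx
  have hker : ∀ c : C, π c = 1 ↔ ∃ a : C, a ^ n = c := by
    intro c
    obtain ⟨x, hx⟩ : ∃ x, x = Multiplicative.toAdd (ψ c) := ⟨_, rfl⟩
    constructor
    · intro h
      have h1 : r x = 0 := by rw [hx]; exact congrArg Multiplicative.toAdd h
      obtain ⟨a, rfl⟩ : ∃ a : ℕ, (a : ZMod (q + 1)) = x := ⟨x.val, ZMod.natCast_zmod_val x⟩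
      have h2 : d ∣ a := by
        rw [← ZMod.natCast_eq_zero_iff]
        simpa [r] using h1
      obtain ⟨b, rfl⟩ := h2
      refine ⟨ψ.symm (Multiplicative.ofAdd ((Nat.gcdA n (q + 1) : ZMod (q + 1)) * (b : ZMod (q + 1)))), ?_⟩
      apply ψ.injective
      rw [map_pow, MulEquiv.apply_symm_apply, ← ofAdd_nsmul]
      refine (congrArg Multiplicative.ofAdd ?_).trans ((congrArg Multiplicative.ofAdd hx).trans (ofAdd_toAdd _))
      have hb := congrArg (fun z : ℤ => (z : ZMod (q + 1))) (Nat.gcd_eq_gcd_ab n (q + 1))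
      push_cast [← hd] at hb
      rw [nsmul_eq_mul]
      have h0 : ((q : ZMod (q + 1)) + 1) = 0 := by
        exact ZMod.natCast_self' q
      rw [h0, zero_mul, add_zero] at hb
      rw [Nat.cast_mul, hb]
      ring
    · rintro ⟨a, rfl⟩
      rw [map_pow]
      refine Multiplicative.toAdd.injective ?_
      rw [toAdd_pow, toAdd_one, nsmul_eq_mul, (ZMod.natCast_eq_zero_iff n d).2 (Nat.gcd_dvd_left n (q + 1)),
        zero_mul]
  refine ⟨π.comp det₀, hπ.comp hdet₀, le_antisymm ?_ ?_⟩
  · intro g hg
    obtain ⟨a, ha⟩ := (hker _).1 (MonoidHom.mem_ker.1 hg)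
    obtain ⟨z, hz⟩ := hdiag fun _ => a
    have hzc : z ∈ Subgroup.center ↥(Cfsg.GU n F q) := Subgroup.mem_center_iff.2 fun y => by
      refine Subtype.ext (Units.ext ?_)
      show ((y : GL (Fin n) F) : Matrix (Fin n) (Fin n) F) * ((z : GL (Fin n) F) : Matrix (Fin n) (Fin n) F) = _ *
        ((y : GL (Fin n) F) : Matrix (Fin n) (Fin n) F)
      rw [hz, ← Matrix.scalar_apply]
      exact ((Matrix.scalar_commute _ (fun r => Commute.all _ r) _).eq).symm
    have hgz : g * z⁻¹ ∈ (Matrix.GeneralLinearGroup.det : GL (Fin n) F →* Fˣ).ker.subgroupOf (Cfsg.GU n F q) := by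
      rw [Subgroup.mem_subgroupOf, MonoidHom.mem_ker]
      have hdz : det₀ z = a ^ n := Subtype.ext (Units.ext (by
        show ((z : GL (Fin n) F) : Matrix (Fin n) (Fin n) F).det = _
        rw [hz, Matrix.det_diagonal]; simp))
      have : det₀ (g * z⁻¹) = 1 := by rw [map_mul, map_inv, hdz, ha, mul_inv_cancel]
      exact congrArg Subtype.val this
    exact (inv_mul_cancel_right g z) ▸ Subgroup.mul_mem_sup hgz hzc
  · refine sup_le (fun g hg => ?_) (fun z hz => ?_)
    · have : det₀ g = 1 := Subtype.ext (MonoidHom.mem_ker.1 (Subgroup.mem_subgroupOf.1 hg))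
      rw [MonoidHom.mem_ker, MonoidHom.comp_apply, this, map_one]
    · -- the centre consists of scalars
      rw [MonoidHom.mem_ker, MonoidHom.comp_apply, hker]
      set Z := ((z : GL (Fin n) F) : Matrix (Fin n) (Fin n) F) with hZ
      have hcomm : ∀ y : Cfsg.GU n F q, ((y : GL (Fin n) F) : Matrix (Fin n) (Fin n) F) * Z =
          Z * ((y : GL (Fin n) F) : Matrix (Fin n) (Fin n) F) := fun y =>
        congrArg (fun x : Cfsg.GU n F q => ((x : GL (Fin n) F) : Matrix (Fin n) (Fin n) F))
          (Subgroup.mem_center_iff.1 hz y)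
      obtain ⟨u, hu⟩ : ∃ u : C, u ≠ 1 := by
        have : Nontrivial C := (Finite.one_lt_card_iff_nontrivial).1 (by rw [hC]; omega)
        exact exists_ne 1
      have hoff : ∀ i j, i ≠ j → Z i j = 0 := by
        intro i j hij
        obtain ⟨y, hy⟩ := hdiag (Function.update 1 i u)
        have := congrFun (congrFun (hcomm y) i) j
        rw [hy, Matrix.diagonal_mul, Matrix.mul_diagonal, Function.update_self,
          Function.update_of_ne hij.symm] at this
        simp only [Pi.one_apply, OneMemClass.coe_one, Units.val_one, mul_one] at this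
        have h1 : ((u : Fˣ) : F) - 1 ≠ 0 := sub_ne_zero.2 fun h => hu (Subtype.ext (Units.ext h))
        exact (mul_eq_zero.1 (show (((u : Fˣ) : F) - 1) * Z i j = 0 by linear_combination this)).resolve_left h1
      have heq : ∀ i j, Z i i = Z j j := by
        intro i j
        let P : Matrix (Fin n) (Fin n) F := (Equiv.swap i j).permMatrix F
        have hPdet : P.det ≠ 0 := by
          rw [Matrix.det_permutation]
          rcases Int.units_eq_one_or (Equiv.Perm.sign (Equiv.swap i j)) with h | h <;> rw [h] <;> simp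
        have hPmem : Matrix.GeneralLinearGroup.mkOfDetNeZero P hPdet ∈ Cfsg.GU n F q := (hGU _).2 (by
          show Pᵀ * P.map (qFrob hF) = 1
          rw [show P.map (qFrob hF) = P by
              ext a b
              simp [P, Matrix.map_apply, Equiv.Perm.permMatrix, PEquiv.toMatrix_apply, apply_ite (qFrob hF)],
            Matrix.transpose_permMatrix, ← Matrix.permMatrix_mul]
          simp)
        have := congrFun (congrFun (hcomm ⟨_, hPmem⟩) i) j
        change (P * Z) i j = (Z * P) i j at this
        have h1 : (P * Z) i j = Z j j := by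
          rw [Matrix.mul_apply, Finset.sum_eq_single j
            (fun b _ hb => by simp [P, Equiv.Perm.permMatrix, PEquiv.toMatrix_apply, hb.symm]) (by simp)]
          simp [P, Equiv.Perm.permMatrix, PEquiv.toMatrix_apply]
        have h2 : (Z * P) i j = Z i i := by
          rw [Matrix.mul_apply, Finset.sum_eq_single i
            (fun b _ hb => by
              have hne : Equiv.swap i j b ≠ j := fun h => hb (by
                simpa using congrArg (Equiv.swap i j) h)
              simp [P, Equiv.Perm.permMatrix, PEquiv.toMatrix_apply, hne, hne.symm]) (by simp)]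
          simp [P, Equiv.Perm.permMatrix, PEquiv.toMatrix_apply]
        rw [h1, h2] at this
        exact this.symm
      let i₀ : Fin n := ⟨0, by omega⟩
      have hc0 : Z = Matrix.diagonal fun _ => Z i₀ i₀ := by
        ext i j
        by_cases hij : i = j
        · subst hij; rw [Matrix.diagonal_apply_eq]; exact heq i i₀
        · rw [Matrix.diagonal_apply_ne _ hij]; exact hoff i j hij
      have hnorm : Z i₀ i₀ ^ (q + 1) = 1 := by
        have := congrFun (congrFun ((hGU z.1).1 z.2) i₀) i₀
        rw [← hZ, hc0, Matrix.diagonal_transpose, Matrix.diagonal_map (map_zero _),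
          Matrix.diagonal_mul_diagonal, Matrix.diagonal_apply_eq, Matrix.one_apply_eq] at this
        simp only [Function.comp_apply, qFrob_apply, ← pow_succ'] at this
        exact this
      have hne : Z i₀ i₀ ≠ 0 := fun h => by simp [h] at hnorm
      refine ⟨⟨Units.mk0 _ hne, (hmemC _).2 hnorm⟩, Subtype.ext (Units.ext ?_)⟩
      show (Z i₀ i₀) ^ n = Z.det
      rw [congrArg Matrix.det hc0, Matrix.det_diagonal]
      simp
end Cfsg.Agent.S0783
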