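import Cfsg.Statements.S0787
import Cfsg.Agent.Lib.Geom.OmegaIndex

set_option autoImplicit false
open Cfsg

namespace Cfsg.Agent.S0787

/-- Existence and uniqueness of Ω: if F is finite, n ≥ 2, Q is a quadratic form on F^n with non-degenerate polar form and (|F|, n) ≠ (2, 4), then the group of isometries of determinant one has a unique subgroup of index 2. -/
theorem result {F : Type*} [Field F] [Fintype F] {n : ℕ} (hn : 2 ≤ n) (Q : QuadraticForm F (Fin n → F)) (hQ : (QuadraticMap.polarBilin Q).Nondegenerate) (h : Fintype.card F ≠ 2 ∨ n ≠ 4) : ∃! H : Subgroup ↥(Cfsg.specialIsometryGroup F ⇑Q), H.index = 2 := by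
  have hsep := CfsgLib.Geom.sep_of_nondegenerate Q hQ
  have hex : (∃ t : F, t ≠ 0 ∧ t ≠ 1) ∨ Module.finrank F (Fin n → F) ≠ 4 :=
    CfsgLib.Geom.exGen_of_card (h.imp_right fun h => by simpa using h)
  set Ω := Cfsg.Omega F ⇑Q with hΩ
  have hΩS := CfsgLib.Geom.omega_le_special Q
  have hmul := Subgroup.relIndex_mul_index hΩS
  have hSindex : (Cfsg.specialIsometryGroup F ⇑Q).index * 2 = Ω.index := by
    by_cases h2 : (2 : F) = 0
    · rw [hΩ, CfsgLib.Geom.omega_index_even Q hsep hex h2 (by simp; omega)]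
      suffices Cfsg.specialIsometryGroup F ⇑Q = ⊤ by rw [this, Subgroup.index_top]
      rw [eq_top_iff]
      intro g _
      show Matrix.GeneralLinearGroup.det (g : Matrix.GeneralLinearGroup (Fin n) F) = 1
      refine Units.ext ?_
      rcases CfsgLib.Geom.isometry_det Q hQ _ ((CfsgLib.Geom.mem_isometryGroup_iff _ _).1 g.2) with h1 | h1
      · simpa using h1
      · simp only [Matrix.GeneralLinearGroup.val_det_apply, h1, Units.val_one]
        linear_combination -h2
    · rw [hΩ, CfsgLib.Geom.omega_index_odd Q hsep h2 (by simpa using hn)]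
      suffices (Cfsg.specialIsometryGroup F ⇑Q).index = 2 by rw [this]
      rw [Cfsg.specialIsometryGroup, Subgroup.index_ker]
      rw [Nat.card_eq_two_iff]
      obtain ⟨v, hv⟩ : ∃ v, Q v ≠ 0 := by
        haveI : Nonempty (Fin n) := ⟨⟨0, by omega⟩⟩
        exact CfsgLib.Geom.exists_anisotropic Q hsep
      have hne : (-1 : Fˣ) ≠ 1 := by
        intro e
        have := congrArg Units.val e
        simp only [Units.val_neg, Units.val_one] at this
        exact h2 (by linear_combination -this)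
      refine ⟨⟨1, one_mem _⟩, ⟨-1, ⟨CfsgLib.Geom.orEquiv Q ⟨CfsgLib.Geom.reflEquiv Q v hv, CfsgLib.Geom.reflEquiv_mem Q v hv⟩, ?_⟩⟩,
        fun e => hne (congrArg Subtype.val e).symm, Set.eq_univ_of_forall ?_⟩
      · show Matrix.GeneralLinearGroup.det (CfsgLib.Geom.glOfEquiv (CfsgLib.Geom.reflEquiv Q v hv)) = -1
        rw [CfsgLib.Geom.det_glOfEquiv, CfsgLib.Geom.det_reflEquiv]
      · rintro ⟨_, g, rfl⟩
        rcases CfsgLib.Geom.isometry_det Q hQ _ ((CfsgLib.Geom.mem_isometryGroup_iff _ _).1 g.2) with h1 | h1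
        · refine Or.inl (Subtype.ext (Units.ext ?_))
          simpa using h1
        · refine Or.inr (Subtype.ext (Units.ext ?_))
          simpa using h1
  have hrel : (Ω.subgroupOf (Cfsg.specialIsometryGroup F ⇑Q)).index = 2 := by
    have hpos : (Cfsg.specialIsometryGroup F ⇑Q).index ≠ 0 := Subgroup.index_ne_zero_of_finite
    rw [← hSindex, mul_comm] at hmul
    exact mul_left_cancel₀ hpos hmul
  refine ⟨Ω.subgroupOf (Cfsg.specialIsometryGroup F ⇑Q), hrel, fun H hH => ?_⟩
  have hle : Ω.subgroupOf (Cfsg.specialIsometryGroup F ⇑Q) ≤ H := by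
    intro x hx
    obtain ⟨y, hy, hyx⟩ := CfsgLib.Geom.omega_le_of_index_two Q hQ hex H hH hx
    exact (Cfsg.specialIsometryGroup F ⇑Q).subtype_injective hyx ▸ hy
  have hr := Subgroup.relIndex_mul_index hle
  rw [hH, hrel] at hr
  exact le_antisymm (Subgroup.relIndex_eq_one.1 (by omega)) hle

end Cfsg.Agent.S0787
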