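import Cfsg.Statements.S0791
import Cfsg.Agent.Lib.Geom.NegOne
import Cfsg.Agent.Lib.Geom.StdForms

set_option autoImplicit false
open Cfsg

namespace Cfsg.Agent.S0791

/-- −1 ∈ Ω⁻_2m(q) iff q^m ≡ −1 (mod 4), for q odd and m ≥ 1; for the minus-type form quadFormMinus (m−1) with anisotropic binary part. -/
theorem result {F : Type*} [Field F] [Fintype F] {q : ℕ} (hF : Fintype.card F = q) (hodd : Odd q) (m : ℕ) (hm : 1 ≤ m) (a b : F) (hab : ∀ z₁ z₂ : F, z₁ ^ 2 + a * z₁ * z₂ + b * z₂ ^ 2 = 0 → z₁ = 0 ∧ z₂ = 0) : (∃ g : ↥(Cfsg.isometryGroup F (Cfsg.quadFormMinus (m - 1) F a b)), g ∈ Cfsg.Omega F (Cfsg.quadFormMinus (m - 1) F a b) ∧ ((g : Matrix.GeneralLinearGroup ((Fin (m - 1) ⊕ Fin (m - 1)) ⊕ Fin 2) F) : Matrix ((Fin (m - 1) ⊕ Fin (m - 1)) ⊕ Fin 2) ((Fin (m - 1) ⊕ Fin (m - 1)) ⊕ Fin 2) F) = -1) ↔ q ^ m % 4 = 3 := by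
  have h2 : (2 : F) ≠ 0 := by
    intro h
    have := FiniteField.even_card_iff_char_two.mp
      (CharP.ringChar_of_prime_eq_zero Nat.prime_two (by exact_mod_cast h) : ringChar F = 2)
    rw [hF] at this
    rcases hodd with ⟨k, rfl⟩
    omega
  classical
  rw [← CfsgLib.Geom.minusForm_coe, CfsgLib.Geom.neg_one_mem_omega_iff _ (CfsgLib.Geom.minusForm_nondeg h2 _ a b hab) h2
    ⟨m, by simp; omega⟩, CfsgLib.Geom.minusForm_disc]
  have hns := CfsgLib.Geom.not_isSquare_disc h2 a b hab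
  have e : (-1 : F) ^ (m - 1) * (4 * b - a * a) = (-1) ^ m * (a * a - 4 * b) := by
    obtain ⟨j, rfl⟩ : ∃ j, m = j + 1 := ⟨m - 1, by omega⟩
    rw [Nat.add_sub_cancel, pow_succ]; ring
  rw [e]
  have h4 : q ^ m % 4 = 3 ↔ ¬ q ^ m % 4 = 1 := by
    have : q ^ m % 2 = 1 := Nat.odd_iff.1 hodd.pow
    omega
  rw [h4, ← hF, ← CfsgLib.Geom.isSquare_neg_one_pow_iff h2]
  constructor
  · intro hp hsq
    obtain ⟨r, hr⟩ := hsq
    obtain ⟨s, hs⟩ := hp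
    have hr0 : r ≠ 0 := fun h => pow_ne_zero m (neg_ne_zero.2 one_ne_zero : (-1 : F) ≠ 0) (by rw [hr, h, mul_zero])
    refine hns ⟨s / r, ?_⟩
    rw [hr] at hs
    field_simp
    linear_combination hs
  · intro h
    exact CfsgLib.Geom.isSquare_mul_of_not _ _ h hns

end Cfsg.Agent.S0791
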