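import Cfsg.Statements.S0792
import Cfsg.Agent.Lib.Geom.OrthMatrix

set_option autoImplicit false
open Cfsg

namespace Cfsg.Agent.S0792

/-- For q odd and Q with non-degenerate polar form on F^n, the determinant-one isometries form the subgroup generated by all products r_u r_v of two reflections (Q(u), Q(v) ≠ 0). -/
theorem result {F : Type*} [Field F] [Fintype F] (h2 : (2 : F) ≠ 0) {n : ℕ} (Q : QuadraticForm F (Fin n → F)) (hQ : (QuadraticMap.polarBilin Q).Nondegenerate) : Cfsg.specialIsometryGroup F ⇑Q = Subgroup.closure {g : ↥(Cfsg.isometryGroup F ⇑Q) | ∃ u v : Fin n → F, Q u ≠ 0 ∧ Q v ≠ 0 ∧ ((g : Matrix.GeneralLinearGroup (Fin n) F) : Matrix (Fin n) (Fin n) F) = Cfsg.reflectionMatrix ⇑Q u * Cfsg.reflectionMatrix ⇑Q v} := by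
  classical
  refine le_antisymm (fun g hg => ?_) ((Subgroup.closure_le _).2 ?_)
  · have hex : (∃ t : F, t ≠ 0 ∧ t ≠ 1) ∨ Fintype.card (Fin n) ≠ 4 :=
      Or.inl ⟨-1, by simp, fun h => h2 (by linear_combination -h)⟩
    obtain ⟨⟨g, hgQ⟩, rfl⟩ := (CfsgLib.Geom.orEquiv Q).surjective g
    have hg' : g ∈ Subgroup.closure (CfsgLib.Geom.reflSet Q) := by
      rw [← CfsgLib.Geom.quadIsoms_eq_closure Q (CfsgLib.Geom.sep_of_nondegenerate Q hQ)
        (hex.imp_right fun h => by rwa [Module.finrank_fintype_fun_eq_card])]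
      exact hgQ
    obtain ⟨L, hL⟩ := CfsgLib.Geom.exists_reflWord Q hg'
    subst hL
    have hdet : LinearEquiv.det (CfsgLib.Geom.reflWord Q L) = 1 := by
      have hker : Matrix.GeneralLinearGroup.det (CfsgLib.Geom.glOfEquiv (CfsgLib.Geom.reflWord Q L)) = 1 := hg
      rwa [CfsgLib.Geom.det_glOfEquiv] at hker
    have hlen : ∀ M, LinearEquiv.det (CfsgLib.Geom.reflWord Q M) = (-1) ^ M.length := by
      intro M
      induction M with
      | nil => simp [CfsgLib.Geom.reflWord]
      | cons v M ih =>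
        rw [show CfsgLib.Geom.reflWord Q (v :: M) = CfsgLib.Geom.reflEquiv Q v.1 v.2 * CfsgLib.Geom.reflWord Q M by
          simp [CfsgLib.Geom.reflWord], map_mul, ih, CfsgLib.Geom.det_reflEquiv, List.length_cons, pow_succ, mul_comm]
    have heven : Even L.length := by
      by_contra ho
      rw [Nat.not_even_iff_odd] at ho
      rw [hlen, ho.neg_one_pow] at hdet
      have h3 := congrArg Units.val hdet
      simp only [Units.val_neg, Units.val_one] at h3
      exact h2 (by linear_combination -h3)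
    clear hg hdet hg'
    obtain ⟨k, hk⟩ := heven
    induction k generalizing L with
    | zero =>
      obtain rfl : L = [] := List.length_eq_zero_iff.1 (by omega)
      rw [show (⟨CfsgLib.Geom.reflWord Q [], hgQ⟩ : CfsgLib.Geom.quadIsoms Q) = 1 from Subtype.ext rfl, map_one]
      exact one_mem _
    | succ k ih =>
      match L, hgQ, hk with
      | a :: b :: M, hgQ, hk =>
        have hab : CfsgLib.Geom.reflEquiv Q a.1 a.2 * CfsgLib.Geom.reflEquiv Q b.1 b.2 ∈ CfsgLib.Geom.quadIsoms Q :=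
          mul_mem (CfsgLib.Geom.reflEquiv_mem Q a.1 a.2) (CfsgLib.Geom.reflEquiv_mem Q b.1 b.2)
        have hw : CfsgLib.Geom.reflWord Q (a :: b :: M) =
            (CfsgLib.Geom.reflEquiv Q a.1 a.2 * CfsgLib.Geom.reflEquiv Q b.1 b.2) * CfsgLib.Geom.reflWord Q M := by
          simp [CfsgLib.Geom.reflWord, mul_assoc]
        have hM : CfsgLib.Geom.reflWord Q M ∈ CfsgLib.Geom.quadIsoms Q := by
          have := mul_mem (inv_mem hab) hgQ
          rwa [hw, inv_mul_cancel_left] at this
        rw [show (⟨_, hgQ⟩ : CfsgLib.Geom.quadIsoms Q) = ⟨_, hab⟩ * ⟨_, hM⟩ from Subtype.ext hw, map_mul]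
        refine mul_mem (Subgroup.subset_closure ⟨a.1, b.1, a.2, b.2, ?_⟩)
          (ih M hM (by simp at hk; omega))
        rw [CfsgLib.Geom.orEquiv_coe, map_mul, Matrix.GeneralLinearGroup.coe_mul, CfsgLib.Geom.glOfEquiv_reflEquiv,
          CfsgLib.Geom.glOfEquiv_reflEquiv]
      | [], _, hk => simp at hk
      | [a], _, hk => simp at hk; omega
  · rintro g ⟨u, v, hu, hv, hg⟩
    show Matrix.GeneralLinearGroup.det (g : Matrix.GeneralLinearGroup (Fin n) F) = 1
    refine Units.ext ?_
    rw [Matrix.GeneralLinearGroup.val_det_apply, hg, Matrix.det_mul, CfsgLib.Geom.det_reflectionMatrix Q hu,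
      CfsgLib.Geom.det_reflectionMatrix Q hv]
    simp

end Cfsg.Agent.S0792
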