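import Cfsg.Statements.S0793

set_option autoImplicit false
open Cfsg

namespace Cfsg.Agent.S0793

/-- Root elements: if Q(u) = Q(v) = 0 and f(u, v) = 0 (f the polar form), then for every c the Siegel matrix T_(u,v)(c) preserves Q, fixes u and v, and T(c) T(d) = T(c + d). -/
theorem result {F : Type*} [Field F] {n : ℕ} (Q : QuadraticForm F (Fin n → F)) (u v : Fin n → F) (hu : Q u = 0) (hv : Q v = 0) (huv : QuadraticMap.polar ⇑Q u v = 0) : (∀ c x, Q ((Cfsg.siegelMatrix ⇑Q u v c).mulVec x) = Q x) ∧ (∀ c, (Cfsg.siegelMatrix ⇑Q u v c).mulVec u = u ∧ (Cfsg.siegelMatrix ⇑Q u v c).mulVec v = v) ∧ ∀ c d, Cfsg.siegelMatrix ⇑Q u v c * Cfsg.siegelMatrix ⇑Q u v d = Cfsg.siegelMatrix ⇑Q u v (c + d) := by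
  have hf : ∀ a x, dotProduct (Cfsg.polarVec (⇑Q) a) x = QuadraticMap.polar Q a x := by
    intro a x
    have h1 : Q.polarBilin a x = ∑ i, x i * Q.polarBilin a (Pi.single i 1) := by
      conv_lhs => rw [← Finset.univ_sum_single x]
      rw [map_sum]
      exact Finset.sum_congr rfl fun i _ => by
        rw [show Pi.single i (x i) = x i • (Pi.single i 1 : Fin n → F) by simp [← Pi.single_smul],
          map_smul, smul_eq_mul]
    simp only [QuadraticMap.polarBilin_apply_apply] at h1
    rw [h1, dotProduct]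
    exact Finset.sum_congr rfl fun i _ => mul_comm _ _
  have hT : ∀ c x, (Cfsg.siegelMatrix (⇑Q) u v c).mulVec x =
      x + (c * QuadraticMap.polar Q u x) • v - (c * QuadraticMap.polar Q v x) • u := by
    intro c x
    rw [Cfsg.siegelMatrix, Matrix.add_mulVec, Matrix.one_mulVec, Matrix.smul_mulVec,
      Matrix.sub_mulVec, Matrix.vecMulVec_mulVec, Matrix.vecMulVec_mulVec, hf, hf]
    ext i
    simp
    ring
  have huu : QuadraticMap.polar Q u u = 0 := by rw [QuadraticMap.polar_self, hu, smul_zero]
  have hvv : QuadraticMap.polar Q v v = 0 := by rw [QuadraticMap.polar_self, hv, smul_zero]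
  have hvu : QuadraticMap.polar Q v u = 0 := by rw [QuadraticMap.polar_comm, huv]
  refine ⟨fun c x => ?_, fun c => ?_, fun c d => ?_⟩
  · rw [hT, sub_eq_add_neg, ← neg_smul, QuadraticMap.map_add Q (x + _) _, QuadraticMap.map_add Q x _,
      QuadraticMap.polar_smul_right, QuadraticMap.polar_smul_right, QuadraticMap.polar_add_left,
      QuadraticMap.polar_smul_left, QuadraticMap.map_smul, QuadraticMap.map_smul, hu, hv, hvu,
      QuadraticMap.polar_comm Q x v, QuadraticMap.polar_comm Q x u]
    simp only [smul_eq_mul]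
    ring
  · constructor
    · rw [hT, huu, hvu]; simp
    · rw [hT, huv, hvv]; simp
  · refine Matrix.toLin'.injective (LinearMap.ext fun x => ?_)
    simp only [Matrix.toLin'_apply, ← Matrix.mulVec_mulVec, hT, QuadraticMap.polar_add_right,
      QuadraticMap.polar_sub_right, QuadraticMap.polar_smul_right, huu, hvv, huv, hvu, smul_zero,
      add_zero, sub_zero, add_mul]
    module

end Cfsg.Agent.S0793
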