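import Cfsg.Statements.S0794
import Cfsg.Agent.Lib.Geom.OmegaIndex

set_option autoImplicit false
open Cfsg

namespace Cfsg.Agent.S0794

/-- For q odd, n ≥ 5 and Q with non-degenerate polar form: an isometry whose matrix is a Siegel transformation T_(u,v)(c) (u, v singular and orthogonal) is a commutator in the isometry group, so lies in Ω. -/
theorem result {F : Type*} [Field F] [Fintype F] (h2 : (2 : F) ≠ 0) {n : ℕ} (hn : 5 ≤ n) (Q : QuadraticForm F (Fin n → F)) (hQ : (QuadraticMap.polarBilin Q).Nondegenerate) (u v : Fin n → F) (hu : Q u = 0) (hv : Q v = 0) (huv : QuadraticMap.polar ⇑Q u v = 0) (c : F) (g : ↥(Cfsg.isometryGroup F ⇑Q)) (hg : ((g : Matrix.GeneralLinearGroup (Fin n) F) : Matrix (Fin n) (Fin n) F) = Cfsg.siegelMatrix ⇑Q u v c) : g ∈ commutatorSet ↥(Cfsg.isometryGroup F ⇑Q) ∧ g ∈ Cfsg.Omega F ⇑Q := by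
  have key : g ∈ commutatorSet ↥(Cfsg.isometryGroup F ⇑Q) := by
    by_cases hli : LinearIndependent F ![u, v]
    swap
    · -- dependent vectors give the identity
      refine ⟨1, 1, ?_⟩
      rw [commutatorElement_self]
      refine Subtype.ext (Units.ext (Matrix.ext_iff_mulVec.2 fun x => ?_))
      rw [hg, Cfsg.siegelMatrix, Matrix.add_mulVec, Matrix.smul_mulVec, Matrix.sub_mulVec,
        Matrix.vecMulVec_mulVec, Matrix.vecMulVec_mulVec, CfsgLib.Geom.polarVec_dot, CfsgLib.Geom.polarVec_dot]
      rw [LinearIndependent.pair_iff] at hli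
      push Not at hli
      obtain ⟨s, t, hst, hne⟩ := hli
      by_cases ht : t = 0
      · subst ht
        have hs : s ≠ 0 := fun h => hne h rfl
        have : u = 0 := by simpa [hs] using hst
        subst this
        ext i
        simp [Matrix.one_mulVec]
      · have : v = (-(s / t)) • u := by
          have h1 := congrArg (fun z => t⁻¹ • z) hst
          simp only [smul_add, smul_smul, inv_mul_cancel₀ ht, one_smul, smul_zero] at h1
          rw [neg_smul, eq_neg_iff_add_eq_zero, add_comm, div_eq_inv_mul]; exact h1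
        subst this
        ext i
        simp [Matrix.one_mulVec, QuadraticMap.polar_smul_left]
        ring_nf
    -- a map scaling `u` by `-1` and fixing `v`
    have hspan : ∀ x ∈ Submodule.span F (Set.range ![u, v]), Q x = 0 := by
      intro x hx
      rw [Matrix.range_cons, Matrix.range_cons, Matrix.range_empty, Set.union_empty,
        Set.singleton_union, Submodule.mem_span_pair] at hx
      obtain ⟨a, b, rfl⟩ := hx
      rw [CfsgLib.Geom.quad_map_add_smul, CfsgLib.Geom.quad_smul, QuadraticMap.polar_smul_left, hu, hv, huv]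
      simp
    set bX := Module.Basis.span hli with hbX
    have hval : ∀ i, (bX i : Fin n → F) = ![u, v] i := fun i => by rw [hbX, Module.Basis.span_apply]
    set φ := bX.constr F ![-u, v] with hφ
    have hφv : ∀ i, φ (bX i) = ![-u, v] i := fun i => by simp [hφ]
    have hinj : Function.Injective φ := by
      have hli' : LinearIndependent F ![-u, v] := by
        rw [LinearIndependent.pair_iff] at hli ⊢
        intro s t hst
        have := hli (-s) t (by rw [neg_smul, ← smul_neg]; exact hst)
        exact ⟨neg_eq_zero.1 this.1, this.2⟩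
      rw [← LinearMap.ker_eq_bot, Submodule.eq_bot_iff]
      intro x hx
      rw [LinearMap.mem_ker, hφ, Module.Basis.constr_apply_fintype] at hx
      have h0 := Fintype.linearIndependent_iff.1 hli' _ hx
      exact bX.equivFun.injective (funext fun i => by simpa using h0 i)
    obtain ⟨h, hh, hhX⟩ := CfsgLib.Geom.witt_quadratic Q (CfsgLib.Geom.sep_of_nondegenerate Q hQ) _ φ hinj (fun x => by
      rw [hspan _ x.2]
      obtain ⟨c, rfl⟩ : ∃ c : Fin 2 → F, x = bX.equivFun.symm c := ⟨bX.equivFun x, by simp⟩
      rw [Module.Basis.equivFun_symm_apply, map_sum]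
      simp only [map_smul, hφv]
      apply hspan
      simp only [Fin.sum_univ_two, Matrix.cons_val_zero, Matrix.cons_val_one]
      exact Submodule.add_mem _
        (Submodule.smul_mem _ _ (Submodule.neg_mem _ (Submodule.subset_span ⟨0, rfl⟩)))
        (Submodule.smul_mem _ _ (Submodule.subset_span ⟨1, rfl⟩)))
    have hhu : h u = -u := by
      have := hhX (bX 0); rw [hval, hφv] at this; simpa using this
    have hhv : h v = v := by
      have := hhX (bX 1); rw [hval, hφv] at this; simpa using this
    have hT : ∀ d x, (Cfsg.siegelMatrix (⇑Q) u v d).mulVec x =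
        x + d • (QuadraticMap.polar Q u x • v - QuadraticMap.polar Q v x • u) := by
      intro d x
      rw [Cfsg.siegelMatrix, Matrix.add_mulVec, Matrix.one_mulVec, Matrix.smul_mulVec,
        Matrix.sub_mulVec, Matrix.vecMulVec_mulVec, Matrix.vecMulVec_mulVec, CfsgLib.Geom.polarVec_dot,
        CfsgLib.Geom.polarVec_dot]
      simp
    have huu : QuadraticMap.polar Q u u = 0 := by rw [CfsgLib.Geom.polar_self_two, hu, mul_zero]
    have hvv : QuadraticMap.polar Q v v = 0 := by rw [CfsgLib.Geom.polar_self_two, hv, mul_zero]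
    have hvu : QuadraticMap.polar Q v u = 0 := by rw [QuadraticMap.polar_comm, huv]
    let T : F → ((Fin n → F) →ₗ[F] (Fin n → F)) := fun d =>
      Matrix.toLin' (Cfsg.siegelMatrix (⇑Q) u v d)
    have hTQ : ∀ d x, Q (T d x) = Q x := by
      intro d x
      rw [Matrix.toLin'_apply, hT, smul_sub, smul_smul, smul_smul, sub_eq_add_neg, ← neg_smul,
        ← add_assoc, CfsgLib.Geom.quad_map_add_smul, CfsgLib.Geom.quad_map_add_smul, hu, hv, QuadraticMap.polar_add_left,
        QuadraticMap.polar_smul_left, hvu, QuadraticMap.polar_comm Q x u, QuadraticMap.polar_comm Q x v,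
        smul_eq_mul]
      ring
    obtain ⟨t, ht, hta⟩ := CfsgLib.Geom.exists_mem_quadIsoms Q (CfsgLib.Geom.sep_of_nondegenerate Q hQ) (T (-c / 2)) (hTQ _)
    refine ⟨CfsgLib.Geom.orEquiv Q ⟨h, hh⟩, CfsgLib.Geom.orEquiv Q ⟨t, ht⟩, ?_⟩
    rw [commutatorElement_def, mul_inv_eq_iff_eq_mul, mul_inv_eq_iff_eq_mul]
    refine Subtype.ext (Units.ext (Matrix.ext_iff_mulVec.2 fun x => ?_))
    simp only [Subgroup.coe_mul, Units.val_mul, ← Matrix.mulVec_mulVec, hg, CfsgLib.Geom.orEquiv_mulVec, hta,
      T, Matrix.toLin'_apply, hT]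
    have h2' : QuadraticMap.polar Q v (h x) = QuadraticMap.polar Q v x := by
      conv_lhs => rw [← hhv]
      exact CfsgLib.Geom.polar_quadIsom hh _ _
    have h1' : QuadraticMap.polar Q u (h x) = -QuadraticMap.polar Q u x := by
      have := CfsgLib.Geom.polar_quadIsom hh u x
      rw [hhu, QuadraticMap.polar_neg_left] at this
      linear_combination -this
    simp only [map_add, map_smul, map_sub, hhu, hhv, QuadraticMap.polar_add_right,
      QuadraticMap.polar_smul_right, QuadraticMap.polar_sub_right, huu, hvv, huv, hvu, h1', h2',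
      smul_zero, sub_self, add_zero]
    match_scalars <;> field_simp <;> ring
  exact ⟨key, by rw [Cfsg.Omega, commutator_eq_closure]; exact Subgroup.subset_closure key⟩

end Cfsg.Agent.S0794
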