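import Cfsg.Statements.S0795
import Cfsg.Agent.Lib.Classical.OrthSimple
import Cfsg.Agent.Lib.Geom.OrthMatrix
-- import your own Cfsg.Agent.* helpers here

set_option autoImplicit false
open Cfsg CfsgLib.Geom CfsgLib.Classical
open QuadraticMap (polar)

namespace Cfsg.Agent.S0795

/-- Generation of Ω by root elements: for q odd, n ≥ 5 and Q with non-degenerate polar form on F^n, the commutator subgroup of the isometry group equals the subgroup generated by the isometries whose matrices are Siegel transformations T_(u,v)(c) with u, v singular and orthogonal. -/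
theorem result {F : Type*} [Field F] [Fintype F] (h2 : (2 : F) ≠ 0) {n : ℕ} (hn : 5 ≤ n) (Q : QuadraticForm F (Fin n → F)) (hQ : (QuadraticMap.polarBilin Q).Nondegenerate) : Cfsg.Omega F ⇑Q = Subgroup.closure {g : ↥(Cfsg.isometryGroup F ⇑Q) | ∃ (u v : Fin n → F) (c : F), Q u = 0 ∧ Q v = 0 ∧ QuadraticMap.polar ⇑Q u v = 0 ∧ ((g : Matrix.GeneralLinearGroup (Fin n) F) : Matrix (Fin n) (Fin n) F) = Cfsg.siegelMatrix ⇑Q u v c} := by
  have hsep := sep_of_nondegenerate Q hQ
  have h5 : 5 ≤ Module.finrank F (Fin n → F) := by simpa using hn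
  have hmat : ∀ (u v : Fin n → F) (c : F) (z : Fin n → F),
      (Cfsg.siegelMatrix (⇑Q) u v c).mulVec z = z + c • (polar Q u z • v - polar Q v z • u) := by
    intro u v c z
    rw [Cfsg.siegelMatrix, Matrix.add_mulVec, Matrix.one_mulVec, Matrix.smul_mulVec, Matrix.sub_mulVec,
      Matrix.vecMulVec_mulVec, Matrix.vecMulVec_mulVec, polarVec_dot, polarVec_dot]
    ext i
    simp [mul_comm, mul_sub, mul_left_comm]
  have hroot : ∀ (u v : Fin n → F) (c : F), Q u = 0 → Q v = 0 → polar Q u v = 0 →
      ∀ z, (siegel Q u (c • v)).1 z = z + c • (polar Q u z • v - polar Q v z • u) := by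
    intro u v c hu hv huv z
    rw [siegel_apply Q hu (by rw [QuadraticMap.polar_smul_right, huv, smul_zero]), quad_smul, hv,
      QuadraticMap.polar_smul_left]
    simp only [smul_eq_mul, mul_zero, zero_mul, add_zero]
    module
  set S := {g : ↥(Cfsg.isometryGroup F ⇑Q) | ∃ (u v : Fin n → F) (c : F), Q u = 0 ∧ Q v = 0 ∧
    QuadraticMap.polar ⇑Q u v = 0 ∧
      ((g : Matrix.GeneralLinearGroup (Fin n) F) : Matrix (Fin n) (Fin n) F) = Cfsg.siegelMatrix ⇑Q u v c}
    with hS
  have hsing : ∀ u v : Fin n → F, Q u = 0 → Q v = 0 → polar Q u v = 0 →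
      orEquiv Q (siegel Q u v) ∈ Subgroup.closure S := by
    intro u v hu hv huv
    refine Subgroup.subset_closure ⟨u, v, 1, hu, hv, huv, Matrix.ext_iff_mulVec.2 fun z => ?_⟩
    rw [orEquiv_mulVec, hmat, ← hroot u v 1 hu hv huv, one_smul]
  show commutator ↥(Cfsg.isometryGroup F ⇑Q) = _
  rw [show commutator ↥(Cfsg.isometryGroup F ⇑Q) = (commutator (quadIsoms Q)).map (orEquiv Q).toMonoidHom by
    rw [commutator_def, commutator_def, Subgroup.map_commutator,
      Subgroup.map_top_of_surjective (orEquiv Q).toMonoidHom (orEquiv Q).surjective],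
    commutator_eq_siegelGroup Q hsep h5]
  refine le_antisymm (Subgroup.map_le_iff_le_comap.2 ((Subgroup.closure_le _).2 ?_))
    ((Subgroup.closure_le _).2 ?_)
  · rintro _ ⟨⟨x, w⟩, rfl⟩
    rw [SetLike.mem_coe, Subgroup.mem_comap, MulEquiv.coe_toMonoidHom]
    show orEquiv Q (siegel Q x w) ∈ _
    by_cases h : Q x = 0 ∧ polar Q x w = 0
    · obtain ⟨hx, hw⟩ := h
      by_cases hx0 : x = 0
      · subst hx0
        have h1 : siegel Q 0 w = 1 := quadIsoms_ext Q fun z => by
          rw [siegel_apply Q hx hw]; simp [QuadraticMap.polar_zero_left]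
        rw [h1, map_one]; exact one_mem _
      obtain ⟨z, hxz⟩ := exists_partner Q hsep hx0
      obtain ⟨a, ha0, hxa, hza, ha⟩ := exists_perp_singular Q hsep h5 x z
      have hli : LinearIndependent F ![x, a] := by
        rw [LinearIndependent.pair_iff' hx0]
        intro t ht
        rw [← ht, QuadraticMap.polar_smul_right, QuadraticMap.polar_comm _ z x, hxz, smul_eq_mul, mul_one] at hza
        rw [hza, zero_smul] at ht
        exact ha0 ht.symm
      obtain ⟨b, hxb, hab⟩ := exists_dual_pair Q hsep hli 0 1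
      have hba : polar Q b a = 1 := by rw [QuadraticMap.polar_comm]; exact hab
      have hb : Q (b + (-Q b) • a) = 0 := by rw [quad_map_add_smul, hba, ha]; ring
      set b' := b + (-Q b) • a with hb'
      have hxb' : polar Q x b' = 0 := by
        rw [hb', QuadraticMap.polar_add_right, hxb, QuadraticMap.polar_smul_right, hxa, smul_zero, add_zero]
      have hab' : polar Q a b' = 1 := by
        rw [hb', QuadraticMap.polar_add_right, hab, QuadraticMap.polar_smul_right,
          polar_self_of_singular Q ha, smul_zero, add_zero]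
      clear_value b'
      obtain ⟨β, hβ⟩ : ∃ β : F, polar Q w a + β ≠ 0 := by
        by_cases h1 : polar Q w a + 1 = 0
        · refine ⟨-1, fun h3 => h2 ?_⟩
          linear_combination h1 - h3
        · exact ⟨1, h1⟩
      set α := -(Q w + β * polar Q w b') / (polar Q w a + β) with hα
      have hαe : α * (polar Q w a + β) = -(Q w + β * polar Q w b') := by rw [hα, div_mul_cancel₀ _ hβ]
      have hdec : w = (w + α • a + β • b') + (-α) • a + (-β) • b' := by module
      have hQ1 : Q (w + α • a + β • b') = 0 := by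
        rw [quad_map_add_smul, quad_map_add_smul, QuadraticMap.polar_add_left,
          QuadraticMap.polar_smul_left, hb, ha, hab', smul_eq_mul]
        linear_combination hαe
      have hp1 : polar Q x (w + α • a + β • b') = 0 := by
        simp [QuadraticMap.polar_add_right, QuadraticMap.polar_smul_right, hw, hxa, hxb']
      have hp2 : polar Q x ((-α) • a) = 0 := by simp [QuadraticMap.polar_smul_right, hxa]
      have hp3 : polar Q x ((-β) • b') = 0 := by simp [QuadraticMap.polar_smul_right, hxb']
      rw [hdec, siegel_add Q hx (by rw [QuadraticMap.polar_add_right, hp1, hp2, add_zero]) hp3,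
        siegel_add Q hx hp1 hp2, map_mul, map_mul]
      exact mul_mem (mul_mem (hsing x _ hx hQ1 hp1) (hsing x _ hx (by rw [quad_smul, ha, mul_zero]) hp2))
        (hsing x _ hx (by rw [quad_smul, hb, mul_zero]) hp3)
    · rw [siegel_of_not Q h, map_one]; exact one_mem _
  · rintro g ⟨u, v, c, hu, hv, huv, hg⟩
    refine ⟨siegel Q u (c • v), siegel_mem Q _ _, Subtype.ext (Units.ext (Matrix.ext_iff_mulVec.2 fun z => ?_))⟩
    rw [MulEquiv.coe_toMonoidHom, orEquiv_mulVec, hroot u v c hu hv huv, hg, hmat]
end Cfsg.Agent.S0795
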