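import Cfsg.Statements.S0796

set_option autoImplicit false
open Cfsg

namespace Cfsg.Agent.S0796

/-- If G is finite and acts faithfully and primitively on X, H is the stabiliser of a point, A is a normal subgroup of H whose normal closure in G is G, then for every non-trivial normal subgroup K of G the quotient G ⧸ K is isomorphic to A ⧸ B for some normal subgroup B of A. -/
theorem result {G X : Type*} [Group G] [Finite G] [MulAction G X] [FaithfulSMul G X] (hprim : MulAction.IsPreprimitive G X) (x : X) (A : Subgroup G) (hA : A ≤ MulAction.stabilizer G x) (hAn : (A.subgroupOf (MulAction.stabilizer G x)).Normal) (hgen : Subgroup.normalClosure (A : Set G) = ⊤) (K : Subgroup G) [K.Normal] (hK : K ≠ ⊥) : ∃ (B : Subgroup A) (_ : B.Normal), Nonempty (G ⧸ K ≃* A ⧸ B) := by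
  haveI := hprim
  set H := MulAction.stabilizer G x with hH
  have hKfix : MulAction.fixedPoints K X ≠ Set.univ := by
    intro h
    apply hK
    rw [Subgroup.eq_bot_iff_forall]
    intro k hk
    refine eq_of_smul_eq_smul (α := X) fun y => ?_
    have hy : y ∈ MulAction.fixedPoints K X := h ▸ Set.mem_univ y
    simpa using hy ⟨k, hk⟩
  haveI : MulAction.IsPretransitive K X :=
    MulAction.IsQuasiPreprimitive.isPretransitive_of_normal hKfix
  have hAn' : ∀ h ∈ H, ∀ a ∈ A, h * a * h⁻¹ ∈ A := fun h hh a ha => by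
    have := hAn.conj_mem ⟨a, hA ha⟩ (by simpa [Subgroup.mem_subgroupOf] using ha) ⟨h, hh⟩
    simpa [Subgroup.mem_subgroupOf] using this
  have hnormA : H ≤ Subgroup.normalizer ((K ⊔ A : Subgroup G) : Set G) := by
    intro h hh
    rw [Subgroup.mem_normalizer_iff_map_conj_eq, Subgroup.map_sup]
    congr 1
    · exact Subgroup.Normal.map_conj_eq K h
    · refine le_antisymm ?_ ?_
      · rintro _ ⟨a, ha, rfl⟩
        exact hAn' h hh a ha
      · intro a ha
        refine ⟨h⁻¹ * a * h, ?_, by simp [mul_assoc]⟩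
        simpa using hAn' h⁻¹ (inv_mem hh) a ha
  have hN : Subgroup.normalizer ((K ⊔ A : Subgroup G) : Set G) = ⊤ := by
    rw [eq_top_iff]
    intro g _
    obtain ⟨⟨k, hk⟩, hkx⟩ := MulAction.exists_smul_eq K x (g • x)
    have hh : k⁻¹ * g ∈ H := by
      rw [hH, MulAction.mem_stabilizer_iff, mul_smul, ← hkx]
      exact inv_smul_smul k x
    have hkn : k ∈ Subgroup.normalizer ((K ⊔ A : Subgroup G) : Set G) :=
      Subgroup.le_normalizer (Subgroup.mem_sup_left hk)
    simpa using mul_mem hkn (hnormA hh)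
  haveI : (K ⊔ A).Normal := Subgroup.normalizer_eq_top_iff.1 hN
  have hKA : K ⊔ A = ⊤ := by
    rw [eq_top_iff, ← hgen]
    exact Subgroup.normalClosure_le_normal fun a ha => (le_sup_right : A ≤ K ⊔ A) ha
  let f : A →* G ⧸ K := (QuotientGroup.mk' K).comp A.subtype
  have hf : Function.Surjective f := by
    intro y
    obtain ⟨g, rfl⟩ := QuotientGroup.mk'_surjective K y
    have hg : g ∈ ((K ⊔ A : Subgroup G) : Set G) := by rw [hKA]; trivial
    rw [Subgroup.normal_mul] at hg
    obtain ⟨k, hk, a, ha, rfl⟩ := hg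
    refine ⟨⟨a, ha⟩, ?_⟩
    show QuotientGroup.mk' K a = QuotientGroup.mk' K (k * a)
    rw [map_mul, (QuotientGroup.eq_one_iff k).2 hk |> (fun e => show QuotientGroup.mk' K k = 1 from e), one_mul]
  exact ⟨f.ker, inferInstance, ⟨(QuotientGroup.quotientKerEquivOfSurjective f hf).symm⟩⟩

end Cfsg.Agent.S0796
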