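import Cfsg.Statements.S0797
import Cfsg.Agent.Lib.Geom.OmegaIndex

set_option autoImplicit false
open Cfsg

namespace Cfsg.Agent.S0797

/-- O^ε_2m(q) ≅ Ω.2² for q odd: if F is finite of odd characteristic, n ≥ 2 is even and Q has non-degenerate polar form on F^n, the isometry group of Q has exactly three subgroups of index 2. -/
theorem result {F : Type*} [Field F] [Fintype F] (h2 : (2 : F) ≠ 0) {n : ℕ} (hn : 2 ≤ n) (heven : Even n) (Q : QuadraticForm F (Fin n → F)) (hQ : (QuadraticMap.polarBilin Q).Nondegenerate) : Nat.card {H : Subgroup ↥(Cfsg.isometryGroup F ⇑Q) // H.index = 2} = 3 := by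
  classical
  have hsep := CfsgLib.Geom.sep_of_nondegenerate Q hQ
  set φ := CfsgLib.Geom.spinorHom Q hsep (CfsgLib.Geom.exGen_of_odd h2) with hφdef
  have hsurj : Function.Surjective φ :=
    CfsgLib.Geom.spinorHom_surjective_odd Q hsep _ h2 (by simpa using hn)
  have hker : φ.ker = commutator ↥(Cfsg.isometryGroup F ⇑Q) :=
    (CfsgLib.Geom.omega_eq_ker_spinorHom Q hsep (CfsgLib.Geom.exGen_of_odd h2)).symm
  have hcardT : Nat.card (Multiplicative (ZMod 2) × CfsgLib.Geom.SqClass F) = 4 := by
    rw [Nat.card_prod, CfsgLib.Geom.card_sqClass_odd h2]; simp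
  have hexp : ∀ x : Multiplicative (ZMod 2) × CfsgLib.Geom.SqClass F, x * x = 1 := fun x => Prod.ext
    (by
      have h : ∀ z : Multiplicative (ZMod 2), z * z = 1 := by decide
      exact h _)
    (CfsgLib.Geom.sqClass_mul_self _)
  have hord : ∀ x : Multiplicative (ZMod 2) × CfsgLib.Geom.SqClass F, x ≠ 1 →
      Nat.card (Subgroup.zpowers x) = 2 := fun x hx => by
    rw [Nat.card_zpowers]
    exact orderOf_eq_prime (by rw [pow_two]; exact hexp x) hx
  let e : {H : Subgroup ↥(Cfsg.isometryGroup F ⇑Q) // H.index = 2} ≃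
      {K : Subgroup (Multiplicative (ZMod 2) × CfsgLib.Geom.SqClass F) // K.index = 2} :=
    { toFun := fun H => ⟨H.1.map φ, by
        have hn' := Subgroup.normal_of_index_eq_two H.2
        have hab : φ.ker ≤ H.1 := by
          rw [hker, commutator_def, Subgroup.commutator_le]
          intro a _ b _
          rw [commutatorElement_def]
          have h1 := fun a b => Subgroup.mul_mem_iff_of_index_two H.2 (a := a) (b := b)
          rw [h1, h1, h1, inv_mem_iff, inv_mem_iff]
          tauto
        rw [Subgroup.index_map_eq _ hsurj hab, H.2]⟩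
      invFun := fun K => ⟨K.1.comap φ, by rw [Subgroup.index_comap_of_surjective _ hsurj, K.2]⟩
      left_inv := fun H => Subtype.ext (by
        have hab : φ.ker ≤ H.1 := by
          rw [hker, commutator_def, Subgroup.commutator_le]
          intro a _ b _
          rw [commutatorElement_def]
          have h1 := fun a b => Subgroup.mul_mem_iff_of_index_two H.2 (a := a) (b := b)
          rw [h1, h1, h1, inv_mem_iff, inv_mem_iff]
          tauto
        exact Subgroup.comap_map_eq_self hab)
      right_inv := fun K => Subtype.ext (Subgroup.map_comap_eq_self_of_surjective hsurj _) }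
  rw [Nat.card_congr e]
  let e2 : {x : Multiplicative (ZMod 2) × CfsgLib.Geom.SqClass F // x ≠ 1} →
      {K : Subgroup (Multiplicative (ZMod 2) × CfsgLib.Geom.SqClass F) // K.index = 2} := fun x =>
    ⟨Subgroup.zpowers x.1, by
      have := Subgroup.card_mul_index (Subgroup.zpowers x.1)
      rw [hord _ x.2, hcardT] at this
      omega⟩
  haveI : Finite (Multiplicative (ZMod 2) × CfsgLib.Geom.SqClass F) :=
    Nat.finite_of_card_ne_zero (by rw [hcardT]; norm_num)
  haveI : Fintype (Multiplicative (ZMod 2) × CfsgLib.Geom.SqClass F) := Fintype.ofFinite _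
  have he2 : Function.Bijective e2 := by
    constructor
    · intro x y hxy
      have h' : Subgroup.zpowers x.1 = Subgroup.zpowers y.1 := congrArg Subtype.val hxy
      have hy : y.1 ∈ Subgroup.zpowers x.1 := h' ▸ Subgroup.mem_zpowers y.1
      obtain ⟨k, hk⟩ := Subgroup.mem_zpowers_iff.1 hy
      rcases Int.even_or_odd k with ⟨j, rfl⟩ | ⟨j, rfl⟩
      · exfalso
        rw [zpow_add, ← mul_zpow, hexp, one_zpow] at hk
        exact y.2 hk.symm
      · rw [zpow_add, two_mul, zpow_add, ← mul_zpow, hexp, one_zpow, one_mul, zpow_one] at hk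
        exact Subtype.ext hk
    · intro K
      have hK := Subgroup.card_mul_index K.1
      rw [K.2, hcardT] at hK
      obtain ⟨⟨x, hx⟩, hx1'⟩ := Subgroup.ne_bot_iff_exists_ne_one.1
        ((Subgroup.one_lt_card_iff_ne_bot K.1).1 (by omega))
      have hx1 : x ≠ 1 := fun h => hx1' (Subtype.ext h)
      exact ⟨⟨x, hx1⟩, Subtype.ext (Subgroup.eq_of_le_of_card_ge (Subgroup.zpowers_le.2 hx)
        (by rw [hord x hx1]; omega))⟩
  rw [← Nat.card_congr (Equiv.ofBijective e2 he2), Nat.card_eq_fintype_card,
    Fintype.card_subtype_compl, Fintype.card_subtype_eq, ← Nat.card_eq_fintype_card, hcardT]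

end Cfsg.Agent.S0797
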