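import Cfsg.Statements.S0798
import Cfsg.Agent.Lib.Geom.ClassRefl
import Cfsg.Agent.Lib.Geom.OmegaIndex
-- import your own Cfsg.Agent.* helpers here

set_option autoImplicit false
open Cfsg CfsgLib.Geom

namespace Cfsg.Agent.S0798

/-- For q odd, n ≥ 2 even, Q with non-degenerate polar form (n, |F|) ≠ (4, 3), and a fixed c ≠ 0: the subgroup of the isometry group generated by the reflections r_v with Q(v) ∈ c·(F^×)² has index 2. -/
theorem result {F : Type*} [Field F] [Fintype F] (h2 : (2 : F) ≠ 0) {n : ℕ} (hn : 2 ≤ n) (heven : Even n) (Q : QuadraticForm F (Fin n → F)) (hQ : (QuadraticMap.polarBilin Q).Nondegenerate) (h43 : ¬ (n = 4 ∧ Fintype.card F = 3)) (c : F) (hc : c ≠ 0) : (Subgroup.closure {g : ↥(Cfsg.isometryGroup F ⇑Q) | ∃ (v : Fin n → F) (t : F), t ≠ 0 ∧ Q v = c * t ^ 2 ∧ ((g : Matrix.GeneralLinearGroup (Fin n) F) : Matrix (Fin n) (Fin n) F) = Cfsg.reflectionMatrix ⇑Q v}).index = 2 := by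
  have hQ' := sep_of_nondegenerate Q hQ
  set θ0 := spinorHom Q hQ' (exGen_of_odd h2)
  classical
  let f : SqClass F → Multiplicative (ZMod 2) := fun e =>
    if e = sqClass hc then 1 else Multiplicative.ofAdd 1
  obtain ⟨θ1, hθ1⟩ := exists_hom_of_two_classes sqClass_two f
    (fun e => (show ∀ y : Multiplicative (ZMod 2), y * y = 1 by decide) (f e))
  let θ := θ1.comp θ0
  obtain ⟨γ, hγ0, hγ⟩ := exists_not_square h2 (F := F)
  set d := γ * c with hdd
  have hd : d ≠ 0 := mul_ne_zero hγ0 hc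
  have hcd : ¬ IsSquare (d / c) := by rwa [hdd, mul_div_cancel_right₀ _ hc]
  set S := {g : ↥(Cfsg.isometryGroup F ⇑Q) | ∃ (v : Fin n → F) (t : F), t ≠ 0 ∧ Q v = c * t ^ 2 ∧
    ((g : Matrix.GeneralLinearGroup (Fin n) F) : Matrix (Fin n) (Fin n) F) =
      Cfsg.reflectionMatrix ⇑Q v}
  set K := Subgroup.closure S with hKdef
  let r : (v : Fin n → F) → Q v ≠ 0 → ↥(Cfsg.isometryGroup F ⇑Q) := fun v hv =>
    orEquiv Q ⟨reflEquiv Q v hv, reflEquiv_mem Q v hv⟩
  have hr : ∀ v hv, (((r v hv) : Matrix.GeneralLinearGroup (Fin n) F) : Matrix (Fin n) (Fin n) F) =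
      Cfsg.reflectionMatrix ⇑Q v := fun v hv => glOfEquiv_reflEquiv Q v hv
  have hθr : ∀ v hv, θ (r v hv) = f (sqClass hv) := fun v hv => by
    show θ1 (θ0 _) = _
    rw [spinorHom_refl Q hQ' _ _ hv (hr v hv), hθ1]
  have hcl : ∀ {x : F} (hx : x ≠ 0), (∃ t, t ≠ 0 ∧ x = c * t ^ 2) → sqClass hx = sqClass hc :=
    fun hx ⟨t, ht, e⟩ => (sqClass_eq_iff hx hc).2 ⟨t, ht, by rw [e]; ring⟩
  have hK : ∀ v hv, (∃ t, t ≠ 0 ∧ Q v = c * t ^ 2) → r v hv ∈ K :=
    fun v hv ⟨t, ht, e⟩ => Subgroup.subset_closure ⟨v, t, ht, e, hr v hv⟩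
  have hS : ∀ x ∈ S, ∃ v hv, (∃ t, t ≠ 0 ∧ Q v = c * t ^ 2) ∧ x = r v hv := by
    rintro x ⟨v, t, ht, e, hx⟩
    have hv : Q v ≠ 0 := by rw [e]; exact mul_ne_zero hc (pow_ne_zero 2 ht)
    exact ⟨v, hv, ⟨t, ht, e⟩, Subtype.ext (Units.ext (hx.trans (hr v hv).symm))⟩
  have hconj : ∀ (g : quadIsoms Q) v hv, orEquiv Q g * r v hv * (orEquiv Q g)⁻¹ =
      r (g.1 v) (by rwa [g.2 v]) := fun g v hv => by
    simp only [r, ← map_mul, ← map_inv]
    exact congrArg _ (Subtype.ext (conj_reflEquiv Q g.2 v hv))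
  have hnorm : K.Normal := by
    refine ⟨fun x hx g => ?_⟩
    suffices h : K ≤ K.comap (MulAut.conj g).toMonoidHom from h hx
    refine (Subgroup.closure_le _).2 fun x hx => ?_
    obtain ⟨v, hv, hv', rfl⟩ := hS x hx
    obtain ⟨g, rfl⟩ := (orEquiv Q).surjective g
    show orEquiv Q g * r v hv * (orEquiv Q g)⁻¹ ∈ K
    rw [hconj]
    exact hK _ _ (by rw [g.2 v]; exact hv')
  have hsame : ∀ u v hu hv, Q u = d → Q v = d → r u hu * r v hv ∈ K := by
    intro u v hu hv eu ev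
    let Ki : Subgroup ((Fin n → F) ≃ₗ[F] (Fin n → F)) :=
      (K.comap (orEquiv Q).toMonoidHom).map (quadIsoms Q).subtype
    obtain ⟨h, ⟨g, hg, rfl⟩, hguv⟩ := signConn_same (K := Ki) h2 hc hd hcd hQ'
      (fun h3 => by
        rw [Module.finrank_fin_fun]
        obtain ⟨m, rfl⟩ := heven
        by_contra hcon
        exact h43 ⟨by omega, h3⟩)
      (fun v hv hv' => ⟨⟨_, reflEquiv_mem Q v hv⟩, hK v hv hv', rfl⟩) eu ev
    have hgK : orEquiv Q g ∈ K := hg
    have e : r v hv = orEquiv Q g * r u hu * (orEquiv Q g)⁻¹ := by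
      rw [hconj]
      refine congrArg (orEquiv Q) (Subtype.ext ?_)
      rcases hguv with e | e
      · subst e; rfl
      · have e' : g.1 u = (-1 : F) • v := by rw [neg_one_smul]; exact e
        simp only [e']
        exact (reflEquiv_smul Q hv _).symm
    rw [e]
    have : r u hu * (orEquiv Q g * r u hu * (orEquiv Q g)⁻¹) =
        (r u hu * orEquiv Q g * (r u hu)⁻¹) * (orEquiv Q g)⁻¹ := by
      rw [show (r u hu)⁻¹ = r u hu by
        simp only [r, ← map_inv]; exact congrArg _ (Subtype.ext (reflEquiv_inv Q u hu))]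
      group
    rw [this]
    exact mul_mem (hnorm.conj_mem _ hgK _) (inv_mem hgK)
  obtain ⟨u0, hu0⟩ := exists_value Q h2 hQ' (by rw [Module.finrank_fin_fun]; exact hn) d hd
  have hu0' : Q u0 ≠ 0 := by rw [hu0]; exact hd
  set r0 := r u0 hu0' with hr0
  have hr00 : r0 * r0 = 1 := by
    simp only [hr0, r, ← map_mul]
    exact (congrArg (orEquiv Q) (Subtype.ext (reflEquiv_mul_self Q u0 hu0'))).trans (map_one _)
  have hθ0 : θ r0 = Multiplicative.ofAdd 1 := by
    rw [hr0, hθr]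
    refine if_neg fun h => ?_
    obtain ⟨t, -, e⟩ := (sqClass_eq_iff hu0' hc).1 h
    exact hcd ⟨t, by rw [← hu0, e]; field_simp⟩
  have hθK : K ≤ θ.ker := by
    refine (Subgroup.closure_le _).2 fun x hx => ?_
    obtain ⟨v, hv, hv', rfl⟩ := hS x hx
    exact (hθr v hv).trans (if_pos (hcl hv hv'))
  have hcases : ∀ g, g ∈ K ∨ r0 * g ∈ K := by
    have hrefl : ∀ v hv, r v hv ∈ K ∨ r0 * r v hv ∈ K := by
      intro v hv
      rcases class_split hc hd hcd hv with h | ⟨t, ht, e⟩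
      · exact Or.inl (hK v hv h)
      · right
        have hv' : Q (t⁻¹ • v) = d := by rw [quad_smul, e]; field_simp
        have : r v hv = r (t⁻¹ • v) (by rw [hv']; exact hd) :=
          congrArg (orEquiv Q) (Subtype.ext (reflEquiv_smul Q hv (by rw [hv']; exact hd)).symm)
        rw [this]
        exact hsame _ _ _ _ hu0 hv'
    intro g
    obtain ⟨⟨g, hg⟩, rfl⟩ := (orEquiv Q).surjective g
    have hg' := hg
    rw [quadIsoms_eq_closure Q hQ' (exGen_of_odd h2)] at hg'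
    induction hg' using Subgroup.closure_induction with
    | mem g hgS =>
      obtain ⟨v, hv, rfl⟩ := hgS
      exact hrefl v hv
    | one => exact Or.inl (by
        rw [show (⟨1, hg⟩ : quadIsoms Q) = 1 from rfl, map_one]; exact one_mem _)
    | mul a b ha hb iha ihb =>
      have ha' := reflSet_closure_le Q ha
      have hb' := reflSet_closure_le Q hb
      rw [show (⟨a * b, hg⟩ : quadIsoms Q) = ⟨a, ha'⟩ * ⟨b, hb'⟩ from rfl, map_mul]
      set A := orEquiv Q ⟨a, ha'⟩
      set B := orEquiv Q ⟨b, hb'⟩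
      rcases iha ha' with iA | iA <;> rcases ihb hb' with iB | iB
      · exact Or.inl (mul_mem iA iB)
      · right
        rw [show r0 * (A * B) = (r0 * A * r0⁻¹) * (r0 * B) by group]
        exact mul_mem (hnorm.conj_mem _ iA _) iB
      · right
        rw [← mul_assoc]
        exact mul_mem iA iB
      · left
        rw [show A * B = (r0⁻¹ * (r0 * A) * r0⁻¹⁻¹) * (r0 * r0)⁻¹ * (r0 * B) by group, hr00,
          inv_one, mul_one]
        exact mul_mem (hnorm.conj_mem _ iA _) iB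
    | inv a ha iha =>
      have ha' := reflSet_closure_le Q ha
      rw [show (⟨a⁻¹, hg⟩ : quadIsoms Q) = ⟨a, ha'⟩⁻¹ from rfl, map_inv]
      rcases iha ha' with iA | iA
      · exact Or.inl (inv_mem iA)
      · right
        rw [show r0 * (orEquiv Q ⟨a, ha'⟩)⁻¹ = r0 * (r0 * orEquiv Q ⟨a, ha'⟩)⁻¹ * r0⁻¹ * (r0 * r0) by
          group, hr00, mul_one]
        exact hnorm.conj_mem _ (inv_mem iA) _
  have hker : θ.ker = K := by
    refine le_antisymm (fun g hg => (hcases g).resolve_right fun h => ?_) hθK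
    have := hθK h
    rw [MonoidHom.mem_ker, map_mul, hθ0, MonoidHom.mem_ker.1 hg] at this
    exact absurd this (by decide)
  show K.index = 2
  rw [← hker, Subgroup.index_ker]
  have htop : θ.range = ⊤ := by
    rw [eq_top_iff]
    intro y _
    rcases (show ∀ y : Multiplicative (ZMod 2), y = 1 ∨ y = Multiplicative.ofAdd 1 by decide) y with
      rfl | rfl
    · exact one_mem _
    · exact ⟨r0, hθ0⟩
  rw [htop, Subgroup.card_top]
  simp
end Cfsg.Agent.S0798
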