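import Cfsg.Statements.S0799
import Cfsg.Agent.Lib.Geom.DicksonCases
import Cfsg.Agent.Lib.Geom.DicksonBorel
-- import your own Cfsg.Agent.* helpers here

set_option autoImplicit false
open Cfsg CfsgLib.Geom

namespace Cfsg.Agent.S0799

/-- Dickson's classification of the subgroups of PSL_2(q), q a power of the prime p, d = gcd(2, q − 1): every subgroup H is (a) cyclic or dihedral with k dividing (q+1)/d or (q−1)/d (cyclic of order k, or dihedral of order 2k), (b) isomorphic to a subgroup of the normaliser of a Sylow p-subgroup, (c) isomorphic to A_4, S_4 or A_5, or (d) isomorphic to PSL_2(K) or PGL_2(K) for a finite field K with |K|^m = q. -/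
theorem result {F : Type*} [Field F] [Fintype F] {q : ℕ} (hF : Fintype.card F = q) (p : ℕ) [Fact p.Prime] [CharP F p] (H : Subgroup (Matrix.ProjectiveSpecialLinearGroup (Fin 2) F)) : (∃ k : ℕ, (k ∣ (q + 1) / Nat.gcd 2 (q - 1) ∨ k ∣ (q - 1) / Nat.gcd 2 (q - 1)) ∧ ((IsCyclic H ∧ Nat.card H = k) ∨ Nonempty (H ≃* DihedralGroup k))) ∨ (∃ (P : Sylow p (Matrix.ProjectiveSpecialLinearGroup (Fin 2) F)) (K : Subgroup (Matrix.ProjectiveSpecialLinearGroup (Fin 2) F)), K ≤ Subgroup.normalizer ((P : Subgroup (Matrix.ProjectiveSpecialLinearGroup (Fin 2) F)) : Set (Matrix.ProjectiveSpecialLinearGroup (Fin 2) F)) ∧ Nonempty (H ≃* K)) ∨ Nonempty (H ≃* alternatingGroup (Fin 4)) ∨ Nonempty (H ≃* Equiv.Perm (Fin 4)) ∨ Nonempty (H ≃* alternatingGroup (Fin 5)) ∨ (∃ (K : Type) (_ : Field K) (_ : Fintype K) (m : ℕ), Fintype.card K ^ m = q ∧ (Nonempty (H ≃* Matrix.ProjectiveSpecialLinearGroup (Fin 2) K) ∨ Nonempty (H ≃* Matrix.ProjGenLinGroup (Fin 2) K))) := by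
  subst hF
  cases Moebius.dickson H with
  | cyclic k hk hc hcard => exact Or.inl ⟨k, hk, Or.inl ⟨hc, hcard⟩⟩
  | borel P h =>
    obtain ⟨S, K, hK, e⟩ := Moebius.exists_normalizer_image p H P h
    exact Or.inr (Or.inl ⟨S, K, hK, e⟩)
  | dihedral n hn hk hc hcard => exact Or.inl ⟨n, hk, Or.inr hc⟩
  | tetrahedral h hcard => exact Or.inr (Or.inr (Or.inl h))
  | octahedral h hcard => exact Or.inr (Or.inr (Or.inr (Or.inl h)))
  | icosahedral h hcard => exact Or.inr (Or.inr (Or.inr (Or.inr (Or.inl h))))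
  | subfieldPGL K u hu hK h hcard =>
    obtain ⟨m, -, hm⟩ := Moebius.subfield_card_pow K hK
    let _ : Fintype K := Fintype.ofFinite K
    obtain ⟨r, -, hr⟩ := FiniteField.card K p
    let _ : Fintype (GaloisField p (r : ℕ)) := Fintype.ofFinite _
    have hc : Fintype.card (GaloisField p (r : ℕ)) = Fintype.card K := by
      rw [← Nat.card_eq_fintype_card, GaloisField.card p _ r.ne_zero, hr]
    obtain ⟨e⟩ := h
    exact Or.inr (Or.inr (Or.inr (Or.inr (Or.inr ⟨GaloisField p (r : ℕ), inferInstance, inferInstance, m,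
      by rw [hc, ← Nat.card_eq_fintype_card, hK, hm],
      Or.inr ⟨e.trans (Moebius.pglCongr (FiniteField.ringEquivOfCardEq hc).symm)⟩⟩))))
  | subfieldPSL K u hu hK h hcard =>
    obtain ⟨m, -, hm⟩ := Moebius.subfield_card_pow K hK
    let _ : Fintype K := Fintype.ofFinite K
    obtain ⟨r, -, hr⟩ := FiniteField.card K p
    let _ : Fintype (GaloisField p (r : ℕ)) := Fintype.ofFinite _
    have hc : Fintype.card (GaloisField p (r : ℕ)) = Fintype.card K := by
      rw [← Nat.card_eq_fintype_card, GaloisField.card p _ r.ne_zero, hr]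
    obtain ⟨e⟩ := h
    exact Or.inr (Or.inr (Or.inr (Or.inr (Or.inr ⟨GaloisField p (r : ℕ), inferInstance, inferInstance, m,
      by rw [hc, ← Nat.card_eq_fintype_card, hK, hm],
      Or.inl ⟨e.trans (Moebius.pslCongr (FiniteField.ringEquivOfCardEq hc).symm)⟩⟩))))
end Cfsg.Agent.S0799
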