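import Cfsg.Statements.S0800
-- import your own Cfsg.Agent.* helpers here

set_option autoImplicit false
open Cfsg

namespace Cfsg.Agent.S0800

/-- Tori of SL_2(q): if g ∈ SL_2(q) has order coprime to the characteristic p, then the order of g divides q − 1 or q + 1. -/
theorem result {F : Type*} [Field F] [Fintype F] {q : ℕ} (hF : Fintype.card F = q) (p : ℕ) [Fact p.Prime] [CharP F p] (g : Matrix.SpecialLinearGroup (Fin 2) F) (hg : Nat.Coprime (orderOf g) p) : orderOf g ∣ q - 1 ∨ orderOf g ∣ q + 1 := by
  classical
  set M := (g : Matrix (Fin 2) (Fin 2) F) with hM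
  have hp := (Fact.out : p.Prime)
  have hfr : ∀ a : F, a ^ q = a := fun a => by rw [← hF]; exact FiniteField.pow_card a
  set t := M 0 0 + M 1 1 with ht
  have hdet : M 0 0 * M 1 1 - M 0 1 * M 1 0 = 1 := by rw [← Matrix.det_fin_two]; exact g.2
  set f : Polynomial F := Polynomial.X ^ 2 - Polynomial.C t * Polynomial.X + 1 with hf
  have hgf : Polynomial.aeval M f = 0 := by
    simp only [hf, map_add, map_sub, map_pow, map_mul, map_one, Polynomial.aeval_X, Polynomial.aeval_C]
    ext i j
    fin_cases i <;> fin_cases j <;>
      simp [pow_two, Matrix.mul_apply, Fin.sum_univ_two, Matrix.algebraMap_eq_diagonal, ht] <;>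
      (first | ring1 | linear_combination hdet | linear_combination -hdet)
  have key : ∀ k, M ^ k = 1 → g ^ k = 1 := fun k hk => Subtype.ext (by simpa [hM] using hk)
  by_cases hroot : ∃ r, f.IsRoot r
  · obtain ⟨r, hr⟩ := hroot
    have hr' : r * r - t * r + 1 = 0 := by simpa [hf, pow_two] using hr
    have hr0 : r ≠ 0 := fun h => by rw [h] at hr'; simp at hr'
    have hs0 : t - r ≠ 0 := fun h => one_ne_zero (by linear_combination hr' + r * h : (1 : F) = 0)
    have hq1 : ∀ a : F, a ≠ 0 → a ^ (q - 1) = 1 := fun a ha => by
      rw [← hF]; exact FiniteField.pow_card_sub_one_eq_one a ha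
    have hd : ∀ a : F, a ≠ 0 →
        (Polynomial.X - Polynomial.C a) ∣ (Polynomial.X ^ (q - 1) - 1 : Polynomial F) := fun a ha =>
      Polynomial.dvd_iff_isRoot.2 (by simp [hq1 a ha])
    have hfd : f ∣ (Polynomial.X ^ (q - 1) - 1 : Polynomial F) ^ 2 := by
      rw [pow_two]
      refine dvd_trans (dvd_of_eq ?_) (mul_dvd_mul (hd r hr0) (hd (t - r) hs0))
      rw [hf, show (1 : Polynomial F) = Polynomial.C (r * (t - r)) by
        rw [show r * (t - r) = 1 by linear_combination -hr', map_one]]
      simp only [map_mul, map_sub]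
      ring
    obtain ⟨A, hA⟩ := hfd
    have h2 : (M ^ (q - 1) - 1) ^ 2 = 0 := by
      have := congrArg (Polynomial.aeval M) hA
      rw [map_mul, hgf, zero_mul] at this
      simpa using this
    have : CharP (Matrix (Fin 2) (Fin 2) F) p := inferInstance
    have h3 : M ^ ((q - 1) * p) = 1 := by
      have h4 : (M ^ (q - 1) - 1) ^ p = (M ^ (q - 1)) ^ p - 1 ^ p :=
        sub_pow_char_of_commute p (Commute.one_right _)
      rw [one_pow] at h4
      rw [← sub_eq_zero, pow_mul, ← h4, ← Nat.sub_add_cancel hp.two_le, pow_add, h2, mul_zero]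
    exact Or.inl (hg.dvd_of_dvd_mul_right (orderOf_dvd_of_pow_eq_one (key _ h3)))
  · have hirr : Irreducible f := by
      have hd2 : f.natDegree = 2 := by rw [hf]; compute_degree!
      refine (Polynomial.irreducible_iff_roots_eq_zero_of_degree_le_three ?_ ?_).2 ?_
      · omega
      · omega
      · exact Multiset.eq_zero_of_forall_notMem fun r hr => hroot ⟨r, (Polynomial.mem_roots'.1 hr).2⟩
    have := Fact.mk hirr
    let K := AdjoinRoot f
    have hx0 : Polynomial.aeval (AdjoinRoot.root f) f = 0 := by
      rw [AdjoinRoot.aeval_eq, AdjoinRoot.mk_self]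
    set x := AdjoinRoot.root f with hxdef
    have hx : x ^ 2 - AdjoinRoot.of f t * x + 1 = 0 := by
      simpa [hf, AdjoinRoot.algebraMap_eq] using hx0
    obtain ⟨n, -, hn⟩ := FiniteField.card F p
    have : CharP K p := charP_of_injective_ringHom (AdjoinRoot.of f).injective p
    let φ : K →+* K := iterateFrobenius K p n
    have hφ : ∀ a : K, φ a = a ^ q := fun a => by rw [iterateFrobenius_def, ← hF, hn]
    have hxq : (x ^ q) ^ 2 - AdjoinRoot.of f t * x ^ q + 1 = 0 := by
      have h1 := congrArg φ hx
      rw [map_add, map_sub, map_mul, map_pow, map_one, map_zero, hφ, hφ, ← map_pow, hfr] at h1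
      exact h1
    have hne : x ^ q ≠ x := by
      intro h
      -- the roots of `X ^ q - X` are the elements of `F`
      let P : Polynomial K := Polynomial.X ^ q - Polynomial.X
      have hq2 : 1 < q := hF ▸ Fintype.one_lt_card
      have hP0 : P ≠ 0 := FiniteField.X_pow_card_sub_X_ne_zero K hq2
      have hroots : insert x (Finset.univ.image (AdjoinRoot.of f)) ⊆ P.roots.toFinset := by
        intro a ha
        rw [Multiset.mem_toFinset, Polynomial.mem_roots hP0]
        rcases Finset.mem_insert.1 ha with rfl | ha
        · simp [P, h]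
        · obtain ⟨b, -, rfl⟩ := Finset.mem_image.1 ha
          simp [P, ← map_pow, hfr]
      have hxn : x ∉ Finset.univ.image (AdjoinRoot.of f) := by
        simp only [Finset.mem_image, Finset.mem_univ, true_and, not_exists]
        intro b hb
        apply hroot
        refine ⟨b, (AdjoinRoot.of f).injective ?_⟩
        rw [map_zero]
        simp only [hf, Polynomial.eval_add, Polynomial.eval_sub, Polynomial.eval_pow, Polynomial.eval_mul,
          Polynomial.eval_X, Polynomial.eval_C, Polynomial.eval_one, map_add, map_sub, map_pow, map_mul,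
          map_one, hb]
        exact hx
      have h1 := Finset.card_le_card hroots
      rw [Finset.card_insert_of_notMem hxn, Finset.card_image_of_injective _ (AdjoinRoot.of f).injective,
        Finset.card_univ, hF] at h1
      have h2 := (Multiset.toFinset_card_le P.roots).trans (Polynomial.card_roots' P)
      rw [FiniteField.X_pow_card_sub_X_natDegree_eq K hq2] at h2
      omega
    have hsum : x ^ q = AdjoinRoot.of f t - x := by
      have : (x ^ q - x) * (x ^ q + x - AdjoinRoot.of f t) = 0 := by linear_combination hxq - hx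
      rcases mul_eq_zero.1 this with h | h
      · exact absurd (sub_eq_zero.1 h) hne
      · linear_combination h
    have hx1 : x ^ (q + 1) = 1 := by
      rw [pow_succ, hsum]; linear_combination -hx
    refine Or.inr (orderOf_dvd_of_pow_eq_one (key _ ?_))
    have hdvd : f ∣ Polynomial.X ^ (q + 1) - 1 := by
      rw [← AdjoinRoot.mk_eq_zero, map_sub, map_pow, map_one, AdjoinRoot.mk_X, ← hxdef, hx1, sub_self]
    obtain ⟨A, hA⟩ := hdvd
    have := congrArg (Polynomial.aeval M) hA
    rw [map_mul, hgf, zero_mul] at this
    simpa [sub_eq_zero] using this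
end Cfsg.Agent.S0800
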