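import Cfsg.Statements.S0802
import Cfsg.Agent.Lib.Geom.PSLTwoTetra
import Cfsg.Agent.Lib.Geom.MoebiusCharTwo
import Cfsg.Agent.Lib.Geom.SubfieldPSL
import Cfsg.Agent.S0252
-- import your own Cfsg.Agent.* helpers here

set_option autoImplicit false
open Cfsg CfsgLib.Geom

namespace Cfsg.Agent.S0802

/-- PSL_2(p^n) has a subgroup isomorphic to A_4 if and only if it is not the case that p = 2 and n is odd. -/
theorem result {F : Type*} [Field F] [Fintype F] (p n : ℕ) [Fact p.Prime] [CharP F p] (hF : Fintype.card F = p ^ n) : (∃ H : Subgroup (Matrix.ProjectiveSpecialLinearGroup (Fin 2) F), Nonempty (H ≃* alternatingGroup (Fin 4))) ↔ ¬ (p = 2 ∧ Odd n) := by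
  classical
  have hn : n ≠ 0 := fun e => by
    have := Fintype.one_lt_card (α := F)
    rw [hF, e, pow_zero] at this
    omega
  by_cases h2 : (2 : F) = 0
  · have hp : p = 2 := by
      have : p ∣ 2 := (CharP.cast_eq_zero_iff F p 2).1 (by exact_mod_cast h2)
      exact (Nat.prime_dvd_prime_iff_eq Fact.out Nat.prime_two).1 this
    subst hp
    constructor
    · rintro ⟨H, ⟨i⟩⟩ ⟨-, hodd⟩
      set f := Matrix.ProjectiveSpecialLinearGroup.toPGL (n := Fin 2) (R := F)
      have hf := Matrix.ProjectiveSpecialLinearGroup.toPGL_injective (n := Fin 2) (R := F)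
      let φ : alternatingGroup (Fin 4) →* Matrix.ProjGenLinGroup (Fin 2) F :=
        f.comp (H.subtype.comp i.symm.toMonoidHom)
      have hφ : Function.Injective φ := hf.comp (H.subtype_injective.comp i.symm.injective)
      obtain ⟨v, hv1, hv⟩ : ∃ v : alternatingGroup (Fin 4), v * v = 1 ∧ v ≠ 1 := by decide +kernel
      obtain ⟨t, ht, ht1, w, hw, hw1, hvw⟩ : ∃ t : alternatingGroup (Fin 4), t ^ 3 = 1 ∧ t ≠ 1 ∧
          ∃ w : alternatingGroup (Fin 4), w * w = 1 ∧ w ≠ 1 ∧
            ∀ v : alternatingGroup (Fin 4), v * v = 1 → v * w = w * v ∧ t * v * t⁻¹ * w = w * (t * v * t⁻¹) := by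
        decide +kernel
      have hφ2 : ∀ x, x * x = 1 → φ x * φ x = 1 := fun x hx => by rw [← map_mul, hx, map_one]
      have hne : ∀ x, x ≠ 1 → φ x ≠ 1 := fun x hx e => hx (hφ (e.trans (map_one φ).symm))
      obtain ⟨P, hwP, hwu⟩ := Moebius.involution_unique_fixed h2 (hφ2 w hw) (hne w hw1)
      have hcomm : ∀ x, x * x = 1 → φ x • P = P := fun x hx => hwu _ (by
        rw [← mul_smul, ← map_mul, ← (hvw x hx).1, map_mul, mul_smul, hwP])
      have htP : φ t • P = P := by
        obtain ⟨Q, hQ, hQu⟩ := Moebius.involution_unique_fixed h2 (hφ2 w hw) (hne w hw1)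
        have hw' : (t⁻¹ * w * t) * (t⁻¹ * w * t) = 1 := by
          rw [show t⁻¹ * w * t * (t⁻¹ * w * t) = t⁻¹ * (w * w) * t by group, hw]; group
        have h1 := hcomm _ hw'
        rw [map_mul, map_mul, map_inv, mul_smul, mul_smul, inv_smul_eq_iff] at h1
        exact hwu _ h1
      obtain ⟨m, hm⟩ := Moebius.exists_map1 P
      subst hm
      have hfix : (m⁻¹ * φ t * m) • (Moebius.inf : Moebius.Line F) = Moebius.inf := by
        rw [mul_smul, mul_smul, htP, inv_smul_smul]
      obtain ⟨a, b, hab⟩ := Moebius.exists_aff_of_fix hfix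
      have h3 : (m⁻¹ * φ t * m) ^ 3 = 1 := by
        rw [pow_three, show m⁻¹ * φ t * m * (m⁻¹ * φ t * m * (m⁻¹ * φ t * m)) = m⁻¹ * (φ t * (φ t * φ t)) * m by group,
          ← pow_three, ← map_pow, ht, map_one]
        group
      rw [hab, pow_three, Moebius.aff_mul, Moebius.aff_mul, ← Moebius.aff_one] at h3
      obtain ⟨ha3, hb3⟩ := Moebius.aff_inj h3
      have ha1 : a = 1 := by
        have hd : orderOf a ∣ Nat.gcd 3 (Fintype.card Fˣ) := Nat.dvd_gcd
          (orderOf_dvd_of_pow_eq_one (by rw [pow_three]; exact ha3)) orderOf_dvd_card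
        have hc : ¬ 3 ∣ Fintype.card Fˣ := by
          rw [Fintype.card_units, hF]
          obtain ⟨j, rfl⟩ := hodd
          intro hdvd
          have hmod : 2 ^ (2 * j + 1) % 3 = 2 := by
            rw [pow_succ, pow_mul, Nat.mul_mod, Nat.pow_mod]; norm_num
          have hpos : 1 ≤ 2 ^ (2 * j + 1) := Nat.one_le_two_pow
          generalize 2 ^ (2 * j + 1) = Q at hdvd hmod hpos
          omega
        rw [(Nat.prime_three.coprime_iff_not_dvd.2 hc : Nat.gcd 3 (Fintype.card Fˣ) = 1), Nat.dvd_one,
          orderOf_eq_one_iff] at hd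
        exact hd
      subst ha1
      refine hne t ht1 ?_
      have hb : b = 0 := by
        rw [Units.val_one, one_mul, one_mul] at hb3
        linear_combination hb3 - b * h2
      rw [hb, Moebius.aff_one, mul_eq_one_iff_eq_inv, inv_mul_eq_iff_eq_mul, mul_inv_cancel] at hab
      exact hab
    · intro hne
      have heven : Even n := by
        rcases Nat.even_or_odd n with h | h
        · exact h
        · exact absurd ⟨rfl, h⟩ hne
      obtain ⟨j, rfl⟩ := heven
      let _ : Fintype (GaloisField 2 2) := Fintype.ofFinite _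
      have h4 : Fintype.card (GaloisField 2 2) = 4 := by
        rw [← Nat.card_eq_fintype_card, GaloisField.card 2 2 two_ne_zero]; rfl
      obtain ⟨e⟩ := Moebius.exists_ringHom_of_card_pow (GaloisField 2 2) F j (by omega)
        (by rw [h4, hF, ← two_mul, pow_mul]; rfl)
      obtain ⟨H, ⟨i⟩⟩ := Moebius.exists_psl_subfield e
      obtain ⟨i5⟩ := Cfsg.Agent.S0252.result h4
      let φ : alternatingGroup (Fin 4) →* alternatingGroup (Fin 5) :=
        ((Equiv.Perm.viaEmbeddingHom (Fin.castSuccEmb : Fin 4 ↪ Fin 5)).comp (alternatingGroup (Fin 4)).subtype).codRestrict _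
          (fun x => by
            refine Equiv.Perm.mem_alternatingGroup.2 ?_
            show Equiv.Perm.sign (Equiv.Perm.viaEmbedding x.1 _) = 1
            rw [Equiv.Perm.viaEmbedding, Equiv.Perm.sign_extendDomain]
            exact x.2)
      have hφ : Function.Injective φ := fun x y e => Subtype.ext
        (Equiv.Perm.viaEmbeddingHom_injective _ (congrArg Subtype.val e))
      let ψ := H.subtype.comp ((i.trans i5).symm.toMonoidHom.comp φ)
      exact ⟨ψ.range, ⟨(MonoidHom.ofInjective (f := ψ)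
        (H.subtype_injective.comp ((i.trans i5).symm.injective.comp hφ))).symm⟩⟩
  · refine ⟨fun _ h => h2 ?_, fun _ => SL2Anti.exists_altFour_psl h2⟩
    obtain ⟨rfl, -⟩ := h
    exact_mod_cast CharP.cast_eq_zero F 2
end Cfsg.Agent.S0802
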