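import Cfsg.Statements.S0803
import Cfsg.Agent.Lib.Geom.PSLTwoTetra
import Cfsg.Agent.Lib.Geom.MoebiusCharTwo
import Cfsg.Agent.Lib.Geom.SubfieldPSL
import Cfsg.Agent.Lib.Classical.StdQuad
-- import your own Cfsg.Agent.* helpers here

set_option autoImplicit false
open Cfsg CfsgLib.Geom

namespace Cfsg.Agent.S0803

/-- PSL_2(q) has a subgroup isomorphic to S_4 iff q² ≡ 1 (mod 16). -/
theorem result {F : Type*} [Field F] [Fintype F] {q : ℕ} (hF : Fintype.card F = q) : (∃ H : Subgroup (Matrix.ProjectiveSpecialLinearGroup (Fin 2) F), Nonempty (H ≃* Equiv.Perm (Fin 4))) ↔ q ^ 2 % 16 = 1 := by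
  classical
  subst hF
  set q := Fintype.card F with hq
  have hcard := CfsgLib.Classical.card_psl_two_mul (F := F)
  rw [← hq] at hcard
  constructor
  · rintro ⟨H, ⟨i⟩⟩
    by_cases h2 : (2 : F) = 0
    · exfalso
      set f := Matrix.ProjectiveSpecialLinearGroup.toPGL (n := Fin 2) (R := F)
      let φ : Equiv.Perm (Fin 4) →* Matrix.ProjGenLinGroup (Fin 2) F :=
        f.comp (H.subtype.comp i.symm.toMonoidHom)
      have hφ : Function.Injective φ :=
        Matrix.ProjectiveSpecialLinearGroup.toPGL_injective.comp (H.subtype_injective.comp i.symm.injective)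
      obtain ⟨x, hx, hx2⟩ : ∃ x : Equiv.Perm (Fin 4), (x * x) * (x * x) = 1 ∧ x * x ≠ 1 := by decide +kernel
      have hy : φ (x * x) * φ (x * x) = 1 := by rw [← map_mul, hx, map_one]
      obtain ⟨P, hP, hPu⟩ := Moebius.involution_unique_fixed h2 hy (fun e => hx2 (hφ (e.trans (map_one φ).symm)))
      have hxP : φ x • P = P := hPu _ (by
        rw [← mul_smul, ← map_mul, mul_assoc, map_mul, mul_smul, hP])
      obtain ⟨m, rfl⟩ := Moebius.exists_map1 P
      have hfix : (m⁻¹ * φ x * m) • (Moebius.inf : Moebius.Line F) = Moebius.inf := by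
        rw [mul_smul, mul_smul, hxP, inv_smul_smul]
      obtain ⟨a, b, hab⟩ := Moebius.exists_aff_of_fix hfix
      have h4 : Moebius.aff (a * a) ((a : F) * b + b) * Moebius.aff (a * a) ((a : F) * b + b) =
          Moebius.aff (1 : Fˣ) 0 := by
        rw [← Moebius.aff_mul, ← hab, Moebius.aff_one,
          show m⁻¹ * φ x * m * (m⁻¹ * φ x * m) * (m⁻¹ * φ x * m * (m⁻¹ * φ x * m)) = m⁻¹ * (φ x * φ x * (φ x * φ x)) * m by group,
          ← map_mul, ← map_mul, hx, map_one]
        group
      rw [Moebius.aff_mul] at h4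
      have haa := Moebius.sq_eq_one_charTwo h2 (Moebius.aff_inj h4).1
      have ha := Moebius.sq_eq_one_charTwo h2 haa
      subst ha
      refine hx2 (hφ ?_)
      rw [map_one, map_mul]
      have hz : m⁻¹ * φ x * m * (m⁻¹ * φ x * m) = 1 := by
        rw [hab, Moebius.aff_mul, one_mul, Units.val_one, one_mul,
          show b + b = 0 by linear_combination b * h2, Moebius.aff_one]
      rw [show m⁻¹ * φ x * m * (m⁻¹ * φ x * m) = m⁻¹ * (φ x * φ x) * m by group, mul_eq_one_iff_eq_inv,
        inv_mul_eq_iff_eq_mul, mul_inv_cancel] at hz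
      exact hz
    · have hodd : Odd q := Nat.odd_iff.2 (FiniteField.odd_card_of_char_ne_two (ringChar_ne_two_of_ne h2))
      obtain ⟨j, hj⟩ := hodd
      have hg : Nat.gcd 2 (q - 1) = 2 := Nat.gcd_eq_left ⟨j, by omega⟩
      have hdvd : 24 ∣ Nat.card (Matrix.ProjectiveSpecialLinearGroup (Fin 2) F) := by
        have h := H.card_subgroup_dvd_card
        rwa [Nat.card_congr i.toEquiv, Nat.card_perm, Nat.card_fin] at h
      obtain ⟨c, hc⟩ := hdvd
      rw [hg, hc] at hcard
      have h16 : 16 ∣ q * (q ^ 2 - 1) := ⟨3 * c, by omega⟩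
      have hco : Nat.Coprime 16 q := by
        rw [show (16 : ℕ) = 2 ^ 4 from rfl]
        exact (Nat.prime_two.coprime_iff_not_dvd.2 (by omega)).pow_left 4
      obtain ⟨d, hd⟩ := hco.dvd_of_dvd_mul_left h16
      have hpos : 1 ≤ q ^ 2 := Nat.one_le_pow _ _ (by omega)
      omega
  · intro h
    have hmod : q % 8 = 1 ∨ q % 8 = 7 := by
      rw [Nat.pow_mod] at h
      have : q % 16 < 16 := Nat.mod_lt _ (by norm_num)
      have h8 : q % 16 % 8 = q % 8 := Nat.mod_mod_of_dvd q (by norm_num)
      generalize q % 16 = r at h this h8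
      interval_cases r <;> omega
    have h2 : (2 : F) ≠ 0 := CfsgLib.Classical.two_ne_zero_of_odd (F := F) (by
      rw [Nat.odd_iff, ← hq]; omega)
    exact SL2Anti.exists_permFour_psl h2 (FiniteField.isSquare_two_iff.2 (by omega))
end Cfsg.Agent.S0803
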