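import Cfsg.Statements.S0804
import Cfsg.Agent.Lib.Geom.Icosahedral
import Cfsg.Agent.Lib.Geom.SubfieldPSL
import Cfsg.Agent.Lib.Geom.FiniteField
import Cfsg.Agent.Lib.Classical.PSLTwoPerm
import Cfsg.Agent.S0252
-- import your own Cfsg.Agent.* helpers here

set_option autoImplicit false
open Cfsg CfsgLib.Geom

namespace Cfsg.Agent.S0804

/-- PSL_2(q) has a subgroup isomorphic to A_5 iff 5 ∣ q(q² − 1). -/
theorem result {F : Type*} [Field F] [Fintype F] {q : ℕ} (hF : Fintype.card F = q) : (∃ H : Subgroup (Matrix.ProjectiveSpecialLinearGroup (Fin 2) F), Nonempty (H ≃* alternatingGroup (Fin 5))) ↔ 5 ∣ q * (q ^ 2 - 1) := by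
  classical
  subst hF
  constructor
  · rintro ⟨H, ⟨i⟩⟩
    have hd := H.card_subgroup_dvd_card
    rw [Nat.card_congr i.toEquiv, nat_card_alternatingGroup, Nat.card_fin] at hd
    rw [← CfsgLib.Classical.card_psl_two_mul]
    exact Dvd.dvd.mul_left ((show 5 ∣ (5 : ℕ).factorial / 2 from ⟨12, rfl⟩).trans hd) _
  · intro h5
    by_cases h2 : (2 : F) = 0
    · have hc2 : ringChar F = 2 :=
        ((Nat.dvd_prime Nat.prime_two).1 ((ringChar.spec F 2).1 (by exact_mod_cast h2))).resolve_left
          CharP.ringChar_ne_one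
      have : Fact (Nat.Prime 2) := ⟨Nat.prime_two⟩
      have : CharP F 2 := hc2 ▸ ringChar.charP F
      obtain ⟨n, -, hn⟩ := FiniteField.card F 2
      have heven : Even (n : ℕ) := by
        rcases Nat.even_or_odd (n : ℕ) with h | ⟨j, hj⟩
        · exact h
        · exfalso
          rw [hn, hj] at h5
          have hp : Nat.Coprime 5 (2 ^ (2 * j + 1)) := (show Nat.Coprime 5 2 by norm_num).pow_right _
          have h := hp.dvd_of_dvd_mul_left h5
          have hm : (2 ^ (2 * j + 1)) ^ 2 % 5 = 4 := by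
            rw [← pow_mul, show (2 * j + 1) * 2 = 4 * j + 2 by ring, pow_add, pow_mul, Nat.mul_mod, Nat.pow_mod]
            norm_num
          have h1 : 1 ≤ (2 ^ (2 * j + 1)) ^ 2 := Nat.one_le_pow _ _ (Nat.two_pow_pos _)
          generalize (2 ^ (2 * j + 1)) ^ 2 = Q at h hm h1
          omega
      obtain ⟨j, hj⟩ := heven
      let _ : Fintype (GaloisField 2 2) := Fintype.ofFinite _
      have h4 : Fintype.card (GaloisField 2 2) = 4 := by
        rw [← Nat.card_eq_fintype_card, GaloisField.card 2 2 two_ne_zero]; rfl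
      have hpos := n.pos
      obtain ⟨e⟩ := Moebius.exists_ringHom_of_card_pow (GaloisField 2 2) F j (by omega)
        (by rw [h4, hn, hj, ← two_mul, pow_mul]; rfl)
      obtain ⟨H, ⟨i⟩⟩ := Moebius.exists_psl_subfield e
      obtain ⟨i5⟩ := Cfsg.Agent.S0252.result h4
      exact ⟨H, ⟨i.trans i5⟩⟩
    · have hchar : ringChar F ≠ 2 := ringChar_ne_two_of_ne h2
      have key : ∀ y : ZMod 5, y * (y ^ 2 - 1) = 0 → ∃ t, y = t * t ∧ ∃ u, -y = u * u := by decide +kernel
      have : Fact (Nat.Prime 5) := ⟨by norm_num⟩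
      have hsq : IsSquare (5 : F) := by
        have h := (FiniteField.isSquare_odd_prime_iff (F := F) hchar (p := 5) (by norm_num)).2 ?_
        · exact_mod_cast h
        · intro hneg
          have h5' : ((Fintype.card F * (Fintype.card F ^ 2 - 1) : ℕ) : ZMod 5) = 0 :=
            (ZMod.natCast_eq_zero_iff _ 5).2 h5
          rw [Nat.cast_mul, Nat.cast_sub (Nat.one_le_pow _ _ Fintype.card_pos), Nat.cast_pow, Nat.cast_one] at h5'
          obtain ⟨t, ht, u, hu⟩ := key _ h5'
          refine (quadraticChar_neg_one_iff_not_isSquare.1 hneg) ?_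
          rcases ZMod.isQuadratic_χ₄ (Fintype.card F : ZMod 4) with e | e | e <;> rw [e]
          · exact ⟨0, by simp⟩
          · exact ⟨t, by push_cast; rw [one_mul]; exact ht⟩
          · exact ⟨u, by push_cast; rw [neg_one_mul]; exact hu⟩
      obtain ⟨c, hc⟩ := hsq
      obtain ⟨r, s, hrs⟩ := CfsgLib.Geom.exists_binary_eq (F := F) h2 one_ne_zero one_ne_zero (-1 : F)
      refine Icosahedral.exists_altFive ((1 + c) / 2) r s h2 ?_ ?_
      · field_simp
        linear_combination -hc
      · linear_combination hrs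
end Cfsg.Agent.S0804
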