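import Cfsg.Statements.S0807
import Cfsg.Agent.Lib.Geom.SL2Klein
import Cfsg.Agent.Lib.Classical.StdQuad
-- import your own Cfsg.Agent.* helpers here

set_option autoImplicit false
open Cfsg CfsgLib.Geom

namespace Cfsg.Agent.S0807

/-- For q odd, twelve times the number of Klein four-subgroups of PSL_2(q) equals the order of PSL_2(q). -/
theorem result {F : Type*} [Field F] [Fintype F] {q : ℕ} (hF : Fintype.card F = q) (hodd : Odd q) : 12 * Nat.card {V : Subgroup (Matrix.ProjectiveSpecialLinearGroup (Fin 2) F) // IsKleinFour V} = Nat.card (Matrix.ProjectiveSpecialLinearGroup (Fin 2) F) := by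
  classical
  subst hF
  have h2 : (2 : F) ≠ 0 := CfsgLib.Classical.two_ne_zero_of_odd hodd
  set X := {p : Matrix.SpecialLinearGroup (Fin 2) F × Matrix.SpecialLinearGroup (Fin 2) F // SL2Anti.Anti p.1 p.2}
  let KV := {V : Subgroup (Matrix.ProjectiveSpecialLinearGroup (Fin 2) F) // IsKleinFour V}
  let f : X → KV := fun p => ⟨SL2Anti.VP p.1.1 p.1.2, SL2Anti.isKleinFour_VP h2 p.2⟩
  have hk : Nat.card (Subgroup.center (Matrix.SpecialLinearGroup (Fin 2) F)) = 2 := by
    rw [Nat.card_eq_two_iff]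
    refine ⟨⟨1, one_mem _⟩, ⟨-1, (SL2Anti.mem_center_iff_sign h2).2 (Or.inr rfl)⟩,
      fun e => SL2Anti.one_ne_neg_one h2 (congrArg Subtype.val e), Set.eq_univ_of_forall fun z => ?_⟩
    rcases (SL2Anti.mem_center_iff_sign h2).1 z.2 with e | e
    · exact Or.inl (Subtype.ext e)
    · exact Or.inr (Set.mem_singleton_iff.2 (Subtype.ext e))
  have hfib : ∀ V : KV, Nat.card {p : X // f p = V} = 24 := by
    rintro ⟨V, hV⟩
    have : Fintype V := Fintype.ofFinite _
    let S := {p : V × V // p.1 ≠ 1 ∧ p.2 ≠ 1 ∧ p.1 ≠ p.2}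
    have hS : Nat.card S = 6 := by
      rw [Nat.card_eq_fintype_card, Fintype.card_subtype]
      have e : (Finset.univ.filter fun p : V × V => p.1 ≠ 1 ∧ p.2 ≠ 1 ∧ p.1 ≠ p.2) =
          (Finset.univ.erase (1 : V)).offDiag := by
        ext p; simp [Finset.mem_offDiag]
      rw [e, Finset.offDiag_card, Finset.card_erase_of_mem (Finset.mem_univ _), Finset.card_univ,
        ← Nat.card_eq_fintype_card, hV.card_four]
    choose lift hlift using SL2Anti.pr_surjective (F := F)
    let C := Subgroup.center (Matrix.SpecialLinearGroup (Fin 2) F)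
    let sg : C → Matrix.SpecialLinearGroup (Fin 2) F := fun c => c.1
    have hp : ∀ c : C, SL2Anti.pr (sg c) = (1 : Matrix.ProjectiveSpecialLinearGroup (Fin 2) F) := fun c =>
      SL2Anti.pr_eq_one.2 c.2
    have hmem : ∀ x : S × (C × C), SL2Anti.Anti (lift x.1.1.1.1 * sg x.2.1) (lift x.1.1.2.1 * sg x.2.2) ∧
        SL2Anti.VP (lift x.1.1.1.1 * sg x.2.1) (lift x.1.1.2.1 * sg x.2.2) = V := fun x =>
      SL2Anti.exists_pair_of_klein h2 V x.1.1.1.2 x.1.1.2.2 (fun e => x.1.2.1 (Subtype.ext e))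
        (fun e => x.1.2.2.1 (Subtype.ext e)) (fun e => x.1.2.2.2 (Subtype.ext e))
        (by rw [map_mul, hlift, hp, mul_one]) (by rw [map_mul, hlift, hp, mul_one])
    let φ : S × (C × C) → {p : X // f p = ⟨V, hV⟩} := fun x =>
      ⟨⟨(_, _), (hmem x).1⟩, Subtype.ext (hmem x).2⟩
    have hφ : Function.Bijective φ := by
      refine ⟨fun x y e => ?_, fun p => ?_⟩
      · have e1 : lift x.1.1.1.1 * sg x.2.1 = lift y.1.1.1.1 * sg y.2.1 :=
          congrArg (fun q : {p : X // f p = ⟨V, hV⟩} => q.1.1.1) e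
        have e2 : lift x.1.1.2.1 * sg x.2.2 = lift y.1.1.2.1 * sg y.2.2 :=
          congrArg (fun q : {p : X // f p = ⟨V, hV⟩} => q.1.1.2) e
        have a1 : x.1.1.1 = y.1.1.1 := Subtype.ext (by
          simpa [map_mul, hlift, hp] using congrArg SL2Anti.pr e1)
        have a2 : x.1.1.2 = y.1.1.2 := Subtype.ext (by
          simpa [map_mul, hlift, hp] using congrArg SL2Anti.pr e2)
        rw [a1] at e1
        rw [a2] at e2
        exact Prod.ext (Subtype.ext (Prod.ext a1 a2))
          (Prod.ext (Subtype.ext (mul_left_cancel e1)) (Subtype.ext (mul_left_cancel e2)))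
      · obtain ⟨⟨⟨g, h⟩, a⟩, e⟩ := p
        have eV : SL2Anti.VP g h = V := congrArg Subtype.val e
        have mg : SL2Anti.pr g ∈ V := eV ▸ (SL2Anti.mem_VP h2 a).2 (Or.inr (Or.inl rfl))
        have mh : SL2Anti.pr h ∈ V := eV ▸ (SL2Anti.mem_VP h2 a).2 (Or.inr (Or.inr (Or.inl rfl)))
        have cg : (lift (SL2Anti.pr g))⁻¹ * g ∈ C := SL2Anti.pr_eq_one.1 (by
          rw [map_mul, map_inv, hlift, inv_mul_cancel])
        have ch : (lift (SL2Anti.pr h))⁻¹ * h ∈ C := SL2Anti.pr_eq_one.1 (by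
          rw [map_mul, map_inv, hlift, inv_mul_cancel])
        refine ⟨(⟨(⟨_, mg⟩, ⟨_, mh⟩), fun e => a.pr_ne_one h2 (congrArg Subtype.val e),
          fun e => a.swap.pr_ne_one h2 (congrArg Subtype.val e),
          fun e => a.pr_ne h2 (congrArg Subtype.val e)⟩, (⟨_, cg⟩, ⟨_, ch⟩)), ?_⟩
        exact Subtype.ext (Subtype.ext (Prod.ext (mul_inv_cancel_left _ _) (mul_inv_cancel_left _ _)))
    rw [← Nat.card_congr (Equiv.ofBijective φ hφ), Nat.card_prod, Nat.card_prod, hS, hk]
  have : Fintype KV := Fintype.ofFinite _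
  have hX : Nat.card X = 24 * Nat.card KV := by
    rw [← Nat.card_congr (Equiv.sigmaFiberEquiv f), Nat.card_sigma, Finset.sum_congr rfl fun V _ => hfib V,
      Finset.sum_const, Finset.card_univ, smul_eq_mul, Nat.card_eq_fintype_card, mul_comm]
  have hsl := Subgroup.card_eq_card_quotient_mul_card_subgroup
    (Subgroup.center (Matrix.SpecialLinearGroup (Fin 2) F))
  rw [hk, ← SL2Anti.card_anti h2, hX] at hsl
  show 12 * Nat.card KV = Nat.card (Matrix.SpecialLinearGroup (Fin 2) F ⧸ Subgroup.center _)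
  omega
end Cfsg.Agent.S0807
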