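import Cfsg.Statements.S0808
import Cfsg.Agent.Lib.Geom.SL2Klein
import Cfsg.Agent.Lib.Classical.StdQuad
-- import your own Cfsg.Agent.* helpers here

set_option autoImplicit false
open Cfsg CfsgLib.Geom

namespace Cfsg.Agent.S0808

/-- Conjugacy classes of four-groups in PSL_2(q), q odd: if q ≡ 3 or 5 (mod 8) all Klein four-subgroups are conjugate; if q ≡ 1 or 7 (mod 8) there are two Klein four-subgroups which are not conjugate, and every Klein four-subgroup is conjugate to one of them. -/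
theorem result {F : Type*} [Field F] [Fintype F] {q : ℕ} (hF : Fintype.card F = q) (hodd : Odd q) : ((q % 8 = 3 ∨ q % 8 = 5) → ∀ V W : Subgroup (Matrix.ProjectiveSpecialLinearGroup (Fin 2) F), IsKleinFour V → IsKleinFour W → ∃ g : Matrix.ProjectiveSpecialLinearGroup (Fin 2) F, W = V.map (MulAut.conj g).toMonoidHom) ∧ ((q % 8 = 1 ∨ q % 8 = 7) → ∃ V₁ V₂ : Subgroup (Matrix.ProjectiveSpecialLinearGroup (Fin 2) F), IsKleinFour V₁ ∧ IsKleinFour V₂ ∧ (¬ ∃ g : Matrix.ProjectiveSpecialLinearGroup (Fin 2) F, V₂ = V₁.map (MulAut.conj g).toMonoidHom) ∧ ∀ W : Subgroup (Matrix.ProjectiveSpecialLinearGroup (Fin 2) F), IsKleinFour W → (∃ g : Matrix.ProjectiveSpecialLinearGroup (Fin 2) F, W = V₁.map (MulAut.conj g).toMonoidHom) ∨ (∃ g : Matrix.ProjectiveSpecialLinearGroup (Fin 2) F, W = V₂.map (MulAut.conj g).toMonoidHom)) := by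
  classical
  subst hF
  have h2 : (2 : F) ≠ 0 := CfsgLib.Classical.two_ne_zero_of_odd hodd
  obtain ⟨k, hk⟩ := SL2Anti.exists_K0 h2 (F := F)
  refine ⟨fun h35 V W hV hW => ?_, fun h17 => ?_⟩
  · have hns : ¬ IsSquare (2 : F) := by
      rw [FiniteField.isSquare_two_iff]; omega
    have hδ := SL2Anti.nonSq_J0 hns
    have key : ∀ U : Subgroup (Matrix.ProjectiveSpecialLinearGroup (Fin 2) F), IsKleinFour U →
        ∃ x, U = (SL2Anti.VP SL2Anti.J0 k).map (MulAut.conj x).toMonoidHom := by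
      intro U hU
      obtain ⟨g, h, a, rfl⟩ := SL2Anti.exists_pair h2 U
      rcases SL2Anti.rel_cases h2 hk hδ a with r | r
      · exact SL2Anti.VP_eq_of_rel r
      · rw [← SL2Anti.VP_mul_right h2 hk]
        exact SL2Anti.VP_eq_of_rel r
    obtain ⟨x, rfl⟩ := key V hV
    obtain ⟨y, rfl⟩ := key W hW
    refine ⟨y * x⁻¹, ?_⟩
    rw [Subgroup.map_map]
    congr 1
    ext z
    simp [mul_assoc]
  · have hsq : IsSquare (2 : F) := by
      rw [FiniteField.isSquare_two_iff]; omega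
    obtain ⟨δ, hδ⟩ := SL2Anti.exists_nonSq h2 (F := F)
    have hk' := SL2Anti.mul_anti hk hδ.1
    refine ⟨SL2Anti.VP SL2Anti.J0 k, SL2Anti.VP SL2Anti.J0 (δ * k), SL2Anti.isKleinFour_VP h2 hk,
      SL2Anti.isKleinFour_VP h2 hk', ?_, fun W hW => ?_⟩
    · rintro ⟨x, hx⟩
      obtain ⟨s, rfl⟩ := SL2Anti.pr_surjective x
      rw [SL2Anti.VP_conj] at hx
      refine SL2Anti.not_rel_nonSq hk hδ ?_
      refine SL2Anti.Rel.trans (q := (s * SL2Anti.J0 * s⁻¹, s * k * s⁻¹)) ⟨s, rfl, rfl⟩ ?_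
      exact SL2Anti.rel_of_VP_eq hsq h2 (hk.conj s) hk' hx
    · obtain ⟨g, h, a, rfl⟩ := SL2Anti.exists_pair h2 W
      rcases SL2Anti.rel_cases h2 hk hδ a with r | r
      · exact Or.inl (SL2Anti.VP_eq_of_rel r)
      · exact Or.inr (SL2Anti.VP_eq_of_rel r)
end Cfsg.Agent.S0808
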