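import Cfsg.Statements.S0809
import Cfsg.Agent.Lib.Geom.SL2CJCard
import Cfsg.Agent.Lib.Classical.StdQuad
-- import your own Cfsg.Agent.* helpers here

set_option autoImplicit false
open Cfsg CfsgLib.Geom

namespace Cfsg.Agent.S0809

/-- In SL_2(q), q odd: any two subgroups of order 4 are conjugate, and the normaliser of a subgroup of order 4 has order 2(q − 1) if q ≡ 1 (mod 4) and 2(q + 1) if q ≡ 3 (mod 4); consequently all involutions of PSL_2(q) are conjugate. -/
theorem result {F : Type*} [Field F] [Fintype F] {q : ℕ} (hF : Fintype.card F = q) (hodd : Odd q) (A : Subgroup (Matrix.SpecialLinearGroup (Fin 2) F)) (hA : Nat.card A = 4) : (∀ B : Subgroup (Matrix.SpecialLinearGroup (Fin 2) F), Nat.card B = 4 → ∃ g : Matrix.SpecialLinearGroup (Fin 2) F, B = A.map (MulAut.conj g).toMonoidHom) ∧ (q % 4 = 1 → Nat.card ↥(Subgroup.normalizer (A : Set (Matrix.SpecialLinearGroup (Fin 2) F))) = 2 * (q - 1)) ∧ (q % 4 = 3 → Nat.card ↥(Subgroup.normalizer (A : Set (Matrix.SpecialLinearGroup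 (Fin 2) F))) = 2 * (q + 1)) ∧ (∀ x y : Matrix.ProjectiveSpecialLinearGroup (Fin 2) F, orderOf x = 2 → orderOf y = 2 → IsConj x y) := by
  classical
  subst hF
  have h2 : (2 : F) ≠ 0 := CfsgLib.Classical.two_ne_zero_of_odd hodd
  have hgen : ∀ B : Subgroup (Matrix.SpecialLinearGroup (Fin 2) F), Nat.card B = 4 →
      ∃ g, g * g = -1 ∧ B = Subgroup.zpowers g := by
    intro B hB
    have hle : ∃ g ∈ B, g * g ≠ 1 := by
      by_contra hall
      push Not at hall
      have hsub : (B : Set (Matrix.SpecialLinearGroup (Fin 2) F)) ⊆ {1, -1} := fun x hx =>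
        SL2Anti.eq_or_eq_neg_of_sq_one h2 (hall x hx)
      have := (Set.ncard_le_ncard hsub).trans ((Set.ncard_pair (SL2Anti.one_ne_neg_one h2)).le)
      rw [← Nat.card_coe_set_eq] at this
      rw [SetLike.coe_sort_coe, hB] at this
      omega
    obtain ⟨g, hgB, hg⟩ := hle
    have h4 : g ^ 4 = 1 := by
      have h := pow_card_eq_one' (x := (⟨g, hgB⟩ : B))
      rw [hB] at h
      exact congrArg Subtype.val h
    have hgg : g * g = -1 := (SL2Anti.eq_or_eq_neg_of_sq_one h2 (by
      show g * g * (g * g) = 1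
      rw [← h4]; simp [pow_succ, mul_assoc])).resolve_left hg
    have ho : orderOf g = 4 := orderOf_eq_prime_pow (p := 2) (n := 1) (by
      rw [pow_one, sq]; exact hg) h4
    refine ⟨g, hgg, (Subgroup.eq_of_le_of_card_ge (Subgroup.zpowers_le.2 hgB) ?_).symm⟩
    rw [Nat.card_zpowers, ho, hB]
  obtain ⟨g, hg, rfl⟩ := hgen A hA
  obtain ⟨u, hu⟩ := SL2Anti.exists_conj_J0 h2 hg
  have hN : Nat.card ↥(Subgroup.normalizer (Subgroup.zpowers g : Set (Matrix.SpecialLinearGroup (Fin 2) F))) =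
      2 * Nat.card (SL2Anti.CJ F) := by
    obtain ⟨k, hk⟩ := SL2Anti.exists_K0 h2 (F := F)
    have hmem : ∀ s, s ∈ Subgroup.normalizer (Subgroup.zpowers g : Set (Matrix.SpecialLinearGroup (Fin 2) F)) ↔
        s * g * s⁻¹ = g ∨ s * g * s⁻¹ = -g := by
      intro s
      have hgen' : ∀ z, z ∈ Subgroup.zpowers g → z * z = -1 → z = g ∨ z = -g := by
        intro z hz hzz
        obtain ⟨i, rfl⟩ := hz
        have h4 : orderOf g ∣ 4 := orderOf_dvd_of_pow_eq_one (by
          rw [show g ^ 4 = g * g * (g * g) by simp [pow_succ, mul_assoc], hg]; simp)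
        have hi : g ^ i = g ^ (i % 4) := by
          rw [zpow_eq_zpow_iff_modEq]
          exact Int.ModEq.of_dvd (Int.natCast_dvd_natCast.2 h4) (Int.mod_modEq i 4).symm
        have : i % 4 = 0 ∨ i % 4 = 1 ∨ i % 4 = 2 ∨ i % 4 = 3 := by omega
        dsimp only at hzz ⊢
        rw [hi] at hzz ⊢
        rcases this with e | e | e | e <;> rw [e] at hzz ⊢
        · rw [zpow_zero, one_mul] at hzz; exact absurd hzz (SL2Anti.one_ne_neg_one h2)
        · exact Or.inl (zpow_one g)
        · rw [zpow_two, hg, neg_mul_neg, one_mul] at hzz; exact absurd hzz (SL2Anti.one_ne_neg_one h2)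
        · exact Or.inr (by rw [show (3 : ℤ) = 2 + 1 from rfl, zpow_add, zpow_two, hg, zpow_one]; simp)
      refine ⟨fun hs => ?_, fun hs => ?_⟩
      · refine hgen' _ ((Subgroup.mem_normalizer_iff.1 hs g).1 (Subgroup.mem_zpowers g)) ?_
        rw [show s * g * s⁻¹ * (s * g * s⁻¹) = s * (g * g) * s⁻¹ by group, hg]; simp
      · have hmap : (Subgroup.zpowers g).map (MulAut.conj s).toMonoidHom = Subgroup.zpowers g := by
          rw [MonoidHom.map_zpowers]
          show Subgroup.zpowers (s * g * s⁻¹) = _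
          rcases hs with e | e <;> rw [e]
          rw [← SL2Anti.inv_eq_neg hg, Subgroup.zpowers_inv]
        refine Subgroup.mem_normalizer_iff.2 fun z => ?_
        conv_rhs => rw [← hmap]
        exact (Subgroup.mem_map_iff_mem (MulAut.conj s).injective).symm
    let C := SL2Anti.CJ F
    let W : Fin 2 → Matrix.SpecialLinearGroup (Fin 2) F := ![1, k]
    have hW : ∀ i : Fin 2, W i * SL2Anti.J0 * (W i)⁻¹ = SL2Anti.J0 ∨ W i * SL2Anti.J0 * (W i)⁻¹ = -SL2Anti.J0 := by
      intro i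
      fin_cases i
      · left; simp [W]
      · right
        show k * SL2Anti.J0 * k⁻¹ = -SL2Anti.J0
        rw [show k * SL2Anti.J0 = -(SL2Anti.J0 * k) by rw [hk.2.2, neg_neg], neg_mul, mul_assoc,
          mul_inv_cancel, mul_one]
    let φ : C × Fin 2 → ↥(Subgroup.normalizer (Subgroup.zpowers g : Set (Matrix.SpecialLinearGroup (Fin 2) F))) :=
      fun x => ⟨u * (x.1.1 * W x.2) * u⁻¹, (hmem _).2 (by
        have hc : x.1.1 * SL2Anti.J0 = SL2Anti.J0 * x.1.1 := Subgroup.mem_centralizer_singleton_iff.1 x.1.2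
        rcases hW x.2 with e | e
        · left
          calc u * (x.1.1 * W x.2) * u⁻¹ * g * (u * (x.1.1 * W x.2) * u⁻¹)⁻¹
              = u * (x.1.1 * (W x.2 * SL2Anti.J0 * (W x.2)⁻¹) * x.1.1⁻¹) * u⁻¹ := by rw [← hu]; group
            _ = g := by rw [e, hc, mul_assoc SL2Anti.J0, mul_inv_cancel, mul_one, hu]
        · right
          calc u * (x.1.1 * W x.2) * u⁻¹ * g * (u * (x.1.1 * W x.2) * u⁻¹)⁻¹
              = u * (x.1.1 * (W x.2 * SL2Anti.J0 * (W x.2)⁻¹) * x.1.1⁻¹) * u⁻¹ := by rw [← hu]; group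
            _ = -g := by rw [e, mul_neg, hc, neg_mul, mul_assoc SL2Anti.J0, mul_inv_cancel, mul_one, mul_neg, neg_mul, hu])⟩
    have hφ : Function.Bijective φ := by
      refine ⟨fun x y e => ?_, fun s => ?_⟩
      · have e' : x.1.1 * W x.2 = y.1.1 * W y.2 :=
          mul_left_cancel (mul_right_cancel (congrArg Subtype.val e))
        have hkC : k ∉ C := fun hkC => by
          have h1 : k * SL2Anti.J0 = SL2Anti.J0 * k := Subgroup.mem_centralizer_singleton_iff.1 hkC
          have h3 := hk.2.2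
          rw [h1] at h3
          refine SL2Anti.one_ne_neg_one h2 (mul_left_cancel (a := SL2Anti.J0 * k) ?_)
          rw [mul_one, mul_neg, mul_one]
          exact h3
        obtain ⟨⟨cx, hcx⟩, i⟩ := x
        obtain ⟨⟨cy, hcy⟩, j⟩ := y
        fin_cases i <;> fin_cases j <;> simp [W] at e' ⊢
        · exact e'
        · exact absurd ((Subgroup.mul_mem_cancel_left C hcy).1 (e' ▸ hcx)) hkC
        · exact absurd ((Subgroup.mul_mem_cancel_left C hcx).1 (e'.symm ▸ hcy)) hkC
        · exact e'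
      · obtain ⟨s, hsN⟩ := s
        set t := u⁻¹ * s * u with ht
        have hs : t * SL2Anti.J0 * t⁻¹ = SL2Anti.J0 ∨ t * SL2Anti.J0 * t⁻¹ = -SL2Anti.J0 := by
          have e : t * SL2Anti.J0 * t⁻¹ = u⁻¹ * (s * g * s⁻¹) * u := by rw [ht, ← hu]; group
          rcases (hmem s).1 hsN with h | h
          · left; rw [e, h, ← hu]; group
          · right; rw [e, h, mul_neg, neg_mul, ← hu]; congr 1; group
        rcases hs with h | h
        · have htC : t ∈ C := Subgroup.mem_centralizer_singleton_iff.2 (mul_inv_eq_iff_eq_mul.1 h)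
          exact ⟨(⟨t, htC⟩, 0), Subtype.ext (by simp [φ, W, ht]; group)⟩
        · have htC : t * k⁻¹ ∈ C := Subgroup.mem_centralizer_singleton_iff.2 (by
            have e1 : k⁻¹ * SL2Anti.J0 = -(SL2Anti.J0 * k⁻¹) := by
              rw [inv_mul_eq_iff_eq_mul, mul_neg, ← mul_assoc,
                show k * SL2Anti.J0 = -(SL2Anti.J0 * k) by rw [hk.2.2, neg_neg], neg_mul, neg_neg,
                mul_assoc, mul_inv_cancel, mul_one]
            rw [mul_assoc, e1, mul_neg, ← mul_assoc, mul_inv_eq_iff_eq_mul.1 h, neg_mul, neg_mul, neg_neg, mul_assoc])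
          exact ⟨(⟨t * k⁻¹, htC⟩, 1), Subtype.ext (by simp [φ, W, ht]; group)⟩
    rw [← Nat.card_congr (Equiv.ofBijective φ hφ), Nat.card_prod, Nat.card_fin, mul_comm]
  refine ⟨fun B hB => ?_, fun h1 => ?_, fun h3 => ?_, fun x y hx hy => ?_⟩
  · obtain ⟨h, hh, rfl⟩ := hgen B hB
    obtain ⟨v, hv⟩ := SL2Anti.exists_conj_J0 h2 hh
    refine ⟨v * u⁻¹, ?_⟩
    rw [MonoidHom.map_zpowers]
    congr 1
    show h = v * u⁻¹ * g * (v * u⁻¹)⁻¹
    rw [← hv, ← hu]; group
  · rw [hN, SL2Anti.card_CJ_split h2 (FiniteField.isSquare_neg_one_iff.2 (by omega))]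
  · rw [hN, SL2Anti.card_CJ_nonsplit (fun h => by
      have := FiniteField.isSquare_neg_one_iff.1 h; omega)]
  · obtain ⟨a, rfl⟩ := SL2Anti.pr_surjective x
    obtain ⟨b, rfl⟩ := SL2Anti.pr_surjective y
    have hsq : ∀ c : Matrix.SpecialLinearGroup (Fin 2) F, orderOf (SL2Anti.pr c) = 2 → c * c = -1 := by
      intro c hc
      have hne : c ∉ Subgroup.center (Matrix.SpecialLinearGroup (Fin 2) F) := fun e => by
        rw [SL2Anti.pr_eq_one.2 e, orderOf_one] at hc; omega
      have h1 : SL2Anti.pr (c * c) = 1 := by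
        have := pow_orderOf_eq_one (SL2Anti.pr c)
        rw [hc, sq] at this
        rw [map_mul, this]
      refine ((SL2Anti.mem_center_iff_sign h2).1 (SL2Anti.pr_eq_one.1 h1)).resolve_left fun e => hne ?_
      exact (SL2Anti.mem_center_iff_sign h2).2 (SL2Anti.eq_or_eq_neg_of_sq_one h2 e)
    obtain ⟨v, hv⟩ := SL2Anti.exists_conj_J0 h2 (hsq a hx)
    obtain ⟨w, hw⟩ := SL2Anti.exists_conj_J0 h2 (hsq b hy)
    exact (SL2Anti.pr (F := F)).map_isConj (isConj_iff.2 ⟨w * v⁻¹, by rw [← hv, ← hw]; group⟩)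
end Cfsg.Agent.S0809
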