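import Cfsg.Statements.S0810
import Cfsg.Agent.Lib.Geom.PSLTwoSolvable
import Cfsg.Agent.Lib.Geom.SubfieldPSL
import Cfsg.Agent.Lib.ClassK.SmallSimple
import Cfsg.Agent.Lib.Classical.PSLTwoMaximal
import Cfsg.Agent.S4203
import Cfsg.Agent.S0804
-- import your own Cfsg.Agent.* helpers here

set_option autoImplicit false
open Cfsg CfsgLib.Geom

namespace Cfsg.Agent.S0810

/-- PSL_2(q) is minimal simple iff q is 2^r (r prime), 3^r (r an odd prime), a prime greater than 5 congruent to 2 or 3 mod 5, or 5. -/
theorem result {F : Type*} [Field F] [Fintype F] {q : ℕ} (hF : Fintype.card F = q) : Cfsg.IsMinimalSimple (Matrix.ProjectiveSpecialLinearGroup (Fin 2) F) ↔ ((∃ r : ℕ, r.Prime ∧ q = 2 ^ r) ∨ (∃ r : ℕ, r.Prime ∧ r ≠ 2 ∧ q = 3 ^ r) ∨ (q.Prime ∧ 5 < q ∧ (q % 5 = 2 ∨ q % 5 = 3)) ∨ q = 5) := by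
  classical
  subst hF
  set q := Fintype.card F
  have h4s : Group.IsSolvable (Equiv.Perm (Fin 4)) := Cfsg.Agent.S4203.isSolvable_perm_four
  have hq2 : 2 ≤ q := Fintype.one_lt_card
  constructor
  · rintro ⟨hsimple, hnc, hsub⟩
    have hq4 : 4 ≤ q := by
      by_contra h
      refine hnc ⟨⟨IsSimpleGroup.comm_iff_isSolvable.2 (Moebius.isSolvable_psl_small (by omega) h4s)⟩⟩
    obtain ⟨p, hp⟩ := CharP.exists F
    obtain ⟨n, hprime, hq⟩ := FiniteField.card F p
    have := Fact.mk hprime
    change q = p ^ (n : ℕ) at hq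
    have noA5 : 5 ∣ q * (q ^ 2 - 1) → q = 4 ∨ q = 5 := by
      intro h5
      obtain ⟨H, ⟨i⟩⟩ := (Cfsg.Agent.S0804.result (F := F) rfl).2 h5
      have hH : Nat.card H = 60 := by
        rw [Nat.card_congr i.toEquiv, nat_card_alternatingGroup, Nat.card_fin]; rfl
      by_cases htop : H = ⊤
      · rw [htop, Subgroup.card_top] at hH
        by_contra hne
        push Not at hne
        have hge := CfsgLib.Classical.card_psl_two_bound (F := F) (show 5 ≤ q by omega)
        rw [hH] at hge
        have hc := CfsgLib.Classical.card_psl_two_mul (F := F)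
        rw [hH] at hc
        change Nat.gcd 2 (q - 1) * 60 = q * (q ^ 2 - 1) at hc
        have hg : Nat.gcd 2 (q - 1) ≤ 2 := Nat.le_of_dvd two_pos (Nat.gcd_dvd_left _ _)
        have h6 : 6 ≤ q := by omega
        have h36 := Nat.pow_le_pow_left h6 2
        have : 210 ≤ q * (q ^ 2 - 1) := Nat.mul_le_mul h6 (show 35 ≤ q ^ 2 - 1 by omega)
        omega
      · exfalso
        have hsol : Group.IsSolvable H := hsub H htop
        have : Group.IsSolvable (alternatingGroup (Fin 5)) :=
          solvable_of_solvable_injective (f := i.symm.toMonoidHom) i.symm.injective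
        have hcomm := IsSimpleGroup.comm_iff_isSolvable.2 this
        exact absurd hcomm (by decide +kernel)
    have noSub : ∀ d : ℕ, d ∣ (n : ℕ) → d < n → d ≠ 0 → p ^ d ≤ 3 := by
      intro d hd hlt hd0
      by_contra hbig
      obtain ⟨m, hm⟩ := hd
      have hm2 : 2 ≤ m := by
        rcases m with - | - | m
        · simp at hm
        · omega
        · omega
      let _ : Fintype (GaloisField p d) := Fintype.ofFinite _
      have hK : Fintype.card (GaloisField p d) = p ^ d := by
        rw [← Nat.card_eq_fintype_card, GaloisField.card p d hd0]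
      obtain ⟨e⟩ := Moebius.exists_ringHom_of_card_pow (GaloisField p d) F m (by omega)
        (by rw [hK, ← pow_mul, ← hm]; exact hq.symm)
      obtain ⟨H, ⟨i⟩⟩ := Moebius.exists_psl_subfield e
      have hcard : Nat.card H = Nat.card (Matrix.ProjectiveSpecialLinearGroup (Fin 2) (GaloisField p d)) :=
        Nat.card_congr i.toEquiv
      have hlt' : Fintype.card (GaloisField p d) < q := by
        rw [hK, hq]; exact Nat.pow_lt_pow_right hprime.one_lt hlt
      have htop : H ≠ ⊤ := by
        intro e'
        rw [e', Subgroup.card_top] at hcard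
        have c1 := CfsgLib.Classical.card_psl_two_mul (F := F)
        have c2 := CfsgLib.Classical.card_psl_two_mul (F := GaloisField p d)
        rw [hcard] at c1
        change Nat.gcd 2 (q - 1) * _ = q * (q ^ 2 - 1) at c1
        set u := Fintype.card (GaloisField p d)
        have hu : u * u ≤ q := by
          rw [hK, hq, hm, ← sq, ← pow_mul]
          exact Nat.pow_le_pow_right hprime.pos (Nat.mul_le_mul_left d hm2)
        have hg : Nat.gcd 2 (q - 1) ≤ 2 := Nat.le_of_dvd two_pos (Nat.gcd_dvd_left _ _)
        have hg' : 1 ≤ Nat.gcd 2 (u - 1) := Nat.gcd_pos_of_pos_left _ two_pos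
        have hle : Nat.card (Matrix.ProjectiveSpecialLinearGroup (Fin 2) (GaloisField p d)) ≤ u * (u ^ 2 - 1) :=
          c2 ▸ Nat.le_mul_of_pos_left _ hg'
        have hu4 : 4 ≤ u := by rw [hK]; omega
        have h1 : u ^ 2 - 1 ≤ q ^ 2 - 1 := Nat.sub_le_sub_right (Nat.pow_le_pow_left hlt'.le 2) 1
        have h2 : 4 * u ≤ q := le_trans (Nat.mul_le_mul_right u hu4) hu
        have hpos : 0 < u * (u ^ 2 - 1) := Nat.mul_pos (by omega) (by
          have := Nat.pow_le_pow_left hu4 2
          omega)
        have h3 : 4 * (u * (u ^ 2 - 1)) ≤ q * (q ^ 2 - 1) := by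
          rw [← mul_assoc]; exact Nat.mul_le_mul h2 h1
        have h5 := Nat.mul_le_mul hg hle
        omega
      have hsol : Group.IsSolvable H := hsub H htop
      have : Group.IsSolvable (Matrix.ProjectiveSpecialLinearGroup (Fin 2) (GaloisField p d)) :=
        solvable_of_solvable_injective (f := i.symm.toMonoidHom) i.symm.injective
      have h4 : 4 ≤ Fintype.card (GaloisField p d) := by rw [hK]; omega
      have := CfsgLib.ClassK.isSimpleGroup_psl_two (F := GaloisField p d) h4
      have hcomm := IsSimpleGroup.comm_iff_isSolvable.2 ‹Group.IsSolvable (Matrix.ProjectiveSpecialLinearGroup (Fin 2) (GaloisField p d))›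
      exact Moebius.psl_not_comm h4 hcomm
    rcases Nat.lt_or_ge p 4 with hp4 | hp4
    · have hn : (n : ℕ).Prime := by
        by_contra hn
        have h1 : (n : ℕ) ≠ 1 := fun e => by rw [e, pow_one] at hq; omega
        have hmin := Nat.minFac_prime h1
        have hlt : Nat.minFac n < (n : ℕ) := lt_of_le_of_ne (Nat.minFac_le n.pos) fun e => hn (e ▸ hmin)
        have := noSub _ (Nat.minFac_dvd n) hlt hmin.ne_zero
        have h2 : p ^ 2 ≤ p ^ Nat.minFac n := Nat.pow_le_pow_right hprime.pos hmin.two_le
        have h4' : 2 * 2 ≤ p ^ 2 := by rw [sq]; exact Nat.mul_le_mul hprime.two_le hprime.two_le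
        omega
      interval_cases p
      · exact absurd hprime (by norm_num)
      · exact absurd hprime (by norm_num)
      · exact Or.inl ⟨n, hn, hq⟩
      · refine Or.inr (Or.inl ⟨n, hn, fun e => ?_, hq⟩)
        rw [e] at hq
        rcases noA5 (by rw [hq]; norm_num) with h | h <;> omega
    · have hn : (n : ℕ) = 1 := by
        by_contra hn
        have := noSub 1 (one_dvd _) (by have := n.pos; omega) one_ne_zero
        rw [pow_one] at this
        omega
      rw [hn, pow_one] at hq
      by_cases h5 : q = 5
      · exact Or.inr (Or.inr (Or.inr h5))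
      refine Or.inr (Or.inr (Or.inl ⟨hq ▸ hprime, by
        rcases (show q = 4 ∨ 5 < q by omega) with e | e
        · exact absurd (hq ▸ hprime) (by rw [e]; norm_num)
        · exact e, ?_⟩))
      by_contra hmod
      have h0 : q % 5 ≠ 0 := fun e => h5 (by
        have := (Nat.prime_dvd_prime_iff_eq (by norm_num : Nat.Prime 5) (hq ▸ hprime)).1 (Nat.dvd_of_mod_eq_zero e)
        omega)
      have h55 : 5 ∣ q * (q ^ 2 - 1) := by
        refine Dvd.dvd.mul_left ((Nat.modEq_iff_dvd' (Nat.one_le_pow _ _ (by omega))).1 ?_) q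
        unfold Nat.ModEq
        rw [Nat.pow_mod]
        rcases (show q % 5 = 1 ∨ q % 5 = 4 by omega) with e | e <;> simp [e]
      have hp4' : p ≠ 4 := by rintro rfl; norm_num at hprime
      rcases noA5 h55 with h | h <;> omega
  · intro hcases
    have hq4 : 4 ≤ q := by
      rcases hcases with ⟨r, hr, e⟩ | ⟨r, hr, hr2, e⟩ | ⟨-, h, -⟩ | h
      · have h := Nat.pow_le_pow_right (show 1 ≤ 2 by norm_num) hr.two_le
        omega
      · have h := Nat.pow_le_pow_right (show 1 ≤ 3 by norm_num) hr.two_le
        omega
      · omega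
      · omega
    refine ⟨CfsgLib.ClassK.isSimpleGroup_psl_two hq4, fun hc => Moebius.psl_not_comm hq4 fun a b => hc.is_comm.comm a b,
      fun H hH => ?_⟩
    have hproper : ¬ Nat.card (Matrix.ProjectiveSpecialLinearGroup (Fin 2) F) ≤ Nat.card H := fun h =>
      hH (Subgroup.eq_top_of_card_eq _ (le_antisymm (Subgroup.card_le_card_group H) h))
    have hu_cases : ∀ u m : ℕ, 3 ≤ u → u ^ m = q → u = q ∨ u = 3 := by
      intro u m hu hm
      have key : ∀ b r : ℕ, b.Prime → r.Prime → q = b ^ r → u = q ∨ u = b := by
        intro b r hb hr e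
        have hd : u ∣ b ^ r := e ▸ hm ▸ dvd_pow_self u (fun z => by rw [z, pow_zero] at hm; omega)
        obtain ⟨j, hj, rfl⟩ := (Nat.dvd_prime_pow hb).1 hd
        rw [← pow_mul, e] at hm
        have hjm : j * m = r := Nat.pow_right_injective hb.two_le hm
        rcases (Nat.dvd_prime hr).1 ⟨m, hjm.symm⟩ with rfl | rfl
        · right; rw [pow_one]
        · left; exact e.symm
      rcases hcases with ⟨r, hr, e⟩ | ⟨r, hr, -, e⟩ | ⟨hp, -, -⟩ | h
      · rcases key 2 r Nat.prime_two hr e with h | h <;> omega
      · exact key 3 r Nat.prime_three hr e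
      · left
        exact ((Nat.dvd_prime hp).1 (hm ▸ dvd_pow_self u (fun z => by rw [z, pow_zero] at hm; omega))).resolve_left (by omega)
      · left
        have hd : u ∣ 5 := h ▸ hm ▸ dvd_pow_self u (fun z => by rw [z, pow_zero] at hm; omega)
        have := ((Nat.dvd_prime (by norm_num : Nat.Prime 5)).1 hd).resolve_left (by omega)
        omega
    cases Moebius.dickson H with
    | cyclic k hk hc hcard =>
      have := hc
      exact Group.isSolvable_of_comm fun a b => IsCyclic.commGroup.mul_comm a b
    | borel P h => exact Moebius.isSolvable_borel H P h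
    | dihedral k hk hk' hc hcard =>
      obtain ⟨i⟩ := hc
      have := Moebius.isSolvable_dihedral k
      exact solvable_of_solvable_injective (f := i.toMonoidHom) i.injective
    | tetrahedral h hcard =>
      obtain ⟨i⟩ := h
      have := h4s
      exact solvable_of_solvable_injective (f := (alternatingGroup (Fin 4)).subtype.comp i.toMonoidHom)
        ((alternatingGroup (Fin 4)).subtype_injective.comp i.injective)
    | octahedral h hcard =>
      obtain ⟨i⟩ := h
      have := h4s
      exact solvable_of_solvable_injective (f := i.toMonoidHom) i.injective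
    | icosahedral h hcard =>
      exfalso
      obtain ⟨i⟩ := h
      have h5 := (Cfsg.Agent.S0804.result (F := F) rfl).1 ⟨H, ⟨i⟩⟩
      change 5 ∣ q * (q ^ 2 - 1) at h5
      have hbad : q ^ 2 % 5 = 4 → False := by
        intro h
        rcases (Nat.Prime.dvd_mul (by norm_num : Nat.Prime 5)).1 h5 with e | e
        · have := Nat.dvd_trans e (dvd_pow_self q two_ne_zero)
          omega
        · have := Nat.one_le_pow 2 q (by omega)
          omega
      have h60 : q = 4 ∨ q = 5 → False := fun h => hproper (by
        rw [hcard, CfsgLib.Classical.card_psl_two_four (F := F) h])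
      rcases hcases with ⟨r, hr, e⟩ | ⟨r, hr, hr2, e⟩ | ⟨-, -, h⟩ | h
      · rcases hr.eq_two_or_odd' with rfl | ⟨j, rfl⟩
        · exact h60 (Or.inl e)
        · refine hbad ?_
          rw [e, ← pow_mul, show (2 * j + 1) * 2 = 4 * j + 2 by ring, pow_add, pow_mul, Nat.mul_mod, Nat.pow_mod]
          norm_num
      · obtain ⟨j, rfl⟩ := hr.odd_of_ne_two hr2
        refine hbad ?_
        rw [e, ← pow_mul, show (2 * j + 1) * 2 = 4 * j + 2 by ring, pow_add, pow_mul, Nat.mul_mod, Nat.pow_mod]
        norm_num
      · refine hbad ?_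
        rw [Nat.pow_mod]
        rcases h with e | e <;> simp [e]
      · exact h60 (Or.inr h)
    | subfieldPGL K u hu hK h hcard =>
      obtain ⟨m, -, hm⟩ := Moebius.subfield_card_pow K hK
      let _ : Fintype K := Fintype.ofFinite K
      obtain ⟨i⟩ := h
      rcases hu_cases u m hu hm with e | e
      · refine absurd ?_ hproper
        rw [hcard, e]
        have c1 := CfsgLib.Classical.card_psl_two_mul (F := F)
        change Nat.gcd 2 (q - 1) * _ = q * (q ^ 2 - 1) at c1
        rw [show (q + 1) * (q * (q - 1)) = q * (q ^ 2 - 1) by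
          rw [show q ^ 2 - 1 = (q + 1) * (q - 1) by rw [← Nat.sq_sub_sq, one_pow]]; ring, ← c1]
        exact Nat.le_mul_of_pos_left _ (Nat.gcd_pos_of_pos_left _ two_pos)
      · have := Moebius.isSolvable_pgl_small (F := K) (by rw [← Nat.card_eq_fintype_card, hK, e]) h4s
        exact solvable_of_solvable_injective (f := i.toMonoidHom) i.injective
    | subfieldPSL K u hu hK h hcard =>
      obtain ⟨m, -, hm⟩ := Moebius.subfield_card_pow K hK
      let _ : Fintype K := Fintype.ofFinite K
      obtain ⟨i⟩ := h
      have hcK : Fintype.card K = u := by rw [← Nat.card_eq_fintype_card, hK]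
      rcases hu_cases u m hu hm with e | e
      · refine absurd (le_of_eq ?_) hproper
        rw [Nat.card_congr i.toEquiv]
        exact (Nat.card_congr (Moebius.pslCongr (FiniteField.ringEquivOfCardEq (hcK.trans e))).toEquiv).symm
      · have := Moebius.isSolvable_psl_small (F := K) (by omega) h4s
        exact solvable_of_solvable_injective (f := i.toMonoidHom) i.injective
end Cfsg.Agent.S0810
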