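import Cfsg.Statements.S0819
-- import your own Cfsg.Agent.* helpers here

set_option autoImplicit false
open Cfsg Matrix

namespace Cfsg.Agent.S0819

/-- No element of PSL_3(4) has order 15. -/
theorem result {F : Type*} [Field F] [Fintype F] (hF : Fintype.card F = 4) (g : Matrix.ProjectiveSpecialLinearGroup (Fin 3) F) : orderOf g ≠ 15 := by
  classical
  intro hg
  have h2 : (2 : F) = 0 := by
    have h := Nat.cast_card_eq_zero F
    rw [hF] at h
    exact pow_eq_zero_iff (n := 2) two_ne_zero |>.1 (by rw [← h]; norm_num)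
  have hcube : ∀ a : F, a ≠ 0 → a ^ 3 = 1 := fun a ha => by
    have := FiniteField.pow_card_sub_one_eq_one a ha
    rwa [hF] at this
  have hsurj := QuotientGroup.mk'_surjective (Subgroup.center (Matrix.SpecialLinearGroup (Fin 3) F))
  set π := QuotientGroup.mk' (Subgroup.center (Matrix.SpecialLinearGroup (Fin 3) F)) with hπ
  have hker : ∀ x, π x = 1 ↔ x ∈ Subgroup.center (Matrix.SpecialLinearGroup (Fin 3) F) :=
    fun x => QuotientGroup.eq_one_iff x
  have hc3 : ∀ z ∈ Subgroup.center (Matrix.SpecialLinearGroup (Fin 3) F), z ^ 3 = 1 := by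
    intro z hz
    obtain ⟨r, hr, e⟩ := Matrix.SpecialLinearGroup.mem_center_iff.1 hz
    refine Subtype.ext ?_
    rw [Matrix.SpecialLinearGroup.coe_pow, ← e, ← map_pow]
    rw [Fintype.card_fin] at hr
    rw [hr, map_one]; rfl
  obtain ⟨x, hx⟩ := hsurj (g ^ 5)
  obtain ⟨y0, hy0⟩ := hsurj (g ^ 3)
  have hh : g ^ 5 ≠ 1 := fun h => by
    have := orderOf_dvd_of_pow_eq_one h; rw [hg] at this; norm_num at this
  have hk : g ^ 3 ≠ 1 := fun h => by
    have := orderOf_dvd_of_pow_eq_one h; rw [hg] at this; norm_num at this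
  have hg15 : g ^ 15 = 1 := hg ▸ pow_orderOf_eq_one g
  have hxc : x ^ 3 ∈ Subgroup.center (Matrix.SpecialLinearGroup (Fin 3) F) := by
    rw [← hker, map_pow, hx]; exact (pow_mul g 5 3).symm.trans hg15
  have hyc : y0 ^ 5 ∈ Subgroup.center (Matrix.SpecialLinearGroup (Fin 3) F) := by
    rw [← hker, map_pow, hy0]; exact (pow_mul g 3 5).symm.trans hg15
  set y := y0 * y0 ^ 5 with hy'
  have hy : π y = g ^ 3 := by rw [hy', map_mul, (hker _).2 hyc, mul_one, hy0]
  have hy5 : y ^ 5 = 1 := by
    rw [hy', ← pow_succ', ← pow_mul, show (5 + 1) * 5 = 5 * 3 * 2 by norm_num, pow_mul, pow_mul,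
      hc3 _ hyc, one_pow]
  set c := x * y * x⁻¹ * y⁻¹ with hcdef
  have hcc : c ∈ Subgroup.center (Matrix.SpecialLinearGroup (Fin 3) F) := by
    rw [← hker, hcdef, map_mul, map_mul, map_mul, map_inv, map_inv, hx, hy]
    group
  have hc1 : c = 1 := by
    have e : x * y * x⁻¹ = c * y := by rw [hcdef]; group
    have h5 : (x * y * x⁻¹) ^ 5 = 1 := by rw [conj_pow, hy5]; group
    rw [e, (Commute.mul_pow (Subgroup.mem_center_iff.1 hcc y).symm 5), hy5, mul_one] at h5
    have := hc3 c hcc
    calc c = c ^ 6 * (c ^ 5)⁻¹ := by group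
      _ = 1 := by rw [h5, show 6 = 3 * 2 from rfl, pow_mul, this, one_pow]; group
  have hcomm : x * y = y * x := by
    have : x * y * x⁻¹ * y⁻¹ = 1 := hc1
    calc x * y = x * y * x⁻¹ * y⁻¹ * (y * x) := by group
      _ = y * x := by rw [this, one_mul]
  set X : Matrix (Fin 3) (Fin 3) F := x.1 with hX
  set Y : Matrix (Fin 3) (Fin 3) F := y.1 with hY
  have hns : ∀ r : F, X ≠ r • 1 := by
    intro r hr
    refine hh (hx ▸ (hker x).2 (Matrix.SpecialLinearGroup.mem_center_iff.2 ⟨r, ?_, ?_⟩))
    · have := x.2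
      rw [← hX, hr, Matrix.det_smul, Matrix.det_one, mul_one] at this
      exact this
    · show Matrix.scalar (Fin 3) r = X
      rw [hr, Matrix.scalar_apply, ← Matrix.smul_one_eq_diagonal]
  obtain ⟨z, hz3, hz⟩ : ∃ z : F, z ^ 3 = 1 ∧ X ^ 3 = z • 1 := by
    obtain ⟨r, hr, e⟩ := Matrix.SpecialLinearGroup.mem_center_iff.1 hxc
    refine ⟨r, by simpa using hr, ?_⟩
    rw [Matrix.SpecialLinearGroup.coe_pow, Matrix.scalar_apply, ← Matrix.smul_one_eq_diagonal] at e
    exact e.symm
  have hXdet : X.det = 1 := x.2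
  have hXu : IsUnit X := (Matrix.isUnit_iff_isUnit_det X).2 (by rw [hXdet]; exact isUnit_one)
  set P := X.charpoly with hP
  have hdeg : P.natDegree = 3 := by rw [hP, Matrix.charpoly_natDegree_eq_dim]; simp
  have hlead : P.coeff 3 = 1 := by
    have := X.charpoly_monic; rw [Polynomial.Monic, Polynomial.leadingCoeff, hdeg] at this; exact this
  have hc0 : P.coeff 0 = 1 := by
    have := Matrix.det_eq_sign_charpoly_coeff X
    rw [hXdet] at this
    simp at this
    linear_combination this - h2
  have hCH := Matrix.aeval_self_charpoly X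
  rw [← hP, Polynomial.aeval_eq_sum_range, hdeg] at hCH
  simp only [Finset.sum_range_succ, Finset.sum_range_zero, zero_add, hlead, hc0, pow_zero, pow_one,
    one_smul, hz] at hCH
  have hc2 : P.coeff 2 = 0 := by
    by_contra hne
    set a := -(P.coeff 1 / P.coeff 2) with ha
    set b := -((1 + z) / P.coeff 2) with hb
    have hsq : X * X = a • X + b • 1 := by
      have hrel : P.coeff 2 • X ^ 2 = (-P.coeff 1) • X + (-(1 + z)) • (1 : Matrix (Fin 3) (Fin 3) F) := by
        linear_combination (norm := module) hCH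
      have := congrArg (fun M => (P.coeff 2)⁻¹ • M) hrel
      simp only [smul_add, smul_smul, inv_mul_cancel₀ hne, one_smul] at this
      rw [← sq, this, ha, hb]
      congr 2 <;> field_simp
    have h3 : X ^ 3 = (a * a + b) • X + (a * b) • (1 : Matrix (Fin 3) (Fin 3) F) := by
      rw [pow_succ, sq, hsq, add_mul, Matrix.smul_mul, Matrix.smul_mul, one_mul, hsq]
      module
    rw [hz] at h3
    by_cases hab : a * a + b = 0
    · have hzab : z = a * b := by
        rw [hab, zero_smul, zero_add] at h3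
        have := congrFun (congrFun h3 0) 0
        simpa using this
      have hbaa : b = a * a := by linear_combination hab - a * a * h2
      have haz : a ^ 3 = z := by rw [hzab, hbaa]; ring
      have ha0 : a ≠ 0 := fun h => by rw [h] at haz; simp [← haz] at hz3
      have hz1 : z = 1 := haz ▸ hcube a ha0
      have hb0 : b = 0 := by
        rw [hb, hz1, show (1 : F) + 1 = 0 by linear_combination h2]; simp
      exact ha0 (mul_self_eq_zero.1 (hbaa ▸ hb0))
    · refine hns ((a * a + b)⁻¹ * (z - a * b)) ?_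
      have h4 : (a * a + b) • X = (z - a * b) • (1 : Matrix (Fin 3) (Fin 3) F) := by
        linear_combination (norm := module) -h3
      rw [mul_smul, ← h4, inv_smul_smul₀ hab]
  rw [hc2, zero_smul, add_zero] at hCH
  have hc1' : P.coeff 1 = 0 := by
    by_contra hne
    refine hns ((P.coeff 1)⁻¹ * (-(1 + z))) ?_
    have h4 : P.coeff 1 • X = (-(1 + z)) • (1 : Matrix (Fin 3) (Fin 3) F) := by
      linear_combination (norm := module) hCH
    rw [mul_smul, ← h4, inv_smul_smul₀ hne]
  obtain ⟨w, hw0, hw1⟩ : ∃ w : F, w ≠ 0 ∧ w ≠ 1 := by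
    by_contra h
    push Not at h
    have := Finset.card_le_card (show (Finset.univ : Finset F) ⊆ {0, 1} from fun a _ => by
      by_cases ha : a = 0 <;> simp [ha]
      exact h a ha)
    rw [Finset.card_univ, hF] at this
    exact absurd (this.trans Finset.card_le_two) (by norm_num)
  let μ : Fin 3 → F := ![1, w, w * w]
  have hμ0 : ∀ i, μ i ≠ 0 := fun i => by fin_cases i <;> simp [μ, hw0]
  have hw3 := hcube w hw0
  have hμinj : Function.Injective μ := by
    have h12 : w * w ≠ 1 := fun h => hw1 (by linear_combination hw3 - w * h)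
    have h23 : w * w ≠ w := fun h => hw1 (mul_left_cancel₀ hw0 (by rw [mul_one]; exact h))
    intro i j h
    fin_cases i <;> fin_cases j <;> simp [μ, hw1, hw1.symm, h12, h12.symm, h23, h23.symm] at h ⊢
  have heig : ∀ i, ∃ v : Fin 3 → F, v ≠ 0 ∧ X *ᵥ v = μ i • v := by
    intro i
    have hev : P.eval (μ i) = 0 := by
      rw [Polynomial.eval_eq_sum_range, hdeg]
      simp only [Finset.sum_range_succ, Finset.sum_range_zero, hlead, hc0, hc1', hc2, hcube _ (hμ0 i)]
      linear_combination h2
    rw [hP, Matrix.eval_charpoly] at hev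
    obtain ⟨v, hv, e⟩ := Matrix.exists_mulVec_eq_zero_iff.2 hev
    refine ⟨v, hv, ?_⟩
    rw [Matrix.sub_mulVec, sub_eq_zero, Matrix.scalar_apply, ← Matrix.smul_one_eq_diagonal,
      Matrix.smul_mulVec, Matrix.one_mulVec] at e
    exact e.symm
  choose v hv hXv using heig
  have hli : LinearIndependent F v :=
    Module.End.eigenvectors_linearIndependent' (Matrix.toLin' X) μ hμinj v fun i =>
      Module.End.hasEigenvector_iff.2 ⟨Module.End.mem_eigenspace_iff.2 (hXv i), hv i⟩
  let B := basisOfLinearIndependentOfCardEqFinrank hli (by simp)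
  have hYX : X * Y = Y * X := congrArg Subtype.val hcomm
  have hYv : ∀ i, Y *ᵥ v i = v i := by
    intro i
    have hB : ∀ j, B j = v j := fun j => by simp [B]
    have hsum := B.sum_repr (Y *ᵥ v i)
    simp only [hB] at hsum
    have h0 : ∑ j, (B.repr (Y *ᵥ v i) j * (μ j - μ i)) • v j = 0 := by
      have e1 : X *ᵥ (Y *ᵥ v i) = μ i • (Y *ᵥ v i) := by
        rw [Matrix.mulVec_mulVec, hYX, ← Matrix.mulVec_mulVec, hXv, Matrix.mulVec_smul]
      rw [← hsum, Matrix.mulVec_sum, Finset.smul_sum] at e1
      simp only [Matrix.mulVec_smul, hXv, smul_smul] at e1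
      rw [← sub_eq_zero, ← Finset.sum_sub_distrib] at e1
      refine Eq.trans (Finset.sum_congr rfl fun j _ => ?_) e1
      rw [← sub_smul]; ring_nf
    have hz' := Fintype.linearIndependent_iff.1 hli _ h0
    obtain ⟨a, ha⟩ : ∃ a : F, Y *ᵥ v i = a • v i := by
      refine ⟨B.repr (Y *ᵥ v i) i, ?_⟩
      conv_lhs => rw [← hsum]
      rw [Finset.sum_eq_single i (fun j _ hj => by
        rw [(mul_eq_zero.1 (hz' j)).resolve_right (sub_ne_zero.2 (hμinj.ne hj)), zero_smul])
        (by simp)]
    have hpow : ∀ n : ℕ, (Y ^ n) *ᵥ v i = a ^ n • v i := by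
      intro n
      induction n with
      | zero => simp
      | succ n ih => rw [pow_succ, ← Matrix.mulVec_mulVec, ha, Matrix.mulVec_smul, ih, smul_smul,
          pow_succ, mul_comm]
    have h5 := hpow 5
    rw [show Y ^ 5 = 1 from by rw [hY, ← Matrix.SpecialLinearGroup.coe_pow, hy5]; rfl,
      Matrix.one_mulVec] at h5
    have ha5 : a ^ 5 = 1 := smul_left_injective F (hv i) (by simpa using h5.symm)
    have ha0 : a ≠ 0 := fun h => by simp [h] at ha5
    have ha1 : a = 1 := by linear_combination (-a : F) * ha5 + (a ^ 3 + 1) * hcube a ha0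
    rw [ha, ha1, one_smul]
  refine hk (hy ▸ ?_)
  have : y = 1 := by
    refine Subtype.ext ?_
    show Y = 1
    exact Matrix.toLin'.injective (B.ext fun j => by simp [B, hYv j])
  rw [this, map_one]
end Cfsg.Agent.S0819
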