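import Cfsg.Statements.S0820
-- import your own Cfsg.Agent.* helpers here

set_option autoImplicit false
open Cfsg Matrix

namespace Cfsg.Agent.S0820

/-- Any two elements of order 2 of PSL_3(4) are conjugate. -/
theorem result {F : Type*} [Field F] [Fintype F] (hF : Fintype.card F = 4) (x y : Matrix.ProjectiveSpecialLinearGroup (Fin 3) F) (hx : orderOf x = 2) (hy : orderOf y = 2) : IsConj x y := by
  classical
  have h2 : (2 : F) = 0 := by
    have h := Nat.cast_card_eq_zero F
    rw [hF] at h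
    exact pow_eq_zero_iff (n := 2) two_ne_zero |>.1 (by rw [← h]; norm_num)
  have key : ∀ N : Matrix (Fin 3) (Fin 3) F, N ≠ 0 → N * N = 0 →
      ∃ g : Matrix.SpecialLinearGroup (Fin 3) F, N * (g : Matrix (Fin 3) (Fin 3) F) =
        (g : Matrix (Fin 3) (Fin 3) F) * Matrix.single 0 2 1 := by
    intro N hN hNN
    obtain ⟨c, hc⟩ : ∃ c, N *ᵥ c ≠ 0 := by
      by_contra h
      push Not at h
      exact hN (Matrix.ext_of_mulVec_single fun i => by rw [h, Matrix.zero_mulVec])
    set a := N *ᵥ c with ha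
    have haN : N *ᵥ a = 0 := by rw [ha, Matrix.mulVec_mulVec, hNN, Matrix.zero_mulVec]
    have hle : LinearMap.range (Matrix.toLin' N) ≤ LinearMap.ker (Matrix.toLin' N) := by
      rintro _ ⟨v, rfl⟩
      rw [LinearMap.mem_ker, Matrix.toLin'_apply, Matrix.toLin'_apply, Matrix.mulVec_mulVec, hNN,
        Matrix.zero_mulVec]
    have hk : 2 ≤ Module.finrank F (LinearMap.ker (Matrix.toLin' N)) := by
      have := Submodule.finrank_mono hle
      have h3 := (Matrix.toLin' N).finrank_range_add_finrank_ker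
      rw [Module.finrank_fin_fun] at h3
      omega
    obtain ⟨b, hb, hba⟩ : ∃ b ∈ LinearMap.ker (Matrix.toLin' N), b ∉ Submodule.span F {a} := by
      refine SetLike.not_le_iff_exists.1 fun hle' => ?_
      have := Submodule.finrank_mono hle'
      rw [finrank_span_singleton hc] at this
      omega
    rw [LinearMap.mem_ker, Matrix.toLin'_apply] at hb
    let M : Matrix (Fin 3) (Fin 3) F := Matrix.of fun i j => ![a, b, c] j i
    have hMv : ∀ v, M *ᵥ v = v 0 • a + v 1 • b + v 2 • c := fun v => by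
      funext i
      simp [M, Matrix.mulVec, dotProduct, Fin.sum_univ_three, mul_comm]
    have hM : M.det ≠ 0 := fun h => by
      obtain ⟨v, hv, e⟩ := Matrix.exists_mulVec_eq_zero_iff.2 h
      rw [hMv] at e
      have e2 := congrArg (fun w => N *ᵥ w) e
      simp only [Matrix.mulVec_add, Matrix.mulVec_smul, haN, hb, smul_zero, zero_add, Matrix.mulVec_zero,
        ← ha] at e2
      have hv2 : v 2 = 0 := (smul_eq_zero.1 e2).resolve_right hc
      rw [hv2, zero_smul, add_zero] at e
      have hv1 : v 1 = 0 := by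
        by_contra h1
        refine hba (Submodule.mem_span_singleton.2 ⟨-(v 0 / v 1), ?_⟩)
        have : v 1 • b = v 1 • (-(v 0 / v 1)) • a := by
          rw [smul_smul, mul_neg, mul_div_cancel₀ _ h1, neg_smul, eq_neg_iff_add_eq_zero, add_comm]
          exact e
        exact (smul_right_injective _ h1 this).symm
      rw [hv1, zero_smul, add_zero] at e
      have hv0 : v 0 = 0 := (smul_eq_zero.1 e).resolve_right hc
      exact hv (funext fun i => by fin_cases i <;> simp [hv0, hv1, hv2])
    refine ⟨⟨M * Matrix.diagonal ![1, M.det⁻¹, 1], by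
      rw [Matrix.det_mul, Matrix.det_diagonal, Fin.prod_univ_three]; simp [hM]⟩, ?_⟩
    show N * (M * Matrix.diagonal ![1, M.det⁻¹, 1]) = M * Matrix.diagonal ![1, M.det⁻¹, 1] * Matrix.single 0 2 1
    refine Matrix.ext_of_mulVec_single fun i => ?_
    rw [← Matrix.mulVec_mulVec, ← Matrix.mulVec_mulVec, ← Matrix.mulVec_mulVec, ← Matrix.mulVec_mulVec,
      Matrix.diagonal_mulVec_single, Matrix.single_mulVec]
    fin_cases i <;> simp [hMv, Matrix.mulVec_smul, Matrix.mulVec_add, haN, hb, ← ha, Matrix.mulVec_diagonal,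
      Function.update, Pi.single_apply]
  have lift : ∀ u : Matrix.ProjectiveSpecialLinearGroup (Fin 3) F, orderOf u = 2 →
      ∃ X : Matrix.SpecialLinearGroup (Fin 3) F, (QuotientGroup.mk X : Matrix.ProjectiveSpecialLinearGroup (Fin 3) F) = u ∧
        ∃ g : Matrix.SpecialLinearGroup (Fin 3) F, (X : Matrix (Fin 3) (Fin 3) F) * (g : Matrix (Fin 3) (Fin 3) F) =
          (g : Matrix (Fin 3) (Fin 3) F) * (1 + Matrix.single 0 2 1) := by
    intro u hu
    obtain ⟨X0, hX0⟩ := QuotientGroup.mk_surjective u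
    have hu2 : u ^ 2 = 1 := hu ▸ pow_orderOf_eq_one u
    have hc : X0 ^ 2 ∈ Subgroup.center (Matrix.SpecialLinearGroup (Fin 3) F) := by
      refine (QuotientGroup.eq_one_iff _).1 ?_
      rw [QuotientGroup.mk_pow, hX0]; exact hu2
    have hc3 : (X0 ^ 2) ^ 3 = 1 := by
      obtain ⟨r, hr, e⟩ := Matrix.SpecialLinearGroup.mem_center_iff.1 hc
      refine Subtype.ext ?_
      rw [Matrix.SpecialLinearGroup.coe_pow, ← e, ← map_pow]
      rw [Fintype.card_fin] at hr
      rw [hr, map_one]; rfl
    refine ⟨X0 * X0 ^ 2, ?_, ?_⟩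
    · rw [QuotientGroup.mk_mul, hX0, (QuotientGroup.eq_one_iff _).2 hc, mul_one]
    set X := X0 * X0 ^ 2 with hX
    have hX2 : X * X = 1 := by rw [hX, ← hc3]; group
    have hX1 : X ≠ 1 := fun h => by
      have : u = 1 := by
        calc u = QuotientGroup.mk X := by
              rw [hX, QuotientGroup.mk_mul, hX0, (QuotientGroup.eq_one_iff _).2 hc, mul_one]
          _ = 1 := by rw [h, QuotientGroup.mk_one]
      rw [this, orderOf_one] at hu
      exact absurd hu (by norm_num)
    obtain ⟨g, hg⟩ := key ((X : Matrix (Fin 3) (Fin 3) F) - 1)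
      (fun h => hX1 (Subtype.ext (by rw [sub_eq_zero] at h; exact h)))
      (by
        have e : (X : Matrix (Fin 3) (Fin 3) F) * X = 1 := congrArg Subtype.val hX2
        rw [sub_mul, mul_sub, mul_sub, e, one_mul, mul_one, one_mul,
          show (1 : Matrix (Fin 3) (Fin 3) F) - X - (X - 1) = (2 : F) • (1 - X) by rw [two_smul]; abel, h2,
          zero_smul])
    exact ⟨g, by rw [mul_add, ← hg, sub_mul, one_mul, mul_one]; abel⟩
  obtain ⟨X, hX, g, hg⟩ := lift x hx
  obtain ⟨Y, hY, h, hh⟩ := lift y hy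
  have hconj : IsConj X Y := by
    refine isConj_iff.2 ⟨h * g⁻¹, ?_⟩
    have e1 : X * g = g * (g⁻¹ * X * g) := by group
    have e2 : (g⁻¹ * X * g : Matrix.SpecialLinearGroup (Fin 3) F) = h⁻¹ * Y * h := by
      refine Subtype.ext ?_
      simp only [Matrix.SpecialLinearGroup.coe_mul, mul_assoc]
      rw [hg, hh, ← mul_assoc, ← mul_assoc, ← Matrix.SpecialLinearGroup.coe_mul,
        ← Matrix.SpecialLinearGroup.coe_mul, inv_mul_cancel, inv_mul_cancel]
    calc h * g⁻¹ * X * (h * g⁻¹)⁻¹ = h * (g⁻¹ * X * g) * h⁻¹ := by group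
      _ = Y := by rw [e2]; group
  rw [← hX, ← hY]
  exact (QuotientGroup.mk' _).map_isConj hconj
end Cfsg.Agent.S0820
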