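import Cfsg.Statements.S0821
import Cfsg.Agent.Lib.Geom.PSpInvol
import Cfsg.Agent.Lib.Geom.OddInvol
import Cfsg.Agent.Lib.Classical.StdQuad

set_option autoImplicit false
open Cfsg

namespace Cfsg.Agent.S0821

/-- PSp_2m(q) ≇ PΩ_(2m+1)(q) for q odd and m ≥ 3 (they have the same order). -/
theorem result {F : Type*} [Field F] [Fintype F] (hodd : Odd (Fintype.card F)) (m : ℕ) (hm : 3 ≤ m) : IsEmpty (Cfsg.PSp m F ≃* Cfsg.POmega F (Cfsg.quadFormOdd m F)) := by
  refine ⟨fun e => ?_⟩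
  have h2 : (2 : F) ≠ 0 := CfsgLib.Classical.two_ne_zero_of_odd hodd
  have hcoe : Cfsg.quadFormOdd m F = ⇑(CfsgLib.Classical.qfOdd m F) :=
    funext fun v => (CfsgLib.Classical.qfOdd_apply m v).symm
  revert e
  rw [hcoe]
  intro e
  obtain ⟨hZ, x, hx, hconj⟩ := CfsgLib.Geom.omega_odd_center_and_involutions (CfsgLib.Classical.qfOdd m F)
    (fun v hv => CfsgLib.Classical.qfOdd_sep h2 m v hv) h2 (m := m) (by omega)
    (by simp; ring)
  let π := QuotientGroup.mk' (Subgroup.center ↥(Cfsg.Omega F ⇑(CfsgLib.Classical.qfOdd m F)))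
  have hπ : Function.Injective π := by
    rw [← MonoidHom.ker_eq_bot_iff, QuotientGroup.ker_mk', hZ]
  obtain ⟨i, j, hij, hc⟩ := CfsgLib.Geom.psp_involutions_pigeonhole h2 (by omega) (k := m) (by omega)
    (fun i => e.symm (π (x i))) (fun i => by
      rw [MulEquiv.orderOf_eq, orderOf_injective π hπ, hx])
  refine hij (hconj i j ?_)
  have h := MonoidHom.map_isConj e.toMonoidHom hc
  simp only [MulEquiv.coe_toMonoidHom, MulEquiv.apply_symm_apply] at h
  obtain ⟨c, hc⟩ := isConj_iff.1 h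
  obtain ⟨c', rfl⟩ := QuotientGroup.mk'_surjective _ c
  refine isConj_iff.2 ⟨c', hπ ?_⟩
  rw [map_mul, map_mul, map_inv]
  exact hc

end Cfsg.Agent.S0821
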