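import Cfsg.Statements.S0823
import Cfsg.Agent.Lib.Geom.PointPerm
import Cfsg.Agent.Lib.Classical.OrthOrder
-- import your own Cfsg.Agent.* helpers here

set_option autoImplicit false
open Cfsg CfsgLib.Geom Matrix

namespace Cfsg.Agent.S0823

/-- SO_3(3) ≅ S_4: the determinant-one isometries of the form x_0² + x_1y_1 over the field with 3 elements form a group isomorphic to the symmetric group on 4 letters. -/
theorem result {F : Type*} [Field F] [Fintype F] (hF : Fintype.card F = 3) : Nonempty (↥(Cfsg.specialIsometryGroup F (Cfsg.quadFormOdd 1 F)) ≃* Equiv.Perm (Fin 4)) := by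
  classical
  have h3 : (3 : F) = 0 := by
    have h := Nat.cast_card_eq_zero F
    rw [hF] at h
    exact_mod_cast h
  have h2 : (2 : F) ≠ 0 := fun h => one_ne_zero (by linear_combination h3 - h : (1 : F) = 0)
  have hsq : ∀ a : F, a ≠ 0 → a * a = 1 := fun a ha => by
    have := FiniteField.pow_card_sub_one_eq_one a ha
    rw [hF, show 3 - 1 = 2 from rfl, sq] at this
    exact this
  let G := Cfsg.specialIsometryGroup F (Cfsg.quadFormOdd 1 F)
  let Q := CfsgLib.Classical.qfOdd 1 F
  have hQ : ∀ v, Q v = Cfsg.quadFormOdd 1 F v := CfsgLib.Classical.qfOdd_apply 1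
  let mk : F → F → F → (Unit ⊕ (Fin 1 ⊕ Fin 1) → F) := fun a b c =>
    Sum.elim (fun _ => a) (Sum.elim (fun _ => b) (fun _ => c))
  have hmk : ∀ v, v = mk (v (.inl ())) (v (.inr (.inl 0))) (v (.inr (.inr 0))) := fun v => by
    funext i; rcases i with ⟨⟩ | i | i <;> simp [mk, Fin.fin_one_eq_zero]
  have hval : ∀ a b c, Cfsg.quadFormOdd 1 F (mk a b c) = a * a + b * c := fun a b c => by
    simp [Cfsg.quadFormOdd, mk, sq]
  have hmkinj : ∀ a b c a' b' c', mk a b c = mk a' b' c' → a = a' ∧ b = b' ∧ c = c' :=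
    fun a b c a' b' c' h => ⟨congrFun h (.inl ()), congrFun h (.inr (.inl 0)), congrFun h (.inr (.inr 0))⟩
  have hsmul : ∀ t a b c, t • mk a b c = mk (t * a) (t * b) (t * c) := fun t a b c => by
    funext i; rcases i with ⟨⟩ | i | i <;> simp [mk]
  have hadd : ∀ a b c a' b' c', mk a b c + mk a' b' c' = mk (a + a') (b + b') (c + c') :=
    fun a b c a' b' c' => by funext i; rcases i with ⟨⟩ | i | i <;> simp [mk]
  let p : Fin 4 → (Unit ⊕ (Fin 1 ⊕ Fin 1) → F) := ![mk 0 1 0, mk 0 0 1, mk 1 1 (-1), mk 1 (-1) 1]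
  have hp : ∀ i, p i ≠ 0 := fun i h => by
    have e0 : (0 : Unit ⊕ (Fin 1 ⊕ Fin 1) → F) = mk 0 0 0 := by
      funext i; rcases i with ⟨⟩ | i | i <;> simp [mk]
    rw [e0] at h
    fin_cases i <;> simpa [p] using hmkinj _ _ _ _ _ _ h
  have hind : ∀ i j (t : F), p i = t • p j → i = j := fun i j t h => by
    fin_cases i <;> fin_cases j <;> first
      | rfl
      | exfalso
        simp only [p, Fin.isValue, Fin.mk_one, Fin.zero_eta, Fin.reduceFinMk, Matrix.cons_val, hsmul] at h
        obtain ⟨e1, e2, e3⟩ := hmkinj _ _ _ _ _ _ h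
        simp at e1 e2 e3
        all_goals first
          | exact h2 (by linear_combination e2 + t * 0)
          | exact h2 (by linear_combination e2 - e1)
          | exact h2 (by linear_combination e1 - e2)
          | exact h2 (by linear_combination e3 - e1)
          | exact h2 (by linear_combination e1 - e3)
          | (subst e1; simp at e2 e3)
          | (subst e2; simp at e1 e3)
          | exact h2 (by linear_combination e1 + e2)
          | exact h2 (by linear_combination -e1 - e2)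
  have hsing : ∀ v, Cfsg.quadFormOdd 1 F v = 0 → ∃ j, ∃ t : F, v = t • p j := fun v hv => by
    rw [hmk v] at hv ⊢
    rw [hval] at hv
    generalize v (.inl ()) = a at hv ⊢
    generalize v (.inr (.inl 0)) = b at hv ⊢
    generalize v (.inr (.inr 0)) = c at hv ⊢
    by_cases ha : a = 0
    · subst ha
      rcases mul_eq_zero.1 (show b * c = 0 by linear_combination hv) with h | h
      · exact ⟨1, c, by simp [p, hsmul, h]⟩
      · exact ⟨0, b, by simp [p, hsmul, h]⟩
    · have hbc : b * c = -1 := by linear_combination hv - hsq a ha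
      have hb : b ≠ 0 := fun h => by simp [h] at hbc
      have hc : c = -b := by linear_combination b * hbc - c * hsq b hb
      have hab : (a - b) * (a + b) = 0 := by linear_combination hsq a ha - hsq b hb
      rcases mul_eq_zero.1 hab with h | h
      · refine ⟨2, b, ?_⟩
        simp [p, hsmul, hc, sub_eq_zero.1 h]
      · refine ⟨3, -b, ?_⟩
        simp [p, hsmul, hc, eq_neg_of_add_eq_zero_left h]
  have hpsing : ∀ i, Cfsg.quadFormOdd 1 F (p i) = 0 := fun i => by
    fin_cases i <;> simp [p, hval]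
  let act : G →* Matrix (Unit ⊕ (Fin 1 ⊕ Fin 1)) (Unit ⊕ (Fin 1 ⊕ Fin 1)) F :=
    (Units.coeHom _).comp ((Cfsg.isometryGroup F (Cfsg.quadFormOdd 1 F)).subtype.comp G.subtype)
  obtain ⟨σ, hσ⟩ := exists_perm_hom act p hp hind (fun g i => hsing _ (by
    show Cfsg.quadFormOdd 1 F ((g.1.1 : Matrix _ _ F) *ᵥ p i) = 0
    exact (g.1.2 (p i) (p i)).trans (hpsing i)))
  have hinj : Function.Injective σ := by
    rw [injective_iff_map_eq_one]
    intro g hg
    have hfix : ∀ i, ∃ t : F, t ≠ 0 ∧ act g *ᵥ p i = t • p i := fun i => by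
      obtain ⟨t, ht, e⟩ := hσ g i
      rw [hg] at e
      exact ⟨t, ht, e⟩
    obtain ⟨a, ha, e0⟩ := hfix 0
    obtain ⟨b, hb, e1⟩ := hfix 1
    obtain ⟨c, hc, e2⟩ := hfix 2
    obtain ⟨e, he, e3⟩ := hfix 3
    have q3 : p 3 = p 2 + ((-2 : F) • p 0 + (2 : F) • p 1) := by
      simp [p, hsmul, hadd]; congr 1 <;> ring
    have hrel : e • p 3 = c • p 2 + ((-2 * a) • p 0 + (2 * b) • p 1) := by
      rw [← e3, q3, mulVec_add, mulVec_add, mulVec_smul, mulVec_smul, e0, e1, e2, smul_smul, smul_smul]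
    simp only [p, Fin.isValue, Matrix.cons_val, hsmul, hadd] at hrel
    obtain ⟨r1, r2, r3⟩ := hmkinj _ _ _ _ _ _ hrel
    have hca : c = a := mul_left_cancel₀ h2 (by linear_combination -r2 - r1)
    have hcb : c = b := mul_left_cancel₀ h2 (by linear_combination r3 - r1)
    subst hca hcb
    have hscal : act g = c • (1 : Matrix (Unit ⊕ (Fin 1 ⊕ Fin 1)) (Unit ⊕ (Fin 1 ⊕ Fin 1)) F) := by
      refine Matrix.ext_of_mulVec_single fun i => ?_
      rw [smul_mulVec, one_mulVec]
      rcases i with ⟨⟩ | i | i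
      · have : (Pi.single (.inl ()) 1 : Unit ⊕ (Fin 1 ⊕ Fin 1) → F) = p 2 + ((-1 : F) • p 0 + p 1) := by
          rw [hmk (Pi.single _ _)]
          simp [p, hsmul, hadd]
        rw [this, mulVec_add, mulVec_add, mulVec_smul, e0, e1, e2]
        module
      · have : (Pi.single (.inr (.inl i)) 1 : Unit ⊕ (Fin 1 ⊕ Fin 1) → F) = p 0 := by
          rw [hmk (Pi.single _ _)]
          simp [p, Fin.fin_one_eq_zero]
        rw [this, e0]
      · have : (Pi.single (.inr (.inr i)) 1 : Unit ⊕ (Fin 1 ⊕ Fin 1) → F) = p 1 := by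
          rw [hmk (Pi.single _ _)]
          simp [p, Fin.fin_one_eq_zero]
        rw [this, e1]
    have hdet : (act g).det = 1 := congrArg Units.val (g.2 : Matrix.GeneralLinearGroup.det _ = 1)
    rw [hscal, Matrix.det_smul, Matrix.det_one, mul_one, show Fintype.card (Unit ⊕ (Fin 1 ⊕ Fin 1)) = 3 from rfl,
      pow_succ, sq, hsq c hc, one_mul] at hdet
    refine Subtype.ext (Subtype.ext (Units.ext ?_))
    show act g = 1
    rw [hscal, hdet, one_smul]
  have hcardI : Nat.card (Cfsg.isometryGroup F (Cfsg.quadFormOdd 1 F)) = 48 := by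
    rw [CfsgLib.Classical.card_isometryGroup_eq _ Q hQ, CfsgLib.Classical.card_qfOdd_isoms h2, hF]
    rfl
  let det : Cfsg.isometryGroup F (Cfsg.quadFormOdd 1 F) →* Fˣ :=
    Matrix.GeneralLinearGroup.det.comp (Cfsg.isometryGroup F (Cfsg.quadFormOdd 1 F)).subtype
  have hidx : G.index = 2 := by
    show det.ker.index = 2
    rw [Subgroup.index_ker]
    have hr : det.range = ⊤ := by
      rw [eq_top_iff]
      intro u _
      let R : Matrix.GeneralLinearGroup (Unit ⊕ (Fin 1 ⊕ Fin 1)) F :=
        ⟨-1, -1, by simp, by simp⟩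
      have hR : R ∈ Cfsg.isometryGroup F (Cfsg.quadFormOdd 1 F) := fun v _ => by
        simp [R, Cfsg.quadFormOdd, neg_mulVec]
      have hu : (u : F) = 1 ∨ (u : F) = -1 := mul_self_eq_one_iff.1 (hsq _ u.ne_zero)
      rcases hu with h | h
      · rw [Units.val_eq_one.1 h]; exact one_mem _
      · refine ⟨⟨R, hR⟩, Units.ext ?_⟩
        show (-1 : Matrix (Unit ⊕ (Fin 1 ⊕ Fin 1)) (Unit ⊕ (Fin 1 ⊕ Fin 1)) F).det = u
        rw [h, Matrix.det_neg, Matrix.det_one, mul_one, show Fintype.card (Unit ⊕ (Fin 1 ⊕ Fin 1)) = 3 from rfl]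
        ring
    rw [hr, Subgroup.card_top, Nat.card_units, Nat.card_eq_fintype_card, hF]
  have hcard : Nat.card G = 24 := by
    have := G.index_mul_card
    rw [hidx, hcardI] at this
    omega
  have hbij : Function.Bijective σ := (Nat.bijective_iff_injective_and_card σ).2 ⟨hinj, by
    rw [hcard, Nat.card_perm, Nat.card_fin]; rfl⟩
  exact ⟨MulEquiv.ofBijective σ hbij⟩
end Cfsg.Agent.S0823
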