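import Cfsg.Statements.S0824
import Cfsg.Agent.Lib.Geom.PointPerm
import Cfsg.Agent.Lib.Classical.OrthOrder
-- import your own Cfsg.Agent.* helpers here

set_option autoImplicit false
open Cfsg CfsgLib.Geom Matrix

namespace Cfsg.Agent.S0824

/-- O⁻_4(2) ≅ S_5: the isometry group of the form x y + z_1² + z_1 z_2 + z_2² over the field with 2 elements is isomorphic to the symmetric group on 5 letters. -/
theorem result {F : Type*} [Field F] [Fintype F] (hF : Fintype.card F = 2) : Nonempty (↥(Cfsg.isometryGroup F (Cfsg.quadFormMinus 1 F 1 1)) ≃* Equiv.Perm (Fin 5)) := by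
  classical
  have h2 : (2 : F) = 0 := by
    have h := Nat.cast_card_eq_zero F
    rw [hF] at h
    exact_mod_cast h
  have hone : ∀ a : F, a ≠ 0 → a = 1 := fun a ha => by
    have := FiniteField.pow_card_sub_one_eq_one a ha
    rwa [hF, show 2 - 1 = 1 from rfl, pow_one] at this
  have h01 : ∀ a : F, a = 0 ∨ a = 1 := fun a => or_iff_not_imp_left.2 (hone a)
  have hab : ∀ z₁ z₂ : F, z₁ ^ 2 + 1 * z₁ * z₂ + 1 * z₂ ^ 2 = 0 → z₁ = 0 ∧ z₂ = 0 := fun a b h => by
    rcases h01 a with rfl | rfl <;> rcases h01 b with rfl | rfl <;> simp at h ⊢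
    exact one_ne_zero (show (1 : F) = 0 by linear_combination h - h2)
  let mk : F → F → F → F → ((Fin 1 ⊕ Fin 1) ⊕ Fin 2 → F) := fun a b c d =>
    Sum.elim (Sum.elim (fun _ => a) (fun _ => b)) ![c, d]
  have hmk : ∀ v, v = mk (v (.inl (.inl 0))) (v (.inl (.inr 0))) (v (.inr 0)) (v (.inr 1)) := fun v => by
    funext i; rcases i with (i | i) | i
    · simp [mk, Fin.fin_one_eq_zero]
    · simp [mk, Fin.fin_one_eq_zero]
    · fin_cases i <;> simp [mk]
  have hval : ∀ a b c d, Cfsg.quadFormMinus 1 F 1 1 (mk a b c d) = a * b + (c * c + c * d + d * d) :=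
    fun a b c d => by simp [Cfsg.quadFormMinus, mk, sq]
  have hmkinj : ∀ a b c d a' b' c' d', mk a b c d = mk a' b' c' d' → a = a' ∧ b = b' ∧ c = c' ∧ d = d' :=
    fun a b c d a' b' c' d' h => ⟨congrFun h (.inl (.inl 0)), congrFun h (.inl (.inr 0)),
      congrFun h (.inr 0), congrFun h (.inr 1)⟩
  have hsmul : ∀ t a b c d, t • mk a b c d = mk (t * a) (t * b) (t * c) (t * d) := fun t a b c d => by
    funext i; rcases i with (i | i) | i
    · simp [mk]
    · simp [mk]
    · fin_cases i <;> simp [mk]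
  have hzero : (0 : (Fin 1 ⊕ Fin 1) ⊕ Fin 2 → F) = mk 0 0 0 0 := by
    funext i; rcases i with (i | i) | i
    · simp [mk]
    · simp [mk]
    · fin_cases i <;> simp [mk]
  let p : Fin 5 → ((Fin 1 ⊕ Fin 1) ⊕ Fin 2 → F) :=
    ![mk 1 0 0 0, mk 0 1 0 0, mk 1 1 1 0, mk 1 1 0 1, mk 1 1 1 1]
  have hp : ∀ i, p i ≠ 0 := fun i h => by
    rw [hzero] at h
    fin_cases i <;> simpa [p] using hmkinj _ _ _ _ _ _ _ _ h
  have hind : ∀ i j (t : F), p i = t • p j → i = j := fun i j t h => by
    rcases h01 t with rfl | rfl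
    · exact absurd (by rw [h, zero_smul]) (hp i)
    rw [one_smul] at h
    fin_cases i <;> fin_cases j <;> first
      | rfl
      | exfalso
        simp only [p, Fin.isValue, Fin.mk_one, Fin.zero_eta, Fin.reduceFinMk, Matrix.cons_val] at h
        simpa using hmkinj _ _ _ _ _ _ _ _ h
  have hsing : ∀ v, v ≠ 0 → Cfsg.quadFormMinus 1 F 1 1 v = 0 → ∃ j, ∃ t : F, v = t • p j := fun v hv0 hv => by
    suffices ∃ j, v = p j from this.elim fun j e => ⟨j, 1, by rw [one_smul]; exact e⟩
    rw [hmk v] at hv hv0 ⊢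
    rw [hzero] at hv0
    rw [hval] at hv
    rcases h01 (v (.inl (.inl 0))) with ea | ea <;> rcases h01 (v (.inl (.inr 0))) with eb | eb <;>
      rcases h01 (v (.inr 0)) with ec | ec <;> rcases h01 (v (.inr 1)) with ed | ed <;>
      rw [ea, eb, ec, ed] at hv hv0 ⊢ <;> first
        | exact absurd rfl hv0
        | exact ⟨0, rfl⟩
        | exact ⟨1, rfl⟩
        | exact ⟨2, rfl⟩
        | exact ⟨3, rfl⟩
        | exact ⟨4, rfl⟩
        | exact absurd (show (1 : F) = 0 by linear_combination hv) one_ne_zero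
        | exact absurd (show (1 : F) = 0 by linear_combination hv - h2) one_ne_zero
  have hpsing : ∀ i, Cfsg.quadFormMinus 1 F 1 1 (p i) = 0 := fun i => by
    fin_cases i <;> simp [p, hval]
    all_goals first
      | linear_combination h2
      | linear_combination 2 * h2
  let G := Cfsg.isometryGroup F (Cfsg.quadFormMinus 1 F 1 1)
  let act : G →* Matrix ((Fin 1 ⊕ Fin 1) ⊕ Fin 2) ((Fin 1 ⊕ Fin 1) ⊕ Fin 2) F :=
    (Units.coeHom _).comp G.subtype
  have hne : ∀ g v, v ≠ 0 → act g *ᵥ v ≠ 0 := fun g v hv h => hv (by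
    have := congrArg (fun w => act g⁻¹ *ᵥ w) h
    rwa [mulVec_mulVec, ← map_mul, inv_mul_cancel, map_one, one_mulVec, mulVec_zero] at this)
  obtain ⟨σ, hσ⟩ := exists_perm_hom act p hp hind (fun g i => hsing _ (hne g _ (hp i))
    ((g.2 (p i) (p i)).trans (hpsing i)))
  have hinj : Function.Injective σ := by
    rw [injective_iff_map_eq_one]
    intro g hg
    have hfix : ∀ i, act g *ᵥ p i = p i := fun i => by
      obtain ⟨t, ht, e⟩ := hσ g i
      rw [hg, hone t ht, one_smul] at e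
      exact e
    refine Subtype.ext (Units.ext ?_)
    show act g = 1
    refine Matrix.ext_of_mulVec_single fun i => ?_
    rw [one_mulVec]
    rcases i with (i | i) | i
    · rw [show (Pi.single (.inl (.inl i)) 1 : (Fin 1 ⊕ Fin 1) ⊕ Fin 2 → F) = p 0 by
        rw [hmk (Pi.single _ _)]; simp [p, Fin.fin_one_eq_zero], hfix]
    · rw [show (Pi.single (.inl (.inr i)) 1 : (Fin 1 ⊕ Fin 1) ⊕ Fin 2 → F) = p 1 by
        rw [hmk (Pi.single _ _)]; simp [p, Fin.fin_one_eq_zero], hfix]
    · obtain rfl | rfl : i = 0 ∨ i = 1 := by omega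
      · rw [show (Pi.single (.inr (0 : Fin 2)) 1 : (Fin 1 ⊕ Fin 1) ⊕ Fin 2 → F) = p 2 - (p 0 + p 1) by
          funext k; rcases k with (k | k) | k
          · simp [p, mk]
          · simp [p, mk]
          · fin_cases k <;> simp [p, mk]]
        rw [mulVec_sub, mulVec_add, hfix, hfix, hfix]
      · rw [show (Pi.single (.inr (1 : Fin 2)) 1 : (Fin 1 ⊕ Fin 1) ⊕ Fin 2 → F) = p 3 - (p 0 + p 1) by
          funext k; rcases k with (k | k) | k
          · simp [p, mk]
          · simp [p, mk]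
          · fin_cases k <;> simp [p, mk]]
        rw [mulVec_sub, mulVec_add, hfix, hfix, hfix]
  have hcard : Nat.card G = 120 := by
    rw [CfsgLib.Classical.card_isometryGroup_eq _ _ (CfsgLib.Classical.qfMinus_apply 1 (1 : F) 1),
      CfsgLib.Classical.card_qfMinus_isoms hab, hF]
    rfl
  exact ⟨MulEquiv.ofBijective σ ((Nat.bijective_iff_injective_and_card σ).2 ⟨hinj, by
    rw [hcard, Nat.card_perm, Nat.card_fin]; rfl⟩)⟩
end Cfsg.Agent.S0824
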