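import Cfsg.Statements.S0825
import Cfsg.Agent.Lib.Geom.EvenSubsets
import Cfsg.Agent.Lib.Classical.OrthOrder
-- import your own Cfsg.Agent.* helpers here

set_option autoImplicit false
open Cfsg CfsgLib.Geom Matrix

namespace Cfsg.Agent.S0825

/-- O⁺_6(2) ≅ S_8: the isometry group of the hyperbolic form x_1y_1 + x_2y_2 + x_3y_3 over the field with 2 elements is isomorphic to the symmetric group on 8 letters. -/
theorem result {F : Type*} [Field F] [Fintype F] (hF : Fintype.card F = 2) : Nonempty (↥(Cfsg.isometryGroup F (Cfsg.quadFormPlus 3 F)) ≃* Equiv.Perm (Fin 8)) := by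
  classical
  have : Fact (Nat.Prime 2) := ⟨Nat.prime_two⟩
  have : CharP F 2 := charP_of_card_eq_prime hF
  let φ : ZMod 2 →+* F := ZMod.castHom (dvd_refl 2) F
  have hφ : Function.Bijective φ := (Fintype.bijective_iff_injective_and_card φ).2
    ⟨φ.injective, by rw [ZMod.card, hF]⟩
  let f : Equiv.Perm (Fin 8) →* Matrix (Fin 3 ⊕ Fin 3) (Fin 3 ⊕ Fin 3) F :=
    { toFun := fun σ => (permAct σ).map φ
      map_one' := by rw [permAct_one]; exact Matrix.map_one φ (map_zero φ) (map_one φ)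
      map_mul' := fun σ τ => by rw [permAct_mul, Matrix.map_mul] }
  have hq : ∀ v : Fin 3 ⊕ Fin 3 → ZMod 2, Cfsg.quadFormPlus 3 F (fun i => φ (v i)) =
      φ (Cfsg.quadFormPlus 3 (ZMod 2) v) := fun v => by simp [Cfsg.quadFormPlus]
  let g : Equiv.Perm (Fin 8) →* Cfsg.isometryGroup F (Cfsg.quadFormPlus 3 F) :=
    f.toHomUnits.codRestrict _ fun σ u _ => by
      obtain ⟨v, rfl⟩ : ∃ v : Fin 3 ⊕ Fin 3 → ZMod 2, u = fun i => φ (v i) :=
        ⟨fun i => (RingEquiv.ofBijective φ hφ).symm (u i),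
          funext fun i => ((RingEquiv.ofBijective φ hφ).apply_symm_apply (u i)).symm⟩
      have : f σ *ᵥ (fun i => φ (v i)) = fun i => φ ((permAct σ *ᵥ v) i) :=
        funext fun i => (RingHom.map_mulVec φ (permAct σ) v i).symm
      show Cfsg.quadFormPlus 3 F (f σ *ᵥ fun i => φ (v i)) = Cfsg.quadFormPlus 3 F fun i => φ (v i)
      rw [this, hq, hq, permAct_isometry]
  have hinj : Function.Injective g := by
    rw [injective_iff_map_eq_one]
    intro σ hσ
    refine permAct_eq_one σ (Matrix.map_injective hφ.1 ?_)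
    show (permAct σ).map φ = (1 : Matrix (Fin 3 ⊕ Fin 3) (Fin 3 ⊕ Fin 3) (ZMod 2)).map φ
    rw [Matrix.map_one φ (map_zero φ) (map_one φ)]
    exact congrArg (fun x : Cfsg.isometryGroup F (Cfsg.quadFormPlus 3 F) =>
      (x.1.val : Matrix (Fin 3 ⊕ Fin 3) (Fin 3 ⊕ Fin 3) F)) hσ
  have hcard : Nat.card (Cfsg.isometryGroup F (Cfsg.quadFormPlus 3 F)) = 40320 := by
    rw [CfsgLib.Classical.card_isometryGroup_eq _ _ (CfsgLib.Classical.qfPlus_apply 3),
      CfsgLib.Classical.card_qfPlus_isoms 2, hF]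
    rfl
  exact ⟨(MulEquiv.ofBijective g ((Nat.bijective_iff_injective_and_card g).2 ⟨hinj, by
    rw [hcard, Nat.card_perm, Nat.card_fin]; rfl⟩)).symm⟩
end Cfsg.Agent.S0825
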