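import Cfsg.Statements.S0826
import Cfsg.Agent.Lib.Geom.SplitStab
import Cfsg.Agent.Lib.Geom.Symp
import Cfsg.Agent.Lib.Geom.SympSpace
-- import your own Cfsg.Agent.* helpers here

set_option autoImplicit false
open Cfsg CfsgLib.Geom

namespace Cfsg.Agent.S0826

/-- S_2n ≤ Sp_(2n−2)(2) for n ≥ 3: there is an injective homomorphism from the symmetric group on 2n letters into the symplectic group of degree 2n − 2 over the field with two elements. -/
theorem result (n : ℕ) (hn : 3 ≤ n) : ∃ f : Equiv.Perm (Fin (2 * n)) →* Matrix.symplecticGroup (Fin (n - 1)) (ZMod 2), Function.Injective f := by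
  classical
  let S : (Fin (2 * n) → ZMod 2) →ₗ[ZMod 2] ZMod 2 := ∑ i, LinearMap.proj i
  have hS : ∀ x, S x = ∑ i, x i := fun x => by simp [S]
  let E := LinearMap.ker S
  have hone : S 1 = 0 := by
    rw [hS]; simp; left; decide
  let one : E := ⟨1, hone⟩
  let N : Submodule (ZMod 2) E := Submodule.span (ZMod 2) {one}
  let B₀ : E →ₗ[ZMod 2] E →ₗ[ZMod 2] ZMod 2 := LinearMap.mk₂ (ZMod 2) (fun x y => ∑ i, x.1 i * y.1 i)
    (fun x x' y => by simp [add_mul, Finset.sum_add_distrib])
    (fun c x y => by simp [Finset.mul_sum, mul_assoc])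
    (fun x y y' => by simp [mul_add, Finset.sum_add_distrib])
    (fun c x y => by simp [Finset.mul_sum, mul_left_comm])
  have hB₀ : ∀ x y, B₀ x y = ∑ i, x.1 i * y.1 i := fun x y => rfl
  have hsymm : ∀ x y, B₀ x y = B₀ y x := fun x y => by simp [hB₀, mul_comm]
  have hB1 : ∀ x, B₀ one x = 0 := fun x => by
    rw [hB₀]; simpa [one, ← hS] using x.2
  let B₁ : (E ⧸ N) →ₗ[ZMod 2] E →ₗ[ZMod 2] ZMod 2 := N.liftQ B₀ (by
    rw [Submodule.span_le, Set.singleton_subset_iff]
    exact LinearMap.ext hB1)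
  let B : (E ⧸ N) →ₗ[ZMod 2] (E ⧸ N) →ₗ[ZMod 2] ZMod 2 := (N.liftQ B₁.flip (by
    rw [Submodule.span_le, Set.singleton_subset_iff]
    refine LinearMap.ext fun x => ?_
    obtain ⟨x, rfl⟩ := N.mkQ_surjective x
    show B₀ x one = 0
    rw [hsymm, hB1])).flip
  have hB : ∀ x y : E, B (N.mkQ x) (N.mkQ y) = B₀ x y := fun x y => rfl
  have hidem : ∀ a : ZMod 2, a * a = a := by decide
  have hA : ∀ v, B v v = 0 := fun v => by
    obtain ⟨x, rfl⟩ := N.mkQ_surjective v
    rw [hB, hB₀]; simpa [hidem, ← hS] using x.2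
  have hpair : ∀ i j, i ≠ j → (Pi.single i 1 + Pi.single j 1 : Fin (2 * n) → ZMod 2) ∈ E := by
    intro i j _
    show S _ = 0
    rw [map_add, hS, hS]; simp; decide
  have hsepB : ∀ v, (∀ w, B v w = 0) → v = 0 := by
    intro v hv
    obtain ⟨x, rfl⟩ := N.mkQ_surjective v
    have hx : ∀ i j, x.1 i = x.1 j := fun i j => by
      by_cases hij : i = j
      · rw [hij]
      have := hv (N.mkQ ⟨_, hpair i j hij⟩)
      rw [hB, hB₀] at this
      simp [mul_add, Finset.sum_add_distrib, Pi.single_apply] at this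
      rwa [← CharTwo.add_eq_zero]
    rw [Submodule.mkQ_apply, Submodule.Quotient.mk_eq_zero, Submodule.mem_span_singleton]
    exact ⟨x.1 ⟨0, by omega⟩, Subtype.ext (funext fun i => by simp [one, hx i ⟨0, by omega⟩])⟩
  have hdim : Module.finrank (ZMod 2) (E ⧸ N) = 2 * (n - 1) := by
    have h1 : Module.finrank (ZMod 2) E + 1 = 2 * n := by
      rw [Module.Dual.finrank_ker_add_one_of_ne_zero (f := S) (fun h => by
        have := LinearMap.congr_fun h (Pi.single ⟨0, by omega⟩ 1)
        rw [hS] at this; simp at this)]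
      simp
    have h2 : Module.finrank (ZMod 2) N = 1 := finrank_span_singleton fun h => by
      have := congrFun (congrArg Subtype.val h) ⟨0, by omega⟩
      simp [one] at this
    have := N.finrank_quotient_add_finrank
    omega
  let P : Equiv.Perm (Fin (2 * n)) → (E ≃ₗ[ZMod 2] E) := fun σ =>
    LinearEquiv.ofSubmodules (LinearEquiv.funCongrLeft (ZMod 2) (ZMod 2) σ⁻¹) E E (by
      ext x
      rw [Submodule.mem_map_equiv]
      show S ((LinearEquiv.funCongrLeft (ZMod 2) (ZMod 2) σ⁻¹).symm x) = 0 ↔ S x = 0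
      rw [hS, hS, LinearEquiv.funCongrLeft_symm]
      simp only [LinearEquiv.funCongrLeft_apply, LinearMap.funLeft_apply]
      rw [Equiv.sum_comp σ⁻¹.symm (fun i => x i)])
  have hP : ∀ σ (x : E) i, (P σ x).1 i = x.1 (σ⁻¹ i) := fun σ x i => rfl
  have hPN : ∀ σ, N.map (P σ : E →ₗ[ZMod 2] E) = N := fun σ => by
    rw [Submodule.map_span, Set.image_singleton]
    rfl
  let R : Equiv.Perm (Fin (2 * n)) →* formIsoms B :=
    { toFun := fun σ => ⟨Submodule.Quotient.equiv N N (P σ) (hPN σ), fun u v => by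
        obtain ⟨x, rfl⟩ := N.mkQ_surjective u
        obtain ⟨y, rfl⟩ := N.mkQ_surjective v
        show B (N.mkQ (P σ x)) (N.mkQ (P σ y)) = _
        rw [hB, hB, hB₀, hB₀]
        simp only [hP]
        exact Equiv.sum_comp σ⁻¹ (fun i => x.1 i * y.1 i)⟩
      map_one' := Subtype.ext (LinearEquiv.ext fun u => by
        obtain ⟨x, rfl⟩ := N.mkQ_surjective u
        rfl)
      map_mul' := fun σ τ => Subtype.ext (LinearEquiv.ext fun u => by
        obtain ⟨x, rfl⟩ := N.mkQ_surjective u
        rfl) }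
  have hR : Function.Injective R := by
    rw [injective_iff_map_eq_one]
    intro σ hσ
    have hfix : ∀ i j, i ≠ j → σ i = i ∨ σ i = j := by
      intro i j hij
      by_contra hcon
      push Not at hcon
      have h0 : N.mkQ (P σ ⟨_, hpair i j hij⟩) = N.mkQ ⟨_, hpair i j hij⟩ :=
        congrArg (fun g : formIsoms B => g.1 (N.mkQ ⟨_, hpair i j hij⟩)) hσ
      rw [Submodule.mkQ_apply, Submodule.mkQ_apply, Submodule.Quotient.eq,
        Submodule.mem_span_singleton] at h0
      obtain ⟨c, hc⟩ := h0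
      obtain ⟨k, -, hk⟩ := Finset.exists_mem_notMem_of_card_lt_card
        (s := ({i, j, σ i, σ j} : Finset (Fin (2 * n)))) (t := Finset.univ)
        (lt_of_le_of_lt Finset.card_le_four (by simp; omega))
      simp only [Finset.mem_insert, Finset.mem_singleton, not_or] at hk
      have hσk : σ.symm k ≠ i ∧ σ.symm k ≠ j := ⟨fun h => hk.2.2.1 (by rw [← h]; simp),
        fun h => hk.2.2.2 (by rw [← h]; simp)⟩
      have e1 := congrFun (congrArg Subtype.val hc) k
      have e2 := congrFun (congrArg Subtype.val hc) (σ i)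
      simp only [Submodule.coe_smul, Submodule.coe_sub, Pi.sub_apply, Pi.smul_apply, hP] at e1 e2
      simp [one, Pi.single_apply, hk.1, hk.2.1, hσk.1, hσk.2] at e1
      subst e1
      simp [Pi.single_apply, hcon.1, hcon.2, hij] at e2
    refine Equiv.ext fun i => ?_
    obtain ⟨j, -, hj⟩ := Finset.exists_mem_notMem_of_card_lt_card
      (s := ({i, σ i} : Finset (Fin (2 * n)))) (t := Finset.univ)
      (lt_of_le_of_lt Finset.card_le_two (by simp; omega))
    simp only [Finset.mem_insert, Finset.mem_singleton, not_or] at hj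
    rcases hfix i j (Ne.symm hj.1) with h | h
    · exact h
    · exact absurd h.symm hj.2
  obtain ⟨e, he⟩ := exists_symp_isometry (2 * (n - 1)) B (sympBilin (n - 1) (ZMod 2)) hA hsepB
    sympBilin_self sympBilin_sep hdim (by simp; omega)
  exact ⟨((formIsomsCongr B _ e he).trans (spEquiv (n - 1) (ZMod 2))).toMonoidHom.comp R,
    ((formIsomsCongr B _ e he).trans (spEquiv (n - 1) (ZMod 2))).injective.comp hR⟩
end Cfsg.Agent.S0826
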