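import Cfsg.Statements.S0828
import Cfsg.Agent.Lib.Geom.IsoCount
import Cfsg.Agent.Lib.Geom.IsoStabSymp
import Cfsg.Agent.Lib.Geom.MaxTS
-- import your own Cfsg.Agent.* helpers here

set_option autoImplicit false
open Cfsg CfsgLib.Geom CfsgLib.Classical

namespace Cfsg.Agent.S0828

/-- The symplectic generalised quadrangle over a field with q elements: the number of 2-dimensional subspaces of F^4 on which the symplectic form vanishes is (q + 1)(q² + 1), and every non-zero vector lies in exactly q + 1 of them. -/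
theorem result {F : Type*} [Field F] [Fintype F] {q : ℕ} (hF : Fintype.card F = q) : Nat.card {W : Submodule F (Fin 2 ⊕ Fin 2 → F) // Module.finrank F W = 2 ∧ ∀ u ∈ W, ∀ v ∈ W, Cfsg.sympForm 2 F u v = 0} = (q + 1) * (q ^ 2 + 1) ∧ ∀ v : Fin 2 ⊕ Fin 2 → F, v ≠ 0 → Nat.card {W : Submodule F (Fin 2 ⊕ Fin 2 → F) // Module.finrank F W = 2 ∧ v ∈ W ∧ ∀ u ∈ W, ∀ w ∈ W, Cfsg.sympForm 2 F u w = 0} = q + 1 := by
  classical
  subst hF
  set q := Fintype.card F with hq
  have hq2 : 2 ≤ q := Fintype.one_lt_card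
  have hA : ∀ v, sympBilin 2 F v v = 0 := sympBilin_self
  have hw := hasWittExt_alt (sympBilin 2 F) hA sympBilin_sep
  have hdim : Module.finrank F (Fin 2 ⊕ Fin 2 → F) = 4 := by simp
  constructor
  · let ι : (Fin 2 → F) →ₗ[F] (Fin 2 ⊕ Fin 2 → F) :=
      { toFun := fun a => Sum.elim a 0
        map_add' := fun a b => funext fun i => by rcases i with i | i <;> simp
        map_smul' := fun c a => funext fun i => by rcases i with i | i <;> simp }
    have hιi : Function.Injective ι := fun a b h => funext fun i => congrFun h (Sum.inl i)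
    have hk : Module.finrank F (LinearMap.range ι) = 2 := by
      rw [LinearMap.finrank_range_of_inj hιi]; simp
    have hiso : ∀ u ∈ LinearMap.range ι, ∀ v ∈ LinearMap.range ι, sympBilin 2 F u v = 0 := by
      rintro _ ⟨a, rfl⟩ _ ⟨b, rfl⟩
      simp [sympBilin_apply, sympForm_eq_sum, ι]
    have h := card_isotropic_mul (σ := RingHom.id F) (sympBilin 2 F) hw _ hk hiso
    rw [card_isomStab_symp 2 2 le_rfl _ hk hiso,
      card_formIsoms_alt (sympBilin 2 F) hA sympBilin_sep 2 hdim, ← hq] at h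
    simp only [← sympBilin_apply]
    set N := Nat.card {W : Submodule F (Fin 2 ⊕ Fin 2 → F) //
      Module.finrank F W = 2 ∧ ∀ u ∈ W, ∀ v ∈ W, sympBilin 2 F u v = 0} with hN
    clear_value N
    simp [Fin.prod_univ_two, Finset.sum_range_succ, Finset.prod_range_succ] at h
    obtain ⟨r, hr⟩ : ∃ r, q = r + 2 := ⟨q - 2, by omega⟩
    have h1 : q ^ 2 - 1 = (r + 2) * (r + 2) - 1 := by rw [hr, sq]
    rw [hr] at h ⊢
    have e1 : (r + 2) ^ 2 - 1 = r * r + 4 * r + 3 := by
      rw [show (r + 2) ^ 2 = r * r + 4 * r + 3 + 1 by ring]; rfl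
    have e2 : (r + 2) ^ 4 - 1 = (r * r + 4 * r + 3) * (r * r + 4 * r + 5) := by
      rw [show (r + 2) ^ 4 = (r * r + 4 * r + 3) * (r * r + 4 * r + 5) + 1 by ring]; rfl
    have e3 : (r + 2) ^ 2 - (r + 2) = r * r + 3 * r + 2 := by
      rw [show (r + 2) ^ 2 = r * r + 3 * r + 2 + (r + 2) by ring]; omega
    rw [e1, e2, e3] at h
    refine Nat.eq_of_mul_eq_mul_right
      (show 0 < (r * r + 4 * r + 3) * (r * r + 3 * r + 2) * (r + 2) ^ 3 by positivity) ?_
    linear_combination h
  · intro v hv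
    let L : Submodule F (Fin 2 ⊕ Fin 2 → F) := Submodule.span F {v}
    let P : Submodule F (Fin 2 ⊕ Fin 2 → F) := LinearMap.ker (sympBilin 2 F v)
    have hL : Module.finrank F L = 1 := finrank_span_singleton hv
    have hP : Module.finrank F P = 3 := by
      have := Module.Dual.finrank_ker_add_one_of_ne_zero (f := sympBilin 2 F v)
        (fun h => hv (sympBilin_sep _ fun y => LinearMap.congr_fun h y))
      rw [hdim] at this
      exact Nat.succ.inj this
    have hLP : L ≤ P := (Submodule.span_singleton_le_iff_mem _ _).2 (hA v)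
    let X := {W : Submodule F (Fin 2 ⊕ Fin 2 → F) // Module.finrank F W = 2 ∧ v ∈ W ∧
      ∀ u ∈ W, ∀ w ∈ W, Cfsg.sympForm 2 F u w = 0}
    have hsub : ∀ {A B : Submodule F (Fin 2 ⊕ Fin 2 → F)}, A ≤ B →
        Nat.card {w // w ∈ B ∧ w ∉ A} = q ^ Module.finrank F B - q ^ Module.finrank F A := by
      intro A B hAB
      have e : {w // w ∈ B ∧ w ∉ A} ≃ ((B : Set (Fin 2 ⊕ Fin 2 → F)) \ A : Set _) := Equiv.refl _
      have hc : ∀ C : Submodule F (Fin 2 ⊕ Fin 2 → F), Set.ncard (C : Set (Fin 2 ⊕ Fin 2 → F)) =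
          q ^ Module.finrank F C := fun C => by
        rw [← Nat.card_coe_set_eq, hq, ← Nat.card_eq_fintype_card]
        exact Module.natCard_eq_pow_finrank
      rw [Nat.card_congr e, Nat.card_coe_set_eq, Set.ncard_diff hAB (Set.toFinite _), hc, hc]
    have hmk : ∀ w : {w // w ∈ P ∧ w ∉ L},
        Module.finrank F (L ⊔ Submodule.span F {w.1} : Submodule F _) = 2 ∧
          v ∈ L ⊔ Submodule.span F {w.1} ∧ ∀ a ∈ L ⊔ Submodule.span F {w.1},
            ∀ c ∈ L ⊔ Submodule.span F {w.1}, Cfsg.sympForm 2 F a c = 0 := by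
      intro w
      refine ⟨by rw [finrank_sup_span w.2.2, hL], Submodule.mem_sup_left (Submodule.mem_span_singleton_self v), ?_⟩
      intro a ha c hc
      obtain ⟨_, ha1, _, ha2, rfl⟩ := Submodule.mem_sup.1 ha
      obtain ⟨_, hc1, _, hc2, rfl⟩ := Submodule.mem_sup.1 hc
      obtain ⟨x, rfl⟩ := Submodule.mem_span_singleton.1 ha1
      obtain ⟨y, rfl⟩ := Submodule.mem_span_singleton.1 ha2
      obtain ⟨z, rfl⟩ := Submodule.mem_span_singleton.1 hc1
      obtain ⟨t, rfl⟩ := Submodule.mem_span_singleton.1 hc2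
      rw [← sympBilin_apply]
      have h1 : sympBilin 2 F v w.1 = 0 := w.2.1
      simp [hA, h1, sympBilin_swap v]
    let E : {w // w ∈ P ∧ w ∉ L} ≃ Σ W : X, {w // w ∈ W.1 ∧ w ∉ L} :=
      { toFun := fun w => ⟨⟨_, hmk w⟩, w.1,
          Submodule.mem_sup_right (Submodule.mem_span_singleton_self w.1), w.2.2⟩
        invFun := fun p => ⟨p.2.1, by
          show sympBilin 2 F v p.2.1 = 0
          rw [sympBilin_apply]; exact p.1.2.2.2 v p.1.2.2.1 _ p.2.2.1, p.2.2.2⟩
        left_inv := fun w => rfl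
        right_inv := fun p => Sigma.subtype_ext (Subtype.ext (Submodule.eq_of_le_of_finrank_eq
          (sup_le ((Submodule.span_singleton_le_iff_mem _ _).2 p.1.2.2.1)
            ((Submodule.span_singleton_le_iff_mem _ _).2 p.2.2.1))
          (by rw [finrank_sup_span p.2.2.2, hL, p.1.2.1]))) rfl }
    have h := Nat.card_congr E
    have : Fintype X := Fintype.ofFinite _
    rw [hsub hLP, Nat.card_sigma, Finset.sum_congr rfl (fun W _ => hsub
      ((Submodule.span_singleton_le_iff_mem _ _).2 W.2.2.1)), hP, hL] at h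
    rw [Finset.sum_congr rfl (fun W _ => by rw [W.2.1]), Finset.sum_const, Finset.card_univ, smul_eq_mul,
      ← Nat.card_eq_fintype_card] at h
    obtain ⟨r, hr⟩ : ∃ r, q = r + 2 := ⟨q - 2, by omega⟩
    rw [hr] at h ⊢
    have e1 : (r + 2) ^ 3 - (r + 2) ^ 1 = (r + 3) * (r * r + 3 * r + 2) := by
      rw [show (r + 2) ^ 3 = (r + 3) * (r * r + 3 * r + 2) + (r + 2) ^ 1 by ring]; omega
    have e2 : (r + 2) ^ 2 - (r + 2) ^ 1 = r * r + 3 * r + 2 := by
      rw [show (r + 2) ^ 2 = r * r + 3 * r + 2 + (r + 2) ^ 1 by ring]; omega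
    rw [e1, e2] at h
    exact (Nat.eq_of_mul_eq_mul_right (by positivity) h).symm
end Cfsg.Agent.S0828
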