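import Cfsg.Statements.S0830
import Cfsg.Agent.Lib.Geom.HermCountSub
-- import your own Cfsg.Agent.* helpers here

set_option autoImplicit false
open Cfsg CfsgLib.Geom

namespace Cfsg.Agent.S0830

/-- The unitary quadrangle of PSU_5(q): with |F| = q², the number of 2-dimensional subspaces of F^5 on which the Hermitian form vanishes is (q³ + 1)(q⁵ + 1). -/
theorem result {F : Type*} [Field F] [Fintype F] {q : ℕ} (hF : Fintype.card F = q ^ 2) : Nat.card {W : Submodule F (Fin 5 → F) // Module.finrank F W = 2 ∧ ∀ u ∈ W, ∀ v ∈ W, Cfsg.hermForm 5 F q u v = 0} = (q ^ 3 + 1) * (q ^ 5 + 1) := by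
  have h := card_isotropic_planes_mul hF (n := 5) (by norm_num)
  set N := Nat.card _ with hN
  clear_value N
  simp [Fin.prod_univ_two, Finset.prod_range_succ, (by decide : ¬ Even 3), (by decide : Even 2),
    (by decide : Even 4)] at h
  obtain ⟨r, rfl⟩ : ∃ r, q = r + 2 := ⟨q - 2, by have := CfsgLib.Classical.two_le_of_card_sq hF; omega⟩
  have e1 : (r + 2) ^ 2 - 1 = r * r + 4 * r + 3 := by
    rw [show (r + 2) ^ 2 = r * r + 4 * r + 3 + 1 by ring]; rfl
  have e2 : ((r + 2) ^ 2) ^ 2 - 1 = (r * r + 4 * r + 3) * (r * r + 4 * r + 5) := by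
    rw [show ((r + 2) ^ 2) ^ 2 = (r * r + 4 * r + 3) * (r * r + 4 * r + 5) + 1 by ring]; rfl
  have e2' : (r + 2) ^ 4 - 1 = (r * r + 4 * r + 3) * (r * r + 4 * r + 5) := by
    rw [← e2, ← pow_mul]
  have e3 : ((r + 2) ^ 2) ^ 2 - (r + 2) ^ 2 = (r + 2) ^ 2 * (r * r + 4 * r + 3) := by
    rw [show ((r + 2) ^ 2) ^ 2 = (r + 2) ^ 2 * (r * r + 4 * r + 3) + (r + 2) ^ 2 by ring]; omega
  rw [e1, e2, e2', e3] at h
  refine Nat.eq_of_mul_eq_mul_right
    (show 0 < (r + 2) ^ 10 * (r * r + 4 * r + 3) ^ 2 * (r * r + 4 * r + 5) * (r + 3) by positivity) ?_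
  linear_combination h
end Cfsg.Agent.S0830
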