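import Cfsg.Statements.S0831
import Cfsg.Agent.Lib.Geom.PlusTS
-- import your own Cfsg.Agent.* helpers here

set_option autoImplicit false
open Cfsg CfsgLib.Geom

namespace Cfsg.Agent.S0831

/-- The two families of maximal totally singular subspaces of the hyperbolic quadric: for the form Σ x_i y_i on F^(2m), m ≥ 1, and m-dimensional subspaces U, W, X on which it vanishes, the parities of m − dim(U ∩ W), m − dim(W ∩ X) and m − dim(U ∩ X) sum to an even number (so 'even codimension of the intersection' is an equivalence relation), and there exist two such subspaces meeting in codimension 1 (so there are exactly two classes). -/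
theorem result {F : Type*} [Field F] (m : ℕ) (hm : 1 ≤ m) : (∀ U W X : Submodule F (Fin m ⊕ Fin m → F), (Module.finrank F U = m ∧ ∀ w ∈ U, Cfsg.quadFormPlus m F w = 0) → (Module.finrank F W = m ∧ ∀ w ∈ W, Cfsg.quadFormPlus m F w = 0) → (Module.finrank F X = m ∧ ∀ w ∈ X, Cfsg.quadFormPlus m F w = 0) → Even ((m - Module.finrank F ↥(U ⊓ W)) + (m - Module.finrank F ↥(W ⊓ X)) + (m - Module.finrank F ↥(U ⊓ X)))) ∧ ∃ U W : Submodule F (Fin m ⊕ Fin m → F), (Module.finrank F U = m ∧ ∀ w ∈ U, Cfsg.quadFormPlus m F w = 0) ∧ (Module.finrank F W = m ∧ ∀ w ∈ W, Cfsg.quadFormPlus m F w = 0) ∧ Module.finrank F ↥(U ⊓ W) + 1 = m := by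
  have hdim : Module.finrank F (Fin m ⊕ Fin m → F) = 2 * m := by simp; omega
  have hQ := plusForm_nondeg (F := F) m
  simp only [← plusForm_coe]
  refine ⟨fun U W X hU hW hX => even_sum_codim (plusForm m F) hQ hdim hU hW hX, ?_⟩
  let s : Fin m → Bool := fun _ => true
  let t : Fin m → Bool := fun i => decide ((i : ℕ) ≠ 0)
  refine ⟨coordTS m s, coordTS m t, isMaxTS_coordTS m s, isMaxTS_coordTS m t, ?_⟩
  have h0 := isMaxTS_coordTS (F := F) m s
  let i₀ : Fin m := ⟨0, hm⟩
  have hker : (coordTS (F := F) m s ⊓ coordTS m t : Submodule F _) =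
      coordTS m s ⊓ LinearMap.ker (LinearMap.proj (R := F) (φ := fun _ => F) (Sum.inr i₀ : Fin m ⊕ Fin m)) := by
    ext v
    simp only [Submodule.mem_inf, mem_coordTS, LinearMap.mem_ker, LinearMap.proj_apply, s, t, i₀]
    constructor
    · exact fun h => ⟨h.1, by simpa using h.2 ⟨0, hm⟩⟩
    · refine fun h => ⟨h.1, fun i => ?_⟩
      by_cases hi : (i : ℕ) = 0
      · have : i = ⟨0, hm⟩ := Fin.ext hi
        subst this; simpa using h.2
      · simpa [hi] using h.1 i
  rw [hker]
  have hf : (LinearMap.proj (R := F) (φ := fun _ => F) (Sum.inr i₀ : Fin m ⊕ Fin m)) ∘ₗ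
      (coordTS (F := F) m s).subtype ≠ 0 := fun h => by
    have := LinearMap.congr_fun h ((coordTSEquiv m s).symm (Pi.single i₀ 1))
    simp [coordTSEquiv, s] at this
  have h1 := Module.Dual.finrank_ker_add_one_of_ne_zero hf
  rw [h0.1, LinearMap.ker_comp, ← Submodule.finrank_map_subtype_eq, Submodule.map_comap_subtype] at h1
  exact h1
end Cfsg.Agent.S0831
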