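import Cfsg.Statements.S0832
import Cfsg.Agent.Lib.Geom.PlusTS
-- import your own Cfsg.Agent.* helpers here

set_option autoImplicit false
open Cfsg CfsgLib.Geom

namespace Cfsg.Agent.S0832

/-- For the form Σ x_i y_i on F^(2m) over a finite field, m ≥ 1: an (m−1)-dimensional subspace on which the form vanishes is contained in exactly two m-dimensional subspaces on which it vanishes. -/
theorem result {F : Type*} [Field F] [Finite F] (m : ℕ) (hm : 1 ≤ m) (U : Submodule F (Fin m ⊕ Fin m → F)) (hU : Module.finrank F U + 1 = m ∧ ∀ u ∈ U, Cfsg.quadFormPlus m F u = 0) : Nat.card {W : Submodule F (Fin m ⊕ Fin m → F) // Module.finrank F W = m ∧ (∀ w ∈ W, Cfsg.quadFormPlus m F w = 0) ∧ U ≤ W} = 2 := by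
  have hdim : Module.finrank F (Fin m ⊕ Fin m → F) = 2 * m := by simp; omega
  have hQ := plusForm_nondeg (F := F) m
  simp only [← plusForm_coe] at hU ⊢
  obtain ⟨hUd, hUts⟩ := hU
  obtain ⟨W, X, hW, hX, hUW, hUX, hne⟩ := exists_two_above (plusForm m F) hQ hdim hUd hUts
    (isMaxTS_coordTS m (fun _ => true))
  rw [Nat.card_eq_two_iff]
  refine ⟨⟨W, hW.1, hW.2, hUW⟩, ⟨X, hX.1, hX.2, hUX⟩, fun h => hne (congrArg Subtype.val h), ?_⟩
  refine Set.eq_univ_of_forall fun Z => ?_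
  obtain ⟨Z, hZ1, hZ2, hUZ⟩ := Z
  rcases eq_or_eq_of_above (plusForm m F) hQ hdim hUd hW hX hne hUW hUX ⟨hZ1, hZ2⟩ hUZ with rfl | rfl
  · exact Or.inl rfl
  · exact Or.inr rfl
end Cfsg.Agent.S0832
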