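import Cfsg.Statements.S0833
import Cfsg.Agent.Lib.Geom.Symp
import Cfsg.Agent.Lib.Geom.SympSpace
-- import your own Cfsg.Agent.* helpers here

set_option autoImplicit false
open Cfsg CfsgLib.Geom TensorProduct

namespace Cfsg.Agent.S0833

/-- If B₁, B₂ are non-degenerate alternating forms on U (dim 2k) and W (dim 2l), then B₁ ⊗ B₂ on U ⊗ W is symmetric, non-degenerate, and vanishes identically on some subspace of dimension 2kl (half of dim U ⊗ W). -/
theorem result {F U W : Type*} [Field F] [Fintype F] [AddCommGroup U] [Module F U] [FiniteDimensional F U] [AddCommGroup W] [Module F W] [FiniteDimensional F W] (B₁ : LinearMap.BilinForm F U) (B₂ : LinearMap.BilinForm F W) (h₁ : B₁.Nondegenerate) (h₂ : B₂.Nondegenerate) (hA₁ : B₁.IsAlt) (hA₂ : B₂.IsAlt) (k l : ℕ) (hU : Module.finrank F U = 2 * k) (hW : Module.finrank F W = 2 * l) : (B₁.tmul B₂).IsSymm ∧ (B₁.tmul B₂).Nondegenerate ∧ (∃ X : Submodule F (TensorProduct F U W), Module.finrank F X = 2 * k * l ∧ ∀ x ∈ X, ∀ y ∈ X, (B₁.tmul B₂) x y = 0) := by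
  have hev : ∀ (u u' : U) (w w' : W), (B₁.tmul B₂) (u ⊗ₜ[F] w) (u' ⊗ₜ[F] w') = B₁ u u' * B₂ w w' := by
    intro u u' w w'
    simp [mul_comm]
  have hsym : ∀ x y, (B₁.tmul B₂) x y = (B₁.tmul B₂) y x := by
    intro x y
    induction x using TensorProduct.induction_on with
    | zero => simp
    | add a b ha hb => simp [ha, hb]
    | tmul u w =>
      induction y using TensorProduct.induction_on with
      | zero => simp
      | add a b ha hb => simp [ha, hb]
      | tmul u' w' =>
        rw [hev, hev, alt_neg_swap B₁ hA₁ u' u, alt_neg_swap B₂ hA₂ w' w]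
        ring
  have hsep : ∀ x, (∀ y, (B₁.tmul B₂) x y = 0) → x = 0 := by
    classical
    intro x hx
    let b := Module.finBasis F U
    let c := Module.finBasis F W
    let d := B₁.dualBasis h₁ b
    let e := B₂.dualBasis h₂ c
    refine (b.tensorProduct c).ext_elem fun ij => ?_
    obtain ⟨i, j⟩ := ij
    have hf : (B₁.tmul B₂) (d i ⊗ₜ[F] e j) = (b.tensorProduct c).coord (i, j) := by
      refine (b.tensorProduct c).ext fun kl => ?_
      obtain ⟨k', l'⟩ := kl
      rw [Module.Basis.coord_apply, Module.Basis.repr_self, Module.Basis.tensorProduct_apply, hev,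
        LinearMap.BilinForm.apply_dualBasis_left, LinearMap.BilinForm.apply_dualBasis_left,
        Finsupp.single_apply]
      simp only [Prod.mk.injEq]
      split_ifs <;> simp_all
    rw [map_zero, ← Module.Basis.coord_apply, ← hf, hsym, hx]
    rfl
  refine ⟨⟨hsym⟩, ⟨hsep, fun y hy => hsep y fun x => by rw [hsym]; exact hy x⟩, ?_⟩
  obtain ⟨e₁, he₁⟩ := exists_symp_isometry (2 * k) (sympBilin k F) B₁ sympBilin_self sympBilin_sep
    hA₁ h₁.1 (by simp; omega) hU
  let L := LinearMap.range (e₁.toLinearMap ∘ₗ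
    (LinearEquiv.sumArrowLequivProdArrow (Fin k) (Fin k) F F).symm.toLinearMap ∘ₗ
      LinearMap.inl F (Fin k → F) (Fin k → F))
  have hL : Module.finrank F L = k := by
    rw [LinearMap.finrank_range_of_inj]
    · simp
    · exact e₁.injective.comp ((LinearEquiv.sumArrowLequivProdArrow (Fin k) (Fin k) F F).symm.injective.comp LinearMap.inl_injective)
  have hiso : ∀ u ∈ L, ∀ u' ∈ L, B₁ u u' = 0 := by
    rintro _ ⟨a, rfl⟩ _ ⟨b, rfl⟩
    simp [he₁, sympBilin_apply, sympForm_eq_sum, LinearEquiv.sumArrowLequivProdArrow]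
  refine ⟨LinearMap.range (L.subtype.rTensor W), ?_, ?_⟩
  · rw [LinearMap.finrank_range_of_inj
      (Module.Flat.rTensor_preserves_injective_linearMap _ L.injective_subtype),
      Module.finrank_tensorProduct, hL, hW]
    ring
  · rintro _ ⟨x, rfl⟩ _ ⟨y, rfl⟩
    induction x using TensorProduct.induction_on with
    | zero => simp
    | add a b ha hb => simp [ha, hb]
    | tmul u w =>
      induction y using TensorProduct.induction_on with
      | zero => simp
      | add a b ha hb => rw [map_add, map_add, ha, hb, add_zero]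
      | tmul u' w' =>
        rw [LinearMap.rTensor_tmul, LinearMap.rTensor_tmul, hev]
        simp [hiso _ u.2 _ u'.2]
end Cfsg.Agent.S0833
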