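import Cfsg.Statements.S0834
import Cfsg.Agent.Lib.Geom.PlusType

set_option autoImplicit false
open Cfsg

namespace Cfsg.Agent.S0834

/-- Over a finite field with 2 ≠ 0: if B₁ on U (dim 2k, k ≥ 1) and B₂ on W (dim 2l, l ≥ 1) are non-degenerate symmetric forms admitting no totally isotropic subspaces of dimensions k, resp. l (minus type), then B₁ ⊗ B₂ admits a totally isotropic subspace of dimension 2kl (plus type). -/
theorem result {F U W : Type*} [Field F] [Fintype F] [AddCommGroup U] [Module F U] [FiniteDimensional F U] [AddCommGroup W] [Module F W] [FiniteDimensional F W] (h2 : (2 : F) ≠ 0) (B₁ : LinearMap.BilinForm F U) (B₂ : LinearMap.BilinForm F W) (h₁ : B₁.Nondegenerate) (h₂ : B₂.Nondegenerate) (hS₁ : B₁.IsSymm) (hS₂ : B₂.IsSymm) (k l : ℕ) (hk : 1 ≤ k) (hl : 1 ≤ l) (hU : Module.finrank F U = 2 * k) (hW : Module.finrank F W = 2 * l) (hm₁ : ¬ (∃ X : Submodule F (U), Module.finrank F X = k ∧ ∀ x ∈ X, ∀ y ∈ X, (B₁) x y = 0)) (hm₂ : ¬ (∃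 X : Submodule F (W), Module.finrank F X = l ∧ ∀ x ∈ X, ∀ y ∈ X, (B₂) x y = 0)) : (∃ X : Submodule F (TensorProduct F U W), Module.finrank F X = 2 * k * l ∧ ∀ x ∈ X, ∀ y ∈ X, (B₁.tmul B₂) x y = 0) := by
  classical
  let bU := Module.finBasisOfFinrankEq F U hU
  let bW := Module.finBasisOfFinrankEq F W hW
  have hS : LinearMap.BilinForm.IsSymm (B₁.tmul B₂) := ⟨fun x y => by
    simpa using (LinearMap.IsSymm.tmul (LinearMap.BilinForm.isSymm_iff.1 hS₁)
      (LinearMap.BilinForm.isSymm_iff.1 hS₂)).eq x y⟩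
  have hM : ∀ {M : Type _} [AddCommGroup M] [Module F M] {ι : Type} [Fintype ι] [DecidableEq ι]
      (B : LinearMap.BilinForm F M) (_ : B.IsSymm) (b : Module.Basis ι F M),
      (LinearMap.toMatrix₂ b b (LinearMap.BilinMap.toQuadraticMap B).polarBilin).det =
        2 ^ Fintype.card ι * (LinearMap.toMatrix₂ b b B).det := by
    intro M _ _ ι _ _ B hB b
    rw [CfsgLib.Geom.polarBilin_toQuadraticMap B hB, map_smul, Matrix.det_smul]
  have hkron : LinearMap.toMatrix₂ (bU.tensorProduct bW) (bU.tensorProduct bW) (B₁.tmul B₂) =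
      Matrix.kroneckerMap (fun x y => x * y) (LinearMap.toMatrix₂ bU bU B₁) (LinearMap.toMatrix₂ bW bW B₂) := by
    ext ⟨i, i'⟩ ⟨j, j'⟩
    simp [LinearMap.toMatrix₂_apply, mul_comm]
  have hdetne : (LinearMap.toMatrix₂ bU bU B₁).det ≠ 0 := Matrix.nondegenerate_iff_det_ne_zero.1
    ((LinearMap.nondegenerate_toMatrix₂_iff bU bU).2 h₁)
  have hdetne₂ : (LinearMap.toMatrix₂ bW bW B₂).det ≠ 0 := Matrix.nondegenerate_iff_det_ne_zero.1
    ((LinearMap.nondegenerate_toMatrix₂_iff bW bW).2 h₂)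
  have hsep : ∀ x, (∀ y, (B₁.tmul B₂) x y = 0) → x = 0 := by
    have hnd : (B₁.tmul B₂).Nondegenerate := by
      rw [← LinearMap.nondegenerate_toMatrix₂_iff (bU.tensorProduct bW) (bU.tensorProduct bW), hkron,
        Matrix.nondegenerate_iff_det_ne_zero, Matrix.det_kronecker]
      exact mul_ne_zero (pow_ne_zero _ hdetne) (pow_ne_zero _ hdetne₂)
    exact hnd.1
  obtain ⟨X, hX, hXQ⟩ := CfsgLib.Geom.exists_totallySingular (LinearMap.BilinMap.toQuadraticMap (B₁.tmul B₂)) h2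
    (CfsgLib.Geom.sep_toQuadraticMap _ hS h2 hsep) (m := 2 * k * l)
    (by rw [Module.finrank_tensorProduct, hU, hW]; ring) (bU.tensorProduct bW) (by
      rw [hM _ hS, hkron, Matrix.det_kronecker]
      simp only [Fintype.card_prod, Fintype.card_fin]
      generalize (LinearMap.toMatrix₂ bU bU B₁).det = d₁
      generalize (LinearMap.toMatrix₂ bW bW B₂).det = d₂
      refine ⟨(-1 : F) ^ (k * l) * 2 ^ (2 * k * l) * (d₁ ^ l * d₂ ^ k), ?_⟩
      rw [show 2 * k * l = k * l + k * l by ring, show 2 * k * (2 * l) = 2 * k * l + 2 * k * l by ring,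
        pow_add, pow_add, two_mul k, two_mul l, pow_add, pow_add]
      ring)
  exact ⟨X, hX, CfsgLib.Geom.isotropic_of_totallySingular _ hS h2 X hXQ⟩

end Cfsg.Agent.S0834
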