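import Cfsg.Statements.S0835
import Cfsg.Agent.Lib.Geom.PlusType

set_option autoImplicit false
open Cfsg

namespace Cfsg.Agent.S0835

/-- Over a finite field with 2 ≠ 0: if B₁ on U (dim 2k, k ≥ 1) is non-degenerate symmetric of minus type (no totally isotropic k-subspace) and B₂ on W (dim 2l + 1) is non-degenerate symmetric, then B₁ ⊗ B₂ (dimension 2k(2l+1)) admits no totally isotropic subspace of dimension k(2l+1) (minus type). -/
theorem result {F U W : Type*} [Field F] [Fintype F] [AddCommGroup U] [Module F U] [FiniteDimensional F U] [AddCommGroup W] [Module F W] [FiniteDimensional F W] (h2 : (2 : F) ≠ 0) (B₁ : LinearMap.BilinForm F U) (B₂ : LinearMap.BilinForm F W) (h₁ : B₁.Nondegenerate) (h₂ : B₂.Nondegenerate) (hS₁ : B₁.IsSymm) (hS₂ : B₂.IsSymm) (k l : ℕ) (hk : 1 ≤ k) (hU : Module.finrank F U = 2 * k) (hW : Module.finrank F W = 2 * l + 1) (hm₁ : ¬ (∃ X : Submodule F (U), Module.finrank F X = k ∧ ∀ x ∈ X, ∀ y ∈ X, (B₁) x y = 0)) : ¬ (∃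 X : Submodule F (TensorProduct F U W), Module.finrank F X = k * (2 * l + 1) ∧ ∀ x ∈ X, ∀ y ∈ X, (B₁.tmul B₂) x y = 0) := by
  classical
  let bU := Module.finBasisOfFinrankEq F U hU
  let bW := Module.finBasisOfFinrankEq F W hW
  have hS : LinearMap.BilinForm.IsSymm (B₁.tmul B₂) := ⟨fun x y => by
    simpa using (LinearMap.IsSymm.tmul (LinearMap.BilinForm.isSymm_iff.1 hS₁)
      (LinearMap.BilinForm.isSymm_iff.1 hS₂)).eq x y⟩
  have hM : ∀ {M : Type _} [AddCommGroup M] [Module F M] {ι : Type} [Fintype ι] [DecidableEq ι]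
      (B : LinearMap.BilinForm F M) (_ : B.IsSymm) (b : Module.Basis ι F M),
      (LinearMap.toMatrix₂ b b (LinearMap.BilinMap.toQuadraticMap B).polarBilin).det =
        2 ^ Fintype.card ι * (LinearMap.toMatrix₂ b b B).det := by
    intro M _ _ ι _ _ B hB b
    rw [CfsgLib.Geom.polarBilin_toQuadraticMap B hB, map_smul, Matrix.det_smul]
  have hkron : LinearMap.toMatrix₂ (bU.tensorProduct bW) (bU.tensorProduct bW) (B₁.tmul B₂) =
      Matrix.kroneckerMap (fun x y => x * y) (LinearMap.toMatrix₂ bU bU B₁) (LinearMap.toMatrix₂ bW bW B₂) := by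
    ext ⟨i, i'⟩ ⟨j, j'⟩
    simp [LinearMap.toMatrix₂_apply, mul_comm]
  have hdetne : (LinearMap.toMatrix₂ bU bU B₁).det ≠ 0 := Matrix.nondegenerate_iff_det_ne_zero.1
    ((LinearMap.nondegenerate_toMatrix₂_iff bU bU).2 h₁)
  have hdetne₂ : (LinearMap.toMatrix₂ bW bW B₂).det ≠ 0 := Matrix.nondegenerate_iff_det_ne_zero.1
    ((LinearMap.nondegenerate_toMatrix₂_iff bW bW).2 h₂)
  rintro ⟨X, hX, hXB⟩
  have hsq := CfsgLib.Geom.isSquare_of_totallySingular (LinearMap.BilinMap.toQuadraticMap (B₁.tmul B₂))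
    (m := k * (2 * l + 1)) (by rw [Module.finrank_tensorProduct, hU, hW]; ring) X hX
    (fun w hw => by rw [LinearMap.BilinMap.toQuadraticMap_apply]; exact hXB w hw w hw)
    (bU.tensorProduct bW)
  rw [hM _ hS, hkron, Matrix.det_kronecker] at hsq
  simp only [Fintype.card_prod, Fintype.card_fin] at hsq
  obtain ⟨Y, hY, hYQ⟩ := CfsgLib.Geom.exists_totallySingular (LinearMap.BilinMap.toQuadraticMap B₁) h2
    (CfsgLib.Geom.sep_toQuadraticMap _ hS₁ h2 h₁.1) hU bU (by
      rw [CfsgLib.Geom.polarBilin_toQuadraticMap B₁ hS₁, map_smul, Matrix.det_smul, Fintype.card_fin]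
      obtain ⟨r, hr⟩ := hsq
      revert hr hdetne hdetne₂
      generalize (LinearMap.toMatrix₂ bU bU B₁).det = d₁
      generalize (LinearMap.toMatrix₂ bW bW B₂).det = d₂
      intro hdetne hdetne₂ hr
      have hpos : (-1 : F) ^ (k * l) * 2 ^ (k * (2 * l)) * (d₁ ^ l * d₂ ^ k) ≠ 0 := by
        refine mul_ne_zero (mul_ne_zero (pow_ne_zero _ (neg_ne_zero.2 one_ne_zero)) (pow_ne_zero _ h2))
          (mul_ne_zero (pow_ne_zero _ hdetne) (pow_ne_zero _ hdetne₂))
      refine ⟨r / ((-1 : F) ^ (k * l) * 2 ^ (k * (2 * l)) * (d₁ ^ l * d₂ ^ k)), ?_⟩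
      rw [show k * (2 * l + 1) = k + k * l + k * l by ring,
        show 2 * k * (2 * l + 1) = 2 * k + k * (2 * l) + k * (2 * l) by ring,
        show 2 * l + 1 = l + l + 1 by ring, two_mul k, pow_add, pow_add, pow_add, pow_add, pow_add,
        pow_add, pow_add] at hr
      rw [div_mul_div_comm, eq_div_iff (mul_ne_zero hpos hpos), two_mul k, pow_add]
      linear_combination hr)
  exact hm₁ ⟨Y, hY, CfsgLib.Geom.isotropic_of_totallySingular _ hS₁ h2 Y hYQ⟩

end Cfsg.Agent.S0835
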