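import Cfsg.Statements.S0836
import Cfsg.Agent.Lib.Classical.SLGen

set_option autoImplicit false
open Cfsg

namespace Cfsg.Agent.S0836

/-- For i ≠ j and any scalar c, the elementary transvection 1 + c E_ij is a commutator ⁅g, h⁆ of two elements of SL_n(F) provided n ≥ 3, or n = 2 and F contains x ≠ 0 with x² ≠ 1. -/
theorem result {F : Type*} [Field F] (n : ℕ) (hn : 3 ≤ n ∨ (n = 2 ∧ ∃ x : F, x ≠ 0 ∧ x ^ 2 ≠ 1)) (i j : Fin n) (hij : i ≠ j) (c : F) (t : Matrix.SpecialLinearGroup (Fin n) F) (ht : (t : Matrix (Fin n) (Fin n) F) = Matrix.transvection i j c) : t ∈ commutatorSet (Matrix.SpecialLinearGroup (Fin n) F) := by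
  rcases hn with hn | ⟨rfl, x, hx0, hx1⟩
  · obtain ⟨k, hki, hkj⟩ : ∃ k : Fin n, k ≠ i ∧ k ≠ j := by
      obtain ⟨k, -, hk⟩ := Finset.exists_mem_notMem_of_card_lt_card (s := ({i, j} : Finset (Fin n)))
        (t := (Finset.univ : Finset (Fin n))) (lt_of_le_of_lt Finset.card_le_two (by simp; omega))
      simp only [Finset.mem_insert, Finset.mem_singleton, not_or] at hk
      exact ⟨k, hk.1, hk.2⟩
    refine ⟨Matrix.SpecialLinearGroup.transvection (Ne.symm hki) c,
      Matrix.SpecialLinearGroup.transvection hkj 1, ?_⟩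
    rw [CfsgLib.Classical.commutator_transvection_transvection (Ne.symm hki) hkj hij c 1, mul_one]
    exact Subtype.ext ht.symm
  · have hdet : ((Matrix.diagonal fun l => if l = i then x else x⁻¹) : Matrix (Fin 2) (Fin 2) F).det = 1 := by
      rw [Matrix.det_diagonal, Fin.prod_univ_two]
      fin_cases i <;> simp [hx0]
    have hx2 : x * x - 1 ≠ 0 := fun h => hx1 (by linear_combination h)
    let g : Matrix.SpecialLinearGroup (Fin 2) F := ⟨Matrix.diagonal fun l => if l = i then x else x⁻¹, hdet⟩
    have hconj : ∀ a : F, g * Matrix.SpecialLinearGroup.transvection hij a =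
        Matrix.SpecialLinearGroup.transvection hij (x * x * a) * g := by
      intro a
      refine Subtype.ext ?_
      show Matrix.diagonal (fun l => if l = i then x else x⁻¹) * Matrix.transvection i j a =
        Matrix.transvection i j (x * x * a) * Matrix.diagonal (fun l => if l = i then x else x⁻¹)
      ext k l
      rw [Matrix.diagonal_mul, Matrix.mul_diagonal]
      by_cases hkl : k = i ∧ l = j
      · obtain ⟨rfl, rfl⟩ := hkl
        simp [Matrix.transvection, hij, hij.symm]
        field_simp
      · have hne : ∀ b : F, Matrix.single i j b k l = 0 := fun b =>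
          Matrix.single_apply_of_ne _ _ _ _ _ (fun h => hkl ⟨h.1.symm, h.2.symm⟩)
        simp only [Matrix.transvection, Matrix.add_apply, hne, add_zero, Matrix.one_apply]
        by_cases hkl2 : k = l <;> simp [hkl2]
    refine ⟨g, Matrix.SpecialLinearGroup.transvection hij (c / (x * x - 1)), ?_⟩
    rw [commutatorElement_def, hconj, mul_inv_cancel_right, ← div_eq_mul_inv, div_eq_iff_eq_mul]
    refine Subtype.ext ?_
    show Matrix.transvection i j _ = (t : Matrix (Fin 2) (Fin 2) F) * Matrix.transvection i j _
    rw [ht, Matrix.transvection_mul_transvection_same _ _ hij]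
    congr 1
    field_simp
    ring

end Cfsg.Agent.S0836
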