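import Cfsg.Statements.S0837
import Cfsg.Agent.Lib.Geom.SplitStab
import Cfsg.Agent.Lib.Geom.GUEquiv
-- import your own Cfsg.Agent.* helpers here

set_option autoImplicit false
open Cfsg CfsgLib.Geom CfsgLib.Classical

namespace Cfsg.Agent.S0837

/-- If W ≤ F^n (|F| = q²) is a k-dimensional subspace on which the Hermitian form Σ x_i y_i^q is non-degenerate, then the stabiliser of W in GU_n(q) is isomorphic to GU_k(q) × GU_(n−k)(q). -/
theorem result {F : Type*} [Field F] [Fintype F] {q : ℕ} (hF : Fintype.card F = q ^ 2) (n k : ℕ) (hk : k ≤ n) (W : Submodule F (Fin n → F)) (hWk : Module.finrank F W = k) (hW : ∀ u ∈ W, (∀ v ∈ W, Cfsg.hermForm n F q u v = 0) → u = 0) : Nonempty (↥((Cfsg.stabilizing (Cfsg.glToMat (Fin n) F) (W : Set (Fin n → F))).subgroupOf (Cfsg.GU n F q)) ≃* ↥(Cfsg.GU k F q) × ↥(Cfsg.GU (n - k) F q)) := by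
  have hR : ∀ x y, hermB hF n x y = 0 → hermB hF n y x = 0 := fun x y h => by
    rw [← hermB_conj, h, map_zero]
  obtain ⟨W', hc, h1⟩ := exists_perp_compl (hermB hF n) hR W (fun u hu h => hW u hu fun v hv => by
    rw [← hermB_apply hF]; exact hR _ _ (h v hv))
  have h2 : ∀ y ∈ W', ∀ w ∈ W, hermB hF n y w = 0 := fun y hy w hw => hR _ _ ((h1 y).1 hy w hw)
  obtain ⟨E⟩ := nonempty_isomStab_equiv (hermB hF n) hc h1 h2
  have hσ := qFrob_ne_id hF
  have hσ2 := qFrob_qFrob hF
  have hsepW : ∀ x : W, (∀ y : W, hermB hF n (x : _) (y : _) = 0) → x = 0 := fun x hx =>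
    Subtype.ext (hW x x.2 fun v hv => by rw [← hermB_apply hF]; exact hR _ _ (hx ⟨v, hv⟩))
  have hsepW' : ∀ x : W', (∀ y : W', hermB hF n (x : _) (y : _) = 0) → x = 0 := fun x hx =>
    Subtype.ext (hermB_sep hF _ fun z => by
      obtain ⟨w, hw, y, hy, rfl⟩ := Submodule.mem_sup.1
        (show z ∈ W ⊔ W' by rw [hc.sup_eq_top]; trivial)
      rw [map_add, h2 _ x.2 w hw, zero_add]; exact hx ⟨y, hy⟩)
  have hdim := Submodule.finrank_add_eq_of_isCompl hc
  have hn : Module.finrank F (Fin n → F) = n := by simp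
  obtain ⟨e₁, he₁⟩ := exists_isometry_hermB hF k (restrictSesq (hermB hF n) W)
    (fun u v => hermB_conj hF _ _) hsepW hWk
  obtain ⟨e₂, he₂⟩ := exists_isometry_hermB hF (n - k) (restrictSesq (hermB hF n) W')
    (fun u v => hermB_conj hF _ _) hsepW' (by omega)
  have hmap : (isomStab (hermB hF n) W).subgroupOf (formIsoms (hermB hF n)) =
      ((Cfsg.stabilizing (Cfsg.glToMat (Fin n) F) (W : Set (Fin n → F))).subgroupOf (Cfsg.GU n F q)).comap
        (guEquiv hF n).symm.toMonoidHom := by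
    ext g
    obtain ⟨h, rfl⟩ := (guEquiv hF n).surjective g
    rw [Subgroup.mem_comap, MulEquiv.coe_toMonoidHom, MulEquiv.symm_apply_apply,
      Subgroup.mem_subgroupOf, Subgroup.mem_subgroupOf, mem_isomStab]
    simp only [guEquiv_apply]
    exact ⟨fun h => h.2, fun hh => ⟨(guEquiv hF n h).2, hh⟩⟩
  refine ⟨((Subgroup.subgroupOfEquivOfLe
      (show isomStab (hermB hF n) W ≤ formIsoms (hermB hF n) from fun g hg => hg.1)).symm.trans
    ((MulEquiv.subgroupCongr hmap).trans (((guEquiv hF n).symm.subgroupMap _).trans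
      (MulEquiv.subgroupCongr (Subgroup.map_comap_eq_self_of_surjective
        (guEquiv hF n).symm.surjective _))))).symm.trans
    (E.trans (MulEquiv.prodCongr ((formIsomsCongr _ _ e₁ he₁).trans (guEquiv hF k).symm)
      ((formIsomsCongr _ _ e₂ he₂).trans (guEquiv hF (n - k)).symm)))⟩
end Cfsg.Agent.S0837
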