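import Cfsg.Statements.S0838
import Cfsg.Agent.Lib.Geom.PlusType

set_option autoImplicit false
open Cfsg

namespace Cfsg.Agent.S0838

/-- Over a finite field with 2 ≠ 0 and n odd: two quadratic forms Q₁, Q₂ on F^n with non-degenerate polar forms are similar — there are an invertible linear map g and a scalar c ≠ 0 with Q₂ (g v) = c · Q₁ v for all v. -/
theorem result {F : Type*} [Field F] [Fintype F] (h2 : (2 : F) ≠ 0) {n : ℕ} (hn : Odd n) (Q₁ Q₂ : QuadraticForm F (Fin n → F)) (h₁ : (QuadraticMap.polarBilin Q₁).Nondegenerate) (h₂ : (QuadraticMap.polarBilin Q₂).Nondegenerate) : ∃ (g : (Fin n → F) ≃ₗ[F] (Fin n → F)) (c : F), c ≠ 0 ∧ ∀ v, Q₂ (g v) = c * Q₁ v := by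
  classical
  have hs₁ : ∀ x, (∀ y, QuadraticMap.polar Q₁ x y = 0) → x = 0 :=
    fun x hx => h₁.1 x fun y => by simpa using hx y
  have hs₂ : ∀ x, (∀ y, QuadraticMap.polar Q₂ x y = 0) → x = 0 :=
    fun x hx => h₂.1 x fun y => by simpa using hx y
  let b := Pi.basisFun F (Fin n)
  have hd : ∀ Q : QuadraticForm F (Fin n → F), (QuadraticMap.polarBilin Q).Nondegenerate →
      (LinearMap.toMatrix₂ b b Q.polarBilin).det ≠ 0 := fun Q hQ =>
    Matrix.nondegenerate_iff_det_ne_zero.1 ((LinearMap.nondegenerate_toMatrix₂_iff b b).2 hQ)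
  obtain ⟨c, hc⟩ : ∃ c, c = (LinearMap.toMatrix₂ b b Q₁.polarBilin).det *
      (LinearMap.toMatrix₂ b b Q₂.polarBilin).det := ⟨_, rfl⟩
  have hc0 : c ≠ 0 := hc ▸ mul_ne_zero (hd _ h₁) (hd _ h₂)
  have hpol : (c • Q₁).polarBilin = c • Q₁.polarBilin := by
    ext x y
    simp [QuadraticMap.polar, mul_sub]
  obtain ⟨k, hk⟩ := hn
  obtain ⟨e, he⟩ := CfsgLib.Geom.exists_isometry_of_disc (c • Q₁) Q₂ h2
    (fun x hx => hs₁ x fun y => by
      have := hx y
      rw [← QuadraticMap.polarBilin_apply_apply, hpol] at this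
      simpa [hc0] using this) hs₂ b b (by
      rw [hpol, map_smul, Matrix.det_smul, Fintype.card_fin, mul_assoc, ← hc,
        show n = k + k + 1 by omega, pow_succ, pow_add]
      exact ⟨c ^ k * c, by ring⟩)
  exact ⟨e, c, hc0, fun v => by rw [he]; simp⟩

end Cfsg.Agent.S0838
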