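import Cfsg.Statements.S0839

set_option autoImplicit false
open Cfsg

namespace Cfsg.Agent.S0839

/-- Every transvection t ∈ SL_(n+2)(F) (rank(t − 1) = 1, (t − 1)² = 0) is conjugate in SL_(n+2)(F) to 1 + v·e_0ᵀ for some column vector v with v_0 = 0 (the group A of matrices that are the identity except in the first column below the diagonal); the dimension is written n + 2 ≥ 2. -/
theorem result {F : Type*} [Field F] (n : ℕ) (t : Matrix.SpecialLinearGroup (Fin (n + 2)) F) (ht : Cfsg.IsTransvection (t : Matrix (Fin (n + 2)) (Fin (n + 2)) F)) : ∃ (g : Matrix.SpecialLinearGroup (Fin (n + 2)) F) (v : Fin (n + 2) → F), v 0 = 0 ∧ ((g⁻¹ * t * g : Matrix.SpecialLinearGroup (Fin (n + 2)) F) : Matrix (Fin (n + 2)) (Fin (n + 2)) F) = 1 + Matrix.vecMulVec v (Pi.single 0 1) := by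
  classical
  obtain ⟨hr, hsq⟩ := ht
  set N := (t : Matrix (Fin (n + 2)) (Fin (n + 2)) F) - 1 with hN
  -- a rank one matrix is an outer product
  obtain ⟨a, φ, hNv⟩ : ∃ a φ, N = Matrix.vecMulVec a φ := by
    have h1 : Module.finrank F (LinearMap.range N.mulVecLin) = 1 := hr
    obtain ⟨⟨a, ha⟩, -, hspan⟩ := finrank_eq_one_iff'.1 h1
    choose c hc using fun j => hspan ⟨N.mulVecLin (Pi.single j 1), LinearMap.mem_range_self _ _⟩
    refine ⟨a, c, Matrix.ext fun i j => ?_⟩
    have := congrFun (congrArg Subtype.val (hc j)) i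
    simp at this
    rw [Matrix.vecMulVec_apply, mul_comm]
    exact this.symm
  have hφ : φ ≠ 0 := by
    rintro rfl
    rw [hNv, Matrix.vecMulVec_zero, Matrix.rank_zero] at hr
    exact zero_ne_one hr
  have ha : a ≠ 0 := by
    rintro rfl
    rw [hNv, Matrix.zero_vecMulVec, Matrix.rank_zero] at hr
    exact zero_ne_one hr
  have hφa : dotProduct φ a = 0 := by
    rw [hNv, Matrix.vecMulVec_mul_vecMulVec] at hsq
    by_contra hne
    obtain ⟨i, hi⟩ := Function.ne_iff.1 ha
    obtain ⟨j, hj⟩ := Function.ne_iff.1 hφ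
    have := congrFun (congrFun hsq i) j
    simp [Matrix.vecMulVec_apply] at this
    simp_all
  -- a matrix of determinant one whose row 0 is a multiple of φ
  obtain ⟨M, r, hr0, hM, hrow⟩ : ∃ (M : Matrix (Fin (n + 2)) (Fin (n + 2)) F) (r : F),
      r ≠ 0 ∧ M.det = 1 ∧ ∀ j, M 0 j = r * φ j := by
    obtain ⟨p, hp⟩ := Function.ne_iff.1 hφ
    let M₀ : Matrix (Fin (n + 2)) (Fin (n + 2)) F := (1 : Matrix _ _ F).updateRow p φ
    have hd : M₀.det = φ p := by
      rw [← Matrix.cramer_transpose_apply]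
      simp [Matrix.cramer_one]
    let M₁ := M₀.submatrix (Equiv.swap 0 p) id
    have hd1 : M₁.det ≠ 0 := by
      rw [Matrix.det_permute, hd]
      refine mul_ne_zero ?_ hp
      rcases Int.units_eq_one_or (Equiv.Perm.sign (Equiv.swap 0 p)) with h | h <;> rw [h] <;> simp
    refine ⟨M₁.updateRow 0 ((M₁.det)⁻¹ • M₁ 0), (M₁.det)⁻¹, inv_ne_zero hd1, ?_, fun j => ?_⟩
    · rw [Matrix.det_updateRow_smul, Matrix.updateRow_eq_self, inv_mul_cancel₀ hd1]
    · simp [M₁, M₀]
  let g : Matrix.SpecialLinearGroup (Fin (n + 2)) F := (⟨M, hM⟩ : Matrix.SpecialLinearGroup _ F)⁻¹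
  refine ⟨g, r⁻¹ • M.mulVec a, ?_, ?_⟩
  · rw [Pi.smul_apply, Matrix.mulVec, dotProduct, smul_eq_mul]
    simp only [hrow, mul_assoc, ← Finset.mul_sum]
    rw [show ∑ i, φ i * a i = dotProduct φ a from rfl, hφa]
    simp
  · have hge : (g : Matrix (Fin (n + 2)) (Fin (n + 2)) F) = M.adjugate := Matrix.SpecialLinearGroup.coe_inv _
    have hMg : M * M.adjugate = 1 := by rw [Matrix.mul_adjugate, hM, one_smul]
    have hφg : Matrix.vecMul φ M.adjugate = r⁻¹ • (Pi.single 0 1 : Fin (n + 2) → F) := by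
      funext j
      have h1 := congrFun (congrFun hMg 0) j
      simp only [Matrix.mul_apply, hrow, mul_assoc, ← Finset.mul_sum] at h1
      rw [Pi.smul_apply, smul_eq_mul, Matrix.vecMul, dotProduct, eq_inv_mul_iff_mul_eq₀ hr0, h1]
      simp [Matrix.one_apply, Pi.single_apply, eq_comm]
    rw [Matrix.SpecialLinearGroup.coe_mul, Matrix.SpecialLinearGroup.coe_mul, hge,
      congrArg Subtype.val (show g⁻¹ = ⟨M, hM⟩ from inv_inv _),
      show (t : Matrix (Fin (n + 2)) (Fin (n + 2)) F) = 1 + Matrix.vecMulVec a φ by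
        rw [← hNv, hN]; abel]
    rw [mul_add, add_mul, mul_one, hMg, Matrix.mul_vecMulVec, Matrix.vecMulVec_mul, hφg,
      Matrix.vecMulVec_smul, Matrix.smul_vecMulVec]

end Cfsg.Agent.S0839
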