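import Cfsg.Statements.S0840
import Mathlib
import Cfsg.Agent.Lib.Char.Column

set_option autoImplicit false
open scoped ComplexConjugate
open Cfsg
open scoped ComplexConjugate

namespace Cfsg.Agent.S0840

/-- Class multiplication coefficients from the character table: for elements a, b, c of a finite group G, the number of ordered pairs (x, y) with x conjugate to a, y conjugate to b and x * y = c equals the product of the sizes of the conjugacy classes of a and b, divided by the order of G, times the sum over the irreducible characters χ of χ a * χ b * conj (χ c) / χ 1. -/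
theorem result {G : Type*} [Group G] [Finite G] (a b c : G) : (Nat.card {p : G × G // IsConj a p.1 ∧ IsConj b p.2 ∧ p.1 * p.2 = c} : ℂ) = (Nat.card {x : G // IsConj a x} : ℂ) * (Nat.card {x : G // IsConj b x} : ℂ) / (Nat.card G : ℂ) * ∑ᶠ χ : Cfsg.IrrCharacter G, (χ : G → ℂ) a * (χ : G → ℂ) b * conj ((χ : G → ℂ) c) / (χ : G → ℂ) 1 := by
  classical
  have := Fintype.ofFinite G
  have := CfsgLib.Char.finite_irrCharacter (G := G)
  have : Fintype (Cfsg.IrrCharacter G) := Fintype.ofFinite _
  let A : Finset G := Finset.univ.filter (IsConj a)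
  let B : Finset G := Finset.univ.filter (IsConj b)
  let N : G → ℂ := fun z => ∑ x ∈ A, ∑ y ∈ B, if x * y = z then (1 : ℂ) else 0
  have hN : ∀ z, N z = (Nat.card {p : G × G // IsConj a p.1 ∧ IsConj b p.2 ∧ p.1 * p.2 = z} : ℂ) := by
    intro z
    have h1 : Nat.card {p : G × G // IsConj a p.1 ∧ IsConj b p.2 ∧ p.1 * p.2 = z} =
        ((A ×ˢ B).filter fun p => p.1 * p.2 = z).card := by
      rw [Nat.card_eq_fintype_card, Fintype.card_subtype]
      congr 1; ext p; simp [A, B, and_assoc]
    rw [h1, ← Finset.sum_boole, Finset.sum_product]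
  have hcl : Cfsg.IsClassFunction G N := by
    intro z h
    rw [hN, hN]
    congr 1
    refine Nat.card_congr (Equiv.subtypeEquiv
      ((MulAut.conj h⁻¹).toEquiv.prodCongr (MulAut.conj h⁻¹).toEquiv) fun p => ?_)
    have e : ∀ u x : G, IsConj u x ↔ IsConj u (h⁻¹ * x * h) := fun u x =>
      have : IsConj x (h⁻¹ * x * h) := isConj_iff.mpr ⟨h⁻¹, by group⟩
      ⟨fun k => k.trans this, fun k => k.trans this.symm⟩
    simp only [Equiv.prodCongr_apply, Prod.map_fst, Prod.map_snd, MulEquiv.toEquiv_eq_coe,
      EquivLike.coe_coe, MulAut.conj_apply, inv_inv, ← e]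
    refine and_congr_right fun _ => and_congr_right fun _ => ⟨fun k => ?_, fun k => ?_⟩
    · calc h⁻¹ * p.1 * h * (h⁻¹ * p.2 * h) = h⁻¹ * (p.1 * p.2) * h := by group
        _ = z := by rw [k]; group
    · calc p.1 * p.2 = h * (h⁻¹ * p.1 * h * (h⁻¹ * p.2 * h)) * h⁻¹ := by group
        _ = h * z * h⁻¹ := by rw [k]
  have hcard : ∀ u : G, (Nat.card {x : G // IsConj u x} : ℂ) = ((Finset.univ.filter (IsConj u)).card : ℂ) :=
    fun u => by rw [Nat.card_eq_fintype_card, Fintype.card_subtype]
  have hinner : ∀ χ : Cfsg.IrrCharacter G, Cfsg.classInner N (χ : G → ℂ) =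
      (Nat.card G : ℂ)⁻¹ * (A.card * B.card * conj ((χ : G → ℂ) a * (χ : G → ℂ) b / (χ : G → ℂ) 1)) := by
    rintro ⟨χ, n, ρ, hρ, rfl⟩
    dsimp only
    have hop : ∀ u : G, ∑ x ∈ Finset.univ.filter (IsConj u), ρ x =
        (((Finset.univ.filter (IsConj u)).card : ℂ) * ρ.character u / ρ.character 1) •
          (LinearMap.id : (Fin n → ℂ) →ₗ[ℂ] _) := by
      intro u
      let f : G → ℂ := fun g => if IsConj u g⁻¹ then 1 else 0
      have hf : Cfsg.IsClassFunction G f := fun g k => by
        have : IsConj u (k * g * k⁻¹)⁻¹ ↔ IsConj u g⁻¹ :=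
          have e : IsConj g⁻¹ (k * g * k⁻¹)⁻¹ := isConj_iff.mpr ⟨k, by group⟩
          ⟨fun h => h.trans e.symm, fun h => h.trans e⟩
        simp only [f, this]
      have h1 : CfsgLib.Char.classOp f ρ = ∑ x ∈ Finset.univ.filter (IsConj u), ρ x := by
        unfold CfsgLib.Char.classOp
        rw [← Equiv.sum_comp (Equiv.inv G), Finset.sum_filter]
        refine Finset.sum_congr rfl fun x _ => ?_
        simp [f]
      rw [← h1, CfsgLib.Char.classOp_eq_scalar hf ρ, Representation.char_one]
      congr 2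
      rw [Cfsg.classInner, ← mul_assoc, mul_inv_cancel₀ CfsgLib.Char.natCard_ne_zero, one_mul,
        ← Equiv.sum_comp (Equiv.inv G)]
      simp only [f, Equiv.inv_apply, inv_inv, ite_mul, one_mul, zero_mul]
      rw [← Finset.sum_filter, ← nsmul_eq_mul, ← Finset.sum_const]
      refine Finset.sum_congr rfl fun x hx => ?_
      rw [← CfsgLib.Char.char_inv (CfsgLib.Char.isCharacter_of_rep ρ), inv_inv]
      exact (CfsgLib.Char.isClassFunction_isConj
        (CfsgLib.Char.isCharacter_isClassFunction (CfsgLib.Char.isCharacter_of_rep ρ))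
        (Finset.mem_filter.mp hx).2).symm
    have hsum : ∑ x ∈ A, ∑ y ∈ B, ρ.character (x * y) =
        (A.card : ℂ) * B.card * (ρ.character a * ρ.character b / ρ.character 1) := by
      have h2 : ∑ x ∈ A, ∑ y ∈ B, ρ.character (x * y) =
          LinearMap.trace ℂ _ ((∑ x ∈ A, ρ x) * (∑ y ∈ B, ρ y)) := by
        simp only [Finset.mul_sum, Finset.sum_mul, map_sum, Representation.character, map_mul]
        exact Finset.sum_comm
      have hd : ρ.character 1 ≠ 0 := CfsgLib.Char.irr_apply_one_ne_zero ⟨n, ρ, hρ, rfl⟩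
      rw [h2, hop a, hop b, smul_mul_smul_comm, map_smul]
      change _ • LinearMap.trace ℂ _ (LinearMap.id.comp LinearMap.id) = _
      rw [LinearMap.id_comp, LinearMap.trace_id, smul_eq_mul, ← Representation.char_one (ρ := ρ)]
      field_simp
      ring
    rw [Cfsg.classInner]
    congr 1
    have h3 : ∑ g, N g * conj (ρ.character g) = conj (∑ x ∈ A, ∑ y ∈ B, ρ.character (x * y)) := by
      simp only [N, Finset.sum_mul, map_sum, ite_mul, one_mul, zero_mul]
      rw [Finset.sum_comm]
      refine Finset.sum_congr rfl fun x _ => ?_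
      rw [Finset.sum_comm]
      simp
    rw [h3, hsum]
    simp
  rw [finsum_eq_sum_of_fintype, ← hN, hcard a, hcard b, Finset.mul_sum]
  have hreal : conj (N c) = N c := by rw [hN]; simp
  rw [← hreal, CfsgLib.Char.classFunction_apply_eq_sum hcl c, map_sum]
  refine Finset.sum_congr rfl fun χ _ => ?_
  rw [hinner, map_mul, map_mul, map_mul, map_mul, Complex.conj_conj]
  simp only [map_inv₀, map_natCast, A, B]
  ring

end Cfsg.Agent.S0840
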