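import Cfsg.Statements.S0841
import Mathlib.Algebra.BigOperators.Intervals
import Mathlib.GroupTheory.Abelianization.Defs
import Mathlib.Tactic.Group

set_option autoImplicit false
open Cfsg

namespace Cfsg.Agent.S0841

/-- If the commutator subgroup of G lies in the centre, then for all x, y in G and every natural number n one has (x * y) ^ n = x ^ n * y ^ n * c ^ (n * (n - 1) / 2) with c = y⁻¹ * x⁻¹ * y * x. -/
theorem result {G : Type*} [Group G] (hG : commutator G ≤ Subgroup.center G) (x y : G) (n : ℕ) : (x * y) ^ n = x ^ n * y ^ n * (y⁻¹ * x⁻¹ * y * x) ^ (n * (n - 1) / 2) := by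
  have hc : ∀ g, g * (y⁻¹ * x⁻¹ * y * x) = (y⁻¹ * x⁻¹ * y * x) * g := by
    refine Subgroup.mem_center_iff.mp (hG ?_)
    have := Subgroup.commutator_mem_commutator (Subgroup.mem_top y⁻¹) (Subgroup.mem_top x⁻¹)
    rw [← commutator_def, commutatorElement_def, inv_inv, inv_inv] at this
    exact this
  set c := y⁻¹ * x⁻¹ * y * x with hcdef
  have hyx : y * x = x * y * c := by rw [hcdef]; group
  have hcp : ∀ (g : G) (k : ℕ), g * c ^ k = c ^ k * g := fun g k => (Commute.pow_right (hc g) k).eq
  have hynx : ∀ m : ℕ, y ^ m * x = x * y ^ m * c ^ m := by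
    intro m
    induction m with
    | zero => simp
    | succ m ih =>
      calc y ^ (m + 1) * x = y ^ m * (y * x) := by rw [pow_succ, mul_assoc]
        _ = y ^ m * x * (y * c) := by rw [hyx]; simp only [mul_assoc]
        _ = x * y ^ m * c ^ m * (y * c) := by rw [ih]
        _ = x * y ^ m * (c ^ m * y) * c := by simp only [mul_assoc]
        _ = x * y ^ m * (y * c ^ m) * c := by rw [hcp]
        _ = x * y ^ (m + 1) * c ^ (m + 1) := by rw [pow_succ, pow_succ]; simp only [mul_assoc]
  induction n with
  | zero => simp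
  | succ m ih =>
    have ht : (m + 1) * (m + 1 - 1) / 2 = m + m * (m - 1) / 2 := by
      rw [← Finset.sum_range_id, ← Finset.sum_range_id, Finset.sum_range_succ, add_comm]
    have hcl : ∀ (g : G) (k : ℕ) (z : G), c ^ k * (g * z) = g * (c ^ k * z) := fun g k z => by
      rw [← mul_assoc, ← hcp g k, mul_assoc]
    have hyz : ∀ z : G, y ^ m * (x * z) = x * (y ^ m * (c ^ m * z)) := fun z => by
      rw [← mul_assoc, hynx]; simp only [mul_assoc]
    rw [pow_succ, ih, ht, pow_succ x, pow_succ y, pow_add c]
    simp only [mul_assoc]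
    rw [hcl x, hyz, ← hcp y (m * (m - 1) / 2), hcl y]

end Cfsg.Agent.S0841
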