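import Cfsg.Statements.S0842
import Cfsg.Agent.Lib.Clifford.Quaternion

set_option autoImplicit false
open Cfsg

namespace Cfsg.Agent.S0842

/-- Suppose a Sylow 2-subgroup S of the finite group G is generalized quaternion of order at least 16, and let D be the commutator subgroup of S, C its centralizer and N its normalizer in G. Then there is a subgroup K of odd order, contained in C and normalized by N, with K ⊔ S = N and K ⊔ (S ⊓ C) = C, and C has index 2 in N. -/
theorem result {G : Type*} [Group G] [Finite G] (S : Sylow 2 G) (n : ℕ) (e : (S : Subgroup G) ≃* QuaternionGroup (2 ^ (n + 2))) (D : Subgroup G) (hD : D = ⁅(S : Subgroup G), (S : Subgroup G)⁆) : ∃ K : Subgroup G, Odd (Nat.card K) ∧ K ≤ Subgroup.centralizer (D : Set G) ∧ Subgroup.normalizer (D : Set G) ≤ Subgroup.normalizer (K : Set G) ∧ K ⊔ (S : Subgroup G) = Subgroup.normalizer (D : Set G) ∧ K ⊔ ((S : Subgroup G) ⊓ Subgroup.centralizer (D : Set G)) = Subgroup.centralizer (D : Set G) ∧ ((Subgroup.centralizer (D : Set G)).subgroupOf (Subgroup.normalizer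 (D : Set G))).index = 2 := by
  obtain ⟨K, hodd, hKC, hKN, hdec, hdisj⟩ := CfsgLib.Clifford.Quat.exists_complement e hD
  have hgC := CfsgLib.Clifford.Quat.gen_mem_centralizer e hD
  have hSN := CfsgLib.Clifford.Quat.S_le_normalizer e hD
  have hCN : Subgroup.centralizer (D : Set G) ≤ Subgroup.normalizer (D : Set G) :=
    Subgroup.centralizer_le_normalizer _
  refine ⟨K, hodd, hKC, hKN, le_antisymm (sup_le (hKC.trans hCN) hSN) ?_,
    le_antisymm (sup_le hKC inf_le_right) ?_, ?_⟩
  · intro g hg
    have hmem : ∀ c ∈ Subgroup.centralizer (D : Set G), c ∈ K ⊔ (S : Subgroup G) := fun c hc => by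
      obtain ⟨k, hk, j, rfl⟩ := hdec c hc
      exact Subgroup.mul_mem_sup hk (pow_mem (CfsgLib.Clifford.Quat.gen_mem e) j)
    rcases CfsgLib.Clifford.Quat.normalizer_cases e hD hg with h | h
    · exact hmem g h
    · have := mul_mem (Subgroup.mem_sup_right (S := K) (CfsgLib.Clifford.Quat.flip_mem e)) (hmem _ h)
      simpa using this
  · intro c hc
    obtain ⟨k, hk, j, rfl⟩ := hdec c hc
    exact Subgroup.mul_mem_sup hk ⟨pow_mem (CfsgLib.Clifford.Quat.gen_mem e) j, pow_mem hgC j⟩
  · rw [Subgroup.index_eq_two_iff]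
    refine ⟨⟨(CfsgLib.Clifford.Quat.flip e)⁻¹, inv_mem (hSN (CfsgLib.Clifford.Quat.flip_mem e))⟩, fun b => ?_⟩
    have hflip : CfsgLib.Clifford.Quat.flip e ∉ Subgroup.centralizer (D : Set G) := fun h => by
      have hz := CfsgLib.Clifford.Quat.mem_zpowers_of_centralizes e hD (CfsgLib.Clifford.Quat.flip_mem e) h
      obtain ⟨i, hi⟩ := hz
      have h1 := CfsgLib.Clifford.Quat.flip_conj e
      rw [← hi] at h1
      have h2 : CfsgLib.Clifford.Quat.gen e ^ 2 = 1 := by
        rw [((Commute.refl (CfsgLib.Clifford.Quat.gen e)).zpow_left i).eq, mul_inv_cancel_right,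
          eq_inv_iff_mul_eq_one, ← pow_two] at h1
        exact h1
      have h3 := Nat.le_of_dvd two_pos (orderOf_dvd_of_pow_eq_one h2)
      rw [CfsgLib.Clifford.Quat.orderOf_gen e] at h3
      have : 2 ^ 3 ≤ 2 ^ (n + 3) := Nat.pow_le_pow_right two_pos (by omega)
      omega
    simp only [Subgroup.mem_subgroupOf, Subgroup.coe_mul]
    by_cases hb : (b : G) ∈ Subgroup.centralizer (D : Set G)
    · exact Or.inr ⟨hb, fun h => hflip (by simpa using inv_mem (mul_mem (inv_mem hb) h))⟩
    · refine Or.inl ⟨?_, hb⟩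
      rcases CfsgLib.Clifford.Quat.normalizer_cases e hD (inv_mem b.2) with h | h
      · exact absurd (inv_mem h) (by simpa using hb)
      · have h2 : CfsgLib.Clifford.Quat.flip e * CfsgLib.Clifford.Quat.flip e ∈
            Subgroup.centralizer (D : Set G) := CfsgLib.Clifford.Quat.flip_sq e ▸ pow_mem hgC _
        have := mul_mem (inv_mem h) (inv_mem h2)
        simpa [mul_assoc] using this

end Cfsg.Agent.S0842
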