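import Cfsg.Statements.S0850
import Mathlib
import Cfsg.Agent.Lib.Char.Induce

set_option autoImplicit false
open Cfsg

namespace Cfsg.Agent.S0850

/-- Let K be a subgroup of the finite group G that meets each conjugate by an element outside its normalizer N trivially, is properly contained in N, and contains the centralizer of each of its non-identity elements (a T.I. subgroup with Frobenius normalizer). Then no element of N outside K is conjugate in G to an element of K, and for every class function ϑ of N that vanishes on N away from K and at the identity, the function induced from ϑ to G agrees with ϑ on all of N. -/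
theorem result {G : Type*} [Group G] [Fintype G] (K : Subgroup G) (hTI : ∀ g : G, g ∉ Subgroup.normalizer (K : Set G) → ∀ k ∈ K, g * k * g⁻¹ ∈ K → k = 1) (hlt : K < Subgroup.normalizer (K : Set G)) (hC : ∀ k ∈ K, k ≠ 1 → Subgroup.centralizer ({k} : Set G) ≤ K) : (∀ x ∈ Subgroup.normalizer (K : Set G), x ∉ K → ∀ g : G, g * x * g⁻¹ ∉ K) ∧ ∀ (ϑ : Subgroup.normalizer (K : Set G) → ℂ), Cfsg.IsClassFunction (Subgroup.normalizer (K : Set G)) ϑ → (∀ x : Subgroup.normalizer (K : Set G), (x : G) ∉ K → ϑ x = 0) → ϑ 1 = 0 → ∀ x : Subgroup.normalizer (K : Set G), Cfsg.indFun (Subgroup.normalizer (K : Set G)) ϑ x = ϑ x := by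
  classical
  set N := Subgroup.normalizer (K : Set G) with hNdef
  have hfus : ∀ x ∈ N, x ∉ K → ∀ g : G, g * x * g⁻¹ ∉ K := by
    intro x hx hxK g hg
    have hx1 : x ≠ 1 := fun h => hxK (h ▸ K.one_mem)
    obtain ⟨p, hp, hpd⟩ := Nat.exists_prime_and_dvd (orderOf_eq_one_iff.not.mpr hx1)
    have : Fact p.Prime := ⟨hp⟩
    set y := x ^ (orderOf x / p) with hy
    have hyo : orderOf y = p := orderOf_pow_orderOf_div (orderOf_pos x).ne' hpd
    have hyN : y ∈ N := N.pow_mem hx _
    have hgy : g * y * g⁻¹ ∈ K := by rw [hy, ← conj_pow]; exact K.pow_mem hg _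
    have hy1 : y ≠ 1 := fun h => hp.one_lt.ne (by rw [← hyo, h, orderOf_one])
    have hyK : y ∉ K := fun h => by
      by_cases hgN : g ∈ N
      · exact hxK ((hgN x).mpr hg)
      · exact hy1 (hTI g hgN y h hgy)
    have hpK : p ∣ Nat.card K := by
      rw [← hyo, ← MulEquiv.orderOf_eq (MulAut.conj g) y]
      exact Subgroup.orderOf_dvd_natCard K hgy
    let Y := Subgroup.zpowers y
    have hYN : Y ≤ N := Subgroup.zpowers_le.mpr hyN
    let act : MulAction Y K :=
      { smul := fun s u => ⟨(s : G) * u * (s : G)⁻¹, (hYN s.2 (u : G)).mp u.2⟩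
        one_smul := fun u => Subtype.ext (show (1 : G) * u * (1 : G)⁻¹ = u by simp)
        mul_smul := fun s t u => Subtype.ext (show ((s : G) * t) * u * ((s : G) * t)⁻¹
          = (s : G) * ((t : G) * u * (t : G)⁻¹) * (s : G)⁻¹ by group) }
    have hY : IsPGroup p Y := IsPGroup.of_card (n := 1) (by rw [Nat.card_zpowers, hyo, pow_one])
    have hfix : MulAction.fixedPoints Y K = {1} := by
      ext u
      rw [MulAction.mem_fixedPoints, Set.mem_singleton_iff]
      refine ⟨fun h => ?_, fun h s => ?_⟩
      · by_contra hu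
        have hyu : y * u * y⁻¹ = u := congr_arg Subtype.val (h ⟨y, Subgroup.mem_zpowers y⟩)
        exact hyK (hC u u.2 (fun h1 => hu (Subtype.ext h1))
          (Subgroup.mem_centralizer_singleton_iff.mpr (mul_inv_eq_iff_eq_mul.mp hyu)))
      · subst h; exact Subtype.ext (show (s : G) * 1 * (s : G)⁻¹ = 1 by simp)
    have hmod := hY.card_modEq_card_fixedPoints (α := K)
    rw [hfix] at hmod
    have h1 : Nat.card ↥({1} : Set K) = 1 := by simp
    rw [h1] at hmod
    exact hp.not_dvd_one (Nat.modEq_zero_iff_dvd.mp (hmod.symm.trans (Nat.modEq_zero_iff_dvd.mpr hpK)))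
  refine ⟨hfus, fun ϑ hϑ hoff hone x => ?_⟩
  have hterm : ∀ y : G, Cfsg.extendByZero N ϑ (y⁻¹ * x * y) = if y ∈ N then ϑ x else 0 := by
    intro y
    by_cases hy : y ∈ N
    · rw [if_pos hy, CfsgLib.Char.extendByZero_of_mem _ (N.mul_mem (N.mul_mem (N.inv_mem hy) x.2) hy)]
      have := hϑ x ⟨y⁻¹, N.inv_mem hy⟩
      convert this using 2
      exact Subtype.ext (by simp)
    · rw [if_neg hy]
      by_cases hm : y⁻¹ * (x : G) * y ∈ N
      · rw [CfsgLib.Char.extendByZero_of_mem _ hm]
        by_cases hmK : y⁻¹ * (x : G) * y ∈ K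
        · by_cases hx1 : (x : G) = 1
          · rw [show (⟨_, hm⟩ : N) = 1 from Subtype.ext (by simp [hx1]), hone]
          · have hxK : (x : G) ∈ K := by
              by_contra hxK
              exact hfus x x.2 hxK y⁻¹ (by simpa using hmK)
            exact absurd (hTI y⁻¹ (fun h => hy (by simpa using N.inv_mem h)) x hxK (by simpa using hmK)) hx1
        · exact hoff _ hmK
      · simp only [Cfsg.extendByZero]
        rw [Function.extend_apply' _ _ _ (fun ⟨z, hz⟩ => hm (by rw [← hz]; exact z.2))]
        rfl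
  simp only [Cfsg.indFun, hterm]
  rw [← Finset.sum_filter, Finset.sum_const, nsmul_eq_mul, ← mul_assoc]
  have hcard : (Finset.univ.filter fun y : G => y ∈ N).card = Nat.card N := by
    rw [Nat.card_eq_fintype_card, Fintype.card_subtype]
  rw [hcard, inv_mul_cancel₀ (Nat.cast_ne_zero.mpr Nat.card_pos.ne'), one_mul]

end Cfsg.Agent.S0850
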