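import Cfsg.Statements.S0851
import Cfsg.Agent.Lib.Char.TI
import Cfsg.Agent.Lib.Char.Column
import Cfsg.Agent.Lib.Char.Linear
import Cfsg.Agent.Lib.Clifford.Frobenius

set_option autoImplicit false
open Cfsg

namespace Cfsg.Agent.S0851

/-- Characters not trivial on the abelian kernel of a Frobenius group. -/
theorem relevant_props {N : Type*} [Group N] [Fintype N] (K : Subgroup N) [K.Normal]
    (hC : ∀ k ∈ K, k ≠ 1 → Subgroup.centralizer ({k} : Set N) ≤ K)
    (hab : ∀ a ∈ K, ∀ b ∈ K, a * b = b * a) {χ : N → ℂ} (hχ : Cfsg.IsIrrCharacter N χ)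
    (hk : ∃ k ∈ K, χ k ≠ χ 1) : χ 1 = K.index ∧ ∀ x : N, x ∉ K → χ x = 0 := by
  classical
  obtain ⟨φ, hφ, -, rfl⟩ := CfsgLib.Clifford.exists_eq_indFun_of_centralizer_le hC hχ hk
  refine ⟨?_, fun x hx => ?_⟩
  · rw [CfsgLib.Char.indFun_apply_one,
      CfsgLib.Char.irr_degree_one_of_comm (fun a b => Subtype.ext (hab a a.2 b b.2)) hφ]
    simp
  · rw [CfsgLib.Char.indFun_def]
    refine mul_eq_zero_of_right _ (Finset.sum_eq_zero fun y _ =>
      CfsgLib.Char.extendByZero_of_not_mem _ fun h => hx ?_)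
    have := Subgroup.Normal.conj_mem ‹K.Normal› _ h y
    simpa [mul_assoc] using this

/-- A Frobenius kernel seen by a single irreducible character. -/
theorem unique_relevant {N : Type*} [Group N] [Fintype N] (K : Subgroup N) [K.Normal]
    (hC : ∀ k ∈ K, k ≠ 1 → Subgroup.centralizer ({k} : Set N) ≤ K)
    (hab : ∀ a ∈ K, ∀ b ∈ K, a * b = b * a) (hK : K ≠ ⊥) (χ₀ : Cfsg.IrrCharacter N)
    (hχ₀ : ∃ k ∈ K, (χ₀ : N → ℂ) k ≠ (χ₀ : N → ℂ) 1)
    (huniq : ∀ χ : Cfsg.IrrCharacter N, (∃ k ∈ K, (χ : N → ℂ) k ≠ (χ : N → ℂ) 1) → χ = χ₀) :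
    Nat.card K = K.index + 1 ∧ ∀ a ∈ K, ∀ b ∈ K, a ≠ 1 → b ≠ 1 → IsConj a b := by
  classical
  have := Fintype.ofFinite (Cfsg.IrrCharacter N)
  obtain ⟨hdeg, hvan⟩ := relevant_props K hC hab χ₀.2 hχ₀
  have hother : ∀ χ : Cfsg.IrrCharacter N, χ ≠ χ₀ → ∀ k ∈ K, (χ : N → ℂ) k = (χ : N → ℂ) 1 :=
    fun χ hne k hk => by_contra fun h => hne (huniq χ ⟨k, hk, h⟩)
  set c : ℂ := -(∑ χ ∈ (Finset.univ : Finset (Cfsg.IrrCharacter N)).erase χ₀,
    (χ : N → ℂ) 1 * (starRingEnd ℂ) ((χ : N → ℂ) 1)) / (starRingEnd ℂ) ((χ₀ : N → ℂ) 1) with hc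
  have hχ1 : (starRingEnd ℂ) ((χ₀ : N → ℂ) 1) ≠ 0 :=
    (map_ne_zero _).mpr (CfsgLib.Char.irr_apply_one_ne_zero χ₀.2)
  have hval : ∀ k ∈ K, k ≠ 1 → (χ₀ : N → ℂ) k = c := by
    intro k hk hk1
    have h := CfsgLib.Char.column_orthogonality k (1 : N)
    rw [if_neg (fun h => hk1 (isConj_one_left.mp h)), ← Finset.add_sum_erase _ _ (Finset.mem_univ χ₀),
      Finset.sum_congr rfl fun χ hχ => by rw [hother χ (Finset.mem_erase.mp hχ).1 k hk]] at h
    rw [hc, eq_div_iff hχ1]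
    linear_combination h
  have hconj : ∀ a ∈ K, ∀ b ∈ K, a ≠ 1 → b ≠ 1 → IsConj a b := fun a ha b hb ha1 hb1 =>
    (CfsgLib.Char.isConj_iff_forall_irr a b).mpr fun χ => by
      rcases eq_or_ne χ χ₀ with rfl | hne
      · rw [hval a ha ha1, hval b hb hb1]
      · rw [hother χ hne a ha, hother χ hne b hb]
  refine ⟨?_, hconj⟩
  have hne1 : (χ₀ : N → ℂ) ≠ fun _ => 1 := fun h => by
    obtain ⟨k, -, hk⟩ := hχ₀
    exact hk (by rw [h])
  have hsumN : ∀ F : N → ℂ, (∀ x, x ∉ K → F x = 0) →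
      ∑ x, F x = ∑ x ∈ Finset.univ.filter (· ∈ K), F x := fun F hF =>
    (Finset.sum_filter_of_ne fun x _ h => by_contra fun hx => h (hF x hx)).symm
  set s := (Finset.univ.filter fun x : N => x ∈ K).erase 1 with hs
  have hscard : s.card = Nat.card K - 1 := by
    rw [hs, Finset.card_erase_of_mem (by simp [K.one_mem]), ← Fintype.card_subtype,
      Nat.card_eq_fintype_card]
  have hsum : ∀ F : N → ℂ, (∀ x, x ∉ K → F x = 0) → ∀ d, (∀ k ∈ K, k ≠ 1 → F k = d) →
      ∑ x, F x = F 1 + ((Nat.card K - 1 : ℕ) : ℂ) * d := by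
    intro F hF d hd
    rw [hsumN F hF, ← Finset.add_sum_erase _ _ (by simp [K.one_mem] : (1 : N) ∈ _),
      Finset.sum_congr rfl (g := fun _ => d) fun x hx => hd x
        (Finset.mem_filter.mp (Finset.mem_erase.mp hx).2).2 (Finset.mem_erase.mp hx).1,
      Finset.sum_const, nsmul_eq_mul, ← hs, hscard]
  have h0 := CfsgLib.Char.irr_classInner_ne χ₀.2 CfsgLib.Char.isIrrCharacter_one hne1
  have h1 := CfsgLib.Char.irr_classInner_self χ₀.2
  rw [CfsgLib.Char.classInner_def] at h0 h1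
  simp only [map_one, mul_one] at h0
  have hN0 : (Nat.card N : ℂ) ≠ 0 := Nat.cast_ne_zero.mpr Nat.card_pos.ne'
  rw [mul_eq_zero] at h0
  replace h0 := h0.resolve_left (inv_ne_zero hN0)
  rw [inv_mul_eq_iff_eq_mul₀ hN0, mul_one, hsum _ (fun x hx => by rw [hvan x hx, zero_mul])
    (c * (starRingEnd ℂ) c) fun k hk hk1 => by rw [hval k hk hk1], hdeg, map_natCast] at h1
  rw [hsum _ hvan c hval, hdeg] at h0
  have hK1 : 1 < Nat.card K := Subgroup.one_lt_card_iff_ne_bot K |>.mpr hK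
  set m1 := Nat.card K - 1 with hm1
  set e := K.index with he
  have hcard : (Nat.card N : ℂ) = ((m1 + 1 : ℕ) : ℂ) * e := by
    rw [show m1 + 1 = Nat.card K by omega, ← Nat.cast_mul, he, Subgroup.card_mul_index]
  have he0 : (e : ℂ) ≠ 0 := Nat.cast_ne_zero.mpr Subgroup.index_ne_zero_of_finite
  have hmne : (m1 : ℂ) ≠ 0 := Nat.cast_ne_zero.mpr (by omega)
  have hconjc : (starRingEnd ℂ) c = c := by
    have : c = -(e : ℂ) / m1 := by rw [eq_div_iff hmne]; linear_combination h0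
    rw [this]; simp
  rw [hconjc, hcard] at h1
  have : (e : ℂ) = m1 := by
    push_cast at h1
    apply mul_left_cancel₀ he0
    have h2 : (m1 : ℂ) * c = -e := by linear_combination h0
    have h3 : (e : ℂ) * e * (m1 + 1) = (m1 + 1) * e * m1 := by
      linear_combination (m1 : ℂ) * h1 - ((m1 : ℂ) * c - e) * h2
    have h4 : (m1 : ℂ) + 1 ≠ 0 := by exact_mod_cast Nat.succ_ne_zero m1
    exact mul_left_cancel₀ h4 (by linear_combination h3)
  have : e = m1 := by exact_mod_cast this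
  omega

/-- Let K be a subgroup of the finite group G that meets each conjugate by an element outside its normalizer N trivially, is properly contained in N, and contains the centralizer of each of its non-identity elements (a T.I. subgroup with Frobenius normalizer). Suppose K is abelian, let e be the index of K in N, and call an irreducible character of N relevant when it takes at some element of K a value different from its degree. Then either there is exactly one relevant character and K is an elementary abelian p-group of order e + 1 for some prime p, or there are a sign ε and an injective map f from the relevant characters to the irreducible characters of G such that inducing χ - ξ to G gives ε (f χ - f ξ) for all relevant χ and ξ. -/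
theorem result {G : Type*} [Group G] [Fintype G] (K : Subgroup G) (hTI : ∀ g : G, g ∉ Subgroup.normalizer (K : Set G) → ∀ k ∈ K, g * k * g⁻¹ ∈ K → k = 1) (hlt : K < Subgroup.normalizer (K : Set G)) (hC : ∀ k ∈ K, k ≠ 1 → Subgroup.centralizer ({k} : Set G) ≤ K) (hab : ∀ a ∈ K, ∀ b ∈ K, a * b = b * a) : (Nat.card {χ : Cfsg.IrrCharacter (Subgroup.normalizer (K : Set G)) // ∃ k : Subgroup.normalizer (K : Set G), (k : G) ∈ K ∧ (χ : ↥(Subgroup.normalizer (K : Set G)) → ℂ) k ≠ (χ : ↥(Subgroup.normalizer (K : Set G)) → ℂ) 1} = 1 ∧ ∃ p : ℕ, p.Prime ∧ Cfsg.IsElementaryAbelian p K ∧ Nat.card K = (K.subgroupOf (Subgroup.normalizer (K : Set G))).index + 1) ∨ ∃ (ε : ℂ) (f : {χ : Cfsg.IrrCharacter (Subgroup.normalizer (K : Set G)) // ∃ k : Subgroup.normalizer (K : Set G), (k : G) ∈ K ∧ (χ : ↥(Subgroup.normalizer (K : Set G)) → ℂ) k ≠ (χ : ↥(Subgroup.normalizer (K : Set G)) → ℂ) 1} → Cfsg.IrrCharacter G), (ε = 1 ∨ ε = -1) ∧ Function.Injective f ∧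 ∀ χ ξ, Cfsg.indFun (Subgroup.normalizer (K : Set G)) ((χ.1 : ↥(Subgroup.normalizer (K : Set G)) → ℂ) - (ξ.1 : ↥(Subgroup.normalizer (K : Set G)) → ℂ)) = ε • ((f χ : G → ℂ) - (f ξ : G → ℂ)) := by
  classical
  set N := Subgroup.normalizer (K : Set G) with hN
  have : Fintype N := Fintype.ofFinite N
  have hKN : K ≤ N := hlt.le
  let K' := K.subgroupOf N
  have hK'n : K'.Normal := Subgroup.normal_subgroupOf_of_le_normalizer le_rfl
  have hC' : ∀ k ∈ K', k ≠ 1 → Subgroup.centralizer ({k} : Set N) ≤ K' := by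
    intro k hk hk1 x hx
    refine hC k hk (fun h => hk1 (Subtype.ext h)) ?_
    rw [Subgroup.mem_centralizer_singleton_iff] at hx ⊢
    exact congr_arg Subtype.val hx
  have hab' : ∀ a ∈ K', ∀ b ∈ K', a * b = b * a := fun a ha b hb => Subtype.ext (hab _ ha _ hb)
  have hprops : ∀ χ : {χ : Cfsg.IrrCharacter N // ∃ k : N, (k : G) ∈ K ∧ (χ : N → ℂ) k ≠ (χ : N → ℂ) 1},
      (χ.1 : N → ℂ) 1 = K'.index ∧ ∀ x : N, (x : G) ∉ K → (χ.1 : N → ℂ) x = 0 := fun χ =>
    relevant_props K' hC' hab' χ.1.2 χ.2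
  set R := {χ : Cfsg.IrrCharacter N // ∃ k : N, (k : G) ∈ K ∧ (χ : N → ℂ) k ≠ (χ : N → ℂ) 1}
  by_cases hK : K = ⊥
  · refine Or.inr ⟨1, fun χ => absurd χ.2 ?_, Or.inl rfl, fun a => absurd a.2 ?_, fun a => absurd a.2 ?_⟩ <;>
    · rintro ⟨k, hk, hne⟩
      rw [hK, Subgroup.mem_bot] at hk
      exact hne (by rw [show k = 1 from Subtype.ext hk])
  by_cases h1 : Nat.card R = 1
  · left
    refine ⟨h1, ?_⟩
    obtain ⟨hsub, ⟨χ₀, hχ₀⟩⟩ := Nat.card_eq_one_iff_unique.mp h1
    obtain ⟨hcard, hconj⟩ := unique_relevant K' hC' hab' (fun h => hK (Disjoint.eq_bot_of_le (Subgroup.subgroupOf_eq_bot.mp h) hKN))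
      χ₀ hχ₀ fun χ hχ => congr_arg Subtype.val (Subsingleton.elim (⟨χ, hχ⟩ : R) ⟨χ₀, hχ₀⟩)
    have hcardK : Nat.card K' = Nat.card K :=
      Nat.card_congr (Subgroup.subgroupOfEquivOfLe hKN).toEquiv
    obtain ⟨g, hg, hg1⟩ := (Subgroup.bot_or_exists_ne_one K).resolve_left hK
    obtain ⟨p, hp, hpdvd⟩ := Nat.exists_prime_and_dvd (n := orderOf g)
      (fun h => hg1 (orderOf_eq_one_iff.mp h))
    obtain ⟨q, hq⟩ := hpdvd
    have hq0 : q ≠ 0 := fun h => (orderOf_pos g).ne' (by rw [hq, h, mul_zero])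
    have hgq : g ^ q ≠ 1 := by
      intro h
      have := Nat.le_of_dvd (Nat.pos_of_ne_zero hq0) (orderOf_dvd_of_pow_eq_one h)
      rw [hq] at this
      have := hp.two_le
      nlinarith [Nat.pos_of_ne_zero hq0]
    have hcomm : IsMulCommutative K := ⟨⟨fun a b => Subtype.ext (hab a a.2 b b.2)⟩⟩
    refine ⟨p, hp, ⟨hcomm, fun a ha => ?_⟩, hcardK ▸ hcard⟩
    by_cases ha1 : a = 1
    · rw [ha1, one_pow]
    obtain ⟨c, hc⟩ := isConj_iff.mp (hconj ⟨g ^ q, hKN (K.pow_mem hg q)⟩ (K.pow_mem hg q)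
      ⟨a, hKN ha⟩ ha (fun h => hgq (congr_arg Subtype.val h)) (fun h => ha1 (congr_arg Subtype.val h)))
    have hc' := congr_arg Subtype.val hc
    simp only [Subgroup.coe_mul, Subgroup.coe_inv] at hc'
    rw [← hc', conj_pow, ← pow_mul, mul_comm q, ← hq, pow_orderOf_eq_one, mul_one, mul_inv_cancel]
  right
  have : Fintype R := Fintype.ofFinite R
  let en := (Fintype.equivFin R).symm
  by_cases h0 : Fintype.card R = 0
  · have : IsEmpty R := Fintype.card_eq_zero_iff.mp h0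
    exact ⟨1, isEmptyElim, Or.inl rfl, fun a => isEmptyElim a, fun a => isEmptyElim a⟩
  rw [Nat.card_eq_fintype_card] at h1
  obtain ⟨ε, hε, θ, hθ, hinj, hdiff⟩ := CfsgLib.Char.exceptional_characters (K : Set G)
    (fun g hg s hs h => hTI g hg s hs h) (Fintype.card R) (by omega)
    (fun i => ((en i).1 : N → ℂ)) (fun i => (en i).1.2)
    (fun i j h => en.injective (Subtype.ext (Subtype.ext h))) (fun i => (hprops (en i)).2)
    (fun i j => (hprops (en i)).1.trans (hprops (en j)).1.symm)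
  refine ⟨ε, fun χ => ⟨θ (en.symm χ), hθ _⟩, hε,
    fun a b h => en.symm.injective (hinj (congr_arg Subtype.val h)), fun χ ξ => ?_⟩
  have := hdiff (en.symm χ) (en.symm ξ)
  simp only [Equiv.apply_symm_apply] at this
  rw [CfsgLib.Char.indFun_sub]
  exact this

end Cfsg.Agent.S0851
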