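import Cfsg.Statements.S0852
import Cfsg.Agent.Lib.Clifford.TICoherent

set_option autoImplicit false
open Cfsg

namespace Cfsg.Agent.S0852

open CfsgLib.Clifford.Coh

/-- Let K be a subgroup of the finite group G that meets each conjugate by an element outside its normalizer N trivially, is properly contained in N, and contains the centralizer of each of its non-identity elements (a T.I. subgroup with Frobenius normalizer). Let S be the set of irreducible characters of N taking at some element of K a value different from their degree, suppose S has at least two members, and let star be a linear isometry on the integer span of S into the generalized characters of G that agrees with induction on the members vanishing at the identity (so S is coherent, with star as the extending isometry). Then an irreducible character ψ of G is of the form star χ or -star χ for some χ in S if and only if ψ is not constant on the non-identity elements of K. -/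
theorem result {G : Type*} [Group G] [Fintype G] (K : Subgroup G) (hTI : ∀ g : G, g ∉ Subgroup.normalizer (K : Set G) → ∀ k ∈ K, g * k * g⁻¹ ∈ K → k = 1) (hlt : K < Subgroup.normalizer (K : Set G)) (hC : ∀ k ∈ K, k ≠ 1 → Subgroup.centralizer ({k} : Set G) ≤ K) [Fintype ↥(Subgroup.normalizer (K : Set G))] (S : Set (↥(Subgroup.normalizer (K : Set G)) → ℂ)) (hS : S = {χ : ↥(Subgroup.normalizer (K : Set G)) → ℂ | Cfsg.IsIrrCharacter ↥(Subgroup.normalizer (K : Set G)) χ ∧ ∃ k : ↥(Subgroup.normalizer (K : Set G)), (k : G) ∈ K ∧ χ k ≠ χ 1}) (htwo : ∃ χ ∈ S, ∃ ξ ∈ S, χ ≠ ξ) (star : (↥(Subgroup.normalizer (K : Set G)) → ℂ) → (G → ℂ)) (hstar : Cfsg.IsLinearIsometryOn (Cfsg.zspan S) star) (hext : ∀ α ∈ Cfsg.zspanOn S ({1}ᶜ : Set ↥(Subgroup.normalizer (K : Set G))), star α = Cfsg.indFun (Subgroup.normalizer (K : Set G)) α) (ψ : G → ℂ) (hψ : Cfsg.IsIrrCharacter G ψ) : (∃ χ ∈ S, ψ = star χ ∨ ψ = -star χ) ↔ ∃ a ∈ K, ∃ b ∈ K, a ≠ 1 ∧ b ≠ 1 ∧ ψ a ≠ ψ b := by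
  classical
  have hSr : S = relevant (K.subgroupOf (Subgroup.normalizer (K : Set G))) := hS
  clear hS
  subst hSr
  let K' := K.subgroupOf (Subgroup.normalizer (K : Set G))
  have := Fintype.ofFinite (Cfsg.IrrCharacter (Subgroup.normalizer (K : Set G)))
  obtain ⟨C, hC'⟩ := exists_value_formula K' hstar hext (CfsgLib.Char.irr_isClassFunction hψ)
  have hKN : K ≤ (Subgroup.normalizer (K : Set G)) := hlt.le
  have hK'n : K'.Normal := Subgroup.normal_subgroupOf_of_le_normalizer le_rfl
  have hself : ∀ χ ∈ relevant K', Cfsg.classInner (star χ) (star χ) = 1 := fun χ hχ => by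
    rw [hstar.2.2.1 _ (mem_zspan_of_mem hχ) _ (mem_zspan_of_mem hχ),
      CfsgLib.Char.irr_classInner_self hχ.1]
  constructor
  · rintro ⟨χ, hχ, hψχ⟩
    obtain ⟨s, hs, rfl⟩ : ∃ s : ℂ, s ≠ 0 ∧ ψ = s • star χ := by
      rcases hψχ with h | h
      exacts [⟨1, one_ne_zero, by simp [h]⟩, ⟨-1, by norm_num, by simp [h]⟩]
    by_contra hcon
    push Not at hcon
    -- then `χ` is constant on the non-identity elements of the kernel
    have hval : ∀ k ∈ K', k ≠ 1 → (s • star χ) (k : G) = s * χ k + C := by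
      intro k hk hk1
      rw [hC' k hk hk1, Finset.sum_eq_single (⟨χ, hχ.1⟩ : Cfsg.IrrCharacter (Subgroup.normalizer (K : Set G)))]
      · rw [CfsgLib.Char.classInner_smul_left, hself χ hχ, mul_one]
      · intro η hη hne
        rw [CfsgLib.Char.classInner_smul_left,
          hstar.2.2.1 _ (mem_zspan_of_mem hχ) _ (mem_zspan_of_mem (Finset.mem_filter.mp hη).2),
          CfsgLib.Char.irr_classInner_ne hχ.1 η.2 fun e => hne (Subtype.ext e.symm), mul_zero,
          zero_mul]
      · exact fun h => absurd (Finset.mem_filter.mpr ⟨Finset.mem_univ (⟨χ, hχ.1⟩ : Cfsg.IrrCharacter _), hχ⟩) h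
    have hconst : ∀ a ∈ K', ∀ b ∈ K', a ≠ 1 → b ≠ 1 → χ a = χ b := by
      intro a ha b hb ha1 hb1
      have h := hcon a ha b hb (fun e => ha1 (Subtype.ext e)) (fun e => hb1 (Subtype.ext e))
      rw [hval a ha ha1, hval b hb hb1] at h
      exact mul_left_cancel₀ hs (add_right_cancel h)
    obtain ⟨ξ, hξ, hne⟩ : ∃ ξ ∈ relevant K', ξ ≠ χ := by
      obtain ⟨a, ha, b, hb, hab⟩ := htwo
      rcases eq_or_ne a χ with rfl | h
      exacts [⟨b, hb, hab.symm⟩, ⟨a, ha, h⟩]
    obtain ⟨k₀, hk₀, hk₀ne⟩ := hχ.2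
    have hk₀1 : k₀ ≠ 1 := fun e => hk₀ne (by rw [e])
    have hCK : ∀ k ∈ K', k ≠ 1 → Subgroup.centralizer ({k} : Set (Subgroup.normalizer (K : Set G))) ≤ K' := by
      intro k hk hk1 x hx
      refine hC k hk (fun h => hk1 (Subtype.ext h)) ?_
      rw [Subgroup.mem_centralizer_singleton_iff] at hx ⊢
      exact congr_arg Subtype.val hx
    obtain ⟨φ, hφ, -, hξeq⟩ := CfsgLib.Clifford.exists_eq_indFun_of_centralizer_le hCK hξ.1 hξ.2
    have hvan : ∀ x, x ∉ K' → ξ x = 0 := fun x hx => by
      rw [hξeq]; exact CfsgLib.Clifford.indFun_eq_zero_of_not_mem _ hx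
    have hne1 : ξ ≠ fun _ => 1 := fun e => by
      obtain ⟨k, -, hk⟩ := hξ.2
      exact hk (by rw [e])
    have h1 : ∑ x, ξ x = 0 := by
      have h := CfsgLib.Char.irr_classInner_ne hξ.1 CfsgLib.Char.isIrrCharacter_one hne1
      rw [CfsgLib.Char.classInner_def] at h
      simp only [map_one, mul_one] at h
      exact (mul_eq_zero.mp h).resolve_left (inv_ne_zero (Nat.cast_ne_zero.mpr Nat.card_pos.ne'))
    have h2 : ∑ x, ξ x * (starRingEnd ℂ) (χ x) = 0 := by
      have h := CfsgLib.Char.irr_classInner_ne hξ.1 hχ.1 hne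
      rw [CfsgLib.Char.classInner_def] at h
      exact (mul_eq_zero.mp h).resolve_left (inv_ne_zero (Nat.cast_ne_zero.mpr Nat.card_pos.ne'))
    have h3 : ∑ x, ξ x * ((starRingEnd ℂ) (χ x) - (starRingEnd ℂ) (χ k₀)) = 0 := by
      simp only [mul_sub, Finset.sum_sub_distrib, h2, ← Finset.sum_mul, h1, zero_mul, sub_zero]
    rw [Finset.sum_eq_single (1 : (Subgroup.normalizer (K : Set G))) (fun x _ hx1 => ?_) (fun h => absurd (Finset.mem_univ _) h)] at h3
    · rcases mul_eq_zero.mp h3 with h | h
      · exact CfsgLib.Char.irr_apply_one_ne_zero hξ.1 h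
      · rw [sub_eq_zero] at h
        exact hk₀ne ((starRingEnd ℂ).injective h.symm)
    · by_cases hx : x ∈ K'
      · rw [hconst x hx k₀ hk₀ hx1 hk₀1, sub_self, mul_zero]
      · rw [hvan x hx, zero_mul]
  · rintro ⟨a, ha, b, hb, ha1, hb1, hab⟩
    by_contra hcon
    push Not at hcon
    refine hab ?_
    have hz : ∀ k ∈ K', k ≠ 1 → ψ (k : G) = C := by
      intro k hk hk1
      rw [hC' k hk hk1, Finset.sum_eq_zero, zero_add]
      intro η hη
      obtain ⟨h1, h2⟩ := hcon _ (Finset.mem_filter.mp hη).2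
      have hr := (Finset.mem_filter.mp hη).2
      rcases CfsgLib.Char.isGeneralized_norm_one (hstar.2.2.2 _ (mem_zspan_of_mem hr)) (hself _ hr)
        with h | h
      · rw [CfsgLib.Char.irr_classInner_ne hψ h h1, zero_mul]
      · have h' := CfsgLib.Char.irr_classInner_ne hψ h h2
        rw [show -star (η : (Subgroup.normalizer (K : Set G)) → ℂ) = (-1 : ℂ) • star (η : (Subgroup.normalizer (K : Set G)) → ℂ) by simp,
          CfsgLib.Char.classInner_smul_right, map_neg, map_one, neg_one_mul, neg_eq_zero] at h'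
        rw [h', zero_mul]
    have e1 := hz ⟨a, hKN ha⟩ ha (fun e => ha1 (congr_arg Subtype.val e))
    have e2 := hz ⟨b, hKN hb⟩ hb (fun e => hb1 (congr_arg Subtype.val e))
    exact e1.trans e2.symm

end Cfsg.Agent.S0852
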