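import Cfsg.Statements.S0853
import Cfsg.Agent.Lib.Clifford.TICoherent
import Cfsg.Agent.Lib.Char.TI

set_option autoImplicit false
open Cfsg

namespace Cfsg.Agent.S0853

open CfsgLib.Clifford.Coh

/-- Let K be a subgroup of the finite group G that meets each conjugate by an element outside its normalizer N trivially, is properly contained in N, and contains the centralizer of each of its non-identity elements (a T.I. subgroup with Frobenius normalizer). Let S be the set of irreducible characters of N taking at some element of K a value different from their degree, suppose S has at least two members, and let star be a linear isometry on the integer span of S into the generalized characters of G that agrees with induction on the members vanishing at the identity (so S is coherent, with star as the extending isometry). Then there is a single integer m such that star χ k - χ k = m * χ 1 / e for every χ in S and every non-identity element k of K, where e is the index of K in N. -/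
theorem result {G : Type*} [Group G] [Fintype G] (K : Subgroup G) (hTI : ∀ g : G, g ∉ Subgroup.normalizer (K : Set G) → ∀ k ∈ K, g * k * g⁻¹ ∈ K → k = 1) (hlt : K < Subgroup.normalizer (K : Set G)) (hC : ∀ k ∈ K, k ≠ 1 → Subgroup.centralizer ({k} : Set G) ≤ K) [Fintype ↥(Subgroup.normalizer (K : Set G))] (S : Set (↥(Subgroup.normalizer (K : Set G)) → ℂ)) (hS : S = {χ : ↥(Subgroup.normalizer (K : Set G)) → ℂ | Cfsg.IsIrrCharacter ↥(Subgroup.normalizer (K : Set G)) χ ∧ ∃ k : ↥(Subgroup.normalizer (K : Set G)), (k : G) ∈ K ∧ χ k ≠ χ 1}) (htwo : ∃ χ ∈ S, ∃ ξ ∈ S, χ ≠ ξ) (star : (↥(Subgroup.normalizer (K : Set G)) → ℂ) → (G → ℂ)) (hstar : Cfsg.IsLinearIsometryOn (Cfsg.zspan S) star) (hext : ∀ α ∈ Cfsg.zspanOn S ({1}ᶜ : Set ↥(Subgroup.normalizer (K : Set G))), star α = Cfsg.indFun (Subgroup.normalizer (K : Set G)) α) : ∃ m : ℤ, ∀ χ ∈ S, ∀ k : ↥(Subgroup.normalizer (K : Set G)), (k : G) ∈ K → k ≠ 1 → star χ k - χ k = (m : ℂ) * χ 1 / ((K.subgroupOf (Subgroup.normalizer (K : Set G))).index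 : ℂ) := by
  classical
  have hSr : S = relevant (K.subgroupOf (Subgroup.normalizer (K : Set G))) := hS
  clear hS
  subst hSr
  let K' := K.subgroupOf (Subgroup.normalizer (K : Set G))
  have := Fintype.ofFinite (Cfsg.IrrCharacter (Subgroup.normalizer (K : Set G)))
  have hKN : K ≤ (Subgroup.normalizer (K : Set G)) := hlt.le
  have hK'n : K'.Normal := Subgroup.normal_subgroupOf_of_le_normalizer le_rfl
  have : Fintype K' := Fintype.ofFinite K'
  have hCK : ∀ k ∈ K', k ≠ 1 → Subgroup.centralizer ({k} : Set (Subgroup.normalizer (K : Set G))) ≤ K' := by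
    intro k hk hk1 x hx
    refine hC k hk (fun h => hk1 (Subtype.ext h)) ?_
    rw [Subgroup.mem_centralizer_singleton_iff] at hx ⊢
    exact congr_arg Subtype.val hx
  obtain ⟨χ₀, hχ₀, -⟩ := htwo
  obtain ⟨k₀, hk₀, hk₀ne⟩ := hχ₀.2
  have hk₀1 : k₀ ≠ 1 := fun e => hk₀ne (by rw [e])
  have : Nontrivial K' := ⟨⟨⟨k₀, hk₀⟩, 1, fun e => hk₀1 (congr_arg Subtype.val e)⟩⟩
  have hvan : ∀ χ ∈ relevant K', ∀ x, x ∉ K' → χ x = 0 := fun χ hχ x hx => by
    obtain ⟨φ, hφ, -, hξeq⟩ := CfsgLib.Clifford.exists_eq_indFun_of_centralizer_le hCK hχ.1 hχ.2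
    rw [hξeq]; exact CfsgLib.Clifford.indFun_eq_zero_of_not_mem _ hx
  -- the constant attached to each member
  have hconst : ∀ χ ∈ relevant K', ∀ k ∈ K', k ≠ 1 →
      star χ (k : G) - χ k = star χ (k₀ : G) - χ k₀ := by
    intro χ hχ k hk hk1
    obtain ⟨C, hC'⟩ := exists_value_formula K' hstar hext
      (CfsgLib.Char.isGeneralized_isClassFunction (hstar.2.2.2 _ (mem_zspan_of_mem hχ)))
    have hv : ∀ k ∈ K', k ≠ 1 → star χ (k : G) = χ k + C := fun k hk hk1 => by
      rw [hC' k hk hk1, Finset.sum_eq_single (⟨χ, hχ.1⟩ : Cfsg.IrrCharacter (Subgroup.normalizer (K : Set G)))]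
      · rw [hstar.2.2.1 _ (mem_zspan_of_mem hχ) _ (mem_zspan_of_mem hχ),
          CfsgLib.Char.irr_classInner_self hχ.1, one_mul]
      · intro η hη hne
        rw [hstar.2.2.1 _ (mem_zspan_of_mem hχ) _ (mem_zspan_of_mem (Finset.mem_filter.mp hη).2),
          CfsgLib.Char.irr_classInner_ne hχ.1 η.2 fun e => hne (Subtype.ext e.symm), zero_mul]
      · exact fun h => absurd (Finset.mem_filter.mpr ⟨Finset.mem_univ (⟨χ, hχ.1⟩ : Cfsg.IrrCharacter _), hχ⟩) h
    rw [hv k hk hk1, hv k₀ hk₀ hk₀1]; ring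
  let D : ((Subgroup.normalizer (K : Set G)) → ℂ) → ℂ := fun χ => star χ (k₀ : G) - χ k₀
  -- proportional to the degree
  have hprop : ∀ χ ∈ relevant K', χ₀ 1 * D χ = χ 1 * D χ₀ := by
    intro χ hχ
    obtain ⟨a, -, ha⟩ := CfsgLib.Char.irr_apply_one_pos hχ.1
    obtain ⟨b, -, hb⟩ := CfsgLib.Char.irr_apply_one_pos hχ₀.1
    have hm : (b : ℤ) • χ - (a : ℤ) • χ₀ ∈ Cfsg.zspanOn (relevant K') ({1}ᶜ : Set (Subgroup.normalizer (K : Set G))) :=
      mem_zspanOn_compl.mpr ⟨Submodule.sub_mem _ (Submodule.smul_mem _ _ (mem_zspan_of_mem hχ))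
        (Submodule.smul_mem _ _ (mem_zspan_of_mem hχ₀)), by simp [ha, hb, mul_comm]⟩
    have h := congr_fun (hext _ hm) (k₀ : G)
    rw [CfsgLib.Char.indFun_ti_apply (K : Set G) (fun g hg t ht h => hTI g hg t ht h) _
      (fun x y => by simp [CfsgLib.Char.irr_isClassFunction hχ.1 x y,
        CfsgLib.Char.irr_isClassFunction hχ₀.1 x y])
      (fun x hx => by simp [hvan χ hχ x hx, hvan χ₀ hχ₀ x hx]) k₀ hk₀ hk₀1,
      iso_zspan_sub hstar (Submodule.smul_mem _ _ (mem_zspan_of_mem hχ))
        (Submodule.smul_mem _ _ (mem_zspan_of_mem hχ₀)),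
      hstar.2.1 _ (mem_zspan_of_mem hχ), hstar.2.1 _ (mem_zspan_of_mem hχ₀)] at h
    simp only [Pi.sub_apply, Pi.smul_apply, zsmul_eq_mul, Int.cast_natCast] at h
    simp only [D, ha, hb]
    simp only [Pi.mul_apply, Pi.natCast_apply] at h
    linear_combination h
  -- integrality
  have hint : ∀ χ ∈ relevant K', ∃ n : ℤ, D χ = n := by
    intro χ hχ
    let f : K' → ℂ := fun x => star χ ((x : (Subgroup.normalizer (K : Set G))) : G) - χ x
    have hf : Cfsg.IsGeneralizedCharacter K' f := by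
      obtain ⟨u, v, hu, hv, huv⟩ := hstar.2.2.2 _ (mem_zspan_of_mem hχ)
      refine ⟨fun x => u ((x : (Subgroup.normalizer (K : Set G))) : G), fun x => v ((x : (Subgroup.normalizer (K : Set G))) : G) + χ x,
        CfsgLib.Char.isCharacter_comp hu ((Subgroup.normalizer (K : Set G)).subtype.comp K'.subtype),
        CfsgLib.Char.isCharacter_add (CfsgLib.Char.isCharacter_comp hv ((Subgroup.normalizer (K : Set G)).subtype.comp K'.subtype))
          (CfsgLib.Char.isCharacter_restrict (CfsgLib.Char.irr_isCharacter hχ.1) K'), ?_⟩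
      funext x
      simp [f, huv, sub_sub]
    set q : ℂ := (f 1 - D χ) / Nat.card K' with hq
    have hinner : ∀ φ, Cfsg.IsIrrCharacter K' φ →
        Cfsg.classInner f φ = D χ * Cfsg.classInner (fun _ => 1) φ + q * φ 1 := by
      intro φ hφ
      obtain ⟨d, -, hd⟩ := CfsgLib.Char.irr_apply_one_pos hφ
      rw [CfsgLib.Char.classInner_def, CfsgLib.Char.classInner_def, ← Finset.add_sum_erase _ _ (Finset.mem_univ 1),
        ← Finset.add_sum_erase _ _ (Finset.mem_univ 1),
        Finset.sum_congr rfl (g := fun x => D χ * (1 * (starRingEnd ℂ) (φ x))) fun x hx => by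
          rw [show f x = D χ from hconst χ hχ x x.2 fun e =>
            (Finset.mem_erase.mp hx).1 (Subtype.ext e), one_mul], ← Finset.mul_sum, hq]
      have : (starRingEnd ℂ) (φ 1) = φ 1 := by rw [hd, map_natCast]
      rw [this]
      ring
    have hqint : ∃ n : ℤ, q = n := exists_int_of_mul_degree q fun φ hφ hne => by
      obtain ⟨n, hn⟩ := CfsgLib.Char.classInner_isGeneralized_int hf
        (CfsgLib.Char.isGeneralized_of_isCharacter (CfsgLib.Char.irr_isCharacter hφ))
      refine ⟨n, ?_⟩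
      rw [← hn, hinner φ hφ, CfsgLib.Char.irr_classInner_ne CfsgLib.Char.isIrrCharacter_one hφ
        (Ne.symm hne), mul_zero, zero_add]
    obtain ⟨n, hn⟩ := hqint
    obtain ⟨l, hl⟩ := CfsgLib.Char.classInner_isGeneralized_int hf
      (CfsgLib.Char.isGeneralized_of_isCharacter (CfsgLib.Char.irr_isCharacter CfsgLib.Char.isIrrCharacter_one))
    rw [hinner _ CfsgLib.Char.isIrrCharacter_one,
      CfsgLib.Char.irr_classInner_self CfsgLib.Char.isIrrCharacter_one, hn] at hl
    exact ⟨l - n, by push_cast; linear_combination hl⟩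
  have hχ₀1 := CfsgLib.Char.irr_apply_one_ne_zero hχ₀.1
  obtain ⟨m, hm⟩ : ∃ m : ℤ, D χ₀ / χ₀ 1 * (K'.index : ℂ) = m := by
    refine exists_int_of_mul_degree (H := K') _ fun φ hφ hne => ?_
    have hirr := CfsgLib.Clifford.isIrrCharacter_indFun_of_centralizer_le hCK hφ hne
    have hrel : Cfsg.indFun K' φ ∈ relevant K' := by
      refine ⟨hirr, by_contra fun hall => ?_⟩
      push Not at hall
      have h := CfsgLib.Char.frobenius_reciprocity K' φ _ (CfsgLib.Char.irr_isClassFunction hirr)
      rw [CfsgLib.Char.irr_classInner_self hirr] at h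
      have hres : (fun x : K' => Cfsg.indFun K' φ x) =
          Cfsg.indFun K' φ 1 • (fun _ : K' => (1 : ℂ)) := funext fun x => by
        simp [hall x x.2]
      rw [hres, CfsgLib.Char.classInner_smul_right,
        CfsgLib.Char.irr_classInner_ne hφ CfsgLib.Char.isIrrCharacter_one hne, mul_zero] at h
      exact one_ne_zero h
    obtain ⟨n, hn⟩ := hint _ hrel
    refine ⟨n, ?_⟩
    have h := hprop _ hrel
    rw [hn, CfsgLib.Char.indFun_apply_one] at h
    field_simp
    linear_combination -h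
  refine ⟨m, fun χ hχ k hk hk1 => ?_⟩
  rw [hconst χ hχ k hk hk1, ← hm]
  have he : (K'.index : ℂ) ≠ 0 := Nat.cast_ne_zero.mpr Subgroup.index_ne_zero_of_finite
  have h := hprop χ hχ
  change D χ = D χ₀ / χ₀ 1 * (K'.index : ℂ) * χ 1 / (K'.index : ℂ)
  rw [div_mul_eq_mul_div, div_mul_eq_mul_div, div_div, eq_div_iff (mul_ne_zero hχ₀1 he)]
  linear_combination (K'.index : ℂ) * h

end Cfsg.Agent.S0853
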