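import Cfsg.Statements.S0856
import Cfsg.Agent.Lib.Clifford.Correspondence

set_option autoImplicit false
open Cfsg

namespace Cfsg.Agent.S0856

/-- Let N be a normal subgroup of the finite group G and φ, ϑ irreducible characters of N that are invariant under conjugation by G, such that the pointwise product φ * ϑ is irreducible and ϑ is the restriction of an irreducible character χ of G. Then multiplication by χ is a bijection from the set of irreducible characters of G having nonzero inner product with the function induced from φ onto the set of those having nonzero inner product with the function induced from φ * ϑ. -/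
theorem result {G : Type*} [Group G] [Fintype G] (N : Subgroup G) [hN : N.Normal] (φ ϑ : N → ℂ) (hφ : Cfsg.IsIrrCharacter N φ) (hϑ : Cfsg.IsIrrCharacter N ϑ) (hφinv : ∀ (g : G) (n : N), φ ⟨g * n * g⁻¹, hN.conj_mem (n : G) n.2 g⟩ = φ n) (hϑinv : ∀ (g : G) (n : N), ϑ ⟨g * n * g⁻¹, hN.conj_mem (n : G) n.2 g⟩ = ϑ n) (hprod : Cfsg.IsIrrCharacter N (φ * ϑ)) (χ : G → ℂ) (hχ : Cfsg.IsIrrCharacter G χ) (hext : ∀ n : N, χ n = ϑ n) : Set.BijOn (fun β : G → ℂ => β * χ) {β : G → ℂ | Cfsg.IsIrrCharacter G β ∧ Cfsg.classInner (Cfsg.indFun N φ) β ≠ 0} {ψ : G → ℂ | Cfsg.IsIrrCharacter G ψ ∧ Cfsg.classInner (Cfsg.indFun N (φ * ϑ)) ψ ≠ 0} := by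
  classical
  have := Fintype.ofFinite N
  have := Fintype.ofFinite (Cfsg.IrrCharacter G)
  have hφ' : ∀ g, CfsgLib.Clifford.conjFn g φ = φ := fun g => funext (hφinv g)
  have hpinv : ∀ g, CfsgLib.Clifford.conjFn g (φ * ϑ) = φ * ϑ := fun g => funext fun n =>
    congr_arg₂ (· * ·) (hφinv g n) (hϑinv g n)
  have hnorm : ∀ α : N → ℂ, Cfsg.IsIrrCharacter N α → (∀ g, CfsgLib.Clifford.conjFn g α = α) →
      Cfsg.classInner (Cfsg.indFun N α) (Cfsg.indFun N α) = (N.index : ℂ) := by
    intro α hα hinv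
    rw [CfsgLib.Clifford.classInner_indFun_indFun hα hα,
      Nat.card_congr (Equiv.subtypeUnivEquiv fun x => hinv x), ← N.index_mul_card, Nat.cast_mul,
      mul_comm (N.index : ℂ), inv_mul_cancel_left₀ (by exact_mod_cast Nat.card_pos.ne')]
  have hFc := CfsgLib.Char.isCharacter_indFun N (CfsgLib.Char.irr_isCharacter hφ)
  choose c hc using fun β : Cfsg.IrrCharacter G =>
    CfsgLib.Char.classInner_isCharacter_nat hFc (CfsgLib.Char.irr_isCharacter β.2)
  choose k hk using fun β β' : Cfsg.IrrCharacter G =>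
    CfsgLib.Char.classInner_isCharacter_nat
      (CfsgLib.Char.isCharacter_mul (CfsgLib.Char.irr_isCharacter β.2) (CfsgLib.Char.irr_isCharacter hχ))
      (CfsgLib.Char.isCharacter_mul (CfsgLib.Char.irr_isCharacter β'.2) (CfsgLib.Char.irr_isCharacter hχ))
  have hkpos : ∀ β, 1 ≤ k β β := fun β => Nat.one_le_iff_ne_zero.mpr fun h0 => by
    have h1 := congr_fun (CfsgLib.Char.classInner_self_eq_zero
      ((hk β β).trans (by rw [h0, Nat.cast_zero]))) 1
    rw [Pi.mul_apply, Pi.zero_apply, mul_eq_zero] at h1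
    exact h1.elim (CfsgLib.Char.irr_apply_one_ne_zero β.2) (CfsgLib.Char.irr_apply_one_ne_zero hχ)
  have hF : Cfsg.indFun N φ = ∑ β : Cfsg.IrrCharacter G, (c β : ℂ) • (β : G → ℂ) := by
    conv_lhs => rw [CfsgLib.Char.classFunction_eq_sum (CfsgLib.Char.indFun_isClassFunction N φ)]
    exact Finset.sum_congr rfl fun β _ => by rw [hc]
  have hP : Cfsg.indFun N (φ * ϑ) = ∑ β : Cfsg.IrrCharacter G, (c β : ℂ) • ((β : G → ℂ) * χ) := by
    have h1 := CfsgLib.Char.indFun_mul N φ (CfsgLib.Char.irr_isClassFunction hχ)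
    rw [show (fun h : N => χ h) = ϑ from funext hext] at h1
    rw [← h1, hF, Finset.sum_mul]
    exact Finset.sum_congr rfl fun β _ => smul_mul_assoc _ _ _
  have e1 : ∑ β, c β * c β = N.index := by
    have h1 := hnorm φ hφ hφ'
    rw [CfsgLib.Char.classInner_eq_sum_mul (CfsgLib.Char.indFun_isClassFunction N φ)] at h1
    simp only [hc, map_natCast] at h1
    exact_mod_cast h1
  have e2 : ∑ β, ∑ β', c β * c β' * k β β' = N.index := by
    have h1 := hnorm (φ * ϑ) hprod hpinv
    rw [hP, CfsgLib.Char.classInner_sum_left] at h1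
    simp only [CfsgLib.Char.classInner_smul_left, CfsgLib.Char.classInner_sum_right,
      CfsgLib.Char.classInner_smul_right, map_natCast, hk, ← mul_assoc] at h1
    have h1' : ∑ x, ∑ y, c y * c x * k x y = N.index := by exact_mod_cast h1
    rw [← h1']
    exact Finset.sum_congr rfl fun β _ => Finset.sum_congr rfl fun β' _ => by ring
  have hzero : ∀ β β', β ≠ β' → c β * c β' * k β β' = 0 := by
    intro β β' hne
    by_contra h0
    have hterm : ∀ a, c a * c a + (if a = β then c β * c β' * k β β' else 0) ≤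
        ∑ b, c a * c b * k a b := by
      intro a
      rw [← Finset.add_sum_erase _ _ (Finset.mem_univ a)]
      refine Nat.add_le_add (Nat.le_mul_of_pos_right _ (hkpos a)) ?_
      split_ifs with h
      · subst h
        exact Finset.single_le_sum (f := fun b => c a * c b * k a b) (fun _ _ => Nat.zero_le _)
          (Finset.mem_erase.mpr ⟨Ne.symm hne, Finset.mem_univ _⟩)
      · exact Nat.zero_le _
    have h2 := Finset.sum_le_sum (s := Finset.univ) fun a _ => hterm a
    rw [Finset.sum_add_distrib, e1, Finset.sum_ite_eq' Finset.univ β, if_pos (Finset.mem_univ β),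
      e2] at h2
    omega
  have hdiag : ∀ β, c β ≠ 0 → k β β = 1 := by
    intro β hβ
    have h1 : ∑ a, c a * c a * k a a = ∑ a, c a * c a := by
      rw [e1, ← e2]
      exact Finset.sum_congr rfl fun a _ => (Finset.sum_eq_single a
        (fun b _ hb => hzero a b (Ne.symm hb)) (by simp)).symm
    have h2 := ((Finset.sum_eq_sum_iff_of_le fun a _ =>
      Nat.le_mul_of_pos_right (c a * c a) (hkpos a)).mp h1.symm) β (Finset.mem_univ β)
    nlinarith [Nat.pos_of_ne_zero hβ, hkpos β]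
  have hc0 : ∀ β : Cfsg.IrrCharacter G, Cfsg.classInner (Cfsg.indFun N φ) β ≠ 0 ↔ c β ≠ 0 :=
    fun β => by rw [hc]; exact Nat.cast_ne_zero
  have hirr : ∀ β : Cfsg.IrrCharacter G, c β ≠ 0 → Cfsg.IsIrrCharacter G ((β : G → ℂ) * χ) :=
    fun β hβ => CfsgLib.Char.isIrrCharacter_iff.mpr ⟨CfsgLib.Char.isCharacter_mul
      (CfsgLib.Char.irr_isCharacter β.2) (CfsgLib.Char.irr_isCharacter hχ),
      by rw [hk, hdiag β hβ, Nat.cast_one]⟩
  have hval : ∀ β : Cfsg.IrrCharacter G, c β ≠ 0 →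
      Cfsg.classInner (Cfsg.indFun N (φ * ϑ)) ((β : G → ℂ) * χ) = c β := by
    intro β hβ
    rw [hP, CfsgLib.Char.classInner_sum_left, Finset.sum_eq_single β
      (fun a _ ha => by
        rw [CfsgLib.Char.classInner_smul_left, hk]
        rcases eq_or_ne (c a) 0 with h | h
        · simp [h]
        · have h3 := hzero a β ha
          simp only [mul_eq_zero, h, hβ, false_or] at h3
          simp [h3]) (by simp),
      CfsgLib.Char.classInner_smul_left, hk, hdiag β hβ, Nat.cast_one, mul_one]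
  refine ⟨?_, ?_, ?_⟩
  · rintro β ⟨hβ, hne⟩
    have h0 := (hc0 ⟨β, hβ⟩).mp hne
    refine ⟨hirr ⟨β, hβ⟩ h0, ?_⟩
    have h2 : Cfsg.classInner (Cfsg.indFun N (φ * ϑ)) (β * χ) = (c ⟨β, hβ⟩ : ℂ) := hval ⟨β, hβ⟩ h0
    rw [h2]
    exact Nat.cast_ne_zero.mpr h0
  · rintro β ⟨hβ, hne⟩ β' ⟨hβ', hne'⟩ heq
    by_contra hd
    have h0 := (hc0 ⟨β, hβ⟩).mp hne
    have h0' := (hc0 ⟨β', hβ'⟩).mp hne'
    have h3 := hzero ⟨β, hβ⟩ ⟨β', hβ'⟩ (fun h => hd (congr_arg Subtype.val h))
    simp only [mul_eq_zero, h0, h0', false_or] at h3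
    have h4 := hk ⟨β, hβ⟩ ⟨β', hβ'⟩
    rw [h3, Nat.cast_zero] at h4
    have h5 : Cfsg.classInner (β * χ) (β * χ) = 0 := by
      simp only at heq h4
      rwa [← heq] at h4
    have h6 := (hk ⟨β, hβ⟩ ⟨β, hβ⟩).symm.trans h5
    rw [hdiag _ h0, Nat.cast_one] at h6
    exact one_ne_zero h6
  · rintro ψ ⟨hψ, hne⟩
    by_contra hno
    apply hne
    rw [hP, CfsgLib.Char.classInner_sum_left]
    refine Finset.sum_eq_zero fun β _ => ?_
    rw [CfsgLib.Char.classInner_smul_left]
    rcases eq_or_ne (c β) 0 with h | h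
    · simp [h]
    · rw [CfsgLib.Char.irr_classInner_ne (hirr β h) hψ
        (fun he => hno ⟨β, ⟨β.2, (hc0 β).mpr h⟩, he⟩), mul_zero]

end Cfsg.Agent.S0856
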