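import Cfsg.Statements.S0858
import Cfsg.Agent.S0857
import Cfsg.Agent.Lib.Char.Monomial

set_option autoImplicit false
open Cfsg

namespace Cfsg.Agent.S0858

universe u

theorem indFun_top {G : Type*} [Group G] [Fintype G] {χ : G → ℂ} (hχ : Cfsg.IsClassFunction G χ) :
    Cfsg.indFun (⊤ : Subgroup G) (fun x : (⊤ : Subgroup G) => χ x) = χ := by
  funext g
  rw [CfsgLib.Char.indFun_def, Finset.sum_congr rfl (g := fun _ => χ g) fun x _ => by
    rw [CfsgLib.Char.extendByZero_of_mem _ (Subgroup.mem_top _)]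
    have := hχ g x⁻¹
    rw [inv_inv] at this
    exact this, Finset.sum_const, nsmul_eq_mul, Finset.card_univ, ← Nat.card_eq_fintype_card,
    Subgroup.card_top, ← mul_assoc, inv_mul_cancel₀ (Nat.cast_ne_zero.mpr Nat.card_pos.ne'), one_mul]

/-- The nonsquare condition on chief factors above `N`. -/
def NonsquareAbove {G : Type*} [Group G] (N : Subgroup G) : Prop :=
  ∀ (H K L : Subgroup G), N ≤ L → L < K → K ≤ H → (∀ h ∈ H, ∀ k ∈ K, h * k * h⁻¹ ∈ K) →
    (∀ h ∈ H, ∀ l ∈ L, h * l * h⁻¹ ∈ L) →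
    (∀ M : Subgroup G, L ≤ M → M ≤ K → (∀ h ∈ H, ∀ m ∈ M, h * m * h⁻¹ ∈ M) → M = L ∨ M = K) →
    ¬ IsSquare (L.relIndex K)

theorem NonsquareAbove.subgroupOf {G : Type*} [Group G] {N : Subgroup G} (hN : NonsquareAbove N)
    {T : Subgroup G} (hNT : N ≤ T) : NonsquareAbove (N.subgroupOf T) := by
  intro H K L hNL hLK hKH hK hL hM
  have hinj := T.subtype_injective
  have hconj : ∀ {A B : Subgroup T}, (∀ a ∈ A, ∀ b ∈ B, a * b * a⁻¹ ∈ B) →
      ∀ a ∈ A.map T.subtype, ∀ b ∈ B.map T.subtype, a * b * a⁻¹ ∈ B.map T.subtype := by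
    rintro A B h _ ⟨a, ha, rfl⟩ _ ⟨b, hb, rfl⟩
    exact ⟨a * b * a⁻¹, h a ha b hb, by simp⟩
  rw [← Subgroup.relIndex_map_map_of_injective L K hinj]
  refine hN (H.map T.subtype) (K.map T.subtype) (L.map T.subtype) ?_ ?_
    (Subgroup.map_mono hKH) (hconj hK) (hconj hL) fun M h1 h2 h3 => ?_
  · intro x hx
    exact ⟨⟨x, hNT hx⟩, hNL hx, rfl⟩
  · exact (Subgroup.map_lt_map_iff_of_injective hinj).mpr hLK
  · have hMe : (M.comap T.subtype).map T.subtype = M :=
      Subgroup.map_comap_eq_self (h2.trans ((Subgroup.map_subtype_le K).trans T.range_subtype.ge))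
    rcases hM (M.comap T.subtype) (fun x hx => h1 ⟨x, hx, rfl⟩) (fun x hx => by
        obtain ⟨y, hy, he⟩ := h2 hx
        rwa [← hinj he]) (fun a ha b hb => h3 _ ⟨a, ha, rfl⟩ _ hb) with h | h
    · exact Or.inl (by rw [← hMe, h])
    · exact Or.inr (by rw [← hMe, h])

open CfsgLib.Clifford CfsgLib.Char in
theorem main : ∀ (n m : ℕ) {G : Type u} [Group G] [Fintype G] (N : Subgroup G) [N.Normal],
    Nat.card G = n → N.index = m → Group.IsSolvable (G ⧸ N) → NonsquareAbove N →
    ∀ χ : G → ℂ, Cfsg.IsIrrCharacter G χ → ∃ (H : Subgroup G) (hNH : N ≤ H) (ψ : H → ℂ),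
      Cfsg.IsIrrCharacter H ψ ∧ Cfsg.indFun H ψ = χ ∧
        Cfsg.IsIrrCharacter N (fun n : N => ψ ⟨(n : G), hNH n.2⟩) := by
  intro n
  induction n using Nat.strong_induction_on with
  | _ n ihn =>
  intro m
  induction m using Nat.strong_induction_on with
  | _ m ihm =>
  intro G _ _ N _ hn hm hsol hns χ hχ
  classical
  have := hsol
  by_cases hNtop : N = ⊤
  · subst hNtop
    refine ⟨⊤, le_rfl, fun x => χ x, isIrrCharacter_comp_surjective hχ (Subgroup.topEquiv (G := G)).toMonoidHom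
      Subgroup.topEquiv.surjective, indFun_top (irr_isClassFunction hχ), ?_⟩
    exact isIrrCharacter_comp_surjective hχ (Subgroup.topEquiv (G := G)).toMonoidHom Subgroup.topEquiv.surjective
  -- recursion into a proper subgroup containing `N`
  have recurse : ∀ (T : Subgroup G) (hNT : N ≤ T) (ψ : T → ℂ), T ≠ ⊤ →
      Cfsg.IsIrrCharacter T ψ → Cfsg.indFun T ψ = χ →
      ∃ (H : Subgroup G) (hNH : N ≤ H) (ψ : H → ℂ), Cfsg.IsIrrCharacter H ψ ∧
        Cfsg.indFun H ψ = χ ∧ Cfsg.IsIrrCharacter N (fun n : N => ψ ⟨(n : G), hNH n.2⟩) := by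
    intro T hNT ψ hT hψ hind
    have : Fintype T := Fintype.ofFinite T
    have hlt : Nat.card T < n := hn ▸ lt_of_le_of_ne
      (Subgroup.card_le_card_group T) fun h => hT (Subgroup.eq_top_of_card_eq T h)
    have hs : Group.IsSolvable (T ⧸ N.subgroupOf T) := by
      refine Group.isSolvable_of_isSolvable_injective (f := QuotientGroup.map (N.subgroupOf T) N T.subtype
        fun x hx => hx) ((injective_iff_map_eq_one _).mpr fun a ha => ?_)
      obtain ⟨x, rfl⟩ := QuotientGroup.mk_surjective a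
      exact (QuotientGroup.eq_one_iff x).mpr ((QuotientGroup.eq_one_iff (x : G)).mp ha)
    obtain ⟨H, hH, φ, hφ, hφi, hφN⟩ := ihn _ hlt _ (N.subgroupOf T) rfl rfl hs (hns.subgroupOf hNT) ψ hψ
    let eH := Subgroup.equivMapOfInjective H T.subtype T.subtype_injective
    let eN : N ≃* N.subgroupOf T := (Subgroup.subgroupOfEquivOfLe hNT).symm
    refine ⟨H.map T.subtype, fun x hx => ⟨⟨x, hNT hx⟩, hH (eN ⟨x, hx⟩).2, rfl⟩, φ ∘ eH.symm,
      isIrrCharacter_comp_surjective hφ eH.symm.toMonoidHom eH.symm.surjective, ?_, ?_⟩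
    · rw [← indFun_map_subtype T H φ, hφi, hind]
    · convert isIrrCharacter_comp_surjective hφN eN.toMonoidHom eN.surjective using 1
      funext x
      refine congr_arg φ (eH.injective ?_)
      rw [MulEquiv.apply_symm_apply]
      exact Subtype.ext rfl
  -- a chief factor just above `N`
  have hex : ∃ K : Subgroup G, K.Normal ∧ N < K ∧
      ∀ M : Subgroup G, M.Normal → N ≤ M → M ≤ K → M = N ∨ M = K := by
    obtain ⟨K, hK⟩ := Set.Finite.exists_minimal (Set.toFinite {K : Subgroup G | K.Normal ∧ N < K})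
      ⟨⊤, inferInstance, lt_top_iff_ne_top.mpr hNtop⟩
    refine ⟨K, hK.1.1, hK.1.2, fun M hM h1 h2 => ?_⟩
    by_cases h : M = N
    · exact Or.inl h
    · exact Or.inr (le_antisymm h2 (hK.2 ⟨hM, lt_of_le_of_ne h1 (Ne.symm h)⟩ h2))
  obtain ⟨K, hKn, hNK, hchief⟩ := hex
  have : Fintype K := Fintype.ofFinite K
  have habNK : ⁅K, K⁆ ≤ N := by
    rcases hchief (⁅K, K⁆ ⊔ N) inferInstance le_sup_right
      (sup_le (Subgroup.commutator_le_self K) hNK.le) with h | h
    · exact h ▸ le_sup_left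
    · exfalso
      set Kq := K.map (QuotientGroup.mk' N)
      have h1 : ⁅Kq, Kq⁆ = Kq := by
        conv_rhs => rw [show Kq = (⁅K, K⁆ ⊔ N).map (QuotientGroup.mk' N) by rw [h]]
        rw [Subgroup.map_sup, Subgroup.map_commutator,
          show N.map (QuotientGroup.mk' N) = ⊥ by
            rw [Subgroup.map_eq_bot_iff, QuotientGroup.ker_mk'], sup_bot_eq]
      refine (Group.IsSolvable.commutator_lt_of_ne_bot (G := G ⧸ N) (H := Kq) ?_).ne h1
      rw [Ne, Subgroup.map_eq_bot_iff, QuotientGroup.ker_mk']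
      exact fun h2 => hNK.not_ge h2
  obtain ⟨ϑ, hϑ, hcon⟩ := exists_irr_constituent_restrict (N := K) hχ
  by_cases hT : inertia ϑ = ⊤
  swap
  · obtain ⟨ψ, hψ, hind, -⟩ := exists_indFun_inertia (inertia ϑ) (le_inertia (irr_isClassFunction hϑ))
      hϑ (fun g => mem_inertia_iff_conjFn) hχ hcon
    exact recurse _ (hNK.le.trans (le_inertia (irr_isClassFunction hϑ))) ψ hT hψ hind
  -- `ϑ` invariant: first use the result for `K`
  have hlt : K.index < m := hm ▸ Subgroup.index_strictAnti hNK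
  have hsK : Group.IsSolvable (G ⧸ K) := Group.isSolvable_of_surjective
    (f := QuotientGroup.map N K (MonoidHom.id G) hNK.le) fun a => by
      obtain ⟨x, rfl⟩ := QuotientGroup.mk_surjective a
      exact ⟨QuotientGroup.mk x, rfl⟩
  obtain ⟨H, hKH, ψ, hψ, hψi, hψK⟩ := ihm _ hlt K hn rfl hsK
    (fun H' K' L' h1 => hns H' K' L' (hNK.le.trans h1)) χ hχ
  by_cases hH : H = ⊤
  swap
  · exact recurse H (hNK.le.trans hKH) ψ hH hψ hψi
  subst hH
  have hψχ : ∀ x : (⊤ : Subgroup G), ψ x = χ x := fun x => by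
    have h : Cfsg.indFun (⊤ : Subgroup G) ψ = fun g => ψ ⟨g, trivial⟩ :=
      indFun_top (χ := fun g => ψ ⟨g, trivial⟩) fun a b =>
        irr_isClassFunction hψ ⟨a, trivial⟩ ⟨b, trivial⟩
    exact congr_fun (h.symm.trans hψi) (x : G)
  have hirrK : Cfsg.IsIrrCharacter K (fun k : K => χ k) := by
    convert hψK using 2 with k
    exact (hψχ ⟨(k : G), hKH k.2⟩).symm
  have hinvK : ∀ (g : G) (k : K), χ ((⟨g * k * g⁻¹, hKn.conj_mem (k : G) k.2 g⟩ : K) : G) = χ k :=
    fun g k => irr_isClassFunction hχ k g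
  rcases Cfsg.Agent.S0857.result K N hNK hchief habNK (fun k : K => χ k) hirrK hinvK with
    h | ⟨φ, e, hφ, hres, he⟩ | ⟨F, hF, hFc, hFs⟩
  · exact ⟨⊤, le_top, fun x => χ x, isIrrCharacter_comp_surjective hχ (Subgroup.topEquiv (G := G)).toMonoidHom
      Subgroup.topEquiv.surjective, indFun_top (irr_isClassFunction hχ), h⟩
  · exfalso
    refine hns ⊤ K N le_rfl hNK le_top (fun h _ k hk => hKn.conj_mem k hk h)
      (fun h _ l hl => ‹N.Normal›.conj_mem l hl h) (fun M h1 h2 h3 => hchief M ⟨fun x hx g =>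
        h3 g trivial x hx⟩ h1 h2) ⟨e, by rw [← he]; ring⟩
  · -- sum of distinct conjugates
    have h2 : 2 ≤ F.card := by
      rw [hFc]
      by_contra hlt2
      interval_cases hr : N.relIndex K
      · exact Subgroup.index_ne_zero_of_finite (H := N.subgroupOf K) hr
      · exact hNK.not_ge (Subgroup.relIndex_eq_one.mp hr)
    obtain ⟨φ, hφF, φ', hφ'F, hne⟩ := Finset.one_lt_card.mp h2
    have : Fintype N := Fintype.ofFinite N
    have hinner : ∀ φ ∈ F, Cfsg.classInner (fun n : N => χ n) φ = 1 := by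
      intro φ hφF
      rw [show (fun n : N => χ n) = ∑ φ ∈ F, φ from hFs, classInner_sum_left,
        Finset.sum_eq_single φ (fun b hb hbne => irr_classInner_ne (hF b hb) (hF φ hφF) hbne)
          (fun h => absurd hφF h), irr_classInner_self (hF φ hφF)]
    have hTne : inertia φ ≠ ⊤ := by
      intro hTtop
      obtain ⟨g, hg⟩ := exists_conj_of_constituents hχ (hF φ hφF) (hF φ' hφ'F)
        (by rw [hinner φ hφF]; exact one_ne_zero) (by rw [hinner φ' hφ'F]; exact one_ne_zero)
      exact hne ((mem_inertia_iff_conjFn.mp (hTtop ▸ Subgroup.mem_top g)).symm.trans hg)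
    obtain ⟨ψ', hψ', hind', -⟩ := exists_indFun_inertia (inertia φ)
      (le_inertia (irr_isClassFunction (hF φ hφF))) (hF φ hφF) (fun g => mem_inertia_iff_conjFn) hχ
      (by rw [hinner φ hφF]; exact one_ne_zero)
    exact recurse _ (le_inertia (irr_isClassFunction (hF φ hφF))) ψ' hTne hψ' hind'

/-- Let N be a normal subgroup of the finite group G with G / N solvable, and suppose that for every subgroup H containing N and all subgroups L < K between N and H that are normal in H with no subgroup normal in H strictly between them, the index of L in K is not a perfect square. Then every irreducible character χ of G is induced from an irreducible character ψ of some subgroup H containing N such that the restriction of ψ to N is irreducible. -/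
theorem result {G : Type*} [Group G] [Fintype G] (N : Subgroup G) [N.Normal] (hsolv : Group.IsSolvable (G ⧸ N)) (hchief : ∀ (H K L : Subgroup G), N ≤ L → L < K → K ≤ H → (∀ h ∈ H, ∀ k ∈ K, h * k * h⁻¹ ∈ K) → (∀ h ∈ H, ∀ l ∈ L, h * l * h⁻¹ ∈ L) → (∀ M : Subgroup G, L ≤ M → M ≤ K → (∀ h ∈ H, ∀ m ∈ M, h * m * h⁻¹ ∈ M) → M = L ∨ M = K) → ¬ IsSquare (L.relIndex K)) (χ : G → ℂ) (hχ : Cfsg.IsIrrCharacter G χ) : ∃ (H : Subgroup G) (hNH : N ≤ H) (ψ : H → ℂ), Cfsg.IsIrrCharacter H ψ ∧ Cfsg.indFun H ψ = χ ∧ Cfsg.IsIrrCharacter N (fun n : N => ψ ⟨(n : G), hNH n.2⟩) := by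
  exact main _ _ N rfl rfl hsolv hchief χ hχ

end Cfsg.Agent.S0858
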