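import Cfsg.Statements.S0859
import Cfsg.Agent.S0858
import Cfsg.Agent.Lib.Char.Monomial
import Cfsg.Agent.Lib.Solvable.HallHigman
import Cfsg.Agent.Lib.Clifford.Constituents

set_option autoImplicit false
open Cfsg

namespace Cfsg.Agent.S0859

universe u

/-- All `p`-subgroups are commutative. -/
def AbelianPSubgroups (G : Type*) [Group G] : Prop :=
  ∀ (p : ℕ) [Fact p.Prime] (Q : Subgroup G), IsPGroup p Q → ∀ a ∈ Q, ∀ b ∈ Q, a * b = b * a

theorem AbelianPSubgroups.of_injective {G H : Type*} [Group G] [Group H] (h : AbelianPSubgroups G)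
    (f : H →* G) (hf : Function.Injective f) : AbelianPSubgroups H := by
  intro p _ Q hQ a ha b hb
  refine hf ?_
  rw [map_mul, map_mul]
  exact h p (Q.map f) (hQ.map f) _ ⟨a, ha, rfl⟩ _ ⟨b, hb, rfl⟩

theorem AbelianPSubgroups.of_surjective {G H : Type*} [Group G] [Finite G] [Group H]
    (h : AbelianPSubgroups G) (f : G →* H) (hf : Function.Surjective f) : AbelianPSubgroups H := by
  have : Finite H := Finite.of_surjective f hf
  intro p _ Q hQ a ha b hb
  obtain ⟨R, hR⟩ := hQ.exists_le_sylow
  obtain ⟨P, hP⟩ := Sylow.mapSurjective_surjective hf p R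
  have ha' := hR ha
  have hb' := hR hb
  rw [← hP] at ha' hb'
  obtain ⟨x, hx, rfl⟩ := ha'
  obtain ⟨y, hy, rfl⟩ := hb'
  rw [← map_mul, ← map_mul, h p P.1 P.2 x hx y hy]

theorem AbelianPSubgroups.comm_of_isNilpotent {G : Type*} [Group G] [Finite G]
    (h : AbelianPSubgroups G) (hn : Group.IsNilpotent G) (a b : G) : a * b = b * a := by
  obtain ⟨e⟩ := (Group.isNilpotent_of_finite_tfae.out 0 4 rfl rfl).mp hn
  refine e.symm.injective (funext fun p => funext fun P => Subtype.ext ?_)
  have := Fact.mk (Nat.prime_of_mem_primeFactors p.2)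
  rw [map_mul, map_mul]
  exact h p P.1 P.2 _ (e.symm a p P).2 _ (e.symm b p P).2

open CfsgLib.Clifford CfsgLib.Char in
/-- A character inducing to an irreducible character is irreducible. -/
theorem isIrr_of_indFun {G : Type u} [Group G] [Fintype G] (T : Subgroup G) [Fintype T] {η : T → ℂ}
    (hη : Cfsg.IsCharacter T η) (h : Cfsg.IsIrrCharacter G (Cfsg.indFun T η)) :
    Cfsg.IsIrrCharacter T η := by
  have hη0 : η ≠ 0 := fun h0 => irr_apply_one_ne_zero h (by
    rw [indFun_apply_one, h0, Pi.zero_apply, mul_zero])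
  obtain ⟨μ, hμ, hμη⟩ := exists_irr_constituent hη hη0
  obtain ⟨R, hR, rfl⟩ := exists_add_of_constituent hη hμ hμη
  rw [indFun_add] at h
  obtain ⟨i, hi⟩ := classInner_isCharacter_nat (isCharacter_indFun T (irr_isCharacter hμ))
    (irr_isCharacter h)
  obtain ⟨j, hj⟩ := classInner_isCharacter_nat (isCharacter_indFun T hR) (irr_isCharacter h)
  have h1 := irr_classInner_self h
  rw [classInner_add_left, hi, hj] at h1
  have hij : i + j = 1 := by exact_mod_cast h1
  obtain ⟨a, ha⟩ := classInner_isCharacter_nat (isCharacter_indFun T hR) (isCharacter_indFun T hR)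
  obtain ⟨b, hb⟩ := classInner_isCharacter_nat (isCharacter_indFun T hR)
    (isCharacter_indFun T (irr_isCharacter hμ))
  rw [classInner_add_right, hb, ha] at hj
  obtain ⟨c, hc⟩ := classInner_isCharacter_nat (isCharacter_indFun T (irr_isCharacter hμ))
    (isCharacter_indFun T (irr_isCharacter hμ))
  obtain ⟨d, hd⟩ := classInner_isCharacter_nat (isCharacter_indFun T (irr_isCharacter hμ))
    (isCharacter_indFun T hR)
  rw [classInner_add_right, hc, hd] at hi
  have hj' : b + a = j := by exact_mod_cast hj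
  have hi' : c + d = i := by exact_mod_cast hi
  have hc0 : c ≠ 0 := fun h0 => by
    have := congr_fun (classInner_self_eq_zero (hc.trans (by rw [h0, Nat.cast_zero]))) 1
    rw [indFun_apply_one, Pi.zero_apply, mul_eq_zero] at this
    exact this.elim (by exact_mod_cast Subgroup.index_ne_zero_of_finite)
      (irr_apply_one_ne_zero hμ)
  have ha0 : a = 0 := by omega
  have hR1 : R 1 = 0 := by
    have := congr_fun (classInner_self_eq_zero (ha.trans (by rw [ha0, Nat.cast_zero]))) 1
    rw [indFun_apply_one, Pi.zero_apply, mul_eq_zero] at this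
    exact this.resolve_left (by exact_mod_cast Subgroup.index_ne_zero_of_finite)
  have hR0 : R = 0 := by
    obtain ⟨n, ρ, rfl⟩ := hR
    rw [char_eq_zero_iff]
    rw [Representation.char_one, Nat.cast_eq_zero] at hR1
    exact hR1
  rw [hR0, add_zero]
  exact hμ

open CfsgLib.Char in
/-- Mackey's formula when the two subgroups cover the group. -/
theorem indFun_restrict_of_sup {G : Type u} [Group G] [Fintype G] (T N : Subgroup G) [N.Normal]
    [Fintype T] [Fintype N] (htop : N ⊔ T = ⊤) {η : T → ℂ} (hη : Cfsg.IsClassFunction T η) (n : N) :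
    Cfsg.indFun T η n = Cfsg.indFun (T.subgroupOf N)
      (fun x : T.subgroupOf N => η ⟨((x : N) : G), Subgroup.mem_subgroupOf.mp x.2⟩) n := by
  classical
  set θ : T.subgroupOf N → ℂ := fun x => η ⟨((x : N) : G), Subgroup.mem_subgroupOf.mp x.2⟩
  have hext : ∀ (m : N) (t : T), Cfsg.extendByZero T η (((m : G) * t)⁻¹ * n * ((m : G) * t)) =
      Cfsg.extendByZero (T.subgroupOf N) θ (m⁻¹ * n * m) := by
    intro m t
    have e : ((m : G) * t)⁻¹ * n * ((m : G) * t) = (t : G)⁻¹ * ((m⁻¹ * n * m : N) : G) * t := by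
      push_cast; group
    rw [e]
    by_cases hy : ((m⁻¹ * n * m : N) : G) ∈ T
    · rw [extendByZero_of_mem η (T.mul_mem (T.mul_mem (T.inv_mem t.2) hy) t.2),
        extendByZero_of_mem θ (Subgroup.mem_subgroupOf.mpr hy)]
      have h1 := hη ⟨_, hy⟩ t⁻¹
      rw [inv_inv] at h1
      exact h1
    · rw [extendByZero_of_not_mem η, extendByZero_of_not_mem θ fun h => hy (Subgroup.mem_subgroupOf.mp h)]
      intro h
      refine hy ?_
      have := T.mul_mem (T.mul_mem t.2 h) (T.inv_mem t.2)
      simpa [mul_assoc] using this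
  have hcard : ∀ x : G, (Finset.univ.filter fun p : N × T => (p.1 : G) * p.2 = x).card =
      Nat.card (T.subgroupOf N) := by
    intro x
    have hx : x ∈ ((N ⊔ T : Subgroup G) : Set G) := by rw [htop]; trivial
    rw [Subgroup.normal_mul] at hx
    obtain ⟨m0, hm0, t0, ht0, rfl⟩ := hx
    rw [← Nat.card_eq_finsetCard]
    refine Nat.card_congr
      { toFun := fun p => ⟨⟨m0, hm0⟩⁻¹ * p.1.1, ?_⟩
        invFun := fun k => ⟨(⟨m0, hm0⟩ * (k : N),
          ⟨((k : N) : G)⁻¹ * t0, T.mul_mem (T.inv_mem (Subgroup.mem_subgroupOf.mp k.2)) ht0⟩), ?_⟩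
        left_inv := ?_
        right_inv := fun k => Subtype.ext (by simp) }
    · have h := (Finset.mem_filter.mp p.2).2
      change (p.1.1 : G) * p.1.2 = m0 * t0 at h
      rw [Subgroup.mem_subgroupOf]
      show m0⁻¹ * (p.1.1 : G) ∈ T
      rw [show m0⁻¹ * (p.1.1 : G) = t0 * (p.1.2 : G)⁻¹ by
        calc _ = m0⁻¹ * ((p.1.1 : G) * p.1.2) * (p.1.2 : G)⁻¹ := by group
          _ = _ := by rw [h]; group]
      exact T.mul_mem ht0 (T.inv_mem p.1.2.2)
    · simp only [Finset.mem_filter, Finset.mem_univ, true_and]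
      show (m0 * ((k : N) : G)) * (((k : N) : G)⁻¹ * t0) = m0 * t0
      group
    · rintro ⟨⟨a, b⟩, hp⟩
      have h := (Finset.mem_filter.mp hp).2
      change (a : G) * b = m0 * t0 at h
      refine Subtype.ext (Prod.ext (Subtype.ext (by simp)) (Subtype.ext ?_))
      show (m0⁻¹ * (a : G))⁻¹ * t0 = b
      calc _ = (a : G)⁻¹ * (m0 * t0) := by group
        _ = b := by rw [← h]; group
  have hsum : (Nat.card (T.subgroupOf N) : ℂ) *
      ∑ x : G, Cfsg.extendByZero T η (x⁻¹ * n * x) =
        (Nat.card T : ℂ) * ∑ m : N, Cfsg.extendByZero (T.subgroupOf N) θ (m⁻¹ * n * m) := by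
    rw [Finset.mul_sum, Finset.sum_congr rfl (g := fun x => ∑ p ∈ Finset.univ.filter
      (fun p : N × T => (p.1 : G) * p.2 = x), Cfsg.extendByZero T η (x⁻¹ * n * x)) fun x _ => by
        rw [Finset.sum_const, hcard, nsmul_eq_mul],
      Finset.sum_congr rfl (g := fun x => ∑ p ∈ Finset.univ.filter
      (fun p : N × T => (p.1 : G) * p.2 = x),
        Cfsg.extendByZero (T.subgroupOf N) θ (p.1⁻¹ * n * p.1)) fun x _ =>
        Finset.sum_congr rfl fun p hp => by
          rw [← (Finset.mem_filter.mp hp).2]; exact hext _ _,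
      Finset.sum_fiberwise Finset.univ (fun p : N × T => (p.1 : G) * p.2)
        (fun p => Cfsg.extendByZero (T.subgroupOf N) θ (p.1⁻¹ * n * p.1)),
      Fintype.sum_prod_type, Finset.mul_sum]
    exact Finset.sum_congr rfl fun m _ => by
      dsimp only
      rw [Finset.sum_const, nsmul_eq_mul, Finset.card_univ, ← Nat.card_eq_fintype_card]
  rw [indFun_def, indFun_def]
  have h1 : (Nat.card T : ℂ) ≠ 0 := Nat.cast_ne_zero.mpr Nat.card_pos.ne'
  have h2 : (Nat.card (T.subgroupOf N) : ℂ) ≠ 0 := Nat.cast_ne_zero.mpr Nat.card_pos.ne'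
  field_simp
  linear_combination hsum

open CfsgLib.Clifford CfsgLib.Char in
theorem monomial : ∀ (n : ℕ) {G : Type u} [Group G] [Fintype G] (N : Subgroup G) [N.Normal],
    Nat.card G = n → Group.IsSolvable N → AbelianPSubgroups N →
    ∀ ψ : G → ℂ, Cfsg.IsIrrCharacter G ψ → Cfsg.IsIrrCharacter N (fun x : N => ψ x) →
      ∃ (U : Subgroup G) (lam : U → ℂ), Cfsg.IsCharacter U lam ∧ lam 1 = 1 ∧
        Cfsg.indFun U lam = ψ := by
  intro n
  induction n using Nat.strong_induction_on with
  | _ n ih =>
  intro G _ _ N hNn hn hsol hab ψ hψ hψN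
  classical
  have : Fintype N := Fintype.ofFinite N
  obtain ⟨m, ρ, hρ, rfl⟩ := id hψ
  -- the Fitting subgroup of the image of `N`
  set π := QuotientGroup.mk' (MonoidHom.ker ρ : Subgroup G)
  set Nq := N.map π
  have hNqn : Nq.Normal := hNn.map π (QuotientGroup.mk'_surjective _)
  have habq : AbelianPSubgroups Nq := hab.of_surjective (π.subgroupMap N) (π.subgroupMap_surjective N)
  have hsolq : Group.IsSolvable Nq := Group.isSolvable_of_surjective (π.subgroupMap_surjective N)
  set F := Cfsg.fittingSubgroup Nq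
  have hFch : F.Characteristic := CfsgLib.Solvable.fittingSubgroup_characteristic Nq
  set F' := F.map Nq.subtype
  have hF'n : F'.Normal := ConjAct.normal_of_characteristic_of_normal
  set B := N ⊓ F'.comap π
  have hBn : B.Normal := Subgroup.normal_inf_normal N (F'.comap π)
  have hker : ∀ a b : G, π a = π b → ρ a = ρ b := by
    intro a b h
    have h1 : ρ (b⁻¹ * a) = 1 := by
      rw [← MonoidHom.mem_ker]
      exact (QuotientGroup.eq.mp h.symm)
    rw [show a = b * (b⁻¹ * a) by group, map_mul, h1, mul_one]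
  have hFcomm : ∀ x ∈ F', ∀ y ∈ F', x * y = y * x := by
    rintro _ ⟨x, hx, rfl⟩ _ ⟨y, hy, rfl⟩
    have h1 := (habq.of_injective F.subtype F.subtype_injective).comm_of_isNilpotent
      CfsgLib.Solvable.fittingSubgroup_isNilpotent ⟨x, hx⟩ ⟨y, hy⟩
    rw [← map_mul, ← map_mul]
    exact congr_arg Nq.subtype (congr_arg Subtype.val h1)
  have hBcomm : ∀ a ∈ B, ∀ b ∈ B, ρ a * ρ b = ρ b * ρ a := fun a ha b hb => by
    rw [← map_mul, ← map_mul]
    exact hker _ _ (by rw [map_mul, map_mul]; exact hFcomm _ ha.2 _ hb.2)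
  by_cases hs : ∀ a ∈ B, ∃ ω : ℂ, ρ a = ω • (LinearMap.id : (Fin m → ℂ) →ₗ[ℂ] (Fin m → ℂ))
  · -- the scalar case: `N` has scalar image
    have hcen : ∀ x ∈ F', ∀ y ∈ Nq, x * y = y * x := by
      intro x hx y hy
      obtain ⟨⟨x', hx'⟩, hxF, rfl⟩ := hx
      obtain ⟨a, ha, rfl⟩ := hx'
      obtain ⟨b, -, rfl⟩ := hy
      obtain ⟨ω, hω⟩ := hs a ⟨ha, ⟨_, hxF, rfl⟩⟩
      show π a * π b = π b * π a
      rw [← map_mul, ← map_mul]
      refine QuotientGroup.eq.mpr ?_
      rw [MonoidHom.mem_ker]
      have h1 : ρ (b * a) = ρ (a * b) := by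
        ext v; simp [map_mul, hω]
      rw [map_mul, h1, ← map_mul, inv_mul_cancel, map_one]
    have hFtop : F = ⊤ := by
      refine top_le_iff.mp (le_trans ?_ CfsgLib.Solvable.centralizer_fittingSubgroup_le)
      intro y _
      rw [Subgroup.mem_centralizer_iff]
      intro x hx
      exact Subtype.ext (hcen x ⟨x, hx, rfl⟩ y y.2)
    have hNs : ∀ a : N, ∃ ω : ℂ, (ρ.comp N.subtype : Representation ℂ N (Fin m → ℂ)) a =
        ω • (LinearMap.id : (Fin m → ℂ) →ₗ[ℂ] (Fin m → ℂ)) := fun a =>
      hs a ⟨a.2, by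
        refine ⟨⟨π a, ⟨a, a.2, rfl⟩⟩, ?_, rfl⟩
        show _ ∈ F
        rw [hFtop]; trivial⟩
    have := CfsgLib.Clifford.isIrreducible_of_classInner_self (ρ.comp N.subtype : Representation ℂ N (Fin m → ℂ))
      (irr_classInner_self hψN)
    have h1 := finrank_eq_one_of_scalar (ρ.comp N.subtype : Representation ℂ N (Fin m → ℂ)) hNs
    refine ⟨⊤, fun x => ρ.character x, isCharacter_restrict (irr_isCharacter hψ) ⊤, ?_,
      Cfsg.Agent.S0858.indFun_top (irr_isClassFunction hψ)⟩
    show ρ.character ((1 : (⊤ : Subgroup G)) : G) = 1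
    rw [Subgroup.coe_one, Representation.char_one, h1, Nat.cast_one]
  · obtain ⟨T, η, -, hT, hη, he⟩ := exists_induced_of_not_scalar ρ B hBn hBcomm hs
    have : Fintype T := Fintype.ofFinite T
    -- `T` covers the quotient
    have htop : N ⊔ T = ⊤ := by
      by_contra hne
      set M := N ⊔ T
      have : Fintype M := Fintype.ofFinite M
      set ξ : M → ℂ := Cfsg.indFun (T.subgroupOf M)
        (fun x => η ⟨((x : M) : G), Subgroup.mem_subgroupOf.mp x.2⟩)
      have hξc : Cfsg.IsCharacter M ξ := isCharacter_indFun _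
        (irr_isCharacter (isIrrCharacter_comp_surjective hη
          (Subgroup.subgroupOfEquivOfLe (le_sup_right : T ≤ M)).toMonoidHom
          (Subgroup.subgroupOfEquivOfLe _).surjective))
      have hξi : Cfsg.indFun M ξ = ρ.character := (indFun_trans T M le_sup_right η).trans he.symm
      have hξirr := isIrr_of_indFun M hξc (hξi ▸ hψ)
      have hne0 : Cfsg.classInner (fun x : M => ρ.character x) ξ ≠ 0 := by
        rw [← classInner_conj_symm, ← frobenius_reciprocity M ξ _ (irr_isClassFunction hψ), hξi,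
          irr_classInner_self hψ, map_one]
        exact one_ne_zero
      obtain ⟨R, hR, hRe⟩ := exists_add_of_constituent (isCharacter_restrict (irr_isCharacter hψ) M)
        hξirr hne0
      have h1 := irr_classInner_self hψN
      let inc : N →* M := Subgroup.inclusion le_sup_left
      rw [show (fun x : N => ρ.character x) = ξ ∘ inc + R ∘ inc from
        funext fun x => congr_fun hRe (inc x), classInner_add_left] at h1
      obtain ⟨i, hi⟩ := classInner_isCharacter_nat (isCharacter_comp hξc inc)
        (isCharacter_add (isCharacter_comp hξc inc) (isCharacter_comp hR inc))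
      obtain ⟨j, hj⟩ := classInner_isCharacter_nat (isCharacter_comp hR inc)
        (isCharacter_add (isCharacter_comp hξc inc) (isCharacter_comp hR inc))
      rw [hi, hj] at h1
      obtain ⟨a, ha⟩ := classInner_isCharacter_nat (isCharacter_comp hξc inc) (isCharacter_comp hξc inc)
      obtain ⟨b, hb⟩ := classInner_isCharacter_nat (isCharacter_comp hξc inc) (isCharacter_comp hR inc)
      obtain ⟨c, hc⟩ := classInner_isCharacter_nat (isCharacter_comp hR inc) (isCharacter_comp hξc inc)
      obtain ⟨d, hd⟩ := classInner_isCharacter_nat (isCharacter_comp hR inc) (isCharacter_comp hR inc)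
      rw [classInner_add_right, ha, hb] at hi
      rw [classInner_add_right, hc, hd] at hj
      have hi' : a + b = i := by exact_mod_cast hi
      have hj' : c + d = j := by exact_mod_cast hj
      have hij : i + j = 1 := by exact_mod_cast h1
      have ha0 : a ≠ 0 := fun h0 => irr_apply_one_ne_zero hξirr (by
        have := congr_fun (classInner_self_eq_zero (ha.trans (by rw [h0, Nat.cast_zero]))) 1
        simpa using this)
      have hd0 : d = 0 := by omega
      have hR1 : R 1 = 0 := by
        have := congr_fun (classInner_self_eq_zero (hd.trans (by rw [hd0, Nat.cast_zero]))) 1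
        simpa using this
      have h2 := congr_fun hξi 1
      have h3 : ρ.character 1 = ξ 1 + R 1 := congr_fun hRe 1
      rw [indFun_apply_one, h3, hR1, add_zero] at h2
      have h4 : (M.index : ℂ) = 1 :=
        mul_right_cancel₀ (irr_apply_one_ne_zero hξirr) (h2.trans (one_mul _).symm)
      exact hne (Subgroup.index_eq_one.mp (by exact_mod_cast h4))
    let N' := N.subgroupOf T
    have : N'.Normal := inferInstanceAs (N.subgroupOf T).Normal
    let ι : N' →* N := MonoidHom.mk' (fun x => ⟨((x : T) : G), x.2⟩) fun a b => rfl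
    have hιinj : Function.Injective ι := fun a b h =>
      Subtype.ext (Subtype.ext (congr_arg Subtype.val h :))
    have : Fintype (T.subgroupOf N) := Fintype.ofFinite _
    have hres : Cfsg.IsIrrCharacter (T.subgroupOf N)
        (fun x : T.subgroupOf N => η ⟨((x : N) : G), Subgroup.mem_subgroupOf.mp x.2⟩) := by
      refine isIrr_of_indFun _ ?_ ?_
      · exact isCharacter_comp (irr_isCharacter hη) (MonoidHom.mk' (fun x : T.subgroupOf N =>
          (⟨((x : N) : G), Subgroup.mem_subgroupOf.mp x.2⟩ : T)) fun a b => rfl)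
      · convert hψN using 1
        funext x
        rw [← indFun_restrict_of_sup T N htop (irr_isClassFunction hη), he]
    have hres' : Cfsg.IsIrrCharacter N' (fun x : N' => η x) := by
      let e : N' ≃* T.subgroupOf N :=
        { toFun := fun x => ⟨⟨((x : T) : G), x.2⟩, (x : T).2⟩
          invFun := fun x => ⟨⟨((x : N) : G), x.2⟩, (x : N).2⟩
          left_inv := fun x => rfl
          right_inv := fun x => rfl
          map_mul' := fun x y => rfl }
      exact isIrrCharacter_comp_surjective hres e.toMonoidHom e.surjective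
    obtain ⟨U, lam, hlam, hl1, hlU⟩ := ih _ (hn ▸ lt_of_le_of_ne (Subgroup.card_le_card_group T)
      fun h => hT (Subgroup.eq_top_of_card_eq T h)) N' rfl
      (Group.isSolvable_of_isSolvable_injective hιinj) (hab.of_injective ι hιinj) η hη hres'
    let eU := Subgroup.equivMapOfInjective U T.subtype T.subtype_injective
    refine ⟨U.map T.subtype, lam ∘ eU.symm, isCharacter_comp hlam eU.symm.toMonoidHom, ?_, ?_⟩
    · rw [Function.comp_apply, map_one, hl1]
    · rw [← indFun_map_subtype T U lam, hlU, he]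

/-- Let G be a finite solvable group and N a normal subgroup such that for every prime p every Sylow p-subgroup of N is abelian. Suppose every irreducible character of G is induced from an irreducible character of some subgroup containing N whose restriction to N is irreducible. Then every irreducible character of G is induced from a character of degree 1 of some subgroup. -/
theorem result {G : Type*} [Group G] [Fintype G] [Group.IsSolvable G] (N : Subgroup G) [N.Normal] (hab : ∀ (p : ℕ) [Fact p.Prime] (P : Sylow p N), ∀ a ∈ P, ∀ b ∈ P, a * b = b * a) (hrel : ∀ χ : G → ℂ, Cfsg.IsIrrCharacter G χ → ∃ (H : Subgroup G) (hNH : N ≤ H) (ψ : H → ℂ), Cfsg.IsIrrCharacter H ψ ∧ Cfsg.indFun H ψ = χ ∧ Cfsg.IsIrrCharacter N (fun n : N => ψ ⟨(n : G), hNH n.2⟩)) (χ : G → ℂ) (hχ : Cfsg.IsIrrCharacter G χ) : ∃ (U : Subgroup G) (lam : U → ℂ), Cfsg.IsCharacter U lam ∧ lam 1 = 1 ∧ Cfsg.indFun U lam = χ := by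
  classical
  have habN : AbelianPSubgroups N := fun p _ Q hQ a ha b hb => by
    obtain ⟨P, hP⟩ := hQ.exists_le_sylow
    exact hab p P a (hP ha) b (hP hb)
  obtain ⟨H, hNH, ψ, hψ, hind, hres⟩ := hrel χ hχ
  have : Fintype H := Fintype.ofFinite H
  let e : N.subgroupOf H ≃* N := Subgroup.subgroupOfEquivOfLe hNH
  have hres' : Cfsg.IsIrrCharacter (N.subgroupOf H) (fun x : N.subgroupOf H => ψ x) :=
    CfsgLib.Char.isIrrCharacter_comp_surjective hres e.toMonoidHom e.surjective
  obtain ⟨U, lam, hl, hl1, hlU⟩ := monomial _ (N.subgroupOf H) rfl inferInstance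
    (habN.of_injective e.toMonoidHom e.injective) ψ hψ hres'
  let eU := Subgroup.equivMapOfInjective U H.subtype H.subtype_injective
  refine ⟨U.map H.subtype, lam ∘ eU.symm, CfsgLib.Char.isCharacter_comp hl eU.symm.toMonoidHom, ?_, ?_⟩
  · rw [Function.comp_apply, map_one, hl1]
  · rw [← CfsgLib.Char.indFun_map_subtype H U lam, hlU, hind]

end Cfsg.Agent.S0859
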