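import Cfsg.Statements.S0860
import Mathlib
import Cfsg.Agent.Lib.Char.Column

set_option autoImplicit false
open Cfsg
open scoped ComplexConjugate

namespace Cfsg.Agent.S0860

/-- Let a group A act on the set of irreducible characters and on the set of conjugacy classes of a finite group G in such a way that (a • χ) evaluated on the class a • C equals χ evaluated on C, for all a, χ and C. Then every element of A fixes exactly as many irreducible characters as it fixes conjugacy classes. -/
theorem result {G : Type*} [Group G] [Finite G] {A : Type*} [Group A] [MulAction A (Cfsg.IrrCharacter G)] [MulAction A (ConjClasses G)] (hcompat : ∀ (a : A) (χ : Cfsg.IrrCharacter G) (g g' : G), ConjClasses.mk g' = a • ConjClasses.mk g → ((a • χ : Cfsg.IrrCharacter G) : G → ℂ) g' = (χ : G → ℂ) g) (a : A) : Nat.card {χ : Cfsg.IrrCharacter G // a • χ = χ} = Nat.card {C : ConjClasses G // a • C = C} := by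
  classical
  have := Fintype.ofFinite G
  have := CfsgLib.Char.finite_irrCharacter (G := G)
  have : Fintype (Cfsg.IrrCharacter G) := Fintype.ofFinite _
  have : Fintype (ConjClasses G) := Fintype.ofFinite _
  have h1 : ∀ (C : ConjClasses G) (g : G), ConjClasses.mk g = C →
      ∑ χ : Cfsg.IrrCharacter G, ((a • χ : Cfsg.IrrCharacter G) : G → ℂ) g * conj ((χ : G → ℂ) g) =
        if a • C = C then (Nat.card (Subgroup.centralizer ({g} : Set G)) : ℂ) else 0 := by
    intro C g hg
    obtain ⟨h, hh⟩ := ConjClasses.mk_surjective (a⁻¹ • C)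
    have hsum : ∑ χ : Cfsg.IrrCharacter G, ((a • χ : Cfsg.IrrCharacter G) : G → ℂ) g * conj ((χ : G → ℂ) g) =
        ∑ χ : Cfsg.IrrCharacter G, (χ : G → ℂ) h * conj ((χ : G → ℂ) g) :=
      Finset.sum_congr rfl fun χ _ => by rw [hcompat a χ h g (by rw [hh, smul_inv_smul, hg])]
    rw [hsum, CfsgLib.Char.column_orthogonality]
    by_cases hC : a • C = C
    · have hhg : ConjClasses.mk h = ConjClasses.mk g := by rw [hh, hg, inv_smul_eq_iff, hC]
      rw [if_pos hC, if_pos (ConjClasses.mk_eq_mk_iff_isConj.mp hhg)]
      have e : (ConjClasses.mk h).carrier = (ConjClasses.mk g).carrier := by rw [hhg]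
      have e1 := CfsgLib.Char.natCard_carrier_mul_centralizer h
      have e2 := CfsgLib.Char.natCard_carrier_mul_centralizer g
      rw [hhg] at e1
      have hp : 0 < Nat.card (ConjClasses.mk g).carrier := Nat.pos_of_ne_zero fun h0 => by
        rw [h0, zero_mul] at e2; exact Nat.card_pos.ne e2
      rw [Nat.eq_of_mul_eq_mul_left hp (e1.trans e2.symm)]
    · rw [if_neg hC, if_neg fun hc => hC ?_]
      rw [← eq_inv_smul_iff, ← hh, ConjClasses.mk_eq_mk_iff_isConj.mpr hc, hg]
  have h2 : ((Nat.card {χ : Cfsg.IrrCharacter G // a • χ = χ} : ℕ) : ℂ) =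
      (Nat.card {C : ConjClasses G // a • C = C} : ℂ) := by
    rw [Nat.card_eq_fintype_card, Fintype.card_subtype, Nat.card_eq_fintype_card, Fintype.card_subtype,
      ← Finset.sum_boole, ← Finset.sum_boole]
    have e : ∀ χ : Cfsg.IrrCharacter G, (if a • χ = χ then (1 : ℂ) else 0) =
        (Nat.card G : ℂ)⁻¹ * ∑ g : G, ((a • χ : Cfsg.IrrCharacter G) : G → ℂ) g * conj ((χ : G → ℂ) g) := by
      intro χ
      have := CfsgLib.Char.irr_classInner (a • χ).2 χ.2
      simp only [← Subtype.ext_iff] at this
      exact this.symm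
    simp only [e]
    rw [← Finset.mul_sum, Finset.sum_comm,
      ← Finset.sum_fiberwise Finset.univ (ConjClasses.mk : G → ConjClasses G), Finset.mul_sum]
    refine Finset.sum_congr rfl fun C _ => ?_
    rw [Finset.sum_congr rfl (fun g hg => h1 C g (Finset.mem_filter.mp hg).2)]
    by_cases hC : a • C = C
    · simp only [if_pos hC]
      obtain ⟨g₀, rfl⟩ := ConjClasses.mk_surjective C
      have hk : ∀ g ∈ Finset.univ.filter (fun g : G => ConjClasses.mk g = ConjClasses.mk g₀),
          (Nat.card (Subgroup.centralizer ({g} : Set G)) : ℂ) =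
            (Nat.card G : ℂ) / (Nat.card (ConjClasses.mk g₀).carrier : ℂ) := by
        intro g hg
        have e := CfsgLib.Char.natCard_carrier_mul_centralizer g
        rw [(Finset.mem_filter.mp hg).2] at e
        have hp : (Nat.card (ConjClasses.mk g₀).carrier : ℂ) ≠ 0 := by
          refine Nat.cast_ne_zero.mpr fun h0 => ?_
          rw [h0, zero_mul] at e; exact Nat.card_pos.ne e
        rw [eq_div_iff hp, ← Nat.cast_mul, mul_comm, e]
      rw [Finset.sum_congr rfl hk, Finset.sum_const, nsmul_eq_mul]
      have hc : (Finset.univ.filter fun g : G => ConjClasses.mk g = ConjClasses.mk g₀).card =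
          Nat.card (ConjClasses.mk g₀).carrier := by
        rw [Nat.card_eq_fintype_card, ← Set.toFinset_card]
        congr 1; ext g; simp [ConjClasses.mem_carrier_iff_mk_eq]
      rw [hc]
      have hp : (Nat.card (ConjClasses.mk g₀).carrier : ℂ) ≠ 0 := by
        have : Nonempty (ConjClasses.mk g₀).carrier := ⟨⟨g₀, ConjClasses.mem_carrier_mk⟩⟩
        exact Nat.cast_ne_zero.mpr Nat.card_pos.ne'
      have hG : (Nat.card G : ℂ) ≠ 0 := CfsgLib.Char.natCard_ne_zero
      field_simp
    · simp [if_neg hC]
  exact_mod_cast h2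

end Cfsg.Agent.S0860
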