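import Cfsg.Statements.S0861
import Mathlib
import Cfsg.Agent.Lib.BlockB.GaloisAvg
import Cfsg.Agent.Lib.Char.CliffordApps
import Cfsg.Agent.Lib.Char.Column
import Cfsg.Agent.Lib.Char.Linear
import Cfsg.Agent.Lib.Char.Diag

set_option autoImplicit false
open Cfsg
open scoped ComplexConjugate

namespace Cfsg.Agent.S0861

/-- Let P be a normal abelian Sylow p-subgroup of the finite group G and suppose some element g of P has centralizer exactly P. Then the number of irreducible characters of G is at most the order of P, and if equality holds then G / P is abelian (the commutator subgroup lies in P). -/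
theorem result {G : Type*} [Group G] [Finite G] (p : ℕ) [Fact p.Prime] (P : Sylow p G) [(P : Subgroup G).Normal] (hab : ∀ a ∈ P, ∀ b ∈ P, a * b = b * a) (g : G) (hg : g ∈ P) (hC : Subgroup.centralizer ({g} : Set G) = P) : Nat.card (Cfsg.IrrCharacter G) ≤ Nat.card P ∧ (Nat.card (Cfsg.IrrCharacter G) = Nat.card P → commutator G ≤ P) := by
  classical
  have hp : p.Prime := Fact.out
  have := Fintype.ofFinite G
  have := CfsgLib.Char.finite_irrCharacter (G := G)
  have : Fintype (Cfsg.IrrCharacter G) := Fintype.ofFinite _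
  have hsumC : ∑ χ : Cfsg.IrrCharacter G, (χ : G → ℂ) g * conj ((χ : G → ℂ) g) = (Nat.card P : ℂ) := by
    rw [CfsgLib.Char.column_orthogonality, if_pos (IsConj.refl g), hC]
  have hsum : ∑ χ : Cfsg.IrrCharacter G, ‖(χ : G → ℂ) g‖ ^ 2 = (Nat.card P : ℝ) := by
    have h2 : ((∑ χ : Cfsg.IrrCharacter G, ‖(χ : G → ℂ) g‖ ^ 2 : ℝ) : ℂ) = ((Nat.card P : ℝ) : ℂ) := by
      push_cast
      rw [← hsumC]
      exact Finset.sum_congr rfl fun χ _ => (Complex.mul_conj' _).symm
    exact_mod_cast h2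
  have hne : ∀ χ : Cfsg.IrrCharacter G, (χ : G → ℂ) g ≠ 0 := by
    rintro ⟨χ, n, ρ, hρ, rfl⟩ h0
    change ρ.character g = 0 at h0
    have hn : ¬ p ∣ n := fun hd => by
      have := CfsgLib.Char.ito_degree_dvd_index ρ (P : Subgroup G) hab
      rw [Module.finrank_fin_fun] at this
      exact P.not_dvd_index (hd.trans this)
    obtain ⟨ι, hι, b, μ, -, hμ, hpow, -⟩ := CfsgLib.Char.exists_char_eigen ρ g
    obtain ⟨a, ha⟩ : ∃ a, orderOf g = p ^ a := by
      obtain ⟨k, hk⟩ := P.2 ⟨g, hg⟩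
      have h : g ^ p ^ k = 1 := congr_arg Subtype.val hk
      obtain ⟨a, -, ha⟩ := (Nat.dvd_prime_pow hp).mp (orderOf_dvd_of_pow_eq_one h)
      exact ⟨a, ha⟩
    have key : ∀ s : Finset ι, ∃ r : ℂ, IsIntegral ℤ r ∧
        (∑ i ∈ s, μ i) ^ p ^ a = (s.card : ℂ) + (p : ℂ) * r := by
      intro s
      induction s using Finset.induction with
      | empty => exact ⟨0, isIntegral_zero, by simp [zero_pow (pow_ne_zero a hp.ne_zero)]⟩
      | insert i s his ih =>
        obtain ⟨r, hr, he⟩ := ih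
        let A := integralClosure ℤ ℂ
        have hi : IsIntegral ℤ (μ i) := IsIntegral.of_pow (orderOf_pos g) (by rw [hμ]; exact isIntegral_one)
        have hs : IsIntegral ℤ (∑ j ∈ s, μ j) :=
          IsIntegral.sum _ fun j _ => IsIntegral.of_pow (orderOf_pos g) (by rw [hμ]; exact isIntegral_one)
        obtain ⟨w, hw⟩ := exists_add_pow_prime_pow_eq hp (⟨μ i, hi⟩ : A) (⟨_, hs⟩ : A) a
        have hw2 := congr_arg (Subtype.val : A → ℂ) hw
        push_cast at hw2
        refine ⟨r + μ i * (∑ j ∈ s, μ j) * (w : ℂ), hr.add ((hi.mul hs).mul w.2), ?_⟩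
        rw [Finset.sum_insert his, hw2, he, ← ha, hμ, Finset.card_insert_of_notMem his]
        push_cast
        ring
    obtain ⟨r, hr, he⟩ := key Finset.univ
    have h1 := hpow 1
    simp only [pow_one] at h1
    rw [← h1, h0, zero_pow (pow_ne_zero a hp.ne_zero)] at he
    have hcard : (Finset.univ : Finset ι).card = n := by
      rw [Finset.card_univ, ← Module.finrank_eq_card_basis b, Module.finrank_fin_fun]
    rw [hcard] at he
    refine hn (CfsgLib.Char.dvd_of_isIntegral_div hp.pos (b := p) (a := n) ?_)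
    have hp0 : (p : ℂ) ≠ 0 := Nat.cast_ne_zero.mpr hp.ne_zero
    rw [show (n : ℂ) / (p : ℂ) = -r by field_simp; linear_combination -he]
    exact hr.neg
  let f : Cfsg.IrrCharacter G → ℕ → ℂ := fun χ k => (χ : G → ℂ) (g ^ k)
  have hj : ∀ j : ℕ, (Fintype.card (Cfsg.IrrCharacter G) : ℝ) ≤ ∑ χ : Cfsg.IrrCharacter G, ‖f χ 1‖ ^ j := by
    intro j
    refine CfsgLib.BlockB.card_le_sum_norm_pow (s := Finset.univ) (f := f) Nat.card_pos.ne'
      (fun χ _ => CfsgLib.BlockB.isCyclo_char (CfsgLib.Char.irr_isCharacter χ.2) g)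
      (fun k hk => ?_) (fun χ _ => by simp only [f, pow_one]; exact hne χ) j
    obtain ⟨e, he⟩ := CfsgLib.BlockB.exists_galIrr_perm hk (Finset.univ : Finset (Cfsg.IrrCharacter G))
      (fun χ _ => Finset.mem_univ _)
    refine ⟨e, fun χ => ?_⟩
    simp only [f]
    rw [he χ, pow_one]
    rfl
  have h2 := hj 2
  simp only [f, pow_one] at h2
  rw [hsum] at h2
  refine ⟨by rw [Nat.card_eq_fintype_card]; exact_mod_cast h2, fun heq => ?_⟩
  have h1 := hj 1
  simp only [f, pow_one] at h1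
  have hall : ∀ χ : Cfsg.IrrCharacter G, ‖(χ : G → ℂ) g‖ = 1 := by
    have hsq : ∑ χ : Cfsg.IrrCharacter G, (‖(χ : G → ℂ) g‖ - 1) ^ 2 ≤ 0 := by
      simp only [sub_sq, one_pow, mul_one, Finset.sum_add_distrib, Finset.sum_sub_distrib, ← Finset.mul_sum,
        hsum, Finset.sum_const, Finset.card_univ, nsmul_one]
      rw [← heq, Nat.card_eq_fintype_card]
      linarith
    intro χ
    have := Finset.sum_eq_zero_iff_of_nonneg (s := Finset.univ)
      (f := fun χ : Cfsg.IrrCharacter G => (‖(χ : G → ℂ) g‖ - 1) ^ 2) (fun _ _ => sq_nonneg _) |>.mp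
      (le_antisymm hsq (Finset.sum_nonneg fun _ _ => sq_nonneg _)) χ (Finset.mem_univ _)
    exact sub_eq_zero.mp (pow_eq_zero_iff two_ne_zero |>.mp this)
  have hlin : ∀ ψ : Cfsg.IrrCharacter (G ⧸ (P : Subgroup G)), (ψ : G ⧸ (P : Subgroup G) → ℂ) 1 = 1 := by
    intro ψ
    have hirr := CfsgLib.Char.isIrrCharacter_comp_surjective ψ.2 (QuotientGroup.mk' (P : Subgroup G))
      (QuotientGroup.mk'_surjective _)
    have := hall ⟨_, hirr⟩
    change ‖(ψ : G ⧸ (P : Subgroup G) → ℂ) (g : G ⧸ (P : Subgroup G))‖ = 1 at this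
    rw [(QuotientGroup.eq_one_iff g).mpr hg] at this
    obtain ⟨d, -, hd⟩ := CfsgLib.Char.irr_apply_one_pos ψ.2
    rw [hd, Complex.norm_natCast] at this
    rw [hd, show d = 1 by exact_mod_cast this, Nat.cast_one]
  have hc := CfsgLib.Char.comm_iff_forall_degree_one.mpr hlin
  rw [commutator_def, Subgroup.commutator_le]
  intro x _ y _
  rw [← QuotientGroup.eq_one_iff, commutatorElement_def]
  simp [hc (x : G ⧸ (P : Subgroup G)) y]

end Cfsg.Agent.S0861
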