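import Cfsg.Statements.S0864
import Cfsg.Agent.Lib.Clifford.Extension

set_option autoImplicit false
open Cfsg

namespace Cfsg.Agent.S0864

/-- Let N be a normal subgroup of the finite group G and λ a character of N of degree 1 invariant under conjugation by G. Suppose that for every prime p dividing the order of λ (in the group of functions under pointwise multiplication) there is a subgroup H containing N, of index prime to p and with the index of N in H a power of p, together with a character of H of degree 1 restricting to λ. Then λ is the restriction of a character of G of degree 1. -/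
theorem result {G : Type*} [Group G] [Finite G] (N : Subgroup G) [hN : N.Normal] (lam : N → ℂ) (hlam : Cfsg.IsCharacter N lam ∧ lam 1 = 1) (hinv : ∀ (g : G) (n : N), lam ⟨g * n * g⁻¹, hN.conj_mem (n : G) n.2 g⟩ = lam n) (hsyl : ∀ p : ℕ, p.Prime → p ∣ orderOf lam → ∃ (H : Subgroup G) (hNH : N ≤ H) (ν : H → ℂ), Nat.Coprime H.index p ∧ (∃ k : ℕ, N.relIndex H = p ^ k) ∧ Cfsg.IsCharacter H ν ∧ ν 1 = 1 ∧ ∀ n : N, ν ⟨(n : G), hNH n.2⟩ = lam n) : ∃ μ : G → ℂ, Cfsg.IsCharacter G μ ∧ μ 1 = 1 ∧ ∀ n : N, μ n = lam n := by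
  obtain ⟨f, hf⟩ := CfsgLib.Clifford.exists_hom_of_linear hlam.1 hlam.2
  have hinv' : ∀ (g : G) (m : N), f (CfsgLib.Clifford.conjN g m) = f m := fun g m =>
    Units.ext (by rw [hf, hf]; exact hinv g m)
  have ho : orderOf f = orderOf lam := by
    rw [← CfsgLib.Clifford.orderOf_coe_hom f, funext hf]
  have h1 : (1 : ℤ) ∈ CfsgLib.Clifford.linearExps f := by
    refine CfsgLib.Clifford.one_mem_of_forall_prime fun p hp => ?_
    by_cases hpo : p ∣ orderOf lam
    · obtain ⟨H, hNH, ν, hcop, -, hν, hν1, hres⟩ := hsyl p hp hpo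
      obtain ⟨ν', hν'⟩ := CfsgLib.Clifford.exists_hom_of_linear hν hν1
      refine ⟨_, CfsgLib.Clifford.index_mem_linearExps f hinv' H hNH ν'
        (fun m => Units.ext (by rw [hν', hres, hf])), fun h => ?_⟩
      exact hp.one_lt.ne' (Nat.Coprime.eq_one_of_dvd hcop.symm (Int.natCast_dvd_natCast.mp h))
    · exact ⟨_, CfsgLib.Clifford.orderOf_mem_linearExps f,
        fun h => hpo (ho ▸ Int.natCast_dvd_natCast.mp h)⟩
  obtain ⟨μ, hμ⟩ := h1
  exact ⟨fun g => (μ g : ℂ), CfsgLib.Clifford.isCharacter_of_hom μ, by simp,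
    fun m => by simp [hμ m, hf]⟩

end Cfsg.Agent.S0864
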