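import Cfsg.Statements.S0865
import Cfsg.Agent.Lib.Clifford.Extension

set_option autoImplicit false
open Cfsg

namespace Cfsg.Agent.S0865

/-- Let N be a normal subgroup of the finite group G and λ a character of N of degree 1, invariant under conjugation by G, whose order (under pointwise multiplication) is coprime to the index of N. Then there is a character μ of G of degree 1 restricting to λ with the same order as λ, and μ is the only degree-1 character of G restricting to λ whose order is coprime to the index of N. -/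
theorem result {G : Type*} [Group G] [Finite G] (N : Subgroup G) [hN : N.Normal] (lam : N → ℂ) (hlam : Cfsg.IsCharacter N lam ∧ lam 1 = 1) (hinv : ∀ (g : G) (n : N), lam ⟨g * n * g⁻¹, hN.conj_mem (n : G) n.2 g⟩ = lam n) (hcop : Nat.Coprime N.index (orderOf lam)) : ∃ μ : G → ℂ, (Cfsg.IsCharacter G μ ∧ μ 1 = 1 ∧ (∀ n : N, μ n = lam n) ∧ orderOf μ = orderOf lam) ∧ ∀ μ' : G → ℂ, Cfsg.IsCharacter G μ' ∧ μ' 1 = 1 → (∀ n : N, μ' n = lam n) → Nat.Coprime N.index (orderOf μ') → μ' = μ := by
  obtain ⟨f, hf⟩ := CfsgLib.Clifford.exists_hom_of_linear hlam.1 hlam.2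
  have hinv' : ∀ (g : G) (m : N), f (CfsgLib.Clifford.conjN g m) = f m := fun g m =>
    Units.ext (by rw [hf, hf]; exact hinv g m)
  have ho : orderOf f = orderOf lam := by
    rw [← CfsgLib.Clifford.orderOf_coe_hom f, funext hf]
  obtain ⟨μ, h1, h2, h3⟩ := CfsgLib.Clifford.exists_linear_extension f hinv' (ho ▸ hcop)
  refine ⟨fun g => (μ g : ℂ), ⟨CfsgLib.Clifford.isCharacter_of_hom μ, by simp,
    fun m => by simp [h1, hf], by rw [CfsgLib.Clifford.orderOf_coe_hom, h2, ho]⟩, ?_⟩
  rintro μ' hμ' hres hc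
  obtain ⟨f', hf'⟩ := CfsgLib.Clifford.exists_hom_of_linear hμ'.1 hμ'.2
  have := h3 f' (fun m => Units.ext (by rw [hf', hres, hf]))
    (by rwa [← CfsgLib.Clifford.orderOf_coe_hom f', funext hf'])
  funext g
  rw [← hf', this]

end Cfsg.Agent.S0865
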