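import Cfsg.Statements.S0867
import Cfsg.Agent.Lib.Clifford.ExtensionDet

set_option autoImplicit false
open Cfsg

namespace Cfsg.Agent.S0867

/-- Let N be a normal subgroup of the finite group G and ϑ an irreducible character of N of degree d, invariant under conjugation by G, such that the index of N is coprime to the product of d and the determinantal order of ϑ. Then there is an irreducible character χ of G restricting to ϑ whose determinantal order equals that of ϑ, and χ is the only irreducible character of G restricting to ϑ whose determinantal order is coprime to the index of N. -/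
theorem result {G : Type*} [Group G] [Finite G] (N : Subgroup G) [hN : N.Normal] (ϑ : N → ℂ) (hϑ : Cfsg.IsIrrCharacter N ϑ) (hinv : ∀ (g : G) (n : N), ϑ ⟨g * n * g⁻¹, hN.conj_mem (n : G) n.2 g⟩ = ϑ n) (d : ℕ) (hd : ϑ 1 = d) (hcop : Nat.Coprime N.index (Cfsg.detOrder ϑ * d)) : ∃ χ : G → ℂ, (Cfsg.IsIrrCharacter G χ ∧ (∀ n : N, χ n = ϑ n) ∧ Cfsg.detOrder χ = Cfsg.detOrder ϑ) ∧ ∀ χ' : G → ℂ, Cfsg.IsIrrCharacter G χ' → (∀ n : N, χ' n = ϑ n) → Nat.Coprime N.index (Cfsg.detOrder χ') → χ' = χ := by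
  obtain ⟨k, ρ, hρ, rfl⟩ := hϑ
  have hk : k = d := by
    rw [Representation.char_one, Module.finrank_fin_fun] at hd
    exact_mod_cast hd
  subst hk
  let lam : N →* ℂˣ := (Units.map LinearMap.det).comp (CfsgLib.Clifford.repUnits ρ)
  have hl : ∀ m : N, (lam m : ℂ) = LinearMap.det (ρ m) := fun m => rfl
  have ho : Cfsg.detOrder ρ.character = orderOf lam := by
    rw [Cfsg.detOrder, CfsgLib.Clifford.detChar_eq, ← CfsgLib.Clifford.orderOf_coe_hom lam]
    rfl
  rw [ho] at hcop ⊢
  have hc1 : Nat.Coprime N.index (orderOf lam) :=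
    Nat.Coprime.coprime_dvd_right (dvd_mul_right _ _) hcop
  have hc2 : Nat.Coprime N.index k := Nat.Coprime.coprime_dvd_right (dvd_mul_left _ _) hcop
  have hlinv : ∀ (g : G) (m : N), lam (CfsgLib.Clifford.conjN g m) = lam m := by
    intro g m
    obtain ⟨e, rfl⟩ := CfsgLib.Clifford.proj_surjective ρ hinv g
    have h := congr_arg (Units.map LinearMap.det) (CfsgLib.Clifford.opUnits_mul_rep ρ e m)
    rw [map_mul, map_mul, mul_comm] at h
    exact (mul_right_cancel h).symm
  obtain ⟨μ, hμN, hμo, hμu⟩ := CfsgLib.Clifford.exists_linear_extension lam hlinv hc1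
  have hμN' : ∀ m : N, (μ m : ℂ) = LinearMap.det (ρ m) := fun m => by rw [hμN, hl]
  obtain ⟨σ, hσ⟩ := CfsgLib.Clifford.exists_extension_of_one_mem ρ
    (CfsgLib.Clifford.proj_surjective ρ hinv)
    (CfsgLib.Clifford.one_mem_of_coprime
      (CfsgLib.Clifford.index_self_mem_splitExps ρ (CfsgLib.Clifford.proj_surjective ρ hinv))
      (by simpa using CfsgLib.Clifford.finrank_mem_splitExps ρ μ hμN') hc2)
  obtain ⟨χ, ⟨hχ, hres, hdet⟩, huniq⟩ :=
    CfsgLib.Clifford.existsUnique_extension_det ρ hc2 σ hσ μ hμN'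
  refine ⟨χ, ⟨hχ, hres, by rw [Cfsg.detOrder, hdet, CfsgLib.Clifford.orderOf_coe_hom, hμo]⟩,
    fun χ' hχ' hres' hc' => huniq χ' ⟨hχ', hres', ?_⟩⟩
  obtain ⟨τ, hτ, rfl⟩ := CfsgLib.Clifford.exists_rep_extension_top ρ
    (CfsgLib.Char.irr_isCharacter hχ') hres'
  have := CfsgLib.Clifford.isIrreducible_extension ρ τ hτ
  obtain ⟨δ, hδ, hδN⟩ := CfsgLib.Clifford.det_extension ρ τ hτ
  have hd' : Cfsg.detChar τ.character = fun g => (δ g : ℂ) := by
    rw [CfsgLib.Clifford.detChar_eq]; exact funext fun g => (hδ g).symm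
  rw [Cfsg.detOrder, hd', CfsgLib.Clifford.orderOf_coe_hom] at hc'
  rw [hd', hμu δ (fun m => Units.ext (by rw [hδN, hl])) hc']

end Cfsg.Agent.S0867
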