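import Cfsg.Statements.S0876
import Cfsg.Agent.S0875
import Cfsg.Agent.Lib.Block.MainTheorems

set_option autoImplicit false
open Cfsg

namespace Cfsg.Agent.S0876

/-- Let G be a finite group, p a prime and M a maximal ideal of the ring of algebraic integers containing p. Let x, y be elements with p-parts a and b (so a⁻¹ * x and b⁻¹ * y are their p-regular parts). Then a⁻¹ * x and b⁻¹ * y are conjugate in G if and only if, for every irreducible character χ, the difference χ x - χ y lies in the local ideal at M. -/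
theorem result {G : Type*} [Group G] [Finite G] (p : ℕ) (M : Ideal Cfsg.AlgInt) (hM : Cfsg.IsPModular p M) (x y a b : G) (ha : Cfsg.IsPPart p x a) (hb : Cfsg.IsPPart p y b) : IsConj (a⁻¹ * x) (b⁻¹ * y) ↔ ∀ χ : Cfsg.IrrCharacter G, Cfsg.MemLocalIdeal M ((χ : G → ℂ) x - (χ : G → ℂ) y) := by
  classical
  have : Fintype G := Fintype.ofFinite G
  have hp := hM.1
  have : M.IsPrime := hM.2.1.isPrime
  have hmem : ∀ (χ : Cfsg.IrrCharacter G) (z : G), Cfsg.MemLocalRing M ((χ : G → ℂ) z) := fun χ z =>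
    CfsgLib.Block.memLocalRing_irr_apply χ z
  have hpart : ∀ z c : G, Cfsg.IsPPart p z c → ∀ χ : Cfsg.IrrCharacter G,
      CfsgLib.Block.redC M ((χ : G → ℂ) z) = CfsgLib.Block.redC M ((χ : G → ℂ) (c⁻¹ * z)) := by
    rintro z c ⟨w, rfl, hcw, hk, -⟩ χ
    rw [inv_mul_cancel_left]
    exact CfsgLib.Block.redC_char_mul_pelement hM (CfsgLib.Char.irr_isCharacter χ.2) hcw hk
  constructor
  · intro h χ
    rw [← CfsgLib.Block.redC_eq_iff (hmem χ x) (hmem χ y), hpart x a ha χ, hpart y b hb χ]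
    obtain ⟨z, hz⟩ := isConj_iff.mp h
    rw [← hz, CfsgLib.Char.irr_isClassFunction χ.2]
  · intro h
    by_contra hne
    set P := ordProj[p] (Nat.card G)
    set R := ordCompl[p] (Nat.card G)
    have hPR : Nat.card G = P * R := (Nat.ordProj_mul_ordCompl_eq_self _ p).symm
    have hR : ¬ p ∣ R := Nat.not_dvd_ordCompl hp Nat.card_pos.ne'
    have hcop : Nat.Coprime P R := Nat.Coprime.pow_left _ (hp.coprime_iff_not_dvd.2 hR)
    have hsplit : ∀ z c : G, Cfsg.IsPPart p z c → ∃ v u : G, v = c⁻¹ * z ∧ u = c ∧ z = u * v ∧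
        Commute u v ∧ Nat.Coprime (orderOf u) R ∧ Nat.Coprime (orderOf v) P := by
      rintro z c ⟨w, rfl, hcw, ⟨k, hk⟩, hw⟩
      refine ⟨w, c, by group, rfl, rfl, hcw, ?_, ?_⟩
      · rw [hk]; exact Nat.Coprime.pow_left _ (hp.coprime_iff_not_dvd.2 hR)
      · exact Nat.Coprime.pow_right _ (hp.coprime_iff_not_dvd.2 hw).symm
    obtain ⟨y', uy, hy', -, hyz, hyc, hyu, hyv⟩ := hsplit y b hb
    obtain ⟨x', ux, hx', -, hxz, hxc, hxu, hxv⟩ := hsplit x a ha
    obtain ⟨k, hk1, hk0⟩ := Nat.chineseRemainder hcop.symm 1 0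
    have hchar := Cfsg.Agent.S0875.indicator_eq (G := G) (hPR ▸ dvd_rfl) hcop hk1 hk0 y'
    obtain ⟨θ, hθ⟩ : ∃ θ : G → ℂ, θ = fun z => if IsConj (z ^ k) y' then (R : ℂ) else 0 := ⟨_, rfl⟩
    obtain ⟨c, hc, hsum⟩ := Cfsg.Agent.S0875.result P R hPR hcop y' hyv θ
      (fun z hz => by rw [hθ]; simp only; rw [if_pos ((hchar z).mp hz)])
      (fun z hz => by rw [hθ]; simp only; rw [if_neg fun h' => hz ((hchar z).mpr h')])
    have hy1 : θ y = R := by
      rw [hθ]; simp only
      rw [if_pos ((hchar y).mp ⟨y', IsConj.refl _, uy, hyz, hyc, hyu, hyv⟩)]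
    have hx0 : θ x = 0 := by
      rw [hθ]; simp only
      rw [if_neg fun h' => ?_]
      refine hne ?_
      have hxk : x ^ k = x' := by
        rw [hxz, hxc.mul_pow, orderOf_dvd_iff_pow_eq_one.mp ((hxu.dvd_of_dvd_mul_right
          ((orderOf_dvd_natCard ux).trans (hPR ▸ dvd_rfl))).trans (Nat.modEq_zero_iff_dvd.mp hk0)),
          one_mul, ← pow_mod_orderOf, hk1.of_dvd (hxv.dvd_of_dvd_mul_left
          ((orderOf_dvd_natCard x').trans (hPR ▸ dvd_rfl))), pow_mod_orderOf, pow_one]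
      rw [← hx', ← hy', ← hxk]
      exact h'
    have hdiff : Cfsg.MemLocalIdeal M (θ x - θ y) := by
      have : Fintype (Cfsg.IrrCharacter G) := Fintype.ofFinite _
      rw [hsum, finsum_eq_sum_of_fintype, Finset.sum_apply, Finset.sum_apply, ← Finset.sum_sub_distrib]
      refine CfsgLib.Block.memLocalIdeal_sum _ _ fun χ _ => ?_
      rw [Pi.smul_apply, Pi.smul_apply, smul_eq_mul, smul_eq_mul, ← mul_sub]
      exact CfsgLib.Block.memLocalIdeal_mul_left
        (CfsgLib.Block.memLocalRing_coe (M := M) ⟨c χ, hc χ⟩) (h χ)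
    rw [hy1, hx0, zero_sub] at hdiff
    have := CfsgLib.Block.memLocalIdeal_neg hdiff
    rw [neg_neg, CfsgLib.Block.memLocalIdeal_natCast_iff hM] at this
    exact hR this

end Cfsg.Agent.S0876
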