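import Cfsg.Statements.S0879
import Mathlib

set_option autoImplicit false
open Cfsg

namespace Cfsg.Agent.S0879

/-- Let G be a Zassenhaus group on the finite set Ω and E the stabilizer of two distinct points a, b. Then an element outside the normalizer of E conjugates no non-identity element of E into E, and E has index 2 in its normalizer. -/
theorem result {G Ω : Type*} [Group G] [Finite G] [MulAction G Ω] [Fintype Ω] (hZ : Cfsg.IsZassenhausGroup G Ω) {a b : Ω} (hab : a ≠ b) : (∀ g : G, g ∉ Subgroup.normalizer ((MulAction.stabilizer G a ⊓ MulAction.stabilizer G b : Subgroup G) : Set G) → ∀ x ∈ (MulAction.stabilizer G a ⊓ MulAction.stabilizer G b : Subgroup G), g * x * g⁻¹ ∈ (MulAction.stabilizer G a ⊓ MulAction.stabilizer G b : Subgroup G) → x = 1) ∧ ((MulAction.stabilizer G a ⊓ MulAction.stabilizer G b : Subgroup G).subgroupOf (Subgroup.normalizer ((MulAction.stabilizer G a ⊓ MulAction.stabilizer G b : Subgroup G) : Set G))).index = 2 := by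
  obtain ⟨hf, h2, h3, ⟨g₀, hg₀, a₀, b₀, hab₀, hga₀, hgb₀⟩, -⟩ := hZ
  set E : Subgroup G := MulAction.stabilizer G a ⊓ MulAction.stabilizer G b with hE
  have hmem : ∀ x : G, x ∈ E ↔ x • a = a ∧ x • b = b := fun x => by
    simp [hE, MulAction.mem_stabilizer_iff]
  have hin : ∀ x ∈ E, x ≠ 1 → ∀ c : Ω, x • c = c → c = a ∨ c = b := by
    intro x hx hx1 c hc
    by_contra h
    push Not at h
    exact hx1 (h3 x a b c hab h.2.symm h.1.symm ((hmem x).mp hx).1 ((hmem x).mp hx).2 hc)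
  have hperm : ∀ g : G, ∀ x ∈ E, x ≠ 1 → g * x * g⁻¹ ∈ E →
      (g • a = a ∧ g • b = b) ∨ (g • a = b ∧ g • b = a) := by
    intro g x hx hx1 hgx
    have hne : g * x * g⁻¹ ≠ 1 := by simpa using hx1
    have ha := hin _ hgx hne (g • a) (by simp [mul_smul, ((hmem x).mp hx).1])
    have hb := hin _ hgx hne (g • b) (by simp [mul_smul, ((hmem x).mp hx).2])
    have hgab : g • a ≠ g • b := fun h => hab (smul_left_cancel g h)
    grind
  have hN : ∀ g : G, (g • a = a ∧ g • b = b) ∨ (g • a = b ∧ g • b = a) →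
      g ∈ Subgroup.normalizer (E : Set G) := by
    intro g hg x
    simp only [SetLike.mem_coe, hmem, mul_smul]
    rcases hg with ⟨h1, h1b⟩ | ⟨h1, h1b⟩
    all_goals
      have e1 := (inv_smul_eq_iff (g := g)).mpr h1.symm
      have e2 := (inv_smul_eq_iff (g := g)).mpr h1b.symm
      rw [e1, e2]
      constructor <;> intro h
    · exact ⟨by rw [h.1, h1], by rw [h.2, h1b]⟩
    · exact ⟨smul_left_cancel g (h.1.trans h1.symm), smul_left_cancel g (h.2.trans h1b.symm)⟩
    · exact ⟨by rw [h.2, h1b], by rw [h.1, h1]⟩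
    · exact ⟨smul_left_cancel g (h.2.trans h1.symm), smul_left_cancel g (h.1.trans h1b.symm)⟩
  refine ⟨fun g hg x hx hgx => by_contra fun hx1 => hg (hN g (hperm g x hx hx1 hgx)), ?_⟩
  have h2t : ∀ {a b c d : Ω}, a ≠ b → c ≠ d → ∃ g : G, g • a = c ∧ g • b = d :=
    (MulAction.is_two_pretransitive_iff (G := G) (α := Ω)).mp h2
  obtain ⟨t, hta, htb⟩ := @h2t a b b a hab hab.symm
  obtain ⟨k, hka, hkb⟩ := @h2t a₀ b₀ a b hab₀ hab
  have hx : k * g₀ * k⁻¹ ∈ E := by
    rw [hmem, ← hka, ← hkb]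
    simp [mul_smul, hga₀, hgb₀]
  have hxne : k * g₀ * k⁻¹ ≠ 1 := by simpa using hg₀
  rw [Subgroup.index_eq_two_iff]
  refine ⟨⟨t, hN t (Or.inr ⟨hta, htb⟩)⟩, fun n => ?_⟩
  have hn := hperm n _ hx hxne ((n.2 _).mp hx)
  simp only [Subgroup.mem_subgroupOf, Subgroup.coe_mul, hmem, mul_smul, hta, htb]
  rcases hn with ⟨p, q⟩ | ⟨p, q⟩ <;> simp [p, q, hab, hab.symm, Xor]

end Cfsg.Agent.S0879
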