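import Cfsg.Statements.S0893
import Mathlib
import Cfsg.Agent.Lib.Char.Inner
import Cfsg.Agent.Lib.Char.Induce
import Cfsg.Agent.Lib.Clifford.Extension

set_option autoImplicit false
open Cfsg
open scoped ComplexConjugate commutatorElement

namespace Cfsg.Agent.S0893

/-- Let P be an extraspecial p-group of order p ^ (2 * n + 1), A an abelian subgroup of order p ^ (n + 1), and λ a character of A of degree 1 that is not identically 1 on the elements of A lying in the centre of P. Then the function induced from λ to P is an irreducible character of P and vanishes at every element outside the centre. -/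
theorem result {P : Type*} [Group P] [Fintype P] (p n : ℕ) [Fact p.Prime] (hP : Cfsg.IsExtraspecial p P) (hcard : Nat.card P = p ^ (2 * n + 1)) (A : Subgroup P) (hab : ∀ a ∈ A, ∀ b ∈ A, a * b = b * a) (hA : Nat.card A = p ^ (n + 1)) (lam : A → ℂ) (hlam : Cfsg.IsCharacter A lam ∧ lam 1 = 1) (hZ : ∃ a : A, (a : P) ∈ Subgroup.center P ∧ lam a ≠ 1) : Cfsg.IsIrrCharacter P (Cfsg.indFun A lam) ∧ ∀ x : P, x ∉ Subgroup.center P → Cfsg.indFun A lam x = 0 := by
  classical
  have : Fintype A := Fintype.ofFinite A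
  obtain ⟨f, hf⟩ := CfsgLib.Clifford.exists_hom_of_linear hlam.1 hlam.2
  obtain ⟨a₀, ha₀, hla⟩ := hZ
  obtain ⟨⟨-, -, hcomm⟩, hZc⟩ := hP
  set Z := Subgroup.center P
  have hone : ∀ z : P, z ∈ Z → z ≠ 1 → ∀ K : Subgroup P, z ∈ K → Z ≤ K := by
    intro z hz hz1 K hK
    have hc : Subgroup.zpowers (⟨z, hz⟩ : Z) = ⊤ := zpowers_eq_top_of_prime_card hZc
      (fun h => hz1 (congr_arg Subtype.val h))
    intro w hw
    obtain ⟨k, hk⟩ := Subgroup.mem_zpowers_iff.mp (hc ▸ Subgroup.mem_top (⟨w, hw⟩ : Z) :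
      (⟨w, hw⟩ : Z) ∈ Subgroup.zpowers (⟨z, hz⟩ : Z))
    have : z ^ k = w := congr_arg Subtype.val hk
    exact this ▸ K.zpow_mem hK k
  have ha1 : (a₀ : P) ≠ 1 := fun h => hla (by rw [show a₀ = 1 from Subtype.ext h, hlam.2])
  have hZA : Z ≤ A := hone _ ha₀ ha1 A a₀.2
  have hne : ∀ z (hz : z ∈ Z), z ≠ 1 → f ⟨z, hZA hz⟩ ≠ 1 := by
    intro z hz hz1 hfz
    have := hone z hz hz1 ((f.ker).map A.subtype) ⟨⟨z, hZA hz⟩, hfz, rfl⟩ ha₀
    obtain ⟨b, hb, hba⟩ := this
    refine hla ?_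
    rw [← show b = a₀ from Subtype.ext hba, ← hf, MonoidHom.mem_ker.mp hb, Units.val_one]
  have hmulz : ∀ (z : P) (hz : z ∈ Z) (g : P),
      Cfsg.indFun A lam (g * z) = (f ⟨z, hZA hz⟩ : ℂ) * Cfsg.indFun A lam g := by
    intro z hz g
    simp only [Cfsg.indFun]
    rw [mul_left_comm, Finset.mul_sum (a := (f ⟨z, hZA hz⟩ : ℂ))]
    congr 1
    refine Finset.sum_congr rfl fun x _ => ?_
    have e : x⁻¹ * (g * z) * x = x⁻¹ * g * x * z := by
      simp only [mul_assoc, ← (Subgroup.mem_center_iff.mp hz) x]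
    rw [e]
    by_cases h : x⁻¹ * g * x ∈ A
    · rw [CfsgLib.Char.extendByZero_of_mem _ h, CfsgLib.Char.extendByZero_of_mem _ (A.mul_mem h (hZA hz)),
        ← hf, ← hf, mul_comm (f ⟨z, hZA hz⟩ : ℂ), ← Units.val_mul, ← map_mul]
      rfl
    · rw [CfsgLib.Char.extendByZero_of_not_mem _ h, CfsgLib.Char.extendByZero_of_not_mem _
        (fun h' => h ((A.mul_mem_cancel_right (hZA hz)).mp h')), mul_zero]
  have hcl := CfsgLib.Char.indFun_isClassFunction A lam
  have hoff : ∀ x : P, x ∉ Z → Cfsg.indFun A lam x = 0 := by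
    intro x hx
    obtain ⟨y, hy⟩ : ∃ y, y * x ≠ x * y := by simpa [Z, Subgroup.mem_center_iff] using hx
    have hc : x⁻¹ * (y * x * y⁻¹) ∈ Z := by
      rw [show x⁻¹ * (y * x * y⁻¹) = ⁅x⁻¹, y⁆ by simp [commutatorElement_def, mul_assoc],
        ← hcomm, commutator_def]
      exact Subgroup.commutator_mem_commutator (Subgroup.mem_top _) (Subgroup.mem_top _)
    have h1 : x⁻¹ * (y * x * y⁻¹) ≠ 1 := fun h => hy (by
      rw [inv_mul_eq_one] at h
      exact (mul_inv_eq_iff_eq_mul.mp h.symm))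
    have h2 := hmulz _ hc x
    rw [mul_inv_cancel_left, hcl x y] at h2
    have h3 : (f ⟨_, hZA hc⟩ : ℂ) ≠ 1 := fun h => hne _ hc h1 (Units.ext h)
    by_contra h0
    exact h3 (mul_right_cancel₀ h0 (by rw [one_mul]; exact h2.symm))
  refine ⟨CfsgLib.Clifford.isIrrCharacter_of_classInner_self (CfsgLib.Char.isCharacter_indFun A hlam.1) ?_, hoff⟩
  have hidx : (A.index : ℂ) = (p : ℂ) ^ n := by
    have := A.index_mul_card
    rw [hA, hcard, show 2 * n + 1 = n + (n + 1) by ring, pow_add p n (n + 1)] at this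
    exact_mod_cast Nat.eq_of_mul_eq_mul_right (pow_pos (Fact.out : p.Prime).pos _) this
  rw [Cfsg.classInner, ← Finset.sum_filter_of_ne (p := fun x => x ∈ Z)
    (fun x _ h => by_contra fun hx => h (by rw [hoff x hx, zero_mul]))]
  have hval : ∀ x ∈ Finset.univ.filter (fun x => x ∈ Z),
      Cfsg.indFun A lam x * conj (Cfsg.indFun A lam x) = ((p : ℂ) ^ n) ^ 2 := by
    intro x hx
    have hxZ := (Finset.mem_filter.mp hx).2
    have h1 := hmulz x hxZ 1
    rw [one_mul, CfsgLib.Char.indFun_apply_one, hlam.2, mul_one, hidx] at h1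
    rw [h1, map_mul, map_pow, map_natCast, mul_mul_mul_comm, Complex.mul_conj',
      Complex.norm_eq_one_of_pow_eq_one (n := Nat.card A) (by
        rw [← Units.val_pow_eq_pow_val, ← map_pow, pow_card_eq_one', map_one, Units.val_one])
      Nat.card_pos.ne']
    simp [sq]
  rw [Finset.sum_congr rfl hval, Finset.sum_const, nsmul_eq_mul, ← Fintype.card_subtype,
    ← Nat.card_eq_fintype_card (α := {x : P // x ∈ Z}), hZc, hcard]
  have hp : (p : ℂ) ≠ 0 := Nat.cast_ne_zero.mpr (Fact.out : p.Prime).ne_zero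
  push_cast
  field_simp
  ring

end Cfsg.Agent.S0893
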