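import Cfsg.Statements.S0894
import Mathlib
import Cfsg.Agent.Lib.Char.Inner
import Cfsg.Agent.Lib.Char.Column
import Cfsg.Agent.Lib.Char.Linear

set_option autoImplicit false
open Cfsg
open scoped ComplexConjugate commutatorElement

namespace Cfsg.Agent.S0894

/-- Let P be an extraspecial p-group of order p ^ (2 * n + 1). Then every irreducible character of P has degree 1 or p ^ n, and exactly p - 1 of them have degree p ^ n. -/
theorem result {P : Type*} [Group P] [Finite P] (p n : ℕ) [Fact p.Prime] (hP : Cfsg.IsExtraspecial p P) (hcard : Nat.card P = p ^ (2 * n + 1)) : (∀ χ : Cfsg.IrrCharacter P, (χ : P → ℂ) 1 = 1 ∨ (χ : P → ℂ) 1 = (p : ℂ) ^ n) ∧ Nat.card {χ : Cfsg.IrrCharacter P // (χ : P → ℂ) 1 = (p : ℂ) ^ n} = p - 1 := by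
  classical
  have := Fintype.ofFinite P
  have := CfsgLib.Char.finite_irrCharacter (G := P)
  have : Fintype (Cfsg.IrrCharacter P) := Fintype.ofFinite _
  obtain ⟨⟨-, -, hcomm⟩, hZc⟩ := hP
  have hp : p.Prime := Fact.out
  have hp0 : (p : ℂ) ≠ 0 := Nat.cast_ne_zero.mpr hp.ne_zero
  set Z := Subgroup.center P
  have hidx : Z.index = p ^ (2 * n) := by
    have := Z.index_mul_card
    rw [hZc, hcard, pow_succ] at this
    exact Nat.eq_of_mul_eq_mul_right hp.pos this
  have hn : 0 < n := by
    rcases Nat.eq_zero_or_pos n with h | h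
    · exfalso
      subst h
      rw [mul_zero, pow_zero, Subgroup.index_eq_one] at hidx
      have hb : commutator P = ⊥ := by
        rw [commutator_def, Subgroup.commutator_eq_bot_iff_le_centralizer]
        intro x _
        rw [Subgroup.mem_centralizer_iff]
        intro y _
        exact (Subgroup.mem_center_iff.mp (hidx ▸ Subgroup.mem_top x : x ∈ Z) y)
      rw [hcomm, hidx] at hb
      have h1 := hZc
      rw [hidx, hb, Subgroup.card_bot] at h1
      exact hp.one_lt.ne h1
    · exact h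
  have hdeg : ∀ χ : Cfsg.IrrCharacter P, (χ : P → ℂ) 1 = 1 ∨ (χ : P → ℂ) 1 = (p : ℂ) ^ n := by
    rintro ⟨χ, m, ρ, hρ, rfl⟩
    by_cases hlin : ∀ z ∈ Z, ρ.character z = ρ.character 1
    · left
      obtain ⟨ψ, hψ, he⟩ := CfsgLib.Char.isIrr_quotient_lift Z ⟨m, ρ, hρ, rfl⟩ hlin
      have hab : ∀ a b : P ⧸ Z, a * b = b * a := by
        intro a b
        obtain ⟨a, rfl⟩ := QuotientGroup.mk_surjective a
        obtain ⟨b, rfl⟩ := QuotientGroup.mk_surjective b
        rw [← QuotientGroup.mk_mul, ← QuotientGroup.mk_mul, QuotientGroup.eq, ← hcomm,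
          show (a * b)⁻¹ * (b * a) = ⁅b⁻¹, a⁻¹⁆ by simp [commutatorElement_def, mul_assoc], commutator_def]
        exact Subgroup.commutator_mem_commutator (Subgroup.mem_top _) (Subgroup.mem_top _)
      simp only [he, Function.comp_apply, map_one]
      exact CfsgLib.Char.irr_degree_one_of_comm hab hψ
    right
    push Not at hlin
    obtain ⟨z₀, hz₀, hz₀ne⟩ := hlin
    have hsc : ∀ z ∈ Z, ∃ k : ℂ, ρ z = k • LinearMap.id := by
      intro z hz
      obtain ⟨k, hk⟩ := (Representation.IsIrreducible.algebraMap_intertwiningMap_bijective_of_isAlgClosed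
        (ρ := ρ) (k := ℂ)).2 (⟨ρ z, fun c => by
          have := congr_arg ρ ((Subgroup.mem_center_iff.mp hz) c)
          rw [map_mul, map_mul] at this
          exact this.symm⟩ : Representation.IntertwiningMap ρ ρ)
      exact ⟨k, LinearMap.ext fun v => by
        have := congr_arg (fun J : Representation.IntertwiningMap ρ ρ => J.toLinearMap v) hk
        simpa [Algebra.algebraMap_eq_smul_one] using this.symm⟩
    have hoff : ∀ x, x ∉ Z → ρ.character x = 0 := by
      intro x hx
      obtain ⟨y, hy⟩ : ∃ y, y * x ≠ x * y := by simpa [Z, Subgroup.mem_center_iff] using hx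
      have hc : x⁻¹ * (y * x * y⁻¹) ∈ Z := by
        rw [show x⁻¹ * (y * x * y⁻¹) = ⁅x⁻¹, y⁆ by simp [commutatorElement_def, mul_assoc],
          ← hcomm, commutator_def]
        exact Subgroup.commutator_mem_commutator (Subgroup.mem_top _) (Subgroup.mem_top _)
      have h1 : x⁻¹ * (y * x * y⁻¹) ≠ 1 := fun h => hy (by
        rw [inv_mul_eq_one] at h
        exact (mul_inv_eq_iff_eq_mul.mp h.symm))
      obtain ⟨k, hk⟩ := hsc _ hc
      have h2 : ρ.character x = k * ρ.character x := by
        conv_lhs => rw [← Representation.char_conj ρ x y,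
          show y * x * y⁻¹ = x * (x⁻¹ * (y * x * y⁻¹)) by group]
        simp only [Representation.character, map_mul, hk, mul_smul_comm, map_smul, smul_eq_mul,
          show (LinearMap.id : (Fin m → ℂ) →ₗ[ℂ] _) = 1 from rfl, mul_one]
      by_contra h0
      have hk1 : k = 1 := (mul_left_eq_self₀.mp h2.symm).resolve_right h0
      have hker : Subgroup.zpowers (⟨_, hc⟩ : Z) = ⊤ := zpowers_eq_top_of_prime_card hZc
        (fun h => h1 (congr_arg Subtype.val h))
      obtain ⟨j, hj⟩ := Subgroup.mem_zpowers_iff.mp (hker ▸ Subgroup.mem_top (⟨z₀, hz₀⟩ : Z) :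
        (⟨z₀, hz₀⟩ : Z) ∈ Subgroup.zpowers (⟨_, hc⟩ : Z))
      have hj : (x⁻¹ * (y * x * y⁻¹)) ^ j = z₀ := congr_arg Subtype.val hj
      have : z₀ ∈ (MonoidHom.ker ρ : Subgroup P) :=
        hj ▸ Subgroup.zpow_mem _ (MonoidHom.mem_ker.mpr (by rw [hk, hk1, one_smul]; rfl)) j
      exact hz₀ne ((CfsgLib.Char.mem_ker_iff_char ρ z₀).mp this)
    have hn1 := CfsgLib.Char.irr_classInner_self (G := P) ⟨m, ρ, hρ, rfl⟩
    have hval : ∀ z ∈ Finset.univ.filter (fun x => x ∈ Z),
        ρ.character z * conj (ρ.character z) = (m : ℂ) ^ 2 := by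
      intro z hz
      obtain ⟨k, hk⟩ := hsc z (Finset.mem_filter.mp hz).2
      have hnt := CfsgLib.Char.nontrivial_of_isIrreducible ρ
      have hpow : k ^ Nat.card P = 1 := by
        have e : ρ z ^ Nat.card P = 1 := by rw [← map_pow, pow_card_eq_one', map_one]
        rw [hk, smul_pow, show (LinearMap.id : (Fin m → ℂ) →ₗ[ℂ] _) = 1 from rfl, one_pow] at e
        obtain ⟨v, hv⟩ := exists_ne (0 : Fin m → ℂ)
        have e2 := LinearMap.congr_fun e v
        simp only [LinearMap.smul_apply, Module.End.one_apply] at e2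
        exact smul_left_injective ℂ hv (e2.trans (one_smul ℂ v).symm)
      rw [Complex.mul_conj', Representation.character, hk, map_smul, LinearMap.trace_id, smul_eq_mul,
        norm_mul, Complex.norm_eq_one_of_pow_eq_one hpow Nat.card_pos.ne']
      simp
    rw [Cfsg.classInner, ← Finset.sum_filter_of_ne (p := fun x => x ∈ Z)
      (fun x _ h => by_contra fun hx => h (by rw [hoff x hx, zero_mul])), Finset.sum_congr rfl hval,
      Finset.sum_const, nsmul_eq_mul, ← Fintype.card_subtype,
      ← Nat.card_eq_fintype_card (α := {x : P // x ∈ Z}), hZc, hcard] at hn1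
    have h2 : (m : ℂ) ^ 2 = ((p ^ n : ℕ) : ℂ) ^ 2 := by
      push_cast at hn1 ⊢
      field_simp at hn1
      rw [← pow_mul]
      refine mul_left_cancel₀ hp0 ?_
      linear_combination hn1
    have h3 : m ^ 2 = (p ^ n) ^ 2 := by exact_mod_cast h2
    have h4 := Nat.pow_left_injective two_ne_zero h3
    simp [Representation.char_one, h4]
  refine ⟨hdeg, ?_⟩
  have hne : (p : ℂ) ^ n ≠ 1 := by
    intro h
    have : p ^ n = 1 := by exact_mod_cast h
    exact (Nat.one_lt_pow hn.ne' hp.one_lt).ne' this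
  have hsum := CfsgLib.Char.sum_irr_sq (G := P)
  have hlin := CfsgLib.Char.natCard_linearIrr (G := P)
  rw [hcomm, hidx, Nat.card_eq_fintype_card, Fintype.card_subtype] at hlin
  rw [Nat.card_eq_fintype_card, Fintype.card_subtype]
  rw [← Finset.sum_filter_add_sum_filter_not Finset.univ (fun χ : Cfsg.IrrCharacter P => (χ : P → ℂ) 1 = 1),
    Finset.sum_congr rfl (g := fun _ => (1 : ℂ)) (fun χ h => by rw [(Finset.mem_filter.mp h).2, one_pow]),
    Finset.sum_congr rfl (s₁ := Finset.univ.filter fun χ : Cfsg.IrrCharacter P => ¬ (χ : P → ℂ) 1 = 1)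
      (g := fun _ => ((p : ℂ) ^ n) ^ 2) (fun χ h => by
        rw [(hdeg χ).resolve_left (Finset.mem_filter.mp h).2]),
    Finset.sum_const, Finset.sum_const, hlin, hcard,
    show (Finset.univ.filter fun χ : Cfsg.IrrCharacter P => ¬ (χ : P → ℂ) 1 = 1) =
      Finset.univ.filter fun χ : Cfsg.IrrCharacter P => (χ : P → ℂ) 1 = (p : ℂ) ^ n from
      Finset.filter_congr fun χ _ => ⟨fun h => (hdeg χ).resolve_left h, fun h => h ▸ hne⟩,
    nsmul_eq_mul, nsmul_eq_mul, mul_one] at hsum
  set k := (Finset.univ.filter fun χ : Cfsg.IrrCharacter P => (χ : P → ℂ) 1 = (p : ℂ) ^ n).card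
  have e : p ^ (2 * n) + k * p ^ (2 * n) = p ^ (2 * n + 1) := by
    rw [← pow_mul, mul_comm n 2] at hsum
    exact_mod_cast hsum
  rw [pow_succ] at e
  have h5 : p ^ (2 * n) * (1 + k) = p ^ (2 * n) * p := by rw [← e]; ring
  have := Nat.eq_of_mul_eq_mul_left (pow_pos hp.pos _) h5
  omega

end Cfsg.Agent.S0894
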