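import Cfsg.Statements.S0895
import Mathlib
import Cfsg.Agent.Lib.Char.Inner
import Cfsg.Agent.Lib.Char.Integral

set_option autoImplicit false
open Cfsg

namespace Cfsg.Agent.S0895

set_option maxHeartbeats 1000000 in
/-- Let χ be a real-valued irreducible character of a finite group G whose degree is an odd natural number. Then the average over s in G of χ (s * s) equals 1. -/
theorem result {G : Type*} [Group G] [Fintype G] (χ : G → ℂ) (hχ : Cfsg.IsIrrCharacter G χ) (hreal : ∀ g : G, (χ g).im = 0) (d : ℕ) (hd : χ 1 = d) (hodd : Odd d) : (Nat.card G : ℂ)⁻¹ * ∑ s : G, χ (s * s) = 1 := by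
  classical
  obtain ⟨n, ρ, hρ, rfl⟩ := hχ
  have hirr : Cfsg.IsIrrCharacter G ρ.character := ⟨n, ρ, hρ, rfl⟩
  have hnd : n = d := by
    rw [Representation.char_one, Module.finrank_fin_fun] at hd
    exact_mod_cast hd
  let R : G → Matrix (Fin n) (Fin n) ℂ := fun g => LinearMap.toMatrix' (ρ g)
  have hR : ∀ g h, R (g * h) = R g * R h := fun g h => by
    simp only [R, map_mul, Module.End.mul_eq_comp, LinearMap.toMatrix'_comp]
  have hR1 : R 1 = 1 := by simp [R, map_one, Module.End.one_eq_id]
  have hχR : ∀ g, ρ.character g = (R g).trace := fun g => by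
    rw [Representation.character, LinearMap.trace_eq_matrix_trace ℂ (Pi.basisFun ℂ (Fin n))]
    rfl
  let σ : Representation ℂ G (Fin n → ℂ) :=
    { toFun := fun g => Matrix.toLin' (R g⁻¹).transpose
      map_one' := by simp [hR1, Module.End.one_eq_id]
      map_mul' := fun g h => by
        rw [mul_inv_rev, hR, Matrix.transpose_mul, Matrix.toLin'_mul, Module.End.mul_eq_comp] }
  have hσ : ρ.character = σ.character := by
    funext g
    have e : σ.character g = ((R g⁻¹).transpose).trace := by
      rw [Representation.character, LinearMap.trace_eq_matrix_trace ℂ (Pi.basisFun ℂ (Fin n))]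
      congr 1
      exact LinearMap.toMatrix'_toLin' _
    rw [e, Matrix.trace_transpose, ← hχR, CfsgLib.Char.char_inv (CfsgLib.Char.irr_isCharacter hirr)]
    exact (Complex.conj_eq_iff_im.mpr (hreal g)).symm
  obtain ⟨φ⟩ := CfsgLib.Char.equiv_of_char_eq ρ σ hσ
  set B := LinearMap.toMatrix' (φ.toLinearEquiv.toLinearMap) with hB
  have hBinv : ∀ g, (R g).transpose * B * R g = B := by
    intro g
    have h1 : φ.toLinearEquiv.toLinearMap ∘ₗ ρ g = σ g ∘ₗ φ.toLinearEquiv.toLinearMap :=
      φ.toIntertwiningMap.isIntertwining' g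
    have h2 := congr_arg LinearMap.toMatrix' h1
    rw [LinearMap.toMatrix'_comp, LinearMap.toMatrix'_comp] at h2
    have h3 : B * R g = (R g⁻¹).transpose * B := by
      rw [h2]; congr 1; exact LinearMap.toMatrix'_toLin' _
    rw [mul_assoc, h3, ← mul_assoc, ← Matrix.transpose_mul, ← hR, inv_mul_cancel, hR1,
      Matrix.transpose_one, one_mul]
  have hBB : LinearMap.toMatrix' (φ.toLinearEquiv.symm.toLinearMap) * B = 1 := by
    rw [hB, ← LinearMap.toMatrix'_comp, LinearEquiv.symm_comp, LinearMap.toMatrix'_id]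
  set C := LinearMap.toMatrix' (φ.toLinearEquiv.symm.toLinearMap) with hC
  have hBC : B * C = 1 := mul_eq_one_comm.mp hBB
  have huniq : ∀ X : Matrix (Fin n) (Fin n) ℂ, (∀ g, (R g).transpose * X * R g = X) → ∃ c : ℂ, X = c • B := by
    intro X hX
    have hcom : ∀ g, C * X * R g = R g * (C * X) := by
      intro g
      have e1 : ∀ Y : Matrix (Fin n) (Fin n) ℂ, (R g).transpose * Y * R g = Y → Y * R g = (R g⁻¹).transpose * Y :=
        fun Y hY => by
          conv_rhs => rw [← hY]
          rw [← mul_assoc, ← mul_assoc, ← Matrix.transpose_mul, ← hR, mul_inv_cancel, hR1,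
            Matrix.transpose_one, one_mul]
      have e2 : C * (R g⁻¹).transpose = R g * C := by
        calc C * (R g⁻¹).transpose = C * ((R g⁻¹).transpose * B) * C := by rw [mul_assoc, mul_assoc, hBC, mul_one]
          _ = C * B * R g * C := by rw [← e1 B (hBinv g), mul_assoc C B]
          _ = R g * C := by rw [hBB, one_mul]
      rw [mul_assoc, e1 X (hX g), ← mul_assoc, e2, mul_assoc]
    obtain ⟨k, hk⟩ := (Representation.IsIrreducible.algebraMap_intertwiningMap_bijective_of_isAlgClosed
      (ρ := ρ) (k := ℂ)).2 (⟨Matrix.toLin' (C * X), fun g => by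
        have := congr_arg Matrix.toLin' (hcom g)
        simp only [R, Matrix.toLin'_mul, Matrix.toLin'_toMatrix', LinearMap.comp_assoc] at this
        simpa only [Matrix.toLin'_mul, LinearMap.comp_assoc] using this⟩ : Representation.IntertwiningMap ρ ρ)
    have hk : Matrix.toLin' (C * X) = k • LinearMap.id := LinearMap.ext fun v => by
      have := congr_arg (fun J : Representation.IntertwiningMap ρ ρ => J.toLinearMap v) hk
      simpa [Algebra.algebraMap_eq_smul_one] using this.symm
    refine ⟨k, ?_⟩
    have h4 : C * X = k • (1 : Matrix (Fin n) (Fin n) ℂ) := Matrix.toLin'.injective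
      (by rw [hk, map_smul, Matrix.toLin'_one])
    calc X = B * (C * X) := by rw [← mul_assoc, hBC, one_mul]
      _ = k • B := by rw [h4, mul_smul_comm, mul_one]
  obtain ⟨c, hc⟩ := huniq B.transpose (fun g => by
    conv_rhs => rw [← hBinv g]
    rw [Matrix.transpose_mul, Matrix.transpose_mul, Matrix.transpose_transpose, mul_assoc])
  have hdet : B.det ≠ 0 := fun h => by
    have := congr_arg Matrix.det hBC
    rw [Matrix.det_mul, h, zero_mul, Matrix.det_one] at this
    exact zero_ne_one this
  have hc1 : c = 1 := by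
    have h1 : c ^ n = 1 := by
      have := congr_arg Matrix.det hc
      rw [Matrix.det_transpose, Matrix.det_smul, Fintype.card_fin] at this
      exact mul_right_cancel₀ hdet (by rw [one_mul]; exact this.symm)
    have h2 : c * c = 1 := by
      have h3 : B = (c * c) • B := by
        conv_lhs => rw [← Matrix.transpose_transpose B, hc, Matrix.transpose_smul, hc, smul_smul]
      by_contra hne
      have h4 : (c * c - 1) • B = 0 := by rw [sub_smul, one_smul, ← h3, sub_self]
      have h5 : B = 0 := (smul_eq_zero.mp h4).resolve_left (sub_ne_zero.mpr hne)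
      have hn : 0 < n := hnd ▸ hodd.pos
      have : Nonempty (Fin n) := ⟨⟨0, hn⟩⟩
      exact hdet (by rw [h5, Matrix.det_zero])
    obtain ⟨m, hm⟩ := hnd ▸ hodd
    rw [hm, pow_succ, pow_mul, pow_two, h2, one_pow, one_mul] at h1
    exact h1
  let T : Matrix (Fin n) (Fin n) ℂ →ₗ[ℂ] Matrix (Fin n) (Fin n) ℂ :=
    { toFun := fun X => (Nat.card G : ℂ)⁻¹ • ∑ g : G, (R g).transpose * X.transpose * R g
      map_add' := fun X Y => by simp [Matrix.transpose_add, mul_add, add_mul, Finset.sum_add_distrib, smul_add]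
      map_smul' := fun r X => by simp [Matrix.transpose_smul, Finset.smul_sum, smul_smul, mul_comm] }
  have hTinv : ∀ X, ∃ k : ℂ, T X = k • B := by
    intro X
    refine huniq _ fun h => ?_
    simp only [T, LinearMap.coe_mk, AddHom.coe_mk, mul_smul_comm, smul_mul_assoc, Finset.mul_sum, Finset.sum_mul]
    congr 1
    refine Fintype.sum_equiv (Equiv.mulRight h) _ _ fun g => ?_
    simp only [Equiv.coe_mulRight, hR, Matrix.transpose_mul, mul_assoc]
  choose k hk using hTinv
  obtain ⟨i, j, hij⟩ : ∃ i j, B i j ≠ 0 := by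
    by_contra h
    push Not at h
    have hn : 0 < n := hnd ▸ hodd.pos
    have : Nonempty (Fin n) := ⟨⟨0, hn⟩⟩
    exact hdet (by rw [show B = 0 from Matrix.ext h, Matrix.det_zero])
  let φl : Matrix (Fin n) (Fin n) ℂ →ₗ[ℂ] ℂ := (B i j)⁻¹ • ((LinearMap.proj j).comp (LinearMap.proj i) ∘ₗ T)
  have hT : T = φl.smulRight B := LinearMap.ext fun X => by
    show T X = ((B i j)⁻¹ * T X i j) • B
    rw [hk X]
    congr 1
    simp only [Matrix.smul_apply, smul_eq_mul]
    field_simp
  have hTB : φl B = 1 := by
    show (B i j)⁻¹ * T B i j = 1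
    have : T B = B := by
      simp only [T, LinearMap.coe_mk, AddHom.coe_mk, hc, hc1, one_smul, hBinv, Finset.sum_const,
        Finset.card_univ, ← Nat.card_eq_fintype_card]
      rw [← Nat.cast_smul_eq_nsmul ℂ, smul_smul, inv_mul_cancel₀ CfsgLib.Char.natCard_ne_zero, one_smul]
    rw [this]; field_simp
  have htr : LinearMap.trace ℂ _ T = 1 := by rw [hT, LinearMap.trace_smulRight, hTB]
  rw [LinearMap.trace_eq_matrix_trace ℂ (Matrix.stdBasis ℂ (Fin n) (Fin n)), Matrix.trace] at htr
  have hrepr : ∀ (M : Matrix (Fin n) (Fin n) ℂ) (q : Fin n × Fin n),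
      (Matrix.stdBasis ℂ (Fin n) (Fin n)).repr M q = M q.1 q.2 := fun M q => by
    simp [Matrix.stdBasis]
  rw [← htr, Finset.mul_sum, Fintype.sum_prod_type]
  simp only [Matrix.diag_apply, LinearMap.toMatrix_apply, Matrix.stdBasis_eq_single, hrepr,
    T, LinearMap.coe_mk, AddHom.coe_mk, Matrix.smul_apply, smul_eq_mul, Matrix.sum_apply, Finset.mul_sum]
  rw [Finset.sum_congr rfl fun s _ => by rw [hχR, hR, Matrix.trace]]
  simp only [Matrix.diag_apply, Matrix.mul_apply, Matrix.transpose_single, Finset.mul_sum]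
  rw [Finset.sum_comm]
  refine Finset.sum_congr rfl fun a _ => ?_
  rw [Finset.sum_comm]
  refine Finset.sum_congr rfl fun b _ => Finset.sum_congr rfl fun s _ => ?_
  simp [Matrix.single, Matrix.transpose_apply, mul_comm, ite_and]

end Cfsg.Agent.S0895
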