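import Cfsg.Statements.S0896
import Cfsg.Agent.Lib.Char.Brauer
import Cfsg.Agent.Lib.Char.Inner

set_option autoImplicit false
open scoped ComplexConjugate
open Cfsg

open scoped ComplexConjugate
namespace Cfsg.Agent.S0896

open scoped Classical in
theorem dvd_sum_mul {α : Type*} [Fintype α] {E : Type*} [Group E] (p : ℕ) [Fact p.Prime]
    (f : E →* Equiv.Perm α) (hf : IsPGroup p f.range) (c d : α → ℕ)
    (hc : ∀ g a, c (f g a) = c a) (hd : ∀ g a, d (f g a) = d a)
    (hfix : ∀ a, (∀ g, f g a = a) → p ∣ c a) : p ∣ ∑ a, c a * d a := by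
  let B := ∑ a, c a * d a
  have hB : ∀ a, c a * d a ≤ B := fun a =>
    Finset.single_le_sum (f := fun a => c a * d a) (fun b _ => Nat.zero_le _) (Finset.mem_univ a)
  let X := {q : α × Fin B // (q.2 : ℕ) < c q.1 * d q.1}
  have hcard : Nat.card X = B := by
    have e : X ≃ Σ a : α, Fin (c a * d a) :=
      { toFun := fun q => ⟨q.1.1, ⟨q.1.2, q.2⟩⟩
        invFun := fun q => ⟨(q.1, ⟨q.2, lt_of_lt_of_le q.2.2 (hB q.1)⟩), q.2.2⟩
        left_inv := fun q => rfl
        right_inv := fun q => rfl }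
    rw [Nat.card_congr e, Nat.card_sigma]
    simp [B]
  have hinv : ∀ (g : f.range) (a : α), c ((g : Equiv.Perm α) a) * d ((g : Equiv.Perm α) a) = c a * d a := by
    rintro ⟨_, g, rfl⟩ a
    rw [hc, hd]
  let act : MulAction f.range X :=
    { smul := fun g q => ⟨((g : Equiv.Perm α) q.1.1, q.1.2), by rw [hinv]; exact q.2⟩
      one_smul := fun q => Subtype.ext (Prod.ext rfl rfl)
      mul_smul := fun g h q => Subtype.ext (Prod.ext rfl rfl) }
  have h1 := hf.card_modEq_card_fixedPoints X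
  rw [hcard] at h1
  refine (Nat.modEq_zero_iff_dvd.mp (h1.trans (Nat.modEq_zero_iff_dvd.mpr ?_)))
  have e2 : MulAction.fixedPoints f.range X ≃ Σ a : {a : α // ∀ g, f g a = a}, Fin (c a * d a) :=
    { toFun := fun q => ⟨⟨q.1.1.1, fun g => congr_arg (fun z : X => z.1.1) (q.2 ⟨f g, g, rfl⟩)⟩,
        ⟨q.1.1.2, q.1.2⟩⟩
      invFun := fun q => ⟨⟨(q.1.1, ⟨q.2, lt_of_lt_of_le q.2.2 (hB q.1)⟩), q.2.2⟩, by
        rintro ⟨_, g, rfl⟩
        exact Subtype.ext (Prod.ext (q.1.2 g) rfl)⟩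
      left_inv := fun q => rfl
      right_inv := fun q => rfl }
  rw [Nat.card_congr e2, Nat.card_sigma]
  simp only [Nat.card_fin]
  exact Finset.dvd_sum fun a _ => Dvd.dvd.mul_right (hfix a a.2) _

/-- Let N be a normal subgroup of the finite group G with the index of N a power of the prime p, and ϑ an irreducible character of N invariant under conjugation by G. Then there are a p-elementary subgroup E of G with E ⊔ N = ⊤ and an irreducible character φ of the subgroup E ⊓ N, invariant under conjugation by E, such that the inner product of the restriction of ϑ to E ⊓ N with φ is an integer not divisible by p. -/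
theorem result {G : Type*} [Group G] [Fintype G] (p : ℕ) (hp : p.Prime) (N : Subgroup G) [hN : N.Normal] (hind : ∃ k : ℕ, N.index = p ^ k) (ϑ : N → ℂ) (hϑ : Cfsg.IsIrrCharacter N ϑ) (hinv : ∀ (g : G) (n : N), ϑ ⟨g * n * g⁻¹, hN.conj_mem (n : G) n.2 g⟩ = ϑ n) : ∃ (E : Subgroup G) (φ : ↥(E ⊓ N) → ℂ), Cfsg.IsElementary p E ∧ E ⊔ N = ⊤ ∧ Cfsg.IsIrrCharacter ↥(E ⊓ N) φ ∧ (∀ (g : G) (hg : g ∈ E) (x : ↥(E ⊓ N)), φ ⟨g * x * g⁻¹, ⟨(E.mul_mem (E.mul_mem hg x.2.1) (E.inv_mem hg)), hN.conj_mem (x : G) x.2.2 g⟩⟩ = φ x) ∧ ∃ m : ℕ, ¬ p ∣ m ∧ (Nat.card ↥(E ⊓ N) : ℂ)⁻¹ * ∑ᶠ x : ↥(E ⊓ N), ϑ ⟨(x : G), x.2.2⟩ * conj (φ x) = (m : ℂ) := by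
  classical
  have : Fact p.Prime := ⟨hp⟩
  have : Fintype N := Fintype.ofFinite N
  obtain ⟨k, hk⟩ := hind
  by_contra hcon
  let I : (G → ℂ) → ℂ := fun F => (Nat.card N : ℂ)⁻¹ * ∑ n : N, F n * (ϑ n * conj (ϑ n))
  have hext : ∀ (g : G) (n : N), Cfsg.extendByZero N ϑ (g * n * g⁻¹) = ϑ n := fun g n => by
    rw [CfsgLib.Char.extendByZero_of_mem ϑ (hN.conj_mem (n : G) n.2 g), hinv g n]
  -- one elementary subgroup
  have key : ∀ (E : Subgroup G) (μ : E →* ℂˣ), Cfsg.IsElementary p E →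
      ∃ z : ℤ, I (Cfsg.indFun E fun e => (μ e : ℂ)) = (p : ℂ) * z := by
    intro E μ hE
    have : Fintype ↥(E ⊓ N) := Fintype.ofFinite _
    have : Fintype (Cfsg.IrrCharacter ↥(E ⊓ N)) := Fintype.ofFinite _
    let incN : ↥(E ⊓ N) →* N := Subgroup.inclusion inf_le_right
    let incE : ↥(E ⊓ N) →* E := Subgroup.inclusion inf_le_left
    set θ : ↥(E ⊓ N) → ℂ := ϑ ∘ incN with hθdef
    have hθ : Cfsg.IsCharacter ↥(E ⊓ N) θ :=
      CfsgLib.Char.isCharacter_comp (CfsgLib.Char.irr_isCharacter hϑ) incN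
    set lam : ↥(E ⊓ N) → ℂ := fun x => (μ (incE x) : ℂ) * θ x with hlamdef
    have hlam : Cfsg.IsCharacter ↥(E ⊓ N) lam := CfsgLib.Char.isCharacter_mul
      (CfsgLib.Char.isCharacter_comp (CfsgLib.Char.irr_isCharacter
        (CfsgLib.Char.isIrrCharacter_linear μ)) incE) hθ
    -- value of the functional
    have hval : I (Cfsg.indFun E fun e => (μ e : ℂ)) = ((E ⊔ N).index : ℂ) * Cfsg.classInner lam θ := by
      have hterm : ∀ x : G, ∑ n : N, Cfsg.extendByZero E (fun e => (μ e : ℂ)) (x⁻¹ * n * x) *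
          (ϑ n * conj (ϑ n)) = ∑ y : ↥(E ⊓ N), lam y * conj (θ y) := by
        intro x
        let e : N ≃ N := ((MulAut.conjNormal x⁻¹ : MulAut N)).toEquiv
        rw [Finset.sum_congr rfl (g := fun n : N => (fun m : N =>
          Cfsg.extendByZero E (fun e => (μ e : ℂ)) m * (ϑ m * conj (ϑ m))) (e n)) fun n _ => ?_,
          Equiv.sum_comp e (fun m : N => Cfsg.extendByZero E (fun e => (μ e : ℂ)) m * (ϑ m * conj (ϑ m))),
          ← Finset.sum_subset (Finset.subset_univ (Finset.univ.filter fun m : N => (m : G) ∈ E))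
            fun m _ hm => by
              rw [CfsgLib.Char.extendByZero_of_not_mem _ fun h =>
                hm (Finset.mem_filter.mpr ⟨Finset.mem_univ _, h⟩), zero_mul]]
        · refine Finset.sum_bij (fun m hm => ⟨(m : G), (Finset.mem_filter.mp hm).2, m.2⟩)
            (fun _ _ => Finset.mem_univ _) (fun a _ b _ h =>
              Subtype.ext (congr_arg (fun z : ↥(E ⊓ N) => (z : G)) h :))
            (fun y _ => ⟨incN y, Finset.mem_filter.mpr ⟨Finset.mem_univ _, y.2.1⟩, rfl⟩)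
            fun m hm => ?_
          rw [CfsgLib.Char.extendByZero_of_mem _ (Finset.mem_filter.mp hm).2]
          simp only [hlamdef, hθdef, Function.comp_apply, mul_assoc]
          rfl
        · have h1 : ((e n : N) : G) = x⁻¹ * n * x := by simp [e]
          have h2 : ϑ (e n) = ϑ n := by
            rw [← hinv x⁻¹ n]; exact congr_arg ϑ (Subtype.ext (by simp [e]))
          simp only [h2, h1]
      have hrel : (Nat.card G : ℂ) * Nat.card ↥(E ⊓ N) =
          ((E ⊔ N).index : ℂ) * Nat.card E * Nat.card N := by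
        have h1 : N.relIndex E * (E ⊔ N).index = N.index := by
          rw [← Subgroup.relIndex_sup_right (H := E) (K := N)]
          exact Subgroup.relIndex_mul_index le_sup_right
        have h2 : Nat.card ↥(E ⊓ N) * N.relIndex E = Nat.card E := by
          rw [Nat.card_congr (Subgroup.subgroupOfEquivOfLe (inf_le_left : E ⊓ N ≤ E)).symm.toEquiv,
            Subgroup.inf_subgroupOf_left]
          exact Subgroup.card_mul_index _
        have h3 := Subgroup.card_mul_index N
        rw [← h3, ← h1, ← h2]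
        push_cast; ring
      show (Nat.card N : ℂ)⁻¹ * _ = _
      simp only [CfsgLib.Char.indFun_def]
      simp only [mul_assoc (Nat.card E : ℂ)⁻¹, ← Finset.mul_sum]
      simp only [Finset.sum_mul]
      rw [Finset.sum_comm, Finset.sum_congr rfl fun x _ => hterm x, Finset.sum_const, nsmul_eq_mul,
        Finset.card_univ, ← Nat.card_eq_fintype_card, CfsgLib.Char.classInner_def]
      have hN0 : (Nat.card N : ℂ) ≠ 0 := Nat.cast_ne_zero.mpr Nat.card_pos.ne'
      have hE0 : (Nat.card E : ℂ) ≠ 0 := Nat.cast_ne_zero.mpr Nat.card_pos.ne'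
      have hA0 : (Nat.card ↥(E ⊓ N) : ℂ) ≠ 0 := Nat.cast_ne_zero.mpr Nat.card_pos.ne'
      field_simp
      linear_combination (∑ y : ↥(E ⊓ N), lam y * conj (θ y)) * hrel
    obtain ⟨s, hs⟩ := CfsgLib.Char.classInner_isCharacter_nat hlam hθ
    by_cases htop : E ⊔ N = ⊤
    swap
    · have hd : (E ⊔ N).index ∣ p ^ k := hk ▸ Subgroup.index_dvd_of_le le_sup_right
      obtain ⟨j, -, hj⟩ := (Nat.dvd_prime_pow hp).1 hd
      have hj0 : j ≠ 0 := fun h0 => htop (Subgroup.index_eq_one.mp (by rw [hj, h0, pow_zero]))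
      obtain ⟨i, rfl⟩ := Nat.exists_eq_succ_of_ne_zero hj0
      refine ⟨(p ^ i * s : ℕ), ?_⟩
      rw [hval, hj, hs, pow_succ']
      push_cast; ring
    -- covering case: all invariant constituents have multiplicity divisible by `p`
    choose c hc using fun φ : Cfsg.IrrCharacter ↥(E ⊓ N) =>
      CfsgLib.Char.classInner_isCharacter_nat hθ (CfsgLib.Char.irr_isCharacter φ.2)
    choose d hd using fun φ : Cfsg.IrrCharacter ↥(E ⊓ N) =>
      CfsgLib.Char.classInner_isCharacter_nat hlam (CfsgLib.Char.irr_isCharacter φ.2)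
    have hsum : Cfsg.classInner lam θ = ((∑ φ, c φ * d φ : ℕ) : ℂ) := by
      rw [CfsgLib.Char.classInner_eq_sum_mul (CfsgLib.Char.isCharacter_isClassFunction hlam) θ]
      push_cast
      refine Finset.sum_congr rfl fun φ _ => ?_
      rw [hd φ, hc φ, map_natCast, mul_comm]
    have hcm : ∀ (g : E) (x : ↥(E ⊓ N)), (g : G) * x * (g : G)⁻¹ ∈ E ⊓ N := fun g x =>
      ⟨E.mul_mem (E.mul_mem g.2 x.2.1) (E.inv_mem g.2), hN.conj_mem _ x.2.2 _⟩
    let cj : E → ↥(E ⊓ N) →* ↥(E ⊓ N) := fun g => MonoidHom.mk' (fun x => ⟨_, hcm g x⟩)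
      fun a b => Subtype.ext (by simp [mul_assoc])
    have hcjs : ∀ g, Function.Surjective (cj g) := fun g x => ⟨cj g⁻¹ x, Subtype.ext (by
      simp [cj, mul_assoc])⟩
    let F : E →* Equiv.Perm (Cfsg.IrrCharacter ↥(E ⊓ N)) := MonoidHom.mk' (fun g =>
      { toFun := fun φ => ⟨φ.1 ∘ cj g⁻¹, CfsgLib.Char.isIrrCharacter_comp_surjective φ.2 _ (hcjs _)⟩
        invFun := fun φ => ⟨φ.1 ∘ cj g, CfsgLib.Char.isIrrCharacter_comp_surjective φ.2 _ (hcjs _)⟩
        left_inv := fun φ => Subtype.ext (funext fun x => congr_arg φ.1 (Subtype.ext (by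
          simp [cj, mul_assoc])))
        right_inv := fun φ => Subtype.ext (funext fun x => congr_arg φ.1 (Subtype.ext (by
          simp [cj, mul_assoc]))) }) fun g h => Equiv.ext fun φ => Subtype.ext (funext fun x =>
        congr_arg φ.1 (Subtype.ext (by simp [cj, mul_assoc])))
    obtain ⟨x₀, hx₀, hcop, j, hj⟩ := hE
    have hF : IsPGroup p F.range := by
      have hle : Subgroup.zpowers x₀ ≤ F.ker := by
        rw [Subgroup.zpowers_le]
        refine Equiv.ext fun φ => Subtype.ext (funext fun x => congr_arg φ.1 (Subtype.ext ?_))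
        show ((x₀⁻¹ : E) : G) * x * ((x₀⁻¹ : E) : G)⁻¹ = (x : G)
        have h := Subgroup.mem_center_iff.mp (Subgroup.inv_mem _ hx₀) ⟨(x : G), x.2.1⟩
        have h' : (x : G) * ((x₀⁻¹ : E) : G) = ((x₀⁻¹ : E) : G) * x := congr_arg Subtype.val h
        rw [← h', mul_inv_cancel_right]
      have hd : F.ker.index ∣ p ^ j := hj ▸ Subgroup.index_dvd_of_le hle
      obtain ⟨i, -, hi⟩ := (Nat.dvd_prime_pow hp).1 hd
      refine IsPGroup.of_card (n := i) ?_
      rw [← hi, Subgroup.index_ker]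
    have hinvc : ∀ (F₁ : ↥(E ⊓ N) → ℂ), (∀ g x, F₁ (cj g x) = F₁ x) → ∀ g φ,
        Cfsg.classInner F₁ ((F g φ).1) = Cfsg.classInner F₁ φ.1 := by
      intro F₁ h1 g φ
      rw [CfsgLib.Char.classInner_def, CfsgLib.Char.classInner_def]
      congr 1
      refine Fintype.sum_bijective (cj g⁻¹) ((Finite.surjective_iff_bijective).mp (hcjs _)) _ _
        fun x => ?_
      show F₁ x * _ = _
      rw [h1]; rfl
    have hθinv : ∀ (g : E) x, θ (cj g x) = θ x := fun g x => hinv (g : G) (incN x)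
    have hlaminv : ∀ (g : E) x, lam (cj g x) = lam x := fun g x => by
      simp only [hlamdef, hθinv]
      rw [show incE (cj g x) = g * incE x * g⁻¹ from Subtype.ext rfl, map_mul, map_mul, map_inv,
        mul_comm (μ g), mul_inv_cancel_right]
    have hdiv := dvd_sum_mul p F hF c d
      (fun g φ => Nat.cast_injective (R := ℂ) (by
        rw [← hc, ← hc, hinvc θ hθinv]))
      (fun g φ => Nat.cast_injective (R := ℂ) (by
        rw [← hd, ← hd, hinvc lam hlaminv]))
      (fun φ hfix => by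
        by_contra hnd
        refine hcon ⟨E, φ.1, ⟨x₀, hx₀, hcop, j, hj⟩, htop, φ.2, fun g hg x => ?_, c φ, hnd, ?_⟩
        · have h := congr_fun (congr_arg Subtype.val (hfix (⟨g, hg⟩ : E)⁻¹)) x
          refine Eq.trans (congr_arg φ.1 (Subtype.ext ?_)) h
          simp [cj]
        · rw [finsum_eq_sum_of_fintype, ← hc φ, CfsgLib.Char.classInner_def]
          rfl)
    obtain ⟨t, ht⟩ := hdiv
    refine ⟨(t : ℤ), ?_⟩
    rw [hval, htop, Subgroup.index_top, hsum, ht]
    push_cast; ring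
  obtain ⟨m, hm, hmem⟩ := CfsgLib.Char.exists_const_mem_brauerSpan (G := G) p hp
  rw [CfsgLib.Char.brauerSpan] at hmem
  have hall : ∀ f ∈ AddSubgroup.closure {f : G → ℂ | ∃ (E : Subgroup G) (μ : E →* ℂˣ),
      Cfsg.IsElementary p E ∧ f = Cfsg.indFun E (fun e => (μ e : ℂ))}, ∃ z : ℤ, I f = (p : ℂ) * z := by
    intro f hf
    induction hf using AddSubgroup.closure_induction with
    | mem x hx => obtain ⟨E, μ, hE, rfl⟩ := hx; exact key E μ hE
    | zero => exact ⟨0, by simp [I]⟩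
    | add a b _ _ ha hb =>
      obtain ⟨za, ha⟩ := ha; obtain ⟨zb, hb⟩ := hb
      refine ⟨za + zb, ?_⟩
      rw [show I (a + b) = I a + I b by simp only [I, Pi.add_apply, add_mul, Finset.sum_add_distrib, mul_add],
        ha, hb]
      push_cast; ring
    | neg a _ ha =>
      obtain ⟨za, ha⟩ := ha
      refine ⟨-za, ?_⟩
      rw [show I (-a) = -I a by simp only [I, Pi.neg_apply, neg_mul, Finset.sum_neg_distrib, mul_neg], ha]
      push_cast; ring
  obtain ⟨z, hz⟩ := hall _ hmem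
  have hone : I (fun _ => (m : ℂ)) = m := by
    have h := CfsgLib.Char.irr_classInner_self hϑ
    rw [CfsgLib.Char.classInner_def] at h
    simp only [I, ← Finset.mul_sum]
    rw [mul_left_comm, h, mul_one]
  rw [hone] at hz
  exact hm ⟨z, by exact_mod_cast hz⟩

end Cfsg.Agent.S0896
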