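import Cfsg.Statements.S0897
import Cfsg.Agent.S0896
import Cfsg.Agent.Lib.Clifford.Extension
import Cfsg.Agent.Lib.Char.Linear
import Mathlib.GroupTheory.FiniteAbelian.Duality
import Mathlib.RingTheory.RootsOfUnity.AlgebraicallyClosed
import Mathlib.GroupTheory.Sylow

set_option autoImplicit false
open Cfsg

open scoped ComplexConjugate
namespace Cfsg.Agent.S0897

open CfsgLib.Clifford in
/-- A linear character of a subgroup of a finite abelian group extends. -/
theorem extend_hom {B : Type*} [Group B] [Finite B] (hB : ∀ a b : B, a * b = b * a)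
    (H : Subgroup B) (f : H →* ℂˣ) : ∃ F : B →* ℂˣ, ∀ h : H, F h = f h := by
  letI : CommGroup B := { ‹Group B› with mul_comm := hB }
  obtain ⟨F, hF⟩ := MonoidHom.domRestrict_surjective ℂ H f
  exact ⟨F, fun h => DFunLike.congr_fun hF h⟩

/-- A linear character pushed along an injective map into a finite abelian group extends. -/
theorem extend_along {A B : Type*} [Group A] [Group B] [Finite B] (hB : ∀ a b : B, a * b = b * a)
    (j : A →* B) (hj : Function.Injective j) (f : A →* ℂˣ) :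
    ∃ F : B →* ℂˣ, ∀ a, F (j a) = f a := by
  obtain ⟨F, hF⟩ := extend_hom hB j.range
    (f.comp (MonoidHom.ofInjective hj).symm.toMonoidHom)
  refine ⟨F, fun a => ?_⟩
  have := hF (MonoidHom.ofInjective hj a)
  simp only [MonoidHom.comp_apply, MulEquiv.coe_toMonoidHom, MulEquiv.symm_apply_apply] at this
  exact this

open scoped ComplexConjugate in
/-- The central eigenspace of an invariant character gives a split exponent. -/
theorem mult_mem_splitExps {G : Type*} [Group G] {N : Subgroup G} [N.Normal] [Finite N]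
    {n : ℕ} (ρ : Representation ℂ N (Fin n → ℂ))
    (E : Subgroup G) (hE : E ⊔ N = ⊤)
    (hcen : ∀ e ∈ E, ∀ a ∈ E ⊓ N, e * a = a * e)
    (μ : E →* ℂˣ) (m : ℕ)
    (hm : (Nat.card ↥(E ⊓ N) : ℂ)⁻¹ * ∑ᶠ x : ↥(E ⊓ N),
      ρ.character ⟨(x : G), x.2.2⟩ * conj (μ ⟨(x : G), x.2.1⟩ : ℂ) = (m : ℂ)) :
    (m : ℤ) ∈ CfsgLib.Clifford.splitExps ρ := by
  classical
  have : Finite ↥(E ⊓ N) := Finite.of_injective (Subgroup.inclusion (inf_le_right : E ⊓ N ≤ N))
    (Subgroup.inclusion_injective _)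
  have : Fintype ↥(E ⊓ N) := Fintype.ofFinite _
  let iE : ↥(E ⊓ N) →* E := Subgroup.inclusion inf_le_left
  let iN : ↥(E ⊓ N) →* N := Subgroup.inclusion inf_le_right
  let τ : Representation ℂ ↥(E ⊓ N) (Fin n → ℂ) :=
    { toFun := fun a => ((μ (iE a))⁻¹ : ℂˣ).val • ρ (iN a)
      map_one' := by simp
      map_mul' := fun a b => by
        simp only [map_mul, mul_inv, Units.val_mul, smul_mul_smul_comm] }
  have : Invertible (Nat.card ↥(E ⊓ N) : ℂ) :=
    invertibleOfNonzero (Nat.cast_ne_zero.mpr Nat.card_pos.ne')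
  have hW : Module.finrank ℂ τ.invariants = m := by
    have h1 := τ.card_inv_mul_sum_char_eq_finrank
    rw [show ∑ a, τ.character a = ∑ᶠ x : ↥(E ⊓ N),
      ρ.character ⟨(x : G), x.2.2⟩ * conj (μ ⟨(x : G), x.2.1⟩ : ℂ) from ?_, hm] at h1
    · exact_mod_cast h1.symm
    rw [finsum_eq_sum_of_fintype]
    refine Finset.sum_congr rfl fun a _ => ?_
    have hpow : ((μ (iE a) : ℂˣ) : ℂ) ^ Nat.card ↥(E ⊓ N) = 1 := by
      rw [← Units.val_pow_eq_pow_val, ← map_pow, ← map_pow, pow_card_eq_one', map_one, map_one,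
        Units.val_one]
    have : conj ((μ (iE a) : ℂˣ) : ℂ) = ((μ (iE a))⁻¹ : ℂˣ).val := by
      rw [Units.val_inv_eq_inv_val, Complex.inv_eq_conj]
      exact Complex.norm_eq_one_of_pow_eq_one hpow Nat.card_pos.ne'
    change LinearMap.trace ℂ _ (((μ (iE a))⁻¹ : ℂˣ).val • ρ (iN a)) = _
    rw [map_smul, smul_eq_mul, mul_comm, ← this]
    rfl
  let S := CfsgLib.Clifford.intertwiners ρ
  let SE : Subgroup S := E.comap (CfsgLib.Clifford.proj ρ)
  -- the operators preserve the eigenspace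
  have hmaps : ∀ e : SE, ∀ v ∈ τ.invariants,
      (CfsgLib.Clifford.opUnits ρ (e : S)).val v ∈ τ.invariants := by
    intro e v hv a
    have hc : CfsgLib.Clifford.conjN (CfsgLib.Clifford.proj ρ (e : S)) (iN a) = iN a := by
      refine Subtype.ext ?_
      rw [CfsgLib.Clifford.coe_conjN]
      change _ * (a : G) * _ = (a : G)
      rw [hcen _ e.2 a a.2, mul_inv_cancel_right]
    have h := congr_arg Units.val (CfsgLib.Clifford.opUnits_mul_rep ρ (e : S) (iN a))
    rw [hc] at h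
    simp only [Units.val_mul, CfsgLib.Clifford.coe_repUnits] at h
    have h' := congr_arg (fun T : Module.End ℂ (Fin n → ℂ) => T v) h
    simp only [Module.End.mul_apply] at h'
    change ((μ (iE a))⁻¹ : ℂˣ).val • ρ (iN a) _ = _
    rw [← h', ← map_smul]
    exact congr_arg _ (hv a)
  let f : SE →* Module.End ℂ τ.invariants :=
    { toFun := fun e => ((CfsgLib.Clifford.opUnits ρ (e : S)).val).restrict (hmaps e)
      map_one' := LinearMap.ext fun v => Subtype.ext (by simp)
      map_mul' := fun a b => LinearMap.ext fun v => Subtype.ext (by simp) }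
  let d : SE →* ℂˣ := (Units.map LinearMap.det).comp f.toHomUnits
  let pE : SE →* E := MonoidHom.codRestrict ((CfsgLib.Clifford.proj ρ).comp SE.subtype) E fun e => e.2
  let D : SE →* ℂˣ := d * ((μ.comp pE) ^ m)⁻¹
  -- pass to the quotient by the image of `N`
  let R : Subgroup S := (CfsgLib.Clifford.normalEmb ρ).range
  have hR : R.Normal := ⟨by
    rintro _ ⟨k, rfl⟩ e
    exact ⟨_, (CfsgLib.Clifford.conj_normalEmb ρ e k).symm⟩⟩
  let π : SE →* S ⧸ R := (QuotientGroup.mk' R).comp SE.subtype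
  have hπ : Function.Surjective π := by
    intro q
    obtain ⟨e, rfl⟩ := QuotientGroup.mk'_surjective R q
    obtain ⟨ε, hε, k, hk, hεk⟩ := Subgroup.mem_sup_of_normal_right.mp
      (hE ▸ Subgroup.mem_top (CfsgLib.Clifford.proj ρ e) : CfsgLib.Clifford.proj ρ e ∈ E ⊔ N)
    refine ⟨⟨e * (CfsgLib.Clifford.normalEmb ρ ⟨k, hk⟩)⁻¹, ?_⟩, ?_⟩
    · change CfsgLib.Clifford.proj ρ _ ∈ E
      rw [map_mul, map_inv, CfsgLib.Clifford.proj_normalEmb, ← hεk, mul_inv_cancel_right]
      exact hε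
    · have : QuotientGroup.mk' R (CfsgLib.Clifford.normalEmb ρ ⟨k, hk⟩) = 1 :=
        (QuotientGroup.eq_one_iff _).mpr ⟨_, rfl⟩
      change QuotientGroup.mk' R (_ * _) = _
      rw [map_mul, map_inv, this, inv_one, mul_one]
  have hker : π.ker ≤ D.ker := by
    intro e he
    obtain ⟨k, hk⟩ := (QuotientGroup.eq_one_iff _).mp he
    have hk' : (k : G) ∈ E := by
      have := e.2
      change CfsgLib.Clifford.proj ρ (e : S) ∈ E at this
      rw [show (e : S) = CfsgLib.Clifford.normalEmb ρ k from hk.symm] at this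
      exact this
    let a : ↥(E ⊓ N) := ⟨k, hk', k.2⟩
    have hf : f e = ((μ (iE a) : ℂˣ) : ℂ) • (1 : Module.End ℂ τ.invariants) := by
      refine LinearMap.ext fun v => Subtype.ext ?_
      have hop : (CfsgLib.Clifford.opUnits ρ (e : S)).val = ρ k := by
        rw [show (e : S) = CfsgLib.Clifford.normalEmb ρ k from hk.symm]; rfl
      change (CfsgLib.Clifford.opUnits ρ (e : S)).val v = ((μ (iE a) : ℂˣ) : ℂ) • (v : Fin n → ℂ)
      rw [hop]
      have := v.2 a
      change ((μ (iE a))⁻¹ : ℂˣ).val • ρ (iN a) (v : Fin n → ℂ) = v at this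
      conv_rhs => rw [← this, smul_smul, Units.val_inv_eq_inv_val, mul_inv_cancel₀ (Units.ne_zero _), one_smul]
      rfl
    have hp : pE e = iE a := Subtype.ext (by
      change CfsgLib.Clifford.proj ρ (e : S) = (k : G)
      rw [show (e : S) = CfsgLib.Clifford.normalEmb ρ k from hk.symm]
      rfl)
    rw [MonoidHom.mem_ker]
    refine mul_inv_eq_one.mpr (Units.ext ?_)
    change LinearMap.det (f e) = ((μ (pE e) ^ m : ℂˣ) : ℂ)
    rw [hf, hp, LinearMap.det_smul, hW, map_one, mul_one, Units.val_pow_eq_pow_val]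
  let L : S ⧸ R →* ℂˣ := π.liftOfSurjective hπ ⟨D, hker⟩
  have hL : ∀ e, L (π e) = D e := fun e => MonoidHom.liftOfRightInverse_comp_apply _ _ _ _ _
  refine ⟨L.comp (QuotientGroup.mk' R), fun z => ?_, fun k => ?_⟩
  · have hz : CfsgLib.Clifford.scalarEmb ρ z ∈ SE := by
      change CfsgLib.Clifford.proj ρ _ ∈ E
      rw [CfsgLib.Clifford.proj_scalarEmb]; exact one_mem E
    change L (π ⟨_, hz⟩) = _
    rw [hL]
    have hp : pE ⟨_, hz⟩ = 1 := Subtype.ext rfl
    have hf : f ⟨_, hz⟩ = (z : ℂ) • (1 : Module.End ℂ τ.invariants) :=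
      LinearMap.ext fun v => Subtype.ext (by
        change (CfsgLib.Clifford.scalarUnits z).val (v : Fin n → ℂ) = _
        simp [Algebra.algebraMap_eq_smul_one])
    refine Units.ext ?_
    change LinearMap.det (f ⟨_, hz⟩) * (((μ (pE ⟨_, hz⟩) ^ m)⁻¹ : ℂˣ) : ℂ) = _
    rw [hp, hf, LinearMap.det_smul, hW, map_one, map_one, one_pow, inv_one, zpow_natCast]
    simp
  · change L (QuotientGroup.mk' R _) = 1
    rw [show QuotientGroup.mk' R (CfsgLib.Clifford.normalEmb ρ k) = 1 from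
      (QuotientGroup.eq_one_iff _).mpr ⟨k, rfl⟩, map_one]

/-- The linear extension to an elementary group. -/
theorem exists_elementary_extension {G : Type*} [Group G] [Finite G] (p : ℕ) [Fact p.Prime]
    (N : Subgroup G) [hN : N.Normal] (hind : ∃ k : ℕ, N.index = p ^ k) (P : Sylow p G)
    (hcent : ∀ x ∈ (P : Subgroup G) ⊓ N, ∀ y ∈ (P : Subgroup G), x * y = y * x)
    (hext : ∀ lam : ↥((P : Subgroup G) ⊓ N) →* ℂˣ, ∃ μ : ↥(P : Subgroup G) →* ℂˣ,
      ∀ x : ↥((P : Subgroup G) ⊓ N), μ ⟨x, x.2.1⟩ = lam x)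
    (E : Subgroup G) (hE : Cfsg.IsElementary p E) :
    (∀ e ∈ E, ∀ a ∈ E ⊓ N, e * a = a * e) ∧
      ∀ φ : ↥(E ⊓ N) →* ℂˣ, ∃ μ : E →* ℂˣ, ∀ a : ↥(E ⊓ N), μ ⟨a, a.2.1⟩ = φ a := by
  have hp : p.Prime := Fact.out
  obtain ⟨x, hx, hcop, k, hk⟩ := hE
  let X : Subgroup E := Subgroup.zpowers x
  have hXc : X ≤ Subgroup.center E := Subgroup.zpowers_le.2 hx
  have hcard : Nat.card E = orderOf x * p ^ k := by
    rw [← X.card_mul_index, Nat.card_zpowers]
    erw [hk]
  obtain ⟨Q, hQ⟩ := Sylow.exists_subgroup_card_pow_prime p (show p ^ k ∣ Nat.card E from ⟨orderOf x, by rw [hcard, mul_comm]⟩)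
  have hQp : IsPGroup p Q := IsPGroup.of_card hQ
  have hcomm : ∀ (a : X) (q : Q), Commute (X.subtype a) (Q.subtype q) := fun a q =>
    (Subgroup.mem_center_iff.1 (hXc a.2) q).symm
  let θ : X × Q →* E := MonoidHom.noncommCoprod X.subtype Q.subtype hcomm
  have hθi : Function.Injective θ := by
    rw [injective_iff_map_eq_one]
    rintro ⟨a, q⟩ h
    change (a : E) * (q : E) = 1 at h
    have hq : (q : E) ∈ X := by
      rw [eq_inv_of_mul_eq_one_right h]; exact X.inv_mem a.2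
    have hdisj : X ⊓ Q = ⊥ := Subgroup.inf_eq_bot_of_coprime (by
      rw [Nat.card_zpowers, hQ]; exact hcop.pow_right k)
    have : (q : E) = 1 := Subgroup.mem_bot.1 (hdisj ▸ (⟨hq, q.2⟩ : (q : E) ∈ X ⊓ Q))
    rw [this, mul_one] at h
    exact Prod.ext (Subtype.ext h) (Subtype.ext this)
  have hθ : Function.Bijective θ := (Nat.bijective_iff_injective_and_card _).2
    ⟨hθi, by rw [Nat.card_prod, Nat.card_zpowers, hQ, hcard]⟩
  let e := MulEquiv.ofBijective θ hθ
  -- the cyclic part lies in `N`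
  have hxN : (x : G) ∈ N := by
    obtain ⟨j, hj⟩ := hind
    refine (QuotientGroup.eq_one_iff _).mp (orderOf_eq_one_iff.mp (Nat.eq_one_of_dvd_coprimes
      (hcop.pow_right j) ((orderOf_map_dvd (QuotientGroup.mk' N) _).trans (Subgroup.orderOf_coe x).dvd)
      (hj ▸ Subgroup.index_eq_card N ▸ orderOf_dvd_natCard _)))
  have hXN : ∀ a : X, ((a : E) : G) ∈ N := fun a => by
    obtain ⟨i, hi⟩ := Subgroup.mem_zpowers_iff.1 a.2
    rw [← hi, Subgroup.coe_zpow]; exact N.zpow_mem hxN i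
  -- move `Q` into `P`
  obtain ⟨S, hS⟩ := (hQp.map E.subtype).exists_le_sylow
  obtain ⟨g, hg⟩ := MulAction.exists_smul_eq G S P
  have hmem : ∀ q : Q, g * ((q : E) : G) * g⁻¹ ∈ (P : Subgroup G) := fun q => by
    rw [← hg]
    exact Subgroup.smul_mem_pointwise_smul _ (MulAut.conj g) _ (hS (Subgroup.mem_map_of_mem _ q.2))
  let ι : Q →* ↥(P : Subgroup G) :=
    { toFun := fun q => ⟨_, hmem q⟩
      map_one' := Subtype.ext (by simp)
      map_mul' := fun a b => Subtype.ext (by simp [mul_assoc]) }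
  have hdec : ∀ u : E, (u : G) ∈ N → ((e.symm u).2 : E).1 ∈ N := fun u hu => by
    have h : e (e.symm u) = u := e.apply_symm_apply u
    change ((e.symm u).1 : E) * ((e.symm u).2 : E) = u at h
    rw [← h, Subgroup.coe_mul] at hu
    exact (Subgroup.mul_mem_cancel_left N (hXN _)).mp hu
  refine ⟨fun u hu a ha => ?_, fun φ => ?_⟩
  · let w : E := ⟨u, hu⟩
    let b : E := ⟨a, ha.1⟩
    suffices w * b = b * w from congr_arg Subtype.val this
    apply e.symm.injective
    rw [map_mul, map_mul]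
    refine Prod.ext (Subtype.ext ?_) (Subtype.ext ?_)
    · exact (Subgroup.mem_center_iff.1 (hXc (e.symm w).1.2) _).symm
    · set q := (e.symm b).2
      have hqN : ((q : E) : G) ∈ N := hdec b ha.2
      have h := hcent (g * ((q : E) : G) * g⁻¹) ⟨hmem q, hN.conj_mem _ hqN g⟩
        _ (hmem (e.symm w).2)
      refine Subtype.ext ?_
      simp only [Prod.snd_mul, Subgroup.coe_mul]
      have h' := congr_arg (fun z : G => g⁻¹ * z * g) h.symm
      simpa [q, mul_assoc] using h'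
  · let QN : Subgroup Q := N.comap (E.subtype.comp Q.subtype)
    let jA : QN →* ↥((P : Subgroup G) ⊓ N) :=
      { toFun := fun q => ⟨g * (((q : Q) : E) : G) * g⁻¹, hmem q, hN.conj_mem _ q.2 g⟩
        map_one' := Subtype.ext (by simp)
        map_mul' := fun a b => Subtype.ext (by simp [mul_assoc]) }
    let kA : QN →* ↥(E ⊓ N) :=
      { toFun := fun q => ⟨(((q : Q) : E) : G), ((q : Q) : E).2, q.2⟩
        map_one' := rfl
        map_mul' := fun a b => rfl }
    have hj : Function.Injective jA := fun a b h => by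
      have h' := congr_arg Subtype.val h
      simp only [jA, MonoidHom.coe_mk, OneHom.coe_mk, mul_left_inj, mul_right_inj] at h'
      exact Subtype.ext (Subtype.ext (Subtype.ext h'))
    obtain ⟨F, hF⟩ := extend_along (fun a b => Subtype.ext (hcent a a.2 b b.2.1)) jA hj (φ.comp kA)
    obtain ⟨ν, hν⟩ := hext F
    let kX : X →* ↥(E ⊓ N) :=
      { toFun := fun a => ⟨((a : E) : G), (a : E).2, hXN a⟩
        map_one' := rfl
        map_mul' := fun a b => rfl }
    refine ⟨(MonoidHom.coprod (φ.comp kX) (ν.comp ι)).comp e.symm.toMonoidHom, fun a => ?_⟩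
    let b : E := ⟨a, a.2.1⟩
    have hqN : (((e.symm b).2 : E) : G) ∈ N := hdec b a.2.2
    change φ (kX (e.symm b).1) * ν (ι (e.symm b).2) = φ a
    have h2 : ν (ι (e.symm b).2) = φ (kA ⟨(e.symm b).2, hqN⟩) :=
      (hν (jA ⟨(e.symm b).2, hqN⟩)).trans (hF _)
    rw [h2, ← map_mul]
    refine congr_arg φ (Subtype.ext ?_)
    have h : e (e.symm b) = b := e.apply_symm_apply b
    have h' := congr_arg Subtype.val h
    exact h'

/-- Let N be a normal subgroup of the finite group G with the index of N a power of the prime p, and P a Sylow p-subgroup of G such that P ⊓ N lies in the centre of P and every character of degree 1 of P ⊓ N is the restriction of a character of degree 1 of P. Then every irreducible character of N invariant under conjugation by G is the restriction of an irreducible character of G. -/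
theorem result {G : Type*} [Group G] [Fintype G] (p : ℕ) [Fact p.Prime] (N : Subgroup G) [hN : N.Normal] (hind : ∃ k : ℕ, N.index = p ^ k) (P : Sylow p G) (hcent : ∀ x ∈ (P : Subgroup G) ⊓ N, ∀ y ∈ (P : Subgroup G), x * y = y * x) (hlin : ∀ lam : ↥((P : Subgroup G) ⊓ N) → ℂ, Cfsg.IsCharacter ↥((P : Subgroup G) ⊓ N) lam → lam 1 = 1 → ∃ μ : ↥(P : Subgroup G) → ℂ, Cfsg.IsCharacter ↥(P : Subgroup G) μ ∧ μ 1 = 1 ∧ ∀ x : ↥((P : Subgroup G) ⊓ N), μ ⟨(x : G), x.2.1⟩ = lam x) (ϑ : N → ℂ) (hϑ : Cfsg.IsIrrCharacter N ϑ) (hinv : ∀ (g : G) (n : N), ϑ ⟨g * n * g⁻¹, hN.conj_mem (n : G) n.2 g⟩ = ϑ n) : ∃ χ : G → ℂ, Cfsg.IsIrrCharacter G χ ∧ ∀ n : N, χ n = ϑ n := by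
  classical
  obtain ⟨E, φ, hE, hEN, hφ, -, m, hpm, hm⟩ :=
    Cfsg.Agent.S0896.result p Fact.out N hind ϑ hϑ hinv
  have hext : ∀ lam : ↥((P : Subgroup G) ⊓ N) →* ℂˣ, ∃ μ : ↥(P : Subgroup G) →* ℂˣ,
      ∀ x : ↥((P : Subgroup G) ⊓ N), μ ⟨x, x.2.1⟩ = lam x := fun lam => by
    obtain ⟨μ, hμ, hμ1, hres⟩ := hlin _ (CfsgLib.Clifford.isCharacter_of_hom lam) (by simp)
    obtain ⟨f, hf⟩ := CfsgLib.Clifford.exists_hom_of_linear hμ hμ1
    exact ⟨f, fun x => Units.ext ((hf _).trans (hres x))⟩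
  obtain ⟨hcen, hex⟩ := exists_elementary_extension p N hind P hcent hext E hE
  have hφ1 : φ 1 = 1 := CfsgLib.Char.irr_degree_one_of_comm
    (fun a b => Subtype.ext (hcen a a.2.1 b b.2)) hφ
  obtain ⟨φ', hφ'⟩ := CfsgLib.Clifford.exists_hom_of_linear (CfsgLib.Char.irr_isCharacter hφ) hφ1
  obtain ⟨μ, hμ⟩ := hex φ'
  obtain ⟨n, ρ, hρ, rfl⟩ := hϑ
  have hsur := CfsgLib.Clifford.proj_surjective ρ hinv
  have h1 : (m : ℤ) ∈ CfsgLib.Clifford.splitExps ρ := by
    refine mult_mem_splitExps ρ E hEN hcen μ m ?_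
    simp only [hμ, hφ']
    exact hm
  obtain ⟨k, hk⟩ := hind
  refine CfsgLib.Clifford.exists_irr_extension ρ hinv (CfsgLib.Clifford.one_mem_of_coprime
    (CfsgLib.Clifford.index_self_mem_splitExps ρ hsur) h1 ?_)
  rw [hk]
  exact ((Fact.out : p.Prime).coprime_iff_not_dvd.2 hpm).pow_left k

end Cfsg.Agent.S0897
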