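import Cfsg.Statements.S0900
import Cfsg.Agent.Lib.Clifford.Correspondence

set_option autoImplicit false
open Cfsg

namespace Cfsg.Agent.S0900

/-- Let N be a normal subgroup of the finite group G, χ an irreducible character of G and ϑ an irreducible character of N having nonzero inner product with the restriction of χ. Consider: (a) the restriction of χ to N is e • ϑ for a natural number e with e ^ 2 equal to the index of N; (b) χ vanishes outside N and ϑ is invariant under conjugation by G; (c) ϑ is invariant and every irreducible character of G having nonzero inner product with the function induced from ϑ equals χ. Then (a) ↔ (b) and (a) ↔ (c). -/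
theorem result {G : Type*} [Group G] [Fintype G] (N : Subgroup G) [hN : N.Normal] [Fintype N] (χ : G → ℂ) (hχ : Cfsg.IsIrrCharacter G χ) (ϑ : N → ℂ) (hϑ : Cfsg.IsIrrCharacter N ϑ) (hcon : Cfsg.classInner (fun n : N => χ n) ϑ ≠ 0) : ((∃ e : ℕ, (fun n : N => χ n) = (e : ℂ) • ϑ ∧ e ^ 2 = N.index) ↔ ((∀ g : G, g ∉ N → χ g = 0) ∧ ∀ (g : G) (n : N), ϑ ⟨g * n * g⁻¹, hN.conj_mem (n : G) n.2 g⟩ = ϑ n)) ∧ ((∃ e : ℕ, (fun n : N => χ n) = (e : ℂ) • ϑ ∧ e ^ 2 = N.index) ↔ (∀ (g : G) (n : N), ϑ ⟨g * n * g⁻¹, hN.conj_mem (n : G) n.2 g⟩ = ϑ n ∧ ∀ ψ : G → ℂ, Cfsg.IsIrrCharacter G ψ → Cfsg.classInner (Cfsg.indFun N ϑ) ψ ≠ 0 → ψ = χ)) := by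
  classical
  have := Fintype.ofFinite (Cfsg.IrrCharacter G)
  have hχc := CfsgLib.Char.irr_isClassFunction hχ
  obtain ⟨a, ha⟩ := CfsgLib.Char.classInner_isCharacter_nat
    (CfsgLib.Char.isCharacter_restrict (CfsgLib.Char.irr_isCharacter hχ) N)
    (CfsgLib.Char.irr_isCharacter hϑ)
  have ha0 : a ≠ 0 := fun h => hcon (by rw [ha, h, Nat.cast_zero])
  let inv : Prop := ∀ (g : G) (n : N), ϑ ⟨g * n * g⁻¹, hN.conj_mem (n : G) n.2 g⟩ = ϑ n
  have hrestr : inv → (fun n : N => χ n) = (a : ℂ) • ϑ := fun h => by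
    rw [← ha]
    exact CfsgLib.Clifford.restrict_eq_smul_of_invariant hχ hϑ (fun g => funext (h g)) hcon
  have hrec : Cfsg.classInner (Cfsg.indFun N ϑ) χ = (a : ℂ) := by
    rw [CfsgLib.Char.frobenius_reciprocity N ϑ χ hχc, ← CfsgLib.Char.classInner_conj_symm, ha,
      map_natCast]
  have hnormI : inv → Cfsg.classInner (Cfsg.indFun N ϑ) (Cfsg.indFun N ϑ) = (N.index : ℂ) := fun h => by
    rw [CfsgLib.Clifford.classInner_indFun_indFun hϑ hϑ,
      Nat.card_congr (Equiv.subtypeUnivEquiv fun x => (funext (h x) : CfsgLib.Clifford.conjFn x ϑ = ϑ)), ← N.index_mul_card,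
      Nat.cast_mul, mul_comm (N.index : ℂ), inv_mul_cancel_left₀ (by exact_mod_cast Nat.card_pos.ne')]
  have hsum : (fun n : N => χ n) = (a : ℂ) • ϑ →
      ∑ g ∈ Finset.univ.filter (fun g => g ∈ N), χ g * (starRingEnd ℂ) (χ g) = (a : ℂ) ^ 2 * (Nat.card N : ℂ) := by
    intro h
    rw [← Finset.sum_subtype_eq_sum_filter (f := fun g => χ g * (starRingEnd ℂ) (χ g)),
      Finset.subtype_univ]
    have h1 := CfsgLib.Char.irr_classInner_self hϑ
    rw [CfsgLib.Char.classInner_def, inv_mul_eq_iff_eq_mul₀ CfsgLib.Char.natCard_ne_zero, mul_one] at h1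
    rw [← h1, Finset.mul_sum]
    refine Finset.sum_congr (by ext; simp) fun n _ => ?_
    have h2 := congr_fun h n
    simp only [Pi.smul_apply, smul_eq_mul] at h2
    rw [h2, map_mul, map_natCast]
    ring
  have hG := CfsgLib.Char.irr_classInner_self hχ
  rw [CfsgLib.Char.classInner_def, inv_mul_eq_iff_eq_mul₀ CfsgLib.Char.natCard_ne_zero, mul_one,
    ← Finset.sum_filter_add_sum_filter_not Finset.univ (fun g => g ∈ N), ← N.index_mul_card,
    Nat.cast_mul] at hG
  have haea : ∀ e : ℕ, (fun n : N => χ n) = (e : ℂ) • ϑ → e = a := fun e he => by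
    have h1 := ha
    change Cfsg.classInner (fun n : N => χ n) ϑ = _ at h1
    rw [he, CfsgLib.Char.classInner_smul_left, CfsgLib.Char.irr_classInner_self hϑ, mul_one] at h1
    exact_mod_cast h1
  have hA : ∀ e : ℕ, (fun n : N => χ n) = (e : ℂ) • ϑ → inv := fun e he g n => by
    have h1 := congr_fun he ⟨g * n * g⁻¹, hN.conj_mem (n : G) n.2 g⟩
    have h2 := congr_fun he n
    simp only [Pi.smul_apply, smul_eq_mul] at h1 h2
    exact mul_left_cancel₀ (Nat.cast_ne_zero.mpr (haea e he ▸ ha0)) (h1.symm.trans ((hχc _ g).trans h2))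
  refine ⟨⟨?_, ?_⟩, ⟨?_, ?_⟩⟩
  · rintro ⟨e, he, hidx⟩
    obtain rfl := haea e he
    refine ⟨fun g hg => ?_, hA e he⟩
    rw [hsum he, ← Nat.cast_pow, hidx, add_eq_left] at hG
    have h3 : ∑ g ∈ Finset.univ.filter (fun g => g ∉ N), ‖χ g‖ ^ 2 = 0 := by
      simp only [Complex.mul_conj'] at hG
      exact_mod_cast hG
    have h4 := (Finset.sum_eq_zero_iff_of_nonneg fun x _ => sq_nonneg _).mp h3 g
      (Finset.mem_filter.mpr ⟨Finset.mem_univ _, hg⟩)
    simpa using h4
  · rintro ⟨hv, hinv⟩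
    refine ⟨a, hrestr hinv, ?_⟩
    rw [hsum (hrestr hinv), Finset.sum_eq_zero (fun g hg => by
      rw [hv g (Finset.mem_filter.mp hg).2, zero_mul]), add_zero] at hG
    exact_mod_cast mul_right_cancel₀ (by exact_mod_cast Nat.card_pos.ne') hG
  · rintro ⟨e, he, hidx⟩ g n
    obtain rfl := haea e he
    refine ⟨hA e he g n, fun ψ hψ hne => ?_⟩
    by_contra hd
    apply hne
    have h5 : Cfsg.indFun N ϑ = (e : ℂ) • χ := by
      refine sub_eq_zero.mp (CfsgLib.Char.classInner_self_eq_zero ?_)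
      rw [CfsgLib.Char.classInner_sub_left, CfsgLib.Char.classInner_sub_right,
        CfsgLib.Char.classInner_sub_right, hnormI (hA e he), CfsgLib.Char.classInner_smul_right,
        CfsgLib.Char.classInner_smul_left, CfsgLib.Char.classInner_smul_left,
        CfsgLib.Char.classInner_smul_right, ← CfsgLib.Char.classInner_conj_symm _ χ, hrec,
        CfsgLib.Char.irr_classInner_self hχ, ← hidx]
      simp only [map_natCast]
      push_cast
      ring
    rw [h5, CfsgLib.Char.classInner_smul_left, CfsgLib.Char.irr_classInner_ne hχ hψ (Ne.symm hd),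
      mul_zero]
  · intro h
    have hinv : inv := fun g n => (h g n).1
    have hu := (h 1 1).2
    have h5 : Cfsg.indFun N ϑ = (a : ℂ) • χ := by
      conv_lhs => rw [CfsgLib.Char.classFunction_eq_sum (CfsgLib.Char.indFun_isClassFunction N ϑ)]
      rw [Finset.sum_eq_single (⟨χ, hχ⟩ : Cfsg.IrrCharacter G), hrec]
      · intro ψ _ hne
        by_contra h0
        exact hne (Subtype.ext (hu ψ.1 ψ.2 fun hz => h0 (by rw [hz, zero_smul])))
      · simp
    have h6 := hnormI hinv
    rw [h5, CfsgLib.Char.classInner_smul_left, CfsgLib.Char.classInner_smul_right,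
      CfsgLib.Char.irr_classInner_self hχ, mul_one, map_natCast, ← sq] at h6
    exact ⟨a, hrestr hinv, by exact_mod_cast h6⟩

end Cfsg.Agent.S0900
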