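import Cfsg.Statements.S0901
import Cfsg.Agent.Lib.Block.Covering
import Cfsg.Agent.Lib.Block.LocalRing

set_option autoImplicit false
open Cfsg CfsgLib.Block

namespace Cfsg.Agent.S0901

/-- Let M be a maximal ideal of the ring of algebraic integers containing the prime p, and let U be the set of complex roots of unity of order prime to p. Then reduction modulo M is injective on U, and every algebraic integer not in M is congruent modulo M to an element of U (so U maps bijectively onto the nonzero residues). -/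
theorem result (p : ℕ) [Fact p.Prime] (M : Ideal Cfsg.AlgInt) (hM : Cfsg.IsPModular p M) : (∀ ε₁ ε₂ : Cfsg.AlgInt, (∃ m : ℕ, ¬ p ∣ m ∧ (ε₁ : ℂ) ^ m = 1) → (∃ m : ℕ, ¬ p ∣ m ∧ (ε₂ : ℂ) ^ m = 1) → ε₁ - ε₂ ∈ M → ε₁ = ε₂) ∧ (∀ a : Cfsg.AlgInt, a ∉ M → ∃ ε : Cfsg.AlgInt, (∃ m : ℕ, ¬ p ∣ m ∧ (ε : ℂ) ^ m = 1) ∧ a - ε ∈ M) := by
  classical
  have hp : p.Prime := Fact.out
  have hMp := hM.2.1.isPrime
  have hMmax := hM.2.1
  let _ : Field (Cfsg.AlgInt ⧸ M) := Ideal.Quotient.field M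
  have : CharP (Cfsg.AlgInt ⧸ M) p := ⟨fun x => by
    rw [← map_natCast (Ideal.Quotient.mk M), Ideal.Quotient.eq_zero_iff_mem]
    exact natCast_mem_iff hM x⟩
  refine ⟨?_, ?_⟩
  · rintro ε₁ ε₂ ⟨m₁, hm₁, h₁⟩ ⟨m₂, hm₂, h₂⟩ hsub
    obtain ⟨m, hm, e₁, e₂⟩ : ∃ m : ℕ, ¬ p ∣ m ∧ (ε₁ : ℂ) ^ m = 1 ∧ (ε₂ : ℂ) ^ m = 1 :=
      ⟨m₁ * m₂, fun h => (hp.dvd_mul.1 h).elim hm₁ hm₂, by rw [pow_mul, h₁, one_pow],
        by rw [mul_comm, pow_mul, h₂, one_pow]⟩
    have hm0 : 0 < m := Nat.pos_of_ne_zero fun h => hm (h ▸ dvd_zero p)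
    have f₂ : ε₂ ^ m = 1 := Subtype.ext (by push_cast; exact e₂)
    by_contra hne
    set η := ε₁ * ε₂ ^ (m - 1) with hη
    have hηm : η ^ m = 1 := Subtype.ext (by
      push_cast [hη]
      rw [mul_pow, ← pow_mul, mul_comm (m - 1), pow_mul, e₁, e₂, one_pow, one_mul])
    have hε : ε₂ ^ (m - 1) * ε₂ = 1 := by rw [← pow_succ, Nat.sub_add_cancel hm0, f₂]
    have hη1 : η ≠ 1 := fun h => hne (by
      calc ε₁ = ε₁ * (ε₂ ^ (m - 1) * ε₂) := by rw [hε, mul_one]
        _ = η * ε₂ := by rw [hη, mul_assoc]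
        _ = ε₂ := by rw [h, one_mul])
    have hgeom : (∑ i ∈ Finset.range m, η ^ i) = 0 := by
      have h := geom_sum_mul η m
      rw [hηm, sub_self, mul_eq_zero] at h
      exact h.resolve_right (sub_ne_zero.2 hη1)
    have hq : (Ideal.Quotient.mk M) η = 1 := by
      rw [hη, map_mul, Ideal.Quotient.eq.2 hsub, ← map_mul, mul_comm, hε, map_one]
    have h := congrArg (Ideal.Quotient.mk M) hgeom
    rw [map_sum, map_zero] at h
    simp only [map_pow, hq, one_pow, Finset.sum_const, Finset.card_range, nsmul_eq_mul,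
      mul_one] at h
    exact hm ((CharP.cast_eq_zero_iff (Cfsg.AlgInt ⧸ M) p m).1 h)
  · intro a ha
    let _ : Algebra (ZMod p) (Cfsg.AlgInt ⧸ M) := ZMod.algebra _ p
    set x := Ideal.Quotient.mk M a with hx
    have hx0 : x ≠ 0 := fun h => ha (Ideal.Quotient.eq_zero_iff_mem.1 h)
    have hint : IsIntegral (ZMod p) x := by
      have h1 : IsIntegral ℤ a :=
        (isIntegral_algHom_iff (integralClosure ℤ ℂ).val Subtype.val_injective).1 a.2
      have h2 : IsIntegral ℤ x := h1.map (Ideal.Quotient.mk M).toIntAlgHom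
      exact h2.tower_top
    have := IsIntegral.fg_adjoin_singleton (R := ZMod p) hint
    have : Module.Finite (ZMod p) (Algebra.adjoin (ZMod p) ({x} : Set (Cfsg.AlgInt ⧸ M))) :=
      Module.Finite.iff_fg.2 this
    have : Finite (Algebra.adjoin (ZMod p) ({x} : Set (Cfsg.AlgInt ⧸ M))) :=
      Module.finite_of_finite (ZMod p)
    let _ : Field (Algebra.adjoin (ZMod p) ({x} : Set (Cfsg.AlgInt ⧸ M))) :=
      (Finite.isField_of_domain _).toField
    set q := Nat.card (Algebra.adjoin (ZMod p) ({x} : Set (Cfsg.AlgInt ⧸ M))) with hq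
    have hxm : x ^ (q - 1) = 1 := by
      have h := pow_card_eq_one' (G := (Algebra.adjoin (ZMod p) ({x} : Set (Cfsg.AlgInt ⧸ M)))ˣ)
        (x := Units.mk0 ⟨x, Algebra.self_mem_adjoin_singleton _ x⟩ (fun h => hx0 (congrArg Subtype.val h)))
      rw [Nat.card_units] at h
      exact congrArg (fun u => ((u : Algebra.adjoin (ZMod p) ({x} : Set (Cfsg.AlgInt ⧸ M))) :
        Cfsg.AlgInt ⧸ M)) (congrArg Units.val h)
    have hpq : p ∣ q := by
      rw [← CharP.cast_eq_zero_iff (Cfsg.AlgInt ⧸ M) p]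
      have := Fintype.ofFinite (Algebra.adjoin (ZMod p) ({x} : Set (Cfsg.AlgInt ⧸ M)))
      have h0 := Nat.cast_card_eq_zero (Algebra.adjoin (ZMod p) ({x} : Set (Cfsg.AlgInt ⧸ M)))
      have h1 := congrArg (Algebra.adjoin (ZMod p) ({x} : Set (Cfsg.AlgInt ⧸ M))).val h0
      rw [map_natCast, map_zero] at h1
      rw [hq, Nat.card_eq_fintype_card]
      exact h1
    have hm : ¬ p ∣ q - 1 := fun h => hp.not_dvd_one (by
      have hq1 : 1 ≤ q := Nat.card_pos
      have := Nat.dvd_sub hpq h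
      rwa [Nat.sub_sub_self hq1] at this)
    have hm0 : 0 < q - 1 := Nat.pos_of_ne_zero fun h => hm (h ▸ dvd_zero p)
    obtain ⟨ζ, hζ⟩ : ∃ ζ : ℂ, IsPrimitiveRoot ζ (q - 1) :=
      ⟨_, Complex.isPrimitiveRoot_exp _ hm0.ne'⟩
    let z : Cfsg.AlgInt := ⟨ζ, hζ.isIntegral hm0⟩
    have hz : IsPrimitiveRoot z (q - 1) :=
      IsPrimitiveRoot.of_map_of_injective (f := (integralClosure ℤ ℂ).val) hζ Subtype.val_injective
    have hzb : IsPrimitiveRoot (Ideal.Quotient.mk M z) (q - 1) := by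
      refine IsPrimitiveRoot.mk_of_lt _ hm0 (by rw [← map_pow, hz.pow_eq_one, map_one])
        fun l hl0 hlm hl => ?_
      -- distinct roots of unity of order prime to `p` stay distinct
      set η := z ^ l with hη
      have hη1 : η ≠ 1 := hz.pow_ne_one_of_pos_of_lt hl0.ne' hlm
      have hgeom : (∑ i ∈ Finset.range (q - 1), η ^ i) = 0 := by
        have hηm : η ^ (q - 1) = 1 := by rw [hη, ← pow_mul, mul_comm, pow_mul, hz.pow_eq_one, one_pow]
        have h := geom_sum_mul η (q - 1)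
        rw [hηm, sub_self, mul_eq_zero] at h
        exact h.resolve_right (sub_ne_zero.2 hη1)
      have h := congrArg (Ideal.Quotient.mk M) hgeom
      rw [map_sum, map_zero] at h
      simp only [map_pow, hη, hl, one_pow, Finset.sum_const, Finset.card_range, nsmul_eq_mul,
        mul_one] at h
      exact hm ((CharP.cast_eq_zero_iff (Cfsg.AlgInt ⧸ M) p (q - 1)).1 h)
    have : NeZero (q - 1) := ⟨hm0.ne'⟩
    obtain ⟨i, -, hi⟩ := hzb.eq_pow_of_pow_eq_one hxm
    refine ⟨z ^ i, ⟨q - 1, hm, ?_⟩, ?_⟩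
    · push_cast
      rw [← pow_mul, mul_comm, pow_mul, hζ.pow_eq_one, one_pow]
    · rw [← Ideal.Quotient.eq, map_pow, hi]

end Cfsg.Agent.S0901
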