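import Cfsg.Statements.S0903
import Cfsg.Agent.Lib.Block.Covering

set_option autoImplicit false
open Cfsg CfsgLib.Block

namespace Cfsg.Agent.S0903

/-- Let P be a p-subgroup of the finite group G, let c centralize P and let g, h ∈ G. The number of pairs (x, y) with x conjugate to g, y conjugate to h and x * y = c is congruent modulo p to the number of such pairs in which x and y both centralize P. (This is why the Brauer map on class sums is multiplicative.) -/
theorem result {G : Type*} [Group G] [Finite G] (p : ℕ) [Fact p.Prime] (P : Subgroup G) (hP : IsPGroup p P) (c : G) (hc : c ∈ Subgroup.centralizer (P : Set G)) (g h : G) : Nat.card {xy : G × G // IsConj g xy.1 ∧ IsConj h xy.2 ∧ xy.1 * xy.2 = c} ≡ Nat.card {xy : G × G // IsConj g xy.1 ∧ IsConj h xy.2 ∧ xy.1 * xy.2 = c ∧ xy.1 ∈ Subgroup.centralizer (P : Set G) ∧ xy.2 ∈ Subgroup.centralizer (P : Set G)} [MOD p] := by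
  classical
  let α := {xy : G × G // IsConj g xy.1 ∧ IsConj h xy.2 ∧ xy.1 * xy.2 = c}
  have hconj : ∀ (a : G) (u x : G), IsConj a x → IsConj a (u * x * u⁻¹) :=
    fun a u x hx => hx.trans (isConj_iff.2 ⟨u, rfl⟩)
  let _ : MulAction P α :=
    { smul := fun u xy => ⟨((u : G) * xy.1.1 * (u : G)⁻¹, (u : G) * xy.1.2 * (u : G)⁻¹),
        hconj g u _ xy.2.1, hconj h u _ xy.2.2.1, by
          have hu : (u : G) * c = c * (u : G) := Subgroup.mem_centralizer_iff.1 hc u u.2
          calc (u : G) * xy.1.1 * (u : G)⁻¹ * ((u : G) * xy.1.2 * (u : G)⁻¹)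
              = (u : G) * (xy.1.1 * xy.1.2) * (u : G)⁻¹ := by group
            _ = c := by rw [xy.2.2.2, hu, mul_inv_cancel_right]⟩
      one_smul := fun xy => Subtype.ext (Prod.ext
        (by change ((1 : P) : G) * _ * ((1 : P) : G)⁻¹ = _; simp)
        (by change ((1 : P) : G) * _ * ((1 : P) : G)⁻¹ = _; simp))
      mul_smul := fun u w xy => Subtype.ext (Prod.ext
        (by change ((u * w : P) : G) * _ * ((u * w : P) : G)⁻¹ = (u : G) * ((w : G) * _ * (w : G)⁻¹) * (u : G)⁻¹
            push_cast; group)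
        (by change ((u * w : P) : G) * _ * ((u * w : P) : G)⁻¹ = (u : G) * ((w : G) * _ * (w : G)⁻¹) * (u : G)⁻¹
            push_cast; group)) }
  have key := hP.card_modEq_card_fixedPoints α
  refine key.trans (congrArg (· % p) (Nat.card_congr ?_))
  have hfix : ∀ (u : G) (x : G), u * x * u⁻¹ = x ↔ u * x = x * u := fun u x => mul_inv_eq_iff_eq_mul
  exact
    { toFun := fun xy => ⟨xy.1.1, xy.1.2.1, xy.1.2.2.1, xy.1.2.2.2,
        Subgroup.mem_centralizer_iff.2 fun u hu => (hfix u _).1
          (congrArg (fun t : α => t.1.1) (xy.2 ⟨u, hu⟩)),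
        Subgroup.mem_centralizer_iff.2 fun u hu => (hfix u _).1
          (congrArg (fun t : α => t.1.2) (xy.2 ⟨u, hu⟩))⟩
      invFun := fun xy => ⟨⟨xy.1, xy.2.1, xy.2.2.1, xy.2.2.2.1⟩, fun u => Subtype.ext (Prod.ext
        ((hfix (u : G) _).2 (Subgroup.mem_centralizer_iff.1 xy.2.2.2.2.1 u u.2))
        ((hfix (u : G) _).2 (Subgroup.mem_centralizer_iff.1 xy.2.2.2.2.2 u u.2)))⟩
      left_inv := fun _ => rfl
      right_inv := fun _ => rfl }

end Cfsg.Agent.S0903
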