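import Cfsg.Statements.S0905
import Cfsg.Agent.Lib.Block.GroupAlg
import Cfsg.Agent.Lib.Solvable.PCore

set_option autoImplicit false
open Cfsg

namespace Cfsg.Agent.S0905

/-- Let F be a field of characteristic p and let g be an element of the finite group G no conjugate of which centralizes O_p(G). Then the class sum of g is a nilpotent element of the group algebra F[G]. -/
theorem result {G : Type*} [Group G] [Finite G] (p : ℕ) [Fact p.Prime] (F : Type*) [Field F] [CharP F p] (g : G) (hg : ∀ x : G, IsConj g x → x ∉ Subgroup.centralizer (Cfsg.pCore p G : Set G)) : IsNilpotent (∑ᶠ x ∈ ConjClasses.carrier (ConjClasses.mk g), MonoidAlgebra.single x (1 : F) : MonoidAlgebra F G) := by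
  classical
  have := Fintype.ofFinite G
  have := CfsgLib.Solvable.pCore_normal p G
  have h := CfsgLib.Block.isNilpotent_classSum (k := F) (P := Cfsg.pCore p G)
    (CfsgLib.Solvable.pCore_isPGroup p) hg
  convert h
  ext y
  rw [CfsgLib.Block.coeff_classSum, finsum_mem_def, finsum_eq_sum_of_fintype,
    MonoidAlgebra.coeff_sum, Finset.sum_apply', Finset.sum_eq_single y]
  · simp only [Set.indicator_apply, ConjClasses.mem_carrier_iff_mk_eq,
      ConjClasses.mk_eq_mk_iff_isConj, isConj_comm (g := y)]
    split <;> simp
  · intro x _ hx
    simp only [Set.indicator_apply]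
    split <;> simp [hx]
  · simp

end Cfsg.Agent.S0905
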