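import Cfsg.Statements.S0910
import Cfsg.Agent.Lib.Block.Covering
import Cfsg.Agent.Lib.Char.Burnside
import Cfsg.Agent.Lib.Char.Linear

set_option autoImplicit false
open Cfsg CfsgLib.Block

namespace Cfsg.Agent.S0910

/-- Let G be a non-abelian finite simple group and p a prime. If an irreducible character χ lies in the principal block (relative to a maximal ideal of the algebraic integers containing p) and χ 1 is a power of p, then χ is the principal character. -/
theorem result {G : Type*} [Group G] [Finite G] (p : ℕ) [Fact p.Prime] (M : Ideal Cfsg.AlgInt) (hM : Cfsg.IsPModular p M) [IsSimpleGroup G] (hna : ∃ a b : G, a * b ≠ b * a) (χ : Cfsg.IrrCharacter G) (hχ : χ ∈ Cfsg.principalBlock M G) (k : ℕ) (hdeg : (χ : G → ℂ) 1 = (p : ℂ) ^ k) : (χ : G → ℂ) = fun _ => 1 := by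
  classical
  have := isPrime_of_pmodular hM
  obtain ⟨n, ρ, hρ, he⟩ := χ.2
  have hfr : (Module.finrank ℂ (Fin n → ℂ) : ℂ) = (p : ℂ) ^ k := by
    rw [← Representation.char_one ρ, he]; exact hdeg
  have hlin : ∀ lam : G →* ℂˣ, (χ : G → ℂ) = (fun g => (lam g : ℂ)) →
      (χ : G → ℂ) = fun _ => 1 := by
    intro lam hlam
    rcases (MonoidHom.normal_ker lam).eq_bot_or_eq_top with h | h
    · exfalso
      obtain ⟨a, b, hab⟩ := hna
      exact hab ((MonoidHom.ker_eq_bot_iff lam).1 h (by rw [map_mul, map_mul, mul_comm]))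
    · rw [hlam]
      funext g
      rw [MonoidHom.mem_ker.1 (show g ∈ lam.ker by rw [h]; trivial), Units.val_one]
  rcases Nat.eq_zero_or_pos k with hk | hk
  · obtain ⟨lam, hlam⟩ := CfsgLib.Char.exists_hom_of_degree_one (CfsgLib.Char.irr_isCharacter χ.2)
      (by rw [hdeg, hk, pow_zero])
    exact hlin lam hlam
  exfalso
  have hcast : Module.finrank ℂ (Fin n → ℂ) = p ^ k := by exact_mod_cast hfr
  have hpG : p ∣ Nat.card G :=
    (dvd_pow_self p hk.ne').trans (hcast ▸ CfsgLib.Char.degree_dvd_card ρ)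
  obtain ⟨P⟩ := (inferInstance : Nonempty (Sylow p G))
  have hP : Nontrivial (P : Subgroup G) := by
    rw [← Finite.one_lt_card_iff_nontrivial, Sylow.card_eq_multiplicity]
    exact Nat.one_lt_pow (hM.1.factorization_pos_of_dvd Nat.card_pos.ne' hpG).ne' hM.1.one_lt
  have := P.2.center_nontrivial
  obtain ⟨⟨x, hx⟩, hx1⟩ := exists_ne (1 : Subgroup.center (P : Subgroup G))
  have hxne : (x : G) ≠ 1 := fun h => hx1 (Subtype.ext (Subtype.ext h))
  have hidx : ¬ p ∣ (Subgroup.centralizer ({(x : G)} : Set G)).index := fun hd =>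
    P.not_dvd_index (hd.trans (Subgroup.index_dvd_of_le fun w hw => by
      rw [Subgroup.mem_centralizer_singleton_iff]
      exact congrArg Subtype.val (Subgroup.mem_center_iff.1 hx ⟨w, hw⟩)))
  have hcop : Nat.Coprime (Module.finrank ℂ (Fin n → ℂ))
      (Subgroup.centralizer ({(x : G)} : Set G)).index := by
    rw [hcast]
    exact Nat.Coprime.pow_left k (hM.1.coprime_iff_not_dvd.2 hidx)
  rcases CfsgLib.Char.char_eq_zero_or_norm_of_coprime ρ (x : G) hcop with h0 | hnorm
  · have h1 := sameBlock_of_mem isPBlock_principalBlock (one_mem_principalBlock (M := M)) hχ (x : G)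
    rw [← he] at h1
    simp only [Cfsg.centralChar, h0, mul_zero, zero_div, sub_zero, mul_one, div_one] at h1
    exact hidx ((memLocalIdeal_natCast_iff hM _).1 h1)
  · obtain ⟨ω, hω⟩ := (CfsgLib.Char.norm_char_eq_iff ρ (x : G)).1 hnorm
    have htop : CfsgLib.Char.scalarSubgroup ρ = ⊤ :=
      ((CfsgLib.Char.scalarSubgroup_normal ρ).eq_bot_or_eq_top).resolve_left fun h =>
        hxne (Subgroup.mem_bot.1 (h ▸ (⟨ω, hω⟩ : (x : G) ∈ CfsgLib.Char.scalarSubgroup ρ)))
    have h1 := CfsgLib.Char.finrank_eq_one_of_scalar ρ fun g =>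
      (show g ∈ CfsgLib.Char.scalarSubgroup ρ by rw [htop]; trivial)
    rw [h1] at hcast
    exact (Nat.one_lt_pow hk.ne' hM.1.one_lt).ne hcast

end Cfsg.Agent.S0910
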