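import Cfsg.Statements.S0911
import Cfsg.Agent.Lib.Block.DefectClass

set_option autoImplicit false
open Cfsg

namespace Cfsg.Agent.S0911

/-- The min–max Theorem for defect classes. Let B be a block of the finite group G relative to a maximal ideal M of the algebraic integers containing the prime p, let g represent a defect class of B and let D be a Sylow p-subgroup of the centralizer of g (viewed in G). For any h: (a) if the idempotent coefficient of B at h is a local integer outside the local ideal, then some conjugate of D contains a Sylow p-subgroup of the centralizer of h; (b) if the central character of some member of B at h is outside the local ideal, then some conjugate of D is contained in a Sylow p-subgroup of the centralizer of h. -/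
theorem result {G : Type*} [Group G] [Finite G] (p : ℕ) [Fact p.Prime] (M : Ideal Cfsg.AlgInt) (hM : Cfsg.IsPModular p M) (B : Set (Cfsg.IrrCharacter G)) (hB : Cfsg.IsPBlock M B) (g : G) (hg : Cfsg.IsDefectClass M B g) (D : Sylow p (Subgroup.centralizer ({g} : Set G))) (h : G) : (Cfsg.MemLocalRing M (Cfsg.blockCoeff B h) → ¬ Cfsg.MemLocalIdeal M (Cfsg.blockCoeff B h) → ∃ (x : G) (Q : Sylow p (Subgroup.centralizer ({h} : Set G))), (Q : Subgroup (Subgroup.centralizer ({h} : Set G))).map (Subgroup.centralizer ({h} : Set G)).subtype ≤ ((D : Subgroup (Subgroup.centralizer ({g} : Set G))).map (Subgroup.centralizer ({g} : Set G)).subtype).map (MulAut.conj x).toMonoidHom) ∧ ((∃ χ ∈ B, ¬ Cfsg.MemLocalIdeal M (Cfsg.centralChar (χ : G → ℂ) h)) → ∃ (x : G) (Q : Sylow p (Subgroup.centralizer ({h} : Set G))), ((D : Subgroup (Subgroup.centralizer ({g} : Set G))).map (Subgroup.centralizer ({g} : Set G)).subtype).map (MulAut.conj x).toMonoidHom ≤ (Q : Subgroup (Subgroup.centralizer ({h} : Set G))).map (Subgroup.centralizer ({h} : Set G)).subtype) := by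
  have := CfsgLib.Block.isPrime_of_pmodular hM
  constructor
  · intro hr hn
    have hh : (CfsgLib.Block.blkIdem M B :
        MonoidAlgebra (CfsgLib.Block.kres M) G).coeff h ≠ 0 := by
      rwa [CfsgLib.Block.coeff_blkIdem, Ne, CfsgLib.Block.redC_eq_zero_iff hr]
    obtain ⟨x, hx⟩ := CfsgLib.Block.exists_le_conj_defect hM hB hg D hh
      (CfsgLib.Block.isPGroup_cenSub h
        (Classical.arbitrary (Sylow p (Subgroup.centralizer ({h} : Set G)))))
      (CfsgLib.Block.cenSub_le h _)
    exact ⟨x, _, hx⟩
  · rintro ⟨χ, hχ, hω⟩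
    have hh : CfsgLib.Block.lam M χ (CfsgLib.Block.classSumZ (CfsgLib.Block.kres M) h) ≠ 0 := by
      rwa [CfsgLib.Block.lam_classSumZ, Ne,
        CfsgLib.Block.redC_eq_zero_iff (CfsgLib.Block.memLocalRing_centralChar χ.2 h)]
    let Q : Sylow p (Subgroup.centralizer ({h} : Set G)) := Classical.arbitrary _
    obtain ⟨x, hx⟩ := CfsgLib.Block.exists_defect_le_conj hM hB hg D hχ hh Q
    refine ⟨x⁻¹, Q, fun y hy => ?_⟩
    rw [CfsgLib.Block.mem_map_conj_iff, inv_inv] at hy
    have h1 := hx hy
    rw [CfsgLib.Block.mem_map_conj_iff] at h1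
    simpa [mul_assoc] using h1

end Cfsg.Agent.S0911
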