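import Cfsg.Statements.S0912
import Cfsg.Agent.Lib.Block.DefectClass
import Cfsg.Agent.Lib.Solvable.PCore

set_option autoImplicit false
open Cfsg

namespace Cfsg.Agent.S0912

/-- Let B be a block of the finite group G relative to a maximal ideal M of the algebraic integers containing the prime p. Every defect group of B contains the largest normal p-subgroup O_p(G). -/
theorem result {G : Type*} [Group G] [Finite G] (p : ℕ) [Fact p.Prime] (M : Ideal Cfsg.AlgInt) (hM : Cfsg.IsPModular p M) (B : Set (Cfsg.IrrCharacter G)) (hB : Cfsg.IsPBlock M B) (D : Subgroup G) (hD : Cfsg.IsDefectGroup p M B D) : Cfsg.pCore p G ≤ D := by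
  have := CfsgLib.Block.isPrime_of_pmodular hM
  have := CfsgLib.Block.charP_kres hM
  have := CfsgLib.Solvable.pCore_normal p G
  obtain ⟨χ, hχ⟩ := CfsgLib.Block.isPBlock_nonempty hB
  obtain ⟨g, hg, P, rfl⟩ := hD
  have h2 := ((CfsgLib.Block.isDefectClass_iff hM hB hχ g).1 hg).2
  obtain ⟨x, hx, hxC⟩ : ∃ x, IsConj g x ∧
      x ∈ Subgroup.centralizer (Cfsg.pCore p G : Set G) := by
    by_contra hcon
    push Not at hcon
    obtain ⟨n, hn⟩ := CfsgLib.Block.isNilpotent_classSum (k := CfsgLib.Block.kres M)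
      (CfsgLib.Solvable.pCore_isPGroup p) hcon
    apply h2
    have h1 : (CfsgLib.Block.classSumZ (CfsgLib.Block.kres M) g) ^ n = 0 :=
      Subtype.ext (by rw [SubmonoidClass.coe_pow]; exact hn)
    have h3 := congrArg (CfsgLib.Block.lam M χ) h1
    rw [map_pow, map_zero] at h3
    exact (pow_eq_zero_iff'.1 h3).1
  obtain ⟨c, rfl⟩ := isConj_iff.1 hx
  have hle : Cfsg.pCore p G ≤ Subgroup.centralizer ({g} : Set G) := by
    intro u hu
    rw [Subgroup.mem_centralizer_singleton_iff]
    have h := Subgroup.mem_centralizer_iff.1 hxC (c * u * c⁻¹)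
      ((CfsgLib.Solvable.pCore_normal p G).conj_mem u hu c)
    have h' : c * (u * g) * c⁻¹ = c * (g * u) * c⁻¹ := by
      calc c * (u * g) * c⁻¹ = c * u * c⁻¹ * (c * g * c⁻¹) := by group
        _ = c * g * c⁻¹ * (c * u * c⁻¹) := h
        _ = c * (g * u) * c⁻¹ := by group
    simpa using h'
  obtain ⟨Q, hQ⟩ := CfsgLib.Block.exists_sylow_cenSub_ge (CfsgLib.Solvable.pCore_isPGroup p) hle
  obtain ⟨y, -, hy⟩ := CfsgLib.Block.le_conj_cenSub P (CfsgLib.Solvable.pCore_isPGroup p) hle
  intro u hu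
  have h4 := CfsgLib.Block.mem_map_conj_iff.1
    (hy ((CfsgLib.Solvable.pCore_normal p G).conj_mem u hu y))
  simpa [mul_assoc] using h4

end Cfsg.Agent.S0912
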