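import Cfsg.Statements.S0914
import Cfsg.Agent.Lib.Block.DefectOrder

set_option autoImplicit false
open Cfsg

namespace Cfsg.Agent.S0914

/-- Let χ be an irreducible character of the finite group G, p a prime and M a maximal ideal of the algebraic integers containing p. Then p does not divide the integer (Nat.card G) / χ(1) if and only if the block of χ relative to M consists of χ alone. -/
theorem result {G : Type*} [Group G] [Finite G] (p : ℕ) [Fact p.Prime] (M : Ideal Cfsg.AlgInt) (hM : Cfsg.IsPModular p M) (χ : Cfsg.IrrCharacter G) : ¬ p ∣ Nat.card G / Cfsg.charDegree (χ : G → ℂ) ↔ Cfsg.blockOf M (χ : G → ℂ) = {χ} := by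
  have := CfsgLib.Block.isPrime_of_pmodular hM
  classical
  have := Fintype.ofFinite G
  have := Fintype.ofFinite (Cfsg.IrrCharacter G)
  set B := Cfsg.blockOf M (χ : G → ℂ) with hBdef
  have hB : Cfsg.IsPBlock M B := CfsgLib.Block.isPBlock_blockOf χ
  have hd0 := CfsgLib.Block.charDegree_ne_zero χ.2
  have hdvd : Cfsg.charDegree (χ : G → ℂ) ∣ Nat.card G := by
    obtain ⟨n, ρ, hρ, hρe⟩ := χ.2
    have h1 := CfsgLib.Char.degree_dvd_card ρ
    have h2 : Cfsg.charDegree (χ : G → ℂ) = Module.finrank ℂ (Fin n → ℂ) := by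
      rw [← hρe]
      simp [Cfsg.charDegree]
    rwa [h2]
  have hiff : ¬ p ∣ Nat.card G / Cfsg.charDegree (χ : G → ℂ) ↔
      (Cfsg.charDegree (χ : G → ℂ)).factorization p = (Nat.card G).factorization p := by
    obtain ⟨c, hc⟩ := hdvd
    have hc0 : c ≠ 0 := by
      rintro rfl
      simp at hc
    rw [hc, Nat.mul_div_cancel_left _ (Nat.pos_of_ne_zero hd0), Nat.factorization_mul hd0 hc0]
    simp only [Finsupp.add_apply, left_eq_add]
    rw [Nat.factorization_eq_zero_iff]
    constructor
    · exact fun h => Or.inr (Or.inl h)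
    · rintro (h | h | h)
      · exact absurd hM.1 h
      · exact h
      · exact absurd h hc0
  rw [hiff]
  constructor
  · intro he
    refine Set.Subset.antisymm (fun ψ hψ => ?_)
      (Set.singleton_subset_iff.2 (CfsgLib.Block.mem_blockOf_self χ))
    refine CfsgLib.Block.mem_of_integral_blockSum (M := M)
      (A := ({χ} : Set (Cfsg.IrrCharacter G))) (χ := χ) (fun g => ?_) rfl hψ
    rw [CfsgLib.Block.blockCoeff_eq_sum]
    simp only [Set.mem_singleton_iff, Finset.sum_ite_eq', Finset.mem_univ, if_true]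
    simp only [CfsgLib.Block.idemC, CfsgLib.Block.coeff_mkGA]
    rw [← CfsgLib.Block.charDegree_cast (CfsgLib.Char.irr_isCharacter χ.2), ← mul_assoc,
      inv_mul_eq_div]
    refine CfsgLib.Block.memLocalRing_mul (CfsgLib.Block.memLocalRing_natCast_div hM
      Nat.card_pos.ne' (Or.inr he.ge)) ?_
    rw [CfsgLib.Block.irr_conj_eq χ.2]
    exact CfsgLib.Block.memLocalRing_irr_apply χ _
  · intro hsing
    obtain ⟨g, hg⟩ := CfsgLib.Block.exists_isDefectClass hM hB
    have hinf := CfsgLib.Block.sInf_degree_eq hM hB hg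
    rw [hsing, Set.image_singleton, csInf_singleton] at hinf
    refine le_antisymm ((Nat.factorization_le_iff_dvd hd0 Nat.card_pos.ne').2 hdvd p) ?_
    -- the restriction to a Sylow subgroup is a multiple of the regular character
    let P : Sylow p G := Classical.arbitrary _
    let _ := Fintype.ofFinite ↥(P : Subgroup G)
    have hsingv : ∀ y : G, p ∣ orderOf y → (χ : G → ℂ) y = 0 := by
      intro y hy
      have h0 := CfsgLib.Block.blockCoeff_eq_zero_of_singular hM hB hy
      rw [CfsgLib.Block.blockCoeff_eq_sum, Finset.sum_eq_single χ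
        (fun b _ hb => if_neg (by rw [hsing]; exact hb))
        (fun h => absurd (Finset.mem_univ χ) h),
        if_pos (CfsgLib.Block.mem_blockOf_self χ)] at h0
      simp only [CfsgLib.Block.idemC, CfsgLib.Block.coeff_mkGA, mul_eq_zero, inv_eq_zero,
        map_eq_zero] at h0
      rcases h0 with h0 | h0 | h0
      · exact absurd h0 CfsgLib.Char.natCard_ne_zero
      · exact absurd h0 (CfsgLib.Char.irr_apply_one_ne_zero χ.2)
      · exact h0
    obtain ⟨k, hk⟩ := CfsgLib.Char.classInner_isCharacter_nat
      (CfsgLib.Char.isCharacter_restrict (CfsgLib.Char.irr_isCharacter χ.2) (P : Subgroup G))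
      CfsgLib.Char.isCharacter_one
    rw [CfsgLib.Char.classInner_def, Finset.sum_eq_single (1 : (P : Subgroup G))] at hk
    · simp only [map_one, mul_one, OneMemClass.coe_one] at hk
      rw [← CfsgLib.Block.charDegree_cast (CfsgLib.Char.irr_isCharacter χ.2)] at hk
      have hP0 : (Nat.card (P : Subgroup G) : ℂ) ≠ 0 := by exact_mod_cast Nat.card_pos.ne'
      rw [inv_mul_eq_div, div_eq_iff hP0] at hk
      have h3 : Nat.card (P : Subgroup G) ∣ Cfsg.charDegree (χ : G → ℂ) :=
        ⟨k, by rw [mul_comm]; exact_mod_cast hk⟩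
      rw [Sylow.card_eq_multiplicity] at h3
      exact (hM.1.pow_dvd_iff_le_factorization hd0).1 h3
    · intro y _ hy
      rw [hsingv (y : G), zero_mul]
      obtain ⟨j, hj⟩ := P.2 y
      obtain ⟨i, _, hi⟩ := (Nat.dvd_prime_pow hM.1).1 (orderOf_dvd_of_pow_eq_one hj)
      rw [Subgroup.orderOf_coe, hi]
      rcases Nat.eq_zero_or_pos i with rfl | hi0
      · exact absurd (orderOf_eq_one_iff.1 (by simpa using hi)) hy
      · exact dvd_pow_self p hi0.ne'
    · simp

end Cfsg.Agent.S0914
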