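import Cfsg.Statements.S0915
import Cfsg.Agent.Lib.Block.Covering
import Cfsg.Agent.Lib.Block.FirstMain
import Cfsg.Agent.Lib.Block.PSolvable

set_option autoImplicit false
open Cfsg CfsgLib.Block

namespace Cfsg.Agent.S0915

/-- Let G be a finite p-solvable group with trivial largest normal subgroup of order prime to p. Then any two irreducible characters of G lie in the same block relative to every maximal ideal M of the algebraic integers containing p: G has a single p-block. -/
theorem result {G : Type*} [Group G] [Finite G] (p : ℕ) [Fact p.Prime] (M : Ideal Cfsg.AlgInt) (hM : Cfsg.IsPModular p M) (hsolv : Cfsg.IsPSolvable p G) (hcore : Cfsg.pPrimeCore p G = ⊥) (χ ψ : Cfsg.IrrCharacter G) : Cfsg.SameBlock M (χ : G → ℂ) (ψ : G → ℂ) := by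
  classical
  have := isPrime_of_pmodular hM
  have := Fintype.ofFinite G
  have := CfsgLib.Solvable.pCore_normal p G
  have hsupp : ∀ B : Set (Cfsg.IrrCharacter G), Cfsg.IsPBlock M B → ∀ g : G, g ≠ 1 →
      (blkIdem M B : MonoidAlgebra (kres M) G).coeff g = 0 := by
    intro B hB g hg
    by_contra hne
    have hC := mem_centralizer_of_coeff_blkIdem_ne_zero hM (CfsgLib.Solvable.pCore_isPGroup p) hB hne
    obtain ⟨j, hj⟩ := IsPGroup.iff_orderOf.1 (CfsgLib.Solvable.pCore_isPGroup p)
      ⟨g, centralizer_pCore_le_of_isPSolvable hsolv hcore hC⟩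
    rw [Subgroup.orderOf_mk] at hj
    refine hne (blkIdem_coeff_eq_zero_of_singular hM hB ?_)
    rw [hj]
    refine dvd_pow_self p fun h => hg ?_
    rw [h, pow_zero, orderOf_eq_one_iff] at hj
    exact hj
  set B₁ := Cfsg.blockOf M (χ : G → ℂ)
  set B₂ := Cfsg.blockOf M (ψ : G → ℂ)
  by_contra hne
  have h1 : ∀ B : Set (Cfsg.IrrCharacter G), Cfsg.IsPBlock M B →
      (blkIdem M B : MonoidAlgebra (kres M) G).coeff 1 ≠ 0 := by
    intro B hB h
    obtain ⟨φ, hφ⟩ := isPBlock_nonempty hB
    have h0 : blkIdem M B = 0 := by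
      apply Subtype.ext
      ext g
      by_cases hg : g = 1
      · rw [hg, h]; simp
      · rw [hsupp B hB g hg]; simp
    have := (algHom_blkIdem_eq_one_iff hM hB φ).2 hφ
    rw [h0, map_zero] at this
    exact zero_ne_one this
  have hmul := congrArg (fun z : Subalgebra.center (kres M) (MonoidAlgebra (kres M) G) =>
    (z : MonoidAlgebra (kres M) G).coeff 1)
    (blkIdem_mul_ne hM (isPBlock_blockOf (M := M) χ) (isPBlock_blockOf (M := M) ψ) (fun h => hne (by
      have := mem_blockOf_self (M := M) ψ
      rw [← h] at this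
      exact this)))
  simp only [MulMemClass.coe_mul, coeff_mul_eq, ZeroMemClass.coe_zero, MonoidAlgebra.coeff_zero,
    Finsupp.zero_apply] at hmul
  rw [Finset.sum_eq_single 1 (fun b _ hb => by
    rw [hsupp B₁ (isPBlock_blockOf χ) b hb, zero_mul]) (by simp)] at hmul
  simp only [inv_one, mul_one] at hmul
  rcases mul_eq_zero.1 hmul with h | h
  · exact h1 B₁ (isPBlock_blockOf χ) h
  · exact h1 B₂ (isPBlock_blockOf ψ) h

end Cfsg.Agent.S0915
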