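import Cfsg.Statements.S0916
import Cfsg.Agent.Lib.Block.FirstMain

set_option autoImplicit false
open Cfsg CfsgLib.Block

namespace Cfsg.Agent.S0916

/-- Let P be a p-subgroup of the finite group G, C its centralizer and N its normalizer. Say that a conjugacy class (of G, or of N) has defect group P when P is a Sylow p-subgroup of the centralizer (in G, respectively in N) of some element of the class. Then: (i) if the class of g in G has defect group P, the elements of that class lying in C form a single N-class, again with defect group P; (ii) every N-class with defect group P arises this way from exactly one G-class with defect group P. -/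
theorem result {G : Type*} [Group G] [Finite G] (p : ℕ) [Fact p.Prime] (P : Subgroup G) (hP : IsPGroup p P) : (∀ g : G, (∃ S : Sylow p (Subgroup.centralizer ({g} : Set G)), (S : Subgroup (Subgroup.centralizer ({g} : Set G))).map (Subgroup.centralizer ({g} : Set G)).subtype = P) → (∃ c : G, IsConj g c ∧ c ∈ Subgroup.centralizer (P : Set G)) ∧ (∀ c₁ c₂ : G, IsConj g c₁ → IsConj g c₂ → c₁ ∈ Subgroup.centralizer (P : Set G) → c₂ ∈ Subgroup.centralizer (P : Set G) → ∃ n ∈ Subgroup.normalizer (P : Set G), n * c₁ * n⁻¹ = c₂)) ∧ (∀ c : G, c ∈ Subgroup.centralizer (P : Set G) → (∃ S : Sylow p (Subgroup.centralizer ({c} : Set G) ⊓ Subgroup.normalizer (P : Set G) : Subgroup G), (S : Subgroup ↥(Subgroup.centralizer ({c} : Set G) ⊓ Subgroup.normalizer (P : Set G))).map (Subgroup.centralizer ({c} : Set G) ⊓ Subgroup.normalizer (P : Set G)).subtype = P) → ∃ S : Sylow p (Subgroup.centralizer ({c} : Set G)), (S : Subgroup (Subgroup.centralizer ({c} : Set G))).map (Subgroup.centralizer ({c} : Set G)).subtype = P) := by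
  refine ⟨fun g ⟨S, hS⟩ => ⟨⟨g, IsConj.refl g, ?_⟩, fun c₁ c₂ h1 h2 hc1 hc2 => ?_⟩, fun c hc ⟨S, hS⟩ => ?_⟩
  · rw [Subgroup.mem_centralizer_iff]
    intro w hw
    rw [← hS] at hw
    exact Subgroup.mem_centralizer_singleton_iff.1 (cenSub_le g _ hw)
  · obtain ⟨n₁, hn₁, hg₁⟩ := exists_normalizer_conj ⟨S, hS⟩ hc1 h1
    obtain ⟨n₂, hn₂, hg₂⟩ := exists_normalizer_conj ⟨S, hS⟩ hc2 h2
    refine ⟨n₂ * n₁⁻¹, mul_mem hn₂ (inv_mem hn₁), ?_⟩
    rw [← hg₁, ← hg₂]
    group
  · refine exists_sylow_cenSub_eq_of_local hP hc fun R hR hPR hR' => ?_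
    have h := S.is_maximal' (Q := R.subgroupOf _) hR.comap_subtype (fun x hx => hPR (hS.le ⟨x, hx, rfl⟩))
    rw [← hS, ← h, Subgroup.subgroupOf_map_subtype, inf_eq_left.2 hR']

end Cfsg.Agent.S0916
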