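import Cfsg.Statements.S0917
import Cfsg.Agent.Lib.Block.DefectClass
import Cfsg.Agent.Lib.Block.Induced

set_option autoImplicit false
open Cfsg

namespace Cfsg.Agent.S0917

/-- Let H be a subgroup of the finite group G, p a prime and M a maximal ideal of the algebraic integers containing p. If the block b of H induces the block B of G relative to M, then every defect group of b (a subgroup of H, viewed in G) is contained in some defect group of B. -/
theorem result {G : Type*} [Group G] [Finite G] (p : ℕ) [Fact p.Prime] (M : Ideal Cfsg.AlgInt) (hM : Cfsg.IsPModular p M) (H : Subgroup G) (b : Set (Cfsg.IrrCharacter H)) (hb : Cfsg.IsPBlock M b) (B : Set (Cfsg.IrrCharacter G)) (hB : Cfsg.IsPBlock M B) (hind : Cfsg.IsInducedBlock M H b B) (D : Subgroup H) (hD : Cfsg.IsDefectGroup p M b D) : ∃ E : Subgroup G, Cfsg.IsDefectGroup p M B E ∧ D.map H.subtype ≤ E := by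
  have := CfsgLib.Block.isPrime_of_pmodular hM
  obtain ⟨χ, hχ⟩ := CfsgLib.Block.isPBlock_nonempty hB
  obtain ⟨ξ, hξ⟩ := CfsgLib.Block.isPBlock_nonempty hb
  obtain ⟨g, hg⟩ := CfsgLib.Block.exists_isDefectClass hM hB
  let P : Sylow p (Subgroup.centralizer ({g} : Set G)) := Classical.arbitrary _
  have h2 := ((CfsgLib.Block.isDefectClass_iff hM hB hχ g).1 hg).2
  rw [← (CfsgLib.Block.isInducedBlock_iff H hb hB hξ hχ).1 hind] at h2
  obtain ⟨h, hh0, hh⟩ := CfsgLib.Block.exists_classSumZ_of_lam_ne_zero hM hb hξ h2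
  rw [CfsgLib.Block.coe_resZ, CfsgLib.Block.coeff_resSub] at hh0
  have hgh : IsConj g (h : G) := by
    classical
    by_contra hn
    apply hh0
    change (CfsgLib.Block.classSum (CfsgLib.Block.kres M) g).coeff (h : G) = 0
    rw [CfsgLib.Block.coeff_classSum, if_neg hn]
  obtain ⟨d, hd, R, rfl⟩ := hD
  let Q : Sylow p (Subgroup.centralizer ({h} : Set H)) := Classical.arbitrary _
  obtain ⟨x, hx⟩ := CfsgLib.Block.exists_defect_le_conj hM hb hd R hξ hh Q
  obtain ⟨y, hy⟩ := isConj_iff.1 hgh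
  obtain ⟨z, -, hz⟩ := CfsgLib.Block.le_conj_cenSub P
    (R := ((CfsgLib.Block.cenSub h (Q : Subgroup (Subgroup.centralizer ({h} : Set H)))).map
      H.subtype).map (MulAut.conj y⁻¹).toMonoidHom)
    (((CfsgLib.Block.isPGroup_cenSub h Q).map _).map _) (by
      intro r hr
      obtain ⟨s, ⟨s', hs', rfl⟩, rfl⟩ := hr
      have h5 := Subgroup.mem_centralizer_singleton_iff.1 (CfsgLib.Block.cenSub_le h _ hs')
      have h6 : (s' : G) * (h : G) = (h : G) * (s' : G) := congrArg Subtype.val h5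
      rw [Subgroup.mem_centralizer_singleton_iff]
      simp only [MulEquiv.toMonoidHom_eq_coe, MonoidHom.coe_coe, MulAut.conj_apply,
        Subgroup.coe_subtype, inv_inv]
      calc y⁻¹ * (s' : G) * y * g = y⁻¹ * ((s' : G) * (y * g * y⁻¹)) * y := by group
        _ = y⁻¹ * ((y * g * y⁻¹) * (s' : G)) * y := by rw [hy, h6]
        _ = g * (y⁻¹ * (s' : G) * y) := by group)
  refine ⟨_, CfsgLib.Block.defectGroup_conj hM hB ⟨g, hg, P, rfl⟩ ((x : G) * y * z),
    fun w hw => ?_⟩
  obtain ⟨w', hw', rfl⟩ := hw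
  have h7 := CfsgLib.Block.mem_map_conj_iff.1 (hx hw')
  have h8 := hz (show y⁻¹ * ((x⁻¹ * w' * x : H) : G) * y ∈ _ from
    ⟨((x⁻¹ * w' * x : H) : G), ⟨_, h7, rfl⟩, by simp [MulAut.conj_apply]⟩)
  rw [CfsgLib.Block.mem_map_conj_iff] at h8 ⊢
  simpa [mul_assoc] using h8

end Cfsg.Agent.S0917
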