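import Cfsg.Statements.S0918
import Cfsg.Agent.Lib.Block.BrauerInd

set_option autoImplicit false
open Cfsg

namespace Cfsg.Agent.S0918

/-- Let P be a p-subgroup of the finite group G and H a subgroup with P·C_G(P) ≤ H ≤ N_G(P); let b be a block of H and B a block of G relative to a maximal ideal M of the algebraic integers containing p. Then b induces B if and only if, for every g ∈ G, every ξ ∈ b and every χ ∈ B, the central character of χ at g is congruent modulo the local ideal at M to the sum of ξ h / ξ 1 over the elements h of H conjugate in G to g and centralizing P. -/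
theorem result {G : Type*} [Group G] [Finite G] (p : ℕ) [Fact p.Prime] (M : Ideal Cfsg.AlgInt) (hM : Cfsg.IsPModular p M) (P H : Subgroup G) (hP : IsPGroup p P) (hPH : P ≤ H) (hCH : Subgroup.centralizer (P : Set G) ≤ H) (hHN : H ≤ Subgroup.normalizer (P : Set G)) (b : Set (Cfsg.IrrCharacter H)) (hb : Cfsg.IsPBlock M b) (B : Set (Cfsg.IrrCharacter G)) (hB : Cfsg.IsPBlock M B) : Cfsg.IsInducedBlock M H b B ↔ ∀ ξ ∈ b, ∀ χ ∈ B, ∀ g : G, Cfsg.MemLocalIdeal M (Cfsg.brauerCentralChar P H (ξ : H → ℂ) g - Cfsg.centralChar (χ : G → ℂ) g) := by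
  have := CfsgLib.Block.isPrime_of_pmodular hM
  classical
  have := CfsgLib.Block.charP_kres hM
  have := Fintype.ofFinite H
  have key : ∀ (ξ : Cfsg.IrrCharacter H) (g : G),
      Cfsg.MemLocalRing M (Cfsg.brauerCentralChar P H (ξ : H → ℂ) g) ∧
      CfsgLib.Block.redC M (Cfsg.brauerCentralChar P H (ξ : H → ℂ) g) =
        CfsgLib.Block.redC M (Cfsg.inducedCentralChar H (ξ : H → ℂ) g) := by
    intro ξ g
    have heq : Cfsg.brauerCentralChar P H (ξ : H → ℂ) g =
        CfsgLib.Block.omegaC (ξ : H → ℂ)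
          (CfsgLib.Block.brRes P H (CfsgLib.Block.classSum ℂ g)) := by
      rw [Cfsg.brauerCentralChar, CfsgLib.Block.omegaC_eq, finsum_mem_def,
        finsum_eq_sum_of_fintype, Finset.sum_div]
      refine Finset.sum_congr rfl fun x _ => ?_
      rw [Set.indicator_apply]
      simp only [Set.mem_ofPred_eq]
      by_cases hx : (x : G) ∈ Subgroup.centralizer (P : Set G)
      · rw [CfsgLib.Block.coeff_brRes_of_mem _ hx, CfsgLib.Block.coeff_classSum]
        by_cases hg : IsConj g (x : G)
        · rw [if_pos ⟨hg, hx⟩, if_pos hg, one_mul]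
        · rw [if_neg (fun h => hg h.1), if_neg hg]; simp
      · rw [CfsgLib.Block.coeff_brRes_of_not_mem _ hx, if_neg (fun h => hx h.2)]; simp
    have hloc : CfsgLib.Block.IsLocalCentral M
        (CfsgLib.Block.brRes P H (CfsgLib.Block.classSum ℂ g)) := by
      refine ⟨CfsgLib.Block.brRes_isClassCoeff hHN (CfsgLib.Block.classSum_isClassCoeff g),
        fun x => ?_⟩
      by_cases hx : (x : G) ∈ Subgroup.centralizer (P : Set G)
      · rw [CfsgLib.Block.coeff_brRes_of_mem _ hx]
        exact (CfsgLib.Block.isLocalCentral_classSum g).2 _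
      · rw [CfsgLib.Block.coeff_brRes_of_not_mem _ hx]
        exact (CfsgLib.Block.lring M).zero_mem
    refine ⟨heq ▸ CfsgLib.Block.memLocalRing_omegaC ξ.2 hloc, ?_⟩
    rw [heq, ← CfsgLib.Block.lam_resZ_classSumZ,
      CfsgLib.Block.lam_resZ_eq_brHom hM hP hPH hCH hHN]
    refine (CfsgLib.Block.lam_apply ξ hloc _ ?_).symm
    rw [CfsgLib.Block.coe_brHom]
    ext x
    by_cases hx : (x : G) ∈ Subgroup.centralizer (P : Set G)
    · simp only [CfsgLib.Block.redA, CfsgLib.Block.coeff_mkGA,
        CfsgLib.Block.coeff_brRes_of_mem _ hx, CfsgLib.Block.classSumZ]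
      rw [← CfsgLib.Block.redA_classSum (M := M) g]
      simp [CfsgLib.Block.redA]
    · simp only [CfsgLib.Block.redA, CfsgLib.Block.coeff_mkGA,
        CfsgLib.Block.coeff_brRes_of_not_mem _ hx, CfsgLib.Block.redC_zero]
  constructor
  · rintro ⟨-, -, h⟩ ξ hξ χ hχ g
    rw [← CfsgLib.Block.redC_eq_iff (key ξ g).1 (CfsgLib.Block.memLocalRing_centralChar χ.2 g),
      (key ξ g).2, CfsgLib.Block.redC_eq_iff
        (CfsgLib.Block.memLocalRing_inducedCentralChar H ξ.2 g)
        (CfsgLib.Block.memLocalRing_centralChar χ.2 g)]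
    exact h ξ hξ χ hχ g
  · intro h
    refine ⟨hb, hB, fun ξ hξ χ hχ g => ?_⟩
    rw [← CfsgLib.Block.redC_eq_iff (CfsgLib.Block.memLocalRing_inducedCentralChar H ξ.2 g)
        (CfsgLib.Block.memLocalRing_centralChar χ.2 g), ← (key ξ g).2,
      CfsgLib.Block.redC_eq_iff (key ξ g).1 (CfsgLib.Block.memLocalRing_centralChar χ.2 g)]
    exact h ξ hξ χ hχ g

end Cfsg.Agent.S0918
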