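import Cfsg.Statements.S0922
import Cfsg.Agent.Lib.Block.Orthogonality

set_option autoImplicit false
open Cfsg

namespace Cfsg.Agent.S0922

/-- Let H be a subgroup of the finite group G and let the block b of H induce the block B of G (relative to a maximal ideal M of the algebraic integers containing the prime p). Let h ∈ H be such that the centralizer in G of the p-part of h lies in H, and let χ be an irreducible character of G not in B. Then the sum over k ∈ H of (the idempotent coefficient of b at k) times χ (k * h) vanishes; that is, χ annihilates f_b h where f_b is the sum of the central idempotents of the members of b. -/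
theorem result {G : Type*} [Group G] [Finite G] (p : ℕ) [Fact p.Prime] (M : Ideal Cfsg.AlgInt) (hM : Cfsg.IsPModular p M) (H : Subgroup G) (b : Set (Cfsg.IrrCharacter H)) (B : Set (Cfsg.IrrCharacter G)) (hind : Cfsg.IsInducedBlock M H b B) (h : H) (hC : ∀ z : G, Cfsg.IsPPart p (h : G) z → Subgroup.centralizer ({z} : Set G) ≤ H) (χ : Cfsg.IrrCharacter G) (hχ : χ ∉ B) : ∑ᶠ k : H, Cfsg.blockCoeff b k * (χ : G → ℂ) ((k : G) * (h : G)) = 0 := by
  have := CfsgLib.Block.isPrime_of_pmodular hM
  classical
  have := Fintype.ofFinite G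
  obtain ⟨u, hu⟩ := CfsgLib.Block.exists_isPPart hM.1 (h : G)
  have h1 := CfsgLib.Block.chiExt_inclSub_blockSum_eq_zero hM hind h.2 hu (hC u hu) hχ
  rw [CfsgLib.Block.chiExt_eq] at h1
  rw [finsum_eq_sum_of_fintype, ← h1,
    ← Finset.sum_filter_of_ne (s := (Finset.univ : Finset G)) (p := fun x => x ∈ H)]
  · refine Finset.sum_bij (fun (k : H) _ => (k : G)) (fun k _ => by simp)
      (fun a _ b _ h => Subtype.ext h) (fun x hx => ⟨⟨x, by simpa using hx⟩, Finset.mem_univ _, rfl⟩)
      (fun k _ => ?_)
    rw [CfsgLib.Block.coeff_inclSub_of_mem]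
    simp [CfsgLib.Block.blockSum]
  · intro x _ hne
    by_contra hx
    exact hne (by rw [CfsgLib.Block.coeff_inclSub_of_not_mem H _ hx, zero_mul])

end Cfsg.Agent.S0922
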