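import Cfsg.Statements.S0925
import Cfsg.Agent.Lib.Block.Orthogonality

set_option autoImplicit false
open Cfsg

namespace Cfsg.Agent.S0925

/-- (i) Let ϑ be a class function on the finite group G and x a p-element, and suppose ϑ vanishes at every element whose p-part is conjugate to x. Then for every block B (relative to a maximal ideal M of the algebraic integers containing p) the B-part of ϑ — the sum over χ ∈ B of the inner product of ϑ with χ, times χ — also vanishes at every such element. (ii) Block orthogonality, its corollary: if the p-parts of g and h are not conjugate, then the sum over χ ∈ B of χ g * χ h⁻¹ is zero for every block B. -/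
theorem result {G : Type*} [Group G] [Finite G] (p : ℕ) [Fact p.Prime] (M : Ideal Cfsg.AlgInt) (hM : Cfsg.IsPModular p M) : (∀ (ϑ : G → ℂ), Cfsg.IsClassFunction G ϑ → ∀ x : G, (∃ k : ℕ, orderOf x = p ^ k) → (∀ u z : G, Cfsg.IsPPart p u z → IsConj x z → ϑ u = 0) → ∀ B : Set (Cfsg.IrrCharacter G), Cfsg.IsPBlock M B → ∀ u z : G, Cfsg.IsPPart p u z → IsConj x z → Cfsg.blockPart B ϑ u = 0) ∧ (∀ g h x y : G, Cfsg.IsPPart p g x → Cfsg.IsPPart p h y → ¬ IsConj x y → ∀ B : Set (Cfsg.IrrCharacter G), Cfsg.IsPBlock M B → ∑ᶠ χ ∈ B, (χ : G → ℂ) g * (χ : G → ℂ) h⁻¹ = 0) := by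
  have := CfsgLib.Block.isPrime_of_pmodular hM
  classical
  letI := Fintype.ofFinite G
  have := Fintype.ofFinite (Cfsg.IrrCharacter G)
  constructor
  · intro ϑ hϑ x hx hvan B hB u z hu hzx
    simp only [Cfsg.blockPart]
    rw [finsum_mem_def, finsum_eq_sum_of_fintype]
    have hrw : ∀ χ : Cfsg.IrrCharacter G,
        B.indicator (fun χ : Cfsg.IrrCharacter G =>
          Cfsg.classInner ϑ (χ : G → ℂ) * (χ : G → ℂ) u) χ
        = ∑ h : G, (Nat.card G : ℂ)⁻¹ * ϑ h *
            B.indicator (fun χ : Cfsg.IrrCharacter G =>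
              (χ : G → ℂ) u * (starRingEnd ℂ) ((χ : G → ℂ) h)) χ := by
      intro χ
      simp only [Set.indicator_apply]
      split
      · rw [CfsgLib.Char.classInner_def, Finset.mul_sum, Finset.sum_mul]
        exact Finset.sum_congr rfl fun h _ => by ring
      · simp
    refine Eq.trans (Finset.sum_congr rfl fun χ _ => hrw χ) ?_
    rw [Finset.sum_comm]
    refine Finset.sum_eq_zero fun h _ => ?_
    rw [← Finset.mul_sum]
    obtain ⟨w, hw⟩ := CfsgLib.Block.exists_isPPart hM.1 h
    by_cases hc : IsConj z w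
    · rw [hvan h w hw (hzx.trans hc), mul_zero, zero_mul]
    · have h0 := CfsgLib.Block.sum_block_eq_zero hM hB hu hw hc
      rw [finsum_mem_def, finsum_eq_sum_of_fintype] at h0
      rw [h0, mul_zero]
  · intro g h x y hx hy hne B hB
    rw [← CfsgLib.Block.sum_block_eq_zero hM hB hx hy hne]
    exact finsum_mem_congr rfl fun χ _ => by rw [CfsgLib.Block.irr_conj_eq χ.2]

end Cfsg.Agent.S0925
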