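import Cfsg.Statements.S0926
import Cfsg.Agent.Lib.Block.MainTheorems

set_option autoImplicit false
open Cfsg

namespace Cfsg.Agent.S0926

/-- Let B be a block of the finite group G with defect group D (relative to a maximal ideal M of the algebraic integers containing p), let χ ∈ B have height zero, and let x be a p-element. Then some conjugate of x lies in D if and only if χ does not vanish on the whole p-section of x (the elements whose p-part is conjugate to x). -/
theorem result {G : Type*} [Group G] [Finite G] (p : ℕ) [Fact p.Prime] (M : Ideal Cfsg.AlgInt) (hM : Cfsg.IsPModular p M) (B : Set (Cfsg.IrrCharacter G)) (hB : Cfsg.IsPBlock M B) (D : Subgroup G) (hD : Cfsg.IsDefectGroup p M B D) (χ : Cfsg.IrrCharacter G) (hχ : χ ∈ B) (h0 : Cfsg.blockHeight p B (χ : G → ℂ) = 0) (x : G) (hx : ∃ k : ℕ, orderOf x = p ^ k) : (∃ g : G, g * x * g⁻¹ ∈ D) ↔ ∃ u : G, (∃ z : G, Cfsg.IsPPart p u z ∧ IsConj x z) ∧ (χ : G → ℂ) u ≠ 0 := by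
  have := CfsgLib.Block.isPrime_of_pmodular hM
  constructor
  · rintro ⟨g, hg⟩
    obtain ⟨y, hy, P, hDP⟩ := hD
    rw [hDP] at hg
    obtain ⟨x', hx', hxe⟩ := hg
    have hcxy : Commute (x' : G) y := Subgroup.mem_centralizer_singleton_iff.1 x'.2
    have hxe' : (x' : G) = g * x * g⁻¹ := hxe
    have hxp : ∃ k : ℕ, orderOf (x' : G) = p ^ k := by
      obtain ⟨k, hk⟩ := hx
      refine ⟨k, ?_⟩
      rw [hxe', ← hk]
      exact orderOf_injective (MulAut.conj g).toMonoidHom (MulAut.conj g).injective x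
    refine ⟨(x' : G) * y, ⟨(x' : G), CfsgLib.Block.isPPart_mul hcxy hxp
      (CfsgLib.Block.isDefectClass_regular hM hB hy), isConj_iff.2 ⟨g, hxe'.symm⟩⟩, fun hz => ?_⟩
    apply CfsgLib.Block.redC_char_defectClass_ne_zero hM hB hy hχ h0
    rw [← CfsgLib.Block.redC_char_mul_pelement hM (CfsgLib.Char.irr_isCharacter χ.2) hcxy hxp, hz,
      CfsgLib.Block.redC_zero]
  · rintro ⟨u, ⟨z, hz, hxz⟩, hne⟩
    by_contra hcon
    push Not at hcon
    apply hne
    refine CfsgLib.Block.irr_apply_eq_zero_of_not_mem_defect hM hB hz (fun E hE hzE => ?_) hχ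
    obtain ⟨c, rfl⟩ := CfsgLib.Block.defectGroup_exists_conj hM hB hD hE
    obtain ⟨a, ha⟩ := isConj_iff.1 hxz
    rw [CfsgLib.Block.mem_map_conj_iff] at hzE
    apply hcon (c⁻¹ * a)
    rw [← ha] at hzE
    simpa [mul_assoc] using hzE

end Cfsg.Agent.S0926
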