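import Cfsg.Agent.Lib.Block.Knorr

set_option autoImplicit false
open Cfsg

namespace Cfsg.Agent.S0928

open CfsgLib.Block in
/-- Let χ be an irreducible character of the finite group G and p a prime. If χ g = 0 for every element g of order p, then the exponent of p in the degree χ(1) equals the exponent of p in the order of G (χ has p-defect zero). -/
theorem result {G : Type*} [Group G] [Finite G] (p : ℕ) [Fact p.Prime] (χ : Cfsg.IrrCharacter G) (hvan : ∀ g : G, orderOf g = p → (χ : G → ℂ) g = 0) : (Cfsg.charDegree (χ : G → ℂ)).factorization p = (Nat.card G).factorization p := by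
  obtain ⟨M, hM⟩ := CfsgLib.BlockB.exists_isPModular (Fact.out : p.Prime)
  have := hM.2.1.isPrime
  have hB : IsPBlock M (blockOf M (χ : G → ℂ)) := isPBlock_blockOf χ
  have h0 := blockDefect_eq_zero_of_vanish hM hB (mem_blockOf_self χ) hvan
  have h2 := sInf_degree_add_blockDefect hM hB
  rw [h0, add_zero] at h2
  refine le_antisymm ?_ ?_
  · obtain ⟨n, ρ, hρ, he⟩ := χ.2
    have hdvd := CfsgLib.Char.degree_dvd_card ρ
    have hd : charDegree (χ : G → ℂ) = Module.finrank ℂ (Fin n → ℂ) := by
      have h1 := charDegree_cast (CfsgLib.Char.irr_isCharacter χ.2)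
      rw [← he, Representation.char_one] at h1
      rw [← he]
      exact_mod_cast h1
    rw [hd]
    exact (Nat.factorization_le_iff_dvd (Nat.pos_iff_ne_zero.1 (Nat.pos_of_dvd_of_pos hdvd
      Nat.card_pos)) Nat.card_pos.ne').2 hdvd p
  · rw [← h2]
    exact Nat.sInf_le ⟨χ, mem_blockOf_self χ, rfl⟩

end Cfsg.Agent.S0928
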