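import Cfsg.Statements.S0930
import Cfsg.Agent.Lib.Block.FirstMain

set_option autoImplicit false
open Cfsg CfsgLib.Block

namespace Cfsg.Agent.S0930

/-- Let H be a subgroup of the finite group G and fix a maximal ideal M of the algebraic integers containing the prime p. If the block b of H with defect group D induces the block B of G with defect group P, then every element of the centre of P is conjugate in G to an element of the centre of D. -/
theorem result {G : Type*} [Group G] [Finite G] (p : ℕ) [Fact p.Prime] (M : Ideal Cfsg.AlgInt) (hM : Cfsg.IsPModular p M) (H : Subgroup G) (b : Set (Cfsg.IrrCharacter H)) (B : Set (Cfsg.IrrCharacter G)) (hind : Cfsg.IsInducedBlock M H b B) (D : Subgroup H) (hD : Cfsg.IsDefectGroup p M b D) (P : Subgroup G) (hP : Cfsg.IsDefectGroup p M B P) (x : G) (hx : x ∈ P) (hxc : ∀ w ∈ P, x * w = w * x) : ∃ g : G, g * x * g⁻¹ ∈ D.map H.subtype ∧ ∀ w ∈ D.map H.subtype, (g * x * g⁻¹) * w = w * (g * x * g⁻¹) := by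
  classical
  have := isPrime_of_pmodular hM
  obtain ⟨y, hy, S, rfl⟩ := hP
  obtain ⟨ξ, hξ⟩ := isPBlock_nonempty hind.1
  obtain ⟨χ, hχ⟩ := isPBlock_nonempty hind.2.1
  obtain ⟨x', hx', rfl⟩ := hx
  have hne := lam_classSumZ_mul_ne_zero hM hind.2.1 hy S hx' (fun w hw => Subtype.ext
    (hxc w (Subgroup.mem_map_of_mem _ hw))) hχ
  rw [← (isInducedBlock_iff H hind.1 hind.2.1 hξ hχ).1 hind] at hne
  obtain ⟨h, hh0, hh⟩ := exists_classSumZ_of_lam_ne_zero hM hind.1 hξ hne
  rw [coe_resZ, coeff_resSub] at hh0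
  have hxyh : IsConj ((x' : G) * y) (h : G) := by
    by_contra hn
    apply hh0
    change (classSum (kres M) ((x' : G) * y)).coeff (h : G) = 0
    rw [coeff_classSum, if_neg hn]
  obtain ⟨h', hhh', hh'C, hh'D⟩ := exists_conj_pPart_mem hM hind.1 hD hξ hh
  obtain ⟨a, ha⟩ := isConj_iff.1 (hxyh.trans (H.subtype.map_isConj hhh'))
  obtain ⟨k, hk⟩ := IsPGroup.iff_orderOf.1 S.2 ⟨x', hx'⟩
  have hord : ∃ k : ℕ, orderOf (x' : G) = p ^ k := ⟨k, by
    rw [Subgroup.orderOf_coe, ← hk]; exact (Subgroup.orderOf_mk x' hx').symm⟩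
  have hcomm : Commute (x' : G) y := Subgroup.mem_centralizer_singleton_iff.1 x'.2
  have hpart := isPPart_conj (isPPart_mul hcomm hord (isDefectClass_regular hM hind.2.1 hy)) a
  rw [ha] at hpart
  obtain ⟨z, hz⟩ := exists_isPPart hM.1 h'
  have hze : (z : G) = a * x' * a⁻¹ :=
    isPPart_unique hM.1 (isPPart_map (f := H.subtype) H.subtype_injective hz) hpart
  refine ⟨a, ?_, fun w hw => ?_⟩
  · change a * (x' : G) * a⁻¹ ∈ _
    rw [← hze]
    exact Subgroup.mem_map_of_mem _ (hh'D z hz)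
  · change a * (x' : G) * a⁻¹ * w = w * (a * (x' : G) * a⁻¹)
    obtain ⟨u, hu, rfl⟩ := hw
    rw [← hze]
    obtain ⟨n, rfl⟩ := Subgroup.mem_zpowers_iff.1 (isPPart_mem_zpowers hM.1 hz)
    exact congrArg Subtype.val
      (Commute.zpow_right (show Commute u h' from Subgroup.mem_centralizer_iff.1 hh'C u hu) n).symm

end Cfsg.Agent.S0930
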