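import Cfsg.Statements.S0931
import Cfsg.Agent.Lib.Block.FirstMain
import Cfsg.Agent.S0930

set_option autoImplicit false
open Cfsg CfsgLib.Block

namespace Cfsg.Agent.S0931

/-- Let H be a subgroup of the finite group G and fix a maximal ideal M of the algebraic integers containing the prime p. If the block b of H induces the block B of G, then b has defect 0 if and only if B has defect 0. -/
theorem result {G : Type*} [Group G] [Finite G] (p : ℕ) [Fact p.Prime] (M : Ideal Cfsg.AlgInt) (hM : Cfsg.IsPModular p M) (H : Subgroup G) (b : Set (Cfsg.IrrCharacter H)) (B : Set (Cfsg.IrrCharacter G)) (hind : Cfsg.IsInducedBlock M H b B) : Cfsg.blockDefect p b = 0 ↔ Cfsg.blockDefect p B = 0 := by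
  have := isPrime_of_pmodular hM
  obtain ⟨D, hD⟩ := exists_isDefectGroup hM hind.1
  obtain ⟨E, hE, hle⟩ := exists_map_subtype_le_defect hM hind hD
  have hcD := natCard_defectGroup hM hind.1 hD
  have hcE := natCard_defectGroup hM hind.2.1 hE
  have hp := hM.1.one_lt
  have hone : ∀ n : ℕ, p ^ n = 1 ↔ n = 0 := fun n => by simp [pow_eq_one_iff, hp.ne']
  constructor
  · intro h0
    rw [h0, pow_zero, Subgroup.card_eq_one] at hcD
    by_contra hB0
    have hEp := isPGroup_defectGroup hM hind.2.1 hE
    have : Nontrivial E := by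
      rw [← Finite.one_lt_card_iff_nontrivial, hcE]
      exact Nat.one_lt_pow hB0 hp
    have := hEp.center_nontrivial
    obtain ⟨⟨x, hx⟩, hx1⟩ := exists_ne (1 : Subgroup.center E)
    obtain ⟨g, hg, -⟩ := Cfsg.Agent.S0930.result p M hM H b B hind D hD E hE (x : G) x.2
      (fun w hw => (congrArg Subtype.val (Subgroup.mem_center_iff.1 hx ⟨w, hw⟩)).symm)
    rw [hcD, Subgroup.map_bot, Subgroup.mem_bot, conj_eq_one_iff] at hg
    exact hx1 (Subtype.ext (Subtype.ext hg))
  · intro h0
    have h1 := Subgroup.card_le_of_le hle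
    rw [hcE, Subgroup.card_map_of_injective H.subtype_injective, hcD, h0, pow_zero] at h1
    exact (hone _).1 (le_antisymm h1 (Nat.one_le_pow _ _ hM.1.pos))

end Cfsg.Agent.S0931
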