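import Cfsg.Statements.S0932
import Cfsg.Agent.Lib.Block.Induced
import Cfsg.Agent.Lib.Char.Induce

set_option autoImplicit false
open Cfsg

namespace Cfsg.Agent.S0932

/-- Let H be a subgroup of the finite group G and ξ a character of H. For every g ∈ G, the sum of ξ h / ξ 1 over the elements h ∈ H that are conjugate in G to g equals the central character at g of the character of G induced from ξ (class size times value divided by degree). -/
theorem result {G : Type*} [Group G] [Fintype G] (H : Subgroup G) (ξ : H → ℂ) (hξ : Cfsg.IsCharacter H ξ) (g : G) : Cfsg.inducedCentralChar H ξ g = Cfsg.centralChar (Cfsg.indFun H ξ) g := by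
  classical
  have := Fintype.ofFinite H
  have hcl := CfsgLib.Char.isCharacter_isClassFunction hξ
  have h1 : Cfsg.indFun H ξ 1 = ((Nat.card G : ℂ) / Nat.card H) * ξ 1 := by
    rw [CfsgLib.Char.indFun_def]
    simp only [mul_one, inv_mul_cancel]
    rw [CfsgLib.Char.extendByZero_of_mem _ H.one_mem, Finset.sum_const, Finset.card_univ,
      nsmul_eq_mul, Nat.card_eq_fintype_card (α := G), div_eq_mul_inv,
      show (⟨1, H.one_mem⟩ : H) = 1 from rfl]
    ring
  have hH0 : (Nat.card H : ℂ) ≠ 0 := by exact_mod_cast Nat.card_pos.ne'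
  have hG0 : (Nat.card G : ℂ) ≠ 0 := by exact_mod_cast Nat.card_pos.ne'
  have hind : Cfsg.indFun H ξ g = (Nat.card H : ℂ)⁻¹ *
      ((Nat.card (Subgroup.centralizer ({g} : Set G)) : ℂ) *
        ∑ h : H, if IsConj g (h : G) then ξ h else 0) := by
    rw [CfsgLib.Char.indFun_def]
    congr 1
    have hcount : ∀ y : G, IsConj g y → (Finset.univ.filter fun x : G => x⁻¹ * g * x = y).card =
        Nat.card (Subgroup.centralizer ({g} : Set G)) := by
      intro y hy
      obtain ⟨c, hc⟩ := isConj_iff.1 hy
      rw [Nat.card_eq_fintype_card, Fintype.card_subtype]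
      refine Finset.card_nbij' (fun x => x * c) (fun z => z * c⁻¹) ?_ ?_ ?_ ?_
      · intro x hx
        have hx' : x⁻¹ * g * x = y := by simpa using hx
        simp only [Finset.coe_filter, Finset.mem_univ, true_and,
          Subgroup.mem_centralizer_singleton_iff]
        calc x * c * g = x * (c * g * c⁻¹) * c := by group
          _ = x * (x⁻¹ * g * x) * c := by rw [hc, hx']
          _ = g * (x * c) := by group
      · intro z hz
        have hz' : z * g = g * z := by
          simpa [Subgroup.mem_centralizer_singleton_iff] using hz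
        simp only [Finset.coe_filter, Finset.mem_univ, true_and]
        calc (z * c⁻¹)⁻¹ * g * (z * c⁻¹) = c * (z⁻¹ * (g * z)) * c⁻¹ := by group
          _ = c * (z⁻¹ * (z * g)) * c⁻¹ := by rw [hz']
          _ = c * g * c⁻¹ := by group
          _ = y := hc
      · intro x _; simp
      · intro z _; simp
    rw [← Finset.sum_fiberwise Finset.univ (fun x : G => x⁻¹ * g * x)
      (fun x => Cfsg.extendByZero H ξ (x⁻¹ * g * x))]
    rw [Finset.mul_sum, ← Finset.sum_filter_of_ne (s := (Finset.univ : Finset G)) (p := (· ∈ H))]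
    · refine (Finset.sum_bij (fun (k : H) _ => (k : G)) (fun k _ => by simp)
        (fun a _ b _ h => Subtype.ext h) (fun x hx => ⟨⟨x, by simpa using hx⟩, Finset.mem_univ _, rfl⟩)
        (fun k _ => ?_)).symm
      rw [Finset.sum_congr rfl (g := fun _ => Cfsg.extendByZero H ξ k)
        (fun x hx => by rw [(Finset.mem_filter.1 hx).2]), Finset.sum_const, nsmul_eq_mul,
        CfsgLib.Char.extendByZero_coe]
      by_cases hk : IsConj g (k : G)
      · rw [if_pos hk, hcount k hk]
      · rw [if_neg hk, Finset.filter_eq_empty_iff.2 (fun x _ hx =>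
          hk (isConj_iff.2 ⟨x⁻¹, by simpa using hx⟩)), Finset.card_empty]
        simp
    · intro y _ hne
      by_contra hy
      exact hne (Finset.sum_eq_zero fun x hx => by
        rw [(Finset.mem_filter.1 hx).2, CfsgLib.Char.extendByZero_of_not_mem _ hy])
  rw [Cfsg.inducedCentralChar, Cfsg.centralChar, h1, hind]
  have hidx : ((Subgroup.centralizer ({g} : Set G)).index : ℂ) *
      (Nat.card (Subgroup.centralizer ({g} : Set G)) : ℂ) = (Nat.card G : ℂ) := by
    exact_mod_cast Subgroup.index_mul_card _
  rw [finsum_mem_def, finsum_eq_sum_of_fintype]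
  simp only [Set.indicator_apply, Set.mem_ofPred_eq]
  rcases eq_or_ne (ξ 1) 0 with h0 | h0
  · simp [h0]
  · have : (∑ x : H, if IsConj g (x : G) then ξ x / ξ 1 else 0) =
        (∑ x : H, if IsConj g (x : G) then ξ x else 0) / ξ 1 := by
      rw [Finset.sum_div]
      exact Finset.sum_congr rfl fun x _ => by split <;> simp
    rw [this]
    field_simp
    rw [mul_assoc, hidx]

end Cfsg.Agent.S0932
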