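import Cfsg.Statements.S0933
import Cfsg.Agent.Lib.Block.Induced
import Cfsg.Agent.S0932

set_option autoImplicit false
open Cfsg

namespace Cfsg.Agent.S0933

/-- Let H be a subgroup of the finite group G and ξ an irreducible character of H such that the induced function ξ^G is an irreducible character of G. Then, relative to any maximal ideal M of the algebraic integers containing the prime p, the block of ξ induces the block of ξ^G. -/
theorem result {G : Type*} [Group G] [Fintype G] (p : ℕ) [Fact p.Prime] (M : Ideal Cfsg.AlgInt) (hM : Cfsg.IsPModular p M) (H : Subgroup G) (ξ : Cfsg.IrrCharacter H) (hind : Cfsg.IsIrrCharacter G (Cfsg.indFun H (ξ : H → ℂ))) : Cfsg.IsInducedBlock M H (Cfsg.blockOf M (ξ : H → ℂ)) (Cfsg.blockOf M (Cfsg.indFun H (ξ : H → ℂ))) := by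
  have := CfsgLib.Block.isPrime_of_pmodular hM
  refine ⟨CfsgLib.Block.isPBlock_blockOf ξ,
    CfsgLib.Block.isPBlock_blockOf (⟨_, hind⟩ : Cfsg.IrrCharacter G), fun ξ' hξ' χ' hχ' g => ?_⟩
  let ψ : Cfsg.IrrCharacter G := ⟨_, hind⟩
  have h0 := Cfsg.Agent.S0932.result H (ξ : H → ℂ) (CfsgLib.Char.irr_isCharacter ξ.2) g
  rw [← CfsgLib.Block.redC_eq_iff (CfsgLib.Block.memLocalRing_inducedCentralChar H ξ'.2 g)
      (CfsgLib.Block.memLocalRing_centralChar χ'.2 g), ← CfsgLib.Block.lam_resZ_classSumZ,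
    ← CfsgLib.Block.lam_eq_of_sameBlock hξ', CfsgLib.Block.lam_resZ_classSumZ,
    ← (CfsgLib.Block.redC_eq_iff (CfsgLib.Block.memLocalRing_centralChar hind g)
      (CfsgLib.Block.memLocalRing_centralChar χ'.2 g)).2 (hχ' g), h0]

end Cfsg.Agent.S0933
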