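import Cfsg.Statements.S0934
import Cfsg.Agent.Lib.Block.Covering

set_option autoImplicit false
open Cfsg CfsgLib.Block
open scoped ComplexConjugate

namespace Cfsg.Agent.S0934

/-- Let H be a subgroup of the finite group G and fix a maximal ideal M of the algebraic integers containing the prime p. If the block b of H induces the block B of G and ξ ∈ b, then there is χ ∈ B whose restriction to H has nonzero inner product with ξ. -/
theorem result {G : Type*} [Group G] [Fintype G] (p : ℕ) [Fact p.Prime] (M : Ideal Cfsg.AlgInt) (hM : Cfsg.IsPModular p M) (H : Subgroup G) [Fintype H] (b : Set (Cfsg.IrrCharacter H)) (B : Set (Cfsg.IrrCharacter G)) (hind : Cfsg.IsInducedBlock M H b B) (ξ : Cfsg.IrrCharacter H) (hξ : ξ ∈ b) : ∃ χ ∈ B, Cfsg.classInner (fun h : H => (χ : G → ℂ) h) (ξ : H → ℂ) ≠ 0 := by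
  classical
  have := isPrime_of_pmodular hM
  by_contra hcon
  push Not at hcon
  obtain ⟨χ₀, hχ₀⟩ := isPBlock_nonempty hind.2.1
  have h1 := (isInducedBlock_iff H hind.1 hind.2.1 hξ hχ₀).1 hind (blkIdem M B)
  rw [(algHom_blkIdem_eq_one_iff hM hind.2.1 χ₀).2 hχ₀] at h1
  have hl := isLocalCentral_blockSum hM hind.2.1
  rw [lam_apply ξ (isLocalCentral_resSub H hl) (resZ H (blkIdem M B))
    (by rw [redA_resSub]; rfl)] at h1
  have h0 : omegaC (ξ : H → ℂ) (resSub H (blockSum B)) = 0 := by
    have := Fintype.ofFinite (Cfsg.IrrCharacter G)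
    rw [omegaC_eq, div_eq_zero_iff]
    left
    have hterm : ∀ h : H, (resSub H (blockSum B)).coeff h * (ξ : H → ℂ) h =
        (Nat.card G : ℂ)⁻¹ * ∑ χ : Cfsg.IrrCharacter G, if χ ∈ B then
          (χ : G → ℂ) 1 * (conj ((χ : G → ℂ) h) * (ξ : H → ℂ) h) else 0 := by
      intro h
      rw [coeff_resSub, blockSum, coeff_mkGA, Cfsg.blockCoeff, finsum_mem_def,
        finsum_eq_sum_of_fintype, mul_assoc, Finset.sum_mul]
      congr 1
      refine Finset.sum_congr rfl fun χ _ => ?_
      rw [Set.indicator_apply]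
      split <;> ring
    rw [Finset.sum_congr rfl (fun h _ => hterm h), ← Finset.mul_sum, Finset.sum_comm,
      Finset.sum_eq_zero, mul_zero]
    intro χ _
    by_cases hχ : χ ∈ B
    · simp only [if_pos hχ, ← Finset.mul_sum]
      refine mul_eq_zero_of_right _ ?_
      have h2 := hcon χ hχ
      rw [CfsgLib.Char.classInner_def, mul_eq_zero,
        or_iff_right (inv_ne_zero CfsgLib.Char.natCard_ne_zero)] at h2
      have h3 := congrArg conj h2
      rw [map_sum, map_zero] at h3
      rw [← h3]
      exact Finset.sum_congr rfl fun h _ => by simp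
    · simp [if_neg hχ]
  rw [h0, redC_zero] at h1
  exact zero_ne_one h1

end Cfsg.Agent.S0934
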