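import Cfsg.Statements.S0935
import Cfsg.Agent.Lib.Block.MainTheorems

set_option autoImplicit false
open Cfsg

namespace Cfsg.Agent.S0935

/-- Let H be a subgroup of the finite group G and χ an irreducible character of G whose restriction to H is irreducible; fix a maximal ideal M of the algebraic integers containing the prime p and suppose χ and its restriction have height zero in their blocks B and b. If e is a block of H whose induced block is defined, then e induces B if and only if e = b. -/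
theorem result {G : Type*} [Group G] [Finite G] (p : ℕ) [Fact p.Prime] (M : Ideal Cfsg.AlgInt) (hM : Cfsg.IsPModular p M) (H : Subgroup G) (χ : Cfsg.IrrCharacter G) (hres : Cfsg.IsIrrCharacter H (fun h : H => (χ : G → ℂ) h)) (hχ0 : Cfsg.blockHeight p (Cfsg.blockOf M (χ : G → ℂ)) (χ : G → ℂ) = 0) (hψ0 : Cfsg.blockHeight p (Cfsg.blockOf M (fun h : H => (χ : G → ℂ) h)) (fun h : H => (χ : G → ℂ) h) = 0) (e : Set (Cfsg.IrrCharacter H)) (he : Cfsg.InducedBlockDefined M H e) : Cfsg.IsInducedBlock M H e (Cfsg.blockOf M (χ : G → ℂ)) ↔ e = Cfsg.blockOf M (fun h : H => (χ : G → ℂ) h) := by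
  have := CfsgLib.Block.isPrime_of_pmodular hM
  classical
  set φ : Cfsg.IrrCharacter H := ⟨fun h : H => (χ : G → ℂ) h, hres⟩ with hφ
  obtain ⟨B, hB⟩ := he
  obtain ⟨ξ, hξ⟩ := CfsgLib.Block.isPBlock_nonempty hB.1
  have key : χ ∈ B ↔ φ ∈ e := by
    have h1 := CfsgLib.Block.lam_regZ_restrict_ne_zero_iff hM hB hξ χ
    have hB0 : χ ∈ B → Cfsg.blockHeight p B (χ : G → ℂ) = 0 := fun h => by
      rw [CfsgLib.Block.isPBlock_eq_blockOf hB.2.1 h]; exact hχ0
    have he0 : φ ∈ e → Cfsg.blockHeight p e (φ : H → ℂ) = 0 := fun h => by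
      rw [CfsgLib.Block.isPBlock_eq_blockOf hB.1 h]; exact hψ0
    have h2 : CfsgLib.Block.lam M ξ (CfsgLib.Block.regZ M p (φ : H → ℂ)
        (CfsgLib.Char.irr_isCharacter φ.2)) ≠ 0 ↔ φ ∈ e := by
      by_cases h : φ ∈ e
      · rw [CfsgLib.Block.lam_regZ_ne_zero_iff hM hB.1 h hξ]
        exact ⟨fun _ => h, fun _ => he0 h⟩
      · rw [CfsgLib.Block.lam_regZ_eq_zero hM (χ := φ) (φ := ξ) fun hs =>
          h (CfsgLib.Block.mem_of_sameBlock hB.1 hξ (CfsgLib.Block.sameBlock_symm hs))]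
        simp [h]
    exact ⟨fun h => h2.1 (h1.2 ⟨h, hB0 h⟩), fun h => (h1.1 (h2.2 h)).1⟩
  constructor
  · intro h
    have hBe := CfsgLib.Block.isInducedBlock_unique H hB h
    exact CfsgLib.Block.isPBlock_eq_of_mem hB.1 (CfsgLib.Block.isPBlock_blockOf φ)
      (key.1 (hBe ▸ CfsgLib.Block.mem_blockOf_self χ)) (CfsgLib.Block.mem_blockOf_self φ)
  · intro hb
    have hBe := CfsgLib.Block.isPBlock_eq_of_mem hB.2.1 (CfsgLib.Block.isPBlock_blockOf χ)
      (key.2 (hb ▸ CfsgLib.Block.mem_blockOf_self φ)) (CfsgLib.Block.mem_blockOf_self χ)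
    exact hBe ▸ hB

end Cfsg.Agent.S0935
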