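import Cfsg.Statements.S0937
import Cfsg.Agent.Lib.Block.MainTheorems

set_option autoImplicit false
open Cfsg

namespace Cfsg.Agent.S0937

/-- Let H be a subgroup of the finite group G and fix a maximal ideal M of the algebraic integers containing the prime p. If the block b of H induces the block B of G and χ ∈ B has height zero, then there is ξ ∈ b of height zero whose multiplicity in the restriction of χ to H is a natural number not divisible by p. -/
theorem result {G : Type*} [Group G] [Fintype G] (p : ℕ) [Fact p.Prime] (M : Ideal Cfsg.AlgInt) (hM : Cfsg.IsPModular p M) (H : Subgroup G) [Fintype H] (b : Set (Cfsg.IrrCharacter H)) (B : Set (Cfsg.IrrCharacter G)) (hind : Cfsg.IsInducedBlock M H b B) (χ : Cfsg.IrrCharacter G) (hχ : χ ∈ B) (h0 : Cfsg.blockHeight p B (χ : G → ℂ) = 0) : ∃ ξ ∈ b, Cfsg.blockHeight p b (ξ : H → ℂ) = 0 ∧ ∃ n : ℕ, Cfsg.classInner (fun h : H => (χ : G → ℂ) h) (ξ : H → ℂ) = (n : ℂ) ∧ ¬ p ∣ n := by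
  have := CfsgLib.Block.isPrime_of_pmodular hM
  classical
  obtain ⟨ξ₀, hξ₀⟩ := CfsgLib.Block.isPBlock_nonempty hind.1
  have h1 := (CfsgLib.Block.lam_regZ_restrict_ne_zero_iff hM hind hξ₀ χ).2 ⟨hχ, h0⟩
  letI := Fintype.ofFinite (Cfsg.IrrCharacter H)
  have hθ := CfsgLib.Char.isCharacter_restrict (CfsgLib.Char.irr_isCharacter χ.2) H
  have hn : ∀ ξ : Cfsg.IrrCharacter H, ∃ n : ℕ,
      Cfsg.classInner (fun h : H => (χ : G → ℂ) h) (ξ : H → ℂ) = (n : ℂ) :=
    fun ξ => CfsgLib.Char.classInner_isCharacter_nat hθ (CfsgLib.Char.irr_isCharacter ξ.2)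
  choose n hn using hn
  by_contra hcon
  push Not at hcon
  apply h1
  rw [CfsgLib.Block.lam_regZ]
  have hexp : CfsgLib.Block.regSum p (fun h : H => (χ : G → ℂ) h) =
      ∑ ξ : Cfsg.IrrCharacter H, (n ξ : ℂ) • CfsgLib.Block.regSum p (ξ : H → ℂ) := by
    simp only [← CfsgLib.Block.regSum_smul, ← CfsgLib.Block.regSum_sum]
    congr 1
    funext h
    rw [CfsgLib.Char.classFunction_apply_eq_sum (CfsgLib.Char.isCharacter_isClassFunction hθ),
      Finset.sum_apply]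
    exact Finset.sum_congr rfl fun ξ _ => by rw [hn ξ]; simp
  have hR : ∀ ξ : Cfsg.IrrCharacter H, Cfsg.MemLocalRing M
      (CfsgLib.Block.omegaC (ξ₀ : H → ℂ) (CfsgLib.Block.regSum p (ξ : H → ℂ))) := fun ξ =>
    CfsgLib.Block.memLocalRing_omegaC ξ₀.2
      (CfsgLib.Block.isLocalCentral_regSum (CfsgLib.Char.irr_isCharacter ξ.2))
  rw [hexp, CfsgLib.Block.omegaC_sum,
    CfsgLib.Block.redC_sum _ _ (fun ξ _ => by
      rw [CfsgLib.Block.omegaC_smul]
      exact CfsgLib.Block.memLocalRing_mul (CfsgLib.Block.memLocalRing_natCast _) (hR ξ))]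
  refine Finset.sum_eq_zero fun ξ _ => ?_
  rw [CfsgLib.Block.omegaC_smul,
    CfsgLib.Block.redC_mul (CfsgLib.Block.memLocalRing_natCast _) (hR ξ),
    ← CfsgLib.Block.lam_regZ ξ₀ (ξ : H → ℂ) (CfsgLib.Char.irr_isCharacter ξ.2)]
  by_cases hξ : ξ ∈ b
  · by_cases hh : Cfsg.blockHeight p b (ξ : H → ℂ) = 0
    · have hdvd := hcon ξ hξ hh (n ξ) (hn ξ)
      rw [(CfsgLib.Block.redC_eq_zero_iff (CfsgLib.Block.memLocalRing_natCast _)).2
        ((CfsgLib.Block.memLocalIdeal_natCast_iff hM _).2 hdvd), zero_mul]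
    · have : CfsgLib.Block.lam M ξ₀ (CfsgLib.Block.regZ M p (ξ : H → ℂ)
          (CfsgLib.Char.irr_isCharacter ξ.2)) = 0 := by
        by_contra hne
        exact hh ((CfsgLib.Block.lam_regZ_ne_zero_iff hM hind.1 hξ hξ₀).1 hne)
      rw [this, mul_zero]
  · rw [CfsgLib.Block.lam_regZ_eq_zero hM (χ := ξ) (φ := ξ₀) fun hs =>
      hξ (CfsgLib.Block.mem_of_sameBlock hind.1 hξ₀ (CfsgLib.Block.sameBlock_symm hs)), mul_zero]

end Cfsg.Agent.S0937
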