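import Cfsg.Statements.S0938
import Cfsg.Agent.Lib.Block.Covering
import Cfsg.Agent.Lib.Block.KerNormal

set_option autoImplicit false
open Cfsg CfsgLib.Block

namespace Cfsg.Agent.S0938

/-- Let B be a block of the finite group G relative to a maximal ideal M of the algebraic integers containing the prime p, and let χ ∈ B. Then the kernel of B (the set of g with ψ g = ψ 1 for all ψ ∈ B) is a normal subgroup of order prime to p contained in the kernel of χ, and it contains every normal subgroup of order prime to p on which χ takes the value χ(1); that is, it is O_p' of the kernel of χ. -/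
theorem result {G : Type*} [Group G] [Finite G] (p : ℕ) [Fact p.Prime] (M : Ideal Cfsg.AlgInt) (hM : Cfsg.IsPModular p M) (B : Set (Cfsg.IrrCharacter G)) (hB : Cfsg.IsPBlock M B) (χ : Cfsg.IrrCharacter G) (hχ : χ ∈ B) : ∃ K : Subgroup G, K.Normal ∧ (K : Set G) = Cfsg.blockKer B ∧ ¬ p ∣ Nat.card K ∧ (∀ g ∈ K, (χ : G → ℂ) g = (χ : G → ℂ) 1) ∧ ∀ N : Subgroup G, N.Normal → ¬ p ∣ Nat.card N → (∀ g ∈ N, (χ : G → ℂ) g = (χ : G → ℂ) 1) → N ≤ K := by
  classical
  have := isPrime_of_pmodular hM
  have := Fintype.ofFinite G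
  let K : Subgroup G := ⨅ ψ ∈ B, kerIrr ψ
  have hmem : ∀ g, g ∈ K ↔ g ∈ Cfsg.blockKer B := fun g => by
    simp only [K, Subgroup.mem_iInf, mem_kerIrr]
    rfl
  have hKn : K.Normal := ⟨fun n hn g => by
    simp only [K, Subgroup.mem_iInf] at hn ⊢
    exact fun ψ hψ => (kerIrr_normal ψ).conj_mem n (hn ψ hψ) g⟩
  refine ⟨K, hKn, Set.ext hmem, ?_, fun g hg => (hmem g).1 hg χ hχ, ?_⟩
  · intro hdvd
    obtain ⟨x, hx⟩ := exists_prime_orderOf_dvd_card' p hdvd
    have h0 := blockCoeff_eq_zero_of_singular hM hB (y := (x : G)) (by rw [Subgroup.orderOf_coe, hx])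
    have := Fintype.ofFinite (Cfsg.IrrCharacter G)
    rw [Cfsg.blockCoeff, mul_eq_zero, or_iff_right (inv_ne_zero CfsgLib.Char.natCard_ne_zero),
      finsum_mem_def, finsum_eq_sum_of_fintype] at h0
    have hsum : ((∑ ψ : Cfsg.IrrCharacter G,
        if ψ ∈ B then Cfsg.charDegree (ψ : G → ℂ) ^ 2 else 0 : ℕ) : ℂ) = 0 := by
      rw [← h0]
      push_cast
      refine Finset.sum_congr rfl fun ψ _ => ?_
      rw [Set.indicator_apply]
      split
      · next hψ =>
        rw [(hmem x).1 x.2 ψ hψ, charDegree_cast (CfsgLib.Char.irr_isCharacter ψ.2), sq,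
          irr_conj_eq ψ.2, inv_one]
      · rfl
    rw [Nat.cast_eq_zero, Finset.sum_eq_zero_iff] at hsum
    have h1 := hsum χ (Finset.mem_univ χ)
    rw [if_pos hχ] at h1
    exact charDegree_ne_zero χ.2 (pow_eq_zero_iff (two_ne_zero) |>.1 h1)
  · intro N hN hNp hker g hg
    have := Fintype.ofFinite N
    simp only [K, Subgroup.mem_iInf]
    exact fun ψ hψ => le_kerIrr_of_sameBlock hM hNp (sameBlock_of_mem hB hχ hψ)
      (fun n hn => hker n hn) hg

end Cfsg.Agent.S0938
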