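import Cfsg.Statements.S0940
import Cfsg.Agent.Lib.Block.LamZero
import Cfsg.Agent.Lib.Block.RegularSum
import Cfsg.Agent.Lib.Block.FrobTrick

set_option autoImplicit false
open Cfsg CfsgLib.Block

namespace Cfsg.Agent.S0940

/-- Let G be a finite group and M a maximal ideal of the algebraic integers containing the prime p. For every p-regular g, the idempotent coefficient of the principal block at g (the inverse of the group order times the sum over χ in the principal block of χ 1 * conj (χ g)) is congruent modulo the local ideal at M to N / R, where N is the number of pairs (x, y) with x of p-power order, y of order prime to p and x * y = g, and R is the number of elements of G of order prime to p. -/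
theorem result {G : Type*} [Group G] [Finite G] (p : ℕ) [Fact p.Prime] (M : Ideal Cfsg.AlgInt) (hM : Cfsg.IsPModular p M) (g : G) (hg : ¬ p ∣ orderOf g) : Cfsg.MemLocalIdeal M (Cfsg.blockCoeff (Cfsg.principalBlock M G) g - (Nat.card {xy : G × G // (∃ k : ℕ, orderOf xy.1 = p ^ k) ∧ ¬ p ∣ orderOf xy.2 ∧ xy.1 * xy.2 = g} : ℂ) / (Nat.card {y : G // ¬ p ∣ orderOf y} : ℂ)) := by
  classical
  have := isPrime_of_pmodular hM
  have := charP_kres hM
  have := Fintype.ofFinite G
  set χ₀ : Cfsg.IrrCharacter G := trivIrr with hχ₀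
  have hB : Cfsg.IsPBlock M (Cfsg.principalBlock M G) := isPBlock_principalBlock
  have hχ₀B : χ₀ ∈ Cfsg.principalBlock M G := one_mem_principalBlock
  set R := regZ M p (χ₀ : G → ℂ) (CfsgLib.Char.irr_isCharacter χ₀.2) with hR
  set r : ℕ := Nat.card {y : G // ¬ p ∣ orderOf y} with hr
  set e := blkIdem M (Cfsg.principalBlock M G) with he
  have hω : omegaC (χ₀ : G → ℂ) (regSum p (χ₀ : G → ℂ)) = (r : ℂ) := by
    rw [omegaC_eq, hr, Nat.card_eq_fintype_card, Fintype.card_subtype]
    simp [coeff_regSum, hχ₀, trivIrr, Finset.sum_ite]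
  have hlam0 : lam M χ₀ R = (r : kres M) := by rw [lam_regZ, hω, redC_natCast]
  have hr0 : (r : kres M) ≠ 0 := by
    rw [← hlam0, hR, lam_regZ_ne_zero_iff hM hB hχ₀B hχ₀B]
    simp [hχ₀, trivIrr, Cfsg.blockHeight, Cfsg.charDegree]
  have hnil : IsNilpotent (R - (r : kres M) • e) := by
    refine isNilpotent_of_lam_eq_zero hM fun φ => ?_
    rw [map_sub, map_smul, smul_eq_mul, lam_blkIdem hM hB φ]
    by_cases hφ : φ ∈ Cfsg.principalBlock M G
    · rw [if_pos hφ, mul_one, lam_eq_of_sameBlock (sameBlock_of_mem hB hφ hχ₀B), hlam0, sub_self]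
    · rw [if_neg hφ, mul_zero, sub_zero, hR, lam_regZ_eq_zero hM]
      exact fun h => hφ (mem_of_sameBlock hB hχ₀B h)
  obtain ⟨m, hm⟩ := hnil
  obtain ⟨n, hn, hreg, hfix⟩ := exists_frob_exponent G hM.1 (m + 1)
  let S : MonoidAlgebra (kres M) G → kres M :=
    fun a => ∑ u, if (∃ j : ℕ, orderOf u = p ^ j) then a.coeff u else 0
  have hS : ∀ a : MonoidAlgebra (kres M) G, S a ^ p ^ n = (a ^ p ^ n).coeff 1 := by
    intro a
    have h1 := sum_coeff_pow_char_pow (p := p) a n ({1} : Set G) (fun g h hg => by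
      rw [Set.mem_singleton_iff] at hg ⊢; rw [hg]; group)
    simp only [Set.mem_singleton_iff, Finset.sum_ite_eq', Finset.mem_univ, if_true] at h1
    rw [h1]
    congr 1
    refine Finset.sum_congr rfl fun u _ => if_congr ⟨?_, ?_⟩ rfl rfl
    · rintro ⟨j, hj⟩
      rw [← orderOf_eq_one_iff]
      by_contra hne
      refine hreg u ?_
      obtain ⟨i, -, hi⟩ := (Nat.dvd_prime_pow hM.1).1 (hj ▸ orderOf_pow_dvd (x := u) (p ^ n))
      rcases Nat.eq_zero_or_pos i with hi0 | hi0
      · rw [hi0, pow_zero] at hi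
        exact absurd hi hne
      · rw [hi]
        exact dvd_pow_self p hi0.ne'
    · intro hu
      obtain ⟨i, -, hi⟩ := (Nat.dvd_prime_pow hM.1).1 (orderOf_dvd_of_pow_eq_one hu)
      exact ⟨i, hi⟩
  let X : MonoidAlgebra (kres M) G := MonoidAlgebra.single g⁻¹ 1
  have hcomm : ∀ z : Subalgebra.center (kres M) (MonoidAlgebra (kres M) G),
      Commute (z : MonoidAlgebra (kres M) G) X :=
    fun z => (Subalgebra.mem_center_iff.1 z.2 X).symm
  have hval : ∀ (z : MonoidAlgebra (kres M) G) (u : G), (z * X).coeff u = z.coeff (u * g) := by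
    intro z u
    simp only [X]
    rw [MonoidAlgebra.coeff_mul_single_eq_coeff_mul (u * g)
      (fun m' _ => mul_inv_eq_iff_eq_mul)]
    simp
  have hX : X ^ p ^ n = X := by
    simp only [X, MonoidAlgebra.single_pow, one_pow]
    rw [hfix g⁻¹ (by rwa [orderOf_inv])]
  have hSN : S ((R - (r : kres M) • e : Subalgebra.center (kres M) (MonoidAlgebra (kres M) G)) * X) = 0 := by
    refine eq_zero_of_pow_eq_zero (n := p ^ n) ?_
    rw [hS, (hcomm _).mul_pow, ← SubmonoidClass.coe_pow, pow_eq_zero_of_le (by omega) hm]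
    simp
  have hSe : S ((e : MonoidAlgebra (kres M) G) * X) =
      (e : MonoidAlgebra (kres M) G).coeff g := by
    set a := (e : MonoidAlgebra (kres M) G) * X with ha
    have haq : a ^ p ^ n = a := by
      have he1 : e ^ p ^ n = e :=
        (show IsIdempotentElem e from blkIdem_idem hM hB).pow_eq (pow_ne_zero _ hM.1.ne_zero)
      rw [ha, (hcomm e).mul_pow, ← SubmonoidClass.coe_pow, he1, hX]
    have h1 : S a ^ p ^ n = a.coeff 1 := by rw [hS, haq]
    -- the same sum is fixed by the Frobenius map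
    have h2 := sum_coeff_pow_char_pow (p := p) a n {u : G | ∃ j : ℕ, orderOf u = p ^ j}
      (fun x h hx => by
        obtain ⟨j, hj⟩ := hx
        refine ⟨j, ?_⟩
        rw [← hj]
        exact orderOf_injective (MulAut.conj h).toMonoidHom (MulAut.conj h).injective x)
    rw [haq] at h2
    have h3 : (∑ u, if u ^ p ^ n ∈ {u : G | ∃ j : ℕ, orderOf u = p ^ j} then a.coeff u else 0) =
        S a := by
      refine Finset.sum_congr rfl fun u _ => if_congr ⟨?_, ?_⟩ rfl rfl
      · rintro ⟨j, hj⟩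
        obtain ⟨i, _, hi⟩ := (Nat.dvd_prime_pow hM.1).1 (show orderOf u ∣ p ^ (n + j) by
          rw [orderOf_dvd_iff_pow_eq_one, pow_add, pow_mul, ← hj, pow_orderOf_eq_one])
        exact ⟨i, hi⟩
      · rintro ⟨j, hj⟩
        obtain ⟨i, _, hi⟩ := (Nat.dvd_prime_pow hM.1).1 (hj ▸ orderOf_pow_dvd (x := u) (p ^ n))
        exact ⟨i, hi⟩
    rw [h3] at h2
    have h4 : S a = S a ^ p ^ n := h2
    rw [h4, h1, ha, hval, one_mul]
  set Np : ℕ := Nat.card {xy : G × G // (∃ k : ℕ, orderOf xy.1 = p ^ k) ∧ ¬ p ∣ orderOf xy.2 ∧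
    xy.1 * xy.2 = g} with hNp
  have hRX : S ((R : MonoidAlgebra (kres M) G) * X) = (Np : kres M) := by
    rw [hNp, Nat.card_eq_fintype_card, Fintype.card_subtype, Finset.natCast_card_filter,
      Fintype.sum_prod_type]
    refine Fintype.sum_equiv (Equiv.inv G) _ _ fun u => ?_
    simp only [Equiv.inv_apply, orderOf_inv]
    rw [Finset.sum_eq_single (u * g), hval]
    · simp only [hR, regZ, redA, coeff_mkGA, coeff_regSum, inv_mul_cancel_left, and_true]
      by_cases h1 : ∃ j : ℕ, orderOf u = p ^ j <;> by_cases h2 : p ∣ orderOf (u * g) <;>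
        simp [h1, h2, hχ₀, trivIrr, redC_one, redC_zero]
    · intro y _ hy
      rw [if_neg]
      rintro ⟨-, -, h⟩
      exact hy (by rw [← h, mul_inv_cancel_left])
    · simp
  have hlin : S ((R : MonoidAlgebra (kres M) G) * X) =
      (r : kres M) * (e : MonoidAlgebra (kres M) G).coeff g := by
    rw [← hSe]
    have h1 : S ((R : MonoidAlgebra (kres M) G) * X) -
        (r : kres M) * S ((e : MonoidAlgebra (kres M) G) * X) = 0 := by
      rw [← hSN]
      simp only [S, Finset.mul_sum, ← Finset.sum_sub_distrib]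
      refine Finset.sum_congr rfl fun u _ => ?_
      split <;> simp [sub_mul, smul_mul_assoc]
    exact sub_eq_zero.1 h1
  have hrp : ¬ p ∣ r := fun h => hr0 ((CharP.cast_eq_zero_iff (kres M) p r).2 h)
  have hdiv : Cfsg.MemLocalRing M ((Np : ℂ) / (r : ℂ)) :=
    memLocalRing_mul (memLocalRing_natCast Np) (memLocalRing_inv_natCast hM hrp)
  rw [← redC_eq_iff (blockCoeff_memLocalRing hM hB g) hdiv, ← coeff_blkIdem]
  refine mul_left_cancel₀ hr0 ?_
  rw [← hlin, hRX, ← redC_natCast (M := M) r, ← redC_mul (memLocalRing_natCast r) hdiv,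
    mul_div_cancel₀ _ (fun h => hrp (by rw [Nat.cast_eq_zero] at h; rw [h]; exact dvd_zero p)),
    redC_natCast]

end Cfsg.Agent.S0940
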