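import Cfsg.Statements.S0941
import Cfsg.Agent.Lib.Block.Covering
import Cfsg.Agent.Lib.Char.Inner

set_option autoImplicit false
open Cfsg CfsgLib.Block

namespace Cfsg.Agent.S0941

/-- Let P be a normal p-subgroup of the finite group G such that the index of C_G(P) is a power of p, and fix a maximal ideal M of the algebraic integers containing p. Then (i) two irreducible characters of G ⧸ P lie in the same block if and only if their inflations to G do, and (ii) every block of G contains the inflation of some irreducible character of G ⧸ P; so inflation induces a bijection between the blocks of G ⧸ P and the blocks of G. -/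
theorem result {G : Type*} [Group G] [Finite G] (p : ℕ) [Fact p.Prime] (M : Ideal Cfsg.AlgInt) (hM : Cfsg.IsPModular p M) (P : Subgroup G) [P.Normal] (hP : IsPGroup p P) (hC : ∃ k : ℕ, (Subgroup.centralizer (P : Set G)).index = p ^ k) : (∀ χ ψ : Cfsg.IrrCharacter (G ⧸ P), Cfsg.SameBlock M (χ : G ⧸ P → ℂ) (ψ : G ⧸ P → ℂ) ↔ Cfsg.SameBlock M ((χ : G ⧸ P → ℂ) ∘ QuotientGroup.mk) ((ψ : G ⧸ P → ℂ) ∘ QuotientGroup.mk)) ∧ ∀ B : Set (Cfsg.IrrCharacter G), Cfsg.IsPBlock M B → ∃ χ : Cfsg.IrrCharacter (G ⧸ P), ∃ θ ∈ B, (θ : G → ℂ) = (χ : G ⧸ P → ℂ) ∘ QuotientGroup.mk := by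
  classical
  have := isPrime_of_pmodular hM
  have := Fintype.ofFinite G
  have := Fintype.ofFinite (G ⧸ P)
  set π := QuotientGroup.mk' P with hπ
  have hπs : Function.Surjective π := QuotientGroup.mk'_surjective P
  -- regular elements centralize `P`
  have hCn : (Subgroup.centralizer (P : Set G)).Normal := inferInstance
  have hregC : ∀ g : G, ¬ p ∣ orderOf g → g ∈ Subgroup.centralizer (P : Set G) :=
    fun g hg => mem_of_regular_of_index hM hC hg
  have hcoset : ∀ g u : G, ¬ p ∣ orderOf g → u ∈ P → ¬ p ∣ orderOf (g * u) → u = 1 := by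
    intro g u hg hu hgu
    have hc : Commute u g := Subgroup.mem_centralizer_iff.1 (hregC g hg) u hu
    obtain ⟨j, hj⟩ := IsPGroup.iff_orderOf.1 hP ⟨u, hu⟩
    rw [Subgroup.orderOf_mk] at hj
    have h1 : Cfsg.IsPPart p (g * u) u := ⟨g, hc.eq, hc, ⟨j, hj⟩, hg⟩
    exact isPPart_unique hM.1 h1 (isPPart_one_of_regular hgu)
  let comp : Cfsg.IrrCharacter (G ⧸ P) → Cfsg.IrrCharacter G := fun χ =>
    ⟨(χ : G ⧸ P → ℂ) ∘ π, CfsgLib.Char.isIrrCharacter_comp_surjective χ.2 _ hπs⟩
  have hidx : ∀ g : G, ∃ r : ℕ, (∀ χ : Cfsg.IrrCharacter (G ⧸ P),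
      Cfsg.centralChar (comp χ : G → ℂ) g = (r : ℂ) * Cfsg.centralChar (χ : G ⧸ P → ℂ) (π g)) ∧
      ((∀ h : G, π (h * g * h⁻¹) = π g → h * g * h⁻¹ = g) → r = 1) := by
    intro g
    have hle : Subgroup.centralizer ({g} : Set G) ≤
        (Subgroup.centralizer ({π g} : Set (G ⧸ P))).comap π := fun h hh => by
      rw [Subgroup.mem_comap, Subgroup.mem_centralizer_singleton_iff, ← map_mul, ← map_mul,
        Subgroup.mem_centralizer_singleton_iff.1 hh]
    refine ⟨(Subgroup.centralizer ({g} : Set G)).relIndex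
      ((Subgroup.centralizer ({π g} : Set (G ⧸ P))).comap π), fun χ => ?_, fun h1 => ?_⟩
    · rw [Cfsg.centralChar, Cfsg.centralChar, ← Subgroup.relIndex_mul_index hle,
        Subgroup.index_comap_of_surjective _ hπs, Nat.cast_mul]
      change _ * (χ : G ⧸ P → ℂ) (π g) / (χ : G ⧸ P → ℂ) (π 1) = _
      rw [map_one]
      ring
    · rw [Subgroup.relIndex_eq_one]
      intro h hh
      rw [Subgroup.mem_comap, Subgroup.mem_centralizer_singleton_iff] at hh
      rw [Subgroup.mem_centralizer_singleton_iff]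
      refine mul_inv_eq_iff_eq_mul.1 (h1 h ?_)
      rw [map_mul, map_mul, map_inv, hh, mul_inv_cancel_right]
  refine ⟨fun χ ψ => ⟨fun h g => ?_, fun h q => ?_⟩, fun B hB => ?_⟩
  · obtain ⟨r, hr, -⟩ := hidx g
    change Cfsg.MemLocalIdeal M (Cfsg.centralChar (comp χ : G → ℂ) g -
      Cfsg.centralChar (comp ψ : G → ℂ) g)
    rw [hr, hr, ← mul_sub]
    exact memLocalIdeal_mul_left (memLocalRing_natCast r) (h _)
  · revert q
    suffices ψ ∈ Cfsg.blockOf M (χ : G ⧸ P → ℂ) from this
    set B := Cfsg.blockOf M (χ : G ⧸ P → ℂ)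
    have hB : Cfsg.IsPBlock M B := isPBlock_blockOf χ
    have hl := isLocalCentral_blockSum hM hB
    have hreg : ∀ q : G ⧸ P, ¬ p ∣ orderOf q →
        Cfsg.MemLocalIdeal M (Cfsg.centralChar (χ : G ⧸ P → ℂ) q -
          Cfsg.centralChar (ψ : G ⧸ P → ℂ) q) := by
      intro q hq
      obtain ⟨g₀, rfl⟩ := hπs q
      obtain ⟨x, hx⟩ := exists_isPPart hM.1 g₀
      obtain ⟨y, hxy, hc, ⟨j, hj⟩, hy⟩ := hx
      have hπx : π x = 1 := by
        have hd : orderOf (π x) ∣ p ^ j := hj ▸ orderOf_map_dvd π x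
        obtain ⟨i, -, hi⟩ := (Nat.dvd_prime_pow hM.1).1 hd
        refine isPPart_unique hM.1 (g := π g₀) ⟨π y, by rw [← map_mul, hxy],
          hc.map π, ⟨i, hi⟩, fun h' => hy (h'.trans (orderOf_map_dvd π y))⟩
          (isPPart_one_of_regular hq)
      have hπy : π y = π g₀ := by rw [← hxy, map_mul, hπx, one_mul]
      obtain ⟨r, hr, hr1⟩ := hidx y
      have hr' : r = 1 := hr1 fun h hh => by
        have hu : y⁻¹ * (h * y * h⁻¹) ∈ P := QuotientGroup.eq.1 hh.symm
        have ho : orderOf (h * y * h⁻¹) = orderOf y := by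
          simpa using orderOf_injective (MulAut.conj h).toMonoidHom (MulAut.conj h).injective y
        have := hcoset y _ hy hu (by rw [mul_inv_cancel_left, ho]; exact hy)
        exact (inv_mul_eq_one.1 this).symm
      have h1 : Cfsg.MemLocalIdeal M
          (Cfsg.centralChar (comp χ : G → ℂ) y - Cfsg.centralChar (comp ψ : G → ℂ) y) := h y
      rw [hr, hr, hr', Nat.cast_one, one_mul, one_mul, hπy] at h1
      exact h1
    have : Finite (ConjClasses (G ⧸ P)) :=
      Finite.of_surjective ConjClasses.mk ConjClasses.mk_surjective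
    have := Fintype.ofFinite (ConjClasses (G ⧸ P))
    have hd : Cfsg.MemLocalIdeal M
        (omegaC (χ : G ⧸ P → ℂ) (blockSum B) - omegaC (ψ : G ⧸ P → ℂ) (blockSum B)) := by
      rw [omegaC_eq_sum_classes (CfsgLib.Char.irr_isClassFunction χ.2) hl.1,
        omegaC_eq_sum_classes (CfsgLib.Char.irr_isClassFunction ψ.2) hl.1, ← Finset.sum_sub_distrib]
      refine memLocalIdeal_sum _ _ fun C _ => ?_
      rw [← mul_sub]
      by_cases hC : p ∣ orderOf C.out
      · simp only [blockSum, coeff_mkGA, blockCoeff_eq_zero_of_singular hM hB hC, zero_mul]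
        exact memLocalIdeal_zero
      · exact memLocalIdeal_mul_left (hl.2 _) (hreg _ hC)
    rw [omegaC_blockSum, omegaC_blockSum, if_pos (mem_blockOf_self χ)] at hd
    by_contra hψ
    rw [if_neg hψ, sub_zero] at hd
    exact not_memLocalIdeal_one hd
  · by_contra hcon
    push Not at hcon
    let F : G ⧸ P → ℂ := fun q => ∑ x : G, if π x = q then Cfsg.blockCoeff B x else 0
    have hF : Cfsg.IsClassFunction (G ⧸ P) F := by
      intro q k
      obtain ⟨h, rfl⟩ := hπs k
      refine (Fintype.sum_equiv (MulAut.conj h).toEquiv _ _ fun x => ?_).symm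
      have hcl : Cfsg.blockCoeff B (h * x * h⁻¹) = Cfsg.blockCoeff B x := by
        simpa [blockSum] using blockSum_isClassCoeff B x h
      change _ = if π (h * x * h⁻¹) = π h * q * (π h)⁻¹ then Cfsg.blockCoeff B (h * x * h⁻¹) else 0
      rw [hcl]
      exact if_congr (by simp) rfl rfl
    have hF0 : F = 0 := by
      refine CfsgLib.Char.classFunction_eq_zero hF fun φ hφ => ?_
      set φ' : Cfsg.IrrCharacter (G ⧸ P) := ⟨_, CfsgLib.Char.isIrrCharacter_conj hφ⟩
      have h0 := omegaC_blockSum B (comp φ')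
      rw [if_neg (fun h => hcon φ' (comp φ') h rfl), omegaC_eq, div_eq_zero_iff,
        or_iff_left (CfsgLib.Char.irr_apply_one_ne_zero (comp φ').2)] at h0
      rw [CfsgLib.Char.classInner_def]
      refine mul_eq_zero_of_right _ ?_
      rw [← h0]
      simp only [F, Finset.sum_mul, ite_mul, zero_mul]
      rw [Finset.sum_comm]
      refine Finset.sum_congr rfl fun x _ => ?_
      rw [Finset.sum_ite_eq]
      simp [blockSum, comp, φ']
    obtain ⟨θ, hθ⟩ := isPBlock_nonempty hB
    obtain ⟨g, hg⟩ : ∃ g, Cfsg.blockCoeff B g ≠ 0 := by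
      by_contra h
      push Not at h
      have := omegaC_blockSum B θ
      rw [if_pos hθ, omegaC_eq] at this
      simp [blockSum, h] at this
    have hgr : ¬ p ∣ orderOf g := fun h => hg (blockCoeff_eq_zero_of_singular hM hB h)
    apply hg
    have hval : F (π g) = 0 := congrFun hF0 _
    rw [← hval]
    simp only [F]
    rw [Finset.sum_eq_single g]
    · simp
    · intro x _ hx
      split
      · next hxg =>
        refine blockCoeff_eq_zero_of_singular hM hB ?_
        by_contra hxr
        have hu : g⁻¹ * x ∈ P := QuotientGroup.eq.1 hxg.symm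
        exact hx ((inv_mul_eq_one.1 (hcoset g _ hgr hu (by rwa [mul_inv_cancel_left]))).symm)
      · rfl
    · simp

end Cfsg.Agent.S0941
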