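import Cfsg.Statements.S0942
import Cfsg.Agent.Lib.Block.SecondMain
import Cfsg.Agent.Lib.Block.KerNormal
import Cfsg.Agent.Lib.Solvable.PCore

set_option autoImplicit false
open Cfsg CfsgLib.Block

namespace Cfsg.Agent.S0942

/-- Let u be a p-element of the finite group G, let v lie in the largest normal subgroup of C_G(u) of order prime to p, and let χ belong to the principal block (relative to a maximal ideal M of the algebraic integers containing p). Then χ (u * v) = χ u. -/
theorem result {G : Type*} [Group G] [Finite G] (p : ℕ) [Fact p.Prime] (M : Ideal Cfsg.AlgInt) (hM : Cfsg.IsPModular p M) (u : G) (hu : ∃ k : ℕ, orderOf u = p ^ k) (v : G) (hv : v ∈ Cfsg.centralizerPPrimeCore p u) (χ : Cfsg.IrrCharacter G) (hχ : χ ∈ Cfsg.principalBlock M G) : (χ : G → ℂ) (u * v) = (χ : G → ℂ) u := by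
  classical
  have := isPrime_of_pmodular hM
  obtain ⟨v', hv', rfl⟩ := hv
  have := CfsgLib.Solvable.pPrimeCore_normal p (Subgroup.centralizer ({u} : Set G))
  have hp : ¬ p ∣ Nat.card (Cfsg.pPrimeCore p (Subgroup.centralizer ({u} : Set G))) := by
    rw [← hM.1.coprime_iff_not_dvd]
    exact (CfsgLib.Solvable.pPrimeCore_coprime p).symm
  have hreg : ¬ p ∣ orderOf v' := fun h => hp (h.trans
    (by simpa using orderOf_dvd_natCard (⟨v', hv'⟩ : Cfsg.pPrimeCore p (Subgroup.centralizer ({u} : Set G)))))
  have hreg1 : ¬ p ∣ orderOf (1 : Subgroup.centralizer ({u} : Set G)) := by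
    rw [orderOf_one]; exact hM.1.not_dvd_one
  have := Fintype.ofFinite (Subgroup.centralizer ({u} : Set G))
  change (χ : G → ℂ) (u * (v' : G)) = _
  conv_rhs => rw [← mul_one u, ← OneMemClass.coe_one (Subgroup.centralizer ({u} : Set G))]
  rw [apply_mul_eq_blockPart_principal hM hu hχ hreg,
    apply_mul_eq_blockPart_principal hM hu hχ hreg1]
  unfold Cfsg.blockPart
  refine finsum_mem_congr rfl fun ψ hψ => ?_
  congr 1
  exact mem_kerIrr.1 (le_kerIrr_of_mem_principalBlock hM hp hψ hv')

end Cfsg.Agent.S0942
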