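import Cfsg.Statements.S0943
import Cfsg.Agent.Lib.Block.Covering

set_option autoImplicit false
open Cfsg CfsgLib.Block

namespace Cfsg.Agent.S0943

/-- Let χ be an irreducible character of the finite group G and u, v ∈ G. If χ (x * y) = χ (u * v) whenever x is conjugate to u and y is conjugate to v, then χ u * χ v = χ 1 * χ (u * v). (Multiply the class sums of u and v and apply the central character of χ.) -/
theorem result {G : Type*} [Group G] [Finite G] (χ : Cfsg.IrrCharacter G) (u v : G) (hc : ∀ x y : G, IsConj u x → IsConj v y → (χ : G → ℂ) (x * y) = (χ : G → ℂ) (u * v)) : (χ : G → ℂ) u * (χ : G → ℂ) v = (χ : G → ℂ) 1 * (χ : G → ℂ) (u * v) := by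
  classical
  have := Fintype.ofFinite G
  have hcl := CfsgLib.Char.irr_isClassFunction χ.2
  have h1 := omegaC_mul χ.2 (classSum_isClassCoeff u) (classSum ℂ v)
  rw [omegaC_classSum hcl, omegaC_classSum hcl, omegaC_eq] at h1
  have hcard : ∀ w : G, ∑ x : G, (classSum ℂ w).coeff x =
      ((Subgroup.centralizer ({w} : Set G)).index : ℂ) := by
    intro w
    simp only [coeff_classSum]
    rw [Finset.sum_boole, ← CfsgLib.Char.natCard_carrier_eq_index, Nat.card_eq_fintype_card,
      Fintype.card_of_subtype]
    intro x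
    simp only [Finset.mem_filter, Finset.mem_univ, true_and, ConjClasses.mem_carrier_iff_mk_eq,
      ConjClasses.mk_eq_mk_iff_isConj]
    exact isConj_comm
  have h2 : ∑ g, (classSum ℂ u * classSum ℂ v).coeff g * (χ : G → ℂ) g =
      (∑ y : G, (classSum ℂ u).coeff y) * (∑ z : G, (classSum ℂ v).coeff z) *
        (χ : G → ℂ) (u * v) := by
    simp only [coeff_mul_eq, Finset.sum_mul]
    rw [Finset.sum_comm]
    refine Finset.sum_congr rfl fun y _ => ?_
    rw [Finset.mul_sum, Finset.sum_mul]
    refine (Fintype.sum_equiv (Equiv.mulLeft y) _ _ fun z => ?_).symm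
    simp only [Equiv.coe_mulLeft, inv_mul_cancel_left, coeff_classSum]
    by_cases hy : IsConj u y
    · by_cases hz : IsConj v z
      · rw [if_pos hy, if_pos hz, hc y z hy hz]
      · rw [if_neg hz]; ring
    · rw [if_neg hy]; ring
  rw [h2, hcard, hcard, Cfsg.centralChar, Cfsg.centralChar] at h1
  have hχ1 : (χ : G → ℂ) 1 ≠ 0 := CfsgLib.Char.irr_apply_one_ne_zero χ.2
  have hi : ∀ w : G, ((Subgroup.centralizer ({w} : Set G)).index : ℂ) ≠ 0 := fun w =>
    Nat.cast_ne_zero.2 Subgroup.index_ne_zero_of_finite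
  field_simp at h1
  have := hi u
  have := hi v
  apply mul_left_cancel₀ (mul_ne_zero (hi u) (hi v))
  linear_combination -h1

end Cfsg.Agent.S0943
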