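import Cfsg.Statements.S0944
import Cfsg.Agent.Lib.Block.Covering
import Cfsg.Agent.Lib.Char.Diag

set_option autoImplicit false
open Cfsg CfsgLib.Block

namespace Cfsg.Agent.S0944

/-- Let χ be an irreducible character of the finite group G and u an involution. Then χ u is a rational integer n with n ≡ χ 1 (mod 2). -/
theorem result {G : Type*} [Group G] [Finite G] (χ : Cfsg.IrrCharacter G) (u : G) (hu : orderOf u = 2) : ∃ n : ℤ, (χ : G → ℂ) u = (n : ℂ) ∧ (2 : ℤ) ∣ (Cfsg.charDegree (χ : G → ℂ) : ℤ) - n := by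
  classical
  obtain ⟨n, ρ, hρ, he⟩ := χ.2
  obtain ⟨ι, hι, b, μ, -, h2, h3, -⟩ := CfsgLib.Char.exists_char_eigen ρ u
  let s : ι → ℤ := fun i => if μ i = 1 then 1 else -1
  have hs : ∀ i, μ i = (s i : ℂ) := by
    intro i
    simp only [s]
    split
    · next h => simp [h]
    · next h =>
      have h' := h2 i
      rw [hu] at h'
      rcases sq_eq_one_iff.1 h' with h'' | h''
      · exact absurd h'' h
      · simp [h'']
  have hu1 : (χ : G → ℂ) u = ((∑ i, s i : ℤ) : ℂ) := by
    rw [← he]
    have := h3 1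
    rw [pow_one] at this
    rw [this]
    push_cast
    exact Finset.sum_congr rfl fun i _ => by rw [pow_one, hs]
  have hd : (Cfsg.charDegree (χ : G → ℂ) : ℤ) = Fintype.card ι := by
    have := h3 0
    rw [pow_zero, he] at this
    have h' : (Cfsg.charDegree (χ : G → ℂ) : ℂ) = (Fintype.card ι : ℂ) := by
      rw [charDegree_cast (CfsgLib.Char.irr_isCharacter χ.2), this]
      simp
    exact_mod_cast h'
  refine ⟨_, hu1, ?_⟩
  rw [hd, Fintype.card_eq_sum_ones, Nat.cast_sum, ← Finset.sum_sub_distrib]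
  refine Finset.dvd_sum fun i _ => ?_
  simp only [s]
  split <;> simp

end Cfsg.Agent.S0944
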