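import Cfsg.Statements.S0945
import Cfsg.Agent.Lib.Block.Homocyclic

set_option autoImplicit false
open Cfsg

namespace Cfsg.Agent.S0945

open CfsgLib.Block.Homocyclic in
/-- Let P be a Sylow 2-subgroup of the finite group G isomorphic to Z/2^m × Z/2^m with m ≥ 1. Then (i) the index of C_G(P) in N_G(P) is 1 or 3, and (ii) if it is not 1, then for every z ≠ 1 in P, C_G(z) ∩ N_G(P) = C_G(P). -/
theorem result {G : Type*} [Group G] [Finite G] (P : Sylow 2 G) (m : ℕ) (hm : 1 ≤ m) (e : (P : Subgroup G) ≃* Multiplicative (ZMod (2 ^ m) × ZMod (2 ^ m))) : ((Subgroup.centralizer (P : Set G)).relIndex (Subgroup.normalizer (P : Set G)) = 1 ∨ (Subgroup.centralizer (P : Set G)).relIndex (Subgroup.normalizer (P : Set G)) = 3) ∧ ((Subgroup.centralizer (P : Set G)).relIndex (Subgroup.normalizer (P : Set G)) ≠ 1 → ∀ z ∈ (P : Subgroup G), z ≠ 1 → Subgroup.centralizer ({z} : Set G) ⊓ Subgroup.normalizer (P : Set G) = Subgroup.centralizer (P : Set G))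 := by
  obtain ⟨h1, h2, -⟩ := main e hm
  refine ⟨h1, fun _ z hz hz1 => le_antisymm ?_ (le_inf ?_ ?_)⟩
  · rintro n ⟨hnz, hnN⟩
    obtain ⟨j, hj⟩ := P.2 ⟨z, hz⟩
    have hd : 2 ∣ orderOf z := by
      obtain ⟨i, -, hi⟩ := (Nat.dvd_prime_pow Nat.prime_two).1
        (orderOf_dvd_of_pow_eq_one (congrArg Subtype.val hj : z ^ 2 ^ j = 1))
      rw [hi]
      exact dvd_pow_self 2 fun h => hz1 (orderOf_eq_one_iff.1 (by rw [hi, h, pow_zero]))
    obtain ⟨k, hk⟩ := hd
    have ho : orderOf (z ^ k) = 2 :=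
      orderOf_pow_orderOf_div (orderOf_pos z).ne' ⟨k, hk⟩ |> fun h => by
        rwa [hk, Nat.mul_div_cancel_left _ two_pos] at h
    obtain ⟨ht2, ht1⟩ := orderOf_eq_prime_iff.1 ho
    refine h2 ⟨n, hnN⟩ ⟨z ^ k, pow_mem hz k, ht2, ht1⟩ (Subtype.ext ?_)
    change n * z ^ k * n⁻¹ = z ^ k
    rw [mul_inv_eq_iff_eq_mul]
    exact ((show Commute n z from Subgroup.mem_centralizer_singleton_iff.1 hnz).pow_right k).eq
  · intro c hc
    exact Subgroup.mem_centralizer_singleton_iff.2 (Subgroup.mem_centralizer_iff.1 hc z hz).symm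
  · exact Subgroup.centralizer_le_normalizer (P : Set G)

end Cfsg.Agent.S0945
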