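import Cfsg.Statements.S0946
import Cfsg.Agent.Lib.Block.Homocyclic

set_option autoImplicit false
open Cfsg

namespace Cfsg.Agent.S0946

open CfsgLib.Block.Homocyclic in
/-- Let P be a Sylow 2-subgroup of the finite group G isomorphic to Z/2^m × Z/2^m with m ≥ 1. Then either P has a normal complement in G, or all involutions of G are conjugate. -/
theorem result {G : Type*} [Group G] [Finite G] (P : Sylow 2 G) (m : ℕ) (hm : 1 ≤ m) (e : (P : Subgroup G) ≃* Multiplicative (ZMod (2 ^ m) × ZMod (2 ^ m))) : (∃ N : Subgroup G, N.Normal ∧ Subgroup.IsComplement' N (P : Subgroup G)) ∨ ∀ s t : G, orderOf s = 2 → orderOf t = 2 → IsConj s t := by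
  obtain ⟨h1, -, h3⟩ := main e hm
  by_cases h : (Subgroup.centralizer (P : Set G)).relIndex (Subgroup.normalizer (P : Set G)) = 1
  · left
    have hle := Subgroup.relIndex_eq_one.1 h
    exact ⟨_, (MonoidHom.transferSylow P hle).normal_ker,
      MonoidHom.ker_transferSylow_isComplement' P hle⟩
  · right
    have key : ∀ s : G, orderOf s = 2 → ∃ x : Invols P, IsConj s x.1 := by
      intro s hs
      obtain ⟨Q, hQ⟩ := (IsPGroup.of_card (p := 2) (n := 1)
        (by rw [Nat.card_zpowers, hs, pow_one] : Nat.card (Subgroup.zpowers s) = 2 ^ 1)).exists_le_sylow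
      obtain ⟨g, rfl⟩ := MulAction.exists_smul_eq G Q P
      have hs' : g * s * g⁻¹ ∈ ((g • Q : Sylow 2 G) : Subgroup G) := by
        rw [Sylow.coe_subgroup_smul]
        exact ⟨s, hQ (Subgroup.mem_zpowers s), rfl⟩
      obtain ⟨h2, h1'⟩ := orderOf_eq_prime_iff.1
        ((orderOf_injective (MulAut.conj g).toMonoidHom (MulAut.conj g).injective s).trans hs)
      exact ⟨⟨g * s * g⁻¹, hs', h2, h1'⟩, isConj_iff.2 ⟨g, rfl⟩⟩
    intro s t hs ht
    obtain ⟨x, hx⟩ := key s hs
    obtain ⟨y, hy⟩ := key t ht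
    obtain ⟨n, hn⟩ := h3 h x y
    exact hx.trans ((isConj_iff.2 ⟨(n : G), hn⟩ : IsConj x.1 y.1).trans hy.symm)

end Cfsg.Agent.S0946
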