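import Cfsg.Statements.S0950
import Cfsg.Agent.Lib.Transfer.Frobenius
import Mathlib.GroupTheory.SpecificGroups.Quaternion

set_option autoImplicit false
open Cfsg

namespace Cfsg.Agent.S0950

theorem q8_gen : ∀ x y : QuaternionGroup 2, x * x ≠ 1 → y * y ≠ 1 → y ≠ x → y ≠ x⁻¹ → ∀ t,
    t = 1 ∨ t = x ∨ t = x * x ∨ t = x⁻¹ ∨ t = y ∨ t = y * x ∨ t = y * (x * x) ∨ t = y * x⁻¹ := by
  decide

set_option synthInstance.maxSize 1000 in
theorem q8_three : ∀ x y w : QuaternionGroup 2, x * x ≠ 1 → y * y ≠ 1 → w * w ≠ 1 → y ≠ x → y ≠ x⁻¹ →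
    w ≠ x → w ≠ x⁻¹ → w ≠ y → w ≠ y⁻¹ →
      ∀ t, t * t ≠ 1 → t = x ∨ t = x⁻¹ ∨ t = y ∨ t = y⁻¹ ∨ t = w ∨ t = w⁻¹ := by
  decide

theorem q8_sq : (∀ x y : QuaternionGroup 2, x * x = 1 → y * y = 1 → x = 1 ∨ y = 1 ∨ x = y) ∧
    (∀ x : QuaternionGroup 2, (x * x) * (x * x) = 1) := by decide

variable {G : Type*} [Group G] [Finite G]

/-- An element of odd order mapping `x` to `x` or its inverse fixes it. -/
theorem conj_eq_self_of_odd {g x : G} (hg : Odd (orderOf g))
    (h : g * x * g⁻¹ = x ∨ g * x * g⁻¹ = x⁻¹) : g * x * g⁻¹ = x := by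
  obtain ⟨k, hk⟩ := hg
  have h2 : Commute (g * g) x := by
    refine mul_inv_eq_iff_eq_mul.1 ?_
    rw [show g * g * x * (g * g)⁻¹ = g * (g * x * g⁻¹) * g⁻¹ by group]
    rcases h with h | h <;> rw [h]
    · exact h
    · rw [← conj_inv, h, inv_inv]
  have h3 : g = (g * g) ^ (k + 1) := by
    rw [← pow_two, ← pow_mul, show 2 * (k + 1) = 2 * k + 1 + 1 by ring, ← hk, pow_succ,
      pow_orderOf_eq_one, one_mul]
  have h4 : Commute g x := by rw [h3]; exact h2.pow_left _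
  rw [h4.eq, mul_inv_cancel_right]

/-- Let S be a Sylow 2-subgroup of the finite group G that is isomorphic to the quaternion group of order 8, and suppose S has no normal complement in G. Then any two subgroups of order 4 of S are conjugate by an element of the normalizer of S. -/
theorem result {G : Type*} [Group G] [Finite G] (S : Sylow 2 G) (e : (S : Subgroup G) ≃* QuaternionGroup 2) (hnc : ∀ N : Subgroup G, N.Normal → ¬ Subgroup.IsComplement' N (S : Subgroup G)) (A B : Subgroup G) (hA : A ≤ S) (hB : B ≤ S) (hA4 : Nat.card A = 4) (hB4 : Nat.card B = 4) : ∃ n ∈ Subgroup.normalizer ((S : Subgroup G) : Set G), B = A.map (MulAut.conj n).toMonoidHom := by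
  classical
  have hnotF : ¬ ∀ D : Subgroup G, IsPGroup 2 D → ∀ g ∈ Subgroup.normalizer (D : Set G),
      (orderOf g).Coprime 2 → g ∈ Subgroup.centralizer (D : Set G) := by
    intro hF
    obtain ⟨P, K, hK, hc⟩ := CfsgLib.Transfer.hasNormalPComplement_iff_frobenius.2 hF
    obtain ⟨g, rfl⟩ := MulAction.exists_smul_eq G P S
    refine hnc K hK ?_
    refine Subgroup.isComplement'_of_card_mul_and_disjoint ?_ ?_
    · rw [show Nat.card ((g • P : Sylow 2 G) : Subgroup G) = Nat.card (P : Subgroup G) by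
        rw [Sylow.card_eq_multiplicity, Sylow.card_eq_multiplicity]]
      exact hc.card_mul
    · rw [disjoint_iff]
      refine Subgroup.eq_bot_of_card_eq _ (Nat.eq_one_of_dvd_coprimes ?_
        (Subgroup.card_dvd_of_le (inf_le_left : K ⊓ ((g • P : Sylow 2 G) : Subgroup G) ≤ K))
        (Subgroup.card_dvd_of_le (inf_le_right :
          K ⊓ ((g • P : Sylow 2 G) : Subgroup G) ≤ ((g • P : Sylow 2 G) : Subgroup G))))
      have h1 : Nat.card K = (P : Subgroup G).index := hc.index_eq_card.symm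
      rw [h1, Sylow.card_eq_multiplicity]
      exact Nat.Coprime.pow_right _
        ((Nat.prime_two.coprime_iff_not_dvd).2 P.not_dvd_index).symm
  push Not at hnotF
  obtain ⟨D₀, hD₀, g₀, hg₀, hgo₀, hgC₀⟩ := hnotF
  obtain ⟨Q, hQ⟩ := hD₀.exists_le_sylow
  obtain ⟨c, rfl⟩ := MulAction.exists_smul_eq G Q S
  set S' : Subgroup G := ((c • Q : Sylow 2 G) : Subgroup G) with hS'
  set D := D₀.map (MulAut.conj c).toMonoidHom with hD
  set g := c * g₀ * c⁻¹ with hg
  have hDS : D ≤ S' := by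
    rintro _ ⟨x, hx, rfl⟩
    rw [hS', Sylow.coe_subgroup_smul]
    exact ⟨x, hQ hx, rfl⟩
  have hgo : Odd (orderOf g) := by
    rw [hg, show c * g₀ * c⁻¹ = (MulAut.conj c).toMonoidHom g₀ from rfl,
      orderOf_injective _ (MulAut.conj c).injective]
    exact Nat.coprime_two_right.1 hgo₀
  have hgD : ∀ x ∈ D, g * x * g⁻¹ ∈ D := by
    rintro _ ⟨x, hx, rfl⟩
    refine ⟨g₀ * x * g₀⁻¹, (Subgroup.mem_normalizer_iff.1 hg₀ x).1 hx, ?_⟩
    simp [hg, mul_assoc]
  have hgne : ∃ x ∈ D, g * x * g⁻¹ ≠ x := by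
    by_contra h
    push Not at h
    apply hgC₀
    rw [Subgroup.mem_centralizer_iff]
    intro x hx
    have h1 : g * (c * x * c⁻¹) * g⁻¹ = c * x * c⁻¹ := h _ ⟨x, hx, rfl⟩
    have h2 : c * (g₀ * x * g₀⁻¹) * c⁻¹ = c * x * c⁻¹ := by
      rw [← h1, hg]; group
    exact (mul_inv_eq_iff_eq_mul.1 (mul_left_cancel (mul_right_cancel h2))).symm
  have hE : ∀ (x : G) (hx : x ∈ S'), e ⟨x, hx⟩ * e ⟨x, hx⟩ = 1 ↔ x * x = 1 := by
    intro x hx
    rw [← map_mul, EmbeddingLike.map_eq_one_iff, ← Subtype.val_inj]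
    rfl
  -- the order four elements are moved
  have hbig : ∃ x ∈ D, ∃ y ∈ D, x * x ≠ 1 ∧ y * y ≠ 1 ∧ y ≠ x ∧ y ≠ x⁻¹ := by
    by_contra h
    push Not at h
    obtain ⟨x, hx, hne⟩ := hgne
    apply hne
    by_cases hxx : x * x = 1
    · by_cases hx1 : x = 1
      · simp [hx1]
      have hy := hDS (hgD x hx)
      have hyy : (g * x * g⁻¹) * (g * x * g⁻¹) = 1 := by
        rw [conj_mul, hxx, mul_one, mul_inv_cancel]
      rcases q8_sq.1 (e ⟨_, hy⟩) (e ⟨x, hDS hx⟩) ((hE _ hy).2 hyy) ((hE _ (hDS hx)).2 hxx)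
        with h1 | h1 | h1
      · exact absurd (conj_eq_one_iff.1 (congrArg Subtype.val (e.map_eq_one_iff.1 h1))) hx1
      · exact absurd (congrArg Subtype.val (e.map_eq_one_iff.1 h1)) hx1
      · exact congrArg Subtype.val (e.injective h1)
    · refine conj_eq_self_of_odd hgo ?_
      have hyy : (g * x * g⁻¹) * (g * x * g⁻¹) ≠ 1 := by
        rw [conj_mul, ne_eq, conj_eq_one_iff]; exact hxx
      by_cases h1 : g * x * g⁻¹ = x
      · exact Or.inl h1
      · exact Or.inr (h x hx _ (hgD x hx) hxx hyy h1)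
  have hDeq : ∀ t ∈ S', t ∈ D := by
    obtain ⟨x, hx, y, hy, hxx, hyy, h1, h2⟩ := hbig
    intro t ht
    have hinj : ∀ (u : G) (hu : u ∈ S'), e ⟨t, ht⟩ = e ⟨u, hu⟩ → u ∈ D → t ∈ D := by
      intro u hu h3 h4
      rw [show t = u from congrArg Subtype.val (e.injective h3)]
      exact h4
    rcases q8_gen (e ⟨x, hDS hx⟩) (e ⟨y, hDS hy⟩) (fun h => hxx ((hE _ _).1 h))
      (fun h => hyy ((hE _ _).1 h)) (fun h => h1 (congrArg Subtype.val (e.injective h)))
      (fun h => h2 (congrArg Subtype.val (e.injective (h.trans (map_inv e _).symm)))) (e ⟨t, ht⟩)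
      with h | h | h | h | h | h | h | h
    · exact hinj 1 (one_mem _) (h.trans (map_one e).symm) (one_mem _)
    · exact hinj x (hDS hx) h hx
    · exact hinj _ (mul_mem (hDS hx) (hDS hx)) (h.trans (map_mul e _ _).symm) (mul_mem hx hx)
    · exact hinj _ (inv_mem (hDS hx)) (h.trans (map_inv e _).symm) (inv_mem hx)
    · exact hinj y (hDS hy) h hy
    · exact hinj _ (mul_mem (hDS hy) (hDS hx)) (h.trans (map_mul e _ _).symm) (mul_mem hy hx)
    · exact hinj _ (mul_mem (hDS hy) (mul_mem (hDS hx) (hDS hx)))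
        (by rw [h, ← map_mul, ← map_mul]; rfl) (mul_mem hy (mul_mem hx hx))
    · exact hinj _ (mul_mem (hDS hy) (inv_mem (hDS hx)))
        (by rw [h, ← map_inv, ← map_mul]; rfl) (mul_mem hy (inv_mem hx))
  have hDS' : D = S' := le_antisymm hDS hDeq
  rw [hDS'] at hgD hgne
  have hgN : g ∈ Subgroup.normalizer (S' : Set G) := by
    have hmap : S'.map (MulAut.conj g).toMonoidHom = S' := by
      refine Subgroup.eq_of_le_of_card_ge ?_ (le_of_eq ?_)
      · rintro _ ⟨x, hx, rfl⟩; exact hgD x hx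
      · rw [Subgroup.card_map_of_injective (MulAut.conj g).injective]
    rw [Subgroup.mem_normalizer_iff]
    refine fun x => ⟨hgD x, fun h => ?_⟩
    rw [← hmap] at h
    obtain ⟨x', hx', h'⟩ := h
    rwa [← (mul_left_cancel (mul_right_cancel h') : x' = x)]
  have hg2o : Odd (orderOf (g * g)) := by
    rw [← pow_two, Nat.Coprime.orderOf_pow (Nat.coprime_two_right.2 hgo)]; exact hgo
  -- `g` fixes no cyclic subgroup of order four
  have hfix : ∀ a ∈ S', a * a ≠ 1 → g * a * g⁻¹ ≠ a ∧ g * a * g⁻¹ ≠ a⁻¹ := by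
    intro a ha haa
    by_contra hcon
    have h0 : g * a * g⁻¹ = a := conj_eq_self_of_odd hgo (by tauto)
    obtain ⟨x, hx, hne⟩ := hgne
    apply hne
    have hxx : x * x ≠ 1 := by
      intro hxx
      apply hne
      by_cases hx1 : x = 1
      · simp [hx1]
      have hy := hgD x hx
      have hyy : (g * x * g⁻¹) * (g * x * g⁻¹) = 1 := by
        rw [conj_mul, hxx, mul_one, mul_inv_cancel]
      rcases q8_sq.1 (e ⟨_, hy⟩) (e ⟨x, hx⟩) ((hE _ hy).2 hyy) ((hE _ hx).2 hxx)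
        with h1 | h1 | h1
      · exact absurd (conj_eq_one_iff.1 (congrArg Subtype.val (e.map_eq_one_iff.1 h1))) hx1
      · exact absurd (congrArg Subtype.val (e.map_eq_one_iff.1 h1)) hx1
      · exact congrArg Subtype.val (e.injective h1)
    refine conj_eq_self_of_odd hgo ?_
    by_contra hx0
    push Not at hx0
    have hy := hgD x hx
    have hw := hgD _ hy
    have hyy : (g * x * g⁻¹) * (g * x * g⁻¹) ≠ 1 := by
      rw [conj_mul, ne_eq, conj_eq_one_iff]; exact hxx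
    have hxa : x ≠ a ∧ x ≠ a⁻¹ := by
      constructor
      · rintro rfl; exact hx0.1 h0
      · rintro rfl; exact hx0.1 (by rw [← conj_inv, h0])
    have hya : g * x * g⁻¹ ≠ a ∧ g * x * g⁻¹ ≠ a⁻¹ := by
      constructor
      · intro h; exact hxa.1 (mul_left_cancel (mul_right_cancel (h.trans h0.symm)))
      · intro h
        refine hxa.2 (mul_left_cancel (mul_right_cancel (h.trans ?_)))
        rw [← conj_inv, h0]
    have hinj : ∀ (u v : G) (hu : u ∈ S') (hv : v ∈ S'), e ⟨u, hu⟩ = e ⟨v, hv⟩ → u = v :=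
      fun u v hu hv h => congrArg Subtype.val (e.injective h)
    have hinj' : ∀ (u v : G) (hu : u ∈ S') (hv : v ∈ S'), e ⟨u, hu⟩ = (e ⟨v, hv⟩)⁻¹ → u = v⁻¹ :=
      fun u v hu hv h => congrArg Subtype.val (e.injective (h.trans (map_inv e _).symm))
    have hwa : g * (g * x * g⁻¹) * g⁻¹ ≠ a ∧ g * (g * x * g⁻¹) * g⁻¹ ≠ a⁻¹ := by
      constructor
      · intro h; exact hya.1 (mul_left_cancel (mul_right_cancel (h.trans h0.symm)))
      · intro h
        refine hya.2 (mul_left_cancel (mul_right_cancel (h.trans ?_)))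
        rw [← conj_inv, h0]
    have hwy : g * (g * x * g⁻¹) * g⁻¹ ≠ g * x * g⁻¹ ∧ g * (g * x * g⁻¹) * g⁻¹ ≠ (g * x * g⁻¹)⁻¹ := by
      constructor
      · intro h; exact hx0.1 (mul_left_cancel (mul_right_cancel h))
      · intro h
        exact hx0.2 (mul_left_cancel (mul_right_cancel (h.trans conj_inv)))
    have hww : (g * (g * x * g⁻¹) * g⁻¹) * (g * (g * x * g⁻¹) * g⁻¹) ≠ 1 := by
      rw [conj_mul, ne_eq, conj_eq_one_iff]; exact hyy
    rcases q8_three (e ⟨a, ha⟩) (e ⟨_, hy⟩) (e ⟨_, hw⟩) (fun h => haa ((hE _ _).1 h))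
      (fun h => hyy ((hE _ _).1 h)) (fun h => hww ((hE _ _).1 h))
      (fun h => hya.1 (hinj _ _ hy ha h)) (fun h => hya.2 (hinj' _ _ hy ha h))
      (fun h => hwa.1 (hinj _ _ hw ha h)) (fun h => hwa.2 (hinj' _ _ hw ha h))
      (fun h => hwy.1 (hinj _ _ hw hy h)) (fun h => hwy.2 (hinj' _ _ hw hy h))
      (e ⟨x, hx⟩) (fun h => hxx ((hE _ _).1 h)) with h | h | h | h | h | h
    · exact hxa.1 (hinj _ _ hx ha h)
    · exact hxa.2 (hinj' _ _ hx ha h)
    · exact hx0.1 (hinj _ _ hx hy h).symm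
    · exact hx0.2 ((inv_eq_iff_eq_inv.2 (hinj' _ _ hx hy h)).symm)
    · refine hx0.1 (conj_eq_self_of_odd hgo (Or.inl ?_))
      have h5 := conj_eq_self_of_odd hg2o (x := x) (Or.inl (by
        rw [show g * g * x * (g * g)⁻¹ = g * (g * x * g⁻¹) * g⁻¹ by group]
        exact (hinj _ _ hx hw h).symm))
      have h6 : Commute (g * g) x := mul_inv_eq_iff_eq_mul.1 h5
      obtain ⟨k, hk⟩ := hgo
      have h3 : g = (g * g) ^ (k + 1) := by
        rw [← pow_two, ← pow_mul, show 2 * (k + 1) = 2 * k + 1 + 1 by ring, ← hk, pow_succ,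
          pow_orderOf_eq_one, one_mul]
      have h4 : Commute g x := by rw [h3]; exact h6.pow_left _
      rw [h4.eq, mul_inv_cancel_right]
    · refine hx0.1 (conj_eq_self_of_odd hgo (Or.inl ?_))
      have h5 := conj_eq_self_of_odd hg2o (x := x) (Or.inr (by
        rw [show g * g * x * (g * g)⁻¹ = g * (g * x * g⁻¹) * g⁻¹ by group]
        exact (inv_eq_iff_eq_inv.2 (hinj' _ _ hx hw h)).symm))
      have h6 : Commute (g * g) x := mul_inv_eq_iff_eq_mul.1 h5
      obtain ⟨k, hk⟩ := hgo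
      have h3 : g = (g * g) ^ (k + 1) := by
        rw [← pow_two, ← pow_mul, show 2 * (k + 1) = 2 * k + 1 + 1 by ring, ← hk, pow_succ,
          pow_orderOf_eq_one, one_mul]
      have h4 : Commute g x := by rw [h3]; exact h6.pow_left _
      rw [h4.eq, mul_inv_cancel_right]
  -- elements of order four generate `A` and `B`
  have hgen : ∀ C : Subgroup G, C ≤ S' → Nat.card C = 4 → ∃ a ∈ C, a * a ≠ 1 ∧
      C = Subgroup.zpowers a := by
    intro C hC hC4
    obtain ⟨a, ha, haa⟩ : ∃ a ∈ C, a * a ≠ 1 := by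
      by_contra h
      push Not at h
      have : Finite C := inferInstance
      have := Fintype.ofFinite C
      rw [Nat.card_eq_fintype_card] at hC4
      obtain ⟨a, b, c, -, hab, hac, hbc, -⟩ : ∃ a b c : C, True ∧ a ≠ b ∧ a ≠ c ∧ b ≠ c ∧ True := by
        obtain ⟨a, -, b, -, c, -, hab, hac, hbc⟩ :=
          Finset.two_lt_card.1 (show 2 < (Finset.univ : Finset C).card by
            rw [Finset.card_univ, hC4]; norm_num)
        exact ⟨a, b, c, trivial, hab, hac, hbc, trivial⟩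
      have hq : ∀ u v : C, u = 1 ∨ v = 1 ∨ u = v := fun u v => by
        rcases q8_sq.1 (e ⟨u, hC u.2⟩) (e ⟨v, hC v.2⟩) ((hE _ _).2 (h u u.2))
          ((hE _ _).2 (h v v.2)) with h1 | h1 | h1
        · exact Or.inl (Subtype.ext (congrArg (fun w : S' => (w : G)) (e.map_eq_one_iff.1 h1)))
        · exact Or.inr (Or.inl (Subtype.ext
            (congrArg (fun w : S' => (w : G)) (e.map_eq_one_iff.1 h1))))
        · exact Or.inr (Or.inr (Subtype.ext (congrArg (fun w : S' => (w : G)) (e.injective h1))))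
      rcases hq a b with h1 | h1 | h1
      · rcases hq b c with h2 | h2 | h2
        · exact hab (h1.trans h2.symm)
        · exact hac (h1.trans h2.symm)
        · exact hbc h2
      · rcases hq a c with h2 | h2 | h2
        · exact hab (h2.trans h1.symm)
        · exact hbc (h1.trans h2.symm)
        · exact hac h2
      · exact hab h1
    refine ⟨a, ha, haa, (Subgroup.eq_of_le_of_card_ge (Subgroup.zpowers_le.2 ha) ?_).symm⟩
    rw [hC4, Nat.card_zpowers]
    have h4 : a ^ 2 ^ 2 = 1 := by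
      have := q8_sq.2 (e ⟨a, hC ha⟩)
      rw [← map_mul, ← map_mul, EmbeddingLike.map_eq_one_iff] at this
      have h5 : a * a * (a * a) = 1 := congrArg Subtype.val this
      rw [← h5]; simp [pow_succ, mul_assoc]
    obtain ⟨k, hk, hk'⟩ := (Nat.dvd_prime_pow Nat.prime_two).1 (orderOf_dvd_of_pow_eq_one h4)
    rw [hk']
    rcases k with _ | _ | k
    · rw [pow_zero, orderOf_eq_one_iff] at hk'
      exact absurd (by simp [hk']) haa
    · exfalso
      apply haa
      rw [← pow_two, show (2 : ℕ) = orderOf a by rw [hk']; rfl, pow_orderOf_eq_one]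
    · calc 4 = 2 ^ 2 := rfl
        _ ≤ _ := Nat.pow_le_pow_right two_pos (by omega)
  obtain ⟨a, haA, haa, rfl⟩ := hgen A hA hA4
  obtain ⟨b, hbB, hbb, rfl⟩ := hgen B hB hB4
  have ha := hA haA
  have hb := hB hbB
  have hy := hgD a ha
  have hw := hgD _ hy
  suffices ∃ n ∈ Subgroup.normalizer (S' : Set G), n * a * n⁻¹ = b ∨ n * a * n⁻¹ = b⁻¹ by
    obtain ⟨n, hn, h⟩ := this
    refine ⟨n, hn, ?_⟩
    rw [MonoidHom.map_zpowers]
    rcases h with h | h
    · exact (congrArg Subgroup.zpowers h).symm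
    · rw [show (MulAut.conj n).toMonoidHom a = b⁻¹ from h, Subgroup.zpowers_inv]
  obtain ⟨h1, h2⟩ := hfix a ha haa
  have hyy : (g * a * g⁻¹) * (g * a * g⁻¹) ≠ 1 := by
    rw [conj_mul, ne_eq, conj_eq_one_iff]; exact haa
  obtain ⟨h3, h4⟩ := hfix _ hy hyy
  have hww : (g * (g * a * g⁻¹) * g⁻¹) * (g * (g * a * g⁻¹) * g⁻¹) ≠ 1 := by
    rw [conj_mul, ne_eq, conj_eq_one_iff]; exact hyy
  have h56 : g * (g * a * g⁻¹) * g⁻¹ ≠ a ∧ g * (g * a * g⁻¹) * g⁻¹ ≠ a⁻¹ := by
    have key : ¬ (g * g * a * (g * g)⁻¹ = a ∨ g * g * a * (g * g)⁻¹ = a⁻¹) := by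
      intro h
      have h6 : Commute (g * g) a := mul_inv_eq_iff_eq_mul.1 (conj_eq_self_of_odd hg2o h)
      obtain ⟨k, hk⟩ := hgo
      have h7 : g = (g * g) ^ (k + 1) := by
        rw [← pow_two, ← pow_mul, show 2 * (k + 1) = 2 * k + 1 + 1 by ring, ← hk, pow_succ,
          pow_orderOf_eq_one, one_mul]
      have h8 : Commute g a := by rw [h7]; exact h6.pow_left _
      exact h1 (by rw [h8.eq, mul_inv_cancel_right])
    rw [show g * (g * a * g⁻¹) * g⁻¹ = g * g * a * (g * g)⁻¹ by group]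
    exact not_or.1 key
  have hinj : ∀ (u v : G) (hu : u ∈ S') (hv : v ∈ S'), e ⟨u, hu⟩ = e ⟨v, hv⟩ → u = v :=
    fun u v hu hv h => congrArg Subtype.val (e.injective h)
  have hinj' : ∀ (u v : G) (hu : u ∈ S') (hv : v ∈ S'), e ⟨u, hu⟩ = (e ⟨v, hv⟩)⁻¹ → u = v⁻¹ :=
    fun u v hu hv h => congrArg Subtype.val (e.injective (h.trans (map_inv e _).symm))
  rcases q8_three (e ⟨a, ha⟩) (e ⟨_, hy⟩) (e ⟨_, hw⟩) (fun h => haa ((hE _ _).1 h))
      (fun h => hyy ((hE _ _).1 h)) (fun h => hww ((hE _ _).1 h))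
      (fun h => h1 (hinj _ _ hy ha h)) (fun h => h2 (hinj' _ _ hy ha h))
      (fun h => h56.1 (hinj _ _ hw ha h)) (fun h => h56.2 (hinj' _ _ hw ha h))
      (fun h => h3 (hinj _ _ hw hy h)) (fun h => h4 (hinj' _ _ hw hy h))
      (e ⟨b, hb⟩) (fun h => hbb ((hE _ _).1 h)) with h | h | h | h | h | h
  · exact ⟨1, one_mem _, Or.inl (by simp [hinj _ _ hb ha h])⟩
  · exact ⟨1, one_mem _, Or.inr (by simp [hinj' _ _ hb ha h])⟩
  · exact ⟨g, hgN, Or.inl (hinj _ _ hb hy h).symm⟩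
  · exact ⟨g, hgN, Or.inr ((inv_eq_iff_eq_inv.2 (hinj' _ _ hb hy h)).symm)⟩
  · exact ⟨g * g, mul_mem hgN hgN, Or.inl (by rw [hinj _ _ hb hw h]; simp [mul_assoc])⟩
  · exact ⟨g * g, mul_mem hgN hgN, Or.inr (by rw [hinj' _ _ hb hw h]; simp [mul_assoc])⟩

end Cfsg.Agent.S0950
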