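import Cfsg.Statements.S0951
import Cfsg.Agent.Lib.Block.PrincipalSection
import Cfsg.Agent.Lib.Block.Covering
import Cfsg.Agent.Lib.Invol.Q8Char
import Cfsg.Agent.S0201
import Cfsg.Agent.S0950

set_option autoImplicit false
open Cfsg
open scoped ComplexConjugate

namespace Cfsg.Agent.S0951

universe u

theorem q8_facts : (∀ x : QuaternionGroup 2, x * x = 1 → x = 1 ∨ x = QuaternionGroup.a 2) ∧
    (∀ x : QuaternionGroup 2, x ^ 4 = 1) ∧
    (∀ s : QuaternionGroup 2, (∀ x, s * x = x * s) → s * s = 1) ∧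
    ∀ s : QuaternionGroup 2, ∃ j, j * s * j⁻¹ = s⁻¹ := by decide

open CfsgLib.Invol in
/-- The data attached to the Sylow subgroup. -/
theorem exists_data {G : Type u} [Group G] [Finite G] (S : Sylow 2 G)
    (e : (S : Subgroup G) ≃* QuaternionGroup 2)
    (hnc : ∀ N : Subgroup G, N.Normal → ¬ Subgroup.IsComplement' N (S : Subgroup G)) :
    ∃ D : Q8Data G, D.S = S := by
  set z : G := ((e.symm (QuaternionGroup.a 2) : (S : Subgroup G)) : G) with hzdef
  have hz : orderOf z = 2 := by
    rw [hzdef, Subgroup.orderOf_coe, MulEquiv.orderOf_eq]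
    exact orderOf_eq_prime (by decide) (by decide)
  have huniq : ∀ x ∈ (S : Subgroup G), x * x = 1 → x = 1 ∨ x = z := fun x hx h =>
    (q8_facts.1 (e ⟨x, hx⟩) (by
      rw [← map_mul, show (⟨x, hx⟩ : (S : Subgroup G)) * ⟨x, hx⟩ = 1 from Subtype.ext h, map_one])).imp
      (fun h' => congrArg Subtype.val (e.map_eq_one_iff.1 h'))
      (fun h' => congrArg Subtype.val (e.eq_symm_apply.2 h'))
  have hexp : ∀ x ∈ (S : Subgroup G), x ^ 4 = 1 := fun x hx => by
    have h := q8_facts.2.1 (e ⟨x, hx⟩)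
    rw [← map_pow, EmbeddingLike.map_eq_one_iff] at h
    exact congrArg Subtype.val h
  have hcent : ∀ s ∈ (S : Subgroup G), (∀ x ∈ (S : Subgroup G), s * x = x * s) → s * s = 1 := by
    intro s hs h
    have h' := q8_facts.2.2.1 (e ⟨s, hs⟩) fun v => by
      obtain ⟨v, rfl⟩ := e.surjective v
      rw [← map_mul, ← map_mul]
      exact congrArg e (Subtype.ext (h v v.2))
    rw [← map_mul, EmbeddingLike.map_eq_one_iff] at h'
    exact congrArg Subtype.val h'
  have hinv : ∀ s ∈ (S : Subgroup G), ∃ j ∈ (S : Subgroup G), j * s * j⁻¹ = s⁻¹ := by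
    intro s hs
    obtain ⟨j, hj⟩ := q8_facts.2.2.2 (e ⟨s, hs⟩)
    obtain ⟨j, rfl⟩ := e.surjective j
    rw [← map_inv, ← map_mul, ← map_mul, ← map_inv] at hj
    exact ⟨j, j.2, congrArg Subtype.val (e.injective hj)⟩
  have hfour : ∀ a b : G, orderOf a = 4 → orderOf b = 4 → IsConj a b := by
    have key : ∀ a, orderOf a = 4 → ∃ a' ∈ (S : Subgroup G), orderOf a' = 4 ∧ IsConj a a' := by
      intro a ha
      obtain ⟨g, hg⟩ := exists_conj_mem_sylow S (H := Subgroup.zpowers a)
        (IsPGroup.of_card (n := 2) (by rw [Nat.card_zpowers, ha]; rfl))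
      exact ⟨g * a * g⁻¹, hg a (Subgroup.mem_zpowers a), by rw [orderOf_conj_eq, ha],
        isConj_iff.2 ⟨g, rfl⟩⟩
    intro a b ha hb
    obtain ⟨a', ha', hao, hac⟩ := key a ha
    obtain ⟨b', hb', hbo, hbc⟩ := key b hb
    refine hac.trans (IsConj.trans ?_ hbc.symm)
    obtain ⟨n, -, hn⟩ := Cfsg.Agent.S0950.result S e hnc (Subgroup.zpowers a') (Subgroup.zpowers b')
      (Subgroup.zpowers_le.2 ha') (Subgroup.zpowers_le.2 hb') (by rw [Nat.card_zpowers, hao])
      (by rw [Nat.card_zpowers, hbo])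
    have hmem : n * a' * n⁻¹ ∈ Subgroup.zpowers b' := by
      rw [hn]; exact ⟨a', Subgroup.mem_zpowers a', rfl⟩
    obtain ⟨i, hi⟩ := mem_powers_iff_mem_zpowers.2 hmem
    change b' ^ i = n * a' * n⁻¹ at hi
    have hio : orderOf (b' ^ i) = 4 := by rw [hi, orderOf_conj_eq, hao]
    rw [← pow_mod_orderOf, hbo] at hi hio
    have h1 : IsConj a' (b' ^ (i % 4)) := isConj_iff.2 ⟨n, hi.symm⟩
    rcases (show i % 4 = 0 ∨ i % 4 = 1 ∨ i % 4 = 2 ∨ i % 4 = 3 by omega) with h | h | h | h <;>
      rw [h] at hio h1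
    · rw [pow_zero, orderOf_one] at hio; omega
    · rwa [pow_one] at h1
    · rw [orderOf_pow' b' two_ne_zero, hbo] at hio; simp at hio
    · obtain ⟨j, -, hj⟩ := hinv b' hb'
      refine h1.trans ?_
      rw [show b' ^ 3 = b'⁻¹ by
        rw [eq_inv_iff_mul_eq_one, ← pow_succ]; exact orderOf_dvd_iff_pow_eq_one.1 (by rw [hbo])]
      exact (isConj_iff.2 ⟨j, hj⟩ : IsConj b' b'⁻¹).symm
  exact ⟨⟨S, z, hz, (e.symm (QuaternionGroup.a 2)).2, huniq, by
    rw [Nat.card_congr e.toEquiv, Nat.card_eq_fintype_card, QuaternionGroup.card],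
    hexp, hcent, hinv, hfour⟩, rfl⟩

open CfsgLib.Block CfsgLib.Invol in
/-- Let S be a Sylow 2-subgroup of the finite group G isomorphic to the quaternion group of order 8. Suppose G has no nontrivial normal subgroup of odd order and G ≠ S. Then, relative to any maximal ideal M of the algebraic integers containing 2, the principal block of G consists of exactly 7 irreducible characters. -/
theorem result {G : Type*} [Group G] [Finite G] (M : Ideal Cfsg.AlgInt) (hM : Cfsg.IsPModular 2 M) (S : Sylow 2 G) (e : (S : Subgroup G) ≃* QuaternionGroup 2) (hO : ∀ N : Subgroup G, N.Normal → Odd (Nat.card N) → N = ⊥) (hG : (S : Subgroup G) ≠ ⊤) : Nat.card (Cfsg.principalBlock M G) = 7 := by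
  classical
  have := hM.2.1.isPrime
  have := Fintype.ofFinite G
  have := Fintype.ofFinite (IrrCharacter G)
  have hnc : ∀ N : Subgroup G, N.Normal → ¬ Subgroup.IsComplement' N (S : Subgroup G) := by
    intro N hN hc
    apply hG
    have hodd : Odd (Nat.card N) := by
      rw [← Nat.not_even_iff_odd, even_iff_two_dvd, ← hc.index_eq_card]
      exact S.not_dvd_index
    rw [hO N hN hodd] at hc
    exact Subgroup.isComplement'_bot_left.1 hc
  obtain ⟨D, rfl⟩ := exists_data S e hnc
  -- the involution is central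
  have hzc : ∀ g : G, Commute D.z g := by
    have h2 := Cfsg.Agent.S0201.result D.S 0 e hO
    obtain ⟨c, hc⟩ := exists_prime_orderOf_dvd_card' (G := Subgroup.center G) 2 (h2 ▸ dvd_rfl)
    have hco : orderOf (c : G) = 2 := by rw [Subgroup.orderOf_coe, hc]
    obtain ⟨g, hg⟩ := exists_conj_invol_mem_sylow D.S hco
    have hcc : ∀ w : G, (c : G) * w = w * (c : G) := fun w => (Subgroup.mem_center_iff.1 c.2 w).symm
    rw [← hcc g, mul_inv_cancel_right] at hg
    rw [← D.eq_z hg hco]
    exact hcc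
  have hzz : D.z * D.z = 1 := invol_mul_self D.hz
  choose c hc hcz using fun χ : IrrCharacter G => central_invol_sign χ hzc hzz
  obtain ⟨i, hiS, hi⟩ := D.exists_order_four
  have hiz : i * i = D.z := D.sq_eq_z hiS hi
  have hinv : IsConj i i⁻¹ := D.hfour _ _ hi (by rw [orderOf_inv, hi])
  have hii : ∀ χ : IrrCharacter G, (χ : G → ℂ) i⁻¹ = (χ : G → ℂ) i := fun χ =>
    CfsgLib.Char.isClassFunction_isConj (CfsgLib.Char.irr_isClassFunction χ.2) hinv.symm
  have hzi : D.z * i = i⁻¹ := by
    rw [eq_inv_iff_mul_eq_one, mul_assoc, hiz, hzz]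
  have hfaith0 : ∀ χ, c χ = -1 → (χ : G → ℂ) i = 0 := by
    intro χ h
    have h1 := hcz χ i
    rw [hzi, hii, h] at h1
    push_cast at h1
    linear_combination h1 / 2
  -- the centralizer of `i`
  obtain ⟨hcore, -, hcard4⟩ := D.exists_core_four hi
  set H := Subgroup.centralizer ({i} : Set G)
  have hcoreOdd : (Nat.card (Cfsg.pPrimeCore 2 H)).Coprime 2 :=
    CfsgLib.Solvable.pPrimeCore_coprime 2
  have hHcomp : Cfsg.HasNormalPComplement 2 H := by
    rw [CfsgLib.Transfer.hasNormalPComplement_iff_coprime_pResidual]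
    refine hcoreOdd.coprime_dvd_left (Subgroup.card_dvd_of_le ?_)
    rw [Cfsg.pResidual, Subgroup.closure_le]
    intro w hw
    obtain ⟨w', hw', he⟩ := hcore (w : G)
      (Subgroup.mem_centralizer_singleton_iff.1 w.2).symm
      (by rw [Subgroup.orderOf_coe]; exact Nat.coprime_two_right.1 hw)
    rwa [← Subtype.ext he]
  have hH2 : (Nat.card H).factorization 2 = 2 := by
    rw [← hcard4, Nat.factorization_mul (by norm_num) Nat.card_pos.ne', Finsupp.add_apply,
      show (4 : ℕ) = 2 ^ 2 from rfl, Nat.factorization_pow_self Nat.prime_two,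
      Nat.factorization_eq_zero_of_not_dvd
        (Nat.prime_two.coprime_iff_not_dvd.1 hcoreOdd.symm)]
  obtain ⟨hconst, hsum⟩ := principal_section hM (x := i) ⟨2, by rw [hi]; rfl⟩ hHcomp
  rw [hH2] at hsum
  have hB := isPBlock_principalBlock (M := M) (G := G)
  set B := (Set.toFinite (principalBlock M G)).toFinset with hBdef
  have hmem : ∀ χ, χ ∈ B ↔ χ ∈ principalBlock M G := fun χ => Set.Finite.mem_toFinset _
  have hsect : ∀ χ ∈ principalBlock M G, ∀ g : G, orderOf (twoPart g) = 4 →
      (χ : G → ℂ) g = (χ : G → ℂ) i := by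
    intro χ hχ g hg
    obtain ⟨a, ha⟩ := isConj_iff.1 (D.hfour _ i hg hi)
    rw [← CfsgLib.Char.irr_isClassFunction χ.2 g a]
    obtain ⟨y, hy, hcy, -, hyr⟩ := twoPart_spec (a * g * a⁻¹)
    rw [twoPart_conj, ha] at hy hcy
    rw [← hy]
    exact hconst χ hχ y hcy hyr
  -- integrality of the values at `i`
  have hival : ∀ χ : IrrCharacter G, ∃ v : ℤ, (χ : G → ℂ) i = v ∧
      (c χ = 1 → (4 : ℤ) ∣ (charDegree (χ : G → ℂ) : ℤ) + 3 * v) := by
    intro χ
    have hzmem : D.z ∈ Subgroup.zpowers i := hiz ▸ mul_mem (Subgroup.mem_zpowers i) (Subgroup.mem_zpowers i)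
    set K := Subgroup.zpowers i with hK
    have := Fintype.ofFinite K
    have := Fintype.ofFinite (D.S : Subgroup G)
    have hrK : IsCharacter K (fun n : K => (χ : G → ℂ) n) :=
      CfsgLib.Char.isCharacter_restrict (CfsgLib.Char.irr_isCharacter χ.2) K
    obtain ⟨k, hk⟩ := CfsgLib.Char.classInner_isCharacter_nat hrK
      (CfsgLib.Char.isCharacter_one (G := K))
    rw [CfsgLib.Char.classInner_def, inv_mul_eq_iff_eq_mul₀ CfsgLib.Char.natCard_ne_zero] at hk
    simp only [map_one, mul_one] at hk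
    have hKl : ∑ w : K, (χ : G → ℂ) w = (χ : G → ℂ) 1 + (χ : G → ℂ) D.z + 2 * (χ : G → ℂ) i := by
      have hset : (Finset.univ : Finset K).image (fun w : K => (w : G)) = {1, i, D.z, i⁻¹} := by
        ext w
        simp only [Finset.mem_image, Finset.mem_univ, true_and, Finset.mem_insert,
          Finset.mem_singleton]
        constructor
        · rintro ⟨⟨w, hw⟩, rfl⟩
          obtain ⟨j, rfl⟩ := mem_powers_iff_mem_zpowers.2 hw
          change i ^ j = _ ∨ i ^ j = _ ∨ i ^ j = _ ∨ i ^ j = _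
          rw [← pow_mod_orderOf, hi]
          rcases (show j % 4 = 0 ∨ j % 4 = 1 ∨ j % 4 = 2 ∨ j % 4 = 3 by omega) with h | h | h | h <;>
            rw [h]
          · simp
          · simp
          · exact Or.inr (Or.inr (Or.inl (by rw [pow_two, hiz])))
          · exact Or.inr (Or.inr (Or.inr (by
              rw [eq_inv_iff_mul_eq_one, ← pow_succ]; exact orderOf_dvd_iff_pow_eq_one.1 (by rw [hi]))))
        · rintro (rfl | rfl | rfl | rfl)
          · exact ⟨⟨1, one_mem _⟩, rfl⟩
          · exact ⟨⟨_, Subgroup.mem_zpowers _⟩, rfl⟩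
          · exact ⟨⟨_, hzmem⟩, rfl⟩
          · exact ⟨⟨_, inv_mem (Subgroup.mem_zpowers _)⟩, rfl⟩
      have hi1 : i ≠ 1 := fun h => by rw [h, orderOf_one] at hi; omega
      have hz1 : D.z ≠ 1 := invol_ne_one D.hz
      have hiiz : i⁻¹ ≠ D.z := fun h => by
        have := congrArg orderOf h
        rw [orderOf_inv, hi, D.hz] at this; omega
      have hi_z : i ≠ D.z := fun h => by
        have := congrArg orderOf h
        rw [hi, D.hz] at this; omega
      have hi_i : i ≠ i⁻¹ := fun h => by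
        have h' : i * i = 1 := by nth_rewrite 2 [h]; exact mul_inv_cancel i
        exact hz1 (hiz ▸ h')
      rw [← Finset.sum_image (f := fun g : G => (χ : G → ℂ) g) (g := fun w : K => (w : G))
        (fun _ _ _ _ h => Subtype.ext h), hset, Finset.sum_insert (by simp [hi1.symm, hz1.symm, eq_comm, hi1]),
        Finset.sum_insert (by simp [hi_z, hi_i]), Finset.sum_insert (by simp [hiiz.symm]),
        Finset.sum_singleton, hii]
      ring
    rw [hKl, Nat.card_zpowers, hi] at hk
    have hz1 : (χ : G → ℂ) D.z = (c χ : ℂ) * (χ : G → ℂ) 1 := by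
      rw [← hcz χ 1, mul_one]
    rw [hz1, ← charDegree_cast (CfsgLib.Char.irr_isCharacter χ.2)] at hk
    obtain ⟨v, hv⟩ : ∃ v : ℤ, (χ : G → ℂ) i = v := by
      rcases hc χ with h | h <;> rw [h] at hk
      · exact ⟨2 * (k : ℤ) - charDegree (χ : G → ℂ), by push_cast at hk ⊢; linear_combination hk / 2⟩
      · exact ⟨2 * (k : ℤ), by push_cast at hk ⊢; linear_combination hk / 2⟩
    refine ⟨v, hv, fun hc1 => ?_⟩
    obtain ⟨k', hk'⟩ := CfsgLib.Char.classInner_isCharacter_nat
      (CfsgLib.Char.isCharacter_restrict (CfsgLib.Char.irr_isCharacter χ.2) (D.S : Subgroup G))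
      (CfsgLib.Char.isCharacter_one (G := (D.S : Subgroup G)))
    rw [CfsgLib.Char.classInner_def, inv_mul_eq_iff_eq_mul₀ CfsgLib.Char.natCard_ne_zero] at hk'
    simp only [map_one, mul_one] at hk'
    set zS : (D.S : Subgroup G) := ⟨D.z, D.hzS⟩
    have hzS1 : zS ≠ 1 := fun h => invol_ne_one D.hz (congrArg Subtype.val h)
    rw [← Finset.add_sum_erase _ _ (Finset.mem_univ (1 : (D.S : Subgroup G))),
      ← Finset.add_sum_erase _ _ (show zS ∈ Finset.univ.erase (1 : (D.S : Subgroup G)) from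
        Finset.mem_erase.2 ⟨hzS1, Finset.mem_univ _⟩),
      Finset.sum_congr rfl (g := fun _ => (v : ℂ)) (fun w hw => by
        simp only [Finset.mem_erase, Finset.mem_univ, and_true] at hw
        rw [← hv]
        refine CfsgLib.Char.isClassFunction_isConj (CfsgLib.Char.irr_isClassFunction χ.2)
          (D.hfour _ _ ?_ hi)
        obtain ⟨j, hj, hj'⟩ := (Nat.dvd_prime_pow Nat.prime_two).1
          (show orderOf (w : G) ∣ 2 ^ 2 from D.orderOf_dvd_four w.2)
        rcases (show j = 0 ∨ j = 1 ∨ j = 2 by omega) with rfl | rfl | rfl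
        · exact absurd (Subtype.ext (orderOf_eq_one_iff.1 hj') : w = 1) hw.2
        · exact absurd (Subtype.ext (D.eq_z w.2 hj') : w = zS) hw.1
        · exact hj'), Finset.sum_const, Finset.card_erase_of_mem (Finset.mem_erase.2
          ⟨hzS1, Finset.mem_univ _⟩), Finset.card_erase_of_mem (Finset.mem_univ _),
      Finset.card_univ, ← Nat.card_eq_fintype_card, D.hcard, nsmul_eq_mul, OneMemClass.coe_one,
      show ((zS : (D.S : Subgroup G)) : G) = D.z from rfl, hz1, hc1,
      ← charDegree_cast (CfsgLib.Char.irr_isCharacter χ.2)] at hk'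
    refine ⟨k', ?_⟩
    have h : ((charDegree (χ : G → ℂ) : ℤ) : ℂ) + 3 * (v : ℂ) = ((4 * (k' : ℤ) : ℤ) : ℂ) := by
      push_cast at hk' ⊢
      linear_combination hk' / 2
    exact_mod_cast h
  choose v hv hv4 using hival
  -- sums over regular elements
  set R : IrrCharacter G → IrrCharacter G → ℂ := fun χ ψ =>
    ∑ g ∈ Finset.univ.filter (fun g : G => twoPart g = 1), (χ : G → ℂ) g * conj ((ψ : G → ℂ) g)
    with hR
  have hsplit : ∀ χ ψ : IrrCharacter G, χ ∈ principalBlock M G → ψ ∈ principalBlock M G →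
      4 * (1 + (c χ : ℂ) * (c ψ : ℂ)) * R χ ψ + (Nat.card G : ℂ) * ((v χ : ℂ) * (v ψ : ℂ)) =
        if χ = ψ then 4 * (Nat.card G : ℂ) else 0 := by
    intro χ ψ hχ hψ
    have h1 := CfsgLib.Char.irr_classInner χ.2 ψ.2
    rw [CfsgLib.Char.classInner_def, inv_mul_eq_iff_eq_mul₀ CfsgLib.Char.natCard_ne_zero,
      D.sum_split] at h1
    have h2 : ∑ g ∈ Finset.univ.filter (fun g : G => orderOf (twoPart g) = 2),
        (χ : G → ℂ) g * conj ((ψ : G → ℂ) g) = (c χ : ℂ) * (c ψ : ℂ) * R χ ψ := by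
      rw [hR, Finset.mul_sum]
      have hmap : ∀ g : G, twoPart g = 1 → twoPart (D.z * g) = D.z := fun g hg =>
        twoPart_mul (hzc g) ⟨1, by rw [D.hz]; rfl⟩ ((twoPart_eq_one_iff g).1 hg)
      refine Finset.sum_nbij' (fun g => D.z * g) (fun g => D.z * g) ?_ ?_ ?_ ?_ ?_
      · intro g hg
        simp only [Finset.mem_filter, Finset.mem_univ, true_and] at hg ⊢
        obtain ⟨a, ha⟩ := isConj_iff.1 (D.isConj_z hg)
        have htg : twoPart g = D.z := by
          rw [← ha, ← (hzc a).eq, mul_inv_cancel_right]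
        rw [twoPart_eq_one_iff]
        have h := odd_orderOf_twoPart_inv_mul g
        rwa [htg, inv_eq_of_mul_eq_one_right hzz] at h
      · intro g hg
        simp only [Finset.mem_filter, Finset.mem_univ, true_and] at hg ⊢
        rw [hmap g hg, D.hz]
      · intro g _; simp [← mul_assoc, hzz]
      · intro g _; simp [← mul_assoc, hzz]
      · intro g _
        rw [hcz χ g, hcz ψ g, map_mul, map_intCast]
        have hc2 : ∀ φ : IrrCharacter G, (c φ : ℂ) * (c φ : ℂ) = 1 := fun φ => by
          rcases hc φ with h | h <;> simp [h]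
        linear_combination (-((χ : G → ℂ) g * conj ((ψ : G → ℂ) g))) *
          ((c ψ : ℂ) * (c ψ : ℂ) * hc2 χ + hc2 ψ)
    have h3 := D.sum_section_four_of_const (fun g => (χ : G → ℂ) g * conj ((ψ : G → ℂ) g))
      ((v χ : ℂ) * (v ψ : ℂ)) fun g hg => by
        rw [hsect χ hχ g hg, hsect ψ hψ g hg, hv χ, hv ψ, map_intCast]
    rw [h2] at h1
    have h4 : (χ : G → ℂ) = (ψ : G → ℂ) ↔ χ = ψ := ⟨Subtype.ext, congrArg _⟩
    simp only [h4] at h1
    split_ifs with h
    · subst h
      simp only [if_true] at h1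
      linear_combination 4 * h1 - h3
    · simp only [h, if_false] at h1
      linear_combination 4 * h1 - h3
  set one : IrrCharacter G := trivIrr with hone
  have hone_mem : one ∈ B := (hmem _).2 one_mem_principalBlock
  have honec : c one = 1 := by
    have h := hcz one 1
    have e1 : ∀ g, (one : G → ℂ) g = 1 := fun _ => rfl
    rw [e1, e1, mul_one] at h
    exact_mod_cast h.symm
  have honev : v one = 1 := by
    have h := hv one
    have e1 : (one : G → ℂ) i = 1 := rfl
    rw [e1] at h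
    exact_mod_cast h.symm
  have hG0 : (Nat.card G : ℂ) ≠ 0 := CfsgLib.Char.natCard_ne_zero
  have h2G : (Nat.card G).factorization 2 = 3 := by
    have h1 := D.S.card_eq_multiplicity
    rw [D.hcard] at h1
    exact (Nat.pow_right_injective le_rfl (show 2 ^ 3 = 2 ^ _ from h1)).symm
  -- members with `z` in the kernel do not vanish at `i`
  have hbar : ∀ χ ∈ B, c χ = 1 → v χ ≠ 0 := by
    intro χ hχ hcχ h0
    have hne : χ ≠ one := fun h => by rw [h, honev] at h0; exact one_ne_zero h0
    have hχB := (hmem χ).1 hχ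
    obtain ⟨n, hn⟩ : ∃ n, Nat.card G = n * 2 := ⟨Nat.card G / 2,
      (Nat.div_mul_cancel ((Nat.prime_two.dvd_iff_one_le_factorization Nat.card_pos.ne').2 (by omega))).symm⟩
    have hn0 : n ≠ 0 := fun h => Nat.card_pos.ne' (by rw [hn, h, zero_mul])
    have hn2 : n.factorization 2 = 2 := by
      rw [hn, Nat.factorization_mul hn0 two_ne_zero, Finsupp.add_apply,
        Nat.prime_two.factorization_self] at h2G
      omega
    have hd4 : 4 ∣ charDegree (χ : G → ℂ) := by
      have h := hv4 χ hcχ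
      rw [h0, mul_zero, add_zero] at h
      exact_mod_cast h
    have hdf : 2 ≤ (charDegree (χ : G → ℂ)).factorization 2 :=
      (Nat.prime_two.pow_dvd_iff_le_factorization (charDegree_ne_zero χ.2)).1 hd4
    set E : MonoidAlgebra ℂ G := mkGA fun x => if twoPart x = 1 then
      (charDegree (χ : G → ℂ) : ℂ) / (n : ℂ) * conj ((χ : G → ℂ) x) else 0 with hE
    have hEloc : IsLocalCentral M E := by
      refine ⟨fun g h => ?_, fun x => ?_⟩
      · simp only [hE, coeff_mkGA, twoPart_conj, conj_eq_one_iff,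
          CfsgLib.Char.irr_isClassFunction χ.2 g h]
      · rw [hE, coeff_mkGA]
        split
        · exact memLocalRing_mul (memLocalRing_natCast_div hM hn0 (Or.inr (by omega)))
            (memLocalRing_of_isIntegral ((irr_apply_isIntegral (CfsgLib.Char.irr_isCharacter χ.2) x).map
              (starRingEnd ℂ).toIntAlgHom))
        · exact (lring M).zero_mem
    have hom : ∀ ψ : IrrCharacter G, omegaC (ψ : G → ℂ) E =
        (charDegree (χ : G → ℂ) : ℂ) / (n : ℂ) * R ψ χ / (ψ : G → ℂ) 1 := by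
      intro ψ
      rw [omegaC_eq, hR, Finset.mul_sum, Finset.sum_filter]
      congr 1
      refine Finset.sum_congr rfl fun x _ => ?_
      rw [hE, coeff_mkGA]
      split <;> ring
    have hon : omegaC (χ : G → ℂ) E = 1 := by
      have h := hsplit χ χ hχB hχB
      rw [if_pos rfl, hcχ, h0, hn] at h
      push_cast at h
      rw [hom, ← charDegree_cast (CfsgLib.Char.irr_isCharacter χ.2)]
      have : (charDegree (χ : G → ℂ) : ℂ) ≠ 0 := Nat.cast_ne_zero.2 (charDegree_ne_zero χ.2)
      have : (n : ℂ) ≠ 0 := Nat.cast_ne_zero.2 hn0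
      rw [show R χ χ = (n : ℂ) by linear_combination h / 8]
      field_simp
    have hoff : omegaC (one : G → ℂ) E = 0 := by
      have h := hsplit one χ ((hmem one).1 hone_mem) hχB
      rw [if_neg (Ne.symm hne), hcχ, honec, h0] at h
      push_cast at h
      rw [hom, show R one χ = 0 by linear_combination h / 8]
      simp
    have h := omegaC_sub_memLocalIdeal hEloc
      (sameBlock_of_mem hB hχB ((hmem one).1 hone_mem))
    rw [hon, hoff, sub_zero] at h
    exact not_memLocalIdeal_one h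
  set Bp := B.filter (fun χ => c χ = 1) with hBp
  have hBm : ∀ χ ∈ B.filter (fun χ => ¬ c χ = 1), c χ = -1 ∧ v χ = 0 := by
    intro χ hχ
    have h := (hc χ).resolve_left (Finset.mem_filter.1 hχ).2
    refine ⟨h, ?_⟩
    have h1 := hv χ
    rw [hfaith0 χ h] at h1
    exact_mod_cast h1.symm
  have hsq : ∑ χ ∈ Bp, v χ ^ 2 = 4 := by
    have h : ((∑ χ ∈ B, v χ ^ 2 : ℤ) : ℂ) = ((4 : ℤ) : ℂ) := by
      rw [finsum_mem_eq_finite_toFinset_sum _ (Set.toFinite _)] at hsum
      push_cast
      rw [hBdef, Finset.sum_congr rfl (fun χ _ =>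
        show (v χ : ℂ) ^ 2 = (χ : G → ℂ) i * conj ((χ : G → ℂ) i) by
          rw [hv χ, map_intCast, sq]), hsum]
      norm_num
    have h' : ∑ χ ∈ B, v χ ^ 2 = 4 := by exact_mod_cast h
    rw [← Finset.sum_filter_add_sum_filter_not B (fun χ => c χ = 1),
      Finset.sum_eq_zero (s := B.filter fun χ => ¬ c χ = 1)
        (fun χ hχ => by rw [(hBm χ hχ).2]; ring), add_zero] at h'
    exact h'
  have honep : one ∈ Bp := Finset.mem_filter.2 ⟨hone_mem, honec⟩
  have hone' : ∀ χ ∈ Bp, v χ ^ 2 = 1 := by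
    intro χ hχ
    have h0 := hbar χ (Finset.mem_filter.1 hχ).1 (Finset.mem_filter.1 hχ).2
    by_contra h
    have h4 : 4 ≤ v χ ^ 2 := by
      have : v χ ≠ 1 ∧ v χ ≠ -1 := ⟨fun e => h (by rw [e]; norm_num), fun e => h (by rw [e]; norm_num)⟩
      rcases (show v χ ≤ -2 ∨ 2 ≤ v χ by omega) with h' | h' <;> nlinarith
    have hne' : χ ≠ one := by rintro rfl; exact h (by rw [honev]; norm_num)
    have hsub : ∑ φ ∈ ({χ, one} : Finset (IrrCharacter G)), v φ ^ 2 ≤ ∑ φ ∈ Bp, v φ ^ 2 :=
      Finset.sum_le_sum_of_subset_of_nonneg (by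
        intro φ hφ
        rcases Finset.mem_insert.1 hφ with rfl | hφ
        · exact hχ
        · rw [Finset.mem_singleton.1 hφ]; exact honep) fun φ _ _ => sq_nonneg _
    rw [Finset.sum_pair hne', hsq, honev] at hsub
    omega
  have hcardp : Bp.card = 4 := by
    rw [Finset.sum_congr rfl hone', Finset.sum_const, nsmul_eq_mul, mul_one] at hsq
    exact_mod_cast hsq
  have hbal : ∑ χ ∈ B, (c χ : ℂ) * R χ χ = 0 := by
    rw [hR]
    simp only [Finset.mul_sum]
    rw [Finset.sum_comm]
    refine Finset.sum_eq_zero fun y hy => ?_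
    have hy1 := (Finset.mem_filter.1 hy).2
    have h1 := sum_block_eq_zero_of_regular_singular hM hB (g := y) (h := D.z * y)
      (fun hd => Nat.not_even_iff_odd.2 ((twoPart_eq_one_iff y).1 hy1) (even_iff_two_dvd.2 hd)) ?_
    · rw [finsum_mem_eq_finite_toFinset_sum _ (Set.toFinite _)] at h1
      rw [← h1]
      refine Finset.sum_congr rfl fun χ _ => ?_
      rw [hcz χ y, map_mul, map_intCast]
      ring
    · have h2 : orderOf (D.z * y) = 2 * orderOf y := by
        rw [(hzc y).orderOf_mul_eq_mul_orderOf_of_coprime, D.hz]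
        rw [D.hz]
        exact Nat.coprime_two_left.2 ((twoPart_eq_one_iff y).1 hy1)
      rw [h2]; exact dvd_mul_right 2 _
  have hp : ∀ χ ∈ Bp, (c χ : ℂ) * R χ χ = 3 * (Nat.card G : ℂ) / 8 := by
    intro χ hχ
    have hc1 := (Finset.mem_filter.1 hχ).2
    have h := hsplit χ χ ((hmem χ).1 (Finset.mem_filter.1 hχ).1) ((hmem χ).1 (Finset.mem_filter.1 hχ).1)
    have hv2 : (v χ : ℂ) * (v χ : ℂ) = 1 := by
      have := hone' χ hχ
      rw [sq] at this
      exact_mod_cast this
    rw [if_pos rfl, hc1, hv2] at h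
    push_cast at h
    rw [hc1]
    push_cast
    linear_combination h / 8
  have hm : ∀ χ ∈ B.filter (fun χ => ¬ c χ = 1), (c χ : ℂ) * R χ χ = -((Nat.card G : ℂ) / 2) := by
    intro χ hχ
    obtain ⟨h1, h2⟩ := hBm χ hχ
    have h := hsplit χ χ ((hmem χ).1 (Finset.mem_filter.1 hχ).1) ((hmem χ).1 (Finset.mem_filter.1 hχ).1)
    rw [if_pos rfl, h1, h2] at h
    push_cast at h
    rw [h1]
    push_cast
    linear_combination (-1 / 8 : ℂ) * h
  rw [← Finset.sum_filter_add_sum_filter_not B (fun χ => c χ = 1), Finset.sum_congr rfl hp,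
    Finset.sum_congr rfl hm, Finset.sum_const, Finset.sum_const, nsmul_eq_mul, nsmul_eq_mul,
    show (B.filter fun χ => c χ = 1).card = 4 from hcardp] at hbal
  have h3 : (B.filter fun χ => ¬ c χ = 1).card = 3 := by
    have h : ((B.filter fun χ => ¬ c χ = 1).card : ℂ) = ((3 : ℕ) : ℂ) := by
      refine mul_right_cancel₀ hG0 ?_
      push_cast at hbal ⊢
      linear_combination (-2 : ℂ) * hbal
    exact_mod_cast h
  rw [Nat.card_coe_set_eq, Set.ncard_eq_toFinset_card _ (Set.toFinite _), ← hBdef,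
    ← Finset.card_filter_add_card_filter_not (fun χ => c χ = 1),
    show (B.filter fun χ => c χ = 1).card = 4 from hcardp, h3]

end Cfsg.Agent.S0951
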