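import Cfsg.Statements.S0952
import Cfsg.Agent.Lib.Block.RegularSum

set_option autoImplicit false
open scoped ComplexConjugate
open Cfsg

namespace Cfsg.Agent.S0952

/-- Let χ and ψ be irreducible characters of the finite group G lying in different blocks relative to a maximal ideal M of the algebraic integers containing the prime p. Then the sum of χ x * conj (ψ x) over the elements x of order prime to p is zero. -/
theorem result {G : Type*} [Group G] [Finite G] (p : ℕ) [Fact p.Prime] (M : Ideal Cfsg.AlgInt) (hM : Cfsg.IsPModular p M) (χ ψ : Cfsg.IrrCharacter G) (h : ¬ Cfsg.SameBlock M (χ : G → ℂ) (ψ : G → ℂ)) : ∑ᶠ x ∈ {x : G | ¬ p ∣ orderOf x}, (χ : G → ℂ) x * conj ((ψ : G → ℂ) x) = 0 := by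
  have := CfsgLib.Block.isPrime_of_pmodular hM
  classical
  have := Fintype.ofFinite G
  have h1 := CfsgLib.Block.omegaC_regSum_eq_zero hM (χ := ψ) (φ := χ)
    (fun hh => h (CfsgLib.Block.sameBlock_symm hh))
  rw [CfsgLib.Block.omegaC_eq, div_eq_zero_iff,
    or_iff_left (CfsgLib.Char.irr_apply_one_ne_zero χ.2)] at h1
  rw [← h1, finsum_mem_def, finsum_eq_sum_of_fintype]
  refine Finset.sum_congr rfl fun x _ => ?_
  rw [CfsgLib.Block.coeff_regSum, Set.indicator_apply]
  simp only [Set.mem_ofPred_eq]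
  by_cases hx : p ∣ orderOf x
  · rw [if_neg (not_not.2 hx), if_pos hx, zero_mul]
  · rw [if_pos hx, if_neg hx, CfsgLib.Block.irr_conj_eq ψ.2, mul_comm]

end Cfsg.Agent.S0952
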