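import Cfsg.Agent.Lib.Block.Green

set_option autoImplicit false
open Cfsg

namespace Cfsg.Agent.S0956

open CfsgLib.Block in
/-- Let D be a defect group of a block of the finite group G (relative to a maximal ideal M of the algebraic integers containing the prime p) and P a Sylow p-subgroup containing D. Then there is an element x of order prime to p such that D is a Sylow p-subgroup of the centralizer of x and D = P ∩ x P x⁻¹. -/
theorem result {G : Type*} [Group G] [Finite G] (p : ℕ) [Fact p.Prime] (M : Ideal Cfsg.AlgInt) (hM : Cfsg.IsPModular p M) (B : Set (Cfsg.IrrCharacter G)) (hB : Cfsg.IsPBlock M B) (D : Subgroup G) (hD : Cfsg.IsDefectGroup p M B D) (P : Sylow p G) (hDP : D ≤ P) : ∃ x : G, ¬ p ∣ orderOf x ∧ (∃ S : Sylow p (Subgroup.centralizer ({x} : Set G)), (S : Subgroup (Subgroup.centralizer ({x} : Set G))).map (Subgroup.centralizer ({x} : Set G)).subtype = D) ∧ (P : Subgroup G) ⊓ (P : Subgroup G).map (MulAut.conj x).toMonoidHom = D := by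
  have := hM.2.1.isPrime
  have hDp : IsPGroup p D := isPGroup_defectGroup hM hB hD
  obtain ⟨b, hb, hbD, -⟩ := firstMain_exists hM hB hD
  set N := Subgroup.normalizer (D : Set G) with hN
  have hDN : D ≤ N := Subgroup.le_normalizer
  obtain ⟨R, hR⟩ := IsPGroup.exists_le_sylow (p := p)
    (P.2.comap_of_injective N.subtype N.subtype_injective)
  have hDR : D.subgroupOf N ≤ R := (Subgroup.comap_mono hDP).trans hR
  obtain ⟨z, Q, hzr, hzQ, hQeq, hQc, -, hmax⟩ := exists_sylow_inter hM hb hbD R
  have hnormal : (D.subgroupOf N).Normal := Subgroup.normal_in_normalizer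
  have hQ : D.subgroupOf N = Q := by
    refine Subgroup.eq_of_le_of_card_ge ?_ hQc.le
    rw [← hQeq]
    refine le_inf hDR fun v hv => mem_map_conj_iff.2 (hDR ?_)
    simpa using hnormal.conj_mem v hv z⁻¹
  have hxC : (z : G) ∈ Subgroup.centralizer (D : Set G) := by
    rw [Subgroup.mem_centralizer_iff]
    intro v hv
    exact congrArg Subtype.val (Subgroup.mem_centralizer_iff.1 hzQ ⟨v, hDN hv⟩
      (hQ.le (Subgroup.mem_subgroupOf.2 hv)))
  refine ⟨(z : G), by rwa [Subgroup.orderOf_coe], ?_, ?_⟩
  · obtain ⟨S, hS⟩ := exists_sylow_cenSub_eq_of_local hDp hxC fun T hT hDT hTle => by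
      refine le_antisymm ?_ hDT
      have hcard : Nat.card T ≤ Nat.card D := by
        rw [← Nat.card_congr (Subgroup.subgroupOfEquivOfLe (hTle.trans inf_le_right)).toEquiv,
          ← Nat.card_congr (Subgroup.subgroupOfEquivOfLe hDN).toEquiv]
        refine hmax _ (hT.comap_of_injective N.subtype N.subtype_injective) fun v hv => ?_
        exact Subgroup.mem_centralizer_singleton_iff.2 (Subtype.ext
          (Subgroup.mem_centralizer_singleton_iff.1 (inf_le_left (b := N) (hTle hv))))
      exact (Subgroup.eq_of_le_of_card_ge hDT hcard).ge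
    exact ⟨S, hS⟩
  · have hDconj : D ≤ (P : Subgroup G).map (MulAut.conj (z : G)).toMonoidHom := fun v hv =>
      mem_map_conj_iff.2 (hDP (by
        have := Subgroup.mem_normalizer_iff''.1 z.2 v
        exact this.1 hv))
    refine eq_of_normalizer_inf_le (p := p) (P.2.to_le inf_le_left) (le_inf hDP hDconj) ?_
    rintro v ⟨⟨hv1, hv2⟩, hv3⟩
    have h : (⟨v, hv3⟩ : N) ∈ (R : Subgroup N) ⊓ (R : Subgroup N).map (MulAut.conj z).toMonoidHom :=
      ⟨hR hv1, mem_map_conj_iff.2 (hR (by
        change (z : G)⁻¹ * v * (z : G) ∈ (P : Subgroup G)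
        exact mem_map_conj_iff.1 hv2))⟩
    rw [hQeq, ← hQ] at h
    exact h

end Cfsg.Agent.S0956
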