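import Cfsg.Statements.S0957
import Cfsg.Agent.Lib.Block.Covering

set_option autoImplicit false
open Cfsg CfsgLib.Block

namespace Cfsg.Agent.S0957

/-- Let P be a Sylow p-subgroup of the finite group G, let g, h ∈ G and let p ^ d be the order of a Sylow p-subgroup of the centralizer of g. Then the number of pairs (y, z) with y conjugate to g, z conjugate to h and z * y⁻¹ ∈ P is divisible by the order of P divided by p ^ d. -/
theorem result {G : Type*} [Group G] [Finite G] (p : ℕ) [Fact p.Prime] (P : Sylow p G) (g h : G) (S : Sylow p (Subgroup.centralizer ({g} : Set G))) : Nat.card P / Nat.card S ∣ Nat.card {yz : G × G // IsConj g yz.1 ∧ IsConj h yz.2 ∧ yz.2 * yz.1⁻¹ ∈ (P : Subgroup G)} := by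
  classical
  let α := {yz : G × G // IsConj g yz.1 ∧ IsConj h yz.2 ∧ yz.2 * yz.1⁻¹ ∈ (P : Subgroup G)}
  have hconj : ∀ (a : G) (u x : G), IsConj a x → IsConj a (u * x * u⁻¹) :=
    fun a u x hx => hx.trans (isConj_iff.2 ⟨u, rfl⟩)
  let _ : MulAction (P : Subgroup G) α :=
    { smul := fun u xy => ⟨((u : G) * xy.1.1 * (u : G)⁻¹, (u : G) * xy.1.2 * (u : G)⁻¹),
        hconj g u _ xy.2.1, hconj h u _ xy.2.2.1, by
          rw [show (u : G) * xy.1.2 * (u : G)⁻¹ * ((u : G) * xy.1.1 * (u : G)⁻¹)⁻¹ =
            (u : G) * (xy.1.2 * xy.1.1⁻¹) * (u : G)⁻¹ by group]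
          exact mul_mem (mul_mem u.2 xy.2.2.2) (inv_mem u.2)⟩
      one_smul := fun xy => Subtype.ext (Prod.ext
        (by change ((1 : (P : Subgroup G)) : G) * _ * ((1 : (P : Subgroup G)) : G)⁻¹ = _; simp)
        (by change ((1 : (P : Subgroup G)) : G) * _ * ((1 : (P : Subgroup G)) : G)⁻¹ = _; simp))
      mul_smul := fun u w xy => Subtype.ext (Prod.ext
        (by change ((u * w : (P : Subgroup G)) : G) * _ * ((u * w : (P : Subgroup G)) : G)⁻¹ =
              (u : G) * ((w : G) * _ * (w : G)⁻¹) * (u : G)⁻¹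
            push_cast; group)
        (by change ((u * w : (P : Subgroup G)) : G) * _ * ((u * w : (P : Subgroup G)) : G)⁻¹ =
              (u : G) * ((w : G) * _ * (w : G)⁻¹) * (u : G)⁻¹
            push_cast; group)) }
  have := Fintype.ofFinite α
  have := Fintype.ofFinite (Quotient (MulAction.orbitRel (P : Subgroup G) α))
  change _ ∣ Nat.card α
  rw [Nat.card_congr (MulAction.selfEquivSigmaOrbitsQuotientStabilizer (P : Subgroup G) α),
    Nat.card_sigma]
  refine Finset.dvd_sum fun ω _ => ?_
  set a : α := ω.out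
  set St := MulAction.stabilizer (P : Subgroup G) a with hSt
  -- the stabilizer centralizes an element conjugate to `g`
  have hle : St.map (P : Subgroup G).subtype ≤ Subgroup.centralizer ({a.1.1} : Set G) := by
    rintro _ ⟨u, hu, rfl⟩
    rw [Subgroup.mem_centralizer_singleton_iff]
    exact mul_inv_eq_iff_eq_mul.1 (congrArg (fun t : α => t.1.1) (MulAction.mem_stabilizer_iff.1 hu))
  have hdvd : Nat.card St ∣ Nat.card S := by
    have h1 : Nat.card St ∣ Nat.card (Subgroup.centralizer ({g} : Set G)) := by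
      rw [← Subgroup.card_map_of_injective (P : Subgroup G).subtype_injective]
      refine (Subgroup.card_dvd_of_le hle).trans ?_
      obtain ⟨c, hc⟩ := isConj_iff.1 a.2.1
      have hCeq : (Subgroup.centralizer ({g} : Set G)).map (MulAut.conj c).toMonoidHom =
          Subgroup.centralizer ({a.1.1} : Set G) := by
        ext w
        rw [mem_map_conj_iff, Subgroup.mem_centralizer_singleton_iff,
          Subgroup.mem_centralizer_singleton_iff, ← hc]
        constructor
        · intro e
          calc w * (c * g * c⁻¹) = c * (c⁻¹ * w * c * g) * c⁻¹ := by group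
            _ = c * (g * (c⁻¹ * w * c)) * c⁻¹ := by rw [e]
            _ = _ := by group
        · intro e
          calc c⁻¹ * w * c * g = c⁻¹ * (w * (c * g * c⁻¹)) * c := by group
            _ = c⁻¹ * (c * g * c⁻¹ * w) * c := by rw [e]
            _ = _ := by group
      rw [← hCeq, natCard_map_conj]
    obtain ⟨l, hl⟩ := IsPGroup.iff_card.1 (P.2.to_subgroup St)
    rw [hl] at h1 ⊢
    rw [Sylow.card_eq_multiplicity]
    exact pow_dvd_pow p (((Fact.out : p.Prime).pow_dvd_iff_le_factorization Nat.card_pos.ne').1 h1)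
  obtain ⟨t, ht⟩ := hdvd
  have hSP : Nat.card S ∣ Nat.card P := by
    rw [Sylow.card_eq_multiplicity, Sylow.card_eq_multiplicity]
    exact pow_dvd_pow p ((Nat.factorization_le_iff_dvd Nat.card_pos.ne' Nat.card_pos.ne').2
      (Subgroup.card_subgroup_dvd_card _) p)
  obtain ⟨e, he⟩ := hSP
  refine ⟨t, ?_⟩
  change St.index = _
  rw [he, Nat.mul_div_cancel_left _ Nat.card_pos]
  have hmul := St.card_mul_index
  rw [he, ht] at hmul
  refine Nat.eq_of_mul_eq_mul_left (Nat.card_pos (α := St)) ?_
  rw [hmul]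
  ring

end Cfsg.Agent.S0957
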