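import Cfsg.Statements.S0960
import Cfsg.Agent.Lib.Block.PrimeSylow

set_option autoImplicit false
open Cfsg CfsgLib.Block
open scoped ComplexConjugate

namespace Cfsg.Agent.S0960

universe u

theorem sum_eq_zero_add_units {p : ℕ} [Fact p.Prime] {R : Type*} [AddCommMonoid R]
    (f : ZMod p → R) : ∑ i, f i = f 0 + ∑ v : (ZMod p)ˣ, f v := by
  classical
  rw [← Finset.add_sum_erase _ f (Finset.mem_univ 0)]
  congr 1
  refine (Finset.sum_bij (fun (v : (ZMod p)ˣ) _ => (v : ZMod p)) ?_ ?_ ?_ ?_).symm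
  · intro v _; simp [v.ne_zero]
  · intro v _ w _ h; exact Units.ext h
  · intro i hi
    exact ⟨Units.mk0 i (Finset.mem_erase.1 hi).1, Finset.mem_univ _, rfl⟩
  · intro v _; rfl

/-- The final count. -/
theorem count_arith {n : ℕ} {T e t p : ℤ} (he : 0 < e) (hT : 0 < T) (hpT : p = T + 1)
    (het : t * e = T) (hn : e + t ≤ (n : ℤ)) (Q A : Fin n → ℤ)
    (hineq : ∀ i, e * T ≤ (T + e) * Q i - A i ^ 2)
    (h1 : ∑ i, (p * Q i - A i ^ 2) = T * p) (h2 : ∑ i, A i ^ 2 = T * e * p) :
    (n : ℤ) = e + t ∧ ∀ i, (T + e) * Q i - A i ^ 2 = e * T := by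
  rw [Finset.sum_sub_distrib, h2, ← Finset.mul_sum] at h1
  have hQ : ∑ i, Q i = T * (1 + e) :=
    mul_left_cancel₀ (show p ≠ 0 by omega) (by linarith)
  have htot : ∑ i, ((T + e) * Q i - A i ^ 2) = (e + t) * (e * T) := by
    rw [Finset.sum_sub_distrib, h2, ← Finset.mul_sum, hQ, hpT]
    linear_combination -T * het
  have hconst : ∑ _i : Fin n, e * T = (n : ℤ) * (e * T) := by simp
  have hle : (n : ℤ) * (e * T) ≤ (e + t) * (e * T) := by
    rw [← hconst, ← htot]; exact Finset.sum_le_sum fun i _ => hineq i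
  have hnle : (n : ℤ) ≤ e + t := le_of_mul_le_mul_right hle (mul_pos he hT)
  have hneq : (n : ℤ) = e + t := le_antisymm hnle hn
  refine ⟨hneq, fun i => ?_⟩
  have h := (Finset.sum_eq_sum_iff_of_le fun i _ => hineq i).1 (by rw [hconst, htot, hneq])
  exact (h i (Finset.mem_univ i)).symm

/-- Let p be an odd prime and G a finite group whose Sylow p-subgroup P has order p; let e be the index of C_G(P) in N_G(P) (a divisor of p − 1) and fix a maximal ideal M of the algebraic integers containing p. Then the principal block of G consists of exactly e + (p - 1) / e irreducible characters, and the degree d of each of them satisfies d ≡ 1, d ≡ -1, d ≡ e or d ≡ -e modulo p. -/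
theorem result {G : Type*} [Group G] [Finite G] (p : ℕ) [Fact p.Prime] (M : Ideal Cfsg.AlgInt) (hM : Cfsg.IsPModular p M) (hodd : p ≠ 2) (P : Sylow p G) (hP : Nat.card P = p) (e : ℕ) (he : (Subgroup.centralizer ((P : Subgroup G) : Set G)).relIndex (Subgroup.normalizer ((P : Subgroup G) : Set G)) = e) : Nat.card (Cfsg.principalBlock M G) = e + (p - 1) / e ∧ ∀ χ ∈ Cfsg.principalBlock M G, ((Cfsg.charDegree (χ : G → ℂ) : ℤ) ≡ 1 [ZMOD p] ∨ (Cfsg.charDegree (χ : G → ℂ) : ℤ) ≡ -1 [ZMOD p] ∨ (Cfsg.charDegree (χ : G → ℂ) : ℤ) ≡ (e : ℤ) [ZMOD p] ∨ (Cfsg.charDegree (χ : G → ℂ) : ℤ) ≡ -(e : ℤ) [ZMOD p]) := by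
  classical
  have := hM.2.1.isPrime
  have := Fintype.ofFinite G
  have := Fintype.ofFinite (IrrCharacter G)
  set B := principalBlock M G with hBdef
  have := Fintype.ofFinite B
  have hBblk : IsPBlock M B := isPBlock_principalBlock
  have hsumB : ∀ F : IrrCharacter G → ℂ, ∑ᶠ χ ∈ B, F χ = ∑ χ : B, F χ := fun F => by
    rw [← finsum_set_coe_eq_finsum_mem, finsum_eq_sum_of_fintype]
  obtain ⟨x, ε, hxo, hgen, hε, hker⟩ := exists_prime_sylow_data P hP
  have hee : Nat.card ε.range = e := by rw [← Subgroup.index_ker, hker, ← he]; rfl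
  set T : ℕ := p - 1 with hTdef
  have hTcard : Fintype.card (ZMod p)ˣ = T := ZMod.card_units p
  -- powers
  set pw : ZMod p → G := fun i => x ^ i.val with hpw
  have hpwN : ∀ j : ℕ, pw (j : ZMod p) = x ^ j := fun j => by
    simp only [hpw, ZMod.val_natCast]
    conv_rhs => rw [← pow_mod_orderOf, hxo]
  have hpwmul : ∀ i j : ZMod p, pw i ^ j.val = pw (i * j) := fun i j => by
    rw [← ZMod.natCast_zmod_val i, ← ZMod.natCast_zmod_val j, ← Nat.cast_mul, hpwN, hpwN,
      ZMod.natCast_zmod_val, ← pow_mul]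
  have hpwinj : ∀ i j : ZMod p, pw i = pw j → i = j := by
    intro i j h
    simp only [hpw] at h
    rw [pow_eq_pow_iff_modEq, hxo, ← ZMod.natCast_eq_natCast_iff, ZMod.natCast_zmod_val,
      ZMod.natCast_zmod_val] at h
    exact h
  have hpwP : ∀ i, pw i ∈ (P : Subgroup G) := fun i => by
    rw [hgen]; exact Subgroup.pow_mem _ (Subgroup.mem_zpowers x) _
  have hpw1 : pw 1 = x := by simp only [hpw, ZMod.val_one, pow_one]
  have hzp : ∀ v : (ZMod p)ˣ, Subgroup.zpowers (pw v) = (P : Subgroup G) := by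
    intro v
    refine le_antisymm (Subgroup.zpowers_le.2 (hpwP _)) ?_
    rw [hgen, Subgroup.zpowers_le]
    have h : pw v ^ ((v⁻¹ : (ZMod p)ˣ) : ZMod p).val = x := by
      rw [hpwmul, Units.mul_inv, hpw1]
    have hm := Subgroup.pow_mem _ (Subgroup.mem_zpowers (pw v)) ((v⁻¹ : (ZMod p)ˣ) : ZMod p).val
    rwa [h] at hm
  have hord : ∀ v : (ZMod p)ˣ, orderOf (pw v) = p := fun v => by
    rw [← Nat.card_zpowers, hzp, hP]
  have hcen : ∀ v : (ZMod p)ˣ, Subgroup.centralizer ({pw v} : Set G) =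
      Subgroup.centralizer ((P : Subgroup G) : Set G) := fun v => by
    rw [← Subgroup.centralizer_closure, ← Subgroup.zpowers_eq_closure, hzp]
  have hconj : ∀ (n : Subgroup.normalizer ((P : Subgroup G) : Set G)) (i : ZMod p),
      (n : G) * pw i * (n : G)⁻¹ = pw ((ε n : ZMod p) * i) := fun n i => by
    rw [show pw i = x ^ i.val from rfl, ← conj_pow, hε n]
    exact hpwmul _ _
  have hclass : ∀ v w : (ZMod p)ˣ, IsConj (pw v) (pw w) ↔
      ((v : (ZMod p)ˣ) : (ZMod p)ˣ ⧸ ε.range) = (w : (ZMod p)ˣ ⧸ ε.range) := by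
    intro v w
    rw [QuotientGroup.eq]
    constructor
    · intro h
      obtain ⟨g, hg⟩ := isConj_iff.1 h
      have hgN : g ∈ Subgroup.normalizer ((P : Subgroup G) : Set G) := by
        have hmap : (P : Subgroup G).map (MulAut.conj g).toMonoidHom = (P : Subgroup G) := by
          conv_lhs => rw [← hzp v, MonoidHom.map_zpowers]
          simp [hg, hzp w]
        rw [Subgroup.mem_normalizer_iff]
        intro y
        have hy := Subgroup.mem_map_iff_mem (f := (MulAut.conj g).toMonoidHom)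
          (MulAut.conj g).injective (K := (P : Subgroup G)) (x := y)
        rw [hmap] at hy
        exact hy.symm
      refine ⟨⟨g, hgN⟩, Units.ext ?_⟩
      have h1 := hpwinj _ _ ((hconj ⟨g, hgN⟩ v).symm.trans hg)
      rw [Units.val_mul, mul_comm, ← h1, mul_assoc, Units.mul_inv, mul_one]
    · rintro ⟨n, hn⟩
      refine isConj_iff.2 ⟨n, ?_⟩
      rw [hconj, hn, ← Units.val_mul, mul_comm v⁻¹ w, inv_mul_cancel_right]
  -- sections
  have hcenC : Cfsg.HasNormalPComplement p (Subgroup.centralizer ((P : Subgroup G) : Set G)) := by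
    have hle : (P : Subgroup G) ≤ Subgroup.centralizer ((P : Subgroup G) : Set G) := by
      intro y hy
      rw [Subgroup.mem_centralizer_iff]
      intro z hz
      rw [SetLike.mem_coe, hgen, Subgroup.mem_zpowers_iff] at hz
      rw [hgen, Subgroup.mem_zpowers_iff] at hy
      obtain ⟨i, rfl⟩ := hy
      obtain ⟨j, rfl⟩ := hz
      rw [← zpow_add, ← zpow_add, add_comm]
    refine CfsgLib.Transfer.hasNormalPComplement_of_normalizer_le_centralizer (P.subtype hle) ?_
    intro n _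
    rw [Sylow.coe_subtype, Subgroup.mem_centralizer_iff]
    intro y hy
    exact Subtype.ext (Subgroup.mem_centralizer_iff.1 n.2 (y : G) hy)
  have hfac : (Nat.card (Subgroup.centralizer ((P : Subgroup G) : Set G))).factorization p = 1 := by
    have hG : (Nat.card G).factorization p = 1 := by
      have h := P.card_eq_multiplicity
      rw [hP] at h
      exact (Nat.pow_eq_self_iff (Fact.out : p.Prime).one_lt).1 h.symm
    refine le_antisymm (hG ▸ (Nat.factorization_le_iff_dvd Nat.card_pos.ne' Nat.card_pos.ne').2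
      (Subgroup.card_subgroup_dvd_card _) p) ?_
    refine (Nat.Prime.dvd_iff_one_le_factorization Fact.out Nat.card_pos.ne').1 ?_
    have hxC : x ∈ Subgroup.centralizer ((P : Subgroup G) : Set G) := by
      rw [← hcen 1, Units.val_one, hpw1, Subgroup.mem_centralizer_singleton_iff]
    have h := orderOf_dvd_natCard (⟨x, hxC⟩ : Subgroup.centralizer ((P : Subgroup G) : Set G))
    rwa [Subgroup.orderOf_mk, hxo] at h
  have hval : ∀ v w : (ZMod p)ˣ, ∀ χ : IrrCharacter G, IsConj (pw v) (pw w) →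
      (χ : G → ℂ) (pw v) = (χ : G → ℂ) (pw w) := fun v w χ h =>
    CfsgLib.Char.isClassFunction_isConj (CfsgLib.Char.irr_isClassFunction χ.2) h
  have horth : ∀ v w : (ZMod p)ˣ, ∑ χ : B, ((χ : IrrCharacter G) : G → ℂ) (pw v) *
      conj (((χ : IrrCharacter G) : G → ℂ) (pw w)) =
      if ((v : (ZMod p)ˣ) : (ZMod p)ˣ ⧸ ε.range) = (w : (ZMod p)ˣ ⧸ ε.range) then (p : ℂ) else 0 := by
    intro v w
    rw [← hsumB fun χ => (χ : G → ℂ) (pw v) * conj ((χ : G → ℂ) (pw w))]
    by_cases h : IsConj (pw v) (pw w)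
    · rw [if_pos ((hclass v w).1 h)]
      obtain ⟨-, hnorm⟩ := principal_section hM (x := pw v) ⟨1, by rw [hord, pow_one]⟩
        (by rw [hcen]; exact hcenC)
      rw [hcen, hfac, pow_one] at hnorm
      rw [← hnorm]
      exact finsum_congr fun χ => finsum_congr fun _ => by rw [hval v w χ h]
    · rw [if_neg fun h' => h ((hclass v w).2 h')]
      exact sum_block_eq_zero hM hBblk (isPPart_self ⟨1, by rw [hord, pow_one]⟩ Fact.out)
        (isPPart_self ⟨1, by rw [hord, pow_one]⟩ Fact.out) h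
  -- the lower bound
  have := Fintype.ofFinite ((ZMod p)ˣ ⧸ ε.range)
  have hge := card_principalBlock_ge hM P hP hxo hgen ε hker
    (fun i : (ZMod p)ˣ ⧸ ε.range => pw (i.out : (ZMod p)ˣ))
    (fun i => by rw [hord])
    (fun i j => by
      rw [hsumB fun χ => (χ : G → ℂ) (pw (i.out : (ZMod p)ˣ)) * conj ((χ : G → ℂ) (pw (j.out : (ZMod p)ˣ))),
        horth, QuotientGroup.out_eq', QuotientGroup.out_eq']
      split_ifs <;> rfl)
  set t : ℕ := Fintype.card ((ZMod p)ˣ ⧸ ε.range) with htdef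
  have het : t * e = T := by
    rw [← hee, ← hTcard, htdef, ← Nat.card_eq_fintype_card, ← Nat.card_eq_fintype_card,
      ← Subgroup.card_eq_card_quotient_mul_card_subgroup]
  -- multiplicities
  have hψ := ZMod.isPrimitive_stdAddChar p
  set ψ : AddChar (ZMod p) ℂ := ZMod.stdAddChar with hψdef
  choose b hb using fun χ : B =>
    exists_multiplicity hxo (CfsgLib.Char.irr_isCharacter (χ : IrrCharacter G).2) hψ
  let a : B → (ZMod p)ˣ → ℤ := fun χ v => (b χ v : ℤ) - b χ 0
  let A : B → ℤ := fun χ => ∑ v, a χ v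
  let Q : B → ℤ := fun χ => ∑ v, a χ v ^ 2
  have hortψ : ∀ s : ZMod p, ∑ i, ψ (i * s) = if s = 0 then (p : ℂ) else 0 := fun s => by
    rw [AddChar.sum_mulShift s hψ, ZMod.card]
    split_ifs <;> simp
  have hfour : ∀ χ : B, ∀ s : ZMod p,
      ∑ i, ((χ : IrrCharacter G) : G → ℂ) (pw i) * ψ (-(s * i)) = (p : ℂ) * b χ s := by
    intro χ s
    simp only [hpw, hb χ, Finset.sum_mul, mul_assoc, ← AddChar.map_add_eq_mul]
    rw [Finset.sum_comm]
    simp only [← Finset.mul_sum]
    rw [Finset.sum_congr rfl fun r _ => show (b χ r : ℂ) * ∑ i, ψ (r * i + -(s * i)) =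
        if r = s then (p : ℂ) * b χ s else 0 by
      rw [show (∑ i, ψ (r * i + -(s * i))) = ∑ i, ψ (i * (r - s)) from
        Finset.sum_congr rfl fun i _ => congrArg ψ (by ring), hortψ]
      by_cases hr : r = s
      · rw [if_pos hr, if_pos (sub_eq_zero.2 hr), hr]; ring
      · rw [if_neg hr, if_neg (sub_ne_zero.2 hr), mul_zero]]
    simp
  have hinv : ∀ χ : B, ∀ c ∈ ε.range, ∀ v, a χ (c * v) = a χ v := by
    rintro χ c ⟨n, rfl⟩ v
    have h1 : (p : ℂ) * b χ ((ε n : ZMod p) * v) = (p : ℂ) * b χ v := by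
      rw [← hfour, ← hfour]
      refine Fintype.sum_equiv (Units.mulLeft (ε n)) _ _ fun i => ?_
      rw [Units.mulLeft_apply, ← hconj n i, CfsgLib.Char.irr_isClassFunction (χ : IrrCharacter G).2,
        mul_assoc, mul_left_comm]
    have h2 : b χ ((ε n : ZMod p) * v) = b χ v :=
      Nat.cast_injective (mul_left_cancel₀ (Nat.cast_ne_zero.2 (Fact.out : p.Prime).ne_zero) h1)
    simp only [a, Units.val_mul, h2]
  have hb0 : ∀ χ : B, ∀ v : (ZMod p)ˣ, (b χ v : ℂ) = (a χ v : ℂ) + (b χ 0 : ℂ) := fun χ v => by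
    simp [a]
  have hpc : (p : ℂ) = (T : ℂ) + 1 := by
    exact_mod_cast (Nat.sub_add_cancel (Fact.out : p.Prime).one_le).symm
  have hsb : ∀ χ : B, ∑ s, (b χ s : ℂ) = (p : ℂ) * b χ 0 + (A χ : ℂ) := fun χ => by
    rw [sum_eq_zero_add_units]
    simp only [hb0, A, Int.cast_sum, Finset.sum_add_distrib, Finset.sum_const, Finset.card_univ,
      hTcard, nsmul_eq_mul]
    rw [hpc]; ring
  have hsb2 : ∀ χ : B, ∑ s, (b χ s : ℂ) * b χ s =
      (p : ℂ) * (b χ 0 * b χ 0) + 2 * b χ 0 * (A χ : ℂ) + (Q χ : ℂ) := fun χ => by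
    rw [sum_eq_zero_add_units]
    simp only [hb0, A, Q, Int.cast_sum, add_mul, mul_add, Finset.sum_add_distrib,
      Finset.sum_const, Finset.card_univ, hTcard, nsmul_eq_mul, ← Finset.mul_sum, ← Finset.sum_mul,
      sq]
    rw [hpc]; push_cast; ring
  have hdeg : ∀ χ : B, ((χ : IrrCharacter G) : G → ℂ) (pw 0) = ∑ s, (b χ s : ℂ) := fun χ => by
    simp only [hpw, hb χ, mul_zero, AddChar.map_zero_eq_one, mul_one]
  have hS : ∀ χ : B, ∑ v : (ZMod p)ˣ, ((χ : IrrCharacter G) : G → ℂ) (pw v) = -(A χ : ℂ) := by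
    intro χ
    have h := hfour χ 0
    simp only [zero_mul, neg_zero, AddChar.map_zero_eq_one, mul_one] at h
    rw [sum_eq_zero_add_units, hdeg, hsb] at h
    linear_combination h
  have hN2 : ∀ χ : B, ∑ v : (ZMod p)ˣ, ((χ : IrrCharacter G) : G → ℂ) (pw v) *
      conj (((χ : IrrCharacter G) : G → ℂ) (pw v)) = (p : ℂ) * (Q χ : ℂ) - (A χ : ℂ) ^ 2 := by
    intro χ
    have hcj : ∀ i, conj (((χ : IrrCharacter G) : G → ℂ) (pw i)) =
        ∑ s, (b χ s : ℂ) * ψ (-(s * i)) := by
      intro i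
      have hinvp : (pw i)⁻¹ = pw (-i) := by
        apply inv_eq_of_mul_eq_one_right
        rw [← ZMod.natCast_zmod_val i, ← ZMod.natCast_zmod_val (-(i.val : ZMod p)), hpwN, hpwN,
          ← pow_add, ← orderOf_dvd_iff_pow_eq_one, hxo, ← CharP.cast_eq_zero_iff (ZMod p) p]
        simp
      rw [irr_conj_eq (χ : IrrCharacter G).2, hinvp]
      simp only [hpw, hb χ, mul_neg]
    have hall : ∑ i, ((χ : IrrCharacter G) : G → ℂ) (pw i) *
        conj (((χ : IrrCharacter G) : G → ℂ) (pw i)) = (p : ℂ) * ∑ s, (b χ s : ℂ) * b χ s := by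
      simp only [hcj, Finset.mul_sum]
      rw [Finset.sum_comm]
      refine Finset.sum_congr rfl fun s _ => ?_
      rw [show (∑ i, ((χ : IrrCharacter G) : G → ℂ) (pw i) * ((b χ s : ℂ) * ψ (-(s * i)))) =
          (b χ s : ℂ) * ∑ i, ((χ : IrrCharacter G) : G → ℂ) (pw i) * ψ (-(s * i)) by
        rw [Finset.mul_sum]; exact Finset.sum_congr rfl fun i _ => by ring, hfour]
      ring
    rw [sum_eq_zero_add_units, hdeg, map_sum] at hall
    simp only [map_natCast] at hall
    rw [hsb, hsb2] at hall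
    linear_combination hall
  -- every member has a nonzero invariant
  have hne : ∀ χ : B, ∃ v, a χ v ≠ 0 := by
    intro χ
    by_contra h
    push Not at h
    have hb' : ∀ s, (b χ s : ℂ) = (b χ 0 : ℂ) := fun s => by
      rcases eq_or_ne s 0 with rfl | hs
      · rfl
      · have h' := hb0 χ (Units.mk0 s hs)
        rw [h, Int.cast_zero, zero_add] at h'
        exact h'
    have h1 : ((χ : IrrCharacter G) : G → ℂ) x = 0 := by
      rw [← hpw1]
      simp only [hpw, hb χ, hb', ← Finset.mul_sum]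
      rw [hortψ, if_neg one_ne_zero, mul_zero]
    have h2 := (χ : B).2 x
    change MemLocalIdeal M (centralChar (fun _ : G => (1 : ℂ)) x -
      centralChar ((χ : IrrCharacter G) : G → ℂ) x) at h2
    simp only [centralChar, h1, mul_zero, zero_div, sub_zero, mul_one, div_one] at h2
    refine P.not_dvd_index (((memLocalIdeal_natCast_iff hM _).1 h2).trans (Subgroup.index_dvd_of_le ?_))
    intro y hy
    rw [Subgroup.mem_centralizer_singleton_iff]
    rw [hgen, Subgroup.mem_zpowers_iff] at hy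
    obtain ⟨i, rfl⟩ := hy
    exact (Commute.zpow_left (Commute.refl x) i).eq
  have hineq := fun χ : B => invariant_sum_sq_ineq ε.range (a χ) (hinv χ) (hne χ)
  -- totals
  have hc1 : ∑ χ : B, ((p : ℤ) * Q χ - A χ ^ 2) = (T : ℤ) * p := by
    have h : ((∑ χ : B, ((p : ℤ) * Q χ - A χ ^ 2) : ℤ) : ℂ) = (T : ℂ) * p := by
      push_cast
      rw [Finset.sum_congr rfl fun χ _ => (hN2 χ).symm, Finset.sum_comm,
        Finset.sum_congr rfl (g := fun _ => (p : ℂ)) fun v _ => by rw [horth, if_pos rfl],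
        Finset.sum_const, Finset.card_univ, hTcard, nsmul_eq_mul]
    exact_mod_cast h
  have hc2 : ∑ χ : B, A χ ^ 2 = (T : ℤ) * e * p := by
    have h : ((∑ χ : B, A χ ^ 2 : ℤ) : ℂ) = (T : ℂ) * e * p := by
      push_cast
      have h1 : ∀ χ : B, (A χ : ℂ) ^ 2 = ∑ v : (ZMod p)ˣ, ∑ w : (ZMod p)ˣ,
          ((χ : IrrCharacter G) : G → ℂ) (pw v) * conj (((χ : IrrCharacter G) : G → ℂ) (pw w)) := by
        intro χ
        rw [← Finset.sum_mul_sum, ← map_sum, hS, map_neg, map_intCast]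
        ring
      rw [Finset.sum_congr rfl fun χ _ => h1 χ, Finset.sum_comm,
        Finset.sum_congr rfl (g := fun _ => (e : ℂ) * p) fun v _ => ?_,
        Finset.sum_const, Finset.card_univ, hTcard, nsmul_eq_mul, mul_assoc]
      rw [Finset.sum_comm, Finset.sum_congr rfl fun w _ => horth v w, ← Finset.sum_filter,
        Finset.sum_const, nsmul_eq_mul]
      congr 2
      rw [← hee, Nat.card_eq_fintype_card, ← Finset.card_univ]
      refine Finset.card_bij' (fun w hw => (⟨v⁻¹ * w, QuotientGroup.eq.1 (Finset.mem_filter.1 hw).2⟩ : ε.range))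
        (fun c _ => v * (c : (ZMod p)ˣ)) (fun _ _ => Finset.mem_univ _) (fun c _ => ?_)
        (fun w _ => mul_inv_cancel_left v w) (fun c _ => Subtype.ext (inv_mul_cancel_left v c))
      refine Finset.mem_filter.2 ⟨Finset.mem_univ _, QuotientGroup.eq.2 ?_⟩
      rw [inv_mul_cancel_left]
      exact c.2
    exact_mod_cast h
  set n := Fintype.card B with hndef
  let eqv := Fintype.equivFin B
  have hT0 : 0 < T := by rw [← hTcard]; exact Fintype.card_pos
  have he0 : 0 < e := hee ▸ Nat.card_pos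
  have hpT : (p : ℤ) = (T : ℤ) + 1 := by exact_mod_cast (Nat.sub_add_cancel (Fact.out : p.Prime).one_le).symm
  obtain ⟨hn, heq⟩ := count_arith (n := n) (T := (T : ℤ)) (e := (e : ℤ)) (t := (t : ℤ)) (p := (p : ℤ))
    (by exact_mod_cast he0) (by exact_mod_cast hT0) hpT (by exact_mod_cast het)
    (by
      rw [hee, Nat.card_eq_fintype_card] at hge
      exact_mod_cast hge)
    (fun i => Q (eqv.symm i)) (fun i => A (eqv.symm i))
    (fun i => by
      have h := (hineq (eqv.symm i)).1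
      rw [hee, hTcard] at h
      exact h)
    ((Equiv.sum_comp eqv.symm fun χ => (p : ℤ) * Q χ - A χ ^ 2).trans hc1)
    ((Equiv.sum_comp eqv.symm fun χ => A χ ^ 2).trans hc2)
  refine ⟨?_, fun χ hχ => ?_⟩
  · rw [Nat.card_eq_fintype_card, ← hndef]
    have hdiv : (p - 1) / e = t := by
      rw [← hTdef, ← het, Nat.mul_div_cancel _ he0]
    rw [hdiv]
    exact_mod_cast hn
  · set χ' : B := ⟨χ, hχ⟩
    have h := heq (eqv χ')
    simp only [Equiv.symm_apply_apply] at h
    have hA := (hineq χ').2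
    rw [hee, hTcard] at hA
    have hmod : (charDegree (χ : G → ℂ) : ℤ) ≡ A χ' [ZMOD p] := by
      have h1 : ((charDegree (χ : G → ℂ) : ℤ) : ℂ) = (((p : ℤ) * (b χ' 0 : ℤ) + A χ' : ℤ) : ℂ) := by
        push_cast
        rw [charDegree_cast (CfsgLib.Char.irr_isCharacter χ.2), ← hsb, ← hdeg]
        simp [hpw, χ']
      rw [Int.cast_inj.1 h1]
      exact Int.modEq_iff_dvd.2 ⟨-(b χ' 0 : ℤ), by ring⟩
    have hTm : (T : ℤ) ≡ -1 [ZMOD p] := Int.modEq_iff_dvd.2 ⟨-1, by rw [hpT]; ring⟩
    rcases hA h with h | h | h | h <;> change A χ' = _ at h <;> rw [h] at hmod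
    · exact Or.inr (Or.inr (Or.inl hmod))
    · exact Or.inr (Or.inr (Or.inr hmod))
    · exact Or.inr (Or.inl (hmod.trans hTm))
    · exact Or.inl (hmod.trans (hTm.neg.trans (by simp)))

end Cfsg.Agent.S0960
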