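import Cfsg.Statements.S0963
import Cfsg.Agent.Lib.Block.Covering

set_option autoImplicit false
open Cfsg CfsgLib.Block

namespace Cfsg.Agent.S0963

/-- Let N be a normal subgroup of the finite group G, χ an irreducible character of G and θ an irreducible character of N. Then θ occurs in the restriction of χ to N if and only if, for every n ∈ N, the central character of χ at n (class size in G times χ n over χ 1) equals the sum of θ m / θ 1 over the elements m of N conjugate in G to n. -/
theorem result {G : Type*} [Group G] [Fintype G] (N : Subgroup G) [N.Normal] [Fintype N] (χ : Cfsg.IrrCharacter G) (θ : Cfsg.IrrCharacter N) : Cfsg.classInner (fun n : N => (χ : G → ℂ) n) (θ : N → ℂ) ≠ 0 ↔ ∀ n : N, Cfsg.centralChar (χ : G → ℂ) (n : G) = Cfsg.inducedCentralChar N (θ : N → ℂ) (n : G) := by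
  classical
  refine ⟨fun h n => centralChar_eq_of_constituent h n, fun h => ?_⟩
  obtain ⟨θ', hθ'⟩ := exists_constituent_res (N := N) χ
  set O : Set (Cfsg.IrrCharacter N) := {ψ | ∃ g, ψ = conjIrr N θ g} with hO
  have hOi : ∀ ψ ∈ O, ∀ g : G, conjIrr N ψ g ∈ O := by
    rintro _ ⟨g, rfl⟩ k
    exact ⟨g * k, conjIrr_conjIrr θ g k⟩
  set a := inclSub N (blockSum O) with ha
  have hacl : IsClassCoeff a := inclSub_blockSum_isClassCoeff hOi
  have hs : ∀ x ∉ N, a.coeff x = 0 := fun x hx => coeff_inclSub_of_not_mem N _ hx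
  have : Finite (ConjClasses G) := Finite.of_surjective ConjClasses.mk ConjClasses.mk_surjective
  have := Fintype.ofFinite (ConjClasses G)
  have key : omegaC (θ : N → ℂ) (resSub N a) = omegaC (χ : G → ℂ) a := by
    have hres : resSub N a = ∑ C : ConjClasses G, a.coeff C.out • resSub N (classSum ℂ C.out) := by
      conv_lhs => rw [eq_sum_classSum hacl]
      ext n
      simp [MonoidAlgebra.coeff_sum]
    rw [hres, omegaC_sum, omegaC_eq_sum_classes (CfsgLib.Char.irr_isClassFunction χ.2) hacl]
    refine Finset.sum_congr rfl fun C _ => ?_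
    rw [omegaC_smul, ← inducedCentralChar_eq_omegaC]
    by_cases hC : C.out ∈ N
    · rw [h ⟨C.out, hC⟩]
    · rw [hs _ hC, zero_mul, zero_mul]
  rw [ha, resSub_inclSub, omegaC_blockSum, if_pos ⟨1, (conjIrr_one θ).symm⟩,
    omegaC_inclSub_blockSum hOi hθ'] at key
  have hθ'O : θ' ∈ O := by
    by_contra hn
    rw [if_neg hn] at key
    exact one_ne_zero key
  obtain ⟨g, hg⟩ := hθ'O
  rwa [hg, classInner_res_conjIrr] at hθ'

end Cfsg.Agent.S0963
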