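import Cfsg.Statements.S0965
import Cfsg.Agent.Lib.Block.Covering

set_option autoImplicit false
open Cfsg CfsgLib.Block

namespace Cfsg.Agent.S0965

/-- Let N be a normal subgroup of the finite group G and let B, b be blocks of G and of N relative to a maximal ideal M of the algebraic integers containing the prime p. Then some χ ∈ B has a constituent in b on restriction to N if and only if, for all χ ∈ B, θ ∈ b and n ∈ N, the central character of χ at n is congruent modulo the local ideal at M to the sum of θ m / θ 1 over the elements m ∈ N conjugate in G to n. -/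
theorem result {G : Type*} [Group G] [Fintype G] (p : ℕ) [Fact p.Prime] (M : Ideal Cfsg.AlgInt) (hM : Cfsg.IsPModular p M) (N : Subgroup G) [N.Normal] [Fintype N] (B : Set (Cfsg.IrrCharacter G)) (hB : Cfsg.IsPBlock M B) (b : Set (Cfsg.IrrCharacter N)) (hb : Cfsg.IsPBlock M b) : (∃ χ ∈ B, ∃ θ ∈ b, Cfsg.classInner (fun n : N => (χ : G → ℂ) n) (θ : N → ℂ) ≠ 0) ↔ ∀ χ ∈ B, ∀ θ ∈ b, ∀ n : N, Cfsg.MemLocalIdeal M (Cfsg.centralChar (χ : G → ℂ) (n : G) - Cfsg.inducedCentralChar N (θ : N → ℂ) (n : G)) := by
  classical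
  have := isPrime_of_pmodular hM
  constructor
  · rintro ⟨χ₀, hχ₀, θ₀, hθ₀, hc⟩ χ hχ θ hθ n
    have hl := isLocalCentral_classSum (M := M) (n : G)
    have h1 := omegaC_sub_memLocalIdeal hl (sameBlock_of_mem hB hχ hχ₀)
    have h2 := omegaC_sub_memLocalIdeal (isLocalCentral_resSub N hl) (sameBlock_of_mem hb hθ₀ hθ)
    rw [omegaC_classSum (CfsgLib.Char.irr_isClassFunction χ.2),
      omegaC_classSum (CfsgLib.Char.irr_isClassFunction χ₀.2),
      centralChar_eq_of_constituent hc n] at h1
    rw [← inducedCentralChar_eq_omegaC, ← inducedCentralChar_eq_omegaC] at h2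
    simpa using memLocalIdeal_add h1 h2
  · intro h
    obtain ⟨χ, hχ⟩ := isPBlock_nonempty hB
    obtain ⟨θ, hθ⟩ := isPBlock_nonempty hb
    obtain ⟨θ', hθ'⟩ := exists_constituent_res (N := N) χ
    set O : Set (Cfsg.IrrCharacter N) := {φ | ∃ g : G, conjIrr N φ g ∈ b} with hO
    have hOi : ∀ φ ∈ O, ∀ g : G, conjIrr N φ g ∈ O := covering_invariant b
    have hal := isLocalCentral_inclSub_blockSum hOi (fun n => memLocalRing_blockCoeff_of_union hM
      (fun φ hφ φ' h => exists_conjIrr_mem_of_sameBlock hb hφ h) n)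
    set a := inclSub N (blockSum O) with ha
    have : Finite (ConjClasses G) := Finite.of_surjective ConjClasses.mk ConjClasses.mk_surjective
    have := Fintype.ofFinite (ConjClasses G)
    have hres : resSub N a = ∑ C : ConjClasses G, a.coeff C.out • resSub N (classSum ℂ C.out) := by
      conv_lhs => rw [eq_sum_classSum hal.1]
      ext n
      simp [MonoidAlgebra.coeff_sum]
    have key : Cfsg.MemLocalIdeal M (omegaC (χ : G → ℂ) a - omegaC (θ : N → ℂ) (resSub N a)) := by
      rw [hres, omegaC_sum, omegaC_eq_sum_classes (CfsgLib.Char.irr_isClassFunction χ.2) hal.1,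
        ← Finset.sum_sub_distrib]
      refine memLocalIdeal_sum _ _ fun C _ => ?_
      rw [omegaC_smul, ← inducedCentralChar_eq_omegaC, ← mul_sub]
      by_cases hC : C.out ∈ N
      · exact memLocalIdeal_mul_left (hal.2 _) (h χ hχ θ hθ ⟨C.out, hC⟩)
      · rw [coeff_inclSub_of_not_mem N _ hC, zero_mul]
        exact memLocalIdeal_zero
    rw [ha, resSub_inclSub, omegaC_blockSum, if_pos ⟨1, by rwa [conjIrr_one]⟩,
      omegaC_inclSub_blockSum hOi hθ'] at key
    have hθ'O : θ' ∈ O := by
      by_contra hn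
      rw [if_neg hn, zero_sub] at key
      exact not_memLocalIdeal_one (M := M) (by simpa using memLocalIdeal_neg key)
    obtain ⟨g, hg⟩ := hθ'O
    exact ⟨χ, hχ, _, hg, by rwa [classInner_res_conjIrr]⟩

end Cfsg.Agent.S0965
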