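import Cfsg.Statements.S0967
import Cfsg.Agent.Lib.Block.Covering
import Cfsg.Agent.Lib.Block.KerNormal

set_option autoImplicit false
open Cfsg CfsgLib.Block

namespace Cfsg.Agent.S0967

/-- Let N be a normal subgroup of the finite group G of order prime to p and fix a maximal ideal M of the algebraic integers containing p. If χ is an irreducible character of G ⧸ N and ψ lies in the block of its inflation χ ∘ (quotient map), then ψ is itself inflated from an irreducible character ψ' of G ⧸ N lying in the block of χ. (Over a normal p'-subgroup, blocks of the quotient are whole blocks of G.) -/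
theorem result {G : Type*} [Group G] [Finite G] (p : ℕ) [Fact p.Prime] (M : Ideal Cfsg.AlgInt) (hM : Cfsg.IsPModular p M) (N : Subgroup G) [N.Normal] (hN : ¬ p ∣ Nat.card N) (χ : Cfsg.IrrCharacter (G ⧸ N)) (ψ : Cfsg.IrrCharacter G) (hψ : ψ ∈ Cfsg.blockOf M ((χ : G ⧸ N → ℂ) ∘ QuotientGroup.mk)) : ∃ ψ' : Cfsg.IrrCharacter (G ⧸ N), (ψ : G → ℂ) = (ψ' : G ⧸ N → ℂ) ∘ QuotientGroup.mk ∧ Cfsg.SameBlock M (χ : G ⧸ N → ℂ) (ψ' : G ⧸ N → ℂ) := by
  classical
  have := isPrime_of_pmodular hM
  have := Fintype.ofFinite G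
  have := Fintype.ofFinite N
  let φ : Cfsg.IrrCharacter G := ⟨(χ : G ⧸ N → ℂ) ∘ QuotientGroup.mk' N,
    CfsgLib.Char.isIrrCharacter_comp_surjective χ.2 _ (QuotientGroup.mk'_surjective N)⟩
  have hker : N ≤ kerIrr φ := fun n hn => by
    rw [mem_kerIrr]
    change (χ : G ⧸ N → ℂ) (n : G ⧸ N) = (χ : G ⧸ N → ℂ) ((1 : G) : G ⧸ N)
    rw [(QuotientGroup.eq_one_iff n).2 hn]
    rfl
  have hsame : Cfsg.SameBlock M (φ : G → ℂ) (ψ : G → ℂ) := hψ
  obtain ⟨ψ', hψ', he⟩ := CfsgLib.Char.isIrr_quotient_lift N ψ.2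
    (fun n hn => le_kerIrr_of_sameBlock hM hN hsame hker hn)
  refine ⟨⟨ψ', hψ'⟩, he, fun q => ?_⟩
  -- a representative whose class has size prime to `p` over that of `q`
  set H := (Subgroup.centralizer ({q} : Set (G ⧸ N))).comap (QuotientGroup.mk' N) with hH
  obtain ⟨P⟩ := (inferInstance : Nonempty (Sylow p H))
  let α := {g : G // (g : G ⧸ N) = q}
  let _ : MulAction H α :=
    { smul := fun h g => ⟨h * g * (h : G)⁻¹, by
        have h1 : ((h : G) : G ⧸ N) * q = q * ((h : G) : G ⧸ N) :=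
          Subgroup.mem_centralizer_singleton_iff.1 h.2
        rw [QuotientGroup.mk_mul, QuotientGroup.mk_mul, QuotientGroup.mk_inv, g.2, h1,
          mul_inv_cancel_right]⟩
      one_smul := fun g => Subtype.ext (by change ((1 : H) : G) * g * ((1 : H) : G)⁻¹ = g; simp)
      mul_smul := fun a b g => Subtype.ext (by
        change ((a * b : H) : G) * g * ((a * b : H) : G)⁻¹ = a * (b * g * (b : G)⁻¹) * (a : G)⁻¹
        push_cast
        group) }
  have hα : Nat.card α = Nat.card N := by
    obtain ⟨g₀, hg₀⟩ := QuotientGroup.mk_surjective q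
    refine Nat.card_congr
      { toFun := fun g => ⟨g₀⁻¹ * g, QuotientGroup.eq.1 (hg₀.trans g.2.symm)⟩
        invFun := fun n => ⟨g₀ * n, by rw [QuotientGroup.mk_mul_of_mem g₀ n.2, hg₀]⟩
        left_inv := fun g => Subtype.ext (mul_inv_cancel_left g₀ (g : G))
        right_inv := fun n => Subtype.ext (inv_mul_cancel_left g₀ (n : G)) }
  obtain ⟨⟨g, hgq⟩, hg⟩ := P.2.nonempty_fixed_point_of_prime_not_dvd_card α (by rwa [hα])
  have hPC : (P : Subgroup H) ≤ (Subgroup.centralizer ({g} : Set G)).subgroupOf H := by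
    intro u hu
    have h1 : ((u : H) : G) * g * ((u : H) : G)⁻¹ = g :=
      congrArg Subtype.val (hg ⟨u, hu⟩)
    rw [Subgroup.mem_subgroupOf, Subgroup.mem_centralizer_singleton_iff]
    exact mul_inv_eq_iff_eq_mul.1 h1
  have hr : ¬ p ∣ (Subgroup.centralizer ({g} : Set G)).relIndex H := fun hd =>
    P.not_dvd_index (hd.trans (Subgroup.index_dvd_of_le hPC))
  have hidx : (Subgroup.centralizer ({g} : Set G)).index =
      (Subgroup.centralizer ({g} : Set G)).relIndex H *
        (Subgroup.centralizer ({q} : Set (G ⧸ N))).index := by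
    rw [← Subgroup.index_comap_of_surjective (H := Subgroup.centralizer ({q} : Set (G ⧸ N)))
      (QuotientGroup.mk'_surjective N), Subgroup.relIndex_mul_index]
    intro x hx
    rw [Subgroup.mem_comap, Subgroup.mem_centralizer_singleton_iff]
    change (x : G ⧸ N) * q = q * (x : G ⧸ N)
    rw [← hgq, ← QuotientGroup.mk_mul, ← QuotientGroup.mk_mul,
      Subgroup.mem_centralizer_singleton_iff.1 hx]
  have h1 := hsame g
  simp only [Cfsg.centralChar, he, φ, Function.comp, QuotientGroup.mk'_apply, hgq, hidx,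
    QuotientGroup.mk_one, Nat.cast_mul, mul_div_assoc, mul_assoc, ← mul_sub] at h1
  have h2 := memLocalIdeal_mul_left (memLocalRing_inv_natCast hM hr) h1
  rw [inv_mul_cancel_left₀ (fun h => hr (by
    rw [Nat.cast_eq_zero] at h; rw [h]; exact dvd_zero p))] at h2
  simpa [Cfsg.centralChar, mul_div_assoc, mul_sub] using h2

end Cfsg.Agent.S0967
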