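import Cfsg.Agent.Lib.Block.CentralDefect
import Cfsg.Agent.Lib.Char.Column

set_option autoImplicit false
open Cfsg

namespace Cfsg.Agent.S0968

open CfsgLib.Block in
/-- Let P be a p-subgroup of the finite group G with P ⊔ C_G(P) = G, and let B be a block with defect group P relative to a maximal ideal M of the algebraic integers containing p. Then there is exactly one θ ∈ B with θ x = θ 1 for all x ∈ P; for this θ the exponent of p in θ(1) equals the exponent of p in the index of P; and the number of members of B equals the number of conjugacy classes of P. -/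
theorem result {G : Type*} [Group G] [Finite G] (p : ℕ) [Fact p.Prime] (M : Ideal Cfsg.AlgInt) (hM : Cfsg.IsPModular p M) (P : Subgroup G) (hP : IsPGroup p P) (hG : P ⊔ Subgroup.centralizer (P : Set G) = ⊤) (B : Set (Cfsg.IrrCharacter G)) (hB : Cfsg.IsPBlock M B) (hD : Cfsg.IsDefectGroup p M B P) : (∃! θ : Cfsg.IrrCharacter G, θ ∈ B ∧ ∀ x ∈ P, (θ : G → ℂ) x = (θ : G → ℂ) 1) ∧ (∀ θ ∈ B, (∀ x ∈ P, (θ : G → ℂ) x = (θ : G → ℂ) 1) → (Cfsg.charDegree (θ : G → ℂ)).factorization p = P.index.factorization p) ∧ Nat.card B = Nat.card (ConjClasses P) := by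
  have := hM.2.1.isPrime
  classical
  have := Fintype.ofFinite P
  let one : IrrCharacter P := ⟨fun _ => 1, CfsgLib.Char.isIrrCharacter_one⟩
  have hiff : ∀ χ : IrrCharacter G,
      (∀ x ∈ P, (χ : G → ℂ) x = (χ : G → ℂ) 1) ↔ pConst hG χ = one := by
    intro χ
    constructor
    · intro h
      by_contra hne
      have h1 := CfsgLib.Char.irr_classInner_ne (pConst hG χ).2 one.2
        (fun e => hne (Subtype.ext e))
      have h2 : ∀ u : P, (pConst hG χ : P → ℂ) u = (pConst hG χ : P → ℂ) 1 := by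
        intro u
        have h3 := h u u.2
        rw [apply_coe_eq_pMult hG χ u, apply_one_eq_pMult hG χ] at h3
        exact mul_left_cancel₀ (Nat.cast_ne_zero.2 (pMult_pos hG χ).ne') h3
      rw [CfsgLib.Char.classInner_def] at h1
      simp only [one, h2, map_one, mul_one, Finset.sum_const, nsmul_eq_mul, Finset.card_univ] at h1
      simp [CfsgLib.Char.irr_apply_one_ne_zero (pConst hG χ).2] at h1
    · intro h x hx
      have h3 := apply_coe_eq_pMult hG χ ⟨x, hx⟩
      rw [h] at h3
      rw [apply_one_eq_pMult hG χ, h]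
      exact h3
  obtain ⟨θ, hθB, hθ⟩ := (pConst_surjOn hG hM hB hD).1 one
  refine ⟨⟨θ, ⟨hθB, (hiff θ).2 hθ⟩, fun χ hχ => pConst_injOn hG hM hB hD hχ.1 hθB
    (((hiff χ).1 hχ.2).trans hθ.symm)⟩, fun χ hχ h => ?_, ?_⟩
  · rw [← factorization_pMult hG hM hB hD hχ]
    congr 2
    have h1 := charDegree_cast (CfsgLib.Char.irr_isCharacter χ.2)
    rw [apply_one_eq_pMult hG χ, (hiff χ).1 h] at h1
    simpa [one] using h1
  · rw [← CfsgLib.Char.irr_card_eq]
    refine Nat.card_congr (Equiv.ofBijective (fun χ : B => pConst hG (χ : IrrCharacter G)) ⟨?_, ?_⟩)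
    · exact fun a b h => Subtype.ext (pConst_injOn hG hM hB hD a.2 b.2 h)
    · intro φ
      obtain ⟨χ, hχ, h⟩ := (pConst_surjOn hG hM hB hD).1 φ
      exact ⟨⟨χ, hχ⟩, h⟩

end Cfsg.Agent.S0968
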