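import Cfsg.Statements.S0969
import Cfsg.Agent.Lib.Block.FirstMain
import Cfsg.Agent.Lib.Block.SecondMain
import Cfsg.Agent.Lib.Block.RegularChar

set_option autoImplicit false
open Cfsg CfsgLib.Block

namespace Cfsg.Agent.S0969

/-- Let D be a central p-subgroup of the finite group G and χ an irreducible character with the exponent of p in χ(1) equal to the exponent of p in the index of D; fix a maximal ideal M of the algebraic integers containing p. Then D is a defect group of the block of χ, and χ g = 0 whenever the p-part of g does not lie in D. -/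
theorem result {G : Type*} [Group G] [Finite G] (p : ℕ) [Fact p.Prime] (M : Ideal Cfsg.AlgInt) (hM : Cfsg.IsPModular p M) (D : Subgroup G) (hD : IsPGroup p D) (hDZ : D ≤ Subgroup.center G) (χ : Cfsg.IrrCharacter G) (hdeg : (Cfsg.charDegree (χ : G → ℂ)).factorization p = D.index.factorization p) : Cfsg.IsDefectGroup p M (Cfsg.blockOf M (χ : G → ℂ)) D ∧ ∀ g x : G, Cfsg.IsPPart p g x → x ∉ D → (χ : G → ℂ) g = 0 := by
  classical
  have := isPrime_of_pmodular hM
  have := Fintype.ofFinite G
  have hp : p.Prime := Fact.out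
  obtain ⟨d, hd⟩ := IsPGroup.iff_card.1 hD
  set a := (Nat.card G).factorization p with ha
  set deg := Cfsg.charDegree (χ : G → ℂ) with hdegdef
  have hdeg0 : deg ≠ 0 := charDegree_ne_zero χ.2
  have hdegC : (χ : G → ℂ) 1 = (deg : ℂ) :=
    (charDegree_cast (CfsgLib.Char.irr_isCharacter χ.2)).symm
  have hfac : D.index.factorization p + d = a := by
    rw [ha, ← D.card_mul_index, hd, Nat.factorization_mul (pow_ne_zero _ hp.ne_zero)
      Subgroup.index_ne_zero_of_finite, Finsupp.add_apply, hp.factorization_pow]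
    simp [add_comm]
  -- the sum of squares over the regular elements
  set S : ℝ := ∑ x : G, if p ∣ orderOf x then 0 else ‖(χ : G → ℂ) x‖ ^ 2 with hS
  have hsq : ∀ w : ℂ, w * (starRingEnd ℂ) w = ((‖w‖ ^ 2 : ℝ) : ℂ) := fun w => by
    rw [Complex.mul_conj']; push_cast; rfl
  obtain ⟨n, hn⟩ := CfsgLib.Char.classInner_isGeneralized_int
    (isGeneralized_regular_cut p (CfsgLib.Char.irr_isCharacter χ.2))
    (CfsgLib.Char.isGeneralized_of_isCharacter (CfsgLib.Char.irr_isCharacter χ.2))
  have hnS : (n : ℂ) * (Nat.card G : ℂ) = ((p ^ a : ℕ) : ℂ) * (S : ℂ) := by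
    rw [← hn, CfsgLib.Char.classInner_def, mul_comm, ← mul_assoc,
      mul_inv_cancel₀ CfsgLib.Char.natCard_ne_zero, one_mul, hS, Complex.ofReal_sum, Finset.mul_sum]
    refine Finset.sum_congr rfl fun x _ => ?_
    split
    · simp
    · rw [mul_assoc, hsq]
  have hω : omegaC (χ : G → ℂ) (regSum p (χ : G → ℂ)) = (S : ℂ) / (deg : ℂ) := by
    rw [omegaC_eq, hdegC, hS, Complex.ofReal_sum]
    congr 1
    refine Finset.sum_congr rfl fun x _ => ?_
    rw [coeff_regSum]
    split
    · simp
    · rw [← hsq, ← irr_conj_eq χ.2, mul_comm]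
  set t : ℂ := (Nat.card D : ℂ) * (S : ℂ) / (Nat.card G : ℂ) with ht
  have hG0 : (Nat.card G : ℂ) ≠ 0 := CfsgLib.Char.natCard_ne_zero
  have hdC : (deg : ℂ) ≠ 0 := Nat.cast_ne_zero.2 hdeg0
  have hi0 : (D.index : ℂ) ≠ 0 := Nat.cast_ne_zero.2 Subgroup.index_ne_zero_of_finite
  have hD0 : (Nat.card D : ℂ) ≠ 0 := Nat.cast_ne_zero.2 Nat.card_pos.ne'
  have hGD : (Nat.card D : ℂ) * (D.index : ℂ) = (Nat.card G : ℂ) := by
    exact_mod_cast D.card_mul_index
  have hti : t = ((deg : ℂ) / (D.index : ℂ)) * ((S : ℂ) / (deg : ℂ)) := by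
    rw [ht, ← hGD]; field_simp
  have htR : Cfsg.MemLocalRing M t := by
    rw [hti, ← hω]
    exact memLocalRing_mul
      (memLocalRing_natCast_div hM Subgroup.index_ne_zero_of_finite (Or.inr hdeg.ge))
      (memLocalRing_omegaC χ.2 (isLocalCentral_regSum (CfsgLib.Char.irr_isCharacter χ.2)))
  -- `t` is an integer
  have hdiv : ∀ (e : ℕ) (m : ℤ), Cfsg.MemLocalRing M ((m : ℂ) / ((p ^ e : ℕ) : ℂ)) →
      ∃ k : ℤ, (m : ℂ) / ((p ^ e : ℕ) : ℂ) = k := by
    intro e
    induction e with
    | zero => intro m _; exact ⟨m, by simp⟩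
    | succ e ih =>
      intro m hm
      have hpC : (p : ℂ) ≠ 0 := Nat.cast_ne_zero.2 hp.ne_zero
      have hdvd : (p : ℤ) ∣ m := by
        have h1 : Cfsg.MemLocalIdeal M (m : ℂ) := by
          have h := memLocalIdeal_mul_left (memLocalRing_mul (memLocalRing_natCast (p ^ e)) hm)
            ((memLocalIdeal_natCast_iff hM p).2 dvd_rfl)
          convert h using 1
          push_cast
          field_simp
          ring
        rcases Int.natAbs_eq m with h2 | h2
        · rw [h2]
          rw [h2, Int.cast_natCast] at h1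
          exact_mod_cast (memLocalIdeal_natCast_iff hM _).1 h1
        · rw [h2, dvd_neg]
          rw [h2, Int.cast_neg, Int.cast_natCast] at h1
          have h3 := memLocalIdeal_neg h1
          rw [neg_neg] at h3
          exact_mod_cast (memLocalIdeal_natCast_iff hM _).1 h3
      obtain ⟨m', rfl⟩ := hdvd
      have he : (((p : ℤ) * m' : ℤ) : ℂ) / ((p ^ (e + 1) : ℕ) : ℂ) = (m' : ℂ) / ((p ^ e : ℕ) : ℂ) := by
        push_cast
        field_simp
        ring
      rw [he] at hm ⊢
      exact ih m' hm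
  have htn : t = (n : ℂ) / ((p ^ D.index.factorization p : ℕ) : ℂ) := by
    rw [ht, hd, eq_div_iff (Nat.cast_ne_zero.2 (pow_ne_zero _ hp.ne_zero)), div_mul_eq_mul_div,
      div_eq_iff hG0, hnS, ← hfac, pow_add]
    push_cast
    ring
  obtain ⟨k, hk⟩ := hdiv _ n (htn ▸ htR)
  rw [← htn] at hk
  have hkR : (k : ℝ) = (Nat.card D : ℝ) * S / (Nat.card G : ℝ) := by
    have : ((k : ℝ) : ℂ) = (((Nat.card D : ℝ) * S / (Nat.card G : ℝ) : ℝ) : ℂ) := by
      push_cast; rw [← hk]
    exact Complex.ofReal_injective this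
  -- translates of the regular elements by `D`
  have hpart : ∀ (u : D) (x : G), ¬ p ∣ orderOf x → Cfsg.IsPPart p ((u : G) * x) (u : G) := by
    intro u x hx
    obtain ⟨j, hj⟩ := IsPGroup.iff_orderOf.1 hD u
    exact ⟨x, rfl, (show Commute x (u : G) from Subgroup.mem_center_iff.1 (hDZ u.2) x).symm,
      ⟨j, by rw [Subgroup.orderOf_coe]; exact hj⟩, hx⟩
  set Sec : Finset G := ((Finset.univ : Finset D) ×ˢ
    Finset.univ.filter (fun x : G => ¬ p ∣ orderOf x)).image (fun ux => (ux.1 : G) * ux.2) with hSec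
  have hsum : ∑ g ∈ Sec, ‖(χ : G → ℂ) g‖ ^ 2 = (Nat.card D : ℝ) * S := by
    rw [hSec, Finset.sum_image, Finset.sum_product, Nat.card_eq_fintype_card,
      ← Finset.card_univ (α := D), ← nsmul_eq_mul, ← Finset.sum_const]
    · refine Finset.sum_congr rfl fun u _ => ?_
      rw [hS, Finset.sum_filter]
      refine Finset.sum_congr rfl fun x _ => ?_
      by_cases hx : p ∣ orderOf x
      · rw [if_pos hx, if_neg (not_not.2 hx)]
      · rw [if_neg hx, if_pos hx, norm_apply_central_mul χ
          (fun w => (Subgroup.mem_center_iff.1 (hDZ u.2) w).symm) x]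
    · rintro ⟨u, x⟩ hux ⟨u', x'⟩ hux' he
      simp only [Finset.coe_product, Set.mem_prod, Finset.coe_filter, Set.mem_ofPred_eq,
        Finset.mem_univ, true_and] at hux hux'
      change (u : G) * x = (u' : G) * x' at he
      have h1 := isPPart_unique hM.1 (hpart u x hux.2) (he ▸ hpart u' x' hux'.2)
      rw [h1] at he
      exact Prod.ext (Subtype.ext h1) (mul_left_cancel he)
  have htot : ∑ g : G, ‖(χ : G → ℂ) g‖ ^ 2 = (Nat.card G : ℝ) := by
    have h := CfsgLib.Char.irr_classInner_self χ.2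
    rw [CfsgLib.Char.classInner_def, inv_mul_eq_one₀ hG0,
      Finset.sum_congr rfl (fun g _ => hsq _), ← Complex.ofReal_sum] at h
    exact_mod_cast h.symm
  have hSpos : 0 < S := by
    refine Finset.sum_pos' (fun x _ => by split <;> positivity) ⟨1, Finset.mem_univ _, ?_⟩
    rw [if_neg (by rw [orderOf_one]; exact hp.not_dvd_one), hdegC, Complex.norm_natCast]
    positivity
  have hGR : (0 : ℝ) < Nat.card G := Nat.cast_pos.2 Nat.card_pos
  have hle : (Nat.card D : ℝ) * S ≤ Nat.card G := by
    rw [← hsum, ← htot]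
    exact Finset.sum_le_sum_of_subset_of_nonneg (Finset.subset_univ _) fun g _ _ => by positivity
  have hk1 : k = 1 := by
    have h1 : (0 : ℝ) < k := by
      rw [hkR]
      exact div_pos (mul_pos (Nat.cast_pos.2 Nat.card_pos) hSpos) hGR
    have h2 : (k : ℝ) ≤ 1 := by rw [hkR, div_le_one hGR]; exact hle
    have : (0 : ℤ) < k := by exact_mod_cast h1
    have : k ≤ 1 := by exact_mod_cast h2
    omega
  have heq : (Nat.card D : ℝ) * S = Nat.card G := by
    rw [hk1, Int.cast_one, eq_div_iff hGR.ne', one_mul] at hkR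
    exact hkR.symm
  refine ⟨?_, fun g x hgx hx => ?_⟩
  · set B := Cfsg.blockOf M (χ : G → ℂ)
    have hB : Cfsg.IsPBlock M B := isPBlock_blockOf χ
    have hχB : χ ∈ B := mem_blockOf_self χ
    have : D.Normal := ⟨fun u hu g => by
      rw [Subgroup.mem_center_iff.1 (hDZ hu) g, mul_inv_cancel_right]; exact hu⟩
    obtain ⟨E, hE⟩ := exists_isDefectGroup hM hB
    have hDE := normal_le_defectGroup hM hD hB hE
    suffices D = E by rw [this]; exact hE
    refine Subgroup.eq_of_le_of_card_ge hDE ?_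
    rw [natCard_defectGroup hM hB hE, hd]
    refine Nat.pow_le_pow_right hp.pos ?_
    by_contra hlt
    push Not at hlt
    have hh : Cfsg.blockHeight p B (χ : G → ℂ) ≠ 0 := by
      rw [Ne, blockHeight_eq_zero_iff hM hB hχB]
      intro h
      have h2 := sInf_degree_add_blockDefect hM hB
      rw [← h, hdeg] at h2
      omega
    have h0 : lam M χ (regZ M p (χ : G → ℂ) (CfsgLib.Char.irr_isCharacter χ.2)) = 0 := by
      by_contra hne
      exact hh ((lam_regZ_ne_zero_iff hM hB hχB hχB).1 hne)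
    rw [lam_regZ, redC_eq_zero_iff
      (memLocalRing_omegaC χ.2 (isLocalCentral_regSum (CfsgLib.Char.irr_isCharacter χ.2))), hω] at h0
    have h1 := memLocalIdeal_mul_left
      (memLocalRing_natCast_div hM Subgroup.index_ne_zero_of_finite (Or.inr hdeg.ge)) h0
    rw [← hti, hk, hk1, Int.cast_one] at h1
    exact not_memLocalIdeal_one h1
  · have hgS : g ∉ Sec := by
      rw [hSec, Finset.mem_image]
      rintro ⟨⟨u, y⟩, hy, rfl⟩
      simp only [Finset.mem_product, Finset.mem_filter, Finset.mem_univ, true_and] at hy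
      exact hx (isPPart_unique hM.1 hgx (hpart u y hy) ▸ u.2)
    have h := Finset.sum_sdiff (f := fun g : G => ‖(χ : G → ℂ) g‖ ^ 2) (Finset.subset_univ Sec)
    rw [hsum, htot, heq, add_eq_right] at h
    have := (Finset.sum_eq_zero_iff_of_nonneg (fun g _ => by positivity)).1 h g (by simp [hgS])
    simpa using this

end Cfsg.Agent.S0969
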