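import Cfsg.Statements.S0971
import Cfsg.Agent.Lib.Block.Covering
import Cfsg.Agent.Lib.Block.FirstMain

set_option autoImplicit false
open Cfsg CfsgLib.Block

namespace Cfsg.Agent.S0971

/-- Let Q be a normal p-subgroup of the finite group G, let N = Q ⊔ C_G(Q) (a normal subgroup) and let b be a block of N relative to a maximal ideal M of the algebraic integers containing p. Then b induces some block of G, and every block B of G containing a character whose restriction to N has a constituent in b is induced by b. -/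
theorem result {G : Type*} [Group G] [Fintype G] (p : ℕ) [Fact p.Prime] (M : Ideal Cfsg.AlgInt) (hM : Cfsg.IsPModular p M) (Q : Subgroup G) [Q.Normal] (hQ : IsPGroup p Q) [Fintype ↥(Q ⊔ Subgroup.centralizer (Q : Set G))] (b : Set (Cfsg.IrrCharacter ↥(Q ⊔ Subgroup.centralizer (Q : Set G)))) (hb : Cfsg.IsPBlock M b) : Cfsg.InducedBlockDefined M (Q ⊔ Subgroup.centralizer (Q : Set G)) b ∧ ∀ B : Set (Cfsg.IrrCharacter G), Cfsg.IsPBlock M B → (∃ χ ∈ B, ∃ θ ∈ b, Cfsg.classInner (fun n : ↥(Q ⊔ Subgroup.centralizer (Q : Set G)) => (χ : G → ℂ) n) (θ : ↥(Q ⊔ Subgroup.centralizer (Q : Set G)) → ℂ) ≠ 0) → Cfsg.IsInducedBlock M (Q ⊔ Subgroup.centralizer (Q : Set G)) b B := by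
  classical
  have := isPrime_of_pmodular hM
  have := charP_kres hM
  have : (Subgroup.centralizer (Q : Set G)).Normal := inferInstance
  have hN : (Q ⊔ Subgroup.centralizer (Q : Set G)).Normal := inferInstance
  have hHN : Q ⊔ Subgroup.centralizer (Q : Set G) ≤ Subgroup.normalizer (Q : Set G) := by
    rw [Subgroup.normalizer_eq_top]
    exact le_top
  obtain ⟨B', hB'⟩ := exists_isInducedBlock_of_normalizer hM hQ le_sup_left le_sup_right hHN hb
  refine ⟨⟨B', hB'⟩, ?_⟩
  rintro B hB ⟨χ, hχ, θ, hθ, hc⟩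
  obtain ⟨φ, hφ⟩ := isPBlock_nonempty hB'.2.1
  suffices B = B' by rw [this]; exact hB'
  refine isPBlock_eq_of_mem hB hB'.2.1 hχ ?_
  rw [← algHom_blkIdem_eq_one_iff hM hB'.2.1 χ, lam_eq_lam_resZ hc (blkIdem M B') (fun x hx => by
    by_contra hne
    exact hx (le_sup_right (a := Q)
      (mem_centralizer_of_coeff_blkIdem_ne_zero hM hQ hB'.2.1 hne))),
    (isInducedBlock_iff _ hb hB'.2.1 hθ hφ).1 hB', (algHom_blkIdem_eq_one_iff hM hB'.2.1 φ).2 hφ]

end Cfsg.Agent.S0971
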