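import Cfsg.Agent.Lib.Block.NormalDefect

set_option autoImplicit false
open Cfsg

namespace Cfsg.Agent.S0972

open CfsgLib.Block in
/-- Let B be a block of the finite group G (relative to a maximal ideal M of the algebraic integers containing the prime p) with a defect group P that is normal in G. Then P is commutative if and only if every member of B has height zero. -/
theorem result {G : Type*} [Group G] [Finite G] (p : ℕ) [Fact p.Prime] (M : Ideal Cfsg.AlgInt) (hM : Cfsg.IsPModular p M) (B : Set (Cfsg.IrrCharacter G)) (hB : Cfsg.IsPBlock M B) (P : Subgroup G) [P.Normal] (hP : Cfsg.IsDefectGroup p M B P) : (∀ a ∈ P, ∀ c ∈ P, a * c = c * a) ↔ ∀ χ ∈ B, Cfsg.blockHeight p B (χ : G → ℂ) = 0 := by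
  have := hM.2.1.isPrime
  classical
  have := Fintype.ofFinite P
  have := Fintype.ofFinite G
  have hPp : IsPGroup p P := isPGroup_defectGroup hM hB hP
  have hsInf : sInf ((fun ψ : IrrCharacter G => (charDegree (ψ : G → ℂ)).factorization p) '' B) =
      P.index.factorization p := by
    have h2 := sInf_degree_add_blockDefect hM hB
    have h3 : P.index.factorization p + blockDefect p B = (Nat.card G).factorization p := by
      conv_rhs => rw [← Subgroup.index_mul_card P, Nat.factorization_mul
        Subgroup.index_ne_zero_of_finite Nat.card_pos.ne', Finsupp.add_apply,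
        natCard_defectGroup hM hB hP, hM.1.factorization_pow, Finsupp.single_eq_same]
    omega
  constructor
  · intro hab χ hχ
    rw [blockHeight_eq_zero_iff hM hB hχ, hsInf]
    refine le_antisymm ?_ ?_
    · obtain ⟨n, ρ, hρ, he⟩ := χ.2
      have hdvd := CfsgLib.Char.ito_degree_dvd_index ρ P hab
      have hd : charDegree (χ : G → ℂ) = Module.finrank ℂ (Fin n → ℂ) := by
        have h1 := charDegree_cast (CfsgLib.Char.irr_isCharacter χ.2)
        rw [← he, Representation.char_one] at h1
        rw [← he]
        exact_mod_cast h1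
      rw [hd]
      exact (Nat.factorization_le_iff_dvd (Nat.pos_iff_ne_zero.1 (Nat.pos_of_dvd_of_pos hdvd
        (Nat.pos_of_ne_zero Subgroup.index_ne_zero_of_finite)))
        Subgroup.index_ne_zero_of_finite).2 hdvd p
    · rw [← hsInf]
      exact Nat.sInf_le ⟨χ, hχ, rfl⟩
  · intro h a ha c hc
    have hlin : ∀ φ : IrrCharacter P, (φ : P → ℂ) 1 = 1 := by
      intro φ
      obtain ⟨χ, hχ, hne⟩ := exists_mem_over_defect hM hB hPp φ
      have h1 := factorization_degree_ge hM hB hP hχ hne
      rw [(blockHeight_eq_zero_iff hM hB hχ).1 (h χ hχ), hsInf] at h1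
      obtain ⟨n, ρ, hρ, he⟩ := φ.2
      have hdvd := CfsgLib.Char.degree_dvd_card ρ
      have hd : charDegree (φ : P → ℂ) = Module.finrank ℂ (Fin n → ℂ) := by
        have h1 := charDegree_cast (CfsgLib.Char.irr_isCharacter φ.2)
        rw [← he, Representation.char_one] at h1
        rw [← he]
        exact_mod_cast h1
      obtain ⟨k, hk⟩ := IsPGroup.iff_card.1 hPp
      rw [hk] at hdvd
      obtain ⟨j, -, hj⟩ := (Nat.dvd_prime_pow hM.1).1 hdvd
      rw [hd, hj, hM.1.factorization_pow, Finsupp.single_eq_same] at h1
      rw [← charDegree_cast (CfsgLib.Char.irr_isCharacter φ.2), hd, hj,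
        show j = 0 by omega, pow_zero, Nat.cast_one]
    exact congrArg Subtype.val
      ((CfsgLib.Char.comm_iff_forall_degree_one.2 hlin) ⟨a, ha⟩ ⟨c, hc⟩)

end Cfsg.Agent.S0972
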