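import Cfsg.Statements.S0974
import Cfsg.Agent.Lib.Transfer.ExcSimple
import Cfsg.Agent.Lib.Transfer.PrimeSylow

set_option autoImplicit false
open Cfsg

namespace Cfsg.Agent.S0974

/-- No finite simple group has order 3648 = 2^6 * 3 * 19. -/
theorem result {G : Type*} [Group G] [Finite G] [IsSimpleGroup G] : Nat.card G ≠ 3648 := by
  intro hcard
  have := Fintype.ofFinite G
  have hp : Fact (Nat.Prime 19) := ⟨by norm_num⟩
  have hG : ¬ IsMulCommutative G :=
    CfsgLib.Transfer.not_isMulCommutative_of_not_prime (by rw [hcard]; norm_num)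
  obtain ⟨P, n, e, C, hP, -, hn1, hnmod, -, hC, hN, hpC, he, he1, hnN, -, -⟩ :=
    CfsgLib.Transfer.prime_sylow_data (p := 19) hG (by rw [hcard]; norm_num)
      (by rw [hcard]; norm_num)
  rw [hcard] at hnN
  obtain ⟨c, rfl⟩ := hpC
  obtain ⟨k, rfl⟩ : ∃ k, n = 19 * k + 1 := ⟨n / 19, by omega⟩
  have h192 : (19 * k + 1) * (e * c) = 192 := by nlinarith
  have hk : k = 5 := by
    have : (19 * k + 1) * (2 * 1) ≤ 192 := by
      rw [← h192]
      refine Nat.mul_le_mul_left _ (Nat.mul_le_mul he1 ?_)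
      rcases Nat.eq_zero_or_pos c with h | h
      · subst h; simp at h192
      · exact h
    have hd : (19 * k + 1) ∣ 192 := ⟨_, h192.symm⟩
    have : k ≤ 5 := by omega
    interval_cases k <;> first | omega | norm_num at hd
  subst hk
  have hec : e * c = 2 := by omega
  obtain ⟨he2, hc⟩ : e = 2 ∧ c = 1 := by
    have := Nat.le_of_dvd (by norm_num : 0 < 2) ⟨c, hec.symm⟩
    have he2 : e = 2 := by omega
    subst he2
    exact ⟨rfl, by omega⟩
  subst he2 hc
  have hA := CfsgLib.Transfer.centralizer_singleton_eq (P : Subgroup G) hP (by rw [← hC])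
  obtain ⟨s, D, d, c', q, hs, hD, hd, hd1, ⟨k, hk0, hk⟩, hdD, hsq, -, -, -⟩ :=
    CfsgLib.Transfer.exc_two_numeric (P : Subgroup G) hA hG (w := 9)
      (by rw [hN, hP]) (by rw [hP]) (by norm_num)
  rw [hcard] at hD hsq
  rw [hP] at hk
  have hD60 : D ≤ 60 := by nlinarith
  have hk3 : k ≤ 3 := by rcases hs with h | h <;> omega
  interval_cases k <;> rcases hs with rfl | rfl <;> push_cast at hk <;>
    first
      | omega
      | (obtain rfl : D = _ := Int.ofNat.inj hk
         norm_num at hD)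


end Cfsg.Agent.S0974
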