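import Cfsg.Statements.S0981
import Cfsg.Agent.S0997
import Cfsg.Agent.Lib.ClassK.SmallSimple
import Cfsg.Agent.Lib.Geom.DicksonPSL

set_option autoImplicit false
open Cfsg

namespace Cfsg.Agent.S0981

/-- A simple group of order 4080 is isomorphic to the projective special linear group of dimension 2 over the field with 16 elements. -/
theorem result {G : Type*} [Group G] [Finite G] [IsSimpleGroup G] (h : Nat.card G = 4080) {F : Type*} [Field F] [Fintype F] (hF : Fintype.card F = 16) : Nonempty (G ≃* Matrix.ProjectiveSpecialLinearGroup (Fin 2) F) := by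
  have hG : ¬ IsCyclic G := fun hc => by
    haveI := hc.isMulCommutative
    exact CfsgLib.Transfer.not_isMulCommutative_of_not_prime (G := G)
      (by rw [h]; norm_num) inferInstance
  obtain ⟨m, F', _, _, hF', -, ⟨e⟩⟩ | ⟨m, F', _, _, hF', hm, -, ⟨e⟩⟩ :=
    Cfsg.Agent.S0997.result hG 17 2 4 15 (by norm_num) Nat.prime_two (by norm_num)
      (by rw [h]; norm_num) (by norm_num)
  · exfalso
    have h1 := Nat.card_congr e.toEquiv
    rw [h, CfsgLib.Classical.card_psl_two_eq hF' 2448 (by norm_num)] at h1
    norm_num at h1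
  · have h16 : Fintype.card F' = 16 := by omega
    obtain ⟨φ⟩ : Nonempty (F' ≃+* F) := ⟨FiniteField.ringEquivOfCardEq (h16.trans hF.symm)⟩
    exact ⟨e.trans (CfsgLib.Geom.Moebius.pslCongr φ)⟩

end Cfsg.Agent.S0981
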