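import Cfsg.Statements.S0986
import Cfsg.Agent.Lib.Transfer.SimpleCount

set_option autoImplicit false
open Cfsg

namespace Cfsg.Agent.S0986

/-- Let P and Q be distinct Sylow p-subgroups of a finite group G chosen so that the order of P ∩ Q is as large as possible among intersections of two distinct Sylow p-subgroups, and let N be the normalizer of P ∩ Q. Then N has more than one Sylow p-subgroup, any two distinct Sylow p-subgroups of N intersect exactly in P ∩ Q, and each Sylow p-subgroup of N lies in exactly one Sylow p-subgroup of G. -/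
theorem result {G : Type*} [Group G] [Finite G] (p : ℕ) [Fact p.Prime] (P Q : Sylow p G) (hPQ : P ≠ Q) (hmax : ∀ P' Q' : Sylow p G, P' ≠ Q' → Nat.card ↥((P' : Subgroup G) ⊓ (Q' : Subgroup G)) ≤ Nat.card ↥((P : Subgroup G) ⊓ (Q : Subgroup G))) : 1 < Nat.card (Sylow p ↥(Subgroup.normalizer (((P : Subgroup G) ⊓ (Q : Subgroup G) : Subgroup G) : Set G))) ∧ (∀ S T : Sylow p ↥(Subgroup.normalizer (((P : Subgroup G) ⊓ (Q : Subgroup G) : Subgroup G) : Set G)), S ≠ T → (S : Subgroup _) ⊓ (T : Subgroup _) = ((P : Subgroup G) ⊓ (Q : Subgroup G)).subgroupOf (Subgroup.normalizer (((P : Subgroup G) ⊓ (Q : Subgroup G) : Subgroup G) : Set G))) ∧ ∀ S : Sylow p ↥(Subgroup.normalizer (((P : Subgroup G) ⊓ (Q : Subgroup G) : Subgroup G) : Set G)), ∃! T : Sylow p G, (S : Subgroup _).map (Subgroup.normalizer (((P : Subgroup G) ⊓ (Q : Subgroup G) : Subgroup G) : Set G)).subtype ≤ (T : Subgroup G) := by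
  set D := (P : Subgroup G) ⊓ (Q : Subgroup G) with hD
  set N := Subgroup.normalizer (D : Set G) with hN
  have hDN : D ≤ N := Subgroup.le_normalizer
  have huniq : ∀ A B : Sylow p G, ∀ X : Subgroup G, X ≤ (A : Subgroup G) → X ≤ (B : Subgroup G) →
      Nat.card D < Nat.card X → A = B := by
    intro A B X hA hB hlt
    by_contra hne
    have h1 : Nat.card ↥((A : Subgroup G) ⊓ (B : Subgroup G)) ≤ Nat.card D := hmax A B hne
    exact absurd ((Subgroup.card_le_of_le (le_inf hA hB)).trans h1) (not_le.2 hlt)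
  have hPle : ¬ (P : Subgroup G) ≤ Q := fun h => hPQ (Sylow.ext (P.3 Q.2 h).symm)
  have hQle : ¬ (Q : Subgroup G) ≤ P := fun h => hPQ (Sylow.ext (Q.3 P.2 h))
  obtain ⟨x, hxP, hxN, hxD⟩ := CfsgLib.Transfer.exists_mem_normalizer_not_mem P.2 (D := D)
    (lt_of_le_of_ne inf_le_left fun h => hPle (inf_eq_left.1 h))
  obtain ⟨y, hyQ, hyN, hyD⟩ := CfsgLib.Transfer.exists_mem_normalizer_not_mem Q.2 (D := D)
    (lt_of_le_of_ne inf_le_right fun h => hQle (inf_eq_right.1 h))
  have hlt : ∀ (X : Subgroup G), D ≤ X → ∀ z ∈ X, z ∉ D → Nat.card D < Nat.card X := fun X hX z hz hzD =>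
    lt_of_le_of_ne (Subgroup.card_le_of_le hX) fun h => hzD (Subgroup.eq_of_le_of_card_ge hX h.ge ▸ hz)
  have hDle : ∀ S : Sylow p N, D.subgroupOf N ≤ (S : Subgroup N) := fun S =>
    haveI : (D.subgroupOf N).Normal := Subgroup.normal_in_normalizer
    IsPGroup.le_sylow_of_normal (N := D.subgroupOf N) (P.2.to_le inf_le_left |>.comap_subtype) S
  -- Sylow subgroups of `N` through `x` and `y`
  obtain ⟨S0, hS0⟩ := IsPGroup.exists_le_sylow (P.2.comap_subtype (K := N))
  obtain ⟨T0, hT0⟩ := IsPGroup.exists_le_sylow (Q.2.comap_subtype (K := N))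
  have hsup : ∀ S : Sylow p N, ∃ T : Sylow p G, (S : Subgroup N).map N.subtype ≤ (T : Subgroup G) :=
    fun S => (S.2.map N.subtype).exists_le_sylow
  have hbig : Nat.card D < Nat.card ((S0 : Subgroup N).map N.subtype) :=
    hlt _ (fun d hd => ⟨⟨d, hDN hd⟩, hDle S0 hd, rfl⟩) x ⟨⟨x, hxN⟩, hS0 hxP, rfl⟩ hxD
  have hcardN : ∀ S : Sylow p N, Nat.card D < Nat.card ((S : Subgroup N).map N.subtype) := by
    intro S
    rw [Subgroup.card_map_of_injective N.subtype_injective, Nat.card_congr (S.equiv S0).toEquiv,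
      ← Subgroup.card_map_of_injective N.subtype_injective]
    exact hbig
  refine ⟨?_, ?_, ?_⟩
  · rw [Finite.one_lt_card_iff_nontrivial]
    refine ⟨S0, T0, fun h => ?_⟩
    obtain ⟨R, hR⟩ := hsup S0
    have e1 : P = R := huniq P R ((P : Subgroup G) ⊓ N) inf_le_left
      (fun z hz => hR ⟨⟨z, hz.2⟩, hS0 hz.1, rfl⟩) (hlt _ (le_inf inf_le_left hDN) x ⟨hxP, hxN⟩ hxD)
    have e2 : Q = R := huniq Q R ((Q : Subgroup G) ⊓ N) inf_le_left
      (fun z hz => hR ⟨⟨z, hz.2⟩, h ▸ hT0 hz.1, rfl⟩) (hlt _ (le_inf inf_le_right hDN) y ⟨hyQ, hyN⟩ hyD)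
    exact hPQ (e1.trans e2.symm)
  · intro S T hST
    obtain ⟨A, hA⟩ := hsup S
    obtain ⟨B, hB⟩ := hsup T
    have hAB : A ≠ B := by
      rintro rfl
      have h1 : ∀ U : Sylow p N, (U : Subgroup N).map N.subtype ≤ (A : Subgroup G) →
          (U : Subgroup N) = (A : Subgroup G).subgroupOf N := fun U hU =>
        (U.3 (A.2.comap_subtype) fun z hz => hU ⟨z, hz, rfl⟩).symm
      exact hST (Sylow.ext ((h1 S hA).trans (h1 T hB).symm))
    refine le_antisymm ?_ (le_inf (hDle S) (hDle T))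
    have hle : Nat.card ↥((S : Subgroup N) ⊓ (T : Subgroup N)) ≤ Nat.card D := by
      rw [← Subgroup.card_map_of_injective N.subtype_injective]
      refine (Subgroup.card_le_of_le ?_).trans (hmax A B hAB)
      rintro _ ⟨z, hz, rfl⟩
      exact ⟨hA ⟨z, hz.1, rfl⟩, hB ⟨z, hz.2, rfl⟩⟩
    exact (Subgroup.eq_of_le_of_card_ge (le_inf (hDle S) (hDle T)) (by
      rw [Nat.card_congr (Subgroup.subgroupOfEquivOfLe hDN).toEquiv]; exact hle)).ge
  · intro S
    obtain ⟨T, hT⟩ := hsup S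
    exact ⟨T, hT, fun T' hT' => huniq T' T _ hT' hT (hcardN S)⟩


end Cfsg.Agent.S0986
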