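import Cfsg.Statements.S0987
import Cfsg.Agent.Lib.Transfer.SimpleCount

set_option autoImplicit false
open Cfsg

namespace Cfsg.Agent.S0987

/-- If a finite group has order pqr for primes p < q < r, then its Sylow r-subgroups are normal. -/
theorem result {G : Type*} [Group G] [Finite G] (p q r : ℕ) (hp : p.Prime) (hq : q.Prime) [Fact r.Prime] (hpq : p < q) (hqr : q < r) (hG : Nat.card G = p * q * r) (R : Sylow r G) : (R : Subgroup G).Normal := by
  have hr := (Fact.out : r.Prime)
  have : Fact p.Prime := ⟨hp⟩
  have : Fact q.Prime := ⟨hq⟩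
  by_contra hnR
  have hR1 : ¬ Nat.card (Sylow r G) = 1 := fun h1 => hnR (by
    have := (Nat.card_eq_one_iff_unique.1 h1).1
    exact Sylow.normal_of_subsingleton R)
  have hcard : ∀ {s : ℕ} [Fact s.Prime], s ∈ ({p, q, r} : Finset ℕ) → ∀ S : Sylow s G,
      Nat.card (S : Subgroup G) = s := by
    intro s _ hs S
    simp only [Finset.mem_insert, Finset.mem_singleton] at hs
    have := hp.ne_zero; have := hq.ne_zero; have := hr.ne_zero
    rw [S.card_eq_multiplicity, hG, Nat.factorization_mul (by positivity) (by positivity),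
      Nat.factorization_mul (by positivity) (by positivity), hp.factorization, hq.factorization,
      hr.factorization, Finsupp.add_apply, Finsupp.add_apply]
    rcases hs with rfl | rfl | rfl
    · rw [Finsupp.single_eq_same, Finsupp.single_eq_of_ne (by omega),
        Finsupp.single_eq_of_ne (by omega)]; simp
    · rw [Finsupp.single_eq_same, Finsupp.single_eq_of_ne (by omega),
        Finsupp.single_eq_of_ne (by omega)]; simp
    · rw [Finsupp.single_eq_same, Finsupp.single_eq_of_ne (by omega),
        Finsupp.single_eq_of_ne (by omega)]; simp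
  -- `n_r = p q`
  have hdvdr : Nat.card (Sylow r G) ∣ p * q := by
    have h1 : Nat.card (Sylow r G) ∣ (R : Subgroup G).index := R.card_dvd_index
    have h2 := (R : Subgroup G).card_mul_index
    rw [hcard (by simp) R, hG, mul_comm r] at h2
    rwa [Nat.eq_of_mul_eq_mul_right hr.pos h2] at h1
  have hmr : Nat.card (Sylow r G) % r = 1 := by
    have := card_sylow_modEq_one r G
    rwa [Nat.ModEq, Nat.mod_eq_of_lt hr.one_lt] at this
  have hnr : Nat.card (Sylow r G) = p * q := by
    obtain ⟨a, b, ha, hb, hab⟩ := Nat.dvd_mul.1 hdvdr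
    rcases (Nat.dvd_prime hp).1 ha with rfl | rfl <;> rcases (Nat.dvd_prime hq).1 hb with rfl | rfl
    · exact absurd hab.symm (by simpa using hR1)
    · simp only [one_mul] at hab
      rw [← hab, Nat.mod_eq_of_lt hqr] at hmr
      exact absurd hmr hq.ne_one
    · simp only [mul_one] at hab
      rw [← hab, Nat.mod_eq_of_lt (hpq.trans hqr)] at hmr
      exact absurd hmr hp.ne_one
    · exact hab.symm
  obtain ⟨Q⟩ := (inferInstance : Nonempty (Sylow q G))
  have hmq : Nat.card (Sylow q G) % q = 1 := by
    have := card_sylow_modEq_one q G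
    rwa [Nat.ModEq, Nat.mod_eq_of_lt hq.one_lt] at this
  have hQ1 : Nat.card (Sylow q G) = 1 := by
    by_contra hQne
    have hdvdq : Nat.card (Sylow q G) ∣ p * r := by
      have h1 : Nat.card (Sylow q G) ∣ (Q : Subgroup G).index := Q.card_dvd_index
      have h2 := (Q : Subgroup G).card_mul_index
      rw [hcard (by simp) Q, hG, show p * q * r = p * r * q by ring, mul_comm q] at h2
      rwa [Nat.eq_of_mul_eq_mul_right hq.pos h2] at h1
    have hge : r ≤ Nat.card (Sylow q G) := by
      obtain ⟨a, b, ha, hb, hab⟩ := Nat.dvd_mul.1 hdvdq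
      rcases (Nat.dvd_prime hp).1 ha with rfl | rfl <;> rcases (Nat.dvd_prime hr).1 hb with rfl | rfl
      · exact absurd hab.symm (by simpa using hQne)
      · exact le_of_eq (by simpa using hab)
      · simp only [mul_one] at hab
        rw [← hab, Nat.mod_eq_of_lt hpq] at hmq
        exact absurd hmq hp.ne_one
      · rw [← hab]; exact Nat.le_mul_of_pos_left _ hp.pos
    have cr := CfsgLib.Transfer.card_orderOf_eq_prime R (hcard (by simp) R)
    have cq := CfsgLib.Transfer.card_orderOf_eq_prime Q (hcard (by simp) Q)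
    classical
    let _ : Fintype G := Fintype.ofFinite G
    have hle : Nat.card {g : G // orderOf g = r} + Nat.card {g : G // orderOf g = q} ≤ Nat.card G := by
      rw [Nat.card_eq_fintype_card, Nat.card_eq_fintype_card, Fintype.card_subtype, Fintype.card_subtype,
        Nat.card_eq_fintype_card, ← Finset.card_union_of_disjoint (Finset.disjoint_filter.2 fun g _ h1 h2 => by omega)]
      exact Finset.card_le_univ _
    rw [cr, cq, hnr, hG] at hle
    have h1 : r * (q - 1) ≤ p * q := by
      have h0 : r * (q - 1) ≤ Nat.card (Sylow q G) * (q - 1) := Nat.mul_le_mul_right _ hge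
      have : p * q * (r - 1) + p * q = p * q * r := by
        rw [← Nat.mul_succ, Nat.succ_eq_add_one, Nat.sub_add_cancel hr.one_lt.le]
      omega
    have h2 : (q + 1) * (q - 1) ≤ r * (q - 1) := Nat.mul_le_mul_right _ (by omega)
    have h3 : p * q ≤ (q - 1) * q := Nat.mul_le_mul_right _ (by omega)
    have h4 : (q + 1) * (q - 1) = (q - 1) * q + (q - 1) := by ring
    have := hq.two_le
    omega
  have hQn : (Q : Subgroup G).Normal := by
    have := (Nat.card_eq_one_iff_unique.1 hQ1).1
    exact Sylow.normal_of_subsingleton Q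
  set H := (Q : Subgroup G) ⊔ (R : Subgroup G) with hH
  have hHcard : Nat.card H = q * r := by
    have hdisj : (Q : Subgroup G) ⊓ (R : Subgroup G) = ⊥ := Subgroup.inf_eq_bot_of_coprime (by
      rw [hcard (by simp) Q, hcard (by simp) R]; exact (Nat.coprime_primes hq hr).2 hqr.ne)
    have e1 := Subgroup.relIndex_mul_relIndex ⊥ (Q : Subgroup G) H bot_le le_sup_left
    rw [Subgroup.relIndex_bot_left, Subgroup.relIndex_bot_left, hH, Subgroup.relIndex_sup_left,
      ← Subgroup.inf_relIndex_right, hdisj, Subgroup.relIndex_bot_left, hcard (by simp) Q,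
      hcard (by simp) R] at e1
    exact e1.symm
  have hidx : H.index = p := by
    have := H.card_mul_index
    rw [hHcard, hG] at this
    exact Nat.eq_of_mul_eq_mul_left (Nat.mul_pos hq.pos hr.pos) (by rw [this]; ring)
  have hHn : H.Normal := Subgroup.normal_of_index_eq_minFac_card (by
    rw [hidx, hG]
    refine (le_antisymm (Nat.minFac_le_of_dvd hp.two_le (dvd_mul_of_dvd_left (dvd_mul_right p q) r)) ?_).symm
    have hne : p * q * r ≠ 1 := fun h => hp.ne_one (Nat.eq_one_of_mul_eq_one_right (Nat.eq_one_of_mul_eq_one_right h))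
    have hm := Nat.minFac_prime hne
    have hd := Nat.minFac_dvd (p * q * r)
    rcases hm.dvd_mul.1 hd with h | h
    · rcases hm.dvd_mul.1 h with h | h
      · exact le_of_eq ((Nat.prime_dvd_prime_iff_eq hm hp).1 h).symm
      · rw [(Nat.prime_dvd_prime_iff_eq hm hq).1 h]; exact hpq.le
    · rw [(Nat.prime_dvd_prime_iff_eq hm hr).1 h]; exact (hpq.trans hqr).le)
  have hall : ∀ S : Sylow r G, (S : Subgroup G) ≤ H := by
    intro S
    obtain ⟨g, rfl⟩ := MulAction.exists_smul_eq G R S
    intro x hx
    have hx' : x ∈ g • R := hx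
    rw [CfsgLib.Transfer.sylow_smul_mem_iff] at hx'
    have := hHn.conj_mem _ (le_sup_right (a := (Q : Subgroup G)) hx') g
    simpa [mul_assoc, H] using this
  have hinj : Function.Injective fun S : Sylow r G => S.subtype (hall S) :=
    fun A B h => Sylow.subtype_injective h
  have hle : Nat.card (Sylow r G) ≤ Nat.card (Sylow r H) := Nat.card_le_card_of_injective _ hinj
  have hd : Nat.card (Sylow r H) ∣ q := by
    have h1 : Nat.card (Sylow r H) ∣ (R.subtype (hall R) : Subgroup H).index := Sylow.card_dvd_index _
    have h2 := (R.subtype (hall R) : Subgroup H).card_mul_index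
    rw [Sylow.coe_subtype, Nat.card_congr (Subgroup.subgroupOfEquivOfLe (hall R)).toEquiv,
      hcard (by simp) R, hHcard, mul_comm q] at h2
    rw [Sylow.coe_subtype, Nat.eq_of_mul_eq_mul_left hr.pos h2] at h1
    exact h1
  have := Nat.le_of_dvd hq.pos hd
  have : 2 * q ≤ p * q := Nat.mul_le_mul_right _ hp.two_le
  have := hq.two_le
  omega


end Cfsg.Agent.S0987
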