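import Cfsg.Statements.S0988
import Cfsg.Agent.Lib.Transfer.SimpleAbelian
import Cfsg.Agent.Lib.Char.Burnside

set_option autoImplicit false
open Cfsg

namespace Cfsg.Agent.S0988

/-- If a finite simple group has order p^2 * q * r with p, q and r prime, then its order is 60. -/
theorem result {G : Type*} [Group G] [Finite G] [IsSimpleGroup G] (p q r : ℕ) (hp : p.Prime) (hq : q.Prime) (hr : r.Prime) (hG : Nat.card G = p ^ 2 * q * r) : Nat.card G = 60 := by
  have hnab : ¬ IsMulCommutative G := CfsgLib.Transfer.not_isMulCommutative_of_not_prime (by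
    rw [hG, mul_assoc]
    refine Nat.not_prime_mul ?_ ?_
    · have := hp.two_le; nlinarith
    · exact (Nat.lt_of_lt_of_le (by norm_num : 1 < 2 * 2) (Nat.mul_le_mul hq.two_le hr.two_le)).ne')
  have hpq' : ∀ u v : ℕ, u.Prime → v.Prime → ∀ a b, Nat.card G ≠ u ^ a * v ^ b := by
    intro u v hu hv a b hc
    have hs := CfsgLib.Char.burnside_pq u v hu hv a b G hc
    exact hnab ⟨⟨fun x y => IsSimpleGroup.comm_iff_isSolvable.2 hs x y⟩⟩
  have hpq : p ≠ q := fun e => hpq' p r hp hr 3 1 (by rw [hG, ← e]; ring)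
  have hpr : p ≠ r := fun e => hpq' p q hp hq 3 1 (by rw [hG, ← e]; ring)
  have hqr : q ≠ r := fun e => hpq' p q hp hq 2 2 (by rw [hG, ← e]; ring)
  have hpd : p ∣ Nat.card G := ⟨p * q * r, by rw [hG]; ring⟩
  have hqd : q ∣ Nat.card G := ⟨p ^ 2 * r, by rw [hG]; ring⟩
  have hrd : r ∣ Nat.card G := ⟨p ^ 2 * q, by rw [hG]; ring⟩
  have hprimes : ∀ t, t.Prime → t ∣ Nat.card G → t = p ∨ t = q ∨ t = r := by
    intro t ht htd
    rw [hG] at htd
    rcases ht.dvd_mul.1 htd with h | h
    · rcases ht.dvd_mul.1 h with h | h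
      · exact Or.inl ((Nat.prime_dvd_prime_iff_eq ht hp).1 (ht.dvd_of_dvd_pow h))
      · exact Or.inr (Or.inl ((Nat.prime_dvd_prime_iff_eq ht hq).1 h))
    · exact Or.inr (Or.inr ((Nat.prime_dvd_prime_iff_eq ht hr).1 h))
  have hcardS : ∀ (s k : ℕ) [Fact s.Prime] (m : ℕ), Nat.card G = s ^ k * m → ¬ s ∣ m →
      ∀ S : Sylow s G, Nat.card (S : Subgroup G) = s ^ k := by
    intro s k _ m hc hm S
    rw [S.card_eq_multiplicity, hc, Nat.factorization_mul (pow_ne_zero _ (Fact.out : s.Prime).ne_zero)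
      (by rintro rfl; exact hm (dvd_zero s)), Finsupp.add_apply,
      Nat.Prime.factorization_pow (Fact.out : s.Prime), Finsupp.single_eq_same,
      Nat.factorization_eq_zero_of_not_dvd hm, add_zero]
  have hndvd : ∀ {a b c : ℕ}, a.Prime → b.Prime → c.Prime → a ≠ b → a ≠ c → ¬ a ∣ b * c := by
    intro a b c ha hb hc hab hac h
    rcases ha.dvd_mul.1 h with h | h
    · exact hab ((Nat.prime_dvd_prime_iff_eq ha hb).1 h)
    · exact hac ((Nat.prime_dvd_prime_iff_eq ha hc).1 h)
  -- `p = 2` and one of `q, r` is `3`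
  obtain ⟨hp2, h3⟩ : p = 2 ∧ 3 ∣ Nat.card G := by
    have single : ∀ s w : ℕ, s.Prime → (∀ t, t.Prime → t ∣ Nat.card G → s ≤ t) →
        Nat.card G = s ^ 1 * w → ¬ s ∣ w → False := by
      intro s w hs hmin hc hw
      have := Fact.mk hs
      obtain ⟨-, h, -⟩ := CfsgLib.Transfer.smallest_prime_sylow_sq hnab (k := 1)
        (hc ▸ dvd_mul_of_dvd_left (dvd_pow_self s one_ne_zero) w) default (hcardS s 1 w hc hw _)
        one_le_two hmin
      omega
    by_cases hmin : ∀ t, t.Prime → t ∣ Nat.card G → p ≤ t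
    · have := Fact.mk hp
      obtain ⟨h1, -, h2⟩ := CfsgLib.Transfer.smallest_prime_sylow_sq hnab (k := 2) hpd default
        (hcardS p 2 (q * r) (by rw [hG]; ring) (hndvd hp hq hr hpq hpr) _) le_rfl hmin
      exact ⟨h1, h2⟩
    · exfalso
      push Not at hmin
      obtain ⟨t, ht, htd, htp⟩ := hmin
      rcases Nat.lt_or_gt_of_ne hqr with hlt | hlt
      · refine single q (p ^ 2 * r) hq ?_ (by rw [hG]; ring) ?_
        · intro u hu hud
          rcases hprimes u hu hud with rfl | rfl | rfl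
          · rcases hprimes t ht htd with rfl | rfl | rfl <;> omega
          · rfl
          · omega
        · rw [sq, mul_assoc]
          intro h
          rcases hq.dvd_mul.1 h with h | h
          · exact hpq ((Nat.prime_dvd_prime_iff_eq hq hp).1 h).symm
          · exact hndvd hq hp hr hpq.symm hqr h
      · refine single r (p ^ 2 * q) hr ?_ (by rw [hG]; ring) ?_
        · intro u hu hud
          rcases hprimes u hu hud with rfl | rfl | rfl
          · rcases hprimes t ht htd with rfl | rfl | rfl <;> omega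
          · omega
          · rfl
        · rw [sq, mul_assoc]
          intro h
          rcases hr.dvd_mul.1 h with h | h
          · exact hpr ((Nat.prime_dvd_prime_iff_eq hr hp).1 h).symm
          · exact hndvd hr hp hq hpr.symm hqr.symm h
  subst hp2
  obtain ⟨u, hu, hu2, hu3, hc⟩ : ∃ u, u.Prime ∧ u ≠ 2 ∧ u ≠ 3 ∧ Nat.card G = 12 * u := by
    rcases hprimes 3 Nat.prime_three h3 with h | h | h
    · omega
    · subst h; exact ⟨r, hr, hpr.symm, hqr.symm, by rw [hG]; ring⟩
    · subst h; exact ⟨q, hq, hpq.symm, hqr, by rw [hG]; ring⟩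
  have := Fact.mk hu
  have h5 : 5 ≤ u := by
    have := hu.two_le
    have h4 : u ≠ 4 := by rintro rfl; exact absurd hu (by norm_num)
    omega
  obtain ⟨h1, hm, hd, hf⟩ := CfsgLib.Transfer.sylow_count_of_simple hnab (p := u) (hc ▸ dvd_mul_left u 12)
  obtain ⟨n, hn0⟩ : ∃ n, n = Nat.card (Sylow u G) := ⟨_, rfl⟩
  rw [← hn0] at h1 hm hd hf
  have hn12 : n ∣ 12 := by
    refine Nat.Coprime.dvd_of_dvd_mul_right (m := 12) (n := u) ?_ (hc ▸ hd)
    refine Nat.Coprime.symm (hu.coprime_iff_not_dvd.2 fun h => ?_)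
    rw [Nat.mod_eq_zero_of_dvd h] at hm
    exact absurd hm (by norm_num)
  have hnle := Nat.le_of_dvd (by norm_num) hn12
  have hu12 : u ≤ n - 1 := by
    have h6 : u ∣ n - 1 := by
      rw [← Nat.modEq_iff_dvd' (by omega)]
      rw [Nat.ModEq, Nat.one_mod_eq_one.2 hu.ne_one, hm]
    exact Nat.le_of_dvd (by omega) h6
  have hu11 : u ≤ 11 := by omega
  interval_cases u
  any_goals (exfalso; revert hu; norm_num; done)
  · exact hc
  · exfalso
    rw [hc] at hf
    revert hn12 hm hf h1
    interval_cases n <;> norm_num [Nat.factorial]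
  · -- order 132
    exfalso
    have hn : n = 12 := by
      revert hm hn12
      interval_cases n <;> norm_num
    have hS : ∀ P : Sylow 11 G, Nat.card (P : Subgroup G) = 11 := fun P =>
      (hcardS 11 1 12 (by rw [hc]; norm_num) (by norm_num) P).trans (pow_one 11)
    have := Fact.mk Nat.prime_three
    have hT : ∀ P : Sylow 3 G, Nat.card (P : Subgroup G) = 3 := fun P =>
      (hcardS 3 1 44 (by rw [hc]; norm_num) (by norm_num) P).trans (pow_one 3)
    obtain ⟨k1, km, kd, kf⟩ := CfsgLib.Transfer.sylow_count_of_simple hnab (p := 3)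
      (hc ▸ (by norm_num : (3 : ℕ) ∣ 12 * 11))
    set m := Nat.card (Sylow 3 G)
    have e1 := CfsgLib.Transfer.card_orderOf_eq_prime (p := 11) default (hS _)
    have e2 := CfsgLib.Transfer.card_orderOf_eq_prime (p := 3) default (hT _)
    have hle : Nat.card {g : G // orderOf g = 11} + Nat.card {g : G // orderOf g = 3} ≤ Nat.card G := by
      rw [← Nat.card_sum]
      refine Nat.card_le_card_of_injective
        (Sum.elim (fun g => g.1) (fun g => g.1)) ?_
      rintro (⟨a, ha⟩ | ⟨a, ha⟩) (⟨b, hb⟩ | ⟨b, hb⟩) h <;> simp only [Sum.elim_inl, Sum.elim_inr] at h <;> subst h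
      · rfl
      · omega
      · omega
      · rfl
    rw [e1, e2, hc, ← hn0, hn] at hle
    have hm6 : m ≤ 6 := by omega
    rw [hc] at kf kd
    revert k1 km kd kf
    interval_cases m <;> norm_num [Nat.factorial]


end Cfsg.Agent.S0988
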