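import Cfsg.Statements.S0995
import Cfsg.Agent.Lib.Transfer.SimpleCount

set_option autoImplicit false
open Cfsg

namespace Cfsg.Agent.S0995

/-- Let G be a finite perfect group containing an element z of prime order p whose centralizer is the cyclic group it generates. Let t be the number of conjugacy classes of elements of order p. Then t divides p - 1, the number of Sylow p-subgroups has the form 1 + n * p, and |G| * t = (p - 1) * p * (1 + n * p). -/
theorem result {G : Type*} [Group G] [Finite G] (hperf : commutator G = ⊤) (p : ℕ) [Fact p.Prime] (z : G) (hz : orderOf z = p) (hC : Subgroup.centralizer ({z} : Set G) = Subgroup.zpowers z) : ∃ n t : ℕ, t = Nat.card {c : ConjClasses G // ∃ g : G, ConjClasses.mk g = c ∧ orderOf g = p} ∧ t ∣ p - 1 ∧ Nat.card (Sylow p G) = 1 + n * p ∧ Nat.card G * t = (p - 1) * p * (1 + n * p) := by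
  classical
  have hp := (Fact.out : p.Prime)
  have hzc : Nat.card (Subgroup.zpowers z) = p := by rw [Nat.card_zpowers, hz]
  have hpg : IsPGroup p (Subgroup.zpowers z) := IsPGroup.of_card (n := 1) (by rw [hzc, pow_one])
  obtain ⟨P, hP⟩ := hpg.exists_le_sylow
  have hzP : z ∈ (P : Subgroup G) := hP (Subgroup.mem_zpowers z)
  -- `P` is generated by `z`
  have hPe : (P : Subgroup G) = Subgroup.zpowers z := by
    refine le_antisymm ?_ hP
    have : Nontrivial (P : Subgroup G) :=
      ⟨⟨⟨z, hzP⟩, 1, fun h => by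
        have h1 : z = 1 := congrArg Subtype.val h
        rw [h1, orderOf_one] at hz; exact hp.ne_one hz.symm⟩⟩
    have := P.2.center_nontrivial
    obtain ⟨⟨c, hc⟩, hc1⟩ := exists_ne (1 : Subgroup.center (P : Subgroup G))
    have hcz : (c : G) ∈ Subgroup.zpowers z := by
      rw [← hC, Subgroup.mem_centralizer_singleton_iff]
      exact (congrArg Subtype.val (Subgroup.mem_center_iff.1 hc ⟨z, hzP⟩)).symm
    have hzc' : z ∈ Subgroup.zpowers (c : G) := by
      have h1 : Subgroup.zpowers (c : G) = Subgroup.zpowers z := by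
        refine Subgroup.eq_of_le_of_card_ge (Subgroup.zpowers_le.2 hcz) ?_
        rw [hzc, Nat.card_zpowers]
        rcases (Nat.dvd_prime hp).1 ((Subgroup.orderOf_dvd_natCard _ hcz).trans hzc.dvd) with h | h
        · exact absurd (Subtype.ext (Subtype.ext (orderOf_eq_one_iff.1 h))) hc1
        · rw [h]
      rw [h1]; exact Subgroup.mem_zpowers z
    intro x hx
    rw [← hC, Subgroup.mem_centralizer_singleton_iff]
    obtain ⟨i, hi⟩ := Subgroup.mem_zpowers_iff.1 hzc'
    have h2 : Commute x (c : G) := congrArg Subtype.val (Subgroup.mem_center_iff.1 hc ⟨x, hx⟩)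
    rw [← hi]
    exact (h2.zpow_right i).eq
  have hPc : Nat.card (P : Subgroup G) = p := by rw [hPe, hzc]
  have hPab : ∀ (Q : Sylow p G) (y : G), y ∈ (Q : Subgroup G) → orderOf y = p →
      (Subgroup.centralizer ({y} : Set G)).index * p = Nat.card G := by
    intro Q y hy hyp
    obtain ⟨g, hg⟩ := MulAction.exists_smul_eq G Q P
    set w := g * y * g⁻¹ with hw
    have hwP : w ∈ Subgroup.zpowers z := by
      rw [← hPe, ← hg]
      rw [Sylow.smul_def, Sylow.pointwise_smul_def]
      exact Subgroup.smul_mem_pointwise_smul _ _ _ hy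
    have hwo : orderOf w = p := by rw [hw, ← MulAut.conj_apply, MulEquiv.orderOf_eq, hyp]
    have hwz : Subgroup.zpowers w = Subgroup.zpowers z :=
      Subgroup.eq_of_le_of_card_ge (Subgroup.zpowers_le.2 hwP) (by rw [hzc, Nat.card_zpowers, hwo])
    have hCw : Subgroup.centralizer ({w} : Set G) = Subgroup.zpowers z := by
      conv_rhs => rw [← hC, ← Subgroup.centralizer_closure, ← Subgroup.zpowers_eq_closure, ← hwz,
        Subgroup.zpowers_eq_closure, Subgroup.centralizer_closure]
    have hCy : (Subgroup.centralizer ({y} : Set G)).map (MulAut.conj g).toMonoidHom =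
        Subgroup.centralizer ({w} : Set G) := by
      ext x
      rw [Subgroup.mem_map_equiv, Subgroup.mem_centralizer_singleton_iff,
        Subgroup.mem_centralizer_singleton_iff, hw, MulAut.conj_symm_apply]
      constructor
      · intro h
        calc x * (g * y * g⁻¹) = g * ((g⁻¹ * x * g) * y) * g⁻¹ := by group
          _ = g * (y * (g⁻¹ * x * g)) * g⁻¹ := by rw [h]
          _ = g * y * g⁻¹ * x := by group
      · intro h
        calc (g⁻¹ * x * g) * y = g⁻¹ * (x * (g * y * g⁻¹)) * g := by group
          _ = g⁻¹ * (g * y * g⁻¹ * x) * g := by rw [h]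
          _ = y * (g⁻¹ * x * g) := by group
    have h1 := (Subgroup.centralizer ({y} : Set G)).index_mul_card
    rwa [← Subgroup.card_map_of_injective (f := (MulAut.conj g).toMonoidHom)
      (MulAut.conj g).injective, hCy, hCw, hzc] at h1
  have hall : ∀ y : G, orderOf y = p → ∃ Q : Sylow p G, y ∈ (Q : Subgroup G) := by
    intro y hy
    obtain ⟨Q, hQ⟩ := (IsPGroup.of_card (n := 1)
      (show Nat.card (Subgroup.zpowers y) = p ^ 1 by rw [Nat.card_zpowers, hy, pow_one])).exists_le_sylow
    exact ⟨Q, hQ (Subgroup.mem_zpowers y)⟩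
  set T := {c : ConjClasses G // ∃ g : G, ConjClasses.mk g = c ∧ orderOf g = p}
  let F : {g : G // orderOf g = p} → T := fun g => ⟨ConjClasses.mk g.1, g.1, rfl, g.2⟩
  have hfib : ∀ c : T, Nat.card {g // F g = c} * p = Nat.card G := by
    rintro ⟨_, y, rfl, hy⟩
    obtain ⟨Q, hQ⟩ := hall y hy
    rw [← hPab Q y hQ hy]
    congr 1
    have e : {g // F g = ⟨ConjClasses.mk y, y, rfl, hy⟩} ≃ (ConjClasses.mk y).carrier :=
      { toFun := fun g => ⟨g.1.1, ConjClasses.mem_carrier_iff_mk_eq.2 (congrArg Subtype.val g.2)⟩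
        invFun := fun g => ⟨⟨g.1, by
          obtain ⟨u, hu⟩ := isConj_iff.1 (ConjClasses.mk_eq_mk_iff_isConj.1
            (ConjClasses.mem_carrier_iff_mk_eq.1 g.2)).symm
          rw [← hu, ← MulAut.conj_apply, MulEquiv.orderOf_eq, hy]⟩,
          Subtype.ext (ConjClasses.mem_carrier_iff_mk_eq.1 g.2)⟩
        left_inv := fun g => rfl
        right_inv := fun g => rfl }
    rw [Nat.card_congr e, Subgroup.centralizer_eq_comap_stabilizer]
    refine Eq.trans ?_ (Subgroup.index_comap_of_surjective (f := (ConjAct.toConjAct (G := G)).toMonoidHom)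
      _ ConjAct.toConjAct.surjective).symm
    rw [MulAction.index_stabilizer, ConjAct.orbit_eq_carrier_conjClasses, Nat.card_coe_set_eq]
  have hcount := CfsgLib.Transfer.card_orderOf_eq_prime P hPc
  have : Fintype T := Fintype.ofFinite _
  have hsum : Nat.card {g : G // orderOf g = p} * p = Nat.card T * Nat.card G := by
    rw [← Nat.card_congr (Equiv.sigmaFiberEquiv F), Nat.card_sigma, Finset.sum_mul,
      Finset.sum_congr rfl (fun c _ => hfib c), Finset.sum_const, Finset.card_univ, smul_eq_mul,
      Nat.card_eq_fintype_card (α := T)]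
  obtain ⟨n, hn⟩ : ∃ n, Nat.card (Sylow p G) = 1 + n * p := by
    have h1 := card_sylow_modEq_one p G
    have h2 : 1 ≤ Nat.card (Sylow p G) := Nat.card_pos
    obtain ⟨n, hn⟩ := (Nat.modEq_iff_dvd' h2).1 h1.symm
    exact ⟨n, by rw [mul_comm n, ← hn]; omega⟩
  have hmain : Nat.card G * Nat.card T = (p - 1) * p * (1 + n * p) := by
    rw [mul_comm (Nat.card G), ← hsum, hcount, hn]; ring
  refine ⟨n, Nat.card T, rfl, ?_, hn, hmain⟩
  have hN := P.card_eq_index_normalizer
  have hG := (Subgroup.normalizer ((P : Subgroup G) : Set G)).card_mul_index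
  rw [show (Subgroup.normalizer ((P : Subgroup G) : Set G)).index = 1 + n * p from hN.symm.trans hn] at hG
  obtain ⟨d, hd⟩ : p ∣ Nat.card (Subgroup.normalizer ((P : Subgroup G) : Set G)) :=
    hPc.symm.dvd.trans (Subgroup.card_dvd_of_le Subgroup.le_normalizer)
  rw [hd] at hG
  refine Dvd.intro_left d ?_
  have h2 : p * (1 + n * p) * (d * Nat.card T) = p * (1 + n * p) * (p - 1) := by
    rw [← hG] at hmain
    linarith
  exact Nat.eq_of_mul_eq_mul_left (Nat.mul_pos hp.pos (by omega)) h2


end Cfsg.Agent.S0995
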