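import Cfsg.Statements.S0996
import Cfsg.Agent.Lib.Block.BRTheorem
import Cfsg.Agent.Lib.Block.SelfCentralPrime

set_option autoImplicit false
open Cfsg

namespace Cfsg.Agent.S0996

/-- Let G be a finite perfect group containing an element z of prime order p whose centralizer is the cyclic group it generates, and suppose the number 1 + n * p of Sylow p-subgroups satisfies n < (p + 3) / 2. Then p > 3 and G is isomorphic to the projective special linear group of dimension 2 over the field with p elements, or p - 1 is a power of 2 and G is isomorphic to that group over the field with p - 1 elements. -/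
theorem result {G : Type*} [Group G] [Finite G] (hperf : commutator G = ⊤) (p : ℕ) [Fact p.Prime] (z : G) (hz : orderOf z = p) (hC : Subgroup.centralizer ({z} : Set G) = Subgroup.zpowers z) (hn : 2 * Nat.card (Sylow p G) < (p + 1) * (p + 2)) : (∃ (F : Type) (_ : Field F) (_ : Fintype F), Fintype.card F = p ∧ 3 < p ∧ Nonempty (G ≃* Matrix.ProjectiveSpecialLinearGroup (Fin 2) F)) ∨ (∃ (m : ℕ) (F : Type) (_ : Field F) (_ : Fintype F), Fintype.card F = 2 ^ m ∧ p = 2 ^ m + 1 ∧ 3 < p ∧ Nonempty (G ≃* Matrix.ProjectiveSpecialLinearGroup (Fin 2) F)) := by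
  obtain ⟨P, hP⟩ := CfsgLib.Block.SelfCentralPrime.exists_sylow_eq hz hC
  have hPc : Nat.card P = p := by
    change Nat.card (P : Subgroup G) = p
    rw [hP, Nat.card_zpowers, hz]
  obtain ⟨n, hN⟩ : ∃ n, Nat.card (Sylow p G) = 1 + n * p := by
    obtain ⟨n, h⟩ := (Nat.modEq_iff_dvd' Nat.card_pos).1 (card_sylow_modEq_one p G).symm
    exact ⟨n, by have : 0 < Nat.card (Sylow p G) := Nat.card_pos; rw [mul_comm n p]; omega⟩
  have hb : 2 * n < p + 3 := by
    rw [hN] at hn
    nlinarith
  have hF := CfsgLib.Block.BrauerReynolds.not_formula_of_bound (Fact.out : p.Prime).one_le hb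
  have hle := (CfsgLib.Block.BrauerReynolds.main hperf P hPc hN hF
    (CfsgLib.Solvable.pPrimeCore_normal p G)).1
  rw [hP, Subgroup.zpowers_eq_closure, Subgroup.centralizer_closure, hC] at hle
  have hH : Cfsg.pPrimeCore p G = ⊥ := by
    have h1 := Subgroup.card_dvd_of_le hle
    rw [Nat.card_zpowers, hz] at h1
    exact Subgroup.card_eq_one.1 (Nat.Coprime.eq_one_of_dvd (CfsgLib.Solvable.pPrimeCore_coprime p) h1)
  exact CfsgLib.Block.BrauerReynolds.psl_form
    (CfsgLib.Block.BrauerReynolds.main_of_core_eq_bot hperf P hPc hN hF hH)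

end Cfsg.Agent.S0996
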