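import Cfsg.Statements.S0999
import Cfsg.Agent.Lib.Block.BRTheorem

set_option autoImplicit false
open Cfsg

namespace Cfsg.Agent.S0999

/-- Let G be a non-cyclic finite simple group and p a prime divisor of its order with p^3 > |G|. Then p > 3 and G is isomorphic to the projective special linear group of dimension 2 over the field with p elements, or p - 1 is a power of 2 and G is isomorphic to that group over the field with p - 1 elements. -/
theorem result {G : Type*} [Group G] [Finite G] [IsSimpleGroup G] (hG : ¬ IsCyclic G) (p : ℕ) (hp : p.Prime) (hdvd : p ∣ Nat.card G) (hbig : Nat.card G < p ^ 3) : (∃ (F : Type) (_ : Field F) (_ : Fintype F), Fintype.card F = p ∧ 3 < p ∧ Nonempty (G ≃* Matrix.ProjectiveSpecialLinearGroup (Fin 2) F)) ∨ (∃ (m : ℕ) (F : Type) (_ : Field F) (_ : Fintype F), Fintype.card F = 2 ^ m ∧ p = 2 ^ m + 1 ∧ 3 < p ∧ Nonempty (G ≃* Matrix.ProjectiveSpecialLinearGroup (Fin 2) F)) := by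
  haveI : Fact p.Prime := ⟨hp⟩
  have hperf : commutator G = ⊤ := by
    rcases (inferInstance : (commutator G).Normal).eq_bot_or_eq_top with h | h
    · exfalso
      apply hG
      let : CommGroup G := { (inferInstance : Group G) with
        mul_comm := fun a b => by
          have := ((commutator_eq_bot_iff_center_eq_top G).1 h).symm ▸ Subgroup.mem_top a
          exact (Subgroup.mem_center_iff.1 this b).symm }
      infer_instance
    · exact h
  let P : Sylow p G := default
  have hnn : ¬ (P : Subgroup G).Normal := fun hn => by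
    rcases hn.eq_bot_or_eq_top with h | h
    · have h1 := P.dvd_card_of_dvd_card hdvd
      rw [h, Subgroup.card_bot] at h1
      exact hp.not_dvd_one h1
    · have hpG : IsPGroup p G :=
        IsPGroup.of_equiv (h ▸ P.isPGroup' : IsPGroup p (⊤ : Subgroup G)) Subgroup.topEquiv
      haveI : Group.IsNilpotent G := hpG.isNilpotent
      exact (IsSolvable.commutator_lt_top_of_nontrivial G).ne hperf
  obtain ⟨hPc, n, hN, hF⟩ :=
    CfsgLib.Block.BrauerReynolds.sylow_data_of_lt_cube hperf hdvd hbig P hnn
  have hH : Cfsg.pPrimeCore p G = ⊥ := by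
    rcases (CfsgLib.Solvable.pPrimeCore_normal p G : (Cfsg.pPrimeCore p G).Normal).eq_bot_or_eq_top
      with h | h
    · exact h
    · have h1 := CfsgLib.Solvable.pPrimeCore_coprime (G := G) p
      rw [h, Subgroup.card_top] at h1
      exact absurd hdvd (hp.coprime_iff_not_dvd.1 h1.symm)
  exact CfsgLib.Block.BrauerReynolds.psl_form
    (CfsgLib.Block.BrauerReynolds.main_of_core_eq_bot hperf P hPc hN hF hH)

end Cfsg.Agent.S0999
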