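import Cfsg.Statements.S1008
import Cfsg.Agent.Lib.Transfer.Simple168Klein

set_option autoImplicit false
open Cfsg

namespace Cfsg.Agent.S1008

/-- In a simple group of order 168 every maximal subgroup is either isomorphic to the symmetric group of degree 4 or non-abelian of order 21; the maximal subgroups of order 21 form one conjugacy class and those isomorphic to the symmetric group of degree 4 form exactly two conjugacy classes. -/
theorem result {G : Type*} [Group G] [Finite G] [IsSimpleGroup G] (h : Nat.card G = 168) : (∀ M : Subgroup G, IsCoatom M → Nonempty (↥M ≃* Equiv.Perm (Fin 4)) ∨ (Nat.card ↥M = 21 ∧ ¬ IsMulCommutative ↥M)) ∧ (∀ M M' : Subgroup G, IsCoatom M → IsCoatom M' → Nat.card ↥M = 21 → Nat.card ↥M' = 21 → ∃ g : G, M' = M.map (MulAut.conj g).toMonoidHom) ∧ ∃ M₁ M₂ : Subgroup G, IsCoatom M₁ ∧ IsCoatom M₂ ∧ Nonempty (↥M₁ ≃* Equiv.Perm (Fin 4)) ∧ Nonempty (↥M₂ ≃* Equiv.Perm (Fin 4)) ∧ (∀ g : G, M₂ ≠ M₁.map (MulAut.conj g).toMonoidHom) ∧ ∀ M : Subgroup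 G, IsCoatom M → Nonempty (↥M ≃* Equiv.Perm (Fin 4)) → ∃ g : G, M = M₁.map (MulAut.conj g).toMonoidHom ∨ M = M₂.map (MulAut.conj g).toMonoidHom := by
  have : Fact (Nat.Prime 7) := ⟨by norm_num⟩
  have : Fact (Nat.Prime 2) := ⟨Nat.prime_two⟩
  obtain ⟨T⟩ := (inferInstance : Nonempty (Sylow 2 G))
  obtain ⟨U₁, U₂, h1T, h1, h2T, h2, hne, hall⟩ := CfsgLib.Transfer.exists_two_klein_168 h T
  have hmap : ∀ (g : G) (U : Subgroup G),
      (Subgroup.normalizer (U : Set G)).map (MulAut.conj g).toMonoidHom =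
        Subgroup.normalizer ((U.map (MulAut.conj g).toMonoidHom : Subgroup G) : Set G) :=
    fun g U => Subgroup.map_equiv_normalizer_eq U (MulAut.conj g)
  have hS4 : ∀ M : Subgroup G, IsCoatom M → Nonempty (↥M ≃* Equiv.Perm (Fin 4)) →
      ∃ U : Subgroup G, IsKleinFour U ∧ M = Subgroup.normalizer (U : Set G) := by
    rintro M hM ⟨e⟩
    rcases CfsgLib.Transfer.maximal_168 h hM with hU | ⟨R, rfl⟩
    · exact hU
    · have h24 : Nat.card ↥(Subgroup.normalizer ((R : Subgroup G) : Set G)) = 24 := by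
        rw [Nat.card_congr e.toEquiv, Nat.card_perm, Nat.card_fin]; rfl
      rw [((CfsgLib.Transfer.sylow7_168 h).2 R).2.1] at h24
      norm_num at h24
  refine ⟨fun M hM => ?_, ?_, Subgroup.normalizer (U₁ : Set G), Subgroup.normalizer (U₂ : Set G),
    CfsgLib.Transfer.isCoatom_normalizer_klein_168 h h1,
    CfsgLib.Transfer.isCoatom_normalizer_klein_168 h h2,
    CfsgLib.Transfer.normalizer_klein_equiv_168 h h1,
    CfsgLib.Transfer.normalizer_klein_equiv_168 h h2, fun g hg => ?_, fun M hM he => ?_⟩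
  · rcases CfsgLib.Transfer.maximal_168 h hM with ⟨U, hU, rfl⟩ | ⟨R, rfl⟩
    · exact Or.inl (CfsgLib.Transfer.normalizer_klein_equiv_168 h hU)
    · exact Or.inr ⟨((CfsgLib.Transfer.sylow7_168 h).2 R).2.1,
        CfsgLib.Transfer.normalizer_sylow7_168 h R⟩
  · intro M M' hM hM' hc hc'
    have key : ∀ N : Subgroup G, IsCoatom N → Nat.card N = 21 →
        ∃ R : Sylow 7 G, N = Subgroup.normalizer ((R : Subgroup G) : Set G) := by
      intro N hN hNc
      rcases CfsgLib.Transfer.maximal_168 h hN with ⟨U, hU, rfl⟩ | hR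
      · rw [CfsgLib.Transfer.card_normalizer_klein_168 h hU] at hNc; norm_num at hNc
      · exact hR
    obtain ⟨R, rfl⟩ := key M hM hc
    obtain ⟨R', rfl⟩ := key M' hM' hc'
    obtain ⟨g, hg⟩ := MulAction.exists_smul_eq G R R'
    refine ⟨g, ?_⟩
    rw [hmap, ← hg]
    rfl
  · rw [hmap] at hg
    exact CfsgLib.Transfer.klein_not_conj_168 h h1T h2T h1 h2 hne g
      (CfsgLib.Transfer.klein_unique_normal_168 h
        (CfsgLib.Transfer.isKleinFour_map _ (MulEquiv.injective _) h1) h2 hg.le)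
  · obtain ⟨U, hU, rfl⟩ := hS4 M hM he
    obtain ⟨R, hR⟩ := CfsgLib.Transfer.exists_sylow_ge_klein_168 hU
    obtain ⟨g, hg⟩ := MulAction.exists_smul_eq G R T
    have hUT : U.map (MulAut.conj g).toMonoidHom ≤ (T : Subgroup G) := by
      rw [← hg]
      exact Subgroup.map_mono hR
    refine ⟨g⁻¹, ?_⟩
    have hback : ∀ V : Subgroup G, U.map (MulAut.conj g).toMonoidHom = V →
        Subgroup.normalizer (U : Set G) =
          (Subgroup.normalizer (V : Set G)).map (MulAut.conj g⁻¹).toMonoidHom := by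
      intro V hV
      rw [hmap, ← hV, Subgroup.map_map]
      congr 2
      rw [show (MulAut.conj g⁻¹).toMonoidHom.comp (MulAut.conj g).toMonoidHom = MonoidHom.id G from
        MonoidHom.ext fun x => by simp [mul_assoc]]
      rw [Subgroup.map_id]
    rcases hall _ hUT (CfsgLib.Transfer.isKleinFour_map _ (MulEquiv.injective _) hU) with e | e
    · exact Or.inl (hback _ e)
    · exact Or.inr (hback _ e)


end Cfsg.Agent.S1008
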