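import Cfsg.Statements.S1014
import Cfsg.Agent.Lib.Transfer.SimpleCount

set_option autoImplicit false
open Cfsg

namespace Cfsg.Agent.S1014

/-- No finite simple group has order 1104 = 2^4 * 3 * 23. -/
theorem result {G : Type*} [Group G] [Finite G] [IsSimpleGroup G] : Nat.card G ≠ 1104 := by
  intro h
  have hG := CfsgLib.Transfer.not_isMulCommutative_of_not_prime (G := G) (by rw [h]; norm_num)
  have : Fact (Nat.Prime 23) := ⟨by norm_num⟩
  have hd : 23 ∣ Nat.card G := by rw [h]; norm_num
  obtain ⟨h1, h2, h3, -⟩ := CfsgLib.Transfer.sylow_count_of_simple hG hd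
  rw [h] at h3
  have hn : Nat.card (Sylow 23 G) = 24 := by
    have hmem := Nat.mem_divisors.2 ⟨h3, (by norm_num : (1104 : ℕ) ≠ 0)⟩
    revert h1 h2
    generalize Nat.card (Sylow 23 G) = n at hmem ⊢
    revert n
    decide +kernel
  obtain ⟨P⟩ := (inferInstance : Nonempty (Sylow 23 G))
  have hP : Nat.card (P : Subgroup G) = 23 := by
    have hi := P.not_dvd_index
    have hc := (P : Subgroup G).card_mul_index
    obtain ⟨k, hk⟩ := P.2.exists_card_eq
    rw [hk, h] at hc
    rcases k with _ | _ | k
    · omega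
    · simpa using hk
    · exfalso
      have hdd : 23 ^ 2 ∣ 1104 := hc ▸ dvd_mul_of_dvd_left (pow_dvd_pow 23 (by omega)) _
      norm_num at hdd
  have hdd := CfsgLib.Transfer.two_mul_card_normalizer_dvd hG (by norm_num) P hP hn
  have hc := (Subgroup.normalizer ((P : Subgroup G) : Set G)).card_mul_index
  have hi : (Subgroup.normalizer ((P : Subgroup G) : Set G)).index = Nat.card (Sylow 23 G) :=
    P.card_eq_index_normalizer.symm
  rw [h, hi, hn] at hc
  have : Nat.card (Subgroup.normalizer ((P : Subgroup G) : Set G)) = 46 := by omega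
  rw [this] at hdd
  norm_num at hdd


end Cfsg.Agent.S1014
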