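import Cfsg.Statements.S1015
import Cfsg.Agent.Lib.Transfer.SimpleCount

set_option autoImplicit false
open Cfsg

namespace Cfsg.Agent.S1015

/-- No finite simple group has order 1200 = 2^4 * 3 * 5^2. -/
theorem result {G : Type*} [Group G] [Finite G] [IsSimpleGroup G] : Nat.card G ≠ 1200 := by
  intro h
  have hG := CfsgLib.Transfer.not_isMulCommutative_of_not_prime (G := G) (by rw [h]; norm_num)
  have : Fact (Nat.Prime 5) := ⟨by norm_num⟩
  have hd : 5 ∣ Nat.card G := by rw [h]; norm_num
  obtain ⟨h1, h2, h3, h4⟩ := CfsgLib.Transfer.sylow_count_of_simple hG hd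
  rw [h] at h3 h4
  have hn : Nat.card (Sylow 5 G) = 16 := by
    have hmem := Nat.mem_divisors.2 ⟨h3, (by norm_num : (1200 : ℕ) ≠ 0)⟩
    have h5 : Nat.card (Sylow 5 G) ≠ 6 := fun e => by
      rw [e, Nat.factorial] at h4; revert h4; decide +kernel
    revert h1 h2 h5
    generalize Nat.card (Sylow 5 G) = n at hmem ⊢
    revert n
    decide +kernel
  obtain ⟨P, R, hPR, hle⟩ := CfsgLib.Transfer.exists_large_intersection (p := 5) (G := G) 2
    (by rw [hn]; decide)
  have hPcard : Nat.card (P : Subgroup G) = 25 := by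
    rw [P.card_eq_multiplicity, h, show (1200 : ℕ) = 5 ^ 2 * 48 by norm_num,
      Nat.factorization_mul (by norm_num) (by norm_num), Finsupp.add_apply,
      Nat.Prime.factorization_pow (by norm_num), Finsupp.single_eq_same,
      Nat.factorization_eq_zero_of_not_dvd (by norm_num : ¬ 5 ∣ 48)]
    norm_num
  set D := (P : Subgroup G) ⊓ (R : Subgroup G) with hD
  have hDne : D ≠ ⊥ := by
    intro hb
    have hi : ((R : Subgroup G).subgroupOf (P : Subgroup G)).index = 25 := by
      rw [← hPcard, show (R : Subgroup G).subgroupOf (P : Subgroup G) = ⊥ from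
        Subgroup.subgroupOf_eq_bot.2 (disjoint_iff.2 (by rw [inf_comm, ← hD, hb])),
        Subgroup.index_bot]
    rw [hi] at hle; norm_num at hle
  have hab : ∀ S : Sylow 5 G, IsMulCommutative (S : Subgroup G) := fun S =>
    IsPGroup.isMulCommutative_of_card_eq_prime_sq (p := 5)
      ((Nat.card_congr (S.equiv P).toEquiv).trans (hPcard.trans (by norm_num)))
  set N := Subgroup.normalizer (D : Set G)
  have hle' : ∀ S : Sylow 5 G, D ≤ (S : Subgroup G) → (S : Subgroup G) ≤ N := fun S hS =>
    le_trans (fun x hx => Subgroup.mem_centralizer_iff.2 fun y hy =>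
      congrArg Subtype.val ((hab S).is_comm.comm (⟨y, hS hy⟩ : (S : Subgroup G)) ⟨x, hx⟩))
      (Subgroup.centralizer_le_normalizer _)
  have hPN : (P : Subgroup G) ≤ N := hle' P inf_le_left
  have hRN : (R : Subgroup G) ≤ N := hle' R inf_le_right
  have hNtop : N ≠ ⊤ := by
    intro ht
    rcases IsSimpleGroup.eq_bot_or_eq_top_of_normal D (Subgroup.normalizer_eq_top_iff.1 ht) with h' | h'
    · exact hDne h'
    · have h1' : Nat.card G ∣ 25 := hPcard ▸ Subgroup.card_top (G := G) ▸
        Subgroup.card_dvd_of_le (h' ▸ inf_le_left)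
      rw [h] at h1'; norm_num at h1'
  have h25 : 25 ∣ Nat.card N := hPcard ▸ Subgroup.card_dvd_of_le hPN
  have hn5N : 1 < Nat.card (Sylow 5 N) := by
    rw [Finite.one_lt_card_iff_nontrivial]
    exact ⟨P.subtype hPN, R.subtype hRN, fun e => hPR (Sylow.subtype_injective e)⟩
  have hmod := card_sylow_modEq_one 5 N
  have hdvdN : Nat.card (Sylow 5 N) ∣ (P.subtype hPN : Subgroup N).index := Sylow.card_dvd_index _
  have hci : (P.subtype hPN : Subgroup N).index * 25 = Nat.card N := by
    rw [← hPcard, mul_comm, ← Nat.card_congr (Subgroup.subgroupOfEquivOfLe hPN).toEquiv]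
    exact Subgroup.card_mul_index _
  have hfac := CfsgLib.Transfer.two_mul_card_dvd_factorial hG hNtop
  have hNi := N.card_mul_index
  rw [h] at hfac hNi
  have hmem : N.index ∈ Nat.divisors 1200 :=
    Nat.mem_divisors.2 ⟨Dvd.intro_left _ hNi, by norm_num⟩
  have hk6 : 6 ≤ (P.subtype hPN : Subgroup N).index := by
    refine le_trans ?_ (Nat.le_of_dvd (Nat.pos_of_ne_zero Subgroup.FiniteIndex.index_ne_zero) hdvdN)
    have hm : Nat.card (Sylow 5 N) % 5 = 1 := hmod
    omega
  have hile : N.index ≤ 8 := by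
    by_contra hlt
    have : 9 * 150 ≤ N.index * Nat.card N :=
      Nat.mul_le_mul (by omega) (by omega)
    rw [mul_comm] at hNi
    omega
  interval_cases hi : N.index <;> (revert hfac; decide +kernel)


end Cfsg.Agent.S1015
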