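import Cfsg.Statements.S1016
import Cfsg.Agent.Lib.Transfer.PrimeSylow
import Cfsg.Agent.Lib.Transfer.Order1440

set_option autoImplicit false
open Cfsg

namespace Cfsg.Agent.S1016

/-- No finite simple group has order 1440 = 2^5 * 3^2 * 5. -/
theorem result {G : Type*} [Group G] [Finite G] [IsSimpleGroup G] : Nat.card G ≠ 1440 := by
  intro hcard
  have hp : Fact (Nat.Prime 5) := ⟨by norm_num⟩
  have hG : ¬ IsMulCommutative G :=
    CfsgLib.Transfer.not_isMulCommutative_of_not_prime (by rw [hcard]; norm_num)
  obtain ⟨P, n, e, C, hP, hn, hn1, hnmod, -, hC, hN, hpC, he, he1, hnN, -, hn6⟩ :=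
    CfsgLib.Transfer.prime_sylow_data (p := 5) hG (by rw [hcard]; norm_num)
      (by rw [hcard]; norm_num)
  rw [hcard] at hnN
  obtain ⟨c, rfl⟩ := hpC
  obtain ⟨k, rfl⟩ : ∃ k, n = 5 * k + 1 := ⟨n / 5, by omega⟩
  have h288 : (5 * k + 1) * (e * c) = 288 := by nlinarith
  have he4 : e ≤ 4 := Nat.le_of_dvd (by norm_num) he
  have hk : k = 3 ∨ k = 7 := by
    have hd : (5 * k + 1) ∣ 288 := ⟨_, h288.symm⟩
    have : k ≤ 57 := by
      have := Nat.le_of_dvd (by norm_num) hd
      omega
    interval_cases k <;> first
      | omega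
      | (norm_num at hd; done)
      | (rcases hn6 rfl with h | h
         · have h48 : e * c = 48 := by omega
           rw [show e * (5 * c) = 5 * (e * c) by ring, h48] at h
           norm_num at h
         · norm_num at h)
      | (exfalso
         have hec : e * c = 3 := by omega
         have hcd : e ∣ 3 := ⟨c, hec.symm⟩
         interval_cases e <;> revert hcd he <;> decide)
  rcases hk with rfl | rfl
  · -- 16 Sylow 5-subgroups: the Sylow 3-subgroup of the centralizer cannot act
    have hec : e * c = 18 := by omega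
    obtain ⟨he2, hc⟩ : e = 2 ∧ c = 9 := by
      interval_cases e <;> norm_num at he <;> omega
    subst he2 hc
    have : Fact (Nat.Prime 3) := ⟨Nat.prime_three⟩
    obtain ⟨K₀, hK₀⟩ := Sylow.exists_subgroup_card_pow_prime
      (G := Subgroup.centralizer ((P : Subgroup G) : Set G)) 3 (n := 2) (by rw [← hC]; norm_num)
    have hK : Nat.card (K₀.map (Subgroup.centralizer ((P : Subgroup G) : Set G)).subtype) = 3 ^ 2 := by
      rw [Subgroup.card_map_of_injective (Subgroup.subtype_injective _), hK₀]
    have h := CfsgLib.Transfer.card_dvd_factorial_orbits hG P hP _ (Subgroup.map_subtype_le K₀)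
      (by rw [hK]; norm_num)
    rw [hK, ← hn] at h
    exact absurd h (by decide)
  · -- 36 Sylow 5-subgroups
    have hec : e * c = 8 := by omega
    have hcases : (e = 2 ∧ c = 4) ∨ (e = 4 ∧ c = 2) := by
      interval_cases e <;> norm_num at he <;> omega
    rcases hcases with ⟨rfl, rfl⟩ | ⟨rfl, rfl⟩
    · obtain ⟨H, m, hH, hm1, hmp, hmd, hCH, hPH, hm⟩ :=
        CfsgLib.Transfer.exists_centralizer_two_sylow' (p := 5) (by norm_num) hG P hP
          (by rw [← hn]; decide) 2 (by rw [← hC]; norm_num) (e := 2) (by rw [hN, hC]) (by norm_num)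
      have hi := CfsgLib.Transfer.two_mul_card_dvd_factorial hG hH
      have hHc := H.index_mul_card
      rw [hcard] at hi hHc
      have hi8 : 8 ≤ H.index := by
        by_contra hlt
        have hlt' : H.index ≤ 7 := by omega
        revert hi
        generalize H.index = i at hlt'
        interval_cases i <;> decide
      obtain ⟨l, hl⟩ := hmd
      have hl1 : 1 ≤ l := Nat.pos_of_ne_zero fun h => by
        rw [h, mul_zero] at hl; exact Nat.card_pos.ne' hl
      have h1 : H.index * (m * l) = 72 := by rw [hl] at hHc; nlinarith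
      have hm9 : m ≤ 9 := by
        have := Nat.mul_le_mul_left m hl1
        nlinarith
      have hm6 : m = 6 := by interval_cases m <;> omega
      subst hm6
      have hl' : l = 1 := by
        have h2 : 8 * l ≤ 12 := by nlinarith
        omega
      subst hl'
      exact CfsgLib.Transfer.three_dvd_centralizer_of_card_120 P hP (by rw [← hC]) H
        (by rw [hl]; norm_num) hPH hCH hm.symm
    · exact CfsgLib.Transfer.false_of_36_sylow_five hG hcard P hP (by rw [← hn])
        (by rw [hN]) (by rw [← hC])


end Cfsg.Agent.S1016
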