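import Cfsg.Statements.S1017
import Cfsg.Agent.Lib.Transfer.PrimeSylow
import Cfsg.Agent.Lib.Transfer.CentralizerTwoSylow

set_option autoImplicit false
open Cfsg

namespace Cfsg.Agent.S1017

/-- No finite simple group has order 2016 = 2^5 * 3^2 * 7. -/
theorem result {G : Type*} [Group G] [Finite G] [IsSimpleGroup G] : Nat.card G ≠ 2016 := by
  intro hcard
  have hp : Fact (Nat.Prime 7) := ⟨by norm_num⟩
  have hG : ¬ IsMulCommutative G :=
    CfsgLib.Transfer.not_isMulCommutative_of_not_prime (by rw [hcard]; norm_num)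
  obtain ⟨P, n, e, C, hP, hn, hn1, hnmod, -, hC, -, hpC, he, he1, hnN, -, hn8⟩ :=
    CfsgLib.Transfer.prime_sylow_data (p := 7) hG (by rw [hcard]; norm_num)
      (by rw [hcard]; norm_num)
  rw [hcard] at hnN
  obtain ⟨c, rfl⟩ := hpC
  obtain ⟨k, rfl⟩ : ∃ k, n = 7 * k + 1 := ⟨n / 7, by omega⟩
  have h288 : (7 * k + 1) * (e * c) = 288 := by nlinarith
  have he6 : e ≤ 6 := Nat.le_of_dvd (by norm_num) he
  have hk : k = 5 := by
    have hd : (7 * k + 1) ∣ 288 := ⟨_, h288.symm⟩
    have : k ≤ 41 := by
      have := Nat.le_of_dvd (by norm_num) hd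
      omega
    interval_cases k <;> first
      | omega
      | (norm_num at hd; done)
      | (rcases hn8 rfl with h | h
         · have h36 : e * c = 36 := by omega
           rw [show e * (7 * c) = 7 * (e * c) by ring, h36] at h
           norm_num at h
         · norm_num at h)
      | (exfalso
         have h1 : e * c = 1 := by omega
         have := Nat.eq_one_of_mul_eq_one_right h1
         omega)
  subst hk
  have hec : e * c = 8 := by omega
  obtain ⟨he2, hc⟩ : e = 2 ∧ c = 4 := by
    interval_cases e <;> norm_num at he <;> omega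
  subst he2 hc
  have h6 : Nat.card (Sylow 7 G) = 36 := by rw [← hn]
  obtain ⟨H, m, hH, hm1, hmp, hmd⟩ := CfsgLib.Transfer.exists_centralizer_two_sylow (p := 7)
    (by norm_num) hG P hP (by rw [h6]; decide) 2 (by rw [← hC]; norm_num) (by norm_num)
  have hi := CfsgLib.Transfer.two_mul_card_dvd_factorial hG hH
  have hHc := H.index_mul_card
  rw [hcard] at hi hHc
  have hi9 : 8 ≤ H.index := by
    by_contra hlt
    have hlt' : H.index ≤ 7 := by omega
    revert hi
    generalize H.index = i at hlt'
    interval_cases i <;> decide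
  obtain ⟨l, hl⟩ := hmd
  have hl1 : 1 ≤ l := Nat.pos_of_ne_zero fun h => by
    rw [h, mul_zero] at hl; exact Nat.card_pos.ne' hl
  have hm8 : m = 8 ∧ H.index = 9 := by
    rw [hl] at hHc
    have h1 : H.index * (m * l) = 72 := by nlinarith
    have hml : m * 1 ≤ m * l := Nat.mul_le_mul_left _ hl1
    have : 8 * m ≤ 72 := by nlinarith
    have : m = 8 := by omega
    subst this
    refine ⟨rfl, ?_⟩
    have : H.index ≤ 9 := by nlinarith
    generalize H.index = i at this h1 hi9 ⊢
    interval_cases i <;> omega
  obtain ⟨x, hx⟩ := exists_prime_orderOf_dvd_card' (G := (P : Subgroup G)) 7 (by rw [hP])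
  have hxo : orderOf (x : G) = 7 := by rw [Subgroup.orderOf_coe, hx]
  have hd := CfsgLib.Transfer.card_centralizer_dvd_of_small_index hG hH (p := 7) (x := (x : G))
    (by omega) hxo
  have hle := Subgroup.card_dvd_of_le (show Subgroup.centralizer ((P : Subgroup G) : Set G) ≤
    Subgroup.centralizer ({(x : G)} : Set G) from Subgroup.centralizer_le (by simp))
  have := hle.trans hd
  rw [← hC, hm8.2] at this
  exact absurd this (by decide)


end Cfsg.Agent.S1017
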