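import Cfsg.Statements.S1018
import Cfsg.Agent.Lib.Transfer.SimpleCount

set_option autoImplicit false
open Cfsg

namespace Cfsg.Agent.S1018

/-- Let P be a Sylow p-subgroup of order p of a finite group G, and consider the action of G on the left cosets of the normalizer N of P. Then every element of order p fixes exactly one coset, and an element of N that does not centralize P fixes at most as many cosets as there are orbits of P. -/
theorem result {G : Type*} [Group G] [Finite G] (p : ℕ) [Fact p.Prime] (P : Sylow p G) (hP : Nat.card ↥(P : Subgroup G) = p) : (∀ y : G, orderOf y = p → Nat.card (MulAction.fixedBy (G ⧸ Subgroup.normalizer ((P : Subgroup G) : Set G)) y) = 1) ∧ ∀ x : G, x ∈ Subgroup.normalizer ((P : Subgroup G) : Set G) → x ∉ Subgroup.centralizer ((P : Subgroup G) : Set G) → Nat.card (MulAction.fixedBy (G ⧸ Subgroup.normalizer ((P : Subgroup G) : Set G)) x) ≤ Nat.card (MulAction.orbitRel.Quotient ↥(P : Subgroup G) (G ⧸ Subgroup.normalizer ((P : Subgroup G) : Set G))) := by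
  classical
  have hp := (Fact.out : p.Prime)
  have gen : ∀ u ∈ (P : Subgroup G), u ≠ 1 → Subgroup.zpowers u = (P : Subgroup G) := by
    intro u hu hu1
    refine Subgroup.eq_of_le_of_card_ge (Subgroup.zpowers_le.2 hu) ?_
    rw [Nat.card_zpowers, hP]
    rcases (Nat.dvd_prime hp).1 ((Subgroup.orderOf_dvd_natCard _ hu).trans hP.dvd) with h | h
    · exact absurd (orderOf_eq_one_iff.1 h) hu1
    · rw [h]
  have inN : ∀ v ∈ Subgroup.normalizer ((P : Subgroup G) : Set G), orderOf v = p →
      v ∈ (P : Subgroup G) := by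
    intro v hv hvp
    have h1 := (IsPGroup.of_card (n := 1)
      (show Nat.card (Subgroup.zpowers v) = p ^ 1 by rw [Nat.card_zpowers, hvp, pow_one])).inf_normalizer_sylow P
    exact (Subgroup.mem_inf.1 (h1 ▸ Subgroup.mem_inf.2 ⟨Subgroup.mem_zpowers v, hv⟩ :
      v ∈ Subgroup.zpowers v ⊓ (P : Subgroup G))).2
  -- an element of order `p` in a conjugate of `P` fixes only the matching coset
  have uniq : ∀ (u g : G), u ∈ (P : Subgroup G) → u ≠ 1 →
      u • (g : G ⧸ Subgroup.normalizer ((P : Subgroup G) : Set G)) = g →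
      (g : G ⧸ Subgroup.normalizer ((P : Subgroup G) : Set G)) = ((1 : G) : _) := by
    intro u g hu hu1 hfix
    rw [MulAction.Quotient.smul_coe, QuotientGroup.eq] at hfix
    have h1 : g⁻¹ * u * g ∈ Subgroup.normalizer ((P : Subgroup G) : Set G) := by
      have := inv_mem hfix
      rwa [smul_eq_mul, mul_inv_rev, inv_inv, ← mul_assoc] at this
    have hup : orderOf u = p := by
      rw [← Nat.card_zpowers, gen u hu hu1, hP]
    have h2 : g⁻¹ * u * g ∈ (P : Subgroup G) := by
      refine inN _ h1 ?_
      have h3 := MulEquiv.orderOf_eq (MulAut.conj g⁻¹) u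
      rw [MulAut.conj_apply, inv_inv] at h3
      rw [h3, hup]
    have h4 : g⁻¹ ∈ Subgroup.normalizer ((P : Subgroup G) : Set G) := by
      refine Subgroup.mem_normalizer_iff_map_conj_eq.2 ?_
      refine Subgroup.eq_of_le_of_card_ge ?_ ?_
      · conv_lhs => rw [← gen u hu hu1]
        rw [MonoidHom.map_zpowers, Subgroup.zpowers_le]
        simpa [MulAut.conj_apply] using h2
      · exact (Subgroup.card_map_of_injective (MulEquiv.injective _)).ge
    rw [QuotientGroup.eq]
    simpa using h4
  constructor
  · intro y hy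
    obtain ⟨Q, hQ⟩ := (IsPGroup.of_card (n := 1)
      (show Nat.card (Subgroup.zpowers y) = p ^ 1 by rw [Nat.card_zpowers, hy, pow_one])).exists_le_sylow
    obtain ⟨g, hg⟩ := MulAction.exists_smul_eq G Q P
    have hu : g * y * g⁻¹ ∈ (P : Subgroup G) := by
      rw [← hg, Sylow.smul_def, Sylow.pointwise_smul_def]
      exact Subgroup.smul_mem_pointwise_smul _ _ _ (hQ (Subgroup.mem_zpowers y))
    have hu1 : g * y * g⁻¹ ≠ 1 := by
      intro h
      rw [conj_eq_one_iff] at h
      rw [h, orderOf_one] at hy; exact hp.ne_one hy.symm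
    rw [Nat.card_eq_one_iff_unique]
    refine ⟨⟨fun a b => ?_⟩, ⟨⟨(g⁻¹ : G), ?_⟩⟩⟩
    · have key : ∀ q : G ⧸ Subgroup.normalizer ((P : Subgroup G) : Set G), y • q = q →
          q = ((g⁻¹ : G) : _) := by
        intro q
        induction q using QuotientGroup.induction_on with | H k => ?_
        intro hk
        have h1 := uniq (g * y * g⁻¹) (g * k) hu hu1 (by
          rw [MulAction.Quotient.smul_coe, QuotientGroup.eq] at hk ⊢
          simpa [mul_assoc] using hk)
        rw [QuotientGroup.eq] at h1 ⊢
        simpa [mul_assoc] using h1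
      exact Subtype.ext ((key _ a.2).trans (key _ b.2).symm)
    · show y • ((g⁻¹ : G) : G ⧸ Subgroup.normalizer ((P : Subgroup G) : Set G)) = _
      rw [MulAction.Quotient.smul_coe, QuotientGroup.eq]
      have h2 := inv_mem (Subgroup.le_normalizer hu)
      simpa [mul_assoc] using h2
  · intro x hxN hxC
    refine Nat.card_le_card_of_injective
      (fun q => (Quotient.mk'' q.1 : MulAction.orbitRel.Quotient (P : Subgroup G) _)) ?_
    rintro ⟨q, hq⟩ ⟨q', hq'⟩ h
    obtain ⟨⟨u, hu⟩, hu'⟩ := Quotient.eq''.1 h.symm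
    change u • q = q' at hu'
    apply Subtype.ext
    show q = q'
    induction q using QuotientGroup.induction_on with | H k => ?_
    change x • _ = _ at hq hq'
    set N := Subgroup.normalizer ((P : Subgroup G) : Set G)
    have hxu : x * u * x⁻¹ ∈ (P : Subgroup G) := (Subgroup.mem_normalizer_iff.1 hxN u).1 hu
    have hw : (u⁻¹ * (x * u * x⁻¹)) • (k : G ⧸ N) = k := by
      have hxi : x⁻¹ • (k : G ⧸ N) = k := inv_smul_eq_iff.2 hq.symm
      rw [mul_smul, mul_smul, mul_smul, hxi, hu', hq', ← hu', inv_smul_smul]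
    by_cases hw1 : u⁻¹ * (x * u * x⁻¹) = 1
    · by_cases hu1 : u = 1
      · rw [← hu', hu1, one_smul]
      refine absurd ?_ hxC
      rw [← gen u hu hu1, Subgroup.zpowers_eq_closure, Subgroup.centralizer_closure,
        Subgroup.mem_centralizer_singleton_iff]
      exact mul_inv_eq_iff_eq_mul.1 (inv_mul_eq_one.1 hw1).symm
    · have h1 : (k : G ⧸ N) = ((1 : G) : _) := uniq _ k (mul_mem (inv_mem hu) hxu) hw1 hw
      rw [← hu', h1, MulAction.Quotient.smul_coe, QuotientGroup.eq]
      simpa [N] using Subgroup.le_normalizer hu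


end Cfsg.Agent.S1018
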