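import Cfsg.Statements.S1019
import Cfsg.Agent.Lib.Transfer.SimpleCount

set_option autoImplicit false
open Cfsg

namespace Cfsg.Agent.S1019

/-- Let H be a subgroup of a finite group G and x an element of H. In the action of G on the left cosets of H, the number of cosets fixed by x, multiplied by the size of the conjugacy class of x, equals the index of H multiplied by the number of conjugates of x that lie in H. -/
theorem result {G : Type*} [Group G] [Finite G] (H : Subgroup G) (x : G) (hx : x ∈ H) : Nat.card (MulAction.fixedBy (G ⧸ H) x) * Nat.card {g : G // IsConj x g} = H.index * Nat.card {g : G // IsConj x g ∧ g ∈ H} := by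
  classical
  let S := {ab : {g : G // IsConj x g} × (G ⧸ H) // (ab.1 : G) • ab.2 = ab.2}
  have key1 : Nat.card S = Nat.card (MulAction.fixedBy (G ⧸ H) x) * Nat.card {g : G // IsConj x g} := by
    have e : S ≃ Σ a : {g : G // IsConj x g}, MulAction.fixedBy (G ⧸ H) (a : G) :=
      Equiv.subtypeProdEquivSigmaSubtype (fun (a : {g : G // IsConj x g}) (b : G ⧸ H) => (a : G) • b = b)
    let _ : Fintype {g : G // IsConj x g} := Fintype.ofFinite _
    have hfix : ∀ a : {g : G // IsConj x g},
        Nat.card (MulAction.fixedBy (G ⧸ H) (a : G)) = Nat.card (MulAction.fixedBy (G ⧸ H) x) := by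
      rintro ⟨a, ha⟩
      obtain ⟨c, rfl⟩ := isConj_iff.1 ha
      refine Nat.card_congr (Equiv.subtypeEquiv (MulAction.toPerm c⁻¹) fun q => ?_)
      change (c * x * c⁻¹) • q = q ↔ x • c⁻¹ • q = c⁻¹ • q
      rw [mul_smul, mul_smul, smul_eq_iff_eq_inv_smul]
    rw [Nat.card_congr e, Nat.card_sigma, Finset.sum_congr rfl fun a _ => hfix a, Finset.sum_const,
      Finset.card_univ, ← Nat.card_eq_fintype_card, smul_eq_mul, mul_comm]
  have key2 : Nat.card S = H.index * Nat.card {g : G // IsConj x g ∧ g ∈ H} := by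
    let e1 : S ≃ Σ b : G ⧸ H, {a : {g : G // IsConj x g} // (a : G) • b = b} :=
      ((Equiv.prodComm _ _).subtypeEquiv fun ab => Iff.rfl).trans
        (Equiv.subtypeProdEquivSigmaSubtype (fun (b : G ⧸ H) (a : {g : G // IsConj x g}) => (a : G) • b = b))
    let _ : Fintype (G ⧸ H) := Fintype.ofFinite _
    have hcl : ∀ a c : G, IsConj x a → IsConj x (c * a * c⁻¹) := fun a c ha =>
      ha.trans (isConj_iff.2 ⟨c, rfl⟩)
    have hfib : ∀ b : G ⧸ H, Nat.card {a : {g : G // IsConj x g} // (a : G) • b = b} =
        Nat.card {g : G // IsConj x g ∧ g ∈ H} := by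
      intro b
      obtain ⟨c, rfl⟩ := QuotientGroup.mk_surjective b
      have hiff : ∀ a : G, a • (c : G ⧸ H) = c ↔ c⁻¹ * a * c ∈ H := by
        intro a
        rw [eq_comm, MulAction.Quotient.smul_mk, QuotientGroup.eq, smul_eq_mul, mul_assoc]
      exact Nat.card_congr
        { toFun := fun a => ⟨c⁻¹ * (a.1 : G) * c,
            by simpa using hcl _ c⁻¹ a.1.2, (hiff _).1 a.2⟩
          invFun := fun g => ⟨⟨c * (g : G) * c⁻¹, hcl _ c g.2.1⟩, (hiff _).2 (by simpa [mul_assoc] using g.2.2)⟩
          left_inv := fun a => Subtype.ext (Subtype.ext (by simp [mul_assoc]))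
          right_inv := fun g => Subtype.ext (by simp [mul_assoc]) }
    rw [Nat.card_congr e1, Nat.card_sigma, Finset.sum_congr rfl fun b _ => hfib b, Finset.sum_const,
      Finset.card_univ, ← Nat.card_eq_fintype_card, smul_eq_mul, ← Subgroup.index_eq_card]
  rw [← key1, key2]


end Cfsg.Agent.S1019
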