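import Cfsg.Statements.S1022
import Cfsg.Agent.Lib.ClassK.RowSieve
import Cfsg.Agent.Lib.Transfer.CentralizerTwoSylow

set_option autoImplicit false
open Cfsg

namespace Cfsg.Agent.S1022

/-- No finite simple group has order 459648 = 2^7 * 3^3 * 7 * 19. -/
theorem result {G : Type*} [Group G] [Finite G] [IsSimpleGroup G] : Nat.card G ≠ 459648 := by
  intro hcard
  have : Fact (Nat.Prime 19) := ⟨by norm_num⟩
  have : Fact (Nat.Prime 7) := ⟨by norm_num⟩
  have hG : ¬ IsMulCommutative G :=
    CfsgLib.Transfer.not_isMulCommutative_of_not_prime (by rw [hcard]; norm_num)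
  refine CfsgLib.ClassK.RowSieve.exists_common_degree (p := 19) (q := 7) (B := 678) hG hcard
    (by norm_num) (by norm_num) (by norm_num) (by norm_num) (by norm_num) (fun g h19 h7 => ?_)
    (fun d => decide (d ∈ [56, 96, 189, 108])) (by decide +kernel) (by decide +kernel)
  -- an element of order divisible by 7 and 19
  refine CfsgLib.ClassK.RowSieve.false_of_rowPossible' (p := 19) (B := 678) hG hcard
    (by norm_num) (by norm_num) (by norm_num)
    (fun np e => decide (459648 % (np * e * 19 * 7) = 0)) (fun P => ?_) (fun _ => true)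
    (fun _ _ => rfl) (by decide +kernel)
  set x := g ^ (orderOf g / 19)
  set y := g ^ (orderOf g / 7)
  have hx : orderOf x = 19 := orderOf_pow_orderOf_div (orderOf_pos g).ne' h19
  have hy : orderOf y = 7 := orderOf_pow_orderOf_div (orderOf_pos g).ne' h7
  obtain ⟨Q, hQ⟩ := (IsPGroup.of_card (n := 1) (G := Subgroup.zpowers x)
    (by rw [Nat.card_zpowers, hx, pow_one]) : IsPGroup 19 (Subgroup.zpowers x)).exists_le_sylow
  have hQc : Nat.card (Q : Subgroup G) = 19 :=
    CfsgLib.Transfer.card_sylow_eq_prime Q (by rw [hcard]; norm_num) (by rw [hcard]; norm_num)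
  have hQx : (Q : Subgroup G) = Subgroup.zpowers x := (Subgroup.eq_of_le_of_card_ge hQ
    (by rw [hQc, Nat.card_zpowers, hx])).symm
  have hyC : y ∈ Subgroup.centralizer ((Q : Subgroup G) : Set G) := by
    rw [hQx, Subgroup.zpowers_eq_closure, Subgroup.centralizer_closure,
      Subgroup.mem_centralizer_singleton_iff]
    exact ((Commute.refl g).pow_pow _ _).eq
  have h7C : 7 ∣ Nat.card (Subgroup.centralizer ((Q : Subgroup G) : Set G)) :=
    hy ▸ Subgroup.orderOf_dvd_natCard _ hyC
  have h19C : 19 ∣ Nat.card (Subgroup.centralizer ((Q : Subgroup G) : Set G)) := by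
    have hxC : x ∈ Subgroup.centralizer ((Q : Subgroup G) : Set G) := by
      rw [hQx, Subgroup.zpowers_eq_closure, Subgroup.centralizer_closure,
        Subgroup.mem_centralizer_singleton_iff]
    have h := Subgroup.orderOf_dvd_natCard _ hxC
    rwa [hx] at h
  obtain ⟨c, hc⟩ : 19 * 7 ∣ Nat.card (Subgroup.centralizer ((P : Subgroup G) : Set G)) := by
    rw [← CfsgLib.Transfer.card_centralizer_sylow P Q]
    exact Nat.Coprime.mul_dvd_of_dvd_of_dvd (by norm_num) h19C h7C
  refine decide_eq_true (Nat.mod_eq_zero_of_dvd ⟨c, ?_⟩)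
  rw [← hcard, ← CfsgLib.ClassK.RowSieve.card_config P, hc]
  ring


end Cfsg.Agent.S1022
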