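import Cfsg.Statements.S1026
import Cfsg.Agent.Lib.Chev.CommGood
import Cfsg.Agent.Lib.Chev.Borel
-- import your own Cfsg.Agent.* helpers here

set_option autoImplicit false
open Cfsg

namespace Cfsg.Agent.S1026

/-- Every element of `U` has a unique expression `∏_{r ∈ Φ⁺} x_r(t_r)`, the product over the positive roots in increasing index order (the coefficient family `t`, supported on the positive roots, exists and is unique); and conversely every such ordered product is the matrix of an element of `U`. -/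
theorem result {F : Type*} [Field F] (D : Cfsg.Lie.ChevalleyDatum) (hD : D ∈ [Cfsg.Lie.chevG2, Cfsg.Lie.chevB2, Cfsg.Lie.chevD4, Cfsg.Lie.chevF4, Cfsg.Lie.chevE6, Cfsg.Lie.chevE7, Cfsg.Lie.chevE8]) :
    (∀ g : GL D.Idx F, g ∈ D.posUnipotent F →
      ∃! t : ℕ → F, (∀ r, ¬ D.IsPosRoot r → t r = 0) ∧
        (g : Matrix D.Idx D.Idx F) = D.wordMat F (D.posRoots.map fun r => (r, t r))) ∧
    (∀ t : ℕ → F, ∃ g : GL D.Idx F, g ∈ D.posUnipotent F ∧
      (g : Matrix D.Idx D.Idx F) = D.wordMat F (D.posRoots.map fun r => (r, t r))) := by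
  have g := CfsgLib.Chev.good_of_mem hD
  have hc := CfsgLib.Chev.hasComm_of_mem hD
  constructor
  · intro u hu
    obtain ⟨t, ht⟩ := g.exists_xProd hc le_rfl (m := CfsgLib.Chev.half D) (x := u)
      (by rwa [← g.posUnipotent_eq])
    classical
    let t' : ℕ → F := fun r => if D.IsPosRoot r then t r else 0
    have hpos : ∀ r, CfsgLib.Chev.half D ≤ r → r < D.nroots → t' r = t r := fun r h1 h2 => by
      simp [t', (g.isPosRoot_iff r).2 ⟨h1, h2⟩]
    have ht' : g.xProd t' (CfsgLib.Chev.half D) = u := by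
      rw [ht]
      unfold CfsgLib.Chev.Good.xProd
      refine congrArg List.prod (List.map_congr_left fun r hr => ?_)
      rw [List.mem_range'_1] at hr
      rw [hpos r hr.1 (by omega)]
    refine ⟨t', ⟨fun r hr => by simp [t', hr], ?_⟩, ?_⟩
    · rw [← g.coe_xProd_pos, ht']
    · rintro s ⟨hs0, hs⟩
      funext r
      by_cases hr : D.IsPosRoot r
      · have h := (g.isPosRoot_iff r).1 hr
        exact g.xProd_inj le_rfl (Units.ext (by rw [g.coe_xProd_pos, ← hs, ← ht'])) h.1 h.2
      · rw [hs0 r hr]; simp [t', hr]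
  · intro t
    refine ⟨g.xProd t (CfsgLib.Chev.half D), ?_, g.coe_xProd_pos t⟩
    rw [g.posUnipotent_eq]; exact g.xProd_mem _ _

end Cfsg.Agent.S1026
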