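import Cfsg.Statements.S1030
import Cfsg.Agent.Lib.Chev.SL2Hom

set_option autoImplicit false
open Cfsg

namespace Cfsg.Agent.S1030

/-- There is a homomorphism `SL₂(F) → GL` with image `⟨X_r, X_{-r}⟩` sending `[[1,t],[0,1]]` to `x_r(t)` and `[[1,0],[t,1]]` to `x_{-r}(t)`. -/
theorem result {F : Type*} [Field F] (D : Cfsg.Lie.ChevalleyDatum) (hD : D ∈ [Cfsg.Lie.chevG2, Cfsg.Lie.chevB2, Cfsg.Lie.chevD4, Cfsg.Lie.chevF4, Cfsg.Lie.chevE6, Cfsg.Lie.chevE7, Cfsg.Lie.chevE8]) (r : ℕ) (hr : r < D.nroots) :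
    ∃ φ : Matrix.SpecialLinearGroup (Fin 2) F →* GL D.Idx F,
      φ.range = D.rootSubgroup F r ⊔ D.rootSubgroup F (D.neg r) ∧
      ∀ (g : Matrix.SpecialLinearGroup (Fin 2) F) (t : F),
        ((g : Matrix (Fin 2) (Fin 2) F) = !![1, t; 0, 1] → ((φ g : GL D.Idx F) : Matrix D.Idx D.Idx F) = D.x F r t) ∧
        ((g : Matrix (Fin 2) (Fin 2) F) = !![1, 0; t, 1] → ((φ g : GL D.Idx F) : Matrix D.Idx D.Idx F) = D.x F (D.neg r) t) := by
  obtain g := CfsgLib.Chev.good_of_mem hD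
  obtain ⟨φ, hU, hL, -⟩ := g.exists_rootHom (F := F) hr
  refine ⟨φ, le_antisymm ?_ (sup_le ?_ ?_), fun A t => ⟨fun h => ?_, fun h => ?_⟩⟩
  · rw [MonoidHom.range_eq_map, ← CfsgLib.Chev.closure_slU_slL F, MonoidHom.map_closure,
      Subgroup.closure_le]
    rintro x ⟨y, ⟨t, rfl⟩ | ⟨t, rfl⟩, rfl⟩
    · rw [hU]; exact Subgroup.mem_sup_left (g.xG_mem_rootSubgroup r t)
    · rw [hL]; exact Subgroup.mem_sup_right (g.xG_mem_rootSubgroup _ t)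
  · intro x hx
    obtain ⟨t, rfl⟩ := g.mem_rootSubgroup.1 hx
    exact ⟨_, hU t⟩
  · intro x hx
    obtain ⟨t, rfl⟩ := g.mem_rootSubgroup.1 hx
    exact ⟨_, hL t⟩
  · obtain rfl : A = CfsgLib.Chev.slU t := Subtype.ext h
    rw [hU]
    rfl
  · obtain rfl : A = CfsgLib.Chev.slL t := Subtype.ext h
    rw [hL]
    rfl

end Cfsg.Agent.S1030
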