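import Cfsg.Statements.S1034
import Cfsg.Agent.Lib.Chev.Good
import Cfsg.Agent.Lib.Chev.TorusH
-- import your own Cfsg.Agent.* helpers here

set_option autoImplicit false
open Cfsg

namespace Cfsg.Agent.S1034

/-- Every element of `H` is a product `h_{p_1}(c_1) ⋯ h_{p_l}(c_l)` over the fundamental roots, with non-zero `c_i`. -/
theorem result {F : Type*} [Field F] (D : Cfsg.Lie.ChevalleyDatum) (hD : D ∈ [Cfsg.Lie.chevG2, Cfsg.Lie.chevB2, Cfsg.Lie.chevD4, Cfsg.Lie.chevF4, Cfsg.Lie.chevE6, Cfsg.Lie.chevE7, Cfsg.Lie.chevE8]) (g : GL D.Idx F) (hg : g ∈ D.diagonalSubgroup F) :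
    ∃ c : ℕ → F, (∀ i < D.rank, c i ≠ 0) ∧
      (g : Matrix D.Idx D.Idx F) = D.wordMat F ((List.range D.rank).flatMap fun i => D.hWord (D.simple i) (c i)) := by
  have gd := CfsgLib.Chev.good_of_mem hD
  rw [gd.diagonal_eq_range] at hg
  obtain ⟨c, rfl⟩ := hg
  refine ⟨fun i => if h : i < D.rank then ((c ⟨i, h⟩ : Fˣ) : F) else 1,
    fun i hi => by simp [hi], ?_⟩
  have e : CfsgLib.Chev.torHom D F c =
      ((List.finRange D.rank).map fun i : Fin D.rank => gd.hG (D.simple i) (c i)).prod := by
    have hc : c = ((List.finRange D.rank).map fun i => Pi.mulSingle i (c i)).prod := by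
      rw [← List.prod_toFinset _ (List.nodup_finRange _), List.toFinset_finRange,
        Finset.univ_prod_mulSingle]
    conv_lhs => rw [hc]
    rw [map_list_prod, List.map_map]
    refine congrArg List.prod (List.map_congr_left fun i _ => ?_)
    exact gd.torHom_single i (c i)
  rw [e, show ∀ l : List (GL D.Idx F), ((l.prod : GL D.Idx F) : Matrix D.Idx D.Idx F) =
    (l.map fun x : GL D.Idx F => (x : Matrix D.Idx D.Idx F)).prod from fun l =>
    map_list_prod (Units.coeHom (Matrix D.Idx D.Idx F)) l]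
  rw [Cfsg.Lie.ChevalleyDatum.wordMat, List.map_flatMap, List.flatMap_def, List.prod_flatten,
    ← List.map_coe_finRange_eq_range, List.map_map, List.map_map, List.map_map]
  refine congrArg List.prod (List.map_congr_left fun i _ => ?_)
  simp only [Function.comp_apply, gd.coe_hG (gd.simple_lt i.2), i.2, dif_pos]
  rfl

end Cfsg.Agent.S1034
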