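import Cfsg.Statements.S1039
import Cfsg.Agent.Lib.Chev.Monomial
import Cfsg.Agent.Lib.Chev.WeylMatch
-- import your own Cfsg.Agent.* helpers here

set_option autoImplicit false
open Cfsg

namespace Cfsg.Agent.S1039

/-- `N/H ≅ W`: there is a surjective homomorphism from `N` onto the Coxeter group of the type (Mathlib's Coxeter matrix G₂, B₂, F₄, E₆, E₇, E₈, nodes numbered as the fundamental roots) with kernel `H`, mapping each `n_{p_i}` to the `i`-th simple reflection. -/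
theorem result {F : Type*} [Field F]
    (p : Cfsg.Lie.ChevalleyDatum × (Σ n : ℕ, CoxeterMatrix (Fin n)))
    (hp : p ∈ [(Cfsg.Lie.chevG2, ⟨2, CoxeterMatrix.G₂⟩), (Cfsg.Lie.chevB2, ⟨2, CoxeterMatrix.B 2⟩), (Cfsg.Lie.chevD4, ⟨4, Cfsg.Lie.coxeterD4⟩), (Cfsg.Lie.chevF4, ⟨4, CoxeterMatrix.F₄⟩),
      (Cfsg.Lie.chevE6, ⟨6, CoxeterMatrix.E₆⟩), (Cfsg.Lie.chevE7, ⟨7, CoxeterMatrix.E₇⟩), (Cfsg.Lie.chevE8, ⟨8, CoxeterMatrix.E₈⟩)]) :
    ∃ φ : ↥(p.1.monomialSubgroup F) →* p.2.2.Group, Function.Surjective φ ∧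
      φ.ker = (p.1.diagonalSubgroup F).subgroupOf (p.1.monomialSubgroup F) ∧
      ∀ (i : Fin p.2.1) (g : ↥(p.1.monomialSubgroup F)),
        ((g : GL p.1.Idx F) : Matrix p.1.Idx p.1.Idx F) = p.1.nMat F (p.1.simple i) 1 → φ g = p.2.2.simple i := by
  have key : ∀ (D : Cfsg.Lie.ChevalleyDatum) (g : CfsgLib.Chev.Good D)
      (M : CoxeterMatrix (Fin D.rank)),
      (∃ e : ↥g.weyl ≃* M.Group, ∀ i, e (g.wS i) = M.simple i) →
      ∃ φ : ↥(D.monomialSubgroup F) →* M.Group, Function.Surjective φ ∧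
        φ.ker = (D.diagonalSubgroup F).subgroupOf (D.monomialSubgroup F) ∧
        ∀ (i : Fin D.rank) (x : ↥(D.monomialSubgroup F)),
          ((x : GL D.Idx F) : Matrix D.Idx D.Idx F) = D.nMat F (D.simple i) 1 →
            φ x = M.simple i := by
    intro D g M he
    obtain ⟨e, he⟩ := he
    refine ⟨e.toMonoidHom.comp g.rootAct, e.surjective.comp g.rootAct_surjective, ?_,
      fun i x hx => ?_⟩
    · rw [← g.rootAct_ker]
      exact MonoidHom.ker_mulEquiv_comp _ e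
    · have hx' : (x : GL D.Idx F) = g.nI i :=
        Units.ext (by rw [hx, CfsgLib.Chev.Good.nI, g.coe_nG]; simp)
      have h1 : g.rootAct x = g.wS i := Subtype.ext (g.rootAct_eq (hx' ▸ g.acts_nI i))
      show e (g.rootAct x) = _
      rw [h1, he]
  simp only [List.mem_cons, List.not_mem_nil, or_false] at hp
  rcases hp with rfl | rfl | rfl | rfl | rfl | rfl | rfl
  · exact key Cfsg.Lie.chevG2 CfsgLib.Chev.goodG2 _ (CfsgLib.Chev.weylIsoG2 CfsgLib.Chev.goodG2)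
  · exact key Cfsg.Lie.chevB2 CfsgLib.Chev.goodB2 _ (CfsgLib.Chev.weylIsoB2 CfsgLib.Chev.goodB2)
  · exact key Cfsg.Lie.chevD4 CfsgLib.Chev.goodD4 _ (CfsgLib.Chev.weylIsoD4 CfsgLib.Chev.goodD4)
  · exact key Cfsg.Lie.chevF4 CfsgLib.Chev.goodF4 _ (CfsgLib.Chev.weylIsoF4 CfsgLib.Chev.goodF4)
  · exact key Cfsg.Lie.chevE6 CfsgLib.Chev.goodE6 _ (CfsgLib.Chev.weylIsoE6 CfsgLib.Chev.goodE6)
  · exact key Cfsg.Lie.chevE7 CfsgLib.Chev.goodE7 _ (CfsgLib.Chev.weylIsoE7 CfsgLib.Chev.goodE7)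
  · exact key Cfsg.Lie.chevE8 CfsgLib.Chev.goodE8 _ (CfsgLib.Chev.weylIsoE8 CfsgLib.Chev.goodE8)

end Cfsg.Agent.S1039
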