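import Cfsg.Statements.S1078
import Cfsg.Agent.Lib.Chev.StTorus

set_option autoImplicit false
open Cfsg

namespace Cfsg.Agent.S1078

/-- For G₂, F₄, E₈ the presented group has trivial centre (the universal and adjoint groups coincide). -/
theorem result {K : Type*} [Field K] (D : Cfsg.Lie.ChevalleyDatum) (hD : D ∈ [Cfsg.Lie.chevG2, Cfsg.Lie.chevF4, Cfsg.Lie.chevE8]) :
    Subgroup.center (D.SteinbergGroup K) = ⊥ := by
  have hD' : D ∈ [Cfsg.Lie.chevG2, Cfsg.Lie.chevB2, Cfsg.Lie.chevD4, Cfsg.Lie.chevF4, Cfsg.Lie.chevE6,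
      Cfsg.Lie.chevE7, Cfsg.Lie.chevE8] := by
    simp only [List.mem_cons, List.not_mem_nil, or_false] at hD ⊢; tauto
  have g := CfsgLib.Chev.good_of_mem hD'
  have hc := CfsgLib.Chev.hasComm_of_mem hD'
  rw [← CfsgLib.Chev.StData.ker_eq_center (CfsgLib.Chev.stData g hc K) (CfsgLib.Chev.linked_of_mem hD' g),
    CfsgLib.Chev.StData.θG_ker]
  exact CfsgLib.Chev.stData_ker_eq_bot hD g hc

end Cfsg.Agent.S1078
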