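import Cfsg.Statements.S1082
import Cfsg.Agent.Lib.Chev.OrthTables

set_option autoImplicit false
open Cfsg

namespace Cfsg.Agent.S1082

/-- D₄(F) ≅ PΩ₈⁺(F), the commutator subgroup of the orthogonal group of `Σ xᵢ yᵢ` modulo its centre. -/
theorem result {F : Type*} [Field F] : Nonempty (↥(Cfsg.Lie.chevD4.group F) ≃* Cfsg.POmega F (Cfsg.quadFormPlus 4 F)) := by
  open CfsgLib.Chev in
  exact OE.Matched.quot_equiv OE.matchedD4 goodD4 (perfectD4 F)
    (simple_of_mem (by simp) (fun h => by rcases h with h | h <;> exact absurd (congrArg Cfsg.Lie.ChevalleyDatum.rank h) (by decide))) checksD4.shape OE.orthD4_checkL OE.orthD4_root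
    OE.orthD4_wit OE.orthD4_units (by norm_num) (l := 3) (k₀ := 0) rfl (by decide) _
    (funext fun v => by simp [OE.qf, OE.coordD4, Cfsg.quadFormPlus])

end Cfsg.Agent.S1082
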