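import Cfsg.Statements.S1083
import Cfsg.Agent.Lib.Chev.OrthTables

set_option autoImplicit false
open Cfsg

namespace Cfsg.Agent.S1083

/-- B₂(F) ≅ PΩ₅(F) for the form `x₀² + x₁y₁ + x₂y₂`, over every field with more than two elements. -/
theorem result {F : Type*} [Field F] (hF : ∃ a : F, a ≠ 0 ∧ a ≠ 1) :
    Nonempty (↥(Cfsg.Lie.chevB2.group F) ≃* Cfsg.POmega F (Cfsg.quadFormOdd 2 F)) := by
  open CfsgLib.Chev in
  exact OE.Matched.quot_equiv OE.matchedB2 goodB2 (perfectB2 hF)
    (simple_of_mem (by simp) (fun _ => hF)) checksB2.shape OE.orthB2_checkL OE.orthB2_root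
    OE.orthB2_wit OE.orthB2_units (by norm_num) (l := 1) (k₀ := 0) rfl (by decide) _
    (funext fun v => by simp [OE.qf, OE.coordB2, Cfsg.quadFormOdd, add_comm])

end Cfsg.Agent.S1083
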