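import Cfsg.Statements.S1084
import Cfsg.Agent.Lib.Chev.E6CubicFrame

set_option autoImplicit false
open Cfsg Cfsg.Lie

namespace Cfsg.Agent.S1084

/-- E₆ via the 27-dimensional cubic form: for a finite field with at least three elements, (isometries of the cubic form) / centre ≅ the Chevalley group E₆(F). -/
theorem result {F : Type*} [Field F] [Fintype F] (hF : 3 ≤ Fintype.card F) : Nonempty (Cfsg.Lie.E6 F ≃* ↥(Cfsg.Lie.chevE6.group F)) := by
  have hne : chevE6 = chevG2 ∨ chevE6 = chevB2 → ∃ a : F, a ≠ 0 ∧ a ≠ 1 := fun h => by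
    rcases h with h | h <;>
      · have := congrArg ChevalleyDatum.rank h
        simp [chevE6, chevG2, chevB2] at this
  have hsimp := CfsgLib.Chev.simple_of_mem (D := chevE6) (F := F) (by simp) hne
  obtain ⟨φ, hφs, hker, -⟩ := CfsgLib.Chev.OE.exists_hom (N := CfsgLib.Chev.E6C.num27) (F := F)
    CfsgLib.Chev.goodE6 hsimp CfsgLib.Chev.E6C.shape_e6 CfsgLib.Chev.E6C.checkL_e6
    CfsgLib.Chev.E6C.root_e6 CfsgLib.Chev.E6C.wit_e6 CfsgLib.Chev.E6C.units_e6 (by norm_num)
    CfsgLib.Chev.E6C.uG (fun r hr t => by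
      rw [CfsgLib.Chev.E6C.uG_val hr, CfsgLib.Chev.E6C.uM_eq]) (E := Cfsg.Lie.E6univ F)
    (CfsgLib.Chev.E6C.univ_eq hF)
  exact ⟨(QuotientGroup.quotientMulEquivOfEq hker.symm).trans
    (QuotientGroup.quotientKerEquivOfSurjective φ hφs)⟩

end Cfsg.Agent.S1084
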