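import Cfsg.Statements.S1095
import Cfsg.Agent.Lib.Chev.Good
-- import your own Cfsg.Agent.* helpers here

set_option autoImplicit false
open Cfsg

namespace Cfsg.Agent.S1095

/-- `n_p` (p = p_{i+1} fundamental) is the signed monomial matrix `h_{p_j} ↦ h_{p_j} - A_{p_j,p} h_p`, `e_s ↦ η_s e_{w_p(s)}`, with `η_s = ±1`, `η_p = η_{-p} = -1`, `η_s η_{w_p(s)} = (-1)^{A_{p,s}}`, `η_s η_{-s} = 1`. -/
theorem result {F : Type*} [Field F] (D : Cfsg.Lie.ChevalleyDatum) (hD : D ∈ [Cfsg.Lie.chevG2, Cfsg.Lie.chevB2, Cfsg.Lie.chevD4, Cfsg.Lie.chevF4, Cfsg.Lie.chevE6, Cfsg.Lie.chevE7, Cfsg.Lie.chevE8]) (i : ℕ) (hi : i < D.rank) :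
    ∃ η : ℕ → ℤ, (∀ s < D.nroots, η s = 1 ∨ η s = -1) ∧ η (D.simple i) = -1 ∧ η (D.neg (D.simple i)) = -1 ∧
      (∀ s < D.nroots, η s * η (D.reflectRoot i s) = (-1) ^ (D.cartan i s).natAbs ∧ η s * η (D.neg s) = 1) ∧
      D.nMat F (D.simple i) 1 = Matrix.of (fun (row col : D.Idx) =>
        Sum.elim
          (fun j' : Fin D.rank => Sum.elim
            (fun j : Fin D.rank => (if j' = j then (1 : F) else 0) - (if (j' : ℕ) = i then ((D.cartan j (D.simple i) : ℤ) : F) else 0))
            (fun _ => (0 : F)) col)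
          (fun s' : Fin D.nroots => Sum.elim
            (fun _ => (0 : F))
            (fun s : Fin D.nroots => if (s' : ℕ) = D.reflectRoot i s then ((η s : ℤ) : F) else 0) col)
          row) := by
  have g := CfsgLib.Chev.good_of_mem hD
  obtain ⟨hl, hs⟩ := And.intro g.lie g.struc
  refine ⟨g.eta i, fun s hs' => g.eta_sign hi hs', ?_, ?_, fun s hs' => ⟨?_, ?_⟩, ?_⟩
  · exact (CfsgLib.Chev.StructChecks.eta_facts hl hs hi (g.simple_lt hi)).2.2.2
  · obtain ⟨-, h2, -, h4⟩ := CfsgLib.Chev.StructChecks.eta_facts hl hs hi (g.simple_lt hi)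
    exact h2.trans h4
  · obtain ⟨-, -, h3, -⟩ := CfsgLib.Chev.StructChecks.eta_facts hl hs hi hs'
    simp only [CfsgLib.Chev.Good.eta]
    rw [(CfsgLib.Chev.StructChecks.refl_facts hl hs hi hs').1, h3, CfsgLib.Chev.signOf,
      ← CfsgLib.Chev.cartan_eq hl.pack hi hs']
    rcases Nat.even_or_odd (D.cartan i s).natAbs with h | h
    · rw [h.neg_one_pow, Nat.even_iff.1 h]; rfl
    · rw [h.neg_one_pow, Nat.odd_iff.1 h]; rfl
  · obtain ⟨h1, h2, -, -⟩ := CfsgLib.Chev.StructChecks.eta_facts hl hs hi hs'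
    simp only [CfsgLib.Chev.Good.eta]
    rw [h2]
    rcases h1 with h | h <;> rw [h] <;> norm_num
  · have hmap : (CfsgLib.Chev.nZ (D := D) i).map (Int.cast : ℤ → F) =
        CfsgLib.Chev.nR (D := D) (D.simple i) 1 := by
      have := CfsgLib.Chev.nR_map (D := D) (Int.castRingHom F) (D.simple i) 1
      rwa [map_one] at this
    rw [g.nMat_one (g.simple_lt hi), ← hmap]
    ext row col
    rw [Matrix.map_apply, Matrix.of_apply]
    rcases col with j | s
    · rw [CfsgLib.Chev.StructChecks.nZ_coroot hl hs hi]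
      rcases row with j' | s'
      · simp only [CfsgLib.Chev.ix_inl, Sum.elim_inl, Fin.ext_iff]
        by_cases h1 : j'.val = j.val <;> by_cases h2 : j'.val = i <;> simp [h1, h2]
      · simp only [CfsgLib.Chev.ix_inr, Sum.elim_inr, Sum.elim_inl]
        have := j.2
        simp [show D.rank + s'.val ≠ j.val by omega, show D.rank + s'.val ≠ i by omega]
    · rw [CfsgLib.Chev.StructChecks.nZ_root hl hs hi,
        ← (CfsgLib.Chev.StructChecks.refl_facts hl hs hi s.2).1]
      rcases row with j' | s'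
      · simp only [CfsgLib.Chev.ix_inl, Sum.elim_inl, Sum.elim_inr]
        have := j'.2
        simp [show j'.val ≠ D.rank + D.reflectRoot i s by omega]
      · simp only [CfsgLib.Chev.ix_inr, Sum.elim_inr, Nat.add_left_cancel_iff]
        by_cases h1 : s'.val = D.reflectRoot i s <;> simp [h1, CfsgLib.Chev.Good.eta]

end Cfsg.Agent.S1095
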