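import Cfsg.Statements.S1118
import Cfsg.Agent.Lib.Chev.RankOne
-- import your own Cfsg.Agent.* helpers here

set_option autoImplicit false
open Cfsg

namespace Cfsg.Agent.S1118

/-- In the rank-one set-up (`G` finite and doubly transitive on `Ω`, `t` an involution moving `a`, `Q` normal in `G_a` with `G_a = Q D`, `Q ⊓ D = 1` for the two-point stabiliser `D = G_a ⊓ G_{t • a}`, `|Q|` even, `|D|` odd), the normaliser of a subset of `Q` containing a non-identity element lies in `G_a`; consequently `N_G(Q) = N_G(G_a) = G_a`. -/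
theorem result {G Ω : Type*} [Group G] [Finite G] [MulAction G Ω] {a : Ω} {t : G} {Q : Subgroup G}
    (hS : Cfsg.IsRankOneSetup G Ω a t Q) :
    (∀ X : Set G, X ⊆ (Q : Set G) → (∃ x ∈ X, x ≠ 1) → Subgroup.normalizer X ≤ MulAction.stabilizer G a) ∧
      Subgroup.normalizer (Q : Set G) = MulAction.stabilizer G a ∧
      Subgroup.normalizer (MulAction.stabilizer G a : Set G) = MulAction.stabilizer G a := by
  refine ⟨?_, ?_, ?_⟩
  · rintro X hX ⟨x, hxX, hx1⟩ g hg
    have hc := (Subgroup.mem_set_normalizer_iff.1 hg x).1 hxX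
    have hga : (g * x * g⁻¹) • a = a := CfsgLib.Chev.RankOne.smul_a_of_mem hS (hX hc)
    rw [mul_smul, mul_smul, ← eq_inv_smul_iff] at hga
    have := CfsgLib.Chev.RankOne.fix_eq hS (hX hxX) hx1 hga
    rw [MulAction.mem_stabilizer_iff]
    exact (inv_smul_eq_iff.1 this).symm
  · refine le_antisymm (fun g hg => ?_) fun h hh => ?_
    · obtain ⟨s, hs, hs1, hs2⟩ := CfsgLib.Chev.RankOne.exists_invol hS
      have hc := (Subgroup.mem_set_normalizer_iff.1 hg s).1
        (CfsgLib.Chev.RankOne.invol_mem_Q hS hs hs2)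
      have hga : (g * s * g⁻¹) • a = a := CfsgLib.Chev.RankOne.smul_a_of_mem hS hc
      rw [mul_smul, mul_smul, ← eq_inv_smul_iff] at hga
      have := CfsgLib.Chev.RankOne.fix_eq hS (CfsgLib.Chev.RankOne.invol_mem_Q hS hs hs2) hs1 hga
      rw [MulAction.mem_stabilizer_iff]
      exact (inv_smul_eq_iff.1 this).symm
    · refine Subgroup.mem_set_normalizer_iff.2 fun x => ⟨hS.conj_mem h hh x, fun hx => ?_⟩
      have := hS.conj_mem h⁻¹ (inv_mem hh) _ hx
      rwa [show h⁻¹ * (h * x * h⁻¹) * h⁻¹⁻¹ = x by group] at this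
  · refine le_antisymm (fun g hg => ?_) Subgroup.le_normalizer
    obtain ⟨s, hs, hs1, hs2⟩ := CfsgLib.Chev.RankOne.exists_invol hS
    have hc := (Subgroup.mem_set_normalizer_iff.1 hg s).1 hs
    have hga : (g * s * g⁻¹) • a = a := MulAction.mem_stabilizer_iff.1 hc
    rw [mul_smul, mul_smul, ← eq_inv_smul_iff] at hga
    have := CfsgLib.Chev.RankOne.fix_eq hS (CfsgLib.Chev.RankOne.invol_mem_Q hS hs hs2) hs1 hga
    rw [MulAction.mem_stabilizer_iff]
    exact (inv_smul_eq_iff.1 this).symm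

end Cfsg.Agent.S1118
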