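import Cfsg.Statements.S1124
import Cfsg.Agent.Lib.Chev.InvertedBy
-- import your own Cfsg.Agent.* helpers here

set_option autoImplicit false
open scoped Pointwise
open Cfsg

namespace Cfsg.Agent.S1124

/-- Let `t` be an element of order 2 of a finite group normalising a subgroup `X` of odd order, `Y = C_X(t)` and `Z` the set of elements of `X` inverted by `t`. Then `(y, z) ↦ y z` is a bijection `Y × Z → X`, so `|X| = |Y| |Z|`, and the subgroup generated by `Z` is normal in `X`. -/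
theorem result {M : Type*} [Group M] [Finite M]
    (t : M) (ht : orderOf t = 2) (X : Subgroup M) (hodd : Odd (Nat.card X))
    (hnorm : ∀ x ∈ X, t * x * t⁻¹ ∈ X) :
    (∀ x ∈ X, ∃! p : M × M, p.1 ∈ X ⊓ Subgroup.centralizer {t} ∧ p.2 ∈ Cfsg.invertedBy X t ∧ x = p.1 * p.2) ∧
      Nat.card X = Nat.card ↥(X ⊓ Subgroup.centralizer {t}) * Nat.card (Cfsg.invertedBy X t) ∧
      ∀ x ∈ X, MulAut.conj x • Subgroup.closure (Cfsg.invertedBy X t) = Subgroup.closure (Cfsg.invertedBy X t) := by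
  have htt : t * t = 1 := CfsgLib.Invol.invol_mul_self ht
  have key : Function.Bijective (fun p : ↥(X ⊓ Subgroup.centralizer {t}) ×
      ↥(Cfsg.invertedBy X t) => (⟨(p.1 : M) * p.2, mul_mem (Subgroup.mem_inf.1 p.1.2).1 p.2.2.1⟩ : X)) := by
    constructor
    · rintro ⟨c, z⟩ ⟨c', z'⟩ h
      obtain ⟨h1, h2⟩ := CfsgLib.Chev.InvBy.decomp_unique hodd c.2 z.2 c'.2 z'.2
        (congrArg Subtype.val h)
      exact Prod.ext (Subtype.ext h1) (Subtype.ext h2)
    · rintro ⟨x, hx⟩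
      obtain ⟨c, hc, z, hz, rfl⟩ := CfsgLib.Chev.InvBy.exists_decomp htt hodd hnorm hx
      exact ⟨(⟨c, hc⟩, ⟨z, hz⟩), rfl⟩
  refine ⟨fun x hx => ?_, ?_, fun x hx => ?_⟩
  · obtain ⟨c, hc, z, hz, rfl⟩ := CfsgLib.Chev.InvBy.exists_decomp htt hodd hnorm hx
    refine ⟨(c, z), ⟨hc, hz, rfl⟩, ?_⟩
    rintro ⟨c', z'⟩ ⟨hc', hz', he⟩
    obtain ⟨h1, h2⟩ := CfsgLib.Chev.InvBy.decomp_unique hodd hc hz hc' hz' he
    rw [h1, h2]
  · rw [← Nat.card_eq_of_bijective _ key, Nat.card_prod]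
  · ext y
    rw [Subgroup.mem_pointwise_smul_iff_inv_smul_mem, ← map_inv, MulAut.smul_def, MulAut.conj_apply]
    constructor
    · intro h
      have := CfsgLib.Chev.InvBy.conj_closure htt hodd hnorm hx h
      rwa [show x * (x⁻¹ * y * x⁻¹⁻¹) * x⁻¹ = y by group] at this
    · exact fun h => CfsgLib.Chev.InvBy.conj_closure htt hodd hnorm (inv_mem hx) h

end Cfsg.Agent.S1124
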