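import Cfsg.Statements.S1132
import Cfsg.Agent.Lib.Chev.RankOneTorus

set_option autoImplicit false
open Cfsg

namespace Cfsg.Agent.S1132

/-- In the rank-one set-up (`G` finite and doubly transitive on `Ω`, `t` an involution moving `a`, `Q` normal in `G_a` with `G_a = Q D`, `Q ⊓ D = 1` for the two-point stabiliser `D = G_a ⊓ G_{t • a}`, `|Q|` even, `|D|` odd), with the action faithful and `G` containing two distinct commuting involutions: a Sylow 2-subgroup of `Q` is abelian or a Suzuki 2-group. -/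
theorem result {G Ω : Type*} [Group G] [Finite G] [MulAction G Ω] [FaithfulSMul G Ω] {a : Ω} {t : G} {Q : Subgroup G}
    (hS : Cfsg.IsRankOneSetup G Ω a t Q)
    (h2 : ∃ x y : G, x ≠ 1 ∧ y ≠ 1 ∧ x ≠ y ∧ x * x = 1 ∧ y * y = 1 ∧ x * y = y * x)
    (S : Sylow 2 ↥Q) : IsMulCommutative (S : Subgroup ↥Q) ∨ Cfsg.IsSuzukiTwoGroup ↥(S : Subgroup ↥Q) := by
  open CfsgLib.Chev.RankOne in
  classical
  haveI : Fact (Nat.Prime 2) := ⟨Nat.prime_two⟩
  haveI := Q_nilpotent hS h2
  haveI : (S : Subgroup Q).Normal := Sylow.normal_of_normalizerCondition (Group.normalizerCondition_of_isNilpotent) S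
  have hSub : Subsingleton (Sylow 2 Q) := by
    letI := Sylow.unique_of_normal S inferInstance
    infer_instance
  have hchar : (S : Subgroup Q).Characteristic := Sylow.characteristic_of_normal S inferInstance
  have hmemS : ∀ x : Q, x * x = 1 → x ∈ (S : Subgroup Q) := by
    intro x hx
    have hp : IsPGroup 2 (Subgroup.zpowers x) := IsPGroup.of_card_dvd_pow (n := 1) (by
      rw [Nat.card_zpowers, pow_one]
      exact orderOf_dvd_of_pow_eq_one (by rw [pow_two, hx]))
    obtain ⟨P, hP⟩ := hp.exists_le_sylow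
    have := hP (Subgroup.mem_zpowers x)
    rwa [Subsingleton.elim P S] at this
  by_cases hab : IsMulCommutative (S : Subgroup Q)
  · exact Or.inl hab
  refine Or.inr ?_
  obtain ⟨k₀, hk₀, hK⟩ := exists_torus_gen hS h2
  have hCK : ∀ k, k ∈ Subgroup.zpowers k₀ ↔
      k ∈ Cfsg.invertedBy (MulAction.stabilizer G a ⊓ MulAction.stabilizer G (t • a)) t :=
    fun k => by rw [← hK]; rfl
  have hCN : Subgroup.zpowers k₀ ≤ Subgroup.normalizer (Q : Set G) := by
    intro k hk
    have hka := (Subgroup.mem_inf.1 ((hCK k).1 hk).1).1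
    refine Subgroup.mem_set_normalizer_iff.2 fun x => ⟨hS.conj_mem k hka x, fun hx => ?_⟩
    have := hS.conj_mem k⁻¹ (inv_mem hka) _ hx
    rwa [show k⁻¹ * (k * x * k⁻¹) * k⁻¹⁻¹ = x by group] at this
  let α : Subgroup.zpowers k₀ →* MulAut Q := Q.normalizerMonoidHom.comp (Subgroup.inclusion hCN)
  have hαS : ∀ (k : Subgroup.zpowers k₀) (x : (S : Subgroup Q)), α k x ∈ (S : Subgroup Q) := by
    intro k x
    have h : (x : Q) ∈ (S : Subgroup Q).comap (α k).toMonoidHom := by
      rw [Subgroup.characteristic_iff_comap_eq.1 hchar (α k)]; exact x.2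
    exact h
  let β : Subgroup.zpowers k₀ →* MulAut (S : Subgroup Q) :=
    { toFun := fun k =>
        { toFun := fun x => ⟨α k x, hαS k x⟩
          invFun := fun x => ⟨α k⁻¹ x, hαS k⁻¹ x⟩
          left_inv := fun x => Subtype.ext (by
            show α k⁻¹ (α k x) = _
            rw [map_inv]; exact (α k).symm_apply_apply _)
          right_inv := fun x => Subtype.ext (by
            show α k (α k⁻¹ x) = _
            rw [map_inv]; exact (α k).apply_symm_apply _)
          map_mul' := fun x y => Subtype.ext (map_mul (α k) x.1 y.1) }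
      map_one' := MulEquiv.ext fun x => Subtype.ext (by show α 1 x = _; rw [map_one]; rfl)
      map_mul' := fun k l => MulEquiv.ext fun x => Subtype.ext (by
        show α (k * l) x = α k (α l x); rw [map_mul]; rfl) }
  have hβ : ∀ k x, (((β k x : (S : Subgroup Q)) : Q) : G) = (k : G) * ((x : Q) : G) * (k : G)⁻¹ :=
    fun k x => rfl
  have hinv : ∀ x : (S : Subgroup Q), x ≠ 1 → x * x = 1 →
      ((x : Q) : G) ∈ Cfsg.involutionsIn (MulAction.stabilizer G a : Set G) := fun x hx1 hx2 =>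
    ⟨hS.le x.1.2, fun h => hx1 (Subtype.ext (Subtype.ext h)),
      congrArg (fun z : (S : Subgroup Q) => ((z : Q) : G)) hx2⟩
  refine ⟨inferInstance, S.isPGroup', ?_, ?_, β.range, isCyclic_of_surjective β.rangeRestrict β.rangeRestrict_surjective, ?_⟩
  · by_contra hc
    push Not at hc
    exact hab ⟨⟨hc⟩⟩
  · obtain ⟨s, hsa, hs1, hs2⟩ := exists_invol hS
    obtain ⟨k, hk, hk1⟩ := exists_ne_one_inverted hS h2
    have h1 : (1 : G) ∈ Cfsg.invertedBy (MulAction.stabilizer G a ⊓ MulAction.stabilizer G (t • a)) t :=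
      (hCK 1).1 (one_mem _)
    have hs' := conj_k_mem_invol ⟨hsa, hs1, hs2⟩ hk
    refine ⟨⟨⟨s, invol_mem_Q hS hsa hs2⟩, hmemS _ (Subtype.ext hs2)⟩,
      ⟨⟨k⁻¹ * s * k, invol_mem_Q hS hs'.1 hs'.2.2⟩, hmemS _ (Subtype.ext hs'.2.2)⟩, fun e => hk1 ?_,
      fun e => hs1 (congrArg (fun z : (S : Subgroup Q) => ((z : Q) : G)) e),
      Subtype.ext (Subtype.ext hs2),
      fun e => hs'.2.1 (congrArg (fun z : (S : Subgroup Q) => ((z : Q) : G)) e),
      Subtype.ext (Subtype.ext hs'.2.2)⟩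
    have e' : s = k⁻¹ * s * k := congrArg (fun z : (S : Subgroup Q) => ((z : Q) : G)) e
    exact invertedBy_conj_inj hS hsa hs1 hs2 hk h1 (by rw [← e']; group)
  · intro x y hx1 hx2 hy1 hy2
    obtain ⟨k, hk, hke⟩ := invertedBy_transitive hS (hinv x hx1 hx2) (hinv y hy1 hy2)
    refine ⟨⟨β ⟨k⁻¹, inv_mem ((hCK k).2 hk)⟩, ⟨_, rfl⟩⟩, Subtype.ext (Subtype.ext ?_), ?_⟩
    · rw [hβ]
      show k⁻¹ * _ * k⁻¹⁻¹ = _
      rw [inv_inv, hke]
    · rintro ⟨_, l, rfl⟩ hl
      refine Subtype.ext (congrArg β (Subtype.ext (inv_injective ?_)))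
      show (l : G)⁻¹ = k⁻¹⁻¹
      rw [inv_inv]
      refine invertedBy_conj_inj hS (hinv x hx1 hx2).1 (hinv x hx1 hx2).2.1 (hinv x hx1 hx2).2.2
        ((hCK _).1 (inv_mem l.2)) hk ?_
      rw [inv_inv, hke, ← hl]
      exact (hβ l x).symm

end Cfsg.Agent.S1132
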