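import Cfsg.Statements.S1160
import Cfsg.Agent.Lib.Chev.HalfTrans
-- import your own Cfsg.Agent.* helpers here

set_option autoImplicit false
open Cfsg

namespace Cfsg.Agent.S1160

/-- Let `p ≠ 2` be prime and `P` a finite `p`-group acting faithfully by additive automorphisms on a finite elementary abelian `q`-group `E` (`q` prime), such that `|P_a|` is the same for all `a ≠ 0`. Then `P` is cyclic and every non-identity element of `P` fixes only `0`. -/
theorem result {P E : Type*} [Group P] [Finite P]
    [AddCommGroup E] [Finite E] [DistribMulAction P E] [FaithfulSMul P E]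
    {p q : ℕ} [Fact p.Prime] (hp2 : p ≠ 2) (hP : IsPGroup p P) (hq : q.Prime) (hE : ∀ e : E, q • e = 0)
    (hconst : ∀ a b : E, a ≠ 0 → b ≠ 0 →
      Nat.card (MulAction.stabilizer P a) = Nat.card (MulAction.stabilizer P b)) :
    IsCyclic P ∧ ∀ g : P, g ≠ 1 → ∀ a : E, g • a = a → a = 0 := by
  by_cases hsub : Subsingleton P
  · exact ⟨isCyclic_of_subsingleton, fun g hg => absurd (Subsingleton.elim g 1) hg⟩
  have : Nontrivial E := by
    by_contra hE0
    rw [not_nontrivial_iff_subsingleton] at hE0
    exact hsub ⟨fun g h => eq_of_smul_eq_smul fun v : E => Subsingleton.elim _ _⟩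
  have hnd : ¬ p ∣ Nat.card E := fun h =>
    hsub (CfsgLib.Chev.HalfTrans.trivial_of_not_coprime hconst hP h)
  have hpq : p.Coprime q := by
    rw [Nat.coprime_primes Fact.out hq]
    rintro rfl
    obtain ⟨e, he⟩ := exists_ne (0 : E)
    exact hnd (addOrderOf_eq_prime (hE e) he ▸ addOrderOf_dvd_natCard e)
  have hcop : (Nat.card P).Coprime q := by
    obtain ⟨k, hk⟩ := hP.exists_card_eq
    rw [hk]; exact hpq.pow_left k
  have := CfsgLib.Chev.HalfTrans.isCyclic hE hcop hconst hp2 hP
  exact ⟨this, fun g hg a ha => CfsgLib.Chev.HalfTrans.fpf_of_isCyclic hE hcop hconst hg ha⟩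

end Cfsg.Agent.S1160
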