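import Cfsg.Statements.S1163
import Cfsg.Agent.Lib.Suzuki.Sylow
import Cfsg.Agent.Lib.Suzuki.Model

set_option autoImplicit false
open Cfsg

namespace Cfsg.Agent.S1163

theorem coset_facts {G Ω : Type*} [Group G] [MulAction G Ω]
    [h2 : MulAction.IsMultiplyPretransitive G Ω 2] (ω : Ω) (H : Subgroup G)
    (hH : MulAction.stabilizer G ω = H) (S : Subgroup G)
    (hreg : ∀ p q : Ω, p ≠ ω → q ≠ ω → ∃! s : S, (s : G) • p = q) :
    MulAction.IsMultiplyPretransitive G (G ⧸ H) 2 ∧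
      ∀ x y : G ⧸ H, x ≠ QuotientGroup.mk 1 → y ≠ QuotientGroup.mk 1 →
        ∃! s : S, (s : G) • x = y := by
  subst hH
  let f := MulAction.ofQuotientStabilizer G ω
  have hf : Function.Injective f := MulAction.injective_ofQuotientStabilizer G ω
  have hfs : ∀ (g : G) x, f (g • x) = g • f x := MulAction.ofQuotientStabilizer_smul G ω
  constructor
  · rw [MulAction.is_two_pretransitive_iff] at h2 ⊢
    intro a b c d hab hcd
    obtain ⟨g, hga, hgb⟩ := h2 (hf.ne hab) (hf.ne hcd)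
    exact ⟨g, hf (by rw [hfs, hga]), hf (by rw [hfs, hgb])⟩
  · have h1 : f (QuotientGroup.mk 1) = ω := one_smul G ω
    intro x y hx hy
    obtain ⟨s, hs, hu⟩ := hreg (f x) (f y) (h1 ▸ hf.ne hx) (h1 ▸ hf.ne hy)
    exact ⟨s, hf ((hfs _ x).trans hs), fun t ht => hu t ((hfs _ x).symm.trans (congrArg f ht))⟩

/-- For the Suzuki group Sz(q), q = 2^(2m+1) ≥ 8, realised as the elements g of Sp₄(F) with g* = g^θ (θ the 2^(m+1)-th power map, so that θ² is squaring): `|Sz(q)| = q² (q - 1) (q² + 1)`, and there is a Sylow 2-subgroup `S` whose normaliser `H` has order `q²(q-1)` and index `q² + 1`, the action of `Sz(q)` on the cosets of `H` is doubly transitive, and `S` acts regularly on the cosets other than `H` itself. -/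
theorem result {F : Type*} [Field F] [Fintype F] {m : ℕ} (hm : 1 ≤ m) (hF : Fintype.card F = 2 ^ (2 * m + 1)) :
    Nat.card ↥(Cfsg.Lie.Sz F (2 ^ (m + 1))) = (2 ^ (2 * m + 1)) ^ 2 * (2 ^ (2 * m + 1) - 1) * ((2 ^ (2 * m + 1)) ^ 2 + 1) ∧
    ∃ S : Sylow 2 ↥(Cfsg.Lie.Sz F (2 ^ (m + 1))),
      Nat.card (Subgroup.normalizer ((S : Subgroup ↥(Cfsg.Lie.Sz F (2 ^ (m + 1)))) : Set ↥(Cfsg.Lie.Sz F (2 ^ (m + 1))))) = (2 ^ (2 * m + 1)) ^ 2 * (2 ^ (2 * m + 1) - 1) ∧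
      (Subgroup.normalizer ((S : Subgroup ↥(Cfsg.Lie.Sz F (2 ^ (m + 1)))) : Set ↥(Cfsg.Lie.Sz F (2 ^ (m + 1))))).index = (2 ^ (2 * m + 1)) ^ 2 + 1 ∧
      MulAction.IsMultiplyPretransitive ↥(Cfsg.Lie.Sz F (2 ^ (m + 1))) (↥(Cfsg.Lie.Sz F (2 ^ (m + 1))) ⧸ Subgroup.normalizer ((S : Subgroup ↥(Cfsg.Lie.Sz F (2 ^ (m + 1)))) : Set ↥(Cfsg.Lie.Sz F (2 ^ (m + 1))))) 2 ∧
      ∀ x y : ↥(Cfsg.Lie.Sz F (2 ^ (m + 1))) ⧸ Subgroup.normalizer ((S : Subgroup ↥(Cfsg.Lie.Sz F (2 ^ (m + 1)))) : Set ↥(Cfsg.Lie.Sz F (2 ^ (m + 1)))),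
        x ≠ (QuotientGroup.mk 1) → y ≠ (QuotientGroup.mk 1) → ∃! s : ↥(S : Subgroup ↥(Cfsg.Lie.Sz F (2 ^ (m + 1)))), (s : ↥(Cfsg.Lie.Sz F (2 ^ (m + 1)))) • x = y := by
  haveI : CharP F 2 := charP_of_card_eq_prime_pow hF
  haveI : Fact (Nat.Prime 2) := ⟨Nat.prime_two⟩
  set h := CfsgLib.Suzuki.thSq_of_card hF
  let e := CfsgLib.Suzuki.szEquiv hm hF
  letI : MulAction (Cfsg.Lie.Sz F (2 ^ (m + 1))) ↥(Cfsg.suzukiOvoid F m) :=
    MulAction.compHom _ e.symm.toMonoidHom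
  let ω : ↥(Cfsg.suzukiOvoid F m) :=
    ⟨CfsgLib.Suzuki.pInf F, CfsgLib.Suzuki.mem_ovoid.2 (Or.inl rfl)⟩
  have hcard : Nat.card (Cfsg.Lie.Sz F (2 ^ (m + 1))) =
      (2 ^ (2 * m + 1)) ^ 2 * (2 ^ (2 * m + 1) - 1) * ((2 ^ (2 * m + 1)) ^ 2 + 1) := by
    rw [← Nat.card_congr e.toEquiv, CfsgLib.Suzuki.card_sz hm hF, hF]
  refine ⟨hcard, ?_⟩
  let S : Sylow 2 (Cfsg.Lie.Sz F (2 ^ (m + 1))) :=
    (CfsgLib.Suzuki.uSylow hm hF).mapSurjective (f := e.toMonoidHom) e.surjective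
  have hSc : (S : Subgroup (Cfsg.Lie.Sz F (2 ^ (m + 1)))) =
      (CfsgLib.Suzuki.uSub h).map e.toMonoidHom := rfl
  have hN : Subgroup.normalizer ((S : Subgroup (Cfsg.Lie.Sz F (2 ^ (m + 1)))) :
      Set (Cfsg.Lie.Sz F (2 ^ (m + 1)))) = (CfsgLib.Suzuki.bSub F m).map e.toMonoidHom := by
    rw [hSc, ← CfsgLib.Suzuki.normalizer_uSub hm hF]
    exact (Subgroup.map_equiv_normalizer_eq _ e).symm
  refine ⟨S, ?_, ?_, ?_⟩
  · rw [hN, Subgroup.card_map_of_injective e.injective, CfsgLib.Suzuki.card_bSub hm hF, hF]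
  · rw [hN, Subgroup.index_map_of_bijective e.bijective, CfsgLib.Suzuki.index_bSub hF, hF]
  have h2 : MulAction.IsMultiplyPretransitive (Cfsg.Lie.Sz F (2 ^ (m + 1)))
      ↥(Cfsg.suzukiOvoid F m) 2 := by
    have h2' := CfsgLib.Suzuki.two_transitive (F := F) hF
    rw [MulAction.is_two_pretransitive_iff] at h2' ⊢
    intro a b c d hab hcd
    obtain ⟨g, hga, hgb⟩ := h2' hab hcd
    refine ⟨e g, ?_, ?_⟩
    · show e.symm (e g) • a = c
      rw [e.symm_apply_apply, hga]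
    · show e.symm (e g) • b = d
      rw [e.symm_apply_apply, hgb]
  have hstab : MulAction.stabilizer (Cfsg.Lie.Sz F (2 ^ (m + 1))) ω =
      (CfsgLib.Suzuki.bSub F m).map e.toMonoidHom := by
    ext g
    rw [Subgroup.mem_map_equiv]
    exact ⟨fun hg => congrArg Subtype.val hg, fun hg => Subtype.ext hg⟩
  rw [hN]
  refine coset_facts (h2 := h2) ω _ hstab _ ?_
  intro p q hp hq
  obtain ⟨x, y, hpx⟩ := (CfsgLib.Suzuki.mem_ovoid.1 p.2).resolve_left fun e' => hp (Subtype.ext e')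
  obtain ⟨x', y', hqx⟩ := (CfsgLib.Suzuki.mem_ovoid.1 q.2).resolve_left fun e' => hq (Subtype.ext e')
  have hsm : ∀ u : Cfsg.Sz F m, ((e u • p : ↥(Cfsg.suzukiOvoid F m)) :
      Projectivization F (Fin 4 → F)) = u • CfsgLib.Suzuki.pFin m x y := fun u => by
    rw [← hpx]
    show e.symm (e u) • (p : Projectivization F (Fin 4 → F)) = _
    rw [e.symm_apply_apply]
  have hmove : ∀ a b, CfsgLib.Suzuki.tG h a b • CfsgLib.Suzuki.pFin m x y =
      CfsgLib.Suzuki.pFin m x' y' ↔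
      a = x' + x ∧ b = y' + y + CfsgLib.Suzuki.th m (x' + x) * x := by
    intro a b
    rw [CfsgLib.Suzuki.tG_smul]
    constructor
    · intro e'
      obtain ⟨h1, h3⟩ := CfsgLib.Suzuki.pFin_inj e'
      have ha : a = x' + x := by linear_combination h1 - x * (CharTwo.two_eq_zero (R := F))
      subst ha
      exact ⟨rfl, by linear_combination h3 -
        (y + CfsgLib.Suzuki.th m (x' + x) * x) * (CharTwo.two_eq_zero (R := F))⟩
    · rintro ⟨rfl, rfl⟩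
      congr 1
      · linear_combination x * (CharTwo.two_eq_zero (R := F))
      · linear_combination (y + CfsgLib.Suzuki.th m (x' + x) * x) * (CharTwo.two_eq_zero (R := F))
  refine ⟨⟨e (CfsgLib.Suzuki.tG h (x' + x) (y' + y + CfsgLib.Suzuki.th m (x' + x) * x)),
    ⟨_, ⟨_, _, rfl⟩, rfl⟩⟩, ?_, ?_⟩
  · apply Subtype.ext
    rw [hsm, (hmove _ _).2 ⟨rfl, rfl⟩, hqx]
  · rintro ⟨_, u, ⟨a, b, rfl⟩, rfl⟩ hu
    have hu' := congrArg Subtype.val hu
    have hu' := (hsm (CfsgLib.Suzuki.tG h a b)).symm.trans (hu'.trans hqx)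
    obtain ⟨rfl, rfl⟩ := (hmove a b).1 hu'
    rfl

end Cfsg.Agent.S1163
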