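import Cfsg.Statements.S1176
import Cfsg.Agent.Lib.Invol.Basic

set_option autoImplicit false
open Cfsg

namespace Cfsg.Agent.S1176

/-- Let x₀ be an involution of the finite group G and D its conjugacy class. Assume (a) for each x ∈ D the subgroup W(x) generated by the members of D commuting with x is a 2-group of nilpotency class at most 2, and (b) the product of two distinct commuting members of D again lies in D. Then for all x, y ∈ D, if xy has even order greater than 2, its order is 4. -/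
theorem result {G : Type*} [Group G] [Finite G] (x₀ : G) (hx₀ : orderOf x₀ = 2) (ha : ∀ x : G, IsConj x₀ x → IsPGroup 2 ↥(Subgroup.closure {y : G | IsConj x₀ y ∧ Commute y x}) ∧ ⁅⁅Subgroup.closure {y : G | IsConj x₀ y ∧ Commute y x}, Subgroup.closure {y : G | IsConj x₀ y ∧ Commute y x}⁆, Subgroup.closure {y : G | IsConj x₀ y ∧ Commute y x}⁆ = ⊥) (hb : ∀ x y : G, IsConj x₀ x → IsConj x₀ y → x ≠ y → Commute x y → IsConj x₀ (x * y)) (x y : G) (hx : IsConj x₀ x) (hy : IsConj x₀ y) (heven : Even (orderOf (x * y))) (hgt : 2 < orderOf (x * y)) : orderOf (x * y) = 4 := by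
  have hxo : orderOf x = 2 := by rw [CfsgLib.Invol.orderOf_eq_of_isConj hx, hx₀]
  have hyo : orderOf y = 2 := by rw [CfsgLib.Invol.orderOf_eq_of_isConj hy, hx₀]
  set n := orderOf (x * y) with hn
  set w := (x * y) ^ (n / 2) with hw
  have hwo : orderOf w = 2 := CfsgLib.Invol.orderOf_pow_half heven
  have hwx : Commute w x := CfsgLib.Invol.commute_pow_half_left hxo hyo heven
  have hwy : Commute w y := CfsgLib.Invol.commute_pow_half_right hxo hyo heven
  have hwxD : IsConj x₀ (w * x) := by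
    obtain ⟨k, hk | hk⟩ := Int.even_or_odd' ((n / 2 : ℕ) : ℤ)
    · refine hx.trans (isConj_iff.2 ⟨(x * y) ^ k, ?_⟩)
      rw [CfsgLib.Invol.zpow_conj_left hxo hyo, ← hk, zpow_natCast]
    · refine hy.trans (isConj_iff.2 ⟨(x * y) ^ (k + 1), ?_⟩)
      conv_lhs => arg 1; arg 2; rw [← CfsgLib.Invol.right_eq hxo hyo]
      rw [← mul_assoc, ← zpow_add, ← zpow_neg, mul_assoc, CfsgLib.Invol.left_mul_zpow hxo hyo,
        neg_neg, ← mul_assoc, ← zpow_add, hw, ← zpow_natCast, hk]
      congr 2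
      omega
  have hwne : x ≠ w * x := fun h => CfsgLib.Invol.invol_ne_one hwo (mul_eq_right.1 h.symm)
  have hwD : IsConj x₀ w := by
    have h := hb x (w * x) hx hwxD hwne (hwx.symm.mul_right (Commute.refl x))
    rwa [hwx.eq, ← mul_assoc, CfsgLib.Invol.invol_mul_self hxo, one_mul] at h
  obtain ⟨h2, hcl⟩ := ha w hwD
  set W := Subgroup.closure {v : G | IsConj x₀ v ∧ Commute v w}
  have hxW : x ∈ W := Subgroup.subset_closure ⟨hx, hwx.symm⟩
  have hyW : y ∈ W := Subgroup.subset_closure ⟨hy, hwy.symm⟩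
  -- the order is a power of two
  obtain ⟨k, hk⟩ := h2 ⟨x * y, mul_mem hxW hyW⟩
  have hk' : (x * y) ^ 2 ^ k = 1 := by simpa using congrArg Subtype.val hk
  obtain ⟨a, -, ha'⟩ := (Nat.dvd_prime_pow Nat.prime_two).1 (orderOf_dvd_of_pow_eq_one hk')
  -- class at most two forces `(x y) ^ 4 = 1`
  have hcomm : x * y * x⁻¹ * y⁻¹ = (x * y) ^ 2 := by
    rw [CfsgLib.Invol.invol_inv hxo, CfsgLib.Invol.invol_inv hyo, pow_two]; group
  have hmem : x * y * x⁻¹ * y⁻¹ ∈ Subgroup.closure {g | ∃ p ∈ W, ∃ q ∈ W, p * q * p⁻¹ * q⁻¹ = g} :=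
    Subgroup.subset_closure ⟨x, hxW, y, hyW, rfl⟩
  have hmem' : (x * y) ^ 2 * x * ((x * y) ^ 2)⁻¹ * x⁻¹ = 1 := by
    rw [← Subgroup.mem_bot, ← hcl]
    have h1 : (x * y) ^ 2 ∈ ⁅W, W⁆ := by
      rw [← hcomm]; exact Subgroup.commutator_mem_commutator hxW hyW
    exact Subgroup.commutator_mem_commutator h1 hxW
  rw [← zpow_natCast, CfsgLib.Invol.zpow_conj_left hxo hyo, mul_inv_cancel_right,
    ← orderOf_dvd_iff_zpow_eq_one] at hmem'
  have h4 : n ∣ 4 := by exact_mod_cast hmem'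
  rcases Nat.le.dest (Nat.le_of_dvd (by norm_num) h4) with ⟨c, hc⟩
  have : n = 3 ∨ n = 4 := by omega
  rcases this with h3 | h3
  · rw [h3] at h4; norm_num at h4
  · exact h3

end Cfsg.Agent.S1176
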