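import Cfsg.Statements.S1177
import Cfsg.Agent.Lib.Invol.Basic

set_option autoImplicit false
open Cfsg

namespace Cfsg.Agent.S1177

/-- Let A be a nontrivial elementary abelian 2-subgroup of a finite group G which is a T.I. set (each conjugate of A meets A trivially or equals A) and which does not commute elementwise with any conjugate of A other than A itself. Then for every a ∈ A, a ≠ 1, every conjugate of A contained in C_G(a) is equal to A (A is weakly closed in C_G(a)). -/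
theorem result {G : Type*} [Group G] [Finite G] (A : Subgroup G) (hA : Cfsg.IsElementaryAbelian 2 A) (hA1 : A ≠ ⊥) (hTI : ∀ g : G, A.map (MulAut.conj g).toMonoidHom ⊓ A = ⊥ ∨ A.map (MulAut.conj g).toMonoidHom = A) (hb : ∀ g : G, (∀ a ∈ A, ∀ b ∈ A.map (MulAut.conj g).toMonoidHom, a * b = b * a) → A.map (MulAut.conj g).toMonoidHom = A) (a : G) (ha : a ∈ A) (ha1 : a ≠ 1) (g : G) (hg : A.map (MulAut.conj g).toMonoidHom ≤ Subgroup.centralizer ({a} : Set G)) : A.map (MulAut.conj g).toMonoidHom = A := by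
  set B := A.map (MulAut.conj g).toMonoidHom with hB
  have hcard : Nat.card B = Nat.card A := Nat.card_congr (Subgroup.equivMapOfInjective A _
    (MulEquiv.injective (MulAut.conj g))).toEquiv.symm
  have hAinv : ∀ x ∈ A, x⁻¹ = x := fun x hx => inv_eq_of_mul_eq_one_right (by
    rw [← pow_two]; exact hA.2 x hx)
  have hBinv : ∀ x ∈ B, x⁻¹ = x := by
    rintro _ ⟨y, hy, rfl⟩
    rw [← map_inv, hAinv y hy]
  have hAc : ∀ x ∈ A, ∀ y ∈ A, x * y = y * x := fun x hx y hy => congrArg Subtype.val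
    (hA.1.is_comm.comm ⟨x, hx⟩ ⟨y, hy⟩)
  -- `B` normalises `A`
  have hBA : ∀ b ∈ B, ∀ x ∈ A, b * x * b⁻¹ ∈ A := by
    intro b hb' x hx
    rcases hTI b with h | h
    · exfalso
      refine ha1 (Subgroup.mem_bot.1 (h ▸ (⟨⟨a, ha, ?_⟩, ha⟩ :
        a ∈ A.map (MulAut.conj b).toMonoidHom ⊓ A)))
      simp [Subgroup.mem_centralizer_singleton_iff.1 (hg hb'), mul_assoc]
    · rw [← h]; exact ⟨x, hx, rfl⟩
  -- `A` normalises `B`
  have hAB : ∀ x ∈ A, ∀ b ∈ B, x * b * x⁻¹ ∈ B := by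
    intro x hx b hb'
    by_cases hx1 : x = 1
    · simpa [hx1] using hb'
    obtain ⟨c, hcB, hc1, hcx⟩ : ∃ c ∈ B, c ≠ 1 ∧ c * x * c⁻¹ = x := by
      by_contra hcon
      push Not at hcon
      let f : B → A := fun c => ⟨c.1 * x * c.1⁻¹, hBA _ c.2 x hx⟩
      have hinj : Function.Injective f := by
        intro c d e
        by_contra hne
        have e' : c.1 * x * c.1⁻¹ = d.1 * x * d.1⁻¹ := congrArg Subtype.val e
        refine hcon (d.1⁻¹ * c.1) (mul_mem (inv_mem d.2) c.2)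
          (fun h => hne (Subtype.ext (inv_mul_eq_one.1 h).symm)) ?_
        calc d.1⁻¹ * c.1 * x * (d.1⁻¹ * c.1)⁻¹ = d.1⁻¹ * (c.1 * x * c.1⁻¹) * d.1 := by group
          _ = x := by rw [e']; group
      obtain ⟨c, hc⟩ := (hinj.bijective_of_nat_card_le (by rw [hcard])).2 1
      have := congrArg Subtype.val hc
      simp only [f, OneMemClass.coe_one, conj_eq_one_iff] at this
      exact hx1 this
    have hcx' : x * c * x⁻¹ = c := by
      calc x * c * x⁻¹ = (c * x * c⁻¹) * c * x⁻¹ := by rw [hcx]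
        _ = c := by group
    rcases hTI (g⁻¹ * x * g) with h | h
    · exfalso
      obtain ⟨e, he, rfl⟩ := hcB
      simp only [MulEquiv.coe_toMonoidHom, MulAut.conj_apply] at hc1 hcx'
      have he' : e ∈ A.map (MulAut.conj (g⁻¹ * x * g)).toMonoidHom ⊓ A := by
        refine ⟨⟨e, he, ?_⟩, he⟩
        have h' := congrArg (fun w => g⁻¹ * w * g) hcx'
        simpa [mul_assoc] using h'
      rw [h, Subgroup.mem_bot] at he'
      subst he'
      simp at hc1
    · obtain ⟨e, he, rfl⟩ := hb'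
      have : (MulAut.conj (g⁻¹ * x * g)).toMonoidHom e ∈ A := h ▸ ⟨e, he, rfl⟩
      exact ⟨_, this, by simp [mul_assoc]⟩
  by_contra hne
  have hint : B ⊓ A = ⊥ := (hTI g).resolve_right hne
  refine hne (hb g fun x hx b hb' => ?_)
  have h1 : x * b * x⁻¹ * b⁻¹ ∈ B ⊓ A := by
    refine Subgroup.mem_inf.2 ⟨mul_mem (hAB x hx b hb') (inv_mem hb'), ?_⟩
    have := mul_mem hx (hBA b hb' x⁻¹ (inv_mem hx))
    simpa [mul_assoc] using this
  rw [hint, Subgroup.mem_bot] at h1
  exact mul_inv_eq_iff_eq_mul.1 (mul_inv_eq_one.1 h1)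

end Cfsg.Agent.S1177
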