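import Cfsg.Statements.S1178
import Cfsg.Agent.Lib.Invol.Basic

set_option autoImplicit false
open Cfsg

namespace Cfsg.Agent.S1178

/-- Let A be a subgroup of a Sylow 2-subgroup S of the finite group G which is weakly closed in S. If a conjugate g A g⁻¹ commutes elementwise with A, then g A g⁻¹ = A. -/
theorem result {G : Type*} [Group G] [Finite G] (S : Sylow 2 G) (A : Subgroup G) (hW : Cfsg.IsWeaklyClosed A (S : Subgroup G)) (g : G) (hc : ∀ a ∈ A, ∀ b ∈ A.map (MulAut.conj g).toMonoidHom, a * b = b * a) : A.map (MulAut.conj g).toMonoidHom = A := by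
  set B := A.map (MulAut.conj g).toMonoidHom with hB
  have hAp : IsPGroup 2 A := S.2.to_le hW.1
  have hBp : IsPGroup 2 B := hAp.map _
  have hnorm : A ≤ Subgroup.normalizer (B : Set G) := fun a ha => by
    rw [Subgroup.mem_normalizer_iff]
    intro b
    constructor
    · intro hb
      rw [hc a ha b hb, mul_inv_cancel_right]
      exact hb
    · intro hb
      have h' := hc a⁻¹ (inv_mem ha) _ hb
      have e : b = a⁻¹ * (a * b * a⁻¹) * a⁻¹⁻¹ := by group
      rw [e, h', mul_inv_cancel_right]
      exact hb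
  obtain ⟨x, hx⟩ := CfsgLib.Invol.exists_conj_mem_sylow S (hAp.to_sup_of_normal_right' hBp hnorm)
  have h1 : A.map (MulAut.conj x).toMonoidHom = A := hW.2 x (by
    rintro _ ⟨a, ha, rfl⟩
    exact hx a (Subgroup.mem_sup_left ha))
  have h2 : A.map (MulAut.conj (x * g)).toMonoidHom = A := hW.2 (x * g) (by
    rintro _ ⟨a, ha, rfl⟩
    have := hx _ (Subgroup.mem_sup_right ⟨a, ha, rfl⟩)
    simp [mul_assoc] at this ⊢
    exact this)
  refine Subgroup.map_injective (f := (MulAut.conj x).toMonoidHom) (MulEquiv.injective (MulAut.conj x)) ?_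
  show B.map (MulAut.conj x).toMonoidHom = A.map (MulAut.conj x).toMonoidHom
  rw [h1, hB, Subgroup.map_map]
  conv_rhs => rw [← h2]
  congr 1
  ext w
  simp [mul_assoc]

end Cfsg.Agent.S1178
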