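import Cfsg.Statements.S1183
import Cfsg.Agent.Lib.Invol.Isolated
import Cfsg.Agent.Lib.Transfer.Focal
import Cfsg.Agent.S1182

set_option autoImplicit false
open Cfsg

namespace Cfsg.Agent.S1183

/-- Let z be an isolated involution of the finite group G and C = C_G(z). Then the subgroup of G generated by its elements of odd order is all of G if and only if the subgroup of C generated by its elements of odd order is all of C. -/
theorem result {G : Type*} [Group G] [Finite G] (z : G) (hz : Cfsg.IsIsolatedInvolution z) : Cfsg.pResidual 2 G = ⊤ ↔ Cfsg.pResidual 2 ↥(Subgroup.centralizer ({z} : Set G)) = ⊤ := by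
  obtain ⟨P, hP⟩ := (CfsgLib.Invol.isPGroup_zpowers_of_invol hz.1).exists_le_sylow
  have hzP : z ∈ (P : Subgroup G) := hP (Subgroup.mem_zpowers z)
  set C := Subgroup.centralizer ({z} : Set G)
  have hPC : (P : Subgroup G) ≤ C := by
    intro x hx
    refine Subgroup.mem_centralizer_singleton_iff.2 (mul_inv_eq_iff_eq_mul.1 ?_)
    exact CfsgLib.Invol.eq_of_mem_sylow_of_isolated P hz (isConj_iff.2 ⟨x, rfl⟩) (IsConj.refl z)
      (mul_mem (mul_mem hx hzP) (inv_mem hx)) hzP
  have hctrl : ∀ x ∈ P, ∀ g : G, g * x * g⁻¹ ∈ P →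
      ∃ v ∈ C, v * x * v⁻¹ = g * x * g⁻¹ := by
    intro x hx g hgx
    obtain ⟨c, -, hc, he⟩ := Cfsg.Agent.S1182.result z hz ⊤ (Subgroup.mem_normalizer_iff.2 (by simp)) x _ (Subgroup.mem_top _)
      (Subgroup.mem_top _) (Subgroup.mem_centralizer_singleton_iff.1 (hPC hx))
      (Subgroup.mem_centralizer_singleton_iff.1 (hPC hgx)) g (Subgroup.mem_top _) rfl
    exact ⟨c, Subgroup.mem_centralizer_singleton_iff.2 hc, he⟩
  have key := CfsgLib.Transfer.inf_pResidual_eq_of_controls P hPC hctrl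
  have hsupC : Cfsg.pResidual 2 C ⊔ ((P.subtype hPC : Sylow 2 C) : Subgroup C) = ⊤ :=
    CfsgLib.Transfer.pResidual_sup_sylow _
  have hsupG : Cfsg.pResidual 2 G ⊔ (P : Subgroup G) = ⊤ := CfsgLib.Transfer.pResidual_sup_sylow _
  constructor
  · intro h
    rw [h, inf_top_eq] at key
    refine eq_top_iff.2 (hsupC ▸ sup_le le_rfl fun x hx => ?_)
    obtain ⟨w, hw, hw'⟩ := Subgroup.mem_inf.1 (key.le (show (x : G) ∈ (P : Subgroup G) from hx)) |>.2
    rwa [← Subtype.ext (show (w : G) = x from hw')]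
  · intro h
    rw [h, ← MonoidHom.range_eq_map, Subgroup.range_subtype, inf_eq_left.2 hPC] at key
    exact eq_top_iff.2 (hsupG ▸ sup_le le_rfl (key.symm.le.trans inf_le_right))

end Cfsg.Agent.S1183
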