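import Cfsg.Statements.S1186
import Cfsg.Agent.Lib.Invol.Isolated

set_option autoImplicit false
open Cfsg

namespace Cfsg.Agent.S1186

/-- Let z be an isolated involution of the finite group G, C = C_G(z), K the set of elements of odd order inverted by z, and s an involution of C. Then |G| = |C| · |C_K(sz)| · |C_K(s)|. -/
theorem result {G : Type*} [Group G] [Finite G] (z : G) (hz : Cfsg.IsIsolatedInvolution z) (s : G) (hs : orderOf s = 2) (hsz : Commute s z) : Nat.card G = Nat.card (Subgroup.centralizer ({z} : Set G)) * Nat.card {k : G // Odd (orderOf k) ∧ z * k * z⁻¹ = k⁻¹ ∧ Commute k (s * z)} * Nat.card {k : G // Odd (orderOf k) ∧ z * k * z⁻¹ = k⁻¹ ∧ Commute k s} := by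
  rw [← CfsgLib.Invol.card_class_mul_card_centralizer z, mul_assoc, mul_comm]
  congr 1
  rw [← Nat.card_prod]
  have hso : orderOf z = 2 := hz.1
  -- conjugation by an element centralising `z`
  have hfix : ∀ c k : G, Commute c z → (Odd (orderOf k) ∧ z * k * z⁻¹ = k⁻¹) →
      Commute c (k * z * k⁻¹) → Commute k c := by
    intro c k hc hk hck
    have h2 : (c * k * c⁻¹) * z * (c * k * c⁻¹)⁻¹ = k * z * k⁻¹ := by
      calc _ = c * (k * (c⁻¹ * z * c) * k⁻¹) * c⁻¹ := by group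
        _ = c * (k * z * k⁻¹) * c⁻¹ := by
          rw [mul_assoc c⁻¹ z c, ← hc.eq, inv_mul_cancel_left]
        _ = _ := by rw [hck.eq, mul_inv_cancel_right]
    have h1 : Odd (orderOf (c * k * c⁻¹)) ∧ z * (c * k * c⁻¹) * z⁻¹ = (c * k * c⁻¹)⁻¹ := by
      refine ⟨by rw [CfsgLib.Invol.orderOf_conj_eq]; exact hk.1, ?_⟩
      calc z * (c * k * c⁻¹) * z⁻¹ = (z * c) * k * (z * c)⁻¹ := by group
        _ = (c * z) * k * (c * z)⁻¹ := by rw [hc.eq]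
        _ = c * (z * k * z⁻¹) * c⁻¹ := by group
        _ = _ := by rw [hk.2]; group
    have := (CfsgLib.Invol.isolated_existsUnique hz (isConj_iff.2 ⟨k, rfl⟩)).unique
      ⟨h1, h2⟩ ⟨hk, rfl⟩
    exact (mul_inv_eq_iff_eq_mul.1 this).symm
  symm
  let f : {k : G // Odd (orderOf k) ∧ z * k * z⁻¹ = k⁻¹ ∧ Commute k (s * z)} ×
      {k : G // Odd (orderOf k) ∧ z * k * z⁻¹ = k⁻¹ ∧ Commute k s} → {t : G // IsConj z t} :=
    fun p => ⟨(p.2.1 * p.1.1) * z * (p.2.1 * p.1.1)⁻¹, isConj_iff.2 ⟨_, rfl⟩⟩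
  -- `b z b⁻¹` conjugates `w = b a z a⁻¹ b⁻¹` to `s w s⁻¹`
  have hmid : ∀ a b : G, Commute a (s * z) → Commute b s →
      (b * z * b⁻¹) * ((b * a) * z * (b * a)⁻¹) * (b * z * b⁻¹)⁻¹ =
        s * ((b * a) * z * (b * a)⁻¹) * s⁻¹ := by
    intro a b ha hb
    have e : s * (a * z * a⁻¹) * s⁻¹ = z * (a * z * a⁻¹) * z⁻¹ := by
      have hsz' : Commute (s * z) (a * z * a⁻¹) :=
        (ha.symm.mul_right ((hsz.mul_left (Commute.refl z)))).mul_right ha.symm.inv_right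
      have h := mul_inv_eq_iff_eq_mul.2 hsz'.eq
      calc s * (a * z * a⁻¹) * s⁻¹
          = z⁻¹ * ((z * s) * (a * z * a⁻¹) * (z * s)⁻¹) * z := by group
        _ = z⁻¹ * ((s * z) * (a * z * a⁻¹) * (s * z)⁻¹) * z := by rw [hsz.eq]
        _ = z * (a * z * a⁻¹) * z⁻¹ := by rw [h, CfsgLib.Invol.invol_inv hso]
    calc _ = b * (z * (a * z * a⁻¹) * z⁻¹) * b⁻¹ := by group
      _ = b * (s * (a * z * a⁻¹) * s⁻¹) * b⁻¹ := by rw [e]
      _ = (b * s) * (a * z * a⁻¹) * (b * s)⁻¹ := by group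
      _ = _ := by rw [hb.eq]; group
  refine Nat.card_eq_of_bijective f ⟨?_, ?_⟩
  · rintro ⟨⟨a, ha1, ha2, ha3⟩, ⟨b, hb1, hb2, hb3⟩⟩ ⟨⟨a', ha1', ha2', ha3'⟩, ⟨b', hb1', hb2', hb3'⟩⟩ heq
    have heq' : (b * a) * z * (b * a)⁻¹ = (b' * a') * z * (b' * a')⁻¹ := congrArg Subtype.val heq
    have hx := (CfsgLib.Invol.isolated_midpoint hz (isConj_iff.2 ⟨b * a, rfl⟩)
      (isConj_iff.2 ⟨s * (b * a), by group⟩ : IsConj z (s * ((b * a) * z * (b * a)⁻¹) * s⁻¹))).unique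
      ⟨isConj_iff.2 ⟨b, rfl⟩, hmid a b ha3 hb3⟩
      ⟨isConj_iff.2 ⟨b', rfl⟩, heq' ▸ hmid a' b' ha3' hb3'⟩
    have hbb : b = b' := (CfsgLib.Invol.isolated_existsUnique hz (isConj_iff.2 ⟨b, rfl⟩)).unique
      ⟨⟨hb1, hb2⟩, rfl⟩ ⟨⟨hb1', hb2'⟩, hx.symm⟩
    subst hbb
    have ha : a * z * a⁻¹ = a' * z * a'⁻¹ := by
      simpa [mul_assoc] using congrArg (fun w => b⁻¹ * w * b) heq'
    have haa : a = a' := (CfsgLib.Invol.isolated_existsUnique hz (isConj_iff.2 ⟨a, rfl⟩)).unique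
      ⟨⟨ha1, ha2⟩, rfl⟩ ⟨⟨ha1', ha2'⟩, ha.symm⟩
    subst haa
    rfl
  · rintro ⟨w, hw⟩
    obtain ⟨g, rfl⟩ := isConj_iff.1 hw
    have hv : IsConj z (s * (g * z * g⁻¹) * s⁻¹) := isConj_iff.2 ⟨s * g, by group⟩
    obtain ⟨x, ⟨hxc, hxw⟩, hxu⟩ := CfsgLib.Invol.isolated_midpoint hz hw hv
    have hxo : orderOf x = 2 := by rw [CfsgLib.Invol.orderOf_eq_of_isConj hxc, hz.1]
    have hxs : s * x * s⁻¹ = x := hxu _ ⟨by
      obtain ⟨k, rfl⟩ := isConj_iff.1 hxc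
      refine isConj_iff.2 ⟨s * k, by group⟩, by
      have hs2 := CfsgLib.Invol.invol_inv hs
      have h2 : x * (s * (g * z * g⁻¹) * s⁻¹) * x⁻¹ = g * z * g⁻¹ := by
        rw [← hxw, ← mul_assoc, ← mul_assoc, CfsgLib.Invol.invol_mul_self hxo, one_mul, mul_assoc,
          ← mul_inv_rev, CfsgLib.Invol.invol_mul_self hxo, inv_one, mul_one]
      generalize g * z * g⁻¹ = w at h2 ⊢
      calc (s * x * s⁻¹) * w * (s * x * s⁻¹)⁻¹ = s * (x * (s⁻¹ * w * s) * x⁻¹) * s⁻¹ := by group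
        _ = s * (x * (s * w * s⁻¹) * x⁻¹) * s⁻¹ := by rw [hs2]
        _ = _ := by rw [h2]⟩
    obtain ⟨b, ⟨hb, hbx⟩, -⟩ := CfsgLib.Invol.isolated_existsUnique hz hxc
    have hbs : Commute b s := hfix s b hsz hb (by rw [hbx]; exact mul_inv_eq_iff_eq_mul.1 hxs)
    obtain ⟨a, ⟨ha, haw⟩, -⟩ := CfsgLib.Invol.isolated_existsUnique hz
      (isConj_iff.2 ⟨b⁻¹ * g, rfl⟩ : IsConj z (b⁻¹ * g * z * (b⁻¹ * g)⁻¹))
    have has : Commute a (s * z) := by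
      refine hfix (s * z) a (hsz.mul_left (Commute.refl z)) ha ?_
      rw [haw]
      refine mul_inv_eq_iff_eq_mul.1 ?_
      have hz2 := CfsgLib.Invol.invol_inv hso
      have hbs' : s * b⁻¹ = b⁻¹ * s := hbs.symm.inv_right.eq
      -- `z y z⁻¹ = s y s⁻¹` for `y = b⁻¹ g z g⁻¹ b`
      have e : z * (b⁻¹ * g * z * (b⁻¹ * g)⁻¹) * z⁻¹ = s * (b⁻¹ * g * z * (b⁻¹ * g)⁻¹) * s⁻¹ := by
        rw [← hbx] at hxw
        calc z * (b⁻¹ * g * z * (b⁻¹ * g)⁻¹) * z⁻¹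
            = b⁻¹ * ((b * z * b⁻¹) * (g * z * g⁻¹) * (b * z * b⁻¹)⁻¹) * b := by group
          _ = _ := by
            rw [hxw]
            calc b⁻¹ * (s * (g * z * g⁻¹) * s⁻¹) * b = (b⁻¹ * s) * (g * z * g⁻¹) * (b⁻¹ * s)⁻¹ := by
                  group
              _ = _ := by rw [← hbs']; group
      calc (s * z) * (b⁻¹ * g * z * (b⁻¹ * g)⁻¹) * (s * z)⁻¹
          = s * (z * (b⁻¹ * g * z * (b⁻¹ * g)⁻¹) * z⁻¹) * s⁻¹ := by group
        _ = s * s * (b⁻¹ * g * z * (b⁻¹ * g)⁻¹) * (s * s)⁻¹ := by rw [e]; group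
        _ = _ := by rw [CfsgLib.Invol.invol_mul_self hs, one_mul, inv_one, mul_one]
    refine ⟨(⟨a, ha.1, ha.2, has⟩, ⟨b, hb.1, hb.2, hbs⟩), Subtype.ext ?_⟩
    show (b * a) * z * (b * a)⁻¹ = g * z * g⁻¹
    calc _ = b * (a * z * a⁻¹) * b⁻¹ := by group
      _ = _ := by rw [haw]; group

end Cfsg.Agent.S1186
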