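import Cfsg.Statements.S1187
import Cfsg.Agent.Lib.Invol.InvarSylow

set_option autoImplicit false
open Cfsg

namespace Cfsg.Agent.S1187

/-- Let z be an isolated involution of the finite group G and p a prime. If Q is a p-subgroup normalized by z that is maximal among p-subgroups normalized by z, then Q is a Sylow p-subgroup of G. -/
theorem result {G : Type*} [Group G] [Finite G] (z : G) (hz : Cfsg.IsIsolatedInvolution z) {p : ℕ} [Fact p.Prime] (Q : Subgroup G) (hQ : IsPGroup p Q) (hzQ : z ∈ Subgroup.normalizer (Q : Set G)) (hmax : ∀ R : Subgroup G, IsPGroup p R → z ∈ Subgroup.normalizer (R : Set G) → Q ≤ R → R = Q) : ∃ P : Sylow p G, (P : Subgroup G) = Q := by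
  rcases eq_or_ne p 2 with rfl | hp2
  · obtain ⟨P, hP⟩ := hQ.exists_le_sylow
    have hQz : IsPGroup 2 (Q ⊔ Subgroup.zpowers z : Subgroup G) :=
      hQ.to_sup_of_normal_left' (CfsgLib.Invol.isPGroup_zpowers_of_invol hz.1) (Subgroup.zpowers_le.2 hzQ)
    have hzQ' : z ∈ Q := by
      have := hmax _ hQz (Subgroup.le_normalizer (Subgroup.mem_sup_right (Subgroup.mem_zpowers z))) le_sup_left
      exact this ▸ Subgroup.mem_sup_right (Subgroup.mem_zpowers z)
    exact ⟨P, hmax P P.2 (Subgroup.le_normalizer (hP hzQ')) hP⟩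
  · obtain ⟨P, hP⟩ := hQ.exists_le_sylow
    by_cases hPQ : (P : Subgroup G) = Q
    · exact ⟨P, hPQ⟩
    exfalso
    set N := Subgroup.normalizer (Q : Set G)
    obtain ⟨R, hR⟩ := CfsgLib.Invol.exists_invariant_sylow (CfsgLib.Invol.isolated_subtype hz N hzQ) p
    set R' := (R : Subgroup N).map N.subtype
    have hR'z : z ∈ Subgroup.normalizer (R' : Set G) := by
      exact Subgroup.le_normalizer_map N.subtype ⟨⟨z, hzQ⟩, hR, rfl⟩
    have hQR : Q ≤ R' := by
      intro x hx
      have : (Q.comap N.subtype).Normal := Subgroup.normal_in_normalizer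
      refine ⟨⟨x, Subgroup.le_normalizer hx⟩, ?_, rfl⟩
      exact (hQ.comap_subtype (K := N)).le_sylow_of_normal R (Subgroup.mem_subgroupOf.2 hx)
    have hR'Q := hmax R' (R.2.map _) hR'z hQR
    -- a larger subgroup in the normalizer
    have hlt : Q < (P : Subgroup G) := lt_of_le_of_ne hP (Ne.symm hPQ)
    have := P.2.isNilpotent
    have hnc := Group.normalizerCondition_of_isNilpotent (G := (P : Subgroup G)) (Q.subgroupOf P) (by
      rw [lt_top_iff_ne_top, Ne, Subgroup.subgroupOf_eq_top]
      exact not_le_of_gt hlt)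
    obtain ⟨x, hx, hxQ⟩ := SetLike.exists_of_lt hnc
    have hxN : (x : G) ∈ N := by
      have h1 := Subgroup.le_normalizer_map (H := Q.subgroupOf P) (P : Subgroup G).subtype ⟨x, hx, rfl⟩
      rwa [Subgroup.map_subgroupOf_eq_of_le hP] at h1
    have hcard : Nat.card Q < Nat.card (((P : Subgroup G) ⊓ N : Subgroup G)) := by
      refine Set.ncard_lt_ncard (s := (Q : Set G)) (t := (((P : Subgroup G) ⊓ N : Subgroup G) : Set G))
        (SetLike.coe_ssubset_coe.2 (lt_of_le_of_ne (le_inf hP Subgroup.le_normalizer) fun h => ?_))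
      exact hxQ (Subgroup.mem_subgroupOf.2 (h ▸ ⟨x.2, hxN⟩))
    obtain ⟨R₀, hR₀⟩ := (P.2.to_le (inf_le_left : (P : Subgroup G) ⊓ N ≤ P)).comap_subtype (K := N) |>.exists_le_sylow
    have h1 : Nat.card (((P : Subgroup G) ⊓ N : Subgroup G)) ≤ Nat.card (R₀ : Subgroup N) := by
      rw [← Nat.card_congr (Subgroup.subgroupOfEquivOfLe (inf_le_right : (P : Subgroup G) ⊓ N ≤ N)).toEquiv]
      exact Subgroup.card_le_of_le hR₀
    rw [Sylow.card_eq_multiplicity, ← R.card_eq_multiplicity,
      Nat.card_congr ((R : Subgroup N).equivMapOfInjective _ N.subtype_injective).toEquiv] at h1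
    rw [show (R : Subgroup N).map N.subtype = Q from hR'Q] at h1
    omega

end Cfsg.Agent.S1187
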