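import Cfsg.Statements.S1189
import Cfsg.Agent.Lib.Invol.QDSubgroups

set_option autoImplicit false
open Cfsg

namespace Cfsg.Agent.S1189

/-- A quasi-dihedral 2-group has exactly two conjugacy classes of elements of order 2 and exactly two conjugacy classes of elements of order 4. -/
theorem result {S : Type*} [Group S] [Finite S] (hS : Cfsg.IsQuasiDihedral S) : Nat.card {C : ConjClasses S // ∃ t : S, orderOf t = 2 ∧ ConjClasses.mk t = C} = 2 ∧ Nat.card {C : ConjClasses S // ∃ t : S, orderOf t = 4 ∧ ConjClasses.mk t = C} = 2 := by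
  obtain ⟨D, -⟩ := CfsgLib.Invol.exists_qdData hS
  have hout : ∀ (s : S) (i j : ℤ), s * D.x ^ i * s⁻¹ ≠ D.x ^ j * D.y := by
    intro s i j h
    refine D.zpow_mul_y_notMem j (h ▸ ?_)
    have := Subgroup.normal_of_index_eq_two D.index_zpowers
    exact this.conj_mem _ (zpow_mem (Subgroup.mem_zpowers D.x) i) s
  have hshift : ∀ i j : ℤ, Even (j - i) → IsConj (D.x ^ i * D.y) (D.x ^ j * D.y) := fun i j h =>
    isConj_iff.2 ⟨_, (D.exists_conj_shift h).choose_spec⟩
  constructor
  · have hne : ConjClasses.mk D.z ≠ ConjClasses.mk (D.x ^ (0 : ℤ) * D.y) := by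
      rw [Ne, ConjClasses.mk_eq_mk_iff_isConj, isConj_iff]
      rintro ⟨s, hs⟩
      exact hout s _ _ hs
    have hset : {C : ConjClasses S | ∃ t : S, orderOf t = 2 ∧ ConjClasses.mk t = C} =
        {ConjClasses.mk D.z, ConjClasses.mk (D.x ^ (0 : ℤ) * D.y)} := by
      apply le_antisymm
      · rintro _ ⟨t, ht, rfl⟩
        rcases D.eq_of_orderOf_two ht with rfl | ⟨i, hi, rfl⟩
        · exact Or.inl rfl
        · exact Or.inr (ConjClasses.mk_eq_mk_iff_isConj.2 (hshift i 0 (by simpa using hi)))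
      · rintro _ (rfl | rfl)
        · exact ⟨_, D.orderOf_z, rfl⟩
        · exact ⟨_, D.orderOf_even_y Even.zero, rfl⟩
    exact (Nat.card_coe_set_eq {C : ConjClasses S | ∃ t : S, orderOf t = 2 ∧ ConjClasses.mk t = C}).trans
      (hset ▸ Set.ncard_pair hne)
  · have hord : orderOf (D.x ^ (D.m : ℤ)) = 4 := by
      rw [zpow_natCast, orderOf_pow' _ D.m_ne_zero, D.orderOf_x, Nat.gcd_eq_right ⟨4, by ring⟩,
        Nat.mul_div_cancel _ (by have := D.two_le; omega)]
    have hne : ConjClasses.mk (D.x ^ (D.m : ℤ)) ≠ ConjClasses.mk (D.x ^ (1 : ℤ) * D.y) := by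
      rw [Ne, ConjClasses.mk_eq_mk_iff_isConj, isConj_iff]
      rintro ⟨s, hs⟩
      exact hout s _ _ hs
    have hset : {C : ConjClasses S | ∃ t : S, orderOf t = 4 ∧ ConjClasses.mk t = C} =
        {ConjClasses.mk (D.x ^ (D.m : ℤ)), ConjClasses.mk (D.x ^ (1 : ℤ) * D.y)} := by
      apply le_antisymm
      · rintro _ ⟨t, ht, rfl⟩
        rcases D.cases t with ⟨i, rfl⟩ | ⟨i, rfl⟩
        · left
          rw [ConjClasses.mk_eq_mk_iff_isConj]
          have h4 := pow_orderOf_eq_one (D.x ^ i)
          rw [ht, ← zpow_natCast, ← zpow_mul, D.zpow_eq_one_iff] at h4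
          obtain ⟨c, hc⟩ := h4
          have hi : i = (D.m : ℤ) * c := by push_cast at hc; linarith
          have hco : Odd c := by
            rw [← Int.not_even_iff_odd]
            rintro ⟨d, rfl⟩
            have : (D.x ^ i) ^ 2 = 1 := by
              rw [← zpow_natCast, ← zpow_mul, D.zpow_eq_one_iff]
              exact ⟨d, by rw [hi]; push_cast; ring⟩
            have h' := Nat.le_of_dvd (by norm_num) (orderOf_dvd_of_pow_eq_one this)
            omega
          obtain ⟨d, rfl⟩ := hco
          rcases Int.even_or_odd' d with ⟨e, rfl | rfl⟩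
          · have : D.x ^ i = D.x ^ (D.m : ℤ) := by
              rw [D.zpow_eq_zpow_iff]; exact ⟨-e, by rw [hi]; ring⟩
            rw [this]
          · refine isConj_iff.2 ⟨D.y, ?_⟩
            rw [CfsgLib.Invol.conj_zpow_eq, D.conj_x, ← zpow_mul, D.zpow_eq_zpow_iff]
            obtain ⟨f, hf⟩ := D.even_m
            have hf' : (D.m : ℤ) = f + f := by exact_mod_cast hf
            refine ⟨1 - (f : ℤ) * (4 * e + 3) + e, ?_⟩
            rw [hi, hf']; ring
        · right
          refine ConjClasses.mk_eq_mk_iff_isConj.2 (hshift i 1 ?_)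
          rcases Int.even_or_odd i with hi | hi
          · rw [D.orderOf_even_y hi] at ht; omega
          · exact (odd_one.sub_odd hi)
      · rintro _ (rfl | rfl)
        · exact ⟨_, hord, rfl⟩
        · exact ⟨_, D.orderOf_odd_y odd_one, rfl⟩
    exact (Nat.card_coe_set_eq {C : ConjClasses S | ∃ t : S, orderOf t = 4 ∧ ConjClasses.mk t = C}).trans
      (hset ▸ Set.ncard_pair hne)

end Cfsg.Agent.S1189
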