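import Cfsg.Statements.S1192
import Cfsg.Agent.Lib.Invol.QDSubgroups

set_option autoImplicit false
open Cfsg

namespace Cfsg.Agent.S1192

/-- A quasi-dihedral group S of order 2^(n+1) has exactly three maximal subgroups; one is cyclic, one is isomorphic to the generalized quaternion group of order 2^n and one to the dihedral group of order 2^n. -/
theorem result {S : Type*} [Group S] [Finite S] (hS : Cfsg.IsQuasiDihedral S) (n : ℕ) (hn : Nat.card S = 2 ^ (n + 1)) : ∃ M₁ M₂ M₃ : Subgroup S, IsCoatom M₁ ∧ IsCoatom M₂ ∧ IsCoatom M₃ ∧ M₁ ≠ M₂ ∧ M₁ ≠ M₃ ∧ M₂ ≠ M₃ ∧ (∀ M : Subgroup S, IsCoatom M → M = M₁ ∨ M = M₂ ∨ M = M₃) ∧ IsCyclic M₁ ∧ Nonempty (M₂ ≃* QuaternionGroup (2 ^ (n - 2))) ∧ Nonempty (M₃ ≃* DihedralGroup (2 ^ (n - 1))) := by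
  obtain ⟨D, n', hn', hm, hc⟩ := CfsgLib.Invol.exists_qdData hS
  obtain rfl : n = n' := Nat.succ_injective (Nat.pow_right_injective le_rfl (hn.symm.trans hc))
  refine ⟨Subgroup.zpowers D.x, D.quatMax, D.dihMax,
    CfsgLib.Invol.isCoatom_of_index_two D.index_zpowers,
    CfsgLib.Invol.isCoatom_of_index_two D.index_quatMax,
    CfsgLib.Invol.isCoatom_of_index_two D.index_dihMax,
    D.zpowers_ne_quatMax, D.zpowers_ne_dihMax, D.quatMax_ne_dihMax,
    fun M hM => D.index_two_eq (CfsgLib.Invol.index_two_of_isCoatom (D.isPGroup_of_m hm) hM),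
    inferInstance, ?_, ?_⟩
  · rw [← hm]; exact D.quatMax_equiv
  · rw [show n - 1 = n - 2 + 1 by omega, pow_succ', ← hm]; exact D.dihMax_equiv

end Cfsg.Agent.S1192
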