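import Cfsg.Statements.S1193
import Cfsg.Agent.Lib.Invol.QDSubgroups

set_option autoImplicit false
open Cfsg

namespace Cfsg.Agent.S1193

/-- Let S be quasi-dihedral of order 2^(n+1). Then S' = Φ(S) is cyclic of order 2^(n-1), the centre of S has order 2, and the subgroup generated by the involutions of S is dihedral of order 2^n. -/
theorem result {S : Type*} [Group S] [Finite S] (hS : Cfsg.IsQuasiDihedral S) (n : ℕ) (hn : Nat.card S = 2 ^ (n + 1)) : commutator S = frattini S ∧ IsCyclic (commutator S) ∧ Nat.card (commutator S) = 2 ^ (n - 1) ∧ Nat.card (Subgroup.center S) = 2 ∧ Nonempty (↥(Subgroup.closure {x : S | orderOf x = 2}) ≃* DihedralGroup (2 ^ (n - 1))) := by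
  obtain ⟨D, n', hn', hm, hc⟩ := CfsgLib.Invol.exists_qdData hS
  obtain rfl : n = n' := Nat.succ_injective (Nat.pow_right_injective le_rfl (hn.symm.trans hc))
  have h2m : 2 ^ (n - 1) = 2 * D.m := by rw [hm, show n - 1 = n - 2 + 1 by omega, pow_succ']
  refine ⟨by rw [D.commutator_eq, D.frattini_eq hm], ?_, ?_, ?_, ?_⟩
  · rw [D.commutator_eq]; infer_instance
  · rw [D.commutator_eq, Nat.card_zpowers, D.orderOf_x_sq, h2m]
  · rw [D.center_eq, Nat.card_zpowers, D.orderOf_z]
  · have hΩ : Subgroup.closure {x : S | orderOf x = 2} = D.dihMax := by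
      apply le_antisymm
      · rw [Subgroup.closure_le]
        intro s hs
        have hx2 : ∀ k : ℤ, D.x ^ (2 * k) ∈ D.dihMax := fun k => by
          rw [zpow_mul]; exact zpow_mem (Subgroup.subset_closure (by simp)) k
        rcases D.eq_of_orderOf_two hs with rfl | ⟨i, hi, rfl⟩
        · exact hx2 _
        · obtain ⟨k, rfl⟩ := hi
          rw [← two_mul]
          exact mul_mem (hx2 k) (Subgroup.subset_closure (by simp))
      · rw [CfsgLib.Invol.QDData.dihMax, Subgroup.closure_le]
        have hy : D.y ∈ Subgroup.closure {x : S | orderOf x = 2} :=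
          Subgroup.subset_closure D.orderOf_y
        rintro w (rfl | rfl)
        · have h1 : D.x ^ (2 : ℤ) * D.y ∈ Subgroup.closure {x : S | orderOf x = 2} :=
            Subgroup.subset_closure (D.orderOf_even_y even_two)
          have := mul_mem h1 (inv_mem hy)
          rwa [mul_inv_cancel_right] at this
        · exact hy
    rw [hΩ, h2m]
    exact D.dihMax_equiv

end Cfsg.Agent.S1193
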