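import Cfsg.Statements.S1194
import Cfsg.Agent.Lib.Invol.QDSubgroups

set_option autoImplicit false
open Cfsg

namespace Cfsg.Agent.S1194

/-- In a quasi-dihedral 2-group S, every proper normal subgroup is either a maximal subgroup or a cyclic subgroup contained in the derived subgroup S'. -/
theorem result {S : Type*} [Group S] [Finite S] (hS : Cfsg.IsQuasiDihedral S) (N : Subgroup S) [N.Normal] (hN : N ≠ ⊤) : IsCoatom N ∨ (IsCyclic N ∧ N ≤ commutator S) := by
  obtain ⟨D, n, -, -, hc⟩ := CfsgLib.Invol.exists_qdData hS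
  have := D.finite
  by_cases hy : ∀ s ∈ N, s ∈ Subgroup.zpowers D.x
  · by_cases hodd : ∃ i : ℤ, Odd i ∧ D.x ^ i ∈ N
    · left
      obtain ⟨i, ⟨k, rfl⟩, hi⟩ := hodd
      have hM : N = Subgroup.zpowers D.x := by
        refine le_antisymm hy (Subgroup.zpowers_le.2 ?_)
        -- an odd power generates the cyclic 2-group
        have hcop : IsCoprime (2 * k + 1) (orderOf D.x : ℤ) := by
          have h2k : IsCoprime (2 * k + 1) (2 : ℤ) := ⟨1, -k, by ring⟩
          obtain ⟨j, hj⟩ : ∃ j : ℕ, orderOf D.x = 2 ^ j := by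
            have := orderOf_dvd_natCard D.x
            rw [hc] at this
            obtain ⟨j, -, hj⟩ := (Nat.dvd_prime_pow Nat.prime_two).1 this
            exact ⟨j, hj⟩
          rw [hj]; push_cast
          exact h2k.pow_right
        obtain ⟨a, b, hab⟩ := hcop
        have : D.x = (D.x ^ (2 * k + 1)) ^ a := by
          rw [← zpow_mul]
          nth_rewrite 1 [← zpow_one D.x]
          rw [zpow_eq_zpow_iff_modEq, Int.modEq_iff_dvd]
          exact ⟨-b, by linarith⟩
        rw [this]
        exact zpow_mem hi a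
      rw [hM]
      exact CfsgLib.Invol.isCoatom_of_index_two D.index_zpowers
    · right
      have hle : N ≤ Subgroup.zpowers (D.x ^ (2 : ℤ)) := by
        intro s hs
        obtain ⟨i, rfl⟩ := hy s hs
        rcases Int.even_or_odd' i with ⟨k, rfl | rfl⟩
        · exact ⟨k, by simp only [← zpow_mul]⟩
        · exact absurd ⟨2 * k + 1, ⟨k, rfl⟩, hs⟩ hodd
      exact ⟨Subgroup.isCyclic_of_le hle, D.commutator_eq ▸ hle⟩
  · left
    push Not at hy
    obtain ⟨s, hsN, hs⟩ := hy
    rcases D.cases s with ⟨i, rfl⟩ | ⟨i, rfl⟩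
    · exact absurd (zpow_mem (Subgroup.mem_zpowers D.x) i) hs
    have hx2 : D.x ^ (2 : ℤ) ∈ N := by
      obtain ⟨a, ha⟩ := D.exists_conj_shift (i := i) (j := i + 2) ⟨1, by ring⟩
      have := mul_mem ((inferInstance : N.Normal).conj_mem _ hsN (D.x ^ a)) (inv_mem hsN)
      rw [ha, show i + 2 = 2 + i by ring, zpow_add, mul_assoc, mul_assoc, ← mul_assoc (D.x ^ i),
        mul_inv_cancel, mul_one] at this
      exact this
    have hle : ∃ M : Subgroup S, M.index = 2 ∧ M ≤ N := by
      rcases Int.even_or_odd' i with ⟨k, rfl | rfl⟩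
      · refine ⟨D.dihMax, D.index_dihMax, ?_⟩
        rw [CfsgLib.Invol.QDData.dihMax, Subgroup.closure_le]
        rintro w (rfl | rfl)
        · exact hx2
        · have := mul_mem (inv_mem (zpow_mem hx2 k)) hsN
          rwa [zpow_mul, inv_mul_cancel_left] at this
      · refine ⟨D.quatMax, D.index_quatMax, ?_⟩
        rw [CfsgLib.Invol.QDData.quatMax, Subgroup.closure_le]
        rintro w (rfl | rfl)
        · exact hx2
        · have := mul_mem (inv_mem (zpow_mem hx2 k)) hsN
          rwa [zpow_add, zpow_mul, mul_assoc, inv_mul_cancel_left] at this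
    obtain ⟨M, hM, hMN⟩ := hle
    have := ((CfsgLib.Invol.isCoatom_of_index_two hM).le_iff.1 hMN).resolve_left hN
    rw [this]
    exact CfsgLib.Invol.isCoatom_of_index_two hM

end Cfsg.Agent.S1194
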