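import Cfsg.Statements.S1195
import Cfsg.Agent.Lib.Invol.Wreathed

set_option autoImplicit false
open Cfsg

namespace Cfsg.Agent.S1195

/-- A wreathed 2-group has exactly three conjugacy classes of elements of order 2. -/
theorem result {S : Type*} [Group S] [Finite S] (hS : Cfsg.IsWreathed S) : Nat.card {C : ConjClasses S // ∃ t : S, orderOf t = 2 ∧ ConjClasses.mk t = C} = 3 := by
  obtain ⟨D⟩ := CfsgLib.Invol.exists_wrData hS
  have hN := D.N_eq_two_h
  have hne : ∀ i j : ℤ, ¬ IsConj (D.el i j) (D.el 0 0 * D.t) := by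
    intro i j h
    obtain ⟨c, hc⟩ := isConj_iff.1 h
    rcases D.cases c with ⟨a, b, rfl⟩ | ⟨a, b, rfl⟩
    · rw [D.conj_el] at hc; exact D.el_t_ne 0 0 _ _ hc.symm
    · rw [D.conj_el_by_t] at hc; exact D.el_t_ne 0 0 _ _ hc.symm
  have hze : ¬ IsConj D.z (D.el D.h 0) := by
    intro h
    obtain ⟨c, hc⟩ := isConj_iff.1 h
    rw [Subgroup.mem_center_iff.1 (D.mem_center_iff.2 ⟨D.h, rfl⟩ : D.z ∈ Subgroup.center S) c,
      mul_inv_cancel_right] at hc
    have h1 := Int.le_of_dvd (by have := D.h_pos; omega) (D.el_eq_iff.1 hc).2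
    have := D.h_pos
    omega
  have he2 : IsConj (D.el D.h 0) (D.el 0 D.h) := isConj_iff.2 ⟨D.el 0 0 * D.t, D.conj_el_by_t 0 0 D.h 0⟩
  set s : Set (ConjClasses S) := {ConjClasses.mk D.z, ConjClasses.mk (D.el D.h 0), ConjClasses.mk (D.el 0 0 * D.t)}
  have hset : {C : ConjClasses S | ∃ t : S, orderOf t = 2 ∧ ConjClasses.mk t = C} = s := by
    refine Set.eq_of_subset_of_subset ?_ ?_
    · rintro _ ⟨t, ht, rfl⟩
      have h2 := CfsgLib.Invol.invol_mul_self ht
      rcases D.cases t with ⟨i, j, rfl⟩ | ⟨i, j, rfl⟩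
      · rcases D.invol_mem_A (D.el_mem_A i j) h2 with h | h | h | h
        · exact absurd h (CfsgLib.Invol.invol_ne_one ht)
        · exact Or.inl (by rw [h])
        · exact Or.inr (Or.inl (by rw [h]))
        · exact Or.inr (Or.inl (by rw [h, ConjClasses.mk_eq_mk_iff_isConj]; exact he2.symm))
      · rw [D.sq_el_t, D.el_eq_one_iff] at h2
        refine Or.inr (Or.inr (ConjClasses.mk_eq_mk_iff_isConj.2 (isConj_iff.2 ⟨D.el (-i) 0, ?_⟩)))
        rw [D.conj_t_by_el, D.el_t_eq_iff]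
        refine ⟨⟨0, by ring⟩, ?_⟩
        rw [show j + 0 - -i - 0 = i + j by ring]; exact h2.1
    · rintro _ (rfl | rfl | rfl)
      · exact ⟨D.z, D.orderOf_z, rfl⟩
      · refine ⟨_, CfsgLib.Invol.invol_of_mul_self (D.sq_el_eq_one_iff.2 ⟨dvd_rfl, dvd_zero _⟩) fun h => ?_, rfl⟩
        have h1 := Int.le_of_dvd D.h_pos (D.el_eq_one_iff.1 h).1
        have := D.h_pos
        omega
      · refine ⟨_, CfsgLib.Invol.invol_of_mul_self (by rw [D.sq_el_t]; simp [D.el_zero]) fun h => ?_, rfl⟩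
        exact D.el_t_ne 0 0 0 0 (h.trans D.el_zero.symm)
  show Nat.card ({C : ConjClasses S | ∃ t : S, orderOf t = 2 ∧ ConjClasses.mk t = C} : Set _) = 3
  rw [hset, Nat.card_coe_set_eq, Set.ncard_eq_three]
  exact ⟨_, _, _, fun h => hze (ConjClasses.mk_eq_mk_iff_isConj.1 h),
    fun h => hne _ _ (ConjClasses.mk_eq_mk_iff_isConj.1 h),
    fun h => hne _ _ (ConjClasses.mk_eq_mk_iff_isConj.1 h), rfl⟩

end Cfsg.Agent.S1195
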