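import Cfsg.Statements.S1196
import Cfsg.Agent.Lib.Invol.Wreathed

set_option autoImplicit false
open Cfsg

namespace Cfsg.Agent.S1196

/-- A wreathed 2-group S of order 2^(2n+1) has a unique commutative subgroup of order 2^(2n), and this subgroup is isomorphic to the direct product of two cyclic groups of order 2^n. -/
theorem result {S : Type*} [Group S] [Finite S] (hS : Cfsg.IsWreathed S) (n : ℕ) (hn : Nat.card S = 2 ^ (2 * n + 1)) : (∃! U : Subgroup S, IsMulCommutative U ∧ Nat.card U = 2 ^ (2 * n)) ∧ ∀ U : Subgroup S, IsMulCommutative U → Nat.card U = 2 ^ (2 * n) → Nonempty (U ≃* Multiplicative (ZMod (2 ^ n) × ZMod (2 ^ n))) := by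
  obtain ⟨D⟩ := CfsgLib.Invol.exists_wrData hS
  obtain rfl : n = D.n := by
    have h := D.card_eq
    rw [hn] at h
    have := Nat.pow_right_injective le_rfl h
    omega
  have huniq : ∀ U : Subgroup S, IsMulCommutative U → Nat.card U = 2 ^ (2 * D.n) → U = D.A :=
    fun U hU hc => D.eq_A (fun a ha b hb => congrArg Subtype.val (mul_comm' (⟨a, ha⟩ : U) ⟨b, hb⟩)) hc
  refine ⟨⟨D.A, ⟨⟨⟨fun a b => Subtype.ext (D.A_commute a.2 b.2).eq⟩⟩, D.card_A⟩,
    fun U hU => huniq U hU.1 hU.2⟩, fun U hU hc => ?_⟩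
  rw [huniq U hU hc]
  have := NeZero.mk (n := 2 ^ D.n) (by positivity)
  let f : Multiplicative (ZMod (2 ^ D.n) × ZMod (2 ^ D.n)) → D.A := fun p =>
    ⟨D.el (p.toAdd.1.cast) (p.toAdd.2.cast), D.el_mem_A _ _⟩
  have key : ∀ {i j : ℤ}, ((i : ℤ) : ZMod (2 ^ D.n)) = (j : ZMod (2 ^ D.n)) → D.N ∣ i - j := by
    intro i j h
    rw [← D.natCast_pow, ← ZMod.intCast_eq_intCast_iff_dvd_sub]
    exact h.symm
  have hmul : ∀ p q, f (p * q) = f p * f q := by
    intro p q
    refine Subtype.ext ?_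
    simp only [f, Subgroup.coe_mul, D.el_mul, toAdd_mul, Prod.fst_add, Prod.snd_add]
    exact D.el_eq_iff.2 ⟨key (by push_cast [ZMod.intCast_zmod_cast]; rfl), key (by push_cast [ZMod.intCast_zmod_cast]; rfl)⟩
  have hinj : Function.Injective f := by
    intro p q h
    obtain ⟨h1, h2⟩ := D.el_eq_iff.1 (congrArg Subtype.val h)
    rw [← D.natCast_pow, ← ZMod.intCast_eq_intCast_iff_dvd_sub, ZMod.intCast_zmod_cast,
      ZMod.intCast_zmod_cast] at h1 h2
    exact Multiplicative.toAdd.injective (Prod.ext h1.symm h2.symm)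
  refine ⟨(MulEquiv.ofBijective (MonoidHom.mk' f hmul) (hinj.bijective_of_nat_card_le ?_)).symm⟩
  rw [D.card_A]
  simp [Nat.card_prod, two_mul, pow_add]

end Cfsg.Agent.S1196
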