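import Cfsg.Statements.S1197
import Cfsg.Agent.Lib.Invol.Wreathed

set_option autoImplicit false
open Cfsg

namespace Cfsg.Agent.S1197

open CfsgLib.Invol in
theorem commutator_eq {S : Type*} [Group S] (D : WrData S) :
    commutator S = Subgroup.zpowers (D.el 1 (-1)) := by
  refine le_antisymm ?_ (Subgroup.zpowers_le.2 ?_)
  · rw [commutator_def, Subgroup.commutator_le]
    intro g _ k _
    rw [commutatorElement_def, Subgroup.mem_zpowers_iff]
    rcases D.cases g with ⟨i, j, rfl⟩ | ⟨i, j, rfl⟩ <;> rcases D.cases k with ⟨a, b, rfl⟩ | ⟨a, b, rfl⟩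
    · exact ⟨0, by rw [D.conj_el, mul_inv_cancel]; simp⟩
    · refine ⟨i - j, ?_⟩
      rw [D.conj_t_by_el, D.inv_t, D.mul_t_mul_t, D.el_zpow, D.el_eq_iff]
      exact ⟨⟨0, by ring⟩, ⟨0, by ring⟩⟩
    · refine ⟨b - a, ?_⟩
      rw [D.conj_el_by_t, D.el_inv, D.el_mul, D.el_zpow, D.el_eq_iff]
      exact ⟨⟨0, by ring⟩, ⟨0, by ring⟩⟩
    · refine ⟨i + b - j - a, ?_⟩
      rw [D.mul_t_mul_t, D.inv_t, D.inv_t, D.el_mul_t, D.mul_t_mul_t, D.el_zpow, D.el_eq_iff]
      exact ⟨⟨0, by ring⟩, ⟨0, by ring⟩⟩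
  · rw [commutator_def]
    have h := Subgroup.commutator_mem_commutator (Subgroup.mem_top (D.el 1 0))
      (Subgroup.mem_top (D.el 0 0 * D.t))
    rw [commutatorElement_def, D.conj_t_by_el, D.inv_t, D.mul_t_mul_t] at h
    rwa [D.el_eq_iff.2 (⟨⟨0, by ring⟩, ⟨0, by ring⟩⟩ : D.N ∣ 1 - (0 + 1 - 0 + -0) ∧ D.N ∣ -1 - (0 + 0 - 1 + -0))]

/-- Let S be a wreathed 2-group of order 2^(2n+1). Then Z(S) is cyclic of order 2^n, the derived subgroup S' is cyclic of order 2^n, and S/Z(S) is isomorphic to the dihedral group of order 2^(n+1). -/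
theorem result {S : Type*} [Group S] [Finite S] (hS : Cfsg.IsWreathed S) (n : ℕ) (hn : Nat.card S = 2 ^ (2 * n + 1)) : IsCyclic (Subgroup.center S) ∧ Nat.card (Subgroup.center S) = 2 ^ n ∧ IsCyclic (commutator S) ∧ Nat.card (commutator S) = 2 ^ n ∧ Nonempty (S ⧸ Subgroup.center S ≃* DihedralGroup (2 ^ n)) := by
  obtain ⟨D⟩ := CfsgLib.Invol.exists_wrData hS
  obtain rfl : n = D.n := by
    have h := D.card_eq
    rw [hn] at h
    have := Nat.pow_right_injective le_rfl h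
    omega
  have hord : orderOf (D.el 1 (-1)) = 2 ^ D.n := by
    refine Nat.dvd_antisymm ?_ ?_
    · rw [← Int.natCast_dvd_natCast, orderOf_dvd_iff_zpow_eq_one, D.natCast_pow, D.el_zpow, one_mul,
        D.el_eq_one_iff]
      exact ⟨dvd_rfl, ⟨-1, by ring⟩⟩
    · rw [← Int.natCast_dvd_natCast, D.natCast_pow]
      have := zpow_natCast (D.el 1 (-1)) (orderOf (D.el 1 (-1)))
      rw [pow_orderOf_eq_one, D.el_zpow, one_mul, D.el_eq_one_iff] at this
      exact this.1
  refine ⟨?_, ?_, ?_, ?_, ?_⟩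
  · rw [D.center_eq]; infer_instance
  · rw [D.center_eq, Nat.card_zpowers, D.orderOf_el_one_one]
  · rw [commutator_eq D]; infer_instance
  · rw [commutator_eq D, Nat.card_zpowers, hord]
  have := NeZero.mk (n := 2 ^ D.n) (by positivity)
  let f : DihedralGroup (2 ^ D.n) → S ⧸ Subgroup.center S := fun p =>
    match p with
    | DihedralGroup.r k => (D.el (k.cast : ℤ) 0 : S)
    | DihedralGroup.sr k => (D.el 0 0 * D.t * D.el (k.cast : ℤ) 0 : S)
  have mk_eq : ∀ {i j a b : ℤ}, D.N ∣ (i - j) - (a - b) →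
      ((D.el i j : S) : S ⧸ Subgroup.center S) = (D.el a b : S) := by
    intro i j a b h
    refine QuotientGroup.eq.2 (D.mem_center_iff.2 ⟨a - i, ?_⟩)
    rw [D.el_inv, D.el_mul]
    refine D.el_eq_iff.2 ⟨⟨0, by ring⟩, ?_⟩
    rwa [show -j + b - (a - i) = i - j - (a - b) by ring]
  have mk_eq' : ∀ {i j a b : ℤ}, D.N ∣ (i - j) - (a - b) →
      ((D.el i j * D.t : S) : S ⧸ Subgroup.center S) = (D.el a b * D.t : S) := by
    intro i j a b h
    rw [QuotientGroup.mk_mul, QuotientGroup.mk_mul, mk_eq h]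
  have key : ∀ {i j : ℤ}, ((i : ℤ) : ZMod (2 ^ D.n)) = (j : ZMod (2 ^ D.n)) → D.N ∣ i - j := by
    intro i j h
    rw [← D.natCast_pow, ← ZMod.intCast_eq_intCast_iff_dvd_sub]
    exact h.symm
  have hmul : ∀ p q, f (p * q) = f p * f q := by
    rintro (u | u) (v | v) <;>
      simp only [DihedralGroup.r_mul_r, DihedralGroup.r_mul_sr, DihedralGroup.sr_mul_r,
        DihedralGroup.sr_mul_sr, f, ← QuotientGroup.mk_mul, D.el_mul, D.el_mul_t, D.mul_t_mul_el, D.mul_t_mul_t]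
    · refine mk_eq (key ?_); push_cast [ZMod.intCast_zmod_cast]; ring
    · refine mk_eq' (key ?_); push_cast [ZMod.intCast_zmod_cast]; ring
    · refine mk_eq' (key ?_); push_cast [ZMod.intCast_zmod_cast]; ring
    · refine mk_eq (key ?_); push_cast [ZMod.intCast_zmod_cast]; ring
  have hsurj : Function.Surjective f := by
    intro q
    obtain ⟨s, rfl⟩ := QuotientGroup.mk_surjective q
    rcases D.cases s with ⟨i, j, rfl⟩ | ⟨i, j, rfl⟩
    · refine ⟨DihedralGroup.r ((i - j : ℤ) : ZMod (2 ^ D.n)), mk_eq (key ?_)⟩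
      push_cast [ZMod.intCast_zmod_cast]; ring
    · refine ⟨DihedralGroup.sr ((j - i : ℤ) : ZMod (2 ^ D.n)), ?_⟩
      simp only [f, D.mul_t_mul_el]
      refine mk_eq' (key ?_)
      push_cast [ZMod.intCast_zmod_cast]; ring
  have hc : Nat.card (S ⧸ Subgroup.center S) = 2 * 2 ^ D.n := by
    have h := Subgroup.card_eq_card_quotient_mul_card_subgroup (Subgroup.center S)
    rw [D.card_eq, D.center_eq, Nat.card_zpowers, D.orderOf_el_one_one] at h
    rw [D.center_eq]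
    refine (Nat.eq_of_mul_eq_mul_right (Nat.two_pow_pos D.n) ?_).symm
    rw [← h]; ring
  refine ⟨(MulEquiv.ofBijective (MonoidHom.mk' f hmul)
    (hsurj.bijective_of_nat_card_le (by rw [hc, DihedralGroup.nat_card]))).symm⟩

end Cfsg.Agent.S1197
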