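import Cfsg.Statements.S1198
import Cfsg.Agent.Lib.Invol.Wreathed
import Cfsg.Agent.Lib.Invol.Klein

set_option autoImplicit false
open Cfsg

namespace Cfsg.Agent.S1198

open CfsgLib.Invol in
/-- The four-subgroup generated by the central involution and another one. -/
def fourSub {S : Type*} [Group S] (u v : S) (hu : u * u = 1) (hv : v * v = 1) (h : Commute u v) :
    Subgroup S where
  carrier := {1, u, v, u * v}
  one_mem' := Or.inl rfl
  mul_mem' := by
    have h1 : v * u = u * v := h.eq.symm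
    have h2 : u * (u * v) = v := by rw [← mul_assoc, hu, one_mul]
    have h3 : v * (u * v) = u := by rw [← mul_assoc, h1, mul_assoc, hv, mul_one]
    have h4 : u * v * u = v := by rw [mul_assoc, h1, h2]
    have h5 : u * v * v = u := by rw [mul_assoc, hv, mul_one]
    have h6 : u * v * (u * v) = 1 := by rw [← mul_assoc, h4, hv]
    intro a b ha hb
    rcases ha with rfl | rfl | rfl | rfl <;> rcases hb with rfl | rfl | rfl | rfl <;>
      simp [hu, hv, h1, h2, h3, h4, h5, h6]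
  inv_mem' := by
    have hu' : u⁻¹ = u := inv_eq_of_mul_eq_one_right hu
    have hv' : v⁻¹ = v := inv_eq_of_mul_eq_one_right hv
    intro a ha
    rcases ha with rfl | rfl | rfl | rfl <;> simp [hu', hv', h.eq]

theorem fourSub_klein {S : Type*} [Group S] {u v : S} (hu : u * u = 1) (hv : v * v = 1) (h : Commute u v)
    (h1 : u ≠ 1) (h2 : v ≠ 1) (h3 : u ≠ v) : IsKleinFour (fourSub u v hu hv h) := by
  have hc : Nat.card (fourSub u v hu hv h) = 4 := by
    show Nat.card ({1, u, v, u * v} : Set S) = 4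
    rw [Nat.card_coe_set_eq, Set.ncard_eq_four]
    refine ⟨1, u, v, u * v, h1.symm, h2.symm, ?_, h3, ?_, ?_, rfl⟩
    · exact fun e => h3 (by rw [← inv_eq_of_mul_eq_one_right hu]; exact inv_eq_of_mul_eq_one_right e.symm)
    · exact fun e => h2 (mul_eq_left.1 e.symm)
    · exact fun e => h1 (mul_eq_right.1 e.symm)
  refine ⟨hc, ?_⟩
  have hd : Monoid.exponent (fourSub u v hu hv h) ∣ 2 := Monoid.exponent_dvd.2 fun w => by
    refine orderOf_dvd_of_pow_eq_one (Subtype.ext ?_)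
    rw [pow_two]
    have huv : u * v * (u * v) = 1 := by
      rw [mul_assoc, ← mul_assoc v, ← h.eq, mul_assoc, hv, mul_one, hu]
    rcases w.2 with e | e | e | e <;> (try rw [Set.mem_singleton_iff] at e) <;> simp [Subgroup.coe_mul, e, hu, hv, huv]
  rcases (Nat.dvd_prime Nat.prime_two).1 hd with e | e
  · exfalso
    have : Subsingleton (fourSub u v hu hv h) := Monoid.exp_eq_one_iff.1 e
    rw [Nat.card_of_subsingleton (1 : fourSub u v hu hv h)] at hc
    omega
  · exact e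

theorem klein_eq_of_le {S : Type*} [Group S] {T U : Subgroup S} (hT : IsKleinFour T) (hU : IsKleinFour U)
    (h : T ≤ U) : T = U := by
  have : Finite U := Nat.finite_of_card_ne_zero (by rw [hU.card_four]; norm_num)
  exact Subgroup.eq_of_le_of_card_ge h (by rw [hT.card_four, hU.card_four])

/-- A wreathed 2-group S has a normal Klein four-subgroup T such that every Klein four-subgroup of S other than T is conjugate in S to any other such subgroup; in particular S has exactly two conjugacy classes of Klein four-subgroups. -/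
theorem result {S : Type*} [Group S] [Finite S] (hS : Cfsg.IsWreathed S) : ∃ T : Subgroup S, IsKleinFour T ∧ T.Normal ∧ (∃ T₀ : Subgroup S, IsKleinFour T₀ ∧ T₀ ≠ T) ∧ ∀ T₁ T₂ : Subgroup S, IsKleinFour T₁ → IsKleinFour T₂ → T₁ ≠ T → T₂ ≠ T → ∃ s : S, T₁.map (MulAut.conj s).toMonoidHom = T₂ := by
  obtain ⟨D⟩ := CfsgLib.Invol.exists_wrData hS
  have hN := D.N_eq_two_h
  have hz2 : D.z * D.z = 1 := CfsgLib.Invol.invol_mul_self D.orderOf_z
  have hz1 : D.z ≠ 1 := CfsgLib.Invol.invol_ne_one D.orderOf_z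
  have he1 : D.el D.h 0 * D.el D.h 0 = 1 := D.sq_el_eq_one_iff.2 ⟨dvd_rfl, dvd_zero _⟩
  have hh : ¬ D.N ∣ D.h := fun h => by
    have h1 := Int.le_of_dvd D.h_pos h
    have := D.h_pos
    omega
  have he1' : D.el D.h 0 ≠ 1 := fun h => hh (D.el_eq_one_iff.1 h).1
  have hze : D.z ≠ D.el D.h 0 := fun h => hh (by simpa using (D.el_eq_iff.1 h).2)
  set T := fourSub D.z (D.el D.h 0) hz2 he1 (D.el_commute _ _ _ _)
  have hT : IsKleinFour T := fourSub_klein _ _ _ hz1 he1' hze
  have he2T : D.el 0 D.h ∈ T := by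
    refine Or.inr (Or.inr (Or.inr ?_))
    rw [Set.mem_singleton_iff, CfsgLib.Invol.WrData.z, D.el_mul, D.el_eq_iff]
    exact ⟨⟨-1, by rw [hN]; ring⟩, ⟨0, by ring⟩⟩
  have hTA : ∀ a ∈ T, a ∈ D.A := by
    rintro a (rfl | rfl | rfl | rfl)
    · exact one_mem _
    · exact D.el_mem_A _ _
    · exact D.el_mem_A _ _
    · exact mul_mem (D.el_mem_A _ _) (D.el_mem_A _ _)
  have hmemT : ∀ a ∈ D.A, a * a = 1 → a ∈ T := by
    intro a ha h2
    rcases D.invol_mem_A ha h2 with h | h | h | h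
    · exact Or.inl h
    · exact Or.inr (Or.inl h)
    · exact Or.inr (Or.inr (Or.inl h))
    · exact h ▸ he2T
  have hTn : T.Normal := by
    refine ⟨fun a ha g => hmemT _ ?_ ?_⟩
    · exact (Subgroup.normal_of_index_eq_two D.index_A).conj_mem a (hTA a ha) g
    · rw [conj_mul, CfsgLib.Invol.klein_sq_eq_one hT ha, mul_one, mul_inv_cancel]
  have ht2 : (D.el 0 0 * D.t) * (D.el 0 0 * D.t) = 1 := by rw [D.sq_el_t]; simp [D.el_zero]
  have ht1 : D.el 0 0 * D.t ≠ 1 := fun h => D.el_t_ne 0 0 0 0 (h.trans D.el_zero.symm)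
  set T₀ := fourSub D.z (D.el 0 0 * D.t) hz2 ht2 (D.el_commute_t_iff.2 (by rw [sub_self]; exact dvd_zero _))
  have hT₀ : IsKleinFour T₀ := fourSub_klein _ _ _ hz1 ht1 fun h => D.el_t_ne 0 0 D.h D.h h.symm
  have hconj : ∀ T₁ : Subgroup S, IsKleinFour T₁ → T₁ ≠ T →
      ∃ s : S, T₁.map (MulAut.conj s).toMonoidHom = T₀ := by
    intro T₁ h₁ hne
    have hnA : ∃ a ∈ T₁, a ∉ D.A := by
      by_contra h
      push Not at h
      exact hne (klein_eq_of_le h₁ hT fun a ha => hmemT a (h a ha) (CfsgLib.Invol.klein_sq_eq_one h₁ ha))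
    obtain ⟨u, hu, huA⟩ := hnA
    have hu2 := CfsgLib.Invol.klein_sq_eq_one h₁ hu
    rcases D.cases u with ⟨i, j, rfl⟩ | ⟨i, j, rfl⟩
    · exact absurd (D.el_mem_A i j) huA
    rw [D.sq_el_t, D.el_eq_one_iff] at hu2
    set s := D.el (-i) 0
    have hsu : s * (D.el i j * D.t) * s⁻¹ = D.el 0 0 * D.t := by
      rw [D.conj_t_by_el, D.el_t_eq_iff]
      refine ⟨⟨0, by ring⟩, ?_⟩
      rw [show j + 0 - -i - 0 = i + j by ring]; exact hu2.1
    refine ⟨s, ?_⟩
    set T₂ := T₁.map (MulAut.conj s).toMonoidHom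
    have h₂ : IsKleinFour T₂ := by
      have eq := T₁.equivMapOfInjective (MulAut.conj s).toMonoidHom (MulEquiv.injective (MulAut.conj s))
      exact ⟨(Nat.card_congr eq.toEquiv).symm.trans h₁.card_four,
        (Monoid.exponent_eq_of_mulEquiv eq).symm.trans h₁.exponent_two⟩
    have htT₂ : D.el 0 0 * D.t ∈ T₂ := ⟨_, hu, hsu⟩
    refine klein_eq_of_le h₂ hT₀ fun a ha => ?_
    have ha2 := CfsgLib.Invol.klein_sq_eq_one h₂ ha
    have hcomm : Commute a (D.el 0 0 * D.t) :=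
      congrArg Subtype.val (mul_comm_of_exponent_two h₂.exponent_two (⟨a, ha⟩ : T₂) ⟨_, htT₂⟩)
    have central : ∀ b ∈ D.A, b * b = 1 → Commute b (D.el 0 0 * D.t) → b = 1 ∨ b = D.z := by
      rintro b ⟨p, q, rfl⟩ hb hc
      rcases D.invol_mem_A (D.el_mem_A p q) hb with h | h | h | h
      · exact Or.inl h
      · exact Or.inr h
      · rw [h, D.el_commute_t_iff, sub_zero] at hc; exact absurd hc hh
      · rw [h, D.el_commute_t_iff, zero_sub, dvd_neg] at hc; exact absurd hc hh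
    rcases D.cases a with ⟨p, q, rfl⟩ | ⟨p, q, rfl⟩
    · rcases central _ (D.el_mem_A p q) ha2 hcomm with h | h
      · exact Or.inl h
      · exact Or.inr (Or.inl h)
    · have hb2 : (D.el p q * D.t * (D.el 0 0 * D.t)) * (D.el p q * D.t * (D.el 0 0 * D.t)) = 1 :=
        CfsgLib.Invol.klein_sq_eq_one h₂ (mul_mem ha htT₂)
      have hbA : D.el p q * D.t * (D.el 0 0 * D.t) ∈ D.A := by rw [D.mul_t_mul_t]; exact D.el_mem_A _ _
      have hback : D.el p q * D.t = (D.el p q * D.t * (D.el 0 0 * D.t)) * (D.el 0 0 * D.t) := by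
        rw [mul_assoc _ (D.el 0 0 * D.t) (D.el 0 0 * D.t), ht2, mul_one]
      rcases central _ hbA hb2 (hcomm.mul_left (Commute.refl _)) with h | h
      · exact Or.inr (Or.inr (Or.inl (by rw [hback, h, one_mul])))
      · exact Or.inr (Or.inr (Or.inr (by rw [Set.mem_singleton_iff, hback, h])))
  refine ⟨T, hT, hTn, ⟨T₀, hT₀, fun h => ?_⟩, fun T₁ T₂ h₁ h₂ n₁ n₂ => ?_⟩
  · exact D.el_t_notMem_A 0 0 (hTA _ (h ▸ (Or.inr (Or.inr (Or.inl rfl)) : D.el 0 0 * D.t ∈ T₀)))
  · obtain ⟨s₁, e₁⟩ := hconj T₁ h₁ n₁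
    obtain ⟨s₂, e₂⟩ := hconj T₂ h₂ n₂
    refine ⟨s₂⁻¹ * s₁, ?_⟩
    rw [show (MulAut.conj (s₂⁻¹ * s₁)).toMonoidHom = (MulAut.conj s₂⁻¹).toMonoidHom.comp
      (MulAut.conj s₁).toMonoidHom by ext x; simp [mul_assoc], ← Subgroup.map_map, e₁, ← e₂,
      Subgroup.map_map]
    convert Subgroup.map_id T₂
    ext x; simp [mul_assoc]

end Cfsg.Agent.S1198
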