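import Cfsg.Statements.S1199
import Cfsg.Agent.Lib.Invol.Wreathed
import Cfsg.Agent.Lib.Invol.TwoGroups
import Mathlib.GroupTheory.SpecificGroups.Quaternion

set_option autoImplicit false
open Cfsg

namespace Cfsg.Agent.S1199

open CfsgLib.Invol in
theorem quat_facts {k : ℕ} (hk : 2 ≤ k) :
    (∀ v : QuaternionGroup k, v * v = 1 → v = 1 ∨ v = QuaternionGroup.a (k : ZMod (2 * k))) ∧
    (∀ v : QuaternionGroup k, (∀ u, v * v * u = u * (v * v)) → v * v * (v * v) = 1) ∧
    (∃ u v : QuaternionGroup k, u * v ≠ v * u) := by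
  have hne : NeZero k := ⟨by omega⟩
  have h2k : ((k : ℕ) : ZMod (2 * k)) + k = 0 := by
    rw [← Nat.cast_add, ← two_mul]; exact ZMod.natCast_self _
  have hkne : ((k : ℕ) : ZMod (2 * k)) ≠ 0 := by
    rw [Ne, ZMod.natCast_eq_zero_iff]
    intro h
    have := Nat.le_of_dvd (by omega) h
    omega
  refine ⟨?_, ?_, ?_⟩
  · rintro (i | i) hv
    · rw [QuaternionGroup.a_mul_a, ← QuaternionGroup.a_zero, QuaternionGroup.a.injEq] at hv
      have h2 : 2 * k ∣ 2 * i.val := by
        rw [← ZMod.natCast_eq_zero_iff]; push_cast [ZMod.natCast_zmod_val]; linear_combination hv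
      obtain ⟨c, hc⟩ := (Nat.mul_dvd_mul_iff_left two_pos).1 h2
      have hlt := ZMod.val_lt i
      have hc2 : c < 2 := by nlinarith
      rcases (show c = 0 ∨ c = 1 by omega) with rfl | rfl
      · left; rw [← QuaternionGroup.a_zero, ← ZMod.natCast_zmod_val i, hc, mul_zero, Nat.cast_zero]
      · right; rw [← ZMod.natCast_zmod_val i, hc, mul_one]
    · rw [QuaternionGroup.xa_mul_xa, add_sub_cancel_right, ← QuaternionGroup.a_zero,
        QuaternionGroup.a.injEq] at hv
      exact absurd hv hkne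
  · rintro (i | i) h
    · have h0 := h (QuaternionGroup.xa 0)
      simp only [QuaternionGroup.a_mul_a, QuaternionGroup.a_mul_xa, QuaternionGroup.xa_mul_a,
        QuaternionGroup.xa.injEq] at h0
      rw [QuaternionGroup.a_mul_a, QuaternionGroup.a_mul_a, ← QuaternionGroup.a_zero, QuaternionGroup.a.injEq]
      linear_combination -h0
    · simp [QuaternionGroup.xa_mul_xa, h2k]
  · refine ⟨QuaternionGroup.a 1, QuaternionGroup.xa 0, fun h => ?_⟩
    simp only [QuaternionGroup.a_mul_xa, QuaternionGroup.xa_mul_a, QuaternionGroup.xa.injEq] at h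
    have h2 : ((2 : ℕ) : ZMod (2 * k)) = 0 := by push_cast; linear_combination -h
    rw [ZMod.natCast_eq_zero_iff] at h2
    have := Nat.le_of_dvd (by omega) h2
    omega

/-- A wreathed 2-group S of order 2^(2n+1) has exactly one subgroup of order 2^(n+1) isomorphic to a generalized quaternion group, and that subgroup is normal in S. -/
theorem result {S : Type*} [Group S] [Finite S] (hS : Cfsg.IsWreathed S) (n : ℕ) (hn : Nat.card S = 2 ^ (2 * n + 1)) : (∃! Y : Subgroup S, Nat.card Y = 2 ^ (n + 1) ∧ Nonempty (Y ≃* QuaternionGroup (2 ^ (n - 1)))) ∧ ∀ Y : Subgroup S, Nat.card Y = 2 ^ (n + 1) → Nonempty (Y ≃* QuaternionGroup (2 ^ (n - 1))) → Y.Normal := by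
  obtain ⟨D⟩ := CfsgLib.Invol.exists_wrData hS
  obtain rfl : n = D.n := by
    have h := D.card_eq
    rw [hn] at h
    have := Nat.pow_right_injective le_rfl h
    omega
  have hN := D.N_eq_two_h
  set k := 2 ^ (D.n - 1) with hk
  have hkz : (k : ℤ) = D.h := by simp [k, CfsgLib.Invol.WrData.h]
  have h2k : 2 * k = 2 ^ D.n := by
    rw [hk, ← pow_succ']; congr 1; have := D.two_le; omega
  have hk2 : 2 ≤ k := by
    rw [hk]; exact le_self_pow₀ (by norm_num) (by have := D.two_le; omega)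
  have hkne : NeZero k := ⟨by omega⟩
  obtain ⟨F1, F2, u0, v0, huv⟩ := quat_facts hk2
  set r := D.el 1 (-1)
  set q := D.el D.h 0 * D.t
  have hr : orderOf r = 2 * k := by
    rw [h2k]
    refine Nat.dvd_antisymm ?_ ?_
    · rw [← Int.natCast_dvd_natCast, orderOf_dvd_iff_zpow_eq_one, D.natCast_pow, D.el_zpow, one_mul,
        D.el_eq_one_iff]
      exact ⟨dvd_rfl, ⟨-1, by ring⟩⟩
    · rw [← Int.natCast_dvd_natCast, D.natCast_pow]
      have := zpow_natCast r (orderOf r)
      rw [pow_orderOf_eq_one, D.el_zpow, one_mul, D.el_eq_one_iff] at this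
      exact this.1
  have hq : q * q = r ^ k := by
    rw [← zpow_natCast, D.el_zpow, D.sq_el_t, D.el_eq_iff, hkz]
    exact ⟨⟨0, by ring⟩, ⟨1, by rw [hN]; ring⟩⟩
  have hqr : q * r * q⁻¹ = r⁻¹ := by
    rw [D.conj_el_by_t, D.el_inv, D.el_eq_iff]
    exact ⟨⟨0, by ring⟩, ⟨0, by ring⟩⟩
  have hnot : q ∉ Subgroup.zpowers r := by
    rintro ⟨i, hi⟩
    simp only [r, D.el_zpow] at hi
    exact D.el_t_ne _ _ _ _ hi.symm
  obtain ⟨e0⟩ := CfsgLib.Invol.exists_mulEquiv_quaternion hr hq hqr hnot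
  set Y0 := Subgroup.closure ({r, q} : Set S)
  have hY0card : Nat.card Y0 = 2 ^ (D.n + 1) := by
    rw [Nat.card_congr e0.toEquiv, Nat.card_eq_fintype_card, QuaternionGroup.card, pow_succ, ← h2k]
    ring
  have hmem : ∀ a b : ℤ, D.N ∣ a + b → D.el a b ∈ Y0 := fun a b h => by
    have : r ^ a = D.el a b := by
      rw [D.el_zpow, D.el_eq_iff]
      exact ⟨⟨0, by ring⟩, by rw [show -1 * a - b = -(a + b) by ring]; exact h.neg_right⟩
    rw [← this]
    exact zpow_mem (Subgroup.subset_closure (Set.mem_insert r {q})) a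
  have hmem' : ∀ a b : ℤ, D.N ∣ a + b - D.h → D.el a b * D.t ∈ Y0 := fun a b h => by
    have : D.el (a - D.h) b * q = D.el a b * D.t := by
      rw [D.el_mul_t, D.el_t_eq_iff]; exact ⟨⟨0, by ring⟩, ⟨0, by ring⟩⟩
    rw [← this]
    refine mul_mem (hmem _ _ ?_) (Subgroup.subset_closure (Set.mem_insert_of_mem r rfl))
    rwa [show a - D.h + b = a + b - D.h by ring]
  have main : ∀ Y : Subgroup S, Nat.card Y = 2 ^ (D.n + 1) → Nonempty (Y ≃* QuaternionGroup k) → Y = Y0 := by
    rintro Y hc ⟨e⟩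
    refine Subgroup.eq_of_le_of_card_ge ?_ (by rw [hY0card, hc])
    set w : S := ((e.symm (QuaternionGroup.a (k : ZMod (2 * k))) : Y) : S) with hw
    have hinv : ∀ y ∈ Y, y * y = 1 → y = 1 ∨ y = w := fun y hy h2 =>
      (F1 (e ⟨y, hy⟩) (by rw [← map_mul, show (⟨y, hy⟩ : Y) * ⟨y, hy⟩ = 1 from Subtype.ext h2, map_one])).imp
        (fun h => congrArg Subtype.val (e.map_eq_one_iff.1 h))
        (fun h => congrArg Subtype.val (e.eq_symm_apply.2 h))
    have hw2 : w * w = 1 := by
      rw [hw, ← Subgroup.coe_mul, ← map_mul, QuaternionGroup.a_mul_a, ← Nat.cast_add, ← two_mul,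
        ZMod.natCast_self, QuaternionGroup.a_zero, map_one]
      rfl
    have hwc : ∀ y ∈ Y, Commute w y := by
      intro y hy
      obtain ⟨v, hv⟩ : ∃ v, e.symm v = ⟨y, hy⟩ := ⟨e ⟨y, hy⟩, e.symm_apply_apply _⟩
      have hyy : w = ((e.symm (QuaternionGroup.a (k : ZMod (2 * k))) : Y) : S) := rfl
      have h2k' : ((k : ℕ) : ZMod (2 * k)) + k = 0 := by
        rw [← Nat.cast_add, ← two_mul]; exact ZMod.natCast_self _
      have hcom : Commute (QuaternionGroup.a ((k : ℕ) : ZMod (2 * k))) v := by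
        rcases v with i | i
        · simp [commute_iff_eq, add_comm]
        · simp only [commute_iff_eq, QuaternionGroup.a_mul_xa, QuaternionGroup.xa_mul_a,
            QuaternionGroup.xa.injEq]
          linear_combination -h2k'
      have := congrArg Subtype.val ((hcom.map e.symm.toMonoidHom).eq)
      simp only [MulEquiv.coe_toMonoidHom, hv, Subgroup.coe_mul] at this
      exact this
    obtain ⟨y0, hy0, hy0A⟩ : ∃ y ∈ Y, y ∉ D.A := by
      by_contra h
      push Not at h
      refine huv (e.symm.injective (Subtype.ext ?_))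
      rw [map_mul, map_mul, Subgroup.coe_mul, Subgroup.coe_mul]
      exact (D.A_commute (h _ (Subtype.coe_prop _)) (h _ (Subtype.coe_prop _))).eq
    have central : ∀ a ∈ D.A, ∀ u : S, u ∉ D.A → Commute a u → a ∈ Subgroup.center S := by
      rintro a ⟨i, j, rfl⟩ u hu hau
      rcases D.cases u with ⟨p, q, rfl⟩ | ⟨p, q, rfl⟩
      · exact absurd (D.el_mem_A p q) hu
      · exact D.mem_center_iff.2 ⟨i, D.el_eq_iff.2 ⟨⟨0, by ring⟩, by
          rw [show j - i = -(i - j) by ring]; exact (D.el_commute_t_iff.1 hau).neg_right⟩⟩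
    have hwA : w ∈ D.A := by
      by_contra hwA
      refine huv (e.symm.injective (Subtype.ext ?_))
      rw [map_mul, map_mul, Subgroup.coe_mul, Subgroup.coe_mul]
      have hdec : ∀ x ∈ Y, x ∈ Subgroup.center S ∨ ∃ c ∈ Subgroup.center S, x = c * w := by
        intro x hx
        by_cases hxA : x ∈ D.A
        · exact Or.inl (central x hxA _ hwA (hwc x hx).symm)
        · refine Or.inr ⟨x * w, central _ ((D.mul_mem_A_iff hxA).2 hwA) _ hwA
            ((hwc x hx).symm.mul_left (Commute.refl w)), by rw [mul_assoc, hw2, mul_one]⟩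
      have cc : ∀ c ∈ Subgroup.center S, ∀ s, Commute c s := fun c hc s =>
        (Subgroup.mem_center_iff.1 hc s).symm
      rcases hdec _ (e.symm u0).2 with h1 | ⟨c1, h1, e1⟩
      · exact (cc _ h1 _).eq
      rcases hdec _ (e.symm v0).2 with h2 | ⟨c2, h2, e2⟩
      · exact (cc _ h2 _).symm.eq
      · rw [e1, e2]
        exact (((cc _ h1 c2).mul_right (cc _ h1 w)).mul_left ((cc _ h2 w).symm.mul_right (Commute.refl w))).eq
    have hsum : ∀ y ∈ Y, ∀ a b, y = D.el a b * D.t → D.N ∣ a + b - D.h := by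
      rintro y hy a b rfl
      have hyA := D.el_t_notMem_A a b
      have hsq : D.el a b * D.t * (D.el a b * D.t) = D.el (a + b) (a + b) := D.sq_el_t a b
      have hne : D.el a b * D.t * (D.el a b * D.t) ≠ 1 := fun h1 => by
        rcases hinv _ hy h1 with h | h
        · exact hyA (h ▸ one_mem _)
        · exact hyA (h ▸ hwA)
      have h4 := F2 (e ⟨_, hy⟩) (fun u => by
        obtain ⟨u, rfl⟩ := e.surjective u
        rw [← map_mul, ← map_mul, ← map_mul]
        refine congrArg e (Subtype.ext ?_)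
        show D.el a b * D.t * (D.el a b * D.t) * (u : S) = u * (D.el a b * D.t * (D.el a b * D.t))
        rw [hsq]
        exact (Subgroup.mem_center_iff.1 (D.mem_center_iff.2 ⟨_, rfl⟩) _).symm)
      rw [← map_mul, ← map_mul, e.map_eq_one_iff] at h4
      have h5 : D.el (a + b) (a + b) * D.el (a + b) (a + b) = 1 := by
        rw [← hsq]; exact congrArg Subtype.val h4
      obtain ⟨⟨c, hc⟩, -⟩ := D.sq_el_eq_one_iff.1 h5
      rcases Int.even_or_odd c with ⟨c', rfl⟩ | ⟨c', rfl⟩
      · refine absurd ?_ hne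
        rw [hsq, D.el_eq_one_iff]
        have : D.N ∣ a + b := ⟨c', by rw [hc, hN]; ring⟩
        exact ⟨this, this⟩
      · exact ⟨c', by rw [hc, hN]; ring⟩
    intro y hy
    rcases D.cases y with ⟨a, b, rfl⟩ | ⟨a, b, rfl⟩
    · refine hmem a b ?_
      rcases D.cases y0 with ⟨c, d, rfl⟩ | ⟨c, d, rfl⟩
      · exact absurd (D.el_mem_A c d) hy0A
      have h1 := hsum _ (mul_mem hy0 hy) (c + b) (d + a) (D.mul_t_mul_el c d a b)
      have h2 := hsum _ hy0 c d rfl
      have := dvd_sub h1 h2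
      rwa [show c + b + (d + a) - D.h - (c + d - D.h) = a + b by ring] at this
    · exact hmem' a b (hsum _ hy a b rfl)
  refine ⟨⟨Y0, ⟨hY0card, ⟨e0⟩⟩, fun Y hY => main Y hY.1 hY.2⟩, fun Y hc he => ⟨fun y hy g => ?_⟩⟩
  obtain ⟨e⟩ := he
  have eq := Y.equivMapOfInjective (MulAut.conj g).toMonoidHom (MulEquiv.injective (MulAut.conj g))
  have h1 := main _ ((Nat.card_congr eq.toEquiv).symm.trans hc) ⟨eq.symm.trans e⟩
  rw [← main Y hc ⟨e⟩] at h1
  exact h1 ▸ ⟨y, hy, rfl⟩

end Cfsg.Agent.S1199
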