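import Cfsg.Statements.S1200
import Cfsg.Agent.Lib.Invol.Wreathed

set_option autoImplicit false
open Cfsg

namespace Cfsg.Agent.S1200

/-- Let S be a wreathed 2-group of order 2^(2n+1) and Ω the subgroup generated by its involutions. Then Ω has order 2^(n+2) and S/Ω is cyclic: some s ∈ S together with Ω generates S. -/
theorem result {S : Type*} [Group S] [Finite S] (hS : Cfsg.IsWreathed S) (n : ℕ) (hn : Nat.card S = 2 ^ (2 * n + 1)) : Nat.card (Subgroup.closure {x : S | orderOf x = 2}) = 2 ^ (n + 2) ∧ ∃ s : S, Subgroup.closure {x : S | orderOf x = 2} ⊔ Subgroup.zpowers s = ⊤ := by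
  obtain ⟨D⟩ := CfsgLib.Invol.exists_wrData hS
  obtain rfl : n = D.n := by
    have h := D.card_eq
    rw [hn] at h
    have := Nat.pow_right_injective le_rfl h
    omega
  have hN := D.N_eq_two_h
  set B := Subgroup.closure {x : S | orderOf x = 2} with hB
  have hinv : ∀ a b : ℤ, D.N ∣ a + b → D.el a b * D.t ∈ B := fun a b h =>
    Subgroup.subset_closure (CfsgLib.Invol.invol_of_mul_self (by rw [D.sq_el_t, D.el_eq_one_iff]; exact ⟨h, h⟩)
      (fun h1 => D.el_t_ne a b 0 0 (h1.trans D.el_zero.symm)))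
  have ht : D.t ∈ B := Subgroup.subset_closure D.orderOf_t
  have he1 : D.el D.h 0 ∈ B := by
    refine Subgroup.subset_closure (CfsgLib.Invol.invol_of_mul_self (D.sq_el_eq_one_iff.2 ⟨dvd_rfl, dvd_zero _⟩)
      fun h => ?_)
    have h1 := Int.le_of_dvd D.h_pos (D.el_eq_one_iff.1 h).1
    have := D.h_pos
    omega
  have hA : ∀ a b : ℤ, D.h ∣ a + b → D.el a b ∈ B := by
    rintro a b ⟨c, hc⟩
    have h1 : ∀ a b : ℤ, D.N ∣ a + b → D.el a b ∈ B := fun a b h => by
      have h2 := mul_mem (hinv a b h) ht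
      rwa [mul_assoc, CfsgLib.Invol.invol_mul_self D.orderOf_t, mul_one] at h2
    rcases Int.even_or_odd c with ⟨c', rfl⟩ | ⟨c', rfl⟩
    · exact h1 a b ⟨c', by rw [hc, hN]; ring⟩
    · have h2 := mul_mem (h1 (a - D.h) b ⟨c', by rw [show a - D.h + b = a + b - D.h by ring, hc, hN]; ring⟩) he1
      rwa [D.el_mul, sub_add_cancel, add_zero] at h2
  have hle : ∀ x ∈ B, ∃ a b, D.h ∣ a + b ∧ (x = D.el a b ∨ x = D.el a b * D.t) := by
    intro x hx
    induction hx using Subgroup.closure_induction with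
    | mem y hy =>
      have h2 := CfsgLib.Invol.invol_mul_self (show orderOf y = 2 from hy)
      rcases D.cases y with ⟨a, b, rfl⟩ | ⟨a, b, rfl⟩
      · exact ⟨a, b, dvd_add (D.sq_el_eq_one_iff.1 h2).1 (D.sq_el_eq_one_iff.1 h2).2, Or.inl rfl⟩
      · rw [D.sq_el_t, D.el_eq_one_iff] at h2
        exact ⟨a, b, dvd_trans ⟨2, by rw [hN]; ring⟩ h2.1, Or.inr rfl⟩
    | one => exact ⟨0, 0, by simp, Or.inl D.el_zero.symm⟩
    | mul y w _ _ hy hw =>
      obtain ⟨a, b, hab, rfl | rfl⟩ := hy <;> obtain ⟨c, d, hcd, rfl | rfl⟩ := hw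
      · exact ⟨_, _, by rw [show a + c + (b + d) = a + b + (c + d) by ring]; exact dvd_add hab hcd,
          Or.inl (D.el_mul a b c d)⟩
      · exact ⟨_, _, by rw [show a + c + (b + d) = a + b + (c + d) by ring]; exact dvd_add hab hcd,
          Or.inr (D.el_mul_t a b c d)⟩
      · exact ⟨_, _, by rw [show a + d + (b + c) = a + b + (c + d) by ring]; exact dvd_add hab hcd,
          Or.inr (D.mul_t_mul_el a b c d)⟩
      · exact ⟨_, _, by rw [show a + d + (b + c) = a + b + (c + d) by ring]; exact dvd_add hab hcd,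
          Or.inl (D.mul_t_mul_t a b c d)⟩
    | inv y _ hy =>
      obtain ⟨a, b, hab, rfl | rfl⟩ := hy
      · exact ⟨_, _, by rw [show -a + -b = -(a + b) by ring]; exact hab.neg_right, Or.inl (D.el_inv a b)⟩
      · exact ⟨_, _, by rw [show -b + -a = -(a + b) by ring]; exact hab.neg_right, Or.inr (D.inv_t a b)⟩
  refine ⟨?_, D.el 1 0, ?_⟩
  · have h01 : ∀ e : Bool, D.h ∣ (if e then D.h else 0) := fun e => by cases e <;> simp
    let f : Bool × Bool × Fin (2 ^ D.n) → B := fun p =>
      if p.1 then ⟨D.el (p.2.2 : ℕ) ((if p.2.1 then D.h else 0) - (p.2.2 : ℕ)) * D.t,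
        mul_mem (hA _ _ (by rw [add_sub_cancel]; exact h01 _)) ht⟩
      else ⟨D.el (p.2.2 : ℕ) ((if p.2.1 then D.h else 0) - (p.2.2 : ℕ)),
        hA _ _ (by rw [add_sub_cancel]; exact h01 _)⟩
    have key : ∀ {u v : Fin (2 ^ D.n)}, D.N ∣ ((u : ℕ) : ℤ) - ((v : ℕ) : ℤ) → u = v := by
      intro u v h
      rw [← D.natCast_pow, ← Int.modEq_iff_dvd, Int.natCast_modEq_iff] at h
      exact Fin.ext (h.symm.eq_of_lt_of_lt u.2 v.2)
    have hh : ¬ D.N ∣ D.h := fun h => by
      have h1 := Int.le_of_dvd D.h_pos h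
      have := D.h_pos
      omega
    have keye : ∀ {e e' : Bool}, D.N ∣ (if e then D.h else 0) - (if e' then D.h else 0) → e = e' := by
      intro e e' h
      cases e <;> cases e' <;> simp_all [dvd_neg]
    have hf : Function.Injective f := by
      rintro ⟨b, e, u⟩ ⟨b', e', v⟩ h
      have hv := congrArg Subtype.val h
      cases b <;> cases b' <;> simp only [f, if_true, if_false, Bool.false_eq_true] at hv
      · rw [D.el_eq_iff] at hv
        obtain rfl := key hv.1
        obtain rfl := keye (e := e) (e' := e') (by simpa using hv.2)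
        rfl
      · exact absurd hv.symm (D.el_t_ne _ _ _ _)
      · exact absurd hv (D.el_t_ne _ _ _ _)
      · rw [D.el_t_eq_iff] at hv
        obtain rfl := key hv.1
        obtain rfl := keye (e := e) (e' := e') (by simpa using hv.2)
        rfl
    have hs : Function.Surjective f := by
      rintro ⟨x, hx⟩
      obtain ⟨a, b, ⟨c, hc⟩, hxe⟩ := hle x hx
      have hpos : (0 : ℤ) < D.N := D.N_pos
      set u : Fin (2 ^ D.n) := ⟨(a % D.N).toNat, by
        have h1 := Int.emod_lt_of_pos a hpos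
        have h2 := Int.emod_nonneg a hpos.ne'
        have h3 := D.natCast_pow
        omega⟩
      have hu : D.N ∣ ((u : ℕ) : ℤ) - a := by
        show D.N ∣ ((a % D.N).toNat : ℤ) - a
        rw [Int.toNat_of_nonneg (Int.emod_nonneg a hpos.ne')]
        exact ⟨-(a / D.N), by rw [Int.emod_def]; ring⟩
      obtain ⟨e, he⟩ : ∃ e : Bool, D.N ∣ (if e then D.h else 0) - (a + b) := by
        rcases Int.even_or_odd c with ⟨c', rfl⟩ | ⟨c', rfl⟩
        · exact ⟨false, -c', by simp [hc, hN]; ring⟩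
        · exact ⟨true, -c', by simp [hc, hN]; ring⟩
      have h2 : D.N ∣ ((if e then D.h else 0) - ((u : ℕ) : ℤ)) - b := by
        have h3 := dvd_sub he hu
        rwa [show ((if e then D.h else 0) - (a + b)) - (((u : ℕ) : ℤ) - a) =
          ((if e then D.h else 0) - ((u : ℕ) : ℤ)) - b by ring] at h3
      rcases hxe with h | h <;> subst h
      · exact ⟨(false, e, u), Subtype.ext (D.el_eq_iff.2 ⟨hu, h2⟩)⟩
      · exact ⟨(true, e, u), Subtype.ext (D.el_t_eq_iff.2 ⟨hu, h2⟩)⟩
    rw [← Nat.card_congr (Equiv.ofBijective f ⟨hf, hs⟩)]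
    simp only [Nat.card_eq_fintype_card, Fintype.card_prod, Fintype.card_bool, Fintype.card_fin]
    rw [pow_add]; ring
  · rw [eq_top_iff]
    intro x _
    have hAx : ∀ a b : ℤ, D.el a b ∈ B ⊔ Subgroup.zpowers (D.el 1 0) := fun a b => by
      have h1 : D.el a b = D.el (-b) b * (D.el 1 0) ^ (a + b) := by
        rw [D.el_zpow, D.el_mul, D.el_eq_iff]
        exact ⟨⟨0, by ring⟩, ⟨0, by ring⟩⟩
      rw [h1]
      exact mul_mem (Subgroup.mem_sup_left (hA _ _ (by rw [neg_add_cancel]; exact dvd_zero _)))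
        (Subgroup.mem_sup_right (Subgroup.zpow_mem _ (Subgroup.mem_zpowers _) _))
    rcases D.cases x with ⟨a, b, rfl⟩ | ⟨a, b, rfl⟩
    · exact hAx a b
    · exact mul_mem (hAx a b) (Subgroup.mem_sup_left ht)

end Cfsg.Agent.S1200
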