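import Cfsg.Statements.S1201
import Cfsg.Agent.Lib.Invol.Wreathed

set_option autoImplicit false
open Cfsg

namespace Cfsg.Agent.S1201

/-- If X is a non-commutative subgroup of a wreathed 2-group S, then Z(X) ≤ Z(S). -/
theorem result {S : Type*} [Group S] [Finite S] (hS : Cfsg.IsWreathed S) (X : Subgroup S) (hX : ¬ IsMulCommutative X) : (Subgroup.center X).map X.subtype ≤ Subgroup.center S := by
  obtain ⟨D⟩ := CfsgLib.Invol.exists_wrData hS
  rintro _ ⟨c, hc, rfl⟩
  have hcomm : ∀ x ∈ X, Commute (c : S) x := fun x hx =>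
    (congrArg Subtype.val (Subgroup.mem_center_iff.1 hc ⟨x, hx⟩)).symm
  obtain ⟨y, hy, hyA⟩ : ∃ y ∈ X, y ∉ D.A := by
    by_contra h
    push Not at h
    exact hX ⟨⟨fun a b => Subtype.ext (D.A_commute (h a a.2) (h b b.2)).eq⟩⟩
  have central : ∀ a ∈ D.A, ∀ u : S, u ∉ D.A → Commute a u → a ∈ Subgroup.center S := by
    rintro a ⟨i, j, rfl⟩ u hu hau
    rcases D.cases u with ⟨p, q, rfl⟩ | ⟨p, q, rfl⟩
    · exact absurd (D.el_mem_A p q) hu
    · exact D.mem_center_iff.2 ⟨i, D.el_eq_iff.2 ⟨⟨0, by ring⟩, by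
        rw [show j - i = -(i - j) by ring]; exact (D.el_commute_t_iff.1 hau).neg_right⟩⟩
  by_cases hcA : (c : S) ∈ D.A
  · exact central _ hcA y hyA (hcomm y hy)
  refine absurd ?_ hX
  have hdec : ∀ x ∈ X, x ∈ Subgroup.center S ∨ ∃ w ∈ Subgroup.center S, x = w * (c : S) := by
    intro x hx
    by_cases hxA : x ∈ D.A
    · exact Or.inl (central x hxA _ hcA (hcomm x hx).symm)
    · refine Or.inr ⟨x * (c : S)⁻¹, central _ ?_ _ hcA ?_, by group⟩
      · have h1 : (c : S)⁻¹ ∉ D.A := fun h => hcA ((inv_mem_iff).1 h)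
        exact (D.mul_mem_A_iff hxA).2 h1
      · exact (hcomm x hx).symm.mul_left ((Commute.refl (c : S)).inv_left)
  refine ⟨⟨fun a b => Subtype.ext ?_⟩⟩
  rcases hdec a a.2 with ha | ⟨w, hw, ha⟩
  · exact (Subgroup.mem_center_iff.1 ha _).symm
  rcases hdec b b.2 with hb | ⟨w', hw', hb⟩
  · exact Subgroup.mem_center_iff.1 hb _
  · show (a : S) * b = b * a
    have k1 : ∀ s, Commute w s := fun s => (Subgroup.mem_center_iff.1 hw s).symm
    have k2 : ∀ s, Commute w' s := fun s => (Subgroup.mem_center_iff.1 hw' s).symm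
    rw [ha, hb]
    exact (((k1 w').mul_right (k1 c)).mul_left (((k2 (c : S)).symm).mul_right (Commute.refl _))).eq

end Cfsg.Agent.S1201
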