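import Cfsg.Statements.S1202
import Cfsg.Agent.Lib.Invol.Wreathed
import Cfsg.Agent.Lib.Invol.TwoGroups
import Mathlib.GroupTheory.SpecificGroups.Quaternion

set_option autoImplicit false
open Cfsg

namespace Cfsg.Agent.S1202

open CfsgLib.Invol
open scoped commutatorElement

variable {S : Type*} [Group S] [Finite S] (D : WrData S)

/-- An odd automorphism fixing the square roots of `K` in an abelian part fixes that part modulo `K`. -/
theorem fix_mod {X : Subgroup S} (hX : IsPGroup 2 X) (β : MulAut X) (hβ : Odd (orderOf β))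
    (M K : Subgroup X) (hM : ∀ x ∈ M, β x ∈ M) (hK : ∀ x ∈ K, β x = x)
    (hcomm : ∀ a ∈ M, ∀ b ∈ M, Commute a b)
    (hKM : K ≤ M) (hsq : ∀ x ∈ M, x * x ∈ K → x⁻¹ * β x ∈ K) :
    ∀ x ∈ M, x⁻¹ * β x ∈ K := by
  suffices key : ∀ k, ∀ x ∈ M, x ^ 2 ^ k ∈ K → x⁻¹ * β x ∈ K by
    intro x hx
    obtain ⟨k, hk⟩ := hX x
    exact key k x hx (by rw [hk]; exact one_mem _)
  intro k
  induction k with
  | zero => intro x hx h; rw [pow_zero, pow_one] at h; rw [hK x h, inv_mul_cancel]; exact one_mem _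
  | succ k ih =>
    intro x hx h
    set d := x⁻¹ * β x with hd
    have hdM : d ∈ M := mul_mem (inv_mem hx) (hM x hx)
    have hd2 : d * d ∈ K := by
      have h1 := ih (x * x) (mul_mem hx hx) (by rw [← pow_two, ← pow_mul, ← pow_succ']; exact h)
      rwa [map_mul, mul_inv_rev, (hcomm _ (inv_mem hx) _ (hM x hx)).mul_mul_mul_comm] at h1
    have hdd := hsq d hdM hd2
    have hiter : ∀ j : ℕ, (x * d ^ j)⁻¹ * (β ^ j) x ∈ K := by
      intro j
      induction j with
      | zero => simp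
      | succ j ihj =>
        set κ := (x * d ^ j)⁻¹ * (β ^ j) x with hκ
        have e : (β ^ (j + 1)) x = β (x * d ^ j * κ) := by
          rw [pow_succ', MulAut.mul_apply, hκ, mul_inv_cancel_left]
        have hc : Commute (d⁻¹) (β d) := hcomm _ (inv_mem hdM) _ (hM d hdM)
        have e2 : (d⁻¹ * β d) ^ j = (d ^ j)⁻¹ * (β d) ^ j := by rw [hc.mul_pow, inv_pow]
        have e3 : (x * d ^ (j + 1))⁻¹ * (β ^ (j + 1)) x = (d⁻¹ * β d) ^ j * κ := by
          rw [e, map_mul, map_mul, hK κ ihj, map_pow, e2,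
            show β x = x * d by rw [hd, mul_inv_cancel_left]]
          simp only [pow_succ', mul_inv_rev, mul_assoc, inv_mul_cancel_left]
        rw [e3]
        exact mul_mem (pow_mem hdd j) ihj
    have h3 := hiter (orderOf β)
    rw [pow_orderOf_eq_one, MulAut.one_apply, mul_inv_rev, inv_mul_cancel_right, inv_mem_iff] at h3
    obtain ⟨j, hj⟩ := hβ
    rw [hj, pow_succ, pow_mul, pow_two] at h3
    exact (Subgroup.mul_mem_cancel_left K (pow_mem hd2 j)).1 h3

theorem isPGroup_aut {X : Subgroup S} (h : ∀ β : MulAut X, Odd (orderOf β) → β = 1) :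
    IsPGroup 2 (MulAut X) := by
  refine IsPGroup.of_card (Nat.eq_prime_pow_of_unique_prime_dvd Nat.card_pos.ne' fun {q} hq hqd => ?_)
  by_contra h2
  haveI := Fact.mk hq
  obtain ⟨β, hβ⟩ := exists_prime_orderOf_dvd_card' (G := MulAut X) q hqd
  rw [h β (hβ ▸ hq.odd_of_ne_two h2), orderOf_one] at hβ
  exact hq.ne_one hβ.symm

include D in
theorem isPGroup_sub (X : Subgroup S) : IsPGroup 2 X :=
  (IsPGroup.of_card D.card_eq).to_subgroup X

theorem not_dvd_h : ¬ D.N ∣ D.h := fun h => by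
  have h1 := Int.le_of_dvd D.h_pos h
  have := D.h_pos
  have := D.N_eq_two_h
  omega

/-- The diagonal elements are exactly the central ones. -/
theorem el_mem_center_iff {i j : ℤ} : D.el i j ∈ Subgroup.center S ↔ D.N ∣ i - j := by
  rw [D.mem_center_iff]
  constructor
  · rintro ⟨k, hk⟩
    rw [D.el_eq_iff] at hk
    have := dvd_sub hk.1 hk.2
    rwa [show i - k - (j - k) = i - j by ring] at this
  · exact fun h => ⟨i, D.el_eq_iff.2 ⟨⟨0, by ring⟩, by
      rw [show j - i = -(i - j) by ring]; exact h.neg_right⟩⟩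

/-- Odd automorphisms of a centric nonabelian subgroup fixing the abelian part are trivial. -/
theorem aut_trivial {X : Subgroup S} (hZ : Subgroup.center S ≤ X) {y : X} (hy : (y : S) ∉ D.A)
    (hnab : ∃ q : X, (q : S) ∈ D.A ∧ (q : S) ∉ Subgroup.center S)
    (β : MulAut X) (hβ : Odd (orderOf β)) (hinv : ∀ x : X, (x : S) ∈ D.A → ((β x : X) : S) ∈ D.A) :
    β = 1 := by
  have hX := isPGroup_sub D X
  set M : Subgroup X := D.A.subgroupOf X
  set K : Subgroup X := (Subgroup.center S).subgroupOf X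
  have hKc : ∀ k ∈ K, ∀ x : X, Commute k x := fun k hk x =>
    Subtype.ext (Subgroup.mem_center_iff.1 hk x).symm
  have hM : ∀ x ∈ M, β x ∈ M := fun x hx => hinv x hx
  have hMc : ∀ a ∈ M, ∀ b ∈ M, Commute a b := fun a ha b hb => Subtype.ext (D.A_commute ha hb).eq
  obtain ⟨q, hqA, hqZ⟩ := hnab
  -- the centre of `X` is `Z`
  have hKeq : ∀ x : X, x ∈ K ↔ ∀ v : X, Commute x v := by
    refine fun x => ⟨fun hx v => hKc x hx v, fun hx => ?_⟩
    rcases D.cases (x : S) with ⟨i, j, hi⟩ | ⟨i, j, hi⟩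
    · rcases D.cases (y : S) with ⟨a, b, hab⟩ | ⟨a, b, hab⟩
      · exact absurd (hab ▸ D.el_mem_A a b) hy
      show (x : S) ∈ Subgroup.center S
      rw [hi, el_mem_center_iff D, ← D.el_commute_t_iff (a := a) (b := b), ← hi, ← hab]
      exact congrArg Subtype.val (hx y).eq
    · refine absurd ?_ hqZ
      obtain ⟨a, b, hab⟩ := hqA
      rw [hab, el_mem_center_iff D, ← D.el_commute_t_iff (a := i) (b := j), ← hab, ← hi]
      exact congrArg Subtype.val (hx q).eq.symm
  have hK : ∀ x ∈ K, β x = x := by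
    have hKinv : ∀ x ∈ K, β x ∈ K := fun x hx => (hKeq _).2 fun v => by
      have := ((hKeq x).1 hx (β.symm v)).map β.toMonoidHom
      simpa using this
    have key := fix_mod hX β hβ K ⊥ hKinv (fun x hx => by rw [Subgroup.mem_bot.1 hx, map_one])
      (fun a ha b _ => hKc a ha b) bot_le fun x hx hx2 => by
        rw [Subgroup.mem_bot] at hx2 ⊢
        rw [inv_mul_eq_one]
        obtain ⟨i, hi⟩ := D.mem_center_iff.1 hx
        obtain ⟨i', hi'⟩ := D.mem_center_iff.1 (hKinv x hx)
        have cls : ∀ v : X, (v : S) ∈ Subgroup.center S → v * v = 1 → v = 1 ∨ (v : S) = D.z := by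
          intro v hv hv2
          obtain ⟨w, hw⟩ := D.mem_center_iff.1 hv
          have h2 : (v : S) * (v : S) = 1 := congrArg Subtype.val hv2
          rcases D.invol_mem_A ⟨w, w, hw⟩ h2 with h | h | h | h
          · exact Or.inl (Subtype.ext h)
          · exact Or.inr h
          · rw [hw, D.el_eq_iff] at h
            have h3 := dvd_sub h.2 h.1
            rw [show w - 0 - (w - D.h) = D.h by ring] at h3
            exact absurd h3 (not_dvd_h D)
          · rw [hw, D.el_eq_iff] at h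
            have h3 := dvd_sub h.1 h.2
            rw [show w - 0 - (w - D.h) = D.h by ring] at h3
            exact absurd h3 (not_dvd_h D)
        rcases cls x hx hx2 with h | h
        · rw [h, map_one]
        rcases cls (β x) (hKinv x hx) (by rw [← map_mul, hx2, map_one]) with h' | h'
        · have : x = 1 := by simpa using h'
          rw [this, map_one]
        · exact Subtype.ext (h.trans h'.symm)
    intro x hx
    exact (inv_mul_eq_one.1 (Subgroup.mem_bot.1 (key x hx))).symm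
  have hKM : K ≤ M := fun x hx => by
    obtain ⟨i, hi⟩ := D.mem_center_iff.1 hx
    exact ⟨i, i, hi⟩
  have hmodM := fix_mod hX β hβ M K hM hK hMc hKM (fun x hx hx2 => by
    obtain ⟨i, j, hij⟩ := hx
    obtain ⟨i', j', hij'⟩ := hM x ⟨i, j, hij⟩
    replace hij : (x : S) = D.el i j := hij
    replace hij' : ((β x : X) : S) = D.el i' j' := hij'
    have h1 : D.h ∣ i - j := by
      have h2 : (x : S) * (x : S) ∈ Subgroup.center S := hx2
      rw [hij, D.el_mul, el_mem_center_iff D, show i + i - (j + j) = 2 * (i - j) by ring,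
        D.dvd_two_mul_iff] at h2
      exact h2
    have h1' : D.h ∣ i' - j' := by
      have h2 : ((β (x * x) : X) : S) ∈ Subgroup.center S := by
        rw [hK _ hx2]; exact hx2
      rw [map_mul, Subgroup.coe_mul, hij', D.el_mul, el_mem_center_iff D,
        show i' + i' - (j' + j') = 2 * (i' - j') by ring, D.dvd_two_mul_iff] at h2
      exact h2
    have hiff : D.N ∣ i - j ↔ D.N ∣ i' - j' := by
      rw [← el_mem_center_iff D, ← el_mem_center_iff D, ← hij, ← hij']
      refine ⟨fun h => ?_, fun h => ?_⟩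
      · rw [hK x h]; exact h
      · have := hK _ (show β x ∈ K from h)
        rw [show x = β x from (β.injective this).symm]; exact h
    show ((x⁻¹ * β x : X) : S) ∈ Subgroup.center S
    rw [Subgroup.coe_mul, InvMemClass.coe_inv, hij, hij', D.el_inv, D.el_mul, el_mem_center_iff D]
    obtain ⟨c, hc⟩ := h1
    obtain ⟨c', hc'⟩ := h1'
    rw [show -i + i' - (-j + j') = (i' - j') - (i - j) by ring, hc, hc']
    have hN := D.N_eq_two_h
    rcases Int.even_or_odd c with ⟨e, rfl⟩ | ⟨e, rfl⟩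
    · have h4 : D.N ∣ i - j := ⟨e, by rw [hc, hN]; ring⟩
      exact dvd_sub (hc' ▸ hiff.1 h4) (hc ▸ h4)
    rcases Int.even_or_odd c' with ⟨e', rfl⟩ | ⟨e', rfl⟩
    · have h4 : D.N ∣ i' - j' := ⟨e', by rw [hc', hN]; ring⟩
      exact dvd_sub (hc' ▸ h4) (hc ▸ hiff.2 h4)
    · exact ⟨e' - e, by rw [hN]; ring⟩)
  have hyβ : ((β y : X) : S) ∉ D.A := fun h => hy (by
    have h2 : ∀ n : ℕ, (((β ^ n) (β y) : X) : S) ∈ D.A := by
      intro n
      induction n with
      | zero => exact h
      | succ n ih => rw [pow_succ', MulAut.mul_apply]; exact hinv _ ih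
    have h3 := h2 (orderOf β - 1)
    rwa [← MulAut.mul_apply, ← pow_succ, Nat.sub_add_cancel (orderOf_pos β), pow_orderOf_eq_one,
      MulAut.one_apply] at h3)
  set d := y⁻¹ * β y with hd
  have hdM : d ∈ M := by
    show ((y⁻¹ * β y : X) : S) ∈ D.A
    rw [Subgroup.coe_mul, InvMemClass.coe_inv]
    exact (D.mul_mem_A_iff (fun h => hy (inv_mem_iff.1 h))).2 hyβ
  have hβd := hmodM d hdM
  have hiter : ∀ j : ℕ, (y * d ^ j)⁻¹ * (β ^ j) y ∈ K := by
    intro j
    induction j with
    | zero => simp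
    | succ j ihj =>
      set κ := (y * d ^ j)⁻¹ * (β ^ j) y with hκ
      have e : (β ^ (j + 1)) y = β (y * d ^ j * κ) := by
        rw [pow_succ', MulAut.mul_apply, hκ, mul_inv_cancel_left]
      have hc : Commute (d⁻¹) (β d) := hMc _ (inv_mem hdM) _ (hM d hdM)
      have e3 : (y * d ^ (j + 1))⁻¹ * (β ^ (j + 1)) y = (d⁻¹ * β d) ^ j * κ := by
        rw [e, map_mul, map_mul, hK κ ihj, map_pow, hc.mul_pow, inv_pow,
          show β y = y * d by rw [hd, mul_inv_cancel_left]]
        simp only [pow_succ', mul_inv_rev, mul_assoc, inv_mul_cancel_left]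
      rw [e3]
      exact mul_mem (pow_mem hβd j) ihj
  have hdK : d ∈ K := by
    have h3 := hiter (orderOf β)
    rw [pow_orderOf_eq_one, MulAut.one_apply, mul_inv_rev, inv_mul_cancel_right, inv_mem_iff] at h3
    obtain ⟨j, hj⟩ := hX d
    have hcop : (orderOf β).Coprime (2 ^ j) := Nat.Coprime.pow_right _ (Nat.coprime_two_right.2 hβ)
    obtain ⟨u, v, huv⟩ := (Nat.isCoprime_iff_coprime.2 hcop)
    have : d = (d ^ orderOf β) ^ u * (d ^ (2 ^ j)) ^ v := by
      rw [← zpow_natCast d, ← zpow_natCast d, ← zpow_mul, ← zpow_mul, ← zpow_add]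
      nth_rewrite 1 [← zpow_one d]
      congr 1
      push_cast at huv ⊢
      linarith
    rw [this, hj, one_zpow, mul_one]
    exact zpow_mem h3 u
  -- every element is fixed modulo the centre, hence fixed
  refine MulEquiv.ext fun x => ?_
  have hall : x⁻¹ * β x ∈ K := by
    by_cases hx : x ∈ M
    · exact hmodM x hx
    · have hxy : y⁻¹ * x ∈ M := by
        show ((y⁻¹ * x : X) : S) ∈ D.A
        rw [Subgroup.coe_mul, InvMemClass.coe_inv]
        exact (D.mul_mem_A_iff (fun h => hy (inv_mem_iff.1 h))).2 hx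
      have e : x⁻¹ * β x = ((y⁻¹ * x)⁻¹ * d * (y⁻¹ * x)) * ((y⁻¹ * x)⁻¹ * β (y⁻¹ * x)) := by
        rw [map_mul, map_inv, hd]; group
      have h1 : (y⁻¹ * x)⁻¹ * d * (y⁻¹ * x) = d := by
        rw [(hMc _ (inv_mem hxy) _ hdM).eq, inv_mul_cancel_right]
      rw [e, h1]
      exact mul_mem hdK (hmodM _ hxy)
  have hiter2 : ∀ j : ℕ, (β ^ j) x = x * (x⁻¹ * β x) ^ j := by
    intro j
    induction j with
    | zero => simp
    | succ j ih =>
      rw [pow_succ', MulAut.mul_apply, ih, map_mul, map_pow, hK _ hall, pow_succ', ← mul_assoc x,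
        mul_inv_cancel_left]
  have h4 := hiter2 (orderOf β)
  rw [pow_orderOf_eq_one, MulAut.one_apply, left_eq_mul] at h4
  obtain ⟨j, hj⟩ := hX (x⁻¹ * β x)
  have h5 := orderOf_eq_one_iff.1 (Nat.eq_one_of_dvd_coprimes
    (Nat.Coprime.pow_right j (Nat.coprime_two_right.2 hβ)) (orderOf_dvd_of_pow_eq_one h4)
    (orderOf_dvd_of_pow_eq_one hj))
  rw [inv_mul_eq_one] at h5
  exact h5.symm

/-- The central quotient part of the abelian case. -/
theorem aut_trivial_abelian {X : Subgroup S} (hZ : Subgroup.center S ≤ X) {y : X} (hy : (y : S) ∉ D.A)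
    (hab : ∀ a b : X, Commute a b) (β : MulAut X) (hβ : Odd (orderOf β)) : β = 1 := by
  have hX := isPGroup_sub D X
  have hN := D.N_eq_two_h
  rcases D.cases (y : S) with ⟨a, b, hy'⟩ | ⟨a, b, hy'⟩
  · exact absurd (hy' ▸ D.el_mem_A a b) hy
  have hcA : ∀ x : X, (x : S) ∈ D.A → (x : S) ∈ Subgroup.center S := by
    intro x hx
    obtain ⟨i, j, hij⟩ := hx
    rw [hij, el_mem_center_iff D, ← D.el_commute_t_iff (a := a) (b := b), ← hij, ← hy']
    exact congrArg Subtype.val (hab x y).eq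
  obtain ⟨k, hk⟩ := D.h_eq_two_mul
  let z : X := ⟨D.z, hZ (D.mem_center_iff.2 ⟨D.h, rfl⟩)⟩
  let c : X := ⟨D.el 1 1, hZ (D.mem_center_iff.2 ⟨1, rfl⟩)⟩
  have hz1 : z ≠ 1 := fun h => invol_ne_one D.orderOf_z (congrArg Subtype.val h)
  have helh : ∀ e : ℤ, D.el (e * D.h) (e * D.h) = 1 ∨ D.el (e * D.h) (e * D.h) = D.z := by
    intro e
    rcases Int.even_or_odd e with ⟨e', rfl⟩ | ⟨e', rfl⟩
    · exact Or.inl (D.el_eq_one_iff.2 ⟨⟨e', by rw [hN]; ring⟩, ⟨e', by rw [hN]; ring⟩⟩)
    · exact Or.inr (D.el_eq_iff.2 ⟨⟨e', by rw [hN]; ring⟩, ⟨e', by rw [hN]; ring⟩⟩)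
  have hsqx : ∀ x : X, ∃ i : ℤ, (x : S) ^ (2 : ℤ) = D.el i i ∧ (Even (a + b) → Even i) := by
    intro x
    rcases D.cases (x : S) with ⟨p, q, h⟩ | ⟨p, q, h⟩
    · obtain ⟨w, hw⟩ := D.mem_center_iff.1 (hcA x (h ▸ D.el_mem_A p q))
      exact ⟨w * 2, by rw [hw, D.el_zpow], fun _ => ⟨w, by ring⟩⟩
    · refine ⟨p + q, by rw [h, zpow_two, D.sq_el_t], fun hev => ?_⟩
      have hm : ((x * y : X) : S) ∈ D.A := by
        rw [Subgroup.coe_mul, h, hy', D.mul_t_mul_t]; exact D.el_mem_A _ _
      have h1 := hcA _ hm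
      rw [Subgroup.coe_mul, h, hy', D.mul_t_mul_t, el_mem_center_iff D] at h1
      obtain ⟨g, hg⟩ := dvd_trans D.two_dvd_N h1
      obtain ⟨f, hf⟩ := hev
      exact ⟨g + q + a - f, by linarith⟩
  have hpowN : ∀ x : X, x ^ D.N = 1 ∨ x ^ D.N = z := by
    intro x
    obtain ⟨i, hi, -⟩ := hsqx x
    have h1 : (x : S) ^ D.N = D.el (i * D.h) (i * D.h) := by rw [hN, zpow_mul, hi, D.el_zpow]
    exact (helh i).imp (fun h => Subtype.ext (by simpa [h] using h1)) fun h => Subtype.ext (by simpa [z, h] using h1)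
  have hpow : Even (a + b) → ∀ x : X, x ^ D.h = 1 ∨ x ^ D.h = z := by
    intro hev x
    obtain ⟨i, hi, hie⟩ := hsqx x
    obtain ⟨e, rfl⟩ := hie hev
    have h1 : (x : S) ^ D.h = D.el (e * D.h) (e * D.h) := by
      rw [hk, zpow_mul, hi, D.el_zpow]; ring_nf
    exact (helh e).imp (fun h => Subtype.ext (by simpa [h] using h1)) fun h => Subtype.ext (by simpa [z, h] using h1)
  have hβz : β z = z := by
    rcases Int.even_or_odd (a + b) with hev | ⟨e, he⟩
    · have hzc : c ^ D.h = z := Subtype.ext (by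
        show D.el 1 1 ^ D.h = D.z
        rw [D.el_zpow, one_mul]; rfl)
      rw [← hzc, map_zpow]
      rcases hpow hev (β c) with h | h
      · exact absurd (β.injective (by rw [map_zpow, h, map_one])) (hzc ▸ hz1)
      · rw [h, hzc]
    · have hzy : y ^ D.N = z := Subtype.ext (by
        show (y : S) ^ D.N = D.z
        rw [hy', hN, zpow_mul, zpow_two, D.sq_el_t, D.el_zpow, he]
        exact D.el_eq_iff.2 ⟨⟨e, by rw [hN]; ring⟩, ⟨e, by rw [hN]; ring⟩⟩)
      rw [← hzy, map_zpow]
      rcases hpowN (β y) with h | h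
      · exact absurd (β.injective (by rw [map_zpow, h, map_one])) (hzy ▸ hz1)
      · rw [h, hzy]
  -- involutions
  have hinv2 : ∀ u v : X, u * u = 1 → v * v = 1 → u ≠ 1 → u ≠ z → v ≠ 1 → v ≠ z → v = u ∨ v = u * z := by
    intro u v hu hv hu1 huz hv1 hvz
    have notA : ∀ w : X, w * w = 1 → w ≠ 1 → w ≠ z → (w : S) ∉ D.A := by
      intro w hw hw1 hwz hwA
      obtain ⟨i, hi⟩ := D.mem_center_iff.1 (hcA w hwA)
      rcases D.invol_mem_A hwA (congrArg Subtype.val hw) with h | h | h | h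
      · exact hw1 (Subtype.ext h)
      · exact hwz (Subtype.ext h)
      · rw [hi, D.el_eq_iff] at h
        have h4 := dvd_sub h.2 h.1
        rw [show i - 0 - (i - D.h) = D.h by ring] at h4
        exact not_dvd_h D h4
      · rw [hi, D.el_eq_iff] at h
        have h4 := dvd_sub h.1 h.2
        rw [show i - 0 - (i - D.h) = D.h by ring] at h4
        exact not_dvd_h D h4
    have huv : ((u * v : X) : S) ∈ D.A := by
      rw [Subgroup.coe_mul]; exact (D.mul_mem_A_iff (notA u hu hu1 huz)).2 (notA v hv hv1 hvz)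
    have huv2 : (u * v) * (u * v) = 1 := by
      rw [(hab v u).mul_mul_mul_comm, hu, hv, one_mul]
    by_cases h1 : u * v = 1
    · exact Or.inl (mul_left_cancel (h1.trans hu.symm))
    by_cases h2 : u * v = z
    · exact Or.inr (by rw [← h2, ← mul_assoc, hu, one_mul])
    exact absurd huv (notA _ huv2 h1 h2)
  have hfix : ∀ v : X, v * v = 1 → β v = v := by
    intro v hv
    by_contra hne
    have hv1 : v ≠ 1 := fun h => hne (by rw [h, map_one])
    have hvz : v ≠ z := fun h => hne (by rw [h, hβz])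
    have h1 : β v * β v = 1 := by rw [← map_mul, hv, map_one]
    have h2 : β v ≠ 1 := fun h => hv1 (by simpa using h)
    have h3 : β v ≠ z := fun h => hvz (β.injective (h.trans hβz.symm))
    have hbv := (hinv2 v (β v) hv h1 hv1 hvz h2 h3).resolve_left hne
    have h4 : ∀ j : ℕ, (β ^ j) v = v * z ^ j := by
      intro j
      induction j with
      | zero => simp
      | succ j ih => rw [pow_succ', MulAut.mul_apply, ih, map_mul, map_pow, hβz, hbv, pow_succ', mul_assoc]
    have h5 := h4 (orderOf β)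
    rw [pow_orderOf_eq_one, MulAut.one_apply, left_eq_mul] at h5
    obtain ⟨j, hj⟩ := hβ
    rw [hj, pow_succ, pow_mul, pow_two, show z * z = 1 from Subtype.ext (invol_mul_self D.orderOf_z),
      one_pow, one_mul] at h5
    exact hz1 h5
  refine MulEquiv.ext fun x => ?_
  have := fix_mod hX β hβ ⊤ ⊥ (fun x _ => trivial) (fun x hx => by rw [Subgroup.mem_bot.1 hx, map_one])
    (fun a _ b _ => hab a b) bot_le (fun x _ hx => by
      rw [Subgroup.mem_bot] at hx ⊢
      rw [hfix x hx, inv_mul_cancel]) x trivial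
  exact (inv_mul_eq_one.1 (Subgroup.mem_bot.1 this)).symm

/-- Let S be a wreathed 2-group of order 2^(2n+1) and X a subgroup with C_S(X) ≤ X such that Aut(X) is not a 2-group. Then |N_S(X) : X| = 2, and either X is the commutative subgroup of order 2^(2n), or X = Q·Z(S) for some subgroup Q ≅ Q₈; in the latter case any two such subgroups are conjugate in S. -/
theorem result {S : Type*} [Group S] [Finite S] (hS : Cfsg.IsWreathed S) (n : ℕ) (hn : Nat.card S = 2 ^ (2 * n + 1)) (X : Subgroup S) (hC : Subgroup.centralizer (X : Set S) ≤ X) (hA : ¬ IsPGroup 2 (MulAut X)) : X.relIndex (Subgroup.normalizer (X : Set S)) = 2 ∧ ((IsMulCommutative X ∧ Nat.card X = 2 ^ (2 * n)) ∨ ∃ Q : Subgroup S, Nonempty (Q ≃* QuaternionGroup 2) ∧ X = Q ⊔ Subgroup.center S) ∧ ∀ X' : Subgroup S, Subgroup.centralizer (X' : Set S) ≤ X' → ¬ IsPGroup 2 (MulAut X') → ¬ IsMulCommutative X → ¬ IsMulCommutative X' → ∃ s : S, X.map (MulAut.conj s).toMonoidHom = X' := by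
  obtain ⟨D⟩ := CfsgLib.Invol.exists_wrData hS
  obtain rfl : n = D.n := by
    have h := D.card_eq
    rw [hn] at h
    have := Nat.pow_right_injective le_rfl h
    omega
  have hN := D.N_eq_two_h
  obtain ⟨k, hk⟩ := D.h_eq_two_mul
  set r : S := D.el (D.h + k) k
  set q : S := D.el D.h 0 * D.t
  have hcent : ∀ X : Subgroup S, Subgroup.centralizer (X : Set S) ≤ X → Subgroup.center S ≤ X :=
    fun X hX => (Subgroup.center_le_centralizer _).trans hX
  -- the shape of a nonabelian centric subgroup with non-2-group automorphisms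
  have shape : ∀ X : Subgroup S, Subgroup.centralizer (X : Set S) ≤ X → ¬ IsPGroup 2 (MulAut X) →
      ¬ (∀ x ∈ X, x ∈ D.A) → ∃ a b : ℤ, D.N ∣ a + b - D.h ∧ D.el a b * D.t ∈ X ∧ r ∈ X ∧
        ∀ i j, D.el i j ∈ X → D.h ∣ i - j := by
    intro X hXC hXA hnA
    push Not at hnA
    obtain ⟨y, hyX, hyA⟩ := hnA
    have hZ := hcent X hXC
    rcases D.cases y with ⟨a, b, rfl⟩ | ⟨a, b, rfl⟩
    · exact absurd (D.el_mem_A a b) hyA
    have hnab : ∃ u : X, (u : S) ∈ D.A ∧ (u : S) ∉ Subgroup.center S := by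
      by_contra h
      push Not at h
      refine hXA (isPGroup_aut fun β hβ => aut_trivial_abelian D hZ (y := ⟨_, hyX⟩) hyA ?_ β hβ)
      intro u v
      have dec : ∀ u : X, (u : S) ∈ Subgroup.center S ∨
          ∃ c ∈ Subgroup.center S, (u : S) = c * (D.el a b * D.t) := by
        intro u
        by_cases hu : (u : S) ∈ D.A
        · exact Or.inl (h u hu)
        · refine Or.inr ⟨(u : S) * (D.el a b * D.t)⁻¹, ?_, by group⟩
          exact h (u * ⟨_, hyX⟩⁻¹) (by
            rw [Subgroup.coe_mul, InvMemClass.coe_inv]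
            exact (D.mul_mem_A_iff hu).2 fun h' => hyA (inv_mem_iff.1 h'))
      have cc : ∀ c ∈ Subgroup.center S, ∀ s, Commute c s := fun c hc s =>
        (Subgroup.mem_center_iff.1 hc s).symm
      refine Subtype.ext (?_ : (u : S) * v = v * u)
      rcases dec u with h1 | ⟨c1, h1, e1⟩
      · exact (cc _ h1 _).eq
      rcases dec v with h2 | ⟨c2, h2, e2⟩
      · exact (cc _ h2 _).symm.eq
      · rw [e1, e2]
        exact (((cc _ h1 c2).mul_right (cc _ h1 _)).mul_left ((cc _ h2 _).symm.mul_right (Commute.refl _))).eq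
    have small : ∀ i j, D.el i j ∈ X → D.h ∣ i - j := by
      intro i j hij
      by_contra hnd
      refine hXA (isPGroup_aut fun β hβ => aut_trivial D hZ (y := ⟨_, hyX⟩) hyA hnab β hβ fun x hx => ?_)
      -- the abelian part is the centralizer of the derived subgroup
      have hxc : ∀ w ∈ commutator X, Commute (β x) w := by
        intro w hw
        have hw' : β.symm w ∈ commutator X := by
          have h2 := (inferInstance : (commutator X).Characteristic).fixed β.symm
          rw [← h2] at hw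
          simpa using hw
        have hwA : ((β.symm w : X) : S) ∈ D.A := by
          have hle : commutator X ≤ D.A.subgroupOf X := by
            rw [commutator_def, Subgroup.commutator_le]
            intro g _ g' _
            show ((⁅g, g'⁆ : X) : S) ∈ D.A
            have := Subgroup.normal_of_index_eq_two D.index_A
            by_cases hg : (g : S) ∈ D.A
            · have := mul_mem hg (this.conj_mem _ (inv_mem hg) g')
              simpa [commutatorElement_def, mul_assoc] using this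
            · by_cases hg' : (g' : S) ∈ D.A
              · have := mul_mem (this.conj_mem _ hg' g) (inv_mem hg')
                simpa [commutatorElement_def, mul_assoc] using this
              · have h1 := (D.mul_mem_A_iff hg).2 hg'
                have h2 : (g : S)⁻¹ * (g' : S)⁻¹ ∈ D.A :=
                  (D.mul_mem_A_iff fun h => hg (inv_mem_iff.1 h)).2 fun h => hg' (inv_mem_iff.1 h)
                simpa [commutatorElement_def, mul_assoc] using mul_mem h1 h2
          exact hle hw'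
        have h3 : Commute x (β.symm w) := Subtype.ext (D.A_commute hx hwA).eq
        simpa using h3.map β.toMonoidHom
      by_contra hβx
      rcases D.cases ((β x : X) : S) with ⟨p, p', hp⟩ | ⟨p, p', hp⟩
      · exact hβx (hp ▸ D.el_mem_A p p')
      set w := ⁅(⟨_, hyX⟩ : X), (⟨_, hij⟩ : X)⁆
      have hw : (w : S) = D.el (j - i) (i - j) := by
        show ((⟨_, hyX⟩ * ⟨_, hij⟩ * ⟨_, hyX⟩⁻¹ * ⟨_, hij⟩⁻¹ : X) : S) = _
        simp only [Subgroup.coe_mul, InvMemClass.coe_inv]
        rw [D.conj_el_by_t, D.el_inv, D.el_mul, D.el_eq_iff]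
        exact ⟨⟨0, by ring⟩, ⟨0, by ring⟩⟩
      have h4 : Commute ((β x : X) : S) (w : S) := congrArg Subtype.val (hxc w (by
        rw [commutator_def]
        exact Subgroup.commutator_mem_commutator (Subgroup.mem_top _) (Subgroup.mem_top _))).eq
      rw [hw, hp] at h4
      have h5 := D.el_commute_t_iff.1 h4.symm
      rw [show j - i - (i - j) = 2 * (-(i - j)) by ring, D.dvd_two_mul_iff, dvd_neg] at h5
      exact hnd h5
    obtain ⟨u, ⟨i, j, hij⟩, huZ⟩ := hnab
    have hd := small i j (hij ▸ u.2)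
    obtain ⟨e, he⟩ := hd
    have hE : D.el D.h 0 ∈ X := by
      rcases Int.even_or_odd e with ⟨e', rfl⟩ | ⟨e', rfl⟩
      · exact absurd (by rw [hij, el_mem_center_iff D]; exact ⟨e', by rw [he, hN]; ring⟩) huZ
      have h1 : D.el D.h 0 = D.el i j * D.el (-j) (-j) := by
        rw [D.el_mul, D.el_eq_iff]
        exact ⟨⟨-e', by rw [show i = D.h * (2 * e' + 1) + j by linarith, hN]; ring⟩, ⟨0, by ring⟩⟩
      rw [h1]
      exact mul_mem (hij ▸ u.2) (hZ (D.mem_center_iff.2 ⟨-j, rfl⟩))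
    have hr : r ∈ X := by
      have := mul_mem hE (hZ (D.mem_center_iff.2 ⟨k, rfl⟩ : D.el k k ∈ Subgroup.center S))
      rwa [D.el_mul, zero_add] at this
    rcases Int.even_or_odd (a + b) with ⟨e', he'⟩ | ⟨e', he'⟩
    · refine ⟨a + (k - e'), b + (k - e'), ⟨0, by rw [hk]; linarith⟩, ?_, hr, small⟩
      have h1 := mul_mem (hZ (D.mem_center_iff.2 ⟨k - e', rfl⟩ : D.el (k - e') (k - e') ∈ Subgroup.center S)) hyX
      rw [D.el_mul_t] at h1
      rwa [add_comm a, add_comm b]
    · exfalso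
      refine hXA (isPGroup_aut fun β hβ => aut_trivial D hZ (y := ⟨_, hyX⟩) hyA ⟨u, ⟨i, j, hij⟩, huZ⟩ β hβ
        fun x hx => ?_)
      obtain ⟨p, p', hp⟩ := hx
      have hxN : x ^ D.N = 1 := Subtype.ext (by
        show (x : S) ^ D.N = 1
        rw [hp, D.el_zpow, D.el_eq_one_iff]; exact ⟨⟨p, by ring⟩, ⟨p', by ring⟩⟩)
      have hβN : ((β x : X) : S) ^ D.N = 1 := by
        rw [← Subgroup.coe_zpow, ← map_zpow, hxN, map_one]; rfl
      by_contra hβA
      rcases D.cases ((β x : X) : S) with ⟨c, c', hc⟩ | ⟨c, c', hc⟩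
      · exact hβA (hc ▸ D.el_mem_A c c')
      have hmem : D.el (c - a) (c' - b) ∈ X := by
        have h1 := mul_mem (β x).2 (inv_mem hyX)
        rw [hc, D.inv_t, D.mul_t_mul_t] at h1
        rwa [← sub_eq_add_neg, ← sub_eq_add_neg] at h1
      obtain ⟨g, hg⟩ := small _ _ hmem
      rw [hc, hN, zpow_mul, zpow_two, D.sq_el_t, D.el_zpow, D.el_eq_one_iff] at hβN
      obtain ⟨f, hf⟩ := hβN.1
      have h2 : c + c' = 2 * f := by
        have : (c + c') * D.h = 2 * f * D.h := by rw [hf, hN]; ring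
        exact mul_right_cancel₀ D.h_pos.ne' this
      rw [hk] at hg
      have hg' : c - a - (c' - b) = 2 * (k * g) := by rw [hg]; ring
      omega
  have hqmem : ∀ X : Subgroup S, (∃ a b : ℤ, D.N ∣ a + b - D.h ∧ D.el a b * D.t ∈ X ∧ r ∈ X ∧
      ∀ i j, D.el i j ∈ X → D.h ∣ i - j) → ∀ (Q : Subgroup S), ∀ a b, D.N ∣ a + b - D.h →
      D.el a b * D.t ∈ X → Q = Subgroup.closure ({r, D.el a b * D.t} : Set S) →
      Subgroup.center S ≤ X → X = Q ⊔ Subgroup.center S := by
    rintro X ⟨-, -, -, -, hr, small⟩ Q a b hab hq hQ hZ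
    refine le_antisymm (fun x hx => ?_) (sup_le ?_ hZ)
    · have hA : ∀ i j, D.h ∣ i - j → D.el i j ∈ Q ⊔ Subgroup.center S := by
        rintro i j ⟨c, hc⟩
        have h1 : D.el i j = r ^ c * D.el (j - k * c) (j - k * c) := by
          rw [D.el_zpow, D.el_mul, D.el_eq_iff]
          exact ⟨⟨0, by linarith⟩, ⟨0, by ring⟩⟩
        rw [h1, hQ]
        exact mul_mem (Subgroup.mem_sup_left (zpow_mem (Subgroup.subset_closure (Set.mem_insert _ _)) c))
          (Subgroup.mem_sup_right (D.mem_center_iff.2 ⟨_, rfl⟩))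
      rcases D.cases x with ⟨i, j, rfl⟩ | ⟨i, j, rfl⟩
      · exact hA i j (small i j hx)
      · have h1 := mul_mem hx (inv_mem hq)
        rw [D.inv_t, D.mul_t_mul_t] at h1
        have h2 : D.el i j * D.t = D.el (i + -a) (j + -b) * (D.el a b * D.t) := by
          rw [D.el_mul_t, neg_add_cancel_right, neg_add_cancel_right]
        rw [h2]
        refine mul_mem (hA _ _ (small _ _ h1)) (Subgroup.mem_sup_left ?_)
        rw [hQ]
        exact Subgroup.subset_closure (Set.mem_insert_of_mem _ rfl)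
    · rw [hQ, Subgroup.closure_le]
      rintro _ (rfl | rfl)
      · exact hr
      · exact hq
  have hcomm_iff : IsMulCommutative X ↔ ∀ x ∈ X, x ∈ D.A := by
    refine ⟨fun h => ?_, fun h => ⟨⟨fun a b => Subtype.ext (D.A_commute (h a a.2) (h b b.2)).eq⟩⟩⟩
    by_contra hnA
    obtain ⟨a, b, hab, hq, hr, -⟩ := shape X hC hA hnA
    have h1 : Commute r (D.el a b * D.t) := congrArg Subtype.val (h.is_comm.comm (⟨r, hr⟩ : X) ⟨_, hq⟩)
    have h2 := D.el_commute_t_iff.1 h1
    rw [add_sub_cancel_right] at h2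
    exact not_dvd_h D h2
  have hconj : ∀ a b a' b' : ℤ, D.N ∣ a + b - D.h → D.N ∣ a' + b' - D.h →
      (Subgroup.closure ({r, D.el a b * D.t} : Set S) ⊔ Subgroup.center S).map
        (MulAut.conj (D.el (a' - a) 0)).toMonoidHom =
      Subgroup.closure ({r, D.el a' b' * D.t} : Set S) ⊔ Subgroup.center S := by
    intro a b a' b' h h'
    have hcen : ((Subgroup.center S).map (MulAut.conj (D.el (a' - a) 0)).toMonoidHom) = Subgroup.center S :=
      Subgroup.characteristic_iff_map_eq.1 inferInstance _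
    rw [Subgroup.map_sup, MonoidHom.map_closure, hcen, Set.image_pair]
    congr 2
    simp only [MulEquiv.coe_toMonoidHom, MulAut.conj_apply, r, D.conj_el, D.conj_t_by_el]
    rw [D.el_t_eq_iff.2 ⟨(⟨0, by ring⟩ : D.N ∣ a + (a' - a) - 0 - a'), (by
      rw [show b + 0 - (a' - a) - b' = (a + b - D.h) - (a' + b' - D.h) by ring]
      exact dvd_sub h h' : D.N ∣ b + 0 - (a' - a) - b')⟩]
  by_cases hXA : ∀ x ∈ X, x ∈ D.A
  · have hX : X = D.A := le_antisymm hXA fun x hx => hC (Subgroup.mem_centralizer_iff.2 fun w hw =>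
      (D.A_commute (hXA w hw) hx).eq)
    refine ⟨?_, Or.inl ⟨hcomm_iff.2 hXA, by rw [hX, D.card_A]⟩, fun X' _ _ hn' => absurd (hcomm_iff.2 hXA) hn'⟩
    have := Subgroup.normal_of_index_eq_two D.index_A
    rw [hX, Subgroup.normalizer_eq_top (H := D.A), Subgroup.relIndex_top_right, D.index_A]
  obtain ⟨a, b, hab, hq, hr, small⟩ := shape X hC hA hXA
  have hXeq := hqmem X (shape X hC hA hXA) _ a b hab hq rfl (hcent X hC)
  refine ⟨?_, Or.inr ⟨Subgroup.closure ({r, D.el a b * D.t} : Set S), ?_, hXeq⟩, ?_⟩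
  · -- index two in the normalizer
    have hs0 : D.el k 0 ∈ Subgroup.normalizer (X : Set S) := by
      have hle : X.map (MulAut.conj (D.el k 0)).toMonoidHom ≤ X := by
        rw [Subgroup.map_le_iff_le_comap]
        intro x hx
        show D.el k 0 * x * (D.el k 0)⁻¹ ∈ X
        rcases D.cases x with ⟨i, j, rfl⟩ | ⟨i, j, rfl⟩
        · rw [D.conj_el]; exact hx
        · have h1 : D.el (i + k - 0) (j + 0 - k) * D.t = (D.el k (-k)) * (D.el i j * D.t) := by
            rw [D.el_mul_t, D.el_t_eq_iff]; exact ⟨⟨0, by ring⟩, ⟨0, by ring⟩⟩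
          rw [D.conj_t_by_el, h1]
          refine mul_mem ?_ hx
          have h2 := mul_mem (inv_mem hr) (hcent X hC (D.mem_center_iff.2 ⟨D.h + 2 * k, rfl⟩))
          have h3 : r⁻¹ * D.el (D.h + 2 * k) (D.h + 2 * k) = D.el k (-k) := by
            rw [D.el_inv, D.el_mul, D.el_eq_iff]
            exact ⟨⟨0, by ring⟩, ⟨1, by rw [hN, hk]; ring⟩⟩
          rwa [h3] at h2
      have heq := Subgroup.eq_of_le_of_card_ge hle
        (le_of_eq (Nat.card_congr (X.equivMapOfInjective _ (MulEquiv.injective _)).toEquiv))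
      refine Subgroup.mem_normalizer_iff.2 fun x => ⟨fun hx => heq ▸ ⟨x, hx, rfl⟩, fun hx => ?_⟩
      rw [← heq] at hx
      obtain ⟨w, hw, hwx⟩ := hx
      exact (MulAut.conj (D.el k 0)).injective hwx ▸ hw
    have hk0 : D.el k 0 ∉ X := fun h => by
      obtain ⟨c, hc⟩ := small k 0 h
      rw [hk, sub_zero] at hc
      have h1 : k * (2 * c) = k * 1 := by linarith
      have h2 := mul_left_cancel₀ (fun h0 : k = 0 => by have := D.h_pos; omega) h1
      omega
    rw [Subgroup.relIndex, Subgroup.index_eq_two_iff]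
    refine ⟨⟨D.el k 0, hs0⟩, fun v => ?_⟩
    simp only [Subgroup.mem_subgroupOf, Subgroup.coe_mul]
    have hv := v.2
    -- reduce to an element of the abelian part
    obtain ⟨x, hx, u, w, huw⟩ : ∃ x ∈ X, ∃ u w, (v : S) = x * D.el u w := by
      rcases D.cases (v : S) with ⟨i, j, h⟩ | ⟨i, j, h⟩
      · exact ⟨1, one_mem _, i, j, by rw [one_mul, h]⟩
      · refine ⟨_, hq, j - b, i - a, ?_⟩
        rw [h, D.mul_t_mul_el, D.el_t_eq_iff]; exact ⟨⟨0, by ring⟩, ⟨0, by ring⟩⟩
    have helN : D.el u w ∈ Subgroup.normalizer (X : Set S) := by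
      have := mul_mem (inv_mem (Subgroup.le_normalizer hx)) hv
      rwa [huw, inv_mul_cancel_left] at this
    have hdiff : k ∣ u - w := by
      have h1 := mul_mem ((Subgroup.mem_normalizer_iff.1 helN _).1 hq) (inv_mem hq)
      rw [D.conj_t_by_el, D.inv_t, D.mul_t_mul_t] at h1
      obtain ⟨c, hc⟩ := small _ _ h1
      refine ⟨c, ?_⟩
      rw [hk] at hc
      linarith
    have memX : ∀ i j : ℤ, D.h ∣ i - j → D.el i j ∈ X := by
      rintro i j ⟨c, hc⟩
      have h1 : D.el i j = r ^ c * D.el (j - k * c) (j - k * c) := by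
        rw [D.el_zpow, D.el_mul, D.el_eq_iff]
        exact ⟨⟨0, by linarith⟩, ⟨0, by ring⟩⟩
      rw [h1]
      exact mul_mem (zpow_mem hr c) (hcent X hC (D.mem_center_iff.2 ⟨_, rfl⟩))
    obtain ⟨c, hc⟩ := hdiff
    rcases Int.even_or_odd c with ⟨c', rfl⟩ | ⟨c', rfl⟩
    · have hu : D.el u w ∈ X := memX u w ⟨c', by rw [hc, hk]; ring⟩
      refine Or.inr ⟨huw ▸ mul_mem hx hu, fun h => hk0 ?_⟩
      have := mul_mem (inv_mem (huw ▸ mul_mem hx hu : (v : S) ∈ X)) h
      rwa [inv_mul_cancel_left] at this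
    · refine Or.inl ⟨?_, fun h => hk0 ?_⟩
      · rw [huw, mul_assoc, D.el_mul, add_zero]
        exact mul_mem hx (memX _ _ ⟨c' + 1, by rw [hk, show u + k - w = u - w + k by ring, hc]; ring⟩)
      · have h1 : D.el u w ∈ X := by
          have := mul_mem (inv_mem hx) h
          rwa [huw, inv_mul_cancel_left] at this
        obtain ⟨g, hg⟩ := small u w h1
        rw [hc, hk] at hg
        exfalso
        have h2 : k * (2 * c' + 1) = k * (2 * g) := by linarith
        have h3 := mul_left_cancel₀ (fun h0 : k = 0 => by have := D.h_pos; omega) h2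
        omega
  · -- a quaternion group of order 8
    have h4 : r ^ (2 : ℤ) = D.z := by
      rw [D.el_zpow]
      refine D.el_eq_iff.2 ⟨⟨1, by rw [hN, hk]; ring⟩, ⟨0, by rw [hk]; ring⟩⟩
    have hr4 : orderOf r = 2 * 2 := by
      refine orderOf_eq_prime_pow (p := 2) (n := 1) ?_ ?_
      · rw [pow_one, ← zpow_natCast, show ((2 : ℕ) : ℤ) = 2 from rfl, h4]; exact invol_ne_one D.orderOf_z
      · rw [show (2 : ℕ) ^ (1 + 1) = 2 * 2 from rfl, pow_mul, ← zpow_natCast r, show ((2 : ℕ) : ℤ) = 2 from rfl,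
          h4, pow_two, invol_mul_self D.orderOf_z]
    refine CfsgLib.Invol.exists_mulEquiv_quaternion (n := 2) hr4 ?_ ?_ ?_
    · rw [← zpow_natCast r, show ((2 : ℕ) : ℤ) = 2 from rfl, h4, D.sq_el_t]
      exact D.el_eq_iff.2 ⟨hab, hab⟩
    · rw [D.conj_el_by_t, D.el_inv, D.el_eq_iff]
      exact ⟨⟨1, by rw [hN, hk]; ring⟩, ⟨1, by rw [hN, hk]; ring⟩⟩
    · rintro ⟨i, hi⟩
      simp only [r, D.el_zpow] at hi
      exact D.el_t_ne _ _ _ _ hi.symm
  · intro X' hC' hA' _ hn'
    have hXA' : ¬ ∀ x ∈ X', x ∈ D.A := fun h => hn' ⟨⟨fun a b => Subtype.ext (D.A_commute (h a a.2) (h b b.2)).eq⟩⟩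
    obtain ⟨a', b', hab', hq', -, -⟩ := shape X' hC' hA' hXA'
    have hXeq' := hqmem X' (shape X' hC' hA' hXA') _ a' b' hab' hq' rfl (hcent X' hC')
    exact ⟨D.el (a' - a) 0, by rw [hXeq, hXeq']; exact hconj a b a' b' hab hab'⟩

end Cfsg.Agent.S1202
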