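import Cfsg.Statements.S1205
import Cfsg.Agent.Lib.Invol.QDClasses

set_option autoImplicit false
open Cfsg

namespace Cfsg.Agent.S1205

/-- Let G be a finite group with quasi-dihedral Sylow 2-subgroup S, T a Klein four-subgroup and Q a quaternion subgroup of order 8 of S, with |N_G(T) : C_G(T)| = 2 and |N_G(Q) : Q C_G(Q)| = 6. Then G has a normal subgroup K of index 2 whose Sylow 2-subgroups are generalized quaternion and which has no subgroup of index 2; the centre of S is weakly closed in S; and G has exactly two classes of involutions and one class of elements of order 4. -/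
theorem result {G : Type*} [Group G] [Finite G] (S : Sylow 2 G) (hS : Cfsg.IsQuasiDihedral (S : Subgroup G)) (T : Subgroup G) (hT : IsKleinFour T) (hTS : T ≤ S) (Q : Subgroup G) (hQS : Q ≤ S) (eQ : Q ≃* QuaternionGroup 2) (h₁ : (Subgroup.centralizer (T : Set G)).relIndex (Subgroup.normalizer (T : Set G)) = 2) (h₂ : (Q ⊔ Subgroup.centralizer (Q : Set G)).relIndex (Subgroup.normalizer (Q : Set G)) = 6) : (∃ K : Subgroup G, K.Normal ∧ K.index = 2 ∧ (∀ P : Sylow 2 ↥K, ∃ m : ℕ, 1 ≤ m ∧ Nonempty ((P : Subgroup ↥K) ≃* QuaternionGroup (2 ^ m))) ∧ (∀ H : Subgroup ↥K, H.index ≠ 2)) ∧ Cfsg.IsWeaklyClosed ((Subgroup.center (S : Subgroup G)).map (S : Subgroup G).subtype) (S : Subgroup G) ∧ Nat.card {C : ConjClasses G // ∃ t : G, orderOf t = 2 ∧ ConjClasses.mk t = C} = 2 ∧ Nat.card {C : ConjClasses G // ∃ t : G, orderOf t = 4 ∧ ConjClasses.mk t = C} = 1 := by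
  obtain ⟨D, n, hn, hm, hc⟩ := CfsgLib.Invol.exists_qdData hS
  have hT' := CfsgLib.Invol.qd_T S D T hT hTS
  have hQ' := CfsgLib.Invol.qd_Q S D Q hQS eQ
  have hno : ¬ IsConj (CfsgLib.Invol.qz S D) (CfsgLib.Invol.qy S D) := fun h => by
    rw [hT'.2.1.2 h] at h₁; omega
  have hR : Cfsg.pResidual 2 G ⊓ (S : Subgroup G) = D.quatMax.map (S : Subgroup G).subtype :=
    le_antisymm (CfsgLib.Invol.qd_residual_quat S D hm hno)
      (le_inf (CfsgLib.Invol.qd_quatMax_le S D (hQ'.2.2 h₂)) (Subgroup.map_subtype_le _))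
  obtain ⟨hKn, hKi, hKp, hK2⟩ := CfsgLib.Invol.residual_package S _ hR
  refine ⟨⟨_, hKn, hKi.trans (CfsgLib.Invol.qd_relIndex_map S D.index_quatMax), fun P => ?_, hK2⟩,
    ⟨Subgroup.map_subtype_le _, fun g hg => ?_⟩,
    (CfsgLib.Invol.qd_classes_two S D).2 hno, (CfsgLib.Invol.qd_classes_four S D).1 (hQ'.2.1.1 h₂)⟩
  · obtain ⟨e⟩ := hKp P
    obtain ⟨f⟩ := D.quatMax_equiv
    refine ⟨n - 2, by omega, ⟨e.trans ((Subgroup.equivMapOfInjective _ _
      (Subgroup.subtype_injective _)).symm.trans ?_)⟩⟩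
    rw [← hm]; exact f
  · rw [D.center_eq, MonoidHom.map_zpowers] at hg ⊢
    change (Subgroup.zpowers (CfsgLib.Invol.qz S D)).map _ = Subgroup.zpowers (CfsgLib.Invol.qz S D)
    rw [MonoidHom.map_zpowers]
    have hmem : g * CfsgLib.Invol.qz S D * g⁻¹ ∈ (S : Subgroup G) :=
      hg ⟨_, Subgroup.mem_zpowers _, rfl⟩
    have ho : orderOf (g * CfsgLib.Invol.qz S D * g⁻¹) = 2 := by
      rw [CfsgLib.Invol.orderOf_conj_eq, CfsgLib.Invol.qd_orderOf_qz]
    rcases D.eq_of_orderOf_two (s := ⟨_, hmem⟩) (by rw [← Subgroup.orderOf_coe]; exact ho) with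
      h | ⟨i, hi, h⟩
    · exact congrArg Subgroup.zpowers (congrArg Subtype.val h)
    · refine absurd ((isConj_iff.2 ⟨g, ?_⟩).trans (CfsgLib.Invol.isConj_qy S D hi)) hno
      exact congrArg Subtype.val h

end Cfsg.Agent.S1205
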