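import Cfsg.Statements.S1206
import Cfsg.Agent.Lib.Invol.QDClasses

set_option autoImplicit false
open Cfsg

namespace Cfsg.Agent.S1206

/-- Let G be a finite group with quasi-dihedral Sylow 2-subgroup S, T a Klein four-subgroup and Q a quaternion subgroup of order 8 of S, with |N_G(T) : C_G(T)| = 6 and |N_G(Q) : Q C_G(Q)| = 2. Then G has a normal subgroup K of index 2 whose Sylow 2-subgroups are dihedral and which has no subgroup of index 2, and G has exactly one class of involutions and two classes of elements of order 4. -/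
theorem result {G : Type*} [Group G] [Finite G] (S : Sylow 2 G) (hS : Cfsg.IsQuasiDihedral (S : Subgroup G)) (T : Subgroup G) (hT : IsKleinFour T) (hTS : T ≤ S) (Q : Subgroup G) (hQS : Q ≤ S) (eQ : Q ≃* QuaternionGroup 2) (h₁ : (Subgroup.centralizer (T : Set G)).relIndex (Subgroup.normalizer (T : Set G)) = 6) (h₂ : (Q ⊔ Subgroup.centralizer (Q : Set G)).relIndex (Subgroup.normalizer (Q : Set G)) = 2) : (∃ K : Subgroup G, K.Normal ∧ K.index = 2 ∧ (∀ P : Sylow 2 ↥K, ∃ m : ℕ, Nonempty ((P : Subgroup ↥K) ≃* DihedralGroup m)) ∧ (∀ H : Subgroup ↥K, H.index ≠ 2)) ∧ Nat.card {C : ConjClasses G // ∃ t : G, orderOf t = 2 ∧ ConjClasses.mk t = C} = 1 ∧ Nat.card {C : ConjClasses G // ∃ t : G, orderOf t = 4 ∧ ConjClasses.mk t = C} = 2 := by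
  obtain ⟨D, n, hn, hm, hc⟩ := CfsgLib.Invol.exists_qdData hS
  have hT' := CfsgLib.Invol.qd_T S D T hT hTS
  have hQ' := CfsgLib.Invol.qd_Q S D Q hQS eQ
  have hno : ¬ IsConj (CfsgLib.Invol.qa S D) (CfsgLib.Invol.qb S D) := fun h => by
    rw [hQ'.2.1.2 h] at h₂; omega
  have hR : Cfsg.pResidual 2 G ⊓ (S : Subgroup G) = D.dihMax.map (S : Subgroup G).subtype :=
    le_antisymm (CfsgLib.Invol.qd_residual_dih S D hm hno)
      (le_inf (CfsgLib.Invol.qd_dihMax_le S D (hT'.2.2 h₁)) (Subgroup.map_subtype_le _))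
  obtain ⟨hKn, hKi, hKp, hK2⟩ := CfsgLib.Invol.residual_package S _ hR
  refine ⟨⟨_, hKn, hKi.trans (CfsgLib.Invol.qd_relIndex_map S D.index_dihMax), fun P => ?_, hK2⟩,
    (CfsgLib.Invol.qd_classes_two S D).1 (hT'.2.1.1 h₁), (CfsgLib.Invol.qd_classes_four S D).2 hno⟩
  obtain ⟨e⟩ := hKp P
  obtain ⟨f⟩ := D.dihMax_equiv
  exact ⟨_, ⟨e.trans ((Subgroup.equivMapOfInjective _ _ (Subgroup.subtype_injective _)).symm.trans f)⟩⟩

end Cfsg.Agent.S1206
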