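import Cfsg.Statements.S1207
import Cfsg.Agent.Lib.Invol.QDClasses

set_option autoImplicit false
open Cfsg

namespace Cfsg.Agent.S1207

/-- Let G be a finite group with quasi-dihedral Sylow 2-subgroup S, T a Klein four-subgroup and Q a quaternion subgroup of order 8 of S, with |N_G(T) : C_G(T)| = 2 and |N_G(Q) : Q C_G(Q)| = 2. Then G has a normal 2-complement, exactly two classes of involutions and exactly two classes of elements of order 4. -/
theorem result {G : Type*} [Group G] [Finite G] (S : Sylow 2 G) (hS : Cfsg.IsQuasiDihedral (S : Subgroup G)) (T : Subgroup G) (hT : IsKleinFour T) (hTS : T ≤ S) (Q : Subgroup G) (hQS : Q ≤ S) (eQ : Q ≃* QuaternionGroup 2) (h₁ : (Subgroup.centralizer (T : Set G)).relIndex (Subgroup.normalizer (T : Set G)) = 2) (h₂ : (Q ⊔ Subgroup.centralizer (Q : Set G)).relIndex (Subgroup.normalizer (Q : Set G)) = 2) : Cfsg.HasNormalPComplement 2 G ∧ Nat.card {C : ConjClasses G // ∃ t : G, orderOf t = 2 ∧ ConjClasses.mk t = C} =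 2 ∧ Nat.card {C : ConjClasses G // ∃ t : G, orderOf t = 4 ∧ ConjClasses.mk t = C} = 2 := by
  obtain ⟨D, n, hn, hm, hc⟩ := CfsgLib.Invol.exists_qdData hS
  have hT' := CfsgLib.Invol.qd_T S D T hT hTS
  have hQ' := CfsgLib.Invol.qd_Q S D Q hQS eQ
  have hno2 : ¬ IsConj (CfsgLib.Invol.qz S D) (CfsgLib.Invol.qy S D) := fun h => by
    rw [hT'.2.1.2 h] at h₁; omega
  have hno4 : ¬ IsConj (CfsgLib.Invol.qa S D) (CfsgLib.Invol.qb S D) := fun h => by
    rw [hQ'.2.1.2 h] at h₂; omega
  refine ⟨CfsgLib.Transfer.hasNormalPComplement_of_controls_fusion S ?_,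
    (CfsgLib.Invol.qd_classes_two S D).2 hno2, (CfsgLib.Invol.qd_classes_four S D).2 hno4⟩
  rintro x hx y hy ⟨g, rfl⟩
  exact CfsgLib.Invol.qd_controls S D hm hno2 hno4 hx hy

end Cfsg.Agent.S1207
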