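import Cfsg.Statements.S1210
import Cfsg.Agent.Lib.Invol.WreathedClasses

set_option autoImplicit false
open Cfsg

namespace Cfsg.Agent.S1210

open CfsgLib.Invol

/-- Let G be a finite group whose Sylow 2-subgroup S is wreathed of order 2^(2n+1), U the commutative subgroup of index 2 in S, Q a quaternion subgroup of order 8 of S and V = Q Z(S). If |N_G(U) : C_G(U)| = 2 and |N_G(V) : V C_G(V)| = 6, then G has a normal subgroup K of index 2^n whose Sylow 2-subgroups are generalized quaternion and which has no subgroup of index 2; every subgroup of Z(S) is weakly closed in S; and G has exactly two classes of involutions. -/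
theorem result {G : Type*} [Group G] [Finite G] (S : Sylow 2 G) (hS : Cfsg.IsWreathed (S : Subgroup G)) (n : ℕ) (hn : Nat.card S = 2 ^ (2 * n + 1)) (U : Subgroup G) (hUS : U ≤ S) (hUab : IsMulCommutative U) (hUcard : Nat.card U = 2 ^ (2 * n)) (Q : Subgroup G) (hQS : Q ≤ S) (eQ : Q ≃* QuaternionGroup 2) (h₁ : (Subgroup.centralizer (U : Set G)).relIndex (Subgroup.normalizer (U : Set G)) = 2) (h₂ : ((Q ⊔ ((Subgroup.center (S : Subgroup G)).map (S : Subgroup G).subtype)) ⊔ Subgroup.centralizer ((Q ⊔ ((Subgroup.center (S : Subgroup G)).map (S : Subgroup G).subtype) : Subgroup G) : Set G)).relIndex (Subgroup.normalizer ((Q ⊔ ((Subgroup.center (S : Subgroup G)).map (S : Subgroup G).subtype) : Subgroup G) : Set G)) = 6) : (∃ K : Subgroup G, K.Normal ∧ K.index = 2 ^ n ∧ (∀ P : Sylow 2 ↥K, ∃ m : ℕ, 1 ≤ m ∧ Nonempty ((P : Subgroup ↥K) ≃* QuaternionGroup (2 ^ m))) ∧ (∀ H : Subgroup ↥K, H.index ≠ 2)) ∧ (∀ Z₀ : Subgroup G, Z₀ ≤ ((Subgroup.center (S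 : Subgroup G)).map (S : Subgroup G).subtype) → Cfsg.IsWeaklyClosed Z₀ (S : Subgroup G)) ∧ Nat.card {C : ConjClasses G // ∃ t : G, orderOf t = 2 ∧ ConjClasses.mk t = C} = 2 := by
  obtain ⟨D⟩ := exists_wrData hS
  obtain ⟨hnn, rfl, hV⟩ := wr_setup S D n hn U hUS hUab hUcard Q hQS eQ
  obtain ⟨hA1, hA2, hA3⟩ := wA_index S D
  obtain ⟨hV1, hV2, hV3, hV4⟩ := wV_index S D
  rw [hV] at h₂
  have hze : ¬ IsConj (D.z : G) (wel S D D.h 0) := fun h => by rw [hA2.2 h] at h₁; omega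
  have hte := hV2.1 h₂
  have hz := wz_isolated S D hze hte
  have hR : Cfsg.pResidual 2 G ⊓ (S : Subgroup G) = D.Y0.map (S : Subgroup G).subtype :=
    le_antisymm (residual_le_Y0 S D hz h₁)
      (le_inf (Y0_le_residual S D (hV4 h₂)) (Subgroup.map_subtype_le _))
  obtain ⟨hKn, hKi, hKp, hK2⟩ := residual_package S _ hR
  refine ⟨⟨_, hKn, ?_, fun P => ?_, hK2⟩, fun Z₀ hZ₀ => ⟨hZ₀.trans (Subgroup.map_subtype_le _), fun g hg => ?_⟩, ?_⟩
  · rw [hKi, hnn, ← D.index_Y0]
    exact congrArg Subgroup.index (Subgroup.comap_map_eq_self_of_injective (Subgroup.subtype_injective _) _)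
  · obtain ⟨e⟩ := hKp P
    obtain ⟨f⟩ := D.Y0_equiv
    exact ⟨D.n - 1, by have := D.two_le; omega,
      ⟨e.trans ((Subgroup.equivMapOfInjective _ _ (Subgroup.subtype_injective _)).symm.trans f)⟩⟩
  · have hfix : ∀ z ∈ Z₀, g * z * g⁻¹ = z := by
      intro z hz₀
      obtain ⟨s, hs, rfl⟩ := hZ₀ hz₀
      obtain ⟨i, rfl⟩ := D.mem_center_iff.1 hs
      exact isoElt_fix (isoElt_wel S D hz i) (hg ⟨_, hz₀, rfl⟩)
    ext x
    exact ⟨fun ⟨z, hz₀, e⟩ => by rw [← e, MulEquiv.coe_toMonoidHom, MulAut.conj_apply, hfix z hz₀]; exact hz₀,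
      fun hx => ⟨x, hx, hfix x hx⟩⟩
  · refine card_classes_two (wz_involution S D) (we_involution S D) hze fun t ht => ?_
    rcases invol_classes S D ht with h | h | h
    exacts [Or.inl h, Or.inr h, Or.inr (h.trans hte)]

end Cfsg.Agent.S1210
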