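import Cfsg.Statements.S1212
import Cfsg.Agent.Lib.Invol.WreathedClasses

set_option autoImplicit false
open Cfsg

namespace Cfsg.Agent.S1212

open CfsgLib.Invol

/-- Let G be a finite group whose Sylow 2-subgroup S is wreathed of order 2^(2n+1), U the commutative subgroup of index 2 in S, Q a quaternion subgroup of order 8 of S and V = Q Z(S). If |N_G(U) : C_G(U)| = 2 and |N_G(V) : V C_G(V)| = 2, then G has a normal 2-complement and exactly three conjugacy classes of involutions. -/
theorem result {G : Type*} [Group G] [Finite G] (S : Sylow 2 G) (hS : Cfsg.IsWreathed (S : Subgroup G)) (n : ℕ) (hn : Nat.card S = 2 ^ (2 * n + 1)) (U : Subgroup G) (hUS : U ≤ S) (hUab : IsMulCommutative U) (hUcard : Nat.card U = 2 ^ (2 * n)) (Q : Subgroup G) (hQS : Q ≤ S) (eQ : Q ≃* QuaternionGroup 2) (h₁ : (Subgroup.centralizer (U : Set G)).relIndex (Subgroup.normalizer (U : Set G)) = 2) (h₂ : ((Q ⊔ ((Subgroup.center (S : Subgroup G)).map (S : Subgroup G).subtype)) ⊔ Subgroup.centralizer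 ((Q ⊔ ((Subgroup.center (S : Subgroup G)).map (S : Subgroup G).subtype) : Subgroup G) : Set G)).relIndex (Subgroup.normalizer ((Q ⊔ ((Subgroup.center (S : Subgroup G)).map (S : Subgroup G).subtype) : Subgroup G) : Set G)) = 2) : Cfsg.HasNormalPComplement 2 G ∧ Nat.card {C : ConjClasses G // ∃ t : G, orderOf t = 2 ∧ ConjClasses.mk t = C} = 3 := by
  obtain ⟨D⟩ := exists_wrData hS
  obtain ⟨hnn, rfl, hV⟩ := wr_setup S D n hn U hUS hUab hUcard Q hQS eQ
  obtain ⟨hA1, hA2, hA3⟩ := wA_index S D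
  obtain ⟨hV1, hV2, hV3, hV4⟩ := wV_index S D
  rw [hV] at h₂
  have hze : ¬ IsConj (D.z : G) (wel S D D.h 0) := fun h => by rw [hA2.2 h] at h₁; omega
  have hte : ¬ IsConj (wt S D) (wel S D D.h 0) := fun h => by rw [hV2.2 h] at h₂; omega
  refine ⟨CfsgLib.Transfer.hasNormalPComplement_of_controls_fusion S ?_,
    card_classes_three (wz_involution S D) (we_involution S D) (wt_involution S D) hze ?_
      (fun h => hte h.symm) fun t ht => invol_classes S D ht⟩
  · rintro x hx y hy ⟨g, rfl⟩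
    exact wr_controls S D h₁ hte hx hy
  · intro h
    obtain ⟨g, hg⟩ := isConj_iff.1 h.symm
    exact hte (hV3 ⟨_, D.el_t_notMem_A 0 0, g, hg ▸ ⟨_, D.el_mem_A D.h D.h, rfl⟩⟩)

end Cfsg.Agent.S1212
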