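import Cfsg.Statements.S1214
import Cfsg.Agent.Lib.Invol.QWGroups

set_option autoImplicit false
open Cfsg

namespace Cfsg.Agent.S1214

/-- Let G be a finite group with quasi-dihedral or wreathed Sylow 2-subgroups and no subgroup of index 2. Then G/O(G), the quotient by the largest normal subgroup of odd order, has a normal subgroup of odd index which is a non-abelian simple group. -/
theorem result {G : Type*} [Group G] [Finite G] (S : Sylow 2 G) (hS : Cfsg.IsQuasiDihedral (S : Subgroup G) ∨ Cfsg.IsWreathed (S : Subgroup G)) (hG : ∀ H : Subgroup G, H.index ≠ 2) : ∃ L : Subgroup (G ⧸ Cfsg.oddCore G), L.Normal ∧ Odd L.index ∧ IsSimpleGroup L ∧ ¬ IsMulCommutative L := by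
  have hn : (Cfsg.oddCore G).Normal := CfsgLib.Solvable.pPrimeCore_normal 2 G
  set q := QuotientGroup.mk' (Cfsg.oddCore G)
  have hq : Function.Surjective q := QuotientGroup.mk'_surjective _
  let S' : Sylow 2 (G ⧸ Cfsg.oddCore G) := S.mapSurjective hq
  have hinj : Function.Injective (q.comp (S : Subgroup G).subtype) := by
    rw [← MonoidHom.ker_eq_bot_iff, Subgroup.eq_bot_iff_forall]
    intro s hs
    have hsO : (s : G) ∈ Cfsg.oddCore G := (QuotientGroup.eq_one_iff _).1 hs
    obtain ⟨k, hk⟩ := S.2 s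
    have h1 : orderOf (s : G) ∣ 2 ^ k := orderOf_dvd_of_pow_eq_one (congrArg Subtype.val hk)
    have h2 : orderOf (s : G) ∣ Nat.card (Cfsg.oddCore G) := Subgroup.orderOf_dvd_natCard _ hsO
    exact Subtype.ext (orderOf_eq_one_iff.1 (Nat.eq_one_of_dvd_coprimes
      (Nat.Coprime.pow_left k (Nat.coprime_two_left.2 (CfsgLib.Invol.odd_card_oddCore G))) h1 h2))
  have hS' : CfsgLib.Invol.IsQW (S' : Subgroup (G ⧸ Cfsg.oddCore G)) :=
    CfsgLib.Invol.IsQW.congr ((MonoidHom.ofInjective hinj).trans (MulEquiv.subgroupCongr (by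
      rw [MonoidHom.range_comp, Subgroup.range_subtype]; rfl))) hS
  exact CfsgLib.Invol.qw_exists_simple S' hS'
    (fun H hH => hG _ ((Subgroup.index_comap_of_surjective H hq).trans hH))
    (CfsgLib.Solvable.pPrimeCore_quotient_eq_bot 2)

end Cfsg.Agent.S1214
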