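import Cfsg.Statements.S1215
import Cfsg.Agent.Lib.Invol.IsoElt

set_option autoImplicit false
open Cfsg

namespace Cfsg.Agent.S1215

/-- Let H be a finite group with quasi-dihedral or wreathed Sylow 2-subgroup S such that H has a normal subgroup K of index a power of 2 with no subgroup of index 2 and with generalized quaternion Sylow 2-subgroups, and such that every subgroup of Z(S) is weakly closed in S with respect to H. Then H = O(H) C_H(Z(S)): every element of H is the product of an element of the largest normal odd-order subgroup and an element centralizing Z(S). -/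
theorem result {H : Type*} [Group H] [Finite H] (S : Sylow 2 H) (hS : Cfsg.IsQuasiDihedral (S : Subgroup H) ∨ Cfsg.IsWreathed (S : Subgroup H)) (hQ : (∃ K : Subgroup H, K.Normal ∧ (∃ a : ℕ, K.index = 2 ^ a) ∧ (∀ M : Subgroup ↥K, M.index ≠ 2) ∧ (∀ P : Sylow 2 ↥K, ∃ m : ℕ, 1 ≤ m ∧ Nonempty ((P : Subgroup ↥K) ≃* QuaternionGroup (2 ^ m)))) ∧ (∀ Z₀ : Subgroup H, Z₀ ≤ ((Subgroup.center (S : Subgroup H)).map (S : Subgroup H).subtype) → Cfsg.IsWeaklyClosed Z₀ (S : Subgroup H))) (h : H) : ∃ o ∈ Cfsg.oddCore H, ∃ c ∈ Subgroup.centralizer (((Subgroup.center (S : Subgroup H)).map (S : Subgroup H).subtype : Subgroup H) : Set H), h = o * c := by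
  set P : Subgroup H := (S : Subgroup H) with hP
  set Z := (Subgroup.center (S : Subgroup H)).map (S : Subgroup H).subtype with hZdef
  refine CfsgLib.Invol.exists_core_mul_centralizer S (Z := Z) (fun c hc => ⟨?_, fun k g hg => ?_⟩) h
  · exact Subgroup.map_subtype_le _ hc
  have hckZ : c ^ k ∈ Z := pow_mem hc k
  set W := Subgroup.zpowers (c ^ k) with hW
  have hwc := hQ.2 W (Subgroup.zpowers_le.2 hckZ)
  have hmap := hwc.2 g (by
    rintro _ ⟨w, ⟨i, rfl⟩, rfl⟩
    show g * (c ^ k) ^ i * g⁻¹ ∈ (S : Subgroup H)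
    rw [← conj_zpow]; exact zpow_mem hg i)
  have hgN : g ∈ Subgroup.normalizer (W : Set H) := by
    refine Subgroup.mem_normalizer_iff.2 fun w => ?_
    constructor
    · intro hw
      rw [← hmap]
      exact ⟨w, hw, rfl⟩
    · intro hw
      rw [← hmap] at hw
      obtain ⟨w', hw', e⟩ := hw
      have : w' = w := (MulAut.conj g).injective (by simpa using e)
      exact this ▸ hw'
  set N := Subgroup.normalizer (W : Set H)
  let φ := W.normalizerMonoidHom
  have hPN : (S : Subgroup H) ≤ Subgroup.centralizer (W : Set H) := by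
    intro s hs
    refine Subgroup.mem_centralizer_iff.2 ?_
    rintro w ⟨i, rfl⟩
    obtain ⟨v, hv, hvc⟩ := zpow_mem hckZ i
    show (c ^ k) ^ i * s = s * (c ^ k) ^ i
    rw [← hvc]
    exact (congrArg Subtype.val (Subgroup.mem_center_iff.1 hv ⟨s, hs⟩)).symm
  have hPle : (S : Subgroup H) ≤ N := hPN.trans (Subgroup.centralizer_le_normalizer _)
  have hWc : W ≤ (S : Subgroup H) := hwc.1
  obtain ⟨m, hm⟩ := (S.2.to_le hWc).exists_card_eq
  have htriv : ∀ n : N, φ n = 1 := by
    have hker : ((S : Subgroup H).subgroupOf N) ≤ φ.ker := by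
      intro n hn
      rw [Subgroup.normalizerMonoidHom_ker]
      exact hPN hn
    have hodd : ¬ 2 ∣ φ.ker.index := fun h2 => by
      have h3 := h2.trans (Subgroup.index_dvd_of_le hker)
      exact (S.subtype hPle).not_dvd_index h3
    have h2g : IsPGroup 2 (MulAut W) := by
      have : IsCyclic W := inferInstance
      refine IsPGroup.of_card (n := m - 1) ?_
      rw [IsCyclic.card_mulAut, hm]
      rcases m with _ | m
      · simp
      · rw [Nat.totient_prime_pow_succ Nat.prime_two]; simp
    obtain ⟨r, hr⟩ := (h2g.to_subgroup φ.range).exists_card_eq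
    rw [Subgroup.index_ker, hr] at hodd
    have hr0 : r = 0 := by
      by_contra h0; exact hodd (dvd_pow_self 2 h0)
    rw [hr0, pow_zero] at hr
    intro n
    have h9 : φ n ∈ φ.range := ⟨n, rfl⟩
    rw [Subgroup.card_eq_one.1 hr, Subgroup.mem_bot] at h9
    exact h9
  have h1 : (⟨g, hgN⟩ : N) ∈ φ.ker := htriv _
  rw [Subgroup.normalizerMonoidHom_ker] at h1
  have h2 := Subgroup.mem_centralizer_iff.1 h1 (c ^ k) (Subgroup.mem_zpowers _)
  show g * c ^ k * g⁻¹ = c ^ k
  rw [show g * c ^ k = c ^ k * g from h2.symm, mul_inv_cancel_right]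

end Cfsg.Agent.S1215
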