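import Cfsg.Statements.S1231
import Cfsg.Agent.Lib.Invol.Control

set_option autoImplicit false
open Cfsg

namespace Cfsg.Agent.S1231

/-- Let H be a subgroup of the finite group G, p a prime, k ≥ 1, and P a Sylow p-subgroup of H whose p-rank is at least k. Then N_G(X) ≤ H for every subgroup X of P of p-rank at least k if and only if H ∩ gHg⁻¹ has p-rank less than k for every g ∉ H. -/
theorem result {G : Type*} [Group G] [Finite G] {p : ℕ} [Fact p.Prime] (k : ℕ) (hk : 1 ≤ k) (H : Subgroup G) (P : Sylow p ↥H) (hP : ¬ Cfsg.PRankLE p (k - 1) ↥(P : Subgroup ↥H)) : (∀ X : Subgroup G, X ≤ (P : Subgroup ↥H).map H.subtype → ¬ Cfsg.PRankLE p (k - 1) ↥X → Subgroup.normalizer (X : Set G) ≤ H) ↔ (∀ g : G, g ∉ H → Cfsg.PRankLE p (k - 1) ↥(H ⊓ H.map (MulAut.conj g).toMonoidHom)) := by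
  constructor
  · intro hN g hg
    by_contra hbig
    obtain ⟨A, hA, hAc, hAp, hAcard⟩ := CfsgLib.Invol.exists_elemAb_of_not_prankLE hbig
    refine CfsgLib.Invol.not_prop_of_normalizer_le H P (fun X => ¬ Cfsg.PRankLE p (k - 1) ↥X)
      (fun X Y hXY _ hX hY => hX (CfsgLib.Invol.prankLE_of_le hXY hY))
      (fun X g hX hY => hX ((CfsgLib.Invol.prankLE_conj_iff g).1 hY)) hN hg
      (CfsgLib.Invol.isPGroup_of_forall_pow hAp) hA fun h => ?_
    have h1 := h ⊤ ⟨⟨fun a b => Subtype.ext (hAc.is_comm.comm (a : A) (b : A))⟩⟩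
      fun a _ => Subtype.ext (by simpa using hAp a a.2)
    rw [Subgroup.card_top] at h1
    omega
  · intro h X hX hQ n hn
    by_contra hnH
    refine hQ (CfsgLib.Invol.prankLE_of_le (fun x hx => ?_) (h n hnH))
    have hXH : X ≤ H := hX.trans (Subgroup.map_subtype_le _)
    refine Subgroup.mem_inf.2 ⟨hXH hx, n⁻¹ * x * n, hXH ?_, by simp [mul_assoc]⟩
    exact (Subgroup.mem_normalizer_iff.1 hn _).2 (by simpa [mul_assoc] using hx)

end Cfsg.Agent.S1231
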