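import Cfsg.Statements.S1234
import Cfsg.Agent.Lib.SRank.SelfCentral

set_option autoImplicit false
open Cfsg

namespace Cfsg.Agent.S1234

/-- Let S be a finite 2-group and Q ≤ S a subgroup of order 32 having an elementary abelian subgroup E of order 16 and an involution s ∉ E whose centralizer in E has order 4 (so Q ≅ (Z₂ × Z₂) ≀ Z₂). If C_S(Z(Q)) = Q, then every section of S has 2-rank at most 4. -/
theorem result {S : Type*} [Group S] [Finite S] (hS : IsPGroup 2 S) (Q E : Subgroup S) (hEQ : E ≤ Q) (hE : Cfsg.IsElementaryAbelian 2 E) (hE16 : Nat.card E = 16) (hQ32 : Nat.card Q = 32) (s : S) (hsQ : s ∈ Q) (hsE : s ∉ E) (hs : orderOf s = 2) (hfix : Nat.card ↥(E ⊓ Subgroup.centralizer ({s} : Set S)) = 4) (hC : Subgroup.centralizer (((Subgroup.center Q).map Q.subtype : Subgroup S) : Set S) = Q) : Cfsg.SectionalPRankLE 2 4 S := by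
  classical
  have hss : s * s = 1 := by rw [← pow_two, ← hs, pow_orderOf_eq_one]
  set W := E ⊓ Subgroup.centralizer ({s} : Set S)
  have hWs : ∀ w ∈ W, w * s = s * w := fun w hw => Subgroup.mem_centralizer_singleton_iff.1 hw.2
  have hE2 : CfsgLib.SRank.Exp2 E := fun x hx => by rw [← pow_two]; exact hE.2 x hx
  let A : Subgroup S :=
    { carrier := {x | x ∈ W ∨ s * x ∈ W}
      one_mem' := Or.inl (one_mem W)
      mul_mem' := fun {x y} hx hy => by
        rcases hx with hx | hx <;> rcases hy with hy | hy
        · exact Or.inl (mul_mem hx hy)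
        · refine Or.inr ?_
          rw [← mul_assoc, ← hWs x hx, mul_assoc]
          exact mul_mem hx hy
        · refine Or.inr ?_
          rw [← mul_assoc]
          exact mul_mem hx hy
        · refine Or.inl ?_
          rw [show x * y = s⁻¹ * ((s * x) * s⁻¹) * (s * y) by group,
            inv_eq_of_mul_eq_one_right hss, hWs _ hx, ← mul_assoc s s, hss, one_mul]
          exact mul_mem hx hy
      inv_mem' := fun {x} hx => by
        rcases hx with hx | hx
        · exact Or.inl (inv_mem hx)
        · refine Or.inr ?_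
          rw [show s * x⁻¹ = s * ((s * x)⁻¹ * s) by group, hWs _ (inv_mem hx), ← mul_assoc, hss,
            one_mul]
          exact inv_mem hx }
  have hA2 : CfsgLib.SRank.Exp2 A := by
    intro x hx
    rcases hx with hx | hx
    · exact hE2 x hx.1
    · calc x * x = s⁻¹ * ((s * x) * s⁻¹) * (s * x) := by group
        _ = 1 := by
          rw [inv_eq_of_mul_eq_one_right hss, hWs _ hx, ← mul_assoc s s, hss, one_mul,
            hE2 _ hx.1]
  have hsA : s ∈ A := Or.inr (by rw [hss]; exact one_mem W)
  have hWA : W ≤ A := fun x hx => Or.inl hx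
  have hA8 : Nat.card A = 8 := by
    apply le_antisymm
    · let φ : A → W × Bool := fun x =>
        if h : (x : S) ∈ W then (⟨x, h⟩, true) else (⟨s * x, x.2.resolve_left h⟩, false)
      have hφ : Function.Injective φ := by
        intro x y hxy
        simp only [φ] at hxy
        split_ifs at hxy with h1 h2 h2
        · exact Subtype.ext (congrArg (fun t : W × Bool => (t.1 : S)) hxy)
        · exact absurd (congrArg Prod.snd hxy) (by simp)
        · exact absurd (congrArg Prod.snd hxy) (by simp)
        · exact Subtype.ext (mul_left_cancel (congrArg (fun t : W × Bool => (t.1 : S)) hxy))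
      refine (Nat.card_le_card_of_injective φ hφ).trans ?_
      rw [Nat.card_prod, hfix]
      simp
    · have := CfsgLib.SRank.two_mul_card_le (lt_of_le_not_ge hWA fun h => hsE (h hsA).1)
      omega
  have hidx : (E.subgroupOf Q).index = 2 := by
    have h2 := Subgroup.card_mul_index (E.subgroupOf Q)
    rw [Nat.card_congr (Subgroup.subgroupOfEquivOfLe hEQ).toEquiv, hE16, hQ32] at h2
    omega
  have hsplit : ∀ q ∈ Q, q ∉ E → s * q ∈ E := fun q hq hqE => by
    have h := (Subgroup.mul_mem_iff_of_index_two hidx (a := ⟨s, hsQ⟩) (b := ⟨q, hq⟩)).2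
    simp only [Subgroup.mem_subgroupOf, Subgroup.coe_mul] at h
    exact h (iff_of_false hsE hqE)
  have hZA : (Subgroup.center Q).map Q.subtype ≤ A := by
    rintro _ ⟨q, hq, rfl⟩
    have hqs : (q : S) * s = s * q :=
      (congrArg Subtype.val (Subgroup.mem_center_iff.1 hq ⟨s, hsQ⟩)).symm
    by_cases hqE : (q : S) ∈ E
    · exact Or.inl ⟨hqE, Subgroup.mem_centralizer_singleton_iff.2 hqs⟩
    · exfalso
      have hle : E ≤ W := fun e he => ⟨he, Subgroup.mem_centralizer_singleton_iff.2 (by
        have h1 : e * (s * q) = s * q * e := hE2.comm he (hsplit q q.2 hqE)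
        have h2 : e * (q : S) = q * e :=
          congrArg Subtype.val (Subgroup.mem_center_iff.1 hq ⟨e, hEQ he⟩)
        rw [← mul_assoc, mul_assoc s, ← h2, ← mul_assoc] at h1
        exact mul_right_cancel h1)⟩
      have := Subgroup.card_le_of_le hle
      omega
  refine CfsgLib.SRank.sectional_of_gen (CfsgLib.SRank.gen_four_of_self_central_eight hS A hA2 hA8
    (le_antisymm (fun x hx => ?_) fun x hx => Subgroup.mem_centralizer_iff.2 fun y hy =>
      hA2.comm hy hx))
  have hxQ : x ∈ Q := by
    rw [← hC]
    exact Subgroup.mem_centralizer_iff.2 fun y hy => Subgroup.mem_centralizer_iff.1 hx y (hZA hy)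
  have hxs : s * x = x * s := Subgroup.mem_centralizer_iff.1 hx s hsA
  by_cases hxE : x ∈ E
  · exact Or.inl ⟨hxE, Subgroup.mem_centralizer_singleton_iff.2 hxs.symm⟩
  · exact Or.inr ⟨hsplit x hxQ hxE, Subgroup.mem_centralizer_singleton_iff.2 (by
      rw [mul_assoc, ← hxs])⟩

end Cfsg.Agent.S1234
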