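import Cfsg.Statements.S1235
import Cfsg.Agent.Lib.SRank.DihedralFour
import Cfsg.Agent.Lib.SRank.Sylow

set_option autoImplicit false
open Cfsg

namespace Cfsg.Agent.S1235

/-- Let G be a finite group, x an involution and T ≤ G a Sylow 2-subgroup of C_G(x) (T ≤ C_G(x) with |C_G(x) : T| odd) which is the internal direct product of a subgroup D that is dihedral (of order ≥ 4) or quasi-dihedral and a Klein four-subgroup B. Suppose that for every involution b ∈ B, T ≤ C_G(b) with |C_G(b) : T| odd. Then every section of G has 2-rank at most 4. -/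
theorem result {G : Type*} [Group G] [Finite G] (x : G) (hx : orderOf x = 2) (T D B : Subgroup G) (hT : IsPGroup 2 T) (hTx : T ≤ Subgroup.centralizer ({x} : Set G)) (hTxi : Odd (T.relIndex (Subgroup.centralizer ({x} : Set G)))) (hprod : Cfsg.IsInternalDirectProduct D B T) (hD : (∃ m : ℕ, 2 ≤ m ∧ Nonempty (D ≃* DihedralGroup m)) ∨ Cfsg.IsQuasiDihedral D) (hB : IsKleinFour B) (hTb : ∀ b ∈ B, orderOf b = 2 → T ≤ Subgroup.centralizer ({b} : Set G) ∧ Odd (T.relIndex (Subgroup.centralizer ({b} : Set G)))) : Cfsg.SectionalPRankLE 2 4 G := by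
  classical
  haveI : Fact (Nat.Prime 2) := ⟨Nat.prime_two⟩
  obtain ⟨S, hTS⟩ := hT.exists_le_sylow
  obtain ⟨hDT, hBT, hcomm, hinf, hsup⟩ := hprod
  have hle : ∀ {U : Subgroup G}, U ≤ T → U ≤ (S : Subgroup G) := fun h => h.trans hTS
  refine CfsgLib.SRank.sectional_of_sylow S (fun K => CfsgLib.SRank.FourData.gen_four
    (T := T.subgroupOf S) (D := D.subgroupOf S) (B := B.subgroupOf S) ?_ K)
  haveI := hB
  refine ⟨S.2, fun a ha => hDT ha, fun a ha => hBT ha,
    fun a ha b hb => Subtype.ext (hcomm _ ha _ hb), ?_, ?_, ?_, ?_, ?_, fun b hb hb1 => ?_⟩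
  · refine eq_bot_iff.2 fun a ha => Subgroup.mem_bot.2 (Subtype.ext ?_)
    exact Subgroup.mem_bot.1 (hinf.le ⟨ha.1, ha.2⟩)
  · refine le_antisymm (sup_le (fun a ha => hDT ha) fun a ha => hBT ha) fun a ha => ?_
    have hle' : D ⊔ B ≤ (D.subgroupOf S ⊔ B.subgroupOf S).map (S : Subgroup G).subtype := sup_le
      (fun d hd => ⟨⟨d, hle hDT hd⟩, Subgroup.mem_sup_left hd, rfl⟩)
      fun d hd => ⟨⟨d, hle hBT hd⟩, Subgroup.mem_sup_right hd, rfl⟩
    obtain ⟨a', ha', h'⟩ := hle' (hsup.ge (ha : (a : G) ∈ T))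
    rwa [← Subtype.ext h']
  · intro a ha
    exact Subtype.ext (congrArg Subtype.val (IsKleinFour.mul_self (⟨(a : G), ha⟩ : B)) :)
  · rw [Nat.card_congr (Subgroup.subgroupOfEquivOfLe (hle hBT)).toEquiv]
    exact hB.card_four
  · refine CfsgLib.SRank.Shape.of_equiv (Subgroup.subgroupOfEquivOfLe (hle hDT)).symm ?_
    rcases hD with ⟨m, hm, ⟨e⟩⟩ | hD
    · exact CfsgLib.SRank.Shape.of_equiv e.symm (CfsgLib.SRank.shape_dihedral m hm)
    · exact CfsgLib.SRank.shape_quasiDihedral hD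
  · have hb2 : (b : G) * b = 1 :=
      congrArg Subtype.val (IsKleinFour.mul_self (⟨(b : G), hb⟩ : B))
    have hbo : orderOf (b : G) = 2 :=
      orderOf_eq_prime (by rw [pow_two]; exact hb2) fun h => hb1 (Subtype.ext h)
    obtain ⟨hTC, hodd⟩ := hTb _ hb hbo
    set C := Subgroup.centralizer ({(b : G)} : Set G)
    have hPT : T = (S : Subgroup G) ⊓ C := by
      have hlePC : T ≤ (S : Subgroup G) ⊓ C := le_inf hTS hTC
      refine le_antisymm hlePC (Subgroup.relIndex_eq_one.1 ?_)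
      have h := Subgroup.relIndex_mul_relIndex T ((S : Subgroup G) ⊓ C) C hlePC inf_le_right
      have hodd' : Odd (T.relIndex C) := hodd
      rw [← h] at hodd'
      have ho := (Nat.odd_mul.1 hodd').1
      obtain ⟨k, hk⟩ := (S.2.to_le (inf_le_left : (S : Subgroup G) ⊓ C ≤ S)).exists_card_eq
      have hd : T.relIndex ((S : Subgroup G) ⊓ C) ∣ 2 ^ k := hk ▸ Subgroup.index_dvd_card _
      obtain ⟨j, -, hj⟩ := (Nat.dvd_prime_pow Nat.prime_two).1 hd
      rw [hj] at ho ⊢
      rcases j with _ | j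
      · rfl
      · exact absurd ho (Nat.not_odd_iff_even.2 (even_iff_two_dvd.2 (dvd_pow_self 2 j.succ_ne_zero)))
    ext a
    rw [Subgroup.mem_centralizer_singleton_iff, Subgroup.mem_subgroupOf]
    constructor
    · intro h
      rw [hPT]
      exact ⟨a.2, Subgroup.mem_centralizer_singleton_iff.2 (congrArg Subtype.val h)⟩
    · intro h
      exact Subtype.ext (Subgroup.mem_centralizer_singleton_iff.1 (hTC h))

end Cfsg.Agent.S1235
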