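import Cfsg.Statements.S1236
import Cfsg.Agent.Lib.Invol.QDSubgroups
import Mathlib.GroupTheory.SpecificGroups.Dihedral

set_option autoImplicit false
open Cfsg

namespace Cfsg.Agent.S1236

theorem centralizer_four_dihedral {m : ℕ} [NeZero m] (V : Subgroup (DihedralGroup m))
    (hV : IsKleinFour V) :
    Subgroup.centralizer (V : Set (DihedralGroup m)) ≤ V := by
  classical
  -- `V` contains a reflection and a rotation different from `1`
  have key : ∀ i : ZMod m, 2 * i = 0 → ∀ j : ZMod m, 2 * j = 0 → i = 0 ∨ j = 0 ∨ i = j := by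
    intro i hi j hj
    have h : ∀ i : ZMod m, 2 * i = 0 → i.val = 0 ∨ 2 * i.val = m := by
      intro i hi
      have hd : m ∣ 2 * i.val := by
        rw [← ZMod.natCast_eq_zero_iff]
        push_cast
        rw [ZMod.natCast_zmod_val]; exact hi
      have := i.val_lt
      obtain ⟨c, hc⟩ := hd
      rcases c with _ | _ | c
      · left; omega
      · right; omega
      · nlinarith
    rcases h i hi with a | a
    · exact Or.inl ((ZMod.val_eq_zero i).1 a)
    rcases h j hj with b | b
    · exact Or.inr (Or.inl ((ZMod.val_eq_zero j).1 b))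
    exact Or.inr (Or.inr (ZMod.val_injective m (by omega)))
  have hsq : ∀ w ∈ V, w * w = 1 := fun w hw =>
    congrArg Subtype.val (IsKleinFour.mul_self (⟨w, hw⟩ : V))
  have hrot : ∀ i, DihedralGroup.r i ∈ V → 2 * i = 0 := by
    intro i hi
    have := hsq _ hi
    rw [DihedralGroup.r_mul_r, DihedralGroup.one_def] at this
    injection this with this
    rw [two_mul]; exact this
  -- a reflection in `V`
  obtain ⟨j, hj⟩ : ∃ j, DihedralGroup.sr j ∈ V := by
    by_contra hcon
    push Not at hcon
    have hall : ∀ w : V, ∃ i, (w : DihedralGroup m) = DihedralGroup.r i := by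
      rintro ⟨(i | i), hw⟩
      · exact ⟨i, rfl⟩
      · exact absurd hw (hcon i)
    choose F hF using hall
    have hF2 : ∀ w, 2 * F w = 0 := fun w => hrot _ (by rw [← hF w]; exact w.2)
    have hinj : Function.Injective F := fun a b e => Subtype.ext (by rw [hF a, hF b, e])
    have h4 : Nat.card V = 4 := hV.card_four
    have : Fintype V := Fintype.ofFinite V
    rw [Nat.card_eq_fintype_card] at h4
    obtain ⟨a, b, c, hab, hac, hbc⟩ := Fintype.two_lt_card_iff.1 (by omega : 2 < Fintype.card V)
    have := key _ (hF2 a) _ (hF2 b)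
    have := key _ (hF2 a) _ (hF2 c)
    have := key _ (hF2 b) _ (hF2 c)
    grind [Function.Injective]
  -- a nontrivial rotation in `V`
  obtain ⟨i, hi, hi0⟩ : ∃ i, DihedralGroup.r i ∈ V ∧ i ≠ 0 := by
    have : Fintype V := Fintype.ofFinite V
    have h4 : Fintype.card V = 4 := by rw [← Nat.card_eq_fintype_card]; exact hV.card_four
    obtain ⟨w, hw⟩ : ∃ w : V, w ≠ 1 ∧ (w : DihedralGroup m) ≠ DihedralGroup.sr j := by
      obtain ⟨a, b, c, hab, hac, hbc⟩ := Fintype.two_lt_card_iff.1 (by omega : 2 < Fintype.card V)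
      by_contra hcon
      push Not at hcon
      grind [Subtype.ext_iff]
    rcases hwv : (w : DihedralGroup m) with i | i
    · refine ⟨i, hwv ▸ w.2, fun h0 => hw.1 (Subtype.ext ?_)⟩
      rw [hwv, h0]; rfl
    · refine ⟨i - j, ?_, fun h0 => hw.2 ?_⟩
      · have := mul_mem hj (hwv ▸ w.2 : DihedralGroup.sr i ∈ V)
        rwa [DihedralGroup.sr_mul_sr] at this
      · rw [hwv, sub_eq_zero.1 h0]
  intro c hc
  rw [Subgroup.mem_centralizer_iff] at hc
  have hcj := hc _ hj
  rcases c with k | k
  · rw [DihedralGroup.sr_mul_r, DihedralGroup.r_mul_sr] at hcj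
    injection hcj with hcj
    have hk : 2 * k = 0 := by linear_combination hcj
    rcases key k hk i (hrot i hi) with h | h | h
    · rw [h]; exact one_mem V
    · exact absurd h hi0
    · rw [h]; exact hi
  · rw [DihedralGroup.sr_mul_sr, DihedralGroup.sr_mul_sr] at hcj
    injection hcj with hcj
    have hk : 2 * (k - j) = 0 := by linear_combination hcj
    have hsr : DihedralGroup.sr k = DihedralGroup.sr j * DihedralGroup.r (k - j) := by
      rw [DihedralGroup.sr_mul_r]; congr 1; ring
    rcases key _ hk i (hrot i hi) with h | h | h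
    · rw [hsr, h]; exact mul_mem hj (one_mem V)
    · exact absurd h hi0
    · rw [hsr, h]; exact mul_mem hj hi

/-- Let R be a finite group, t a central involution of R such that R ⧸ ⟨t⟩ is dihedral (of order ≥ 4) or quasi-dihedral, and A ≤ R an elementary abelian subgroup of order 8 containing t. Then C_R(A) = A. -/
theorem result {R : Type*} [Group R] [Finite R] (t : R) (ht : orderOf t = 2) (htz : t ∈ Subgroup.center R) [(Subgroup.zpowers t).Normal] (hq : (∃ m : ℕ, 2 ≤ m ∧ Nonempty (R ⧸ Subgroup.zpowers t ≃* DihedralGroup m)) ∨ Cfsg.IsQuasiDihedral (R ⧸ Subgroup.zpowers t)) (A : Subgroup R) (hA : Cfsg.IsElementaryAbelian 2 A) (hA8 : Nat.card A = 8) (htA : t ∈ A) : Subgroup.centralizer (A : Set R) = A := by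
  set π := QuotientGroup.mk' (Subgroup.zpowers t)
  set V := A.map π with hVdef
  have hle : Subgroup.zpowers t ≤ A := Subgroup.zpowers_le.2 htA
  have h4 : Nat.card V = 4 := by
    have h := ((Subgroup.zpowers t).subgroupOf A).card_mul_index
    rw [Nat.card_congr (Subgroup.subgroupOfEquivOfLe hle).toEquiv, Nat.card_zpowers, ht, hA8] at h
    have h' := Subgroup.relIndex_ker (K := A) π
    rw [QuotientGroup.ker_mk', Subgroup.relIndex] at h'
    rw [hVdef, ← h']
    omega
  have hsq : ∀ v ∈ V, v * v = 1 := by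
    rintro _ ⟨a, ha, rfl⟩
    rw [← map_mul, ← pow_two, hA.2 a ha, map_one]
  have hV : IsKleinFour V := by
    refine ⟨h4, ?_⟩
    have hdvd : Monoid.exponent V ∣ 2 := Monoid.exponent_dvd_of_forall_pow_eq_one fun v =>
      Subtype.ext (by simpa [pow_two] using hsq v.1 v.2)
    refine ((Nat.dvd_prime Nat.prime_two).1 hdvd).resolve_left fun h => ?_
    have := (Monoid.exp_eq_one_iff.1 h)
    rw [← Finite.card_le_one_iff_subsingleton, h4] at this
    omega
  have hCV : Subgroup.centralizer (V : Set (R ⧸ Subgroup.zpowers t)) ≤ V := by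
    rcases hq with ⟨m, hm, ⟨e⟩⟩ | hq
    · have : NeZero m := ⟨by omega⟩
      have hVe : IsKleinFour (V.map e.toMonoidHom) := by
        have f := Subgroup.equivMapOfInjective V e.toMonoidHom e.injective
        exact ⟨by rw [← Nat.card_congr f.toEquiv]; exact h4,
          by rw [← Monoid.exponent_eq_of_mulEquiv f]; exact hV.exponent_two⟩
      intro c hc
      obtain ⟨v, hv, hve⟩ := centralizer_four_dihedral _ hVe
        (x := e c) (Subgroup.mem_centralizer_iff.2 (by
          rintro _ ⟨v, hv, rfl⟩
          show e v * e c = e c * e v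
          rw [← map_mul, ← map_mul, Subgroup.mem_centralizer_iff.1 hc v hv]))
      exact e.injective hve ▸ hv
    · obtain ⟨D, -⟩ := CfsgLib.Invol.exists_qdData hq
      exact le_of_eq (D.klein_centralizer hV)
  apply le_antisymm
  · intro c hc
    have hcV : π c ∈ V := hCV (Subgroup.mem_centralizer_iff.2 (by
      rintro _ ⟨a, ha, rfl⟩
      rw [← map_mul, ← map_mul, Subgroup.mem_centralizer_iff.1 hc a ha]))
    obtain ⟨a, ha, hac⟩ := hcV
    have : a⁻¹ * c ∈ A := hle (QuotientGroup.eq.1 hac)
    simpa using mul_mem ha this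
  · intro a ha
    rw [Subgroup.mem_centralizer_iff]
    intro b hb
    exact congrArg Subtype.val (hA.1.is_comm.comm ⟨b, hb⟩ ⟨a, ha⟩)

end Cfsg.Agent.S1236
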