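import Cfsg.Statements.S1239
import Cfsg.Agent.Lib.Invol.WreathedIso
import Cfsg.Agent.Lib.Invol.QuasiDihedral

set_option autoImplicit false
open Cfsg

namespace Cfsg.Agent.S1239

/-- Let X be a finite group whose Sylow 2-subgroup S is quasi-dihedral or wreathed, and suppose some involution of S is isolated in X. Then the product of the largest normal odd-order subgroup O(X) with the centre of S is normal in X. -/
theorem result {X : Type*} [Group X] [Finite X] (S : Sylow 2 X) (hS : Cfsg.IsQuasiDihedral (S : Subgroup X) ∨ Cfsg.IsWreathed (S : Subgroup X)) (z : X) (hzS : z ∈ S) (hz : Cfsg.IsIsolatedInvolution z) : (Cfsg.oddCore X ⊔ (Subgroup.center (S : Subgroup X)).map (S : Subgroup X).subtype).Normal := by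
  set P : Subgroup X := (S : Subgroup X)
  have hzc : (⟨z, hzS⟩ : (S : Subgroup X)) ∈ Subgroup.center (S : Subgroup X) := by
    refine Subgroup.mem_center_iff.2 fun s => Subtype.ext (mul_inv_eq_iff_eq_mul.1 ?_)
    exact CfsgLib.Invol.eq_of_mem_sylow_of_isolated S hz (isConj_iff.2 ⟨(s : X), rfl⟩) (IsConj.refl z)
      (mul_mem (mul_mem s.2 hzS) (inv_mem s.2)) hzS
  have hz2 : orderOf (⟨z, hzS⟩ : (S : Subgroup X)) = 2 := by rw [Subgroup.orderOf_mk, hz.1]
  have key : ∀ c ∈ (Subgroup.center (S : Subgroup X)).map (S : Subgroup X).subtype,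
      CfsgLib.Invol.IsoElt (S : Subgroup X) c := by
    rintro _ ⟨c, hc, rfl⟩
    rcases hS with hS | hS
    · obtain ⟨D, n, -, -, -⟩ := CfsgLib.Invol.exists_qdData hS
      have hzD : (⟨z, hzS⟩ : (S : Subgroup X)) = D.z := by
        rw [D.center_eq] at hzc
        obtain ⟨i, hi⟩ := hzc
        rcases Int.even_or_odd i with ⟨j, rfl⟩ | ⟨j, rfl⟩
        · refine absurd ?_ (CfsgLib.Invol.invol_ne_one hz2)
          rw [← hi]
          show D.z ^ (j + j) = 1
          rw [← two_mul, zpow_mul, zpow_two, CfsgLib.Invol.invol_mul_self D.orderOf_z, one_zpow]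
        · rw [← hi]
          show D.z ^ (2 * j + 1) = D.z
          rw [zpow_add_one, zpow_mul, zpow_two, CfsgLib.Invol.invol_mul_self D.orderOf_z, one_zpow, one_mul]
      refine ⟨c.2, fun k g hg => ?_⟩
      have hck : ((c : X)) ^ k = 1 ∨ ((c : X)) ^ k = z := by
        rw [D.center_eq, ← hzD] at hc
        obtain ⟨i, rfl⟩ := hc
        have e : (((⟨z, hzS⟩ : (S : Subgroup X)) ^ i : (S : Subgroup X)) : X) ^ k = z ^ (i * (k : ℤ)) := by
          rw [Subgroup.coe_zpow, zpow_mul, zpow_natCast]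
        rw [e]
        rcases Int.even_or_odd (i * (k : ℤ)) with ⟨j, hj⟩ | ⟨j, hj⟩ <;> rw [hj]
        · left; rw [← two_mul, zpow_mul, zpow_two, CfsgLib.Invol.invol_mul_self hz.1, one_zpow]
        · right; rw [zpow_add_one, zpow_mul, zpow_two, CfsgLib.Invol.invol_mul_self hz.1, one_zpow, one_mul]
      rcases hck with h | h
      · show g * (c : X) ^ k * g⁻¹ = (c : X) ^ k
        rw [h, mul_one, mul_inv_cancel]
      · show g * (c : X) ^ k * g⁻¹ = (c : X) ^ k
        simp only [Subgroup.coe_subtype, h] at hg ⊢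
        exact CfsgLib.Invol.eq_of_mem_sylow_of_isolated S hz (isConj_iff.2 ⟨g, rfl⟩) (IsConj.refl z) hg hzS
    · obtain ⟨D⟩ := CfsgLib.Invol.exists_wrData hS
      obtain ⟨i, hi⟩ := D.mem_center_iff.1 hzc
      have hzD : (⟨z, hzS⟩ : (S : Subgroup X)) = D.z := by
        have h2 := CfsgLib.Invol.invol_mul_self hz2
        rw [hi, D.sq_el_eq_one_iff] at h2
        obtain ⟨w, rfl⟩ := h2.1
        have hN := D.N_eq_two_h
        rcases Int.even_or_odd w with ⟨w', rfl⟩ | ⟨w', rfl⟩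
        · exact absurd (hi.trans (D.el_eq_one_iff.2 ⟨⟨w', by rw [hN]; ring⟩, ⟨w', by rw [hN]; ring⟩⟩))
            (CfsgLib.Invol.invol_ne_one hz2)
        · exact hi.trans (D.el_eq_iff.2 ⟨⟨w', by rw [hN]; ring⟩, ⟨w', by rw [hN]; ring⟩⟩)
      obtain ⟨l, rfl⟩ := D.mem_center_iff.1 hc
      exact CfsgLib.Invol.isoElt_wel S D
        ((congrArg Subtype.val hzD : z = ((D.z : (S : Subgroup X)) : X)) ▸ hz) l
  set Z := (Subgroup.center (S : Subgroup X)).map (S : Subgroup X).subtype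
  have hn : (Cfsg.oddCore X).Normal := CfsgLib.Solvable.pPrimeCore_normal 2 X
  rw [← Subgroup.normalizer_eq_top_iff, eq_top_iff]
  intro g _
  have hle : ∀ g : X, (Cfsg.oddCore X ⊔ Z).map (MulAut.conj g).toMonoidHom ≤ Cfsg.oddCore X ⊔ Z := by
    intro g
    rw [Subgroup.map_sup]
    refine sup_le ?_ ?_
    · rintro _ ⟨o, ho, rfl⟩
      exact Subgroup.mem_sup_left (hn.conj_mem o ho g)
    · rintro _ ⟨c, hc, rfl⟩
      have h := CfsgLib.Invol.isoElt_commutator_mem S (key c hc) g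
      have e : g * c * g⁻¹ = (c * g * c⁻¹ * g⁻¹)⁻¹ * c := by group
      show g * c * g⁻¹ ∈ Cfsg.oddCore X ⊔ Z
      rw [e]
      exact mul_mem (Subgroup.mem_sup_left (inv_mem h)) (Subgroup.mem_sup_right hc)
  refine Subgroup.mem_normalizer_iff.2 fun a => ⟨fun ha => hle g ⟨a, ha, rfl⟩, fun ha => ?_⟩
  have := hle g⁻¹ ⟨_, ha, rfl⟩
  simpa [mul_assoc] using this

end Cfsg.Agent.S1239
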