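import Cfsg.Statements.S1241
import Cfsg.Agent.Lib.Invol.TransferControl

set_option autoImplicit false
open Cfsg

namespace Cfsg.Agent.S1241

/-- Let G be a finite group, p a prime, H a subgroup of index prime to p, K a subgroup of H normal in H with H/K commutative, and g ∈ H ∖ K an element of p-power order such that for all integers m and all a ∈ G with a g^m a⁻¹ ∈ H one has a g^m a⁻¹ ∈ g^m K. Then g ∉ G'. -/
theorem result {G : Type*} [Group G] [Finite G] {p : ℕ} [Fact p.Prime] (H K : Subgroup G) (hHK : K ≤ H) (hKn : (K.subgroupOf H).Normal) (hab : ∀ x ∈ H, ∀ y ∈ H, x * y * x⁻¹ * y⁻¹ ∈ K) (hidx : Nat.Coprime p H.index) (g : G) (hgH : g ∈ H) (hgK : g ∉ K) (hgp : ∃ k : ℕ, orderOf g = p ^ k) (hctrl : ∀ (m : ℤ) (a : G), a * g ^ m * a⁻¹ ∈ H → (a * g ^ m * a⁻¹) * (g ^ m)⁻¹ ∈ K) : g ∉ commutator G := by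
  intro hcomm
  have := hKn
  let Qt := ↥H ⧸ K.subgroupOf H
  have hc : ∀ a b : Qt, a * b = b * a := by
    intro a b
    induction a using QuotientGroup.induction_on with | _ x => ?_
    induction b using QuotientGroup.induction_on with | _ y => ?_
    rw [← QuotientGroup.mk_mul, ← QuotientGroup.mk_mul, QuotientGroup.eq, Subgroup.mem_subgroupOf]
    have h := hab _ (inv_mem y.2) _ (inv_mem x.2)
    simpa [mul_assoc] using h
  let _ : CommGroup Qt := { (inferInstance : Group Qt) with mul_comm := hc }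
  let φ : H →* Qt := QuotientGroup.mk' _
  obtain ⟨k, hk⟩ := hgp
  refine CfsgLib.Invol.transfer_ne_one φ hidx hgH hk ?_ ?_ ((Abelianization.commutator_subset_ker (MonoidHom.transfer φ)) hcomm)
  · intro h
    exact hgK (Subgroup.mem_subgroupOf.1 ((QuotientGroup.eq_one_iff (N := K.subgroupOf H) ⟨g, hgH⟩).1 h))
  · intro j g₀ hj
    rw [← map_pow]
    show QuotientGroup.mk' _ _ = QuotientGroup.mk' _ _
    rw [QuotientGroup.mk'_apply, QuotientGroup.mk'_apply, eq_comm, QuotientGroup.eq_iff_div_mem,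
      Subgroup.mem_subgroupOf]
    have h := hctrl j g₀⁻¹ (by simpa using hj)
    have h2 := inv_mem h
    simpa [div_eq_mul_inv, mul_assoc] using h2

end Cfsg.Agent.S1241
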