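import Cfsg.Statements.S1242
import Cfsg.Agent.Lib.Invol.TransferControl

set_option autoImplicit false
open Cfsg

namespace Cfsg.Agent.S1242

/-- Let G be a finite group, p a prime and H a subgroup of index prime to p such that any two elements of H of p-power order that are conjugate in G are conjugate in H. Then (O^p(G)·G') ∩ H = O^p(H)·H', where O^p denotes the subgroup generated by the elements of order prime to p. -/
theorem result {G : Type*} [Group G] [Finite G] {p : ℕ} [Fact p.Prime] (H : Subgroup G) (hidx : Nat.Coprime p H.index) (hfus : ∀ g ∈ H, (∃ k : ℕ, orderOf g = p ^ k) → ∀ a : G, a * g * a⁻¹ ∈ H → ∃ h ∈ H, h * g * h⁻¹ = a * g * a⁻¹) : (Cfsg.pResidual p G ⊔ commutator G) ⊓ H = (Cfsg.pResidual p ↥H ⊔ commutator ↥H).map H.subtype := by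
  set M := Cfsg.pResidual p ↥H ⊔ commutator ↥H
  apply le_antisymm
  · rintro x ⟨hx, hxH⟩
    refine ⟨⟨x, hxH⟩, ?_, rfl⟩
    have hMn : M.Normal := Subgroup.Normal.of_commutator_le ↥H (le_sup_right : commutator ↥H ≤ M)
    let Qt := ↥H ⧸ M
    have hc : ∀ a b : Qt, a * b = b * a := by
      intro a b
      induction a using QuotientGroup.induction_on with | _ x => ?_
      induction b using QuotientGroup.induction_on with | _ y => ?_
      rw [← QuotientGroup.mk_mul, ← QuotientGroup.mk_mul, QuotientGroup.eq]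
      have h : y⁻¹ * x⁻¹ * y⁻¹⁻¹ * x⁻¹⁻¹ ∈ M :=
        (le_sup_right : commutator ↥H ≤ M) (Subgroup.commutator_mem_commutator (Subgroup.mem_top y⁻¹) (Subgroup.mem_top x⁻¹))
      simpa [mul_assoc] using h
    let _ : CommGroup Qt := { (inferInstance : Group Qt) with mul_comm := hc }
    let φ : H →* Qt := QuotientGroup.mk' _
    have hp : IsPGroup p Qt :=
      CfsgLib.Transfer.isPGroup_quotient_of_pResidual_le (le_sup_left : Cfsg.pResidual p ↥H ≤ M)
    let ψ := MonoidHom.transfer φ
    have hkerψ : x ∈ ψ.ker := (sup_le (CfsgLib.Transfer.pResidual_le_ker ψ hp)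
      (Abelianization.commutator_subset_ker ψ)) hx
    -- on `H` the transfer is a power of the natural map
    have hcomp : ψ.comp H.subtype = (powMonoidHom H.index).comp φ := by
      refine CfsgLib.Invol.hom_ext_of_pElements hp _ _ fun b k hb => ?_
      show ψ (b : G) = φ b ^ H.index
      refine CfsgLib.Invol.transfer_eq_map_pow φ b.2 fun j g₀ hj => ?_
      obtain ⟨i, -, hi⟩ := (Nat.dvd_prime_pow (Fact.out : p.Prime)).1
        (((Subgroup.orderOf_coe b).trans hb) ▸ orderOf_pow_dvd (x := (b : G)) j)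
      obtain ⟨h, hh, he⟩ := hfus ((b : G) ^ j) (pow_mem b.2 j) ⟨i, hi⟩ g₀⁻¹ (by simpa using hj)
      have e : (⟨_, hj⟩ : H) = ⟨h, hh⟩ * b ^ j * (⟨h, hh⟩ : H)⁻¹ := Subtype.ext (by
        rw [inv_inv] at he
        simpa using he.symm)
      rw [e, map_mul, map_mul, map_inv, mul_inv_cancel_comm, map_pow]
    have h2 : φ ⟨x, hxH⟩ ^ H.index = 1 := by
      have hx' := DFunLike.congr_fun hcomp ⟨x, hxH⟩
      simp only [MonoidHom.comp_apply, powMonoidHom_apply, Subgroup.coe_subtype] at hx'
      rw [← hx']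
      exact MonoidHom.mem_ker.1 hkerψ
    obtain ⟨k, hk⟩ := hp (φ ⟨x, hxH⟩)
    have h3 : φ ⟨x, hxH⟩ = 1 := by
      rw [← orderOf_eq_one_iff]
      exact Nat.eq_one_of_dvd_coprimes (Nat.Coprime.pow_left k hidx) (orderOf_dvd_of_pow_eq_one hk)
        (orderOf_dvd_of_pow_eq_one h2)
    exact (QuotientGroup.eq_one_iff _).1 h3
  · refine le_inf ?_ (Subgroup.map_subtype_le _)
    rw [Subgroup.map_sup]
    exact sup_le_sup (CfsgLib.Transfer.map_pResidual_le _)
      ((Subgroup.map_commutator ⊤ ⊤ H.subtype).trans_le (Subgroup.commutator_mono le_top le_top))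

end Cfsg.Agent.S1242
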