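import Cfsg.Statements.S1243
import Cfsg.Agent.Lib.Invol.Basic

set_option autoImplicit false
open Cfsg

namespace Cfsg.Agent.S1243

/-- Let T be a Sylow p-subgroup of the finite group G and W ≤ T a subgroup weakly closed in T. If d and g d g⁻¹ both centralize W, then g d g⁻¹ = h d h⁻¹ for some h ∈ N_G(W). -/
theorem result {G : Type*} [Group G] [Finite G] {p : ℕ} [Fact p.Prime] (T : Sylow p G) (W : Subgroup G) (hW : Cfsg.IsWeaklyClosed W (T : Subgroup G)) (d g : G) (hd : d ∈ Subgroup.centralizer (W : Set G)) (hgd : g * d * g⁻¹ ∈ Subgroup.centralizer (W : Set G)) : ∃ h ∈ Subgroup.normalizer (W : Set G), h * d * h⁻¹ = g * d * g⁻¹ := by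
  set C := Subgroup.centralizer ({d} : Set G)
  have hWC : W ≤ C := fun w hw => Subgroup.mem_centralizer_singleton_iff.2
    (Subgroup.mem_centralizer_iff.1 hd w hw)
  set W' := W.map (MulAut.conj g⁻¹).toMonoidHom with hW'
  have hW'C : W' ≤ C := by
    rintro _ ⟨w, hw, rfl⟩
    rw [Subgroup.mem_centralizer_singleton_iff]
    have h' := congrArg (fun v => g⁻¹ * v * g) (Subgroup.mem_centralizer_iff.1 hgd w hw)
    simpa [mul_assoc] using h'
  have hWp : IsPGroup p W := T.2.to_le hW.1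
  obtain ⟨R, hR⟩ := (hWp.comap_subtype (K := C)).exists_le_sylow
  obtain ⟨c, hcc⟩ := CfsgLib.Invol.exists_conj_mem_sylow R ((hWp.map _ : IsPGroup p W').comap_subtype (K := C))
  obtain ⟨x, hx⟩ := CfsgLib.Invol.exists_conj_mem_sylow T
    (R.2.map C.subtype : IsPGroup p ((R : Subgroup C).map C.subtype))
  have h1 : W.map (MulAut.conj x).toMonoidHom = W := hW.2 x (by
    rintro _ ⟨w, hw, rfl⟩
    exact hx w ⟨⟨w, hWC hw⟩, hR hw, rfl⟩)
  have h2 : W.map (MulAut.conj (x * c * g⁻¹)).toMonoidHom = W := hW.2 _ (by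
    rintro _ ⟨w, hw, rfl⟩
    have hm : (MulAut.conj g⁻¹).toMonoidHom w ∈ W' := ⟨w, hw, rfl⟩
    have := hx _ ⟨_, hcc ⟨_, hW'C hm⟩ hm, rfl⟩
    simp [mul_assoc] at this ⊢
    exact this)
  have hmem : ∀ {a : G}, W.map (MulAut.conj a).toMonoidHom = W → a ∈ Subgroup.normalizer (W : Set G) := by
    intro a ha
    rw [Subgroup.mem_normalizer_iff]
    intro b
    constructor
    · intro hb; rw [← ha]; exact ⟨b, hb, rfl⟩
    · intro hb
      rw [← ha] at hb
      obtain ⟨w, hw, hwb⟩ := hb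
      have : w = b := (MulAut.conj a).injective hwb
      exact this ▸ hw
  refine ⟨((x⁻¹ * (x * (c : G) * g⁻¹))⁻¹), inv_mem (mul_mem (inv_mem (hmem h1)) (hmem h2)), ?_⟩
  have hcd := Subgroup.mem_centralizer_singleton_iff.1 c.2
  calc _ = g * ((c : G)⁻¹ * (d * (c : G))) * g⁻¹ := by group
    _ = g * d * g⁻¹ := by rw [← hcd]; group

end Cfsg.Agent.S1243
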