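import Cfsg.Statements.S1244
import Cfsg.Agent.Lib.Invol.Control
import Cfsg.Agent.Lib.Invol.TwoGroups
import Cfsg.Agent.Lib.Transfer.Focal

set_option autoImplicit false
open Cfsg
open scoped IsMulCommutative

namespace Cfsg.Agent.S1244

theorem pResidual_eq_top {G : Type*} [Group G] [Finite G] (hG : ∀ H : Subgroup G, H.index ≠ 2) :
    Cfsg.pResidual 2 G = ⊤ := by
  by_contra h
  obtain ⟨M, hM, hle⟩ := (eq_top_or_exists_le_coatom (Cfsg.pResidual 2 G)).resolve_left h
  have := CfsgLib.Transfer.pResidual_normal (G := G) (p := 2)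
  obtain ⟨n, hn⟩ := CfsgLib.Transfer.pResidual_index_eq_pow (G := G) (p := 2)
  have hq : IsPGroup 2 (G ⧸ Cfsg.pResidual 2 G) := IsPGroup.of_card (by rw [← Subgroup.index_eq_card, hn])
  have hq' := hq.isNilpotent
  set M' := M.map (QuotientGroup.mk' (Cfsg.pResidual 2 G))
  have hM' : M = M'.comap (QuotientGroup.mk' (Cfsg.pResidual 2 G)) := by
    rw [Subgroup.comap_map_eq, QuotientGroup.ker_mk', sup_of_le_left hle]
  obtain ⟨N, hN2⟩ : ∃ N : Subgroup G, N.index = 2 := by
    obtain ⟨k, hk⟩ : ∃ k, M'.index = 2 ^ k := by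
      obtain ⟨k, hk, hk'⟩ := (Nat.dvd_prime_pow Nat.prime_two).1
        (show M'.index ∣ 2 ^ n from hn ▸ (Subgroup.index_dvd_card M'))
      exact ⟨k, hk'⟩
    have hco : IsCoatom M' := by
      refine ⟨fun e => hM.1 (by rw [hM', e, Subgroup.comap_top]), fun K hK => ?_⟩
      have := hM.2 (K.comap (QuotientGroup.mk' (Cfsg.pResidual 2 G))) (by
        rw [hM']; exact (Subgroup.comap_lt_comap_of_surjective (QuotientGroup.mk'_surjective _)).2 hK)
      rw [← Subgroup.map_comap_eq_self_of_surjective (QuotientGroup.mk'_surjective _) K, this]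
      exact Subgroup.map_top_of_surjective _ (QuotientGroup.mk'_surjective _)
    refine ⟨M, ?_⟩
    rw [hM', Subgroup.index_comap_of_surjective _ (QuotientGroup.mk'_surjective _)]
    exact CfsgLib.Invol.index_two_of_isCoatom hq hco
  exact hG N hN2

/-- Let G be a finite group with no subgroup of index 2 whose Sylow 2-subgroup S is commutative, and let R ≤ S be a subgroup whose 2-rank is exactly one less than the 2-rank r of S. Then every involution of S is conjugate, by an element of N_G(S), to an element of R. -/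
theorem result {G : Type*} [Group G] [Finite G] (hG : ∀ H : Subgroup G, H.index ≠ 2) (S : Sylow 2 G) (hS : IsMulCommutative (S : Subgroup G)) (r : ℕ) (hr1 : 1 ≤ r) (hSr : Cfsg.PRankLE 2 r (S : Subgroup G) ∧ ¬ Cfsg.PRankLE 2 (r - 1) (S : Subgroup G)) (R : Subgroup G) (hRS : R ≤ S) (hRr : Cfsg.PRankLE 2 (r - 1) R ∧ (r = 1 ∨ ¬ Cfsg.PRankLE 2 (r - 2) R)) (t : G) (ht : orderOf t = 2) (htS : t ∈ S) : ∃ n ∈ Subgroup.normalizer ((S : Subgroup G) : Set G), n * t * n⁻¹ ∈ R := by
  classical
  set N := Subgroup.normalizer ((S : Subgroup G) : Set G)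
  have hcomm : ∀ a ∈ (S : Subgroup G), ∀ b ∈ (S : Subgroup G), a * b = b * a := fun a ha b hb =>
    congrArg Subtype.val (hS.is_comm.comm ⟨a, ha⟩ ⟨b, hb⟩)
  -- the elements of order at most two
  let Om : Subgroup G :=
    { carrier := {s | s ∈ (S : Subgroup G) ∧ s * s = 1}
      one_mem' := ⟨one_mem _, mul_one 1⟩
      mul_mem' := fun {a b} ha hb => ⟨mul_mem ha.1 hb.1, by
        rw [mul_assoc, ← mul_assoc b a, ← hcomm a ha.1 b hb.1]
        simp [mul_assoc, hb.2, ha.2]⟩
      inv_mem' := fun {a} ha => ⟨inv_mem ha.1, by rw [← mul_inv_rev, ha.2, inv_one]⟩ }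
  have hOm : IsMulCommutative Om := ⟨⟨fun a b => Subtype.ext (hcomm a a.2.1 b b.2.1)⟩⟩
  have htOm : t ∈ Om := ⟨htS, CfsgLib.Invol.invol_mul_self ht⟩
  set W := R ⊓ Om
  by_contra hcon
  push Not at hcon
  have hnW : ∀ n ∈ N, n * t * n⁻¹ ∉ W := fun n hn h => hcon n hn h.1
  have hNS : ∀ n ∈ N, ∀ s ∈ Om, n * s * n⁻¹ ∈ Om := fun n hn s hs =>
    ⟨(Subgroup.mem_normalizer_iff.1 hn s).1 hs.1, by
      rw [show n * s * n⁻¹ * (n * s * n⁻¹) = n * (s * s) * n⁻¹ by group, hs.2, mul_one, mul_inv_cancel]⟩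
  -- `W` has index two in `Om`
  have hle : Nat.card Om ≤ 2 ^ r := hSr.1 (Om.subgroupOf S) ⟨⟨fun a b => Subtype.ext (hS.is_comm.comm a b)⟩⟩
    (fun a ha => Subtype.ext (by rw [pow_two]; exact ha.2)) |>.trans_eq' (Nat.card_congr
      (Subgroup.subgroupOfEquivOfLe (show Om ≤ (S : Subgroup G) from fun s (hs : s ∈ Om) => hs.1)).toEquiv)
  have hWcard : 2 ^ (r - 1) ≤ Nat.card W := by
    rcases hRr.2 with h | h
    · subst h; exact Nat.one_le_iff_ne_zero.2 Nat.card_pos.ne'
    · obtain ⟨A, hA, -, hAp, hAcard⟩ := CfsgLib.Invol.exists_elemAb_of_not_prankLE h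
      obtain ⟨k, hk⟩ := (CfsgLib.Invol.isPGroup_of_forall_pow hAp).exists_card_eq
      have hlt : r - 2 < k := (Nat.pow_lt_pow_iff_right (by norm_num)).1 (hk ▸ hAcard)
      refine le_trans ?_ (Subgroup.card_le_of_le (show A ≤ W from fun a ha =>
        Subgroup.mem_inf.2 ⟨hA ha, hRS (hA ha), by rw [← pow_two]; exact hAp a ha⟩))
      rw [hk]
      exact Nat.pow_le_pow_right (by norm_num) (by omega)
  have hWle : W ≤ Om := inf_le_right
  have hWidx : (W.subgroupOf Om).index = 2 := by
    have h := (W.subgroupOf Om).card_mul_index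
    rw [Nat.card_congr (Subgroup.subgroupOfEquivOfLe hWle).toEquiv] at h
    have hne : (W.subgroupOf Om).index ≠ 1 := fun e => hnW 1 (one_mem _) (by
      simpa using Subgroup.mem_subgroupOf.1 (show (⟨t, htOm⟩ : Om) ∈ W.subgroupOf Om by
        rw [Subgroup.index_eq_one.1 e]; trivial))
    have hpos : (W.subgroupOf Om).index ≠ 0 := Subgroup.FiniteIndex.index_ne_zero
    have h2 : 2 ^ r = 2 * 2 ^ (r - 1) := by rw [← pow_succ']; congr 1; omega
    by_contra h3
    have : 3 ≤ (W.subgroupOf Om).index := by omega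
    have := Nat.mul_le_mul hWcard this
    have := Nat.two_pow_pos (r - 1)
    omega
  -- the product of the conjugates of `t`
  set S' := (S : Subgroup G).subgroupOf N
  have hS'n : S'.Normal := Subgroup.normal_in_normalizer
  have := Fintype.ofFinite (N ⧸ S')
  let act : N → Om → Om := fun n s => ⟨(n : G) * s * (n : G)⁻¹, hNS n n.2 s s.2⟩
  have hodd : Odd (Fintype.card (N ⧸ S')) := by
    rw [← Nat.card_eq_fintype_card, ← Subgroup.index_eq_card, ← Nat.not_even_iff_odd, even_iff_two_dvd]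
    exact fun h => S.not_dvd_index (h.trans (Subgroup.relIndex_dvd_index_of_le Subgroup.le_normalizer))
  let c : N ⧸ S' → Om := fun q => act q.out ⟨t, htOm⟩
  have hcW : ∀ q, c q ∉ W.subgroupOf Om := fun q h => hnW _ q.out.2 (Subgroup.mem_subgroupOf.1 h)
  have hprod : ∀ s : Finset (N ⧸ S'), (∏ q ∈ s, c q) ∈ W.subgroupOf Om ↔ Even s.card := by
    intro s
    induction s using Finset.induction with
    | empty => simp
    | insert q s hq ih =>
      rw [Finset.prod_insert hq, Finset.card_insert_of_notMem hq, Nat.even_add_one,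
        Subgroup.mul_mem_iff_of_index_two hWidx, ih]
      simp [hcW q]
  set π : Om := ∏ q, c q with hπ
  have hfix : ∀ n ∈ N, n * (π : G) * n⁻¹ = π := by
    intro n hn
    let φ : Om →* Om :=
      { toFun := act ⟨n, hn⟩
        map_one' := Subtype.ext (by simp [act])
        map_mul' := fun a b => Subtype.ext (by simp [act, mul_assoc]) }
    have hφ : φ π = π := by
      rw [hπ, map_prod]
      refine Fintype.prod_equiv (MulAction.toPerm (⟨n, hn⟩ : N)) _ _ fun q => ?_
      have hq : (((⟨n, hn⟩ : N) • q : N ⧸ S')) = ((⟨n, hn⟩ * q.out : N) : N ⧸ S') := by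
        conv_lhs => rw [← q.out_eq]
        rfl
      obtain ⟨s, hs⟩ := QuotientGroup.mk_out_eq_mul S' (⟨n, hn⟩ * q.out : N)
      refine Subtype.ext ?_
      simp only [MulAction.toPerm_apply, c, φ, act, MonoidHom.coe_mk, OneHom.coe_mk, hq, hs]
      have hst : ((s : N) : G) * t * ((s : N) : G)⁻¹ = t := by
        rw [hcomm ((s : N) : G) s.2 t htS, mul_inv_cancel_right]
      conv_lhs => rw [← hst]
      simp [mul_assoc]
    exact congrArg Subtype.val hφ
  have hπS : (π : G) ∈ (S : Subgroup G) := π.2.1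
  -- but the transfer is injective on fixed elements
  have hres : (S : Subgroup G) ≤ commutator G := by
    have h := CfsgLib.Transfer.inf_pResidual_abelian_sylow S
    rw [pResidual_eq_top hG, inf_top_eq, ← CfsgLib.Transfer.commutator_inf_abelian_sylow] at h
    exact h.le.trans inf_le_left
  let ϕ : (S : Subgroup G) →* Abelianization (S : Subgroup G) := Abelianization.of
  have hkey : ∀ (k : ℕ) (g₀ : G), g₀⁻¹ * (π : G) ^ k * g₀ ∈ (S : Subgroup G) →
      g₀⁻¹ * (π : G) ^ k * g₀ = (π : G) ^ k := by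
    intro k g₀ hk
    obtain ⟨v, hv, hv'⟩ := CfsgLib.Transfer.abelian_sylow_controls S _ (pow_mem hπS k) g₀⁻¹
      (by rwa [inv_inv])
    rw [inv_inv] at hv'
    rw [← hv', ← conj_pow, hfix v hv]
  have h1 := MonoidHom.transfer_eq_pow ϕ (π : G) hkey
  have hker : MonoidHom.transfer ϕ (π : G) = 1 :=
    Abelianization.commutator_subset_ker _ (hres hπS)
  rw [hker] at h1
  have h2 := h1.symm
  simp only [ϕ] at h2
  rw [← MonoidHom.mem_ker, Abelianization.ker_of, commutator_def, Subgroup.commutator_eq_bot_iff_le_centralizer.2,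
    Subgroup.mem_bot] at h2
  · have h3 : (π : G) ^ (S : Subgroup G).index = 1 := congrArg Subtype.val h2
    have ho : orderOf (π : G) ∣ 2 := orderOf_dvd_of_pow_eq_one (by rw [pow_two]; exact π.2.2)
    have ho' := orderOf_dvd_of_pow_eq_one h3
    have hcop : Nat.Coprime 2 (S : Subgroup G).index :=
      Nat.prime_two.coprime_iff_not_dvd.2 S.not_dvd_index
    have hone : π = 1 := Subtype.ext (orderOf_eq_one_iff.1
      (Nat.dvd_one.1 (hcop ▸ Nat.dvd_gcd ho ho')))
    have := (hprod Finset.univ).1 (by rw [← hπ, hone]; exact one_mem _)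
    rw [Finset.card_univ] at this
    exact Nat.not_even_iff_odd.2 hodd this
  · exact fun a _ => Subgroup.mem_centralizer_iff.2 fun b _ => hS.is_comm.comm b a

end Cfsg.Agent.S1244
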