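import Cfsg.Statements.S1246
import Cfsg.Agent.Lib.Amalgam.CharPLocal

set_option autoImplicit false
open Cfsg

namespace Cfsg.Agent.S1246

open CfsgLib.Amalgam

theorem iff_isPGroup {G : Type*} [Group G] [Finite G] {p : ℕ} [Fact p.Prime] (L : Subgroup G) :
    IsPGroup p ↥(Cfsg.generalizedFittingSubgroup L) ↔ CharPElements p L := by
  rw [← fstar_eq_iff_charPElements]
  constructor
  · intro h
    refine le_antisymm ?_ ((CfsgLib.Solvable.pCore_le_fittingSubgroup p).trans
      (CfsgLib.Comp.fittingSubgroup_le_generalizedFitting _))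
    exact le_sSup ⟨CfsgLib.Comp.generalizedFittingSubgroup_normal _, h⟩
  · intro h; rw [h]; exact CfsgLib.Comp.isPGroup_pCore p L

theorem step {G : Type*} [Group G] [Finite G] {p : ℕ} [Fact p.Prime] {V W : Subgroup G}
    (hW : IsPGroup p W) (hVW : V ≤ W) (hn : W ≤ Subgroup.normalizer (V : Set G))
    (h : CharPElements p (Subgroup.centralizer (V : Set G))) :
    CharPElements p (Subgroup.centralizer (W : Set G)) := by
  have hCN : Subgroup.centralizer (V : Set G) ≤ Subgroup.normalizer (V : Set G) :=
    CfsgLib.Comp.centralizer_le_normalizer V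
  have hN : CharPElements p (Subgroup.normalizer (V : Set G)) := by
    intro x hx hxp hxc
    have hV : V ≤ pCoreOf p (Subgroup.normalizer (V : Set G)) :=
      le_pCoreOf Subgroup.le_normalizer le_rfl (hW.to_le hVW)
    have hQC : pCoreOf p (Subgroup.centralizer (V : Set G)) ≤
        pCoreOf p (Subgroup.normalizer (V : Set G)) := by
      refine le_pCoreOf ((pCoreOf_le _).trans hCN) ?_ (isPGroup_pCoreOf _)
      intro g hg
      refine CfsgLib.Comp.map_conj_eq_iff.1 ?_
      rw [← pCoreOf_map _ (MulAut.conj g).injective,
        CfsgLib.Comp.map_conj_eq_iff.2 (CfsgLib.Comp.normalizer_le_normalizer_centralizer V hg)]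
    exact h x (Subgroup.centralizer_le hV hxc) hxp (Subgroup.centralizer_le hQC hxc)
  exact (charPElements_local hN hW hn ((Subgroup.centralizer_le hVW).trans hCN)).2

theorem climb {G : Type*} [Group G] [Finite G] {p : ℕ} [Fact p.Prime] {U : Subgroup G}
    (hU : IsPGroup p U) : ∀ V : Subgroup G, V ≤ U →
      CharPElements p (Subgroup.centralizer (V : Set G)) →
      CharPElements p (Subgroup.centralizer (U : Set G)) := by
  intro V
  induction V using WellFoundedGT.induction with
  | ind V ih =>
    intro hVU h
    rcases eq_or_lt_of_le hVU with rfl | hlt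
    · exact h
    set W := U ⊓ Subgroup.normalizer (V : Set G) with hWdef
    have hVW : V ≤ W := le_inf hVU Subgroup.le_normalizer
    have hne : V ≠ W := by
      intro e
      haveI : Group.IsNilpotent U := hU.isNilpotent
      have hself : Subgroup.normalizer ((V.subgroupOf U : Subgroup U) : Set U) = V.subgroupOf U := by
        refine le_antisymm (fun g hg => ?_) Subgroup.le_normalizer
        rw [Subgroup.mem_subgroupOf, e]
        refine ⟨g.2, ?_⟩
        rw [← Subgroup.map_subgroupOf_eq_of_le hVU]
        exact Subgroup.le_normalizer_map U.subtype (Subgroup.mem_map_of_mem _ hg)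
      have := (normalizerCondition_of_isNilpotent (V.subgroupOf U)
        (lt_of_le_of_ne le_top fun e => (lt_irrefl _)
          (lt_of_lt_of_le hlt (Subgroup.subgroupOf_eq_top.1 e))))
      rw [hself] at this
      exact lt_irrefl _ this
    exact ih W (lt_of_le_of_ne hVW hne) inf_le_left
      (step (hU.to_le inf_le_left) hVW inf_le_right h)

/-- Let V ≤ U be p-subgroups of the finite group G. If the generalized Fitting subgroup of C_G(V) is a p-group, then so is that of C_G(U). -/
theorem result {G : Type*} [Group G] [Finite G] {p : ℕ} [Fact p.Prime] (U V : Subgroup G) (hVU : V ≤ U) (hU : IsPGroup p U) (hV : IsPGroup p ↥(Cfsg.generalizedFittingSubgroup ↥(Subgroup.centralizer (V : Set G)))) : IsPGroup p ↥(Cfsg.generalizedFittingSubgroup ↥(Subgroup.centralizer (U : Set G))) := by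
  rw [iff_isPGroup] at hV ⊢
  exact climb hU V hVU hV

end Cfsg.Agent.S1246
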