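import Cfsg.Statements.S1249
import Cfsg.Agent.Lib.Invol.Basic

set_option autoImplicit false
open Cfsg
open scoped Pointwise

namespace Cfsg.Agent.S1249

/-- Let P and Q be Sylow p-subgroups of the finite group G both containing the subgroup A. If A is strongly closed in P, then A is strongly closed in Q. -/
theorem result {G : Type*} [Group G] [Finite G] {p : ℕ} [Fact p.Prime] (P Q : Sylow p G) (A : Subgroup G) (hAQ : A ≤ Q) (hA : Cfsg.IsStronglyClosed A (P : Subgroup G)) : Cfsg.IsStronglyClosed A (Q : Subgroup G) := by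
  obtain ⟨a, rfl⟩ := MulAction.exists_smul_eq G P Q
  have hconj : ∀ y : G, y ∈ (a • P : Sylow p G) ↔ a⁻¹ * y * a ∈ P := by
    intro y
    show y ∈ MulAut.conj a • (P : Subgroup G) ↔ _
    rw [Subgroup.mem_pointwise_smul_iff_inv_smul_mem, ← map_inv, MulAut.smul_def, MulAut.conj_apply,
      inv_inv]
    rfl
  have hin : ∀ y ∈ A, a⁻¹ * y * a ∈ A := fun y hy => by
    have := hA.2 y hy a⁻¹ (by
      have h' := (hconj y).1 (hAQ hy)
      simp at h' ⊢
      exact h')
    simpa using this
  have heq : A.map (MulAut.conj a⁻¹).toMonoidHom = A := Subgroup.eq_of_le_of_card_ge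
    (by rintro _ ⟨y, hy, rfl⟩; simpa using hin y hy)
    (le_of_eq (Nat.card_congr (Subgroup.equivMapOfInjective A _
      (MulEquiv.injective (MulAut.conj a⁻¹))).toEquiv))
  refine ⟨hAQ, fun x hx g hg => ?_⟩
  have h1 := hA.2 x hx (a⁻¹ * g) (by
    have h' := (hconj _).1 hg
    simp [mul_assoc] at h' ⊢
    exact h')
  rw [← heq] at h1
  obtain ⟨w, hw, hwe⟩ := h1
  have : w = g * x * g⁻¹ := by
    have h' := congrArg (fun v => a * v * a⁻¹) hwe
    simpa [mul_assoc] using h'
  exact this ▸ hw

end Cfsg.Agent.S1249
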