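import Cfsg.Statements.S1253
import Cfsg.Agent.Lib.Invol.InvarSylow
import Cfsg.Agent.S1187

set_option autoImplicit false
open Cfsg

namespace Cfsg.Agent.S1253

/-- Let z be an isolated involution of the finite group G with centralizer C, p an odd prime and P a Sylow p-subgroup of G normalized by z. Then P ∩ C has p-power-free index in C (it is a Sylow p-subgroup of C), and |P : C_P(z)| equals the number of elements x ∈ P with z x z⁻¹ = x⁻¹. -/
theorem result {G : Type*} [Group G] [Finite G] (z : G) (hz : Cfsg.IsIsolatedInvolution z) {p : ℕ} [Fact p.Prime] (hp : p ≠ 2) (P : Sylow p G) (hzP : z ∈ Subgroup.normalizer ((P : Subgroup G) : Set G)) : ¬ p ∣ ((P : Subgroup G) ⊓ Subgroup.centralizer ({z} : Set G)).relIndex (Subgroup.centralizer ({z} : Set G)) ∧ ((P : Subgroup G) ⊓ Subgroup.centralizer ({z} : Set G)).relIndex (P : Subgroup G) = Nat.card {x : G // x ∈ P ∧ z * x * z⁻¹ = x⁻¹} := by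
  set C := Subgroup.centralizer ({z} : Set G) with hCdef
  have hpd : Fact p.Prime := inferInstance
  refine ⟨?_, ?_⟩
  · -- the intersection is a Sylow subgroup of the centralizer
    intro hdvd
    obtain ⟨R, hR⟩ := (P.2.to_le (inf_le_left : (P : Subgroup G) ⊓ C ≤ P)).comap_subtype (K := C) |>.exists_le_sylow
    set R' := (R : Subgroup C).map C.subtype
    -- a `z`-invariant Sylow subgroup of `G` over `R'`
    have hzR' : z ∈ Subgroup.normalizer (R' : Set G) := Subgroup.centralizer_le_normalizer _ (by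
      refine Subgroup.mem_centralizer_iff.2 ?_
      rintro _ ⟨r, -, rfl⟩
      exact Subgroup.mem_centralizer_singleton_iff.1 r.2)
    classical
    have := Fintype.ofFinite (Subgroup G)
    obtain ⟨Q, hQmem, hQmax⟩ := Finset.exists_maximal (s := Finset.univ.filter fun Q : Subgroup G =>
      IsPGroup p Q ∧ z ∈ Subgroup.normalizer (Q : Set G) ∧ R' ≤ Q)
      ⟨R', Finset.mem_filter.2 ⟨Finset.mem_univ _, R.2.map _, hzR', le_rfl⟩⟩
    simp only [Finset.mem_filter, Finset.mem_univ, true_and] at hQmem hQmax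
    obtain ⟨P₁, rfl⟩ := Cfsg.Agent.S1187.result z hz Q hQmem.1 hQmem.2.1 fun X hX hzX hle =>
      le_antisymm (hQmax ⟨hX, hzX, hQmem.2.2.trans hle⟩ hle) hle
    obtain ⟨g, rfl⟩ := MulAction.exists_smul_eq G P P₁
    set NP := Subgroup.normalizer ((P : Subgroup G) : Set G)
    have hgz : g⁻¹ * z * g ∈ NP := by
      have h := Sylow.smul_eq_iff_mem_normalizer.2 hQmem.2.1
      refine Sylow.smul_eq_iff_mem_normalizer.1 ?_
      rw [mul_smul, mul_smul, h, inv_smul_smul]
    -- the two involutions are conjugate inside the normalizer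
    obtain ⟨S, hS⟩ := (CfsgLib.Invol.isPGroup_zpowers_of_invol
      (show orderOf (⟨z, hzP⟩ : NP) = 2 by rw [Subgroup.orderOf_mk, hz.1])).exists_le_sylow
    obtain ⟨n, hn⟩ := CfsgLib.Invol.exists_conj_mem_sylow (p := 2) S (H := Subgroup.zpowers (⟨_, hgz⟩ : NP))
      (CfsgLib.Invol.isPGroup_zpowers_of_invol (by
        rw [Subgroup.orderOf_mk, show g⁻¹ * z * g = g⁻¹ * z * g⁻¹⁻¹ by rw [inv_inv],
          CfsgLib.Invol.orderOf_conj_eq, hz.1]))
    obtain ⟨S', hS'⟩ := ((S.2.map NP.subtype)).exists_le_sylow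
    have heq : (n : G) * (g⁻¹ * z * g) * (n : G)⁻¹ = z := by
      refine CfsgLib.Invol.eq_of_mem_sylow_of_isolated S' hz
        (isConj_iff.2 ⟨(n : G) * g⁻¹, by group⟩) (IsConj.refl z)
        (hS' ⟨_, hn _ (Subgroup.mem_zpowers _), rfl⟩) (hS' ⟨_, hS (Subgroup.mem_zpowers _), rfl⟩)
    set c := g * (n : G)⁻¹
    have hc : c ∈ C := by
      refine Subgroup.mem_centralizer_singleton_iff.2 ?_
      have h2 := congrArg (fun y => g * (n : G)⁻¹ * y) heq
      simp only [← mul_assoc, inv_mul_cancel_right, mul_inv_cancel, one_mul] at h2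
      rw [show c = g * (n : G)⁻¹ from rfl]
      exact h2.symm.trans (by group)
    have hcP : c • P = g • P := by
      rw [mul_smul, Sylow.smul_eq_iff_mem_normalizer.2 (inv_mem n.2)]
    have hle : R' ≤ (((P : Subgroup G) ⊓ C)).map (MulAut.conj c).toMonoidHom := by
      intro x hx
      have hxP : x ∈ ((c • P : Sylow p G) : Subgroup G) := by rw [hcP]; exact hQmem.2.2 hx
      obtain ⟨y, hy, rfl⟩ := hxP
      refine ⟨y, ⟨hy, ?_⟩, rfl⟩
      obtain ⟨r, -, hr⟩ := hx
      have hyC : c⁻¹ * (c * y * c⁻¹) * c ∈ C := mul_mem (mul_mem (inv_mem hc) (by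
        have : (r : G) = c * y * c⁻¹ := hr
        exact this ▸ r.2)) hc
      simpa [mul_assoc] using hyC
    have hcard : Nat.card (R : Subgroup C) ≤ Nat.card (((P : Subgroup G) ⊓ C : Subgroup G)) := by
      rw [Nat.card_congr ((R : Subgroup C).equivMapOfInjective _ C.subtype_injective).toEquiv]
      refine (Subgroup.card_le_of_le hle).trans (le_of_eq ?_)
      exact (Nat.card_congr (((P : Subgroup G) ⊓ C).equivMapOfInjective _
        (MulEquiv.injective _)).toEquiv).symm
    have hsame : ((P : Subgroup G) ⊓ C).subgroupOf C = (R : Subgroup C) := Subgroup.eq_of_le_of_card_ge hR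
      (by rw [Nat.card_congr (Subgroup.subgroupOfEquivOfLe inf_le_right).toEquiv]; exact hcard)
    rw [Subgroup.relIndex, hsame] at hdvd
    exact R.not_dvd_index hdvd
  · -- the inverted elements
    have hPz : ∀ x ∈ (P : Subgroup G), z * x * z ∈ (P : Subgroup G) := fun x hx => by
      have := (Subgroup.mem_normalizer_iff.1 hzP x).1 hx
      rwa [CfsgLib.Invol.invol_inv hz.1] at this
    have hzz := CfsgLib.Invol.invol_mul_self hz.1
    have hodd : Odd (Nat.card (P : Subgroup G)) := by
      obtain ⟨k, hk⟩ := P.2.exists_card_eq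
      rw [hk]; exact (hpd.1.odd_of_ne_two hp).pow
    set K := ((P : Subgroup G) ⊓ C).subgroupOf (P : Subgroup G)
    have hKmem : ∀ x : (P : Subgroup G), x ∈ K ↔ (x : G) * z = z * x := fun x => by
      simp [K, Subgroup.mem_subgroupOf, C, Subgroup.mem_centralizer_singleton_iff]
    let F : ↥(P : Subgroup G) → {x : G // x ∈ P ∧ z * x * z⁻¹ = x⁻¹} := fun x =>
      ⟨(x : G) * (z * (x : G)⁻¹ * z), mul_mem x.2 (hPz _ (inv_mem x.2)), by
        simp only [CfsgLib.Invol.invol_inv hz.1, mul_inv_rev, inv_inv, mul_assoc, hzz, mul_one]⟩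
    have hF : ∀ x y : (P : Subgroup G), F x = F y ↔ x⁻¹ * y ∈ K := by
      intro x y
      rw [hKmem, Subtype.ext_iff]
      constructor
      · intro h
        have h1 : (x : G) * z * (x : G)⁻¹ = (y : G) * z * (y : G)⁻¹ := by
          have h2 := congrArg (· * z) h
          simp only [F, mul_assoc, hzz, mul_one] at h2
          simpa [mul_assoc] using h2
        calc ((x⁻¹ * y : (P : Subgroup G)) : G) * z
            = (x : G)⁻¹ * ((y : G) * z * (y : G)⁻¹) * (y : G) := by simp [mul_assoc]
          _ = z * ((x⁻¹ * y : (P : Subgroup G)) : G) := by rw [← h1]; simp [mul_assoc]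
      · intro h
        have h1 : (y : G) * z * (y : G)⁻¹ = (x : G) * z * (x : G)⁻¹ := by
          have h2 : (y : G) * z = (x : G) * z * ((x : G)⁻¹ * (y : G)) := by
            have := congrArg ((x : G) * ·) h
            simpa [mul_assoc] using this
          rw [h2]; simp [mul_assoc]
        show (x : G) * (z * (x : G)⁻¹ * z) = (y : G) * (z * (y : G)⁻¹ * z)
        rw [← mul_assoc, ← mul_assoc, ← mul_assoc, ← mul_assoc, h1]
    rw [Subgroup.relIndex]
    refine Nat.card_congr (Equiv.ofBijective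
      (Quotient.lift F fun a b h => (hF a b).2 (QuotientGroup.leftRel_apply.1 h)) ⟨?_, ?_⟩)
    · rintro ⟨a⟩ ⟨b⟩ h
      exact Quotient.sound (QuotientGroup.leftRel_apply.2 ((hF a b).1 h))
    · rintro ⟨x, hxP, hx⟩
      obtain ⟨m, hm⟩ := hodd
      refine ⟨Quotient.mk _ ⟨x ^ (m + 1), Subgroup.pow_mem _ hxP _⟩, Subtype.ext ?_⟩
      show x ^ (m + 1) * (z * (x ^ (m + 1))⁻¹ * z) = x
      have h1 : z * (x ^ (m + 1))⁻¹ * z = x ^ (m + 1) := by
        rw [← inv_pow, ← inv_inj, ← inv_inj (a := _⁻¹)]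
        simp only [inv_inv]
        nth_rewrite 2 [← CfsgLib.Invol.invol_inv hz.1]
        rw [← conj_pow]
        congr 1
        rw [← hx, CfsgLib.Invol.invol_inv hz.1, show z * (z * x * z) * z = (z * z) * x * (z * z) by
          simp only [mul_assoc], hzz, one_mul, mul_one]
      rw [h1, ← pow_add, show m + 1 + (m + 1) = (2 * m + 1) + 1 by omega, pow_succ, ← hm]
      have : x ^ Nat.card (P : Subgroup G) = 1 :=
        congrArg Subtype.val (pow_card_eq_one' (G := (P : Subgroup G)) (x := ⟨x, hxP⟩))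
      rw [this, one_mul]

end Cfsg.Agent.S1253
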