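import Cfsg.Statements.S1256
import Cfsg.Agent.Lib.Invol.Basic
import Cfsg.Agent.Lib.Invol.Klein
import Mathlib.GroupTheory.SpecificGroups.Dihedral

set_option autoImplicit false
open Cfsg

namespace Cfsg.Agent.S1256

open scoped Pointwise

/-- A normalizer in a dihedral group of 2-power order is at most twice a subgroup with a reflection. -/
theorem card_normalizer_le {m : ℕ} [NeZero m] (H : Subgroup (DihedralGroup m)) {i : ZMod m}
    (hi : DihedralGroup.sr i ∈ H) (hm : ∀ c : ZMod m, c + c = 0 → c = 0 ∨ c = ((m / 2 : ℕ) : ZMod m)) :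
    Nat.card (Subgroup.normalizer (H : Set (DihedralGroup m))) ≤ 2 * Nat.card H := by
  classical
  set N := Subgroup.normalizer (H : Set (DihedralGroup m))
  set K : Finset (ZMod m) := Finset.univ.filter fun c => DihedralGroup.r (c + c) ∈ H
  set R : Finset (ZMod m) := Finset.univ.filter fun c => DihedralGroup.r c ∈ H
  have hrot : ∀ c : ZMod m, DihedralGroup.r c ∈ N → c ∈ K := by
    intro c hc
    have h1 := mul_mem ((Subgroup.mem_normalizer_iff.1 hc _).1 hi) hi
    simp only [DihedralGroup.r_mul_sr, DihedralGroup.sr_mul_r, DihedralGroup.inv_r,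
      DihedralGroup.sr_mul_sr] at h1
    refine Finset.mem_filter.2 ⟨Finset.mem_univ _, ?_⟩
    rw [show i - (i - c + -c) = c + c by ring] at h1
    exact h1
  have hK : K.card ≤ 2 * R.card := by
    refine Finset.card_le_mul_card_image_of_maps_to (f := fun c => c + c) (t := R) (fun c hc => ?_) 2 fun b _ => ?_
    · exact Finset.mem_filter.2 ⟨Finset.mem_univ _, (Finset.mem_filter.1 hc).2⟩
    · by_contra h
      rw [not_le, Finset.two_lt_card] at h
      obtain ⟨a, ha, b', hb', c, hc, hab, hac, hbc⟩ := h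
      simp only [Finset.mem_filter] at ha hb' hc
      have key : ∀ u v : ZMod m, u + u = b → v + v = b → u ≠ v → u - v = ((m / 2 : ℕ) : ZMod m) :=
        fun u v hu hv huv => (hm (u - v) (by linear_combination hu - hv)).resolve_left (sub_ne_zero.2 huv)
      have h1 := key a b' ha.2 hb'.2 hab
      have h2 := key a c ha.2 hc.2 hac
      exact hbc (by linear_combination h2 - h1)
  have hN : Nat.card N ≤ 2 * K.card := by
    have h : Nat.card N ≤ Nat.card ↥((K.image DihedralGroup.r) ∪ (K.image fun c => DihedralGroup.sr (i + c))) := by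
      refine Nat.card_le_card_of_injective (fun x => ⟨x.1, ?_⟩) fun a b h => Subtype.ext (by simpa using h)
      rcases hx : x.1 with c | c
      · exact Finset.mem_union_left _ (Finset.mem_image.2 ⟨c, hrot c (hx ▸ x.2), rfl⟩)
      · refine Finset.mem_union_right _ (Finset.mem_image.2 ⟨c - i, hrot _ ?_, by rw [add_sub_cancel]⟩)
        have := mul_mem (Subgroup.le_normalizer hi) (hx ▸ x.2 : DihedralGroup.sr c ∈ N)
        rwa [DihedralGroup.sr_mul_sr] at this
    rw [Nat.card_eq_finsetCard] at h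
    refine h.trans ((Finset.card_union_le _ _).trans ?_)
    have := Finset.card_image_le (s := K) (f := DihedralGroup.r)
    have := Finset.card_image_le (s := K) (f := fun c => DihedralGroup.sr (i + c))
    omega
  have hR : 2 * R.card ≤ Nat.card H := by
    have h : Nat.card (↥R ⊕ ↥R) ≤ Nat.card H := by
      refine Nat.card_le_card_of_injective (Sum.elim (fun c => ⟨DihedralGroup.r c.1, (Finset.mem_filter.1 c.2).2⟩)
        fun c => ⟨DihedralGroup.sr (i + c.1), ?_⟩) ?_
      · have := mul_mem hi (Finset.mem_filter.1 c.2).2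
        rwa [DihedralGroup.sr_mul_r] at this
      · rintro (a | a) (b | b) h <;> have h' := congrArg Subtype.val h <;> simp at h'
        · rw [h']
        · rw [h']
    rwa [Nat.card_sum, Nat.card_eq_fintype_card, Fintype.card_coe, ← two_mul] at h
  omega

/-- A proper subgroup containing reflections of both parities does not exist. -/
theorem reflection_parity {m : ℕ} [NeZero m] (π : ZMod m →+* ZMod 2) (H : Subgroup (DihedralGroup m))
    (hH : H ≠ ⊤) (hgen : ∀ a : ZMod m, π a = 1 → ∀ b : ZMod m, ∃ k : ℕ, b = k • a)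
    {i j : ZMod m} (hi : DihedralGroup.sr i ∈ H) (hj : DihedralGroup.sr j ∈ H) : π i = π j := by
  by_contra h
  apply hH
  have h1 := mul_mem hi hj
  rw [DihedralGroup.sr_mul_sr] at h1
  have hπ : π (j - i) = 1 := by
    rw [map_sub]
    generalize π i = u at h ⊢
    generalize π j = v at h ⊢
    revert u v; decide
  have hr : ∀ b : ZMod m, DihedralGroup.r b ∈ H := fun b => by
    obtain ⟨k, rfl⟩ := hgen _ hπ b
    have := pow_mem h1 k
    rwa [DihedralGroup.r_pow, mul_comm, ← nsmul_eq_mul] at this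
  rw [eq_top_iff]
  rintro (b | b) -
  · exact hr b
  · have := mul_mem hi (hr (b - i))
    rwa [DihedralGroup.sr_mul_r, add_sub_cancel] at this

/-- Let X be a finite group whose Sylow 2-subgroup S is dihedral of order 2m ≥ 4. If |S| = 4, any two Klein four-subgroups of X are conjugate; if |S| > 4, there are Klein four-subgroups U₁, U₂ of X that are not conjugate, and every Klein four-subgroup of X is conjugate to U₁ or to U₂. -/
theorem result {X : Type*} [Group X] [Finite X] (S : Sylow 2 X) (m : ℕ) (hm : 2 ≤ m) (eS : (S : Subgroup X) ≃* DihedralGroup m) : (Nat.card S = 4 → ∀ U V : Subgroup X, IsKleinFour U → IsKleinFour V → (∃ x : X, U.map (MulAut.conj x).toMonoidHom = V)) ∧ (4 < Nat.card S → ∃ U₁ U₂ : Subgroup X, IsKleinFour U₁ ∧ IsKleinFour U₂ ∧ ¬ (∃ x : X, U₁.map (MulAut.conj x).toMonoidHom = U₂) ∧ ∀ V : Subgroup X, IsKleinFour V → (∃ x : X, V.map (MulAut.conj x).toMonoidHom = U₁) ∨ (∃ x : X, V.map (MulAut.conj x).toMonoidHom = U₂)) := by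
  classical
  have hS2 : IsPGroup 2 (S : Subgroup X) := S.2
  obtain ⟨n, hn⟩ := hS2.exists_card_eq
  have hcard : Nat.card (S : Subgroup X) = 2 * m := by rw [Nat.card_congr eS.toEquiv, DihedralGroup.nat_card]
  refine ⟨fun h4 U V hU hV => ?_, fun h4 => ?_⟩
  · -- Sylow subgroups of order four
    have hsyl : ∀ U : Subgroup X, IsKleinFour U → ∃ x : X, U.map (MulAut.conj x).toMonoidHom = (S : Subgroup X) := by
      intro U hU
      obtain ⟨x, hx⟩ := CfsgLib.Invol.exists_conj_mem_sylow (p := 2) S (H := U)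
        (IsPGroup.of_card (n := 2) (by rw [hU.card_four]; rfl))
      refine ⟨x, Subgroup.eq_of_le_of_card_ge (by rintro _ ⟨u, hu, rfl⟩; exact hx u hu) ?_⟩
      rw [← Nat.card_congr (U.equivMapOfInjective _ (MulEquiv.injective (MulAut.conj x))).toEquiv, hU.card_four]
      exact h4.le
    obtain ⟨x, hx⟩ := hsyl U hU
    obtain ⟨y, hy⟩ := hsyl V hV
    refine ⟨y⁻¹ * x, ?_⟩
    rw [show (MulAut.conj (y⁻¹ * x)).toMonoidHom = (MulAut.conj y⁻¹).toMonoidHom.comp
      (MulAut.conj x).toMonoidHom by ext a; simp [mul_assoc], ← Subgroup.map_map, hx, ← hy, Subgroup.map_map]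
    convert Subgroup.map_id V
    ext a; simp [mul_assoc]
  have hn3 : 3 ≤ n := by
    have h1 : 2 ^ 2 < 2 ^ n := by rw [← hn]; exact h4
    exact (Nat.pow_lt_pow_iff_right (by norm_num)).1 h1
  obtain ⟨p, rfl⟩ : ∃ p, n = p + 3 := ⟨n - 3, by omega⟩
  have hm2 : m = 2 ^ (p + 2) := by
    rw [hn, show (2 : ℕ) ^ (p + 3) = 2 * 2 ^ (p + 2) by ring] at hcard
    omega
  subst hm2
  have : NeZero (2 ^ (p + 2)) := ⟨by positivity⟩
  let f : DihedralGroup (2 ^ (p + 2)) →* X := (S : Subgroup X).subtype.comp eS.symm.toMonoidHom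
  have hf : Function.Injective f := (S : Subgroup X).subtype_injective.comp eS.symm.injective
  have hfS : ∀ d, f d ∈ (S : Subgroup X) := fun d => Subtype.coe_prop _
  have hfsurj : ∀ x ∈ (S : Subgroup X), ∃ d, f d = x := fun x hx => ⟨eS ⟨x, hx⟩, by simp [f]⟩
  set π : ZMod (2 ^ (p + 2)) →+* ZMod 2 := ZMod.castHom (dvd_pow_self 2 (by omega)) (ZMod 2)
  set h : ZMod (2 ^ (p + 2)) := ((2 ^ (p + 1) : ℕ) : ZMod (2 ^ (p + 2))) with hh
  have hhalf : (2 ^ (p + 2)) / 2 = 2 ^ (p + 1) := by rw [pow_succ]; omega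
  have hpow : 2 ^ (p + 2) = 2 * 2 ^ (p + 1) := by ring
  have hm' : ∀ c : ZMod (2 ^ (p + 2)), c + c = 0 → c = 0 ∨ c = h := by
    intro c hc
    have h2 : 2 ^ (p + 2) ∣ 2 * c.val := by
      rw [← ZMod.natCast_eq_zero_iff]; push_cast [ZMod.natCast_zmod_val]; linear_combination hc
    have hlt := ZMod.val_lt c
    obtain ⟨e, he⟩ := h2
    have he2 : c.val = 2 ^ (p + 1) * e := by
      have : 2 * c.val = 2 * (2 ^ (p + 1) * e) := by rw [he, hpow, mul_assoc]
      omega
    have he1 : e < 2 := by nlinarith [Nat.two_pow_pos (p + 1)]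
    rcases (show e = 0 ∨ e = 1 by omega) with rfl | rfl
    · left; rw [← ZMod.natCast_zmod_val c, he2, mul_zero, Nat.cast_zero]
    · right; rw [← ZMod.natCast_zmod_val c, he2, mul_one]
  have hh2 : h + h = 0 := by
    rw [hh, ← Nat.cast_add, ← two_mul, ← hpow]; exact ZMod.natCast_self _
  have hh0 : h ≠ 0 := by
    rw [hh, Ne, ZMod.natCast_eq_zero_iff]
    exact fun hd => absurd (Nat.le_of_dvd (Nat.two_pow_pos _) hd) (by rw [hpow]; have := Nat.two_pow_pos (p + 1); omega)
  have hgen : ∀ a : ZMod (2 ^ (p + 2)), π a = 1 → ∀ b : ZMod (2 ^ (p + 2)), ∃ k : ℕ, b = k • a := by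
    intro a ha b
    have hu : IsUnit a := by
      rw [← ZMod.natCast_zmod_val a, ZMod.isUnit_iff_coprime, Nat.coprime_pow_right_iff (by omega),
        Nat.coprime_two_right, ← ZMod.natCast_eq_one_iff_odd]
      rw [← ha]
      conv_rhs => rw [← ZMod.natCast_zmod_val a]
      rw [map_natCast]
    obtain ⟨u, rfl⟩ := hu
    refine ⟨(b * (↑u⁻¹ : ZMod (2 ^ (p + 2)))).val, ?_⟩
    rw [nsmul_eq_mul, ZMod.natCast_zmod_val, mul_assoc, Units.inv_mul, mul_one]
  have hπh : π h = 0 := by
    rw [hh, map_natCast, ZMod.natCast_eq_zero_iff]; exact dvd_pow_self 2 (by omega)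
  have hker : ∀ a : ZMod (2 ^ (p + 2)), π a = 0 → ∃ c, a = c + c := by
    intro a ha
    rw [← ZMod.natCast_zmod_val a, map_natCast, ZMod.natCast_eq_zero_iff] at ha
    obtain ⟨c, hc⟩ := ha
    exact ⟨(c : ZMod (2 ^ (p + 2))), by rw [← ZMod.natCast_zmod_val a, hc]; push_cast; ring⟩
  -- the two four-groups
  let U : ZMod (2 ^ (p + 2)) → Subgroup (DihedralGroup (2 ^ (p + 2))) := fun i =>
    { carrier := {1, DihedralGroup.r h, DihedralGroup.sr i, DihedralGroup.sr (i + h)}
      one_mem' := Or.inl rfl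
      mul_mem' := by
        have e1 : i + h + h = i := by rw [add_assoc, hh2, add_zero]
        have e2 : i - h = i + h := by linear_combination -hh2
        have e3 : i - (i + h) = h := by linear_combination -hh2
        have e4 : i + h - h = i := by ring
        have e5 : i + h - i = h := by ring
        intro a b ha hb
        rcases ha with rfl | rfl | rfl | rfl <;> rcases hb with rfl | rfl | rfl | rfl <;>
          simp [DihedralGroup.r_mul_r, DihedralGroup.r_mul_sr, DihedralGroup.sr_mul_r,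
            DihedralGroup.sr_mul_sr, hh2, e1, e2, e3, e4, e5]
      inv_mem' := by
        intro a ha
        have e6 : -h = h := by linear_combination -hh2
        rcases ha with rfl | rfl | rfl | rfl <;> simp [DihedralGroup.inv_r, DihedralGroup.inv_sr, e6] }
  have hUK : ∀ i, IsKleinFour ((U i).map f) := by
    intro i
    have hc : Nat.card (U i) = 4 := by
      show Nat.card ({1, DihedralGroup.r h, DihedralGroup.sr i, DihedralGroup.sr (i + h)} : Set _) = 4
      rw [Nat.card_coe_set_eq, Set.ncard_eq_four]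
      refine ⟨1, DihedralGroup.r h, DihedralGroup.sr i, DihedralGroup.sr (i + h), ?_, ?_, ?_, ?_, ?_, ?_, rfl⟩ <;>
        simp [← DihedralGroup.r_zero, hh0, hh0.symm]
    have hx : Monoid.exponent (U i) = 2 := by
      have hd : Monoid.exponent (U i) ∣ 2 := Monoid.exponent_dvd.2 fun w => by
        refine orderOf_dvd_of_pow_eq_one (Subtype.ext ?_)
        rw [pow_two, Subgroup.coe_mul]
        rcases w.2 with e | e | e | e <;> (try rw [Set.mem_singleton_iff] at e) <;> rw [e] <;>
          simp [DihedralGroup.r_mul_r, DihedralGroup.sr_mul_sr, hh2]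
      rcases (Nat.dvd_prime Nat.prime_two).1 hd with e | e
      · exfalso
        have : Subsingleton (U i) := Monoid.exp_eq_one_iff.1 e
        rw [Nat.card_of_subsingleton (1 : U i)] at hc
        omega
      · exact e
    have eq := (U i).equivMapOfInjective f hf
    exact ⟨(Nat.card_congr eq.toEquiv).symm.trans hc, (Monoid.exponent_eq_of_mulEquiv eq).symm.trans hx⟩
  have hconjU : ∀ i j, π i = π j → ∃ x : X, ((U i).map f).map (MulAut.conj x).toMonoidHom = (U j).map f := by
    intro i j hij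
    obtain ⟨c, hc⟩ := hker (i - j) (by rw [map_sub, hij, sub_self])
    refine ⟨f (DihedralGroup.r c), Subgroup.eq_of_le_of_card_ge ?_ ?_⟩
    · rintro _ ⟨_, ⟨u, hu, rfl⟩, rfl⟩
      refine ⟨DihedralGroup.r c * u * (DihedralGroup.r c)⁻¹, ?_, by simp [← map_inv]⟩
      rcases hu with rfl | rfl | rfl | rfl
      · exact Or.inl (by group)
      · refine Or.inr (Or.inl ?_)
        simp [DihedralGroup.r_mul_r, DihedralGroup.inv_r]
      · refine Or.inr (Or.inr (Or.inl ?_))
        simp only [DihedralGroup.inv_r, DihedralGroup.r_mul_sr, DihedralGroup.sr_mul_r]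
        congr 1
        linear_combination hc
      · refine Or.inr (Or.inr (Or.inr ?_))
        simp only [Set.mem_singleton_iff, DihedralGroup.inv_r, DihedralGroup.r_mul_sr, DihedralGroup.sr_mul_r]
        congr 1
        linear_combination hc
    · rw [(hUK j).card_four, ← Nat.card_congr (((U i).map f).equivMapOfInjective _
        (MulEquiv.injective (MulAut.conj (f (DihedralGroup.r c))))).toEquiv, (hUK i).card_four]
  -- four-groups of `S`
  have hrefl : ∀ V : Subgroup (DihedralGroup (2 ^ (p + 2))), IsKleinFour V → ∃ i, V = U i := by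
    intro V hV
    have hsq : ∀ v ∈ V, v * v = 1 := fun v hv => CfsgLib.Invol.klein_sq_eq_one hV hv
    have hrot : ∀ c, DihedralGroup.r c ∈ V → c = 0 ∨ c = h := fun c hc => hm' c (by
      have := hsq _ hc
      rwa [DihedralGroup.r_mul_r, DihedralGroup.one_def, DihedralGroup.r.injEq] at this)
    obtain ⟨i, hi⟩ : ∃ i, DihedralGroup.sr i ∈ V := by
      by_contra hne
      push Not at hne
      have hle : (V : Set (DihedralGroup (2 ^ (p + 2)))) ⊆ {1, DihedralGroup.r h} := by
        rintro (c | c) hc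
        · rcases hrot c hc with rfl | rfl
          · exact Or.inl DihedralGroup.one_def.symm
          · exact Or.inr rfl
        · exact absurd hc (hne c)
      have h1 := Set.ncard_le_ncard hle (Set.toFinite _)
      rw [← Nat.card_coe_set_eq] at h1
      have h3 : Nat.card ((V : Set (DihedralGroup (2 ^ (p + 2))))) = 4 := hV.card_four
      rw [h3] at h1
      have h2 : ({1, DihedralGroup.r h} : Set (DihedralGroup (2 ^ (p + 2)))).ncard ≤ 2 :=
        (Set.ncard_insert_le _ _).trans (by rw [Set.ncard_singleton])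
      omega
    refine ⟨i, Subgroup.eq_of_le_of_card_ge ?_ ?_⟩
    · rintro (c | c) hc
      · rcases hrot c hc with rfl | rfl
        · exact Or.inl DihedralGroup.one_def.symm
        · exact Or.inr (Or.inl rfl)
      · have h1 := mul_mem hi hc
        rw [DihedralGroup.sr_mul_sr] at h1
        rcases hrot _ h1 with h2 | h2
        · rw [sub_eq_zero.1 h2]; exact Or.inr (Or.inr (Or.inl rfl))
        · exact Or.inr (Or.inr (Or.inr (by rw [Set.mem_singleton_iff, ← h2]; congr 1; ring)))
    · rw [hV.card_four]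
      exact (((Nat.card_congr ((U i).equivMapOfInjective f hf).toEquiv).trans (hUK i).card_four)).le
  refine ⟨(U 0).map f, (U 1).map f, hUK 0, hUK 1, ?_, fun V hV => ?_⟩
  swap
  · obtain ⟨x, hx⟩ := CfsgLib.Invol.exists_conj_mem_sylow (p := 2) S (H := V)
      (IsPGroup.of_card (n := 2) (by rw [hV.card_four]; rfl))
    set V' := (V.map (MulAut.conj x).toMonoidHom).comap f
    have hV'm : V'.map f = V.map (MulAut.conj x).toMonoidHom := by
      refine Subgroup.map_comap_eq_self ?_
      rintro _ ⟨v, hv, rfl⟩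
      exact hfsurj _ (hx v hv)
    have hV' : IsKleinFour V' := by
      have eq := (V'.equivMapOfInjective f hf).trans ((MulEquiv.subgroupCongr hV'm).trans
        (V.equivMapOfInjective _ (MulEquiv.injective (MulAut.conj x))).symm)
      exact ⟨(Nat.card_congr eq.toEquiv).trans hV.card_four, (Monoid.exponent_eq_of_mulEquiv eq).trans hV.exponent_two⟩
    obtain ⟨i, hi⟩ := hrefl V' hV'
    rw [hi] at hV'm
    have key : ∀ j, π i = π j → ∃ y : X, V.map (MulAut.conj y).toMonoidHom = (U j).map f := by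
      intro j hij
      obtain ⟨y, hy⟩ := hconjU i j hij
      rw [hV'm, Subgroup.map_map] at hy
      refine ⟨y * x, ?_⟩
      rw [← hy]; congr 1; ext a; simp [mul_assoc]
    have h01 : π i = 0 ∨ π i = 1 := by generalize π i = u; revert u; decide
    exact h01.imp (fun h => key 0 (by rw [h, map_zero])) (fun h => key 1 (by rw [h, map_one]))
  -- they are not conjugate
  rintro ⟨g₀, hg₀⟩
  let Good : ℕ → Prop := fun c => ∃ (H₀ H₁ : Subgroup (DihedralGroup (2 ^ (p + 2)))) (g : X),
    H₀ ≠ ⊤ ∧ Nat.card H₀ = c ∧ U 0 ≤ H₀ ∧ U 1 ≤ H₁ ∧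
      (H₀.map f).map (MulAut.conj g).toMonoidHom = H₁.map f
  have hcardU : ∀ i, Nat.card (U i) = 4 := fun i =>
    (Nat.card_congr ((U i).equivMapOfInjective f hf).toEquiv).trans (hUK i).card_four
  have hD : Nat.card (DihedralGroup (2 ^ (p + 2))) = 2 * 2 ^ (p + 2) := DihedralGroup.nat_card
  have hex : Good 4 := ⟨U 0, U 1, g₀, fun h => by
      have h1 := hcardU 0
      rw [h, Subgroup.card_top, hD] at h1
      have : 2 ^ 2 ≤ 2 ^ (p + 2) := Nat.pow_le_pow_right two_pos (by omega)
      omega, hcardU 0, le_rfl, le_rfl, hg₀⟩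
  have hb : ∀ c, Good c → c ≤ 2 * 2 ^ (p + 2) := by
    rintro c ⟨H₀, -, -, -, rfl, -⟩
    exact hD ▸ Subgroup.card_le_card_group _
  set c := Nat.findGreatest Good (2 * 2 ^ (p + 2))
  obtain ⟨H₀, H₁, g, hne, hc, hU0, hU1, hg⟩ : Good c := Nat.findGreatest_spec (hb 4 hex) hex
  have hs0 : DihedralGroup.sr 0 ∈ H₀ := hU0 (Or.inr (Or.inr (Or.inl rfl)))
  have hs1 : DihedralGroup.sr 1 ∈ H₁ := hU1 (Or.inr (Or.inr (Or.inl rfl)))
  have hcards : Nat.card H₁ = Nat.card H₀ := by
    rw [Nat.card_congr (H₁.equivMapOfInjective f hf).toEquiv, ← hg,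
      ← Nat.card_congr ((H₀.map f).equivMapOfInjective _ (MulEquiv.injective (MulAut.conj g))).toEquiv,
      ← Nat.card_congr (H₀.equivMapOfInjective f hf).toEquiv]
  have hD2 : IsPGroup 2 (DihedralGroup (2 ^ (p + 2))) := IsPGroup.of_card (n := p + 3) (by rw [hD]; ring)
  have hdouble : ∀ (H : Subgroup (DihedralGroup (2 ^ (p + 2)))) (i : ZMod (2 ^ (p + 2))),
      DihedralGroup.sr i ∈ H → H ≠ ⊤ →
      Nat.card (Subgroup.normalizer (H : Set (DihedralGroup (2 ^ (p + 2))))) = 2 * Nat.card H := by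
    intro H i hi hH
    refine le_antisymm (card_normalizer_le H hi (by rw [hhalf]; exact hm')) ?_
    have := hD2.isNilpotent
    have hlt := Group.normalizerCondition_of_isNilpotent (G := DihedralGroup (2 ^ (p + 2))) H hH.lt_top
    have h1 : Nat.card H < Nat.card (Subgroup.normalizer (H : Set (DihedralGroup (2 ^ (p + 2))))) := by
      refine lt_of_le_of_ne (Subgroup.card_le_of_le hlt.le) fun he => hlt.ne ?_
      exact Subgroup.eq_of_le_of_card_ge hlt.le he.ge
    obtain ⟨a, ha⟩ := (hD2.to_subgroup H).exists_card_eq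
    obtain ⟨b, hb⟩ := (hD2.to_subgroup (Subgroup.normalizer (H : Set (DihedralGroup (2 ^ (p + 2)))))).exists_card_eq
    rw [ha, hb] at h1 ⊢
    rw [← pow_succ']
    exact Nat.pow_le_pow_right two_pos ((Nat.pow_lt_pow_iff_right (by norm_num)).1 h1)
  have hne1 : H₁ ≠ ⊤ := fun h => hne (Subgroup.eq_top_of_card_eq _ (by rw [← hcards, h, Subgroup.card_top]))
  set N₀ := Subgroup.normalizer (H₀ : Set (DihedralGroup (2 ^ (p + 2))))
  set N₁ := Subgroup.normalizer (H₁ : Set (DihedralGroup (2 ^ (p + 2))))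
  have hN₀ := hdouble H₀ 0 hs0 hne
  have hN₁ := hdouble H₁ 1 hs1 hne1
  set M := Subgroup.normalizer ((H₁.map f : Subgroup X) : Set X)
  have hN1M : N₁.map f ≤ M := Subgroup.le_normalizer_map f
  have hN0M : (N₀.map f).map (MulAut.conj g).toMonoidHom ≤ M := by
    have h1 := Subgroup.map_mono (f := (MulAut.conj g).toMonoidHom) (Subgroup.le_normalizer_map (H := H₀) f)
    refine h1.trans ?_
    have h2 := Subgroup.le_normalizer_map (H := H₀.map f) (MulAut.conj g).toMonoidHom
    rwa [hg] at h2
  -- bound on 2-subgroups of the normalizer containing the subgroup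
  have hbound : ∀ P : Subgroup X, IsPGroup 2 P → H₁.map f ≤ P → P ≤ M → Nat.card P ≤ 2 * Nat.card H₁ := by
    intro P hP hle hPM
    obtain ⟨x, hx⟩ := CfsgLib.Invol.exists_conj_mem_sylow (p := 2) S hP
    set P' := (P.map (MulAut.conj x).toMonoidHom).comap f
    set H' := ((H₁.map f).map (MulAut.conj x).toMonoidHom).comap f
    have hPm : P'.map f = P.map (MulAut.conj x).toMonoidHom := Subgroup.map_comap_eq_self (by
      rintro _ ⟨v, hv, rfl⟩; exact hfsurj _ (hx v hv))
    have hHm : H'.map f = (H₁.map f).map (MulAut.conj x).toMonoidHom := Subgroup.map_comap_eq_self (by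
      rintro _ ⟨v, hv, rfl⟩; exact hfsurj _ (hx v (hle hv)))
    have hP'N : P' ≤ Subgroup.normalizer (H' : Set (DihedralGroup (2 ^ (p + 2)))) := by
      intro d hd
      obtain ⟨v, hv, hvd⟩ := hd
      have hn2 : f d ∈ Subgroup.normalizer (((H₁.map f).map (MulAut.conj x).toMonoidHom : Subgroup X) : Set X) :=
        Subgroup.le_normalizer_map (MulAut.conj x).toMonoidHom ⟨v, hPM hv, hvd⟩
      refine Subgroup.mem_normalizer_iff.2 fun a => ?_
      rw [Subgroup.mem_comap, Subgroup.mem_comap, map_mul, map_mul, map_inv]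
      exact Subgroup.mem_normalizer_iff.1 hn2 (f a)
    have hH'c : Nat.card H' = Nat.card H₁ := by
      rw [Nat.card_congr (H'.equivMapOfInjective f hf).toEquiv, hHm,
        ← Nat.card_congr ((H₁.map f).equivMapOfInjective _ (MulEquiv.injective (MulAut.conj x))).toEquiv,
        ← Nat.card_congr (H₁.equivMapOfInjective f hf).toEquiv]
    obtain ⟨i, hi⟩ : ∃ i, DihedralGroup.sr i ∈ H' := by
      by_contra hno
      push Not at hno
      have sub : ∀ u ∈ U 1, ∃ c, c + c = 0 ∧ f (DihedralGroup.r c) = x * f u * x⁻¹ := by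
        intro u hu
        obtain ⟨d, hd⟩ : ∃ d, f d = x * f u * x⁻¹ := hfsurj _ (hx _ (hle ⟨u, hU1 hu, rfl⟩))
        have hdH : d ∈ H' := Subgroup.mem_comap.2 (by rw [hd]; exact ⟨_, ⟨u, hU1 hu, rfl⟩, rfl⟩)
        rcases d with c | c
        · refine ⟨c, ?_, hd⟩
          have h2 : f (DihedralGroup.r (c + c)) = 1 := by
            have h3 : f u * f u = 1 :=
              CfsgLib.Invol.klein_sq_eq_one (hUK 1) (Subgroup.mem_map_of_mem f hu)
            rw [← DihedralGroup.r_mul_r, map_mul, hd, conj_mul, h3, mul_one, mul_inv_cancel]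
          have h4 := (map_eq_one_iff f hf).1 h2
          rwa [DihedralGroup.one_def, DihedralGroup.r.injEq] at h4
        · exact absurd hdH (hno c)
      choose c hc hcu using sub
      have hinj : Function.Injective fun u : U 1 => (⟨c u u.2, hm' _ (hc u u.2)⟩ : {a : ZMod (2 ^ (p + 2)) // a = 0 ∨ a = h}) :=
        fun u v huv => by
          have h2 := hcu u u.2
          rw [show c u u.2 = c v v.2 from congrArg Subtype.val huv, hcu v v.2] at h2
          exact Subtype.ext (hf (mul_left_cancel (mul_right_cancel h2)).symm)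
      have h5 := Nat.card_le_card_of_injective _ hinj
      rw [hcardU] at h5
      have h6 : Nat.card {a : ZMod (2 ^ (p + 2)) // a = 0 ∨ a = h} ≤ 2 := by
        show Nat.card ({0, h} : Set (ZMod (2 ^ (p + 2)))) ≤ 2
        rw [Nat.card_coe_set_eq]
        exact (Set.ncard_insert_le _ _).trans (by rw [Set.ncard_singleton])
      omega
    have hP'c : Nat.card P' = Nat.card P := by
      rw [Nat.card_congr (P'.equivMapOfInjective f hf).toEquiv, hPm,
        ← Nat.card_congr (P.equivMapOfInjective _ (MulEquiv.injective (MulAut.conj x))).toEquiv]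
    calc Nat.card P = Nat.card P' := hP'c.symm
      _ ≤ _ := Subgroup.card_le_of_le hP'N
      _ ≤ 2 * Nat.card H' := card_normalizer_le H' hi (by rw [hhalf]; exact hm')
      _ = _ := by rw [hH'c]
  have hcN1 : Nat.card (N₁.map f) = 2 * Nat.card H₁ := by
    rw [← Nat.card_congr (N₁.equivMapOfInjective f hf).toEquiv]; exact hN₁
  have hcN0 : Nat.card ((N₀.map f).map (MulAut.conj g).toMonoidHom) = 2 * Nat.card H₁ := by
    rw [← Nat.card_congr ((N₀.map f).equivMapOfInjective _ (MulEquiv.injective (MulAut.conj g))).toEquiv,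
      ← Nat.card_congr (N₀.equivMapOfInjective f hf).toEquiv, hcards]; exact hN₀
  have hpN1 : IsPGroup 2 (N₁.map f) := (hD2.to_subgroup _).map f
  have hpN0 : IsPGroup 2 ((N₀.map f).map (MulAut.conj g).toMonoidHom) := ((hD2.to_subgroup _).map f).map _
  obtain ⟨P1, hP1⟩ := (hpN1.comap_subtype (K := M)).exists_le_sylow
  obtain ⟨k, hk⟩ := CfsgLib.Invol.exists_conj_mem_sylow (p := 2) P1
    (H := ((N₀.map f).map (MulAut.conj g).toMonoidHom).subgroupOf M) hpN0.comap_subtype
  have hP1eq : (P1 : Subgroup M).map M.subtype = N₁.map f := by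
    have hle : N₁.map f ≤ (P1 : Subgroup M).map M.subtype := fun v hv => ⟨⟨v, hN1M hv⟩, hP1 hv, rfl⟩
    refine (Subgroup.eq_of_le_of_card_ge hle ?_).symm
    rw [hcN1]
    exact hbound _ (P1.2.map _) ((Subgroup.map_mono Subgroup.le_normalizer).trans hle) (Subgroup.map_subtype_le _)
  set g' := (k : X) * g
  have hg'N : (N₀.map f).map (MulAut.conj g').toMonoidHom = N₁.map f := by
    refine Subgroup.eq_of_le_of_card_ge ?_ ?_
    · rintro _ ⟨v, hv, rfl⟩
      rw [← hP1eq]
      exact ⟨_, hk ⟨_, hN0M ⟨v, hv, rfl⟩⟩ ⟨v, hv, rfl⟩, by simp [g', mul_assoc]⟩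
    · rw [hcN1, ← Nat.card_congr ((N₀.map f).equivMapOfInjective _ (MulEquiv.injective (MulAut.conj g'))).toEquiv,
        ← Nat.card_congr (N₀.equivMapOfInjective f hf).toEquiv, hcards]
      exact hN₀.ge
  have hg'H : (H₀.map f).map (MulAut.conj g').toMonoidHom = H₁.map f := by
    rw [show (MulAut.conj g').toMonoidHom = (MulAut.conj (k : X)).toMonoidHom.comp (MulAut.conj g).toMonoidHom by
      ext a; simp [g', mul_assoc], ← Subgroup.map_map, hg]
    refine Subgroup.eq_of_le_of_card_ge ?_ ?_
    · rintro _ ⟨v, hv, rfl⟩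
      exact (Subgroup.mem_normalizer_iff.1 k.2 v).1 hv
    · exact (Nat.card_congr ((H₁.map f).equivMapOfInjective _ (MulEquiv.injective (MulAut.conj (k : X)))).toEquiv).le
  by_cases hN₀top : N₀ = ⊤
  swap
  · have hgood : Good (Nat.card N₀) :=
      ⟨N₀, N₁, g', hN₀top, rfl, hU0.trans Subgroup.le_normalizer, hU1.trans Subgroup.le_normalizer, hg'N⟩
    have hle := Nat.le_findGreatest (hb _ hgood) hgood
    have hlt : Nat.card H₀ < Nat.card N₀ := by
      have := Nat.card_pos (α := H₀)
      rw [show Nat.card N₀ = 2 * Nat.card H₀ from hN₀]; omega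
    rw [hc] at hlt
    omega
  have hN₁top : N₁ = ⊤ := Subgroup.eq_top_of_card_eq _ (by
    rw [show Nat.card N₁ = 2 * Nat.card H₁ from hN₁, hcards, ← hN₀]
    show Nat.card N₀ = _
    rw [hN₀top, Subgroup.card_top])
  have hfS' : (⊤ : Subgroup (DihedralGroup (2 ^ (p + 2)))).map f = (S : Subgroup X) := by
    ext x
    exact ⟨fun ⟨d, _, hd⟩ => hd ▸ hfS d, fun hx => let ⟨d, hd⟩ := hfsurj x hx; ⟨d, trivial, hd⟩⟩
  rw [hN₀top, hN₁top, hfS'] at hg'N
  -- index-two subgroups with a reflection are determined by its parity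
  have hidx : ∀ (A B : Subgroup (DihedralGroup (2 ^ (p + 2)))) (i j : ZMod (2 ^ (p + 2))), A ≠ ⊤ →
      2 * Nat.card B = Nat.card (DihedralGroup (2 ^ (p + 2))) →
      DihedralGroup.sr i ∈ A → DihedralGroup.sr j ∈ B → π i = π j →
      Nat.card A = Nat.card B → A = B := by
    intro A B i j hA hB hi hj hij hcAB
    refine Subgroup.eq_of_le_of_card_ge ?_ hcAB.ge
    have hBi : B.index = 2 := by
      have := B.card_mul_index
      rw [← hB, mul_comm] at this
      exact Nat.eq_of_mul_eq_mul_right Nat.card_pos this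
    have hsq : ∀ a : ZMod (2 ^ (p + 2)), π a = 0 → DihedralGroup.r a ∈ B := fun a ha => by
      obtain ⟨c, rfl⟩ := hker a ha
      rw [← DihedralGroup.r_mul_r]
      exact Subgroup.mul_self_mem_of_index_two hBi _
    rintro (a | a) hd
    · refine hsq a ?_
      have h1 := mul_mem hi hd
      rw [DihedralGroup.sr_mul_r] at h1
      have h2 := reflection_parity π A hA hgen hi h1
      rw [map_add] at h2
      exact left_eq_add.1 h2
    · have h2 := reflection_parity π A hA hgen hi hd
      have h1 := mul_mem hj (hsq (a - j) (by rw [map_sub, ← h2, hij, sub_self]))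
      rwa [DihedralGroup.sr_mul_r, add_sub_cancel] at h1
  have hcD : ∀ {K : Subgroup (DihedralGroup (2 ^ (p + 2)))}, Nat.card K = Nat.card H₀ →
      2 * Nat.card K = Nat.card (DihedralGroup (2 ^ (p + 2))) := fun hK => by
    rw [hK, ← hN₀]; show Nat.card N₀ = _; rw [hN₀top, Subgroup.card_top]
  have hH01 : H₀ ≠ H₁ := fun h01 => by
    have := reflection_parity π H₀ hne hgen hs0 (h01 ▸ hs1)
    rw [map_zero, map_one] at this
    exact zero_ne_one this
  set N := Subgroup.normalizer ((S : Subgroup X) : Set X)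
  have hg'NS : g' ∈ N := by
    refine Subgroup.mem_normalizer_iff.2 fun a => ⟨fun ha => hg'N ▸ ⟨a, ha, rfl⟩, fun ha => ?_⟩
    rw [← hg'N] at ha
    obtain ⟨b, hb, hba⟩ := ha
    exact (MulAut.conj g').injective hba ▸ hb
  -- `g'` exchanges the two subgroups
  have hback : (H₁.map f).map (MulAut.conj g').toMonoidHom = H₀.map f := by
    set H := ((H₁.map f).map (MulAut.conj g').toMonoidHom).comap f
    have hHm : H.map f = (H₁.map f).map (MulAut.conj g').toMonoidHom := Subgroup.map_comap_eq_self (by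
      rintro _ ⟨_, ⟨v, hv, rfl⟩, rfl⟩
      exact hfsurj _ ((Subgroup.mem_normalizer_iff.1 hg'NS _).1 (hfS v)))
    have hHc : Nat.card H = Nat.card H₀ := by
      rw [Nat.card_congr (H.equivMapOfInjective f hf).toEquiv, hHm,
        ← Nat.card_congr ((H₁.map f).equivMapOfInjective _ (MulEquiv.injective (MulAut.conj g'))).toEquiv,
        ← Nat.card_congr (H₁.equivMapOfInjective f hf).toEquiv, hcards]
    have hHne : H ≠ H₁ := fun he => hH01 (by
      rw [he] at hHm
      have h2 := hg'H.trans hHm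
      exact Subgroup.map_injective hf (Subgroup.map_injective (MulEquiv.injective (MulAut.conj g')) h2))
    have hHtop : H ≠ ⊤ := fun he => hne (Subgroup.eq_top_of_card_eq _ (by rw [← hHc, he, Subgroup.card_top]))
    obtain ⟨i, hi⟩ : ∃ i, DihedralGroup.sr i ∈ H := by
      by_contra hno
      push Not at hno
      have sub : ∀ u ∈ U 1, ∃ c, c + c = 0 ∧ f (DihedralGroup.r c) = g' * f u * g'⁻¹ := by
        intro u hu
        obtain ⟨d, hd⟩ : ∃ d, f d = g' * f u * g'⁻¹ :=
          hfsurj _ ((Subgroup.mem_normalizer_iff.1 hg'NS _).1 (hfS u))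
        have hdH : d ∈ H := Subgroup.mem_comap.2 (by rw [hd]; exact ⟨_, ⟨u, hU1 hu, rfl⟩, rfl⟩)
        rcases d with c | c
        · refine ⟨c, ?_, hd⟩
          have h2 : f (DihedralGroup.r (c + c)) = 1 := by
            have h3 : f u * f u = 1 :=
              CfsgLib.Invol.klein_sq_eq_one (hUK 1) (Subgroup.mem_map_of_mem f hu)
            rw [← DihedralGroup.r_mul_r, map_mul, hd, conj_mul, h3, mul_one, mul_inv_cancel]
          have h4 := (map_eq_one_iff f hf).1 h2
          rwa [DihedralGroup.one_def, DihedralGroup.r.injEq] at h4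
        · exact absurd hdH (hno c)
      choose c hc hcu using sub
      have hinj : Function.Injective fun u : U 1 => (⟨c u u.2, hm' _ (hc u u.2)⟩ : {a : ZMod (2 ^ (p + 2)) // a = 0 ∨ a = h}) :=
        fun u v huv => by
          have h2 := hcu u u.2
          rw [show c u u.2 = c v v.2 from congrArg Subtype.val huv, hcu v v.2] at h2
          exact Subtype.ext (hf (mul_left_cancel (mul_right_cancel h2)).symm)
      have h5 := Nat.card_le_card_of_injective _ hinj
      rw [hcardU] at h5
      have h6 : Nat.card {a : ZMod (2 ^ (p + 2)) // a = 0 ∨ a = h} ≤ 2 := by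
        show Nat.card ({0, h} : Set (ZMod (2 ^ (p + 2)))) ≤ 2
        rw [Nat.card_coe_set_eq]
        exact (Set.ncard_insert_le _ _).trans (by rw [Set.ncard_singleton])
      omega
    have hπi : π i = 0 := by
      by_contra hne0
      refine hHne (hidx H H₁ i 1 hHtop (hcD hcards) hi hs1 ?_ (by rw [hHc, hcards]))
      rw [map_one]
      generalize π i = u at hne0
      revert u; decide
    rw [← hHm, hidx H H₀ i 0 hHtop (hcD rfl) hi hs0 (by rw [hπi, map_zero]) hHc]
  obtain ⟨a2, r, hr, hord⟩ := Nat.exists_eq_pow_mul_and_not_dvd (orderOf_pos g').ne' 2 (by norm_num)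
  have hswap : ∀ q : ℕ, (Even q → (H₀.map f).map (MulAut.conj (g' ^ q)).toMonoidHom = H₀.map f) ∧
      (Odd q → (H₀.map f).map (MulAut.conj (g' ^ q)).toMonoidHom = H₁.map f) := by
    intro q
    induction q with
    | zero => exact ⟨fun _ => by ext a; simp, fun h => absurd h (by decide)⟩
    | succ q ih =>
      have e : (H₀.map f).map (MulAut.conj (g' ^ (q + 1))).toMonoidHom =
          ((H₀.map f).map (MulAut.conj (g' ^ q)).toMonoidHom).map (MulAut.conj g').toMonoidHom := by
        rw [Subgroup.map_map _ (MulAut.conj g').toMonoidHom]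
        congr 1
        ext a; simp [pow_succ', mul_assoc]
      constructor
      · intro hq
        rw [e, ih.2 (by rwa [Nat.even_add_one, Nat.not_even_iff_odd] at hq), hback]
      · intro hq
        rw [e, ih.1 (by rwa [Nat.odd_add_one, Nat.not_odd_iff_even] at hq), hg'H]
  have hrodd : Odd r := Nat.odd_iff.2 (Nat.two_dvd_ne_zero.1 hr)
  have hsr : (H₀.map f).map (MulAut.conj (g' ^ r)).toMonoidHom = H₁.map f := (hswap r).2 hrodd
  have hgrS : g' ^ r ∈ (S : Subgroup X) := by
    have hp : IsPGroup 2 (Subgroup.zpowers (g' ^ r)) := by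
      refine IsPGroup.of_card (n := a2) ?_
      have hr0 : r ≠ 0 := hrodd.pos.ne'
      rw [Nat.card_zpowers, orderOf_pow' g' hr0, hord, Nat.gcd_mul_left_left,
        Nat.mul_div_cancel _ (Nat.pos_of_ne_zero hr0)]
    have hle : Subgroup.zpowers (g' ^ r) ≤ N := Subgroup.zpowers_le.2 (pow_mem hg'NS r)
    have hsup : IsPGroup 2 ((S : Subgroup X) ⊔ Subgroup.zpowers (g' ^ r) : Subgroup X) :=
      hS2.to_sup_of_normal_left' hp hle
    exact S.3 hsup le_sup_left ▸ Subgroup.mem_sup_right (Subgroup.mem_zpowers _)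
  obtain ⟨d, hd⟩ := hfsurj _ hgrS
  have hfix : (H₀.map f).map (MulAut.conj (g' ^ r)).toMonoidHom = H₀.map f := by
    refine Subgroup.eq_of_le_of_card_ge ?_
      (Nat.card_congr ((H₀.map f).equivMapOfInjective _ (MulEquiv.injective (MulAut.conj (g' ^ r)))).toEquiv).le
    rintro _ ⟨_, ⟨v, hv, rfl⟩, rfl⟩
    have hdN : d ∈ N₀ := hN₀top ▸ Subgroup.mem_top d
    exact ⟨_, (Subgroup.mem_normalizer_iff.1 hdN v).1 hv, by simp [← hd]⟩
  exact hH01 (Subgroup.map_injective hf (hfix.symm.trans hsr))

end Cfsg.Agent.S1256
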