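import Cfsg.Statements.S1258
import Cfsg.Agent.Lib.Comp.Quasisimple
-- import your own Cfsg.Agent.* helpers here

set_option autoImplicit false
open Cfsg

namespace Cfsg.Agent.S1258

open Subgroup
open scoped commutatorElement

/-- If the central quotient of a finite group X is non-abelian simple, then X = X' Z(X) and the commutator subgroup X' is quasisimple. -/
theorem result {X : Type*} [Group X] [Finite X] (hs : IsSimpleGroup (X ⧸ Subgroup.center X)) (hna : ¬ IsMulCommutative (X ⧸ Subgroup.center X)) : commutator X ⊔ Subgroup.center X = ⊤ ∧ Cfsg.IsQuasisimple ↥(commutator X) := by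
  haveI := hs
  have htop : commutator X ⊔ center X = ⊤ := by
    haveI : ((commutator X).map (QuotientGroup.mk' (center X))).Normal :=
      Subgroup.Normal.map inferInstance _ (QuotientGroup.mk'_surjective _)
    rcases Normal.eq_bot_or_eq_top (H := (commutator X).map (QuotientGroup.mk' (center X)))
      inferInstance with h | h
    · exfalso; apply hna
      refine ⟨⟨fun a b => ?_⟩⟩
      obtain ⟨a, rfl⟩ := QuotientGroup.mk'_surjective _ a
      obtain ⟨b, rfl⟩ := QuotientGroup.mk'_surjective _ b
      rw [← commutatorElement_eq_one_iff_mul_comm, ← map_commutatorElement, ← mem_bot, ← h]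
      exact mem_map_of_mem _ (by rw [_root_.commutator_def]; exact commutator_mem_commutator trivial trivial)
    · have h1 := congrArg (comap (QuotientGroup.mk' (center X))) h
      rwa [comap_map_eq, QuotientGroup.ker_mk', comap_top] at h1
  have hperf : ⁅commutator X, commutator X⁆ = commutator X := by
    refine le_antisymm (commutator_le_self _) ?_
    have h1 := CfsgLib.Comp.commutator_sup_central (A := commutator X) (Z := center X) le_rfl
    rwa [htop, ← _root_.commutator_def] at h1
  haveI : Group.IsPerfect ↥(commutator X) := Subgroup.isPerfect_iff.2 hperf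
  refine ⟨htop, ‹_›, ?_⟩
  let f : ↥(commutator X) →* X ⧸ center X := (QuotientGroup.mk' (center X)).comp (commutator X).subtype
  have hf : Function.Surjective f := by
    intro y
    obtain ⟨y, rfl⟩ := QuotientGroup.mk'_surjective _ y
    obtain ⟨z, hz, c, hc, rfl⟩ := CfsgLib.Comp.exists_mul_of_mem_sup (H := center X)
      (CfsgLib.Comp.le_normalizer_of_normal' _ _) (by rw [sup_comm, htop]; trivial : y ∈ center X ⊔ commutator X)
    refine ⟨⟨c, hc⟩, ?_⟩
    rw [map_mul, (QuotientGroup.eq_one_iff z).2 hz |> fun e => (QuotientGroup.mk'_apply _ z).trans e, one_mul]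
    rfl
  have hker : f.ker = center ↥(commutator X) := by
    ext x
    rw [MonoidHom.mem_ker, MonoidHom.comp_apply, QuotientGroup.mk'_apply, QuotientGroup.eq_one_iff]
    constructor
    · intro h
      exact mem_center_iff.2 fun y => Subtype.ext (mem_center_iff.1 h y)
    · intro h
      have hle : (⊤ : Subgroup X) ≤ centralizer {(x : X)} := by
        rw [← htop]
        refine sup_le (fun y hy => mem_centralizer_iff.2 ?_) (fun y hy => mem_centralizer_iff.2 ?_)
        · rintro _ rfl; exact (congrArg Subtype.val (mem_center_iff.1 h ⟨y, hy⟩)).symm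
        · rintro _ rfl; exact mem_center_iff.1 hy _
      rw [mem_center_iff]
      intro y
      exact (mem_centralizer_iff.1 (hle trivial : y ∈ centralizer {(x : X)}) _ rfl).symm
  exact ((QuotientGroup.quotientMulEquivOfEq hker).symm.trans
    (QuotientGroup.quotientKerEquivOfSurjective f hf)).isSimpleGroup

end Cfsg.Agent.S1258
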