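import Cfsg.Statements.S1262
import Cfsg.Agent.Lib.Comp.Components
-- import your own Cfsg.Agent.* helpers here

set_option autoImplicit false
open Cfsg

namespace Cfsg.Agent.S1262

/-- Let L be a component of the finite group G and H a solvable subgroup normalized by L. Then ⁅L, H⁆ = 1. -/
theorem result {G : Type*} [Group G] [Finite G] (L H : Subgroup G) (hL : Cfsg.IsComponent L) (hsolv : Group.IsSolvable ↥H) (hinv : L ≤ Subgroup.normalizer (H : Set G)) : ⁅L, H⁆ = ⊥ := by
  have hLN : L ≤ Subgroup.normalizer (H : Set G) := hinv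
  have hc : Cfsg.IsComponent (L.subgroupOf (Subgroup.normalizer (H : Set G))) :=
    CfsgLib.Comp.isComponent_subgroupOf hLN hL
  have hs : Group.IsSolvable ↥(H.subgroupOf (Subgroup.normalizer (H : Set G))) :=
    Group.isSolvable_of_isSolvable_injective
      (f := (Subgroup.subgroupOfEquivOfLe (Subgroup.le_normalizer (H := H))).toMonoidHom)
      (Subgroup.subgroupOfEquivOfLe (Subgroup.le_normalizer (H := H))).injective
  have hn : (H.subgroupOf (Subgroup.normalizer (H : Set G))).IsSubnormal :=
    CfsgLib.Comp.subgroupOf_isSubnormal_of_le_normalizer le_rfl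
  have h := Subgroup.commutator_eq_bot_iff_le_centralizer.2
    (CfsgLib.Comp.component_le_centralizer_of_isSolvable hc hn hs)
  have h2 := congrArg (Subgroup.map (Subgroup.normalizer (H : Set G)).subtype) h
  rwa [Subgroup.map_commutator, Subgroup.map_subgroupOf_eq_of_le hLN,
    Subgroup.map_subgroupOf_eq_of_le Subgroup.le_normalizer, Subgroup.map_bot] at h2

end Cfsg.Agent.S1262
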