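import Cfsg.Statements.S1263
import Cfsg.Agent.Lib.Comp.FStar
-- import your own Cfsg.Agent.* helpers here

set_option autoImplicit false
open Cfsg

namespace Cfsg.Agent.S1263

/-- For a finite group G, Z(E(G)) is the subgroup generated by the centres Z(L) of the components L of G (all viewed as subgroups of G). -/
theorem result {G : Type*} [Group G] [Finite G] : (Subgroup.center ↥(Cfsg.layer G)).map (Cfsg.layer G).subtype = ⨆ L : {K : Subgroup G // Cfsg.IsComponent K}, (Subgroup.center ↥(L : Subgroup G)).map (L : Subgroup G).subtype := by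
  have key : ∀ H : Subgroup G, (Subgroup.center ↥H).map H.subtype = H ⊓ Subgroup.centralizer (H : Set G) := by
    intro H
    ext x
    simp only [Subgroup.mem_map, Subgroup.mem_inf, Subgroup.mem_centralizer_iff, Subgroup.mem_center_iff]
    constructor
    · rintro ⟨y, hy, rfl⟩
      exact ⟨y.2, fun h hh => congrArg Subtype.val (hy ⟨h, hh⟩)⟩
    · rintro ⟨hx, hc⟩
      exact ⟨⟨x, hx⟩, fun h => Subtype.ext (hc h h.2), rfl⟩
  simp_rw [key]
  rw [CfsgLib.Comp.layer_inf_centralizer_layer, iSup, sSup_eq_iSup']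
  rw [← sSup_eq_iSup']
  congr 1
  ext A
  simp only [Set.mem_range, Subtype.exists, Set.mem_ofPred_eq]
  exact ⟨fun ⟨L, hL, e⟩ => ⟨L, hL, e.symm⟩, fun ⟨L, hL, e⟩ => ⟨L, hL, e.symm⟩⟩

end Cfsg.Agent.S1263
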