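import Cfsg.Statements.S1267
import Cfsg.Agent.Lib.Comp.Local
-- import your own Cfsg.Agent.* helpers here

set_option autoImplicit false
open Cfsg

namespace Cfsg.Agent.S1267

open Subgroup
open CfsgLib.Comp (centralizer_le_normalizer)

/-- Let G be finite and P ≤ O_p(G). Then E(N_G(P)) = E(G). -/
theorem result {G : Type*} [Group G] [Finite G] (p : ℕ) [Fact p.Prime] (P : Subgroup G) (hP : P ≤ Cfsg.pCore p G) : (Cfsg.layer ↥(Subgroup.normalizer ((P : Subgroup G) : Set G))).map (Subgroup.normalizer ((P : Subgroup G) : Set G)).subtype = Cfsg.layer G := by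
  set N := normalizer (P : Set G)
  have hEN : Cfsg.layer G ≤ N := by
    refine le_trans ?_ (centralizer_le_normalizer P)
    exact (CfsgLib.Comp.layer_le_centralizer_fittingSubgroup G).trans
      (centralizer_le (hP.trans (CfsgLib.Solvable.pCore_le_fittingSubgroup p)))
  have hPp : IsPGroup p P := (CfsgLib.Comp.isPGroup_pCore p G).to_le hP
  have hge : ∀ K : Subgroup G, Cfsg.IsComponent K → K ≤ (Cfsg.layer N).map N.subtype := by
    intro K hK
    have h := map_mono (f := N.subtype) (CfsgLib.Comp.le_layer
      (CfsgLib.Comp.isComponent_subgroupOf ((CfsgLib.Comp.le_layer hK).trans hEN) hK))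
    rwa [map_subgroupOf_eq_of_le ((CfsgLib.Comp.le_layer hK).trans hEN)] at h
  refine le_antisymm ?_ (sSup_le hge)
  rw [map_le_iff_le_comap]
  refine sSup_le fun L hL => map_le_iff_le_comap.1 ?_
  by_contra hnot
  have hne : ∀ K : Subgroup G, Cfsg.IsComponent K → L.map N.subtype ≤ centralizer (K : Set G) := by
    intro K hK
    have hKN : K ≤ N := (CfsgLib.Comp.le_layer hK).trans hEN
    rcases CfsgLib.Comp.component_eq_or_le_centralizer hL
      (CfsgLib.Comp.isComponent_subgroupOf hKN hK) with h | h
    · exact absurd ((map_mono h.le).trans ((map_subgroupOf_eq_of_le hKN).le.trans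
        (CfsgLib.Comp.le_layer hK))) hnot
    · have h2 := congrArg (Subgroup.map N.subtype) (commutator_eq_bot_iff_le_centralizer.2 h)
      rwa [Subgroup.map_commutator, map_subgroupOf_eq_of_le hKN, Subgroup.map_bot,
        commutator_eq_bot_iff_le_centralizer] at h2
  have hF : L.map N.subtype ≤ centralizer (Cfsg.fittingSubgroup G : Set G) := by
    refine CfsgLib.Comp.le_centralizer_fittingSubgroup fun q hq => ?_
    haveI := Fact.mk hq
    by_cases hqp : q = p
    · subst hqp
      exact (map_mono (CfsgLib.Comp.le_layer hL)).trans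
        ((CfsgLib.Comp.layer_le_localLayer N).trans (CfsgLib.Comp.localLayer_le_centralizer_pCore hPp))
    · have hqN : Cfsg.pCore q G ≤ N := by
        refine le_trans ?_ (centralizer_le_normalizer P)
        exact ((CfsgLib.Comp.pCore_le_pPrimeCore (p := p) hq hqp).trans
          (CfsgLib.Comp.pPrimeCore_le_centralizer_pCore p G)).trans (centralizer_le hP)
      haveI := Cfsg.pCore_normal q G
      have hs : Group.IsSolvable ↥((Cfsg.pCore q G).subgroupOf N) := by
        have hn := ((CfsgLib.Comp.isPGroup_pCore q G).comap_subtype (K := N)).isNilpotent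
        exact @IsNilpotent.to_isSolvable _ _ hn
      have h1 := CfsgLib.Comp.component_le_centralizer_of_isSolvable hL
        (Subgroup.Normal.isSubnormal inferInstance : ((Cfsg.pCore q G).subgroupOf N).IsSubnormal) hs
      have h2 := congrArg (Subgroup.map N.subtype) (commutator_eq_bot_iff_le_centralizer.2 h1)
      rwa [Subgroup.map_commutator, map_subgroupOf_eq_of_le hqN, Subgroup.map_bot,
        commutator_eq_bot_iff_le_centralizer] at h2
  have hle : L.map N.subtype ≤ centralizer (Cfsg.generalizedFittingSubgroup G : Set G) :=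
    CfsgLib.Comp.le_centralizer_sup (CfsgLib.Comp.le_centralizer_sSup hne) hF
  haveI := CfsgLib.Comp.isNilpotent_fittingSubgroup G
  refine CfsgLib.Comp.not_isSolvable_of_isQuasisimple hL.2 ?_
  have h3 := hle.trans (CfsgLib.Comp.centralizer_generalizedFitting_le_fitting G)
  exact Group.isSolvable_of_isSolvable_injective
    (f := (inclusion h3).comp (L.equivMapOfInjective _ N.subtype_injective).toMonoidHom)
    ((inclusion_injective h3).comp (L.equivMapOfInjective _ N.subtype_injective).injective)

end Cfsg.Agent.S1267
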