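import Cfsg.Statements.S1270
import Cfsg.Agent.Lib.Comp.Balance
-- import your own Cfsg.Agent.* helpers here

set_option autoImplicit false
open Cfsg

namespace Cfsg.Agent.S1270

open scoped commutatorElement

/-- Let G be finite with O_{p'}(G) = 1, x of order p, and L a component with ⁅L, ⟨x⟩⁆ ≠ L. Then ⁅L, O_{p'}(C_G(x))⁆ = 1. -/
theorem result {G : Type*} [Group G] [Finite G] (p : ℕ) [Fact p.Prime] (hO : Cfsg.pPrimeCore p G = ⊥) (x : G) (hx : orderOf x = p) (L : Subgroup G) (hL : Cfsg.IsComponent L) (hne : ⁅L, Subgroup.zpowers x⁆ ≠ L) : ⁅L, Cfsg.centralizerPPrimeCore p x⁆ = ⊥ := by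
  have hxp : IsPGroup p (Subgroup.zpowers x) :=
    CfsgLib.Comp.isPGroup_zpowers_of_orderOf (k := 1) (by rw [pow_one, hx])
  rw [Subgroup.commutator_eq_bot_iff_le_centralizer, Subgroup.le_centralizer_iff]
  by_cases hxL : x ∈ Subgroup.normalizer (L : Set G)
  swap
  · exact CfsgLib.Comp.centralizerPPrimeCore_le_centralizer_of_moved hxp hO hx hL hxL
  refine CfsgLib.Comp.centralizerPPrimeCore_le_centralizer_of_le hO x hL fun l hl => ?_
  set U := ⁅L, Subgroup.zpowers x⁆ with hU
  have hZN : Subgroup.zpowers x ≤ Subgroup.normalizer (L : Set G) := Subgroup.zpowers_le.2 hxL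
  have hUL : U ≤ L := CfsgLib.Comp.commutator_le_of_le_normalizer hZN
  haveI : (U.subgroupOf L).Normal :=
    Subgroup.normal_subgroupOf_of_le_normalizer (Subgroup.normalizer_commutator_ge_left _ _)
  have hcen : U.subgroupOf L ≤ Subgroup.center L := by
    refine (CfsgLib.Comp.normal_eq_top_or_le_center hL.2 _).resolve_left fun htop => ?_
    exact hne (le_antisymm hUL (Subgroup.subgroupOf_eq_top.1 htop))
  have hc : x ∈ Subgroup.centralizer (L : Set G) := by
    refine CfsgLib.Comp.mem_centralizer_component hL.2 hxL fun y hy => ?_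
    have h1 : ⁅x, y⁆ ∈ U := by
      rw [← commutatorElement_inv]
      exact inv_mem (Subgroup.commutator_mem_commutator hy (Subgroup.mem_zpowers x))
    exact Subgroup.mem_centralizer_iff.2 fun z hz => congrArg Subtype.val
      (Subgroup.mem_center_iff.1 (hcen (x := ⟨_, hUL h1⟩) h1) ⟨z, hz⟩)
  exact Subgroup.mem_centralizer_singleton_iff.2 (Subgroup.mem_centralizer_iff.1 hc l hl)

end Cfsg.Agent.S1270
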