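import Cfsg.Statements.S1273
import Cfsg.Agent.Lib.Comp.PComponent
-- import your own Cfsg.Agent.* helpers here

set_option autoImplicit false
open Cfsg

namespace Cfsg.Agent.S1273

open Subgroup

/-- Let K be a p-component of the finite group X and N a normal subgroup of K whose index in K is prime to p. Then N = K. -/
theorem result {X : Type*} [Group X] [Finite X] (p : ℕ) [Fact p.Prime] (K : Subgroup X) (hK : Cfsg.IsPComponent p K) (N : Subgroup ↥K) [N.Normal] (hidx : (N.index).Coprime p) : N = ⊤ := by
  set q := (CfsgLib.Comp.toModCore p X).comp K.subtype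
  have hNs : (N.map K.subtype).IsSubnormal := CfsgLib.Comp.isSubnormal_map_of_normal hK.1 N
  have hle : N.map K.subtype ≤ K := map_subtype_le N
  have himg : (N.map K.subtype).map (CfsgLib.Comp.toModCore p X) = K.map (CfsgLib.Comp.toModCore p X) := by
    refine CfsgLib.Comp.eq_of_isSubnormal_of_not_dvd_relIndex
      (CfsgLib.Comp.pPrimeCore_quotient_eq_bot p X) hK.2.1 (map_mono hle)
      ((hNs.map CfsgLib.Comp.toModCore_surjective).subgroupOf) fun hd => ?_
    have h1 : ((N.map K.subtype).map (CfsgLib.Comp.toModCore p X)).relIndex
        (K.map (CfsgLib.Comp.toModCore p X)) ∣ (N.map K.subtype).relIndex K := by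
      rw [← relIndex_comap]
      exact relIndex_dvd_of_le_left K (le_comap_map _ _)
    have h2 : (N.map K.subtype).relIndex K = N.index := by
      rw [relIndex, subgroupOf, comap_map_eq_self_of_injective K.subtype_injective]
    exact (Nat.Prime.coprime_iff_not_dvd (Fact.out : p.Prime)).1 hidx.symm (hd.trans (h1.trans h2.dvd))
  have h := hK.2.2 _ hNs hle himg
  apply map_injective K.subtype_injective
  rw [h, ← MonoidHom.range_eq_map, range_subtype]

end Cfsg.Agent.S1273
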