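import Cfsg.Statements.S1276
import Cfsg.Agent.Lib.Comp.PComponent
-- import your own Cfsg.Agent.* helpers here

set_option autoImplicit false
open Cfsg

namespace Cfsg.Agent.S1276

open Subgroup

/-- Let K be a 2-component of the finite group X. Then K is quasisimple if and only if ⁅K, O(K)⁆ = 1. -/
theorem result {X : Type*} [Group X] [Finite X] (K : Subgroup X) (hK : Cfsg.IsPComponent 2 K) : Cfsg.IsQuasisimple ↥K ↔ ⁅K, ((Cfsg.oddCore ↥K).map K.subtype)⁆ = ⊥ := by
  haveI : Fact (Nat.Prime 2) := ⟨Nat.prime_two⟩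
  haveI := Cfsg.pPrimeCore_normal 2 ↥K
  have key : ⁅K, (Cfsg.oddCore ↥K).map K.subtype⁆ = ⊥ ↔ Cfsg.oddCore ↥K ≤ center ↥K := by
    rw [commutator_eq_bot_iff_le_centralizer]
    constructor
    · intro h x hx
      exact mem_center_iff.2 fun y =>
        Subtype.ext (mem_centralizer_iff.1 (h y.2) x (mem_map_of_mem _ hx)).symm
    · intro h y hy
      rw [mem_centralizer_iff]
      rintro _ ⟨x, hx, rfl⟩
      exact (congrArg Subtype.val (mem_center_iff.1 (h hx) ⟨y, hy⟩)).symm
  rw [key]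
  haveI : Group.IsPerfect ↥K := Subgroup.isPerfect_iff.2 (CfsgLib.Comp.commutator_self_of_isPComponent hK)
  refine ⟨fun h => ?_, fun h => CfsgLib.Comp.isQuasisimple_of_central_extension h
    (CfsgLib.Comp.isQuasisimple_quotient_core hK)⟩
  refine (CfsgLib.Comp.normal_eq_top_or_le_center h _).resolve_left fun e => ?_
  have h2 := CfsgLib.Comp.coprime_card_pPrimeCore 2 ↥K
  change Cfsg.pPrimeCore 2 ↥K = ⊤ at e
  rw [e, card_top] at h2
  exact (Nat.Prime.coprime_iff_not_dvd Nat.prime_two).1 h2.symm (CfsgLib.Comp.dvd_card_of_isPComponent hK)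

end Cfsg.Agent.S1276
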