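import Cfsg.Statements.S1277
import Cfsg.Agent.Lib.Comp.PComponent
import Cfsg.Agent.Lib.Comp.Local
-- import your own Cfsg.Agent.* helpers here

set_option autoImplicit false
open Cfsg

namespace Cfsg.Agent.S1277

open Subgroup

/-- For a finite group X with core O(X): the image of E(X) in X / O(X) is all of E(X / O(X)) if and only if every 2-component of X is a component, i.e. L_{2'}(X) ≤ E(X). -/
theorem result {X : Type*} [Group X] [Finite X] : (Cfsg.layer X).map (QuotientGroup.mk' (Cfsg.oddCore X)) = Cfsg.layer (X ⧸ Cfsg.oddCore X) ↔ Cfsg.pLayer 2 X ≤ Cfsg.layer X := by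
  haveI : Fact (Nat.Prime 2) := ⟨Nat.prime_two⟩
  constructor
  · intro h
    refine sSup_le fun K hK => ?_
    by_contra hnot
    have hle : (K.map (CfsgLib.Comp.toModCore 2 X)) ≤ centralizer ((K.map (CfsgLib.Comp.toModCore 2 X) : Subgroup _) : Set _) := by
      have h1 : Cfsg.layer (X ⧸ Cfsg.oddCore X) ≤ centralizer ((K.map (CfsgLib.Comp.toModCore 2 X) : Subgroup _) : Set _) := by
        rw [← h, map_le_iff_le_comap]
        refine sSup_le fun L hL => map_le_iff_le_comap.1 ?_
        by_cases hLO : L ≤ Cfsg.pPrimeCore 2 X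
        · have : L.map (QuotientGroup.mk' (Cfsg.oddCore X)) = ⊥ := by
            rw [Subgroup.map_eq_bot_iff, QuotientGroup.ker_mk']; exact hLO
          rw [this]; exact bot_le
        · have hLp := CfsgLib.Comp.isPComponent_of_isComponent hL hLO
          refine (CfsgLib.Comp.component_eq_or_le_centralizer hLp.2.1 hK.2.1).resolve_left fun e => ?_
          exact hnot ((CfsgLib.Comp.isPComponent_ext hLp hK e) ▸ CfsgLib.Comp.le_layer hL)
      exact (CfsgLib.Comp.le_layer hK.2.1).trans h1
    exact CfsgLib.Comp.not_le_center_of_isQuasisimple hK.2.1.2 hle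
  · intro h
    refine le_antisymm (CfsgLib.Comp.layer_map_le_layer _ (QuotientGroup.mk'_surjective _)) ?_
    rw [← CfsgLib.Comp.pLayer_map]
    exact map_mono h

end Cfsg.Agent.S1277
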