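import Cfsg.Statements.S1278
import Cfsg.Agent.Lib.Comp.PComponent
-- import your own Cfsg.Agent.* helpers here

set_option autoImplicit false
open Cfsg

namespace Cfsg.Agent.S1278

open Subgroup

/-- Let K ≠ L be 2-components of the finite group X. Then ⁅K, L⁆ ≤ O(K) ⊓ O(L), and if K is quasisimple then ⁅K, L⁆ = 1. -/
theorem result {X : Type*} [Group X] [Finite X] (K L : Subgroup X) (hK : Cfsg.IsPComponent 2 K) (hL : Cfsg.IsPComponent 2 L) (hne : K ≠ L) : ⁅K, L⁆ ≤ ((Cfsg.oddCore ↥K).map K.subtype) ⊓ ((Cfsg.oddCore ↥L).map L.subtype) ∧ (Cfsg.IsQuasisimple ↥K → ⁅K, L⁆ = ⊥) := by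
  haveI : Fact (Nat.Prime 2) := ⟨Nat.prime_two⟩
  have hnK : L ≤ normalizer (K : Set X) :=
    (le_sSup hL : L ≤ Cfsg.pLayer 2 X).trans (CfsgLib.Comp.pLayer_le_normalizer hK)
  have hnL : K ≤ normalizer (L : Set X) :=
    (le_sSup hK : K ≤ Cfsg.pLayer 2 X).trans (CfsgLib.Comp.pLayer_le_normalizer hL)
  have hne' : K.map (CfsgLib.Comp.toModCore 2 X) ≠ L.map (CfsgLib.Comp.toModCore 2 X) :=
    fun e => hne (CfsgLib.Comp.isPComponent_ext hK hL e)
  have hO : ⁅K, L⁆ ≤ Cfsg.pPrimeCore 2 X := by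
    have h1 := CfsgLib.Comp.component_commutator_eq_bot hK.2.1 hL.2.1 hne'
    rw [← Subgroup.map_commutator, Subgroup.map_eq_bot_iff, CfsgLib.Comp.ker_toModCore] at h1
    exact h1
  have hKL := CfsgLib.Comp.commutator_le_inf_of_le_normalizer hnK hnL
  have hboth : ⁅K, L⁆ ≤ (Cfsg.oddCore ↥K).map K.subtype ⊓ (Cfsg.oddCore ↥L).map L.subtype := by
    change _ ≤ (Cfsg.pPrimeCore 2 ↥K).map K.subtype ⊓ (Cfsg.pPrimeCore 2 ↥L).map L.subtype
    rw [CfsgLib.Comp.pPrimeCore_map_subtype hK.1, CfsgLib.Comp.pPrimeCore_map_subtype hL.1]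
    exact le_inf (le_inf hO (hKL.trans inf_le_left)) (le_inf hO (hKL.trans inf_le_right))
  refine ⟨hboth, fun hq => ?_⟩
  have hc : ⁅⁅L, K⁆, K⁆ = ⊥ := by
    rw [commutator_comm L K, commutator_eq_bot_iff_le_centralizer]
    haveI := Cfsg.pPrimeCore_normal 2 ↥K
    have hcen : Cfsg.pPrimeCore 2 ↥K ≤ center ↥K := by
      refine (CfsgLib.Comp.normal_eq_top_or_le_center hq _).resolve_left fun e => ?_
      have h2 := CfsgLib.Comp.coprime_card_pPrimeCore 2 ↥K
      rw [e, card_top] at h2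
      exact (Nat.Prime.coprime_iff_not_dvd Nat.prime_two).1 h2.symm
        (CfsgLib.Comp.dvd_card_of_isPComponent hK)
    refine (hboth.trans inf_le_left).trans ?_
    rintro _ ⟨x, hx, rfl⟩
    rw [mem_centralizer_iff]
    intro y hy
    exact congrArg Subtype.val (mem_center_iff.1 (hcen hx) ⟨y, hy⟩)
  rw [commutator_comm]
  exact CfsgLib.Comp.commutator_eq_bot_of_perfect (CfsgLib.Comp.commutator_self_of_isPComponent hK) hc

end Cfsg.Agent.S1278
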