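import Cfsg.Statements.S1286
-- import your own Cfsg.Agent.* helpers here

set_option autoImplicit false
open Cfsg

namespace Cfsg.Agent.S1286

open Subgroup

abbrev X : Type := Equiv.Perm (Fin 5)

def a : X := Equiv.swap 0 1
def b : X := Equiv.swap 2 3
/-- A 3-cycle centralizing `a`. -/
def u : X := Equiv.swap 2 3 * Equiv.swap 3 4
/-- A 3-cycle centralizing `b`. -/
def v : X := Equiv.swap 0 1 * Equiv.swap 1 4

def A : Subgroup X where
  carrier := {x | x = 1 ∨ x = a ∨ x = b ∨ x = a * b}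
  one_mem' := Or.inl rfl
  mul_mem' := by
    rintro x y (rfl | rfl | rfl | rfl) (rfl | rfl | rfl | rfl) <;>
      simp only [Set.mem_ofPred_eq] <;> decide
  inv_mem' := by
    rintro x (rfl | rfl | rfl | rfl) <;> simp only [Set.mem_ofPred_eq] <;> decide

theorem mem_A {x : X} : x ∈ A ↔ x = 1 ∨ x = a ∨ x = b ∨ x = a * b := Iff.rfl

theorem a_mem : a ∈ A := Or.inr (Or.inl rfl)
theorem b_mem : b ∈ A := Or.inr (Or.inr (Or.inl rfl))

noncomputable def θ (x : X) : Subgroup X :=
  if x = a then zpowers u else if x = b then zpowers v else ⊥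

theorem mem_pow {g x : X} (h : orderOf g = 3) (hx : x ∈ zpowers g) :
    x = 1 ∨ x = g ∨ x = g * g := by
  rw [← mem_powers_iff_mem_zpowers] at hx
  obtain ⟨n, rfl⟩ := hx
  dsimp only
  rw [← pow_mod_orderOf, h]
  have : n % 3 = 0 ∨ n % 3 = 1 ∨ n % 3 = 2 := by omega
  rcases this with e | e | e <;> rw [e] <;> simp [pow_two]

theorem orderOf_u : orderOf u = 3 :=
  haveI : Fact (Nat.Prime 3) := ⟨Nat.prime_three⟩
  orderOf_eq_prime (by decide) (by decide)

theorem orderOf_v : orderOf v = 3 :=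
  haveI : Fact (Nat.Prime 3) := ⟨Nat.prime_three⟩
  orderOf_eq_prime (by decide) (by decide)

theorem theta_a : θ a = zpowers u := if_pos rfl
theorem theta_b : θ b = zpowers v := by
  rw [θ, if_neg (show ¬ b = a by decide), if_pos rfl]
theorem theta_ab : θ (a * b) = ⊥ := by
  rw [θ, if_neg (show ¬ a * b = a by decide), if_neg (show ¬ a * b = b by decide)]

theorem hA : Cfsg.IsElementaryAbelian 2 A := by
  refine ⟨⟨⟨fun ⟨x, hx⟩ ⟨y, hy⟩ => Subtype.ext ?_⟩⟩, fun x hx => ?_⟩
  · change x * y = y * x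
    rcases hx with rfl | rfl | rfl | rfl <;> rcases hy with rfl | rfl | rfl | rfl <;> decide
  · rcases hx with rfl | rfl | rfl | rfl <;> decide

theorem hcard : Nat.card ↥A = 4 := by
  have h : (A : Set X) = ({1, a, b, a * b} : Finset X) := by
    ext x; simp [mem_A]
  rw [← SetLike.coe_sort_coe, h]
  simp only [Nat.card_eq_finsetCard, Finset.coe_sort_coe]
  decide

theorem conj_zpowers {g : X} {n : X} (h : n * g * n⁻¹ ∈ zpowers g) {x : X} (hx : x ∈ zpowers g) :
    n * x * n⁻¹ ∈ zpowers g := by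
  obtain ⟨k, rfl⟩ := hx
  dsimp only
  rw [← conj_zpow]
  exact zpow_mem h k

theorem hc : ∀ x ∈ A, x ≠ 1 → θ x ≤ centralizer {x} := by
  intro x hx hx1
  rcases hx with rfl | rfl | rfl | rfl
  · exact absurd rfl hx1
  · rw [theta_a, zpowers_le, mem_centralizer_singleton_iff]; decide
  · rw [theta_b, zpowers_le, mem_centralizer_singleton_iff]; decide
  · rw [theta_ab]; exact bot_le

theorem hp' : ∀ x ∈ A, x ≠ 1 → ¬ 2 ∣ Nat.card (θ x) := by
  intro x hx hx1
  rcases hx with rfl | rfl | rfl | rfl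
  · exact absurd rfl hx1
  · rw [theta_a, Nat.card_zpowers, orderOf_u]; decide
  · rw [theta_b, Nat.card_zpowers, orderOf_v]; decide
  · rw [theta_ab, card_bot]; decide

theorem hinv : ∀ x ∈ A, x ≠ 1 → ∀ y ∈ A, ∀ z ∈ θ x, y * z * y⁻¹ ∈ θ x := by
  intro x hx hx1 y hy z hz
  have hu : ∀ y ∈ A, y * u * y⁻¹ = u ∨ y * u * y⁻¹ = u * u := by
    intro y hy
    rcases hy with rfl | rfl | rfl | rfl <;> decide
  have hv : ∀ y ∈ A, y * v * y⁻¹ = v ∨ y * v * y⁻¹ = v * v := by
    intro y hy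
    rcases hy with rfl | rfl | rfl | rfl <;> decide
  rcases hx with rfl | rfl | rfl | rfl
  · exact absurd rfl hx1
  · rw [theta_a] at hz ⊢
    refine conj_zpowers ?_ hz
    rcases hu y hy with e | e <;> rw [e]
    · exact mem_zpowers u
    · exact mul_mem (mem_zpowers u) (mem_zpowers u)
  · rw [theta_b] at hz ⊢
    refine conj_zpowers ?_ hz
    rcases hv y hy with e | e <;> rw [e]
    · exact mem_zpowers v
    · exact mul_mem (mem_zpowers v) (mem_zpowers v)
  · rw [theta_ab, mem_bot] at hz ⊢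
    rw [hz]; group

theorem hbal : ∀ x ∈ A, x ≠ 1 → ∀ y ∈ A, y ≠ 1 → θ x ⊓ centralizer {y} ≤ θ y := by
  intro x hx hx1 y hy hy1
  by_cases hxy : x = y
  · rw [hxy]; exact inf_le_left
  intro z hz'
  obtain ⟨hz, hzy⟩ := mem_inf.1 hz'
  rw [mem_centralizer_singleton_iff] at hzy
  suffices z = 1 by rw [this]; exact one_mem _
  rcases hx with rfl | rfl | rfl | rfl
  · exact absurd rfl hx1
  · rw [theta_a] at hz
    rcases hy with rfl | rfl | rfl | rfl <;> first
      | exact absurd rfl hy1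
      | exact absurd rfl hxy
      | (rcases mem_pow orderOf_u hz with rfl | rfl | rfl <;> first | rfl | (revert hzy; decide))
  · rw [theta_b] at hz
    rcases hy with rfl | rfl | rfl | rfl <;> first
      | exact absurd rfl hy1
      | exact absurd rfl hxy
      | (rcases mem_pow orderOf_v hz with rfl | rfl | rfl <;> first | rfl | (revert hzy; decide))
  · rw [theta_ab] at hz
    exact hz

theorem hsolv : ∀ x ∈ A, x ≠ 1 → Group.IsSolvable (θ x) := by
  intro x hx hx1
  rcases hx with rfl | rfl | rfl | rfl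
  · exact absurd rfl hx1
  · rw [theta_a]; exact Group.isSolvable_of_comm fun p q => mul_comm' p q
  · rw [theta_b]; exact Group.isSolvable_of_comm fun p q => mul_comm' p q
  · rw [theta_ab]; infer_instance

theorem hnot : ¬ Cfsg.IsCompleteSignalizerFunctor 2 A θ := by
  rintro ⟨-, W, -, hW2, hW⟩
  have hu : u ∈ W := (hW a a_mem (by decide)).ge (theta_a ▸ mem_zpowers u) |>.1
  have hv : v ∈ W := (hW b b_mem (by decide)).ge (theta_b ▸ mem_zpowers v) |>.1
  refine hW2 ?_
  haveI : Fact (Nat.Prime 2) := ⟨Nat.prime_two⟩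
  obtain ⟨w, hw, hw2, hw1⟩ : ∃ w : X, w ∈ W ∧ w ^ 2 = 1 ∧ w ≠ 1 := witness hu hv
  have ho : orderOf w = 2 := orderOf_eq_prime hw2 hw1
  rw [← ho]
  have h := orderOf_dvd_natCard (⟨w, hw⟩ : W)
  rwa [← orderOf_coe] at h
where
  witness {W : Subgroup X} (hu : u ∈ W) (hv : v ∈ W) : ∃ w : X, w ∈ W ∧ w ^ 2 = 1 ∧ w ≠ 1 :=
    ⟨u * u * v * u * v, mul_mem (mul_mem (mul_mem (mul_mem hu hu) hv) hu) hv, by decide, by decide⟩

/-- There exist a finite group X, an elementary abelian subgroup A of order 4 and a solvable A-signalizer functor θ on X for the prime 2 which is not complete. -/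
theorem result : ∃ (X : Type) (_ : Group X) (_ : Finite X) (A : Subgroup X) (θ : X → Subgroup X), Cfsg.IsElementaryAbelian 2 A ∧ Nat.card ↥A = 4 ∧ Cfsg.IsSolvableSignalizerFunctor 2 A θ ∧ ¬ Cfsg.IsCompleteSignalizerFunctor 2 A θ := by
  refine ⟨X, inferInstance, inferInstance, A, θ, hA, hcard, ⟨⟨hc, hp', hinv, hbal⟩, hsolv⟩, hnot⟩

end Cfsg.Agent.S1286
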