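import Cfsg.Statements.S1287
import Cfsg.Agent.Lib.Comp.OrderFormula
import Cfsg.Agent.Lib.Comp.Signalizer
import Mathlib.GroupTheory.Sylow

set_option autoImplicit false
open scoped Pointwise
open Cfsg

namespace Cfsg.Agent.S1287

theorem card_mul_card_inf {G : Type*} [Group G] [Finite G] (X Y : Subgroup G) :
    Nat.card ↥((X : Set G) * (Y : Set G)) * Nat.card ↥(X ⊓ Y : Subgroup G)
      = Nat.card ↥X * Nat.card ↥Y := by
  have h : ∀ g : ↥((X : Set G) * (Y : Set G)), ∃ x : ↥X, ∃ y : ↥Y, (x : G) * y = g := by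
    rintro ⟨g, x, hx, y, hy, rfl⟩
    exact ⟨⟨x, hx⟩, ⟨y, hy⟩, rfl⟩
  choose xs ys hs using h
  rw [← Nat.card_prod, ← Nat.card_prod]
  refine Nat.card_eq_of_bijective (fun q => (⟨(xs q.1 : G) * q.2, mul_mem (xs q.1).2 (Subgroup.mem_inf.1 q.2.2).1⟩,
    ⟨(q.2 : G)⁻¹ * ys q.1, mul_mem (inv_mem (Subgroup.mem_inf.1 q.2.2).2) (ys q.1).2⟩)) ⟨?_, ?_⟩
  · rintro ⟨g, n⟩ ⟨g', n'⟩ h
    have h1 : (xs g : G) * n = xs g' * n' := congrArg (fun q : ↥X × ↥Y => (q.1 : G)) h
    have h2 : (n : G)⁻¹ * ys g = (n' : G)⁻¹ * ys g' := congrArg (fun q : ↥X × ↥Y => (q.2 : G)) h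
    have hg : g = g' := by
      apply Subtype.ext
      rw [← hs g, ← hs g']
      calc (xs g : G) * ys g = (xs g * n) * ((n : G)⁻¹ * ys g) := by group
        _ = (xs g' * n') * ((n' : G)⁻¹ * ys g') := by rw [h1, h2]
        _ = xs g' * ys g' := by group
    subst hg
    exact Prod.ext rfl (Subtype.ext (mul_left_cancel h1))
  · rintro ⟨⟨x, hx⟩, ⟨y, hy⟩⟩
    let g : ↥((X : Set G) * (Y : Set G)) := ⟨x * y, x, hx, y, hy, rfl⟩
    have e : (xs g : G)⁻¹ * x = ys g * y⁻¹ := by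
      have := hs g
      calc (xs g : G)⁻¹ * x = (xs g : G)⁻¹ * (x * y) * y⁻¹ := by group
        _ = ys g * y⁻¹ := by rw [show x * y = (xs g : G) * ys g from (hs g).symm]; group
    refine ⟨(g, ⟨(xs g : G)⁻¹ * x, Subgroup.mem_inf.2 ⟨mul_mem (inv_mem (xs g).2) hx,
      e ▸ mul_mem (ys g).2 (inv_mem hy)⟩⟩), Prod.ext (Subtype.ext ?_) (Subtype.ext ?_)⟩
    · exact mul_inv_cancel_left _ _
    · show ((xs g : G)⁻¹ * x)⁻¹ * ys g = y
      rw [e]; group


/-- Let A be a noncyclic elementary abelian p-subgroup of a finite group H normalizing a subgroup K of order prime to p, and X, Y ≤ K subgroups normalized by A with C_K(a) = C_X(a) C_Y(a) (as sets) for every non-identity a ∈ A, where X is also normalized by C_K(A). Then K = XY as sets. -/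
theorem result {H : Type*} [Group H] [Finite H] (p : ℕ) [Fact p.Prime] (A K X Y : Subgroup H) (hA : Cfsg.IsElementaryAbelian p A) (hA2 : p ^ 2 ≤ Nat.card ↥A) (hK : ¬ p ∣ Nat.card ↥K) (hAK : A ≤ Subgroup.normalizer (K : Set H)) (hX : X ≤ K) (hY : Y ≤ K) (hAX : A ≤ Subgroup.normalizer (X : Set H)) (hAY : A ≤ Subgroup.normalizer (Y : Set H)) (hCX : K ⊓ Subgroup.centralizer (A : Set H) ≤ Subgroup.normalizer (X : Set H)) (hfac : ∀ a ∈ A, a ≠ 1 → ((K ⊓ Subgroup.centralizer {a} : Subgroup H) : Set H) = ((X ⊓ Subgroup.centralizer {a} : Subgroup H) : Set H) * ((Y ⊓ Subgroup.centralizer {a} : Subgroup H) : Set H)) : (K : Set H) = (X : Set H) * (Y : Set H) := by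
  classical
  have hp : p.Prime := Fact.out
  obtain ⟨n, hn⟩ := IsPGroup.iff_card.1 (CfsgLib.Comp.isPGroup_of_elemAb hA)
  have h2n : 2 ≤ n := (Nat.pow_le_pow_iff_right hp.one_lt).1 (hn ▸ hA2)
  obtain ⟨E', hE'⟩ := Sylow.exists_subgroup_card_pow_prime (G := ↥A) p (n := 2)
    (hn ▸ pow_dvd_pow p h2n)
  letI : CommGroup ↥E' :=
    { (inferInstance : Group ↥E') with
      mul_comm := fun a b => Subtype.ext (hA.1.is_comm.comm a.1 b.1) }
  have hexp : ∀ x : ↥E', x ^ p = 1 := fun x =>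
    Subtype.ext (Subtype.ext (by simpa using hA.2 _ x.1.2))
  let e : ↥E' →* H := A.subtype.comp E'.subtype
  have heA : e.range ≤ A := by rintro _ ⟨x, rfl⟩; exact x.1.2
  have := Fintype.ofFinite (CfsgLib.Comp.Lines p ↥E')
  let I : Subgroup H := X ⊓ Y
  have hAI : A ≤ Subgroup.normalizer (I : Set H) := fun a ha =>
    Subgroup.mem_normalizer_iff.2 fun h =>
      and_congr (Subgroup.mem_normalizer_iff.1 (hAX ha) h) (Subgroup.mem_normalizer_iff.1 (hAY ha) h)
  have hp' : ∀ {S : Subgroup H}, S ≤ K → ¬ p ∣ Nat.card ↥S := fun hS h =>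
    hK (h.trans (Subgroup.card_dvd_of_le hS))
  have loc : ∀ D : Subgroup ↥E', D ≠ ⊥ →
      Nat.card ↥(K ⊓ Subgroup.centralizer ((D.map e : Subgroup H) : Set H))
        * Nat.card ↥(I ⊓ Subgroup.centralizer ((D.map e : Subgroup H) : Set H))
      = Nat.card ↥(X ⊓ Subgroup.centralizer ((D.map e : Subgroup H) : Set H))
        * Nat.card ↥(Y ⊓ Subgroup.centralizer ((D.map e : Subgroup H) : Set H)) := by
    intro D hD
    set C := Subgroup.centralizer ((D.map e : Subgroup H) : Set H) with hC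
    rw [← card_mul_card_inf (X ⊓ C) (Y ⊓ C), ← inf_inf_distrib_right]
    congr 1
    refine Nat.card_congr (Equiv.setCongr (s := ((K ⊓ C : Subgroup H) : Set H)) ?_)
    refine Set.Subset.antisymm (fun g hg => ?_) ?_
    · obtain ⟨d, hd, hd1⟩ := CfsgLib.Comp.exists_mem_ne_one hD
      have hdA : e d ∈ A := heA ⟨d, rfl⟩
      have hd1' : e d ≠ 1 := fun h => hd1 (Subtype.ext (Subtype.ext h))
      have hgd : g ∈ ((K ⊓ Subgroup.centralizer {e d} : Subgroup H) : Set H) :=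
        ⟨hg.1, Subgroup.centralizer_le (Set.singleton_subset_iff.2 (Subgroup.mem_map_of_mem e hd)) hg.2⟩
      rw [hfac _ hdA hd1'] at hgd
      obtain ⟨x, hx, y, hy, rfl⟩ := hgd
      have hDA : D.map e ≤ A := (Subgroup.map_le_range e D).trans heA
      obtain ⟨x', hx', y', hy', he⟩ := CfsgLib.Coprime.exists_mul_centralizer
        (A := D.map e) (G := K) (hDA.trans hAK)
        (CfsgLib.Comp.coprime_card_elemAb (CfsgLib.Comp.elemAb_mono hA hDA) hK)
        (Or.inl (CfsgLib.Comp.isSolvable_elemAb (CfsgLib.Comp.elemAb_mono hA hDA))) hX hY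
        (hDA.trans hAX) (hDA.trans hAY) hx.1 hy.1 hg.2
      exact ⟨x', hx', y', hy', he⟩
    · rintro _ ⟨x, hx, y, hy, rfl⟩
      exact ⟨mul_mem (hX hx.1) (hY hy.1), mul_mem hx.2 hy.2⟩
  have hE2 : Nat.card ↥E' = p ^ 2 := hE'
  have fK := CfsgLib.Comp.card_formula hexp hE2 e hK (heA.trans hAK)
  have fI := CfsgLib.Comp.card_formula hexp hE2 e (hp' (inf_le_left.trans hX : I ≤ K)) (heA.trans hAI)
  have fX := CfsgLib.Comp.card_formula hexp hE2 e (hp' hX) (heA.trans hAX)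
  have fY := CfsgLib.Comp.card_formula hexp hE2 e (hp' hY) (heA.trans hAY)
  have htop : (⊤ : Subgroup ↥E') ≠ ⊥ := fun h => by
    have h1 : Nat.card ↥(⊤ : Subgroup ↥E') = p ^ 2 := Subgroup.card_top.trans hE2
    rw [h, Subgroup.card_bot] at h1
    exact (Nat.one_lt_pow (by norm_num) hp.one_lt).ne h1
  have hprod := congrArg₂ (· * ·) fK fI
  simp only [← Finset.prod_mul_distrib] at hprod
  rw [Finset.prod_congr rfl fun (D : CfsgLib.Comp.Lines p ↥E') _ =>
      loc D.1 fun h => by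
        have := D.2
        rw [h, Subgroup.card_bot] at this
        exact hp.one_lt.ne this,
    Finset.prod_mul_distrib, ← fX, ← fY, mul_mul_mul_comm, ← mul_pow, loc ⊤ htop,
    mul_mul_mul_comm (Nat.card ↥X), ← mul_pow] at hprod
  have hKI := Nat.eq_of_mul_eq_mul_right (pow_pos (Nat.mul_pos Nat.card_pos Nat.card_pos) p) hprod
  rw [← card_mul_card_inf X Y] at hKI
  have hc := Nat.eq_of_mul_eq_mul_right Nat.card_pos hKI
  refine (Set.eq_of_subset_of_ncard_le ?_ ?_ (Set.toFinite _)).symm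
  · rintro _ ⟨x, hx, y, hy, rfl⟩
    exact mul_mem (hX hx) (hY hy)
  · rw [← Nat.card_coe_set_eq, ← Nat.card_coe_set_eq]
    exact hc.le

end Cfsg.Agent.S1287
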