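import Cfsg.Statements.S1289
import Cfsg.Agent.Lib.Comp.PComponent
-- import your own Cfsg.Agent.* helpers here

set_option autoImplicit false
open Cfsg

namespace Cfsg.Agent.S1289

open Subgroup

/-- A p-component K of the finite group X is subnormal, perfect, of order divisible by p, and minimal among the subnormal perfect subgroups of X of order divisible by p. -/
theorem result {X : Type*} [Group X] [Finite X] (p : ℕ) [Fact p.Prime] (K : Subgroup X) (hK : Cfsg.IsPComponent p K) : K.IsSubnormal ∧ ⁅K, K⁆ = K ∧ p ∣ Nat.card ↥K ∧ ∀ H : Subgroup X, H ≤ K → H.IsSubnormal → ⁅H, H⁆ = H → p ∣ Nat.card ↥H → H = K := by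
  refine ⟨hK.1, CfsgLib.Comp.commutator_self_of_isPComponent hK,
    CfsgLib.Comp.dvd_card_of_isPComponent hK, fun H hle hH hperf hd => ?_⟩
  refine hK.2.2 H hH hle ?_
  rcases CfsgLib.Comp.eq_or_le_centralizer_of_subnormal hK.2.1.2 (map_mono hle)
    ((hH.map CfsgLib.Comp.toModCore_surjective).subgroupOf) with h | h
  · exact h
  · exfalso
    have h1 : H.map (CfsgLib.Comp.toModCore p X) = ⊥ := by
      apply le_bot_iff.1
      calc H.map (CfsgLib.Comp.toModCore p X)
          = ⁅H.map (CfsgLib.Comp.toModCore p X), H.map (CfsgLib.Comp.toModCore p X)⁆ := by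
            rw [← Subgroup.map_commutator, hperf]
        _ ≤ ⁅H.map (CfsgLib.Comp.toModCore p X), K.map (CfsgLib.Comp.toModCore p X)⁆ :=
            commutator_mono le_rfl (map_mono hle)
        _ = ⊥ := commutator_eq_bot_iff_le_centralizer.2 h
    rw [Subgroup.map_eq_bot_iff, CfsgLib.Comp.ker_toModCore] at h1
    exact CfsgLib.Comp.not_dvd_card_pPrimeCore p X (hd.trans (card_dvd_of_le h1))

end Cfsg.Agent.S1289
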