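import Cfsg.Statements.S1292
import Cfsg.Agent.Lib.Comp.PConstrained
-- import your own Cfsg.Agent.* helpers here

set_option autoImplicit false
open Cfsg

namespace Cfsg.Agent.S1292

open Subgroup

/-- Let G be a finite group such that F*(C_G(t)) = O_2(C_G(t)) for every involution t. Then F*(N_G(T)) = O_2(N_G(T)) for every nontrivial 2-subgroup T of G. -/
theorem result {G : Type*} [Group G] [Finite G] (h : ∀ t : G, orderOf t = 2 → Cfsg.generalizedFittingSubgroup ↥(Subgroup.centralizer ({t} : Set G)) = Cfsg.pCore 2 ↥(Subgroup.centralizer ({t} : Set G))) (T : Subgroup G) (hT : IsPGroup 2 ↥T) (hT1 : T ≠ ⊥) : Cfsg.generalizedFittingSubgroup ↥(Subgroup.normalizer (T : Set G)) = Cfsg.pCore 2 ↥(Subgroup.normalizer (T : Set G)) := by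
  haveI : Fact (Nat.Prime 2) := ⟨Nat.prime_two⟩
  haveI := Subgroup.nontrivial_iff_ne_bot T |>.2 hT1
  haveI := hT.center_nontrivial
  obtain ⟨w, hw⟩ : ∃ w : ↥(center ↥T), orderOf w = 2 := by
    refine exists_prime_orderOf_dvd_card' 2 ?_
    exact ((hT.to_subgroup (center ↥T)).card_eq_or_dvd).resolve_left
      (fun e => by simpa [Finite.one_lt_card.ne'] using e)
  set t : G := ((w : ↥T) : G) with ht
  have hto : orderOf t = 2 := by rw [ht, orderOf_coe, orderOf_coe, hw]
  set C := centralizer ({t} : Set G)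
  set N := normalizer (T : Set G)
  have hTC : T ≤ C := fun x hx => mem_centralizer_singleton_iff.2
    (by have := congrArg Subtype.val (mem_center_iff.1 w.2 ⟨x, hx⟩); exact this)
  have hTCp : IsPGroup 2 ↥(T.subgroupOf C) := hT.comap_subtype
  have hM := CfsgLib.Comp.centralizer_pCore_normalizer_le
    ((CfsgLib.Comp.generalizedFitting_eq_pCore_iff 2 _).1 (h t hto)) hTCp
  set M := normalizer ((T.subgroupOf C : Subgroup ↥C) : Set ↥C)
  obtain ⟨hME, hMO⟩ := (CfsgLib.Comp.centralizer_pCore_le_iff 2 _).1 hM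
  let f : ↥M →* ↥N := ((C.subtype.comp M.subtype).codRestrict N (fun m => by
    refine le_normalizer_map (H := T.subgroupOf C) C.subtype (mem_map_of_mem _ m.2) |> fun h => ?_
    rwa [map_subgroupOf_eq_of_le hTC] at h))
  have hf : Function.Injective f := fun a b e =>
    M.subtype_injective (C.subtype_injective (show C.subtype (M.subtype a) = C.subtype (M.subtype b) from congrArg (fun z : ↥N => (z : G)) e))
  have hrange : ∀ x : ↥N, (x : G) ∈ C → x ∈ f.range := by
    intro x hx
    refine ⟨⟨⟨x, hx⟩, ?_⟩, Subtype.ext rfl⟩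
    rw [mem_normalizer_iff]
    intro y
    simp only [mem_subgroupOf, Subgroup.coe_mul, InvMemClass.coe_inv]
    exact mem_normalizer_iff.1 x.2 _
  have htN : t ∈ N := le_normalizer (w : ↥T).2
  have hcent : centralizer (Cfsg.pCore 2 ↥N : Set ↥N) ≤ f.range := by
    intro x hx
    refine hrange x (mem_centralizer_singleton_iff.2 ?_)
    have hT' : (T.subgroupOf N) ≤ Cfsg.pCore 2 ↥N :=
      le_sSup ⟨normal_subgroupOf_of_le_normalizer le_rfl, hT.comap_subtype⟩
    have := congrArg Subtype.val (mem_centralizer_iff.1 hx ⟨t, htN⟩ (hT' (show (⟨t, htN⟩ : ↥N) ∈ T.subgroupOf N from (w : ↥T).2)))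
    exact this.symm
  rw [CfsgLib.Comp.generalizedFitting_eq_pCore_iff, CfsgLib.Comp.centralizer_pCore_le_iff]
  constructor
  · refine le_bot_iff.1 (sSup_le fun L hL => ?_)
    exfalso
    have hLF : L ≤ centralizer (Cfsg.pCore 2 ↥N : Set ↥N) :=
      (CfsgLib.Comp.le_layer hL).trans ((CfsgLib.Comp.layer_le_centralizer_fittingSubgroup _).trans
        (centralizer_le (CfsgLib.Solvable.pCore_le_fittingSubgroup 2)))
    have h1 := CfsgLib.Comp.le_layer
      (CfsgLib.Comp.isComponent_comap_of_injective f hf hL (hLF.trans hcent))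
    rw [hME, le_bot_iff] at h1
    exact CfsgLib.Comp.ne_bot_of_isComponent
      (CfsgLib.Comp.isComponent_comap_of_injective f hf hL (hLF.trans hcent)) h1
  · have hle : Cfsg.pPrimeCore 2 ↥N ≤ f.range :=
      (CfsgLib.Comp.pPrimeCore_le_centralizer_pCore 2 ↥N).trans hcent
    have h1 : (Cfsg.pPrimeCore 2 ↥N).comap f ≤ Cfsg.pPrimeCore 2 ↥M := by
      refine le_sSup ⟨Normal.comap (Cfsg.pPrimeCore_normal 2 _) f, ?_⟩
      rw [← card_map_of_injective hf, map_comap_eq, inf_eq_right.2 hle]
      exact CfsgLib.Comp.coprime_card_pPrimeCore 2 _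
    rw [hMO, le_bot_iff] at h1
    have h2 := congrArg (Subgroup.map f) h1
    rwa [map_comap_eq, inf_eq_right.2 hle, Subgroup.map_bot] at h2

end Cfsg.Agent.S1292
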