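import Cfsg.Statements.S1300
import Cfsg.Agent.Lib.Comp.Subnormal
-- import your own Cfsg.Agent.* helpers here

set_option autoImplicit false
open Cfsg

namespace Cfsg.Agent.S1300

open Subgroup

/-- For a finite group G, balance in the sense of commuting involutions is the same as 1-balance for the prime 2. -/
theorem result {G : Type*} [Group G] [Finite G] : Cfsg.IsBalanced G ↔ Cfsg.IsKBalanced 2 1 G := by
  have hdelta : ∀ (A : Subgroup G) (x : G), x ≠ 1 → x ∈ A → (∀ a ∈ A, a ≠ 1 → a = x) →
      Cfsg.signalizerDelta 2 A = Cfsg.centralizerPPrimeCore 2 x := by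
    intro A x hx1 hxA huniq
    refine le_antisymm (iInf_le_of_le ⟨x, hxA, hx1⟩ le_rfl) (le_iInf fun a => ?_)
    rw [huniq a.1 a.2.1 a.2.2]
  constructor
  · intro h A hA hcard b hb hcomm
    obtain ⟨⟨a, haA⟩, hane, hau⟩ := (Nat.card_eq_two_iff' (1 : ↥A)).1 (by simpa using hcard)
    have ha1 : a ≠ 1 := fun e => hane (Subtype.ext e)
    rw [hdelta A a ha1 haA (fun c hc hc1 => congrArg Subtype.val (hau ⟨c, hc⟩ (fun e => hc1 (congrArg Subtype.val e))))]
    have hao : orderOf a = 2 := orderOf_eq_prime (hA.2 a haA) ha1
    rw [h a b hao hb (hcomm a haA)]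
    exact inf_le_left
  · intro h x y hx hy hxy
    have key : ∀ x y : G, orderOf x = 2 → orderOf y = 2 → x * y = y * x →
        Cfsg.centralizerPPrimeCore 2 x ⊓ centralizer {y} ≤ Cfsg.centralizerPPrimeCore 2 y ⊓ centralizer {x} := by
      intro x y hx hy hxy
      have hx1 : x ≠ 1 := fun e => by rw [e, orderOf_one] at hx; exact absurd hx (by norm_num)
      have hmem : ∀ a ∈ zpowers x, a = 1 ∨ a = x := by
        intro a ha
        obtain ⟨n, rfl⟩ := ha
        dsimp only
        rw [← zpow_mod_orderOf, hx]
        rcases Int.emod_two_eq_zero_or_one n with e | e <;> simp [e]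
      have hA : Cfsg.IsElementaryAbelian 2 (zpowers x) := by
        refine ⟨inferInstance, fun a ha => ?_⟩
        rcases hmem a ha with rfl | rfl
        · exact one_pow 2
        · rw [← hx]; exact pow_orderOf_eq_one a
      have hb := h (zpowers x) hA (by rw [Nat.card_zpowers, hx, pow_one]) y hy (by
        intro a ha
        rcases hmem a ha with rfl | rfl
        · simp
        · exact hxy)
      rw [hdelta (zpowers x) x hx1 (mem_zpowers x) (fun a ha ha1 => (hmem a ha).resolve_left ha1)] at hb
      exact le_inf hb (inf_le_left.trans (map_subtype_le _))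
    exact le_antisymm (key x y hx hy hxy) (key y x hy hx hxy.symm)

end Cfsg.Agent.S1300
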