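import Cfsg.Statements.S1299
import Cfsg.Agent.Lib.Comp.SolvableClosure
import Cfsg.Agent.Lib.Comp.Balance
-- import your own Cfsg.Agent.* helpers here

set_option autoImplicit false
open Cfsg

namespace Cfsg.Agent.S1299

/-- Let G be finite and k-balanced for the prime p (k ≥ 1), A an elementary abelian p-subgroup of order at least p^(k+2) such that O_{p'}(C_G(a)) is solvable for every non-identity a ∈ A. For a ∈ A put θ a = the subgroup generated by the Δ_G(D) ∩ C_G(a) over the subgroups D ≤ A of order p^k. Then θ is an A-signalizer functor. -/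
theorem result {G : Type*} [Group G] [Finite G] (p k : ℕ) [Fact p.Prime] (hk : 1 ≤ k) (hbal : Cfsg.IsKBalanced p k G) (A : Subgroup G) (hA : Cfsg.IsElementaryAbelian p A) (hAk : p ^ (k + 2) ≤ Nat.card ↥A) (hsolv : ∀ a ∈ A, a ≠ 1 → Group.IsSolvable ↥(Cfsg.centralizerPPrimeCore p a)) : Cfsg.IsSignalizerFunctor p A (fun a => ⨆ D : {D : Subgroup G // D ≤ A ∧ Nat.card ↥D = p ^ k}, Cfsg.signalizerDelta p (D : Subgroup G) ⊓ Subgroup.centralizer {a}) := by
  set θ := fun a : G => ⨆ D : {D : Subgroup G // D ≤ A ∧ Nat.card ↥D = p ^ k},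
    Cfsg.signalizerDelta p (D : Subgroup G) ⊓ Subgroup.centralizer {a} with hθ
  have hp : p.Prime := Fact.out
  have hcom : ∀ a ∈ A, ∀ b ∈ A, a * b = b * a := fun a ha b hb =>
    congrArg Subtype.val (hA.1.is_comm.comm (⟨a, ha⟩ : A) ⟨b, hb⟩)
  have hAne : A ≠ ⊥ := fun e => by
    rw [e, Subgroup.card_bot] at hAk
    exact absurd hAk (not_le.2 (Nat.one_lt_pow (by omega) hp.one_lt))
  have hord : ∀ a ∈ A, a ≠ 1 → orderOf a = p := fun a ha ha1 => orderOf_eq_prime (hA.2 a ha) ha1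
  -- two hyperplanes contain a common subgroup of order `p ^ k`
  have hcov : ∀ H H' : Subgroup G, H ≤ A → H.relIndex A = p → H' ≤ A → H'.relIndex A = p →
      ∃ i : {D : Subgroup G // D ≤ A ∧ Nat.card ↥D = p ^ k}, (i : Subgroup G) ≤ H ⊓ H' := by
    intro H H' hH hHi hH' hHi'
    obtain ⟨n, hn⟩ := IsPGroup.iff_card.1
      ((CfsgLib.Comp.isPGroup_of_elemAb hA).to_le (inf_le_left.trans hH : H ⊓ H' ≤ A))
    have h1 : Nat.card ↥(H ⊓ H') * (H ⊓ H').relIndex A = Nat.card A := by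
      rw [← Subgroup.relIndex_bot_left, ← Subgroup.relIndex_bot_left]
      exact Subgroup.relIndex_mul_relIndex _ _ _ bot_le (inf_le_left.trans hH)
    have h2 : (H ⊓ H').relIndex A ≤ p ^ 2 := by
      refine (Subgroup.relIndex_inf_le).trans ?_
      rw [hHi, hHi', pow_two]
    have h3 := hAk.trans (h1.ge.trans (Nat.mul_le_mul_left _ h2))
    rw [hn, ← pow_add] at h3
    have hkn : k ≤ n := by
      have := (Nat.pow_le_pow_iff_right hp.one_lt).1 h3
      omega
    obtain ⟨D, hD⟩ := Sylow.exists_subgroup_card_pow_prime (G := ↥(H ⊓ H')) p (n := k)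
      (hn ▸ pow_dvd_pow p hkn)
    exact ⟨⟨D.map (H ⊓ H').subtype, (Subgroup.map_subtype_le D).trans (inf_le_left.trans hH),
      by rw [Subgroup.card_map_of_injective (H ⊓ H').subtype_injective, hD]⟩, Subgroup.map_subtype_le D⟩
  have hΔC : ∀ D : Subgroup G, Cfsg.signalizerDelta p D ≤ Subgroup.centralizer (D : Set G) := by
    intro D x hx
    rw [Subgroup.mem_centralizer_iff]
    intro d hd
    by_cases hd1 : d = 1
    · rw [hd1, one_mul, mul_one]
    · exact (Subgroup.mem_centralizer_singleton_iff.1 (CfsgLib.Comp.centralizerPPrimeCore_le d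
        ((iInf_le (fun c : {c : G // c ∈ D ∧ c ≠ 1} => Cfsg.centralizerPPrimeCore p (c : G))
          ⟨d, hd, hd1⟩) hx))).symm
  have hΔinv : ∀ D : Subgroup G, D ≤ A → A ≤ Subgroup.normalizer (Cfsg.signalizerDelta p D : Set G) := by
    intro D hD
    refine CfsgLib.Comp.le_normalizer_of_conj_mem fun b hb u hu => ?_
    rw [Cfsg.signalizerDelta, Subgroup.mem_iInf] at hu ⊢
    intro d
    exact (Subgroup.mem_normalizer_iff.1 (CfsgLib.Comp.centralizer_le_normalizer_centralizerPPrimeCore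
      (p := p) (d : G) (Subgroup.mem_centralizer_singleton_iff.2 (hcom b hb d (hD d.2.1)))) u).1 (hu d)
  have hle : ∀ a ∈ A, a ≠ 1 → θ a ≤ Cfsg.centralizerPPrimeCore p a := by
    intro a ha ha1
    exact iSup_le fun D => hbal D (CfsgLib.Comp.elemAb_mono hA D.2.1) D.2.2 a (hord a ha ha1)
      fun d hd => hcom d (D.2.1 hd) a ha
  have hinv : ∀ a ∈ A, ∀ D : {D : Subgroup G // D ≤ A ∧ Nat.card ↥D = p ^ k},
      A ≤ Subgroup.normalizer ((Cfsg.signalizerDelta p (D : Subgroup G) ⊓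
        Subgroup.centralizer {a} : Subgroup G) : Set G) := fun a ha D =>
    CfsgLib.Comp.le_normalizer_inf (hΔinv D D.2.1) (le_trans (fun b hb =>
      Subgroup.mem_centralizer_singleton_iff.2 (hcom b hb a ha)) Subgroup.le_normalizer)
  refine ⟨fun a ha ha1 => (hle a ha ha1).trans (CfsgLib.Comp.centralizerPPrimeCore_le a),
    fun a ha ha1 h => hp.coprime_iff_not_dvd.1
      (CfsgLib.Comp.coprime_card_centralizerPPrimeCore (p := p) a).symm
      (h.trans (Subgroup.card_dvd_of_le (hle a ha ha1))),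
    fun a ha _ => CfsgLib.Comp.conj_mem_of_le_normalizer
      (CfsgLib.Comp.le_normalizer_iSup _ (hinv a ha)), ?_⟩
  intro a ha ha1 b hb hb1
  have hnd : ∀ {U : Subgroup G}, U ≤ θ a → ¬ p ∣ Nat.card U := fun hU h =>
    hp.coprime_iff_not_dvd.1 (CfsgLib.Comp.coprime_card_centralizerPPrimeCore (p := p) a).symm
      (h.trans (Subgroup.card_dvd_of_le (hU.trans (hle a ha ha1))))
  have hUn : A ≤ Subgroup.normalizer ((θ a ⊓ Subgroup.centralizer {b} : Subgroup G) : Set G) :=
    CfsgLib.Comp.le_normalizer_inf (CfsgLib.Comp.le_normalizer_iSup _ (hinv a ha))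
      (le_trans (fun c hc => Subgroup.mem_centralizer_singleton_iff.2 (hcom c hc b hb))
        Subgroup.le_normalizer)
  rw [CfsgLib.Comp.eq_iSup_centralizer_hyperplane hA hAne (hnd inf_le_left) hUn]
  refine iSup_le fun H => ?_
  obtain ⟨i, hi⟩ := hcov H H H.2.1 H.2.2 H.2.1 H.2.2
  intro x hx
  have hsolv' : Group.IsSolvable ↥(θ a) :=
    haveI := hsolv a ha ha1
    Group.isSolvable_of_isSolvable_injective (Subgroup.inclusion_injective (hle a ha ha1))
  have hkey := CfsgLib.Comp.iSup_inf_centralizer_eq hA hAne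
    (fun D : {D : Subgroup G // D ≤ A ∧ Nat.card ↥D = p ^ k} => (D : Subgroup G)) (fun D => D.2.1) hcov
    (fun D => Cfsg.signalizerDelta p (D : Subgroup G) ⊓ Subgroup.centralizer {a})
    (fun D => inf_le_left.trans (hΔC D)) (hinv a ha) (fun D E => ?_) hsolv' (hnd le_rfl) i
  · have hxi : x ∈ Cfsg.signalizerDelta p (i : Subgroup G) ⊓ Subgroup.centralizer {a} := by
      rw [← hkey]
      exact Subgroup.mem_inf.2 ⟨(Subgroup.mem_inf.1 (Subgroup.mem_inf.1 hx).1).1,
        Subgroup.centralizer_le (hi.trans inf_le_left) (Subgroup.mem_inf.1 hx).2⟩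
    exact le_iSup (fun D : {D : Subgroup G // D ≤ A ∧ Nat.card ↥D = p ^ k} =>
      Cfsg.signalizerDelta p (D : Subgroup G) ⊓ Subgroup.centralizer {b}) i
      (Subgroup.mem_inf.2 ⟨(Subgroup.mem_inf.1 hxi).1, (Subgroup.mem_inf.1 (Subgroup.mem_inf.1 hx).1).2⟩)
  · refine le_inf (le_iInf fun d => ?_) (inf_le_left.trans inf_le_right)
    refine le_trans (inf_le_inf inf_le_left (Subgroup.centralizer_le (Set.singleton_subset_iff.2 d.2.1)))
      (hbal D (CfsgLib.Comp.elemAb_mono hA D.2.1) D.2.2 d (hord d (E.2.1 d.2.1) d.2.2) ?_)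
    exact fun c hc => hcom c (D.2.1 hc) d (E.2.1 d.2.1)

end Cfsg.Agent.S1299
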