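import Cfsg.Statements.S1302
import Cfsg.Agent.Lib.Comp.PConstrained
import Cfsg.Agent.Lib.Comp.BaerFixed
import Cfsg.Agent.Lib.Coprime.Action
import Cfsg.Agent.Lib.Coprime.Sylow

set_option autoImplicit false
open Cfsg
open scoped commutatorElement

namespace Cfsg.Agent.S1302

/-- Let X be a finite p-constrained group, p an odd prime, and A an abelian p-subgroup of X containing every element of order p of C_X(A). Then every subgroup of X of order prime to p that is normalized by A lies in O_{p'}(X). -/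
theorem result {X : Type*} [Group X] [Finite X] (p : ℕ) [Fact p.Prime] (hp : p ≠ 2) (hX : Cfsg.IsPConstrained p X) (A : Subgroup X) (hA : IsMulCommutative ↥A) (hAp : IsPGroup p ↥A) (hΩ : ∀ x ∈ Subgroup.centralizer (A : Set X), orderOf x = p → x ∈ A) (Q : Subgroup X) (hQ : ¬ p ∣ Nat.card ↥Q) (hAQ : A ≤ Subgroup.normalizer (Q : Set X)) : Q ≤ Cfsg.pPrimeCore p X := by
  have hp' : p.Prime := Fact.out
  set O := Cfsg.pPrimeCore p X with hOdef
  have : O.Normal := Cfsg.pPrimeCore_normal p X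
  set f := CfsgLib.Comp.toModCore (p := p) X with hf
  set P := Cfsg.pCore p (X ⧸ O) with hPdef
  have : P.Normal := Cfsg.pCore_normal p _
  have hCP : Subgroup.centralizer (P : Set (X ⧸ O)) ≤ P := (CfsgLib.Comp.isPConstrained_iff p X).1 hX
  have hPp : IsPGroup p ↥P := CfsgLib.Comp.isPGroup_pCore p _
  set A' := A.map f
  set Q' := Q.map f
  have hA'p : IsPGroup p ↥A' := hAp.map f
  have hQ' : ¬ p ∣ Nat.card ↥Q' := fun h => hQ (h.trans (Subgroup.card_map_dvd Q f))
  have hA'Q' : A' ≤ Subgroup.normalizer (Q' : Set (X ⧸ O)) :=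
    (Subgroup.map_mono hAQ).trans (Subgroup.le_normalizer_map f)
  have hnorm : ∀ B : Subgroup (X ⧸ O), B ≤ Subgroup.normalizer (P : Set (X ⧸ O)) := fun B => by
    rw [Subgroup.normalizer_eq_top_iff.2 ‹P.Normal›]; exact le_top
  suffices hcen : Q' ≤ Subgroup.centralizer (P : Set (X ⧸ O)) by
    have hQP : IsPGroup p ↥Q' := hPp.to_le (hcen.trans hCP)
    have hbot : Q' = ⊥ := CfsgLib.Comp.isPGroup_eq_bot_of_coprime hQP
      (hp'.coprime_iff_not_dvd.2 hQ').symm
    rw [Subgroup.map_eq_bot_iff, CfsgLib.Comp.ker_toModCore] at hbot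
    exact hbot
  by_contra hne
  let S : Set (Subgroup (X ⧸ O)) := {P0 | P0 ≤ P ∧ A' ≤ Subgroup.normalizer (P0 : Set (X ⧸ O)) ∧
    Q' ≤ Subgroup.normalizer (P0 : Set (X ⧸ O)) ∧ ¬ Q' ≤ Subgroup.centralizer (P0 : Set (X ⧸ O))}
  obtain ⟨P0, ⟨hP0, hA0, hQ0, hne0⟩, hmin⟩ :=
    (Set.toFinite S).exists_minimal ⟨P, le_rfl, hnorm _, hnorm _, hne⟩
  have hsub : ∀ U ≤ P0, A' ≤ Subgroup.normalizer (U : Set (X ⧸ O)) →
      Q' ≤ Subgroup.normalizer (U : Set (X ⧸ O)) → U ≠ P0 →
      Q' ≤ Subgroup.centralizer (U : Set (X ⧸ O)) := by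
    intro U hU hA1 hQ1 hne1
    by_contra h
    exact hne1 (le_antisymm hU (hmin ⟨hU.trans hP0, hA1, hQ1, h⟩ hU))
  have hconj : ∀ U V : Subgroup (X ⧸ O), ∀ g ∈ Subgroup.normalizer (U : Set (X ⧸ O)),
      g ∈ Subgroup.normalizer (V : Set (X ⧸ O)) →
      g ∈ Subgroup.normalizer ((⁅U, V⁆ : Subgroup (X ⧸ O)) : Set (X ⧸ O)) := by
    intro U V g hgU hgV
    rw [CfsgLib.Coprime.mem_normalizer_iff_map_conj] at hgU hgV ⊢
    rw [Subgroup.map_commutator, hgU, hgV]
  set D := ⁅P0, P0⁆ with hD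
  have hDle : D ≤ P0 := Subgroup.commutator_le_self P0
  have hDne : D ≠ P0 := by
    intro h
    have : Group.IsNilpotent ↥P0 := (hPp.to_le hP0).isNilpotent
    have hb : P0 ≠ ⊥ := fun e => hne0 (by
      rw [e]; intro x _; exact Subgroup.mem_centralizer_iff.2 fun y hy => by
        rw [Subgroup.mem_bot.1 hy]; simp)
    have : Nontrivial ↥P0 := (Subgroup.nontrivial_iff_ne_bot P0).2 hb
    apply (Group.IsSolvable.commutator_lt_top_of_nontrivial ↥P0).ne
    apply Subgroup.map_injective P0.subtype_injective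
    rw [Subgroup.map_subtype_commutator, ← MonoidHom.range_eq_map, Subgroup.range_subtype]
    exact h
  have hQD : Q' ≤ Subgroup.centralizer (D : Set (X ⧸ O)) :=
    hsub D hDle (fun g hg => hconj _ _ g (hA0 hg) (hA0 hg)) (fun g hg => hconj _ _ g (hQ0 hg) (hQ0 hg)) hDne
  have hcopQ : (Nat.card ↥Q').Coprime (Nat.card ↥P0) := by
    obtain ⟨m, hm⟩ := IsPGroup.iff_card.1 (hPp.to_le hP0)
    rw [hm]
    exact ((hp'.coprime_iff_not_dvd.2 hQ').symm).pow_right m
  have : Group.IsNilpotent ↥P0 := (hPp.to_le hP0).isNilpotent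
  have hfull : ⁅P0, Q'⁆ = P0 := by
    by_contra hW
    have h := hsub ⁅P0, Q'⁆ (Subgroup.le_normalizer_iff_commutator_le_left.mp hQ0)
      (fun g hg => hconj _ _ g (hA0 hg) (hA'Q' hg))
      (Subgroup.normalizer_commutator_ge_right P0 Q') hW
    refine hne0 ?_
    rw [Subgroup.le_centralizer_iff, ← Subgroup.commutator_eq_bot_iff_le_centralizer]
    refine CfsgLib.Coprime.commutator_eq_bot_of_commutator_commutator hQ0 hcopQ (Or.inr inferInstance) ?_
    rw [Subgroup.commutator_eq_bot_iff_le_centralizer, Subgroup.le_centralizer_iff]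
    exact h
  have hcl : ⁅P0, D⁆ = ⊥ := by
    conv_lhs => rw [← hfull]
    have h1 : ⁅Q', D⁆ = ⊥ := Subgroup.commutator_eq_bot_iff_le_centralizer.2 hQD
    refine Subgroup.commutator_commutator_eq_bot_of_rotate ?_ ?_
    · rw [h1, Subgroup.commutator_bot_left]
    · refine le_bot_iff.1 ?_
      have h2 : ⁅D, P0⁆ ≤ D :=
        Subgroup.le_normalizer_iff_commutator_le_left.mp (fun g hg => hconj _ _ g (Subgroup.le_normalizer hg) (Subgroup.le_normalizer hg))
      refine (Subgroup.commutator_mono h2 le_rfl).trans ?_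
      rw [Subgroup.commutator_comm, h1]
  obtain ⟨x, hxP, hxo, hxA, hxQ⟩ := CfsgLib.Comp.exists_fixed_moved hp (hPp.to_le hP0)
    (fun a ha b hb c hc => by
      have h := Subgroup.commutator_mem_commutator hc (Subgroup.commutator_mem_commutator ha hb)
      rw [← hD, hcl, Subgroup.mem_bot, commutatorElement_eq_one_iff_commute] at h
      exact h.symm)
    hA'p hQ' hA0 hQ0 hA'Q' hne0
  -- lift `x` to an element of order `p` centralizing `A`
  obtain ⟨g, rfl⟩ := CfsgLib.Comp.toModCore_surjective (p := p) (G := X) x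
  have : Group.IsSolvable ↥A := by
    have := hAp.isNilpotent
    infer_instance
  obtain ⟨m, hm⟩ := IsPGroup.iff_card.1 hAp
  have hcopO : (Nat.card ↥A).Coprime (Nat.card ↥O) := by
    rw [hm]
    exact ((CfsgLib.Comp.coprime_card_pPrimeCore p X).symm).pow_left m
  obtain ⟨n, hn, hgn⟩ := CfsgLib.Comp.exists_centralizer_lift (A := A) (O := O) inferInstance hcopO
    (g := g) (fun a ha => by
      rw [← QuotientGroup.eq_one_iff]
      have h : f a * f g = f g * f a := Subgroup.mem_centralizer_iff.1 hxA _ (Subgroup.mem_map_of_mem f ha)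
      show f (g⁻¹ * a * g * a⁻¹) = 1
      rw [map_mul, map_mul, map_mul, map_inv, map_inv, mul_assoc _ (f a) (f g), h]
      group)
  have hfn : f (g * n) = f g := by
    rw [map_mul, show f n = 1 from (QuotientGroup.eq_one_iff n).2 hn, mul_one]
  set k := g * n
  obtain ⟨i, hi⟩ := IsPGroup.iff_card.1 hAp
  set s := Nat.card ↥O with hs
  have hsc : p.Coprime s := (CfsgLib.Comp.coprime_card_pPrimeCore p X).symm
  have hks : (k ^ s) ^ p = 1 := by
    rw [← pow_mul, mul_comm, pow_mul]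
    have hmem : k ^ p ∈ O := by
      rw [← QuotientGroup.eq_one_iff]
      show f (k ^ p) = 1
      rw [map_pow, hfn]
      exact orderOf_dvd_iff_pow_eq_one.1 hxo.dvd
    have := congrArg Subtype.val (pow_card_eq_one' (x := (⟨k ^ p, hmem⟩ : ↥O)))
    rwa [Subgroup.coe_pow, Subgroup.coe_one] at this
  have hyo : orderOf (k ^ s) = p := by
    refine orderOf_eq_prime hks fun h => ?_
    have h2 : f g ^ s = 1 := by rw [← hfn, ← map_pow, h, map_one]
    have h3 := orderOf_dvd_of_pow_eq_one h2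
    rw [hxo] at h3
    exact hp'.coprime_iff_not_dvd.1 hsc h3
  have hyA : k ^ s ∈ A := hΩ _ (pow_mem hgn _) hyo
  -- hence `f g` normalizes `Q'`
  have hgA' : f g ∈ A' := by
    have h1 : f g ^ s ∈ A' := by
      rw [← hfn, ← map_pow]; exact Subgroup.mem_map_of_mem f hyA
    obtain ⟨j, hj⟩ := exists_pow_eq_self_of_coprime (x := f g) (n := s) (by rw [hxo]; exact hsc.symm)
    exact hj ▸ pow_mem h1 j
  refine hxQ (Subgroup.mem_centralizer_iff.2 fun q hq => ?_)
  have h1 : ⁅f g, q⁆ ∈ Q' := by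
    rw [commutatorElement_def]
    exact mul_mem ((Subgroup.mem_normalizer_iff.1 (hA'Q' hgA') q).1 hq) (inv_mem hq)
  have h2 : ⁅f g, q⁆ ∈ P0 := by
    have e : ⁅f g, q⁆ = f g * (q * (f g)⁻¹ * q⁻¹) := by rw [commutatorElement_def]; group
    rw [e]
    exact mul_mem hxP ((Subgroup.mem_normalizer_iff.1 (hQ0 hq) _).1 (inv_mem hxP))
  have h3 : ⁅f g, q⁆ ∈ Q' ⊓ P0 := Subgroup.mem_inf.2 ⟨h1, h2⟩
  rw [Subgroup.inf_eq_bot_of_coprime hcopQ, Subgroup.mem_bot,
    commutatorElement_eq_one_iff_commute] at h3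
  exact h3.symm.eq

end Cfsg.Agent.S1302
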