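import Cfsg.Statements.S1303
import Cfsg.Agent.Lib.Comp.PComponent
-- import your own Cfsg.Agent.* helpers here

set_option autoImplicit false
open Cfsg

namespace Cfsg.Agent.S1303

/-- The group X = SL(2, 3): it is 2-constrained, O_{2'}(X) = 1, its centre A = Z(X) contains every involution of X = C_X(A), and X has a subgroup of order 3 (normalized by A) not contained in O_{2'}(X). -/
theorem result : Cfsg.IsPConstrained 2 (Matrix.SpecialLinearGroup (Fin 2) (ZMod 3)) ∧ Cfsg.pPrimeCore 2 (Matrix.SpecialLinearGroup (Fin 2) (ZMod 3)) = ⊥ ∧ (∀ t : Matrix.SpecialLinearGroup (Fin 2) (ZMod 3), orderOf t = 2 → t ∈ Subgroup.center (Matrix.SpecialLinearGroup (Fin 2) (ZMod 3))) ∧ ∃ Q : Subgroup (Matrix.SpecialLinearGroup (Fin 2) (ZMod 3)), Nat.card ↥Q = 3 ∧ ¬ (Q ≤ Cfsg.pPrimeCore 2 (Matrix.SpecialLinearGroup (Fin 2) (ZMod 3))) := by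
  haveI : Fact (Nat.Prime 2) := ⟨Nat.prime_two⟩
  set G := Matrix.SpecialLinearGroup (Fin 2) (ZMod 3)
  have hcard : Nat.card G ∣ 24 := by
    rw [Nat.card_eq_fintype_card]
    have : Fintype.card G = 24 := by decide
    rw [this]
  have h3 : ∀ x : G, x ^ 3 = 1 → x ≠ 1 → ∃ g : G, (x * (g * x * g⁻¹)) ^ 3 ≠ 1 := by decide
  have hinv : ∀ t : G, t ^ 2 = 1 → ∀ g : G, g * t = t * g := by decide
  have hmul : ∀ x y : G, x ^ 4 = 1 → y ^ 4 = 1 → (x * y) ^ 4 = 1 := by decide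
  have hcen : ∀ x : G, (∀ y : G, y ^ 4 = 1 → x * y = y * x) → x ^ 4 = 1 := by decide
  have hO : Cfsg.pPrimeCore 2 G = ⊥ := by
    haveI := Cfsg.pPrimeCore_normal 2 G
    set N := Cfsg.pPrimeCore 2 G
    have hord : ∀ x ∈ N, x ^ 3 = 1 := by
      intro x hx
      have h1 : orderOf x ∣ Nat.card N := by
        have h := orderOf_dvd_natCard (⟨x, hx⟩ : N)
        rwa [← Subgroup.orderOf_coe] at h
      have h2 : (orderOf x).Coprime 8 := by
        have h := Nat.Coprime.coprime_dvd_left h1 (CfsgLib.Comp.coprime_card_pPrimeCore 2 G)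
        exact Nat.Coprime.pow_right 3 h
      have h4 : orderOf x ∣ 8 * 3 := (orderOf_dvd_natCard x).trans hcard
      exact orderOf_dvd_iff_pow_eq_one.1 (h2.dvd_of_dvd_mul_left h4)
    rw [eq_bot_iff]
    intro x hx
    by_contra hne
    obtain ⟨g, hg⟩ := h3 x (hord x hx) hne
    exact hg (hord _ (mul_mem hx (Subgroup.Normal.conj_mem ‹_› x hx g)))
  let Q8 : Subgroup G :=
    { carrier := {x | x ^ 4 = 1}
      mul_mem' := fun {x y} hx hy => hmul x y hx hy
      one_mem' := one_pow 4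
      inv_mem' := fun {x} hx => by
        change x⁻¹ ^ 4 = 1
        rw [inv_pow, (hx : x ^ 4 = 1), inv_one] }
  haveI hQn : Q8.Normal := ⟨fun x hx g => by
    change (g * x * g⁻¹) ^ 4 = 1
    rw [conj_pow, (hx : x ^ 4 = 1), mul_one, mul_inv_cancel]⟩
  have hQp : IsPGroup 2 Q8 := fun x => ⟨2, Subtype.ext x.2⟩
  haveI := Cfsg.pPrimeCore_normal 2 G
  have hQle : Q8 ≤ Cfsg.pPrimePCore 2 G := Subgroup.map_le_iff_le_comap.1
    (le_sSup ⟨Subgroup.Normal.map hQn _ (QuotientGroup.mk'_surjective _), hQp.map _⟩)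
  refine ⟨fun P => ?_, hO, fun t ht => Subgroup.mem_center_iff.2
    (hinv t (orderOf_dvd_iff_pow_eq_one.1 ht.dvd)), ?_⟩
  · intro x hx
    refine hQle (hcen x fun y hy => ?_)
    haveI : (Q8.subgroupOf (Cfsg.pPrimePCore 2 G)).Normal := Subgroup.Normal.subgroupOf hQn _
    have hQP : Q8.subgroupOf (Cfsg.pPrimePCore 2 G) ≤ (P : Subgroup _) :=
      le_sup_right.trans (P.is_maximal' (P.isPGroup'.to_sup_of_normal_right
        (hQp.comap_subtype (K := Cfsg.pPrimePCore 2 G))) le_sup_left).le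
    exact (Subgroup.mem_centralizer_iff.1 hx y
      ⟨⟨y, hQle hy⟩, hQP (show (⟨y, hQle hy⟩ : Cfsg.pPrimePCore 2 G) ∈ Q8.subgroupOf _ from hy), rfl⟩).symm
  · obtain ⟨u, hu3, hu1⟩ : ∃ u : G, u ^ 3 = 1 ∧ u ≠ 1 := by decide
    refine ⟨Subgroup.zpowers u, ?_, fun h => ?_⟩
    · rw [Nat.card_zpowers]
      haveI : Fact (Nat.Prime 3) := ⟨Nat.prime_three⟩
      exact orderOf_eq_prime hu3 hu1
    · rw [hO] at h
      exact hu1 (Subgroup.mem_bot.1 (h (Subgroup.mem_zpowers u)))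

end Cfsg.Agent.S1303
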