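import Cfsg.Statements.S1305
import Cfsg.Agent.Lib.Comp.BComponent

set_option autoImplicit false
open Cfsg
open scoped commutatorElement

namespace Cfsg.Agent.S1305

open Subgroup

theorem two_dvd_of_not_rankLE {H : Type*} [Group H] [Finite H] (h : ¬ Cfsg.PRankLE 2 1 H) :
    ∃ A : Subgroup H, IsMulCommutative ↥A ∧ (∀ a ∈ A, a ^ 2 = 1) ∧ 4 ≤ Nat.card ↥A := by
  unfold Cfsg.PRankLE at h
  push Not at h
  obtain ⟨A, h1, h2, h3⟩ := h
  refine ⟨A, h1, h2, ?_⟩
  obtain ⟨n, hn⟩ := (show IsPGroup 2 ↥A from fun x => ⟨1, Subtype.ext (by simpa using h2 x x.2)⟩).exists_card_eq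
  rw [hn] at h3 ⊢
  have : 1 < n := (Nat.pow_lt_pow_iff_right (by norm_num)).1 h3
  calc 4 = 2 ^ 2 := by norm_num
    _ ≤ 2 ^ n := Nat.pow_le_pow_right (by norm_num) this


/-- Let G be a finite group of component type with the B-property and no nontrivial normal subgroup of odd order. Let a be an involution and K a component of C_G(a) such that (a) |K| is maximal among the orders of components of centralizers of involutions of G, (b) subject to (a) the 2-rank of the centralizer of K in C_G(a) is as large as possible, and (c) K has 2-rank at least 2. If B is an elementary abelian 2-subgroup of that centralizer of the largest possible order, then K is a component of C_G(b) for every non-identity b ∈ B. -/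
theorem result {G : Type*} [Group G] [Finite G] (hO : Cfsg.oddCore G = ⊥) (hB : Cfsg.HasBProperty G) (hct : Cfsg.IsComponentType G) (a : G) (ha : orderOf a = 2) (K : Subgroup G) (hKa : K ≤ Subgroup.centralizer ({a} : Set G)) (hK : Cfsg.IsComponent (K.subgroupOf (Subgroup.centralizer ({a} : Set G)))) (hmax : ∀ y : G, orderOf y = 2 → ∀ K' : Subgroup G, K' ≤ Subgroup.centralizer ({y} : Set G) → Cfsg.IsComponent (K'.subgroupOf (Subgroup.centralizer ({y} : Set G))) → Nat.card ↥K' ≤ Nat.card ↥K ∧ (Nat.card ↥K' = Nat.card ↥K → ∀ k : ℕ, Cfsg.PRankLE 2 k ↥(Subgroup.centralizer ({a} : Set G) ⊓ Subgroup.centralizer (K : Set G)) → Cfsg.PRankLE 2 k ↥(Subgroup.centralizer ({y} : Set G) ⊓ Subgroup.centralizer (K' : Set G)))) (hrk : ¬ Cfsg.PRankLE 2 1 ↥K) (B : Subgroup G) (hBle : B ≤ Subgroup.centralizer ({a} : Set G) ⊓ Subgroup.centralizer (K : Set G)) (hBel : Cfsg.IsElementaryAbelian 2 B) (hBmax : ∀ B' : Subgroup G, B' ≤ Subgroup.centralizer ({a} : Set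 G) ⊓ Subgroup.centralizer (K : Set G) → Cfsg.IsElementaryAbelian 2 B' → Nat.card ↥B' ≤ Nat.card ↥B) (b : G) (hb : b ∈ B) (hb1 : b ≠ 1) : K ≤ Subgroup.centralizer ({b} : Set G) ∧ Cfsg.IsComponent (K.subgroupOf (Subgroup.centralizer ({b} : Set G))) := by
  classical
  have hf2 : Fact (Nat.Prime 2) := ⟨Nat.prime_two⟩
  set W := centralizer ({a} : Set G) ⊓ centralizer (K : Set G) with hW
  have ha1 : a * a = 1 := by rw [← pow_two, ← ha, pow_orderOf_eq_one]
  have hbb : b * b = 1 := by rw [← pow_two]; exact hBel.2 b hb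
  have hb2 : orderOf b = 2 := orderOf_eq_prime (hBel.2 b hb) hb1
  have hKb : K ≤ centralizer ({b} : Set G) := fun k hk =>
    mem_centralizer_singleton_iff.2 (mem_centralizer_iff.1 (hBle hb).2 k hk)
  have hab : a * b = b * a := (mem_centralizer_singleton_iff.1 (hBle hb).1).symm
  refine ⟨hKb, ?_⟩
  -- `a` lies in `B`
  have hBab : ∀ x ∈ B, ∀ y ∈ B, x * y = y * x := fun x hx y hy =>
    congrArg Subtype.val (hBel.1.is_comm.comm ⟨x, hx⟩ ⟨y, hy⟩)
  have hBa : ∀ x ∈ B, x * a = a * x := fun x hx => mem_centralizer_singleton_iff.1 (hBle hx).1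
  have haW : a ∈ W :=
    ⟨mem_centralizer_singleton_iff.2 rfl, mem_centralizer_iff.2 fun k hk => mem_centralizer_singleton_iff.1 (hKa hk)⟩
  have hsq : ∀ x y : G, x * y = y * x → x ^ 2 = 1 → y ^ 2 = 1 → (x * y) ^ 2 = 1 := fun x y h hx hy => by
    rw [(show Commute x y from h).mul_pow, hx, hy, one_mul]
  have haB : a ∈ B := by
    have hel : Cfsg.IsElementaryAbelian 2 (B ⊔ zpowers a) := by
      have hn : zpowers a ≤ normalizer (B : Set G) := le_trans (zpowers_le.2
        (mem_centralizer_iff.2 fun x hx => hBa x hx)) (centralizer_le_normalizer _)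
      have hform : ∀ x ∈ B ⊔ zpowers a, ∃ u ∈ B, ∃ i : ℤ, x = u * a ^ i := fun x hx => by
        obtain ⟨u, hu, v, ⟨i, rfl⟩, rfl⟩ := CfsgLib.Comp.exists_mul_of_mem_sup hn hx
        exact ⟨u, hu, i, rfl⟩
      refine ⟨⟨⟨fun x y => ?_⟩⟩, fun x hx => ?_⟩
      · obtain ⟨u, hu, i, hx⟩ := hform x x.2
        obtain ⟨v, hv, j, hy⟩ := hform y y.2
        refine Subtype.ext ?_
        rw [Subgroup.coe_mul, Subgroup.coe_mul, hx, hy]
        have c1 : Commute u v := hBab u hu v hv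
        have c2 : ∀ z ∈ B, ∀ n : ℤ, Commute z (a ^ n) := fun z hz n => (show Commute z a from hBa z hz).zpow_right n
        exact ((c1.mul_right (c2 u hu j)).mul_left ((c2 v hv i).symm.mul_right ((Commute.refl a).zpow_zpow i j))).eq
      · obtain ⟨u, hu, i, rfl⟩ := hform x hx
        refine hsq _ _ ((show Commute u a from hBa u hu).zpow_right i).eq (hBel.2 u hu) ?_
        rw [← zpow_natCast, ← zpow_mul, mul_comm, zpow_mul, zpow_natCast, pow_two, ha1, one_zpow]
    have h1 := hBmax _ (sup_le hBle (zpowers_le.2 haW)) hel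
    rw [eq_of_le_of_card_ge (le_sup_left : B ≤ B ⊔ zpowers a) h1]
    exact mem_sup_right (mem_zpowers a)
  -- move into `H = C(b)`
  set Cb := centralizer ({b} : Set G) with hCb
  let a' : ↥Cb := ⟨a, mem_centralizer_singleton_iff.2 hab⟩
  set K' := K.subgroupOf Cb with hK'
  have hK'a : K' ≤ centralizer ({a'} : Set ↥Cb) := fun k hk =>
    mem_centralizer_singleton_iff.2 (Subtype.ext (mem_centralizer_singleton_iff.1 (hKa hk)))
  let ι : ↥(centralizer ({a'} : Set ↥Cb)) →* ↥(centralizer ({a} : Set G)) :=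
    (Cb.subtype.comp (centralizer ({a'} : Set ↥Cb)).subtype).codRestrict _ fun x =>
      mem_centralizer_singleton_iff.2 (congrArg Subtype.val (mem_centralizer_singleton_iff.1 x.2))
  have hK'q : Cfsg.IsQuasisimple ↥K :=
    CfsgLib.Comp.isQuasisimple_congr (subgroupOfEquivOfLe hKa) hK.2
  have hK'c : Cfsg.IsComponent (K'.subgroupOf (centralizer ({a'} : Set ↥Cb))) := by
    refine ⟨?_, CfsgLib.Comp.isQuasisimple_congr
      ((subgroupOfEquivOfLe hK'a).trans (subgroupOfEquivOfLe hKb)).symm hK'q⟩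
    have h := hK.1.comap ι
    exact h
  obtain ⟨A4, hA4c, hA4e, hA4⟩ := two_dvd_of_not_rankLE hrk
  have heven : 2 ∣ Nat.card ↥K' := by
    rw [Nat.card_congr (subgroupOfEquivOfLe hKb).toEquiv]
    obtain ⟨n, hn⟩ := (show IsPGroup 2 ↥A4 from fun x => ⟨1, Subtype.ext (by simpa using hA4e x x.2)⟩).exists_card_eq
    have hn0 : n ≠ 0 := fun h => by rw [h, pow_zero] at hn; omega
    exact (dvd_pow_self 2 hn0).trans (hn ▸ card_subgroup_dvd_card A4)
  have ha' : a' * a' = 1 := Subtype.ext ha1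
  obtain ⟨D, hD, hKD, hKP⟩ := CfsgLib.Comp.component_of_centralizer_involution (G := ↥Cb)
    (CfsgLib.Comp.pLayer_centralizer_eq_layer hO hB hb2) ha' hK'a hK'c heven
  set Da := D.map (MulAut.conj a').toMonoidHom with hDa
  have hDle : D.map Cb.subtype ≤ Cb := map_subtype_le _
  have hDG : Cfsg.IsComponent ((D.map Cb.subtype).subgroupOf Cb) := by
    rw [show (D.map Cb.subtype).subgroupOf Cb = D from comap_map_eq_self_of_injective Cb.subtype_injective D]
    exact hD
  obtain ⟨hcard, hrank⟩ := hmax b hb2 (D.map Cb.subtype) hDle hDG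
  rw [card_map_of_injective Cb.subtype_injective] at hcard hrank
  have hKK' : Nat.card ↥K' = Nat.card ↥K := Nat.card_congr (subgroupOfEquivOfLe hKb).toEquiv
  by_cases hfix : Da = D
  · rw [hfix, sup_idem] at hKP
    have e : K' = D := eq_of_le_of_card_ge hKP (hKK' ▸ hcard)
    exact e ▸ hD
  exfalso
  have hDac : Cfsg.IsComponent Da := CfsgLib.Comp.isComponent_map_conj hD a'
  have hcomm : ∀ x ∈ D, ∀ y ∈ Da, x * y = y * x := fun x hx y hy =>
    (mem_centralizer_iff.1 ((CfsgLib.Comp.component_eq_or_le_centralizer hD hDac).resolve_left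
      (fun e => hfix e.symm) hx) y hy).symm
  have hinv : a'⁻¹ = a' := inv_eq_of_mul_eq_one_right ha'
  have hswap : ∀ y ∈ Da, a' * y * a'⁻¹ ∈ D := by
    rintro _ ⟨x, hx, rfl⟩
    have : a' * ((MulAut.conj a') x) * a'⁻¹ = x := by
      rw [MulAut.conj_apply, hinv]
      calc a' * (a' * x * a') * a' = (a' * a') * x * (a' * a') := by group
        _ = x := by rw [ha']; group
    exact this.symm ▸ hx
  -- the diagonal map
  let ψ : ↥D →* ↥Cb :=
    { toFun := fun d => d * (a' * d * a'⁻¹)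
      map_one' := by simp
      map_mul' := fun x y => by
        have h := hcomm y y.2 (a' * x * a'⁻¹) ⟨x, x.2, rfl⟩
        show (x : ↥Cb) * y * (a' * (x * y) * a'⁻¹) = x * (a' * x * a'⁻¹) * (y * (a' * y * a'⁻¹))
        calc (x : ↥Cb) * y * (a' * (x * y) * a'⁻¹)
            = x * ((y : ↥Cb) * (a' * x * a'⁻¹)) * (a' * y * a'⁻¹) := by group
          _ = x * ((a' * x * a'⁻¹) * y) * (a' * y * a'⁻¹) := by rw [h]
          _ = _ := by group }
  have hKperf : ⁅K', K'⁆ = K' := Subgroup.isPerfect_iff.1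
    (CfsgLib.Comp.isQuasisimple_congr (subgroupOfEquivOfLe hKb).symm hK'q).1
  have hDn : Da ≤ normalizer (D : Set ↥Cb) := fun y hy =>
    centralizer_le_normalizer _ (mem_centralizer_iff.2 fun x hx => hcomm x hx y hy)
  have hKψ : K' ≤ ψ.range := by
    set P := D ⊔ Da with hP
    have hform : ∀ k ∈ K', ∃ d : ↥D, ∃ z ∈ D ⊓ Da, k = ψ d * z := by
      intro k hk
      obtain ⟨d1, hd1, y, hy, rfl⟩ := CfsgLib.Comp.exists_mul_of_mem_sup hDn (hKP hk)
      set d2 := a' * y * a'⁻¹ with hd2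
      have hd2D : d2 ∈ D := hswap y hy
      have hy2 : y = a' * d2 * a'⁻¹ := by
        rw [hd2, hinv]
        calc y = (a' * a') * y * (a' * a') := by rw [ha']; group
          _ = _ := by group
      have hfixk : a' * (d1 * y) * a'⁻¹ = d1 * y := by
        rw [mul_inv_eq_iff_eq_mul]
        exact (mem_centralizer_singleton_iff.1 (hK'a hk)).symm
      have hy' : a' * d1 * a'⁻¹ ∈ Da := ⟨d1, hd1, rfl⟩
      have e : d2⁻¹ * d1 = (a' * d1 * a'⁻¹) * y⁻¹ := by
        have h1 : d1 * y = d2 * (a' * d1 * a'⁻¹) := by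
          conv_lhs => rw [← hfixk]
          rw [hcomm d2 hd2D _ hy', hd2]; group
        calc d2⁻¹ * d1 = d2⁻¹ * (d1 * y) * y⁻¹ := by group
          _ = _ := by rw [h1]; group
      refine ⟨⟨d2, hd2D⟩, d2⁻¹ * d1, Subgroup.mem_inf.2 ⟨mul_mem (inv_mem hd2D) hd1,
        e ▸ mul_mem hy' (inv_mem hy)⟩, ?_⟩
      show d1 * y = d2 * (a' * d2 * a'⁻¹) * (d2⁻¹ * d1)
      rw [← hy2]
      have h2 : y * (d2⁻¹ * d1) = (d2⁻¹ * d1) * y :=
        (hcomm _ (mul_mem (inv_mem hd2D) hd1) y hy).symm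
      calc d1 * y = d2 * ((d2⁻¹ * d1) * y) := by group
        _ = d2 * (y * (d2⁻¹ * d1)) := by rw [h2]
        _ = _ := by group
    conv_lhs => rw [← hKperf]
    rw [commutator_le]
    intro p hp q hq
    obtain ⟨d, z, hz, rfl⟩ := hform p hp
    obtain ⟨e, w, hw, rfl⟩ := hform q hq
    have hc : ∀ z ∈ D ⊓ Da, ∀ x ∈ P, Commute x z := by
      intro z hz
      have hle : P ≤ centralizer ({z} : Set ↥Cb) := sup_le
        (fun x hx => mem_centralizer_singleton_iff.2 (hcomm x hx z (Subgroup.mem_inf.1 hz).2))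
        (fun x hx => mem_centralizer_singleton_iff.2 (hcomm z (Subgroup.mem_inf.1 hz).1 x hx).symm)
      exact fun x hx => mem_centralizer_singleton_iff.1 (hle hx)
    have hψP : ∀ x : ↥D, ψ x ∈ P := fun x => mul_mem (mem_sup_left x.2) (mem_sup_right ⟨x, x.2, rfl⟩)
    refine ⟨⁅d, e⁆, ?_⟩
    rw [map_commutatorElement]
    have hzP : z ∈ P := mem_sup_left (Subgroup.mem_inf.1 hz).1
    have c1 := (hc z hz _ (hψP e)).eq
    have c2 := (hc w hw _ (inv_mem (hψP d))).eq
    have c3 := (hc w hw z hzP).eq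
    rw [commutatorElement_def, commutatorElement_def]
    simp only [mul_inv_rev]
    symm
    calc ψ d * z * (ψ e * w) * (z⁻¹ * (ψ d)⁻¹) * (w⁻¹ * (ψ e)⁻¹)
        = ψ d * (z * ψ e) * w * z⁻¹ * (ψ d)⁻¹ * w⁻¹ * (ψ e)⁻¹ := by group
      _ = ψ d * (ψ e * z) * w * z⁻¹ * (ψ d)⁻¹ * w⁻¹ * (ψ e)⁻¹ := by rw [← c1]
      _ = ψ d * ψ e * (z * w) * z⁻¹ * (ψ d)⁻¹ * w⁻¹ * (ψ e)⁻¹ := by group
      _ = ψ d * ψ e * (w * z) * z⁻¹ * (ψ d)⁻¹ * w⁻¹ * (ψ e)⁻¹ := by rw [c3]
      _ = ψ d * ψ e * (w * (ψ d)⁻¹) * w⁻¹ * (ψ e)⁻¹ := by group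
      _ = ψ d * ψ e * ((ψ d)⁻¹ * w) * w⁻¹ * (ψ e)⁻¹ := by rw [← c2]
      _ = ψ d * ψ e * (ψ d)⁻¹ * (ψ e)⁻¹ := by group
  have hψcard : Nat.card ↥ψ.range ≤ Nat.card ↥D := Nat.le_of_dvd Nat.card_pos (card_range_dvd ψ)
  have hDK : Nat.card ↥D = Nat.card ↥K :=
    le_antisymm hcard (hKK' ▸ (card_le_of_le hKψ).trans hψcard)
  have hψr : K' = ψ.range := eq_of_le_of_card_ge hKψ (by rw [hKK', ← hDK]; exact hψcard)
  have hψinj : Function.Injective ψ := by
    rw [← MonoidHom.ker_eq_bot_iff, ← Subgroup.card_eq_one]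
    have h := ψ.ker.card_eq_card_quotient_mul_card_subgroup
    rw [Nat.card_congr (QuotientGroup.quotientKerEquivRange ψ).toEquiv, ← hψr, hKK', ← hDK] at h
    exact (Nat.eq_of_mul_eq_mul_left Nat.card_pos (by rw [mul_one]; exact h)).symm
  -- the part of `B` normalizing `D`
  have hBC : B ≤ Cb := fun x hx => mem_centralizer_singleton_iff.2 (hBab x hx b hb)
  set B' := B.subgroupOf Cb with hB'
  set B1 := B' ⊓ normalizer (D : Set ↥Cb) with hB1
  have haB' : a' ∈ B' := haB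
  have hB'ab : ∀ x ∈ B', ∀ y ∈ B', x * y = y * x := fun x hx y hy => Subtype.ext (hBab x hx y hy)
  have hB'K : ∀ x ∈ B', ∀ k ∈ K', x * k = k * x := fun x hx k hk =>
    Subtype.ext (mem_centralizer_iff.1 (hBle hx).2 k hk).symm
  have hmove : ∀ x ∈ B', D.map (MulAut.conj x).toMonoidHom = D ∨
      D.map (MulAut.conj x).toMonoidHom = Da := by
    intro x hx
    by_contra hcon
    push Not at hcon
    set Dx := D.map (MulAut.conj x).toMonoidHom
    set Dax := Da.map (MulAut.conj x).toMonoidHom with hDax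
    have hDxc : Cfsg.IsComponent Dx := CfsgLib.Comp.isComponent_map_conj hD x
    have hDaxc : Cfsg.IsComponent Dax := CfsgLib.Comp.isComponent_map_conj hDac x
    have hax : Dax = Dx.map (MulAut.conj a').toMonoidHom := by
      rw [hDax, hDa, CfsgLib.Coprime.map_conj_conj, CfsgLib.Coprime.map_conj_conj, hB'ab x hx a' haB']
    have hDaDa : Da.map (MulAut.conj a').toMonoidHom = D := by
      rw [hDa, CfsgLib.Coprime.map_conj_conj, ha']
      ext; simp [mem_map]
    have h1 : Dax ≠ D := fun e => hcon.2 (by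
      have := congrArg (Subgroup.map (MulAut.conj a').toMonoidHom) e
      rw [hax, CfsgLib.Coprime.map_conj_conj a' a' Dx, ha'] at this
      exact (show Dx.map (MulAut.conj (1 : ↥Cb)).toMonoidHom = Dx by ext; simp [mem_map]).symm.trans this)
    have h2 : Dax ≠ Da := fun e => hcon.1 (by
      have := congrArg (Subgroup.map (MulAut.conj a').toMonoidHom) e
      rw [hax, CfsgLib.Coprime.map_conj_conj a' a' Dx, ha', hDaDa] at this
      exact (show Dx.map (MulAut.conj (1 : ↥Cb)).toMonoidHom = Dx by ext; simp [mem_map]).symm.trans this)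
    have hcen : D ⊔ Da ≤ centralizer ((Dx ⊔ Dax : Subgroup ↥Cb) : Set ↥Cb) := by
      refine sup_le ?_ ?_ <;> rw [le_centralizer_iff] <;> refine sup_le ?_ ?_
      · exact (CfsgLib.Comp.component_eq_or_le_centralizer hDxc hD).resolve_left hcon.1
      · exact (CfsgLib.Comp.component_eq_or_le_centralizer hDaxc hD).resolve_left h1
      · exact (CfsgLib.Comp.component_eq_or_le_centralizer hDxc hDac).resolve_left hcon.2
      · exact (CfsgLib.Comp.component_eq_or_le_centralizer hDaxc hDac).resolve_left h2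
    have hKx : K' ≤ Dx ⊔ Dax := fun k hk => by
      have := mem_map_of_mem (MulAut.conj x).toMonoidHom (hKP hk)
      rw [Subgroup.map_sup] at this
      have e : (MulAut.conj x).toMonoidHom k = k := by
        simp [hB'K x hx k hk]
      rwa [e] at this
    have hab' : ⁅K', K'⁆ = ⊥ := commutator_eq_bot_iff_le_centralizer.2
      ((hKP.trans hcen).trans (centralizer_le hKx))
    rw [hKperf] at hab'
    rw [hab', card_bot] at heven
    omega
  have hB1fix : ∀ x ∈ B1, ∀ d ∈ D, x * d = d * x := by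
    rintro x ⟨hxB, hxN⟩ d hd
    have hxd : x * d * x⁻¹ ∈ D := (mem_normalizer_iff.1 hxN d).1 hd
    have e : ψ ⟨x * d * x⁻¹, hxd⟩ = ψ ⟨d, hd⟩ := by
      have hk : ψ ⟨d, hd⟩ ∈ K' := hψr ▸ ⟨⟨d, hd⟩, rfl⟩
      have h1 := hB'K x hxB _ hk
      show x * d * x⁻¹ * (a' * (x * d * x⁻¹) * a'⁻¹) = d * (a' * d * a'⁻¹)
      have c : x * a' = a' * x := hB'ab x hxB a' haB'
      calc x * d * x⁻¹ * (a' * (x * d * x⁻¹) * a'⁻¹) = x * d * x⁻¹ * ((a' * x) * d * (a' * x)⁻¹) := by group
        _ = x * d * x⁻¹ * ((x * a') * d * (x * a')⁻¹) := by rw [c]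
        _ = x * (d * (a' * d * a'⁻¹)) * x⁻¹ := by group
        _ = d * (a' * d * a'⁻¹) := by
          rw [show x * (d * (a' * d * a'⁻¹)) = d * (a' * d * a'⁻¹) * x from h1]; group
    exact mul_inv_eq_iff_eq_mul.1 (congrArg Subtype.val (hψinj e))
  have hB2 : Nat.card ↥B' ≤ Nat.card ↥B1 * 2 := by
    have hle : B' ≤ B1 ⊔ zpowers a' := by
      intro x hx
      rcases hmove x hx with h | h
      · exact mem_sup_left ⟨hx, CfsgLib.Comp.map_conj_eq_iff.1 h⟩
      · have hxa : x * a' ∈ B1 := by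
          refine ⟨mul_mem hx haB', CfsgLib.Comp.map_conj_eq_iff.1 ?_⟩
          rw [hB'ab x hx a' haB', ← CfsgLib.Coprime.map_conj_conj, h, hDa,
            CfsgLib.Coprime.map_conj_conj, ha']
          ext; simp [mem_map]
        have e : x = x * a' * a' := by rw [mul_assoc, ha', mul_one]
        rw [e]
        exact mul_mem (mem_sup_left hxa) (mem_sup_right (mem_zpowers a'))
    have hn : zpowers a' ≤ normalizer (B1 : Set ↥Cb) := le_trans (zpowers_le.2
      (mem_centralizer_iff.2 fun x hx => hB'ab x hx.1 a' haB')) (centralizer_le_normalizer _)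
    have ha'o : orderOf a' = 2 := by rw [← orderOf_coe]; exact ha
    refine (card_le_of_le hle).trans ?_
    have := CfsgLib.Comp.card_sup_dvd_mul hn
    rw [Nat.card_zpowers, ha'o] at this
    exact Nat.le_of_dvd (Nat.mul_pos Nat.card_pos (by norm_num)) this
  -- an elementary abelian subgroup of order at least four in `Da`
  let f : ↥D →* ↥Cb := (MulAut.conj a').toMonoidHom.comp D.subtype
  have hf : Function.Injective f := fun x y h => Subtype.ext ((MulAut.conj a').injective h)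
  let A5 : Subgroup ↥Cb := ((A4.map K.subtype).subgroupOf Cb).comap ψ |>.map f
  have hA5le : A5 ≤ Da := by
    rintro _ ⟨d, -, rfl⟩
    exact ⟨d, d.2, rfl⟩
  have hA5card : 4 ≤ Nat.card ↥A5 := by
    have hle : (A4.map K.subtype).subgroupOf Cb ≤ ψ.range := by
      rw [← hψr]
      exact fun x hx => show (x : G) ∈ K from map_subtype_le A4 hx
    rw [card_map_of_injective hf]
    have : ((((A4.map K.subtype).subgroupOf Cb).comap ψ).map ψ) = (A4.map K.subtype).subgroupOf Cb :=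
      map_comap_eq_self hle
    rw [← card_map_of_injective hψinj, this, Nat.card_congr (subgroupOfEquivOfLe
      ((map_subtype_le _).trans hKb)).toEquiv, card_map_of_injective K.subtype_injective]
    exact hA4
  have hA5e : ∀ x ∈ A5, x ^ 2 = 1 ∧ ∀ y ∈ A5, x * y = y * x := by
    rintro _ ⟨d, ⟨k, hk, hkd⟩, rfl⟩
    refine ⟨?_, ?_⟩
    · have : d ^ 2 = 1 := hψinj (by
        rw [map_pow, map_one]
        refine Subtype.ext ?_
        rw [Subgroup.coe_pow, Subgroup.coe_one, ← show (k : G) = (ψ d : ↥Cb) from hkd]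
        exact congrArg Subtype.val (hA4e k hk))
      rw [← map_pow, this, map_one]
    · rintro _ ⟨e, ⟨l, hl, hle⟩, rfl⟩
      have : d * e = e * d := hψinj (by
        rw [map_mul, map_mul]
        refine Subtype.ext ?_
        rw [Subgroup.coe_mul, Subgroup.coe_mul, ← show (k : G) = (ψ d : ↥Cb) from hkd,
          ← show (l : G) = (ψ e : ↥Cb) from hle]
        exact congrArg (fun z : ↥A4 => ((z : ↥K) : G)) (hA4c.is_comm.comm ⟨k, hk⟩ ⟨l, hl⟩))
      rw [← map_mul, this, map_mul]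
  set E := B1 ⊔ A5 with hE
  have hB1A5 : ∀ x ∈ B1, ∀ y ∈ A5, x * y = y * x := by
    intro x hx y hy
    obtain ⟨d, hd, rfl⟩ := hA5le hy
    have c : x * a' = a' * x := hB'ab x hx.1 a' haB'
    show x * (a' * d * a'⁻¹) = a' * d * a'⁻¹ * x
    calc x * (a' * d * a'⁻¹) = (x * a') * d * a'⁻¹ := by group
      _ = a' * (x * d) * a'⁻¹ := by rw [c]; group
      _ = a' * d * (x * a'⁻¹) := by rw [hB1fix x hx d hd]; group
      _ = _ := by rw [hinv, c]; group
  have hEn : A5 ≤ normalizer (B1 : Set ↥Cb) := fun y hy =>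
    centralizer_le_normalizer _ (mem_centralizer_iff.2 fun x hx => hB1A5 x hx y hy)
  have hEform : ∀ x ∈ E, ∃ u ∈ B1, ∃ v ∈ A5, u * v = x := fun x hx =>
    CfsgLib.Comp.exists_mul_of_mem_sup hEn hx
  have hdisj : B1 ⊓ A5 = ⊥ := by
    rw [eq_bot_iff]
    rintro x ⟨hx1, hx2⟩
    have hxDa := hA5le hx2
    have hxa : a' * x * a'⁻¹ = x := by rw [mul_inv_eq_iff_eq_mul]; exact (hB'ab x hx1.1 a' haB').symm
    have hxD : x ∈ D := hxa ▸ hswap x hxDa
    rw [mem_bot]
    have : ψ ⟨x, hxD⟩ = ψ 1 := by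
      rw [map_one]
      show x * (a' * x * a'⁻¹) = 1
      rw [hxa, ← pow_two]; exact (hA5e x hx2).1
    exact congrArg Subtype.val (hψinj this)
  have hEcard : Nat.card ↥E = Nat.card ↥B1 * Nat.card ↥A5 := by
    rw [← Nat.card_prod]
    refine (Nat.card_eq_of_bijective (fun q : ↥B1 × ↥A5 => (⟨(q.1 : ↥Cb) * q.2,
      mul_mem (mem_sup_left q.1.2) (mem_sup_right q.2.2)⟩ : ↥E)) ⟨?_, ?_⟩).symm
    · intro q r h
      have h' : (q.1 : ↥Cb) * q.2 = r.1 * r.2 := congrArg Subtype.val h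
      have he : (r.1 : ↥Cb)⁻¹ * q.1 = r.2 * (q.2 : ↥Cb)⁻¹ := by
        rw [eq_mul_inv_iff_mul_eq, mul_assoc, h', inv_mul_cancel_left]
      have hm : (r.1 : ↥Cb)⁻¹ * q.1 ∈ B1 ⊓ A5 :=
        Subgroup.mem_inf.2 ⟨mul_mem (inv_mem r.1.2) q.1.2, he ▸ mul_mem r.2.2 (inv_mem q.2.2)⟩
      rw [hdisj, mem_bot, inv_mul_eq_one] at hm
      rw [← hm] at h'
      exact Prod.ext (Subtype.ext hm.symm) (Subtype.ext (mul_left_cancel h'))
    · rintro ⟨x, hx⟩
      obtain ⟨u, hu, v, hv, rfl⟩ := hEform x hx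
      exact ⟨(⟨u, hu⟩, ⟨v, hv⟩), rfl⟩
  have hB'card : Nat.card ↥B' = Nat.card ↥B := Nat.card_congr (subgroupOfEquivOfLe hBC).toEquiv
  obtain ⟨m, hm⟩ := (show IsPGroup 2 ↥B from fun x => ⟨1, Subtype.ext (by simpa using hBel.2 x x.2)⟩).exists_card_eq
  have hWrk : Cfsg.PRankLE 2 m ↥W := by
    intro A hA hAe
    have e := Nat.card_congr (A.equivMapOfInjective _ W.subtype_injective).toEquiv
    rw [e, ← hm]
    refine hBmax _ (map_subtype_le _) ⟨⟨⟨?_⟩⟩, ?_⟩
    · rintro ⟨_, x, hx, rfl⟩ ⟨_, y, hy, rfl⟩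
      exact Subtype.ext (congrArg (fun z : ↥A => ((z : ↥W) : G)) (hA.is_comm.comm ⟨x, hx⟩ ⟨y, hy⟩))
    · rintro _ ⟨x, hx, rfl⟩
      exact congrArg Subtype.val (hAe x hx)
  have hbig := hrank hDK m hWrk
  set V := centralizer ({b} : Set G) ⊓ centralizer ((D.map Cb.subtype : Subgroup G) : Set G)
  have hEV : E.map Cb.subtype ≤ V := by
    rintro _ ⟨x, hx, rfl⟩
    refine ⟨x.2, mem_centralizer_iff.2 ?_⟩
    rintro _ ⟨d, hd, rfl⟩
    obtain ⟨u, hu, v, hv, rfl⟩ := hEform x hx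
    refine congrArg Subtype.val (?_ : d * (u * v) = u * v * d)
    rw [← mul_assoc, ← hB1fix u hu d hd, mul_assoc, hcomm d hd v (hA5le hv), mul_assoc]
  have hEcomm : ∀ x ∈ E, ∀ y ∈ E, x * y = y * x := by
    intro x hx y hy
    obtain ⟨u, hu, v, hv, rfl⟩ := hEform x hx
    obtain ⟨u', hu', v', hv', rfl⟩ := hEform y hy
    have c1 : Commute u u' := hB'ab u hu.1 u' hu'.1
    have c2 : Commute u v' := hB1A5 u hu v' hv'
    have c3 : Commute v u' := (hB1A5 u' hu' v hv).symm
    have c4 : Commute v v' := (hA5e v hv).2 v' hv'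
    exact ((c1.mul_right c2).mul_left (c3.mul_right c4)).eq
  have hEsq : ∀ x ∈ E, x ^ 2 = 1 := by
    intro x hx
    obtain ⟨u, hu, v, hv, rfl⟩ := hEform x hx
    rw [(show Commute u v from hB1A5 u hu v hv).mul_pow, (hA5e v hv).1,
      show u ^ 2 = 1 from Subtype.ext (hBel.2 u hu.1), one_mul]
  have hfin := hbig ((E.map Cb.subtype).subgroupOf V) (⟨⟨fun x y => by
      obtain ⟨x', hx', ex⟩ := mem_subgroupOf.1 x.2
      obtain ⟨y', hy', ey⟩ := mem_subgroupOf.1 y.2
      refine Subtype.ext (Subtype.ext ?_)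
      show ((x : ↥V) : G) * (y : ↥V) = ((y : ↥V) : G) * (x : ↥V)
      rw [← ex, ← ey]
      exact congrArg Subtype.val (hEcomm x' hx' y' hy')⟩⟩) (fun x hx => by
      obtain ⟨x', hx', ex⟩ := mem_subgroupOf.1 hx
      refine Subtype.ext ?_
      rw [Subgroup.coe_pow, Subgroup.coe_one, ← ex]
      exact congrArg Subtype.val (hEsq x' hx'))
  rw [Nat.card_congr (subgroupOfEquivOfLe hEV).toEquiv, card_map_of_injective Cb.subtype_injective,
    hEcard, ← hm] at hfin
  have h1 : Nat.card ↥B1 * 4 ≤ Nat.card ↥B1 * Nat.card ↥A5 := Nat.mul_le_mul_left _ hA5card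
  have hpos : 0 < Nat.card ↥B1 := Nat.card_pos
  omega

end Cfsg.Agent.S1305
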