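import Cfsg.Statements.S1306
import Cfsg.Agent.Lib.Comp.Components
-- import your own Cfsg.Agent.* helpers here

set_option autoImplicit false
open Cfsg

namespace Cfsg.Agent.S1306

open Subgroup

/-- Let G be finite, x an involution and L ≤ C_G(x) a component of C_G(x). Suppose L is a component of C_G(y) for every involution y ∈ C_G(L), and ⁅L, g L g⁻¹⁆ ≠ 1 whenever g L g⁻¹ ≠ L. Then L is a standard subgroup of G. -/
theorem result {G : Type*} [Group G] [Finite G] (x : G) (hx : orderOf x = 2) (L : Subgroup G) (hLx : L ≤ Subgroup.centralizer ({x} : Set G)) (hL : Cfsg.IsComponent (L.subgroupOf (Subgroup.centralizer ({x} : Set G)))) (hne : ∀ y : G, orderOf y = 2 → y ∈ Subgroup.centralizer (L : Set G) → L ≤ Subgroup.centralizer ({y} : Set G) ∧ Cfsg.IsComponent (L.subgroupOf (Subgroup.centralizer ({y} : Set G)))) (hnc : ∀ g : G, L.map (MulAut.conj g).toMonoidHom ≠ L → ⁅L, L.map (MulAut.conj g).toMonoidHom⁆ ≠ ⊥) : Cfsg.IsStandardSubgroup L := by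
  have hLq : Cfsg.IsQuasisimple ↥L :=
    CfsgLib.Comp.isQuasisimple_congr (subgroupOfEquivOfLe hLx) hL.2
  have hxC : x ∈ centralizer (L : Set G) := by
    rw [mem_centralizer_iff]
    exact fun l hl => mem_centralizer_singleton_iff.1 (hLx hl)
  have hxo : ∀ g : G, orderOf (g * x * g⁻¹) = 2 := fun g => by
    rw [show g * x * g⁻¹ = MulAut.conj g x from rfl, MulEquiv.orderOf_eq, hx]
  -- two conjugates of L centralized by one involution are equal
  have key : ∀ g y : G, orderOf y = 2 → y ∈ centralizer (L : Set G) →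
      g⁻¹ * y * g ∈ centralizer (L : Set G) → L.map (MulAut.conj g).toMonoidHom = L := by
    intro g y hy hyC hyC'
    by_contra hne'
    apply hnc g hne'
    obtain ⟨hLy, hc1⟩ := hne y hy hyC
    have hy' : orderOf (g⁻¹ * y * g) = 2 := by
      rw [show g⁻¹ * y * g = MulAut.conj g⁻¹ y by simp, MulEquiv.orderOf_eq, hy]
    obtain ⟨hLy', hc2⟩ := hne _ hy' hyC'
    have hgy : g * (g⁻¹ * y * g) * g⁻¹ = y := by group
    have hC : (centralizer ({g⁻¹ * y * g} : Set G)).map (MulAut.conj g).toMonoidHom = centralizer {y} := by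
      ext z
      rw [CfsgLib.Comp.mem_map_conj, mem_centralizer_singleton_iff, mem_centralizer_singleton_iff]
      constructor <;> intro e
      · calc z * y = g * ((g⁻¹ * z * g) * (g⁻¹ * y * g)) * g⁻¹ := by group
          _ = g * ((g⁻¹ * y * g) * (g⁻¹ * z * g)) * g⁻¹ := by rw [e]
          _ = y * z := by group
      · calc (g⁻¹ * z * g) * (g⁻¹ * y * g) = g⁻¹ * (z * y) * g := by group
          _ = g⁻¹ * (y * z) * g := by rw [e]
          _ = _ := by group
    have hL2 : L.map (MulAut.conj g).toMonoidHom ≤ centralizer ({y} : Set G) := hC ▸ map_mono hLy'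
    let e : ↥(centralizer ({g⁻¹ * y * g} : Set G)) ≃* ↥(centralizer ({y} : Set G)) :=
      ((centralizer ({g⁻¹ * y * g} : Set G)).equivMapOfInjective _ (MulAut.conj g).injective).trans
        (MulEquiv.subgroupCongr hC)
    have hc3 : Cfsg.IsComponent ((L.map (MulAut.conj g).toMonoidHom).subgroupOf (centralizer {y})) := by
      have := CfsgLib.Comp.isComponent_map_mulEquiv e hc2
      convert this using 1
      ext z
      rw [mem_subgroupOf, Subgroup.mem_map, Subgroup.mem_map]
      constructor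
      · rintro ⟨l, hl, hlz⟩
        exact ⟨⟨l, hLy' hl⟩, hl, Subtype.ext hlz⟩
      · rintro ⟨l, hl, hlz⟩
        exact ⟨l, hl, congrArg Subtype.val hlz⟩
    have hne'' : L.subgroupOf (centralizer {y}) ≠
        (L.map (MulAut.conj g).toMonoidHom).subgroupOf (centralizer {y}) := by
      intro e1
      have h1 := congrArg (Subgroup.map (centralizer ({y} : Set G)).subtype) e1
      rw [map_subgroupOf_eq_of_le hLy, map_subgroupOf_eq_of_le hL2] at h1
      exact hne' h1.symm
    have h2 := congrArg (Subgroup.map (centralizer ({y} : Set G)).subtype)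
      (CfsgLib.Comp.component_commutator_eq_bot hc1 hc3 hne'')
    rwa [Subgroup.map_commutator, map_subgroupOf_eq_of_le hLy, map_subgroupOf_eq_of_le hL2,
      Subgroup.map_bot] at h2
  refine ⟨hLq, ⟨?_, fun g hg => ?_⟩, hnc, le_antisymm (CfsgLib.Comp.normalizer_le_normalizer_centralizer L) ?_⟩
  · rw [even_iff_two_dvd]
    have := orderOf_dvd_natCard (⟨x, hxC⟩ : ↥(centralizer (L : Set G)))
    rwa [← orderOf_coe, hx] at this
  · rw [← Nat.not_even_iff_odd, even_iff_two_dvd]
    intro hd
    haveI : Fact (Nat.Prime 2) := ⟨Nat.prime_two⟩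
    obtain ⟨⟨y, hy1, hy2⟩, hyo⟩ := exists_prime_orderOf_dvd_card' 2 hd
    rw [← orderOf_coe] at hyo
    apply hg
    have := key g y hyo hy1 (CfsgLib.Comp.mem_map_conj.1 hy2)
    exact CfsgLib.Comp.normalizer_le_normalizer_centralizer L (CfsgLib.Comp.map_conj_eq_iff.1 this)
  · intro g hg
    refine CfsgLib.Comp.map_conj_eq_iff.1 (key g x hx hxC ?_)
    exact (mem_normalizer_iff''.1 hg x).1 hxC

end Cfsg.Agent.S1306
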