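import Cfsg.Statements.S1307
import Cfsg.Agent.Lib.Comp.Quasisimple
import Cfsg.Agent.Lib.Invol.BrauerSuzuki
import Cfsg.Agent.Lib.Invol.RankOne
import Mathlib.GroupTheory.Transfer

set_option autoImplicit false
open Cfsg
open scoped commutatorElement

namespace Cfsg.Agent.S1307

/-- Let G be finite, x an involution and L ≤ C_G(x) a component of C_G(x) of even order and 2-rank 1, such that L is a component of C_G(y) for every involution y ∈ C_G(L). Then some involution of L is a classical involution of G. -/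
theorem result {G : Type*} [Group G] [Finite G] (x : G) (hx : orderOf x = 2) (L : Subgroup G) (hLx : L ≤ Subgroup.centralizer ({x} : Set G)) (hL : Cfsg.IsComponent (L.subgroupOf (Subgroup.centralizer ({x} : Set G)))) (heven : Even (Nat.card ↥L)) (hrk : Cfsg.PRankLE 2 1 ↥L) (hne : ∀ y : G, orderOf y = 2 → y ∈ Subgroup.centralizer (L : Set G) → L ≤ Subgroup.centralizer ({y} : Set G) ∧ Cfsg.IsComponent (L.subgroupOf (Subgroup.centralizer ({y} : Set G)))) : ∃ t ∈ L, Cfsg.IsClassicalInvolution t := by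
  set C := Subgroup.centralizer ({x} : Set G)
  have hq : Cfsg.IsQuasisimple ↥L := CfsgLib.Comp.isQuasisimple_congr (Subgroup.subgroupOfEquivOfLe hLx) hL.2
  have : Group.IsPerfect ↥L := hq.1
  have hK : ∀ E : Subgroup ↥L, ¬ IsKleinFour ↥E := by
    intro E hE
    have h1 := hrk E (IsMulCommutative.of_comm fun a b => mul_comm_of_exponent_two hE.exponent_two a b)
      (fun a ha => by
        have := congrArg Subtype.val (Monoid.pow_exponent_eq_one (⟨a, ha⟩ : ↥E))
        rw [hE.exponent_two] at this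
        simpa using this)
    rw [hE.card_four] at h1
    norm_num at h1
  obtain ⟨z, hz⟩ := exists_prime_orderOf_dvd_card' (G := ↥L) 2 (even_iff_two_dvd.1 heven)
  have hO : (Cfsg.oddCore ↥L).Normal := Cfsg.pPrimeCore_normal 2 _
  have hOc : Cfsg.oddCore ↥L ≤ Subgroup.center ↥L := by
    refine (CfsgLib.Comp.normal_eq_top_or_le_center hq (Cfsg.oddCore ↥L)).resolve_left fun h => ?_
    have hodd := CfsgLib.Invol.odd_card_oddCore ↥L
    rw [h, Subgroup.card_top] at hodd
    exact (Nat.not_even_iff_odd.2 hodd) heven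
  have hiso := CfsgLib.Invol.rankOne_isolated hK hz
  have hzc : z ∈ Subgroup.center ↥L := by
    rw [Subgroup.mem_center_iff]
    intro g
    let φ : ↥L →* ↥(Subgroup.center ↥L) :=
      { toFun := fun g => ⟨z * g * z⁻¹ * g⁻¹, hOc (CfsgLib.Invol.zstar ↥L hiso g)⟩
        map_one' := Subtype.ext (by simp)
        map_mul' := fun a b => Subtype.ext (by
          have hc := Subgroup.mem_center_iff.1 (hOc (CfsgLib.Invol.zstar ↥L hiso b)) a
          show z * (a * b) * z⁻¹ * (a * b)⁻¹ = z * a * z⁻¹ * a⁻¹ * (z * b * z⁻¹ * b⁻¹)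
          calc z * (a * b) * z⁻¹ * (a * b)⁻¹
              = z * a * z⁻¹ * (z * b * z⁻¹ * b⁻¹) * a⁻¹ := by group
            _ = z * a * z⁻¹ * a⁻¹ * (a * (z * b * z⁻¹ * b⁻¹)) * a⁻¹ := by group
            _ = z * a * z⁻¹ * a⁻¹ * ((z * b * z⁻¹ * b⁻¹) * a) * a⁻¹ := by rw [hc]
            _ = z * a * z⁻¹ * a⁻¹ * (z * b * z⁻¹ * b⁻¹) := by group) }
    have hker : commutator ↥L ≤ φ.ker := by
      rw [commutator_def, Subgroup.commutator_le]
      intro a _ b _
      rw [MonoidHom.mem_ker, map_commutatorElement, commutatorElement_eq_one_iff_commute]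
      exact Subtype.ext (Subgroup.mem_center_iff.1 (φ b).2 (φ a : ↥L))
    rw [Group.IsPerfect.commutator_eq_top] at hker
    have h1 : z * g * z⁻¹ * g⁻¹ = 1 := congrArg Subtype.val (hker (Subgroup.mem_top g) : φ g = 1)
    exact (mul_inv_eq_iff_eq_mul.1 (mul_inv_eq_one.1 h1)).symm
  obtain ⟨S⟩ : Nonempty (Sylow 2 ↥L) := inferInstance
  have hSQ : ∃ n : ℕ, Nonempty (↥(S : Subgroup ↥L) ≃* QuaternionGroup (2 ^ (n + 1))) := by
    have hnc : ¬ IsCyclic ↥(S : Subgroup ↥L) := by
      intro hcyc
      have hmf : (Nat.card ↥L).minFac = 2 := (Nat.minFac_eq_two_iff _).2 (even_iff_two_dvd.1 heven)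
      have := hcyc.isMulCommutative
      have hNC := hcyc.normalizer_le_centralizer hmf
      have hker : commutator ↥L ≤ (MonoidHom.transferSylow S hNC).ker := by
        rw [commutator_def, Subgroup.commutator_le]
        intro a _ b _
        rw [MonoidHom.mem_ker, map_commutatorElement, commutatorElement_eq_one_iff_commute]
        exact hcyc.isMulCommutative.is_comm.comm _ _
      rw [Group.IsPerfect.commutator_eq_top] at hker
      have hc := MonoidHom.ker_transferSylow_isComplement' S hNC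
      rw [top_le_iff.1 hker, Subgroup.isComplement'_top_left] at hc
      exact S.ne_bot_of_dvd_card (even_iff_two_dvd.1 heven) hc
    rcases CfsgLib.Invol.rankOne_sylow hK S with hc | ⟨n, ⟨e⟩⟩
    · exact absurd hc hnc
    · match n, e with
      | 0, e =>
        have : IsCyclic (QuaternionGroup (2 ^ 0)) := QuaternionGroup.quaternionGroup_one_isCyclic
        exact absurd (isCyclic_of_injective e.toMonoidHom e.injective) hnc
      | m + 1, e => exact ⟨m, ⟨e⟩⟩
  have hzo : orderOf (z : G) = 2 := by rw [Subgroup.orderOf_coe, hz]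
  have hzC : (z : G) ∈ Subgroup.centralizer (L : Set G) :=
    Subgroup.mem_centralizer_iff.2 fun y hy => congrArg Subtype.val (Subgroup.mem_center_iff.1 hzc ⟨y, hy⟩)
  obtain ⟨hLz, hcomp⟩ := hne z hzo hzC
  obtain ⟨n, hn⟩ := hSQ
  exact ⟨z, z.2, hzo, L, hLz, z.2, hcomp.1, S, n, hn⟩

end Cfsg.Agent.S1307
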