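import Cfsg.Statements.S1313
import Cfsg.Agent.Lib.Comp.FStar
-- import your own Cfsg.Agent.* helpers here

set_option autoImplicit false
open Cfsg

namespace Cfsg.Agent.S1313

open Subgroup

/-- For a finite group H, |H| ≤ |F*(H)|!. -/
theorem result {H : Type*} [Group H] [Finite H] : Nat.card H ≤ Nat.factorial (Nat.card ↥(Cfsg.generalizedFittingSubgroup H)) := by
  classical
  set F := Cfsg.generalizedFittingSubgroup H
  haveI := CfsgLib.Comp.generalizedFittingSubgroup_normal H
  let φ : H →* MulAut ↥F := MulAut.conjNormal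
  have hker : φ.ker ≤ F := by
    intro h hh
    refine CfsgLib.Comp.centralizer_generalizedFitting_le H (mem_centralizer_iff.2 fun f hf => ?_)
    have h1 := congrArg (fun e : MulAut ↥F => ((e ⟨f, hf⟩ : ↥F) : H)) (MonoidHom.mem_ker.1 hh)
    simp only [φ, MulAut.conjNormal_apply, MulAut.one_apply] at h1
    exact (mul_inv_eq_iff_eq_mul.1 h1).symm
  let ψ : MulAut ↥F → Equiv.Perm {x : ↥F // x ≠ 1} := fun e =>
    Equiv.subtypeEquiv e.toEquiv (fun a => by simp)
  have hψ : Function.Injective ψ := by
    intro a b hab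
    ext x
    by_cases hx : x = 1
    · simp [hx]
    · exact congrArg (fun z : {x : ↥F // x ≠ 1} => (((z : ↥F)) : H)) (Equiv.congr_fun hab ⟨x, hx⟩)
  have h1 : Nat.card φ.range ≤ (Nat.card ↥F - 1).factorial := by
    refine (Nat.card_le_card_of_injective (fun x => ψ (φ.range.subtype x))
      (hψ.comp φ.range.subtype_injective)).trans ?_
    rw [Nat.card_perm]
    apply Nat.factorial_le
    haveI : Fintype ↥F := Fintype.ofFinite _
    rw [Nat.card_eq_fintype_card, Nat.card_eq_fintype_card, Fintype.card_subtype_compl,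
      Fintype.card_subtype_eq]
  have h2 : Nat.card φ.ker ≤ Nat.card ↥F :=
    Nat.card_le_card_of_injective (inclusion hker) (inclusion_injective hker)
  calc Nat.card H = Nat.card φ.ker * φ.ker.index := (card_mul_index _).symm
    _ ≤ Nat.card ↥F * (Nat.card ↥F - 1).factorial := by
        rw [index_ker]; exact Nat.mul_le_mul h2 h1
    _ = (Nat.card ↥F).factorial := Nat.mul_factorial_pred Nat.card_pos.ne'

end Cfsg.Agent.S1313
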