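import Cfsg.Statements.S1316
import Cfsg.Agent.Lib.Comp.FStar
-- import your own Cfsg.Agent.* helpers here

set_option autoImplicit false
open Cfsg

namespace Cfsg.Agent.S1316

open Subgroup

/-- For a finite group X, E(X) equals the intersection of the derived series of F*(X) (its last term). -/
theorem result {X : Type*} [Group X] [Finite X] : (⨅ n : ℕ, (derivedSeries ↥(Cfsg.generalizedFittingSubgroup X) n).map (Cfsg.generalizedFittingSubgroup X).subtype) = Cfsg.layer X := by
  haveI := CfsgLib.Comp.layer_normal X
  haveI := CfsgLib.Comp.isNilpotent_fittingSubgroup X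
  set E := Cfsg.layer X
  set S := Cfsg.generalizedFittingSubgroup X
  have hlow : ∀ n, E ≤ (derivedSeries ↥S n).map S.subtype := by
    intro n
    induction n with
    | zero =>
      rw [derivedSeries_zero, ← MonoidHom.range_eq_map, range_subtype]
      exact CfsgLib.Comp.layer_le_generalizedFitting X
    | succ n ih =>
      rw [derivedSeries_succ, Subgroup.map_commutator]
      exact (CfsgLib.Comp.commutator_layer_self X).ge.trans (commutator_mono ih ih)
  refine le_antisymm ?_ (le_iInf hlow)
  have hhigh : ∀ n, ((derivedSeries ↥S n).map S.subtype).map (QuotientGroup.mk' E) ≤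
      ((derivedSeries ↥(Cfsg.fittingSubgroup X) n).map (Cfsg.fittingSubgroup X).subtype).map
        (QuotientGroup.mk' E) := by
    intro n
    induction n with
    | zero =>
      rw [derivedSeries_zero, derivedSeries_zero, ← MonoidHom.range_eq_map, range_subtype,
        ← MonoidHom.range_eq_map, range_subtype]
      change (E ⊔ Cfsg.fittingSubgroup X).map _ ≤ _
      rw [Subgroup.map_sup, QuotientGroup.map_mk'_self, bot_sup_eq]
    | succ n ih =>
      rw [derivedSeries_succ, derivedSeries_succ, Subgroup.map_commutator, Subgroup.map_commutator,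
        Subgroup.map_commutator, Subgroup.map_commutator]
      exact commutator_mono ih ih
  haveI : Group.IsSolvable ↥(Cfsg.fittingSubgroup X) := inferInstance
  obtain ⟨n, hn⟩ := (Group.isSolvable_def (G := ↥(Cfsg.fittingSubgroup X))).1 inferInstance
  refine iInf_le_of_le n ?_
  have h := hhigh n
  rw [hn, Subgroup.map_bot, Subgroup.map_bot, le_bot_iff, Subgroup.map_eq_bot_iff,
    QuotientGroup.ker_mk'] at h
  exact h

end Cfsg.Agent.S1316
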