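import Cfsg.Statements.S1317
import Cfsg.Agent.Lib.Comp.FStar
-- import your own Cfsg.Agent.* helpers here

set_option autoImplicit false
open Cfsg

namespace Cfsg.Agent.S1317

/-- For a finite group X, the centre of the layer E(X) is F(X) ∩ E(X). -/
theorem result {X : Type*} [Group X] [Finite X] : (Subgroup.center ↥(Cfsg.layer X)).map (Cfsg.layer X).subtype = Cfsg.fittingSubgroup X ⊓ Cfsg.layer X := by
  rw [CfsgLib.Comp.fittingSubgroup_inf_layer]
  ext x
  simp only [Subgroup.mem_map, Subgroup.mem_inf, Subgroup.mem_centralizer_iff, Subgroup.mem_center_iff]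
  constructor
  · rintro ⟨y, hy, rfl⟩
    exact ⟨y.2, fun h hh => congrArg Subtype.val (hy ⟨h, hh⟩)⟩
  · rintro ⟨hx, hc⟩
    exact ⟨⟨x, hx⟩, fun h => Subtype.ext (hc h h.2), rfl⟩

end Cfsg.Agent.S1317
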