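import Cfsg.Statements.S1321
import Cfsg.Agent.Lib.Comp.Components
-- import your own Cfsg.Agent.* helpers here

set_option autoImplicit false
open Cfsg

namespace Cfsg.Agent.S1321

open Subgroup
open scoped commutatorElement

/-- Let X be finite and U ≤ X. Then E(X) is generated by C_{E(X)}(U) together with ⁅E(X), U⁆ (indeed it is their product, ⁅E(X), U⁆ being normal in E(X)). -/
theorem result {X : Type*} [Group X] [Finite X] (U : Subgroup X) : Cfsg.layer X = (Cfsg.layer X ⊓ Subgroup.centralizer (U : Set X)) ⊔ ⁅Cfsg.layer X, U⁆ ∧ ⁅Cfsg.layer X, U⁆ ≤ Cfsg.layer X := by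
  set E := Cfsg.layer X
  haveI : E.Normal := CfsgLib.Comp.layer_normal X
  have hCE : ⁅E, U⁆ ≤ E := commutator_le_left E U
  refine ⟨le_antisymm ?_ (sup_le inf_le_left hCE), hCE⟩
  refine sSup_le fun L hL => ?_
  have hLE : L ≤ E := CfsgLib.Comp.le_layer hL
  by_cases hc : L ≤ centralizer (U : Set X)
  · exact le_sup_of_le_left (le_inf hLE hc)
  refine le_sup_of_le_right ?_
  have hnC : E ≤ normalizer ((⁅E, U⁆ : Subgroup X) : Set X) := normalizer_commutator_ge_left E U
  obtain ⟨u, hu, hnu⟩ : ∃ u ∈ U, ¬ L ≤ centralizer ({u} : Set X) := by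
    by_contra h
    push Not at h
    refine hc fun l hl => mem_centralizer_iff.2 fun u hu => ?_
    exact (mem_centralizer_singleton_iff.1 (h u hu hl)).symm
  set L' := L.map (MulAut.conj u).toMonoidHom
  have hL' : Cfsg.IsComponent L' := CfsgLib.Comp.isComponent_map_conj hL u
  have hb : ∀ b ∈ L, (u * b * u⁻¹) * b⁻¹ ∈ ⁅E, U⁆ := by
    intro b hb
    have h := inv_mem (commutator_mem_commutator (hLE hb) hu)
    simpa [commutatorElement_def, mul_assoc] using h
  rcases CfsgLib.Comp.component_eq_or_le_centralizer hL hL' with heq | hcomm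
  · -- `u` normalizes L
    have hle : L.subgroupOf L = ⊤ := subgroupOf_self L
    set C := (⁅E, U⁆).subgroupOf L
    haveI : C.Normal := normal_subgroupOf_of_le_normalizer (hLE.trans hnC)
    rcases CfsgLib.Comp.normal_eq_top_or_le_center hL.2 C with h | h
    · exact subgroupOf_eq_top.1 h
    · exfalso
      apply hnu
      haveI := hL.2.1
      let α : ↥L ≃* ↥L := (L.equivMapOfInjective _ (MulAut.conj u).injective).trans
        (MulEquiv.subgroupCongr heq.symm)
      have hα : ∀ b : ↥L, α b * b⁻¹ ∈ center ↥L := fun b => h (mem_subgroupOf.2 (hb b b.2))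
      intro l hl
      rw [mem_centralizer_singleton_iff]
      have h1 : u * l * u⁻¹ = l :=
        congrArg Subtype.val (CfsgLib.Comp.mulEquiv_eq_of_perfect α hα ⟨l, hl⟩)
      calc l * u = u * l * u⁻¹ * u := by rw [h1]
        _ = u * l := by group
  · rw [← CfsgLib.Comp.commutator_self_of_isComponent hL, commutator_le]
    intro a ha b hb'
    set b' := u * b * u⁻¹
    have hab : b' * a = a * b' := mem_centralizer_iff.1 (hcomm ha) b' ⟨b, hb', rfl⟩
    set c := b' * b⁻¹
    have hcC : c ∈ ⁅E, U⁆ := hb b hb'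
    have he : ⁅a, b⁆ = (a * c⁻¹ * a⁻¹) * c := by
      have hb2 : b = c⁻¹ * b' := by simp [c, mul_assoc]
      have hab' : b' * a⁻¹ = a⁻¹ * b' := by
        calc b' * a⁻¹ = a⁻¹ * (a * b') * a⁻¹ := by group
          _ = a⁻¹ * (b' * a) * a⁻¹ := by rw [hab]
          _ = _ := by group
      rw [commutatorElement_def, hb2]
      calc a * (c⁻¹ * b') * a⁻¹ * (c⁻¹ * b')⁻¹ = a * c⁻¹ * (b' * a⁻¹) * b'⁻¹ * c := by group
        _ = a * c⁻¹ * (a⁻¹ * b') * b'⁻¹ * c := by rw [hab']
        _ = _ := by group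
    rw [he]
    exact mul_mem ((mem_normalizer_iff.1 (hnC (hLE ha)) _).1 (inv_mem hcC)) hcC

end Cfsg.Agent.S1321
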