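import Cfsg.Statements.S1322
import Cfsg.Agent.S0205
import Cfsg.Agent.Lib.Comp.BComponent

set_option autoImplicit false
open Cfsg
open Subgroup
open scoped commutatorElement

namespace Cfsg.Agent.S1322

/-- Let G be finite with L_{2'}(G) = E(G), t an involution and L ≤ C_G(t) a component of C_G(t). Then there is a component D of G with: L = D; or L < D and D = ⁅D, ⟨t⟩⁆; or tDt⁻¹ ≠ D and L is the layer of C_{D ⊔ tDt⁻¹}(t). -/
theorem result {G : Type*} [Group G] [Finite G] (hL2 : Cfsg.pLayer 2 G = Cfsg.layer G) (t : G) (ht : orderOf t = 2) (L : Subgroup G) (hLt : L ≤ Subgroup.centralizer ({t} : Set G)) (hL : Cfsg.IsComponent (L.subgroupOf (Subgroup.centralizer ({t} : Set G)))) : ∃ D : Subgroup G, Cfsg.IsComponent D ∧ (L = D ∨ (L < D ∧ D = ⁅D, Subgroup.zpowers t⁆) ∨ (D.map (MulAut.conj t).toMonoidHom ≠ D ∧ L = (Cfsg.layer ↥((D ⊔ D.map (MulAut.conj t).toMonoidHom) ⊓ Subgroup.centralizer ({t} : Set G))).map ((D ⊔ D.map (MulAut.conj t).toMonoidHom)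 ⊓ Subgroup.centralizer ({t} : Set G)).subtype)) := by
  classical
  set C := centralizer ({t} : Set G) with hC
  set c : G →* G := (MulAut.conj t).toMonoidHom with hc
  have hca : ∀ x, c x = t * x * t⁻¹ := fun x => by simp [hc]
  have ht2 : t * t = 1 := by rw [← pow_two, ← ht]; exact pow_orderOf_eq_one t
  have hti : t⁻¹ = t := inv_eq_of_mul_eq_one_right ht2
  have hQL : Cfsg.IsQuasisimple L := CfsgLib.Comp.isQuasisimple_congr (subgroupOfEquivOfLe hLt) hL.2
  have hLperf : ⁅L, L⁆ = L := Subgroup.isPerfect_iff.1 hQL.1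
  have heven : 2 ∣ Nat.card ↥L := by
    by_contra h
    exact CfsgLib.Comp.not_isSolvable_of_isQuasisimple hQL
      (Cfsg.Agent.S0205.result (Nat.odd_iff.2 (Nat.two_dvd_ne_zero.1 h)))
  obtain ⟨D, hD, hDC, hLP⟩ :=
    CfsgLib.Comp.component_of_centralizer_involution hL2.le ht2 hLt hL heven
  refine ⟨D, hD, ?_⟩
  by_cases hinv : D.map c = D
  · have hLD : L ≤ D := hLP.trans (sup_le le_rfl hinv.le)
    rcases eq_or_lt_of_le hLD with h | h
    · exact Or.inl h
    refine Or.inr (Or.inl ⟨h, ?_⟩)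
    have hnt : t ∈ normalizer (D : Set G) := CfsgLib.Comp.map_conj_eq_iff.1 hinv
    set M := ⁅D, zpowers t⁆ with hM
    have hMD : M ≤ D := by
      rw [hM, commutator_le]
      intro x hx y hy
      have hyn : y ∈ normalizer (D : Set G) := zpowers_le.2 hnt hy
      rw [commutatorElement_def, show x * y * x⁻¹ * y⁻¹ = x * (y * x⁻¹ * y⁻¹) by group]
      exact mul_mem hx ((mem_normalizer_iff.1 hyn _).1 (inv_mem hx))
    have hn : (M.subgroupOf D).Normal :=
      normal_subgroupOf_of_le_normalizer (normalizer_commutator_ge_left D (zpowers t))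
    rcases CfsgLib.Comp.normal_eq_top_or_le_center hD.2 (M.subgroupOf D) with e | e
    · exact (le_antisymm hMD (subgroupOf_eq_top.1 e)).symm
    exfalso
    have : Group.IsPerfect ↥D := hD.2.1
    let α : MulAut ↥D := D.normalizerMonoidHom ⟨t, hnt⟩
    have hfix : ∀ x : ↥D, α x = x := CfsgLib.Comp.mulEquiv_eq_of_perfect α fun x => e (by
      show ((α x * x⁻¹ : ↥D) : G) ∈ M
      have h1 : ⁅(x : G), t⁆ ∈ M := commutator_mem_commutator x.2 (mem_zpowers t)
      have h2 := inv_mem h1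
      rw [commutatorElement_inv, commutatorElement_def] at h2
      exact h2)
    have hDt : D ≤ C := fun x hx => by
      have h1 : t * x * t⁻¹ = x := congrArg Subtype.val (hfix ⟨x, hx⟩)
      rw [hC, mem_centralizer_singleton_iff]
      exact (mul_inv_eq_iff_eq_mul.1 h1).symm
    rcases CfsgLib.Comp.component_eq_or_le_centralizer hL
      (CfsgLib.Comp.isComponent_subgroupOf hDt hD) with e1 | e1
    · refine h.ne ?_
      have := congrArg (Subgroup.map C.subtype) e1
      rwa [map_subgroupOf_eq_of_le hLt, map_subgroupOf_eq_of_le hDt] at this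
    · apply hDC
      intro x hx
      rw [mem_centralizer_iff]
      intro y hy
      exact congrArg Subtype.val (mem_centralizer_iff.1
        (e1 (show (⟨x, hLt hx⟩ : ↥C) ∈ L.subgroupOf C from hx)) ⟨y, hDt hy⟩ hy)
  refine Or.inr (Or.inr ⟨hinv, ?_⟩)
  set Dt := D.map c with hDt
  have hDtc : Cfsg.IsComponent Dt := CfsgLib.Comp.isComponent_map_conj hD t
  have hcomm : ∀ x ∈ D, ∀ y ∈ Dt, x * y = y * x := fun x hx y hy =>
    (mem_centralizer_iff.1 ((CfsgLib.Comp.component_eq_or_le_centralizer hD hDtc).resolve_left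
      (fun e => hinv e.symm) hx) y hy).symm
  set H := (D ⊔ Dt) ⊓ C with hH
  show L = (Cfsg.layer ↥H).map H.subtype
  have hDn : Dt ≤ normalizer (D : Set G) :=
    (CfsgLib.Comp.le_layer hDtc).trans (CfsgLib.Comp.layer_le_normalizer_component hD)
  let φ : ↥D →* G :=
    { toFun := fun x => (x : G) * c x
      map_one' := by simp
      map_mul' := fun x y => by
        have := hcomm y y.2 (c x) ⟨x, x.2, rfl⟩
        simp only [Subgroup.coe_mul, map_mul]
        calc (x : G) * y * (c x * c y) = x * (y * c x) * c y := by group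
          _ = x * (c x * y) * c y := by rw [this]
          _ = x * c x * (y * c y) := by group }
  have hφa : ∀ x : ↥D, φ x = (x : G) * c x := fun x => rfl
  have hcc : ∀ x, c (c x) = x := fun x => by
    rw [hca, hca, hti, show t * (t * x * t) * t = (t * t) * x * (t * t) by group, ht2, one_mul, mul_one]
  set L0 := φ.range with hL0
  have hL0H : L0 ≤ H := by
    rintro _ ⟨x, rfl⟩
    refine ⟨mul_mem (mem_sup_left x.2) (mem_sup_right (mem_map_of_mem c x.2)), ?_⟩
    show φ x ∈ C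
    rw [hC, mem_centralizer_singleton_iff]
    have h1 : c (φ x) = φ x := by
      rw [hφa, map_mul, hcc, ← hcomm x x.2 _ (mem_map_of_mem c x.2)]
    rw [hca] at h1
    exact (mul_inv_eq_iff_eq_mul.1 h1).symm
  have hdec : ∀ h ∈ H, ∃ x : ↥D, ∃ z : G, h = φ x * z ∧ z ∈ D ∧ z ∈ Dt := by
    intro h hh
    obtain ⟨x, hx, y, hy, rfl⟩ := CfsgLib.Comp.exists_mul_of_mem_sup hDn hh.1
    have hfix : c (x * y) = x * y := by
      have h1 : (x * y) * t = t * (x * y) := mem_centralizer_singleton_iff.1 hh.2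
      rw [hca, ← h1, mul_inv_cancel_right]
    obtain ⟨d, hd, hdy⟩ := id hy
    have hcy : c y = d := by rw [← hdy, hcc]
    have hcd : y = c d := hdy.symm
    rw [map_mul, hcy, ← hcomm d hd _ (mem_map_of_mem c hx)] at hfix
    have hz : x⁻¹ * d = y * (c x)⁻¹ :=
      calc x⁻¹ * d = x⁻¹ * (d * c x) * (c x)⁻¹ := by group
        _ = x⁻¹ * (x * y) * (c x)⁻¹ := by rw [hfix]
        _ = y * (c x)⁻¹ := by group
    refine ⟨⟨x, hx⟩, x⁻¹ * d, ?_, mul_mem (inv_mem hx) hd,
      hz ▸ mul_mem hy (inv_mem (mem_map_of_mem c hx))⟩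
    have h2 := hcomm (x⁻¹ * d) (mul_mem (inv_mem hx) hd) (c x) (mem_map_of_mem c hx)
    calc x * y = x * ((y * (c x)⁻¹) * c x) := by group
      _ = x * ((x⁻¹ * d) * c x) := by rw [hz]
      _ = x * (c x * (x⁻¹ * d)) := by rw [h2]
      _ = φ ⟨x, hx⟩ * (x⁻¹ * d) := by rw [hφa]; group
  have hcen : ∀ z, z ∈ D → z ∈ Dt → ∀ h ∈ H, z * h = h * z := by
    intro z hz1 hz2 h hh
    obtain ⟨x, hx, y, hy, rfl⟩ := CfsgLib.Comp.exists_mul_of_mem_sup hDn hh.1
    rw [← mul_assoc, ← hcomm x hx z hz2, mul_assoc, hcomm z hz1 y hy, mul_assoc]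
  have hHH : ∀ a ∈ H, ∀ b ∈ H, ⁅a, b⁆ ∈ L0 := by
    intro a ha b hb
    obtain ⟨x, z, rfl, hz, hz'⟩ := hdec a ha
    obtain ⟨y, w, rfl, hw, hw'⟩ := hdec b hb
    have hx : φ x ∈ H := hL0H ⟨x, rfl⟩
    have hy : φ y ∈ H := hL0H ⟨y, rfl⟩
    have c1 := hcen z hz hz' (φ y * w) hb
    have c2 := hcen w hw hw' (φ x)⁻¹ (inv_mem hx)
    have e : ⁅φ x * z, φ y * w⁆ = ⁅φ x, φ y⁆ := by
      rw [commutatorElement_def, commutatorElement_def, mul_inv_rev, mul_inv_rev]
      calc φ x * z * (φ y * w) * (z⁻¹ * (φ x)⁻¹) * (w⁻¹ * (φ y)⁻¹)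
          = φ x * (z * (φ y * w)) * (z⁻¹ * (φ x)⁻¹) * (w⁻¹ * (φ y)⁻¹) := by group
        _ = φ x * ((φ y * w) * z) * (z⁻¹ * (φ x)⁻¹) * (w⁻¹ * (φ y)⁻¹) := by rw [c1]
        _ = φ x * φ y * (w * (φ x)⁻¹) * (w⁻¹ * (φ y)⁻¹) := by group
        _ = φ x * φ y * ((φ x)⁻¹ * w) * (w⁻¹ * (φ y)⁻¹) := by rw [c2]
        _ = φ x * φ y * (φ x)⁻¹ * (φ y)⁻¹ := by group
    rw [e, ← map_commutatorElement]
    exact ⟨_, rfl⟩
  have hLH : L ≤ H := le_inf hLP hLt
  have hperfle : ∀ K : Subgroup G, K ≤ H → ⁅K, K⁆ = K → K ≤ L0 := by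
    intro K hK hKp
    rw [← hKp, commutator_le]
    exact fun a ha b hb => hHH a (hK ha) b (hK hb)
  have hLL0 : L ≤ L0 := hperfle L hLH hLperf
  have hLne : L ≠ ⊥ := (nontrivial_iff_ne_bot L).1 (CfsgLib.Comp.nontrivial_of_isQuasisimple hQL)
  have : Nontrivial ↥L0 := (nontrivial_iff_ne_bot L0).2 fun e => hLne (le_bot_iff.1 (e ▸ hLL0))
  have hQ0 : Cfsg.IsQuasisimple L0 :=
    CfsgLib.Comp.isQuasisimple_of_surjective hD.2 φ.rangeRestrict_surjective
  have hLeq : L = L0 := by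
    have hsn : (L.subgroupOf L0).IsSubnormal :=
      hL.1.comap (inclusion (hL0H.trans inf_le_right))
    rcases CfsgLib.Comp.eq_or_le_centralizer_of_subnormal hQ0 hLL0 hsn with e | e
    · exact e
    · exact absurd (e.trans (centralizer_le (SetLike.coe_subset_coe.2 hLL0)))
        (CfsgLib.Comp.not_le_center_of_isQuasisimple hQL)
  rw [hLeq]
  refine le_antisymm ?_ ?_
  · have hn0 : (L0.subgroupOf H).Normal := by
      refine ⟨fun a ha g => ?_⟩
      show ((g * a * g⁻¹ : ↥H) : G) ∈ L0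
      have e : ((g * a * g⁻¹ : ↥H) : G) = ⁅(g : G), (a : G)⁆ * a := by
        simp [commutatorElement_def, mul_assoc]
      rw [e]
      exact mul_mem (hHH g g.2 a a.2) ha
    intro x hx
    exact ⟨⟨x, hL0H hx⟩, CfsgLib.Comp.le_layer (G := ↥H)
      ⟨hn0.isSubnormal, CfsgLib.Comp.isQuasisimple_congr (subgroupOfEquivOfLe hL0H).symm hQ0⟩
      (show (⟨x, hL0H hx⟩ : ↥H) ∈ L0.subgroupOf H from hx), rfl⟩
  · rw [map_le_iff_le_comap]
    refine sSup_le fun K hK => map_le_iff_le_comap.1 (hperfle _ (map_subtype_le K) ?_)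
    rw [← map_commutator, CfsgLib.Comp.commutator_self_of_isComponent hK]

end Cfsg.Agent.S1322
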