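import Cfsg.Statements.S1323
import Cfsg.Agent.Lib.Comp.Quasisimple
import Cfsg.Agent.Lib.Comp.Normalize
import Mathlib.GroupTheory.SpecificGroups.Alternating.Simple

set_option autoImplicit false
open Cfsg
open scoped commutatorElement

namespace Cfsg.Agent.S1323

open Subgroup Equiv Equiv.Perm

variable {n : ℕ}

/-- pointwise stabilizer in the alternating group -/
def Fx (T : Finset (Fin n)) : Subgroup ↥(alternatingGroup (Fin n)) where
  carrier := {g | ∀ x ∈ T, (g : Perm (Fin n)) x = x}
  one_mem' := fun x _ => rfl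
  mul_mem' := fun {a b} ha hb x hx => by
    show (a : Perm (Fin n)) ((b : Perm (Fin n)) x) = x
    rw [hb x hx, ha x hx]
  inv_mem' := fun {a} ha x hx => by
    show (a : Perm (Fin n))⁻¹ x = x
    rw [Perm.inv_eq_iff_eq, ha x hx]

theorem mem_Fx {T : Finset (Fin n)} {g : ↥(alternatingGroup (Fin n))} :
    g ∈ Fx T ↔ ∀ x ∈ T, (g : Perm (Fin n)) x = x := Iff.rfl

/-- a three cycle as an element of the alternating group -/
def cyc (x y z : Fin n) (h : x ≠ y ∧ x ≠ z ∧ y ≠ z) : ↥(alternatingGroup (Fin n)) :=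
  ⟨swap x y * swap x z, (isThreeCycle_swap_mul_swap_same h.1 h.2.1 h.2.2).mem_alternatingGroup⟩

theorem cyc_fix {x y z w : Fin n} (h : x ≠ y ∧ x ≠ z ∧ y ≠ z) (hx : w ≠ x) (hy : w ≠ y) (hz : w ≠ z) :
    (cyc x y z h : Perm (Fin n)) w = w := by
  show swap x y (swap x z w) = w
  rw [swap_apply_of_ne_of_ne hx hz, swap_apply_of_ne_of_ne hx hy]

theorem cyc_mem {T : Finset (Fin n)} {x y z : Fin n} (h : x ≠ y ∧ x ≠ z ∧ y ≠ z) (hx : x ∉ T)
    (hy : y ∉ T) (hz : z ∉ T) : cyc x y z h ∈ Fx T :=
  fun _ hw => cyc_fix h (fun e => hx (e ▸ hw)) (fun e => hy (e ▸ hw)) (fun e => hz (e ▸ hw))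

theorem cyc_apply {x y z : Fin n} (h : x ≠ y ∧ x ≠ z ∧ y ≠ z) :
    (cyc x y z h : Perm (Fin n)) x = z := by
  show swap x y (swap x z x) = z
  rw [swap_apply_left, swap_apply_of_ne_of_ne h.2.1.symm h.2.2.symm]

theorem exists_move {T : Finset (Fin n)} (h : 3 ≤ Tᶜ.card) {x : Fin n} (hx : x ∉ T) :
    ∃ g ∈ Fx T, (g : Perm (Fin n)) x ≠ x := by
  have hc : 2 ≤ (Tᶜ.erase x).card := by
    rw [Finset.card_erase_of_mem (Finset.mem_compl.2 hx)]; omega
  obtain ⟨y, hy, z, hz, hyz⟩ := Finset.one_lt_card.1 (show 1 < (Tᶜ.erase x).card by omega)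
  simp only [Finset.mem_erase, Finset.mem_compl] at hy hz
  have h3 : x ≠ y ∧ x ≠ z ∧ y ≠ z := ⟨fun e => hy.1 e.symm, fun e => hz.1 e.symm, hyz⟩
  exact ⟨cyc x y z h3, cyc_mem h3 hx hy.2 hz.2, by rw [cyc_apply]; exact hz.1⟩

theorem Fx_map_conj (g : ↥(alternatingGroup (Fin n))) (T : Finset (Fin n)) :
    (Fx T).map (MulAut.conj g).toMonoidHom = Fx (T.image (g : Perm (Fin n))) := by
  ext k
  rw [CfsgLib.Comp.mem_map_conj, mem_Fx, mem_Fx]
  simp only [Finset.forall_mem_image]
  refine forall₂_congr fun x _ => ?_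
  show (g : Perm (Fin n))⁻¹ ((k : Perm (Fin n)) ((g : Perm (Fin n)) x)) = x ↔ _
  rw [Perm.inv_eq_iff_eq]

theorem centralizer_Fx {T : Finset (Fin n)} (h : 5 ≤ Tᶜ.card) :
    centralizer (Fx T : Set ↥(alternatingGroup (Fin n))) = Fx Tᶜ := by
  ext g
  constructor
  · intro hg x hx
    have hxT : x ∉ T := Finset.mem_compl.1 hx
    set E := Tᶜ.erase x with hE
    have hE4 : 4 ≤ E.card := by rw [hE, Finset.card_erase_of_mem hx]; omega
    have key : ∀ y ∈ E, ∀ z ∈ E, y ≠ z →
        (g : Perm (Fin n)) x = x ∨ (g : Perm (Fin n)) x = y ∨ (g : Perm (Fin n)) x = z := by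
      intro y hy z hz hyz
      simp only [hE, Finset.mem_erase, Finset.mem_compl] at hy hz
      have h3 : x ≠ y ∧ x ≠ z ∧ y ≠ z := ⟨fun e => hy.1 e.symm, fun e => hz.1 e.symm, hyz⟩
      have hc := congrArg (fun k : ↥(alternatingGroup (Fin n)) => (k : Perm (Fin n)) x)
        (mem_centralizer_iff.1 hg _ (cyc_mem h3 hxT hy.2 hz.2))
      simp only [Subgroup.coe_mul, Perm.coe_mul, Function.comp_apply, cyc_apply] at hc
      by_contra hcon
      push Not at hcon
      rw [cyc_fix h3 hcon.1 hcon.2.1 hcon.2.2] at hc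
      exact h3.2.1 ((g : Perm (Fin n)).injective hc)
    obtain ⟨y, hy, z, hz, hyz⟩ := Finset.one_lt_card.1 (show 1 < E.card by omega)
    have hcard : 1 < ((E.erase y).erase z).card := by
      rw [Finset.card_erase_of_mem (Finset.mem_erase.2 ⟨hyz.symm, hz⟩), Finset.card_erase_of_mem hy]
      omega
    obtain ⟨u, hu, v, hv, huv⟩ := Finset.one_lt_card.1 hcard
    simp only [Finset.mem_erase] at hu hv
    rcases key y hy z hz hyz with e | e | e
    · exact e
    all_goals
      rcases key u hu.2.2 v hv.2.2 huv with e' | e' | e'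
      · exact e'
      all_goals
        exfalso
        rw [e] at e'
        first
          | exact hu.2.1 e'.symm
          | exact hu.1 e'.symm
          | exact hv.2.1 e'.symm
          | exact hv.1 e'.symm
  · intro hg
    refine mem_centralizer_iff.2 fun l hl => Subtype.ext (Equiv.ext fun x => ?_)
    show (l : Perm (Fin n)) ((g : Perm (Fin n)) x) = (g : Perm (Fin n)) ((l : Perm (Fin n)) x)
    by_cases hx : x ∈ T
    · rw [hl x hx]
      by_contra hne
      have : (g : Perm (Fin n)) x ∈ Tᶜ := Finset.mem_compl.2 fun h => hne (hl _ h)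
      have e := hg _ this
      have e2 : (g : Perm (Fin n)) x = x := (g : Perm (Fin n)).injective e
      rw [e2, hl x hx] at hne
      exact hne rfl
    · rw [hg x (Finset.mem_compl.2 hx)]
      by_cases h2 : (l : Perm (Fin n)) x ∈ T
      · have e : (l : Perm (Fin n)) x = x := (l : Perm (Fin n)).injective (hl _ h2)
        rw [e] at h2
        exact absurd h2 hx
      · exact (hg _ (Finset.mem_compl.2 h2)).symm

theorem eq_of_even_inter {S S' : Finset (Fin n)} (h4 : Sᶜ.card = 4) (h4' : S'ᶜ.card = 4)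
    {t : ↥(alternatingGroup (Fin n))} (ht : orderOf t = 2) (h1 : t ∈ Fx S) (h2 : t ∈ Fx S') :
    S = S' := by
  have hs : ∀ W : Finset (Fin n), t ∈ Fx W → (t : Perm (Fin n)).support ⊆ Wᶜ := fun W hW x hx =>
    Finset.mem_compl.2 fun hxW => Perm.mem_support.1 hx (hW x hxW)
  have hto : orderOf (t : Perm (Fin n)) = 2 := by rw [Subgroup.orderOf_coe, ht]
  have h4s : 4 ≤ (t : Perm (Fin n)).support.card := by
    have hne : (t : Perm (Fin n)) ≠ 1 := fun e => by rw [e, orderOf_one] at hto; omega
    have h2s := Perm.two_le_card_support_of_ne_one hne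
    by_contra hlt
    rcases (show (t : Perm (Fin n)).support.card = 2 ∨ (t : Perm (Fin n)).support.card = 3 by omega)
      with e | e
    · have hsg := (Perm.card_support_eq_two.1 e).sign_eq
      rw [Perm.mem_alternatingGroup.1 t.2] at hsg
      exact absurd hsg (by decide)
    · have := (card_support_eq_three_iff.1 e).orderOf
      omega
  have e1 := Finset.eq_of_subset_of_card_le (hs S h1) (by omega)
  have e2 := Finset.eq_of_subset_of_card_le (hs S' h2) (by omega)
  exact compl_injective (e1.symm.trans e2)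


/-- For n ≥ 9, the subgroup of the alternating group on Fin n fixing each of the points 0, 1, 2, 3 is a standard subgroup. -/
theorem result (n : ℕ) (h4 : 4 ≤ n) (hn : 9 ≤ n) : Cfsg.IsStandardSubgroup (⨅ i : Fin 4, MulAction.stabilizer ↥(alternatingGroup (Fin n)) (Fin.castLE h4 i : Fin n)) := by
  classical
  set T : Finset (Fin n) := Finset.univ.filter (fun x : Fin n => (x : ℕ) < 4) with hT
  have hTc : T.card = 4 := by
    rw [show T = Finset.univ.image (Fin.castLE h4) from ?_, Finset.card_image_of_injective _ (Fin.castLE_injective h4)]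
    · simp
    · ext x
      simp only [hT, Finset.mem_filter, Finset.mem_univ, true_and, Finset.mem_image]
      exact ⟨fun h => ⟨⟨x, h⟩, Fin.ext rfl⟩, fun ⟨i, hi⟩ => hi ▸ i.2⟩
  have hScard : Tᶜ.card = n - 4 := by rw [Finset.card_compl, hTc, Fintype.card_fin]
  have hL : (⨅ i : Fin 4, MulAction.stabilizer ↥(alternatingGroup (Fin n)) (Fin.castLE h4 i : Fin n))
      = Fx T := by
    ext g
    simp only [mem_iInf, MulAction.mem_stabilizer_iff, mem_Fx]
    refine ⟨fun h x hx => ?_, fun h i => h _ (by simp [hT])⟩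
    have hx4 : (x : ℕ) < 4 := by simpa [hT] using hx
    have := h ⟨x, hx4⟩
    exact this
  rw [hL]
  have hC : centralizer (Fx T : Set ↥(alternatingGroup (Fin n))) = Fx Tᶜ := centralizer_Fx (by omega)
  have hTT : Tᶜᶜ = T := compl_compl T
  have hcom : ∀ g : ↥(alternatingGroup (Fin n)),
      Tᶜ.image (g : Perm (Fin n)) = (T.image (g : Perm (Fin n)))ᶜ := fun g =>
    Finset.coe_injective (by simp [Set.image_compl_eq (g : Perm (Fin n)).bijective])
  have hnorm : ∀ g : ↥(alternatingGroup (Fin n)), g ∈ normalizer (Fx Tᶜ : Set ↥(alternatingGroup (Fin n))) →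
      T.image (g : Perm (Fin n)) = T := by
    intro g hg
    have h1 := CfsgLib.Comp.map_conj_eq_iff.2 hg
    rw [Fx_map_conj] at h1
    have h2 : Tᶜ.image (g : Perm (Fin n)) = Tᶜ := by
      refine Finset.eq_of_subset_of_card_le (fun x hx => ?_)
        (by rw [Finset.card_image_of_injective _ (g : Perm (Fin n)).injective])
      by_contra hxn
      obtain ⟨k, hk, hkx⟩ := exists_move (T := Tᶜ) (by rw [hTT, hTc]; norm_num) hxn
      exact hkx ((h1.ge hk) x hx)
    rw [hcom] at h2
    exact compl_injective h2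
  refine ⟨?_, ⟨?_, fun g hg => ?_⟩, fun g hg => ?_, le_antisymm (CfsgLib.Comp.normalizer_le_normalizer_centralizer _) fun g hg => ?_⟩
  · -- quasisimple
    have e : Fx T = (alternatingGroup.ofSubtype Tᶜ).range := by
      ext g
      rw [alternatingGroup.mem_range_ofSubtype_iff, mem_Fx]
      exact ⟨fun h x hx => Finset.mem_compl.2 fun hxT => Perm.mem_support.1 hx (h x hxT),
        fun h x hx => Perm.notMem_support.1 fun hxs => Finset.mem_compl.1 (h hxs) hx⟩
    have h5 : 5 ≤ Nat.card {x // x ∈ Tᶜ} := by rw [Nat.card_eq_fintype_card, Fintype.card_coe]; omega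
    have hs : IsSimpleGroup ↥(alternatingGroup {x // x ∈ Tᶜ}) := alternatingGroup.isSimpleGroup h5
    have hna : ¬ IsMulCommutative ↥(alternatingGroup {x // x ∈ Tᶜ}) := by
      rw [alternatingGroup.isMulCommutative_iff_card_le_three]; omega
    refine CfsgLib.Comp.isQuasisimple_congr ((MonoidHom.ofInjective alternatingGroup.ofSubtype_injective).trans
      (MulEquiv.subgroupCongr e.symm)) ?_
    have hZ : center ↥(alternatingGroup {x // x ∈ Tᶜ}) = ⊥ :=
      ((Subgroup.Normal.eq_bot_or_eq_top (H := center ↥(alternatingGroup {x // x ∈ Tᶜ})) inferInstance)).resolve_right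
        fun h => hna (center_eq_top_iff.1 h)
    refine ⟨⟨((Subgroup.Normal.eq_bot_or_eq_top (H := _root_.commutator ↥(alternatingGroup {x // x ∈ Tᶜ})) inferInstance)).resolve_left
      fun h => hna ⟨⟨fun x y => ?_⟩⟩⟩, ?_⟩
    · have hm : ⁅x, y⁆ ∈ (⊥ : Subgroup ↥(alternatingGroup {x // x ∈ Tᶜ})) := h ▸ commutator_mem_commutator (mem_top x) (mem_top y)
      exact commutatorElement_eq_one_iff_mul_comm.1 (mem_bot.1 hm)
    · exact ((QuotientGroup.quotientMulEquivOfEq hZ).trans QuotientGroup.quotientBot).isSimpleGroup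
  · rw [hC]
    rw [even_iff_two_dvd]
    have hlt : 1 < (T.erase ⟨0, by omega⟩).card := by
      rw [Finset.card_erase_of_mem (by simp [hT])]; omega
    let a : Fin n := ⟨0, by omega⟩
    let b : Fin n := ⟨1, by omega⟩
    let c : Fin n := ⟨2, by omega⟩
    let d : Fin n := ⟨3, by omega⟩
    let t : ↥(alternatingGroup (Fin n)) := ⟨swap a b * swap c d, by
      simp [Perm.mem_alternatingGroup, a, b, c, d]⟩
    have ht : t ∈ Fx Tᶜ := fun x hx => by
      have hx4 : 4 ≤ (x : ℕ) := by simpa [hT] using hx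
      show swap a b (swap c d x) = x
      rw [swap_apply_of_ne_of_ne (x := x) (Fin.ne_of_val_ne (by simp [c]; omega)) (Fin.ne_of_val_ne (by simp [d]; omega)),
        swap_apply_of_ne_of_ne (Fin.ne_of_val_ne (by simp [a]; omega)) (Fin.ne_of_val_ne (by simp [b]; omega))]
    have hto : orderOf t = 2 := by
      have : Fact (Nat.Prime 2) := ⟨Nat.prime_two⟩
      refine orderOf_eq_prime (Subtype.ext (Equiv.ext fun x => ?_)) fun h => ?_
      · have hcomm : Commute (swap a b) (swap c d) :=
          (Perm.disjoint_iff_disjoint_support.2 (by simp [a, b, c, d, Perm.support_swap])).commute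
        show ((swap a b * swap c d) ^ 2 : Perm (Fin n)) x = x
        rw [hcomm.mul_pow]; simp [pow_two]
      · have := congrArg (fun k : ↥(alternatingGroup (Fin n)) => (k : Perm (Fin n)) a) h
        simp [t, a, b, c, d, swap_apply_def] at this
    exact hto ▸ Subgroup.orderOf_dvd_natCard _ ht
  · rw [hC] at hg ⊢
    rw [Fx_map_conj, ← Nat.not_even_iff_odd, even_iff_two_dvd]
    intro hd
    have : Fact (Nat.Prime 2) := ⟨Nat.prime_two⟩
    obtain ⟨⟨t, ht1, ht2⟩, hto⟩ := exists_prime_orderOf_dvd_card' 2 hd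
    rw [← Subgroup.orderOf_coe] at hto
    apply hg
    have e := eq_of_even_inter (by rw [hTT, hTc]) (by rw [hcom, compl_compl, Finset.card_image_of_injective _ (g : Perm (Fin n)).injective, hTc]) hto ht1 ht2
    rw [← CfsgLib.Comp.map_conj_eq_iff, Fx_map_conj, ← e]
  · intro hcom'
    have hne : T.image (g : Perm (Fin n)) ≠ T := fun e => hg (by rw [Fx_map_conj, e])
    rw [commutator_eq_bot_iff_le_centralizer, le_centralizer_iff, hC, Fx_map_conj] at hcom'
    have hcard : T.card + (T.image (g : Perm (Fin n))).card < n := by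
      rw [Finset.card_image_of_injective _ (g : Perm (Fin n)).injective, hTc]; omega
    obtain ⟨x, -, hx⟩ := Finset.exists_mem_notMem_of_card_lt_card
      (s := T ∪ T.image (g : Perm (Fin n))) (t := Finset.univ)
      (lt_of_le_of_lt (Finset.card_union_le _ _) (by simpa using hcard))
    simp only [Finset.mem_union, not_or] at hx
    obtain ⟨k, hk, hkx⟩ := exists_move (T := T.image (g : Perm (Fin n)))
      (by rw [Finset.card_compl, Finset.card_image_of_injective _ (g : Perm (Fin n)).injective, hTc, Fintype.card_fin]; omega) hx.2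
    exact hkx (hcom' hk x (Finset.mem_compl.2 hx.1))
  · rw [hC] at hg
    rw [← CfsgLib.Comp.map_conj_eq_iff, Fx_map_conj, hnorm g hg]

end Cfsg.Agent.S1323
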