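import Cfsg.Statements.S1328
import Cfsg.Agent.Lib.Comp.BalanceReduce
-- import your own Cfsg.Agent.* helpers here

set_option autoImplicit false
open Cfsg

namespace Cfsg.Agent.S1328

/-- Let G be finite, H ≤ G with O(H) = 1, t an involution of G normalizing H, and Y a nontrivial subgroup of O(C_H(t)). Then some component E of H is normalized by t and by Y and centralized by neither t nor Y. -/
theorem result {G : Type*} [Group G] [Finite G] (H : Subgroup G) (hO : Cfsg.oddCore ↥H = ⊥) (t : G) (ht : orderOf t = 2) (htH : t ∈ Subgroup.normalizer (H : Set G)) (Y : Subgroup G) (hY1 : Y ≠ ⊥) (hY : Y ≤ (Cfsg.oddCore ↥(H ⊓ Subgroup.centralizer ({t} : Set G))).map (H ⊓ Subgroup.centralizer ({t} : Set G)).subtype) : ∃ E : Subgroup ↥H, Cfsg.IsComponent E ∧ (E.map H.subtype).map (MulAut.conj t).toMonoidHom = E.map H.subtype ∧ Y ≤ Subgroup.normalizer ((E.map H.subtype : Subgroup G) : Set G) ∧ ¬ (t ∈ Subgroup.centralizer ((E.map H.subtype : Subgroup G) : Set G)) ∧ ¬ (Y ≤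 Subgroup.centralizer ((E.map H.subtype : Subgroup G) : Set G)) := by
  haveI : Fact (Nat.Prime 2) := ⟨Nat.prime_two⟩
  set M := H ⊔ Subgroup.zpowers t with hM
  have hMH : M ≤ Subgroup.normalizer (H : Set G) :=
    sup_le Subgroup.le_normalizer (Subgroup.zpowers_le.2 htH)
  have htM : t ∈ M := Subgroup.mem_sup_right (Subgroup.mem_zpowers t)
  set H' := H.subgroupOf M with hH'
  haveI hH'n : H'.Normal := Subgroup.normal_subgroupOf_of_le_normalizer hMH
  let q := QuotientGroup.mk' H'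
  -- the quotient `M / H` is generated by the image of `t`
  have hgen : ∀ z : ↥M ⧸ H', z ∈ Subgroup.zpowers (q ⟨t, htM⟩) := by
    intro z
    obtain ⟨⟨m, hm⟩, rfl⟩ := QuotientGroup.mk'_surjective _ z
    obtain ⟨a, ha, b, hb, rfl⟩ := CfsgLib.Comp.exists_mul_of_mem_sup (Subgroup.zpowers_le.2 htH)
      (show m ∈ H ⊔ Subgroup.zpowers t from hm)
    obtain ⟨n, rfl⟩ := hb
    refine ⟨n, ?_⟩
    have e : (⟨a * t ^ n, hm⟩ : ↥M) = ⟨a, Subgroup.mem_sup_left ha⟩ * ⟨t, htM⟩ ^ n :=
      Subtype.ext (by simp)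
    simp only [q, QuotientGroup.mk'_apply] at *
    rw [e, QuotientGroup.mk_mul, (QuotientGroup.eq_one_iff (N := H') (⟨a, Subgroup.mem_sup_left ha⟩ : ↥M)).2 ha,
      one_mul, QuotientGroup.mk_zpow]
  have ht2 : (q ⟨t, htM⟩) ^ 2 = 1 := by
    rw [← map_pow]
    have e : (⟨t, htM⟩ : ↥M) ^ 2 = 1 := Subtype.ext (ht ▸ pow_orderOf_eq_one t)
    rw [e, map_one]
  have hcardQ : Nat.card (↥M ⧸ H') ∣ 2 := by
    rw [← Subgroup.card_top (G := ↥M ⧸ H'),
      (top_le_iff.1 fun z _ => hgen z : Subgroup.zpowers (q ⟨t, htM⟩) = ⊤).symm, Nat.card_zpowers]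
    exact orderOf_dvd_of_pow_eq_one ht2
  -- `M` has trivial core
  have hOM : Cfsg.pPrimeCore 2 ↥M = ⊥ := by
    haveI := Cfsg.pPrimeCore_normal 2 ↥M
    set O := Cfsg.pPrimeCore 2 ↥M with hOdef
    have hint : O ⊓ H' = ⊥ := by
      have hle : (O ⊓ H').map M.subtype ≤ H := by
        rintro _ ⟨m, hm, rfl⟩
        exact hm.2
      have h2 : ((O ⊓ H').map M.subtype).subgroupOf H ≤ Cfsg.oddCore ↥H := by
        refine le_sSup ⟨Subgroup.normal_subgroupOf_of_le_normalizer ?_, ?_⟩
        · have h := Subgroup.le_normalizer_map (f := M.subtype) (H := O ⊓ H')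
          rw [Subgroup.normalizer_eq_top, ← MonoidHom.range_eq_map, Subgroup.range_subtype] at h
          exact (le_sup_left : H ≤ M).trans h
        · rw [Nat.card_congr (Subgroup.subgroupOfEquivOfLe hle).toEquiv,
            Subgroup.card_map_of_injective M.subtype_injective]
          exact (CfsgLib.Comp.coprime_card_pPrimeCore 2 ↥M).coprime_dvd_left
            (Subgroup.card_dvd_of_le inf_le_left)
      rw [hO, le_bot_iff, Subgroup.subgroupOf_eq_bot] at h2
      rw [← Subgroup.map_eq_bot_iff_of_injective _ M.subtype_injective]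
      exact (disjoint_self.1 (h2.mono_right hle) : _)
    have hinj : Function.Injective (q.comp O.subtype) := by
      rw [← MonoidHom.ker_eq_bot_iff, ← MonoidHom.comap_ker, QuotientGroup.ker_mk', ← Subgroup.subgroupOf,
        Subgroup.subgroupOf_eq_bot, disjoint_iff, inf_comm]
      exact hint
    have h1 : Nat.card O ∣ 2 :=
      (Subgroup.card_dvd_of_injective _ hinj).trans hcardQ
    exact Subgroup.eq_bot_of_card_eq O
      (Nat.eq_one_of_dvd_coprimes (CfsgLib.Comp.coprime_card_pPrimeCore 2 ↥M) dvd_rfl h1)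
  set C := H ⊓ Subgroup.centralizer ({t} : Set G) with hC
  have hYC : Y ≤ C := hY.trans (Subgroup.map_subtype_le _)
  have hYM : Y ≤ M := hYC.trans (inf_le_left.trans le_sup_left)
  set O1 := (Cfsg.oddCore ↥C).map C.subtype with hO1
  have hO1M : O1 ≤ M := (Subgroup.map_subtype_le _).trans (inf_le_left.trans le_sup_left)
  have hD : O1.subgroupOf M ≤ Cfsg.centralizerPPrimeCore 2 (⟨t, htM⟩ : ↥M) := by
    refine CfsgLib.Comp.le_centralizerPPrimeCore ?_ ?_ ?_
    · intro y hy
      refine Subgroup.mem_centralizer_singleton_iff.2 (Subtype.ext ?_)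
      exact Subgroup.mem_centralizer_singleton_iff.1
        (Subgroup.map_subtype_le (Cfsg.oddCore ↥C) hy).2
    · intro g hg
      have hgt : (g : G) ∈ Subgroup.centralizer ({t} : Set G) :=
        Subgroup.mem_centralizer_singleton_iff.2
          (congrArg Subtype.val (Subgroup.mem_centralizer_singleton_iff.1 hg))
      have hgC : (g : G) ∈ Subgroup.normalizer (C : Set G) :=
        CfsgLib.Comp.le_normalizer_inf (M := M ⊓ Subgroup.centralizer ({t} : Set G))
          (inf_le_left.trans hMH) (inf_le_right.trans Subgroup.le_normalizer) ⟨g.2, hgt⟩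
      have hgO := CfsgLib.Comp.normalizer_le_normalizer_pPrimeCore (p := 2) C hgC
      rw [Subgroup.mem_normalizer_iff]
      intro y
      simp only [Subgroup.mem_subgroupOf, Subgroup.coe_mul, InvMemClass.coe_inv]
      exact Subgroup.mem_normalizer_iff.1 hgO y
    · rw [Nat.card_congr (Subgroup.subgroupOfEquivOfLe hO1M).toEquiv,
        Subgroup.card_map_of_injective C.subtype_injective]
      exact CfsgLib.Comp.coprime_card_pPrimeCore 2 ↥C
  have hY' : Y.subgroupOf M ≤ Cfsg.centralizerPPrimeCore 2 (⟨t, htM⟩ : ↥M) :=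
    le_trans (fun y hy => hY hy) hD
  have hY1' : Y.subgroupOf M ≠ ⊥ := by
    intro h
    apply hY1
    rw [← Subgroup.map_subgroupOf_eq_of_le hYM, h, Subgroup.map_bot]
  obtain ⟨L, hL, htL, hYL, htC, hYC'⟩ := CfsgLib.Comp.exists_component_moved_by
    (x := (⟨t, htM⟩ : ↥M)) (by rw [← Subgroup.orderOf_coe]; exact ht) hOM hY' hY1'
  have hLH : L ≤ H' := by
    intro l hl
    have h1 : (⁅L, L⁆).map q = ⊥ := by
      rw [Subgroup.map_commutator, Subgroup.commutator_eq_bot_iff_le_centralizer]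
      intro a _
      refine Subgroup.mem_centralizer_iff.2 fun b _ => ?_
      obtain ⟨i, hi⟩ := hgen a
      obtain ⟨j, hj⟩ := hgen b
      rw [← hi, ← hj]
      exact zpow_mul_comm _ _ _
    rw [CfsgLib.Comp.commutator_self_of_isComponent hL, Subgroup.map_eq_bot_iff,
      QuotientGroup.ker_mk'] at h1
    exact h1 hl
  set L0 := L.map M.subtype with hL0
  have hL0H : L0 ≤ H := by rintro _ ⟨l, hl, rfl⟩; exact hLH hl
  refine ⟨L0.subgroupOf H, ?_, ?_⟩
  · have hc := CfsgLib.Comp.isComponent_subgroupOf hLH hL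
    have e := CfsgLib.Comp.isComponent_map_mulEquiv
      (Subgroup.subgroupOfEquivOfLe (le_sup_left : H ≤ M)) hc
    convert e using 1
    ext ⟨h, hh⟩
    constructor
    · rintro ⟨l, hl, hlh⟩
      exact ⟨⟨l, hLH hl⟩, hl, Subtype.ext hlh⟩
    · rintro ⟨⟨l, hl'⟩, hl, hlh⟩
      exact ⟨l, hl, congrArg Subtype.val hlh⟩
  rw [Subgroup.map_subgroupOf_eq_of_le hL0H]
  have hnorm : ∀ g : ↥M, g ∈ Subgroup.normalizer (L : Set ↥M) →
      (g : G) ∈ Subgroup.normalizer (L0 : Set G) :=
    fun g hg => Subgroup.le_normalizer_map M.subtype ⟨g, hg, rfl⟩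
  have hcen : ∀ g : ↥M, (g : G) ∈ Subgroup.centralizer (L0 : Set G) →
      g ∈ Subgroup.centralizer (L : Set ↥M) := fun g hg =>
    Subgroup.mem_centralizer_iff.2 fun l hl =>
      Subtype.ext (Subgroup.mem_centralizer_iff.1 hg l ⟨l, hl, rfl⟩)
  refine ⟨CfsgLib.Comp.map_conj_eq_iff.2 (hnorm _ htL), fun y hy => hnorm ⟨y, hYM hy⟩ (hYL hy),
    fun h => htC (hcen _ h), fun h => hYC' fun y hy => hcen y (h hy)⟩

end Cfsg.Agent.S1328
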