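import Cfsg.Statements.S1329
import Cfsg.Agent.Lib.Coprime.CentralizerGeneration
import Cfsg.Agent.Lib.FT.OddOrder

set_option autoImplicit false
open Cfsg

namespace Cfsg.Agent.S1329

/-- Let A be an abelian 2-subgroup of the finite group G, B ≤ A, and Y a subgroup of odd order normalized by A with ⁅Y, A⁆ = Y. Then Y ∩ C_G(B) is generated by the subgroups Y ∩ C_G(B) ∩ ⁅Y ∩ C_G(B₀), A⁆, B₀ ranging over the subgroups of B with B / B₀ cyclic. -/
theorem result {G : Type*} [Group G] [Finite G] (A B Y : Subgroup G) (hA2 : IsPGroup 2 ↥A) (hAc : IsMulCommutative ↥A) (hB : B ≤ A) (hYodd : Odd (Nat.card ↥Y)) (hAY : A ≤ Subgroup.normalizer (Y : Set G)) (hYA : ⁅Y, A⁆ = Y) : Y ⊓ Subgroup.centralizer (B : Set G) = ⨆ B₀ : {B₀ : Subgroup G // B₀ ≤ B ∧ ∀ [(B₀.subgroupOf B).Normal], IsCyclic (↥B ⧸ B₀.subgroupOf B)}, Y ⊓ Subgroup.centralizer (B : Set G) ⊓ ⁅Y ⊓ Subgroup.centralizer ((B₀ : Subgroup G) : Set G), A⁆ := by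
  refine le_antisymm ?_ (iSup_le fun _ => inf_le_left)
  have hsol : Group.IsSolvable Y := CfsgLib.FT.odd_order_solvable hYodd
  have hcop : (Nat.card A).Coprime (Nat.card Y) := by
    have : Fact (Nat.Prime 2) := ⟨Nat.prime_two⟩
    obtain ⟨k, hk⟩ := hA2.exists_card_eq
    rw [hk]
    exact Nat.Coprime.pow_left k ((Nat.coprime_two_left).2 hYodd)
  refine (CfsgLib.Coprime.centJoin_eq hAc hB hAY hsol hcop hYA).trans (iSup_le ?_)
  rintro ⟨B₀, hB₀, b, hb, hsup⟩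
  refine le_iSup (fun B₀ : {B₀ : Subgroup G //
      B₀ ≤ B ∧ ∀ [(B₀.subgroupOf B).Normal], IsCyclic (↥B ⧸ B₀.subgroupOf B)} =>
    Y ⊓ Subgroup.centralizer (B : Set G) ⊓
      ⁅Y ⊓ Subgroup.centralizer ((B₀ : Subgroup G) : Set G), A⁆)
    ⟨B₀, hB₀, @fun hN => ?_⟩
  have := hN
  refine ⟨QuotientGroup.mk' (B₀.subgroupOf B) ⟨b, hb⟩, fun q => ?_⟩
  obtain ⟨⟨x, hx⟩, rfl⟩ := QuotientGroup.mk'_surjective _ q
  have hnorm : Subgroup.zpowers b ≤ Subgroup.normalizer (B₀ : Set G) := by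
    rw [Subgroup.zpowers_le, Subgroup.mem_normalizer_iff]
    intro y
    have hcomm : ∀ z ∈ B, b * z = z * b := fun z hz =>
      congrArg Subtype.val (mul_comm' (⟨b, hB hb⟩ : A) ⟨z, hB hz⟩)
    constructor
    · intro hy
      rw [hcomm y (hB₀ hy), mul_inv_cancel_right]; exact hy
    · intro hy
      have h := hcomm _ (hB₀ hy)
      have e : b * y * b⁻¹ = y := by
        have h2 : b * (b * y * b⁻¹) = b * y := by rw [h]; group
        exact mul_left_cancel h2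
      rwa [e] at hy
  rw [← hsup] at hx
  obtain ⟨c, hc, z, hz, hcz⟩ := (CfsgLib.Coprime.mem_sup_of_le_normalizer hnorm).mp hx
  obtain ⟨k, rfl⟩ := Subgroup.mem_zpowers_iff.mp hz
  refine ⟨k, ?_⟩
  simp only [← map_zpow]
  refine (QuotientGroup.eq).mpr ?_
  rw [Subgroup.mem_subgroupOf]
  simp only [Subgroup.coe_mul, Subgroup.coe_inv, SubgroupClass.coe_zpow]
  rw [← hcz, ← mul_assoc]
  have hzB : b ^ k ∈ Subgroup.normalizer (B₀ : Set G) := hnorm hz
  simpa [mul_assoc] using (Subgroup.mem_normalizer_iff.mp (inv_mem hzB) c).mp hc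

end Cfsg.Agent.S1329
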