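import Cfsg.Statements.S1335
import Cfsg.Agent.Lib.Comp.Normalize
-- import your own Cfsg.Agent.* helpers here

set_option autoImplicit false
open Cfsg

namespace Cfsg.Agent.S1335

open Subgroup

/-- Let H be a subgroup of the finite group G, p a prime, k ≥ 1, P a Sylow p-subgroup of H of p-rank at least k, and suppose N_G(X) ≤ H for every subgroup X ≤ P of p-rank at least k. Then P is a Sylow p-subgroup of G. -/
theorem result {G : Type*} [Group G] [Finite G] {p : ℕ} [Fact p.Prime] (k : ℕ) (hk : 1 ≤ k) (H : Subgroup G) (P : Sylow p ↥H) (hP : ¬ Cfsg.PRankLE p (k - 1) ↥(P : Subgroup ↥H)) (hΓ : (∀ X : Subgroup G, X ≤ (P : Subgroup ↥H).map H.subtype → ¬ Cfsg.PRankLE p (k - 1) ↥X → Subgroup.normalizer (X : Set G) ≤ H)) : ∃ Q : Sylow p G, (Q : Subgroup G) = (P : Subgroup ↥H).map H.subtype := by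
  set Pg := (P : Subgroup ↥H).map H.subtype
  have hPgp : IsPGroup p ↥Pg := P.isPGroup'.map _
  obtain ⟨Q, hQ⟩ := hPgp.exists_le_sylow
  refine ⟨Q, ?_⟩
  by_contra hne
  have hlt : Pg < (Q : Subgroup G) := lt_of_le_of_ne hQ (Ne.symm hne)
  haveI : Group.IsNilpotent ↥(Q : Subgroup G) := Q.isPGroup'.isNilpotent
  have hnorm := normalizerCondition_of_isNilpotent (Pg.subgroupOf (Q : Subgroup G))
    (lt_top_iff_ne_top.2 fun e => hlt.not_ge (subgroupOf_eq_top.1 e))
  obtain ⟨⟨y, hyQ⟩, hy, hy'⟩ := SetLike.exists_of_lt hnorm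
  have hrankH : normalizer (Pg : Set G) ≤ H := by
    refine hΓ Pg le_rfl fun hle => hP ?_
    intro A hA hA'
    have e := A.equivMapOfInjective (H.subtype.comp (P : Subgroup ↥H).subtype)
      (H.subtype_injective.comp (P : Subgroup ↥H).subtype_injective)
    have hAle : A.map (H.subtype.comp (P : Subgroup ↥H).subtype) ≤ Pg := by
      rintro _ ⟨a, -, rfl⟩
      exact mem_map_of_mem H.subtype a.2
    set A' := (A.map (H.subtype.comp (P : Subgroup ↥H).subtype)).subgroupOf Pg
    have e2 : ↥A' ≃* ↥A := (subgroupOfEquivOfLe hAle).trans e.symm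
    rw [← Nat.card_congr e2.toEquiv]
    refine hle A' ⟨⟨fun a b => e2.injective ?_⟩⟩ fun a ha => ?_
    · rw [map_mul, map_mul]; exact hA.is_comm.comm _ _
    · have h1 := hA' _ (e2 ⟨a, ha⟩).2
      have h2 : (e2 ⟨a, ha⟩) ^ p = 1 := Subtype.ext h1
      rw [← map_pow, map_eq_one_iff _ e2.injective] at h2
      exact congrArg Subtype.val h2
  have hymem : y ∈ normalizer (Pg : Set G) := by
    rw [mem_normalizer_iff] at hy ⊢
    intro z
    constructor
    · intro hz
      exact (hy ⟨z, hQ hz⟩).1 hz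
    · intro hz
      have hzQ : z ∈ (Q : Subgroup G) := by
        have := mul_mem (mul_mem (inv_mem hyQ) (hQ hz)) hyQ
        simpa [mul_assoc] using this
      exact (hy ⟨z, hzQ⟩).2 hz
  have hQH : IsPGroup p ↥((Q : Subgroup G).subgroupOf H) := Q.isPGroup'.comap_subtype
  have hle : (P : Subgroup ↥H) ≤ (Q : Subgroup G).subgroupOf H :=
    fun a ha => hQ (mem_map_of_mem _ ha)
  have heq := P.is_maximal' hQH hle
  apply hy'
  rw [mem_subgroupOf]
  have : (⟨y, hrankH hymem⟩ : ↥H) ∈ (P : Subgroup ↥H) := by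
    rw [← heq]; exact hyQ
  exact mem_map_of_mem H.subtype this

end Cfsg.Agent.S1335
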