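import Cfsg.Statements.S1336
import Cfsg.Agent.Lib.Comp.Signalizer
import Cfsg.Agent.Lib.Coprime.Sylow
import Mathlib.GroupTheory.Sylow
import Mathlib.GroupTheory.Nilpotent

set_option autoImplicit false
open Cfsg

namespace Cfsg.Agent.S1336

open Subgroup

variable {G : Type*} [Group G] [Finite G] {p : ℕ} [hp : Fact p.Prime]

/-- vertices of the 1-connectivity graph -/
def Vx (p : ℕ) (A : Subgroup G) : Prop := Cfsg.IsElementaryAbelian p A ∧ p ^ 1 ≤ Nat.card ↥A

def Rel (p : ℕ) (A B : Subgroup G) : Prop :=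
  Cfsg.IsElementaryAbelian p A ∧ p ^ 1 ≤ Nat.card ↥A ∧ Cfsg.IsElementaryAbelian p B ∧
    p ^ 1 ≤ Nat.card ↥B ∧ ∀ a ∈ A, ∀ b ∈ B, a * b = b * a

abbrev Reach (p : ℕ) (A B : Subgroup G) : Prop := Relation.ReflTransGen (Rel p) A B

theorem reach_symm {A B : Subgroup G} (h : Reach p A B) : Reach p B A := by
  induction h with
  | refl => exact Relation.ReflTransGen.refl
  | tail _ h2 ih =>
    obtain ⟨a, b, c, d, e⟩ := h2
    exact Relation.ReflTransGen.head ⟨c, d, a, b, fun x hx y hy => (e y hy x hx).symm⟩ ih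

theorem vx_map (g : G) {A : Subgroup G} (h : Vx p A) : Vx p (A.map (MulAut.conj g).toMonoidHom) := by
  refine ⟨⟨⟨⟨?_⟩⟩, ?_⟩, by rw [CfsgLib.Coprime.card_map_conj]; exact h.2⟩
  · rintro ⟨_, a, ha, rfl⟩ ⟨_, b, hb, rfl⟩
    have := congrArg Subtype.val (h.1.1.is_comm.comm ⟨a, ha⟩ ⟨b, hb⟩)
    refine Subtype.ext ?_
    show (MulAut.conj g).toMonoidHom a * (MulAut.conj g).toMonoidHom b = _
    rw [← map_mul, show a * b = b * a from this, map_mul]
    rfl
  · rintro _ ⟨a, ha, rfl⟩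
    rw [← map_pow, h.1.2 a ha, map_one]

theorem reach_map (g : G) {A B : Subgroup G} (h : Reach p A B) :
    Reach p (A.map (MulAut.conj g).toMonoidHom) (B.map (MulAut.conj g).toMonoidHom) := by
  induction h with
  | refl => exact Relation.ReflTransGen.refl
  | tail _ h2 ih =>
    obtain ⟨a, b, c, d, e⟩ := h2
    refine ih.tail ⟨(vx_map g ⟨a, b⟩).1, (vx_map g ⟨a, b⟩).2, (vx_map g ⟨c, d⟩).1,
      (vx_map g ⟨c, d⟩).2, ?_⟩
    rintro _ ⟨x, hx, rfl⟩ _ ⟨y, hy, rfl⟩
    rw [← map_mul, e x hx y hy, map_mul]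

theorem map_conj_one (A : Subgroup G) : A.map (MulAut.conj (1 : G)).toMonoidHom = A := by
  ext x; simp [mem_map]

theorem vx_zpowers {x : G} (hx : orderOf x = p) : Vx p (zpowers x) := by
  refine ⟨⟨inferInstance, ?_⟩, by rw [Nat.card_zpowers, hx, pow_one]⟩
  rintro _ ⟨k, rfl⟩
  rw [← zpow_natCast, ← zpow_mul, mul_comm, zpow_mul, zpow_natCast, ← hx, pow_orderOf_eq_one, one_zpow]

theorem vx_exists_mem {A : Subgroup G} (h : Vx p A) : ∃ x ∈ A, orderOf x = p := by
  have hne : A ≠ ⊥ := fun e => by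
    have := h.2
    rw [e, card_bot, pow_one] at this
    exact absurd this (not_le.2 hp.out.one_lt)
  obtain ⟨x, hx, hx1⟩ := CfsgLib.Comp.exists_mem_ne_one hne
  exact ⟨x, hx, orderOf_eq_prime (h.1.2 x hx) hx1⟩

/-- In a `p`-subgroup all vertices are connected. -/
theorem reach_of_le {Q : Subgroup G} (hQ : IsPGroup p Q) {A B : Subgroup G} (hA : Vx p A)
    (hB : Vx p B) (hAQ : A ≤ Q) (hBQ : B ≤ Q) : Reach p A B := by
  obtain ⟨x, hx, hxo⟩ := vx_exists_mem hA
  have : Nontrivial ↥Q := (nontrivial_iff_ne_bot Q).2 fun e => by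
    have hxQ := hAQ hx
    rw [e, mem_bot] at hxQ
    rw [hxQ, orderOf_one] at hxo
    exact hp.out.one_lt.ne hxo
  have := hQ.center_nontrivial
  obtain ⟨m, hm, hmc⟩ := IsPGroup.nontrivial_iff_card (hQ.to_subgroup (center ↥Q)) |>.1 this
  obtain ⟨z, hz⟩ := exists_prime_orderOf_dvd_card' (G := ↥(center ↥Q)) p
    (by rw [hmc]; exact dvd_pow_self p hm.ne')
  have hzo : orderOf ((z : ↥Q) : G) = p := by rw [orderOf_coe, orderOf_coe, hz]
  have hzc : ∀ y ∈ Q, Commute y ((z : ↥Q) : G) := fun y hy =>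
    congrArg Subtype.val (mem_center_iff.1 z.2 ⟨y, hy⟩)
  have hZ : Vx p (zpowers ((z : ↥Q) : G)) := vx_zpowers hzo
  refine (Relation.ReflTransGen.single ⟨hA.1, hA.2, hZ.1, hZ.2, ?_⟩).tail ⟨hZ.1, hZ.2, hB.1, hB.2, ?_⟩
  · rintro _ ⟨k, rfl⟩ b hb
    exact ((hzc b (hBQ hb)).zpow_right k).symm.eq
  · rintro a ha _ ⟨k, rfl⟩
    exact ((hzc a (hAQ ha)).zpow_right k).eq

theorem reach_conj {K : Subgroup G} {A B : Subgroup G} (hA : Vx p A)
    (hB : Vx p B) (hAK : A ≤ K) (hBK : B ≤ K) :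
    ∃ g ∈ K, Reach p (A.map (MulAut.conj g).toMonoidHom) B := by
  obtain ⟨P, hP⟩ := ((CfsgLib.Comp.isPGroup_of_elemAb hA.1).comap_subtype (K := K)).exists_le_sylow
  obtain ⟨Q, hQ⟩ := ((CfsgLib.Comp.isPGroup_of_elemAb hB.1).comap_subtype (K := K)).exists_le_sylow
  obtain ⟨g, hg⟩ := MulAction.exists_smul_eq K P Q
  have h1 : (P : Subgroup ↥K).map (MulAut.conj g).toMonoidHom = Q :=
    congrArg (fun S : Sylow p K => (S : Subgroup ↥K)) hg
  refine ⟨g, g.2, reach_of_le (Q.2.map K.subtype) (vx_map _ hA) hB ?_ ?_⟩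
  · rw [← h1, CfsgLib.Coprime.map_conj_subtype]
    refine map_mono fun a ha => ?_
    exact ⟨⟨a, hAK ha⟩, hP ha, rfl⟩
  · exact fun b hb => ⟨⟨b, hBK hb⟩, hQ hb, rfl⟩


/-- Let G be finite and p prime. Then G has a proper subgroup H with p ∣ |H| and p ∤ |H ∩ gHg⁻¹| for every g ∉ H (a strongly p-embedded subgroup) if and only if G is not 1-connected for p. -/
theorem result {G : Type*} [Group G] [Finite G] (p : ℕ) [Fact p.Prime] : (∃ H : Subgroup G, H ≠ ⊤ ∧ p ∣ Nat.card ↥H ∧ ∀ g : G, g ∉ H → ¬ p ∣ Nat.card ↥(H ⊓ H.map (MulAut.conj g).toMonoidHom)) ↔ ¬ Cfsg.IsKConnected p 1 G := by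
  have hp : p.Prime := Fact.out
  constructor
  · rintro ⟨H, hH, hdvd, hmeet⟩ hcon
    obtain ⟨x, hx⟩ := exists_prime_orderOf_dvd_card' (G := ↥H) p hdvd
    have hxo : orderOf (x : G) = p := by rw [Subgroup.orderOf_coe, hx]
    have step : ∀ A B : Subgroup G, Rel p A B → A ≤ H → B ≤ H := by
      intro A B hAB hAH b hb
      obtain ⟨hA, hA', hB, -, hc⟩ := hAB
      obtain ⟨a, ha, hao⟩ := vx_exists_mem (p := p) (A := A) ⟨hA, hA'⟩
      by_contra hbH
      refine hmeet b hbH (hao ▸ Subgroup.orderOf_dvd_natCard _ (x := a) ⟨hAH ha, a, hAH ha, ?_⟩)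
      simp [← hc a ha b hb]
    have hall : ∀ A B : Subgroup G, Reach p A B → A ≤ H → B ≤ H := fun A B h hA => by
      induction h with
      | refl => exact hA
      | tail _ h2 ih => exact step _ _ h2 ih
    obtain ⟨g, -, hg⟩ := SetLike.exists_of_lt (lt_top_iff_ne_top.2 hH)
    have hgx : orderOf (g * x * g⁻¹) = p := by
      rw [← hxo]; exact orderOf_injective (MulAut.conj g).toMonoidHom (MulAut.conj g).injective x
    have := hall _ _ (hcon _ _ (vx_zpowers hxo).1 (vx_zpowers hxo).2 (vx_zpowers hgx).1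
      (vx_zpowers hgx).2) (Subgroup.zpowers_le.2 x.2) (Subgroup.mem_zpowers _)
    exact hmeet g hg (hgx ▸ Subgroup.orderOf_dvd_natCard _ (x := g * x * g⁻¹) ⟨this, x, x.2, rfl⟩)
  · intro hcon
    unfold Cfsg.IsKConnected at hcon
    push Not at hcon
    obtain ⟨E, E', hE1, hE2, hE1', hE2', hEE⟩ := hcon
    have hE : Vx p E := ⟨hE1, hE2⟩
    let H : Subgroup G :=
      { carrier := {g | Reach p E (E.map (MulAut.conj g).toMonoidHom)}
        one_mem' := by
          show Reach p E _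
          rw [map_conj_one]
        mul_mem' := fun {a b} ha hb => by
          show Reach p E _
          rw [← CfsgLib.Coprime.map_conj_conj]
          exact Relation.ReflTransGen.trans ha (reach_map a hb)
        inv_mem' := fun {a} ha => by
          show Reach p E _
          have h := reach_map a⁻¹ (reach_symm ha)
          rw [CfsgLib.Coprime.map_conj_conj, inv_mul_cancel, map_conj_one] at h
          exact h }
    have hEH : E ≤ H := fun e he => by
      show Reach p E _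
      rw [CfsgLib.Coprime.map_conj_of_mem_normalizer (Subgroup.le_normalizer he)]
    have hHmem : ∀ A : Subgroup G, Vx p A → A ≤ H → Reach p E A := fun A hA hAH => by
      obtain ⟨g, hg, hr⟩ := reach_conj hE hA hEH hAH
      exact Relation.ReflTransGen.trans hg hr
    obtain ⟨x, hx, hxo⟩ := vx_exists_mem hE
    refine ⟨H, fun htop => hEE ?_, hxo ▸ Subgroup.orderOf_dvd_natCard _ (hEH hx), fun g hg hdvd => ?_⟩
    · exact hHmem E' ⟨hE1', hE2'⟩ (htop ▸ le_top)
    · apply hg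
      obtain ⟨y, hy⟩ := exists_prime_orderOf_dvd_card' (G := ↥(H ⊓ H.map (MulAut.conj g).toMonoidHom)) p hdvd
      have hyo : orderOf (y : G) = p := by rw [Subgroup.orderOf_coe, hy]
      obtain ⟨hyH, w, hw, hwy⟩ := Subgroup.mem_inf.1 y.2
      have hwo : orderOf w = p := by
        rw [← hyo, ← hwy]; exact (orderOf_injective (MulAut.conj g).toMonoidHom (MulAut.conj g).injective w).symm
      have h1 := hHmem _ (vx_zpowers hyo) (Subgroup.zpowers_le.2 hyH)
      have h2 := reach_map g (hHmem _ (vx_zpowers hwo) (Subgroup.zpowers_le.2 hw))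
      rw [MonoidHom.map_zpowers, hwy] at h2
      exact Relation.ReflTransGen.trans h1 (reach_symm h2)

end Cfsg.Agent.S1336
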