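import Cfsg.Statements.S1337
import Cfsg.Agent.Lib.Comp.RankConnect
-- import your own Cfsg.Agent.* helpers here

set_option autoImplicit false
open Cfsg

namespace Cfsg.Agent.S1337

/-- Let P be a finite p-group of p-rank greater than 2. Then P has a normal elementary abelian subgroup U of order p², and for every elementary abelian X ≤ P with |X| ≥ p²: X is joined to U by a chain of pairwise commuting elementary abelian subgroups of order ≥ p² if and only if C_P(X) has p-rank greater than 2. -/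
theorem result {P : Type*} [Group P] [Finite P] (p : ℕ) [Fact p.Prime] (hP : IsPGroup p P) (hrk : ¬ Cfsg.PRankLE p 2 P) : ∃ U : Subgroup P, U.Normal ∧ Cfsg.IsElementaryAbelian p U ∧ Nat.card ↥U = p ^ 2 ∧ ∀ X : Subgroup P, Cfsg.IsElementaryAbelian p X → p ^ 2 ≤ Nat.card ↥X → (Relation.ReflTransGen (fun A B : Subgroup P => Cfsg.IsElementaryAbelian p A ∧ p ^ 2 ≤ Nat.card ↥A ∧ Cfsg.IsElementaryAbelian p B ∧ p ^ 2 ≤ Nat.card ↥B ∧ ∀ a ∈ A, ∀ b ∈ B, a * b = b * a) X U ↔ ¬ Cfsg.PRankLE p 2 ↥(Subgroup.centralizer (X : Set P))) := by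
  obtain ⟨U, hUn, hUe, hU⟩ := CfsgLib.Comp.exists_normal_elementary_sq_of_rank hP hrk
  refine ⟨U, hUn, hUe, hU, fun X hX hX2 => ⟨fun hchain hle => ?_, fun hne => ?_⟩⟩
  · -- `C(X)` of rank at most two: `X` is isolated, so it equals `U`, whose centralizer has rank three
    have hiso : ∀ Y, CfsgLib.Comp.CommStep p X Y → Y = X := by
      rintro Y ⟨-, -, hY, hY2, hc⟩
      have hXY := CfsgLib.Comp.isElementaryAbelian_sup hX hY hc
      have hsub : X ⊔ Y ≤ Subgroup.centralizer (X : Set P) := CfsgLib.Comp.le_centralizer_of_commute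
        fun a ha b hb => CfsgLib.Comp.commute_of_elementary hXY ha (le_sup_left (b := Y) hb)
      have hle2 : Nat.card ↥(X ⊔ Y) ≤ p ^ 2 := not_lt.1 fun h =>
        CfsgLib.Comp.not_pRankLE_of_le hXY hsub h hle
      have e1 : X = X ⊔ Y := Subgroup.eq_of_le_of_card_ge le_sup_left (hle2.trans hX2)
      exact Subgroup.eq_of_le_of_card_ge (e1 ▸ le_sup_right)
        (((Subgroup.card_le_of_le (le_sup_left (b := Y))).trans hle2).trans hY2)
    have hXU : X = U := by
      revert hchain
      suffices ∀ Y, Relation.ReflTransGen (CfsgLib.Comp.CommStep p) X Y → Y = X from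
        fun h => (this U h).symm
      intro Y h
      induction h with
      | refl => rfl
      | tail _ hbc ih => subst ih; exact hiso _ hbc
    subst hXU
    simp only [Cfsg.PRankLE, not_forall, not_le] at hrk
    obtain ⟨A, hAc, hAe, hA⟩ := hrk
    have hA' : Cfsg.IsElementaryAbelian p A := ⟨hAc, hAe⟩
    have hA3 := CfsgLib.Comp.pow_le_card_of_lt hP hA
    set W := A ⊓ Subgroup.centralizer (X : Set P)
    have hW : p ^ 2 ≤ Nat.card W := by
      have h1 := CfsgLib.Comp.card_le_mul_card_inf_centralizer hP hU A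
      rw [pow_succ'] at hA3
      exact Nat.le_of_mul_le_mul_left (hA3.trans h1) (Fact.out : p.Prime).pos
    have hWX : W = X := hiso W ⟨hX, hX2, CfsgLib.Comp.isElementaryAbelian_of_le hA' inf_le_left, hW,
      fun a ha b hb => Subgroup.mem_centralizer_iff.1 hb.2 a ha⟩
    have hXA : X ≤ A := hWX ▸ inf_le_left
    exact CfsgLib.Comp.not_pRankLE_of_le hA' (CfsgLib.Comp.le_centralizer_of_commute
      fun a ha b hb => CfsgLib.Comp.commute_of_elementary hA' ha (hXA hb)) hA hle
  · obtain ⟨Y, hYC, hY, hY3⟩ := CfsgLib.Comp.exists_of_not_pRankLE hne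
    have hc : ∀ a ∈ X, ∀ b ∈ Y, a * b = b * a := fun a ha b hb =>
      Subgroup.mem_centralizer_iff.1 (hYC hb) a ha
    set Z := X ⊔ Y
    have hZ : Cfsg.IsElementaryAbelian p Z := CfsgLib.Comp.isElementaryAbelian_sup hX hY hc
    have hZ3 : p ^ 3 ≤ Nat.card Z :=
      (CfsgLib.Comp.pow_le_card_of_lt hP hY3).trans (Subgroup.card_le_of_le le_sup_right)
    set W := Z ⊓ Subgroup.centralizer (U : Set P)
    have hW : p ^ 2 ≤ Nat.card W := by
      have h1 := CfsgLib.Comp.card_le_mul_card_inf_centralizer hP hU Z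
      rw [pow_succ'] at hZ3
      exact Nat.le_of_mul_le_mul_left (hZ3.trans h1) (Fact.out : p.Prime).pos
    refine ((CfsgLib.Comp.commChain_of_le hZ le_sup_left hX2).trans
      (CfsgLib.Comp.commChain_symm (CfsgLib.Comp.commChain_of_le hZ inf_le_left hW))).tail ?_
    exact ⟨CfsgLib.Comp.isElementaryAbelian_of_le hZ inf_le_left, hW, hUe, hU.ge,
      fun a ha b hb => (Subgroup.mem_centralizer_iff.1 ha.2 b hb).symm⟩

end Cfsg.Agent.S1337
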