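import Cfsg.Statements.S1338
import Cfsg.Agent.Lib.Comp.ElementaryFourExists
-- import your own Cfsg.Agent.* helpers here

set_option autoImplicit false
open Cfsg

namespace Cfsg.Agent.S1338

/-- A finite 3-group of 3-rank at least 4 is 2-connected for the prime 3: its commuting graph on elementary abelian subgroups of order ≥ 9 is connected. -/
theorem result {P : Type*} [Group P] [Finite P] (hP : IsPGroup 3 P) (hrk : ¬ Cfsg.PRankLE 3 3 P) : Cfsg.IsKConnected 3 2 P := by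
  have : Fact (Nat.Prime 3) := ⟨by norm_num⟩
  simp only [Cfsg.PRankLE, not_forall, not_le] at hrk
  obtain ⟨E₀, hE₀c, hE₀e, hE₀⟩ := hrk
  obtain ⟨A, hAn, hA, hAc⟩ := CfsgLib.Comp.exists_normal_elementary_four (p := 3) (by norm_num) hP
    ⟨hE₀c, hE₀e⟩ (CfsgLib.Comp.pow_le_card_of_lt hP hE₀)
  have hA2 : 3 ^ 2 ≤ Nat.card A := by rw [hAc]; norm_num
  suffices hto : ∀ X : Subgroup P, Cfsg.IsElementaryAbelian 3 X → 3 ^ 2 ≤ Nat.card X →
      Relation.ReflTransGen (CfsgLib.Comp.CommStep 3) X A by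
    intro X Y hX hX2 hY hY2
    exact (hto X hX hX2).trans (CfsgLib.Comp.commChain_symm (hto Y hY hY2))
  intro X hX hX2
  by_cases hXA : X ≤ A
  · exact CfsgLib.Comp.commChain_of_le hA hXA hX2
  obtain ⟨x, hxX, hxA⟩ := SetLike.not_le_iff_exists.1 hXA
  have hx3 : x ^ 3 = 1 := hX.2 x hxX
  have hx1 : x ≠ 1 := fun h => hxA (h ▸ one_mem _)
  -- a fixed point of `X` on `A`
  obtain ⟨z, hzA, hz1, hzX⟩ : ∃ z ∈ A, z ≠ 1 ∧ ∀ y ∈ X, y * z = z * y := by
    obtain ⟨z, hzA, hz1, hzc⟩ := CfsgLib.OddLocal.exists_central_mod hP (⊥ : Subgroup P) A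
      (bot_lt_iff_ne_bot.2 fun e => by rw [e, Subgroup.card_bot] at hAc; norm_num at hAc)
    refine ⟨z, hzA, fun h => hz1 (h ▸ one_mem _), fun y _ => ?_⟩
    have h := Subgroup.mem_bot.1 (hzc y)
    exact mul_inv_eq_iff_eq_mul.1 (mul_inv_eq_one.1 h)
  set W := A ⊓ Subgroup.centralizer ({x} : Set P)
  have hW : 3 ^ 2 ≤ Nat.card W := CfsgLib.Comp.le_card_centralizer_inf hP hA (by rw [hAc]; norm_num)
    hx3 (fun a ha => hAn.conj_mem a ha x)
  have hWel : Cfsg.IsElementaryAbelian 3 W := CfsgLib.Comp.isElementaryAbelian_of_le hA inf_le_left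
  have hzel : Cfsg.IsElementaryAbelian 3 (Subgroup.zpowers z) :=
    CfsgLib.Comp.isElementaryAbelian_of_le hA (Subgroup.zpowers_le.2 hzA)
  have hxel : Cfsg.IsElementaryAbelian 3 (Subgroup.zpowers x) :=
    CfsgLib.Comp.isElementaryAbelian_of_le hX (Subgroup.zpowers_le.2 hxX)
  have hxz : ∀ a ∈ Subgroup.zpowers x, ∀ b ∈ Subgroup.zpowers z, a * b = b * a := by
    rintro _ ⟨i, rfl⟩ _ ⟨j, rfl⟩
    have hc : Commute x z := hzX x hxX
    exact (hc.zpow_zpow i j).eq
  set Y := Subgroup.zpowers x ⊔ Subgroup.zpowers z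
  have hY : Cfsg.IsElementaryAbelian 3 Y := CfsgLib.Comp.isElementaryAbelian_sup hxel hzel hxz
  have hY2 : 3 ^ 2 ≤ Nat.card Y := by
    refine CfsgLib.Comp.pow_le_card_of_lt (k := 1) hP ?_
    rw [pow_one, ← orderOf_eq_prime hx3 hx1, ← Nat.card_zpowers]
    refine lt_of_le_of_ne (Subgroup.card_le_of_le le_sup_left) fun e => hz1 ?_
    have he : Subgroup.zpowers x = Y := Subgroup.eq_of_le_of_card_ge le_sup_left e.ge
    have hzx : z ∈ Subgroup.zpowers x := he ▸ le_sup_right (a := Subgroup.zpowers x) (Subgroup.mem_zpowers z)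
    by_contra hz
    have h1 : Subgroup.zpowers z = Subgroup.zpowers x := Subgroup.eq_of_le_of_card_ge
      (Subgroup.zpowers_le.2 hzx)
      (by rw [Nat.card_zpowers, Nat.card_zpowers, orderOf_eq_prime hx3 hx1, orderOf_eq_prime (hA.2 z hzA) hz])
    exact hxA (Subgroup.zpowers_le.2 hzA (h1 ▸ Subgroup.mem_zpowers x))
  have hXY : ∀ a ∈ X, ∀ b ∈ Y, a * b = b * a := by
    intro a ha b hb
    have hle : Y ≤ Subgroup.centralizer ({a} : Set P) := sup_le
      (Subgroup.zpowers_le.2 (Subgroup.mem_centralizer_singleton_iff.2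
        (CfsgLib.Comp.commute_of_elementary hX hxX ha)))
      (Subgroup.zpowers_le.2 (Subgroup.mem_centralizer_singleton_iff.2 (hzX a ha).symm))
    exact (Subgroup.mem_centralizer_singleton_iff.1 (hle hb)).symm
  have hxW : ∀ a ∈ Subgroup.zpowers x, ∀ b ∈ W, a * b = b * a := by
    rintro _ ⟨i, rfl⟩ b hb
    have hc : Commute x b := (Subgroup.mem_centralizer_singleton_iff.1 hb.2).symm
    exact (hc.zpow_left i).eq
  have hZ : Cfsg.IsElementaryAbelian 3 (Subgroup.zpowers x ⊔ W : Subgroup P) :=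
    CfsgLib.Comp.isElementaryAbelian_sup hxel hWel hxW
  have hYZ : Y ≤ Subgroup.zpowers x ⊔ W := sup_le le_sup_left
    ((Subgroup.zpowers_le.2 (Subgroup.mem_inf.2 ⟨hzA,
      Subgroup.mem_centralizer_singleton_iff.2 (hzX x hxX).symm⟩)).trans le_sup_right)
  exact (((Relation.ReflTransGen.single ⟨hX, hX2, hY, hY2, hXY⟩).trans
    (CfsgLib.Comp.commChain_of_le hZ hYZ hY2)).trans
    (CfsgLib.Comp.commChain_symm (CfsgLib.Comp.commChain_of_le hZ le_sup_right hW))).trans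
    (CfsgLib.Comp.commChain_of_le hA inf_le_left hW)

end Cfsg.Agent.S1338
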