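import Cfsg.Statements.S1339
import Cfsg.Agent.Lib.Comp.Local
-- import your own Cfsg.Agent.* helpers here

set_option autoImplicit false
set_option linter.style.haveILetI false
open Cfsg

namespace Cfsg.Agent.S1339

open Matrix

variable {F : Type*} [Field F] {n : ℕ}

theorem mul_single_apply_eq (g : Matrix (Fin n) (Fin n) F) (a b p q : Fin n) :
    (g * Matrix.single a b (1 : F)) p q = if q = b then g p a else 0 := by
  by_cases h : q = b
  · subst h; rw [if_pos rfl, Matrix.mul_single_apply_same, mul_one]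
  · rw [if_neg h, Matrix.mul_single_apply_of_ne _ _ _ _ _ h]

theorem single_mul_apply_eq (g : Matrix (Fin n) (Fin n) F) (a b p q : Fin n) :
    (Matrix.single a b (1 : F) * g) p q = if p = a then g b q else 0 := by
  by_cases h : p = a
  · subst h; rw [if_pos rfl, Matrix.single_mul_apply_same, one_mul]
  · rw [if_neg h, Matrix.single_mul_apply_of_ne _ _ _ _ _ h]

theorem commute_transvection_iff (g : Matrix (Fin n) (Fin n) F) (a b : Fin n) :
    g * Matrix.transvection a b 1 = Matrix.transvection a b 1 * g ↔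
      ∀ p q, (if q = b then g p a else 0) = if p = a then g b q else 0 := by
  rw [Matrix.transvection, mul_add, add_mul, mul_one, one_mul, add_right_inj, ← Matrix.ext_iff]
  simp only [mul_single_apply_eq, single_mul_apply_eq]


/-- Let F be a field with 2 elements, n ≥ 3, and t ∈ SL(n, F) a transvection (t = 1 + E_{ij}, i ≠ j). Then the generalized Fitting subgroup of C(t) is O_2(C(t)). -/
theorem result {F : Type*} [Field F] [Fintype F] [DecidableEq F] (hF : Fintype.card F = 2) (n : ℕ) (hn : 3 ≤ n) (i j : Fin n) (hij : i ≠ j) (t : Matrix.SpecialLinearGroup (Fin n) F) (ht : (t : Matrix (Fin n) (Fin n) F) = Matrix.transvection i j 1) : Cfsg.generalizedFittingSubgroup ↥(Subgroup.centralizer ({t} : Set (Matrix.SpecialLinearGroup (Fin n) F))) = Cfsg.pCore 2 ↥(Subgroup.centralizer ({t} : Set (Matrix.SpecialLinearGroup (Fin n) F))) := by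
  classical
  haveI : Fact (Nat.Prime 2) := ⟨Nat.prime_two⟩
  haveI : Finite (Matrix.SpecialLinearGroup (Fin n) F) := Finite.of_injective _ Subtype.val_injective
  haveI hchar : CharP F 2 := charP_of_card_eq_prime hF
  have hF2 : ∀ x : F, x ≠ 0 → x = 1 := by
    intro x hx
    by_contra h1
    have h3 := Finset.card_le_univ ({0, 1, x} : Finset F)
    rw [Finset.card_eq_three.2 ⟨0, 1, x, zero_ne_one, hx.symm, fun e => h1 e.symm, rfl⟩, hF] at h3
    omega
  set C := Subgroup.centralizer ({t} : Set (Matrix.SpecialLinearGroup (Fin n) F)) with hC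
  -- shape of the elements of the centralizer
  have hmemC : ∀ g : Matrix.SpecialLinearGroup (Fin n) F, g ∈ C ↔
      ∀ p q, (if q = j then g.1 p i else 0) = if p = i then g.1 j q else 0 := by
    intro g
    rw [hC, Subgroup.mem_centralizer_singleton_iff]
    refine Subtype.ext_iff.trans ?_
    rw [Matrix.SpecialLinearGroup.coe_mul, Matrix.SpecialLinearGroup.coe_mul, ht,
      commute_transvection_iff]
  have hcol : ∀ g : C, ∀ p, p ≠ i → g.1.1 p i = 0 := fun g p hp => by
    have := (hmemC g.1).1 g.2 p j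
    simpa [hp] using this
  have hrow : ∀ g : C, ∀ q, q ≠ j → g.1.1 j q = 0 := fun g q hq => by
    have := (hmemC g.1).1 g.2 i q
    simpa [hq] using this.symm
  have hdiag : ∀ g : C, g.1.1 i i = 1 ∧ g.1.1 j j = 1 := fun g => by
    have h1 : g.1.1 i i ≠ 0 := by
      intro h0
      have hdet : g.1.1.det = 1 := g.1.2
      rw [Matrix.det_eq_zero_of_column_eq_zero i fun p => ?_] at hdet
      · exact zero_ne_one hdet
      · by_cases hp : p = i
        · rw [hp]; exact h0
        · exact hcol g p hp
    have h2 : g.1.1 i i = g.1.1 j j := by simpa using (hmemC g.1).1 g.2 i j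
    exact ⟨hF2 _ h1, h2 ▸ hF2 _ h1⟩
  let φ : C →* Matrix {k : Fin n // k ≠ i ∧ k ≠ j} {k : Fin n // k ≠ i ∧ k ≠ j} F :=
    { toFun := fun g => Matrix.of fun k l => g.1.1 k.1 l.1
      map_one' := by ext k l; simp [Matrix.one_apply, Subtype.val_inj]
      map_mul' := fun a b => by
        ext k l
        simp only [Subgroup.coe_mul, Matrix.SpecialLinearGroup.coe_mul, Matrix.of_apply, Matrix.mul_apply]
        rw [← Finset.sum_subtype (Finset.univ.filter fun m => m ≠ i ∧ m ≠ j) (by simp)
          (fun m => a.1.1 k.1 m * b.1.1 m l.1)]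
        refine (Finset.sum_filter_of_ne fun m _ hm => ⟨?_, ?_⟩).symm
        · rintro rfl; exact hm (by rw [hcol a k.1 k.2.1, zero_mul])
        · rintro rfl; exact hm (by rw [hrow b l.1 l.2.2, mul_zero]) }
  have hker : ∀ g : C, g ∈ φ.ker ↔
      ∀ k l : {k : Fin n // k ≠ i ∧ k ≠ j}, g.1.1 k.1 l.1 = if k.1 = l.1 then 1 else 0 := by
    intro g
    rw [MonoidHom.mem_ker, ← Matrix.ext_iff]
    refine forall₂_congr fun k l => ?_
    rw [Matrix.one_apply]
    simp only [Subtype.ext_iff]
    rfl
  have hQ2 : IsPGroup 2 φ.ker := by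
    rintro ⟨g, hg⟩
    refine ⟨2, Subtype.ext (Subtype.ext (Subtype.ext ?_))⟩
    change g.1.1 ^ (2 ^ 2) = 1
    set N := g.1.1 - 1 with hN
    have hNi : ∀ p, N p i = 0 := fun p => by
      by_cases hp : p = i
      · simp [hN, hp, (hdiag g).1]
      · simp [hN, hcol g p hp, hp]
    have hNj : ∀ q, N j q = 0 := fun q => by
      by_cases hq : q = j
      · simp [hN, hq, (hdiag g).2]
      · simp [hN, hrow g q hq, Ne.symm hq]
    have hNm : ∀ p q, p ≠ i → p ≠ j → q ≠ i → q ≠ j → N p q = 0 := by
      intro p q h1 h2 h3 h4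
      have := (hker g).1 hg ⟨p, h1, h2⟩ ⟨q, h3, h4⟩
      simp [hN, Matrix.one_apply, this]
    have hN2 : ∀ p q, p ≠ i ∨ q ≠ j → (N * N) p q = 0 := by
      intro p q hpq
      rw [Matrix.mul_apply]
      refine Finset.sum_eq_zero fun m _ => ?_
      by_cases hmi : m = i
      · subst hmi; rw [hNi, zero_mul]
      by_cases hmj : m = j
      · subst hmj; rw [hNj, mul_zero]
      by_cases hpi : p = i
      · have hq : q ≠ j := hpq.resolve_left (not_not.2 hpi)
        by_cases hqi : q = i
        · subst hqi; rw [hNi, mul_zero]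
        · rw [hNm m q hmi hmj hqi hq, mul_zero]
      · by_cases hpj : p = j
        · subst hpj; rw [hNj, zero_mul]
        · rw [hNm p m hpi hpj hmi hmj, zero_mul]
    have hN4 : N * N * (N * N) = 0 := by
      ext p q
      rw [Matrix.mul_apply, Matrix.zero_apply]
      refine Finset.sum_eq_zero fun m _ => ?_
      by_cases hm : m = j
      · rw [hN2 m q (Or.inl (by rw [hm]; exact hij.symm)), mul_zero]
      · rw [hN2 p m (Or.inr hm), zero_mul]
    have h2 : ∀ M : Matrix (Fin n) (Fin n) F, M + M = 0 := fun M => by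
      ext p q; exact CharTwo.add_self_eq_zero _
    have hg' : g.1.1 = N + 1 := by rw [hN]; abel
    have hsq : ∀ M : Matrix (Fin n) (Fin n) F, (M + 1) ^ 2 = M * M + 1 := fun M => by
      rw [pow_two, add_mul, mul_add, mul_one, one_mul, ← add_assoc, add_assoc (M * M), h2, add_zero]
    rw [hg', show (2 : ℕ) ^ 2 = 2 * 2 from rfl, pow_mul, hsq, hsq, hN4, zero_add]
  have hcQ : Subgroup.centralizer (φ.ker : Set C) ≤ φ.ker := by
    intro g hg
    rw [hker]
    intro k l
    let s : Matrix.SpecialLinearGroup (Fin n) F :=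
      Matrix.SpecialLinearGroup.transvection k.2.1.symm 1
    have hs : (s : Matrix (Fin n) (Fin n) F) = Matrix.transvection i k.1 1 := rfl
    have hsC : s ∈ C := by
      rw [hmemC, hs]
      intro p q
      simp only [Matrix.transvection, Matrix.add_apply, Matrix.one_apply, Matrix.single_apply]
      grind
    have hsker : (⟨s, hsC⟩ : C) ∈ φ.ker := by
      rw [hker]
      intro a b
      simp [hs, Matrix.transvection, Matrix.one_apply, a.2.1.symm]
    have hcomm := congrArg (fun x : C => (x.1 : Matrix (Fin n) (Fin n) F))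
      (Subgroup.mem_centralizer_iff.1 hg _ hsker).symm
    simp only [Subgroup.coe_mul, Matrix.SpecialLinearGroup.coe_mul, hs] at hcomm
    have h := (commute_transvection_iff g.1.1 i k.1).1 hcomm i l.1
    rw [if_pos rfl] at h
    rw [← h, (hdiag g).1]
    simp [eq_comm]
  refine (CfsgLib.Comp.generalizedFitting_eq_pCore_iff 2 C).2 ?_
  have hle : φ.ker ≤ Cfsg.pCore 2 C := le_sSup ⟨inferInstance, hQ2⟩
  exact (Subgroup.centralizer_le hle).trans (hcQ.trans hle)

end Cfsg.Agent.S1339
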