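import Cfsg.Statements.S1340
import Cfsg.Agent.Lib.Comp.Quasisimple
import Cfsg.Agent.Lib.Comp.Subnormal
import Cfsg.Agent.Lib.Classical.SLGen
-- import your own Cfsg.Agent.* helpers here

set_option autoImplicit false
set_option linter.style.haveILetI false
open Cfsg

namespace Cfsg.Agent.S1340

open Matrix

theorem hasComponent_quotient_oddCore {C X : Type*} [Group C] [Finite C] [Group X]
    (f : X →* C) (hf : Function.Injective f) (hN : f.range.Normal)
    (hq : Cfsg.IsQuasisimple X) (heven : 2 ∣ Nat.card X) :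
    Cfsg.HasComponent (C ⧸ Cfsg.oddCore C) := by
  haveI : Fact (Nat.Prime 2) := ⟨Nat.prime_two⟩
  let g : X →* C ⧸ Cfsg.oddCore C := (QuotientGroup.mk' _).comp f
  have hgN : g.range.Normal := by
    rw [MonoidHom.range_comp]
    exact hN.map _ (QuotientGroup.mk'_surjective _)
  haveI : Nontrivial g.range := by
    rw [Subgroup.nontrivial_iff_ne_bot]
    intro hb
    have hle : f.range ≤ Cfsg.oddCore C := by
      rwa [MonoidHom.range_comp, Subgroup.map_eq_bot_iff, QuotientGroup.ker_mk'] at hb
    refine CfsgLib.Comp.not_dvd_card_pPrimeCore 2 C (heven.trans ?_)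
    rw [Nat.card_congr (MonoidHom.ofInjective hf).toEquiv]
    exact Subgroup.card_dvd_of_le hle
  exact ⟨g.range, Subgroup.Normal.isSubnormal hgN,
    CfsgLib.Comp.isQuasisimple_of_surjective hq g.rangeRestrict_surjective⟩

variable {F : Type*} [Field F]

theorem isQuasisimple_sl [Fintype F] (m : ℕ) (hm : 2 ≤ m) (h : m = 2 → 4 ≤ Fintype.card F) :
    Cfsg.IsQuasisimple (Matrix.SpecialLinearGroup (Fin m) F) := by
  rcases eq_or_ne m 2 with rfl | hne
  · have hF : 4 ≤ Nat.card F := by rw [Nat.card_eq_fintype_card]; exact h rfl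
    refine ⟨⟨?_⟩, Matrix.ProjectiveSpecialLinearGroup.rank_two_simple hF⟩
    obtain ⟨x, hx⟩ : IsCyclic Fˣ := by infer_instance
    refine SL2.commutator_eq_top (a := (x : F)) (Units.ne_zero x) fun h2 => ?_
    haveI : Finite F := inferInstance
    have h3 := Nat.card_eq_card_units_add_one F
    have h4 : orderOf x ≤ 2 := orderOf_le_of_pow_eq_one zero_lt_two (Units.ext <| by simpa using h2)
    rw [orderOf_eq_card_of_forall_mem_zpowers hx] at h4
    omega
  · have hc : 3 ≤ Fintype.card (Fin m) := by rw [Fintype.card_fin]; omega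
    exact ⟨⟨CfsgLib.Classical.commutator_sl_eq_top hc⟩, CfsgLib.Classical.isSimpleGroup_psl hc⟩

/-- `A ↦ diag(1, A)`. -/
def blk {m : ℕ} (A : Matrix (Fin m) (Fin m) F) : Matrix (Fin (m + 1)) (Fin (m + 1)) F :=
  Matrix.of (Fin.cases (Fin.cases 1 0) (fun i => Fin.cases 0 (fun j => A i j)))

theorem blk_mul {m : ℕ} (A B : Matrix (Fin m) (Fin m) F) : blk (A * B) = blk A * blk B := by
  ext i j
  induction i using Fin.cases <;> induction j using Fin.cases <;>
    simp [blk, Matrix.mul_apply, Fin.sum_univ_succ]

theorem blk_one {m : ℕ} : blk (1 : Matrix (Fin m) (Fin m) F) = 1 := by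
  ext i j
  induction i using Fin.cases <;> induction j using Fin.cases <;>
    simp [blk, Matrix.one_apply, Fin.succ_ne_zero, (Fin.succ_ne_zero _).symm]

theorem blk_det {m : ℕ} (A : Matrix (Fin m) (Fin m) F) : (blk A).det = A.det := by
  rw [Matrix.det_succ_row_zero, Fin.sum_univ_succ]
  have : (blk A).submatrix Fin.succ (Fin.succAbove 0) = A := by
    ext i j; simp [blk]
  rw [this]
  simp [blk]

theorem diag_commute {m : ℕ} (d : Fin m → F) (g : Matrix (Fin m) (Fin m) F)
    (h : g * Matrix.diagonal d = Matrix.diagonal d * g) {i j : Fin m} (hd : d i ≠ d j) :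
    g i j = 0 := by
  have := congrFun (congrFun h i) j
  simp only [Matrix.mul_diagonal, Matrix.diagonal_mul] at this
  have : (d i - d j) * g i j = 0 := by linear_combination -this
  exact (mul_eq_zero.1 this).resolve_left (sub_ne_zero.2 hd)

/-- The subgroup of `GL` of invertible matrices commuting with `diag(-1, 1, …, 1)` acting on the
first coordinate and the rest. -/
theorem component_aux [Fintype F] [DecidableEq F] (hF : (2 : F) ≠ 0) (m : ℕ)
    (hq : Cfsg.IsQuasisimple (Matrix.SpecialLinearGroup (Fin m) F)) (hm : 2 ≤ m) :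
    ∃ t : Matrix.GeneralLinearGroup (Fin (m + 1)) F, orderOf t = 2 ∧
      t ∉ Subgroup.center (Matrix.GeneralLinearGroup (Fin (m + 1)) F) ∧
      Cfsg.HasComponent (↥(Subgroup.centralizer ({t} : Set (Matrix.GeneralLinearGroup (Fin (m + 1)) F))) ⧸
        Cfsg.oddCore ↥(Subgroup.centralizer ({t} : Set (Matrix.GeneralLinearGroup (Fin (m + 1)) F)))) := by
  have hn1 : (-1 : F) ≠ 1 := fun e => hF (by linear_combination -e)
  let d : Fin (m + 1) → F := Fin.cases (-1) (fun _ => 1)
  have hd : ∀ k, d k * d k = 1 := by intro k; induction k using Fin.cases <;> simp [d]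
  let t : Matrix.GeneralLinearGroup (Fin (m + 1)) F :=
    ⟨Matrix.diagonal d, Matrix.diagonal d, by simp [hd], by simp [hd]⟩
  have ht2 : orderOf t = 2 := by
    refine orderOf_eq_prime (Units.ext ?_) fun e => hn1 ?_
    · rw [pow_two, Units.val_mul]
      show Matrix.diagonal d * Matrix.diagonal d = 1
      rw [Matrix.diagonal_mul_diagonal, ← Matrix.diagonal_one]
      exact congrArg _ (funext hd)
    · have := congrArg (fun x : Matrix.GeneralLinearGroup (Fin (m + 1)) F => (x : Matrix (Fin (m + 1)) (Fin (m + 1)) F) 0 0) e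
      simpa [t, d] using this
  have hidx : (1 : Fin (m + 1)) = Fin.succ ⟨0, by omega⟩ := by
    ext; simp [Nat.mod_eq_of_lt (show 1 < m + 1 by omega)]
  have h01 : (0 : Fin (m + 1)) ≠ 1 := by rw [hidx]; exact (Fin.succ_ne_zero _).symm
  have hd01 : d 0 ≠ d 1 := by rw [hidx]; simpa [d] using hn1
  refine ⟨t, ht2, fun hc => ?_, ?_⟩
  · let s : Matrix.GeneralLinearGroup (Fin (m + 1)) F :=
      Matrix.SpecialLinearGroup.toGL (Matrix.SpecialLinearGroup.transvection h01 1)
    have h1 : s * t = t * s := Subgroup.mem_center_iff.1 hc s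
    have h2 := diag_commute d _ (congrArg Units.val h1) hd01
    simp [s, Matrix.SpecialLinearGroup.transvection_coe, h01] at h2
  · set C := Subgroup.centralizer ({t} : Set (Matrix.GeneralLinearGroup (Fin (m + 1)) F))
    have hmem : ∀ g : Matrix.GeneralLinearGroup (Fin (m + 1)) F, g ∈ C →
        ∀ j : Fin m, g.1 0 j.succ = 0 ∧ g.1 j.succ 0 = 0 := by
      intro g hg j
      have h1 := congrArg Units.val (Subgroup.mem_centralizer_singleton_iff.1 hg)
      simp only [Units.val_mul] at h1
      constructor <;> refine diag_commute d g.1 ?_ (by simp [d, hn1, hn1.symm])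
      · exact h1
      · exact h1
    have hblk : ∀ A : Matrix (Fin m) (Fin m) F, blk A * Matrix.diagonal d = Matrix.diagonal d * blk A := by
      intro A; ext i j
      rw [Matrix.mul_diagonal, Matrix.diagonal_mul]
      induction i using Fin.cases <;> induction j using Fin.cases <;> simp [blk, d, mul_comm]
    let e0 : Matrix.SpecialLinearGroup (Fin m) F →* Matrix.GeneralLinearGroup (Fin (m + 1)) F :=
      { toFun := fun A => ⟨blk A.1, blk (A⁻¹).1,
          by rw [← blk_mul, ← Matrix.SpecialLinearGroup.coe_mul, mul_inv_cancel,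
            Matrix.SpecialLinearGroup.coe_one, blk_one],
          by rw [← blk_mul, ← Matrix.SpecialLinearGroup.coe_mul, inv_mul_cancel,
            Matrix.SpecialLinearGroup.coe_one, blk_one]⟩
        map_one' := Units.ext (by simp [blk_one])
        map_mul' := fun A B => Units.ext (by simp [blk_mul]) }
    let e : Matrix.SpecialLinearGroup (Fin m) F →* C :=
      e0.codRestrict C fun A => Subgroup.mem_centralizer_singleton_iff.2 (Units.ext (hblk A.1))
    have he : Function.Injective e := fun A B h => by
      have h1 := congrArg (fun x : C => x.1.1) h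
      ext i j
      simpa [e, e0, blk] using congrFun (congrFun h1 i.succ) j.succ
    let ψ : C →* F × F :=
      { toFun := fun g => (g.1.1 0 0, g.1.1.det)
        map_one' := by simp
        map_mul' := fun a b => by
          ext
          · simp [Matrix.mul_apply, Fin.sum_univ_succ, fun j => (hmem a.1 a.2 j).1]
          · simp [Matrix.det_mul] }
    have hrange : e.range = ψ.ker := by
      ext g
      constructor
      · rintro ⟨A, rfl⟩
        rw [MonoidHom.mem_ker]
        refine Prod.ext ?_ ?_
        · simp [ψ, e, e0, blk]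
        · simp [ψ, e, e0, blk_det]
      · intro hg
        rw [MonoidHom.mem_ker] at hg
        have hg0 : g.1.1 0 0 = 1 := congrArg Prod.fst hg
        have hg1 : g.1.1.det = 1 := congrArg Prod.snd hg
        have hblk' : g.1.1 = blk (Matrix.of fun i j => g.1.1 i.succ j.succ) := by
          ext i j
          induction i using Fin.cases <;> induction j using Fin.cases <;>
            simp [blk, hg0, fun j => (hmem g.1 g.2 j).1, fun j => (hmem g.1 g.2 j).2]
        refine ⟨⟨Matrix.of fun i j => g.1.1 i.succ j.succ, ?_⟩, Subtype.ext (Units.ext hblk'.symm)⟩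
        rw [← blk_det, ← hblk', hg1]
    refine hasComponent_quotient_oddCore e he (by rw [hrange]; exact inferInstance) hq ?_
    have hij : (⟨0, by omega⟩ : Fin m) ≠ ⟨1, by omega⟩ := by simp
    let s := Matrix.SpecialLinearGroup.diag2n hij (-1 : F) (neg_ne_zero.2 one_ne_zero)
    have hs : orderOf s = 2 := by
      refine orderOf_eq_prime (Subtype.ext ?_) fun h1 => hn1 ?_
      · rw [pow_two, Matrix.SpecialLinearGroup.coe_mul, Matrix.SpecialLinearGroup.diag2n_coe,
          Matrix.diagonal_mul_diagonal, Matrix.SpecialLinearGroup.coe_one, ← Matrix.diagonal_one]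
        congr 1; funext k; split_ifs <;> simp
      · have := congrFun (congrFun (congrArg Subtype.val h1) ⟨0, by omega⟩) ⟨0, by omega⟩
        simpa [s, Matrix.SpecialLinearGroup.diag2n_coe] using this
    exact hs ▸ orderOf_dvd_natCard s


/-- Let F be a finite field of odd order and n ≥ 3 with (n, |F|) ≠ (3, 3). Then GL(n, F) has a non-central involution t such that C(t) / O(C(t)) has a component. -/
theorem result {F : Type*} [Field F] [Fintype F] [DecidableEq F] (hF : Odd (Fintype.card F)) (n : ℕ) (hn : 3 ≤ n) (h33 : ¬ (n = 3 ∧ Fintype.card F = 3)) : ∃ t : Matrix.GeneralLinearGroup (Fin n) F, orderOf t = 2 ∧ t ∉ Subgroup.center (Matrix.GeneralLinearGroup (Fin n) F) ∧ Cfsg.HasComponent (↥(Subgroup.centralizer ({t} : Set (Matrix.GeneralLinearGroup (Fin n) F))) ⧸ Cfsg.oddCore ↥(Subgroup.centralizer ({t} : Set (Matrix.GeneralLinearGroup (Fin n) F)))) := by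
  obtain ⟨m, rfl⟩ : ∃ m, n = m + 1 := ⟨n - 1, by omega⟩
  have h2 : (2 : F) ≠ 0 := by
    intro h
    haveI : CharP F 2 := (CharP.charP_iff_prime_eq_zero Nat.prime_two).2 (by exact_mod_cast h)
    exact (Nat.not_even_iff_odd.2 hF) (FiniteField.even_card_of_char_two (ringChar.eq F 2) |> Nat.even_iff.2)
  refine component_aux h2 m (isQuasisimple_sl m (by omega) fun hm => ?_) (by omega)
  have := Fintype.one_lt_card (α := F)
  have hne : Fintype.card F ≠ 3 := fun h => h33 ⟨by omega, h⟩
  obtain ⟨k, hk⟩ := hF
  omega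

end Cfsg.Agent.S1340
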