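import Cfsg.Statements.S1343
import Cfsg.Agent.Lib.Comp.ExtLayer
-- import your own Cfsg.Agent.* helpers here

set_option autoImplicit false
open Cfsg

namespace Cfsg.Agent.S1343

open Subgroup

/-- Let X be finite. Then L*_{2'}(X) = L_{2'}(X) ⊔ F for some subgroup F of odd order normalized by a Sylow 2-subgroup of X. -/
theorem result {X : Type*} [Group X] [Finite X] : ∃ F : Subgroup X, Odd (Nat.card ↥F) ∧ (∃ S : Sylow 2 X, (S : Subgroup X) ≤ Subgroup.normalizer (F : Set X)) ∧ Cfsg.extendedTwoLayer X = Cfsg.pLayer 2 X ⊔ F := by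
  haveI : Fact (Nat.Prime 2) := ⟨Nat.prime_two⟩
  haveI := CfsgLib.Comp.layerTwoBase_normal X
  haveI : (Cfsg.oddCore X).Normal := Cfsg.pPrimeCore_normal 2 X
  let S : Sylow 2 X := default
  obtain ⟨T, hT⟩ := CfsgLib.Transfer.exists_sylow_eq_subgroupOf S (CfsgLib.Comp.layerTwoBase X)
  have hTmap : (T : Subgroup ↥(CfsgLib.Comp.layerTwoBase X)).map (CfsgLib.Comp.layerTwoBase X).subtype =
      (S : Subgroup X) ⊓ CfsgLib.Comp.layerTwoBase X := by
    rw [hT, subgroupOf_map_subtype]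
  set Tm := (T : Subgroup ↥(CfsgLib.Comp.layerTwoBase X)).map (CfsgLib.Comp.layerTwoBase X).subtype
  refine ⟨Cfsg.oddCore X ⊔ CfsgLib.Comp.centralizerCore 2 Tm, ?_, ⟨S, ?_⟩, ?_⟩
  · rw [← Nat.coprime_two_right]
    exact CfsgLib.Comp.coprime_card_sup (CfsgLib.Comp.le_normalizer_of_normal' _ _)
      (CfsgLib.Comp.coprime_card_pPrimeCore 2 X) (CfsgLib.Comp.coprime_card_centralizerCore Tm)
  · refine CfsgLib.Comp.le_normalizer_sup (CfsgLib.Comp.le_normalizer_of_normal' _ _) fun s hs =>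
      CfsgLib.Comp.mem_normalizer_centralizerCore ?_
    rw [hTmap]
    exact CfsgLib.Comp.le_normalizer_inf le_normalizer (CfsgLib.Comp.le_normalizer_of_normal' _ _) hs
  · rw [CfsgLib.Comp.extendedTwoLayer_eq T, sup_assoc]

end Cfsg.Agent.S1343
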