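import Cfsg.Statements.S1347
import Cfsg.Agent.S0205
import Cfsg.Agent.Lib.Comp.BComponent
import Cfsg.Agent.Lib.Comp.FStar

set_option autoImplicit false
open Cfsg
open Subgroup
open scoped commutatorElement

namespace Cfsg.Agent.S1347

/-- The map `x ↦ x·x^t` for `D` commuting with `D^t`. -/
private theorem exists_diag {G : Type*} [Group G] (t : G) (ht2 : t * t = 1) {D : Subgroup G}
    (hcomm : ∀ x ∈ D, ∀ y ∈ D.map (MulAut.conj t).toMonoidHom, x * y = y * x) :
    ∃ φ : ↥D →* G, (∀ x : ↥D, φ x = (x : G) * (t * x * t⁻¹)) ∧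
      φ.range ≤ (D ⊔ D.map (MulAut.conj t).toMonoidHom) ⊓ centralizer ({t} : Set G) ∧
      (∀ a ∈ (D ⊔ D.map (MulAut.conj t).toMonoidHom) ⊓ centralizer ({t} : Set G),
        ∀ b ∈ (D ⊔ D.map (MulAut.conj t).toMonoidHom) ⊓ centralizer ({t} : Set G), ⁅a, b⁆ ∈ φ.range) := by
  set c : G →* G := (MulAut.conj t).toMonoidHom with hc
  have hca : ∀ x, c x = t * x * t⁻¹ := fun x => by simp [hc]
  have hti : t⁻¹ = t := inv_eq_of_mul_eq_one_right ht2
  set C := centralizer ({t} : Set G) with hC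
  set Dt := D.map c with hDt
  set H := (D ⊔ Dt) ⊓ C with hH
  have hDn : Dt ≤ normalizer (D : Set G) := fun y hy => by
    rw [mem_normalizer_iff]
    intro x
    refine ⟨fun hx => ?_, fun hx => ?_⟩
    · rwa [← hcomm x hx y hy, mul_inv_cancel_right]
    · have h := hcomm _ hx y hy
      have e : x = y * x * y⁻¹ := by
        calc x = y⁻¹ * ((y * x * y⁻¹) * y) := by group
          _ = y⁻¹ * (y * (y * x * y⁻¹)) := by rw [h]
          _ = y * x * y⁻¹ := by group
      rw [e]; exact hx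
  let φ : ↥D →* G :=
    { toFun := fun x => (x : G) * c x
      map_one' := by simp
      map_mul' := fun x y => by
        have := hcomm y y.2 (c x) ⟨x, x.2, rfl⟩
        simp only [Subgroup.coe_mul, map_mul]
        calc (x : G) * y * (c x * c y) = x * (y * c x) * c y := by group
          _ = x * (c x * y) * c y := by rw [this]
          _ = x * c x * (y * c y) := by group }
  have hφa : ∀ x : ↥D, φ x = (x : G) * c x := fun x => rfl
  refine ⟨φ, fun x => by rw [hφa, hca], ?_⟩
  have hcc : ∀ x, c (c x) = x := fun x => by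
    rw [hca, hca, hti, show t * (t * x * t) * t = (t * t) * x * (t * t) by group, ht2, one_mul, mul_one]
  have hL0H : φ.range ≤ H := by
    rintro _ ⟨x, rfl⟩
    refine ⟨mul_mem (mem_sup_left x.2) (mem_sup_right (mem_map_of_mem c x.2)), ?_⟩
    show φ x ∈ C
    rw [hC, mem_centralizer_singleton_iff]
    have h1 : c (φ x) = φ x := by
      rw [hφa, map_mul, hcc, ← hcomm x x.2 _ (mem_map_of_mem c x.2)]
    rw [hca] at h1
    exact (mul_inv_eq_iff_eq_mul.1 h1).symm
  have hdec : ∀ h ∈ H, ∃ x : ↥D, ∃ z : G, h = φ x * z ∧ z ∈ D ∧ z ∈ Dt := by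
    intro h hh
    obtain ⟨x, hx, y, hy, rfl⟩ := CfsgLib.Comp.exists_mul_of_mem_sup hDn hh.1
    have hfix : c (x * y) = x * y := by
      have h1 : (x * y) * t = t * (x * y) := mem_centralizer_singleton_iff.1 hh.2
      rw [hca, ← h1, mul_inv_cancel_right]
    obtain ⟨d, hd, hdy⟩ := id hy
    have hcy : c y = d := by rw [← hdy, hcc]
    rw [map_mul, hcy, ← hcomm d hd _ (mem_map_of_mem c hx)] at hfix
    have hz : x⁻¹ * d = y * (c x)⁻¹ :=
      calc x⁻¹ * d = x⁻¹ * (d * c x) * (c x)⁻¹ := by group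
        _ = x⁻¹ * (x * y) * (c x)⁻¹ := by rw [hfix]
        _ = y * (c x)⁻¹ := by group
    refine ⟨⟨x, hx⟩, x⁻¹ * d, ?_, mul_mem (inv_mem hx) hd,
      hz ▸ mul_mem hy (inv_mem (mem_map_of_mem c hx))⟩
    have h2 := hcomm (x⁻¹ * d) (mul_mem (inv_mem hx) hd) (c x) (mem_map_of_mem c hx)
    calc x * y = x * ((y * (c x)⁻¹) * c x) := by group
      _ = x * ((x⁻¹ * d) * c x) := by rw [hz]
      _ = x * (c x * (x⁻¹ * d)) := by rw [h2]
      _ = φ ⟨x, hx⟩ * (x⁻¹ * d) := by rw [hφa]; group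
  have hcen : ∀ z, z ∈ D → z ∈ Dt → ∀ h ∈ H, z * h = h * z := by
    intro z hz1 hz2 h hh
    obtain ⟨x, hx, y, hy, rfl⟩ := CfsgLib.Comp.exists_mul_of_mem_sup hDn hh.1
    rw [← mul_assoc, ← hcomm x hx z hz2, mul_assoc, hcomm z hz1 y hy, mul_assoc]
  refine ⟨hL0H, fun a ha b hb => ?_⟩
  obtain ⟨x, z, rfl, hz, hz'⟩ := hdec a ha
  obtain ⟨y, w, rfl, hw, hw'⟩ := hdec b hb
  have hx : φ x ∈ H := hL0H ⟨x, rfl⟩
  have c1 := hcen z hz hz' (φ y * w) hb
  have c2 := hcen w hw hw' (φ x)⁻¹ (inv_mem hx)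
  have e : ⁅φ x * z, φ y * w⁆ = ⁅φ x, φ y⁆ := by
    rw [commutatorElement_def, commutatorElement_def, mul_inv_rev, mul_inv_rev]
    calc φ x * z * (φ y * w) * (z⁻¹ * (φ x)⁻¹) * (w⁻¹ * (φ y)⁻¹)
        = φ x * (z * (φ y * w)) * (z⁻¹ * (φ x)⁻¹) * (w⁻¹ * (φ y)⁻¹) := by group
      _ = φ x * ((φ y * w) * z) * (z⁻¹ * (φ x)⁻¹) * (w⁻¹ * (φ y)⁻¹) := by rw [c1]
      _ = φ x * φ y * (w * (φ x)⁻¹) * (w⁻¹ * (φ y)⁻¹) := by group
      _ = φ x * φ y * ((φ x)⁻¹ * w) * (w⁻¹ * (φ y)⁻¹) := by rw [c2]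
      _ = φ x * φ y * (φ x)⁻¹ * (φ y)⁻¹ := by group
  rw [e, ← map_commutatorElement]
  exact ⟨_, rfl⟩

/-- Let A be a standard subgroup of the finite group G with O(G) = 1, and t an involution of C_G(A). Then (i) A is normal in G; or (ii) there is a non-abelian simple subgroup X ≅ A with X and tXt⁻¹ commuting, meeting trivially and generating E(G), and C_G(A) = ⟨t⟩; or (iii) A ≤ E(G) and E(G) is non-abelian simple. -/
theorem result {G : Type*} [Group G] [Finite G] (A : Subgroup G) (hA : Cfsg.IsStandardSubgroup A) (hO : Cfsg.oddCore G = ⊥) (t : G) (ht : orderOf t = 2) (htA : t ∈ Subgroup.centralizer (A : Set G)) : A.Normal ∨ (∃ X : Subgroup G, IsSimpleGroup ↥X ∧ ¬ IsMulCommutative ↥X ∧ Nonempty (↥X ≃* ↥A) ∧ (∀ a ∈ X, ∀ b ∈ X.map (MulAut.conj t).toMonoidHom, a * b = b * a) ∧ X ⊓ X.map (MulAut.conj t).toMonoidHom = ⊥ ∧ X ⊔ X.map (MulAut.conj t).toMonoidHom = Cfsg.layer G ∧ Subgroup.centralizer (A : Set G) = Subgroup.zpowers t) ∨ (A ≤ Cfsg.layer G ∧ IsSimpleGroup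 ↥(Cfsg.layer G) ∧ ¬ IsMulCommutative ↥(Cfsg.layer G)) := by
  classical
  by_cases hAn : A.Normal
  · exact Or.inl hAn
  refine Or.inr ?_
  obtain ⟨hQA, ⟨hev, htight⟩, hA3, hNN⟩ := hA
  have hAperf : ⁅A, A⁆ = A := Subgroup.isPerfect_iff.1 hQA.1
  have heven_of : ∀ {K : Subgroup G}, Cfsg.IsQuasisimple K → 2 ∣ Nat.card ↥K := fun {K} hK => by
    by_contra h
    exact CfsgLib.Comp.not_isSolvable_of_isQuasisimple hK
      (Cfsg.Agent.S0205.result (Nat.odd_iff.2 (Nat.two_dvd_ne_zero.1 h)))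
  -- the centralizer of an involution of `C(A)` normalizes `A`
  have hkey : ∀ u ∈ centralizer (A : Set G), orderOf u = 2 → ∀ g : G, g * u = u * g →
      g ∈ normalizer (A : Set G) := by
    intro u hu hu2 g hg
    rw [hNN]
    by_contra hgn
    have hmem : u ∈ centralizer (A : Set G) ⊓
        (centralizer (A : Set G)).map (MulAut.conj g).toMonoidHom :=
      ⟨hu, u, hu, by simp [hg]⟩
    have h := Subgroup.orderOf_dvd_natCard _ hmem
    rw [hu2] at h
    exact (Nat.not_even_iff_odd.2 (htight g hgn)) (even_iff_two_dvd.2 h)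
  -- no non-trivial normal subgroup of even order centralizes `A`
  have hodd : ∀ (N : Subgroup G), N.Normal → N ≤ centralizer (A : Set G) → N = ⊥ := by
    intro N hN hNC
    by_contra hne
    have hNe : 2 ∣ Nat.card ↥N := by
      by_contra h2
      refine hne (le_bot_iff.1 (hO ▸ CfsgLib.Comp.le_pPrimeCore_of_isSubnormal hN.isSubnormal
        (Nat.Coprime.symm ((Nat.Prime.coprime_iff_not_dvd Nat.prime_two).2 h2))))
    refine hAn (CfsgLib.Comp.normal_of_top_le_normalizer fun g _ => ?_)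
    rw [hNN]
    by_contra hgn
    have hle : N ≤ centralizer (A : Set G) ⊓
        (centralizer (A : Set G)).map (MulAut.conj g).toMonoidHom := by
      intro x hx
      refine ⟨hNC hx, g⁻¹ * x * g, hNC ?_, by simp [mul_assoc]⟩
      simpa using hN.conj_mem x hx g⁻¹
    exact (Nat.not_even_iff_odd.2 (htight g hgn)) (even_iff_two_dvd.2 (hNe.trans (card_dvd_of_le hle)))
  set C := centralizer ({t} : Set G) with hCdef
  have ht2 : t * t = 1 := by rw [← pow_two, ← ht]; exact pow_orderOf_eq_one t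
  have htA' : ∀ a ∈ A, a * t = t * a := fun a ha => mem_centralizer_iff.1 htA a ha
  have hAC : A ≤ C := fun a ha => by
    rw [hCdef, mem_centralizer_singleton_iff]; exact htA' a ha
  have hCN : C ≤ normalizer (A : Set G) := fun g hg =>
    hkey t htA ht g (mem_centralizer_singleton_iff.1 hg)
  have hcomp : Cfsg.IsComponent (A.subgroupOf C) :=
    ⟨(normal_subgroupOf_of_le_normalizer hCN).isSubnormal,
      CfsgLib.Comp.isQuasisimple_congr (subgroupOfEquivOfLe hAC).symm hQA⟩
  have hL2 : Cfsg.pLayer 2 G ≤ Cfsg.layer G := by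
    refine sSup_le fun K hK => CfsgLib.Comp.le_layer
      (CfsgLib.Comp.isComponent_of_isPComponent_of_commutator hK ?_)
    rw [show Cfsg.pPrimeCore 2 G = ⊥ from hO, commutator_bot_right]
  obtain ⟨D, hD, hDC, hAP⟩ :=
    CfsgLib.Comp.component_of_centralizer_involution hL2 ht2 hAC hcomp (heven_of hQA)
  set c : G →* G := (MulAut.conj t).toMonoidHom with hcdef
  set Dt := D.map c with hDtdef
  have hDtc : Cfsg.IsComponent Dt := CfsgLib.Comp.isComponent_map_conj hD t
  have hPN : ∀ K : Subgroup G, K = D ⊔ Dt → A ≤ K := fun K e => e ▸ hAP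
  -- `D` does not normalize `A`, unless it is `A`
  by_cases hDA : D = A
  · exfalso
    subst hDA
    refine hAn (CfsgLib.Comp.normal_of_top_le_normalizer fun g _ => ?_)
    rw [← CfsgLib.Comp.map_conj_eq_iff]
    by_contra hne
    have hc1 := CfsgLib.Comp.component_commutator_eq_bot hD (CfsgLib.Comp.isComponent_map_conj hD g)
      (Ne.symm hne)
    exact hA3 g hne hc1
  have hDN : ¬ D ≤ normalizer (A : Set G) := by
    intro h
    by_cases hinv : Dt = D
    · have hAD : A ≤ D := hAP.trans (sup_le le_rfl hinv.le)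
      rcases CfsgLib.Comp.eq_or_le_centralizer_of_subnormal hD.2 hAD
        (normal_subgroupOf_of_le_normalizer h).isSubnormal with e | e
      · exact hDA e.symm
      · exact CfsgLib.Comp.not_le_center_of_isQuasisimple hQA
          (e.trans (centralizer_le (SetLike.coe_subset_coe.2 hAD)))
    · -- `[A, D] = D` would lie in `A`
      have hle : ⁅A, D⁆ ≤ A := commutator_le.2 fun a ha d hd => by
        rw [commutatorElement_def, show a * d * a⁻¹ * d⁻¹ = a * (d * a⁻¹ * d⁻¹) by group]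
        exact mul_mem ha ((mem_normalizer_iff.1 (h hd) _).1 (inv_mem ha))
      have hn : (⁅A, D⁆.subgroupOf D).Normal :=
        normal_subgroupOf_of_le_normalizer (normalizer_commutator_ge_right A D)
      rcases CfsgLib.Comp.normal_eq_top_or_le_center hD.2 (⁅A, D⁆.subgroupOf D) with e | e
      · have hDA2 : D ≤ A := (subgroupOf_eq_top.1 e).trans hle
        refine hinv ?_
        have hfix : ∀ x ∈ D, c x = x := fun x hx => by
          simp [hcdef, ← htA' x (hDA2 hx)]
        ext x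
        exact ⟨fun ⟨y, hy, e⟩ => e ▸ (hfix y hy).symm ▸ hy, fun hx => ⟨x, hx, hfix x hx⟩⟩
      · have : Group.IsPerfect ↥D := hD.2.1
        apply hDC
        intro a ha
        rw [mem_centralizer_iff]
        intro x hx
        have han : a ∈ normalizer (D : Set G) :=
          ((hAP.trans (sup_le (CfsgLib.Comp.le_layer hD) (CfsgLib.Comp.le_layer hDtc))).trans
            (CfsgLib.Comp.layer_le_normalizer_component hD)) ha
        have hfix := CfsgLib.Comp.mulEquiv_eq_of_perfect (D.normalizerMonoidHom ⟨a, han⟩) (fun y => e (by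
          show a * (y : G) * a⁻¹ * (y : G)⁻¹ ∈ ⁅A, D⁆
          exact commutator_mem_commutator ha y.2)) ⟨x, hx⟩
        have h1 : a * x * a⁻¹ = x := congrArg Subtype.val hfix
        exact (mul_inv_eq_iff_eq_mul.1 h1).symm
  -- every component is `D` or `Dt`
  have hall : ∀ E : Subgroup G, Cfsg.IsComponent E → E = D ∨ E = Dt := by
    intro E hE
    by_contra h
    push Not at h
    have h1 := (CfsgLib.Comp.component_eq_or_le_centralizer hE hD).resolve_left h.1
    have h2 := (CfsgLib.Comp.component_eq_or_le_centralizer hE hDtc).resolve_left h.2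
    have hEA : E ≤ centralizer (A : Set G) := by
      rw [le_centralizer_iff]
      exact hAP.trans (sup_le (le_centralizer_iff.1 h1) (le_centralizer_iff.1 h2))
    obtain ⟨u, hu⟩ := exists_prime_orderOf_dvd_card' 2 (heven_of hE.2)
    refine hDN fun x hx => hkey u (hEA u.2) (by rwa [Subgroup.orderOf_coe]) x ?_
    exact mem_centralizer_iff.1 (h1 u.2) x hx
  have hlayer : Cfsg.layer G = D ⊔ Dt :=
    le_antisymm (sSup_le fun E hE => by rcases hall E hE with e | e <;> rw [e]; exacts [le_sup_left, le_sup_right])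
      (sup_le (CfsgLib.Comp.le_layer hD) (CfsgLib.Comp.le_layer hDtc))
  -- `D` has trivial centre
  set Z := D ⊓ centralizer (D : Set G) with hZdef
  have hZA : Z ≤ centralizer (A : Set G) := by
    rw [le_centralizer_iff]
    refine hAP.trans (sup_le (le_centralizer_iff.1 inf_le_right) ?_)
    rw [le_centralizer_iff]
    rcases CfsgLib.Comp.component_eq_or_le_centralizer hD hDtc with e | e
    · rw [← e]; exact inf_le_right
    · exact inf_le_left.trans e
  have hZbot : Z = ⊥ := by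
    by_contra hne
    have hZsn : Z.IsSubnormal := CfsgLib.Comp.isSubnormal_of_le_normalizer inf_le_left hD.1
      (CfsgLib.Comp.le_normalizer_inf le_normalizer
        (CfsgLib.Comp.le_normalizer_centralizer le_normalizer))
    have hZe : 2 ∣ Nat.card ↥Z := by
      by_contra h2
      exact hne (le_bot_iff.1 (hO ▸ CfsgLib.Comp.le_pPrimeCore_of_isSubnormal hZsn
        (Nat.Coprime.symm ((Nat.Prime.coprime_iff_not_dvd Nat.prime_two).2 h2))))
    obtain ⟨u, hu⟩ := exists_prime_orderOf_dvd_card' 2 hZe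
    refine hDN fun x hx => hkey u (hZA u.2) (by rwa [Subgroup.orderOf_coe]) x ?_
    exact mem_centralizer_iff.1 u.2.2 x hx
  have hDcen : center ↥D = ⊥ := by
    rw [eq_bot_iff]
    intro z hz
    have : (z : G) ∈ Z := ⟨z.2, mem_centralizer_iff.2 fun x hx =>
      congrArg Subtype.val (mem_center_iff.1 hz ⟨x, hx⟩)⟩
    rw [hZbot, mem_bot] at this
    exact mem_bot.2 (Subtype.ext this)
  have hDsimp : IsSimpleGroup ↥D := by
    have := CfsgLib.Comp.isSimpleGroup_central_quotient hD.2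
    exact ((QuotientGroup.quotientMulEquivOfEq hDcen).trans QuotientGroup.quotientBot).symm.isSimpleGroup
  have hDna : ¬ IsMulCommutative ↥D := fun h =>
    CfsgLib.Comp.center_lt_top_of_isQuasisimple hD.2 (center_eq_top_iff.2 h)
  by_cases hinv : Dt = D
  · refine Or.inr ⟨?_, ?_, ?_⟩
    · rw [hlayer]; exact hAP
    · rw [hlayer, hinv, sup_idem]; exact hDsimp
    · rw [hlayer, hinv, sup_idem]; exact hDna
  refine Or.inl ⟨D, hDsimp, hDna, ?_⟩
  have hcomm : ∀ x ∈ D, ∀ y ∈ Dt, x * y = y * x := fun x hx y hy =>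
    (mem_centralizer_iff.1 ((CfsgLib.Comp.component_eq_or_le_centralizer hD hDtc).resolve_left
      (fun e => hinv e.symm) hx) y hy).symm
  have hint : D ⊓ Dt = ⊥ := le_bot_iff.1 (hZbot ▸ le_inf inf_le_left
    (inf_le_right.trans ((CfsgLib.Comp.component_eq_or_le_centralizer hDtc hD).resolve_left hinv)))
  obtain ⟨φ, hφ, hφH, hHH⟩ := exists_diag t ht2 hcomm
  have hinj : Function.Injective φ := by
    rw [injective_iff_map_eq_one]
    intro x hx
    have h1 : (x : G) ∈ Dt := by
      rw [hφ] at hx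
      rw [eq_inv_of_mul_eq_one_left hx]
      exact inv_mem ⟨x, x.2, by simp [hcdef]⟩
    have : (x : G) ∈ D ⊓ Dt := ⟨x.2, h1⟩
    rw [hint, mem_bot] at this
    exact Subtype.ext this
  have hA0 : A ≤ φ.range := by
    rw [← hAperf, commutator_le]
    exact fun a ha b hb => hHH a ⟨hAP ha, hAC ha⟩ b ⟨hAP hb, hAC hb⟩
  have hQ0 : Cfsg.IsQuasisimple φ.range :=
    CfsgLib.Comp.isQuasisimple_congr (MonoidHom.ofInjective hinj) hD.2
  have hAeq : A = φ.range := by
    rcases CfsgLib.Comp.eq_or_le_centralizer_of_subnormal hQ0 hA0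
      (normal_subgroupOf_of_le_normalizer ((hφH.trans inf_le_right).trans hCN)).isSubnormal with e | e
    · exact e
    · exact absurd (e.trans (centralizer_le (SetLike.coe_subset_coe.2 hA0)))
        (CfsgLib.Comp.not_le_center_of_isQuasisimple hQA)
  refine ⟨⟨(MonoidHom.ofInjective hinj).trans (MulEquiv.subgroupCongr hAeq.symm)⟩, hcomm, hint,
    hlayer.symm, ?_⟩
  -- the centralizer of `A`
  have hE : centralizer (Cfsg.layer G : Set G) = ⊥ := by
    have hln := CfsgLib.Comp.layer_normal G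
    refine hodd _ inferInstance (centralizer_le (SetLike.coe_subset_coe.2 ?_))
    rw [hlayer]; exact hAP
  have hfix : ∀ g ∈ centralizer (A : Set G), D.map (MulAut.conj g).toMonoidHom = D → g = 1 := by
    intro g hg hgD
    have hgn : g ∈ normalizer (D : Set G) := CfsgLib.Comp.map_conj_eq_iff.1 hgD
    have hgtn : ∀ y ∈ Dt, g * y * g⁻¹ ∈ Dt := by
      intro y hy
      rcases hall _ (CfsgLib.Comp.isComponent_map_conj hDtc g) with e | e
      · exfalso
        refine hinv ?_
        have : Dt.map (MulAut.conj g).toMonoidHom = D.map (MulAut.conj g).toMonoidHom := by rw [e, hgD]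
        exact map_injective (MulAut.conj g).injective this
      · have := mem_map_of_mem (MulAut.conj g).toMonoidHom hy
        rw [e] at this; simpa using this
    have hboth : ∀ x ∈ D, g * x * g⁻¹ = x ∧ g * c x * g⁻¹ = c x := by
      intro x hx
      have hxA : x * c x ∈ A := hAeq ▸ ⟨⟨x, hx⟩, by rw [hφ]; simp [hcdef]⟩
      have h1 : g * (x * c x) * g⁻¹ = x * c x :=
        mul_inv_eq_iff_eq_mul.2 (mem_centralizer_iff.1 hg _ hxA).symm
      have hx' : g * x * g⁻¹ ∈ D := (mem_normalizer_iff.1 hgn x).1 hx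
      have hy' := hgtn _ (mem_map_of_mem c hx)
      have h2 : x⁻¹ * (g * x * g⁻¹) = c x * (g * c x * g⁻¹)⁻¹ := by
        calc x⁻¹ * (g * x * g⁻¹) = x⁻¹ * (g * (x * c x) * g⁻¹) * (g * c x * g⁻¹)⁻¹ := by group
          _ = x⁻¹ * (x * c x) * (g * c x * g⁻¹)⁻¹ := by rw [h1]
          _ = c x * (g * c x * g⁻¹)⁻¹ := by group
      have h3 : x⁻¹ * (g * x * g⁻¹) ∈ D ⊓ Dt :=
        mem_inf.2 ⟨D.mul_mem (D.inv_mem hx) hx', h2 ▸ Dt.mul_mem (mem_map_of_mem c hx) (Dt.inv_mem hy')⟩
      rw [hint, mem_bot] at h3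
      rw [h3] at h2
      exact ⟨(inv_mul_eq_one.1 h3).symm, (mul_inv_eq_one.1 h2.symm).symm⟩
    have : g ∈ centralizer (Cfsg.layer G : Set G) := by
      rw [hlayer, ← zpowers_le, le_centralizer_iff]
      refine sup_le (fun x hx => ?_) (fun y hy => ?_)
      · rw [mem_centralizer_iff]
        rintro _ ⟨i, rfl⟩
        exact (Commute.zpow_left (mul_inv_eq_iff_eq_mul.1 (hboth x hx).1) i).eq
      · rw [mem_centralizer_iff]
        rintro _ ⟨i, rfl⟩
        obtain ⟨x, hx, rfl⟩ := hy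
        exact (Commute.zpow_left (mul_inv_eq_iff_eq_mul.1 (hboth x hx).2) i).eq
    rwa [hE, mem_bot] at this
  refine le_antisymm (fun g hg => ?_) (zpowers_le.2 htA)
  rcases hall _ (CfsgLib.Comp.isComponent_map_conj hD g) with e | e
  · rw [hfix g hg e]; exact one_mem _
  · have h1 : t * g = 1 := by
      refine hfix _ (mul_mem htA hg) ?_
      rw [map_mul, show ((MulAut.conj t * MulAut.conj g).toMonoidHom : G →* G) =
        c.comp (MulAut.conj g).toMonoidHom from rfl, ← Subgroup.map_map, e, hDtdef, Subgroup.map_map,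
        show c.comp c = MonoidHom.id G from MonoidHom.ext fun x => ?_, Subgroup.map_id]
      show t * (t * x * t⁻¹) * t⁻¹ = x
      calc t * (t * x * t⁻¹) * t⁻¹ = (t * t) * x * (t * t)⁻¹ := by group
        _ = x := by rw [ht2]; simp
    rw [eq_inv_of_mul_eq_one_right h1]
    exact inv_mem (mem_zpowers t)

end Cfsg.Agent.S1347
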