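import Cfsg.Statements.S1348
import Cfsg.Agent.Lib.Comp.Components
import Cfsg.Agent.Lib.Classical.SLGen
-- import your own Cfsg.Agent.* helpers here

set_option autoImplicit false
set_option linter.style.haveILetI false
open Cfsg

namespace Cfsg.Agent.S1348

open Matrix

variable {F : Type*} [Field F]

/-- `A ↦ diag(A, 1)`. -/
def blk {m : ℕ} (A : Matrix (Fin m) (Fin m) F) : Matrix (Fin (m + 1)) (Fin (m + 1)) F :=
  Matrix.of (Fin.lastCases (Fin.lastCases 1 0) (fun i => Fin.lastCases 0 (fun j => A i j)))

theorem blk_mul {m : ℕ} (A B : Matrix (Fin m) (Fin m) F) : blk (A * B) = blk A * blk B := by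
  ext i j
  induction i using Fin.lastCases <;> induction j using Fin.lastCases <;>
    simp [blk, Matrix.mul_apply, Fin.sum_univ_castSucc]

theorem blk_one {m : ℕ} : blk (1 : Matrix (Fin m) (Fin m) F) = 1 := by
  ext i j
  induction i using Fin.lastCases <;> induction j using Fin.lastCases <;>
    simp [blk, Matrix.one_apply, Fin.castSucc_ne_last, (Fin.castSucc_ne_last _).symm]

theorem blk_det {m : ℕ} (A : Matrix (Fin m) (Fin m) F) : (blk A).det = A.det := by
  rw [Matrix.det_succ_row (blk A) (Fin.last m), Fin.sum_univ_castSucc]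
  have : (blk A).submatrix (Fin.last m).succAbove (Fin.last m).succAbove = A := by
    ext i j; simp [blk]
  rw [this]
  simp [blk]

/-- `SL_m → SL_{m+1}`, `A ↦ diag(A, 1)`. -/
def blkSL (m : ℕ) : Matrix.SpecialLinearGroup (Fin m) F →* Matrix.SpecialLinearGroup (Fin (m + 1)) F :=
  MonoidHom.mk' (fun A => (⟨blk A.1, by rw [blk_det]; exact A.2⟩ :
      Matrix.SpecialLinearGroup (Fin (m + 1)) F))
    (fun A B => Subtype.ext (by exact blk_mul A.1 B.1))

theorem commute_transvection {ι : Type*} [Fintype ι] [DecidableEq ι] (g : Matrix ι ι F) (a b : ι)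
    (h : g * Matrix.transvection a b 1 = Matrix.transvection a b 1 * g) (p q : ι) :
    (if q = b then g p a else 0) = if p = a then g b q else 0 := by
  rw [Matrix.transvection, mul_add, add_mul, mul_one, one_mul, add_right_inj] at h
  have h1 := congrFun (congrFun h p) q
  have e1 : (g * Matrix.single a b (1 : F)) p q = if q = b then g p a else 0 := by
    by_cases hq : q = b
    · subst hq; rw [if_pos rfl, Matrix.mul_single_apply_same, mul_one]
    · rw [if_neg hq, Matrix.mul_single_apply_of_ne _ _ _ _ _ hq]
  have e2 : (Matrix.single a b (1 : F) * g) p q = if p = a then g b q else 0 := by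
    by_cases hp : p = a
    · subst hp; rw [if_pos rfl, Matrix.single_mul_apply_same, one_mul]
    · rw [if_neg hp, Matrix.single_mul_apply_of_ne _ _ _ _ _ hp]
  rwa [e1, e2] at h1

theorem coe_congr {ι : Type*} [Fintype ι] [DecidableEq ι] {x y : Matrix.SpecialLinearGroup ι F}
    (h : x = y) : (x : Matrix ι ι F) = y := h ▸ rfl

theorem standard_aux [Fintype F] [DecidableEq F] (h2 : (2 : F) ≠ 0) (m : ℕ) (hm : 3 ≤ m)
    (heven : Even m) (t : Matrix.SpecialLinearGroup (Fin (m + 1)) F)
    (ht : (t : Matrix (Fin (m + 1)) (Fin (m + 1)) F) =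
      Matrix.diagonal (fun i : Fin (m + 1) => if (i : ℕ) + 1 = m + 1 then (1 : F) else -1)) :
    Cfsg.IsStandardSubgroup
      ((Cfsg.layer ↥(Subgroup.centralizer ({t} : Set (Matrix.SpecialLinearGroup (Fin (m + 1)) F)))).map
        (Subgroup.centralizer ({t} : Set (Matrix.SpecialLinearGroup (Fin (m + 1)) F))).subtype) := by
  haveI : Finite (Matrix.SpecialLinearGroup (Fin (m + 1)) F) :=
    Finite.of_injective _ Subtype.val_injective
  have hn1 : (-1 : F) ≠ 1 := fun e => h2 (by linear_combination -e)
  have hm' : 3 ≤ Fintype.card (Fin m) := by rw [Fintype.card_fin]; exact hm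
  have hq : Cfsg.IsQuasisimple (Matrix.SpecialLinearGroup (Fin m) F) :=
    ⟨⟨CfsgLib.Classical.commutator_sl_eq_top hm'⟩, CfsgLib.Classical.isSimpleGroup_psl hm'⟩
  set C := Subgroup.centralizer ({t} : Set (Matrix.SpecialLinearGroup (Fin (m + 1)) F)) with hC
  have hd : ∀ i : Fin m, (if ((Fin.castSucc i : Fin (m + 1)) : ℕ) + 1 = m + 1 then (1 : F) else -1) = -1 :=
    fun i => if_neg (by have := i.2; simp; omega)
  have hmem : ∀ g : C, ∀ j : Fin m,
      g.1.1 (Fin.last m) j.castSucc = 0 ∧ g.1.1 j.castSucc (Fin.last m) = 0 := by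
    intro g j
    have h1 := coe_congr (Subgroup.mem_centralizer_singleton_iff.1 g.2)
    rw [Matrix.SpecialLinearGroup.coe_mul, Matrix.SpecialLinearGroup.coe_mul, ht] at h1
    have h3 := congrFun (congrFun h1 (Fin.last m)) j.castSucc
    have h4 := congrFun (congrFun h1 j.castSucc) (Fin.last m)
    simp only [Matrix.mul_diagonal, Matrix.diagonal_mul, hd, Fin.val_last, if_true] at h3 h4
    constructor
    · have : (2 : F) * g.1.1 (Fin.last m) j.castSucc = 0 := by linear_combination -h3
      exact (mul_eq_zero.1 this).resolve_left h2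
    · have : (2 : F) * g.1.1 j.castSucc (Fin.last m) = 0 := by linear_combination h4
      exact (mul_eq_zero.1 this).resolve_left h2
  let e0 : Matrix.SpecialLinearGroup (Fin m) F →* Matrix.SpecialLinearGroup (Fin (m + 1)) F := blkSL m
  have he0 : ∀ A, ((e0 A : Matrix.SpecialLinearGroup (Fin (m + 1)) F) :
      Matrix (Fin (m + 1)) (Fin (m + 1)) F) = blk A.1 := fun A => rfl
  have he0C : ∀ A, e0 A ∈ C := by
    intro A
    rw [hC, Subgroup.mem_centralizer_singleton_iff]
    refine Subtype.ext ?_
    rw [Matrix.SpecialLinearGroup.coe_mul, Matrix.SpecialLinearGroup.coe_mul, ht]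
    ext i j
    rw [Matrix.mul_diagonal, Matrix.diagonal_mul]
    show blk A.1 i j * _ = _ * blk A.1 i j
    induction i using Fin.lastCases <;> induction j using Fin.lastCases <;>
      simp only [hd, Fin.val_last, if_true] <;> simp [blk]
  have he0inj : Function.Injective e0 := fun A B h => by
    ext i j
    have h1 := congrFun (congrFun (coe_congr h) i.castSucc) j.castSucc
    rw [he0, he0] at h1
    simpa [blk] using h1
  let e := e0.codRestrict C he0C
  have he : Function.Injective e := fun A B h => he0inj (congrArg Subtype.val h)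
  let ψ : C →* F :=
    { toFun := fun g => g.1.1 (Fin.last m) (Fin.last m)
      map_one' := by simp
      map_mul' := fun a b => by
        simp [Matrix.mul_apply, Fin.sum_univ_castSucc, fun j => (hmem a j).1] }
  have hrange : e.range = ψ.ker := by
    ext g
    constructor
    · rintro ⟨A, rfl⟩
      show (e0 A).1 (Fin.last m) (Fin.last m) = 1
      rw [he0]; simp [blk]
    · intro hg
      have hg0 : g.1.1 (Fin.last m) (Fin.last m) = 1 := hg
      have hblk : g.1.1 = blk (Matrix.of fun i j => g.1.1 i.castSucc j.castSucc) := by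
        ext i j
        induction i using Fin.lastCases <;> induction j using Fin.lastCases <;>
          simp [blk, hg0, fun j => (hmem g j).1, fun j => (hmem g j).2]
      refine ⟨⟨Matrix.of fun i j => g.1.1 i.castSucc j.castSucc, ?_⟩,
        Subtype.ext (Subtype.ext hblk.symm)⟩
      rw [← blk_det, ← hblk]; exact g.1.2
  have hcomp : Cfsg.IsComponent e.range := by
    refine ⟨Subgroup.Normal.isSubnormal (by rw [hrange]; exact inferInstance),
      CfsgLib.Comp.isQuasisimple_congr (MonoidHom.ofInjective he) hq⟩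
  -- the centralizer of the embedded `SL_m`
  have hK : ∀ g : Matrix.SpecialLinearGroup (Fin (m + 1)) F,
      g ∈ Subgroup.centralizer ((e0.range : Subgroup _) : Set (Matrix.SpecialLinearGroup (Fin (m + 1)) F)) → ∃ a : F,
        g.1 = Matrix.diagonal (Fin.lastCases (g.1 (Fin.last m) (Fin.last m)) (fun _ => a)) := by
    intro g hg
    have key : ∀ k l : Fin m, k ≠ l → ∀ p q : Fin (m + 1),
        (if q = l.castSucc then g.1 p k.castSucc else 0) =
          if p = k.castSucc then g.1 l.castSucc q else 0 := by
      intro k l hkl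
      refine commute_transvection g.1 _ _ ?_
      have hT : (e0 (Matrix.SpecialLinearGroup.transvection hkl 1)).1 =
          Matrix.transvection k.castSucc l.castSucc (1 : F) := by
        show blk (Matrix.SpecialLinearGroup.transvection hkl (1 : F)).1 = _
        rw [Matrix.SpecialLinearGroup.transvection_coe]
        ext i j
        induction i using Fin.lastCases <;> induction j using Fin.lastCases <;>
          simp [blk, Matrix.transvection, Matrix.one_apply, Matrix.single_apply,
            Fin.castSucc_ne_last, (Fin.castSucc_ne_last _).symm]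
      rw [← hT]
      exact coe_congr
        (Subgroup.mem_centralizer_iff.1 hg _ ⟨_, rfl⟩).symm
    have hne : ∀ k : Fin m, ∃ l : Fin m, k ≠ l := fun k =>
      ⟨(Fintype.exists_ne_of_one_lt_card (by omega) k).choose,
        (Fintype.exists_ne_of_one_lt_card (by omega) k).choose_spec.symm⟩
    refine ⟨g.1 (Fin.castSucc ⟨0, by omega⟩) (Fin.castSucc ⟨0, by omega⟩), ?_⟩
    ext p q
    induction p using Fin.lastCases with
    | last =>
      induction q using Fin.lastCases with
      | last => simp
      | cast k =>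
        obtain ⟨l, hkl⟩ := hne k
        have := key k l hkl (Fin.last m) l.castSucc
        simpa [(Fin.castSucc_ne_last k).symm] using this
    | cast l =>
      by_cases hq : q = l.castSucc
      · subst hq
        rw [Matrix.diagonal_apply_eq, Fin.lastCases_castSucc]
        by_cases h0 : (⟨0, by omega⟩ : Fin m) = l
        · rw [← h0]
        · have := key _ l h0 (Fin.castSucc ⟨0, by omega⟩) l.castSucc
          rw [if_pos rfl, if_pos rfl] at this
          exact this.symm
      · rw [Matrix.diagonal_apply_ne _ (Ne.symm hq)]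
        obtain ⟨k, hlk⟩ := hne l
        have := key k l hlk.symm k.castSucc q
        simpa [hq] using this.symm
  have hKab : IsMulCommutative (Subgroup.centralizer ((e0.range : Subgroup _) : Set (Matrix.SpecialLinearGroup (Fin (m + 1)) F))) := by
    refine ⟨⟨fun x y => Subtype.ext (Subtype.ext ?_)⟩⟩
    obtain ⟨a, ha⟩ := hK x.1 x.2
    obtain ⟨b, hb⟩ := hK y.1 y.2
    simp only [Subgroup.coe_mul, Matrix.SpecialLinearGroup.coe_mul]
    rw [ha, hb, Matrix.diagonal_mul_diagonal, Matrix.diagonal_mul_diagonal]
    simp only [mul_comm]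
  have htK : t ∈ Subgroup.centralizer ((e0.range : Subgroup _) : Set (Matrix.SpecialLinearGroup (Fin (m + 1)) F)) := by
    rw [Subgroup.mem_centralizer_iff]
    rintro _ ⟨A, rfl⟩
    exact Subgroup.mem_centralizer_singleton_iff.1 (he0C A)
  have ht1 : t ≠ 1 := by
    intro h
    have := congrFun (congrFun (coe_congr h) (Fin.castSucc ⟨0, by omega⟩))
      (Fin.castSucc ⟨0, by omega⟩)
    rw [ht, Matrix.diagonal_apply_eq, hd, Matrix.SpecialLinearGroup.coe_one, Matrix.one_apply_eq] at this
    exact hn1 this
  have ht2 : t * t = 1 := by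
    refine Subtype.ext ?_
    rw [Matrix.SpecialLinearGroup.coe_mul, ht, Matrix.diagonal_mul_diagonal,
      Matrix.SpecialLinearGroup.coe_one, ← Matrix.diagonal_one]
    congr 1
    funext i
    split_ifs <;> simp
  have huniq : ∀ g ∈ Subgroup.centralizer ((e0.range : Subgroup _) : Set (Matrix.SpecialLinearGroup (Fin (m + 1)) F)), g * g = 1 → g ≠ 1 → g = t := by
    intro g hg hgg hg1
    obtain ⟨a, ha⟩ := hK g hg
    generalize hb : g.1 (Fin.last m) (Fin.last m) = b at ha
    have hdet : g.1.det = 1 := g.2
    rw [ha, Matrix.det_diagonal, Fin.prod_univ_castSucc] at hdet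
    simp only [Fin.lastCases_castSucc, Fin.lastCases_last, Finset.prod_const, Finset.card_univ,
      Fintype.card_fin] at hdet
    have h1 := coe_congr hgg
    rw [Matrix.SpecialLinearGroup.coe_mul, ha, Matrix.diagonal_mul_diagonal,
      Matrix.SpecialLinearGroup.coe_one, ← Matrix.diagonal_one] at h1
    have h1' := Matrix.diagonal_injective h1
    have haa := congrFun h1' (Fin.castSucc ⟨0, by omega⟩)
    simp only [Fin.lastCases_castSucc] at haa
    have ham : a ^ m = 1 := by
      obtain ⟨k, rfl⟩ := heven
      rw [← two_mul, pow_mul, pow_two, haa, one_pow]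
    rw [ham, one_mul] at hdet
    subst hdet
    have ha' : a = 1 ∨ a = -1 := mul_self_eq_one_iff.1 haa
    rcases ha' with rfl | rfl
    · refine absurd (Subtype.ext ?_) hg1
      rw [ha, Matrix.SpecialLinearGroup.coe_one, ← Matrix.diagonal_one]
      congr 1; funext i; induction i using Fin.lastCases <;> simp
    · refine Subtype.ext ?_
      rw [ha, ht]
      congr 1; funext i
      induction i using Fin.lastCases with
      | last => simp
      | cast k => rw [Fin.lastCases_castSucc, hd]
  have hcommC : ∀ x : C, x ∈ Subgroup.centralizer (e.range : Set C) →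
      x.1 ∈ Subgroup.centralizer ((e0.range : Subgroup _) : Set (Matrix.SpecialLinearGroup (Fin (m + 1)) F)) := by
    intro x hx
    rw [Subgroup.mem_centralizer_iff]
    rintro _ ⟨A, rfl⟩
    exact congrArg Subtype.val (Subgroup.mem_centralizer_iff.1 hx (e A) ⟨A, rfl⟩)
  have hlayer : Cfsg.layer C = e.range := by
    refine le_antisymm (sSup_le fun J hJ => ?_) (CfsgLib.Comp.le_layer hcomp)
    rcases CfsgLib.Comp.component_eq_or_le_centralizer hJ hcomp with h | h
    · exact h.le
    · exfalso
      refine CfsgLib.Comp.not_le_center_of_isQuasisimple hJ.2 fun x hx => ?_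
      rw [Subgroup.mem_centralizer_iff]
      intro y hy
      haveI := hKab
      have h1 : ∀ a b : Subgroup.centralizer ((e0.range : Subgroup _) : Set (Matrix.SpecialLinearGroup (Fin (m + 1)) F)),
          a.1 * b.1 = b.1 * a.1 := fun a b => congrArg Subtype.val (hKab.1.1 a b)
      exact Subtype.ext (h1 ⟨y.1, hcommC y (h hy)⟩ ⟨x.1, hcommC x (h hx)⟩)
  have hmap : (Cfsg.layer C).map C.subtype = e0.range := by
    rw [hlayer, ← MonoidHom.range_comp]
    rfl
  rw [hmap]
  have hCN : C ≤ Subgroup.normalizer (e0.range : Set _) := by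
    rw [← hmap]
    haveI := CfsgLib.Comp.layer_normal C
    refine le_trans ?_ (Subgroup.le_normalizer_map C.subtype)
    rw [Subgroup.normalizer_eq_top_iff.2 inferInstance, ← MonoidHom.range_eq_map, Subgroup.range_subtype]
  have hNC : ∀ g : Matrix.SpecialLinearGroup (Fin (m + 1)) F,
      g ∈ Subgroup.normalizer ((e0.range : Subgroup _) : Set (Matrix.SpecialLinearGroup (Fin (m + 1)) F)) →
      g ∈ Subgroup.normalizer (Subgroup.centralizer ((e0.range : Subgroup _) : Set (Matrix.SpecialLinearGroup (Fin (m + 1)) F)) : Set (Matrix.SpecialLinearGroup (Fin (m + 1)) F)) :=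
    fun g hg => CfsgLib.Comp.le_normalizer_centralizer le_rfl hg
  have hfix : ∀ g k, k ∈ Subgroup.centralizer ((e0.range : Subgroup _) : Set (Matrix.SpecialLinearGroup (Fin (m + 1)) F)) →
      g * k * g⁻¹ = t → g ∈ C := by
    intro g k hk hkt
    have hkk : k = g⁻¹ * t * g := by rw [← hkt]; group
    have hk2 : k = t := huniq k hk (by rw [hkk]; calc _ = g⁻¹ * (t * t) * g := by group
                                                _ = _ := by rw [ht2]; group)
      (fun h => ht1 (by rw [← hkt, h]; group))
    rw [hC, Subgroup.mem_centralizer_singleton_iff]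
    rw [hk2] at hkt
    calc g * t = g * t * g⁻¹ * g := by group
      _ = t * g := by rw [hkt]
  refine ⟨CfsgLib.Comp.isQuasisimple_congr (MonoidHom.ofInjective he0inj) hq, ⟨?_, ?_⟩, ?_, ?_⟩
  · refine even_iff_two_dvd.2 ?_
    have : orderOf t = 2 := orderOf_eq_prime (by rw [pow_two, ht2]) ht1
    rw [← this, ← Subgroup.orderOf_mk t htK]
    exact orderOf_dvd_natCard _
  · intro g hg
    rw [← Nat.not_even_iff_odd]
    intro hev
    obtain ⟨s, hs⟩ := exists_prime_orderOf_dvd_card' (hp := ⟨Nat.prime_two⟩) 2 (even_iff_two_dvd.1 hev)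
    have hss : s.1 * s.1 = 1 := by
      have h1 : s ^ 2 = 1 := by rw [← hs]; exact pow_orderOf_eq_one s
      rw [pow_two] at h1
      exact congrArg Subtype.val h1
    have hs1 : s.1 ≠ 1 := fun h => by
      have : s = 1 := Subtype.ext h
      rw [this, orderOf_one] at hs; omega
    have hst := huniq s.1 s.2.1 hss hs1
    obtain ⟨k, hk, hk'⟩ := s.2.2
    exact hg (hNC g (hCN (hfix g k hk (hst ▸ hk'))))
  · intro g hne hbot
    have h1 : (e0.range).map (MulAut.conj g).toMonoidHom ≤ Subgroup.centralizer ((e0.range : Subgroup _) : Set (Matrix.SpecialLinearGroup (Fin (m + 1)) F)) :=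
      Subgroup.le_centralizer_iff.1 (Subgroup.commutator_eq_bot_iff_le_centralizer.1 hbot)
    refine CfsgLib.Comp.not_le_center_of_isQuasisimple
      (L := (e0.range).map (MulAut.conj g).toMonoidHom)
      (CfsgLib.Comp.isQuasisimple_congr (((MonoidHom.ofInjective he0inj)).trans
        (e0.range.equivMapOfInjective _ (MulAut.conj g).injective)) hq) fun x hx => ?_
    rw [Subgroup.mem_centralizer_iff]
    intro y hy
    exact congrArg Subtype.val (hKab.1.1 (⟨y, h1 hy⟩ : Subgroup.centralizer ((e0.range : Subgroup _) : Set (Matrix.SpecialLinearGroup (Fin (m + 1)) F))) ⟨x, h1 hx⟩)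
  · refine le_antisymm hNC fun g hg => hCN (hfix g⁻¹ (g * t * g⁻¹)
      ((Subgroup.mem_normalizer_iff.1 hg t).1 htK) (by group) |> fun h => by simpa using inv_mem h)


/-- Let F be a finite field of odd order, n ≥ 7 odd, and t ∈ SL(n, F) the diagonal matrix with entries −1, …, −1, 1. Then E(C(t)) is a standard subgroup of SL(n, F). -/
theorem result {F : Type*} [Field F] [Fintype F] [DecidableEq F] (hF : Odd (Fintype.card F)) (n : ℕ) (hn : 7 ≤ n) (hodd : Odd n) (t : Matrix.SpecialLinearGroup (Fin n) F) (ht : (t : Matrix (Fin n) (Fin n) F) = Matrix.diagonal (fun i : Fin n => if (i : ℕ) + 1 = n then (1 : F) else -1)) : Cfsg.IsStandardSubgroup ((Cfsg.layer ↥(Subgroup.centralizer ({t} : Set (Matrix.SpecialLinearGroup (Fin n) F)))).map (Subgroup.centralizer ({t} : Set (Matrix.SpecialLinearGroup (Fin n) F))).subtype) := by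
  obtain ⟨m, rfl⟩ : ∃ m, n = m + 1 := ⟨n - 1, by omega⟩
  have h2 : (2 : F) ≠ 0 := by
    intro h
    haveI : CharP F 2 := (CharP.charP_iff_prime_eq_zero Nat.prime_two).2 (by exact_mod_cast h)
    exact (Nat.not_even_iff_odd.2 hF) (FiniteField.even_card_of_char_two (ringChar.eq F 2) |> Nat.even_iff.2)
  obtain ⟨k, hk⟩ := hodd
  exact standard_aux h2 m (by omega) ⟨k, by omega⟩ t ht

end Cfsg.Agent.S1348
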