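import Cfsg.Statements.S1349
import Cfsg.Agent.Lib.Comp.Signalizer
import Cfsg.Agent.Lib.Solvable.HallHigman
import Cfsg.Agent.Lib.Solvable.Fitting
import Cfsg.Agent.Lib.Solvable.PCore
import Cfsg.Agent.Lib.ClassK.Core
import Cfsg.Agent.Lib.OddLocal.Stab
import Cfsg.Agent.Lib.Coprime.Action
import Cfsg.Agent.Lib.Invol.Dihedral
import Mathlib.Algebra.Group.Subgroup.Finite

set_option autoImplicit false
open Cfsg

namespace Cfsg.Agent.S1349

open Subgroup
open scoped commutatorElement

variable {G : Type*} [Group G] [Finite G]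

theorem exists_abelian_faithful (L A : Subgroup G) (hLs : Group.IsSolvable ↥L)
    (hLodd : Odd (Nat.card ↥L)) (hA : Cfsg.IsElementaryAbelian 2 A) (hne : A ≠ ⊥)
    (hAL : A ≤ normalizer (L : Set G)) (hfaith : A ⊓ centralizer (L : Set G) = ⊥) :
    ∃ M : Subgroup G, M ≤ L ∧ (∀ x ∈ M, ∀ y ∈ M, x * y = y * x) ∧ A ≤ normalizer (M : Set G) ∧
      ∀ b ∈ A, b ∈ centralizer (M : Set G) → b = 1 := by
  have h2L : ¬ 2 ∣ Nat.card ↥L := fun h => (Nat.not_even_iff_odd.2 hLodd) (even_iff_two_dvd.2 h)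
  set F := (Cfsg.fittingSubgroup ↥L).map L.subtype with hF
  have hFL : F ≤ L := map_subtype_le _
  have hAF : A ≤ normalizer (F : Set G) := by
    have := CfsgLib.Solvable.fittingSubgroup_characteristic ↥L
    exact hAL.trans (CfsgLib.ClassK.normalizer_le_normalizer_map L _)
  have hFnil : Group.IsNilpotent ↥F := by
    have := CfsgLib.Solvable.fittingSubgroup_isNilpotent (G := ↥L)
    exact Group.nilpotent_of_mulEquiv
      ((Cfsg.fittingSubgroup ↥L).equivMapOfInjective _ L.subtype_injective)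
  have hCF : L ⊓ centralizer (F : Set G) ≤ F := by
    rintro x ⟨hxL, hxF⟩
    refine ⟨⟨x, hxL⟩, CfsgLib.Solvable.centralizer_fittingSubgroup_le ?_, rfl⟩
    exact mem_centralizer_iff.2 fun y hy =>
      Subtype.ext (mem_centralizer_iff.1 hxF _ (mem_map_of_mem L.subtype hy))
  let S : Set (Subgroup G) := {M | M ≤ F ∧ (∀ x ∈ M, ∀ y ∈ M, x * y = y * x) ∧
    A ≤ normalizer (M : Set G)}
  obtain ⟨M, ⟨hMF, hMc, hAM⟩, hMmax⟩ := (Set.toFinite S).exists_maximal
    ⟨⊥, bot_le, fun x hx y hy => by simp [mem_bot.1 hx, mem_bot.1 hy],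
      fun a _ => mem_normalizer_iff.2 fun h => by simp [mem_bot]⟩
  have hself : F ⊓ centralizer (M : Set G) ≤ M := by
    set C := F ⊓ centralizer (M : Set G) with hC
    have hMC : M ≤ C := le_inf hMF fun x hx => mem_centralizer_iff.2 fun y hy => hMc y hy x hx
    have hAC : A ≤ normalizer (C : Set G) := by
      refine CfsgLib.Comp.le_normalizer_of_conj_mem fun b hb u hu => ⟨?_, ?_⟩
      · exact CfsgLib.Comp.conj_mem_of_le_normalizer hAF b hb u hu.1
      · refine mem_centralizer_iff.2 fun m hm => ?_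
        have hm' : b⁻¹ * m * b ∈ M := by
          simpa using CfsgLib.Comp.conj_mem_of_le_normalizer hAM b⁻¹ (inv_mem hb) m hm
        have h := mem_centralizer_iff.1 hu.2 _ hm'
        calc m * (b * u * b⁻¹) = b * (b⁻¹ * m * b * u) * b⁻¹ := by group
          _ = b * (u * (b⁻¹ * m * b)) * b⁻¹ := by rw [h]
          _ = b * u * b⁻¹ * m := by group
    by_contra hcon
    let T : Set (Subgroup G) := {D | D ≤ C ∧ A ≤ normalizer (D : Set G) ∧ ¬ D ≤ M}
    obtain ⟨D, ⟨hDC, hAD, hDM⟩, hDmin⟩ := (Set.toFinite T).exists_minimal ⟨C, le_rfl, hAC, hcon⟩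
    have hDF : D ≤ F := hDC.trans inf_le_left
    have hcomm : ⁅D, D⁆ ≤ M := by
      by_contra h
      have hle : ⁅D, D⁆ ≤ D := commutator_le_self D
      have hAn : A ≤ normalizer ((⁅D, D⁆ : Subgroup G) : Set G) :=
        CfsgLib.Comp.le_normalizer_of_conj_mem fun b hb u hu => by
        have hm : D.map (MulAut.conj b).toMonoidHom ≤ D := by
          rintro _ ⟨v, hv, rfl⟩
          simpa using CfsgLib.Comp.conj_mem_of_le_normalizer hAD b hb v hv
        have h2 := mem_map_of_mem (MulAut.conj b).toMonoidHom hu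
        rw [map_commutator] at h2
        simpa using commutator_mono hm hm h2
      have heq : ⁅D, D⁆ = D := le_antisymm hle (hDmin ⟨hle.trans hDC, hAn, h⟩ hle)
      have : Group.IsNilpotent ↥D := Group.nilpotent_of_mulEquiv (subgroupOfEquivOfLe hDF)
      have hD1 : D ≠ ⊥ := fun e => hDM (e ▸ bot_le)
      have : Nontrivial ↥D := (nontrivial_iff_ne_bot D).2 hD1
      have hlt := Group.IsSolvable.commutator_lt_top_of_nontrivial ↥D
      apply hlt.ne
      apply map_injective D.subtype_injective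
      rw [map_subtype_commutator, ← MonoidHom.range_eq_map, range_subtype, heq]
    have h2D : ¬ 2 ∣ Nat.card ↥D := fun h => h2L (h.trans (card_dvd_of_le (hDF.trans hFL)))
    obtain ⟨B, hBn⟩ : ∃ B : {B : Subgroup G // B ≤ A ∧ B.relIndex A = 2},
        ¬ D ⊓ centralizer ((B : Subgroup G) : Set G) ≤ M := by
      by_contra h
      push_neg at h
      exact hDM ((CfsgLib.Comp.eq_iSup_centralizer_hyperplane hA hne h2D hAD).le.trans (iSup_le h))
    obtain ⟨B, hBA, hBi⟩ := B
    obtain ⟨x, ⟨hxD, hxB⟩, hxM⟩ := SetLike.not_le_iff_exists.1 hBn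
    obtain ⟨a, haA, haB⟩ : ∃ a ∈ A, a ∉ B := by
      by_contra h
      push_neg at h
      rw [relIndex_eq_one.2 h] at hBi
      omega
    have haa : a * a = 1 := by rw [← pow_two]; exact hA.2 a haA
    have hinv : a⁻¹ = a := inv_eq_of_mul_eq_one_right haa
    have hAab : ∀ b ∈ A, ∀ c ∈ A, b * c = c * b := fun b hb c hc =>
      congrArg Subtype.val (hA.1.is_comm.comm ⟨b, hb⟩ ⟨c, hc⟩)
    set x' := a * x * a⁻¹ with hx'
    have hx'D : x' ∈ D := CfsgLib.Comp.conj_mem_of_le_normalizer hAD a haA x hxD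
    have hx'B : x' ∈ centralizer (B : Set G) := mem_centralizer_iff.2 fun b hb => by
      have hba := hAab b (hBA hb) a haA
      have hbx := mem_centralizer_iff.1 hxB b hb
      calc b * x' = (b * a) * x * a⁻¹ := by rw [hx']; group
        _ = a * (b * x) * a⁻¹ := by rw [hba]; group
        _ = a * x * (b * a⁻¹) := by rw [hbx]; group
        _ = x' * b := by rw [hAab b (hBA hb) a⁻¹ (inv_mem haA), hx']; group
    have key : ∀ z ∈ C, z ∉ M → z ∈ centralizer (B : Set G) →
        a * z * a⁻¹ ∈ M ⊔ zpowers z → False := by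
      intro z hzC hzM hzB hza
      apply hzM
      have hcom : ∀ u ∈ M ⊔ zpowers z, ∀ v ∈ M ⊔ zpowers z, u * v = v * u := by
        have h1 : M ⊔ zpowers z ≤ centralizer ((M ⊔ zpowers z : Subgroup G) : Set G) := by
          refine sup_le (le_centralizer_iff.1 (sup_le ?_ ?_)) (le_centralizer_iff.1 (sup_le ?_ ?_))
          · exact fun u hu => mem_centralizer_iff.2 fun v hv => hMc v hv u hu
          · rw [zpowers_le]; exact hzC.2
          · rw [le_centralizer_iff, zpowers_le]; exact hzC.2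
          · rw [zpowers_le]
            refine mem_centralizer_iff.2 fun v hv => ?_
            obtain ⟨k, rfl⟩ := hv
            exact ((Commute.refl z).zpow_left k).eq
        exact fun u hu v hv => (mem_centralizer_iff.1 (h1 hu) v hv).symm
      have hBn' : B ≤ normalizer ((M ⊔ zpowers z : Subgroup G) : Set G) := by
        refine CfsgLib.Comp.le_normalizer_sup (hBA.trans hAM) (le_trans ?_ (centralizer_le_normalizer _))
        rw [le_centralizer_iff, zpowers_le]
        exact hzB
      have han : a ∈ normalizer ((M ⊔ zpowers z : Subgroup G) : Set G) := by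
        have h1 : (M ⊔ zpowers z).map (MulAut.conj a).toMonoidHom ≤ M ⊔ zpowers z := by
          rw [Subgroup.map_sup, MonoidHom.map_zpowers]
          refine sup_le (le_trans ?_ le_sup_left) (zpowers_le.2 (by simpa using hza))
          rintro _ ⟨m, hm, rfl⟩
          simpa using CfsgLib.Comp.conj_mem_of_le_normalizer hAM a haA m hm
        refine mem_normalizer_iff.2 fun h => ⟨fun hh => ?_, fun hh => ?_⟩
        · simpa using h1 (mem_map_of_mem _ hh)
        · have h3 := h1 (mem_map_of_mem _ hh)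
          simp only [MulEquiv.coe_toMonoidHom, MulAut.conj_apply] at h3
          have h4 : a * (a * h * a⁻¹) * a⁻¹ = h := by
            rw [hinv]
            calc a * (a * h * a) * a = (a * a) * h * (a * a) := by group
              _ = h := by rw [haa]; group
          rwa [h4] at h3
      have hAn : A ≤ normalizer ((M ⊔ zpowers z : Subgroup G) : Set G) := by
        intro c hc
        by_cases hcB : c ∈ B
        · exact hBn' hcB
        · have h2 : c * a ∈ B := by
            have := (relIndex_eq_two_iff.1 hBi)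
            obtain ⟨w, hwA, hw⟩ := this
            have h5 := hw c hc
            have h6 := hw a haA
            have hcw : c * w ∈ B := (h5.resolve_right (fun e => hcB e.1)).1
            have haw : a * w ∈ B := (h6.resolve_right (fun e => haB e.1)).1
            have : (c * w) * (a * w)⁻¹ ∈ B := mul_mem hcw (inv_mem haw)
            have e : c * w * (a * w)⁻¹ = c * a := by rw [mul_inv_rev, hinv]; group
            rwa [e] at this
          have h3 := mul_mem (hBn' h2) han
          have e : c * a * a = c := by rw [mul_assoc, haa, mul_one]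
          rwa [e] at h3
      have hle := hMmax ⟨sup_le hMF (zpowers_le.2 hzC.1), hcom, hAn⟩ le_sup_left
      exact hle (mem_sup_right (mem_zpowers z))
    by_cases hy : x * x' ∈ M
    · refine key x (hDC hxD) hxM hxB ?_
      have e : a * x * a⁻¹ = x⁻¹ * (x * x') := by rw [hx']; group
      rw [e]
      exact mul_mem (inv_mem (mem_sup_right (mem_zpowers x))) (mem_sup_left hy)
    · refine key (x * x') (hDC (mul_mem hxD hx'D)) hy (mul_mem hxB hx'B) ?_
      have e : a * (x * x') * a⁻¹ = ⁅x', x⁆ * (x * x') := by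
        have h1 : a * x' * a⁻¹ = x := by
          rw [hx', hinv]
          calc a * (a * x * a) * a = (a * a) * x * (a * a) := by group
            _ = x := by rw [haa]; group
        calc a * (x * x') * a⁻¹ = (a * x * a⁻¹) * (a * x' * a⁻¹) := by group
          _ = x' * x := by rw [h1, ← hx']
          _ = ⁅x', x⁆ * (x * x') := by rw [commutatorElement_def]; group
      rw [e]
      exact mul_mem (mem_sup_left (hcomm (commutator_mem_commutator hx'D hxD)))
        (mem_sup_right (mem_zpowers _))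
  refine ⟨M, hMF.trans hFL, hMc, hAM, fun b hb hbM => ?_⟩
  have hz : zpowers b ≤ A := zpowers_le.2 hb
  have hcop : ∀ K ≤ L, (Nat.card ↥(zpowers b)).Coprime (Nat.card ↥K) := fun K hK =>
    CfsgLib.Comp.coprime_card_elemAb (CfsgLib.Comp.elemAb_mono hA hz)
      fun h => h2L (h.trans (card_dvd_of_le hK))
  have hbF : zpowers b ≤ centralizer (F : Set G) := by
    refine CfsgLib.OddLocal.le_centralizer_of_centralizer_fixed_le hFnil (hz.trans hAF) (hcop F hFL) ?_
    have h1 : M ≤ F ⊓ centralizer ((zpowers b : Subgroup G) : Set G) :=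
      le_inf hMF (le_centralizer_iff.1 (zpowers_le.2 hbM))
    exact le_trans (le_trans (inf_le_inf_left _ (centralizer_le h1)) hself) h1
  have hcb : ⁅L, zpowers b⁆ ≤ F := by
    refine (le_inf (le_normalizer_iff_commutator_le_left.mp (hz.trans hAL)) ?_).trans hCF
    rw [commutator_le]
    intro l hl c hc
    refine mem_centralizer_iff.2 fun f hf => ?_
    have hfl : l⁻¹ * f * l ∈ F := by
      have : (Cfsg.fittingSubgroup ↥L).Normal := CfsgLib.Solvable.fittingSubgroup_normal ↥L
      obtain ⟨f', hf', rfl⟩ := hf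
      exact ⟨⟨l, hl⟩⁻¹ * f' * ⟨l, hl⟩,
        (CfsgLib.Solvable.fittingSubgroup_normal ↥L).conj_mem' f' hf' ⟨l, hl⟩, by simp⟩
    have h1 := mem_centralizer_iff.1 (hbF hc) _ hfl
    have h2 := mem_centralizer_iff.1 (hbF hc) _ hf
    rw [commutatorElement_def]
    calc f * (l * c * l⁻¹ * c⁻¹) = l * ((l⁻¹ * f * l) * c) * l⁻¹ * c⁻¹ := by group
      _ = l * (c * (l⁻¹ * f * l)) * l⁻¹ * c⁻¹ := by rw [h1]
      _ = l * c * l⁻¹ * (f * c⁻¹) := by group
      _ = l * c * l⁻¹ * (c⁻¹ * f) := by
        rw [show f * c⁻¹ = c⁻¹ * f from (Commute.inv_right (show Commute f c from h2)).eq]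
      _ = l * c * l⁻¹ * c⁻¹ * f := by group
  have hb2 : ⁅L, zpowers b⁆ = ⊥ := by
    refine CfsgLib.Coprime.commutator_eq_bot_of_commutator_commutator (hz.trans hAL) (hcop L le_rfl)
      (Or.inr hLs) ?_
    rw [commutator_eq_bot_iff_le_centralizer]
    exact hcb.trans (le_centralizer_iff.1 hbF)
  rw [commutator_eq_bot_iff_le_centralizer, le_centralizer_iff] at hb2
  have h : b ∈ A ⊓ centralizer (L : Set G) := ⟨hb, hb2 (mem_zpowers b)⟩
  rwa [hfaith, mem_bot] at h


/-- Let G be finite, L ≤ G solvable of odd order, and A an elementary abelian 2-subgroup of order 2^d (d ≥ 1) normalizing L with C_A(L) = 1. Then there are subgroups A_1, …, A_d of A of order 2 generating A and subgroups L_1, …, L_d of L such that each A_i ⊔ L_i is dihedral of order 2 n_i with n_i odd and at least 3, and A_i ⊔ L_i commutes elementwise with A_j ⊔ L_j for i ≠ j. -/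
theorem result {G : Type*} [Group G] [Finite G] (L A : Subgroup G) (hLs : Group.IsSolvable ↥L) (hLodd : Odd (Nat.card ↥L)) (hA : Cfsg.IsElementaryAbelian 2 A) (d : ℕ) (hd : 1 ≤ d) (hAd : Nat.card ↥A = 2 ^ d) (hAL : A ≤ Subgroup.normalizer (L : Set G)) (hfaith : A ⊓ Subgroup.centralizer (L : Set G) = ⊥) : ∃ (Ai : Fin d → Subgroup G) (Li : Fin d → Subgroup G) (n : Fin d → ℕ), (∀ i, Ai i ≤ A ∧ Nat.card ↥(Ai i) = 2 ∧ Li i ≤ L ∧ Odd (n i) ∧ 3 ≤ n i ∧ Nonempty (↥(Ai i ⊔ Li i) ≃* DihedralGroup (n i))) ∧ (⨆ i, Ai i) = A ∧ ∀ i j, i ≠ j → ∀ x ∈ Ai i ⊔ Li i, ∀ y ∈ Ai j ⊔ Li j, x * y = y * x := by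
  classical
  have hne : A ≠ ⊥ := fun h => by
    rw [h, card_bot] at hAd
    exact absurd hAd.symm (Nat.one_lt_two_pow (by omega)).ne'
  obtain ⟨M, hML, hMc, hAM, hMf⟩ := exists_abelian_faithful L A hLs hLodd hA hne hAL hfaith
  have h2L : ¬ 2 ∣ Nat.card ↥L := fun h => (Nat.not_even_iff_odd.2 hLodd) (even_iff_two_dvd.2 h)
  have hAab : ∀ b ∈ A, ∀ c ∈ A, b * c = c * b := fun b hb c hc =>
    congrArg Subtype.val (hA.1.is_comm.comm ⟨b, hb⟩ ⟨c, hc⟩)
  let P : Finset (Subgroup G) → Prop := fun T => (∀ B ∈ T, B ≤ A ∧ B.relIndex A = 2 ∧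
      ¬ M ⊓ centralizer (B : Set G) ≤ centralizer (A : Set G)) ∧
    ∀ b ∈ A, (∀ B ∈ T, b ∈ B) → b = 1
  obtain ⟨T, hT, hTmin⟩ : ∃ T, P T ∧ ∀ T' ⊂ T, ¬ P T' := by
    have : Fintype (Subgroup G) := Fintype.ofFinite _
    let S0 : Finset (Subgroup G) := Finset.univ.filter fun B => B ≤ A ∧ B.relIndex A = 2 ∧
      ¬ M ⊓ centralizer (B : Set G) ≤ centralizer (A : Set G)
    have hS0 : P S0 := by
      refine ⟨fun B hB => (Finset.mem_filter.1 hB).2, fun b hb hall => hMf b hb ?_⟩
      refine le_centralizer_iff.1 ?_ (mem_zpowers b)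
      rw [CfsgLib.Comp.eq_iSup_centralizer_hyperplane hA hne
        (fun h => h2L (h.trans (card_dvd_of_le hML))) hAM]
      refine iSup_le fun B x hx => ?_
      refine mem_centralizer_iff.2 fun c hc => ?_
      obtain ⟨k, rfl⟩ := hc
      refine Commute.zpow_left (show Commute b x from ?_) k
      by_cases h : M ⊓ centralizer ((B : Subgroup G) : Set G) ≤ centralizer (A : Set G)
      · exact mem_centralizer_iff.1 (h hx) b hb
      · exact mem_centralizer_iff.1 hx.2 b (hall B.1
          (Finset.mem_filter.2 ⟨Finset.mem_univ _, B.2.1, B.2.2, h⟩))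
    obtain ⟨T, hT, hmin⟩ := (Set.toFinite {T | P T}).exists_minimal ⟨S0, hS0⟩
    exact ⟨T, hT, fun T' hT' hP => hT'.not_ge (hmin hP hT'.le)⟩
  have hwit : ∀ B : ↥T, ∃ a ∈ A, a ∉ B.1 ∧ ∀ B' ∈ T, B' ≠ B.1 → a ∈ B' := by
    rintro ⟨B, hB⟩
    have h := hTmin _ (Finset.erase_ssubset hB)
    by_contra hcon
    push_neg at hcon
    refine h ⟨fun B' hB' => hT.1 B' (Finset.mem_of_mem_erase hB'), fun b hb hall => ?_⟩
    refine hT.2 b hb fun B' hB' => ?_
    by_cases e : B' = B
    · subst e
      by_contra hbB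
      obtain ⟨B'', hB'', hne'', hn⟩ := hcon b hb hbB
      exact hn (hall B'' (Finset.mem_erase.2 ⟨hne'', hB''⟩))
    · exact hall B' (Finset.mem_erase.2 ⟨e, hB'⟩)
  choose a haA haN haO using hwit
  have hidx : ∀ B ∈ T, ∀ b ∈ A, ∀ c ∈ A, b ∉ B → c ∉ B → b * c ∈ B := by
    intro B hB b hb c hc hbB hcB
    have h := index_eq_two_iff.1 (hT.1 B hB).2.1
    obtain ⟨w, hw⟩ := h
    have h2 : (B.subgroupOf A).index = 2 := (hT.1 B hB).2.1
    exact (mul_mem_iff_of_index_two h2 (a := ⟨b, hb⟩) (b := ⟨c, hc⟩)).2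
      ⟨fun e => absurd e hbB, fun e => absurd e hcB⟩
  have hpat : ∀ b ∈ A, ∀ c ∈ A, (∀ B ∈ T, (b ∈ B ↔ c ∈ B)) → b = c := by
    intro b hb c hc h
    refine mul_inv_eq_one.1 (hT.2 _ (mul_mem hb (inv_mem hc)) fun B hB => ?_)
    by_cases hbB : b ∈ B
    · exact mul_mem hbB (inv_mem ((h B hB).1 hbB))
    · exact hidx B hB b hb _ (inv_mem hc) hbB fun e => hbB ((h B hB).2 (inv_mem_iff.1 e))
  have hex : ∀ U : Finset ↥T, ∃ c ∈ ⨆ B : ↥T, zpowers (a B), c ∈ A ∧
      ∀ B : ↥T, (c ∈ B.1 ↔ B ∉ U) := by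
    intro U
    induction U using Finset.induction_on with
    | empty => exact ⟨1, one_mem _, one_mem _, fun B => by simp⟩
    | @insert B0 U hB0 ih =>
      obtain ⟨c, hc, hcA, hcU⟩ := ih
      refine ⟨a B0 * c, mul_mem (mem_iSup_of_mem B0 (mem_zpowers _)) hc, mul_mem (haA B0) hcA,
        fun B => ?_⟩
      by_cases e : B = B0
      · subst e
        rw [mul_mem_cancel_right ((hcU B).2 hB0)]
        simp [haN B]
      · rw [mul_mem_cancel_left (haO B0 B.1 B.2 fun h => e (Subtype.ext h)), hcU B]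
        simp [e]
  have hgen : A = ⨆ B : ↥T, zpowers (a B) := by
    refine le_antisymm (fun b hb => ?_) (iSup_le fun B => zpowers_le.2 (haA B))
    obtain ⟨c, hc, hcA, hcU⟩ := hex (Finset.univ.filter fun B : ↥T => b ∉ B.1)
    have e : b = c := hpat b hb c hcA fun B hB => by
      rw [hcU ⟨B, hB⟩]; simp
    exact e ▸ hc
  have hcard : T.card = d := by
    have hbij : Function.Bijective
        (fun b : ↥A => (Finset.univ.filter fun B : ↥T => (b : G) ∉ B.1)) := by
      refine ⟨fun b c h => Subtype.ext (hpat b b.2 c c.2 fun B hB => ?_), fun U => ?_⟩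
      · have := Finset.ext_iff.1 h ⟨B, hB⟩
        simp only [Finset.mem_filter, Finset.mem_univ, true_and] at this
        exact not_iff_not.1 this
      · obtain ⟨c, -, hcA, hcU⟩ := hex U
        refine ⟨⟨c, hcA⟩, Finset.ext fun B => ?_⟩
        simp only [Finset.mem_filter, Finset.mem_univ, true_and, hcU B, not_not]
    have h1 := Nat.card_eq_of_bijective _ hbij
    rw [hAd, Nat.card_eq_fintype_card, Fintype.card_finset, Fintype.card_coe] at h1
    exact (Nat.pow_right_injective le_rfl h1).symm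
  have hlx : ∀ B : ↥T, ∃ l ∈ M, l ∈ centralizer (B.1 : Set G) ∧ l ≠ 1 ∧
      a B * l * (a B)⁻¹ = l⁻¹ := by
    intro B
    obtain ⟨hBA, hBi, hBn⟩ := hT.1 B.1 B.2
    obtain ⟨x, ⟨hxM, hxB⟩, hxA⟩ := SetLike.not_le_iff_exists.1 hBn
    have haa : a B * a B = 1 := by rw [← pow_two]; exact hA.2 _ (haA B)
    have hinv : (a B)⁻¹ = a B := inv_eq_of_mul_eq_one_right haa
    refine ⟨x * (a B * x⁻¹ * (a B)⁻¹), mul_mem hxM
      (CfsgLib.Comp.conj_mem_of_le_normalizer hAM _ (haA B) _ (inv_mem hxM)), ?_, ?_, ?_⟩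
    · refine mem_centralizer_iff.2 fun b hb => ?_
      have c1 : Commute b x := mem_centralizer_iff.1 hxB b hb
      have c2 : Commute b (a B) := hAab b (hBA hb) _ (haA B)
      exact (c1.mul_right ((c2.mul_right c1.inv_right).mul_right c2.inv_right)).eq
    · intro h
      have hc : Commute (a B) x := by
        have h2 : x = (a B * x⁻¹ * (a B)⁻¹)⁻¹ := eq_inv_of_mul_eq_one_left h
        have h3 : x * a B = a B * x := by
          conv_lhs => rw [h2]
          group
        exact h3.symm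
      refine hxA (mem_centralizer_iff.2 fun b hb => ?_)
      by_cases hbB : b ∈ B.1
      · exact mem_centralizer_iff.1 hxB b hbB
      · have h4 : b * a B ∈ B.1 := hidx B.1 B.2 b hb _ (haA B) hbB (haN B)
        have c1 : Commute (b * a B) x := mem_centralizer_iff.1 hxB _ h4
        have e : b = b * a B * a B := by rw [mul_assoc, haa, mul_one]
        rw [e]
        exact (c1.mul_left hc).eq
    · rw [hinv]
      calc a B * (x * (a B * x⁻¹ * a B)) * a B
          = a B * x * (a B * x⁻¹ * (a B * a B)) := by group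
        _ = a B * x * (a B)⁻¹ * x⁻¹ := by rw [haa, hinv]; group
        _ = (x * (a B * x⁻¹ * (a B)⁻¹))⁻¹ := by group
        _ = (x * (a B * x⁻¹ * a B))⁻¹ := by rw [hinv]
  choose l hlM hlB hl1 hla using hlx
  have e : Fin d ≃ ↥T := (Fintype.equivFinOfCardEq (by rw [Fintype.card_coe, hcard])).symm
  have ha2 : ∀ B : ↥T, orderOf (a B) = 2 := fun B =>
    orderOf_eq_prime (hA.2 _ (haA B)) fun h => haN B (h ▸ one_mem _)
  refine ⟨fun i => zpowers (a (e i)), fun i => zpowers (l (e i)), fun i => orderOf (l (e i)),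
    fun i => ?_, ?_, ?_⟩
  · have hlL : l (e i) ∈ L := hML (hlM _)
    have hodd : Odd (orderOf (l (e i))) := hLodd.of_dvd_nat (L.orderOf_dvd_natCard hlL)
    refine ⟨zpowers_le.2 (haA _), by rw [Nat.card_zpowers, ha2], zpowers_le.2 hlL, hodd, ?_, ?_⟩
    · have h1 : orderOf (l (e i)) ≠ 1 := fun h => hl1 _ (orderOf_eq_one_iff.1 h)
      have h2 := hodd.pos
      obtain ⟨k, hk⟩ := hodd
      show 3 ≤ orderOf (l (e i))
      omega
    · have : NeZero (orderOf (l (e i))) := ⟨hodd.pos.ne'⟩
      have hnot : a (e i) ∉ zpowers (l (e i)) := fun h => by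
        have h3 := orderOf_dvd_of_mem_zpowers h
        rw [ha2] at h3
        exact (Nat.not_even_iff_odd.2 hodd) (even_iff_two_dvd.2 h3)
      obtain ⟨f⟩ := CfsgLib.Invol.exists_mulEquiv_dihedral rfl (ha2 (e i)) (hla _) hnot
      refine ⟨(MulEquiv.subgroupCongr ?_).trans f⟩
      rw [Set.insert_eq, Subgroup.closure_union, ← zpowers_eq_closure, ← zpowers_eq_closure, sup_comm]
  · rw [hgen]
    exact e.iSup_comp (g := fun B : ↥T => zpowers (a B))
  · intro i j hij
    have key : ∀ B B' : ↥T, B ≠ B' → Commute (a B) (l B') := fun B B' h =>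
      mem_centralizer_iff.1 (hlB B') (a B) (haO B B'.1 B'.2 fun e => h (Subtype.ext e.symm))
    have hne' : e i ≠ e j := fun h => hij (e.injective h)
    have h : zpowers (a (e i)) ⊔ zpowers (l (e i)) ≤
        centralizer ((zpowers (a (e j)) ⊔ zpowers (l (e j)) : Subgroup G) : Set G) := by
      refine sup_le ?_ ?_ <;> rw [le_centralizer_iff] <;> refine sup_le ?_ ?_ <;>
        rw [le_centralizer_iff, zpowers_le, mem_centralizer_iff] <;> rintro _ ⟨k, rfl⟩
      · exact ((show Commute (a (e j)) (a (e i)) from hAab _ (haA _) _ (haA _)).zpow_left k).eq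
      · exact ((key _ _ hne').symm.zpow_left k).eq
      · exact ((key _ _ hne'.symm).zpow_left k).eq
      · exact ((show Commute (l (e j)) (l (e i)) from hMc _ (hlM _) _ (hlM _)).zpow_left k).eq
    exact fun x hx y hy => (mem_centralizer_iff.1 (h hx) y hy).symm

end Cfsg.Agent.S1349
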