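import Cfsg.Statements.S1358
import Cfsg.Agent.Lib.BG.KappaDecomp

set_option autoImplicit false
open Cfsg

namespace Cfsg.Agent.S1358

/-- Let G be a minimal simple group of odd order and M a maximal subgroup with standard factorisation M = K U M_σ. Then for every prime p, every Sylow p-subgroup of U is abelian and has no elementary abelian subgroup of order p ^ 3. -/
theorem result {G : Type*} [Group G] [Finite G] (hG : Cfsg.IsMinSimpleOddOrder G)
    (M : Subgroup G) (hM : IsCoatom M) (K U : Subgroup G) (hKU : Cfsg.IsSigmaDecomposition M K U) :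
    ∀ (p : ℕ), p.Prime → ∀ P : Sylow p U, IsMulCommutative (P : Subgroup U) ∧ Cfsg.PRankLE p 2 (P : Subgroup U) := by
  intro p hp P
  haveI : Fact p.Prime := ⟨hp⟩
  set f : (P : Subgroup U) →* G := U.subtype.comp (P : Subgroup U).subtype with hf
  have hfi : Function.Injective f := U.subtype_injective.comp (P : Subgroup U).subtype_injective
  have hfM : ∀ x, f x ∈ M := fun x => hKU.compl.1 (x : U).2
  rcases eq_or_ne (P : Subgroup U) ⊥ with h1 | h1
  · haveI : Subsingleton (P : Subgroup U) := by rw [h1]; infer_instance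
    refine ⟨⟨⟨fun a b => Subsingleton.elim _ _⟩⟩, fun X hX hXp => ?_⟩
    rw [Nat.card_of_subsingleton (1 : X)]
    exact Nat.one_le_pow _ _ hp.pos
  have hσ : p ∉ Cfsg.sigma M := ((CfsgLib.BG.decomp_U_primes hG hM hKU).2 p hp
    ((CfsgLib.BG.dvd_card_of_pgroup_ne_bot P.isPGroup' h1).trans (Subgroup.card_subgroup_dvd_card _))).2
  refine ⟨?_, fun X hX hXp => ?_⟩
  · have hQp : IsPGroup p f.range := P.isPGroup'.of_surjective f.rangeRestrict f.rangeRestrict_surjective
    have hQM : f.range ≤ M := by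
      rintro _ ⟨x, rfl⟩
      exact hfM x
    have hab := CfsgLib.BG.isMulCommutative_of_nilpotent hG hM hQM hQp.isNilpotent
      fun r hr hd => (CfsgLib.BG.prime_dvd_pgroup_card hQp hr hd) ▸ hσ
    exact ⟨⟨fun a b => hfi (by
      rw [map_mul, map_mul]
      exact congrArg Subtype.val (hab.is_comm.comm ⟨f a, a, rfl⟩ ⟨f b, b, rfl⟩))⟩⟩
  · rw [Nat.card_congr (X.equivMapOfInjective f hfi).toEquiv]
    exact CfsgLib.BG.elemAb_card_le (CfsgLib.PLocal.elemAb_map f ⟨hX, hXp⟩)
      (fun y ⟨x, _, hx⟩ => hx ▸ hfM x) (CfsgLib.BG.prankLE_two_of_not_sigma hG hM hσ)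


end Cfsg.Agent.S1358
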