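import Cfsg.Statements.S1360
import Cfsg.Agent.Lib.BG.KappaExponent

set_option autoImplicit false
open Cfsg

namespace Cfsg.Agent.S1360

/-- Let G be a minimal simple group of odd order and M a maximal subgroup with standard factorisation M = K U M_σ. Then U contains a subgroup U₀ with the same exponent as U such that no non-identity element of U₀ centralizes a non-identity element of M_σ. -/
theorem result {G : Type*} [Group G] [Finite G] (hG : Cfsg.IsMinSimpleOddOrder G)
    (M : Subgroup G) (hM : IsCoatom M) (K U : Subgroup G) (hKU : Cfsg.IsSigmaDecomposition M K U) :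
    ∃ U₀ : Subgroup G, U₀ ≤ U ∧ Monoid.exponent U₀ = Monoid.exponent U ∧ ∀ u ∈ U₀, u ∈ Cfsg.sigmaHat M → u = 1 := by
  open Subgroup in
  rcases eq_or_ne K ⊥ with hK | hK
  · obtain ⟨E, hE, hUE, -, -, -⟩ := CfsgLib.BG.exists_compl_decomp hG hM hKU
    rw [hK, sup_bot_eq] at hUE
    subst hUE
    have hκ : ∀ t, t ∉ Cfsg.kappa M := fun t htκ => hKU.hall.2.2 t htκ.1 htκ (by
      rw [hK, relIndex_bot_left]
      exact htκ.2.1)
    obtain ⟨-, U₀, hle, hexp, hfpf⟩ := CfsgLib.BG.frobenius_type hG hM hE fun e he he1 hτ => by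
      by_contra hne
      obtain ⟨t, ht, htd⟩ := Nat.exists_prime_and_dvd (mt orderOf_eq_one_iff.mp he1)
      haveI : Fact t.Prime := ⟨ht⟩
      refine hκ t (CfsgLib.BG.mem_kappa_of_fixed hG hM (hτ t ht htd)
        (X := zpowers (e ^ (orderOf e / t))) (zpowers_le.mpr (pow_mem (hE.1 he) _)) ?_ fun e' => hne ?_)
      · rw [Nat.card_zpowers, orderOf_pow_orderOf_div (orderOf_pos e).ne' htd]
      · rw [CfsgLib.BG.centralizer_zpowers_eq] at e'
        exact le_bot_iff.mp (e' ▸ CfsgLib.BG.inf_centralizer_pow_le _ e _)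
    refine ⟨U₀, hle, hexp, fun u hu ⟨_, y, hy, hy1, huy⟩ => by_contra fun h1 => hy1 ?_⟩
    rw [← mem_bot, ← hfpf u hu h1]
    exact mem_inf.mpr ⟨hy, mem_centralizer_singleton_iff.mpr huy.symm⟩
  · exact CfsgLib.BG.exists_exponent_free hG hM hKU (CfsgLib.BG.decomp_U_abelian hG hM hKU hK)


end Cfsg.Agent.S1360
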