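import Cfsg.Statements.S1362
import Cfsg.Agent.Lib.BG.KappaDecomp

set_option autoImplicit false
open Cfsg

namespace Cfsg.Agent.S1362

/-- Let G be a minimal simple group of odd order and M a maximal subgroup with standard factorisation M = K U M_σ, and let A(M) be the set of elements of U M_σ centralizing some non-identity element of M_σ. Then A(M) with M_σ removed is a TI-subset of G. -/
theorem result {G : Type*} [Group G] [Finite G] (hG : Cfsg.IsMinSimpleOddOrder G)
    (M : Subgroup G) (hM : IsCoatom M) (K U : Subgroup G) (hKU : Cfsg.IsSigmaDecomposition M K U) :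
    Cfsg.IsTISubset (Cfsg.sigmaA M U \ (Cfsg.sigmaCore M : Set G)) := by
  open Subgroup in
  have hn := CfsgLib.BG.decomp_normal hG hM hKU
  obtain ⟨E, hE, hUE, -, -, -⟩ := CfsgLib.BG.exists_compl_decomp hG hM hKU
  have hMX : ∀ m ∈ M, ∀ a ∈ Cfsg.sigmaA M U \ (Cfsg.sigmaCore M : Set G),
      m * a * m⁻¹ ∈ Cfsg.sigmaA M U \ (Cfsg.sigmaCore M : Set G) := by
    rintro m hm a ⟨⟨⟨haM, y, hy, hy1, hay⟩, haV⟩, haσ⟩
    refine ⟨⟨⟨mul_mem (mul_mem hm haM) (inv_mem hm), m * y * m⁻¹,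
      (mem_normalizer_iff.mp (CfsgLib.BG.le_normalizer_sigmaCore M hm) y).mp hy,
      fun e => hy1 (by simpa using e), ?_⟩, (mem_normalizer_iff.mp (hn hm) a).mp haV⟩, fun h => haσ
      ((mem_normalizer_iff.mp (CfsgLib.BG.le_normalizer_sigmaCore M hm) a).mpr h)⟩
    calc m * a * m⁻¹ * (m * y * m⁻¹) = m * (a * y) * m⁻¹ := by group
      _ = m * (y * a) * m⁻¹ := by rw [hay]
      _ = _ := by group
  have hpin : ∀ a ∈ Cfsg.sigmaA M U \ (Cfsg.sigmaCore M : Set G), ∀ t : ℕ, t.Prime → t ∣ orderOf a →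
      t ∉ Cfsg.sigma M → centralizer ({a ^ (orderOf a / t)} : Set G) ≤ M ∧
        ∀ L : Subgroup G, IsCoatom L → centralizer ({a ^ (orderOf a / t)} : Set G) ≤ L → L = M := by
    rintro a ⟨⟨⟨haM, y, hy, hy1, hay⟩, haV⟩, haσ⟩ t ht htd htσ
    haveI : Fact t.Prime := ⟨ht⟩
    set b := a ^ (orderOf a / t) with hb
    have hbo : orderOf b = t := orderOf_pow_orderOf_div (orderOf_pos a).ne' htd
    obtain ⟨c, hc, hcE⟩ := CfsgLib.BG.exists_conj_le_compl hG hM hE
      (zpowers_le.mpr (pow_mem haM _) : zpowers b ≤ M) fun u hu hd => by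
        rw [Nat.card_zpowers, hbo] at hd
        exact ((Nat.prime_dvd_prime_iff_eq hu ht).mp hd) ▸ htσ
    have hcM := CfsgLib.BG.sigmaCore_le M hc
    have hbE : c * b * c⁻¹ ∈ E := hcE ⟨b, mem_zpowers b, rfl⟩
    have hbU : c * b * c⁻¹ ∈ U := by
      have hbV : c * b * c⁻¹ ∈ U ⊔ Cfsg.sigmaCore M :=
        (mem_normalizer_iff.mp (hn hcM) b).mp (pow_mem haV _)
      obtain ⟨s, hs, u, hu, hsu⟩ := (CfsgLib.Coprime.mem_sup_of_le_normalizer
        (hKU.compl.1.trans (CfsgLib.BG.le_normalizer_sigmaCore M))).mp (sup_comm U (Cfsg.sigmaCore M) ▸ hbV)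
      have hsE : s ∈ E ⊓ Cfsg.sigmaCore M := mem_inf.mpr ⟨by
        rw [show s = s * u * u⁻¹ by group, hsu]
        exact mul_mem hbE (inv_mem (hUE ▸ mem_sup_left hu)), hs⟩
      rw [hE.2.2.1, mem_bot] at hsE
      rw [← hsu, hsE, one_mul]
      exact hu
    have hne : zpowers (c * b * c⁻¹) ≠ ⊥ := fun e => ht.ne_one (by
      rw [← hbo, orderOf_eq_one_iff]
      simpa using zpowers_eq_bot.mp e)
    have hfix : Cfsg.sigmaCore M ⊓ centralizer (zpowers (c * b * c⁻¹) : Set G) ≠ ⊥ := fun e => by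
      have : c * y * c⁻¹ ∈ Cfsg.sigmaCore M ⊓ centralizer (zpowers (c * b * c⁻¹) : Set G) := by
        rw [CfsgLib.BG.centralizer_zpowers_eq]
        refine mem_inf.mpr ⟨(mem_normalizer_iff.mp (CfsgLib.BG.le_normalizer_sigmaCore M hcM) y).mp hy,
          mem_centralizer_singleton_iff.mpr ?_⟩
        have h1 : y * b = b * y := ((show Commute a y from hay).pow_left _).symm.eq
        calc c * y * c⁻¹ * (c * b * c⁻¹) = c * (y * b) * c⁻¹ := by group
          _ = c * (b * y) * c⁻¹ := by rw [h1]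
          _ = _ := by group
      rw [e, mem_bot] at this
      exact hy1 (by simpa using this)
    obtain ⟨h1, h2⟩ := CfsgLib.BG.decomp_onlyMax hG hM hKU (zpowers_le.mpr hbU) hne hfix
    rw [CfsgLib.BG.centralizer_zpowers_eq] at h1
    have key : ∀ z : G, z ∈ centralizer ({b} : Set G) ↔ c * z * c⁻¹ ∈ centralizer ({c * b * c⁻¹} : Set G) := by
      intro z
      rw [mem_centralizer_singleton_iff, mem_centralizer_singleton_iff]
      constructor
      · intro h
        calc c * z * c⁻¹ * (c * b * c⁻¹) = c * (z * b) * c⁻¹ := by group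
          _ = c * (b * z) * c⁻¹ := by rw [h]
          _ = _ := by group
      · intro h
        calc z * b = c⁻¹ * (c * z * c⁻¹ * (c * b * c⁻¹)) * c := by group
          _ = c⁻¹ * (c * b * c⁻¹ * (c * z * c⁻¹)) * c := by rw [h]
          _ = b * z := by group
    refine ⟨fun z hz => ?_, fun L hL hle => ?_⟩
    · have h3 := h1 ((key z).mp hz)
      rw [show z = c⁻¹ * (c * z * c⁻¹) * c by group]
      exact mul_mem (mul_mem (inv_mem hcM) h3) hcM
    · have h4 : CfsgLib.PLocal.conjMap c L = M := h2 _ (CfsgLib.BG.isCoatom_conjMap hL c) (by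
        rw [CfsgLib.BG.centralizer_zpowers_eq]
        intro z hz
        refine ⟨c⁻¹ * z * c, hle ((key _).mpr (by
          rw [show c * (c⁻¹ * z * c) * c⁻¹ = z by group]; exact hz)), ?_⟩
        show c * (c⁻¹ * z * c) * c⁻¹ = z
        group)
      rw [← CfsgLib.PLocal.conjMap_inv_conjMap c L, h4]
      exact CfsgLib.BG.conjMap_eq_of_mem (inv_mem hcM)
  intro g hg a ha hga
  exfalso
  refine hg (mem_set_normalizer_iff.mpr fun n => ?_)
  have hgM : g ∈ M := by
    obtain ⟨t, ht, htd, htσ⟩ : ∃ t : ℕ, t.Prime ∧ t ∣ orderOf a ∧ t ∉ Cfsg.sigma M := by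
      by_contra hno
      push Not at hno
      refine ha.2 (CfsgLib.BG.le_sigmaCore_of_pi hG hM (zpowers_le.mpr ha.1.1.1) (fun t ht hd => ?_) (mem_zpowers a))
      exact hno t ht (by rwa [Nat.card_zpowers] at hd)
    have ho : orderOf (g * a * g⁻¹) = orderOf a :=
      orderOf_injective (MulAut.conj g).toMonoidHom (MulAut.conj g).injective a
    obtain ⟨h1, -⟩ := hpin a ha t ht htd htσ
    obtain ⟨-, h2⟩ := hpin _ hga t ht (ho ▸ htd) htσ
    rw [ho, conj_pow] at h2
    refine (CfsgLib.BG.conjMap_max_eq_iff hG hM).mp (h2 _ (CfsgLib.BG.isCoatom_conjMap hM g) ?_)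
    intro z hz
    refine ⟨g⁻¹ * z * g, h1 (mem_centralizer_singleton_iff.mpr ?_), ?_⟩
    · have h := mem_centralizer_singleton_iff.mp hz
      calc g⁻¹ * z * g * a ^ (orderOf a / t) = g⁻¹ * (z * (g * a ^ (orderOf a / t) * g⁻¹)) * g := by group
        _ = g⁻¹ * (g * a ^ (orderOf a / t) * g⁻¹ * z) * g := by rw [h]
        _ = _ := by group
    · show g * (g⁻¹ * z * g) * g⁻¹ = z
      group
  constructor
  · exact hMX g hgM n
  · intro h
    have h1 := hMX g⁻¹ (inv_mem hgM) _ h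
    rwa [show g⁻¹ * (g * n * g⁻¹) * g⁻¹⁻¹ = n by group] at h1


end Cfsg.Agent.S1362
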