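import Cfsg.Statements.S1367
import Cfsg.Agent.Lib.BG.Partner

set_option autoImplicit false
open Cfsg

namespace Cfsg.Agent.S1367

/-- Let G be a minimal simple group of odd order, M a maximal subgroup with standard factorisation M = K U M_σ, K ≠ 1, K* = M_σ ∩ C_G(K), and M* a maximal subgroup with K = M*_σ ∩ C_G(K*) and K* a Hall κ(M*)-subgroup of M*. Then for subgroups X ≤ K* and Y ≤ K of prime order, M is the only maximal subgroup containing C_G(X) and M* the only one containing C_G(Y). -/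
theorem result {G : Type*} [Group G] [Finite G] (hG : Cfsg.IsMinSimpleOddOrder G)
    (M : Subgroup G) (hM : IsCoatom M) (K U : Subgroup G) (hKU : Cfsg.IsSigmaDecomposition M K U) (hK1 : K ≠ ⊥) (Mstar : Subgroup G) (hMstar : IsCoatom Mstar)
    (hKst : K = Cfsg.sigmaCore Mstar ⊓ Subgroup.centralizer ((Cfsg.sigmaCore M ⊓ Subgroup.centralizer (K : Set G)) : Set G))
    (hKstH : Cfsg.IsPiHallOf (Cfsg.kappa Mstar) (Cfsg.sigmaCore M ⊓ Subgroup.centralizer (K : Set G)) Mstar) :
    (∀ X : Subgroup G, X ≤ (Cfsg.sigmaCore M ⊓ Subgroup.centralizer (K : Set G)) → (Nat.card X).Prime →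
        Subgroup.centralizer (X : Set G) ≤ M ∧ ∀ L : Subgroup G, IsCoatom L → Subgroup.centralizer (X : Set G) ≤ L → L = M) ∧
      (∀ Y : Subgroup G, Y ≤ K → (Nat.card Y).Prime →
        Subgroup.centralizer (Y : Set G) ≤ Mstar ∧ ∀ L : Subgroup G, IsCoatom L → Subgroup.centralizer (Y : Set G) ≤ L → L = Mstar) := by
  open Subgroup CfsgLib.PLocal CfsgLib.OddLocal CfsgLib.BG CfsgLib.BG14 in
  obtain ⟨U', E, d⟩ := exists_pdata_of_hall hG hM hKU.hall hK1
  obtain ⟨U₁, E₁, d₁⟩ := CfsgLib.BG14.exists_pdata_of_hall hG hMstar hKstH d.fix_ne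
  refine ⟨fun X hX hXp => ?_, fun Y hY hYp => ?_⟩
  · haveI := Fact.mk hXp
    obtain ⟨z, hz, hzo⟩ := CfsgLib.BG.exists_order_p (CfsgLib.BG.isPGroup_of_card_prime (p := Nat.card X) rfl)
      (CfsgLib.BG.ne_bot_of_card_prime (p := Nat.card X) rfl)
    have hzp : (orderOf z).Prime := hzo.symm ▸ hXp
    have he : Subgroup.zpowers z = X :=
      CfsgLib.BG.zpowers_eq_of_card_prime (p := Nat.card X) rfl hz (CfsgLib.BG14.ne_one_of_prime hzp)
    rw [← he, CfsgLib.BG.centralizer_zpowers_eq]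
    exact d.point hG (hX hz) hzp
  · haveI := Fact.mk hYp
    obtain ⟨z, hz, hzo⟩ := CfsgLib.BG.exists_order_p (CfsgLib.BG.isPGroup_of_card_prime (p := Nat.card Y) rfl)
      (CfsgLib.BG.ne_bot_of_card_prime (p := Nat.card Y) rfl)
    have hzp : (orderOf z).Prime := hzo.symm ▸ hYp
    have he : Subgroup.zpowers z = Y :=
      CfsgLib.BG.zpowers_eq_of_card_prime (p := Nat.card Y) rfl hz (CfsgLib.BG14.ne_one_of_prime hzp)
    rw [← he, CfsgLib.BG.centralizer_zpowers_eq]
    exact d₁.point hG (hKst.le (hY hz)) hzp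


end Cfsg.Agent.S1367
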