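import Cfsg.Statements.S1376
import Cfsg.Agent.Lib.BG14.SupportP
open Subgroup CfsgLib.PLocal CfsgLib.OddLocal CfsgLib.BG CfsgLib.BG14

set_option autoImplicit false
open Cfsg

namespace Cfsg.Agent.S1376

/-- Let G be a minimal simple group of odd order, M a maximal subgroup, x ≠ 1 in M_σ with C_G(x) not contained in M, and N a maximal subgroup containing C_G(x) with κ(N) nonempty. Then κ(M) is empty, M has a cyclic Frobenius complement (M is a Frobenius group), and M_F is not a TI-subset of G. -/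
theorem result {G : Type*} [Group G] [Finite G] (hG : Cfsg.IsMinSimpleOddOrder G)
    (M : Subgroup G) (hM : IsCoatom M) (x : G) (hx : x ∈ Cfsg.sigmaCore M) (hx1 : x ≠ 1) (hxM : ¬ Subgroup.centralizer ({x} : Set G) ≤ M)
    (N : Subgroup G) (hN : IsCoatom N) (hxN : Subgroup.centralizer ({x} : Set G) ≤ N) (hkN : (Cfsg.kappa N).Nonempty) :
    Cfsg.kappa M = ∅ ∧ (∃ E : Subgroup ↥M, Cfsg.IsFrobeniusComplement E ∧ IsCyclic E) ∧ ¬ Cfsg.IsTISubset (Cfsg.fittingHallOf M : Set G) := by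
  have s := exists_support_eq hG hM hx hx1 hxM hN hxN
  obtain ⟨hκ, -, hnil, F, hF, hF1, hcyc, hfpf⟩ := s.kappa_support hG hM hx hx1 hkN
  refine ⟨hκ, ⟨F.subgroupOf M, isFrobeniusComplement_of_fpf hG hM hF hF1 hfpf,
    (subgroupOfEquivOfLe hF.1).isCyclic.mpr hcyc⟩, ?_⟩
  rw [fittingHallOf_eq_sigmaCore hG hM hnil]
  intro hTI
  obtain ⟨g, hg, hgM⟩ := SetLike.not_le_iff_exists.mp hxM
  have hn : normalizer (Cfsg.sigmaCore M : Set G) = M :=
    normalizer_eq_max hG hM (sigmaCore_ne_bot hG hM) (sigmaCore_le M) (le_normalizer_sigmaCore M)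
  refine hx1 (hTI g (fun h => hgM (hn.le h)) x hx ?_)
  rw [mem_centralizer_singleton_iff.mp hg, mul_inv_cancel_right]
  exact hx

end Cfsg.Agent.S1376
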