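import Cfsg.Statements.S1385
import Cfsg.Agent.S1380
import Cfsg.Agent.S1381
import Cfsg.Agent.S1382
import Cfsg.Agent.S1383
import Cfsg.Agent.S1354
import Cfsg.Agent.S1368
import Cfsg.Agent.S1369

set_option autoImplicit false
open scoped commutatorElement Pointwise
open Cfsg

namespace Cfsg.Agent.S1385

/-- Let G be a minimal simple group of odd order. Then either every maximal subgroup of G is of Type I, or there are nontrivial subgroups W₁, W₂ generating a cyclic group W that is the normalizer of every nonempty subset of W outside W₁ ∪ W₂, and maximal subgroups S, T with W₁ a complement to S' in S, W₂ a complement to T' in T, S ∩ T = W, S or T of Type II, each of S, T of Type II, III, IV or V, and every maximal subgroup of G of Type I or conjugate to S or to T. -/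
theorem result {G : Type*} [Group G] [Finite G] (hG : Cfsg.IsMinSimpleOddOrder G) :
    (∀ M : Subgroup G, IsCoatom M → Cfsg.IsOfTypeI M) ∨
      ∃ W₁ W₂ S T : Subgroup G, Cfsg.IsSelfNormalizingCyclic W₁ W₂ ∧ IsCoatom S ∧ IsCoatom T ∧
        Cfsg.IsComplIn ⁅S, S⁆ W₁ S ∧ Cfsg.IsComplIn ⁅T, T⁆ W₂ T ∧ S ⊓ T = W₁ ⊔ W₂ ∧
        (Cfsg.IsOfTypeII S ∨ Cfsg.IsOfTypeII T) ∧
        (Cfsg.IsOfTypeII S ∨ Cfsg.IsOfTypeIII S ∨ Cfsg.IsOfTypeIV S ∨ Cfsg.IsOfTypeV S) ∧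
        (Cfsg.IsOfTypeII T ∨ Cfsg.IsOfTypeIII T ∨ Cfsg.IsOfTypeIV T ∨ Cfsg.IsOfTypeV T) ∧
        ∀ M : Subgroup G, IsCoatom M → Cfsg.IsOfTypeI M ∨ ∃ g : G, M = S.map (MulAut.conj g).toMonoidHom ∨ M = T.map (MulAut.conj g).toMonoidHom := by
  open CfsgLib.BG in
  by_cases hall : ∀ M : Subgroup G, IsCoatom M → Cfsg.IsOfTypeI M
  · exact Or.inl hall
  refine Or.inr ?_
  simp only [not_forall] at hall
  obtain ⟨S, hS, hnI⟩ := hall
  obtain ⟨K, U, hKU⟩ := CfsgLib.BG.exists_sigma_decomposition hG hS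
  have hK : K ≠ ⊥ := fun e => hnI
    ((Cfsg.Agent.S1380.result hG S hS K U hKU).mpr ⟨e, CfsgLib.BG.decomp_U_ne_bot hG hS hKU e⟩)
  obtain ⟨T, ⟨hT, hKst, hH⟩, -⟩ := CfsgLib.BG.exists_unique_partner hG hS hKU.hall hK
  have hKs : Cfsg.sigmaCore S ⊓ Subgroup.centralizer (K : Set G) ≠ ⊥ :=
    (Cfsg.Agent.S1354.result hG S hS K hKU.cyclic hKU.hall).1
  obtain ⟨U', hU'⟩ := CfsgLib.BG.exists_decomposition hG hT
    ((CfsgLib.BG.exists_kappa_hall hG hT).2 _ hH) hH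
  have key : ∀ (N L V : Subgroup G) (_ : IsCoatom N) (h : Cfsg.IsSigmaDecomposition N L V), L ≠ ⊥ →
      (Cfsg.IsSelfNormalizingCyclic L (Cfsg.sigmaCore N ⊓ Subgroup.centralizer (L : Set G)) ∧
        Cfsg.IsComplIn ⁅N, N⁆ L N) ∧ (V ≠ ⊥ → Cfsg.IsOfTypeII N) ∧
        (Cfsg.IsOfTypeII N ∨ Cfsg.IsOfTypeIII N ∨ Cfsg.IsOfTypeIV N ∨ Cfsg.IsOfTypeV N) := by
    intro N L V hN h hL
    obtain ⟨W, hW, hWn, hLW, -, -⟩ := CfsgLib.BG.exists_derived_compl hG hN h hL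
    have hP := CfsgLib.BG.isTypePWith hG hN h hL hW hWn hLW
    refine ⟨⟨hP.selfNormalizing, hP.W₁_compl⟩,
      fun hV => (Cfsg.Agent.S1381.result hG N hN L V h).mpr ⟨hL, hV⟩, ?_⟩
    by_cases hV : V = ⊥
    · by_cases heq : Cfsg.fittingHallOf N = Cfsg.sigmaCore N
      · exact Or.inr (Or.inr (Or.inr ((Cfsg.Agent.S1383.result hG N hN L V h).mpr ⟨hL, hV, heq⟩)))
      · rcases (Cfsg.Agent.S1382.result hG N hN L V h).mpr ⟨hL, hV, heq⟩ with h3 | h4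
        · exact Or.inr (Or.inl h3)
        · exact Or.inr (Or.inr (Or.inl h4))
    · exact Or.inl ((Cfsg.Agent.S1381.result hG N hN L V h).mpr ⟨hL, hV⟩)
  obtain ⟨⟨hW, hcS⟩, hII, hSt⟩ := key S K U hS hKU hK
  obtain ⟨⟨-, hcT⟩, hII', hTt⟩ := key T _ U' hT hU' hKs
  obtain ⟨hone, hcl⟩ := Cfsg.Agent.S1369.result hG S hS K U hKU hK T hT hKst hH
  refine ⟨K, _, S, T, hW, hS, hT, hcS, hcT,
    (Cfsg.Agent.S1368.result hG S hS K U hKU hK T hT hKst hH).1,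
    hone.imp hII fun h => hII' (h U' hU'), hSt, hTt, fun N hN => ?_⟩
  obtain ⟨L, V, hLV⟩ := CfsgLib.BG.exists_sigma_decomposition hG hN
  by_cases hL : L = ⊥
  · exact Or.inl ((Cfsg.Agent.S1380.result hG N hN L V hLV).mpr
      ⟨hL, CfsgLib.BG.decomp_U_ne_bot hG hN hLV hL⟩)
  refine Or.inr (hcl N hN ?_)
  obtain ⟨p, hp, hpd⟩ := Nat.exists_prime_and_dvd (fun e => hL (Subgroup.card_eq_one.mp e))
  exact ⟨p, hLV.hall.2.1 p hp hpd⟩


end Cfsg.Agent.S1385
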