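import Cfsg.Statements.S1386
import Cfsg.Agent.Lib.OddLocal.TypeP

set_option autoImplicit false
open Cfsg

namespace Cfsg.Agent.S1386

/-- Let G be a finite group, W₁, W₂ subgroups forming a self-normalizing cyclic pair, S a subgroup with W₂ ≤ S and W₁ a complement to S' in S, and (W₁, U, W₂') type-P data for S. Then W₂' = W₂ (that is, C_{S'}(W₁) = W₂). -/
theorem result {G : Type*} [Group G] [Finite G] (W₁ W₂ S U W₂' : Subgroup G) (hW : Cfsg.IsSelfNormalizingCyclic W₁ W₂)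
    (hSW : Cfsg.IsComplIn ⁅S, S⁆ W₁ S) (hW₂S : W₂ ≤ S) (hP : Cfsg.IsTypePWith S W₁ U W₂') :
    W₂' = W₂ := by
  obtain ⟨hW₁, hW₂, hinf, hcomm, hcyc, hnorm⟩ := hW
  obtain ⟨-, -, hinf', hcomm', hcyc', -⟩ := hP.selfNormalizing
  -- the first pair lies in the second
  have hle : W₁ ⊔ W₂ ≤ W₁ ⊔ W₂' := by
    refine sup_le le_sup_left fun w hw => ?_
    obtain ⟨d, hd, a, ha, hda⟩ := hSW.2.2.2 w (hW₂S hw)
    obtain ⟨x, hx, hx1⟩ := (Subgroup.ne_bot_iff_exists_ne_one.mp hW₁ : ∃ x : W₁, x ≠ 1) |>.elim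
      fun x hx => (⟨x.1, x.2, fun h => hx (Subtype.ext h)⟩ : ∃ x : G, x ∈ W₁ ∧ x ≠ 1)
    have hac : x * a = a * x := by
      have : Commute (⟨x, Subgroup.mem_sup_left hx⟩ : ↥(W₁ ⊔ W₂)) ⟨a, Subgroup.mem_sup_left ha⟩ :=
        hcyc.isMulCommutative.is_comm.comm _ _
      exact congrArg Subtype.val this.eq
    have hd' : d ∈ W₂' := by
      rw [← hP.W₂_centralizer x hx hx1]
      refine ⟨hd, Subgroup.mem_centralizer_iff.mpr ?_⟩
      rintro y rfl
      have hde : d = w * a⁻¹ := by rw [hda]; group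
      rw [hde]
      calc y * (w * a⁻¹) = (y * w) * a⁻¹ := (mul_assoc _ _ _).symm
        _ = (w * y) * a⁻¹ := by rw [hcomm y hx w hw]
        _ = w * (y * a⁻¹) := mul_assoc _ _ _
        _ = w * (a⁻¹ * y) := by
          congr 1
          exact (Commute.inv_right (show Commute y a from hac)).eq
        _ = w * a⁻¹ * y := (mul_assoc _ _ _).symm
    rw [hda]
    exact (W₁ ⊔ W₂').mul_mem (Subgroup.mem_sup_right hd') (Subgroup.mem_sup_left ha)
  -- the second lies in the first, by self-normalization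
  have hge : W₁ ⊔ W₂' ≤ W₁ ⊔ W₂ := by
    obtain ⟨a, ha⟩ := Subgroup.ne_bot_iff_exists_ne_one.mp hW₁
    obtain ⟨b, hb⟩ := Subgroup.ne_bot_iff_exists_ne_one.mp hW₂
    have hz : (a : G) * b ∈ W₁ ⊔ W₂ := Subgroup.mul_mem_sup a.2 b.2
    have hX : ({(a : G) * b} : Set G) ⊆ (↑(W₁ ⊔ W₂) : Set G) \ (↑W₁ ∪ ↑W₂) := by
      rintro y rfl
      refine ⟨hz, ?_⟩
      rintro (h | h)
      · refine hb (Subtype.ext ?_)
        rw [OneMemClass.coe_one, ← Subgroup.mem_bot, ← hinf]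
        exact ⟨(Subgroup.mul_mem_cancel_left W₁ a.2).mp h, b.2⟩
      · refine ha (Subtype.ext ?_)
        rw [OneMemClass.coe_one, ← Subgroup.mem_bot, ← hinf]
        exact ⟨a.2, (Subgroup.mul_mem_cancel_right W₂ b.2).mp h⟩
    rw [← hnorm _ hX (Set.singleton_nonempty _)]
    intro v hv
    have hc : (a : G) * b * v = v * ((a : G) * b) := by
      have : Commute (⟨_, hle hz⟩ : ↥(W₁ ⊔ W₂')) ⟨v, hv⟩ := hcyc'.isMulCommutative.is_comm.comm _ _
      exact congrArg Subtype.val this.eq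
    exact Subgroup.centralizer_le_normalizer _
      (Subgroup.mem_centralizer_iff.mpr fun y hy => by rw [Set.mem_singleton_iff.mp hy]; exact hc)
  have heq : W₁ ⊔ W₂ = W₁ ⊔ W₂' := le_antisymm hle hge
  -- equal orders in a cyclic group
  have hcard : ∀ V : Subgroup G, W₁ ⊓ V = ⊥ → (∀ a ∈ W₁, ∀ b ∈ V, a * b = b * a) →
      Nat.card ↥(W₁ ⊔ V) = Nat.card W₁ * Nat.card V := by
    intro V hV hVc
    refine CfsgLib.OddLocal.card_eq_mul_of_isComplIn ⟨le_sup_left, le_sup_right, hV, fun m hm => ?_⟩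
    rw [← SetLike.mem_coe, Subgroup.coe_mul_of_left_le_normalizer_right W₁ V ?_] at hm
    · obtain ⟨c, hc, d, hd, he⟩ := hm
      exact ⟨c, hc, d, hd, he.symm⟩
    · refine le_trans (fun c hc => ?_) (Subgroup.centralizer_le_normalizer _)
      exact Subgroup.mem_centralizer_iff.mpr fun d hd => (hVc c hc d hd).symm
  have h2 : Nat.card W₂' = Nat.card W₂ := by
    have h := hcard W₂ hinf hcomm
    rw [heq, hcard W₂' hinf' hcomm'] at h
    exact Nat.eq_of_mul_eq_mul_left Nat.card_pos h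
  have h3 : (W₂'.subgroupOf (W₁ ⊔ W₂)) = (W₂.subgroupOf (W₁ ⊔ W₂)) := by
    apply CfsgLib.OddLocal.eq_of_card_eq_of_isCyclic
    rw [Nat.card_congr (Subgroup.subgroupOfEquivOfLe (heq ▸ le_sup_right)).toEquiv,
      Nat.card_congr (Subgroup.subgroupOfEquivOfLe le_sup_right).toEquiv, h2]
  have h4 := congrArg (Subgroup.map (W₁ ⊔ W₂).subtype) h3
  rwa [Subgroup.map_subgroupOf_eq_of_le (heq ▸ le_sup_right),
    Subgroup.map_subgroupOf_eq_of_le le_sup_right] at h4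

end Cfsg.Agent.S1386
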