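import Cfsg.Statements.S1388
import Cfsg.Agent.Lib.OddLocal.TypeP

set_option autoImplicit false
open Cfsg

namespace Cfsg.Agent.S1388

/-- Let M be a subgroup of a finite group G with type-P data (W₁, U, W₂) and H = M_F. Then the derived subgroup of U centralizes H, and if U ≠ 1 then U does not centralize H. -/
theorem result {G : Type*} [Group G] [Finite G] (M W₁ U W₂ : Subgroup G) (hP : Cfsg.IsTypePWith M W₁ U W₂) :
    ⁅U, U⁆ ≤ Subgroup.centralizer (Cfsg.fittingHallOf M : Set G) ∧ (U ≠ ⊥ → ¬ U ≤ Subgroup.centralizer (Cfsg.fittingHallOf M : Set G)) := by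
  have hle : ⁅M, M⁆ ≤ M := Subgroup.commutator_le.mpr fun a ha b hb =>
      M.mul_mem (M.mul_mem (M.mul_mem ha hb) (M.inv_mem ha)) (M.inv_mem hb)
  constructor
  · intro x hx
    have hxU : x ∈ U := (Subgroup.commutator_le.mpr fun a ha b hb =>
      U.mul_mem (U.mul_mem (U.mul_mem ha hb) (U.inv_mem ha)) (U.inv_mem hb) : ⁅U, U⁆ ≤ U) hx
    refine CfsgLib.OddLocal.typeP_U_inf_fitting hP ⟨hxU, ?_⟩
    rw [← hP.fitting_eq]
    exact hP.derived_two_le (Subgroup.commutator_mono hP.U_compl.2.1 hP.U_compl.2.1 hx)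
  · intro hU1 hUC
    apply hU1
    have hUF : U ≤ Cfsg.fittingOf M := by
      rw [CfsgLib.OddLocal.typeP_fitting hP]
      exact le_sup_of_le_right (le_inf le_rfl hUC)
    have hFeq : Cfsg.fittingOf M = ⁅M, M⁆ := by
      refine le_antisymm hP.fitting_le fun m hm => ?_
      obtain ⟨h, hh, u, hu, rfl⟩ := hP.U_compl.2.2.2 m hm
      exact Subgroup.mul_mem _ (hP.fitting_eq ▸ Subgroup.mem_sup_left hh) (hUF hu)
    have hnil : Group.IsNilpotent ↥⁅M, M⁆ := hFeq ▸ CfsgLib.OddLocal.fittingOf_isNilpotent M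
    have hn : M ≤ Subgroup.normalizer ((⁅M, M⁆ : Subgroup G) : Set G) := by
      intro m hm
      rw [Subgroup.mem_normalizer_iff_map_conj_eq, Subgroup.map_commutator,
        Subgroup.mem_normalizer_iff_map_conj_eq.mp (Subgroup.le_normalizer hm)]
    have hcop : (Nat.card ↥⁅M, M⁆).Coprime (⁅M, M⁆.relIndex M) := by
      rw [CfsgLib.OddLocal.relIndex_of_isComplIn hP.W₁_compl]
      have h := hP.W₁_hall
      have hidx : W₁.relIndex M = Nat.card ↥⁅M, M⁆ := by
        apply Nat.eq_of_mul_eq_mul_left (Nat.card_pos (α := W₁))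
        rw [Subgroup.relIndex,
          ← Nat.card_congr (Subgroup.subgroupOfEquivOfLe hP.W₁_compl.2.1).toEquiv,
          Subgroup.card_mul_index, CfsgLib.OddLocal.card_eq_mul_of_isComplIn hP.W₁_compl,
          Nat.card_congr (Subgroup.subgroupOfEquivOfLe hP.W₁_compl.2.1).toEquiv, mul_comm]
      rw [hidx] at h
      exact h.symm
    have hMH := CfsgLib.OddLocal.le_fittingHallOf M _ hle hn hnil hcop
    rw [← le_bot_iff, ← hP.U_compl.2.2.1]
    exact le_inf (hP.U_compl.2.1.trans hMH) le_rfl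

end Cfsg.Agent.S1388
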