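import Cfsg.Statements.S1389
import Cfsg.Agent.Lib.BG.TypesNormalizer

set_option autoImplicit false
open Cfsg

namespace Cfsg.Agent.S1389

/-- Let G be a minimal simple group of odd order and M a maximal subgroup, and let M_s be M' if M is of Type III or IV and M_F otherwise. Then N_G(P) ≤ M for every nontrivial Sylow subgroup P of M_s, and both M_F and M_s have order coprime to their index in G. -/
theorem result {G : Type*} [Group G] [Finite G] (hG : Cfsg.IsMinSimpleOddOrder G)
    (M : Subgroup G) (hM : IsCoatom M) :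
    (∀ (p : ℕ), p.Prime → ∀ (P : Sylow p ↥(Cfsg.typeCore M)), (P : Subgroup ↥(Cfsg.typeCore M)) ≠ ⊥ →
        Subgroup.normalizer ((((P : Subgroup ↥(Cfsg.typeCore M)).map (Cfsg.typeCore M).subtype : Subgroup G)) : Set G) ≤ M) ∧
      (Nat.card (Cfsg.fittingHallOf M)).Coprime (Cfsg.fittingHallOf M).index ∧
      (Nat.card (Cfsg.typeCore M)).Coprime (Cfsg.typeCore M).index := by
  open CfsgLib.BG CfsgLib.OddLocal in
  obtain ⟨K, U, hKU⟩ := exists_sigma_decomposition hG hM
  have hF := CfsgLib.BG.hall_core hG hM (CfsgLib.BG14.fittingHallOf_le_sigmaCore hG hM)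
    (CfsgLib.OddLocal.fittingHallOf_coprime_relIndex M)
  have hS := CfsgLib.BG.hall_core hG hM (X := Cfsg.sigmaCore M) le_rfl
    (CfsgLib.Coprime.coprime_of_pi (fun _ hp hd => CfsgLib.BG.mem_sigma_of_dvd_sigmaCore hp hd)
      (CfsgLib.BG.sigmaCore_hall hG hM).2.2)
  have hT : ∀ X : Subgroup G, X = Cfsg.fittingHallOf M ∨ X = Cfsg.sigmaCore M →
      (Nat.card X).Coprime X.index ∧ ∀ (p : ℕ), p.Prime → ∀ P : Sylow p X, (P : Subgroup X) ≠ ⊥ →
        Subgroup.normalizer (((P : Subgroup X).map X.subtype : Subgroup G) : Set G) ≤ M := by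
    rintro X (rfl | rfl)
    · exact hF
    · exact hS
  obtain ⟨h1, h2⟩ := hT _ (CfsgLib.BG.typeCore_cases hG hM hKU)
  exact ⟨h2, hF.1, h1⟩


end Cfsg.Agent.S1389
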