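import Cfsg.Statements.S1390
import Cfsg.Agent.Lib.BG.TypeSets

set_option autoImplicit false
open scoped commutatorElement Pointwise
open Cfsg

namespace Cfsg.Agent.S1390

/-- Let G be a minimal simple group of odd order, M a maximal subgroup and H = M_F; suppose M is of Type I and U is a complement to H in M, or M is of Type II and U is a complement to H in M'. Then every Sylow subgroup of U is abelian with no elementary abelian subgroup of order p ^ 3; for every nonempty set X of non-identity elements of U centralizing a non-identity element of H, C_G(X) ≤ M and M is the unique maximal subgroup containing C_G(X); and A(M) with A₁(M) removed is a TI-subset of G. -/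
theorem result {G : Type*} [Group G] [Finite G] (hG : Cfsg.IsMinSimpleOddOrder G)
    (M : Subgroup G) (hM : IsCoatom M) (U : Subgroup G)
    (hU : (Cfsg.IsOfTypeI M ∧ Cfsg.IsComplIn (Cfsg.fittingHallOf M) U M) ∨ (Cfsg.IsOfTypeII M ∧ Cfsg.IsComplIn (Cfsg.fittingHallOf M) U ⁅M, M⁆)) :
    (∀ (p : ℕ), p.Prime → ∀ P : Sylow p U, IsMulCommutative (P : Subgroup U) ∧ Cfsg.PRankLE p 2 (P : Subgroup U)) ∧
      (∀ X : Set G, X ⊆ (U : Set G) \ {1} → X.Nonempty → Cfsg.fittingHallOf M ⊓ Subgroup.centralizer X ≠ ⊥ →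
        Subgroup.centralizer X ≤ M ∧ ∀ L : Subgroup G, IsCoatom L → Subgroup.centralizer X ≤ L → L = M) ∧
      Cfsg.IsTISubset (Cfsg.typeA M \ Cfsg.typeA1 M) := by
  open CfsgLib.BG CfsgLib.OddLocal Subgroup in
  obtain ⟨K, W, h⟩ := CfsgLib.BG.exists_sigma_decomposition hG hM
  open CfsgLib.BG CfsgLib.OddLocal Subgroup in
  obtain ⟨heq, hIiff, hD⟩ : Cfsg.fittingHallOf M = Cfsg.sigmaCore M ∧
      (∀ D : Subgroup G, ((Cfsg.IsOfTypeI M → D = M) ∧ (¬ Cfsg.IsOfTypeI M → D = ⁅M, M⁆)) →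
        D = W ⊔ Cfsg.sigmaCore M) ∧
      Cfsg.IsComplIn (Cfsg.fittingHallOf M) U (W ⊔ Cfsg.sigmaCore M) := by
    have hsup := decomp_sup_eq hG hM h
    rcases hU with ⟨hI, hc⟩ | ⟨hII, hc⟩
    · have hK := K_eq_bot_of_typeI hG hM h hI
      rw [hK, sup_bot_eq] at hsup
      refine ⟨?_, fun D hD => (hD.1 hI).trans hsup.symm, by rw [hsup]; exact hc⟩
      by_contra hne
      exact decomp_U_ne_bot hG hM h hK (Cfsg.Agent.S1437.result hG M hM K W h hne).1
    · obtain ⟨hK, hW⟩ : K ≠ ⊥ ∧ W ≠ ⊥ := by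
        obtain ⟨W₁, V, W₂, hP, hV1, -, -, -, hN, -⟩ := hII
        exact ⟨K_ne_bot_of_typeP hG hM h hP, fun hU => hN (typeP_V_normalizer hG hM h hP hU hV1)⟩
      have hder := derived_eq_decomp hG hM h hK
      refine ⟨?_, fun D hD => (hD.2 fun hI => hK (K_eq_bot_of_typeI hG hM h hI)).trans hder, by rw [← hder]; exact hc⟩
      by_contra hne
      exact hW (Cfsg.Agent.S1437.result hG M hM K W h hne).1
  open CfsgLib.BG in
  have hcore : Cfsg.typeCore M = Cfsg.sigmaCore M := by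
    unfold Cfsg.typeCore
    split_ifs with hT
    · exact absurd heq (typeIII_IV_imp hG hM h hT).2.2
    · exact heq
  rw [heq] at hD ⊢
  open CfsgLib.BG CfsgLib.OddLocal Subgroup in
  have hπ : ∀ t : ℕ, t.Prime → t ∣ Nat.card U → t ∉ Cfsg.sigma M := by
    intro t ht hd
    have h1 := card_eq_mul_of_isComplIn hD
    rw [sup_comm, card_sup_of_coprime (h.compl.1.trans (le_normalizer_sigmaCore M))
      (coprime_sigmaCore hG hM fun s hs hd => ((decomp_U_primes hG hM h).2 s hs hd).2)] at h1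
    exact ((decomp_U_primes hG hM h).2 t ht (Nat.eq_of_mul_eq_mul_left Nat.card_pos h1 ▸ hd)).2
  open CfsgLib.BG CfsgLib.OddLocal Subgroup in
  refine ⟨sylow_sigma'_abelian hG hM (hD.2.1.trans (sup_le h.compl.1 (sigmaCore_le M))) hπ,
    fun X hX hne hfix => ?_, ?_⟩
  · open CfsgLib.BG CfsgLib.OddLocal Subgroup in
    have hXU : closure X ≤ U := (closure_le U).mpr fun x hx => (hX hx).1
    open CfsgLib.BG CfsgLib.OddLocal Subgroup in
    have := onlyMax_fixer hG hM h (hXU.trans hD.2.1)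
      (fun t ht hd => hπ t ht (hd.trans (card_dvd_of_le hXU)))
      (fun e => by
        obtain ⟨x, hx⟩ := hne
        exact (hX hx).2 (mem_bot.mp (e ▸ subset_closure hx)))
      (by rwa [centralizer_closure])
    rwa [Subgroup.centralizer_closure] at this
  open CfsgLib.BG CfsgLib.OddLocal Subgroup in
  have hA : ∀ a ∈ Cfsg.typeA M \ Cfsg.typeA1 M, a ∈ W ⊔ Cfsg.sigmaCore M ∧
      a ∉ Cfsg.sigmaCore M ∧ ∃ x ∈ Cfsg.sigmaCore M, x ≠ 1 ∧ a * x = x * a := by
    rintro a ⟨ha, ha1⟩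
    unfold Cfsg.typeA at ha
    unfold Cfsg.typeA1 at ha1
    rw [hcore] at ha1
    split_ifs at ha with hI
    · rw [heq] at ha
      exact ⟨hIiff M ⟨fun _ => rfl, fun h' => absurd hI h'⟩ ▸ ha.1, fun hS => ha1 ⟨hS, ha.2.1⟩, ha.2.2⟩
    · rw [hcore] at ha
      exact ⟨hIiff ⁅M, M⁆ ⟨fun h' => absurd h' hI, fun _ => rfl⟩ ▸ ha.1, fun hS => ha1 ⟨hS, ha.2.1⟩,
        ha.2.2⟩
  intro g hg x hx hgx
  open CfsgLib.BG CfsgLib.OddLocal Subgroup in
  obtain ⟨h1, h2, z, hz, hz1, hzc⟩ := hA x hx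
  open CfsgLib.BG CfsgLib.OddLocal Subgroup in
  obtain ⟨h1', -, z', hz', hz'1, hzc'⟩ := hA _ hgx
  exact absurd (CfsgLib.BG.le_normalizer_typeA_diff hG hM
    (CfsgLib.BG.mem_of_fusion_outside hG hM h h1 h2 hz hz1 hzc h1' hz' hz'1 hzc')) hg


end Cfsg.Agent.S1390
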