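import Cfsg.Statements.S1391
import Cfsg.Agent.Lib.BG.TypeEmbedding
import Cfsg.Agent.S1375
import Cfsg.Agent.S1380
import Cfsg.Agent.S1381
import Cfsg.Agent.Lib.BG.TypeKnown

set_option autoImplicit false
open Cfsg

namespace Cfsg.Agent.S1391

/-- Let G be a minimal simple group of odd order, M a maximal subgroup, X = A(M) or A₀(M), and D the set of x ∈ X with C_G(x) not contained in M. Then two elements of X conjugate in G are conjugate in M; D ⊆ A₁(M) and for x ∈ D the centralizer C_G(x) lies in exactly one maximal subgroup; and for x ∈ D and the maximal subgroup L containing C_G(x): M ∩ L complements L_F in L, C_M(x) complements the normal subgroup C_{L_F}(x) of C_G(x), the order of L_F is coprime to that of C_M(y) for every y ∈ X, x ∈ A(L) but x ∉ A₁(L), L is of Type I or II, and if L is of Type II then M is a Frobenius group with kernel M_F. -/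
theorem result {G : Type*} [Group G] [Finite G] (hG : Cfsg.IsMinSimpleOddOrder G)
    (M : Subgroup G) (hM : IsCoatom M) (X : Set G) (hX : X = Cfsg.typeA M ∨ X = Cfsg.typeA0 M) :
    (∀ x ∈ X, ∀ g : G, g * x * g⁻¹ ∈ X → ∃ m ∈ M, m * x * m⁻¹ = g * x * g⁻¹) ∧
      (∀ x ∈ X, ¬ Subgroup.centralizer ({x} : Set G) ≤ M → x ∈ Cfsg.typeA1 M ∧ ∃! L : Subgroup G, IsCoatom L ∧ Subgroup.centralizer ({x} : Set G) ≤ L) ∧
      ∀ x ∈ X, ¬ Subgroup.centralizer ({x} : Set G) ≤ M → ∀ L : Subgroup G, IsCoatom L → Subgroup.centralizer ({x} : Set G) ≤ L →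
        Cfsg.IsComplIn (Cfsg.fittingHallOf L) (M ⊓ L) L ∧
        Subgroup.centralizer ({x} : Set G) ≤ Subgroup.normalizer ((Cfsg.fittingHallOf L ⊓ Subgroup.centralizer ({x} : Set G) : Subgroup G) : Set G) ∧
        Cfsg.IsComplIn (Cfsg.fittingHallOf L ⊓ Subgroup.centralizer ({x} : Set G)) (M ⊓ Subgroup.centralizer ({x} : Set G)) (Subgroup.centralizer ({x} : Set G)) ∧
        (∀ y ∈ X, (Nat.card (Cfsg.fittingHallOf L)).Coprime (Nat.card ↥(M ⊓ Subgroup.centralizer ({y} : Set G)))) ∧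
        (x ∈ Cfsg.typeA L ∧ x ∉ Cfsg.typeA1 L) ∧
        (Cfsg.IsOfTypeI L ∨ Cfsg.IsOfTypeII L) ∧
        (Cfsg.IsOfTypeII L → ∃ E : Subgroup ↥M, Cfsg.IsFrobeniusComplement E ∧ Cfsg.frobeniusKernel E = ((Cfsg.fittingHall ↥M : Subgroup ↥M) : Set ↥M)) := by
  haveI := CfsgLib.BG.typeKnown hG hM
  open CfsgLib.BG CfsgLib.BG14 CfsgLib.OddLocal Subgroup in
  have hX0 : ∀ x ∈ X, x ∈ Cfsg.typeA0 M := by
    rcases hX with rfl | rfl
    · exact fun x hx => Or.inl hx
    · exact fun x hx => hx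
  open CfsgLib.BG CfsgLib.BG14 CfsgLib.OddLocal Subgroup in
  refine ⟨fun x hx g hgx => fusion_typeA0 hG hM (hX0 x hx) (hX0 _ hgx), fun x hx hxM => ?_,
    fun x hx hxM L hL hxL => ?_⟩
  · open CfsgLib.BG Subgroup in
    obtain ⟨hxS, hx1⟩ := mem_sigmaCore_of_not_le hG hM (hX0 x hx) hxM
    open CfsgLib.BG Subgroup in
    obtain ⟨N, hN, huniq, -⟩ := Cfsg.Agent.S1375.result hG M hM x hxS hx1 hxM
    exact ⟨(CfsgLib.BG.mem_typeA1_iff hG hM).mpr ⟨hxS, hx1⟩, N, hN,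
      fun L hL => huniq L hL.1 hL.2⟩
  open CfsgLib.BG CfsgLib.BG14 CfsgLib.OddLocal Subgroup in
  obtain ⟨hxS, hx1⟩ := mem_sigmaCore_of_not_le hG hM (hX0 x hx) hxM
  open CfsgLib.BG CfsgLib.BG14 CfsgLib.OddLocal Subgroup in
  obtain ⟨N, hN, huniq, hNF, hVn, hVc, hMN, hlast⟩ := Cfsg.Agent.S1375.result hG M hM x hxS hx1 hxM
  obtain rfl := huniq L hL hxL
  open CfsgLib.BG CfsgLib.BG14 CfsgLib.OddLocal Subgroup in
  have s := exists_support_eq hG hM hxS hx1 hxM hL hxL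
  open CfsgLib.BG CfsgLib.BG14 CfsgLib.OddLocal Subgroup in
  obtain ⟨K', U', h'⟩ := CfsgLib.BG.exists_sigma_decomposition hG hL
  obtain ⟨hU', hxA, hxσ⟩ := hlast K' U' h'
  haveI := CfsgLib.BG.typeKnown hG hL
  rw [← hNF]
  open CfsgLib.BG CfsgLib.BG14 CfsgLib.OddLocal Subgroup in
  refine ⟨isComplIn_swap hMN (inf_le_right.trans (le_normalizer_sigmaCore L)), hVn,
    isComplIn_swap hVc (inf_le_right.trans hVn), fun y hy => ?_, ⟨?_, ?_⟩, ?_, fun hII => ?_⟩
  · open CfsgLib.BG CfsgLib.BG14 CfsgLib.OddLocal Subgroup in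
    refine coprime_of_forall fun p hp h1 h2 => ?_
    open CfsgLib.BG CfsgLib.BG14 CfsgLib.OddLocal Subgroup in
    have hpL : p ∈ Cfsg.sigma L := mem_sigma_of_dvd_sigmaCore hp h1
    open CfsgLib.BG CfsgLib.BG14 CfsgLib.OddLocal Subgroup in
    have hpM : p ∣ Nat.card M := h2.trans (card_dvd_of_le inf_le_left)
    have hκ := s.kappa_empty hG hM hxS hx1 hpL hpM
    have hτ := s.tau2_empty hG hM hxS hx1 hpL hpM
    open CfsgLib.BG CfsgLib.BG14 CfsgLib.OddLocal Subgroup in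
    have hpσ : p ∉ Cfsg.sigma M := fun h => (exists_conj_of_sigma_inter hG hM hL h hpL).elim s.nonconj
    open CfsgLib.BG CfsgLib.BG14 CfsgLib.OddLocal Subgroup in
    have hfpf : ∀ e ∈ M, (orderOf e).Prime → orderOf e ∉ Cfsg.sigma M →
        Cfsg.sigmaCore M ⊓ centralizer ({e} : Set G) = ⊥ := by
      intro e he hep heσ
      haveI := Fact.mk hep
      by_contra hne
      have hr : Cfsg.PRankLE (orderOf e) 1 M := by
        by_contra h
        exact (Set.eq_empty_iff_forall_notMem.mp hτ) (orderOf e)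
          ⟨hep, heσ, prankLE_two_of_not_sigma hG hM heσ, h⟩
      exact (Set.eq_empty_iff_forall_notMem.mp hκ) _ (mem_kappa_of_fix hG hM he hep heσ hr hne)
    open CfsgLib.BG CfsgLib.BG14 CfsgLib.OddLocal Subgroup in
    obtain ⟨K, U, h⟩ := CfsgLib.BG.exists_sigma_decomposition hG hM
    open CfsgLib.BG CfsgLib.BG14 CfsgLib.OddLocal Subgroup in
    have hK : K = ⊥ := by
      by_contra hne
      obtain ⟨r, hr, hrd⟩ := Nat.exists_prime_and_dvd (fun e => hne (Subgroup.card_eq_one.mp e))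
      exact (Set.eq_empty_iff_forall_notMem.mp hκ) r (h.hall.2.1 r hr hrd)
    open CfsgLib.BG CfsgLib.BG14 CfsgLib.OddLocal Subgroup in
    obtain ⟨hyS, hy1⟩ : y ∈ Cfsg.sigmaCore M ∧ y ≠ 1 := by
      have hyA : y ∈ Cfsg.typeA M := by_contra fun hn => (exists_zHat_of_typeA0 hG hM h (hX0 y hy) hn).1 hK
      obtain ⟨hyD, hy1, z, hz, hz1, hyz⟩ := (mem_typeA_iff hG hM h).mp hyA
      refine ⟨by_contra fun hyS => ?_, hy1⟩
      have hyM : y ∈ M := sup_le h.compl.1 (sigmaCore_le M) hyD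
      refine hyS (mem_sigmaCore_of_sigma_order hG hM hyM fun t ht hd => by_contra fun htσ => ?_)
      have hyo := exists_pow_orderOf_eq hd
      have := hfpf _ (pow_mem hyM (orderOf y / t)) (hyo.symm ▸ ht) (hyo.symm ▸ htσ)
      exact hz1 (mem_bot.mp (this ▸ mem_inf.mpr ⟨hz, mem_centralizer_singleton_iff.mpr
        ((show Commute y z from hyz).symm.pow_right _).eq⟩))
    haveI := Fact.mk hp
    open CfsgLib.BG CfsgLib.BG14 CfsgLib.OddLocal Subgroup in
    obtain ⟨e, he⟩ := exists_prime_orderOf_dvd_card' (G := ↥(M ⊓ centralizer ({y} : Set G))) p h2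
    open CfsgLib.BG CfsgLib.BG14 CfsgLib.OddLocal Subgroup in
    have heo : orderOf (e : G) = p := by rw [Subgroup.orderOf_coe, he]
    open CfsgLib.BG CfsgLib.BG14 CfsgLib.OddLocal Subgroup in
    have := hfpf _ (mem_inf.mp e.2).1 (heo.symm ▸ hp) (heo.symm ▸ hpσ)
    open CfsgLib.BG CfsgLib.BG14 CfsgLib.OddLocal Subgroup in
    exact hy1 (mem_bot.mp (this ▸ mem_inf.mpr ⟨hyS, mem_centralizer_singleton_iff.mpr
      (mem_centralizer_singleton_iff.mp (mem_inf.mp e.2).2).symm⟩))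
  · open CfsgLib.BG in
    refine (mem_typeA_iff hG hL h').mpr ?_
    obtain ⟨⟨-, z, hz, hz1, hc⟩, hxD⟩ := hxA
    exact ⟨hxD, hx1, z, hz, hz1, hc⟩
  · exact fun h1 => hxσ ((CfsgLib.BG.mem_typeA1_iff hG hL).mp h1).1
  · by_cases hK' : K' = ⊥
    · exact Or.inl ((Cfsg.Agent.S1380.result hG L hL K' U' h').mpr ⟨hK', hU'⟩)
    · exact Or.inr ((Cfsg.Agent.S1381.result hG L hL K' U' h').mpr ⟨hK', hU'⟩)
  · open CfsgLib.BG CfsgLib.BG14 CfsgLib.OddLocal Subgroup in
    obtain ⟨hK', -⟩ := (Cfsg.Agent.S1381.result hG L hL K' U' h').mp hII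
    open CfsgLib.BG CfsgLib.BG14 CfsgLib.OddLocal Subgroup in
    obtain ⟨r, hr, hrd⟩ := Nat.exists_prime_and_dvd (fun e => hK' (Subgroup.card_eq_one.mp e))
    obtain ⟨-, -, hnil, F, hF, hF1, -, hfpf⟩ :=
      s.kappa_support hG hM hxS hx1 ⟨r, h'.hall.2.1 r hr hrd⟩
    open CfsgLib.BG CfsgLib.BG14 CfsgLib.OddLocal Subgroup in
    refine ⟨F.subgroupOf M, isFrobeniusComplement_of_fpf hG hM hF hF1 hfpf, ?_⟩
    open CfsgLib.BG CfsgLib.BG14 CfsgLib.OddLocal Subgroup in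
    rw [frobeniusKernel_eq hG hM hF hfpf, ← CfsgLib.BG14.fittingHallOf_eq_sigmaCore hG hM hnil]
    open Subgroup in
    exact congrArg _ (comap_map_eq_self_of_injective M.subtype_injective _)


end Cfsg.Agent.S1391
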