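import Cfsg.Statements.S1393
import Cfsg.Agent.Lib.OddLocal.Transitivity

set_option autoImplicit false
open Cfsg

namespace Cfsg.Agent.S1393

/-- Let G be a minimal simple group of odd order, A a subgroup satisfying the transitivity hypothesis whose centre has rank at least 3, K = O_{π(A)'}(C_G(A)), and q a prime not dividing the order of A. Then any two maximal A-invariant q-subgroups of G are conjugate by an element of K. -/
theorem result {G : Type*} [Group G] [Finite G] (hG : Cfsg.IsMinSimpleOddOrder G)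
    (A : Subgroup G) (hA : Cfsg.TransitivityHypothesis A) (hZ : ¬ Cfsg.RankLE 2 ↥(A ⊓ Subgroup.centralizer (A : Set G)))
    (q : ℕ) (hq : q.Prime) (hqA : ¬ q ∣ Nat.card A) :
    ∀ Q₁ ∈ Cfsg.maxInvSubgroups ⊤ A {q}, ∀ Q₂ ∈ Cfsg.maxInvSubgroups ⊤ A {q}, ∃ k ∈ Cfsg.piCoreOf (Cfsg.primesNotDvd (Nat.card A)) (Subgroup.centralizer (A : Set G)), Q₂ = Q₁.map (MulAut.conj k).toMonoidHom := by
  intro Q₁ h₁ Q₂ h₂
  haveI := Fact.mk hq
  obtain ⟨p, E, hp, hEZ, hE, hcard⟩ := CfsgLib.OddLocal.exists_elementary_of_not_rankLE hZ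
  by_cases hQ₁ : Q₁ = ⊥
  · exact ⟨1, one_mem _, by
      subst hQ₁
      rw [h₁.2 Q₂ h₂.1 bot_le, Subgroup.map_bot]⟩
  by_cases hQ₂ : Q₂ = ⊥
  · exact absurd (h₂.2 Q₁ h₁.1 (hQ₂ ▸ bot_le)) (by rw [hQ₂]; exact hQ₁)
  have hEA : E ≤ A := hEZ.trans inf_le_left
  have hEn : ∀ Q ∈ Cfsg.maxInvSubgroups ⊤ A {q}, Q ≠ ⊥ → ∃ B : Subgroup G,
      B ≤ E ∧ B.relIndex E ≤ p ∧ Q ⊓ Subgroup.centralizer (B : Set G) ≠ ⊥ := fun Q hQ h =>
    CfsgLib.OddLocal.exists_cocyclic_centralizer hE hp (hEA.trans hQ.1.2.2)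
      (CfsgLib.OddLocal.coprime_elementary hqA hEA (CfsgLib.OddLocal.isPGroup_of_mem_inv hQ.1)) h
  obtain ⟨B₁, hB₁, hi₁, hc₁⟩ := hEn Q₁ h₁ hQ₁
  obtain ⟨B₂, hB₂, hi₂, hc₂⟩ := hEn Q₂ h₂ hQ₂
  have hB : B₁ ⊓ B₂ ≠ ⊥ := by
    intro hbot
    have h := Subgroup.relIndex_inf_le (H := B₁) (K := B₂) (L := E)
    rw [hbot, Subgroup.relIndex_bot_left] at h
    exact absurd (h.trans (Nat.mul_le_mul hi₁ hi₂)) (not_le.mpr (pow_two p ▸ hcard))
  refine CfsgLib.OddLocal.conj_of_meet hG hA hqA h₁ h₂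
    (H := Subgroup.centralizer ((B₁ ⊓ B₂ : Subgroup G) : Set G))
    (CfsgLib.OddLocal.minSimple_centralizer_ne_top hG hB) ?_ ?_ ?_
  · exact Subgroup.le_centralizer_iff.mp ((inf_le_left.trans hB₁).trans (hEZ.trans inf_le_right))
  · intro h
    apply hc₁
    rw [eq_bot_iff, ← h]
    exact le_inf (inf_le_right.trans (Subgroup.centralizer_le inf_le_left)) inf_le_left
  · intro h
    apply hc₂
    rw [eq_bot_iff, ← h]
    exact le_inf (inf_le_right.trans (Subgroup.centralizer_le inf_le_right)) inf_le_left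

end Cfsg.Agent.S1393
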