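import Cfsg.Statements.S1400
import Cfsg.Agent.Lib.OddLocal.UniqueRankThree

set_option autoImplicit false
open Cfsg

namespace Cfsg.Agent.S1400

/-- Let G be a minimal simple group of odd order, p a prime, A an abelian p-subgroup containing an elementary abelian subgroup of order p ^ 3 and lying in exactly one maximal subgroup, and B a noncyclic p-subgroup whose centralizer contains an elementary abelian subgroup of order p ^ 3. Then B lies in exactly one maximal subgroup of G. -/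
theorem result {G : Type*} [Group G] [Finite G] (hG : Cfsg.IsMinSimpleOddOrder G)
    (p : ℕ) [Fact p.Prime] (A B : Subgroup G) (hAp : IsPGroup p A) (hAc : IsMulCommutative A) (hA3 : ¬ Cfsg.PRankLE p 2 ↥A)
    (hAU : Cfsg.InUniqueMaximal A) (hBp : IsPGroup p B) (hBnc : ¬ IsCyclic B) (hB3 : ¬ Cfsg.PRankLE p 2 ↥(Subgroup.centralizer (B : Set G))) :
    Cfsg.InUniqueMaximal B := by
  have hpr := (Fact.out : p.Prime)
  obtain ⟨E₁, hE₁A, hE₁e, hE₁3⟩ := CfsgLib.OddLocal.exists_elemAb_of_not_pRankLE hA3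
  obtain ⟨E₂, hE₂C, hE₂e, hE₂3⟩ := CfsgLib.OddLocal.exists_elemAb_of_not_pRankLE hB3
  have hU₁ : Cfsg.InUniqueMaximal E₁ :=
    CfsgLib.OddLocal.inUniqueMax_of_centralizes (p := p) hG hAU
      (hE₁A.trans (CfsgLib.OddLocal.le_centralizer_self hAc))
      (CfsgLib.OddLocal.not_pRankLE_of_le_elemAb (k := 1) hE₁e le_rfl
        ((Nat.pow_le_pow_right hpr.pos (by norm_num)).trans hE₁3))
  obtain ⟨M, hM, hE₁M⟩ := CfsgLib.OddLocal.exists_coatom_ge (CfsgLib.OddLocal.inUniqueMax_ne_top hU₁)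
  have hU₂ := (CfsgLib.OddLocal.spread_rank_three hG hE₁e hE₁3 hU₁ hM hE₁M hE₂e hE₂3).1
  refine CfsgLib.OddLocal.inUniqueMax_of_centralizes (p := p) hG hU₂ (Subgroup.le_centralizer_iff.1 hE₂C) ?_
  have hB1 : B ≠ ⊥ := CfsgLib.OddLocal.ne_bot_of_not_isCyclic hBnc
  have hp2 := CfsgLib.OddLocal.ne_two_of_dvd hG (CfsgLib.OddLocal.dvd_card_of_pGroup_ne_bot hBp hB1)
  obtain ⟨E, -, hEc, hEe, hE2⟩ := CfsgLib.Transfer.exists_normal_elementary_sq hp2 hBp hBnc
  exact fun h => absurd (hE2 ▸ h E hEc hEe) (not_le.2 (Nat.pow_lt_pow_right hpr.one_lt (by norm_num)))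

end Cfsg.Agent.S1400
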