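import Cfsg.Statements.S1430
import Cfsg.Agent.Lib.BG14.PDataStar

set_option autoImplicit false
open Cfsg

namespace Cfsg.Agent.S1430

/-- Let G be a minimal simple group of odd order, M a maximal subgroup, K ≠ 1 a Hall κ(M)-subgroup of M and K* = M_σ ∩ C_G(K). Then M_σ ∩ C_G(k) = K* for every non-identity k ∈ K; there is an abelian subgroup U of M, a Hall subgroup of M for the primes outside κ(M) ∪ σ(M), normalized by K with U ∩ C_G(k) = 1 for all non-identity k ∈ K; and for every subgroup X ≤ K of prime order, M ∩ N_G(X) = M ∩ N_G(K) = K ⊔ K*, and X ≤ M*_σ for every maximal subgroup M* containing N_G(X). -/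
theorem result {G : Type*} [Group G] [Finite G] (hG : Cfsg.IsMinSimpleOddOrder G)
    (M : Subgroup G) (hM : IsCoatom M) (K : Subgroup G) (hK : Cfsg.IsPiHallOf (Cfsg.kappa M) K M) (hK1 : K ≠ ⊥) :
    (∀ k ∈ K, k ≠ 1 → Cfsg.sigmaCore M ⊓ Subgroup.centralizer ({k} : Set G) = (Cfsg.sigmaCore M ⊓ Subgroup.centralizer (K : Set G))) ∧
      (∃ U : Subgroup G, IsMulCommutative U ∧ Cfsg.IsPiHallOf {q | q.Prime ∧ q ∉ Cfsg.kappa M ∧ q ∉ Cfsg.sigma M} U M ∧
        K ≤ Subgroup.normalizer (U : Set G) ∧ ∀ k ∈ K, k ≠ 1 → U ⊓ Subgroup.centralizer ({k} : Set G) = ⊥) ∧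
      ∀ X : Subgroup G, X ≤ K → (Nat.card X).Prime →
        M ⊓ Subgroup.normalizer (X : Set G) = K ⊔ (Cfsg.sigmaCore M ⊓ Subgroup.centralizer (K : Set G)) ∧ M ⊓ Subgroup.normalizer (K : Set G) = K ⊔ (Cfsg.sigmaCore M ⊓ Subgroup.centralizer (K : Set G)) ∧
        ∀ Mstar : Subgroup G, IsCoatom Mstar → Subgroup.normalizer (X : Set G) ≤ Mstar → X ≤ Cfsg.sigmaCore Mstar := by
  open Subgroup CfsgLib.PLocal CfsgLib.OddLocal CfsgLib.BG CfsgLib.BG14 in
  obtain ⟨U, E, d⟩ := exists_pdata_of_hall hG hM hK hK1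
  open Subgroup CfsgLib.PLocal CfsgLib.OddLocal CfsgLib.BG CfsgLib.BG14 in
  refine ⟨fun k hk hk1 => d.fix_eq hG hk hk1, ⟨U, d.comm, ⟨d.U_le_M hG, fun q hq hd => ⟨hq, fun hκ =>
      hq.ne_one (Nat.eq_one_of_dvd_coprimes d.coprime hd ((d.mem_kappa_iff hG).mp hκ).2),
      not_sigma_of_dvd_compl hG hM d.compl hq (hd.trans (card_dvd_of_le d.U_le))⟩,
      fun q hq hqπ hd => ?_⟩, d.K_le.trans d.normal, d.fpf⟩, fun X hX hXp => ?_⟩
  · obtain ⟨-, hκ, hσ⟩ := hqπ
    rw [← Subgroup.relIndex_mul_relIndex U E M d.U_le d.compl.1] at hd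
    rcases hq.dvd_mul.mp hd with h | h
    · have hc : Nat.card E = Nat.card U * U.relIndex E :=
        (CfsgLib.Coprime.card_mul_relIndex d.U_le).symm
      rw [d.card_E hG] at hc
      exact hκ ((d.mem_kappa_iff hG).mpr ⟨hq, Nat.eq_of_mul_eq_mul_left Nat.card_pos hc ▸ h⟩)
    · have hc : Nat.card E * E.relIndex M = Nat.card E * Nat.card (Cfsg.sigmaCore M) := by
        rw [CfsgLib.Coprime.card_mul_relIndex d.compl.1, CfsgLib.BG.card_compl hG hM d.compl, mul_comm,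
          CfsgLib.Coprime.card_mul_relIndex (sigmaCore_le M)]
      rw [Nat.eq_of_mul_eq_mul_left Nat.card_pos hc] at h
      exact hσ (mem_sigma_of_dvd_sigmaCore hq h)
  · haveI := Fact.mk hXp
    obtain ⟨g, hg, hgo⟩ := exists_order_p (isPGroup_of_card_prime (p := Nat.card X) rfl)
      (ne_bot_of_card_prime (p := Nat.card X) rfl)
    have hgp : (orderOf g).Prime := hgo.symm ▸ hXp
    have hz : Subgroup.zpowers g = X :=
      zpowers_eq_of_card_prime (p := Nat.card X) rfl hg (ne_one_of_prime hgp)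
    subst hz
    refine ⟨d.normalizer_inf hG (hX hg) hgp, d.normalizer_K hG, fun L hL hNL => ?_⟩
    exact Subgroup.zpowers_le.mpr (d.neighbour hG (hX hg) hgp hL hNL).1

end Cfsg.Agent.S1430
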