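import Cfsg.Statements.S1434
import Cfsg.Agent.Lib.BG14.Zhat

set_option autoImplicit false
open Cfsg

namespace Cfsg.Agent.S1434

/-- Let G be a minimal simple group of odd order, M a maximal subgroup with standard factorisation M = K U M_σ, K ≠ 1, K* = M_σ ∩ C_G(K), and M* a maximal subgroup with K = M*_σ ∩ C_G(K*) and K* a Hall κ(M*)-subgroup of M*. Then κ(M) = τ₁(M); K* is a Hall σ(M)-subgroup of M*; for non-identity x ∈ K and y ∈ K*, C_M(x), C_{M*}(y) and C_G(xy) all equal K K*; the set Ẑ of elements of K K* outside K ∪ K* meets no gMg⁻¹ with g ∉ M; and with k = #K, k* = #K*, the union of the conjugates of Ẑ has k·k*·(number of elements) = (k k* − k − k* + 1)·#G and more than #G / 2 elements. -/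
theorem result {G : Type*} [Group G] [Finite G] (hG : Cfsg.IsMinSimpleOddOrder G)
    (M : Subgroup G) (hM : IsCoatom M) (K U : Subgroup G) (hKU : Cfsg.IsSigmaDecomposition M K U) (hK1 : K ≠ ⊥) (Mstar : Subgroup G) (hMstar : IsCoatom Mstar)
    (hKst : K = Cfsg.sigmaCore Mstar ⊓ Subgroup.centralizer ((Cfsg.sigmaCore M ⊓ Subgroup.centralizer (K : Set G)) : Set G))
    (hKstH : Cfsg.IsPiHallOf (Cfsg.kappa Mstar) (Cfsg.sigmaCore M ⊓ Subgroup.centralizer (K : Set G)) Mstar) :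
    Cfsg.kappa M = Cfsg.tau1 M ∧ Cfsg.IsPiHallOf (Cfsg.sigma M) (Cfsg.sigmaCore M ⊓ Subgroup.centralizer (K : Set G)) Mstar ∧
      (∀ x ∈ K, x ≠ 1 → ∀ y ∈ (Cfsg.sigmaCore M ⊓ Subgroup.centralizer (K : Set G)), y ≠ 1 →
        M ⊓ Subgroup.centralizer ({x} : Set G) = K ⊔ (Cfsg.sigmaCore M ⊓ Subgroup.centralizer (K : Set G)) ∧ Mstar ⊓ Subgroup.centralizer ({y} : Set G) = K ⊔ (Cfsg.sigmaCore M ⊓ Subgroup.centralizer (K : Set G)) ∧
        Subgroup.centralizer ({x * y} : Set G) = K ⊔ (Cfsg.sigmaCore M ⊓ Subgroup.centralizer (K : Set G))) ∧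
      (∀ g : G, g ∉ M → ∀ z ∈ ((↑(K ⊔ (Cfsg.sigmaCore M ⊓ Subgroup.centralizer (K : Set G))) : Set G) \ ((K : Set G) ∪ ↑(Cfsg.sigmaCore M ⊓ Subgroup.centralizer (K : Set G)))), z ∉ M.map (MulAut.conj g).toMonoidHom) ∧
      Nat.card K * Nat.card ↥(Cfsg.sigmaCore M ⊓ Subgroup.centralizer (K : Set G)) * Set.ncard {a : G | ∃ g : G, ∃ z ∈ ((↑(K ⊔ (Cfsg.sigmaCore M ⊓ Subgroup.centralizer (K : Set G))) : Set G) \ ((K : Set G) ∪ ↑(Cfsg.sigmaCore M ⊓ Subgroup.centralizer (K : Set G)))), a = g * z * g⁻¹} =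
        (Nat.card K * Nat.card ↥(Cfsg.sigmaCore M ⊓ Subgroup.centralizer (K : Set G)) - Nat.card K - Nat.card ↥(Cfsg.sigmaCore M ⊓ Subgroup.centralizer (K : Set G)) + 1) * Nat.card G ∧
      Nat.card G < 2 * Set.ncard {a : G | ∃ g : G, ∃ z ∈ ((↑(K ⊔ (Cfsg.sigmaCore M ⊓ Subgroup.centralizer (K : Set G))) : Set G) \ ((K : Set G) ∪ ↑(Cfsg.sigmaCore M ⊓ Subgroup.centralizer (K : Set G)))), a = g * z * g⁻¹} := by
  open Subgroup CfsgLib.PLocal CfsgLib.OddLocal CfsgLib.BG CfsgLib.BG14 in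
  obtain ⟨U', E, d⟩ := exists_pdata_of_hall hG hM hKU.hall hK1
  obtain ⟨U₁, E₁, d₁⟩ := CfsgLib.BG14.exists_pdata_of_hall hG hMstar hKstH d.fix_ne
  open CfsgLib.BG14 in
  refine ⟨d.kappa_eq hG, d.star_hall hG d₁ hKst.symm, fun x hx hx1 y hy hy1 =>
    ⟨d.centralizer_K_el hG hx hx1, ?_, d.centralizer_hatZ hG ⟨?_, ?_⟩⟩,
    fun g hg z hz => d.hatZ_not_mem_conj hG hz hg, ?_, ?_⟩
  · rw [d₁.centralizer_K_el hG hy hy1, zGroup, sup_comm]
    exact congrArg (· ⊔ starOf M K) hKst.symm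
  · exact mul_mem (Subgroup.mem_sup_left hx) (Subgroup.mem_sup_right hy)
  · rintro (h | h)
    · have h' : y ∈ K ⊓ starOf M K := ⟨(Subgroup.mul_mem_cancel_left K hx).mp h, hy⟩
      rw [d.inf_star hG, Subgroup.mem_bot] at h'
      exact hy1 h'
    · have h' : x ∈ K ⊓ starOf M K := ⟨hx, (Subgroup.mul_mem_cancel_right (starOf M K) hy).mp h⟩
      rw [d.inf_star hG, Subgroup.mem_bot] at h'
      exact hx1 h'
  · have h1 := d.ncard_hatZ_conj hG
    have h2 := d.ncard_hatZ hG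
    have h3 := d.three_le_card hG
    have h4 : 3 ≤ Nat.card ↥(starOf M K) := d₁.three_le_card hG
    have h5 : Nat.card K + Nat.card (starOf M K) ≤ Nat.card K * Nat.card (starOf M K) := by
      nlinarith
    have h6 : (hatZ M K).ncard =
        Nat.card K * Nat.card (starOf M K) - Nat.card K - Nat.card (starOf M K) + 1 := by omega
    rw [h6] at h1
    exact h1
  · have h1 := d.ncard_hatZ_conj hG
    have h2 := d.ncard_hatZ hG
    have h3 := d.three_le_card hG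
    have h4 : 3 ≤ Nat.card ↥(starOf M K) := d₁.three_le_card hG
    have hne : Nat.card K ≠ Nat.card (starOf M K) := fun e => by
      have h := d.coprime_star hG
      rw [← e, Nat.coprime_self] at h
      omega
    have h7 : Nat.card K * Nat.card (starOf M K) < 2 * (hatZ M K).ncard := by
      obtain ⟨i, hi⟩ := CfsgLib.OddLocal.minSimple_odd hG K
      obtain ⟨j, hj⟩ := CfsgLib.OddLocal.minSimple_odd hG (starOf M K)
      simp only [hi, hj] at h2 h3 h4 hne ⊢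
      rcases Nat.lt_or_ge i j with h | h
      · nlinarith [Nat.mul_le_mul (show 1 ≤ i by omega) (show 2 ≤ j by omega)]
      · nlinarith [Nat.mul_le_mul (show 2 ≤ i by omega) (show 1 ≤ j by omega)]
    show Nat.card G < 2 * Set.ncard {a | ∃ g : G, ∃ z ∈ hatZ M K, a = g * z * g⁻¹}
    refine Nat.lt_of_mul_lt_mul_left (a := Nat.card K * Nat.card (starOf M K)) ?_
    rw [mul_left_comm _ 2, h1, ← mul_assoc]
    exact Nat.mul_lt_mul_of_pos_right h7 Nat.card_pos

end Cfsg.Agent.S1434
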