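import Cfsg.Statements.S1441
import Cfsg.Agent.Lib.OddLocal.Stab
import Mathlib.GroupTheory.Perm.Cycle.Type

set_option autoImplicit false
open Cfsg

namespace Cfsg.Agent.S1441

/-- Let G be a finite group, H a solvable subgroup and A a subgroup normalizing H. Suppose there is a chain H = H₀ ≥ H₁ ≥ ⋯ ≥ H_n = 1 of subgroups normal in H and normalized by A such that A acts trivially on each factor H_{i-1}/H_i (that is, [H_{i-1}, A] ≤ H_i). Then every prime dividing the index of C_A(H) in A divides the order of H. -/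
theorem result {G : Type*} [Group G] [Finite G] (H A : Subgroup G) (hH : Group.IsSolvable H) (hA : (A ≤ Subgroup.normalizer (H : Set G)))
    (n : ℕ) (c : Fin (n + 1) → Subgroup G) (hc0 : c 0 = H) (hcn : c (Fin.last n) = ⊥) (hanti : Antitone c)
    (hcN : ∀ i, H ≤ Subgroup.normalizer ((c i : Subgroup G) : Set G)) (hcA : ∀ i, A ≤ Subgroup.normalizer ((c i : Subgroup G) : Set G))
    (htriv : ∀ i : Fin n, ⁅c i.castSucc, A⁆ ≤ c i.succ) :
    ∀ p : ℕ, p.Prime → p ∣ (A ⊓ Subgroup.centralizer (H : Set G)).relIndex A → p ∣ Nat.card H := by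
  intro p hp hdvd
  haveI := Fact.mk hp
  by_contra hpH
  have key : ∀ a ∈ A, (orderOf a).Coprime (Nat.card H) → a ∈ Subgroup.centralizer (H : Set G) := by
    intro a ha hcop
    have hall : ∀ i : Fin (n + 1), ∀ h ∈ c i, a * h * a⁻¹ = h := by
      intro i
      induction i using Fin.reverseInduction with
      | last =>
        intro h hh
        rw [hcn, Subgroup.mem_bot] at hh
        subst hh; simp
      | cast i ih =>
        intro h hh
        have hz : a * h * a⁻¹ * h⁻¹ ∈ c i.succ := by
          have := htriv i (Subgroup.commutator_mem_commutator hh ha)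
          have h2 := (c i.succ).inv_mem this
          rw [commutatorElement_inv, commutatorElement_def] at h2
          exact h2
        exact CfsgLib.OddLocal.conj_eq_of_stabilizes (c i.succ) a h hz (ih _ hz)
          (hcop.coprime_dvd_right (Subgroup.card_dvd_of_le (hc0 ▸ hanti (Fin.zero_le i.succ))))
    rw [Subgroup.mem_centralizer_iff]
    intro h hh
    exact (mul_inv_eq_iff_eq_mul.mp (hall 0 h (hc0.symm ▸ hh))).symm
  -- the image of a `p`-element of `A` in `A / C_A(H)`
  set C := A ⊓ Subgroup.centralizer (H : Set G)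
  obtain ⟨P⟩ : Nonempty (Sylow p A) := inferInstance
  have hPC : (P : Subgroup A) ≤ C.subgroupOf A := by
    intro x hx
    refine Subgroup.mem_subgroupOf.mpr ⟨x.2, key _ x.2 ?_⟩
    obtain ⟨k, hk⟩ := IsPGroup.iff_orderOf.mp P.2 ⟨x, hx⟩
    rw [Subgroup.orderOf_mk] at hk
    rw [Subgroup.orderOf_coe, hk]
    exact Nat.Coprime.pow_left k ((Nat.Prime.coprime_iff_not_dvd hp).mpr hpH)
  exact P.not_dvd_index (hdvd.trans (Subgroup.index_dvd_of_le hPC))

end Cfsg.Agent.S1441
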