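import Cfsg.Statements.S1445
import Cfsg.Agent.Lib.OddLocal.HallHigmanFix
import Cfsg.Agent.Lib.OddLocal.PiCore
import Cfsg.Agent.Lib.OddLocal.FittingHall
import Cfsg.Agent.Lib.Coprime.Sylow
import Cfsg.Agent.Lib.Solvable.HallHigman
import Cfsg.Agent.Lib.Solvable.PCore

set_option autoImplicit false
open Cfsg

namespace Cfsg.Agent.S1445

open Subgroup CfsgLib.OddLocal CfsgLib.Coprime
open scoped commutatorElement

universe u
set_option linter.style.haveILetI false
set_option linter.unusedSectionVars false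
variable {G : Type u} [Group G] [Finite G]

theorem isPGroup_piCoreOf (q : ℕ) (X : Subgroup G) : IsPGroup q (Cfsg.piCoreOf {q} X) :=
  IsPGroup.of_card (n := (Nat.card (Cfsg.piCoreOf {q} X)).primeFactorsList.length)
    (Nat.eq_prime_pow_of_unique_prime_dvd Nat.card_pos.ne'
      fun {s} hs hd => piCoreOf_spec _ _ s hs hd)

theorem card_mul_relIndex {L : Type*} [Group L] {A B : Subgroup L} (h : A ≤ B) :
    Nat.card A * A.relIndex B = Nat.card B := by
  rw [Subgroup.relIndex, ← Nat.card_congr (Subgroup.subgroupOfEquivOfLe h).toEquiv,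
    Subgroup.card_mul_index]

theorem piCoreOf_normal (π : Set ℕ) (X : Subgroup G) [X.Normal] : (Cfsg.piCoreOf π X).Normal := by
  rw [← Subgroup.normalizer_eq_top_iff, eq_top_iff, ← Subgroup.normalizer_eq_top X]
  exact le_normalizer_piCoreOf π X

theorem fittingOf_normal (X : Subgroup G) [X.Normal] : (Cfsg.fittingOf X).Normal := by
  haveI := CfsgLib.Solvable.fittingSubgroup_characteristic X
  show ((Cfsg.fittingSubgroup X).map X.subtype).Normal
  infer_instance

/-- In a nilpotent subgroup, `q`-elements lie in the `q`-core. -/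
theorem mem_piCoreOf_of_pgroup {F : Subgroup G} (hF : Group.IsNilpotent F) {q : ℕ} [hq : Fact q.Prime]
    {y : G} (hy : y ∈ F) (hyq : IsPGroup q (Subgroup.zpowers y)) : y ∈ Cfsg.piCoreOf {q} F := by
  obtain ⟨S, hS⟩ := (IsPGroup.comap_subtype (K := F) hyq).exists_le_sylow
  have hn : (S : Subgroup F).Normal :=
    ((Group.isNilpotent_of_finite_tfae (G := F)).out 0 3 rfl rfl).mp hF q inferInstance S
  refine le_piCoreOf (N := (S : Subgroup F).map F.subtype) (Subgroup.map_subtype_le _) ?_ ?_
    ⟨⟨y, hy⟩, hS (Subgroup.mem_zpowers y), rfl⟩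
  · intro a ha
    have h' : (⟨a, ha⟩ : F) ∈ Subgroup.normalizer ((S : Subgroup F) : Set F) := by
      rw [Subgroup.normalizer_eq_top]; exact Subgroup.mem_top _
    exact Subgroup.le_normalizer_map F.subtype ⟨_, h', rfl⟩
  · intro s hs hd
    obtain ⟨k, hk⟩ := IsPGroup.iff_card.1 (S.2.map F.subtype)
    rw [hk] at hd
    exact (Nat.prime_dvd_prime_iff_eq hs hq.out).1 (hs.dvd_of_dvd_pow hd)

/-- An element of prime order without fixed points on `F(K)` centralizes `K` modulo `F(K)`. -/
theorem coprime_mod_fitting (hodd : Odd (Nat.card G)) (K : Subgroup G) [K.Normal] (hKs : Group.IsSolvable K)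
    {r : ℕ} [hr : Fact r.Prime] {x : G} (hx : orderOf x = r) (hrK : ¬ r ∣ Nat.card K)
    (hfree : Cfsg.fittingOf K ⊓ Subgroup.centralizer (Subgroup.zpowers x : Set G) = ⊥) :
    ⁅K, Subgroup.zpowers x⁆ ≤ Cfsg.fittingOf K := by
  classical
  set X := Subgroup.zpowers x with hXdef
  set F := Cfsg.fittingOf K with hFdef
  haveI hFn : F.Normal := fittingOf_normal K
  have hFK : F ≤ K := fittingOf_le K
  have hFnil : Group.IsNilpotent F := fittingOf_isNilpotent K
  set f := QuotientGroup.mk' F with hf
  have hfs : Function.Surjective f := QuotientGroup.mk'_surjective F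
  have hkf : f.ker = F := QuotientGroup.ker_mk' F
  haveI hKbn : (K.map f).Normal := Subgroup.Normal.map inferInstance f hfs
  haveI : Group.IsSolvable (K.map f) := CfsgLib.Coprime.isSolvable_map f hKs
  set Φ := Cfsg.fittingOf (K.map f) with hΦ
  haveI hΦn : Φ.Normal := fittingOf_normal _
  have hΦnil : Group.IsNilpotent Φ := fittingOf_isNilpotent _
  have hodd' : ∀ s : ℕ, s ∣ Nat.card G → s ≠ 2 := by
    rintro s hs rfl
    exact (Nat.not_even_iff_odd.2 hodd) (even_iff_two_dvd.2 hs)
  have hcardX : Nat.card X = r := by rw [hXdef, Nat.card_zpowers, hx]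
  have hcopXK : (Nat.card X).Coprime (Nat.card K) := hcardX ▸ (hr.out.coprime_iff_not_dvd.2 hrK)
  have hXK : X ≤ Subgroup.normalizer (K : Set G) := by rw [Subgroup.normalizer_eq_top]; exact le_top
  -- `x` centralizes every primary component of `F(K / F(K))`
  have main : ∀ p : ℕ, p.Prime → Cfsg.piCoreOf {p} Φ ≤ Subgroup.centralizer ((X.map f : Subgroup _) : Set (G ⧸ F)) := by
    intro p hp
    haveI := Fact.mk hp
    set B := Cfsg.piCoreOf {p} Φ with hB
    haveI hBn : B.Normal := piCoreOf_normal _ _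
    have hBK : B ≤ K.map f := (piCoreOf_le _ _).trans (fittingOf_le _)
    by_cases hB1 : B = ⊥
    · rw [hB1]; exact bot_le
    set T := B.comap f with hTdef
    haveI hTn : T.Normal := hBn.comap f
    have hTK : T ≤ K := by
      intro t ht
      obtain ⟨k, hk, hkt⟩ := hBK ht
      have : k⁻¹ * t ∈ F := by rw [← hkf, MonoidHom.mem_ker, map_mul, map_inv, hkt, inv_mul_cancel]
      simpa using K.mul_mem hk (hFK this)
    have hTmap : T.map f = B := Subgroup.map_comap_eq_self_of_surjective hfs B
    have hpK : p ∣ Nat.card K := by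
      obtain ⟨k, hk⟩ := IsPGroup.iff_card.1 (isPGroup_piCoreOf p Φ)
      rcases k with _ | k
      · exact absurd (Subgroup.eq_bot_of_card_eq _ (by rw [hB, hk, pow_zero])) hB1
      · have h1 : p ∣ Nat.card (K.map f) :=
          (show p ∣ Nat.card B by rw [hB, hk]; exact dvd_pow_self p (Nat.succ_ne_zero _)).trans
            (Subgroup.card_dvd_of_le hBK)
        exact h1.trans (Subgroup.card_map_dvd _ f)
    have hpr : p ≠ r := fun h => hrK (h ▸ hpK)
    have hXT : X ≤ Subgroup.normalizer (T : Set G) := by rw [Subgroup.normalizer_eq_top]; exact le_top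
    have hcopXT : (Nat.card X).Coprime (Nat.card T) :=
      hcopXK.coprime_dvd_right (Subgroup.card_dvd_of_le hTK)
    have hsT : Group.IsSolvable T := isSolvable_of_le hKs hTK
    obtain ⟨S, hS⟩ := exists_invariant_sylow hXT hcopXT (Or.inr hsT) (p := p)
    set P0 := (S : Subgroup T).map T.subtype with hP0
    have hP0p : IsPGroup p P0 := S.2.map _
    have hP0T : P0 ≤ T := Subgroup.map_subtype_le _
    -- `P0` maps onto `B`
    have hP0B : P0.map f = B := by
      refine Subgroup.eq_of_le_of_card_ge ((Subgroup.map_mono hP0T).trans hTmap.le) (Nat.le_of_dvd Nat.card_pos ?_)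
      obtain ⟨k, hk⟩ := IsPGroup.iff_card.1 (isPGroup_piCoreOf p Φ)
      have h1 : Nat.card B = Nat.card (P0.map f) * (P0.map f).relIndex B :=
        (card_mul_relIndex ((Subgroup.map_mono hP0T).trans hTmap.le)).symm
      have h2 : (P0.map f).relIndex B ∣ (S : Subgroup T).index := by
        have hindex : P0.relIndex T = (S : Subgroup T).index := by
          rw [hP0, Subgroup.relIndex, Subgroup.subgroupOf,
            Subgroup.comap_map_eq_self_of_injective T.subtype_injective]
        rw [← hTmap, ← hindex, Subgroup.relIndex_map_map]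
        exact Subgroup.relIndex_dvd_of_le_left _ le_sup_left |>.trans
          (by rw [sup_eq_left.2 (show f.ker ≤ T by
            intro t ht; rw [hTdef, Subgroup.mem_comap, MonoidHom.mem_ker.1 ht]; exact B.one_mem)])
      have h3 : (P0.map f).relIndex B = 1 := by
        refine Nat.eq_one_of_dvd_coprimes
          (Nat.Coprime.pow_left k (hp.coprime_iff_not_dvd.2 S.not_dvd_index)) ?_ h2
        rw [← hk]; exact h1 ▸ dvd_mul_left _ _
      rw [h1, h3, mul_one]
    -- `[P0, x]` centralizes the other primary parts of `F`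
    set P := ⁅P0, X⁆ with hPdef
    have hPP0 : P ≤ P0 := le_normalizer_iff_commutator_le_left.1 hS
    have hPC : ∀ q : ℕ, q.Prime → q ≠ p → Cfsg.piCoreOf {q} F ≤ Subgroup.centralizer (P : Set G) := by
      intro q hq hqp
      haveI := Fact.mk hq
      by_cases hq1 : Cfsg.piCoreOf {q} F = ⊥
      · rw [hq1]; exact bot_le
      have hqK : q ∣ Nat.card K := by
        obtain ⟨k, hk⟩ := IsPGroup.iff_card.1 (isPGroup_piCoreOf q F)
        rcases k with _ | k
        · exact absurd (Subgroup.eq_bot_of_card_eq _ (by rw [hk, pow_zero])) hq1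
        · exact (show q ∣ Nat.card (Cfsg.piCoreOf {q} F) by rw [hk]; exact dvd_pow_self q (Nat.succ_ne_zero _)).trans
            (Subgroup.card_dvd_of_le ((piCoreOf_le _ _).trans hFK))
      haveI : (Cfsg.piCoreOf {q} F).Normal := piCoreOf_normal _ _
      have hn : ∀ A : Subgroup G, A ≤ Subgroup.normalizer (Cfsg.piCoreOf {q} F : Set G) := fun A => by
        rw [Subgroup.normalizer_eq_top]; exact le_top
      rw [Subgroup.le_centralizer_iff]
      exact commutator_le_centralizer_of_fixedPointFree hr.out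
        (hodd' p (hpK.trans (Subgroup.card_subgroup_dvd_card K)))
        (hodd' q (hqK.trans (Subgroup.card_subgroup_dvd_card K)))
        (hodd' r (hx ▸ orderOf_dvd_natCard x)) hpr hqp (fun h => hrK (h ▸ hqK)) hx hP0p
        (isPGroup_piCoreOf q F) (hS (Subgroup.mem_zpowers x)) (hn X (Subgroup.mem_zpowers x))
        (hn P0) (eq_bot_iff.2 (hfree ▸ inf_le_inf_right _ (piCoreOf_le _ _)))
    -- `M` is nilpotent and normal
    set Fp' := Cfsg.piCoreOf {s | s ≠ p} F with hFp'
    haveI : Fp'.Normal := piCoreOf_normal _ _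
    have hFp'C : Fp' ≤ Subgroup.centralizer (P : Set G) := by
      set W := Fp' ⊓ Subgroup.centralizer (P : Set G) with hW
      suffices W = Fp' by rw [← this]; exact inf_le_right
      refine Subgroup.eq_of_le_of_card_ge inf_le_left (Nat.le_of_eq ?_)
      have h1 : W.relIndex Fp' = 1 := by
        by_contra h
        obtain ⟨q, hq, hqd⟩ := Nat.exists_prime_and_dvd h
        haveI := Fact.mk hq
        have hqp : q ≠ p := piCoreOf_spec {s | s ≠ p} F q hq (hqd.trans (Subgroup.relIndex_dvd_card W Fp'))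
        obtain ⟨Sq⟩ : Nonempty (Sylow q Fp') := inferInstance
        refine Sq.not_dvd_index (hqd.trans (Subgroup.index_dvd_of_le fun y hy => ?_))
        have hyq : IsPGroup q (Subgroup.zpowers (y : G)) := by
          have := (Sq.2.to_le (Subgroup.zpowers_le.2 hy)).map Fp'.subtype
          rwa [MonoidHom.map_zpowers] at this
        exact ⟨y.2, hPC q hq hqp (mem_piCoreOf_of_pgroup hFnil (piCoreOf_le _ _ y.2) hyq)⟩
      rw [← card_mul_relIndex (inf_le_left : W ≤ Fp'), h1, mul_one]
    set M := T ⊓ Subgroup.centralizer (Fp' : Set G) with hM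
    haveI hMn : M.Normal := by
      have : (Subgroup.centralizer (Fp' : Set G)).Normal := Subgroup.normal_centralizer
      exact Subgroup.normal_inf_normal _ _
    have hMnil : Group.IsNilpotent M := by
      refine Group.of_quotient_center_nilpotent ?_
      refine IsPGroup.isNilpotent (p := p) (IsPGroup.of_card (n := (Nat.card (M ⧸ Subgroup.center M)).primeFactorsList.length)
        (Nat.eq_prime_pow_of_unique_prime_dvd Nat.card_pos.ne' fun {q} hq hqd => ?_))
      by_contra hqp
      haveI := Fact.mk hq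
      obtain ⟨Sq⟩ : Nonempty (Sylow q M) := inferInstance
      refine Sq.not_dvd_index (hqd.trans (dvd_trans (Subgroup.index_eq_card (Subgroup.center M)).symm.dvd
        (Subgroup.index_dvd_of_le fun y hy => ?_)))
      have hyq : IsPGroup q (Subgroup.zpowers (y : G)) := by
        have := (Sq.2.to_le (Subgroup.zpowers_le.2 hy)).map M.subtype
        rwa [MonoidHom.map_zpowers] at this
      have hyF : (y : G) ∈ F := by
        rw [← hkf, MonoidHom.mem_ker, ← orderOf_eq_one_iff]
        obtain ⟨i, hi⟩ := IsPGroup.iff_orderOf.1 hyq ⟨_, Subgroup.mem_zpowers (y : G)⟩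
        rw [Subgroup.orderOf_mk] at hi
        obtain ⟨j, hj⟩ := IsPGroup.iff_orderOf.1 (isPGroup_piCoreOf p Φ) ⟨f y, y.2.1⟩
        rw [← Subgroup.orderOf_coe] at hj
        exact Nat.eq_one_of_dvd_coprimes (Nat.Coprime.pow i j ((Nat.coprime_primes hq hp).2 hqp))
          (hi ▸ orderOf_map_dvd f _) (hj ▸ dvd_rfl)
      have hyFp : (y : G) ∈ Fp' :=
        CfsgLib.OddLocal.le_piCoreOf (piCoreOf_le _ _)
          (Subgroup.le_normalizer.trans (le_normalizer_piCoreOf _ _))
          (fun s hs hd => by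
            have hsq : s = q := piCoreOf_spec {q} F s hs hd
            show s ≠ p
            exact hsq ▸ hqp)
          (mem_piCoreOf_of_pgroup hFnil hyF hyq)
      rw [Subgroup.mem_center_iff]
      intro m
      exact Subtype.ext (Subgroup.mem_centralizer_iff.1 m.2.2 _ hyFp).symm
    have hMF : M ≤ F := by
      have hle : M.subgroupOf K ≤ Cfsg.fittingSubgroup K :=
        le_sSup ⟨inferInstance, (Group.isNilpotent_congr
          (Subgroup.subgroupOfEquivOfLe ((inf_le_left : M ≤ T).trans hTK))).2 hMnil⟩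
      have := Subgroup.map_mono (f := K.subtype) hle
      rwa [Subgroup.map_subgroupOf_eq_of_le ((inf_le_left : M ≤ T).trans hTK)] at this
    have hPF : P ≤ F :=
      (le_inf (hPP0.trans hP0T) (Subgroup.le_centralizer_iff.1 hFp'C)).trans hMF
    rw [← Subgroup.commutator_eq_bot_iff_le_centralizer, ← hP0B, ← Subgroup.map_commutator,
      Subgroup.map_eq_bot_iff, hkf]
    exact hPF
  -- hence `x` centralizes `F(K / F(K))`
  have hΦC : Φ ≤ Subgroup.centralizer ((X.map f : Subgroup _) : Set (G ⧸ F)) := by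
    set W := Φ ⊓ Subgroup.centralizer ((X.map f : Subgroup _) : Set (G ⧸ F)) with hW
    suffices W = Φ by rw [← this]; exact inf_le_right
    refine Subgroup.eq_of_le_of_card_ge inf_le_left (Nat.le_of_eq ?_)
    have h1 : W.relIndex Φ = 1 := by
      by_contra h
      obtain ⟨q, hq, hqd⟩ := Nat.exists_prime_and_dvd h
      haveI := Fact.mk hq
      obtain ⟨Sq⟩ : Nonempty (Sylow q Φ) := inferInstance
      refine Sq.not_dvd_index (hqd.trans (Subgroup.index_dvd_of_le fun y hy => ?_))
      have hyq : IsPGroup q (Subgroup.zpowers (y : G ⧸ F)) := by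
        have := (Sq.2.to_le (Subgroup.zpowers_le.2 hy)).map Φ.subtype
        rwa [MonoidHom.map_zpowers] at this
      exact ⟨y.2, main q hq (mem_piCoreOf_of_pgroup hΦnil y.2 hyq)⟩
    rw [← card_mul_relIndex (inf_le_left : W ≤ Φ), h1, mul_one]
  -- and then all of `K / F(K)`
  set Kb := K.map f
  set Xb := X.map f
  have hXKb : Xb ≤ Subgroup.normalizer (Kb : Set (G ⧸ F)) := by rw [Subgroup.normalizer_eq_top]; exact le_top
  have h1 : ⁅⁅Xb, Φ⁆, Kb⁆ = ⊥ := by
    rw [Subgroup.commutator_eq_bot_iff_le_centralizer.2 (Subgroup.le_centralizer_iff.1 hΦC),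
      Subgroup.commutator_bot_left]
  have h2 : ⁅⁅Φ, Kb⁆, Xb⁆ = ⊥ := by
    rw [Subgroup.commutator_eq_bot_iff_le_centralizer]
    refine le_trans ?_ hΦC
    exact le_normalizer_iff_commutator_le_left.1 (by rw [Subgroup.normalizer_eq_top]; exact le_top)
  have h3 := Subgroup.commutator_commutator_eq_bot_of_rotate h1 h2
  rw [Subgroup.commutator_eq_bot_iff_le_centralizer] at h3
  have hle : ⁅Kb, Xb⁆ ≤ Kb := le_normalizer_iff_commutator_le_left.1 hXKb
  have hcen : ⁅Kb, Xb⁆ ≤ Φ := by
    intro y hy
    have hyC : (⟨y, hle hy⟩ : Kb) ∈ Subgroup.centralizer (Cfsg.fittingSubgroup Kb : Set Kb) := by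
      rw [Subgroup.mem_centralizer_iff]
      intro a ha
      exact Subtype.ext (Subgroup.mem_centralizer_iff.1 (h3 hy) (a : G ⧸ F) ⟨a, ha, rfl⟩)
    exact ⟨⟨y, hle hy⟩, CfsgLib.Solvable.centralizer_fittingSubgroup_le hyC, rfl⟩
  have hcop : (Nat.card Xb).Coprime (Nat.card Kb) :=
    (hcopXK.coprime_dvd_left (Subgroup.card_map_dvd _ f)).coprime_dvd_right (Subgroup.card_map_dvd _ f)
  have hfin := commutator_eq_bot_of_commutator_commutator hXKb hcop (Or.inr inferInstance)
    (Subgroup.commutator_eq_bot_iff_le_centralizer.2 (hcen.trans hΦC))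
  rwa [← Subgroup.map_commutator, Subgroup.map_eq_bot_iff, hkf] at hfin


/-- Let G be a solvable group of odd order, K a normal subgroup and R a subgroup with G = KR and the orders of K and R coprime. Suppose K ∩ C_G(x) = K ∩ C_G(R) for every non-identity x ∈ R, and F(K) ∩ C_G(R) = 1. Then [K, R] is contained in the Fitting subgroup of K. -/
theorem result {G : Type*} [Group G] [Finite G] [Group.IsSolvable G] (hodd : Odd (Nat.card G)) (K R : Subgroup G) [K.Normal] (hKR : K ⊔ R = ⊤) (hcop : (Nat.card K).Coprime (Nat.card R))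
    (hprime : ∀ x ∈ R, x ≠ 1 → K ⊓ Subgroup.centralizer ({x} : Set G) = (K ⊓ Subgroup.centralizer (R : Set G)))
    (hF : Cfsg.fittingOf K ⊓ Subgroup.centralizer (R : Set G) = ⊥) :
    ⁅K, R⁆ ≤ Cfsg.fittingOf K := by
  by_cases hR : R = ⊥
  · subst hR
    rw [Subgroup.commutator_bot_right]
    exact bot_le
  obtain ⟨r, hr, hrd⟩ := Nat.exists_prime_and_dvd (n := Nat.card R) fun h =>
    hR (Subgroup.eq_bot_of_card_eq R h)
  haveI := Fact.mk hr
  obtain ⟨y, hy⟩ := exists_prime_orderOf_dvd_card' r hrd
  rw [← Subgroup.orderOf_coe] at hy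
  set x : G := y.1 with hxdef
  have hx1 : x ≠ 1 := fun h => by rw [h, orderOf_one] at hy; exact hr.ne_one hy.symm
  set F := Cfsg.fittingOf K with hFdef
  have hCx : K ⊓ Subgroup.centralizer (Subgroup.zpowers x : Set G) = K ⊓ Subgroup.centralizer (R : Set G) := by
    rw [← hprime x y.2 hx1, Subgroup.zpowers_eq_closure, Subgroup.centralizer_closure]
  have hrK : ¬ r ∣ Nat.card K := fun h =>
    hr.ne_one (Nat.eq_one_of_dvd_coprimes hcop h hrd)
  have hfree : F ⊓ Subgroup.centralizer (Subgroup.zpowers x : Set G) = ⊥ := by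
    rw [eq_bot_iff, ← hF]
    intro z hz
    exact ⟨hz.1, (hCx.le ⟨CfsgLib.OddLocal.fittingOf_le K hz.1, hz.2⟩).2⟩
  have key := coprime_mod_fitting hodd K inferInstance hy hrK hfree
  haveI := fittingOf_normal (G := G) K
  have hXK : Subgroup.zpowers x ≤ Subgroup.normalizer (K : Set G) := by
    rw [Subgroup.normalizer_eq_top]; exact le_top
  have hcopX : (Nat.card (Subgroup.zpowers x)).Coprime (Nat.card K) := by
    rw [Nat.card_zpowers, hy]; exact hr.coprime_iff_not_dvd.2 hrK
  refine Subgroup.commutator_le.2 fun k hk a ha => ?_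
  obtain ⟨n, hn, hkn⟩ := CfsgLib.Coprime.exists_mem_centralizer_of_coset hXK
    (show Subgroup.zpowers x ≤ Subgroup.normalizer (F : Set G) by rw [Subgroup.normalizer_eq_top]; exact le_top)
    (CfsgLib.OddLocal.fittingOf_le K) hcopX
    (Or.inr (CfsgLib.Coprime.isSolvable_of_le inferInstance (CfsgLib.OddLocal.fittingOf_le K))) hk
    fun b hb => by
      have h := commutator_mem_commutator (K.inv_mem hk) hb
      rw [commutatorElement_def, inv_inv] at h
      exact key h
  have hknR : k * n ∈ Subgroup.centralizer (R : Set G) :=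
    (hCx.le ⟨K.mul_mem hk (CfsgLib.OddLocal.fittingOf_le K hn), hkn⟩).2
  have hc := Subgroup.mem_centralizer_iff.1 hknR a ha
  have h1 : ⁅k, a⁆ = (k * n) * (n⁻¹ * (a * n * a⁻¹)) * (k * n)⁻¹ :=
    calc ⁅k, a⁆ = (k * n) * (n⁻¹ * a * n) * ((k * n)⁻¹ * a⁻¹) := by rw [commutatorElement_def]; group
      _ = (k * n) * (n⁻¹ * a * n) * (a⁻¹ * (k * n)⁻¹) := by rw [← mul_inv_rev a, hc, mul_inv_rev]
      _ = _ := by group
  rw [h1]
  exact Subgroup.Normal.conj_mem inferInstance _
    (F.mul_mem (F.inv_mem hn) (Subgroup.Normal.conj_mem inferInstance n hn a)) _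

end Cfsg.Agent.S1445
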