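import Cfsg.Statements.S1446
import Cfsg.Agent.Lib.OddLocal.FrobeniusModule
import Cfsg.Agent.Lib.Complement.FpfNilpotent

set_option autoImplicit false
open Cfsg

namespace Cfsg.Agent.S1446

open CfsgLib.OddLocal CfsgLib.Coprime

universe u
variable {X : Type u} [Group X] [Finite X]

theorem nilpotent_kernel {K R : Subgroup X} (hRK : R ≤ Subgroup.normalizer (K : Set X))
    (hR : (Nat.card R).Prime)
    (hfrob : ∀ r ∈ R, r ≠ 1 → K ⊓ Subgroup.centralizer ({r} : Set X) = ⊥) : Group.IsNilpotent K := by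
  obtain ⟨x, hx, hx1⟩ := R.bot_or_exists_ne_one.resolve_left fun h => by
    rw [h, Subgroup.card_bot] at hR
    exact Nat.not_prime_one hR
  have hpow : x ^ Nat.card R = 1 := congrArg Subtype.val (pow_card_eq_one' (x := (⟨x, hx⟩ : R)))
  refine CfsgLib.Complement.isNilpotent_of_fpf K (K.normalizerMonoidHom ⟨x, hRK hx⟩) (Nat.card R) hR ?_ ?_
  · rw [← map_pow, show (⟨x, hRK hx⟩ : Subgroup.normalizer (K : Set X)) ^ Nat.card R = 1 from
      Subtype.ext hpow, map_one]
  · intro k hk
    have h : x * (k : X) * x⁻¹ = k := congrArg Subtype.val hk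
    have hmem : (k : X) ∈ K ⊓ Subgroup.centralizer ({x} : Set X) :=
      ⟨k.2, Subgroup.mem_centralizer_singleton_iff.2 (mul_inv_eq_iff_eq_mul.1 h).symm⟩
    rw [hfrob x hx hx1, Subgroup.mem_bot] at hmem
    exact Subtype.ext hmem


/-- Let X be a finite group with subgroups K, R, M such that: K and R are nontrivial, K ∩ R = 1, R normalizes K, no non-identity element of R centralizes a non-identity element of K, K ⊔ R is solvable of odd order; M is nilpotent and nontrivial, normalized by K and by R, with order coprime to that of K ⊔ R, M ∩ C(K) = 1, and M ∩ C(x) = M ∩ C(R) for all non-identity x ∈ R. Then R has prime order p, #M = #(M ∩ C(R)) ^ p, and if M ∩ C(R) is cyclic then [K, K] centralizes M. -/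
theorem result {X : Type*} [Group X] [Finite X] (K R M : Subgroup X) (hK1 : K ≠ ⊥) (hR1 : R ≠ ⊥) (hKR : K ⊓ R = ⊥)
    (hRK : R ≤ Subgroup.normalizer (K : Set X)) (hfrob : ∀ r ∈ R, r ≠ 1 → K ⊓ Subgroup.centralizer ({r} : Set X) = ⊥)
    (hsolv : Group.IsSolvable ↥(K ⊔ R)) (hodd : Odd (Nat.card ↥(K ⊔ R)))
    (hM1 : M ≠ ⊥) (hMn : Group.IsNilpotent M) (hKM : K ≤ Subgroup.normalizer (M : Set X)) (hRM : R ≤ Subgroup.normalizer (M : Set X))
    (hcop : (Nat.card ↥(K ⊔ R)).Coprime (Nat.card M)) (hCK : M ⊓ Subgroup.centralizer (K : Set X) = ⊥)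
    (hpr : ∀ x ∈ R, x ≠ 1 → M ⊓ Subgroup.centralizer ({x} : Set X) = M ⊓ Subgroup.centralizer (R : Set X)) :
    (Nat.card R).Prime ∧ Nat.card M = Nat.card ↥(M ⊓ Subgroup.centralizer (R : Set X)) ^ Nat.card R ∧
      (IsCyclic ↥(M ⊓ Subgroup.centralizer (R : Set X)) → ⁅K, K⁆ ≤ Subgroup.centralizer (M : Set X)) := by
  have hKn : Subgroup.normalizer (M : Set X) ≥ K ⊔ R := sup_le hKM hRM
  have hMs : Group.IsSolvable M := inferInstance
  have hform : ∀ E : Subgroup X, E ≤ R → E ≠ ⊥ →
      Nat.card M = Nat.card ↥(M ⊓ Subgroup.centralizer (E : Set X)) ^ Nat.card E := by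
    intro E hER hE
    refine CfsgLib.OddLocal.formula hK1 hE ?_ (hER.trans hRK) (fun e he he1 => hfrob e (hER he) he1)
      ((sup_le_sup_left hER K).trans hKn) hMs
      (hcop.coprime_dvd_left (Subgroup.card_dvd_of_le (sup_le_sup_left hER K))) hCK
    rw [eq_bot_iff, ← hKR]
    exact inf_le_inf_left K hER
  have hMR := hform R le_rfl hR1
  set c := Nat.card ↥(M ⊓ Subgroup.centralizer (R : Set X)) with hc
  have hc2 : 2 ≤ c := by
    by_contra hlt
    have hc1 : c = 1 := by have : 0 < c := Nat.card_pos; omega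
    rw [hc1, one_pow] at hMR
    exact hM1 (Subgroup.eq_bot_of_card_eq M hMR)
  have hgen : ∀ x ∈ R, x ≠ 1 → orderOf x = Nat.card R := by
    intro x hx hx1
    have h := hform (Subgroup.zpowers x) (Subgroup.zpowers_le.2 hx) (by
      simpa [Subgroup.zpowers_eq_bot] using hx1)
    have e : M ⊓ Subgroup.centralizer (Subgroup.zpowers x : Set X) =
        M ⊓ Subgroup.centralizer (R : Set X) := by
      rw [← hpr x hx hx1, Subgroup.zpowers_eq_closure, Subgroup.centralizer_closure]
    rw [e, Nat.card_zpowers, hMR] at h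
    exact Nat.pow_right_injective hc2 h.symm
  have hR : (Nat.card R).Prime := by
    obtain ⟨p, hp, hpd⟩ := Nat.exists_prime_and_dvd (n := Nat.card R) fun h =>
      hR1 (Subgroup.eq_bot_of_card_eq R h)
    haveI := Fact.mk hp
    obtain ⟨x, hx⟩ := exists_prime_orderOf_dvd_card' p hpd
    have := hgen (x : X) x.2 fun h => by
      rw [← Subgroup.orderOf_coe, h, orderOf_one] at hx
      exact hp.ne_one hx.symm
    rw [← this, Subgroup.orderOf_coe, hx]
    exact hp
  refine ⟨hR, hMR, fun hcyc => ?_⟩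
  exact CfsgLib.OddLocal.commutator_le_centralizer_of_cyclic_fixed K R hR
    (nilpotent_kernel hRK hR hfrob) hRK hfrob M hMn hKn hcop hCK hcyc

end Cfsg.Agent.S1446
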