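import Cfsg.Statements.S1456
import Cfsg.Agent.Lib.OddLocal.NarrowAction
import Cfsg.Agent.Lib.OddLocal.NilpotentDerived
import Cfsg.Agent.Lib.OddLocal.FittingParts
import Cfsg.Agent.Lib.OddLocal.UniqueTools

set_option autoImplicit false
open Cfsg

namespace Cfsg.Agent.S1456

/-- Let G be a solvable group of odd order, p a prime, and E an elementary abelian p-subgroup of the Fitting subgroup F(G) such that F(G) ∩ C_G(E) has no elementary abelian subgroup of order q ^ 3 for any prime q. Then the derived subgroup of G is contained in F(G). -/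
theorem result {G : Type*} [Group G] [Finite G] [Group.IsSolvable G] (hodd : Odd (Nat.card G)) (p : ℕ) [Fact p.Prime] (E : Subgroup G) (hE : E ≤ Cfsg.fittingSubgroup G) (hEe : Cfsg.IsElementaryAbelian p E)
    (hr : Cfsg.RankLE 2 ↥(Cfsg.fittingSubgroup G ⊓ Subgroup.centralizer (E : Set G))) :
    commutator G ≤ Cfsg.fittingSubgroup G := by
  have hpr := (Fact.out : p.Prime)
  have hFnil : Group.IsNilpotent (Cfsg.fittingSubgroup G) := CfsgLib.Solvable.fittingSubgroup_isNilpotent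
  haveI := CfsgLib.Solvable.fittingSubgroup_normal (G := G)
  have hEp : IsPGroup p E := CfsgLib.Comp.isPGroup_of_elemAb hEe
  have hET : E ≤ Cfsg.pCore p G := fun e he =>
    CfsgLib.OddLocal.mem_pCore_of_mem_nilpotent hFnil (hE he) (hEp.to_le (Subgroup.zpowers_le.2 he))
  refine CfsgLib.OddLocal.commutator_le_fitting fun r hr' y hy hyr => ?_
  haveI := Fact.mk hr'
  by_cases hrank : Cfsg.PRankLE r 2 ↥(Cfsg.pCore r G)
  · exact CfsgLib.OddLocal.centralizes_pCore_of_rank_two hodd hr' hrank hy hyr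
  have hTF := CfsgLib.OddLocal.pCore_le_fittingSubgroup r G
  -- `r = p`
  have hsub : ∀ B : Subgroup G, B ≤ Cfsg.fittingSubgroup G ⊓ Subgroup.centralizer (E : Set G) →
      Cfsg.IsElementaryAbelian r B → ¬ r ^ 3 ≤ Nat.card B := fun B hB hBe hB3 =>
    CfsgLib.OddLocal.not_pRankLE_of_le_elemAb (k := 2) hBe hB hB3 (hr r hr')
  obtain ⟨B₀, hB₀T, hB₀e, hB₀3⟩ := CfsgLib.OddLocal.exists_elemAb_of_not_pRankLE hrank
  have hrp : r = p := by
    by_contra hne
    refine hsub B₀ (le_inf (hB₀T.trans hTF) ?_) hB₀e hB₀3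
    exact hB₀T.trans (CfsgLib.OddLocal.le_centralizer_of_coprime_of_le_nilpotent hFnil hTF hE
      (CfsgLib.OddLocal.coprime_of_pGroups (CfsgLib.Solvable.pCore_isPGroup r) hEp hne))
  subst hrp
  set T := Cfsg.pCore r G with hTdef
  have hTp : IsPGroup r T := CfsgLib.Solvable.pCore_isPGroup r
  -- a maximal elementary abelian subgroup of `T` of order `r²`
  obtain ⟨E₁, hEE₁, hE₁⟩ := Finite.exists_le_maximal
    (p := fun B : Subgroup G => B ≤ T ∧ Cfsg.IsElementaryAbelian r B) (a := E) ⟨hET, hEe⟩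
  obtain ⟨hE₁T, hE₁e⟩ := hE₁.prop
  have hE₁C : E₁ ≤ Subgroup.centralizer (E : Set G) :=
    (CfsgLib.OddLocal.le_centralizer_self hE₁e.1).trans (Subgroup.centralizer_le hEE₁)
  have hE₁3 := hsub E₁ (le_inf (hE₁T.trans hTF) hE₁C) hE₁e
  set E₂ := E₁.subgroupOf T with hE₂def
  have hE₂e : Cfsg.IsElementaryAbelian r E₂ := ⟨haveI := hE₁e.1; inferInstance,
    fun a ha => Subtype.ext (by simpa using hE₁e.2 _ (Subgroup.mem_subgroupOf.1 ha))⟩
  have hE₂max : ∀ B : Subgroup T, Cfsg.IsElementaryAbelian r B → E₂ ≤ B → B = E₂ := by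
    intro B hB hle
    have h := hE₁.le_of_ge (y := B.map T.subtype) ⟨Subgroup.map_subtype_le _,
      ⟨haveI := hB.1; inferInstance, by rintro _ ⟨b, hb, rfl⟩; rw [← map_pow, hB.2 b hb, map_one]⟩⟩
      (fun e he => ⟨⟨e, hE₁T he⟩, hle (Subgroup.mem_subgroupOf.2 he), rfl⟩)
    exact le_antisymm (fun b hb => Subgroup.mem_subgroupOf.2 (h ⟨b, hb, rfl⟩)) hle
  obtain ⟨k, hk⟩ := IsPGroup.iff_card.1 (hTp.to_subgroup E₂)
  have hk2 : k = 2 := by
    have hk3 : k < 3 := by
      by_contra h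
      refine hE₁3 ?_
      rw [← CfsgLib.Coprime.card_subgroupOf hE₁T, ← hE₂def, hk]
      exact Nat.pow_le_pow_right hpr.pos (by omega)
    rcases Nat.lt_or_ge k 2 with hlt | hge
    swap
    · omega
    exfalso
    -- the centre forces `E₁` to be central
    have hne : (⊥ : Subgroup T) ≠ ⊤ := by
      intro h
      refine hrank fun C _ _ => (Subgroup.card_le_of_le (le_top : C ≤ ⊤)).trans ?_
      rw [← h, Subgroup.card_bot]
      exact Nat.one_le_pow _ _ hpr.pos
    haveI : Nontrivial T := (Subgroup.nontrivial_iff).1 ⟨⟨⊥, ⊤, hne⟩⟩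
    obtain ⟨z, hz, hzo⟩ : ∃ z ∈ Subgroup.center T, orderOf z = r := by
      obtain ⟨j, hj⟩ := IsPGroup.iff_card.1 (hTp.to_subgroup (Subgroup.center T))
      have hj0 : j ≠ 0 := by
        rintro rfl
        haveI := hTp.center_nontrivial
        exact (Finite.one_lt_card (α := Subgroup.center T)).ne' (by rw [hj, pow_zero])
      obtain ⟨z, hz⟩ := exists_prime_orderOf_dvd_card' (G := Subgroup.center T) r (hj ▸ dvd_pow_self r hj0)
      exact ⟨z, z.2, by rwa [Subgroup.orderOf_coe]⟩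
    have hze : Cfsg.IsElementaryAbelian r (Subgroup.zpowers z) := ⟨inferInstance, by
      rintro _ ⟨i, rfl⟩
      rw [← zpow_natCast, ← zpow_mul, mul_comm, zpow_mul, zpow_natCast, ← hzo, pow_orderOf_eq_one, one_zpow]⟩
    have hzE : Subgroup.zpowers z ≤ E₂ := by
      have h := hE₂max _ (CfsgLib.PLocal.elemAb_sup hE₂e hze fun e _ => Subgroup.mem_centralizer_iff.2 fun y hy => by
        obtain ⟨i, rfl⟩ := hy
        exact (Subgroup.mem_center_iff.1 (zpow_mem hz i) e).symm) le_sup_left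
      exact le_sup_right.trans h.le
    have hcen : E₂ ≤ Subgroup.center T := by
      have h : Subgroup.zpowers z = E₂ := Subgroup.eq_of_le_of_card_ge hzE (by
        rw [hk, Nat.card_zpowers, hzo]
        calc r ^ k ≤ r ^ 1 := Nat.pow_le_pow_right hpr.pos (by omega)
          _ = r := pow_one r)
      rw [← h, Subgroup.zpowers_le]; exact hz
    refine hsub B₀ (le_inf (hB₀T.trans hTF) fun b hb => Subgroup.mem_centralizer_iff.2 fun e he => ?_) hB₀e hB₀3
    exact congrArg Subtype.val (Subgroup.mem_center_iff.1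
      (hcen (Subgroup.mem_subgroupOf.2 (hEE₁ he) : (⟨e, hET he⟩ : T) ∈ E₂)) ⟨b, hB₀T hb⟩).symm
  have hp2 : r ≠ 2 := by
    rintro rfl
    subst hk2
    exact (Nat.not_even_iff_odd.2 hodd) (even_iff_two_dvd.2 ((hk ▸ dvd_pow_self 2 (two_ne_zero)).trans
      ((Subgroup.card_subgroup_dvd_card E₂).trans (Subgroup.card_subgroup_dvd_card T))))
  obtain ⟨D, x, hDch, hDi, hxD, hsmall⟩ :=
    CfsgLib.OddLocal.exists_data_of_maximal_elementary hp2 hTp hrank hE₂e (by rw [hk, hk2]) hE₂max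
  haveI := CfsgLib.Solvable.pCore_normal r G
  have hTN : (⊤ : Subgroup G) ≤ Subgroup.normalizer (T : Set G) := by rw [Subgroup.normalizer_eq_top]
  set φ : G →* MulAut T := (CfsgLib.Coprime.conjHom (A := (⊤ : Subgroup G)) hTN).comp
    Subgroup.topEquiv.symm.toMonoidHom with hφ
  obtain ⟨hcomm, -, hone, hmul, hinv⟩ := CfsgLib.OddLocal.trivOnSmall_facts (p := r) hTp
  let Γ : Subgroup (MulAut T) :=
    { carrier := {a | CfsgLib.OddLocal.trivOnSmall r T a}
      mul_mem' := fun {a b} ha hb => hmul a b ha hb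
      one_mem' := hone
      inv_mem' := fun {a} ha => hinv a ha }
  have hmem : _root_.commutator G ≤ Γ.comap φ := by
    rw [_root_.commutator_def, Subgroup.commutator_le]
    intro u _ v _
    rw [Subgroup.mem_comap, map_commutatorElement]
    exact hcomm _ _
  have h1 : φ y = 1 := CfsgLib.OddLocal.eq_one_of_trivOnSmall_of_data hp2 hTp hDch hDi hxD hsmall _
    (hyr.coprime_dvd_left (orderOf_map_dvd φ y)) (hmem hy)
  rw [Subgroup.mem_centralizer_iff]
  intro w hw
  have h2 : y * w * y⁻¹ = w := congrArg (fun f : MulAut T => ((f ⟨w, hw⟩ : T) : G)) h1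
  exact (mul_inv_eq_iff_eq_mul.1 h2).symm

end Cfsg.Agent.S1456
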