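import Cfsg.Statements.S1457
import Cfsg.Agent.Lib.OddLocal.PStable

set_option autoImplicit false
open Cfsg

namespace Cfsg.Agent.S1457

/-- Let G be a solvable group of odd order, p a prime, S a Sylow p-subgroup of G and A an abelian subgroup of S normal in S. Then A ≤ O_{p',p}(G). -/
theorem result {G : Type*} [Group G] [Finite G] [Group.IsSolvable G] (hodd : Odd (Nat.card G)) (p : ℕ) [Fact p.Prime] (S : Sylow p G) (A : Subgroup G) (hA : A ≤ (S : Subgroup G)) (hAc : IsMulCommutative A)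
    (hAn : (S : Subgroup G) ≤ Subgroup.normalizer (A : Set G)) :
    A ≤ Cfsg.pPrimePCore p G := by
  set O := Cfsg.pPrimeCore p G
  have := CfsgLib.Solvable.pPrimeCore_normal p G
  intro a ha
  show QuotientGroup.mk' O a ∈ Cfsg.pCore p (G ⧸ O)
  have hO : Cfsg.pPrimeCore p (G ⧸ O) = ⊥ := CfsgLib.Solvable.pPrimeCore_quotient_eq_bot p
  have := CfsgLib.Solvable.pCore_normal p (G ⧸ O)
  set f := QuotientGroup.mk' O
  set T := Cfsg.pCore p (G ⧸ O)
  have hT := CfsgLib.Solvable.pCore_isPGroup (G := G ⧸ O) p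
  have hAf : IsMulCommutative (A.map f) := by
    refine ⟨⟨?_⟩⟩
    rintro ⟨_, u, hu, rfl⟩ ⟨_, v, hv, rfl⟩
    refine Subtype.ext ?_
    show f u * f v = f v * f u
    rw [← map_mul, ← map_mul]
    exact congrArg f (congrArg Subtype.val (hAc.is_comm.comm (⟨u, hu⟩ : A) ⟨v, hv⟩))
  have hTS : T ≤ (S : Subgroup G).map f :=
    CfsgLib.Solvable.pCore_le_sylow (S.mapSurjective (QuotientGroup.mk'_surjective O))
  have hodd' : Odd (Nat.card (G ⧸ O)) := hodd.of_dvd_nat (Subgroup.card_quotient_dvd_card O)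
  have hC : IsPGroup p (Subgroup.centralizer (T : Set (G ⧸ O))) :=
    hT.to_le (CfsgLib.Solvable.centralizer_pCore_le p hO)
  exact CfsgLib.OddLocal.comap_pCore_le _ hC (CfsgLib.OddLocal.quadratic_mem_pCore hodd' T hT _ le_rfl
    fun x hx => CfsgLib.OddLocal.quad_of_normalizes hAf ⟨a, ha, rfl⟩
      (((Subgroup.map_mono hAn).trans (Subgroup.le_normalizer_map f)) (hTS hx)))

end Cfsg.Agent.S1457
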