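import Cfsg.Statements.S1462
import Cfsg.Agent.Lib.OddLocal.PLength
import Cfsg.Agent.Lib.Solvable.HallHigman
import Cfsg.Agent.Lib.PLocal.Basic
import Cfsg.Agent.S1443

set_option autoImplicit false
open Cfsg

namespace Cfsg.Agent.S1462

/-- Let G be a finite solvable group, p an odd prime with G = O_{p',p,p'}(G), E an elementary abelian p-subgroup contained in no larger elementary abelian p-subgroup of G, and L a subgroup of order coprime to p normalized by E. Then L ≤ O_{p'}(G). -/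
theorem result {G : Type*} [Group G] [Finite G] [Group.IsSolvable G] (p : ℕ) [Fact p.Prime] (hp : p ≠ 2) (hpl : Cfsg.PLengthLE p 1 G) (E L : Subgroup G) (hE : Cfsg.IsElementaryAbelian p E)
    (hEmax : ∀ B : Subgroup G, Cfsg.IsElementaryAbelian p B → E ≤ B → B = E) (hL : (Nat.card L).Coprime p) (hEL : E ≤ Subgroup.normalizer (L : Set G)) :
    L ≤ Cfsg.pPrimeCore p G := by
  have hEp : IsPGroup p E := CfsgLib.PLocal.elemAb_isPGroup hE
  obtain ⟨S, hES⟩ := hEp.exists_le_sylow
  have := CfsgLib.Solvable.pPrimeCore_normal p G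
  set f := QuotientGroup.mk' (Cfsg.pPrimeCore p G) with hf
  have hinj : ∀ x ∈ (S : Subgroup G), f x = 1 → x = 1 := fun x hx h =>
    CfsgLib.OddLocal.eq_one_of_mem_pPrimeCore_of_mem_pgroup S.2 ((QuotientGroup.eq_one_iff x).mp h) hx
  set P := (S : Subgroup G).map f with hP
  have hPn : P.Normal := by
    have h := (CfsgLib.OddLocal.pLengthLE_one_sup_sylow hpl S).map f (QuotientGroup.mk'_surjective _)
    rwa [Subgroup.map_sup, QuotientGroup.map_mk'_self, bot_sup_eq] at h
  have hPp : IsPGroup p P := S.2.map f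
  have hLcop : (Nat.card (L.map f)).Coprime p :=
    hL.coprime_dvd_left (CfsgLib.Solvable.card_map_mk'_dvd _ L)
  have hEL' : E.map f ≤ Subgroup.normalizer (L.map f : Set (G ⧸ Cfsg.pPrimeCore p G)) :=
    (Subgroup.map_mono hEL).trans (Subgroup.le_normalizer_map f)
  have hLP : L.map f ≤ Subgroup.normalizer (P : Set (G ⧸ Cfsg.pPrimeCore p G)) :=
    le_top.trans (Subgroup.normalizer_eq_top P).ge
  -- `L` centralizes the image of `E`
  have hLE : L.map f ≤ Subgroup.centralizer (E.map f : Set (G ⧸ Cfsg.pPrimeCore p G)) := by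
    intro l hl
    rw [Subgroup.mem_centralizer_iff]
    intro e he
    have he' : e ∈ P := Subgroup.map_mono hES he
    have h1 : e * l * e⁻¹ * l⁻¹ ∈ L.map f :=
      mul_mem ((Subgroup.mem_normalizer_iff.mp (hEL' he) l).mp hl) (inv_mem hl)
    have h2 : e * l * e⁻¹ * l⁻¹ ∈ P := by
      have e1 : e * l * e⁻¹ * l⁻¹ = e * (l * e⁻¹ * l⁻¹) := by group
      rw [e1]
      exact mul_mem he' (hPn.conj_mem _ (inv_mem he') l)
    have h3 : e * l * e⁻¹ * l⁻¹ = 1 := by
      obtain ⟨n, hn⟩ := IsPGroup.iff_card.mp hPp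
      rw [← orderOf_eq_one_iff]
      exact Nat.eq_one_of_dvd_coprimes (Nat.Coprime.pow_right n hLcop)
        (Subgroup.orderOf_dvd_natCard _ h1) (hn ▸ Subgroup.orderOf_dvd_natCard _ h2)
    rwa [mul_inv_eq_one, mul_inv_eq_iff_eq_mul] at h3
  have hLC : L.map f ≤ Subgroup.centralizer (P : Set (G ⧸ Cfsg.pPrimeCore p G)) := by
    refine Cfsg.Agent.S1443.result p hp P (E.map f) (L.map f) hPp (Subgroup.map_mono hES)
      (CfsgLib.PLocal.elemAb_map f hE) hLP hLcop ?_
    rintro x ⟨⟨s, hs, rfl⟩, hxc⟩ hord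
    have hsp : s ^ p = 1 := hinj _ (pow_mem hs p) (by rw [map_pow]; exact orderOf_dvd_iff_pow_eq_one.mp (dvd_of_eq hord))
    have hsc : ∀ e ∈ E, e * s = s * e := by
      intro e he
      have := Subgroup.mem_centralizer_iff.mp hxc (f e) ⟨e, he, rfl⟩
      have h1 : e * s * e⁻¹ * s⁻¹ = 1 := hinj _
        (mul_mem (mul_mem (mul_mem (hES he) hs) (inv_mem (hES he))) (inv_mem hs)) (by
          rw [map_mul, map_mul, map_mul, map_inv, map_inv, this]; group)
      rwa [mul_inv_eq_one, mul_inv_eq_iff_eq_mul] at h1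
    have hsE : s ∈ E := by
      have h := hEmax (E ⊔ Subgroup.zpowers s) ?_ le_sup_left
      · exact h ▸ Subgroup.mem_sup_right (Subgroup.mem_zpowers s)
      · refine CfsgLib.PLocal.elemAb_sup hE (CfsgLib.PLocal.elemAb_zpowers hsp) ?_
        rw [Subgroup.le_centralizer_iff, Subgroup.zpowers_le]
        exact Subgroup.mem_centralizer_iff.mpr hsc
    intro l hl
    rw [Subgroup.mem_centralizer_iff]
    rintro y rfl
    exact Subgroup.mem_centralizer_iff.mp (hLE hl) _ ⟨s, hsE, rfl⟩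
  have h0 : Cfsg.pPrimeCore p (G ⧸ Cfsg.pPrimeCore p G) = ⊥ := CfsgLib.Solvable.pPrimeCore_quotient_eq_bot p
  have hC := CfsgLib.Solvable.centralizer_pCore_le p h0
  have hPO : P = Cfsg.pCore p (G ⧸ Cfsg.pPrimeCore p G) := by
    refine le_antisymm (CfsgLib.Solvable.le_pCore hPn hPp) ?_
    exact CfsgLib.Solvable.pCore_le_sylow (Sylow.mapSurjective (QuotientGroup.mk'_surjective (Cfsg.pPrimeCore p G)) S)
  intro l hl
  have h1 : f l ∈ L.map f := ⟨l, hl, rfl⟩
  have h2 : f l ∈ P := hPO ▸ hC (hPO ▸ hLC h1)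
  have h3 : f l = 1 := by
    obtain ⟨n, hn⟩ := IsPGroup.iff_card.mp hPp
    rw [← orderOf_eq_one_iff]
    exact Nat.eq_one_of_dvd_coprimes (Nat.Coprime.pow_right n hLcop)
      (Subgroup.orderOf_dvd_natCard _ h1) (hn ▸ Subgroup.orderOf_dvd_natCard _ h2)
  exact (QuotientGroup.eq_one_iff l).mp h3

end Cfsg.Agent.S1462
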