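import Cfsg.Statements.S1463
import Cfsg.Agent.Lib.OddLocal.SLTwoOdd
import Mathlib.LinearAlgebra.Span.Basic
import Mathlib.LinearAlgebra.Matrix.ToLin

set_option autoImplicit false
open scoped MatrixGroups
open Cfsg

namespace Cfsg.Agent.S1463

/-- Let F be a field of odd characteristic p and H a finite subgroup of odd order of GL(2, F) that leaves no 1-dimensional subspace of F² invariant. Then p does not divide the order of H. -/
theorem result {F : Type*} [Field F] (p : ℕ) [Fact p.Prime] [CharP F p] (hp : p ≠ 2)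
    (H : Subgroup (GL (Fin 2) F)) [Finite H] (hodd : Odd (Nat.card H))
    (hirr : ∀ v : Fin 2 → F, v ≠ 0 → ∃ g ∈ H, (g : Matrix (Fin 2) (Fin 2) F).mulVec v ∉ Submodule.span F {v}) :
    ¬ p ∣ Nat.card H := by
  intro hdvd
  let δ : H →* Fˣ := Matrix.GeneralLinearGroup.det.comp H.subtype
  let K : Subgroup H := δ.ker
  let ρ : K →* Matrix (Fin 2) (Fin 2) F := (Units.coeHom (Matrix (Fin 2) (Fin 2) F)).comp (H.subtype.comp K.subtype)
  have hinj : Function.Injective ρ := fun x y h =>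
    Subtype.ext (Subtype.ext (Units.ext h))
  have hdet : ∀ x, (ρ x).det = 1 := fun x => congrArg Units.val (MonoidHom.mem_ker.mp x.2)
  have hoddK : Odd (Nat.card K) := hodd.of_dvd_nat (Subgroup.card_subgroup_dvd_card K)
  obtain ⟨g, hg⟩ := exists_prime_orderOf_dvd_card' p hdvd
  have hgK : g ∈ K := by
    refine MonoidHom.mem_ker.mpr (Units.ext ?_)
    have h1 : ((δ g : Fˣ) : F) ^ p = 1 := by
      rw [← Units.val_pow_eq_pow_val, ← map_pow, ← hg, pow_orderOf_eq_one, map_one, Units.val_one]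
    have h2 : (((δ g : Fˣ) : F) - 1) ^ p = 0 := by rw [sub_pow_char, h1, one_pow, sub_self]
    simpa using sub_eq_zero.mp (eq_zero_of_pow_eq_zero h2)
  obtain ⟨P⟩ := (inferInstance : Nonempty (Sylow p K))
  have hPn := CfsgLib.OddLocal.sylow_normal_of_det_one hoddK ρ hinj hdet hp P
  have := Sylow.unique_of_normal P hPn
  have hmem : ∀ x : K, x ^ p = 1 → x ∈ (P : Subgroup K) := by
    intro x hx
    have hz : IsPGroup p (Subgroup.zpowers x) := by
      rintro ⟨y, hy⟩
      obtain ⟨i, rfl⟩ := Subgroup.mem_zpowers_iff.mp hy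
      exact ⟨1, Subtype.ext (show (x ^ i) ^ p ^ 1 = 1 by
        rw [pow_one, ← zpow_natCast, ← zpow_mul, mul_comm, zpow_mul, zpow_natCast, hx, one_zpow])⟩
    obtain ⟨T, hT⟩ := hz.exists_le_sylow
    rw [Subsingleton.elim T P] at hT
    exact hT (Subgroup.mem_zpowers x)
  have hgP : (⟨g, hgK⟩ : K) ∈ (P : Subgroup K) :=
    hmem _ (Subtype.ext (show g ^ p = 1 from hg ▸ pow_orderOf_eq_one g))
  have hne : (⟨g, hgK⟩ : K) ≠ 1 := fun h => by
    have : g = 1 := congrArg Subtype.val h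
    rw [this, orderOf_one] at hg
    exact (Fact.out : p.Prime).one_lt.ne hg
  have : Nontrivial (P : Subgroup K) := ⟨⟨⟨_, hgP⟩, 1, fun h => hne (congrArg Subtype.val h)⟩⟩
  have := P.2.center_nontrivial
  obtain ⟨⟨⟨u, huP⟩, huc⟩, hu1⟩ := exists_ne (1 : Subgroup.center (P : Subgroup K))
  have hu : u ≠ 1 := fun h => hu1 (Subtype.ext (Subtype.ext h))
  set N := ρ u - 1 with hN
  have hN0 : N ≠ 0 := fun h => hu (hinj ((sub_eq_zero.mp h).trans ρ.map_one.symm))
  obtain ⟨m, hm⟩ := P.2 ⟨u, huP⟩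
  have hm' : u ^ p ^ m = 1 := congrArg Subtype.val hm
  have hN2 : N * N = 0 :=
    CfsgLib.OddLocal.sub_one_sq_of_trace ρ hdet (CfsgLib.OddLocal.trace_of_pow_p ρ hdet hm')
  obtain ⟨i, j, hij⟩ : ∃ i j, N i j ≠ 0 := by
    by_contra h
    simp only [not_exists, not_not] at h
    exact hN0 (Matrix.ext h)
  set v : Fin 2 → F := fun i => N i j
  have hNv : N.mulVec v = 0 := funext fun i => congrFun (congrFun hN2 i) j
  have hv0 : v ≠ 0 := fun h => hij (congrFun h i)
  obtain ⟨h, hhH, hhv⟩ := hirr v hv0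
  apply hhv
  set w := (h : Matrix (Fin 2) (Fin 2) F).mulVec v
  let hH : H := ⟨h, hhH⟩
  have hKn : K.Normal := MonoidHom.normal_ker δ
  let u' : K := ⟨hH * (u : H) * hH⁻¹, hKn.conj_mem _ u.2 hH⟩
  have hup : u ^ p = 1 := CfsgLib.OddLocal.pow_p_of_trace ρ hinj hdet hp (CfsgLib.OddLocal.trace_of_pow_p ρ hdet hm')
  have hu'P : u' ∈ (P : Subgroup K) := hmem _ (Subtype.ext (by
    show (hH * (u : H) * hH⁻¹) ^ p = 1
    rw [conj_pow, show (u : H) ^ p = 1 from congrArg Subtype.val hup]; group))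
  have hcomm : u' * u = u * u' := congrArg Subtype.val (Subgroup.mem_center_iff.mp huc ⟨u', hu'P⟩)
  obtain ⟨a, b, hab⟩ := CfsgLib.OddLocal.exists_of_commute
    (CfsgLib.OddLocal.ne_smul_one hoddK ρ hinj hdet hu)
    (show ρ u' * ρ u = ρ u * ρ u' by rw [← map_mul, ← map_mul, hcomm])
  have hu'e : ρ u' = (h : Matrix (Fin 2) (Fin 2) F) * ρ u * ((h⁻¹ : GL (Fin 2) F) : Matrix (Fin 2) (Fin 2) F) := rfl
  have hc : a + b - 1 = 0 := by
    have h1 : (ρ u' - 1) = (a + b - 1) • (1 : Matrix (Fin 2) (Fin 2) F) + b • N := by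
      rw [hab, hN, smul_sub, sub_smul, add_smul, one_smul]; abel
    have h2 : (ρ u' - 1) * (ρ u' - 1) = 0 := CfsgLib.OddLocal.sub_one_sq_of_trace ρ hdet
      (CfsgLib.OddLocal.trace_of_pow_p ρ hdet (n := 1) (by
        rw [pow_one]
        exact Subtype.ext (show (hH * (u : H) * hH⁻¹) ^ p = 1 by
          rw [conj_pow, show (u : H) ^ p = 1 from congrArg Subtype.val hup]; group)))
    rw [h1] at h2
    have h4 := congrArg (fun M => M * N) h2
    simp only [add_mul, mul_add, smul_mul_assoc, mul_smul_comm, one_mul, mul_one, hN2,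
      smul_zero, add_zero, zero_mul, smul_smul] at h4
    exact mul_self_eq_zero.mp ((smul_eq_zero.mp h4).resolve_right hN0)
  have hhN : (h : Matrix (Fin 2) (Fin 2) F) * N = b • (N * (h : Matrix (Fin 2) (Fin 2) F)) := by
    have h5 : b • N = ρ u' - 1 := by
      rw [hab, hN, smul_sub, eq_sub_iff_add_eq.mpr (show a + b = 1 from sub_eq_zero.mp hc), sub_smul, one_smul]
      abel
    have h6 : ((h⁻¹ : GL (Fin 2) F) : Matrix (Fin 2) (Fin 2) F) * (h : Matrix (Fin 2) (Fin 2) F) = 1 := by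
      rw [← Units.val_mul, inv_mul_cancel, Units.val_one]
    rw [← smul_mul_assoc, h5, hu'e, sub_mul, mul_assoc, h6, mul_one, one_mul, hN, mul_sub, mul_one]
  have hb : b ≠ 0 := by
    intro hb
    rw [hb, zero_smul] at hhN
    have h6 : ((h⁻¹ : GL (Fin 2) F) : Matrix (Fin 2) (Fin 2) F) * (h : Matrix (Fin 2) (Fin 2) F) = 1 := by
      rw [← Units.val_mul, inv_mul_cancel, Units.val_one]
    exact hN0 (by rw [← one_mul N, ← h6, mul_assoc, hhN, mul_zero])
  have hNw : N.mulVec w = 0 := by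
    have := congrArg (fun M => M.mulVec v) hhN
    rw [Matrix.smul_mulVec, ← Matrix.mulVec_mulVec, ← Matrix.mulVec_mulVec, hNv, Matrix.mulVec_zero] at this
    exact (smul_eq_zero.mp this.symm).resolve_left hb
  have hD : v 0 * w 1 - v 1 * w 0 = 0 := by
    by_contra hD
    apply hN0
    ext r c
    have e1 := congrFun hNv r
    have e2 := congrFun hNw r
    simp only [Matrix.mulVec, dotProduct, Fin.sum_univ_two, Pi.zero_apply] at e1 e2
    refine (mul_eq_zero.mp ?_).resolve_right hD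
    fin_cases c
    · show N r 0 * (v 0 * w 1 - v 1 * w 0) = 0
      linear_combination (w 1) * e1 - (v 1) * e2
    · show N r 1 * (v 0 * w 1 - v 1 * w 0) = 0
      linear_combination (v 0) * e2 - (w 0) * e1
  rw [Submodule.mem_span_singleton]
  by_cases h0 : v 0 = 0
  · have h1 : v 1 ≠ 0 := fun h1 => hv0 (funext fun k => by fin_cases k <;> simp [h0, h1])
    refine ⟨w 1 / v 1, funext fun k => ?_⟩
    fin_cases k
    · rw [h0, zero_mul, zero_sub, neg_eq_zero] at hD
      simp [h0, (mul_eq_zero.mp hD).resolve_left h1]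
    · simp [div_mul_cancel₀ _ h1]
  · refine ⟨w 0 / v 0, funext fun k => ?_⟩
    fin_cases k
    · simp [div_mul_cancel₀ _ h0]
    · simp
      field_simp
      linear_combination -hD

end Cfsg.Agent.S1463
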