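import Cfsg.Statements.S1464
import Cfsg.Agent.Lib.OddLocal.PStable

set_option autoImplicit false
open Cfsg

namespace Cfsg.Agent.S1464

/-- Let p be an odd prime and G a solvable group of odd order, P a p-subgroup with O_{p'}(G)P normal in G, and A a p-subgroup of N_G(P) with [[P, A], A] = 1. Then the image of A in the quotient N_G(P)/C_G(P) is contained in the p-core of that quotient. -/
theorem result {G : Type*} [Group G] [Finite G] [Group.IsSolvable G] (hodd : Odd (Nat.card G)) (p : ℕ) [Fact p.Prime] (hp : p ≠ 2) (P A : Subgroup G) (hP : IsPGroup p P) (hPn : (Cfsg.pPrimeCore p G ⊔ P).Normal)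
    (hA : IsPGroup p A) (hAN : A ≤ Subgroup.normalizer (P : Set G)) (hquad : ⁅⁅P, A⁆, A⁆ = ⊥) :
    (A.subgroupOf (Subgroup.normalizer (P : Set G))).map
        (QuotientGroup.mk' ((Subgroup.centralizer (P : Set G)).subgroupOf (Subgroup.normalizer (P : Set G))))
      ≤ Cfsg.pCore p _ := by
  set N := Subgroup.normalizer (P : Set G)
  have : (P.subgroupOf N).Normal := (Subgroup.normal_subgroupOf_iff_le_normalizer Subgroup.le_normalizer).mpr le_rfl
  rintro _ ⟨a, ha, rfl⟩
  refine CfsgLib.OddLocal.quadratic_mem_pCore (hodd.of_dvd_nat (Subgroup.card_subgroup_dvd_card N))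
    (P.subgroupOf N) (hP.comap_subtype) ((Subgroup.centralizer (P : Set G)).subgroupOf N) ?_ ?_
  · intro g hg
    rw [Subgroup.mem_subgroupOf, Subgroup.mem_centralizer_iff]
    intro x hx
    exact congrArg Subtype.val (Subgroup.mem_centralizer_iff.mp hg ⟨x, Subgroup.le_normalizer hx⟩ hx)
  · intro x hx
    apply Subtype.ext
    simp only [Subgroup.coe_mul, Subgroup.coe_inv]
    have h : (x : G) * a * (x : G)⁻¹ * (a : G)⁻¹ ∈ ⁅P, A⁆ := Subgroup.commutator_mem_commutator hx ha
    have h2 := Subgroup.commutator_mem_commutator h (ha : (a : G) ∈ A)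
    rw [hquad, Subgroup.mem_bot, commutatorElement_eq_one_iff_commute] at h2
    have h3 := h2.symm.inv_right
    rw [show ((x : G) * a * (x : G)⁻¹ * (a : G)⁻¹)⁻¹ = a * x * (a : G)⁻¹ * (x : G)⁻¹ by group] at h3
    exact mul_inv_eq_iff_eq_mul.mpr h3

end Cfsg.Agent.S1464
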