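import Cfsg.Statements.S1465
import Cfsg.Agent.Lib.OddLocal.PStable

set_option autoImplicit false
open Cfsg

namespace Cfsg.Agent.S1465

/-- Let p be an odd prime, G a solvable group of odd order, P a normal p-subgroup of G, and X the subgroup generated by a family of abelian p-subgroups of G each normalized by P. Then the image of X in G/C_G(P) lies in O_p(G/C_G(P)); and if O_{p'}(G) = 1 and O_p(G) ∩ C_G(P) ≤ P then X ≤ O_p(G). -/
theorem result {G : Type*} [Group G] [Finite G] [Group.IsSolvable G] (hodd : Odd (Nat.card G)) (p : ℕ) [Fact p.Prime] (hp : p ≠ 2) (P : Subgroup G) [P.Normal] (hP : IsPGroup p P)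
    (S : Set (Subgroup G)) (hS : ∀ B ∈ S, IsMulCommutative B ∧ IsPGroup p B ∧ P ≤ Subgroup.normalizer (B : Set G)) :
    (sSup S).map (QuotientGroup.mk' (Subgroup.centralizer (P : Set G))) ≤ Cfsg.pCore p (G ⧸ Subgroup.centralizer (P : Set G)) ∧
      (Cfsg.pPrimeCore p G = ⊥ → Cfsg.pCore p G ⊓ Subgroup.centralizer (P : Set G) ≤ P → sSup S ≤ Cfsg.pCore p G) := by
  set C := Subgroup.centralizer (P : Set G)
  have key : (sSup S).map (QuotientGroup.mk' C) ≤ Cfsg.pCore p (G ⧸ C) := by
    rw [Subgroup.map_le_iff_le_comap]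
    refine sSup_le fun B hB a ha => ?_
    exact CfsgLib.OddLocal.quadratic_mem_pCore hodd P hP C le_rfl
      fun x hx => CfsgLib.OddLocal.quad_of_normalizes (hS B hB).1 ha ((hS B hB).2.2 hx)
  refine ⟨key, fun hO hC => ?_⟩
  have hT := CfsgLib.Solvable.pCore_isPGroup (G := G) p
  have := CfsgLib.Solvable.pCore_normal p G
  set T := Cfsg.pCore p G
  have hPT : P ≤ T := CfsgLib.Solvable.le_pCore inferInstance hP
  have hp'1 : ∀ x ∈ C, (orderOf x).Coprime p → x = 1 := by
    intro x hx hord
    obtain ⟨k, hk⟩ := IsPGroup.iff_card.mp hT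
    have hxT : x ∈ T := by
      refine CfsgLib.Solvable.centralizer_pCore_le p hO ?_
      refine CfsgLib.OddLocal.le_centralizer_of_centralizer_fixed_le (H := T) (A := Subgroup.zpowers x)
        hT.isNilpotent (le_top.trans (Subgroup.normalizer_eq_top T).ge)
        (by rw [Nat.card_zpowers, hk]; exact hord.pow_right k) ?_ (Subgroup.mem_zpowers x)
      have hPf : P ≤ T ⊓ Subgroup.centralizer (Subgroup.zpowers x : Set G) := by
        refine le_inf hPT (Subgroup.le_centralizer_iff.mp ?_)
        rw [Subgroup.zpowers_le]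
        exact hx
      exact (inf_le_inf_left T (Subgroup.centralizer_le hPf)).trans (hC.trans hPf)
    rw [← orderOf_eq_one_iff]
    exact Nat.eq_one_of_dvd_coprimes (hord.pow_right k) dvd_rfl (hk ▸ Subgroup.orderOf_dvd_natCard T hxT)
  have hCp : IsPGroup p C := by
    rintro ⟨x, hx⟩
    refine ⟨(orderOf x).factorization p, Subtype.ext ?_⟩
    refine hp'1 _ (pow_mem hx _) ?_
    show (orderOf (x ^ _)).Coprime p
    rw [orderOf_pow' x (pow_ne_zero _ (Fact.out : p.Prime).ne_zero),
      Nat.gcd_eq_right (Nat.ordProj_dvd (orderOf x) p)]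
    exact (Nat.coprime_ordCompl Fact.out (orderOf_pos x).ne').symm
  exact (Subgroup.map_le_iff_le_comap.mp key).trans (CfsgLib.OddLocal.comap_pCore_le C hCp)

end Cfsg.Agent.S1465
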