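import Cfsg.Statements.S1466
import Cfsg.Agent.Lib.OddLocal.Puig
import Cfsg.Agent.Lib.OddLocal.PGroup

set_option autoImplicit false
open Cfsg

namespace Cfsg.Agent.S1466

/-- Let p be a prime and R a nontrivial finite p-group. Then for every i > 0, Z(R) ≤ C_R(L_i(R)) ≤ L_i(R); likewise Z(R) ≤ C_R(L_*(R)) ≤ L_*(R) and Z(R) ≤ C_R(L(R)) ≤ L(R); and L(R) ≠ 1, L_*(R) ≠ 1. -/
theorem result {R : Type*} [Group R] [Finite R] (p : ℕ) [Fact p.Prime] (hR : IsPGroup p R) [Nontrivial R] :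
    (∀ i : ℕ, 0 < i → Subgroup.center R ≤ Subgroup.centralizer ((Cfsg.puigSeq R i : Subgroup R) : Set R) ∧
        Subgroup.centralizer ((Cfsg.puigSeq R i : Subgroup R) : Set R) ≤ Cfsg.puigSeq R i) ∧
      (Subgroup.center R ≤ Subgroup.centralizer ((Cfsg.puigLower R : Subgroup R) : Set R) ∧ Subgroup.centralizer ((Cfsg.puigLower R : Subgroup R) : Set R) ≤ Cfsg.puigLower R) ∧
      (Subgroup.center R ≤ Subgroup.centralizer ((Cfsg.puigSubgroup R : Subgroup R) : Set R) ∧ Subgroup.centralizer ((Cfsg.puigSubgroup R : Subgroup R) : Set R) ≤ Cfsg.puigSubgroup R) ∧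
      Cfsg.puigSubgroup R ≠ ⊥ ∧ Cfsg.puigLower R ≠ ⊥ := by
  have hbot : IsMulCommutative (⊥ : Subgroup R) := inferInstance
  obtain ⟨A, -, hAn, hAc, hAeq⟩ := CfsgLib.OddLocal.exists_normal_self_centralizing hR ⊥ hbot
  have key : ∀ X : Subgroup R, A ≤ X → Subgroup.center R ≤ Subgroup.centralizer (X : Set R) ∧
      Subgroup.centralizer (X : Set R) ≤ X := fun X hX =>
    ⟨Subgroup.center_le_centralizer _,
      ((Subgroup.centralizer_le hX).trans hAeq.le).trans hX⟩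
  have hA1 : A ≠ ⊥ := by
    intro h
    rw [h] at hAeq
    have hbt : (⊤ : Subgroup R) ≤ ⊥ := by
      rw [← hAeq]
      intro x _
      rw [Subgroup.mem_centralizer_iff]
      rintro y hy
      simp [Subgroup.mem_bot.mp hy]
    exact bot_ne_top (le_antisymm bot_le hbt)
  have hlow : A ≤ Cfsg.puigLower R :=
    (CfsgLib.OddLocal.le_puigSeq_of_normal_abelian A hAc (i := 2 * 1) (by norm_num)).trans
      (le_iSup (fun n => Cfsg.puigSeq R (2 * n)) 1)
  have hup : A ≤ Cfsg.puigSubgroup R := hlow.trans CfsgLib.OddLocal.puigLower_le_puigSubgroup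
  exact ⟨fun i hi => key _ (CfsgLib.OddLocal.le_puigSeq_of_normal_abelian A hAc hi), key _ hlow,
    key _ hup, fun h => hA1 (le_bot_iff.mp (h ▸ hup)), fun h => hA1 (le_bot_iff.mp (h ▸ hlow))⟩

end Cfsg.Agent.S1466
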