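import Cfsg.Statements.S1480
import Cfsg.Agent.Lib.OddLocal.PLocalCore
import Cfsg.Agent.Lib.OddLocal.Transitivity

set_option autoImplicit false
open Cfsg

namespace Cfsg.Agent.S1480

open CfsgLib.OddLocal CfsgLib.Coprime

universe u
set_option linter.style.haveILetI false

variable {G : Type u} [Group G] [Finite G] {p : ℕ} [hp : Fact p.Prime]

/-- `p'`-subgroups of `C(E)` lie in `O_{p'}(C(E))`. -/
theorem le_core_centralizer {E Y : Subgroup G} (hEc : IsMulCommutative E) (hEp : IsPGroup p E)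
    (hEfull : ∀ x ∈ Subgroup.centralizer (E : Set G), IsPGroup p (Subgroup.zpowers x) → x ∈ E)
    (hY : Y ≤ Subgroup.centralizer (E : Set G)) (hYp : (Nat.card Y).Coprime p) :
    Y ≤ Cfsg.piCoreOf (Cfsg.primesNotDvd p) (Subgroup.centralizer (E : Set G)) := by
  set M := Subgroup.centralizer (E : Set G) with hM
  have hEM : E ≤ M := fun e he => Subgroup.mem_centralizer_iff.2 fun e' he' =>
    congrArg Subtype.val (hEc.is_comm.comm ⟨e', he'⟩ ⟨e, he⟩)
  set E' := E.subgroupOf M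
  have hcomm : ∀ e ∈ E', ∀ x : M, e * x = x * e := fun e he x =>
    Subtype.ext (Subgroup.mem_centralizer_iff.1 x.2 (e : G) he)
  haveI : E'.Normal := ⟨fun e he x => by rwa [← hcomm e he x, mul_inv_cancel_right]⟩
  obtain ⟨S⟩ : Nonempty (Sylow p M) := inferInstance
  have hSE : (S : Subgroup M) ≤ E' := by
    intro x hx
    refine hEfull (x : G) x.2 ?_
    have h := (S.2.to_le (Subgroup.zpowers_le.2 hx)).map M.subtype
    rwa [MonoidHom.map_zpowers] at h
  have hidx : ¬ p ∣ E'.index := fun h =>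
    S.not_dvd_index (h.trans (Subgroup.index_dvd_of_le hSE))
  obtain ⟨n, hn⟩ := IsPGroup.iff_card.1 (IsPGroup.comap_subtype (K := M) hEp)
  have hcop : (Nat.card E').Coprime E'.index := by
    rw [show Nat.card E' = p ^ n from hn]
    exact Nat.Coprime.pow_left n (hp.out.coprime_iff_not_dvd.2 hidx)
  obtain ⟨K, hK⟩ := Subgroup.exists_right_complement'_of_coprime hcop
  have hKn : K.Normal := by
    refine ⟨fun k hk g => ?_⟩
    obtain ⟨⟨e, l⟩, hel, -⟩ := hK.existsUnique g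
    rw [← hel]
    have : (e : M) * (l : M) * k * ((e : M) * l)⁻¹ = (e : M) * ((l : M) * k * (l : M)⁻¹) * (e : M)⁻¹ := by
      group
    rw [this, hcomm _ e.2, mul_inv_cancel_right]
    exact mul_mem (mul_mem l.2 hk) (inv_mem l.2)
  have hKcard : Nat.card K = E'.index := hK.symm.index_eq_card.symm
  have hYK : Y.subgroupOf M ≤ K := by
    intro y hy
    obtain ⟨⟨e, k⟩, hek, -⟩ := hK.existsUnique y
    have h1 : (e : M) ^ orderOf y * (k : M) ^ orderOf y = 1 := by
      rw [← (show Commute (e : M) k from hcomm _ e.2 _).mul_pow, hek, pow_orderOf_eq_one]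
    have h2 : (e : M) ^ orderOf y = 1 := by
      have hmem : (e : M) ^ orderOf y ∈ K := by
        rw [eq_inv_of_mul_eq_one_left h1]
        exact inv_mem (pow_mem k.2 _)
      exact Subgroup.disjoint_def.1 hK.disjoint (pow_mem e.2 _) hmem
    have hy1 : (orderOf y).Coprime p := by
      refine hYp.coprime_dvd_left ?_
      rw [← Subgroup.orderOf_coe]
      exact Subgroup.orderOf_dvd_natCard Y hy
    have he : (e : M) = 1 := by
      obtain ⟨a, ha⟩ := IsPGroup.iff_orderOf.1 (IsPGroup.comap_subtype (K := M) hEp) e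
      have ha' : orderOf (e : M) = p ^ a := (Subgroup.orderOf_coe e).trans ha
      rw [← orderOf_eq_one_iff]
      exact Nat.eq_one_of_dvd_coprimes (hy1.pow_right a) (orderOf_dvd_of_pow_eq_one h2)
        (ha' ▸ dvd_rfl)
    rw [← hek, he, one_mul]
    exact k.2
  refine le_trans ?_ (le_piCoreOf (N := K.map M.subtype) (Subgroup.map_subtype_le K) ?_ ?_)
  · intro y hy
    exact ⟨⟨y, hY hy⟩, hYK hy, rfl⟩
  · intro x hx
    rw [Subgroup.mem_normalizer_iff]
    intro z
    constructor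
    · rintro ⟨k, hk, rfl⟩
      exact ⟨⟨x, hx⟩ * k * (⟨x, hx⟩ : M)⁻¹, hKn.conj_mem k hk _, rfl⟩
    · rintro ⟨k, hk, hkz⟩
      refine ⟨(⟨x, hx⟩ : M)⁻¹ * k * ⟨x, hx⟩, ?_, ?_⟩
      · simpa using hKn.conj_mem k hk (⟨x, hx⟩ : M)⁻¹
      · simp only [map_mul, map_inv, hkz]
        show x⁻¹ * (x * z * x⁻¹) * x = z
        group
  · intro r hr hd
    refine ⟨hr, fun hrp => ?_⟩
    rw [Subgroup.card_map_of_injective M.subtype_injective, hKcard] at hd
    exact hidx ((Nat.prime_dvd_prime_iff_eq hr hp.out).1 hrp ▸ hd)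

/-- A cocyclic centralizer leaves any proper subgroup. -/
theorem exists_cocyclic_not_le {E Q D : Subgroup G} (hE : Cfsg.IsElementaryAbelian p E)
    (hEQ : E ≤ Subgroup.normalizer (Q : Set G)) (hcop : (Nat.card E).Coprime (Nat.card Q))
    (hD : ¬ Q ≤ D) :
    ∃ B : Subgroup G, B ≤ E ∧ B.relIndex E ≤ p ∧
      ¬ Q ⊓ Subgroup.centralizer (B : Set G) ≤ D := by
  by_contra hno
  apply hD
  conv_lhs => rw [← cocyclicJoin_eq hE.1 hEQ hcop]
  refine iSup₂_le ?_
  rintro B ⟨hB, a, ha, hBa⟩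
  by_contra hne
  refine hno ⟨B, hB, ?_, hne⟩
  have hBn : Subgroup.zpowers a ≤ Subgroup.normalizer (B : Set G) := by
    rw [Subgroup.zpowers_le]
    refine Subgroup.centralizer_le_normalizer _ (Subgroup.mem_centralizer_iff.mpr fun b hb => ?_)
    exact congrArg Subtype.val (hE.1.is_comm.comm (⟨b, hB hb⟩ : E) ⟨a, ha⟩)
  have h1 : B.relIndex E ≤ Nat.card (Subgroup.zpowers a) := by
    let f : B × Subgroup.zpowers a → E := fun x =>
      ⟨(x.1 : G) * x.2, E.mul_mem (hB x.1.2) ((Subgroup.zpowers_le.mpr ha) x.2.2)⟩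
    have hf : Function.Surjective f := fun e => by
      obtain ⟨n, hn, z, hz, he⟩ := (mem_sup_of_le_normalizer hBn (x := (e : G))).mp (by rw [hBa]; exact e.2)
      exact ⟨(⟨n, hn⟩, ⟨z, hz⟩), Subtype.ext he⟩
    have h := Nat.card_le_card_of_surjective f hf
    rw [Nat.card_prod, ← (B.subgroupOf E).card_mul_index, card_subgroupOf hB] at h
    exact Nat.le_of_mul_le_mul_left h Nat.card_pos
  exact h1.trans (by
    rw [Nat.card_zpowers]
    exact Nat.le_of_dvd hp.out.pos (orderOf_dvd_of_pow_eq_one (hE.2 a ha)))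

omit [Finite G] hp in
theorem inf_normalizer_le_normalizer_sup (A B : Subgroup G) :
    Subgroup.normalizer (A : Set G) ⊓ Subgroup.normalizer (B : Set G) ≤
      Subgroup.normalizer ((A ⊔ B : Subgroup G) : Set G) := by
  intro g hg
  rw [CfsgLib.Coprime.mem_normalizer_iff_map_conj, Subgroup.map_sup,
    map_conj_of_mem_normalizer hg.1, map_conj_of_mem_normalizer hg.2]

theorem transitive {E : Subgroup G}
    (hloc : ∀ T : Subgroup G, IsPGroup p T → T ≠ ⊥ → Cfsg.IsPConstrained p ↥(Subgroup.normalizer (T : Set G)))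
    (h2 : p = 2 → ∀ S : Sylow p G, Group.IsNilpotent (S : Subgroup G) ∧ Group.nilpotencyClass (S : Subgroup G) ≤ 2)
    (hEp : IsPGroup p E) (hEc : IsMulCommutative E)
    (hEfull : ∀ x ∈ Subgroup.centralizer (E : Set G), IsPGroup p (Subgroup.zpowers x) → x ∈ E)
    {E₀ : Subgroup G} (hE₀E : E₀ ≤ E) (hE₀ : Cfsg.IsElementaryAbelian p E₀)
    (hcard : p ^ 2 < Nat.card E₀)
    {q : ℕ} [hq : Fact q.Prime] (hqp : q ≠ p) {Q₁ Q₂ : Subgroup G}
    (h₁ : Q₁ ∈ Cfsg.maxInvSubgroups ⊤ E {q}) (h₂ : Q₂ ∈ Cfsg.maxInvSubgroups ⊤ E {q}) :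
    ∃ k ∈ Cfsg.piCoreOf (Cfsg.primesNotDvd p) (Subgroup.centralizer (E : Set G)),
      Q₂ = Q₁.map (MulAut.conj k).toMonoidHom := by
  induction hn : (Q₁ ⊓ Q₂).index using Nat.strong_induction_on generalizing Q₁ Q₂ with
  | _ n ih =>
    subst hn
    have one_case : ∀ P : Subgroup G, P = P.map (MulAut.conj 1).toMonoidHom := fun P => by
      ext x; rw [mem_map_conj]; simp
    by_cases h12 : Q₁ ≤ Q₂
    · exact ⟨1, one_mem _, (h₁.2 Q₂ h₂.1 h12).trans (one_case Q₁)⟩
    by_cases h21 : Q₂ ≤ Q₁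
    · exact ⟨1, one_mem _, (h₂.2 Q₁ h₁.1 h21).symm.trans (one_case Q₁)⟩
    set D := Q₁ ⊓ Q₂ with hDdef
    have hEN : E ≤ Subgroup.normalizer (D : Set G) :=
      le_trans (le_inf h₁.1.2.2 h₂.1.2.2) Subgroup.inf_normalizer_le_normalizer_inf
    -- a cocyclic subgroup for each of the two normalizers
    have hB : ∀ Q : Subgroup G, Q ∈ Cfsg.maxInvSubgroups ⊤ E {q} → D < Q →
        ∃ B : Subgroup G, B ≤ E₀ ∧ B.relIndex E₀ ≤ p ∧
          ¬ Q ⊓ Subgroup.normalizer (D : Set G) ⊓ Subgroup.centralizer (B : Set G) ≤ D := by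
      intro Q hQ hDQ
      obtain ⟨x, hxQ, hxN, hxD⟩ :=
        CfsgLib.Transfer.exists_mem_normalizer_not_mem (isPGroup_of_mem_inv hQ.1) hDQ
      refine exists_cocyclic_not_le hE₀ ?_ ?_ fun h => hxD (h ⟨hxQ, hxN⟩)
      · exact le_trans (le_inf (hE₀E.trans hQ.1.2.2) ((hE₀E.trans hEN).trans Subgroup.le_normalizer))
          Subgroup.inf_normalizer_le_normalizer_inf
      · exact IsPGroup.coprime_card_of_ne p q hqp.symm _ _ (hEp.to_le hE₀E)
          ((isPGroup_of_mem_inv hQ.1).to_le inf_le_left)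
    obtain ⟨B₁, hB₁, hi₁, hc₁⟩ := hB Q₁ h₁ (lt_of_le_not_ge inf_le_left fun h => h12 (h.trans inf_le_right))
    obtain ⟨B₂, hB₂, hi₂, hc₂⟩ := hB Q₂ h₂ (lt_of_le_not_ge inf_le_right fun h => h21 (h.trans inf_le_left))
    have hB : B₁ ⊓ B₂ ≠ ⊥ := by
      intro hbot
      have h := Subgroup.relIndex_inf_le (H := B₁) (K := B₂) (L := E₀)
      rw [hbot, Subgroup.relIndex_bot_left] at h
      exact absurd (h.trans (Nat.mul_le_mul hi₁ hi₂)) (not_le.mpr (pow_two p ▸ hcard))
    obtain ⟨x, hx, hx1⟩ := (B₁ ⊓ B₂).bot_or_exists_ne_one.resolve_left hB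
    set T := Subgroup.zpowers x with hTdef
    have hxE : x ∈ E := hE₀E (hB₁ hx.1)
    have hTp : IsPGroup p T := hEp.to_le (Subgroup.zpowers_le.2 hxE)
    have hTne : T ≠ ⊥ := fun h => hx1 (Subgroup.mem_bot.1 (h ▸ Subgroup.mem_zpowers x))
    set H := Subgroup.normalizer (T : Set G) with hHdef
    have hEC : E ≤ Subgroup.centralizer (T : Set G) := by
      intro e he
      rw [Subgroup.mem_centralizer_iff]
      intro t ht
      exact congrArg Subtype.val (hEc.is_comm.comm (⟨t, Subgroup.zpowers_le.2 hxE ht⟩ : E) ⟨e, he⟩)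
    have hEH : E ≤ H := hEC.trans (Subgroup.centralizer_le_normalizer _)
    set O := (Cfsg.pPrimeCore p H).map H.subtype with hOdef
    set K0 := O ⊓ Subgroup.normalizer (D : Set G) with hK0
    have hEO : E ≤ Subgroup.normalizer (O : Set G) := by
      haveI := Cfsg.pPrimeCore_normal p H
      intro e he
      have : (⟨e, hEH he⟩ : H) ∈ Subgroup.normalizer (Cfsg.pPrimeCore p H : Set H) := by
        rw [Subgroup.normalizer_eq_top]; exact Subgroup.mem_top _
      exact Subgroup.le_normalizer_map H.subtype ⟨_, this, rfl⟩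
    have hOcop : (Nat.card O).Coprime p := by
      rw [hOdef, Subgroup.card_map_of_injective H.subtype_injective]
      exact CfsgLib.Comp.coprime_card_pPrimeCore p H
    set L := D ⊔ K0 with hL
    have hDcop : (Nat.card D).Coprime p := by
      obtain ⟨m, hm⟩ := IsPGroup.iff_card.1 ((isPGroup_of_mem_inv h₁.1).to_le (inf_le_left : D ≤ Q₁))
      rw [hm]
      exact Nat.Coprime.pow_left m ((Nat.coprime_primes hq.out hp.out).2 hqp)
    have hLcop : (Nat.card L).Coprime p :=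
      CfsgLib.Comp.coprime_card_sup inf_le_right hDcop
        (hOcop.coprime_dvd_left (Subgroup.card_dvd_of_le inf_le_left))
    have hEL : E ≤ Subgroup.normalizer (L : Set G) := by
      refine le_trans (le_inf hEN ?_) ((inf_normalizer_le_normalizer_sup _ _))
      exact le_trans (le_inf hEO (hEN.trans Subgroup.le_normalizer)) Subgroup.inf_normalizer_le_normalizer_inf
    obtain ⟨m, hm⟩ := IsPGroup.iff_card.1 hEp
    have hcopEL : (Nat.card E).Coprime (Nat.card L) := hm ▸ hLcop.symm.pow_left m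
    have hs : Group.IsSolvable E ∨ Group.IsSolvable L := Or.inl (by
      haveI := hEp.isNilpotent; infer_instance)
    have hX : ∀ Q : Subgroup G, Q ∈ Cfsg.maxInvSubgroups ⊤ E {q} → D ≤ Q →
        ∀ B : Subgroup G, x ∈ B →
        ∃ S : Sylow q L, Q ⊓ Subgroup.normalizer (D : Set G) ⊓ Subgroup.centralizer (B : Set G) ≤
            (S : Subgroup L).map L.subtype ∧ D ≤ (S : Subgroup L).map L.subtype ∧
          E ≤ Subgroup.normalizer (((S : Subgroup L).map L.subtype : Subgroup G) : Set G) := by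
      intro Q hQ hDQ B hxB
      set X := Q ⊓ Subgroup.normalizer (D : Set G) ⊓ Subgroup.centralizer (T : Set G) with hXdef
      have hEX : E ≤ Subgroup.normalizer (X : Set G) :=
        le_trans (le_inf (le_trans (le_inf hQ.1.2.2 (hEN.trans Subgroup.le_normalizer))
          Subgroup.inf_normalizer_le_normalizer_inf) (hEC.trans Subgroup.le_normalizer))
          Subgroup.inf_normalizer_le_normalizer_inf
      have hXq : IsPGroup q X := (isPGroup_of_mem_inv hQ.1).to_le (inf_le_left.trans inf_le_left)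
      have hXO : X ≤ O := by
        obtain ⟨r, hr⟩ := IsPGroup.iff_card.1 hXq
        exact le_piCoreOf_of_invariant (hloc T hTp hTne) h2 hEp hEfull hEH
          (inf_le_right.trans (Subgroup.centralizer_le_normalizer _)) hEX
          (hr ▸ Nat.Coprime.pow_left r ((Nat.coprime_primes hq.out hp.out).2 hqp))
      have hXL : X ≤ L := (le_inf hXO (inf_le_left.trans inf_le_right)).trans le_sup_right
      have hUq : IsPGroup q ↥(D ⊔ X) :=
        (isPGroup_of_mem_inv hQ.1).to_le (sup_le hDQ (inf_le_left.trans inf_le_left))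
      obtain ⟨S, hS, hSE⟩ := exists_invariant_sylow_ge hEL hcopEL hs hUq (sup_le le_sup_left hXL)
        (le_trans (le_inf hEN hEX) (inf_normalizer_le_normalizer_sup _ _))
      refine ⟨S, ?_, le_sup_left.trans hS, hSE⟩
      refine le_trans ?_ (le_sup_right.trans hS)
      exact inf_le_inf_left _ (Subgroup.centralizer_le (Subgroup.zpowers_le.2 hxB))
    obtain ⟨S₁, hS₁, hS₁D, hS₁E⟩ := hX Q₁ h₁ inf_le_left B₁ hx.1
    obtain ⟨S₂, hS₂, hS₂D, hS₂E⟩ := hX Q₂ h₂ inf_le_right B₂ hx.2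
    obtain ⟨c, hc, hcS⟩ := exists_conj_invariant_sylow hEL hcopEL hs S₁ S₂ hS₁E hS₂E
    obtain ⟨Q₃, hQ₃, hSQ⟩ := exists_maxInv_ge (inv_of_isPGroup (S₁.2.map L.subtype) hS₁E)
    have hcK : c ∈ Cfsg.piCoreOf (Cfsg.primesNotDvd p) (Subgroup.centralizer (E : Set G)) :=
      le_core_centralizer hEc hEp hEfull (Y := L ⊓ Subgroup.centralizer (E : Set G)) inf_le_right
        (hLcop.coprime_dvd_left (Subgroup.card_dvd_of_le inf_le_left)) hc
    have hcn : c ∈ Subgroup.normalizer (E : Set G) :=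
      Subgroup.centralizer_le_normalizer _ hc.2
    have hQ₂' : (S₂ : Subgroup L).map L.subtype ≤ Q₃.map (MulAut.conj c).toMonoidHom :=
      hcS ▸ Subgroup.map_mono hSQ
    have big : ∀ Q Q' : Subgroup G, ∀ B : Subgroup G, Q ∈ Cfsg.maxInvSubgroups ⊤ E {q} →
        Q' ∈ Cfsg.maxInvSubgroups ⊤ E {q} → D ≤ Q → D ≤ Q' →
        ¬ Q ⊓ Subgroup.normalizer (D : Set G) ⊓ Subgroup.centralizer (B : Set G) ≤ D →
        Q ⊓ Subgroup.normalizer (D : Set G) ⊓ Subgroup.centralizer (B : Set G) ≤ Q' →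
        ∃ k ∈ Cfsg.piCoreOf (Cfsg.primesNotDvd p) (Subgroup.centralizer (E : Set G)),
          Q' = Q.map (MulAut.conj k).toMonoidHom := by
      intro Q Q' B hQ hQ' hDQ hDQ' hne hle
      have hlt : D < Q ⊓ Q' := lt_of_le_not_ge (le_inf hDQ hDQ') fun hge =>
        hne ((le_inf (inf_le_left.trans inf_le_left) hle).trans hge)
      exact ih _ (Subgroup.index_strictAnti hlt) hQ hQ' rfl
    obtain ⟨k, hk, hk3⟩ := big Q₁ Q₃ B₁ h₁ hQ₃ inf_le_left (hS₁D.trans hSQ) hc₁ (hS₁.trans hSQ)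
    obtain ⟨l, hl, hl3⟩ := big Q₂ _ B₂ h₂ (map_conj_mem_maxInv hcn hQ₃) inf_le_right
      (hS₂D.trans hQ₂') hc₂ (hS₂.trans hQ₂')
    refine ⟨l⁻¹ * c * k, mul_mem (mul_mem (inv_mem hl) hcK) hk, ?_⟩
    rw [mul_assoc, ← map_conj_conj, ← map_conj_conj, ← hk3, hl3, map_conj_conj, inv_mul_cancel]
    exact one_case Q₂


/-- Let G be a finite group and p a prime such that the normalizer of every nontrivial p-subgroup of G is p-constrained; if p = 2 assume also that the Sylow 2-subgroups of G have nilpotency class at most 2. Let E be an abelian p-subgroup containing an elementary abelian subgroup of order p ^ 3 and containing every element of p-power order of C_G(E). Then for every prime q ≠ p, any two maximal E-invariant q-subgroups of G are conjugate by an element of O_{p'}(C_G(E)). -/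
theorem result {G : Type*} [Group G] [Finite G] (p : ℕ) [Fact p.Prime]
    (hloc : ∀ T : Subgroup G, IsPGroup p T → T ≠ ⊥ → Cfsg.IsPConstrained p ↥(Subgroup.normalizer (T : Set G)))
    (h2 : p = 2 → ∀ S : Sylow p G, Group.IsNilpotent (S : Subgroup G) ∧ Group.nilpotencyClass (S : Subgroup G) ≤ 2)
    (E : Subgroup G) (hEp : IsPGroup p E) (hEc : IsMulCommutative E) (hE3 : ¬ Cfsg.PRankLE p 2 E)
    (hEfull : ∀ x ∈ Subgroup.centralizer (E : Set G), IsPGroup p (Subgroup.zpowers x) → x ∈ E)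
    (q : ℕ) [Fact q.Prime] (hqp : q ≠ p) :
    ∀ Q₁ ∈ Cfsg.maxInvSubgroups ⊤ E {q}, ∀ Q₂ ∈ Cfsg.maxInvSubgroups ⊤ E {q},
        ∃ k ∈ Cfsg.piCoreOf (Cfsg.primesNotDvd p) (Subgroup.centralizer (E : Set G)), Q₂ = Q₁.map (MulAut.conj k).toMonoidHom := by
  intro Q₁ h₁ Q₂ h₂
  simp only [Cfsg.PRankLE, not_forall, not_le] at hE3
  obtain ⟨A, hAc, hAe, hA⟩ := hE3
  refine transitive hloc h2 hEp hEc hEfull (E₀ := A.map E.subtype) (Subgroup.map_subtype_le A)
    ⟨⟨⟨?_⟩⟩, ?_⟩ (by rwa [Subgroup.card_map_of_injective E.subtype_injective]) hqp h₁ h₂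
  · rintro ⟨_, x, hx, rfl⟩ ⟨_, y, hy, rfl⟩
    exact Subtype.ext (congrArg (fun z : A => ((z : E) : G)) (hAc.is_comm.comm ⟨x, hx⟩ ⟨y, hy⟩))
  · rintro _ ⟨x, hx, rfl⟩
    exact congrArg Subtype.val (hAe x hx)

end Cfsg.Agent.S1480
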