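import Cfsg.Statements.S1481
import Cfsg.Agent.Lib.OddLocal.LocalCore
import Cfsg.Agent.Lib.OddLocal.FittingCenter
import Cfsg.Agent.Lib.OddLocal.Transitivity
import Cfsg.Agent.Lib.OddLocal.Stab
import Cfsg.Agent.Lib.Coprime.Action
import Cfsg.Agent.Lib.Comp.FStar

set_option autoImplicit false
open Cfsg

namespace Cfsg.Agent.S1481

open Subgroup CfsgLib.OddLocal CfsgLib.Coprime

universe u
set_option linter.unusedSectionVars false
set_option linter.style.haveILetI false
variable {G : Type u} [Group G] [Finite G]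

theorem signalizer {H : Subgroup G} (hH : Cfsg.IsLocalSubgroup H)
    (hHmax : ∀ L : Subgroup G, Cfsg.IsLocalSubgroup L → H ≤ L → L = H)
    (hF2 : 2 ≤ (Nat.card (Cfsg.fittingOf H)).primeFactors.card)
    {M : Subgroup G} (hM : M ≤ Cfsg.fittingOf H)
    (hCM : Cfsg.fittingOf H ⊓ Subgroup.centralizer (M : Set G) ≤ M)
    {R : Subgroup G} (hR : Group.IsSolvable R) (hMR : M ≤ Subgroup.normalizer (R : Set G))
    (hXR : H ⊓ Subgroup.centralizer (Cfsg.fittingOf H : Set G) ≤ Subgroup.normalizer (R : Set G))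
    {q : ℕ} [hqf : Fact q.Prime] (hq : ¬ q ∣ Nat.card (Cfsg.fittingOf H)) :
    ∃! Q : Subgroup G, Q ∈ Cfsg.maxInvSubgroups R M {q} ∧
      (∀ Q' : Subgroup G, Q' ∈ Cfsg.maxInvSubgroups R M {q} →
        Q' ≤ Cfsg.piCoreOf (Cfsg.primesNotDvd (Nat.card (Cfsg.fittingOf H))) R ∧
        ¬ q ∣ Q'.relIndex (Cfsg.piCoreOf (Cfsg.primesNotDvd (Nat.card (Cfsg.fittingOf H))) R)) := by
  classical
  set F := Cfsg.fittingOf H with hFdef
  set n := Nat.card F with hndef
  set π' := Cfsg.primesNotDvd n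
  set O := Cfsg.piCoreOf π' R with hOdef
  have hFH : F ≤ H := Subgroup.map_subtype_le _
  have hMH : M ≤ H := hM.trans hFH
  haveI hFn : Group.IsNilpotent F := fittingOf_isNilpotent H
  haveI hMn : Group.IsNilpotent M :=
    (Group.isNilpotent_congr (Subgroup.subgroupOfEquivOfLe hM)).1 inferInstance
  have hMs : Group.IsSolvable M := inferInstance
  set Z := fun r => fittingCenterPart H r with hZdef
  have hZF : ∀ r, Z r ≤ F ⊓ Subgroup.centralizer (F : Set G) := fun r => piCoreOf_le _ _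
  have hZM : ∀ r, Z r ≤ M := fun r =>
    (hZF r).trans ((inf_le_inf_left F (Subgroup.centralizer_le hM)).trans hCM)
  have hNZ : ∀ r, r.Prime → r ∣ n → Subgroup.normalizer (Z r : Set G) = H := fun r hr hrn =>
    hHmax _ ⟨r, Z r, hr, isPGroup_fittingCenterPart H hr, fittingCenterPart_ne_bot H hr hrn, rfl⟩
      (le_normalizer_fittingCenterPart H r)
  have hCZ : ∀ r, r.Prime → r ∣ n → Subgroup.centralizer (Z r : Set G) ≤ H := fun r hr hrn =>
    hNZ r hr hrn ▸ Subgroup.centralizer_le_normalizer _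
  have other : ∀ q : ℕ, ∃ p : ℕ, p.Prime ∧ p ∣ n ∧ p ≠ q := by
    intro q
    obtain ⟨p, hp, hpq⟩ := Finset.exists_mem_ne (by omega : 1 < n.primeFactors.card) q
    exact ⟨p, Nat.prime_of_mem_primeFactors hp, Nat.dvd_of_mem_primeFactors hp, hpq⟩
  have hpi : ∀ {K : Subgroup G}, (∀ s : ℕ, s.Prime → s ∣ Nat.card K → s ∈ π') →
      (Nat.card K).Coprime n := fun h => Nat.coprime_of_dvd fun s hs h1 h2 => (h s hs h1).2 h2
  -- `π'`-subgroups of `R` centralizing `M` are trivial
  have hJ : ∀ K : Subgroup G, K ≤ R → K ≤ Subgroup.centralizer (M : Set G) →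
      (∀ s : ℕ, s.Prime → s ∣ Nat.card K → s ∈ π') → K = ⊥ := by
    intro K hKR hKM hKπ
    obtain ⟨r, hr, hrn, -⟩ := other 0
    have hKH : K ≤ H := (hKM.trans (Subgroup.centralizer_le (hZM r))).trans (hCZ r hr hrn)
    have hKF : K ≤ Subgroup.centralizer (F : Set G) := by
      refine le_centralizer_of_centralizer_fixed_le hFn (hKH.trans (le_normalizer_fittingOf H))
        (hpi hKπ) ?_
      have h1 : M ≤ F ⊓ Subgroup.centralizer (K : Set G) := le_inf hM (Subgroup.le_centralizer_iff.1 hKM)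
      exact ((inf_le_inf_left F (Subgroup.centralizer_le h1)).trans hCM).trans h1
    set X := H ⊓ Subgroup.centralizer (F : Set G) with hXdef
    set J := R ⊓ X with hJdef
    have hXH : H ≤ Subgroup.normalizer (X : Set G) :=
      le_trans (le_inf Subgroup.le_normalizer ((le_normalizer_fittingOf H).trans
        (normalizer_le_normalizer_centralizer_of_set _))) Subgroup.inf_normalizer_le_normalizer_inf
    have hJX : X ≤ Subgroup.normalizer (J : Set G) :=
      le_trans (le_inf hXR Subgroup.le_normalizer) Subgroup.inf_normalizer_le_normalizer_inf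
    have hJH : J ≤ H := inf_le_right.trans inf_le_left
    have hsn : (J.subgroupOf H).IsSubnormal := by
      refine Subgroup.IsSubnormal.step _ (X.subgroupOf H) (fun x hx => hx.2)
        (Subgroup.Normal.isSubnormal ((Subgroup.normal_subgroupOf_iff_le_normalizer inf_le_left).2 hXH)) ?_
      refine ⟨fun a ha g => ?_⟩
      exact (Subgroup.mem_normalizer_iff.1 (hJX g.2) _).1 ha
    have hJs : Group.IsSolvable ↥(J.subgroupOf H) :=
      isSolvable_subgroupOf hJH (isSolvable_of_le hR inf_le_left)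
    have hJF : J.subgroupOf H ≤ Cfsg.fittingSubgroup H := by
      refine CfsgLib.Comp.le_fittingSubgroup_of_isSolvable hsn hJs fun x hx => ?_
      rw [Subgroup.mem_centralizer_iff]
      intro a ha
      exact Subtype.ext (Subgroup.mem_centralizer_iff.1 hx.2.2 (a : G) ⟨a, ha, rfl⟩)
    have hKle : K ≤ F := fun x hx => ⟨⟨x, hKH hx⟩, hJF ⟨hKR hx, hKH hx, hKF hx⟩, rfl⟩
    exact Subgroup.eq_bot_of_card_eq _
      (Nat.eq_one_of_dvd_coprimes (hpi hKπ) dvd_rfl (Subgroup.card_dvd_of_le hKle))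
  have hqπ : q ∈ π' := ⟨hqf.out, hq⟩
  -- every invariant `q`-subgroup lies in `O`
  have hQO : ∀ Q ∈ Cfsg.invSubgroups R M {q}, Q ≤ O := by
    intro Q hQ
    have hQπ : ∀ s : ℕ, s.Prime → s ∣ Nat.card Q → s ∈ π' := fun s hs hd => by
      rw [show s = q from hQ.2.1 s hs hd]; exact hqπ
    have hfree : ∀ r, r.Prime → r ∣ n → Q ⊓ Subgroup.centralizer (Z r : Set G) = ⊥ := by
      intro r hr hrn
      set Q₀ := Q ⊓ Subgroup.centralizer (Z r : Set G) with hQ₀
      have hQ₀π : ∀ s : ℕ, s.Prime → s ∣ Nat.card Q₀ → s ∈ π' := fun s hs hd =>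
        hQπ s hs (hd.trans (Subgroup.card_dvd_of_le inf_le_left))
      refine hJ Q₀ (inf_le_left.trans hQ.1) ?_ hQ₀π
      have hMQ₀ : M ≤ Subgroup.normalizer (Q₀ : Set G) := by
        refine le_trans (le_inf hQ.2.2 ?_) Subgroup.inf_normalizer_le_normalizer_inf
        refine le_trans (fun m hm => ?_) (normalizer_le_normalizer_centralizer_of_set _)
        exact le_normalizer_fittingCenterPart H r (hMH hm)
      have hQ₀H : Q₀ ≤ H := inf_le_right.trans (hCZ r hr hrn)
      intro x hx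
      rw [Subgroup.mem_centralizer_iff]
      intro m hm
      have h1 : x * m * x⁻¹ * m⁻¹ ∈ Q₀ ⊓ F := by
        refine ⟨?_, F.mul_mem ((Subgroup.mem_normalizer_iff.1 (le_normalizer_fittingOf H (hQ₀H hx)) m).1
          (hM hm)) (F.inv_mem (hM hm))⟩
        have e : x * m * x⁻¹ * m⁻¹ = x * (m * x⁻¹ * m⁻¹) := by group
        rw [e]
        exact Q₀.mul_mem hx ((Subgroup.mem_normalizer_iff.1 (hMQ₀ hm) x⁻¹).1 (Q₀.inv_mem hx))
      rw [inf_eq_bot_of_coprime (A := Q₀) (N := F) (hpi hQ₀π), Subgroup.mem_bot] at h1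
      exact (mul_inv_eq_iff_eq_mul.1 (mul_inv_eq_one.1 h1)).symm
    -- the solvable group `S = R M`
    set S := R ⊔ M with hS
    have hSs : Group.IsSolvable S := CfsgLib.Comp.isSolvable_sup hMR hR hMs
    let T := fun p => (Cfsg.pPrimeCore p S).map S.subtype
    have hTn : ∀ p, S ≤ Subgroup.normalizer (T p : Set G) := by
      intro p x hx
      have := Cfsg.pPrimeCore_normal p S
      have h' : (⟨x, hx⟩ : S) ∈ Subgroup.normalizer (Cfsg.pPrimeCore p S : Set S) := by
        rw [Subgroup.normalizer_eq_top]; exact Subgroup.mem_top _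
      exact Subgroup.le_normalizer_map S.subtype ⟨_, h', rfl⟩
    have hQT : ∀ p, p.Prime → p ∣ n → Q ≤ T p := by
      intro p hp hpn
      haveI := Fact.mk hp
      obtain ⟨r, hr, hrn, hrp⟩ := other p
      have hZT : Z r ≤ T p := by
        refine le_piCoreOf_of_local hSs ((hZM p).trans le_sup_right) (isPGroup_fittingCenterPart H hp)
          ((hZM r).trans le_sup_right) ((hNZ p hp hpn).symm ▸ (hZM r).trans hMH) ?_ ?_
        · rw [hNZ p hp hpn]
          exact inf_le_right.trans (le_normalizer_fittingCenterPart H r)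
        · haveI := Fact.mk hr
          obtain ⟨k, hk⟩ := IsPGroup.iff_card.1 (isPGroup_fittingCenterPart H hr)
          rw [hk]
          exact Nat.Coprime.pow_left k ((Nat.coprime_primes hr hp).2 hrp)
      have hZQ : Z r ≤ Subgroup.normalizer (Q : Set G) := (hZM r).trans hQ.2.2
      have hcop : (Nat.card (Z r)).Coprime (Nat.card Q) :=
        ((hpi hQπ).coprime_dvd_right (Subgroup.card_dvd_of_le ((hZF r).trans inf_le_left))).symm
      haveI := Fact.mk hr
      haveI := (isPGroup_fittingCenterPart H hr).isNilpotent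
      have he := commutator_sup_centralizer hZQ hcop (Or.inl inferInstance)
      rw [hfree r hr hrn, sup_bot_eq] at he
      rw [← he]
      refine le_trans (Subgroup.commutator_mono le_rfl hZT) ?_
      exact le_normalizer_iff_commutator_le_right.1 ((hQ.1.trans le_sup_left).trans (hTn p))
    let N : Subgroup G := R ⊓ ⨅ p : {p : ℕ // p.Prime ∧ p ∣ n}, T p.1
    refine le_trans (le_inf hQ.1 (le_iInf fun p => hQT p.1 p.2.1 p.2.2) : Q ≤ N) ?_
    refine le_piCoreOf inf_le_left ?_ ?_
    · intro x hx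
      rw [Subgroup.mem_normalizer_iff]
      intro v
      simp only [N, Subgroup.mem_inf, Subgroup.mem_iInf]
      exact and_congr (Subgroup.mem_normalizer_iff.1 (Subgroup.le_normalizer hx) v)
        (forall_congr' fun p => Subgroup.mem_normalizer_iff.1 (hTn p.1 (le_sup_left (b := M) hx)) v)
    · intro s hs hd
      refine ⟨hs, fun hsn => ?_⟩
      have h' := hd.trans (Subgroup.card_dvd_of_le (inf_le_right.trans (iInf_le _
        (⟨s, hs, hsn⟩ : {p : ℕ // p.Prime ∧ p ∣ n}))))
      rw [Subgroup.card_map_of_injective S.subtype_injective] at h'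
      exact hs.ne_one (Nat.eq_one_of_dvd_coprimes (CfsgLib.Comp.coprime_card_pPrimeCore s S) h' dvd_rfl)
  -- maximal ones are invariant Sylow subgroups of `O`
  have hMO : M ≤ Subgroup.normalizer (O : Set G) := hMR.trans (le_normalizer_piCoreOf _ _)
  have hcopMO : (Nat.card M).Coprime (Nat.card O) :=
    ((hpi (piCoreOf_spec π' R)).coprime_dvd_right (Subgroup.card_dvd_of_le hM)).symm
  have hsMO : Group.IsSolvable M ∨ Group.IsSolvable O := Or.inl hMs
  have hsyl : ∀ Q ∈ Cfsg.maxInvSubgroups R M {q}, ∃ P : Sylow q O, (P : Subgroup O).map O.subtype = Q ∧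
      M ≤ Subgroup.normalizer (((P : Subgroup O).map O.subtype : Subgroup G) : Set G) := by
    intro Q hQ
    obtain ⟨P, hP, hPM⟩ := exists_invariant_sylow_ge hMO hcopMO hsMO (isPGroup_of_mem_inv hQ.1)
      (hQO Q hQ.1) hQ.1.2.2
    refine ⟨P, hQ.2 _ ⟨(Subgroup.map_subtype_le _).trans (piCoreOf_le _ _), ?_, hPM⟩ hP, hPM⟩
    exact (inv_of_isPGroup (P.2.map O.subtype) hPM).2.1
  obtain ⟨Q, hQ, -⟩ := exists_maxInv_ge (bot_mem_invSubgroups R M {q})
  refine ⟨Q, ⟨hQ, fun Q' hQ' => ?_⟩, fun Q' hQ' => ?_⟩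
  · obtain ⟨P, hPQ, -⟩ := hsyl Q' hQ'
    refine ⟨hQO Q' hQ'.1, ?_⟩
    rw [← hPQ, show ((P : Subgroup O).map O.subtype).relIndex O = (P : Subgroup O).index by
      rw [Subgroup.relIndex, Subgroup.subgroupOf, Subgroup.comap_map_eq_self_of_injective O.subtype_injective]]
    exact P.not_dvd_index
  · obtain ⟨P, hPQ, hP⟩ := hsyl Q hQ
    obtain ⟨P', hPQ', hP'⟩ := hsyl Q' hQ'.1
    obtain ⟨c, hc, hcP⟩ := exists_conj_invariant_sylow hMO hcopMO hsMO P P' hP hP'
    have hc1 : c = 1 := by
      rw [← Subgroup.mem_bot, ← hJ (O ⊓ Subgroup.centralizer (M : Set G))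
        (inf_le_left.trans (piCoreOf_le _ _)) inf_le_right
        (fun s hs hd => piCoreOf_spec π' R s hs (hd.trans (Subgroup.card_dvd_of_le inf_le_left)))]
      exact hc
    rw [← hPQ', ← hcP, hPQ, hc1]
    ext x; rw [mem_map_conj]; simp


/-- Let G be a finite group and H a local subgroup (the normalizer of a nontrivial subgroup of prime-power order) not properly contained in any local subgroup; let F = F(H), suppose at least two primes divide #F, put X = H ∩ C_G(F), let M ≤ F with F ∩ C_G(M) ≤ M, and let R be a solvable subgroup normalized by M and by X. Then for every prime q not dividing #F there is exactly one maximal M-invariant q-subgroup of R, and it is a Sylow q-subgroup of the largest normal subgroup of R of order coprime to #F. -/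
theorem result {G : Type*} [Group G] [Finite G] (H : Subgroup G) (hH : Cfsg.IsLocalSubgroup H) (hHmax : ∀ L : Subgroup G, Cfsg.IsLocalSubgroup L → H ≤ L → L = H)
    (hF2 : 2 ≤ (Nat.card (Cfsg.fittingOf H)).primeFactors.card)
    (M : Subgroup G) (hM : M ≤ Cfsg.fittingOf H) (hCM : Cfsg.fittingOf H ⊓ Subgroup.centralizer (M : Set G) ≤ M)
    (R : Subgroup G) (hR : Group.IsSolvable R) (hMR : M ≤ Subgroup.normalizer (R : Set G))
    (hXR : H ⊓ Subgroup.centralizer (Cfsg.fittingOf H : Set G) ≤ Subgroup.normalizer (R : Set G))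
    (q : ℕ) [Fact q.Prime] (hq : ¬ q ∣ Nat.card (Cfsg.fittingOf H)) :
    ∃! Q : Subgroup G, Q ∈ Cfsg.maxInvSubgroups R M {q} ∧
      (∀ Q' : Subgroup G, Q' ∈ Cfsg.maxInvSubgroups R M {q} →
        Q' ≤ Cfsg.piCoreOf (Cfsg.primesNotDvd (Nat.card (Cfsg.fittingOf H))) R ∧
        ¬ q ∣ Q'.relIndex (Cfsg.piCoreOf (Cfsg.primesNotDvd (Nat.card (Cfsg.fittingOf H))) R)) := by
  exact signalizer hH hHmax hF2 hM hCM hR hMR hXR hq

end Cfsg.Agent.S1481
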