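import Cfsg.Statements.S1482
import Cfsg.Agent.Lib.OddLocal.LocalCore
import Cfsg.Agent.Lib.OddLocal.MinSimple
import Cfsg.Agent.Lib.Coprime.Hall
import Cfsg.Agent.Lib.Solvable.Nilpotent

set_option autoImplicit false
open Cfsg

namespace Cfsg.Agent.S1482

open Subgroup CfsgLib.OddLocal

universe u
set_option linter.style.haveILetI false
set_option linter.unusedSectionVars false
variable {G : Type u} [Group G] [Finite G]

/-- The primes other than `r`. -/
def offPrime (r : ℕ) : Set ℕ := {s | s ≠ r}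

/-- `q` together with the primes outside `π(n)`. -/
def onePrime (n q : ℕ) : Set ℕ := {s | s = q ∨ s ∈ Cfsg.primesNotDvd n}

theorem piCoreOf_mono {π τ : Set ℕ} (X : Subgroup G) (h : π ⊆ τ) :
    Cfsg.piCoreOf π X ≤ Cfsg.piCoreOf τ X :=
  le_piCoreOf (piCoreOf_le π X) (Subgroup.le_normalizer.trans (le_normalizer_piCoreOf π X))
    fun s hs hd => h (piCoreOf_spec π X s hs hd)

theorem pPrimeCore_map_le (r : ℕ) [hr : Fact r.Prime] (X : Subgroup G) :
    (Cfsg.pPrimeCore r X).map X.subtype ≤ Cfsg.piCoreOf (offPrime r) X := by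
  refine le_piCoreOf (Subgroup.map_subtype_le _) ?_ ?_
  · intro x hx
    have := Cfsg.pPrimeCore_normal r X
    have h' : (⟨x, hx⟩ : X) ∈ Subgroup.normalizer (Cfsg.pPrimeCore r X : Set X) := by
      rw [Subgroup.normalizer_eq_top]; exact Subgroup.mem_top _
    exact Subgroup.le_normalizer_map X.subtype ⟨_, h', rfl⟩
  · intro s hs hd
    rintro rfl
    rw [Subgroup.card_map_of_injective X.subtype_injective] at hd
    exact hs.ne_one (Nat.eq_one_of_dvd_coprimes (CfsgLib.Comp.coprime_card_pPrimeCore s X) hd dvd_rfl)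

/-- A subgroup lying in every `O_{r'}(X)`, `r ∈ π(n) - {q}`, lies in `O_{q,π'}(X)`. -/
theorem le_onePrime {n q : ℕ} {X Y : Subgroup G} (hYX : Y ≤ X)
    (hY : ∀ r : ℕ, r.Prime → r ∣ n → r ≠ q → Y ≤ Cfsg.piCoreOf (offPrime r) X) :
    Y ≤ Cfsg.piCoreOf (onePrime n q) X := by
  set N : Subgroup G := X ⊓ ⨅ r : {r : ℕ // r.Prime ∧ r ∣ n ∧ r ≠ q}, Cfsg.piCoreOf (offPrime r.1) X
    with hN
  have hYN : Y ≤ N := le_inf hYX (le_iInf fun r => hY r.1 r.2.1 r.2.2.1 r.2.2.2)
  refine hYN.trans (le_piCoreOf inf_le_left ?_ ?_)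
  · intro x hx
    have hxr : ∀ r : ℕ, x ∈ Subgroup.normalizer (Cfsg.piCoreOf (offPrime r) X : Set G) := fun r =>
      le_normalizer_piCoreOf _ _ (Subgroup.le_normalizer hx)
    rw [Subgroup.mem_normalizer_iff]
    intro v
    simp only [hN, Subgroup.mem_inf, Subgroup.mem_iInf]
    exact and_congr (Subgroup.mem_normalizer_iff.1 (Subgroup.le_normalizer hx) v)
      (forall_congr' fun r => Subgroup.mem_normalizer_iff.1 (hxr r.1) v)
  · intro s hs hd
    by_cases hsq : s = q
    · exact Or.inl hsq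
    refine Or.inr ⟨hs, fun hsn => ?_⟩
    exact piCoreOf_spec (offPrime s) X s hs
      (hd.trans (Subgroup.card_dvd_of_le (inf_le_right.trans (iInf_le _ (⟨s, hs, hsn, hsq⟩ :
        {r : ℕ // r.Prime ∧ r ∣ n ∧ r ≠ q}))))) rfl

theorem le_normalizer_of_le_centralizer {A B : Subgroup G}
    (h : A ≤ Subgroup.centralizer (B : Set G)) : A ≤ Subgroup.normalizer (B : Set G) :=
  h.trans (Subgroup.centralizer_le_normalizer _)

theorem uniqueness (hG : Cfsg.IsMinSimpleOddOrder G) {H : Subgroup G} (hH : IsCoatom H)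
    (hF2 : 2 ≤ (Nat.card (Cfsg.fittingOf H)).primeFactors.card)
    {M : Subgroup G} (hM : M ≤ Cfsg.fittingOf H)
    (hZM : Cfsg.fittingOf H ⊓ Subgroup.centralizer (Cfsg.fittingOf H : Set G) ≤ M)
    (hinv : ∀ Y ∈ Cfsg.invSubgroups ⊤ M (Cfsg.primesNotDvd (Nat.card (Cfsg.fittingOf H))), Y = ⊥)
    {L : Subgroup G} (hL : IsCoatom L) (hML : M ≤ L) : L = H := by
  classical
  set F := Cfsg.fittingOf H with hFdef
  set n := Nat.card F with hndef
  set π' := Cfsg.primesNotDvd n
  set Z := F ⊓ Subgroup.centralizer (F : Set G) with hZdef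
  have hFH : F ≤ H := Subgroup.map_subtype_le _
  have hMH : M ≤ H := hM.trans hFH
  have hnormal : ∀ {X Y : Subgroup G}, IsCoatom X → Y ≤ X → Y ≠ ⊥ →
      X ≤ Subgroup.normalizer (Y : Set G) → Subgroup.normalizer (Y : Set G) = X := by
    intro X Y hX hYX hY hXY
    refine ((eq_or_lt_of_le hXY).resolve_right fun hlt => ?_).symm
    exact minSimple_normalizer_ne_top hG hY (fun h => hX.1 (top_le_iff.1 (h ▸ hYX))) (hX.2 _ hlt)
  have hXn : ∀ (π : Set ℕ) (X : Subgroup G), X ≤ Subgroup.normalizer (Cfsg.piCoreOf π X : Set G) :=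
    fun π X => Subgroup.le_normalizer.trans (le_normalizer_piCoreOf π X)
  -- `O_{π'}` of every subgroup over `M` is trivial
  have hcore : ∀ X : Subgroup G, M ≤ X → Cfsg.piCoreOf π' X = ⊥ := fun X hX =>
    hinv _ ⟨le_top, piCoreOf_spec _ _, hX.trans (hXn _ _)⟩
  -- the pieces `W_p`, `W_q` commute
  have hcomm : ∀ X : Subgroup G, M ≤ X → ∀ p q : ℕ, p ≠ q →
      Cfsg.piCoreOf (onePrime n p) X ≤ Subgroup.centralizer (Cfsg.piCoreOf (onePrime n q) X : Set G) := by
    intro X hX p q hpq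
    set A := Cfsg.piCoreOf (onePrime n p) X with hA
    set B := Cfsg.piCoreOf (onePrime n q) X with hB
    have hAB : A ⊓ B = ⊥ := by
      rw [eq_bot_iff, ← hcore X hX]
      refine le_piCoreOf (inf_le_left.trans (piCoreOf_le _ _)) ?_ ?_
      · exact (le_inf (hXn _ _) (hXn _ _)).trans Subgroup.inf_normalizer_le_normalizer_inf
      · intro s hs hd
        rcases piCoreOf_spec _ X s hs (hd.trans (Subgroup.card_dvd_of_le inf_le_left)) with h | h
        · rcases piCoreOf_spec _ X s hs (hd.trans (Subgroup.card_dvd_of_le inf_le_right)) with h' | h'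
          · exact absurd (h.symm.trans h') hpq
          · exact h'
        · exact h
    intro a ha
    rw [Subgroup.mem_centralizer_iff]
    intro b hb
    have haX : a ∈ X := piCoreOf_le _ _ ha
    have hbX : b ∈ X := piCoreOf_le _ _ hb
    have hc : b * a * b⁻¹ * a⁻¹ ∈ A ⊓ B := by
      refine ⟨A.mul_mem ((Subgroup.mem_normalizer_iff.1 (hXn _ _ hbX) a).1 ha) (A.inv_mem ha), ?_⟩
      have e : b * a * b⁻¹ * a⁻¹ = b * (a * b⁻¹ * a⁻¹) := by group
      rw [e]
      exact B.mul_mem hb ((Subgroup.mem_normalizer_iff.1 (hXn _ _ haX) b⁻¹).1 (B.inv_mem hb))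
    rw [hAB, Subgroup.mem_bot] at hc
    exact mul_inv_eq_iff_eq_mul.1 (mul_inv_eq_one.1 hc)
  -- the central pieces `Z_r`
  have hHZ : H ≤ Subgroup.normalizer (Z : Set G) := by
    have hHF : H ≤ Subgroup.normalizer (F : Set G) := by
      intro x hx
      have := CfsgLib.Solvable.fittingSubgroup_normal (G := H)
      have h' : (⟨x, hx⟩ : H) ∈ Subgroup.normalizer (Cfsg.fittingSubgroup H : Set H) := by
        rw [Subgroup.normalizer_eq_top]; exact Subgroup.mem_top _
      exact Subgroup.le_normalizer_map H.subtype ⟨_, h', rfl⟩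
    refine le_trans (le_inf hHF ?_) Subgroup.inf_normalizer_le_normalizer_inf
    refine hHF.trans fun g hg => ?_
    rw [Subgroup.mem_normalizer_iff]
    intro v
    rw [Subgroup.mem_centralizer_iff, Subgroup.mem_centralizer_iff]
    constructor
    · intro h a ha
      have ha' : g⁻¹ * a * g ∈ F := (Subgroup.mem_normalizer_iff''.1 hg a).1 ha
      calc a * (g * v * g⁻¹) = g * ((g⁻¹ * a * g) * v) * g⁻¹ := by group
        _ = g * (v * (g⁻¹ * a * g)) * g⁻¹ := by rw [h _ ha']
        _ = _ := by group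
    · intro h a ha
      have := h _ ((Subgroup.mem_normalizer_iff.1 hg a).1 ha)
      calc a * v = g⁻¹ * ((g * a * g⁻¹) * (g * v * g⁻¹)) * g := by group
        _ = g⁻¹ * ((g * v * g⁻¹) * (g * a * g⁻¹)) * g := by rw [this]
        _ = _ := by group
  set Zr : ℕ → Subgroup G := fun r => Cfsg.piCoreOf {r} Z with hZr
  have hZrM : ∀ r, Zr r ≤ M := fun r => (piCoreOf_le _ _).trans hZM
  have hZrn : ∀ r, H ≤ Subgroup.normalizer (Zr r : Set G) := fun r =>
    hHZ.trans (le_normalizer_piCoreOf _ _)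
  have hZrp : ∀ r, r.Prime → IsPGroup r (Zr r) := fun r hr =>
    IsPGroup.of_card (n := (Nat.card (Zr r)).primeFactorsList.length)
      (Nat.eq_prime_pow_of_unique_prime_dvd Nat.card_pos.ne'
        fun {s} hs hd => piCoreOf_spec _ _ s hs hd)
  have hZr1 : ∀ r, r.Prime → r ∣ n → Zr r ≠ ⊥ := by
    intro r hr hrn
    haveI := Fact.mk hr
    haveI : Group.IsNilpotent F := by
      have := CfsgLib.Solvable.fittingSubgroup_isNilpotent (G := H)
      exact (Group.nilpotent_of_mulEquiv ((Cfsg.fittingSubgroup H).equivMapOfInjective _ H.subtype_injective))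
    obtain ⟨S⟩ : Nonempty (Sylow r F) := inferInstance
    haveI : (S : Subgroup F).Normal :=
      ((Group.isNilpotent_of_finite_tfae (G := F)).out 0 3 rfl rfl).mp inferInstance r inferInstance S
    have hS : (S : Subgroup F) ≠ ⊥ := S.ne_bot_of_dvd_card hrn
    obtain ⟨x, hx, hx1⟩ := ((S : Subgroup F) ⊓ Subgroup.center F).bot_or_exists_ne_one.resolve_left
      (CfsgLib.Solvable.normal_inf_center_ne_bot (S : Subgroup F) hS)
    intro hb
    have hxp : IsPGroup r (Subgroup.zpowers (x : G)) := by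
      have := (S.2.to_le (Subgroup.zpowers_le.2 hx.1)).map F.subtype
      rwa [MonoidHom.map_zpowers] at this
    have hxZ : (x : G) ∈ Z := ⟨x.2, Subgroup.mem_centralizer_iff.2 fun a ha =>
      congrArg Subtype.val (Subgroup.mem_center_iff.1 hx.2 ⟨a, ha⟩)⟩
    have hle : Subgroup.zpowers (x : G) ≤ Zr r := by
      refine le_piCoreOf (Subgroup.zpowers_le.2 hxZ) ?_ ?_
      · refine le_normalizer_of_le_centralizer fun z hz => ?_
        rw [Subgroup.mem_centralizer_iff]
        rintro _ ⟨k, rfl⟩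
        exact ((show Commute (x : G) z from (Subgroup.mem_centralizer_iff.1 hz.2 _ x.2)).zpow_left k).eq
      · intro s hs hd
        obtain ⟨k, hk⟩ := IsPGroup.iff_card.1 hxp
        rw [hk] at hd
        exact (Nat.prime_dvd_prime_iff_eq hs hr).1 (hs.dvd_of_dvd_pow hd)
    exact hx1 (Subtype.ext (Subgroup.mem_bot.1 (hb ▸ hle (Subgroup.mem_zpowers (x : G)))))
  have hNZ : ∀ r, r.Prime → r ∣ n → Subgroup.normalizer (Zr r : Set G) = H := fun r hr hrn =>
    hnormal hH ((hZrM r).trans hMH) (hZr1 r hr hrn) (hZrn r)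
  -- transfer of cores between `H` and `L`
  have hsolv : ∀ X : Subgroup G, IsCoatom X → Group.IsSolvable X := fun X hX =>
    minSimple_isSolvable hG hX.1
  have transfer : ∀ X X' P Y : Subgroup G, ∀ r : ℕ, r.Prime → IsCoatom X → P ≤ X → IsPGroup r P →
      Subgroup.normalizer (P : Set G) = X' → Y ≤ X → Y ≤ X' → X ⊓ X' ≤ Subgroup.normalizer (Y : Set G) →
      (∀ s : ℕ, s.Prime → s ∣ Nat.card Y → s ≠ r) → Y ≤ Cfsg.piCoreOf (offPrime r) X := by
    intro X X' P Y r hr hX hPX hP hN hYX hYX' hn hY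
    haveI := Fact.mk hr
    exact (le_piCoreOf_of_local (hsolv X hX) hPX hP hYX (hN.symm ▸ hYX') (hN.symm ▸ hn)
      (Nat.Coprime.symm (hr.coprime_iff_not_dvd.2 fun hd => hY r hr hd rfl))).trans (pPrimeCore_map_le r X)
  set W := fun (X : Subgroup G) (q : ℕ) => Cfsg.piCoreOf (onePrime n q) X with hW
  -- `Z_q ≤ W_q(L)`
  have hZW : ∀ q, q.Prime → q ∣ n → Zr q ≤ W L q := by
    intro q hq hqn
    refine le_onePrime ((hZrM q).trans hML) fun r hr hrn hrq => ?_
    refine transfer L H (Zr r) (Zr q) r hr hL ((hZrM r).trans hML) (hZrp r hr) (hNZ r hr hrn)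
      ((hZrM q).trans hML) ((hZrM q).trans hMH) (inf_le_right.trans (hZrn q)) fun s hs hd => ?_
    rw [show s = q from piCoreOf_spec _ _ s hs hd]
    exact hrq.symm
  have other : ∀ q : ℕ, ∃ p : ℕ, p.Prime ∧ p ∣ n ∧ p ≠ q := by
    intro q
    obtain ⟨p, hp, hpq⟩ := Finset.exists_mem_ne (by omega : 1 < n.primeFactors.card) q
    exact ⟨p, Nat.prime_of_mem_primeFactors hp, Nat.dvd_of_mem_primeFactors hp, hpq⟩
  -- `O_q(L)`
  set Lq := fun q : ℕ => Cfsg.piCoreOf {q} L with hLq
  have hLq1 : ∀ q, q.Prime → q ∣ n → Lq q ≠ ⊥ := by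
    intro q hq hqn hb
    have hne : W L q ≠ ⊥ := fun h => hZr1 q hq hqn (eq_bot_iff.2 (h ▸ hZW q hq hqn))
    obtain ⟨r, K, hr, hKW, hK, hKp, hKn, -⟩ := CfsgLib.Coprime.exists_invariant_normal_pgroup
      (A := L) (hXn (onePrime n q) L) (CfsgLib.Coprime.isSolvable_of_le (hsolv L hL) (piCoreOf_le _ _)) hne
    haveI := Fact.mk hr
    obtain ⟨k, hk⟩ := IsPGroup.iff_card.1 hKp
    have hKr : ∀ s : ℕ, s.Prime → s ∣ Nat.card K → s = r := fun s hs hd =>
      (Nat.prime_dvd_prime_iff_eq hs hr).1 (hs.dvd_of_dvd_pow (hk ▸ hd))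
    have hk0 : r ∣ Nat.card K := by
      rcases k with _ | k
      · exact absurd (Subgroup.eq_bot_of_card_eq _ (by rw [hk, pow_zero])) hK
      · rw [hk]; exact dvd_pow_self r (Nat.succ_ne_zero _)
    apply hK
    rcases piCoreOf_spec _ L r hr (hk0.trans (Subgroup.card_dvd_of_le hKW)) with h | h
    · rw [eq_bot_iff, ← hb]
      exact le_piCoreOf (hKW.trans (piCoreOf_le _ _)) hKn fun s hs hd => (hKr s hs hd).trans h
    · rw [eq_bot_iff, ← hcore L hML]
      exact le_piCoreOf (hKW.trans (piCoreOf_le _ _)) hKn fun s hs hd => by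
        rw [hKr s hs hd]; exact h
  have hNL : ∀ q, q.Prime → q ∣ n → Subgroup.normalizer (Lq q : Set G) = L := fun q hq hqn =>
    hnormal hL (piCoreOf_le _ _) (hLq1 q hq hqn) (hXn _ _)
  have hLqW : ∀ q, Lq q ≤ W L q := fun q =>
    piCoreOf_mono L fun s hs => Or.inl hs
  have hLqH : ∀ p, Lq p ≤ H := by
    intro p
    obtain ⟨q, hq, hqn, hqp⟩ := other p
    rw [← hNZ q hq hqn]
    exact le_normalizer_of_le_centralizer ((hLqW p).trans
      ((hcomm L hML p q hqp.symm).trans (Subgroup.centralizer_le (hZW q hq hqn))))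
  have hLqp : ∀ r, r.Prime → IsPGroup r (Lq r) := fun r hr =>
    IsPGroup.of_card (n := (Nat.card (Lq r)).primeFactorsList.length)
      (Nat.eq_prime_pow_of_unique_prime_dvd Nat.card_pos.ne'
        fun {s} hs hd => piCoreOf_spec _ _ s hs hd)
  -- `O_p(L) ≤ W_p(H)`
  have hLW : ∀ p, p.Prime → p ∣ n → Lq p ≤ W H p := by
    intro p hp hpn
    refine le_onePrime (hLqH p) fun r hr hrn hrp => ?_
    refine transfer H L (Lq r) (Lq p) r hr hH (hLqH r) (hLqp r hr) (hNL r hr hrn) (hLqH p)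
      (piCoreOf_le _ _) (inf_le_right.trans (hXn _ _)) fun s hs hd => ?_
    rw [show s = p from piCoreOf_spec _ _ s hs hd]
    exact hrp.symm
  have hWL : ∀ q, W H q ≤ L := by
    intro q
    obtain ⟨p, hp, hpn, hpq⟩ := other q
    rw [← hNL p hp hpn]
    exact le_normalizer_of_le_centralizer
      ((hcomm H hMH q p hpq.symm).trans (Subgroup.centralizer_le (hLW p hp hpn)))
  have hWH : ∀ q, W L q ≤ H := by
    intro q
    obtain ⟨p, hp, hpn, hpq⟩ := other q
    rw [← hNZ p hp hpn]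
    exact le_normalizer_of_le_centralizer
      ((hcomm L hML q p hpq.symm).trans (Subgroup.centralizer_le (hZW p hp hpn)))
  have hWs : ∀ X : Subgroup G, ∀ q r : ℕ, r.Prime → r ∣ n → r ≠ q → ∀ s : ℕ, s.Prime →
      s ∣ Nat.card (W X q) → s ≠ r := by
    intro X q r _ hrn hrq s hs hd
    rcases piCoreOf_spec _ X s hs hd with h | h
    · exact h ▸ hrq.symm
    · exact fun e => h.2 (e ▸ hrn)
  -- `W_q(H) = W_q(L)`
  obtain ⟨q, hq, hqn, -⟩ := other 0
  have hEq : W H q = W L q := by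
    refine le_antisymm (le_onePrime (hWL q) fun r hr hrn hrq => ?_)
      (le_onePrime (hWH q) fun r hr hrn hrq => ?_)
    · exact transfer L H (Zr r) (W H q) r hr hL ((hZrM r).trans hML) (hZrp r hr) (hNZ r hr hrn)
        (hWL q) (piCoreOf_le _ _) (inf_le_right.trans (hXn _ _)) (hWs H q r hr hrn hrq)
    · exact transfer H L (Lq r) (W L q) r hr hH (hLqH r) (hLqp r hr) (hNL r hr hrn)
        (hWH q) (piCoreOf_le _ _) (inf_le_right.trans (hXn _ _)) (hWs L q r hr hrn hrq)
  have hWne : W L q ≠ ⊥ := fun h => hZr1 q hq hqn (eq_bot_iff.2 (h ▸ hZW q hq hqn))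
  have h1 := hnormal hL (piCoreOf_le _ _) hWne (hXn _ _)
  have h2 := hnormal hH (piCoreOf_le _ _) (hEq ▸ hWne) (hXn _ _)
  rw [← h1, ← h2]
  show Subgroup.normalizer ((W L q : Subgroup G) : Set G) = Subgroup.normalizer ((W H q : Subgroup G) : Set G)
  rw [hEq]


/-- Let G be a minimal simple group of odd order, H a maximal subgroup whose Fitting subgroup F has at least two prime divisors, and M a subgroup of F containing the centre of F such that the only M-invariant subgroup of G of order coprime to #F is the trivial one. Then H is the only maximal subgroup of G containing M. -/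
theorem result {G : Type*} [Group G] [Finite G] (hG : Cfsg.IsMinSimpleOddOrder G) (H : Subgroup G) (hH : IsCoatom H) (hF2 : 2 ≤ (Nat.card (Cfsg.fittingOf H)).primeFactors.card)
    (M : Subgroup G) (hM : M ≤ Cfsg.fittingOf H) (hZM : Cfsg.fittingOf H ⊓ Subgroup.centralizer (Cfsg.fittingOf H : Set G) ≤ M)
    (hinv : ∀ Y ∈ Cfsg.invSubgroups ⊤ M (Cfsg.primesNotDvd (Nat.card (Cfsg.fittingOf H))), Y = ⊥) :
    ∀ L : Subgroup G, IsCoatom L → M ≤ L → L = H := by
  exact fun L hL hML => uniqueness hG hH hF2 hM hZM hinv hL hML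

end Cfsg.Agent.S1482
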