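import Cfsg.Statements.S1485
import Cfsg.Agent.Lib.Clifford.Correspondence

set_option autoImplicit false
open Cfsg

namespace Cfsg.Agent.S1485

/-- Let H be a normal subgroup of the finite group G and θ an irreducible character of H. On H, the function induced from θ equals r times the sum of the distinct G-conjugates of θ, where r is the number of elements of G fixing θ under conjugation divided by the order of H (the index of H in the inertia group). -/
theorem result {G : Type*} [Group G] [Fintype G] (H : Subgroup G) [hN : H.Normal] (θ : H → ℂ) (hθ : Cfsg.IsIrrCharacter H θ) : (fun h : H => Cfsg.indFun H θ h) = ((Nat.card {g : G // ∀ h : H, θ ⟨g * h * g⁻¹, hN.conj_mem h h.2 g⟩ = θ h} : ℂ) / (Nat.card H : ℂ)) • ∑ᶠ ψ ∈ {ψ : H → ℂ | ∃ g : G, ψ = fun h : H => θ ⟨g * h * g⁻¹, hN.conj_mem h h.2 g⟩}, ψ := by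
  classical
  have := Fintype.ofFinite H
  let c : G → (H → ℂ) := fun x => CfsgLib.Clifford.conjFn x θ
  have hset : {ψ : H → ℂ | ∃ g : G, ψ = fun h : H => θ ⟨g * h * g⁻¹, hN.conj_mem h h.2 g⟩} =
      ↑(Finset.univ.image c) := by
    ext ψ; simp [c, eq_comm]; rfl
  rw [CfsgLib.Clifford.indFun_restrict, hset, finsum_mem_coe_finset, div_eq_mul_inv, mul_comm,
    mul_smul]
  congr 1
  rw [Finset.smul_sum]
  change ∑ x : G, c x = _
  rw [← Finset.sum_fiberwise_of_maps_to
    (fun x _ => Finset.mem_image_of_mem c (Finset.mem_univ x)) c]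
  refine Finset.sum_congr rfl fun ψ hψ => ?_
  obtain ⟨g, -, rfl⟩ := Finset.mem_image.mp hψ
  rw [Finset.sum_congr rfl (fun x hx => (Finset.mem_filter.mp hx).2), Finset.sum_const,
    ← Nat.cast_smul_eq_nsmul ℂ]
  congr 2
  rw [Nat.card_eq_fintype_card, Fintype.card_subtype]
  refine Finset.card_equiv (Equiv.mulRight g⁻¹) fun x => ?_
  simp only [Finset.mem_filter, Finset.mem_univ, true_and, Equiv.coe_mulRight]
  change CfsgLib.Clifford.conjFn x θ = CfsgLib.Clifford.conjFn g θ ↔
    x * g⁻¹ ∈ CfsgLib.Clifford.inertia θ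
  rw [CfsgLib.Clifford.mem_inertia_iff_conjFn, ← CfsgLib.Clifford.conjFn_conjFn]
  constructor
  · intro h
    rw [h, CfsgLib.Clifford.conjFn_conjFn, mul_inv_cancel, CfsgLib.Clifford.conjFn_one]
  · intro h
    rw [← congr_arg (CfsgLib.Clifford.conjFn g) h, CfsgLib.Clifford.conjFn_conjFn,
      CfsgLib.Clifford.conjFn_conjFn, ← mul_assoc]
    congr 1; group

end Cfsg.Agent.S1485
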