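import Cfsg.Statements.S1487
import Cfsg.Agent.Lib.Clifford.Constituents

set_option autoImplicit false
open Cfsg

namespace Cfsg.Agent.S1487

/-- Let A ≤ H be normal subgroups of the finite group G and θ an irreducible character of H. Then θ takes the value θ 1 on all of A if and only if the function induced from θ to G takes its value at 1 on all of A. -/
theorem result {G : Type*} [Group G] [Fintype G] (A H : Subgroup G) [A.Normal] [H.Normal] (hAH : A ≤ H) (θ : H → ℂ) (hθ : Cfsg.IsIrrCharacter H θ) : (∀ a : H, (a : G) ∈ A → θ a = θ 1) ↔ (∀ a : G, a ∈ A → Cfsg.indFun H θ a = Cfsg.indFun H θ 1) := by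
  have := Fintype.ofFinite H
  constructor
  · intro h a ha
    rw [CfsgLib.Char.indFun_apply_one, CfsgLib.Char.indFun_def,
      Finset.sum_congr rfl (g := fun _ => θ 1) (fun x _ => by
        have hmem : x⁻¹ * a * x ∈ A := (inferInstance : A.Normal).conj_mem' a ha x
        rw [CfsgLib.Char.extendByZero_of_mem θ (hAH hmem)]
        exact h ⟨_, hAH hmem⟩ hmem),
      Finset.sum_const, Finset.card_univ, nsmul_eq_mul, ← Nat.card_eq_fintype_card,
      ← H.index_mul_card, Nat.cast_mul]
    have : (Nat.card H : ℂ) ≠ 0 := by exact_mod_cast Nat.card_pos.ne'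
    field_simp
  · intro h a ha
    have hF : Cfsg.IsCharacter G (Cfsg.indFun H θ) :=
      CfsgLib.Char.isCharacter_indFun H (CfsgLib.Char.irr_isCharacter hθ)
    refine CfsgLib.Clifford.constituent_eq_one (CfsgLib.Char.isCharacter_restrict hF H) hθ ?_
      (by simpa using h a ha)
    rw [CfsgLib.Clifford.classInner_indFun_restrict hθ hθ]
    refine mul_ne_zero (inv_ne_zero (by exact_mod_cast Nat.card_pos.ne')) ?_
    have : Nonempty {x : G // CfsgLib.Clifford.conjFn x θ = θ} :=
      ⟨⟨1, CfsgLib.Clifford.conjFn_one θ⟩⟩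
    exact_mod_cast Nat.card_pos.ne'

end Cfsg.Agent.S1487
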