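import Cfsg.Statements.S1488
import Mathlib
import Cfsg.Agent.Lib.Char.Induce

set_option autoImplicit false
open Cfsg

namespace Cfsg.Agent.S1488

/-- Let A be a normal subgroup of the finite group G contained in the subgroup H, let θ be a function on H and θ₁ a function on the image of H in G ⧸ A whose composite with the projection is θ. Then the function induced from θ₁ to G ⧸ A, composed with the projection G → G ⧸ A, equals the function induced from θ to G. -/
theorem result {G : Type*} [Group G] [Fintype G] (A H : Subgroup G) [A.Normal] (hAH : A ≤ H) [Fintype (G ⧸ A)] [Fintype ↥(H.map (QuotientGroup.mk' A))] (θ : H → ℂ) (θ₁ : ↥(H.map (QuotientGroup.mk' A)) → ℂ) (hθ : ∀ x : H, θ₁ ⟨QuotientGroup.mk' A x, Subgroup.mem_map_of_mem _ x.2⟩ = θ x) (g : G) : Cfsg.indFun (H.map (QuotientGroup.mk' A)) θ₁ (QuotientGroup.mk' A g) = Cfsg.indFun H θ g := by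
  classical
  let π := QuotientGroup.mk' A
  have hmem : ∀ y : G, π y ∈ H.map π ↔ y ∈ H := by
    intro y
    refine ⟨fun ⟨z, hz, he⟩ => ?_, fun h => Subgroup.mem_map_of_mem _ h⟩
    have := H.mul_mem hz (hAH (QuotientGroup.eq.mp he))
    simpa using this
  have hext : ∀ y : G, Cfsg.extendByZero (H.map π) θ₁ (π y) = Cfsg.extendByZero H θ y := by
    intro y
    by_cases h : y ∈ H
    · rw [CfsgLib.Char.extendByZero_of_mem θ h, CfsgLib.Char.extendByZero_of_mem θ₁ ((hmem y).mpr h),
        ← hθ ⟨y, h⟩]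
    · rw [CfsgLib.Char.extendByZero_of_not_mem θ h, CfsgLib.Char.extendByZero_of_not_mem θ₁ (mt (hmem y).mp h)]
  have hsum : ∀ F : G ⧸ A → ℂ, ∑ x : G, F (π x) = (Nat.card A : ℂ) * ∑ q, F q := by
    intro F
    rw [← Finset.sum_fiberwise Finset.univ π, Finset.mul_sum]
    refine Finset.sum_congr rfl fun q _ => ?_
    rw [Finset.sum_congr rfl (fun x hx => by rw [(Finset.mem_filter.mp hx).2]), Finset.sum_const, nsmul_eq_mul]
    congr 2
    rw [← Fintype.card_subtype, ← Nat.card_eq_fintype_card]
    obtain ⟨x₀, rfl⟩ := QuotientGroup.mk'_surjective A q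
    exact Nat.card_congr
      { toFun := fun x => ⟨x₀⁻¹ * x.1, QuotientGroup.eq.mp x.2.symm⟩
        invFun := fun a => ⟨x₀ * a, (QuotientGroup.eq.mpr (by simp)).symm⟩
        left_inv := fun x => by ext; simp
        right_inv := fun a => by ext; simp }
  have hcard : Nat.card H = Nat.card A * Nat.card (H.map π) := by
    have h1 := H.index_mul_card
    have h2 := (H.map π).index_mul_card
    rw [Subgroup.index_map_eq _ (QuotientGroup.mk'_surjective A) (by simpa [π] using hAH),
      show Nat.card (G ⧸ A) = A.index from rfl] at h2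
    rw [← A.index_mul_card, ← h2, mul_assoc] at h1
    rw [mul_comm (Nat.card A)]
    exact Nat.eq_of_mul_eq_mul_left (Nat.pos_of_ne_zero H.index_ne_zero_of_finite) h1
  simp only [Cfsg.indFun]
  have := hsum fun q => Cfsg.extendByZero (H.map π) θ₁ (q⁻¹ * π g * q)
  simp only [← map_inv, ← map_mul, hext] at this
  change _ = (Nat.card H : ℂ)⁻¹ * _
  rw [this, hcard, Nat.cast_mul]
  have hA : (Nat.card A : ℂ) ≠ 0 := Nat.cast_ne_zero.mpr Nat.card_pos.ne'
  field_simp
  rfl

end Cfsg.Agent.S1488
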