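import Cfsg.Statements.S1492
import Mathlib
import Cfsg.Agent.Lib.Clifford.Constituents
import Cfsg.Agent.Lib.Char.Induce
import Cfsg.Agent.Lib.Char.Linear

set_option autoImplicit false
open Cfsg

namespace Cfsg.Agent.S1492

/-- Let ψ be an irreducible character of the finite group G and B ≤ D ≤ C subgroups with B normal in C, every commutator of an element of D with an element of C lying in B (so D/B is central in C/B), and ψ constant equal to ψ 1 on B. Then ψ(1) ^ 2 * |C| * |D| ≤ |G| ^ 2. -/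
theorem result {G : Type*} [Group G] [Finite G] (ψ : G → ℂ) (hψ : Cfsg.IsIrrCharacter G ψ) (B C D : Subgroup G) (hBD : B ≤ D) (hDC : D ≤ C) (hBn : ∀ c ∈ C, ∀ b ∈ B, c * b * c⁻¹ ∈ B) (hcent : ∀ d ∈ D, ∀ c ∈ C, d * c * d⁻¹ * c⁻¹ ∈ B) (hker : ∀ b ∈ B, ψ b = ψ 1) : ‖ψ 1‖ ^ 2 * (Nat.card C : ℝ) * (Nat.card D : ℝ) ≤ (Nat.card G : ℝ) ^ 2 := by
  classical
  have := Fintype.ofFinite G
  have := Fintype.ofFinite C
  have hF : Cfsg.IsCharacter C (fun c : C => ψ c) :=
    CfsgLib.Char.isCharacter_restrict (CfsgLib.Char.irr_isCharacter hψ) C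
  obtain ⟨θ, hθ, hne⟩ := CfsgLib.Clifford.exists_irr_constituent hF fun h0 =>
    CfsgLib.Char.irr_apply_one_ne_zero hψ (congr_fun h0 1)
  obtain ⟨n, ρ, hρ, rfl⟩ := hθ
  have hθ' : Cfsg.IsIrrCharacter C ρ.character := ⟨n, ρ, hρ, rfl⟩
  have hBρ : ∀ c : C, (c : G) ∈ B → ρ c = 1 := fun c hc =>
    MonoidHom.mem_ker.mp ((CfsgLib.Char.mem_ker_iff_char ρ c).mpr
      (CfsgLib.Clifford.constituent_eq_one hF hθ' hne (by simpa using hker _ hc)))
  have hnorm : ∀ d : C, (d : G) ∈ D → ‖ρ.character d‖ = (n : ℝ) := by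
    intro d hd
    have hT : ∀ c : C, ρ d * ρ c = ρ c * ρ d := by
      intro c
      have := hBρ (d * c * d⁻¹ * c⁻¹) (by simpa using hcent _ hd _ c.2)
      calc ρ d * ρ c = ρ (d * c * d⁻¹ * c⁻¹ * (c * d)) := by rw [← map_mul]; congr 1; group
        _ = ρ c * ρ d := by rw [map_mul, this, one_mul, map_mul]
    obtain ⟨k, hk⟩ := (Representation.IsIrreducible.algebraMap_intertwiningMap_bijective_of_isAlgClosed
      (ρ := ρ) (k := ℂ)).2 (⟨ρ d, fun c => hT c⟩ : Representation.IntertwiningMap ρ ρ)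
    have hk : ρ d = k • LinearMap.id := LinearMap.ext fun v => by
      have := congr_arg (fun J : Representation.IntertwiningMap ρ ρ => J.toLinearMap v) hk
      simpa [Algebra.algebraMap_eq_smul_one] using this.symm
    have hnt := CfsgLib.Char.nontrivial_of_isIrreducible ρ
    have hpow : k ^ Nat.card C = 1 := by
      have e : ρ d ^ Nat.card C = 1 := by rw [← map_pow, pow_card_eq_one', map_one]
      rw [hk, smul_pow] at e
      obtain ⟨v, hv⟩ := exists_ne (0 : Fin n → ℂ)
      have e2 := LinearMap.congr_fun e v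
      rw [show (LinearMap.id : (Fin n → ℂ) →ₗ[ℂ] _) = 1 from rfl, one_pow] at e2
      simp only [LinearMap.smul_apply, Module.End.one_apply] at e2
      exact smul_left_injective ℂ hv (e2.trans (one_smul ℂ v).symm)
    rw [Representation.character, hk, map_smul, LinearMap.trace_id, smul_eq_mul, norm_mul,
      Complex.norm_eq_one_of_pow_eq_one hpow Nat.card_pos.ne']
    simp
  have h1 := CfsgLib.Char.irr_classInner_self hθ'
  rw [CfsgLib.Char.classInner_self_eq_norm, Complex.ofReal_eq_one, inv_mul_eq_one₀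
    (Nat.cast_ne_zero.mpr Nat.card_pos.ne')] at h1
  have hsq : (Nat.card D : ℝ) * (n : ℝ) ^ 2 ≤ Nat.card C := by
    rw [h1]
    refine le_trans (le_of_eq ?_) (Finset.sum_le_univ_sum_of_nonneg
      (s := Finset.univ.filter fun c : C => (c : G) ∈ D) fun _ => by positivity)
    rw [Finset.sum_congr rfl (fun c hc => by rw [hnorm c (Finset.mem_filter.mp hc).2]),
      Finset.sum_const, nsmul_eq_mul]
    congr 2
    rw [← Fintype.card_subtype, ← Nat.card_eq_fintype_card]
    exact Nat.card_congr ((Subgroup.subgroupOfEquivOfLe hDC).symm.toEquiv)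
  have hind := CfsgLib.Char.isCharacter_indFun C (CfsgLib.Char.irr_isCharacter hθ')
  obtain ⟨l, hl, hle⟩ := CfsgLib.Char.isCharacter_exists_multiset hind
  have hmem : ψ ∈ l := by
    by_contra hn
    apply hne
    have h0 : Cfsg.classInner (Cfsg.indFun C ρ.character) ψ = 0 := by
      rw [hle]
      clear hle
      induction l using Multiset.induction with
      | empty => exact CfsgLib.Char.classInner_zero_left _
      | cons a m ih =>
        rw [Multiset.sum_cons, CfsgLib.Char.classInner_add_left,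
          ih (fun x hx => hl x (Multiset.mem_cons_of_mem hx)) (fun h => hn (Multiset.mem_cons_of_mem h)),
          CfsgLib.Char.irr_classInner_ne (hl a (Multiset.mem_cons_self a m)) hψ
            (fun h => hn (h ▸ Multiset.mem_cons_self a m)), add_zero]
    rw [CfsgLib.Char.frobenius_reciprocity C _ _ (CfsgLib.Char.irr_isClassFunction hψ)] at h0
    rw [← CfsgLib.Char.classInner_conj_symm, h0, map_zero]
  obtain ⟨m, rfl⟩ := Multiset.exists_cons_of_mem hmem
  have hR : Cfsg.IsCharacter G m.sum := CfsgLib.Char.isCharacter_multiset_sum fun x hx =>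
    CfsgLib.Char.irr_isCharacter (hl x (Multiset.mem_cons_of_mem hx))
  obtain ⟨a, ha⟩ := CfsgLib.Char.char_apply_one_eq_nat (CfsgLib.Char.irr_isCharacter hψ)
  obtain ⟨b, hb⟩ := CfsgLib.Char.char_apply_one_eq_nat hR
  have h2 : ((C.index * n : ℕ) : ℂ) = ((a + b : ℕ) : ℂ) := by
    have := congr_fun hle 1
    rw [CfsgLib.Char.indFun_apply_one, Multiset.sum_cons, Pi.add_apply, ha, hb,
      Representation.char_one] at this
    simpa using this
  have h3 : (a : ℝ) ≤ (C.index : ℝ) * n := by
    have : C.index * n = a + b := by exact_mod_cast h2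
    exact_mod_cast (by omega : a ≤ C.index * n)
  have h4 : (C.index : ℝ) * Nat.card C = Nat.card G := by exact_mod_cast C.index_mul_card
  rw [ha, Complex.norm_natCast]
  calc (a : ℝ) ^ 2 * (Nat.card C : ℝ) * (Nat.card D : ℝ)
      ≤ ((C.index : ℝ) * n) ^ 2 * Nat.card C * Nat.card D := by gcongr
    _ = (C.index : ℝ) ^ 2 * Nat.card C * ((Nat.card D : ℝ) * (n : ℝ) ^ 2) := by ring
    _ ≤ (C.index : ℝ) ^ 2 * Nat.card C * Nat.card C := by gcongr
    _ = (Nat.card G : ℝ) ^ 2 := by rw [← h4]; ring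

end Cfsg.Agent.S1492
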