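import Cfsg.Statements.S1493
import Cfsg.Agent.Lib.BlockA.Galois
import Cfsg.Agent.Lib.Char.Basic

set_option autoImplicit false
open Cfsg

namespace Cfsg.Agent.S1493

/-- Let G be a finite group of order a * b with a and b coprime, let k be coprime to a, and let χ be a character of G. Then there is a character χ' of G such that χ'(g) = χ(g ^ k) whenever the order of g divides a and χ'(g) = χ(g) whenever the order of g is coprime to a; moreover χ' is irreducible if χ is. -/
theorem result {G : Type*} [Group G] [Finite G] (a b k : ℕ) (hab : Nat.card G = a * b) (hcop : Nat.Coprime a b) (hk : Nat.Coprime k a) (χ : G → ℂ) (hχ : Cfsg.IsCharacter G χ) : ∃ χ' : G → ℂ, Cfsg.IsCharacter G χ' ∧ (Cfsg.IsIrrCharacter G χ → Cfsg.IsIrrCharacter G χ') ∧ (∀ g : G, orderOf g ∣ a → χ' g = χ (g ^ k)) ∧ (∀ g : G, Nat.Coprime (orderOf g) a → χ' g = χ g) := by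
  classical
  have : Fintype G := Fintype.ofFinite G
  obtain ⟨m, hm1, hm2⟩ := Nat.chineseRemainder hcop k 1
  have hm : m.Coprime (Nat.card G) := by
    rw [hab]
    refine Nat.Coprime.mul_right ?_ ?_
    · show Nat.gcd m a = 1
      exact hm1.gcd_eq.trans hk
    · exact hm2.gcd_eq.trans (Nat.gcd_one_left b)
  refine ⟨fun g => χ (g ^ m), ?_, fun h => CfsgLib.BlockA.isIrrCharacter_comp_pow hm h, ?_, ?_⟩
  · obtain ⟨l, hl, rfl⟩ := CfsgLib.Char.isCharacter_exists_multiset hχ
    have e : (fun g => l.sum (g ^ m)) = (l.map fun f : G → ℂ => fun g => f (g ^ m)).sum := by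
      funext g
      clear hl hχ
      induction l using Multiset.induction with
      | empty => simp
      | cons f l ih => simp [ih]
    rw [e]
    refine CfsgLib.Char.isCharacter_multiset_sum fun f hf => ?_
    obtain ⟨f', hf', rfl⟩ := Multiset.mem_map.mp hf
    exact CfsgLib.Char.irr_isCharacter (CfsgLib.BlockA.isIrrCharacter_comp_pow hm (hl f' hf'))
  · intro g hg
    show χ (g ^ m) = χ (g ^ k)
    rw [pow_eq_pow_iff_modEq.mpr (hm1.of_dvd hg)]
  · intro g hg
    show χ (g ^ m) = χ g
    have hb : orderOf g ∣ b := hg.dvd_of_dvd_mul_left (hab ▸ orderOf_dvd_natCard g)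
    rw [pow_eq_pow_iff_modEq.mpr (hm2.of_dvd hb), pow_one]

end Cfsg.Agent.S1493
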