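import Cfsg.Statements.S1494
import Mathlib.RingTheory.RootsOfUnity.Complex
import Cfsg.Agent.Lib.Char.Integral
import Cfsg.Agent.Lib.Char.Linear
import Cfsg.Agent.Lib.Clifford.Extension

set_option autoImplicit false
open Cfsg

namespace Cfsg.Agent.S1494

/-- Let χ be a generalized character of the finite group G, p a prime, x an element of order p and y an element commuting with x. Then χ(x * y) − χ(y) = (1 − ε) * ω for some algebraic integer ω, where ε = exp(2πi/p). -/
theorem result {G : Type*} [Group G] [Finite G] (χ : G → ℂ) (hχ : Cfsg.IsGeneralizedCharacter G χ) (p : ℕ) (hp : p.Prime) (x y : G) (hx : orderOf x = p) (hxy : x * y = y * x) : ∃ ω : ℂ, IsIntegral ℤ ω ∧ χ (x * y) - χ y = (1 - Complex.exp (2 * Real.pi * Complex.I / p)) * ω := by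
  classical
  obtain ⟨a, b, ha, hb, rfl⟩ := hχ
  let A : Subgroup G := Subgroup.closure {x, y}
  have hxA : x ∈ A := Subgroup.subset_closure (by simp)
  have hyA : y ∈ A := Subgroup.subset_closure (by simp)
  have hcomm : ∀ u v : A, u * v = v * u := by
    have hs : ∀ u ∈ ({x, y} : Set G), ∀ v ∈ ({x, y} : Set G), u * v = v * u := by
      rintro u (rfl | rfl) v (rfl | rfl) <;> simp [hxy]
    have : IsMulCommutative A := Subgroup.isMulCommutative_closure hs
    exact fun u v => this.is_comm.comm u v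
  have hε := Complex.isPrimitiveRoot_exp p hp.ne_zero
  set ε := Complex.exp (2 * Real.pi * Complex.I / p)
  let S : Set ℂ := {z | ∃ ω : ℂ, IsIntegral ℤ ω ∧ z = (1 - ε) * ω}
  have key : ∀ c : G → ℂ, Cfsg.IsCharacter G c → c (x * y) - c y ∈ S := by
    intro c hc
    obtain ⟨l, hl, hle⟩ := CfsgLib.Char.isCharacter_exists_multiset
      (CfsgLib.Char.isCharacter_restrict hc A)
    have : ∀ m : Multiset (A → ℂ), (∀ ψ ∈ m, Cfsg.IsIrrCharacter A ψ) →
        m.sum (⟨x, hxA⟩ * ⟨y, hyA⟩) - m.sum ⟨y, hyA⟩ ∈ S := by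
      intro m
      induction m using Multiset.induction with
      | empty => intro; exact ⟨0, isIntegral_zero, by simp⟩
      | cons ψ m ih =>
        intro hm
        obtain ⟨w, hw, hwe⟩ := ih fun φ hφ => hm φ (Multiset.mem_cons_of_mem hφ)
        obtain ⟨f, hf⟩ := CfsgLib.Clifford.exists_hom_of_linear
          (CfsgLib.Char.irr_isCharacter (hm ψ (Multiset.mem_cons_self ψ m)))
          (CfsgLib.Char.irr_degree_one_of_comm hcomm (hm ψ (Multiset.mem_cons_self ψ m)))
        have hfx : (f ⟨x, hxA⟩ : ℂ) ^ p = 1 := by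
          rw [← Units.val_pow_eq_pow_val, ← map_pow]
          have : (⟨x, hxA⟩ : A) ^ p = 1 := Subtype.ext (by simp [← hx, pow_orderOf_eq_one])
          rw [this, map_one, Units.val_one]
        have : NeZero p := ⟨hp.ne_zero⟩
        obtain ⟨i, -, hi⟩ := hε.eq_pow_of_pow_eq_one hfx
        refine ⟨w - (∑ j ∈ Finset.range i, ε ^ j) * (f ⟨y, hyA⟩ : ℂ), hw.sub ((IsIntegral.sum _
          fun j _ => (IsIntegral.of_pow hp.pos (by rw [hε.pow_eq_one]; exact isIntegral_one)).pow j).mul ?_), ?_⟩
        · refine IsIntegral.of_pow (orderOf_pos (⟨y, hyA⟩ : A)) ?_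
          rw [← Units.val_pow_eq_pow_val, ← map_pow, pow_orderOf_eq_one, map_one, Units.val_one]
          exact isIntegral_one
        · rw [Multiset.sum_cons, Pi.add_apply, Pi.add_apply, ← hf, ← hf, map_mul, Units.val_mul,
            mul_sub, ← mul_assoc, mul_neg_geom_sum, ← hi]
          linear_combination hwe
    have h2 := this l hl
    rw [← hle] at h2
    exact h2
  obtain ⟨w₁, h₁, e₁⟩ := key a ha
  obtain ⟨w₂, h₂, e₂⟩ := key b hb
  exact ⟨w₁ - w₂, h₁.sub h₂, by simp only [Pi.sub_apply]; linear_combination e₁ - e₂⟩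

end Cfsg.Agent.S1494
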