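import Cfsg.Statements.S1495
import Mathlib.RingTheory.Polynomial.Cyclotomic.Eval
import Mathlib.RingTheory.RootsOfUnity.Complex
import Cfsg.Agent.Lib.Char.Integral

set_option autoImplicit false
open Cfsg

namespace Cfsg.Agent.S1495

/-- Let p be a prime, ε = exp(2πi/p), and n an integer such that n = (1 − ε) * ω for some algebraic integer ω. Then p divides n. -/
theorem result (p : ℕ) (hp : p.Prime) (n : ℤ) (ω : ℂ) (hω : IsIntegral ℤ ω) (h : (n : ℂ) = (1 - Complex.exp (2 * Real.pi * Complex.I / p)) * ω) : (p : ℤ) ∣ n := by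
  have : Fact p.Prime := ⟨hp⟩
  have hε := Complex.isPrimitiveRoot_exp p hp.ne_zero
  set ε := Complex.exp (2 * Real.pi * Complex.I / p)
  have hprod : ∏ μ ∈ primitiveRoots p ℂ, (1 - μ) = (p : ℂ) := by
    have h1 := congr_arg (Polynomial.eval 1) (Polynomial.cyclotomic_eq_prod_X_sub_primitiveRoots hε)
    rw [Polynomial.eval_one_cyclotomic_prime, Polynomial.eval_prod] at h1
    simp only [Polynomial.eval_sub, Polynomial.eval_X, Polynomial.eval_C] at h1
    exact h1.symm
  have hs : ∀ μ ∈ primitiveRoots p ℂ, ∃ t : ℂ, IsIntegral ℤ t ∧ (n : ℂ) = (1 - μ) * t := by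
    intro μ hμ
    rw [mem_primitiveRoots hp.pos] at hμ
    obtain ⟨i, -, hi⟩ := hμ.eq_pow_of_pow_eq_one hε.pow_eq_one
    refine ⟨(∑ j ∈ Finset.range i, μ ^ j) * ω, (IsIntegral.sum _ fun j _ => ?_).mul hω, ?_⟩
    · exact (IsIntegral.of_pow hp.pos (by rw [hμ.pow_eq_one]; exact isIntegral_one)).pow j
    · rw [h, ← mul_assoc, mul_neg_geom_sum, hi]
  choose! t ht hnt using hs
  have hpow : (n : ℂ) ^ (primitiveRoots p ℂ).card = (p : ℂ) * ∏ μ ∈ primitiveRoots p ℂ, t μ := by
    rw [← hprod, ← Finset.prod_mul_distrib, ← Finset.prod_const]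
    exact Finset.prod_congr rfl hnt
  obtain ⟨k, hk⟩ := CfsgLib.Char.exists_int_of_isIntegral_rat
    (q := (n : ℚ) ^ (primitiveRoots p ℂ).card / p) (by
      push_cast
      rw [hpow, mul_div_cancel_left₀ _ (by exact_mod_cast hp.ne_zero)]
      exact IsIntegral.prod _ ht)
  rw [div_eq_iff (by exact_mod_cast hp.ne_zero)] at hk
  have hk' : n ^ (primitiveRoots p ℂ).card = k * p := by exact_mod_cast hk
  exact Int.Prime.dvd_pow' hp (Dvd.intro_left k hk'.symm)

end Cfsg.Agent.S1495
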