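import Cfsg.Statements.S1497
import Mathlib.Algebra.Group.Subgroup.Pointwise

set_option autoImplicit false
open Cfsg

namespace Cfsg.Agent.S1497

/-- Let A be a nonempty subset of the finite group G not containing 1 and L a subgroup. Then A is a TI-subset whose normaliser is L if and only if the Dade hypothesis holds for A, L and the constant choice H(a) = ⊥. -/
theorem result {G : Type*} [Group G] [Finite G] (A : Set G) (hA : A.Nonempty) (h1 : (1 : G) ∉ A) (L : Subgroup G) : (Cfsg.IsTISubset A ∧ Subgroup.normalizer A = L) ↔ Cfsg.DadeHypothesis A L (fun _ => ⊥) := by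
  constructor
  · rintro ⟨hTI, hN⟩
    have hmem : ∀ g : G, g ∈ L → ∀ a, a ∈ A ↔ g * a * g⁻¹ ∈ A := fun g hg => by
      rw [← hN] at hg; exact Subgroup.mem_set_normalizer_iff.mp hg
    have hTI' : ∀ g : G, ∀ a ∈ A, g * a * g⁻¹ ∈ A → g ∈ L := fun g a ha hga => by
      by_contra hg
      rw [← hN] at hg
      exact h1 (hTI g hg a ha hga ▸ ha)
    have hC : ∀ a ∈ A, Subgroup.centralizer ({a} : Set G) ≤ L := fun a ha g hg => hTI' g a ha (by
      rw [Subgroup.mem_centralizer_singleton_iff.mp hg]; simpa using ha)
    exact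
    { one_not_mem := h1
      subset := fun a ha => hC a ha (Subgroup.mem_centralizer_singleton_iff.mpr rfl)
      conj_mem := fun x hx a ha => (hmem x hx a).mp ha
      fusion := fun a ha g hga => ⟨g, hTI' g a ha hga, rfl⟩
      le_centralizer := fun a _ => bot_le
      conj_mem_H := fun a _ c _ u hu => by rw [Subgroup.mem_bot] at hu ⊢; simp [hu]
      inf_eq_bot := fun a _ => bot_inf_eq _
      sup_eq := fun a ha => by rw [bot_sup_eq, inf_eq_right.mpr (hC a ha)]
      coprime := fun a _ b _ => by simp }
  · intro hD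
    have hC : ∀ a ∈ A, Subgroup.centralizer ({a} : Set G) ≤ L := fun a ha => by
      have := hD.sup_eq a ha
      rw [bot_sup_eq] at this
      exact inf_eq_right.mp this
    have hTI' : ∀ g : G, ∀ a ∈ A, g * a * g⁻¹ ∈ A → g ∈ L := fun g a ha hga => by
      obtain ⟨x, hx, he⟩ := hD.fusion a ha g hga
      have : x⁻¹ * g ∈ L := hC a ha (Subgroup.mem_centralizer_singleton_iff.mpr (by
        have h2 : g * a = x * a * x⁻¹ * g := by rw [he]; group
        rw [mul_assoc, h2]; group))
      simpa using L.mul_mem hx this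
    have hL : Subgroup.normalizer A = L := by
      ext g
      rw [Subgroup.mem_set_normalizer_iff]
      constructor
      · intro hg
        obtain ⟨a, ha⟩ := hA
        exact hTI' g a ha ((hg a).mp ha)
      · intro hg a
        refine ⟨hD.conj_mem g hg a, fun h => ?_⟩
        simpa [mul_assoc] using hD.conj_mem g⁻¹ (L.inv_mem hg) _ h
    exact ⟨fun g hg a ha hga => absurd (hL.symm ▸ hTI' g a ha hga) hg, hL⟩

end Cfsg.Agent.S1497
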