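import Cfsg.Statements.S1499
import Cfsg.Agent.Lib.Clifford.Dade

set_option autoImplicit false
open Cfsg

namespace Cfsg.Agent.S1499

/-- Under the Dade hypothesis for (A, L, H), let a, b ∈ A. If an element of the coset a·H(a) is conjugate in G to an element of b·H(b), then a and b are conjugate by an element of L. Moreover the set normaliser of the coset a·H(a) is the centraliser of a. -/
theorem result {G : Type*} [Group G] [Finite G] (A : Set G) (L : Subgroup G) (H : G → Subgroup G) (hD : Cfsg.DadeHypothesis A L H) (a b : G) (ha : a ∈ A) (hb : b ∈ A) : ((∃ u ∈ H a, ∃ v ∈ H b, ∃ g : G, g * (a * u) * g⁻¹ = b * v) → ∃ x ∈ L, x * a * x⁻¹ = b) ∧ Subgroup.normalizer ((fun u : G => a * u) '' (H a : Set G)) = Subgroup.centralizer ({a} : Set G) := by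
  classical
  have : Fintype G := Fintype.ofFinite G
  refine ⟨?_, ?_⟩
  · rintro ⟨u, hu, v, hv, g, h⟩
    have h1 := CfsgLib.Clifford.Dade.part_eq hD ha hb hu hv h
    obtain ⟨x, hx, hxe⟩ := hD.fusion a ha g (h1.symm ▸ hb)
    exact ⟨x, hx, hxe.trans h1⟩
  · ext g
    refine ⟨fun hg => ?_, fun hg => ?_⟩
    · obtain ⟨v, hv, he⟩ := (hg (a * 1)).mp ⟨1, (H a).one_mem, rfl⟩
      exact Subgroup.mem_centralizer_singleton_iff.mpr (mul_inv_eq_iff_eq_mul.mp
        (CfsgLib.Clifford.Dade.part_eq hD ha ha (H a).one_mem hv he.symm))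
    · have key : ∀ c ∈ Subgroup.centralizer ({a} : Set G), ∀ u ∈ H a,
          c * (a * u) * c⁻¹ = a * (c * u * c⁻¹) := fun c hc u _ => by
        calc c * (a * u) * c⁻¹ = (c * a) * (u * c⁻¹) := by group
          _ = a * (c * u * c⁻¹) := by rw [Subgroup.mem_centralizer_singleton_iff.mp hc]; group
      intro h
      refine ⟨?_, fun hh => ?_⟩
      · rintro ⟨u, hu, rfl⟩
        exact ⟨g * u * g⁻¹, hD.conj_mem_H a ha g hg u hu, (key g hg u hu).symm⟩
      · obtain ⟨u, hu, he⟩ := hh
        change a * u = g * h * g⁻¹ at he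
        have hg2 := (Subgroup.centralizer ({a} : Set G)).inv_mem hg
        refine ⟨g⁻¹ * u * g⁻¹⁻¹, hD.conj_mem_H a ha g⁻¹ hg2 u hu, ?_⟩
        show a * _ = h
        rw [← key g⁻¹ hg2 u hu, he]
        group

end Cfsg.Agent.S1499
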