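import Cfsg.Statements.S1507
import Cfsg.Agent.S1506
import Cfsg.Agent.Lib.Clifford.CyclicTI
import Cfsg.Agent.Lib.Char.Linear

set_option autoImplicit false
open Cfsg

namespace Cfsg.Agent.S1507

open Classical in
/-- The additive grid with small support. -/
theorem grid_small {I J : Type*} [Fintype I] [Fintype J] (x : I → ℂ) (y : J → ℂ)
    (hI : 3 ≤ Fintype.card I) (hJ : Fintype.card I + 2 ≤ Fintype.card J)
    (hfew : (Finset.univ.filter fun p : I × J => x p.1 + y p.2 ≠ 0).card < 2 * Fintype.card I) :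
    (∀ i j, x i + y j = 0) ∨ (∃ j₀ a, ∀ i j, x i + y j = if j = j₀ then a else 0) ∨
      (∃ i₀ a, ∀ i j, x i + y j = if i = i₀ then a else 0) := by
  set row : J → ℕ := fun j => (Finset.univ.filter fun i : I => x i + y j ≠ 0).card with hrow
  have hsum : (Finset.univ.filter fun p : I × J => x p.1 + y p.2 ≠ 0).card = ∑ j, row j := by
    rw [Finset.card_filter, Fintype.sum_prod_type, Finset.sum_comm]
    exact Finset.sum_congr rfl fun j _ => (Finset.card_filter _ _).symm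
  rw [hsum] at hfew
  have : Nonempty I := Fintype.card_pos_iff.mp (by omega)
  obtain ⟨i₁⟩ := this
  by_cases hx : ∀ i, x i = x i₁
  · by_cases hy : ∀ j, x i₁ + y j = 0
    · exact Or.inl fun i j => by rw [hx i]; exact hy j
    push Not at hy
    obtain ⟨j₀, hj₀⟩ := hy
    refine Or.inr (Or.inl ⟨j₀, x i₁ + y j₀, fun i j => ?_⟩)
    rw [hx i]
    split_ifs with h
    · rw [h]
    by_contra hne
    have hfull : ∀ k, x i₁ + y k ≠ 0 → row k = Fintype.card I := fun k hk => by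
      simp only [hrow]
      rw [Finset.filter_true_of_mem fun i _ => by rw [hx i]; exact hk, Finset.card_univ]
    have h2 : row j + row j₀ ≤ ∑ k, row k := by
      rw [← Finset.sum_pair h]
      exact Finset.sum_le_sum_of_subset (Finset.subset_univ _)
    rw [hfull j hne, hfull j₀ hj₀] at h2
    omega
  right; right
  obtain ⟨v, hv⟩ : ∃ v, Fintype.card I ≤ (Finset.univ.filter fun i => x i = v).card + 1 := by
    by_contra hn
    push Not at hn
    have h2 : ∀ j, 2 ≤ row j := fun j => by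
      have h1 := hn (-y j)
      have h3 := Finset.card_filter_add_card_filter_not (s := (Finset.univ : Finset I)) (fun i => x i = -y j)
      have h4 : (Finset.univ.filter fun i : I => ¬ x i = -y j).card = row j := by
        simp only [hrow]
        congr 1
        refine Finset.filter_congr fun i _ => ?_
        rw [ne_eq, add_eq_zero_iff_eq_neg]
      rw [h4, Finset.card_univ] at h3
      omega
    have := Finset.sum_le_sum fun j (_ : j ∈ Finset.univ) => h2 j
    rw [Finset.sum_const, Finset.card_univ, smul_eq_mul] at this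
    omega
  obtain ⟨i₀, hi₀⟩ : ∃ i₀, x i₀ ≠ v := by
    by_contra hn
    push Not at hn
    exact hx fun i => (hn i).trans (hn i₁).symm
  have hi₀' : ∀ i, i ≠ i₀ → x i = v := by
    intro i hi
    by_contra hne
    have h3 := Finset.card_filter_add_card_filter_not (s := (Finset.univ : Finset I)) (fun i => x i = v)
    have h4 : 2 ≤ (Finset.univ.filter fun i : I => ¬ x i = v).card := by
      rw [← Finset.card_pair hi]
      exact Finset.card_le_card fun k hk => by
        rcases Finset.mem_insert.mp hk with rfl | hk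
        · simp [hne]
        · rw [Finset.mem_singleton.mp hk]; simp [hi₀]
    rw [Finset.card_univ] at h3
    omega
  have hy : ∀ j, v + y j = 0 := by
    by_contra hn
    push Not at hn
    obtain ⟨j₁, hj₁⟩ := hn
    have h1 : ∀ j, 1 ≤ row j := fun j => Finset.card_pos.mpr (by
      by_cases h : v + y j = 0
      · exact ⟨i₀, Finset.mem_filter.mpr ⟨Finset.mem_univ _, fun e => hi₀ (by linear_combination e - h)⟩⟩
      · have hne : (Finset.univ.filter fun i => x i = v).Nonempty := Finset.card_pos.mp (by omega)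
        obtain ⟨k, hk⟩ := hne
        exact ⟨k, Finset.mem_filter.mpr ⟨Finset.mem_univ _, by
          rw [(Finset.mem_filter.mp hk).2]; exact h⟩⟩)
    have h2 : Fintype.card I ≤ row j₁ + 1 := le_trans hv (Nat.add_le_add_right
      (Finset.card_le_card fun k hk => Finset.mem_filter.mpr ⟨Finset.mem_univ _, by
        rw [(Finset.mem_filter.mp hk).2]; exact hj₁⟩) 1)
    have h3 := Finset.add_sum_erase Finset.univ row (Finset.mem_univ j₁)
    have h4 := Finset.sum_le_sum fun j (_ : j ∈ Finset.univ.erase j₁) => h1 j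
    rw [Finset.sum_const, Finset.card_erase_of_mem (Finset.mem_univ _), Finset.card_univ,
      smul_eq_mul, mul_one] at h4
    omega
  refine ⟨i₀, x i₀ - v, fun i j => ?_⟩
  split_ifs with h
  · rw [h]; linear_combination hy j
  · rw [hi₀' i h]; exact hy j

open Classical in
/-- Let W₁, W₂ ≤ G form a self-normalising cyclic subgroup W = W₁ ⊔ W₂ of odd order with Nat.card W₁ < Nat.card W₂, and χ an orthonormal family of irreducible characters of G up to sign, indexed by the linear characters ω of W, with χ_1 = 1, χ_ω = ω on W outside W₁ ∪ W₂, and the induction identity for (1 − φ)(1 − ψ). Let θ be a class function of G vanishing on W outside W₁ ∪ W₂, and suppose fewer than 2 · Nat.card W₁ linear characters ω of W have ⟨θ, χ ω⟩ ≠ 0. Then one of: all ⟨θ, χ ω⟩ vanish; or there are ψ₀ and a with ⟨θ, χ ω⟩ = a when ω ψ₀⁻¹ is trivial on W₂ and 0 otherwise; or there are φ₀ and a with ⟨θ, χ ω⟩ = a when ω φ₀⁻¹ is trivial on W₁ and 0 otherwise.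 -/
theorem result {G : Type*} [Group G] [Fintype G] (W₁ W₂ : Subgroup G) (hW : Cfsg.IsSelfNormalizingCyclic W₁ W₂) (hodd : Odd (Nat.card ↥(W₁ ⊔ W₂))) (χ : (↥(W₁ ⊔ W₂) →* ℂˣ) → (G → ℂ)) (hχ : Cfsg.IsCyclicTIFamily W₁ W₂ χ) (hlt : Nat.card W₁ < Nat.card W₂) (θ : G → ℂ) (hθ : Cfsg.IsClassFunction G θ) (hθV : ∀ w : ↥(W₁ ⊔ W₂), (w : G) ∉ W₁ → (w : G) ∉ W₂ → θ w = 0) (hfew : Nat.card {ω : ↥(W₁ ⊔ W₂) →* ℂˣ // Cfsg.classInner θ (χ ω) ≠ 0} < 2 * Nat.card W₁) : (∀ ω, Cfsg.classInner θ (χ ω) = 0) ∨ (∃ (ψ₀ : ↥(W₁ ⊔ W₂) →* ℂˣ) (a : ℂ), ∀ ω, Cfsg.classInner θ (χ ω) = if (∀ w : ↥(W₁ ⊔ W₂), (w : G) ∈ W₂ → (ω * ψ₀⁻¹) w = 1) then a else 0) ∨ (∃ (φ₀ : ↥(W₁ ⊔ W₂) →* ℂˣ) (a : ℂ), ∀ ω, Cfsg.classInner θ (χ ω) = if (∀ w : ↥(W₁ ⊔ W₂), (w : G) ∈ W₁ → (ω * φ₀⁻¹) w = 1) then a else 0) := by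
  classical
  obtain ⟨hW₁, hW₂, hdisj, hcomm, hcyc, -⟩ := id hW
  have habel : ∀ u v : ↥(W₁ ⊔ W₂), u * v = v * u := by
    intro u v
    obtain ⟨c, hc⟩ := hcyc.exists_generator
    obtain ⟨i, rfl⟩ := hc u
    obtain ⟨j, rfl⟩ := hc v
    exact ((Commute.refl c).zpow_zpow i j).eq
  have hlincard : ∀ {H : Type _} [Group H] [Finite H], (∀ a b : H, a * b = b * a) →
      Nat.card (H →* ℂˣ) = Nat.card H := by
    intro H _ _ hab
    rw [CfsgLib.Char.natCard_linear, show commutator H = ⊥ from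
      (commutator_def H).trans (Subgroup.commutator_eq_bot_iff_le_centralizer.mpr fun a _ =>
        Subgroup.mem_centralizer_iff.mpr fun b _ => hab b a), Subgroup.index_bot]
  let D₁ := {f : ↥(W₁ ⊔ W₂) →* ℂˣ // ∀ w : ↥(W₁ ⊔ W₂), (w : G) ∈ W₂ → f w = 1}
  let D₂ := {f : ↥(W₁ ⊔ W₂) →* ℂˣ // ∀ w : ↥(W₁ ⊔ W₂), (w : G) ∈ W₁ → f w = 1}
  have : Finite (↥(W₁ ⊔ W₂) →* ℂˣ) := Nat.finite_of_card_ne_zero (by
    rw [hlincard habel]; exact Nat.card_pos.ne')
  have : Fintype D₁ := Fintype.ofFinite _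
  have : Fintype D₂ := Fintype.ofFinite _
  let e : D₁ × D₂ → (↥(W₁ ⊔ W₂) →* ℂˣ) := fun p => p.1.1 * p.2.1
  have hinj : Function.Injective e := by
    rintro ⟨⟨φ, hφ⟩, ψ, hψ⟩ ⟨⟨φ', hφ'⟩, ψ', hψ'⟩ h
    have h1 : φ = φ' := MonoidHom.ext fun w => by
      have hd : ∀ w, φ w / φ' w = ψ' w / ψ w := fun w => by
        rw [div_eq_div_iff_mul_eq_mul, ← MonoidHom.mul_apply,
          show φ * ψ = φ' * ψ' from h, MonoidHom.mul_apply, mul_comm]
      have h0 := CfsgLib.Clifford.hom_eq_one_of_sup (φ / φ')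
        (fun w hw => by rw [MonoidHom.div_apply, hd]; simp [hψ w hw, hψ' w hw])
        (fun w hw => by simp [hφ w hw, hφ' w hw])
      exact div_eq_one.mp (DFunLike.congr_fun h0 w)
    subst h1
    have h2 : ψ = ψ' := MonoidHom.ext fun w => mul_left_cancel (DFunLike.congr_fun h w)
    subst h2; rfl
  have he : Function.Bijective e := ⟨hinj, fun f => by
    obtain ⟨φ, ψ, hφ, hψ, rfl⟩ := CfsgLib.Clifford.exists_hom_mul hdisj hcomm f
    exact ⟨(⟨φ, hφ⟩, ⟨ψ, hψ⟩), rfl⟩⟩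
  have hle₁ : Nat.card D₁ ≤ Nat.card W₁ := by
    have hab₁ : ∀ a b : W₁, a * b = b * a := fun a b => Subgroup.inclusion_injective
      (le_sup_left : W₁ ≤ W₁ ⊔ W₂) (by rw [map_mul, map_mul]; exact habel _ _)
    rw [← hlincard hab₁]
    have : Finite (W₁ →* ℂˣ) := Nat.finite_of_card_ne_zero (by rw [hlincard hab₁]; exact Nat.card_pos.ne')
    refine Nat.card_le_card_of_injective
      (fun f : D₁ => f.1.comp (Subgroup.inclusion le_sup_left)) fun f f' h => ?_
    refine Subtype.ext (MonoidHom.ext fun w => div_eq_one.mp (DFunLike.congr_fun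
      (CfsgLib.Clifford.hom_eq_one_of_sup (f.1 / f'.1) (fun w hw => ?_) fun w hw => ?_) w))
    · rw [MonoidHom.div_apply, div_eq_one]; exact DFunLike.congr_fun h ⟨w, hw⟩
    · simp [f.2 w hw, f'.2 w hw]
  have hle₂ : Nat.card D₂ ≤ Nat.card W₂ := by
    have hab₂ : ∀ a b : W₂, a * b = b * a := fun a b => Subgroup.inclusion_injective
      (le_sup_right : W₂ ≤ W₁ ⊔ W₂) (by rw [map_mul, map_mul]; exact habel _ _)
    rw [← hlincard hab₂]
    have : Finite (W₂ →* ℂˣ) := Nat.finite_of_card_ne_zero (by rw [hlincard hab₂]; exact Nat.card_pos.ne')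
    refine Nat.card_le_card_of_injective
      (fun f : D₂ => f.1.comp (Subgroup.inclusion le_sup_right)) fun f f' h => ?_
    refine Subtype.ext (MonoidHom.ext fun w => div_eq_one.mp (DFunLike.congr_fun
      (CfsgLib.Clifford.hom_eq_one_of_sup (f.1 / f'.1) (fun w hw => ?_) fun w hw => ?_) w))
    · simp [f.2 w hw, f'.2 w hw]
    · rw [MonoidHom.div_apply, div_eq_one]; exact DFunLike.congr_fun h ⟨w, hw⟩
  have hWcard : Nat.card W₁ * Nat.card W₂ = Nat.card ↥(W₁ ⊔ W₂) := by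
    let m : W₁ × W₂ →* ↥(W₁ ⊔ W₂) := MonoidHom.noncommCoprod (Subgroup.inclusion le_sup_left)
      (Subgroup.inclusion le_sup_right) fun a b => habel _ _
    have hm : Function.Bijective m := by
      refine ⟨(injective_iff_map_eq_one m).mpr ?_, fun z => ?_⟩
      · rintro ⟨a, b⟩ h
        have h' : (a : G) * b = 1 := congr_arg Subtype.val h
        have ha : (a : G) ∈ W₁ ⊓ W₂ := ⟨a.2, by
          rw [eq_inv_of_mul_eq_one_left h']; exact W₂.inv_mem b.2⟩
        rw [hdisj, Subgroup.mem_bot] at ha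
        rw [ha, one_mul] at h'
        exact Prod.ext (Subtype.ext ha) (Subtype.ext h')
      · have : (z : G) ∈ ((W₁ ⊔ W₂).subtype.comp m).range := by
          refine (sup_le ?_ ?_ : W₁ ⊔ W₂ ≤ ((W₁ ⊔ W₂).subtype.comp m).range) z.2
          · exact fun a ha => ⟨(⟨a, ha⟩, 1), mul_one a⟩
          · exact fun b hb => ⟨(1, ⟨b, hb⟩), one_mul b⟩
        obtain ⟨p, hp⟩ := this
        exact ⟨p, Subtype.ext hp⟩
    rw [← Nat.card_eq_of_bijective m hm, Nat.card_prod]
  have hprod : Nat.card D₁ * Nat.card D₂ = Nat.card W₁ * Nat.card W₂ := by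
    rw [← Nat.card_prod, Nat.card_eq_of_bijective e he, hlincard habel, hWcard]
  have hp1 : 0 < Nat.card W₁ := Nat.card_pos
  have hp2 : 0 < Nat.card W₂ := Nat.card_pos
  have hc1 : Fintype.card D₁ = Nat.card W₁ := by rw [← Nat.card_eq_fintype_card]; nlinarith
  have hc2 : Fintype.card D₂ = Nat.card W₂ := by rw [← Nat.card_eq_fintype_card]; nlinarith
  have hodd₁ : Odd (Nat.card W₁) := hodd.of_dvd_nat (Subgroup.card_dvd_of_le le_sup_left)
  have hodd₂ : Odd (Nat.card W₂) := hodd.of_dvd_nat (Subgroup.card_dvd_of_le le_sup_right)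
  have hgt1 : 1 < Nat.card W₁ := Subgroup.one_lt_card_iff_ne_bot W₁ |>.mpr hW₁
  let one₁ : D₁ := ⟨1, fun _ _ => rfl⟩
  let one₂ : D₂ := ⟨1, fun _ _ => rfl⟩
  let a : D₁ → D₂ → ℂ := fun φ ψ => Cfsg.classInner θ (χ (φ.1 * ψ.1))
  let x : D₁ → ℂ := fun φ => a φ one₂
  let y : D₂ → ℂ := fun ψ => a one₁ ψ - a one₁ one₂
  have hadd : ∀ φ ψ, a φ ψ = x φ + y ψ := fun φ ψ => by
    have h := Cfsg.Agent.S1506.result W₁ W₂ hW χ hχ θ hθ hθV φ.1 one₁.1 ψ.1 one₂.1
      (fun w hw => ⟨φ.2 w hw, rfl⟩) (fun w hw => ⟨ψ.2 w hw, rfl⟩)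
    simp only [a, x, y]
    linear_combination h
  have hfew' : (Finset.univ.filter fun p : D₁ × D₂ => x p.1 + y p.2 ≠ 0).card < 2 * Fintype.card D₁ := by
    rw [hc1]
    refine lt_of_le_of_lt ?_ hfew
    rw [← Fintype.card_subtype, ← Nat.card_eq_fintype_card]
    exact Nat.card_le_card_of_injective (fun p => ⟨e p.1, by
      have h2 := p.2; rw [← hadd] at h2; exact h2⟩)
      fun p q h => Subtype.ext (hinj (congr_arg Subtype.val h))
  obtain ⟨u, hu⟩ := hodd₁
  obtain ⟨v, hv⟩ := hodd₂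
  rcases grid_small x y (by omega) (by omega) hfew' with h | ⟨ψ₀, c, h⟩ | ⟨φ₀, c, h⟩
  · refine Or.inl fun ω => ?_
    obtain ⟨p, rfl⟩ := he.2 ω
    exact (hadd _ _).trans (h _ _)
  · refine Or.inr (Or.inl ⟨ψ₀.1, c, fun ω => ?_⟩)
    obtain ⟨⟨φ, ψ⟩, rfl⟩ := he.2 ω
    refine (hadd φ ψ).trans ((h φ ψ).trans ?_)
    refine @if_congr _ _ _ (_) (_) _ _ _ _ ?_ rfl rfl
    constructor
    · rintro rfl w hw; simp [e, φ.2 w hw]
    · intro hh
      refine Subtype.ext (MonoidHom.ext fun w => div_eq_one.mp (DFunLike.congr_fun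
        (CfsgLib.Clifford.hom_eq_one_of_sup (ψ.1 / ψ₀.1)
          (fun w hw => by simp [ψ.2 w hw, ψ₀.2 w hw]) fun w hw => ?_) w))
      have := hh w hw
      simp only [e, MonoidHom.mul_apply, MonoidHom.inv_apply, φ.2 w hw, one_mul] at this
      rw [MonoidHom.div_apply, div_eq_mul_inv]; exact this
  · refine Or.inr (Or.inr ⟨φ₀.1, c, fun ω => ?_⟩)
    obtain ⟨⟨φ, ψ⟩, rfl⟩ := he.2 ω
    refine (hadd φ ψ).trans ((h φ ψ).trans ?_)
    refine @if_congr _ _ _ (_) (_) _ _ _ _ ?_ rfl rfl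
    constructor
    · rintro rfl w hw; simp [e, ψ.2 w hw]
    · intro hh
      refine Subtype.ext (MonoidHom.ext fun w => div_eq_one.mp (DFunLike.congr_fun
        (CfsgLib.Clifford.hom_eq_one_of_sup (φ.1 / φ₀.1) (fun w hw => ?_)
          fun w hw => by simp [φ.2 w hw, φ₀.2 w hw]) w))
      have := hh w hw
      simp only [e, MonoidHom.mul_apply, MonoidHom.inv_apply, ψ.2 w hw, mul_one] at this
      rw [MonoidHom.div_apply, div_eq_mul_inv]; exact this

end Cfsg.Agent.S1507
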