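import Cfsg.Statements.S1508
import Cfsg.Agent.S1506
import Cfsg.Agent.Lib.Clifford.CyclicTI
import Cfsg.Agent.Lib.Char.Galois
import Cfsg.Agent.Lib.Char.Linear
import Cfsg.Agent.Lib.BlockA.Galois
import Mathlib.RingTheory.ZMod.UnitsCyclic

set_option autoImplicit false
open Cfsg

namespace Cfsg.Agent.S1508

set_option maxHeartbeats 1000000

/-- Let W₁, W₂ ≤ G form a self-normalising cyclic subgroup W = W₁ ⊔ W₂ of odd order and χ an orthonormal family of irreducible characters of G up to sign, indexed by the linear characters ω of W, with χ_1 = 1, χ_ω = ω on W outside W₁ ∪ W₂, and the induction identity for (1 − φ)(1 − ψ). Let ω be a linear character of W and g an element of G whose order is coprime to the order of ω. Then χ ω g is an integer. -/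
theorem result {G : Type*} [Group G] [Fintype G] (W₁ W₂ : Subgroup G) (hW : Cfsg.IsSelfNormalizingCyclic W₁ W₂) (hodd : Odd (Nat.card ↥(W₁ ⊔ W₂))) (χ : (↥(W₁ ⊔ W₂) →* ℂˣ) → (G → ℂ)) (hχ : Cfsg.IsCyclicTIFamily W₁ W₂ χ) (ω : ↥(W₁ ⊔ W₂) →* ℂˣ) (g : G) (hg : Nat.Coprime (orderOf g) (orderOf ω)) : ∃ n : ℤ, χ ω g = n := by
  classical
  obtain ⟨hW₁, hW₂, hdisj, hcomm, hcyc, hnorm⟩ := id hW
  have : Fintype ↥(W₁ ⊔ W₂) := Fintype.ofFinite _
  have habel : ∀ u v : ↥(W₁ ⊔ W₂), u * v = v * u := by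
    intro u v
    obtain ⟨c, hc⟩ := hcyc.exists_generator
    obtain ⟨i, rfl⟩ := hc u
    obtain ⟨j, rfl⟩ := hc v
    exact ((Commute.refl c).zpow_zpow i j).eq
  let D₁ : (↥(W₁ ⊔ W₂) →* ℂˣ) → Prop := fun f => ∀ w : ↥(W₁ ⊔ W₂), (w : G) ∈ W₂ → f w = 1
  let D₂ : (↥(W₁ ⊔ W₂) →* ℂˣ) → Prop := fun f => ∀ w : ↥(W₁ ⊔ W₂), (w : G) ∈ W₁ → f w = 1
  have hdec : ∀ f, ∃ φ ψ, D₁ φ ∧ D₂ ψ ∧ f = φ * ψ := CfsgLib.Clifford.exists_hom_mul hdisj hcomm
  have hthree : ∀ (A B : Subgroup G) (hA : A ≤ W₁ ⊔ W₂), A ≠ ⊥ →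
      (∀ f : ↥(W₁ ⊔ W₂) →* ℂˣ, ∃ φ ψ : ↥(W₁ ⊔ W₂) →* ℂˣ,
        (∀ w : ↥(W₁ ⊔ W₂), (w : G) ∈ B → φ w = 1) ∧
        (∀ w : ↥(W₁ ⊔ W₂), (w : G) ∈ A → ψ w = 1) ∧ f = φ * ψ) →
      ∃ φ : ↥(W₁ ⊔ W₂) →* ℂˣ, (∀ w : ↥(W₁ ⊔ W₂), (w : G) ∈ B → φ w = 1) ∧ φ ≠ 1 ∧ φ * φ ≠ 1 := by
    intro A B hA hA1 hd
    obtain ⟨v, hv, hv1⟩ := (Subgroup.bot_or_exists_ne_one A).resolve_left hA1
    obtain ⟨f, hf⟩ := CfsgLib.Char.exists_linear_ne_one habel (g := (⟨v, hA hv⟩ : ↥(W₁ ⊔ W₂)))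
      (fun h => hv1 (congr_arg Subtype.val h))
    obtain ⟨φ, ψ, hφ, hψ, rfl⟩ := hd f
    have hne : φ ⟨v, hA hv⟩ ≠ 1 := fun h => hf (by rw [MonoidHom.mul_apply, h, hψ _ hv, one_mul])
    refine ⟨φ, hφ, fun h => hne (by rw [h]; rfl), fun h => hne ?_⟩
    have h2 : φ ⟨v, hA hv⟩ ^ 2 = 1 := by
      rw [sq, ← MonoidHom.mul_apply, h]; rfl
    have h3 : φ ⟨v, hA hv⟩ ^ Nat.card ↥(W₁ ⊔ W₂) = 1 := by rw [← map_pow, pow_card_eq_one', map_one]
    have := pow_gcd_eq_one.mpr ⟨h2, h3⟩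
    rwa [(Nat.coprime_two_left.mpr hodd).gcd_eq_one, pow_one] at this
  obtain ⟨φ₀, hφ₀, hφ₀1, hφ₀2⟩ := hthree W₁ W₂ le_sup_left hW₁ hdec
  obtain ⟨ψ₀, hψ₀, hψ₀1, hψ₀2⟩ := hthree W₂ W₁ le_sup_right hW₂ fun f => by
    obtain ⟨φ, ψ, hφ, hψ, rfl⟩ := hdec f
    exact ⟨ψ, φ, hψ, hφ, MonoidHom.ext fun w => mul_comm _ _⟩
  have huniq : ∀ φ φ' ψ ψ', D₁ φ → D₁ φ' → D₂ ψ → D₂ ψ' → φ * ψ = φ' * ψ' → φ = φ' ∧ ψ = ψ' := by
    intro φ φ' ψ ψ' hφ hφ' hψ hψ' h
    have h1 : φ = φ' := by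
      have hd : ∀ w, φ w / φ' w = ψ' w / ψ w := fun w => by
        rw [div_eq_div_iff_mul_eq_mul, ← MonoidHom.mul_apply, h, MonoidHom.mul_apply, mul_comm]
      have h0 := CfsgLib.Clifford.hom_eq_one_of_sup (φ / φ')
        (fun w hw => by rw [MonoidHom.div_apply, hd]; simp [hψ w hw, hψ' w hw])
        (fun w hw => by simp [hφ w hw, hφ' w hw])
      exact MonoidHom.ext fun w => div_eq_one.mp (DFunLike.congr_fun h0 w)
    refine ⟨h1, MonoidHom.ext fun w => ?_⟩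
    have hw := DFunLike.congr_fun h w
    rw [MonoidHom.mul_apply, MonoidHom.mul_apply, h1] at hw
    exact mul_left_cancel hw
  have hcancel : ∀ a b : ↥(W₁ ⊔ W₂) →* ℂˣ, a * b = a → b = 1 := fun a b h =>
    MonoidHom.ext fun w => mul_eq_left.mp (DFunLike.congr_fun h w)
  -- an additive grid supported at two points vanishes
  have hgrid : ∀ (θ : G → ℂ), Cfsg.IsClassFunction G θ →
      (∀ w : ↥(W₁ ⊔ W₂), (w : G) ∉ W₁ → (w : G) ∉ W₂ → θ w = 0) →
      ∀ p q : ↥(W₁ ⊔ W₂) →* ℂˣ, (∀ f, f ≠ p → f ≠ q → Cfsg.classInner θ (χ f) = 0) →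
        Cfsg.classInner θ (χ p) = 0 := by
    intro θ hθ hθV p q hsupp
    obtain ⟨φ, ψ, hφ, hψ, rfl⟩ := hdec p
    obtain ⟨φ₁, ψ₁, hφ₁, hψ₁, rfl⟩ := hdec q
    obtain ⟨φ', hφ', hne1, hne2⟩ : ∃ φ', D₁ φ' ∧ φ' ≠ φ ∧ φ' ≠ φ₁ := by
      by_contra hn
      push Not at hn
      have a1 := hn 1 (fun w _ => rfl)
      have a2 := hn φ₀ hφ₀
      have a3 := hn (φ₀ * φ₀) (fun w hw => by simp [hφ₀ w hw])
      by_cases e1 : 1 = φ
      · have b2 := a2 (by rw [← e1]; exact hφ₀1)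
        have b3 := a3 (by rw [← e1]; exact hφ₀2)
        exact hφ₀1 (hcancel _ _ (b3.trans b2.symm))
      · have b1 := a1 e1
        by_cases e2 : φ₀ = φ
        · have b3 := a3 (by rw [← e2]; exact fun h => hφ₀1 (hcancel _ _ h))
          exact hφ₀2 (b3.trans b1.symm)
        · exact hφ₀1 ((a2 e2).trans b1.symm)
    obtain ⟨ψ', hψ', hne3, hne4⟩ : ∃ ψ', D₂ ψ' ∧ ψ' ≠ ψ ∧ ψ' ≠ ψ₁ := by
      by_contra hn
      push Not at hn
      have a1 := hn 1 (fun w _ => rfl)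
      have a2 := hn ψ₀ hψ₀
      have a3 := hn (ψ₀ * ψ₀) (fun w hw => by simp [hψ₀ w hw])
      by_cases e1 : 1 = ψ
      · have b2 := a2 (by rw [← e1]; exact hψ₀1)
        have b3 := a3 (by rw [← e1]; exact hψ₀2)
        exact hψ₀1 (hcancel _ _ (b3.trans b2.symm))
      · have b1 := a1 e1
        by_cases e2 : ψ₀ = ψ
        · have b3 := a3 (by rw [← e2]; exact fun h => hψ₀1 (hcancel _ _ h))
          exact hψ₀2 (b3.trans b1.symm)
        · exact hψ₀1 ((a2 e2).trans b1.symm)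
    have h := Cfsg.Agent.S1506.result W₁ W₂ hW χ hχ θ hθ hθV φ φ' ψ ψ'
      (fun w hw => ⟨hφ w hw, hφ' w hw⟩) (fun w hw => ⟨hψ w hw, hψ' w hw⟩)
    rw [hsupp (φ' * ψ') (fun e => hne1 (huniq _ _ _ _ hφ' hφ hψ' hψ e).1)
        (fun e => hne2 (huniq _ _ _ _ hφ' hφ₁ hψ' hψ₁ e).1),
      hsupp (φ * ψ') (fun e => hne3 (huniq _ _ _ _ hφ hφ hψ' hψ e).2)
        (fun e => hne4 (huniq _ _ _ _ hφ hφ₁ hψ' hψ₁ e).2),
      hsupp (φ' * ψ) (fun e => hne1 (huniq _ _ _ _ hφ' hφ hψ hψ e).1)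
        (fun e => hne2 (huniq _ _ _ _ hφ' hφ₁ hψ hψ₁ e).1)] at h
    linear_combination h
  have hgen : ∀ f, Cfsg.IsGeneralizedCharacter G (χ f) := fun f => by
    rcases hχ.irr_or_neg f with h | h
    · exact CfsgLib.Char.isGeneralized_of_isCharacter (CfsgLib.Char.irr_isCharacter h)
    · simpa using CfsgLib.Char.isGeneralized_neg
        (CfsgLib.Char.isGeneralized_of_isCharacter (CfsgLib.Char.irr_isCharacter h))
  -- the action of a power map on the family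
  have hgal : ∀ m : ℕ, m.Coprime (Nat.card G) → ∀ f, (fun x => χ f (x ^ m)) = χ (f ^ m) := by
    intro m hm f
    set σ : G → ℂ := fun x => χ f (x ^ m) with hσ
    have hσgen : Cfsg.IsGeneralizedCharacter G σ :=
      CfsgLib.BlockA.isGeneralized_comp_pow hm (hgen f)
    have hσσ : Cfsg.classInner σ σ = 1 := by
      rw [hσ, CfsgLib.BlockA.classInner_comp_pow hm, hχ.orthonormal f f, if_pos rfl]
    have hσirr := CfsgLib.Char.isGeneralized_norm_one hσgen hσσ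
    set θ : G → ℂ := σ - χ (f ^ m) with hθdef
    have hθcl : Cfsg.IsClassFunction G θ := CfsgLib.Char.isGeneralized_isClassFunction
      (CfsgLib.Char.isGeneralized_sub hσgen (hgen _))
    have hθV : ∀ w : ↥(W₁ ⊔ W₂), (w : G) ∉ W₁ → (w : G) ∉ W₂ → θ w = 0 := by
      intro w h1 h2
      have e1 := hχ.eq_on (f ^ m) w h1 h2
      have e2 := hχ.eq_on f (w ^ m)
        (by rw [Subgroup.coe_pow]; exact fun h => h1 ((CfsgLib.BlockA.pow_mem_iff_of_coprime hm _ _).mp h))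
        (by rw [Subgroup.coe_pow]; exact fun h => h2 ((CfsgLib.BlockA.pow_mem_iff_of_coprime hm _ _).mp h))
      rw [hθdef, Pi.sub_apply, hσ]
      simp only [Subgroup.coe_pow] at e2
      simp only [e2, e1, MonoidHom.pow_apply, map_pow, sub_self]
    obtain ⟨q, hq⟩ : ∃ q, ∀ f', f' ≠ q → Cfsg.classInner σ (χ f') = 0 := by
      by_cases hex : ∃ q, Cfsg.classInner σ (χ q) ≠ 0
      · obtain ⟨q, hq⟩ := hex
        refine ⟨q, fun f' hne => ?_⟩
        obtain ⟨s, hs⟩ : ∃ s : ℂ, σ = s • χ q := by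
          rcases hσirr with h | h <;> rcases hχ.irr_or_neg q with h' | h'
          · refine ⟨1, by_contra fun e => hq ?_⟩
            rw [one_smul] at e
            exact CfsgLib.Char.irr_classInner_ne h h' e
          · refine ⟨-1, by_contra fun e => hq ?_⟩
            have := CfsgLib.Char.irr_classInner_ne h h' fun e' => e (by simp [e'])
            rwa [show -χ q = (-1 : ℂ) • χ q by simp, CfsgLib.Char.classInner_smul_right, map_neg,
              map_one, neg_one_mul, neg_eq_zero] at this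
          · refine ⟨-1, by_contra fun e => hq ?_⟩
            have := CfsgLib.Char.irr_classInner_ne h h' fun e' => e (by simp [← e'])
            rwa [show -σ = (-1 : ℂ) • σ by simp, CfsgLib.Char.classInner_smul_left,
              neg_one_mul, neg_eq_zero] at this
          · refine ⟨1, by_contra fun e => hq ?_⟩
            rw [one_smul] at e
            have := CfsgLib.Char.irr_classInner_ne h h' fun e' => e (neg_injective e')
            rwa [show -σ = (-1 : ℂ) • σ by simp, show -χ q = (-1 : ℂ) • χ q by simp,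
              CfsgLib.Char.classInner_smul_left, CfsgLib.Char.classInner_smul_right, map_neg,
              map_one, neg_one_mul, neg_one_mul, neg_neg] at this
        rw [hs, CfsgLib.Char.classInner_smul_left, hχ.orthonormal, if_neg (Ne.symm hne), mul_zero]
      · push Not at hex
        exact ⟨1, fun f' _ => hex f'⟩
    have h0 := hgrid θ hθcl hθV (f ^ m) q fun f' h1 h2 => by
      rw [hθdef, CfsgLib.Char.classInner_sub_left, hq f' h2, hχ.orthonormal,
        if_neg (Ne.symm h1), sub_zero]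
    rw [hθdef, CfsgLib.Char.classInner_sub_left, hχ.orthonormal, if_pos rfl, sub_eq_zero] at h0
    rcases hσirr with h | h <;> rcases hχ.irr_or_neg (f ^ m) with h' | h'
    · exact by_contra fun e => one_ne_zero (h0.symm.trans (CfsgLib.Char.irr_classInner_ne h h' e))
    · exfalso
      by_cases e : σ = -χ (f ^ m)
      · rw [e, show -χ (f ^ m) = (-1 : ℂ) • χ (f ^ m) by simp, CfsgLib.Char.classInner_smul_left,
          hχ.orthonormal, if_pos rfl] at h0
        norm_num at h0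
      · have := CfsgLib.Char.irr_classInner_ne h h' e
        rw [show -χ (f ^ m) = (-1 : ℂ) • χ (f ^ m) by simp, CfsgLib.Char.classInner_smul_right,
          h0] at this
        norm_num at this
    · exfalso
      by_cases e : -σ = χ (f ^ m)
      · rw [← e, show -σ = (-1 : ℂ) • σ by simp, CfsgLib.Char.classInner_smul_right, hσσ] at h0
        norm_num at h0
      · have := CfsgLib.Char.irr_classInner_ne h h' e
        rw [show -σ = (-1 : ℂ) • σ by simp, CfsgLib.Char.classInner_smul_left, h0] at this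
        norm_num at this
    · refine by_contra fun e => one_ne_zero (h0.symm.trans ?_)
      have := CfsgLib.Char.irr_classInner_ne h h' fun e' => e (neg_injective e')
      rwa [show -σ = (-1 : ℂ) • σ by simp, show -χ (f ^ m) = (-1 : ℂ) • χ (f ^ m) by simp,
        CfsgLib.Char.classInner_smul_left, CfsgLib.Char.classInner_smul_right, map_neg, map_one,
        neg_one_mul, neg_one_mul, neg_neg] at this
  -- rationality
  obtain ⟨ε, ξ, hξ, hεξ⟩ : ∃ (ε : ℤ) (ξ : G → ℂ), Cfsg.IsIrrCharacter G ξ ∧ χ ω = (ε : ℂ) • ξ := by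
    rcases hχ.irr_or_neg ω with h | h
    exacts [⟨1, _, h, by simp⟩, ⟨-1, _, h, by simp⟩]
  have hεne : (ε : ℂ) ≠ 0 := fun h => by
    have := hχ.orthonormal ω ω
    rw [hεξ, h, zero_smul, CfsgLib.Char.classInner_zero_left, if_pos rfl] at this
    exact zero_ne_one this
  have hξc := CfsgLib.Char.irr_isCharacter hξ
  obtain ⟨q, hq⟩ := CfsgLib.Char.exists_rat_of_emb_fixed (CfsgLib.Char.charVal hξc g) fun ψ => by
    obtain ⟨m, hm, hψ⟩ := CfsgLib.Char.exists_pow_of_emb (Nat.card_pos (α := G)) ψ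
    rw [CfsgLib.Char.emb_charVal hξc ψ hψ g]
    have hoω : orderOf ω ∣ Nat.card G := by
      have h1 : orderOf ω ∣ Nat.card ↥(W₁ ⊔ W₂) := orderOf_dvd_of_pow_eq_one
        (MonoidHom.ext fun w => by rw [MonoidHom.pow_apply, ← map_pow, pow_card_eq_one', map_one]; rfl)
      exact h1.trans (Subgroup.card_subgroup_dvd_card _)
    have hdvd : orderOf g * orderOf ω ∣ Nat.card G :=
      hg.mul_dvd_of_dvd_of_dvd (orderOf_dvd_natCard g) hoω
    obtain ⟨k, hk1, hk2⟩ := Nat.chineseRemainder hg m 1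
    have hkcop : k.Coprime (orderOf g * orderOf ω) := by
      refine Nat.Coprime.mul_right ?_ ?_
      · rw [Nat.coprime_iff_gcd_eq_one, Nat.ModEq.gcd_eq hk1]
        exact hm.of_dvd_right (orderOf_dvd_natCard g)
      · rw [Nat.coprime_iff_gcd_eq_one, Nat.ModEq.gcd_eq hk2, Nat.gcd_one_left]
    have : NeZero (orderOf g * orderOf ω) := ⟨fun h => by
      rw [h] at hdvd; exact Nat.card_pos.ne' (Nat.eq_zero_of_zero_dvd hdvd)⟩
    have : NeZero (Nat.card G) := ⟨Nat.card_pos.ne'⟩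
    obtain ⟨u, hu⟩ := ZMod.unitsMap_surjective hdvd (ZMod.unitOfCoprime k hkcop)
    set k' := (u : ZMod (Nat.card G)).val with hk'
    have hk'cop : k'.Coprime (Nat.card G) := ZMod.val_coe_unit_coprime u
    have hk'k : k' ≡ k [MOD orderOf g * orderOf ω] := by
      rw [← ZMod.natCast_eq_natCast_iff]
      have := congr_arg Units.val hu
      rw [ZMod.unitsMap_val, ZMod.coe_unitOfCoprime] at this
      rw [← this, hk', ← ZMod.cast_eq_val]
    have e1 : g ^ m = g ^ k' := pow_eq_pow_iff_modEq.mpr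
      (hk1.symm.trans (hk'k.symm.of_dvd (Dvd.intro (orderOf ω) rfl)))
    have e2 : ω ^ k' = ω := by
      have hm : k' % orderOf ω = 1 % orderOf ω :=
        (hk'k.of_dvd (Dvd.intro_left (orderOf g) rfl)).trans hk2
      rw [← pow_mod_orderOf ω k', hm, pow_mod_orderOf, pow_one]
    have h := congr_fun (hgal k' hk'cop ω) g
    rw [e2, ← e1, hεξ] at h
    exact mul_left_cancel₀ hεne h
  have hint : IsIntegral ℤ (q : ℂ) := by
    rw [← hq]
    obtain ⟨n, ρ, -, rfl⟩ := hξ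
    exact CfsgLib.Char.char_isIntegral ρ g
  obtain ⟨k, rfl⟩ := CfsgLib.Char.exists_int_of_isIntegral_rat hint
  refine ⟨ε * k, ?_⟩
  rw [hεξ, Pi.smul_apply, smul_eq_mul]
  have hq' : ξ g = (k : ℂ) := hq.trans (Rat.cast_intCast k)
  rw [hq', Int.cast_mul]

end Cfsg.Agent.S1508
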