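import Cfsg.Statements.S1510
import Mathlib

set_option autoImplicit false
open Cfsg

namespace Cfsg.Agent.S1510

/-- Let L be a finite group with a normal subgroup K and a nontrivial cyclic subgroup W₁ of order coprime to its index, K ⊓ W₁ = ⊥ and K ⊔ W₁ = ⊤; let W₂ ≠ ⊥ be a cyclic subgroup of K with K ⊓ C_L(x) = W₂ for every non-identity x ∈ W₁, and suppose W₁ ⊔ W₂ has odd order. Then (W₁, W₂) is a self-normalising cyclic pair in L. -/
theorem result {L : Type*} [Group L] [Fintype L] (K W₁ W₂ : Subgroup L) [hK : K.Normal] (hKW₁ : K ⊓ W₁ = ⊥) (hKW₁' : K ⊔ W₁ = ⊤) (hW₁ : W₁ ≠ ⊥) (hW₁c : IsCyclic W₁) (hHall : Nat.Coprime (Nat.card W₁) W₁.index) (hW₂ : W₂ ≠ ⊥) (hW₂c : IsCyclic W₂) (hW₂K : W₂ ≤ K) (hC : ∀ x ∈ W₁, x ≠ 1 → K ⊓ Subgroup.centralizer ({x} : Set L) = W₂) (hodd : Odd (Nat.card ↥(W₁ ⊔ W₂))) : Cfsg.IsSelfNormalizingCyclic W₁ W₂ := by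
  classical
  have hcop : Nat.Coprime (Nat.card W₁) (Nat.card K) := by
    have hc : Subgroup.IsComplement' K W₁ := Subgroup.isComplement'_of_disjoint_and_mul_eq_univ
      (disjoint_iff.mpr hKW₁) (by rw [← Subgroup.normal_mul, hKW₁']; rfl)
    have : W₁.index = Nat.card K := hc.index_eq_card.trans rfl
    rwa [this] at hHall
  have hcop2 : Nat.Coprime (Nat.card W₁) (Nat.card W₂) :=
    hcop.coprime_dvd_right (Subgroup.card_dvd_of_le hW₂K)
  have hcomm : ∀ a ∈ W₁, ∀ b ∈ W₂, a * b = b * a := by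
    intro a ha b hb
    by_cases h : a = 1
    · simp [h]
    · have := ((hC a ha h).symm ▸ hb : b ∈ K ⊓ Subgroup.centralizer ({a} : Set L)).2
      exact (Subgroup.mem_centralizer_singleton_iff.mp this).symm
  have hdisj : W₁ ⊓ W₂ = ⊥ := by
    rw [← le_bot_iff, ← hKW₁]
    exact fun g hg => ⟨hW₂K hg.2, hg.1⟩
  let e : W₁ × W₂ →* L := MonoidHom.noncommCoprod W₁.subtype W₂.subtype (fun a b => hcomm a a.2 b b.2)
  have he : ∀ z ∈ W₁ ⊔ W₂, ∃ a ∈ W₁, ∃ b ∈ W₂, a * b = z := by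
    intro z hz
    have : z ∈ e.range := by
      refine (sup_le ?_ ?_ : W₁ ⊔ W₂ ≤ e.range) hz
      · exact fun a ha => ⟨(⟨a, ha⟩, 1), mul_one a⟩
      · exact fun b hb => ⟨(1, ⟨b, hb⟩), one_mul b⟩
    obtain ⟨⟨a, b⟩, rfl⟩ := this
    exact ⟨a, a.2, b, b.2, rfl⟩
  have hprod : IsCyclic (W₁ × W₂) := Group.isCyclic_prod_iff.mpr ⟨hW₁c, hW₂c, by simpa using hcop2⟩
  have hcyc : IsCyclic ↥(W₁ ⊔ W₂) := by
    have hle : ∀ p, e p ∈ W₁ ⊔ W₂ := fun p => by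
      exact Subgroup.mul_mem_sup p.1.2 p.2.2
    refine isCyclic_of_surjective (e.codRestrict _ hle) fun z => ?_
    obtain ⟨a, ha, b, hb, h⟩ := he z z.2
    exact ⟨(⟨a, ha⟩, ⟨b, hb⟩), Subtype.ext h⟩
  refine ⟨hW₁, hW₂, hdisj, hcomm, hcyc, fun X hX ⟨z, hz⟩ => le_antisymm ?_ ?_⟩
  · intro g hg
    obtain ⟨a, ha, b, hb, rfl⟩ := he z (hX hz).1
    obtain ⟨a', ha', b', hb', hg'⟩ := he _ (hX ((hg _).mp hz)).1
    have ha1 : a ≠ 1 := fun h => (hX hz).2 (Or.inr (by simpa [h] using hb))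
    have hg0 : g ∈ K ⊔ W₁ := hKW₁' ▸ Subgroup.mem_top g
    obtain ⟨k, hk, w, hw, rfl⟩ := Subgroup.mem_sup_of_normal_left.mp hg0
    have hwa : w * a = a * w := by
      obtain ⟨c, hc⟩ := hW₁c.exists_generator
      obtain ⟨i, hi⟩ := hc ⟨w, hw⟩
      obtain ⟨j, hj⟩ := hc ⟨a, ha⟩
      have := ((Commute.refl c).zpow_zpow i j).eq
      rw [show c ^ i = ⟨w, hw⟩ from hi, show c ^ j = ⟨a, ha⟩ from hj] at this
      exact congr_arg Subtype.val this
    have hwz : w * (a * b) * w⁻¹ = a * b := by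
      rw [mul_inv_eq_iff_eq_mul, ← mul_assoc, hwa, mul_assoc, hcomm w hw b hb, ← mul_assoc]
    have hkz : k * (a * b) * k⁻¹ = a' * b' := by
      rw [hg']; conv_lhs => rw [← hwz]
      group
    obtain ⟨m, hm1, hm0⟩ := Nat.chineseRemainder hcop2 1 0
    have hpow : ∀ u ∈ W₁, ∀ v ∈ W₂, (u * v) ^ m = u := by
      intro u hu v hv
      rw [Commute.mul_pow (hcomm u hu v hv),
        orderOf_dvd_iff_pow_eq_one.mp ((Subgroup.orderOf_dvd_natCard W₂ hv).trans (Nat.modEq_zero_iff_dvd.mp hm0)),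
        mul_one, ← pow_mod_orderOf, hm1.of_dvd (Subgroup.orderOf_dvd_natCard W₁ hu), pow_mod_orderOf, pow_one]
    have hka : k * a * k⁻¹ = a' := by
      have := congr_arg (· ^ m) hkz
      simpa only [conj_pow, hpow a ha b hb, hpow a' ha' b' hb'] using this
    have haa : a' * a⁻¹ = 1 := by
      rw [← Subgroup.mem_bot, ← hKW₁]
      refine ⟨?_, W₁.mul_mem ha' (W₁.inv_mem ha)⟩
      rw [← hka, show k * a * k⁻¹ * a⁻¹ = k * (a * k⁻¹ * a⁻¹) by group]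
      exact K.mul_mem hk (hK.conj_mem _ (K.inv_mem hk) a)
    rw [mul_inv_eq_one] at haa
    have hk2 : k ∈ K ⊓ Subgroup.centralizer ({a} : Set L) :=
      ⟨hk, Subgroup.mem_centralizer_singleton_iff.mpr (by rw [← mul_inv_eq_iff_eq_mul, hka, haa])⟩
    rw [hC a ha ha1] at hk2
    exact Subgroup.mul_mem _ (Subgroup.mem_sup_right hk2) (Subgroup.mem_sup_left hw)
  · intro g hg y
    have hc : ∀ y ∈ W₁ ⊔ W₂, g * y * g⁻¹ = y := fun y hy => by
      rw [mul_inv_eq_iff_eq_mul]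
      obtain ⟨c, hc⟩ := hcyc.exists_generator
      obtain ⟨i, hi⟩ := hc ⟨g, hg⟩
      obtain ⟨j, hj⟩ := hc ⟨y, hy⟩
      have := ((Commute.refl c).zpow_zpow i j).eq
      rw [show c ^ i = ⟨g, hg⟩ from hi, show c ^ j = ⟨y, hy⟩ from hj] at this
      exact congr_arg Subtype.val this
    refine ⟨fun hy => by rwa [hc y (hX hy).1], fun hy => ?_⟩
    have h2 := hc _ (hX hy).1
    have h3 : g * y * g⁻¹ = y := mul_left_cancel (mul_right_cancel h2)
    rwa [h3] at hy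

end Cfsg.Agent.S1510
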