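import Cfsg.Statements.S1512
import Mathlib

set_option autoImplicit false
open Cfsg

namespace Cfsg.Agent.S1512

/-- Let K be a normal subgroup of the finite group L and x a non-identity element whose order is coprime to the order of K, such that K ⊓ C_L(y) = W₂ for every non-identity element y of the cyclic group generated by x. Then the number of conjugacy classes of K mapped to themselves by conjugation by x is at most Nat.card W₂. -/
theorem result {L : Type*} [Group L] [Finite L] (K W₂ : Subgroup L) [hK : K.Normal] (x : L) (hx1 : x ≠ 1) (hx : Nat.Coprime (orderOf x) (Nat.card K)) (hC : ∀ y ∈ Subgroup.zpowers x, y ≠ 1 → K ⊓ Subgroup.centralizer ({y} : Set L) = W₂) : Nat.card {C : ConjClasses K // ConjClasses.map (MulEquiv.toMonoidHom ((MulAut.conjNormal x : MulAut K))) C = C} ≤ Nat.card W₂ := by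
  classical
  set f := MulEquiv.toMonoidHom (MulAut.conjNormal x : MulAut K)
  have : Fintype K := Fintype.ofFinite K
  have hfix : ∀ C : ConjClasses K, ConjClasses.map f C = C → ∃ z : K, ConjClasses.mk z = C ∧ (z : L) ∈ W₂ := by
    intro C hC'
    by_contra hno
    push Not at hno
    let Z := Subgroup.zpowers x
    have hmap : ∀ z : K, z ∈ C.carrier → MulAut.conjNormal x z ∈ C.carrier := fun z hz => by
      rw [ConjClasses.mem_carrier_iff_mk_eq] at hz ⊢
      rw [← hz] at hC'
      exact hC'.trans hz
    have hZ : ∀ s ∈ Z, ∀ z : K, z ∈ C.carrier → MulAut.conjNormal s z ∈ C.carrier := by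
      intro s hs
      obtain ⟨n, rfl⟩ : ∃ n : ℕ, x ^ n = s := by
        simpa [Z] using (isOfFinOrder_of_finite x).mem_zpowers_iff_mem_range_orderOf.mp hs |> fun h => by
          obtain ⟨n, -, hn⟩ := Finset.mem_image.mp h; exact ⟨n, hn⟩
      induction n with
      | zero => intro z hz; simpa using hz
      | succ n ih =>
        intro z hz
        rw [pow_succ', map_mul]
        exact hmap _ (ih (Subgroup.pow_mem _ (Subgroup.mem_zpowers x) n) z hz)
    let act : MulAction Z C.carrier :=
      { smul := fun s z => ⟨MulAut.conjNormal (s : L) z.1, hZ s s.2 z.1 z.2⟩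
        one_smul := fun z => Subtype.ext (show MulAut.conjNormal ((1 : Z) : L) z.1 = z.1 by simp)
        mul_smul := fun s t z => Subtype.ext (show MulAut.conjNormal ((s * t : Z) : L) z.1 =
          MulAut.conjNormal (s : L) (MulAut.conjNormal (t : L) z.1) by simp) }
    have hfree : ∀ z : C.carrier, MulAction.stabilizer Z z = ⊥ := by
      intro z
      rw [Subgroup.eq_bot_iff_forall]
      intro s hs
      by_contra hs1
      have he : (s : L) * (z.1 : L) * (s : L)⁻¹ = z.1 := by
        have : MulAut.conjNormal (s : L) z.1 = z.1 := congr_arg Subtype.val hs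
        rw [← MulAut.conjNormal_apply, this]
      refine hno z.1 (ConjClasses.mem_carrier_iff_mk_eq.mp z.2) ?_
      rw [← hC (s : L) s.2 (fun h => hs1 (Subtype.ext h))]
      exact ⟨z.1.2, Subgroup.mem_centralizer_singleton_iff.mpr (mul_inv_eq_iff_eq_mul.mp he).symm⟩
    have hdvd : Nat.card Z ∣ Nat.card C.carrier := by
      rw [Nat.card_congr (MulAction.selfEquivSigmaOrbits Z C.carrier), Nat.card_sigma]
      refine Finset.dvd_sum fun o _ => ?_
      rw [Nat.card_congr (MulAction.orbitEquivQuotientStabilizer Z o.out), hfree,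
        ← Subgroup.index_eq_card, Subgroup.index_bot]
    obtain ⟨z, rfl⟩ := ConjClasses.mk_surjective C
    have hK : Nat.card (ConjClasses.mk z).carrier ∣ Nat.card K := by
      rw [show Nat.card (ConjClasses.mk z).carrier = (Subgroup.centralizer ({z} : Set K)).index from ?_]
      · exact Subgroup.index_dvd_card _
      rw [← ConjAct.orbit_eq_carrier_conjClasses, Nat.card_coe_set_eq, ← MulAction.index_stabilizer,
        ConjAct.stabilizer_eq_centralizer]
      rfl
    rw [Nat.card_zpowers] at hdvd
    exact hx1 (orderOf_eq_one_iff.mp (Nat.eq_one_of_dvd_coprimes hx dvd_rfl (hdvd.trans hK)))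
  let g : {C : ConjClasses K // ConjClasses.map f C = C} → W₂ := fun C =>
    ⟨((hfix C.1 C.2).choose : L), (hfix C.1 C.2).choose_spec.2⟩
  refine Nat.card_le_card_of_injective g fun C D h => Subtype.ext ?_
  have h1 : ((hfix C.1 C.2).choose : L) = ((hfix D.1 D.2).choose : L) := congr_arg (fun w : W₂ => (w : L)) h
  rw [← (hfix C.1 C.2).choose_spec.1, ← (hfix D.1 D.2).choose_spec.1, Subtype.ext h1]

end Cfsg.Agent.S1512
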