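import Cfsg.Statements.S1513
import Cfsg.Agent.S1512
import Cfsg.Agent.S1496
import Cfsg.Agent.Lib.Char.Fixed
import Cfsg.Agent.Lib.Clifford.AbelianInertia
import Cfsg.Agent.Lib.Clifford.Correspondence

set_option autoImplicit false
open Cfsg

namespace Cfsg.Agent.S1513

theorem natCard_prod {L : Type*} [Group L] [Finite L] {K W : Subgroup L} [K.Normal]
    (h : K ⊓ W = ⊥) (h' : K ⊔ W = ⊤) :
    Nat.card K * Nat.card W = Nat.card L ∧ W.index = Nat.card K ∧ K.index = Nat.card W := by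
  have hc : Subgroup.IsComplement' K W :=
    Subgroup.isComplement'_of_disjoint_and_mul_eq_univ (disjoint_iff.mpr h) (by
      rw [← Subgroup.normal_mul, h', Subgroup.coe_top])
  exact ⟨hc.card_mul, hc.index_eq_card, hc.symm.index_eq_card⟩

theorem exists_mul {L : Type*} [Group L] {K W : Subgroup L} [K.Normal] (h' : K ⊔ W = ⊤) (x : L) :
    ∃ k ∈ K, ∃ w ∈ W, x = k * w := by
  have hx : x ∈ ((K ⊔ W : Subgroup L) : Set L) := by rw [h']; trivial
  rw [Subgroup.normal_mul] at hx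
  obtain ⟨k, hk, w, hw, rfl⟩ := hx
  exact ⟨k, hk, w, hw, rfl⟩

/-- Let L be a finite group with K normal with complement W₁ ≠ 1 a cyclic Hall subgroup, and W₂ ≠ 1 a cyclic subgroup of K equal to C_K(x) for every non-identity x ∈ W₁, with W₁W₂ of odd order. For an irreducible character θ of K: if θ is not fixed under conjugation by some element of W₁, then the function induced from θ to L is an irreducible character of L; and the irreducible characters of K fixed by all of W₁ are exactly Nat.card W₂ in number, each inducing to the sum of Nat.card W₁ pairwise distinct irreducible characters of L. -/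
theorem result {L : Type*} [Group L] [Fintype L] (K W₁ W₂ : Subgroup L) [hK : K.Normal] (hKW₁ : K ⊓ W₁ = ⊥) (hKW₁' : K ⊔ W₁ = ⊤) (hW₁ : W₁ ≠ ⊥) (hW₁c : IsCyclic W₁) (hHall : Nat.Coprime (Nat.card W₁) W₁.index) (hW₂ : W₂ ≠ ⊥) (hW₂c : IsCyclic W₂) (hW₂K : W₂ ≤ K) (hC : ∀ x ∈ W₁, x ≠ 1 → K ⊓ Subgroup.centralizer ({x} : Set L) = W₂) (hodd : Odd (Nat.card ↥(W₁ ⊔ W₂))) : (∀ θ : K → ℂ, Cfsg.IsIrrCharacter K θ → (∃ x ∈ W₁, (fun k : K => θ ⟨x * k * x⁻¹, hK.conj_mem (k : L) k.2 x⟩) ≠ θ) → Cfsg.IsIrrCharacter L (Cfsg.indFun K θ)) ∧ Nat.card {θ : Cfsg.IrrCharacter K // ∀ x ∈ W₁, (fun k : K => (θ : K → ℂ) ⟨x * k * x⁻¹, hK.conj_mem (k : L) k.2 x⟩) = θ} = Nat.card W₂ ∧ (∀ θ : K → ℂ, Cfsg.IsIrrCharacter K θ → (∀ x ∈ W₁, (fun k : K => θ ⟨x * k * x⁻¹, hK.conj_mem (k : L) k.2 x⟩) = θ) → ∃ C : Finset (L → ℂ), C.card = Nat.card W₁ ∧ (∀ μ ∈ C, Cfsg.IsIrrCharacter L μ) ∧ Cfsg.indFun K θ = ∑ μ ∈ C, μ) := by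
  classical
  have : Fintype K := Fintype.ofFinite K
  obtain ⟨hcard, hidx, hKidx⟩ := natCard_prod hKW₁ hKW₁'
  have hcop : Nat.Coprime (Nat.card W₁) (Nat.card K) := hidx ▸ hHall
  obtain ⟨g₀, hg₀⟩ := hW₁c.exists_generator
  set g : L := (g₀ : L) with hgdef
  have hgW : g ∈ W₁ := g₀.2
  have hgen : ∀ w ∈ W₁, w ∈ Subgroup.zpowers g := fun w hw => by
    obtain ⟨n, hn⟩ := Subgroup.mem_zpowers_iff.mp (hg₀ ⟨w, hw⟩)
    exact Subgroup.mem_zpowers_iff.mpr ⟨n, by rw [hgdef, ← Subgroup.coe_zpow, hn]⟩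
  have hg1 : g ≠ 1 := fun h => hW₁ <| (Subgroup.eq_bot_iff_forall _).mpr fun w hw => by
    obtain ⟨n, rfl⟩ := Subgroup.mem_zpowers_iff.mp (hgen w hw)
    simp [h]
  have hord : ∀ w ∈ W₁, Nat.Coprime (orderOf w) (Nat.card K) := fun w hw =>
    hcop.coprime_dvd_left (Subgroup.orderOf_dvd_natCard W₁ hw)
  have hCy : ∀ w ∈ W₁, ∀ v ∈ Subgroup.zpowers w, v ≠ 1 →
      K ⊓ Subgroup.centralizer ({v} : Set L) = W₂ := fun w hw v hv hv1 =>
    hC v (Subgroup.zpowers_le.mpr hw hv) hv1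
  have hcent : ∀ y ∈ W₂, g * y = y * g := fun y hy => by
    rw [← hC g hgW hg1] at hy
    exact (Subgroup.mem_centralizer_singleton_iff.mp hy.2).symm
  have hcomm : ∀ a ∈ W₂, ∀ b ∈ W₂, a * b = b * a := fun a ha b hb => by
    have := hW₂c
    let _ := IsCyclic.commGroup (α := W₂)
    exact congr_arg Subtype.val (mul_comm (⟨a, ha⟩ : W₂) ⟨b, hb⟩)
  have hclassle : ∀ w ∈ W₁, w ≠ 1 → Nat.card {χ : Cfsg.IrrCharacter K //
      CfsgLib.Clifford.conjFn w (χ : K → ℂ) = χ} ≤ Nat.card W₂ := fun w hw hw1 =>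
    le_trans (le_of_eq (CfsgLib.Char.natCard_fixed_irr_equiv (MulAut.conjNormal w : MulAut K)).symm)
      (Cfsg.Agent.S1512.result K W₂ w hw1 (hord w hw) (hCy w hw))
  have hclassge : Nat.card W₂ ≤ Nat.card {χ : Cfsg.IrrCharacter K //
      CfsgLib.Clifford.conjFn g (χ : K → ℂ) = χ} := by
    refine le_trans ?_ (le_of_eq (CfsgLib.Char.natCard_fixed_irr_equiv (MulAut.conjNormal g : MulAut K)))
    have : Finite (ConjClasses K) := Finite.of_surjective _ ConjClasses.mk_surjective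
    let f : W₂ → {C : ConjClasses K //
        ConjClasses.map (MulAut.conjNormal g : MulAut K).toMonoidHom C = C} := fun y =>
      ⟨ConjClasses.mk ⟨(y : L), hW₂K y.2⟩, by
        refine congr_arg ConjClasses.mk (Subtype.ext ?_)
        show g * (y : L) * g⁻¹ = y
        rw [hcent y y.2, mul_inv_cancel_right]⟩
    refine Nat.card_le_card_of_injective f fun y y' h => ?_
    obtain ⟨k, hk⟩ := isConj_iff.mp (ConjClasses.mk_eq_mk_iff_isConj.mp (congr_arg Subtype.val h))
    have hk' : (k : L) * y * (k : L)⁻¹ = y' := congr_arg Subtype.val hk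
    let H : Subgroup L := K ⊓ Subgroup.centralizer ({(y : L)} : Set L)
    have hmemH : ∀ a : L, a ∈ H ↔ a ∈ K ∧ a * y = y * a := fun a => by
      simp [H, Subgroup.mem_centralizer_singleton_iff]
    have hgy : g * y = (y : L) * g := hcent y y.2
    have hkh : (k : L)⁻¹ * g * k * g⁻¹ ∈ H := by
      refine (hmemH _).mpr ⟨?_, ?_⟩
      · have := K.mul_mem (K.inv_mem k.2) (hK.conj_mem _ k.2 g)
        simpa only [mul_assoc] using this
      · have h1 : (k : L)⁻¹ * g * k * y = (y : L) * ((k : L)⁻¹ * g * k) := by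
          calc (k : L)⁻¹ * g * k * y = (k : L)⁻¹ * g * ((k : L) * y * (k : L)⁻¹) * k := by group
            _ = (k : L)⁻¹ * ((k : L) * y * (k : L)⁻¹) * g * k := by
                rw [hk', mul_assoc _ g, hcent y' y'.2, ← mul_assoc]
            _ = _ := by group
        have h2 : g⁻¹ * y = (y : L) * g⁻¹ := ((Commute.inv_left (show Commute g y from hgy))).eq
        rw [mul_assoc _ g⁻¹, h2, ← mul_assoc, h1, mul_assoc]
    have hgN : g ∈ Subgroup.normalizer (H : Set L) := by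
      intro a
      show a ∈ H ↔ g * a * g⁻¹ ∈ H
      simp only [hmemH]
      refine and_congr ⟨fun ha => hK.conj_mem a ha g, fun ha => ?_⟩ ⟨fun ha => ?_, fun ha => ?_⟩
      · simpa [mul_assoc] using hK.conj_mem _ ha g⁻¹
      · calc g * a * g⁻¹ * y = g * (a * (g⁻¹ * (y * g))) * g⁻¹ := by group
          _ = g * (a * y) * g⁻¹ := by rw [← hgy, inv_mul_cancel_left]
          _ = g * y * a * g⁻¹ := by rw [ha]; group
          _ = (y : L) * (g * a * g⁻¹) := by rw [hgy]; group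
      · have e : g * (a * y) * g⁻¹ = g * (y * a) * g⁻¹ := by
          calc g * (a * y) * g⁻¹ = g * a * g⁻¹ * (g * y * g⁻¹) := by group
            _ = (y : L) * (g * a * g⁻¹) := by rw [hgy, mul_inv_cancel_right, ha]
            _ = (g * y * g⁻¹) * (g * a * g⁻¹) := by rw [hgy, mul_inv_cancel_right]
            _ = _ := by group
        exact mul_left_cancel (mul_right_cancel e)
    obtain ⟨x, hx, c, hc, hcg, he⟩ := Cfsg.Agent.S1496.result H g hgN
      ((hord g hgW).coprime_dvd_right (Subgroup.card_dvd_of_le inf_le_left)) _ hkh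
    rw [show (k : L)⁻¹ * g * k * g⁻¹ * g = (k : L)⁻¹ * g * k by group] at he
    have hc1 : c = 1 := by
      have h1 : (c * g) ^ orderOf g = 1 := by
        rw [← he, conj_pow, show (k : L)⁻¹ * g * k = (k : L)⁻¹ * g * ((k : L)⁻¹)⁻¹ by group,
          conj_pow, pow_orderOf_eq_one]
        group
      rw [(show Commute c g from hcg).mul_pow, pow_orderOf_eq_one, mul_one] at h1
      exact orderOf_eq_one_iff.mp (Nat.eq_one_of_dvd_coprimes (hord g hgW)
        (orderOf_dvd_of_pow_eq_one h1) (Subgroup.orderOf_dvd_natCard K ((hmemH c).mp hc).1))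
    rw [hc1, one_mul] at he
    have hu : (k : L) * x⁻¹ ∈ W₂ := by
      rw [← hC g hgW hg1]
      refine ⟨K.mul_mem k.2 (K.inv_mem ((hmemH x).mp hx).1),
        Subgroup.mem_centralizer_singleton_iff.mpr ?_⟩
      calc (k : L) * x⁻¹ * g = (k : L) * x⁻¹ * (x * ((k : L)⁻¹ * g * k) * x⁻¹) := by rw [he]
        _ = g * ((k : L) * x⁻¹) := by group
    refine Subtype.ext ?_
    calc (y : L) = y * ((k : L) * x⁻¹) * ((k : L) * x⁻¹)⁻¹ := by group
      _ = (k : L) * x⁻¹ * y * x * (k : L)⁻¹ := by rw [hcomm _ y.2 _ hu]; group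
      _ = (k : L) * x⁻¹ * (x * y) * (k : L)⁻¹ := by rw [((hmemH x).mp hx).2]; group
      _ = y' := by rw [← hk']; group
  have hall : ∀ θ : K → ℂ, CfsgLib.Clifford.conjFn g θ = θ →
      ∀ w ∈ W₁, CfsgLib.Clifford.conjFn w θ = θ := fun θ h w hw => by
    rw [← CfsgLib.Clifford.mem_inertia_iff_conjFn] at h ⊢
    exact Subgroup.zpowers_le.mpr h (hgen w hw)
  have hfix : ∀ θ : K → ℂ, Cfsg.IsIrrCharacter K θ → ∀ w ∈ W₁, w ≠ 1 →
      CfsgLib.Clifford.conjFn w θ = θ → CfsgLib.Clifford.conjFn g θ = θ := by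
    intro θ hθ w hw hw1 h
    have : Fintype (Cfsg.IrrCharacter K) := Fintype.ofFinite _
    have e : Finset.univ.filter (fun χ : Cfsg.IrrCharacter K =>
        CfsgLib.Clifford.conjFn g (χ : K → ℂ) = χ) =
        Finset.univ.filter (fun χ : Cfsg.IrrCharacter K => CfsgLib.Clifford.conjFn w (χ : K → ℂ) = χ) := by
      refine Finset.eq_of_subset_of_card_le (fun χ hχ => ?_) ?_
      · simp only [Finset.mem_filter, Finset.mem_univ, true_and] at hχ ⊢
        exact hall _ hχ w hw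
      · have h1 := (hclassle w hw hw1).trans hclassge
        simpa [Nat.card_eq_fintype_card, Fintype.card_subtype] using h1
    have := congr_arg (fun s => (⟨θ, hθ⟩ : Cfsg.IrrCharacter K) ∈ s) e
    simpa [h] using this
  have hker : ∀ θ : K → ℂ, Cfsg.IsIrrCharacter K θ → ∀ k ∈ K,
      CfsgLib.Clifford.conjFn k θ = θ := fun θ hθ k hk =>
    CfsgLib.Clifford.mem_inertia_iff_conjFn.mp
      (CfsgLib.Clifford.le_inertia (CfsgLib.Char.irr_isClassFunction hθ) hk)
  refine ⟨?_, ?_, ?_⟩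
  · rintro θ hθ ⟨x, hx, hne⟩
    have hin : ∀ y : L, CfsgLib.Clifford.conjFn y θ = θ ↔ y ∈ K := by
      refine fun y => ⟨fun h => ?_, hker θ hθ y⟩
      obtain ⟨k, hk, w, hw, rfl⟩ := exists_mul hKW₁' y
      rw [← CfsgLib.Clifford.conjFn_conjFn, hker θ hθ k hk] at h
      by_cases hw1 : w = 1
      · simpa [hw1] using hk
      · exact absurd (hall θ (hfix θ hθ w hw hw1 h) x hx) hne
    refine CfsgLib.Clifford.isIrrCharacter_of_classInner_self
      (CfsgLib.Char.isCharacter_indFun K (CfsgLib.Char.irr_isCharacter hθ)) ?_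
    rw [CfsgLib.Clifford.classInner_indFun_indFun hθ hθ,
      Nat.card_congr (Equiv.subtypeEquivRight hin)]
    exact inv_mul_cancel₀ (Nat.cast_ne_zero.mpr Nat.card_pos.ne')
  · rw [le_antisymm hclassge (hclassle g hgW hg1)]
    exact Nat.card_congr (Equiv.subtypeEquivRight fun χ => ⟨fun h => h g hgW, fun h => hall _ h⟩)
  · intro θ hθ hfixed
    have hT : ∀ y : L, y ∈ (⊤ : Subgroup L) ↔ CfsgLib.Clifford.conjFn y θ = θ := by
      refine fun y => ⟨fun _ => ?_, fun _ => Subgroup.mem_top y⟩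
      obtain ⟨k, hk, w, hw, rfl⟩ := exists_mul hKW₁' y
      rw [← CfsgLib.Clifford.conjFn_conjFn, hker θ hθ k hk]
      exact hfixed w hw
    have hab : ∀ a ∈ (⊤ : Subgroup L), ∀ b ∈ (⊤ : Subgroup L), a * b * a⁻¹ * b⁻¹ ∈ K := by
      intro a _ b _
      obtain ⟨k, hk, w, hw, rfl⟩ := exists_mul hKW₁' a
      obtain ⟨k', hk', w', hw', rfl⟩ := exists_mul hKW₁' b
      have := hW₁c
      let _ := IsCyclic.commGroup (α := W₁)
      have hww : w * w' = w' * w := congr_arg Subtype.val (mul_comm (⟨w, hw⟩ : W₁) ⟨w', hw'⟩)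
      rw [← QuotientGroup.eq_one_iff]
      simp only [QuotientGroup.mk_mul, QuotientGroup.mk_inv, (QuotientGroup.eq_one_iff k).mpr hk,
        (QuotientGroup.eq_one_iff k').mpr hk', one_mul]
      rw [← QuotientGroup.mk_mul, hww, QuotientGroup.mk_mul]
      group
    obtain ⟨e, C, he, hCirr, hCcard, hsum, -, he1⟩ :=
      CfsgLib.Clifford.indFun_decomp_inertia K ⊤ hθ hT hab
    have e1 : e = 1 := he1 (by rw [Subgroup.relIndex_top_right, hKidx]; exact hcop.symm)
    subst e1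
    refine ⟨C, ?_, hCirr, by simpa using hsum⟩
    rw [Subgroup.card_top, ← hcard, one_pow, one_mul, mul_comm] at hCcard
    exact Nat.eq_of_mul_eq_mul_left Nat.card_pos hCcard

end Cfsg.Agent.S1513
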