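import Cfsg.Statements.S1514
import Mathlib
import Cfsg.Agent.Lib.Char.Inner

set_option autoImplicit false
open Cfsg
open scoped ComplexConjugate

namespace Cfsg.Agent.S1514

/-- Let S be a nonempty set of irreducible characters of the finite group L, closed under complex conjugation and containing no real-valued member, and τ a linear isometry on the integer combinations of S vanishing at 1, with values virtual characters of G vanishing at 1. Then there is a choice R making (S, τ, R) a coherence system. -/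
theorem result {L : Type*} [Group L] [Fintype L] {G : Type*} [Group G] [Fintype G] (S : Set (L → ℂ)) (hS : S.Nonempty) (hirr : ∀ χ ∈ S, Cfsg.IsIrrCharacter L χ) (hconj : ∀ χ ∈ S, Cfsg.conjFun χ ∈ S ∧ Cfsg.conjFun χ ≠ χ) (τ : (L → ℂ) → (G → ℂ)) (hτ : Cfsg.IsLinearIsometryOn (Cfsg.zspanOn S {1}ᶜ) τ) (hτ1 : ∀ α ∈ Cfsg.zspanOn S {1}ᶜ, τ α 1 = 0) : ∃ R : (L → ℂ) → Finset (G → ℂ), Cfsg.IsCoherenceSystem S τ R := by
  classical
  let I : Finset (G → ℂ) := (CfsgLib.Char.finite_setOf_isIrr (G := G)).toFinset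
  have hI : ∀ θ, θ ∈ I ↔ Cfsg.IsIrrCharacter G θ := fun θ => Set.Finite.mem_toFinset _
  let c : (L → ℂ) → (G → ℂ) → ℂ := fun χ θ => Cfsg.classInner (τ (χ - Cfsg.conjFun χ)) θ
  let supp : (L → ℂ) → Finset (G → ℂ) := fun χ => I.filter fun θ => c χ θ ≠ 0
  have hD : ∀ χ ∈ S, χ - Cfsg.conjFun χ ∈ Cfsg.zspanOn S {1}ᶜ := by
    intro χ hχ
    refine ⟨Submodule.sub_mem _ (Submodule.subset_span hχ) (Submodule.subset_span (hconj χ hχ).1), fun x hx => ?_⟩
    obtain ⟨d, -, hd⟩ := CfsgLib.Char.irr_apply_one_pos (hirr χ hχ)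
    obtain rfl : x = 1 := by simpa using hx
    simp [Cfsg.conjFun, hd]
  have horth : ∀ χ ∈ S, ∀ φ ∈ S, χ ≠ φ → Cfsg.classInner χ φ = 0 := fun χ h φ h' hne =>
    CfsgLib.Char.irr_classInner_ne (hirr χ h) (hirr φ h') hne
  have : Fintype (Cfsg.IrrCharacter G) := @Fintype.ofFinite _ (CfsgLib.Char.finite_irrCharacter (G := G))
  have hexp : ∀ χ ∈ S, τ (χ - Cfsg.conjFun χ) = ∑ θ ∈ I, c χ θ • θ := by
    intro χ hχ
    refine (CfsgLib.Char.classFunction_eq_sum
      (CfsgLib.Char.isGeneralized_isClassFunction (hτ.2.2.2 _ (hD χ hχ)))).trans ?_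
    exact (Finset.sum_subtype I hI (fun θ => c χ θ • θ)).symm
  have hpar : ∀ χ ∈ S, ∀ φ ∈ S, Cfsg.classInner (χ - Cfsg.conjFun χ) (φ - Cfsg.conjFun φ) =
      ∑ θ ∈ I, c χ θ * conj (c φ θ) := by
    intro χ hχ φ hφ
    rw [← hτ.2.2.1 _ (hD χ hχ) _ (hD φ hφ), CfsgLib.Char.classInner_eq_sum_mul
      (CfsgLib.Char.isGeneralized_isClassFunction (hτ.2.2.2 _ (hD χ hχ)))]
    exact (Finset.sum_subtype I hI (fun θ => c χ θ * conj (c φ θ))).symm
  have hsign : ∀ χ ∈ S, ∀ θ ∈ supp χ, c χ θ = 1 ∨ c χ θ = -1 := by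
    intro χ hχ θ hθ
    rw [Finset.mem_filter] at hθ
    choose k hk using fun η (h : η ∈ I) => CfsgLib.Char.classInner_isGeneralized_int
      (hτ.2.2.2 _ (hD χ hχ)) (CfsgLib.Char.isGeneralized_of_isCharacter (CfsgLib.Char.irr_isCharacter ((hI η).mp h)))
    let m : (G → ℂ) → ℤ := fun η => if h : η ∈ I then k η h else 0
    have hm : ∀ η ∈ I, c χ η = m η := fun η h => by simp [m, h, c, hk η h]
    have h2 := hpar χ hχ χ hχ
    rw [Finset.sum_congr rfl (fun η h => by rw [hm η h, map_intCast, ← Int.cast_mul]), ← Int.cast_sum] at h2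
    have hc := (hconj χ hχ)
    simp only [CfsgLib.Char.classInner_sub_left, CfsgLib.Char.classInner_sub_right,
      CfsgLib.Char.irr_classInner_self (hirr χ hχ), CfsgLib.Char.irr_classInner_self (hirr _ hc.1),
      horth _ hc.1 χ hχ hc.2, horth χ hχ _ hc.1 hc.2.symm] at h2
    have h3 : ∑ η ∈ I, m η * m η = 2 := by
      norm_num at h2
      exact_mod_cast h2.symm
    have h4 : m θ * m θ ≤ 2 := h3 ▸ Finset.single_le_sum (fun η _ => mul_self_nonneg (m η)) hθ.1
    have h5 : m θ ≠ 0 := fun h => hθ.2 (by rw [hm θ hθ.1, h]; simp)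
    have : m θ = 1 ∨ m θ = -1 := by
      have h6 : -1 ≤ m θ := by nlinarith
      have h7 : m θ ≤ 1 := by nlinarith
      omega
    rcases this with h | h <;> simp [hm θ hθ.1, h]
  have hcard : ∀ χ ∈ S, (supp χ).card = 2 := by
    intro χ hχ
    have h2 := hpar χ hχ χ hχ
    have hc := (hconj χ hχ)
    simp only [CfsgLib.Char.classInner_sub_left, CfsgLib.Char.classInner_sub_right,
      CfsgLib.Char.irr_classInner_self (hirr χ hχ), CfsgLib.Char.irr_classInner_self (hirr _ hc.1),
      horth _ hc.1 χ hχ hc.2, horth χ hχ _ hc.1 hc.2.symm] at h2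
    rw [← Finset.sum_filter_of_ne (p := fun θ => c χ θ ≠ 0) (fun θ _ h => left_ne_zero_of_mul h),
      Finset.sum_congr rfl (g := fun _ => (1 : ℂ)) (fun θ hθ => by
        rcases hsign χ hχ θ hθ with h | h <;> simp [h]), Finset.sum_const, nsmul_one] at h2
    norm_num at h2
    exact_mod_cast h2.symm
  let R : (L → ℂ) → Finset (G → ℂ) := fun χ => (supp χ).image fun θ => c χ θ • θ
  have hinj : ∀ χ ∈ S, ∀ θ ∈ supp χ, ∀ η ∈ supp χ,
      Cfsg.classInner (c χ θ • θ) (c χ η • η) = if θ = η then 1 else 0 := by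
    intro χ hχ θ hθ η hη
    rw [CfsgLib.Char.classInner_smul_left, CfsgLib.Char.classInner_smul_right, CfsgLib.Char.irr_classInner
      ((hI θ).mp (Finset.mem_filter.mp hθ).1) ((hI η).mp (Finset.mem_filter.mp hη).1)]
    split_ifs with h
    · subst h; rcases hsign χ hχ θ hθ with h | h <;> simp [h]
    · simp
  refine ⟨R,
    { nonempty := hS
      isCharacter := fun χ h => CfsgLib.Char.irr_isCharacter (hirr χ h)
      conj_mem := fun χ h => (hconj χ h).1
      conj_ne := fun χ h => (hconj χ h).2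
      isometry := hτ
      map_one := hτ1
      orthogonal := horth
      orthonormal := ?_
      virtual := ?_
      sum_eq := ?_
      disjoint := ?_ }⟩
  · intro χ hχ α hα β hβ
    obtain ⟨θ, hθ, rfl⟩ := Finset.mem_image.mp hα
    obtain ⟨η, hη, rfl⟩ := Finset.mem_image.mp hβ
    by_cases h : θ = η
    · subst h; rw [hinj χ hχ θ hθ θ hθ]; simp
    · have hne : c χ θ • θ ≠ c χ η • η := fun he => by
        have h1 := hinj χ hχ θ hθ η hη
        have h2 := hinj χ hχ η hη η hη
        rw [if_neg h, he] at h1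
        rw [if_pos rfl, h1] at h2
        exact zero_ne_one h2
      rw [hinj χ hχ θ hθ η hη, if_neg h, if_neg hne]
  · intro χ hχ α hα
    obtain ⟨θ, hθ, rfl⟩ := Finset.mem_image.mp hα
    have hg := CfsgLib.Char.isGeneralized_of_isCharacter
      (CfsgLib.Char.irr_isCharacter ((hI θ).mp (Finset.mem_filter.mp hθ).1))
    rcases hsign χ hχ θ hθ with h | h <;> rw [h]
    · simpa using hg
    · simpa using CfsgLib.Char.isGeneralized_neg hg
  · intro χ hχ
    rw [hexp χ hχ, Finset.sum_image ?_]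
    · exact (Finset.sum_filter_of_ne (p := fun θ => c χ θ ≠ 0) (fun θ _ h hz => h (by simp [hz]))).symm
    · intro θ hθ η hη he
      by_contra h
      have h1 := hinj χ hχ θ hθ η hη
      have h2 := hinj χ hχ η hη η hη
      simp only at he
      rw [if_neg h, he] at h1
      rw [if_pos rfl, h1] at h2
      exact zero_ne_one h2
  · intro χ hχ φ hφ ho ho' α hα β hβ
    obtain ⟨θ, hθ, rfl⟩ := Finset.mem_image.mp hα
    obtain ⟨η, hη, rfl⟩ := Finset.mem_image.mp hβ
    rw [CfsgLib.Char.classInner_smul_left, CfsgLib.Char.classInner_smul_right, CfsgLib.Char.irr_classInner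
      ((hI θ).mp (Finset.mem_filter.mp hθ).1) ((hI η).mp (Finset.mem_filter.mp hη).1)]
    split_ifs with h
    swap
    · simp
    subst h
    exfalso
    have hφχ : φ ≠ χ := fun h => by
      rw [h, CfsgLib.Char.irr_classInner_self (hirr χ hχ)] at ho; exact one_ne_zero ho
    have hφc : φ ≠ Cfsg.conjFun χ := fun h => by
      rw [h, CfsgLib.Char.irr_classInner_self (hirr _ (hconj χ hχ).1)] at ho'; exact one_ne_zero ho'
    have hcinj : Cfsg.conjFun φ ≠ Cfsg.conjFun χ := fun h => hφχ (funext fun x =>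
      (starRingEnd ℂ).injective (congr_fun h x))
    have hcφ : Cfsg.conjFun φ ≠ χ := fun h => hφc (funext fun x => by
      have := congr_fun h x
      simp only [Cfsg.conjFun] at this ⊢
      rw [← this, Complex.conj_conj])
    have hz := hpar φ hφ χ hχ
    simp only [CfsgLib.Char.classInner_sub_left, CfsgLib.Char.classInner_sub_right, ho, ho',
      horth _ (hconj φ hφ).1 χ hχ hcφ, horth _ (hconj φ hφ).1 _ (hconj χ hχ).1 hcinj, sub_zero] at hz
    obtain ⟨θ', hθ', hne⟩ := Finset.exists_mem_ne (by rw [hcard φ hφ]; norm_num) θ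
    have hsupp : supp φ = {θ, θ'} := (Finset.eq_of_subset_of_card_le
      (by simp [Finset.insert_subset_iff, hθ, hθ']) (by rw [hcard φ hφ, Finset.card_pair hne.symm])).symm
    have hz2 : c φ θ * conj (c χ θ) + c φ θ' * conj (c χ θ') = 0 := by
      rw [← Finset.sum_pair (f := fun η => c φ η * conj (c χ η)) hne.symm, ← hsupp,
        Finset.sum_filter_of_ne (fun η _ h => left_ne_zero_of_mul h), ← hz]
    have hθ'χ : θ' ∈ supp χ := Finset.mem_filter.mpr ⟨(Finset.mem_filter.mp hθ').1, fun h => by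
      rw [h, map_zero, mul_zero, add_zero] at hz2
      rcases hsign φ hφ θ hθ with k | k <;> rcases hsign χ hχ θ hη with k' | k' <;> simp [k, k'] at hz2⟩
    have hsuppχ : supp χ = {θ, θ'} := (Finset.eq_of_subset_of_card_le
      (by simp [Finset.insert_subset_iff, hη, hθ'χ]) (by rw [hcard χ hχ, Finset.card_pair hne.symm])).symm
    have hone : ∀ ξ ∈ S, supp ξ = {θ, θ'} → c ξ θ * θ 1 + c ξ θ' * θ' 1 = 0 := by
      intro ξ hξ hs
      have := hτ1 _ (hD ξ hξ)
      rw [hexp ξ hξ, ← Finset.sum_filter_of_ne (p := fun η => c ξ η ≠ 0) (fun η _ h hz => h (by simp [hz])),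
        show I.filter (fun η => c ξ η ≠ 0) = {θ, θ'} from hs, Finset.sum_pair hne.symm] at this
      simpa using this
    have e1 := hone φ hφ hsupp
    have e2 := hone χ hχ hsuppχ
    have hd := CfsgLib.Char.irr_apply_one_ne_zero ((hI θ).mp (Finset.mem_filter.mp hθ).1)
    refine hd ?_
    rcases hsign φ hφ θ hθ with a | a <;> rcases hsign φ hφ θ' hθ' with b | b <;>
      rcases hsign χ hχ θ hη with a' | a' <;> rcases hsign χ hχ θ' hθ'χ with b' | b' <;>
      simp only [a, b, a', b', map_one, map_neg] at hz2 e1 e2 <;>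
      first
        | (exfalso; norm_num at hz2; done)
        | linear_combination (1/2 : ℂ) * e1 + (1/2 : ℂ) * e2
        | linear_combination (1/2 : ℂ) * e1 - (1/2 : ℂ) * e2
        | linear_combination (-1/2 : ℂ) * e1 + (1/2 : ℂ) * e2
        | linear_combination (-1/2 : ℂ) * e1 - (1/2 : ℂ) * e2

end Cfsg.Agent.S1514
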