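import Cfsg.Statements.S1515
import Mathlib
import Cfsg.Agent.Lib.Char.Inner

set_option autoImplicit false
open Cfsg

namespace Cfsg.Agent.S1515

/-- Let (S, τ, R) be a coherence system from L to G, χ ∈ S, and ψ an integer combination of S with ⟨χ, ψ⟩ = ⟨conj χ, ψ⟩ = 0. Let τ₁ be a linear isometry on the integer combinations of χ − ψ and χ − conj χ, with virtual-character values, agreeing with τ on integer multiples of χ − conj χ. Then the sum over α ∈ R χ of the squared absolute values of ⟨τ₁(χ − ψ), α⟩ is at least ⟨χ, χ⟩; and if ⟨τ₁(χ − ψ), τ₁(χ − ψ)⟩ minus that sum is at least ⟨ψ, ψ⟩, then the sum equals ⟨χ, χ⟩ and every ⟨τ₁(χ − ψ), α⟩ with α ∈ R χ is 0 or 1. -/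
theorem result {L : Type*} [Group L] [Fintype L] {G : Type*} [Group G] [Fintype G] (S : Set (L → ℂ)) (τ : (L → ℂ) → (G → ℂ)) (R : (L → ℂ) → Finset (G → ℂ)) (hS : Cfsg.IsCoherenceSystem S τ R) (χ : L → ℂ) (hχ : χ ∈ S) (ψ : L → ℂ) (hψ : ψ ∈ Cfsg.zspan S) (h1 : Cfsg.classInner χ ψ = 0) (h2 : Cfsg.classInner (Cfsg.conjFun χ) ψ = 0) (τ₁ : (L → ℂ) → (G → ℂ)) (hτ₁ : Cfsg.IsLinearIsometryOn (Cfsg.zspan {χ - ψ, χ - Cfsg.conjFun χ}) τ₁) (hagree : ∀ n : ℤ, τ₁ (n • (χ - Cfsg.conjFun χ)) = τ (n • (χ - Cfsg.conjFun χ))) : (Cfsg.classInner χ χ).re ≤ ∑ α ∈ R χ, ‖Cfsg.classInner (τ₁ (χ - ψ)) α‖ ^ 2 ∧ ((Cfsg.classInner ψ ψ).re ≤ (Cfsg.classInner (τ₁ (χ - ψ)) (τ₁ (χ - ψ))).re - ∑ α ∈ R χ, ‖Cfsg.classInner (τ₁ (χ - ψ)) α‖ ^ 2 → (∑ α ∈ R χ, ‖Cfsg.classInner (τ₁ (χ - ψ)) α‖ ^ 2 = (Cfsg.classInner χ χ).re ∧ ∀ α ∈ R χ, Cfsg.classInner (τ₁ (χ - ψ)) α = 0 ∨ Cfsg.classInner (τ₁ (χ - ψ))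 α = 1)) := by
  classical
  have hlin := hτ₁
  set E := Cfsg.zspan {χ - ψ, χ - Cfsg.conjFun χ} with hE
  have hX : χ - ψ ∈ E := Submodule.subset_span (by simp)
  have hD : χ - Cfsg.conjFun χ ∈ E := Submodule.subset_span (by simp)
  have hXg := hτ₁.2.2.2 _ hX
  have hτD : τ₁ (χ - Cfsg.conjFun χ) = ∑ α ∈ R χ, α := by
    have := hagree 1
    rwa [one_smul, hS.sum_eq χ hχ] at this
  have hcbar : Cfsg.classInner χ (Cfsg.conjFun χ) = 0 :=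
    hS.orthogonal χ hχ _ (hS.conj_mem χ hχ) (hS.conj_ne χ hχ).symm
  have sw : ∀ φ φ' : L → ℂ, Cfsg.classInner φ φ' = 0 → Cfsg.classInner φ' φ = 0 := fun φ φ' h => by
    rw [← CfsgLib.Char.classInner_conj_symm, h, map_zero]
  choose a ha using fun (α : G → ℂ) (h : α ∈ R χ) =>
    CfsgLib.Char.classInner_isGeneralized_int hXg (hS.virtual χ hχ α h)
  let b : (G → ℂ) → ℤ := fun α => if h : α ∈ R χ then a α h else 0
  have hb : ∀ α ∈ R χ, Cfsg.classInner (τ₁ (χ - ψ)) α = b α := fun α h => by simp [b, h, ha α h]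
  have hsum : ((∑ α ∈ R χ, b α : ℤ) : ℂ) = Cfsg.classInner χ χ := by
    push_cast
    rw [← Finset.sum_congr rfl hb, ← CfsgLib.Char.classInner_sum_right, ← hτD,
      hτ₁.2.2.1 _ hX _ hD]
    simp only [CfsgLib.Char.classInner_sub_left, CfsgLib.Char.classInner_sub_right, hcbar, sw _ _ h1,
      sw _ _ h2, sub_zero]
  have hnorm : ∀ α ∈ R χ, ‖Cfsg.classInner (τ₁ (χ - ψ)) α‖ ^ 2 = ((b α ^ 2 : ℤ) : ℝ) := fun α h => by
    rw [hb α h, Complex.norm_intCast, sq_abs]; push_cast; ring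
  have hre : (Cfsg.classInner χ χ).re = ((∑ α ∈ R χ, b α : ℤ) : ℝ) := by
    rw [← hsum, Complex.intCast_re]
  rw [Finset.sum_congr rfl hnorm, ← Int.cast_sum, hre]
  have hle : ∀ α ∈ R χ, b α ≤ b α ^ 2 := fun α _ => by
    rw [sq]; rcases le_or_gt (b α) 0 with h | h <;> nlinarith
  refine ⟨by exact_mod_cast Finset.sum_le_sum hle, fun h => ?_⟩
  have hXX : (Cfsg.classInner (τ₁ (χ - ψ)) (τ₁ (χ - ψ))).re =
      (Cfsg.classInner χ χ).re + (Cfsg.classInner ψ ψ).re := by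
    rw [hτ₁.2.2.1 _ hX _ hX]
    simp only [CfsgLib.Char.classInner_sub_left, CfsgLib.Char.classInner_sub_right, h1, sw _ _ h1,
      sub_zero, zero_sub, sub_neg_eq_add, Complex.add_re]
  have h3 : ∑ α ∈ R χ, b α ^ 2 ≤ ∑ α ∈ R χ, b α := by
    have : ((∑ α ∈ R χ, b α ^ 2 : ℤ) : ℝ) ≤ ((∑ α ∈ R χ, b α : ℤ) : ℝ) := by linarith
    exact_mod_cast this
  have heq := le_antisymm h3 (Finset.sum_le_sum hle)
  refine ⟨by exact_mod_cast heq, fun α hα => ?_⟩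
  have hz := (Finset.sum_eq_sum_iff_of_le hle).mp heq.symm α hα
  rw [hb α hα]
  have hz' : b α * (b α - 1) = 0 := by linear_combination -hz
  rcases mul_eq_zero.mp hz' with k | k
  · simp [k]
  · right; simp [sub_eq_zero.mp k]

end Cfsg.Agent.S1515
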