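import Cfsg.Statements.S1516
import Cfsg.Agent.Lib.Clifford.CoherenceSystem

set_option autoImplicit false
open Cfsg

namespace Cfsg.Agent.S1516

open CfsgLib.Clifford.Coh

/-- Let (S, τ, R) be a coherence system from L to G with degrees φ 1 = d φ and squared norms ⟨φ, φ⟩ = n φ for φ ∈ S. Let S₁ ⊆ S be a finite subset closed under complex conjugation such that (S₁, L minus 1, τ) is coherent, let χ ∈ S with χ ∉ S₁ and conj χ ∉ S₁, and let χ₁ ∈ S₁ with d χ₁ dividing d χ and 2 d χ d χ₁ < Σ_{φ ∈ S₁} (d φ)² / n φ. Then S₁ together with χ and conj χ is coherent. -/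
theorem result {L : Type*} [Group L] [Fintype L] {G : Type*} [Group G] [Fintype G] (S : Set (L → ℂ)) (τ : (L → ℂ) → (G → ℂ)) (R : (L → ℂ) → Finset (G → ℂ)) (hS : Cfsg.IsCoherenceSystem S τ R) (d n : (L → ℂ) → ℕ) (hd : ∀ φ ∈ S, φ 1 = (d φ : ℂ)) (hn : ∀ φ ∈ S, Cfsg.classInner φ φ = (n φ : ℂ)) (S₁ : Finset (L → ℂ)) (hS₁ : ↑S₁ ⊆ S) (hS₁c : ∀ φ ∈ S₁, Cfsg.conjFun φ ∈ S₁) (hcoh : Cfsg.IsCoherent (↑S₁ : Set (L → ℂ)) {1}ᶜ τ) (χ : L → ℂ) (hχ : χ ∈ S) (hχ₁ : χ ∉ S₁) (hχ₂ : Cfsg.conjFun χ ∉ S₁) (χ₁ : L → ℂ) (hχ₁S : χ₁ ∈ S₁) (hdvd : d χ₁ ∣ d χ) (hineq : (2 * d χ * d χ₁ : ℝ) < ∑ φ ∈ S₁, ((d φ : ℝ) ^ 2 / (n φ : ℝ))) : Cfsg.IsCoherent (↑S₁ ∪ {χ, Cfsg.conjFun χ} : Set (L → ℂ)) {1}ᶜ τ := by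
  classical
  obtain ⟨hnz, τ₁, hτ₁, hag⟩ := hcoh
  have hχc := hS.conj_mem χ hχ
  have hχ₁ₛ : χ₁ ∈ S := hS₁ hχ₁S
  have hneS : ∀ φ ∈ S₁, φ ≠ χ ∧ φ ≠ Cfsg.conjFun χ :=
    fun φ hφ => ⟨fun h => hχ₁ (h ▸ hφ), fun h => hχ₂ (h ▸ hφ)⟩
  have hsupp : ∀ φ ∈ S, 0 < d φ ∧ 0 < n φ := by
    intro φ hφ
    obtain ⟨d', hd', he, -⟩ := exists_deg hS hφ
    obtain ⟨n', hn', hen⟩ := exists_norm hS hφ
    rw [hd φ hφ] at he
    rw [hn φ hφ] at hen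
    exact ⟨by have : d φ = d' := by exact_mod_cast he
              omega, by have : n φ = n' := by exact_mod_cast hen
                        omega⟩
  obtain ⟨a, ha⟩ := hdvd
  have hd1 := (hsupp χ₁ hχ₁ₛ).1
  have hn1 := (hsupp χ₁ hχ₁ₛ).2
  have ha0 : 0 < a := Nat.pos_of_ne_zero fun h => by
    have := (hsupp χ hχ).1
    rw [ha, h, mul_zero] at this
    exact lt_irrefl _ this
  have hin : ∀ φ ∈ S₁, φ ∈ Cfsg.zspan (↑S₁ : Set (L → ℂ)) := fun φ hφ => mem_zspan_of_mem hφ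
  -- the element to be transported
  have hθ : χ - (a : ℤ) • χ₁ ∈ Cfsg.zspanOn S ({1}ᶜ : Set L) :=
    mem_zspanOn_compl.mpr ⟨Submodule.sub_mem _ (mem_zspan_of_mem hχ)
      (Submodule.smul_mem _ _ (mem_zspan_of_mem hχ₁ₛ)), by
        simp [hd χ hχ, hd χ₁ hχ₁ₛ, ha, mul_comm]⟩
  have hdiff : ∀ φ ∈ S₁, (d χ₁ : ℤ) • φ - (d φ : ℤ) • χ₁ ∈ Cfsg.zspanOn (↑S₁ : Set (L → ℂ)) ({1}ᶜ : Set L) :=
    fun φ hφ => mem_zspanOn_compl.mpr ⟨Submodule.sub_mem _ (Submodule.smul_mem _ _ (hin φ hφ))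
      (Submodule.smul_mem _ _ (hin χ₁ hχ₁S)), by
        simp [hd φ (hS₁ hφ), hd χ₁ hχ₁ₛ, mul_comm]⟩
  set ψ := τ (χ - (a : ℤ) • χ₁) with hψ
  have hψgen : Cfsg.IsGeneralizedCharacter G ψ := hS.isometry.2.2.2 _ hθ
  choose! e he using fun φ (hφ : φ ∈ S₁) =>
    CfsgLib.Char.classInner_isGeneralized_int hψgen (hτ₁.2.2.2 φ (hin φ hφ))
  choose! c hc using fun r (hr : r ∈ R χ) =>
    CfsgLib.Char.classInner_isGeneralized_int hψgen (hS.virtual χ hχ r hr)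
  have ho : ∀ φ ∈ S₁, Cfsg.classInner χ φ = 0 ∧ Cfsg.classInner φ χ = 0 := fun φ hφ =>
    ⟨hS.orthogonal χ hχ φ (hS₁ hφ) (hneS φ hφ).1.symm,
      hS.orthogonal φ (hS₁ hφ) χ hχ (hneS φ hφ).1⟩
  have hcsum : ∑ r ∈ R χ, c r = (n χ : ℤ) := by
    have h := hS.isometry.2.2.1 _ hθ _ (conj_sub_mem hS hχ)
    rw [hS.sum_eq χ hχ, CfsgLib.Char.classInner_sum_right, ← hψ, Finset.sum_congr rfl hc] at h
    simp only [CfsgLib.Char.classInner_sub_left, CfsgLib.Char.classInner_sub_right,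
      classInner_zsmul_left, hn χ hχ, hS.orthogonal χ hχ _ hχc (hS.conj_ne χ hχ).symm,
      (ho χ₁ hχ₁S).2, hS.orthogonal χ₁ hχ₁ₛ _ hχc (hneS χ₁ hχ₁S).2, mul_zero, sub_zero] at h
    exact_mod_cast h
  set b : ℤ := e χ₁ + (a : ℤ) * n χ₁ with hb
  have heφ : ∀ φ ∈ S₁, φ ≠ χ₁ → (d χ₁ : ℤ) * e φ = (d φ : ℤ) * b := by
    intro φ hφ hne
    have hm := hdiff φ hφ
    have hmS := zspanOn_mono (A := ({1}ᶜ : Set L)) hS₁ hm
    have h := hS.isometry.2.2.1 _ hθ _ hmS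
    rw [← hag _ hm, iso_zspan_sub hτ₁ (Submodule.smul_mem _ _ (hin φ hφ))
      (Submodule.smul_mem _ _ (hin χ₁ hχ₁S)), hτ₁.2.1 _ (hin φ hφ), hτ₁.2.1 _ (hin χ₁ hχ₁S),
      ← hψ] at h
    simp only [CfsgLib.Char.classInner_sub_left, CfsgLib.Char.classInner_sub_right,
      classInner_zsmul_left, classInner_zsmul_right, he φ hφ, he χ₁ hχ₁S, (ho φ hφ).1,
      (ho χ₁ hχ₁S).1, hn χ₁ hχ₁ₛ, hS.orthogonal χ₁ hχ₁ₛ φ (hS₁ hφ) hne.symm, mul_zero, sub_zero,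
      zero_sub] at h
    have h' : (d χ₁ : ℤ) * e φ - (d φ : ℤ) * e χ₁ = (d φ : ℤ) * ((a : ℤ) * n χ₁) := by
      have : ((d χ₁ : ℤ) : ℂ) * e φ - ((d φ : ℤ) : ℂ) * e χ₁ =
          ((d φ : ℤ) : ℂ) * (((a : ℤ) : ℂ) * (n χ₁ : ℂ)) := by rw [h]; ring
      exact_mod_cast this
    rw [hb]; linear_combination h'
  have hN : Cfsg.classInner ψ ψ = (((n χ : ℝ) + (a : ℝ) ^ 2 * n χ₁ : ℝ) : ℂ) := by
    rw [hψ, hS.isometry.2.2.1 _ hθ _ hθ]
    simp only [CfsgLib.Char.classInner_sub_left, CfsgLib.Char.classInner_sub_right,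
      classInner_zsmul_left, classInner_zsmul_right, (ho χ₁ hχ₁S).1, (ho χ₁ hχ₁S).2, hn χ hχ,
      hn χ₁ hχ₁ₛ]
    push_cast
    ring
  have hperp : ∀ φ ∈ S₁, ∀ r ∈ R χ, Cfsg.classInner (τ₁ φ) r = 0 := fun φ hφ r hr =>
    image_perp hS hS₁ hτ₁ hag hφ (hS₁c φ hφ) hχ (hneS φ hφ).1 (hneS φ hφ).2 hr
  have hperp' : ∀ φ ∈ S₁, ∀ r ∈ R χ, Cfsg.classInner r (τ₁ φ) = 0 := fun φ hφ r hr => by
    rw [← CfsgLib.Char.classInner_conj_symm, hperp φ hφ r hr, map_zero]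
  have hττ : ∀ φ ∈ S₁, ∀ ω ∈ S₁, Cfsg.classInner (τ₁ φ) (τ₁ ω) = Cfsg.classInner φ ω :=
    fun φ hφ ω hω => hτ₁.2.2.1 φ (hin φ hφ) ω (hin ω hω)
  obtain ⟨hle, -⟩ := bessel ((R χ).disjSum S₁) (Sum.elim id τ₁)
    (Sum.elim (fun _ => (1 : ℝ)) fun φ => (n φ : ℝ)) ψ
    (by
      intro i hi j hj
      rcases Finset.mem_disjSum.mp hi with ⟨r, hr, rfl⟩ | ⟨φ, hφ, rfl⟩ <;>
        rcases Finset.mem_disjSum.mp hj with ⟨r', hr', rfl⟩ | ⟨ω, hω, rfl⟩ <;>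
        simp only [Sum.elim_inl, Sum.elim_inr, id, Sum.inl.injEq, Sum.inr.injEq, reduceCtorEq,
          if_false]
      · exact R_orth_real hS hχ hr hr'
      · exact hperp' ω hω r hr
      · exact hperp φ hφ r' hr'
      · rw [hττ φ hφ ω hω]
        split_ifs with h
        · subst h; rw [hn φ (hS₁ hφ), Complex.ofReal_natCast]
        · exact hS.orthogonal φ (hS₁ hφ) ω (hS₁ hω) h)
    (by
      intro i hi
      rcases Finset.mem_disjSum.mp hi with ⟨r, hr, rfl⟩ | ⟨φ, hφ, rfl⟩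
      · exact one_pos
      · exact Nat.cast_pos.mpr (hsupp φ (hS₁ hφ)).2)
    (Sum.elim (fun r => (c r : ℝ)) fun φ => (e φ : ℝ))
    (by
      intro i hi
      rcases Finset.mem_disjSum.mp hi with ⟨r, hr, rfl⟩ | ⟨φ, hφ, rfl⟩
      · simp [hc r hr]
      · simp [he φ hφ])
    _ hN
  simp only [Finset.sum_disjSum, Sum.elim_inl, Sum.elim_inr, div_one] at hle
  have hb0 : b = 0 := by
    have hc2 : (n χ : ℝ) ≤ ∑ r ∈ R χ, (c r : ℝ) ^ 2 := by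
      have h := sum_le_sum_sq (R χ) c
      rw [hcsum] at h
      exact_mod_cast h
    have hd1' : (d χ₁ : ℝ) ≠ 0 := by exact_mod_cast hd1.ne'
    have hsumE : ∑ φ ∈ S₁, (e φ : ℝ) ^ 2 / n φ =
        (b : ℝ) ^ 2 / (d χ₁ : ℝ) ^ 2 * (∑ φ ∈ S₁, (d φ : ℝ) ^ 2 / n φ) -
          2 * a * b + (a : ℝ) ^ 2 * n χ₁ := by
      rw [Finset.mul_sum, ← Finset.add_sum_erase _ _ hχ₁S, ← Finset.add_sum_erase _ _ hχ₁S,
        Finset.sum_congr rfl (g := fun φ => (b : ℝ) ^ 2 / (d χ₁ : ℝ) ^ 2 * ((d φ : ℝ) ^ 2 / n φ))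
          fun φ hφ => ?_]
      · have : (n χ₁ : ℝ) ≠ 0 := by exact_mod_cast hn1.ne'
        have hee : (e χ₁ : ℝ) = (b : ℝ) - a * n χ₁ := by rw [hb]; push_cast; ring
        rw [hee]
        field_simp
        ring
      · obtain ⟨hne, hmem⟩ := Finset.mem_erase.mp hφ
        have h : (d χ₁ : ℝ) * e φ = (d φ : ℝ) * b := by exact_mod_cast heφ φ hmem hne
        have : (e φ : ℝ) = (d φ : ℝ) * b / d χ₁ := by field_simp; linear_combination h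
        rw [this]; ring
    rw [hsumE] at hle
    set T := ∑ φ ∈ S₁, (d φ : ℝ) ^ 2 / n φ with hT
    have hT' : 2 * (a : ℝ) < T / (d χ₁ : ℝ) ^ 2 := by
      rw [lt_div_iff₀ (by positivity)]
      calc 2 * (a : ℝ) * (d χ₁ : ℝ) ^ 2 = 2 * (d χ : ℝ) * d χ₁ := by rw [ha]; push_cast; ring
        _ < T := hineq
    rw [show (b : ℝ) ^ 2 / (d χ₁ : ℝ) ^ 2 * T = (b : ℝ) ^ 2 * (T / (d χ₁ : ℝ) ^ 2) by ring] at hle
    by_contra hb0
    have ha' : (0 : ℝ) < a := by exact_mod_cast ha0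
    rcases lt_or_gt_of_ne hb0 with h | h
    · have h1 : (b : ℝ) < 0 := by exact_mod_cast h
      linarith [mul_pos ha' (neg_pos.mpr h1), hc2,
        mul_nonneg (sq_nonneg (b : ℝ)) (show 0 ≤ T / (d χ₁ : ℝ) ^ 2 by linarith)]
    · have h1 : (1 : ℝ) ≤ b := by exact_mod_cast h
      nlinarith [mul_lt_mul_of_pos_left hT' (pow_pos (lt_of_lt_of_le one_pos h1) 2), hc2,
        mul_nonneg (mul_nonneg ha'.le (zero_le_one.trans h1)) (sub_nonneg.mpr h1)]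
  -- the images of the new pair
  set X := ψ + (a : ℤ) • τ₁ χ₁ with hX
  set Y := X - ∑ r ∈ R χ, r with hY
  have he1 : (e χ₁ : ℂ) = -((a : ℂ) * n χ₁) := by
    rw [hb] at hb0
    have : e χ₁ = -((a : ℤ) * n χ₁) := by omega
    rw [this]; push_cast; ring
  have hXτ : ∀ φ ∈ S₁, Cfsg.classInner X (τ₁ φ) = 0 := by
    intro φ hφ
    rw [hX, CfsgLib.Char.classInner_add_left, he φ hφ, classInner_zsmul_left, hττ χ₁ hχ₁S φ hφ]
    by_cases h : φ = χ₁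
    · subst h; rw [he1, hn φ hχ₁ₛ]; push_cast; ring
    · rw [hS.orthogonal χ₁ hχ₁ₛ φ (hS₁ hφ) (Ne.symm h), mul_zero, add_zero]
      have h' := heφ φ hφ h
      rw [hb0, mul_zero] at h'
      exact_mod_cast (mul_eq_zero.mp h').resolve_left (by omega)
  have hXX : Cfsg.classInner X X = (n χ : ℂ) := by
    have h1 : Cfsg.classInner (τ₁ χ₁) ψ = (e χ₁ : ℂ) := by
      rw [← CfsgLib.Char.classInner_conj_symm, he χ₁ hχ₁S, map_intCast]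
    simp only [hX, CfsgLib.Char.classInner_add_left, CfsgLib.Char.classInner_add_right,
      classInner_zsmul_left, classInner_zsmul_right, hN, he χ₁ hχ₁S, h1, hττ χ₁ hχ₁S χ₁ hχ₁S,
      hn χ₁ hχ₁ₛ, he1]
    push_cast
    ring
  have hXR : Cfsg.classInner X (∑ r ∈ R χ, r) = (n χ : ℂ) := by
    rw [CfsgLib.Char.classInner_sum_right, Finset.sum_congr rfl (g := fun r => (c r : ℂ))
      fun r hr => by rw [hX, CfsgLib.Char.classInner_add_left, hc r hr, classInner_zsmul_left,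
        hperp χ₁ hχ₁S r hr, mul_zero, add_zero]]
    exact_mod_cast hcsum
  have hRR : Cfsg.classInner (∑ r ∈ R χ, r) (∑ r ∈ R χ, r) = 2 * (n χ : ℂ) := by
    have hmem := conj_sub_mem hS hχ
    rw [← hS.sum_eq χ hχ, hS.isometry.2.2.1 _ hmem _ hmem]
    simp only [CfsgLib.Char.classInner_sub_left, CfsgLib.Char.classInner_sub_right,
      classInner_conjFun, hn χ hχ, hS.orthogonal χ hχ _ hχc (hS.conj_ne χ hχ).symm,
      hS.orthogonal _ hχc χ hχ (hS.conj_ne χ hχ)]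
    ring
  have hRX : Cfsg.classInner (∑ r ∈ R χ, r) X = (n χ : ℂ) := by
    rw [← CfsgLib.Char.classInner_conj_symm, hXR, map_natCast]
  have hYτ : ∀ φ ∈ S₁, Cfsg.classInner Y (τ₁ φ) = 0 := fun φ hφ => by
    rw [hY, CfsgLib.Char.classInner_sub_left, hXτ φ hφ, CfsgLib.Char.classInner_sum_left,
      Finset.sum_eq_zero fun r hr => hperp' φ hφ r hr, sub_zero]
  have hXY : Cfsg.classInner X Y = 0 := by
    rw [hY, CfsgLib.Char.classInner_sub_right, hXX, hXR, sub_self]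
  have hYY : Cfsg.classInner Y Y = (n χ : ℂ) := by
    simp only [hY, CfsgLib.Char.classInner_sub_left, CfsgLib.Char.classInner_sub_right, hXX, hXR,
      hRX, hRR]
    ring
  let f : (L → ℂ) → G → ℂ := fun φ => if φ = χ then X else if φ = Cfsg.conjFun χ then Y else τ₁ φ
  have hfχ : f χ = X := if_pos rfl
  have hfc : f (Cfsg.conjFun χ) = Y := by simp [f, hS.conj_ne χ hχ]
  have hfS : ∀ φ ∈ S₁, f φ = τ₁ φ := fun φ hφ => by simp [f, (hneS φ hφ).1, (hneS φ hφ).2]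
  set s := insert χ (insert (Cfsg.conjFun χ) S₁) with hs
  have hsS : ∀ φ ∈ s, φ ∈ S := by
    intro φ hφ
    simp only [hs, Finset.mem_insert] at hφ
    rcases hφ with rfl | rfl | hφ
    exacts [hχ, hχc, hS₁ hφ]
  have hset : (↑S₁ ∪ {χ, Cfsg.conjFun χ} : Set (L → ℂ)) = ↑s := by
    ext φ; simp [hs]
  rw [hset]
  have hsub : (↑S₁ : Set (L → ℂ)) ⊆ ↑s := by intro φ hφ; simp [hs, Finset.mem_coe.mp hφ]
  have hXgen : Cfsg.IsGeneralizedCharacter G X := by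
    rw [hX, ← Int.cast_smul_eq_zsmul ℂ]
    exact CfsgLib.Char.isGeneralized_add hψgen
      (CfsgLib.Char.isGeneralized_zsmul (hτ₁.2.2.2 χ₁ (hin χ₁ hχ₁S)) _)
  refine coherent_of_images s f (fun x hx y hy h => hS.orthogonal x (hsS x hx) y (hsS y hy) h)
    (fun x hx => ne_zero hS (hsS x hx)) (fun φ hφ => ?_) (fun φ hφ ω hω => ?_) _ τ
    (hnz.elim fun α hα => ⟨α, zspanOn_mono hsub hα.1, hα.2⟩) (fun k hk => ?_)
  · simp only [hs, Finset.mem_insert] at hφ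
    rcases hφ with rfl | rfl | hφ
    · rw [hfχ]; exact hXgen
    · rw [hfc, hY]
      exact CfsgLib.Char.isGeneralized_sub hXgen (CfsgLib.Char.isGeneralized_sum _ (hS.virtual χ hχ))
    · rw [hfS φ hφ]; exact hτ₁.2.2.2 φ (hin φ hφ)
  · simp only [hs, Finset.mem_insert] at hφ hω
    have hsym : ∀ {u v : G → ℂ}, Cfsg.classInner u v = 0 → Cfsg.classInner v u = 0 :=
      fun {u v} h => by rw [← CfsgLib.Char.classInner_conj_symm, h, map_zero]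
    rcases hφ with rfl | rfl | hφ <;> rcases hω with rfl | rfl | hω
    · rw [hfχ, hXX, hn _ hχ]
    · rw [hfχ, hfc, hXY, hS.orthogonal _ hχ _ hχc (hS.conj_ne _ hχ).symm]
    · rw [hfχ, hfS ω hω, hXτ ω hω, (ho ω hω).1]
    · rw [hfc, hfχ, hsym hXY, hS.orthogonal _ hχc _ hχ (hS.conj_ne _ hχ)]
    · rw [hfc, hYY, classInner_conjFun, hn _ hχ]
    · rw [hfc, hfS ω hω, hYτ ω hω, hS.orthogonal _ hχc ω (hS₁ hω) (hneS ω hω).2.symm]
    · rw [hfχ, hfS φ hφ, hsym (hXτ φ hφ), (ho φ hφ).2]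
    · rw [hfc, hfS φ hφ, hsym (hYτ φ hφ), hS.orthogonal φ (hS₁ hφ) _ hχc (hneS φ hφ).2]
    · rw [hfS φ hφ, hfS ω hω, hττ φ hφ ω hω]
  · have hnot : χ ∉ insert (Cfsg.conjFun χ) S₁ := by
      simp [(hS.conj_ne χ hχ).symm, hχ₁]
    rw [hs, Finset.sum_insert hnot, Finset.sum_insert hχ₂] at hk ⊢
    rw [Finset.sum_insert hnot, Finset.sum_insert hχ₂]
    rw [Finset.sum_congr rfl fun φ hφ => by rw [hfS φ hφ], hfχ, hfc]
    set m := k χ + k (Cfsg.conjFun χ) with hm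
    set β := ∑ φ ∈ S₁, k φ • φ + (m * a) • χ₁ with hβ
    have hβ' : β ∈ Cfsg.zspanOn (↑S₁ : Set (L → ℂ)) ({1}ᶜ : Set L) := by
      refine mem_zspanOn_compl.mpr ⟨Submodule.add_mem _ (sum_mem_zspan k)
        (Submodule.smul_mem _ _ (hin χ₁ hχ₁S)), ?_⟩
      have h1 := hk.2 1 (by simp)
      obtain ⟨d', -, e1, e2⟩ := exists_deg hS hχ
      simp only [hβ, Pi.add_apply, Pi.smul_apply, zsmul_eq_mul, Pi.mul_apply, Pi.intCast_apply] at h1 ⊢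
      rw [e2] at h1
      rw [e1] at h1
      rw [hd χ hχ] at e1
      have e4 : (d' : ℂ) = (d χ₁ : ℂ) * a := by rw [← e1, ha]; push_cast; ring
      rw [hd χ₁ hχ₁ₛ, hm]
      rw [e4] at h1
      push_cast
      linear_combination h1
    have hα : k χ • χ + (k (Cfsg.conjFun χ) • Cfsg.conjFun χ + ∑ φ ∈ S₁, k φ • φ) =
        m • (χ - (a : ℤ) • χ₁) + (-k (Cfsg.conjFun χ)) • (χ - Cfsg.conjFun χ) + β := by
      rw [hβ, hm]; funext x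
      simp only [Pi.add_apply, Pi.smul_apply, Pi.sub_apply, zsmul_eq_mul, Pi.mul_apply, Pi.intCast_apply]
      push_cast; ring
    have hc1 := conj_sub_mem hS hχ
    rw [hα, hS.isometry.1 _ (zspanOn_add (zspanOn_zsmul _ hθ) (zspanOn_zsmul _ hc1)) _
      (zspanOn_mono hS₁ hβ'), hS.isometry.1 _ (zspanOn_zsmul _ hθ) _ (zspanOn_zsmul _ hc1),
      hS.isometry.2.1 _ hθ, hS.isometry.2.1 _ hc1, ← hag β hβ', ← hψ, hS.sum_eq χ hχ, hβ,
      hτ₁.1 _ (sum_mem_zspan k) _ (Submodule.smul_mem _ _ (hin χ₁ hχ₁S)),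
      hτ₁.2.1 _ (hin χ₁ hχ₁S), iso_zspan_sum hτ₁ _ _ fun φ hφ => Submodule.smul_mem _ _ (hin φ hφ),
      Finset.sum_congr rfl fun φ hφ => hτ₁.2.1 φ (hin φ hφ) (k φ), hY, hX, hm]
    funext x
    simp only [Pi.add_apply, Pi.smul_apply, Pi.sub_apply, zsmul_eq_mul, Pi.mul_apply, Pi.intCast_apply]
    push_cast; ring

end Cfsg.Agent.S1516
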