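import Cfsg.Statements.S1521
import Cfsg.Agent.Lib.Coherent.Descend
import Cfsg.Agent.Lib.Coherent.FrobeniusQuot

set_option autoImplicit false
open Cfsg
open scoped commutatorElement

namespace Cfsg.Agent.S1521

/-- Let K be a solvable normal subgroup of the finite group L of odd order and (S, τ, R) a coherence system from L to G with S the functions induced from non-principal irreducible characters of K; S(A) as before. Let M ≤ K be normal in L with K/M nilpotent, H₁ = [K, K] ⊔ M, H₁ < K < L, and suppose every element of K outside H₁ is centralised modulo H₁ only from inside K (L/H₁ is a Frobenius group with kernel K/H₁). Suppose one of the following: some normal subgroup of L lies strictly between H₁ and K; or [K:H₁] > 4[L:K]^2 + 1; or [K:M] is not a prime power; or [K,K] ≤ M; or [K:M] is a power of a prime p with [L:K] dividing p − 1. Then S(M) is coherent. -/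
theorem result {L : Type*} [Group L] [Fintype L] {G : Type*} [Group G] [Fintype G] (K : Subgroup L) [hK : K.Normal] (hsolv : Group.IsSolvable K) (τ : (L → ℂ) → (G → ℂ)) (R : (L → ℂ) → Finset (G → ℂ)) (hS : Cfsg.IsCoherenceSystem (Cfsg.inducedIrrAbove K ⊥) τ R) (hodd : Odd (Nat.card L)) (M : Subgroup L) [M.Normal] (hMK : M ≤ K) [(M.subgroupOf K).Normal] (hnil : Group.IsNilpotent (↥K ⧸ M.subgroupOf K)) (H₁ : Subgroup L) (hH₁ : H₁ = ⁅K, K⁆ ⊔ M) (hH₁K : H₁ < K) (hKL : K < ⊤) (hfrob : ∀ k ∈ K, k ∉ H₁ → ∀ x : L, x * k * x⁻¹ * k⁻¹ ∈ H₁ → x ∈ K) (hgood : (∃ N : Subgroup L, N.Normal ∧ H₁ < N ∧ N < K) ∨ 4 * K.index ^ 2 + 1 < H₁.relIndex K ∨ (¬ ∃ p m : ℕ, p.Prime ∧ M.relIndex K = p ^ m) ∨ ⁅K, K⁆ ≤ M ∨ (∃ p m : ℕ, p.Prime ∧ M.relIndex K = p ^ m ∧ K.index ∣ p - 1)) : Cfsg.IsCoherent (Cfsg.inducedIrrAbove K M) {1}ᶜ τ := by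
  have hH₁n : H₁.Normal := hH₁ ▸ inferInstance
  have hMH₁ : M ≤ H₁ := hH₁ ▸ le_sup_right
  have hder : ⁅K, K⁆ ≤ H₁ := hH₁ ▸ le_sup_left
  obtain ⟨n, hn⟩ := CfsgLib.Coherent.lowerCentralSeries_le_of_nilpotent hnil
  have hbase := CfsgLib.Coherent.coherent_linear K hsolv hS H₁ hH₁K hder
  have big : 4 * K.index ^ 2 + 1 < H₁.relIndex K →
      Cfsg.IsCoherent (Cfsg.inducedIrrAbove K M) {1}ᶜ τ := fun h =>
    CfsgLib.Coherent.descend K hsolv hS M H₁ K hMH₁ hH₁K.le le_rfl hn hbase h
  have hoddx : ∀ {A B : Subgroup L}, Odd (A.relIndex B) := fun {A B} =>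
    hodd.of_dvd_nat ((A.subgroupOf B).index_dvd_card.trans (Subgroup.card_subgroup_dvd_card B))
  have hoe : Odd K.index := hodd.of_dvd_nat K.index_dvd_card
  have he : 1 < K.index := by
    have h1 : K.index ≠ 1 := fun h => hKL.ne (Subgroup.index_eq_one.mp h)
    have h0 : K.index ≠ 0 := Subgroup.index_ne_zero_of_finite
    omega
  have hsq : ∀ u v : ℕ, 2 * K.index + 1 ≤ u → 2 * K.index + 1 ≤ v → 4 * K.index ^ 2 + 1 < u * v :=
    fun u v hu hv => lt_of_lt_of_le (by nlinarith) (Nat.mul_le_mul hu hv)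
  have hinter : ∀ N : Subgroup L, N.Normal → H₁ < N → N < K →
      4 * K.index ^ 2 + 1 < H₁.relIndex K := by
    intro N hN hlo hhi
    have d1 := CfsgLib.Coherent.index_dvd_relIndex_sub_one (N := N) hlo.le hhi.le hder hfrob
    have d2 := CfsgLib.Coherent.index_dvd_relIndex_sub_one (N := K) hH₁K.le le_rfl hder hfrob
    have hmul := Subgroup.relIndex_mul_relIndex H₁ N K hlo.le hhi.le
    have h1 : H₁.relIndex N ≠ 1 := fun h => hlo.not_ge (Subgroup.relIndex_eq_one.mp h)
    have h2 : N.relIndex K ≠ 1 := fun h => hhi.not_ge (Subgroup.relIndex_eq_one.mp h)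
    have h10 : H₁.relIndex N ≠ 0 := Subgroup.index_ne_zero_of_finite
    have h20 : N.relIndex K ≠ 0 := Subgroup.index_ne_zero_of_finite
    have d3 : K.index ∣ N.relIndex K - 1 := by
      rw [← Int.natCast_dvd_natCast, Nat.cast_sub (by omega)] at d1 ⊢
      rw [← Int.natCast_dvd_natCast, Nat.cast_sub (show 1 ≤ H₁.relIndex K from
        Nat.one_le_iff_ne_zero.mpr Subgroup.index_ne_zero_of_finite), ← hmul] at d2
      have e : ((N.relIndex K : ℤ) - 1) = ((H₁.relIndex N * N.relIndex K : ℕ) : ℤ) - 1 -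
          ((H₁.relIndex N : ℤ) - 1) * N.relIndex K := by push_cast; ring
      push_cast at e ⊢
      rw [e]
      push_cast at d1 d2
      exact dvd_sub d2 (dvd_mul_of_dvd_left d1 _)
    rw [← hmul]
    exact hsq _ _ (CfsgLib.Coherent.two_mul_index_le hoe hoddx h1 d1)
      (CfsgLib.Coherent.two_mul_index_le hoe hoddx h2 d3)
  let Q := ↥K ⧸ M.subgroupOf K
  let f := QuotientGroup.mk' (M.subgroupOf K)
  have hfs : Function.Surjective f := QuotientGroup.mk'_surjective _
  have hcomap : (commutator Q).comap f = H₁.subgroupOf K := by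
    apply Subgroup.map_injective K.subtype_injective
    rw [commutator_def, ← MonoidHom.range_eq_top.mpr hfs, MonoidHom.range_eq_map,
      ← Subgroup.map_commutator, Subgroup.comap_map_eq, QuotientGroup.ker_mk', Subgroup.map_sup,
      Subgroup.map_commutator, ← MonoidHom.range_eq_map, Subgroup.range_subtype,
      Subgroup.map_subgroupOf_eq_of_le hMK, Subgroup.map_subgroupOf_eq_of_le hH₁K.le, hH₁]
  have hidx : (commutator Q).index = H₁.relIndex K := by
    rw [← Subgroup.index_comap_of_surjective _ hfs, hcomap]; rfl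
  rcases hgood with ⟨N, hN, hlo, hhi⟩ | h | hnp | hKK | ⟨p, m, hp, hpm, hdvd⟩
  · exact big (hinter N hN hlo hhi)
  · exact big h
  · -- two primes
    obtain ⟨p, q, hp, hq, hpq, hpd, hqd⟩ : ∃ p q : ℕ, p.Prime ∧ q.Prime ∧ p ≠ q ∧
        p ∣ M.relIndex K ∧ q ∣ M.relIndex K := by
      by_contra hcon
      apply hnp
      by_cases h1 : M.relIndex K = 1
      · exact ⟨2, 0, Nat.prime_two, by simpa using h1⟩
      obtain ⟨p, hp, hpd⟩ := Nat.exists_prime_and_dvd h1
      exact ⟨p, _, hp, Nat.eq_prime_pow_of_unique_prime_dvd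
        (show M.relIndex K ≠ 0 from Subgroup.index_ne_zero_of_finite) fun {q} hq hqd => by
          by_contra hne; exact hcon ⟨p, q, hp, hq, Ne.symm hne, hpd, hqd⟩⟩
    have := Fact.mk hp
    have := Fact.mk hq
    have hcardQ : Nat.card Q = M.relIndex K := rfl
    have hp1 : p ∣ H₁.relIndex K :=
      hidx ▸ CfsgLib.Coherent.prime_dvd_commutator_index hnil (hcardQ.symm ▸ hpd)
    have hq1 : q ∣ H₁.relIndex K :=
      hidx ▸ CfsgLib.Coherent.prime_dvd_commutator_index hnil (hcardQ.symm ▸ hqd)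
    obtain ⟨a, ha⟩ : ∃ a, a = (H₁.relIndex K).factorization p := ⟨_, rfl⟩
    let g := QuotientGroup.mk' H₁
    have hcomm : ∀ x ∈ K, ∀ y ∈ K, Commute (g x) (g y) := fun x hx y hy => by
      have h := hder (Subgroup.commutator_mem_commutator hx hy)
      rw [← QuotientGroup.eq_one_iff, commutatorElement_def] at h
      exact mul_inv_eq_iff_eq_mul.mp (mul_inv_eq_one.mp h)
    let N : Subgroup L :=
      { carrier := {x | x ∈ K ∧ x ^ p ^ a ∈ H₁}
        one_mem' := ⟨K.one_mem, by rw [one_pow]; exact H₁.one_mem⟩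
        mul_mem' := fun {x y} hx hy => ⟨K.mul_mem hx.1 hy.1, by
          rw [← QuotientGroup.eq_one_iff]
          show g ((x * y) ^ p ^ a) = 1
          rw [map_pow, map_mul, (hcomm x hx.1 y hy.1).mul_pow, ← map_pow, ← map_pow,
            show g (x ^ p ^ a) = 1 from (QuotientGroup.eq_one_iff _).mpr hx.2,
            show g (y ^ p ^ a) = 1 from (QuotientGroup.eq_one_iff _).mpr hy.2, one_mul]⟩
        inv_mem' := fun {x} hx => ⟨K.inv_mem hx.1, by rw [inv_pow]; exact H₁.inv_mem hx.2⟩ }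
    have hNn : N.Normal := ⟨fun x hx y => ⟨hK.conj_mem x hx.1 y, by
      rw [conj_pow]; exact hH₁n.conj_mem _ hx.2 y⟩⟩
    have : (H₁.subgroupOf K).Normal := hH₁n.subgroupOf K
    have hord : ∀ r : ℕ, r.Prime → r ∣ H₁.relIndex K →
        ∃ x ∈ K, x ∉ H₁ ∧ ∀ i : ℕ, x ^ i ∈ H₁ ↔ r ∣ i := by
      intro r hr hrd
      have := Fact.mk hr
      obtain ⟨z, hz⟩ := exists_prime_orderOf_dvd_card' (G := ↥K ⧸ H₁.subgroupOf K) r hrd
      obtain ⟨x, rfl⟩ := QuotientGroup.mk'_surjective (H₁.subgroupOf K) z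
      have hiff : ∀ i : ℕ, (x : L) ^ i ∈ H₁ ↔ r ∣ i := fun i => by
        rw [← hz, orderOf_dvd_iff_pow_eq_one, ← map_pow]
        exact ((QuotientGroup.eq_one_iff (N := H₁.subgroupOf K) (x ^ i)).trans
          Subgroup.mem_subgroupOf).symm
      refine ⟨x, x.2, fun h => ?_, hiff⟩
      exact hr.ne_one (Nat.dvd_one.mp ((hiff 1).mp (by rwa [pow_one])))
    have hlo : H₁ < N := by
      refine lt_of_le_of_ne (fun x hx => ⟨hH₁K.le hx, H₁.pow_mem hx _⟩) fun e => ?_
      obtain ⟨x, hxK, hx1, hiff⟩ := hord p hp hp1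
      have h0 : H₁.relIndex K ≠ 0 := Subgroup.index_ne_zero_of_finite
      refine hx1 (e ▸ ⟨hxK, (hiff _).mpr (dvd_pow_self p ?_)⟩)
      rw [ha]
      exact (hp.factorization_pos_of_dvd h0 hp1).ne'
    have hhi : N < K := by
      refine lt_of_le_of_ne (fun x hx => hx.1) fun e => ?_
      obtain ⟨x, hxK, -, hiff⟩ := hord q hq hq1
      have := (hiff _).mp (e.symm ▸ hxK : x ∈ N).2
      exact hpq ((Nat.prime_dvd_prime_iff_eq hq hp).mp (hq.dvd_of_dvd_pow this)).symm
    exact big (hinter N hNn hlo hhi)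
  · have : H₁ = M := by rw [hH₁, sup_eq_right.mpr hKK]
    exact this ▸ hbase
  · -- prime power, `[L : K] ∣ p - 1`
    obtain ⟨a, -, ha⟩ := (Nat.dvd_prime_pow hp).mp
      (hpm ▸ Dvd.intro_left _ (Subgroup.relIndex_mul_relIndex M H₁ K hMH₁ hH₁K.le) :
        H₁.relIndex K ∣ p ^ m)
    have ha0 : a ≠ 0 := fun h => hH₁K.not_ge (Subgroup.relIndex_eq_one.mp (by rw [ha, h, pow_zero]))
    have hpodd : Odd p := (hoddx (A := H₁) (B := K)).of_dvd_nat (ha ▸ dvd_pow_self p ha0)
    have hp2 : 2 * K.index + 1 ≤ p := CfsgLib.Coherent.two_mul_index_le hoe hpodd hp.ne_one hdvd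
    by_cases ha1 : a = 1
    · have : H₁ = M := by
        refine le_antisymm ?_ hMH₁
        rw [hH₁]
        refine sup_le ?_ le_rfl
        obtain ⟨k, hk, hk1⟩ := SetLike.exists_of_lt hH₁K
        have hgen : Subgroup.zpowers (f ⟨k, hk⟩) ⊔ commutator Q = ⊤ := by
          have hW : Subgroup.zpowers (⟨k, hk⟩ : K) ⊔ H₁.subgroupOf K = ⊤ := by
            have h := Subgroup.index_dvd_of_le
              (le_sup_right : H₁.subgroupOf K ≤ Subgroup.zpowers (⟨k, hk⟩ : K) ⊔ _)
            rw [show (H₁.subgroupOf K).index = p by rw [← pow_one p, ← ha1]; exact ha] at h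
            rcases (Nat.dvd_prime hp).mp h with h | h
            · exact Subgroup.index_eq_one.mp h
            · exfalso
              have hH' : (H₁.subgroupOf K).index = p := by rw [← pow_one p, ← ha1]; exact ha
              have e := Subgroup.relIndex_mul_index
                (le_sup_right : H₁.subgroupOf K ≤ Subgroup.zpowers (⟨k, hk⟩ : K) ⊔ H₁.subgroupOf K)
              rw [h, hH'] at e
              have e1 := Subgroup.relIndex_eq_one.mp ((Nat.mul_eq_right hp.ne_zero).mp e)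
              exact hk1 (Subgroup.mem_subgroupOf.mp
                (e1 (Subgroup.mem_sup_left (Subgroup.mem_zpowers _))))
          rw [← MonoidHom.map_zpowers, eq_top_iff, ← MonoidHom.range_eq_top.mpr hfs,
            MonoidHom.range_eq_map, ← hW, Subgroup.map_sup]
          exact sup_le_sup_left (Subgroup.map_le_iff_le_comap.mpr hcomap.ge) _
        rw [Subgroup.commutator_le]
        intro x hx y hy
        have h := CfsgLib.Coherent.comm_of_cyclic_abelianization hnil _ hgen (f ⟨x, hx⟩) (f ⟨y, hy⟩)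
        have h2 : f ⁅(⟨x, hx⟩ : K), ⟨y, hy⟩⁆ = 1 := by
          rw [map_commutatorElement, commutatorElement_def, h, mul_inv_cancel_right, mul_inv_cancel]
        have h3 := Subgroup.mem_subgroupOf.mp ((QuotientGroup.eq_one_iff (N := M.subgroupOf K) _).mp h2)
        simp only [commutatorElement_def, Subgroup.coe_mul, Subgroup.coe_inv] at h3 ⊢
        exact h3
      exact this ▸ hbase
    · refine big (lt_of_lt_of_le (hsq p p hp2 hp2) ?_)
      rw [ha, ← pow_two]
      exact Nat.pow_le_pow_right hp.pos (by omega)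

end Cfsg.Agent.S1521
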