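import Cfsg.Statements.S1522
import Cfsg.Agent.S1521
import Cfsg.Agent.Lib.Coherent.CentralPGroup

set_option autoImplicit false
open Cfsg
open scoped commutatorElement

namespace Cfsg.Agent.S1522

/-- Let K be a nilpotent normal subgroup of the finite group L of odd order with [K,K] < K < L and L/[K,K] a Frobenius group with kernel K/[K,K] (elements of K outside [K,K] are centralised modulo [K,K] only from inside K); let (S, τ, R) be a coherence system from L to G with S the functions induced from non-principal irreducible characters of K. Let Z be a nontrivial normal subgroup of L contained in the centre of K, and suppose every member of S outside S(Z) is an irreducible character of L. Then S minus S(Z) is the set of irreducible characters χ of L with χ z ≠ χ 1 for some z ∈ Z, and it is coherent. -/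
theorem result {L : Type*} [Group L] [Fintype L] {G : Type*} [Group G] [Fintype G] (K : Subgroup L) [hK : K.Normal] (hsolv : Group.IsSolvable K) (τ : (L → ℂ) → (G → ℂ)) (R : (L → ℂ) → Finset (G → ℂ)) (hS : Cfsg.IsCoherenceSystem (Cfsg.inducedIrrAbove K ⊥) τ R) (hodd : Odd (Nat.card L)) (hnil : Group.IsNilpotent K) (hH₁K : ⁅K, K⁆ < K) (hKL : K < ⊤) (hfrob : ∀ k ∈ K, k ∉ ⁅K, K⁆ → ∀ x : L, x * k * x⁻¹ * k⁻¹ ∈ ⁅K, K⁆ → x ∈ K) (Z : Subgroup L) [Z.Normal] (hZ1 : Z ≠ ⊥) (hZK : Z ≤ K) (hZc : ∀ z ∈ Z, ∀ k ∈ K, z * k = k * z) (hirr : ∀ χ ∈ Cfsg.inducedIrrAbove K ⊥ \ Cfsg.inducedIrrAbove K Z, Cfsg.IsIrrCharacter L χ) : Cfsg.inducedIrrAbove K ⊥ \ Cfsg.inducedIrrAbove K Z = {χ | Cfsg.IsIrrCharacter L χ ∧ ∃ z ∈ Z, χ z ≠ χ 1} ∧ Cfsg.IsCoherent (Cfsg.inducedIrrAbove K ⊥ \ Cfsg.inducedIrrAbove K Z) {1}ᶜ τ := by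
  classical
  have := Fintype.ofFinite K
  refine ⟨CfsgLib.Coherent.diff_eq_setOf K hZK hirr, ?_⟩
  have hsub : Cfsg.inducedIrrAbove K ⊥ \ Cfsg.inducedIrrAbove K Z ⊆ Cfsg.inducedIrrAbove K ⊥ :=
    Set.sdiff_subset
  have hne : ⊥ < K := lt_of_lt_of_le hZ1.bot_lt hZK
  by_cases hpp : ∃ p m : ℕ, p.Prime ∧ (⊥ : Subgroup L).relIndex K = p ^ m
  swap
  · have hderK : ⁅K, K⁆ ⊔ (⊥ : Subgroup L) = ⁅K, K⁆ := sup_bot_eq _
    have : ((⊥ : Subgroup L).subgroupOf K).Normal := inferInstance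
    have hnq : Group.IsNilpotent (↥K ⧸ (⊥ : Subgroup L).subgroupOf K) := inferInstance
    have hall := Cfsg.Agent.S1521.result K hsolv τ R hS hodd ⊥ bot_le hnq ⁅K, K⁆ hderK.symm hH₁K hKL
      hfrob (Or.inr (Or.inr (Or.inl hpp)))
    -- a nonzero combination
    obtain ⟨χ, hχ⟩ : (Cfsg.inducedIrrAbove K ⊥ \ Cfsg.inducedIrrAbove K Z).Nonempty := by
      by_contra h
      rw [Set.not_nonempty_iff_eq_empty, Set.sdiff_eq_empty] at h
      obtain ⟨s, hs⟩ := (CfsgLib.Coherent.inducedIrrAbove_finite K (⊥ : Subgroup L)).exists_finset_coe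
      have hs' : ↑s = Cfsg.inducedIrrAbove K Z := hs.trans
        (le_antisymm h (CfsgLib.Coherent.inducedIrrAbove_mono K bot_le))
      have e := (CfsgLib.Coherent.sum_sq_div K ⊥ s hs).symm.trans
        (CfsgLib.Coherent.sum_sq_div K Z s hs')
      rw [Subgroup.relIndex_bot_left] at e
      have e1 := mul_left_cancel₀ (by exact_mod_cast Subgroup.index_ne_zero_of_finite) e
      have e2 : Nat.card K = Z.relIndex K := by
        exact_mod_cast (sub_left_inj.mp e1)
      have e3 : Z.relIndex K * Nat.card Z = Nat.card K := by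
        rw [← Nat.card_congr (Subgroup.subgroupOfEquivOfLe hZK).toEquiv]
        exact Subgroup.index_mul_card (Z.subgroupOf K)
      exact hZ1 (Subgroup.card_eq_one.mp ((Nat.mul_eq_left (show Z.relIndex K ≠ 0 from
        Subgroup.index_ne_zero_of_finite)).mp (e3.trans e2)))
    have hχc : Cfsg.conjFun χ ∈ Cfsg.inducedIrrAbove K ⊥ \ Cfsg.inducedIrrAbove K Z :=
      ⟨hS.conj_mem χ hχ.1, fun h => hχ.2 (by
        simpa [CfsgLib.Clifford.Coh.conjFun_conjFun] using
          CfsgLib.Coherent.inducedIrrAbove_conj K Z h)⟩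
    exact CfsgLib.Coherent.coherent_subset hsub hall
      (CfsgLib.Coherent.exists_ne_zero_zspanOn hχ hχc (hS.conj_ne χ hχ.1).symm (hirr χ hχ)
        (hirr _ hχc))
  · obtain ⟨p, m, hp, hm⟩ := hpp
    have := Fact.mk hp
    rw [Subgroup.relIndex_bot_left] at hm
    have hKp : IsPGroup p K := IsPGroup.of_card hm
    have hm0 : m ≠ 0 := fun h => hne.ne' (Subgroup.card_eq_one.mp (by rw [hm, h, pow_zero]))
    have hp2 : p ≠ 2 := fun h => by
      have h2 : 2 ∣ Nat.card L := (h ▸ hm ▸ dvd_pow_self p hm0 : 2 ∣ Nat.card K).trans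
        (Subgroup.card_subgroup_dvd_card K)
      exact Nat.not_even_iff_odd.mpr hodd (even_iff_two_dvd.mpr h2)
    have hcop : p.Coprime K.index := by
      have hd := CfsgLib.Coherent.index_dvd_relIndex_sub_one (N := K) hH₁K.le le_rfl le_rfl hfrob
      obtain ⟨a, -, ha⟩ := (Nat.dvd_prime_pow hp).mp
        (hm ▸ (⁅K, K⁆.subgroupOf K).index_dvd_card : ⁅K, K⁆.relIndex K ∣ p ^ m)
      have ha0 : a ≠ 0 := fun h => hH₁K.not_ge
        (Subgroup.relIndex_eq_one.mp (by rw [ha, h, pow_zero]))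
      rw [hp.coprime_iff_not_dvd]
      intro hdvd
      rw [ha] at hd
      have h1 : p ∣ p ^ a - (p ^ a - 1) := Nat.dvd_sub (dvd_pow_self p ha0) (hdvd.trans hd)
      rw [Nat.sub_sub_self (Nat.one_le_pow _ _ hp.pos)] at h1
      exact hp.ne_one (Nat.dvd_one.mp h1)
    exact CfsgLib.Coherent.coherent_central_diff K hp2 hKp hcop Z hZ1 hZK hZc hirr
      (fun χ hχ => hS.conj_ne χ hχ.1) τ
      (CfsgLib.Coherent.isometry_mono (CfsgLib.Clifford.Coh.zspanOn_mono hsub) hS.isometry)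
      (fun α hα => hS.map_one α (CfsgLib.Clifford.Coh.zspanOn_mono hsub hα))

end Cfsg.Agent.S1522
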