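import Cfsg.Statements.S1524
import Cfsg.Agent.Lib.Coherent.SylowTI

set_option autoImplicit false
open Cfsg

namespace Cfsg.Agent.S1524

/-- Let G be a finite group and H ≤ L subgroups with L of odd order, H ≠ ⊥ nilpotent and normal in L with a nontrivial complement W₁ in L (H ⊓ W₁ = ⊥, H ⊔ W₁ = L) acting on H without non-identity fixed points (L is a Frobenius group with kernel H), and suppose the underlying set of H is a TI-subset of G whose normaliser is L. Let S be the set of functions on L induced from the non-principal irreducible characters of H. Then (S, L minus 1, induction to G) is coherent. -/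
theorem result {G : Type*} [Group G] [Fintype G] (H L W₁ : Subgroup G) [Fintype L] (hodd : Odd (Nat.card L)) (hHL : H ≤ L) (hW₁L : W₁ ≤ L) (hH1 : H ≠ ⊥) (hW1 : W₁ ≠ ⊥) (hnil : Group.IsNilpotent H) (hHn : ∀ x ∈ L, ∀ h ∈ H, x * h * x⁻¹ ∈ H) (hinf : H ⊓ W₁ = ⊥) (hsup : H ⊔ W₁ = L) (hfpf : ∀ w ∈ W₁, w ≠ 1 → ∀ h ∈ H, w * h = h * w → h = 1) (hTI : Cfsg.IsTISubset (H : Set G)) (hN : Subgroup.normalizer (H : Set G) = L) : Cfsg.IsCoherent (Cfsg.inducedIrrAbove (H.subgroupOf L) ⊥) {1}ᶜ (fun α : L → ℂ => Cfsg.indFun L α) := by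
  classical
  have : (H.subgroupOf L).Normal := ⟨fun h hh x => hHn x x.2 h hh⟩
  have := Fintype.ofFinite (H.subgroupOf L)
  have hH1' : H.subgroupOf L ≠ ⊥ := fun h => hH1 (by
    rw [← Subgroup.map_subgroupOf_eq_of_le hHL, h, Subgroup.map_bot])
  have hH2 : H.subgroupOf L ≠ ⊤ := fun h => hW1 (le_bot_iff.mp (by
    rw [← hinf]; exact le_inf (hW₁L.trans (Subgroup.subgroupOf_eq_top.mp h)) le_rfl))
  have hC' : ∀ h ∈ H.subgroupOf L, h ≠ 1 →
      Subgroup.centralizer ({h} : Set L) ≤ H.subgroupOf L := by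
    intro h hh h1 x hx
    by_contra hxH
    have htop : H.subgroupOf L ⊔ W₁.subgroupOf L = ⊤ := by
      rw [← Subgroup.subgroupOf_sup hHL hW₁L, hsup, Subgroup.subgroupOf_self]
    obtain ⟨k, hk, w, hw, rfl⟩ := Subgroup.mem_sup_of_normal_left.mp
      (htop ▸ Subgroup.mem_top x : x ∈ H.subgroupOf L ⊔ W₁.subgroupOf L)
    have hw1 : (w : G) ≠ 1 := fun e => hxH (by rw [show w = 1 from Subtype.ext e, mul_one]; exact hk)
    let f : H → H := fun a => ⟨a * ((w : G) * (a : G)⁻¹ * (w : G)⁻¹),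
      H.mul_mem a.2 (hHn w w.2 _ (H.inv_mem a.2))⟩
    have hinj : Function.Injective f := by
      intro a b e
      have e1 : (a : G) * ((w : G) * (a : G)⁻¹ * (w : G)⁻¹) = (b : G) * ((w : G) * (b : G)⁻¹ * (w : G)⁻¹) :=
        congrArg Subtype.val e
      have e2 : (w : G) * ((b : G)⁻¹ * a) = ((b : G)⁻¹ * a) * w := by
        calc (w : G) * ((b : G)⁻¹ * a)
            = (b : G)⁻¹ * ((b : G) * ((w : G) * (b : G)⁻¹ * (w : G)⁻¹)) * w * a := by group
          _ = (b : G)⁻¹ * ((a : G) * ((w : G) * (a : G)⁻¹ * (w : G)⁻¹)) * w * a := by rw [e1]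
          _ = ((b : G)⁻¹ * a) * w := by group
      exact Subtype.ext (inv_mul_eq_one.mp (hfpf w hw hw1 _ (H.mul_mem (H.inv_mem b.2) a.2) e2)).symm
    obtain ⟨a, ha⟩ := Finite.surjective_of_injective hinj ⟨k, hk⟩
    have ha' : (a : G) * ((w : G) * (a : G)⁻¹ * (w : G)⁻¹) = k := congrArg Subtype.val ha
    have hx' : (k : G) * w * h = h * (k * w) :=
      congrArg Subtype.val (Subgroup.mem_centralizer_singleton_iff.mp hx)
    rw [← ha'] at hx'
    have e : (w : G) * ((a : G)⁻¹ * h * a) = ((a : G)⁻¹ * h * a) * w := by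
      calc (w : G) * ((a : G)⁻¹ * h * a)
          = (a : G)⁻¹ * ((a : G) * ((w : G) * (a : G)⁻¹ * (w : G)⁻¹) * w * h) * a := by group
        _ = (a : G)⁻¹ * (h * ((a : G) * ((w : G) * (a : G)⁻¹ * (w : G)⁻¹) * w)) * a := by rw [hx']
        _ = _ := by group
    have h0 : (a : G)⁻¹ * h * a = 1 :=
      hfpf w hw hw1 _ (H.mul_mem (H.mul_mem (H.inv_mem a.2) hh) a.2) e
    exact h1 (Subtype.ext (by
      calc (h : G) = a * ((a : G)⁻¹ * h * a) * (a : G)⁻¹ := by group
        _ = 1 := by rw [h0]; group))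
  have hoH : Odd (Nat.card (H.subgroupOf L)) := hodd.of_dvd_nat (Subgroup.card_subgroup_dvd_card _)
  refine CfsgLib.Coherent.coherent_ti_kernel H L hN hTI hH1' hH2 hC' (fun he => ?_) fun m hm _ => ?_
  · rw [he] at hoH
    exact Nat.not_even_iff_odd.mpr hoH ((hodd.of_dvd_nat (Subgroup.index_dvd_card _)).add_one)
  · exfalso
    have hm0 : m ≠ 0 := fun h => hH1' (Subgroup.card_eq_one.mp (by rw [hm, h, pow_zero]))
    rw [hm] at hoH
    exact Nat.not_even_iff_odd.mpr hoH (Nat.even_pow.mpr ⟨even_two, hm0⟩)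

end Cfsg.Agent.S1524
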