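import Cfsg.Statements.S1529
import Mathlib
import Cfsg.Agent.Lib.Char.Inner

set_option autoImplicit false
open Cfsg

namespace Cfsg.Agent.S1529

/-- Let N be a subgroup of the finite group G, S a set of irreducible characters of N with at least two members, and τ₁ a linear isometry on the integer combinations of S with virtual-character values such that τ₁ α vanishes at 1 whenever α ∈ ℤ[S] does. Then there is ε ∈ {1, −1} such that ε • τ₁ χ is an irreducible character of G for every χ ∈ S, and distinct members of S give distinct characters. -/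
theorem result {G : Type*} [Group G] [Fintype G] (N : Subgroup G) [Fintype N] (S : Set (N → ℂ)) (hirr : ∀ χ ∈ S, Cfsg.IsIrrCharacter N χ) (htwo : ∃ χ ∈ S, ∃ ψ ∈ S, χ ≠ ψ) (τ₁ : (N → ℂ) → (G → ℂ)) (hτ₁ : Cfsg.IsLinearIsometryOn (Cfsg.zspan S) τ₁) (h0 : ∀ α ∈ Cfsg.zspan S, α 1 = 0 → τ₁ α 1 = 0) : ∃ ε : ℂ, (ε = 1 ∨ ε = -1) ∧ (∀ χ ∈ S, Cfsg.IsIrrCharacter G (ε • τ₁ χ)) ∧ (∀ χ ∈ S, ∀ ψ ∈ S, τ₁ χ = τ₁ ψ → χ = ψ) := by
  classical
  have hmem : ∀ χ ∈ S, χ ∈ Cfsg.zspan S := fun χ h => Submodule.subset_span h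
  have hn1 : ∀ χ ∈ S, Cfsg.IsIrrCharacter G (τ₁ χ) ∨ Cfsg.IsIrrCharacter G (-τ₁ χ) := fun χ h =>
    CfsgLib.Char.isGeneralized_norm_one (hτ₁.2.2.2 χ (hmem χ h))
      (by rw [hτ₁.2.2.1 χ (hmem χ h) χ (hmem χ h), CfsgLib.Char.irr_classInner_self (hirr χ h)])
  obtain ⟨χ₀, h₀, -⟩ := htwo
  obtain ⟨d₀, hd₀, e₀⟩ := CfsgLib.Char.irr_apply_one_pos (hirr χ₀ h₀)
  have hdeg : ∀ χ ∈ S, ∀ d : ℕ, χ 1 = d → (d₀ : ℂ) * τ₁ χ 1 = (d : ℂ) * τ₁ χ₀ 1 := by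
    intro χ h d hd
    have hs : ∀ (n : ℤ), ∀ φ ∈ S, n • φ ∈ Cfsg.zspan S := fun n φ hφ =>
      Submodule.smul_mem _ n (hmem φ hφ)
    have hα := h0 ((d₀ : ℤ) • χ + (-(d : ℤ)) • χ₀)
      (Submodule.add_mem _ (hs _ χ h) (hs _ χ₀ h₀)) (by simp [hd, e₀, mul_comm])
    rw [hτ₁.1 _ (hs _ χ h) _ (hs _ χ₀ h₀), hτ₁.2.1 _ (hmem χ h), hτ₁.2.1 _ (hmem χ₀ h₀)] at hα
    simp at hα
    linear_combination hα
  obtain ⟨ε, hε, hε₀⟩ : ∃ ε : ℂ, (ε = 1 ∨ ε = -1) ∧ Cfsg.IsIrrCharacter G (ε • τ₁ χ₀) := by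
    rcases hn1 χ₀ h₀ with h | h
    · exact ⟨1, Or.inl rfl, by simpa using h⟩
    · exact ⟨-1, Or.inr rfl, by simpa using h⟩
  refine ⟨ε, hε, fun χ h => ?_, fun χ h ψ h' he => ?_⟩
  · have hcase : Cfsg.IsIrrCharacter G (ε • τ₁ χ) ∨ Cfsg.IsIrrCharacter G (-(ε • τ₁ χ)) := by
      rcases hε with rfl | rfl <;> rcases hn1 χ h with k | k <;> simp [k]
    rcases hcase with k | k
    · exact k
    exfalso
    obtain ⟨a, ha, hae⟩ := CfsgLib.Char.irr_apply_one_pos hε₀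
    obtain ⟨b, hb, hbe⟩ := CfsgLib.Char.irr_apply_one_pos k
    obtain ⟨d, hd, hde⟩ := CfsgLib.Char.irr_apply_one_pos (hirr χ h)
    simp only [Pi.smul_apply, Pi.neg_apply, smul_eq_mul] at hae hbe
    have : ((d * a + d₀ * b : ℕ) : ℂ) = 0 := by
      push_cast
      linear_combination -(d : ℂ) * hae + ε * (-hdeg χ h d hde) - (d₀ : ℂ) * hbe
    have h3 : d * a + d₀ * b = 0 := by exact_mod_cast this
    have := Nat.mul_pos hd ha
    omega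
  · by_contra hne
    have := hτ₁.2.2.1 χ (hmem χ h) ψ (hmem ψ h')
    rw [he, hτ₁.2.2.1 ψ (hmem ψ h') ψ (hmem ψ h'), CfsgLib.Char.irr_classInner_self (hirr ψ h'),
      CfsgLib.Char.irr_classInner_ne (hirr χ h) (hirr ψ h') hne] at this
    exact one_ne_zero this

end Cfsg.Agent.S1529
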