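import Cfsg.Statements.S1530
import Cfsg.Agent.Lib.Clifford.Coherence

set_option autoImplicit false
open Cfsg

namespace Cfsg.Agent.S1530

open CfsgLib.Clifford.Coh

/-- Let N be a subgroup of the finite group G and S₀ a finite set of irreducible characters of N, χ an irreducible character of N not in S₀, with degrees ξ 1 = d ξ. Let τ be a linear isometry on the integer combinations of S₀ ∪ {χ} vanishing at 1, with values virtual characters of G vanishing at 1, such that (S₀, N minus 1, τ) is coherent. If some ψ ∈ S₀ has d ψ dividing d χ and 2 · d ψ · d χ < Σ_{ξ ∈ S₀} (d ξ)², then (S₀ ∪ {χ}, N minus 1, τ) is coherent. -/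
theorem result {G : Type*} [Group G] [Fintype G] (N : Subgroup G) [Fintype N] (S₀ : Finset (N → ℂ)) (χ : N → ℂ) (hirr : ∀ ξ ∈ S₀, Cfsg.IsIrrCharacter N ξ) (hχ : Cfsg.IsIrrCharacter N χ) (hχS : χ ∉ S₀) (d : (N → ℂ) → ℕ) (hd : ∀ ξ ∈ insert χ S₀, ξ 1 = (d ξ : ℂ)) (τ : (N → ℂ) → (G → ℂ)) (hτ : Cfsg.IsLinearIsometryOn (Cfsg.zspanOn (↑(insert χ S₀) : Set (N → ℂ)) {1}ᶜ) τ) (hτ1 : ∀ α ∈ Cfsg.zspanOn (↑(insert χ S₀) : Set (N → ℂ)) {1}ᶜ, τ α 1 = 0) (hcoh : Cfsg.IsCoherent (↑S₀ : Set (N → ℂ)) {1}ᶜ τ) (ψ : N → ℂ) (hψ : ψ ∈ S₀) (hdvd : d ψ ∣ d χ) (hlt : 2 * d ψ * d χ < ∑ ξ ∈ S₀, d ξ ^ 2) : Cfsg.IsCoherent (↑(insert χ S₀) : Set (N → ℂ)) {1}ᶜ τ := by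
  classical
  obtain ⟨hnz, τ₁, hτ₁, hag⟩ := hcoh
  set S : Set (N → ℂ) := ↑(insert χ S₀) with hSdef
  have hS₀ : (↑S₀ : Set (N → ℂ)) ⊆ S := fun φ hφ => Finset.mem_insert_of_mem hφ
  have hin : ∀ φ ∈ S₀, φ ∈ Cfsg.zspan (↑S₀ : Set (N → ℂ)) := fun φ hφ => mem_zspan_of_mem hφ
  have hirr' : ∀ φ ∈ insert χ S₀, Cfsg.IsIrrCharacter N φ := fun φ hφ => by
    rcases Finset.mem_insert.mp hφ with rfl | h
    exacts [hχ, hirr φ h]
  have horth : ∀ x ∈ insert χ S₀, ∀ y ∈ insert χ S₀, x ≠ y → Cfsg.classInner x y = 0 :=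
    fun x hx y hy h => CfsgLib.Char.irr_classInner_ne (hirr' x hx) (hirr' y hy) h
  have hne : ∀ φ ∈ insert χ S₀, φ ≠ 0 := fun φ hφ h =>
    CfsgLib.Char.irr_apply_one_ne_zero (hirr' φ hφ) (by rw [h]; rfl)
  have hψ' := Finset.mem_insert_of_mem (b := χ) hψ
  have hχ' := Finset.mem_insert_self χ S₀
  have hdpos : ∀ φ ∈ insert χ S₀, 0 < d φ := fun φ hφ => Nat.pos_of_ne_zero fun h =>
    CfsgLib.Char.irr_apply_one_ne_zero (hirr' φ hφ) (by rw [hd φ hφ, h, Nat.cast_zero])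
  have hself : ∀ φ ∈ insert χ S₀, Cfsg.classInner φ φ = 1 := fun φ hφ =>
    CfsgLib.Char.irr_classInner_self (hirr' φ hφ)
  obtain ⟨a, ha⟩ := hdvd
  have ha0 : 0 < a := Nat.pos_of_ne_zero fun h => by
    have := hdpos χ hχ'
    rw [ha, h, mul_zero] at this
    exact lt_irrefl _ this
  have hψd := hdpos ψ hψ'
  have hχψ : χ ≠ ψ := fun h => hχS (h ▸ hψ)
  have hθ : χ - (a : ℤ) • ψ ∈ Cfsg.zspanOn S ({1}ᶜ : Set N) :=
    mem_zspanOn_compl.mpr ⟨Submodule.sub_mem _ (mem_zspan_of_mem hχ')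
      (Submodule.smul_mem _ _ (mem_zspan_of_mem hψ')), by
        simp [hd χ hχ', hd ψ hψ', ha, mul_comm]⟩
  set Δ := τ (χ - (a : ℤ) • ψ) with hΔ
  have hΔgen : Cfsg.IsGeneralizedCharacter G Δ := hτ.2.2.2 _ hθ
  choose! e he using fun φ (hφ : φ ∈ S₀) =>
    CfsgLib.Char.classInner_isGeneralized_int hΔgen (hτ₁.2.2.2 φ (hin φ hφ))
  have hdiff : ∀ φ ∈ S₀, (d ψ : ℤ) • φ - (d φ : ℤ) • ψ ∈ Cfsg.zspanOn (↑S₀ : Set (N → ℂ)) ({1}ᶜ : Set N) :=
    fun φ hφ => mem_zspanOn_compl.mpr ⟨Submodule.sub_mem _ (Submodule.smul_mem _ _ (hin φ hφ))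
      (Submodule.smul_mem _ _ (hin ψ hψ)), by
        simp [hd φ (Finset.mem_insert_of_mem hφ), hd ψ hψ', mul_comm]⟩
  set b : ℤ := e ψ + a with hb
  have heφ : ∀ φ ∈ S₀, φ ≠ ψ → (d ψ : ℤ) * e φ = (d φ : ℤ) * b := by
    intro φ hφ hne'
    have hm := hdiff φ hφ
    have h := hτ.2.2.1 _ hθ _ (zspanOn_mono hS₀ hm)
    have hφ' := Finset.mem_insert_of_mem (b := χ) hφ
    rw [← hag _ hm, iso_zspan_sub hτ₁ (Submodule.smul_mem _ _ (hin φ hφ))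
      (Submodule.smul_mem _ _ (hin ψ hψ)), hτ₁.2.1 _ (hin φ hφ), hτ₁.2.1 _ (hin ψ hψ),
      ← hΔ] at h
    simp only [CfsgLib.Char.classInner_sub_left, CfsgLib.Char.classInner_sub_right,
      classInner_zsmul_left, classInner_zsmul_right, he φ hφ, he ψ hψ,
      horth χ hχ' φ hφ' (fun e => hχS (e ▸ hφ)), horth χ hχ' ψ hψ' hχψ, hself ψ hψ',
      horth ψ hψ' φ hφ' hne'.symm, mul_zero, sub_zero, zero_sub] at h
    have h' : (d ψ : ℤ) * e φ - (d φ : ℤ) * e ψ = (d φ : ℤ) * (a : ℤ) := by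
      have : ((d ψ : ℤ) : ℂ) * e φ - ((d φ : ℤ) : ℂ) * e ψ =
          ((d φ : ℤ) : ℂ) * ((a : ℤ) : ℂ) := by rw [h]; ring
      exact_mod_cast this
    rw [hb]; linear_combination h'
  have hN : Cfsg.classInner Δ Δ = ((1 + (a : ℝ) ^ 2 : ℝ) : ℂ) := by
    rw [hΔ, hτ.2.2.1 _ hθ _ hθ]
    simp only [CfsgLib.Char.classInner_sub_left, CfsgLib.Char.classInner_sub_right,
      classInner_zsmul_left, classInner_zsmul_right, hself χ hχ', hself ψ hψ',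
      horth χ hχ' ψ hψ' hχψ, horth ψ hψ' χ hχ' hχψ.symm]
    push_cast
    ring
  have hττ : ∀ φ ∈ S₀, ∀ ω ∈ S₀, Cfsg.classInner (τ₁ φ) (τ₁ ω) = Cfsg.classInner φ ω :=
    fun φ hφ ω hω => hτ₁.2.2.1 φ (hin φ hφ) ω (hin ω hω)
  obtain ⟨hle, heq⟩ := bessel S₀ τ₁ (fun _ => (1 : ℝ)) Δ
    (fun φ hφ ω hω => by
      rw [hττ φ hφ ω hω]
      split_ifs with h
      · subst h; rw [hself φ (Finset.mem_insert_of_mem hφ), Complex.ofReal_one]
      · exact horth φ (Finset.mem_insert_of_mem hφ) ω (Finset.mem_insert_of_mem hω) h)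
    (fun _ _ => one_pos) (fun φ => (e φ : ℝ))
    (fun φ hφ => by rw [he φ hφ, Complex.ofReal_intCast]) _ hN
  simp only [div_one] at hle heq
  have hle' : ∑ φ ∈ S₀, e φ ^ 2 ≤ 1 + (a : ℤ) ^ 2 := by exact_mod_cast hle
  have hb0 : b = 0 := by
    have hsumE : (d ψ : ℤ) ^ 2 * ∑ φ ∈ S₀, e φ ^ 2 =
        b ^ 2 * ∑ φ ∈ S₀, (d φ : ℤ) ^ 2 - 2 * a * b * (d ψ : ℤ) ^ 2 +
          (a : ℤ) ^ 2 * (d ψ : ℤ) ^ 2 := by
      rw [Finset.mul_sum, Finset.mul_sum, ← Finset.add_sum_erase _ _ hψ,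
        ← Finset.add_sum_erase _ _ hψ, Finset.sum_congr rfl
          (g := fun φ => b ^ 2 * (d φ : ℤ) ^ 2) fun φ hφ => by
            obtain ⟨hne', hmem⟩ := Finset.mem_erase.mp hφ
            linear_combination ((d ψ : ℤ) * e φ + (d φ : ℤ) * b) * heφ φ hmem hne',
        show e ψ = b - a by rw [hb]; ring]
      ring
    have hT : 2 * (a : ℤ) * (d ψ : ℤ) ^ 2 < ∑ φ ∈ S₀, (d φ : ℤ) ^ 2 := by
      have h : 2 * a * d ψ ^ 2 < ∑ φ ∈ S₀, d φ ^ 2 := by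
        calc 2 * a * d ψ ^ 2 = 2 * d ψ * d χ := by rw [ha]; ring
          _ < _ := hlt
      exact_mod_cast h
    set T := ∑ φ ∈ S₀, (d φ : ℤ) ^ 2 with hTdef
    have hψd' : (0 : ℤ) < (d ψ : ℤ) ^ 2 := by positivity
    have hmul := mul_le_mul_of_nonneg_left hle' hψd'.le
    rw [hsumE] at hmul
    by_contra hb0
    have h1 : b = 1 := by
      have ha1 : (1 : ℤ) ≤ a := by exact_mod_cast ha0
      rcases lt_or_gt_of_ne hb0 with h | h
      · have hbneg : b ≤ -1 := by omega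
        nlinarith [mul_nonneg (sq_nonneg b) (show 0 ≤ T by nlinarith),
          mul_le_mul_of_nonneg_left (show (1 : ℤ) ≤ -(a * b) by nlinarith) hψd'.le]
      · by_contra h1
        have h2 : 2 ≤ b := by omega
        have e1 := mul_lt_mul_of_pos_left hT (pow_pos h 2)
        nlinarith [mul_le_mul_of_nonneg_left
          (one_le_mul_of_one_le_of_one_le ha1 (show (1 : ℤ) ≤ b ^ 2 - b by nlinarith)) hψd'.le]
    -- the exceptional case: the image lies in the span, contradicting the degree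
    have hge : (1 : ℤ) + (a : ℤ) ^ 2 ≤ ∑ φ ∈ S₀, e φ ^ 2 := by
      rw [h1] at hsumE
      nlinarith
    have hexp := heq (by exact_mod_cast hge)
    have hμ : ∀ φ ∈ S₀, (d ψ : ℂ) * τ₁ φ 1 = (d φ : ℂ) * τ₁ ψ 1 := by
      intro φ hφ
      have hm := hdiff φ hφ
      have h := hag _ hm
      rw [iso_zspan_sub hτ₁ (Submodule.smul_mem _ _ (hin φ hφ))
        (Submodule.smul_mem _ _ (hin ψ hψ)), hτ₁.2.1 _ (hin φ hφ), hτ₁.2.1 _ (hin ψ hψ)] at h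
      have h2 := congr_fun h 1
      rw [hτ1 _ (zspanOn_mono hS₀ hm)] at h2
      simpa [sub_eq_zero] using h2
    have hψ1 : τ₁ ψ 1 ≠ 0 := by
      have h1' : Cfsg.classInner (τ₁ ψ) (τ₁ ψ) = 1 := by rw [hττ ψ hψ ψ hψ, hself ψ hψ']
      rcases CfsgLib.Char.isGeneralized_norm_one (hτ₁.2.2.2 ψ (hin ψ hψ)) h1' with h | h
      · exact CfsgLib.Char.irr_apply_one_ne_zero h
      · simpa using CfsgLib.Char.irr_apply_one_ne_zero h
    have h0 := congr_fun hexp 1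
    rw [hΔ, hτ1 _ hθ, Finset.sum_apply] at h0
    have hsum : (∑ φ ∈ S₀, (e φ : ℂ) * d φ) * τ₁ ψ 1 = 0 := by
      have : (d ψ : ℂ) * ∑ φ ∈ S₀, (e φ : ℂ) * τ₁ φ 1 = 0 := by
        rw [show (∑ φ ∈ S₀, (e φ : ℂ) * τ₁ φ 1) = 0 by simpa using h0.symm, mul_zero]
      rw [Finset.sum_mul, ← this, Finset.mul_sum]
      exact Finset.sum_congr rfl fun φ hφ => by linear_combination (-(e φ : ℂ)) * hμ φ hφ
    have hsum' : ∑ φ ∈ S₀, e φ * (d φ : ℤ) = 0 := by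
      exact_mod_cast (mul_eq_zero.mp hsum).resolve_right hψ1
    have hval : (d ψ : ℤ) * ∑ φ ∈ S₀, e φ * (d φ : ℤ) = T - (a : ℤ) * (d ψ : ℤ) ^ 2 := by
      rw [hTdef, Finset.mul_sum, ← Finset.add_sum_erase _ _ hψ, ← Finset.add_sum_erase _ _ hψ,
        Finset.sum_congr rfl (g := fun φ => (d φ : ℤ) ^ 2) fun φ hφ => by
          obtain ⟨hne', hmem⟩ := Finset.mem_erase.mp hφ
          have := heφ φ hmem hne'
          rw [h1] at this
          linear_combination (d φ : ℤ) * this,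
        show e ψ = 1 - a by omega]
      ring
    rw [hsum', mul_zero] at hval
    nlinarith
  set Γ := Δ + (a : ℤ) • τ₁ ψ with hΓ
  have heψ : (e ψ : ℂ) = -(a : ℂ) := by
    have : e ψ = -(a : ℤ) := by omega
    rw [this]; push_cast; ring
  have hΓτ : ∀ φ ∈ S₀, Cfsg.classInner Γ (τ₁ φ) = 0 := by
    intro φ hφ
    rw [hΓ, CfsgLib.Char.classInner_add_left, he φ hφ, classInner_zsmul_left, hττ ψ hψ φ hφ]
    by_cases h : φ = ψ
    · subst h; rw [heψ, hself φ hψ']; push_cast; ring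
    · rw [horth ψ hψ' φ (Finset.mem_insert_of_mem hφ) (Ne.symm h), mul_zero, add_zero]
      have h' := heφ φ hφ h
      rw [hb0, mul_zero] at h'
      exact_mod_cast (mul_eq_zero.mp h').resolve_left (by omega)
  have hΓΓ : Cfsg.classInner Γ Γ = 1 := by
    have h1 : Cfsg.classInner (τ₁ ψ) Δ = (e ψ : ℂ) := by
      rw [← CfsgLib.Char.classInner_conj_symm, he ψ hψ, map_intCast]
    simp only [hΓ, CfsgLib.Char.classInner_add_left, CfsgLib.Char.classInner_add_right,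
      classInner_zsmul_left, classInner_zsmul_right, hN, he ψ hψ, h1, hττ ψ hψ ψ hψ,
      hself ψ hψ', heψ]
    push_cast
    ring
  let f : (N → ℂ) → G → ℂ := fun φ => if φ = χ then Γ else τ₁ φ
  have hfχ : f χ = Γ := if_pos rfl
  have hfS : ∀ φ ∈ S₀, f φ = τ₁ φ := fun φ hφ => if_neg fun h : φ = χ => hχS (h ▸ hφ)
  refine coherent_of_images (insert χ S₀) f horth hne (fun φ hφ => ?_) (fun φ hφ ω hω => ?_) _ τ
    (hnz.elim fun α hα => ⟨α, zspanOn_mono hS₀ hα.1, hα.2⟩) (fun k hk => ?_)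
  · rcases Finset.mem_insert.mp hφ with rfl | hφ
    · rw [hfχ, hΓ, ← Int.cast_smul_eq_zsmul ℂ]
      exact CfsgLib.Char.isGeneralized_add hΔgen
        (CfsgLib.Char.isGeneralized_zsmul (hτ₁.2.2.2 ψ (hin ψ hψ)) _)
    · rw [hfS φ hφ]; exact hτ₁.2.2.2 φ (hin φ hφ)
  · rcases Finset.mem_insert.mp hφ with rfl | hφ' <;>
      rcases Finset.mem_insert.mp hω with rfl | hω'
    · rw [hfχ, hΓΓ, hself _ hχ']
    · rw [hfχ, hfS ω hω', hΓτ ω hω', horth _ hχ' ω hω fun e => hχS (e ▸ hω')]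
    · rw [hfχ, hfS φ hφ', ← CfsgLib.Char.classInner_conj_symm, hΓτ φ hφ', map_zero,
        horth φ hφ _ hχ' fun e => hχS (e ▸ hφ')]
    · rw [hfS φ hφ', hfS ω hω', hττ φ hφ' ω hω']
  · rw [Finset.sum_insert hχS] at hk ⊢
    rw [Finset.sum_insert hχS, Finset.sum_congr rfl fun φ hφ => by rw [hfS φ hφ], hfχ]
    set β := ∑ φ ∈ S₀, k φ • φ + (k χ * a) • ψ with hβ
    have hα : k χ • χ + ∑ φ ∈ S₀, k φ • φ = k χ • (χ - (a : ℤ) • ψ) + β := by
      rw [hβ, smul_sub, smul_smul]; abel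
    have hβ' : β ∈ Cfsg.zspanOn (↑S₀ : Set (N → ℂ)) ({1}ᶜ : Set N) := by
      refine mem_zspanOn_compl.mpr ⟨Submodule.add_mem _ (sum_mem_zspan k)
        (Submodule.smul_mem _ _ (hin ψ hψ)), ?_⟩
      have h1 := hk.2 1 (by simp)
      have h2 := hθ.2 1 (by simp)
      rw [hα, Pi.add_apply, Pi.smul_apply, h2, smul_zero, zero_add] at h1
      exact h1
    rw [hα, hτ.1 _ (zspanOn_zsmul _ hθ) _ (zspanOn_mono hS₀ hβ'), hτ.2.1 _ hθ, ← hag β hβ',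
      ← hΔ, hβ, hτ₁.1 _ (sum_mem_zspan k) _ (Submodule.smul_mem _ _ (hin ψ hψ)),
      hτ₁.2.1 _ (hin ψ hψ), iso_zspan_sum hτ₁ _ _ fun φ hφ => Submodule.smul_mem _ _ (hin φ hφ),
      Finset.sum_congr rfl fun φ hφ => hτ₁.2.1 φ (hin φ hφ) (k φ), hΓ, smul_add, smul_smul]
    abel

end Cfsg.Agent.S1530
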