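import Cfsg.Statements.S1532
import Cfsg.Agent.Lib.Coherent.SylowTI

set_option autoImplicit false
open Cfsg

namespace Cfsg.Agent.S1532

/-- Let G be a finite group, p an odd prime and P a Sylow p-subgroup that is non-abelian, whose underlying set is a TI-subset of G, with P properly contained in its set normaliser N and C_G(x) ≤ P for every non-identity x ∈ P. Let Z be a nontrivial subgroup of the centre of P normalised by N. Then the set of irreducible characters χ of N with χ z ≠ χ 1 for some z ∈ Z is coherent for the map induced by induction from N to G. -/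
theorem result {G : Type*} [Group G] [Fintype G] (p : ℕ) [Fact p.Prime] (hp : p ≠ 2) (P : Sylow p G) (hna : ¬ IsMulCommutative (P : Subgroup G)) (hTI : Cfsg.IsTISubset ((P : Subgroup G) : Set G)) (hlt : (P : Subgroup G) < Subgroup.normalizer ((P : Subgroup G) : Set G)) (hC : ∀ k ∈ (P : Subgroup G), k ≠ 1 → Subgroup.centralizer ({k} : Set G) ≤ (P : Subgroup G)) [Fintype ↥(Subgroup.normalizer ((P : Subgroup G) : Set G))] (Z : Subgroup G) (hZ1 : Z ≠ ⊥) (hZP : ∀ z ∈ Z, z ∈ (P : Subgroup G) ∧ ∀ y ∈ (P : Subgroup G), z * y = y * z) (hZn : ∀ x ∈ Subgroup.normalizer ((P : Subgroup G) : Set G), ∀ z ∈ Z, x * z * x⁻¹ ∈ Z) : Cfsg.IsCoherent {χ : ↥(Subgroup.normalizer ((P : Subgroup G) : Set G)) → ℂ | Cfsg.IsIrrCharacter ↥(Subgroup.normalizer ((P : Subgroup G) : Set G)) χ ∧ ∃ z : ↥(Subgroup.normalizer ((P : Subgroup G) : Set G)), (z : G) ∈ Z ∧ χ z ≠ χ 1} {1}ᶜ (fun α => Cfsg.indFun (Subgroup.normalizer ((P : Subgroup G) : Set G)) α) := by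
  classical
  have hPL : (P : Subgroup G) ≤ (Subgroup.normalizer ((P : Subgroup G) : Set G)) := Subgroup.le_normalizer
  have : ((P : Subgroup G).subgroupOf (Subgroup.normalizer ((P : Subgroup G) : Set G))).Normal := Subgroup.normal_in_normalizer
  have hC' : ∀ h ∈ (P : Subgroup G).subgroupOf (Subgroup.normalizer ((P : Subgroup G) : Set G)), h ≠ 1 →
      Subgroup.centralizer ({h} : Set (Subgroup.normalizer ((P : Subgroup G) : Set G))) ≤ (P : Subgroup G).subgroupOf (Subgroup.normalizer ((P : Subgroup G) : Set G)) := fun h hh h1 x hx =>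
    hC (h : G) hh (fun e => h1 (Subtype.ext e)) (Subgroup.mem_centralizer_singleton_iff.mpr
      (congrArg Subtype.val (Subgroup.mem_centralizer_singleton_iff.mp hx)))
  set H := (P : Subgroup G).subgroupOf (Subgroup.normalizer ((P : Subgroup G) : Set G)) with hH
  have := Fintype.ofFinite H
  have hHK : ⁅H, H⁆ ≠ ⊥ := fun h => hna (Subgroup.commutator_self_eq_bot_iff.mp (by
    rw [← Subgroup.map_subgroupOf_eq_of_le hPL, ← Subgroup.map_commutator, ← hH, h, Subgroup.map_bot]))
  have hH1 : H ≠ ⊥ := fun h => hHK (by rw [h, Subgroup.commutator_bot_left])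
  have hHp : IsPGroup p H := P.2.comap_of_injective (Subgroup.normalizer ((P : Subgroup G) : Set G)).subtype (Subgroup.normalizer ((P : Subgroup G) : Set G)).subtype_injective
  have hoe : Odd H.index := Nat.not_even_iff_odd.mp fun he =>
    hHK (CfsgLib.Coherent.derived_eq_bot_of_even hC' he)
  obtain ⟨k, hk⟩ := IsPGroup.iff_card.mp hHp
  have hodd : Odd (Nat.card (Subgroup.normalizer ((P : Subgroup G) : Set G))) := by
    rw [← H.index_mul_card, hk]
    exact hoe.mul ((((Fact.out : p.Prime).odd_of_ne_two hp)).pow)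
  have hcop : p.Coprime H.index := by
    have hd := CfsgLib.Coherent.index_dvd_card_sub_one hC' (A := H) le_rfl
    have hk0 : k ≠ 0 := fun h => hH1 (Subgroup.card_eq_one.mp (by rw [hk, h, pow_zero]))
    rw [(Fact.out : p.Prime).coprime_iff_not_dvd]
    intro hdvd
    rw [hk] at hd
    have h1 : p ∣ p ^ k - (p ^ k - 1) := Nat.dvd_sub (dvd_pow_self p hk0) (hdvd.trans hd)
    rw [Nat.sub_sub_self (Nat.one_le_pow _ _ (Fact.out : p.Prime).pos)] at h1
    exact (Fact.out : p.Prime).ne_one (Nat.dvd_one.mp h1)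
  have hZn' : (Z.subgroupOf (Subgroup.normalizer ((P : Subgroup G) : Set G))).Normal := ⟨fun z hz x => hZn x x.2 z hz⟩
  have hZH : Z.subgroupOf (Subgroup.normalizer ((P : Subgroup G) : Set G)) ≤ H := fun z hz => (hZP z hz).1
  have hZ1' : Z.subgroupOf (Subgroup.normalizer ((P : Subgroup G) : Set G)) ≠ ⊥ := fun h => hZ1 (by
    rw [← Subgroup.map_subgroupOf_eq_of_le (show Z ≤ (Subgroup.normalizer ((P : Subgroup G) : Set G)) from fun z hz => hPL (hZP z hz).1), h,
      Subgroup.map_bot])
  have hirr : ∀ χ ∈ Cfsg.inducedIrrAbove H ⊥ \ Cfsg.inducedIrrAbove H (Z.subgroupOf (Subgroup.normalizer ((P : Subgroup G) : Set G))),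
      Cfsg.IsIrrCharacter (Subgroup.normalizer ((P : Subgroup G) : Set G)) χ := fun χ h => CfsgLib.Coherent.frobenius_irr hC' h.1
  obtain ⟨hτ, hτ1⟩ := CfsgLib.Coherent.indFun_isometry (L := (Subgroup.normalizer ((P : Subgroup G) : Set G))) (P : Subgroup G)
    fun g hg h hh hgh => hTI g hg h hh hgh
  have hset := CfsgLib.Coherent.diff_eq_setOf H hZH hirr
  have hres := CfsgLib.Coherent.coherent_central_diff H hp hHp hcop (Z.subgroupOf (Subgroup.normalizer ((P : Subgroup G) : Set G))) hZ1' hZH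
    (fun z hz y hy => Subtype.ext ((hZP z hz).2 y hy)) hirr
    (fun χ hχ h => by
      have hmem : χ ∈ {χ : (Subgroup.normalizer ((P : Subgroup G) : Set G)) → ℂ | Cfsg.IsIrrCharacter (Subgroup.normalizer ((P : Subgroup G) : Set G)) χ ∧ ∃ h ∈ H, χ h ≠ χ 1} := by
        rw [CfsgLib.Coherent.frobenius_setOf_eq hC']; exact hχ.1
      obtain ⟨hi, g, hg, hne⟩ := hmem
      have e := CfsgLib.Char.eq_one_of_real_odd hodd hi fun g =>
        Complex.conj_eq_iff_im.mp (congr_fun h g)
      exact hne (by rw [e]))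
    (fun α : (Subgroup.normalizer ((P : Subgroup G) : Set G)) → ℂ => Cfsg.indFun (Subgroup.normalizer ((P : Subgroup G) : Set G)) α)
    (CfsgLib.Coherent.isometry_mono (CfsgLib.Clifford.Coh.zspanOn_mono Set.sdiff_subset) hτ)
    (fun α hα => hτ1 α (CfsgLib.Clifford.Coh.zspanOn_mono Set.sdiff_subset hα))
  rw [hset] at hres
  exact hres

end Cfsg.Agent.S1532
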