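import Cfsg.Statements.S1533
import Cfsg.Agent.Lib.Coherent.SylowTI

set_option autoImplicit false
open Cfsg

namespace Cfsg.Agent.S1533

/-- Let G be a finite group, p an odd prime, and P a nontrivial Sylow p-subgroup whose underlying set is a TI-subset of G, with P properly contained in its set normaliser N and C_G(x) ≤ P for every non-identity x ∈ P. Let S be the set of irreducible characters χ of N with χ x ≠ χ 1 for some x ∈ P. Then either S has exactly one member, P is elementary abelian and Nat.card P = [N:P] + 1; or (S, N minus 1, induction to G) is coherent. -/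
theorem result {G : Type*} [Group G] [Fintype G] (p : ℕ) [Fact p.Prime] (hp : p ≠ 2) (P : Sylow p G) (hP1 : (P : Subgroup G) ≠ ⊥) (hTI : Cfsg.IsTISubset ((P : Subgroup G) : Set G)) (hlt : (P : Subgroup G) < Subgroup.normalizer ((P : Subgroup G) : Set G)) (hC : ∀ k ∈ (P : Subgroup G), k ≠ 1 → Subgroup.centralizer ({k} : Set G) ≤ (P : Subgroup G)) [Fintype ↥(Subgroup.normalizer ((P : Subgroup G) : Set G))] : (Nat.card {χ : ↥(Subgroup.normalizer ((P : Subgroup G) : Set G)) → ℂ // Cfsg.IsIrrCharacter ↥(Subgroup.normalizer ((P : Subgroup G) : Set G)) χ ∧ ∃ x : ↥(Subgroup.normalizer ((P : Subgroup G) : Set G)), (x : G) ∈ (P : Subgroup G) ∧ χ x ≠ χ 1} = 1 ∧ Cfsg.IsElementaryAbelian p (P : Subgroup G) ∧ Nat.card (P : Subgroup G) = ((P : Subgroup G).subgroupOf (Subgroup.normalizer ((P : Subgroup G) : Set G))).index + 1) ∨ Cfsg.IsCoherent {χ : ↥(Subgroup.normalizer ((P : Subgroup G) : Set G)) → ℂ | Cfsg.IsIrrCharacter ↥(Subgroup.normalizer ((P : Subgroup G) : Set G)) χ ∧ ∃ x : ↥(Subgroup.normalizer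 ((P : Subgroup G) : Set G)), (x : G) ∈ (P : Subgroup G) ∧ χ x ≠ χ 1} {1}ᶜ (fun α => Cfsg.indFun (Subgroup.normalizer ((P : Subgroup G) : Set G)) α) := by
  classical
  have hPL : (P : Subgroup G) ≤ (Subgroup.normalizer ((P : Subgroup G) : Set G)) := Subgroup.le_normalizer
  have : ((P : Subgroup G).subgroupOf (Subgroup.normalizer ((P : Subgroup G) : Set G))).Normal := Subgroup.normal_in_normalizer
  have hC' : ∀ h ∈ (P : Subgroup G).subgroupOf (Subgroup.normalizer ((P : Subgroup G) : Set G)), h ≠ 1 →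
      Subgroup.centralizer ({h} : Set (Subgroup.normalizer ((P : Subgroup G) : Set G))) ≤ (P : Subgroup G).subgroupOf (Subgroup.normalizer ((P : Subgroup G) : Set G)) := fun h hh h1 x hx =>
    hC (h : G) hh (fun e => h1 (Subtype.ext e)) (Subgroup.mem_centralizer_singleton_iff.mpr
      (congrArg Subtype.val (Subgroup.mem_centralizer_singleton_iff.mp hx)))
  set H := (P : Subgroup G).subgroupOf (Subgroup.normalizer ((P : Subgroup G) : Set G)) with hH
  have := Fintype.ofFinite H
  have hH1 : H ≠ ⊥ := fun h => hP1 (by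
    rw [← Subgroup.map_subgroupOf_eq_of_le hPL, ← hH, h, Subgroup.map_bot])
  have hH2 : H ≠ ⊤ := fun h => hlt.not_ge (Subgroup.subgroupOf_eq_top.mp h)
  have hset : {χ : (Subgroup.normalizer ((P : Subgroup G) : Set G)) → ℂ | Cfsg.IsIrrCharacter (Subgroup.normalizer ((P : Subgroup G) : Set G)) χ ∧ ∃ x : (Subgroup.normalizer ((P : Subgroup G) : Set G)), (x : G) ∈ (P : Subgroup G) ∧ χ x ≠ χ 1}
      = Cfsg.inducedIrrAbove H ⊥ := CfsgLib.Coherent.frobenius_setOf_eq hC'
  have hcard : Nat.card (P : Subgroup G) = Nat.card H :=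
    (Nat.card_congr (Subgroup.subgroupOfEquivOfLe hPL).toEquiv).symm
  by_cases he : Nat.card H = H.index + 1
  · refine Or.inl ⟨?_, ?_, hcard.trans he⟩
    · have h1 := CfsgLib.Coherent.card_of_card_eq hC' hH1 he
      rw [← hset] at h1
      exact h1
    · obtain ⟨hab, q, hq, hexp⟩ := CfsgLib.Coherent.elementary_of_card_eq hC' hH1 he
      refine ⟨Subgroup.commutator_self_eq_bot_iff.mp (by
        rw [← Subgroup.map_subgroupOf_eq_of_le hPL, ← Subgroup.map_commutator, ← hH, hab,
          Subgroup.map_bot]), fun a ha => ?_⟩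
      have haq : a ^ q = 1 := congrArg Subtype.val (hexp ⟨a, hPL ha⟩ ha)
      rcases eq_or_ne a 1 with rfl | ha1
      · exact one_pow p
      obtain ⟨j, hj⟩ := IsPGroup.iff_orderOf.mp P.2 ⟨a, ha⟩
      rw [Subgroup.orderOf_mk] at hj
      have hord := orderOf_eq_prime (hp := ⟨hq⟩) haq ha1
      have hqp : q = p := (Nat.prime_dvd_prime_iff_eq hq Fact.out).mp
        (hq.dvd_of_dvd_pow (dvd_of_eq (hord.symm.trans hj)))
      rwa [hqp] at haq
  · right
    rw [hset]
    refine CfsgLib.Coherent.coherent_ti_kernel (P : Subgroup G) (Subgroup.normalizer ((P : Subgroup G) : Set G)) rfl hTI hH1 hH2 hC' he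
      fun m hm _ => ?_
    exfalso
    have h1 : Nat.card H ≠ 1 := fun e => hH1 (Subgroup.card_eq_one.mp e)
    obtain ⟨k, hk⟩ := IsPGroup.iff_card.mp P.2
    rw [← hcard, hk] at hm h1
    have hk0 : k ≠ 0 := fun h => h1 (by rw [h, pow_zero])
    exact hp ((Nat.prime_dvd_prime_iff_eq Fact.out Nat.prime_two).mp
      ((Fact.out : p.Prime).dvd_of_dvd_pow (hm ▸ dvd_pow_self p hk0)))

end Cfsg.Agent.S1533
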