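import Cfsg.Statements.S1534
import Cfsg.Agent.Lib.Coherent.SylowTI

set_option autoImplicit false
open Cfsg

namespace Cfsg.Agent.S1534

/-- Let G be a finite group and K a nontrivial nilpotent subgroup whose underlying set is a TI-subset of G, properly contained in its set normaliser N, with C_G(k) ≤ K for every non-identity k ∈ K; let e be the index of K in N and S the set of irreducible characters χ of N with χ k ≠ χ 1 for some k ∈ K. Then one of: S has exactly one member, Nat.card K = e + 1 and K is an elementary abelian p-group for some prime p; or K is a Sylow 2-subgroup of G (Nat.card K is the largest power of 2 dividing Nat.card G) and [K : [K,K]] < 4e²; or (S, N minus 1, induction to G) is coherent. -/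
theorem result {G : Type*} [Group G] [Fintype G] (K : Subgroup G) (hK1 : K ≠ ⊥) (hnil : Group.IsNilpotent K) (hTI : Cfsg.IsTISubset (K : Set G)) (hlt : K < Subgroup.normalizer (K : Set G)) (hC : ∀ k ∈ K, k ≠ 1 → Subgroup.centralizer ({k} : Set G) ≤ K) [Fintype ↥(Subgroup.normalizer (K : Set G))] : (Nat.card {χ : ↥(Subgroup.normalizer (K : Set G)) → ℂ // Cfsg.IsIrrCharacter ↥(Subgroup.normalizer (K : Set G)) χ ∧ ∃ k : ↥(Subgroup.normalizer (K : Set G)), (k : G) ∈ K ∧ χ k ≠ χ 1} = 1 ∧ Nat.card K = (K.subgroupOf (Subgroup.normalizer (K : Set G))).index + 1 ∧ ∃ p : ℕ, p.Prime ∧ Cfsg.IsElementaryAbelian p K) ∨ (Nat.card K = 2 ^ (Nat.card G).factorization 2 ∧ (⁅K, K⁆.subgroupOf K).index < 4 * (K.subgroupOf (Subgroup.normalizer (K : Set G))).index ^ 2) ∨ Cfsg.IsCoherent {χ : ↥(Subgroup.normalizer (K : Set G)) → ℂ | Cfsg.IsIrrCharacter ↥(Subgroup.normalizer (K : Set G)) χ ∧ ∃ k : ↥(Subgroup.normalizer (K : Set G)), (k : G) ∈ K ∧ χ k ≠ χ 1} {1}ᶜ (fun α => Cfsg.indFun (Subgroup.normalizer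 (K : Set G)) α) := by
  classical
  have hKL : K ≤ (Subgroup.normalizer (K : Set G)) := Subgroup.le_normalizer
  have : (K.subgroupOf (Subgroup.normalizer (K : Set G))).Normal := Subgroup.normal_in_normalizer
  have hC' : ∀ h ∈ K.subgroupOf (Subgroup.normalizer (K : Set G)), h ≠ 1 →
      Subgroup.centralizer ({h} : Set (Subgroup.normalizer (K : Set G))) ≤ K.subgroupOf (Subgroup.normalizer (K : Set G)) := fun h hh h1 x hx =>
    hC (h : G) hh (fun e => h1 (Subtype.ext e)) (Subgroup.mem_centralizer_singleton_iff.mpr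
      (congrArg Subtype.val (Subgroup.mem_centralizer_singleton_iff.mp hx)))
  set H := K.subgroupOf (Subgroup.normalizer (K : Set G)) with hH
  have := Fintype.ofFinite H
  have hmapH : H.map (Subgroup.normalizer (K : Set G)).subtype = K := Subgroup.map_subgroupOf_eq_of_le hKL
  have hH1 : H ≠ ⊥ := fun h => hK1 (by rw [← hmapH, h, Subgroup.map_bot])
  have hH2 : H ≠ ⊤ := fun h => hlt.not_ge (Subgroup.subgroupOf_eq_top.mp h)
  have hset : {χ : (Subgroup.normalizer (K : Set G)) → ℂ | Cfsg.IsIrrCharacter (Subgroup.normalizer (K : Set G)) χ ∧ ∃ k : (Subgroup.normalizer (K : Set G)), (k : G) ∈ K ∧ χ k ≠ χ 1}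
      = Cfsg.inducedIrrAbove H ⊥ := CfsgLib.Coherent.frobenius_setOf_eq hC'
  have hcard : Nat.card K = Nat.card H := (Nat.card_congr (Subgroup.subgroupOfEquivOfLe hKL).toEquiv).symm
  by_cases he : Nat.card H = H.index + 1
  · refine Or.inl ⟨?_, hcard.trans he, ?_⟩
    · have h1 := CfsgLib.Coherent.card_of_card_eq hC' hH1 he
      rw [← hset] at h1
      exact h1
    · obtain ⟨hab, q, hq, hexp⟩ := CfsgLib.Coherent.elementary_of_card_eq hC' hH1 he
      exact ⟨q, hq, Subgroup.commutator_self_eq_bot_iff.mp (by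
        rw [← hmapH, ← Subgroup.map_commutator, hab, Subgroup.map_bot]),
        fun a ha => congrArg Subtype.val (hexp ⟨a, hKL ha⟩ ha)⟩
  right
  by_cases hsmall : ∃ m, Nat.card H = 2 ^ m ∧ ⁅H, H⁆ ≠ ⊥ ∧ ⁅H, H⁆.relIndex H ≤ 4 * H.index ^ 2 + 1
  · left
    obtain ⟨m, hm, hna, hle⟩ := hsmall
    have := Fact.mk Nat.prime_two
    have hm0 : m ≠ 0 := fun h => hH1 (Subgroup.card_eq_one.mp (by rw [hm, h, pow_zero]))
    have hoe : Odd H.index := Nat.not_even_iff_odd.mp fun h =>
      hna (CfsgLib.Coherent.derived_eq_bot_of_even hC' h)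
    obtain ⟨Q, hQ⟩ := CfsgLib.Coherent.exists_sylow_eq rfl
      (IsPGroup.of_card (p := 2) (n := m) (hcard.trans hm))
      (fun h => Nat.not_even_iff_odd.mpr hoe (even_iff_two_dvd.mpr h))
    refine ⟨hQ ▸ Q.card_eq_multiplicity, ?_⟩
    have hidx : (⁅K, K⁆.subgroupOf K).index = ⁅H, H⁆.relIndex H := by
      rw [← Subgroup.relIndex_map_map_of_injective (f := (Subgroup.normalizer (K : Set G)).subtype) ⁅H, H⁆ H (Subgroup.normalizer (K : Set G)).subtype_injective,
        Subgroup.map_commutator, hmapH]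
      rfl
    rw [hidx]
    obtain ⟨i, -, hi⟩ := (Nat.dvd_prime_pow Nat.prime_two).mp
      (hm ▸ (⁅H, H⁆.subgroupOf H).index_dvd_card : ⁅H, H⁆.relIndex H ∣ 2 ^ m)
    have hlt' := CfsgLib.Coherent.derived_lt (CfsgLib.Coherent.frobenius_kernel_nilpotent hC' hH2) hH1
    have hi0 : i ≠ 0 := fun h => hlt'.not_ge (Subgroup.relIndex_eq_one.mp (by rw [hi, h, pow_zero]))
    have he1 : H.index ≠ 1 := fun h => hH2 (Subgroup.index_eq_one.mp h)
    rcases Nat.lt_or_eq_of_le hle with h | h
    · refine lt_of_le_of_ne (Nat.lt_succ_iff.mp h) fun h4 => ?_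
      rw [hi] at h4
      have hdvd : H.index ∣ 2 ^ i := h4 ▸ Dvd.intro_left (4 * H.index) (by ring)
      obtain ⟨j, -, hj⟩ := (Nat.dvd_prime_pow Nat.prime_two).mp hdvd
      rcases Nat.eq_zero_or_pos j with rfl | hj0
      · exact he1 hj
      · exact Nat.not_even_iff_odd.mpr hoe (hj ▸ Nat.even_pow.mpr ⟨even_two, hj0.ne'⟩)
    · exfalso
      rw [hi] at h
      have := Nat.even_pow.mpr ⟨even_two, hi0⟩
      rw [h, Nat.even_iff] at this
      omega
  · right
    rw [hset]
    refine CfsgLib.Coherent.coherent_ti_kernel K (Subgroup.normalizer (K : Set G)) rfl hTI hH1 hH2 hC' he fun m hm hna => ?_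
    by_contra h
    exact hsmall ⟨m, hm, hna, not_lt.mp h⟩

end Cfsg.Agent.S1534
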