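import Cfsg.Statements.S1536
import Mathlib
import Cfsg.Agent.S1496
import Cfsg.Agent.S0860
import Cfsg.Agent.Lib.Char.Column
import Cfsg.Agent.Lib.Char.Orthogonality

set_option autoImplicit false
open Cfsg

namespace Cfsg.Agent.S1536

/-- Let H be a normal subgroup of the finite group M whose order is coprime to its index. For x ∈ M: some non-principal irreducible character of H is unchanged under h ↦ θ(x h x⁻¹) if and only if some non-identity element of H commutes with x. -/
theorem result {M : Type*} [Group M] [Finite M] (H : Subgroup M) [hN : H.Normal] (hHall : Nat.Coprime (Nat.card H) H.index) (x : M) : (∃ θ : H → ℂ, Cfsg.IsIrrCharacter H θ ∧ θ ≠ (fun _ => 1) ∧ (fun h : H => θ ⟨x * h * x⁻¹, hN.conj_mem h h.2 x⟩) = θ) ↔ ∃ h ∈ H, h ≠ 1 ∧ x * h = h * x := by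
  classical
  have := Fintype.ofFinite M
  have := CfsgLib.Char.finite_irrCharacter (G := H)
  let actI : MulAction M (Cfsg.IrrCharacter H) :=
    { smul := fun m θ => ⟨(θ : H → ℂ) ∘ (MulAut.conjNormal m⁻¹ : MulAut H),
        CfsgLib.Char.isIrrCharacter_comp_surjective θ.2 (MulAut.conjNormal m⁻¹ : MulAut H).toMonoidHom
          (MulEquiv.surjective _)⟩
      one_smul := fun θ => Subtype.ext (funext fun h =>
        show (θ : H → ℂ) (MulAut.conjNormal (1 : M)⁻¹ h) = θ.1 h by simp)
      mul_smul := fun a b θ => Subtype.ext (funext fun h =>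
        show (θ : H → ℂ) (MulAut.conjNormal (a * b)⁻¹ h) =
          θ.1 (MulAut.conjNormal b⁻¹ (MulAut.conjNormal a⁻¹ h)) by simp [mul_inv_rev]) }
  let actC : MulAction M (ConjClasses H) :=
    { smul := fun m C => ConjClasses.map (MulAut.conjNormal m : MulAut H).toMonoidHom C
      one_smul := fun C => by
        obtain ⟨c, rfl⟩ := ConjClasses.mk_surjective C
        show ConjClasses.mk (MulAut.conjNormal (1 : M) c) = ConjClasses.mk c
        simp
      mul_smul := fun a b C => by
        obtain ⟨c, rfl⟩ := ConjClasses.mk_surjective C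
        show ConjClasses.mk (MulAut.conjNormal (a * b) c) =
          ConjClasses.mk (MulAut.conjNormal a (MulAut.conjNormal b c))
        simp }
  have hcard := Cfsg.Agent.S0860.result (G := H) (A := M) (fun a χ g g' hg => by
    show (χ : H → ℂ) (MulAut.conjNormal a⁻¹ g') = (χ : H → ℂ) g
    refine CfsgLib.Char.isClassFunction_isConj (CfsgLib.Char.irr_isClassFunction χ.2) ?_
    have h1 : IsConj g' (MulAut.conjNormal a g) := ConjClasses.mk_eq_mk_iff_isConj.mp hg
    have h2 := MonoidHom.map_isConj ((MulAut.conjNormal a⁻¹ : MulAut H).toMonoidHom) h1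
    simpa [← MulAut.mul_apply] using h2) x
  have hsmul : ∀ θ : Cfsg.IrrCharacter H, x • θ = θ ↔ (fun h : H => (θ : H → ℂ) ⟨x * h * x⁻¹, hN.conj_mem h h.2 x⟩) = θ := by
    intro θ
    constructor
    · intro e
      funext h
      have := congr_fun (congr_arg Subtype.val e) ⟨x * h * x⁻¹, hN.conj_mem h h.2 x⟩
      change (θ : H → ℂ) (MulAut.conjNormal x⁻¹ ⟨x * h * x⁻¹, hN.conj_mem h h.2 x⟩) = _ at this
      rw [← this]
      exact congr_arg _ (Subtype.ext (by simp [mul_assoc]))
    · intro e
      refine Subtype.ext (funext fun h => ?_)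
      show (θ : H → ℂ) (MulAut.conjNormal x⁻¹ h) = _
      rw [← congr_fun e]
      exact congr_arg _ (Subtype.ext (by simp [mul_assoc]))
  have hone : Cfsg.IsIrrCharacter H (fun _ => (1 : ℂ)) := CfsgLib.Char.isIrrCharacter_one
  constructor
  · rintro ⟨θ, hθ, hne, hfix⟩
    by_contra hno
    push Not at hno
    have hsub : Subsingleton {C : ConjClasses H // x • C = C} := by
      suffices h : ∀ C : ConjClasses H, x • C = C → C = ConjClasses.mk 1 from
        ⟨fun C D => Subtype.ext ((h _ C.2).trans (h _ D.2).symm)⟩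
      intro C hC
      obtain ⟨c, rfl⟩ := ConjClasses.mk_surjective C
      by_contra hc
      obtain ⟨k, hk⟩ := isConj_iff.mp (ConjClasses.mk_eq_mk_iff_isConj.mp hC).symm
      have hk : (k : M) * c * (k : M)⁻¹ = x * c * x⁻¹ := by
        simpa using congr_arg Subtype.val hk
      have hxH : x ^ H.index = 1 := by
        by_contra h
        exact hno _ (Subgroup.pow_index_mem H x) h (Commute.self_pow x _).eq
      have hcx : Nat.Coprime (orderOf x) (Nat.card H) :=
        (hHall.symm).coprime_dvd_left (orderOf_dvd_of_pow_eq_one hxH)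
      set y := (k : M)⁻¹ * x with hy
      have hyc : Commute y (c : M) := by
        show (k : M)⁻¹ * x * c = c * ((k : M)⁻¹ * x)
        calc (k : M)⁻¹ * x * c = (k : M)⁻¹ * (x * c * x⁻¹) * x := by group
          _ = (k : M)⁻¹ * ((k : M) * c * (k : M)⁻¹) * x := by rw [hk]
          _ = _ := by group
      obtain ⟨m, hm1, hm0⟩ := Nat.chineseRemainder hHall.symm 1 0
      obtain ⟨j, hj⟩ := Nat.modEq_zero_iff_dvd.mp hm0
      have hy' : y ^ m * x⁻¹ ∈ H := by
        rw [← QuotientGroup.eq_one_iff (N := H), QuotientGroup.mk_mul, QuotientGroup.mk_inv, QuotientGroup.mk_pow,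
          hy, QuotientGroup.mk_mul, QuotientGroup.mk_inv, (QuotientGroup.eq_one_iff (k : M)).mpr k.2, inv_one,
          one_mul, ← QuotientGroup.mk_pow]
        have : x ^ m = x := by
          rw [← pow_mod_orderOf, hm1.of_dvd (orderOf_dvd_of_pow_eq_one hxH), pow_mod_orderOf, pow_one]
        rw [this, mul_inv_cancel]
      obtain ⟨u, hu, c', hc', hcc, he⟩ := Cfsg.Agent.S1496.result H x
        (by rw [Subgroup.normalizer_eq_top]; trivial) hcx _ hy'
      rw [inv_mul_cancel_right] at he
      have hc1 : c' = 1 := by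
        have h1 : (y ^ m) ^ H.index = 1 := by
          rw [← pow_mul, hj, show Nat.card H * j * H.index = (H.index * Nat.card H) * j by ring,
            H.index_mul_card, pow_mul, pow_card_eq_one', one_pow]
        have h2 := congr_arg (· ^ H.index) he
        simp only [conj_pow, h1, mul_one, mul_inv_cancel] at h2
        rw [Commute.mul_pow hcc, hxH, mul_one] at h2
        rw [← orderOf_eq_one_iff]
        exact Nat.eq_one_of_dvd_coprimes hHall (Subgroup.orderOf_dvd_natCard H hc') (orderOf_dvd_of_pow_eq_one h2.symm)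
      rw [hc1, one_mul] at he
      refine hno (u * c * u⁻¹) (H.mul_mem (H.mul_mem hu c.2) (H.inv_mem hu)) ?_ ?_
      · intro h
        exact hc (by rw [show c = 1 from Subtype.ext (conj_eq_one_iff.mp h)])
      · rw [← he]
        have := (hyc.pow_left m).eq
        calc u * y ^ m * u⁻¹ * (u * c * u⁻¹) = u * (y ^ m * c) * u⁻¹ := by group
          _ = u * (c * y ^ m) * u⁻¹ := by rw [this]
          _ = _ := by group
    have h2 : 1 < Nat.card {χ : Cfsg.IrrCharacter H // x • χ = χ} :=
      Finite.one_lt_card_iff_nontrivial.mpr ⟨⟨⟨θ, hθ⟩, (hsmul ⟨θ, hθ⟩).mpr hfix⟩,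
        ⟨⟨_, hone⟩, (hsmul ⟨_, hone⟩).mpr rfl⟩, fun h => hne (by simpa [Subtype.ext_iff] using h)⟩
    rw [hcard] at h2
    have := Finite.card_le_one_iff_subsingleton.mpr hsub
    omega
  · rintro ⟨h, hh, h1, hcm⟩
    have hfixC : x • ConjClasses.mk (⟨h, hh⟩ : H) = ConjClasses.mk (⟨h, hh⟩ : H) := by
      show ConjClasses.mk (MulAut.conjNormal x (⟨h, hh⟩ : H)) = _
      congr 1
      ext; simp [hcm]
    have hfix1 : x • ConjClasses.mk (1 : H) = ConjClasses.mk 1 := by
      show ConjClasses.mk (MulAut.conjNormal x (1 : H)) = _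
      simp
    have h2 : 1 < Nat.card {C : ConjClasses H // x • C = C} :=
      Finite.one_lt_card_iff_nontrivial.mpr ⟨⟨_, hfixC⟩, ⟨_, hfix1⟩, fun e => h1 (by
        have := (isConj_one_right (a := (⟨h, hh⟩ : H))).mp
          (ConjClasses.mk_eq_mk_iff_isConj.mp (congr_arg Subtype.val e)).symm
        exact congr_arg Subtype.val this)⟩
    rw [← hcard, Finite.one_lt_card_iff_nontrivial] at h2
    obtain ⟨θ, hθ⟩ := exists_ne (⟨⟨_, hone⟩, (hsmul ⟨_, hone⟩).mpr rfl⟩ : {χ : Cfsg.IrrCharacter H // x • χ = χ})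
    exact ⟨θ.1.1, θ.1.2, fun e => hθ (Subtype.ext (Subtype.ext e)), (hsmul θ.1).mp θ.2⟩

end Cfsg.Agent.S1536
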