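import Cfsg.Statements.S1546
import Mathlib.Algebra.Ring.GeomSum
import Mathlib.Data.ZMod.Basic
import Mathlib.FieldTheory.Finite.Basic
import Mathlib.Algebra.BigOperators.ModEq
import Mathlib.Algebra.BigOperators.Associated
import Mathlib.Algebra.BigOperators.Ring.Nat

set_option autoImplicit false
open Cfsg

namespace Cfsg.Agent.S1546

/-- Let p and q be odd primes and N = (p ^ q − 1) / (p − 1) = 1 + p + ⋯ + p^(q−1). Then N is odd; if p ≡ 1 (mod q) then q ∣ N; and if p is not ≡ 1 (mod q) then N is coprime to p − 1 and every divisor of N is ≡ 1 (mod q). -/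
theorem result (p q : ℕ) (hp : p.Prime) (hq : q.Prime) (hp2 : p ≠ 2) (hq2 : q ≠ 2) : Odd ((p ^ q - 1) / (p - 1)) ∧ (p % q = 1 → q ∣ (p ^ q - 1) / (p - 1)) ∧ (p % q ≠ 1 → Nat.Coprime ((p ^ q - 1) / (p - 1)) (p - 1) ∧ ∀ x : ℕ, x ∣ (p ^ q - 1) / (p - 1) → x % q = 1) := by
  have hp3 : 3 ≤ p := by have := hp.two_le; omega
  have hq3 : 3 ≤ q := by have := hq.two_le; omega
  rw [← Nat.geomSum_eq hp.two_le]
  set N := ∑ k ∈ Finset.range q, p ^ k with hN
  have hpodd : Odd p := hp.odd_of_ne_two hp2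
  have hmod : ∀ r, p ≡ 1 [MOD r] → N ≡ q [MOD r] := fun r hr => by
    have : ∑ k ∈ Finset.range q, p ^ k ≡ ∑ k ∈ Finset.range q, 1 [MOD r] :=
      Nat.ModEq.sum fun k _ => by simpa using hr.pow k
    simpa using this
  have hprime : p % q ≠ 1 → ∀ r, r.Prime → r ∣ N → r % q = 1 ∧ ¬ r ∣ p - 1 := by
    intro hne r hr hrN
    have : Fact r.Prime := ⟨hr⟩
    have hr1 : ¬ p ≡ 1 [MOD r] := by
      intro h
      have h2 : q ≡ 0 [MOD r] := (hmod r h).symm.trans (Nat.modEq_zero_iff_dvd.mpr hrN)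
      have : r = q := (Nat.prime_dvd_prime_iff_eq hr hq).mp (Nat.modEq_zero_iff_dvd.mp h2)
      subst this
      exact hne (by rw [h, Nat.mod_eq_of_lt hr.one_lt])
    have hsum : ((p : ZMod r) - 1) * (N : ZMod r) = (p : ZMod r) ^ q - 1 := by
      rw [hN]; push_cast; exact mul_geom_sum _ _
    rw [(ZMod.natCast_eq_zero_iff N r).mpr hrN, mul_zero, eq_comm, sub_eq_zero] at hsum
    have hp1 : (p : ZMod r) ≠ 1 := by
      rw [← Nat.cast_one, Ne, ZMod.natCast_eq_natCast_iff]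
      exact hr1
    have hp0 : (p : ZMod r) ≠ 0 := fun h => by simp [h, zero_pow hq.ne_zero] at hsum
    have : Fact q.Prime := ⟨hq⟩
    have hord : orderOf (p : ZMod r) = q := orderOf_eq_prime hsum hp1
    have hdvd : q ∣ r - 1 := hord ▸ orderOf_dvd_of_pow_eq_one (ZMod.pow_card_sub_one_eq_one hp0)
    refine ⟨?_, fun h => hr1 ((Nat.modEq_iff_dvd' hp.one_lt.le).mpr h).symm⟩
    obtain ⟨k, hk⟩ := hdvd
    have := hr.two_le
    rw [show r = 1 + q * k by omega, Nat.add_mul_mod_self_left, Nat.mod_eq_of_lt hq.one_lt]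
  refine ⟨?_, fun h1 => ?_, fun hne => ?_⟩
  · rw [hN, Finset.odd_sum_iff_odd_card_odd, Finset.filter_true_of_mem fun k _ => hpodd.pow,
      Finset.card_range]
    exact hq.odd_of_ne_two hq2
  · refine Nat.modEq_zero_iff_dvd.mp ((hmod q ?_).trans (Nat.modEq_zero_iff_dvd.mpr dvd_rfl))
    rw [Nat.ModEq, h1, Nat.mod_eq_of_lt hq.one_lt]
  · refine ⟨Nat.coprime_of_dvd fun r hr hrN hrp => (hprime hne r hr hrN).2 hrp, fun x hx => ?_⟩
    induction x using Nat.recOnMul with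
    | zero =>
      have hpos : 0 < N := Finset.sum_pos (fun k _ => pow_pos hp.pos k) ⟨0, Finset.mem_range.mpr hq.pos⟩
      exact absurd (zero_dvd_iff.mp hx) hpos.ne' 
    | one => exact Nat.mod_eq_of_lt hq.one_lt
    | prime r hr => exact (hprime hne r hr hx).1
    | mul a b iha ihb =>
      rw [Nat.mul_mod, iha (dvd_trans (dvd_mul_right a b) hx), ihb (dvd_trans (dvd_mul_left b a) hx)]
      exact Nat.mod_eq_of_lt hq.one_lt

end Cfsg.Agent.S1546
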