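import Cfsg.Statements.S1549
import Cfsg.Agent.Lib.PF.CU13
import Cfsg.Agent.Lib.PF.TypePDade
import Cfsg.Agent.Lib.PF.PrimeDadeRed
import Cfsg.Agent.Lib.PF.PrimeDadeDiff
import Cfsg.Agent.Lib.PF.TypePData
import Cfsg.Agent.Lib.PF.TypeTwoL
import Cfsg.Agent.Lib.BG.TypeOne
import Cfsg.Agent.S1540
import Cfsg.Agent.Lib.FT.OddOrder

set_option autoImplicit false
open Cfsg

namespace Cfsg.Agent.S1549

/-- Let G be a minimal simple group of odd order with maximal subgroups S, T carrying type-P data (S, W₁, U, W₂) and (T, W₂, V, W₁), with S ⊓ T = W₁ ⊔ W₂, S or T of Type II, and each of S, T of Type II, III, IV or V, S of Type II, and L a maximal subgroup containing the set normaliser of U, with H = L_F. Then every non-identity element of H has its centraliser within L inside H; U ≤ H; and either H ⊓ W₁ = ⊥ with H ⊔ W₁ = L, or there is y ∈ T_F with H ⊓ (W₁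 ⊔ W₂^y) = ⊥ and H ⊔ (W₁ ⊔ W₂^y) = L, where W₂^y = y W₂ y⁻¹. -/
theorem result {G : Type*} [Group G] [Finite G] (hG : Cfsg.IsMinSimpleOddOrder G) (S T W₁ W₂ U V : Subgroup G) (hS : IsCoatom S) (hT : IsCoatom T) (hSP : Cfsg.IsTypePWith S W₁ U W₂) (hTP : Cfsg.IsTypePWith T W₂ V W₁) (hST : S ⊓ T = W₁ ⊔ W₂) (hII : Cfsg.IsOfTypeII S ∨ Cfsg.IsOfTypeII T) (hS25 : Cfsg.IsOfTypeII S ∨ Cfsg.IsOfTypeIII S ∨ Cfsg.IsOfTypeIV S ∨ Cfsg.IsOfTypeV S) (hT25 : Cfsg.IsOfTypeII T ∨ Cfsg.IsOfTypeIII T ∨ Cfsg.IsOfTypeIV T ∨ Cfsg.IsOfTypeV T) (hSII : Cfsg.IsOfTypeII S) (L : Subgroup G) (hL : IsCoatom L) (hNU : Subgroup.normalizer (U : Set G) ≤ L) : (∀ x ∈ Cfsg.fittingHallOf L, x ≠ 1 → L ⊓ Subgroup.centralizer ({x} : Set G) ≤ Cfsg.fittingHallOf L) ∧ U ≤ Cfsg.fittingHallOf L ∧ ((Cfsg.fittingHallOf L ⊓ W₁ = ⊥ ∧ Cfsg.fittingHallOf L ⊔ W₁ = L) ∨ ∃ y ∈ Cfsg.fittingHallOf T, Cfsg.fittingHallOf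 L ⊓ (W₁ ⊔ W₂.map (MulAut.conj y).toMonoidHom) = ⊥ ∧ Cfsg.fittingHallOf L ⊔ (W₁ ⊔ W₂.map (MulAut.conj y).toMonoidHom) = L) := by
  haveI := Fintype.ofFinite G
  have h : CfsgLib.PF.STPair S T W₁ W₂ U V := ⟨hG, hS, hT, hSP, hTP, hST, hII, hS25, hT25⟩
  refine CfsgLib.PF.S13.normalizer_max (fun M hM hκ => CfsgLib.BG.isOfTypeI_of_kappa_empty hG hM hκ)
    (fun M hM hI => Cfsg.Agent.S1540.result hG M hM hI) h (CfsgLib.PF.S13.side_of_pair CfsgLib.FT.typePBase h)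
    (CfsgLib.PF.S13.side_of_pair CfsgLib.FT.typePBase h.symm)
    (CfsgLib.PF.S13.centralizer_eq_bot CfsgLib.FT.typePBase CfsgLib.PF.typePPrimeDade CfsgLib.PF.primeDadeCoherent
      CfsgLib.PF.primeDadeDiff CfsgLib.PF.typePDataType h.symm) ?_ L hL hNU
  exact (CfsgLib.PF.typePDataType hG S W₁ U W₂ hS hSP).2.1 hSII |>.2.2.2.1

end Cfsg.Agent.S1549
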