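import Cfsg.Statements.S1553
import Cfsg.Agent.Lib.Golay.OctadAction

set_option autoImplicit false
open scoped Pointwise
open Cfsg
open scoped Pointwise

namespace Cfsg.Agent.S1553

/-- The stabiliser of an octad in the group of the length-24 code induces on the octad exactly its alternating group. -/
theorem result (o : Finset Cfsg.GolayPt) (ho : o ∈ Cfsg.octads) : {e : Equiv.Perm ↥o | ∃ g : Equiv.Perm Cfsg.GolayPt, g ∈ Cfsg.M24 ∧ ∃ h : (∀ x, g x ∈ o ↔ x ∈ o), g.subtypePerm h = e} = (alternatingGroup ↥o : Set (Equiv.Perm ↥o)) := by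
  ext e
  simp only [Set.mem_setOf_eq, SetLike.mem_coe]
  rw [← CfsgLib.Golay.octRes_range ho]
  constructor
  · rintro ⟨g, hg, h, rfl⟩
    refine ⟨⟨g, hg, MulAction.mem_stabilizer_iff.2 ((Finset.eq_of_subset_of_card_le ?_ ?_))⟩, rfl⟩
    · intro y hy
      rw [Finset.mem_smul_finset] at hy
      obtain ⟨x, hx, rfl⟩ := hy
      exact (h x).2 hx
    · rw [Finset.card_smul_finset]
  · rintro ⟨σ, rfl⟩
    exact ⟨σ.1, σ.2.1, CfsgLib.Golay.octStab_mem_iff σ.2, rfl⟩

end Cfsg.Agent.S1553
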