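import Cfsg.Statements.S1555
import Cfsg.Agent.Lib.Golay.Count

set_option autoImplicit false
open scoped Pointwise
open Cfsg CfsgLib.Golay
open scoped Pointwise

namespace Cfsg.Agent.S1555

/-- Bottom row of the Leech triangle: an octad is met in a prescribed pair of its points by exactly 16 octads and in a prescribed 4-subset by exactly 4 octads. -/
theorem result (o : Finset Cfsg.GolayPt) (ho : o ∈ Cfsg.octads) (s : Finset Cfsg.GolayPt) (hs : s ⊆ o) : (s.card = 2 → {o' : Finset Cfsg.GolayPt | o' ∈ Cfsg.octads ∧ o ∩ o' = s}.ncard = 16) ∧ (s.card = 4 → {o' : Finset Cfsg.GolayPt | o' ∈ Cfsg.octads ∧ o ∩ o' = s}.ncard = 4) := by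
  obtain ⟨g, hg⟩ := M24_trans_octads ho octMask_mem
  obtain ⟨m, hm, hms⟩ := exists_mset (g • s)
  have hsub : m &&& octMask = m := by
    refine mset_inj (lt_of_le_of_lt Nat.and_le_left hm) hm ?_
    rw [mset_and, hms, ← hg, Finset.inter_eq_left]
    exact Finset.smul_finset_subset_smul_finset hs
  have hcount : {o' : Finset Cfsg.GolayPt | o' ∈ Cfsg.octads ∧ o ∩ o' = s}.ncard =
      (octList.filter fun x => Nat.beq (Nat.land x octMask) m).length := by
    rw [← ncard_octads_filter (P := fun o' => mset octMask ∩ o' = mset m)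
      (pb := fun x => Nat.beq (Nat.land x octMask) m) fun x => ?_]
    · refine ncard_transport g fun t => ?_
      show g • t ∈ Cfsg.octads ∧ _ ↔ t ∈ Cfsg.octads ∧ _
      rw [← hg, hms, ← Finset.smul_finset_inter, smul_left_cancel_iff, smul_mem_octads_iff]
    · rw [Nat.beq_eq, Finset.inter_comm, ← mset_and]
      exact ⟨fun h => mset_inj (lt_of_le_of_lt Nat.and_le_right (by decide +kernel)) hm h, fun h => congrArg mset h⟩
  have hall : ∀ x ∈ subMasks octMask 24,
      (pop x = 2 → (octList.filter fun y => Nat.beq (Nat.land y octMask) x).length = 16) ∧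
      (pop x = 4 → (octList.filter fun y => Nat.beq (Nat.land y octMask) x).length = 4) := by
    decide +kernel
  have hc : pop m = s.card := by rw [← card_mset, hms, Finset.card_smul_finset]
  have hh := hall m (mem_subMasks (by simpa using hm) hsub)
  exact ⟨fun h => by rw [hcount]; exact hh.1 (by omega), fun h => by rw [hcount]; exact hh.2 (by omega)⟩

end Cfsg.Agent.S1555
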