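import Cfsg.Statements.S1557
import Cfsg.Agent.Lib.Golay.Octads
import Cfsg.Agent.Lib.Golay.Trios

set_option autoImplicit false
open scoped Pointwise
open Cfsg CfsgLib.Golay
open scoped Pointwise

namespace Cfsg.Agent.S1557

/-- The complement of the union of two disjoint octads is an octad, and the code has exactly 3795 trios of pairwise disjoint octads. -/
theorem result : (∀ o o' : Finset Cfsg.GolayPt, o ∈ Cfsg.octads → o' ∈ Cfsg.octads → Disjoint o o' → (o ∪ o')ᶜ ∈ Cfsg.octads) ∧ Cfsg.trios.ncard = 3795 := by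
  refine ⟨fun o o' ho ho' hd => ?_, ?_⟩
  · have h := symmDiff_mem_supports univ_mem_supports (symmDiff_mem_supports ho.1 ho'.1)
    have e : symmDiff (Finset.univ : Finset Cfsg.GolayPt) (symmDiff o o') = (o ∪ o')ᶜ := by
      rw [hd.symmDiff_eq_sup, Finset.sup_eq_union]
      ext x; simp [Finset.mem_symmDiff]
    rw [e] at h
    refine ⟨h, ?_⟩
    rw [Finset.card_compl, Finset.card_union_of_disjoint hd, ho.2, ho'.2]
    simp
  · exact trios_ncard

end Cfsg.Agent.S1557
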