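import Cfsg.Statements.S1560
import Cfsg.Agent.Lib.Golay.Count

set_option autoImplicit false
open scoped Pointwise
open Cfsg CfsgLib.Golay
open scoped Pointwise

namespace Cfsg.Agent.S1560

/-- Intersection numbers of dodecads: a dodecad meets every other dodecad in 0, 4, 6 or 8 points, meeting 495 of them in 4 points, 1584 in 6 points and 495 in 8 points. -/
theorem result (d : Finset Cfsg.GolayPt) (hd : d ∈ Cfsg.dodecads) : (∀ d' ∈ Cfsg.dodecads, d' ≠ d → (d ∩ d').card = 0 ∨ (d ∩ d').card = 4 ∨ (d ∩ d').card = 6 ∨ (d ∩ d').card = 8) ∧ {d' : Finset Cfsg.GolayPt | d' ∈ Cfsg.dodecads ∧ (d ∩ d').card = 4}.ncard = 495 ∧ {d' : Finset Cfsg.GolayPt | d' ∈ Cfsg.dodecads ∧ (d ∩ d').card = 6}.ncard = 1584 ∧ {d' : Finset Cfsg.GolayPt | d' ∈ Cfsg.dodecads ∧ (d ∩ d').card = 8}.ncard = 495 := by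
  obtain ⟨g, hg⟩ := M24_trans_dodecads hd sqMask_mem
  have key : ∀ k : ℕ, {d' : Finset Cfsg.GolayPt | d' ∈ Cfsg.dodecads ∧ (d ∩ d').card = k}.ncard =
      (dodList.filter fun m => Nat.beq (pop (Nat.land m sqMask)) k).length := by
    intro k
    rw [← ncard_dodecads_filter (P := fun o => (o ∩ mset sqMask).card = k)
      (pb := fun m => Nat.beq (pop (Nat.land m sqMask)) k) fun m => inter_card_iff]
    refine ncard_transport g fun s => ?_
    show g • s ∈ Cfsg.dodecads ∧ _ ↔ s ∈ Cfsg.dodecads ∧ _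
    rw [← hg, smul_inter_card, smul_mem_dodecads_iff, Finset.inter_comm s d]
  refine ⟨fun d' hd' hne => ?_, ?_⟩
  · have h : ∀ m ∈ dodList, m = sqMask ∨ pop (Nat.land sqMask m) = 0 ∨ pop (Nat.land sqMask m) = 4 ∨
        pop (Nat.land sqMask m) = 6 ∨ pop (Nat.land sqMask m) = 8 := by
      have : (dodList.all fun m => Nat.beq m sqMask || Nat.beq (pop (Nat.land sqMask m)) 0 ||
          Nat.beq (pop (Nat.land sqMask m)) 4 || Nat.beq (pop (Nat.land sqMask m)) 6 ||
          Nat.beq (pop (Nat.land sqMask m)) 8) = true := by decide +kernel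
      intro m hm
      simpa [Nat.beq_eq, or_assoc] using List.all_eq_true.1 this m hm
    obtain ⟨m, hm, e⟩ := mem_dodecads_iff.1 ((smul_mem_dodecads_iff g).2 hd')
    rcases h m hm with rfl | h'
    · exact absurd ((smul_left_cancel_iff g).1 (by rw [hg, e])) hne
    · have : (d ∩ d').card = pop (Nat.land sqMask m) := by
        rw [← smul_inter_card g, hg, ← e, ← mset_and, card_mset]; rfl
      omega
  · rw [key 4, key 6, key 8]
    decide +kernel

end Cfsg.Agent.S1560
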