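import Cfsg.Statements.S1562
import Cfsg.Agent.Lib.Golay.OrbitClass
import Cfsg.Agent.Lib.Golay.OrbitOctad
import Cfsg.Agent.Lib.Golay.OrbitE
import Cfsg.Agent.Lib.Golay.OrbitC
import Cfsg.Agent.Lib.Golay.OrbitD
import Cfsg.Agent.Lib.Golay.OrbitD0
import Cfsg.Agent.Lib.Golay.OrbitF
import Cfsg.Agent.Lib.Golay.OrbitG
import Cfsg.Agent.Lib.Golay.OrbitH
import Cfsg.Agent.Lib.Golay.OrbitI
import Cfsg.Agent.Lib.Golay.OrbitJ

set_option autoImplicit false
open scoped Pointwise
open Cfsg CfsgLib.Golay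
open scoped Pointwise

namespace Cfsg.Agent.S1562

/-- Orbits of a triad stabiliser on the triads disjoint from it: the 210 triads inside a common octad with it form one orbit and the remaining 1120 another. -/
theorem result (T : Finset Cfsg.GolayPt) (hT : T.card = 3) : {U : Finset Cfsg.GolayPt | U.card = 3 ∧ Disjoint T U ∧ (∃ o ∈ Cfsg.octads, T ∪ U ⊆ o)}.ncard = 210 ∧ {U : Finset Cfsg.GolayPt | U.card = 3 ∧ Disjoint T U ∧ ¬ (∃ o ∈ Cfsg.octads, T ∪ U ⊆ o)}.ncard = 1120 ∧ ∀ U U' : Finset Cfsg.GolayPt, U.card = 3 → U'.card = 3 → Disjoint T U → Disjoint T U' → ((∃ o ∈ Cfsg.octads, T ∪ U ⊆ o) ↔ (∃ o ∈ Cfsg.octads, T ∪ U' ⊆ o)) → ∃ g : Equiv.Perm Cfsg.GolayPt, g ∈ Cfsg.M24 ∧ g • T = T ∧ g • U = U' := by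
  obtain ⟨a, b, c', hab, hac, hbc, rfl⟩ := Finset.card_eq_three.1 hT
  obtain ⟨c, ca, cb, cc⟩ := M24_three hab hac hbc (show pt 23 ≠ pt 0 by decide +kernel)
    (show pt 23 ≠ pt 1 by decide +kernel) (show pt 0 ≠ pt 1 by decide +kernel)
  generalize hTdef : ({a, b, c'} : Finset Cfsg.GolayPt) = T
  have hc : c • T = mset 8388611 := by
    rw [← hTdef, Finset.smul_finset_insert, Finset.smul_finset_insert, Finset.smul_finset_singleton, ca, cb, cc]
    decide +kernel
  have hoct : ∀ U : Finset Cfsg.GolayPt, InOctad 8388611 (c • U) ↔ ∃ o ∈ Cfsg.octads, T ∪ U ⊆ o := by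
    intro U
    constructor
    · rintro ⟨o, ho, hs⟩
      refine ⟨c⁻¹ • o, M24_smul_octad (c⁻¹).2 ho, ?_⟩
      have := Finset.smul_finset_subset_smul_finset (a := c⁻¹) hs
      rwa [← hc, ← Finset.smul_finset_union, inv_smul_smul] at this
    · rintro ⟨o, ho, hs⟩
      refine ⟨c • o, M24_smul_octad c.2 ho, ?_⟩
      have := Finset.smul_finset_subset_smul_finset (a := c) hs
      rwa [Finset.smul_finset_union, hc] at this
  have hdisj : ∀ U : Finset Cfsg.GolayPt, (mset 8388611 ∩ c • U).card = 0 ↔ Disjoint T U := by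
    intro U
    rw [← hc, smul_inter_card, Finset.card_eq_zero, Finset.disjoint_iff_inter_eq_empty]
  have hmk : ∀ (b : Bool) (U : Finset Cfsg.GolayPt),
      SetClass 3 [] 8388611 0 8388611 (some b) (c • U) ↔
      U.card = 3 ∧ Disjoint T U ∧ ((∃ o ∈ Cfsg.octads, T ∪ U ⊆ o) ↔ b = true) := by
    intro b U
    simp only [SetClass, Marks, Finset.card_smul_finset, hdisj, Option.some.injEq, forall_eq', hoct]
    simp
  have n1 : {U : Finset Cfsg.GolayPt | U.card = 3 ∧ Disjoint T U ∧ (∃ o ∈ Cfsg.octads, T ∪ U ⊆ o)}.ncard = 210 := by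
    refine (ncard_transport c (T := {s | SetClass 3 [] 8388611 0 8388611 (some true) s}) fun U => ?_).trans
      ((setClass_ncard (by simp) (by norm_num)).trans (by decide +kernel))
    exact (hmk true U).trans (by simp)
  have n2 : {U : Finset Cfsg.GolayPt | U.card = 3 ∧ Disjoint T U ∧ ¬ (∃ o ∈ Cfsg.octads, T ∪ U ⊆ o)}.ncard = 1120 := by
    refine (ncard_transport c (T := {s | SetClass 3 [] 8388611 0 8388611 (some false) s}) fun U => ?_).trans
      ((setClass_ncard (by simp) (by norm_num)).trans (by decide +kernel))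
    exact (hmk false U).trans (by simp)
  refine ⟨n1, n2, fun U U' hU hU' hd hd' h => ?_⟩
  have hfix : ∀ σ : fixMasks [8388611], σ • mset 8388611 = mset 8388611 := fun σ => σ.2.2 _ (by simp)
  obtain ⟨σ, hσ⟩ : ∃ σ : fixMasks [8388611], σ • (c • U) = c • U' := by
    by_cases q : ∃ o ∈ Cfsg.octads, T ∪ U ⊆ o
    · exact set_class_trans 44 (N := 210) (by simp) (by decide +kernel) (by norm_num) hfix
        (by decide +kernel) (by decide +kernel) card_orbI_base card_orbI_1 rfl
        ((hmk true U).2 ⟨hU, hd, by simpa using q⟩) ((hmk true U').2 ⟨hU', hd', by simpa using h.1 q⟩)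
    · exact set_class_trans 28 (N := 1120) (by simp) (by decide +kernel) (by norm_num) hfix
        (by decide +kernel) (by decide +kernel) card_orbI_base card_orbI_0 rfl
        ((hmk false U).2 ⟨hU, hd, by simpa using q⟩)
        ((hmk false U').2 ⟨hU', hd', by simpa using fun e => q (h.2 e)⟩)
  exact ⟨_, (c⁻¹ * toM24 σ * c).2, M24_set_fix (m := 8388611) (by simp) σ hc, M24_moved σ hσ⟩

end Cfsg.Agent.S1562
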