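import Cfsg.Statements.S1563
import Cfsg.Agent.Lib.Golay.OrbitClass
import Cfsg.Agent.Lib.Golay.OrbitOctad
import Cfsg.Agent.Lib.Golay.OrbitE
import Cfsg.Agent.Lib.Golay.OrbitC
import Cfsg.Agent.Lib.Golay.OrbitD
import Cfsg.Agent.Lib.Golay.OrbitD0
import Cfsg.Agent.Lib.Golay.OrbitF
import Cfsg.Agent.Lib.Golay.OrbitG
import Cfsg.Agent.Lib.Golay.OrbitH
import Cfsg.Agent.Lib.Golay.OrbitI
import Cfsg.Agent.Lib.Golay.OrbitJ

set_option autoImplicit false
open scoped Pointwise
open Cfsg CfsgLib.Golay
open scoped Pointwise

namespace Cfsg.Agent.S1563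

/-- The stabiliser of a pair of points (setwise) is a maximal proper subgroup of the group of the length-24 code. -/
theorem result (s : Finset Cfsg.GolayPt) (hs : s.card = 2) : IsCoatom (MulAction.stabilizer Cfsg.M24 s) := by
  obtain ⟨p, q, hpq, rfl⟩ := Finset.card_eq_two.1 hs
  obtain ⟨c, hcp, hcq⟩ := M24_two (show pt 0 ≠ pt 23 by decide +kernel) hpq
  have hsP : mset 8388609 = {pt 0, pt 23} := by decide +kernel
  have hs0 : ({p, q} : Finset Cfsg.GolayPt) = c • mset 8388609 := by
    rw [hsP, Finset.smul_finset_insert, Finset.smul_finset_singleton, hcp, hcq]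
  rw [hs0]
  refine isCoatom_stabilizer_smul c ?_
  have hP2 : (mset 8388609).card = 2 := by rw [card_mset]; decide +kernel
  have hS : ∀ y : Finset Cfsg.GolayPt, (mset 8388609 ∩ y).card ≤ 2 := fun y =>
    hP2 ▸ Finset.card_le_card Finset.inter_subset_left
  let f : Finset Cfsg.GolayPt → Fin 3 := fun y => ⟨2 - (mset 8388609 ∩ y).card, by omega⟩
  have hcls : ∀ (k : ℕ) (y : Finset Cfsg.GolayPt), SetClass 2 [] 8388609 k 0 none y ↔
      y.card = 2 ∧ (mset 8388609 ∩ y).card = k := by
    intro k y; simp [SetClass, Marks]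
  have hfix : ∀ σ : fixMasks [8388609], σ • mset 0 = mset 0 := fun σ => by rw [mset_zero]; simp
  have hN : {y : Finset Cfsg.GolayPt | y.card = 2}.ncard = 276 := by
    rw [show {y : Finset Cfsg.GolayPt | y.card = 2} = ↑((Finset.univ : Finset Cfsg.GolayPt).powersetCard 2) by
      ext y; simp, Set.ncard_coe_finset, Finset.card_powersetCard, Finset.card_univ]
    simp; decide
  refine isCoatom_stabilizer_of_classes (S := {y | y.card = 2}) (Set.toFinite _)
    (fun g => by rw [Set.mem_setOf_eq, Finset.card_smul_finset, hP2]) ?_ f ?_ ?_ ![1, 44, 231] ?_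
    (by rw [hN]; norm_num) (by rw [hN]; decide +kernel)
  · intro y hy
    obtain ⟨a, b, hab, rfl⟩ := Finset.card_eq_two.1 hy
    obtain ⟨g, ga, gb⟩ := M24_two (show pt 0 ≠ pt 23 by decide +kernel) hab
    exact ⟨g, by rw [hsP, Finset.smul_finset_insert, Finset.smul_finset_singleton, ga, gb]⟩
  · intro y hy
    constructor
    · intro h
      have h2 : (mset 8388609 ∩ y).card = 2 := by
        have := hS y
        have := congrArg Fin.val h
        simp only [f, Fin.val_zero] at this
        omega
      have e : mset 8388609 ∩ y = mset 8388609 :=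
        Finset.eq_of_subset_of_card_le Finset.inter_subset_left (by rw [h2, hP2])
      exact (Finset.eq_of_subset_of_card_le (Finset.inter_eq_left.1 e)
        (by rw [hP2]; exact le_of_eq hy)).symm
    · rintro rfl; simp [f, hP2]
  · intro y hy z hz h
    obtain ⟨σ, hσ⟩ : ∃ σ : fixMasks [8388609], σ • y = z := by
      have eq : (mset 8388609 ∩ y).card = (mset 8388609 ∩ z).card := by
        have := hS y
        have := hS z
        have := congrArg Fin.val h
        simp only [f] at this
        omega
      have y' := (hcls _ y).2 ⟨hy, rfl⟩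
      have z' := (hcls _ z).2 ⟨hz, eq.symm⟩
      rcases (show (mset 8388609 ∩ y).card = 0 ∨ (mset 8388609 ∩ y).card = 1 ∨ (mset 8388609 ∩ y).card = 2 by
        have := hS y; omega) with hk | hk | hk <;> rw [hk] at y' z'
      · exact set_class_trans 6 (N := 231) (by simp) (by decide +kernel) (by norm_num) hfix
          (by decide +kernel) (by decide +kernel) card_orbJ_base card_orbJ_0 rfl y' z'
      · exact set_class_trans 3 (N := 44) (by simp) (by decide +kernel) (by norm_num) hfix
          (by decide +kernel) (by decide +kernel) card_orbJ_base card_orbJ_1 rfl y' z'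
      · exact set_class_trans 8388609 (N := 1) (by simp) (by decide +kernel) (by norm_num) hfix
          (by decide +kernel) (by decide +kernel) card_orbJ_base card_orbJ_2 rfl y' z'
    exact ⟨toM24 σ, toM24_fix σ (by simp), hσ⟩
  · intro i
    have e : ∀ y : Finset Cfsg.GolayPt, (y ∈ {y : Finset Cfsg.GolayPt | y.card = 2} ∧ f y = i) ↔
        SetClass 2 [] 8388609 (2 - i.val) 0 none y := by
      intro y
      rw [hcls, Set.mem_setOf_eq]
      refine and_congr_right fun _ => ?_
      have := hS y
      have := i.isLt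
      rw [Fin.ext_iff]
      simp only [f]
      omega
    rw [show {y | y ∈ {y : Finset Cfsg.GolayPt | y.card = 2} ∧ f y = i} =
      {y | SetClass 2 [] 8388609 (2 - i.val) 0 none y} from Set.ext e,
      setClass_ncard (by simp) (by norm_num)]
    clear e
    revert i; decide +kernel

end Cfsg.Agent.S1563
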