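import Cfsg.Statements.S1564
import Cfsg.Agent.Lib.Golay.OrbitClass
import Cfsg.Agent.Lib.Golay.OrbitOctad
import Cfsg.Agent.Lib.Golay.OrbitE
import Cfsg.Agent.Lib.Golay.OrbitC
import Cfsg.Agent.Lib.Golay.OrbitD
import Cfsg.Agent.Lib.Golay.OrbitD0
import Cfsg.Agent.Lib.Golay.OrbitF
import Cfsg.Agent.Lib.Golay.OrbitG
import Cfsg.Agent.Lib.Golay.OrbitH
import Cfsg.Agent.Lib.Golay.OrbitI
import Cfsg.Agent.Lib.Golay.OrbitJ

set_option autoImplicit false
open scoped Pointwise
open Cfsg CfsgLib.Golay
open scoped Pointwise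

namespace Cfsg.Agent.S1564

/-- The stabiliser of a set of three points (setwise) is a maximal proper subgroup of the group of the length-24 code. -/
theorem result (s : Finset Cfsg.GolayPt) (hs : s.card = 3) : IsCoatom (MulAction.stabilizer Cfsg.M24 s) := by
  obtain ⟨a, b, c', hab, hac, hbc, rfl⟩ := Finset.card_eq_three.1 hs
  obtain ⟨c, ca, cb, cc⟩ := M24_three (show pt 23 ≠ pt 0 by decide +kernel)
    (show pt 23 ≠ pt 1 by decide +kernel) (show pt 0 ≠ pt 1 by decide +kernel) hab hac hbc
  have hsT : mset 8388611 = {pt 23, pt 0, pt 1} := by decide +kernel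
  have hs0 : ({a, b, c'} : Finset Cfsg.GolayPt) = c • mset 8388611 := by
    rw [hsT, Finset.smul_finset_insert, Finset.smul_finset_insert, Finset.smul_finset_singleton, ca, cb, cc]
  rw [hs0]
  refine isCoatom_stabilizer_smul c ?_
  have hT3 : (mset 8388611).card = 3 := by rw [card_mset]; decide +kernel
  have hS : ∀ y : Finset Cfsg.GolayPt, (mset 8388611 ∩ y).card ≤ 3 := fun y =>
    hT3 ▸ Finset.card_le_card Finset.inter_subset_left
  have hN : {y : Finset Cfsg.GolayPt | y.card = 3}.ncard = 2024 := by
    rw [show {y : Finset Cfsg.GolayPt | y.card = 3} = ↑((Finset.univ : Finset Cfsg.GolayPt).powersetCard 3) by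
      ext y; simp, Set.ncard_coe_finset, Finset.card_powersetCard, Finset.card_univ]
    simp; decide
  have hfix : ∀ σ : fixMasks [8388611], σ • mset 8388611 = mset 8388611 := fun σ => σ.2.2 _ (by simp)
  classical
  let f : Finset Cfsg.GolayPt → Fin 5 := fun y =>
    if (mset 8388611 ∩ y).card = 0 then (if InOctad 8388611 y then 3 else 4)
    else ⟨3 - (mset 8388611 ∩ y).card, by omega⟩
  have f0 : ∀ y, (mset 8388611 ∩ y).card ≠ 0 → (f y).val = 3 - (mset 8388611 ∩ y).card :=
    fun y h => by simp only [f, if_neg h]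
  have f1 : ∀ y, (mset 8388611 ∩ y).card = 0 → InOctad 8388611 y → (f y).val = 3 :=
    fun y h q => by simp only [f, if_pos h, if_pos q]; rfl
  have f2 : ∀ y, (mset 8388611 ∩ y).card = 0 → ¬ InOctad 8388611 y → (f y).val = 4 :=
    fun y h q => by simp only [f, if_pos h, if_neg q]; rfl
  let K : Fin 5 → ℕ := fun i => 3 - i.val
  let F : Fin 5 → Option Bool := ![none, none, none, some true, some false]
  have hSC : ∀ (k : ℕ) (b : Option Bool) (y : Finset Cfsg.GolayPt),
      SetClass 3 [] 8388611 k 8388611 b y ↔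
      y.card = 3 ∧ (mset 8388611 ∩ y).card = k ∧ ∀ v, b = some v → (InOctad 8388611 y ↔ v = true) := by
    intro k b y; simp [SetClass, Marks]
  have e : ∀ (i : Fin 5) (y : Finset Cfsg.GolayPt),
      (y ∈ {y : Finset Cfsg.GolayPt | y.card = 3} ∧ f y = i) ↔
        SetClass 3 [] 8388611 (K i) 8388611 (F i) y := by
    intro i y
    rw [hSC, Set.mem_setOf_eq, Fin.ext_iff]
    refine and_congr_right fun _ => ?_
    have := hS y
    by_cases hz : (mset 8388611 ∩ y).card = 0
    · by_cases q : InOctad 8388611 y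
      · rw [f1 y hz q, hz]; fin_cases i <;> simp [K, F, iff_true_intro q]
      · rw [f2 y hz q, hz]; fin_cases i <;> simp [K, F, iff_false_intro q]
    · rw [f0 y hz]
      rcases (show (mset 8388611 ∩ y).card = 1 ∨ (mset 8388611 ∩ y).card = 2 ∨ (mset 8388611 ∩ y).card = 3 by
        omega) with hk | hk | hk <;> rw [hk] <;> fin_cases i <;> simp [K, F]
  refine isCoatom_stabilizer_of_classes (S := {y | y.card = 3}) (Set.toFinite _)
    (fun g => by rw [Set.mem_setOf_eq, Finset.card_smul_finset, hT3]) ?_ f ?_ ?_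
    ![1, 63, 630, 210, 1120] ?_ (by rw [hN]; norm_num) (by rw [hN]; decide +kernel)
  · intro y hy
    obtain ⟨u, v, w, huv, huw, hvw, rfl⟩ := Finset.card_eq_three.1 hy
    obtain ⟨g, gu, gv, gw⟩ := M24_three (show pt 23 ≠ pt 0 by decide +kernel)
      (show pt 23 ≠ pt 1 by decide +kernel) (show pt 0 ≠ pt 1 by decide +kernel) huv huw hvw
    exact ⟨g, by rw [hsT, Finset.smul_finset_insert, Finset.smul_finset_insert, Finset.smul_finset_singleton, gu, gv, gw]⟩
  · intro y hy
    constructor
    · intro h
      have h3 : (mset 8388611 ∩ y).card = 3 := ((hSC _ _ y).1 ((e 0 y).1 ⟨hy, h⟩)).2.1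
      have q : mset 8388611 ∩ y = mset 8388611 :=
        Finset.eq_of_subset_of_card_le Finset.inter_subset_left (by rw [h3, hT3])
      exact (Finset.eq_of_subset_of_card_le (Finset.inter_eq_left.1 q)
        (by rw [hT3]; exact le_of_eq hy)).symm
    · rintro rfl
      have h3 : (mset 8388611 ∩ mset 8388611).card = 3 := by rw [Finset.inter_self, hT3]
      exact Fin.ext (by rw [f0 _ (by omega), h3]; rfl)
  · intro y hy z hz h
    obtain ⟨σ, hσ⟩ : ∃ σ : fixMasks [8388611], σ • y = z := by
      have y' := (e _ y).1 ⟨hy, rfl⟩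
      have z' := (e _ z).1 ⟨hz, h.symm⟩
      obtain ⟨i, hi⟩ : ∃ i, i = f y := ⟨_, rfl⟩
      rw [← hi] at y' z'
      clear hi
      fin_cases i
      · exact set_class_trans 8388611 (N := 1) (by simp) (by decide +kernel) (by norm_num) hfix
          (by decide +kernel) (by decide +kernel) card_orbI_base card_orbI_4 rfl y' z'
      · exact set_class_trans 7 (N := 63) (by simp) (by decide +kernel) (by norm_num) hfix
          (by decide +kernel) (by decide +kernel) card_orbI_base card_orbI_3 rfl y' z'
      · exact set_class_trans 13 (N := 630) (by simp) (by decide +kernel) (by norm_num) hfix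
          (by decide +kernel) (by decide +kernel) card_orbI_base card_orbI_2 rfl y' z'
      · exact set_class_trans 44 (N := 210) (by simp) (by decide +kernel) (by norm_num) hfix
          (by decide +kernel) (by decide +kernel) card_orbI_base card_orbI_1 rfl y' z'
      · exact set_class_trans 28 (N := 1120) (by simp) (by decide +kernel) (by norm_num) hfix
          (by decide +kernel) (by decide +kernel) card_orbI_base card_orbI_0 rfl y' z'
    exact ⟨toM24 σ, toM24_fix σ (by simp), hσ⟩
  · intro i
    rw [show {y | y ∈ {y : Finset Cfsg.GolayPt | y.card = 3} ∧ f y = i} =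
      {y | SetClass 3 [] 8388611 (K i) 8388611 (F i) y} from Set.ext (e i),
      setClass_ncard (by simp) (by norm_num)]
    clear e
    revert i; decide +kernel

end Cfsg.Agent.S1564
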