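import Cfsg.Statements.S1565
import Cfsg.Agent.Lib.Golay.OrbitOctad

set_option autoImplicit false
open scoped Pointwise
open Cfsg CfsgLib.Golay
open scoped Pointwise

namespace Cfsg.Agent.S1565

/-- The stabiliser of an octad is a maximal proper subgroup of the group of the length-24 code. -/
theorem result (o : Finset Cfsg.GolayPt) (ho : o ∈ Cfsg.octads) : IsCoatom (MulAction.stabilizer Cfsg.M24 o) := by
  obtain ⟨c, rfl⟩ := M24_trans_octads octMask_mem ho
  refine isCoatom_stabilizer_smul c ?_
  let f : Finset Cfsg.GolayPt → Fin 4 := fun y =>
    if (y ∩ mset octMask).card = 8 then 0 else if (y ∩ mset octMask).card = 4 then 1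
    else if (y ∩ mset octMask).card = 2 then 2 else 3
  refine isCoatom_stabilizer_of_classes (S := Cfsg.octads) (Set.toFinite _)
    (fun g => M24_smul_octad g.2 octMask_mem) (fun y hy => M24_trans_octads octMask_mem hy) f ?_ ?_
    ![1, 280, 448, 30] ?_ (by rw [octads_ncard]; norm_num) ?_
  · intro y hy
    constructor
    · intro h
      have h8 : (y ∩ mset octMask).card = 8 := by
        by_contra a
        simp only [f, a, if_false] at h
        split_ifs at h <;> simp at h
      exact octads_eq_of_five hy octMask_mem (by omega)
    · rintro rfl
      simp [f, octMask_mem.2]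
  · intro y hy z hz h
    refine octad_stab_trans octMask_mem hy hz ?_
    rw [Finset.inter_comm, Finset.inter_comm (mset octMask)]
    rcases octads_inter_cases hy octMask_mem with a | a | a | a <;>
      rcases octads_inter_cases hz octMask_mem with b | b | b | b <;>
        simp [f, a, b] at h <;> omega
  · intro i
    have e : ∀ y, y ∈ Cfsg.octads → (f y = i ↔ (y ∩ mset octMask).card = ![8, 4, 2, 0] i) := by
      intro y hy
      rcases octads_inter_cases hy octMask_mem with a | a | a | a <;> simp only [f, a] <;>
        fin_cases i <;> simp
    rw [show {y | y ∈ Cfsg.octads ∧ f y = i} =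
      {y | y ∈ Cfsg.octads ∧ (y ∩ mset octMask).card = ![8, 4, 2, 0] i} from
      Set.ext fun y => and_congr_right (e y), count_oct]
    clear e
    revert i; decide +kernel
  · rw [octads_ncard]
    decide +kernel

end Cfsg.Agent.S1565
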