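import Cfsg.Statements.S1566
import Cfsg.Agent.Lib.Golay.OrbitOctad

set_option autoImplicit false
open scoped Pointwise
open Cfsg CfsgLib.Golay
open scoped Pointwise

namespace Cfsg.Agent.S1566

/-- The setwise stabiliser of a dodecad together with its complement is a maximal proper subgroup of the group of the length-24 code. -/
theorem result (d : Finset Cfsg.GolayPt) (hd : d ∈ Cfsg.dodecads) : IsCoatom (MulAction.stabilizer Cfsg.M24 ({d, dᶜ} : Finset (Finset Cfsg.GolayPt))) := by
  classical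
  obtain ⟨c, rfl⟩ := M24_trans_dodecads sqMask_mem hd
  have hcompl : ∀ (g : Cfsg.M24) (e : Finset Cfsg.GolayPt), g • eᶜ = (g • e)ᶜ := fun g e => by
    ext x
    rw [Finset.mem_compl, ← Finset.inv_smul_mem_iff, Finset.mem_compl, ← Finset.inv_smul_mem_iff]
  have hpair : ∀ (g : Cfsg.M24) (e : Finset Cfsg.GolayPt),
      g • ({e, eᶜ} : Finset (Finset Cfsg.GolayPt)) = {g • e, (g • e)ᶜ} := fun g e => by
    rw [Finset.smul_finset_insert, Finset.smul_finset_singleton, hcompl]
  rw [← hpair]
  refine isCoatom_stabilizer_smul c ?_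
  set d₀ := mset sqMask with hd₀
  have hcd : ∀ e, e ∈ Cfsg.dodecads → eᶜ ∈ Cfsg.dodecads := by
    intro e he
    refine ⟨?_, ?_⟩
    · have := symmDiff_mem_supports univ_mem_supports he.1
      rwa [show symmDiff (Finset.univ : Finset Cfsg.GolayPt) e = eᶜ by
        ext x; simp [Finset.mem_symmDiff]] at this
    · rw [Finset.card_compl, he.2]; simp
  have hinter : ∀ e, e ∈ Cfsg.dodecads → (d₀ ∩ eᶜ).card + (d₀ ∩ e).card = 12 := by
    intro e he
    rw [← Finset.card_union_of_disjoint (Finset.disjoint_left.2 fun x h1 h2 => by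
      simp at h1 h2; exact h1.2 h2.2), ← Finset.inter_union_distrib_left, Finset.union_comm,
      Finset.union_compl, Finset.inter_univ, sqMask_mem.2]
  let cls : ℕ → Fin 3 := fun k => if k = 0 ∨ k = 12 then 0 else if k = 6 then 2 else 1
  have cls_compl : ∀ k, k ≤ 12 → cls (12 - k) = cls k := by decide
  let S : Finset (Finset (Finset Cfsg.GolayPt)) :=
    (Set.toFinite Cfsg.dodecads).toFinset.image fun e => {e, eᶜ}
  let f : Finset (Finset Cfsg.GolayPt) → Fin 3 := fun P =>
    if h : P.Nonempty then cls (d₀ ∩ h.choose).card else 1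
  have fpair : ∀ e, e ∈ Cfsg.dodecads → f {e, eᶜ} = cls (d₀ ∩ e).card := by
    intro e he
    have hne : ({e, eᶜ} : Finset (Finset Cfsg.GolayPt)).Nonempty := ⟨e, by simp⟩
    simp only [f, dif_pos hne]
    have hm := hne.choose_spec
    generalize hne.choose = u at hm
    simp only [Finset.mem_insert, Finset.mem_singleton] at hm
    rcases hm with rfl | rfl
    · rfl
    · have := hinter e he
      rw [← cls_compl _ (by omega : (d₀ ∩ e).card ≤ 12)]
      congr 1; omega
  have memS : ∀ P, P ∈ (S : Set (Finset (Finset Cfsg.GolayPt))) ↔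
      ∃ e ∈ Cfsg.dodecads, ({e, eᶜ} : Finset (Finset Cfsg.GolayPt)) = P := fun P => by simp [S]
  have half : ∀ i : Fin 3, {P | P ∈ (S : Set (Finset (Finset Cfsg.GolayPt))) ∧ f P = i}.ncard * 2 =
      {e | e ∈ Cfsg.dodecads ∧ cls (d₀ ∩ e).card = i}.ncard := by
    intro i
    let D := (Set.toFinite Cfsg.dodecads).toFinset.filter fun e => cls (d₀ ∩ e).card = i
    have hD : {e | e ∈ Cfsg.dodecads ∧ cls (d₀ ∩ e).card = i}.ncard = D.card := by
      rw [← Set.ncard_coe_finset]; congr 1; ext e; simp [D]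
    have hI : {P | P ∈ (S : Set (Finset (Finset Cfsg.GolayPt))) ∧ f P = i}.ncard =
        (D.image fun e => ({e, eᶜ} : Finset (Finset Cfsg.GolayPt))).card := by
      rw [← Set.ncard_coe_finset]
      congr 1
      ext P
      simp only [Set.mem_setOf_eq, memS, Finset.coe_image, Set.mem_image, Finset.mem_coe, D,
        Finset.mem_filter, Set.Finite.mem_toFinset]
      constructor
      · rintro ⟨⟨e, he, rfl⟩, h⟩; exact ⟨e, ⟨he, fpair e he ▸ h⟩, rfl⟩
      · rintro ⟨e, ⟨he, h⟩, rfl⟩; exact ⟨⟨e, he, rfl⟩, (fpair e he).trans h⟩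
    rw [hD, hI, Finset.card_eq_sum_card_image (fun e => ({e, eᶜ} : Finset (Finset Cfsg.GolayPt))) D,
      Finset.sum_congr rfl (g := fun _ => 2), Finset.sum_const, smul_eq_mul]
    intro P hP
    obtain ⟨e, he, rfl⟩ := Finset.mem_image.1 hP
    simp only [D, Finset.mem_filter, Set.Finite.mem_toFinset] at he
    have hne : e ≠ eᶜ := fun h => by
      have := congrArg (none ∈ ·) h
      simp at this
    rw [show D.filter (fun a => ({a, aᶜ} : Finset (Finset Cfsg.GolayPt)) = {e, eᶜ}) = {e, eᶜ} from ?_,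
      Finset.card_pair hne]
    ext a
    simp only [Finset.mem_filter, Finset.mem_insert, Finset.mem_singleton, D,
      Set.Finite.mem_toFinset]
    constructor
    · rintro ⟨-, h⟩
      have : a ∈ ({e, eᶜ} : Finset (Finset Cfsg.GolayPt)) := h ▸ Finset.mem_insert_self _ _
      simpa using this
    · rintro (rfl | rfl)
      · exact ⟨he, rfl⟩
      · refine ⟨⟨hcd e he.1, ?_⟩, by rw [compl_compl, Finset.pair_comm]⟩
        have := hinter e he.1
        rw [← he.2, ← cls_compl _ (by omega : (d₀ ∩ e).card ≤ 12)]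
        congr 1; omega
  have counts : ∀ i : Fin 3, {e | e ∈ Cfsg.dodecads ∧ cls (d₀ ∩ e).card = i}.ncard =
      ![2, 990, 1584] i := by
    intro i
    rw [ncard_dodecads_filter (pb := fun m => decide (cls (pop (Nat.land m sqMask)) = i)) fun m => by
      rw [decide_eq_true_iff, hd₀, Finset.inter_comm, ← mset_and, card_mset]; rfl]
    revert i; decide +kernel
  have nS : ∀ i : Fin 3, {P | P ∈ (S : Set (Finset (Finset Cfsg.GolayPt))) ∧ f P = i}.ncard =
      ![1, 495, 792] i := by
    intro i
    have h := half i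
    rw [counts i] at h
    fin_cases i <;> simp at h ⊢ <;> omega
  have hSn : (S : Set (Finset (Finset Cfsg.GolayPt))).ncard = 1288 := by
    rw [Set.ncard_coe_finset, Finset.card_eq_sum_card_fiberwise (f := f) (t := Finset.univ)
      fun _ _ => Finset.mem_univ _, Fin.sum_univ_three]
    have : ∀ i, (S.filter fun P => f P = i).card = ![1, 495, 792] i := fun i => by
      rw [← nS i, ← Set.ncard_coe_finset]; congr 1; ext P; simp
    simp [this]
  refine isCoatom_stabilizer_of_classes (S := (S : Set _)) (Finset.finite_toSet _) ?_ ?_ f ?_ ?_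
    ![1, 495, 792] nS (by rw [hSn]; norm_num) (by rw [hSn]; decide +kernel)
  · intro g
    rw [hpair, memS]
    exact ⟨_, M24_smul_dodecad g.2 sqMask_mem, rfl⟩
  · intro P hP
    obtain ⟨e, he, rfl⟩ := (memS P).1 hP
    obtain ⟨g, hg⟩ := M24_trans_dodecads sqMask_mem he
    exact ⟨g, by rw [hpair, hg]⟩
  · intro P hP
    obtain ⟨e, he, rfl⟩ := (memS P).1 hP
    rw [fpair e he]
    constructor
    · intro h
      rcases dodecads_inter_cases sqMask_mem he with a | a | a | a | a
      · have e1 : eᶜ = d₀ := (Finset.eq_of_subset_of_card_le (fun x hx => Finset.mem_compl.2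
          (Finset.disjoint_left.1 (Finset.disjoint_iff_inter_eq_empty.2 (Finset.card_eq_zero.1 a)) hx))
          (by rw [(hcd e he).2, sqMask_mem.2])).symm
        rw [← e1, compl_compl, Finset.pair_comm]
      all_goals try (rw [a] at h; simp [cls] at h)
      have e1 : e = d₀ := (Finset.eq_of_subset_of_card_le (Finset.inter_eq_left.1
        (Finset.eq_of_subset_of_card_le Finset.inter_subset_left (by rw [a, sqMask_mem.2])))
        (by rw [he.2, sqMask_mem.2])).symm
      rw [e1]
    · intro h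
      have : e ∈ ({d₀, d₀ᶜ} : Finset (Finset Cfsg.GolayPt)) := h ▸ Finset.mem_insert_self _ _
      simp only [Finset.mem_insert, Finset.mem_singleton] at this
      rcases this with rfl | rfl
      · simp [cls, sqMask_mem.2, hd₀]
      · simp [cls]
  · intro P hP Q hQ h
    obtain ⟨e, he, rfl⟩ := (memS P).1 hP
    obtain ⟨e', he', rfl⟩ := (memS Q).1 hQ
    rw [fpair e he, fpair e' he'] at h
    obtain ⟨u, hu, huQ, heq⟩ : ∃ u ∈ Cfsg.dodecads,
        ({u, uᶜ} : Finset (Finset Cfsg.GolayPt)) = {e', e'ᶜ} ∧ (d₀ ∩ e).card = (d₀ ∩ u).card := by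
      have := hinter e' he'
      by_cases q : (d₀ ∩ e).card = (d₀ ∩ e').card
      · exact ⟨e', he', rfl, q⟩
      · refine ⟨e'ᶜ, hcd e' he', by rw [compl_compl, Finset.pair_comm], ?_⟩
        have ca : (d₀ ∩ e).card = 0 ∨ (d₀ ∩ e).card = 4 ∨ (d₀ ∩ e).card = 6 ∨ (d₀ ∩ e).card = 8 ∨
            (d₀ ∩ e).card = 12 := dodecads_inter_cases sqMask_mem he
        have cb : (d₀ ∩ e').card = 0 ∨ (d₀ ∩ e').card = 4 ∨ (d₀ ∩ e').card = 6 ∨
            (d₀ ∩ e').card = 8 ∨ (d₀ ∩ e').card = 12 := dodecads_inter_cases sqMask_mem he'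
        generalize (d₀ ∩ e).card = x at *
        generalize (d₀ ∩ e').card = y at *
        generalize (d₀ ∩ e'ᶜ).card = z at *
        revert h q
        rcases ca with rfl | rfl | rfl | rfl | rfl <;> rcases cb with rfl | rfl | rfl | rfl | rfl <;>
          simp [cls] <;> omega
    obtain ⟨g, hg1, hg2⟩ := dodecad_stab_trans sqMask_mem he hu heq
    exact ⟨g, by rw [hpair, hg1], by rw [hpair, hg2, huQ]⟩

end Cfsg.Agent.S1566
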