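import Cfsg.Statements.S1568
import Cfsg.Agent.Lib.Golay.LeechCount

set_option autoImplicit false
open Cfsg CfsgLib.Golay
open scoped Pointwise

namespace Cfsg.Agent.S1568

/-- Shape census of the lattice vectors of sum of squares 48 (customary norm 6): the four families (2^12, 0^12), (±3^3, ±1^21), (±4, ±2^8, 0^15) and (±5, ±1^23) have 5275648, 8290304, 3108864 and 98304 members. -/
theorem result : {x : Cfsg.GolayPt → ℤ | x ∈ Cfsg.leechLattice ∧ Cfsg.sqNorm x = 48 ∧ ∀ i, x i = 0 ∨ x i = 2 ∨ x i = -2}.ncard = 5275648 ∧ {x : Cfsg.GolayPt → ℤ | x ∈ Cfsg.leechLattice ∧ Cfsg.sqNorm x = 48 ∧ ∃ i j k, i ≠ j ∧ j ≠ k ∧ i ≠ k ∧ |x i| = 3 ∧ |x j| = 3 ∧ |x k| = 3}.ncard = 8290304 ∧ {x : Cfsg.GolayPt → ℤ | x ∈ Cfsg.leechLattice ∧ Cfsg.sqNorm x = 48 ∧ ∃ i, |x i| = 4}.ncard = 3108864 ∧ {x : Cfsg.GolayPt → ℤ | x ∈ Cfsg.leechLattice ∧ Cfsg.sqNorm x = 48 ∧ ∃ i, |x i| = 5}.ncard = 98304 := by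
  classical
  have hE : {x : Cfsg.GolayPt → ℤ | x ∈ Cfsg.leechLattice ∧ Cfsg.sqNorm x = 48 ∧ ∀ i, x i % 2 = 0}.ncard = 8384512 := by
    have h := ncard_even_all 12 (by norm_num)
    rw [show (4 : ℤ) * ((12 : ℕ) : ℤ) = 48 by norm_num] at h
    rw [h]; decide +kernel
  have hO : {x : Cfsg.GolayPt → ℤ | x ∈ Cfsg.leechLattice ∧ Cfsg.sqNorm x = 48 ∧ ∀ i, x i % 2 = 1}.ncard = 8388608 := by
    have h := ncard_odd_all 48 (by norm_num)
    rw [show ((48 : ℕ) : ℤ) = 48 by norm_num] at h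
    rw [h]; decide +kernel
  -- vectors with entries in {0, ±2}
  have h2 : {x : Cfsg.GolayPt → ℤ | x ∈ Cfsg.leechLattice ∧ Cfsg.sqNorm x = 48 ∧ ∀ i, x i = 0 ∨ x i = 2 ∨ x i = -2}.ncard = 5275648 := by
    have h := ncard_even [1, -1] [0] (by decide) (by decide) (by decide) (by decide) 12
    rw [show (4 : ℤ) * ((12 : ℕ) : ℤ) = 48 by norm_num] at h
    refine Eq.trans (congrArg Set.ncard (Set.ext fun x => and_congr_right fun _ => and_congr_right fun _ =>
      forall_congr' fun i => ?_)) (h.trans (by decide +kernel))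
    simp only [List.mem_cons, List.not_mem_nil, or_false]
    omega
  -- vectors with entries in {0, ±2, ±6}
  have h26 : {x : Cfsg.GolayPt → ℤ | x ∈ Cfsg.leechLattice ∧ Cfsg.sqNorm x = 48 ∧ ∀ i, x i % 2 = 0 ∧ |x i| ≠ 4}.ncard = 5275648 := by
    have h := ncard_even [3, -3, 1, -1] [0] (by decide) (by decide) (by decide) (by decide) 12
    rw [show (4 : ℤ) * ((12 : ℕ) : ℤ) = 48 by norm_num] at h
    refine Eq.trans (congrArg Set.ncard (Set.ext fun x => and_congr_right fun _ => and_congr_right fun hn =>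
      forall_congr' fun i => ?_)) (h.trans (by decide +kernel))
    obtain ⟨a, b⟩ := abs_entry_le (B := 6) (by norm_num) (by norm_num) hn i
    simp only [List.mem_cons, List.not_mem_nil, or_false]
    rcases abs_cases (x i) with ⟨e, e'⟩ | ⟨e, e'⟩ <;> rw [e] <;> omega
  have h13 : {x : Cfsg.GolayPt → ℤ | x ∈ Cfsg.leechLattice ∧ Cfsg.sqNorm x = 48 ∧ ∀ i, |x i| = 1 ∨ |x i| = 3}.ncard = 8290304 := by
    have h := ncard_odd [3, -1] [-3, 1] (by decide) (by decide) (by decide) (by decide) 48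
    rw [show ((48 : ℕ) : ℤ) = 48 by norm_num] at h
    refine Eq.trans (congrArg Set.ncard (Set.ext fun x => and_congr_right fun _ => and_congr_right fun _ =>
      forall_congr' fun i => ?_)) (h.trans (by decide +kernel))
    simp only [List.mem_cons, List.not_mem_nil, or_false]
    rcases abs_cases (x i) with ⟨e, e'⟩ | ⟨e, e'⟩ <;> rw [e] <;> omega
  refine ⟨h2, ?_, ?_, ?_⟩
  · rw [← h13]
    congr 1
    ext x
    simp only [Set.mem_setOf_eq]
    refine and_congr_right fun hx => and_congr_right fun hn => ⟨?_, fun hall => ?_⟩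
    · rintro ⟨i, j, k, hij, hjk, hik, hi, hj, hk⟩ l
      have hodd : ∀ l, x l % 2 = 1 := by
        rcases parity_cases hx with h | h
        · have := h i; rcases abs_cases (x i) with ⟨e, e'⟩ | ⟨e, e'⟩ <;> omega
        · exact h
      obtain ⟨a, b⟩ := abs_entry_le (B := 6) (by norm_num) (by norm_num) hn l
      have hl := hodd l
      by_contra hne
      push Not at hne
      have h5 : 25 ≤ x l ^ 2 := by
        rcases abs_cases (x l) with ⟨e, e''⟩ | ⟨e, e''⟩ <;> rw [e] at hne <;>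
          rcases (show x l = 5 ∨ x l = -5 by omega) with e' | e' <;> rw [e'] <;> norm_num
      have hsq : ∀ m, |x m| = 3 → x m ^ 2 = 9 := fun m hm => by rw [← sq_abs, hm]; norm_num
      have hli : l ≠ i := fun e => by rw [e, hsq i hi] at h5; omega
      have hlj : l ≠ j := fun e => by rw [e, hsq j hj] at h5; omega
      have hlk : l ≠ k := fun e => by rw [e, hsq k hk] at h5; omega
      have hsub := Finset.sum_le_sum_of_subset_of_nonneg (f := fun m => x m ^ 2)
        (Finset.subset_univ ({l, i, j, k} : Finset Cfsg.GolayPt)) (fun m _ _ => sq_nonneg _)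
      rw [Finset.sum_insert (by simp [hli, hlj, hlk]), Finset.sum_insert (by simp [hij, hik]),
        Finset.sum_insert (by simp [hjk]), Finset.sum_singleton, hsq i hi, hsq j hj, hsq k hk] at hsub
      unfold Cfsg.sqNorm at hn
      omega
    · have e : ∀ m, x m ^ 2 = 1 + 8 * if |x m| = 3 then 1 else 0 := fun m => by
        rcases hall m with h | h <;> rw [← sq_abs, h] <;> norm_num
      unfold Cfsg.sqNorm at hn
      rw [Finset.sum_congr rfl fun m _ => e m, Finset.sum_add_distrib, ← Finset.mul_sum,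
        Finset.sum_boole, Finset.sum_const, Finset.card_univ] at hn
      simp only [Fintype.card_option, ZMod.card, nsmul_eq_mul] at hn
      have hc : (Finset.univ.filter fun m => |x m| = 3).card = 3 := by push_cast at hn; omega
      obtain ⟨i, j, k, hij, hik, hjk, he⟩ := Finset.card_eq_three.1 hc
      have hm : ∀ m ∈ ({i, j, k} : Finset Cfsg.GolayPt), |x m| = 3 := fun m hm => by
        rw [← he] at hm; exact (Finset.mem_filter.1 hm).2
      exact ⟨i, j, k, hij, hjk, hik, hm i (by simp), hm j (by simp), hm k (by simp)⟩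
  · have hd := Set.ncard_sdiff (s := {x : Cfsg.GolayPt → ℤ | x ∈ Cfsg.leechLattice ∧ Cfsg.sqNorm x = 48 ∧ ∀ i, x i % 2 = 0 ∧ |x i| ≠ 4})
      (t := {x : Cfsg.GolayPt → ℤ | x ∈ Cfsg.leechLattice ∧ Cfsg.sqNorm x = 48 ∧ ∀ i, x i % 2 = 0})
      (fun x h => ⟨h.1, h.2.1, fun i => (h.2.2 i).1⟩)
      ((finite_norm 48).subset fun x h => ⟨h.1, h.2.1⟩)
    rw [hE, h26] at hd
    refine Eq.trans (congrArg Set.ncard (Set.ext fun x => ?_)) (hd.trans (by norm_num))
    simp only [Set.mem_setOf_eq, Set.mem_diff]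
    constructor
    · rintro ⟨hx, hn, i, hi⟩
      refine ⟨⟨hx, hn, ?_⟩, fun h => (h.2.2 i).2 hi⟩
      rcases parity_cases hx with h | h
      · exact h
      · have := h i; rcases abs_cases (x i) with ⟨e, e'⟩ | ⟨e, e'⟩ <;> omega
    · rintro ⟨⟨hx, hn, he⟩, hne⟩
      refine ⟨hx, hn, ?_⟩
      by_contra hno
      push Not at hno
      exact hne ⟨hx, hn, fun i => ⟨he i, hno i⟩⟩
  · have hd := Set.ncard_sdiff (s := {x : Cfsg.GolayPt → ℤ | x ∈ Cfsg.leechLattice ∧ Cfsg.sqNorm x = 48 ∧ ∀ i, |x i| = 1 ∨ |x i| = 3})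
      (t := {x : Cfsg.GolayPt → ℤ | x ∈ Cfsg.leechLattice ∧ Cfsg.sqNorm x = 48 ∧ ∀ i, x i % 2 = 1})
      (fun x h => ⟨h.1, h.2.1, fun i => by
        rcases h.2.2 i with e | e <;> rcases abs_cases (x i) with ⟨a, -⟩ | ⟨a, -⟩ <;> omega⟩)
      ((finite_norm 48).subset fun x h => ⟨h.1, h.2.1⟩)
    rw [hO, h13] at hd
    refine Eq.trans (congrArg Set.ncard (Set.ext fun x => ?_)) (hd.trans (by norm_num))
    simp only [Set.mem_setOf_eq, Set.mem_diff]
    constructor
    · rintro ⟨hx, hn, i, hi⟩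
      refine ⟨⟨hx, hn, ?_⟩, fun h => ?_⟩
      · rcases parity_cases hx with h | h
        · have := h i; rcases abs_cases (x i) with ⟨e, e'⟩ | ⟨e, e'⟩ <;> omega
        · exact h
      · rcases h.2.2 i with e | e <;> omega
    · rintro ⟨⟨hx, hn, ho⟩, hne⟩
      refine ⟨hx, hn, ?_⟩
      by_contra hno
      push Not at hno
      refine hne ⟨hx, hn, fun i => ?_⟩
      obtain ⟨a, b⟩ := abs_entry_le (B := 6) (by norm_num) (by norm_num) hn i
      have := ho i
      have := hno i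
      rcases abs_cases (x i) with ⟨e, e'⟩ | ⟨e, e'⟩ <;> omega

end Cfsg.Agent.S1568
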