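import Cfsg.Statements.S1569
import Cfsg.Agent.Lib.Golay.LeechFrame

set_option autoImplicit false
open scoped Pointwise
open Cfsg CfsgLib.Golay
open scoped Pointwise

namespace Cfsg.Agent.S1569

/-- The cross through a lattice vector of customary norm 8 has exactly 48 members. -/
theorem result (x : Cfsg.GolayPt → ℤ) (hx : x ∈ Cfsg.leechLattice) (hxn : Cfsg.sqNorm x = 64) : (Cfsg.cross x).ncard = 48 := by
  have h := leech_counts.structure.2 ⟨x, hx⟩ ((leech_q_iff ⟨x, hx⟩ 8).2 (by rw [hxn]; norm_num))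
  refine Eq.trans ?_ h
  rw [← Set.ncard_image_of_injective _ Subtype.val_injective]
  congr 1
  ext y
  simp only [Cfsg.cross, Set.mem_setOf_eq, Set.mem_image]
  constructor
  · rintro ⟨hy, hn, hc⟩
    refine ⟨⟨y, hy⟩, ⟨(leech_q_iff ⟨y, hy⟩ 8).2 ?_, (exists_two_smul_iff.2 hc).symm⟩, rfl⟩
    rw [hn, hxn]; norm_num
  · rintro ⟨v, ⟨hv, hc⟩, rfl⟩
    refine ⟨v.2, ?_, exists_two_smul_iff.1 hc.symm⟩
    rw [hxn, (leech_q_iff v 8).1 hv]; norm_num

end Cfsg.Agent.S1569
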