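import Cfsg.Statements.S1570
import Cfsg.Agent.Lib.Golay.LeechFrame

set_option autoImplicit false
open Cfsg CfsgLib.Golay
open scoped Pointwise

namespace Cfsg.Agent.S1570

/-- Every congruence class of the lattice modulo twice the lattice contains a vector of customary norm at most 8. -/
theorem result (x : Cfsg.GolayPt → ℤ) (hx : x ∈ Cfsg.leechLattice) : ∃ y ∈ Cfsg.leechLattice, Cfsg.sqNorm y ≤ 64 ∧ ∃ z ∈ Cfsg.leechLattice, x - y = 2 • z := by
  obtain ⟨y, hy, hq⟩ := leech_counts.structure.1 (leechR.cls ⟨x, hx⟩)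
  obtain ⟨z, hz, e⟩ := exists_two_smul_iff.1 hy.symm
  refine ⟨y, y.2, ?_, z, hz, e⟩
  have := leech_q y
  omega

end Cfsg.Agent.S1570
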