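import Cfsg.Statements.S1571
import Cfsg.Agent.Lib.Golay.Co0Shell6

set_option autoImplicit false
open scoped Pointwise
open Cfsg CfsgLib.Golay
open scoped Pointwise

namespace Cfsg.Agent.S1571

/-- The stabiliser of the standard cross in the automorphism group of the lattice is the monomial group of the code: each of its elements acts as a signed permutation with permutation part in the code's group and sign set a codeword, and it has order 4096 · 244823040. -/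
theorem result : (∀ g : ↥Cfsg.Co0, (∀ v : ↥Cfsg.leechLattice, (v : Cfsg.GolayPt → ℤ) ∈ Cfsg.stdCross → ((g • v : ↥Cfsg.leechLattice) : Cfsg.GolayPt → ℤ) ∈ Cfsg.stdCross) → ∃ f ∈ Cfsg.golayMonomialMaps, ∀ v : ↥Cfsg.leechLattice, ((g • v : ↥Cfsg.leechLattice) : Cfsg.GolayPt → ℤ) = f (v : Cfsg.GolayPt → ℤ)) ∧ Nat.card {g : ↥Cfsg.Co0 // (∀ v : ↥Cfsg.leechLattice, (v : Cfsg.GolayPt → ℤ) ∈ Cfsg.stdCross → ((g • v : ↥Cfsg.leechLattice) : Cfsg.GolayPt → ℤ) ∈ Cfsg.stdCross)} = 4096 * 244823040 := by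
  refine ⟨fun g hg => ?_, ?_⟩
  · obtain ⟨σ, hσ, c, hc, rfl⟩ := co0_monomial g hg
    exact ⟨_, ⟨σ, hσ, c, hc, rfl⟩, fun v => monoCo0_smul σ hσ c hc v⟩
  let S := Cfsg.supports (Cfsg.golayCode : Set (Cfsg.GolayPt → ZMod 2))
  let Φ : ↥Cfsg.M24 × ↥S → {g : ↥Cfsg.Co0 // (∀ v : ↥Cfsg.leechLattice, (v : Cfsg.GolayPt → ℤ) ∈ Cfsg.stdCross → ((g • v : ↥Cfsg.leechLattice) : Cfsg.GolayPt → ℤ) ∈ Cfsg.stdCross)} :=
    fun x => ⟨monoCo0 x.1.1 x.1.2 x.2.1 x.2.2, fun v hv => monoCo0_std _ _ _ _ v hv⟩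
  have hΦ : Function.Bijective Φ := by
    constructor
    · rintro ⟨σ, c⟩ ⟨τ, d⟩ h
      obtain ⟨h1, h2⟩ := monoCo0_inj (hσ := σ.2) (hτ := τ.2) (hc := c.2) (hd := d.2)
        (congrArg Subtype.val h)
      exact Prod.ext (Subtype.ext h1) (Subtype.ext h2)
    · rintro ⟨g, hg⟩
      obtain ⟨σ, hσ, c, hc, rfl⟩ := co0_monomial g hg
      exact ⟨(⟨σ, hσ⟩, ⟨c, hc⟩), rfl⟩
  have hS : S.ncard = 4096 := by
    have e : codeList.length = 4096 := by simp [codeList]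
    rw [← e]
    exact ncard_mset_list (fun m hm => isCode_lt (mem_codeList.1 hm)) codeList_nodup fun s => by
      simp [S, mem_supports_iff, mem_codeList]
  rw [← Nat.card_eq_of_bijective Φ hΦ, Nat.card_prod, card_M24, Nat.card_coe_set_eq, hS]

end Cfsg.Agent.S1571
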