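import Cfsg.Statements.S1595
import Cfsg.Agent.Lib.Golay.Steiner

set_option autoImplicit false
open Cfsg CfsgLib.Golay
open scoped Pointwise

namespace Cfsg.Agent.S1595

/-- Leech triangle of S(5, 6, 12): blocks meet in 0, 2, 3 or 4 points, and a block is met exactly in a given 2-, 3- or 4-subset by 3, 2, 3 blocks respectively. -/
theorem result {α : Type*} [Fintype α] [DecidableEq α] (hα : Fintype.card α = 12) {B : Set (Finset α)} (hB : Cfsg.IsSteinerSystem 5 6 B) (b : Finset α) (hb : b ∈ B) : (∀ c ∈ B, c ≠ b → (b ∩ c).card = 0 ∨ (b ∩ c).card = 2 ∨ (b ∩ c).card = 3 ∨ (b ∩ c).card = 4) ∧ ∀ s ⊆ b, (s.card = 2 → {c : Finset α | c ∈ B ∧ b ∩ c = s}.ncard = 3) ∧ (s.card = 3 → {c : Finset α | c ∈ B ∧ b ∩ c = s}.ncard = 2) ∧ (s.card = 4 → {c : Finset α | c ∈ B ∧ b ∩ c = s}.ncard = 3) := by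
  obtain ⟨hlt, h0, h1, h2, h3, h4⟩ := inter_5_6_12 hα hB hb
  refine ⟨fun c hc hne => ?_, fun s hs => ?_⟩
  · have hc' : c ∈ (blocks B).erase b := Finset.mem_erase.2 ⟨hne, mem_blocks.2 hc⟩
    have := hlt c hc'
    rcases (show (b ∩ c).card = 1 ∨ (b ∩ c).card = 0 ∨ (b ∩ c).card = 2 ∨ (b ∩ c).card = 3 ∨
      (b ∩ c).card = 4 by omega) with e | e
    · have := interNum_pos hc' e; omega
    · exact e
  · let F := ((blocks B).erase b).filter fun c => s ⊆ c
    let m := fun i => interNum F (b \ s) i
    have hFlt : ∀ c ∈ F, ((b \ s) ∩ c).card < 5 - s.card := by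
      intro c hc
      simp only [F, Finset.mem_filter] at hc
      have := hlt c hc.1
      have e : (b \ s) ∩ c = (b ∩ c) \ s := by ext x; simp; tauto
      rw [e, Finset.card_sdiff_of_subset (Finset.subset_inter hs hc.2)]
      have : s.card ≤ (b ∩ c).card := Finset.card_le_card (Finset.subset_inter hs hc.2)
      omega
    have hset : {c : Finset α | c ∈ B ∧ b ∩ c = s}.ncard = if s.card < 6 then m 0 else
        {c : Finset α | c ∈ B ∧ b ∩ c = s}.ncard := by
      split_ifs with h6
      · rw [ncard_blocks_filter]
        show _ = (F.filter fun c => ((b \ s) ∩ c).card = 0).card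
        congr 1
        ext c
        simp only [F, Finset.mem_filter, Finset.mem_erase, mem_blocks, Finset.card_eq_zero]
        constructor
        · rintro ⟨hc, rfl⟩
          refine ⟨⟨⟨?_, hc⟩, Finset.inter_subset_right⟩, ?_⟩
          · rintro rfl; rw [Finset.inter_self, hB.1 _ hb] at h6; omega
          · ext x; simp
        · rintro ⟨⟨⟨-, hc⟩, hsc⟩, he⟩
          refine ⟨hc, Finset.Subset.antisymm (fun x hx => ?_) (Finset.subset_inter hs hsc)⟩
          by_contra hxs
          rw [Finset.mem_inter] at hx
          have : x ∈ (b \ s) ∩ c := by simp [hx.1, hx.2, hxs]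
          rw [he] at this; simp at this
      · rfl
    have key : ∀ j N, s.card + j ≤ 5 → 0 < Nat.choose (6 - (s.card + j)) (5 - (s.card + j)) →
        (N + 1) * Nat.choose (6 - (s.card + j)) (5 - (s.card + j)) =
          Nat.choose (12 - (s.card + j)) (5 - (s.card + j)) →
        ∑ i ∈ Finset.range (5 - s.card), m i * Nat.choose i j = Nat.choose (b \ s).card j * N := by
      intro j N hj hp hN
      refine inter_moment F (b \ s) _ j N hFlt fun r hr hrc => ?_
      have hd : Disjoint s r := Finset.disjoint_of_subset_right hr Finset.disjoint_sdiff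
      have hu : (s ∪ r).card = s.card + j := by rw [Finset.card_union_of_disjoint hd, hrc]
      rw [← steiner_lambda_erase hB hb (s := s ∪ r)
        (Finset.union_subset hs (hr.trans Finset.sdiff_subset)) _ N hu hj hp (hα ▸ hN)]
      simp only [F, Finset.filter_filter, Finset.union_subset_iff]
    have hbs : (b \ s).card = 6 - s.card := by rw [Finset.card_sdiff_of_subset hs, hB.1 b hb]
    refine ⟨fun hcard => ?_, fun hcard => ?_, fun hcard => ?_⟩
    · rw [hset, if_pos (by omega)]
      rw [hbs, hcard] at key
      have e0 := key 0 29 (by norm_num) (by decide) (by decide)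
      have e1 := key 1 11 (by norm_num) (by decide) (by decide)
      have e2 := key 2 3 (by norm_num) (by decide) (by decide)
      norm_num [Finset.sum_range_succ, Nat.choose] at e0 e1 e2
      omega
    · rw [hset, if_pos (by omega)]
      rw [hbs, hcard] at key
      have e0 := key 0 11 (by norm_num) (by decide) (by decide)
      have e1 := key 1 3 (by norm_num) (by decide) (by decide)
      norm_num [Finset.sum_range_succ, Nat.choose] at e0 e1
      omega
    · rw [hset, if_pos (by omega)]
      rw [hbs, hcard] at key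
      have e0 := key 0 3 (by norm_num) (by decide) (by decide)
      norm_num [Finset.sum_range_succ, Nat.choose] at e0
      omega

end Cfsg.Agent.S1595
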