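import Cfsg.Statements.S1604
import Cfsg.Agent.Lib.Golay.OrbitClass
import Cfsg.Agent.Lib.Golay.OrbitOctad
import Cfsg.Agent.Lib.Golay.OrbitE
import Cfsg.Agent.Lib.Golay.OrbitC
import Cfsg.Agent.Lib.Golay.OrbitD
import Cfsg.Agent.Lib.Golay.OrbitD0
import Cfsg.Agent.Lib.Golay.OrbitF
import Cfsg.Agent.Lib.Golay.OrbitG
import Cfsg.Agent.Lib.Golay.OrbitH
import Cfsg.Agent.Lib.Golay.OrbitI
import Cfsg.Agent.Lib.Golay.OrbitJ

set_option autoImplicit false
open scoped Pointwise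
open Cfsg CfsgLib.Golay
open scoped Pointwise

namespace Cfsg.Agent.S1604

/-- A hexad stabiliser in the two-point stabiliser has orbits of sizes 1, 16, 60 on the 77 hexads: the 16 hexads disjoint from it and the 60 meeting it in two points. -/
theorem result (p q : Cfsg.GolayPt) (hpq : p ≠ q) (o o' o'' : Finset Cfsg.GolayPt) (ho : o ∈ Cfsg.octads) (ho' : o' ∈ Cfsg.octads) (ho'' : o'' ∈ Cfsg.octads) (hp : p ∈ o ∧ p ∈ o' ∧ p ∈ o'') (hq : q ∈ o ∧ q ∈ o' ∧ q ∈ o'') (h : (o ∩ o').card = (o ∩ o'').card) : {x : Finset Cfsg.GolayPt | x ∈ Cfsg.octads ∧ p ∈ x ∧ q ∈ x ∧ (o ∩ x).card = 2}.ncard = 16 ∧ {x : Finset Cfsg.GolayPt | x ∈ Cfsg.octads ∧ p ∈ x ∧ q ∈ x ∧ (o ∩ x).card = 4}.ncard = 60 ∧ ∃ g : Equiv.Perm Cfsg.GolayPt, g ∈ Cfsg.M24 ∧ g p = p ∧ g q = q ∧ g • o = o ∧ g • o' = o'' := by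
  obtain ⟨c, hc, hcp, hcq⟩ := octad_two ho (o' := mset 8536111)
    (mem_octads_iff.2 ⟨_, mem_octList.2 (by decide +kernel), rfl⟩) hp.1 hq.1 hpq
    (show pt 23 ∈ mset 8536111 by decide +kernel) (show pt 0 ∈ mset 8536111 by decide +kernel)
    (show pt 23 ≠ pt 0 by decide +kernel)
  have hmk : ∀ (k : ℕ) (s : Finset Cfsg.GolayPt),
      WordClass 8 [(23, true), (0, true)] 8536111 k (c • s) ↔
      s ∈ Cfsg.octads ∧ p ∈ s ∧ q ∈ s ∧ (o ∩ s).card = k := by
    intro k s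
    unfold WordClass
    rw [← hc, smul_inter_card, ← and_assoc (a := p ∈ s)]
    exact and_congr (smul_mem_octads_iff c)
      (and_congr_left fun _ => by simp [Marks, smul_mem_iff_pt c hcp, smul_mem_iff_pt c hcq])
  have hcount : ∀ k, {x : Finset Cfsg.GolayPt | x ∈ Cfsg.octads ∧ p ∈ x ∧ q ∈ x ∧ (o ∩ x).card = k}.ncard =
      (codeList.filter (wordClassB 8 [(23, true), (0, true)] 8536111 k)).length := fun k =>
    (ncard_transport c fun s => hmk k s).trans (wordClass_ncard (by simp))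
  refine ⟨by rw [hcount]; decide +kernel, by rw [hcount]; decide +kernel, ?_⟩
  have y := (hmk _ o').2 ⟨ho', hp.2.1, hq.2.1, rfl⟩
  have z := (hmk _ o'').2 ⟨ho'', hp.2.2, hq.2.2, h.symm⟩
  obtain ⟨σ, hσ⟩ : ∃ σ : fixMasks [8536111, 1, 8388608], σ • (c • o') = c • o'' := by
    rcases octads_inter_cases ho ho' with hk | hk | hk | hk <;> rw [hk] at y z
    · exact word_class_trans 8536111 (N := 1) (by simp) (by decide +kernel) (by decide +kernel)
        (by decide +kernel) card_orbC_base card_orbC_2 rfl y z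
    · exact word_class_trans 8391797 (N := 60) (by simp) (by decide +kernel) (by decide +kernel)
        (by decide +kernel) card_orbC_base card_orbC_1 rfl y z
    · exact word_class_trans 8499969 (N := 16) (by simp) (by decide +kernel) (by decide +kernel)
        (by decide +kernel) card_orbC_base card_orbC_0 rfl y z
    · exact absurd (Finset.card_eq_zero.1 hk)
        (Finset.ne_empty_of_mem (Finset.mem_inter.2 ⟨hp.1, hp.2.1⟩))
  exact ⟨_, (c⁻¹ * toM24 σ * c).2, M24_pt_fix (by norm_num : 23 < 24) (by decide) σ hcp,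
    M24_pt_fix (by norm_num : 0 < 24) (by decide) σ hcq,
    M24_set_fix (m := 8536111) (by simp) σ hc, M24_moved σ hσ⟩

end Cfsg.Agent.S1604
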