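import Cfsg.Statements.S1605
import Cfsg.Agent.Lib.Golay.OrbitClass
import Cfsg.Agent.Lib.Golay.OrbitOctad
import Cfsg.Agent.Lib.Golay.OrbitE
import Cfsg.Agent.Lib.Golay.OrbitC
import Cfsg.Agent.Lib.Golay.OrbitD
import Cfsg.Agent.Lib.Golay.OrbitD0
import Cfsg.Agent.Lib.Golay.OrbitF
import Cfsg.Agent.Lib.Golay.OrbitG
import Cfsg.Agent.Lib.Golay.OrbitH
import Cfsg.Agent.Lib.Golay.OrbitI
import Cfsg.Agent.Lib.Golay.OrbitJ

set_option autoImplicit false
open scoped Pointwise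
open Cfsg CfsgLib.Golay
open scoped Pointwise

namespace Cfsg.Agent.S1605

/-- The two-point stabiliser acts on the 176 octads through the first point avoiding the second with rank 3 and subdegrees 1, 70, 105 (intersections 8, 2, 4). -/
theorem result (p q : Cfsg.GolayPt) (hpq : p ≠ q) : {x : Finset Cfsg.GolayPt | (x ∈ Cfsg.octads ∧ p ∈ x ∧ q ∉ x)}.ncard = 176 ∧ (∀ o o' : Finset Cfsg.GolayPt, (o ∈ Cfsg.octads ∧ p ∈ o ∧ q ∉ o) → (o' ∈ Cfsg.octads ∧ p ∈ o' ∧ q ∉ o') → ∃ g : Equiv.Perm Cfsg.GolayPt, g ∈ Cfsg.M24 ∧ g p = p ∧ g q = q ∧ g • o = o') ∧ ∀ o : Finset Cfsg.GolayPt, (o ∈ Cfsg.octads ∧ p ∈ o ∧ q ∉ o) → {x : Finset Cfsg.GolayPt | (x ∈ Cfsg.octads ∧ p ∈ x ∧ q ∉ x) ∧ (o ∩ x).card = 2}.ncard = 70 ∧ {x : Finset Cfsg.GolayPt | (x ∈ Cfsg.octads ∧ p ∈ x ∧ q ∉ x) ∧ (o ∩ x).card = 4}.ncard = 105 ∧ ∀ o' o'' : Finset Cfsg.GolayPt, (o' ∈ Cfsg.octads ∧ p ∈ o' ∧ q ∉ o') → (o'' ∈ Cfsg.octads ∧ p ∈ o'' ∧ q ∉ o'') → (o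 ∩ o').card = (o ∩ o'').card → ∃ g : Equiv.Perm Cfsg.GolayPt, g ∈ Cfsg.M24 ∧ g p = p ∧ g q = q ∧ g • o = o ∧ g • o' = o'' := by
  obtain ⟨c₀, hp₀, hq₀⟩ := M24_two hpq (show pt 23 ≠ pt 0 by decide +kernel)
  -- the family, moved to standard position
  have hfam : ∀ (c : Cfsg.M24), c • p = pt 23 → c • q = pt 0 → ∀ s : Finset Cfsg.GolayPt,
      WordClass 8 [(23, true), (0, false)] 1 0 (c • s) ↔ s ∈ Cfsg.octads ∧ p ∈ s ∧ q ∉ s := by
    intro c hcp hcq s
    unfold WordClass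
    refine and_congr (smul_mem_octads_iff c) ?_
    have h1 : mset 1 = {pt 0} := mset_two_pow (i := 0) (by norm_num)
    have h0 : (mset 1 ∩ c • s).card = 0 ↔ q ∉ s := by
      rw [h1, Finset.card_eq_zero, ← Finset.disjoint_iff_inter_eq_empty,
        Finset.disjoint_singleton_left, smul_mem_iff_pt c hcq]
    rw [h0]
    simp [Marks, smul_mem_iff_pt c hcp, smul_mem_iff_pt c hcq]
  have h176 : {x : Finset Cfsg.GolayPt | (x ∈ Cfsg.octads ∧ p ∈ x ∧ q ∉ x)}.ncard = 176 := by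
    refine (ncard_transport c₀ (T := {s | WordClass 8 [(23, true), (0, false)] 1 0 s})
      fun s => hfam c₀ hp₀ hq₀ s).trans ((wordClass_ncard (by simp)).trans ?_)
    decide +kernel
  have htr : ∀ s t : Finset Cfsg.GolayPt, (s ∈ Cfsg.octads ∧ p ∈ s ∧ q ∉ s) →
      (t ∈ Cfsg.octads ∧ p ∈ t ∧ q ∉ t) → ∃ g : Cfsg.M24, g • p = p ∧ g • q = q ∧ g • s = t := by
    intro s t hs ht
    obtain ⟨σ, hσ⟩ : ∃ σ : fixMasks [1, 8388608], σ • (c₀ • s) = c₀ • t :=
      word_class_trans 8394986 (N := 176) (by simp) (by decide +kernel) (by decide +kernel)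
        (by decide +kernel) card_orbD0_base card_orbD0_0 rfl ((hfam c₀ hp₀ hq₀ s).2 hs)
        ((hfam c₀ hp₀ hq₀ t).2 ht)
    exact ⟨c₀⁻¹ * toM24 σ * c₀, M24_pt_fix (by norm_num : 23 < 24) (by decide) σ hp₀,
      M24_pt_fix (by norm_num : 0 < 24) (by decide) σ hq₀, M24_moved σ hσ⟩
  refine ⟨h176, fun s t hs ht => ?_, fun o ho => ?_⟩
  · obtain ⟨g, h1, h2, h3⟩ := htr s t hs ht
    exact ⟨g.1, g.2, h1, h2, h3⟩
  have hstd : WordClass 8 [(23, true), (0, false)] 1 0 (mset 8683614) :=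
    (wordClass_iff (by simp) (by decide +kernel)).2 (by decide +kernel)
  rw [← smul_inv_smul c₀ (mset 8683614), hfam c₀ hp₀ hq₀] at hstd
  obtain ⟨g, hg1, hg2, hg3⟩ := htr o _ ho hstd
  set c := c₀ * g with hcdef
  have hcp : c • p = pt 23 := by rw [hcdef, mul_smul, hg1, hp₀]
  have hcq : c • q = pt 0 := by rw [hcdef, mul_smul, hg2, hq₀]
  have hc : c • o = mset 8683614 := by rw [hcdef, mul_smul, hg3, smul_inv_smul]
  have hmk : ∀ (k : ℕ) (s : Finset Cfsg.GolayPt),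
      WordClass 8 [(23, true), (0, false)] 8683614 k (c • s) ↔
      (s ∈ Cfsg.octads ∧ p ∈ s ∧ q ∉ s) ∧ (o ∩ s).card = k := by
    intro k s
    unfold WordClass
    rw [← hc, smul_inter_card, and_assoc]
    exact and_congr (smul_mem_octads_iff c)
      (and_congr_left fun _ => by simp [Marks, smul_mem_iff_pt c hcp, smul_mem_iff_pt c hcq])
  have hcount : ∀ k, {x : Finset Cfsg.GolayPt | (x ∈ Cfsg.octads ∧ p ∈ x ∧ q ∉ x) ∧ (o ∩ x).card = k}.ncard =
      (codeList.filter (wordClassB 8 [(23, true), (0, false)] 8683614 k)).length := fun k =>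
    (ncard_transport c fun s => hmk k s).trans (wordClass_ncard (by simp))
  refine ⟨by rw [hcount]; decide +kernel, by rw [hcount]; decide +kernel, ?_⟩
  intro o' o'' ho' ho'' h
  have y := (hmk _ o').2 ⟨ho', rfl⟩
  have z := (hmk _ o'').2 ⟨ho'', h.symm⟩
  obtain ⟨σ, hσ⟩ : ∃ σ : fixMasks [8683614, 1, 8388608], σ • (c • o') = c • o'' := by
    rcases octads_inter_cases ho.1 ho'.1 with hk | hk | hk | hk <;> rw [hk] at y z
    · exact word_class_trans 8683614 (N := 1) (by simp) (by decide +kernel) (by decide +kernel)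
        (by decide +kernel) card_orbD_base card_orbD_2 rfl y z
    · exact word_class_trans 8394986 (N := 105) (by simp) (by decide +kernel) (by decide +kernel)
        (by decide +kernel) card_orbD_base card_orbD_1 rfl y z
    · exact word_class_trans 8414120 (N := 70) (by simp) (by decide +kernel) (by decide +kernel)
        (by decide +kernel) card_orbD_base card_orbD_0 rfl y z
    · exact absurd (Finset.card_eq_zero.1 hk)
        (Finset.ne_empty_of_mem (Finset.mem_inter.2 ⟨ho.2.1, ho'.2.1⟩))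
  exact ⟨_, (c⁻¹ * toM24 σ * c).2, M24_pt_fix (by norm_num : 23 < 24) (by decide) σ hcp,
    M24_pt_fix (by norm_num : 0 < 24) (by decide) σ hcq,
    M24_set_fix (m := 8683614) (by simp) σ hc, M24_moved σ hσ⟩

end Cfsg.Agent.S1605
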