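import Cfsg.Statements.S1607
import Cfsg.Agent.Lib.Golay.OrbitClass
import Cfsg.Agent.Lib.Golay.OrbitOctad
import Cfsg.Agent.Lib.Golay.OrbitE
import Cfsg.Agent.Lib.Golay.OrbitC
import Cfsg.Agent.Lib.Golay.OrbitD
import Cfsg.Agent.Lib.Golay.OrbitD0
import Cfsg.Agent.Lib.Golay.OrbitF
import Cfsg.Agent.Lib.Golay.OrbitG
import Cfsg.Agent.Lib.Golay.OrbitH
import Cfsg.Agent.Lib.Golay.OrbitI
import Cfsg.Agent.Lib.Golay.OrbitJ

set_option autoImplicit false
open scoped Pointwise
open Cfsg CfsgLib.Golay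
open scoped Pointwise

namespace Cfsg.Agent.S1607

/-- The point stabiliser acts on the 253 heptads of its S(4, 7, 23) with rank 3 and subdegrees 1, 112, 140 (intersections 8, 2, 4). -/
theorem result (x : Cfsg.GolayPt) (o : Finset Cfsg.GolayPt) (ho : o ∈ Cfsg.octads) (hx : x ∈ o) : {o' : Finset Cfsg.GolayPt | o' ∈ Cfsg.octads ∧ x ∈ o' ∧ (o ∩ o').card = 2}.ncard = 112 ∧ {o' : Finset Cfsg.GolayPt | o' ∈ Cfsg.octads ∧ x ∈ o' ∧ (o ∩ o').card = 4}.ncard = 140 ∧ ∀ o' o'' : Finset Cfsg.GolayPt, o' ∈ Cfsg.octads → o'' ∈ Cfsg.octads → x ∈ o' → x ∈ o'' → (o ∩ o').card = (o ∩ o'').card → ∃ g : Equiv.Perm Cfsg.GolayPt, g ∈ Cfsg.M24 ∧ g x = x ∧ g • o = o ∧ g • o' = o'' := by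
  obtain ⟨c, hc, hcx⟩ := octad_one ho (o' := mset 8536111)
    (mem_octads_iff.2 ⟨_, mem_octList.2 (by decide +kernel), rfl⟩) hx
    (show pt 23 ∈ mset 8536111 by decide +kernel)
  have hmk : ∀ (k : ℕ) (s : Finset Cfsg.GolayPt), WordClass 8 [(23, true)] 8536111 k (c • s) ↔
      s ∈ Cfsg.octads ∧ x ∈ s ∧ (o ∩ s).card = k := by
    intro k s
    unfold WordClass
    rw [← hc, smul_inter_card]
    exact and_congr (smul_mem_octads_iff c) (and_congr_left fun _ => by simp [Marks, smul_mem_iff_pt c hcx])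
  have hcount : ∀ k, {o' : Finset Cfsg.GolayPt | o' ∈ Cfsg.octads ∧ x ∈ o' ∧ (o ∩ o').card = k}.ncard =
      (codeList.filter (wordClassB 8 [(23, true)] 8536111 k)).length := fun k =>
    (ncard_transport c fun s => hmk k s).trans (wordClass_ncard (by simp))
  refine ⟨by rw [hcount]; decide +kernel, by rw [hcount]; decide +kernel, ?_⟩
  intro o' o'' ho' ho'' hx' hx'' h
  have y := (hmk _ o').2 ⟨ho', hx', rfl⟩
  have z := (hmk _ o'').2 ⟨ho'', hx'', h.symm⟩
  obtain ⟨σ, hσ⟩ : ∃ σ : fixMasks [8536111, 8388608], σ • (c • o') = c • o'' := by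
    rcases octads_inter_cases ho ho' with hk | hk | hk | hk <;> rw [hk] at y z
    · exact word_class_trans 8536111 (N := 1) (by simp) (by decide +kernel) (by decide +kernel)
        (by decide +kernel) card_orbE_base card_orbE_2 rfl y z
    · exact word_class_trans 8391797 (N := 140) (by simp) (by decide +kernel) (by decide +kernel)
        (by decide +kernel) card_orbE_base card_orbE_1 rfl y z
    · exact word_class_trans 8401364 (N := 112) (by simp) (by decide +kernel) (by decide +kernel)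
        (by decide +kernel) card_orbE_base card_orbE_0 rfl y z
    · exact absurd (Finset.card_eq_zero.1 hk)
        (Finset.ne_empty_of_mem (Finset.mem_inter.2 ⟨hx, hx'⟩))
  exact ⟨_, (c⁻¹ * toM24 σ * c).2, M24_pt_fix (by norm_num : 23 < 24) (by decide) σ hcx,
    M24_set_fix (m := 8536111) (by simp) σ hc, M24_moved σ hσ⟩

end Cfsg.Agent.S1607
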