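import Cfsg.Statements.S1608
import Cfsg.Agent.Lib.Golay.OrbitClass
import Cfsg.Agent.Lib.Golay.OrbitOctad
import Cfsg.Agent.Lib.Golay.OrbitE
import Cfsg.Agent.Lib.Golay.OrbitC
import Cfsg.Agent.Lib.Golay.OrbitD
import Cfsg.Agent.Lib.Golay.OrbitD0
import Cfsg.Agent.Lib.Golay.OrbitF
import Cfsg.Agent.Lib.Golay.OrbitG
import Cfsg.Agent.Lib.Golay.OrbitH
import Cfsg.Agent.Lib.Golay.OrbitI
import Cfsg.Agent.Lib.Golay.OrbitJ

set_option autoImplicit false
open scoped Pointwise
open Cfsg CfsgLib.Golay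
open scoped Pointwise

namespace Cfsg.Agent.S1608

/-- The point stabiliser acts on the 506 octads avoiding the point with rank 4 and subdegrees 1, 15, 210, 280, the suborbits being given by intersection size with the fixed octad. -/
theorem result (x : Cfsg.GolayPt) (o : Finset Cfsg.GolayPt) (ho : o ∈ Cfsg.octads) (hx : x ∉ o) : {o' : Finset Cfsg.GolayPt | o' ∈ Cfsg.octads ∧ x ∉ o' ∧ (o ∩ o').card = 0}.ncard = 15 ∧ {o' : Finset Cfsg.GolayPt | o' ∈ Cfsg.octads ∧ x ∉ o' ∧ (o ∩ o').card = 4}.ncard = 210 ∧ {o' : Finset Cfsg.GolayPt | o' ∈ Cfsg.octads ∧ x ∉ o' ∧ (o ∩ o').card = 2}.ncard = 280 ∧ ∀ o' o'' : Finset Cfsg.GolayPt, o' ∈ Cfsg.octads → o'' ∈ Cfsg.octads → x ∉ o' → x ∉ o'' → (o ∩ o').card = (o ∩ o'').card → ∃ g : Equiv.Perm Cfsg.GolayPt, g ∈ Cfsg.M24 ∧ g x = x ∧ g • o = o ∧ g • o' = o'' := by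
  obtain ⟨c₀, hx₀⟩ := M24_one x (pt 23)
  have hfam : ∀ s : Finset Cfsg.GolayPt,
      WordClass 8 [(23, false)] 8388608 0 (c₀ • s) ↔ s ∈ Cfsg.octads ∧ x ∉ s := by
    intro s
    unfold WordClass
    refine and_congr (smul_mem_octads_iff c₀) ?_
    have h1 : mset 8388608 = {pt 23} := mset_two_pow (i := 23) (by norm_num)
    have h0 : (mset 8388608 ∩ c₀ • s).card = 0 ↔ x ∉ s := by
      rw [h1, Finset.card_eq_zero, ← Finset.disjoint_iff_inter_eq_empty,
        Finset.disjoint_singleton_left, smul_mem_iff_pt c₀ hx₀]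
    rw [h0]
    simp [Marks, smul_mem_iff_pt c₀ hx₀]
  have hstd : WordClass 8 [(23, false)] 8388608 0 (mset 5279) :=
    (wordClass_iff (by simp) (by decide +kernel)).2 (by decide +kernel)
  obtain ⟨τ, hτ⟩ : ∃ σ : fixMasks [8388608], σ • (c₀ • o) = mset 5279 :=
    word_class_trans 5279 (N := 506) (by simp) (by decide +kernel) (by decide +kernel)
      (by decide +kernel) card_fix23 card_orbF_base rfl ((hfam o).2 ⟨ho, hx⟩) hstd
  set c := toM24 τ * c₀ with hcdef
  have hcx : c • x = pt 23 := by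
    rw [hcdef, mul_smul, hx₀]
    exact fix_smul_pt (by norm_num : 23 < 24) (by decide) τ
  have hc : c • o = mset 5279 := by rw [hcdef, mul_smul, toM24_smul]; exact hτ
  have hmk : ∀ (k : ℕ) (s : Finset Cfsg.GolayPt),
      WordClass 8 [(23, false)] 5279 k (c • s) ↔
      s ∈ Cfsg.octads ∧ x ∉ s ∧ (o ∩ s).card = k := by
    intro k s
    unfold WordClass
    rw [← hc, smul_inter_card]
    exact and_congr (smul_mem_octads_iff c) (and_congr_left fun _ => by simp [Marks, smul_mem_iff_pt c hcx])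
  have hcount : ∀ k, {o' : Finset Cfsg.GolayPt | o' ∈ Cfsg.octads ∧ x ∉ o' ∧ (o ∩ o').card = k}.ncard =
      (codeList.filter (wordClassB 8 [(23, false)] 5279 k)).length := fun k =>
    (ncard_transport c fun s => hmk k s).trans (wordClass_ncard (by simp))
  refine ⟨by rw [hcount]; decide +kernel, by rw [hcount]; decide +kernel,
    by rw [hcount]; decide +kernel, ?_⟩
  intro o' o'' ho' ho'' hx' hx'' h
  have y := (hmk _ o').2 ⟨ho', hx', rfl⟩
  have z := (hmk _ o'').2 ⟨ho'', hx'', h.symm⟩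
  obtain ⟨σ, hσ⟩ : ∃ σ : fixMasks [5279, 8388608], σ • (c • o') = c • o'' := by
    rcases octads_inter_cases ho ho' with hk | hk | hk | hk <;> rw [hk] at y z
    · exact word_class_trans 5279 (N := 1) (by simp) (by decide +kernel) (by decide +kernel)
        (by decide +kernel) card_orbF_base card_orbF_3 rfl y z
    · exact word_class_trans 10558 (N := 210) (by simp) (by decide +kernel) (by decide +kernel)
        (by decide +kernel) card_orbF_base card_orbF_2 rfl y z
    · exact word_class_trans 31554 (N := 280) (by simp) (by decide +kernel) (by decide +kernel)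
        (by decide +kernel) card_orbF_base card_orbF_1 rfl y z
    · exact word_class_trans 1009728 (N := 15) (by simp) (by decide +kernel) (by decide +kernel)
        (by decide +kernel) card_orbF_base card_orbF_0 rfl y z
  exact ⟨_, (c⁻¹ * toM24 σ * c).2, M24_pt_fix (by norm_num : 23 < 24) (by decide) σ hcx,
    M24_set_fix (m := 5279) (by simp) σ hc, M24_moved σ hσ⟩

end Cfsg.Agent.S1608
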