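import Cfsg.Statements.S1609
import Cfsg.Agent.Lib.Golay.M23Index

set_option autoImplicit false
open scoped Pointwise
open Cfsg

namespace Cfsg.Agent.S1609

/-- Subgroups of index 253 in the Mathieu group of degree 23 are exactly the duad stabilisers and the heptad stabilisers. -/
theorem result (x : Cfsg.GolayPt) (H : Subgroup ↥(MulAction.stabilizer Cfsg.M24 x)) (hH : H.index = 253) : (∃ s : Finset Cfsg.GolayPt, s.card = 2 ∧ x ∉ s ∧ H = (MulAction.stabilizer Cfsg.M24 s).subgroupOf (MulAction.stabilizer Cfsg.M24 x)) ∨ ∃ o ∈ Cfsg.octads, x ∈ o ∧ H = (MulAction.stabilizer Cfsg.M24 o).subgroupOf (MulAction.stabilizer Cfsg.M24 x) := by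
  have hc : Nat.card (H.map (MulAction.stabilizer M24 x).subtype) = 40320 := by
    rw [Subgroup.card_map_of_injective (Subgroup.subtype_injective _)]
    have h := H.card_mul_index
    rw [hH, CfsgLib.Golay.card_stab_one x] at h
    omega
  have hx : H.map (MulAction.stabilizer M24 x).subtype ≤ MulAction.stabilizer M24 x :=
    Subgroup.map_subtype_le H
  have key : ∀ K : Subgroup M24,
      H.map (MulAction.stabilizer M24 x).subtype = K ⊓ MulAction.stabilizer M24 x →
      H = K.subgroupOf (MulAction.stabilizer M24 x) := by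
    intro K h
    rw [← Subgroup.inf_subgroupOf_right, ← h, Subgroup.subgroupOf,
      Subgroup.comap_map_eq_self_of_injective (Subgroup.subtype_injective _)]
  rcases CfsgLib.Golay.sub40320 hx hc with ⟨s, h1, h2, h3⟩ | ⟨o, h1, h2, h3⟩
  · exact Or.inl ⟨s, h1, h2, key _ h3⟩
  · exact Or.inr ⟨o, h1, h2, key _ h3⟩

end Cfsg.Agent.S1609
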