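import Cfsg.Statements.S1617
import Cfsg.Agent.Lib.Golay.RankThreeTransp
import Cfsg.Agent.Lib.FT.OddOrder

set_option autoImplicit false
open Cfsg

namespace Cfsg.Agent.S1617

/-- A generating conjugacy class of involutions on which the group (with trivial solvable radical) acts with rank 3 is a class of 3-transpositions. -/
theorem result {G : Type*} [Group G] [Finite G] (hsol : ∀ N : Subgroup G, N.Normal → Group.IsSolvable ↥N → N = ⊥) {D : Set G} (hinv : ∀ d ∈ D, orderOf d = 2) (hconj : ∃ d ∈ D, D = conjugatesOf d) (hgen : Subgroup.closure D = ⊤) (hrank : ∀ x ∈ D, ∃ y ∈ D, ∃ z ∈ D, {w : G | ∃ g : G, Commute g x ∧ g * y * g⁻¹ = w} ≠ {w : G | ∃ g : G, Commute g x ∧ g * x * g⁻¹ = w} ∧ {w : G | ∃ g : G, Commute g x ∧ g * z * g⁻¹ = w} ≠ {w : G | ∃ g : G, Commute g x ∧ g * x * g⁻¹ = w} ∧ {w : G | ∃ g : G, Commute g x ∧ g * y * g⁻¹ = w} ≠ {w : G | ∃ g : G, Commute g x ∧ g * z * g⁻¹ = w} ∧ D = {w : G | ∃ g : G, Commute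 g x ∧ g * x * g⁻¹ = w} ∪ {w : G | ∃ g : G, Commute g x ∧ g * y * g⁻¹ = w} ∪ {w : G | ∃ g : G, Commute g x ∧ g * z * g⁻¹ = w}) : Cfsg.IsThreeTranspositionClass D := by
  refine ⟨?_, hconj, hgen⟩
  refine CfsgLib.PrimeTransp.three_transpositions hsol hinv hconj hgen (fun x hx => ?_)
    (CfsgLib.FT.odd_order_solvable (CfsgLib.Invol.odd_card_oddCore G))
  obtain ⟨y, -, z, -, -, -, -, hD⟩ := hrank x hx
  refine ⟨orderOf (x * y), orderOf (x * z), fun w hw hne => ?_⟩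
  have key : ∀ g v : G, Commute g x → orderOf (x * (g * v * g⁻¹)) = orderOf (x * v) := by
    intro g v hg
    have e : x * (g * v * g⁻¹) = g * (x * v) * g⁻¹ := by
      rw [← mul_assoc, ← mul_assoc, ← hg.eq]
      group
    rw [e, CfsgLib.PrimeTransp.orderOf_conj_eq]
  rw [hD] at hw
  rcases hw with (⟨g, hg, rfl⟩ | ⟨g, hg, rfl⟩) | ⟨g, hg, rfl⟩
  · exact absurd (by rw [hg.eq, mul_inv_cancel_right]) hne
  · exact Or.inl (key g y hg)
  · exact Or.inr (key g z hg)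

end Cfsg.Agent.S1617
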