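import Cfsg.Statements.S1618
import Cfsg.Agent.Lib.Perm.InvolPProducts
import Cfsg.Agent.Lib.Solvable.PCore

set_option autoImplicit false
open scoped commutatorElement
open Cfsg

namespace Cfsg.Agent.S1618

/-- A group generated by a class of involutions whose pairwise products (of distinct members) have p-power order for a fixed odd prime p has nilpotent derived subgroup. -/
theorem result {G : Type*} [Group G] [Finite G] (p : ℕ) (hp : p.Prime) (hodd : p ≠ 2) {D : Set G} (hinv : ∀ d ∈ D, orderOf d = 2) (hconj : ∃ d ∈ D, D = conjugatesOf d) (hgen : Subgroup.closure D = ⊤) (hprod : ∀ x ∈ D, ∀ y ∈ D, x ≠ y → ∃ k : ℕ, orderOf (x * y) = p ^ k) : Group.IsNilpotent ↥(commutator G) := by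
  classical
  have : Fact p.Prime := ⟨hp⟩
  obtain ⟨d, hd, hDd⟩ := hconj
  have hd' : d * d = 1 := by rw [← sq, ← hinv d hd]; exact pow_orderOf_eq_one d
  have hmemD : ∀ g : G, g * d * g⁻¹ ∈ D := fun g => by
    rw [hDd]; exact isConj_iff.2 ⟨g, rfl⟩
  have hall : ∀ g : G, d * (g * d * g⁻¹) ∈ Cfsg.pCore p G := by
    refine CfsgLib.Perm.InvolProd.products_mem_pCore hp hodd d (hinv d hd) fun g => ?_
    by_cases e : d = g * d * g⁻¹
    · exact ⟨0, by rw [← e, hd', orderOf_one, pow_zero]⟩
    · exact hprod d hd _ (hmemD g) e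
  haveI := CfsgLib.Solvable.pCore_normal p G
  let π := QuotientGroup.mk' (Cfsg.pCore p G)
  have hle : Subgroup.closure D ≤ (Subgroup.zpowers (π d)).comap π := by
    rw [Subgroup.closure_le]
    intro x hx
    rw [hDd] at hx
    replace hx := isConj_iff.1 hx
    obtain ⟨g, rfl⟩ := hx
    have h1 : π (d * (g * d * g⁻¹)) = 1 := (QuotientGroup.eq_one_iff _).2 (hall g)
    rw [map_mul] at h1
    show π (g * d * g⁻¹) ∈ Subgroup.zpowers (π d)
    rw [eq_inv_of_mul_eq_one_right h1]
    exact inv_mem (Subgroup.mem_zpowers _)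
  have hcle : commutator G ≤ Cfsg.pCore p G := by
    rw [commutator_eq_closure, Subgroup.closure_le]
    rintro x ⟨a, b, rfl⟩
    have ha : π a ∈ Subgroup.zpowers (π d) := hle (hgen ▸ Subgroup.mem_top a)
    have hb : π b ∈ Subgroup.zpowers (π d) := hle (hgen ▸ Subgroup.mem_top b)
    refine (QuotientGroup.eq_one_iff _).1 ?_
    show π ⁅a, b⁆ = 1
    rw [map_commutatorElement]
    obtain ⟨m, hm⟩ := ha
    obtain ⟨n, hn⟩ := hb
    rw [← hm, ← hn, commutatorElement_eq_one_iff_commute]
    exact (Commute.refl (π d)).zpow_zpow m n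
  exact ((CfsgLib.Solvable.pCore_isPGroup p).to_le hcle).isNilpotent

end Cfsg.Agent.S1618
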