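import Cfsg.Statements.S1624
import Cfsg.Agent.Lib.InvChar.SporJ2U3
import Cfsg.Agent.Lib.InvChar.IcoJ2
import Mathlib.FieldTheory.Finite.GaloisField

set_option autoImplicit false
open Quaternion
open Cfsg

namespace Cfsg.Agent.S1624

/-- Orbit sizes on cosets are preserved by an isomorphism. -/
theorem orbit_transport {G P : Type*} [Group G] [Group P] (e : G ≃* P) (K : Subgroup P) (p : P) :
    (MulAction.orbit (K.comap e.toMonoidHom) ((e.symm p : G) : G ⧸ K.comap e.toMonoidHom)).ncard =
      (MulAction.orbit K (p : P ⧸ K)).ncard := by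
  let f : P ⧸ K → G ⧸ K.comap e.toMonoidHom := fun q => Quotient.liftOn' q
    (fun a => ((e.symm a : G) : G ⧸ K.comap e.toMonoidHom)) fun a b hab => QuotientGroup.eq.2 (by
      simpa [Subgroup.mem_comap] using QuotientGroup.leftRel_apply.1 hab)
  have hf : Function.Injective f := by
    intro a b hab
    induction a using QuotientGroup.induction_on with
    | _ a =>
      induction b using QuotientGroup.induction_on with
      | _ b =>
        have h := QuotientGroup.eq.1 (show ((e.symm a : G) : G ⧸ K.comap e.toMonoidHom) = _ from hab)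
        exact QuotientGroup.eq.2 (by simpa [Subgroup.mem_comap] using h)
  rw [← Set.ncard_image_of_injective (MulAction.orbit K (p : P ⧸ K)) hf]
  congr 1
  ext q
  constructor
  · rintro ⟨⟨h, hh⟩, rfl⟩
    refine ⟨_, ⟨⟨e h, hh⟩, rfl⟩, ?_⟩
    show ((e.symm (e h * p) : G) : G ⧸ K.comap e.toMonoidHom) = _
    rw [map_mul, MulEquiv.symm_apply_apply]
    rfl
  · rintro ⟨_, ⟨⟨k, hk⟩, rfl⟩, rfl⟩
    refine ⟨⟨e.symm k, by simpa [Subgroup.mem_comap] using hk⟩, ?_⟩
    show ((e.symm k * e.symm p : G) : G ⧸ K.comap e.toMonoidHom) = _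
    rw [← map_mul]
    rfl

/-- The Hall–Janko group contains PSU(3, 3) with index 100 and acts on the 100 cosets with rank 3 and subdegrees 1, 36, 63. -/
theorem result : ∃ H : Subgroup Cfsg.Spor.J2, H.index = 100 ∧ (∃ (F : Type) (_ : Field F) (_ : Fintype F), Fintype.card F = 9 ∧ Nonempty (↥H ≃* Cfsg.PSU 3 F 3)) ∧ ∃ c₁ c₂ : Cfsg.Spor.J2 ⧸ H, (MulAction.orbit ↥H c₁).ncard = 36 ∧ (MulAction.orbit ↥H c₂).ncard = 63 := by
  let e := CfsgLib.InvChar.Ico.equivP
  let K := CfsgLib.InvChar.SporJ2.H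
  haveI : Fact (Nat.Prime 3) := ⟨Nat.prime_three⟩
  let F := GaloisField 3 2
  letI : Fintype F := Fintype.ofFinite F
  have hF : Fintype.card F = 9 := by
    rw [← Nat.card_eq_fintype_card, GaloisField.card 3 2 (by norm_num)]
    norm_num
  obtain ⟨b⟩ := CfsgLib.InvChar.SporJ2U3.H_equiv_psu (F := F) hF
  obtain ⟨c₁, c₂, h1, h2, -⟩ := CfsgLib.InvChar.SporJ2.suborbits
  induction c₁ using QuotientGroup.induction_on with
  | _ p₁ =>
    induction c₂ using QuotientGroup.induction_on with
    | _ p₂ =>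
      refine ⟨K.comap e.toMonoidHom, ?_, ⟨F, inferInstance, inferInstance, hF, ⟨?_⟩⟩,
        (e.symm p₁ : Cfsg.Spor.J2), (e.symm p₂ : Cfsg.Spor.J2), ?_, ?_⟩
      · rw [Subgroup.index_comap_of_surjective K (f := e.toMonoidHom) e.surjective]
        exact CfsgLib.InvChar.SporJ2.index_H.1
      · exact (e.subgroupMap _).trans ((MulEquiv.subgroupCongr
          (Subgroup.map_comap_eq_self_of_surjective (f := e.toMonoidHom) e.surjective K)).trans b)
      · exact (orbit_transport e K p₁).trans h1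
      · exact (orbit_transport e K p₂).trans h2

end Cfsg.Agent.S1624
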