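import Cfsg.Statements.S1629
import Cfsg.Agent.Lib.Trans3.BraidClass
import Cfsg.Agent.Lib.Geom.StdForms
import Cfsg.Agent.Lib.Geom.QuadRefl

set_option autoImplicit false
open scoped MatrixGroups
open Cfsg

namespace Cfsg.Agent.S1629


open Matrix CfsgLib.Geom

local instance : Fact (Nat.Prime 2) := ⟨Nat.prime_two⟩
open QuadraticMap (polar)

variable {m : ℕ}

/-- the space -/
abbrev V (m : ℕ) : Type := Fin m ⊕ Fin m → ZMod 2

/-- the form -/
abbrev Qm (m : ℕ) : QuadraticForm (ZMod 2) (V m) := plusForm m (ZMod 2)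

/-- the group -/
abbrev Og (m : ℕ) := ↥(Cfsg.isometryGroup (ZMod 2) (Cfsg.quadFormPlus m (ZMod 2)))

theorem z2 : ∀ a : ZMod 2, a = 0 ∨ a = 1 := by decide

theorem neg_eq_self_z2 : ∀ a : ZMod 2, -a = a := by decide

theorem two_zero : (2 : ZMod 2) = 0 := by decide

theorem polar_sep (x : V m) (h : ∀ y, polar (Qm m) x y = 0) : x = 0 := by
  funext i
  rcases i with i | i
  · have := h (Pi.single (.inr i) 1)
    simpa [plusForm_polar, Pi.single_apply] using this
  · have := h (Pi.single (.inl i) 1)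
    simpa [plusForm_polar, Pi.single_apply] using this

theorem og_preserves (A : Og m) (x : V m) :
    Qm m (((A : GL (Fin m ⊕ Fin m) (ZMod 2)) : Matrix _ _ (ZMod 2)) *ᵥ x) = Qm m x := by
  rw [plusForm_coe]; exact A.2 x x

/-- the group acting on vectors -/
def toEquiv : Og m →* (V m ≃ₗ[ZMod 2] V m) :=
  ((LinearMap.GeneralLinearGroup.generalLinearEquiv (ZMod 2) (V m)).toMonoidHom.comp
    Matrix.GeneralLinearGroup.toLin.toMonoidHom).comp
      (Cfsg.isometryGroup (ZMod 2) (Cfsg.quadFormPlus m (ZMod 2))).subtype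

theorem toEquiv_apply (A : Og m) (x : V m) :
    toEquiv A x = ((A : GL (Fin m ⊕ Fin m) (ZMod 2)) : Matrix _ _ (ZMod 2)) *ᵥ x := rfl

theorem og_ext {A B : Og m} (h : ∀ x, toEquiv A x = toEquiv B x) : A = B :=
  Subtype.ext (Units.ext (Matrix.ext_iff_mulVec.2 h))

/-- `A` is the transvection of `v` -/
def IsTr (A : Og m) (v : V m) : Prop :=
  Qm m v = 1 ∧ ∀ x, toEquiv A x = x + polar (Qm m) v x • v

theorem exists_tr {v : V m} (hv : Qm m v = 1) : ∃ A, IsTr A v := by
  classical
  have hv' : Qm m v ≠ 0 := by rw [hv]; exact one_ne_zero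
  let e := reflEquiv (Qm m) v hv'
  let L := (LinearMap.GeneralLinearGroup.generalLinearEquiv (ZMod 2) (V m)).symm e
  let g : GL (Fin m ⊕ Fin m) (ZMod 2) := Matrix.GeneralLinearGroup.toLin.symm L
  have hg : ∀ x, (g : Matrix _ _ (ZMod 2)) *ᵥ x = e x := fun x => by
    show (Matrix.GeneralLinearGroup.toLin g : V m →ₗ[ZMod 2] V m) x = _
    rw [show Matrix.GeneralLinearGroup.toLin g = L from MulEquiv.apply_symm_apply _ _]
    rfl
  refine ⟨⟨g, fun x y => ?_⟩, hv, fun x => ?_⟩
  · show Cfsg.quadFormPlus m (ZMod 2) ((g : Matrix _ _ (ZMod 2)) *ᵥ x) = _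
    rw [← plusForm_coe, hg]
    exact reflEquiv_mem (Qm m) v hv' x
  · rw [toEquiv_apply, hg, reflEquiv_apply, hv, inv_one, one_mul, sub_eq_add_neg, ← neg_smul,
      (by decide : ∀ a : ZMod 2, -a = a)]

theorem rank_iff (A : Og m) :
    (((A : GL (Fin m ⊕ Fin m) (ZMod 2)) : Matrix (Fin m ⊕ Fin m) (Fin m ⊕ Fin m) (ZMod 2)) - 1).rank = 1 ↔
      ∃ v, IsTr A v := by
  haveI : Fact (Nat.Prime 2) := ⟨Nat.prime_two⟩
  constructor
  · intro h
    obtain ⟨w, c, x₀, hw, hc, hA⟩ := CfsgLib.Trans3.exists_of_rank_sub_one h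
    have key : ∀ x, c x = 1 → Qm m w + polar (Qm m) x w = 0 := fun x hx => by
      have h1 := og_preserves A x
      rw [hA, hx, one_smul, QuadraticMap.map_add (Qm m)] at h1
      linear_combination h1
    have hQ : Qm m w = 1 := by
      refine (z2 _).resolve_left fun h0 => hw (polar_sep w fun y => ?_)
      rw [QuadraticMap.polar_comm]
      rcases z2 (c y) with hy | hy
      · have h1 := key (y + x₀) (by rw [map_add, hy, hc, zero_add])
        rw [QuadraticMap.polar_add_left] at h1
        linear_combination h1 - key x₀ hc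
      · linear_combination key y hy - h0
    refine ⟨w, hQ, fun x => ?_⟩
    rw [toEquiv_apply, hA]
    congr 2
    rw [QuadraticMap.polar_comm]
    rcases z2 (c x) with hx | hx
    · have h1 := key (x + x₀) (by rw [map_add, hx, hc, zero_add])
      rw [QuadraticMap.polar_add_left] at h1
      linear_combination hx + key x₀ hc - h1
    · linear_combination hx - key x hx + hQ + two_zero
  · rintro ⟨v, hv, hA⟩
    have hv0 : v ≠ 0 := fun e => by rw [e, QuadraticMap.map_zero] at hv; exact zero_ne_one hv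
    obtain ⟨z, hz⟩ : ∃ z, polar (Qm m) v z = 1 := by
      by_contra! h
      exact hv0 (polar_sep v fun y => (z2 _).resolve_right (h y))
    exact CfsgLib.Trans3.rank_sub_one_of (fun x => polar (Qm m) v x) hv0 hz fun x => by
      rw [← toEquiv_apply]; exact hA x

theorem polar_self_zero (v : V m) : polar (Qm m) v v = 0 := by
  rw [polar_self_two, two_zero, zero_mul]

theorem tr_comm_or_braid {A B : Og m} {v w : V m} (hA : IsTr A v) (hB : IsTr B w) :
    (polar (Qm m) v w = 0 → A * B = B * A) ∧ (polar (Qm m) v w = 1 → A * B * A = B * A * B) := by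
  obtain ⟨-, hA⟩ := hA
  obtain ⟨-, hB⟩ := hB
  constructor <;> intro h <;> refine og_ext fun x => ?_ <;>
    simp only [map_mul, LinearEquiv.mul_apply, hA, hB, QuadraticMap.polar_add_right,
      QuadraticMap.polar_smul_right, polar_self_zero, smul_eq_mul, h,
      (QuadraticMap.polar_comm (Qm m) w v).trans h] <;>
    match_scalars <;> first
      | ring1
      | linear_combination (polar (Qm m) v x) * two_zero
      | linear_combination (polar (Qm m) w x) * two_zero
      | linear_combination -(polar (Qm m) v x) * two_zero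
      | linear_combination -(polar (Qm m) w x) * two_zero

theorem tr_sq {A : Og m} {v : V m} (hA : IsTr A v) : A * A = 1 ∧ A ≠ 1 := by
  obtain ⟨hv, hA⟩ := hA
  have hv0 : v ≠ 0 := fun e => by rw [e, QuadraticMap.map_zero] at hv; exact zero_ne_one hv
  refine ⟨og_ext fun x => ?_, fun e => hv0 (polar_sep v fun y => ?_)⟩
  · simp only [map_mul, LinearEquiv.mul_apply, hA, QuadraticMap.polar_add_right,
      QuadraticMap.polar_smul_right, polar_self_zero, smul_eq_mul, mul_zero, add_zero, map_one,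
      LinearEquiv.coe_one, id_eq]
    match_scalars
    · ring
    · linear_combination (polar (Qm m) v x) * two_zero
  · have := hA y
    rw [e, map_one] at this
    simpa [hv0] using this

theorem exists_middle (hm : 3 ≤ m) {v w : V m} (hv : Qm m v = 1) (hw : Qm m w = 1)
    (hvw : polar (Qm m) v w = 0) : ∃ z, Qm m z = 1 ∧ polar (Qm m) v z = 1 ∧ polar (Qm m) w z = 1 := by
  haveI : Fact (Nat.Prime 2) := ⟨Nat.prime_two⟩
  have hv0 : v ≠ 0 := fun e => by rw [e, QuadraticMap.map_zero] at hv; exact zero_ne_one hv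
  have hw0 : w ≠ 0 := fun e => by rw [e, QuadraticMap.map_zero] at hw; exact zero_ne_one hw
  obtain ⟨a, ha⟩ : ∃ a, polar (Qm m) v a = 1 := by
    by_contra! h
    exact hv0 (polar_sep v fun y => (z2 _).resolve_right (h y))
  obtain ⟨b, hb⟩ : ∃ b, polar (Qm m) w b = 1 := by
    by_contra! h
    exact hw0 (polar_sep w fun y => (z2 _).resolve_right (h y))
  obtain ⟨x, hxv, hxw⟩ : ∃ x, polar (Qm m) v x = 1 ∧ polar (Qm m) w x = 1 := by
    rcases z2 (polar (Qm m) w a) with h1 | h1
    · rcases z2 (polar (Qm m) v b) with h2 | h2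
      · exact ⟨a + b, by rw [QuadraticMap.polar_add_right, ha, h2, add_zero],
          by rw [QuadraticMap.polar_add_right, h1, hb, zero_add]⟩
      · exact ⟨b, h2, hb⟩
    · exact ⟨a, ha, h1⟩
  by_contra! hno
  -- on the common orthogonal the form is linear, so it is totally singular for the polar form
  let B := QuadraticMap.polarBilin (Qm m)
  let L : V m →ₗ[ZMod 2] ZMod 2 × ZMod 2 := (B v).prod (B w)
  let U := LinearMap.ker L
  have hU : ∀ u, u ∈ U ↔ polar (Qm m) v u = 0 ∧ polar (Qm m) w u = 0 := fun u => by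
    simp [U, L, B, LinearMap.mem_ker, Prod.ext_iff]
  have hlin : ∀ u ∈ U, Qm m (x + u) = 0 := fun u hu => by
    obtain ⟨h1, h2⟩ := (hU u).1 hu
    refine (z2 _).resolve_right fun h => hno (x + u) h ?_ ?_
    · rw [QuadraticMap.polar_add_right, hxv, h1, add_zero]
    · rw [QuadraticMap.polar_add_right, hxw, h2, add_zero]
  have htot : ∀ u ∈ U, ∀ u' ∈ U, polar (Qm m) u u' = 0 := fun u hu u' hu' => by
    have h1 := hlin u hu
    have h2 := hlin u' hu'
    have h3 := hlin (u + u') (add_mem hu hu')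
    have h0 := hlin 0 (zero_mem _)
    rw [add_zero] at h0
    rw [QuadraticMap.map_add (Qm m) x, h0] at h1 h2 h3
    rw [QuadraticMap.map_add (Qm m) u u', QuadraticMap.polar_add_right] at h3
    linear_combination h3 - h1 - h2
  -- the orthogonal of the orthogonal is small
  have hdim := LinearMap.finrank_range_add_finrank_ker L
  have hrange : Module.finrank (ZMod 2) (LinearMap.range L) ≤ 2 :=
    (Submodule.finrank_le _).trans (by simp)
  rw [Module.finrank_fintype_fun_eq_card] at hdim
  simp only [Fintype.card_sum, Fintype.card_fin] at hdim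
  have hle : U ≤ LinearMap.BilinForm.orthogonal B U := fun u hu u' hu' => htot u' hu' u hu
  have hnd : B.Nondegenerate := by
    refine ⟨fun y h => polar_sep y h, fun y h => polar_sep y fun z => ?_⟩
    rw [QuadraticMap.polar_comm]; exact h z
  have horth := LinearMap.BilinForm.finrank_orthogonal hnd U
  have := Submodule.finrank_mono hle
  rw [Module.finrank_fintype_fun_eq_card] at horth
  simp only [Fintype.card_sum, Fintype.card_fin] at horth
  simp only [U] at this horth
  omega

theorem closure_tr (hm : 3 ≤ m) : Subgroup.closure {A : Og m | ∃ v, IsTr A v} = ⊤ := by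
  haveI : Fact (Nat.Prime 2) := ⟨Nat.prime_two⟩
  rw [eq_top_iff]
  intro A _
  have h : toEquiv A ∈ Subgroup.closure (reflSet (Qm m)) := by
    rw [← quadIsoms_eq_closure (Qm m) polar_sep (Or.inr (by simp; omega))]
    exact fun z => og_preserves A z
  have hle : Subgroup.closure (reflSet (Qm m)) ≤
      (Subgroup.closure {A : Og m | ∃ v, IsTr A v}).map toEquiv := by
    rw [MonoidHom.map_closure]
    refine Subgroup.closure_mono ?_
    rintro e ⟨v, hv, rfl⟩
    obtain ⟨T, hT⟩ := exists_tr ((z2 _).resolve_left hv)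
    refine ⟨T, ⟨v, hT⟩, LinearEquiv.ext fun x => ?_⟩
    rw [hT.2, reflEquiv_apply, (z2 _).resolve_left hv, inv_one, one_mul, sub_eq_add_neg, ← neg_smul,
      neg_eq_self_z2]
  obtain ⟨B, hB, hBA⟩ := hle h
  rwa [og_ext (A := B) (B := A) fun x => by rw [hBA]] at hB


/-- The orthogonal transvections of the plus-type orthogonal group in dimension 2m ≥ 6 over the field with two elements form a generating conjugacy class of 3-transpositions. -/
theorem result (m : ℕ) (hm : 3 ≤ m) : Cfsg.IsThreeTranspositionClass {g : ↥(Cfsg.isometryGroup (ZMod 2) (Cfsg.quadFormPlus m (ZMod 2))) | (((g : GL (Fin m ⊕ Fin m) (ZMod 2)) : Matrix (Fin m ⊕ Fin m) (Fin m ⊕ Fin m) (ZMod 2)) - 1).rank = 1} := by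
  haveI : Fact (Nat.Prime 2) := ⟨Nat.prime_two⟩
  have hD : {g : Og m | (((g : GL (Fin m ⊕ Fin m) (ZMod 2)) : Matrix (Fin m ⊕ Fin m) (Fin m ⊕ Fin m) (ZMod 2)) - 1).rank = 1} =
      {g | ∃ v, IsTr g v} := Set.ext fun g => rank_iff g
  rw [hD]
  obtain ⟨A, hA⟩ : ∃ A : Og m, ∃ v, IsTr A v := by
    have : Qm m (Pi.single (.inl ⟨0, by omega⟩) 1 + Pi.single (.inr ⟨0, by omega⟩) 1) = 1 := by
      simp [plusForm_apply, Pi.single_apply]
    obtain ⟨A, hA⟩ := exists_tr this
    exact ⟨A, _, hA⟩
  refine CfsgLib.Trans3.isThreeTranspositionClass_of_braid _ ⟨A, hA⟩ (fun d hd g => ?_)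
    (fun d ⟨_, hd⟩ => tr_sq hd)
    (fun d ⟨a, hd⟩ e ⟨b, he⟩ => ?_) (fun d ⟨a, hd⟩ e ⟨b, he⟩ hde => ?_) (closure_tr hm)
  · refine (rank_iff _).1 ?_
    rw [← (rank_iff d).2 hd]
    exact CfsgLib.Trans3.rank_conj_sub_one
      ((Units.coeHom _).comp (Cfsg.isometryGroup (ZMod 2) (Cfsg.quadFormPlus m (ZMod 2))).subtype) g d
  · obtain ⟨h1, h2⟩ := tr_comm_or_braid hd he
    exact (z2 _).imp h1 h2
  · rcases z2 (polar (Qm m) a b) with hab | hab
    · obtain ⟨z, hz, h1, h2⟩ := exists_middle hm hd.1 he.1 hab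
      obtain ⟨C, hC⟩ := exists_tr hz
      exact ⟨C, ⟨z, hC⟩, (tr_comm_or_braid hd hC).2 h1,
        (tr_comm_or_braid hC he).2 ((QuadraticMap.polar_comm (Qm m) z b).trans h2)⟩
    · have hb := (tr_comm_or_braid hd he).2 hab
      have hede : e = d := by
        have h' : d * e * d = e * d * d → e * d * e = e * d * d := fun h => hb.symm.trans h
        exact mul_left_cancel (h' (by rw [hde]))
      subst hede
      exact ⟨e, ⟨b, he⟩, rfl, rfl⟩
end Cfsg.Agent.S1629
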