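import Cfsg.Statements.S1633
import Cfsg.Agent.Lib.Golay.StabU35

set_option autoImplicit false
open Cfsg

namespace Cfsg.Agent.S1633

/-- The Higman–Sims group acts transitively on 352 vectors, a set closed under x ↦ −w − x, with vector stabiliser isomorphic to PSU(3, 5). -/
theorem result (v w : ↥Cfsg.leechLattice) (hv : Cfsg.sqNorm (v : Cfsg.GolayPt → ℤ) = 48) (hw : Cfsg.sqNorm (w : Cfsg.GolayPt → ℤ) = 48) (hvw : Cfsg.dotInt (v : Cfsg.GolayPt → ℤ) (w : Cfsg.GolayPt → ℤ) = -32) (F : Type) [Field F] [Fintype F] (hF : Fintype.card F = 25) : {x : ↥Cfsg.leechLattice | Cfsg.sqNorm (x : Cfsg.GolayPt → ℤ) = 32 ∧ Cfsg.dotInt (v : Cfsg.GolayPt → ℤ) (x : Cfsg.GolayPt → ℤ) = 16 ∧ Cfsg.dotInt (w : Cfsg.GolayPt → ℤ) (x : Cfsg.GolayPt → ℤ) = -24}.ncard = 352 ∧ (∀ x ∈ {x : ↥Cfsg.leechLattice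 | Cfsg.sqNorm (x : Cfsg.GolayPt → ℤ) = 32 ∧ Cfsg.dotInt (v : Cfsg.GolayPt → ℤ) (x : Cfsg.GolayPt → ℤ) = 16 ∧ Cfsg.dotInt (w : Cfsg.GolayPt → ℤ) (x : Cfsg.GolayPt → ℤ) = -24}, -w - x ∈ {x : ↥Cfsg.leechLattice | Cfsg.sqNorm (x : Cfsg.GolayPt → ℤ) = 32 ∧ Cfsg.dotInt (v : Cfsg.GolayPt → ℤ) (x : Cfsg.GolayPt → ℤ) = 16 ∧ Cfsg.dotInt (w : Cfsg.GolayPt → ℤ) (x : Cfsg.GolayPt → ℤ) = -24}) ∧ (∀ x ∈ {x : ↥Cfsg.leechLattice | Cfsg.sqNorm (x : Cfsg.GolayPt → ℤ) = 32 ∧ Cfsg.dotInt (v : Cfsg.GolayPt → ℤ) (x : Cfsg.GolayPt → ℤ) = 16 ∧ Cfsg.dotInt (w : Cfsg.GolayPt → ℤ) (x : Cfsg.GolayPt → ℤ) = -24}, ∀ x' ∈ {x : ↥Cfsg.leechLattice | Cfsg.sqNorm (x : Cfsg.GolayPt → ℤ) = 32 ∧ Cfsg.dotInt (v : Cfsg.GolayPt → ℤ) (x : Cfsg.GolayPt → ℤ) = 16 ∧ Cfsg.dotInt (w : Cfsg.GolayPt → ℤ) (x : Cfsg.GolayPt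 → ℤ) = -24}, ∃ g : ↥Cfsg.Co0, g • v = v ∧ g • w = w ∧ g • x = x') ∧ ∀ x ∈ {x : ↥Cfsg.leechLattice | Cfsg.sqNorm (x : Cfsg.GolayPt → ℤ) = 32 ∧ Cfsg.dotInt (v : Cfsg.GolayPt → ℤ) (x : Cfsg.GolayPt → ℤ) = 16 ∧ Cfsg.dotInt (w : Cfsg.GolayPt → ℤ) (x : Cfsg.GolayPt → ℤ) = -24}, Nonempty (↥(MulAction.stabilizer ↥Cfsg.Co0 v ⊓ MulAction.stabilizer ↥Cfsg.Co0 w ⊓ MulAction.stabilizer ↥Cfsg.Co0 x) ≃* Cfsg.PSU 3 F 5) := by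
  obtain ⟨h1, h2, h3⟩ := CfsgLib.Golay.OrbitTree.hs352_at hv hw hvw
    (fun x : ↥Cfsg.leechLattice => x ∈ {x : ↥Cfsg.leechLattice | Cfsg.sqNorm (x : Cfsg.GolayPt → ℤ) = 32 ∧
      Cfsg.dotInt (v : Cfsg.GolayPt → ℤ) (x : Cfsg.GolayPt → ℤ) = 16 ∧
      Cfsg.dotInt (w : Cfsg.GolayPt → ℤ) (x : Cfsg.GolayPt → ℤ) = -24}) (fun _ => Iff.rfl)
  refine ⟨h1, fun x hx => ?_, fun x hx x' hx' => h2 x x' hx hx', fun x hx => h3 F hF x hx⟩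
  obtain ⟨a, b, c⟩ := hx
  have e : ∀ u y z : Cfsg.GolayPt → ℤ,
      Cfsg.dotInt u (-y - z) = -Cfsg.dotInt u y - Cfsg.dotInt u z := fun u y z => by
    simp [Cfsg.dotInt, mul_sub, Finset.sum_sub_distrib]
  have e' : ∀ u y z : Cfsg.GolayPt → ℤ,
      Cfsg.dotInt (-y - z) u = -Cfsg.dotInt y u - Cfsg.dotInt z u := fun u y z => by
    simp [Cfsg.dotInt, sub_mul, Finset.sum_sub_distrib]
  refine ⟨?_, ?_, ?_⟩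
  · show Cfsg.sqNorm (-(w : Cfsg.GolayPt → ℤ) - (x : Cfsg.GolayPt → ℤ)) = 32
    rw [← CfsgLib.Golay.dotInt_self, e, e', e', CfsgLib.Golay.dotInt_self, CfsgLib.Golay.dotInt_self,
      CfsgLib.Golay.dotInt_comm (x : Cfsg.GolayPt → ℤ), c, hw, a]
    norm_num
  · show Cfsg.dotInt (v : Cfsg.GolayPt → ℤ) (-(w : Cfsg.GolayPt → ℤ) - (x : Cfsg.GolayPt → ℤ)) = 16
    rw [e, hvw, b]; norm_num
  · show Cfsg.dotInt (w : Cfsg.GolayPt → ℤ) (-(w : Cfsg.GolayPt → ℤ) - (x : Cfsg.GolayPt → ℤ)) = -24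
    rw [e, CfsgLib.Golay.dotInt_self, hw, c]; norm_num

end Cfsg.Agent.S1633
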