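import Cfsg.Statements.S1634
import Cfsg.Agent.Lib.Golay.Suborbits

set_option autoImplicit false
open Cfsg

namespace Cfsg.Agent.S1634

/-- The McLaughlin group acts on 2025 points (minimal vectors orthogonal to v with customary inner product 2 with w) transitively with rank 4 and subdegrees 1, 330, 462, 1232. -/
theorem result (v w : ↥Cfsg.leechLattice) (hv : Cfsg.sqNorm (v : Cfsg.GolayPt → ℤ) = 32) (hw : Cfsg.sqNorm (w : Cfsg.GolayPt → ℤ) = 32) (hvw : Cfsg.dotInt (v : Cfsg.GolayPt → ℤ) (w : Cfsg.GolayPt → ℤ) = -8) : {x : ↥Cfsg.leechLattice | Cfsg.sqNorm (x : Cfsg.GolayPt → ℤ) = 32 ∧ Cfsg.dotInt (v : Cfsg.GolayPt → ℤ) (x : Cfsg.GolayPt → ℤ) = 0 ∧ Cfsg.dotInt (w : Cfsg.GolayPt → ℤ) (x : Cfsg.GolayPt → ℤ) = 16}.ncard = 2025 ∧ (∀ x ∈ {x : ↥Cfsg.leechLattice | Cfsg.sqNorm (x : Cfsg.GolayPt → ℤ) = 32 ∧ Cfsg.dotInt (v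 : Cfsg.GolayPt → ℤ) (x : Cfsg.GolayPt → ℤ) = 0 ∧ Cfsg.dotInt (w : Cfsg.GolayPt → ℤ) (x : Cfsg.GolayPt → ℤ) = 16}, ∀ x' ∈ {x : ↥Cfsg.leechLattice | Cfsg.sqNorm (x : Cfsg.GolayPt → ℤ) = 32 ∧ Cfsg.dotInt (v : Cfsg.GolayPt → ℤ) (x : Cfsg.GolayPt → ℤ) = 0 ∧ Cfsg.dotInt (w : Cfsg.GolayPt → ℤ) (x : Cfsg.GolayPt → ℤ) = 16}, ∃ g : ↥Cfsg.Co0, g • v = v ∧ g • w = w ∧ g • x = x') ∧ ∀ x ∈ {x : ↥Cfsg.leechLattice | Cfsg.sqNorm (x : Cfsg.GolayPt → ℤ) = 32 ∧ Cfsg.dotInt (v : Cfsg.GolayPt → ℤ) (x : Cfsg.GolayPt → ℤ) = 0 ∧ Cfsg.dotInt (w : Cfsg.GolayPt → ℤ) (x : Cfsg.GolayPt → ℤ) = 16}, ∃ y₁ ∈ {x : ↥Cfsg.leechLattice | Cfsg.sqNorm (x : Cfsg.GolayPt → ℤ) = 32 ∧ Cfsg.dotInt (v : Cfsg.GolayPt → ℤ) (x : Cfsg.GolayPt → ℤ) = 0 ∧ Cfsg.dotInt (w : Cfsg.GolayPt → ℤ) (x : Cfsg.GolayPt → ℤ) = 16}, ∃ y₂ ∈ {x : ↥Cfsg.leechLattice | Cfsg.sqNorm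 (x : Cfsg.GolayPt → ℤ) = 32 ∧ Cfsg.dotInt (v : Cfsg.GolayPt → ℤ) (x : Cfsg.GolayPt → ℤ) = 0 ∧ Cfsg.dotInt (w : Cfsg.GolayPt → ℤ) (x : Cfsg.GolayPt → ℤ) = 16}, ∃ y₃ ∈ {x : ↥Cfsg.leechLattice | Cfsg.sqNorm (x : Cfsg.GolayPt → ℤ) = 32 ∧ Cfsg.dotInt (v : Cfsg.GolayPt → ℤ) (x : Cfsg.GolayPt → ℤ) = 0 ∧ Cfsg.dotInt (w : Cfsg.GolayPt → ℤ) (x : Cfsg.GolayPt → ℤ) = 16}, (MulAction.orbit ↥(MulAction.stabilizer ↥Cfsg.Co0 v ⊓ MulAction.stabilizer ↥Cfsg.Co0 w ⊓ MulAction.stabilizer ↥Cfsg.Co0 x) y₁).ncard = 330 ∧ (MulAction.orbit ↥(MulAction.stabilizer ↥Cfsg.Co0 v ⊓ MulAction.stabilizer ↥Cfsg.Co0 w ⊓ MulAction.stabilizer ↥Cfsg.Co0 x) y₂).ncard = 462 ∧ (MulAction.orbit ↥(MulAction.stabilizer ↥Cfsg.Co0 v ⊓ MulAction.stabilizer ↥Cfsg.Co0 w ⊓ MulAction.stabilizer ↥Cfsg.Co0 x) y₃).ncard = 1232 := by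
  open CfsgLib.Golay CfsgLib.Golay.OrbitTree in
  have hu : Cfsg.sqNorm ((v + w : ↥Cfsg.leechLattice) : Cfsg.GolayPt → ℤ) = 48 := by
    rw [AddSubgroup.coe_add, sqNorm_add, hv, hw, hvw]; norm_num
  have hd : Cfsg.dotInt (v : Cfsg.GolayPt → ℤ) ((v + w : ↥Cfsg.leechLattice) : Cfsg.GolayPt → ℤ) = 24 := by
    rw [AddSubgroup.coe_add, dotInt_comm, dotInt_add_left, dotInt_self, hv, dotInt_comm, hvw]; norm_num
  obtain ⟨g, g1, g2⟩ := normal_mcl hu hv hd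
  have hT : ∀ y : ↥Cfsg.leechLattice, y ∈ {x : ↥Cfsg.leechLattice |
      Cfsg.sqNorm (x : Cfsg.GolayPt → ℤ) = 32 ∧
        Cfsg.dotInt (v : Cfsg.GolayPt → ℤ) (x : Cfsg.GolayPt → ℤ) = 0 ∧
        Cfsg.dotInt (w : Cfsg.GolayPt → ℤ) (x : Cfsg.GolayPt → ℤ) = 16} ↔ g • y ∈ mcT := by
    intro y
    have e1 : Cfsg.dotInt (fiveV : Cfsg.GolayPt → ℤ) (g • y : ↥Cfsg.leechLattice) =
        Cfsg.dotInt (v : Cfsg.GolayPt → ℤ) y + Cfsg.dotInt (w : Cfsg.GolayPt → ℤ) y := by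
      rw [← g1, co0_dot, AddSubgroup.coe_add, dotInt_add_left]
    have e2 : Cfsg.dotInt (min44 : Cfsg.GolayPt → ℤ) (g • y : ↥Cfsg.leechLattice) =
        Cfsg.dotInt (v : Cfsg.GolayPt → ℤ) y := by rw [← g2, co0_dot]
    show _ ↔ _ ∧ _ ∧ _
    rw [e1, e2, co0_sq]
    exact ⟨fun ⟨a, b, c⟩ => ⟨a, by omega, b⟩, fun ⟨a, b, c⟩ => ⟨a, c, by omega⟩⟩
  have hmove : ∀ y : ↥Cfsg.leechLattice, g • y ∈ mcT → ∃ k : ↥Cfsg.Co0,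
      k • v = v ∧ k • w = w ∧ k • y = g⁻¹ • mcX := by
    intro y hy
    rw [← mc_transitive] at hy
    obtain ⟨⟨h, hh⟩, he⟩ := hy
    obtain ⟨h1, h2⟩ := mem_mcH2.1 hh
    have he' : h • mcX = g • y := he
    have hinv : ∀ z : ↥Cfsg.leechLattice, h • g • z = g • z → (g⁻¹ * h⁻¹ * g) • z = z := fun z e => by
      rw [mul_smul, mul_smul, inv_smul_eq_iff, inv_smul_eq_iff, e]
    have kv : (g⁻¹ * h⁻¹ * g) • v = v := hinv v (by rw [g2, h2])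
    refine ⟨g⁻¹ * h⁻¹ * g, kv, ?_, ?_⟩
    · have := hinv (v + w) (by rw [g1, h1])
      rw [co0_add, kv] at this
      exact add_left_cancel this
    · rw [mul_smul, mul_smul, ← he', inv_smul_smul]
  have hcount : ∀ S : Set ↥Cfsg.leechLattice, (∀ y, y ∈ S ↔ g • y ∈ mcT) → S.ncard = 2025 := by
    intro S hS
    rw [← ncard_mcT, ← Set.ncard_image_of_injective mcT (MulAction.injective g⁻¹)]
    refine congrArg Set.ncard (Set.ext fun y => ⟨fun h => ⟨g • y, (hS y).1 h, inv_smul_smul g y⟩, ?_⟩)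
    rintro ⟨z, hz, rfl⟩
    rw [hS, smul_inv_smul]; exact hz
  refine ⟨hcount _ hT, fun x hx x' hx' => ?_, fun x hx => ?_⟩
  · obtain ⟨k, k1, k2, k3⟩ := hmove x ((hT x).1 hx)
    obtain ⟨l, l1, l2, l3⟩ := hmove x' ((hT x').1 hx')
    exact ⟨l⁻¹ * k, by rw [mul_smul, k1, inv_smul_eq_iff, l1], by rw [mul_smul, k2, inv_smul_eq_iff, l2],
      by rw [mul_smul, k3, ← l3, inv_smul_smul]⟩
  · obtain ⟨k, k1, k2, k3⟩ := hmove x ((hT x).1 hx)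
    have q1 : (g * k) • (v + w) = fiveV := by rw [mul_smul, co0_add k, k1, k2, g1]
    have q2 : (g * k) • v = min44 := by rw [mul_smul, k1, g2]
    have q3 : (g * k) • x = mcX := by rw [mul_smul, k3, smul_inv_smul]
    have hK : ∀ a, a ∈ (MulAction.stabilizer ↥Cfsg.Co0 v ⊓ MulAction.stabilizer ↥Cfsg.Co0 w ⊓
        MulAction.stabilizer ↥Cfsg.Co0 x) ↔ g * k * a * (g * k)⁻¹ ∈ mcH3 := fun a => by
      rw [Subgroup.mem_inf, Subgroup.mem_inf, MulAction.mem_stabilizer_iff,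
        MulAction.mem_stabilizer_iff, MulAction.mem_stabilizer_iff, mem_mcH3]
      have e : ∀ z : ↥Cfsg.leechLattice,
          (g * k * a * (g * k)⁻¹) • (g * k) • z = (g * k) • z ↔ a • z = z := fun z => by
        rw [mul_smul, inv_smul_smul, mul_smul, smul_left_cancel_iff]
      rw [← q1, ← q2, ← q3, e, e, e, co0_add]
      exact ⟨fun ⟨⟨a1, a2⟩, a3⟩ => ⟨⟨by rw [a1, a2], a1⟩, a3⟩,
        fun ⟨⟨a1, a2⟩, a3⟩ => ⟨⟨a2, by rw [a2] at a1; exact add_left_cancel a1⟩, a3⟩⟩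
    have hmem : ∀ R : ↥Cfsg.leechLattice, R ∈ mcT → (g * k)⁻¹ • R ∈ {x : ↥Cfsg.leechLattice |
      Cfsg.sqNorm (x : Cfsg.GolayPt → ℤ) = 32 ∧
        Cfsg.dotInt (v : Cfsg.GolayPt → ℤ) (x : Cfsg.GolayPt → ℤ) = 0 ∧
        Cfsg.dotInt (w : Cfsg.GolayPt → ℤ) (x : Cfsg.GolayPt → ℤ) = 16} := fun R hR => by
      obtain ⟨a, b, c⟩ := hR
      have e1 : Cfsg.dotInt (v : Cfsg.GolayPt → ℤ) ((g * k)⁻¹ • R : ↥Cfsg.leechLattice) = 0 := by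
        rw [← co0_dot (g * k), smul_inv_smul, q2]; exact c
      have e2 : Cfsg.dotInt ((v + w : ↥Cfsg.leechLattice) : Cfsg.GolayPt → ℤ)
          ((g * k)⁻¹ • R : ↥Cfsg.leechLattice) = 16 := by
        rw [← co0_dot (g * k), smul_inv_smul, q1]; exact b
      rw [AddSubgroup.coe_add, dotInt_add_left, e1] at e2
      exact ⟨(co0_sq _ R).trans a, e1, by omega⟩
    obtain ⟨nA, nB, nC⟩ := mc_suborbits
    obtain ⟨rA, rB, rC⟩ := mc_roots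
    exact ⟨_, hmem _ rA.1, _, hmem _ rB.1, _, hmem _ rC.1, by rw [ncard_orbit_conj (g * k) hK]; exact nA,
      by rw [ncard_orbit_conj (g * k) hK]; exact nB, by rw [ncard_orbit_conj (g * k) hK]; exact nC⟩

end Cfsg.Agent.S1634
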