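import Cfsg.Statements.S1638
import Cfsg.Agent.Lib.Golay.OrbitClass
import Cfsg.Agent.Lib.Golay.OrbitOctad
import Cfsg.Agent.Lib.Golay.OrbitE
import Cfsg.Agent.Lib.Golay.OrbitC
import Cfsg.Agent.Lib.Golay.OrbitD
import Cfsg.Agent.Lib.Golay.OrbitD0
import Cfsg.Agent.Lib.Golay.OrbitF
import Cfsg.Agent.Lib.Golay.OrbitG
import Cfsg.Agent.Lib.Golay.OrbitH
import Cfsg.Agent.Lib.Golay.OrbitI
import Cfsg.Agent.Lib.Golay.OrbitJ

set_option autoImplicit false
open scoped Pointwise
open Cfsg CfsgLib.Golay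
open scoped Pointwise

namespace Cfsg.Agent.S1638

/-- Fix two points p ≠ q and a pair s of two further points. Among the pairs avoiding p, q and disjoint from s, exactly 30 lie in an octad together with p, q and s and exactly 160 do not; and any two pairs other than s that meet s in equally many points and agree on that octad property are carried to one another by an element of the group of the length-24 code fixing p, q and s. -/
theorem result (p q : Cfsg.GolayPt) (hpq : p ≠ q) (s : Finset Cfsg.GolayPt) (hs : (s.card = 2 ∧ p ∉ s ∧ q ∉ s)) : {t : Finset Cfsg.GolayPt | (t.card = 2 ∧ p ∉ t ∧ q ∉ t) ∧ Disjoint s t ∧ (∃ o ∈ Cfsg.octads, p ∈ o ∧ q ∈ o ∧ s ∪ t ⊆ o)}.ncard = 30 ∧ {t : Finset Cfsg.GolayPt | (t.card = 2 ∧ p ∉ t ∧ q ∉ t) ∧ Disjoint s t ∧ ¬ (∃ o ∈ Cfsg.octads, p ∈ o ∧ q ∈ o ∧ s ∪ t ⊆ o)}.ncard = 160 ∧ ∀ t t' : Finset Cfsg.GolayPt, (t.card = 2 ∧ p ∉ t ∧ q ∉ t) → (t'.card = 2 ∧ p ∉ t' ∧ q ∉ t') → t ≠ s → t' ≠ s → (s ∩ t).card = (s ∩ t').card → ((∃ o ∈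 Cfsg.octads, p ∈ o ∧ q ∈ o ∧ s ∪ t ⊆ o) ↔ (∃ o ∈ Cfsg.octads, p ∈ o ∧ q ∈ o ∧ s ∪ t' ⊆ o)) → ∃ g : Equiv.Perm Cfsg.GolayPt, g ∈ Cfsg.M24 ∧ g p = p ∧ g q = q ∧ g • s = s ∧ g • t = t' := by
  obtain ⟨hs2, hps, hqs⟩ := hs
  obtain ⟨c₀, hp₀, hq₀⟩ := M24_two hpq (show pt 23 ≠ pt 0 by decide +kernel)
  -- move `s` to the standard pair
  have hsub : ∀ t : Finset Cfsg.GolayPt, t.card = 2 → p ∉ t → q ∉ t →
      SetClass 2 [(23, false), (0, false)] 1 0 0 none (c₀ • t) := by
    intro t ht hpt hqt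
    refine ⟨by rw [Finset.card_smul_finset, ht], by simp [Marks, smul_mem_iff_pt c₀ hp₀, smul_mem_iff_pt c₀ hq₀, hpt, hqt], ?_, by simp⟩
    rw [show mset 1 = {pt 0} from mset_two_pow (i := 0) (by norm_num), Finset.card_eq_zero,
      ← Finset.disjoint_iff_inter_eq_empty, Finset.disjoint_singleton_left, smul_mem_iff_pt c₀ hq₀]
    exact hqt
  have hstd : SetClass 2 [(23, false), (0, false)] 1 0 0 none (mset 12) :=
    (setClass_iff (by simp) (by norm_num) (by norm_num)).2 (by decide +kernel)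
  obtain ⟨τ, hτ⟩ : ∃ σ : fixMasks [1, 8388608], σ • (c₀ • s) = mset 12 :=
    set_class_trans 12 (N := 231) (by simp) (by decide +kernel) (by norm_num)
      (fun σ => by rw [mset_zero]; simp) (by decide +kernel) (by decide +kernel) card_fix22
      card_orbG_base rfl (hsub s hs2 hps hqs) hstd
  set c := toM24 τ * c₀ with hcdef
  have hcp : c • p = pt 23 := by
    rw [hcdef, mul_smul, hp₀]; exact fix_smul_pt (by norm_num : 23 < 24) (by decide) τ
  have hcq : c • q = pt 0 := by
    rw [hcdef, mul_smul, hq₀]; exact fix_smul_pt (by norm_num : 0 < 24) (by decide) τ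
  have hc : c • s = mset 12 := by rw [hcdef, mul_smul, toM24_smul]; exact hτ
  have hu : mset 8388621 = insert (pt 23) (insert (pt 0) (mset 12)) := by decide +kernel
  have hoct : ∀ t : Finset Cfsg.GolayPt, InOctad 8388621 (c • t) ↔
      ∃ o ∈ Cfsg.octads, p ∈ o ∧ q ∈ o ∧ s ∪ t ⊆ o := by
    intro t
    have e : c • (insert p (insert q (s ∪ t))) = mset 8388621 ∪ c • t := by
      rw [hu, Finset.smul_finset_insert, Finset.smul_finset_insert, Finset.smul_finset_union, hcp,
        hcq, hc, Finset.insert_union, Finset.insert_union]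
    have key : ∀ o, o ∈ Cfsg.octads → (mset 8388621 ∪ c • t ⊆ c • o ↔
        p ∈ o ∧ q ∈ o ∧ s ∪ t ⊆ o) := fun o _ => by
      rw [← e, Finset.smul_finset_subset_smul_finset_iff, Finset.insert_subset_iff,
        Finset.insert_subset_iff]
    constructor
    · rintro ⟨o, ho, hs'⟩
      have ho' : c⁻¹ • o ∈ Cfsg.octads := M24_smul_octad (c⁻¹).2 ho
      exact ⟨c⁻¹ • o, ho', (key _ ho').1 (by rw [smul_inv_smul]; exact hs')⟩
    · rintro ⟨o, ho, h⟩
      exact ⟨c • o, M24_smul_octad c.2 ho, (key o ho).2 h⟩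
  have hfix : ∀ σ : fixMasks [12, 1, 8388608], σ • mset 8388621 = mset 8388621 := by
    intro σ
    have h12 : σ • mset 12 = mset 12 := σ.2.2 _ (by simp)
    rw [hu, Finset.smul_finset_insert, Finset.smul_finset_insert, h12]
    congr 1
    · exact fix_smul_pt (by norm_num) (by decide) σ
    · congr 1; exact fix_smul_pt (by norm_num) (by decide) σ
  have hmk : ∀ (k : ℕ) (b : Option Bool) (t : Finset Cfsg.GolayPt),
      SetClass 2 [(23, false), (0, false)] 12 k 8388621 b (c • t) ↔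
      (t.card = 2 ∧ p ∉ t ∧ q ∉ t) ∧ (s ∩ t).card = k ∧
        ∀ v, b = some v → ((∃ o ∈ Cfsg.octads, p ∈ o ∧ q ∈ o ∧ s ∪ t ⊆ o) ↔ v = true) := by
    intro k b t
    simp only [SetClass, Finset.card_smul_finset, ← hc, smul_inter_card, hoct]
    simp [Marks, smul_mem_iff_pt c hcp, smul_mem_iff_pt c hcq]
    tauto
  refine ⟨?_, ?_, fun t t' ht ht' hts hts' hcard h => ?_⟩
  · refine (ncard_transport c (T := {u | SetClass 2 [(23, false), (0, false)] 12 0 8388621 (some true) u})
      fun t => ?_).trans ((setClass_ncard (by simp) (by norm_num)).trans (by decide +kernel))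
    exact (hmk 0 _ t).trans (by simp [Finset.disjoint_iff_inter_eq_empty])
  · refine (ncard_transport c (T := {u | SetClass 2 [(23, false), (0, false)] 12 0 8388621 (some false) u})
      fun t => ?_).trans ((setClass_ncard (by simp) (by norm_num)).trans (by decide +kernel))
    exact (hmk 0 _ t).trans (by simp [Finset.disjoint_iff_inter_eq_empty])
  obtain ⟨σ, hσ⟩ : ∃ σ : fixMasks [12, 1, 8388608], σ • (c • t) = c • t' := by
    have hle : (s ∩ t).card ≤ 1 := by
      by_contra hgt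
      have h2 : (s ∩ t).card ≤ 2 := hs2 ▸ Finset.card_le_card Finset.inter_subset_left
      have e1 : s ∩ t = s := Finset.eq_of_subset_of_card_le Finset.inter_subset_left (by omega)
      exact hts (Finset.eq_of_subset_of_card_le (Finset.inter_eq_left.1 e1) (by rw [hs2, ht.1])).symm
    by_cases h1 : (s ∩ t).card = 1
    · exact set_class_trans (n := 2) (A := 12) (k := 1) (T := 8388621) (flag := none) 6 (N := 40)
        (by simp) (by decide +kernel) (by norm_num) hfix (by decide +kernel) (by decide +kernel)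
        card_orbG_base card_orbG_2 rfl ((hmk 1 none t).2 ⟨ht, h1, by simp⟩)
        ((hmk 1 none t').2 ⟨ht', hcard ▸ h1, by simp⟩)
    · have h0 : (s ∩ t).card = 0 := by omega
      by_cases q' : ∃ o ∈ Cfsg.octads, p ∈ o ∧ q ∈ o ∧ s ∪ t ⊆ o
      · exact set_class_trans 34 (N := 30) (by simp) (by decide +kernel) (by norm_num) hfix
          (by decide +kernel) (by decide +kernel) card_orbG_base card_orbG_1 rfl
          ((hmk 0 (some true) t).2 ⟨ht, h0, by simpa using q'⟩)
          ((hmk 0 (some true) t').2 ⟨ht', hcard ▸ h0, by simpa using h.1 q'⟩)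
      · exact set_class_trans 18 (N := 160) (by simp) (by decide +kernel) (by norm_num) hfix
          (by decide +kernel) (by decide +kernel) card_orbG_base card_orbG_0 rfl
          ((hmk 0 (some false) t).2 ⟨ht, h0, by simpa using q'⟩)
          ((hmk 0 (some false) t').2 ⟨ht', hcard ▸ h0, by simpa using fun e => q' (h.2 e)⟩)
  exact ⟨_, (c⁻¹ * toM24 σ * c).2, M24_pt_fix (by norm_num : 23 < 24) (by decide) σ hcp,
    M24_pt_fix (by norm_num : 0 < 24) (by decide) σ hcq,
    M24_set_fix (m := 12) (by simp) σ hc, M24_moved σ hσ⟩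

end Cfsg.Agent.S1638
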