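import Cfsg.Statements.S1639
import Cfsg.Agent.Lib.Golay.OrbitClass
import Cfsg.Agent.Lib.Golay.OrbitOctad
import Cfsg.Agent.Lib.Golay.OrbitE
import Cfsg.Agent.Lib.Golay.OrbitC
import Cfsg.Agent.Lib.Golay.OrbitD
import Cfsg.Agent.Lib.Golay.OrbitD0
import Cfsg.Agent.Lib.Golay.OrbitF
import Cfsg.Agent.Lib.Golay.OrbitG
import Cfsg.Agent.Lib.Golay.OrbitH
import Cfsg.Agent.Lib.Golay.OrbitI
import Cfsg.Agent.Lib.Golay.OrbitJ

set_option autoImplicit false
open scoped Pointwise
open Cfsg CfsgLib.Golay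
open scoped Pointwise

namespace Cfsg.Agent.S1639

/-- The point stabiliser acts on the 1288 dodecads through the point with rank 4 and subdegrees 1, 165, 330, 792, distinguished by intersection 4, 8, 6 with the fixed dodecad. -/
theorem result (x : Cfsg.GolayPt) (d : Finset Cfsg.GolayPt) (hd : d ∈ Cfsg.dodecads) (hx : x ∈ d) : {d' : Finset Cfsg.GolayPt | d' ∈ Cfsg.dodecads ∧ x ∈ d' ∧ (d ∩ d').card = 4}.ncard = 165 ∧ {d' : Finset Cfsg.GolayPt | d' ∈ Cfsg.dodecads ∧ x ∈ d' ∧ (d ∩ d').card = 8}.ncard = 330 ∧ {d' : Finset Cfsg.GolayPt | d' ∈ Cfsg.dodecads ∧ x ∈ d' ∧ (d ∩ d').card = 6}.ncard = 792 ∧ ∀ d' d'' : Finset Cfsg.GolayPt, d' ∈ Cfsg.dodecads → d'' ∈ Cfsg.dodecads → x ∈ d' → x ∈ d'' → (d ∩ d').card = (d ∩ d'').card → ∃ g : Equiv.Perm Cfsg.GolayPt, g ∈ Cfsg.M24 ∧ g x = x ∧ g • d = d ∧ g • d' = d'' := by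
  obtain ⟨c, hc, hcx⟩ := dodecad_point_std hd hx
  have hmk : ∀ (k : ℕ) (s : Finset Cfsg.GolayPt), WordClass 12 [(0, true)] sqMask k (c • s) ↔
      s ∈ Cfsg.dodecads ∧ x ∈ s ∧ (d ∩ s).card = k := by
    intro k s
    unfold WordClass
    rw [← hc, smul_inter_card]
    exact and_congr (smul_mem_dodecads_iff c) (and_congr_left fun _ => by simp [Marks, smul_mem_iff_pt c hcx])
  have hcount : ∀ k, {d' : Finset Cfsg.GolayPt | d' ∈ Cfsg.dodecads ∧ x ∈ d' ∧ (d ∩ d').card = k}.ncard =
      (codeList.filter (wordClassB 12 [(0, true)] sqMask k)).length := fun k =>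
    (ncard_transport c fun s => hmk k s).trans (wordClass_ncard (by simp))
  refine ⟨by rw [hcount]; decide +kernel, by rw [hcount]; decide +kernel,
    by rw [hcount]; decide +kernel, ?_⟩
  intro o' o'' ho' ho'' hx' hx'' h
  have y := (hmk _ o').2 ⟨ho', hx', rfl⟩
  have z := (hmk _ o'').2 ⟨ho'', hx'', h.symm⟩
  obtain ⟨σ, hσ⟩ : ∃ σ : fixMasks [sqMask, 1], σ • (c • o') = c • o'' := by
    rcases dodecads_inter_cases hd ho' with hk | hk | hk | hk | hk <;> rw [hk] at y z
    · exact absurd (Finset.card_eq_zero.1 hk)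
        (Finset.ne_empty_of_mem (Finset.mem_inter.2 ⟨hx, hx'⟩))
    · exact word_class_trans 1727659 (N := 165) (by decide +kernel) (by decide +kernel) (by decide +kernel)
        (by decide +kernel) card_orbH_base card_orbH_1 rfl y z
    · exact word_class_trans 195645 (N := 792) (by decide +kernel) (by decide +kernel) (by decide +kernel)
        (by decide +kernel) card_orbH_base card_orbH_2 rfl y z
    · exact word_class_trans 28637 (N := 330) (by decide +kernel) (by decide +kernel) (by decide +kernel)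
        (by decide +kernel) card_orbH_base card_orbH_3 rfl y z
    · exact word_class_trans 340831 (N := 1) (by decide +kernel) (by decide +kernel) (by decide +kernel)
        (by decide +kernel) card_orbH_base card_orbH_0 rfl y z
  exact ⟨_, (c⁻¹ * toM24 σ * c).2, M24_pt_fix (by norm_num : 0 < 24) (by decide) σ hcx,
    M24_set_fix (m := sqMask) (by simp) σ hc, M24_moved σ hσ⟩

end Cfsg.Agent.S1639
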