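import Cfsg.Statements.S1641
import Cfsg.Agent.Lib.Golay.Suborbits

set_option autoImplicit false
open Cfsg

namespace Cfsg.Agent.S1641

/-- The third Conway group acts on the 11178 cosets of the Higman–Sims group with rank 5 and subdegrees 1, 352, 1100, 4125, 5600. -/
theorem result (u x : ↥Cfsg.leechLattice) (hu : Cfsg.sqNorm (u : Cfsg.GolayPt → ℤ) = 48) (hx : x ∈ {x : ↥Cfsg.leechLattice | Cfsg.sqNorm (x : Cfsg.GolayPt → ℤ) = 32 ∧ Cfsg.dotInt (u : Cfsg.GolayPt → ℤ) (x : Cfsg.GolayPt → ℤ) = -16}) : ∃ y₁ ∈ {x : ↥Cfsg.leechLattice | Cfsg.sqNorm (x : Cfsg.GolayPt → ℤ) = 32 ∧ Cfsg.dotInt (u : Cfsg.GolayPt → ℤ) (x : Cfsg.GolayPt → ℤ) = -16}, ∃ y₂ ∈ {x : ↥Cfsg.leechLattice | Cfsg.sqNorm (x : Cfsg.GolayPt → ℤ) = 32 ∧ Cfsg.dotInt (u : Cfsg.GolayPt → ℤ) (x : Cfsg.GolayPt → ℤ) = -16}, ∃ y₃ ∈ {x : ↥Cfsg.leechLattice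 | Cfsg.sqNorm (x : Cfsg.GolayPt → ℤ) = 32 ∧ Cfsg.dotInt (u : Cfsg.GolayPt → ℤ) (x : Cfsg.GolayPt → ℤ) = -16}, ∃ y₄ ∈ {x : ↥Cfsg.leechLattice | Cfsg.sqNorm (x : Cfsg.GolayPt → ℤ) = 32 ∧ Cfsg.dotInt (u : Cfsg.GolayPt → ℤ) (x : Cfsg.GolayPt → ℤ) = -16}, (MulAction.orbit ↥(MulAction.stabilizer ↥Cfsg.Co0 u ⊓ MulAction.stabilizer ↥Cfsg.Co0 x) y₁).ncard = 352 ∧ (MulAction.orbit ↥(MulAction.stabilizer ↥Cfsg.Co0 u ⊓ MulAction.stabilizer ↥Cfsg.Co0 x) y₂).ncard = 1100 ∧ (MulAction.orbit ↥(MulAction.stabilizer ↥Cfsg.Co0 u ⊓ MulAction.stabilizer ↥Cfsg.Co0 x) y₃).ncard = 4125 ∧ (MulAction.orbit ↥(MulAction.stabilizer ↥Cfsg.Co0 u ⊓ MulAction.stabilizer ↥Cfsg.Co0 x) y₄).ncard = 5600 ∧ {x : ↥Cfsg.leechLattice | Cfsg.sqNorm (x : Cfsg.GolayPt → ℤ) = 32 ∧ Cfsg.dotInt (u : Cfsg.GolayPt → ℤ) (x : Cfsg.GolayPt → ℤ) =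 -16} = {x} ∪ MulAction.orbit ↥(MulAction.stabilizer ↥Cfsg.Co0 u ⊓ MulAction.stabilizer ↥Cfsg.Co0 x) y₁ ∪ MulAction.orbit ↥(MulAction.stabilizer ↥Cfsg.Co0 u ⊓ MulAction.stabilizer ↥Cfsg.Co0 x) y₂ ∪ MulAction.orbit ↥(MulAction.stabilizer ↥Cfsg.Co0 u ⊓ MulAction.stabilizer ↥Cfsg.Co0 x) y₃ ∪ MulAction.orbit ↥(MulAction.stabilizer ↥Cfsg.Co0 u ⊓ MulAction.stabilizer ↥Cfsg.Co0 x) y₄ := by
  open CfsgLib.Golay CfsgLib.Golay.OrbitTree in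
  obtain ⟨g, g1, g2⟩ := normal_eleven hu hx.1 hx.2
  have hK : ∀ k, k ∈ (MulAction.stabilizer ↥Cfsg.Co0 u ⊓ MulAction.stabilizer ↥Cfsg.Co0 x) ↔
      g * k * g⁻¹ ∈ coH := fun k => by
    rw [Subgroup.mem_inf, MulAction.mem_stabilizer_iff, MulAction.mem_stabilizer_iff, mem_coH]
    simp only [mul_smul, ← g1, ← g2, inv_smul_smul, smul_left_cancel_iff]
  have hpre : ∀ y : Cfsg.leechLattice, y ∈ coS → g⁻¹ • y ∈ {x : ↥Cfsg.leechLattice |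
      Cfsg.sqNorm (x : Cfsg.GolayPt → ℤ) = 32 ∧
        Cfsg.dotInt (u : Cfsg.GolayPt → ℤ) (x : Cfsg.GolayPt → ℤ) = -16} := fun y hy =>
    ⟨(co0_sq g⁻¹ y).trans hy.1, by rw [← co0_dot g, smul_inv_smul, g1]; exact hy.2⟩
  obtain ⟨nA, nB, nC, nD, hU⟩ := co_suborbits
  have hr := co_roots
  refine ⟨g⁻¹ • coARootV, hpre _ ⟨hr.1.1, hr.1.2.1⟩, g⁻¹ • coBRootV, hpre _ ⟨hr.2.1.1, hr.2.1.2.1⟩,
    g⁻¹ • coCRootV, hpre _ ⟨hr.2.2.1.1, hr.2.2.1.2.1⟩, g⁻¹ • coDRootV, hpre _ ⟨hr.2.2.2.1, hr.2.2.2.2.1⟩,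
    ?_, ?_, ?_, ?_, ?_⟩
  · rw [ncard_orbit_conj g hK]; exact nA
  · rw [ncard_orbit_conj g hK]; exact nB
  · rw [ncard_orbit_conj g hK]; exact nC
  · rw [ncard_orbit_conj g hK]; exact nD
  · rw [orbit_conj g hK, orbit_conj g hK, orbit_conj g hK, orbit_conj g hK,
      show x = g⁻¹ • xhs by rw [← g2, inv_smul_smul],
      ← Set.image_singleton (f := fun y : Cfsg.leechLattice => g⁻¹ • y), ← Set.image_union,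
      ← Set.image_union, ← Set.image_union, ← Set.image_union, ← hU]
    refine Set.ext fun y => ⟨fun hy => ⟨g • y, ⟨(co0_sq g y).trans hy.1, ?_⟩, inv_smul_smul g y⟩, ?_⟩
    · rw [← g1, co0_dot]; exact hy.2
    · rintro ⟨z, hz, rfl⟩; exact hpre z hz

end Cfsg.Agent.S1641
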