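import Cfsg.Statements.S1644
import Cfsg.Agent.Lib.Invol.JankoOneUniq

set_option autoImplicit false
open Cfsg
open scoped Pointwise

namespace Cfsg.Agent.S1644

/-- The first Janko group recognised by an involution centraliser, at the level of isomorphism: a finite simple group with abelian Sylow 2-subgroups of order 8 and an involution whose centraliser is isomorphic to Z/2 × A₅ is isomorphic to the subgroup of GL(7, 11) generated by the two explicit Janko matrices. -/
theorem result {G : Type*} [Group G] [Finite G] [IsSimpleGroup G] (S : Sylow 2 G) (hS : IsMulCommutative (S : Subgroup G)) (h8 : Nat.card S = 8) (t : G) (ht : orderOf t = 2) (e : (Subgroup.centralizer ({t} : Set G)) ≃* Multiplicative (ZMod 2) × alternatingGroup (Fin 5)) : Cfsg.Spor.IsoJ1 G := by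
  have : Fact (Nat.Prime 2) := ⟨Nat.prime_two⟩
  obtain ⟨a, ha⟩ := CfsgLib.Invol.exists_conj_invol_mem_sylow S ht
  refine CfsgLib.Invol.J1Cent.isoJ1 t ⟨ht, (MulAut.conj a⁻¹ • S : Sylow 2 G), ?_, fun x hx => ?_⟩ e
  · show t ∈ (MulAut.conj a⁻¹ • S : Sylow 2 G).toSubgroup
    rw [Sylow.pointwise_smul_def, Subgroup.mem_pointwise_smul_iff_inv_smul_mem]
    simp [MulAut.smul_def]
    exact ha
  · have hx' : x ∈ (MulAut.conj a⁻¹ • S : Sylow 2 G).toSubgroup := hx
    rw [Sylow.pointwise_smul_def, Subgroup.mem_pointwise_smul_iff_inv_smul_mem] at hx'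
    have hx'' : a * x * a⁻¹ ∈ (S : Subgroup G) := by simpa [MulAut.smul_def] using hx'
    have h := congrArg Subtype.val (hS.is_comm.comm ⟨_, hx''⟩ ⟨_, ha⟩)
    simp only [Subgroup.coe_mul] at h
    calc x * t = a⁻¹ * ((a * x * a⁻¹) * (a * t * a⁻¹)) * a := by group
      _ = a⁻¹ * ((a * t * a⁻¹) * (a * x * a⁻¹)) * a := by rw [h]
      _ = t * x := by group

end Cfsg.Agent.S1644
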