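import Cfsg.Statements.S1645
import Cfsg.Agent.Lib.Invol.BrauerSuzuki
import Cfsg.Agent.Lib.Recog.DoubleAlt.Small
import Cfsg.Agent.Lib.Recog.DoubleAlt.NineFacts
import Cfsg.Agent.Lib.Recog.DoubleAlt.TenMain
import Cfsg.Agent.Lib.Recog.DoubleAlt.TwelveMain
import Cfsg.Agent.Lib.Recog.DoubleAlt.LargeMain

set_option autoImplicit false
open Cfsg

namespace Cfsg.Agent.S1645

/-- If some involution of a finite simple group has centraliser a non-split double cover of the alternating group of degree n ≥ 5, then n is 8 or 11 (the McLaughlin and Lyons cases). -/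
theorem result {G : Type*} [Group G] [Finite G] [IsSimpleGroup G] (n : ℕ) (hn : 5 ≤ n) (z : G) (hz : orderOf z = 2) (hcov : Cfsg.IsNonsplitDoubleCover (Subgroup.centralizer ({z} : Set G)) (alternatingGroup (Fin n))) : n = 8 ∨ n = 11 := by
  obtain ⟨hc, ⟨q⟩, hs⟩ := id hcov
  have hfus : ∃ g : G, g * z * g⁻¹ * z = z * (g * z * g⁻¹) ∧ g * z * g⁻¹ ≠ z := by
    by_contra hno
    have hiso : Cfsg.IsIsolatedInvolution z :=
      ⟨hz, fun g hg => by_contra fun h => hno ⟨g, hg.symm.eq, h⟩⟩
    haveI : (Cfsg.oddCore G).Normal := inferInstance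
    rcases (inferInstance : (Cfsg.oddCore G).Normal).eq_bot_or_eq_top with hO | hO
    · have hcen : ∀ g : G, z * g = g * z := fun g => by
        have h := CfsgLib.Invol.zstar G hiso g
        rw [hO, Subgroup.mem_bot] at h
        calc z * g = z * g * z⁻¹ * g⁻¹ * (g * z) := by group
          _ = g * z := by rw [h, one_mul]
      rcases (inferInstance : (Subgroup.center G).Normal).eq_bot_or_eq_top with hZ | hZ
      · have hm : z ∈ Subgroup.center G := Subgroup.mem_center_iff.2 fun g => (hcen g).symm
        rw [hZ, Subgroup.mem_bot] at hm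
        rw [hm, orderOf_one] at hz
        omega
      · have htop : Subgroup.center (Subgroup.centralizer ({z} : Set G)) = ⊤ := by
          refine eq_top_iff.2 fun x _ => Subgroup.mem_center_iff.2 fun y => Subtype.ext ?_
          have hx : (x : G) ∈ Subgroup.center G := by rw [hZ]; exact Subgroup.mem_top _
          exact Subgroup.mem_center_iff.1 hx y
        have h1 := Nat.card_congr q.toEquiv
        rw [← Subgroup.index_eq_card, htop, Subgroup.index_top] at h1
        haveI : Nontrivial (Fin n) := Fin.nontrivial_iff_two_le.2 (by omega)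
        rw [nat_card_alternatingGroup, Nat.card_fin] at h1
        have h6 : Nat.factorial 4 ≤ Nat.factorial n := Nat.factorial_le (by omega)
        have h4 : Nat.factorial 4 = 24 := rfl
        omega
    · have hodd := CfsgLib.Invol.odd_card_oddCore (G := G)
      rw [hO, Subgroup.card_top] at hodd
      have h2 : (2 : ℕ) ∣ Nat.card G := hz ▸ orderOf_dvd_natCard z
      exact Nat.not_even_iff_odd.2 hodd (even_iff_two_dvd.2 h2)
  obtain ⟨S, -⟩ := CfsgLib.Recog.DoubleAlt.exists_setup n z hz hcov hfus
  by_cases h7 : n ≤ 7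
  · exact (CfsgLib.Recog.DoubleAlt.false_small S h7).elim
  by_cases h9 : n = 9
  · subst h9; exact (CfsgLib.Recog.DoubleAlt.false_nine S).elim
  by_cases h10 : n = 10
  · subst h10; exact (CfsgLib.Recog.DoubleAlt.false_ten S).elim
  by_cases h12 : n = 12
  · subst h12; exact (CfsgLib.Recog.DoubleAlt.false_twelve S).elim
  by_cases h13 : 13 ≤ n
  · exact (CfsgLib.Recog.DoubleAlt.false_large S h13).elim
  omega

end Cfsg.Agent.S1645
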