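import Cfsg.Statements.S1665
import Cfsg.Agent.Lib.InvChar.HallJankoRecognition
import Cfsg.Agent.Lib.InvChar.HallJankoSetup
import Cfsg.Agent.Lib.InvChar.HallJankoFusion

set_option autoImplicit false
open Cfsg

namespace Cfsg.Agent.S1665

/-- Uniqueness of the Hall–Janko group at the level of isomorphism: a finite simple group with exactly two conjugacy classes of involutions, having an involution t whose centraliser C has a normal extraspecial subgroup Q of order 32 with no elementary abelian subgroup of order 8 whose centraliser in C lies in Q, and with C / Q isomorphic to the alternating group of degree 5, is isomorphic to the Hall–Janko group J₂ (the reflection group of the icosian Leech lattice modulo its centre). -/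
theorem result {G : Type*} [Group G] [Finite G] [IsSimpleGroup G] (t : G) (ht : orderOf t = 2) (Q : Subgroup (Subgroup.centralizer ({t} : Set G))) [Q.Normal] (hQ : Cfsg.IsExtraspecial 2 Q) (hcard : Nat.card Q = 32) (hminus : ∀ E : Subgroup Q, Cfsg.IsElementaryAbelian 2 E → Nat.card E ≤ 2 ^ 2) (h2c : Subgroup.centralizer (Q : Set (Subgroup.centralizer ({t} : Set G))) ≤ Q) (e : (Subgroup.centralizer ({t} : Set G)) ⧸ Q ≃* alternatingGroup (Fin 5)) (htwo : ∃ x y : G, orderOf x = 2 ∧ orderOf y = 2 ∧ ¬ IsConj x y ∧ ∀ z : G, orderOf z = 2 → IsConj z x ∨ IsConj z y) : Cfsg.Spor.IsoJ2 G := by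
  open CfsgLib.InvChar.HJType Subgroup in
  have hP : Pre t (Q.map (centralizer ({t} : Set G)).subtype) := by
    have htH : t ∈ centralizer ({t} : Set G) := mem_centralizer_singleton_iff.2 rfl
    have htQ : (⟨t, htH⟩ : ↥(centralizer ({t} : Set G))) ∈ Q :=
      h2c (mem_centralizer_iff.2 fun q _ => Subtype.ext (mem_centralizer_singleton_iff.1 q.2))
    let eQ := Q.equivMapOfInjective (centralizer ({t} : Set G)).subtype
      (centralizer ({t} : Set G)).subtype_injective
    refine
      { hz := ht
        hQH := map_subtype_le _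
        hnorm := ?_
        hzQ := ⟨_, htQ, rfl⟩
        hes := extraspecial_of_equiv eQ hQ
        hQc := by rw [← Nat.card_congr eQ.toEquiv, hcard]
        hC := ?_
        hquot := ⟨e.toMonoidHom.comp (QuotientGroup.mk' Q),
          e.surjective.comp (QuotientGroup.mk'_surjective Q), ?_⟩ }
    · rintro h hh _ ⟨q, hq, rfl⟩
      exact ⟨⟨h, hh⟩ * q * ⟨h, hh⟩⁻¹, Normal.conj_mem inferInstance q hq _, rfl⟩
    · intro c hc
      have hcH : c ∈ centralizer ({t} : Set G) := mem_centralizer_singleton_iff.2
        (mem_centralizer_iff.1 hc t ⟨_, htQ, rfl⟩).symm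
      exact ⟨⟨c, hcH⟩, h2c (mem_centralizer_iff.2 fun q hq =>
        Subtype.ext (mem_centralizer_iff.1 hc _ ⟨q, hq, rfl⟩)), rfl⟩
    · ext h
      rw [mem_subgroupOf, MonoidHom.mem_ker]
      show e (QuotientGroup.mk' Q h) = 1 ↔ _
      rw [map_eq_one_iff _ e.injective, QuotientGroup.mk'_apply, QuotientGroup.eq_one_iff]
      exact (mem_map_iff_mem (centralizer ({t} : Set G)).subtype_injective).symm
  have S : CfsgLib.InvChar.HJType.Data t _ :=
    { toPre := hP
      hfus := hP.fus_of_simple htwo
      hcl := by
        obtain ⟨x, y, hx, hy, hxy, -⟩ := htwo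
        exact ⟨x, y, hx, hy, hxy⟩ }
  exact S.iso_J2

end Cfsg.Agent.S1665
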