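import Cfsg.Statements.S1666
import Cfsg.Agent.Lib.MaxSub.RankThreeHS
import Cfsg.Agent.S2072
import Cfsg.Agent.Lib.Golay.Mathieu
-- import your own Cfsg.Agent.* helpers here

set_option autoImplicit false
open Cfsg

namespace Cfsg.Agent.S1666

/-- Recognition of the Higman–Sims group as a rank 3 permutation group: a transitive permutation group on 100 points in which the stabiliser of a point is isomorphic to the Mathieu group M₂₂ and has two further orbits, of sizes 22 and 77, is isomorphic to the Higman–Sims group. -/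
theorem result {Ω : Type*} [Fintype Ω] [DecidableEq Ω] (hΩ : Fintype.card Ω = 100) (G : Subgroup (Equiv.Perm Ω)) [MulAction.IsPretransitive G Ω] (a : Ω)  (e : MulAction.stabilizer G a ≃* Cfsg.Spor.M22) (b c : Ω) (hb : (MulAction.orbit (MulAction.stabilizer G a) b).ncard = 22) (hc : (MulAction.orbit (MulAction.stabilizer G a) c).ncard = 77) : Cfsg.Spor.IsoHS G := by
  obtain ⟨f⟩ := CfsgLib.MaxSub.iso_hsGroup hΩ G a
    (by rw [Nat.card_congr e.toEquiv, CfsgLib.Golay.card_sporM22]) b c hb hc
  exact ⟨f.trans Cfsg.Agent.S2072.hsEquiv⟩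

end Cfsg.Agent.S1666
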