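import Cfsg.Statements.S1678
import Cfsg.Agent.Lib.Recog.Co3Inv.Assemble
import Cfsg.Agent.Lib.Recog.Co3Inv.Cover
import Cfsg.Agent.Lib.Recog.Co3Inv.G3mCard
import Cfsg.Agent.Lib.Recog.Co3Inv.Official
import Cfsg.Agent.Lib.Recog.Co3Inv.Local
import Cfsg.Agent.Lib.Recog.Co3Inv.Embed
import Cfsg.Agent.Lib.Recog.Co3Inv.Extend
import Cfsg.Agent.Lib.Recog.Co3Inv.Top

set_option autoImplicit false
open Cfsg

namespace Cfsg.Agent.S1678

/-- The third Conway group from an involution centraliser: let G be a finite group with no non-trivial normal subgroup of odd order and trivial centre, having an involution t whose centraliser is a non-split double cover of the symplectic group Sp(6, 2). Then G is isomorphic to the third Conway group (the stabiliser in the Leech lattice automorphism group of a vector of the second shortest length). -/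
theorem result {G : Type*} [Group G] [Finite G] (hO : Cfsg.oddCore G = ⊥) (hZ : Subgroup.center G = ⊥) (t : G) (ht : orderOf t = 2) (hC : Cfsg.IsNonsplitDoubleCover (Subgroup.centralizer ({t} : Set G)) (Matrix.symplecticGroup (Fin 3) (ZMod 2))) : Cfsg.Spor.IsoCo3 G := by
  open CfsgLib.Recog.Co3Inv in
  exact iso_of_steps t ht hC (cover_stmt _) (model_of_card card_ge) (fun A _ => local_stmt hO hZ A)
    (fun A O => embed_stmt A O) (fun A O h => Amb.extend_stmt A O h) (fun A _ => top_stmt A card_cm)

end Cfsg.Agent.S1678
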