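import Cfsg.Statements.S1680
import Mathlib.Tactic
import Cfsg.Agent.Lib.InvChar.SporSuz
import Cfsg.Agent.Lib.InvChar.SporData.SuzA.Suborbits

set_option autoImplicit false
open Cfsg

namespace Cfsg.Agent.S1680

open CfsgLib.InvChar CfsgLib.InvChar.Coset CfsgLib.InvChar.SporSuz Cfsg.Spor

/-- In the presented sporadic Suzuki group, let H be the subgroup generated by the images of a, …, f. Then H has index 1782, H has orbits of sizes 416 and 1365 on the cosets of H other than H itself (with the index 1782 this makes the action rank 3). -/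
theorem result : (((Subgroup.closure ({Cfsg.Spor.Suz.a, Cfsg.Spor.Suz.b, Cfsg.Spor.Suz.c, Cfsg.Spor.Suz.d, Cfsg.Spor.Suz.e, Cfsg.Spor.Suz.f} : Set (FreeGroup Cfsg.Spor.Suz.Gen))).map (PresentedGroup.mk (Cfsg.Spor.coxRelators Cfsg.Spor.Suz.edges ∪ {r | r ∈ Cfsg.Spor.Suz.extra})))).index = 1782 ∧ ∃ q₁ q₂ : Cfsg.Spor.Suz ⧸ (((Subgroup.closure ({Cfsg.Spor.Suz.a, Cfsg.Spor.Suz.b, Cfsg.Spor.Suz.c, Cfsg.Spor.Suz.d, Cfsg.Spor.Suz.e, Cfsg.Spor.Suz.f} : Set (FreeGroup Cfsg.Spor.Suz.Gen))).map (PresentedGroup.mk (Cfsg.Spor.coxRelators Cfsg.Spor.Suz.edges ∪ {r | r ∈ Cfsg.Spor.Suz.extra})))), (MulAction.orbit (((Subgroup.closure ({Cfsg.Spor.Suz.a, Cfsg.Spor.Suz.b, Cfsg.Spor.Suz.c, Cfsg.Spor.Suz.d, Cfsg.Spor.Suz.e, Cfsg.Spor.Suz.f} : Set (FreeGroup Cfsg.Spor.Suz.Gen))).map (PresentedGroup.mk (Cfsg.Spor.coxRelators Cfsg.Spor.Suz.edges ∪ {r | r ∈ Cfsg.Spor.Suz.extra})))) q₁).ncard = 416 ∧ (MulAction.orbit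 (((Subgroup.closure ({Cfsg.Spor.Suz.a, Cfsg.Spor.Suz.b, Cfsg.Spor.Suz.c, Cfsg.Spor.Suz.d, Cfsg.Spor.Suz.e, Cfsg.Spor.Suz.f} : Set (FreeGroup Cfsg.Spor.Suz.Gen))).map (PresentedGroup.mk (Cfsg.Spor.coxRelators Cfsg.Spor.Suz.edges ∪ {r | r ∈ Cfsg.Spor.Suz.extra})))) q₂).ncard = 1365 := by
  have hH : (Subgroup.closure ({Cfsg.Spor.Suz.a, Cfsg.Spor.Suz.b, Cfsg.Spor.Suz.c, Cfsg.Spor.Suz.d, Cfsg.Spor.Suz.e, Cfsg.Spor.Suz.f} : Set (FreeGroup Cfsg.Spor.Suz.Gen))).map (PresentedGroup.mk (Cfsg.Spor.coxRelators Cfsg.Spor.Suz.edges ∪ {r | r ∈ Cfsg.Spor.Suz.extra})) = CfsgLib.InvChar.SporSuz.H := by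
    rw [pres.map_closure]
    rw [CfsgLib.InvChar.SporSuz.H, Coset.wordsClosure]
    refine congrArg Subgroup.closure ?_
    simp only [Set.image_insert_eq, Set.image_singleton]
    rw [show letters idx Suz.a = [0] by decide +kernel,
      show letters idx Suz.b = [1] by decide +kernel,
      show letters idx Suz.c = [2] by decide +kernel,
      show letters idx Suz.d = [3] by decide +kernel,
      show letters idx Suz.e = [4] by decide +kernel,
      show letters idx Suz.f = [5] by decide +kernel]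
    ext y
    simp [SuzA.subs, eq_comm]
  rw [hH]
  obtain ⟨hi, e, -, he⟩ := index_H
  have hS : ∀ L ∈ SuzA.subs, ∀ x ∈ L, x < SuzA.table.g := by decide +kernel
  refine ⟨hi, e ⟨47, by decide +kernel⟩, e ⟨1, by decide +kernel⟩, ?_, ?_⟩
  · exact (suborbit_of_cert SuzA.table rfl SuzA.valid SuzA.sq gen rep rep_gen e he hS _ rfl (by norm_num)
      SuzA.sub1_ok ⟨47, by decide +kernel⟩ SuzA.sub1_root.symm).1
  · exact (suborbit_of_cert SuzA.table rfl SuzA.valid SuzA.sq gen rep rep_gen e he hS _ rfl (by norm_num)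
      SuzA.sub0_ok ⟨1, by decide +kernel⟩ SuzA.sub0_root.symm).1

end Cfsg.Agent.S1680
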