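import Cfsg.Statements.S1681
import Mathlib.Tactic
import Cfsg.Agent.Lib.InvChar.SporSuz

set_option autoImplicit false
open Cfsg

namespace Cfsg.Agent.S1681

open CfsgLib.InvChar CfsgLib.InvChar.Coset CfsgLib.InvChar.SporSuz Cfsg.Spor

/-- In the presented sporadic Suzuki group (generators a, …, g), the subgroup generated by the images of a, b, c, d, f, g has index 22880. -/
theorem result : (((Subgroup.closure ({Cfsg.Spor.Suz.a, Cfsg.Spor.Suz.b, Cfsg.Spor.Suz.c, Cfsg.Spor.Suz.d, Cfsg.Spor.Suz.f, Cfsg.Spor.Suz.g} : Set (FreeGroup Cfsg.Spor.Suz.Gen))).map (PresentedGroup.mk (Cfsg.Spor.coxRelators Cfsg.Spor.Suz.edges ∪ {r | r ∈ Cfsg.Spor.Suz.extra})))).index = 22880 := by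
  have hH : (Subgroup.closure ({Cfsg.Spor.Suz.a, Cfsg.Spor.Suz.b, Cfsg.Spor.Suz.c, Cfsg.Spor.Suz.d, Cfsg.Spor.Suz.f, Cfsg.Spor.Suz.g} : Set (FreeGroup Cfsg.Spor.Suz.Gen))).map (PresentedGroup.mk (Cfsg.Spor.coxRelators Cfsg.Spor.Suz.edges ∪ {r | r ∈ Cfsg.Spor.Suz.extra})) = (Coset.lettersClosure gen SuzF.emb) := by
    rw [pres.map_closure]
    rw [Coset.lettersClosure]
    refine congrArg Subgroup.closure ?_
    simp only [Set.image_insert_eq, Set.image_singleton]
    rw [show letters idx Suz.a = [0] by decide +kernel,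
      show letters idx Suz.b = [1] by decide +kernel,
      show letters idx Suz.c = [2] by decide +kernel,
      show letters idx Suz.d = [3] by decide +kernel,
      show letters idx Suz.f = [5] by decide +kernel,
      show letters idx Suz.g = [6] by decide +kernel]
    have hset : Set.Iio SuzF.emb.length = {0, 1, 2, 3, 4, 5} := by
      ext i; simp [SuzF.emb]; omega
    rw [hset]
    simp [Set.image_insert_eq, subGen, SuzF.emb, wprod]
  rw [hH]
  exact index_abcdfg

end Cfsg.Agent.S1681
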