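import Cfsg.Statements.S1682
import Mathlib.Tactic
import Cfsg.Agent.Lib.InvChar.SporHeSp

set_option autoImplicit false
open Cfsg

namespace Cfsg.Agent.S1682

open CfsgLib.InvChar CfsgLib.InvChar.Coset CfsgLib.InvChar.SporHe Cfsg.Spor

/-- In the presented Held group, the subgroup H generated by the images of a, c, d, e, f, (ab)^2 and (bcde)^7 has a normal subgroup of index 2 isomorphic to the 4-dimensional symplectic group over a field with four elements. -/
theorem result : ∃ (N : Subgroup (((Subgroup.closure ({Cfsg.Spor.He.a, Cfsg.Spor.He.c, Cfsg.Spor.He.d, Cfsg.Spor.He.e, Cfsg.Spor.He.f, (Cfsg.Spor.He.a * Cfsg.Spor.He.b) ^ 2, (Cfsg.Spor.He.b * Cfsg.Spor.He.c * Cfsg.Spor.He.d * Cfsg.Spor.He.e) ^ 7} : Set (FreeGroup Cfsg.Spor.He.Gen))).map (PresentedGroup.mk (Cfsg.Spor.coxRelators Cfsg.Spor.He.edges ∪ {r | r ∈ Cfsg.Spor.He.extra}))))) (K : Type) (_ : Field K) (_ : Fintype K), N.Normal ∧ N.index = 2 ∧ Fintype.card K = 4 ∧ Nonempty (N ≃* Matrix.symplecticGroup (Fin 2)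 K) := by
  have hH : (Subgroup.closure ({Cfsg.Spor.He.a, Cfsg.Spor.He.c, Cfsg.Spor.He.d, Cfsg.Spor.He.e, Cfsg.Spor.He.f, (Cfsg.Spor.He.a * Cfsg.Spor.He.b) ^ 2, (Cfsg.Spor.He.b * Cfsg.Spor.He.c * Cfsg.Spor.He.d * Cfsg.Spor.He.e) ^ 7} : Set (FreeGroup Cfsg.Spor.He.Gen))).map (PresentedGroup.mk (Cfsg.Spor.coxRelators Cfsg.Spor.He.edges ∪ {r | r ∈ Cfsg.Spor.He.extra})) = CfsgLib.InvChar.SporHe.H := by
    rw [pres.map_closure, CfsgLib.InvChar.SporHe.H, Coset.wordsClosure]
    refine congrArg Subgroup.closure ?_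
    rw [← Set.image_image (g := wprod gen) (f := letters idx)]
    refine congrArg (fun t => wprod gen '' t) ?_
    rw [Set.image_insert_eq, Set.image_insert_eq, Set.image_insert_eq, Set.image_insert_eq, Set.image_insert_eq,
      Set.image_insert_eq, Set.image_singleton]
    rw [show letters idx He.a = [0] by decide +kernel, show letters idx He.c = [2] by decide +kernel,
      show letters idx He.d = [3] by decide +kernel, show letters idx He.e = [4] by decide +kernel,
      show letters idx He.f = [5] by decide +kernel,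
      show letters idx ((He.a * He.b) ^ 2) = [0, 1, 0, 1] by decide +kernel,
      show letters idx ((He.b * He.c * He.d * He.e) ^ 7) = (List.replicate 7 [1, 2, 3, 4]).flatten by decide +kernel]
    ext L
    simp [HeA.subs]
  rw [hH]
  exact ⟨CfsgLib.InvChar.SporHeSp.even, CfsgLib.InvChar.FQ4, inferInstance, inferInstance, MonoidHom.normal_ker _,
    CfsgLib.InvChar.SporHeSp.even_index, CfsgLib.InvChar.FQ4.card_eq, CfsgLib.InvChar.SporHeSp.exists_iso⟩

end Cfsg.Agent.S1682
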