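import Cfsg.Statements.S1683
import Mathlib.Tactic
import Cfsg.Agent.Lib.InvChar.SporHe
import Cfsg.Agent.Lib.InvChar.SporData.HeA.Suborbits

set_option autoImplicit false
open Cfsg

namespace Cfsg.Agent.S1683

open CfsgLib.InvChar CfsgLib.InvChar.Coset CfsgLib.InvChar.SporHe Cfsg.Spor

/-- In the presented Held group, let H be the subgroup generated by the images of a, c, d, e, f, (ab)^2 and (bcde)^7. Then H has index 2058, there are four distinct H-orbits on the cosets of H other than H itself, of sizes 136, 136, 425 and 1360. -/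
theorem result : (((Subgroup.closure ({Cfsg.Spor.He.a, Cfsg.Spor.He.c, Cfsg.Spor.He.d, Cfsg.Spor.He.e, Cfsg.Spor.He.f, (Cfsg.Spor.He.a * Cfsg.Spor.He.b) ^ 2, (Cfsg.Spor.He.b * Cfsg.Spor.He.c * Cfsg.Spor.He.d * Cfsg.Spor.He.e) ^ 7} : Set (FreeGroup Cfsg.Spor.He.Gen))).map (PresentedGroup.mk (Cfsg.Spor.coxRelators Cfsg.Spor.He.edges ∪ {r | r ∈ Cfsg.Spor.He.extra})))).index = 2058 ∧ ∃ q₁ q₂ q₃ q₄ : Cfsg.Spor.He ⧸ (((Subgroup.closure ({Cfsg.Spor.He.a, Cfsg.Spor.He.c, Cfsg.Spor.He.d, Cfsg.Spor.He.e, Cfsg.Spor.He.f, (Cfsg.Spor.He.a * Cfsg.Spor.He.b) ^ 2, (Cfsg.Spor.He.b * Cfsg.Spor.He.c * Cfsg.Spor.He.d * Cfsg.Spor.He.e) ^ 7} : Set (FreeGroup Cfsg.Spor.He.Gen))).map (PresentedGroup.mk (Cfsg.Spor.coxRelators Cfsg.Spor.He.edges ∪ {r | r ∈ Cfsg.Spor.He.extra})))), MulAction.orbit (((Subgroup.closure ({Cfsg.Spor.He.a, Cfsg.Spor.He.c, Cfsg.Spor.He.d, Cfsg.Spor.He.e,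 Cfsg.Spor.He.f, (Cfsg.Spor.He.a * Cfsg.Spor.He.b) ^ 2, (Cfsg.Spor.He.b * Cfsg.Spor.He.c * Cfsg.Spor.He.d * Cfsg.Spor.He.e) ^ 7} : Set (FreeGroup Cfsg.Spor.He.Gen))).map (PresentedGroup.mk (Cfsg.Spor.coxRelators Cfsg.Spor.He.edges ∪ {r | r ∈ Cfsg.Spor.He.extra})))) q₁ ≠ MulAction.orbit (((Subgroup.closure ({Cfsg.Spor.He.a, Cfsg.Spor.He.c, Cfsg.Spor.He.d, Cfsg.Spor.He.e, Cfsg.Spor.He.f, (Cfsg.Spor.He.a * Cfsg.Spor.He.b) ^ 2, (Cfsg.Spor.He.b * Cfsg.Spor.He.c * Cfsg.Spor.He.d * Cfsg.Spor.He.e) ^ 7} : Set (FreeGroup Cfsg.Spor.He.Gen))).map (PresentedGroup.mk (Cfsg.Spor.coxRelators Cfsg.Spor.He.edges ∪ {r | r ∈ Cfsg.Spor.He.extra})))) q₂ ∧ (MulAction.orbit (((Subgroup.closure ({Cfsg.Spor.He.a, Cfsg.Spor.He.c, Cfsg.Spor.He.d, Cfsg.Spor.He.e, Cfsg.Spor.He.f, (Cfsg.Spor.He.a * Cfsg.Spor.He.b) ^ 2, (Cfsg.Spor.He.b * Cfsg.Spor.He.c * Cfsg.Spor.He.d * Cfsg.Spor.He.e)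 ^ 7} : Set (FreeGroup Cfsg.Spor.He.Gen))).map (PresentedGroup.mk (Cfsg.Spor.coxRelators Cfsg.Spor.He.edges ∪ {r | r ∈ Cfsg.Spor.He.extra})))) q₁).ncard = 136 ∧ (MulAction.orbit (((Subgroup.closure ({Cfsg.Spor.He.a, Cfsg.Spor.He.c, Cfsg.Spor.He.d, Cfsg.Spor.He.e, Cfsg.Spor.He.f, (Cfsg.Spor.He.a * Cfsg.Spor.He.b) ^ 2, (Cfsg.Spor.He.b * Cfsg.Spor.He.c * Cfsg.Spor.He.d * Cfsg.Spor.He.e) ^ 7} : Set (FreeGroup Cfsg.Spor.He.Gen))).map (PresentedGroup.mk (Cfsg.Spor.coxRelators Cfsg.Spor.He.edges ∪ {r | r ∈ Cfsg.Spor.He.extra})))) q₂).ncard = 136 ∧ (MulAction.orbit (((Subgroup.closure ({Cfsg.Spor.He.a, Cfsg.Spor.He.c, Cfsg.Spor.He.d, Cfsg.Spor.He.e, Cfsg.Spor.He.f, (Cfsg.Spor.He.a * Cfsg.Spor.He.b) ^ 2, (Cfsg.Spor.He.b * Cfsg.Spor.He.c * Cfsg.Spor.He.d * Cfsg.Spor.He.e) ^ 7} : Set (FreeGroup Cfsg.Spor.He.Gen))).map (PresentedGroup.mk (Cfsg.Spor.coxRelators Cfsg.Spor.He.edges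 ∪ {r | r ∈ Cfsg.Spor.He.extra})))) q₃).ncard = 425 ∧ (MulAction.orbit (((Subgroup.closure ({Cfsg.Spor.He.a, Cfsg.Spor.He.c, Cfsg.Spor.He.d, Cfsg.Spor.He.e, Cfsg.Spor.He.f, (Cfsg.Spor.He.a * Cfsg.Spor.He.b) ^ 2, (Cfsg.Spor.He.b * Cfsg.Spor.He.c * Cfsg.Spor.He.d * Cfsg.Spor.He.e) ^ 7} : Set (FreeGroup Cfsg.Spor.He.Gen))).map (PresentedGroup.mk (Cfsg.Spor.coxRelators Cfsg.Spor.He.edges ∪ {r | r ∈ Cfsg.Spor.He.extra})))) q₄).ncard = 1360 := by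
  have hH : (Subgroup.closure ({Cfsg.Spor.He.a, Cfsg.Spor.He.c, Cfsg.Spor.He.d, Cfsg.Spor.He.e, Cfsg.Spor.He.f, (Cfsg.Spor.He.a * Cfsg.Spor.He.b) ^ 2, (Cfsg.Spor.He.b * Cfsg.Spor.He.c * Cfsg.Spor.He.d * Cfsg.Spor.He.e) ^ 7} : Set (FreeGroup Cfsg.Spor.He.Gen))).map (PresentedGroup.mk (Cfsg.Spor.coxRelators Cfsg.Spor.He.edges ∪ {r | r ∈ Cfsg.Spor.He.extra})) = CfsgLib.InvChar.SporHe.H := by
    rw [pres.map_closure, CfsgLib.InvChar.SporHe.H, Coset.wordsClosure]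
    refine congrArg Subgroup.closure ?_
    rw [← Set.image_image (g := wprod gen) (f := letters idx)]
    refine congrArg (fun t => wprod gen '' t) ?_
    rw [Set.image_insert_eq, Set.image_insert_eq, Set.image_insert_eq, Set.image_insert_eq, Set.image_insert_eq,
      Set.image_insert_eq, Set.image_singleton]
    rw [show letters idx He.a = [0] by decide +kernel, show letters idx He.c = [2] by decide +kernel,
      show letters idx He.d = [3] by decide +kernel, show letters idx He.e = [4] by decide +kernel,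
      show letters idx He.f = [5] by decide +kernel,
      show letters idx ((He.a * He.b) ^ 2) = [0, 1, 0, 1] by decide +kernel,
      show letters idx ((He.b * He.c * He.d * He.e) ^ 7) = (List.replicate 7 [1, 2, 3, 4]).flatten by decide +kernel]
    ext L
    simp [HeA.subs]
  rw [hH]
  obtain ⟨hi, e, -, he⟩ := index_H
  have hS : ∀ L ∈ HeA.subs, ∀ x ∈ L, x < HeA.table.g := by decide +kernel
  have o := fun {pts pos par : Tr} {m : ℕ} (hm : 0 < m) (hok : ∀ k < m, Table.OrbitOK HeA.table HeA.subs pts pos par m k)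
      (p : Fin HeA.table.n) (hp : (p : ℕ) = field pts 128 20 0) =>
    suborbit_of_cert HeA.table rfl HeA.valid HeA.sq gen rep rep_gen e he hS CfsgLib.InvChar.SporHe.H rfl hm hok p hp
  refine ⟨hi, e ⟨46, by decide +kernel⟩, e ⟨65, by decide +kernel⟩, e ⟨2, by decide +kernel⟩, e ⟨1, by decide +kernel⟩,
    ?_, (o (by norm_num) HeA.sub2_ok ⟨46, by decide +kernel⟩ HeA.sub2_root.symm).1,
    (o (by norm_num) HeA.sub3_ok ⟨65, by decide +kernel⟩ HeA.sub3_root.symm).1,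
    (o (by norm_num) HeA.sub1_ok ⟨2, by decide +kernel⟩ HeA.sub1_root.symm).1,
    (o (by norm_num) HeA.sub0_ok ⟨1, by decide +kernel⟩ HeA.sub0_root.symm).1⟩
  intro heq
  have h := MulAction.mem_orbit_self (M := ↥CfsgLib.InvChar.SporHe.H) (e ⟨65, by decide +kernel⟩)
  rw [← heq, (o (by norm_num) HeA.sub2_ok ⟨46, by decide +kernel⟩ HeA.sub2_root.symm).2] at h
  exact absurd h (show ¬ ∃ k < 136, field HeA.sub2Pts 128 20 k = 65 by decide +kernel)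

end Cfsg.Agent.S1683
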