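import Cfsg.Statements.S1684
import Cfsg.Agent.Lib.InvChar.SporFi22U6

set_option autoImplicit false
set_option maxRecDepth 100000
open Cfsg

namespace Cfsg.Agent.S1684

open CfsgLib.InvChar CfsgLib.InvChar.Coset CfsgLib.InvChar.SporFi22 Cfsg.Spor

/-- In the presented Fischer group Fi₂₂, the subgroup generated by the images of a, c, d, e, f, g, h, i and (abcdeh)^5 is a non-split double cover of PSU(6, 2) (realised over a field with four elements). -/
theorem result : ∃ (K : Type) (_ : Field K) (_ : Fintype K), Fintype.card K = 4 ∧ Cfsg.IsNonsplitDoubleCover (((Subgroup.closure ({Cfsg.Spor.Fi22.a, Cfsg.Spor.Fi22.c, Cfsg.Spor.Fi22.d, Cfsg.Spor.Fi22.e, Cfsg.Spor.Fi22.f, Cfsg.Spor.Fi22.g, Cfsg.Spor.Fi22.h, Cfsg.Spor.Fi22.i, (Cfsg.Spor.Fi22.a * Cfsg.Spor.Fi22.b * Cfsg.Spor.Fi22.c * Cfsg.Spor.Fi22.d * Cfsg.Spor.Fi22.e * Cfsg.Spor.Fi22.h) ^ 5} : Set (FreeGroup Cfsg.Spor.Fi22.Gen))).map (PresentedGroup.mk (Cfsg.Spor.coxRelators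 Cfsg.Spor.Fi22.edges ∪ {r | r ∈ Cfsg.Spor.Fi22.extra})))) (Cfsg.PSU 6 K 2) := by
  refine ⟨FQ4, inferInstance, inferInstance, FQ4.card_eq, ?_⟩
  have hH : (Subgroup.closure ({Cfsg.Spor.Fi22.a, Cfsg.Spor.Fi22.c, Cfsg.Spor.Fi22.d, Cfsg.Spor.Fi22.e, Cfsg.Spor.Fi22.f, Cfsg.Spor.Fi22.g, Cfsg.Spor.Fi22.h, Cfsg.Spor.Fi22.i, (Cfsg.Spor.Fi22.a * Cfsg.Spor.Fi22.b * Cfsg.Spor.Fi22.c * Cfsg.Spor.Fi22.d * Cfsg.Spor.Fi22.e * Cfsg.Spor.Fi22.h) ^ 5} : Set (FreeGroup Cfsg.Spor.Fi22.Gen))).map (PresentedGroup.mk (Cfsg.Spor.coxRelators Cfsg.Spor.Fi22.edges ∪ {r | r ∈ Cfsg.Spor.Fi22.extra})) = CfsgLib.InvChar.SporFi22.H := by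
    rw [pres.map_closure, CfsgLib.InvChar.SporFi22.H, Coset.wordsClosure]
    refine congrArg Subgroup.closure ?_
    rw [← Set.image_image (g := wprod gen) (f := letters idx)]
    refine congrArg (fun t => wprod gen '' t) ?_
    simp only [Set.image_insert_eq, Set.image_singleton]
    rw [show letters idx Fi22.a = [0] by decide +kernel, show letters idx Fi22.c = [2] by decide +kernel,
      show letters idx Fi22.d = [3] by decide +kernel, show letters idx Fi22.e = [4] by decide +kernel,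
      show letters idx Fi22.f = [5] by decide +kernel, show letters idx Fi22.g = [6] by decide +kernel,
      show letters idx Fi22.h = [7] by decide +kernel, show letters idx Fi22.i = [8] by decide +kernel,
      show letters idx ((Fi22.a * Fi22.b * Fi22.c * Fi22.d * Fi22.e * Fi22.h) ^ 5) =
        (List.replicate 5 [0, 1, 2, 3, 4, 7]).flatten by decide +kernel]
    ext L
    simp [FiA.subs]
  rw [hH]
  exact SporFi22U6.isNonsplitDoubleCover

end Cfsg.Agent.S1684
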