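import Cfsg.Statements.S1685
import Mathlib.Tactic
import Cfsg.Agent.Lib.InvChar.SporFi22

set_option autoImplicit false
open Cfsg

namespace Cfsg.Agent.S1685

open CfsgLib.InvChar CfsgLib.InvChar.Coset CfsgLib.InvChar.SporFi22 Cfsg.Spor

/-- In the presented Fischer group Fi₂₂ (generators a, …, i), the subgroup generated by the images of b, c, d, e, f, g, h, i has index 14080. -/
theorem result : (((Subgroup.closure ({Cfsg.Spor.Fi22.b, Cfsg.Spor.Fi22.c, Cfsg.Spor.Fi22.d, Cfsg.Spor.Fi22.e, Cfsg.Spor.Fi22.f, Cfsg.Spor.Fi22.g, Cfsg.Spor.Fi22.h, Cfsg.Spor.Fi22.i} : Set (FreeGroup Cfsg.Spor.Fi22.Gen))).map (PresentedGroup.mk (Cfsg.Spor.coxRelators Cfsg.Spor.Fi22.edges ∪ {r | r ∈ Cfsg.Spor.Fi22.extra})))).index = 14080 := by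
  have hH : (Subgroup.closure ({Cfsg.Spor.Fi22.b, Cfsg.Spor.Fi22.c, Cfsg.Spor.Fi22.d, Cfsg.Spor.Fi22.e, Cfsg.Spor.Fi22.f, Cfsg.Spor.Fi22.g, Cfsg.Spor.Fi22.h, Cfsg.Spor.Fi22.i} : Set (FreeGroup Cfsg.Spor.Fi22.Gen))).map (PresentedGroup.mk (Cfsg.Spor.coxRelators Cfsg.Spor.Fi22.edges ∪ {r | r ∈ Cfsg.Spor.Fi22.extra})) = (Coset.lettersClosure gen FiC.emb) := by
    rw [pres.map_closure]
    rw [Coset.lettersClosure]
    refine congrArg Subgroup.closure ?_
    simp only [Set.image_insert_eq, Set.image_singleton]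
    rw [show letters idx Fi22.b = [1] by decide +kernel,
      show letters idx Fi22.c = [2] by decide +kernel,
      show letters idx Fi22.d = [3] by decide +kernel,
      show letters idx Fi22.e = [4] by decide +kernel,
      show letters idx Fi22.f = [5] by decide +kernel,
      show letters idx Fi22.g = [6] by decide +kernel,
      show letters idx Fi22.h = [7] by decide +kernel,
      show letters idx Fi22.i = [8] by decide +kernel]
    have hset : Set.Iio FiC.emb.length = {0, 1, 2, 3, 4, 5, 6, 7} := by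
      ext i; simp [FiC.emb]; omega
    rw [hset]
    simp [Set.image_insert_eq, subGen, FiC.emb, wprod]
  rw [hH]
  exact index_bcdefghi

end Cfsg.Agent.S1685
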