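import Cfsg.Statements.S1686
import Mathlib.Tactic
import Cfsg.Agent.Lib.InvChar.SporFi22
import Cfsg.Agent.Lib.InvChar.SporO7Iso

set_option autoImplicit false
open Cfsg

namespace Cfsg.Agent.S1686

open CfsgLib.InvChar CfsgLib.InvChar.Coset Cfsg.Spor

/-- In the presented Fischer group Fi₂₂, the subgroup generated by the images of b, …, i is isomorphic to PΩ(7, 3), the commutator subgroup of the isometry group of the quadratic form x₀² + x₁y₁ + x₂y₂ + x₃y₃ over the integers mod 3, modulo its centre. -/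
theorem result : Nonempty ((((Subgroup.closure ({Cfsg.Spor.Fi22.b, Cfsg.Spor.Fi22.c, Cfsg.Spor.Fi22.d, Cfsg.Spor.Fi22.e, Cfsg.Spor.Fi22.f, Cfsg.Spor.Fi22.g, Cfsg.Spor.Fi22.h, Cfsg.Spor.Fi22.i} : Set (FreeGroup Cfsg.Spor.Fi22.Gen))).map (PresentedGroup.mk (Cfsg.Spor.coxRelators Cfsg.Spor.Fi22.edges ∪ {r | r ∈ Cfsg.Spor.Fi22.extra})))) ≃* Cfsg.POmega (ZMod 3) (Cfsg.quadFormOdd 3 (ZMod 3))) := by
  have hH : (Subgroup.closure ({Cfsg.Spor.Fi22.b, Cfsg.Spor.Fi22.c, Cfsg.Spor.Fi22.d, Cfsg.Spor.Fi22.e, Cfsg.Spor.Fi22.f, Cfsg.Spor.Fi22.g, Cfsg.Spor.Fi22.h, Cfsg.Spor.Fi22.i} : Set (FreeGroup Cfsg.Spor.Fi22.Gen))).map (PresentedGroup.mk (Cfsg.Spor.coxRelators Cfsg.Spor.Fi22.edges ∪ {r | r ∈ Cfsg.Spor.Fi22.extra})) = lettersClosure SporFi22.gen FiC.emb := by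
    rw [SporFi22.pres.map_closure, lettersClosure]
    refine congrArg Subgroup.closure ?_
    simp only [Set.image_insert_eq, Set.image_singleton]
    rw [show letters SporFi22.idx Fi22.b = [1] by decide +kernel, show letters SporFi22.idx Fi22.c = [2] by decide +kernel,
      show letters SporFi22.idx Fi22.d = [3] by decide +kernel, show letters SporFi22.idx Fi22.e = [4] by decide +kernel,
      show letters SporFi22.idx Fi22.f = [5] by decide +kernel, show letters SporFi22.idx Fi22.g = [6] by decide +kernel,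
      show letters SporFi22.idx Fi22.h = [7] by decide +kernel, show letters SporFi22.idx Fi22.i = [8] by decide +kernel]
    have hset : Set.Iio FiC.emb.length = {0, 1, 2, 3, 4, 5, 6, 7} := by
      ext i; simp [FiC.emb]; omega
    rw [hset]
    simp [Set.image_insert_eq, subGen, FiC.emb, wprod]
  rw [hH]
  haveI : Finite SporO7.Pre := SporO7.card_le.1
  obtain ⟨⟨e⟩, hc⟩ := SporO7.exists_iso
  obtain ⟨ψ, hψ⟩ := SporO7.exists_hom (subGen SporFi22.gen FiC.emb)
    (SporFi22.rels_subGen _ _ (by decide +kernel))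
  have hrange : ψ.range = lettersClosure SporFi22.gen FiC.emb := by
    rw [MonoidHom.range_eq_map, ← SporO7.closure_gen, MonoidHom.map_closure, lettersClosure, ← Set.image_comp]
    refine congrArg Subgroup.closure (Set.ext fun y => ⟨?_, ?_⟩)
    · rintro ⟨i, hi, rfl⟩; exact ⟨i, hi, by rw [Function.comp_apply, hψ i hi]⟩
    · rintro ⟨i, hi, rfl⟩; exact ⟨i, hi, by rw [Function.comp_apply, hψ i hi]⟩
  have hidx := (lettersClosure SporFi22.gen FiC.emb).card_mul_index
  rw [SporFi22.index_bcdefghi, SporFi22.card_eq.1] at hidx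
  have hinj : Function.Injective ψ :=
    (card_eq_and_injective ψ (by norm_num) ⟨inferInstance, hc.le⟩ (by rw [hrange]; omega)).2
  exact ⟨(MulEquiv.subgroupCongr hrange.symm).trans ((MonoidHom.ofInjective hinj).symm.trans e)⟩

end Cfsg.Agent.S1686
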