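import Cfsg.Statements.S1688
import Mathlib.Tactic
import Cfsg.Agent.Lib.InvChar.SporFi23Cover

set_option autoImplicit false
open Cfsg

namespace Cfsg.Agent.S1688

open CfsgLib.InvChar CfsgLib.InvChar.Coset CfsgLib.InvChar.SporFi23 Cfsg.Spor

/-- In the presented Fischer group Fi₂₃, the subgroup generated by the images of a, …, i is a non-split double cover of the presented Fischer group Fi₂₂. -/
theorem result : Cfsg.IsNonsplitDoubleCover (((Subgroup.closure ({Cfsg.Spor.Fi23.a, Cfsg.Spor.Fi23.b, Cfsg.Spor.Fi23.c, Cfsg.Spor.Fi23.d, Cfsg.Spor.Fi23.e, Cfsg.Spor.Fi23.f, Cfsg.Spor.Fi23.g, Cfsg.Spor.Fi23.h, Cfsg.Spor.Fi23.i} : Set (FreeGroup Cfsg.Spor.Fi23.Gen))).map (PresentedGroup.mk (Cfsg.Spor.coxRelators Cfsg.Spor.Fi23.edges ∪ {r | r ∈ Cfsg.Spor.Fi23.extra})))) Cfsg.Spor.Fi22 := by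
  have hH : (Subgroup.closure ({Cfsg.Spor.Fi23.a, Cfsg.Spor.Fi23.b, Cfsg.Spor.Fi23.c, Cfsg.Spor.Fi23.d, Cfsg.Spor.Fi23.e, Cfsg.Spor.Fi23.f, Cfsg.Spor.Fi23.g, Cfsg.Spor.Fi23.h, Cfsg.Spor.Fi23.i} : Set (FreeGroup Cfsg.Spor.Fi23.Gen))).map (PresentedGroup.mk (Cfsg.Spor.coxRelators Cfsg.Spor.Fi23.edges ∪ {r | r ∈ Cfsg.Spor.Fi23.extra})) = CfsgLib.InvChar.SporFi23.H := by
    rw [pres.map_closure]
    rw [CfsgLib.InvChar.SporFi23.H, Coset.wordsClosure]
    refine congrArg Subgroup.closure ?_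
    simp only [Set.image_insert_eq, Set.image_singleton]
    rw [show letters idx Fi23.a = [0] by decide +kernel, show letters idx Fi23.b = [1] by decide +kernel,
      show letters idx Fi23.c = [2] by decide +kernel, show letters idx Fi23.d = [3] by decide +kernel,
      show letters idx Fi23.e = [4] by decide +kernel, show letters idx Fi23.f = [5] by decide +kernel,
      show letters idx Fi23.g = [6] by decide +kernel, show letters idx Fi23.h = [8] by decide +kernel,
      show letters idx Fi23.i = [9] by decide +kernel]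
    ext y
    simp [F23.subs, eq_comm]
  rw [hH]
  exact isNonsplitDoubleCover

end Cfsg.Agent.S1688
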