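import Cfsg.Statements.S1690
import Cfsg.Agent.Lib.InvChar.SporFi24Cosets

set_option autoImplicit false
open Cfsg

namespace Cfsg.Agent.S1690

/-- In the presented group Fi₂₄ = Fi₂₄′:2, the subgroup generated by the images of a, b, c, d, e, f, g, h, i, j and l (every generator but k) has index 306936. -/
theorem result : (((Subgroup.closure ({Cfsg.Spor.Fi24.a, Cfsg.Spor.Fi24.b, Cfsg.Spor.Fi24.c, Cfsg.Spor.Fi24.d, Cfsg.Spor.Fi24.e, Cfsg.Spor.Fi24.f, Cfsg.Spor.Fi24.g, Cfsg.Spor.Fi24.h, Cfsg.Spor.Fi24.i, Cfsg.Spor.Fi24.j, Cfsg.Spor.Fi24.l} : Set (FreeGroup Cfsg.Spor.Fi24.Gen))).map (PresentedGroup.mk (Cfsg.Spor.coxRelators Cfsg.Spor.Fi24.edges ∪ {r | r ∈ Cfsg.Spor.Fi24.extra})))).index = 306936 := by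
  open CfsgLib.InvChar CfsgLib.InvChar.Coset Cfsg.Spor in
  have hH : (Subgroup.closure ({Fi24.a, Fi24.b, Fi24.c, Fi24.d, Fi24.e, Fi24.f, Fi24.g, Fi24.h, Fi24.i, Fi24.j, Fi24.l} : Set (FreeGroup Fi24.Gen))).map (PresentedGroup.mk (coxRelators Fi24.edges ∪ {r | r ∈ Fi24.extra})) = SporFi24.H := by
    rw [SporFi24.pres.map_closure, SporFi24.H, lettersClosure]
    refine congrArg Subgroup.closure ?_
    simp only [Set.image_insert_eq, Set.image_singleton]
    rw [show letters SporFi24.idx Fi24.a = [2] by decide +kernel, show letters SporFi24.idx Fi24.b = [3] by decide +kernel,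
      show letters SporFi24.idx Fi24.c = [4] by decide +kernel, show letters SporFi24.idx Fi24.d = [5] by decide +kernel,
      show letters SporFi24.idx Fi24.e = [6] by decide +kernel, show letters SporFi24.idx Fi24.f = [7] by decide +kernel,
      show letters SporFi24.idx Fi24.g = [8] by decide +kernel, show letters SporFi24.idx Fi24.h = [10] by decide +kernel,
      show letters SporFi24.idx Fi24.i = [11] by decide +kernel, show letters SporFi24.idx Fi24.j = [9] by decide +kernel,
      show letters SporFi24.idx Fi24.l = [0] by decide +kernel]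
    have hset : Set.Iio SporFi24.HL.length = {0, 1, 2, 3, 4, 5, 6, 7, 8, 9, 10} := by
      ext i; simp [SporFi24.HL]; omega
    rw [hset]
    ext g
    simp [Set.image_insert_eq, subGen, SporFi24.HL, wprod]
    tauto
  rw [hH]
  exact CfsgLib.InvChar.SporFi24.index_H

end Cfsg.Agent.S1690
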