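import Cfsg.Statements.S1708
import Cfsg.Agent.Lib.StructB.HN2HS.Embed
import Cfsg.Agent.S2072

set_option autoImplicit false
open Cfsg

namespace Cfsg.Agent.S1708

/-- In the presented Harada–Norton group, the subgroup N generated by the images of x, y, z has a normal subgroup of index 2 which is a non-split double cover of the Higman–Sims group. -/
theorem result : ∃ K : Subgroup (((Subgroup.closure ({Cfsg.Spor.HN.x, Cfsg.Spor.HN.y, Cfsg.Spor.HN.z} : Set (FreeGroup Cfsg.Spor.HN.Gen))).map (PresentedGroup.mk (Cfsg.Spor.coxRelators Cfsg.Spor.HN.edges ∪ {r | r ∈ Cfsg.Spor.HN.extra})))), K.Normal ∧ K.index = 2 ∧ Cfsg.IsNonsplitDoubleCover K Cfsg.Spor.HS := by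
  let e := (MonoidHom.ofInjective (CfsgLib.StructB.HN2HS.injective_of_xx CfsgLib.StructB.HN2HS.emb
    CfsgLib.StructB.HN2HS.emb_xx)).trans (MulEquiv.subgroupCongr CfsgLib.StructB.HN2HS.emb_range)
  refine ⟨CfsgLib.StructB.HN2HS.K.map e.toMonoidHom,
    Subgroup.Normal.map CfsgLib.StructB.HN2HS.normal_K _ e.surjective,
    (Subgroup.index_map_equiv _ e).trans CfsgLib.StructB.HN2HS.index_K, ?_⟩
  have hxx : CfsgLib.StructB.HN2HS.xx ≠ 1 := fun h => CfsgLib.StructB.HN2HS.emb_xx (by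
    have h' : CfsgLib.StructB.HN2HS.s 0 * CfsgLib.StructB.HN2HS.s 0 = 1 := congrArg Subtype.val h
    rw [h', map_one])
  exact CfsgLib.StructB.HN2HS.nonsplit_transport (e.subgroupMap CfsgLib.StructB.HN2HS.K)
    (CfsgLib.KnownA.HSModel.hsGroupEquiv.symm.trans Cfsg.Agent.S2072.hsEquiv)
    (CfsgLib.StructB.HN2HS.cover hxx)

end Cfsg.Agent.S1708
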