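import Cfsg.Statements.S1717
import Mathlib.LinearAlgebra.Matrix.GeneralLinearGroup.Card
import Mathlib.LinearAlgebra.Matrix.Transvection
import Mathlib.Tactic
import Cfsg.Agent.Lib.Transfer.Frobenius

set_option autoImplicit false
open Cfsg

namespace Cfsg.Agent.S1717

open Matrix in
theorem card_bound (h : 2 ^ 11 ∣ Nat.card (SpecialLinearGroup (Fin 5) (ZMod 2))) : False := by
  have : Fact (Nat.Prime 2) := ⟨Nat.prime_two⟩
  have h1 := h.trans (Subgroup.card_dvd_of_injective
    (SpecialLinearGroup.toGL (n := Fin 5) (R := ZMod 2)) SpecialLinearGroup.toGL_injective)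
  have h2 : Nat.card (GL (Fin 5) (ZMod 2)) = 9999360 := by
    rw [Matrix.card_GL_field]
    simp [Fin.prod_univ_succ]
  rw [h2] at h1
  omega

/-- position of the indices in the order `0, 2, 3, 4, 1` -/
def pos : Fin 5 → Fin 5 := ![0, 4, 1, 2, 3]

abbrev SL := Matrix.SpecialLinearGroup (Fin 5) (ZMod 2)
abbrev M5 := Matrix (Fin 5) (Fin 5) (ZMod 2)

def Uni (A : M5) : Prop := ∀ i j, pos j ≤ pos i → A i j = if i = j then 1 else 0

theorem uni_mul {A B : M5} (hA : Uni A) (hB : Uni B) : Uni (A * B) := by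
  intro i j hij
  rw [Matrix.mul_apply, Finset.sum_eq_single i]
  · rw [hA i i le_rfl, if_pos rfl, one_mul, hB i j hij]
  · intro k _ hk
    rcases le_total (pos k) (pos i) with h | h
    · rw [hA i k h, if_neg hk.symm, zero_mul]
    · rw [hB k j (hij.trans h), if_neg ?_, mul_zero]
      rintro rfl
      have : pos k = pos i := le_antisymm (hij) h
      exact hk ((show Function.Injective pos by decide) this)
  · simp

theorem uni_det {A : M5} (hA : Uni A) : A.det = 1 := by
  let σ : Equiv.Perm (Fin 5) := Equiv.ofBijective ![0, 2, 3, 4, 1] (by decide)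
  have hσ : ∀ x, pos (σ x) = x := by decide
  rw [← Matrix.det_submatrix_equiv_self σ A, Matrix.det_of_upperTriangular]
  · refine Finset.prod_eq_one fun i _ => ?_
    simp [Matrix.submatrix_apply, hA (σ i) (σ i) le_rfl]
  · intro i j hij
    have h : pos (σ j) < pos (σ i) := by rw [hσ, hσ]; exact hij
    rw [Matrix.submatrix_apply, hA _ _ h.le, if_neg (fun e => by rw [e] at h; exact lt_irrefl _ h)]

def upper : Submonoid SL where
  carrier := {A | Uni (A : M5)}
  one_mem' := fun i j _ => by simp [Matrix.one_apply]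
  mul_mem' := fun {A B} hA hB => by simpa using uni_mul hA hB

theorem zmod2 : ∀ c : ZMod 2, c = 0 ∨ c = 1 := by decide

theorem exists_sylow_center (s : SL) (hs : (s : M5) = Matrix.transvection 0 1 1) :
    ∃ U : Subgroup SL, U ≤ Subgroup.centralizer {s} ∧ Nat.card U = 2 ^ 10 ∧ IsPGroup 2 U ∧
      ∀ a ∈ U, (∀ b ∈ U, a * b = b * a) → a = 1 ∨ a = s := by
  have : Fact (Nat.Prime 2) := ⟨Nat.prime_two⟩
  let U : Subgroup SL :=
    { upper with
      inv_mem' := fun {A} hA => by
        rw [inv_eq_iff_mul_eq_one.2 (show A * A ^ (orderOf A - 1) = 1 by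
          rw [← pow_succ', Nat.sub_add_cancel (orderOf_pos A)]; exact pow_orderOf_eq_one A)]
        exact pow_mem (show A ∈ upper from hA) _ }
  have hmem : ∀ A : SL, A ∈ U ↔ Uni (A : M5) := fun A => Iff.rfl
  have hc : Nat.card U = 2 ^ 10 := by
    let P := {p : Fin 5 × Fin 5 // pos p.1 < pos p.2}
    let mk : (P → ZMod 2) → M5 := fun f => Matrix.of fun i j =>
      if h : pos i < pos j then f ⟨(i, j), h⟩ else if i = j then 1 else 0
    have hmk : ∀ f, Uni (mk f) := fun f i j hij => by simp [mk, not_lt.2 hij]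
    let eq : U ≃ (P → ZMod 2) :=
      { toFun := fun A p => ((A : SL) : M5) p.1.1 p.1.2
        invFun := fun f => ⟨⟨mk f, uni_det (hmk f)⟩, hmk f⟩
        left_inv := fun A => by
          refine Subtype.ext (Subtype.ext (Matrix.ext fun i j => ?_))
          show mk (fun p => ((A : SL) : M5) p.1.1 p.1.2) i j = _
          by_cases h : pos i < pos j
          · simp [mk, h]
          · simp [mk, h, (hmem _).1 A.2 i j (not_lt.1 h)]
        right_inv := fun f => funext fun p => by
          show mk f p.1.1 p.1.2 = f p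
          simp [mk, p.2] }
    rw [Nat.card_congr eq, Nat.card_fun, Nat.card_zmod, Nat.card_eq_fintype_card]
    rfl
  refine ⟨U, ?_, hc, IsPGroup.of_card hc, ?_⟩
  · intro A hA
    rw [Subgroup.mem_centralizer_singleton_iff]
    refine Subtype.ext ?_
    show (A : M5) * (s : M5) = (s : M5) * (A : M5)
    rw [hs, Matrix.transvection, mul_add, add_mul, mul_one, one_mul]
    congr 1
    ext i j
    have hA' := (hmem A).1 hA
    by_cases hj : j = 1
    · subst hj
      rw [Matrix.mul_single_apply_same, hA' i 0 (by fin_cases i <;> decide)]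
      by_cases hi : i = 0
      · subst hi; simp [hA' 1 1 le_rfl]
      · simp [hi]
    · rw [Matrix.mul_single_apply_of_ne _ _ _ _ _ hj]
      by_cases hi : i = 0
      · subst hi
        simp [hA' 1 j (by fin_cases j <;> decide), Ne.symm hj]
      · simp [hi]
  · intro A hA hAc
    have hA' := (hmem A).1 hA
    have key : ∀ p q : Fin 5, pos p < pos q → ∀ i j,
        ((A : M5) * (Matrix.single p q 1 : M5)) i j = ((Matrix.single p q 1 : M5) * (A : M5)) i j := by
      intro p q hpq i j
      have hne : p ≠ q := fun e => lt_irrefl _ (e ▸ hpq)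
      let t : SL := ⟨Matrix.transvection p q 1, Matrix.det_transvection_of_ne _ _ hne _⟩
      have ht : t ∈ U := (hmem t).2 fun a b hab => by
        show Matrix.transvection p q 1 a b = _
        have : ¬ (p = a ∧ q = b) := fun ⟨e1, e2⟩ => absurd hab (not_le.2 (e1 ▸ e2 ▸ hpq))
        simp [Matrix.transvection, Matrix.one_apply, this]
      have h : (A : M5) * Matrix.transvection p q 1 = Matrix.transvection p q 1 * (A : M5) :=
        congrArg Subtype.val (hAc t ht)
      rw [Matrix.transvection, mul_add, add_mul, mul_one, one_mul] at h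
      exact congrFun (congrFun (add_left_cancel (G := M5) h) i) j
    have col : ∀ p q : Fin 5, pos p < pos q → ∀ i, i ≠ p → (A : M5) i p = 0 := by
      intro p q hpq i hi
      simpa [hi] using key p q hpq i q
    have row : ∀ p q : Fin 5, pos p < pos q → ∀ j, j ≠ q → (A : M5) q j = 0 := by
      intro p q hpq j hj
      simpa [hj] using (key p q hpq p j).symm
    have hoff : ∀ i j, i ≠ j → ¬ (i = 0 ∧ j = 1) → (A : M5) i j = 0 := by
      intro i j hij h01
      by_cases hj : j = 1
      · subst hj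
        exact row 0 i ((show ∀ k : Fin 5, k ≠ 0 → pos 0 < pos k by decide) i fun e => h01 ⟨e, rfl⟩) 1 hij.symm
      · exact col j 1 ((show ∀ k : Fin 5, k ≠ 1 → pos k < pos 1 by decide) j hj) i hij
    have hd : ∀ i, (A : M5) i i = 1 := fun i => by simp [hA' i i le_rfl]
    have hext : (A : M5) = Matrix.transvection 0 1 ((A : M5) 0 1) := by
      ext i j
      rcases eq_or_ne i j with rfl | hij
      · have : ¬ ((0 : Fin 5) = i ∧ (1 : Fin 5) = i) := fun ⟨e1, e2⟩ => absurd (e1.trans e2.symm) (by decide)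
        simp [Matrix.transvection, hd, this]
      · by_cases h01 : i = 0 ∧ j = 1
        · obtain ⟨rfl, rfl⟩ := h01; simp [Matrix.transvection]
        · have : ¬ ((0 : Fin 5) = i ∧ (1 : Fin 5) = j) := fun ⟨e1, e2⟩ => h01 ⟨e1.symm, e2.symm⟩
          simp [Matrix.transvection, hoff i j hij h01, Matrix.one_apply, hij, this]
    rcases zmod2 ((A : M5) 0 1) with h | h
    · left; refine Subtype.ext ?_; rw [hext, h, Matrix.transvection_zero]; rfl
    · right; refine Subtype.ext ?_; rw [hext, h, hs]

/-- Let G be a finite group with an involution z whose centraliser C is isomorphic to the centraliser of a transvection of SL(5, 2). Then a Sylow 2-subgroup of C, viewed in G, is a Sylow 2-subgroup of G (its index in G is odd). -/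
theorem result {G : Type*} [Group G] [Finite G] (s : Matrix.SpecialLinearGroup (Fin 5) (ZMod 2)) (hs : (s : Matrix (Fin 5) (Fin 5) (ZMod 2)) = Matrix.transvection 0 1 1) (z : G) (hz : orderOf z = 2) (e : (Subgroup.centralizer ({z} : Set G)) ≃* Subgroup.centralizer ({s} : Set (Matrix.SpecialLinearGroup (Fin 5) (ZMod 2)))) (T : Sylow 2 (Subgroup.centralizer ({z} : Set G))) : ¬ 2 ∣ ((T : Subgroup (Subgroup.centralizer ({z} : Set G))).map (Subgroup.subtype (Subgroup.centralizer ({z} : Set G)))).index := by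
  classical
  haveI : Fact (Nat.Prime 2) := ⟨Nat.prime_two⟩
  let K := Subgroup.centralizer ({s} : Set (Matrix.SpecialLinearGroup (Fin 5) (ZMod 2)))
  let C := Subgroup.centralizer ({z} : Set G)
  -- facts on the centralizer of the transvection
  obtain ⟨U, hUK, hUc, hUp, hUz⟩ := exists_sylow_center s hs
  -- transport to `C`
  let T' : Sylow 2 K := T.mapSurjective (f := e.toMonoidHom) e.surjective
  have hTmem : ∀ x : C, x ∈ T → e x ∈ T' := fun x hx => by
    change e x ∈ (T : Subgroup C).map e.toMonoidHom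
    exact ⟨x, hx, rfl⟩
  let U' : Sylow 2 K := IsPGroup.toSylow (P := U.subgroupOf K)
    (hUp.comap_subtype) (by
      intro hd
      have h := (U.subgroupOf K).card_mul_index
      rw [Nat.card_congr (Subgroup.subgroupOfEquivOfLe hUK).toEquiv, hUc] at h
      have h2 : 2 ^ 11 ∣ Nat.card K := by
        rw [← h, pow_succ]; exact mul_dvd_mul_left _ hd
      have h3 := h2.trans (Subgroup.card_subgroup_dvd_card K)
      exact card_bound h3)
  obtain ⟨k, hk⟩ := MulAction.exists_smul_eq K U' T'
  have hzC : z ∈ C := Subgroup.mem_centralizer_singleton_iff.2 rfl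
  have hcen : ∀ x : C, x ∈ T → (∀ y ∈ T, x * y = y * x) → x = 1 ∨ (e x : Matrix.SpecialLinearGroup (Fin 5) (ZMod 2)) = s := by
    intro x hx hxc
    have hx' : e x ∈ ((k • U' : Sylow 2 K) : Subgroup K) := hk ▸ hTmem x hx
    rw [Sylow.coe_subgroup_smul] at hx'
    obtain ⟨a, ha, hae⟩ := hx'
    have hae : k * a * k⁻¹ = e x := hae
    have hac : ∀ b ∈ U, (a : Matrix.SpecialLinearGroup (Fin 5) (ZMod 2)) * b = b * a := by
      intro b hb
      have hb' : k * ⟨b, hUK hb⟩ * k⁻¹ ∈ (T : Subgroup C).map e.toMonoidHom := by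
        change _ ∈ (T' : Subgroup K)
        rw [← hk, Sylow.coe_subgroup_smul]
        exact ⟨⟨b, hUK hb⟩, (show (⟨b, hUK hb⟩ : K) ∈ U.subgroupOf K from hb), rfl⟩
      obtain ⟨y, hy, hye⟩ := hb'
      have hye : e y = k * ⟨b, hUK hb⟩ * k⁻¹ := hye
      have h := congrArg e (hxc y hy)
      rw [map_mul, map_mul, hye, ← hae] at h
      have h' : k * (a * ⟨b, hUK hb⟩) * k⁻¹ = k * (⟨b, hUK hb⟩ * a) * k⁻¹ := by simpa [mul_assoc] using h
      exact congrArg Subtype.val (mul_left_cancel (mul_right_cancel h'))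
    rcases hUz _ (show a ∈ U.subgroupOf K from ha) hac with h | h
    · left
      have : a = 1 := Subtype.ext h
      rw [this] at hae
      exact e.injective (by simpa using hae.symm)
    · right
      have hks : (k : Matrix.SpecialLinearGroup (Fin 5) (ZMod 2)) * s = s * k := Subgroup.mem_centralizer_singleton_iff.1 k.2
      rw [← hae]
      simp only [Subgroup.coe_mul, Subgroup.coe_inv]
      rw [show (a : Matrix.SpecialLinearGroup (Fin 5) (ZMod 2)) = s from h, hks, mul_inv_cancel_right]
  -- `z` lies in `T`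
  have hzT : (⟨z, hzC⟩ : C) ∈ T := by
    let Z := Subgroup.zpowers (⟨z, hzC⟩ : C)
    haveI : Z.Normal := by
      refine ⟨fun a ha y => ?_⟩
      obtain ⟨i, rfl⟩ := Subgroup.mem_zpowers_iff.1 ha
      have hy : Commute y (⟨z, hzC⟩ : C) := Subtype.ext (Subgroup.mem_centralizer_singleton_iff.1 y.2)
      rw [(hy.zpow_right i).eq, mul_inv_cancel_right]
      exact ha
    have hZp : IsPGroup 2 Z := IsPGroup.of_card (n := 1) (by
      rw [Nat.card_zpowers, ← Subgroup.orderOf_coe, pow_one]; exact hz)
    have := T.is_maximal' (T.isPGroup'.to_sup_of_normal_right hZp) le_sup_left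
    exact (this ▸ Subgroup.mem_sup_right (Subgroup.mem_zpowers _) : _ ∈ (T : Subgroup C))
  have hz1 : (⟨z, hzC⟩ : C) ≠ 1 := fun h => by
    have := congrArg Subtype.val h; simp at this; simp [this] at hz
  have hzs : ∀ x : C, x ∈ T → (∀ y ∈ T, x * y = y * x) → (x : G) = 1 ∨ (x : G) = z := by
    intro x hx hxc
    rcases hcen x hx hxc with rfl | h
    · exact Or.inl rfl
    · right
      have hzz := (hcen ⟨z, hzC⟩ hzT fun y _ => Subtype.ext (Subgroup.mem_centralizer_singleton_iff.1 y.2).symm).resolve_left hz1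
      exact congrArg Subtype.val (e.injective (Subtype.ext (h.trans hzz.symm)) : x = ⟨z, hzC⟩)
  -- the argument in `G`
  let TG : Subgroup G := (T : Subgroup C).map C.subtype
  have hTp : IsPGroup 2 TG := T.isPGroup'.map _
  obtain ⟨P, hP⟩ := hTp.exists_le_sylow
  rcases eq_or_lt_of_le hP with hPe | hPlt
  · show ¬ 2 ∣ TG.index
    rw [hPe]; exact P.not_dvd_index
  exfalso
  obtain ⟨g, hgP, hgN, hgT⟩ := CfsgLib.Transfer.exists_mem_normalizer_not_mem P.isPGroup' hPlt
  have hgz : g * z * g⁻¹ = z := by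
    have hmem : g * z * g⁻¹ ∈ TG := (Subgroup.mem_normalizer_iff.1 hgN z).1 ⟨_, hzT, rfl⟩
    obtain ⟨x, hx, hxe⟩ := hmem
    have hxe : (x : G) = g * z * g⁻¹ := hxe
    have hxc : ∀ y ∈ T, x * y = y * x := by
      intro y hy
      obtain ⟨w, hw, hwe⟩ := (Subgroup.mem_normalizer_iff''.1 hgN (y : G)).1 ⟨y, hy, rfl⟩
      have hwe : (w : G) = g⁻¹ * y * g := hwe
      have hwz : (w : G) * z = z * w := Subgroup.mem_centralizer_singleton_iff.1 w.2
      refine Subtype.ext ?_
      show (x : G) * y = y * x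
      rw [hxe, show (y : G) = g * w * g⁻¹ by rw [hwe]; group]
      calc g * z * g⁻¹ * (g * w * g⁻¹) = g * (z * w) * g⁻¹ := by group
        _ = g * (w * z) * g⁻¹ := by rw [hwz]
        _ = g * w * g⁻¹ * (g * z * g⁻¹) := by group
    rcases hzs x hx hxc with h | h
    · exact absurd (show z = 1 by rw [hxe] at h; exact conj_eq_one_iff.1 h) (fun h => by simp [h] at hz)
    · rw [← hxe, h]
  have hgC : g ∈ C := Subgroup.mem_centralizer_singleton_iff.2 (mul_inv_eq_iff_eq_mul.1 hgz)
  have hle : (T : Subgroup C) ≤ (P : Subgroup G).subgroupOf C := fun x hx => hP ⟨x, hx, rfl⟩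
  have heq := T.is_maximal' (P.isPGroup'.comap_subtype) hle
  exact hgT ⟨⟨g, hgC⟩, heq ▸ (show (⟨g, hgC⟩ : C) ∈ (P : Subgroup G).subgroupOf C from hgP), rfl⟩

end Cfsg.Agent.S1717
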