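import Cfsg.Statements.S1733
import Cfsg.Agent.S1678
import Cfsg.Agent.Lib.Recog.Co3Inv.StdSetup

set_option autoImplicit false
open Cfsg

namespace Cfsg.Agent.S1733

/-- Let G be a non-abelian finite simple group which is locally balanced (the centralizer of every involution has no nontrivial normal subgroup of odd order) and has the strong B-property (every section of G has the B-property), and let L be a standard subgroup of G whose centre has order 2 with quotient isomorphic to the symplectic group of dimension 6 over the field with 2 elements. Then G is isomorphic to the third Conway group. -/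
theorem result {G : Type*} [Group G] [Finite G] [IsSimpleGroup G] (hG : ¬ IsMulCommutative G)
    (hbal : ∀ t : G, orderOf t = 2 → Cfsg.centralizerPPrimeCore 2 t = ⊥) (hB : Cfsg.HasStrongBProperty G)
    (L : Subgroup G) (hL : Cfsg.IsStandardSubgroup L)
    {F : Type*} [Field F] [Fintype F] (hF : Fintype.card F = 2) (hLX : (Nat.card ↥(Subgroup.center ↥L) = 2 ∧ Nonempty (↥L ⧸ Subgroup.center ↥L ≃* Cfsg.PSp 3 F))) :
    Cfsg.Spor.IsoCo3 G := by
  obtain ⟨hZ, ⟨q⟩⟩ := hLX
  let e : Matrix.symplecticGroup (Fin 3) (ZMod 2) ≃* Cfsg.PSp 3 F :=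
    (((QuotientGroup.quotientMulEquivOfEq CfsgLib.Golay.E8Cent.sp_center).trans
      QuotientGroup.quotientBot).symm).trans
      (CfsgLib.Classical.centerQuotCongr
        (CfsgLib.Classical.spCongr (ZMod.ringEquivOfPrime F Nat.prime_two hF)))
  obtain ⟨t, ht, hC⟩ :=
    CfsgLib.Recog.Co3Inv.exists_double_cover hG hbal hL hZ (q.trans e.symm)
  have hZG : Subgroup.center G = ⊥ :=
    (inferInstance : (Subgroup.center G).Normal).eq_bot_or_eq_top.resolve_right fun h =>
      hG ⟨⟨fun a b => (Subgroup.mem_center_iff.1 (h ▸ Subgroup.mem_top a) b).symm⟩⟩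
  have hO : Cfsg.oddCore G = ⊥ :=
    (Cfsg.pPrimeCore_normal 2 G).eq_bot_or_eq_top.resolve_right fun h => by
      have hodd : Odd (Nat.card (Cfsg.pPrimeCore 2 G)) := CfsgLib.Invol.odd_card_oddCore G
      rw [h, Subgroup.card_top] at hodd
      have h2 : (2 : ℕ) ∣ Nat.card G := ht ▸ orderOf_dvd_natCard t
      rw [Nat.odd_iff] at hodd
      omega
  exact Cfsg.Agent.S1678.result hO hZG t ht hC

end Cfsg.Agent.S1733
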