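import Cfsg.Statements.S3296
import Cfsg.Agent.Lib.Recog.M12Eight.Shape
import Cfsg.Agent.Lib.Recog.M12Eight.TypeZero
import Cfsg.Agent.Lib.Recog.M12Eight.Lift
import Cfsg.Agent.Lib.Recog.M12Eight.Embedded
import Cfsg.Agent.Lib.Recog.M12Eight.Quotient
-- import your own Cfsg.Agent.* helpers here

set_option autoImplicit false
open Cfsg

namespace Cfsg.Agent.S3296

/-- Let G be a finite non-abelian simple group whose Sylow 2-subgroups have order 64, with a Sylow 2-subgroup P containing an element f of order 8 whose centralizer in P is the cyclic group it generates and which is conjugate in P to each of its odd powers. If G has at least two conjugacy classes of involutions, then G is isomorphic to the Mathieu group M₁₂. -/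
theorem result {G : Type*} [Group G] [Finite G] [IsSimpleGroup G]
    (hna : ¬ IsMulCommutative G) (P : Sylow 2 G) (hP : Nat.card (P : Subgroup G) = 64)
    (f : G) (hfP : f ∈ (P : Subgroup G)) (hf : orderOf f = 8)
    (hself : ∀ x ∈ (P : Subgroup G), x * f = f * x → x ∈ Subgroup.zpowers f)
    (hodd : ∀ k ∈ ({3, 5, 7} : Set ℕ), ∃ x ∈ (P : Subgroup G), x * f * x⁻¹ = f ^ k)
    (htwo : ∃ s t : G, orderOf s = 2 ∧ orderOf t = 2 ∧ ¬ IsConj s t) :
    Nonempty (G ≃* Cfsg.Spor.M12) := by
  open CfsgLib.Recog.M12Eight in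
  obtain ⟨e, he, d, hd, m, hm, x, y₀, q₀, C₀⟩ := exists_coords (P : Subgroup G) hP hfP hf hself hodd
  open CfsgLib.Recog.M12Eight in
  obtain ⟨rfl, rfl, rfl, hx⟩ := type_zero hna he hd hm C₀
  open CfsgLib.Recog.M12Eight in
  obtain ⟨y, q, C, K⟩ := exists_classes hna C₀ hx htwo
  open CfsgLib.Recog.M12Eight in
  have hfive : FiveStmt C := five_of_dvd K fun n hn hnz =>
    five_dvd_of_fusion K (holdM C) (centralizer_z_le K) _ (QuotientGroup.mk'_surjective _)
      (odd_card_ker K) core_ker (exists_z_to_x K) n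
      (Subgroup.mem_centralizer_singleton_iff.1 hn) hnz (el_mem_holdM K 34)
  open CfsgLib.Recog.M12Eight in
  have hW : bigW C = ⊥ := bigW_eq_bot K hfive
  open CfsgLib.Recog.M12Eight in
  exact isoM12_of_simple K (⊤ : Subgroup G) le_top (⊤ : Subgroup G).subtype
    (fun g => ⟨⟨g, Subgroup.mem_top g⟩, rfl⟩)
    (by
      rw [Subgroup.ker_subtype, Subgroup.card_bot]
      exact odd_one)
    (fun g hg => by
      have h : (g : G) ∈ bigW C := cenCore_le_bigW (C := C) ⟨4, by norm_num, rfl, rfl⟩
        (fun h => absurd ((C.eq_one_iff (by norm_num)).1 h) (by norm_num)) hg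
      rw [hW, Subgroup.mem_bot] at h
      simpa using h)
    (let ⟨g, _, hg⟩ := exists_z_to_x K; ⟨g, Subgroup.mem_top g, hg⟩)

end Cfsg.Agent.S3296
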