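import Cfsg.Statements.S1741
import Cfsg.Agent.S3296
import Cfsg.Agent.Lib.Recog.M12Eight.SylowM12
-- import your own Cfsg.Agent.* helpers here

set_option autoImplicit false
open Cfsg

namespace Cfsg.Agent.S1741

/-- Let G be a finite simple group whose Sylow 2-subgroups are isomorphic to a Sylow 2-subgroup of the Mathieu group of degree 12, and suppose G has two involutions that are not conjugate. Then G is isomorphic to the Mathieu group of degree 12. -/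
theorem result {G : Type*} [Group G] [Finite G] [IsSimpleGroup G]
    (S : Sylow 2 G) (P : Sylow 2 ↥Cfsg.Spor.M12) (hS : Nonempty (↥(S : Subgroup G) ≃* ↥(P : Subgroup ↥Cfsg.Spor.M12)))
    (h2 : ∃ x y : G, orderOf x = 2 ∧ orderOf y = 2 ∧ ¬ IsConj x y) : Cfsg.Spor.IsoM12 G := by
  haveI : Fact (Nat.Prime 2) := ⟨Nat.prime_two⟩
  haveI : Finite ↥Cfsg.Spor.M12 :=
    Nat.finite_of_card_ne_zero (by rw [CfsgLib.Golay.card_sporM12]; norm_num)
  obtain ⟨P₀, f, hcard, hfP, hf, hself, hodd⟩ := CfsgLib.Recog.M12Eight.exists_sylow_eight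
  obtain ⟨e⟩ := hS
  let i : ↥(P₀ : Subgroup ↥Cfsg.Spor.M12) ≃* ↥(S : Subgroup G) := (P₀.equiv P).trans e.symm
  let g : ↥(S : Subgroup G) := i ⟨f, hfP⟩
  have hg : orderOf (g : G) = 8 := by
    rw [Subgroup.orderOf_coe, MulEquiv.orderOf_eq, Subgroup.orderOf_mk, hf]
  have hna : ¬ IsMulCommutative G := fun hc => by
    have hn : (Subgroup.zpowers ((g : G) ^ 4)).Normal :=
      ⟨fun n hn x => by rwa [hc.is_comm.comm x n, mul_inv_cancel_right]⟩
    have h4 : orderOf ((g : G) ^ 4) = 2 := by rw [orderOf_pow' _ (by norm_num), hg]; rfl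
    rcases IsSimpleGroup.eq_bot_or_eq_top_of_normal _ hn with h | h
    · rw [Subgroup.zpowers_eq_bot] at h
      rw [h, orderOf_one] at h4
      omega
    · have hG : Nat.card G = 2 := by rw [← Subgroup.card_top, ← h, Nat.card_zpowers, h4]
      have h8 : (8 : ℕ) ∣ Nat.card G := hg ▸ orderOf_dvd_natCard (g : G)
      rw [hG] at h8
      exact absurd (Nat.le_of_dvd two_pos h8) (by norm_num)
  refine Cfsg.Agent.S3296.result hna S ?_ (g : G) g.2 hg ?_ ?_ h2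
  · rw [← Nat.card_congr i.toEquiv, hcard]
  · intro x hx hcom
    have hc : (⟨x, hx⟩ : ↥(S : Subgroup G)) * g = g * ⟨x, hx⟩ := Subtype.ext hcom
    have hc' : i.symm ⟨x, hx⟩ * ⟨f, hfP⟩ = ⟨f, hfP⟩ * i.symm ⟨x, hx⟩ := by
      apply i.injective
      simpa [g] using hc
    obtain ⟨k, hk⟩ := Subgroup.mem_zpowers_iff.1 (hself _ (i.symm ⟨x, hx⟩).2 (congrArg Subtype.val hc'))
    refine Subgroup.mem_zpowers_iff.2 ⟨k, ?_⟩
    have hk' : (⟨f, hfP⟩ : ↥(P₀ : Subgroup ↥Cfsg.Spor.M12)) ^ k = i.symm ⟨x, hx⟩ :=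
      Subtype.ext (by rw [SubgroupClass.coe_zpow, hk])
    rw [← SubgroupClass.coe_zpow, show g ^ k = ⟨x, hx⟩ by rw [← map_zpow, hk', MulEquiv.apply_symm_apply]]
  · intro k hk
    obtain ⟨x, hx, hxk⟩ := hodd k hk
    refine ⟨(i ⟨x, hx⟩ : G), (i ⟨x, hx⟩).2, ?_⟩
    have hx' : (⟨x, hx⟩ : ↥(P₀ : Subgroup ↥Cfsg.Spor.M12)) * ⟨f, hfP⟩ * ⟨x, hx⟩⁻¹ = ⟨f, hfP⟩ ^ k :=
      Subtype.ext hxk
    have h := congrArg (fun y => ((i y : ↥(S : Subgroup G)) : G)) hx'
    simp only [map_mul, map_inv, map_pow, Subgroup.coe_mul, Subgroup.coe_inv, SubgroupClass.coe_pow] at h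
    exact h

end Cfsg.Agent.S1741
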