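import Cfsg.Statements.S1743
import Cfsg.Agent.Lib.G2TypeFusion.Main
import Cfsg.Agent.Lib.G2TypeFusion.Chev

set_option autoImplicit false
open Cfsg

namespace Cfsg.Agent.S1743

/-- Let G be a finite simple group whose Sylow 2-subgroups are isomorphic to a Sylow 2-subgroup of the Chevalley group of type G₂ over a finite field of odd order, and let S be a Sylow 2-subgroup of G. Then either all involutions of G are conjugate, or S has order 64 and the involutions of G form exactly two conjugacy classes. -/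
theorem result {G : Type*} [Group G] [Finite G] [IsSimpleGroup G]
    {F : Type*} [Field F] [Fintype F] (hF : Odd (Fintype.card F)) (S : Sylow 2 G) (P : Sylow 2 ↥(Cfsg.Lie.chevG2.group F))
    (hS : Nonempty (↥(S : Subgroup G) ≃* ↥(P : Subgroup ↥(Cfsg.Lie.chevG2.group F)))) :
    (∀ x y : G, orderOf x = 2 → orderOf y = 2 → IsConj x y) ∨
      (Nat.card ↥(S : Subgroup G) = 64 ∧ ∃ x y : G, orderOf x = 2 ∧ orderOf y = 2 ∧ ¬ IsConj x y ∧
        ∀ z : G, orderOf z = 2 → IsConj z x ∨ IsConj z y) := by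
  obtain ⟨n, hn, hN, φ, P₀, hφ, hr⟩ := CfsgLib.G2TypeFusion.exists_sylow hF
  haveI := hN
  haveI : NeZero (2 ^ n) := ⟨(Nat.two_pow_pos n).ne'⟩
  haveI : Fact (Nat.Prime 2) := ⟨Nat.prime_two⟩
  obtain ⟨e⟩ := hS
  let i : CfsgLib.G2TypeFusion.Mdl (2 ^ n) ≃* ↥(S : Subgroup G) :=
    (((MonoidHom.ofInjective hφ).trans (MulEquiv.subgroupCongr hr)).trans (P₀.equiv P)).trans e.symm
  let ψ : CfsgLib.G2TypeFusion.Mdl (2 ^ n) →* G := (S : Subgroup G).subtype.comp i.toMonoidHom
  have hψ : Function.Injective ψ := fun a b h => i.injective (Subtype.ext h)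
  have hrange : ψ.range = (S : Subgroup G) :=
    le_antisymm (by rintro _ ⟨a, rfl⟩; exact (i a).2)
      (fun s hs => ⟨i.symm ⟨s, hs⟩, by simp [ψ]⟩)
  rcases CfsgLib.G2TypeFusion.classes hn rfl S ψ hψ hrange with h | ⟨h4, h⟩
  · exact Or.inl h
  · refine Or.inr ⟨?_, h⟩
    rw [← Nat.card_congr i.toEquiv, CfsgLib.G2TypeFusion.Mdl.card_mdl, h4]
    norm_num

end Cfsg.Agent.S1743
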