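import Cfsg.Statements.S1753


set_option autoImplicit false
universe u
open Cfsg

namespace Cfsg.Agent.S1753

/-- Let K be any property of groups. (1) If G is a minimal counterexample relative to K — a finite non-abelian simple group not satisfying K such that every finite non-abelian simple group of smaller order satisfies K — then every proper subgroup of G is a K-group (all its non-abelian simple sections satisfy K), since such sections have smaller order than G. (2) Consequently (induction on the order), if every finite non-abelian simple group all of whose proper subgroups are K-groups satisfies K, then every finite non-abelian simple group satisfies K. -/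
theorem result (K : ∀ (X : Type u) [Group X], Prop) :
    (∀ (G : Type u) [Group G], Cfsg.IsMinCounterexampleWith K G → Cfsg.IsKProperWith K G) ∧
      ((∀ (X : Type u) [Group X] [Finite X], IsSimpleGroup X → ¬ IsMulCommutative X → Cfsg.IsKProperWith K X → K X) →
        ∀ (G : Type u) [Group G] [Finite G], IsSimpleGroup G → ¬ IsMulCommutative G → K G) := by
  refine ⟨fun G _ hG H hH => ?_, fun h => ?_⟩
  · obtain ⟨hfin, _, _, _, hmin⟩ := hG
    intro S N _ hS hA
    refine hmin _ hS hA ?_
    calc Nat.card (↥S ⧸ N) ≤ Nat.card ↥S := Nat.card_le_card_of_surjective _ (QuotientGroup.mk'_surjective N)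
      _ ≤ Nat.card ↥H := Nat.card_le_card_of_injective _ S.subtype_injective
      _ < Nat.card G := lt_of_le_of_ne (Nat.card_le_card_of_injective _ H.subtype_injective)
          (fun hc => hH ((Subgroup.card_eq_iff_eq_top H).mp hc))
  · suffices key : ∀ (n : ℕ) (G : Type u) [Group G] [Finite G], Nat.card G = n →
        IsSimpleGroup G → ¬ IsMulCommutative G → K G from
      fun G _ _ hs ha => key _ G rfl hs ha
    intro n
    induction n using Nat.strong_induction_on with
    | h n ih =>
      intro G _ _ hn hs ha
      refine h G hs ha (fun H hH => ?_)
      intro S N _ hS hA
      refine ih (Nat.card (↥S ⧸ N)) ?_ _ rfl hS hA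
      subst hn
      calc Nat.card (↥S ⧸ N) ≤ Nat.card ↥S := Nat.card_le_card_of_surjective _ (QuotientGroup.mk'_surjective N)
        _ ≤ Nat.card ↥H := Nat.card_le_card_of_injective _ S.subtype_injective
        _ < Nat.card G := lt_of_le_of_ne (Nat.card_le_card_of_injective _ H.subtype_injective)
            (fun hc => hH ((Subgroup.card_eq_iff_eq_top H).mp hc))

end Cfsg.Agent.S1753
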