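import Cfsg.Statements.S1755
import Cfsg.Agent.Lib.Comp.FStar

set_option autoImplicit false
set_option maxHeartbeats 1000000
open Cfsg

namespace Cfsg.Agent.S1755

theorem involution_unique {H : Type*} [Group H] [Finite H] [IsCyclic H] {x y : H}
    (hx : orderOf x = 2) (hy : orderOf y = 2) : x = y := by
  classical
  have := Fintype.ofFinite H
  have hle := IsCyclic.card_pow_eq_one_le (α := H) (n := 2) two_pos
  have hsub : ({1, x, y} : Finset H) ⊆ Finset.univ.filter (fun a => a ^ 2 = 1) := by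
    intro a ha
    simp only [Finset.mem_insert, Finset.mem_singleton] at ha
    rcases ha with rfl | rfl | rfl
    · simp
    · simp [← hx, pow_orderOf_eq_one]
    · simp [← hy, pow_orderOf_eq_one]
  by_contra hne
  have h1 : (1 : H) ≠ x := fun h => by simp [← h] at hx
  have h2 : (1 : H) ≠ y := fun h => by simp [← h] at hy
  have h3 := Finset.card_le_card hsub
  rw [Finset.card_insert_of_notMem (by simp [h1, h2]), Finset.card_pair hne] at h3
  omega

/-- In a characteristic subgroup of a symplectic-type group the only involution is `w`, for a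
central involution `w`. -/
theorem eq_of_symplectic {Q : Type*} [Group Q] [Finite Q] (hQ : Cfsg.IsOfSymplecticType Q)
    {B : Subgroup Q} (hBc : B.Characteristic) (hBa : IsMulCommutative B) {w b : Q}
    (hw : orderOf w = 2) (hwc : w ∈ Subgroup.center Q) (hb : b ∈ B) (hb2 : orderOf b = 2) :
    b = w := by
  have hBcyc := hQ.2 B hBc hBa
  have hbc : b ∈ Subgroup.center Q := by
    rw [Subgroup.mem_center_iff]
    intro q
    have hn : B.Normal := Subgroup.normal_of_characteristic B
    have hmem := hn.conj_mem b hb q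
    have := involution_unique (x := (⟨q * b * q⁻¹, hmem⟩ : B)) (y := ⟨b, hb⟩)
      (by rw [← Subgroup.orderOf_coe]; simpa using (MulAut.conj q).orderOf_eq b ▸ hb2)
      (by rw [← Subgroup.orderOf_coe]; exact hb2)
    exact mul_inv_eq_iff_eq_mul.mp (congrArg Subtype.val this)
  let A : Subgroup Q :=
    { carrier := {x | x ∈ Subgroup.center Q ∧ x ^ 2 = 1}
      mul_mem' := fun {x y} hx hy => ⟨mul_mem hx.1 hy.1, by
        rw [Commute.mul_pow (Subgroup.mem_center_iff.mp hx.1 y).symm, hx.2, hy.2, mul_one]⟩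
      one_mem' := ⟨one_mem _, one_pow _⟩
      inv_mem' := fun {x} hx => ⟨inv_mem hx.1, by rw [inv_pow, hx.2, inv_one]⟩ }
  have hAc : A.Characteristic := by
    rw [Subgroup.characteristic_iff_map_le]
    rintro φ _ ⟨x, ⟨hx, hx2⟩, rfl⟩
    refine ⟨?_, by rw [← map_pow, hx2, map_one]⟩
    exact Subgroup.characteristic_iff_map_le.mp (inferInstance : (Subgroup.center Q).Characteristic) φ
      ⟨x, hx, rfl⟩
  have hAa : IsMulCommutative A := ⟨⟨fun x y => Subtype.ext (Subgroup.mem_center_iff.mp y.2.1 x)⟩⟩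
  have := hQ.2 A hAc hAa
  exact congrArg Subtype.val (involution_unique
    (x := (⟨b, hbc, by rw [← hb2, pow_orderOf_eq_one]⟩ : A)) (y := ⟨w, hwc, by rw [← hw, pow_orderOf_eq_one]⟩)
    (by rw [← Subgroup.orderOf_coe]; exact hb2) (by rw [← Subgroup.orderOf_coe]; exact hw))

theorem ti_aux {G : Type*} [Group G] [Finite G] (z : G) (hz : orderOf z = 2) (C : Subgroup G)
    (hC : ∀ x : G, x ∈ C ↔ x * z = z * x) (Q : Subgroup ↥C) (hQn : Q.Normal) (hQ : Cfsg.IsOfSymplecticType ↥Q)
    (hzQ' : ∀ w : ↥C, w ∈ Subgroup.center ↥C → w ∈ Q)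
    (B : Subgroup ↥Q) (hBc : B.Characteristic) (hBa : IsMulCommutative ↥B) (g : G) :
    ((B.map Q.subtype).map C.subtype).map (MulAut.conj g).toMonoidHom = (B.map Q.subtype).map C.subtype ∨
      ((B.map Q.subtype).map C.subtype).map (MulAut.conj g).toMonoidHom ⊓ (B.map Q.subtype).map C.subtype = ⊥ := by
  set BG := (B.map Q.subtype).map C.subtype with hBG
  let zC : ↥C := ⟨z, (hC z).mpr rfl⟩
  have hzc : zC ∈ Subgroup.center ↥C := by
    rw [Subgroup.mem_center_iff]
    intro x
    exact Subtype.ext ((hC _).mp x.2)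
  have hzQ : zC ∈ Q := hzQ' zC hzc
  have hord : ∀ (x : ↥Q), orderOf ((x : ↥C) : G) = orderOf x := fun x => by
    rw [Subgroup.orderOf_coe, Subgroup.orderOf_coe]
  have hkey : ∀ x ∈ BG, orderOf x = 2 → x = z := by
    intro x hx hx2
    rw [hBG] at hx
    obtain ⟨_, ⟨b, hb, rfl⟩, rfl⟩ := hx
    have := eq_of_symplectic hQ hBc hBa (w := ⟨zC, hzQ⟩) (b := b)
      (by rw [← hord]; exact hz)
      (Subgroup.mem_center_iff.mpr fun q => Subtype.ext (Subgroup.mem_center_iff.mp hzc q))
      hb (by rw [← hord]; exact hx2)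
    rw [this]; rfl
  have hB2 : IsPGroup 2 ↥BG := hBG ▸ ((hQ.1.to_subgroup B).map Q.subtype).map C.subtype
  by_cases h : BG.map (MulAut.conj g).toMonoidHom ⊓ BG = ⊥
  · exact Or.inr h
  left
  have : Nontrivial ↥(BG.map (MulAut.conj g).toMonoidHom ⊓ BG : Subgroup G) :=
    (Subgroup.nontrivial_iff_ne_bot _).mpr h
  have : Fact (Nat.Prime 2) := ⟨Nat.prime_two⟩
  have h2 : 2 ∣ Nat.card ↥(BG.map (MulAut.conj g).toMonoidHom ⊓ BG : Subgroup G) := by
    obtain ⟨n, hn0, hn⟩ := (hB2.to_le inf_le_right).nontrivial_iff_card.mp ‹Nontrivial _›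
    rw [hn]; exact dvd_pow_self 2 hn0.ne'
  obtain ⟨⟨x, hx⟩, hx2⟩ := exists_prime_orderOf_dvd_card' 2 h2
  have hx2' : orderOf x = 2 := by rwa [Subgroup.orderOf_mk] at hx2
  obtain ⟨hxg, hxB⟩ := Subgroup.mem_inf.mp hx
  obtain ⟨y, hy, rfl⟩ := hxg
  have hy2 : orderOf y = 2 := by
    rw [← hx2']; exact ((MulAut.conj g).orderOf_eq y).symm
  have e1 : g * y * g⁻¹ = z := hkey _ hxB hx2'
  rw [hkey y hy hy2] at e1
  have hgC : g ∈ C := (hC g).mpr (mul_inv_eq_iff_eq_mul.mp e1)
  have hBn : (B.map Q.subtype).Normal := ConjAct.normal_of_characteristic_of_normal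
  rw [hBG]
  apply le_antisymm
  · rintro _ ⟨_, ⟨b, hb, rfl⟩, rfl⟩
    exact ⟨⟨g, hgC⟩ * b * ⟨g, hgC⟩⁻¹, hBn.conj_mem b hb ⟨g, hgC⟩, rfl⟩
  · rintro _ ⟨b, hb, rfl⟩
    refine ⟨C.subtype (⟨g, hgC⟩⁻¹ * b * ⟨g, hgC⟩), Subgroup.mem_map_of_mem _ ?_, ?_⟩
    · simpa using hBn.conj_mem b hb ⟨g, hgC⟩⁻¹
    · show g * (g⁻¹ * (b : G) * g) * g⁻¹ = b
      group

/-- Let G be a finite group and let z be an involution of G such that Q, the generalized Fitting subgroup of the centralizer C of z, is a 2-group of symplectic type (every characteristic abelian subgroup of Q is cyclic). Let B be a characteristic abelian subgroup of Q, viewed as a subgroup of G. Then for every g in G, the conjugate of B by g either equals B or meets B trivially. -/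
theorem result {G : Type*} [Group G] [Finite G] (z : G) (hz : orderOf z = 2) (hQ : Cfsg.IsOfSymplecticType ↥(Cfsg.generalizedFittingSubgroup ↥(Subgroup.centralizer ({z} : Set G))))
    (B : Subgroup ↥(Cfsg.generalizedFittingSubgroup ↥(Subgroup.centralizer ({z} : Set G)))) (hBc : B.Characteristic) (hBa : IsMulCommutative ↥B) (g : G) :
    ((B.map (Cfsg.generalizedFittingSubgroup ↥(Subgroup.centralizer ({z} : Set G))).subtype).map (Subgroup.centralizer ({z} : Set G)).subtype).map (MulAut.conj g).toMonoidHom =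
        (B.map (Cfsg.generalizedFittingSubgroup ↥(Subgroup.centralizer ({z} : Set G))).subtype).map (Subgroup.centralizer ({z} : Set G)).subtype ∨
      ((B.map (Cfsg.generalizedFittingSubgroup ↥(Subgroup.centralizer ({z} : Set G))).subtype).map (Subgroup.centralizer ({z} : Set G)).subtype).map (MulAut.conj g).toMonoidHom ⊓
        (B.map (Cfsg.generalizedFittingSubgroup ↥(Subgroup.centralizer ({z} : Set G))).subtype).map (Subgroup.centralizer ({z} : Set G)).subtype = ⊥ := by
  exact ti_aux z hz _ (fun x => Subgroup.mem_centralizer_singleton_iff) _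
    (CfsgLib.Comp.generalizedFittingSubgroup_normal _) hQ
    (fun w hw => CfsgLib.Comp.fittingSubgroup_le_generalizedFitting _
      ((le_sSup ⟨inferInstance, ⟨⟨1, Subgroup.upperCentralSeries_one_eq_top_iff.mpr inferInstance⟩⟩⟩ :
        Subgroup.center _ ≤ Cfsg.fittingSubgroup _) hw)) B hBc hBa g

end Cfsg.Agent.S1755
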