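import Cfsg.Statements.S1756
import Mathlib.GroupTheory.IndexNormal

set_option autoImplicit false
open Cfsg

namespace Cfsg.Agent.S1756

section
variable {P : Type*} [Group P] [Finite P]

/-- For an extraspecial 2-group and `W ≥ Z(P)`: `2|P| ≤ |W| |C(W)|`. -/
theorem card_centralizer_ge (hP : Cfsg.IsExtraspecial 2 P) (s : Finset P) :
    2 * Nat.card P ≤ Nat.card ↥(Subgroup.center P ⊔ Subgroup.closure (s : Set P)) *
      Nat.card ↥(Subgroup.centralizer (s : Set P)) := by
  classical
  induction s using Finset.induction with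
  | empty =>
    have h : Subgroup.centralizer ((∅ : Finset P) : Set P) = ⊤ := by
      ext x; simp [Subgroup.mem_centralizer_iff]
    rw [h, Subgroup.card_top, Finset.coe_empty, Subgroup.closure_empty, sup_bot_eq, hP.2]
  | insert w s _ ih =>
    set W := Subgroup.center P ⊔ Subgroup.closure (s : Set P) with hW
    set W' := Subgroup.center P ⊔ Subgroup.closure ((insert w s : Finset P) : Set P) with hW'
    set C := Subgroup.centralizer (s : Set P) with hC
    set C' := Subgroup.centralizer ((insert w s : Finset P) : Set P) with hC'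
    have hWW : W ≤ W' := sup_le_sup_left (Subgroup.closure_mono (by simp)) _
    have hCC : C' ≤ C := Subgroup.centralizer_le (by simp)
    by_cases hw : w ∈ W
    · have : C ≤ C' := by
        intro x hx
        rw [hC', Subgroup.mem_centralizer_iff]
        intro y hy
        rw [Finset.coe_insert] at hy
        rcases hy with rfl | hy
        · have hle : W ≤ Subgroup.centralizer ({x} : Set P) := by
            refine sup_le (fun c hc => ?_) ((Subgroup.closure_le _).mpr fun c hc => ?_)
            · exact Subgroup.mem_centralizer_singleton_iff.mpr (Subgroup.mem_center_iff.mp hc x).symm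
            · exact Subgroup.mem_centralizer_singleton_iff.mpr (Subgroup.mem_centralizer_iff.mp hx c hc)
          exact Subgroup.mem_centralizer_singleton_iff.mp (hle hw)
        · exact Subgroup.mem_centralizer_iff.mp hx y hy
      rw [le_antisymm hCC this]
      exact ih.trans (Nat.mul_le_mul_right _ (Subgroup.card_le_of_le hWW))
    · have hlt : 2 * Nat.card ↥W ≤ Nat.card ↥W' := by
        have hmem : w ∈ W' := Subgroup.mem_sup_right (Subgroup.subset_closure (by simp))
        obtain ⟨k, hk⟩ := Subgroup.card_dvd_of_le hWW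
        rw [hk, mul_comm 2]
        refine Nat.mul_le_mul_left _ ?_
        rcases k with _ | _ | k
        · rw [mul_zero] at hk; exact absurd hk (Nat.card_pos).ne'
        · exact absurd (Subgroup.eq_of_le_of_card_ge hWW (by omega) ▸ hmem) hw
        · omega
      have hcom : ∀ v : P, v * w * v⁻¹ * w⁻¹ ∈ Subgroup.center P := fun v => by
        rw [← hP.1.2.2]
        exact Subgroup.commutator_mem_commutator (Subgroup.mem_top v) (Subgroup.mem_top w)
      let f : ↥C →* ↥(Subgroup.center P) :=
        { toFun := fun v => ⟨v * w * (v : P)⁻¹ * w⁻¹, hcom v⟩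
          map_one' := by ext; simp
          map_mul' := fun a b => by
            ext
            show (a : P) * b * w * ((a : P) * b)⁻¹ * w⁻¹ =
              (a : P) * w * (a : P)⁻¹ * w⁻¹ * ((b : P) * w * (b : P)⁻¹ * w⁻¹)
            calc (a : P) * b * w * ((a : P) * b)⁻¹ * w⁻¹
                = (a : P) * ((b : P) * w * (b : P)⁻¹ * w⁻¹) * (w * (a : P)⁻¹ * w⁻¹) := by group
              _ = ((b : P) * w * (b : P)⁻¹ * w⁻¹) * (a : P) * (w * (a : P)⁻¹ * w⁻¹) := by
                  rw [Subgroup.mem_center_iff.mp (hcom b) (a : P)]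
              _ = ((b : P) * w * (b : P)⁻¹ * w⁻¹) * ((a : P) * w * (a : P)⁻¹ * w⁻¹) := by group
              _ = _ := (Subgroup.mem_center_iff.mp (hcom b) _).symm }
      have hker : Nat.card ↥f.ker ≤ Nat.card ↥C' := by
        refine Nat.card_le_card_of_injective (fun v => (⟨((v : ↥C) : P), ?_⟩ : ↥C'))
          (fun a b h => Subtype.ext (Subtype.ext (congrArg (fun z : ↥C' => (z : P)) h)))
        rw [hC', Subgroup.mem_centralizer_iff]
        intro y hy
        rw [Finset.coe_insert] at hy
        rcases hy with rfl | hy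
        · have h1 := congrArg Subtype.val (MonoidHom.mem_ker.mp v.2)
          exact (mul_inv_eq_iff_eq_mul.mp (mul_inv_eq_one.mp h1)).symm
        · exact Subgroup.mem_centralizer_iff.mp (v : ↥C).2 y hy
      have hC2 : Nat.card ↥C ≤ 2 * Nat.card ↥C' := by
        have hr : Nat.card ↥f.range ≤ 2 :=
          (Nat.card_le_card_of_injective _ f.range.subtype_injective).trans hP.2.le
        calc Nat.card ↥C = Nat.card ↥f.ker * f.ker.index := (Subgroup.card_mul_index _).symm
          _ = Nat.card ↥f.ker * Nat.card ↥f.range := by rw [Subgroup.index_ker]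
          _ ≤ Nat.card ↥C' * 2 := Nat.mul_le_mul hker hr
          _ = _ := mul_comm _ _
      calc 2 * Nat.card P ≤ Nat.card ↥W * Nat.card ↥C := ih
        _ ≤ Nat.card ↥W * (2 * Nat.card ↥C') := Nat.mul_le_mul_left _ hC2
        _ = (2 * Nat.card ↥W) * Nat.card ↥C' := by ring
        _ ≤ _ := Nat.mul_le_mul_right _ hlt

/-- An automorphism of an extraspecial 2-group whose square is trivial and which fixes a subgroup of
index at most 2 pointwise is inner. -/
theorem exists_conj (hP : Cfsg.IsExtraspecial 2 P) (α : P ≃* P) (hα : ∀ x, α (α x) = x)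
    (M : Subgroup P) (hM : M.index ≤ 2) (hfix : ∀ m ∈ M, α m = m) :
    ∃ u : P, ∀ x, α x = u * x * u⁻¹ := by
  classical
  by_cases hM1 : M.index = 1
  · refine ⟨1, fun x => ?_⟩
    rw [Subgroup.index_eq_one] at hM1
    simpa using hfix x (hM1 ▸ Subgroup.mem_top x)
  have hM2 : M.index = 2 := by
    have : M.index ≠ 0 := Subgroup.index_ne_zero_of_finite
    omega
  have hMn : M.Normal := Subgroup.normal_of_index_eq_two hM2
  have hZc : ∀ a b : P, a * b * a⁻¹ * b⁻¹ ∈ Subgroup.center P := fun a b => by
    rw [← hP.1.2.2]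
    exact Subgroup.commutator_mem_commutator (Subgroup.mem_top a) (Subgroup.mem_top b)
  have hdiv : ∀ a b : P, a ∈ Subgroup.center P → b ∈ Subgroup.center P → a ≠ 1 → b ≠ 1 → a = b := by
    intro a b ha hb ha1 hb1
    by_contra hne
    have h3 : ({⟨1, one_mem _⟩, ⟨a, ha⟩, ⟨b, hb⟩} : Finset ↥(Subgroup.center P)).card = 3 := by
      rw [Finset.card_insert_of_notMem (by simp [Ne.symm ha1, Ne.symm hb1]),
        Finset.card_pair (by simp [hne])]
    have : Fintype ↥(Subgroup.center P) := Fintype.ofFinite _
    have h4 := Finset.card_le_univ ({⟨1, one_mem _⟩, ⟨a, ha⟩, ⟨b, hb⟩} : Finset ↥(Subgroup.center P))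
    rw [h3, ← Nat.card_eq_fintype_card, hP.2] at h4
    omega
  obtain ⟨q, hq⟩ : ∃ q, q ∉ M := by
    by_contra h
    push Not at h
    exact hM1 (Subgroup.index_eq_one.mpr (top_le_iff.mp fun x _ => h x))
  set d := q⁻¹ * α q with hd
  have hαq : α q ∉ M := fun h => hq (by
    have := hfix _ h
    rw [hα] at this
    exact this ▸ h)
  have hdM : d ∈ M := (Subgroup.mul_mem_iff_of_index_two hM2).mpr (by simp [hq, hαq])
  have hαq' : α q = q * d := by rw [hd, mul_inv_cancel_left]
  have hd2 : d * d = 1 := by
    have := hα q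
    rw [hαq', map_mul, hαq', hfix d hdM, mul_assoc] at this
    exact mul_eq_left.mp this
  have hdq : d * q = q * d := by
    have h := hfix _ (Subgroup.mul_self_mem_of_index_two hM2 q)
    rw [map_mul, hαq', mul_assoc q d, mul_right_inj] at h
    calc d * q = d * (q * d) * d := by rw [mul_assoc d (q * d) d, mul_assoc q d d, hd2, mul_one]
      _ = q * d := by rw [h]
  have hdm : ∀ m ∈ M, d * m = m * d := by
    intro m hm
    have hn := hMn.conj_mem m hm q
    have h := hfix _ hn
    rw [map_mul, map_mul, map_inv, hfix m hm, hαq'] at h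
    have h2 : q * (d * m * d⁻¹) * q⁻¹ = q * m * q⁻¹ := by rw [← h]; group
    exact mul_inv_eq_iff_eq_mul.mp (mul_left_cancel (mul_right_cancel h2))
  have hcoset : ∀ x : P, x ∉ M → q⁻¹ * x ∈ M := fun x hx =>
    (Subgroup.mul_mem_iff_of_index_two hM2).mpr (by simp [hq, hx])
  have hdZ : d ∈ Subgroup.center P := by
    rw [Subgroup.mem_center_iff]
    intro x
    by_cases hx : x ∈ M
    · exact (hdm x hx).symm
    · have h := hdm _ (hcoset x hx)
      calc x * d = q * ((q⁻¹ * x) * d) := by group
        _ = q * (d * (q⁻¹ * x)) := by rw [h]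
        _ = (q * d) * (q⁻¹ * x) := by group
        _ = d * x := by rw [← hdq]; group
  by_cases hd1 : d = 1
  · refine ⟨1, fun x => ?_⟩
    rw [one_mul, inv_one, mul_one]
    by_cases hx : x ∈ M
    · exact hfix x hx
    · have := hfix _ (hcoset x hx)
      rw [map_mul, map_inv, hαq', hd1, mul_one, mul_right_inj] at this
      exact this
  obtain ⟨u, huC, huZ⟩ : ∃ u, u ∈ Subgroup.centralizer (M : Set P) ∧ u ∉ Subgroup.center P := by
    by_contra hcon
    push Not at hcon
    have : Fintype P := Fintype.ofFinite P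
    have h := card_centralizer_ge hP (Finset.univ.filter (fun x => x ∈ M))
    rw [Finset.coe_filter] at h
    simp only [Finset.mem_univ, true_and] at h
    have hs : {x | x ∈ M} = (M : Set P) := rfl
    rw [hs, Subgroup.closure_eq] at h
    have hW : Subgroup.center P ⊔ M = M := sup_eq_right.mpr (by
      intro c hc
      by_cases hc1 : c = 1
      · subst hc1; exact one_mem M
      · exact hdiv c d hc hdZ hc1 hd1 ▸ hdM)
    have h2 := (Nat.mul_le_mul_left (Nat.card ↥M) (Subgroup.card_le_of_le
      (K := Subgroup.center P) (fun x hx => hcon x hx)))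
    rw [hW] at h
    rw [hP.2] at h2
    have hcard := M.card_mul_index
    rw [hM2] at hcard
    have hpos : 0 < Nat.card P := Nat.card_pos
    omega
  refine ⟨u, fun x => ?_⟩
  have hum : ∀ m ∈ M, u * m * u⁻¹ = m := fun m hm => by
    rw [(Subgroup.mem_centralizer_iff.mp huC m hm).symm, mul_inv_cancel_right]
  have huq : u * q * u⁻¹ = q * d := by
    have hne : u * q * u⁻¹ * q⁻¹ ≠ 1 := by
      intro h
      rw [mul_inv_eq_one] at h
      apply huZ
      rw [Subgroup.mem_center_iff]
      intro y
      by_cases hy : y ∈ M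
      · exact Subgroup.mem_centralizer_iff.mp huC y hy
      · have h' := hum _ (hcoset y hy)
        have : u * y * u⁻¹ = y := by
          calc u * y * u⁻¹ = (u * q * u⁻¹) * (u * (q⁻¹ * y) * u⁻¹) := by group
            _ = q * (q⁻¹ * y) := by rw [h, h']
            _ = y := mul_inv_cancel_left q y
        exact (mul_inv_eq_iff_eq_mul.mp this).symm
    have := hdiv _ d (hZc u q) hdZ hne hd1
    rw [← hdq, ← this]; group
  by_cases hx : x ∈ M
  · rw [hfix x hx, hum x hx]
  · have h' := hum _ (hcoset x hx)
    have hf := hfix _ (hcoset x hx)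
    calc α x = α q * α (q⁻¹ * x) := by rw [← map_mul, mul_inv_cancel_left]
      _ = (u * q * u⁻¹) * (u * (q⁻¹ * x) * u⁻¹) := by rw [hαq', hf, huq, h']
      _ = u * x * u⁻¹ := by group

end

theorem mem_sup {G : Type*} [Group G] [Finite G] (Q : Subgroup G)
    (hQ : Cfsg.IsExtraspecial 2 ↥Q) (t : G) (ht : orderOf t = 2)
    (htN : t ∈ Subgroup.normalizer (Q : Set G))
    (hi : (Subgroup.centralizer ({t} : Set G) ⊓ Q).relIndex Q ≤ 2) :
    t ∈ Q ⊔ Subgroup.centralizer (Q : Set G) := by
  have htt : t * t = 1 := by rw [← pow_two, ← ht, pow_orderOf_eq_one]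
  have hti : t⁻¹ = t := inv_eq_of_mul_eq_one_right htt
  have hmem : ∀ x : ↥Q, t * (x : G) * t⁻¹ ∈ Q := fun x => (Subgroup.mem_normalizer_iff.mp htN x).mp x.2
  let α : ↥Q ≃* ↥Q :=
    { toFun := fun x => ⟨t * x * t⁻¹, hmem x⟩
      invFun := fun x => ⟨t * x * t⁻¹, hmem x⟩
      left_inv := fun x => Subtype.ext (show t * (t * (x : G) * t⁻¹) * t⁻¹ = x by
        rw [hti]; calc t * (t * (x : G) * t) * t = (t * t) * x * (t * t) := by group
          _ = x := by rw [htt, one_mul, mul_one])
      right_inv := fun x => Subtype.ext (show t * (t * (x : G) * t⁻¹) * t⁻¹ = x by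
        rw [hti]; calc t * (t * (x : G) * t) * t = (t * t) * x * (t * t) := by group
          _ = x := by rw [htt, one_mul, mul_one])
      map_mul' := fun x y => Subtype.ext (show t * ((x : G) * y) * t⁻¹ =
        (t * x * t⁻¹) * (t * y * t⁻¹) by group) }
  obtain ⟨u, hu⟩ := exists_conj hQ α α.left_inv
    ((Subgroup.centralizer ({t} : Set G) ⊓ Q).subgroupOf Q) hi (fun m hm => by
      apply Subtype.ext
      show t * (m : G) * t⁻¹ = m
      rw [← Subgroup.mem_centralizer_singleton_iff.mp (Subgroup.mem_inf.mp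
        (Subgroup.mem_subgroupOf.mp hm)).1, mul_inv_cancel_right])
  have hu' : ∀ x ∈ Q, t * x * t⁻¹ = (u : G) * x * (u : G)⁻¹ := fun x hx =>
    congrArg Subtype.val (hu ⟨x, hx⟩)
  have hc : (u : G)⁻¹ * t ∈ Subgroup.centralizer (Q : Set G) := by
    rw [Subgroup.mem_centralizer_iff]
    intro x hx
    calc x * ((u : G)⁻¹ * t) = (u : G)⁻¹ * ((u : G) * x * (u : G)⁻¹) * t := by group
      _ = (u : G)⁻¹ * (t * x * t⁻¹) * t := by rw [hu' x hx]
      _ = (u : G)⁻¹ * t * x := by group
  have := Subgroup.mul_mem_sup u.2 hc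
  rwa [mul_inv_cancel_left] at this

/-- Let Q be an extraspecial 2-subgroup of the finite group G (special with centre of order 2) and t an involution of G normalizing Q such that the centralizer of t in Q has index at most 2 in Q. Then t lies in the product of Q with the centralizer of Q. -/
theorem result {G : Type*} [Group G] [Finite G] (Q : Subgroup G)
    (hQ : Cfsg.IsExtraspecial 2 ↥Q) (t : G) (ht : orderOf t = 2) (htN : t ∈ Subgroup.normalizer (Q : Set G))
    (hi : (Subgroup.centralizer ({t} : Set G) ⊓ Q).relIndex Q ≤ 2) :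
    t ∈ Q ⊔ Subgroup.centralizer (Q : Set G) := by
  exact mem_sup Q hQ t ht htN hi

end Cfsg.Agent.S1756
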