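import Cfsg.Statements.S1757


set_option autoImplicit false
open Cfsg
open scoped Pointwise

namespace Cfsg.Agent.S1757

/-- Let p be a prime and A, B p-subgroups of the finite group G, each of which meets every conjugate of itself other than itself trivially. Suppose the order of A is at most that of B, A and B intersect trivially, and B normalizes A. Then A and B commute elementwise. -/
theorem result {G : Type*} [Group G] [Finite G] (p : ℕ) [Fact p.Prime] (A B : Subgroup G)
    (hA : IsPGroup p ↥A) (hB : IsPGroup p ↥B)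
    (hAti : ∀ g : G, A.map (MulAut.conj g).toMonoidHom = A ∨ A.map (MulAut.conj g).toMonoidHom ⊓ A = ⊥)
    (hBti : ∀ g : G, B.map (MulAut.conj g).toMonoidHom = B ∨ B.map (MulAut.conj g).toMonoidHom ⊓ B = ⊥)
    (hle : Nat.card ↥A ≤ Nat.card ↥B) (hAB : A ⊓ B = ⊥) (hN : B ≤ Subgroup.normalizer (A : Set G)) : ⁅A, B⁆ = ⊥ := by
  have hAn : ∀ b ∈ B, ∀ a ∈ A, b * a * b⁻¹ ∈ A := fun b hb a ha =>
    ((Subgroup.mem_normalizer_iff.mp (hN hb)) a).mp ha
  have hBn : ∀ a ∈ A, B.map (MulAut.conj a).toMonoidHom = B := by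
    intro a ha
    by_cases ha1 : a = 1
    · subst ha1; ext x; simp
    rcases hBti a with h | h
    · exact h
    exfalso
    set B' := B.map (MulAut.conj a).toMonoidHom with hB'
    let f : ↥B' × ↥B → ↥(A ⊔ B) := fun p => ⟨(p.1 : G) * (p.2 : G), by
      obtain ⟨b, hb, hb2⟩ := p.1.2
      refine mul_mem ?_ (Subgroup.mem_sup_right p.2.2)
      rw [← hb2]
      exact mul_mem (mul_mem (Subgroup.mem_sup_left ha) (Subgroup.mem_sup_right hb))
        (inv_mem (Subgroup.mem_sup_left ha))⟩
    have hf : Function.Injective f := fun p q hpq =>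
      Subgroup.mul_injective_of_disjoint (disjoint_iff.mpr h) (congrArg Subtype.val hpq)
    have hinj := Nat.card_le_card_of_injective f hf
    rw [Nat.card_prod, hB', Subgroup.card_map_of_injective (MulAut.conj a).injective] at hinj
    let g : ↥A × ↥B → ↥(A ⊔ B) := fun p => ⟨(p.1 : G) * (p.2 : G),
      mul_mem (Subgroup.mem_sup_left p.1.2) (Subgroup.mem_sup_right p.2.2)⟩
    have hg : Function.Surjective g := by
      intro x
      have hx : (x : G) ∈ ((A : Set G) * (B : Set G)) := by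
        rw [← Subgroup.coe_mul_of_right_le_normalizer_left A B hN]
        exact x.2
      obtain ⟨u, hu, v, hv, huv⟩ := Set.mem_mul.mp hx
      exact ⟨(⟨u, hu⟩, ⟨v, hv⟩), Subtype.ext huv⟩
    have hsur := Nat.card_le_card_of_surjective g hg
    rw [Nat.card_prod] at hsur
    have hcard : Nat.card ↥(A ⊔ B) = Nat.card ↥B * Nat.card ↥B :=
      le_antisymm (hsur.trans (Nat.mul_le_mul_right _ hle)) hinj
    have hfs : Function.Surjective f :=
      ((Nat.bijective_iff_injective_and_card f).mpr ⟨hf, by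
        rw [Nat.card_prod, hB', Subgroup.card_map_of_injective (MulAut.conj a).injective, hcard]⟩).2
    obtain ⟨⟨⟨_, b', hb', rfl⟩, ⟨b, hb⟩⟩, hp⟩ := hfs ⟨a, Subgroup.mem_sup_left ha⟩
    have hp' : a * b' * a⁻¹ * b = a := congrArg Subtype.val hp
    have h1 : b' * a⁻¹ * b = 1 := mul_left_cancel (a := a) (by simpa [mul_assoc] using hp')
    have hab : a = b * b' := by
      have h3 : a⁻¹ = b'⁻¹ * b⁻¹ := by
        calc a⁻¹ = b'⁻¹ * (b' * a⁻¹ * b) * b⁻¹ := by group
          _ = b'⁻¹ * b⁻¹ := by rw [h1]; group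
      calc a = (a⁻¹)⁻¹ := (inv_inv a).symm
        _ = b * b' := by rw [h3]; group
    exact ha1 (Subgroup.mem_bot.mp (hAB ▸ Subgroup.mem_inf.mpr ⟨ha, hab ▸ mul_mem hb hb'⟩))
  rw [eq_bot_iff, ← hAB, Subgroup.commutator_le]
  intro a ha b hb
  rw [commutatorElement_def]
  refine Subgroup.mem_inf.mpr ⟨?_, ?_⟩
  · have := mul_mem ha (hAn b hb _ (inv_mem ha))
    simpa [mul_assoc] using this
  · refine mul_mem ?_ (inv_mem hb)
    rw [← hBn a ha]
    exact ⟨b, hb, rfl⟩

end Cfsg.Agent.S1757
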