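import Cfsg.Statements.S1774
import Cfsg.Agent.Lib.ClassK.SympConj

set_option autoImplicit false
open Cfsg

namespace Cfsg.Agent.S1774

open Subgroup
open scoped commutatorElement

/-- The hypotheses give the symplectic setting. -/
theorem setting {G : Type*} [Group G] [Finite G] (z : G) (hz : orderOf z = 2)
    (hQ : Cfsg.IsOfSymplecticType ↥(Cfsg.generalizedFittingSubgroup ↥(centralizer ({z} : Set G))))
    (h4 : ∀ q ∈ (Cfsg.generalizedFittingSubgroup ↥(centralizer ({z} : Set G))).map
      (centralizer ({z} : Set G)).subtype, q ^ 4 = 1) :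
    CfsgLib.ClassK.SympSetting ((Cfsg.generalizedFittingSubgroup ↥(centralizer ({z} : Set G))).map
      (centralizer ({z} : Set G)).subtype) z := by
  classical
  set C := centralizer ({z} : Set G) with hC
  set F := Cfsg.generalizedFittingSubgroup C with hF
  haveI : F.Normal := CfsgLib.Comp.generalizedFittingSubgroup_normal C
  have hz2 : z ^ 2 = 1 := hz ▸ pow_orderOf_eq_one z
  have hz1 : z ≠ 1 := fun h => by rw [h, orderOf_one] at hz; omega
  have hFC : centralizer (F : Set C) ≤ F := CfsgLib.Comp.centralizer_generalizedFitting_le C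
  have hzC : z ∈ C := mem_centralizer_singleton_iff.2 rfl
  have hzF : (⟨z, hzC⟩ : C) ∈ F := hFC (mem_centralizer_iff.2 fun f _ =>
    Subtype.ext (mem_centralizer_singleton_iff.1 f.2))
  have h4F : ∀ x : F, x ^ 4 = 1 := fun x =>
    Subtype.ext (Subtype.ext (h4 _ ⟨x, x.2, rfl⟩))
  have hclass := CfsgLib.ClassK.symplectic_commutator_le_center hQ h4F
  have hcen : ∀ x y : F, ⁅x, y⁆ ∈ center F := fun x y =>
    hclass (_root_.commutator_def F ▸ commutator_mem_commutator (mem_top x) (mem_top y))
  haveI hcyc : IsCyclic (center F) := hQ.2 _ inferInstance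
    ⟨⟨fun a b => Subtype.ext (mem_center_iff.1 b.2 a)⟩⟩
  have hzc : (⟨⟨z, hzC⟩, hzF⟩ : F) ∈ center F := mem_center_iff.2 fun f =>
    Subtype.ext (Subtype.ext (mem_centralizer_singleton_iff.1 (f : C).2))
  have hinv : ∀ w ∈ center F, w ^ 2 = 1 → ((w : C) : G) ∈ zpowers z := by
    intro w hw hw2
    by_contra hne
    haveI := Fintype.ofFinite (center F)
    have h := IsCyclic.card_pow_eq_one_le (α := center F) (n := 2) two_pos
    have hsub : ({1, ⟨w, hw⟩, ⟨_, hzc⟩} : Finset (center F)) ⊆
        Finset.univ.filter (fun a => a ^ 2 = 1) := by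
      intro a ha
      simp only [Finset.mem_insert, Finset.mem_singleton] at ha
      simp only [Finset.mem_filter, Finset.mem_univ, true_and]
      rcases ha with rfl | rfl | rfl
      · exact one_pow 2
      · exact Subtype.ext hw2
      · exact Subtype.ext (Subtype.ext (Subtype.ext hz2))
    have h3 := (Finset.card_le_card hsub).trans h
    rw [Finset.card_insert_of_notMem, Finset.card_pair] at h3
    · omega
    · exact fun e => hne (by
        rw [show w = ⟨⟨z, hzC⟩, hzF⟩ from congrArg Subtype.val e]; exact mem_zpowers z)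
    · simp only [Finset.mem_insert, Finset.mem_singleton, not_or]
      refine ⟨fun e => hne ?_, fun e => hz1 ?_⟩
      · rw [show w = 1 from (congrArg Subtype.val e).symm]; exact one_mem _
      · exact (congrArg (fun a : center F => (((a : F) : C) : G)) e).symm
  have hcq : centralizer ((F.map C.subtype : Subgroup G) : Set G) ≤
      ((center F).map F.subtype).map C.subtype := by
    intro x hx
    have hxC : x ∈ C := mem_centralizer_singleton_iff.2
      (mem_centralizer_iff.1 hx z ⟨_, hzF, rfl⟩).symm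
    have hxF : (⟨x, hxC⟩ : C) ∈ F := hFC (mem_centralizer_iff.2 fun f hf =>
      Subtype.ext (mem_centralizer_iff.1 hx f ⟨f, hf, rfl⟩))
    exact ⟨_, ⟨⟨_, hxF⟩, mem_center_iff.2 fun f => Subtype.ext (Subtype.ext
      (mem_centralizer_iff.1 hx _ ⟨f, f.2, rfl⟩)), rfl⟩, rfl⟩
  have hcq' : ((center F).map F.subtype).map C.subtype ≤
      centralizer ((F.map C.subtype : Subgroup G) : Set G) := by
    rintro _ ⟨_, ⟨c, hc, rfl⟩, rfl⟩
    refine mem_centralizer_iff.2 ?_
    rintro _ ⟨f, hf, rfl⟩
    exact congrArg (fun a : F => ((a : C) : G)) (mem_center_iff.1 hc ⟨f, hf⟩)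
  exact
  { sq_z := hz2
    ne_one := hz1
    mem := ⟨_, hzF, rfl⟩
    le_centralizer := map_subtype_le F
    le_normalizer := by
      have h1 := Subgroup.le_normalizer_map C.subtype (H := F)
      rwa [normalizer_eq_top, ← MonoidHom.range_eq_map, range_subtype] at h1
    self := hcq.trans (map_mono (map_subtype_le _))
    maximal := fun N hNC hn hp => by
      haveI : (N.subgroupOf C).Normal := normal_subgroupOf_of_le_normalizer hn
      have h1 : N.subgroupOf C ≤ F := (le_sSup ⟨inferInstance, hp.comap_subtype⟩ :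
          N.subgroupOf C ≤ Cfsg.pCore 2 C).trans
        (haveI : Fact (Nat.Prime 2) := ⟨Nat.prime_two⟩
         (CfsgLib.Solvable.pCore_le_fittingSubgroup 2).trans
          (CfsgLib.Comp.fittingSubgroup_le_generalizedFitting C))
      exact (map_subgroupOf_eq_of_le hNC).ge.trans (map_mono h1)
    isPGroup := hQ.1.map C.subtype
    comm_mem := by
      rintro _ ⟨q, hq, rfl⟩ _ ⟨r, hr, rfl⟩
      rw [← map_commutatorElement]
      exact hinv _ (hcen ⟨q, hq⟩ ⟨r, hr⟩)
        (CfsgLib.ClassK.sq_commutator_eq_one h4F hcen ⟨r, hr⟩ ⟨q, hq⟩)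
    sq_mem := by
      rintro _ ⟨q, hq, rfl⟩
      refine hcq' ⟨q ^ 2, ⟨⟨q, hq⟩ ^ 2, mem_center_iff.2 fun v => ?_, rfl⟩, map_pow _ _ _⟩
      set x : F := ⟨q, hq⟩ with hx
      set k := ⁅v, x⁆ with hk
      have hkc : ∀ g, g * k = k * g := mem_center_iff.1 (hcen v x)
      have hvx : v * x = k * (x * v) := by rw [hk, commutatorElement_def]; group
      have hk2 : k ^ 2 = 1 := CfsgLib.ClassK.sq_commutator_eq_one h4F hcen x v
      calc v * x ^ 2 = (v * x) * x := by rw [pow_two, mul_assoc]
        _ = k * (x * (v * x)) := by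
            conv_lhs => rw [hvx]
            group
        _ = k * ((x * k) * (x * v)) := by rw [hvx]; group
        _ = k * ((k * x) * (x * v)) := by rw [hkc x]
        _ = k ^ 2 * (x ^ 2 * v) := by rw [pow_two, pow_two]; group
        _ = _ := by rw [hk2, one_mul]
    pow_four := h4
    cyclic := by
      rw [le_antisymm hcq hcq']
      exact ((center F).equivMapOfInjective _ F.subtype_injective).trans
        (((center F).map F.subtype).equivMapOfInjective _ C.subtype_injective) |>.isCyclic.1 hcyc }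



/-- Let G be a finite group and let z be an involution of G such that Q, the generalized Fitting subgroup of the centralizer C of z, is a 2-group of symplectic type (every characteristic abelian subgroup of Q is cyclic); suppose every element of Q has order dividing 4. Let g ∈ G with z' = g z g⁻¹ ≠ z and z' ∈ Q. Then z lies in the conjugate g Q g⁻¹, and the subgroup X generated by Q and g Q g⁻¹ induces every automorphism of the four-group generated by z and z': for any two distinct non-identity elements u, v of that four-group there is x ∈ X with x z x⁻¹ = u and x z' x⁻¹ = v. -/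
theorem result {G : Type*} [Group G] [Finite G] (z : G) (hz : orderOf z = 2) (hQ : Cfsg.IsOfSymplecticType ↥(Cfsg.generalizedFittingSubgroup ↥(Subgroup.centralizer ({z} : Set G))))
    (h4 : ∀ q ∈ (Cfsg.generalizedFittingSubgroup ↥(Subgroup.centralizer ({z} : Set G))).map (Subgroup.centralizer ({z} : Set G)).subtype, q ^ 4 = 1) (g : G) (hne : g * z * g⁻¹ ≠ z) (hin : g * z * g⁻¹ ∈ (Cfsg.generalizedFittingSubgroup ↥(Subgroup.centralizer ({z} : Set G))).map (Subgroup.centralizer ({z} : Set G)).subtype) :
    z ∈ ((Cfsg.generalizedFittingSubgroup ↥(Subgroup.centralizer ({z} : Set G))).map (Subgroup.centralizer ({z} : Set G)).subtype).map (MulAut.conj g).toMonoidHom ∧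
      ∀ u ∈ Subgroup.closure ({z, g * z * g⁻¹} : Set G), ∀ v ∈ Subgroup.closure ({z, g * z * g⁻¹} : Set G),
        u ≠ 1 → v ≠ 1 → u ≠ v →
          ∃ x ∈ (Cfsg.generalizedFittingSubgroup ↥(Subgroup.centralizer ({z} : Set G))).map (Subgroup.centralizer ({z} : Set G)).subtype ⊔ ((Cfsg.generalizedFittingSubgroup ↥(Subgroup.centralizer ({z} : Set G))).map (Subgroup.centralizer ({z} : Set G)).subtype).map (MulAut.conj g).toMonoidHom, x * z * x⁻¹ = u ∧ x * (g * z * g⁻¹) * x⁻¹ = v := by
  classical
  set Q := (Cfsg.generalizedFittingSubgroup ↥(centralizer ({z} : Set G))).map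
    (centralizer ({z} : Set G)).subtype with hQdef
  have S := setting z hz hQ h4
  rw [← hQdef] at S
  set R := Q.map (MulAut.conj g).toMonoidHom with hR
  set z' := g * z * g⁻¹ with hz'
  have S' : CfsgLib.ClassK.SympSetting R z' := S.map_conj g
  have hcardC : Nat.card (centralizer ({z} : Set G)) = Nat.card (centralizer ({z'} : Set G)) := by
    rw [hz', ← CfsgLib.ClassK.SympSetting.centralizer_map_conj,
      card_map_of_injective (MulAut.conj g).injective]
  have hzR : z ∈ R := CfsgLib.ClassK.SympSetting.mem_of_setting S S' hin hne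
    (card_map_of_injective (MulAut.conj g).injective) hcardC
  refine ⟨hzR, ?_⟩
  obtain ⟨q, hq, hqz⟩ := CfsgLib.ClassK.SympSetting.exists_comm_eq S S' hin hne
  obtain ⟨r, hr, hrz⟩ :=
    CfsgLib.ClassK.SympSetting.exists_comm_eq S' S hzR hne.symm
  have hc : Commute z z' := (S.commute_z hin).symm
  have hzz : z * z = 1 := by rw [← pow_two, S.sq_z]
  have hzz' : z' * z' = 1 := by rw [← pow_two, S'.sq_z]
  have hqz1 : q * z * q⁻¹ = z := by rw [(S.commute_z hq).eq, mul_inv_cancel_right]
  have hrz1 : r * z' * r⁻¹ = z' := by rw [(S'.commute_z hr).eq, mul_inv_cancel_right]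
  have hqz2 : q * z' * q⁻¹ = z * z' := by
    rw [commutatorElement_def, mul_inv_eq_iff_eq_mul] at hqz
    exact hqz
  have hrz2 : r * z * r⁻¹ = z * z' := by
    rw [commutatorElement_def, mul_inv_eq_iff_eq_mul] at hrz
    rw [hrz, hc.eq]
  have hmem : ∀ u ∈ closure ({z, z'} : Set G), u = 1 ∨ u = z ∨ u = z' ∨ u = z * z' := by
    intro u hu
    have hmul : ∀ w, (w = 1 ∨ w = z ∨ w = z' ∨ w = z * z') →
        ∀ v, (v = z ∨ v = z') → (w * v = 1 ∨ w * v = z ∨ w * v = z' ∨ w * v = z * z') := by
      rintro w (rfl | rfl | rfl | rfl) v (rfl | rfl)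
      · exact Or.inr (Or.inl (one_mul _))
      · exact Or.inr (Or.inr (Or.inl (one_mul _)))
      · exact Or.inl hzz
      · exact Or.inr (Or.inr (Or.inr rfl))
      · exact Or.inr (Or.inr (Or.inr hc.eq.symm))
      · exact Or.inl hzz'
      · refine Or.inr (Or.inr (Or.inl ?_))
        rw [hc.eq, mul_assoc, hzz, mul_one]
      · refine Or.inr (Or.inl ?_)
        rw [mul_assoc, hzz', mul_one]
    induction hu using closure_induction_right with
    | one => exact Or.inl rfl
    | mul_right x _ y hy ih => exact hmul x ih y (by simpa using hy)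
    | mul_inv_cancel x _ y hy ih =>
      refine hmul x ih y⁻¹ ?_
      rcases (by simpa using hy : y = z ∨ y = z') with rfl | rfl
      · exact Or.inl S.inv_z
      · exact Or.inr S'.inv_z
  have hX : ∀ x ∈ Q ⊔ R, ∀ u v : G, x * z * x⁻¹ = u → x * z' * x⁻¹ = v →
      ∃ x ∈ Q ⊔ R, x * z * x⁻¹ = u ∧ x * z' * x⁻¹ = v := fun x hx _ _ h1 h2 => ⟨x, hx, h1, h2⟩
  have hqX : q ∈ Q ⊔ R := mem_sup_left hq
  have hrX : r ∈ Q ⊔ R := mem_sup_right hr
  have hconj : ∀ a b w : G, (a * b) * w * (a * b)⁻¹ = a * (b * w * b⁻¹) * a⁻¹ := fun a b w => by group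
  have hmulconj : ∀ a x y : G, a * (x * y) * a⁻¹ = (a * x * a⁻¹) * (a * y * a⁻¹) := fun a x y => by group
  have hqzz : q * (z * z') * q⁻¹ = z' := by
    rw [hmulconj, hqz1, hqz2, ← mul_assoc, hzz, one_mul]
  have hrzz : r * (z * z') * r⁻¹ = z := by
    rw [hmulconj, hrz1, hrz2, mul_assoc, hzz', mul_one]
  have e1 := hX 1 (one_mem _) z z' (by simp) (by simp)
  have e2 := hX q hqX _ _ hqz1 hqz2
  have e3 := hX r hrX _ _ hrz2 hrz1
  have e4 := hX (r * q) (mul_mem hrX hqX) (z * z') z (by rw [hconj, hqz1, hrz2])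
    (by rw [hconj, hqz2, hrzz])
  have e5 := hX (q * r) (mul_mem hqX hrX) z' (z * z') (by rw [hconj, hrz2, hqzz])
    (by rw [hconj, hrz1, hqz2])
  have e6 := hX (q * r * q) (mul_mem (mul_mem hqX hrX) hqX) z' z
    (by rw [hconj, hqz1, hconj, hrz2, hqzz]) (by rw [hconj, hqz2, hconj, hrzz, hqz1])
  intro u hu v hv hu1 hv1 huv
  rcases hmem u hu with rfl | rfl | rfl | rfl
  · exact absurd rfl hu1
  all_goals rcases hmem v hv with rfl | rfl | rfl | rfl
  all_goals first
    | exact absurd rfl hv1
    | exact absurd rfl huv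
    | exact e1
    | exact e2
    | exact e3
    | exact e4
    | exact e5
    | exact e6

end Cfsg.Agent.S1774
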