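import Cfsg.Statements.S1775
import Cfsg.Agent.Lib.Comp.NonQuasisimpleBalance
import Cfsg.Agent.Lib.Comp.BComponent
-- import your own Cfsg.Agent.* helpers here

set_option autoImplicit false
set_option linter.style.haveILetI false
set_option maxHeartbeats 800000
open Cfsg
open scoped commutatorElement

namespace Cfsg.Agent.S1775

/-- Let G be a finite group whose generalized Fitting subgroup is a non-abelian simple group and in which every proper section (every quotient H/N of a proper subgroup H, or of G by a nontrivial normal subgroup) has the B-property. Let x, y be commuting involutions, let D be the intersection of the 2-layer of C_G(x) with C_G(y), and let J be a 2-component of D. Write Q for the quotient of C_G(y) by its largest normal odd-order subgroup. Then (i) the image of J in Q is a component of the centralizer in Q of the image of x; and (ii) for every J-invariant subgroup E of odd order of C_G(x) ∩ C_G(y), the commutator subgroup [J, E] lies in the largest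 normal odd-order subgroup of C_G(y). -/
theorem result {G : Type*} [Group G] [Finite G]
    (hF : IsSimpleGroup ↥(Cfsg.generalizedFittingSubgroup G)) (hF' : ¬ IsMulCommutative ↥(Cfsg.generalizedFittingSubgroup G))
    (hsec : ∀ (H : Subgroup G) (N : Subgroup ↥H) [N.Normal], (H ≠ ⊤ ∨ N ≠ ⊥) → Cfsg.HasBProperty (↥H ⧸ N))
    (x y : G) (hx : orderOf x = 2) (hy : orderOf y = 2) (hxy : x * y = y * x)
    (J : Subgroup ↥((Cfsg.pLayer 2 ↥(Subgroup.centralizer ({x} : Set G))).map (Subgroup.centralizer ({x} : Set G)).subtype ⊓ Subgroup.centralizer ({y} : Set G)))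
    (hJ : Cfsg.IsPComponent 2 J) :
    Cfsg.IsComponent
        ((((J.map (Subgroup.subtype _)).subgroupOf (Subgroup.centralizer ({y} : Set G))).map (QuotientGroup.mk' (Cfsg.oddCore ↥(Subgroup.centralizer ({y} : Set G))))).subgroupOf
          (Subgroup.centralizer ({(QuotientGroup.mk' (Cfsg.oddCore ↥(Subgroup.centralizer ({y} : Set G))) ⟨x, Subgroup.mem_centralizer_singleton_iff.mpr hxy⟩ : ↥(Subgroup.centralizer ({y} : Set G)) ⧸ Cfsg.oddCore ↥(Subgroup.centralizer ({y} : Set G)))} : Set _))) ∧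
      ∀ E : Subgroup G, E ≤ Subgroup.centralizer ({x} : Set G) ⊓ Subgroup.centralizer ({y} : Set G) → Odd (Nat.card ↥E) →
        (∀ j ∈ J.map (Subgroup.subtype _), ∀ e ∈ E, j * e * j⁻¹ ∈ E) →
          ⁅J.map (Subgroup.subtype _), E⁆ ≤ (Cfsg.oddCore ↥(Subgroup.centralizer ({y} : Set G))).map (Subgroup.centralizer ({y} : Set G)).subtype := by
  open Subgroup CfsgLib.Comp in
  haveI : Fact (Nat.Prime 2) := ⟨Nat.prime_two⟩
  revert J hJ
  set Cx := centralizer ({x} : Set G)
  set Cy := centralizer ({y} : Set G)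
  set O := Cfsg.oddCore ↥Cy with hOdef
  haveI : O.Normal := Cfsg.pPrimeCore_normal 2 ↥Cy
  set q := QuotientGroup.mk' O with hq
  -- the centralizer of y is proper
  have hyne : Cy ≠ ⊤ := by
    intro e
    have hcen : y ∈ center G := mem_center_iff.2 fun g => mem_centralizer_singleton_iff.1 (e ▸ mem_top g : g ∈ Cy)
    have hle : zpowers y ≤ Cfsg.fittingSubgroup G := le_fittingSubgroup_of_isSubnormal
      (Normal.isSubnormal ⟨fun a ha g => by
        obtain ⟨i, rfl⟩ := ha
        rw [mem_center_iff.1 (zpow_mem hcen i) g, mul_inv_cancel_right]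
        exact ⟨i, rfl⟩⟩) ((IsPGroup.of_card (p := 2) (n := 1) (by rw [Nat.card_zpowers, hy, pow_one]) : IsPGroup 2 ↥(zpowers y)).isNilpotent)
    set F := Cfsg.generalizedFittingSubgroup G
    have hyF : y ∈ F := fittingSubgroup_le_generalizedFitting G (hle (mem_zpowers y))
    haveI := hF
    have hy' : (⟨y, hyF⟩ : ↥F) ∈ center ↥F := mem_center_iff.2 fun g => Subtype.ext (mem_center_iff.1 hcen g)
    rcases IsSimpleGroup.eq_bot_or_eq_top_of_normal (center ↥F) inferInstance with h | h
    · rw [h, mem_bot] at hy'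
      rw [show y = 1 from congrArg Subtype.val hy', orderOf_one] at hy
      omega
    · exact hF' (center_eq_top_iff.1 h)
  have hBQ : Cfsg.HasBProperty (↥Cy ⧸ O) := hsec Cy O (Or.inl hyne)
  have hOQ : Cfsg.oddCore (↥Cy ⧸ O) = ⊥ := pPrimeCore_quotient_eq_bot 2 ↥Cy
  set xq : ↥Cy := ⟨x, mem_centralizer_singleton_iff.mpr hxy⟩ with hxq
  have hxord : orderOf (q xq) = 2 := by
    have h1 : orderOf (q xq) ∣ 2 := by
      have := orderOf_map_dvd q xq
      rwa [hxq, Subgroup.orderOf_mk, hx] at this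
    rcases (Nat.dvd_prime Nat.prime_two).1 h1 with h | h
    · exfalso
      have h2 : xq ∈ O := (QuotientGroup.eq_one_iff _).1 (orderOf_eq_one_iff.1 h)
      have h3 := Subgroup.orderOf_dvd_natCard O h2
      rw [hxq, Subgroup.orderOf_mk, hx] at h3
      exact (Nat.prime_two.coprime_iff_not_dvd.1 (coprime_card_pPrimeCore 2 ↥Cy).symm) h3
    · exact h
  set Q0 := centralizer ({q xq} : Set (↥Cy ⧸ O)) with hQ0
  set D := (Cfsg.pLayer 2 ↥Cx).map Cx.subtype ⊓ Cy
  intro J hJ
  -- D inside the double centralizer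
  let ι : ↥D →* ↥Q0 := MonoidHom.codRestrict (q.comp (inclusion (inf_le_right : D ≤ Cy))) Q0 fun d => by
    rw [hQ0, mem_centralizer_singleton_iff, MonoidHom.comp_apply, ← map_mul, ← map_mul]
    congr 1
    exact Subtype.ext (mem_centralizer_singleton_iff.1 (map_subtype_le _ (mem_inf.1 d.2).1))
  have hmapQ : ((Cx.subgroupOf Cy).map q) = Q0 := by
    have h1 : centralizer ((zpowers xq : Subgroup ↥Cy) : Set ↥Cy) = Cx.subgroupOf Cy := by
      rw [centralizer_zpowers]
      ext c
      rw [mem_subgroupOf, mem_centralizer_singleton_iff, mem_centralizer_singleton_iff, Subtype.ext_iff]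
      rfl
    have h2 := map_centralizer_eq (O := O) (P := zpowers xq) (coprime_card_pPrimeCore 2 ↥Cy)
      (IsPGroup.of_card (n := 1) (by rw [Nat.card_zpowers, hxq, Subgroup.orderOf_mk, hx, pow_one]))
    rw [h1, MonoidHom.map_zpowers, centralizer_zpowers] at h2
    exact h2
  have hιsn : ι.range.IsSubnormal := by
    let ρ : ↥(Cx.subgroupOf Cy) →* ↥Q0 :=
      (MulEquiv.subgroupCongr hmapQ).toMonoidHom.comp (q.subgroupMap (Cx.subgroupOf Cy))
    have hρ : Function.Surjective ρ :=
      (MulEquiv.subgroupCongr hmapQ).surjective.comp (q.subgroupMap_surjective _)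
    have hn : ((D.subgroupOf Cy).subgroupOf (Cx.subgroupOf Cy)).Normal := by
      haveI := pLayer_normal 2 ↥Cx
      refine ⟨fun d hd g => ?_⟩
      simp only [mem_subgroupOf] at hd ⊢
      obtain ⟨h1, -⟩ := mem_inf.1 hd
      refine mem_inf.2 ⟨?_, SetLike.coe_mem _⟩
      obtain ⟨l, hl, hle⟩ := h1
      refine ⟨⟨((g : ↥Cy) : G), mem_subgroupOf.1 g.2⟩ * l * (⟨((g : ↥Cy) : G), mem_subgroupOf.1 g.2⟩ : ↥Cx)⁻¹,
        Normal.conj_mem inferInstance l hl _, ?_⟩
      simp only [coe_subtype] at hle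
      simp [hle]
    have h3 : ι.range = ((D.subgroupOf Cy).subgroupOf (Cx.subgroupOf Cy)).map ρ := by
      ext w
      constructor
      · rintro ⟨d, rfl⟩
        exact ⟨⟨⟨d, (mem_inf.1 d.2).2⟩, mem_subgroupOf.2 (map_subtype_le _ (mem_inf.1 d.2).1)⟩,
          mem_subgroupOf.2 (mem_subgroupOf.2 d.2), rfl⟩
      · rintro ⟨c, hc, rfl⟩
        exact ⟨⟨_, mem_subgroupOf.1 (mem_subgroupOf.1 hc)⟩, rfl⟩
    rw [h3]
    exact (Normal.isSubnormal hn).map hρ
  set f : ↥J →* ↥Q0 := ι.comp J.subtype with hf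
  have hfr : f.range = J.map ι := by rw [hf, MonoidHom.range_comp, range_subtype]
  have hsn : f.range.IsSubnormal := by
    rw [hfr, ← MonoidHom.subtype_comp_rangeRestrict ι, ← Subgroup.map_map]
    exact (hJ.1.map ι.rangeRestrict_surjective).trans' hιsn
  have hJgen := isPComponent_eq_pElemClosure hJ
  have hne : f.range ≠ ⊥ := by
    intro e
    have h2 := dvd_card_of_isPComponent hJ
    set φ : ↥J →* ↥Cy := (inclusion (inf_le_right : D ≤ Cy)).comp J.subtype
    have hφ : φ.range ≤ O := by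
      rintro _ ⟨j, rfl⟩
      have h3 : f j ∈ f.range := ⟨j, rfl⟩
      rw [e, mem_bot] at h3
      exact (QuotientGroup.eq_one_iff _).1 (congrArg Subtype.val h3)
    have hcard : Nat.card ↥J = Nat.card φ.range := Nat.card_congr
      (MonoidHom.ofInjective (f := φ) ((inclusion_injective (inf_le_right : D ≤ Cy)).comp J.subtype_injective)).toEquiv
    rw [hcard] at h2
    exact (Nat.prime_two.coprime_iff_not_dvd.1 (coprime_card_pPrimeCore 2 ↥Cy).symm)
      (h2.trans (card_dvd_of_le hφ))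
  have hP := isPComponent_range hJ f hsn hne
  have hcore : ⁅Cfsg.pLayer 2 ↥Q0, Cfsg.pPrimeCore 2 ↥Q0⁆ = ⊥ := by
    have h := hBQ (q xq) hxord
    rw [hOQ, le_bot_iff, Subgroup.map_eq_bot_iff_of_injective _ (subtype_injective _)] at h
    exact h
  have hcomp := isComponent_of_isPComponent_of_commutator hP hcore
  have heq : ((((J.map (Subgroup.subtype _)).subgroupOf Cy).map q).subgroupOf Q0) = f.range := by
    ext w
    rw [mem_subgroupOf]
    constructor
    · rintro ⟨c, hc, hcw⟩
      obtain ⟨d, hd, hdc⟩ := mem_subgroupOf.1 hc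
      exact ⟨⟨d, hd⟩, Subtype.ext (by rw [← hcw]; exact congrArg q (Subtype.ext hdc))⟩
    · rintro ⟨j, rfl⟩
      exact ⟨⟨_, (mem_inf.1 (j : ↥D).2).2⟩, mem_subgroupOf.2 (mem_map_of_mem _ j.2), rfl⟩
  refine ⟨heq ▸ hcomp, fun E hEle hEodd hEinv => ?_⟩
  -- the image of E in the centralizer
  let g : ↥E →* ↥Q0 := MonoidHom.codRestrict (q.comp (inclusion (hEle.trans inf_le_right : E ≤ Cy))) Q0 fun e => by
    rw [hQ0, mem_centralizer_singleton_iff, MonoidHom.comp_apply, ← map_mul, ← map_mul]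
    congr 1
    exact Subtype.ext (mem_centralizer_singleton_iff.1 (mem_inf.1 (hEle e.2)).1)
  set Eb := g.range
  have hnorm : f.range ≤ normalizer (Eb : Set ↥Q0) := by
    rintro _ ⟨j, rfl⟩
    refine mem_normalizer_fintype ?_
    rintro _ ⟨e, rfl⟩
    exact ⟨⟨_, hEinv _ (mem_map_of_mem _ j.2) _ e.2⟩, Subtype.ext (by
      rw [Subgroup.coe_mul, Subgroup.coe_mul, Subgroup.coe_inv]
      simp only [g, f, ι, MonoidHom.comp_apply, MonoidHom.codRestrict_apply]
      have hq3 : ∀ a b : ↥Cy, q (a * b * a⁻¹) = q a * q b * (q a)⁻¹ := fun a b => by simp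
      exact hq3 (inclusion (inf_le_right : D ≤ Cy) (J.subtype j)) (inclusion (hEle.trans inf_le_right : E ≤ Cy) e))⟩
  set H := f.range ⊔ Eb with hH
  have hHE : (Eb.subgroupOf H).IsSubnormal := Normal.isSubnormal
    ((normal_subgroupOf_iff_le_normalizer le_sup_right).2 (sup_le hnorm le_normalizer))
  rcases component_le_or_le_centralizer (isComponent_subgroupOf le_sup_left hcomp) hHE with h | h
  · exfalso
    have h1 : f.range ≤ Eb := by
      intro z hz
      exact mem_subgroupOf.1 (h (show (⟨z, (le_sup_left : f.range ≤ H) hz⟩ : ↥H) ∈ f.range.subgroupOf H from hz))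
    exact hEodd.not_two_dvd_nat ((dvd_card_of_isPComponent hP).trans
      ((card_dvd_of_le h1).trans (card_range_dvd g)))
  · rw [commutator_le]
    rintro _ ⟨j, hj, rfl⟩ e he
    have h1 := mem_centralizer_iff.1 (h (show (⟨f ⟨j, hj⟩, (le_sup_left : f.range ≤ H) ⟨_, rfl⟩⟩ : ↥H) ∈ f.range.subgroupOf H from ⟨_, rfl⟩))
      ⟨g ⟨e, he⟩, (le_sup_right : Eb ≤ H) ⟨_, rfl⟩⟩ (mem_subgroupOf.2 ⟨_, rfl⟩)
    have h2 : g ⟨e, he⟩ * f ⟨j, hj⟩ = f ⟨j, hj⟩ * g ⟨e, he⟩ := congrArg Subtype.val h1
    have h3 : q ⟨(j : G), (mem_inf.1 j.2).2⟩ * q ⟨e, (mem_inf.1 (hEle he)).2⟩ =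
        q ⟨e, (mem_inf.1 (hEle he)).2⟩ * q ⟨(j : G), (mem_inf.1 j.2).2⟩ := (congrArg Subtype.val h2).symm
    let a : ↥Cy := ⟨(j : G), (mem_inf.1 j.2).2⟩
    let b : ↥Cy := ⟨e, (mem_inf.1 (hEle he)).2⟩
    refine ⟨(⁅a, b⁆ : ↥Cy), ?_, map_commutatorElement Cy.subtype a b⟩
    rw [SetLike.mem_coe, ← QuotientGroup.eq_one_iff, ← QuotientGroup.mk'_apply, map_commutatorElement,
      commutatorElement_eq_one_iff_mul_comm]
    exact h3

end Cfsg.Agent.S1775
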