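import Cfsg.Statements.S1780


set_option autoImplicit false
open Cfsg

namespace Cfsg.Agent.S1780

/-- Let A be a finite abelian 2-group and t an automorphism of A whose order is a power of 2. If every element of A fixed by t² is fixed by t, then t fixes every element of A. -/
theorem result {A : Type*} [CommGroup A] [Finite A]
    (hA : IsPGroup 2 A) (t : MulAut A) (ht : ∃ k : ℕ, orderOf t = 2 ^ k) (hC : ∀ a : A, t (t a) = a → t a = a) :
    ∀ a : A, t a = a := by
  obtain ⟨m, hm⟩ := ht
  have htwo : ∀ x : A, t (t x) = x → t x = x := hC
  have hpow : ∀ (n : ℕ) (x y : A), t x = x * y → t y = y → (t ^ n) x = x * y ^ n := by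
    intro n
    induction n with
    | zero => intro x y _ _; simp
    | succ n ih =>
      intro x y hx hy
      rw [pow_succ', MulAut.mul_apply, ih x y hx hy, map_mul, map_pow, hx, hy, pow_succ', mul_assoc]
  have main : ∀ k : ℕ, ∀ a : A, (t ^ (2 ^ k)) a = a → t a = a := by
    intro k
    induction k with
    | zero => intro a h; simpa using h
    | succ k ih =>
      intro a h
      set u : MulAut A := t ^ (2 ^ k) with hu
      have huu : ∀ x, (t ^ (2 ^ (k + 1))) x = u (u x) := fun x => by
        rw [hu, pow_succ, mul_comm, ← MulAut.mul_apply, ← pow_add]; congr 2; ring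
      have hfix : ∀ x, t x = x → u x = x := by
        intro x hx
        have := hpow (2 ^ k) x 1 (by rw [mul_one]; exact hx) (map_one t)
        simpa using this
      have hcomm : ∀ x, u (t x) = t (u x) := fun x => by
        rw [← MulAut.mul_apply, ← MulAut.mul_apply, hu, ← pow_succ, ← pow_succ']
      have hinv : ∀ (j : ℕ) (b : A), b ^ (2 ^ j) = 1 → u b = b⁻¹ → t b = b := by
        intro j
        induction j with
        | zero => intro b hb _; simp at hb; simp [hb]
        | succ j ihj =>
          intro b hb hub
          have h2 : t (b ^ 2) = b ^ 2 :=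
            ihj (b ^ 2) (by rw [← pow_mul, ← pow_succ']; exact hb) (by rw [map_pow, hub, inv_pow])
          set e := t b * b⁻¹ with he
          have htb : t b = b * e := by rw [he, mul_comm b, inv_mul_cancel_right]
          have he2 : e ^ 2 = 1 := by rw [he, mul_pow, ← map_pow, h2, inv_pow, mul_inv_cancel]
          have hinv' : e⁻¹ = e := by
            rw [pow_two] at he2
            exact inv_eq_of_mul_eq_one_right he2
          have hue : u e = e⁻¹ := by
            rw [he, map_mul, map_inv, hub, hcomm, hub, map_inv, mul_inv, inv_inv]
          have hte : t e = e := ih e (by rw [hinv'] at hue; exact hue)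
          apply htwo
          rw [htb, map_mul, htb, hte, mul_assoc, ← pow_two, he2, mul_one]
      set b := u a * a⁻¹ with hb
      have hub : u b = b⁻¹ := by
        rw [hb, map_mul, map_inv, ← huu, h, mul_inv, inv_inv, mul_comm]
      obtain ⟨j, hj⟩ := hA b
      have htb : t b = b := hinv j b hj hub
      have hua : u a = a * b := by rw [hb, mul_comm a, inv_mul_cancel_right]
      set d := t a * a⁻¹ with hd
      have hta : t a = a * d := by rw [hd, mul_comm a, inv_mul_cancel_right]
      have hud : u d = d := by
        rw [hd, map_mul, map_inv, hcomm, hua, map_mul, htb, mul_inv]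
        rw [mul_mul_mul_comm, mul_inv_cancel, mul_one]
      have htd : t d = d := ih d hud
      have hdk : d ^ (2 ^ (k + 1)) = 1 := by
        have := hpow (2 ^ (k + 1)) a d hta htd
        rwa [h, left_eq_mul] at this
      have desc : ∀ (i : ℕ) (x y : A), t x = x * y → t y = y → y ^ (2 ^ i) = 1 → t x = x := by
        intro i
        induction i with
        | zero => intro x y hx _ hy; simp at hy; simpa [hy] using hx
        | succ i ihi =>
          intro x y hx hy hyi
          have hx2 : t (x ^ 2) = x ^ 2 * y ^ 2 := by rw [map_pow, hx, mul_pow]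
          have h2 := ihi (x ^ 2) (y ^ 2) hx2 (by rw [map_pow, hy])
            (by rw [← pow_mul, ← pow_succ']; exact hyi)
          rw [hx2, mul_eq_left] at h2
          apply htwo
          rw [hx, map_mul, hx, hy, mul_assoc, ← pow_two, h2, mul_one]
      exact desc (k + 1) a d hta htd hdk
  intro a
  exact main m a (by rw [← hm, pow_orderOf_eq_one]; rfl)

end Cfsg.Agent.S1780
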