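import Cfsg.Statements.S1781
import Cfsg.Agent.S1780
import Cfsg.Agent.S1757
import Cfsg.Agent.Lib.Comp.Normalize

set_option autoImplicit false
open Cfsg

namespace Cfsg.Agent.S1781

/-- Let A be an abelian 2-subgroup of the finite group G such that every conjugate of A equals A or meets A trivially, and let g ∈ G with g A g⁻¹ ≠ A. Then either the subgroup of those elements of A that normalize g A g⁻¹ is an elementary abelian 2-group, or A and g A g⁻¹ commute elementwise. -/
theorem result {G : Type*} [Group G] [Finite G] (A : Subgroup G)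
    (hA2 : IsPGroup 2 ↥A) (hAa : IsMulCommutative ↥A)
    (hti : ∀ h : G, A.map (MulAut.conj h).toMonoidHom = A ∨ A.map (MulAut.conj h).toMonoidHom ⊓ A = ⊥)
    (g : G) (hg : A.map (MulAut.conj g).toMonoidHom ≠ A) :
    Cfsg.IsElementaryAbelian 2 (A ⊓ Subgroup.normalizer ((A.map (MulAut.conj g).toMonoidHom : Subgroup G) : Set G)) ∨
      ⁅A, A.map (MulAut.conj g).toMonoidHom⁆ = ⊥ := by
  classical
  set A' := A.map (MulAut.conj g).toMonoidHom with hA'def
  have hA'2 : IsPGroup 2 ↥A' := hA2.map _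
  have hA'a : IsMulCommutative ↥A' := inferInstance
  have hTI : ∀ x : G, ∀ a ∈ A, a ≠ 1 → x * a * x⁻¹ = a → x ∈ Subgroup.normalizer (A : Set G) := by
    intro x a ha ha1 hfix
    rcases hti x with h | h
    · exact CfsgLib.Comp.map_conj_eq_iff.mp h
    · exact absurd (Subgroup.mem_bot.mp (h ▸ Subgroup.mem_inf.mpr ⟨⟨a, ha, hfix⟩, ha⟩)) ha1
  have hdisj : A ⊓ A' = ⊥ := by
    rcases hti g with h | h
    · exact absurd h hg
    · rw [inf_comm]; exact h
  have hNA : ∀ x ∈ A', x ∈ Subgroup.normalizer (A : Set G) → ∀ a ∈ A,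
      a ∈ Subgroup.normalizer (A' : Set G) → x * a = a * x := by
    intro x hx hxn a ha han
    have h1 : x * a * x⁻¹ * a⁻¹ ∈ A := mul_mem ((Subgroup.mem_normalizer_iff.mp hxn a).mp ha) (inv_mem ha)
    have h2 : x * a * x⁻¹ * a⁻¹ ∈ A' := by
      have := mul_mem hx ((Subgroup.mem_normalizer_iff.mp han x⁻¹).mp (inv_mem hx))
      simpa [mul_assoc] using this
    have h3 := Subgroup.mem_bot.mp (hdisj ▸ Subgroup.mem_inf.mpr ⟨h1, h2⟩)
    exact mul_inv_eq_iff_eq_mul.mp (mul_inv_eq_one.mp h3)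
  by_cases hel : Cfsg.IsElementaryAbelian 2 (A ⊓ Subgroup.normalizer (A' : Set G))
  · exact Or.inl hel
  right
  have hex : ∃ a ∈ A, a ∈ Subgroup.normalizer (A' : Set G) ∧ a ^ 2 ≠ 1 := by
    by_contra hcon
    push Not at hcon
    refine hel ⟨?_, fun a ha => hcon a (Subgroup.mem_inf.mp ha).1 (Subgroup.mem_inf.mp ha).2⟩
    exact ⟨⟨fun u v => Subtype.ext (congrArg Subtype.val (α := ↥A)
      (hAa.is_comm.comm ⟨u, (Subgroup.mem_inf.mp u.2).1⟩ ⟨v, (Subgroup.mem_inf.mp v.2).1⟩))⟩⟩
  obtain ⟨a, ha, han, ha2⟩ := hex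
  have hstab : ∀ x ∈ A', a ^ 2 * x * (a ^ 2)⁻¹ = x → a * x * a⁻¹ = x := by
    intro x hx hfix
    have hxn := hTI x (a ^ 2) (pow_mem ha 2) ha2 (by
      rw [mul_inv_eq_iff_eq_mul] at hfix ⊢
      exact hfix.symm)
    rw [mul_inv_eq_iff_eq_mul, hNA x hx hxn a ha han]
  let t : MulAut ↥A' :=
    { toFun := fun x => ⟨a * x * a⁻¹, (Subgroup.mem_normalizer_iff.mp han x).mp x.2⟩
      invFun := fun x => ⟨a⁻¹ * x * a, by
        have := (Subgroup.mem_normalizer_iff.mp (inv_mem han) x).mp x.2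
        rwa [inv_inv] at this⟩
      left_inv := fun x => by ext; simp [mul_assoc]
      right_inv := fun x => by ext; simp [mul_assoc]
      map_mul' := fun x y => by ext; simp [mul_assoc] }
  have htpow : ∀ (n : ℕ) (x : ↥A'), (((t ^ n) x : ↥A') : G) = a ^ n * x * (a ^ n)⁻¹ := by
    intro n
    induction n with
    | zero => intro x; simp
    | succ n ih =>
      intro x
      rw [pow_succ', MulAut.mul_apply]
      show a * ((t ^ n) x : ↥A') * a⁻¹ = _
      rw [ih, pow_succ']
      group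
  have hord : ∃ k : ℕ, orderOf t = 2 ^ k := by
    obtain ⟨m, hm⟩ := hA2 ⟨a, ha⟩
    have hm' : a ^ 2 ^ m = 1 := by simpa using congrArg Subtype.val hm
    have : orderOf t ∣ 2 ^ m := by
      rw [orderOf_dvd_iff_pow_eq_one]
      ext x
      rw [htpow, hm']
      simp
    obtain ⟨k, _, hk⟩ := (Nat.dvd_prime_pow Nat.prime_two).mp this
    exact ⟨k, hk⟩
  have hfixall : ∀ x ∈ A', a * x * a⁻¹ = x := by
    intro x hx
    have key := @Cfsg.Agent.S1780.result ↥A' { (inferInstance : Group ↥A') with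
      mul_comm := hA'a.is_comm.comm } _ hA'2 t hord (fun y hy => Subtype.ext (hstab y y.2 (by
        have h := congrArg Subtype.val hy
        rw [pow_two]
        calc a * a * (y : G) * (a * a)⁻¹ = a * (a * y * a⁻¹) * a⁻¹ := by group
          _ = y := h))) ⟨x, hx⟩
    exact congrArg Subtype.val key
  have ha1 : a ≠ 1 := fun h => ha2 (by rw [h, one_pow])
  have hle : A' ≤ Subgroup.normalizer (A : Set G) := fun x hx => hTI x a ha ha1 (by
    have := hfixall x hx
    rw [mul_inv_eq_iff_eq_mul] at this ⊢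
    exact this.symm)
  have hA'ti : ∀ h : G, A'.map (MulAut.conj h).toMonoidHom = A' ∨ A'.map (MulAut.conj h).toMonoidHom ⊓ A' = ⊥ := by
    intro h
    have he : A'.map (MulAut.conj h).toMonoidHom =
        (A.map (MulAut.conj (g⁻¹ * h * g)).toMonoidHom).map (MulAut.conj g).toMonoidHom := by
      rw [hA'def, ← CfsgLib.Comp.map_conj_mul, ← CfsgLib.Comp.map_conj_mul]
      congr 3
      group
    rw [he]
    rcases hti (g⁻¹ * h * g) with h' | h'
    · exact Or.inl (by rw [h'])
    · refine Or.inr ?_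
      conv_lhs => rw [hA'def]
      rw [← Subgroup.map_inf _ _ _ (MulAut.conj g).injective, h', Subgroup.map_bot]
  exact Cfsg.Agent.S1757.result 2 A A' hA2 hA'2 hti hA'ti
    (Subgroup.card_map_of_injective (MulAut.conj g).injective).ge hdisj hle

end Cfsg.Agent.S1781
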