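import Cfsg.Statements.S1782
import Cfsg.Agent.Lib.Solvable.PGroupBasics
import Cfsg.Agent.Lib.Solvable.Nilpotent
import Cfsg.Agent.Lib.Comp.Normalize
import Cfsg.Agent.Lib.Coprime.Basic
import Mathlib.Tactic
import Mathlib.GroupTheory.Frattini

set_option autoImplicit false
open Cfsg

namespace Cfsg.Agent.S1782

open Subgroup

/-- The Frattini subgroup of an elementary abelian group is trivial. -/
theorem frattini_eq_bot {Q : Type*} [Group Q] [Finite Q] {p : ℕ} [Fact p.Prime]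
    (hc : ∀ a b : Q, a * b = b * a) (h : ∀ q : Q, q ^ p = 1) : frattini Q = ⊥ := by
  letI : CommGroup Q := { ‹Group Q› with mul_comm := hc }
  rw [eq_bot_iff]
  intro x hx
  by_contra hx1
  obtain ⟨B, hB⟩ := CfsgLib.Solvable.exists_isCompl_of_pow_eq_one h (zpowers x)
  have hne : B ≠ ⊤ := fun e => by
    have h2 := hB.inf_eq_bot
    rw [e, inf_top_eq, zpowers_eq_bot] at h2
    exact hx1 (h2 ▸ one_mem _)
  obtain ⟨M, hM, hBM⟩ := (eq_top_or_exists_le_coatom B).resolve_left hne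
  apply hM.1
  rw [← top_le_iff, ← hB.sup_eq_top]
  exact sup_le (zpowers_le.2 (frattini_le_coatom hM hx)) hBM

variable {S : Type*} [Group S] [Finite S]

/-- The step when one member normalizes the other. -/
theorem commute_of_normalizes {R T : Subgroup S} (hRT : R ⊓ T = ⊥)
    (hcard : Nat.card R = Nat.card T) (hT : T ≤ normalizer (R : Set S))
    (h : ∀ r ∈ R, T.map (MulAut.conj r).toMonoidHom = T ∨
      (T.map (MulAut.conj r).toMonoidHom ⊓ T = ⊥ ∧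
        ∀ a ∈ T.map (MulAut.conj r).toMonoidHom, ∀ b ∈ T, a * b = b * a)) :
    ∀ a ∈ R, ∀ b ∈ T, a * b = b * a := by
  intro r hr t ht
  rcases h r hr with hr' | ⟨hr1, hr2⟩
  · have h1 : r * t * r⁻¹ * t⁻¹ ∈ R ⊓ T := by
      refine mem_inf.2 ⟨?_, mul_mem (hr' ▸ mem_map_of_mem _ ht) (inv_mem ht)⟩
      rw [show r * t * r⁻¹ * t⁻¹ = r * (t * r⁻¹ * t⁻¹) by group]
      exact mul_mem hr ((mem_normalizer_iff.1 (hT ht) _).1 (inv_mem hr))
    rw [hRT, mem_bot, mul_inv_eq_one, mul_inv_eq_iff_eq_mul] at h1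
    exact h1
  · have hmem : ∀ b ∈ T, r * b * r⁻¹ ∈ T.map (MulAut.conj r).toMonoidHom :=
      fun b hb => ⟨b, hb, rfl⟩
    have hy : ∀ b ∈ T, r * b * r⁻¹ * b⁻¹ ∈ R := by
      intro b hb
      rw [show r * b * r⁻¹ * b⁻¹ = r * (b * r⁻¹ * b⁻¹) by group]
      exact mul_mem hr ((mem_normalizer_iff.1 (hT hb) _).1 (inv_mem hr))
    have habel : ∀ b ∈ T, ∀ c ∈ T, b * c = c * b := by
      intro b hb c hc
      set P := c⁻¹ * b⁻¹ * c * b with hP
      have hPT : P ∈ T := mul_mem (mul_mem (mul_mem (inv_mem hc) (inv_mem hb)) hc) hb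
      have e : (r * c * r⁻¹ * c⁻¹) * (r * b * r⁻¹ * b⁻¹) * (r * (c * b) * r⁻¹ * (c * b)⁻¹)⁻¹ = P := by
        have h1 : Commute (r * b * r⁻¹) c⁻¹ := hr2 _ (hmem b hb) _ (inv_mem hc)
        have h2 : Commute (r * c * r⁻¹ * (r * b * r⁻¹)) P :=
          hr2 _ (mul_mem (hmem c hc) (hmem b hb)) _ hPT
        calc _ = r * c * r⁻¹ * (c⁻¹ * (r * b * r⁻¹)) * (b⁻¹ * c * b) *
              (r * c * r⁻¹ * (r * b * r⁻¹))⁻¹ := by group
          _ = r * c * r⁻¹ * ((r * b * r⁻¹) * c⁻¹) * (b⁻¹ * c * b) *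
              (r * c * r⁻¹ * (r * b * r⁻¹))⁻¹ := by rw [h1.eq]
          _ = (r * c * r⁻¹ * (r * b * r⁻¹)) * P * (r * c * r⁻¹ * (r * b * r⁻¹))⁻¹ := by
              rw [hP]; group
          _ = P := by rw [h2.eq, mul_inv_cancel_right]
      have h1 : P ∈ R ⊓ T := mem_inf.2
        ⟨e ▸ mul_mem (mul_mem (hy c hc) (hy b hb)) (inv_mem (hy _ (mul_mem hc hb))), hPT⟩
      rw [hRT, mem_bot, hP] at h1
      calc b * c = b * c * (c⁻¹ * b⁻¹ * c * b) := by rw [h1, mul_one]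
        _ = c * b := by group
    -- `R` consists of the elements `r b r⁻¹ b⁻¹`
    let f : T → R := fun b => ⟨r * b * r⁻¹ * (b : S)⁻¹, hy b b.2⟩
    have hf : Function.Injective f := by
      rintro ⟨b, hb⟩ ⟨c, hc⟩ hbc
      have h1 : r * b * r⁻¹ * b⁻¹ = r * c * r⁻¹ * c⁻¹ := congrArg Subtype.val hbc
      have h2 : r * (c⁻¹ * b) * r⁻¹ = c⁻¹ * b := by
        calc r * (c⁻¹ * b) * r⁻¹ = (r * c * r⁻¹)⁻¹ * (r * b * r⁻¹ * b⁻¹) * b := by group
          _ = c⁻¹ * b := by rw [h1]; group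
      have h3 : c⁻¹ * b ∈ T.map (MulAut.conj r).toMonoidHom ⊓ T :=
        mem_inf.2 ⟨h2 ▸ hmem _ (mul_mem (inv_mem hc) hb), mul_mem (inv_mem hc) hb⟩
      rw [hr1, mem_bot, inv_mul_eq_one] at h3
      exact Subtype.ext h3.symm
    obtain ⟨⟨b, hb⟩, hbr⟩ :=
      (hf.bijective_of_nat_card_le (le_of_eq hcard)).2 ⟨r, hr⟩
    have hrb : r * b * r⁻¹ * b⁻¹ = r := congrArg Subtype.val hbr
    have hcomm : ∀ c ∈ T, Commute r c := fun c hc => by
      rw [← hrb]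
      exact Commute.mul_left (hr2 _ (hmem b hb) c hc) (Commute.inv_left (habel b hb c hc))
    exact hcomm t ht

/-- When neither member normalizes the other, the commutator `[t, x]` argument. -/
theorem inf_conjugates_eq_bot {R T : Subgroup S} (hS : IsPGroup 2 S) {t : S} (ht : t ∈ T)
    (htR : R.map (MulAut.conj t).toMonoidHom ⊓ R = ⊥)
    (htR' : ∀ a ∈ R.map (MulAut.conj t).toMonoidHom, ∀ b ∈ R, a * b = b * a)
    {r : S} (hr : r ∈ R) (hrT : T.map (MulAut.conj r).toMonoidHom ⊓ T = ⊥)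
    {L : Subgroup S} (hLR : R ≤ normalizer (L : Set S)) (hLT : L ≤ normalizer (T : Set S)) :
    R ⊓ L = ⊥ := by
  by_contra hne
  set D := (R ⊓ L).subgroupOf R with hD
  haveI : D.Normal := normal_subgroupOf_of_le_normalizer
    (CfsgLib.Comp.le_normalizer_inf le_normalizer hLR)
  haveI : Group.IsNilpotent R := (hS.to_subgroup R).isNilpotent
  have hDne : D ≠ ⊥ := by
    rw [hD, Ne, subgroupOf_eq_bot, disjoint_iff, inf_eq_left.2 inf_le_left]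
    exact hne
  obtain ⟨⟨z, hzR⟩, hz, hz1⟩ :=
    (Subgroup.ne_bot_iff_exists_ne_one.1 (CfsgLib.Solvable.normal_inf_center_ne_bot D hDne))
      |> fun ⟨⟨z, hz⟩, h⟩ => (⟨z, hz, fun e => h (Subtype.ext e)⟩ : ∃ z, z ∈ D ⊓ center R ∧ z ≠ 1)
  have hzL : z ∈ L := (mem_subgroupOf.1 hz.1).2
  have hzc : ∀ x ∈ R, x * z = z * x := fun x hx =>
    congrArg Subtype.val (mem_center_iff.1 hz.2 ⟨x, hx⟩)
  set w := t * z * t⁻¹ * z⁻¹ with hw
  have hwT : w ∈ T := by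
    rw [hw, show t * z * t⁻¹ * z⁻¹ = t * (z * t⁻¹ * z⁻¹) by group]
    exact mul_mem ht ((mem_normalizer_iff.1 (hLT hzL) _).1 (inv_mem ht))
  have hrw : Commute r w := by
    refine Commute.mul_right ?_ (Commute.inv_right (hzc r hr))
    exact (htR' (t * z * t⁻¹) ⟨z, hzR, rfl⟩ r hr).symm
  have hwm : w ∈ T.map (MulAut.conj r).toMonoidHom ⊓ T :=
    ⟨⟨w, hwT, by show r * w * r⁻¹ = w; rw [hrw.eq, mul_inv_cancel_right]⟩, hwT⟩
  rw [hrT, mem_bot, hw, mul_inv_eq_one] at hwm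
  have hzm : z ∈ R.map (MulAut.conj t).toMonoidHom ⊓ R := ⟨⟨z, hzR, hwm⟩, hzR⟩
  rw [htR, mem_bot] at hzm
  exact hz1 (Subtype.ext hzm)



/-- Let S be a finite 2-group and Δ a set of subgroups of S closed under conjugation by S, all of the same order, each with nontrivial Frattini subgroup, and such that two distinct members of Δ meet trivially. Then any two distinct members of Δ commute elementwise. -/
theorem result {S : Type*} [Group S] [Finite S] (hS : IsPGroup 2 S)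
    (Δ : Set (Subgroup S)) (hinv : ∀ s : S, ∀ R ∈ Δ, R.map (MulAut.conj s).toMonoidHom ∈ Δ)
    (hΦ : ∀ R ∈ Δ, frattini ↥R ≠ ⊥) (hord : ∀ R ∈ Δ, ∀ T ∈ Δ, Nat.card ↥R = Nat.card ↥T)
    (hti : ∀ R ∈ Δ, ∀ T ∈ Δ, R = T ∨ R ⊓ T = ⊥) :
    ∀ R ∈ Δ, ∀ T ∈ Δ, R ≠ T → ⁅R, T⁆ = ⊥ := by
  classical
  haveI : Fact (Nat.Prime 2) := ⟨Nat.prime_two⟩
  suffices key : ∀ H : Subgroup S, ∀ R ∈ Δ, ∀ T ∈ Δ, R ⊔ T ≤ H → R ≠ T →
      ∀ a ∈ R, ∀ b ∈ T, a * b = b * a by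
    intro R hR T hT hne
    rw [Subgroup.commutator_eq_bot_iff_le_centralizer]
    exact fun a ha => Subgroup.mem_centralizer_iff.2 fun b hb =>
      (key ⊤ R hR T hT le_top hne a ha b hb).symm
  intro H
  induction H using WellFoundedLT.induction with
  | ind H ih =>
  intro R hR T hT hRT hne
  rcases lt_or_eq_of_le hRT with hlt | heq
  · exact ih _ hlt R hR T hT le_rfl hne
  -- conjugates inside `H` of a member inside `H` commute
  have hconj : ∀ A ∈ Δ, A ≤ H → A ≠ H → ∀ s ∈ H, A.map (MulAut.conj s).toMonoidHom = A ∨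
      (A.map (MulAut.conj s).toMonoidHom ⊓ A = ⊥ ∧
        ∀ a ∈ A.map (MulAut.conj s).toMonoidHom, ∀ b ∈ A, a * b = b * a) := by
    intro A hA hAH hAne s hs
    refine (em (A.map (MulAut.conj s).toMonoidHom = A)).imp id fun hsA => ?_
    refine ⟨(hti _ (hinv s A hA) A hA).resolve_left hsA, ?_⟩
    have hne' : A.subgroupOf H ≠ ⊤ := fun h => hAne (le_antisymm hAH (subgroupOf_eq_top.1 h))
    obtain ⟨M, hM, hAM⟩ := (eq_top_or_exists_le_coatom _).resolve_left hne'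
    haveI : Group.IsNilpotent H := (hS.to_subgroup H).isNilpotent
    haveI : M.Normal :=
      NormalizerCondition.normal_of_coatom _ Group.normalizerCondition_of_isNilpotent hM
    have hMlt : M.map H.subtype < H := by
      refine lt_of_le_of_ne (map_subtype_le M) fun h => hM.1 ?_
      refine map_injective H.subtype_injective ?_
      rw [h, ← MonoidHom.range_eq_map, range_subtype]
    refine ih _ hMlt _ (hinv s A hA) A hA (sup_le ?_ ?_) hsA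
    · rintro _ ⟨a, ha, rfl⟩
      exact ⟨⟨s, hs⟩ * ⟨a, hAH ha⟩ * ⟨s, hs⟩⁻¹, Normal.conj_mem ‹_› _ (hAM ha) _, rfl⟩
    · exact fun a ha => ⟨⟨a, hAH ha⟩, hAM ha, rfl⟩
  have hRH : R ≤ H := heq ▸ le_sup_left
  have hTH : T ≤ H := heq ▸ le_sup_right
  have hRne : R ≠ H := fun h => hne
    (Subgroup.eq_of_le_of_card_ge (h ▸ hTH) (hord R hR T hT).le).symm
  have hTne : T ≠ H := fun h => hne
    (Subgroup.eq_of_le_of_card_ge (h ▸ hRH) (hord T hT R hR).le)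
  have hTI : R ⊓ T = ⊥ := (hti R hR T hT).resolve_left hne
  by_cases hTN : T ≤ normalizer (R : Set S)
  · exact commute_of_normalizes hTI (hord R hR T hT) hTN fun r hr => hconj T hT hTH hTne r (hRH hr)
  by_cases hRN : R ≤ normalizer (T : Set S)
  · intro a ha b hb
    exact (commute_of_normalizes (inf_comm R T ▸ hTI) (hord T hT R hR) hRN
      (fun t ht => hconj R hR hRH hRne t (hTH ht)) b hb a ha).symm
  exfalso
  obtain ⟨t₀, ht₀, ht₀N⟩ := SetLike.not_le_iff_exists.1 hTN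
  obtain ⟨r₀, hr₀, hr₀N⟩ := SetLike.not_le_iff_exists.1 hRN
  -- normal closures
  have hL : ∀ A B : Subgroup S, A ∈ Δ → A ≤ H → A ≠ H → B ≤ H →
      ∃ L : Subgroup S, B ≤ normalizer (L : Set S) ∧ L ≤ normalizer (A : Set S) ∧
        ∀ b ∈ B, A.map (MulAut.conj b).toMonoidHom ≤ L := by
    intro A B hA hAH hAne hBH
    refine ⟨⨆ b : B, A.map (MulAut.conj (b : S)).toMonoidHom, ?_, ?_, fun b hb =>
      le_iSup (fun b : B => A.map (MulAut.conj (b : S)).toMonoidHom) ⟨b, hb⟩⟩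
    · intro c hc
      refine CfsgLib.Comp.map_conj_eq_iff.1 ?_
      rw [Subgroup.map_iSup]
      refine Equiv.iSup_congr (Equiv.mulLeft (⟨c, hc⟩ : B)) fun b => ?_
      rw [CfsgLib.Coprime.map_conj_conj]
      rfl
    · refine iSup_le fun b => ?_
      rcases hconj A hA hAH hAne b (hBH b.2) with h | ⟨-, h⟩
      · rw [h]; exact le_normalizer
      · exact le_trans (fun x hx => mem_centralizer_iff.2 fun a ha => (h x hx a ha).symm)
          (centralizer_le_normalizer _)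
  have hmove : ∀ A ∈ Δ, A ≤ H → A ≠ H → ∀ s ∈ H, s ∉ normalizer (A : Set S) →
      A.map (MulAut.conj s).toMonoidHom ⊓ A = ⊥ ∧
        ∀ a ∈ A.map (MulAut.conj s).toMonoidHom, ∀ b ∈ A, a * b = b * a :=
    fun A hA hAH hAne s hs hsN => (hconj A hA hAH hAne s hs).resolve_left
      fun h => hsN (CfsgLib.Comp.map_conj_eq_iff.1 h)
  -- abelian
  have habel : ∀ A B : Subgroup S, A ∈ Δ → B ∈ Δ → A ≤ H → A ≠ H → B ≤ H → B ≠ H →
      ∀ a₀ ∈ A, a₀ ∉ normalizer (B : Set S) → ∀ b₀ ∈ B, b₀ ∉ normalizer (A : Set S) →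
      ∀ x ∈ A, ∀ y ∈ A, x * y = y * x := by
    intro A B hA hB hAH hAne hBH hBne a₀ ha₀ ha₀N b₀ hb₀ hb₀N x hx y hy
    obtain ⟨L, hLA, hLB, hLmem⟩ := hL B A hB hBH hBne hAH
    obtain ⟨h1, h2⟩ := hmove A hA hAH hAne b₀ (hBH hb₀) hb₀N
    have hbot := inf_conjugates_eq_bot hS hb₀ h1 h2 ha₀
      (hmove B hB hBH hBne a₀ (hAH ha₀) ha₀N).1 hLA hLB
    have hmemL : ∀ w ∈ A, b₀ * w * b₀⁻¹ * w⁻¹ ∈ L := fun w hw => by
      rw [show b₀ * w * b₀⁻¹ * w⁻¹ = b₀ * (w * b₀⁻¹ * w⁻¹) by group]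
      refine mul_mem (hLmem 1 (one_mem A) ⟨b₀, hb₀, by simp⟩) ?_
      exact hLmem w hw ⟨b₀⁻¹, inv_mem hb₀, rfl⟩
    have hc : Commute (b₀ * y * b₀⁻¹) x⁻¹ := h2 _ ⟨y, hy, rfl⟩ _ (inv_mem hx)
    have key : x * y * x⁻¹ * y⁻¹ ∈ A ⊓ L := by
      refine mem_inf.2 ⟨mul_mem (mul_mem (mul_mem hx hy) (inv_mem hx)) (inv_mem hy), ?_⟩
      have e : x * y * x⁻¹ * y⁻¹ = (b₀ * (x * y) * b₀⁻¹ * (x * y)⁻¹)⁻¹ *
          ((b₀ * x * b₀⁻¹ * x⁻¹) * (b₀ * y * b₀⁻¹ * y⁻¹)) := by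
        calc x * y * x⁻¹ * y⁻¹
            = (b₀ * (x * y) * b₀⁻¹ * (x * y)⁻¹)⁻¹ * (b₀ * x * b₀⁻¹) *
              ((b₀ * y * b₀⁻¹) * x⁻¹) * y⁻¹ := by group
          _ = _ := by rw [hc.eq]; group
      rw [e]
      exact mul_mem (inv_mem (hmemL _ (mul_mem hx hy))) (mul_mem (hmemL x hx) (hmemL y hy))
    rw [hbot, mem_bot, mul_inv_eq_one, mul_inv_eq_iff_eq_mul] at key
    exact key
  have hRab := habel R T hR hT hRH hRne hTH hTne r₀ hr₀ hr₀N t₀ ht₀ ht₀N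
  have hTab := habel T R hT hR hTH hTne hRH hRne t₀ ht₀ ht₀N r₀ hr₀ hr₀N
  -- choose `t` moving `R` whose square does not
  obtain ⟨t, ht, htN, ht2⟩ : ∃ t ∈ T, t ∉ normalizer (R : Set S) ∧
      t ^ 2 ∈ normalizer (R : Set S) := by
    obtain ⟨k, hk⟩ := hS t₀
    have hex : ∃ j, t₀ ^ 2 ^ j ∈ normalizer (R : Set S) := ⟨k, hk ▸ one_mem _⟩
    obtain ⟨j, hj⟩ := Nat.exists_eq_succ_of_ne_zero (n := Nat.find hex) fun h => by
      have := Nat.find_spec hex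
      rw [h] at this
      exact ht₀N (by simpa using this)
    refine ⟨t₀ ^ 2 ^ j, pow_mem ht₀ _, Nat.find_min hex (by omega), ?_⟩
    rw [← pow_mul, ← pow_succ]
    have := Nat.find_spec hex
    rwa [hj] at this
  obtain ⟨ht1, ht1c⟩ := hmove R hR hRH hRne t (hTH ht) htN
  refine hΦ R hR (frattini_eq_bot (p := 2) (fun a b => Subtype.ext (hRab a a.2 b b.2)) fun x => ?_)
  obtain ⟨x, hx⟩ := x
  apply Subtype.ext
  change x ^ 2 = 1
  have hxt : Commute (x * t⁻¹ * x⁻¹) t := by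
    rcases hconj T hT hTH hTne x (hRH hx) with h | ⟨-, h⟩
    · exact hTab _ (h ▸ ⟨t⁻¹, inv_mem ht, rfl⟩) _ ht
    · exact h _ ⟨t⁻¹, inv_mem ht, rfl⟩ _ ht
  set x₁ := t * x * t⁻¹ with hx₁
  have hx₁x : Commute x₁ x := ht1c x₁ ⟨x, hx, rfl⟩ x hx
  have heqn : t ^ 2 * x * (t ^ 2)⁻¹ * x₁⁻¹ = x₁ * x⁻¹ := by
    calc t ^ 2 * x * (t ^ 2)⁻¹ * x₁⁻¹ = t * (t * (x * t⁻¹ * x⁻¹)) * t⁻¹ := by
          rw [hx₁, pow_two]; group
      _ = t * ((x * t⁻¹ * x⁻¹) * t) * t⁻¹ := by rw [hxt.eq]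
      _ = x₁ * x⁻¹ := by rw [hx₁]; group
  have hsq : x₁ ^ 2 ∈ R.map (MulAut.conj t).toMonoidHom ⊓ R := by
    refine mem_inf.2 ⟨pow_mem (mem_map_of_mem (MulAut.conj t).toMonoidHom hx) 2, ?_⟩
    have h : x₁ ^ 2 = t ^ 2 * x * (t ^ 2)⁻¹ * x := by
      rw [mul_inv_eq_iff_eq_mul] at heqn
      rw [heqn, pow_two]
      calc x₁ * x₁ = x₁ * (x⁻¹ * (x * x₁)) := by group
        _ = x₁ * (x⁻¹ * (x₁ * x)) := by rw [hx₁x.eq]
        _ = _ := by group
    rw [h]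
    exact mul_mem ((mem_normalizer_iff.1 ht2 x).1 hx) hx
  rw [ht1, mem_bot, hx₁, conj_pow, conj_eq_one_iff] at hsq
  exact hsq

end Cfsg.Agent.S1782
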