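import Cfsg.Statements.S1783
import Cfsg.Agent.S1782
import Cfsg.Agent.Lib.Comp.Local
import Cfsg.Agent.Lib.Transfer.ClassTwo

set_option autoImplicit false
open Cfsg

namespace Cfsg.Agent.S1783

open Subgroup

variable {X : Type*} [Group X] [Finite X]

/-- The subgroup generated by the squares of `M`. -/
def sqGen (M : Subgroup X) : Subgroup X := closure ((fun m : X => m ^ 2) '' (M : Set X))

omit [Finite X] in
theorem sqGen_le (M : Subgroup X) : sqGen M ≤ M :=
  (closure_le M).2 (by rintro _ ⟨m, hm, rfl⟩; exact pow_mem hm 2)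

omit [Finite X] in
theorem sqGen_normal (M : Subgroup X) [M.Normal] : (sqGen M).Normal := by
  refine CfsgLib.Comp.normal_of_top_le_normalizer fun g _ => CfsgLib.Comp.map_conj_eq_iff.1 ?_
  rw [sqGen, MonoidHom.map_closure]
  congr 1
  ext x
  simp only [Set.mem_image, MulEquiv.coe_toMonoidHom, MulAut.conj_apply]
  constructor
  · rintro ⟨_, ⟨m, hm, rfl⟩, rfl⟩
    exact ⟨g * m * g⁻¹, Normal.conj_mem ‹_› m hm g, conj_pow⟩
  · rintro ⟨m, hm, rfl⟩
    refine ⟨(g⁻¹ * m * g) ^ 2, ⟨g⁻¹ * m * g, ?_, rfl⟩, ?_⟩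
    · simpa using Normal.conj_mem ‹_› m hm g⁻¹
    · rw [← conj_pow]; group

omit [Finite X] in
/-- The elements acting trivially on all `M / sqGen M`, for `M` a normal subgroup inside `Q`. -/
def squareKernel (Q : Subgroup X) : Subgroup X where
  carrier := {x | ∀ M : Subgroup X, M.Normal → M ≤ Q → ∀ m ∈ M, x * m * x⁻¹ * m⁻¹ ∈ sqGen M}
  one_mem' := fun M _ _ m _ => by simp
  mul_mem' := by
    intro x y hx hy M hM hMQ m hm
    haveI := sqGen_normal M
    have h := mul_mem (Normal.conj_mem ‹_› _ (hy M hM hMQ m hm) x) (hx M hM hMQ m hm)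
    convert h using 1
    group
  inv_mem' := by
    intro x hx M hM hMQ m hm
    haveI := sqGen_normal M
    have h := Normal.conj_mem ‹_› _ (inv_mem (hx M hM hMQ m hm)) x⁻¹
    convert h using 1
    group

/-- A non-elementary abelian `2`-group has non-trivial Frattini subgroup. -/
theorem frattini_ne_bot {P : Type*} [Group P] [Finite P] (hP : IsPGroup 2 P)
    (h : ∃ q : P, q ^ 2 ≠ 1) : frattini P ≠ ⊥ := by
  haveI : Fact (Nat.Prime 2) := ⟨Nat.prime_two⟩
  intro hbot
  obtain ⟨q, hq⟩ := h
  apply hq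
  rw [← mem_bot, ← hbot]
  refine (le_iInf₂ fun M hM => ?_ : zpowers (q ^ 2) ≤ frattini P) (mem_zpowers _)
  rw [zpowers_le]
  exact Subgroup.sq_mem_of_index_two (CfsgLib.Transfer.coatom_index_eq_prime hP hM).2 q



/-- Let X be a finite group whose generalized Fitting subgroup equals its largest normal 2-subgroup Q, and let A be an abelian 2-subgroup of X such that every conjugate of A equals A or meets A trivially. Let B be the subgroup generated by the squares of the elements of A. Then B lies in Q, and if B is not an elementary abelian 2-group then the normal closure of B in X is commutative. -/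
theorem result {X : Type*} [Group X] [Finite X]
    (hX : Cfsg.generalizedFittingSubgroup X = Cfsg.pCore 2 X) (A : Subgroup X) (hA2 : IsPGroup 2 ↥A) (hAa : IsMulCommutative ↥A)
    (hti : ∀ h : X, A.map (MulAut.conj h).toMonoidHom = A ∨ A.map (MulAut.conj h).toMonoidHom ⊓ A = ⊥) :
    Subgroup.closure ((fun a : X => a ^ 2) '' (A : Set X)) ≤ Cfsg.pCore 2 X ∧
      (¬ Cfsg.IsElementaryAbelian 2 (Subgroup.closure ((fun a : X => a ^ 2) '' (A : Set X))) →
        IsMulCommutative ↥(Subgroup.normalClosure ((fun a : X => a ^ 2) '' (A : Set X)))) := by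
  classical
  haveI : Fact (Nat.Prime 2) := ⟨Nat.prime_two⟩
  set Q := Cfsg.pCore 2 X with hQdef
  have hQ : IsPGroup 2 Q := CfsgLib.Comp.isPGroup_pCore 2 X
  haveI : Q.Normal := Cfsg.pCore_normal 2 X
  have hCQ : centralizer (Q : Set X) ≤ Q :=
    (CfsgLib.Comp.generalizedFitting_eq_pCore_iff 2 X).1 hX
  have hAcomm : ∀ a ∈ A, ∀ b ∈ A, a * b = b * a := fun a ha b hb =>
    congrArg Subtype.val (hAa.is_comm.comm (⟨a, ha⟩ : A) ⟨b, hb⟩)
  set s := (fun a : X => a ^ 2) '' (A : Set X) with hs
  -- quadratic action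
  have hquad : (∀ a ∈ A, a ^ 2 = 1) ∨ ∀ q ∈ Q, ∀ a ∈ A, ∀ b ∈ A,
      (q * a * q⁻¹) * b = b * (q * a * q⁻¹) := by
    refine (em (∀ a ∈ A, a ^ 2 = 1)).imp id fun hne q hq a ha b hb => ?_
    set P := Q ⊔ A with hP
    have hPp : IsPGroup 2 P := hQ.to_sup_of_normal_left hA2
    let Δ : Set (Subgroup P) := {R | ∃ u ∈ P, R.map P.subtype = A.map (MulAut.conj u).toMonoidHom}
    have hcard : ∀ R ∈ Δ, Nat.card R = Nat.card A := fun R ⟨u, _, hu⟩ => by
      rw [← card_map_of_injective (K := R) P.subtype_injective, hu,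
        card_map_of_injective (MulAut.conj u).injective]
    have hmem : ∀ u ∈ P, (A.map (MulAut.conj u).toMonoidHom).subgroupOf P ∈ Δ ∧
        A.map (MulAut.conj u).toMonoidHom ≤ P := by
      intro u hu
      have hle : A.map (MulAut.conj u).toMonoidHom ≤ P := by
        rintro _ ⟨w, hw, rfl⟩
        exact mul_mem (mul_mem hu (mem_sup_right hw)) (inv_mem hu)
      exact ⟨⟨u, hu, map_subgroupOf_eq_of_le hle⟩, hle⟩
    obtain ⟨h1, h1'⟩ := hmem q (mem_sup_left hq)
    obtain ⟨h2, h2'⟩ := hmem 1 (one_mem P)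
    rcases em ((A.map (MulAut.conj q).toMonoidHom).subgroupOf P =
        (A.map (MulAut.conj (1 : X)).toMonoidHom).subgroupOf P) with he | he
    · have hm : q * a * q⁻¹ ∈ A := by
        have he' := congrArg (Subgroup.map P.subtype) he
        rw [map_subgroupOf_eq_of_le h1', map_subgroupOf_eq_of_le h2',
          CfsgLib.Comp.map_conj_one] at he'
        exact he' ▸ ⟨a, ha, rfl⟩
      exact hAcomm _ hm b hb
    · have h := Cfsg.Agent.S1782.result hPp Δ ?_ ?_ (fun R hR T hT => (hcard R hR).trans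
        (hcard T hT).symm) ?_ _ h1 _ h2 he
      · rw [commutator_eq_bot_iff_le_centralizer] at h
        have hb' : (⟨b, mem_sup_right hb⟩ : P) ∈
            (A.map (MulAut.conj (1 : X)).toMonoidHom).subgroupOf P :=
          mem_subgroupOf.2 ⟨b, hb, by simp⟩
        exact (congrArg Subtype.val (mem_centralizer_iff.1
          (h (show (⟨q * a * q⁻¹, h1' ⟨a, ha, rfl⟩⟩ : P) ∈ _ from ⟨a, ha, rfl⟩)) _ hb')).symm
      · rintro u R ⟨v, hv, hR⟩
        refine ⟨(u : X) * v, mul_mem u.2 hv, ?_⟩
        rw [← CfsgLib.Coprime.map_conj_conj, ← hR, Subgroup.map_map, Subgroup.map_map]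
        rfl
      · rintro R ⟨u, -, hu⟩
        push Not at hne
        obtain ⟨a₁, ha₁, hsq⟩ := hne
        refine frattini_ne_bot (hPp.to_subgroup R) ?_
        obtain ⟨r, hr, hru⟩ : (MulAut.conj u).toMonoidHom a₁ ∈ R.map P.subtype :=
          hu ▸ mem_map_of_mem _ ha₁
        refine ⟨⟨r, hr⟩, fun h => hsq ?_⟩
        have h' : ((r : X)) ^ 2 = 1 := congrArg (fun z : R => ((z : P) : X)) h
        have hru' : (r : X) = u * a₁ * u⁻¹ := hru
        rwa [hru', conj_pow, conj_eq_one_iff] at h'
      · rintro R ⟨u, -, hu⟩ T ⟨v, -, hv⟩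
        rcases hti (v⁻¹ * u) with h | h
        · left
          refine map_injective P.subtype_injective ?_
          rw [hu, hv]
          conv_rhs => rw [← h]
          rw [CfsgLib.Coprime.map_conj_conj, mul_inv_cancel_left]
        · right
          refine map_injective P.subtype_injective ?_
          rw [map_inf _ _ _ P.subtype_injective, hu, hv, Subgroup.map_bot]
          have := congrArg (Subgroup.map (MulAut.conj v).toMonoidHom) h
          rwa [map_inf _ _ _ (MulAut.conj v).injective, CfsgLib.Coprime.map_conj_conj,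
            mul_inv_cancel_left, Subgroup.map_bot] at this
  -- the squares lie in `Q`
  have hK : squareKernel Q ≤ Q := by
    have hodd : ∀ n : ℕ, ∀ M : Subgroup X, Nat.card M = n → M.Normal → M ≤ Q →
        ∀ x ∈ squareKernel Q, (orderOf x).Coprime 2 → ∀ m ∈ M, x * m = m * x := by
      intro n
      induction n using Nat.strong_induction_on with
      | _ n ih =>
        intro M hMn hM hMQ x hx hxo m hm
        haveI := sqGen_normal M
        by_cases hlt : sqGen M = M
        · -- then `M` is trivial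
          suffices hM1 : M = ⊥ by rw [hM1, mem_bot] at hm; simp [hm]
          by_contra hne
          haveI : Nontrivial M := (nontrivial_iff_ne_bot M).2 hne
          have hMp : IsPGroup 2 M := hQ.to_le hMQ
          obtain ⟨W, hW, -⟩ := (eq_top_or_exists_le_coatom (⊥ : Subgroup M)).resolve_left bot_ne_top
          refine hW.1 (top_le_iff.1 fun y _ => ?_)
          have h1 : sqGen M ≤ W.map M.subtype := by
            refine (closure_le _).2 ?_
            rintro _ ⟨m', hm', rfl⟩
            exact ⟨⟨m', hm'⟩ ^ 2, Subgroup.sq_mem_of_index_two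
              (CfsgLib.Transfer.coatom_index_eq_prime hMp hW).2 _, rfl⟩
          obtain ⟨w, hw, hwy⟩ := h1 (hlt.symm ▸ y.2 : (y : X) ∈ sqGen M)
          exact (Subtype.ext hwy : w = y) ▸ hw
        · have hcard : Nat.card (sqGen M) < n := hMn ▸ lt_of_le_of_ne (card_le_of_le (sqGen_le M))
            fun h => hlt (eq_of_le_of_card_ge (sqGen_le M) h.ge)
          set e := x * m * x⁻¹ * m⁻¹ with he
          have hem : e ∈ sqGen M := hx M hM hMQ m hm
          have hxe : Commute x e :=
            ih _ hcard _ rfl inferInstance ((sqGen_le M).trans hMQ) x hx hxo e hem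
          have hstep : ∀ i : ℕ, x ^ i * m * (x ^ i)⁻¹ = e ^ i * m := by
            intro i
            induction i with
            | zero => simp
            | succ i ihi =>
              calc x ^ (i + 1) * m * (x ^ (i + 1))⁻¹ = x * (x ^ i * m * (x ^ i)⁻¹) * x⁻¹ := by
                    rw [pow_succ']; group
                _ = (x * e ^ i) * m * x⁻¹ := by rw [ihi]; group
                _ = e ^ i * (x * m * x⁻¹ * m⁻¹) * m := by rw [(hxe.pow_right i).eq]; group
                _ = e ^ (i + 1) * m := by rw [← he, ← pow_succ]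
          have h1 := hstep (orderOf x)
          rw [pow_orderOf_eq_one, one_mul, inv_one, mul_one] at h1
          have h2 : orderOf e ∣ orderOf x :=
            orderOf_dvd_of_pow_eq_one (mul_eq_right.1 h1.symm)
          obtain ⟨j, hj⟩ := hQ ⟨e, hMQ (sqGen_le M hem)⟩
          have h3 : orderOf e ∣ 2 ^ j :=
            orderOf_dvd_of_pow_eq_one (congrArg Subtype.val hj)
          have he1 : e = 1 :=
            orderOf_eq_one_iff.1 (Nat.eq_one_of_dvd_coprimes (hxo.pow_right j) h2 h3)
          rw [he, mul_inv_eq_one, mul_inv_eq_iff_eq_mul] at he1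
          exact he1
    have hKp : IsPGroup 2 (squareKernel Q) := by
      rintro ⟨x, hx⟩
      obtain ⟨j, o, ho, hjo⟩ := Nat.exists_eq_pow_mul_and_not_dvd (n := orderOf x)
        (orderOf_pos x).ne' 2 (by norm_num)
      refine ⟨j, Subtype.ext ?_⟩
      change x ^ 2 ^ j = 1
      have hord : orderOf (x ^ 2 ^ j) = o := by
        rw [orderOf_pow' x (pow_ne_zero _ two_ne_zero), hjo, Nat.gcd_mul_right_left,
          Nat.mul_div_cancel_left _ (pow_pos two_pos j)]
      have hcop : (orderOf (x ^ 2 ^ j)).Coprime 2 := by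
        rw [hord]; exact (Nat.prime_two.coprime_iff_not_dvd.2 ho).symm
      have hxQ : x ^ 2 ^ j ∈ Q := hCQ (mem_centralizer_iff.2 fun m hm =>
        (hodd _ Q rfl inferInstance le_rfl _ (pow_mem hx _) hcop m hm).symm)
      obtain ⟨i, hi⟩ := hQ ⟨_, hxQ⟩
      exact orderOf_eq_one_iff.1 (Nat.eq_one_of_dvd_coprimes (hcop.pow_right i) dvd_rfl
        (orderOf_dvd_of_pow_eq_one (congrArg Subtype.val hi)))
    refine le_sSup ⟨CfsgLib.Comp.normal_of_top_le_normalizer fun g _ => ?_, hKp⟩
    have hle : ∀ g : X, ∀ x ∈ squareKernel Q, g * x * g⁻¹ ∈ squareKernel Q := by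
      intro g x hx M hM hMQ m hm
      haveI := sqGen_normal M
      have h := Normal.conj_mem ‹_› _
        (hx M hM hMQ (g⁻¹ * m * g) (by simpa using Normal.conj_mem hM m hm g⁻¹)) g
      convert h using 1
      group
    refine mem_normalizer_iff.2 fun x => ⟨hle g x, fun h => ?_⟩
    have := hle g⁻¹ _ h
    convert this using 1
    group
  have hBQ : closure s ≤ Q := by
    refine (closure_le Q).2 ?_
    rintro _ ⟨a, ha, rfl⟩
    rcases hquad with h | h
    · show a ^ 2 ∈ Q
      rw [h a ha]
      exact one_mem Q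
    refine hK fun M hM hMQ m hm => ?_
    set d := a * m * a⁻¹ * m⁻¹ with hd
    have hdM : d ∈ M := mul_mem (Normal.conj_mem hM m hm a) (inv_mem hm)
    have hda : Commute a d := by
      refine Commute.eq ?_
      have h' : Commute (m * a⁻¹ * m⁻¹) a := h m (hMQ hm) _ (inv_mem ha) a ha
      rw [show d = a * (m * a⁻¹ * m⁻¹) by rw [hd]; group]
      exact (Commute.refl a).mul_right h'.symm
    have : a ^ 2 * m * (a ^ 2)⁻¹ * m⁻¹ = d ^ 2 := by
      calc a ^ 2 * m * (a ^ 2)⁻¹ * m⁻¹ = (a * d) * a⁻¹ * d := by rw [hd, pow_two]; group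
        _ = d ^ 2 := by rw [hda.eq, pow_two, mul_inv_cancel_right]
    show a ^ 2 * m * (a ^ 2)⁻¹ * m⁻¹ ∈ sqGen M
    rw [this]
    exact subset_closure ⟨d, hdM, rfl⟩
  refine ⟨hBQ, fun hne => ?_⟩
  set B := closure s with hB
  have hBA : B ≤ A := (closure_le A).2 (by rintro _ ⟨a, ha, rfl⟩; exact pow_mem ha 2)
  have hBcomm : IsMulCommutative B :=
    ⟨⟨fun x y => Subtype.ext (hAcomm _ (hBA x.2) _ (hBA y.2))⟩⟩
  obtain ⟨b₀, hb₀, hb₀2⟩ : ∃ b ∈ B, b ^ 2 ≠ 1 := by
    by_contra! h
    exact hne ⟨hBcomm, h⟩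
  let Δ : Set (Subgroup Q) := {R | ∃ u : X, R.map Q.subtype = B.map (MulAut.conj u).toMonoidHom}
  have hle : ∀ u : X, B.map (MulAut.conj u).toMonoidHom ≤ Q := fun u => by
    rintro _ ⟨w, hw, rfl⟩
    exact Normal.conj_mem ‹_› w (hBQ hw) u
  have hcard : ∀ R ∈ Δ, Nat.card R = Nat.card B := fun R ⟨u, hu⟩ => by
    rw [← card_map_of_injective (K := R) Q.subtype_injective, hu,
      card_map_of_injective (MulAut.conj u).injective]
  have hTI : ∀ u : X, B.map (MulAut.conj u).toMonoidHom = B ∨
      B.map (MulAut.conj u).toMonoidHom ⊓ B = ⊥ := by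
    intro u
    rcases hti u with h | h
    · left
      rw [hB, MonoidHom.map_closure, hs, ← Set.image_comp]
      conv_rhs => rw [← h, coe_map, ← Set.image_comp]
      congr 1
      refine Set.image_congr fun w _ => ?_
      exact map_pow (MulAut.conj u).toMonoidHom w 2
    · right
      exact eq_bot_iff.2 ((inf_le_inf (map_mono hBA) hBA).trans h.le)
  have hpair : ∀ u v : X, ∀ x ∈ B.map (MulAut.conj u).toMonoidHom,
      ∀ y ∈ B.map (MulAut.conj v).toMonoidHom, x * y = y * x := by
    intro u v x hx y hy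
    set R := (B.map (MulAut.conj u).toMonoidHom).subgroupOf Q
    set T := (B.map (MulAut.conj v).toMonoidHom).subgroupOf Q
    have hR : R ∈ Δ := ⟨u, map_subgroupOf_eq_of_le (hle u)⟩
    have hT : T ∈ Δ := ⟨v, map_subgroupOf_eq_of_le (hle v)⟩
    rcases em (R = T) with he | he
    · have hxy : x ∈ B.map (MulAut.conj v).toMonoidHom := by
        have he' := congrArg (Subgroup.map Q.subtype) he
        rw [map_subgroupOf_eq_of_le (hle u), map_subgroupOf_eq_of_le (hle v)] at he'
        exact he' ▸ hx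
      obtain ⟨x', hx', rfl⟩ := hxy
      obtain ⟨y', hy', rfl⟩ := hy
      rw [← map_mul, ← map_mul, hAcomm _ (hBA hx') _ (hBA hy')]
    · have h := Cfsg.Agent.S1782.result hQ Δ ?_ ?_
        (fun R hR T hT => (hcard R hR).trans (hcard T hT).symm) ?_ _ hR _ hT he
      · rw [commutator_eq_bot_iff_le_centralizer] at h
        exact (congrArg Subtype.val (mem_centralizer_iff.1
          (h (show (⟨x, hle u hx⟩ : Q) ∈ R from hx)) ⟨y, hle v hy⟩ hy)).symm
      · rintro w S ⟨u', hS⟩
        refine ⟨(w : X) * u', ?_⟩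
        rw [← CfsgLib.Coprime.map_conj_conj, ← hS, Subgroup.map_map, Subgroup.map_map]
        rfl
      · rintro S ⟨u', hu'⟩
        refine frattini_ne_bot (hQ.to_subgroup S) ?_
        obtain ⟨r, hr, hru⟩ : (MulAut.conj u').toMonoidHom b₀ ∈ S.map Q.subtype :=
          hu' ▸ mem_map_of_mem _ hb₀
        refine ⟨⟨r, hr⟩, fun h => hb₀2 ?_⟩
        have h' : ((r : X)) ^ 2 = 1 := congrArg (fun z : S => ((z : Q) : X)) h
        have hru' : (r : X) = u' * b₀ * u'⁻¹ := hru
        rwa [hru', conj_pow, conj_eq_one_iff] at h'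
      · rintro S ⟨u', hu'⟩ S' ⟨v', hv'⟩
        rcases hTI (v'⁻¹ * u') with h | h
        · left
          refine map_injective Q.subtype_injective ?_
          rw [hu', hv']
          conv_rhs => rw [← h]
          rw [CfsgLib.Coprime.map_conj_conj, mul_inv_cancel_left]
        · right
          refine map_injective Q.subtype_injective ?_
          rw [map_inf _ _ _ Q.subtype_injective, hu', hv', Subgroup.map_bot]
          have := congrArg (Subgroup.map (MulAut.conj v').toMonoidHom) h
          rwa [map_inf _ _ _ (MulAut.conj v').injective, CfsgLib.Coprime.map_conj_conj,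
            mul_inv_cancel_left, Subgroup.map_bot] at this
  refine isMulCommutative_closure fun x hx y hy => ?_
  obtain ⟨x', hx', hxx⟩ := Group.mem_conjugatesOfSet_iff.1 hx
  obtain ⟨y', hy', hyy⟩ := Group.mem_conjugatesOfSet_iff.1 hy
  obtain ⟨u, rfl⟩ := isConj_iff.1 hxx
  obtain ⟨v, rfl⟩ := isConj_iff.1 hyy
  exact hpair u v _ ⟨x', subset_closure hx', rfl⟩ _ ⟨y', subset_closure hy', rfl⟩

end Cfsg.Agent.S1783
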