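import Cfsg.Statements.S1784
import Cfsg.Agent.Lib.ClassK.Extraspecial

set_option autoImplicit false
open Cfsg

namespace Cfsg.Agent.S1784

/-- Let G be a finite group and let z be an involution of G such that Q, the generalized Fitting subgroup of the centralizer C of z, is a 2-group of symplectic type (every characteristic abelian subgroup of Q is cyclic); suppose Q is extraspecial, and view Q inside G. Let α be an involution of C that is not in Q, and let Q₀ be the subgroup of those q ∈ Q whose commutator with α lies in the subgroup generated by z. Then (a) the subgroup generated by the commutators α q α⁻¹ q⁻¹, q ∈ Q, equals the centre of Q₀; and (b) if Q₀ is not contained in the product of the centralizer of α in Q with the subgroup generated by z, then some element of Q conjugates α to α z. -/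
theorem result {G : Type*} [Group G] [Finite G] (z : G) (hz : orderOf z = 2) (hQ : Cfsg.IsOfSymplecticType ↥(Cfsg.generalizedFittingSubgroup ↥(Subgroup.centralizer ({z} : Set G)))) (hE : Cfsg.IsExtraspecial 2 ↥(Cfsg.generalizedFittingSubgroup ↥(Subgroup.centralizer ({z} : Set G))))
    (α : G) (hα : orderOf α = 2) (hαC : α ∈ Subgroup.centralizer ({z} : Set G)) (hαQ : α ∉ (Cfsg.generalizedFittingSubgroup ↥(Subgroup.centralizer ({z} : Set G))).map (Subgroup.centralizer ({z} : Set G)).subtype)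
    (Q₀ : Subgroup G) (hQ₀ : ∀ q : G, q ∈ Q₀ ↔ (q ∈ (Cfsg.generalizedFittingSubgroup ↥(Subgroup.centralizer ({z} : Set G))).map (Subgroup.centralizer ({z} : Set G)).subtype ∧ α * q * α⁻¹ * q⁻¹ ∈ Subgroup.zpowers z)) :
    Subgroup.closure ((fun q : G => α * q * α⁻¹ * q⁻¹) '' ((Cfsg.generalizedFittingSubgroup ↥(Subgroup.centralizer ({z} : Set G))).map (Subgroup.centralizer ({z} : Set G)).subtype : Set G)) = (Subgroup.center ↥Q₀).map Q₀.subtype ∧
      (¬ Q₀ ≤ ((Cfsg.generalizedFittingSubgroup ↥(Subgroup.centralizer ({z} : Set G))).map (Subgroup.centralizer ({z} : Set G)).subtype ⊓ Subgroup.centralizer ({α} : Set G)) ⊔ Subgroup.zpowers z →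
        ∃ q ∈ (Cfsg.generalizedFittingSubgroup ↥(Subgroup.centralizer ({z} : Set G))).map (Subgroup.centralizer ({z} : Set G)).subtype, q * α * q⁻¹ = α * z) := by
  classical
  haveI : Fact (Nat.Prime 2) := ⟨Nat.prime_two⟩
  set C := Subgroup.centralizer ({z} : Set G) with hC
  set F := Cfsg.generalizedFittingSubgroup C with hF
  set Q := F.map C.subtype with hQdef
  haveI : F.Normal := CfsgLib.Comp.generalizedFittingSubgroup_normal C
  have hFC : Subgroup.centralizer (F : Set C) ≤ F :=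
    CfsgLib.Comp.centralizer_generalizedFitting_le C
  obtain ⟨⟨hFp, hΦ, hD⟩, hcard⟩ := hE
  have hz2 : z ^ 2 = 1 := hz ▸ pow_orderOf_eq_one z
  have hz1 : z ≠ 1 := fun h => by rw [h, orderOf_one] at hz; omega
  have hzC : z ∈ C := Subgroup.mem_centralizer_singleton_iff.2 rfl
  have hzF : (⟨z, hzC⟩ : C) ∈ F := hFC (Subgroup.mem_centralizer_iff.2 fun f _ =>
    Subtype.ext (Subgroup.mem_centralizer_singleton_iff.1 f.2))
  have hzm : z ∈ Q := ⟨_, hzF, rfl⟩
  have hzQ : ∀ q ∈ Q, q * z = z * q := by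
    rintro _ ⟨f, -, rfl⟩
    exact Subgroup.mem_centralizer_singleton_iff.1 f.2
  -- the centre of `Q` is `⟨z⟩`
  have hzc : (⟨⟨z, hzC⟩, hzF⟩ : F) ∈ Subgroup.center F := Subgroup.mem_center_iff.2 fun f =>
    Subtype.ext (Subtype.ext (Subgroup.mem_centralizer_singleton_iff.1 (f : C).2))
  have hcenF : Subgroup.zpowers (⟨⟨z, hzC⟩, hzF⟩ : F) = Subgroup.center F := by
    refine Subgroup.eq_of_le_of_card_ge (Subgroup.zpowers_le.2 hzc) ?_
    rw [Nat.card_zpowers, Subgroup.orderOf_mk, Subgroup.orderOf_mk, hz, hcard]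
  have hval : ∀ f ∈ Subgroup.center F, ((f : C) : G) ∈ Subgroup.zpowers z := by
    intro f hf
    rw [← hcenF] at hf
    obtain ⟨i, rfl⟩ := Subgroup.mem_zpowers_iff.1 hf
    exact Subgroup.mem_zpowers_iff.2 ⟨i, rfl⟩
  have hcen : Q ⊓ Subgroup.centralizer (Q : Set G) ≤ Subgroup.zpowers z := by
    rintro _ ⟨⟨f, hf, rfl⟩, hc⟩
    exact hval ⟨f, hf⟩ (Subgroup.mem_center_iff.2 fun g => Subtype.ext (Subtype.ext
      (Subgroup.mem_centralizer_iff.1 hc _ ⟨g, g.2, rfl⟩)))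
  have hcomm : ∀ q ∈ Q, ∀ r ∈ Q, q * r * q⁻¹ * r⁻¹ ∈ Subgroup.zpowers z := by
    rintro _ ⟨f, hf, rfl⟩ _ ⟨g, hg, rfl⟩
    refine hval (⟨f, hf⟩ * ⟨g, hg⟩ * ⟨f, hf⟩⁻¹ * ⟨g, hg⟩⁻¹) ?_
    rw [← hD, _root_.commutator_def]
    exact Subgroup.commutator_mem_commutator (Subgroup.mem_top _) (Subgroup.mem_top _)
  have hsq : ∀ q ∈ Q, q ^ 2 ∈ Subgroup.zpowers z := by
    rintro _ ⟨f, hf, rfl⟩
    refine hval (⟨f, hf⟩ ^ 2) (hΦ ▸ ?_)
    refine (le_iInf₂ fun M hM => ?_ : Subgroup.zpowers ((⟨f, hf⟩ : F) ^ 2) ≤ frattini F)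
      (Subgroup.mem_zpowers _)
    rw [Subgroup.zpowers_le]
    exact Subgroup.sq_mem_of_index_two (CfsgLib.Transfer.coatom_index_eq_prime hFp hM).2 _
  have hα2 : α ^ 2 = 1 := hα ▸ pow_orderOf_eq_one α
  have hαz : α * z = z * α := Subgroup.mem_centralizer_singleton_iff.1 hαC
  have hαQ' : ∀ q ∈ Q, α * q * α⁻¹ ∈ Q := by
    rintro _ ⟨f, hf, rfl⟩
    exact ⟨⟨α, hαC⟩ * f * ⟨α, hαC⟩⁻¹, Subgroup.Normal.conj_mem inferInstance f hf _, rfl⟩
  have hαne : ∃ q ∈ Q, α * q * α⁻¹ * q⁻¹ ≠ 1 := by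
    by_contra! h
    refine hαQ ⟨⟨α, hαC⟩, hFC (Subgroup.mem_centralizer_iff.2 fun f hf => Subtype.ext ?_), rfl⟩
    have h1 := h _ ⟨f, hf, rfl⟩
    rw [mul_inv_eq_one, mul_inv_eq_iff_eq_mul] at h1
    exact h1.symm
  have hQp : IsPGroup 2 Q := hFp.map C.subtype
  refine ⟨CfsgLib.ClassK.closure_commutators_eq_center hQp hz2 hz1 hzm hzQ hcen hcomm hsq hα2
    hαz hαQ' hαne hQ₀, fun hne => ?_⟩
  by_contra! h
  apply hne
  intro q hq
  obtain ⟨hqQ, hqc⟩ := (hQ₀ q).1 hq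
  refine Subgroup.mem_sup_left (Subgroup.mem_inf.2 ⟨hqQ, ?_⟩)
  rcases CfsgLib.ClassK.mem_zpowers_two hz2 hqc with h1 | h1
  · rw [mul_inv_eq_one, mul_inv_eq_iff_eq_mul] at h1
    exact Subgroup.mem_centralizer_singleton_iff.2 h1.symm
  · refine absurd ?_ (h q hqQ)
    have hαi : α⁻¹ = α := inv_eq_of_mul_eq_one_right (by rw [← pow_two, hα2])
    calc q * α * q⁻¹ = q * α⁻¹ * q⁻¹ := by rw [hαi]
      _ = α⁻¹ * (α * q * α⁻¹ * q⁻¹) := by group
      _ = α * z := by rw [h1, hαi]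

end Cfsg.Agent.S1784
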