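import Cfsg.Statements.S1785
import Cfsg.Agent.Lib.ClassK.Connected
import Mathlib.Tactic

set_option autoImplicit false
open Cfsg

namespace Cfsg.Agent.S1785

/-- Let X be a finite 2-group having a normal elementary abelian subgroup of order at least 32. Then (a) for any two elementary abelian subgroups A, B of X of order 8 there is a chain A = A₁, A₂, …, Aₙ = B of elementary abelian subgroups of order 8 in which consecutive members commute elementwise; and (b) every elementary abelian subgroup of X of order 4 is contained in an elementary abelian subgroup of order 8. -/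
theorem result {X : Type*} [Group X] [Finite X]
    (hX : IsPGroup 2 X) (E : Subgroup X) [E.Normal] (hE : Cfsg.IsElementaryAbelian 2 E) (hE32 : 32 ≤ Nat.card ↥E) :
    (∀ A B : Subgroup X, Cfsg.IsElementaryAbelian 2 A → Nat.card ↥A = 8 → Cfsg.IsElementaryAbelian 2 B → Nat.card ↥B = 8 →
        Relation.ReflTransGen
          (fun C D : Subgroup X => Cfsg.IsElementaryAbelian 2 C ∧ Nat.card ↥C = 8 ∧ Cfsg.IsElementaryAbelian 2 D ∧ Nat.card ↥D = 8 ∧ ⁅C, D⁆ = ⊥)
          A B) ∧
      (∀ V : Subgroup X, Cfsg.IsElementaryAbelian 2 V → Nat.card ↥V = 4 →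
        ∃ A : Subgroup X, V ≤ A ∧ Cfsg.IsElementaryAbelian 2 A ∧ Nat.card ↥A = 8) := by
  classical
  haveI : Fact (Nat.Prime 2) := ⟨Nat.prime_two⟩
  refine ⟨fun A B hA hA8 hB hB8 => ?_, fun V hV hV4 => ?_⟩
  · refine CfsgLib.ClassK.connected_of_normal_elementary hX hE (m := 3) ?_ hA (by rw [hA8]; norm_num)
      hB (by rw [hB8]; norm_num) _ fun C D hC hCc hD hDc h =>
      ⟨hC, by rw [hCc]; norm_num, hD, by rw [hDc]; norm_num, ?_⟩
    · intro j hj
      interval_cases j <;> simp <;> omega
    · rw [Subgroup.commutator_eq_bot_iff_le_centralizer]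
      exact fun c hc => Subgroup.mem_centralizer_iff.2 fun d hd => (h c hc d hd).symm
  · set F := E ⊓ Subgroup.centralizer (V : Set X) with hF
    have hT := CfsgLib.ClassK.isElementaryAbelian_sup hE hV
    suffices h8 : 2 ^ 3 ≤ Nat.card ↥(V ⊔ F) by
      obtain ⟨D, hVD, hDT, hDc⟩ := CfsgLib.ClassK.exists_between (K := V) (T := V ⊔ F) (m := 3)
        (k := 2) le_sup_left (by rw [hV4]; norm_num) (by norm_num) (hX.to_subgroup _) h8
      exact ⟨D, hVD, CfsgLib.ClassK.isElementaryAbelian_of_le hT hDT, by rw [hDc]; norm_num⟩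
    by_contra hlt
    obtain ⟨c, hc⟩ := (hX.to_subgroup (V ⊔ F)).exists_card_eq
    have hc2 : c ≤ 2 := by
      by_contra hcc
      exact hlt (hc ▸ Nat.pow_le_pow_right two_pos (by omega))
    have hVF : V ⊔ F = V := by
      refine (Subgroup.eq_of_le_of_card_ge le_sup_left ?_).symm
      rw [hc, hV4]
      exact (Nat.pow_le_pow_right two_pos hc2).trans (by norm_num)
    have hFV : F ≤ V := hVF ▸ le_sup_right
    have hcount := CfsgLib.ClassK.card_le_pow_relIndex hE hV
    rw [← hF] at hcount
    have hFle : Nat.card F ≤ 4 := hV4 ▸ Subgroup.card_le_of_le hFV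
    have hrel : Nat.card ↥(E ⊓ V) * E.relIndex V = 4 := by
      have h := Subgroup.relIndex_mul_relIndex ⊥ (E ⊓ V) V bot_le inf_le_right
      rwa [Subgroup.inf_relIndex_right, Subgroup.relIndex_bot_left, Subgroup.relIndex_bot_left,
        hV4] at h
    have hFEV : Nat.card F ≤ Nat.card ↥(E ⊓ V) :=
      Subgroup.card_le_of_le (le_inf inf_le_left hFV)
    set f := Nat.card F
    set e := Nat.card ↥(E ⊓ V)
    have hr : E.relIndex V ≤ 4 := Nat.le_of_dvd (by norm_num) ⟨e, by rw [mul_comm]; exact hrel.symm⟩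
    interval_cases hr' : E.relIndex V <;> interval_cases f <;> simp at hcount <;> omega

end Cfsg.Agent.S1785
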