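import Cfsg.Statements.S1786
import Cfsg.Agent.Lib.ClassK.TISL2
import Cfsg.Agent.Lib.Comp.FStar
import Cfsg.Agent.Lib.Amalgam.PCoreOf
import Cfsg.Agent.Lib.Solvable.Frattini2
import Cfsg.Agent.Lib.Transfer.PPrimeAut

set_option autoImplicit false
open Cfsg

namespace Cfsg.Agent.S1786

/-- Let G be a finite group, V an elementary abelian 2-subgroup of G and M the normalizer of V; write Q for the largest normal 2-subgroup of M. Suppose (1) the generalized Fitting subgroup of M equals Q; (2) V is a maximal abelian normal subgroup of M; (3) every conjugate of V equals V or meets V trivially, and for some g ∈ G the conjugate V' = g V g⁻¹ is different from V and contained in Q. Let P be the centralizer of V in Q, W the subgroup generated by V and V', and H the subgroup generated by P and g P g⁻¹. Then: (a) V is contained in g Q g⁻¹; (b) every non-identity element of W lies in exactly one conjugate of V contained in W, H normalizes W, and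 H modulo the centralizer of W in H is isomorphic to the special linear group of dimension 2 over the field with |V| elements; (c) P = Q, and V equals the Frattini subgroup, the centre and the commutator subgroup of Q. -/
theorem result {G : Type*} [Group G] [Finite G] (V : Subgroup G)
    (hV : Cfsg.IsElementaryAbelian 2 V)
    (h1 : (Cfsg.generalizedFittingSubgroup ↥(Subgroup.normalizer (V : Set G))).map (Subgroup.normalizer (V : Set G)).subtype =
      (Cfsg.pCore 2 ↥(Subgroup.normalizer (V : Set G))).map (Subgroup.normalizer (V : Set G)).subtype)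
    (h2 : ∀ A : Subgroup G, V ≤ A → A ≤ Subgroup.normalizer (V : Set G) → IsMulCommutative ↥A →
      (∀ m ∈ Subgroup.normalizer (V : Set G), ∀ a ∈ A, m * a * m⁻¹ ∈ A) → A = V)
    (hti : ∀ x : G, V.map (MulAut.conj x).toMonoidHom = V ∨ V.map (MulAut.conj x).toMonoidHom ⊓ V = ⊥)
    (g : G) (hg : V.map (MulAut.conj g).toMonoidHom ≠ V)
    (hgQ : V.map (MulAut.conj g).toMonoidHom ≤ (Cfsg.pCore 2 ↥(Subgroup.normalizer (V : Set G))).map (Subgroup.normalizer (V : Set G)).subtype) :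
    let Q : Subgroup G := (Cfsg.pCore 2 ↥(Subgroup.normalizer (V : Set G))).map (Subgroup.normalizer (V : Set G)).subtype
    let P : Subgroup G := Q ⊓ Subgroup.centralizer (V : Set G)
    let W : Subgroup G := V ⊔ V.map (MulAut.conj g).toMonoidHom
    let H : Subgroup G := P ⊔ P.map (MulAut.conj g).toMonoidHom
    V ≤ Q.map (MulAut.conj g).toMonoidHom ∧
      (∀ w ∈ W, w ≠ 1 → ∃! U : Subgroup G, (∃ x : G, U = V.map (MulAut.conj x).toMonoidHom) ∧ U ≤ W ∧ w ∈ U) ∧
      H ≤ Subgroup.normalizer (W : Set G) ∧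
      (∀ hN : ((Subgroup.centralizer (W : Set G)).subgroupOf H).Normal, ∃ (F : Type) (_ : Field F) (_ : Fintype F), Fintype.card F = Nat.card ↥V ∧
        Nonempty (↥H ⧸ (Subgroup.centralizer (W : Set G)).subgroupOf H ≃* Matrix.SpecialLinearGroup (Fin 2) F)) ∧
      P = Q ∧ (frattini ↥Q).map Q.subtype = V ∧ (Subgroup.center ↥Q).map Q.subtype = V ∧ (commutator ↥Q).map Q.subtype = V := by
  intro Q P W H
  have : Fact (Nat.Prime 2) := ⟨Nat.prime_two⟩
  set M := Subgroup.normalizer (V : Set G)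
  have hQeq : Q = Cfsg.pCoreOf 2 M := rfl
  have hsub := Subgroup.map_injective M.subtype_injective h1
  have hd : CfsgLib.ClassK.TI.IsTIData V Q :=
    { two := CfsgLib.Amalgam.isPGroup_pCoreOf M
      comm := fun v hv w hw => congrArg Subtype.val (hV.1.is_comm.comm (⟨v, hv⟩ : V) ⟨w, hw⟩)
      sq := fun v hv => by rw [← pow_two]; exact hV.2 v hv
      le := CfsgLib.Amalgam.pCoreOf_le M
      inv := fun m hm q hq =>
        (Subgroup.mem_normalizer_iff.1 (CfsgLib.Amalgam.le_normalizer_pCoreOf M hm) q).1 hq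
      largest := fun R hR hRM hRi => CfsgLib.Amalgam.le_pCoreOf hRM
        (fun m hm => Subgroup.mem_normalizer_fintype fun r hr => hRi m hm r hr) hR
      selfc := fun x hx hc => by
        have hx' : (⟨x, hx⟩ : M) ∈ Subgroup.centralizer
            (Cfsg.generalizedFittingSubgroup M : Set M) := by
          rw [hsub]
          exact Subgroup.mem_centralizer_iff.2 fun q hq =>
            Subtype.ext (hc q ⟨q, hq, rfl⟩).symm
        have h' := CfsgLib.Comp.centralizer_generalizedFitting_le M hx'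
        rw [hsub] at h'
        exact ⟨_, h', rfl⟩
      maxab := fun A hVA hAN hab hAi => h2 A hVA hAN ⟨⟨fun a b => Subtype.ext (hab a a.2 b b.2)⟩⟩ hAi
      ti := fun x v hv hv1 hxv => by
        rcases hti x with h | h
        · exact CfsgLib.ClassK.TI.mem_normalizer_iff_cj.2 h
        · exfalso
          refine hv1 ?_
          have : x * v * x⁻¹ ∈ CfsgLib.ClassK.TI.cj x V ⊓ V :=
            ⟨CfsgLib.ClassK.TI.conj_mem_cj.2 hv, hxv⟩
          have h' : x * v * x⁻¹ = 1 := Subgroup.mem_bot.1 (h ▸ this)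
          exact conj_eq_one_iff.1 h' }
  set Y := CfsgLib.ClassK.TI.cj g V with hYdef
  have hY : CfsgLib.ClassK.TI.IsOther V Y := ⟨⟨g, rfl⟩, hg⟩
  have hYQ : Y ≤ Q := hgQ
  have hVQ₁ := hd.le_cj_Q g hY hYQ
  have hd₁ := hd.conjugate g
  obtain ⟨A, hA, hAQ, hnc⟩ := hd.exists_noncommuting hY hYQ
  have hV₁ : CfsgLib.ClassK.TI.IsOther Y V :=
    ⟨⟨g⁻¹, by rw [hYdef, ← CfsgLib.ClassK.TI.cj_mul, inv_mul_cancel, CfsgLib.ClassK.TI.cj_one]⟩,
      hY.2.symm⟩
  obtain ⟨B, hB, hBQ, hnc'⟩ := hd₁.exists_noncommuting hV₁ hVQ₁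
  have hYP : ∀ {y}, y ∈ Y → y ∈ P := fun hy => hd.other_le_P hY hYQ hy
  have hAP : ∀ {a}, a ∈ A → a ∈ P := fun ha => hd.other_le_P hA hAQ ha
  have hVY := hd.comm_V_other hY hYQ
  have hbrV : ∀ {p y}, p ∈ P → y ∈ Y → CfsgLib.ClassK.TI.br p y ∈ V :=
    fun hp hy => (hd.br_P_mem hp (hYP hy)).1
  -- `N(V)` is transitive on the non-identity elements of `V`
  have htrans : ∀ x ∈ V, x ≠ 1 → ∀ z ∈ V, z ≠ 1 → ∃ m ∈ M, m * x * m⁻¹ = z := by
    intro x hx hx1 z hz hz1
    obtain ⟨y, hy, hy1⟩ := hd.exists_ne_one hY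
    obtain ⟨a, ha, hay⟩ := hd.exists_br_left hA hAQ hY hYQ hnc hy hy1 hz
    obtain ⟨b, hb, hbz⟩ := hd₁.exists_br_left hB hBQ hV₁ hVQ₁ hnc' hz hz1 hy
    obtain ⟨a', ha', hay'⟩ := hd.exists_br_left hA hAQ hY hYQ hnc hy hy1 hx
    obtain ⟨b', hb', hbx⟩ := hd₁.exists_br_left hB hBQ hV₁ hVQ₁ hnc' hx hx1 hy
    have hzy := hVY z hz y hy
    have hxy := hVY x hx y hy
    have e1 : a' * x * a'⁻¹ = x := by
      rw [CfsgLib.ClassK.TI.IsTIData.comm_of_P (hAP ha') hx, mul_inv_cancel_right]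
    have e2 : b' * x * b'⁻¹ = y * x := by rw [CfsgLib.ClassK.TI.mul_eq_br_mul, hbx]
    have e3 : a' * (y * x) * a'⁻¹ = y := by
      calc a' * (y * x) * a'⁻¹ = (a' * y * a'⁻¹) * (a' * x * a'⁻¹) := by group
        _ = (x * y) * x := by rw [e1, CfsgLib.ClassK.TI.mul_eq_br_mul, hay']
        _ = y * (x * x) := by rw [hxy, mul_assoc]
        _ = y := by rw [hd.sq x hx, mul_one]
    have e4 : a * y * a⁻¹ = z * y := by rw [CfsgLib.ClassK.TI.mul_eq_br_mul, hay]
    have e5 : b * (z * y) * b⁻¹ = z := by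
      have hby : b * y * b⁻¹ = y := by
        rw [CfsgLib.ClassK.TI.IsTIData.comm_of_P (hd₁.other_le_P hB hBQ hb) hy, mul_inv_cancel_right]
      calc b * (z * y) * b⁻¹ = (b * z * b⁻¹) * (b * y * b⁻¹) := by group
        _ = y * z * y := by rw [hby, CfsgLib.ClassK.TI.mul_eq_br_mul, hbz]
        _ = z * (y * y) := by rw [← hzy, mul_assoc]
        _ = z := by rw [hd.other_sq hY hy, mul_one]
    have e6 : a * z * a⁻¹ = z := by
      rw [CfsgLib.ClassK.TI.IsTIData.comm_of_P (hAP ha) hz, mul_inv_cancel_right]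
    have e7 : (a * b * a * (a' * b' * a')) * x * (a * b * a * (a' * b' * a'))⁻¹ = z := by
      calc (a * b * a * (a' * b' * a')) * x * (a * b * a * (a' * b' * a'))⁻¹ =
            a * (b * (a * (a' * (b' * (a' * x * a'⁻¹) * b'⁻¹) * a'⁻¹) * a⁻¹) * b⁻¹) * a⁻¹ := by group
        _ = z := by rw [e1, e2, e3, e4, e5, e6]
    exact ⟨_, hd.ti _ x hx hx1 (e7 ▸ hz), e7⟩
  -- `Q` centralizes `V`
  have hPQ : P = Q := by
    refine le_antisymm inf_le_left (le_inf le_rfl fun q hq => Subgroup.mem_centralizer_iff.2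
      fun v hv => ?_)
    have := hd.two.isNilpotent
    have hn : (V.subgroupOf Q).Normal :=
      ⟨fun w hw k => (Subgroup.mem_normalizer_iff.1 (hd.le k.2) (w : G)).1 hw⟩
    have hne : V.subgroupOf Q ≠ ⊥ := by
      rw [Ne, Subgroup.subgroupOf_eq_bot, disjoint_iff, inf_eq_left.2 hd.le_Q]
      intro e
      exact hY.2 (by rw [hYdef, e]; exact Subgroup.map_bot _)
    obtain ⟨⟨⟨z, hzQ⟩, hzV, hzc⟩, hz1⟩ := Subgroup.ne_bot_iff_exists_ne_one.1
      (CfsgLib.Solvable.normal_inf_center_ne_bot (G := Q) _ hne)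
    have hz1' : z ≠ 1 := fun e => hz1 (Subtype.ext (Subtype.ext e))
    by_cases hv1 : v = 1
    · simp [hv1]
    obtain ⟨m, hm, e⟩ := htrans z hzV hz1' v hv hv1
    have hq' := hd.inv m⁻¹ (inv_mem hm) q hq
    rw [inv_inv] at hq'
    have hc : m⁻¹ * q * m * z = z * (m⁻¹ * q * m) :=
      congrArg Subtype.val (Subgroup.mem_center_iff.1 hzc ⟨_, hq'⟩)
    calc v * q = m * (z * (m⁻¹ * q * m)) * m⁻¹ := by rw [← e]; group
      _ = m * (m⁻¹ * q * m * z) * m⁻¹ := by rw [hc]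
      _ = q * v := by rw [← e]; group
  have hmemP : ∀ k : Q, (k : G) ∈ P := fun k => by rw [hPQ]; exact k.2
  have := hd.two.isNilpotent
  have hcomm : (commutator ↥Q).map Q.subtype = V := by
    apply le_antisymm
    · rw [Subgroup.map_le_iff_le_comap, commutator_eq_closure, Subgroup.closure_le]
      rintro _ ⟨p, q, rfl⟩
      exact (hd.br_P_mem (hmemP p) (hmemP q)).1
    · intro v hv
      obtain ⟨y, hy, hy1⟩ := hd.exists_ne_one hY
      obtain ⟨a, ha, e⟩ := hd.exists_br_left hA hAQ hY hYQ hnc hy hy1 hv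
      refine ⟨(⟨a, hAQ ha⟩ : Q) * ⟨y, hYQ hy⟩ * (⟨a, hAQ ha⟩ : Q)⁻¹ * (⟨y, hYQ hy⟩ : Q)⁻¹, ?_, e⟩
      rw [commutator_eq_closure]
      exact Subgroup.subset_closure ⟨⟨a, hAQ ha⟩, ⟨y, hYQ hy⟩, rfl⟩
  have hcenter : (Subgroup.center ↥Q).map Q.subtype = V := by
    apply le_antisymm
    · rintro _ ⟨z, hz, rfl⟩
      exact hd.center_P (hmemP z) fun p hp =>
        (congrArg Subtype.val (Subgroup.mem_center_iff.1 hz ⟨p, hp.1⟩)).symm
    · exact fun v hv => ⟨⟨v, hd.le_Q hv⟩, Subgroup.mem_center_iff.2 fun k =>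
        Subtype.ext (CfsgLib.ClassK.TI.IsTIData.comm_of_P (hmemP k) hv), rfl⟩
  have hfrat : (frattini ↥Q).map Q.subtype = V := by
    apply le_antisymm
    · have hn : (V.subgroupOf Q).Normal :=
        ⟨fun w hw k => (Subgroup.mem_normalizer_iff.1 (hd.le k.2) (w : G)).1 hw⟩
      rw [Subgroup.map_le_iff_le_comap]
      exact CfsgLib.Transfer.frattini_le_of_elementary_quotient (p := 2) (V.subgroupOf Q)
        (fun x y => (hd.br_P_mem (hmemP x) (hmemP y)).1)
        (fun x => by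
          rw [Subgroup.mem_subgroupOf, pow_two]
          exact (hd.br_P_mem (hmemP x) (hmemP x)).2)
    · conv_lhs => rw [← hcomm]
      exact Subgroup.map_mono CfsgLib.Solvable.commutator_le_frattini
  -- the partition of `W`
  have hpart : ∀ w ∈ W, w ≠ 1 → ∃! U : Subgroup G,
      (∃ x : G, U = V.map (MulAut.conj x).toMonoidHom) ∧ U ≤ W ∧ w ∈ U := by
    intro w hw hw1
    obtain ⟨v, hv, y, hy, rfl⟩ := (CfsgLib.ClassK.TI.mem_sup_of_comm hVY).1 hw
    suffices ∃ U : Subgroup G, (∃ x : G, U = CfsgLib.ClassK.TI.cj x V) ∧ U ≤ W ∧ v * y ∈ U by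
      obtain ⟨U, ⟨x, hx⟩, hUW, hmem⟩ := this
      refine ⟨U, ⟨⟨x, hx⟩, hUW, hmem⟩, ?_⟩
      rintro U' ⟨⟨x', hx'⟩, -, hmem'⟩
      rw [hx] at hmem ⊢
      rw [hx'] at hmem' ⊢
      exact hd.cj_eq_cj hw1 hmem' hmem
    by_cases hy1 : y = 1
    · refine ⟨V, ⟨1, (CfsgLib.ClassK.TI.cj_one V).symm⟩, le_sup_left, ?_⟩
      rw [hy1, mul_one]; exact hv
    obtain ⟨a, ha, e⟩ := hd.exists_br_left hA hAQ hY hYQ hnc hy hy1 hv
    refine ⟨CfsgLib.ClassK.TI.cj a Y, ⟨a * g, (CfsgLib.ClassK.TI.cj_mul a g V).symm⟩, ?_, ?_⟩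
    · rintro _ ⟨z, hz, rfl⟩
      show a * z * a⁻¹ ∈ W
      rw [CfsgLib.ClassK.TI.mul_eq_br_mul]
      exact mul_mem (Subgroup.mem_sup_left (hbrV (hAP ha) hz)) (Subgroup.mem_sup_right hz)
    · rw [← e, ← CfsgLib.ClassK.TI.mul_eq_br_mul]
      exact CfsgLib.ClassK.TI.conj_mem_cj.2 hy
  have hHW : H ≤ Subgroup.normalizer (W : Set G) := by
    refine sup_le (fun p hp => Subgroup.mem_normalizer_fintype fun w hw => ?_)
      fun p hp => Subgroup.mem_normalizer_fintype fun w hw => ?_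
    · obtain ⟨v, hv, y, hy, rfl⟩ := (CfsgLib.ClassK.TI.mem_sup_of_comm hVY).1 hw
      rw [show p * (v * y) * p⁻¹ = p * v * p⁻¹ * (p * y * p⁻¹) by group,
        CfsgLib.ClassK.TI.IsTIData.comm_of_P hp hv, mul_inv_cancel_right,
        CfsgLib.ClassK.TI.mul_eq_br_mul]
      exact mul_mem (Subgroup.mem_sup_left hv)
        (mul_mem (Subgroup.mem_sup_left (hbrV hp hy)) (Subgroup.mem_sup_right hy))
    · obtain ⟨p', hp', rfl⟩ := hp
      obtain ⟨v, hv, y, hy, rfl⟩ := (CfsgLib.ClassK.TI.mem_sup_of_comm hVY).1 hw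
      set k := (MulAut.conj g).toMonoidHom p'
      have hk : k = g * p' * g⁻¹ := rfl
      have hky : k * y = y * k := by
        have h' := CfsgLib.ClassK.TI.IsTIData.comm_of_P hp' (CfsgLib.ClassK.TI.mem_cj.1 hy)
        calc k * y = g * (p' * (g⁻¹ * y * g)) * g⁻¹ := by rw [hk]; group
          _ = g * (g⁻¹ * y * g * p') * g⁻¹ := by rw [h']
          _ = y * k := by rw [hk]; group
      have hkP : k ∈ CfsgLib.ClassK.TI.IsTIData.P' Y (CfsgLib.ClassK.TI.cj g Q) := by
        refine ⟨CfsgLib.ClassK.TI.conj_mem_cj.2 hp'.1, Subgroup.mem_centralizer_iff.2 fun z hz => ?_⟩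
        have h' := CfsgLib.ClassK.TI.IsTIData.comm_of_P hp' (CfsgLib.ClassK.TI.mem_cj.1 hz)
        calc z * k = g * (g⁻¹ * z * g * p') * g⁻¹ := by rw [hk]; group
          _ = g * (p' * (g⁻¹ * z * g)) * g⁻¹ := by rw [h']
          _ = k * z := by rw [hk]; group
      rw [show k * (v * y) * k⁻¹ = k * v * k⁻¹ * (k * y * k⁻¹) by group, hky, mul_inv_cancel_right,
        CfsgLib.ClassK.TI.mul_eq_br_mul]
      exact mul_mem (mul_mem (Subgroup.mem_sup_right
        (hd₁.br_P_mem hkP (hd₁.other_le_P hV₁ hVQ₁ hv)).1) (Subgroup.mem_sup_left hv))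
        (Subgroup.mem_sup_right hy)
  exact ⟨hVQ₁, hpart, hHW, fun hN => hd.sl_quotient hY hYQ H rfl hN, hPQ, hfrat, hcenter, hcomm⟩

end Cfsg.Agent.S1786
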