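import Cfsg.Statements.S1850
import Cfsg.Agent.Lib.ClassK.CharTwo
import Mathlib.Tactic

set_option autoImplicit false
open Cfsg

namespace Cfsg.Agent.S1850

/-- Let G be a non-abelian finite simple QTKE-group and T a Sylow 2-subgroup of G. If U is a nontrivial 2-subgroup of G with U ∩ Z(T) ≠ 1, then F*(N_G(U)) = O₂(N_G(U)). -/
theorem result {G : Type*} [Group G] [Finite G] [IsSimpleGroup G]
    (hG : ¬ IsMulCommutative G) (hQ : Cfsg.IsQTKE G) (T : Sylow 2 G) (U : Subgroup G)
    (hU : IsPGroup 2 ↥U) (hZ : U ⊓ ((T : Subgroup G) ⊓ Subgroup.centralizer ((T : Subgroup G) : Set G)) ≠ ⊥) :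
    Subgroup.normalizer (U : Set G) ∈ Cfsg.calHe G := by
  classical
  haveI : Fact (Nat.Prime 2) := ⟨Nat.prime_two⟩
  set Z := U ⊓ ((T : Subgroup G) ⊓ Subgroup.centralizer ((T : Subgroup G) : Set G)) with hZdef
  haveI : Nontrivial Z := (Subgroup.nontrivial_iff_ne_bot _).2 hZ
  obtain ⟨n, hn, hcard⟩ := (hU.to_le inf_le_left : IsPGroup 2 Z).nontrivial_iff_card.1 inferInstance
  obtain ⟨⟨z, hz⟩, hzord⟩ :=
    exists_prime_orderOf_dvd_card' 2 (hcard ▸ dvd_pow_self 2 hn.ne' : 2 ∣ Nat.card Z)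
  rw [Subgroup.orderOf_mk] at hzord
  have hne : Subgroup.zpowers z ≠ ⊥ := by
    rw [Subgroup.zpowers_ne_bot]; rintro rfl; simp at hzord
  have hp : IsPGroup 2 (Subgroup.zpowers z) :=
    IsPGroup.of_card (n := 1) (by rw [Nat.card_zpowers, hzord, pow_one])
  have hTN : (T : Subgroup G) ≤ Subgroup.normalizer (Subgroup.zpowers z : Set G) := by
    refine le_trans ?_ (Subgroup.centralizer_le_normalizer _)
    exact Subgroup.le_centralizer_iff.1 (Subgroup.zpowers_le.2 hz.2.2)
  have hNC := hQ.2.2 _ ⟨_, hp, hne, rfl⟩ ⟨T, hTN⟩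
  have heq : Subgroup.normalizer (Subgroup.zpowers z : Set G) =
      Subgroup.centralizer ({z} : Set G) := by
    refine le_antisymm (fun g hg => ?_)
      ((Subgroup.zpowers_eq_closure z ▸ (Subgroup.centralizer_closure _).ge).trans
        (Subgroup.centralizer_le_normalizer _))
    have h1 := (Subgroup.mem_normalizer_iff.1 hg z).1 (Subgroup.mem_zpowers z)
    obtain ⟨i, hi⟩ := Subgroup.mem_zpowers_iff.1 h1
    rw [← zpow_mod_orderOf, hzord] at hi
    rcases Int.emod_two_eq i with he | he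
    · rw [show ((2 : ℕ) : ℤ) = 2 from rfl, he, zpow_zero] at hi
      have : z = 1 := conj_eq_one_iff.1 hi.symm
      rw [this, orderOf_one] at hzord
      omega
    · rw [show ((2 : ℕ) : ℤ) = 2 from rfl, he, zpow_one] at hi
      rw [Subgroup.mem_centralizer_singleton_iff]
      conv_rhs => rw [hi, inv_mul_cancel_right]
  rw [heq] at hNC
  exact (CfsgLib.Comp.generalizedFitting_eq_pCore_iff 2 _).2
    (CfsgLib.ClassK.charP_normalizer_of_mem hNC hU hz.1)

end Cfsg.Agent.S1850
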