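import Cfsg.Statements.S1851
import Cfsg.Agent.Lib.ClassK.PerfectSubnormal
import Cfsg.Agent.Lib.ClassK.CharTwo
import Cfsg.Agent.Lib.ClassK.Core
import Cfsg.Agent.Lib.Amalgam.CharP
import Mathlib.Tactic

set_option autoImplicit false
set_option linter.style.haveILetI false
open Cfsg

namespace Cfsg.Agent.S1851

open Subgroup
open CfsgLib.Comp (map_conj_eq_iff)
open scoped commutatorElement

variable {G : Type*} [Group G] [Finite G]

omit [Finite G] in
private theorem pCoreTwoOf_eq_of_map {H K : Subgroup G} (hKH : K ≤ H) :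
    (pCore 2 ↥(K.subgroupOf H)).map ((K.subgroupOf H).subtype) =
      (pCoreTwoOf K).subgroupOf H := by
  set K' := K.subgroupOf H
  let e : K' ≃* K := subgroupOfEquivOfLe hKH
  have h := CfsgLib.Amalgam.map_pCore_eq (p := 2) e
  ext y
  constructor
  · rintro ⟨z, hz, rfl⟩
    refine mem_subgroupOf.2 ⟨e z, ?_, rfl⟩
    show e z ∈ pCore 2 ↥K
    rw [← h]
    exact ⟨z, hz, rfl⟩
  · intro hy
    obtain ⟨z, hz, hzy⟩ := mem_subgroupOf.1 hy
    rw [← h] at hz
    obtain ⟨w, hw, rfl⟩ := hz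
    exact ⟨w, hw, Subtype.ext hzy⟩

/-- What membership in `ℒ(G, T)` gives. -/
private theorem calL_data {T K : Subgroup G} (hK : K ∈ calL T) :
    oddGenerated K = K ∧ ⁅K, K⁆ = K ∧
    pCoreTwoOf (K ⊔ T) ≤ normalizer (K : Set G) ∧ pCoreTwoOf K ≤ pCoreTwoOf (K ⊔ T) ∧
    pCoreTwoOf (K ⊔ T) ≤ T ∧ (K.subgroupOf (K ⊔ T)).IsSubnormal := by
  haveI : Fact (Nat.Prime 2) := ⟨Nat.prime_two⟩
  obtain ⟨⟨-, hperf', hsn, -⟩, hS, -⟩ := hK
  set H := K ⊔ T
  obtain ⟨P, hP⟩ := hS
  set K' := K.subgroupOf H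
  have hperf : ⁅K, K⁆ = K := by
    have h := congrArg (Subgroup.map H.subtype) hperf'
    rwa [Subgroup.map_commutator, map_subgroupOf_eq_of_le le_sup_left] at h
  have hn := CfsgLib.Comp.isPGroup_pCore 2 H
  haveI := Cfsg.pCore_normal 2 ↥H
  have h1 : pCore 2 ↥H ≤ normalizer (K' : Set H) :=
    CfsgLib.ClassK.le_normalizer_of_isSubnormal hsn
      (CfsgLib.ClassK.oddGenerated_eq_of_perfect hperf') hn
  refine ⟨CfsgLib.ClassK.oddGenerated_eq_of_perfect hperf, hperf, ?_, ?_, ?_, hsn⟩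
  · refine (map_mono h1).trans ((le_normalizer_map (f := H.subtype)).trans ?_)
    rw [map_subgroupOf_eq_of_le le_sup_left]
  · intro y hy
    have hyK : y ∈ K := map_subtype_le _ hy
    have hyH : y ∈ H := (le_sup_left : K ≤ H) hyK
    refine ⟨⟨y, hyH⟩, ?_, rfl⟩
    have hle : (pCore 2 ↥K').map K'.subtype ≤ pCore 2 ↥H := by
      haveI := Cfsg.pCore_normal 2 ↥K'
      exact CfsgLib.Comp.le_pCore_of_isSubnormal (CfsgLib.Comp.isSubnormal_map_of_normal hsn _)
        ((CfsgLib.Comp.isPGroup_pCore 2 K').map _)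
    refine hle ?_
    rw [pCoreTwoOf_eq_of_map le_sup_left]
    exact mem_subgroupOf.2 hy
  · intro y hy
    obtain ⟨z, hz, rfl⟩ := hy
    have hle : pCore 2 ↥H ≤ (P : Subgroup H) :=
      le_sup_right.trans_eq (P.is_maximal' (P.isPGroup'.to_sup_of_normal_right hn) le_sup_left)
    have := hle hz
    rw [hP] at this
    exact mem_subgroupOf.1 this

omit [Finite G] in
/-- Normalizers of a subgroup normalize its `Ω₁`. -/
private theorem normalizer_le_omegaOne (A : Subgroup G) :
    normalizer (A : Set G) ≤ normalizer (omegaOne 2 A : Set G) := by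
  intro g hg
  have hgA : A.map (MulAut.conj g).toMonoidHom = A := map_conj_eq_iff.2 hg
  refine map_conj_eq_iff.1 ?_
  rw [omegaOne, MonoidHom.map_closure]
  congr 1
  ext y
  constructor
  · rintro ⟨z, ⟨hz, hz2⟩, rfl⟩
    refine ⟨hgA ▸ mem_map_of_mem _ hz, ?_⟩
    rw [← map_pow, hz2, map_one]
  · rintro ⟨hy, hy2⟩
    rw [← hgA] at hy
    obtain ⟨z, hz, rfl⟩ := hy
    refine ⟨z, ⟨hz, ?_⟩, rfl⟩
    rw [← map_pow] at hy2
    exact (MulAut.conj g).injective (hy2.trans (map_one _).symm)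

omit [Finite G] in
/-- `Ω₁` of an abelian group has exponent dividing `2`. -/
private theorem sq_eq_one_of_mem_omegaOne {A : Subgroup G} (hA : A ≤ centralizer (A : Set G))
    {y : G} (hy : y ∈ omegaOne 2 A) : y ^ 2 = 1 := by
  have hle : omegaOne 2 A ≤ A := (closure_le _).2 fun y hy => hy.1
  induction hy using Subgroup.closure_induction with
  | mem y hy => exact hy.2
  | one => simp
  | mul a b ha hb iha ihb =>
    have hc : Commute a b := mem_centralizer_iff.1 (hA (hle hb)) a (hle ha)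
    rw [hc.mul_pow, iha, ihb, one_mul]
  | inv a _ iha => rw [inv_pow, iha, inv_one]

/-- The centralizer in `K ⊔ T` of its 2-core lies in the 2-core. -/
private theorem charTwo_sup (hE : IsOfEvenCharacteristic G) (T : Sylow 2 G) {K : Subgroup G}
    (hK : K ∈ calL (T : Subgroup G)) :
    centralizer (pCore 2 ↥(K ⊔ (T : Subgroup G)) : Set ↥(K ⊔ (T : Subgroup G))) ≤
      pCore 2 ↥(K ⊔ (T : Subgroup G)) := by
  haveI : Fact (Nat.Prime 2) := ⟨Nat.prime_two⟩
  set H := K ⊔ (T : Subgroup G)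
  have hU : pCoreTwoOf H ≠ ⊥ := fun h =>
    hK.2.2 (map_injective H.subtype_injective (h.trans (Subgroup.map_bot _).symm))
  have hUp : IsPGroup 2 (pCoreTwoOf H) := (CfsgLib.Comp.isPGroup_pCore 2 H).map _
  have hHN : H ≤ normalizer (pCoreTwoOf H : Set G) :=
    CfsgLib.Amalgam.le_normalizer_pCoreOf (p := 2) H
  set N := normalizer (pCoreTwoOf H : Set G)
  have hN := hE N ⟨_, hUp, hU, rfl⟩ ⟨T, le_sup_right.trans hHN⟩
  have hNT : (pCore 2 ↥N).map N.subtype ≤ (T : Subgroup G) := by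
    have hn : (T : Subgroup G) ≤ normalizer ((pCore 2 ↥N).map N.subtype : Set G) :=
      (le_sup_right.trans hHN).trans (CfsgLib.Amalgam.le_normalizer_pCoreOf (p := 2) N)
    exact le_sup_right.trans_eq (T.is_maximal'
      (T.isPGroup'.to_sup_of_normal_right' ((CfsgLib.Comp.isPGroup_pCore 2 N).map _) hn) le_sup_left)
  have hsub : ((pCore 2 ↥N).map N.subtype).subgroupOf H ≤ pCore 2 ↥H :=
    le_sSup ⟨normal_subgroupOf_of_le_normalizer
      (hHN.trans (CfsgLib.Amalgam.le_normalizer_pCoreOf (p := 2) N)),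
      ((CfsgLib.Comp.isPGroup_pCore 2 N).map _).comap_subtype⟩
  intro y hy
  refine hsub (mem_subgroupOf.2 ⟨⟨y, hHN y.2⟩, hN fun w hw => ?_, rfl⟩)
  have hwH : (w : G) ∈ H := (le_sup_right : (T : Subgroup G) ≤ H) (hNT ⟨w, hw, rfl⟩)
  have := hy ⟨w, hwH⟩ (hsub (mem_subgroupOf.2 ⟨w, hw, rfl⟩))
  exact Subtype.ext (congrArg (fun u : H => (u : G)) this :)

private theorem upward_closed (hE : IsOfEvenCharacteristic G) (T : Sylow 2 G) {L K : Subgroup G}
    (hL : L ∈ calLf (T : Subgroup G)) (hK : K ∈ calL (T : Subgroup G)) (hLK : L ≤ K) :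
    K ∈ calLf (T : Subgroup G) := by
  haveI : Fact (Nat.Prime 2) := ⟨Nat.prime_two⟩
  obtain ⟨hLl, ⟨hL1, hLo, -⟩, hLV⟩ := hL
  obtain ⟨-, -, -, hOL, hRT, -⟩ := calL_data hLl
  obtain ⟨hKo, hKperf, hQK, hOK, hQT, -⟩ := calL_data hK
  set H := K ⊔ (T : Subgroup G) with hH
  set Q := pCoreTwoOf H with hQ
  set X := L ⊔ (T : Subgroup G) with hX
  set R := pCoreTwoOf X with hR
  have hcH := charTwo_sup hE T hK
  have hXH : X ≤ H := sup_le_sup_right hLK _
  have hHQ : H ≤ normalizer (Q : Set G) := CfsgLib.Amalgam.le_normalizer_pCoreOf (p := 2) H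
  -- `K ∈ ℋ^e`
  have hKHe : K ∈ calHe G := by
    refine (CfsgLib.Comp.generalizedFitting_eq_pCore_iff 2 K).2 ?_
    refine CfsgLib.ClassK.charP_of_mulEquiv (subgroupOfEquivOfLe (le_sup_left : K ≤ H))
      (CfsgLib.Amalgam.charPElements_iff.1 (CfsgLib.Amalgam.charPElements_of_normalized
        (CfsgLib.Amalgam.charPElements_top hcH) le_top ?_))
    rw [CfsgLib.Amalgam.pCoreOf_top]
    intro y hy
    have h1 : (y : G) ∈ normalizer (K : Set G) := hQK ⟨y, hy, rfl⟩
    rw [← subgroupOf_normalizer_eq le_sup_left]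
    exact mem_subgroupOf.2 h1
  refine ⟨hK, ⟨fun h => hL1 (le_bot_iff.1 (h ▸ hLK)), hKo, hKHe⟩, fun hV => hLV ?_⟩
  -- `Z = Ω₁(Z(O₂ L))` and its fixed points under `R`
  set A := pCoreTwoOf L ⊓ centralizer (pCoreTwoOf L : Set G) with hA
  set Z := omegaOne 2 A with hZ
  have hZA : Z ≤ A := (closure_le _).2 fun y hy => hy.1
  have hZp : IsPGroup 2 Z :=
    ((CfsgLib.Comp.isPGroup_pCore 2 L).map L.subtype).to_le (hZA.trans inf_le_left)
  have hAA : A ≤ centralizer (A : Set G) :=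
    inf_le_right.trans (centralizer_le inf_le_left)
  have hZab : Z ≤ centralizer (Z : Set G) := (hZA.trans hAA).trans (centralizer_le hZA)
  have hAn : normalizer (L : Set G) ≤ normalizer (Z : Set G) := by
    intro g hg
    have hO : g ∈ normalizer (pCoreTwoOf L : Set G) := by
      haveI := CfsgLib.Solvable.pCore_characteristic 2 ↥L
      exact CfsgLib.ClassK.normalizer_le_normalizer_map L (pCore 2 ↥L) hg
    exact normalizer_le_omegaOne A (Subgroup.inf_normalizer_le_normalizer_inf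
      ⟨hO, CfsgLib.Comp.normalizer_le_normalizer_centralizer (pCoreTwoOf L) hO⟩)
  have hXR : X ≤ normalizer (R : Set G) := CfsgLib.Amalgam.le_normalizer_pCoreOf (p := 2) X
  obtain ⟨-, -, hRL, -, -, -⟩ := calL_data hLl
  have hLcomm : ∀ x ∈ L, ∀ r ∈ R, x⁻¹ * r * x * r⁻¹ ∈ centralizer (Z : Set G) := by
    intro x hx r hr
    have h1 : x⁻¹ * r * x * r⁻¹ ∈ L := by
      have := (mem_normalizer_iff.1 (hRL hr) x).1 hx
      simpa [mul_assoc] using mul_mem (inv_mem hx) this
    have h2 : x⁻¹ * r * x * r⁻¹ ∈ R := by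
      have hxX : x⁻¹ ∈ normalizer (R : Set G) := hXR ((le_sup_left : L ≤ X) (inv_mem hx))
      have := mul_mem ((mem_normalizer_iff.1 hxX r).1 hr) (inv_mem hr)
      simpa [mul_assoc] using this
    have hn : L ⊓ R ≤ pCoreTwoOf L := by
      refine CfsgLib.Amalgam.le_pCoreOf inf_le_left ?_
        (((CfsgLib.Comp.isPGroup_pCore 2 X).map X.subtype).to_le inf_le_right)
      exact (le_inf Subgroup.le_normalizer (le_sup_left.trans hXR)).trans
        Subgroup.inf_normalizer_le_normalizer_inf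
    refine centralizer_le hZA ?_
    refine centralizer_le (inf_le_right : A ≤ centralizer (pCoreTwoOf L : Set G)) ?_
    exact le_centralizer_iff.1 le_rfl (hn ⟨h1, h2⟩)
  -- fixed points of `R` are centralized by `K`
  have hfix : K ≤ centralizer ((Z ⊓ centralizer (R : Set G) : Subgroup G) : Set G) := by
    set E := omegaOne 2 (Q ⊓ centralizer (Q : Set G)) with hE'
    have hQR : Q ≤ R := by
      refine CfsgLib.Amalgam.le_pCoreOf (hQT.trans le_sup_right) (hXH.trans hHQ)
        ((CfsgLib.Comp.isPGroup_pCore 2 H).map _)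
    have hEQ : E ≤ Q ⊓ centralizer (Q : Set G) := (closure_le _).2 fun y hy => hy.1
    have hle : Z ⊓ centralizer (R : Set G) ≤ E := by
      intro z hz
      have hzA := hZA hz.1
      have hzR : z ∈ R := hOL hzA.1
      have hzH : z ∈ H := hXH ((map_subtype_le _ : R ≤ X) hzR)
      have hzC : z ∈ centralizer (Q : Set G) := centralizer_le hQR hz.2
      have hzQ : z ∈ Q := ⟨⟨z, hzH⟩, hcH fun w hw =>
        Subtype.ext (hzC w ⟨w, hw, rfl⟩), rfl⟩
      exact subset_closure ⟨⟨hzQ, hzC⟩, sq_eq_one_of_mem_omegaOne hAA hz.1⟩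
    refine le_trans ?_ (centralizer_le hle)
    rw [← commutator_eq_bot_iff_le_centralizer]
    have hEn : K ≤ normalizer (E : Set G) := fun g hg =>
      normalizer_le_omegaOne _ (Subgroup.inf_normalizer_le_normalizer_inf
        ⟨hHQ ((le_sup_left : K ≤ H) hg),
          CfsgLib.Comp.normalizer_le_normalizer_centralizer Q (hHQ ((le_sup_left : K ≤ H) hg))⟩)
    have hEK : E ≤ normalizer (K : Set G) := (hEQ.trans inf_le_left).trans hQK
    have h1 : ⁅E, K⁆ ≤ omegaOne 2 (pCoreTwoOf K ⊓ centralizer (pCoreTwoOf K : Set G)) := by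
      have hEp : IsPGroup 2 E :=
        ((CfsgLib.Comp.isPGroup_pCore 2 H).map H.subtype).to_le (hEQ.trans inf_le_left)
      have hi : E ⊓ K ≤ pCoreTwoOf K ⊓ centralizer (pCoreTwoOf K : Set G) := by
        refine le_inf ?_ ((inf_le_left.trans (hEQ.trans inf_le_right)).trans (centralizer_le hOK))
        exact CfsgLib.Amalgam.le_pCoreOf inf_le_right
          ((le_inf hEn Subgroup.le_normalizer).trans Subgroup.inf_normalizer_le_normalizer_inf)
          (hEp.to_le inf_le_left)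
      rw [Subgroup.commutator_comm]
      refine (CfsgLib.Comp.commutator_le_inf_of_le_normalizer hEK hEn).trans ?_
      intro y hy
      exact subset_closure ⟨hi ⟨hy.2, hy.1⟩,
        sq_eq_one_of_mem_omegaOne (inf_le_right.trans (centralizer_le inf_le_left)) hy.2⟩
    rw [Subgroup.commutator_comm]
    exact CfsgLib.Comp.commutator_eq_bot_of_perfect hKperf
      (le_bot_iff.1 ((commutator_mono h1 le_rfl).trans hV.le))
  rw [moduleV, commutator_eq_bot_iff_le_centralizer, le_centralizer_iff]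
  refine (le_of_eq hLo.symm).trans ((closure_le _).2 ?_)
  rintro x ⟨hx, hxodd⟩
  exact CfsgLib.ClassK.mem_centralizer_of_commuting_action hZp hZab
    ((CfsgLib.Comp.isPGroup_pCore 2 X).map X.subtype) (hRL.trans hAn)
    (hAn (Subgroup.le_normalizer hx)) (Nat.coprime_two_right.2 hxodd) (hLcomm x hx) (hfix (hLK hx))

/-- Let G be a non-abelian finite simple QTKE-group and T a Sylow 2-subgroup of G, and let L be a member of ℒ_f(G, T) (a member of ℒ(G, T) that lies in 𝒳 — L ≠ 1, L = O²(L), F*(L) = O₂(L) — and acts nontrivially on Ω₁(Z(O₂(L)))). Then (1) every member K of ℒ(G, T) containing L is again in ℒ_f(G, T) (a sharper form of (1) also compares the modules [Ω₁(Z(R)), L] and [Ω₁(Z(R')), K] for suitable 2-subgroups R, R'; that comparison is not included); and (2) if L is maximal under inclusion among the members of ℒ_f(G, T), then L is a maximal member of ℒ(G, T), hence a member of ℒ_f*(G, T). -/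
theorem result {G : Type*} [Group G] [Finite G] [IsSimpleGroup G]
    (hG : ¬ IsMulCommutative G) (hQ : Cfsg.IsQTKE G) (T : Sylow 2 G) (L : Subgroup G)
    (hL : L ∈ Cfsg.calLf (T : Subgroup G)) :
    (∀ K ∈ Cfsg.calL (T : Subgroup G), L ≤ K → K ∈ Cfsg.calLf (T : Subgroup G)) ∧
    ((∀ K ∈ Cfsg.calLf (T : Subgroup G), L ≤ K → K = L) → L ∈ Cfsg.calLfMax (T : Subgroup G)) := by
  refine ⟨fun K hK hLK => upward_closed hQ.2.2 T hL hK hLK, fun hmax => ⟨⟨hL.1, fun K hK hLK => ?_⟩, hL.2⟩⟩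
  exact hmax K (upward_closed hQ.2.2 T hL hK hLK) hLK

end Cfsg.Agent.S1851
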