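import Cfsg.Statements.S1892
import Cfsg.Agent.Lib.Block.PSolvable
import Cfsg.Agent.Lib.Comp.Local
-- import your own Cfsg.Agent.* helpers here

set_option autoImplicit false
open Cfsg

namespace Cfsg.Agent.S1892

open scoped commutatorElement


/-- Let S be a finite p-solvable group with no nontrivial normal subgroup of order prime to p, A a p-subgroup of S, and Q a nontrivial A-invariant subgroup of order prime to p with [A, Q] = Q. Then the commutator [O_p(S), A, Q] is nontrivial. -/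
theorem result {S : Type*} [Group S] [Finite S] {p : ℕ} [Fact p.Prime]
    (hS : Cfsg.IsPSolvable p S) (hred : Cfsg.pPrimeCore p S = ⊥)
    (A Q : Subgroup S) (hA : IsPGroup p A) (hQ : ¬ p ∣ Nat.card Q) (hQ1 : Q ≠ ⊥)
    (hinv : ∀ a ∈ A, ∀ x ∈ Q, a * x * a⁻¹ ∈ Q) (hAQ : ⁅A, Q⁆ = Q) :
    ⁅⁅Cfsg.pCore p S, A⁆, Q⁆ ≠ ⊥ := by
  intro hbot
  haveI := Cfsg.pCore_normal p S
  set P := Cfsg.pCore p S with hP
  set N := ⁅P, A⁆ with hN
  have hNP : N ≤ P := Subgroup.commutator_le_left P A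
  have hfix : ∀ q ∈ Q, ∀ n ∈ N, q * n * q⁻¹ = n := by
    intro q hq n hn
    have h := Subgroup.mem_centralizer_iff.1
      (Subgroup.commutator_eq_bot_iff_le_centralizer.1 hbot hn) q hq
    rw [h, mul_inv_cancel_right]
  have hAN : ∀ a ∈ A, ∀ n ∈ N, a * n * a⁻¹ ∈ N := by
    intro a ha n hn
    have : N ≤ N.comap (MulAut.conj a).toMonoidHom := by
      refine Subgroup.commutator_le.2 fun x hx c hc => ?_
      change a * ⁅x, c⁆ * a⁻¹ ∈ N
      have e : a * ⁅x, c⁆ * a⁻¹ = ⁅a * x * a⁻¹, a * c * a⁻¹⁆ := by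
        simp only [commutatorElement_def]; group
      rw [e]
      exact Subgroup.commutator_mem_commutator ((Cfsg.pCore_normal p S).conj_mem x hx a)
        (A.mul_mem (A.mul_mem ha hc) (A.inv_mem ha))
    exact this hn
  have hact : ∀ a ∈ A, ∀ x ∈ P, a * x * a⁻¹ * x⁻¹ ∈ N := by
    intro a ha x hx
    have h := Subgroup.commutator_mem_commutator ha hx
    rw [Subgroup.commutator_comm] at h
    exact h
  have hmain : ∀ g ∈ Q, ∀ x ∈ P, g * x * g⁻¹ * x⁻¹ ∈ N := by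
    intro g hg
    rw [← hAQ, Subgroup.commutator_def] at hg
    suffices h : g ∈ Q ∧ ∀ x ∈ P, g * x * g⁻¹ * x⁻¹ ∈ N from h.2
    induction hg using Subgroup.closure_induction with
    | mem w hw =>
      obtain ⟨a, ha, q, hq, rfl⟩ := hw
      refine ⟨hAQ ▸ Subgroup.commutator_mem_commutator ha hq, fun x hx => ?_⟩
      set y := q⁻¹ * x * q with hy
      have hyP : y ∈ P := by
        simpa [hy] using (Cfsg.pCore_normal p S).conj_mem x hx q⁻¹
      set n₁ := a⁻¹ * y * a * y⁻¹ with hn₁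
      have hn₁N : n₁ ∈ N := by simpa [hn₁] using hact a⁻¹ (A.inv_mem ha) y hyP
      have e : ⁅a, q⁆ * x * ⁅a, q⁆⁻¹ * x⁻¹ =
          (a * (q * n₁ * q⁻¹) * a⁻¹) * (a * x * a⁻¹ * x⁻¹) := by
        rw [hn₁, hy, commutatorElement_def]; group
      rw [e, hfix q hq n₁ hn₁N]
      exact N.mul_mem (hAN a ha _ hn₁N) (hact a ha x hx)
    | one => exact ⟨Q.one_mem, fun x _ => by simp⟩
    | mul u v _ _ hu hv =>
      refine ⟨Q.mul_mem hu.1 hv.1, fun x hx => ?_⟩
      have e : u * v * x * (u * v)⁻¹ * x⁻¹ =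
          (u * (v * x * v⁻¹ * x⁻¹) * u⁻¹) * (u * x * u⁻¹ * x⁻¹) := by group
      rw [e, hfix u hu.1 _ (hv.2 x hx)]
      exact N.mul_mem (hv.2 x hx) (hu.2 x hx)
    | inv u _ hu =>
      refine ⟨Q.inv_mem hu.1, fun x hx => ?_⟩
      have e : u⁻¹ * x * u⁻¹⁻¹ * x⁻¹ = u⁻¹ * (u * x * u⁻¹ * x⁻¹)⁻¹ * u⁻¹⁻¹ := by group
      rw [e, hfix u⁻¹ (Q.inv_mem hu.1) _ (N.inv_mem (hu.2 x hx))]
      exact N.inv_mem (hu.2 x hx)
  refine hQ1 (eq_bot_iff.2 fun g hg => ?_)
  have hgP : g ∈ P := by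
    refine CfsgLib.Block.centralizer_pCore_le_of_isPSolvable hS hred ?_
    refine Subgroup.mem_centralizer_iff.2 fun x hx => ?_
    set n := g * x * g⁻¹ * x⁻¹ with hn
    have hnN := hmain g hg x hx
    have hpow : ∀ k : ℕ, g ^ k * x * (g ^ k)⁻¹ = n ^ k * x := by
      intro k
      induction k with
      | zero => simp
      | succ j ih =>
        calc g ^ (j + 1) * x * (g ^ (j + 1))⁻¹ = g * (g ^ j * x * (g ^ j)⁻¹) * g⁻¹ := by group
          _ = g * (n ^ j * x) * g⁻¹ := by rw [ih]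
          _ = (g * n ^ j * g⁻¹) * (g * x * g⁻¹) := by group
          _ = n ^ j * (n * x) := by
              rw [hfix g hg _ (N.pow_mem hnN j), hn]; group
          _ = n ^ (j + 1) * x := by group
    have h1 : n ^ orderOf g = 1 := by
      have := hpow (orderOf g)
      rw [pow_orderOf_eq_one, one_mul, inv_one, mul_one] at this
      exact (mul_eq_right.1 this.symm)
    obtain ⟨k, hk⟩ := (CfsgLib.Comp.isPGroup_pCore p S) ⟨n, hNP hnN⟩
    have hk' : n ^ (p ^ k) = 1 := by simpa using congrArg Subtype.val hk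
    have hg' : ¬ p ∣ orderOf g := fun hd => hQ (hd.trans (Subgroup.orderOf_dvd_natCard Q hg))
    have hc : Nat.gcd (orderOf g) (p ^ k) = 1 :=
      (((Fact.out : p.Prime).coprime_iff_not_dvd.2 hg').symm.pow_right k)
    have : n ^ Nat.gcd (orderOf g) (p ^ k) = 1 := pow_gcd_eq_one.2 ⟨h1, hk'⟩
    rw [hc, pow_one, hn] at this
    have h2 : g * x * g⁻¹ = x := mul_inv_eq_one.1 this
    exact (mul_inv_eq_iff_eq_mul.1 h2).symm
  have hb := CfsgLib.Comp.inf_eq_bot_of_isPGroup (CfsgLib.Comp.isPGroup_pCore p S)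
    (((Fact.out : p.Prime).coprime_iff_not_dvd.2 hQ).symm)
  exact hb ▸ (show g ∈ P ⊓ Q from ⟨hgP, hg⟩)

end Cfsg.Agent.S1892
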