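import Cfsg.Statements.S1893
import Cfsg.Agent.Lib.PLocal.QuadraticFitting
import Cfsg.Agent.Lib.OddLocal.PiCore
import Cfsg.Agent.Lib.Solvable.Permute
-- import your own Cfsg.Agent.* helpers here

set_option autoImplicit false
open Cfsg

namespace Cfsg.Agent.S1893

open scoped commutatorElement
variable {S : Type*} [Group S] [Finite S]


/-- Let S be a finite solvable group, π a set of primes containing neither 2 nor 3, H a Hall π-subgroup of S, and A a self-centralizing normal subgroup of the Fitting subgroup F(H). Then C_S(A) = A × D for a normal subgroup D of C_S(A) whose order has no prime divisor in π. -/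
theorem result {S : Type*} [Group S] [Finite S] [Group.IsSolvable S]
    (π : Set ℕ) (h2 : 2 ∉ π) (h3 : 3 ∉ π) (H : Subgroup S) (hH : Cfsg.IsPiHall π H)
    (A : Subgroup S) (hA : Cfsg.IsSCN ((Cfsg.fittingSubgroup H).map H.subtype) A) :
    ∃ D : Subgroup S, D ≤ Subgroup.centralizer (A : Set S) ∧
      (∀ c ∈ Subgroup.centralizer (A : Set S), ∀ d ∈ D, c * d * c⁻¹ ∈ D) ∧
      A ⊓ D = ⊥ ∧ A ⊔ D = Subgroup.centralizer (A : Set S) ∧
      ∀ q : ℕ, q.Prime → q ∣ Nat.card D → q ∉ π := by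
  classical
  set O := Cfsg.piCore {q | q ∉ π} S with hO
  have hOπ := CfsgLib.OddLocal.piCore_spec (G := S) {q | q ∉ π}
  rw [← hO] at hOπ
  set φ := QuotientGroup.mk' O with hφ
  haveI : Finite (S ⧸ O) := inferInstance
  have hHO : H ⊓ O = ⊥ := by
    by_contra hne
    obtain ⟨r, hr, hrd⟩ := Nat.exists_prime_and_dvd (Subgroup.eq_bot_iff_card _ |>.not.1 hne)
    exact hOπ r hr (hrd.trans (Subgroup.card_dvd_of_le inf_le_right))
      (hH.1 r hr (hrd.trans (Subgroup.card_dvd_of_le inf_le_left)))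
  have hinj : ∀ x ∈ H, φ x = 1 → x = 1 := fun x hx h => by
    have : x ∈ H ⊓ O := ⟨hx, (QuotientGroup.eq_one_iff x).1 h⟩
    rwa [hHO, Subgroup.mem_bot] at this
  have hnot : ∀ r : ℕ, r.Prime → Cfsg.pCore r (S ⧸ O) ≠ ⊥ → r ∈ π := by
    intro r hr hne
    by_contra hrπ
    haveI : Fact r.Prime := ⟨hr⟩
    haveI := Cfsg.pCore_normal r (S ⧸ O)
    obtain ⟨k, hk⟩ := (CfsgLib.Solvable.pCore_isPGroup (G := S ⧸ O) r).exists_card_eq
    set U := (Cfsg.pCore r (S ⧸ O)).comap φ with hU
    have hUO : U ≤ O := by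
      refine CfsgLib.OddLocal.le_piCore (Subgroup.Normal.comap inferInstance _) fun q hq hqd => ?_
      have hcard : Nat.card U = Nat.card (Cfsg.pCore r (S ⧸ O)) * Nat.card O := by
        have hle : O ≤ U := fun x hx => by
          change φ x ∈ Cfsg.pCore r (S ⧸ O)
          rw [show φ x = 1 from (QuotientGroup.eq_one_iff x).2 hx]
          exact one_mem _
        have h1 : O.relIndex U * Nat.card O = Nat.card U := by
          rw [← Nat.card_congr (Subgroup.subgroupOfEquivOfLe hle).toEquiv]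
          exact (O.subgroupOf U).index_mul_card
        rw [← h1]
        congr 1
        have h2 : O = (⊥ : Subgroup (S ⧸ O)).comap φ := by
          rw [MonoidHom.comap_bot, hφ, QuotientGroup.ker_mk']
        conv_lhs => rw [h2]
        rw [Subgroup.relIndex_comap, hU, Subgroup.map_comap_eq_self_of_surjective
          (QuotientGroup.mk'_surjective O), Subgroup.relIndex_bot_left]
      rw [hcard, hk] at hqd
      rcases hq.dvd_mul.1 hqd with h | h
      · rw [Set.mem_setOf_eq, (Nat.prime_dvd_prime_iff_eq hq hr).1 (hq.dvd_of_dvd_pow h)]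
        exact hrπ
      · exact hOπ q hq h
    refine hne (eq_bot_iff.2 fun z hz => ?_)
    obtain ⟨x, rfl⟩ := QuotientGroup.mk'_surjective O z
    exact Subgroup.mem_bot.2 ((QuotientGroup.eq_one_iff x).2 (hUO hz))
  have h5 : ∀ r : ℕ, r.Prime → Cfsg.pCore r (S ⧸ O) ≠ ⊥ → 5 ≤ r := by
    intro r hr hne
    have hm := hnot r hr hne
    have hne2 : r ≠ 2 := fun e => h2 (e ▸ hm)
    have hne3 : r ≠ 3 := fun e => h3 (e ▸ hm)
    have hne4 : r ≠ 4 := fun e => by subst e; norm_num at hr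
    have := hr.two_le
    omega
  set W := Cfsg.fittingSubgroup (S ⧸ O) with hW
  haveI hWn : W.Normal := CfsgLib.Solvable.fittingSubgroup_normal _
  set F := (Cfsg.fittingSubgroup H).map H.subtype with hFdef
  obtain ⟨hAF, hFA, hAC⟩ := hA
  have hFH : F ≤ H := Subgroup.map_subtype_le _
  have hWH : W ≤ H.map φ := by
    rw [hW, CfsgLib.Solvable.fittingSubgroup_eq_iSup_pCore]
    refine iSup_le fun r => ?_
    haveI : Fact (r : ℕ).Prime := ⟨r.2⟩
    by_cases hne : Cfsg.pCore (r : ℕ) (S ⧸ O) = ⊥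
    · rw [hne]; exact bot_le
    haveI := Cfsg.pCore_normal (r : ℕ) (S ⧸ O)
    set R := Cfsg.pCore (r : ℕ) (S ⧸ O)
    obtain ⟨k, hk⟩ := (CfsgLib.Solvable.pCore_isPGroup (G := S ⧸ O) (r : ℕ)).exists_card_eq
    have h1 : (H.map φ).relIndex R ∣ (r : ℕ) ^ k := hk ▸ Subgroup.relIndex_dvd_card _ _
    have h2 : (H.map φ).relIndex R ∣ H.index := by
      refine Nat.dvd_trans ?_ (Subgroup.index_map_dvd (H := H) (QuotientGroup.mk'_surjective O))
      exact CfsgLib.Solvable.relIndex_dvd_index_of_normal' _ _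
    obtain ⟨j, hj, he⟩ := (Nat.dvd_prime_pow r.2).1 h1
    rw [← Subgroup.relIndex_eq_one, he]
    rcases j with _ | j
    · exact pow_zero _
    · exact absurd ((dvd_pow_self _ (Nat.succ_ne_zero j)).trans (he ▸ h2))
        (hH.2 r r.2 (hnot r r.2 hne))
  have hU : ∀ z ∈ W, ∃ u ∈ F, φ u = z := by
    intro z hz
    obtain ⟨u, hu, rfl⟩ := hWH hz
    set ψ : H →* S ⧸ O := φ.comp H.subtype with hψ
    haveI : (W.comap ψ).Normal := Subgroup.Normal.comap hWn ψ
    have hnil : Group.IsNilpotent (W.comap ψ) := by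
      haveI : Group.IsNilpotent W := CfsgLib.Solvable.fittingSubgroup_isNilpotent
      refine Subgroup.isNilpotent_of_ker_le_center (ψ.subgroupComap W) (le_of_eq_of_le
        ((MonoidHom.ker_eq_bot_iff _).2 fun x y h => ?_) bot_le)
      exact (by
        have h' : φ ((x : H) : S) = φ ((y : H) : S) := congrArg Subtype.val h
        have := hinj _ (H.mul_mem (H.inv_mem (x : H).2) (y : H).2)
          (by rw [map_mul, map_inv, h', inv_mul_cancel])
        exact Subtype.ext (Subtype.ext (inv_mul_eq_one.1 this)))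
    exact ⟨u, ⟨⟨u, hu⟩, CfsgLib.Solvable.le_fittingSubgroup inferInstance hnil hz, rfl⟩, rfl⟩
  have hAcomm : A ≤ Subgroup.centralizer (A : Set S) := fun x hx => (hAC.ge hx).2
  have hcc : ∀ a ∈ A, ∀ b ∈ A, Commute a b := fun a ha b hb =>
    ((Subgroup.mem_centralizer_iff.1 (hAcomm ha)) b hb).symm
  have hAconj : ∀ u ∈ F, ∀ a ∈ A, u * a * u⁻¹ ∈ A := fun u hu a ha =>
    (Subgroup.mem_normalizer_iff.1 (hFA hu) a).1 ha
  -- `A` maps into `W`
  have hAW : ∀ a ∈ A, φ a ∈ W := by
    intro a ha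
    refine CfsgLib.PLocal.mem_fittingSubgroup_of_quadratic h5 fun w hw => ?_
    obtain ⟨u, hu, rfl⟩ := hU w hw
    rw [← map_commutatorElement]
    have h1 : ⁅u, a⁆ ∈ A := by
      rw [commutatorElement_def]; exact A.mul_mem (hAconj u hu a ha) (A.inv_mem ha)
    exact (hcc _ h1 a ha).map φ
  -- preimages in `F` of elements of `W` centralizing the image of `A`
  have hlift : ∀ z ∈ W, (∀ a ∈ A, Commute z (φ a)) → ∃ b ∈ A, φ b = z := by
    intro z hz hzc
    obtain ⟨u, hu, rfl⟩ := hU z hz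
    refine ⟨u, hAC.le ⟨hu, Subgroup.mem_centralizer_iff.2 fun a ha => ?_⟩, rfl⟩
    have h1 : u * a * u⁻¹ * a⁻¹ ∈ A := A.mul_mem (hAconj u hu a ha) (A.inv_mem ha)
    have h2 : φ (u * a * u⁻¹ * a⁻¹) = 1 := by
      rw [map_mul, map_mul, map_mul, map_inv, map_inv, (hzc a ha).eq, mul_inv_cancel_right,
        mul_inv_cancel]
    have h3 := hinj _ (hFH (hAF h1)) h2
    rw [mul_inv_eq_one] at h3
    exact (mul_inv_eq_iff_eq_mul.1 h3).symm
  have hmain : ∀ c ∈ Subgroup.centralizer (A : Set S), ∃ b ∈ A, φ b = φ c := by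
    intro c hc
    have hcA : ∀ a ∈ A, Commute c a := fun a ha => ((Subgroup.mem_centralizer_iff.1 hc) a ha).symm
    refine hlift _ ?_ fun a ha => (hcA a ha).map φ
    refine CfsgLib.PLocal.mem_fittingSubgroup_of_quadratic h5 fun w hw => ?_
    obtain ⟨u, hu, rfl⟩ := hU w hw
    have ht : ⁅φ u, φ c⁆ ∈ W := by
      rw [commutatorElement_def]
      have : φ c * (φ u)⁻¹ * (φ c)⁻¹ ∈ W := hWn.conj_mem _ (W.inv_mem hw) _
      have e : φ u * φ c * (φ u)⁻¹ * (φ c)⁻¹ = φ u * (φ c * (φ u)⁻¹ * (φ c)⁻¹) := by group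
      rw [e]; exact W.mul_mem hw this
    obtain ⟨b, hb, hbe⟩ := hlift _ ht fun a ha => by
      rw [← map_commutatorElement]
      refine Commute.map ?_ φ
      have hua : Commute (u * c * u⁻¹) a := by
        have h' : u⁻¹ * a * u ∈ A := by
          have := hAconj u⁻¹ (F.inv_mem hu) a ha
          rwa [inv_inv] at this
        have := (hcA _ h')
        calc u * c * u⁻¹ * a = u * (c * (u⁻¹ * a * u)) * u⁻¹ := by group
          _ = u * ((u⁻¹ * a * u) * c) * u⁻¹ := by rw [this.eq]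
          _ = a * (u * c * u⁻¹) := by group
      rw [commutatorElement_def]
      exact hua.mul_left (hcA a ha).inv_left
    rw [← hbe]
    exact ((hcA b hb).map φ).symm
  refine ⟨O ⊓ Subgroup.centralizer (A : Set S), inf_le_right, ?_, ?_, ?_, ?_⟩
  · intro c hc d hd
    exact ⟨(Cfsg.piCore_normal _ _).conj_mem d hd.1 c,
      (Subgroup.centralizer (A : Set S)).mul_mem ((Subgroup.centralizer (A : Set S)).mul_mem hc hd.2)
        ((Subgroup.centralizer (A : Set S)).inv_mem hc)⟩
  · refine eq_bot_iff.2 fun x hx => ?_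
    exact Subgroup.mem_bot.2 (hinj x (hFH (hAF hx.1)) ((QuotientGroup.eq_one_iff x).2 hx.2.1))
  · refine le_antisymm (sup_le hAcomm inf_le_right) fun c hc => ?_
    obtain ⟨b, hb, hbe⟩ := hmain c hc
    have h1 : b⁻¹ * c ∈ O ⊓ Subgroup.centralizer (A : Set S) :=
      ⟨QuotientGroup.eq.1 hbe, (Subgroup.centralizer (A : Set S)).mul_mem
        ((Subgroup.centralizer (A : Set S)).inv_mem (hAcomm hb)) hc⟩
    have := Subgroup.mul_mem_sup hb h1
    rwa [mul_inv_cancel_left] at this
  · intro q hq hqd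
    exact hOπ q hq (hqd.trans (Subgroup.card_dvd_of_le inf_le_left))

end Cfsg.Agent.S1893
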