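import Cfsg.Statements.S1894
import Cfsg.Agent.Lib.OddLocal.PGroup

set_option autoImplicit false
open Cfsg
open scoped commutatorElement

namespace Cfsg.Agent.S1894

/-- Let P be a finite p-group, A a normal subgroup of P and B an abelian subgroup of A that is normal in P. Then some subgroup C of A containing B is normal in P and is self-centralizing and normal in A (C ∈ SCN(A)). -/
theorem result {P : Type*} [Group P] [Finite P] {p : ℕ} [Fact p.Prime] (hP : IsPGroup p P)
    (A : Subgroup P) [A.Normal] (B : Subgroup P) [B.Normal] (hBA : B ≤ A) (hB : IsMulCommutative B) :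
    ∃ C : Subgroup P, C.Normal ∧ B ≤ C ∧ Cfsg.IsSCN A C := by
  obtain ⟨C, hBC, hC⟩ := Finite.exists_le_maximal
    (p := fun C : Subgroup P => C.Normal ∧ C ≤ A ∧ IsMulCommutative C) (a := B) ⟨inferInstance, hBA, hB⟩
  obtain ⟨hCn, hCA, hCc⟩ := hC.prop
  have hle : C ≤ A ⊓ Subgroup.centralizer (C : Set P) :=
    le_inf hCA (Subgroup.le_centralizer_iff_isMulCommutative.2 hCc)
  refine ⟨C, hCn, hBC, hCA, by rw [Subgroup.normalizer_eq_top]; exact le_top, le_antisymm ?_ hle⟩
  by_contra hne
  obtain ⟨x, hx, hxC, hxc⟩ := CfsgLib.OddLocal.exists_central_mod hP C _ (lt_of_le_not_ge hle hne)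
  have hcomm : IsMulCommutative (C ⊔ Subgroup.zpowers x : Subgroup P) := by
    rw [← Subgroup.closure_eq C, Subgroup.zpowers_eq_closure, ← Subgroup.closure_union]
    apply Subgroup.isMulCommutative_closure
    intro a ha b hb
    rcases ha with ha | ha <;> rcases hb with hb | hb
    · exact (Subgroup.le_centralizer_iff_isMulCommutative.2 hCc) hb a ha
    · rw [Set.mem_singleton_iff.1 hb]; exact hx.2 a ha
    · rw [Set.mem_singleton_iff.1 ha]; exact (hx.2 b hb).symm
    · rw [Set.mem_singleton_iff.1 ha, Set.mem_singleton_iff.1 hb]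
  have hnorm : (C ⊔ Subgroup.zpowers x).Normal := by
    refine ⟨fun y hy g => ?_⟩
    rw [Subgroup.mem_sup_of_normal_left] at hy
    obtain ⟨c, hc, _, ⟨k, rfl⟩, rfl⟩ := hy
    have h1 : g * c * g⁻¹ ∈ C ⊔ Subgroup.zpowers x := Subgroup.mem_sup_left (hCn.conj_mem c hc g)
    have h2 : g * x * g⁻¹ ∈ C ⊔ Subgroup.zpowers x := by
      have := mul_mem (Subgroup.mem_sup_left (T := Subgroup.zpowers x) (hxc g)) (Subgroup.mem_sup_right (S := C) (Subgroup.mem_zpowers x))
      rwa [inv_mul_cancel_right] at this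
    have e : g * (c * x ^ k) * g⁻¹ = g * c * g⁻¹ * (g * x * g⁻¹) ^ k := by rw [conj_zpow]; group
    rw [e]
    exact mul_mem h1 (zpow_mem h2 k)
  have := hC.le_of_ge ⟨hnorm, sup_le hCA (Subgroup.zpowers_le.2 hx.1), hcomm⟩ le_sup_left
  exact hxC (this (Subgroup.mem_sup_right (Subgroup.mem_zpowers x)))

end Cfsg.Agent.S1894
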