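import Cfsg.Statements.S1897
import Cfsg.Agent.Lib.PLocal.PSLTwoBorel
-- import your own Cfsg.Agent.* helpers here

set_option autoImplicit false
open Cfsg

namespace Cfsg.Agent.S1897

open scoped MatrixGroups
open CfsgLib.Classical (uElt uSL)

/-- Addition in `𝔽₉`, `a + b i` coded as `a + 3 b`. -/
def kadd (x y : ℕ) : ℕ := (x % 3 + y % 3) % 3 + 3 * ((x / 3 + y / 3) % 3)

/-- Multiplication in `𝔽₉`. -/
def kmul (x y : ℕ) : ℕ :=
  (x % 3 * (y % 3) + 2 * (x / 3 * (y / 3))) % 3 + 3 * ((x % 3 * (y / 3) + x / 3 * (y % 3)) % 3)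

/-- Conjugation in `𝔽₉`. -/
def kconj (x : ℕ) : ℕ := x % 3 + 3 * ((2 * (x / 3)) % 3)

/-- Product of coded `3 × 3` matrices. -/
def mm (A B : List ℕ) : List ℕ :=
  [kadd (kadd (kmul (A.getD 0 0) (B.getD 0 0)) (kmul (A.getD 1 0) (B.getD 3 0))) (kmul (A.getD 2 0) (B.getD 6 0)),
   kadd (kadd (kmul (A.getD 0 0) (B.getD 1 0)) (kmul (A.getD 1 0) (B.getD 4 0))) (kmul (A.getD 2 0) (B.getD 7 0)),
   kadd (kadd (kmul (A.getD 0 0) (B.getD 2 0)) (kmul (A.getD 1 0) (B.getD 5 0))) (kmul (A.getD 2 0) (B.getD 8 0)),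
   kadd (kadd (kmul (A.getD 3 0) (B.getD 0 0)) (kmul (A.getD 4 0) (B.getD 3 0))) (kmul (A.getD 5 0) (B.getD 6 0)),
   kadd (kadd (kmul (A.getD 3 0) (B.getD 1 0)) (kmul (A.getD 4 0) (B.getD 4 0))) (kmul (A.getD 5 0) (B.getD 7 0)),
   kadd (kadd (kmul (A.getD 3 0) (B.getD 2 0)) (kmul (A.getD 4 0) (B.getD 5 0))) (kmul (A.getD 5 0) (B.getD 8 0)),
   kadd (kadd (kmul (A.getD 6 0) (B.getD 0 0)) (kmul (A.getD 7 0) (B.getD 3 0))) (kmul (A.getD 8 0) (B.getD 6 0)),
   kadd (kadd (kmul (A.getD 6 0) (B.getD 1 0)) (kmul (A.getD 7 0) (B.getD 4 0))) (kmul (A.getD 8 0) (B.getD 7 0)),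
   kadd (kadd (kmul (A.getD 6 0) (B.getD 2 0)) (kmul (A.getD 7 0) (B.getD 5 0))) (kmul (A.getD 8 0) (B.getD 8 0))]

/-- Conjugate transpose of a coded matrix. -/
def star9 (A : List ℕ) : List ℕ :=
  [kconj (A.getD 0 0), kconj (A.getD 3 0), kconj (A.getD 6 0),
   kconj (A.getD 1 0), kconj (A.getD 4 0), kconj (A.getD 7 0),
   kconj (A.getD 2 0), kconj (A.getD 5 0), kconj (A.getD 8 0)]

/-- The identity matrix. -/
def one9 : List ℕ := [1, 0, 0, 0, 1, 0, 0, 0, 1]

/-- The powers of the image of the upper transvection. -/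
def upTable : List (List ℕ) :=
  [[1, 0, 0, 0, 1, 0, 0, 0, 1],
    [0, 4, 5, 0, 4, 7, 1, 0, 0],
    [5, 6, 2, 7, 6, 2, 0, 4, 5],
    [2, 8, 2, 2, 6, 5, 5, 6, 2],
    [2, 2, 8, 5, 3, 3, 2, 8, 2],
    [8, 4, 0, 3, 3, 7, 2, 2, 8],
    [0, 0, 1, 7, 7, 0, 8, 4, 0]]

/-- The powers of the image of the lower transvection. -/
def lowTable : List (List ℕ) :=
  [[1, 0, 0, 0, 1, 0, 0, 0, 1],
    [2, 5, 2, 2, 2, 5, 8, 6, 6],
    [0, 8, 7, 1, 0, 0, 0, 4, 7],
    [5, 0, 7, 2, 5, 2, 6, 4, 6],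
    [8, 2, 3, 0, 8, 7, 4, 2, 3],
    [0, 1, 0, 5, 0, 7, 4, 0, 4],
    [2, 2, 5, 8, 2, 3, 2, 8, 3]]

/-- Inverses modulo `7`. -/
def inv7 (c : ℕ) : ℕ := [0, 1, 4, 5, 2, 3, 6].getD c 0

/-- The image of a coded element with nonzero lower left entry. -/
def rhoAux (a c d : ℕ) : List ℕ :=
  mm (mm (upTable.getD ((a + 6) * inv7 c % 7) one9) (lowTable.getD c one9))
    (upTable.getD ((d + 6) * inv7 c % 7) one9)

/-- The image of a coded element of `SL₂(7)`. -/
def rho (a b c d : ℕ) : List ℕ :=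
  if c = 0 then mm (rhoAux ((a + b) % 7) d d) (lowTable.getD 6 one9) else rhoAux a c d

/-- All checks on one code. -/
def checkOne (n : ℕ) : Bool :=
  let a := n / 343
  let b := n / 49 % 7
  let c := n / 7 % 7
  let d := n % 7
  if (a * d + 6 * (b * c)) % 7 = 1 then
    let r := rho a b c d
    (rho ((a + c) % 7) ((b + d) % 7) c d == mm (rho 1 1 0 1) r) &&
    (rho a b ((a + c) % 7) ((b + d) % 7) == mm (rho 1 0 1 1) r) &&
    (rho ((7 - a) % 7) ((7 - b) % 7) ((7 - c) % 7) ((7 - d) % 7) == r)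
  else true

theorem check_all : (List.range 2401).all checkOne = true := by
  decide +kernel

theorem check_gen : rho 1 0 0 1 = one9 ∧ mm (star9 (rho 1 1 0 1)) (rho 1 1 0 1) = one9 ∧
    mm (star9 (rho 1 0 1 1)) (rho 1 0 1 1) = one9 ∧
    mm (rho 1 1 0 1) (rho 1 0 1 1) ≠ mm (rho 1 0 1 1) (rho 1 1 0 1) := by
  decide +kernel

theorem check_pow : List.foldl mm one9 (List.replicate 7 (rho 1 1 0 1)) = one9 ∧
    List.foldl mm one9 (List.replicate 7 (rho 1 0 1 1)) = one9 := by
  decide +kernel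



/-- The matrix of a code, for a square root `i` of `-1`. -/
def kval {F : Type*} [Field F] (i : F) (x : ℕ) : F := ((x % 3 : ℕ) : F) + ((x / 3 : ℕ) : F) * i

/-- The matrix over `F` of a coded matrix. -/
def toM {F : Type*} [Field F] (i : F) (A : List ℕ) : Matrix (Fin 3) (Fin 3) F :=
  !![kval i (A.getD 0 0), kval i (A.getD 1 0), kval i (A.getD 2 0);
     kval i (A.getD 3 0), kval i (A.getD 4 0), kval i (A.getD 5 0);
     kval i (A.getD 6 0), kval i (A.getD 7 0), kval i (A.getD 8 0)]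

section

variable {F : Type*} [Field F] [CharP F 3] {i : F} (hi : i * i = -1)

theorem cast_mod_three (n : ℕ) : ((n % 3 : ℕ) : F) = (n : F) := by
  conv_rhs => rw [← Nat.mod_add_div n 3]
  push_cast
  rw [show (3 : F) = 0 from by exact_mod_cast CharP.cast_eq_zero F 3]
  ring

theorem kval_pack (a b : ℕ) : kval i (a % 3 + 3 * (b % 3)) = (a : F) + (b : F) * i := by
  unfold kval
  rw [show (a % 3 + 3 * (b % 3)) % 3 = a % 3 by omega,
    show (a % 3 + 3 * (b % 3)) / 3 = b % 3 by omega, cast_mod_three, cast_mod_three]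

theorem kval_add (x y : ℕ) : kval i (kadd x y) = kval i x + kval i y := by
  rw [kadd, kval_pack]
  simp only [kval, Nat.cast_add, cast_mod_three]
  ring

include hi in
theorem kval_mul (x y : ℕ) : kval i (kmul x y) = kval i x * kval i y := by
  rw [kmul, kval_pack]
  simp only [kval, Nat.cast_add, Nat.cast_mul, cast_mod_three, Nat.cast_ofNat]
  have h3 : (3 : F) = 0 := by exact_mod_cast CharP.cast_eq_zero F 3
  linear_combination ((x / 3 : ℕ) : F) * ((y / 3 : ℕ) : F) * h3 - ((x / 3 : ℕ) : F) * ((y / 3 : ℕ) : F) * hi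

include hi in
theorem toM_mul (A B : List ℕ) : toM i (mm A B) = toM i A * toM i B := by
  ext j k
  fin_cases j <;> fin_cases k <;>
    simp [toM, mm, kval_add, kval_mul hi, Matrix.mul_apply, Fin.sum_univ_three]

theorem toM_one : toM i one9 = 1 := by
  ext j k
  fin_cases j <;> fin_cases k <;> simp [toM, one9, kval]

include hi in
theorem kval_conj (x : ℕ) : kval i (kconj x) = kval i x ^ 3 := by
  rw [kconj, kval_pack]
  simp only [kval, cast_mod_three, Nat.cast_mul, Nat.cast_ofNat]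
  have h3 : (3 : F) = 0 := by exact_mod_cast CharP.cast_eq_zero F 3
  haveI : Fact (Nat.Prime 3) := ⟨Nat.prime_three⟩
  rw [add_pow_char, mul_pow, ← frobenius_def, ← frobenius_def, map_natCast, map_natCast]
  linear_combination ((x / 3 : ℕ) : F) * i * h3 - ((x / 3 : ℕ) : F) * i * hi

include hi in
theorem mem_SU_of_star {g : SL(3, F)} {A : List ℕ} (hg : (g : Matrix (Fin 3) (Fin 3) F) = toM i A)
    (hA : mm (star9 A) A = one9) : g ∈ Cfsg.SU 3 F 3 := by
  have h := (toM_mul hi (star9 A) A).symm.trans (hA ▸ toM_one)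
  have hst : toM i (star9 A) = Matrix.of fun j k => (toM i A k j) ^ 3 := by
    ext j k
    fin_cases j <;> fin_cases k <;> simp [toM, star9, kval_conj hi]
  rw [hst, ← hg] at h
  intro u v
  have hk : ∀ a b, ∑ x, ((g : Matrix (Fin 3) (Fin 3) F) x a) ^ 3 * g x b =
      if a = b then 1 else 0 := fun a b => by
    have := congrFun (congrFun h a) b
    rwa [Matrix.mul_apply, Matrix.one_apply] at this
  change Cfsg.hermForm 3 F 3 ((g : Matrix (Fin 3) (Fin 3) F).mulVec u)
    ((g : Matrix (Fin 3) (Fin 3) F).mulVec v) = _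
  haveI : Fact (Nat.Prime 3) := ⟨Nat.prime_three⟩
  simp only [Cfsg.hermForm, Matrix.mulVec, dotProduct, Fin.sum_univ_three, add_pow_char, mul_pow]
  have h00 := hk 0 0; have h01 := hk 0 1; have h02 := hk 0 2
  have h10 := hk 1 0; have h11 := hk 1 1; have h12 := hk 1 2
  have h20 := hk 2 0; have h21 := hk 2 1; have h22 := hk 2 2
  simp [Fin.sum_univ_three] at h00 h01 h02 h10 h11 h12 h20 h21 h22
  linear_combination u 0 * v 0 ^ 3 * h00 + u 1 * v 0 ^ 3 * h01 + u 2 * v 0 ^ 3 * h02 +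
    u 0 * v 1 ^ 3 * h10 + u 1 * v 1 ^ 3 * h11 + u 2 * v 1 ^ 3 * h12 +
    u 0 * v 2 ^ 3 * h20 + u 1 * v 2 ^ 3 * h21 + u 2 * v 2 ^ 3 * h22

theorem toM_foldl (hi : i * i = -1) (A : List ℕ) : ∀ (n : ℕ) (B : List ℕ),
    toM i (List.foldl mm B (List.replicate n A)) = toM i B * toM i A ^ n
  | 0, B => by simp
  | n + 1, B => by
      rw [List.replicate_succ, List.foldl_cons, toM_foldl hi A n, toM_mul hi, pow_succ', mul_assoc]

end

theorem check_at (a b c d : ℕ) (ha : a < 7) (hb : b < 7) (hc : c < 7) (hd : d < 7)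
    (h : (a * d + 6 * (b * c)) % 7 = 1) :
    rho ((a + c) % 7) ((b + d) % 7) c d = mm (rho 1 1 0 1) (rho a b c d) ∧
    rho a b ((a + c) % 7) ((b + d) % 7) = mm (rho 1 0 1 1) (rho a b c d) ∧
    rho ((7 - a) % 7) ((7 - b) % 7) ((7 - c) % 7) ((7 - d) % 7) = rho a b c d := by
  have := List.all_eq_true.1 check_all (a * 343 + b * 49 + c * 7 + d) (List.mem_range.2 (by omega))
  simp only [checkOne, show (a * 343 + b * 49 + c * 7 + d) / 343 = a by omega,
    show (a * 343 + b * 49 + c * 7 + d) / 49 % 7 = b by omega,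
    show (a * 343 + b * 49 + c * 7 + d) / 7 % 7 = c by omega,
    show (a * 343 + b * 49 + c * 7 + d) % 7 = d by omega, if_pos h, Bool.and_eq_true,
    beq_iff_eq] at this
  exact ⟨this.1.1, this.1.2, this.2⟩

theorem center_two {K : Type*} [Field K] {z : SL(2, K)} (hz : z ∈ Subgroup.center SL(2, K)) :
    z = 1 ∨ z = -1 := by
  obtain ⟨r, hr2, hr⟩ := Matrix.SpecialLinearGroup.mem_center_iff.1 hz
  rw [Fintype.card_fin] at hr2
  rcases sq_eq_one_iff.1 hr2 with rfl | rfl
  · exact Or.inl (Subtype.ext (by rw [← hr]; simp))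
  · exact Or.inr (Subtype.ext (by rw [← hr]; ext a b; fin_cases a <;> fin_cases b <;> simp))

/-- The projective special unitary group PSU₃(3) (realised over the field with 9 elements) has a subgroup isomorphic to PSL₂(7). -/
theorem result {F : Type*} [Field F] [Fintype F] (hF : Fintype.card F = 9)
    {K : Type*} [Field K] [Fintype K] (hK : Fintype.card K = 7) :
    ∃ H : Subgroup (Cfsg.PSU 3 F 3), Nonempty (H ≃* Matrix.ProjectiveSpecialLinearGroup (Fin 2) K) := by
  classical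
  haveI : Fact (Nat.Prime 7) := ⟨by norm_num⟩
  haveI : Fact (Nat.Prime 3) := ⟨Nat.prime_three⟩
  haveI hchar : CharP F 3 := CfsgLib.ClassK.Push.charP_of_card (n := 2) (by rw [hF]; norm_num)
  obtain ⟨i, hi⟩ := FiniteField.isSquare_neg_one_iff.2 (show Fintype.card F % 4 ≠ 3 by rw [hF]; decide)
  have hi' : i * i = -1 := hi.symm
  haveI : CharP K 7 := CfsgLib.ClassK.Push.charP_of_card (n := 1) (by rw [hK]; norm_num)
  set e : K ≃+* ZMod 7 := (ZMod.ringEquiv K hK).symm with he
  set c : K → ℕ := fun x => (e x).val with hc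
  have hclt : ∀ x, c x < 7 := fun x => ZMod.val_lt _
  have hcadd : ∀ x y, c (x + y) = (c x + c y) % 7 := fun x y => by
    simp only [hc, map_add]; exact ZMod.val_add _ _
  have hc1 : c 1 = 1 := by simp only [hc, map_one]; rfl
  have hc0 : c 0 = 0 := by simp only [hc, map_zero]; rfl
  have hcneg : ∀ x, c (-x) = (7 - c x) % 7 := fun x => by
    simp only [hc, map_neg]; exact ZMod.neg_val' _
  set R : SL(2, K) → Matrix (Fin 3) (Fin 3) F :=
    fun g => toM i (rho (c (g.1 0 0)) (c (g.1 0 1)) (c (g.1 1 0)) (c (g.1 1 1))) with hR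
  have hdet : ∀ g : SL(2, K),
      (c (g.1 0 0) * c (g.1 1 1) + 6 * (c (g.1 0 1) * c (g.1 1 0))) % 7 = 1 := by
    intro g
    have h := g.2
    rw [Matrix.det_fin_two] at h
    have h1 := congrArg e h
    rw [map_sub, map_mul, map_mul, map_one] at h1
    have h2 : ((c (g.1 0 0) * c (g.1 1 1) + 6 * (c (g.1 0 1) * c (g.1 1 0)) : ℕ) : ZMod 7) = 1 := by
      simp only [hc, Nat.cast_add, Nat.cast_mul, ZMod.natCast_val, ZMod.cast_id, id_eq,
        Nat.cast_ofNat]
      linear_combination h1 + (e (g.1 0 1) * e (g.1 1 0)) * (CharP.cast_eq_zero (ZMod 7) 7)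
    have := congrArg ZMod.val h2
    rwa [ZMod.val_natCast] at this
  have hs : ∀ g : SL(2, K), R (uElt 1 * g) = R (uElt 1) * R g ∧
      R (CfsgLib.PLocal.lowerTri 1 * g) = R (CfsgLib.PLocal.lowerTri 1) * R g ∧ R (-g) = R g := by
    intro g
    obtain ⟨h1, h2, h3⟩ := check_at _ _ _ _ (hclt (g.1 0 0)) (hclt (g.1 0 1)) (hclt (g.1 1 0))
      (hclt (g.1 1 1)) (hdet g)
    refine ⟨?_, ?_, ?_⟩
    · simp only [hR, Matrix.SpecialLinearGroup.coe_mul, CfsgLib.Classical.uElt_val,
        Matrix.mul_apply, Fin.sum_univ_two]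
      simp only [Matrix.of_apply, Matrix.cons_val', Matrix.cons_val_zero, Matrix.cons_val_one,
        Matrix.cons_val_fin_one, one_mul, zero_mul, zero_add, hc1, hc0, hcadd]
      rw [h1, toM_mul hi']
    · simp only [hR, Matrix.SpecialLinearGroup.coe_mul, CfsgLib.PLocal.lowerTri_val,
        Matrix.mul_apply, Fin.sum_univ_two]
      simp only [Matrix.of_apply, Matrix.cons_val', Matrix.cons_val_zero, Matrix.cons_val_one,
        Matrix.cons_val_fin_one, one_mul, zero_mul, add_zero, hc1, hc0, hcadd]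
      rw [h2, toM_mul hi']
    · simp only [hR, Matrix.SpecialLinearGroup.coe_neg, Matrix.neg_apply, hcneg]
      rw [h3]
  have hR1 : R 1 = 1 := by
    simp only [hR, Matrix.SpecialLinearGroup.coe_one, Matrix.one_apply_eq,
      Matrix.one_apply_ne (show (0 : Fin 2) ≠ 1 by decide),
      Matrix.one_apply_ne (show (1 : Fin 2) ≠ 0 by decide), hc1, hc0, check_gen.1, toM_one]
  set gens : Set SL(2, K) := {uElt 1, CfsgLib.PLocal.lowerTri 1} with hgens
  have hclos : Subgroup.closure gens = ⊤ := by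
    refine CfsgLib.PLocal.sl_eq_top_of_uSL_le ?_ (s := CfsgLib.PLocal.lowerTri 1)
      (Subgroup.subset_closure (by simp [hgens])) (by simp [CfsgLib.PLocal.lowerTri_val])
    rintro _ ⟨t, rfl⟩
    have hpow : ∀ n : ℕ, (uElt (1 : K)) ^ n = uElt (n : K) := by
      intro n
      induction n with
      | zero => simp [show uElt (0 : K) = 1 from Matrix.SpecialLinearGroup.transvection_coeff_zero _]
      | succ m ih => rw [pow_succ, ih, ← CfsgLib.Classical.uElt_add]; push_cast; rfl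
    have ht : ((c t : ℕ) : K) = t := by
      apply e.injective
      rw [map_natCast, hc, ZMod.natCast_val, ZMod.cast_id]
    rw [← ht, ← hpow]
    exact Subgroup.pow_mem _ (Subgroup.subset_closure (by simp [hgens])) _
  have hmul : ∀ g h : SL(2, K), R (g * h) = R g * R h := by
    intro g
    have hg : g ∈ Submonoid.closure gens := by
      rw [← Subgroup.closure_toSubmonoid_of_finite, hclos]; trivial
    induction hg using Submonoid.closure_induction_left with
    | one => intro h; rw [one_mul, hR1, one_mul]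
    | mul_left x hx y hy ih =>
      intro h
      rcases hx with rfl | rfl
      · rw [mul_assoc, (hs _).1, (hs y).1, ih, mul_assoc]
      · rw [mul_assoc, (hs _).2.1, (hs y).2.1, ih, mul_assoc]
  have hu7 : R (uElt 1) ^ 7 = 1 ∧ R (CfsgLib.PLocal.lowerTri 1) ^ 7 = 1 := by
    simp only [hR, CfsgLib.Classical.uElt_val, CfsgLib.PLocal.lowerTri_val, Matrix.of_apply,
      Matrix.cons_val', Matrix.cons_val_zero, Matrix.cons_val_one, Matrix.cons_val_fin_one, hc1, hc0]
    constructor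
    · have := congrArg (toM i) check_pow.1
      rwa [toM_foldl hi', toM_one, one_mul] at this
    · have := congrArg (toM i) check_pow.2
      rwa [toM_foldl hi', toM_one, one_mul] at this
  let Rh : SL(2, K) →* Matrix (Fin 3) (Fin 3) F := ⟨⟨R, hR1⟩, hmul⟩
  have hdet1 : ∀ g, (R g).det = 1 := by
    let dh : SL(2, K) →* F := Matrix.detMonoidHom.comp Rh
    have hd : ∀ x : F, x ^ 7 = 1 → x = 1 := by
      intro x hx
      have hx0 : x ≠ 0 := by rintro rfl; simp at hx
      have h8 : x ^ 8 = 1 := by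
        have := FiniteField.pow_card_sub_one_eq_one x hx0
        rwa [hF] at this
      rw [pow_succ, hx, one_mul] at h8
      exact h8
    intro g
    have hg : g ∈ Submonoid.closure gens := by
      rw [← Subgroup.closure_toSubmonoid_of_finite, hclos]; trivial
    induction hg using Submonoid.closure_induction with
    | mem x hx =>
      rcases hx with rfl | rfl
      · exact hd _ (by rw [← Matrix.det_pow, hu7.1, Matrix.det_one])
      · exact hd _ (by rw [← Matrix.det_pow, hu7.2, Matrix.det_one])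
    | one => rw [hR1, Matrix.det_one]
    | mul x y _ _ h1 h2 => rw [hmul, Matrix.det_mul, h1, h2, mul_one]
  let Rs : SL(2, K) →* SL(3, F) :=
    ⟨⟨fun g => ⟨R g, hdet1 g⟩, Subtype.ext hR1⟩, fun g h => Subtype.ext (hmul g h)⟩
  have hRs : ∀ g, Rs g ∈ Cfsg.SU 3 F 3 := by
    have : (⊤ : Subgroup SL(2, K)) ≤ (Cfsg.SU 3 F 3).comap Rs := by
      rw [← hclos, Subgroup.closure_le]
      rintro x (rfl | rfl)
      · refine mem_SU_of_star hi' (A := rho 1 1 0 1) ?_ check_gen.2.1
        change R (uElt 1) = _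
        simp [hR, CfsgLib.Classical.uElt_val, hc1, hc0]
      · refine mem_SU_of_star hi' (A := rho 1 0 1 1) ?_ check_gen.2.2.1
        change R (CfsgLib.PLocal.lowerTri 1) = _
        simp [hR, CfsgLib.PLocal.lowerTri_val, hc1, hc0]
    exact fun g => this (Subgroup.mem_top g)
  let φ : SL(2, K) →* Cfsg.PSU 3 F 3 :=
    (QuotientGroup.mk' _).comp (Rs.codRestrict (Cfsg.SU 3 F 3) hRs)
  have hker : Subgroup.center SL(2, K) ≤ φ.ker := by
    intro z hz
    rw [MonoidHom.mem_ker]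
    have : Rs.codRestrict (Cfsg.SU 3 F 3) hRs z = 1 := by
      refine Subtype.ext (Subtype.ext ?_)
      change R z = 1
      rcases center_two hz with rfl | rfl
      · exact hR1
      · rw [(hs 1).2.2, hR1]
    change QuotientGroup.mk' _ (Rs.codRestrict (Cfsg.SU 3 F 3) hRs z) = 1
    rw [this, map_one]
  let ψ : Matrix.ProjectiveSpecialLinearGroup (Fin 2) K →* Cfsg.PSU 3 F 3 :=
    QuotientGroup.lift _ φ hker
  haveI hsimp : IsSimpleGroup (Matrix.ProjectiveSpecialLinearGroup (Fin 2) K) :=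
    Matrix.ProjectiveSpecialLinearGroup.rank_two_simple (by rw [Nat.card_eq_fintype_card, hK]; norm_num)
  have hinj : Function.Injective ψ := by
    refine (MonoidHom.ker_eq_bot_iff ψ).1 ((ψ.normal_ker.eq_bot_or_eq_top).resolve_right fun htop => ?_)
    have h1 : ∀ g, Rs.codRestrict (Cfsg.SU 3 F 3) hRs g ∈ Subgroup.center (Cfsg.SU 3 F 3) := fun g => by
      refine (QuotientGroup.eq_one_iff _).1 ?_
      exact (MonoidHom.mem_ker.1 (htop ▸ Subgroup.mem_top (QuotientGroup.mk g : Matrix.ProjectiveSpecialLinearGroup (Fin 2) K)) :)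
    have h2 := congrArg (fun x : Cfsg.SU 3 F 3 => ((x : SL(3, F)) : Matrix (Fin 3) (Fin 3) F) 0 1)
      (Subgroup.mem_center_iff.1 (h1 (uElt 1)) (Rs.codRestrict (Cfsg.SU 3 F 3) hRs (CfsgLib.PLocal.lowerTri 1)))
    change (R (CfsgLib.PLocal.lowerTri 1) * R (uElt 1)) 0 1 =
      (R (uElt 1) * R (CfsgLib.PLocal.lowerTri 1)) 0 1 at h2
    simp only [hR, CfsgLib.Classical.uElt_val, CfsgLib.PLocal.lowerTri_val, Matrix.of_apply,
      Matrix.cons_val', Matrix.cons_val_zero, Matrix.cons_val_one, Matrix.cons_val_fin_one, hc1, hc0,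
      ← toM_mul hi'] at h2
    simp [toM, kval, mm, rho, rhoAux, upTable, lowTable, one9, inv7, kadd, kmul] at h2
    have h3 : (3 : F) = 0 := by exact_mod_cast CharP.cast_eq_zero F 3
    have hi0 : i = 0 := h2.resolve_left fun h => one_ne_zero (α := F) (by linear_combination h3 - h)
    rw [hi0, mul_zero, eq_comm, neg_eq_zero] at hi'
    exact one_ne_zero hi'
  exact ⟨ψ.range, ⟨(MonoidHom.ofInjective hinj).symm⟩⟩

end Cfsg.Agent.S1897
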