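import Cfsg.Statements.S1898


set_option autoImplicit false
open Cfsg
open scoped commutatorElement

namespace Cfsg.Agent.S1898

/-- Let X be a finite 2-group whose derived subgroup is elementary abelian and central. Then the subgroup generated by the elements of order dividing 4 has exponent dividing 4, and every automorphism of X fixing each element of order dividing 4 has 2-power order. -/
theorem result {X : Type*} [Group X] [Finite X] (hX : IsPGroup 2 X)
    (hel : Cfsg.IsElementaryAbelian 2 (commutator X)) (hcen : commutator X ≤ Subgroup.center X) :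
    (∀ x ∈ Subgroup.closure {g : X | g ^ 4 = 1}, x ^ 4 = 1) ∧
      ∀ φ : MulAut X, (∀ g : X, g ^ 4 = 1 → φ g = g) → ∃ k : ℕ, φ ^ (2 ^ k) = 1 := by
  have hk : ∀ g x : X, ∀ y : X, ⁅g, x⁆ * y = y * ⁅g, x⁆ ∧ ⁅g, x⁆ ^ 2 = 1 := fun g x y => by
    have h : ⁅g, x⁆ ∈ commutator X :=
      Subgroup.commutator_mem_commutator (Subgroup.mem_top g) (Subgroup.mem_top x)
    exact ⟨(Subgroup.mem_center_iff.1 (hcen h) y).symm, hel.2 _ h⟩
  have hsq : ∀ g x : X, g * g * x = x * (g * g) := fun g x => by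
    obtain ⟨hc, h2⟩ := hk g x g
    rw [pow_two] at h2
    calc g * g * x = g * ⁅g, x⁆ * x * g := by rw [commutatorElement_def]; group
      _ = ⁅g, x⁆ * (g * x * g⁻¹) * g * g := by rw [← hc]; group
      _ = ⁅g, x⁆ * (⁅g, x⁆ * x) * (g * g) := by rw [commutatorElement_def]; group
      _ = _ := by rw [← mul_assoc ⁅g, x⁆, h2, one_mul]
  have hmul2 : ∀ g h : X, (g * h) * (g * h) = g * g * ⁅g⁻¹, h⁆ * (h * h) := fun g h => by
    rw [commutatorElement_def]; group
  constructor
  · intro x hx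
    induction hx using Subgroup.closure_induction with
    | mem x hx => exact hx
    | one => exact one_pow 4
    | mul a b _ _ ha hb =>
      obtain ⟨-, h2⟩ := hk a⁻¹ b 1
      have hc := fun y => (hk a⁻¹ b y).1
      calc (a * b) ^ 4 = (a * b) * (a * b) * ((a * b) * (a * b)) := by simp [pow_succ, mul_assoc]
        _ = a * a * ⁅a⁻¹, b⁆ * (b * b) * (a * a * ⁅a⁻¹, b⁆ * (b * b)) := congrArg₂ (· * ·) (hmul2 a b) (hmul2 a b)
        _ = a * a * ⁅a⁻¹, b⁆ * ((b * b) * (a * a)) * ⁅a⁻¹, b⁆ * (b * b) := by simp [mul_assoc]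
        _ = a * a * (⁅a⁻¹, b⁆ * (a * a)) * ((b * b) * ⁅a⁻¹, b⁆) * (b * b) := by
            rw [hsq b (a * a)]; simp [mul_assoc]
        _ = a * a * (a * a) * (⁅a⁻¹, b⁆ * ⁅a⁻¹, b⁆) * (b * b * (b * b)) := by
            rw [hc (a * a), ← hc (b * b)]; simp [mul_assoc]
        _ = a ^ 4 * b ^ 4 := by rw [← pow_two ⁅a⁻¹, b⁆, h2]; simp [pow_succ, mul_assoc]
        _ = 1 := by rw [ha, hb, one_mul]
    | inv a _ ha => rw [inv_pow, ha, inv_one]
  intro φ hφ
  obtain ⟨k, m, hm, hkm⟩ : ∃ k m, Odd m ∧ orderOf φ = 2 ^ k * m := by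
    obtain ⟨k, m, hm, h⟩ := Nat.exists_eq_two_pow_mul_odd (orderOf_pos φ).ne'
    exact ⟨k, m, hm, h⟩
  refine ⟨k, ?_⟩
  set ψ := φ ^ (2 ^ k) with hψ
  have hψm : ψ ^ m = 1 := by rw [hψ, ← pow_mul, ← hkm, pow_orderOf_eq_one]
  have hψ4 : ∀ g : X, g ^ 4 = 1 → ψ g = g := by
    intro g hg
    have : ∀ j : ℕ, (φ ^ j) g = g := fun j => by
      induction j with
      | zero => rfl
      | succ j ih => rw [pow_succ', MulAut.mul_apply, ih, hφ g hg]
    exact this _
  have key : ∀ n : ℕ, ∀ g : X, g ^ (2 ^ n) = 1 → ψ g = g := by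
    intro n
    induction n with
    | zero => intro g hg; exact hψ4 g (by rw [pow_zero, pow_one] at hg; rw [hg, one_pow])
    | succ n ih =>
      intro g hg
      have hfix : ψ (g * g) = g * g := ih _ (by rw [← pow_two, ← pow_mul, ← pow_succ']; exact hg)
      set c := g⁻¹ * ψ g with hc
      have hψg : ψ g = g * c := by rw [hc, mul_inv_cancel_left]
      rw [map_mul, hψg, hmul2, mul_assoc] at hfix
      obtain ⟨-, h2⟩ := hk g⁻¹ c 1
      have hcc : c * c = ⁅g⁻¹, c⁆⁻¹ := eq_inv_of_mul_eq_one_right (mul_eq_left.1 hfix)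
      have hc4 : c ^ 4 = 1 := by
        rw [show (4 : ℕ) = 2 * 2 from rfl, pow_mul, pow_two c, hcc, inv_pow, h2, inv_one]
      have hpow : ∀ i : ℕ, (ψ ^ i) g = g * c ^ i := fun i => by
        induction i with
        | zero => simp
        | succ i ih =>
          rw [pow_succ', MulAut.mul_apply, ih, map_mul, map_pow, hψ4 c hc4, hψg, mul_assoc,
            pow_succ']
      have hcm := hpow m
      rw [hψm, MulAut.one_apply, left_eq_mul] at hcm
      obtain ⟨r, hr⟩ := hm
      have h22 : (c * c) ^ 2 = 1 := by rw [← pow_two, ← pow_mul]; exact hc4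
      rw [hr, pow_succ, pow_mul, pow_two] at hcm
      have hc1 : c * c = 1 := by
        have : (c * c) ^ (2 * r + 1) = 1 := by
          have h := congrArg (fun z => z * z) hcm
          simp only [mul_one] at h
          calc (c * c) ^ (2 * r + 1) = (c * c) ^ r * c * ((c * c) ^ r * c) := by
                rw [← pow_two, ← pow_mul, ← pow_mul, ← pow_succ, ← pow_add]; congr 1; ring
            _ = 1 := h
        rwa [pow_succ, pow_mul, h22, one_pow, one_mul] at this
      rw [hc1, one_pow, one_mul] at hcm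
      rw [hψg, hcm, mul_one]
  ext g
  obtain ⟨n, hn⟩ := hX g
  rw [MulAut.one_apply]
  exact key n g hn

end Cfsg.Agent.S1898
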