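import Cfsg.Statements.S1899


set_option autoImplicit false
open Cfsg
open scoped commutatorElement

namespace Cfsg.Agent.S1899

/-- Let a dihedral group of order 2n, n odd and n > 1, act on a finite abelian 2-group A through automorphisms d and t with d^n = 1, t² = 1 and t d t⁻¹ = d⁻¹, and suppose that d fixes only the identity. Then A is the internal direct product of C_A(t) and its image under d. -/
theorem result {A : Type*} [CommGroup A] [Finite A] (hA : IsPGroup 2 A)
    {n : ℕ} (hn : Odd n) (hn1 : 1 < n) (d t : MulAut A) (hd : d ^ n = 1) (ht : t ^ 2 = 1) (hdt : t * d * t⁻¹ = d⁻¹)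
    (hfix : ∀ a : A, d a = a → a = 1) :
    (MulEquiv.toMonoidHom t).eqLocus (MonoidHom.id A) ⊓ ((MulEquiv.toMonoidHom t).eqLocus (MonoidHom.id A)).map d.toMonoidHom = ⊥ ∧
      (MulEquiv.toMonoidHom t).eqLocus (MonoidHom.id A) ⊔ ((MulEquiv.toMonoidHom t).eqLocus (MonoidHom.id A)).map d.toMonoidHom = ⊤ := by
  have hdn : ∀ a : A, (d ^ n) a = a := fun a => by rw [hd]; rfl
  have hd2 : ∀ a : A, (d * d) a = a → a = 1 := by
    intro a ha
    apply hfix
    obtain ⟨m, hm⟩ := hn
    have hpow : ∀ j : ℕ, ((d * d) ^ j) a = a := by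
      intro j
      induction j with
      | zero => rfl
      | succ j ih => rw [pow_succ, MulAut.mul_apply, ha, ih]
    have h1 := hdn a
    rw [hm, pow_succ', pow_mul, pow_two, MulAut.mul_apply, hpow] at h1
    exact h1
  have hcomm : ∀ a : A, t (d a) = d⁻¹ (t a) := fun a => by
    have h1 := congrArg (fun φ : MulAut A => φ (t a)) hdt
    have htt : t⁻¹ (t a) = a := MulAut.inv_apply_self _ t a
    simpa [MulAut.mul_apply, htt] using h1
  have hcomm' : ∀ a : A, t (d⁻¹ a) = d (t a) := fun a => by
    have h1 := hcomm (d⁻¹ a)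
    rw [MulAut.apply_inv_self] at h1
    rw [h1, MulAut.apply_inv_self]
  have htsq : ∀ a : A, t (t a) = a := fun a => by
    rw [← MulAut.mul_apply, ← pow_two, ht]; rfl
  let f : A →* A := (MulEquiv.toMonoidHom d⁻¹) / (MulEquiv.toMonoidHom d)
  have hf : ∀ a : A, f a = d⁻¹ a / d a := fun a => rfl
  have hinj : Function.Injective f := by
    rw [injective_iff_map_eq_one]
    intro a ha
    rw [hf, div_eq_one] at ha
    refine hd2 a ?_
    rw [MulAut.mul_apply, ← ha, MulAut.apply_inv_self]
  constructor
  · rw [eq_bot_iff]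
    rintro x ⟨hx, y, hy, rfl⟩
    have hy' : t y = y := hy
    have hx' : t (d y) = d y := hx
    rw [hcomm, hy'] at hx'
    have : y = 1 := hd2 y (by rw [MulAut.mul_apply, ← hx', MulAut.apply_inv_self])
    rw [Subgroup.mem_bot, this, map_one]
  · rw [eq_top_iff]
    intro a _
    obtain ⟨c', hc'⟩ := (Finite.injective_iff_surjective.1 hinj) (t a / a)
    have htc : t c' = c' := by
      apply hinj
      rw [hf, hc']
      have h1 := congrArg t hc'
      rw [hf, map_div, map_div, htsq, hcomm, hcomm'] at h1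
      rw [← inv_div (d (t c')) (d⁻¹ (t c')), h1, inv_div]
    have hc : t (a / d c') = a / d c' := by
      rw [map_div, hcomm, htc]
      have h2 : d⁻¹ c' = t a / a * d c' := by
        rw [← hc', hf, div_mul_cancel]
      rw [h2]
      simp [div_eq_mul_inv, mul_comm, mul_left_comm]
    rw [Subgroup.mem_sup]
    exact ⟨a / d c', hc, d c', ⟨c', htc, rfl⟩, div_mul_cancel a (d c')⟩

end Cfsg.Agent.S1899
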