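import Cfsg.Statements.S1900
import Cfsg.Agent.Lib.Coprime.Generation
import Cfsg.Agent.Lib.Coprime.Action

set_option autoImplicit false
open Cfsg
open scoped commutatorElement Pointwise

namespace Cfsg.Agent.S1900

/-- Let S = PQ be a finite group with P a normal Sylow p-subgroup and Q elementary abelian of order q², q a prime different from p. If exactly two subgroups X₁, X₂ of order q in Q have a nontrivial centralizer in P, then P is the internal direct product of C_P(X₁) and C_P(X₂): they commute elementwise, meet trivially and generate P. -/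
theorem result {S : Type*} [Group S] [Finite S] {p q : ℕ} [Fact p.Prime] [Fact q.Prime] (hpq : p ≠ q)
    (P : Sylow p S) [(P : Subgroup S).Normal] (Q : Subgroup S) (hQ : Cfsg.IsElementaryAbelian q Q) (hQc : Nat.card Q = q ^ 2)
    (hS : (P : Subgroup S) ⊔ Q = ⊤)
    (X₁ X₂ : Subgroup S) (h₁ : X₁ ≤ Q) (h₂ : X₂ ≤ Q) (h₁₂ : X₁ ≠ X₂) (hc₁ : Nat.card X₁ = q) (hc₂ : Nat.card X₂ = q)
    (hf₁ : (P : Subgroup S) ⊓ Subgroup.centralizer (X₁ : Set S) ≠ ⊥)
    (hf₂ : (P : Subgroup S) ⊓ Subgroup.centralizer (X₂ : Set S) ≠ ⊥)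
    (honly : ∀ X : Subgroup S, X ≤ Q → Nat.card X = q →
      (P : Subgroup S) ⊓ Subgroup.centralizer (X : Set S) ≠ ⊥ → X = X₁ ∨ X = X₂) :
    ⁅(P : Subgroup S) ⊓ Subgroup.centralizer (X₁ : Set S), (P : Subgroup S) ⊓ Subgroup.centralizer (X₂ : Set S)⁆ = ⊥ ∧
      ((P : Subgroup S) ⊓ Subgroup.centralizer (X₁ : Set S)) ⊓ ((P : Subgroup S) ⊓ Subgroup.centralizer (X₂ : Set S)) = ⊥ ∧
      ((P : Subgroup S) ⊓ Subgroup.centralizer (X₁ : Set S)) ⊔ ((P : Subgroup S) ⊓ Subgroup.centralizer (X₂ : Set S)) = P := by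
  set P' : Subgroup S := (P : Subgroup S) with hP'
  set C₁ := P' ⊓ Subgroup.centralizer (X₁ : Set S) with hC₁
  set C₂ := P' ⊓ Subgroup.centralizer (X₂ : Set S) with hC₂
  have hQP : Q ≤ Subgroup.normalizer (P' : Set S) := by
    rw [Subgroup.normalizer_eq_top]; exact le_top
  have hq2 : (Nat.card Q).Coprime p := by
    rw [hQc]; exact Nat.Coprime.pow_left 2 ((Nat.coprime_primes Fact.out Fact.out).2 hpq.symm)
  have hcopR : ∀ R : Subgroup S, R ≤ P' → ∀ A : Subgroup S, A ≤ Q →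
      (Nat.card A).Coprime (Nat.card R) := fun R hR A hA => by
    obtain ⟨n, hn⟩ := IsPGroup.iff_card.1 (P.2.to_le hR)
    rw [hn]; exact (hq2.coprime_dvd_left (Subgroup.card_dvd_of_le hA)).pow_right n
  have hab : ∀ a ∈ Q, ∀ b ∈ Q, a * b = b * a := fun a ha b hb =>
    congrArg Subtype.val (hQ.1.is_comm.comm ⟨a, ha⟩ ⟨b, hb⟩)
  have hQCi : ∀ X : Subgroup S, X ≤ Q → Q ≤ Subgroup.normalizer (Subgroup.centralizer (X : Set S) : Set S) :=
    fun X hX => le_trans (fun a ha => Subgroup.mem_centralizer_iff.2 fun x hx => hab x (hX hx) a ha)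
      Subgroup.le_normalizer
  have hzp : ∀ x ∈ Q, x ≠ 1 → Nat.card (Subgroup.zpowers x) = q := fun x hx h1 => by
    rw [Nat.card_zpowers]
    exact orderOf_eq_prime (hQ.2 x hx) h1
  have hprime : ∀ X : Subgroup S, Nat.card X = q → ∀ x ∈ X, x ≠ 1 → Subgroup.zpowers x = X := by
    intro X hX x hx h1
    refine Subgroup.eq_of_le_of_card_ge (Subgroup.zpowers_le.2 hx) ?_
    rw [hX, Nat.card_zpowers]
    have hd : orderOf x ∣ q := hX ▸ X.orderOf_dvd_natCard hx
    rcases (Nat.dvd_prime Fact.out).1 hd with h | h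
    · exact absurd (orderOf_eq_one_iff.1 h) h1
    · exact h.ge
  obtain ⟨x₁, hx₁, hx₁1⟩ : ∃ x ∈ X₁, x ≠ 1 := by
    obtain ⟨x, hx⟩ := Subgroup.ne_bot_iff_exists_ne_one.1
      (fun h : X₁ = ⊥ => (Fact.out : q.Prime).ne_one (by rw [← hc₁, h, Subgroup.card_bot]))
    exact ⟨x, x.2, fun h => hx (Subtype.ext h)⟩
  obtain ⟨x₂, hx₂, hx₂1⟩ : ∃ x ∈ X₂, x ≠ 1 := by
    obtain ⟨x, hx⟩ := Subgroup.ne_bot_iff_exists_ne_one.1
      (fun h : X₂ = ⊥ => (Fact.out : q.Prime).ne_one (by rw [← hc₂, h, Subgroup.card_bot]))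
    exact ⟨x, x.2, fun h => hx (Subtype.ext h)⟩
  have hx12 : x₁ * x₂ ∈ Q := Q.mul_mem (h₁ hx₁) (h₂ hx₂)
  have hne : x₁ * x₂ ∉ X₁ ∧ x₁ * x₂ ∉ X₂ := by
    constructor <;> intro h
    · have h' : x₂ ∈ X₁ := by simpa using X₁.mul_mem (X₁.inv_mem hx₁) h
      exact h₁₂ ((hprime X₁ hc₁ x₂ h' hx₂1).symm.trans (hprime X₂ hc₂ x₂ hx₂ hx₂1))
    · have h' : x₁ ∈ X₂ := by simpa using X₂.mul_mem h (X₂.inv_mem hx₂)
      exact h₁₂ ((hprime X₁ hc₁ x₁ hx₁ hx₁1).symm.trans (hprime X₂ hc₂ x₁ h' hx₁1))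
  have hx121 : x₁ * x₂ ≠ 1 := fun h => hne.1 (h ▸ X₁.one_mem)
  have hinf : C₁ ⊓ C₂ = ⊥ := by
    rw [eq_bot_iff]
    intro c hc
    have hle : P' ⊓ Subgroup.centralizer (Subgroup.zpowers (x₁ * x₂) : Set S) = ⊥ := by
      by_contra hcon
      rcases honly _ (Subgroup.zpowers_le.2 hx12) (hzp _ hx12 hx121) hcon with h | h
      · exact hne.1 (h ▸ Subgroup.mem_zpowers _)
      · exact hne.2 (h ▸ Subgroup.mem_zpowers _)
    rw [← hle]
    refine ⟨hc.1.1, Subgroup.mem_centralizer_iff.2 fun y hy => ?_⟩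
    obtain ⟨k, rfl⟩ := Subgroup.mem_zpowers_iff.1 hy
    have a1 : Commute x₁ c := Subgroup.mem_centralizer_iff.1 hc.1.2 x₁ hx₁
    have a2 : Commute x₂ c := Subgroup.mem_centralizer_iff.1 hc.2.2 x₂ hx₂
    exact ((a1.mul_left a2).zpow_left k).eq
  have hnc : ¬ IsCyclic Q := by
    intro h
    obtain ⟨g, hg⟩ := h.exists_ofOrder_eq_natCard
    have h1 : orderOf g ∣ q := orderOf_dvd_of_pow_eq_one (Subtype.ext (hQ.2 g g.2))
    rw [hg, hQc, pow_two] at h1
    have := Nat.le_of_dvd (Fact.out : q.Prime).pos h1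
    nlinarith [(Fact.out : q.Prime).two_le]
  have hgen : ∀ R : Subgroup S, R ≤ P' → Q ≤ Subgroup.normalizer (R : Set S) →
      R ≤ (R ⊓ C₁) ⊔ (R ⊓ C₂) := by
    intro R hR hQR
    refine le_trans (le_of_eq (CfsgLib.Coprime.iSup_centralizer_eq hQ.1 hnc hQR (hcopR R hR Q le_rfl)).symm) ?_
    refine iSup_le fun a => ?_
    have h : R ⊓ Subgroup.centralizer ({(a : S)} : Set S) ≤
        R ⊓ (P' ⊓ Subgroup.centralizer (Subgroup.zpowers (a : S) : Set S)) := by
      rw [Subgroup.zpowers_eq_closure, Subgroup.centralizer_closure]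
      exact le_inf inf_le_left (le_inf (inf_le_left.trans hR) inf_le_right)
    refine h.trans ?_
    by_cases hb : P' ⊓ Subgroup.centralizer (Subgroup.zpowers (a : S) : Set S) = ⊥
    · rw [hb, inf_bot_eq]; exact bot_le
    rcases honly _ (Subgroup.zpowers_le.2 a.2.1) (hzp _ a.2.1 a.2.2) hb with e | e
    · rw [e]; exact le_sup_left
    · rw [e]; exact le_sup_right
  refine ⟨?_, hinf, le_antisymm (sup_le inf_le_left inf_le_left)
    ((hgen P' le_rfl hQP).trans (sup_le_sup inf_le_right inf_le_right))⟩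
  let L : ℕ → Subgroup S := fun n => (Subgroup.upperCentralSeries ↥P' n).map P'.subtype
  have hLn : ∀ n, (L n).Normal := fun n => inferInstance
  have hLle : ∀ n, L n ≤ P' := fun n => Subgroup.map_subtype_le _
  have hLc : ∀ n, ∀ x ∈ L (n + 1), ∀ y ∈ P', ⁅x, y⁆ ∈ L n := by
    rintro n _ ⟨x, hx, rfl⟩ y hy
    exact ⟨⁅x, ⟨y, hy⟩⁆, Subgroup.mem_upperCentralSeries_succ_iff.1 hx _, rfl⟩
  have hLmono : ∀ n, L n ≤ L (n + 1) := fun n =>
    Subgroup.map_mono (Subgroup.upperCentralSeries_mono _ n.le_succ)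
  haveI : Group.IsNilpotent ↥P' := P.2.isNilpotent
  obtain ⟨N, hN⟩ := Group.IsNilpotent.nilpotent (G := ↥P')
  -- the one-sided step, for either order of the two subgroups
  have side : ∀ n, ∀ A B : Subgroup S, A ≤ P' → B ≤ P' → ∀ X : Subgroup S, X ≤ Q →
      ⁅A, X⁆ = A → B ≤ Subgroup.centralizer (X : Set S) → ⁅A, B⁆ ≤ L (n + 1) →
      L (n + 1) ≤ (L (n + 1) ⊓ C₁) ⊔ (L (n + 1) ⊓ C₂) →
      ∀ M M' : Subgroup S, M ⊔ M' = L (n + 1) → L n ≤ M →
        M' ≤ Subgroup.centralizer (X : Set S) → X ≤ Subgroup.normalizer (M : Set S) →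
      ⁅A, B⁆ ≤ M := by
    intro n A B hA hB X hX hAX hBX hAB _ M M' hMM hLM hM' hXM
    have hMP : M ≤ P' := le_trans (le_sup_left.trans hMM.le) (hLle _)
    have hMle : M ≤ L (n + 1) := le_sup_left.trans hMM.le
    have hMn : ∀ w ∈ P', ∀ m ∈ M, w * m * w⁻¹ ∈ M := fun w hw m hm => by
      have h := hLc n m (hMle hm) w hw
      have e : w * m * w⁻¹ = ⁅m, w⁆⁻¹ * m := by rw [commutatorElement_def]; group
      rw [e]; exact M.mul_mem (M.inv_mem (hLM h)) hm
    rw [Subgroup.commutator_le]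
    intro a ha b hb
    let D : Subgroup S :=
      { carrier := {a | a ∈ A ∧ ⁅a, b⁆ ∈ M}
        one_mem' := ⟨A.one_mem, by simp [M.one_mem]⟩
        mul_mem' := by
          rintro u v ⟨hu, hu'⟩ ⟨hv, hv'⟩
          refine ⟨A.mul_mem hu hv, ?_⟩
          have e : ⁅u * v, b⁆ = u * ⁅v, b⁆ * u⁻¹ * ⁅u, b⁆ := by
            simp only [commutatorElement_def]; group
          rw [e]; exact M.mul_mem (hMn u (hA hu) _ hv') hu'
        inv_mem' := by
          rintro u ⟨hu, hu'⟩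
          refine ⟨A.inv_mem hu, ?_⟩
          have e : ⁅u⁻¹, b⁆ = u⁻¹ * ⁅u, b⁆⁻¹ * u⁻¹⁻¹ := by
            simp only [commutatorElement_def]; group
          rw [e]; exact hMn _ (P'.inv_mem (hA hu)) _ (M.inv_mem hu') }
    suffices h : A ≤ D from (h ha).2
    conv_lhs => rw [← hAX]
    rw [Subgroup.commutator_le]
    intro u hu x hx
    have hAn : x * u⁻¹ * x⁻¹ ∈ A := by
      have h : ⁅u⁻¹, x⁆ ∈ A := hAX ▸ Subgroup.commutator_mem_commutator (A.inv_mem hu) hx
      have := A.mul_mem (A.inv_mem (A.mul_mem hu h)) (A.one_mem)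
      simpa [commutatorElement_def, mul_assoc] using this
    refine ⟨hAX ▸ Subgroup.commutator_mem_commutator hu hx, ?_⟩
    set t := ⁅u⁻¹, b⁆ with ht
    have htL : t ∈ L (n + 1) := hAB (Subgroup.commutator_mem_commutator (A.inv_mem hu) hb)
    have e : ⁅⁅u, x⁆, b⁆ = u * ((x * t * x⁻¹) * t⁻¹) * u⁻¹ := by
      have hb' : x * b = b * x := Subgroup.mem_centralizer_iff.1 (hBX hb) x hx
      have hb'' : x⁻¹ * b = b * x⁻¹ := by
        calc x⁻¹ * b = x⁻¹ * (b * x) * x⁻¹ := by group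
          _ = x⁻¹ * (x * b) * x⁻¹ := by rw [hb']
          _ = _ := by group
      have hb3 : x * b⁻¹ * x⁻¹ = b⁻¹ := by
        calc x * b⁻¹ * x⁻¹ = (x * b * x⁻¹)⁻¹ := by group
          _ = _ := by rw [hb']; group
      have hb4 : x * b * x⁻¹ = b := by rw [hb']; group
      rw [ht]
      simp only [commutatorElement_def]
      calc _ = u * (x * u⁻¹ * x⁻¹ * b * (x * u * x⁻¹) * u⁻¹ * b⁻¹) := by group
        _ = u * (x * u⁻¹ * x⁻¹ * (x * b * x⁻¹) * (x * u * x⁻¹) * (x * b⁻¹ * x⁻¹)) *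
              (b * u⁻¹ * b⁻¹) := by rw [hb4, hb3]; group
        _ = _ := by group
    rw [e]
    refine hMn u (hA hu) _ ?_
    rw [← hMM] at htL
    have hMM' : M' ≤ L (n + 1) := le_sup_right.trans hMM.le
    haveI : (M.subgroupOf (L (n + 1))).Normal := by
      refine Subgroup.normal_subgroupOf_of_le_normalizer fun w hw => ?_
      rw [Subgroup.mem_normalizer_iff]
      refine fun m => ⟨hMn w (hLle _ hw) m, fun h => ?_⟩
      have := hMn _ (P'.inv_mem (hLle _ hw)) _ h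
      simpa [mul_assoc] using this
    obtain ⟨m, hm, m', hm', hmm⟩ : ∃ m ∈ M, ∃ m' ∈ M', m * m' = t := by
      have hM'n : M' ≤ Subgroup.normalizer (M : Set S) := fun w hw => by
        rw [Subgroup.mem_normalizer_iff]
        refine fun m => ⟨hMn w (hLle _ (hMM' hw)) m, fun h => ?_⟩
        have := hMn _ (P'.inv_mem (hLle _ (hMM' hw))) _ h
        simpa [mul_assoc] using this
      have h : t ∈ (M : Set S) * (M' : Set S) := by
        rw [← Subgroup.coe_mul_of_right_le_normalizer_left _ _ hM'n]; exact htL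
      obtain ⟨m, hm, m', hm', h⟩ := h
      exact ⟨m, hm, m', hm', h⟩
    have hfix : x * m' * x⁻¹ = m' := by
      rw [Subgroup.mem_centralizer_iff.1 (hM' hm') x hx]; group
    rw [← hmm]
    have : x * (m * m') * x⁻¹ * (m * m')⁻¹ = (x * m * x⁻¹) * (x * m' * x⁻¹ * m'⁻¹) * m⁻¹ := by group
    rw [this, hfix]
    simpa using M.mul_mem ((Subgroup.mem_normalizer_iff.1 (hXM hx) m).1 hm) (M.inv_mem hm)
  have hA₁ : ⁅C₁, X₂⁆ = C₁ := by
    have hN : X₂ ≤ Subgroup.normalizer (C₁ : Set S) :=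
      (le_inf (h₂.trans hQP) (h₂.trans (hQCi X₁ h₁))).trans Subgroup.inf_normalizer_le_normalizer_inf
    have h := CfsgLib.Coprime.commutator_sup_centralizer hN (hcopR C₁ inf_le_left X₂ h₂)
      (Or.inr (by haveI := (P.2.to_le inf_le_left : IsPGroup p C₁).isNilpotent; infer_instance))
    have h0 : C₁ ⊓ Subgroup.centralizer (X₂ : Set S) = ⊥ :=
      eq_bot_iff.2 (hinf ▸ le_inf inf_le_left (le_inf (inf_le_left.trans inf_le_left) inf_le_right))
    rwa [h0, sup_bot_eq] at h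
  have hA₂ : ⁅C₂, X₁⁆ = C₂ := by
    have hN : X₁ ≤ Subgroup.normalizer (C₂ : Set S) :=
      (le_inf (h₁.trans hQP) (h₁.trans (hQCi X₂ h₂))).trans Subgroup.inf_normalizer_le_normalizer_inf
    have h := CfsgLib.Coprime.commutator_sup_centralizer hN (hcopR C₂ inf_le_left X₁ h₁)
      (Or.inr (by haveI := (P.2.to_le inf_le_left : IsPGroup p C₂).isNilpotent; infer_instance))
    have h0 : C₂ ⊓ Subgroup.centralizer (X₁ : Set S) = ⊥ :=
      eq_bot_iff.2 (hinf ▸ le_inf (le_inf (inf_le_left.trans inf_le_left) inf_le_right) inf_le_left)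
    rwa [h0, sup_bot_eq] at h
  have key : ∀ j n, n + j = N → ⁅C₁, C₂⁆ ≤ L n := by
    intro j
    induction j with
    | zero =>
      intro n hn
      rw [Nat.add_zero] at hn
      subst hn
      refine le_trans (Subgroup.commutator_mono inf_le_left inf_le_left) ?_
      simp only [L, hN, ← MonoidHom.range_eq_map, Subgroup.range_subtype]
      exact Subgroup.le_normalizer_iff_commutator_le_left.1 Subgroup.le_normalizer
    | succ j ih =>
      intro n hn
      have h1 := ih (n + 1) (by omega)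
      have hQL : ∀ m, Q ≤ Subgroup.normalizer (L m : Set S) := fun m => by
        haveI := hLn m
        rw [Subgroup.normalizer_eq_top]; exact le_top
      have hg := hgen (L (n + 1)) (hLle _) (hQL _)
      set M₁ := L n ⊔ (L (n + 1) ⊓ C₁) with hM₁
      set M₂ := L n ⊔ (L (n + 1) ⊓ C₂) with hM₂
      have hML : ∀ C : Subgroup S, L n ⊔ (L (n + 1) ⊓ C) ≤ L (n + 1) :=
        fun C => sup_le (hLmono n) inf_le_left
      have hXM : ∀ X Y : Subgroup S, X ≤ Q → Y ≤ Q →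
          X ≤ Subgroup.normalizer ((L n ⊔ (L (n + 1) ⊓ (P' ⊓ Subgroup.centralizer (Y : Set S))) : Subgroup S) : Set S) := by
        intro X Y hX hY
        exact (le_inf (hX.trans (hQL n)) ((le_inf (hX.trans (hQL _))
          ((le_inf (hX.trans hQP) (hX.trans (hQCi Y hY))).trans
            Subgroup.inf_normalizer_le_normalizer_inf)).trans
            Subgroup.inf_normalizer_le_normalizer_inf)).trans
          (Subgroup.normalizer_inf_normalizer_le_normalizer_sup _ _)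
      have s1 : ⁅C₁, C₂⁆ ≤ M₁ := side n C₁ C₂ inf_le_left inf_le_left X₂ h₂ hA₁ inf_le_right h1 hg
        M₁ (L (n + 1) ⊓ C₂) (le_antisymm (sup_le (hML _) inf_le_left)
          (hg.trans (sup_le_sup le_sup_right le_rfl))) le_sup_left (inf_le_right.trans inf_le_right)
        (hXM X₂ X₁ h₂ h₁)
      have s2 : ⁅C₁, C₂⁆ ≤ M₂ := by
        rw [Subgroup.commutator_comm]
        exact side n C₂ C₁ inf_le_left inf_le_left X₁ h₁ hA₂ inf_le_right
          (Subgroup.commutator_comm C₁ C₂ ▸ h1) hg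
          M₂ (L (n + 1) ⊓ C₁) (le_antisymm (sup_le (hML _) inf_le_left)
            (hg.trans (sup_le le_sup_right (le_sup_of_le_left le_sup_right)))) le_sup_left
          (inf_le_right.trans inf_le_right) (hXM X₁ X₂ h₁ h₂)
      refine (le_inf s1 s2).trans fun z hz => ?_
      obtain ⟨hz1, hz2⟩ := Subgroup.mem_inf.1 hz
      haveI := hLn n
      obtain ⟨u1, hu1, v1, hv1, e1⟩ := Subgroup.mem_sup_of_normal_left.1 hz1
      obtain ⟨u2, hu2, v2, hv2, e2⟩ := Subgroup.mem_sup_of_normal_left.1 hz2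
      have hzP : z ∈ P' := hLle _ (hML _ hz1)
      have hcoset : ∀ a ∈ Q, z⁻¹ * a * z * a⁻¹ ∈ L n := by
        intro a ha
        let D : Subgroup S := (Subgroup.closure {a | a ∈ Q ∧ z⁻¹ * a * z * a⁻¹ ∈ L n})
        have hD : ∀ a ∈ D, z⁻¹ * a * z * a⁻¹ ∈ L n := by
          intro a ha
          induction ha using Subgroup.closure_induction with
          | mem x hx => exact hx.2
          | one => simp [(L n).one_mem]
          | mul x y _ _ hx hy =>
            have e : z⁻¹ * (x * y) * z * (x * y)⁻¹ =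
                (z⁻¹ * x * z * x⁻¹) * (x * (z⁻¹ * y * z * y⁻¹) * x⁻¹) := by group
            rw [e]; exact (L n).mul_mem hx ((hLn n).conj_mem _ hy x)
          | inv x _ hx =>
            have e : z⁻¹ * x⁻¹ * z * x⁻¹⁻¹ = x⁻¹ * (z⁻¹ * x * z * x⁻¹)⁻¹ * x⁻¹⁻¹ := by group
            rw [e]; exact (hLn n).conj_mem _ ((L n).inv_mem hx) _
        have hfix : ∀ (u v : S) (X : Subgroup S), u ∈ L n → v ∈ Subgroup.centralizer (X : Set S) →
            ∀ x ∈ X, (u * v)⁻¹ * x * (u * v) * x⁻¹ ∈ L n := by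
          intro u v X hu hv x hx
          have e : (u * v)⁻¹ * x * (u * v) * x⁻¹ = v⁻¹ * (u⁻¹ * (x * u * x⁻¹)) * v⁻¹⁻¹ := by
            calc (u * v)⁻¹ * x * (u * v) * x⁻¹ = v⁻¹ * u⁻¹ * x * u * x⁻¹ * (x * v) * x⁻¹ := by group
              _ = v⁻¹ * u⁻¹ * x * u * x⁻¹ * (v * x) * x⁻¹ := by
                  rw [Subgroup.mem_centralizer_iff.1 hv x hx]
              _ = _ := by group
          rw [e]
          exact (hLn n).conj_mem _ ((L n).mul_mem ((L n).inv_mem hu) ((hLn n).conj_mem _ hu x)) _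
        have hX₁D : X₁ ≤ D := fun x hx => Subgroup.subset_closure
          ⟨h₁ hx, e1 ▸ hfix u1 v1 X₁ hu1 hv1.2.2 x hx⟩
        have hX₂D : X₂ ≤ D := fun x hx => Subgroup.subset_closure
          ⟨h₂ hx, e2 ▸ hfix u2 v2 X₂ hu2 hv2.2.2 x hx⟩
        refine hD a ?_
        have hsup : X₁ ⊔ X₂ = Q := by
          refine Subgroup.eq_of_le_of_card_ge (sup_le h₁ h₂) ?_
          have hd : Nat.card ↥(X₁ ⊔ X₂) ∣ q ^ 2 := hQc ▸ Subgroup.card_dvd_of_le (sup_le h₁ h₂)
          obtain ⟨i, hi, hi'⟩ := (Nat.dvd_prime_pow Fact.out).1 hd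
          rw [hQc, hi']
          refine Nat.pow_le_pow_right (Fact.out : q.Prime).pos ?_
          by_contra hlt
          have hle : Nat.card ↥(X₁ ⊔ X₂) ≤ q := by
            rw [hi']
            calc q ^ i ≤ q ^ 1 := Nat.pow_le_pow_right (Fact.out : q.Prime).pos (by omega)
              _ = q := pow_one q
          have e1 := Subgroup.eq_of_le_of_card_ge (le_sup_left : X₁ ≤ X₁ ⊔ X₂) (hc₁ ▸ hle)
          have e2 := Subgroup.eq_of_le_of_card_ge (le_sup_right : X₂ ≤ X₁ ⊔ X₂) (hc₂ ▸ hle)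
          exact h₁₂ (e1.trans e2.symm)
        exact sup_le hX₁D hX₂D (hsup.symm ▸ ha)
      obtain ⟨w, hw, hwc⟩ := CfsgLib.Coprime.exists_mem_centralizer_of_coset hQP (hQL n) (hLle n)
        (hcopR P' le_rfl Q le_rfl) (Or.inr (by haveI := (P.2.to_le (hLle n) : IsPGroup p ↥(L n)).isNilpotent; infer_instance)) hzP hcoset
      have : z * w ∈ C₁ ⊓ C₂ := ⟨⟨P'.mul_mem hzP (hLle n hw), Subgroup.centralizer_le h₁ hwc⟩,
        P'.mul_mem hzP (hLle n hw), Subgroup.centralizer_le h₂ hwc⟩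
      rw [hinf, Subgroup.mem_bot, mul_eq_one_iff_eq_inv] at this
      rw [this]; exact (L n).inv_mem hw
  have := key N 0 (zero_add N)
  simpa [L, Subgroup.upperCentralSeries_zero] using this

end Cfsg.Agent.S1900
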