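import Cfsg.Statements.S1901


set_option autoImplicit false
open Cfsg
open scoped commutatorElement

namespace Cfsg.Agent.S1901

/-- Let G be a finite p-solvable group and Q a subgroup of order prime to p such that p divides the index of C_G(Q) in N_G(Q). Then Q normalizes no Sylow p-subgroup of G. -/
theorem result {G : Type*} [Group G] [Finite G] {p : ℕ} [Fact p.Prime]
    (hG : Cfsg.IsPSolvable p G) (Q : Subgroup G) (hQ : ¬ p ∣ Nat.card Q)
    (hA : p ∣ (Subgroup.centralizer (Q : Set G)).relIndex (Subgroup.normalizer (Q : Set G)))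
    (P : Sylow p G) : ¬ Q ≤ Subgroup.normalizer ((P : Subgroup G) : Set G) := by
  intro hQP
  obtain ⟨n, H, h0, hl, hmono, hn, hfac⟩ := hG
  have hQcop : (Nat.card Q).Coprime p :=
    ((Fact.out : p.Prime).coprime_iff_not_dvd.2 hQ).symm
  have key : ∀ r ∈ Subgroup.normalizer (Q : Set G), (∃ e, r ^ (p ^ e) = 1) →
      r ∈ Subgroup.centralizer (Q : Set G) := by
    rintro r hr ⟨e, he⟩
    have main : ∀ i : Fin (n + 1), ∀ q ∈ Q, q⁻¹ * (r * q * r⁻¹) ∈ H i := by
      intro i
      induction i using Fin.reverseInduction with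
      | last => intro q _; rw [hl]; trivial
      | cast i ih =>
        haveI := hn i.castSucc
        have hle : H i.castSucc ≤ H i.succ := hmono Fin.castSucc_lt_succ.le
        set π := QuotientGroup.mk' (H i.castSucc) with hπ
        have hker : ∀ y, π y = 1 ↔ y ∈ H i.castSucc := fun y => QuotientGroup.eq_one_iff y
        have hcardim : Nat.card ((H i.succ).map π) = (H i.castSucc).relIndex (H i.succ) := by
          rw [← Subgroup.relIndex_bot_left, ← Subgroup.relIndex_comap (f := π),
            MonoidHom.comap_bot, hπ, QuotientGroup.ker_mk']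
        have horder : ∀ y ∈ H i.succ, orderOf (π y) ∣ (H i.castSucc).relIndex (H i.succ) := fun y hy =>
          hcardim ▸ Subgroup.orderOf_dvd_natCard _ (Subgroup.mem_map_of_mem π hy)
        have hQord : ∀ c ∈ Q, (orderOf (π c)).Coprime p := fun c hc =>
          hQcop.coprime_dvd_left ((orderOf_map_dvd π c).trans (Q.orderOf_dvd_natCard hc))
        have hmemQ : ∀ q ∈ Q, q⁻¹ * (r * q * r⁻¹) ∈ Q ⊓ H i.succ := fun q hq =>
          ⟨Q.mul_mem (Q.inv_mem hq) ((Subgroup.mem_normalizer_iff.1 hr q).1 hq), ih q hq⟩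
        intro q hq
        rw [← hker, ← orderOf_eq_one_iff]
        rcases hfac i with ⟨m, hm⟩ | hcop
        · refine Nat.eq_one_of_dvd_coprimes (a := orderOf (π (q⁻¹ * (r * q * r⁻¹))))
            (b := p ^ m) ((hQord _ (hmemQ q hq).1).pow_right m) dvd_rfl ?_
          rw [← hm]; exact horder _ (hmemQ q hq).2
        set R₀ := (Q ⊓ H i.succ).map π with hR₀
        let P' := P.mapSurjective (QuotientGroup.mk'_surjective (H i.castSucc))
        have hPC : (P' : Subgroup (G ⧸ H i.castSucc)) ≤ Subgroup.centralizer (R₀ : Set (G ⧸ H i.castSucc)) := by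
          rintro _ ⟨x, hx, rfl⟩
          refine Subgroup.mem_centralizer_iff.2 ?_
          rintro _ ⟨c, hc, rfl⟩
          have h1 : c * x * c⁻¹ * x⁻¹ ∈ (P : Subgroup G) ⊓ H i.succ :=
            ⟨(P : Subgroup G).mul_mem ((Subgroup.mem_normalizer_iff.1 (hQP hc.1) x).1 hx) (inv_mem hx), by
              have e : c * x * c⁻¹ * x⁻¹ = c * (x * c⁻¹ * x⁻¹) := by group
              rw [e]; exact (H i.succ).mul_mem hc.2 ((hn _).conj_mem _ (inv_mem hc.2) x)⟩
          obtain ⟨k, hk⟩ := P.2 ⟨_, h1.1⟩
          have hk' : (c * x * c⁻¹ * x⁻¹) ^ (p ^ k) = 1 := congrArg Subtype.val hk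
          have h2 : π (c * x * c⁻¹ * x⁻¹) = 1 := orderOf_eq_one_iff.1
            (Nat.eq_one_of_dvd_coprimes (hcop.pow_right k) (horder _ h1.2)
              ((orderOf_map_dvd π _).trans (orderOf_dvd_of_pow_eq_one hk')))
          have e : π c * π x * (π c)⁻¹ * (π x)⁻¹ = 1 := by simpa using h2
          exact commutatorElement_eq_one_iff_mul_comm.1 e
        have hrN : π r ∈ Subgroup.normalizer (R₀ : Set (G ⧸ H i.castSucc)) := by
          refine Subgroup.le_normalizer_map π ⟨r, ?_, rfl⟩
          refine Subgroup.inf_normalizer_le_normalizer_inf ⟨hr, ?_⟩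
          haveI := hn i.succ
          rw [Subgroup.normalizer_eq_top]; trivial
        set C₀ := (Subgroup.centralizer (R₀ : Set (G ⧸ H i.castSucc))).subgroupOf
          (Subgroup.normalizer (R₀ : Set (G ⧸ H i.castSucc))) with hC₀
        haveI : C₀.Normal := by
          refine ⟨fun c hc w => Subgroup.mem_subgroupOf.2 (Subgroup.mem_centralizer_iff.2 fun t ht => ?_)⟩
          have h1 := Subgroup.mem_centralizer_iff.1 (Subgroup.mem_subgroupOf.1 hc) _
            ((Subgroup.mem_normalizer_iff''.1 w.2 t).1 ht)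
          simp only [Subgroup.coe_mul, InvMemClass.coe_inv]
          calc t * ((w : G ⧸ H i.castSucc) * c * (w : G ⧸ H i.castSucc)⁻¹) =
                w * ((w : G ⧸ H i.castSucc)⁻¹ * t * w * c) * (w : G ⧸ H i.castSucc)⁻¹ := by group
            _ = w * ((c : G ⧸ H i.castSucc) * ((w : G ⧸ H i.castSucc)⁻¹ * t * w)) *
                (w : G ⧸ H i.castSucc)⁻¹ := by rw [h1]
            _ = _ := by group
        have hidx : ¬ p ∣ C₀.index := fun hd => P'.not_dvd_index
          ((dvd_trans (hd.trans (Dvd.intro _
            (Subgroup.relIndex_mul_index (Subgroup.centralizer_le_normalizer _))))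
            (Subgroup.index_dvd_of_le hPC)))
        have hrC : π r ∈ Subgroup.centralizer (R₀ : Set (G ⧸ H i.castSucc)) := by
          have h1 : orderOf (QuotientGroup.mk' C₀ ⟨π r, hrN⟩) ∣ p ^ e :=
            (orderOf_map_dvd _ _).trans (orderOf_dvd_of_pow_eq_one (Subtype.ext (by
              simp only [SubmonoidClass.coe_pow, OneMemClass.coe_one]
              rw [← map_pow, he, map_one])))
          have h2 : orderOf (QuotientGroup.mk' C₀ ⟨π r, hrN⟩) ∣ C₀.index := by
            rw [Subgroup.index_eq_card]; exact orderOf_dvd_natCard _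
          have h3 := Nat.eq_one_of_dvd_coprimes
            (((Fact.out : p.Prime).coprime_iff_not_dvd.2 hidx).pow_left e) h1 h2
          rw [orderOf_eq_one_iff, QuotientGroup.mk'_apply, QuotientGroup.eq_one_iff] at h3
          exact h3
        set c := q⁻¹ * (r * q * r⁻¹) with hc
        have hcomm : Commute (π c) (π r) :=
          Subgroup.mem_centralizer_iff.1 hrC _ (Subgroup.mem_map_of_mem π (hmemQ q hq))
        have hj : ∀ j : ℕ, π (r ^ j * q * (r ^ j)⁻¹) = π q * π c ^ j := by
          intro j
          induction j with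
          | zero => simp
          | succ j ihj =>
            calc π (r ^ (j + 1) * q * (r ^ (j + 1))⁻¹)
                = π r * π (r ^ j * q * (r ^ j)⁻¹) * (π r)⁻¹ := by
                  rw [pow_succ']; simp only [mul_inv_rev, map_mul, map_inv, mul_assoc]
              _ = π r * π q * (π r)⁻¹ * (π r * π c ^ j * (π r)⁻¹) := by rw [ihj]; group
              _ = π q * π c * π c ^ j := by
                  rw [(hcomm.pow_left j).symm.eq, mul_inv_cancel_right, hc]
                  simp [mul_assoc]
              _ = _ := by rw [mul_assoc, ← pow_succ']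
        have hlast := hj (p ^ e)
        rw [he, inv_one, one_mul, mul_one, left_eq_mul] at hlast
        exact Nat.eq_one_of_dvd_coprimes ((hQord _ (hmemQ q hq).1).pow_right e) dvd_rfl
          (orderOf_dvd_of_pow_eq_one hlast)
    refine Subgroup.mem_centralizer_iff.2 fun q hq => ?_
    have h := main 0 q hq
    rw [h0, Subgroup.mem_bot, inv_mul_eq_one] at h
    calc q * r = r * q * r⁻¹ * r := by rw [← h]
      _ = r * q := by group
  obtain ⟨R⟩ : Nonempty (Sylow p (Subgroup.normalizer (Q : Set G))) := inferInstance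
  have hR : (R : Subgroup (Subgroup.normalizer (Q : Set G))) ≤
      (Subgroup.centralizer (Q : Set G)).subgroupOf (Subgroup.normalizer (Q : Set G)) := fun x hx => by
    obtain ⟨k, hk⟩ := R.2 ⟨x, hx⟩
    exact Subgroup.mem_subgroupOf.2 (key _ x.2 ⟨k, congrArg Subtype.val (congrArg Subtype.val hk)⟩)
  exact R.not_dvd_index (hA.trans (Subgroup.index_dvd_of_le hR))

end Cfsg.Agent.S1901
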