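import Cfsg.Statements.S1902
import Cfsg.Agent.Lib.ClassK.BaerTrick
import Cfsg.Agent.Lib.Block.PSolvable
import Cfsg.Agent.Lib.StructC.PSolvableQuot
import Cfsg.Agent.Lib.Comp.Local
import Cfsg.Agent.Lib.PLocal.SylowIn
-- import your own Cfsg.Agent.* helpers here

set_option autoImplicit false
open Cfsg

namespace Cfsg.Agent.S1902

open Subgroup
open scoped commutatorElement

/-- The fixed elements of order `p` suffice. -/
theorem centralizes_of_omega_fixed {X : Type*} [Group X] [Finite X] {p : ℕ} [Fact p.Prime] (hp2 : p ≠ 2)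
    {R A Q : Subgroup X} (hR : IsPGroup p R) (hA : IsPGroup p A) (hQ : (Nat.card Q).Coprime p)
    (hAR : A ≤ normalizer (R : Set X)) (hQR : Q ≤ normalizer (R : Set X))
    (hAQ : A ≤ normalizer (Q : Set X))
    (hfix : ∀ x ∈ R ⊓ centralizer (A : Set X), x ^ p = 1 → ∀ q ∈ Q, q * x = x * q) :
    Q ≤ centralizer (R : Set X) := by
  induction R using WellFoundedLT.induction with
  | ind R ih =>
    by_cases hR1 : R = ⊥
    · rw [hR1]; exact le_centralizer_iff.1 bot_le
    have hsub : ∀ D : Subgroup X, D < R → A ≤ normalizer (D : Set X) →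
        Q ≤ normalizer (D : Set X) → Q ≤ centralizer (D : Set X) := fun D hD h1 h2 =>
      ih D hD (hR.to_le hD.le) h1 h2 (fun x hx hxp => hfix x ⟨hD.le hx.1, hx.2⟩ hxp)
    haveI : Group.IsNilpotent R := hR.isNilpotent
    rcases eq_or_lt_of_le (CfsgLib.Comp.commutator_le_of_le_normalizer hQR : ⁅R, Q⁆ ≤ R) with
      hRQ | hlt
    swap
    · have hAn : A ≤ normalizer ((⁅R, Q⁆ : Subgroup X) : Set X) := fun a ha => by
        rw [← CfsgLib.Comp.map_conj_eq_iff, Subgroup.map_commutator,
          CfsgLib.Comp.map_conj_eq_iff.2 (hAR ha), CfsgLib.Comp.map_conj_eq_iff.2 (hAQ ha)]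
      have h1 := hsub _ hlt hAn (normalizer_commutator_ge_right R Q)
      rw [le_centralizer_iff, ← commutator_eq_bot_iff_le_centralizer] at h1
      have h2 := CfsgLib.Coprime.commutator_eq_bot_of_commutator_commutator hQR
        (CfsgLib.Comp.coprime_card_of_isPGroup hR hQ).symm (Or.inr inferInstance) h1
      rw [commutator_comm, commutator_eq_bot_iff_le_centralizer] at h2
      exact h2
    -- `R = ⁅R, Q⁆` has class two and exponent `p`
    haveI : Nontrivial R := (nontrivial_iff_ne_bot R).2 hR1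
    set F := (frattini R).map R.subtype with hF
    have hFR : F < R := by
      refine lt_of_le_of_ne (map_subtype_le _) fun h => ?_
      have h' : frattini R = ⊤ := by
        refine map_injective R.subtype_injective ?_
        rw [← hF, h, ← MonoidHom.range_eq_map, range_subtype]
      obtain ⟨M, hM, -⟩ := (eq_top_or_exists_le_coatom (⊥ : Subgroup R)).resolve_left bot_ne_top
      exact hM.1 (top_le_iff.1 (h' ▸ frattini_le_coatom hM))
    have hFn := CfsgLib.ClassK.normalizer_le_normalizer_map R (frattini R)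
    have hQF := hsub F hFR (hAR.trans hFn) (hQR.trans hFn)
    have hFc : F ≤ centralizer (R : Set X) := by
      have hRF : R ≤ normalizer (F : Set X) := le_normalizer.trans hFn
      have h1 : ⁅⁅Q, F⁆, R⁆ = ⊥ := by
        rw [commutator_eq_bot_iff_le_centralizer.2 hQF, commutator_bot_left]
      have h2 : ⁅⁅F, R⁆, Q⁆ = ⊥ := by
        rw [commutator_eq_bot_iff_le_centralizer]
        exact (CfsgLib.Comp.commutator_le_of_le_normalizer hRF).trans (le_centralizer_iff.1 hQF)
      have h3 := commutator_commutator_eq_bot_of_rotate h1 h2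
      rw [hRQ, commutator_eq_bot_iff_le_centralizer] at h3
      exact le_centralizer_iff.1 h3
    have hfr : ∀ f ∈ frattini R, f ∈ center R := fun f hf => mem_center_iff.2 fun v =>
      Subtype.ext (mem_centralizer_iff.1 (hFc (mem_map_of_mem _ hf)) v v.2)
    have hc : ∀ x y : R, ⁅x, y⁆ ∈ center R := fun x y =>
      hfr _ (CfsgLib.Transfer.commutatorElement_mem_frattini hR x y)
    have hcp : ∀ x y : R, ⁅x, y⁆ ^ p = 1 := fun x y => by
      rw [← CfsgLib.Transfer.commutatorElement_pow_left hc]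
      exact commutatorElement_eq_one_iff_mul_comm.2
        (mem_center_iff.1 (hfr _ (CfsgLib.Transfer.pow_mem_frattini hR x)) y).symm
    let ψ : R →* R :=
      { toFun := fun x => x ^ p
        map_one' := one_pow p
        map_mul' := fun x y =>
          CfsgLib.Transfer.mul_pow_prime_class_two hc Fact.out hp2 x y (hcp y x) }
    have hker : R ≤ ψ.ker.map R.subtype := by
      conv_lhs => rw [← hRQ]
      refine commutator_le.2 fun x hx q hq => ?_
      have hm : ⁅x, q⁆ ∈ R := hRQ.le (commutator_mem_commutator hx hq)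
      refine ⟨⟨_, hm⟩, MonoidHom.mem_ker.2 ?_, rfl⟩
      have hy : q * x⁻¹ * q⁻¹ ∈ R := (mem_normalizer_iff.1 (hQR hq) _).1 (inv_mem hx)
      have e : (⟨_, hm⟩ : R) = ⟨x, hx⟩ * ⟨q * x⁻¹ * q⁻¹, hy⟩ := Subtype.ext (by
        show ⁅x, q⁆ = x * (q * x⁻¹ * q⁻¹)
        rw [commutatorElement_def]; group)
      rw [e, map_mul]
      show (⟨x, hx⟩ : R) ^ p * ⟨q * x⁻¹ * q⁻¹, hy⟩ ^ p = 1
      apply Subtype.ext
      show x ^ p * (q * x⁻¹ * q⁻¹) ^ p = 1
      have hxp : x⁻¹ ^ p ∈ F := by
        refine ⟨(⟨x, hx⟩⁻¹ : R) ^ p, CfsgLib.Transfer.pow_mem_frattini hR _, rfl⟩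
      have hcomm : q * x⁻¹ ^ p = x⁻¹ ^ p * q :=
        (mem_centralizer_iff.1 (hQF hq) _ hxp).symm
      rw [conj_pow, hcomm, mul_inv_cancel_right, inv_pow, mul_inv_cancel]
    have hexp : ∀ x : R, x ^ p = 1 := fun x => by
      obtain ⟨y, hy, hyx⟩ := hker x.2
      rw [show x = y from Subtype.ext hyx.symm]
      exact hy
    exact CfsgLib.ClassK.le_centralizer_of_centralizes_fixed_odd hp2 hR hA hQ hAR hQR hAQ fun q hq =>
      mem_centralizer_iff.2 fun x hx => (hfix x hx (congrArg Subtype.val (hexp ⟨x, hx.1⟩)) q hq).symm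


/-- Let p be an odd prime, G a finite p-solvable group, and B an elementary abelian subgroup of order p² such that B is the subgroup generated by the elements of order p of some Sylow p-subgroup of C_G(b₀), for some nontrivial b₀ ∈ B. Then every B-invariant subgroup of G of order prime to p lies in O_{p'}(G). -/
theorem result {G : Type*} [Group G] [Finite G] {p : ℕ} [Fact p.Prime] (hp : p ≠ 2)
    (hG : Cfsg.IsPSolvable p G) (B : Subgroup G) (hB : Cfsg.IsElementaryAbelian p B) (hBc : Nat.card B = p ^ 2)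
    (b₀ : G) (hb₀ : b₀ ∈ B) (hb₁ : b₀ ≠ 1) (P : Sylow p ↥(Subgroup.centralizer ({b₀} : Set G)))
    (hBP : B = Subgroup.closure {x : G | x ∈ ((P : Subgroup ↥(Subgroup.centralizer ({b₀} : Set G))).map
      (Subgroup.centralizer ({b₀} : Set G)).subtype : Subgroup G) ∧ orderOf x = p})
    (Q : Subgroup G) (hQ : ¬ p ∣ Nat.card Q) (hinv : ∀ b ∈ B, ∀ x ∈ Q, b * x * b⁻¹ ∈ Q) :
    Q ≤ Cfsg.pPrimeCore p G := by
  open Subgroup in
  set O := Cfsg.pPrimeCore p G with hO
  haveI hOn : O.Normal := CfsgLib.Solvable.pPrimeCore_normal p G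
  set π := QuotientGroup.mk' O with hπ
  have hp' : p.Prime := Fact.out
  obtain ⟨n, H, h0, hl, hmono, hnorm, hfac⟩ := id hG
  set R := Cfsg.pCore p (G ⧸ O) with hR
  have hRn : R.Normal := CfsgLib.Solvable.pCore_normal p _
  have hRp : IsPGroup p R := CfsgLib.Solvable.pCore_isPGroup p
  have hCR : centralizer (R : Set (G ⧸ O)) ≤ R :=
    CfsgLib.Block.centralizer_pCore_le_of_isPSolvable
      (CfsgLib.StructC.isPSolvable_quotient O hG) (CfsgLib.Solvable.pPrimeCore_quotient_eq_bot p)
  have hBp : IsPGroup p B := IsPGroup.of_card hBc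
  have hQc : (Nat.card Q).Coprime p := (hp'.coprime_iff_not_dvd.2 hQ).symm
  have hQc' : (Nat.card (Q.map π)).Coprime p := hQc.coprime_dvd_left (Subgroup.card_map_dvd _ _)
  have htop : ∀ K : Subgroup (G ⧸ O), K ≤ normalizer (R : Set (G ⧸ O)) := fun K => by
    rw [normalizer_eq_top_iff.2 hRn]; exact le_top
  have hBQ : B.map π ≤ normalizer ((Q.map π : Subgroup (G ⧸ O)) : Set (G ⧸ O)) := by
    rintro _ ⟨b, hb, rfl⟩
    refine mem_normalizer_iff.2 fun y => ⟨?_, ?_⟩
    · rintro ⟨x, hx, rfl⟩; exact ⟨_, hinv b hb x hx, by simp⟩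
    · rintro ⟨x, hx, hxe⟩
      exact ⟨_, hinv b⁻¹ (inv_mem hb) x hx, by simp [hxe, mul_assoc]⟩
  have hQR : Q.map π ≤ centralizer (R : Set (G ⧸ O)) := by
    refine centralizes_of_omega_fixed hp hRp (hBp.map π) hQc' (htop _) (htop _) hBQ
      fun x hx hxp q hq => ?_
    -- a fixed element of order `p` of the core lies in the image of `B`
    have hxB : x ∈ B.map π := by
      obtain ⟨y, rfl⟩ := QuotientGroup.mk'_surjective O x
      set L := (zpowers (π y) ⊔ B.map π).comap π with hL
      have hBL : B ≤ L := fun b hb => mem_comap.2 (mem_sup_right (mem_map_of_mem π hb))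
      obtain ⟨T, hT, hBT⟩ := CfsgLib.PLocal.exists_sylowIn_le hBp hBL
      obtain ⟨a, ha, hab⟩ : ∃ K : Subgroup (G ⧸ O), IsMulCommutative K ∧
          zpowers (π y) ⊔ B.map π ≤ K ∧ ∀ k ∈ K, k ^ p = 1 := by
        have hBab : IsMulCommutative B := hB.1
        have hgen : zpowers (π y) ⊔ B.map π ≤ Subgroup.centralizer
            ((zpowers (π y) ⊔ B.map π : Subgroup (G ⧸ O)) : Set (G ⧸ O)) := by
          have h1 : zpowers (π y) ⊔ B.map π ≤ centralizer ((B.map π : Subgroup (G ⧸ O)) : Set (G ⧸ O)) := by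
            refine sup_le (zpowers_le.2 hx.2) ?_
            rintro _ ⟨b, hb, rfl⟩
            refine mem_centralizer_iff.2 ?_
            rintro _ ⟨c, hc, rfl⟩
            rw [← map_mul, ← map_mul]
            exact congrArg π (congrArg Subtype.val (hBab.is_comm.comm ⟨c, hc⟩ ⟨b, hb⟩))
          have h2 : zpowers (π y) ⊔ B.map π ≤ centralizer ((zpowers (π y) : Subgroup (G ⧸ O)) : Set (G ⧸ O)) := by
            refine sup_le ?_ (le_centralizer_iff.1 (zpowers_le.2 hx.2))
            exact zpowers_le.2 (mem_centralizer_iff.2 fun w hw => by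
              obtain ⟨k, rfl⟩ := hw; exact ((Commute.refl (π y)).zpow_left k).eq)
          exact le_centralizer_iff.1 (sup_le (le_centralizer_iff.1 h2) (le_centralizer_iff.1 h1))
        refine ⟨_, ⟨⟨fun u v => Subtype.ext (mem_centralizer_iff.1 (hgen v.2) _ u.2)⟩⟩, le_rfl, fun k hk => ?_⟩
        rw [sup_eq_closure] at hgen hk
        induction hk using Subgroup.closure_induction with
        | mem w hw =>
          rcases hw with hw | hw
          swap
          · obtain ⟨b, hb, rfl⟩ := hw
            rw [← map_pow, show b ^ p = 1 from hB.2 b hb, map_one]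
          obtain ⟨k, rfl⟩ := hw
          show (π y ^ k) ^ p = 1
          rw [← zpow_natCast, ← zpow_mul, mul_comm, zpow_mul, zpow_natCast, hxp, one_zpow]
        | one => simp
        | inv w _ h => rw [inv_pow, h, inv_one]
        | mul w w' hw hw' h h' =>
          rw [Commute.mul_pow (show Commute w w' from mem_centralizer_iff.1 (hgen hw') w hw), h, h', one_mul]
      have hinj : ∀ t ∈ T, π t = 1 → t = 1 := by
        intro t ht h
        have hto : t ∈ O := (QuotientGroup.eq_one_iff t).1 h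
        obtain ⟨j, hj⟩ := hT.2.1 ⟨t, ht⟩
        exact orderOf_eq_one_iff.1 (Nat.eq_one_of_dvd_coprimes
          ((CfsgLib.Solvable.pPrimeCore_coprime (G := G) p).symm.pow_left j)
          (orderOf_dvd_of_pow_eq_one (congrArg Subtype.val hj)) (Subgroup.orderOf_dvd_natCard O hto))
      have hTK : ∀ t ∈ T, π t ∈ a := fun t ht => hab.1 (mem_comap.1 (hT.1 ht))
      have hTc : ∀ t ∈ T, ∀ u ∈ T, t * u = u * t := by
        intro t ht u hu
        have h : π t * π u = π u * π t :=
          congrArg Subtype.val (ha.is_comm.comm ⟨_, hTK t ht⟩ ⟨_, hTK u hu⟩)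
        have := hinj ((u * t)⁻¹ * (t * u)) (mul_mem (inv_mem (mul_mem hu ht)) (mul_mem ht hu)) (by
          rw [map_mul, map_inv, map_mul, map_mul, h, inv_mul_cancel])
        exact (inv_mul_eq_one.1 this).symm
      have hTe : ∀ t ∈ T, t ^ p = 1 := fun t ht => hinj _ (pow_mem ht p) (by
        rw [map_pow]; exact hab.2 _ (hTK t ht))
      have hTC : T ≤ (centralizer ({b₀} : Set G)) := fun t ht => mem_centralizer_iff.2 fun z hz => by
        rw [Set.mem_singleton_iff.1 hz]; exact hTc _ (hBT hb₀) _ ht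
      set P' := (P : Subgroup ↥(centralizer ({b₀} : Set G))).map (centralizer ({b₀} : Set G)).subtype with hP'
      have hP's : CfsgLib.PLocal.SylowIn p P' (centralizer ({b₀} : Set G)) := ⟨map_subtype_le _, P.2.map _,
        CfsgLib.Fusion.not_dvd_relIndex_of_sylow P⟩
      obtain ⟨k, hk, hkT⟩ := hP's.exists_conj_le hT.2.1 hTC
      have hkB : CfsgLib.PLocal.conjMap k T ≤ B := by
        rintro _ ⟨t, ht, rfl⟩
        by_cases ht1 : t = 1
        · simp [ht1]
        rw [hBP]
        refine Subgroup.subset_closure ⟨?_, ?_⟩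
        · exact hkT ⟨t, ht, rfl⟩
        show orderOf (k * t * k⁻¹) = p
        exact orderOf_eq_prime (by rw [conj_pow, hTe t ht, mul_one, mul_inv_cancel])
          fun h => ht1 (conj_eq_one_iff.1 h)
      have hTB : T = B := by
        refine (Subgroup.eq_of_le_of_card_ge hBT ?_).symm
        rw [← CfsgLib.PLocal.card_conjMap k T]
        exact Subgroup.card_le_of_le hkB
      -- `T` maps onto its group
      set L' := L with hL'
      have hy : y ∈ L := mem_comap.2 (mem_sup_left (mem_zpowers _))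
      obtain ⟨j, hj⟩ := IsPGroup.iff_card.1 hT.2.1
      have hO' : O ≤ L := fun o ho => mem_comap.2 (by
        rw [show π o = 1 from (QuotientGroup.eq_one_iff o).2 ho]; exact one_mem _)
      have hTO : L ≤ T ⊔ O := by
        -- the index of `T ⊔ O` in `L` is both a power of `p` and prime to `p`
        have hne : ¬ p ∣ (T ⊔ O).relIndex L := fun h => hT.2.2
          (h.trans (relIndex_dvd_of_le_left L le_sup_left))
        have hmap : (T ⊔ O).relIndex L = (T.map π).relIndex (L.map π) := by
          rw [← relIndex_comap, comap_map_eq, QuotientGroup.ker_mk', sup_comm]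
        have hLp : IsPGroup p (L.map π) := fun z => ⟨1, Subtype.ext (by
          rw [SubgroupClass.coe_pow, pow_one]
          exact hab.2 _ (hab.1 (map_comap_le _ _ z.2)))⟩
        obtain ⟨i, hi⟩ := hLp.index ((T.map π).subgroupOf (L.map π))
        have hi' : (T ⊔ O).relIndex L = p ^ i := hmap.trans hi
        rcases Nat.eq_zero_or_pos i with rfl | hpos
        · exact relIndex_eq_one.1 (by simpa using hi')
        · exact absurd (hi' ▸ dvd_pow_self p hpos.ne') hne
      obtain ⟨t, ht, o, ho, hto⟩ := mem_sup_of_normal_right.1 (hTO hy)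
      refine ⟨t, hTB ▸ ht, ?_⟩
      rw [← hto, map_mul, show π o = 1 from (QuotientGroup.eq_one_iff o).2 ho, mul_one]
    have h1 : q * x * q⁻¹ * x⁻¹ ∈ R ⊓ Q.map π := by
      refine ⟨R.mul_mem (hRn.conj_mem x hx.1 q) (R.inv_mem hx.1), ?_⟩
      have hq' : q ∈ Q.map π := hq
      have hqi : q⁻¹ ∈ Q.map π := (Q.map π).inv_mem hq'
      have := (Q.map π).mul_mem hq' ((mem_normalizer_iff.1 (hBQ hxB) q⁻¹).1 hqi)
      simpa [mul_assoc] using this
    rw [CfsgLib.Comp.inf_eq_bot_of_isPGroup hRp hQc', mem_bot] at h1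
    calc q * x = (q * x * q⁻¹ * x⁻¹) * (x * q) := by group
      _ = x * q := by rw [h1, one_mul]
  intro g hg
  have h2 : π g ∈ R ⊓ Q.map π := ⟨hCR (hQR (mem_map_of_mem π hg)), mem_map_of_mem π hg⟩
  rw [CfsgLib.Comp.inf_eq_bot_of_isPGroup hRp hQc', mem_bot] at h2
  exact (QuotientGroup.eq_one_iff g).1 h2

end Cfsg.Agent.S1902
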