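import Cfsg.Statements.S1905
import Cfsg.Agent.S1875
import Mathlib.Combinatorics.Pigeonhole
-- import your own Cfsg.Agent.* helpers here

set_option autoImplicit false
open Cfsg

namespace Cfsg.Agent.S1905

variable {S : Type*} [Group S] [Finite S]

omit [Finite S] in
theorem sq_of_order_two {u : S} (hu : orderOf u = 2) : u * u = 1 := by
  have := pow_orderOf_eq_one u
  rwa [hu, pow_two] at this

omit [Finite S] in
theorem order_two_of {u : S} (h : u * u = 1) (h1 : u ≠ 1) : orderOf u = 2 :=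
  orderOf_eq_prime (by rw [pow_two, h]) h1

theorem invol_setup {M : Subgroup S}
    (hC : ∀ i ∈ M, orderOf i = 2 → Subgroup.centralizer ({i} : Set S) ≤ M)
    {u w : S} (hu : u ∈ M) (hu2 : orderOf u = 2) (hw : w ∉ M) (hw2 : orderOf w = 2) :
    Odd (orderOf (u * w)) := by
  rcases Nat.even_or_odd (orderOf (u * w)) with ⟨m, hm⟩ | h
  · exfalso
    have hpos := orderOf_pos (u * w)
    have hz : orderOf ((u * w) ^ m) = 2 := by
      rw [orderOf_pow_of_dvd (by omega) ⟨2, by omega⟩, hm, ← two_mul,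
        Nat.mul_div_cancel _ (by omega)]
    set z := (u * w) ^ m with hzdef
    have huu := sq_of_order_two hu2
    have hww := sq_of_order_two hw2
    have hui : u⁻¹ = u := inv_eq_of_mul_eq_one_right huu
    have hwi : w⁻¹ = w := inv_eq_of_mul_eq_one_right hww
    have hzi : z⁻¹ = z := inv_eq_of_mul_eq_one_right (sq_of_order_two hz)
    have hcu : u * z = z * u := by
      have e : u * (u * w) * u⁻¹ = (u * w)⁻¹ := by
        rw [mul_inv_rev, hwi, hui]
        calc u * (u * w) * u = (u * u) * (w * u) := by simp only [mul_assoc]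
          _ = w * u := by rw [huu, one_mul]
      have : u * z * u⁻¹ = z := by rw [hzdef, ← conj_pow, e, inv_pow, ← hzdef, hzi]
      exact mul_inv_eq_iff_eq_mul.1 this
    have hcw : w * z = z * w := by
      have e : w * (u * w) * w⁻¹ = (u * w)⁻¹ := by
        rw [mul_inv_rev, hwi, hui]
        calc w * (u * w) * w = (w * u) * (w * w) := by simp only [mul_assoc]
          _ = w * u := by rw [hww, mul_one]
      have : w * z * w⁻¹ = z := by rw [hzdef, ← conj_pow, e, inv_pow, ← hzdef, hzi]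
      exact mul_inv_eq_iff_eq_mul.1 this
    have hzM : z ∈ M := hC u hu hu2 (Subgroup.mem_centralizer_singleton_iff.2 hcu.symm)
    exact hw (hC z hzM hz (Subgroup.mem_centralizer_singleton_iff.2 hcw))
  · exact h

theorem conj_elem {M : Subgroup S}
    (hC : ∀ i ∈ M, orderOf i = 2 → Subgroup.centralizer ({i} : Set S) ≤ M)
    {u w : S} (hu : u ∈ M) (hu2 : orderOf u = 2) (hw : w ∉ M) (hw2 : orderOf w = 2) :
    ∃ g ∈ Subgroup.closure ({u, w} : Set S), g * u * g⁻¹ = w := by
  obtain ⟨m, hm⟩ := invol_setup hC hu hu2 hw hw2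
  have huu := sq_of_order_two hu2
  have hww := sq_of_order_two hw2
  have hui : u⁻¹ = u := inv_eq_of_mul_eq_one_right huu
  have hwi : w⁻¹ = w := inv_eq_of_mul_eq_one_right hww
  set x := u * w with hx
  have hinv : u * x * u⁻¹ = x⁻¹ := by
    rw [hui, hx, mul_inv_rev, hui, hwi]
    calc u * (u * w) * u = (u * u) * (w * u) := by simp only [mul_assoc]
      _ = w * u := by rw [huu, one_mul]
  refine ⟨(x ^ (m + 1))⁻¹, Subgroup.inv_mem _ (Subgroup.pow_mem _ (Subgroup.mul_mem _
    (Subgroup.subset_closure (by simp)) (Subgroup.subset_closure (by simp))) _), ?_⟩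
  have hp : u * x ^ (m + 1) * u⁻¹ = (x ^ (m + 1))⁻¹ := by
    rw [← conj_pow, hinv, inv_pow]
  calc (x ^ (m + 1))⁻¹ * u * ((x ^ (m + 1))⁻¹)⁻¹
      = (u * x ^ (m + 1) * u⁻¹) * (u * x ^ (m + 1)) := by rw [hp, inv_inv, mul_assoc]
    _ = u * (x ^ (m + 1) * x ^ (m + 1)) := by group
    _ = w := by
        rw [← pow_add, show m + 1 + (m + 1) = orderOf x + 1 by omega, pow_succ,
          pow_orderOf_eq_one, one_mul, hx, ← mul_assoc, huu, one_mul]

theorem eq_one_of_inverted {M : Subgroup S}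
    (hC : ∀ i ∈ M, orderOf i = 2 → Subgroup.centralizer ({i} : Set S) ≤ M)
    {u w z : S} (hu : u ∈ M) (hu2 : orderOf u = 2) (hw : w ∉ M) (hw2 : orderOf w = 2)
    (huz : u * z * u⁻¹ = z) (hwz : w * z * w⁻¹ = z⁻¹) : z = 1 := by
  obtain ⟨g, hg, hgu⟩ := conj_elem hC hu hu2 hw hw2
  have hpm : g⁻¹ * z * g = z ∨ g⁻¹ * z * g = z⁻¹ := by
    have : ∀ k ∈ Subgroup.closure ({u, w} : Set S), k * z * k⁻¹ = z ∨ k * z * k⁻¹ = z⁻¹ := by
      intro k hk
      induction hk using Subgroup.closure_induction with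
      | mem y hy =>
        rcases hy with rfl | rfl
        · exact Or.inl huz
        · exact Or.inr hwz
      | one => left; group
      | mul a b _ _ ha hb =>
        have e : a * b * z * (a * b)⁻¹ = a * (b * z * b⁻¹) * a⁻¹ := by group
        have e' : a * z⁻¹ * a⁻¹ = (a * z * a⁻¹)⁻¹ := by group
        rw [e]
        rcases hb with hb | hb <;> rw [hb]
        · exact ha
        · rw [e']
          rcases ha with ha | ha <;> rw [ha]
          · exact Or.inr rfl
          · exact Or.inl (inv_inv z)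
      | inv a _ ha =>
        rcases ha with ha | ha
        · left
          calc a⁻¹ * z * a⁻¹⁻¹ = a⁻¹ * (a * z * a⁻¹) * a := by rw [ha, inv_inv]
            _ = z := by group
        · right
          calc a⁻¹ * z * a⁻¹⁻¹ = a⁻¹ * (a * z * a⁻¹)⁻¹ * a := by rw [ha, inv_inv, inv_inv]
            _ = z⁻¹ := by group
    simpa using this g⁻¹ (Subgroup.inv_mem _ hg)
  have hfix : u * (g⁻¹ * z * g) * u⁻¹ = g⁻¹ * z * g := by
    rcases hpm with h | h <;> rw [h]
    · exact huz
    · calc u * z⁻¹ * u⁻¹ = (u * z * u⁻¹)⁻¹ := by group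
        _ = z⁻¹ := by rw [huz]
  have hzz : z⁻¹ = z := by
    calc z⁻¹ = (g * u * g⁻¹) * z * (g * u * g⁻¹)⁻¹ := by rw [hgu, hwz]
      _ = g * (u * (g⁻¹ * z * g) * u⁻¹) * g⁻¹ := by group
      _ = z := by rw [hfix]; group
  by_contra hz1
  have hz2 : orderOf z = 2 := order_two_of (by nth_rewrite 1 [← hzz]; exact inv_mul_cancel z) hz1
  have hzM : z ∈ M := hC u hu hu2 (Subgroup.mem_centralizer_singleton_iff.2
    (mul_inv_eq_iff_eq_mul.1 huz).symm)
  refine hw (hC z hzM hz2 (Subgroup.mem_centralizer_singleton_iff.2 ?_))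
  exact mul_inv_eq_iff_eq_mul.1 (hwz.trans hzz)

omit [Finite S] in
theorem orderOf_conj (g x : S) : orderOf (g * x * g⁻¹) = orderOf x :=
  orderOf_injective (MulAut.conj g).toMonoidHom (MulAut.conj g).injective x

theorem all_conj {M : Subgroup S} (hM : Even (Nat.card M))
    (hC : ∀ i ∈ M, orderOf i = 2 → Subgroup.centralizer ({i} : Set S) ≤ M)
    (hcore : Odd (Nat.card M.normalCore)) :
    (∃ v, v ∉ M ∧ orderOf v = 2) ∧ ∀ x y : S, orderOf x = 2 → orderOf y = 2 → IsConj x y := by
  obtain ⟨i, hi⟩ := exists_prime_orderOf_dvd_card' (G := M) 2 hM.two_dvd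
  have hi2 : orderOf (i : S) = 2 := by rw [Subgroup.orderOf_coe]; exact hi
  have hex : ∃ v, v ∉ M ∧ orderOf v = 2 := by
    by_contra hne
    push Not at hne
    have hin : ∀ g : S, g * i * g⁻¹ ∈ M := fun g => by
      by_contra h
      exact hne _ h (by rw [orderOf_conj, hi2])
    have hmem : (i : S) ∈ M.normalCore := hin
    have := Subgroup.orderOf_dvd_natCard _ hmem
    rw [hi2] at this
    exact Nat.not_even_iff_odd.2 hcore (even_iff_two_dvd.2 this)
  refine ⟨hex, ?_⟩
  obtain ⟨v, hv, hv2⟩ := hex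
  have hin : ∀ u ∈ M, orderOf u = 2 → ∀ w, w ∉ M → orderOf w = 2 → IsConj u w := by
    intro u hu hu2 w hw hw2
    obtain ⟨g, -, hg⟩ := conj_elem hC hu hu2 hw hw2
    exact isConj_iff.2 ⟨g, hg⟩
  have hto : ∀ x, orderOf x = 2 → IsConj (i : S) x := by
    intro x hx
    by_cases hxM : x ∈ M
    · exact (hin i i.2 hi2 v hv hv2).trans (hin x hxM hx v hv hv2).symm
    · exact hin i i.2 hi2 x hxM hx
  exact fun x y hx hy => (hto x hx).symm.trans (hto y hy)


/-- Let M be a subgroup of even order of a finite group S such that M contains the centralizer in S of each of its involutions and the normal core of M in S has odd order. Then all involutions of S are conjugate. If moreover N_S(X) ≤ M for a Sylow 2-subgroup X of M and I is an involution in the centre of X, then all involutions of M are conjugate in M and M = M₀ C_M(I) for some subgroup M₀ of M of odd order. -/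
theorem result {S : Type*} [Group S] [Finite S] (M : Subgroup S) (hM : Even (Nat.card M))
    (hC : ∀ i ∈ M, orderOf i = 2 → Subgroup.centralizer ({i} : Set S) ≤ M) (hcore : Odd (Nat.card M.normalCore)) :
    (∀ x y : S, orderOf x = 2 → orderOf y = 2 → IsConj x y) ∧
      ∀ (X : Sylow 2 M) (I : M), I ∈ (Subgroup.center ↥(X : Subgroup ↥M)).map (X : Subgroup ↥M).subtype → orderOf I = 2 →
        Subgroup.normalizer (((X : Subgroup M).map M.subtype : Subgroup S) : Set S) ≤ M →
        (∀ x y : M, orderOf x = 2 → orderOf y = 2 → IsConj x y) ∧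
          ∃ M₀ : Subgroup M, Odd (Nat.card M₀) ∧
            ∀ m : M, ∃ a ∈ M₀, ∃ c ∈ Subgroup.centralizer ({I} : Set M), m = a * c := by
  classical
  obtain ⟨⟨v₀, hv₀, hv₀2⟩, hall⟩ := all_conj hM hC hcore
  refine ⟨hall, fun X I hI hI2 hN => ?_⟩
  obtain ⟨⟨I', hI'X⟩, hI'c, hI'eq⟩ := hI
  simp only [Subgroup.coe_subtype] at hI'eq
  subst hI'eq
  have hI2' : orderOf (I' : S) = 2 := by rw [Subgroup.orderOf_coe]; exact hI2
  have hfus : ∀ g t : S, t ∈ M → orderOf t = 2 → g⁻¹ * t * g ∈ M → g ∈ M := by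
    intro g t ht ht2 htg
    obtain ⟨Q, hQ⟩ := ((IsPGroup.of_card (p := 2) (n := 1) (by
      rw [Nat.card_zpowers, pow_one, Subgroup.orderOf_mk, ht2] : Nat.card
      (Subgroup.zpowers (⟨t, ht⟩ : M)) = 2 ^ 1))).exists_le_sylow
    obtain ⟨m, rfl⟩ := MulAction.exists_smul_eq M X Q
    have htX : m⁻¹ * ⟨t, ht⟩ * m ∈ (X : Subgroup M) := by
      have h := hQ (Subgroup.mem_zpowers (⟨t, ht⟩ : M))
      rw [Sylow.coe_subgroup_smul, Subgroup.mem_pointwise_smul_iff_inv_smul_mem] at h
      simpa [MulAut.smul_def] using h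
    have hIc : ∀ a ∈ (X : Subgroup M), a * I' = I' * a := fun a ha =>
      congrArg Subtype.val (Subgroup.mem_center_iff.1 hI'c ⟨a, ha⟩)
    set z : S := (m : S) * I' * (m : S)⁻¹ with hz
    have hz2 : orderOf z = 2 := by rw [hz, orderOf_conj, hI2']
    have hzt : z * t = t * z := by
      have h := congrArg Subtype.val (hIc _ htX)
      push_cast at h
      calc z * t = (m : S) * ((I' : S) * ((m : S)⁻¹ * t * m)) * (m : S)⁻¹ := by rw [hz]; group
        _ = (m : S) * (((m : S)⁻¹ * t * m) * I') * (m : S)⁻¹ := by rw [h]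
        _ = t * z := by rw [hz]; group
    have hzg : g⁻¹ * z * g ∈ M := by
      refine hC _ htg (by rw [← ht2]; simpa using orderOf_conj g⁻¹ t)
        (Subgroup.mem_centralizer_singleton_iff.2 ?_)
      calc g⁻¹ * z * g * (g⁻¹ * t * g) = g⁻¹ * (z * t) * g := by group
        _ = g⁻¹ * (t * z) * g := by rw [hzt]
        _ = g⁻¹ * t * g * (g⁻¹ * z * g) := by group
    set k : S := g⁻¹ * m with hk
    set Xs : Subgroup S := (X : Subgroup M).map M.subtype with hXs
    set Y : Subgroup S := Xs.map (MulAut.conj k).toMonoidHom with hY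
    have hYM : Y ≤ M := by
      rintro _ ⟨_, ⟨a, ha, rfl⟩, rfl⟩
      refine hC _ hzg (by rw [← hz2]; simpa using orderOf_conj g⁻¹ z)
        (Subgroup.mem_centralizer_singleton_iff.2 ?_)
      have h := congrArg Subtype.val (hIc a ha)
      push_cast at h
      simp only [MulEquiv.coe_toMonoidHom, MulAut.conj_apply, Subgroup.coe_subtype]
      calc k * (a : S) * k⁻¹ * (g⁻¹ * z * g) = k * ((a : S) * I') * k⁻¹ := by rw [hk, hz]; group
        _ = k * ((I' : S) * a) * k⁻¹ := by rw [h]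
        _ = _ := by rw [hk, hz]; group
    have hcard : Nat.card (Y.subgroupOf M) = 2 ^ (Nat.card M).factorization 2 := by
      rw [Nat.card_congr (Subgroup.subgroupOfEquivOfLe hYM).toEquiv, hY, hXs,
        Subgroup.card_map_of_injective (MulAut.conj k).injective,
        Subgroup.card_map_of_injective M.subtype_injective, ← Sylow.card_eq_multiplicity X]
    obtain ⟨m', hm'⟩ := MulAction.exists_smul_eq M X (Sylow.ofCard _ hcard)
    have hm'' := congrArg (fun P : Sylow 2 M => (P : Subgroup M)) hm'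
    simp only [Sylow.coe_subgroup_smul, Sylow.coe_ofCard] at hm''
    have hnorm : (m' : S)⁻¹ * k ∈ Subgroup.normalizer (Xs : Set S) := by
      refine Subgroup.mem_normalizer_fintype fun x hx => ?_
      obtain ⟨a, ha, rfl⟩ := hx
      have hmem : k * (a : S) * k⁻¹ ∈ M := hYM ⟨_, ⟨a, ha, rfl⟩, rfl⟩
      have h1 : (⟨k * (a : S) * k⁻¹, hmem⟩ : M) ∈ Y.subgroupOf M :=
        ⟨_, ⟨a, ha, rfl⟩, rfl⟩
      rw [← hm'', Subgroup.mem_pointwise_smul_iff_inv_smul_mem] at h1
      refine ⟨_, h1, ?_⟩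
      simp [MulAut.smul_def, mul_assoc]
    have hk' : (m' : S)⁻¹ * k ∈ M := hN hnorm
    have e : g = (m : S) * ((m' : S) * ((m' : S)⁻¹ * k))⁻¹ := by rw [hk]; group
    rw [e]
    exact M.mul_mem m.2 (M.inv_mem (M.mul_mem m'.2 hk'))
  have hconjM : ∀ x y : M, orderOf x = 2 → orderOf y = 2 → IsConj x y := by
    intro x y hx hy
    obtain ⟨g, hg⟩ := isConj_iff.1 (hall (x : S) y (by rw [Subgroup.orderOf_coe, hx])
      (by rw [Subgroup.orderOf_coe, hy]))
    have hgM : g ∈ M := hfus g y y.2 (by rw [Subgroup.orderOf_coe, hy]) (by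
      rw [← hg]; group; exact x.2)
    exact isConj_iff.2 ⟨⟨g, hgM⟩, Subtype.ext hg⟩
  refine ⟨hconjM, ?_⟩
  haveI : Fintype S := Fintype.ofFinite S
  -- counting of involutions
  set n := Nat.card {x : M // orderOf x = 2} with hn
  set N := Nat.card {x : S // orderOf x = 2} with hNdef
  have hNn : N = M.index * n := by
    have e1 : N = Nat.card {x : S // IsConj (I' : S) x} := Nat.card_congr
      (Equiv.subtypeEquivRight fun x => ⟨fun h => hall _ _ hI2' h, fun h => by
        obtain ⟨g, rfl⟩ := isConj_iff.1 h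
        rw [orderOf_conj, hI2']⟩)
    have e2 : n = Nat.card {x : M // IsConj I' x} := Nat.card_congr
      (Equiv.subtypeEquivRight fun x => ⟨fun h => hconjM _ _ hI2 h, fun h => by
        obtain ⟨g, rfl⟩ := isConj_iff.1 h
        rw [orderOf_conj, hI2]⟩)
    have e3 : Nat.card ↥(Subgroup.centralizer ({I'} : Set M)) =
        Nat.card ↥(Subgroup.centralizer ({(I' : S)} : Set S)) := by
      refine Nat.card_congr (Equiv.ofBijective (fun c => ⟨(c.1 : S),
        Subgroup.mem_centralizer_singleton_iff.2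
          (congrArg Subtype.val (Subgroup.mem_centralizer_singleton_iff.1 c.2))⟩) ⟨?_, ?_⟩)
      · intro a b h
        simp only [Subtype.mk.injEq] at h
        exact Subtype.ext (Subtype.ext h)
      · intro c
        exact ⟨⟨⟨c.1, hC _ I'.2 hI2' c.2⟩, Subgroup.mem_centralizer_singleton_iff.2
          (Subtype.ext (Subgroup.mem_centralizer_singleton_iff.1 c.2))⟩, rfl⟩
    have h1 := Cfsg.Agent.S1875.card_class (I' : S)
    have h2 := Cfsg.Agent.S1875.card_class I'
    rw [← e1, ← e3] at h1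
    rw [← e2] at h2
    refine Nat.eq_of_mul_eq_mul_right (Nat.card_pos (α := Subgroup.centralizer ({I'} : Set M))) ?_
    rw [h1, mul_assoc, h2, Subgroup.index_mul_card]
  -- pigeonhole on the cosets
  set T : Finset S := Finset.univ.filter fun x => orderOf x = 2 ∧ x ∉ M with hT
  have hTc : T.card + n = N := by
    rw [hn, hNdef, Nat.card_eq_fintype_card, Nat.card_eq_fintype_card, Fintype.card_subtype,
      Fintype.card_subtype]
    have : (Finset.univ.filter fun x : M => orderOf x = 2).card =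
        (Finset.univ.filter fun x : S => orderOf x = 2 ∧ x ∈ M).card := by
      rw [← Finset.card_map (Function.Embedding.subtype _)]
      congr 1
      ext x
      simp only [Finset.mem_map, Finset.mem_filter, Finset.mem_univ, true_and,
        Function.Embedding.coe_subtype]
      constructor
      · rintro ⟨a, ha, rfl⟩
        exact ⟨by rw [Subgroup.orderOf_coe, ha], a.2⟩
      · rintro ⟨hx, hxM⟩
        exact ⟨⟨x, hxM⟩, by rw [Subgroup.orderOf_mk, hx], rfl⟩
    rw [this, hT, ← Finset.card_union_of_disjoint]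
    · congr 1
      ext x
      simp only [Finset.mem_union, Finset.mem_filter, Finset.mem_univ, true_and]
      tauto
    · rw [Finset.disjoint_left]
      intro a ha hb
      simp only [Finset.mem_filter] at ha hb
      exact ha.2.2 hb.2.2
  haveI : Fintype (S ⧸ M) := Fintype.ofFinite _
  set C : Finset (S ⧸ M) := Finset.univ.erase ((1 : S) : S ⧸ M) with hCdef
  have hCc : C.card = M.index - 1 := by
    rw [hCdef, Finset.card_erase_of_mem (Finset.mem_univ _), Finset.card_univ,
      ← Nat.card_eq_fintype_card, ← Subgroup.index_eq_card]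
  have hmaps : ∀ x ∈ T, ((x : S) : S ⧸ M) ∈ C := by
    intro x hx
    simp only [hT, Finset.mem_filter, Finset.mem_univ, true_and] at hx
    refine Finset.mem_erase.2 ⟨fun h => hx.2 ?_, Finset.mem_univ _⟩
    simpa using QuotientGroup.eq.1 h
  have hidx : 1 < M.index := by
    refine Subgroup.one_lt_index_of_ne_top fun h => hv₀ ?_
    rw [h]; exact Subgroup.mem_top _
  obtain ⟨q, hq, hqn⟩ := Finset.exists_le_card_fiber_of_mul_le_card_of_maps_to hmaps
    (Finset.card_pos.1 (by omega)) (n := n) (by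
      rw [hCc]
      have : T.card = (M.index - 1) * n := by rw [Nat.sub_mul, one_mul, ← hNn]; omega
      omega)
  set F := T.filter fun x : S => (x : S ⧸ M) = q with hF
  have hn0 : 0 < n := by
    have : Nonempty {x : M // orderOf x = 2} := ⟨⟨I', hI2⟩⟩
    exact Nat.card_pos
  obtain ⟨v, hvF⟩ := Finset.card_pos.1 (hn0.trans_le hqn)
  have hFmem : ∀ w ∈ F, orderOf w = 2 ∧ w ∉ M ∧ v⁻¹ * w ∈ M := by
    intro w hw
    simp only [hF, hT, Finset.mem_filter, Finset.mem_univ, true_and] at hw hvF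
    exact ⟨hw.1.1, hw.1.2, QuotientGroup.eq.1 (hvF.2.trans hw.2.symm)⟩
  obtain ⟨hv2, hvM, -⟩ := hFmem v hvF
  set D : Subgroup S := M ⊓ M.comap (MulAut.conj v).toMonoidHom with hD
  have hDodd : Odd (Nat.card D) := by
    rw [← Nat.not_even_iff_odd]
    intro he
    obtain ⟨t, ht⟩ := exists_prime_orderOf_dvd_card' (G := D) 2 he.two_dvd
    refine hvM (M.inv_mem_iff.1 (hfus v⁻¹ t t.2.1 (by rw [Subgroup.orderOf_coe, ht]) ?_))
    rw [inv_inv]
    exact t.2.2
  have hx : ∀ w ∈ F, v⁻¹ * w ∈ D := by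
    intro w hw
    obtain ⟨hw2, -, hwM⟩ := hFmem w hw
    refine ⟨hwM, ?_⟩
    change v * (v⁻¹ * w) * v⁻¹ ∈ M
    have e : v * (v⁻¹ * w) * v⁻¹ = (v⁻¹ * w)⁻¹ := by
      rw [mul_inv_rev, inv_inv, inv_eq_of_mul_eq_one_right (sq_of_order_two hv2),
        inv_eq_of_mul_eq_one_right (sq_of_order_two hw2)]
      rw [← mul_assoc, sq_of_order_two hv2, one_mul]
    rw [e]
    exact M.inv_mem hwM
  let f : F → {x : M // orderOf x = 2} := fun w =>
    ⟨⟨v⁻¹ * w * I' * (v⁻¹ * w)⁻¹, M.mul_mem (M.mul_mem (hFmem w w.2).2.2 I'.2)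
      (M.inv_mem (hFmem w w.2).2.2)⟩, by rw [Subgroup.orderOf_mk, orderOf_conj, hI2']⟩
  have hinj : Function.Injective f := by
    intro w w' h
    simp only [f, Subtype.mk.injEq] at h
    obtain ⟨hw2, hwM, -⟩ := hFmem w w.2
    obtain ⟨hw2', -, -⟩ := hFmem w' w'.2
    have hwi : (w : S)⁻¹ = w := inv_eq_of_mul_eq_one_right (sq_of_order_two hw2)
    have hwi' : (w' : S)⁻¹ = w' := inv_eq_of_mul_eq_one_right (sq_of_order_two hw2')
    have hz := eq_one_of_inverted hC I'.2 hI2' hwM hw2 (z := (w : S)⁻¹ * w') ?_ ?_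
    · exact Subtype.ext (inv_mul_eq_one.1 hz)
    · calc (I' : S) * ((w : S)⁻¹ * w') * (I' : S)⁻¹
          = ((v⁻¹ * w : S))⁻¹ * ((v⁻¹ * w) * I' * (v⁻¹ * w)⁻¹) * (v⁻¹ * w') * (I' : S)⁻¹ := by group
        _ = ((v⁻¹ * w : S))⁻¹ * ((v⁻¹ * w') * I' * (v⁻¹ * w')⁻¹) * (v⁻¹ * w') * (I' : S)⁻¹ := by
            rw [h]
        _ = _ := by group
    · rw [mul_inv_rev, inv_inv, ← mul_assoc, mul_inv_cancel, one_mul, hwi, hwi']
  have hbij : Function.Bijective f := (Fintype.bijective_iff_injective_and_card f).2 ⟨hinj, by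
    refine le_antisymm (Fintype.card_le_of_injective f hinj) ?_
    rw [← Nat.card_eq_fintype_card, ← hn, Fintype.card_coe]
    exact hqn⟩
  refine ⟨D.subgroupOf M, ?_, fun m => ?_⟩
  · rw [Nat.card_congr (Subgroup.subgroupOfEquivOfLe (inf_le_left : D ≤ M)).toEquiv]
    exact hDodd
  · obtain ⟨w, hw⟩ := hbij.2 ⟨m * I' * m⁻¹, by rw [orderOf_conj, hI2]⟩
    simp only [f, Subtype.mk.injEq] at hw
    set a : M := ⟨v⁻¹ * w, (hFmem w w.2).2.2⟩ with ha
    have hw' : a * I' * a⁻¹ = m * I' * m⁻¹ := by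
      rw [← hw]; rfl
    refine ⟨a, hx w w.2, a⁻¹ * m, Subgroup.mem_centralizer_singleton_iff.2 ?_,
      (mul_inv_cancel_left a m).symm⟩
    calc a⁻¹ * m * I' = a⁻¹ * (m * I' * m⁻¹) * m := by group
      _ = a⁻¹ * (a * I' * a⁻¹) * m := by rw [hw']
      _ = I' * (a⁻¹ * m) := by group

end Cfsg.Agent.S1905
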