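import Cfsg.Statements.S1906
import Cfsg.Agent.Lib.PLocal.GLSignTransfer
import Cfsg.Agent.Lib.Solvable.Nilpotent
-- import your own Cfsg.Agent.* helpers here

set_option autoImplicit false
open Cfsg

namespace Cfsg.Agent.S1906

/-- Let G be a finite group with no subgroup of index 2 whose Sylow 2-subgroup X embeds in GL₃(F) for a finite field F of odd order. If X contains an elementary abelian subgroup of order 8, then X is abelian. -/
theorem result {G : Type*} [Group G] [Finite G] (hG : ∀ H : Subgroup G, H.index ≠ 2) (X : Sylow 2 G)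
    {F : Type*} [Field F] [Fintype F] (hF : Odd (Fintype.card F))
    (f : ↥(X : Subgroup G) →* GL (Fin 3) F) (hf : Function.Injective f)
    (E : Subgroup G) (hE : E ≤ (X : Subgroup G)) (hEa : Cfsg.IsElementaryAbelian 2 E) (hE8 : Nat.card E = 8) :
    IsMulCommutative (X : Subgroup G) := by
  classical
  by_contra hcom
  have h2 : (2 : F) ≠ 0 := by
    intro h
    have hc : ringChar F = 2 := CharP.ringChar_of_prime_eq_zero Nat.prime_two (by exact_mod_cast h)
    have := FiniteField.even_card_of_char_two hc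
    rw [Nat.odd_iff] at hF
    omega
  have hfin : Module.finrank F (Fin 3 → F) = 3 := by simp
  obtain ⟨j, hj⟩ : ∃ j : GL (Fin 3) F →* Module.End F (Fin 3 → F),
      j = (Matrix.toLinAlgEquiv' (R := F) (n := Fin 3)).toRingEquiv.toMonoidHom.comp (Units.coeHom _) :=
    ⟨_, rfl⟩
  have hjinj : Function.Injective j := by
    intro a b h
    rw [hj] at h
    exact Units.ext ((Matrix.toLinAlgEquiv' (R := F) (n := Fin 3)).injective h)
  obtain ⟨ρ, hρ⟩ : ∃ ρ : (X : Subgroup G) →* Module.End F (Fin 3 → F), ρ = j.comp f := ⟨_, rfl⟩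
  have hρinj : Function.Injective ρ := by rw [hρ]; exact hjinj.comp hf
  have key : ∀ A : Subgroup ↥(X : Subgroup G), (∀ a ∈ A, a * a = 1) → Nat.card A = 8 →
      (∃ a ∈ A, (f a : Matrix (Fin 3) (Fin 3) F) = -1) ∧
      ∀ x y : ↥(X : Subgroup G), (∀ a ∈ A, x * a = a * x) → (∀ a ∈ A, y * a = a * y) → x * y = y * x := by
    intro A hA h8
    obtain ⟨-, h⟩ := CfsgLib.PLocal.signGroup h2 3 (Fin 3 → F) hfin A (ρ.comp A.subtype)
      (hρinj.comp A.subtype_injective) (fun a => Subtype.ext (hA a.1 a.2))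
    obtain ⟨⟨a, ha⟩, hc⟩ := h (by rw [h8]; norm_num)
    refine ⟨⟨a.1, a.2, ?_⟩, fun x y hx hy => hρinj ?_⟩
    · refine (Matrix.toLinAlgEquiv' (R := F) (n := Fin 3)).injective ?_
      rw [map_neg, map_one]
      rw [hρ, hj] at ha
      exact ha
    · rw [map_mul, map_mul]
      refine hc _ _ (fun b => ?_) fun b => ?_
      · exact (map_mul ρ x b.1).symm.trans ((congrArg ρ (hx b.1 b.2)).trans (map_mul ρ b.1 x))
      · exact (map_mul ρ y b.1).symm.trans ((congrArg ρ (hy b.1 b.2)).trans (map_mul ρ b.1 y))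
  have hA : ∀ a ∈ E.subgroupOf (X : Subgroup G), a * a = 1 := fun a ha => Subtype.ext (by
    rw [Subgroup.coe_mul, ← sq, Subgroup.coe_one]; exact hEa.2 a.1 ha)
  have hA8 : Nat.card (E.subgroupOf (X : Subgroup G)) = 8 := by
    rw [Nat.card_congr (Subgroup.subgroupOfEquivOfLe hE).toEquiv, hE8]
  obtain ⟨⟨w, hwA, hw⟩, -⟩ := key _ hA hA8
  have hwc : ∀ x : ↥(X : Subgroup G), x * w = w * x := fun x => hf (Units.ext (by
    simp [hw]))
  obtain ⟨ψ, hψ⟩ : ∃ ψ : (X : Subgroup G) →* Fˣ, ψ = (Matrix.GeneralLinearGroup.det).comp f :=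
    ⟨_, rfl⟩
  have hψw : ψ w = -1 := by
    rw [hψ]
    refine Units.ext ?_
    simp [hw, Matrix.det_neg]
    norm_num
  have hne : (-1 : Fˣ) ≠ 1 := fun h => by
    have h' := congrArg Units.val h
    push_cast at h'
    exact h2 (by linear_combination -h')
  -- the central involutions of X
  obtain ⟨O, hO⟩ : ∃ O : Subgroup ↥(X : Subgroup G), ∀ x, x ∈ O ↔ x ∈ Subgroup.center _ ∧ x * x = 1 :=
    ⟨{ carrier := {x | x ∈ Subgroup.center _ ∧ x * x = 1}
       one_mem' := ⟨one_mem _, one_mul 1⟩
       mul_mem' := fun {a b} ha hb => ⟨mul_mem ha.1 hb.1, by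
        rw [mul_assoc a b (a * b), ← mul_assoc b a b, Subgroup.mem_center_iff.1 ha.1 b, mul_assoc a b b, hb.2,
          mul_one, ha.2]⟩
       inv_mem' := fun {a} ha => ⟨inv_mem ha.1, by rw [← mul_inv_rev, ha.2, inv_one]⟩ }, fun x => Iff.rfl⟩
  have hOcard : Nat.card O < 8 := by
    obtain ⟨hle, -⟩ := CfsgLib.PLocal.signGroup h2 3 (Fin 3 → F) hfin O (ρ.comp O.subtype)
      (hρinj.comp O.subtype_injective) (fun a => Subtype.ext ((hO a.1).1 a.2).2)
    norm_num at hle
    refine lt_of_le_of_ne hle fun h8 => hcom ⟨⟨fun x y => (key O (fun a ha => ((hO a).1 ha).2) h8).2 x y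
      (fun a ha => Subgroup.mem_center_iff.1 ((hO a).1 ha).1 x)
      (fun a ha => Subgroup.mem_center_iff.1 ((hO a).1 ha).1 y)⟩⟩
  -- the derived subgroup gives a central involution of determinant 1
  have hXc : (commutator ↥(X : Subgroup G)) ≠ ⊥ := by
    intro h
    refine hcom ⟨⟨fun x y => ?_⟩⟩
    have := Subgroup.commutator_mem_commutator (Subgroup.mem_top x) (Subgroup.mem_top y)
    rw [← commutator_def, h, Subgroup.mem_bot, commutatorElement_eq_one_iff_mul_comm] at this
    exact this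
  obtain ⟨z, hzO, hz1, hzd, hzc⟩ : ∃ z ∈ O, z ≠ 1 ∧ ψ z = 1 ∧ z ∈ commutator ↥(X : Subgroup G) := by
    have := X.isPGroup'.isNilpotent (p := 2)
    have hne' : commutator ↥(X : Subgroup G) ⊓ Subgroup.center _ ≠ ⊥ :=
      CfsgLib.Solvable.normal_inf_center_ne_bot _ hXc
    have hp : IsPGroup 2 (↥(commutator ↥(X : Subgroup G) ⊓ Subgroup.center _)) :=
      (X.isPGroup').to_subgroup _
    have := (Subgroup.nontrivial_iff_ne_bot _).2 hne'
    obtain ⟨n, hn⟩ := IsPGroup.iff_card.1 hp
    have h1 := Finite.one_lt_card (α := ↥(commutator ↥(X : Subgroup G) ⊓ Subgroup.center _))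
    have hn0 : n ≠ 0 := by
      intro h0
      rw [h0] at hn
      omega
    obtain ⟨z, hz⟩ := exists_prime_orderOf_dvd_card' 2 (hn ▸ dvd_pow_self 2 hn0)
    refine ⟨z.1, (hO _).2 ⟨z.2.2, ?_⟩, ?_, ?_, z.2.1⟩
    · have := pow_orderOf_eq_one z
      rw [hz, sq] at this
      exact congrArg Subtype.val this
    · intro h
      rw [show z = 1 from Subtype.ext h, orderOf_one] at hz
      omega
    · exact MonoidHom.mem_ker.1 (Abelianization.commutator_subset_ker ψ z.2.1)
  have hwO : w ∈ O := (hO w).2 ⟨Subgroup.mem_center_iff.2 hwc, hA w hwA⟩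
  have hN : ∀ g ∈ Subgroup.normalizer ((X : Subgroup G) : Set G), g⁻¹ * w.1 * g = w.1 := by
    intro g hg
    obtain ⟨σ, hσ⟩ : ∃ σ : ↥(X : Subgroup G) ≃* ↥(X : Subgroup G),
        ∀ x, (σ x : G) = g⁻¹ * x.1 * g :=
      ⟨{ toFun := fun x => ⟨g⁻¹ * x.1 * g, (Subgroup.mem_normalizer_iff''.1 hg x.1).1 x.2⟩
         invFun := fun x => ⟨g * x.1 * g⁻¹, (Subgroup.mem_normalizer_iff.1 hg x.1).1 x.2⟩
         left_inv := fun x => Subtype.ext (show g * (g⁻¹ * x.1 * g) * g⁻¹ = x.1 by group)
         right_inv := fun x => Subtype.ext (show g⁻¹ * (g * x.1 * g⁻¹) * g = x.1 by group)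
         map_mul' := fun x y => Subtype.ext
           (show g⁻¹ * (x.1 * y.1) * g = g⁻¹ * x.1 * g * (g⁻¹ * y.1 * g) by group) }, fun x => rfl⟩
    suffices h : σ w = w by rw [← hσ, h]
    have hz2 : z * z = 1 := ((hO z).1 hzO).2
    have hw2 : w * w = 1 := hA w hwA
    have hw1 : w ≠ 1 := fun h => hne (by rw [← hψw, h, map_one])
    have hwz : w * z ≠ 1 := fun h => hne (by
      have h' := congrArg ψ h
      rw [map_mul, hψw, hzd, mul_one, map_one] at h'
      exact h')
    have hlist : ∀ y ∈ O, y = 1 ∨ y = z ∨ y = w ∨ y = w * z := by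
      obtain ⟨n, hn⟩ := IsPGroup.iff_card.1 (X.isPGroup'.to_subgroup O)
      have h4 : Nat.card O ≤ 4 := by
        have : n < 3 := (Nat.pow_lt_pow_iff_right (a := 2) (by norm_num)).1 (by omega)
        interval_cases n <;> omega
      have hd : ({1, z, w, w * z} : Finset ↥(X : Subgroup G)).card = 4 := by
        have hzw : z ≠ w := fun h => hne (by rw [← hψw, ← h, hzd])
        have h3 : z ≠ w * z := fun h => hw1 (mul_eq_right.1 h.symm)
        have h4 : w ≠ w * z := fun h => hz1 (mul_eq_left.1 h.symm)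
        rw [Finset.card_insert_of_notMem, Finset.card_insert_of_notMem, Finset.card_insert_of_notMem,
          Finset.card_singleton] <;> simp [hz1.symm, hw1.symm, hwz.symm, hzw, h3, h4]
      have : Fintype O := Fintype.ofFinite O
      have heq : ({1, z, w, w * z} : Finset ↥(X : Subgroup G)) = (O : Set ↥(X : Subgroup G)).toFinset := by
        refine Finset.eq_of_subset_of_card_le ?_ (le_trans ?_ hd.ge)
        · intro y hy
          simp only [Finset.mem_insert, Finset.mem_singleton] at hy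
          rw [Set.mem_toFinset]
          rcases hy with rfl | rfl | rfl | rfl
          exacts [one_mem _, hzO, hwO, mul_mem hwO hzO]
        · rw [Set.toFinset_card, ← Nat.card_eq_fintype_card]
          exact h4
      intro y hy
      have : y ∈ ({1, z, w, w * z} : Finset ↥(X : Subgroup G)) := by rw [heq]; simpa using hy
      simpa [Finset.mem_insert, Finset.mem_singleton] using this
    have hmap : ∀ y ∈ O, σ y ∈ O := fun y hy => (hO _).2 ⟨Subgroup.mem_center_iff.2 fun x => by
      obtain ⟨x', rfl⟩ := σ.surjective x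
      rw [← map_mul, ← map_mul, Subgroup.mem_center_iff.1 ((hO y).1 hy).1 x'],
      by rw [← map_mul, ((hO y).1 hy).2, map_one]⟩
    have hσc : ∀ y ∈ commutator ↥(X : Subgroup G), σ y ∈ commutator ↥(X : Subgroup G) := by
      intro y hy
      have h := Subgroup.mem_map_of_mem σ.toMonoidHom hy
      rw [map_commutator_eq, MonoidHom.range_eq_top.2 σ.surjective] at h
      rw [commutator_def]
      exact h
    have hker : ∀ y ∈ commutator ↥(X : Subgroup G), ψ y = 1 := fun y hy =>
      MonoidHom.mem_ker.1 (Abelianization.commutator_subset_ker ψ hy)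
    have hσz : σ z = z := by
      have h := hker _ (hσc z hzc)
      rcases hlist _ (hmap z hzO) with e | e | e | e
      · exact absurd (by rw [← map_one σ] at e; exact σ.injective e) hz1
      · exact e
      · rw [e, hψw] at h; exact absurd h hne
      · rw [e, map_mul, hψw, hzd, mul_one] at h; exact absurd h hne
    have hσσ : σ (σ w) = w := by
      rcases hlist _ (hmap w hwO) with e | e | e | e
      · exact absurd (by rw [← map_one σ] at e; exact σ.injective e) hw1
      · exact absurd (σ.injective (e.trans hσz.symm)) fun h => hne (by rw [← hψw, h, hzd])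
      · rw [e, e]
      · rw [e, map_mul, e, hσz, mul_assoc, hz2, mul_one]
    -- `g ^ 2` and an odd power of `g` centralize `w`
    obtain ⟨C, hC⟩ : ∃ C : Subgroup G, C = Subgroup.centralizer {w.1} := ⟨_, rfl⟩
    have hg2 : g ^ 2 ∈ C := by
      have h := congrArg Subtype.val hσσ
      rw [hσ, hσ] at h
      rw [hC, Subgroup.mem_centralizer_singleton_iff]
      calc g ^ 2 * w.1 = g ^ 2 * (g⁻¹ * (g⁻¹ * w.1 * g) * g) := by rw [h]
        _ = w.1 * g ^ 2 := by rw [sq]; group
    obtain ⟨a, m, hm, he⟩ := Nat.exists_eq_pow_mul_and_not_dvd (orderOf_pos g).ne' 2 (by norm_num)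
    have hgm : g ^ m ∈ C := by
      have hp : IsPGroup 2 (Subgroup.zpowers (g ^ m)) := by
        refine IsPGroup.of_card (n := a) ?_
        rw [Nat.card_zpowers, orderOf_pow, Nat.gcd_eq_right (he ▸ dvd_mul_left m (2 ^ a)), he,
          Nat.mul_div_cancel _ (by omega)]
      have hgN : g ^ m ∈ Subgroup.normalizer ((X : Subgroup G) : Set G) := pow_mem hg m
      have hle : Subgroup.zpowers (g ^ m) ≤ (X : Subgroup G) := by
        have hX := X.3 (Q := Subgroup.zpowers (g ^ m) ⊔ (X : Subgroup G))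
          (hp.to_sup_of_normal_right' X.isPGroup' (Subgroup.zpowers_le.2 hgN)) le_sup_right
        exact le_sup_left.trans hX.le
      rw [hC, Subgroup.mem_centralizer_singleton_iff]
      exact congrArg Subtype.val (hwc ⟨_, hle (Subgroup.mem_zpowers _)⟩)
    have hgC : g ∈ C := by
      obtain ⟨l, rfl⟩ : Odd m := Nat.odd_iff.2 (by omega)
      rw [pow_succ, pow_mul] at hgm
      exact (Subgroup.mul_mem_cancel_left C (pow_mem hg2 l)).1 hgm
    rw [hC, Subgroup.mem_centralizer_singleton_iff] at hgC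
    refine Subtype.ext ?_
    rw [hσ, mul_assoc, ← hgC, inv_mul_cancel_left]
  obtain ⟨H, hH⟩ := CfsgLib.PLocal.exists_index_two_of_central_sign h2 X ψ w.2
    (congrArg Subtype.val (hA w hwA)) (fun x hx => congrArg Subtype.val (hwc ⟨x, hx⟩)) hN
    hψw
  exact hG H hH

end Cfsg.Agent.S1906
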