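import Cfsg.Statements.S1907
import Cfsg.Agent.Lib.Comp.Local
-- import your own Cfsg.Agent.* helpers here

set_option autoImplicit false
open Cfsg

namespace Cfsg.Agent.S1907

open scoped Pointwise
variable {G : Type*} [Group G] [Finite G] {p : ℕ} [Fact p.Prime]

theorem exists_conj_of_coset {C : Subgroup G} (hC : (Nat.card C).Coprime p) {y y' : G}
    (hy : ∀ c ∈ C, y * c * y⁻¹ ∈ C) (hyp : ∃ k : ℕ, orderOf y = p ^ k)
    (hy'p : ∃ k : ℕ, orderOf y' = p ^ k) (hc : y⁻¹ * y' ∈ C) :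
    ∃ c ∈ C, y' = c⁻¹ * y * c := by
  set Z := Subgroup.zpowers y with hZ
  have hZn : Z ≤ Subgroup.normalizer (C : Set G) := by
    rw [hZ, Subgroup.zpowers_le]
    exact Subgroup.mem_normalizer_fintype hy
  set Y := Z ⊔ C with hY
  obtain ⟨k, hk⟩ := hyp
  obtain ⟨k', hk'⟩ := hy'p
  have hZp : IsPGroup p Z := IsPGroup.of_card (n := k) (by rw [hZ, Nat.card_zpowers, hk])
  have hbot := CfsgLib.Comp.inf_eq_bot_of_isPGroup hZp hC
  have hdec : ∀ u ∈ Y, ∃ a ∈ Z, ∃ c ∈ C, u = c * a := by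
    intro u hu
    rw [hY, sup_comm, ← SetLike.mem_coe,
      Subgroup.coe_mul_of_right_le_normalizer_left C Z hZn] at hu
    obtain ⟨c, hc', a, ha, rfl⟩ := hu
    exact ⟨a, ha, c, hc', rfl⟩
  have hy'Y : y' ∈ Y := by
    have := Y.mul_mem (Subgroup.mem_sup_left (T := C) (Subgroup.mem_zpowers y))
      (Subgroup.mem_sup_right (S := Z) hc)
    simpa using this
  set ZY := Z.subgroupOf Y with hZY
  have hcardY : Nat.card Y ∣ Nat.card C * Nat.card Z := by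
    have hf : Function.Surjective
        (fun q : C × Z => (⟨q.1 * q.2, Y.mul_mem (Subgroup.mem_sup_right q.1.2)
          (Subgroup.mem_sup_left q.2.2)⟩ : Y)) := fun u => by
      obtain ⟨a, ha, c, hc', he⟩ := hdec u u.2
      exact ⟨(⟨c, hc'⟩, ⟨a, ha⟩), Subtype.ext he.symm⟩
    have hb : Nat.card (C × Z) = Nat.card Y := Nat.card_congr (Equiv.ofBijective _ ⟨fun q q' h => by
      have h' : (q.1 : G) * q.2 = q'.1 * q'.2 := congrArg Subtype.val h
      have h1 : (q'.1 : G)⁻¹ * q.1 = (q'.2 : G) * (q.2 : G)⁻¹ := by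
        calc (q'.1 : G)⁻¹ * q.1 = (q'.1 : G)⁻¹ * ((q.1 : G) * q.2) * (q.2 : G)⁻¹ := by group
          _ = _ := by rw [h']; group
      have h2 : (q'.1 : G)⁻¹ * q.1 ∈ Z ⊓ C :=
        ⟨by rw [h1]; exact Z.mul_mem q'.2.2 (Z.inv_mem q.2.2),
          C.mul_mem (C.inv_mem q'.1.2) q.1.2⟩
      rw [hbot, Subgroup.mem_bot, inv_mul_eq_one] at h2
      rw [h2] at h'
      exact Prod.ext (Subtype.ext h2.symm) (Subtype.ext (mul_left_cancel h')), hf⟩)
    rw [← hb, Nat.card_prod]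
  have hsyl : Nat.card ZY = p ^ (Nat.card Y).factorization p := by
    rw [Nat.card_congr (Subgroup.subgroupOfEquivOfLe (le_sup_left : Z ≤ Y)).toEquiv]
    have hpp : p.Prime := Fact.out
    have hZc : Nat.card Z = p ^ k := by rw [hZ, Nat.card_zpowers, hk]
    have hd : Nat.card Z ∣ Nat.card Y := Subgroup.card_dvd_of_le le_sup_left
    refine Nat.dvd_antisymm ?_ ?_
    · rw [hZc] at hd ⊢
      exact Nat.pow_dvd_pow p ((Nat.Prime.pow_dvd_iff_le_factorization hpp Nat.card_pos.ne').1 hd)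
    · have h1 : p ^ (Nat.card Y).factorization p ∣ Nat.card C * Nat.card Z :=
        (Nat.ordProj_dvd _ _).trans hcardY
      exact (Nat.Coprime.pow_left _ hC.symm).dvd_of_dvd_mul_left h1
  have hy'g : IsPGroup p (Subgroup.zpowers (⟨y', hy'Y⟩ : Y)) :=
    IsPGroup.of_card (n := k') (by rw [Nat.card_zpowers, Subgroup.orderOf_mk, hk'])
  obtain ⟨Q, hQ⟩ := hy'g.exists_le_sylow
  obtain ⟨u, rfl⟩ := MulAction.exists_smul_eq Y (Sylow.ofCard ZY hsyl) Q
  have hm := hQ (Subgroup.mem_zpowers (⟨y', hy'Y⟩ : Y))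
  rw [Sylow.coe_subgroup_smul, Sylow.coe_ofCard,
    Subgroup.mem_pointwise_smul_iff_inv_smul_mem] at hm
  have hm' : (u : G)⁻¹ * y' * u ∈ Z := by
    simpa [hZY, MulAut.smul_def, Subgroup.mem_subgroupOf] using hm
  obtain ⟨a, ha, c, hcC, hu⟩ := hdec u u.2
  have hcy : c⁻¹ * y' * c ∈ Z := by
    have e : c⁻¹ * y' * c = a * ((u : G)⁻¹ * y' * u) * a⁻¹ := by rw [hu]; group
    rw [e]
    exact Z.mul_mem (Z.mul_mem ha hm') (Z.inv_mem ha)
  have hmem : y⁻¹ * (c⁻¹ * y' * c) ∈ Z ⊓ C := by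
    refine ⟨Z.mul_mem (Z.inv_mem (Subgroup.mem_zpowers y)) hcy, ?_⟩
    have h1 : y⁻¹ * c⁻¹ * y ∈ C := by
      have := (Subgroup.mem_normalizer_iff''.1 (hZn (Subgroup.mem_zpowers y)) c⁻¹).1 (C.inv_mem hcC)
      exact this
    have e : y⁻¹ * (c⁻¹ * y' * c) = (y⁻¹ * c⁻¹ * y) * (y⁻¹ * y') * c := by group
    rw [e]
    exact C.mul_mem (C.mul_mem h1 hc) hcC
  rw [hbot, Subgroup.mem_bot, inv_mul_eq_one] at hmem
  refine ⟨c⁻¹, C.inv_mem hcC, ?_⟩
  rw [hmem]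
  group


/-- Let P be a Sylow p-subgroup of a finite group G, H = P ∩ O_{p',p}(G), N = N_G(H) and D = O_{p'}(G). (a) If y is an element of p-power order of N and d ∈ D with d⁻¹ y d ∈ N, then d = d₁ d₂ with d₁ ∈ C_D(y) and d₂ ∈ C_D(H). (b) Two elements of P that are conjugate in G are conjugate in N. -/
theorem result {G : Type*} [Group G] [Finite G] {p : ℕ} [Fact p.Prime] (P : Sylow p G) :
    (∀ y ∈ Subgroup.normalizer (((P : Subgroup G) ⊓ Cfsg.pPrimePCore p G : Subgroup G) : Set G), (∃ k : ℕ, orderOf y = p ^ k) →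
      ∀ d ∈ Cfsg.pPrimeCore p G, d⁻¹ * y * d ∈ Subgroup.normalizer (((P : Subgroup G) ⊓ Cfsg.pPrimePCore p G : Subgroup G) : Set G) →
        ∃ d₁ ∈ Cfsg.pPrimeCore p G ⊓ Subgroup.centralizer ({y} : Set G),
          ∃ d₂ ∈ Cfsg.pPrimeCore p G ⊓ Subgroup.centralizer (((P : Subgroup G) ⊓ Cfsg.pPrimePCore p G : Subgroup G) : Set G), d = d₁ * d₂) ∧
    ∀ x y : G, x ∈ (P : Subgroup G) → y ∈ (P : Subgroup G) → IsConj x y →
      ∃ n ∈ Subgroup.normalizer (((P : Subgroup G) ⊓ Cfsg.pPrimePCore p G : Subgroup G) : Set G), n * x * n⁻¹ = y := by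
  set K := Cfsg.pPrimePCore p G with hK
  set D := Cfsg.pPrimeCore p G with hD
  haveI hDn : D.Normal := Cfsg.pPrimeCore_normal p G
  set H : Subgroup G := (P : Subgroup G) ⊓ K with hH
  set N := Subgroup.normalizer (H : Set G) with hN
  have hcop := CfsgLib.Comp.coprime_card_pPrimeCore p G
  have hHp : IsPGroup p H := P.2.to_le inf_le_left
  have hbot := CfsgLib.Comp.inf_eq_bot_of_isPGroup hHp hcop
  have hDN : ∀ z ∈ D, z ∈ N → z ∈ Subgroup.centralizer (H : Set G) := by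
    intro z hz hzN
    refine Subgroup.mem_centralizer_iff.2 fun h hh => ?_
    have hm : z * h * z⁻¹ * h⁻¹ ∈ H ⊓ D := by
      refine ⟨H.mul_mem ((Subgroup.mem_normalizer_iff.1 hzN h).1 hh) (H.inv_mem hh), ?_⟩
      rw [show z * h * z⁻¹ * h⁻¹ = z * (h * z⁻¹ * h⁻¹) by group]
      exact D.mul_mem hz (hDn.conj_mem _ (D.inv_mem hz) h)
    rw [hbot, Subgroup.mem_bot, mul_inv_eq_one] at hm
    exact (mul_inv_eq_iff_eq_mul.1 hm).symm
  have hCN : Subgroup.centralizer (H : Set G) ≤ N :=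
    Subgroup.centralizer_le_normalizer _
  have hA : ∀ y ∈ N, (∃ k : ℕ, orderOf y = p ^ k) → ∀ d ∈ D, d⁻¹ * y * d ∈ N →
      ∃ d₁ ∈ D ⊓ Subgroup.centralizer ({y} : Set G),
        ∃ d₂ ∈ D ⊓ Subgroup.centralizer (H : Set G), d = d₁ * d₂ := by
    intro y hyN hyp d hd hdy
    obtain ⟨c, hc, hyc⟩ := exists_conj_of_coset (C := D ⊓ Subgroup.centralizer (H : Set G))
      (Nat.Coprime.coprime_dvd_left (Subgroup.card_dvd_of_le inf_le_left) hcop) (y := y)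
      (y' := d⁻¹ * y * d)
      (fun c hc => ⟨hDn.conj_mem c hc.1 y, hDN _ (hDn.conj_mem c hc.1 y)
        (N.mul_mem (N.mul_mem hyN (hCN hc.2)) (N.inv_mem hyN))⟩) hyp
      (by
        obtain ⟨k, hk⟩ := hyp
        refine ⟨k, ?_⟩
        rw [← hk]
        simpa using orderOf_injective (MulAut.conj d⁻¹).toMonoidHom (MulAut.conj d⁻¹).injective y)
      (by
        have h1 : y⁻¹ * (d⁻¹ * y * d) ∈ D := by
          rw [show y⁻¹ * (d⁻¹ * y * d) = (y⁻¹ * d⁻¹ * y) * d by group]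
          exact D.mul_mem (by simpa using hDn.conj_mem _ (D.inv_mem hd) y⁻¹) hd
        exact ⟨h1, hDN _ h1 (N.mul_mem (N.inv_mem hyN) hdy)⟩)
    refine ⟨d * c⁻¹, ⟨D.mul_mem hd (D.inv_mem hc.1), Subgroup.mem_centralizer_singleton_iff.2 ?_⟩,
      c, hc, by group⟩
    calc d * c⁻¹ * y = d * (c⁻¹ * y * c) * c⁻¹ := by group
      _ = d * (d⁻¹ * y * d) * c⁻¹ := by rw [← hyc]
      _ = y * (d * c⁻¹) := by group
  refine ⟨hA, fun x y hx hy hxy => ?_⟩
  set π := QuotientGroup.mk' D with hπ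
  haveI hcn : (Cfsg.pCore p (G ⧸ D)).Normal := Cfsg.pCore_normal p _
  have hmap : H.map π = Cfsg.pCore p (G ⧸ D) := by
    refine le_antisymm (Subgroup.map_le_iff_le_comap.2 inf_le_right) fun z hz => ?_
    set Pq := P.mapSurjective (f := π) (QuotientGroup.mk'_surjective D) with hPq
    have hle : Cfsg.pCore p (G ⧸ D) ≤ (Pq : Subgroup (G ⧸ D)) := by
      have h := Pq.3 (IsPGroup.to_sup_of_normal_left (CfsgLib.Comp.isPGroup_pCore p (G ⧸ D)) Pq.2)
        le_sup_right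
      exact le_sup_left.trans h.le
    have hz' := hle hz
    rw [hPq, Sylow.coe_mapSurjective] at hz'
    obtain ⟨a, ha, rfl⟩ := hz'
    exact ⟨a, ⟨ha, hz⟩, rfl⟩
  obtain ⟨g, hg⟩ := isConj_iff.1 hxy
  obtain ⟨n, hn, hng⟩ : π g ∈ N.map π := by
    rw [CfsgLib.Comp.map_normalizer_eq hcop hHp, hmap, Subgroup.normalizer_eq_top]
    exact Subgroup.mem_top _
  set d := g * n⁻¹ with hd
  have hdD : d ∈ D := by
    rw [← QuotientGroup.eq_one_iff]
    change π (g * n⁻¹) = 1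
    rw [map_mul, map_inv, hng, mul_inv_cancel]
  have hKn : ∀ a b : G, a ∈ K → b * a * b⁻¹ ∈ K := fun a b ha => by
    change π (b * a * b⁻¹) ∈ Cfsg.pCore p (G ⧸ D)
    rw [map_mul, map_mul, map_inv]
    exact hcn.conj_mem _ ha _
  have hPN : (P : Subgroup G) ≤ N := fun a ha => Subgroup.mem_normalizer_fintype fun h hh =>
    ⟨(P : Subgroup G).mul_mem ((P : Subgroup G).mul_mem ha hh.1) ((P : Subgroup G).inv_mem ha),
      hKn h a hh.2⟩
  have hdy : d⁻¹ * y * d = n * x * n⁻¹ := by rw [← hg, hd]; group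
  obtain ⟨k, hk⟩ := (IsPGroup.iff_orderOf.1 P.2) ⟨y, hy⟩
  obtain ⟨d₁, hd₁, d₂, hd₂, he⟩ := hA y (hPN hy) ⟨k, by simpa using hk⟩ d hdD
    (hdy ▸ N.mul_mem (N.mul_mem hn (hPN hx)) (N.inv_mem hn))
  refine ⟨d₂ * n, N.mul_mem (hCN hd₂.2) hn, ?_⟩
  have h1 := Subgroup.mem_centralizer_singleton_iff.1 hd₁.2
  calc d₂ * n * x * (d₂ * n)⁻¹ = d₂ * (n * x * n⁻¹) * d₂⁻¹ := by group
    _ = d₂ * ((d₁ * d₂)⁻¹ * y * (d₁ * d₂)) * d₂⁻¹ := by rw [← hdy, he]
    _ = d₁⁻¹ * (y * d₁) := by group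
    _ = y := by rw [← h1]; group

end Cfsg.Agent.S1907
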