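import Cfsg.Statements.S1910
-- import your own Cfsg.Agent.* helpers here

set_option autoImplicit false
set_option linter.style.haveILetI false
open Cfsg

namespace Cfsg.Agent.S1910

open Subgroup in
theorem bot_of_isPGroup_odd {G : Type*} [Group G] [Finite G] {X Y : Subgroup G} (hX : IsPGroup 2 X) (h : X ≤ Y)
    (hY : Odd (Nat.card Y)) : X = ⊥ := by
  haveI : Fact (Nat.Prime 2) := ⟨Nat.prime_two⟩
  obtain ⟨n, hn⟩ := IsPGroup.iff_card.1 hX
  refine card_eq_one.1 (hn.trans ?_)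
  rcases Nat.eq_zero_or_pos n with h0 | h0
  · rw [h0, pow_zero]
  · exact absurd (((dvd_pow_self 2 h0.ne').trans (dvd_of_eq hn.symm)).trans (card_dvd_of_le h)) hY.not_two_dvd_nat

open Subgroup in
/-- A 2-subgroup containing a Sylow subgroup is equal to it. -/
theorem le_of_sylow {G : Type*} [Group G] [Finite G] {T X K : Subgroup G} (hT : ¬ 2 ∣ T.relIndex K)
    (hX : IsPGroup 2 X) (hTX : T ≤ X) (hXK : X ≤ K) : X ≤ T := by
  haveI : Fact (Nat.Prime 2) := ⟨Nat.prime_two⟩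
  obtain ⟨n, hn⟩ := IsPGroup.iff_card.1 hX
  have h1 : T.relIndex X ∣ 2 ^ n := hn ▸ index_dvd_card (T.subgroupOf X)
  have h2 : T.relIndex X ∣ T.relIndex K := ⟨_, (relIndex_mul_relIndex T X K hTX hXK).symm⟩
  obtain ⟨m, -, hm⟩ := (Nat.dvd_prime_pow Nat.prime_two).1 h1
  rcases Nat.eq_zero_or_pos m with h0 | h0
  · rw [h0, pow_zero] at hm
    exact relIndex_eq_one.1 hm
  · exact absurd ((dvd_pow_self 2 h0.ne').trans ((dvd_of_eq hm.symm).trans h2)) hT

open Subgroup in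
/-- Sylow conjugacy inside a subgroup. -/
theorem exists_conj_le {G : Type*} [Group G] [Finite G] {B S K : Subgroup G} (hS : IsPGroup 2 S)
    (hidx : ¬ 2 ∣ S.relIndex K) (hSK : S ≤ K) (hB : IsPGroup 2 B) (hBK : B ≤ K) :
    ∃ x ∈ K, ∀ b ∈ B, x * b * x⁻¹ ∈ S := by
  haveI : Fact (Nat.Prime 2) := ⟨Nat.prime_two⟩
  obtain ⟨R, hR⟩ := (hB.comap_of_injective K.subtype K.subtype_injective).exists_le_sylow
  let P := (hS.comap_of_injective K.subtype K.subtype_injective).toSylow (p := 2) hidx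
  obtain ⟨x, hx⟩ := MulAction.exists_smul_eq K R P
  refine ⟨x, x.2, fun b hb => ?_⟩
  have hb' : (⟨b, hBK hb⟩ : K) ∈ R := hR hb
  have h1 : x * ⟨b, hBK hb⟩ * x⁻¹ ∈ ((x • R : Sylow 2 K) : Subgroup K) := by
    rw [Sylow.coe_subgroup_smul, mem_pointwise_smul_iff_inv_smul_mem]
    simp only [MulAut.smul_def, MulAut.inv_apply, MulAut.conj_symm_apply]
    simp only [mul_assoc, inv_mul_cancel_left, inv_mul_cancel, mul_one]
    exact hb'
  rw [hx] at h1
  exact h1

open Subgroup in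
theorem conj_map_map {G : Type*} [Group G] (X : Subgroup G) (a b : G) :
    (X.map (MulAut.conj b).toMonoidHom).map (MulAut.conj a).toMonoidHom = X.map (MulAut.conj (a * b)).toMonoidHom := by
  rw [map_map]
  congr 1
  exact MonoidHom.ext fun x => by simp [mul_assoc]

open Subgroup in
theorem conj_map_one {G : Type*} [Group G] (X : Subgroup G) :
    X.map (MulAut.conj (1 : G)).toMonoidHom = X := by
  have : (MulAut.conj (1 : G)).toMonoidHom = MonoidHom.id G := MonoidHom.ext fun x => by simp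
  rw [this, map_id]

open Subgroup in
theorem mem_normalizer_of_map {G : Type*} [Group G] [Finite G] {X : Subgroup G} {g : G}
    (h : X.map (MulAut.conj g).toMonoidHom = X) : g ∈ normalizer (X : Set G) :=
  mem_normalizer_iff.2 fun n => ⟨fun hn => h ▸ mem_map_of_mem _ hn, fun hn => by
    rw [← h] at hn
    obtain ⟨m, hm, e⟩ := mem_map.1 hn
    rwa [← (MulAut.conj g).injective e]⟩

open Subgroup in
/-- Two distinct conjugates of a tightly embedded subgroup meet in a group of odd order. -/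
theorem odd_inf {G : Type*} [Group G] [Finite G] {Q : Subgroup G} (hQ : Cfsg.IsTightlyEmbedded Q) (a b : G)
    (h : Q.map (MulAut.conj a).toMonoidHom ≠ Q.map (MulAut.conj b).toMonoidHom) :
    Odd (Nat.card ↥(Q.map (MulAut.conj a).toMonoidHom ⊓ Q.map (MulAut.conj b).toMonoidHom)) := by
  have hn : a⁻¹ * b ∉ normalizer (Q : Set G) := by
    intro hm
    apply h
    have : Q.map (MulAut.conj (a⁻¹ * b)).toMonoidHom = Q := by
      ext x
      constructor
      · rintro ⟨q, hq, rfl⟩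
        exact (mem_normalizer_iff.1 hm q).1 hq
      · intro hx
        refine ⟨(a⁻¹ * b)⁻¹ * x * (a⁻¹ * b), ?_, by simp [mul_assoc]⟩
        refine (mem_normalizer_iff.1 hm _).2 ?_
        have : a⁻¹ * b * ((a⁻¹ * b)⁻¹ * x * (a⁻¹ * b)) * (a⁻¹ * b)⁻¹ = x := by group
        rwa [this]
    calc Q.map (MulAut.conj a).toMonoidHom
        = (Q.map (MulAut.conj (a⁻¹ * b)).toMonoidHom).map (MulAut.conj a).toMonoidHom := by rw [this]
      _ = _ := by rw [conj_map_map, mul_inv_cancel_left]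
  have := hQ.2 _ hn
  rw [← card_map_of_injective (f := (MulAut.conj a).toMonoidHom) (MulAut.conj a).injective,
    map_inf _ _ _ (MulAut.conj a).injective, conj_map_map, mul_inv_cancel_left] at this
  exact this

open Subgroup in
theorem map_tight {G : Type*} [Group G] [Finite G] {Q : Subgroup G} (hQ : Cfsg.IsTightlyEmbedded Q) (a : G) :
    Cfsg.IsTightlyEmbedded (Q.map (MulAut.conj a).toMonoidHom) := by
  refine ⟨?_, fun b hb => ?_⟩
  · rw [card_map_of_injective (f := (MulAut.conj a).toMonoidHom) (MulAut.conj a).injective]; exact hQ.1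
  · rw [conj_map_map]
    refine odd_inf hQ _ _ fun e => hb (mem_normalizer_of_map ?_)
    rw [conj_map_map]
    exact e.symm

open Subgroup in
/-- The facts about one side. -/
theorem side {G : Type*} [Group G] [Finite G] (Q : Subgroup G) (hQ : Cfsg.IsTightlyEmbedded Q)
    (g : G) (hg : g ∉ normalizer (Q : Set G)) (T : Subgroup G) (hT1 : T ≠ ⊥)
    (hT : T ≤ Q.map (MulAut.conj g).toMonoidHom ⊓ normalizer (Q : Set G))
    (hTsyl : IsPGroup 2 T ∧ ¬ 2 ∣ T.relIndex (Q.map (MulAut.conj g).toMonoidHom ⊓ normalizer (Q : Set G)))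
    (S : Subgroup G) (hTS : T ≤ S) (hS : S ≤ Q ⊔ T) (hSsyl : IsPGroup 2 S ∧ ¬ 2 ∣ S.relIndex (Q ⊔ T)) :
    (T ⊓ Q = ⊥ ∧ ⁅T, S ⊓ normalizer (T : Set G) ⊓ Q⁆ = ⊥ ∧
      T ⊔ (S ⊓ normalizer (T : Set G) ⊓ Q) = S ⊓ normalizer (T : Set G)) ∧
      (S ⊓ normalizer (T : Set G) ⊓ Q) ≤ Q ⊓ normalizer (Q.map (MulAut.conj g).toMonoidHom : Set G) ∧
      ∃ f : T →* (S ⊓ normalizer (T : Set G) ⊓ Q : Subgroup G), Function.Injective f := by
  haveI : Fact (Nat.Prime 2) := ⟨Nat.prime_two⟩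
  set Q' := Q.map (MulAut.conj g).toMonoidHom with hQ'
  have hne : Q' ≠ Q := fun e => hg (mem_normalizer_of_map e)
  set A := S ⊓ normalizer (T : Set G) ⊓ Q with hA
  have hTN : T ≤ normalizer (Q : Set G) := hT.trans inf_le_right
  have hodd : Odd (Nat.card ↥(Q' ⊓ Q)) := by
    have := odd_inf hQ g 1 (by rw [conj_map_one]; exact hne)
    rwa [conj_map_one] at this
  have hTQ : T ⊓ Q = ⊥ := bot_of_isPGroup_odd (hTsyl.1.to_le inf_le_left)
    (inf_le_inf_right _ (hT.trans inf_le_left)) hodd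
  have hSN : S ≤ normalizer (Q : Set G) := hS.trans (sup_le le_normalizer hTN)
  have hdec : ∀ s ∈ S, ∃ q ∈ Q, q ∈ S ∧ ∃ τ ∈ T, s = q * τ := by
    intro s hs
    have h1 : s ∈ ((Q ⊔ T : Subgroup G) : Set G) := hS hs
    rw [coe_mul_of_right_le_normalizer_left Q T hTN] at h1
    obtain ⟨q, hq, τ, hτ, rfl⟩ := h1
    refine ⟨q, hq, ?_, τ, hτ, rfl⟩
    have := mul_mem hs (inv_mem (hTS hτ))
    rwa [mul_inv_cancel_right] at this
  have hcomm : ∀ t ∈ T, ∀ a ∈ A, t * a = a * t := by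
    intro t ht a ha
    have h1 : t * a * t⁻¹ * a⁻¹ ∈ T ⊓ Q := by
      refine mem_inf.2 ⟨?_, mul_mem ((mem_normalizer_iff.1 (hTN ht) a).1 (mem_inf.1 ha).2) (inv_mem (mem_inf.1 ha).2)⟩
      have := mul_mem ht ((mem_normalizer_iff.1 (mem_inf.1 (mem_inf.1 ha).1).2 t⁻¹).1 (inv_mem ht))
      simpa [mul_assoc] using this
    rw [hTQ, mem_bot, mul_inv_eq_one, mul_inv_eq_iff_eq_mul] at h1
    exact h1
  have hsup : T ⊔ A = S ⊓ normalizer (T : Set G) := by
    refine le_antisymm (sup_le (le_inf hTS le_normalizer) inf_le_left) fun n hn => ?_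
    obtain ⟨q, hq, hqS, τ, hτ, rfl⟩ := hdec n (mem_inf.1 hn).1
    have hqN : q ∈ normalizer (T : Set G) := by
      have := mul_mem (mem_inf.1 hn).2 (inv_mem (le_normalizer (H := T) hτ))
      rwa [mul_inv_cancel_right] at this
    exact mul_mem (mem_sup_right (mem_inf.2 ⟨mem_inf.2 ⟨hqS, hqN⟩, hq⟩)) (mem_sup_left hτ)
  refine ⟨⟨hTQ, eq_bot_iff.2 (commutator_le.2 fun t ht a ha => ?_), hsup⟩, fun a ha => ?_, ?_⟩
  · rw [mem_bot, commutatorElement_def, hcomm t ht a ha]; group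
  · refine mem_inf.2 ⟨(mem_inf.1 ha).2, mem_normalizer_of_map ?_⟩
    by_contra e
    apply hT1
    refine bot_of_isPGroup_odd hTsyl.1 ?_ (odd_inf hQ (a * g) g (by rw [← conj_map_map]; exact e))
    rw [← conj_map_map]
    refine fun t ht => mem_inf.2 ⟨⟨t, (mem_inf.1 (hT ht)).1, ?_⟩, (mem_inf.1 (hT ht)).1⟩
    simp [← hcomm t ht a ha]
  · by_cases hNS : S ≤ normalizer (T : Set G)
    · -- here A = S ∩ Q, which receives a conjugate of T
      have hT'Q : ∀ t ∈ T, g⁻¹ * t * g ∈ Q := by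
        intro t ht
        obtain ⟨q, hq, rfl⟩ := (mem_inf.1 (hT ht)).1
        simpa [mul_assoc] using hq
      obtain ⟨x, hx, hxS⟩ := exists_conj_le hSsyl.1 hSsyl.2 hS
        (hTsyl.1.map (MulAut.conj g⁻¹).toMonoidHom) (by
          rintro y ⟨t, ht, rfl⟩
          exact mem_sup_left (by simpa using hT'Q t ht))
      have hxN : x ∈ normalizer (Q : Set G) := sup_le le_normalizer hTN hx
      let f : T →* (A : Subgroup G) := MonoidHom.codRestrict
        ((MulAut.conj (x * g⁻¹)).toMonoidHom.comp T.subtype) A fun t => by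
        have h1 : x * (g⁻¹ * t * g) * x⁻¹ ∈ S := by simpa using hxS _ (mem_map_of_mem _ t.2)
        have h2 : (MulAut.conj (x * g⁻¹)) (t : G) = x * (g⁻¹ * t * g) * x⁻¹ := by simp [mul_assoc]
        change (MulAut.conj (x * g⁻¹)) (t : G) ∈ A
        rw [h2]
        exact mem_inf.2 ⟨mem_inf.2 ⟨h1, hNS h1⟩, (mem_normalizer_iff.1 hxN _).1 (hT'Q t t.2)⟩
      exact ⟨f, fun a b h => Subtype.ext ((MulAut.conj (x * g⁻¹)).injective (congrArg Subtype.val h))⟩
    · -- some element of S moves T inside N_S(T)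
      set N := S ⊓ normalizer (T : Set G) with hNdef
      haveI : Group.IsNilpotent S := hSsyl.1.isNilpotent
      have hlt : N.subgroupOf S < ⊤ := by
        rw [lt_top_iff_ne_top, ne_eq, subgroupOf_eq_top]
        exact fun h => hNS (h.trans inf_le_right)
      obtain ⟨s, hsN, hs⟩ := SetLike.exists_of_lt (Group.normalizerCondition_of_isNilpotent _ hlt)
      have hsT : (s : G) ∉ normalizer (T : Set G) := fun h => hs (mem_subgroupOf.2 (mem_inf.2 ⟨s.2, h⟩))
      have hsN' : ∀ t ∈ T, (s : G) * t * (s : G)⁻¹ ∈ N := by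
        intro t ht
        have := (mem_normalizer_iff.1 hsN ⟨t, hTS ht⟩).1 (mem_subgroupOf.2 (mem_inf.2 ⟨hTS ht, le_normalizer ht⟩))
        simpa [mem_subgroupOf] using this
      have hmove : Q'.map (MulAut.conj (s : G)).toMonoidHom ≠ Q' := by
        intro e
        apply hsT
        have hsub : ∀ t ∈ T, (s : G) * t * (s : G)⁻¹ ∈ T := fun t ht => by
          refine le_of_sylow hTsyl.2 (hSsyl.1.to_le (inf_le_left : S ⊓ (Q' ⊓ normalizer (Q : Set G)) ≤ S))
            (le_inf hTS hT) inf_le_right (mem_inf.2 ⟨mul_mem (mul_mem s.2 (hTS ht)) (inv_mem s.2), ?_⟩)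
          exact mem_inf.2 ⟨e ▸ mem_map_of_mem _ (mem_inf.1 (hT ht)).1,
            mul_mem (mul_mem (hSN s.2) (hTN ht)) (inv_mem (hSN s.2))⟩
        refine mem_normalizer_of_map (eq_of_le_of_card_ge ?_ ?_)
        · rintro y ⟨t, ht, rfl⟩
          exact hsub t ht
        · rw [card_map_of_injective (f := (MulAut.conj (s : G)).toMonoidHom) (MulAut.conj (s : G)).injective]
      have hodd' : Odd (Nat.card ↥(Q'.map (MulAut.conj (s : G)).toMonoidHom ⊓ Q')) := by
        rw [conj_map_map]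
        exact odd_inf hQ _ _ (by rw [← conj_map_map]; exact hmove)
      -- projection of N = T × A onto A
      have hNmem : ∀ t ∈ T, ∃ a ∈ A, ∃ τ ∈ T, (s : G) * t * (s : G)⁻¹ = a * τ := by
        intro t ht
        obtain ⟨q, hq, hqS, τ, hτ, e⟩ := hdec _ (mem_inf.1 (hsN' t ht)).1
        refine ⟨q, mem_inf.2 ⟨mem_inf.2 ⟨hqS, ?_⟩, hq⟩, τ, hτ, e⟩
        have := mul_mem (mem_inf.1 (hsN' t ht)).2 (inv_mem (le_normalizer (H := T) hτ))
        rwa [e, mul_inv_cancel_right] at this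
      choose a ha τ hτ he using hNmem
      have huniq : ∀ a₁ ∈ A, ∀ a₂ ∈ A, ∀ τ₁ ∈ T, ∀ τ₂ ∈ T, a₁ * τ₁ = a₂ * τ₂ → a₁ = a₂ := by
        intro a₁ h1 a₂ h2 τ₁ h3 τ₂ h4 e
        have h5 : a₂⁻¹ * a₁ ∈ T ⊓ Q := by
          refine mem_inf.2 ⟨?_, (mul_mem (inv_mem h2) h1 : a₂⁻¹ * a₁ ∈ A).2⟩
          have : a₂⁻¹ * a₁ = τ₂ * τ₁⁻¹ := by
            rw [eq_mul_inv_iff_mul_eq, mul_assoc, e, inv_mul_cancel_left]
          rw [this]
          exact mul_mem h4 (inv_mem h3)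
        rw [hTQ, mem_bot, inv_mul_eq_one] at h5
        exact h5.symm
      let f : T →* (A : Subgroup G) := MonoidHom.mk' (fun t => ⟨a t t.2, ha t t.2⟩) fun x y => by
        refine Subtype.ext (huniq _ (ha _ _) _ (mul_mem (ha x x.2) (ha y y.2)) _ (hτ _ (x * y).2) _
          (mul_mem (hτ x x.2) (hτ y y.2)) ?_)
        rw [← he]
        calc (s : G) * ((x : G) * y) * (s : G)⁻¹
            = ((s : G) * x * (s : G)⁻¹) * ((s : G) * y * (s : G)⁻¹) := by group
          _ = a x x.2 * τ x x.2 * (a y y.2 * τ y y.2) := by rw [← he x x.2, ← he y y.2]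
          _ = a x x.2 * (τ x x.2 * a y y.2) * τ y y.2 := by group
          _ = _ := by rw [hcomm _ (hτ x x.2) _ (ha y y.2)]; simp [mul_assoc]
      refine ⟨f, (injective_iff_map_eq_one f).2 fun t ht => Subtype.ext ?_⟩
      have h1 : (s : G) * t * (s : G)⁻¹ ∈ T := by
        have : a t t.2 = 1 := congrArg Subtype.val ht
        rw [he t t.2, this, one_mul]
        exact hτ _ _
      have h2 : (s : G) * t * (s : G)⁻¹ ∈ T.map (MulAut.conj (s : G)).toMonoidHom ⊓ T :=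
        mem_inf.2 ⟨mem_map_of_mem _ t.2, h1⟩
      rw [bot_of_isPGroup_odd (hTsyl.1.to_le inf_le_right)
        (inf_le_inf (map_mono (hT.trans inf_le_left)) (hT.trans inf_le_left)) hodd', mem_bot,
        conj_eq_one_iff] at h2
      exact h2

/-- Let Q be a tightly embedded subgroup of a finite group G, g an element outside N_G(Q), T a nontrivial Sylow 2-subgroup of Q^g ∩ N_G(Q), and S a Sylow 2-subgroup of QT containing T. Then T ∩ Q = 1, and N_S(T) is the direct product of T and N_S(T) ∩ Q, with N_S(T) ∩ Q isomorphic to T. -/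
theorem result {G : Type*} [Group G] [Finite G] (Q : Subgroup G) (hQ : Cfsg.IsTightlyEmbedded Q)
    (g : G) (hg : g ∉ Subgroup.normalizer (Q : Set G))
    (T : Subgroup G) (hT1 : T ≠ ⊥) (hT : T ≤ Q.map (MulAut.conj g).toMonoidHom ⊓ Subgroup.normalizer (Q : Set G))
    (hTsyl : IsPGroup 2 T ∧ ¬ 2 ∣ T.relIndex (Q.map (MulAut.conj g).toMonoidHom ⊓ Subgroup.normalizer (Q : Set G)))
    (S : Subgroup G) (hTS : T ≤ S) (hS : S ≤ Q ⊔ T) (hSsyl : IsPGroup 2 S ∧ ¬ 2 ∣ S.relIndex (Q ⊔ T)) :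
    T ⊓ Q = ⊥ ∧
      T ⊓ (S ⊓ Subgroup.normalizer (T : Set G) ⊓ Q) = ⊥ ∧
      ⁅T, S ⊓ Subgroup.normalizer (T : Set G) ⊓ Q⁆ = ⊥ ∧
      T ⊔ (S ⊓ Subgroup.normalizer (T : Set G) ⊓ Q) = S ⊓ Subgroup.normalizer (T : Set G) ∧
      Nonempty (↥(S ⊓ Subgroup.normalizer (T : Set G) ⊓ Q) ≃* T) := by
  open Subgroup in
  haveI : Fact (Nat.Prime 2) := ⟨Nat.prime_two⟩
  set A := S ⊓ normalizer (T : Set G) ⊓ Q with hA
  set Q' := Q.map (MulAut.conj g).toMonoidHom with hQ'
  obtain ⟨⟨h1, h2, h3⟩, hAM, f, hf⟩ := side Q hQ g hg T hT1 hT hTsyl S hTS hS hSsyl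
  refine ⟨h1, le_bot_iff.1 (le_trans (inf_le_inf_left _ inf_le_right) h1.le), h2, h3, ?_⟩
  have hg' : g⁻¹ ∉ normalizer (Q' : Set G) := by
    intro h
    apply hg
    have h4 : ∀ q, q ∈ Q → g⁻¹ * q * g ∈ Q := by
      intro q hq
      obtain ⟨m, hm, e⟩ := (mem_normalizer_iff.1 (inv_mem h) q).2
        (by rw [inv_inv]; exact mem_map_of_mem (MulAut.conj g).toMonoidHom hq)
      have : g⁻¹ * q * g = m := by rw [← e]; simp [mul_assoc]
      rwa [this]
    refine inv_mem_iff.1 (mem_normalizer_of_map (eq_of_le_of_card_ge ?_ ?_))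
    · rintro y ⟨q, hq, rfl⟩
      simpa using h4 q hq
    · rw [card_map_of_injective (f := (MulAut.conj g⁻¹).toMonoidHom) (MulAut.conj g⁻¹).injective]
  have hback : Q'.map (MulAut.conj g⁻¹).toMonoidHom = Q := by rw [conj_map_map, inv_mul_cancel, conj_map_one]
  -- a Sylow 2-subgroup A₀ of Q ∩ N(Q') containing A
  set M := Q ⊓ normalizer (Q' : Set G) with hM
  obtain ⟨R, hR⟩ := ((hSsyl.1.to_le (inf_le_left.trans inf_le_left : A ≤ S)).comap_of_injective M.subtype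
    M.subtype_injective).exists_le_sylow
  set A₀ := (R : Subgroup M).map M.subtype with hA₀
  have hAA₀ : A ≤ A₀ := fun x hx => ⟨⟨x, hAM hx⟩, hR hx, rfl⟩
  have hA₀M : A₀ ≤ M := map_subtype_le _
  have hA₀p : IsPGroup 2 A₀ := R.2.map _
  have hA₀i : ¬ 2 ∣ A₀.relIndex M := by
    have : A₀.subgroupOf M = (R : Subgroup M) := comap_map_eq_self_of_injective M.subtype_injective _
    change ¬ 2 ∣ (A₀.subgroupOf M).index
    rw [this]
    exact R.not_dvd_index
  have hA₀1 : A₀ ≠ ⊥ := by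
    intro e
    apply hT1
    rw [eq_bot_iff]
    intro t ht
    have : (f ⟨t, ht⟩ : G) = 1 := by
      have := hAA₀ (f ⟨t, ht⟩).2
      rwa [e, mem_bot] at this
    have h9 : f ⟨t, ht⟩ = f 1 := by rw [map_one]; exact Subtype.ext this
    exact mem_bot.2 (congrArg Subtype.val (hf h9))
  obtain ⟨R', hR'⟩ := (hA₀p.comap_of_injective (Q' ⊔ A₀).subtype (Q' ⊔ A₀).subtype_injective).exists_le_sylow
  have h5 := side Q' (map_tight hQ g) g⁻¹ hg' A₀ hA₀1 (by rw [hback]; exact hA₀M)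
    ⟨hA₀p, by rw [hback]; exact hA₀i⟩ ((R' : Subgroup ↥(Q' ⊔ A₀)).map (Q' ⊔ A₀).subtype)
    (fun x hx => ⟨⟨x, mem_sup_right hx⟩, hR' hx, rfl⟩) (map_subtype_le _) ⟨R'.2.map _, by
      change ¬ 2 ∣ (((R' : Subgroup ↥(Q' ⊔ A₀)).map (Q' ⊔ A₀).subtype).subgroupOf (Q' ⊔ A₀)).index
      rw [show ((R' : Subgroup ↥(Q' ⊔ A₀)).map (Q' ⊔ A₀).subtype).subgroupOf (Q' ⊔ A₀) = (R' : Subgroup _) from
        comap_map_eq_self_of_injective (Q' ⊔ A₀).subtype_injective _]
      exact R'.not_dvd_index⟩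
  obtain ⟨-, hBM, f', hf'⟩ := h5
  rw [hback] at hBM
  -- A₀ embeds in a 2-subgroup of Q' ∩ N(Q), hence has order at most |T|
  obtain ⟨x, -, hx⟩ := exists_conj_le hTsyl.1 hTsyl.2 hT
    ((hA₀p.of_surjective f'.rangeRestrict f'.rangeRestrict_surjective).map (Subgroup.subtype _)) (by
      rintro y ⟨z, ⟨w, rfl⟩, rfl⟩
      exact hBM (f' w).2)
  have hle : Nat.card A ≤ Nat.card T := by
    refine (card_le_of_le hAA₀).trans ?_
    refine Nat.card_le_card_of_injective (fun a => (⟨x * (f' a : G) * x⁻¹,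
      hx _ ⟨f' a, ⟨a, rfl⟩, rfl⟩⟩ : T)) fun a b h => hf' (Subtype.ext ?_)
    exact mul_left_cancel (mul_right_cancel (congrArg Subtype.val h))
  exact ⟨(MulEquiv.ofBijective f ((Nat.bijective_iff_injective_and_card _).2
    ⟨hf, le_antisymm (Nat.card_le_card_of_injective f hf) hle⟩)).symm⟩

end Cfsg.Agent.S1910
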