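import Cfsg.Statements.S1915
import Cfsg.Agent.Lib.RankOne.FourAction
import Cfsg.Agent.Lib.Comp.Components
-- import your own Cfsg.Agent.* helpers here

set_option autoImplicit false
open Cfsg

namespace Cfsg.Agent.S1915

/-- Let A be a semisimple subgroup (A = E(A)) of a finite group and U a Klein four-group normalizing A. If the subgroup of A generated by the normalizers N_A(V) of the nontrivial subgroups V of U has 2-rank exactly 1, then A has 2-rank exactly 1. -/
theorem result {G : Type*} [Group G] [Finite G] (A : Subgroup G) (hA : Cfsg.layer ↥A = ⊤)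
    (U : Subgroup G) (hU : IsKleinFour U) (hUA : U ≤ Subgroup.normalizer (A : Set G))
    (hΓ : Cfsg.PRankLE 2 1 ↥(⨆ V : {V : Subgroup G // V ≤ U ∧ V ≠ ⊥}, A ⊓ Subgroup.normalizer ((V : Subgroup G) : Set G)) ∧
      ¬ Cfsg.PRankLE 2 0 ↥(⨆ V : {V : Subgroup G // V ≤ U ∧ V ≠ ⊥}, A ⊓ Subgroup.normalizer ((V : Subgroup G) : Set G))) :
    Cfsg.PRankLE 2 1 A ∧ ¬ Cfsg.PRankLE 2 0 A := by
  classical
  haveI : Fact (Nat.Prime 2) := ⟨Nat.prime_two⟩
  have hperf : ⁅(⊤ : Subgroup A), (⊤ : Subgroup A)⁆ = ⊤ := by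
    rw [← hA]; exact CfsgLib.Comp.commutator_layer_self A
  set Γ := ⨆ V : {V : Subgroup G // V ≤ U ∧ V ≠ ⊥}, A ⊓ Subgroup.normalizer ((V : Subgroup G) : Set G)
  have hΓA : Γ ≤ A := iSup_le fun _ => inf_le_left
  have hU4 : Nat.card U = 4 := IsKleinFour.card_four
  have hU2 : ∀ u ∈ U, u * u = 1 := fun u hu => congrArg Subtype.val (IsKleinFour.mul_self (⟨u, hu⟩ : U))
  have hfix : ∀ u ∈ U, u ≠ 1 → ∀ x ∈ A, ∀ y ∈ A, x * x = 1 → y * y = 1 → x ≠ 1 → y ≠ 1 →
      Commute x y → Commute u x → Commute u y → x = y := by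
    intro u hu hu1 x hx y hy hxx hyy hx1 hy1 hxy hux huy
    by_contra hne
    have hV : Subgroup.zpowers u ≤ U ∧ Subgroup.zpowers u ≠ ⊥ :=
      ⟨Subgroup.zpowers_le.2 hu, fun e => hu1 (Subgroup.zpowers_eq_bot.1 e)⟩
    have hmem : ∀ w ∈ A, Commute u w → w ∈ Γ := fun w hw huw =>
      le_iSup (fun V : {V : Subgroup G // V ≤ U ∧ V ≠ ⊥} =>
        A ⊓ Subgroup.normalizer ((V : Subgroup G) : Set G)) ⟨_, hV⟩
        ⟨hw, Subgroup.centralizer_le_normalizer (Subgroup.zpowers u : Set G) (Subgroup.mem_centralizer_iff.2 fun v hv => by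
          obtain ⟨i, rfl⟩ := Subgroup.mem_zpowers_iff.1 hv
          exact (huw.zpow_left i).eq)⟩
    obtain ⟨E, -, hE4, hEc, hEsq⟩ := CfsgLib.Invol.exists_four (T := Γ)
      (z := ⟨x, hmem x hx hux⟩) (x := ⟨y, hmem y hy huy⟩)
      (Subtype.ext hxx) (Subtype.ext hyy) (Subtype.ext hxy.eq)
      (fun e => hx1 (congrArg Subtype.val e)) (fun e => hy1 (congrArg Subtype.val e))
      (fun e => hne (congrArg Subtype.val e).symm)
    have h := hΓ.1 E hEc (fun a ha => by rw [sq]; exact hEsq a ha)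
    rw [hE4] at h
    norm_num at h
  have key := CfsgLib.RankOne.eq_of_four_action A U hperf hUA hU4 hU2 hfix
  refine ⟨fun E hE hE2 => ?_, fun h0 => hΓ.2 fun E hE hE2 => ?_⟩
  · rcases eq_or_ne E ⊥ with rfl | hne
    · simp
    obtain ⟨a, haE, ha1⟩ := E.bot_or_exists_ne_one.resolve_left hne
    have hsub : (E : Set A) ⊆ {1, a} := fun b hb => by
      rcases eq_or_ne b 1 with e | e
      · exact Or.inl e
      · refine Or.inr (Subtype.ext (key b b.2 a a.2 ?_ ?_ (fun h => e (Subtype.ext h))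
          (fun h => ha1 (Subtype.ext h)) ?_))
        · have := hE2 b hb; rw [sq] at this; exact congrArg Subtype.val this
        · have := hE2 a haE; rw [sq] at this; exact congrArg Subtype.val this
        · exact congrArg (Subtype.val ∘ Subtype.val) (hE.is_comm.comm ⟨b, hb⟩ ⟨a, haE⟩)
    have h := Set.ncard_le_ncard hsub (Set.toFinite _)
    have h2 : ({1, a} : Set A).ncard ≤ 2 := (Set.ncard_insert_le _ _).trans (by simp)
    rw [← Nat.card_coe_set_eq, SetLike.coe_sort_coe] at h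
    omega
  · have hinj := Subgroup.inclusion_injective hΓA
    have h := h0 (E.map (Subgroup.inclusion hΓA)) ?_ ?_
    · rwa [Subgroup.card_map_of_injective hinj] at h
    · haveI := hE
      infer_instance
    · rintro _ ⟨b, hb, rfl⟩
      rw [← map_pow, hE2 b hb, map_one]

end Cfsg.Agent.S1915
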