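import Cfsg.Statements.S1921
import Cfsg.Agent.Lib.Comp.Components

set_option autoImplicit false
set_option linter.style.haveILetI false
open Cfsg

namespace Cfsg.Agent.S1921

/-- Let a be an involution of a finite group H and L a component of H with a L a⁻¹ ≠ L; put M = ⟨L, aLa⁻¹⟩ and let J be the subgroup generated by the elements x · a x a⁻¹ with x ∈ L (the diagonal). Then every element of M outside J·Z(M) generates M together with J. -/
theorem result {H : Type*} [Group H] [Finite H] (a : H) (ha : orderOf a = 2) (L : Subgroup H) (hL : Cfsg.IsComponent L)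
    (hLa : L.map (MulAut.conj a).toMonoidHom ≠ L) (x : H) (hxM : x ∈ L ⊔ L.map (MulAut.conj a).toMonoidHom)
    (hxJ : x ∉ Subgroup.closure {y : H | ∃ l ∈ L, y = l * (a * l * a⁻¹)} ⊔
      ((L ⊔ L.map (MulAut.conj a).toMonoidHom) ⊓ Subgroup.centralizer ((L ⊔ L.map (MulAut.conj a).toMonoidHom : Subgroup H) : Set H))) :
    Subgroup.closure {y : H | ∃ l ∈ L, y = l * (a * l * a⁻¹)} ⊔ Subgroup.zpowers x = L ⊔ L.map (MulAut.conj a).toMonoidHom := by
  open Subgroup CfsgLib.Comp in
  set L' := L.map (MulAut.conj a).toMonoidHom with hL'def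
  set M := L ⊔ L' with hMdef
  have hL' : Cfsg.IsComponent L' := isComponent_map_conj hL a
  have hcomm : ∀ l ∈ L, ∀ m ∈ L', l * m = m * l := fun l hl m hm =>
    (mem_centralizer_iff.1 (((component_eq_or_le_centralizer hL hL').resolve_left (Ne.symm hLa)) hl) m hm).symm
  have hconj : ∀ l ∈ L, a * l * a⁻¹ ∈ L' := fun l hl => ⟨l, hl, rfl⟩
  set J := Subgroup.closure {y : H | ∃ l ∈ L, y = l * (a * l * a⁻¹)} with hJdef
  have hJ : ∀ l ∈ L, l * (a * l * a⁻¹) ∈ J := fun l hl => subset_closure ⟨l, hl, rfl⟩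
  have hJM : J ≤ M := (closure_le M).2 (by
    rintro y ⟨l, hl, rfl⟩
    exact mul_mem (mem_sup_left hl) (mem_sup_right (hconj l hl)))
  set S := J ⊔ zpowers x with hSdef
  refine le_antisymm (sup_le hJM (zpowers_le.2 hxM)) ?_
  have hn : L' ≤ normalizer (L : Set H) :=
    (le_layer hL').trans (layer_le_normalizer_component hL)
  obtain ⟨u, hu, m, ⟨v, hv, rfl⟩, rfl⟩ := exists_mul_of_mem_sup hn hxM
  rw [MulEquiv.coe_toMonoidHom, MulAut.conj_apply] at hxJ hxM hSdef
  set j := v * (a * v * a⁻¹) with hj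
  set w := u * v⁻¹ with hw
  have hwL : w ∈ L := mul_mem hu (inv_mem hv)
  have hxw : u * (a * v * a⁻¹) = w * j := by rw [hw, hj]; group
  have hwS : w ∈ S ⊓ L := by
    refine Subgroup.mem_inf.2 ⟨?_, hwL⟩
    have h1 : w = u * (a * v * a⁻¹) * j⁻¹ := by rw [hxw]; group
    rw [h1, hSdef]
    exact mul_mem (mem_sup_right (mem_zpowers _)) (inv_mem (mem_sup_left (hJ v hv)))
  have hwc : w ∉ centralizer (L : Set H) := by
    intro hc
    apply hxJ
    rw [hxw]
    refine mul_mem (mem_sup_right ⟨mem_sup_left hwL, ?_⟩) (mem_sup_left (hJ v hv))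
    have hle : M ≤ centralizer ({w} : Set H) := sup_le
      (fun l hl => mem_centralizer_singleton_iff.2 (mem_centralizer_iff.1 hc l hl))
      (fun m hm => mem_centralizer_singleton_iff.2 (hcomm w hwL m hm).symm)
    exact mem_centralizer_iff.2 fun y hy => mem_centralizer_singleton_iff.1 (hle hy)
  -- `S ∩ L` is normal in `L`
  have hnorm : L ≤ normalizer ((S ⊓ L : Subgroup H) : Set H) := by
    refine le_normalizer_of_conj_mem' fun l hl y hy => Subgroup.mem_inf.2 ⟨?_, mul_mem (mul_mem hl (Subgroup.mem_inf.1 hy).2) (inv_mem hl)⟩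
    have h1 : l * y * l⁻¹ = (l * (a * l * a⁻¹)) * y * (l * (a * l * a⁻¹))⁻¹ := by
      rw [mul_inv_rev, mul_assoc l (a * l * a⁻¹) y, ← hcomm y (Subgroup.mem_inf.1 hy).2 _ (hconj l hl)]
      group
    rw [h1, hSdef]
    exact mul_mem (mul_mem (mem_sup_left (hJ l hl)) (Subgroup.mem_inf.1 hy).1) (inv_mem (mem_sup_left (hJ l hl)))
  have hLS : L ≤ S := by
    rcases (haveI := normal_subgroupOf_of_le_normalizer hnorm; normal_eq_top_or_le_center hL.2 ((S ⊓ L).subgroupOf L)) with h | h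
    · exact (subgroupOf_eq_top.1 h).trans inf_le_left
    · exfalso
      refine hwc (mem_centralizer_iff.2 fun l hl => ?_)
      exact congrArg Subtype.val (mem_center_iff.1 (h (show (⟨w, hwL⟩ : L) ∈ (S ⊓ L).subgroupOf L from hwS)) ⟨l, hl⟩)
  refine sup_le hLS ?_
  rintro _ ⟨l, hl, rfl⟩
  have h1 : (MulAut.conj a).toMonoidHom l = l⁻¹ * (l * (a * l * a⁻¹)) := by
    rw [MulEquiv.coe_toMonoidHom, MulAut.conj_apply]; group
  rw [h1, hSdef]
  exact mul_mem (inv_mem (hLS hl)) (mem_sup_left (hJ l hl))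
where
  le_normalizer_of_conj_mem' {A U : Subgroup H} (h : ∀ b ∈ A, ∀ u ∈ U, b * u * b⁻¹ ∈ U) :
      A ≤ Subgroup.normalizer (U : Set H) := by
    intro b hb
    rw [Subgroup.mem_normalizer_iff]
    refine fun u => ⟨h b hb u, fun hu => ?_⟩
    simpa [mul_assoc] using h b⁻¹ (inv_mem hb) _ hu

end Cfsg.Agent.S1921
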