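import Cfsg.Statements.S1922
import Cfsg.Agent.Lib.Invol.UniquePoint

set_option autoImplicit false
open Cfsg CfsgLib.Invol CfsgLib.Invol.UP

namespace Cfsg.Agent.S1922

/-- Let z be an involution of a finite group G and H a proper subgroup such that z lies in gHg⁻¹ exactly when g ∈ H. Then the following are equivalent: (1) for every conjugate t ≠ z of z commuting with z, the product zt lies in gHg⁻¹ exactly when g ∈ H; (2) z lies in the centre of some Sylow 2-subgroup of G, and for every conjugate t ≠ z of z commuting with z, the centralizer of zt is contained in H. -/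
theorem result {G : Type*} [Group G] [Finite G] (z : G) (hz : orderOf z = 2) (H : Subgroup G) (hH : H ≠ ⊤)
    (h0 : ∀ g : G, z ∈ H.map (MulAut.conj g).toMonoidHom ↔ g ∈ H) :
    (∀ t : G, IsConj z t → t ≠ z → t * z = z * t → ∀ g : G, z * t ∈ H.map (MulAut.conj g).toMonoidHom ↔ g ∈ H) ↔
      ((∃ P : Sylow 2 G, z ∈ (Subgroup.center ↥(P : Subgroup G)).map (P : Subgroup G).subtype) ∧
        ∀ t : G, IsConj z t → t ≠ z → t * z = z * t → Subgroup.centralizer ({z * t} : Set G) ≤ H) := by
  haveI : Fact (Nat.Prime 2) := ⟨Nat.prime_two⟩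
  have hfix : ∀ g : G, g⁻¹ * z * g ∈ H ↔ g ∈ H := fun g => by
    rw [← mem_map_conj_iff]; exact h0 g
  have hzH : z ∈ H := by simpa using (hfix 1).2 (one_mem H)
  have hcH : ∀ g : G, Commute g z → g ∈ H := fun g hg => (hfix g).1 (by
    rw [mul_assoc, ← hg.eq, inv_mul_cancel_left]; exact hzH)
  constructor
  · intro h1
    have h : UPHyp z H := ⟨hz, hfix, fun t ht hne hc g => by
      rw [← mem_map_conj_iff]; exact h1 t ht hne hc g⟩
    refine ⟨?_, fun t ht hne hc g hg => ?_⟩
    · have hK : ¬(⊤ : Subgroup G) ≤ H := fun e => hH (top_le_iff.1 e)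
      obtain ⟨R, hR, hRz⟩ := h.two_central _ ⊤ rfl hK z (IsConj.refl z) hzH trivial
      obtain ⟨P, hP⟩ := hR.two.exists_le_sylow
      have hPR : R = (P : Subgroup G) :=
        Subgroup.eq_of_le_of_card_ge hP (hR.max _ le_top P.isPGroup')
      have hzR : z ∈ R := hR.mem_invol trivial hz fun r hr => (hRz r hr).symm
      refine ⟨P, ⟨z, hPR ▸ hzR⟩, Subgroup.mem_center_iff.2 fun r => Subtype.ext ?_, rfl⟩
      exact (hRz r.1 (hPR.symm ▸ r.2)).eq
    · exact h.mem_of_commute_mul (IsConj.refl z) hzH ht hne hc.symm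
        (Subgroup.mem_centralizer_singleton_iff.1 hg)
  · rintro ⟨⟨P, hzP⟩, hC⟩ t ht hne hc g
    obtain ⟨zc, hzc, hze⟩ := hzP
    have hPz : ∀ r ∈ (P : Subgroup G), Commute r z := fun r hr => by
      rw [← hze]
      exact congrArg Subtype.val (Subgroup.mem_center_iff.1 hzc ⟨r, hr⟩)
    have hPH : (P : Subgroup G) ≤ H := fun r hr => hcH r (hPz r hr)
    have hzt : z * t ∈ H :=
      hcH _ ((Commute.refl z).mul_left (show Commute t z from hc))
    rw [mem_map_conj_iff]
    refine ⟨fun hg => ?_, fun hg => mul_mem (mul_mem (inv_mem hg) hzt) hg⟩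
    have hto : orderOf t = 2 := by rw [orderOf_eq_of_isConj ht, hz]
    have hvo : orderOf (g⁻¹ * (z * t) * g) = 2 := by
      rw [orderOf_conj_inv_eq]
      refine invol_of_mul_self ?_ fun e => hne ?_
      · rw [(show Commute t z from hc).mul_mul_mul_comm, invol_mul_self hz, invol_mul_self hto,
          one_mul]
      · have := eq_inv_of_mul_eq_one_right e
        rwa [invol_inv hz] at this
    obtain ⟨⟨k, hk⟩, hkP⟩ := exists_conj_invol_mem_sylow (P.subtype hPH)
      (x := (⟨_, hg⟩ : H)) (by rwa [← Subgroup.orderOf_coe])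
    have hkm : k * (g⁻¹ * (z * t) * g) * k⁻¹ ∈ (P : Subgroup G) := hkP
    have hcomm : Commute (g * k⁻¹ * z * (g * k⁻¹)⁻¹) (z * t) := by
      have h2 := (hPz _ hkm).symm.map (MulAut.conj (g * k⁻¹)).toMonoidHom
      simpa [mul_assoc] using h2
    have hm := hC t ht hne hc (Subgroup.mem_centralizer_singleton_iff.2 hcomm)
    have h3 : (g * k⁻¹)⁻¹ ∈ H := (hfix _).1 (by simpa [mul_assoc] using hm)
    have h4 := mul_mem (inv_mem_iff.1 h3) hk
    simpa using h4

end Cfsg.Agent.S1922
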