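import Cfsg.Statements.S1924
import Cfsg.Agent.S1875
import Cfsg.Agent.Lib.PLocal.CentricRefine
import Cfsg.Agent.Lib.Transfer.Basic
import Mathlib.GroupTheory.SpecificGroups.Dihedral
-- import your own Cfsg.Agent.* helpers here

set_option autoImplicit false
open Cfsg

namespace Cfsg.Agent.S1924

open CfsgLib.PLocal (SylowIn)

theorem sign_regular_cycles {α : Type*} [Fintype α] [DecidableEq α] (σ : Equiv.Perm α) (k m : ℕ)
    (hm : Odd m) (hcard : Fintype.card α = 2 ^ (k + 1) * m) (hpow : σ ^ 2 ^ (k + 1) = 1)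
    (hfree : ∀ i, 0 < i → i < 2 ^ (k + 1) → ∀ a, (σ ^ i) a ≠ a) : Equiv.Perm.sign σ = -1 := by
  have hN : 1 < 2 ^ (k + 1) := Nat.one_lt_pow (Nat.succ_ne_zero k) (by norm_num)
  have hmem : ∀ n ∈ σ.cycleType, n = 2 ^ (k + 1) := by
    intro n hn
    have hdvd : n ∣ 2 ^ (k + 1) := by
      have := Equiv.Perm.lcm_cycleType σ ▸ Multiset.dvd_lcm hn
      exact this.trans (orderOf_dvd_of_pow_eq_one hpow)
    obtain ⟨c, τ, rfl, hd, hc, rfl⟩ := Equiv.Perm.mem_cycleType_iff.1 hn
    obtain ⟨a, ha⟩ := hc.nonempty_support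
    rcases (Nat.le_of_dvd (by omega) hdvd).lt_or_eq with hlt | he
    · refine absurd ?_ (hfree _ (Finset.card_pos.2 hc.nonempty_support) hlt a)
      have hτ : τ a = a := by
        rcases hd a with h | h
        · exact absurd h (Equiv.Perm.mem_support.1 ha)
        · exact h
      rw [hd.commute.mul_pow, Equiv.Perm.mul_apply, Equiv.Perm.pow_apply_eq_self_of_apply_eq_self hτ,
        ← hc.orderOf, pow_orderOf_eq_one]
      rfl
    · exact he
  have hfix : Fintype.card (Function.fixedPoints σ) = 0 := by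
    rw [Fintype.card_eq_zero_iff]
    exact ⟨fun a => hfree 1 one_pos hN a.1 (by rw [pow_one]; exact a.2)⟩
  rw [Equiv.Perm.sign_of_cycleType_eq_replicate (n := 2 ^ (k + 1)) (by omega)
    (Multiset.eq_replicate.2 ⟨rfl, hmem⟩), hfix, hcard, Nat.sub_zero,
    Nat.mul_div_cancel_left _ (by omega), if_neg, hm.neg_one_pow]
  rw [Nat.not_odd_iff_even]
  exact ⟨2 ^ k, by rw [pow_succ]; ring⟩

variable {G : Type*} [Group G] [Finite G]

/-- The sign of the action of `H` on the cosets of `T`. -/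
noncomputable def cosetSign (T H : Subgroup G) : H →* ℤˣ :=
  haveI : Fintype (H ⧸ T.subgroupOf H) := Fintype.ofFinite _
  haveI : DecidableEq (H ⧸ T.subgroupOf H) := Classical.decEq _
  Equiv.Perm.sign.comp (MulAction.toPermHom H (H ⧸ T.subgroupOf H))

/-- An element with regular cycles on `H / T`, of odd number, splits off an index `2` kernel. -/
theorem cosetSign_eq_neg {T H : Subgroup G} (hTH : T ≤ H) {c : G} (hc : c ∈ H) {k : ℕ}
    (hord : orderOf c = 2 ^ (k + 1)) (hidx : ∃ m, Odd m ∧ T.relIndex H = 2 ^ (k + 1) * m)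
    (hz : ∀ w ∈ Subgroup.zpowers c, orderOf w = 2 → ∀ g : G, g * w * g⁻¹ ∉ T) :
    cosetSign T H ⟨c, hc⟩ = -1 := by
  set Ts := T.subgroupOf H
  letI : Fintype (H ⧸ Ts) := Fintype.ofFinite _
  letI : DecidableEq (H ⧸ Ts) := Classical.decEq _
  set f := MulAction.toPermHom H (H ⧸ Ts) with hf
  obtain ⟨m, hm, hmi⟩ := hidx
  rw [cosetSign, MonoidHom.comp_apply]
  refine sign_regular_cycles _ k m hm ?_ ?_ fun i hi hilt a ha => ?_
  · rw [← Nat.card_eq_fintype_card, ← Subgroup.index_eq_card]; exact hmi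
  · rw [← map_pow, show (⟨c, hc⟩ : H) ^ 2 ^ (k + 1) = 1 from Subtype.ext (by
      simp [← hord, pow_orderOf_eq_one]), map_one]
  · obtain ⟨g, rfl⟩ := QuotientGroup.mk_surjective a
    rw [← map_pow, MulAction.toPermHom_apply, MulAction.toPerm_apply,
      MulAction.Quotient.smul_mk, smul_eq_mul, eq_comm, QuotientGroup.eq,
      Subgroup.mem_subgroupOf] at ha
    push_cast at ha
    set b := (g : G)⁻¹ * (c ^ i * g) with hb
    have hb' : b = (g : G)⁻¹ * c ^ i * ((g : G)⁻¹)⁻¹ := by rw [hb]; group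
    have hci : c ^ i ≠ 1 := fun h => by
      have := orderOf_le_of_pow_eq_one hi h
      omega
    obtain ⟨l, -, hl⟩ := (Nat.dvd_prime_pow Nat.prime_two).1 (hord ▸ orderOf_pow_dvd i :
      orderOf (c ^ i) ∣ 2 ^ (k + 1))
    obtain ⟨l, rfl⟩ : ∃ j, l = j + 1 := by
      refine ⟨l - 1, (Nat.sub_add_cancel ?_).symm⟩
      by_contra hl0
      rw [show l = 0 by omega, pow_zero] at hl
      exact hci (orderOf_eq_one_iff.1 hl)
    have hw : orderOf ((c ^ i) ^ 2 ^ l) = 2 := by
      rw [orderOf_pow_of_dvd (by positivity) (by rw [hl]; exact pow_dvd_pow 2 (Nat.le_succ l)), hl,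
        pow_succ, Nat.mul_div_cancel_left _ (by positivity)]
    refine hz _ (Subgroup.pow_mem _ (Subgroup.pow_mem _ (Subgroup.mem_zpowers c) i) _) hw
      (g : G)⁻¹ ?_
    rw [← conj_pow, ← hb']
    exact T.pow_mem ha _

theorem hom_units_odd {H : Subgroup G} (χ : H →* ℤˣ) {g : G} (hg : g ∈ H)
    (ho : (orderOf g).Coprime 2) : χ ⟨g, hg⟩ = 1 := by
  rcases Int.units_eq_one_or (χ ⟨g, hg⟩) with h | h
  · exact h
  · have h1 := congrArg χ (pow_orderOf_eq_one (⟨g, hg⟩ : H))
    rw [map_pow, map_one, h, Subgroup.orderOf_mk, (Nat.coprime_two_right.1 ho).neg_one_pow] at h1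
    exact absurd h1 (by decide)

/-- The kernel of a sign, as a subgroup of `G`. -/
def kerIn {H : Subgroup G} (χ : H →* ℤˣ) : Subgroup G := χ.ker.map H.subtype

theorem kerIn_props {H R : Subgroup G} (χ : H →* ℤˣ) (hO : Cfsg.pResidual 2 G ≤ H)
    (hR : SylowIn 2 R H) {c : G} (hcR : c ∈ R) (hχ : χ ⟨c, hR.1 hcR⟩ = -1) :
    Cfsg.pResidual 2 G ≤ kerIn χ ∧ SylowIn 2 (R ⊓ kerIn χ) (kerIn χ) ∧
      Nat.card (R ⊓ kerIn χ : Subgroup G) * 2 = Nat.card R := by
  refine ⟨?_, hR.inf_of_normalized (Subgroup.map_subtype_le _) ?_, ?_⟩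
  · refine (Subgroup.closure_le _).2 fun g hg => ?_
    have hgH : g ∈ H := hO (Subgroup.subset_closure hg)
    exact ⟨⟨g, hgH⟩, hom_units_odd χ hgH hg, rfl⟩
  · refine le_trans (le_of_eq ?_) (Subgroup.le_normalizer_map H.subtype)
    rw [Subgroup.normalizer_eq_top, ← MonoidHom.range_eq_map, Subgroup.range_subtype]
  · set ψ := χ.comp (Subgroup.inclusion hR.1) with hψ
    have hker : Nat.card ψ.ker = Nat.card (R ⊓ kerIn χ : Subgroup G) := by
      rw [← Subgroup.card_map_of_injective R.subtype_injective]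
      congr 2
      ext x
      constructor
      · rintro ⟨a, ha, rfl⟩
        exact ⟨a.2, ⟨⟨a, hR.1 a.2⟩, ha, rfl⟩⟩
      · rintro ⟨hxR, y, hy, hyx⟩
        refine ⟨⟨x, hxR⟩, ?_, rfl⟩
        have e : (⟨x, hR.1 hxR⟩ : H) = y := Subtype.ext hyx.symm
        change χ ⟨x, hR.1 hxR⟩ = 1
        rw [e]; exact hy
    have hsurj : Function.Surjective ψ := by
      intro u
      rcases Int.units_eq_one_or u with rfl | rfl
      · exact ⟨1, map_one _⟩
      · exact ⟨⟨c, hcR⟩, hχ⟩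
    rw [← hker, ← ψ.ker.card_mul_index, Subgroup.index_ker, MonoidHom.range_eq_top.2 hsurj,
      Subgroup.card_top, Nat.card_eq_fintype_card (α := ℤˣ), Fintype.card_units_int]

theorem sylowIn_residual {T : Subgroup G} (hT : T ≤ Cfsg.pResidual 2 G) :
    ∀ (k : ℕ) (H R : Subgroup G) (c : G), Cfsg.pResidual 2 G ≤ H → SylowIn 2 R H → T ≤ R →
      c ∈ R → orderOf c = 2 ^ k → Nat.card R = Nat.card T * 2 ^ k →
      (∀ w ∈ Subgroup.zpowers c, orderOf w = 2 → ∀ g : G, g * w * g⁻¹ ∉ T) →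
      SylowIn 2 T (Cfsg.pResidual 2 G) := by
  haveI : Fact (Nat.Prime 2) := ⟨Nat.prime_two⟩
  haveI := CfsgLib.Transfer.pResidual_normal (G := G) (p := 2)
  intro k
  induction k with
  | zero =>
    intro H R c hH hR hTR _ _ hcard _
    have hRT : T = R := Subgroup.eq_of_le_of_card_ge hTR (by rw [hcard, pow_zero, mul_one])
    subst hRT
    have := hR.inf_of_normalized hH (le_top.trans (Subgroup.normalizer_eq_top (H := Cfsg.pResidual 2 G)).ge)
    rwa [inf_eq_left.2 hT] at this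
  | succ k ih =>
    intro H R c hH hR hTR hcR hord hcard hz
    have hTH : T ≤ H := hTR.trans hR.1
    have hχ := cosetSign_eq_neg hTH (hR.1 hcR) hord
      ⟨R.relIndex H, Nat.not_even_iff_odd.1 fun he => hR.2.2 he.two_dvd, by
        rw [← Subgroup.relIndex_mul_relIndex T R H hTR hR.1]
        congr 1
        have h1 : Nat.card T * T.relIndex R = Nat.card R := by
          rw [← Nat.card_congr (Subgroup.subgroupOfEquivOfLe hTR).toEquiv]
          exact (T.subgroupOf R).card_mul_index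
        rw [hcard] at h1
        exact Nat.eq_of_mul_eq_mul_left Nat.card_pos h1⟩ hz
    obtain ⟨h1, h2, h3⟩ := kerIn_props (cosetSign T H) hH hR hcR hχ
    refine ih (kerIn (cosetSign T H)) (R ⊓ kerIn (cosetSign T H)) (c ^ 2) h1 h2 (le_inf hTR (hT.trans h1))
      ⟨R.pow_mem hcR 2, ⟨⟨c ^ 2, H.pow_mem (hR.1 hcR) 2⟩, ?_, rfl⟩⟩ ?_ ?_ fun w hw => hz w ?_
    · change cosetSign T H ((⟨c, hR.1 hcR⟩ : H) ^ 2) = 1
      rw [map_pow, hχ]; decide
    · rw [orderOf_pow_of_dvd (by norm_num) (by rw [hord]; exact dvd_pow_self 2 (Nat.succ_ne_zero k)),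
        hord, pow_succ, Nat.mul_div_cancel _ (by norm_num)]
    · rw [hcard, pow_succ, ← mul_assoc] at h3
      exact Nat.eq_of_mul_eq_mul_right (by norm_num) h3
    · exact (Subgroup.zpowers_le.2 (Subgroup.pow_mem _ (Subgroup.mem_zpowers c) 2)) hw

theorem dihedral_involutions {D C : Subgroup G} {n : ℕ} (hn : 2 ≤ n)
    (e : D ≃* DihedralGroup n) (hCD : C ≤ D) (hC : IsCyclic ↥C) (hCi : C.relIndex D = 2) :
    ∀ x ∈ D, x ∉ C → x * x = 1 := by
  haveI : NeZero n := ⟨by omega⟩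
  set C' := C.subgroupOf D with hC'
  have hcard : Nat.card C' = n := by
    have h1 := C'.card_mul_index
    rw [show C'.index = 2 from hCi, Nat.card_congr e.toEquiv, DihedralGroup.nat_card] at h1
    omega
  haveI : IsCyclic ↥C' := isCyclic_of_surjective (Subgroup.subgroupOfEquivOfLe hCD).symm
    (Subgroup.subgroupOfEquivOfLe hCD).symm.surjective
  obtain ⟨⟨c, hc⟩, hgen⟩ := IsCyclic.exists_generator (α := C')
  have hgen' : C' = Subgroup.zpowers c := by
    refine le_antisymm (fun y hy => ?_) (Subgroup.zpowers_le.2 hc)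
    obtain ⟨i, hi⟩ := Subgroup.mem_zpowers_iff.1 (hgen ⟨y, hy⟩)
    exact ⟨i, congrArg Subtype.val hi⟩
  have hco : orderOf c = n := by rw [← Nat.card_zpowers, ← hgen', hcard]
  intro x hxD hxC
  suffices h : (⟨x, hxD⟩ : D) * ⟨x, hxD⟩ = 1 from congrArg Subtype.val h
  apply e.injective
  rw [map_mul, map_one]
  cases hx : e ⟨x, hxD⟩ with
  | sr i => exact DihedralGroup.sr_mul_self i
  | r i =>
    rw [DihedralGroup.r_mul_r]
    have key : i + i = 0 := by
      cases hcq : e c with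
      | sr j =>
        have h2 : n = 2 := by
          rw [← hco, ← MulEquiv.orderOf_eq e c, hcq, DihedralGroup.orderOf_sr]
        subst h2
        clear hx; revert i; decide
      | r j =>
        exfalso
        apply hxC
        have hj : orderOf (DihedralGroup.r j : DihedralGroup n) = n := by
          rw [← hcq, MulEquiv.orderOf_eq, hco]
        let rot : Subgroup (DihedralGroup n) :=
          { carrier := Set.range DihedralGroup.r
            one_mem' := ⟨0, rfl⟩
            mul_mem' := by rintro _ _ ⟨a, rfl⟩ ⟨b, rfl⟩; exact ⟨a + b, (DihedralGroup.r_mul_r a b).symm⟩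
            inv_mem' := by rintro _ ⟨a, rfl⟩; exact ⟨-a, (DihedralGroup.inv_r a).symm⟩ }
        have hle : Subgroup.zpowers (DihedralGroup.r j) ≤ rot := Subgroup.zpowers_le.2 ⟨j, rfl⟩
        have hrot : Nat.card rot = n :=
          (Nat.card_congr (Equiv.ofInjective DihedralGroup.r fun a b h => by
            simpa using h).symm).trans (Nat.card_zmod n)
        have heq := Subgroup.eq_of_le_of_card_ge hle (by rw [hrot, Nat.card_zpowers, hj])
        have hi : e ⟨x, hxD⟩ ∈ Subgroup.zpowers (e c) := by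
          rw [hx, hcq, heq]; exact ⟨i, rfl⟩
        obtain ⟨l, hl⟩ := Subgroup.mem_zpowers_iff.1 hi
        rw [← map_zpow] at hl
        have : (⟨x, hxD⟩ : D) ∈ C' := by
          rw [hgen']; exact ⟨l, e.injective hl⟩
        exact this
    rw [key]; rfl


/-- A consequence of Thompson's transfer lemma. Let G be a finite group, L a subgroup with O²(L) = L, T a Sylow 2-subgroup of L and S a Sylow 2-subgroup of G containing T. Suppose D ≤ S is a dihedral subgroup of order at least 4 (the four-group counts) with D ∩ T = 1 and S = TD as a set of products (so |S| = |T|·|D|), and C ≤ D is cyclic of index 2 in D. If no involution of D outside C is G-conjugate to an involution of the subgroup generated by T and C, and the involution of C is not G-conjugate to any involution of T, then G has a normal subgroup K, containing every Sylow 2-subgroup of L as a Sylow 2-subgroup, with G = KD. -/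
theorem result {G : Type*} [Group G] [Finite G] (L T S D C : Subgroup G) (hL : Cfsg.pResidual 2 ↥L = ⊤)
    (hTL : T ≤ L) (hT2 : IsPGroup 2 T) (hTsyl : ¬ 2 ∣ T.relIndex L)
    (hS2 : IsPGroup 2 S) (hSsyl : ¬ 2 ∣ S.index) (hTS : T ≤ S)
    (hDS : D ≤ S) (hDih : ∃ n : ℕ, 2 ≤ n ∧ Nonempty (↥D ≃* DihedralGroup n)) (hDT : D ⊓ T = ⊥) (hTD : T ⊔ D = S) (hTDc : Nat.card T * Nat.card D = Nat.card S)
    (hCD : C ≤ D) (hC : IsCyclic ↥C) (hCi : C.relIndex D = 2)
    (h1 : ∀ x ∈ D, x ∉ C → orderOf x = 2 → ∀ g : G, g * x * g⁻¹ ∈ T ⊔ C → False)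
    (h2 : ∀ c ∈ C, orderOf c = 2 → ∀ g : G, g * c * g⁻¹ ∈ T → False) :
    ∃ K : Subgroup G, K.Normal ∧ K ⊔ D = ⊤ ∧
      ∀ T' : Subgroup G, T' ≤ L → IsPGroup 2 T' → ¬ 2 ∣ T'.relIndex L → T' ≤ K ∧ ¬ 2 ∣ T'.relIndex K := by
  classical
  haveI : Fact (Nat.Prime 2) := ⟨Nat.prime_two⟩
  set O := Cfsg.pResidual 2 G with hO
  haveI hOn : O.Normal := CfsgLib.Transfer.pResidual_normal
  have hLO : L ≤ O := by
    have h : (Cfsg.pResidual 2 ↥L).map L.subtype ≤ O := CfsgLib.Transfer.map_pResidual_le L.subtype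
    rwa [hL, ← MonoidHom.range_eq_map, Subgroup.range_subtype] at h
  have hTO : T ≤ O := hTL.trans hLO
  obtain ⟨n, hn, ⟨e⟩⟩ := hDih
  have hinv := dihedral_involutions hn e hCD hC hCi
  have hCcard : Nat.card C * 2 = Nat.card D := by
    rw [← Nat.card_congr (Subgroup.subgroupOfEquivOfLe hCD).toEquiv, ← hCi]
    exact (C.subgroupOf D).card_mul_index
  obtain ⟨x, hxD, hxC⟩ : ∃ x ∈ D, x ∉ C := by
    by_contra h
    push Not at h
    rw [Subgroup.relIndex_eq_one.2 h] at hCi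
    omega
  have hord2 : ∀ y ∈ D, y ∉ C → orderOf y = 2 := fun y hy hyC =>
    orderOf_eq_prime (by rw [pow_two]; exact hinv y hy hyC) fun h => hyC (h ▸ C.one_mem)
  set M := T ⊔ C with hM
  have hMS : M ≤ S := sup_le hTS (hCD.trans hDS)
  have hxM : ∀ y ∈ D, y ∉ C → ∀ g : G, g * y * g⁻¹ ∉ M := fun y hy hyC g h =>
    h1 y hy hyC (hord2 y hy hyC) g h
  have hMlt : M < S := lt_of_le_of_ne hMS fun he => hxM x hxD hxC 1 (by
    rw [he]; simpa using hDS hxD)
  have hMge : Nat.card T * Nat.card C ≤ Nat.card M := by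
    rw [← Nat.card_prod]
    refine Nat.card_le_card_of_injective
      (fun q : T × C => (⟨q.1 * q.2, Subgroup.mul_mem_sup q.1.2 q.2.2⟩ : M)) fun q q' h => ?_
    have h' : (q.1 : G) * q.2 = q'.1 * q'.2 := congrArg Subtype.val h
    have h3 : (q'.1 : G)⁻¹ * q.1 = (q'.2 : G) * (q.2 : G)⁻¹ := by
      calc (q'.1 : G)⁻¹ * q.1 = (q'.1 : G)⁻¹ * ((q.1 : G) * q.2) * (q.2 : G)⁻¹ := by group
        _ = _ := by rw [h']; group
    have h4 : (q'.1 : G)⁻¹ * q.1 ∈ D ⊓ T :=
      ⟨by rw [h3]; exact D.mul_mem (hCD q'.2.2) (D.inv_mem (hCD q.2.2)),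
        T.mul_mem (T.inv_mem q'.1.2) q.1.2⟩
    rw [hDT, Subgroup.mem_bot, inv_mul_eq_one] at h4
    rw [h4] at h'
    exact Prod.ext (Subtype.ext h4.symm) (Subtype.ext (mul_left_cancel h'))
  have hMS2 : Nat.card M * 2 = Nat.card S := by
    obtain ⟨d, hd⟩ := Subgroup.card_dvd_of_le hMS
    have hd1 : d ≠ 1 := fun h => hMlt.ne
      (Subgroup.eq_of_le_of_card_ge hMS (by rw [hd, h, mul_one]))
    have hd0 : d ≠ 0 := fun h => by
      rw [h, mul_zero] at hd
      exact Nat.card_pos.ne' hd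
    have hle : Nat.card M * d ≤ Nat.card M * 2 := by
      rw [← hd, ← hTDc, ← hCcard, ← mul_assoc]
      exact Nat.mul_le_mul_right 2 hMge
    have := Nat.le_of_mul_le_mul_left hle Nat.card_pos
    rw [hd, show d = 2 by omega]
  have hMc : Nat.card M = Nat.card T * Nat.card C := by
    have : Nat.card M * 2 = Nat.card T * Nat.card C * 2 := by
      rw [hMS2, ← hTDc, ← hCcard, mul_assoc]
    omega
  have hStop : SylowIn 2 S ⊤ := ⟨le_top, hS2, by rwa [Subgroup.relIndex_top_right]⟩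
  set χ := cosetSign M (⊤ : Subgroup G) with hχdef
  have hχD : ∀ y ∈ D, y ∉ C → χ ⟨y, Subgroup.mem_top y⟩ = -1 := by
    intro y hy hyC
    refine cosetSign_eq_neg le_top (Subgroup.mem_top y) (k := 0)
      (by rw [hord2 y hy hyC]; rfl) ⟨S.index, Nat.not_even_iff_odd.1 fun h => hSsyl h.two_dvd, ?_⟩
      fun w hw hw2 g => ?_
    · rw [Subgroup.relIndex_top_right, ← Subgroup.relIndex_mul_index hMS]
      congr 1
      have h3 : Nat.card M * M.relIndex S = Nat.card S := by
        rw [← Nat.card_congr (Subgroup.subgroupOfEquivOfLe hMS).toEquiv]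
        exact (M.subgroupOf S).card_mul_index
      rw [← hMS2] at h3
      simpa using Nat.eq_of_mul_eq_mul_left Nat.card_pos h3
    · have hwy : w = y := by
        have h := Cfsg.Agent.S1875.eq_pow_half hw2 hw
        rw [hord2 y hy hyC] at h
        simpa using h
      rw [hwy]
      exact hxM y hy hyC g
  obtain ⟨hk1, hk2, hk3⟩ := kerIn_props χ le_top hStop (hDS hxD) (hχD x hxD hxC)
  have hCk : C ≤ kerIn χ := by
    intro c hc
    have hxc : x * c ∉ C := fun h => hxC (by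
      have := C.mul_mem h (C.inv_mem hc)
      rwa [mul_inv_cancel_right] at this)
    have h5 := hχD (x * c) (D.mul_mem hxD (hCD hc)) hxc
    have e : (⟨x * c, Subgroup.mem_top _⟩ : (⊤ : Subgroup G)) =
        ⟨x, Subgroup.mem_top x⟩ * ⟨c, Subgroup.mem_top c⟩ := rfl
    rw [e, map_mul, hχD x hxD hxC, mul_eq_left] at h5
    exact ⟨⟨c, Subgroup.mem_top c⟩, h5, rfl⟩
  have hsub : M ≤ S ⊓ kerIn χ := le_inf hMS (sup_le (hTO.trans hk1) hCk)
  have heq : M = S ⊓ kerIn χ := Subgroup.eq_of_le_of_card_ge hsub (by omega)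
  haveI := hC
  obtain ⟨⟨c, hc⟩, hgen⟩ := IsCyclic.exists_generator (α := C)
  have hCz : C = Subgroup.zpowers c := by
    refine le_antisymm (fun y hy => ?_) (Subgroup.zpowers_le.2 hc)
    obtain ⟨i, hi⟩ := Subgroup.mem_zpowers_iff.1 (hgen ⟨y, hy⟩)
    exact ⟨i, congrArg Subtype.val hi⟩
  obtain ⟨k, hk⟩ := (hS2.to_le (hCD.trans hDS)).exists_card_eq
  have hcord : orderOf c = 2 ^ k := by rw [← Nat.card_zpowers, ← hCz, hk]
  have hsyl : SylowIn 2 T O := sylowIn_residual hTO k (kerIn χ) (S ⊓ kerIn χ) c hk1 hk2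
    (le_inf hTS (hTO.trans hk1)) ⟨hDS (hCD hc), hCk hc⟩ hcord
    (by rw [← heq, hMc, hk])
    (fun w hw hw2 g => h2 w (hCz ▸ hw) hw2 g)
  refine ⟨O, hOn, ?_, fun T' hT'L hT'2 hT's => ?_⟩
  · obtain ⟨j, hj⟩ := CfsgLib.Transfer.pResidual_index_eq_pow (G := G) (p := 2)
    have h1 : (O ⊔ S).index ∣ 2 ^ j := hj ▸ Subgroup.index_dvd_of_le le_sup_left
    have h2' : (O ⊔ S).index ∣ S.index := Subgroup.index_dvd_of_le le_sup_right
    have hO1 : (O ⊔ S).index = 1 := Nat.eq_one_of_dvd_coprimes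
      ((Nat.prime_two.coprime_iff_not_dvd.2 hSsyl).pow_left j) h1 h2'
    rw [eq_top_iff, ← Subgroup.index_eq_one.1 hO1, ← hTD]
    exact sup_le le_sup_left (sup_le (hTO.trans le_sup_left) le_sup_right)
  · have hTs : SylowIn 2 T L := ⟨hTL, hT2, hTsyl⟩
    have hT's' : SylowIn 2 T' L := ⟨hT'L, hT'2, hT's⟩
    exact ⟨hT'L.trans hLO, (hsyl.of_card_le hT'2 (hT'L.trans hLO) (hT's'.card_le hT2 hTL)).2.2⟩

end Cfsg.Agent.S1924
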