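import Cfsg.Statements.S1935
import Cfsg.Agent.Lib.PLocal.ConjLimit
import Cfsg.Agent.Lib.PLocal.TruncExp
import Cfsg.Agent.Lib.PLocal.Offender
-- import your own Cfsg.Agent.* helpers here

set_option autoImplicit false
open Cfsg

set_option maxHeartbeats 1600000
namespace Cfsg.Agent.S1935

open CfsgLib.PLocal
open scoped commutatorElement

/-- A member of a conjugation invariant family outside the span of the members below `N`
normalizes that span. -/
theorem exists_normalizing_member {H : Type*} [Group H] [Finite H] [Group.IsNilpotent H]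
    (D : Set (Subgroup H)) (hD : ∀ g : H, ∀ B ∈ D, B.map (MulAut.conj g).toMonoidHom ∈ D)
    (N : Subgroup H) {B₀ : Subgroup H} (hB₀ : B₀ ∈ D) (hB₀N : ¬ B₀ ≤ N) :
    ∃ B ∈ D, ¬ B ≤ N ∧ B ≤ Subgroup.normalizer ((sSup {C | C ∈ D ∧ C ≤ N} : Subgroup H) : Set H) := by
  set T := sSup {C | C ∈ D ∧ C ≤ N} with hT
  have hTN : T ≤ N := sSup_le fun C hC => hC.2
  by_contra hcon
  push Not at hcon
  set U := Subgroup.normalizer (T : Set H) with hU
  have hin : ∀ B ∈ D, B ≤ U → B ≤ N := fun B hB hBU => by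
    by_contra h
    exact hcon B hB h hBU
  have hUU : Subgroup.normalizer (U : Set H) ≤ U := by
    intro g hg
    have hmap : T.map (MulAut.conj g).toMonoidHom ≤ T := by
      rw [Subgroup.map_le_iff_le_comap]
      refine sSup_le fun C hC => ?_
      rw [← Subgroup.map_le_iff_le_comap]
      refine le_sSup ⟨hD g C hC.1, hin _ (hD g C hC.1) ?_⟩
      rintro _ ⟨c, hc, rfl⟩
      exact (Subgroup.mem_normalizer_iff.1 hg c).1
        (Subgroup.le_normalizer ((le_sSup (show C ∈ {C | C ∈ D ∧ C ≤ N} from hC) : C ≤ T) hc))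
    exact Subgroup.mem_normalizer_fintype fun t ht => hmap ⟨t, ht, rfl⟩
  have hUtop : U = ⊤ := by
    by_contra hne
    exact (Group.normalizerCondition_of_isNilpotent U (lt_top_iff_ne_top.2 hne)).not_ge hUU
  exact hB₀N (hin B₀ hB₀ (hUtop ▸ le_top))

section Ring

variable {E : Type*} [Ring E]

theorem i_mul (a b : E) : a * b - 1 = (a - 1) + (b - 1) + (a - 1) * (b - 1) := by noncomm_ring
theorem i_unit (z : E) : (1 + z) * (1 - z) = 1 - z * z := by noncomm_ring
theorem i_sqp (y : E) : (1 + y) * (1 + y) = 1 + (y + y) + y * y := by noncomm_ring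
theorem i_sqm (y : E) : (1 - y) * (1 - y) = 1 - (y + y) + y * y := by noncomm_ring
theorem i_anti (z a : E) : (1 + z) * a * (1 - z) - (1 - z) * a * (1 + z) =
    (z * a - a * z) + (z * a - a * z) := by noncomm_ring
theorem i_two (y X : E) : (1 + y) * X * (1 - y) + (1 + y) * X * (1 - y) -
    (1 + (y + y)) * X * (1 - (y + y)) - X = y * X * y + y * X * y := by noncomm_ring
theorem i_one (y X : E) : y * X - X * y = (1 + y) * X * (1 - y) - X + y * X * y := by noncomm_ring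
theorem i_conj (y x : E) : (1 + y) * x * (1 - y) = x + (y * x - x * y) - y * x * y := by noncomm_ring
theorem i_prod (a c : E) : a * c = (a - 1) * (c - 1) + a + c - 1 := by noncomm_ring
theorem i_self (a : E) : (a - 1) * a = (a - 1) * (a - 1) + (a - 1) := by noncomm_ring
theorem i_pow {a : E} (h : (a - 1) * (a - 1) = 0) : ∀ n : ℕ, a ^ n = 1 + n • (a - 1)
  | 0 => by simp
  | n + 1 => by
    rw [pow_succ, i_pow h n, add_mul, one_mul, smul_mul_assoc, succ_nsmul, i_self, h, zero_add]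
    abel
theorem i_inv {a a' : E} (h : a' * a = 1) (h0 : (a' - 1) * (a - 1) = 0) : a' - 1 = -(a - 1) := by
  rw [sub_mul, mul_sub, mul_one, one_mul, h] at h0
  rw [← sub_eq_zero, ← neg_eq_zero, ← h0]; abel
theorem i_zsmul {p : ℕ} {z : E} (hz : p • z = 0) (k : ℤ) : (1 + k * (p : ℤ)) • z = z := by
  rw [add_smul, one_smul, mul_smul, natCast_zsmul, hz, smul_zero, add_zero]

/-- Conjugation by a monoid-hom image. -/
def cjHom {H : Type*} [Group H] (ρ : H →* E) (g : H) : E →+ E :=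
  AddMonoidHom.mk' (fun z => ρ g * z * ρ g⁻¹) fun a b => by simp [mul_add, add_mul]

theorem cjHom_apply {H : Type*} [Group H] (ρ : H →* E) (g : H) (z : E) :
    cjHom ρ g z = ρ g * z * ρ g⁻¹ := rfl

theorem mem_cj {H : Type*} [Group H] (ρ : H →* E) (g : H) (L : AddSubgroup E) (z : E) :
    z ∈ L.map (cjHom ρ g) ↔ ρ g⁻¹ * z * ρ g ∈ L := by
  constructor
  · rintro ⟨w, hw, rfl⟩
    have : ρ g⁻¹ * (ρ g * w * ρ g⁻¹) * ρ g = w := by
      simp only [mul_assoc]
      rw [← map_mul, inv_mul_cancel, map_one, mul_one, ← mul_assoc, ← map_mul, inv_mul_cancel,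
        map_one, one_mul]
    rw [cjHom_apply, this]; exact hw
  · intro h
    refine ⟨_, h, ?_⟩
    rw [cjHom_apply]
    simp only [mul_assoc]
    rw [← map_mul, mul_inv_cancel, map_one, mul_one, ← mul_assoc, ← map_mul, mul_inv_cancel,
      map_one, one_mul]

theorem conj_sub_one {H : Type*} [Group H] (ρ : H →* E) (g x : H) :
    ρ (g * x * g⁻¹) - 1 = ρ g * (ρ x - 1) * ρ g⁻¹ := by
  rw [mul_sub, sub_mul, mul_one, ← map_mul, ← map_mul, ← map_mul, mul_inv_cancel, map_one]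

/-- The elements `g` with `ρ g - 1` in a square-zero subgroup. -/
def preOne {H : Type*} [Group H] (ρ : H →* E) (L : AddSubgroup E)
    (hL : ∀ a ∈ L, ∀ b ∈ L, a * b = 0) : Subgroup H where
  carrier := {x | ρ x - 1 ∈ L}
  one_mem' := by
    simp only [Set.mem_setOf_eq, map_one, sub_self]
    exact L.zero_mem
  mul_mem' := by
    intro x y hx hy
    simp only [Set.mem_setOf_eq] at *
    have e : ρ (x * y) - 1 = (ρ x - 1) + (ρ y - 1) + (ρ x - 1) * (ρ y - 1) := by
      rw [map_mul]; noncomm_ring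
    rw [e, hL _ hx _ hy, add_zero]
    exact L.add_mem hx hy
  inv_mem' := by
    intro x hx
    simp only [Set.mem_setOf_eq] at *
    have h1 : ρ x * (1 - (ρ x - 1)) = 1 := by
      rw [show ρ x * (1 - (ρ x - 1)) = 1 - (ρ x - 1) * (ρ x - 1) by noncomm_ring, hL _ hx _ hx, sub_zero]
    have h2 : ρ x⁻¹ = 1 - (ρ x - 1) := by
      calc ρ x⁻¹ = ρ x⁻¹ * (ρ x * (1 - (ρ x - 1))) := by rw [h1, mul_one]
        _ = _ := by rw [← mul_assoc, ← map_mul, inv_mul_cancel, map_one, one_mul]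
    rw [h2, show 1 - (ρ x - 1) - 1 = -(ρ x - 1) by abel]
    exact L.neg_mem hx

theorem mem_preOne {H : Type*} [Group H] (ρ : H →* E) (L : AddSubgroup E)
    (hL : ∀ a ∈ L, ∀ b ∈ L, a * b = 0) {x : H} : x ∈ preOne ρ L hL ↔ ρ x - 1 ∈ L := Iff.rfl

end Ring


/-- Let p ≥ 5 be a prime and, inside an ambient finite group, let G be a p-subgroup acting faithfully by conjugation on an elementary abelian p-subgroup V that it normalizes (only the identity of G centralizes V). Suppose V is an F-module for G: some nontrivial elementary abelian subgroup E of G satisfies #E · #C_V(E) ≥ #V. Then G contains such an offender A that moreover acts quadratically on V ([V, A, A] = 1) and is normal in its normal closure in G. -/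
theorem result {Ω : Type*} [Group Ω] [Finite Ω] (p : ℕ) [Fact p.Prime] (hp : 5 ≤ p) (V G : Subgroup Ω) (hV : Cfsg.IsElementaryAbelian p V) (hG : IsPGroup p ↥G) (hGV : G ≤ Subgroup.normalizer (V : Set Ω)) (hfaith : G ⊓ Subgroup.centralizer (V : Set Ω) = ⊥) (hF : ∃ E : Subgroup Ω, E ≤ G ∧ E ≠ ⊥ ∧ Cfsg.IsElementaryAbelian p E ∧ Nat.card ↥V ≤ Nat.card ↥E * Nat.card ↥(V ⊓ Subgroup.centralizer (E : Set Ω))) : ∃ A : Subgroup Ω, A ≤ G ∧ A ≠ ⊥ ∧ Cfsg.IsElementaryAbelian p A ∧ Nat.card ↥V ≤ Nat.card ↥A * Nat.card ↥(V ⊓ Subgroup.centralizer (A : Set Ω)) ∧ ⁅⁅V, A⁆, A⁆ = ⊥ ∧ ∀ g ∈ Subgroup.closure {x : Ω | ∃ h ∈ G, ∃ a ∈ A, x = h * a * h⁻¹}, ∀ a ∈ A, g * a * g⁻¹ ∈ A := by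
  classical
  letI : CommGroup V := { (inferInstance : Group V) with mul_comm := hV.1.is_comm.comm }
  have hVp : ∀ v : V, v ^ p = 1 := fun v => Subtype.ext (by simpa using hV.2 v v.2)
  haveI : Finite (AddMonoid.End (Additive V × ZMod p)) := Finite.of_injective
    (fun f => (f : Additive V × ZMod p → Additive V × ZMod p)) DFunLike.coe_injective
  -- the representation
  let cv : G → V → V := fun g v =>
    ⟨(g : Ω) * v * (g : Ω)⁻¹, (Subgroup.mem_normalizer_iff.1 (hGV g.2) v).1 v.2⟩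
  let rv : G → AddMonoid.End (Additive V × ZMod p) := fun g =>
    AddMonoidHom.mk' (fun m => (Additive.ofMul (cv g m.1.toMul), m.2)) fun m n => Prod.ext
      (by
        apply Additive.toMul.injective
        exact Subtype.ext (by simp [cv, mul_assoc])) rfl
  let ρ : G →* AddMonoid.End (Additive V × ZMod p) :=
    { toFun := rv
      map_one' := AddMonoidHom.ext fun m => Prod.ext
        (congrArg Additive.ofMul (Subtype.ext (by simp [cv]) : cv 1 m.1.toMul = m.1.toMul)) rfl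
      map_mul' := fun g k => AddMonoidHom.ext fun m => Prod.ext
        (congrArg Additive.ofMul (Subtype.ext (by simp [cv, mul_assoc]) :
          cv (g * k) m.1.toMul = cv g (cv k m.1.toMul))) rfl }
  have hρ : ∀ (g : G) (v : V) (c : ZMod p),
      (ρ g - 1) (Additive.ofMul v, c) = (Additive.ofMul (cv g v * v⁻¹), 0) := by
    intro g v c
    change (Additive.ofMul (cv g v), c) - (Additive.ofMul v, c) = _
    refine Prod.ext ?_ (sub_self c)
    rw [Prod.fst_sub, ← ofMul_div, div_eq_mul_inv]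
  let hat : Additive V →+ AddMonoid.End (Additive V × ZMod p) := AddMonoidHom.mk'
    (fun w => AddMonoidHom.mk' (fun m => (m.2.val • w, 0)) fun m n => Prod.ext (by
      have hw : p • w = 0 := hVp w.toMul
      change (m.2 + n.2).val • w = m.2.val • w + n.2.val • w
      rw [← add_smul, ZMod.val_add]
      conv_rhs => rw [← Nat.mod_add_div (m.2.val + n.2.val) p, add_smul, mul_comm p, mul_smul, hw,
        smul_zero, add_zero]) (add_zero 0).symm)
    fun u w => AddMonoidHom.ext fun m => Prod.ext (smul_add _ u w) (add_zero 0).symm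
  have hhat : ∀ w m, hat w m = (m.2.val • w, 0) := fun _ _ => rfl
  haveI : NeZero p := ⟨(Fact.out : p.Prime).ne_zero⟩
  haveI : Fact (1 < p) := ⟨(Fact.out : p.Prime).one_lt⟩
  have hhatinj : Function.Injective hat := by
    intro u w h
    have := congrArg Prod.fst (DFunLike.congr_fun h (0, 1))
    simpa [hhat, ZMod.val_one] using this
  set HW := hat.range with hHW
  have hHWl : ∀ (g : G), ∀ w ∈ HW, (ρ g - 1) * w ∈ HW ∧ w * (ρ g - 1) = 0 := by
    rintro g _ ⟨w, rfl⟩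
    refine ⟨⟨Additive.ofMul (cv g w.toMul * w.toMul⁻¹), AddMonoidHom.ext fun m => ?_⟩,
      AddMonoidHom.ext fun m => ?_⟩
    · show ((m.2.val • Additive.ofMul (cv g w.toMul * w.toMul⁻¹), (0 : ZMod p)) : Additive V × ZMod p) =
        (ρ g - 1) (m.2.val • w, 0)
      rw [show ((m.2.val • w, (0 : ZMod p)) : Additive V × ZMod p) = m.2.val • (w, 0) by
        simp, map_nsmul, show w = Additive.ofMul w.toMul from rfl, hρ]
      simp
    · change hat w ((ρ g - 1) m) = 0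
      obtain ⟨v, c⟩ := m
      rw [show v = Additive.ofMul v.toMul from rfl, hρ, hhat]
      simp
  have hchar : ∀ z : AddMonoid.End (Additive V × ZMod p), p • z = 0 := by
    intro z
    refine AddMonoidHom.ext fun m => ?_
    change p • z m = 0
    refine Prod.ext ?_ (by simp)
    exact hVp (z m).1.toMul
  obtain ⟨h, h6⟩ : ∃ h : ℤ, ∀ z : AddMonoid.End (Additive V × ZMod p), (6 * h) • z = z := by
    have h60 : (6 : ZMod p) ≠ 0 := by
      intro h0
      have h1 : ((6 : ℕ) : ZMod p) = 0 := by exact_mod_cast h0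
      rw [ZMod.natCast_eq_zero_iff] at h1
      rw [show 6 = 2 * 3 from rfl, (Fact.out : p.Prime).dvd_mul] at h1
      rcases h1 with h1 | h1 <;> have := Nat.le_of_dvd (by norm_num) h1 <;> omega
    refine ⟨((6 : ZMod p)⁻¹.val : ℤ), fun z => ?_⟩
    have hd : (p : ℤ) ∣ 6 * ((6 : ZMod p)⁻¹.val : ℤ) - 1 := by
      rw [← ZMod.intCast_zmod_eq_zero_iff_dvd]
      push_cast
      rw [ZMod.natCast_val, ZMod.cast_id, mul_inv_cancel₀ h60, sub_self]
    obtain ⟨k, hk⟩ := hd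
    rw [show (6 : ℤ) * ((6 : ZMod p)⁻¹.val : ℤ) = 1 + k * p by linarith]
    exact i_zsmul (hchar z) k
  have h3h : ∀ z : AddMonoid.End (Additive V × ZMod p), (3 * h) • (z + z) = z := fun z => by
    rw [← two_zsmul, ← mul_smul, show 3 * h * 2 = 6 * h by ring, h6]
  -- the filtration
  haveI hHn : Group.IsNilpotent ↥(V ⊔ G) := by
    have hVp' : IsPGroup p V := fun v => ⟨1, by rw [pow_one]; exact hVp v⟩
    exact (hVp'.to_sup_of_normal_left' hG hGV).isNilpotent
  obtain ⟨N, hN⟩ := nilpotent_iff_lowerCentralSeries.mp hHn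
  set lc : ℕ → Subgroup Ω := fun i =>
    ((⊤ : Subgroup ↥(V ⊔ G)).lowerCentralSeries i).map (V ⊔ G).subtype with hlc
  have hlcanti : ∀ i j, i ≤ j → lc j ≤ lc i := fun i j hij =>
    Subgroup.map_mono ((⊤ : Subgroup ↥(V ⊔ G)).lowerCentralSeries_antitone hij)
  have hlcV : ∀ v : V, (v : Ω) ∈ lc 0 := fun v => by
    refine ⟨⟨v, Subgroup.mem_sup_left v.2⟩, ?_, rfl⟩
    rw [Subgroup.lowerCentralSeries_zero]; trivial
  have hlcstep : ∀ (g : G) (v : V) (i : ℕ), (v : Ω) ∈ lc i →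
      ((cv g v * v⁻¹ : V) : Ω) ∈ lc (i + 1) := by
    rintro g v i ⟨w, hw, hwv⟩
    refine ⟨⁅(⟨g, Subgroup.mem_sup_right g.2⟩ : ↥(V ⊔ G)), w⁆, ?_, ?_⟩
    · rw [Subgroup.lowerCentralSeries_succ, Subgroup.commutator_comm]
      exact Subgroup.commutator_mem_commutator (Subgroup.mem_top _) hw
    · simp only [Subgroup.coe_subtype] at hwv
      simp [cv, commutatorElement_def, hwv, mul_assoc]
  let Wf : ℕ → AddSubgroup (Additive V × ZMod p) := fun i =>
    { carrier := {m | ((m.1.toMul : V) : Ω) ∈ lc i ∧ (i ≠ 0 → m.2 = 0)}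
      zero_mem' := ⟨(lc i).one_mem, fun _ => rfl⟩
      add_mem' := fun {m n} hm hn => ⟨(lc i).mul_mem hm.1 hn.1,
        fun hi => show m.2 + n.2 = 0 by rw [hm.2 hi, hn.2 hi, add_zero]⟩
      neg_mem' := fun {m} hm => ⟨(lc i).inv_mem hm.1,
        fun hi => show -m.2 = 0 by rw [hm.2 hi, neg_zero]⟩ }
  have hWanti : ∀ i j, i ≤ j → Wf j ≤ Wf i := fun i j hij m hm =>
    ⟨hlcanti i j hij hm.1, fun hi => hm.2 (by omega)⟩
  let F : ℕ → AddSubgroup (AddMonoid.End (Additive V × ZMod p)) := fun i =>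
    { carrier := {Z | ∀ j, ∀ m ∈ Wf j, Z m ∈ Wf (j + i)}
      zero_mem' := fun j m _ => (Wf (j + i)).zero_mem
      add_mem' := fun hA hB j m hm => (Wf (j + i)).add_mem (hA j m hm) (hB j m hm)
      neg_mem' := fun hA j m hm => (Wf (j + i)).neg_mem (hA j m hm) }
  have hFanti : ∀ i j, i ≤ j → F j ≤ F i := fun i j hij Z hZ k m hm =>
    hWanti (k + i) (k + j) (by omega) (hZ k m hm)
  have hF1 : ∀ g : G, ρ g - 1 ∈ F 1 := by
    rintro g j ⟨v, c⟩ hm
    rw [show v = Additive.ofMul v.toMul from rfl, hρ]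
    exact ⟨hlcstep g v.toMul j hm.1, fun _ => rfl⟩
  have hFmul : ∀ i j, ∀ a ∈ F i, ∀ b ∈ F j, a * b ∈ F (i + j) := fun i j a ha b hb k m hm => by
    have := ha (k + j) (b m) (hb k m hm)
    rwa [show k + (i + j) = k + j + i by omega]
  have hFN : F (N + 1) = ⊥ := by
    refine eq_bot_iff.2 fun Z hZ => ?_
    refine AddSubgroup.mem_bot.2 (AddMonoidHom.ext fun m => ?_)
    have h0 := hZ 0 m ⟨hlcV m.1.toMul, fun hne => absurd rfl hne⟩
    rw [zero_add] at h0
    have h1 : lc (N + 1) = ⊥ := by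
      refine eq_bot_iff.2 ((hlcanti N (N + 1) (Nat.le_succ N)).trans ?_)
      change Subgroup.map _ _ ≤ ⊥
      rw [hN, Subgroup.map_bot]
    have h2 := h0.1
    rw [h1, Subgroup.mem_bot, OneMemClass.coe_eq_one] at h2
    exact Prod.ext h2 (h0.2 (Nat.succ_ne_zero N))
  -- candidates
  have hρinj : Function.Injective ρ := by
    refine (injective_iff_map_eq_one ρ).2 fun g hg => ?_
    have : (g : Ω) ∈ G ⊓ Subgroup.centralizer (V : Set Ω) := by
      refine ⟨g.2, Subgroup.mem_centralizer_iff.2 fun v hv => ?_⟩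
      have h1 := congrArg Prod.fst (DFunLike.congr_fun hg ((Additive.ofMul ⟨v, hv⟩ : Additive V), (0 : ZMod p)))
      have h2 : (g : Ω) * v * (g : Ω)⁻¹ = v := congrArg Subtype.val h1
      exact (mul_inv_eq_iff_eq_mul.1 h2).symm
    rw [hfaith, Subgroup.mem_bot] at this
    exact Subtype.ext this
  let ann : AddSubgroup (AddMonoid.End (Additive V × ZMod p)) →
      AddSubgroup (AddMonoid.End (Additive V × ZMod p)) := fun L => HW ⊓
    { carrier := {w | ∀ Z ∈ L, Z * w = 0}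
      zero_mem' := fun Z _ => mul_zero Z
      add_mem' := fun ha hb Z hZ => by rw [mul_add, ha Z hZ, hb Z hZ, add_zero]
      neg_mem' := fun {w} ha Z hZ => (mul_neg Z w).trans (by rw [ha Z hZ]; exact neg_zero) }
  let Cand : Set (AddSubgroup (AddMonoid.End (Additive V × ZMod p))) := {L | L ≠ ⊥ ∧
    (∀ a ∈ L, ∀ b ∈ L, a * b = 0) ∧ (∀ Z ∈ L, 1 + Z ∈ MonoidHom.mrange ρ) ∧
    Nat.card V ≤ Nat.card L * Nat.card (ann L)}
  -- an initial quadratic offender
  have hCne : Cand.Nonempty := by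
    obtain ⟨E₀, hE₀G, hE₀ne, hE₀el, hE₀⟩ := hF
    set f : Subgroup Ω → ℕ := fun B =>
      Nat.card B * Nat.card ↥(V ⊓ Subgroup.centralizer (B : Set Ω)) with hf
    have hne : ({B | B ≤ E₀ ∧ B ≠ ⊥} : Set (Subgroup Ω)).Nonempty := ⟨E₀, le_rfl, hE₀ne⟩
    obtain ⟨A₁, ⟨hA₁E, hA₁ne⟩, hA₁⟩ :=
      Set.exists_max_image {B : Subgroup Ω | B ≤ E₀ ∧ B ≠ ⊥} f (Set.toFinite _) hne
    have hAV : A₁ ≤ Subgroup.normalizer (V : Set Ω) := (hA₁E.trans hE₀G).trans hGV
    have hVle : Nat.card V ≤ f A₁ := hE₀.trans (hA₁ E₀ ⟨le_rfl, hE₀ne⟩)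
    have hA₁el := CfsgLib.PLocal.elemAb_mono hE₀el hA₁E
    have hbest : Cfsg.IsBestOffenderOn p V A₁ := by
      refine ⟨fun B hB => ?_, ?_, fun a ha => ?_⟩
      · rcases eq_or_ne B ⊥ with rfl | hBne
        · refine le_trans ?_ hVle
          rw [Subgroup.card_bot, one_mul]
          exact Subgroup.card_le_of_le inf_le_left
        · exact hA₁ B ⟨hB.trans hA₁E, hBne⟩
      · rw [Subgroup.commutator_eq_bot_iff_le_centralizer.2 (CfsgLib.PLocal.elemAb_le_centralizer hA₁el)]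
        exact bot_le
      · rw [hA₁el.2 a ha]; exact one_mem _
    obtain ⟨-, -, e2, hnb⟩ := CfsgLib.PLocal.bestOffender_replace hV hAV hbest (le_refl V)
    set A₂ := A₁ ⊓ Subgroup.centralizer ((⁅V, A₁⁆ : Subgroup Ω) : Set Ω) with hA₂
    have hVA : ⁅V, A₁⁆ ≠ ⊥ := by
      intro hb
      rw [Subgroup.commutator_eq_bot_iff_le_centralizer, Subgroup.le_centralizer_iff] at hb
      exact hA₁ne (eq_bot_iff.2 ((le_inf (hA₁E.trans hE₀G) hb).trans hfaith.le))
    have hquad : ∀ a b : G, (a : Ω) ∈ A₂ → (b : Ω) ∈ A₂ → (ρ a - 1) * (ρ b - 1) = 0 := by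
      intro a b ha hb
      refine AddMonoidHom.ext fun m => ?_
      obtain ⟨v, c⟩ := m
      change (ρ a - 1) ((ρ b - 1) (v, c)) = 0
      rw [show v = Additive.ofMul v.toMul from rfl, hρ, hρ]
      have hmem : ((cv b v.toMul * v.toMul⁻¹ : V) : Ω) ∈ ⁅V, A₁⁆ := by
        rw [Subgroup.commutator_comm]
        have h1 := Subgroup.commutator_mem_commutator hb.1 (v.toMul).2
        simpa [cv, commutatorElement_def] using h1
      have h2 := Subgroup.mem_centralizer_iff.1 ha.2 _ hmem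
      have h3 : cv a (cv b v.toMul * v.toMul⁻¹) = cv b v.toMul * v.toMul⁻¹ :=
        Subtype.ext (mul_inv_eq_iff_eq_mul.2 h2.symm)
      rw [h3, mul_inv_cancel]
      rfl
    let L₂ : AddSubgroup (AddMonoid.End (Additive V × ZMod p)) :=
      { carrier := {Z | ∃ a : G, (a : Ω) ∈ A₂ ∧ ρ a - 1 = Z}
        zero_mem' := ⟨1, A₂.one_mem, by rw [map_one, sub_self]⟩
        add_mem' := by
          rintro _ _ ⟨a, ha, rfl⟩ ⟨b, hb, rfl⟩
          refine ⟨a * b, A₂.mul_mem ha hb, ?_⟩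
          rw [map_mul, i_mul, hquad a b ha hb, add_zero]
        neg_mem' := by
          rintro _ ⟨a, ha, rfl⟩
          refine ⟨a⁻¹, A₂.inv_mem ha, ?_⟩
          have h1 := hquad a⁻¹ a (A₂.inv_mem ha) ha
          have h2 : ρ a⁻¹ * ρ a = 1 := by rw [← map_mul, inv_mul_cancel, map_one]
          exact i_inv h2 h1 }
    have hcardL : Nat.card A₂ = Nat.card L₂ := by
      refine Nat.card_congr (Equiv.ofBijective (fun a => ⟨ρ ⟨a, hE₀G (hA₁E a.2.1)⟩ - 1,
        ⟨a, hE₀G (hA₁E a.2.1)⟩, a.2, rfl⟩) ⟨fun a b hab => ?_, ?_⟩)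
      · have := hρinj (sub_left_inj.1 (congrArg Subtype.val hab))
        exact Subtype.ext (congrArg (fun x : G => (x : Ω)) this)
      · rintro ⟨_, a, ha, rfl⟩
        exact ⟨⟨a, ha⟩, rfl⟩
    refine ⟨L₂, ?_, ?_, ?_, ?_⟩
    · intro hb
      apply hnb hVA
      rw [Subgroup.commutator_eq_bot_iff_le_centralizer, Subgroup.le_centralizer_iff]
      intro a ha
      have h1 : ρ ⟨a, hE₀G (hA₁E ha.1)⟩ - 1 ∈ L₂ := ⟨⟨a, hE₀G (hA₁E ha.1)⟩, ha, rfl⟩
      rw [hb, AddSubgroup.mem_bot, sub_eq_zero, ← map_one ρ] at h1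
      have := congrArg (fun x : G => (x : Ω)) (hρinj h1)
      simp only [OneMemClass.coe_one] at this
      rw [this]
      exact one_mem _
    · rintro _ ⟨a, ha, rfl⟩ _ ⟨b, hb, rfl⟩
      exact hquad a b ha hb
    · rintro _ ⟨a, -, rfl⟩
      exact ⟨a, by abel⟩
    · refine (hVle.trans e2.le).trans ?_
      rw [hcardL]
      refine Nat.mul_le_mul_left _ (Nat.card_le_card_of_injective
        (fun w => ⟨hat (Additive.ofMul ⟨w, w.2.1⟩), ⟨⟨_, rfl⟩, ?_⟩⟩) fun u w huw => ?_)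
      · rintro _ ⟨a, ha, rfl⟩
        refine AddMonoidHom.ext fun m => ?_
        change (ρ a - 1) (hat _ m) = 0
        rw [hhat, show ((m.2.val • Additive.ofMul (⟨w, w.2.1⟩ : V), (0 : ZMod p)) : Additive V × ZMod p) =
          m.2.val • (Additive.ofMul (⟨w, w.2.1⟩ : V), (0 : ZMod p)) by simp, map_nsmul, hρ]
        have h3 : cv a ⟨w, w.2.1⟩ = ⟨w, w.2.1⟩ :=
          Subtype.ext (mul_inv_eq_iff_eq_mul.2 (Subgroup.mem_centralizer_iff.1 w.2.2 _ ha))
        rw [h3, mul_inv_cancel]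
        exact smul_zero _
      · have := hhatinj (congrArg Subtype.val huw)
        exact Subtype.ext (congrArg (fun x : V => (x : Ω)) (Additive.ofMul.injective this))
  -- a candidate of largest weight
  set wt : AddSubgroup (AddMonoid.End (Additive V × ZMod p)) → ℕ := fun L =>
    ∑ i ∈ Finset.range (N + 1), Nat.card ↥(L ⊓ F i) with hwt
  obtain ⟨L, ⟨hLne, hLsq, hLG, hLcard⟩, hLmax⟩ :=
    Set.exists_max_image Cand wt (Set.toFinite _) hCne
  have hLy : ∀ Z ∈ L, Z ∈ F 1 := fun Z hZ => by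
    obtain ⟨g, hg⟩ := hLG Z hZ
    rw [show Z = ρ g - 1 by rw [hg]; abel]
    exact hF1 g
  set A := preOne ρ L hLsq with hA
  have hAnorm : ∀ g : G, A.map (MulAut.conj g).toMonoidHom ≤ Subgroup.normalizer (A : Set G) := by
    by_contra hcon
    push Not at hcon
    obtain ⟨g₀, hg₀⟩ := hcon
    haveI : Group.IsNilpotent ↥G := hG.isNilpotent
    obtain ⟨B, ⟨g, rfl⟩, hBN, hBT⟩ := exists_normalizing_member
      (H := G) {B | ∃ g : G, A.map (MulAut.conj g).toMonoidHom = B}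
      (by rintro x _ ⟨g, rfl⟩; exact ⟨x * g, by rw [Subgroup.map_map]; congr 1; ext; simp [mul_assoc]⟩)
      (Subgroup.normalizer (A : Set G)) ⟨g₀, rfl⟩ hg₀
    obtain ⟨b, hbB, hbN⟩ := SetLike.not_le_iff_exists.1 hBN
    set T : Subgroup G := sSup {C | C ∈ {B | ∃ g : G, A.map (MulAut.conj g).toMonoidHom = B} ∧
      C ≤ Subgroup.normalizer (A : Set G)} with hT
    have hbT : b ∈ Subgroup.normalizer (T : Set G) := hBT hbB
    have hTN : T ≤ Subgroup.normalizer (A : Set G) := sSup_le fun C hC => hC.2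
    have hAT : A ≤ T := le_sSup ⟨⟨1, by ext; simp⟩, Subgroup.le_normalizer⟩
    have hbk : ∀ (k : ℤ) (x : G), x ∈ A → b ^ k * x * (b ^ k)⁻¹ ∈ Subgroup.normalizer (A : Set G) :=
      fun k x hx => hTN ((Subgroup.mem_normalizer_iff.1 (Subgroup.zpow_mem _ hbT k) x).1 (hAT hx))
    set y := ρ b - 1 with hy
    obtain ⟨a₀, ha₀, hba⟩ := hbB
    simp only [MulEquiv.coe_toMonoidHom, MulAut.conj_apply] at hba
    have hcanc : ∀ (x : G) (z : AddMonoid.End (Additive V × ZMod p)), ρ x⁻¹ * (ρ x * z) = z :=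
      fun x z => by rw [← mul_assoc, ← map_mul, inv_mul_cancel, map_one, one_mul]
    have hy2 : y * y = 0 := by
      rw [hy, ← hba, conj_sub_one]
      calc ρ g * (ρ a₀ - 1) * ρ g⁻¹ * (ρ g * (ρ a₀ - 1) * ρ g⁻¹)
          = ρ g * ((ρ a₀ - 1) * (ρ a₀ - 1)) * ρ g⁻¹ := by
            simp only [mul_assoc, hcanc]
        _ = 0 := by rw [hLsq _ ha₀ _ ha₀, mul_zero, zero_mul]
    have hρb : ρ b = 1 + y := by rw [hy]; abel
    have hρb' : ρ b⁻¹ = 1 - y := by
      have h1 : (1 + y) * (1 - y) = 1 := by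
        rw [i_unit, hy2, sub_zero]
      calc ρ b⁻¹ = ρ b⁻¹ * (ρ b * (1 - y)) := by rw [hρb, h1, mul_one]
        _ = 1 - y := hcanc b _
    set Li : Fin 3 → AddSubgroup (AddMonoid.End (Additive V × ZMod p)) := fun i =>
      L.map (cjHom ρ (b ^ (i : ℤ))) with hLi
    have hfam : IsQuadFamily Li := by
      refine ⟨?_, ?_⟩
      · rintro i _ ⟨u, hu, rfl⟩ _ ⟨v, hv, rfl⟩
        calc ρ (b ^ (i : ℤ)) * u * ρ (b ^ (i : ℤ))⁻¹ * (ρ (b ^ (i : ℤ)) * v * ρ (b ^ (i : ℤ))⁻¹)
            = ρ (b ^ (i : ℤ)) * (u * v) * ρ (b ^ (i : ℤ))⁻¹ := by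
              simp only [mul_assoc, hcanc]
          _ = 0 := by rw [hLsq u hu v hv, mul_zero, zero_mul]
      · intro i j z hz a ha
        obtain ⟨z', hz', rfl⟩ := hz
        obtain ⟨x, hx⟩ := hLG z' hz'
        have hxA : x ∈ A := by
          rw [hA, mem_preOne, hx]; simpa using hz'
        set u := b ^ (j : ℤ) * x * (b ^ (j : ℤ))⁻¹ with hu
        have hzu : cjHom ρ (b ^ (j : ℤ)) z' = ρ u - 1 := by
          rw [hu, conj_sub_one, cjHom_apply, hx, add_sub_cancel_left]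
        -- `u` normalizes `L i`
        have hn : ∀ w ∈ Subgroup.normalizer (A : Set G), ∀ c ∈ L, ρ w * c * ρ w⁻¹ ∈ L := by
          intro w hw c hc
          obtain ⟨t, ht⟩ := hLG c hc
          have htA : t ∈ A := by rw [hA, mem_preOne, ht]; simpa using hc
          have h1 := (Subgroup.mem_normalizer_iff.1 hw t).1 htA
          rw [hA, mem_preOne, conj_sub_one, ht, add_sub_cancel_left] at h1
          exact h1
        have hconj : ∀ w, (b ^ (i : ℤ))⁻¹ * w * b ^ (i : ℤ) ∈ Subgroup.normalizer (A : Set G) →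
            ρ w * a * ρ w⁻¹ ∈ Li i := by
          intro w hw
          obtain ⟨c, hc, rfl⟩ := ha
          refine ⟨_, hn _ hw c hc, ?_⟩
          rw [cjHom_apply, cjHom_apply]
          calc ρ (b ^ (i : ℤ)) * (ρ ((b ^ (i : ℤ))⁻¹ * w * b ^ (i : ℤ)) * c *
                ρ ((b ^ (i : ℤ))⁻¹ * w * b ^ (i : ℤ))⁻¹) * ρ (b ^ (i : ℤ))⁻¹
              = (ρ (b ^ (i : ℤ) * ((b ^ (i : ℤ))⁻¹ * w * b ^ (i : ℤ)))) * c *
                ρ (((b ^ (i : ℤ))⁻¹ * w * b ^ (i : ℤ))⁻¹ * (b ^ (i : ℤ))⁻¹) := by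
                simp only [map_mul, mul_assoc]
            _ = ρ (w * b ^ (i : ℤ)) * c * ρ ((b ^ (i : ℤ))⁻¹ * w⁻¹) := by
                rw [show b ^ (i : ℤ) * ((b ^ (i : ℤ))⁻¹ * w * b ^ (i : ℤ)) = w * b ^ (i : ℤ) by group,
                  show ((b ^ (i : ℤ))⁻¹ * w * b ^ (i : ℤ))⁻¹ * (b ^ (i : ℤ))⁻¹ =
                    (b ^ (i : ℤ))⁻¹ * w⁻¹ by group]
            _ = _ := by simp only [map_mul, mul_assoc]
        have hmemu : (b ^ (i : ℤ))⁻¹ * u * b ^ (i : ℤ) ∈ Subgroup.normalizer (A : Set G) := by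
          have h1 := hbk ((j : ℤ) - i) x hxA
          have e : b ^ ((j : ℤ) - i) * x * (b ^ ((j : ℤ) - i))⁻¹ =
              (b ^ (i : ℤ))⁻¹ * u * b ^ (i : ℤ) := by rw [hu]; group
          rwa [e] at h1
        have h1 := hconj u hmemu
        have h2 := hconj u⁻¹ (by
          have := inv_mem hmemu
          rwa [show ((b ^ (i : ℤ))⁻¹ * u * b ^ (i : ℤ))⁻¹ = (b ^ (i : ℤ))⁻¹ * u⁻¹ * b ^ (i : ℤ) by
            group] at this)
        rw [inv_inv] at h2
        rw [hzu]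
        set Z := ρ u - 1 with hZ
        have hZ2 : Z * Z = 0 := by
          rw [← hzu, cjHom_apply]
          calc ρ (b ^ (j : ℤ)) * z' * ρ (b ^ (j : ℤ))⁻¹ * (ρ (b ^ (j : ℤ)) * z' * ρ (b ^ (j : ℤ))⁻¹)
              = ρ (b ^ (j : ℤ)) * (z' * z') * ρ (b ^ (j : ℤ))⁻¹ := by simp only [mul_assoc, hcanc]
            _ = 0 := by rw [hLsq z' hz' z' hz', mul_zero, zero_mul]
        have hu1 : ρ u = 1 + Z := by rw [hZ]; abel
        have hu2 : ρ u⁻¹ = 1 - Z := by
          have h3 : (1 + Z) * (1 - Z) = 1 := by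
            rw [i_unit, hZ2, sub_zero]
          calc ρ u⁻¹ = ρ u⁻¹ * (ρ u * (1 - Z)) := by rw [hu1, h3, mul_one]
            _ = 1 - Z := hcanc u _
        rw [hu1, hu2] at h1 h2
        have h3 := (Li i).zsmul_mem (sub_mem h1 h2) (3 * h)
        rwa [i_anti, h3h] at h3
    have hb2 : ρ (b ^ (2 : ℤ)) = 1 + (y + y) ∧ ρ (b ^ (2 : ℤ))⁻¹ = 1 - (y + y) := by
      constructor
      · rw [zpow_two, map_mul, hρb, i_sqp, hy2, add_zero]
      · rw [zpow_two, mul_inv_rev, map_mul, hρb', i_sqm, hy2, add_zero]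
    set K := Li 0 ⊔ Li 1 ⊔ Li 2 with hK
    have hLK : ∀ X ∈ L, X ∈ K ∧ y * X - X * y ∈ K ∧ y * X * y ∈ K := by
      intro X hX
      have m0 : X ∈ K := AddSubgroup.mem_sup_left (AddSubgroup.mem_sup_left
        ⟨X, hX, by simp [cjHom_apply]⟩)
      have m1 : (1 + y) * X * (1 - y) ∈ K := AddSubgroup.mem_sup_left (AddSubgroup.mem_sup_right
        ⟨X, hX, by simp [cjHom_apply, hρb, hρb']⟩)
      have m2 : (1 + (y + y)) * X * (1 - (y + y)) ∈ K := AddSubgroup.mem_sup_right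
        ⟨X, hX, by
          rw [cjHom_apply, show (((2 : Fin 3) : ℕ) : ℤ) = 2 by rfl, hb2.1, hb2.2]⟩
      have e1 : y * X * y ∈ K := by
        have h3 := K.zsmul_mem
          (sub_mem (sub_mem (add_mem m1 m1) m2) m0) (3 * h)
        rwa [i_two, h3h] at h3
      refine ⟨m0, ?_, e1⟩
      rw [i_one]
      exact add_mem (sub_mem m1 m0) e1
    set L' := limConj y L with hL'
    have hL'sq := limConj_mul_eq_zero hy2 hLsq
    have hL'K : L' ≤ K := limConj_le hLK
    have hL'G : ∀ Z ∈ L', 1 + Z ∈ MonoidHom.mrange ρ := by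
      intro Z hZ
      obtain ⟨u, hu, c, hc, rfl⟩ := AddSubgroup.mem_sup.1 (hL'K hZ)
      obtain ⟨a, ha, b', hb', rfl⟩ := AddSubgroup.mem_sup.1 hu
      refine hfam.one_add_mem h6 _ (fun i z hz => ?_) ha hb' hc (hL'sq _ hZ _ hZ)
      obtain ⟨z', hz', rfl⟩ := hz
      obtain ⟨x, hx⟩ := hLG z' hz'
      refine ⟨b ^ (i : ℤ) * x * (b ^ (i : ℤ))⁻¹, ?_⟩
      have := conj_sub_one ρ (b ^ (i : ℤ)) x
      rw [hx, add_sub_cancel_left] at this
      rw [cjHom_apply, ← this]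
      abel
    have hann : limConj y (ann L) ≤ ann L' := by
      intro w hw
      refine ⟨?_, fun Z hZ => limConj_mul_eq_zero hy2 (fun a ha c hc => ((AddSubgroup.mem_inf.1 hc).2 : ∀ Z ∈ L, Z * c = 0) a ha) Z hZ w hw⟩
      refine limConj_le (fun c hc => ?_) hw
      obtain ⟨h1, h2⟩ := hHWl b c (AddSubgroup.mem_inf.1 hc).1
      refine ⟨(AddSubgroup.mem_inf.1 hc).1, ?_, ?_⟩
      · rw [h2, sub_zero]; exact h1
      · rw [mul_assoc, h2, mul_zero]; exact HW.zero_mem
    have hL'mem : L' ∈ Cand := by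
      have hc := card_le_card_limConj hy2 L
      refine ⟨?_, hL'sq, hL'G, hLcard.trans (Nat.mul_le_mul hc ((card_le_card_limConj hy2 (ann L)).trans
        (AddSubgroup.card_le_of_le hann)))⟩
      intro hb
      rw [← hL', hb, AddSubgroup.card_bot] at hc
      exact hLne (AddSubgroup.eq_bot_of_card_le _ hc)
    -- the weight increases
    have hyF : ∀ i, ∀ X ∈ F i, y * X - X * y ∈ F (i + 1) ∧ y * X * y ∈ F (i + 1) := by
      intro i X hX
      refine ⟨sub_mem ?_ (hFmul i 1 X hX y (hF1 b)), ?_⟩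
      · rw [add_comm i 1]; exact hFmul 1 i y (hF1 b) X hX
      · refine hFanti _ (1 + i + 1) (by omega) ?_
        exact hFmul _ 1 _ (hFmul 1 i y (hF1 b) X hX) y (hF1 b)
    have hsub : ∀ i, limConj y (L ⊓ F i) ≤ L' ⊓ F i := fun i =>
      le_inf (limConj_mono inf_le_left) (limConj_le fun X hX =>
        ⟨hX.2, hFanti i (i + 1) (Nat.le_succ i) (hyF i X hX.2).1,
          hFanti i (i + 1) (Nat.le_succ i) (hyF i X hX.2).2⟩)
    have hcle : ∀ i, Nat.card ↥(L ⊓ F i) ≤ Nat.card ↥(L' ⊓ F i) := fun i =>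
      (card_le_card_limConj hy2 _).trans (AddSubgroup.card_le_of_le (hsub i))
    have hex : ∃ i, ∀ X ∈ L ⊓ F i, y * X - X * y ∈ L ⊓ F i ∧ y * X * y ∈ L ⊓ F i := by
      refine ⟨N + 1, fun X hX => ?_⟩
      rw [hFN, inf_bot_eq, AddSubgroup.mem_bot] at hX
      subst hX
      simp
    have hnot : ¬ ∀ X ∈ L, y * X - X * y ∈ L ∧ y * X * y ∈ L := by
      intro hinv
      apply hbN
      refine Subgroup.mem_normalizer_fintype fun x hx => ?_
      rw [SetLike.mem_coe, hA, mem_preOne] at hx ⊢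
      rw [conj_sub_one, hρb, hρb', i_conj]
      exact sub_mem (add_mem hx (hinv _ hx).1) (hinv _ hx).2
    obtain ⟨i₁, hi₁⟩ : ∃ i₁, Nat.find hex = i₁ + 1 := by
      refine ⟨Nat.find hex - 1, (Nat.sub_add_cancel ?_).symm⟩
      by_contra h0
      have h0' : Nat.find hex = 0 := by omega
      apply hnot
      intro X hX
      have := Nat.find_spec hex
      rw [h0'] at this
      obtain ⟨h1, h2⟩ := this X ⟨hX, hFanti 0 1 (Nat.zero_le 1) (hLy X hX)⟩
      exact ⟨h1.1, h2.1⟩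
    have hi1lt : i₁ + 1 ≤ N + 1 := by
      rw [← hi₁]
      refine Nat.find_le fun X hX => ?_
      rw [hFN, inf_bot_eq, AddSubgroup.mem_bot] at hX
      subst hX
      simp
    have hspec := Nat.find_spec hex
    rw [hi₁] at hspec
    have hmin := Nat.find_min hex (m := i₁) (by omega)
    obtain ⟨e, he, heF, heL⟩ := exists_limConj_not_mem hy2 (L := L ⊓ F i₁) (K := F (i₁ + 1))
      (fun X hX => hyF i₁ X hX.2)
      (fun X hX => by
        obtain ⟨h1, h2⟩ := hspec X ⟨hX.1.1, hX.2⟩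
        exact ⟨⟨⟨h1.1, hFanti _ _ (Nat.le_succ i₁) h1.2⟩, h1.2⟩,
          ⟨⟨h2.1, hFanti _ _ (Nat.le_succ i₁) h2.2⟩, h2.2⟩⟩)
      hmin
    have hlt : Nat.card ↥(L ⊓ F (i₁ + 1)) < Nat.card ↥(L' ⊓ F (i₁ + 1)) := by
      have hle : L ⊓ F (i₁ + 1) ≤ L' ⊓ F (i₁ + 1) :=
        (le_limConj_of_invariant hy2 hspec).trans (hsub (i₁ + 1))
      refine lt_of_le_of_ne (AddSubgroup.card_le_of_le hle) fun heq => heL ?_
      have heq' := AddSubgroup.eq_of_le_of_card_ge hle heq.ge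
      have hm : e ∈ L ⊓ F (i₁ + 1) := by
        rw [heq']; exact ⟨limConj_mono inf_le_left he, heF⟩
      exact ⟨hm.1, hFanti _ _ (Nat.le_succ i₁) hm.2⟩
    have hwlt : wt L < wt L' := by
      refine Finset.sum_lt_sum (fun i _ => hcle i) ⟨i₁ + 1, Finset.mem_range.2 ?_, hlt⟩
      rcases Nat.lt_or_ge (i₁ + 1) (N + 1) with h' | h'
      · exact h'
      · exfalso
        have he' : i₁ + 1 = N + 1 := le_antisymm hi1lt h'
        rw [he', hFN, inf_bot_eq, inf_bot_eq] at hlt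
        exact lt_irrefl _ hlt
    exact absurd (hLmax L' hL'mem) (not_le.2 hwlt)
  refine ⟨A.map G.subtype, Subgroup.map_subtype_le _, ?_, ?_, ?_, ?_, ?_⟩
  · intro hb
    rw [Subgroup.map_eq_bot_iff_of_injective _ G.subtype_injective] at hb
    refine hLne (eq_bot_iff.2 fun Z hZ => AddSubgroup.mem_bot.2 ?_)
    obtain ⟨x, hx⟩ := hLG Z hZ
    have hxA : x ∈ A := by rw [hA, mem_preOne, hx]; simpa using hZ
    rw [hb, Subgroup.mem_bot] at hxA
    rw [hxA, map_one] at hx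
    simpa using hx.symm
  · refine ⟨⟨⟨?_⟩⟩, ?_⟩
    · rintro ⟨_, a, ha, rfl⟩ ⟨_, c, hc, rfl⟩
      refine Subtype.ext (congrArg (fun x : G => (x : Ω)) (hρinj ?_ : a * c = c * a))
      rw [map_mul, map_mul, i_prod (ρ a), i_prod (ρ c), hLsq _ ha _ hc, hLsq _ hc _ ha]
      abel
    · rintro _ ⟨a, ha, rfl⟩
      have h1 : a ^ p = 1 := by
        apply hρinj
        rw [map_pow, map_one]
        rw [i_pow (hLsq _ ha _ ha), hchar, add_zero]
      exact congrArg (fun x : G => (x : Ω)) h1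
  · refine hLcard.trans (Nat.mul_le_mul (le_of_eq ?_) ?_)
    · rw [Subgroup.card_map_of_injective G.subtype_injective]
      symm
      refine Nat.card_congr (Equiv.ofBijective (fun a => ⟨ρ a.1 - 1, a.2⟩) ⟨fun u v huv => ?_, ?_⟩)
      · exact Subtype.ext (hρinj (sub_left_inj.1 (congrArg Subtype.val huv)))
      · rintro ⟨Z, hZ⟩
        obtain ⟨x, hx⟩ := hLG Z hZ
        exact ⟨⟨x, by rw [hA, mem_preOne, hx]; simpa using hZ⟩,
          Subtype.ext ((congrArg (fun z => z - 1) hx).trans (add_sub_cancel_left 1 Z))⟩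
    · have hw : ∀ w : ann L, ∃ v : Additive V, hat v = w.1 := fun w => w.2.1
      choose fv hfv using hw
      refine Nat.card_le_card_of_injective (fun w => ⟨((fv w).toMul : V), (fv w).toMul.2, ?_⟩)
        fun u w huw => ?_
      · refine Subgroup.mem_centralizer_iff.2 ?_
        rintro _ ⟨a, ha, rfl⟩
        have h1 := DFunLike.congr_fun (w.2.2 (ρ a - 1) ha) (0, 1)
        change (ρ a - 1) (w.1 (0, 1)) = 0 at h1
        rw [← hfv w, hhat, ZMod.val_one, one_smul, show fv w = Additive.ofMul (fv w).toMul from rfl,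
          hρ] at h1
        have h2 : cv a (fv w).toMul * ((fv w).toMul)⁻¹ = 1 := congrArg Prod.fst h1
        exact mul_inv_eq_iff_eq_mul.1 (congrArg Subtype.val (mul_inv_eq_one.1 h2))
      · have h0 := congrArg Subtype.val huw
        have : fv u = fv w := Additive.toMul.injective (Subtype.ext h0)
        exact Subtype.ext (by rw [← hfv u, ← hfv w, this])
  · rw [Subgroup.commutator_eq_bot_iff_le_centralizer, Subgroup.commutator_le]
    rintro v hv _ ⟨b, hb, rfl⟩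
    refine Subgroup.mem_centralizer_iff.2 ?_
    rintro _ ⟨a, ha, rfl⟩
    have h1 := DFunLike.congr_fun (hLsq _ ha _ hb) (Additive.ofMul (⟨v, hv⟩ : V), 0)
    change (ρ a - 1) ((ρ b - 1) _) = 0 at h1
    rw [hρ, hρ] at h1
    have h2 : cv a (cv b ⟨v, hv⟩ * (⟨v, hv⟩ : V)⁻¹) * (cv b ⟨v, hv⟩ * (⟨v, hv⟩ : V)⁻¹)⁻¹ = 1 :=
      congrArg Prod.fst h1
    rw [← commutatorElement_inv]
    have h3 := congrArg Subtype.val (mul_inv_eq_one.1 h2)
    have h4 : Commute (a : Ω) ⁅(b : Ω), v⁆ := by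
      refine mul_inv_eq_iff_eq_mul.1 ?_
      simpa [cv, commutatorElement_def, mul_assoc] using h3
    exact h4.inv_right.eq
  · intro g hg a ha
    obtain ⟨a', ha', rfl⟩ := ha
    have hle : Subgroup.closure {x : Ω | ∃ k ∈ G, ∃ c ∈ A.map G.subtype, x = k * c * k⁻¹} ≤
        (Subgroup.normalizer (A : Set G)).map G.subtype := by
      rw [Subgroup.closure_le]
      rintro _ ⟨k, hk, _, ⟨c, hc, rfl⟩, rfl⟩
      exact ⟨⟨k, hk⟩ * c * ⟨k, hk⟩⁻¹, hAnorm ⟨k, hk⟩ ⟨c, hc, rfl⟩, rfl⟩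
    obtain ⟨n, hn, rfl⟩ := hle hg
    exact ⟨n * a' * n⁻¹, (Subgroup.mem_normalizer_iff.1 hn a').1 ha', by simp⟩

end Cfsg.Agent.S1935
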