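import Cfsg.Statements.S1939
import Cfsg.Agent.Lib.Transfer.Frobenius

set_option autoImplicit false
open Cfsg
open scoped commutatorElement

namespace Cfsg.Agent.S1939

/-- Let S be a Sylow p-subgroup of the finite group G and a an element of S that is the only G-conjugate of a lying in S. Then every power of a has the same property: for every n, the only G-conjugate of a^n lying in S is a^n. -/
theorem result {G : Type*} [Group G] [Finite G] {p : ℕ} [Fact p.Prime] (S : Sylow p G) (a : G)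
    (haS : a ∈ (S : Subgroup G)) (hwc : ∀ g : G, g * a * g⁻¹ ∈ (S : Subgroup G) → g * a * g⁻¹ = a) (n : ℕ) :
    ∀ g : G, g * a ^ n * g⁻¹ ∈ (S : Subgroup G) → g * a ^ n * g⁻¹ = a ^ n := by
  intro g hb
  set b := g * a ^ n * g⁻¹
  have hcen : ∀ s ∈ (S : Subgroup G), s * a = a * s := fun s hs => by
    have h := hwc s (mul_mem (mul_mem hs haS) (inv_mem hs))
    exact mul_inv_eq_iff_eq_mul.1 h
  set K := Subgroup.centralizer ({b} : Set G)
  have haK : a ∈ K := fun y hy => by rw [Set.mem_singleton_iff.1 hy]; exact hcen b hb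
  set a' := g * a * g⁻¹ with ha'
  have haK' : a' ∈ K := fun y hy => by
    rw [Set.mem_singleton_iff.1 hy, ha']
    exact (((Commute.self_pow a n).symm).map (MulAut.conj g)).eq
  obtain ⟨k, hk⟩ := (IsPGroup.iff_orderOf (G := (S : Subgroup G)) (p := p)).1 S.2 ⟨a, haS⟩
  rw [Subgroup.orderOf_mk] at hk
  have hpow : ∀ (y : K), orderOf (y : G) = orderOf a → IsPGroup p (Subgroup.zpowers y) := by
    intro y hy
    exact IsPGroup.of_card (n := k) (by rw [Nat.card_zpowers, ← Subgroup.orderOf_coe, hy, hk])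
  obtain ⟨R, hR⟩ := (hpow ⟨a, haK⟩ rfl).exists_le_sylow
  obtain ⟨R', hR'⟩ := (hpow ⟨a', haK'⟩ (MulEquiv.orderOf_eq (MulAut.conj g) a)).exists_le_sylow
  obtain ⟨c, hc⟩ := MulAction.exists_smul_eq K R' R
  have h1 : c * ⟨a', haK'⟩ * c⁻¹ ∈ (R : Subgroup K) := by
    rw [← hc, Sylow.coe_subgroup_smul]
    exact ⟨_, hR' (Subgroup.mem_zpowers _), rfl⟩
  obtain ⟨T, hT⟩ := (R.2.map K.subtype).exists_le_sylow
  obtain ⟨x, hx⟩ := MulAction.exists_smul_eq G S T
  have mem : ∀ y : G, y ∈ (R : Subgroup K).map K.subtype → x⁻¹ * y * x ∈ (S : Subgroup G) :=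
    fun y hy => CfsgLib.Transfer.sylow_smul_mem_iff.1 (hx.symm ▸ hT hy)
  have m1 := mem a ⟨⟨a, haK⟩, hR (Subgroup.mem_zpowers _), rfl⟩
  have m2 := mem (c * a' * (c : G)⁻¹) ⟨_, h1, rfl⟩
  have e1 := hwc x⁻¹ (by rwa [inv_inv])
  have e2 := hwc (x⁻¹ * c * g) (by
    have e : x⁻¹ * c * g * a * (x⁻¹ * c * g)⁻¹ = x⁻¹ * (c * a' * (c : G)⁻¹) * x := by rw [ha']; group
    rwa [e])
  have e3 : (c : G) * a' * (c : G)⁻¹ = a := by
    calc (c : G) * a' * (c : G)⁻¹ = x * (x⁻¹ * c * g * a * (x⁻¹ * c * g)⁻¹) * x⁻¹ := by rw [ha']; group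
      _ = x * (x⁻¹ * a * x⁻¹⁻¹) * x⁻¹ := by rw [e2, e1]
      _ = a := by group
  have e4 : MulAut.conj (c : G) b = a ^ n := by
    have hb' : b = a' ^ n := by rw [ha', conj_pow]
    rw [hb', map_pow, MulAut.conj_apply, e3]
  rw [MulAut.conj_apply, show (c : G) * b = b * c from (c.2 b rfl).symm, mul_inv_cancel_right] at e4
  exact e4

end Cfsg.Agent.S1939
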