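import Cfsg.Statements.S1940


set_option autoImplicit false
open Cfsg
open scoped commutatorElement

namespace Cfsg.Agent.S1940

/-- Let the finite group L act by automorphisms on the finite abelian group M, and let N be an L-invariant subgroup of M such that M/N is a p-group on which L acts trivially (every l • m lies in the coset mN). If every element of M is a product of an element of N and an element fixed by a Sylow p-subgroup T of L, then every element of M is a product of an element of N and an element fixed by all of L. -/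
theorem result {L : Type*} [Group L] [Finite L] {M : Type*} [CommGroup M] [Finite M] [MulDistribMulAction L M]
    {p : ℕ} [Fact p.Prime] (N : Subgroup M) (hN : ∀ (l : L) (m : M), m ∈ N → l • m ∈ N)
    (hquot : IsPGroup p (M ⧸ N)) (htriv : ∀ (l : L) (m : M), (l • m) * m⁻¹ ∈ N) (T : Sylow p L)
    (hT : ∀ m : M, ∃ n ∈ N, ∃ c : M, (∀ t ∈ (T : Subgroup L), t • c = c) ∧ m = n * c) :
    ∀ m : M, ∃ n ∈ N, ∃ c : M, (∀ l : L, l • c = c) ∧ m = n * c := by
  classical
  have := Fintype.ofFinite (L ⧸ (T : Subgroup L))
  intro m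
  obtain ⟨n₀, hn₀, c, hc, rfl⟩ := hT m
  set F : M := ∏ q : L ⧸ (T : Subgroup L), (Quotient.out q : L) • c
  have hF : ∀ l : L, l • F = F := by
    intro l
    rw [show F = ∏ q : L ⧸ (T : Subgroup L), (Quotient.out q : L) • c from rfl, Finset.smul_prod']
    refine Fintype.prod_equiv (MulAction.toPerm l) _ _ fun q => ?_
    rw [MulAction.toPerm_apply, ← mul_smul]
    have hq : (QuotientGroup.mk (Quotient.out (l • q)) : L ⧸ (T : Subgroup L)) = QuotientGroup.mk (l * Quotient.out q) := by
      rw [QuotientGroup.out_eq', ← smul_eq_mul, ← MulAction.Quotient.smul_mk, QuotientGroup.out_eq']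
    have ht := QuotientGroup.eq.1 hq
    have hd : l * Quotient.out q = Quotient.out (l • q) * ((Quotient.out (l • q))⁻¹ * (l * Quotient.out q)) := by group
    rw [hd, mul_smul, hc _ ht]
  have hmod : (QuotientGroup.mk F : M ⧸ N) = (QuotientGroup.mk c : M ⧸ N) ^ (T : Subgroup L).index := by
    rw [show F = ∏ q : L ⧸ (T : Subgroup L), (Quotient.out q : L) • c from rfl, ← QuotientGroup.mk'_apply, map_prod]
    have h1 : ∀ q : L ⧸ (T : Subgroup L), QuotientGroup.mk' N ((Quotient.out q : L) • c) = QuotientGroup.mk c := by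
      intro q
      rw [QuotientGroup.mk'_apply, QuotientGroup.eq_iff_div_mem, div_eq_mul_inv]
      exact htriv _ c
    rw [Finset.prod_congr rfl (fun q _ => h1 q), Finset.prod_const, Finset.card_univ, Subgroup.index, Nat.card_eq_fintype_card]
  obtain ⟨e, he⟩ := (IsPGroup.iff_orderOf (G := M ⧸ N) (p := p)).1 hquot (QuotientGroup.mk c)
  have hcop : ((T : Subgroup L).index).Coprime (orderOf (QuotientGroup.mk c : M ⧸ N)) := by
    rw [he]
    exact (((Fact.out : p.Prime).coprime_iff_not_dvd.2 T.not_dvd_index).symm).pow_right e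
  obtain ⟨j, hj⟩ := exists_pow_eq_self_of_coprime hcop
  refine ⟨n₀ * c * (F ^ j)⁻¹, ?_, F ^ j, fun l => by rw [smul_pow', hF l], by rw [inv_mul_cancel_right]⟩
  rw [← QuotientGroup.eq_one_iff, QuotientGroup.mk_mul, QuotientGroup.mk_mul, QuotientGroup.mk_inv, QuotientGroup.mk_pow, hmod, hj, (QuotientGroup.eq_one_iff n₀).2 hn₀, one_mul, mul_inv_cancel]

end Cfsg.Agent.S1940
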