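import Cfsg.Statements.S1941
import Cfsg.Agent.Lib.Comp.Local

set_option autoImplicit false
set_option linter.style.haveILetI false
open Cfsg

namespace Cfsg.Agent.S1941

/-- Let G be a finite group with no nontrivial normal subgroup of order prime to p, T a Sylow p-subgroup of G and E(G) the layer of G (the subgroup generated by its components). An automorphism of G of p-power order that fixes T and E(G) elementwise is inner. -/
theorem result {G : Type*} [Group G] [Finite G] {p : ℕ} [Fact p.Prime] (hcore : Cfsg.pPrimeCore p G = ⊥)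
    (T : Sylow p G) (α : MulAut G) (hα : ∃ j : ℕ, orderOf α = p ^ j) (hfixT : ∀ x ∈ (T : Subgroup G), α x = x)
    (hfixE : ∀ x ∈ Cfsg.layer G, α x = x) : ∃ g : G, ∀ x : G, α x = g * x * g⁻¹ := by
  open Subgroup CfsgLib.Comp in
  open scoped IsMulCommutative in
  classical
  haveI := generalizedFittingSubgroup_normal G
  set F := Cfsg.generalizedFittingSubgroup G with hF
  set C := centralizer (F : Set G) with hC
  haveI hCn : C.Normal := inferInstance
  haveI : (Cfsg.pCore p G).Normal := Cfsg.pCore_normal p G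
  have hfit := fittingSubgroup_eq_pCore_of_core (p := p) hcore
  have hfix : F ≤ α.toMonoidHom.eqLocus (MonoidHom.id G) := by
    refine sup_le hfixE ?_
    rw [hfit]
    intro x hx
    refine hfixT x ?_
    rw [← T.is_maximal' (T.isPGroup'.to_sup_of_normal_right (isPGroup_pCore p G)) le_sup_left]
    exact mem_sup_right hx
  have hfC : ∀ g, α g * g⁻¹ ∈ C := by
    intro g
    rw [hC, mem_centralizer_iff]
    intro x hx
    have hy : g⁻¹ * x * g ∈ F := by
      simpa using Subgroup.Normal.conj_mem (H := F) inferInstance x hx g⁻¹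
    have h1 : α g * (g⁻¹ * x * g) * (α g)⁻¹ = x := by
      conv_lhs => rw [← show α (g⁻¹ * x * g) = g⁻¹ * x * g from hfix hy]
      rw [← map_inv, ← map_mul, ← map_mul, show g * (g⁻¹ * x * g) * g⁻¹ = x by group]
      exact hfix hx
    have h2 : α g * g⁻¹ * x = x * (α g * g⁻¹) := by
      conv_rhs => rw [← h1]
      group
    exact h2.symm
  have hCF : C ≤ Cfsg.fittingSubgroup G := centralizer_generalizedFitting_le_fitting G
  haveI : IsMulCommutative C := ⟨⟨fun a b => Subtype.ext
    (mem_centralizer_iff.1 b.2 (a : G) ((hCF.trans le_sup_right) a.2))⟩⟩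
  haveI : Fintype (G ⧸ (T : Subgroup G)) := Fintype.ofFinite _
  set n := Fintype.card (G ⧸ (T : Subgroup G)) with hn
  have hco : (Nat.card C).Coprime n := by
    obtain ⟨k, hk⟩ := IsPGroup.iff_card.1 ((isPGroup_pCore p G).to_le (hCF.trans hfit.le))
    rw [hk, hn, ← Nat.card_eq_fintype_card]
    exact Nat.Coprime.pow_left _ ((Nat.Prime.coprime_iff_not_dvd Fact.out).2 T.not_dvd_index)
  let f : G → C := fun g => ⟨α g * g⁻¹, hfC g⟩
  let F' : G ⧸ (T : Subgroup G) → C := Quotient.lift f (fun a b hab => by
    have h1 : a⁻¹ * b ∈ (T : Subgroup G) := QuotientGroup.leftRel_apply.1 hab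
    refine Subtype.ext ?_
    change α a * a⁻¹ = α b * b⁻¹
    have h2 : α b = α a * (a⁻¹ * b) := by
      rw [← hfixT _ h1, ← map_mul]; congr 1; group
    rw [h2]; group)
  have hF' : ∀ g (x : G ⧸ (T : Subgroup G)), F' (g • x) = f g * MulAut.conjNormal g (F' x) := by
    intro g x
    induction x using QuotientGroup.induction_on with
    | _ a =>
      refine Subtype.ext ?_
      change α (g * a) * (g * a)⁻¹ = (α g * g⁻¹) * ((MulAut.conjNormal g (f a) : C) : G)
      rw [MulAut.conjNormal_apply, map_mul]
      change α g * α a * (g * a)⁻¹ = α g * g⁻¹ * (g * (α a * a⁻¹) * g⁻¹)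
      group
  set w := ∏ x : G ⧸ (T : Subgroup G), F' x with hw
  refine ⟨(((powCoprime hco).symm w : C) : G), fun g => ?_⟩
  set v := (powCoprime hco).symm w with hv
  have hvn : v ^ n = w := (powCoprime hco).apply_symm_apply w
  have h1 : w = f g ^ n * MulAut.conjNormal g w := by
    have h := Equiv.prod_comp (MulAction.toPerm g) F'
    rw [← hw] at h
    conv_lhs => rw [← h]
    simp only [MulAction.toPerm_apply, hF', Finset.prod_mul_distrib, Finset.prod_const,
      Finset.card_univ]
    rw [← map_prod, ← hw]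
  rw [← hvn, map_pow, ← mul_pow] at h1
  have h2 : v = f g * MulAut.conjNormal g v := (powCoprime hco).injective h1
  have h3 : (v : G) = α g * g⁻¹ * (g * v * g⁻¹) := by
    have := congrArg Subtype.val h2
    rwa [Subgroup.coe_mul, MulAut.conjNormal_apply] at this
  calc α g = (α g * g⁻¹ * (g * v * g⁻¹)) * (g * v * g⁻¹)⁻¹ * g := by group
    _ = (v : G) * (g * v * g⁻¹)⁻¹ * g := by rw [← h3]
    _ = _ := by group

end Cfsg.Agent.S1941
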