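import Cfsg.Statements.S1944
import Cfsg.Agent.Lib.Comp.PConstrained
import Cfsg.Agent.Lib.Comp.ExtLayer
import Cfsg.Agent.Lib.PLocal.Sylow
-- import your own Cfsg.Agent.* helpers here

set_option autoImplicit false
set_option linter.style.haveILetI false
open Cfsg

namespace Cfsg.Agent.S1944

/-- Let S be a Sylow p-subgroup of the finite group G and suppose that the centre Z(S) lies in O_{p',p}(G). The elements of S each of which is its only G-conjugate in S form a subgroup W of Z(S); W is then a direct factor of Z(S): there is a subgroup K of Z(S) with W ∩ K = 1 and WK = Z(S). -/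
theorem result {G : Type*} [Group G] [Finite G] {p : ℕ} [Fact p.Prime] (S : Sylow p G)
    (hZ : ((S : Subgroup G) ⊓ Subgroup.centralizer ((S : Subgroup G) : Set G)) ≤ Cfsg.pPrimePCore p G) :
    ∃ W K : Subgroup G, (∀ x : G, x ∈ W ↔ (x ∈ (S : Subgroup G) ∧ ∀ g : G, g * x * g⁻¹ ∈ (S : Subgroup G) → g * x * g⁻¹ = x)) ∧
      K ≤ ((S : Subgroup G) ⊓ Subgroup.centralizer ((S : Subgroup G) : Set G)) ∧ W ⊓ K = ⊥ ∧ W ⊔ K = ((S : Subgroup G) ⊓ Subgroup.centralizer ((S : Subgroup G) : Set G)) := by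
  open Subgroup CfsgLib in
  classical
  haveI := Fintype.ofFinite G
  set M := Cfsg.pPrimePCore p G with hM
  haveI : M.Normal := Comp.pPrimePCore_normal p G
  set C := Cfsg.pPrimeCore p G with hC
  haveI : C.Normal := Cfsg.pPrimeCore_normal p G
  set Q := (S : Subgroup G) ⊓ M with hQ
  set H := normalizer (Q : Set G) with hH
  set Z := (S : Subgroup G) ⊓ centralizer ((S : Subgroup G) : Set G) with hZdef
  have hZQ : Z ≤ Q := le_inf inf_le_left hZ
  have hSH : (S : Subgroup G) ≤ H := (le_inf le_normalizer (PLocal.le_normalizer_of_normal _ M)).trans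
    (inf_normalizer_le_normalizer_inf)
  have hcover : ∀ g : G, ∃ h ∈ H, ∃ n ∈ C, g = h * n := by
    intro g
    have h1 : C ⊔ H = ⊤ := by
      rw [eq_top_iff, ← PLocal.frattini_sup S M]
      refine sup_le ((PLocal.normal_pGroup_quotient_le S ?_ (PLocal.pCore_comap_relIndex C)).trans ?_) le_sup_right
      · intro x hx
        simp [mem_comap, (QuotientGroup.eq_one_iff x).2 hx, one_mem]
      · exact sup_le le_sup_left (le_trans (le_normalizer : Q ≤ H) le_sup_right)
    obtain ⟨h, hh, n, hn, e⟩ := mem_sup_of_normal_right.1 (show g ∈ H ⊔ C by rw [sup_comm, h1]; exact mem_top g)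
    exact ⟨h, hh, n, hn, e.symm⟩
  have key : ∀ x : G, (x ∈ (S : Subgroup G) ∧ ∀ g : G, g * x * g⁻¹ ∈ (S : Subgroup G) → g * x * g⁻¹ = x) ↔
      x ∈ (S : Subgroup G) ⊓ centralizer (H : Set G) := by
    intro x
    constructor
    · rintro ⟨hx, hw⟩
      have hxZ : x ∈ Z := mem_inf.2 ⟨hx, mem_centralizer_iff.2 fun s hs => by
        have := hw s (mul_mem (mul_mem hs hx) (inv_mem hs))
        exact mul_inv_eq_iff_eq_mul.1 this⟩
      refine mem_inf.2 ⟨hx, mem_centralizer_iff.2 fun h hh => ?_⟩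
      have h1 : h * x * h⁻¹ ∈ Q := (mem_normalizer_iff.1 hh x).1 (hZQ hxZ)
      exact mul_inv_eq_iff_eq_mul.1 (hw h (mem_inf.1 h1).1)
    · intro hx
      obtain ⟨hxS, hxC⟩ := mem_inf.1 hx
      have hxQ : x ∈ Q := hZQ (mem_inf.2 ⟨hxS, centralizer_le hSH hxC⟩)
      refine ⟨hxS, fun g hg => ?_⟩
      obtain ⟨h, hh, n, hn, rfl⟩ := hcover g
      set T := (S : Subgroup G).map (MulAut.conj h⁻¹).toMonoidHom with hT
      have hTp : IsPGroup p T := S.2.map _
      have h1 : n * x * n⁻¹ ∈ T := ⟨h * n * x * (h * n)⁻¹, hg, by simp [mul_assoc]⟩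
      have h2 : x ∈ T := ⟨h * x * h⁻¹, (mem_inf.1 ((mem_normalizer_iff.1 hh x).1 hxQ)).1, by simp [mul_assoc]⟩
      have h3 : x⁻¹ * (n * x * n⁻¹) ∈ T ⊓ C := mem_inf.2 ⟨mul_mem (inv_mem h2) h1, by
        have : x⁻¹ * (n * x * n⁻¹) = (x⁻¹ * n * x⁻¹⁻¹) * n⁻¹ := by group
        rw [this]
        exact mul_mem (Normal.conj_mem inferInstance n hn x⁻¹) (inv_mem hn)⟩
      rw [Comp.inf_eq_bot_of_isPGroup hTp (Comp.coprime_card_pPrimeCore p G), mem_bot,
        inv_mul_eq_one] at h3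
      calc h * n * x * (h * n)⁻¹ = h * (n * x * n⁻¹) * h⁻¹ := by group
        _ = h * x * h⁻¹ := by rw [← h3]
        _ = x := by rw [mem_centralizer_iff.1 hxC h hh, mul_inv_cancel_right]
  -- transfer into the fixed points
  set E := Q ⊓ centralizer (Q : Set G) with hE
  have hEcomm : ∀ a ∈ E, ∀ b ∈ E, a * b = b * a := fun a ha b hb =>
    (mem_centralizer_iff.1 (mem_inf.1 ha).2 b (mem_inf.1 hb).1).symm
  letI : CommGroup E := { (inferInstance : Group E) with
    mul_comm := fun a b => Subtype.ext (hEcomm a a.2 b b.2) }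
  have hEH : ∀ h ∈ H, ∀ a ∈ E, h * a * h⁻¹ ∈ E := by
    intro h hh a ha
    refine mem_inf.2 ⟨(mem_normalizer_iff.1 hh a).1 (mem_inf.1 ha).1, mem_centralizer_iff.2 fun q hq => ?_⟩
    have := mem_centralizer_iff.1 (mem_inf.1 ha).2 (h⁻¹ * q * h)
      ((mem_normalizer_iff.1 hh _).2 (by simpa [mul_assoc] using hq))
    calc q * (h * a * h⁻¹) = h * ((h⁻¹ * q * h) * a) * h⁻¹ := by group
      _ = h * (a * (h⁻¹ * q * h)) * h⁻¹ := by rw [this]
      _ = _ := by group
  have hZE : Z ≤ E := le_inf hZQ (inf_le_right.trans (centralizer_le inf_le_left))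
  let act : (H ⧸ (S : Subgroup G).subgroupOf H) → Z → E := fun q z =>
    Quotient.liftOn' q (fun h => (⟨(h : G) * z * (h : G)⁻¹, hEH h h.2 z (hZE z.2)⟩ : E)) fun a b hab => by
      refine Subtype.ext ?_
      have h1 := mem_subgroupOf.1 (QuotientGroup.leftRel_apply.1 hab)
      have h2 := mem_centralizer_iff.1 (mem_inf.1 z.2).2 _ h1
      simp only [coe_mul, coe_inv] at h2
      calc (a : G) * z * (a : G)⁻¹ = (a : G) * ((z : G) * ((a : G)⁻¹ * b)) * (b : G)⁻¹ := by group
        _ = (a : G) * ((a : G)⁻¹ * b * z) * (b : G)⁻¹ := by rw [h2]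
        _ = _ := by group
  haveI := Fintype.ofFinite (H ⧸ (S : Subgroup G).subgroupOf H)
  let tr : Z →* E := MonoidHom.mk' (fun z => ∏ q, act q z) fun a b => by
    rw [← Finset.prod_mul_distrib]
    refine Finset.prod_congr rfl fun q _ => ?_
    induction q using QuotientGroup.induction_on with
    | _ h => exact Subtype.ext (by simp [act, mul_assoc])
  have hfix : ∀ z : Z, ∀ h : H, (h : G) * (tr z : G) * (h : G)⁻¹ = tr z := by
    intro z h
    let c : E →* E := MonoidHom.mk' (fun a => ⟨(h : G) * a * (h : G)⁻¹, hEH h h.2 a a.2⟩)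
      (fun a b => Subtype.ext (by simp [mul_assoc]))
    have h1 : c (tr z) = tr z := by
      change c (∏ q, act q z) = ∏ q, act q z
      rw [map_prod]
      refine Fintype.prod_bijective (fun q => h • q) (MulAction.bijective h) _ _ fun q => ?_
      induction q using QuotientGroup.induction_on with
      | _ k => exact Subtype.ext (by simp [act, c, mul_assoc, MulAction.Quotient.smul_mk])
    exact congrArg Subtype.val h1
  set W := (S : Subgroup G) ⊓ centralizer (H : Set G) with hWdef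
  have hWZ : W ≤ Z := inf_le_inf_left _ (centralizer_le hSH)
  set n := Nat.card (H ⧸ (S : Subgroup G).subgroupOf H) with hn
  have hpn : ¬ p ∣ n := fun hd => S.not_dvd_index (hd.trans
    ⟨_, (relIndex_mul_index hSH).symm⟩)
  have htrW : ∀ z : Z, (z : G) ∈ W → (tr z : G) = (z : G) ^ n := by
    intro z hz
    have : ∀ q, act q z = ⟨z, hZE z.2⟩ := fun q => by
      induction q using QuotientGroup.induction_on with
      | _ h => exact Subtype.ext (by
          change (h : G) * z * (h : G)⁻¹ = z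
          rw [mem_centralizer_iff.1 (mem_inf.1 hz).2 h h.2, mul_inv_cancel_right])
    change ((∏ q, act q z : E) : G) = _
    simp [this, hn, Nat.card_eq_fintype_card]
  have htrmem : ∀ z : Z, (tr z : G) ∈ W := fun z =>
    mem_inf.2 ⟨(mem_inf.1 (mem_inf.1 (tr z).2).1).1, mem_centralizer_iff.2 fun h hh =>
      mul_inv_eq_iff_eq_mul.1 (hfix z ⟨h, hh⟩)⟩
  have hinj : ∀ w ∈ W, w ^ n = 1 → w = 1 := by
    intro w hw h1
    obtain ⟨k, hk⟩ := S.2 ⟨w, (mem_inf.1 hw).1⟩
    have h2 : w ^ p ^ k = 1 := congrArg Subtype.val hk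
    rw [← orderOf_dvd_iff_pow_eq_one] at h1 h2
    exact orderOf_eq_one_iff.1 (Nat.eq_one_of_dvd_coprimes
      (Nat.Coprime.pow_left k ((Fact.out : p.Prime).coprime_iff_not_dvd.2 hpn)) h2 h1)
  refine ⟨W, tr.ker.map Z.subtype, fun x => (key x).symm, map_subtype_le _, ?_, ?_⟩
  · rw [eq_bot_iff]
    rintro x hx
    obtain ⟨hxW, z, hz, rfl⟩ := mem_inf.1 hx
    have h1 : (tr z : G) = 1 := by rw [MonoidHom.mem_ker.1 hz]; rfl
    exact mem_bot.2 (hinj _ hxW ((htrW z hxW).symm.trans h1))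
  · refine le_antisymm (sup_le hWZ (map_subtype_le _)) fun x hx => ?_
    let f : W → W := fun w => ⟨(w : G) ^ n, pow_mem w.2 n⟩
    have hf : Function.Injective f := by
      intro a b hab
      have h1 : ((a : G)) ^ n = (b : G) ^ n := congrArg Subtype.val hab
      have hc : Commute (a : G) ((b : G)⁻¹) := by
        refine Commute.inv_right ?_
        exact hEcomm _ (hZE (hWZ a.2)) _ (hZE (hWZ b.2))
      refine Subtype.ext (mul_inv_eq_one.1 (hinj _ (mul_mem a.2 (inv_mem b.2)) ?_))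
      rw [hc.mul_pow, inv_pow, h1, mul_inv_cancel]
    obtain ⟨w, hw⟩ := Finite.surjective_of_injective hf ⟨tr ⟨x, hx⟩, htrmem _⟩
    have hw' : (w : G) ^ n = tr ⟨x, hx⟩ := congrArg Subtype.val hw
    have hk : (⟨(w : G)⁻¹ * x, mul_mem (inv_mem (hWZ w.2)) hx⟩ : Z) ∈ tr.ker := by
      have h1 : (⟨(w : G)⁻¹ * x, mul_mem (inv_mem (hWZ w.2)) hx⟩ : Z) = (⟨w, hWZ w.2⟩ : Z)⁻¹ * ⟨x, hx⟩ := rfl
      rw [MonoidHom.mem_ker, h1, map_mul, map_inv, inv_mul_eq_one]
      exact Subtype.ext ((htrW ⟨w, hWZ w.2⟩ w.2).trans hw')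
    have := mul_mem (mem_sup_left (T := tr.ker.map Z.subtype) w.2) (mem_sup_right (mem_map_of_mem Z.subtype hk))
    simpa using this

end Cfsg.Agent.S1944
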