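import Cfsg.Statements.S1985
import Cfsg.Agent.Lib.PLocal.WeakClosureMain

set_option autoImplicit false
universe u
open Cfsg
open scoped commutatorElement

namespace Cfsg.Agent.S1985

/-- Let p be an odd prime and G a finite group. Then the lower K-infinity subgroup controls weak closure of elements in G: the lower K-infinity subgroup of every p-subgroup P of G contains Z(P), and for some (equivalently, every) Sylow p-subgroup S of G, with K the lower K-infinity subgroup of S, every element of S commuting with all of N_G(K) is weakly closed in S with respect to G (every G-conjugate of it lying in S equals it). -/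
theorem result {G : Type u} [Group G] [Finite G] {p : ℕ} [Fact p.Prime] (hp : p ≠ 2) : Cfsg.ControlsWeakClosureOfElementsIn p (Cfsg.inducedFunctor (G := G) Cfsg.kInfLower) ⊤ := by
  open CfsgLib.PLocal Subgroup in
  · refine weakClosure_of_degree (induced_isConjugacyFunctor kInfLower_isCharPFunctor) kInfLower_centre_le
      (fun H T hTH hTp hT hn => ?_) ⊤
    obtain ⟨g, hgT, hgQ, hquad⟩ := kInfLower_quadratic_local H T hTH hTp hT hn
    refine ⟨g, hgT, hgQ, fun U V hUV hU => ?_⟩
    have hp2 : 2 ≤ p - 1 := by
      have := (Fact.out : p.Prime).two_le
      omega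
    have hUn : ∀ z ∈ zpowers g, z ∈ normalizer ((U.map H.subtype : Subgroup G) : Set G) := fun z hz => by
      have hzH : z ∈ H := (zpowers_le.2 (hTH hgT)) hz
      exact le_normalizer_map H.subtype ⟨⟨z, hzH⟩, normalizer_eq_top_iff.2 hUV.2.1 ▸ mem_top _, rfl⟩
    refine ((iterCommutator_antitone hUn hp2).trans ?_).trans (bot_le)
    exact (iterCommutator_mono hU 2).trans hquad.le

end Cfsg.Agent.S1985
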