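import Cfsg.Statements.S1945
import Cfsg.Agent.S1985
import Cfsg.Agent.Lib.PLocal.PairControl
import Cfsg.Agent.Lib.Solvable.HallHigman
import Cfsg.Agent.Lib.Solvable.PCore
import Cfsg.Agent.Lib.Amalgam.PCore
-- import your own Cfsg.Agent.* helpers here

set_option autoImplicit false
open Cfsg

namespace Cfsg.Agent.S1945

open Subgroup
open scoped commutatorElement

/-- The norm map splits the fixed points of `N` off `Z(S)`. -/
theorem split {G : Type*} [Group G] [Finite G] {p : ℕ} [Fact p.Prime] {S N V : Subgroup G}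
    (hS : IsPGroup p S) (hSN : S ≤ N) (hidx : ¬ p ∣ S.relIndex N) (hVS : V ≤ S)
    (hV : IsMulCommutative V) (hVN : N ≤ normalizer (V : Set G))
    (hZV : S ⊓ centralizer (S : Set G) ≤ V) :
    ∃ K : Subgroup G, K ≤ S ⊓ centralizer (S : Set G) ∧
      (S ⊓ centralizer (N : Set G)) ⊓ K = ⊥ ∧
      (S ⊓ centralizer (N : Set G)) ⊔ K = S ⊓ centralizer (S : Set G) := by
  classical
  set Z := S ⊓ centralizer (S : Set G) with hZ
  set W := S ⊓ centralizer (N : Set G) with hW
  have hWZ : W ≤ Z := inf_le_inf_left _ (centralizer_le hSN)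
  haveI := Fintype.ofFinite ((N : Type _) ⧸ S.subgroupOf N)
  letI : CommGroup V := { (inferInstance : Group V) with mul_comm := fun a b => hV.is_comm.comm a b }
  -- the conjugates of an element of `Z`
  let f : Z → (N : Type _) ⧸ S.subgroupOf N → V := fun y => Quotient.lift
    (fun n : N => (⟨(n : G) * y * (n : G)⁻¹, (mem_normalizer_iff.1 (hVN n.2) y).1 (hZV y.2)⟩ : V))
    (fun a b hab => Subtype.ext (by
      have h : (a⁻¹ * b : N) ∈ S.subgroupOf N := QuotientGroup.leftRel_apply.1 hab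
      have h' := mem_centralizer_iff.1 y.2.2 _ (mem_subgroupOf.1 h)
      simp only [Subgroup.coe_mul, Subgroup.coe_inv] at h'
      show (a : G) * y * (a : G)⁻¹ = b * y * (b : G)⁻¹
      calc (a : G) * y * (a : G)⁻¹ = a * (y * ((a : G)⁻¹ * b)) * (b : G)⁻¹ := by group
        _ = a * (((a : G)⁻¹ * b) * y) * (b : G)⁻¹ := by rw [h']
        _ = _ := by group))
  let T : Z →* V :=
    { toFun := fun y => ∏ q, f y q
      map_one' := Finset.prod_eq_one fun q _ => by
        induction q using QuotientGroup.induction_on with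
        | H n => exact Subtype.ext (show (n : G) * ((1 : Z) : G) * (n : G)⁻¹ = 1 by simp)
      map_mul' := fun y y' => by
        rw [← Finset.prod_mul_distrib]
        refine Finset.prod_congr rfl fun q _ => ?_
        induction q using QuotientGroup.induction_on with
        | H n => exact Subtype.ext (show (n : G) * ((y * y' : Z) : G) * (n : G)⁻¹ =
            ((n : G) * y * (n : G)⁻¹) * ((n : G) * y' * (n : G)⁻¹) by rw [Subgroup.coe_mul]; group) }
  have hTW : ∀ y, (T y : G) ∈ W := by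
    refine fun y => ⟨hVS (T y).2, mem_centralizer_iff.2 fun n hn => ?_⟩
    let c : V →* V :=
      { toFun := fun v => ⟨n * v * n⁻¹, (mem_normalizer_iff.1 (hVN hn) v).1 v.2⟩
        map_one' := Subtype.ext (by simp)
        map_mul' := fun a b => Subtype.ext (show n * ((a * b : V) : G) * n⁻¹ =
          (n * a * n⁻¹) * (n * b * n⁻¹) by rw [Subgroup.coe_mul]; group) }
    have hc : ∀ q, c (f y q) = f y ((⟨n, hn⟩ : N) • q) := fun q => by
      induction q using QuotientGroup.induction_on with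
      | H m => exact Subtype.ext (show n * ((m : G) * y * (m : G)⁻¹) * n⁻¹ =
          (n * m) * y * (n * (m : G))⁻¹ by group)
    have : c (T y) = T y := by
      show c (∏ q, f y q) = ∏ q, f y q
      rw [map_prod, Finset.prod_congr rfl fun q _ => hc q]
      exact Fintype.prod_equiv (MulAction.toPerm (⟨n, hn⟩ : N)) _ _ fun q => rfl
    have h2 : n * (T y : G) * n⁻¹ = T y := congrArg Subtype.val this
    calc n * (T y : G) = (n * (T y : G) * n⁻¹) * n := by group
      _ = T y * n := by rw [h2]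
  set m := S.relIndex N with hm
  have hTfix : ∀ w : Z, (w : G) ∈ W → (T w : G) = (w : G) ^ m := by
    intro w hw
    have hfw : ∀ q, f w q = ⟨w, hZV w.2⟩ := fun q => by
      induction q using QuotientGroup.induction_on with
      | H n => exact Subtype.ext (show (n : G) * w * (n : G)⁻¹ = w by
          rw [mem_centralizer_iff.1 hw.2 n n.2]; group)
    show ((∏ q, f w q : V) : G) = _
    rw [Finset.prod_congr rfl fun q _ => hfw q, Finset.prod_const, Finset.card_univ,
      ← Nat.card_eq_fintype_card, SubgroupClass.coe_pow]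
    rfl
  have hWp : IsPGroup p W := hS.to_le inf_le_left
  have hcop : (Nat.card W).Coprime m := by
    obtain ⟨k, hk⟩ := IsPGroup.iff_card.1 hWp
    rw [hk]
    exact Nat.Coprime.pow_left k (((Fact.out : p.Prime).coprime_iff_not_dvd).2 hidx)
  refine ⟨T.ker.map Z.subtype, map_subtype_le _, ?_, le_antisymm (sup_le hWZ (map_subtype_le _)) ?_⟩
  · refine (Subgroup.eq_bot_iff_forall _).2 ?_
    rintro _ ⟨hxW, z, hz, rfl⟩
    have h1 : (z : G) ^ m = 1 := by rw [← hTfix z hxW, MonoidHom.mem_ker.1 hz]; rfl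
    have h2 := orderOf_dvd_of_pow_eq_one h1
    have h3 := Subgroup.orderOf_dvd_natCard W hxW
    exact orderOf_eq_one_iff.1 (Nat.eq_one_of_dvd_coprimes hcop h3 h2)
  · intro y hy
    obtain ⟨w, hw⟩ := (powCoprime hcop).surjective ⟨(T ⟨y, hy⟩ : G), hTW _⟩
    have hw' : ((w : G)) ^ m = T ⟨y, hy⟩ := congrArg Subtype.val hw
    have hk : (w : G)⁻¹ * y ∈ T.ker.map Z.subtype := by
      refine ⟨(⟨w, hWZ w.2⟩ : Z)⁻¹ * ⟨y, hy⟩, ?_, rfl⟩
      rw [SetLike.mem_coe, MonoidHom.mem_ker, map_mul, map_inv, inv_mul_eq_one]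
      exact Subtype.ext ((hTfix ⟨w, hWZ w.2⟩ w.2).trans hw')
    simpa using mul_mem (mem_sup_left (T := T.ker.map Z.subtype) w.2) (mem_sup_right (S := W) hk)

/-- In the solvable case the weakly closed elements are central modulo the odd core. -/
theorem solvable_case {G : Type*} [Group G] [Finite G] {p : ℕ} [Fact p.Prime] (S : Sylow p G)
    [Group.IsSolvable G] :
    ∃ W K : Subgroup G, (∀ x : G, x ∈ W ↔ (x ∈ (S : Subgroup G) ∧ ∀ g : G,
        g * x * g⁻¹ ∈ (S : Subgroup G) → g * x * g⁻¹ = x)) ∧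
      K ≤ ((S : Subgroup G) ⊓ centralizer ((S : Subgroup G) : Set G)) ∧ W ⊓ K = ⊥ ∧
      W ⊔ K = ((S : Subgroup G) ⊓ centralizer ((S : Subgroup G) : Set G)) := by
  set O := Cfsg.pPrimeCore p G with hO
  haveI hOn : O.Normal := CfsgLib.Solvable.pPrimeCore_normal p G
  set π := QuotientGroup.mk' O with hπ
  set S' : Subgroup G := (S : Subgroup G) with hS'
  have hdisj : ∀ x ∈ S', x ∈ O → x = 1 := by
    intro x hxS hxO
    obtain ⟨k, hk⟩ := IsPGroup.iff_orderOf.1 S.2 ⟨x, hxS⟩
    rw [Subgroup.orderOf_mk] at hk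
    refine orderOf_eq_one_iff.1 (Nat.eq_one_of_dvd_coprimes ?_ (Subgroup.orderOf_dvd_natCard O hxO)
      (dvd_refl _))
    rw [hk]
    exact (CfsgLib.Solvable.pPrimeCore_coprime (G := G) p).pow_right k
  have hinj : ∀ a ∈ S', ∀ b ∈ S', π a = π b → a = b := by
    intro a ha b hb h
    have : a⁻¹ * b ∈ O := QuotientGroup.eq.1 h
    exact inv_mul_eq_one.1 (hdisj _ (mul_mem (inv_mem ha) hb) this)
  let P := S.mapSurjective (QuotientGroup.mk'_surjective O)
  have hP : (P : Subgroup (G ⧸ O)) = S'.map π := rfl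
  set Q := Cfsg.pCore p (G ⧸ O) with hQ
  have hQn : Q.Normal := CfsgLib.Solvable.pCore_normal p _
  haveI : Group.IsSolvable (G ⧸ O) := inferInstance
  have hCQ : centralizer (Q : Set (G ⧸ O)) ≤ Q :=
    CfsgLib.Solvable.centralizer_pCore_le p (CfsgLib.Solvable.pPrimeCore_quotient_eq_bot p)
  have hQP : Q ≤ (P : Subgroup (G ⧸ O)) := CfsgLib.Amalgam.pCore_le_sylow P
  set V := Q ⊓ centralizer (Q : Set (G ⧸ O)) with hV
  have hVN : (⊤ : Subgroup (G ⧸ O)) ≤ normalizer (V : Set (G ⧸ O)) := by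
    have : V.Normal := by
      have := hQn
      infer_instance
    rw [normalizer_eq_top_iff.2 this]
  have hVc : IsMulCommutative V :=
    ⟨⟨fun a b => Subtype.ext (mem_centralizer_iff.1 b.2.2 _ a.2.1)⟩⟩
  have hZV : (P : Subgroup (G ⧸ O)) ⊓ centralizer ((P : Subgroup (G ⧸ O)) : Set (G ⧸ O)) ≤ V :=
    fun x hx => by
      have : x ∈ centralizer (Q : Set (G ⧸ O)) := centralizer_le hQP hx.2
      exact ⟨hCQ this, this⟩
  obtain ⟨K, hK1, hK2, hK3⟩ := split (N := ⊤) P.2 le_top
    (by rw [relIndex_top_right]; exact P.not_dvd_index) (inf_le_left.trans hQP) hVc hVN hZV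
  refine ⟨S' ⊓ ((P : Subgroup (G ⧸ O)) ⊓ centralizer ((⊤ : Subgroup (G ⧸ O)) : Set (G ⧸ O))).comap π,
    S' ⊓ K.comap π, fun x => ?_, ?_, ?_, ?_⟩
  · constructor
    · rintro ⟨hxS, -, hxc⟩
      refine ⟨hxS, fun g hg => hinj _ hg _ hxS ?_⟩
      rw [map_mul, map_mul, map_inv, mem_centralizer_iff.1 hxc _ (mem_top (π g))]
      group
    · rintro ⟨hxS, hw⟩
      refine ⟨hxS, ⟨mem_map_of_mem π hxS, mem_centralizer_iff.2 fun y _ => ?_⟩⟩
      obtain ⟨g, rfl⟩ := QuotientGroup.mk'_surjective O y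
      -- `π x` lies in `V`, so its conjugate lies in the image of `S`
      have hxZ : π x ∈ (P : Subgroup (G ⧸ O)) ⊓ centralizer ((P : Subgroup (G ⧸ O)) : Set (G ⧸ O)) := by
        refine ⟨mem_map_of_mem π hxS, mem_centralizer_iff.2 ?_⟩
        rintro _ ⟨s, hs, rfl⟩
        have := hw s (mul_mem (mul_mem hs hxS) (inv_mem hs))
        show π s * π x = π x * π s
        rw [← map_mul, ← map_mul]
        congr 1
        calc s * x = (s * x * s⁻¹) * s := by group
          _ = x * s := by rw [this]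
      have hgV : π (g * x * g⁻¹) ∈ V := by
        rw [map_mul, map_mul, map_inv]
        exact (mem_normalizer_iff.1 (hVN (mem_top (π g))) _).1 (hZV hxZ)
      obtain ⟨s, hs, hse⟩ := (inf_le_left.trans hQP : V ≤ _) hgV
      -- a conjugate by an element of `O` lies in `S`
      set L := S' ⊔ O with hL
      have hgL : g * x * g⁻¹ ∈ L := by
        have : s⁻¹ * (g * x * g⁻¹) ∈ O := QuotientGroup.eq.1 hse
        simpa using mul_mem (mem_sup_left (T := O) hs) (mem_sup_right (S := S') this)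
      have hSL : ¬ p ∣ S'.relIndex L := fun h =>
        S.not_dvd_index (h.trans (Dvd.intro _ (relIndex_mul_index le_sup_left)))
      have hgp : IsPGroup p (zpowers (g * x * g⁻¹)) := by
        have h1 : zpowers (g * x * g⁻¹) ≤ S'.map (MulAut.conj g).toMonoidHom :=
          zpowers_le.2 ⟨x, hxS, rfl⟩
        exact (S.2.map _).to_le h1
      obtain ⟨l, hl, hlS⟩ := CfsgLib.Fusion.exists_conj_le_of_sylow S.2 le_sup_left hSL hgp
        (zpowers_le.2 hgL)
      have h2 : l * (g * x * g⁻¹) * l⁻¹ ∈ S' := hlS ⟨_, mem_zpowers _, rfl⟩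
      have h3 : l * g * x * (l * g)⁻¹ = x := hw (l * g) (by
        have e : l * g * x * (l * g)⁻¹ = l * (g * x * g⁻¹) * l⁻¹ := by group
        rwa [e])
      obtain ⟨a, ha, o, ho, rfl⟩ := mem_sup_of_normal_right.1 hl
      have hπo : π o = 1 := (QuotientGroup.eq_one_iff o).2 ho
      have h4 := congrArg π h3
      simp only [map_mul, map_inv, mul_inv_rev, hπo, mul_one, inv_one, one_mul] at h4
      have hax : π a * π x = π x * π a := mem_centralizer_iff.1 hxZ.2 _ (mem_map_of_mem π ha)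
      have h5 : π g * π x * (π g)⁻¹ = π x := by
        calc π g * π x * (π g)⁻¹ = (π a)⁻¹ * (π a * π g * π x * ((π g)⁻¹ * (π a)⁻¹)) * π a := by group
          _ = (π a)⁻¹ * π x * π a := by rw [h4]
          _ = π x := by rw [mul_assoc, ← hax, inv_mul_cancel_left]
      calc π g * π x = (π g * π x * (π g)⁻¹) * π g := by group
        _ = π x * π g := by rw [h5]
  · intro k hk
    refine ⟨hk.1, mem_centralizer_iff.2 fun s hs => hinj _ (mul_mem hs hk.1) _ (mul_mem hk.1 hs) ?_⟩
    rw [map_mul, map_mul]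
    exact mem_centralizer_iff.1 (hK1 hk.2).2 _ (mem_map_of_mem π hs)
  · refine (Subgroup.eq_bot_iff_forall _).2 fun x hx => hdisj x hx.1.1 ((QuotientGroup.eq_one_iff x).1 ?_)
    exact mem_bot.1 (hK2.le ⟨hx.1.2, hx.2.2⟩)
  · refine le_antisymm (sup_le ?_ ?_) ?_
    · intro x hx
      refine ⟨hx.1, mem_centralizer_iff.2 fun s hs => hinj _ (mul_mem hs hx.1) _ (mul_mem hx.1 hs) ?_⟩
      rw [map_mul, map_mul]
      exact mem_centralizer_iff.1 hx.2.2 _ (mem_top _)
    · intro k hk
      refine ⟨hk.1, mem_centralizer_iff.2 fun s hs => hinj _ (mul_mem hs hk.1) _ (mul_mem hk.1 hs) ?_⟩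
      rw [map_mul, map_mul]
      exact mem_centralizer_iff.1 (hK1 hk.2).2 _ (mem_map_of_mem π hs)
    · intro z hz
      have hzZ : π z ∈ (P : Subgroup (G ⧸ O)) ⊓ centralizer ((P : Subgroup (G ⧸ O)) : Set (G ⧸ O)) := by
        refine ⟨mem_map_of_mem π hz.1, mem_centralizer_iff.2 ?_⟩
        rintro _ ⟨s, hs, rfl⟩
        show π s * π z = π z * π s
        rw [← map_mul, ← map_mul, mem_centralizer_iff.1 hz.2 s hs]
      rw [← hK3] at hzZ
      have hcomm : K ≤ normalizer (((P : Subgroup (G ⧸ O)) ⊓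
          centralizer ((⊤ : Subgroup (G ⧸ O)) : Set (G ⧸ O)) : Subgroup (G ⧸ O)) : Set (G ⧸ O)) := by
        refine le_trans (fun k _ => mem_centralizer_iff.2 fun w hw => ?_) (centralizer_le_normalizer _)
        exact (mem_centralizer_iff.1 hw.2 k (mem_top k)).symm
      rw [← SetLike.mem_coe, coe_mul_of_right_le_normalizer_left _ _ hcomm] at hzZ
      obtain ⟨w, hw, k, hk, hwk⟩ := hzZ
      obtain ⟨w', hw', rfl⟩ := (show w ∈ S'.map π from hw.1)
      obtain ⟨k', hk', rfl⟩ := (show k ∈ S'.map π from (hK1 hk).1)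
      have : w' * k' = z := hinj _ (mul_mem hw' hk') _ hz.1 (by rw [map_mul]; exact hwk)
      rw [← this]
      exact mul_mem (mem_sup_left ⟨hw', hw⟩) (mem_sup_right ⟨hk', hk⟩)


/-- Let S be a Sylow p-subgroup of the finite group G, and assume that p is odd or that G is solvable. The elements of S each of which is its only G-conjugate in S form a subgroup W of Z(S); W is then a direct factor of Z(S): there is a subgroup K of Z(S) with W ∩ K = 1 and WK = Z(S). (For p = 2 and G not solvable this can fail.) -/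
theorem result {G : Type*} [Group G] [Finite G] {p : ℕ} [Fact p.Prime] (S : Sylow p G) (h : p ≠ 2 ∨ Group.IsSolvable G) :
    ∃ W K : Subgroup G, (∀ x : G, x ∈ W ↔ (x ∈ (S : Subgroup G) ∧ ∀ g : G, g * x * g⁻¹ ∈ (S : Subgroup G) → g * x * g⁻¹ = x)) ∧
      K ≤ ((S : Subgroup G) ⊓ Subgroup.centralizer ((S : Subgroup G) : Set G)) ∧ W ⊓ K = ⊥ ∧ W ⊔ K = ((S : Subgroup G) ⊓ Subgroup.centralizer ((S : Subgroup G) : Set G)) := by
  open Subgroup CfsgLib.PLocal in
  rcases h with hp | hs
  · set F := Cfsg.inducedFunctor (G := G) Cfsg.kInfLower with hF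
    have hFc : Cfsg.IsConjugacyFunctor p F := induced_isConjugacyFunctor kInfLower_isCharPFunctor
    set S' : Subgroup G := (S : Subgroup G) with hS'
    set N := normalizer (F S' : Set G) with hN
    obtain ⟨hZ, T, hT1, hT2, hT3, hwc⟩ := Cfsg.Agent.S1985.result (G := G) (p := p) hp
    have hSN : S' ≤ N := le_normalizer_functor hFc S.2
    have hwc' : ∀ x, x ∈ S' ⊓ centralizer (N : Set G) → ∀ g, g * x * g⁻¹ ∈ S' → g * x * g⁻¹ = x := by
      obtain ⟨k, -, hk⟩ := (sylowIn_top S).exists_conj_eq (⟨hT1, hT2, hT3⟩ : SylowIn p T ⊤)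
      intro x hx g hg
      have hx' : k⁻¹ * x * k ∈ T ⊓ centralizer
          ((⊤ ⊓ normalizer ((F T : Subgroup G) : Set G) : Subgroup G) : Set G) := by
        refine ⟨mem_conjMap.1 (hk.symm ▸ hx.1 : x ∈ conjMap k T), mem_centralizer_iff.2 fun n hn => ?_⟩
        have hn' : k * n * k⁻¹ ∈ N := by
          rw [hN, hS', ← hk, functor_conj hFc hT2, ← conjMap_normalizer]
          exact conj_mem_conjMap hn.2
        calc n * (k⁻¹ * x * k) = k⁻¹ * ((k * n * k⁻¹) * x) * k := by group
          _ = k⁻¹ * (x * (k * n * k⁻¹)) * k := by rw [mem_centralizer_iff.1 hx.2 _ hn']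
          _ = _ := by group
      have hg' : (k⁻¹ * g * k) * (k⁻¹ * x * k) * (k⁻¹ * g * k)⁻¹ ∈ T := by
        have := mem_conjMap.1 (hk.symm ▸ hg : g * x * g⁻¹ ∈ conjMap k T)
        have e : (k⁻¹ * g * k) * (k⁻¹ * x * k) * (k⁻¹ * g * k)⁻¹ = k⁻¹ * (g * x * g⁻¹) * k := by group
        rwa [e]
      have := hwc _ hx' _ (mem_top _) hg'
      calc g * x * g⁻¹ = k * ((k⁻¹ * g * k) * (k⁻¹ * x * k) * (k⁻¹ * g * k)⁻¹) * k⁻¹ := by group
        _ = k * (k⁻¹ * x * k) * k⁻¹ := by rw [this]
        _ = x := by group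
    set V := F S' ⊓ centralizer (F S' : Set G) with hV
    have hFS : F S' ≤ S' := functor_le hFc S.2
    have hZV : S' ⊓ centralizer (S' : Set G) ≤ V := le_inf (hZ S' S.2)
      (inf_le_right.trans (centralizer_le hFS))
    have hVN : N ≤ normalizer (V : Set G) := fun n hn => by
      rw [← conjMap_eq_self_iff, hV, conjMap_inf, conjMap_eq_self_iff.2 hn, conjMap_centralizer,
        conjMap_eq_self_iff.2 hn]
    obtain ⟨K, hK1, hK2, hK3⟩ := split (N := N) S.2 hSN
      (fun hd => S.not_dvd_index (hd.trans (Dvd.intro _ (relIndex_mul_index hSN))))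
      (inf_le_left.trans hFS) ⟨⟨fun a b => Subtype.ext (mem_centralizer_iff.1 b.2.2 _ a.2.1)⟩⟩ hVN hZV
    refine ⟨S' ⊓ centralizer (N : Set G), K, fun x => ⟨fun hx => ⟨hx.1, hwc' x hx⟩, fun hx => ⟨hx.1,
      mem_centralizer_iff.2 fun n hn => ?_⟩⟩, hK1, hK2, hK3⟩
    have hxZ : x ∈ S' ⊓ centralizer (S' : Set G) := ⟨hx.1, mem_centralizer_iff.2 fun s hs => by
      have := hx.2 s (mul_mem (mul_mem hs hx.1) (inv_mem hs))
      calc s * x = (s * x * s⁻¹) * s := by group
        _ = x * s := by rw [this]⟩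
    have h1 : n * x * n⁻¹ ∈ V := (mem_normalizer_iff.1 (hVN hn) x).1 (hZV hxZ)
    have h2 := hx.2 n (hFS h1.1)
    calc n * x = (n * x * n⁻¹) * n := by group
      _ = x * n := by rw [h2]
  · exact solvable_case S

end Cfsg.Agent.S1945
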