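import Cfsg.Statements.S1948
import Cfsg.Agent.Lib.Comp.PConstrained

set_option autoImplicit false
set_option linter.style.haveILetI false
open Cfsg

namespace Cfsg.Agent.S1948

/-- Let S be a Sylow p-subgroup of the finite group G. Then G = N_G(S)·O_{p'}(G) if and only if G is p-constrained and N_G(S) controls fusion in S, in the sense that whenever a subgroup Q of S has a conjugate g Q g⁻¹ inside S, the element g is a product n c with n normalizing S and c centralizing Q. -/
theorem result {G : Type*} [Group G] [Finite G] {p : ℕ} [Fact p.Prime] (S : Sylow p G) :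
    Subgroup.normalizer ((S : Subgroup G) : Set G) ⊔ Cfsg.pPrimeCore p G = ⊤ ↔
      (Cfsg.IsPConstrained p G ∧
        ∀ Q : Subgroup G, Q ≤ (S : Subgroup G) → ∀ g : G, Q.map (MulAut.conj g).toMonoidHom ≤ (S : Subgroup G) →
          ∃ n ∈ Subgroup.normalizer ((S : Subgroup G) : Set G), ∃ c ∈ Subgroup.centralizer (Q : Set G), g = n * c) := by
  open Subgroup CfsgLib.Comp in
  haveI := Cfsg.pPrimeCore_normal p G
  set O := Cfsg.pPrimeCore p G
  set q := toModCore p G
  set N := normalizer ((S : Subgroup G) : Set G)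
  have hSO : (S : Subgroup G) ⊓ O = ⊥ := inf_eq_bot_of_isPGroup S.isPGroup' (coprime_card_pPrimeCore p G)
  have hSb : IsPGroup p ((S : Subgroup G).map q) := S.isPGroup'.map q
  constructor
  · intro h
    have hN : N.map q = ⊤ := by
      rw [← map_top_of_surjective q toModCore_surjective, ← h, Subgroup.map_sup,
        (Subgroup.map_eq_bot_iff O).2 ker_toModCore.ge, sup_bot_eq]
    have hSn : ((S : Subgroup G).map q).Normal :=
      normal_of_top_le_normalizer (hN ▸ le_normalizer_map q)
    refine ⟨(isPConstrained_iff_pLayer p G).2 ((pLayer_eq_bot_iff p G).2 ?_), fun Q hQS g hg => ?_⟩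
    · refine le_bot_iff.1 (sSup_le fun L hL => ?_)
      exfalso
      have hd := dvd_index_center_of_isComponent (pPrimeCore_quotient_eq_bot p G) hL
      have hcen : L ≤ centralizer (((S : Subgroup G).map q : Subgroup _) : Set _) := by
        haveI : Group.IsNilpotent ↥((S : Subgroup G).map q) := hSb.isNilpotent
        exact component_le_centralizer_of_isSolvable hL hSn.isSubnormal inferInstance
      have hle : (((S : Subgroup G).map q).subgroupOf L) ≤ center ↥L := fun y hy => mem_center_iff.2
        fun z => Subtype.ext (mem_centralizer_iff.1 (hcen z.2) _ hy).symm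
      have h2 : ((S : Subgroup G).map q).relIndex L ∣ ((S : Subgroup G).map q).index :=
        haveI := hSn; relIndex_dvd_index_of_normal _ _
      exact S.not_dvd_index ((hd.trans (index_dvd_of_le hle)).trans
        (h2.trans (index_map_dvd _ toModCore_surjective)))
    · obtain ⟨o, ho, n, hn, rfl⟩ := exists_mul_of_mem_sup (le_normalizer_of_normal' O N)
        (show g ∈ O ⊔ N by rw [sup_comm, h]; trivial)
      refine ⟨n, hn, n⁻¹ * o * n, ?_, by group⟩
      rw [mem_centralizer_iff]
      intro x hx
      set o' := n⁻¹ * o * n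
      have ho' : o' ∈ O := by
        have := Subgroup.Normal.conj_mem (H := O) inferInstance o ho n⁻¹
        simpa using this
      have h1 : o' * x * o'⁻¹ ∈ (S : Subgroup G) := by
        have h2 : (o * n) * x * (o * n)⁻¹ ∈ (S : Subgroup G) := hg ⟨x, hx, rfl⟩
        have h3 := (mem_normalizer_iff''.1 hn _).1 h2
        have e : o' * x * o'⁻¹ = n⁻¹ * ((o * n) * x * (o * n)⁻¹) * n := by simp only [o']; group
        rw [e]; exact h3
      have h4 : o' * x * o'⁻¹ * x⁻¹ ∈ (S : Subgroup G) ⊓ O := by
        refine Subgroup.mem_inf.2 ⟨mul_mem h1 (inv_mem (hQS hx)), ?_⟩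
        rw [mul_assoc, mul_assoc, ← mul_assoc x]
        exact mul_mem ho' (Subgroup.Normal.conj_mem inferInstance _ (inv_mem ho') x)
      rw [hSO, mem_bot] at h4
      have h5 := mul_inv_eq_one.1 h4
      exact (mul_inv_eq_iff_eq_mul.1 h5).symm
  · rintro ⟨hc, hf⟩
    rw [isPConstrained_iff] at hc
    set P := Cfsg.pCore p (G ⧸ O)
    set R := (S : Subgroup G) ⊓ P.comap q
    have hRp : IsPGroup p R := S.isPGroup'.to_inf_left
    have hRP : R.map q = P := by
      refine le_antisymm ((map_mono inf_le_right).trans (map_comap_le _ _)) fun x hx => ?_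
      haveI := Cfsg.pCore_normal p (G ⧸ O)
      let Sb : Sylow p (G ⧸ O) := S.mapSurjective toModCore_surjective
      have hxS : x ∈ (S : Subgroup G).map q := by
        obtain ⟨T, hT⟩ := (isPGroup_pCore p (G ⧸ O)).exists_le_sylow
        obtain ⟨g, hg⟩ := MulAction.exists_smul_eq (G ⧸ O) T Sb
        have h1 : g * (g⁻¹ * x * g) * g⁻¹ ∈ (Sb : Subgroup (G ⧸ O)) := by
          rw [← hg, Sylow.coe_subgroup_smul]
          refine ⟨g⁻¹ * x * g, hT ?_, rfl⟩
          have := Subgroup.Normal.conj_mem (H := P) inferInstance x hx g⁻¹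
          simpa using this
        rw [Sylow.coe_mapSurjective] at h1
        rw [show g * (g⁻¹ * x * g) * g⁻¹ = x by group] at h1
        exact h1
      obtain ⟨s, hs, rfl⟩ := hxS
      exact ⟨s, ⟨hs, hx⟩, rfl⟩
    rw [eq_top_iff]
    intro g _
    obtain ⟨m, hm, hmg⟩ : q g ∈ (normalizer (R : Set G)).map q := by
      rw [map_normalizer_eq (coprime_card_pPrimeCore p G) hRp, hRP]
      haveI := Cfsg.pCore_normal p (G ⧸ O)
      exact le_normalizer_of_normal' P ⊤ (mem_top _)
    obtain ⟨n, hn, c, hc', rfl⟩ := hf R inf_le_left m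
      ((map_conj_eq_iff.2 hm).le.trans inf_le_left)
    have h1 : q c ∈ P := hc (by
      rw [← hRP, mem_centralizer_iff]
      rintro _ ⟨r, hr, rfl⟩
      rw [← map_mul, ← map_mul, mem_centralizer_iff.1 hc' r hr])
    obtain ⟨r, hr, hrc⟩ : q c ∈ R.map q := hRP.symm ▸ h1
    have hgo : (n * r)⁻¹ * g ∈ O := by
      rw [← QuotientGroup.eq_one_iff, ← QuotientGroup.mk'_apply]
      change q ((n * r)⁻¹ * g) = 1
      rw [map_mul, map_inv, map_mul, hrc, ← map_mul, hmg, inv_mul_cancel]
    have := mul_mem (mem_sup_left (T := O) (mul_mem hn (le_normalizer hr.1))) (mem_sup_right (S := N) hgo)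
    rwa [mul_inv_cancel_left] at this

end Cfsg.Agent.S1948
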