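import Cfsg.Statements.S1954
import Cfsg.Agent.Lib.Comp.Subnormal
import Cfsg.Agent.Lib.PLocal.Sylow
import Cfsg.Agent.Lib.PLocal.SylowIn
-- import your own Cfsg.Agent.* helpers here

set_option autoImplicit false
set_option linter.style.haveILetI false
set_option maxHeartbeats 1000000
open Cfsg

namespace Cfsg.Agent.S1954

open Subgroup CfsgLib CfsgLib.PLocal in
/-- Simultaneous strong control by the normalizers of finitely many conjugates of `V`. -/
theorem ctrl_finset {G : Type*} [Group G] [Finite G] (N : Subgroup G) [N.Normal] (R V : Subgroup G)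
    (hVR : V ≤ R) (hVn : ∀ x ∈ R, conjMap x V = V)
    (hctrl : ∀ A : Subgroup G, A ≤ R → ∀ n ∈ N, conjMap n A ≤ R →
      ∃ h ∈ N ⊓ normalizer (V : Set G), ∃ c ∈ N ⊓ centralizer (A : Set G), n = h * c)
    (s : Finset G) (hs : ∀ x ∈ s, x ∈ normalizer (R : Set G)) :
    ∀ A : Subgroup G, A ≤ R → ∀ n ∈ N, conjMap n A ≤ R →
      ∃ h ∈ N, (∀ x ∈ s, h ∈ normalizer (conjMap x V : Set G)) ∧ ∀ a ∈ A, n * a * n⁻¹ = h * a * h⁻¹ := by
  classical
  induction s using Finset.induction with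
  | empty => exact fun A _ n hn _ => ⟨n, hn, by simp, fun a _ => rfl⟩
  | insert x s hx ih =>
    intro A hA n hn hnA
    obtain ⟨h1, hh1, hh1V, hagree⟩ := ih (fun y hy => hs y (Finset.mem_insert_of_mem hy)) A hA n hn hnA
    have hVx : ∀ y ∈ insert x s, conjMap y V ≤ R := fun y hy =>
      (conjMap_mono hVR).trans (conjMap_eq_self_iff.2 (hs y hy)).le
    set A' := A ⊔ ⨆ y ∈ s, conjMap y V with hA'
    have hA'R : A' ≤ R := sup_le hA (iSup₂_le fun y hy => hVx y (Finset.mem_insert_of_mem hy))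
    have hh1A' : conjMap h1 A' ≤ R := by
      rw [conjMap, Subgroup.map_le_iff_le_comap]
      refine sup_le (fun a ha => ?_) (iSup₂_le fun y hy a ha => ?_)
      · have := hnA (conj_mem_conjMap ha)
        rw [hagree a ha] at this
        exact this
      · exact hVx y (Finset.mem_insert_of_mem hy) ((mem_normalizer_iff.1 (hh1V y hy) a).1 ha)
    have hxR : x ∈ normalizer (R : Set G) := hs x (Finset.mem_insert_self x s)
    have hA'' : conjMap x⁻¹ A' ≤ R := (conjMap_mono hA'R).trans (conjMap_eq_self_iff.2 (inv_mem hxR)).le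
    obtain ⟨h', hh', c, hc, e⟩ := hctrl _ hA'' (x⁻¹ * h1 * x) (by
      simpa using (inferInstance : N.Normal).conj_mem h1 hh1 x⁻¹) (by
      rw [conjMap_conjMap, mul_inv_cancel_right, ← conjMap_conjMap]
      exact (conjMap_mono hh1A').trans (conjMap_eq_self_iff.2 (inv_mem hxR)).le)
    have hagree2 : ∀ a ∈ A', h1 * a * h1⁻¹ = (x * h' * x⁻¹) * a * (x * h' * x⁻¹)⁻¹ := by
      intro a ha
      have h2 : x⁻¹ * a * x ∈ conjMap x⁻¹ A' := by simpa using conj_mem_conjMap (g := x⁻¹) ha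
      have h3 := mem_centralizer_iff.1 (mem_inf.1 hc).2 _ h2
      have he : h1 = x * h' * c * x⁻¹ := by
        calc h1 = x * (x⁻¹ * h1 * x) * x⁻¹ := by group
          _ = _ := by rw [e]; group
      rw [he]
      calc x * h' * c * x⁻¹ * a * (x * h' * c * x⁻¹)⁻¹
          = x * h' * (c * (x⁻¹ * a * x)) * c⁻¹ * (x * h')⁻¹ := by group
        _ = x * h' * ((x⁻¹ * a * x) * c) * c⁻¹ * (x * h')⁻¹ := by rw [h3]
        _ = _ := by group
    refine ⟨x * h' * x⁻¹, Normal.conj_mem inferInstance h' (mem_inf.1 hh').1 x, fun y hy => ?_, fun a ha => ?_⟩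
    · rcases Finset.mem_insert.1 hy with rfl | hys
      · rw [← conjMap_eq_self_iff, conjMap_conjMap, inv_mul_cancel_right, ← conjMap_conjMap,
          conjMap_eq_self_iff.2 (mem_inf.1 hh').2]
      · rw [← conjMap_eq_self_iff]
        refine Subgroup.eq_of_le_of_card_ge ?_ (card_conjMap _ _).ge
        rintro z ⟨a, ha, rfl⟩
        have := (mem_normalizer_iff.1 (hh1V y hys) a).1 ha
        rw [hagree2 a (mem_sup_right (mem_iSup_of_mem y (mem_iSup_of_mem hys ha)))] at this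
        exact this
    · rw [hagree a ha, hagree2 a (mem_sup_left ha)]

open Subgroup in
theorem card_lt {G : Type*} [Group G] [Finite G] {X Y : Subgroup G} (h : X < Y) : Nat.card X < Nat.card Y :=
  lt_of_le_of_ne (card_le_of_le h.le) fun e => h.ne (eq_of_le_of_card_ge h.le e.ge)

open Subgroup CfsgLib CfsgLib.PLocal in
/-- Every fusion in `P` is induced by `N(W)`. -/
theorem good {G : Type*} [Group G] [Finite G] {p : ℕ} [Fact p.Prime] (N : Subgroup G) [N.Normal] (P : Sylow p G)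
    (W : Subgroup G) (hWR : W ≤ (P : Subgroup G) ⊓ N)
    (hRW : normalizer (((P : Subgroup G) ⊓ N : Subgroup G) : Set G) ≤ normalizer (W : Set G))
    (hW : ∀ A : Subgroup G, A ≤ (P : Subgroup G) ⊓ N → ∀ n ∈ N, conjMap n A ≤ (P : Subgroup G) ⊓ N →
      ∃ h ∈ N ⊓ normalizer (W : Set G), ∀ a ∈ A, n * a * n⁻¹ = h * a * h⁻¹) :
    ∀ (k : ℕ) (A : Subgroup G), A ≤ (P : Subgroup G) → Nat.card (P : Subgroup G) - Nat.card A ≤ k →
      ∀ g : G, conjMap g A ≤ (P : Subgroup G) →
        ∃ h ∈ normalizer (W : Set G), ∀ a ∈ A, g * a * g⁻¹ = h * a * h⁻¹ := by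
  classical
  have hp := (Fact.out : p.Prime)
  intro k
  induction k using Nat.strong_induction_on with
  | _ k ih =>
  intro A hA hk g hg
  set R := (P : Subgroup G) ⊓ N with hR
  have hPR : (P : Subgroup G) ≤ normalizer (R : Set G) :=
    (le_inf le_normalizer (le_normalizer_of_normal _ N)).trans inf_normalizer_le_normalizer_inf
  have hPW : (P : Subgroup G) ≤ normalizer (W : Set G) := hPR.trans hRW
  -- larger subgroups are good
  have bigger : ∀ A' : Subgroup G, A' ≤ (P : Subgroup G) → Nat.card A < Nat.card A' → ∀ x : G,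
      conjMap x A' ≤ (P : Subgroup G) → ∃ h ∈ normalizer (W : Set G), ∀ a ∈ A', x * a * x⁻¹ = h * a * h⁻¹ := by
    intro A' hA' hlt x hx
    have := card_le_of_le hA'
    exact ih (Nat.card (P : Subgroup G) - Nat.card A') (by omega) A' hA' le_rfl x hx
  rcases hA.eq_or_lt with hAP | hAP
  · subst hAP
    refine ⟨g, ?_, fun a _ => rfl⟩
    have hgP : g ∈ normalizer ((P : Subgroup G) : Set G) :=
      conjMap_eq_self_iff.1 (Subgroup.eq_of_le_of_card_ge hg (card_conjMap _ _).ge)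
    refine hRW (inf_normalizer_le_normalizer_inf ⟨hgP, ?_⟩)
    exact le_normalizer_of_normal ⊤ N (mem_top g)
  -- a fully normalized conjugate B of A
  obtain ⟨T, hT, hAT⟩ := exists_sylowIn_le (p := p) (H := normalizer (A : Set G)) (P.2.to_le hA) le_normalizer
  obtain ⟨x, -, hx⟩ := (sylowIn_top P).exists_conj_le hT.2.1 le_top
  set B := conjMap x A with hB
  have hBP : B ≤ (P : Subgroup G) := (conjMap_mono hAT).trans hx
  have hcardB : Nat.card B = Nat.card A := card_conjMap _ _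
  have hS : SylowIn p ((P : Subgroup G) ⊓ normalizer (B : Set G)) (normalizer (B : Set G)) := by
    have h1 := hT.conj x
    rw [conjMap_normalizer] at h1
    exact h1.of_card_le (P.2.to_le inf_le_left) inf_le_right (card_le_of_le (le_inf hx h1.1))
  -- any subgroup of P conjugate to B is linked to it inside N(W)
  have link : ∀ C : Subgroup G, C ≤ (P : Subgroup G) → ∀ y : G, conjMap y C = B →
      ∃ y' : G, conjMap y' C = B ∧ ∃ h ∈ normalizer (W : Set G), ∀ a ∈ C, y' * a * y'⁻¹ = h * a * h⁻¹ := by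
    intro C hC y hy
    have hcardC : Nat.card C = Nat.card A := by rw [← card_conjMap y C, hy, hcardB]
    obtain ⟨u, hu, hu'⟩ := hS.exists_conj_le (R := conjMap y ((P : Subgroup G) ⊓ normalizer (C : Set G)))
      ((P.2.to_le inf_le_left).map _) (by rw [← hy, ← conjMap_normalizer]; exact conjMap_mono inf_le_right)
    rw [conjMap_conjMap] at hu'
    refine ⟨u * y, by rw [← conjMap_conjMap, hy, conjMap_eq_self_iff.2 hu], ?_⟩
    have hlt := card_lt_card_inf_normalizer P.2 (lt_of_le_of_ne hC fun e => by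
      have := card_lt hAP
      rw [← hcardC, e] at this
      omega)
    obtain ⟨h, hh, hha⟩ := bigger _ inf_le_left (hcardC ▸ hlt) (u * y) (hu'.trans inf_le_left)
    exact ⟨h, hh, fun a ha => hha a (mem_inf.2 ⟨hC ha, le_normalizer ha⟩)⟩
  obtain ⟨y₁, hy₁, h₁, hh₁, e₁⟩ := link A hA x rfl
  obtain ⟨y₂, hy₂, h₂, hh₂, e₂⟩ := link (conjMap g A) hg (x * g⁻¹) (by
    rw [conjMap_conjMap, inv_mul_cancel_right])
  set q := y₂ * g * y₁⁻¹ with hq
  have hqN : q ∈ normalizer (B : Set G) := by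
    rw [← conjMap_eq_self_iff, hq, ← conjMap_conjMap, ← hy₁, conjMap_inv_conjMap, ← conjMap_conjMap, hy₂, hy₁]
  -- q is good on B
  suffices hgood : ∃ h ∈ normalizer (W : Set G), ∀ b ∈ B, q * b * q⁻¹ = h * b * h⁻¹ by
    obtain ⟨h, hh, e⟩ := hgood
    refine ⟨h₂⁻¹ * h * h₁, mul_mem (mul_mem (inv_mem hh₂) hh) hh₁, fun a ha => ?_⟩
    have h5 : y₁ * a * y₁⁻¹ ∈ B := hy₁ ▸ conj_mem_conjMap ha
    have h6 := e₂ _ (conj_mem_conjMap (g := g) ha)
    have h7 := e _ h5
    rw [e₁ a ha] at h7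
    calc g * a * g⁻¹ = h₂⁻¹ * (h₂ * (g * a * g⁻¹) * h₂⁻¹) * h₂ := by group
      _ = h₂⁻¹ * (y₂ * (g * a * g⁻¹) * y₂⁻¹) * h₂ := by rw [h6]
      _ = h₂⁻¹ * (q * (y₁ * a * y₁⁻¹) * q⁻¹) * h₂ := by rw [hq]; group
      _ = h₂⁻¹ * (q * (h₁ * a * h₁⁻¹) * q⁻¹) * h₂ := by rw [e₁ a ha]
      _ = h₂⁻¹ * (h * (h₁ * a * h₁⁻¹) * h⁻¹) * h₂ := by rw [h7]
      _ = _ := by group
  set NB := normalizer (B : Set G) with hNB
  -- elements normalizing an overgroup of B inside P are good
  have above : ∀ E : Subgroup G, B ≤ E → E ≤ (P : Subgroup G) → ¬ E ≤ B → ∀ e ∈ normalizer (E : Set G),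
      ∃ h ∈ normalizer (W : Set G), ∀ b ∈ B, e * b * e⁻¹ = h * b * h⁻¹ := by
    intro E hBE hEP hne e he
    obtain ⟨h, hh, hh'⟩ := bigger E hEP (hcardB ▸ card_lt (lt_of_le_not_ge hBE hne)) e
      ((conjMap_eq_self_iff.2 he).le.trans hEP)
    exact ⟨h, hh, fun b hb => hh' b (hBE hb)⟩
  have hBp : IsPGroup p B := P.2.to_le hBP
  set B1 := B ⊓ N with hB1
  have hB1R : B1 ≤ R := inf_le_inf_right _ hBP
  by_cases hWB : W ≤ B
  · -- Frattini in N(B) relative to N(B) ∩ N
    obtain ⟨S', hS'⟩ : ∃ S' : Sylow p ↥NB, (S' : Subgroup ↥NB) = ((P : Subgroup G) ⊓ NB).subgroupOf NB :=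
      ⟨(hS.2.1.comap_of_injective NB.subtype NB.subtype_injective).toSylow hS.2.2, rfl⟩
    obtain ⟨c, hc, n, hn, e⟩ := frattini_mul S' (N.subgroupOf NB) ⟨q, hqN⟩
    have e' : q = (c : G) * n := congrArg Subtype.val e
    -- the N-part normalizes W
    have hcW : (c : G) ∈ normalizer (W : Set G) := by
      obtain ⟨h, hh, hha⟩ := hW B1 hB1R c (mem_subgroupOf.1 hc) (by
        rintro z ⟨a, ha, rfl⟩
        exact hB1R (mem_inf.2 ⟨(mem_normalizer_iff.1 c.2 a).1 (mem_inf.1 ha).1,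
          Normal.conj_mem inferInstance a (mem_inf.1 ha).2 _⟩))
      rw [← conjMap_eq_self_iff]
      refine Subgroup.eq_of_le_of_card_ge ?_ (card_conjMap _ _).ge
      rintro z ⟨w, hw, rfl⟩
      have h5 := hha w (mem_inf.2 ⟨hWB hw, (mem_inf.1 (hWR hw)).2⟩)
      change (c : G) * w * (c : G)⁻¹ ∈ W
      rw [h5]
      exact (mem_normalizer_iff.1 (mem_inf.1 hh).2 w).1 hw
    -- the other part normalizes B ∩ N and R ∩ N(B)
    set R' := (P : Subgroup G) ⊓ NB ⊓ N with hR'
    have hnR' : (n : G) ∈ normalizer (R' : Set G) := by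
      rw [← conjMap_eq_self_iff]
      refine Subgroup.eq_of_le_of_card_ge ?_ (card_conjMap _ _).ge
      rintro z ⟨r, hr, rfl⟩
      have h5 := (mem_normalizer_iff.1 hn ⟨r, (mem_inf.1 (mem_inf.1 hr).1).2⟩).1
        (mem_inf.2 ⟨by rw [hS']; exact mem_subgroupOf.2 (mem_inf.1 hr).1, mem_subgroupOf.2 (mem_inf.1 hr).2⟩)
      rw [hS'] at h5
      exact mem_inf.2 ⟨mem_subgroupOf.1 (mem_inf.1 h5).1, mem_subgroupOf.1 (mem_inf.1 h5).2⟩
    obtain ⟨h, hh, hhb⟩ : ∃ h ∈ normalizer (W : Set G), ∀ b ∈ B, (n : G) * b * (n : G)⁻¹ = h * b * h⁻¹ := by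
      by_cases hRB : R ≤ B
      · refine ⟨n, hRW ?_, fun _ _ => rfl⟩
        have : R = B ⊓ N := le_antisymm (le_inf hRB inf_le_right) hB1R
        rw [this]
        exact inf_normalizer_le_normalizer_inf ⟨n.2, le_normalizer_of_normal ⊤ N (mem_top _)⟩
      · refine above (B ⊔ R') le_sup_left (sup_le hBP (inf_le_left.trans inf_le_left)) (fun hle => ?_) n ?_
        · have hlt : B < B ⊔ R := lt_of_le_not_ge le_sup_left fun h => hRB (le_sup_right.trans h)
          obtain ⟨z, hz, hzn, hzB⟩ :=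
            Transfer.exists_mem_normalizer_not_mem (P.2.to_le (sup_le hBP inf_le_left)) hlt
          have h1 : z ∈ ((B ⊔ R : Subgroup G) : Set G) := hz
          rw [coe_mul_of_left_le_normalizer_right B R (hBP.trans hPR)] at h1
          obtain ⟨b, hb, r, hr, rfl⟩ := h1
          have h2 : r ∈ R' := mem_inf.2 ⟨mem_inf.2 ⟨(mem_inf.1 hr).1, by
            have := mul_mem (inv_mem (le_normalizer hb : b ∈ NB)) hzn
            rwa [inv_mul_cancel_left] at this⟩, (mem_inf.1 hr).2⟩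
          exact hzB (mul_mem hb (hle (mem_sup_right h2)))
        · rw [← conjMap_eq_self_iff, conjMap, Subgroup.map_sup]
          rw [← conjMap_eq_self_iff] at hnR'
          have hnB := conjMap_eq_self_iff.2 (show (n : G) ∈ normalizer (B : Set G) from n.2)
          rw [conjMap] at hnR' hnB
          rw [hnR', hnB]
    refine ⟨(c : G) * h, mul_mem hcW hh, fun b hb => ?_⟩
    rw [e']
    calc (c : G) * n * b * ((c : G) * n)⁻¹ = (c : G) * ((n : G) * b * (n : G)⁻¹) * (c : G)⁻¹ := by group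
      _ = (c : G) * (h * b * h⁻¹) * (c : G)⁻¹ := by rw [hhb b hb]
      _ = _ := by group
  · -- W not in B: the p-core of the automorphism group induced on B grows
    set Cb := (centralizer (B : Set G)).subgroupOf NB with hCb
    haveI : Cb.Normal := ⟨fun z hz u => mem_subgroupOf.2 (mem_centralizer_iff.2 fun b hb => by
      have h5 := mem_centralizer_iff.1 (mem_subgroupOf.1 hz) ((u : G)⁻¹ * b * u)
        ((mem_normalizer_iff.1 u.2 _).2 (by simpa [mul_assoc] using hb))
      simp only [coe_mul, coe_inv]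
      calc b * ((u : G) * z * (u : G)⁻¹) = (u : G) * (((u : G)⁻¹ * b * u) * z) * (u : G)⁻¹ := by group
        _ = (u : G) * ((z : G) * ((u : G)⁻¹ * b * u)) * (u : G)⁻¹ := by rw [h5]
        _ = _ := by group)⟩
    set π := QuotientGroup.mk' Cb with hπ
    have hπs : Function.Surjective π := QuotientGroup.mk'_surjective Cb
    set Y := (Cfsg.pCore p (↥NB ⧸ Cb)).comap π with hY
    haveI : Y.Normal := (Cfsg.pCore_normal p _).comap π
    let Kset : Subgroup ↥NB := {
      carrier := {z | (z : G) ∈ N ∧ ∃ w ∈ W, w ∈ normalizer (B1 : Set G) ∧ ∀ a ∈ B1, (z : G) * a * (z : G)⁻¹ = w * a * w⁻¹}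
      one_mem' := ⟨one_mem N, 1, one_mem W, one_mem _, fun a _ => rfl⟩
      mul_mem' := by
        rintro z z' ⟨hz, w, hw, hwn, e⟩ ⟨hz', w', hw', hwn', e'⟩
        refine ⟨mul_mem hz hz', w * w', mul_mem hw hw', mul_mem hwn hwn', fun a ha => ?_⟩
        simp only [coe_mul]
        calc (z : G) * z' * a * ((z : G) * z')⁻¹ = (z : G) * ((z' : G) * a * (z' : G)⁻¹) * (z : G)⁻¹ := by group
          _ = (z : G) * (w' * a * w'⁻¹) * (z : G)⁻¹ := by rw [e' a ha]
          _ = w * (w' * a * w'⁻¹) * w⁻¹ := e _ ((mem_normalizer_iff.1 hwn' a).1 ha)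
          _ = _ := by group
      inv_mem' := by
        rintro z ⟨hz, w, hw, hwn, e⟩
        refine ⟨inv_mem hz, w⁻¹, inv_mem hw, inv_mem hwn, fun a ha => ?_⟩
        have h5 := e _ ((mem_normalizer_iff.1 (inv_mem hwn) a).1 ha)
        simp only [inv_inv] at h5
        simp only [coe_inv, inv_inv]
        calc (z : G)⁻¹ * a * z = (z : G)⁻¹ * (w * (w⁻¹ * a * w) * w⁻¹) * z := by group
          _ = (z : G)⁻¹ * ((z : G) * (w⁻¹ * a * w) * (z : G)⁻¹) * z := by rw [h5]
          _ = _ := by group }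
    have hKN : Kset ≤ N.subgroupOf NB := fun z hz => mem_subgroupOf.2 hz.1
    have hKnorm : N.subgroupOf NB ≤ normalizer (Kset : Set ↥NB) := by
      intro m hm
      rw [← conjMap_eq_self_iff]
      refine Subgroup.eq_of_le_of_card_ge ?_ (card_conjMap _ _).ge
      rintro u ⟨z, ⟨hz, w, hw, hwn, e⟩, rfl⟩
      have hm' : ∀ a ∈ B1, (m : G) * a * (m : G)⁻¹ ∈ B1 := fun a ha => mem_inf.2
        ⟨(mem_normalizer_iff.1 m.2 a).1 (mem_inf.1 ha).1, Normal.conj_mem inferInstance a (mem_inf.1 ha).2 _⟩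
      obtain ⟨h, hh, hha⟩ := hW B1 hB1R m (mem_subgroupOf.1 hm) (by
        rintro u ⟨a, ha, rfl⟩
        exact hB1R (hm' a ha))
      have hhn : h ∈ normalizer (B1 : Set G) := by
        rw [← conjMap_eq_self_iff]
        refine Subgroup.eq_of_le_of_card_ge ?_ (card_conjMap _ _).ge
        rintro u ⟨a, ha, rfl⟩
        change h * a * h⁻¹ ∈ B1
        rw [← hha a ha]
        exact hm' a ha
      refine ⟨mul_mem (mul_mem (mem_subgroupOf.1 hm) hz) (inv_mem (mem_subgroupOf.1 hm)), h * w * h⁻¹,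
        (mem_normalizer_iff.1 (mem_inf.1 hh).2 w).1 hw, mul_mem (mul_mem hhn hwn) (inv_mem hhn), fun a ha => ?_⟩
      have h6 : h⁻¹ * a * h ∈ B1 := by
        simpa using (mem_normalizer_iff.1 (inv_mem hhn) a).1 ha
      have h7 : (m : G)⁻¹ * a * m = h⁻¹ * a * h := by
        have h8 := hha _ h6
        calc (m : G)⁻¹ * a * m = (m : G)⁻¹ * (h * (h⁻¹ * a * h) * h⁻¹) * m := by group
          _ = (m : G)⁻¹ * ((m : G) * (h⁻¹ * a * h) * (m : G)⁻¹) * m := by rw [h8]
          _ = _ := by group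
      change (m : G) * z * (m : G)⁻¹ * a * ((m : G) * z * (m : G)⁻¹)⁻¹ = _
      calc (m : G) * z * (m : G)⁻¹ * a * ((m : G) * z * (m : G)⁻¹)⁻¹
          = (m : G) * ((z : G) * ((m : G)⁻¹ * a * m) * (z : G)⁻¹) * (m : G)⁻¹ := by group
        _ = (m : G) * (w * (h⁻¹ * a * h) * w⁻¹) * (m : G)⁻¹ := by rw [h7, e _ h6]
        _ = h * (w * (h⁻¹ * a * h) * w⁻¹) * h⁻¹ := hha _ ((mem_normalizer_iff.1 hwn _).1 h6)
        _ = _ := by group
    have hKp : IsPGroup p (Kset.map π) := by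
      rintro ⟨_, z, ⟨hz, w, hw, -, e⟩, rfl⟩
      obtain ⟨i, hi⟩ := P.2 ⟨w, (mem_inf.1 (hWR hw)).1⟩
      have hwi : w ^ p ^ i = 1 := congrArg Subtype.val hi
      set y := (z : G) ^ p ^ i with hy
      have hy1 : ∀ a ∈ B1, y * a = a * y := by
        have h5 : ∀ j : ℕ, ∀ a ∈ B1, (z : G) ^ j * a * ((z : G) ^ j)⁻¹ = w ^ j * a * (w ^ j)⁻¹ := by
          intro j
          induction j with
          | zero => simp
          | succ j ihj =>
            intro a ha
            have h6 : (z : G) * a * (z : G)⁻¹ ∈ B1 := mem_inf.2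
              ⟨(mem_normalizer_iff.1 z.2 a).1 (mem_inf.1 ha).1, Normal.conj_mem inferInstance a (mem_inf.1 ha).2 _⟩
            calc (z : G) ^ (j + 1) * a * ((z : G) ^ (j + 1))⁻¹
                = (z : G) ^ j * ((z : G) * a * (z : G)⁻¹) * ((z : G) ^ j)⁻¹ := by group
              _ = w ^ j * ((z : G) * a * (z : G)⁻¹) * (w ^ j)⁻¹ := ihj _ h6
              _ = w ^ j * (w * a * w⁻¹) * (w ^ j)⁻¹ := by rw [e a ha]
              _ = _ := by group
        intro a ha
        have := h5 (p ^ i) a ha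
        rw [hwi, one_mul, inv_one, mul_one] at this
        exact mul_inv_eq_iff_eq_mul.1 this
      obtain ⟨l, hl⟩ := IsPGroup.iff_card.1 (hBp.to_le (inf_le_left : B1 ≤ B))
      refine ⟨i + l, Subtype.ext ?_⟩
      change (π z) ^ p ^ (i + l) = 1
      rw [← map_pow, hπ, QuotientGroup.mk'_apply, QuotientGroup.eq_one_iff, hCb, mem_subgroupOf, coe_pow,
        pow_add, pow_mul, ← hy, mem_centralizer_iff]
      intro b hb
      have hd : b⁻¹ * (y * b * y⁻¹) ∈ B1 := mem_inf.2 ⟨mul_mem (inv_mem hb)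
        ((mem_normalizer_iff.1 (pow_mem z.2 _) b).1 hb), by
        have : b⁻¹ * (y * b * y⁻¹) = (b⁻¹ * y * b⁻¹⁻¹) * y⁻¹ := by group
        rw [this]
        exact mul_mem (Normal.conj_mem inferInstance y (pow_mem hz _) _) (inv_mem (pow_mem hz _))⟩
      set d := b⁻¹ * (y * b * y⁻¹) with hddef
      have h5 : ∀ j : ℕ, y ^ j * b * (y ^ j)⁻¹ = b * d ^ j := by
        intro j
        induction j with
        | zero => simp
        | succ j ihj =>
          calc y ^ (j + 1) * b * (y ^ (j + 1))⁻¹ = y * (y ^ j * b * (y ^ j)⁻¹) * y⁻¹ := by group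
            _ = y * (b * d ^ j) * y⁻¹ := by rw [ihj]
            _ = (y * b * y⁻¹) * (y * d ^ j * y⁻¹) := by group
            _ = (b * d) * d ^ j := by
              rw [show y * d ^ j = d ^ j * y from hy1 _ (pow_mem hd j), mul_inv_cancel_right, hddef]; group
            _ = _ := by rw [mul_assoc, ← pow_succ']
      have h6 : d ^ p ^ l = 1 := by
        rw [← hl]
        exact congrArg Subtype.val (pow_card_eq_one' (x := (⟨d, hd⟩ : B1)))
      have := h5 (p ^ l)
      rw [h6, mul_one, mul_inv_eq_iff_eq_mul] at this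
      exact this.symm
    have hKY : Kset ≤ Y := by
      refine map_le_iff_le_comap.1 (Comp.le_pCore_of_isSubnormal ?_ hKp)
      haveI : ((N.subgroupOf NB).map π).Normal := Subgroup.Normal.map inferInstance _ hπs
      refine Subgroup.IsSubnormal.step _ _ (map_mono hKN) (Subgroup.Normal.isSubnormal inferInstance) ?_
      rw [normal_subgroupOf_iff_le_normalizer (map_mono hKN)]
      exact (map_mono hKnorm).trans (le_normalizer_map π)
    have hBY : B.subgroupOf NB ≤ Y := by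
      refine map_le_iff_le_comap.1 (le_sSup ⟨Subgroup.Normal.map ?_ π hπs, ?_⟩)
      · exact normal_subgroupOf_iff_le_normalizer (le_normalizer : B ≤ NB) |>.2 le_rfl
      · exact (hBp.comap_of_injective NB.subtype NB.subtype_injective).map π
    obtain ⟨S', hS'⟩ : ∃ S' : Sylow p ↥NB, (S' : Subgroup ↥NB) = ((P : Subgroup G) ⊓ NB).subgroupOf NB :=
      ⟨(hS.2.1.comap_of_injective NB.subtype NB.subtype_injective).toSylow hS.2.2, rfl⟩
    set E := ((S' : Subgroup ↥NB) ⊓ Y).map NB.subtype with hE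
    have hBE : B ≤ E := fun b hb => ⟨⟨b, le_normalizer hb⟩, ⟨by
      rw [SetLike.mem_coe, hS']; exact mem_subgroupOf.2 (mem_inf.2 ⟨hBP hb, le_normalizer hb⟩),
      hBY (mem_subgroupOf.2 hb)⟩, rfl⟩
    have hEP : E ≤ (P : Subgroup G) := by
      rintro _ ⟨z, hz, rfl⟩
      have := hS' ▸ (mem_inf.1 hz).1
      exact (mem_inf.1 (mem_subgroupOf.1 this)).1
    have hEB : ¬ E ≤ B := by
      intro hle
      have hlt : B < B ⊔ W := lt_of_le_not_ge le_sup_left fun h => hWB (le_sup_right.trans h)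
      obtain ⟨z, hz, hzn, hzB⟩ := Transfer.exists_mem_normalizer_not_mem
        (P.2.to_le (sup_le hBP (hWR.trans inf_le_left))) hlt
      have h1 : z ∈ ((B ⊔ W : Subgroup G) : Set G) := hz
      rw [coe_mul_of_left_le_normalizer_right B W (hBP.trans hPW)] at h1
      obtain ⟨b, hb, w, hw, rfl⟩ := h1
      have hwN : w ∈ NB := by
        have := mul_mem (inv_mem (le_normalizer hb : b ∈ NB)) hzn
        rwa [inv_mul_cancel_left] at this
      refine hzB (mul_mem hb (hle ⟨⟨w, hwN⟩, ⟨?_, hKY ⟨(mem_inf.1 (hWR hw)).2, w, hw, ?_, fun _ _ => rfl⟩⟩, rfl⟩))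
      · rw [SetLike.mem_coe, hS']; exact mem_subgroupOf.2 (mem_inf.2 ⟨(mem_inf.1 (hWR hw)).1, hwN⟩)
      · exact inf_normalizer_le_normalizer_inf ⟨hwN, le_normalizer_of_normal ⊤ N (mem_top _)⟩
    obtain ⟨c, hc, n, hn, e⟩ := frattini_mul S' Y ⟨q, hqN⟩
    have e' : q = (c : G) * n := congrArg Subtype.val e
    have hcov : Y ≤ Cb ⊔ ((S' : Subgroup ↥NB) ⊓ Y) := by
      refine normal_pGroup_quotient_le S' (fun z hz => ?_) (pCore_comap_relIndex Cb)
      simp [hY, hπ, mem_comap, (QuotientGroup.eq_one_iff z).2 hz, one_mem]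
    obtain ⟨z, hz, u, hu, huc⟩ := mem_sup_of_normal_left.1 (hcov hc)
    have hnE : (n : G) ∈ normalizer (E : Set G) := le_normalizer_map NB.subtype (mem_map_of_mem _ hn)
    have hc' : (c : G) = (z : G) * u := by rw [← huc]; rfl
    obtain ⟨h, hh, hhb⟩ := above E hBE hEP hEB ((u : G) * n)
      (mul_mem (le_normalizer (mem_map_of_mem NB.subtype hu)) hnE)
    refine ⟨h, hh, fun b hb => ?_⟩
    have hunb : (u : G) * n * b * ((u : G) * n)⁻¹ ∈ B := (mem_normalizer_iff.1 (u * n).2 b).1 hb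
    have hzc := mem_centralizer_iff.1 (mem_subgroupOf.1 hz) _ hunb
    rw [← hhb b hb, e', hc']
    calc (z : G) * u * n * b * ((z : G) * u * n)⁻¹ = (z : G) * ((u : G) * n * b * ((u : G) * n)⁻¹) * (z : G)⁻¹ := by
          group
      _ = ((u : G) * n * b * ((u : G) * n)⁻¹) * z * (z : G)⁻¹ := by rw [← hzc]
      _ = _ := by group

/-- Let N be a normal subgroup of the finite group G, P a Sylow p-subgroup of G, and V a subgroup of P ∩ N normal in P ∩ N such that N_N(V) controls strong fusion in P ∩ N with respect to N (whenever a subgroup A of P ∩ N has n A n⁻¹ ≤ P ∩ N for some n in N, then n = h c with h in N_N(V) and c in C_N(A)). Let W be the subgroup generated by the conjugates of V under N_G(P ∩ N). Then N_G(W) controls strong fusion in P with respect to G. -/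
theorem result {G : Type*} [Group G] [Finite G] {p : ℕ} [Fact p.Prime] (N : Subgroup G) [N.Normal] (P : Sylow p G) (V : Subgroup G)
    (hV : V ≤ (P : Subgroup G) ⊓ N) (hVn : ∀ x ∈ (P : Subgroup G) ⊓ N, V.map (MulAut.conj x).toMonoidHom = V)
    (hctrl : ∀ A : Subgroup G, A ≤ (P : Subgroup G) ⊓ N → ∀ n ∈ N, A.map (MulAut.conj n).toMonoidHom ≤ (P : Subgroup G) ⊓ N →
      ∃ h ∈ N ⊓ Subgroup.normalizer (V : Set G), ∃ c ∈ N ⊓ Subgroup.centralizer (A : Set G), n = h * c)
    (W : Subgroup G) (hW : W = Subgroup.closure (⋃ x ∈ Subgroup.normalizer (((P : Subgroup G) ⊓ N : Subgroup G) : Set G),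
      ((V.map (MulAut.conj x).toMonoidHom : Subgroup G) : Set G))) :
    ∀ A : Subgroup G, A ≤ (P : Subgroup G) → ∀ g : G, A.map (MulAut.conj g).toMonoidHom ≤ (P : Subgroup G) →
        ∃ h ∈ Subgroup.normalizer (W : Set G), ∃ c ∈ Subgroup.centralizer (A : Set G), g = h * c := by
  open Subgroup CfsgLib CfsgLib.PLocal in
  classical
  haveI := Fintype.ofFinite G
  set R := (P : Subgroup G) ⊓ N with hR
  have hcl : ∀ x ∈ normalizer (R : Set G), conjMap x V ≤ W := fun x hx z hz => by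
    rw [hW]
    exact Subgroup.subset_closure (Set.mem_iUnion₂.2 ⟨x, hx, hz⟩)
  have hWR : W ≤ R := by
    rw [hW, closure_le]
    refine Set.iUnion₂_subset fun x hx => ?_
    exact (conjMap_mono hV).trans (conjMap_eq_self_iff.2 hx).le
  have hnorm : ∀ h : G, (∀ x ∈ normalizer (R : Set G), conjMap h (conjMap x V) ≤ W) → h ∈ normalizer (W : Set G) := by
    intro h hh
    rw [← conjMap_eq_self_iff]
    refine Subgroup.eq_of_le_of_card_ge ?_ (card_conjMap _ _).ge
    rw [conjMap, Subgroup.map_le_iff_le_comap]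
    conv_lhs => rw [hW]
    rw [closure_le]
    refine Set.iUnion₂_subset fun x hx z hz => ?_
    exact hh x hx ⟨z, hz, rfl⟩
  have hRW : normalizer (R : Set G) ≤ normalizer (W : Set G) := fun y hy => hnorm y fun x hx => by
    rw [conjMap_conjMap]; exact hcl _ (mul_mem hy hx)
  have key := ctrl_finset N R V hV hVn hctrl (Finset.univ.filter fun x => x ∈ normalizer (R : Set G)) (by simp)
  intro A hA g hg
  obtain ⟨h, hh, e⟩ := good N P W hWR hRW (fun A' hA' n hn hn' => by
    obtain ⟨h, hhN, hhV, e⟩ := key A' hA' n hn hn'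
    refine ⟨h, mem_inf.2 ⟨hhN, hnorm h fun x hx => ?_⟩, e⟩
    rw [conjMap_eq_self_iff.2 (hhV x (by simp [hx]))]
    exact hcl x hx) _ A hA le_rfl g hg
  refine ⟨h, hh, h⁻¹ * g, mem_centralizer_iff.2 fun a ha => ?_, by group⟩
  have := e a ha
  calc a * (h⁻¹ * g) = h⁻¹ * (h * a * h⁻¹) * g := by group
    _ = h⁻¹ * (g * a * g⁻¹) * g := by rw [this]
    _ = _ := by group

end Cfsg.Agent.S1954
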