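import Cfsg.Statements.S1957
import Cfsg.Agent.Lib.PLocal.SylowIn
import Cfsg.Agent.Lib.Coprime.Generation
import Cfsg.Agent.Lib.Amalgam.PCore
import Cfsg.Agent.Lib.Amalgam.WeaklyClosed

set_option autoImplicit false
open Cfsg

namespace Cfsg.Agent.S1957

open Subgroup

theorem sq_eq_one {G : Type*} [Group G] {U : Subgroup G} (hU : IsKleinFour U) {x : G} (hx : x ∈ U) :
    x * x = 1 :=
  congrArg Subtype.val (IsKleinFour.mul_self (⟨x, hx⟩ : U))

theorem eq_mul {G : Type*} [Group G] {U : Subgroup G} (hU : IsKleinFour U) {x y z : G} (hx : x ∈ U)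
    (hy : y ∈ U) (hz : z ∈ U) (hx1 : x ≠ 1) (hy1 : y ≠ 1) (hxy : x ≠ y) (hz1 : z ≠ 1) (hzx : z ≠ x)
    (hzy : z ≠ y) : z = x * y :=
  congrArg Subtype.val (IsKleinFour.eq_mul_of_ne_all (x := (⟨x, hx⟩ : U)) (y := ⟨y, hy⟩) (z := ⟨z, hz⟩)
    (fun h => hx1 (congrArg Subtype.val h)) (fun h => hy1 (congrArg Subtype.val h))
    (fun h => hxy (congrArg Subtype.val h)) (fun h => hz1 (congrArg Subtype.val h))
    (fun h => hzx (congrArg Subtype.val h)) (fun h => hzy (congrArg Subtype.val h)))

theorem mem_zpowers_invol {G : Type*} [Group G] {u z : G} (hu : u * u = 1) (hz : z ∈ zpowers u) :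
    z = 1 ∨ z = u := by
  obtain ⟨k, rfl⟩ := mem_zpowers_iff.1 hz
  have h2 : u ^ (2 : ℤ) = 1 := by rw [zpow_two]; exact hu
  rcases Int.even_or_odd k with ⟨j, rfl⟩ | ⟨j, rfl⟩
  · left; rw [← two_mul, zpow_mul, h2, one_zpow]
  · right; rw [zpow_add, zpow_mul, h2, one_zpow, one_mul, zpow_one]

theorem fix_of_normalizes {G : Type*} [Group G] {u x : G} (hu : u * u = 1) (hu1 : u ≠ 1)
    (hx : x ∈ normalizer (zpowers u : Set G)) : x * u * x⁻¹ = u :=
  (mem_zpowers_invol hu ((mem_normalizer_iff.1 hx u).1 (mem_zpowers u))).resolve_left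
    fun h => hu1 (conj_eq_one_iff.1 h)

/-- If the 2-core of `H = N(⟨u⟩)` normalizes the four-group, then that core contains it. -/
theorem mem_core {G : Type*} [Group G] [Finite G] {U : Subgroup G} (hU : IsKleinFour U) {u : G}
    (hu : u ∈ U) (hu1 : u ≠ 1)
    (hH : Cfsg.IsOfCharacteristicTwo ↥(normalizer (zpowers u : Set G)))
    (hQ : (Cfsg.pCore 2 ↥(normalizer (zpowers u : Set G))).map
      (normalizer (zpowers u : Set G)).subtype ≤ normalizer (U : Set G))
    {w : G} (hw : w ∈ U) :
    ∃ w' ∈ Cfsg.pCore 2 ↥(normalizer (zpowers u : Set G)), (w' : G) = w := by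
  set H := normalizer (zpowers u : Set G) with hHdef
  set Q := Cfsg.pCore 2 H with hQdef
  have hu2 : u * u = 1 := sq_eq_one hU hu
  have hwH : w ∈ H := mem_normalizer_iff.2 fun z => by
    have hcomm : w * u = u * w := congrArg Subtype.val
      ((IsKleinFour.isMulCommutative (G := U)).is_comm.comm ⟨w, hw⟩ ⟨u, hu⟩)
    have hc : Commute w u := hcomm
    constructor
    · rintro ⟨k, rfl⟩; exact ⟨k, by simp [(hc.zpow_right k).eq]⟩
    · rintro ⟨k, hk⟩
      refine ⟨k, ?_⟩
      have : z = w⁻¹ * u ^ k * w := by simp only at hk; rw [hk]; group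
      rw [this, mul_assoc, ← (hc.zpow_right k).eq, inv_mul_cancel_left]
  have hcen : ∀ x : H, ∀ c : G, c ∈ zpowers u → (x : G) * c * (x : G)⁻¹ = c := by
    intro x c hc
    rcases mem_zpowers_invol hu2 hc with rfl | rfl
    · group
    · exact fix_of_normalizes hu2 hu1 x.2
  set N : Subgroup H :=
    { carrier := {x | ∀ q ∈ Q, (x : G) * q * (x : G)⁻¹ * (q : G)⁻¹ ∈ zpowers u}
      one_mem' := fun q _ => by simp
      mul_mem' := fun {x y} hx hy q hq => by
        have e : ((x * y : H) : G) * q * ((x * y : H) : G)⁻¹ * (q : G)⁻¹ =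
            ((x : G) * ((y : G) * q * (y : G)⁻¹ * (q : G)⁻¹) * (x : G)⁻¹) *
              ((x : G) * q * (x : G)⁻¹ * (q : G)⁻¹) := by rw [Subgroup.coe_mul]; group
        rw [e, hcen x _ (hy q hq)]
        exact mul_mem (hy q hq) (hx q hq)
      inv_mem' := fun {x} hx q hq => by
        have e : ((x⁻¹ : H) : G) * q * ((x⁻¹ : H) : G)⁻¹ * (q : G)⁻¹ =
            ((x⁻¹ : H) : G) * ((x : G) * q * (x : G)⁻¹ * (q : G)⁻¹)⁻¹ * ((x⁻¹ : H) : G)⁻¹ := by
          rw [Subgroup.coe_inv]; group
        rw [e, hcen _ _ (inv_mem (hx q hq))]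
        exact inv_mem (hx q hq) } with hN
  have hQn : Q.Normal := CfsgLib.Amalgam.normal_pCore
  have hNn : N.Normal := ⟨fun x hx h q hq => by
    have hq' : h⁻¹ * q * h ∈ Q := by simpa using hQn.conj_mem q hq h⁻¹
    have h1 := hx _ hq'
    have e : ((h * x * h⁻¹ : H) : G) * q * ((h * x * h⁻¹ : H) : G)⁻¹ * (q : G)⁻¹ =
        (h : G) * ((x : G) * ((h⁻¹ * q * h : H) : G) * (x : G)⁻¹ *
          ((h⁻¹ * q * h : H) : G)⁻¹) * (h : G)⁻¹ := by push_cast; group
    rw [e, hcen h _ h1]
    exact h1⟩
  have hNp : IsPGroup 2 N := by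
    intro x
    have hxx : (x : H) * x ∈ Q := hH (mem_centralizer_iff.2 fun q hq => Subtype.ext (by
      have h1 := x.2 q hq
      set c := ((x : H) : G) * q * ((x : H) : G)⁻¹ * (q : G)⁻¹ with hc
      have hcc : c * c = 1 := by
        rcases mem_zpowers_invol hu2 h1 with h | h <;> rw [h]
        · simp
        · exact hu2
      have h2 : ((x : H) : G) * q * ((x : H) : G)⁻¹ = c * q := by rw [hc]; group
      have h3 : ((x : H) : G) * (((x : H) : G) * q * ((x : H) : G)⁻¹) * ((x : H) : G)⁻¹ = q := by
        rw [h2]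
        calc _ = (((x : H) : G) * c * ((x : H) : G)⁻¹) * (((x : H) : G) * q * ((x : H) : G)⁻¹) := by group
          _ = q := by rw [hcen _ _ h1, h2, ← mul_assoc, hcc, one_mul]
      show (q : G) * (((x : H) : G) * (x : H)) = ((x : H) : G) * (x : H) * q
      conv_lhs => rw [← h3]
      group))
    obtain ⟨k, hk⟩ := (CfsgLib.Amalgam.isPGroup_pCore (p := 2) (G := H)) ⟨_, hxx⟩
    refine ⟨k + 1, Subtype.ext ?_⟩
    have : ((x : H) * x) ^ 2 ^ k = 1 := congrArg Subtype.val hk
    rw [← pow_two, ← pow_mul] at this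
    rw [SubgroupClass.coe_pow, pow_succ']
    exact this
  refine ⟨⟨w, hwH⟩, CfsgLib.Amalgam.le_pCore hNn hNp ?_, rfl⟩
  intro q hq
  show w * (q : G) * w⁻¹ * (q : G)⁻¹ ∈ zpowers u
  have hqN := hQ ⟨q, hq, rfl⟩
  have hw' : (q : G) * w * (q : G)⁻¹ ∈ U := (mem_normalizer_iff.1 hqN w).1 hw
  have hqu : (q : G) * u * (q : G)⁻¹ = u := hcen q u (mem_zpowers u)
  have hwi : w⁻¹ = w := inv_eq_of_mul_eq_one_right (sq_eq_one hU hw)
  have e : w * (q : G) * w⁻¹ * (q : G)⁻¹ = w * ((q : G) * w * (q : G)⁻¹) := by rw [hwi]; group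
  rw [e]
  by_cases hw1 : w = 1
  · simp [hw1]
  by_cases hwu : w = u
  · rw [hwu, hqu, hu2]; exact one_mem _
  by_cases h : (q : G) * w * (q : G)⁻¹ = w
  · rw [h, sq_eq_one hU hw]; exact one_mem _
  have h' : (q : G) * w * (q : G)⁻¹ = u * w := by
    refine eq_mul hU hu hw hw' hu1 hw1 (Ne.symm hwu) (fun h1 => hw1 (conj_eq_one_iff.1 h1))
      (fun h1 => hwu ?_) h
    have := h1.trans hqu.symm
    simpa using this
  have hcomm : u * w = w * u := congrArg Subtype.val
    ((IsKleinFour.isMulCommutative (G := U)).is_comm.comm ⟨u, hu⟩ ⟨w, hw⟩)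
  rw [h', hcomm, ← mul_assoc, sq_eq_one hU hw, one_mul]
  exact mem_zpowers u

/-- Let `G` be a finite non-abelian simple group in which every local subgroup is solvable and which is of characteristic 2 type. Let `P` be a Sylow 2-subgroup of `G` and `U` a normal subgroup of `P` that is a four-group, with `U` central in `P` if the centre of `P` is not cyclic. Then `U` centralizes every subgroup of odd order of `G` that it normalizes. -/
theorem result {G : Type*} [Group G] [Finite G]
    [IsSimpleGroup G] (hna : ¬ IsMulCommutative G) (hN : Cfsg.IsNGroup G) (h2 : Cfsg.IsCharacteristicTwoType G)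
    (P : Sylow 2 G) (U : Subgroup G) (hUP : U ≤ (P : Subgroup G)) (hUn : (P : Subgroup G) ≤ Subgroup.normalizer (U : Set G))
    (hU4 : IsKleinFour ↥U)
    (hUZ : ¬ IsCyclic ↥((P : Subgroup G) ⊓ Subgroup.centralizer ((P : Subgroup G) : Set G)) →
      U ≤ Subgroup.centralizer ((P : Subgroup G) : Set G))
    (K : Subgroup G) (hK : Odd (Nat.card K)) (hUK : U ≤ Subgroup.normalizer (K : Set G)) :
    U ≤ Subgroup.centralizer (K : Set G) := by
  set P' : Subgroup G := (P : Subgroup G) with hP'
  haveI : Fact (Nat.Prime 2) := ⟨Nat.prime_two⟩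
  have hcomm : IsMulCommutative U := IsKleinFour.isMulCommutative
  -- the 2-core of the centralizer of each involution of `U` normalizes `U`
  have hnorm : ∀ u ∈ U, u ≠ 1 →
      (Cfsg.pCore 2 ↥(normalizer (zpowers u : Set G))).map
        (normalizer (zpowers u : Set G)).subtype ≤ normalizer (U : Set G) := by
    intro u hu hu1
    have hu2 : u * u = 1 := sq_eq_one hU4 hu
    set H := normalizer (zpowers u : Set G) with hH
    set T := P' ⊓ H with hT
    obtain ⟨S, hS, hTS⟩ := CfsgLib.PLocal.exists_sylowIn_le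
      (P.2.to_le (inf_le_left : T ≤ P')) (inf_le_right : T ≤ H)
    have hQS : (Cfsg.pCore 2 H).map H.subtype ≤ S := by
      obtain ⟨k, hk, hkS⟩ := hS.exists_conj_le (CfsgLib.Amalgam.isPGroup_pCore.map H.subtype)
        (map_subtype_le _)
      refine le_trans ?_ hkS
      rintro _ ⟨q, hq, rfl⟩
      refine CfsgLib.PLocal.mem_conjMap.2 ⟨⟨k, hk⟩⁻¹ * q * ⟨k, hk⟩, ?_, rfl⟩
      simpa using (CfsgLib.Amalgam.normal_pCore (p := 2) (G := H)).conj_mem q hq ⟨k, hk⟩⁻¹
    refine hQS.trans ?_
    by_cases huc : ∀ x ∈ P', x * u * x⁻¹ = u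
    · have hPH : P' ≤ H := fun x hx => mem_normalizer_iff.2 fun z => by
        have hc : Commute x u := by
          show x * u = u * x
          conv_rhs => rw [← huc x hx]
          group
        constructor
        · rintro ⟨k, rfl⟩; exact ⟨k, by simp [(hc.zpow_right k).eq]⟩
        · rintro ⟨k, hk⟩
          refine ⟨k, ?_⟩
          simp only at hk
          have : z = x⁻¹ * u ^ k * x := by rw [hk]; group
          rw [this, mul_assoc, ← (hc.zpow_right k).eq, inv_mul_cancel_left]
      have hPS : P' ≤ S := (le_inf le_rfl hPH).trans hTS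
      exact (P.is_maximal' hS.2.1 hPS).le.trans hUn
    · push Not at huc
      obtain ⟨y, hy, hyu⟩ := huc
      -- the central involution in `U`
      have hne := CfsgLib.Amalgam.inf_centralizer_ne_bot (p := 2) P.2 (P.2.to_le hUP)
        (fun h => hu1 (mem_bot.1 (h ▸ hu))) hUn
      obtain ⟨⟨z, hz⟩, hz1'⟩ := Subgroup.ne_bot_iff_exists_ne_one.1 hne
      have hz1 : z ≠ 1 := fun h => hz1' (Subtype.ext h)
      obtain ⟨hzU, hzC⟩ := mem_inf.1 hz
      have hzf : ∀ x ∈ P', x * z * x⁻¹ = z := fun x hx => by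
        rw [mem_centralizer_iff.1 hzC x hx]; group
      have hzu : z ≠ u := fun h => hyu (h ▸ hzf y hy)
      have hmove : ∀ x ∈ P', x * u * x⁻¹ ≠ u → x * u * x⁻¹ = u * z := by
        intro x hx hxu
        refine eq_mul hU4 hu hzU ((mem_normalizer_iff.1 (hUn hx) u).1 hu) hu1 hz1 hzu.symm
          (fun h => hu1 (conj_eq_one_iff.1 h)) hxu fun h => hzu ?_
        have := h.trans (hzf x hx).symm
        simpa using this.symm
      have hTmem : ∀ x, x ∈ T ↔ x ∈ P' ∧ x * u * x⁻¹ = u := by
        intro x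
        refine ⟨fun hx => ⟨hx.1, fix_of_normalizes hu2 hu1 hx.2⟩, fun hx => ⟨hx.1, ?_⟩⟩
        refine mem_normalizer_iff.2 fun t => ?_
        have hc : Commute x u := by
          show x * u = u * x
          conv_rhs => rw [← hx.2]
          group
        constructor
        · rintro ⟨k, rfl⟩; exact ⟨k, by simp [(hc.zpow_right k).eq]⟩
        · rintro ⟨k, hk⟩
          refine ⟨k, ?_⟩
          simp only at hk
          have : t = x⁻¹ * u ^ k * x := by rw [hk]; group
          rw [this, mul_assoc, ← (hc.zpow_right k).eq, inv_mul_cancel_left]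
      have hprod : ∀ a ∈ P', ∀ b ∈ P', a ∉ T → b ∉ T → a * b ∈ T := by
        intro a ha b hb haT hbT
        refine (hTmem _).2 ⟨mul_mem ha hb, ?_⟩
        have h1 := hmove a ha fun h => haT ((hTmem a).2 ⟨ha, h⟩)
        have h2 := hmove b hb fun h => hbT ((hTmem b).2 ⟨hb, h⟩)
        calc a * b * u * (a * b)⁻¹ = a * (b * u * b⁻¹) * a⁻¹ := by group
          _ = (a * u * a⁻¹) * (a * z * a⁻¹) := by rw [h2]; group
          _ = u := by rw [h1, hzf a ha, mul_assoc, sq_eq_one hU4 hzU, mul_one]
      have hyT : y ∉ T := fun h => hyu ((hTmem y).1 h).2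
      have hidx : (T.subgroupOf P').index = 2 := by
        rw [Subgroup.index_eq_two_iff]
        refine ⟨⟨y, hy⟩, fun b => ?_⟩
        rw [mem_subgroupOf, mem_subgroupOf]
        by_cases hb : (b : G) ∈ T
        · refine Or.inr ⟨hb, fun h => hyT ?_⟩
          simpa using mul_mem (inv_mem hb) h
        · exact Or.inl ⟨hprod _ b.2 _ hy hb hyT, hb⟩
      have hUT : U ≤ T := fun v hv => (hTmem v).2 ⟨hUP hv, by
        have hc : v * u = u * v := congrArg Subtype.val (hcomm.is_comm.comm ⟨v, hv⟩ ⟨u, hu⟩)
        rw [hc]; group⟩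
      have hTP : T ≤ P' := inf_le_left
      have hcyc : IsCyclic ↥(P' ⊓ centralizer (P' : Set G)) := by
        by_contra hnc
        have h := mem_centralizer_iff.1 (hUZ hnc hu) y hy
        exact hyu (by rw [h]; group)
      -- the involutions of the centre of `T`
      have hE : ∀ x ∈ T, (∀ t ∈ T, t * x = x * t) → x * x = 1 → x ∈ U := by
        intro x hxT hxc hx2
        have hinv : ∀ v ∈ T, (∀ t ∈ T, t * v = v * t) → v * v = 1 → y * v * y⁻¹ = v → v ∈ U := by
          intro v hvT hvc hv2 hyv
          have hvP : v ∈ P' ⊓ centralizer (P' : Set G) := ⟨hTP hvT, mem_centralizer_iff.2 fun t ht => by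
            by_cases htT : t ∈ T
            · exact hvc t htT
            · have h1 : y⁻¹ * t ∈ T := hprod _ (inv_mem hy) _ ht (fun h => hyT (by simpa using inv_mem h)) htT
              calc t * v = y * ((y⁻¹ * t) * v) := by group
                _ = y * (v * (y⁻¹ * t)) := by rw [hvc _ h1]
                _ = (y * v * y⁻¹) * t := by group
                _ = v * t := by rw [hyv]⟩
          by_contra hvU
          have hv1 : v ≠ 1 := fun h => hvU (h ▸ one_mem U)
          have hzP : z ∈ P' ⊓ centralizer (P' : Set G) := ⟨hUP hzU, hzC⟩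
          haveI := hcyc
          classical
          haveI := Fintype.ofFinite ↥(P' ⊓ centralizer (P' : Set G))
          have hle := IsCyclic.card_pow_eq_one_le (α := ↥(P' ⊓ centralizer (P' : Set G))) (n := 2) two_pos
          have hsub : ({1, ⟨z, hzP⟩, ⟨v, hvP⟩} : Finset ↥(P' ⊓ centralizer (P' : Set G))) ⊆
              Finset.univ.filter (fun a => a ^ 2 = 1) := by
            intro a ha
            simp only [Finset.mem_insert, Finset.mem_singleton] at ha
            simp only [Finset.mem_filter, Finset.mem_univ, true_and]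
            rcases ha with rfl | rfl | rfl
            · simp
            · exact Subtype.ext (by simpa [pow_two] using sq_eq_one hU4 hzU)
            · exact Subtype.ext (by simpa [pow_two] using hv2)
          have h3 : ({1, ⟨z, hzP⟩, ⟨v, hvP⟩} : Finset ↥(P' ⊓ centralizer (P' : Set G))).card = 3 := by
            refine Finset.card_eq_three.2 ⟨_, _, _, ?_, ?_, ?_, rfl⟩
            · exact fun h => hz1 (congrArg Subtype.val h).symm
            · exact fun h => hv1 (congrArg Subtype.val h).symm
            · exact fun h => hvU (by rw [← show z = v from congrArg Subtype.val h]; exact hzU)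
          have := (Finset.card_le_card hsub).trans hle
          omega
        have hyy : y * y ∈ T := hprod y hy y hy hyT hyT
        have hTn : ∀ t ∈ T, y * t * y⁻¹ ∈ T := by
          intro t ht
          by_contra h
          have h1 := hprod _ (mul_mem (mul_mem hy (hTP ht)) (inv_mem hy)) y hy h hyT
          rw [inv_mul_cancel_right] at h1
          exact hyT (by simpa using mul_mem h1 (inv_mem ht))
        have hTn' : ∀ t ∈ T, y⁻¹ * t * y ∈ T := by
          intro t ht
          have := mul_mem (mul_mem (inv_mem hyy) (hTn t ht)) hyy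
          simpa [mul_assoc] using this
        -- `x` times its conjugate is central in `P`
        set x' := y * x * y⁻¹ with hx'
        have hx'c : ∀ t ∈ T, t * x' = x' * t := by
          intro t ht
          calc t * x' = y * ((y⁻¹ * t * y) * x) * y⁻¹ := by rw [hx']; group
            _ = y * (x * (y⁻¹ * t * y)) * y⁻¹ := by rw [hxc _ (hTn' t ht)]
            _ = x' * t := by rw [hx']; group
        have hxx' : x * x' = x' * x := hx'c x hxT
        have hx'2 : x' * x' = 1 := by rw [hx', ← mul_assoc]; simp [mul_assoc]; rw [← mul_assoc x, hx2]; simp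
        have hyx' : y * x' * y⁻¹ = x := by
          calc y * x' * y⁻¹ = (y * y) * x * (y * y)⁻¹ := by rw [hx']; group
            _ = x := by rw [hxc _ hyy]; group
        have hmU : x * x' ∈ U := by
          refine hinv _ (mul_mem hxT (hTn x hxT)) (fun t ht => ?_) ?_ ?_
          · calc t * (x * x') = x * (t * x') := by rw [← mul_assoc t, hxc t ht, mul_assoc x]
              _ = (x * x') * t := by rw [hx'c t ht, mul_assoc x]
          · rw [mul_assoc, ← mul_assoc x', ← hxx', mul_assoc x, hx'2, mul_one, hx2]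
          · rw [show y * (x * x') * y⁻¹ = (y * x * y⁻¹) * (y * x' * y⁻¹) by group, hyx', ← hx', hxx']
        have hfix : y * (x * x') * y⁻¹ = x * x' := by
          rw [show y * (x * x') * y⁻¹ = (y * x * y⁻¹) * (y * x' * y⁻¹) by group, hyx', ← hx', hxx']
        by_cases h1 : x * x' = 1
        · refine hinv x hxT hxc hx2 ?_
          rw [← hx', ← mul_one x', ← hx2, ← mul_assoc, ← hxx', h1, one_mul]
        have hyz : y * u * y⁻¹ = u * z := hmove y hy hyu
        have hmz : x * x' = z := by
          by_contra h2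
          by_cases h3 : x * x' = u
          · rw [h3] at hfix; exact hyu hfix
          · have h4 := eq_mul hU4 hu hzU hmU hu1 hz1 hzu.symm h1 h3 h2
            rw [h4] at hfix
            apply hz1
            rw [show y * (u * z) * y⁻¹ = (y * u * y⁻¹) * (y * z * y⁻¹) by group, hyz, hzf y hy,
              mul_assoc] at hfix
            simpa using mul_left_cancel hfix
        -- then `x u` is fixed by `y`
        have hxu : x * u ∈ U := by
          have hxuc : x * u = u * x := (hxc u (hUT hu)).symm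
          refine hinv _ (mul_mem hxT (hUT hu)) (fun t ht => ?_) ?_ ?_
          · have hut : t * u = u * t := by
              conv_rhs => rw [← ((hTmem t).1 ht).2]
              group
            rw [← mul_assoc, hxc t ht, mul_assoc, hut, mul_assoc]
          · rw [mul_assoc, ← mul_assoc u, ← hxuc, mul_assoc x, hu2, mul_one, hx2]
          · rw [show y * (x * u) * y⁻¹ = (y * x * y⁻¹) * (y * u * y⁻¹) by group, hyz, ← hx', ← hmz]
            have a1 : ∀ k, x' * (x' * k) = k := fun k => by rw [← mul_assoc, hx'2, one_mul]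
            have a2 : ∀ k, u * (x * k) = x * (u * k) := fun k => by
              rw [← mul_assoc, hxc u (hUT hu), mul_assoc]
            have a3 : ∀ k, x' * (x * k) = x * (x' * k) := fun k => by
              rw [← mul_assoc, ← hxx', mul_assoc]
            rw [a2, a3, hx'c u (hUT hu), a1]
        simpa using mul_mem hxu (inv_mem hu)
      -- `T` is normal in `S`
      have hSc : ∀ s ∈ S, s * u * s⁻¹ = u := fun s hs => fix_of_normalizes hu2 hu1 (hS.1 hs)
      have hTS2 : T = S ∨ ((T.subgroupOf S).index = 2) := by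
        obtain ⟨R, hR⟩ := hS.2.1.exists_le_sylow
        have hc : Nat.card S ≤ Nat.card P' :=
          (card_le_of_le hR).trans (R.card_eq_multiplicity.trans P.card_eq_multiplicity.symm).le
        have e1 := (T.subgroupOf S).card_mul_index
        have e2 := (T.subgroupOf P').card_mul_index
        rw [Nat.card_congr (subgroupOfEquivOfLe hTS).toEquiv] at e1
        rw [Nat.card_congr (subgroupOfEquivOfLe hTP).toEquiv, hidx] at e2
        have h0 : 0 < Nat.card T := Nat.card_pos
        have e1' : Nat.card T * (T.subgroupOf S).index = Nat.card S := e1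
        have e2' : Nat.card T * 2 = Nat.card P' := e2
        clear e1 e2
        have hle : (T.subgroupOf S).index ≤ 2 := Nat.le_of_mul_le_mul_left (by linarith) h0
        rcases Nat.lt_or_ge (T.subgroupOf S).index 2 with h | h
        · left
          refine le_antisymm hTS ?_
          have : (T.subgroupOf S).index = 1 := by
            have := (T.subgroupOf S).index_ne_zero_of_finite
            omega
          exact subgroupOf_eq_top.1 (index_eq_one.1 this)
        · right; omega
      intro s hs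
      refine CfsgLib.PLocal.conjMap_eq_self_iff.1 ?_
      refine Subgroup.eq_of_le_of_card_ge ?_ (CfsgLib.PLocal.card_conjMap _ _).ge
      rcases hTS2 with hTS2 | hTS2
      · have hsT := (hTmem s).1 (hTS2 ▸ hs)
        rintro _ ⟨v, hv, rfl⟩
        exact (mem_normalizer_iff.1 (hUn hsT.1) v).1 hv
      · have hn := Subgroup.normal_of_index_eq_two hTS2
        have hsT : ∀ t ∈ T, s * t * s⁻¹ ∈ T := fun t ht =>
          hn.conj_mem (⟨t, hTS ht⟩ : S) ht ⟨s, hs⟩
        have hsT' : ∀ t ∈ T, s⁻¹ * t * s ∈ T := fun t ht => by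
          have := mem_subgroupOf.1 (hn.conj_mem (⟨t, hTS ht⟩ : S) ht (⟨s, hs⟩⁻¹ : S))
          simp only [inv_inv, Subgroup.coe_mul, Subgroup.coe_inv] at this
          exact this
        rintro _ ⟨v, hv, rfl⟩
        show s * v * s⁻¹ ∈ U
        refine hE _ (hsT v (hUT hv)) (fun t ht => ?_) ?_
        · have hcv : (s⁻¹ * t * s) * v = v * (s⁻¹ * t * s) := by
            have ht' := (hTmem _).1 (hsT' t ht)
            by_cases hv1 : v = 1
            · simp [hv1]
            by_cases hvu : v = u
            · subst hvu; conv_rhs => rw [← ht'.2]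
              group
            by_cases hvz : v = z
            · subst hvz; conv_rhs => rw [← hzf _ ht'.1]
              group
            have h4 := eq_mul hU4 hu hzU hv hu1 hz1 hzu.symm hv1 hvu hvz
            subst h4
            conv_rhs => rw [← ht'.2, ← hzf _ ht'.1]
            group
          calc t * (s * v * s⁻¹) = s * ((s⁻¹ * t * s) * v) * s⁻¹ := by group
            _ = s * (v * (s⁻¹ * t * s)) * s⁻¹ := by rw [hcv]
            _ = (s * v * s⁻¹) * t := by group
        · calc s * v * s⁻¹ * (s * v * s⁻¹) = s * (v * v) * s⁻¹ := by group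
            _ = 1 := by rw [sq_eq_one hU4 hv]; group
  -- coprime generation
  have hnc : ¬ IsCyclic U := IsKleinFour.not_isCyclic
  have hcop : (Nat.card U).Coprime (Nat.card K) := by
    rw [hU4.card_four, show (4 : ℕ) = 2 ^ 2 from rfl, Nat.coprime_pow_left_iff two_pos,
      Nat.coprime_two_left]
    exact hK
  rw [Subgroup.le_centralizer_iff]
  rw [← CfsgLib.Coprime.iSup_centralizer_eq hcomm hnc hUK hcop]
  refine iSup_le fun ⟨u, hu, hu1⟩ => ?_
  intro k hk
  obtain ⟨hkK, hku⟩ := mem_inf.1 hk
  refine mem_centralizer_iff.2 fun w hw => ?_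
  have hu2 := sq_eq_one hU4 hu
  have h2u : IsPGroup 2 (zpowers u) := (P.2.to_le hUP).to_le (zpowers_le.2 hu)
  have hch := h2.2 (zpowers u) h2u (zpowers_ne_bot.2 hu1)
  obtain ⟨w', hw', hww⟩ := mem_core hU4 hu hu1 hch (hnorm u hu hu1) hw
  have hkH : k ∈ normalizer (zpowers u : Set G) := by
    refine centralizer_le_normalizer _ (mem_centralizer_iff.2 fun a ha => ?_)
    rcases mem_zpowers_invol hu2 ha with rfl | rfl
    · simp
    · exact mem_centralizer_iff.1 hku a rfl
  have hc : w' * ⟨k, hkH⟩ * w'⁻¹ * ⟨k, hkH⟩⁻¹ ∈ Cfsg.pCore 2 ↥(normalizer (zpowers u : Set G)) := by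
      have hn : (Cfsg.pCore 2 ↥(normalizer (zpowers u : Set G))).Normal := CfsgLib.Amalgam.normal_pCore
      have := mul_mem hw' (hn.conj_mem _ (inv_mem hw') ⟨k, hkH⟩)
      simp only [mul_assoc] at this ⊢
      exact this
  have hcG : w * k * w⁻¹ * k⁻¹ ∈ (Cfsg.pCore 2 ↥(normalizer (zpowers u : Set G))).map (normalizer (zpowers u : Set G)).subtype := by
    refine ⟨_, hc, ?_⟩
    rw [← hww]
    simp
  have hcK : w * k * w⁻¹ * k⁻¹ ∈ K :=
    mul_mem ((mem_normalizer_iff.1 (hUK hw) k).1 hkK) (inv_mem hkK)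
  have h1 : w * k * w⁻¹ * k⁻¹ = 1 := by
    obtain ⟨j, hj⟩ := (CfsgLib.Amalgam.isPGroup_pCore (p := 2) (G := ↥(normalizer (zpowers u : Set G)))).map (normalizer (zpowers u : Set G)).subtype ⟨_, hcG⟩
    have hord2 : orderOf (w * k * w⁻¹ * k⁻¹) ∣ 2 ^ j :=
      orderOf_dvd_of_pow_eq_one (congrArg Subtype.val hj)
    have hord3 : orderOf (w * k * w⁻¹ * k⁻¹) ∣ Nat.card K := Subgroup.orderOf_dvd_natCard K hcK
    exact orderOf_eq_one_iff.1 (Nat.eq_one_of_dvd_coprimes
      (Nat.Coprime.pow_left j (Nat.coprime_two_left.2 hK)) hord2 hord3)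
  calc w * k = (w * k * w⁻¹ * k⁻¹) * (k * w) := by group
    _ = k * w := by rw [h1, one_mul]

end Cfsg.Agent.S1957
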