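import Cfsg.Statements.S1960
import Cfsg.Agent.Lib.PLocal.ControlTransfer

set_option autoImplicit false
open Cfsg
open scoped commutatorElement

namespace Cfsg.Agent.S1960

/-- Let p be a prime, G a finite group with Sylow p-subgroup S, and 𝓦 a set of conjugacy functors for p on G. Suppose that 𝓦 controls transfer in N_G(T) for every nonidentity subgroup T of S for which N_S(T) is a Sylow p-subgroup of N_G(T): for a Sylow p-subgroup T' of N_G(T), the intersection of T' with the derived subgroup of N_G(T) is generated by its intersections with the derived subgroups of the normalizers in N_G(T) of the W(T'), W ∈ 𝓦. Then 𝓦 controls transfer in G: S ∩ G' is generated by the subgroups S ∩ (N_G(W(S)))', W ∈ 𝓦. -/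
theorem result {G : Type*} [Group G] [Finite G] {p : ℕ} [Fact p.Prime] (S : Sylow p G) (𝓦 : Set (Subgroup G → Subgroup G)) (h𝓦 : ∀ W ∈ 𝓦, Cfsg.IsConjugacyFunctor p W) (hloc : ∀ T : Subgroup G, T ≤ (S : Subgroup G) → T ≠ ⊥ → ¬ p ∣ ((S : Subgroup G) ⊓ Subgroup.normalizer ((T : Subgroup G) : Set G)).relIndex (Subgroup.normalizer ((T : Subgroup G) : Set G)) → Cfsg.FamilyControlsTransferIn p 𝓦 (Subgroup.normalizer ((T : Subgroup G) : Set G))) : Cfsg.FamilyControlsTransferIn p 𝓦 ⊤ := by
  refine CfsgLib.PLocal.familyTransfer_top S 𝓦 h𝓦 {U | U ≤ (S : Subgroup G) ∧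
    ¬ p ∣ ((S : Subgroup G) ⊓ Subgroup.normalizer (U : Set G)).relIndex (Subgroup.normalizer (U : Set G))}
    (fun U hU => hU) (fun T hT => ?_) (fun U hU hne => hloc U hU.1 hne hU.2)
  obtain ⟨R, hR, hle⟩ := CfsgLib.PLocal.exists_sylowIn_le
    (S.2.to_le (inf_le_left : (S : Subgroup G) ⊓ Subgroup.normalizer (T : Set G) ≤ _)) inf_le_right
  obtain ⟨x, -, hx⟩ := (CfsgLib.PLocal.sylowIn_top S).exists_conj_le hR.2.1 le_top
  have hU : CfsgLib.PLocal.conjMap x T ≤ (S : Subgroup G) :=
    (CfsgLib.PLocal.conjMap_mono ((le_inf hT Subgroup.le_normalizer).trans hle)).trans hx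
  have hs := hR.conj x
  rw [CfsgLib.PLocal.conjMap_normalizer] at hs
  have := (CfsgLib.PLocal.SylowIn.of_card_le hs (S.2.to_le inf_le_left) inf_le_right
    (Subgroup.card_le_of_le (le_inf hx hs.1))).2.2
  exact ⟨_, ⟨hU, this⟩, ⟨x, rfl⟩, this⟩

end Cfsg.Agent.S1960
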