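import Cfsg.Statements.S1962
import Cfsg.Agent.Lib.PLocal.ControlTransfer
import Cfsg.Agent.Lib.PLocal.WellPlaced

set_option autoImplicit false
open Cfsg
open scoped commutatorElement

namespace Cfsg.Agent.S1962

theorem transfer_iff {G : Type*} [Group G] (p : ℕ) (W : Subgroup G → Subgroup G) (H : Subgroup G) :
    Cfsg.ControlsTransferIn p W H ↔ Cfsg.FamilyControlsTransferIn p {W} H := by
  unfold Cfsg.ControlsTransferIn Cfsg.FamilyControlsTransferIn
  simp only [Set.mem_singleton_iff, iSup_iSup_eq_left]

/-- Local-to-global control of transfer through well-placed subgroups. Let p be a prime, G a finite group with Sylow p-subgroup S, and W a conjugacy functor for p on G. If W controls transfer in N_G(T) for every nonidentity subgroup T of S that is well placed in S with respect to W, then W controls transfer in G: S ∩ G' = S ∩ (N_G(W(S)))'. -/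
theorem result {G : Type*} [Group G] [Finite G] {p : ℕ} [Fact p.Prime] (S : Sylow p G) (W : Subgroup G → Subgroup G) (hW : Cfsg.IsConjugacyFunctor p W) (hloc : ∀ T : Subgroup G, T ≠ ⊥ → Cfsg.IsWellPlaced p W (S : Subgroup G) T → Cfsg.ControlsTransferIn p W (Subgroup.normalizer ((T : Subgroup G) : Set G))) : Cfsg.ControlsTransferIn p W ⊤ := by
  rw [transfer_iff]
  refine CfsgLib.PLocal.familyTransfer_top S {W} (fun V hV => by obtain rfl := hV; exact hW)
    {U | Cfsg.IsWellPlaced p W (S : Subgroup G) U} (fun U hU => ⟨hU.1, hU.2 0⟩)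
    (CfsgLib.PLocal.wellPlaced_good S hW) (fun U hU hne => ?_)
  rw [← transfer_iff]
  exact hloc U hne hU

end Cfsg.Agent.S1962
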