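import Cfsg.Statements.S1966
import Cfsg.Agent.Lib.Solvable.PCore

set_option autoImplicit false
open Cfsg
open scoped commutatorElement

namespace Cfsg.Agent.S1966

/-- Let p be a prime, G a finite group with Sylow p-subgroup S and 𝓕 a conjugation family for S in G. Then the members of 𝓕 containing O_p(G) still form a conjugation family for S in G. -/
theorem result {G : Type*} [Group G] [Finite G] {p : ℕ} [Fact p.Prime] (S : Sylow p G) (𝓕 : Set (Subgroup G)) (h : Cfsg.IsConjugationFamily 𝓕 (S : Subgroup G)) : Cfsg.IsConjugationFamily {T : Subgroup G | T ∈ 𝓕 ∧ Cfsg.pCore p G ≤ T} (S : Subgroup G) := by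
  haveI := CfsgLib.Solvable.pCore_normal p G
  set K := Cfsg.pCore p G
  have hKS : K ≤ (S : Subgroup G) := CfsgLib.Solvable.pCore_le_sylow S
  refine ⟨fun T hT => h.1 T hT.1, fun A g hA hAS hAg => ?_⟩
  obtain ⟨n, T, x, hprod, hT, hx, h0, hs⟩ := h.2 (A ∪ (K : Set G)) g (hA.mono Set.subset_union_left)
    (Set.union_subset hAS hKS) (by
      rintro _ ⟨a, ha | ha, rfl⟩
      · exact hAg ⟨a, ha, rfl⟩
      · exact hKS (by simpa using Subgroup.Normal.conj_mem inferInstance a ha g⁻¹))
  refine ⟨n, T, x, hprod, fun i => ⟨hT i, ?_⟩, hx,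
    fun h' => Set.subset_union_left.trans (h0 h'), fun i hi => (Set.image_mono Set.subset_union_left).trans (hs i hi)⟩
  intro k hk
  obtain ⟨i, hi⟩ := i
  rcases Nat.eq_zero_or_pos i with h' | h'
  · subst h'
    exact h0 hi (Or.inr hk)
  · obtain ⟨j, rfl⟩ : ∃ j, i = j + 1 := ⟨i - 1, by omega⟩
    refine hs ⟨j, by omega⟩ hi ⟨((List.ofFn x).take (j + 1)).prod * k * (((List.ofFn x).take (j + 1)).prod)⁻¹,
      Or.inr (Subgroup.Normal.conj_mem inferInstance k hk _), ?_⟩
    group

end Cfsg.Agent.S1966
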