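import Cfsg.Statements.S1967
import Cfsg.Agent.Lib.PLocal.Control

set_option autoImplicit false
open Cfsg
open scoped commutatorElement

namespace Cfsg.Agent.S1967

/-- Let p be a prime, G a finite group with Sylow p-subgroup S and W a conjugacy functor for p on G. Then W controls strong fusion in G if and only if, whenever T ≤ S and g ∈ G satisfy gTg⁻¹ ≤ S, one can write g = n c with n ∈ N_G(W(S)) and c ∈ C_G(T). -/
theorem result {G : Type*} [Group G] [Finite G] {p : ℕ} [Fact p.Prime] (S : Sylow p G) (W : Subgroup G → Subgroup G) (hW : Cfsg.IsConjugacyFunctor p W) : Cfsg.ControlsStrongFusionIn p W ⊤ ↔ ∀ (T : Subgroup G) (g : G), T ≤ (S : Subgroup G) → T.map (MulAut.conj g).toMonoidHom ≤ (S : Subgroup G) → ∃ n ∈ Subgroup.normalizer ((W (S : Subgroup G) : Subgroup G) : Set G), ∃ c ∈ Subgroup.centralizer (T : Set G), g = n * c := by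
  rw [CfsgLib.PLocal.controls_iff_family]
  constructor
  · intro hc T g hT hTg
    have h := CfsgLib.PLocal.familyControls_at (by rintro V rfl; exact hW) hc
      (CfsgLib.PLocal.sylowIn_top S) (T : Set G) g (Subgroup.mem_top g) hT (by
        rintro _ ⟨a, ha, rfl⟩
        exact hTg ⟨a, ha, rfl⟩)
    obtain ⟨x, hx, he⟩ := (h.map_mono
      (Q := fun x => x ∈ Subgroup.normalizer ((W (S : Subgroup G) : Subgroup G) : Set G))
      (by rintro z ⟨V, rfl, hz⟩; exact hz.2)).exists_single
    refine ⟨x, hx, x⁻¹ * g, Subgroup.mem_centralizer_iff.2 fun a ha => ?_, by group⟩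
    calc a * (x⁻¹ * g) = x⁻¹ * (x * a * x⁻¹) * g := by group
      _ = x⁻¹ * (g * a * g⁻¹) * g := by rw [he a ha]
      _ = x⁻¹ * g * a := by group
  · intro h
    refine CfsgLib.PLocal.familyControls_iff.2 ⟨S, CfsgLib.PLocal.sylowIn_top S, fun A g _ hA hAg => ?_⟩
    obtain ⟨n, hn, c, hc, rfl⟩ := h (Subgroup.closure A) g ((Subgroup.closure_le _).2 hA) (by
      rw [MonoidHom.map_closure, Subgroup.closure_le]
      rintro _ ⟨a, ha, rfl⟩
      exact hAg ⟨a, ha, rfl⟩)
    have he : ∀ a ∈ A, n * c * a * (n * c)⁻¹ = n * a * n⁻¹ := fun a ha => by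
      calc n * c * a * (n * c)⁻¹ = n * (c * a) * c⁻¹ * n⁻¹ := by group
        _ = n * (a * c) * c⁻¹ * n⁻¹ := by
            rw [Subgroup.mem_centralizer_iff.1 hc a (Subgroup.subset_closure ha)]
        _ = _ := by group
    refine (CfsgLib.PLocal.FusRel.single (P := CfsgLib.PLocal.FamStep {W} ⊤ (S : Subgroup G))
      hA ⟨W, rfl, Subgroup.mem_top n, hn⟩ ?_).congr he
    rw [← CfsgLib.PLocal.lconj_congr he]
    exact hAg

end Cfsg.Agent.S1967
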