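import Cfsg.Statements.S1968
import Cfsg.Agent.Lib.PLocal.WellPlaced

set_option autoImplicit false
open Cfsg
open scoped commutatorElement

namespace Cfsg.Agent.S1968

theorem tower_shift {G : Type*} [Group G] (W : Subgroup G → Subgroup G) (S T : Subgroup G) (i : ℕ) :
    ∀ j, Cfsg.functorTower W S (Cfsg.functorTower W S T i) j = Cfsg.functorTower W S T (i + j)
  | 0 => rfl
  | j + 1 => by
    show W _ = W _
    rw [tower_shift W S T i j]; rfl

theorem first_move {G : Type*} [Group G] {𝓕 : Set (Subgroup G)} {A : Subgroup G} {B : Set G} {g : G}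
    (hr : CfsgLib.PLocal.RChain 𝓕 B g) (hB : B = (A : Set G))
    (hg : CfsgLib.PLocal.rconj g B ≠ B) :
    ∃ T ∈ 𝓕, A ≤ T ∧ ∃ y ∈ Subgroup.normalizer (T : Set G), y ∉ Subgroup.normalizer (A : Set G) := by
  induction hr with
  | nil B => exact absurd (CfsgLib.PLocal.rconj_one B) hg
  | @step B T y g hT hy hsub _ ih =>
    subst hB
    by_cases hyA : y ∈ Subgroup.normalizer (A : Set G)
    · have e : CfsgLib.PLocal.rconj y (A : Set G) = (A : Set G) := by
        ext z
        constructor
        · rintro ⟨a, ha, rfl⟩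
          exact (Subgroup.mem_normalizer_iff''.1 hyA a).1 ha
        · intro hz
          exact ⟨y * z * y⁻¹, (Subgroup.mem_normalizer_iff.1 hyA z).1 hz, by group⟩
      refine ih e ?_
      rw [CfsgLib.PLocal.rconj_rconj, e]
      exact hg
    · exact ⟨T, hT, hsub, y, hy, hyA⟩

/-- Let p be a prime, G a finite group with Sylow p-subgroup S and W a conjugacy functor for p on G with Z(P) ≤ W(P) for every p-subgroup P. Let A be a subgroup of Z(S) normalized by N_G(W(S)) that is not weakly closed in S with respect to G. Then there is a subgroup T of S, well placed in S with respect to W, such that: A ≤ T; N_G(W(N_S(T))) normalizes A; N_S(T) is a Sylow p-subgroup of N_G(T); A ≤ Z(N_S(T)); and A is not weakly closed in N_S(T) with respect to N_G(T), that is, some N_G(T)-conjugate of A other than A lies in N_S(T). -/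
theorem result {G : Type*} [Group G] [Finite G] {p : ℕ} [Fact p.Prime] (S : Sylow p G) (W : Subgroup G → Subgroup G) (hW : Cfsg.IsConjugacyFunctor p W) (hWZ : ∀ P : Subgroup G, IsPGroup p ↥P → P ⊓ Subgroup.centralizer (P : Set G) ≤ W P) (A : Subgroup G) (hAZ : A ≤ (S : Subgroup G) ⊓ Subgroup.centralizer ((S : Subgroup G) : Set G)) (hAN : Subgroup.normalizer ((W (S : Subgroup G) : Subgroup G) : Set G) ≤ Subgroup.normalizer ((A : Subgroup G) : Set G)) (hnwc : ¬ Cfsg.IsWeaklyClosed A (S : Subgroup G)) : ∃ T : Subgroup G, Cfsg.IsWellPlaced p W (S : Subgroup G) T ∧ A ≤ T ∧ Subgroup.normalizer ((W ((S : Subgroup G) ⊓ Subgroup.normalizer ((T : Subgroup G) : Set G)) : Subgroup G) : Set G) ≤ Subgroup.normalizer ((A : Subgroup G) : Set G) ∧ ¬ p ∣ ((S : Subgroup G) ⊓ Subgroup.normalizer ((T : Subgroup G) : Set G)).relIndex (Subgroup.normalizer ((T : Subgroup G) : Set G)) ∧ A ≤ Subgroup.centralizer (((S : Subgroup G) ⊓ Subgroup.normalizer ((T : Subgroup G) : Set G) : Subgroup G) : Set G) ∧ ∃ g ∈ Subgroup.normalizer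 ((T : Subgroup G) : Set G), A.map (MulAut.conj g).toMonoidHom ≤ (S : Subgroup G) ⊓ Subgroup.normalizer ((T : Subgroup G) : Set G) ∧ A.map (MulAut.conj g).toMonoidHom ≠ A := by
  set S' : Subgroup G := (S : Subgroup G) with hS'
  obtain ⟨hAS, hAC⟩ := le_inf_iff.1 hAZ
  obtain ⟨x, hxS, hxA⟩ : ∃ x : G, CfsgLib.PLocal.conjMap x A ≤ S' ∧ CfsgLib.PLocal.conjMap x A ≠ A := by
    by_contra h
    push Not at h
    exact hnwc ⟨hAS, fun g hg => h g hg⟩
  have hch := CfsgLib.PLocal.rchain_of_exists_good S
    (𝓕 := {T : Subgroup G | Cfsg.IsWellPlaced p W S' T}) (fun T hT => hT.1)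
    (CfsgLib.PLocal.wellPlaced_good S hW) (A : Set G) x⁻¹ hAS (by
      rintro _ ⟨a, ha, rfl⟩
      show _ ∈ S'
      simpa using hxS (CfsgLib.PLocal.conj_mem_conjMap ha))
  obtain ⟨T₀, hT₀, hAT₀, y₀, hy₀, hy₀A⟩ := first_move hch rfl (by
    intro h
    apply hxA
    rw [CfsgLib.PLocal.conjMap_eq_self_iff, Subgroup.mem_normalizer_iff]
    intro a
    constructor
    · intro ha
      have : x * a * x⁻¹ ∈ CfsgLib.PLocal.rconj x⁻¹ (A : Set G) := ⟨a, ha, by group⟩
      rwa [h] at this
    · intro ha
      have ha' : x * a * x⁻¹ ∈ CfsgLib.PLocal.rconj x⁻¹ (A : Set G) := by rw [h]; exact ha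
      obtain ⟨b, hb, hbe⟩ := ha'
      have : b = a := by
        have := congrArg (fun z => x⁻¹ * z * x) hbe
        simpa [mul_assoc] using this
      exact this ▸ hb)
  set tw := Cfsg.functorTower W S' T₀ with htw
  set R : ℕ → Subgroup G := fun i => S' ⊓ Subgroup.normalizer ((tw i : Subgroup G) : Set G) with hR
  have hRp : ∀ i, IsPGroup p (R i) := fun i => S.2.to_le inf_le_left
  have hAtw : ∀ i, A ≤ tw i := by
    intro i
    induction i with
    | zero => exact hAT₀
    | succ i ih =>
      refine le_trans (le_inf (le_inf hAS (ih.trans Subgroup.le_normalizer)) ?_) (hWZ (R i) (hRp i))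
      exact hAC.trans (Subgroup.centralizer_le (SetLike.coe_subset_coe.2 inf_le_left))
  have hgrow : ∀ i, R i < S' → Nat.card (R i) < Nat.card (R (i + 1)) := by
    intro i hi
    refine lt_of_lt_of_le (CfsgLib.PLocal.card_lt_card_inf_normalizer S.2 hi) (Subgroup.card_le_of_le ?_)
    exact inf_le_inf_left _ (CfsgLib.PLocal.normalizer_le_normalizer_functor hW (hRp i))
  have hcard : ∀ i, R i = S' ∨ i ≤ Nat.card (R i) := by
    intro i
    induction i with
    | zero => exact Or.inr (Nat.zero_le _)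
    | succ i ih =>
      by_cases hi : R i = S'
      · left
        refine le_antisymm inf_le_left (le_inf le_rfl ?_)
        show S' ≤ Subgroup.normalizer ((W (R i) : Subgroup G) : Set G)
        rw [hi]
        exact CfsgLib.PLocal.le_normalizer_functor hW S.2
      · refine Or.inr ?_
        have := hgrow i (lt_of_le_of_ne inf_le_left hi)
        have := ih.resolve_left hi
        omega
  set m := Nat.card S' + 1 with hm
  have hRm : R m = S' := (hcard m).resolve_right (by
    have : Nat.card (R m) ≤ Nat.card S' := Subgroup.card_le_of_le inf_le_left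
    omega)
  have hex : ∃ i, Subgroup.normalizer ((W (R i) : Subgroup G) : Set G) ≤ Subgroup.normalizer (A : Set G) :=
    ⟨m, by rw [hRm]; exact hAN⟩
  classical
  set i := Nat.find hex with hi
  have hN : Subgroup.normalizer ((W (R i) : Subgroup G) : Set G) ≤ Subgroup.normalizer (A : Set G) :=
    Nat.find_spec hex
  obtain ⟨y, hy, hyA⟩ : ∃ y ∈ Subgroup.normalizer ((tw i : Subgroup G) : Set G),
      y ∉ Subgroup.normalizer (A : Set G) := by
    rcases Nat.eq_zero_or_pos i with h0 | h0
    · rw [h0]; exact ⟨y₀, hy₀, hy₀A⟩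
    · obtain ⟨j, hj⟩ : ∃ j, i = j + 1 := ⟨i - 1, by omega⟩
      have := Nat.find_min hex (show j < i by omega)
      rw [hj]
      exact SetLike.not_le_iff_exists.1 this
  have hRA : A ≤ Subgroup.centralizer ((R i : Subgroup G) : Set G) :=
    hAC.trans (Subgroup.centralizer_le (SetLike.coe_subset_coe.2 inf_le_left))
  refine ⟨tw i, ⟨?_, fun j => ?_⟩, hAtw i, hN, hT₀.2 i, hRA, y, hy, ?_, ?_⟩
  · cases hh : i with
    | zero => exact hT₀.1
    | succ j => exact (CfsgLib.PLocal.functor_le hW (hRp j)).trans inf_le_left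
  · rw [tower_shift]; exact hT₀.2 (i + j)
  · refine (CfsgLib.PLocal.conjMap_mono (hAtw i)).trans ?_
    rw [CfsgLib.PLocal.conjMap_eq_self_iff.2 hy]
    refine le_inf ?_ Subgroup.le_normalizer
    cases hh : i with
    | zero => exact hT₀.1
    | succ j => exact (CfsgLib.PLocal.functor_le hW (hRp j)).trans inf_le_left
  · exact fun h => hyA (CfsgLib.PLocal.conjMap_eq_self_iff.1 h)

end Cfsg.Agent.S1968
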