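import Cfsg.Statements.S1969
import Cfsg.Agent.Lib.PLocal.StrongReduce

set_option autoImplicit false
universe u
open Cfsg
open scoped commutatorElement

namespace Cfsg.Agent.S1969

/-- Let p be a prime, G a finite group and W an isomorphism-invariant p-group functor (W assigns to every group Q a subgroup W(Q), nontrivial whenever Q is a nontrivial finite p-group, and every isomorphism from a finite p-group Q onto a group R carries W(Q) onto W(R)). Suppose that W(S*) is normal in G* whenever G* = K/R is a section of G with C_{G*}(O_p(G*)) ≤ O_p(G*) and S* is a Sylow p-subgroup of G*. Then W controls strong fusion in every section of G: for every section K/R and every Sylow p-subgroup T of K/R, the subgroup W(T) controls strong fusion in K/R. -/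
theorem result {G : Type u} [Group G] [Finite G] {p : ℕ} [Fact p.Prime] (W : ∀ (Q : Type u) [Group Q], Subgroup Q) (hW : Cfsg.IsCharPFunctor.{u} p W) (hloc : ∀ (K R : Subgroup G) [hR : (R.subgroupOf K).Normal], Subgroup.centralizer ((Cfsg.pCore p (↥K ⧸ R.subgroupOf K) : Subgroup (↥K ⧸ R.subgroupOf K)) : Set (↥K ⧸ R.subgroupOf K)) ≤ Cfsg.pCore p (↥K ⧸ R.subgroupOf K) → ∀ T : Sylow p (↥K ⧸ R.subgroupOf K), (Cfsg.inducedFunctor (G := (↥K ⧸ R.subgroupOf K)) W ((T : Subgroup (↥K ⧸ R.subgroupOf K)))).Normal) : ∀ (K R : Subgroup G) [hR : (R.subgroupOf K).Normal], ∀ T : Sylow p (↥K ⧸ R.subgroupOf K), Cfsg.ControlsStrongFusion p (Cfsg.inducedFunctor (G := (↥K ⧸ R.subgroupOf K)) W ((T : Subgroup (↥K ⧸ R.subgroupOf K)))) := by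
  classical
  have h𝓦 : ∀ V ∈ ({W} : Set (∀ (Q : Type u) [Group Q], Subgroup Q)), Cfsg.IsCharPFunctor.{u} p V := by
    rintro V rfl; exact hW
  intro K R hR T
  have hctrl : CfsgLib.PLocal.Ctrl p {W} (↥K ⧸ R.subgroupOf K) := by
    refine CfsgLib.PLocal.ctrl_of_constrained h𝓦 _ fun X _ _ hX hc => ?_
    have hX' : CfsgLib.PLocal.IsSec X G := hX.of_quotient.of_subgroup
    obtain ⟨K', R', hR', ⟨e⟩⟩ := hX'.exists_quotient
    refine CfsgLib.PLocal.ctrl_equiv h𝓦 e ?_
    obtain ⟨T'⟩ : Nonempty (Sylow p (↥K' ⧸ R'.subgroupOf K')) := inferInstance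
    have hn := @hloc K' R' hR' (CfsgLib.PLocal.constrained_equiv e.symm hc) T'
    refine CfsgLib.PLocal.familyControls_iff.2 ⟨_, CfsgLib.PLocal.sylowIn_top T', fun A g _ hA hAg => ?_⟩
    refine CfsgLib.PLocal.FusRel.single hA ⟨_, ⟨W, rfl, rfl⟩, Subgroup.mem_top g, ?_⟩ hAg
    haveI := hn
    rw [Subgroup.normalizer_eq_top]
    trivial
  refine ⟨T, Subgroup.map_subtype_le _, fun A hA => ⟨hA, fun g hAg => ?_⟩⟩
  have hr := CfsgLib.PLocal.familyControls_at (CfsgLib.PLocal.indSet_functor h𝓦) hctrl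
    (CfsgLib.PLocal.sylowIn_top T) A g (Subgroup.mem_top g) hA hAg
  have h1 := (hr.map_mono (Q := fun x => x ∈ Subgroup.normalizer
    ((Cfsg.inducedFunctor (G := (↥K ⧸ R.subgroupOf K)) W (T : Subgroup (↥K ⧸ R.subgroupOf K)) :
      Subgroup (↥K ⧸ R.subgroupOf K)) : Set (↥K ⧸ R.subgroupOf K))) ?_).exists_single
  · obtain ⟨x, hx, he⟩ := h1
    exact ⟨x, hx, fun a ha => (he a ha).symm⟩
  · rintro x ⟨_, ⟨V, rfl, rfl⟩, -, hx⟩
    exact hx

end Cfsg.Agent.S1969
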