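import Cfsg.Statements.S1971
import Cfsg.Agent.Lib.PLocal.TransferReduce
import Cfsg.Agent.Lib.PLocal.IndexP

set_option autoImplicit false
universe u
open Cfsg
open scoped commutatorElement

namespace Cfsg.Agent.S1971

/-- Let p be a prime, G a finite group with nontrivial Sylow p-subgroup S, and W an isomorphism-invariant p-group functor (W assigns to every group Q a subgroup W(Q), nontrivial whenever Q is a nontrivial finite p-group, and every isomorphism from a finite p-group Q onto a group R carries W(Q) onto W(R)) that controls transfer in every section of G. If N_G(S)/C_G(S) is a p-group (every element of N_G(S) of order prime to p centralizes S), then G has a normal subgroup of index p. -/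
theorem result {G : Type u} [Group G] [Finite G] {p : ℕ} [Fact p.Prime] (W : ∀ (Q : Type u) [Group Q], Subgroup Q) (hW : Cfsg.IsCharPFunctor.{u} p W) (hctl : ∀ (K R : Subgroup G) [hR : (R.subgroupOf K).Normal], Cfsg.ControlsTransferIn p (Cfsg.inducedFunctor (G := (↥K ⧸ R.subgroupOf K)) W) ⊤) (S : Sylow p G) (hS : (S : Subgroup G) ≠ ⊥) (hN : ∀ g ∈ Subgroup.normalizer (((S : Subgroup G) : Subgroup G) : Set G), (orderOf g).Coprime p → g ∈ Subgroup.centralizer ((S : Subgroup G) : Set G)) : ∃ N : Subgroup G, N.Normal ∧ N.index = p := by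
  open CfsgLib.PLocal Subgroup in
  · have h𝓦 : ∀ W' ∈ ({W} : Set _), Cfsg.IsCharPFunctor.{u} p W' := by
      rintro W' rfl; exact hW
    suffices H : ∀ (n : ℕ) (X : Type u) [Group X] [Finite X], Nat.card X = n → IsSec X G →
        ∀ S : Sylow p X, (S : Subgroup X) ≠ ⊥ →
        (∀ g ∈ normalizer ((S : Subgroup X) : Set X), (orderOf g).Coprime p →
          g ∈ centralizer ((S : Subgroup X) : Set X)) →
        (S : Subgroup X) ⊓ commutator X ≠ (S : Subgroup X) from
      exists_normal_index_of_inf_ne S (H _ G rfl (isSec_self G) S hS hN)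
    intro n
    induction n using Nat.strong_induction_on with
    | _ n ih =>
      intro X _ _ hn hX S hS hN heq
      obtain ⟨K, R, hR, ⟨e⟩⟩ := hX.exists_quotient
      have hc : CtrlT p {W} X := ctrlT_equiv h𝓦 e ((controlsTransferIn_iff W).1 (hctl K R))
      have h1 := (ctrlT_iff h𝓦 S).1 hc
      rw [heq] at h1
      simp only [transferJoin, Set.mem_singleton_iff, iSup_iSup_eq_left] at h1
      set U := Cfsg.inducedFunctor (G := X) W (S : Subgroup X) with hU
      have hf := induced_isConjugacyFunctor (G := X) hW
      have hUS : U ≤ (S : Subgroup X) := functor_le hf S.2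
      have hUne : U ≠ ⊥ := functor_ne_bot hf S.2 hS
      by_cases hUeq : U = (S : Subgroup X)
      · rw [hUeq] at h1
        exact (commutator_lt_of_isPGroup S.2 hS).not_ge (h1.trans (inf_commutator_normalizer_le S hN))
      set N₁ := normalizer (U : Set X) with hN₁
      have hSN₁ : (S : Subgroup X) ≤ N₁ := le_normalizer_functor hf S.2
      let SN : Sylow p N₁ := S.subtype hSN₁
      haveI : (U.subgroupOf N₁).Normal := normal_in_normalizer
      set π := QuotientGroup.mk' (U.subgroupOf N₁) with hπ
      have hπs : Function.Surjective π := QuotientGroup.mk'_surjective _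
      have hker : π.ker = U.subgroupOf N₁ := QuotientGroup.ker_mk' _
      have hpre : ((SN : Subgroup N₁).map π).comap π = (SN : Subgroup N₁) := by
        rw [comap_map_eq, hker, sup_eq_left]
        exact fun y hy => hUS hy
      let SY := SN.mapSurjective hπs
      have hSY : (SY : Subgroup (N₁ ⧸ U.subgroupOf N₁)) = (SN : Subgroup N₁).map π :=
        Sylow.coe_mapSurjective hπs SN
      have hlt : Nat.card (N₁ ⧸ U.subgroupOf N₁) < n := by
        have h2 := card_eq_card_quotient_mul_card_subgroup (U.subgroupOf N₁)
        have h3 : 1 < Nat.card (U.subgroupOf N₁) := by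
          rw [Nat.card_congr (subgroupOfEquivOfLe (hUS.trans hSN₁)).toEquiv]
          exact (one_lt_card_iff_ne_bot U).2 hUne
        calc Nat.card (N₁ ⧸ U.subgroupOf N₁) < Nat.card N₁ := by
              rw [h2]; exact lt_mul_of_one_lt_right Nat.card_pos h3
          _ ≤ n := hn ▸ card_le_card_group N₁
      have hSYne : (SY : Subgroup (N₁ ⧸ U.subgroupOf N₁)) ≠ ⊥ := by
        rw [hSY, Ne, Subgroup.map_eq_bot_iff, hker]
        exact fun hle => hUeq (le_antisymm hUS fun s hs => hle (show (⟨s, hSN₁ hs⟩ : N₁) ∈ (SN : Subgroup N₁) from hs))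
      have hNY : ∀ g ∈ normalizer ((SY : Subgroup (N₁ ⧸ U.subgroupOf N₁)) : Set (N₁ ⧸ U.subgroupOf N₁)),
          (orderOf g).Coprime p → g ∈ centralizer ((SY : Subgroup (N₁ ⧸ U.subgroupOf N₁)) : Set _) := by
        intro g hg hgp
        obtain ⟨m, rfl⟩ := hπs g
        rw [hSY, ← mem_comap, comap_normalizer_eq_of_surjective _ hπs, hpre] at hg
        -- replace `m` by an element of order prime to `p`
        obtain ⟨a, b, hb, hm⟩ :=
          Nat.exists_eq_pow_mul_and_not_dvd (orderOf_pos m).ne' p (Fact.out : p.Prime).ne_one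
        have hcN : ((m ^ p ^ a : N₁) : X) ∈ normalizer ((S : Subgroup X) : Set X) := by
          have hmS : (m : X) ∈ normalizer ((S : Subgroup X) : Set X) := by
            have h2 := le_normalizer_map N₁.subtype (mem_map_of_mem N₁.subtype hg)
            rwa [show (SN : Subgroup N₁).map N₁.subtype = (S : Subgroup X) from
              map_subgroupOf_eq_of_le hSN₁] at h2
          exact pow_mem hmS _
        have hcop : (orderOf ((m ^ p ^ a : N₁) : X)).Coprime p := by
          rw [orderOf_coe, orderOf_pow' m (pow_ne_zero _ (Fact.out : p.Prime).ne_zero), hm,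
            Nat.gcd_eq_right (dvd_mul_right _ b), Nat.mul_div_cancel_left _ (pow_pos (Fact.out : p.Prime).pos a)]
          exact ((Fact.out : p.Prime).coprime_iff_not_dvd.2 hb).symm
        have h2 := hN _ hcN hcop
        have h3 : π m ^ p ^ a ∈ centralizer ((SY : Subgroup (N₁ ⧸ U.subgroupOf N₁)) : Set _) := by
          rw [hSY, ← map_pow, mem_centralizer_iff]
          rintro _ ⟨s, hs, rfl⟩
          rw [← map_mul, ← map_mul]
          exact congrArg π (Subtype.ext (mem_centralizer_iff.1 h2 _ hs))
        obtain ⟨j, hj⟩ := exists_pow_eq_self_of_coprime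
          (Nat.Coprime.pow_left a (Nat.Coprime.symm hgp) : (p ^ a).Coprime (orderOf (π m)))
        rw [← hj]
        exact pow_mem h3 j
      obtain ⟨K', f, hf'⟩ := hX
      have hXsec : IsSec (N₁ ⧸ U.subgroupOf N₁) G := ⟨(N₁.comap f).map K'.subtype,
        π.comp ((f.subgroupComap N₁).comp
          ((N₁.comap f).equivMapOfInjective _ K'.subtype_injective).symm.toMonoidHom),
        hπs.comp ((MonoidHom.subgroupComap_surjective_of_surjective _ _ hf').comp
          ((N₁.comap f).equivMapOfInjective _ K'.subtype_injective).symm.surjective)⟩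
      refine ih _ hlt _ rfl hXsec SY hSYne hNY ?_
      rw [hSY, inf_eq_left]
      rintro _ ⟨s, hs, rfl⟩
      have h4 : (s : X) ∈ ⁅N₁, N₁⁆ := (h1 (show (s : X) ∈ (S : Subgroup X) from hs)).2
      rw [← map_subtype_commutator] at h4
      obtain ⟨t, ht, hts⟩ := h4
      have ht' : t = s := Subtype.ext hts
      subst ht'
      rw [_root_.commutator_def, ← map_top_of_surjective π hπs, ← Subgroup.map_commutator, ← _root_.commutator_def]
      exact mem_map_of_mem π ht

end Cfsg.Agent.S1971
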