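import Cfsg.Statements.S1981
import Cfsg.Agent.Lib.PLocal.KInfinity

set_option autoImplicit false
open Cfsg
open scoped commutatorElement

namespace Cfsg.Agent.S1981

/-- Let P be a finite p-group generated by its abelian normal subgroups. Then both K-infinity subgroups of P equal P. -/
theorem result {P : Type*} [Group P] [Finite P] {p : ℕ} [Fact p.Prime] (hP : IsPGroup p P) (hgen : ⨆ A ∈ {A : Subgroup P | A.Normal ∧ IsMulCommutative ↥A}, A = ⊤) : Cfsg.kInfLower P = ⊤ ∧ Cfsg.kInfUpper P = ⊤ := by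
  refine ⟨eq_top_iff.2 ?_, eq_top_iff.2 ?_⟩ <;> rw [← hgen] <;> refine iSup₂_le fun A hA => ?_
  · haveI := hA.1
    exact le_iSup_of_le 0 (CfsgLib.PLocal.le_kSeqEven_of_normal hA.2 0)
  · haveI := hA.1
    exact le_iInf fun n => CfsgLib.PLocal.le_kSeqOdd_of_normal hA.2 n

end Cfsg.Agent.S1981
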