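import Cfsg.Statements.S1992
import Cfsg.Agent.Lib.PLocal.IndexP
import Cfsg.Agent.Lib.Char.Burnside
import Cfsg.Agent.S1991

set_option autoImplicit false
open Cfsg
open scoped commutatorElement

namespace Cfsg.Agent.S1992

/-- Let G be a finite group in which, for every prime q dividing the order of G, every Sylow q-subgroup is its own normalizer. Then the order of G is a power of a single prime (G is a q-group for some prime q; for G trivial any prime works). -/
theorem result {G : Type*} [Group G] [Finite G] (h : ∀ q : ℕ, q.Prime → q ∣ Nat.card G → ∀ Q : Sylow q G, Subgroup.normalizer ((Q : Subgroup G) : Set G) = Q) : ∃ q : ℕ, q.Prime ∧ IsPGroup q G := by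
  open Subgroup in
  · rcases subsingleton_or_nontrivial G with hs | hs
    · exact ⟨2, Nat.prime_two, fun g => ⟨0, Subsingleton.elim _ _⟩⟩
    -- a normal subgroup of prime index
    obtain ⟨r, hr, N, hNn, hN⟩ : ∃ r : ℕ, r.Prime ∧ ∃ N : Subgroup G, N.Normal ∧ N.index = r := by
      by_cases hbig : ∃ q, q.Prime ∧ 5 ≤ q ∧ q ∣ Nat.card G
      · obtain ⟨q, hq, hq5, hqd⟩ := hbig
        haveI : Fact q.Prime := ⟨hq⟩
        obtain ⟨Q⟩ : Nonempty (Sylow q G) := inferInstance
        have hQne : (Q : Subgroup G) ≠ ⊥ := fun h0 => by
          have := Q.dvd_card_of_dvd_card hqd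
          rw [h0, card_bot] at this
          exact hq.ne_one (Nat.dvd_one.1 this)
        refine ⟨q, hq, Cfsg.Agent.S1991.result hq5 Q hQne fun g hg hgq => ?_⟩
        rw [h q hq hqd Q] at hg
        obtain ⟨k, hk⟩ := Q.2 ⟨g, hg⟩
        have h1 : g = 1 := orderOf_eq_one_iff.1 (Nat.eq_one_of_dvd_coprimes (hgq.pow_right k) dvd_rfl
          (orderOf_dvd_of_pow_eq_one (congrArg Subtype.val hk :)))
        exact h1 ▸ one_mem _
      push Not at hbig
      have hsol : Group.IsSolvable G := by
        refine CfsgLib.Char.burnside_pq 2 3 Nat.prime_two Nat.prime_three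
          ((Nat.card G).factorization 2) ((Nat.card G).factorization 3) G ?_
        refine Nat.eq_of_factorization_eq Nat.card_pos.ne' (by positivity) fun q => ?_
        rw [Nat.factorization_mul (by positivity) (by positivity), Finsupp.add_apply,
          Nat.factorization_pow, Nat.factorization_pow, Nat.Prime.factorization Nat.prime_two,
          Nat.Prime.factorization Nat.prime_three]
        by_cases h2 : q = 2
        · subst h2; simp
        by_cases h3 : q = 3
        · subst h3; simp
        have : (Nat.card G).factorization q = 0 := by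
          by_contra h0
          have hq := Nat.mem_primeFactors.1 (Finsupp.mem_support_iff.2 h0)
          have hq2 := hq.1.two_le
          rcases Nat.lt_or_ge q 5 with h5 | h5
          · have h4 : q = 4 := by omega
            exact absurd (h4 ▸ hq.1) (by norm_num)
          · exact hbig q hq.1 h5 hq.2.1
        simp [this, Ne.symm h2, Ne.symm h3]
      have hlt := Group.IsSolvable.commutator_lt_top_of_nontrivial G
      have hidx : 1 < (commutator G).index := (commutator G).one_lt_index_of_ne_top hlt.ne
      obtain ⟨r, hr, hrd⟩ := Nat.exists_prime_and_dvd hidx.ne'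
      haveI : Fact r.Prime := ⟨hr⟩
      obtain ⟨R⟩ : Nonempty (Sylow r G) := inferInstance
      refine ⟨r, hr, CfsgLib.PLocal.exists_normal_index_of_inf_ne R fun he => ?_⟩
      exact R.not_dvd_index (hrd.trans (index_dvd_of_le (inf_eq_left.1 he)))
    refine ⟨r, hr, ?_⟩
    haveI : Fact r.Prime := ⟨hr⟩
    suffices ∀ s : ℕ, s.Prime → s ∣ Nat.card G → s = r by
      refine IsPGroup.of_card (n := (Nat.card G).factorization r) ?_
      refine Nat.eq_of_factorization_eq Nat.card_pos.ne' (pow_ne_zero _ hr.ne_zero) fun s => ?_
      rw [Nat.factorization_pow, hr.factorization]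
      by_cases hs' : s = r
      · subst hs'; simp
      · have : (Nat.card G).factorization s = 0 := by
          by_contra h0
          have hq := Nat.mem_primeFactors.1 (Finsupp.mem_support_iff.2 h0)
          exact hs' (this s hq.1 hq.2.1)
        simp [this, Ne.symm hs']
    intro s hs' hsd
    by_contra hne
    haveI : Fact s.Prime := ⟨hs'⟩
    obtain ⟨P⟩ : Nonempty (Sylow s G) := inferInstance
    haveI := hNn
    have hPN : (P : Subgroup G) ≤ N := by
      intro x hx
      obtain ⟨k, hk⟩ := P.2 ⟨x, hx⟩
      refine (QuotientGroup.eq_one_iff x).1 (orderOf_eq_one_iff.1 (Nat.eq_one_of_dvd_coprimes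
        (Nat.Coprime.pow_left k ((Nat.coprime_primes hs' hr).2 hne)) ?_ (hN ▸ N.index_eq_card ▸ orderOf_dvd_natCard _)))
      exact (orderOf_map_dvd (QuotientGroup.mk' N) x).trans
        (orderOf_dvd_of_pow_eq_one (congrArg Subtype.val hk :))
    have htop : normalizer ((P : Subgroup G) : Set G) ⊔ N = ⊤ := by
      obtain ⟨SP, hSP⟩ : ∃ SP : Sylow s N, (SP : Subgroup N) = (P : Subgroup G).subgroupOf N :=
        ⟨P.subtype hPN, rfl⟩
      have := Sylow.normalizer_sup_eq_top SP
      rwa [hSP, map_subgroupOf_eq_of_le hPN] at this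
    rw [h s hs' hsd P, sup_eq_right.2 hPN] at htop
    rw [htop, index_top] at hN
    exact hr.ne_one hN.symm

end Cfsg.Agent.S1992
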