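import Cfsg.Statements.S1993
import Cfsg.Agent.Lib.PLocal.KControl

set_option autoImplicit false
universe u
open Cfsg
open scoped commutatorElement

namespace Cfsg.Agent.S1993

/-- Let p be a prime, G a finite group with Sylow p-subgroup S, and K the upper K-infinity subgroup of S. If p ≥ 5 then S ∩ G' = S ∩ (N_G(K))'; and if p is odd and every section of G is p-stable in the normalizer form, then K controls strong fusion in G. -/
theorem result {G : Type u} [Group G] [Finite G] {p : ℕ} [Fact p.Prime] (S : Sylow p G) : (5 ≤ p → (S : Subgroup G) ⊓ commutator G = (S : Subgroup G) ⊓ ⁅Subgroup.normalizer ((Cfsg.inducedFunctor Cfsg.kInfUpper (S : Subgroup G) : Subgroup G) : Set G), Subgroup.normalizer ((Cfsg.inducedFunctor Cfsg.kInfUpper (S : Subgroup G) : Subgroup G) : Set G)⁆) ∧ (p ≠ 2 → (∀ (K R : Subgroup G) [hR : (R.subgroupOf K).Normal], Cfsg.IsNormalizerPStable p (↥K ⧸ R.subgroupOf K)) → Cfsg.ControlsStrongFusion p (Cfsg.inducedFunctor Cfsg.kInfUpper (S : Subgroup G))) := by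
  open CfsgLib.PLocal Subgroup in
  · refine ⟨fun hp => ?_, fun _ hst => controlsStrongFusion_of_ctrl kInfUpper_isCharPFunctor
      (ctrl_kInf_of_pStable hst _ kInfUpper_isCharPFunctor fun _ _ _ _ h => h.2) S⟩
    have h𝓦 : ∀ W ∈ ({Cfsg.kInfUpper} : Set (∀ (Q : Type u) [Group Q], Subgroup Q)),
        Cfsg.IsCharPFunctor.{u} p W := by
      rintro W rfl; exact kInfUpper_isCharPFunctor
    have h1 := (ctrlT_iff h𝓦 S).1 (ctrlT_of_sections h𝓦 (Set.singleton_nonempty _)
      (fun K R _ hf => ?_) G (isSec_self G))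
    · simp only [transferJoin, Set.mem_singleton_iff, iSup_iSup_eq_left] at h1
      refine le_antisymm h1 (inf_le_inf_left _ ?_)
      exact commutator_mono le_top le_top
    · obtain ⟨T⟩ : Nonempty (Sylow p (↥K ⧸ R.subgroupOf K)) := inferInstance
      by_cases hn : (Cfsg.inducedFunctor (G := (↥K ⧸ R.subgroupOf K)) Cfsg.kInfUpper
          ((T : Subgroup (↥K ⧸ R.subgroupOf K)))).Normal
      · refine hf.fail ((ctrlT_iff h𝓦 T).2 ?_)
        simp only [transferJoin, Set.mem_singleton_iff, iSup_iSup_eq_left]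
        rw [normalizer_eq_top_iff.2 hn, _root_.commutator_def]
      · obtain ⟨g, hgT, hgQ, hg, -, -⟩ := exists_quartic_element T (Or.inr hn)
        obtain ⟨U, V, hUV, hUQ, hbad⟩ := hf.exists_chiefFactor T g hgT hgQ
        exact hbad ((iterCommutator_antitone ((normalizer_eq_top_iff.2 hUV.2.1).symm ▸ le_top)
          (by omega : 4 ≤ p - 1)).trans (hg U V hUV hUQ))

end Cfsg.Agent.S1993
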