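import Cfsg.Statements.S1995
import Cfsg.Agent.Lib.PLocal.TransferReduce
import Cfsg.Agent.Lib.PLocal.NormalSylow

set_option autoImplicit false
universe u
open Cfsg
open scoped commutatorElement

namespace Cfsg.Agent.S1995

/-- Let p be a prime, G a finite group and 𝓦 a set of isomorphism-invariant p-group functors (W assigns to every group Q a subgroup W(Q), nontrivial whenever Q is a nontrivial finite p-group, and every isomorphism from a finite p-group Q onto a group R carries W(Q) onto W(R)). If the conjugacy functors induced by 𝓦 control transfer in every section G* = K/R of G with C_{G*}(O_p(G*)) ≤ O_p(G*), then they control transfer in G: S ∩ G' is generated by the subgroups S ∩ (N_G(W(S)))', W ∈ 𝓦, for a Sylow p-subgroup S. -/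
theorem result {G : Type u} [Group G] [Finite G] {p : ℕ} [Fact p.Prime] (𝓦 : Set (∀ (Q : Type u) [Group Q], Subgroup Q)) (h𝓦 : ∀ W ∈ 𝓦, Cfsg.IsCharPFunctor.{u} p W) (hloc : ∀ (K R : Subgroup G) [hR : (R.subgroupOf K).Normal], Subgroup.centralizer ((Cfsg.pCore p (↥K ⧸ R.subgroupOf K) : Subgroup (↥K ⧸ R.subgroupOf K)) : Set (↥K ⧸ R.subgroupOf K)) ≤ Cfsg.pCore p (↥K ⧸ R.subgroupOf K) → Cfsg.FamilyControlsTransferIn p ((fun W => Cfsg.inducedFunctor (G := (↥K ⧸ R.subgroupOf K)) W) '' 𝓦) ⊤) : Cfsg.FamilyControlsTransferIn p ((fun W => Cfsg.inducedFunctor (G := G) W) '' 𝓦) ⊤ := by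
  open CfsgLib.PLocal Subgroup in
  · change CtrlT p 𝓦 G
    by_cases hne : 𝓦.Nonempty
    · refine ctrlT_of_sections h𝓦 hne (fun K R _ hf => hf.fail (hloc K R hf.constrained)) G (isSec_self G)
    -- the empty family
    obtain ⟨S⟩ : Nonempty (Sylow p G) := inferInstance
    rw [ctrlT_iff h𝓦 S]
    rw [Set.not_nonempty_iff_eq_empty] at hne
    subst hne
    have hloc' : ∀ (X : Type u) [Group X] [Finite X], IsSec X G → Constrained p X →
        ∀ T : Sylow p X, (T : Subgroup X) ⊓ commutator X = ⊥ := by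
      intro X _ _ hX hc T
      obtain ⟨K, R, hR, ⟨e⟩⟩ := hX.exists_quotient
      have h1 : CtrlT p ∅ X := ctrlT_equiv h𝓦 e (hloc K R (constrained_equiv e.symm hc))
      simpa [transferJoin] using (ctrlT_iff h𝓦 T).1 h1
    let W₀ : ∀ (Q : Type u) [Group Q], Subgroup Q := fun Q _ => ⊤
    have hW₀ : ∀ W ∈ ({W₀} : Set _), Cfsg.IsCharPFunctor.{u} p W := by
      rintro W rfl
      exact ⟨fun Q _ _ _ _ => top_ne_bot, fun Q R _ _ _ _ φ => map_top_of_surjective _ φ.surjective⟩
    have hG : CtrlT p {W₀} G := by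
      refine ctrlT_of_sections hW₀ (Set.singleton_nonempty _) (fun K R _ hf => hf.fail ?_) G (isSec_self G)
      obtain ⟨T⟩ : Nonempty (Sylow p (↥K ⧸ R.subgroupOf K)) := inferInstance
      rw [ctrlT_iff hW₀ T, hloc' _ (isSec_quotient K R) hf.constrained T]
      exact bot_le
    have h1 := (ctrlT_iff hW₀ S).1 hG
    simp only [transferJoin, Set.mem_singleton_iff, iSup_iSup_eq_left] at h1
    have e : Cfsg.inducedFunctor (G := G) W₀ (S : Subgroup G) = S := by
      simp [Cfsg.inducedFunctor, W₀, ← MonoidHom.range_eq_map]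
    rw [e] at h1
    refine h1.trans ?_
    set N := normalizer ((S : Subgroup G) : Set G) with hN
    have hSN : (S : Subgroup G) ≤ N := le_normalizer
    let SN : Sylow p N := S.subtype hSN
    have hSNe : (SN : Subgroup N) = (S : Subgroup G).subgroupOf N := rfl
    haveI hSNn : (SN : Subgroup N).Normal := normal_in_normalizer
    haveI := Cfsg.pPrimeCore_normal p N
    set π := QuotientGroup.mk' (Cfsg.pPrimeCore p N) with hπ
    have hπs : Function.Surjective π := QuotientGroup.mk'_surjective _
    have hc : Constrained p (N ⧸ Cfsg.pPrimeCore p N) :=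
      centralizer_pCore_le_of_normal_sylow (SN.mapSurjective hπs)
        (by rw [Sylow.coe_mapSurjective]; exact hSNn.map π hπs)
        (CfsgLib.Solvable.pPrimeCore_quotient_eq_bot p)
    have hsec : IsSec (N ⧸ Cfsg.pPrimeCore p N) G := ⟨N, π, hπs⟩
    have h2 := hloc' _ hsec hc (SN.mapSurjective hπs)
    rw [Sylow.coe_mapSurjective] at h2
    intro x hx
    obtain ⟨hxS, hxN⟩ := mem_inf.1 hx
    rw [← map_subtype_commutator] at hxN
    obtain ⟨y, hy, rfl⟩ := hxN
    have hyS : y ∈ (SN : Subgroup N) := hxS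
    have h3 : π y ∈ (SN : Subgroup N).map π ⊓ commutator _ := ⟨mem_map_of_mem π hyS, by
      rw [commutator_def, ← map_top_of_surjective π hπs, ← Subgroup.map_commutator, ← commutator_def]
      exact mem_map_of_mem π hy⟩
    rw [h2, mem_bot] at h3
    have hinj : Set.InjOn π ((SN : Subgroup N) : Set N) :=
      injOn_mk'_of_isPGroup (CfsgLib.Comp.coprime_card_pPrimeCore p N) SN.2
    have : y = 1 := hinj hyS (one_mem _) (by rw [h3, map_one])
    simp [this]

end Cfsg.Agent.S1995
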