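import Cfsg.Statements.S1996
import Cfsg.Agent.Lib.PLocal.StrongReduce

set_option autoImplicit false
universe u
open Cfsg
open scoped commutatorElement

namespace Cfsg.Agent.S1996

/-- Let p be a prime, G a finite group and W₁, W₂ two isomorphism-invariant p-group functors (W assigns to every group Q a subgroup W(Q), nontrivial whenever Q is a nontrivial finite p-group, and every isomorphism from a finite p-group Q onto a group R carries W(Q) onto W(R)). Suppose that G* = N_{G*}(W₁(S*)) N_{G*}(W₂(S*)) whenever G* = K/R is a section of G with C_{G*}(O_p(G*)) ≤ O_p(G*) and S* is a Sylow p-subgroup of G*. Then the pair {W₁, W₂} controls strong fusion in G. -/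
theorem result {G : Type u} [Group G] [Finite G] {p : ℕ} [Fact p.Prime] (W₁ W₂ : ∀ (Q : Type u) [Group Q], Subgroup Q) (hW₁ : Cfsg.IsCharPFunctor.{u} p W₁) (hW₂ : Cfsg.IsCharPFunctor.{u} p W₂) (hfac : ∀ (K R : Subgroup G) [hR : (R.subgroupOf K).Normal], Subgroup.centralizer ((Cfsg.pCore p (↥K ⧸ R.subgroupOf K) : Subgroup (↥K ⧸ R.subgroupOf K)) : Set (↥K ⧸ R.subgroupOf K)) ≤ Cfsg.pCore p (↥K ⧸ R.subgroupOf K) → ∀ T : Sylow p (↥K ⧸ R.subgroupOf K), ∀ x : (↥K ⧸ R.subgroupOf K), ∃ a ∈ Subgroup.normalizer ((Cfsg.inducedFunctor (G := (↥K ⧸ R.subgroupOf K)) W₁ (T : Subgroup (↥K ⧸ R.subgroupOf K)) : Subgroup (↥K ⧸ R.subgroupOf K)) : Set (↥K ⧸ R.subgroupOf K)), ∃ b ∈ Subgroup.normalizer ((Cfsg.inducedFunctor (G := (↥K ⧸ R.subgroupOf K)) W₂ (T : Subgroup (↥K ⧸ R.subgroupOf K)) : Subgroup (↥K ⧸ R.subgroupOf K)) : Set (↥K ⧸ R.subgroupOf K)), x = a * b) : Cfsg.FamilyControlsStrongFusionIn p {Cfsg.inducedFunctor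 (G := G) W₁, Cfsg.inducedFunctor (G := G) W₂} ⊤ := by
  classical
  have h𝓦 : ∀ V ∈ ({W₁, W₂} : Set (∀ (Q : Type u) [Group Q], Subgroup Q)), Cfsg.IsCharPFunctor.{u} p V := by
    rintro V (rfl | rfl)
    · exact hW₁
    · exact hW₂
  have key : CfsgLib.PLocal.Ctrl p {W₁, W₂} G := by
    refine CfsgLib.PLocal.ctrl_of_constrained h𝓦 G fun X _ _ hX hc => ?_
    obtain ⟨K, R, hR, ⟨e⟩⟩ := hX.exists_quotient
    refine CfsgLib.PLocal.ctrl_equiv h𝓦 e ?_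
    obtain ⟨T⟩ : Nonempty (Sylow p (↥K ⧸ R.subgroupOf K)) := inferInstance
    set N₁ := Subgroup.normalizer ((Cfsg.inducedFunctor (G := (↥K ⧸ R.subgroupOf K)) W₁ (T : Subgroup (↥K ⧸ R.subgroupOf K)) : Subgroup (↥K ⧸ R.subgroupOf K)) : Set (↥K ⧸ R.subgroupOf K))
    set N₂ := Subgroup.normalizer ((Cfsg.inducedFunctor (G := (↥K ⧸ R.subgroupOf K)) W₂ (T : Subgroup (↥K ⧸ R.subgroupOf K)) : Subgroup (↥K ⧸ R.subgroupOf K)) : Set (↥K ⧸ R.subgroupOf K))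
    set T' : Subgroup (↥K ⧸ R.subgroupOf K) := (T : Subgroup (↥K ⧸ R.subgroupOf K))
    have hT₁ : T' ≤ N₁ := CfsgLib.PLocal.le_normalizer_functor
      (CfsgLib.PLocal.induced_isConjugacyFunctor hW₁) T.2
    have hT₂ : T' ≤ N₂ := CfsgLib.PLocal.le_normalizer_functor
      (CfsgLib.PLocal.induced_isConjugacyFunctor hW₂) T.2
    refine CfsgLib.PLocal.familyControls_iff.2 ⟨T', CfsgLib.PLocal.sylowIn_top T, fun A g _ hA hAg => ?_⟩
    obtain ⟨a, ha, b, hb, rfl⟩ := @hfac K R hR (CfsgLib.PLocal.constrained_equiv e.symm hc) T g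
    have hbA : CfsgLib.PLocal.lconj b A ⊆ (N₁ ⊓ N₂ : Subgroup _) := by
      rintro _ ⟨z, hz, rfl⟩
      refine ⟨?_, N₂.mul_mem (N₂.mul_mem hb (hT₂ (hA hz))) (N₂.inv_mem hb)⟩
      have := N₁.mul_mem (N₁.mul_mem (N₁.inv_mem ha) (hT₁ (hAg ⟨z, hz, rfl⟩))) ha
      simpa [mul_assoc] using this
    have hp : IsPGroup p (Subgroup.closure (CfsgLib.PLocal.lconj b A)) :=
      (T.2.map (MulAut.conj b).toMonoidHom).to_le <| (Subgroup.closure_le _).2 <| by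
        rintro _ ⟨z, hz, rfl⟩
        exact ⟨z, hA hz, rfl⟩
    obtain ⟨l, hl, hlle⟩ := (show CfsgLib.PLocal.SylowIn p T' (N₁ ⊓ N₂) from ⟨le_inf hT₁ hT₂, T.2,
      fun hd => T.not_dvd_index (hd.trans (Subgroup.relIndex_dvd_index_of_le (le_inf hT₁ hT₂)))⟩).exists_conj_le
        hp ((Subgroup.closure_le _).2 hbA)
    have hmid : CfsgLib.PLocal.lconj (l * b) A ⊆ T' := by
      rintro _ ⟨z, hz, rfl⟩
      have := hlle (CfsgLib.PLocal.conj_mem_conjMap (Subgroup.subset_closure ⟨z, hz, rfl⟩))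
      simpa [mul_assoc] using this
    have e' : a * b = a * l⁻¹ * (l * b) := by group
    rw [e'] at hAg ⊢
    refine (CfsgLib.PLocal.FusRel.single hA
      ⟨_, ⟨W₂, Or.inr rfl, rfl⟩, Subgroup.mem_top _, N₂.mul_mem hl.2 hb⟩ hmid).trans ?_
    refine CfsgLib.PLocal.FusRel.single hmid
      ⟨_, ⟨W₁, Or.inl rfl, rfl⟩, Subgroup.mem_top _, N₁.mul_mem ha (N₁.inv_mem hl.1)⟩ ?_
    rwa [CfsgLib.PLocal.lconj_lconj]
  have e : CfsgLib.PLocal.indSet ({W₁, W₂} : Set (∀ (Q : Type u) [Group Q], Subgroup Q)) G =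
      {Cfsg.inducedFunctor (G := G) W₁, Cfsg.inducedFunctor (G := G) W₂} := Set.image_pair _ _ _
  rw [← e]
  exact key

end Cfsg.Agent.S1996
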