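import Cfsg.Statements.S1997
import Cfsg.Agent.Lib.PLocal.ZClosure
import Cfsg.Agent.S1996

set_option autoImplicit false
universe u
open Cfsg
open scoped commutatorElement

namespace Cfsg.Agent.S1997

theorem sec_fac {X : Type u} [Group X] [Finite X] {p : ℕ} [Fact p.Prime]
    {Y : Type u} [Group Y] [Finite Y] (e : Y ≃* X) (W : ∀ (Q : Type u) [Group Q], Subgroup Q)
    (hW : Cfsg.IsCharPFunctor.{u} p W) (T : Sylow p Y)
    (h : ∀ y : Y, ∃ a ∈ Subgroup.centralizer ((Cfsg.omegaOne p ((T : Subgroup Y) ⊓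
        Subgroup.centralizer ((T : Subgroup Y) : Set Y)) : Subgroup Y) : Set Y),
      ∃ b ∈ Subgroup.normalizer ((Cfsg.inducedFunctor (G := Y) W (T : Subgroup Y) : Subgroup Y) : Set Y), y = a * b)
    (x : X) :
    ∃ a ∈ Subgroup.centralizer ((Cfsg.omegaOne p ((T : Subgroup Y).map e.toMonoidHom ⊓
        Subgroup.centralizer (((T : Subgroup Y).map e.toMonoidHom : Subgroup X) : Set X)) : Subgroup X) : Set X),
      ∃ b ∈ Subgroup.normalizer ((Cfsg.inducedFunctor (G := X) W ((T : Subgroup Y).map e.toMonoidHom) : Subgroup X) : Set X),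
        x = a * b := by
  have hinj : Set.InjOn e.toMonoidHom ((T : Subgroup Y) : Set Y) := e.injective.injOn
  obtain ⟨a, ha, b, hb, he⟩ := h (e.symm x)
  refine ⟨e a, ?_, e b, ?_, by rw [← map_mul, ← he, e.apply_symm_apply]⟩
  · rw [← CfsgLib.PLocal.center_map_of_injOn _ hinj, ← CfsgLib.PLocal.omegaOne_map_of_injOn _ hinj inf_le_left,
      Subgroup.mem_centralizer_iff]
    rintro _ ⟨z, hz, rfl⟩
    show e z * e a = e a * e z
    rw [← map_mul, ← map_mul, Subgroup.mem_centralizer_iff.1 ha z hz]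
  · rw [← CfsgLib.PLocal.induced_map_of_injOn hW _ T.2 hinj]
    exact Subgroup.le_normalizer_map _ ⟨b, hb, rfl⟩

/-- Let p be a prime, G a finite group with Sylow p-subgroup S, and W₁, W₂ two isomorphism-invariant p-group functors (W assigns to every group Q a subgroup W(Q), nontrivial whenever Q is a nontrivial finite p-group, and every isomorphism from a finite p-group Q onto a group R carries W(Q) onto W(R)). Suppose that G* = C_{G*}(Ω₁Z(S*)) N_{G*}(W₁(S*)) = C_{G*}(Ω₁Z(S*)) N_{G*}(W₂(S*)) = N_{G*}(W₁(S*)) N_{G*}(W₂(S*)) whenever G* = K/R is a section of G with C_{G*}(O_p(G*)) ≤ O_p(G*) and S* is a Sylow p-subgroup of G*, where Ω₁Z denotes the subgroup generated by the elements of order dividing p in the centre. Suppose also Ω₁Z(S) ≤ W₁(S) ∩ W₂(S), and let A be the normal closure of Ω₁Z(S) in N_G(W₁(S)). Then A is an elementary abelian subgroup of S, strongly closed in S with respect to G, and A controls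 strong fusion in G. -/
theorem result {G : Type u} [Group G] [Finite G] {p : ℕ} [Fact p.Prime] (S : Sylow p G) (W₁ W₂ : ∀ (Q : Type u) [Group Q], Subgroup Q) (hW₁ : Cfsg.IsCharPFunctor.{u} p W₁) (hW₂ : Cfsg.IsCharPFunctor.{u} p W₂) (hfac : ∀ (K R : Subgroup G) [hR : (R.subgroupOf K).Normal], Subgroup.centralizer ((Cfsg.pCore p (↥K ⧸ R.subgroupOf K) : Subgroup (↥K ⧸ R.subgroupOf K)) : Set (↥K ⧸ R.subgroupOf K)) ≤ Cfsg.pCore p (↥K ⧸ R.subgroupOf K) → ∀ T : Sylow p (↥K ⧸ R.subgroupOf K), (∀ x : (↥K ⧸ R.subgroupOf K), ∃ a ∈ Subgroup.centralizer ((Cfsg.omegaOne p ((T : Subgroup (↥K ⧸ R.subgroupOf K)) ⊓ Subgroup.centralizer (((T : Subgroup (↥K ⧸ R.subgroupOf K)) : Subgroup (↥K ⧸ R.subgroupOf K)) : Set (↥K ⧸ R.subgroupOf K))) : Subgroup (↥K ⧸ R.subgroupOf K)) : Set (↥K ⧸ R.subgroupOf K)), ∃ b ∈ Subgroup.normalizer ((Cfsg.inducedFunctor (G := (↥K ⧸ R.subgroupOf K)) W₁ (T : Subgroup (↥K ⧸ R.subgroupOf K)) : Subgroup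 (↥K ⧸ R.subgroupOf K)) : Set (↥K ⧸ R.subgroupOf K)), x = a * b) ∧ (∀ x : (↥K ⧸ R.subgroupOf K), ∃ a ∈ Subgroup.centralizer ((Cfsg.omegaOne p ((T : Subgroup (↥K ⧸ R.subgroupOf K)) ⊓ Subgroup.centralizer (((T : Subgroup (↥K ⧸ R.subgroupOf K)) : Subgroup (↥K ⧸ R.subgroupOf K)) : Set (↥K ⧸ R.subgroupOf K))) : Subgroup (↥K ⧸ R.subgroupOf K)) : Set (↥K ⧸ R.subgroupOf K)), ∃ b ∈ Subgroup.normalizer ((Cfsg.inducedFunctor (G := (↥K ⧸ R.subgroupOf K)) W₂ (T : Subgroup (↥K ⧸ R.subgroupOf K)) : Subgroup (↥K ⧸ R.subgroupOf K)) : Set (↥K ⧸ R.subgroupOf K)), x = a * b) ∧ (∀ x : (↥K ⧸ R.subgroupOf K), ∃ a ∈ Subgroup.normalizer ((Cfsg.inducedFunctor (G := (↥K ⧸ R.subgroupOf K)) W₁ (T : Subgroup (↥K ⧸ R.subgroupOf K)) : Subgroup (↥K ⧸ R.subgroupOf K)) : Set (↥K ⧸ R.subgroupOf K)), ∃ b ∈ Subgroup.normalizer ((Cfsg.inducedFunctor (G := (↥K ⧸ R.subgroupOf K)) W₂ (T : Subgroup (↥K ⧸ R.subgroupOf K)) : Subgroup (↥K ⧸ R.subgroupOf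 K)) : Set (↥K ⧸ R.subgroupOf K)), x = a * b)) (hZ : Cfsg.omegaOne p ((S : Subgroup G) ⊓ Subgroup.centralizer (((S : Subgroup G) : Subgroup G) : Set G)) ≤ Cfsg.inducedFunctor (G := G) W₁ (S : Subgroup G) ⊓ Cfsg.inducedFunctor (G := G) W₂ (S : Subgroup G)) (N₁ : Subgroup G) (hN₁ : N₁ = Subgroup.normalizer ((Cfsg.inducedFunctor (G := G) W₁ (S : Subgroup G) : Subgroup G) : Set G)) (A : Subgroup G) (hA : A = (Subgroup.normalClosure (((Cfsg.omegaOne p ((S : Subgroup G) ⊓ Subgroup.centralizer (((S : Subgroup G) : Subgroup G) : Set G))).subgroupOf N₁ : Subgroup ↥N₁) : Set ↥N₁)).map N₁.subtype) : A ≤ (S : Subgroup G) ∧ Cfsg.IsElementaryAbelian p A ∧ Cfsg.IsStronglyClosed A (S : Subgroup G) ∧ Cfsg.ControlsStrongFusion p A := by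
  have hfac' : ∀ (W : ∀ (Q : Type u) [Group Q], Subgroup Q), (W = W₁ ∨ W = W₂) →
      ∀ (X : Type u) [Group X] [Finite X], CfsgLib.PLocal.IsSec X G → CfsgLib.PLocal.Constrained p X →
      ∀ T : Sylow p X, ∀ x : X,
        ∃ a ∈ Subgroup.centralizer ((Cfsg.omegaOne p ((T : Subgroup X) ⊓
            Subgroup.centralizer ((T : Subgroup X) : Set X)) : Subgroup X) : Set X),
          ∃ b ∈ Subgroup.normalizer ((Cfsg.inducedFunctor (G := X) W (T : Subgroup X) : Subgroup X) : Set X),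
            x = a * b := by
    intro W hW X _ _ hX hc T x
    obtain ⟨K, R, hR, ⟨e⟩⟩ := hX.exists_quotient
    have hes : Function.Surjective e.toMonoidHom := e.surjective
    obtain ⟨T', hT'⟩ := Sylow.mapSurjective_surjective hes p T
    subst hT'
    rw [Sylow.coe_mapSurjective]
    obtain ⟨h1, h2, -⟩ := @hfac K R hR (CfsgLib.PLocal.constrained_equiv e.symm hc) T'
    rcases hW with rfl | rfl
    · exact sec_fac e _ hW₁ T' h1 x
    · exact sec_fac e _ hW₂ T' h2 x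
  set S' : Subgroup G := (S : Subgroup G) with hS'
  set Z := Cfsg.omegaOne p (S' ⊓ Subgroup.centralizer (S' : Set G)) with hZdef
  set N₂ := Subgroup.normalizer ((Cfsg.inducedFunctor (G := G) W₂ S' : Subgroup G) : Set G) with hN₂
  obtain ⟨hZ₁, hZ₂⟩ := le_inf_iff.1 hZ
  have hA' : A = CfsgLib.PLocal.nclIn Z N₁ := hA
  have heq : CfsgLib.PLocal.nclIn Z N₁ = CfsgLib.PLocal.nclIn Z N₂ := by
    rw [hN₁]
    exact le_antisymm (CfsgLib.PLocal.nclIn_le_nclIn S hW₂ hW₁ (hfac' W₂ (Or.inr rfl)) rfl hZ₁)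
      (CfsgLib.PLocal.nclIn_le_nclIn S hW₁ hW₂ (hfac' W₁ (Or.inl rfl)) rfl hZ₂)
  have hAN₁ : N₁ ≤ Subgroup.normalizer (A : Set G) := hA' ▸ CfsgLib.PLocal.le_normalizer_nclIn
  have hAN₂ : N₂ ≤ Subgroup.normalizer (A : Set G) := by
    rw [hA', heq]; exact CfsgLib.PLocal.le_normalizer_nclIn
  have hW₁f := CfsgLib.PLocal.induced_isConjugacyFunctor (G := G) hW₁
  have hAW : A ≤ Cfsg.inducedFunctor (G := G) W₁ S' := by
    rw [hA']
    refine CfsgLib.PLocal.nclIn_le fun n hn z hz => ?_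
    rw [hN₁] at hn
    exact (Subgroup.mem_normalizer_iff.1 hn z).1 (hZ₁ hz)
  have hAS : A ≤ S' := hAW.trans (CfsgLib.PLocal.functor_le hW₁f S.2)
  have hAab : A ≤ Subgroup.centralizer (A : Set G) := by
    conv_lhs => rw [hA']
    refine CfsgLib.PLocal.nclIn_le fun n hn z hz => Subgroup.mem_centralizer_iff.2 fun a ha => ?_
    have h1 : n⁻¹ * a * n ∈ S' := hAS ((Subgroup.mem_normalizer_iff''.1 (hAN₁ hn) a).1 ha)
    have h2 : z ∈ Subgroup.centralizer (S' : Set G) :=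
      ((CfsgLib.PLocal.omegaOne_le p _).trans inf_le_right) hz
    calc a * (n * z * n⁻¹) = n * (n⁻¹ * a * n * z) * n⁻¹ := by group
      _ = n * (z * (n⁻¹ * a * n)) * n⁻¹ := by rw [Subgroup.mem_centralizer_iff.1 h2 _ h1]
      _ = _ := by group
  have hZel : Cfsg.IsElementaryAbelian p Z :=
    CfsgLib.PLocal.omegaOne_elemAb (inf_le_right.trans (Subgroup.centralizer_le (SetLike.coe_subset_coe.2 inf_le_left)))
  have hAel : Cfsg.IsElementaryAbelian p A := by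
    refine ⟨Subgroup.le_centralizer_iff_isMulCommutative.1 hAab, fun a ha => ?_⟩
    let E : Subgroup G :=
      { carrier := {x | x ∈ A ∧ x ^ p = 1}
        one_mem' := ⟨A.one_mem, one_pow p⟩
        mul_mem' := fun {x y} hx hy => ⟨A.mul_mem hx.1 hy.1, by
          rw [(show Commute x y from Subgroup.mem_centralizer_iff.1 (hAab hy.1) x hx.1).mul_pow, hx.2, hy.2,
            one_mul]⟩
        inv_mem' := fun {x} hx => ⟨A.inv_mem hx.1, by rw [inv_pow, hx.2, inv_one]⟩ }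
    have hle : A ≤ E := by
      conv_lhs => rw [hA']
      refine CfsgLib.PLocal.nclIn_le fun n hn z hz => ⟨?_, ?_⟩
      · rw [hA']
        refine CfsgLib.PLocal.conj_mem_nclIn ?_ hn hz
        rw [hN₁]
        exact hZ₁.trans Subgroup.le_normalizer
      · rw [conj_pow, hZel.2 z hz]; group
    exact (hle ha).2
  obtain ⟨-⟩ : Nonempty Unit := ⟨()⟩
  have hctrl : ∀ (B : Set G) (g : G), B ⊆ S' → (fun b => g * b * g⁻¹) '' B ⊆ S' →
      ∃ x ∈ Subgroup.normalizer (A : Set G), ∀ b ∈ B, x * b * x⁻¹ = g * b * g⁻¹ := by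
    intro B g hB hgB
    have hfam : CfsgLib.PLocal.Ctrl p {W₁, W₂} G := by
      have h := Cfsg.Agent.S1996.result W₁ W₂ hW₁ hW₂ (fun K R hR hc T x => (@hfac K R hR hc T).2.2 x)
      rw [← Set.image_pair] at h
      exact h
    have h𝓦 : ∀ V ∈ ({W₁, W₂} : Set (∀ (Q : Type u) [Group Q], Subgroup Q)), Cfsg.IsCharPFunctor.{u} p V := by
      rintro V (rfl | rfl)
      · exact hW₁
      · exact hW₂
    have hr := CfsgLib.PLocal.familyControls_at (CfsgLib.PLocal.indSet_functor h𝓦) hfam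
      (CfsgLib.PLocal.sylowIn_top S) B g (Subgroup.mem_top g) hB hgB
    refine (hr.map_mono (Q := fun x => x ∈ Subgroup.normalizer (A : Set G)) ?_).exists_single
    rintro x ⟨_, ⟨V, hV, rfl⟩, -, hx⟩
    rcases hV with rfl | rfl
    · exact hAN₁ (by rw [hN₁]; exact hx)
    · exact hAN₂ hx
  refine ⟨hAS, hAel, ⟨hAS, fun x hx g hg => ?_⟩, S, hAS, fun B hB => ⟨hB, fun g hg => ?_⟩⟩
  · obtain ⟨m, hm, he⟩ := hctrl {x} g (Set.singleton_subset_iff.2 (hAS hx)) (by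
      rintro _ ⟨b, rfl, rfl⟩; exact hg)
    rw [← he x rfl]
    exact (Subgroup.mem_normalizer_iff.1 hm x).1 hx
  · obtain ⟨m, hm, he⟩ := hctrl B g hB hg
    exact ⟨m, hm, fun b hb => (he b hb).symm⟩

end Cfsg.Agent.S1997
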