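import Cfsg.Statements.S1998
import Cfsg.Agent.Lib.PLocal.TransferReduce

set_option autoImplicit false
universe u
open Cfsg
open scoped commutatorElement

namespace Cfsg.Agent.S1998

theorem sub_ctrl {G : Type u} [Group G] [Finite G] {p : ℕ} [Fact p.Prime]
    (𝓦 : Set (∀ (Q : Type u) [Group Q], Subgroup Q)) (h𝓦 : ∀ W ∈ 𝓦, Cfsg.IsCharPFunctor.{u} p W)
    (hsec : ∀ (K R : Subgroup G) [hR : (R.subgroupOf K).Normal], (K = ⊤ → R ≠ ⊥) →
      CfsgLib.PLocal.CtrlT p 𝓦 (↥K ⧸ R.subgroupOf K)) :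
    (∀ H : Subgroup G, H ≠ ⊤ → CfsgLib.PLocal.CtrlT p 𝓦 H) ∧
      ∀ (N : Subgroup G) [N.Normal], N ≠ ⊥ → CfsgLib.PLocal.CtrlT p 𝓦 (G ⧸ N) := by
  constructor
  · intro H hH
    have e0 : (⊥ : Subgroup G).subgroupOf H = ⊥ := Subgroup.bot_subgroupOf H
    haveI : ((⊥ : Subgroup G).subgroupOf H).Normal := by rw [e0]; infer_instance
    exact CfsgLib.PLocal.ctrlT_equiv h𝓦 ((QuotientGroup.quotientMulEquivOfEq e0).trans QuotientGroup.quotientBot)
      (hsec H ⊥ fun h => absurd h hH)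
  · intro N _ hN
    haveI : (N.subgroupOf (⊤ : Subgroup G)).Normal := inferInstance
    refine CfsgLib.PLocal.ctrlT_equiv h𝓦 (QuotientGroup.congr (N.subgroupOf ⊤) N Subgroup.topEquiv ?_)
      (hsec ⊤ N fun _ => hN)
    ext x
    simp [Subgroup.mem_subgroupOf]

/-- Let p be a prime, G a finite group with Sylow p-subgroup S, and 𝓦 a nonempty set of isomorphism-invariant p-group functors (W assigns to every group Q a subgroup W(Q), nontrivial whenever Q is a nontrivial finite p-group, and every isomorphism from a finite p-group Q onto a group R carries W(Q) onto W(R)). Suppose the induced conjugacy functors control transfer in every section of G other than G itself, but not in G. Let T be the subgroup generated by the S ∩ (N_G(W(S)))', W ∈ 𝓦, and M = N_G(T ∩ O_p(G)). Then: C_G(O_p(G)) ≤ O_p(G); M is a proper subgroup of G containing every proper subgroup of G that contains S (the unique maximal subgroup over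 S); [O_p(G), M] ≤ O_p(G) ∩ M' ≤ O_p(G) ∩ T; and every element u of S outside O_p(G) satisfies [X, u, …, u] ≰ Y with p − 1 entries u, for some chief factor X/Y of G with X ≤ O_p(G). -/
theorem result {G : Type u} [Group G] [Finite G] {p : ℕ} [Fact p.Prime] (S : Sylow p G) (𝓦 : Set (∀ (Q : Type u) [Group Q], Subgroup Q)) (h𝓦 : ∀ W ∈ 𝓦, Cfsg.IsCharPFunctor.{u} p W) (hne : 𝓦.Nonempty) (hsec : ∀ (K R : Subgroup G) [hR : (R.subgroupOf K).Normal], (K = ⊤ → R ≠ ⊥) → Cfsg.FamilyControlsTransferIn p ((fun W => Cfsg.inducedFunctor (G := (↥K ⧸ R.subgroupOf K)) W) '' 𝓦) ⊤) (hG : ¬ Cfsg.FamilyControlsTransferIn p ((fun W => Cfsg.inducedFunctor (G := G) W) '' 𝓦) ⊤) (T M : Subgroup G) (hT : T = (⨆ W ∈ 𝓦, (S : Subgroup G) ⊓ ⁅Subgroup.normalizer ((Cfsg.inducedFunctor (G := G) W (S : Subgroup G) : Subgroup G) : Set G), Subgroup.normalizer ((Cfsg.inducedFunctor (G := G) W (S : Subgroup G) : Subgroup G) : Set G)⁆)) (hM : M =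 Subgroup.normalizer ((T ⊓ Cfsg.pCore p G : Subgroup G) : Set G)) : Subgroup.centralizer ((Cfsg.pCore p G : Subgroup G) : Set G) ≤ Cfsg.pCore p G ∧ (M ≠ ⊤ ∧ ∀ H : Subgroup G, (S : Subgroup G) ≤ H → H ≠ ⊤ → H ≤ M) ∧ (⁅Cfsg.pCore p G, M⁆ ≤ Cfsg.pCore p G ⊓ ⁅M, M⁆ ∧ Cfsg.pCore p G ⊓ ⁅M, M⁆ ≤ Cfsg.pCore p G ⊓ T) ∧ ∀ u : G, u ∈ (S : Subgroup G) → u ∉ Cfsg.pCore p G → ∃ U V : Subgroup G, Cfsg.IsChiefFactor U V ∧ U ≤ Cfsg.pCore p G ∧ ¬ Cfsg.iterCommutator U (Subgroup.zpowers u) (p - 1) ≤ V := by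
  obtain ⟨h1, h2⟩ := sub_ctrl 𝓦 h𝓦 hsec
  have h : CfsgLib.PLocal.TransferFailure p 𝓦 G := ⟨h𝓦, hne, h1, h2, hG⟩
  subst hT hM
  set Q := Cfsg.pCore p G
  have hQS : Q ≤ (S : Subgroup G) := CfsgLib.Solvable.pCore_le_sylow S
  have hSM := h.sylow_le_failNorm S
  have hMtop := h.failNorm_ne_top S
  haveI := Cfsg.pCore_normal p G
  refine ⟨h.constrained, ⟨hMtop, fun H hSH hH => h.le_failNorm S hSH hH⟩,
    ⟨le_inf (Subgroup.commutator_le_left _ _) (Subgroup.commutator_mono (hQS.trans hSM) le_rfl), ?_⟩,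
    h.exists_chiefFactor S⟩
  exact le_inf inf_le_left ((inf_le_inf_right _ hQS).trans (h.inf_le_join S hMtop hSM))

end Cfsg.Agent.S1998
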