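import Cfsg.Statements.S2001
import Cfsg.Agent.Lib.PLocal.PairTransfer

set_option autoImplicit false
open Cfsg

namespace Cfsg.Agent.S2001

open scoped commutatorElement

theorem prod_sup {G : Type*} [Group G] {T A B : Subgroup G} (hB : A ≤ Subgroup.normalizer (B : Set G))
    (h : T = A ⊔ B) (x : G) : x ∈ T ↔ ∃ a ∈ A, ∃ b ∈ B, x = a * b := by
  subst h
  rw [← SetLike.mem_coe, Subgroup.coe_mul_of_left_le_normalizer_right A B hB]
  constructor
  · rintro ⟨a, ha, b, hb, rfl⟩; exact ⟨a, ha, b, hb, rfl⟩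
  · rintro ⟨a, ha, b, hb, rfl⟩; exact ⟨a, ha, b, hb, rfl⟩

theorem sup_of_prod {G : Type*} [Group G] {T A B : Subgroup G}
    (h : ∀ x : G, x ∈ T ↔ ∃ a ∈ A, ∃ b ∈ B, x = a * b) : T = A ⊔ B := by
  apply le_antisymm
  · intro x hx
    obtain ⟨a, ha, b, hb, rfl⟩ := (h x).1 hx
    exact mul_mem (Subgroup.mem_sup_left ha) (Subgroup.mem_sup_right hb)
  · refine sup_le (fun a ha => (h a).2 ⟨a, ha, 1, one_mem _, (mul_one a).symm⟩)
      (fun b hb => (h b).2 ⟨1, one_mem _, b, hb, (one_mul b).symm⟩)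

/-- Let p be a prime dividing the order of the finite group G, P a Sylow p-subgroup, W a conjugacy functor for p on G with Z(H) ≤ W(H) for every nontrivial p-subgroup H, and V a central functor: a conjugacy functor with V(H) ≤ Z(H), and V(H) ≤ V(K) whenever Z(H) ≤ Z(K), for nontrivial p-subgroups H, K. Say that W with V controls transfer in a subgroup L when some Sylow p-subgroup Q of L satisfies Q ∩ L' = (Q ∩ (N_L(W(Q)))')·(Q ∩ (C_L(V(Q)))') as a product of two subgroups. If W with V controls transfer in N_G(H) for every subgroup H with Z(P) ≤ H ≤ P, then W with V controls transfer in G. -/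
theorem result {G : Type*} [Group G] [Finite G] {p : ℕ} [Fact p.Prime] (hdiv : p ∣ Nat.card G) (P : Sylow p G) (W V : Subgroup G → Subgroup G) (hW : Cfsg.IsConjugacyFunctor p W) (hV : Cfsg.IsConjugacyFunctor p V) (hWZ : ∀ H : Subgroup G, IsPGroup p ↥H → H ⊓ Subgroup.centralizer ((H : Subgroup G) : Set G) ≤ W H) (hVZ : ∀ H : Subgroup G, IsPGroup p ↥H → V H ≤ H ⊓ Subgroup.centralizer ((H : Subgroup G) : Set G)) (hVmono : ∀ H K : Subgroup G, IsPGroup p ↥H → IsPGroup p ↥K → H ≠ ⊥ → K ≠ ⊥ → H ⊓ Subgroup.centralizer ((H : Subgroup G) : Set G) ≤ K ⊓ Subgroup.centralizer ((K : Subgroup G) : Set G) → V H ≤ V K) (hloc : ∀ H : Subgroup G, (P : Subgroup G) ⊓ Subgroup.centralizer (((P : Subgroup G) : Subgroup G) : Set G) ≤ H → H ≤ (P : Subgroup G) → ∃ Q : Subgroup G, Q ≤ Subgroup.normalizer ((H : Subgroup G) : Set G) ∧ IsPGroup p ↥Q ∧ ¬ p ∣ (Q).relIndex (Subgroup.normalizer ((H : Subgroup G) : Set G)) ∧ ∀ x : G, x ∈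 Q ⊓ ⁅Subgroup.normalizer ((H : Subgroup G) : Set G), Subgroup.normalizer ((H : Subgroup G) : Set G)⁆ ↔ ∃ a ∈ Q ⊓ ⁅Subgroup.normalizer ((H : Subgroup G) : Set G) ⊓ Subgroup.normalizer ((W Q : Subgroup G) : Set G), Subgroup.normalizer ((H : Subgroup G) : Set G) ⊓ Subgroup.normalizer ((W Q : Subgroup G) : Set G)⁆, ∃ b ∈ Q ⊓ ⁅Subgroup.normalizer ((H : Subgroup G) : Set G) ⊓ Subgroup.centralizer ((V Q : Subgroup G) : Set G), Subgroup.normalizer ((H : Subgroup G) : Set G) ⊓ Subgroup.centralizer ((V Q : Subgroup G) : Set G)⁆, x = a * b) : ∃ Q : Subgroup G, IsPGroup p ↥Q ∧ ¬ p ∣ Q.index ∧ ∀ x : G, x ∈ Q ⊓ commutator G ↔ ∃ a ∈ Q ⊓ ⁅Subgroup.normalizer ((W Q : Subgroup G) : Set G), Subgroup.normalizer ((W Q : Subgroup G) : Set G)⁆, ∃ b ∈ Q ⊓ ⁅Subgroup.centralizer ((V Q : Subgroup G) : Set G), Subgroup.centralizer ((V Q : Subgroup G) : Set G)⁆, x = a * b := by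
  have hS0 : (P : Subgroup G) ≠ ⊥ := P.ne_bot_of_dvd_card hdiv
  have h := CfsgLib.PLocal.pairTransfer_top P hS0 W V hW hV hWZ hVmono fun U hU1 hU2 => by
    obtain ⟨Q, h1, h2, h3, h4⟩ := hloc U hU1 hU2
    exact ⟨Q, ⟨h1, h2, h3⟩, sup_of_prod h4⟩
  unfold CfsgLib.PLocal.PairTransfer at h
  rw [top_inf_eq, top_inf_eq, ← commutator_def] at h
  refine ⟨P, P.2, P.not_dvd_index, prod_sup ?_ h⟩
  set P' : Subgroup G := (P : Subgroup G) with hP'
  set C := Subgroup.centralizer ((V P' : Subgroup G) : Set G) with hC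
  have hPC : P' ≤ C := fun x hx => Subgroup.mem_centralizer_iff.2 fun v hv =>
    (Subgroup.mem_centralizer_iff.1 (hVZ P' P.2 hv).2 x hx).symm
  intro a ha
  refine Subgroup.mem_normalizer_iff.2 fun z => ?_
  have key : ∀ g ∈ P', ∀ y ∈ P' ⊓ ⁅C, C⁆, g * y * g⁻¹ ∈ P' ⊓ ⁅C, C⁆ := by
    intro g hg y hy
    refine ⟨P'.mul_mem (P'.mul_mem hg hy.1) (P'.inv_mem hg), ?_⟩
    have h1 : ⁅g, y⁆ ∈ ⁅C, C⁆ := Subgroup.commutator_mem_commutator (hPC hg) (hPC hy.1)
    simpa [commutatorElement_def] using mul_mem h1 hy.2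
  constructor
  · intro hz; exact key a ha.1 z hz
  · intro hz
    simpa [mul_assoc] using key a⁻¹ (inv_mem ha.1) _ hz

end Cfsg.Agent.S2001
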