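import Cfsg.Statements.S2002
import Cfsg.Agent.Lib.PLocal.PairControl

set_option autoImplicit false
open Cfsg

namespace Cfsg.Agent.S2002

open CfsgLib.PLocal

/-- From the product form to the chain form. -/
theorem fusRel_of_prod {G : Type*} [Group G] {P : G → Prop} (hP : ∀ x, P x → P x⁻¹) {S X : Set G}
    {a c : G} (hc : ∀ x ∈ X, c⁻¹ * x * c = x) {n : ℕ} {b : Fin n → G} (hb : ∀ i, P (b i))
    (ha : a = c * (List.ofFn b).prod)
    (himg : ∀ k : ℕ, k ≤ n → (fun x => (((List.ofFn b).take k).prod)⁻¹ * x *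
      ((List.ofFn b).take k).prod) '' ((fun x => c⁻¹ * x * c) '' X) ⊆ S) :
    FusRel P S X a⁻¹ := by
  refine fusRel_of_data (c := fun i : Fin (n + 1) => (((List.ofFn b).take (i : ℕ)).prod)⁻¹) ?_ ?_ ?_ ?_
  · simp
  · intro i
    have hlt : (i : ℕ) < (List.ofFn b).length := by simp
    have := List.prod_take_succ (List.ofFn b) (i : ℕ) hlt
    simp only [Fin.val_succ, Fin.val_castSucc, this, List.getElem_ofFn]
    simpa using hP _ (hb i)
  · intro i
    rintro _ ⟨x, hx, rfl⟩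
    exact himg i (Nat.lt_succ_iff.1 i.2) ⟨x, ⟨x, hx, hc x hx⟩, by simp⟩
  · intro x hx
    have hl : (List.ofFn b).take n = List.ofFn b := List.take_of_length_le (by simp)
    show (((List.ofFn b).take n).prod)⁻¹ * x * ((((List.ofFn b).take n).prod)⁻¹)⁻¹ = a⁻¹ * x * a⁻¹⁻¹
    rw [hl, ha]
    conv_lhs => rw [← hc x hx]
    group

/-- From the chain form to the product form. -/
theorem prod_of_fusRel {G : Type*} [Group G] {P : G → Prop} (hP : ∀ x, P x → P x⁻¹) {S X : Set G}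
    {a : G} (h : FusRel P S X a⁻¹) :
    ∃ c ∈ Subgroup.centralizer X, ∃ (n : ℕ) (b : Fin n → G), (∀ i, P (b i)) ∧
      a = c * (List.ofFn b).prod ∧ ∀ k : ℕ, k ≤ n → (fun x => (((List.ofFn b).take k).prod)⁻¹ * x *
        ((List.ofFn b).take k).prod) '' ((fun x => c⁻¹ * x * c) '' X) ⊆ S := by
  obtain ⟨n, d, hd0, hstep, himg, hlast⟩ := h.exists_data
  set b : Fin n → G := fun i => d i.castSucc * (d i.succ)⁻¹ with hb
  have htel : ∀ k (hk : k ≤ n), ((List.ofFn b).take k).prod = (d ⟨k, Nat.lt_succ_of_le hk⟩)⁻¹ := by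
    intro k
    induction k with
    | zero => intro _; simp [show (⟨0, _⟩ : Fin (n + 1)) = 0 from rfl, hd0]
    | succ k ih =>
      intro hk
      have hlt : k < (List.ofFn b).length := by simp; omega
      rw [List.prod_take_succ _ _ hlt, ih (by omega), List.getElem_ofFn]
      simp [hb, Fin.castSucc, Fin.succ, Fin.castAdd, Fin.castLE]
  set c := a * d (Fin.last n) with hc
  have hfix : ∀ x ∈ X, c * x * c⁻¹ = x := by
    intro x hx
    have h1 := hlast x hx
    calc c * x * c⁻¹ = a * (d (Fin.last n) * x * (d (Fin.last n))⁻¹) * a⁻¹ := by simp [hc, mul_assoc]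
      _ = a * (a⁻¹ * x * a⁻¹⁻¹) * a⁻¹ := by rw [h1]
      _ = x := by group
  have hfix' : ∀ x ∈ X, c⁻¹ * x * c = x := by
    intro x hx
    calc c⁻¹ * x * c = c⁻¹ * (c * x * c⁻¹) * c := by rw [hfix x hx]
      _ = x := by group
  refine ⟨c, Subgroup.mem_centralizer_iff.2 fun x hx => ?_, n, b, fun i => ?_, ?_, ?_⟩
  · calc x * c = c * x * c⁻¹ * c := by rw [hfix x hx]
      _ = c * x := by group
  · simpa [hb] using hP _ (hstep i)
  · have hl : (List.ofFn b).take n = List.ofFn b := List.take_of_length_le (by simp)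
    rw [← hl, htel n le_rfl]
    show a = a * d (Fin.last n) * (d (Fin.last n))⁻¹
    group
  · intro k hk
    rintro _ ⟨_, ⟨x, hx, rfl⟩, rfl⟩
    refine himg ⟨k, Nat.lt_succ_of_le hk⟩ ⟨x, hx, ?_⟩
    simp only [htel k hk, hfix' x hx, inv_inv]

/-- Let p be a prime dividing the order of the finite group G, P a Sylow p-subgroup, W a conjugacy functor for p on G with Z(H) ≤ W(H) for every nontrivial p-subgroup H, and V a central functor (a conjugacy functor with V(H) ≤ Z(H), and V(H) ≤ V(K) whenever Z(H) ≤ Z(K)). Say that W with V controls strong fusion in a subgroup L when some Sylow p-subgroup Q of L has the property: whenever X ⊆ Q and a ∈ L with a⁻¹Xa ⊆ Q, then a = c b with c ∈ C_L(X) and b = b₁ ⋯ bₙ a product of elements each in N_L(W(Q)) or in C_L(V(Q)) such that every partial conjugate (b₁ ⋯ bₖ)⁻¹ X (b₁ ⋯ bₖ) lies in Q. If W with V controls strong fusion in N_G(H) for every subgroup H with Z(P) ≤ H ≤ P, then W with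 V controls strong fusion in G. -/
theorem result {G : Type*} [Group G] [Finite G] {p : ℕ} [Fact p.Prime] (hdiv : p ∣ Nat.card G) (P : Sylow p G) (W V : Subgroup G → Subgroup G) (hW : Cfsg.IsConjugacyFunctor p W) (hV : Cfsg.IsConjugacyFunctor p V) (hWZ : ∀ H : Subgroup G, IsPGroup p ↥H → H ⊓ Subgroup.centralizer ((H : Subgroup G) : Set G) ≤ W H) (hVZ : ∀ H : Subgroup G, IsPGroup p ↥H → V H ≤ H ⊓ Subgroup.centralizer ((H : Subgroup G) : Set G)) (hVmono : ∀ H K : Subgroup G, IsPGroup p ↥H → IsPGroup p ↥K → H ≠ ⊥ → K ≠ ⊥ → H ⊓ Subgroup.centralizer ((H : Subgroup G) : Set G) ≤ K ⊓ Subgroup.centralizer ((K : Subgroup G) : Set G) → V H ≤ V K) (hloc : ∀ H : Subgroup G, (P : Subgroup G) ⊓ Subgroup.centralizer (((P : Subgroup G) : Subgroup G) : Set G) ≤ H → H ≤ (P : Subgroup G) → ∃ Q : Subgroup G, Q ≤ Subgroup.normalizer ((H : Subgroup G) : Set G) ∧ IsPGroup p ↥Q ∧ ¬ p ∣ (Q).relIndex (Subgroup.normalizer ((H : Subgroup G) : Set G))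 ∧ ∀ (X : Set G) (a : G), X ⊆ Q → a ∈ Subgroup.normalizer ((H : Subgroup G) : Set G) → (fun x => a⁻¹ * x * a) '' X ⊆ Q → ∃ c ∈ Subgroup.normalizer ((H : Subgroup G) : Set G) ⊓ Subgroup.centralizer X, ∃ (n : ℕ) (b : Fin n → G), (∀ i, b i ∈ Subgroup.normalizer ((H : Subgroup G) : Set G) ⊓ Subgroup.normalizer ((W Q : Subgroup G) : Set G) ∨ b i ∈ Subgroup.normalizer ((H : Subgroup G) : Set G) ⊓ Subgroup.centralizer ((V Q : Subgroup G) : Set G)) ∧ a = c * (List.ofFn b).prod ∧ ∀ k : ℕ, k ≤ n → (fun x => (((List.ofFn b).take k).prod)⁻¹ * x * ((List.ofFn b).take k).prod) '' ((fun x => c⁻¹ * x * c) '' X) ⊆ Q) : ∃ Q : Subgroup G, IsPGroup p ↥Q ∧ ¬ p ∣ Q.index ∧ ∀ (X : Set G) (a : G), X ⊆ Q → (fun x => a⁻¹ * x * a) '' X ⊆ Q → ∃ c ∈ Subgroup.centralizer X, ∃ (n : ℕ) (b : Fin n → G), (∀ i, b i ∈ ⊤ ⊓ Subgroup.normalizer ((W Q : Subgroup G) : Set G) ∨ b i ∈ ⊤ ⊓ Subgroup.centralizer ((V Q : Subgroup G) : Set G)) ∧ a = c * (List.ofFn b).prod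 ∧ ∀ k : ℕ, k ≤ n → (fun x => (((List.ofFn b).take k).prod)⁻¹ * x * ((List.ofFn b).take k).prod) '' ((fun x => c⁻¹ * x * c) '' X) ⊆ Q := by
  have hS0 : (P : Subgroup G) ≠ ⊥ := P.ne_bot_of_dvd_card hdiv
  have h := CfsgLib.PLocal.pairFusion_top P hS0 W V hW hV hWZ hVmono fun U hU1 hU2 => by
    obtain ⟨Q, h1, h2, h3, h4⟩ := hloc U hU1 hU2
    refine ⟨Q, ⟨h1, h2, h3⟩, fun A y hy hA hyA => ?_⟩
    obtain ⟨c, hc, n, b, hb, ha, himg⟩ := h4 A y⁻¹ hA (inv_mem hy) (by simpa using hyA)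
    have := fusRel_of_prod (P := PairStep W V (Subgroup.normalizer (U : Set G)) Q) (fun _ h => h.inv)
      (fun x hx => by rw [mul_assoc, Subgroup.mem_centralizer_iff.1 hc.2 x hx, inv_mul_cancel_left])
      hb ha himg
    rwa [inv_inv] at this
  refine ⟨P, P.2, P.not_dvd_index, fun X a hX haX => ?_⟩
  exact prod_of_fusRel (P := PairStep W V ⊤ (P : Subgroup G)) (fun _ h => h.inv)
    (h X a⁻¹ (Subgroup.mem_top _) hX (by simpa [lconj] using haX))

end Cfsg.Agent.S2002
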