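import Cfsg.Statements.S2007
import Cfsg.Agent.Lib.Transfer.Frobenius

set_option autoImplicit false
open Cfsg
open scoped commutatorElement

namespace Cfsg.Agent.S2007

/-- Let p be a prime, G a finite group with Sylow p-subgroup S, and T a normal subgroup of S containing C_S(T). If N_G(T)/C_G(T) is a p-group (every element of N_G(T) of order prime to p centralizes T), then N_G(T) has a normal p-complement. -/
theorem result {G : Type*} [Group G] [Finite G] {p : ℕ} [Fact p.Prime] (S : Sylow p G) (T : Subgroup G) (hTS : T ≤ (S : Subgroup G)) (hTn : (S : Subgroup G) ≤ Subgroup.normalizer ((T : Subgroup G) : Set G)) (hC : (S : Subgroup G) ⊓ Subgroup.centralizer ((T : Subgroup G) : Set G) ≤ T) (hN : ∀ g ∈ Subgroup.normalizer ((T : Subgroup G) : Set G), (orderOf g).Coprime p → g ∈ Subgroup.centralizer ((T : Subgroup G) : Set G)) : Cfsg.HasNormalPComplement p ↥(Subgroup.normalizer ((T : Subgroup G) : Set G)) := by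
  set N := Subgroup.normalizer ((T : Subgroup G) : Set G) with hNdef
  let K := (Subgroup.centralizer ((T : Subgroup G) : Set G)).subgroupOf N
  have hKn : K.Normal := by
    refine ⟨fun c hc n => Subgroup.mem_subgroupOf.2 (Subgroup.mem_centralizer_iff.2 fun t ht => ?_)⟩
    have h1 := Subgroup.mem_centralizer_iff.1 (Subgroup.mem_subgroupOf.1 hc) _
      ((Subgroup.mem_normalizer_iff''.1 n.2 t).1 ht)
    simp only [Subgroup.coe_mul, InvMemClass.coe_inv]
    calc t * ((n : G) * c * (n : G)⁻¹) = n * ((n : G)⁻¹ * t * n * c) * (n : G)⁻¹ := by group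
      _ = n * ((c : G) * ((n : G)⁻¹ * t * n)) * (n : G)⁻¹ := by rw [h1]
      _ = _ := by group
  let P : Sylow p N := S.subtype hTn
  obtain ⟨SK, hSK⟩ := CfsgLib.Transfer.exists_sylow_eq_subgroupOf P K
  have hcomm : ∀ x : K, x ∈ (SK : Subgroup K) → ∀ y : K, x * y = y * x := by
    intro x hx y
    rw [hSK] at hx
    have hxT : ((x : N) : G) ∈ T := hC ⟨hx, x.2⟩
    exact Subtype.ext (Subtype.ext (Subgroup.mem_centralizer_iff.1 y.2 _ hxT))
  have hK : Cfsg.HasNormalPComplement p K :=
    CfsgLib.Transfer.hasNormalPComplement_of_normalizer_le_centralizer SK fun g _ =>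
      Subgroup.mem_centralizer_iff.2 fun x hx => hcomm x hx g
  rw [CfsgLib.Transfer.hasNormalPComplement_iff_coprime_pResidual] at hK ⊢
  refine hK.coprime_dvd_left ?_
  rw [← Subgroup.card_map_of_injective (f := K.subtype) K.subtype_injective]
  refine Subgroup.card_dvd_of_le ?_
  rw [Cfsg.pResidual, Subgroup.closure_le]
  intro g hg
  have hgK : g ∈ K := hN g g.2 (by rwa [Subgroup.orderOf_coe])
  exact ⟨⟨g, hgK⟩, CfsgLib.Transfer.mem_pResidual_of_coprime (by simpa using hg), rfl⟩

end Cfsg.Agent.S2007
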