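import Cfsg.Statements.S2008


set_option autoImplicit false
set_option linter.style.haveILetI false
open Cfsg

namespace Cfsg.Agent.S2008

open Subgroup in
/-- An involution acting fixed-point-freely on a finite subgroup inverts it. -/
theorem inverts {H : Type*} [Group H] [Finite H] {z : H} (hz : z * z = 1) {N : Subgroup H} [hN : N.Normal]
    (h : N ⊓ centralizer ({z} : Set H) = ⊥) {x : H} (hx : x ∈ N) : z * x * z = x⁻¹ := by
  have hzi : z⁻¹ = z := inv_eq_of_mul_eq_one_left hz
  have hmem : ∀ n ∈ N, z * n * z ∈ N := fun n hn => by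
    have h1 := hN.conj_mem n hn z
    rwa [hzi] at h1
  let f : N → N := fun n => ⟨(n : H)⁻¹ * (z * n * z), mul_mem (inv_mem n.2) (hmem _ n.2)⟩
  have hf : Function.Injective f := by
    intro a b hab
    have h1 : (a : H)⁻¹ * (z * a * z) = (b : H)⁻¹ * (z * b * z) := congrArg Subtype.val hab
    have h2 : z * ((b : H) * (a : H)⁻¹) * z⁻¹ = (b : H) * (a : H)⁻¹ := by
      calc z * ((b : H) * (a : H)⁻¹) * z⁻¹ = (z * b * z) * (z * (a : H) * z)⁻¹ := by
            group
        _ = (b : H) * ((b : H)⁻¹ * (z * b * z)) * ((a : H) * ((a : H)⁻¹ * (z * a * z)))⁻¹ := by group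
        _ = (b : H) * ((b : H)⁻¹ * (z * b * z)) * ((a : H) * ((b : H)⁻¹ * (z * b * z)))⁻¹ := by rw [h1]
        _ = _ := by group
    have h3 : (b : H) * (a : H)⁻¹ ∈ N ⊓ centralizer ({z} : Set H) := by
      refine mem_inf.2 ⟨mul_mem b.2 (inv_mem a.2), mem_centralizer_singleton_iff.2 ?_⟩
      exact (mul_inv_eq_iff_eq_mul.1 h2).symm
    rw [h, mem_bot, mul_inv_eq_one] at h3
    exact Subtype.ext h3.symm
  obtain ⟨n, hn⟩ := Finite.surjective_of_injective hf ⟨x, hx⟩
  have hn' : (n : H)⁻¹ * (z * n * z) = x := congrArg Subtype.val hn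
  calc z * x * z = z * (n : H)⁻¹ * z * n * (z * z) := by rw [← hn']; group
    _ = z⁻¹ * (n : H)⁻¹ * z⁻¹ * n := by rw [hz, hzi, mul_one]
    _ = _ := by rw [← hn']; group

/-- Let H be a finite group and z an involution such that every proper normal subgroup of H meets the centralizer of z trivially, and suppose z lies in a Klein four-subgroup E of H all three of whose involutions are conjugate to z in H. Then H has no non-trivial abelian normal subgroup. -/
theorem result {H : Type*} [Group H] [Finite H] (z : H) (hz : orderOf z = 2) (hN : ∀ N : Subgroup H, N.Normal → N ≠ ⊤ → N ⊓ Subgroup.centralizer ({z} : Set H) = ⊥) (E : Subgroup H) (hE : IsKleinFour ↥E) (hzE : z ∈ E) (hc : ∀ e ∈ E, e ≠ 1 → IsConj z e) (N : Subgroup H) [N.Normal] (hab : IsMulCommutative ↥N) : N = ⊥ := by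
  open Subgroup in
  have hzz : z * z = 1 := by rw [← pow_two, ← hz]; exact pow_orderOf_eq_one z
  obtain ⟨a, ha, hane⟩ : ∃ a : E, a ≠ ⟨z, hzE⟩ ∧ a ≠ 1 := by
    classical
    by_contra hcon
    push Not at hcon
    have h4 := hE.card_four
    haveI := Fintype.ofFinite E
    have h2 : (Finset.univ : Finset E) ⊆ {⟨z, hzE⟩, 1} := fun a _ => by
      by_cases e : a = ⟨z, hzE⟩
      · simp [e]
      · simp [hcon a e]
    have h3 := (Finset.card_le_card h2).trans Finset.card_le_two
    rw [Finset.card_univ, ← Nat.card_eq_fintype_card, h4] at h3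
    omega
  obtain ⟨g, hg⟩ := isConj_iff.1 (hc a a.2 (fun e => hane (Subtype.ext e)))
  by_cases htop : N = ⊤
  · exfalso
    apply ha
    refine Subtype.ext ?_
    rw [← hg]
    have h1 : g * z = z * g := congrArg Subtype.val
      (hab.is_comm.comm (⟨g, htop ▸ mem_top g⟩ : N) ⟨z, htop ▸ mem_top z⟩)
    change g * z * g⁻¹ = z
    rw [h1, mul_inv_cancel_right]
  have hNz := hN N inferInstance htop
  have hconjf : ∀ k : H, ∀ x ∈ N, (k * z * k⁻¹) * x * (k * z * k⁻¹) = x⁻¹ := by
    intro k x hx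
    have hx' : k⁻¹ * x * k ∈ N := by simpa using (inferInstance : N.Normal).conj_mem x hx k⁻¹
    have h1 := inverts hzz hNz hx'
    calc (k * z * k⁻¹) * x * (k * z * k⁻¹) = k * (z * (k⁻¹ * x * k) * z) * k⁻¹ := by group
      _ = _ := by rw [h1]; group
  have hza : z * (a : H) ≠ 1 := by
    intro e
    exact ha (Subtype.ext ((inv_eq_of_mul_eq_one_right e).symm.trans (inv_eq_of_mul_eq_one_left hzz)))
  obtain ⟨k, hk⟩ := isConj_iff.1 (hc _ (mul_mem hzE a.2) hza)
  rw [eq_bot_iff]
  intro x hx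
  have haa : (a : H) = g * z * g⁻¹ := hg.symm
  have h2 : (a : H) * x * a = x⁻¹ := by rw [haa]; exact hconjf g x hx
  have h3 : z * x⁻¹ * z = x := by simpa using inverts hzz hNz (inv_mem hx)
  have haa' : (a : H) * a = 1 := by
    rw [haa]
    calc g * z * g⁻¹ * (g * z * g⁻¹) = g * (z * z) * g⁻¹ := by group
      _ = 1 := by rw [hzz]; group
  have h4 : (k * z * k⁻¹) * x = x * (k * z * k⁻¹) := by
    rw [hk]
    calc z * (a : H) * x = z * ((a : H) * x * a) * (a : H)⁻¹ := by group
      _ = z * x⁻¹ * a := by rw [h2, inv_eq_of_mul_eq_one_left haa']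
      _ = z * x⁻¹ * (z * z) * a := by rw [hzz, mul_one]
      _ = (z * x⁻¹ * z) * (z * a) := by group
      _ = x * (z * a) := by rw [h3]
  have h5 : k⁻¹ * x * k ∈ N ⊓ centralizer ({z} : Set H) := by
    refine mem_inf.2 ⟨by simpa using (inferInstance : N.Normal).conj_mem x hx k⁻¹, mem_centralizer_singleton_iff.2 ?_⟩
    calc k⁻¹ * x * k * z = k⁻¹ * (x * (k * z * k⁻¹)) * k := by group
      _ = k⁻¹ * ((k * z * k⁻¹) * x) * k := by rw [h4]
      _ = _ := by group
  rw [hNz, mem_bot] at h5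
  rw [mem_bot]
  calc x = k * (k⁻¹ * x * k) * k⁻¹ := by group
    _ = 1 := by rw [h5]; group

end Cfsg.Agent.S2008
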