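import Cfsg.Statements.S2009
import Cfsg.Agent.S2008

set_option autoImplicit false
set_option linter.style.haveILetI false
open Cfsg

namespace Cfsg.Agent.S2009

/-- Let H be a finite group and z an involution such that every proper normal subgroup of H meets the centralizer of z trivially, and suppose z lies in a Klein four-subgroup E of H all three of whose involutions are conjugate to z in H. Then H is simple. -/
theorem result {H : Type*} [Group H] [Finite H] (z : H) (hz : orderOf z = 2) (hN : ∀ N : Subgroup H, N.Normal → N ≠ ⊤ → N ⊓ Subgroup.centralizer ({z} : Set H) = ⊥) (E : Subgroup H) (hE : IsKleinFour ↥E) (hzE : z ∈ E) (hc : ∀ e ∈ E, e ≠ 1 → IsConj z e) : IsSimpleGroup H := by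
  open Subgroup in
  have hzz : z * z = 1 := by rw [← pow_two, ← hz]; exact pow_orderOf_eq_one z
  haveI : Nontrivial H := nontrivial_of_ne z 1 fun e => by rw [e, orderOf_one] at hz; omega
  refine ⟨fun N hn => ?_⟩
  by_cases htop : N = ⊤
  · exact Or.inr htop
  haveI := hn
  refine Or.inl (Cfsg.Agent.S2008.result z hz hN E hE hzE hc N ⟨⟨fun a b => Subtype.ext ?_⟩⟩)
  have hNz := hN N hn htop
  have ha := Cfsg.Agent.S2008.inverts hzz hNz a.2
  have hb := Cfsg.Agent.S2008.inverts hzz hNz b.2
  have hab := Cfsg.Agent.S2008.inverts hzz hNz (mul_mem a.2 b.2)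
  have h1 : (a : H)⁻¹ * (b : H)⁻¹ = ((a : H) * b)⁻¹ := by
    rw [← ha, ← hb, ← hab]
    calc z * (a : H) * z * (z * b * z) = z * a * (z * z) * b * z := by group
      _ = _ := by rw [hzz]; group
  change (a : H) * b = b * a
  calc (a : H) * b = (((a : H) * b)⁻¹)⁻¹ := by group
    _ = ((a : H)⁻¹ * (b : H)⁻¹)⁻¹ := by rw [h1]
    _ = _ := by group

end Cfsg.Agent.S2009
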