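import Cfsg.Statements.S2011
import Cfsg.Agent.Lib.Fusion.GroupFusion
import Cfsg.Agent.Lib.Transfer.Frobenius
import Cfsg.Agent.Lib.Comp.Local

set_option autoImplicit false
open Cfsg
open scoped commutatorElement Pointwise

namespace Cfsg.Agent.S2011

/-- Let G be a finite group with Sylow p-subgroup P and Q ≤ P. Then Q is centric in the fusion system of G on P (C_P(R) ≤ R for every G-conjugate R of Q lying in P) if and only if C_G(Q) is the internal direct product of Z(Q) = Q ∩ C_G(Q) and the largest normal subgroup of C_G(Q) of order prime to p. -/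
theorem result {G : Type*} [Group G] [Finite G] (p : ℕ) [Fact p.Prime] (P : Sylow p G) (Q : Subgroup G) (hQ : Q ≤ P) : (Cfsg.groupFusionSystem (P : Subgroup G)).IsCentric Q ↔ Cfsg.IsInternalDirectProduct (Q ⊓ Subgroup.centralizer (Q : Set G)) ((Cfsg.pPrimeCore p ↥(Subgroup.centralizer (Q : Set G))).map (Subgroup.centralizer (Q : Set G)).subtype) (Subgroup.centralizer (Q : Set G)) := by
  set C := Subgroup.centralizer (Q : Set G) with hC
  have hOcop := CfsgLib.Comp.coprime_card_pPrimeCore p C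
  haveI := Cfsg.pPrimeCore_normal p C
  have hZcomm : ∀ a ∈ Q ⊓ C, ∀ b ∈ C, a * b = b * a := fun a ha b hb =>
    Subgroup.mem_centralizer_iff.1 hb a ha.1
  constructor
  · rintro ⟨-, hcen⟩
    obtain ⟨R⟩ : Nonempty (Sylow p C) := inferInstance
    set R' := (R : Subgroup C).map C.subtype with hR'
    have hRC : R' ≤ C := Subgroup.map_subtype_le _
    obtain ⟨T, hT⟩ := ((P.2.to_le hQ).to_sup_of_normal_left' (R.2.map C.subtype)
      (hRC.trans (Subgroup.centralizer_le_normalizer _))).exists_le_sylow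
    obtain ⟨g, hg⟩ := MulAction.exists_smul_eq G T P
    have hgP : ∀ x ∈ Q ⊔ R', g * x * g⁻¹ ∈ (P : Subgroup G) := fun x hx => by
      show g * x * g⁻¹ ∈ (P : Subgroup G)
      rw [← hg, Sylow.coe_subgroup_smul, Subgroup.mem_pointwise_smul_iff_inv_smul_mem, ← map_inv,
        MulAut.smul_def, MulAut.conj_apply]
      simpa [mul_assoc] using hT hx
    have hconj := hcen (CfsgLib.Fusion.conjSub g Q) ((CfsgLib.Fusion.group_isConj_iff P).2
      ⟨hQ, by rintro _ ⟨x, hx, rfl⟩; exact hgP x (Subgroup.mem_sup_left hx), g, rfl⟩)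
    have hRQ : R' ≤ Q ⊓ C := by
      refine le_inf (fun r hr => ?_) hRC
      have h1 : g * r * g⁻¹ ∈ CfsgLib.Fusion.conjSub g Q := by
        refine hconj ⟨hgP r (Subgroup.mem_sup_right hr), Subgroup.mem_centralizer_iff.2 ?_⟩
        rintro _ ⟨x, hx, rfl⟩
        show g * x * g⁻¹ * (g * r * g⁻¹) = g * r * g⁻¹ * (g * x * g⁻¹)
        have h := Subgroup.mem_centralizer_iff.1 (hRC hr) x hx
        calc g * x * g⁻¹ * (g * r * g⁻¹) = g * (x * r) * g⁻¹ := by group
          _ = g * (r * x) * g⁻¹ := by rw [h]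
          _ = _ := by group
      obtain ⟨x, hx, he⟩ := h1
      have : x = r := mul_left_cancel (mul_right_cancel (he : g * x * g⁻¹ = g * r * g⁻¹))
      exact this ▸ hx
    have hZ : ((Q ⊓ C).subgroupOf C) = (R : Subgroup C) := by
      refine R.3 ((P.2.to_le (inf_le_left.trans hQ)).comap_subtype) fun x hx => ?_
      exact hRQ ⟨x, hx, rfl⟩
    have hB : Cfsg.HasNormalPComplement p C :=
      CfsgLib.Transfer.hasNormalPComplement_of_normalizer_le_centralizer R fun n _ =>
        Subgroup.mem_centralizer_iff.2 fun x hx => Subtype.ext (hZcomm _ (hRQ ⟨x, hx, rfl⟩) _ n.2)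
    obtain ⟨N, hN, hc⟩ := (CfsgLib.Transfer.hasNormalPComplement_iff_exists_isComplement' R).1 hB
    have hNO : N ≤ Cfsg.pPrimeCore p C := le_sSup ⟨hN, by
      refine CfsgLib.Transfer.coprime_card_of_inf_sylow_eq_bot R ?_
      exact hc.disjoint.eq_bot⟩
    refine ⟨inf_le_right, Subgroup.map_subtype_le _, fun a ha b hb =>
      hZcomm a ha b (Subgroup.map_subtype_le _ hb), ?_, ?_⟩
    · rw [eq_bot_iff, ← Subgroup.map_bot C.subtype,
        ← CfsgLib.Comp.inf_eq_bot_of_isPGroup R.2 hOcop]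
      rintro x ⟨hx, y, hy, rfl⟩
      exact ⟨y, ⟨hZ ▸ (Subgroup.mem_subgroupOf.2 hx), hy⟩, rfl⟩
    · have htop : (Q ⊓ C).subgroupOf C ⊔ Cfsg.pPrimeCore p C = ⊤ :=
        top_le_iff.1 (hc.sup_eq_top.ge.trans (sup_le (hNO.trans le_sup_right) (hZ ▸ le_sup_left)))
      have := congrArg (Subgroup.map C.subtype) htop
      rwa [Subgroup.map_sup, Subgroup.map_subgroupOf_eq_of_le inf_le_right, ← MonoidHom.range_eq_map,
        Subgroup.range_subtype] at this
  · rintro ⟨-, -, hcomm, -, hsup⟩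
    refine ⟨hQ, fun Q' hQ' x hx => ?_⟩
    obtain ⟨-, -, g, rfl⟩ := (CfsgLib.Fusion.group_isConj_iff P).1 hQ'
    have hy : g⁻¹ * x * g ∈ C := Subgroup.mem_centralizer_iff.2 fun q hq => by
      have h : g * q * g⁻¹ * x = x * (g * q * g⁻¹) :=
        Subgroup.mem_centralizer_iff.1 hx.2 _ ⟨q, hq, rfl⟩
      calc q * (g⁻¹ * x * g) = g⁻¹ * (g * q * g⁻¹ * x) * g := by group
        _ = g⁻¹ * (x * (g * q * g⁻¹)) * g := by rw [h]
        _ = _ := by group
    rw [← hsup] at hy
    obtain ⟨z, hz, o, ho, he⟩ : ∃ z ∈ Q ⊓ C,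
        ∃ o ∈ (Cfsg.pPrimeCore p C).map C.subtype, z * o = g⁻¹ * x * g := by
      have h : g⁻¹ * x * g ∈ ((Q ⊓ C : Subgroup G) : Set G) *
          (((Cfsg.pPrimeCore p C).map C.subtype : Subgroup G) : Set G) := by
        rw [← Subgroup.coe_mul_of_right_le_normalizer_left _ _
          (le_trans (fun o ho => Subgroup.mem_centralizer_iff.2 fun a ha => hcomm a ha o ho)
            (Subgroup.centralizer_le_normalizer _))]
        exact hy
      obtain ⟨z, hz, o, ho, h⟩ := h
      exact ⟨z, hz, o, ho, h⟩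
    obtain ⟨k, hk⟩ := P.2 ⟨x, hx.1⟩
    obtain ⟨l, hl⟩ := P.2 ⟨z, hQ hz.1⟩
    have hk' : x ^ (p ^ k) = 1 := congrArg Subtype.val hk
    have hl' : z ^ (p ^ l) = 1 := congrArg Subtype.val hl
    have ho1 : o = 1 := by
      have h1 : (z * o) ^ (p ^ (k + l)) = 1 := by
        rw [he, show g⁻¹ * x * g = g⁻¹ * x * g⁻¹⁻¹ by rw [inv_inv], conj_pow, pow_add, pow_mul, hk',
          one_pow, mul_one, mul_inv_cancel]
      rw [(show Commute z o from hcomm z hz o ho).mul_pow, add_comm, pow_add, pow_mul z, hl', one_pow,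
        one_mul, ← pow_add] at h1
      have h2 : (orderOf o).Coprime p := by
        refine hOcop.coprime_dvd_left ?_
        rw [← Subgroup.card_map_of_injective (K := Cfsg.pPrimeCore p C) C.subtype_injective]
        exact Subgroup.orderOf_dvd_natCard _ ho
      exact orderOf_eq_one_iff.1
        (Nat.eq_one_of_dvd_coprimes (h2.pow_right (l + k)) dvd_rfl (orderOf_dvd_of_pow_eq_one h1))
    rw [ho1, mul_one] at he
    refine ⟨z, hz.1, ?_⟩
    show g * z * g⁻¹ = x
    rw [he]; group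

end Cfsg.Agent.S2011
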