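import Cfsg.Statements.S2014
import Cfsg.Agent.Lib.Transfer.Frobenius

set_option autoImplicit false
open Cfsg
open scoped commutatorElement

namespace Cfsg.Agent.S2014

theorem exists_res_conj_le {G : Type*} [Group G] [Finite G] {p : ℕ} [Fact p.Prime]
    (N : Subgroup G) (R : Subgroup G) (hRN : R ≤ N) (hR : IsPGroup p R) (hi : ¬ p ∣ R.relIndex N)
    (Q : Subgroup G) (hQN : Q ≤ N) (hQ : IsPGroup p Q) :
    ∃ k ∈ (Cfsg.pResidual p N).map N.subtype, ∀ q ∈ Q, k * q * k⁻¹ ∈ R := by
  have := CfsgLib.Transfer.pResidual_normal (p := p) (G := N)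
  let S : Sylow p N := (hR.comap_of_injective N.subtype N.subtype_injective).toSylow hi
  obtain ⟨T, hT⟩ := (hQ.comap_of_injective N.subtype N.subtype_injective).exists_le_sylow
  obtain ⟨n, hn⟩ := MulAction.exists_smul_eq N T S
  obtain ⟨u, hu, c, hc, rfl⟩ := CfsgLib.Transfer.exists_mem_sylow_mul S
    (C := Cfsg.pResidual p N) (fun g hg => CfsgLib.Transfer.mem_pResidual_of_coprime hg) n
  refine ⟨(c : G), ⟨c, hc, rfl⟩, fun q hq => ?_⟩
  have hq' : (u * c) * ⟨q, hQN hq⟩ * (u * c)⁻¹ ∈ S := by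
    rw [← hn, CfsgLib.Transfer.sylow_smul_mem_iff]
    have : (⟨q, hQN hq⟩ : N) ∈ T := hT hq
    simpa [mul_assoc] using this
  have h2 : (c * ⟨q, hQN hq⟩ * c⁻¹ : N) ∈ S := by
    have := S.1.mul_mem (S.1.mul_mem (S.1.inv_mem hu) hq') hu
    change c * ⟨q, hQN hq⟩ * c⁻¹ ∈ (S : Subgroup N)
    simpa [mul_assoc] using this
  exact h2

/-- Let P be a Sylow p-subgroup of a finite group G and A, C ≤ P subgroups conjugate in G, with C extremal: N_P(C) is a Sylow p-subgroup of N_G(C). Then there is g with gAg⁻¹ = C and g N_P(A) g⁻¹ ≤ N_P(C); moreover, given any h with hAh⁻¹ = C, g can be chosen so that h g⁻¹ lies in O^p(N_G(C)), the subgroup of N_G(C) generated by its elements of order prime to p. -/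
theorem result {G : Type*} [Group G] [Finite G] (p : ℕ) [Fact p.Prime] (P : Sylow p G) (A C : Subgroup G) (hA : A ≤ P) (hC : C ≤ P) (hext : ¬ p ∣ ((P : Subgroup G) ⊓ Subgroup.normalizer ((C : Subgroup G) : Set G)).relIndex (Subgroup.normalizer ((C : Subgroup G) : Set G))) (h : G) (hh : A.map (MulAut.conj h).toMonoidHom = C) : ∃ g : G, A.map (MulAut.conj g).toMonoidHom = C ∧ ((P : Subgroup G) ⊓ Subgroup.normalizer ((A : Subgroup G) : Set G)).map (MulAut.conj g).toMonoidHom ≤ (P : Subgroup G) ⊓ Subgroup.normalizer ((C : Subgroup G) : Set G) ∧ h * g⁻¹ ∈ (Cfsg.pResidual p ↥(Subgroup.normalizer ((C : Subgroup G) : Set G))).map (Subgroup.normalizer ((C : Subgroup G) : Set G)).subtype := by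
  have hN : C ≤ Subgroup.normalizer ((C : Subgroup G) : Set G) := Subgroup.le_normalizer
  set R := (P : Subgroup G) ⊓ Subgroup.normalizer ((C : Subgroup G) : Set G) with hR
  set Q := ((P : Subgroup G) ⊓ Subgroup.normalizer ((A : Subgroup G) : Set G)).map
    (MulAut.conj h).toMonoidHom with hQ
  have hQN : Q ≤ Subgroup.normalizer ((C : Subgroup G) : Set G) := by
    rw [hQ, ← hh]
    refine le_trans (Subgroup.map_mono inf_le_right) ?_
    exact Subgroup.le_normalizer_map _
  obtain ⟨k, hk, hkQ⟩ := exists_res_conj_le _ R inf_le_right (P.2.to_le inf_le_left) hext Q hQN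
    ((P.2.to_le inf_le_left).map _)
  have hkN : k ∈ Subgroup.normalizer ((C : Subgroup G) : Set G) :=
    Subgroup.map_subtype_le _ hk
  refine ⟨k * h, ?_, ?_, ?_⟩
  · rw [map_mul, show (MulAut.conj k * MulAut.conj h).toMonoidHom =
      (MulAut.conj k).toMonoidHom.comp (MulAut.conj h).toMonoidHom from rfl, ← Subgroup.map_map, hh]
    exact Subgroup.mem_normalizer_iff_map_conj_eq.1 hkN
  · rintro _ ⟨q, hq, rfl⟩
    have := hkQ _ ⟨q, hq, rfl⟩
    simpa [mul_assoc] using this
  · rw [mul_inv_rev, mul_inv_cancel_left]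
    exact Subgroup.inv_mem _ hk

end Cfsg.Agent.S2014
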