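import Cfsg.Statements.S2029
import Cfsg.Agent.Lib.KlingerMason.Exist
-- import your own Cfsg.Agent.* helpers here

set_option autoImplicit false
open Cfsg

namespace Cfsg.Agent.S2029

/-- Let p be an odd prime and G a finite group that is both of local characteristic p (p divides its order and every p-local subgroup N satisfies C_N(O_p(N)) ≤ O_p(N)) and of characteristic 2 type (even order and every 2-local subgroup M satisfies C_M(O_2(M)) ≤ O_2(M)). Then every 2-local subgroup of G has p-rank at most 2. -/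
theorem result {G : Type*} [Group G] [Finite G] (p : ℕ) [Fact p.Prime] (hp : p ≠ 2) (hGp : Cfsg.IsOfLocalCharacteristic p G) (hG2 : Cfsg.IsCharacteristicTwoType G) : Cfsg.TwoLocalPRankLE p 2 G := by
  rintro H ⟨T, hT, hT1, rfl⟩
  set N := Subgroup.normalizer (T : Set G)
  intro A0 hAc0 hAe0
  by_contra hlt
  have hP : CfsgLib.KlingerMason.LocChar p G := hGp.2
  have h2 : CfsgLib.KlingerMason.LocChar 2 G := hG2.2
  have hAN : A0.map N.subtype ≤ N := Subgroup.map_subtype_le A0
  have hAe : ∀ a ∈ A0.map N.subtype, a ^ p = 1 := by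
    rintro _ ⟨a, ha, rfl⟩
    simpa using congrArg Subtype.val (hAe0 a ha)
  have hAc : IsMulCommutative (A0.map N.subtype) := by
    constructor; constructor
    rintro ⟨_, a, ha, rfl⟩ ⟨_, b, hb, rfl⟩
    exact Subtype.ext (congrArg (fun x : A0 => ((x : N) : G)) (hAc0.is_comm.comm ⟨a, ha⟩ ⟨b, hb⟩))
  have hcard : p ^ 3 ≤ Nat.card ↥(A0.map N.subtype) := by
    rw [Subgroup.card_map_of_injective N.subtype_injective]
    obtain ⟨n, hn⟩ := IsPGroup.iff_card.1 (CfsgLib.KlingerMason.isPGroup_of_exp hAe0)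
    rw [hn] at hlt ⊢
    refine Nat.pow_le_pow_right (Fact.out : p.Prime).pos ?_
    by_contra hn3
    exact hlt (Nat.pow_le_pow_right (Fact.out : p.Prime).pos (by omega))
  obtain ⟨w, E, hw, hEc, hEe, hE, hEw⟩ := CfsgLib.KlingerMason.exists_rank_three_centralizer hp hP h2 hT hT1
    hAN hAc hAe hcard
  have huni := CfsgLib.KlingerMason.unique_central hp hP h2 hw hEc hEe hE hEw
  obtain ⟨E', hE'E, hE'c, hE'e, hE'⟩ := CfsgLib.KlingerMason.exists_card_cube hEc hEe hE
  obtain ⟨a, s, ha, hat, has, hsQ, hs, hst, hsc⟩ := CfsgLib.KlingerMason.exists_second hp h2 hw hE'c hE'e hE'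
    fun e he => hEw e (hE'E he)
  exact CfsgLib.KlingerMason.second_case hp hP h2 hw huni ha hat has hsQ hs hst hsc

end Cfsg.Agent.S2029
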