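import Cfsg.Statements.S2071
import Cfsg.Agent.Lib.Golay.Co3Out
import Cfsg.Agent.Lib.Comp.PComponentEquiv

set_option autoImplicit false
open Cfsg

namespace Cfsg.Agent.S2071

open CfsgLib.Golay in
theorem leechV_neg : Spor.leechV = -fiveV :=
  Subtype.ext (funext (by decide +kernel : ∀ i, Spor.vecV i = -five i))

open CfsgLib.Golay in
theorem mem_sporCo3_iff {g : Equiv.Perm leechLattice} :
    g ∈ Spor.Co3 ↔ ∃ h : g ∈ Co0, (⟨g, h⟩ : Co0) ∈ MulAction.stabilizer Co0 fiveV := by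
  constructor
  · rintro ⟨h0, hV⟩
    refine ⟨h0, ?_⟩
    have h' : (⟨g, h0⟩ : Co0) • Spor.leechV = Spor.leechV := hV
    rwa [leechV_neg, co0_neg, neg_inj] at h'
  · rintro ⟨h0, h⟩
    refine ⟨h0, ?_⟩
    show (⟨g, h0⟩ : Co0) • Spor.leechV = Spor.leechV
    rw [leechV_neg, co0_neg, MulAction.mem_stabilizer_iff.1 h]

open CfsgLib.Golay in
/-- The identification with the stabiliser of `fiveV`. -/
noncomputable def co3Equiv : MulAction.stabilizer Co0 fiveV ≃* Spor.Co3 where
  toFun g := ⟨g.1.1, mem_sporCo3_iff.2 ⟨g.1.2, g.2⟩⟩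
  invFun g := ⟨⟨g.1, (mem_sporCo3_iff.1 g.2).choose⟩, (mem_sporCo3_iff.1 g.2).choose_spec⟩
  left_inv _ := rfl
  right_inv _ := rfl
  map_mul' _ _ := rfl

/-- The outer automorphism group of the Conway group Co₃ (the stabiliser of a vector of the second shortest length in the rank-24 lattice) is trivial: every automorphism is inner. -/
theorem result : Nat.card (Cfsg.Out ↥Cfsg.Spor.Co3) = 1 := by
  haveI : Finite (MulAction.stabilizer Co0 CfsgLib.Golay.fiveV) :=
    Nat.finite_of_card_ne_zero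
      (by rw [CfsgLib.Golay.card_stab48 CfsgLib.Golay.fiveV_norm]; norm_num)
  haveI : Finite Spor.Co3 := Finite.of_equiv _ co3Equiv.toEquiv
  obtain ⟨e⟩ := CfsgLib.Comp.out_congr co3Equiv
  rw [← Nat.card_congr e.toEquiv]
  exact CfsgLib.Golay.Co3Out.card_out_G3

end Cfsg.Agent.S2071
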