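import Cfsg.Statements.S2045
import Cfsg.Agent.Lib.KnownA.Co3Schur
import Cfsg.Agent.S2071

set_option autoImplicit false
open Cfsg

namespace Cfsg.Agent.S2045

/-- The Schur multiplier of the Conway group Co₃ (the stabiliser of a vector of the second shortest length in the rank-24 lattice) is trivial; here the Schur multiplier is described through stem extensions, as in the definitions: surjective homomorphisms onto the group from a finite group, whose kernel is central in that finite group and contained in that finite group's commutator subgroup. -/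
theorem result : Cfsg.HasCyclicSchurMultiplier ↥Cfsg.Spor.Co3 1 := by
  haveI : Finite CfsgLib.Golay.Co3Out.G3 :=
    Nat.finite_of_card_ne_zero (by rw [CfsgLib.Golay.Co3Out.card_G3]; norm_num)
  let e := Cfsg.Agent.S2071.co3Equiv
  haveI : Finite ↥Cfsg.Spor.Co3 := Finite.of_equiv _ e.toEquiv
  refine CfsgLib.KnownA.hasCyclicSchurMultiplier_one fun Γ _ _ σ hσ => ?_
  have hk : (e.symm.toMonoidHom.comp σ).ker = σ.ker :=
    MonoidHom.ker_comp_of_injective _ _ e.symm.injective
  have hσ' : Cfsg.IsStemExtension (e.symm.toMonoidHom.comp σ) :=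
    ⟨e.symm.surjective.comp hσ.1, hk.trans_le hσ.2.1, hk.trans_le hσ.2.2⟩
  obtain ⟨π, hπ⟩ := CfsgLib.KnownA.SchurCert.Co3Cert.multiplier_G3.2 Γ _ hσ'
  rw [← hk, Subgroup.eq_bot_iff_forall]
  intro x hx
  obtain ⟨a, ha⟩ := hπ ⟨x, hx⟩
  rw [Subsingleton.elim a 1, map_one] at ha
  exact (congrArg Subtype.val ha).symm

end Cfsg.Agent.S2045
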