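import Cfsg.Statements.S2047
import Cfsg.Agent.Lib.KnownA.McLSchur.Main
import Cfsg.Agent.S2073

set_option autoImplicit false
open Cfsg

namespace Cfsg.Agent.S2047

/-- The Schur multiplier of the McLaughlin group (as a two-vector stabiliser in the automorphism group of the rank-24 lattice) is cyclic of order 3; here the Schur multiplier is described through stem extensions, as in the definitions: surjective homomorphisms onto the group from a finite group, whose kernel is central in that finite group and contained in that finite group's commutator subgroup. -/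
theorem result : Cfsg.HasCyclicSchurMultiplier ↥Cfsg.Spor.McL 3 := by
  haveI : Finite CfsgLib.Golay.mclGroup :=
    Nat.finite_of_card_ne_zero (by rw [CfsgLib.Golay.card_mclGroup]; norm_num)
  let e := Cfsg.Agent.S2073.mclEquiv
  haveI : Finite ↥Cfsg.Spor.McL := Finite.of_equiv _ e.toEquiv
  obtain ⟨Γ, _, _, τ, hτ, h3⟩ := CfsgLib.KnownA.SchurCert.McLCert.exists_stem_three
  have hk : (e.toMonoidHom.comp τ).ker = τ.ker := MonoidHom.ker_comp_of_injective _ _ e.injective
  have hτ' : Cfsg.IsStemExtension (e.toMonoidHom.comp τ) :=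
    ⟨e.surjective.comp hτ.1, hk.trans_le hτ.2.1, hk.trans_le hτ.2.2⟩
  refine CfsgLib.Schur.hasCyclicSchurMultiplier_of_bound' hτ'
    (hk ▸ Nat.dvd_antisymm (CfsgLib.KnownA.SchurCert.McLCert.bound Γ τ hτ).2 h3) fun Δ _ _ σ hσ => ?_
  have hk' : (e.symm.toMonoidHom.comp σ).ker = σ.ker :=
    MonoidHom.ker_comp_of_injective _ _ e.symm.injective
  have hσ' : Cfsg.IsStemExtension (e.symm.toMonoidHom.comp σ) :=
    ⟨e.symm.surjective.comp hσ.1, hk'.trans_le hσ.2.1, hk'.trans_le hσ.2.2⟩
  exact hk' ▸ CfsgLib.KnownA.SchurCert.McLCert.bound Δ _ hσ'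

end Cfsg.Agent.S2047
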