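import Cfsg.Statements.S2087
import Cfsg.Agent.Lib.KnownA.MultQuot
import Cfsg.Agent.Lib.KnownA.SL2Borel
import Cfsg.Agent.Lib.Classical.ExcIsoSeven
import Cfsg.Agent.Lib.Classical.SLOrder

set_option autoImplicit false
open Cfsg

namespace Cfsg.Agent.S2087

theorem psl_seven.{v} (F : Type v) [Field F] [Fintype F] (hF : Fintype.card F = 2) :
    ∃ (K : Type) (_ : Field K) (_ : Fintype K), Fintype.card K = 7 ∧
      Nonempty (Matrix.ProjectiveSpecialLinearGroup (Fin 2) K ≃*
        Matrix.ProjectiveSpecialLinearGroup (Fin 3) F) := by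
  have : Fact (Nat.Prime 7) := ⟨by norm_num⟩
  have : Fact (Nat.Prime 2) := ⟨Nat.prime_two⟩
  obtain ⟨e⟩ := CfsgLib.Classical.psl_two_seven_equiv
  exact ⟨ZMod 7, inferInstance, inferInstance, ZMod.card 7, ⟨e.trans
    (CfsgLib.Classical.centerQuotCongr (CfsgLib.Classical.slCongr
      (ZMod.ringEquivOfPrime F Nat.prime_two hF)))⟩⟩

/-- Exceptional Schur multiplier: over the field with 2 elements, PSL₃ has Schur multiplier cyclic of order 2 (here the Schur multiplier is described through stem extensions, as in the definitions). -/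
theorem result {F : Type*} [Field F] [Fintype F] (hF : Fintype.card F = 2) : Cfsg.HasCyclicSchurMultiplier (Matrix.ProjectiveSpecialLinearGroup (Fin 3) F) 2 := by
  obtain ⟨K, _, _, hK, ⟨e⟩⟩ := psl_seven F hF
  have : Fact (Nat.Prime 7) := ⟨by norm_num⟩
  let X := Matrix.SpecialLinearGroup (Fin 2) K
  let τ : X →* Matrix.ProjectiveSpecialLinearGroup (Fin 3) F :=
    e.toMonoidHom.comp (QuotientGroup.mk' _)
  have hker : τ.ker = Subgroup.center X := by
    ext x
    rw [MonoidHom.mem_ker, MonoidHom.comp_apply, MulEquiv.coe_toMonoidHom, map_eq_one_iff e e.injective,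
      QuotientGroup.mk'_apply, QuotientGroup.eq_one_iff]
  have hperf : commutator X = ⊤ := by
    classical
    obtain ⟨a, -, ha⟩ := Finset.exists_mem_notMem_of_card_lt_card (s := ({0, 1, -1} : Finset K))
      (t := Finset.univ) (by
        have := Finset.card_le_three (a := (0 : K)) (b := 1) (c := -1)
        rw [Finset.card_univ, hK]; omega)
    simp only [Finset.mem_insert, Finset.mem_singleton, not_or] at ha
    refine Matrix.SL2.commutator_eq_top ha.1 fun h => ?_
    rcases sq_eq_one_iff.1 h with h | h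
    · exact ha.2.1 h
    · exact ha.2.2 h
  have hτ : Cfsg.IsStemExtension τ :=
    ⟨e.surjective.comp (QuotientGroup.mk'_surjective _), hker.le, by rw [hperf]; exact le_top⟩
  have hc : Nat.card τ.ker = 2 := by
    rw [hker, CfsgLib.Classical.card_center_sl, hK, Fintype.card_fin]
    rfl
  refine CfsgLib.KnownA.hasCyclicSchurMultiplier_of_cover hτ 2 hc ?_ ?_
  · exact isCyclic_of_prime_card (p := 2) hc
  · exact CfsgLib.KnownA.hasCyclicSchurMultiplier_one fun Γ _ _ σ hσ =>
      CfsgLib.KnownA.SL2Stem.stem_sl2_trivial (by omega) (by omega) hσ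

end Cfsg.Agent.S2087
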