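import Cfsg.Statements.S2088
import Cfsg.Agent.Lib.KnownA.M21Multiplier
import Cfsg.Agent.Lib.Perm.MathieuPlane
import Cfsg.Agent.Lib.Geom.DicksonPSL
-- import your own Cfsg.Agent.* helpers here

set_option autoImplicit false
open Cfsg

namespace Cfsg.Agent.S2088

/-- Exceptional Schur multiplier: over the field with 4 elements, PSL₃ has Schur multiplier isomorphic to the product of cyclic groups of orders 3, 4 and 4 (order 48, not cyclic; here the Schur multiplier is described through stem extensions, as in the definitions). -/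
theorem result {F : Type*} [Field F] [Fintype F] (hF : Fintype.card F = 4) : Cfsg.HasSchurMultiplier (Matrix.ProjectiveSpecialLinearGroup (Fin 3) F) (Multiplicative (ZMod 3 × ZMod 4 × ZMod 4)) := by
  have : Fact (Nat.Prime 2) := ⟨Nat.prime_two⟩
  let _ : Fintype (GaloisField 2 2) := Fintype.ofFinite _
  have h0 : Fintype.card (GaloisField 2 2) = 4 := by
    rw [← Nat.card_eq_fintype_card, GaloisField.card 2 2 (by norm_num)]
    norm_num
  obtain ⟨e⟩ := CfsgLib.Perm.MathieuPlane.plane_equiv h0
  exact CfsgLib.Schur.hasSchurMultiplier_of_mulEquiv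
    (e.trans (CfsgLib.Geom.Moebius.pslCongr (FiniteField.ringEquivOfCardEq (h0.trans hF.symm))))
    CfsgLib.KnownA.M21Schur.multiplier_fix21

end Cfsg.Agent.S2088
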