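import Cfsg.Statements.S2094
import Cfsg.Agent.Lib.KnownA.OrthMultKer
import Cfsg.Agent.Lib.KnownA.OrthPPlus
-- import your own Cfsg.Agent.* helpers here

set_option autoImplicit false
open Cfsg

namespace Cfsg.Agent.S2094

/-- Schur multipliers of the odd-dimensional orthogonal groups: for m ≥ 3 and a field F of odd order q with (m, q) ≠ (3, 3), the Schur multiplier of PΩ_(2m+1)(F) (for the form x₀² + Σ xᵢyᵢ) is cyclic of order 2 = gcd(2, q − 1); here the Schur multiplier is described through stem extensions, as in the definitions. -/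
theorem result {F : Type*} [Field F] [Fintype F] {q : ℕ} (hF : Fintype.card F = q) (hq : Odd q) (m : ℕ) (hm : 3 ≤ m) (hexc : ¬ (m = 3 ∧ q = 3)) : Cfsg.HasCyclicSchurMultiplier (Cfsg.POmega F (Cfsg.quadFormOdd m F)) 2 := by
  subst hF
  obtain ⟨p, _⟩ := CharP.exists F
  haveI : Fact p.Prime := ⟨CharP.char_is_prime F p⟩
  have h2 : (2 : F) ≠ 0 := fun h => by
    have := CfsgLib.KnownA.OrthBound.card_mod (F := F) h
    rw [Nat.odd_iff] at hq
    omega
  obtain ⟨k, rfl⟩ : ∃ k, m = k + 3 := ⟨m - 3, by omega⟩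
  rw [← CfsgLib.Classical.qfOdd_coe]
  have hQ := CfsgLib.Classical.qfOdd_sep (F := F) h2 (k + 3)
  have h7 : 7 ≤ Fintype.card (Unit ⊕ (Fin (k + 3) ⊕ Fin (k + 3))) := by simp; omega
  have D : CfsgLib.KnownA.OrthMult.Data p (CfsgLib.Classical.qfOdd (k + 3) F) :=
    ⟨CfsgLib.KnownA.OrthPKills.mfree_odd p h2 k (fun h h' => hexc ⟨by omega, h'⟩),
      CfsgLib.KnownA.OrthStd.sbound_odd p h2 (k + 1), ⟨CfsgLib.KnownA.OrthStd.frameOdd h2 k⟩⟩
  refine CfsgLib.KnownA.OrthMult.hasCyclic_small _ hQ h7 D ?_ dvd_rfl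
  rw [CfsgLib.KnownA.OrthMult.card_kernel _ hQ h7 D, CfsgLib.KnownA.OrthMult.gcd_two_odd h2,
    CfsgLib.Classical.card_center_omega_one _ hQ (by omega) (Or.inr ?_)]
  rintro ⟨g, hg, e⟩
  have h1 : g.1.1.det = 1 := congrArg Units.val
    (CfsgLib.Geom.omega_le_special _ hg : Matrix.GeneralLinearGroup.det g.1 = 1)
  rw [e, Matrix.det_neg, Matrix.det_one, mul_one, Odd.neg_one_pow (by simp [parity_simps])] at h1
  exact h2 (by linear_combination -h1)

end Cfsg.Agent.S2094
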