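import Cfsg.Statements.S2097
import Cfsg.Agent.Lib.KnownA.OrthMultPlus
-- import your own Cfsg.Agent.* helpers here

set_option autoImplicit false
open Cfsg

namespace Cfsg.Agent.S2097

/-- Schur multipliers of the even-dimensional orthogonal groups of plus type and even rank: for even l ≥ 4 and a field F with q elements, (l, q) ≠ (4, 2), the Schur multiplier of PΩ⁺_2l(F) (for the form Σ xᵢyᵢ) is the product of two cyclic groups of order gcd(2, q^l − 1) (so trivial for q even and a four-group for q odd; here the Schur multiplier is described through stem extensions, as in the definitions). -/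
theorem result {F : Type*} [Field F] [Fintype F] {q : ℕ} (hF : Fintype.card F = q) (l : ℕ) (hl : 4 ≤ l) (heven : Even l) (hexc : ¬ (l = 4 ∧ q = 2)) : Cfsg.HasSchurMultiplier (Cfsg.POmega F (Cfsg.quadFormPlus l F)) (Multiplicative (ZMod (Nat.gcd 2 (q ^ l - 1)) × ZMod (Nat.gcd 2 (q ^ l - 1)))) := by
  subst hF
  obtain ⟨p, _⟩ := CharP.exists F
  haveI : Fact p.Prime := ⟨CharP.char_is_prime F p⟩
  obtain ⟨k, rfl⟩ : ∃ k, l = k + 4 := ⟨l - 4, by omega⟩
  have hl2 : (k + 4) % 2 = 0 := Nat.even_iff.1 heven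
  rw [← CfsgLib.Classical.qfPlus_coe]
  have hQ := CfsgLib.Classical.qfPlus_sep (F := F) (k + 4)
  have h7 : 7 ≤ Fintype.card (Fin (k + 4) ⊕ Fin (k + 4)) := by simp; omega
  have D := CfsgLib.KnownA.OrthMult.data_plus (F := F) p k fun h => hexc ⟨by omega, h.2⟩
  have hq1 := Fintype.one_lt_card (α := F)
  have hpos : 0 < Fintype.card F ^ (k + 4) := pow_pos (by omega) _
  by_cases h2 : (2 : F) = 0
  · have hqe := CfsgLib.KnownA.OrthBound.card_mod (F := F) h2
    have hev : Fintype.card F ^ (k + 4) % 2 = 0 := by rw [Nat.pow_mod, hqe]; simp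
    have hg : Nat.gcd 2 (Fintype.card F ^ (k + 4) - 1) = 1 :=
      Nat.coprime_two_left.2 (Nat.odd_iff.2 (by omega))
    rw [hg]
    haveI := CfsgLib.KnownA.OrthSpin.finite_spin (CfsgLib.Classical.qfPlus (k + 4) F) hQ
    have hk := CfsgLib.KnownA.OrthMult.kernel_one _ hQ h7 D h2 (by omega)
    haveI := (Nat.card_eq_one_iff_unique.1 hk).1
    haveI : IsCyclic (Multiplicative (ZMod 1 × ZMod 1)) := isCyclic_of_subsingleton
    haveI : IsCyclic (CfsgLib.KnownA.OrthMult.τ (CfsgLib.Classical.qfPlus (k + 4) F) hQ h7).ker :=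
      isCyclic_of_subsingleton
    exact CfsgLib.KnownA.OrthMult.hasSchurMultiplier_pOmega hQ h7 D
      (mulEquivOfCyclicCardEq (hk.trans (by simp)))
  have hodd' : Fintype.card F % 2 = 1 :=
    FiniteField.odd_card_of_char_ne_two (CfsgLib.Geom.ringChar_ne_two_of_ne h2)
  have hev : Fintype.card F ^ (k + 4) % 2 = 1 := by rw [Nat.pow_mod, hodd']; simp
  rw [Nat.gcd_eq_left (show 2 ∣ Fintype.card F ^ (k + 4) - 1 by omega)]
  obtain ⟨γ, hsq, hγ⟩ := CfsgLib.KnownA.OrthMult.exists_negAll (F := F) (m := k + 4) (k := (k + 4) / 2) (by omega)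
  exact CfsgLib.KnownA.OrthMult.hasFourGroup _ hQ h7 D h2 hγ hsq

end Cfsg.Agent.S2097
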