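import Cfsg.Statements.S2102
import Cfsg.Agent.Lib.InvChar.G2FourStem
import Cfsg.Agent.Lib.InvChar.G2FourCover
import Cfsg.Agent.Lib.Recog.G2FourModule
import Cfsg.Agent.Lib.Coprime.SchurAbelian

set_option autoImplicit false
open Cfsg

namespace Cfsg.Agent.S2102

/-- Exceptional Schur multiplier: over the field with 4 elements the Chevalley group of type G₂ has Schur multiplier cyclic of order 2 (here the Schur multiplier is described through stem extensions, as in the definitions). -/
theorem result {F : Type*} [Field F] [Fintype F] (hF : Fintype.card F = 4) : Cfsg.HasCyclicSchurMultiplier ↥(Cfsg.Lie.chevG2.group F) 2 := by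
  open CfsgLib.InvChar in
  exact by
    obtain ⟨e₁⟩ := CfsgLib.Recog.G2Four.nonempty_pre_equiv
    obtain ⟨e₂⟩ := CfsgLib.Recog.G2Four.nonempty_group_congr
      (FiniteField.ringEquivOfCardEq (K := FQ4) (K' := F) (FQ4.card_eq.trans hF.symm))
    let e : SporSuzG2.Pre ≃* ↥(Cfsg.Lie.chevG2.group F) := e₁.trans e₂
    have : Finite ↥(Cfsg.Lie.chevG2.group F) :=
      Nat.finite_of_card_ne_zero (by rw [← Nat.card_congr e.toEquiv, SporSuzG2.card_eq.1]; norm_num)
    obtain ⟨τ, hτ, hcard⟩ := G2FourCover.exists_stem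
    have hk : (e.toMonoidHom.comp τ).ker = τ.ker := by
      ext x
      simp [MonoidHom.mem_ker]
    refine CfsgLib.Schur.hasCyclicSchurMultiplier_of_bound' (τ := e.toMonoidHom.comp τ)
      ⟨e.surjective.comp hτ.1, hk ▸ hτ.2.1, hk ▸ hτ.2.2⟩ (by rw [hk, hcard])
      fun Γ _ _ σ hσ => G2FourStem.bound hF Γ σ hσ

end Cfsg.Agent.S2102
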