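import Cfsg.Statements.S2112
import Cfsg.Agent.Lib.InvChar.SzEightCover
import Cfsg.Agent.Lib.Suzuki.Model

set_option autoImplicit false
open Cfsg

namespace Cfsg.Agent.S2112

/-- Exceptional Schur multiplier: the Suzuki group Sz(8), built over the field with 8 elements using the map x ↦ x⁴, has Schur multiplier a four-group, the product of two cyclic groups of order 2 (here the Schur multiplier is described through stem extensions, as in the definitions). -/
theorem result {F : Type*} [Field F] [Fintype F] (hF : Fintype.card F = 8) : Cfsg.HasSchurMultiplier ↥(Cfsg.Lie.Sz F 4) (Multiplicative (ZMod 2 × ZMod 2)) := by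
  haveI : CharP F 2 := charP_of_card_eq_prime_pow (p := 2) (f := 3) (by rw [hF]; norm_num)
  have hF' : Fintype.card F = 2 ^ (2 * 1 + 1) := CfsgLib.InvChar.SzEight.card_eight hF
  let e := CfsgLib.Suzuki.szEquiv (F := F) (m := 1) le_rfl hF'
  obtain ⟨w, hw⟩ := CfsgLib.InvChar.SzEight.exists_root (F := F) hF
  obtain ⟨τ, hτ, hcard⟩ := CfsgLib.InvChar.SzEight.exists_cover hw hF
  have hbound : ∀ {Γ : Type _} [Group Γ] [Finite Γ] (σ : Γ →* ↥(Cfsg.Lie.Sz F 4)), Cfsg.IsStemExtension σ →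
      ∃ π : Multiplicative (ZMod 2 × ZMod 2) →* σ.ker, Function.Surjective π := fun {Γ} _ _ σ hσ => by
    have hker : (e.symm.toMonoidHom.comp σ).ker = σ.ker := by
      ext x
      exact e.symm.map_eq_one_iff
    obtain ⟨π, hπ⟩ := CfsgLib.InvChar.SzEight.bound (σ := e.symm.toMonoidHom.comp σ) hF
      ⟨e.symm.surjective.comp hσ.1, hker ▸ hσ.2.1, hker ▸ hσ.2.2⟩
    exact ⟨(MulEquiv.subgroupCongr hker).toMonoidHom.comp π, (MulEquiv.subgroupCongr hker).surjective.comp hπ⟩
  have hke : (e.toMonoidHom.comp τ).ker = τ.ker := by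
    ext x
    exact e.map_eq_one_iff
  let σ : ULift.{u_1} CfsgLib.InvChar.SzEight.pres.Grp →* ↥(Cfsg.Lie.Sz F 4) :=
    (e.toMonoidHom.comp τ).comp (MulEquiv.ulift : ULift.{u_1} _ ≃* _).toMonoidHom
  have hσ : Cfsg.IsStemExtension σ := CfsgLib.Schur.isStemExtension_comp_equiv MulEquiv.ulift
    (⟨e.surjective.comp hτ.1, hke ▸ hτ.2.1, hke ▸ hτ.2.2⟩ : Cfsg.IsStemExtension (e.toMonoidHom.comp τ))
  refine ⟨⟨_, inferInstance, inferInstance, σ, hσ, ?_⟩, fun Γ _ _ σ hσ => hbound σ hσ⟩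
  obtain ⟨π, hπ⟩ := hbound σ hσ
  have hc : Nat.card σ.ker = 4 := by
    have h1 : Nat.card σ.ker = Nat.card (e.toMonoidHom.comp τ).ker :=
      Nat.card_congr (MulEquiv.ulift.toEquiv.subtypeEquiv fun x => Iff.rfl)
    exact h1.trans ((Nat.card_congr (MulEquiv.subgroupCongr hke).toEquiv).trans hcard)
  exact ⟨(MulEquiv.ofBijective π (hπ.bijective_of_nat_card_le (by
    rw [hc, Nat.card_congr Multiplicative.toAdd, Nat.card_prod, Nat.card_zmod]))).symm⟩

end Cfsg.Agent.S2112
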