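import Cfsg.Statements.S2126
import Cfsg.Agent.Lib.Suzuki.Out
import Cfsg.Agent.Lib.Suzuki.Model
import Cfsg.Agent.Lib.KnownC.FieldAut

set_option autoImplicit false
open Cfsg

namespace Cfsg.Agent.S2126

/-- Outer automorphisms of the Suzuki groups: for q = 2^(2m+1) with m ≥ 1 the outer automorphism group of Sz(q) has order 2m + 1 (field automorphisms only). -/
theorem result {F : Type*} [Field F] [Fintype F] {m : ℕ} (hm : 1 ≤ m) (hF : Fintype.card F = 2 ^ (2 * m + 1)) : Nat.card (Cfsg.Out ↥(Cfsg.Lie.Sz F (2 ^ (m + 1)))) = 2 * m + 1 := by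
  haveI : CharP F 2 := charP_of_card_eq_prime_pow hF
  haveI : Fact (Nat.Prime 2) := ⟨Nat.prime_two⟩
  rw [← (CfsgLib.KnownC.exists_zmod_mulEquiv_ringAut hF).1, ← CfsgLib.Suzuki.card_out_sz hm hF]
  let e := CfsgLib.Suzuki.szEquiv hm hF
  have hInn : Cfsg.Inn ↥(Cfsg.Lie.Sz F (2 ^ (m + 1))) =
      (Cfsg.Inn ↥(Cfsg.Sz F m)).map (MulAut.congr e).toMonoidHom := by
    ext ψ
    constructor
    · rintro ⟨g, rfl⟩
      refine ⟨MulAut.conj (e.symm g), ⟨_, rfl⟩, MulEquiv.ext fun x => ?_⟩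
      show e (e.symm g * e.symm x * (e.symm g)⁻¹) = g * x * g⁻¹
      rw [map_mul, map_mul, map_inv, e.apply_symm_apply, e.apply_symm_apply]
    · rintro ⟨_, ⟨g, rfl⟩, rfl⟩
      refine ⟨e g, MulEquiv.ext fun x => ?_⟩
      show e g * x * (e g)⁻¹ = e (g * e.symm x * g⁻¹)
      rw [map_mul, map_mul, map_inv, e.apply_symm_apply]
  show (Cfsg.Inn ↥(Cfsg.Lie.Sz F (2 ^ (m + 1)))).index = (Cfsg.Inn ↥(Cfsg.Sz F m)).index
  rw [hInn]
  exact Subgroup.index_map_of_bijective (MulAut.congr e).bijective _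

end Cfsg.Agent.S2126
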