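import Cfsg.Statements.S2133
import Cfsg.Agent.Lib.Mathieu.TransvectionIso

set_option autoImplicit false
open Cfsg

namespace Cfsg.Agent.S2133

/-- The Mathieu group M₂₄ (the automorphism group of the length-24 binary code) has an involution whose centraliser is isomorphic to the centraliser of a transvection in SL(5, 2) (a group of shape 2^{1+6}:GL(3, 2)). -/
theorem result (s : Matrix.SpecialLinearGroup (Fin 5) (ZMod 2)) (hs : (s : Matrix (Fin 5) (Fin 5) (ZMod 2)) = Matrix.transvection 0 1 1) : ∃ z : ↥Cfsg.M24, orderOf z = 2 ∧ Nonempty (↥(Subgroup.centralizer ({z} : Set ↥Cfsg.M24)) ≃* ↥(Subgroup.centralizer ({s} : Set (Matrix.SpecialLinearGroup (Fin 5) (ZMod 2))))) := by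
  classical
  open CfsgLib.Mathieu CfsgLib.Golay in
  have hT : oiT ∈ oiC := (oiT_mem).1
  open CfsgLib.Mathieu CfsgLib.Golay in
  have hM : oiT ∈ Cfsg.M24 := (mem_oiC.1 hT).1
  open CfsgLib.Mathieu CfsgLib.Golay in
  exact by
    set z : ↥Cfsg.M24 := ⟨oiT, hM⟩
    have hinj : Function.Injective svSL := fun a b h =>
      svHom_injective (congrArg Subtype.val h)
    have hval : svSL ⟨oiT, hT⟩ = s := Subtype.ext ((oiT_value hT).trans hs.symm)
    have hzC : ∀ x : oiC, (⟨(x : Equiv.Perm GolayPt), (mem_oiC.1 x.2).1⟩ : ↥Cfsg.M24) ∈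
        Subgroup.centralizer ({z} : Set ↥Cfsg.M24) := fun x => by
      rw [Subgroup.mem_centralizer_singleton_iff]
      exact Subtype.ext (mem_oiC.1 x.2).2
    let e : oiC ≃* ↥(Subgroup.centralizer ({z} : Set ↥Cfsg.M24)) :=
      { toFun := fun x => ⟨_, hzC x⟩
        invFun := fun y => ⟨((y : ↥Cfsg.M24) : Equiv.Perm GolayPt), mem_oiC.2 ⟨(y : ↥Cfsg.M24).2,
          congrArg Subtype.val (Subgroup.mem_centralizer_singleton_iff.1 y.2)⟩⟩
        left_inv := fun x => rfl
        right_inv := fun y => rfl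
        map_mul' := fun x y => rfl }
    have hc : ∀ x : oiC, svSL x ∈ Subgroup.centralizer
        ({s} : Set (Matrix.SpecialLinearGroup (Fin 5) (ZMod 2))) := fun x => by
      rw [Subgroup.mem_centralizer_singleton_iff, ← hval, ← map_mul, ← map_mul]
      exact congrArg svSL (Subtype.ext (mem_oiC.1 x.2).2)
    let φ := svSL.codRestrict _ hc
    have hφ : Function.Injective φ := fun a b h => hinj (congrArg Subtype.val h)
    have hcard : 21504 ≤ Nat.card oiC := by
      have hK : oiK0 ≤ oiC := fun σ hσ => by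
        obtain ⟨⟨h1, -⟩, h2⟩ := mem_commFix.1 hσ
        exact mem_oiC.2 ⟨h1, h2 tOct (List.mem_singleton_self _)⟩
      have := Nat.card_le_card_of_injective (fun p : oiQ0 × oiK0 =>
        (⟨(p.1 : Equiv.Perm GolayPt) * p.2, Subgroup.mul_mem _ p.1.2.1 (hK p.2.2)⟩ : oiC)) (by
          rintro ⟨⟨a, ha⟩, ⟨b, hb⟩⟩ ⟨⟨a', ha'⟩, ⟨b', hb'⟩⟩ h
          have h' : a * b = a' * b' := congrArg Subtype.val h
          have e2 : a'⁻¹ * a = b' * b⁻¹ := by
            rw [eq_mul_inv_iff_mul_eq, mul_assoc, h', inv_mul_cancel_left]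
          have e3 := oiQ0_inf_K0 (Subgroup.mul_mem _ (Subgroup.inv_mem _ ha') ha)
            (e2 ▸ Subgroup.mul_mem _ hb' (Subgroup.inv_mem _ hb))
          obtain rfl := inv_mul_eq_one.1 e3
          obtain rfl := mul_left_cancel h'
          rfl)
      rwa [Nat.card_prod, oiQ0_card, oiK0_card] at this
    have hb : Function.Bijective φ := (Nat.bijective_iff_injective_and_card φ).2
      ⟨hφ, le_antisymm (Nat.card_le_card_of_injective φ hφ)
        ((card_transvection_centralizer_le s hs).trans hcard)⟩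
    refine ⟨z, orderOf_eq_prime ?_ (fun h => oiT_ne (congrArg Subtype.val h)),
      ⟨e.symm.trans (MulEquiv.ofBijective φ hb)⟩⟩
    have h2 : svSL ⟨oiT, hT⟩ ^ 2 = 1 := by
      rw [hval]
      apply Subtype.ext
      rw [Matrix.SpecialLinearGroup.coe_pow, hs]
      decide +kernel
    rw [← map_pow, ← map_one svSL] at h2
    have h3 := congrArg Subtype.val (hinj h2)
    apply Subtype.ext
    simpa [z] using h3

end Cfsg.Agent.S2133
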