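import Cfsg.Statements.S2136
import Cfsg.Agent.Lib.Golay.E8Co2

set_option autoImplicit false
open Cfsg

namespace Cfsg.Agent.S2136

/-- The Conway group Co₂ (the stabiliser of a minimal vector of the rank-24 lattice) has an involution whose centraliser C has largest normal 2-subgroup extraspecial of order 2^9 with quotient C / O₂(C) isomorphic to the symplectic group Sp(6, 2) (shape 2^{1+8}Sp(6, 2)). -/
theorem result : ∃ t : ↥Cfsg.Spor.Co2, orderOf t = 2 ∧ Cfsg.IsExtraspecial 2 (Cfsg.pCore 2 ↥(Subgroup.centralizer ({t} : Set ↥Cfsg.Spor.Co2))) ∧ Nat.card (Cfsg.pCore 2 ↥(Subgroup.centralizer ({t} : Set ↥Cfsg.Spor.Co2))) = 2 ^ 9 ∧ Nonempty (↥(Subgroup.centralizer ({t} : Set ↥Cfsg.Spor.Co2)) ⧸ Cfsg.pCore 2 ↥(Subgroup.centralizer ({t} : Set ↥Cfsg.Spor.Co2)) ≃* Matrix.symplecticGroup (Fin 3) (ZMod 2)) := by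
  let e := CfsgLib.Golay.E8Cent.cent2Equiv
  have h1 : (Cfsg.pCore 2 (Subgroup.centralizer ({CfsgLib.Golay.E8Cent.t2} : Set Cfsg.Spor.Co2))).map
      e.toMonoidHom = CfsgLib.Golay.E8Cent.rho2.ker := by
    rw [CfsgLib.Solvable.map_pCore_equiv e 2, CfsgLib.Golay.E8Cent.pCore_H2]
  let e1 := (e.subgroupMap (Cfsg.pCore 2
    (Subgroup.centralizer ({CfsgLib.Golay.E8Cent.t2} : Set Cfsg.Spor.Co2)))).trans
      ((MulEquiv.subgroupCongr h1).trans CfsgLib.Golay.E8Cent.ker2Equiv)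
  refine ⟨_, CfsgLib.Golay.E8Cent.t2_order,
    CfsgLib.Golay.E8Cent.extraspecial_congr e1.symm CfsgLib.Golay.E8Cent.K0_extraspecial, ?_, ?_⟩
  · rw [Nat.card_congr e1.toEquiv]
    exact CfsgLib.Golay.E8Cent.card_K0
  · haveI := CfsgLib.Solvable.pCore_normal 2
      (Subgroup.centralizer ({CfsgLib.Golay.E8Cent.t2} : Set Cfsg.Spor.Co2))
    exact ⟨(QuotientGroup.congr _ _ e h1).trans
      (QuotientGroup.quotientKerEquivOfSurjective _ CfsgLib.Golay.E8Cent.rho2_surjective)⟩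

end Cfsg.Agent.S2136
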