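import Cfsg.Statements.S2141
import Cfsg.Agent.Lib.Classical.SpIdxMain
import Cfsg.Agent.Lib.Classical.SpIdxAttain

set_option autoImplicit false
open Cfsg

namespace Cfsg.Agent.S2141

/-- Minimal index of a proper subgroup of the symplectic groups over fields with at least 3 elements: for m ≥ 2 and a field F with q ≥ 3 elements, (m, q) ≠ (2, 3), every proper subgroup of PSp_2m(F) has index at least (q^(2m) − 1)/(q − 1), and that index is attained. -/
theorem result {F : Type*} [Field F] [Fintype F] {q : ℕ} (hF : Fintype.card F = q) (m : ℕ) (hm : 2 ≤ m) (hq : 3 ≤ q) (hexc : ¬ (m = 2 ∧ q = 3)) : (∀ H : Subgroup (Cfsg.PSp m F), H ≠ ⊤ → (q ^ (2 * m) - 1) / (q - 1) ≤ H.index) ∧ (∃ H : Subgroup (Cfsg.PSp m F), H.index = (q ^ (2 * m) - 1) / (q - 1)) := by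
  classical
  subst hF
  refine ⟨fun H hH => CfsgLib.Classical.SpIdx.psp_lower m _ ?_ H hH, ?_⟩
  · intro X _ _ _ hk
    have hd : Module.finrank F (Fin m ⊕ Fin m → F) = 2 * m := by
      rw [Module.finrank_fintype_fun_eq_card, Fintype.card_sum, Fintype.card_fin]; ring
    have : Nontrivial (Fin m ⊕ Fin m → F) := Module.nontrivial_of_finrank_pos (R := F) (by omega)
    obtain ⟨R⟩ := CfsgLib.Classical.SpIdx.exists_frame
      (B := CfsgLib.Geom.sympBilin m F) CfsgLib.Geom.sympBilin_self CfsgLib.Geom.sympBilin_sep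
    have h := R.card_ge (X := X) hk (by rw [Nat.card_eq_fintype_card]; exact hq) (by omega)
      (fun h3 => by
        rw [Nat.card_eq_fintype_card] at h3
        have : m ≠ 2 := fun h2 => hexc ⟨h2, h3⟩
        omega)
    have hW := R.finrank_W
    have e : Fintype.card F * Fintype.card F * Nat.card R.W = Fintype.card F ^ (2 * m) := by
      rw [Module.natCard_eq_pow_finrank (K := F) (V := R.W), Nat.card_eq_fintype_card, ← sq,
        ← pow_add]
      congr 1
      omega
    rw [Nat.card_eq_fintype_card (α := F), e] at h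
    exact Nat.div_le_of_le_mul h
  · obtain ⟨H, hH, hc⟩ := CfsgLib.Classical.SpIdx.exists_point_stabilizer (F := F) m (by omega)
    obtain ⟨K, hK⟩ := CfsgLib.Classical.SpIdx.psp_attained m H hc
    exact ⟨K, hK.trans hH⟩

end Cfsg.Agent.S2141
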