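import Cfsg.Statements.S2142
import Cfsg.Agent.Lib.Classical.SpIdxTwoAttain

set_option autoImplicit false
open Cfsg

namespace Cfsg.Agent.S2142

/-- Minimal index of a proper subgroup of the symplectic groups over the field with 2 elements: for m ≥ 3, every proper subgroup of Sp_2m(2) has index at least 2^(m−1)(2^m − 1), and that index is attained. -/
theorem result {F : Type*} [Field F] [Fintype F] (hF : Fintype.card F = 2) (m : ℕ) (hm : 3 ≤ m) : (∀ H : Subgroup (Cfsg.PSp m F), H ≠ ⊤ → 2 ^ (m - 1) * (2 ^ m - 1) ≤ H.index) ∧ (∃ H : Subgroup (Cfsg.PSp m F), H.index = 2 ^ (m - 1) * (2 ^ m - 1)) := by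
  classical
  obtain ⟨n, rfl⟩ : ∃ n, m = n + 1 := ⟨m - 1, by omega⟩
  have hq : Nat.card F = 2 := by rw [Nat.card_eq_fintype_card, hF]
  rw [Nat.add_sub_cancel]
  refine ⟨fun H hH => CfsgLib.Classical.SpIdx.psp_lower (n + 1) _ ?_ H hH, ?_⟩
  · intro X _ _ _ hk
    have hd : Module.finrank F (Fin (n + 1) ⊕ Fin (n + 1) → F) = 2 * (n + 1) := by
      rw [Module.finrank_fintype_fun_eq_card, Fintype.card_sum, Fintype.card_fin]; ring
    have : Nontrivial (Fin (n + 1) ⊕ Fin (n + 1) → F) :=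
      Module.nontrivial_of_finrank_pos (R := F) (by omega)
    obtain ⟨R⟩ := CfsgLib.Classical.SpIdx.exists_frame
      (B := CfsgLib.Geom.sympBilin (n + 1) F) CfsgLib.Geom.sympBilin_self CfsgLib.Geom.sympBilin_sep
    have hW : Nat.card R.W = 2 ^ n * 2 ^ n := by
      rw [Module.natCard_eq_pow_finrank (K := F) (V := R.W), hq, ← pow_add]
      have := R.finrank_W
      congr 1
      omega
    have h := R.card_ge_two (X := X) hq (by omega) hk hW.symm
    rw [hW] at h
    have e : 2 ^ n * (2 ^ (n + 1) - 1) + 2 ^ n = 2 * (2 ^ n * 2 ^ n) := by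
      rw [← Nat.mul_succ, Nat.succ_eq_add_one, Nat.sub_add_cancel Nat.one_le_two_pow]; ring
    omega
  · obtain ⟨H, hH, hc⟩ := CfsgLib.Classical.SpIdx.exists_quad_stabilizer (F := F) hq n
    obtain ⟨K, hK⟩ := CfsgLib.Classical.SpIdx.psp_attained (n + 1) H hc
    exact ⟨K, hK.trans hH⟩

end Cfsg.Agent.S2142
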