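import Cfsg.Statements.S2143
import Cfsg.Agent.Lib.Classical.OMinIdxStd
import Cfsg.Agent.Lib.Classical.OrthOmega

set_option autoImplicit false
open Cfsg

namespace Cfsg.Agent.S2143

/-- Minimal index of a proper subgroup of the odd-dimensional orthogonal groups: for m ≥ 3 and a field F with q elements, q odd and q ≥ 5, every proper subgroup of PΩ_(2m+1)(F) (for the form x₀² + Σ xᵢyᵢ) has index at least (q^(2m) − 1)/(q − 1), and that index is attained. -/
theorem result {F : Type*} [Field F] [Fintype F] {q : ℕ} (hF : Fintype.card F = q) (hodd : Odd q) (h5 : 5 ≤ q) (m : ℕ) (hm : 3 ≤ m) : (∀ H : Subgroup (Cfsg.POmega F (Cfsg.quadFormOdd m F)), H ≠ ⊤ → (q ^ (2 * m) - 1) / (q - 1) ≤ H.index) ∧ (∃ H : Subgroup (Cfsg.POmega F (Cfsg.quadFormOdd m F)), H.index = (q ^ (2 * m) - 1) / (q - 1)) := by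
  classical
  subst hF
  obtain ⟨k, rfl⟩ : ∃ k, m = k + 1 := ⟨m - 1, by omega⟩
  have hV := CfsgLib.Classical.OMinDeg.qfOdd_type (F := F) hodd k
  have hdim : 5 ≤ Module.finrank F (Unit ⊕ (Fin (k + 1) ⊕ Fin (k + 1)) → F) := by
    rw [hV.dim]; omega
  obtain ⟨x, hx0, hx⟩ := CfsgLib.Classical.exists_singular _ hV.sep hdim
  obtain ⟨P, -⟩ := CfsgLib.Classical.OMinDeg.exists_pair hV.sep hx hx0
  obtain ⟨T, w, hb, hT1⟩ := CfsgLib.Classical.OMinIdx.bounds_odd P hV
    (by rwa [Nat.card_eq_fintype_card]) (CfsgLib.Classical.two_ne_zero_of_odd hodd) (by omega)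
  have hB : (Fintype.card F ^ (2 * (k + 1)) - 1) / (Fintype.card F - 1) = T := by
    rw [Nat.card_eq_fintype_card] at hT1
    rw [show 2 * (k + 1) = (k + 1) * 2 by ring, pow_mul, ← hT1, Nat.add_sub_cancel,
      Nat.mul_div_cancel_left _ (by omega)]
  rw [hB, ← CfsgLib.Classical.qfOdd_coe]
  exact ⟨fun H hH => CfsgLib.Classical.OMinIdx.le_index hV.sep hdim hb hH,
    CfsgLib.Classical.OMinIdx.exists_index _ hV.sep hdim (c := 0) (fun t _ => mul_zero _) P.e P.e_ne P.he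
      hb.points⟩

end Cfsg.Agent.S2143
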