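import Cfsg.Statements.S2144
import Cfsg.Agent.Lib.Classical.OMinIdxStd
import Cfsg.Agent.Lib.Classical.OrthOmega

set_option autoImplicit false
open Cfsg

namespace Cfsg.Agent.S2144

/-- Minimal index of a proper subgroup of the odd-dimensional orthogonal groups over the field with 3 elements: for m ≥ 3, every proper subgroup of PΩ_(2m+1)(3) (for the form x₀² + Σ xᵢyᵢ) has index at least 3^m(3^m − 1)/2, and that index is attained. -/
theorem result {F : Type*} [Field F] [Fintype F] (hF : Fintype.card F = 3) (m : ℕ) (hm : 3 ≤ m) : (∀ H : Subgroup (Cfsg.POmega F (Cfsg.quadFormOdd m F)), H ≠ ⊤ → 3 ^ m * (3 ^ m - 1) / 2 ≤ H.index) ∧ (∃ H : Subgroup (Cfsg.POmega F (Cfsg.quadFormOdd m F)), H.index = 3 ^ m * (3 ^ m - 1) / 2) := by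
  classical
  have hodd : Odd (Fintype.card F) := by rw [hF]; decide
  obtain ⟨k, rfl⟩ : ∃ k, m = k + 1 := ⟨m - 1, by omega⟩
  have hV := CfsgLib.Classical.OMinDeg.qfOdd_type (F := F) hodd k
  have h2 := CfsgLib.Classical.two_ne_zero_of_odd hodd
  have hdim : 5 ≤ Module.finrank F (Unit ⊕ (Fin (k + 1) ⊕ Fin (k + 1)) → F) := by
    rw [hV.dim]; omega
  obtain ⟨x, hx0, hx⟩ := CfsgLib.Classical.exists_singular _ hV.sep hdim
  obtain ⟨P, -⟩ := CfsgLib.Classical.OMinDeg.exists_pair hV.sep hx hx0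
  obtain ⟨B, T, w, hb, hB1⟩ := CfsgLib.Classical.OMinIdx.bounds_odd_three P hV
    (by rwa [Nat.card_eq_fintype_card]) h2 (by omega)
  obtain ⟨Y, hY⟩ : ∃ Y, Y = 3 ^ (k + 1) := ⟨_, rfl⟩
  rw [← hY] at hB1
  have hY1 : 1 ≤ Y := hY ▸ Nat.one_le_pow _ _ (by norm_num)
  have hYY : 2 * B = Y * (Y - 1) := by
    rw [Nat.mul_sub, mul_one, ← sq]; omega
  have hB : 3 ^ (k + 1) * (3 ^ (k + 1) - 1) / 2 = B := by
    rw [← hY, ← hYY, Nat.mul_div_cancel_left _ (by norm_num)]
  rw [hB, ← CfsgLib.Classical.qfOdd_coe]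
  refine ⟨fun H hH => CfsgLib.Classical.OMinIdx.le_index hV.sep hdim hb hH, ?_⟩
  have hsq : ∀ t : F, t ≠ 0 → t ^ 2 = 1 := fun t ht => by
    have := FiniteField.pow_card_sub_one_eq_one t ht
    rwa [hF] at this
  refine CfsgLib.Classical.OMinIdx.exists_index _ hV.sep hdim (c := 2)
    (fun t ht => by rw [← sq, hsq t ht, one_mul]) (P.e + (2 : F) • P.f) ?_ ?_ ?_
  · intro h
    have := congrArg (QuadraticMap.polar (CfsgLib.Classical.qfOdd (k + 1) F) P.f) h
    rw [QuadraticMap.polar_add_right, QuadraticMap.polar_smul_right, P.hfe,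
      CfsgLib.Classical.polar_self_of_singular _ P.hf, smul_zero, add_zero,
      QuadraticMap.polar_zero_right] at this
    exact one_ne_zero this
  · rw [CfsgLib.Geom.quad_map_add_smul, P.he, P.hf, P.hef]; ring
  · have hempty : IsEmpty {t : F // t ^ 2 = 2} := ⟨fun t => by
      by_cases ht : t.1 = 0
      · exact h2 (by rw [← t.2, ht]; ring)
      · exact one_ne_zero (α := F) (by linear_combination (hsq t.1 ht).symm.trans t.2 |>.symm)⟩
    rw [Nat.card_congr (Equiv.subtypeEquivRight fun v =>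
      show _ ↔ CfsgLib.Classical.qfOdd (k + 1) F v = 2 from
        ⟨And.right, fun h => ⟨fun e => h2 (by rw [← h, e, QuadraticMap.map_zero]), h⟩⟩)]
    simp only [CfsgLib.Classical.qfOdd_apply]
    rw [CfsgLib.Classical.card_quadFormOdd_eq, Nat.card_eq_zero.2 (Or.inl hempty),
      Nat.card_eq_fintype_card (α := F), hF, mul_zero, zero_add, ← hY, mul_assoc, ← pow_succ,
      Nat.add_sub_cancel, ← hY, mul_comm, ← hYY]

end Cfsg.Agent.S2144
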