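import Cfsg.Statements.S2146
import Cfsg.Agent.Lib.Classical.OMinIdxStd
import Cfsg.Agent.Lib.Classical.OrthOmega

set_option autoImplicit false
open Cfsg

namespace Cfsg.Agent.S2146

/-- Minimal index of a proper subgroup of the even-dimensional orthogonal groups of plus type over the field with 2 elements: for m ≥ 4, every proper subgroup of Ω⁺_2m(2) (for the form Σ xᵢyᵢ) has index at least 2^(m−1)(2^m − 1), and that index is attained. -/
theorem result {F : Type*} [Field F] [Fintype F] (hF : Fintype.card F = 2) (m : ℕ) (hm : 4 ≤ m) : (∀ H : Subgroup (Cfsg.POmega F (Cfsg.quadFormPlus m F)), H ≠ ⊤ → 2 ^ (m - 1) * (2 ^ m - 1) ≤ H.index) ∧ (∃ H : Subgroup (Cfsg.POmega F (Cfsg.quadFormPlus m F)), H.index = 2 ^ (m - 1) * (2 ^ m - 1)) := by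
  classical
  obtain ⟨j, rfl⟩ : ∃ j, m = j + 2 := ⟨m - 2, by omega⟩
  have hF' : Nat.card F = 2 := by rwa [Nat.card_eq_fintype_card]
  have hV := CfsgLib.Classical.OMinDeg.qfPlus_type (F := F) (j + 1)
  have hdim : 5 ≤ Module.finrank F (Fin (j + 1 + 1) ⊕ Fin (j + 1 + 1) → F) := by
    rw [hV.dim]; omega
  obtain ⟨x, hx0, hx⟩ := CfsgLib.Classical.exists_singular _ hV.sep hdim
  obtain ⟨P, -⟩ := CfsgLib.Classical.OMinDeg.exists_pair hV.sep hx hx0
  obtain ⟨B, T, w, hb, hB1⟩ := CfsgLib.Classical.OMinIdx.bounds_plus_two P (j := j) hV hF' (by omega)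
  obtain ⟨z, hz⟩ : ∃ z, z = 2 ^ j := ⟨_, rfl⟩
  rw [← hz] at hB1
  have hB : 2 ^ (j + 2 - 1) * (2 ^ (j + 2) - 1) = B := by
    rw [show j + 2 - 1 = j + 1 by omega, pow_succ, pow_succ _ (j + 1), pow_succ, ← hz, Nat.mul_sub, mul_one]
    have : z * 2 * (z * 2 * 2) = 8 * z ^ 2 := by ring
    omega
  rw [hB, ← CfsgLib.Classical.qfPlus_coe]
  refine ⟨fun H hH => CfsgLib.Classical.OMinIdx.le_index hV.sep hdim hb hH, ?_⟩
  refine CfsgLib.Classical.OMinIdx.exists_index _ hV.sep hdim (c := 1) (fun t ht => by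
    rw [CfsgLib.Classical.OMinIdx.eq_one_of_card hF' ht]; ring) (P.e + (1 : F) • P.f) ?_ ?_ ?_
  · intro h
    have := congrArg (QuadraticMap.polar (CfsgLib.Classical.qfPlus (j + 1 + 1) F) P.f) h
    rw [QuadraticMap.polar_add_right, QuadraticMap.polar_smul_right, P.hfe,
      CfsgLib.Classical.polar_self_of_singular _ P.hf, smul_zero, add_zero,
      QuadraticMap.polar_zero_right] at this
    exact one_ne_zero this
  · rw [CfsgLib.Geom.quad_map_add_smul, P.he, P.hf, P.hef]; ring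
  · rw [Nat.card_congr (Equiv.subtypeEquivRight fun v =>
      show _ ↔ CfsgLib.Classical.qfPlus (j + 1 + 1) F v = 1 from
        ⟨And.right, fun h => ⟨fun e => one_ne_zero (α := F) (by rw [← h, e, QuadraticMap.map_zero]), h⟩⟩)]
    simp only [CfsgLib.Classical.qfPlus_apply]
    rw [CfsgLib.Classical.card_quadFormPlus_eq, if_neg one_ne_zero, hF', hF, ← hB,
      show j + 2 - 1 = j + 1 by omega, mul_zero, zero_add]
    norm_num
    ring

end Cfsg.Agent.S2146
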