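import Cfsg.Statements.S2147
import Cfsg.Agent.Lib.Classical.OMinIdxStd
import Cfsg.Agent.Lib.Classical.OrthOmega

set_option autoImplicit false
open Cfsg

namespace Cfsg.Agent.S2147

/-- Minimal index of a proper subgroup of the even-dimensional orthogonal groups of minus type: for m ≥ 4 and a field F with q elements, every proper subgroup of PΩ⁻_2m(F) (for the form Σ_{i<m−1} xᵢyᵢ + z₁² + a z₁z₂ + b z₂² with anisotropic binary part) has index at least (q^m + 1)(q^(m−1) − 1)/(q − 1), and that index is attained. -/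
theorem result {F : Type*} [Field F] [Fintype F] {q : ℕ} (hF : Fintype.card F = q) (m : ℕ) (hm : 4 ≤ m) (a b : F) (hab : ∀ z₁ z₂ : F, z₁ ^ 2 + a * z₁ * z₂ + b * z₂ ^ 2 = 0 → z₁ = 0 ∧ z₂ = 0) : (∀ H : Subgroup (Cfsg.POmega F (Cfsg.quadFormMinus (m - 1) F a b)), H ≠ ⊤ → (q ^ m + 1) * (q ^ (m - 1) - 1) / (q - 1) ≤ H.index) ∧ (∃ H : Subgroup (Cfsg.POmega F (Cfsg.quadFormMinus (m - 1) F a b)), H.index = (q ^ m + 1) * (q ^ (m - 1) - 1) / (q - 1)) := by
  classical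
  subst hF
  obtain ⟨j, rfl⟩ : ∃ j, m = j + 2 := ⟨m - 2, by omega⟩
  rw [show j + 2 - 1 = j + 1 by omega]
  have hV := CfsgLib.Classical.OMinDeg.qfMinus_type (F := F) j hab
  have hdim : 5 ≤ Module.finrank F ((Fin (j + 1) ⊕ Fin (j + 1)) ⊕ Fin 2 → F) := by
    rw [hV.dim]; omega
  obtain ⟨x, hx0, hx⟩ := CfsgLib.Classical.exists_singular _ hV.sep hdim
  obtain ⟨P, -⟩ := CfsgLib.Classical.OMinDeg.exists_pair hV.sep hx hx0
  obtain ⟨T, w, hb, hT1⟩ := CfsgLib.Classical.OMinIdx.bounds_minus P hV (by omega)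
  rw [Nat.card_eq_fintype_card] at hT1
  have hq : 1 < Fintype.card F := Fintype.one_lt_card
  obtain ⟨Y, hY⟩ : ∃ Y, Y = Fintype.card F ^ (j + 1) := ⟨_, rfl⟩
  rw [← hY] at hT1
  obtain ⟨r, hr⟩ : ∃ r, Fintype.card F = r + 2 := ⟨Fintype.card F - 2, by omega⟩
  obtain ⟨e, he⟩ : ∃ e, Y = e + 1 :=
    ⟨Y - 1, (Nat.sub_add_cancel (hY ▸ Nat.pow_pos Fintype.card_pos)).symm⟩
  have hB : (Fintype.card F ^ (j + 2) + 1) * (Fintype.card F ^ (j + 1) - 1) / (Fintype.card F - 1) = T := by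
    rw [pow_succ' _ (j + 1), ← hY, he, Nat.add_sub_cancel,
      show (Fintype.card F * (e + 1) + 1) * e = (Fintype.card F - 1) * T by
        rw [hr, show r + 2 - 1 = r + 1 by omega, he] at hT1
        rw [hr, show r + 2 - 1 = r + 1 by omega]
        nlinarith,
      Nat.mul_div_cancel_left _ (by omega)]
  rw [hB, ← CfsgLib.Classical.qfMinus_coe]
  exact ⟨fun H hH => CfsgLib.Classical.OMinIdx.le_index hV.sep hdim hb hH,
    CfsgLib.Classical.OMinIdx.exists_index _ hV.sep hdim (c := 0) (fun t _ => mul_zero _) P.e P.e_ne P.he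
      hb.points⟩

end Cfsg.Agent.S2147
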