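import Cfsg.Statements.S2159
import Cfsg.Agent.Lib.KnownA.Chev.OutOrders

set_option autoImplicit false
open Cfsg

namespace Cfsg.Agent.S2159

/-- Structure of the outer automorphism group of the Chevalley group `G` of type G₂, B₂, D₄, F₄, E₆, E₇ or E₈ over a finite field. Let `D̄` be the image in `Out(G)` of the subgroup generated by the diagonal automorphisms and `F̄` the image of the subgroup generated by the field automorphisms. Then `D̄` is a normal abelian subgroup of `Out(G)`, `F̄` is cyclic, `D̄F̄` is a normal subgroup, and the quotient of `Out(G)` by `D̄F̄` is trivial, of order 2, or non-abelian of order 6 (so isomorphic to the symmetric group on three letters): its index is 1 or 2, or it is 6 with the commutator subgroup of `Out(G)` not inside `D̄F̄`. -/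
theorem result {F : Type*} [Field F] [Finite F] (D : Cfsg.Lie.ChevalleyDatum) (hD : D ∈ [Cfsg.Lie.chevG2, Cfsg.Lie.chevB2, Cfsg.Lie.chevD4, Cfsg.Lie.chevF4, Cfsg.Lie.chevE6, Cfsg.Lie.chevE7, Cfsg.Lie.chevE8])
    (Dbar Fbar : Subgroup (Cfsg.Out ↥(D.group F)))
    (hDbar : Dbar = (Subgroup.closure {φ : MulAut ↥(D.group F) | D.IsDiagonalAut φ}).map (QuotientGroup.mk' (Cfsg.Inn ↥(D.group F))))
    (hFbar : Fbar = (Subgroup.closure {φ : MulAut ↥(D.group F) | D.IsFieldAut φ}).map (QuotientGroup.mk' (Cfsg.Inn ↥(D.group F)))) :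
    Dbar.Normal ∧ IsMulCommutative ↥Dbar ∧ IsCyclic ↥Fbar ∧ (Dbar ⊔ Fbar).Normal ∧
      ((Dbar ⊔ Fbar).index = 1 ∨ (Dbar ⊔ Fbar).index = 2 ∨
        ((Dbar ⊔ Fbar).index = 6 ∧ ¬ commutator (Cfsg.Out ↥(D.group F)) ≤ Dbar ⊔ Fbar)) := by
  obtain ⟨p, hp⟩ := CharP.exists F
  haveI : Fact p.Prime := ⟨CharP.char_is_prime F p⟩
  rw [CfsgLib.KnownA.Chev.closure_diagonal hD] at hDbar
  rw [CfsgLib.KnownA.Chev.closure_field hD] at hFbar
  change Dbar = CfsgLib.KnownA.Chev.Dbar hD at hDbar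
  change Fbar = CfsgLib.KnownA.Chev.Fbar hD at hFbar
  subst hDbar hFbar
  refine ⟨CfsgLib.KnownA.Chev.Dbar_normal hD, CfsgLib.KnownA.Chev.Dbar_isMulCommutative hD, ?_, ?_, ?_⟩
  · haveI := CfsgLib.KnownA.Chev.isCyclic_ringAut (F := F) p
    let q : (F ≃+* F) →* Cfsg.Out ↥(D.group F) :=
      (QuotientGroup.mk' (Cfsg.Inn _)).comp (CfsgLib.KnownA.Chev.fieldHom hD)
    rw [show CfsgLib.KnownA.Chev.Fbar (F := F) hD = q.range by rw [CfsgLib.KnownA.Chev.Fbar, MonoidHom.map_range]]
    exact isCyclic_of_surjective q.rangeRestrict q.rangeRestrict_surjective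
  · rw [CfsgLib.KnownA.Chev.sup_eq_ker hD]
    exact MonoidHom.normal_ker _
  · rw [CfsgLib.KnownA.Chev.sup_eq_ker hD, Subgroup.index_ker]
    rcases CfsgLib.KnownA.Chev.range_cases (F := F) hD with h | h | ⟨h, a, ha, b, hb, hab⟩
    · exact Or.inl h
    · exact Or.inr (Or.inl h)
    · refine Or.inr (Or.inr ⟨h, fun hle => hab ?_⟩)
      obtain ⟨x, rfl⟩ := ha
      obtain ⟨y, rfl⟩ := hb
      have h1 := hle (Subgroup.commutator_mem_commutator (Subgroup.mem_top x) (Subgroup.mem_top y))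
      rw [MonoidHom.mem_ker, map_commutatorElement] at h1
      exact commutatorElement_eq_one_iff_mul_comm.1 h1

end Cfsg.Agent.S2159
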