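import Cfsg.Statements.S2161
import Cfsg.Agent.Lib.KnownA.Chev.GraphSigns

set_option autoImplicit false
open Cfsg

namespace Cfsg.Agent.S2161

/-- For the Chevalley groups of types D₄ and E₆ (one root length) over any field: if `π` is a symmetry of the Dynkin diagram and `φ` is an automorphism sending `x_{p_i}(t)` to `x_{p_{π i}}(t)` and `x_{-p_i}(t)` to `x_{-p_{π i}}(t)` for every fundamental root `p_i`, then for every root `r` there is a sign `ε = ±1` with `φ(x_r(t)) = x_{π·r}(ε t)` for all `t`, where `π·r` is the root whose coefficients are those of `r` permuted by `π`. -/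
theorem result {F : Type*} [Field F] (D : Cfsg.Lie.ChevalleyDatum) (hD : D ∈ [Cfsg.Lie.chevD4, Cfsg.Lie.chevE6])
    (π : Equiv.Perm (Fin D.rank)) (hπ : D.IsDiagramSymmetry π) (φ : ↥(D.group F) ≃* ↥(D.group F))
    (hφ : ∀ (g : ↥(D.group F)) (i : Fin D.rank) (t : F),
      (((g : GL D.Idx F) : Matrix D.Idx D.Idx F) = D.x F (D.simple i) t →
        ((φ g : GL D.Idx F) : Matrix D.Idx D.Idx F) = D.x F (D.simple (π i)) t) ∧
      (((g : GL D.Idx F) : Matrix D.Idx D.Idx F) = D.x F (D.neg (D.simple i)) t →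
        ((φ g : GL D.Idx F) : Matrix D.Idx D.Idx F) = D.x F (D.neg (D.simple (π i))) t))
    (r : ℕ) (hr : r < D.nroots) :
    ∃ ε : F, (ε = 1 ∨ ε = -1) ∧ ∀ (g : ↥(D.group F)) (t : F),
      ((g : GL D.Idx F) : Matrix D.Idx D.Idx F) = D.x F r t →
        ((φ g : GL D.Idx F) : Matrix D.Idx D.Idx F) = D.x F (D.permRoot π r) (ε * t) := by
  have hl : CfsgLib.KnownA.Chev.laceOK D = true ∧ CfsgLib.Chev.Good D := by
    simp only [List.mem_cons, List.not_mem_nil, or_false] at hD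
    rcases hD with rfl | rfl
    · exact ⟨CfsgLib.KnownA.Chev.laceOK_D4, CfsgLib.Chev.goodD4⟩
    · exact ⟨CfsgLib.KnownA.Chev.laceOK_E6, CfsgLib.Chev.goodE6⟩
  obtain ⟨hl, g⟩ := hl
  have hθ : CfsgLib.KnownA.Chev.SimpleMap g φ.toMonoidHom π (fun _ t => t) (fun _ t => t) := by
    refine ⟨φ.injective, fun i t => Subtype.ext (g.eq_xG ((hφ _ i t).1 rfl)),
      fun i t => Subtype.ext (g.eq_xG ((hφ _ i t).2 rfl)), fun i => Function.surjective_id⟩
  obtain ⟨ε, hε, r', hr', hx⟩ := CfsgLib.KnownA.Chev.graph_sign g hl π hπ hθ ⟨r, hr⟩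
  refine ⟨ε, hε, fun x t hxt => ?_⟩
  obtain rfl : x = CfsgLib.KnownA.Chev.xs g ⟨r, hr⟩ t := Subtype.ext (g.eq_xG hxt)
  show ((φ.toMonoidHom _ : GL D.Idx F) : Matrix D.Idx D.Idx F) = _
  rw [hx, ← hr']
  rfl

end Cfsg.Agent.S2161
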