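import Cfsg.Statements.S2162
import Mathlib.Tactic
import Mathlib.Algebra.CharP.Two
import Mathlib.FieldTheory.Perfect
import Mathlib.LinearAlgebra.Determinant

set_option autoImplicit false
open Cfsg

namespace Cfsg.Agent.S2162

open Module

theorem exists_adapted_basis {F V : Type*} [Field F] [AddCommGroup V] [Module F V] [FiniteDimensional F V]
    (N : V →ₗ[F] V) (hN : ∀ x, N (N x) = 0) (l m : ℕ) (hl : finrank F (LinearMap.range N) = l)
    (hm : m + 2 * l = finrank F V) :
    ∃ b : Basis (Fin l ⊕ (Fin m ⊕ Fin l)) F V, (∀ k, N (b (Sum.inl k)) = 0) ∧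
      (∀ k, N (b (Sum.inr (Sum.inl k))) = 0) ∧ ∀ k, N (b (Sum.inr (Sum.inr k))) = b (Sum.inl k) := by
  let r : Basis (Fin l) F (LinearMap.range N) := finBasisOfFinrankEq F _ hl
  choose u hu using fun k => LinearMap.mem_range.mp (r k).2
  have hRK : LinearMap.range N ≤ LinearMap.ker N := by
    rintro _ ⟨x, rfl⟩
    exact hN x
  obtain ⟨W', hW'⟩ := Submodule.exists_isCompl (LinearMap.range N)
  set W := W' ⊓ LinearMap.ker N with hW
  have hsup : LinearMap.range N ⊔ W = LinearMap.ker N := by
    rw [hW, ← sup_inf_assoc_of_le W' hRK, hW'.sup_eq_top, top_inf_eq]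
  have hinf : LinearMap.range N ⊓ W = ⊥ := by
    rw [hW, ← inf_assoc, hW'.inf_eq_bot, bot_inf_eq]
  have hWm : finrank F W = m := by
    have h1 := LinearMap.finrank_range_add_finrank_ker N
    have h2 := Submodule.finrank_sup_add_finrank_inf_eq (LinearMap.range N) W
    rw [hsup, hinf, finrank_bot] at h2
    omega
  let w : Basis (Fin m) F W := finBasisOfFinrankEq F _ hWm
  let v : Fin l ⊕ (Fin m ⊕ Fin l) → V :=
    Sum.elim (fun k => (r k : V)) (Sum.elim (fun k => (w k : V)) u)
  have hspan : ⊤ ≤ Submodule.span F (Set.range v) := by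
    intro x _
    set S := Submodule.span F (Set.range v)
    have hr : ∀ y ∈ LinearMap.range N, y ∈ S := by
      intro y hy
      have := r.sum_repr ⟨y, hy⟩
      rw [show y = ((⟨y, hy⟩ : LinearMap.range N) : V) from rfl, ← this, Submodule.coe_sum]
      exact S.sum_mem fun k _ => S.smul_mem _ (Submodule.subset_span ⟨Sum.inl k, rfl⟩)
    have hw : ∀ y ∈ W, y ∈ S := by
      intro y hy
      have := w.sum_repr ⟨y, hy⟩
      rw [show y = ((⟨y, hy⟩ : W) : V) from rfl, ← this, Submodule.coe_sum]
      exact S.sum_mem fun k _ => S.smul_mem _ (Submodule.subset_span ⟨Sum.inr (Sum.inl k), rfl⟩)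
    have hs : LinearMap.ker N ≤ S := by rw [← hsup]; exact sup_le hr hw
    set z := ∑ k, r.repr ⟨N x, LinearMap.mem_range_self N x⟩ k • u k with hz
    have hzS : z ∈ S := S.sum_mem fun k _ => S.smul_mem _ (Submodule.subset_span ⟨Sum.inr (Sum.inr k), rfl⟩)
    have hker : x - z ∈ LinearMap.ker N := by
      rw [LinearMap.mem_ker, map_sub, sub_eq_zero, hz, map_sum]
      have := congrArg (fun y : LinearMap.range N => (y : V)) (r.sum_repr ⟨N x, LinearMap.mem_range_self N x⟩)
      simp only [Submodule.coe_sum, Submodule.coe_smul] at this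
      simp only [map_smul, hu]
      exact this.symm
    have := S.add_mem (hs hker) hzS
    rwa [sub_add_cancel] at this
  refine ⟨basisOfTopLeSpanOfCardEqFinrank v hspan (by simp; omega), fun k => ?_, fun k => ?_, fun k => ?_⟩
  · simp only [coe_basisOfTopLeSpanOfCardEqFinrank, v, Sum.elim_inl]
    exact hRK (r k).2
  · simp only [coe_basisOfTopLeSpanOfCardEqFinrank, v, Sum.elim_inl, Sum.elim_inr]
    exact (Submodule.mem_inf.mp (w k).2).2
  · simp only [coe_basisOfTopLeSpanOfCardEqFinrank, v, Sum.elim_inl, Sum.elim_inr]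
    exact hu k

/-- Conjugacy of involutions in the special linear group over a finite field of characteristic two, in dimension at least 3: two elements of order 2 of SL_n(F) are conjugate in SL_n(F) exactly when the matrices a − 1 and b − 1 have the same rank (the rank of a − 1 is the dimension of the commutator space [V, a]). -/
theorem result {F : Type*} [Field F] [Fintype F] [CharP F 2] {n : ℕ} (hn : 3 ≤ n) (a b : Matrix.SpecialLinearGroup (Fin n) F) (ha : orderOf a = 2) (hb : orderOf b = 2) :
    IsConj a b ↔ ((a : Matrix (Fin n) (Fin n) F) - 1).rank = ((b : Matrix (Fin n) (Fin n) F) - 1).rank := by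
  classical
  constructor
  · intro h
    obtain ⟨c, rfl⟩ := isConj_iff.mp h
    set C : Matrix (Fin n) (Fin n) F := (c : Matrix (Fin n) (Fin n) F)
    set C' : Matrix (Fin n) (Fin n) F := ((c⁻¹ : Matrix.SpecialLinearGroup (Fin n) F) : Matrix (Fin n) (Fin n) F)
    have h1 : C * C' = 1 := congrArg Subtype.val (mul_inv_cancel c)
    have h2 : ((c * a * c⁻¹ : Matrix.SpecialLinearGroup (Fin n) F) : Matrix (Fin n) (Fin n) F) - 1
        = C * ((a : Matrix (Fin n) (Fin n) F) - 1) * C' := by
      rw [Matrix.mul_sub, Matrix.sub_mul, Matrix.mul_one, h1]; rfl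
    have hC : IsUnit C.det := by rw [Matrix.SpecialLinearGroup.det_coe]; exact isUnit_one
    have hC' : IsUnit C'.det := by rw [Matrix.SpecialLinearGroup.det_coe]; exact isUnit_one
    rw [h2, Matrix.rank_mul_eq_left_of_isUnit_det C' _ hC', Matrix.rank_mul_eq_right_of_isUnit_det C _ hC]
  · intro hrk
    have sq : ∀ x : Matrix.SpecialLinearGroup (Fin n) F, orderOf x = 2 →
        ((x : Matrix (Fin n) (Fin n) F) - 1) * ((x : Matrix (Fin n) (Fin n) F) - 1) = 0 := by
      intro x hx
      have h1 : (x : Matrix (Fin n) (Fin n) F) * x = 1 := by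
        have := pow_orderOf_eq_one x
        rw [hx, pow_two] at this
        exact congrArg Subtype.val this
      rw [Matrix.sub_mul, Matrix.mul_sub, h1, Matrix.mul_one, Matrix.one_mul]
      ext i j
      simp [CharTwo.sub_eq_add, add_assoc, add_left_comm]
      linear_combination ((x : Matrix (Fin n) (Fin n) F) i j + (1 : Matrix (Fin n) (Fin n) F) i j) * (CharTwo.two_eq_zero (R := F))
    set Na := ((a : Matrix (Fin n) (Fin n) F) - 1).mulVecLin with hNa
    set Nb := ((b : Matrix (Fin n) (Fin n) F) - 1).mulVecLin with hNb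
    set l := ((a : Matrix (Fin n) (Fin n) F) - 1).rank with hl
    have hNa2 : ∀ x, Na (Na x) = 0 := fun x => by
      rw [hNa, Matrix.mulVecLin_apply, Matrix.mulVecLin_apply, Matrix.mulVec_mulVec, sq a ha, Matrix.zero_mulVec]
    have hNb2 : ∀ x, Nb (Nb x) = 0 := fun x => by
      rw [hNb, Matrix.mulVecLin_apply, Matrix.mulVecLin_apply, Matrix.mulVec_mulVec, sq b hb, Matrix.zero_mulVec]
    have hla : Module.finrank F (LinearMap.range Na) = l := rfl
    have hlb : Module.finrank F (LinearMap.range Nb) = l := hrk.symm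
    have h2l : 2 * l ≤ n := by
      have h1 := LinearMap.finrank_range_add_finrank_ker Na
      have h2 : Module.finrank F (LinearMap.range Na) ≤ Module.finrank F (LinearMap.ker Na) :=
        Submodule.finrank_mono (by rintro _ ⟨x, rfl⟩; exact hNa2 x)
      rw [Module.finrank_pi, Fintype.card_fin] at h1
      omega
    have hlpos : 0 < l := by
      rcases Nat.eq_zero_or_pos l with h0 | h
      · exfalso
        have h1 : LinearMap.range Na = ⊥ := Submodule.finrank_eq_zero.mp (hla.trans h0)
        have h2 : (a : Matrix (Fin n) (Fin n) F) - 1 = 0 :=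
          Matrix.toLin'.injective ((LinearMap.range_eq_bot.mp h1).trans (map_zero _).symm)
        have h3 : a = 1 := Subtype.ext (sub_eq_zero.mp h2)
        rw [h3, orderOf_one] at ha
        omega
      · exact h
    obtain ⟨ba, a1, a2, a3⟩ := exists_adapted_basis Na hNa2 l (n - 2 * l) hla
      (by rw [Module.finrank_pi, Fintype.card_fin]; omega)
    obtain ⟨bb, b1, b2, b3⟩ := exists_adapted_basis Nb hNb2 l (n - 2 * l) hlb
      (by rw [Module.finrank_pi, Fintype.card_fin]; omega)
    set T : (Fin n → F) ≃ₗ[F] (Fin n → F) := ba.equiv bb (Equiv.refl _) with hT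
    have hTdet : LinearMap.det T.toLinearMap ≠ 0 := (LinearEquiv.isUnit_det' T).ne_zero
    obtain ⟨t, ht⟩ := surjective_frobenius F 2 (LinearMap.det T.toLinearMap)⁻¹
    rw [frobenius_def] at ht
    -- scale one pair of Jordan vectors
    let k0 : Fin l := ⟨0, hlpos⟩
    let s : Fin l ⊕ (Fin (n - 2 * l) ⊕ Fin l) → F := fun i =>
      (if i = Sum.inl k0 then t else 1) * (if i = Sum.inr (Sum.inr k0) then t else 1)
    set D : (Fin n → F) →ₗ[F] (Fin n → F) := bb.constr F (fun i => s i • bb i) with hD
    have hDb : ∀ i, D (bb i) = s i • bb i := fun i => by simp [hD]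
    have hDdet : LinearMap.det D = t ^ 2 := by
      rw [← LinearMap.det_toMatrix bb]
      have : LinearMap.toMatrix bb bb D = Matrix.diagonal s := by
        ext r c
        rw [LinearMap.toMatrix_apply, hDb, map_smul, Module.Basis.repr_self]
        by_cases hrc : r = c
        · subst hrc; simp
        · simp [hrc]
      rw [this, Matrix.det_diagonal]
      simp only [s, Finset.prod_mul_distrib, Finset.prod_ite_eq', Finset.mem_univ, if_true]
      ring
    set G : (Fin n → F) →ₗ[F] (Fin n → F) := D ∘ₗ T.toLinearMap with hG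
    have hGba : ∀ i, G (ba i) = s i • bb i := fun i => by simp [hG, hT, hDb]
    have hcomm : G ∘ₗ Na = Nb ∘ₗ G := by
      apply ba.ext
      intro i
      simp only [LinearMap.comp_apply, hGba, map_smul]
      rcases i with k | k | k
      · rw [a1, b1, map_zero, smul_zero]
      · rw [a2, b2, map_zero, smul_zero]
      · rw [a3, b3, hGba]
        congr 1
        simp [s]
    have hGdet : (LinearMap.toMatrix' G).det = 1 := by
      rw [LinearMap.det_toMatrix', hG, LinearMap.det_comp, hDdet, ht, inv_mul_cancel₀ hTdet]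
    rw [isConj_iff]
    let g : Matrix.SpecialLinearGroup (Fin n) F := ⟨LinearMap.toMatrix' G, hGdet⟩
    refine ⟨g, ?_⟩
    rw [mul_inv_eq_iff_eq_mul]
    apply Subtype.ext
    change LinearMap.toMatrix' G * (a : Matrix (Fin n) (Fin n) F) = (b : Matrix (Fin n) (Fin n) F) * LinearMap.toMatrix' G
    apply Matrix.toLin'.injective
    rw [Matrix.toLin'_mul, Matrix.toLin'_mul, Matrix.toLin'_toMatrix']
    apply LinearMap.ext
    intro x
    have := LinearMap.congr_fun hcomm x
    simpa [hNa, hNb, Matrix.sub_mulVec, sub_left_inj] using this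

end Cfsg.Agent.S2162
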