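import Cfsg.Statements.S2163
import Mathlib.Tactic
import Mathlib.Algebra.CharP.Two
import Mathlib.LinearAlgebra.Matrix.Block

set_option autoImplicit false
open Cfsg

namespace Cfsg.Agent.S2163

theorem rank_of_factor {F : Type*} [Field F] {n l : ℕ} (A : Matrix (Fin n) (Fin l) F)
    (B : Matrix (Fin l) (Fin n) F) (A' : Matrix (Fin l) (Fin n) F) (B' : Matrix (Fin n) (Fin l) F)
    (hA : A' * A = 1) (hB : B * B' = 1) : (A * B).rank = l := by
  apply le_antisymm
  · exact (Matrix.rank_mul_le_right A B).trans (by simpa using Matrix.rank_le_card_height B)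
  · have h1 : A' * (A * B) * B' = 1 := by
      rw [← Matrix.mul_assoc A' A B, hA, Matrix.one_mul, hB]
    have h2 : ((1 : Matrix (Fin l) (Fin l) F)).rank = l := by simp
    have h3 := (Matrix.rank_mul_le_left (A' * (A * B)) B').trans (Matrix.rank_mul_le_right A' (A * B))
    rw [h1, h2] at h3
    exact h3

/-- Over a finite field of characteristic two and for n ≥ 3: for every ℓ with 1 ≤ ℓ and 2ℓ ≤ n, the matrix j_ℓ that is the identity plus the entries 1 in positions (n − ℓ + i, i) for i < ℓ (an identity block of size ℓ in the lower left corner) lies in SL_n(F), has order 2, and j_ℓ − 1 has rank ℓ. Together with the conjugacy criterion by rank, these matrices represent the conjugacy classes of involutions of SL_n(F). -/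
theorem result {F : Type*} [Field F] [Fintype F] [CharP F 2] {n : ℕ} (hn : 3 ≤ n) (ℓ : ℕ) (h1 : 1 ≤ ℓ) (h2 : 2 * ℓ ≤ n) :
    ∃ a : Matrix.SpecialLinearGroup (Fin n) F, (a : Matrix (Fin n) (Fin n) F) = 1 + Matrix.of (fun i j : Fin n => if j.val < ℓ ∧ i.val = j.val + (n - ℓ) then (1 : F) else 0) ∧ orderOf a = 2 ∧ ((a : Matrix (Fin n) (Fin n) F) - 1).rank = ℓ := by
  set f : Fin ℓ → Fin n := fun k => ⟨k.val + (n - ℓ), by omega⟩ with hf
  set g : Fin ℓ → Fin n := fun k => ⟨k.val, by omega⟩ with hg
  set E : Matrix (Fin n) (Fin n) F :=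
    Matrix.of (fun i j : Fin n => if j.val < ℓ ∧ i.val = j.val + (n - ℓ) then (1 : F) else 0) with hE
  set A : Matrix (Fin n) (Fin ℓ) F := Matrix.of (fun i k => if i = f k then 1 else 0) with hA
  set B : Matrix (Fin ℓ) (Fin n) F := Matrix.of (fun k j => if g k = j then 1 else 0) with hB
  have hfi : Function.Injective f := fun a b h => by
    simp only [hf, Fin.ext_iff] at h; ext; omega
  have hgi : Function.Injective g := fun a b h => by
    simp only [hg, Fin.ext_iff] at h; ext; omega
  have hEAB : E = A * B := by
    ext i j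
    simp only [Matrix.mul_apply, hA, hB, Matrix.of_apply, ite_mul, one_mul, zero_mul]
    by_cases hj : j.val < ℓ
    · rw [Finset.sum_eq_single ⟨j.val, hj⟩]
      · simp [hE, hf, hg, hj, Fin.ext_iff]
      · intro k _ hk
        have : g k ≠ j := fun h => hk (by ext; simpa [hg, Fin.ext_iff] using h)
        simp [this]
      · simp
    · rw [Finset.sum_eq_zero]
      · simp [hE, hj]
      · intro k _
        have : g k ≠ j := fun h => hj (by rw [← h]; exact k.isLt)
        simp [this]
  have hA' : A.transpose * A = 1 := by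
    ext a b
    simp [Matrix.mul_apply, hA, Matrix.one_apply, hfi.eq_iff, eq_comm]
  have hB' : B * B.transpose = 1 := by
    ext a b
    simp [Matrix.mul_apply, hB, Matrix.one_apply, hgi.eq_iff, eq_comm]
  have hrank : E.rank = ℓ := hEAB ▸ rank_of_factor A B A.transpose B.transpose hA' hB'
  have hEE : E * E = 0 := by
    ext i j
    simp only [Matrix.mul_apply, Matrix.zero_apply, hE, Matrix.of_apply]
    apply Finset.sum_eq_zero
    intro k _
    split_ifs <;> first | omega | simp
  have hdet : ((1 : Matrix (Fin n) (Fin n) F) + E).det = 1 := by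
    rw [Matrix.det_of_lowerTriangular]
    · apply Finset.prod_eq_one
      intro i _
      have : ¬ (i.val < ℓ ∧ i.val = i.val + (n - ℓ)) := by omega
      simp only [hE, Matrix.add_apply, Matrix.one_apply_eq, Matrix.of_apply, if_neg this, add_zero]
    · intro i j hij
      have hlt : (i : ℕ) < j := hij
      have h1 : i ≠ j := fun h => by omega
      have h2 : ¬ (j.val < ℓ ∧ i.val = j.val + (n - ℓ)) := by omega
      simp [hE, h1, h2]
  refine ⟨⟨1 + E, hdet⟩, rfl, ?_, ?_⟩
  · apply orderOf_eq_prime
    · apply Subtype.ext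
      change ((1 + E) ^ 2 : Matrix (Fin n) (Fin n) F) = 1
      rw [pow_two, add_mul, mul_add, mul_add, hEE, one_mul, one_mul, mul_one, add_zero]
      ext i j
      simp [add_assoc, CharTwo.add_self_eq_zero]
    · intro h
      have h0 : E = 0 := by simpa using congrArg Subtype.val h
      rw [h0, Matrix.rank_zero] at hrank
      omega
  · change ((1 + E) - 1).rank = ℓ
    rw [add_sub_cancel_left]
    exact hrank

end Cfsg.Agent.S2163
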