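import Cfsg.Statements.S2164
import Cfsg.Agent.Lib.Classical.HermInvolTwo
import Cfsg.Agent.Lib.Geom.HermNorm

set_option autoImplicit false
open Cfsg Matrix CfsgLib.Classical CfsgLib.Geom

namespace Cfsg.Agent.S2164

variable {F : Type*} [Field F] [Fintype F] [CharP F 2] {n q : ℕ}

theorem setup (hF : Fintype.card F = q ^ 2) (a : ↥(Cfsg.SU n F q)) (ha : orderOf a = 2) :
    HermInvol.Setup (hermB hF n)
      (Matrix.mulVecLin (((a : Matrix.SpecialLinearGroup (Fin n) F) : Matrix (Fin n) (Fin n) F) - 1)) := by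
  set M : Matrix (Fin n) (Fin n) F := ((a : Matrix.SpecialLinearGroup (Fin n) F) : Matrix (Fin n) (Fin n) F)
    with hM
  have hMM : M * M = 1 := by
    have h1 : a * a = 1 := by rw [← sq, ← ha, pow_orderOf_eq_one]
    have h2 := congrArg (fun x : ↥(Cfsg.SU n F q) =>
      ((x : Matrix.SpecialLinearGroup (Fin n) F) : Matrix (Fin n) (Fin n) F)) h1
    simpa [hM] using h2
  have hMp : ∀ u v, hermB hF n (M *ᵥ u) (M *ᵥ v) = hermB hF n u v := fun u v => by
    rw [hermB_apply, hermB_apply]
    exact a.2 v u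
  refine ⟨hermB_conj hF, hermB_sep hF, qFrob_qFrob hF, qFrob_ne_id hF, fun c hc => ?_, fun v => ?_,
    fun u v => ?_⟩
  · obtain ⟨x, hx⟩ := CfsgLib.Geom.exists_norm_eq (qFrob_ne_id hF) (qFrob_qFrob hF) hc
    exact ⟨x, by rw [mul_comm]; exact hx⟩
  · rw [Matrix.mulVecLin_apply, Matrix.mulVecLin_apply, Matrix.mulVec_mulVec]
    have e : (M - 1) * (M - 1) = 0 := by
      rw [sub_mul, mul_sub, mul_sub, hMM]
      simp only [one_mul, mul_one]
      ext i j
      simp only [Matrix.sub_apply, Matrix.zero_apply]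
      linear_combination ((1 : Matrix (Fin n) (Fin n) F) i j - M i j) * CharTwo.two_eq_zero (R := F)
    rw [e, Matrix.zero_mulVec]
  · have e : hermB hF n (M *ᵥ u) v = hermB hF n u (M *ᵥ v) := by
      conv_lhs => rw [← hMp, Matrix.mulVec_mulVec, hMM, Matrix.one_mulVec]
    simp only [Matrix.mulVecLin_apply, Matrix.sub_mulVec, Matrix.one_mulVec, map_sub,
      LinearMap.sub_apply, e]

theorem det_mul_conj (hF : Fintype.card F = q ^ 2) (G : Matrix (Fin n) (Fin n) F)
    (hG : ∀ u v, hermB hF n (G *ᵥ u) (G *ᵥ v) = hermB hF n u v) :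
    qFrob hF G.det * G.det = 1 := by
  have e : (G.map (qFrob hF))ᵀ * G = 1 := by
    ext i j
    have := hG (Pi.single i 1) (Pi.single j 1)
    rw [Matrix.mul_apply]
    simpa [hermB, Matrix.mulVec_single, Pi.single_apply, Matrix.one_apply, mul_comm, eq_comm] using this
  have := congrArg Matrix.det e
  rw [Matrix.det_mul, Matrix.det_transpose, Matrix.det_one] at this
  rwa [RingHom.map_det]

theorem exists_adjust (hF : Fintype.card F = q ^ 2) {N : (Fin n → F) →ₗ[F] (Fin n → F)}
    (h : HermInvol.Setup (hermB hF n) N) (hN : N ≠ 0) {d : F} (hd : qFrob hF d * d = 1) :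
    ∃ C : Matrix (Fin n) (Fin n) F, C.det * d = 1 ∧
      (∀ u v, hermB hF n (C *ᵥ u) (C *ᵥ v) = hermB hF n u v) ∧ ∀ v, C *ᵥ N v = N (C *ᵥ v) := by
  classical
  obtain ⟨l, hl⟩ := FiniteField.isSquare_of_char_two (ringChar.eq F 2) (qFrob hF d)
  have hl1 : qFrob hF l * l = 1 := by
    have e : (qFrob hF l * l) * (qFrob hF l * l) = 1 := by
      calc _ = qFrob hF (l * l) * (l * l) := by rw [map_mul]; ring
        _ = 1 := by rw [← hl, qFrob_qFrob, mul_comm, hd]
    rcases mul_self_eq_one_iff.1 e with e | e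
    · exact e
    · rw [e, CharTwo.neg_eq]
  have hk : 1 ≤ Module.finrank F (LinearMap.range N) :=
    Submodule.one_le_finrank_iff.2 (by rwa [Ne, LinearMap.range_eq_bot])
  obtain ⟨f, hf⟩ := HermInvol.exists_frame h 1 hk
  set u := f 0
  set w := N u with hw
  have huu : hermB hF n u u = 0 := hf.iso 0 0
  have hwu : hermB hF n w u = 1 := by simpa using hf.pair 0 0
  have huw : hermB hF n u w = 1 := by rw [hw, ← h.adj]; exact hwu
  have hww : hermB hF n w w = 0 := h.NN u u
  let U : Matrix (Fin n) (Fin 2) F := Matrix.of fun i j => if j = 0 then u i else w i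
  let W : Matrix (Fin 2) (Fin n) F := Matrix.of fun j i =>
    if j = 0 then (l - 1) * qFrob hF (w i) else (l - 1) * qFrob hF (u i)
  have hC : ∀ v, (1 + U * W) *ᵥ v = v + (l - 1) • (hermB hF n w v • u + hermB hF n u v • w) := by
    intro v
    rw [Matrix.add_mulVec, Matrix.one_mulVec, ← Matrix.mulVec_mulVec]
    congr 1
    funext i
    simp [Matrix.mulVec, dotProduct, Fin.sum_univ_two, U, W, hermB, Finset.mul_sum,
      Finset.sum_mul, mul_add]
    congr 1 <;> exact Finset.sum_congr rfl fun j _ => by ring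
  refine ⟨1 + U * W, ?_, fun x y => ?_, fun v => ?_⟩
  · have e : W * U = (l - 1) • (1 : Matrix (Fin 2) (Fin 2) F) := by
      have key : ∀ z y : Fin n → F, ∑ i, (l - 1) * qFrob hF (z i) * y i = (l - 1) * hermB hF n z y :=
        fun z y => by simp [hermB, Finset.mul_sum]; exact Finset.sum_congr rfl fun j _ => by ring
      ext i j
      fin_cases i <;> fin_cases j <;> simp [Matrix.mul_apply, U, W, key, huu, hwu, huw, hww]
    rw [Matrix.det_one_add_mul_comm, e, show (1 : Matrix (Fin 2) (Fin 2) F) + (l - 1) • 1 = l • 1 by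
      rw [sub_smul, one_smul, add_sub_cancel], Matrix.det_smul, Matrix.det_one, Fintype.card_fin,
      mul_one, sq, ← hl, hd]
  · rw [hC, hC]
    simp only [map_add, map_smul, map_smulₛₗ, LinearMap.add_apply, LinearMap.smul_apply,
      smul_eq_mul, huu, hwu, huw, hww, map_sub, map_one, h.conj]
    linear_combination (hermB hF n x w * hermB hF n u y + hermB hF n x u * hermB hF n w y) * hl1
  · rw [hC, hC]
    have e1 : hermB hF n u (N v) = hermB hF n w v := by rw [hw, h.adj]
    have e2 : hermB hF n w (N v) = 0 := h.NN u v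
    simp [e1, e2, ← hw, h.sq, show N w = 0 from h.sq u]

theorem conj_of_rank (hF : Fintype.card F = q ^ 2) (a b : ↥(Cfsg.SU n F q)) (ha : orderOf a = 2)
    (hb : orderOf b = 2)
    (hr : (((a : Matrix.SpecialLinearGroup (Fin n) F) : Matrix (Fin n) (Fin n) F) - 1).rank =
      (((b : Matrix.SpecialLinearGroup (Fin n) F) : Matrix (Fin n) (Fin n) F) - 1).rank) :
    IsConj a b := by
  classical
  set M : Matrix (Fin n) (Fin n) F := ((a : Matrix.SpecialLinearGroup (Fin n) F) : Matrix (Fin n) (Fin n) F)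
    with hM
  set M' : Matrix (Fin n) (Fin n) F := ((b : Matrix.SpecialLinearGroup (Fin n) F) : Matrix (Fin n) (Fin n) F)
    with hM'
  set N := Matrix.mulVecLin (M - 1) with hN
  set N' := Matrix.mulVecLin (M' - 1) with hN'
  have h : HermInvol.Setup (hermB hF n) N := setup hF a ha
  have h' : HermInvol.Setup (hermB hF n) N' := setup hF b hb
  obtain ⟨g, hg, hgN⟩ := HermInvol.exists_conj h h' hr
  have hNne : N ≠ 0 := by
    intro hz
    have h1 : M = 1 := by
      rw [← sub_eq_zero]
      refine Matrix.ext fun i j => ?_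
      have := congrFun (LinearMap.congr_fun hz (Pi.single j 1)) i
      simpa [hN, Matrix.mulVec_single, Matrix.one_apply, Pi.single_apply, eq_comm] using this
    have h2 : a = 1 := Subtype.ext (Subtype.ext h1)
    rw [h2, orderOf_one] at ha
    omega
  have hG : ∀ v, LinearMap.toMatrix' g.toLinearMap *ᵥ v = g v := fun v => by
    rw [LinearMap.toMatrix'_mulVec]; rfl
  set G := LinearMap.toMatrix' g.toLinearMap
  have hd : qFrob hF G.det * G.det = 1 := det_mul_conj hF G fun u v => by rw [hG, hG, hg u v]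
  obtain ⟨C, hCd, hCi, hCN⟩ := exists_adjust hF h hNne hd
  let x : Matrix.SpecialLinearGroup (Fin n) F := ⟨G * C, by rw [Matrix.det_mul, mul_comm, hCd]⟩
  have hx : x ∈ Cfsg.SU n F q := fun u v => by
    show hermForm n F q ((G * C) *ᵥ u) ((G * C) *ᵥ v) = hermForm n F q u v
    rw [← hermB_apply hF, ← hermB_apply hF, ← Matrix.mulVec_mulVec, ← Matrix.mulVec_mulVec,
      hG, hG, hg _ _, hCi]
  refine isConj_iff.2 ⟨⟨x, hx⟩, mul_inv_eq_iff_eq_mul.2 (Subtype.ext (Subtype.ext ?_))⟩
  show G * C * M = M' * (G * C)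
  refine Matrix.toLin'.injective (LinearMap.ext fun v => ?_)
  have eM : ∀ z, M *ᵥ z = N z + z := fun z => by simp [hN, Matrix.sub_mulVec]
  have eM' : ∀ z, M' *ᵥ z = N' z + z := fun z => by simp [hN', Matrix.sub_mulVec]
  simp only [Matrix.toLin'_apply, ← Matrix.mulVec_mulVec, eM, eM', Matrix.mulVec_add, hCN, hG,
    map_add, hgN]

theorem rank_of_conj {A B : Matrix.SpecialLinearGroup (Fin n) F} (h : IsConj A B) :
    ((A : Matrix (Fin n) (Fin n) F) - 1).rank = ((B : Matrix (Fin n) (Fin n) F) - 1).rank := by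
  obtain ⟨x, hx⟩ := isConj_iff.1 h
  have e : ((B : Matrix (Fin n) (Fin n) F) - 1) =
      (x : Matrix (Fin n) (Fin n) F) * ((A : Matrix (Fin n) (Fin n) F) - 1) *
        ((x⁻¹ : Matrix.SpecialLinearGroup (Fin n) F) : Matrix (Fin n) (Fin n) F) := by
    rw [← hx, mul_sub, sub_mul, mul_one, ← Matrix.SpecialLinearGroup.coe_mul x x⁻¹, mul_inv_cancel]
    simp
  rw [e, Matrix.rank_mul_eq_left_of_isUnit_det _ _
      (by rw [(x⁻¹).det_coe]; exact isUnit_one),
    Matrix.rank_mul_eq_right_of_isUnit_det _ _ (by rw [x.det_coe]; exact isUnit_one)]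

/-- Conjugacy of involutions in the special unitary group SU_n(q), q even, n ≥ 3, realised over the field F with q² elements as the matrices of determinant 1 preserving the form Σ u_i v_i^q: for two elements of order 2 of SU_n(q) the following are equivalent — they are conjugate in SU_n(q); they are conjugate in SL_n(F); the matrices a − 1 and b − 1 have the same rank. -/
theorem result {F : Type*} [Field F] [Fintype F] [CharP F 2] {n q : ℕ} (hF : Fintype.card F = q ^ 2) (hn : 3 ≤ n) (a b : ↥(Cfsg.SU n F q)) (ha : orderOf a = 2) (hb : orderOf b = 2) :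
    (IsConj a b ↔ IsConj (a : Matrix.SpecialLinearGroup (Fin n) F) (b : Matrix.SpecialLinearGroup (Fin n) F)) ∧
    (IsConj a b ↔ (((a : Matrix.SpecialLinearGroup (Fin n) F) : Matrix (Fin n) (Fin n) F) - 1).rank = (((b : Matrix.SpecialLinearGroup (Fin n) F) : Matrix (Fin n) (Fin n) F) - 1).rank) := by
  have h1 : IsConj a b → IsConj (a : Matrix.SpecialLinearGroup (Fin n) F) (b : Matrix.SpecialLinearGroup (Fin n) F) :=
    fun h => (Cfsg.SU n F q).subtype.map_isConj h
  exact ⟨⟨h1, fun h => conj_of_rank hF a b ha hb (rank_of_conj h)⟩,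
    ⟨fun h => rank_of_conj (h1 h), conj_of_rank hF a b ha hb⟩⟩

end Cfsg.Agent.S2164
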