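import Cfsg.Statements.S2165
import Mathlib.Tactic
import Mathlib.Algebra.CharP.Two

set_option autoImplicit false
open Cfsg

namespace Cfsg.Agent.S2165

theorem rank_of_factor {F : Type*} [Field F] {n l : ℕ} (A : Matrix (Fin n) (Fin l) F)
    (B : Matrix (Fin l) (Fin n) F) (A' : Matrix (Fin l) (Fin n) F) (B' : Matrix (Fin n) (Fin l) F)
    (hA : A' * A = 1) (hB : B * B' = 1) : (A * B).rank = l := by
  apply le_antisymm
  · exact (Matrix.rank_mul_le_right A B).trans (by simpa using Matrix.rank_le_card_height B)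
  · have h1 : A' * (A * B) * B' = 1 := by
      rw [← Matrix.mul_assoc A' A B, hA, Matrix.one_mul, hB]
    have h2 : ((1 : Matrix (Fin l) (Fin l) F)).rank = l := by simp
    have h3 := (Matrix.rank_mul_le_left (A' * (A * B)) B').trans (Matrix.rank_mul_le_right A' (A * B))
    rw [h1, h2] at h3
    exact h3

/-- In SU_n(q), q even, n ≥ 3 (matrices of determinant 1 over the field with q² elements preserving Σ u_i v_i^q): for every ℓ with 1 ≤ ℓ and 2ℓ ≤ n, the permutation matrix of the involution of {0, …, n−1} exchanging i and n − ℓ + i for each i < ℓ lies in SU_n(q), has order 2, and differs from the identity by a matrix of rank ℓ. So every rank between 1 and n/2 occurs for involutions of SU_n(q). -/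
theorem result {F : Type*} [Field F] [Fintype F] [CharP F 2] {n q : ℕ} (hF : Fintype.card F = q ^ 2) (hn : 3 ≤ n) (ℓ : ℕ) (h1 : 1 ≤ ℓ) (h2 : 2 * ℓ ≤ n) :
    ∃ a : ↥(Cfsg.SU n F q), (((a : Matrix.SpecialLinearGroup (Fin n) F) : Matrix (Fin n) (Fin n) F) = Matrix.of (fun i j : Fin n => if (j.val < ℓ ∧ i.val = j.val + (n - ℓ)) ∨ (i.val < ℓ ∧ j.val = i.val + (n - ℓ)) ∨ (i = j ∧ ℓ ≤ i.val ∧ i.val < n - ℓ) then (1 : F) else 0)) ∧ orderOf a = 2 ∧ ((((a : Matrix.SpecialLinearGroup (Fin n) F) : Matrix (Fin n) (Fin n) F)) - 1).rank = ℓ := by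
  set σf : Fin n → Fin n := fun i => if h : i.val < ℓ then ⟨i.val + (n - ℓ), by omega⟩
    else if h' : i.val < n - ℓ then i else ⟨i.val - (n - ℓ), by omega⟩ with hσf
  have hinv : Function.Involutive σf := by
    intro i
    by_cases c1 : i.val < ℓ
    · have c2 : ¬ (i.val + (n - ℓ) < ℓ) := by omega
      have c3 : ¬ (i.val + (n - ℓ) < n - ℓ) := by omega
      simp [hσf, c1, c2]
    · by_cases c2 : i.val < n - ℓ
      · simp [hσf, c1, c2]
      · have c3 : i.val - (n - ℓ) < ℓ := by omega
        simp only [hσf, c1, c2, c3, ↓reduceDIte]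
        apply Fin.ext
        simp only
        omega
  set σ : Equiv.Perm (Fin n) := hinv.toPerm σf with hσ
  set M : Matrix (Fin n) (Fin n) F := σ.permMatrix F with hM
  have hMeq : M = Matrix.of (fun i j : Fin n => if (j.val < ℓ ∧ i.val = j.val + (n - ℓ)) ∨
      (i.val < ℓ ∧ j.val = i.val + (n - ℓ)) ∨ (i = j ∧ ℓ ≤ i.val ∧ i.val < n - ℓ) then (1 : F) else 0) := by
    ext i j
    have : (σf i = j) ↔ ((j.val < ℓ ∧ i.val = j.val + (n - ℓ)) ∨
      (i.val < ℓ ∧ j.val = i.val + (n - ℓ)) ∨ (i = j ∧ ℓ ≤ i.val ∧ i.val < n - ℓ)) := by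
      simp only [hσf]
      split_ifs <;> simp only [Fin.ext_iff] <;> omega
    simp [hM, hσ, Equiv.Perm.permMatrix, PEquiv.toMatrix_apply, Equiv.toPEquiv_apply, this]
  have hdet : M.det = 1 := by
    rw [hM, Matrix.det_permutation]
    rcases Int.units_eq_one_or (Equiv.Perm.sign σ) with h | h <;> rw [h] <;> simp [CharTwo.neg_eq]
  have hmv : ∀ v : Fin n → F, M.mulVec v = v ∘ σ := fun v => Matrix.permMatrix_mulVec ..
  have hmem : (⟨M, hdet⟩ : Matrix.SpecialLinearGroup (Fin n) F) ∈ Cfsg.SU n F q := by
    intro u v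
    change Cfsg.hermForm n F q (M.mulVec u) (M.mulVec v) = Cfsg.hermForm n F q u v
    simp only [hmv, Cfsg.hermForm, Function.comp]
    exact Equiv.sum_comp σ (fun i => u i * v i ^ q)
  set A : Matrix (Fin n) (Fin ℓ) F :=
    Matrix.of (fun i k => if i.val = k.val ∨ i.val = k.val + (n - ℓ) then 1 else 0) with hA
  set A' : Matrix (Fin ℓ) (Fin n) F := Matrix.of (fun k i => if i.val = k.val then 1 else 0) with hA'
  have hAA : A' * A = 1 := by
    ext a b
    simp only [Matrix.mul_apply, hA, hA', Matrix.of_apply, ite_mul, one_mul, zero_mul]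
    rw [Finset.sum_eq_single ⟨a.val, by omega⟩]
    · by_cases hab : a = b
      · subst hab; simp
      · have : ¬ (a.val = b.val ∨ a.val = b.val + (n - ℓ)) := by
          have := Fin.val_ne_of_ne hab
          omega
        simp [this, Matrix.one_apply_ne hab]
    · intro i _ hi
      have : i.val ≠ a.val := fun h => hi (Fin.ext h)
      simp [this]
    · simp
  have hfac : M - 1 = A * A.transpose := by
    rw [hMeq]
    ext i j
    simp only [Matrix.sub_apply, Matrix.one_apply, Matrix.of_apply, Matrix.mul_apply,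
      Matrix.transpose_apply, hA, ite_mul, one_mul, zero_mul]
    by_cases hi : ℓ ≤ i.val ∧ i.val < n - ℓ
    · rw [Finset.sum_eq_zero]
      · by_cases hij : i = j
        · subst hij; simp [hi]
        · rw [if_neg hij, if_neg (by omega)]; simp
      · intro k _
        rw [if_neg (by omega)]
    · set k0 : Fin ℓ := ⟨if i.val < ℓ then i.val else i.val - (n - ℓ), by split_ifs <;> omega⟩ with hk0
      rw [Finset.sum_eq_single k0]
      · have hk : i.val = k0.val ∨ i.val = k0.val + (n - ℓ) := by
          simp only [hk0]; split_ifs <;> omega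
        rw [if_pos hk]
        by_cases hij : i = j
        · subst hij
          rw [if_neg (by omega), if_pos rfl, if_pos hk]
          simp [CharTwo.neg_eq]
        · have hv := Fin.val_ne_of_ne hij
          rw [if_neg hij, sub_zero]
          refine if_congr ?_ rfl rfl
          simp only [hij, false_and, or_false, hk0]
          split_ifs <;> omega
      · intro k _ hk
        have := Fin.val_ne_of_ne hk
        rw [if_neg]
        simp only [hk0] at this
        split_ifs at this <;> omega
      · simp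
  have hrank : (M - 1).rank = ℓ := by
    rw [hfac]
    exact rank_of_factor A A.transpose A' A'.transpose hAA
      (by rw [← Matrix.transpose_mul, hAA, Matrix.transpose_one])
  refine ⟨⟨⟨M, hdet⟩, hmem⟩, hMeq, ?_, hrank⟩
  apply orderOf_eq_prime
  · apply Subtype.ext; apply Subtype.ext
    change (M ^ 2 : Matrix (Fin n) (Fin n) F) = 1
    rw [pow_two]
    apply Matrix.ext_of_mulVec_single
    intro i
    rw [← Matrix.mulVec_mulVec, hmv, hmv, Matrix.one_mulVec]
    funext x
    simp [hσ, hinv x]
  · intro h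
    have h0 : M = 1 := congrArg (fun z : ↥(Cfsg.SU n F q) => ((z : Matrix.SpecialLinearGroup (Fin n) F) : Matrix (Fin n) (Fin n) F)) h
    rw [h0, sub_self, Matrix.rank_zero] at hrank
    omega

end Cfsg.Agent.S2165
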