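import Cfsg.Statements.S2166
import Cfsg.Agent.Lib.Classical.InvTwoSpCount

set_option autoImplicit false
open Cfsg

namespace Cfsg.Agent.S2166

/-- Conjugacy of involutions in the symplectic group Sp_{2m}(F), F a finite field of characteristic two, m ≥ 2 (Sp taken as the matrices A with A J Aᵀ = J, acting on column vectors, with the alternating form f(u, v) = u ⬝ (J v)). For an involution t write V(t) for the set of vectors v with f(v, t v) = 0 (a subspace). Two involutions a, b are conjugate in Sp_{2m}(F) exactly when a − 1 and b − 1 have the same rank and, in case that rank is even, V(a) and V(b) have the same number of elements. -/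
theorem result {F : Type*} [Field F] [Fintype F] [CharP F 2] {m : ℕ} (hm : 2 ≤ m) (a b : ↥(Matrix.symplecticGroup (Fin m) F)) (ha : orderOf a = 2) (hb : orderOf b = 2) :
    IsConj a b ↔ ((((a : ↥(Matrix.symplecticGroup (Fin m) F)) : Matrix (Fin m ⊕ Fin m) (Fin m ⊕ Fin m) F) - 1).rank = (((b : ↥(Matrix.symplecticGroup (Fin m) F)) : Matrix (Fin m ⊕ Fin m) (Fin m ⊕ Fin m) F) - 1).rank ∧
      (Even (((a : ↥(Matrix.symplecticGroup (Fin m) F)) : Matrix (Fin m ⊕ Fin m) (Fin m ⊕ Fin m) F) - 1).rank → Nat.card {v : Fin m ⊕ Fin m → F // Cfsg.sympForm m F v (Matrix.mulVec ((a : ↥(Matrix.symplecticGroup (Fin m) F)) : Matrix (Fin m ⊕ Fin m) (Fin m ⊕ Fin m) F) v) = 0} = Nat.card {v : Fin m ⊕ Fin m → F // Cfsg.sympForm m F v (Matrix.mulVec ((b : ↥(Matrix.symplecticGroup (Fin m) F)) : Matrix (Fin m ⊕ Fin m) (Fin m ⊕ Fin m) F) v) = 0})) := by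
  classical
  have := hm
  have h2 : (2 : F) = 0 := CharTwo.two_eq_zero
  have ha' : a ^ 2 = 1 := ha ▸ pow_orderOf_eq_one a
  have hb' : b ^ 2 = 1 := hb ▸ pow_orderOf_eq_one b
  simp only [CfsgLib.Classical.InvTwo.form_eq]
  rw [CfsgLib.Classical.InvTwo.isConj_sp_iff h2 ha' hb']
  have key : ∀ t : Matrix.symplecticGroup (Fin m) F,
      (∀ v, CfsgLib.Geom.sympBilin m F v (CfsgLib.Classical.InvTwo.toIsom t v) = 0) ↔
      Nat.card {v // CfsgLib.Geom.sympBilin m F v (CfsgLib.Classical.InvTwo.toIsom t v) = 0} =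
        Nat.card (Fin m ⊕ Fin m → F) := fun t => by
    constructor
    · intro h
      exact Nat.card_congr (Equiv.subtypeUnivEquiv h)
    · intro h v
      by_contra hv
      rw [Nat.card_eq_fintype_card, Nat.card_eq_fintype_card] at h
      exact (Fintype.card_subtype_lt (x := v) hv).ne h
  constructor
  · rintro ⟨hr, hal⟩
    refine ⟨hr, fun _ => ?_⟩
    obtain ⟨c, hc, hca⟩ := (CfsgLib.Classical.InvTwo.isConj_iff_exists a b).1
      ((CfsgLib.Classical.InvTwo.isConj_sp_iff h2 ha' hb').2 ⟨hr, hal⟩)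
    exact Nat.card_congr (c.toEquiv.subtypeEquiv fun v => by
      show _ ↔ CfsgLib.Geom.sympBilin m F (c v) (CfsgLib.Classical.InvTwo.toIsom b (c v)) = 0
      rw [← hca, hc v (CfsgLib.Classical.InvTwo.toIsom a v)])
  · rintro ⟨hr, hcard⟩
    refine ⟨hr, ?_⟩
    by_cases hev : Even ((a : Matrix (Fin m ⊕ Fin m) (Fin m ⊕ Fin m) F) - 1).rank
    · rw [key a, key b, hcard hev]
    · exact iff_of_false (fun h => hev ((CfsgLib.Classical.InvTwo.rank_bound h2 ha').2 h))
        (fun h => hev (hr ▸ (CfsgLib.Classical.InvTwo.rank_bound h2 hb').2 h))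

end Cfsg.Agent.S2166
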