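import Cfsg.Statements.S2167
import Mathlib.Tactic
import Mathlib.Algebra.CharP.Two
import Mathlib.FieldTheory.Perfect
import Cfsg.Agent.Lib.KnownA.AltRank

set_option autoImplicit false
open Cfsg

namespace Cfsg.Agent.S2167

open Matrix in
theorem key_identities {F : Type*} [Field F] [CharP F 2] {m : ℕ}
    (A : Matrix (Fin m ⊕ Fin m) (Fin m ⊕ Fin m) F) (hA : A ∈ Matrix.symplecticGroup (Fin m) F)
    (hA2 : A * A = 1) :
    (∀ v w, Cfsg.sympForm m F w (A *ᵥ v) = Cfsg.sympForm m F v (A *ᵥ w)) ∧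
      (∀ v, Cfsg.sympForm m F v v = 0) := by
  have hJ : Aᵀ * Matrix.J (Fin m) F * A = Matrix.J (Fin m) F :=
    SymplecticGroup.mem_iff'.mp hA
  have hskew : ∀ x y, Cfsg.sympForm m F x y = Cfsg.sympForm m F y x := by
    intro x y
    unfold Cfsg.sympForm
    rw [Matrix.dotProduct_mulVec, dotProduct_comm, ← Matrix.mulVec_transpose, Matrix.J_transpose,
      Matrix.neg_mulVec, dotProduct_neg, CharTwo.neg_eq]
  refine ⟨fun v w => ?_, fun v => ?_⟩
  · have h1 : Matrix.J (Fin m) F * A = Aᵀ * Matrix.J (Fin m) F := by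
      calc Matrix.J (Fin m) F * A = (Aᵀ * Matrix.J (Fin m) F * A) * A := by rw [hJ]
        _ = Aᵀ * Matrix.J (Fin m) F := by rw [Matrix.mul_assoc, hA2, Matrix.mul_one]
    calc Cfsg.sympForm m F w (A *ᵥ v) = w ⬝ᵥ ((Aᵀ * Matrix.J (Fin m) F) *ᵥ v) := by
          rw [← h1, ← Matrix.mulVec_mulVec]; rfl
      _ = (A *ᵥ w) ⬝ᵥ (Matrix.J (Fin m) F *ᵥ v) := by
          rw [← Matrix.mulVec_mulVec, Matrix.dotProduct_mulVec, Matrix.vecMul_transpose]
      _ = Cfsg.sympForm m F v (A *ᵥ w) := hskew _ _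
  · unfold Cfsg.sympForm
    rw [Matrix.J, Matrix.fromBlocks_mulVec, dotProduct, Fintype.sum_sum_type, ← Finset.sum_add_distrib]
    simp [mul_comm, Matrix.neg_mulVec, CharTwo.neg_eq, CharTwo.add_self_eq_zero]

/-- For an involution t of the symplectic group Sp_{2m}(F), m ≥ 2, F a finite field of characteristic two (matrices A with A J Aᵀ = J acting on column vectors, alternating form f(u, v) = u ⬝ (J v)): the set V(t) of vectors v with f(v, t v) = 0 has either q^{2m} or q^{2m−1} elements, q the order of F (it is a subspace of codimension at most 1), and if it is the whole space then t − 1 has even rank. -/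
theorem result {F : Type*} [Field F] [Fintype F] [CharP F 2] {m : ℕ} (hm : 2 ≤ m) (a : ↥(Matrix.symplecticGroup (Fin m) F)) (ha : orderOf a = 2) :
    (Nat.card {v : Fin m ⊕ Fin m → F // Cfsg.sympForm m F v (Matrix.mulVec ((a : ↥(Matrix.symplecticGroup (Fin m) F)) : Matrix (Fin m ⊕ Fin m) (Fin m ⊕ Fin m) F) v) = 0} = Fintype.card F ^ (2 * m) ∨ Nat.card {v : Fin m ⊕ Fin m → F // Cfsg.sympForm m F v (Matrix.mulVec ((a : ↥(Matrix.symplecticGroup (Fin m) F)) : Matrix (Fin m ⊕ Fin m) (Fin m ⊕ Fin m) F) v) = 0} * Fintype.card F = Fintype.card F ^ (2 * m)) ∧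
    ((∀ v : Fin m ⊕ Fin m → F, Cfsg.sympForm m F v (Matrix.mulVec ((a : ↥(Matrix.symplecticGroup (Fin m) F)) : Matrix (Fin m ⊕ Fin m) (Fin m ⊕ Fin m) F) v) = 0) → Even (((a : ↥(Matrix.symplecticGroup (Fin m) F)) : Matrix (Fin m ⊕ Fin m) (Fin m ⊕ Fin m) F) - 1).rank) := by
  set A : Matrix (Fin m ⊕ Fin m) (Fin m ⊕ Fin m) F := a.1 with hAdef
  have hA2 : A * A = 1 := by
    have h := pow_orderOf_eq_one a
    rw [ha, pow_two] at h
    exact congrArg Subtype.val h
  obtain ⟨hsym, halt⟩ := key_identities A a.2 hA2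
  set f : (Fin m ⊕ Fin m → F) → F := fun v => Cfsg.sympForm m F v (A.mulVec v) with hf
  have hbil : ∀ u v w, Cfsg.sympForm m F (u + v) w = Cfsg.sympForm m F u w + Cfsg.sympForm m F v w ∧
      Cfsg.sympForm m F w (u + v) = Cfsg.sympForm m F w u + Cfsg.sympForm m F w v := by
    intro u v w
    simp [Cfsg.sympForm, add_dotProduct, dotProduct_add, Matrix.mulVec_add]
  have hadd : ∀ v w, f (v + w) = f v + f w := by
    intro v w
    simp only [hf, Matrix.mulVec_add]
    rw [(hbil v w _).1, (hbil _ _ v).2, (hbil _ _ w).2, hsym v w]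
    have := CharTwo.add_self_eq_zero (Cfsg.sympForm m F v (A.mulVec w))
    linear_combination this
  have hsmul : ∀ (c : F) v, f (c • v) = c ^ 2 * f v := by
    intro c v
    simp [hf, Cfsg.sympForm, Matrix.mulVec_smul, mul_assoc, pow_two]
  set φ : (Fin m ⊕ Fin m → F) →+ F := AddMonoidHom.mk' f hadd with hφ
  have hker : Nat.card {v : Fin m ⊕ Fin m → F // f v = 0} * Nat.card φ.range = Fintype.card F ^ (2 * m) := by
    have e : {v : Fin m ⊕ Fin m → F // f v = 0} ≃ φ.ker := Equiv.subtypeEquivRight (fun v => Iff.rfl)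
    rw [Nat.card_congr e, ← Nat.card_congr (QuotientAddGroup.quotientKerEquivRange φ).toEquiv, mul_comm,
      ← AddSubgroup.card_eq_card_quotient_mul_card_addSubgroup]
    simp [two_mul]
  refine ⟨?_, fun h0 => ?_⟩
  · by_cases h : ∀ v, f v = 0
    · left
      rw [Nat.card_congr (Equiv.subtypeUnivEquiv (p := fun v => f v = 0) h)]
      simp [two_mul]
    · right
      push Not at h
      obtain ⟨v0, hv0⟩ := h
      have htop : φ.range = ⊤ := by
        rw [eq_top_iff]
        intro b _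
        obtain ⟨c, hc⟩ := surjective_frobenius F 2 (b / f v0)
        refine ⟨c • v0, ?_⟩
        change f (c • v0) = b
        rw [frobenius_def] at hc
        rw [hsmul, hc, div_mul_cancel₀ _ hv0]
      rw [htop, AddSubgroup.card_top, Nat.card_eq_fintype_card (α := F)] at hker
      exact hker
  · have halt' : ∀ v, v ⬝ᵥ (Matrix.J (Fin m) F * (A - 1)).mulVec v = 0 := by
      intro v
      rw [← Matrix.mulVec_mulVec, Matrix.sub_mulVec, Matrix.one_mulVec, Matrix.mulVec_sub,
        dotProduct_sub]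
      change Cfsg.sympForm m F v (A.mulVec v) - Cfsg.sympForm m F v v = 0
      rw [halt, h0 v, sub_zero]
    have := CfsgLib.KnownA.even_rank_of_alt_matrix _ halt'
    rwa [Matrix.rank_mul_eq_right_of_isUnit_det _ _ (Matrix.isUnit_det_J ..)] at this

end Cfsg.Agent.S2167
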