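import Cfsg.Statements.S2173
import Cfsg.Agent.Lib.Classical.InvTwoForms

set_option autoImplicit false
open Cfsg

namespace Cfsg.Agent.S2173

/-- For the quadratic form Σ x_i y_i + (z₁² + c z₁ z₂ + d z₂²) in dimension 2m with anisotropic binary part over a finite field F of characteristic two, m ≥ 4 (minus type): two involutions of the commutator subgroup Ω that are conjugate in the full isometry group O are conjugate by an element of Ω (no class of involutions of O inside Ω splits). -/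
theorem result {F : Type*} [Field F] [Fintype F] [CharP F 2] {m : ℕ} (hm : 4 ≤ m) (c d : F) (hcd : ∀ z₁ z₂ : F, z₁ ^ 2 + c * z₁ * z₂ + d * z₂ ^ 2 = 0 → z₁ = 0 ∧ z₂ = 0) (t s : ↥(Cfsg.isometryGroup F (Cfsg.quadFormMinus (m - 1) F c d))) (ht : orderOf t = 2) (hs : orderOf s = 2) (htO : t ∈ Cfsg.Omega F (Cfsg.quadFormMinus (m - 1) F c d)) (hsO : s ∈ Cfsg.Omega F (Cfsg.quadFormMinus (m - 1) F c d)) (hconj : IsConj t s) :
    ∃ g ∈ Cfsg.Omega F (Cfsg.quadFormMinus (m - 1) F c d), g * t * g⁻¹ = s := by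
  have h2 : (2 : F) = 0 := CharTwo.two_eq_zero
  obtain ⟨n, rfl⟩ : ∃ n, m = n + 1 := ⟨m - 1, by omega⟩
  have e : Cfsg.quadFormMinus (n + 1 - 1) F c d = ⇑(CfsgLib.Classical.qfMinus n F c d) :=
    (funext (CfsgLib.Classical.qfMinus_apply n c d)).symm
  revert t s
  rw [e]
  intro t s ht hs htO hsO hconj
  have := hs
  have := hsO
  have ht2 := CfsgLib.Classical.InvTwo.sq_of_order ht
  have hsep := CfsgLib.Classical.qfMinus_sep (F := F) n hcd
  refine CfsgLib.Classical.InvTwo.exists_omega_conj h2 hsep (Or.inr (by simp; omega)) (m := n + 1)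
    (by simp; omega) ht2 hconj fun hh => ?_
  have hb := CfsgLib.Classical.InvTwo.minus_bound h2 hcd t ht2 hh.2
  rw [hh.1] at hb
  omega

end Cfsg.Agent.S2173
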