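import Cfsg.Statements.S2174
import Cfsg.Agent.Lib.Chev.F4CertRank
-- import your own Cfsg.Agent.* helpers here

set_option autoImplicit false
open Cfsg

open CfsgLib.Chev CfsgLib.Chev.InvolMono CfsgLib.Chev.F4Cert

namespace Cfsg.Agent.S2174

/-- Conjugacy classes of involutions in the Chevalley group of type F₄ over a finite field F of characteristic two (the matrix group generated by the root elements x_r(t)). In this problem's root numbering for type F₄ (the Chevalley data module; fundamental roots p₁, p₂ short and p₃, p₄ long; roots indexed by their coefficient vectors in increasing order) let r = 47 be the highest root (2,4,3,2), s = 44 the highest short root (2,3,2,1), and α = 39 = (1,2,2,1), β = 45 = (2,4,2,1), an orthogonal short/long pair; consider the four elements x_r(1), x_s(1), x_r(1)x_s(1), x_α(1)x_β(1). Then: each invertible matrix equal to one of these four products lies in the group and has order 2; every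 element of order 2 of the group is conjugate in the group to one of them; and no two of them are conjugate in the group (so, the four matrices being distinct, the group has exactly four conjugacy classes of involutions). -/
theorem result {F : Type*} [Field F] [Fintype F] [CharP F 2] :
    (∀ y : GL Cfsg.Lie.chevF4.Idx F, ((y : GL Cfsg.Lie.chevF4.Idx F) : Matrix Cfsg.Lie.chevF4.Idx Cfsg.Lie.chevF4.Idx F) ∈ [Cfsg.Lie.chevF4.x F 47 1, Cfsg.Lie.chevF4.x F 44 1, Cfsg.Lie.chevF4.x F 47 1 * Cfsg.Lie.chevF4.x F 44 1, Cfsg.Lie.chevF4.x F 39 1 * Cfsg.Lie.chevF4.x F 45 1] → y ∈ Cfsg.Lie.chevF4.group F ∧ orderOf y = 2) ∧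
    (∀ g ∈ Cfsg.Lie.chevF4.group F, orderOf g = 2 → ∃ y ∈ Cfsg.Lie.chevF4.group F, ((y : GL Cfsg.Lie.chevF4.Idx F) : Matrix Cfsg.Lie.chevF4.Idx Cfsg.Lie.chevF4.Idx F) ∈ [Cfsg.Lie.chevF4.x F 47 1, Cfsg.Lie.chevF4.x F 44 1, Cfsg.Lie.chevF4.x F 47 1 * Cfsg.Lie.chevF4.x F 44 1, Cfsg.Lie.chevF4.x F 39 1 * Cfsg.Lie.chevF4.x F 45 1] ∧ ∃ h ∈ Cfsg.Lie.chevF4.group F, h * g * h⁻¹ = y) ∧
    (∀ y₁ ∈ Cfsg.Lie.chevF4.group F, ∀ y₂ ∈ Cfsg.Lie.chevF4.group F, ((y₁ : GL Cfsg.Lie.chevF4.Idx F) : Matrix Cfsg.Lie.chevF4.Idx Cfsg.Lie.chevF4.Idx F) ∈ [Cfsg.Lie.chevF4.x F 47 1, Cfsg.Lie.chevF4.x F 44 1, Cfsg.Lie.chevF4.x F 47 1 * Cfsg.Lie.chevF4.x F 44 1, Cfsg.Lie.chevF4.x F 39 1 * Cfsg.Lie.chevF4.x F 45 1] → ((y₂ : GL Cfsg.Lie.chevF4.Idx F) : Matrix Cfsg.Lie.chevF4.Idx Cfsg.Lie.chevF4.Idx F) ∈ [Cfsg.Lie.chevF4.x F 47 1, Cfsg.Lie.chevF4.x F 44 1, Cfsg.Lie.chevF4.x F 47 1 * Cfsg.Lie.chevF4.x F 44 1, Cfsg.Lie.chevF4.x F 39 1 * Cfsg.Lie.chevF4.x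 F 45 1] →
      (∃ h ∈ Cfsg.Lie.chevF4.group F, h * y₁ * h⁻¹ = y₂) → ((y₁ : GL Cfsg.Lie.chevF4.Idx F) : Matrix Cfsg.Lie.chevF4.Idx Cfsg.Lie.chevF4.Idx F) = ((y₂ : GL Cfsg.Lie.chevF4.Idx F) : Matrix Cfsg.Lie.chevF4.Idx Cfsg.Lie.chevF4.Idx F)) := by
  have hrep : ∀ y : GL Cfsg.Lie.chevF4.Idx F, (y : Matrix Cfsg.Lie.chevF4.Idx Cfsg.Lie.chevF4.Idx F) ∈
      [Cfsg.Lie.chevF4.x F 47 1, Cfsg.Lie.chevF4.x F 44 1, Cfsg.Lie.chevF4.x F 47 1 * Cfsg.Lie.chevF4.x F 44 1, Cfsg.Lie.chevF4.x F 39 1 * Cfsg.Lie.chevF4.x F 45 1] → ∃ R ∈ ([[47], [44], [47, 44], [39, 45]] : List (List ℕ)), y = oneProd Cfsg.Lie.chevF4 goodF4 F R := by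
    intro y hy
    simp only [List.mem_cons, List.not_mem_nil, or_false] at hy
    rcases hy with hy | hy | hy | hy
    · exact ⟨[47], by simp, Units.ext (by simp [oneProd, Good.coe_xG, hy])⟩
    · exact ⟨[44], by simp, Units.ext (by simp [oneProd, Good.coe_xG, hy])⟩
    · exact ⟨[47, 44], by simp, Units.ext (by simp [oneProd, Good.coe_xG, hy])⟩
    · exact ⟨[39, 45], by simp, Units.ext (by simp [oneProd, Good.coe_xG, hy])⟩
  have hrev : ∀ R ∈ ([[47], [44], [47, 44], [39, 45]] : List (List ℕ)), ((oneProd Cfsg.Lie.chevF4 goodF4 F R : GL Cfsg.Lie.chevF4.Idx F) : Matrix Cfsg.Lie.chevF4.Idx Cfsg.Lie.chevF4.Idx F) ∈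
      [Cfsg.Lie.chevF4.x F 47 1, Cfsg.Lie.chevF4.x F 44 1, Cfsg.Lie.chevF4.x F 47 1 * Cfsg.Lie.chevF4.x F 44 1, Cfsg.Lie.chevF4.x F 39 1 * Cfsg.Lie.chevF4.x F 45 1] := by
    intro R hR
    simp only [List.mem_cons, List.not_mem_nil, or_false] at hR
    rcases hR with rfl | rfl | rfl | rfl <;> simp [oneProd, Good.coe_xG]
  have hmem : ∀ R ∈ ([[47], [44], [47, 44], [39, 45]] : List (List ℕ)), oneProd Cfsg.Lie.chevF4 goodF4 F R ∈ Cfsg.Lie.chevF4.group F ∧
      orderOf (oneProd Cfsg.Lie.chevF4 goodF4 F R : GL Cfsg.Lie.chevF4.Idx F) = 2 := by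
    intro R hR
    simp only [List.mem_cons, List.not_mem_nil, or_false] at hR
    rcases hR with rfl | rfl | rfl | rfl
    · exact repsF4_order (by simp) rank_full0 (by norm_num)
    · exact repsF4_order (by simp) rank_full1 (by norm_num)
    · exact repsF4_order (by simp) rank_full2 (by norm_num)
    · exact repsF4_order (by simp) rank_full3 (by norm_num)
  refine ⟨fun y hy => ?_, fun g hg ho => ?_, fun y₁ _ y₂ _ h1 h2 hconj => ?_⟩
  · obtain ⟨R, hR, rfl⟩ := hrep y hy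
    exact hmem R hR
  · obtain ⟨R, hR, h⟩ := classesF4 hg ho
    exact ⟨_, (hmem R hR).1, hrev R hR, h⟩
  · obtain ⟨R₁, hR₁, rfl⟩ := hrep y₁ h1
    obtain ⟨R₂, hR₂, rfl⟩ := hrep y₂ h2
    simp only [List.mem_cons, List.not_mem_nil, or_false] at hR₁ hR₂
    rcases hR₁ with rfl | rfl | rfl | rfl <;> rcases hR₂ with rfl | rfl | rfl | rfl
    · rfl
    · exact absurd (rank_sep (Or.inr rfl) rank_short0 rank_short1 hconj) (by norm_num)
    · exact absurd (rank_sep (Or.inl rfl) rank_full0 rank_full2 hconj) (by norm_num)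
    · exact absurd (rank_sep (Or.inl rfl) rank_full0 rank_full3 hconj) (by norm_num)
    · exact absurd (rank_sep (Or.inr rfl) rank_short1 rank_short0 hconj) (by norm_num)
    · rfl
    · exact absurd (rank_sep (Or.inl rfl) rank_full1 rank_full2 hconj) (by norm_num)
    · exact absurd (rank_sep (Or.inl rfl) rank_full1 rank_full3 hconj) (by norm_num)
    · exact absurd (rank_sep (Or.inl rfl) rank_full2 rank_full0 hconj) (by norm_num)
    · exact absurd (rank_sep (Or.inl rfl) rank_full2 rank_full1 hconj) (by norm_num)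
    · rfl
    · exact absurd (rank_sep (Or.inl rfl) rank_full2 rank_full3 hconj) (by norm_num)
    · exact absurd (rank_sep (Or.inl rfl) rank_full3 rank_full0 hconj) (by norm_num)
    · exact absurd (rank_sep (Or.inl rfl) rank_full3 rank_full1 hconj) (by norm_num)
    · exact absurd (rank_sep (Or.inl rfl) rank_full3 rank_full2 hconj) (by norm_num)
    · rfl

end Cfsg.Agent.S2174
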