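import Cfsg.Statements.S2175
import Cfsg.Agent.Lib.Chev.E6SLRank
-- import your own Cfsg.Agent.* helpers here

set_option autoImplicit false
open Cfsg

open CfsgLib.Chev CfsgLib.Chev.InvolMono CfsgLib.Chev.SLInvol

namespace Cfsg.Agent.S2175

/-- Conjugacy classes of involutions in the Chevalley group of type E₆ over a finite field F of characteristic two (the matrix group generated by the root elements x_r(t)). In this problem's root numbering for type E₆ (the Chevalley data module; fundamental roots numbered so that p₁–p₃–p₄–p₅–p₆ is the long chain of the diagram and p₂ is joined to p₄; roots indexed by their coefficient vectors in increasing order) let r = 71 be the highest root (1,2,2,3,2,1), α = 68 = (1,1,2,2,1,1), β = 66 = (1,1,1,2,2,1), γ = 55 = (0,1,1,2,2,1), δ = 65 = (1,1,1,2,1,1), ε = 67 = (1,1,2,2,1,0) (α ⊥ β and γ, δ, ε pairwise orthogonal); consider x_r(1), x_α(1)x_β(1) and x_γ(1)x_δ(1)x_ε(1). Then: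 each invertible matrix equal to one of these three products lies in the group and has order 2; every element of order 2 of the group is conjugate in the group to one of them; and no two of them are conjugate in the group (so, the three matrices being distinct, the group has exactly three conjugacy classes of involutions). -/
theorem result {F : Type*} [Field F] [Fintype F] [CharP F 2] :
    (∀ y : GL Cfsg.Lie.chevE6.Idx F, ((y : GL Cfsg.Lie.chevE6.Idx F) : Matrix Cfsg.Lie.chevE6.Idx Cfsg.Lie.chevE6.Idx F) ∈ [Cfsg.Lie.chevE6.x F 71 1, Cfsg.Lie.chevE6.x F 68 1 * Cfsg.Lie.chevE6.x F 66 1, Cfsg.Lie.chevE6.x F 55 1 * Cfsg.Lie.chevE6.x F 65 1 * Cfsg.Lie.chevE6.x F 67 1] → y ∈ Cfsg.Lie.chevE6.group F ∧ orderOf y = 2) ∧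
    (∀ g ∈ Cfsg.Lie.chevE6.group F, orderOf g = 2 → ∃ y ∈ Cfsg.Lie.chevE6.group F, ((y : GL Cfsg.Lie.chevE6.Idx F) : Matrix Cfsg.Lie.chevE6.Idx Cfsg.Lie.chevE6.Idx F) ∈ [Cfsg.Lie.chevE6.x F 71 1, Cfsg.Lie.chevE6.x F 68 1 * Cfsg.Lie.chevE6.x F 66 1, Cfsg.Lie.chevE6.x F 55 1 * Cfsg.Lie.chevE6.x F 65 1 * Cfsg.Lie.chevE6.x F 67 1] ∧ ∃ h ∈ Cfsg.Lie.chevE6.group F, h * g * h⁻¹ = y) ∧
    (∀ y₁ ∈ Cfsg.Lie.chevE6.group F, ∀ y₂ ∈ Cfsg.Lie.chevE6.group F, ((y₁ : GL Cfsg.Lie.chevE6.Idx F) : Matrix Cfsg.Lie.chevE6.Idx Cfsg.Lie.chevE6.Idx F) ∈ [Cfsg.Lie.chevE6.x F 71 1, Cfsg.Lie.chevE6.x F 68 1 * Cfsg.Lie.chevE6.x F 66 1, Cfsg.Lie.chevE6.x F 55 1 * Cfsg.Lie.chevE6.x F 65 1 * Cfsg.Lie.chevE6.x F 67 1] → ((y₂ : GL Cfsg.Lie.chevE6.Idx F) : Matrix Cfsg.Lie.chevE6.Idx Cfsg.Lie.chevE6.Idx F) ∈ [Cfsg.Lie.chevE6.x F 71 1, Cfsg.Lie.chevE6.x F 68 1 * Cfsg.Lie.chevE6.x F 66 1, Cfsg.Lie.chevE6.x F 55 1 * Cfsg.Lie.chevE6.x F 65 1 * Cfsg.Lie.chevE6.x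 F 67 1] →
      (∃ h ∈ Cfsg.Lie.chevE6.group F, h * y₁ * h⁻¹ = y₂) → ((y₁ : GL Cfsg.Lie.chevE6.Idx F) : Matrix Cfsg.Lie.chevE6.Idx Cfsg.Lie.chevE6.Idx F) = ((y₂ : GL Cfsg.Lie.chevE6.Idx F) : Matrix Cfsg.Lie.chevE6.Idx Cfsg.Lie.chevE6.Idx F)) := by
  have hrep : ∀ y : GL Cfsg.Lie.chevE6.Idx F, (y : Matrix Cfsg.Lie.chevE6.Idx Cfsg.Lie.chevE6.Idx F) ∈
      [Cfsg.Lie.chevE6.x F 71 1, Cfsg.Lie.chevE6.x F 68 1 * Cfsg.Lie.chevE6.x F 66 1, Cfsg.Lie.chevE6.x F 55 1 * Cfsg.Lie.chevE6.x F 65 1 * Cfsg.Lie.chevE6.x F 67 1] → ∃ R ∈ repsE6, y = prodOne slE6.good F R := by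
    intro y hy
    simp only [List.mem_cons, List.not_mem_nil, or_false] at hy
    rcases hy with hy | hy | hy
    · exact ⟨[71], by simp [repsE6], Units.ext (by simp [prodOne, Good.coe_xG, hy, mul_assoc])⟩
    · exact ⟨[68, 66], by simp [repsE6], Units.ext (by simp [prodOne, Good.coe_xG, hy, mul_assoc])⟩
    · exact ⟨[55, 65, 67], by simp [repsE6], Units.ext (by simp [prodOne, Good.coe_xG, hy, mul_assoc])⟩
  have hrev : ∀ R ∈ repsE6, ((prodOne slE6.good F R : GL Cfsg.Lie.chevE6.Idx F) : Matrix Cfsg.Lie.chevE6.Idx Cfsg.Lie.chevE6.Idx F) ∈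
      [Cfsg.Lie.chevE6.x F 71 1, Cfsg.Lie.chevE6.x F 68 1 * Cfsg.Lie.chevE6.x F 66 1, Cfsg.Lie.chevE6.x F 55 1 * Cfsg.Lie.chevE6.x F 65 1 * Cfsg.Lie.chevE6.x F 67 1] := by
    intro R hR
    simp only [repsE6, List.mem_cons, List.not_mem_nil, or_false] at hR
    rcases hR with rfl | rfl | rfl <;> simp [prodOne, Good.coe_xG, mul_assoc]
  have hmem : ∀ R ∈ repsE6, prodOne slE6.good F R ∈ Cfsg.Lie.chevE6.group F ∧
      orderOf (prodOne slE6.good F R : GL Cfsg.Lie.chevE6.Idx F) = 2 := by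
    intro R hR
    simp only [repsE6, List.mem_cons, List.not_mem_nil, or_false] at hR
    have key : ∀ l : List ℕ, (l.all fun a => decide (a < Cfsg.Lie.chevE6.nroots) &&
        l.all fun b => a == b || Int.beq' (fpair Cfsg.Lie.chevE6 a b) 0) = true → l.Nodup →
        (∀ r ∈ l, r < Cfsg.Lie.chevE6.nroots) ∧ l.Pairwise fun a b => pair Cfsg.Lie.chevE6 a b = 0 := by
      intro l hl hnd
      simp only [List.all_eq_true, Bool.and_eq_true, decide_eq_true_eq, Bool.or_eq_true, beq_iff_eq,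
        Int.beq'_eq] at hl
      refine ⟨fun r hr => (hl r hr).1, hnd.imp_of_mem fun {a b} ha hb hne => ?_⟩
      rw [← slE6.good.fpair_eq a (hl b hb).1]
      exact ((hl a ha).2 b hb).resolve_left hne
    rcases hR with rfl | rfl | rfl
    · obtain ⟨h1, h2⟩ := key _ (by decide +kernel : ([71].all fun a => decide (a < Cfsg.Lie.chevE6.nroots) &&
        [71].all fun b => a == b || Int.beq' (fpair Cfsg.Lie.chevE6 a b) 0) = true) (by decide)
      exact slE6.prodOne_order h1 h2 rankE6_0 (by norm_num)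
    · obtain ⟨h1, h2⟩ := key _ (by decide +kernel : ([68, 66].all fun a => decide (a < Cfsg.Lie.chevE6.nroots) &&
        [68, 66].all fun b => a == b || Int.beq' (fpair Cfsg.Lie.chevE6 a b) 0) = true) (by decide)
      exact slE6.prodOne_order h1 h2 rankE6_1 (by norm_num)
    · obtain ⟨h1, h2⟩ := key _ (by decide +kernel : ([55, 65, 67].all fun a => decide (a < Cfsg.Lie.chevE6.nroots) &&
        [55, 65, 67].all fun b => a == b || Int.beq' (fpair Cfsg.Lie.chevE6 a b) 0) = true) (by decide)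
      exact slE6.prodOne_order h1 h2 rankE6_2 (by norm_num)
  refine ⟨fun y hy => ?_, fun g hg ho => ?_, fun y₁ _ y₂ _ h1 h2 hconj => ?_⟩
  · obtain ⟨R, hR, rfl⟩ := hrep y hy
    exact hmem R hR
  · obtain ⟨R, hR, h⟩ := classesE6 hg ho
    exact ⟨_, (hmem R hR).1, hrev R hR, h⟩
  · obtain ⟨R₁, hR₁, rfl⟩ := hrep y₁ h1
    obtain ⟨R₂, hR₂, rfl⟩ := hrep y₂ h2
    simp only [repsE6, List.mem_cons, List.not_mem_nil, or_false] at hR₁ hR₂
    rcases hR₁ with rfl | rfl | rfl <;> rcases hR₂ with rfl | rfl | rfl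
    · rfl
    · exact absurd (slE6.rank_of_conj rankE6_0 rankE6_1 hconj) (by norm_num)
    · exact absurd (slE6.rank_of_conj rankE6_0 rankE6_2 hconj) (by norm_num)
    · exact absurd (slE6.rank_of_conj rankE6_1 rankE6_0 hconj) (by norm_num)
    · rfl
    · exact absurd (slE6.rank_of_conj rankE6_1 rankE6_2 hconj) (by norm_num)
    · exact absurd (slE6.rank_of_conj rankE6_2 rankE6_0 hconj) (by norm_num)
    · exact absurd (slE6.rank_of_conj rankE6_2 rankE6_1 hconj) (by norm_num)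
    · rfl

end Cfsg.Agent.S2175
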