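import Cfsg.Statements.S2177
import Cfsg.Agent.Lib.Classical.ChevG2InvClasses

set_option autoImplicit false
open Cfsg
open CfsgLib.Chev CfsgLib.Classical.ChevFix

namespace Cfsg.Agent.S2177

/-- Conjugacy classes of involutions in the Chevalley group of type G₂ over a finite field F of characteristic two with at least four elements (the matrix group generated by the root elements x_r(t)). In this problem's root numbering for type G₂ (the Chevalley data module; p₁ = a short, p₂ = b long; roots indexed by coefficient vectors in increasing order) let 11 be the highest root 3a + 2b (long) and 9 the short root 2a + b; consider x_{3a+2b}(1) and x_{2a+b}(1). Then: each invertible matrix equal to one of these two products lies in the group and has order 2; every element of order 2 of the group is conjugate in the group to one of them; and no two of them are conjugate in the group (so, the two matrices being distinct, the group has exactly two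 conjugacy classes of involutions). -/
theorem result {F : Type*} [Field F] [Fintype F] [CharP F 2] (hF : 4 ≤ Fintype.card F) :
    (∀ y : GL Cfsg.Lie.chevG2.Idx F, ((y : GL Cfsg.Lie.chevG2.Idx F) : Matrix Cfsg.Lie.chevG2.Idx Cfsg.Lie.chevG2.Idx F) ∈ [Cfsg.Lie.chevG2.x F 11 1, Cfsg.Lie.chevG2.x F 9 1] → y ∈ Cfsg.Lie.chevG2.group F ∧ orderOf y = 2) ∧
    (∀ g ∈ Cfsg.Lie.chevG2.group F, orderOf g = 2 → ∃ y ∈ Cfsg.Lie.chevG2.group F, ((y : GL Cfsg.Lie.chevG2.Idx F) : Matrix Cfsg.Lie.chevG2.Idx Cfsg.Lie.chevG2.Idx F) ∈ [Cfsg.Lie.chevG2.x F 11 1, Cfsg.Lie.chevG2.x F 9 1] ∧ ∃ h ∈ Cfsg.Lie.chevG2.group F, h * g * h⁻¹ = y) ∧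
    (∀ y₁ ∈ Cfsg.Lie.chevG2.group F, ∀ y₂ ∈ Cfsg.Lie.chevG2.group F, ((y₁ : GL Cfsg.Lie.chevG2.Idx F) : Matrix Cfsg.Lie.chevG2.Idx Cfsg.Lie.chevG2.Idx F) ∈ [Cfsg.Lie.chevG2.x F 11 1, Cfsg.Lie.chevG2.x F 9 1] → ((y₂ : GL Cfsg.Lie.chevG2.Idx F) : Matrix Cfsg.Lie.chevG2.Idx Cfsg.Lie.chevG2.Idx F) ∈ [Cfsg.Lie.chevG2.x F 11 1, Cfsg.Lie.chevG2.x F 9 1] →
      (∃ h ∈ Cfsg.Lie.chevG2.group F, h * y₁ * h⁻¹ = y₂) → ((y₁ : GL Cfsg.Lie.chevG2.Idx F) : Matrix Cfsg.Lie.chevG2.Idx Cfsg.Lie.chevG2.Idx F) = ((y₂ : GL Cfsg.Lie.chevG2.Idx F) : Matrix Cfsg.Lie.chevG2.Idx Cfsg.Lie.chevG2.Idx F)) := by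
  have hrep : ∀ y : GL Cfsg.Lie.chevG2.Idx F,
      (y : Matrix Cfsg.Lie.chevG2.Idx Cfsg.Lie.chevG2.Idx F) ∈ [Cfsg.Lie.chevG2.x F 11 1, Cfsg.Lie.chevG2.x F 9 1] →
      y = goodG2.xG 11 1 ∨ y = goodG2.xG 9 1 := by
    intro y hy
    simp only [List.mem_cons, List.not_mem_nil, or_false] at hy
    exact hy.imp goodG2.eq_xG goodG2.eq_xG
  have hord : ∀ r < Cfsg.Lie.chevG2.nroots, orderOf (goodG2.xG r (1 : F)) = 2 := fun r hr => by
    refine orderOf_eq_prime (p := 2) (hp := ⟨Nat.prime_two⟩) ?_ fun h => ?_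
    · rw [sq, goodG2.xG_add, CharTwo.add_self_eq_zero, goodG2.xG_zero]
    · exact one_ne_zero ((goodG2.x_eq_one_iff hr _).1 (congrArg Units.val h))
  refine ⟨fun y hy => ?_, fun g hg ho => ?_, fun y₁ _ y₂ _ h1 h2 hconj => ?_⟩
  · rcases hrep y hy with rfl | rfl
    · exact ⟨goodG2.xG_mem_group (by decide) _, hord 11 (by decide)⟩
    · exact ⟨goodG2.xG_mem_group (by decide) _, hord 9 (by decide)⟩
  · rcases involution_classes hg ho with h | h
    · exact ⟨_, goodG2.xG_mem_group (by decide) 1, List.mem_cons_self, h⟩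
    · exact ⟨_, goodG2.xG_mem_group (by decide) 1, List.mem_cons_of_mem _ List.mem_cons_self, h⟩
  · have hsymm : ∀ a b : GL Cfsg.Lie.chevG2.Idx F, Conj2 a b → Conj2 b a := by
      rintro a b ⟨h, hh, rfl⟩
      exact ⟨h⁻¹, inv_mem hh, by group⟩
    rcases hrep y₁ h1 with rfl | rfl <;> rcases hrep y₂ h2 with rfl | rfl
    · rfl
    · exact absurd hconj long_not_conj_short
    · exact absurd (hsymm _ _ hconj) long_not_conj_short
    · rfl

end Cfsg.Agent.S2177
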