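import Cfsg.Statements.S2179
import Cfsg.Agent.Lib.Classical.ChevLowF4
import Cfsg.Agent.Lib.Classical.ChevLowW

set_option autoImplicit false
open Cfsg
open CfsgLib.Chev CfsgLib.Classical.ChevFix

namespace Cfsg.Agent.S2179

/-- Centralizers of the two remaining classes of involutions in the Chevalley group G of type F₄ over a finite field F of characteristic two (this problem's root numbering for type F₄, from the Chevalley data module: p₁, p₂ short, p₃, p₄ long with indices 33, 27, 25, 24 and negatives 14, 20, 22, 23; U generated by the positive root subgroups). For an element of G with matrix x_47(1)x_44(1) (highest root times highest short root): its centralizer in G is generated by U, X_{−p₂} and X_{−p₃}. For an element of G with matrix x_39(1)x_45(1) (roots (1,2,2,1) and (2,4,2,1), an orthogonal short/long pair): its centralizer in G is generated by X_{p₁}, X_{−p₁}, X_{p₄}, X_{−p₄} and the root subgroups of all positive roots other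 than p₂ (27), p₃ (25), p₁ + p₂ (34) and p₃ + p₄ (26). -/
theorem result {F : Type*} [Field F] [Fintype F] [CharP F 2] (w v : GL Cfsg.Lie.chevF4.Idx F) (hw : (w : Matrix Cfsg.Lie.chevF4.Idx Cfsg.Lie.chevF4.Idx F) = Cfsg.Lie.chevF4.x F 47 1 * Cfsg.Lie.chevF4.x F 44 1) (hv : (v : Matrix Cfsg.Lie.chevF4.Idx Cfsg.Lie.chevF4.Idx F) = Cfsg.Lie.chevF4.x F 39 1 * Cfsg.Lie.chevF4.x F 45 1) :
    Cfsg.Lie.chevF4.group F ⊓ Subgroup.centralizer {w} = Cfsg.Lie.chevF4.posUnipotent F ⊔ Cfsg.Lie.chevF4.rootSubgroup F 20 ⊔ Cfsg.Lie.chevF4.rootSubgroup F 22 ∧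
    Cfsg.Lie.chevF4.group F ⊓ Subgroup.centralizer {v} = Cfsg.Lie.chevF4.rootSubgroup F 33 ⊔ Cfsg.Lie.chevF4.rootSubgroup F 14 ⊔ Cfsg.Lie.chevF4.rootSubgroup F 24 ⊔ Cfsg.Lie.chevF4.rootSubgroup F 23 ⊔
      Subgroup.closure {g : GL Cfsg.Lie.chevF4.Idx F | ∃ (r : ℕ) (c : F), Cfsg.Lie.chevF4.IsPosRoot r ∧ r ∉ [27, 25, 34, 26] ∧ (g : Matrix Cfsg.Lie.chevF4.Idx Cfsg.Lie.chevF4.Idx F) = Cfsg.Lie.chevF4.x F r c} := by
  obtain rfl : w = goodF4.xG 47 (1 : F) * goodF4.xG 44 (1 : F) := Units.ext (by rw [hw]; rfl)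
  obtain rfl : v = goodF4.xG 39 (1 : F) * goodF4.xG 45 (1 : F) := Units.ext (by rw [hv]; rfl)
  refine ⟨?_, ?_⟩
  · rw [centralizer_pair, parK, rootGen_iSup goodF4 (L := [20, 22]) (by decide +kernel) (by decide +kernel)]
    simp [iSup_or, iSup_sup_eq, sup_assoc]
  obtain ⟨hKG, hKc, hred⟩ := low_reduce goodF4 (hasComm_of_mem (by simp)) checksF4 structChecksF4
    (J := [0, 3]) (vs := [39, 45]) (A := [39, 45, 40, 44, 46, 47]) (E := [27, 25, 34, 26])
    (by simp) (by decide +kernel) hWF (F := F) (t := goodF4.xG 39 (1 : F) * goodF4.xG 45 (1 : F)) (by simp)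
  have h48 : Lie.chevF4.nroots = 48 := by decide +kernel
  have h24 : half Lie.chevF4 = 24 := by decide +kernel
  have hmem : ∀ (s : ℕ), s < Lie.chevF4.nroots → ∀ a : F, (s = 14 ∨ s = 23 ∨ s = 33 ∨ s = 24 ∨
      (24 ≤ s ∧ s ∉ [27, 25, 34, 26])) → goodF4.xG s a ∈ lowK Lie.chevF4 F [0, 3] [27, 25, 34, 26] := by
    intro s hs a h
    rcases h with rfl | rfl | h
    · exact Subgroup.mem_sup_right (goodF4.mem_rootGen hs
        (show 14 ∈ {s | ∃ j ∈ [0, 3], s = Lie.chevF4.neg (Lie.chevF4.simple j)} from ⟨0, by simp, by decide +kernel⟩) a)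
    · exact Subgroup.mem_sup_right (goodF4.mem_rootGen hs
        (show 23 ∈ {s | ∃ j ∈ [0, 3], s = Lie.chevF4.neg (Lie.chevF4.simple j)} from ⟨3, by simp, by decide +kernel⟩) a)
    · refine Subgroup.mem_sup_left (goodF4.mem_rootGen hs (show half Lie.chevF4 ≤ s ∧ s ∉ [27, 25, 34, 26] from ?_) a)
      rcases h with rfl | rfl | h
      · exact ⟨by omega, by simp⟩
      · exact ⟨by omega, by simp⟩
      · exact ⟨by omega, h.2⟩
  refine le_antisymm ?_ ?_
  · intro x hx
    obtain ⟨hxG, hxv⟩ := Subgroup.mem_inf.1 hx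
    obtain ⟨y, hy, hyt, k, hk, rfl⟩ := hred x hxG (Subgroup.mem_centralizer_singleton_iff.1 hxv)
    have hxK : y * k ∈ lowK Lie.chevF4 F [0, 3] [27, 25, 34, 26] := mul_mem (borelF hy hyt) hk
    refine (show lowK Lie.chevF4 F [0, 3] [27, 25, 34, 26] ≤ _ from
      sup_le (goodF4.rootGen_le fun s hs hsn a => ?_) (goodF4.rootGen_le fun s hs hsn a => ?_)) hxK
    · exact Subgroup.mem_sup_right (Subgroup.subset_closure ⟨s, a, (goodF4.isPosRoot_iff s).2 ⟨hs.1, hsn⟩, hs.2, rfl⟩)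
    · obtain ⟨j, hj, rfl⟩ := hs
      simp only [List.mem_cons, List.not_mem_nil, or_false] at hj
      rcases hj with rfl | rfl
      · rw [show Lie.chevF4.neg (Lie.chevF4.simple 0) = 14 by decide +kernel]
        exact Subgroup.mem_sup_left (Subgroup.mem_sup_left (Subgroup.mem_sup_left (Subgroup.mem_sup_right
          (goodF4.xG_mem_rootSubgroup 14 a))))
      · rw [show Lie.chevF4.neg (Lie.chevF4.simple 3) = 23 by decide +kernel]
        exact Subgroup.mem_sup_left (Subgroup.mem_sup_right (goodF4.xG_mem_rootSubgroup 23 a))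
  · have hle : Lie.chevF4.rootSubgroup F 33 ⊔ Lie.chevF4.rootSubgroup F 14 ⊔ Lie.chevF4.rootSubgroup F 24 ⊔
        Lie.chevF4.rootSubgroup F 23 ⊔ Subgroup.closure {g : GL Lie.chevF4.Idx F | ∃ (r : ℕ) (c : F),
          Lie.chevF4.IsPosRoot r ∧ r ∉ [27, 25, 34, 26] ∧
          (g : Matrix Lie.chevF4.Idx Lie.chevF4.Idx F) = Lie.chevF4.x F r c} ≤
        lowK Lie.chevF4 F [0, 3] [27, 25, 34, 26] := by
      refine sup_le (sup_le (sup_le (sup_le ?_ ?_) ?_) ?_) ((Subgroup.closure_le _).2 ?_)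
      iterate 4
        intro x hx
        obtain ⟨a, rfl⟩ := goodF4.mem_rootSubgroup.1 hx
        exact hmem _ (by omega) a (by simp)
      rintro x ⟨r, a, hr, hrE, hxr⟩
      rw [goodF4.eq_xG hxr]
      have hr' := (goodF4.isPosRoot_iff r).1 hr
      exact hmem r hr'.2 a (Or.inr (Or.inr (Or.inr (Or.inr ⟨h24 ▸ hr'.1, hrE⟩))))
    intro x hx
    exact Subgroup.mem_inf.2 ⟨hKG (hle hx), Subgroup.mem_centralizer_singleton_iff.2 (hKc x (hle hx)).eq⟩

end Cfsg.Agent.S2179
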