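import Cfsg.Statements.S2180
import Cfsg.Agent.Lib.Classical.ChevLowG2

set_option autoImplicit false
open Cfsg
open CfsgLib.Chev CfsgLib.Classical.ChevFix

namespace Cfsg.Agent.S2180

/-- Centralizers of involutions in the Chevalley group G of type G₂ over a finite field F of characteristic two with at least four elements (this problem's root numbering for type G₂, from the Chevalley data module: a = p₁ short with index 7, b = p₂ long with index 6, −a = 4, −b = 5, 2a + b = 9, 3a + b = 10, 3a + 2b = 11; U generated by the positive root subgroups). For an element z of G with matrix x_{3a+2b}(1): the centralizer of z in G is generated by U and X_{−a}. For an element t of G with matrix x_{2a+b}(1): the centralizer of t in G is generated by X_{2a+b}, X_{3a+b}, X_{3a+2b}, X_b and X_{−b}. -/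
theorem result {F : Type*} [Field F] [Fintype F] [CharP F 2] (hF : 4 ≤ Fintype.card F) (z t : GL Cfsg.Lie.chevG2.Idx F) (hz : (z : Matrix Cfsg.Lie.chevG2.Idx Cfsg.Lie.chevG2.Idx F) = Cfsg.Lie.chevG2.x F 11 1) (ht : (t : Matrix Cfsg.Lie.chevG2.Idx Cfsg.Lie.chevG2.Idx F) = Cfsg.Lie.chevG2.x F 9 1) :
    Cfsg.Lie.chevG2.group F ⊓ Subgroup.centralizer {z} = Cfsg.Lie.chevG2.posUnipotent F ⊔ Cfsg.Lie.chevG2.rootSubgroup F 4 ∧
    Cfsg.Lie.chevG2.group F ⊓ Subgroup.centralizer {t} = Cfsg.Lie.chevG2.rootSubgroup F 9 ⊔ Cfsg.Lie.chevG2.rootSubgroup F 10 ⊔ Cfsg.Lie.chevG2.rootSubgroup F 11 ⊔ Cfsg.Lie.chevG2.rootSubgroup F 6 ⊔ Cfsg.Lie.chevG2.rootSubgroup F 5 := by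
  obtain rfl : z = goodG2.xG 11 (1 : F) := goodG2.eq_xG hz
  obtain rfl : t = goodG2.xG 9 (1 : F) := goodG2.eq_xG ht
  refine ⟨?_, ?_⟩
  · rw [centralizer_root goodG2 (hasComm_of_mem (by simp)) checksG2 structChecksG2 (J := [0]) (i₀ := 1)
      (by decide +kernel) (by decide +kernel) (by decide +kernel) (by decide +kernel) (by decide +kernel), parK,
      rootGen_iSup goodG2 (L := [4]) (by decide +kernel) (by decide +kernel)]
    simp
  obtain ⟨hKG, hKc, hred⟩ := low_reduce goodG2 (hasComm_of_mem (by simp)) checksG2 structChecksG2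
    (J := [1]) (vs := [9]) (A := [9, 10, 11]) (E := [7, 8])
    (by simp) (by decide +kernel) hWG (F := F) (t := goodG2.xG 9 (1 : F)) (by simp)
  have h12 : Lie.chevG2.nroots = 12 := by decide +kernel
  have h6 : half Lie.chevG2 = 6 := by decide +kernel
  refine le_antisymm ?_ ?_
  · intro x hx
    obtain ⟨hxG, hxt⟩ := Subgroup.mem_inf.1 hx
    obtain ⟨y, hy, hyt, k, hk, rfl⟩ := hred x hxG (Subgroup.mem_centralizer_singleton_iff.1 hxt)
    refine (show lowK Lie.chevG2 F [1] [7, 8] ≤ _ from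
      sup_le (goodG2.rootGen_le fun s hs hsn a => ?_) (goodG2.rootGen_le fun s hs hsn a => ?_))
      (mul_mem (borelG hy hyt) hk)
    · obtain ⟨hs1, hs2⟩ := hs
      simp only [List.mem_cons, List.not_mem_nil, or_false] at hs2
      obtain rfl | rfl | rfl | rfl : s = 6 ∨ s = 9 ∨ s = 10 ∨ s = 11 := by omega
      · exact Subgroup.mem_sup_left (Subgroup.mem_sup_right (goodG2.xG_mem_rootSubgroup 6 a))
      · exact Subgroup.mem_sup_left (Subgroup.mem_sup_left (Subgroup.mem_sup_left (Subgroup.mem_sup_left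
          (goodG2.xG_mem_rootSubgroup 9 a))))
      · exact Subgroup.mem_sup_left (Subgroup.mem_sup_left (Subgroup.mem_sup_left (Subgroup.mem_sup_right
          (goodG2.xG_mem_rootSubgroup 10 a))))
      · exact Subgroup.mem_sup_left (Subgroup.mem_sup_left (Subgroup.mem_sup_right
          (goodG2.xG_mem_rootSubgroup 11 a)))
    · obtain ⟨j, hj, rfl⟩ := hs
      obtain rfl : j = 1 := by simpa using hj
      rw [show Lie.chevG2.neg (Lie.chevG2.simple 1) = 5 by decide +kernel]
      exact Subgroup.mem_sup_right (goodG2.xG_mem_rootSubgroup 5 a)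
  · have hle : Lie.chevG2.rootSubgroup F 9 ⊔ Lie.chevG2.rootSubgroup F 10 ⊔ Lie.chevG2.rootSubgroup F 11 ⊔
        Lie.chevG2.rootSubgroup F 6 ⊔ Lie.chevG2.rootSubgroup F 5 ≤ lowK Lie.chevG2 F [1] [7, 8] := by
      refine sup_le (sup_le (sup_le (sup_le ?_ ?_) ?_) ?_) ?_ <;> intro x hx <;>
        obtain ⟨a, rfl⟩ := goodG2.mem_rootSubgroup.1 hx
      iterate 4
        exact Subgroup.mem_sup_left (goodG2.mem_rootGen (by omega)
          (show half Lie.chevG2 ≤ _ ∧ _ ∉ [7, 8] from ⟨by omega, by simp⟩) a)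
      exact Subgroup.mem_sup_right (goodG2.mem_rootGen (by omega)
        (show 5 ∈ {s | ∃ j ∈ [1], s = Lie.chevG2.neg (Lie.chevG2.simple j)} from ⟨1, by simp, by decide +kernel⟩) a)
    intro x hx
    exact Subgroup.mem_inf.2 ⟨hKG (hle hx), Subgroup.mem_centralizer_singleton_iff.2 (hKc x (hle hx)).eq⟩

end Cfsg.Agent.S2180
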