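import Cfsg.Statements.S2181
import Cfsg.Agent.Lib.Chev.E7SLRank
-- import your own Cfsg.Agent.* helpers here

set_option autoImplicit false
open Cfsg

open CfsgLib.Chev CfsgLib.Chev.InvolMono CfsgLib.Chev.SLInvol

namespace Cfsg.Agent.S2181

/-- The Chevalley group of type E₇ over a finite field of characteristic two (the matrix group generated by the root elements) has exactly five conjugacy classes of elements of order 2. -/
theorem result {F : Type*} [Field F] [Fintype F] [CharP F 2] :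
    (ConjClasses.mk '' {g : ↥(Cfsg.Lie.chevE7.group F) | orderOf g = 2}).ncard = 5 := by
  classical
  have key : ∀ l : List ℕ, (l.all fun a => decide (a < Cfsg.Lie.chevE7.nroots) &&
      l.all fun b => a == b || Int.beq' (fpair Cfsg.Lie.chevE7 a b) 0) = true → l.Nodup →
      (∀ r ∈ l, r < Cfsg.Lie.chevE7.nroots) ∧ l.Pairwise fun a b => pair Cfsg.Lie.chevE7 a b = 0 := by
    intro l hl hnd
    simp only [List.all_eq_true, Bool.and_eq_true, decide_eq_true_eq, Bool.or_eq_true, beq_iff_eq,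
      Int.beq'_eq] at hl
    refine ⟨fun r hr => (hl r hr).1, hnd.imp_of_mem fun {a b} ha hb hne => ?_⟩
    rw [← slE7.good.fpair_eq a (hl b hb).1]
    exact ((hl a ha).2 b hb).resolve_left hne
  obtain ⟨h0, h0'⟩ := key [125] (by decide +kernel) (by decide)
  obtain ⟨m0, o0⟩ := slE7.prodOne_order (F := F) h0 h0' rankE7_0 (by norm_num)
  obtain ⟨h1, h1'⟩ := key [92, 125] (by decide +kernel) (by decide)
  obtain ⟨m1, o1⟩ := slE7.prodOne_order (F := F) h1 h1' rankE7_1 (by norm_num)
  obtain ⟨h2, h2'⟩ := key [87, 92, 125] (by decide +kernel) (by decide)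
  obtain ⟨m2, o2⟩ := slE7.prodOne_order (F := F) h2 h2' rankE7_2 (by norm_num)
  obtain ⟨h3, h3'⟩ := key [63, 92, 125] (by decide +kernel) (by decide)
  obtain ⟨m3, o3⟩ := slE7.prodOne_order (F := F) h3 h3' rankE7_3 (by norm_num)
  obtain ⟨h4, h4'⟩ := key [78, 87, 92, 125] (by decide +kernel) (by decide)
  obtain ⟨m4, o4⟩ := slE7.prodOne_order (F := F) h4 h4' rankE7_4 (by norm_num)
  let G := ↥(Cfsg.Lie.chevE7.group F)
  let y : Fin 5 → G := ![⟨_, m0⟩, ⟨_, m1⟩, ⟨_, m2⟩, ⟨_, m3⟩, ⟨_, m4⟩]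
  have himg : ConjClasses.mk '' {g : G | orderOf g = 2} = Set.range fun i => ConjClasses.mk (y i) := by
    ext c
    constructor
    · rintro ⟨g, hg, rfl⟩
      obtain ⟨R, hR, z, hz, hzz⟩ := classesE7 g.2 (by rw [Subgroup.orderOf_coe]; exact hg)
      have hyR : ∃ i, ((y i : G) : GL Cfsg.Lie.chevE7.Idx F) = prodOne slE7.good F R := by
        simp only [repsE7, List.mem_cons, List.not_mem_nil, or_false] at hR
        rcases hR with rfl | rfl | rfl | rfl | rfl
        · exact ⟨0, rfl⟩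
        · exact ⟨1, rfl⟩
        · exact ⟨2, rfl⟩
        · exact ⟨3, rfl⟩
        · exact ⟨4, rfl⟩
      obtain ⟨i, hi⟩ := hyR
      refine ⟨i, ConjClasses.mk_eq_mk_iff_isConj.2 (IsConj.symm (isConj_iff.2 ⟨⟨z, hz⟩, Subtype.ext ?_⟩))⟩
      rw [hi, ← hzz]; rfl
    · rintro ⟨i, rfl⟩
      refine ⟨y i, ?_, rfl⟩
      show orderOf (y i) = 2
      rw [← Subgroup.orderOf_coe]
      fin_cases i
      · exact o0
      · exact o1
      · exact o2
      · exact o3
      · exact o4
  rw [himg, Set.ncard_range_of_injective ?_, Nat.card_fin]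
  intro i j hij
  obtain ⟨z, hz⟩ := isConj_iff.1 (ConjClasses.mk_eq_mk_iff_isConj.1 hij)
  have hc : GConj ((y i : G) : GL Cfsg.Lie.chevE7.Idx F) (y j : G) :=
    ⟨z, z.2, by rw [← hz]; rfl⟩
  fin_cases i <;> fin_cases j
  · rfl
  · exact absurd (slE7.rank_of_conj rankE7_0 rankE7_1 hc) (by norm_num)
  · exact absurd (slE7.rank_of_conj rankE7_0 rankE7_2 hc) (by norm_num)
  · exact absurd (slE7.rank_of_conj rankE7_0 rankE7_3 hc) (by norm_num)
  · exact absurd (slE7.rank_of_conj rankE7_0 rankE7_4 hc) (by norm_num)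
  · exact absurd (slE7.rank_of_conj rankE7_1 rankE7_0 hc) (by norm_num)
  · rfl
  · exact absurd (slE7.rank_of_conj rankE7_1 rankE7_2 hc) (by norm_num)
  · exact absurd (slE7.rank_of_conj rankE7_1 rankE7_3 hc) (by norm_num)
  · exact absurd (slE7.rank_of_conj rankE7_1 rankE7_4 hc) (by norm_num)
  · exact absurd (slE7.rank_of_conj rankE7_2 rankE7_0 hc) (by norm_num)
  · exact absurd (slE7.rank_of_conj rankE7_2 rankE7_1 hc) (by norm_num)
  · rfl
  · exact absurd (slE7.rank_of_conj rankE7_2 rankE7_3 hc) (by norm_num)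
  · exact absurd (slE7.rank_of_conj rankE7_2 rankE7_4 hc) (by norm_num)
  · exact absurd (slE7.rank_of_conj rankE7_3 rankE7_0 hc) (by norm_num)
  · exact absurd (slE7.rank_of_conj rankE7_3 rankE7_1 hc) (by norm_num)
  · exact absurd (slE7.rank_of_conj rankE7_3 rankE7_2 hc) (by norm_num)
  · rfl
  · exact absurd (slE7.rank_of_conj rankE7_3 rankE7_4 hc) (by norm_num)
  · exact absurd (slE7.rank_of_conj rankE7_4 rankE7_0 hc) (by norm_num)
  · exact absurd (slE7.rank_of_conj rankE7_4 rankE7_1 hc) (by norm_num)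
  · exact absurd (slE7.rank_of_conj rankE7_4 rankE7_2 hc) (by norm_num)
  · exact absurd (slE7.rank_of_conj rankE7_4 rankE7_3 hc) (by norm_num)
  · rfl

end Cfsg.Agent.S2181
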