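import Cfsg.Statements.S2190
import Cfsg.Agent.Lib.Chev.SubMaxMain

set_option autoImplicit false
open Cfsg

namespace Cfsg.Agent.S2190

/-- Subfield subgroups of prime degree are maximal. Let K be a finite field with q^r elements, r a prime, q a power of the characteristic, and G the Chevalley group of type G₂, B₂, D₄, F₄, E₆, E₇ or E₈ over K (the matrix group generated by the root elements). Let M be the subgroup of G consisting of the matrices all of whose entries lie in the subfield with q elements (entries c with c^q = c). Then M is a proper subgroup of G and is maximal: every subgroup of G containing M is M or G. -/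
theorem result {K : Type*} [Field K] [Fintype K] (p : ℕ) [Fact p.Prime] [CharP K p] (D : Cfsg.Lie.ChevalleyDatum) (hD : D ∈ [Cfsg.Lie.chevG2, Cfsg.Lie.chevB2, Cfsg.Lie.chevD4, Cfsg.Lie.chevF4, Cfsg.Lie.chevE6, Cfsg.Lie.chevE7, Cfsg.Lie.chevE8]) (a r : ℕ) (ha : 1 ≤ a) (hr : r.Prime) (hK : Fintype.card K = (p ^ a) ^ r) (M : Subgroup (GL D.Idx K))
    (hM : ∀ g : GL D.Idx K, g ∈ M ↔ g ∈ D.group K ∧ ∀ i j : D.Idx, ((g : Matrix D.Idx D.Idx K) i j) ^ (p ^ a) = (g : Matrix D.Idx D.Idx K) i j) :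
    M ≠ D.group K ∧ ∀ H : Subgroup (GL D.Idx K), M ≤ H → H ≤ D.group K → H = M ∨ H = D.group K := by
  obtain ⟨σ, hσ⟩ := CfsgLib.Chev.exists_powMap_ringHom
    (q := p ^ a) (j := r) ⟨p, a, Nat.prime_iff.1 Fact.out, ha, rfl⟩ hK hr.pos
  let E : CfsgLib.Chev.SubMax.FieldExt K :=
    ⟨p ^ a, r, σ, Nat.one_lt_pow (by omega) (Fact.out : p.Prime).one_lt, hr, hK, hσ⟩
  have hM' : M = D.group K ⊓ MonoidHom.eqLocus (CfsgLib.Chev.scalarGL D σ) (MonoidHom.id _) := by
    ext g
    rw [hM]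
    refine and_congr Iff.rfl ⟨fun h => Units.ext (Matrix.ext fun i j => ?_), fun h i j => ?_⟩
    · show σ ((g : Matrix D.Idx D.Idx K) i j) = _
      rw [hσ]; exact h i j
    · rw [← hσ]
      have h1 : (CfsgLib.Chev.scalarGL D σ g : Matrix D.Idx D.Idx K) = (g : Matrix D.Idx D.Idx K) := congrArg Units.val h
      have h2 := congrArg (fun A : Matrix D.Idx D.Idx K => A i j) h1
      exact h2
  refine ⟨?_, fun H hMH hHG => ?_⟩
  · intro h
    obtain ⟨t, ht⟩ := E.exists_not_fixed
    have g := CfsgLib.Chev.good_of_mem hD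
    have hT := CfsgLib.Chev.SubMax.top_lt g
    have hm : g.xG (CfsgLib.Chev.SubMax.top D) t ∈ M := h ▸ g.xG_mem_group hT t
    rw [hM'] at hm
    have h2 : CfsgLib.Chev.scalarGL D σ (g.xG (CfsgLib.Chev.SubMax.top D) t) = g.xG (CfsgLib.Chev.SubMax.top D) t :=
      hm.2
    rw [g.scalarGL_xG σ hT] at h2
    exact ht (CfsgLib.Chev.SubMax.xG_inj g hT h2)
  · rw [hM']
    exact CfsgLib.Chev.SubMax.maximal hD E H (fun x hx hfix => hMH (hM' ▸ ⟨hx, hfix⟩)) hHG

end Cfsg.Agent.S2190
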