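import Cfsg.Statements.S2205
import Cfsg.Agent.Lib.Perm.SquarePlusOne.Main

set_option autoImplicit false
open Cfsg

namespace Cfsg.Agent.S2205

/-- A finite group acting faithfully and 2-transitively on a set with p² + 1 points, p a prime, is doubly primitive — a point stabilizer acts primitively on the remaining p² points — unless p = 2 and the group is the Frobenius group of order 20. -/
theorem result {G Ω : Type*} [Group G] [Finite G] [Fintype Ω] [MulAction G Ω] [FaithfulSMul G Ω] (p : ℕ) (hp : p.Prime) (hΩ : Fintype.card Ω = p ^ 2 + 1) (h2 : MulAction.IsMultiplyPretransitive G Ω 2) (a : Ω) :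
    MulAction.IsPreprimitive ↥(MulAction.stabilizer G a) ↥(SubMulAction.ofStabilizer G a) ∨ (p = 2 ∧ Nat.card G = 20) := by
  classical
  have h2' : CfsgLib.Perm.SqOne.TwoTrans G Ω := fun x y z w hxy hzw =>
    MulAction.is_two_pretransitive_iff.mp h2 hxy hzw
  have hfaith : ∀ g : G, (∀ x : Ω, g • x = x) → g = 1 := fun g h =>
    eq_of_smul_eq_smul fun x : Ω => (h x).trans (one_smul G x).symm
  haveI : MulAction.IsPretransitive ↥(MulAction.stabilizer G a) ↥(SubMulAction.ofStabilizer G a) :=
    ⟨fun x y => by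
      obtain ⟨g, hg, hgy⟩ := CfsgLib.Perm.SqOne.exists_stab_smul h2' x.2 y.2
      exact ⟨⟨g, hg⟩, Subtype.ext hgy⟩⟩
  by_cases hprim : MulAction.IsPreprimitive ↥(MulAction.stabilizer G a) ↥(SubMulAction.ofStabilizer G a)
  · exact Or.inl hprim
  obtain ⟨C, hC, hCnt⟩ : ∃ C : Set ↥(SubMulAction.ofStabilizer G a),
      MulAction.IsBlock ↥(MulAction.stabilizer G a) C ∧ ¬ MulAction.IsTrivialBlock C := by
    by_contra h
    exact hprim { isTrivialBlock_of_isBlock := fun {C} hC => by_contra fun hn => h ⟨C, hC, hn⟩ }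
  rw [MulAction.IsTrivialBlock, not_or] at hCnt
  obtain ⟨B, hBdef⟩ : ∃ B : Finset Ω, B = Finset.univ.filter
      (fun x => ∃ h : x ∈ SubMulAction.ofStabilizer G a, (⟨x, h⟩ : ↥(SubMulAction.ofStabilizer G a)) ∈ C) :=
    ⟨_, rfl⟩
  have hBmem : ∀ x, x ∈ B ↔ ∃ h : x ∈ SubMulAction.ofStabilizer G a,
      (⟨x, h⟩ : ↥(SubMulAction.ofStabilizer G a)) ∈ C := fun x => by simp [hBdef]
  have hB : CfsgLib.Perm.SqOne.ABlock G a B := by
    refine ⟨fun h => ?_, fun g hg x hx hgx y hy => ?_⟩
    · obtain ⟨h', -⟩ := (hBmem a).mp h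
      exact h' rfl
    · obtain ⟨hx', hxC⟩ := (hBmem x).mp hx
      obtain ⟨hgx', hgxC⟩ := (hBmem _).mp hgx
      obtain ⟨hy', hyC⟩ := (hBmem y).mp hy
      have hsm := MulAction.isBlock_iff_smul_eq_of_mem.mp hC (g := (⟨g, hg⟩ : ↥(MulAction.stabilizer G a)))
        hxC hgxC
      have hmem : (⟨g, hg⟩ : ↥(MulAction.stabilizer G a)) • (⟨y, hy'⟩ : ↥(SubMulAction.ofStabilizer G a)) ∈ C := by
        have h := Set.smul_mem_smul_set (a := (⟨g, hg⟩ : ↥(MulAction.stabilizer G a))) hyC
        rwa [hsm] at h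
      exact (hBmem _).mpr ⟨_, hmem⟩
  obtain ⟨x₁, hx₁, x₂, hx₂, hne⟩ := Set.not_subsingleton_iff.mp hCnt.1
  have hx₁B : (x₁ : Ω) ∈ B := (hBmem _).mpr ⟨x₁.2, hx₁⟩
  have hx₂B : (x₂ : Ω) ∈ B := (hBmem _).mpr ⟨x₂.2, hx₂⟩
  have hne' : (x₁ : Ω) ≠ x₂ := fun h => hne (Subtype.ext h)
  have hBc : B.card = p := by
    rcases hB.card_cases h2' hp hΩ hx₁B with h | h | h
    · exact absurd (Finset.card_le_one.mp h.le _ hx₁B _ hx₂B) hne'
    · exact h
    · exfalso
      apply hCnt.2
      have hall : B = Finset.univ.erase a := by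
        refine Finset.eq_of_subset_of_card_le (fun x hx => Finset.mem_erase.mpr
          ⟨fun e => hB.1 (e ▸ hx), Finset.mem_univ x⟩) ?_
        rw [Finset.card_erase_of_mem (Finset.mem_univ a), Finset.card_univ, hΩ, h]
        omega
      refine Set.eq_univ_of_forall fun z => ?_
      obtain ⟨hz, hzC⟩ := (hBmem (z : Ω)).mp (hall ▸ Finset.mem_erase.mpr ⟨z.2, Finset.mem_univ _⟩)
      exact hzC
  by_cases hp2 : p = 2
  swap
  · exact (CfsgLib.Perm.SqOne.no_block hp hp2 hΩ h2' hfaith hB hx₁B hBc).elim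
  refine Or.inr ⟨hp2, ?_⟩
  subst hp2
  obtain ⟨b, hbdef⟩ : ∃ b : Ω, b = x₁ := ⟨_, rfl⟩
  rw [← hbdef] at hx₁B hne'
  have hba : b ≠ a := fun h => hB.1 (h ▸ hx₁B)
  have hca : (x₂ : Ω) ≠ a := fun h => hB.1 (h ▸ hx₂B)
  have hB2 : B = {b, (x₂ : Ω)} := by
    refine (Finset.eq_of_subset_of_card_le (by simp [Finset.insert_subset_iff, hx₁B, hx₂B]) ?_).symm
    rw [hBc, Finset.card_pair hne']
  have hrest : ((((Finset.univ : Finset Ω).erase a).erase b).erase (x₂ : Ω)).card = 2 := by
    rw [Finset.card_erase_of_mem (by simp [hca, hne'.symm]), Finset.card_erase_of_mem (by simp [hba]),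
      Finset.card_erase_of_mem (Finset.mem_univ a), Finset.card_univ, hΩ]
    norm_num
  obtain ⟨d, e, hde, hpair⟩ := Finset.card_eq_two.mp hrest
  have hmem : ∀ x : Ω, x = a ∨ x = b ∨ x = (x₂ : Ω) ∨ x = d ∨ x = e := by
    intro x
    by_contra h
    simp only [not_or] at h
    have : x ∈ (((Finset.univ : Finset Ω).erase a).erase b).erase (x₂ : Ω) := by
      simp [h.1, h.2.1, h.2.2.1]
    rw [hpair] at this
    simp [h.2.2.2] at this
  have hdmem : d ∈ (((Finset.univ : Finset Ω).erase a).erase b).erase (x₂ : Ω) := by simp [hpair]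
  have hemem : e ∈ (((Finset.univ : Finset Ω).erase a).erase b).erase (x₂ : Ω) := by simp [hpair]
  simp only [Finset.mem_erase, Finset.mem_univ, and_true] at hdmem hemem
  have hdB : d ∉ B := by simp [hB2, hdmem.1, hdmem.2.1]
  -- the two-point stabilizer is trivial
  have hH : ∀ h : G, h • a = a → h • b = b → h = 1 := by
    intro h hha hhb
    have hhB : ∀ y ∈ B, h • y ∈ B := hB.2 h hha b hx₁B (by rw [hhb]; exact hx₁B)
    have hhc : h • (x₂ : Ω) = x₂ := by
      have := hhB _ hx₂B
      rw [hB2, Finset.mem_insert, Finset.mem_singleton] at this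
      rcases this with e' | e'
      · exact absurd (smul_left_cancel h (e'.trans hhb.symm)).symm hne'
      · exact e'
    by_contra hh1
    have hhd : h • d = e := by
      rcases hmem (h • d) with e' | e' | e' | e' | e'
      · exact absurd (smul_left_cancel h (e'.trans hha.symm)) hdmem.2.2
      · exact absurd (smul_left_cancel h (e'.trans hhb.symm)) hdmem.2.1
      · exact absurd (smul_left_cancel h (e'.trans hhc.symm)) hdmem.1
      · exfalso
        apply hh1
        refine hfaith h fun x => ?_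
        rcases hmem x with rfl | rfl | rfl | rfl | rfl
        · exact hha
        · exact hhb
        · exact hhc
        · exact e'
        · rcases hmem (h • x) with f | f | f | f | f
          · exact absurd (smul_left_cancel h (f.trans hha.symm)) hemem.2.2
          · exact absurd (smul_left_cancel h (f.trans hhb.symm)) hemem.2.1
          · exact absurd (smul_left_cancel h (f.trans hhc.symm)) hemem.1
          · exact absurd (smul_left_cancel h (f.trans e'.symm)) hde.symm
          · exact f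
      · exact e'
    have hhe : h • e = d := by
      rcases hmem (h • e) with f | f | f | f | f
      · exact absurd (smul_left_cancel h (f.trans hha.symm)) hemem.2.2
      · exact absurd (smul_left_cancel h (f.trans hhb.symm)) hemem.2.1
      · exact absurd (smul_left_cancel h (f.trans hhc.symm)) hemem.1
      · exact f
      · exact absurd (smul_left_cancel h (f.trans hhd.symm)) hde.symm
    obtain ⟨g, hgd, hge⟩ := h2' d e b d hde (Ne.symm hdmem.2.1)
    have hfix : ∀ x : Ω, x ≠ b → x ≠ d → (g * h * g⁻¹) • x = x := by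
      intro x hxb hxd
      rw [mul_smul, mul_smul, ← eq_inv_smul_iff]
      rcases hmem (g⁻¹ • x) with f | f | f | f | f
      · rw [f, hha]
      · rw [f, hhb]
      · rw [f, hhc]
      · exact absurd (by rw [← hgd, ← f, smul_inv_smul]) hxb
      · exact absurd (by rw [← hge, ← f, smul_inv_smul]) hxd
    have hkd : (g * h * g⁻¹) • b = d := by
      rw [mul_smul, mul_smul, inv_smul_eq_iff.mpr hgd.symm, hhd, hge]
    have := hB.2 (g * h * g⁻¹) (MulAction.mem_stabilizer_iff.mpr (hfix a hba.symm hdmem.2.2.symm))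
      x₂ hx₂B (by rw [hfix _ hne'.symm (Ne.symm hdmem.1)]; exact hx₂B) b hx₁B
    rw [hkd] at this
    exact hdB this
  -- counting
  have hbij : Function.Bijective (fun g : G => (⟨(g • a, g • b), fun h => hba
      (smul_left_cancel g h).symm⟩ : {q : Ω × Ω // q.1 ≠ q.2})) := by
    refine ⟨fun g g' h => ?_, fun q => ?_⟩
    · have h1 := congrArg (fun q : {q : Ω × Ω // q.1 ≠ q.2} => (q : Ω × Ω)) h
      simp only [Prod.mk.injEq] at h1
      have := hH (g'⁻¹ * g) (by rw [mul_smul, h1.1, inv_smul_smul]) (by rw [mul_smul, h1.2, inv_smul_smul])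
      exact (inv_mul_eq_one.mp this).symm
    · obtain ⟨g, hga, hgb⟩ := h2' a b q.1.1 q.1.2 hba.symm q.2
      exact ⟨g, Subtype.ext (Prod.ext hga hgb)⟩
  rw [Nat.card_eq_of_bijective _ hbij, Nat.card_eq_fintype_card, Fintype.card_subtype]
  rw [show (Finset.univ.filter fun q : Ω × Ω => q.1 ≠ q.2) = (Finset.univ : Finset Ω).offDiag from by
    ext q; simp [Finset.mem_offDiag]]
  rw [Finset.offDiag_card, Finset.card_univ, hΩ]
  norm_num

end Cfsg.Agent.S2205
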