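import Cfsg.Statements.S2212
import Cfsg.Agent.Lib.Recog.EvenUnitary.Assembly

set_option autoImplicit false
open Cfsg CfsgLib.Recog.EvenUnitary

namespace Cfsg.Agent.S2212

/-- Characterization of the three-dimensional projective unitary groups over finite fields of characteristic two by the centralizer of an involution. Let q = 2^n > 2 and let PGU₃(q) be the quotient of the full unitary group of a non-degenerate Hermitian form in three variables over the field with q² elements by its centre. Let G be a finite group of even order in which all involutions are conjugate, the centralizer of an involution is isomorphic to the centralizer of an involution in PGU₃(q), and a Sylow 2-subgroup is not normal. Then G ≅ PGU₃(q). -/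
theorem result {G : Type*} [Group G] [Finite G] {F : Type*} [Field F] [Fintype F] [CharP F 2] (q : ℕ) (hq : 2 < q) (hF : Fintype.card F = q ^ 2)
    (heven : Even (Nat.card G)) (hconj : ∀ s t : G, orderOf s = 2 → orderOf t = 2 → IsConj s t)
    (hC : ∀ (x : G) (y : (↥(Cfsg.GU 3 F q) ⧸ Subgroup.center ↥(Cfsg.GU 3 F q))), orderOf x = 2 → orderOf y = 2 →
      Nonempty (↥(Subgroup.centralizer ({x} : Set G)) ≃* ↥(Subgroup.centralizer ({y} : Set (↥(Cfsg.GU 3 F q) ⧸ Subgroup.center ↥(Cfsg.GU 3 F q))))))
    (hS : ∀ P : Sylow 2 G, ¬ (P : Subgroup G).Normal) :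
    Nonempty (G ≃* (↥(Cfsg.GU 3 F q) ⧸ Subgroup.center ↥(Cfsg.GU 3 F q))) := by
  obtain ⟨k, -, hk⟩ := FiniteField.card F 2
  obtain ⟨n, -, hn⟩ := (Nat.dvd_prime_pow Nat.prime_two).1
    (show q ∣ 2 ^ (k : ℕ) by rw [← hk, hF]; exact dvd_pow_self q two_ne_zero)
  have hn2 : 2 ≤ n := by
    by_contra hlt
    have : 2 ^ n ≤ 2 ^ 1 := Nat.pow_le_pow_right (by norm_num) (by omega)
    omega
  subst hn
  let h : CfsgLib.Chev.PSUSyl.QField F := ⟨n, hn2, hF, by exact_mod_cast CharP.cast_eq_zero F 2⟩
  obtain ⟨e⟩ := exists_gu_equiv h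
  have hcen : (Subgroup.center ↥(Hyp h)).map e.toMonoidHom = Subgroup.center ↥(Cfsg.GU 3 F (2 ^ n)) := by
    ext x
    constructor
    · rintro ⟨y, hy, rfl⟩
      refine Subgroup.mem_center_iff.2 fun z => ?_
      obtain ⟨z, rfl⟩ := e.surjective z
      show e z * e y = e y * e z
      rw [← map_mul, ← map_mul, Subgroup.mem_center_iff.1 hy z]
    · intro hx
      refine ⟨e.symm x, Subgroup.mem_center_iff.2 fun z => e.injective ?_, e.apply_symm_apply x⟩
      rw [map_mul, map_mul, e.apply_symm_apply]
      exact Subgroup.mem_center_iff.1 hx (e z)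
  let E := QuotientGroup.congr (Subgroup.center ↥(Hyp h)) (Subgroup.center ↥(Cfsg.GU 3 F (2 ^ n))) e hcen
  obtain ⟨H⟩ := exists_hypo ((modelCent h).mapEquiv E) heven hconj hC hS
  obtain ⟨φ⟩ := H.mulEquiv
  exact ⟨φ.trans E⟩

end Cfsg.Agent.S2212
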