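import Cfsg.Statements.S2214
import Cfsg.Agent.Lib.Classical.ChevGalois
import Cfsg.Agent.Lib.Chev.CommGood

set_option autoImplicit false
open Cfsg

namespace Cfsg.Agent.S2214

/-- Let k be an algebraically closed field of prime characteristic p, G the adjoint Chevalley group of type G₂, B₂, D₄, F₄, E₆, E₇ or E₈ over k (the matrix group generated by the root elements x_s(t), t ∈ k, acting on the Lie algebra), q = p^a with a ≥ 1, and K a subgroup of G containing every root element x_s(t) with t^q = t and consisting of matrices all of whose entries c satisfy c^q = c. Then the centralizer of K in G is trivial, and the normalizer of K in G is exactly the set of elements of G all of whose entries c satisfy c^q = c. -/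
theorem result {k : Type*} [Field k] [IsAlgClosed k] (p : ℕ) [Fact p.Prime] [CharP k p] (D : Cfsg.Lie.ChevalleyDatum) (hD : D ∈ [Cfsg.Lie.chevG2, Cfsg.Lie.chevB2, Cfsg.Lie.chevD4, Cfsg.Lie.chevF4, Cfsg.Lie.chevE6, Cfsg.Lie.chevE7, Cfsg.Lie.chevE8]) (a : ℕ) (ha : 1 ≤ a) (K : Subgroup (GL D.Idx k)) (hKG : K ≤ D.group k)
    (hLK : Subgroup.closure {g : GL D.Idx k | ∃ (s : ℕ) (t : k), t ^ (p ^ a) = t ∧ (g : Matrix D.Idx D.Idx k) = D.x k s t} ≤ K)
    (hKfix : ∀ g ∈ K, ∀ i j : D.Idx, ((g : Matrix D.Idx D.Idx k) i j) ^ (p ^ a) = (g : Matrix D.Idx D.Idx k) i j) :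
    D.group k ⊓ Subgroup.centralizer (K : Set (GL D.Idx k)) = ⊥ ∧
    ∀ g : GL D.Idx k, g ∈ D.group k → (g ∈ Subgroup.normalizer (K : Set (GL D.Idx k)) ↔ ∀ i j : D.Idx, ((g : Matrix D.Idx D.Idx k) i j) ^ (p ^ a) = (g : Matrix D.Idx D.Idx k) i j) := by
  have g := CfsgLib.Chev.good_of_mem hD
  have hc := CfsgLib.Chev.hasComm_of_mem hD
  have := ha
  obtain ⟨f, hf⟩ : ∃ f : k →+* k, ∀ t, f t = t ^ (p ^ a) :=
    ⟨iterateFrobenius k p a, fun t => iterateFrobenius_def p a t⟩
  have hmap : ∀ x : GL D.Idx k, Matrix.GeneralLinearGroup.map f x = x ↔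
      ∀ i j : D.Idx, ((x : Matrix D.Idx D.Idx k) i j) ^ (p ^ a) = (x : Matrix D.Idx D.Idx k) i j := fun x => by
    rw [Units.ext_iff, ← Matrix.ext_iff]
    refine forall_congr' fun i => forall_congr' fun j => ?_
    show f _ = _ ↔ _
    rw [hf]
  have hroot : ∀ (r : ℕ) (t : k), f t = t → g.xG r t ∈ Subgroup.closure
      {x : GL D.Idx k | ∃ (s : ℕ) (u : k), u ^ (p ^ a) = u ∧ (x : Matrix D.Idx D.Idx k) = D.x k s u} :=
    fun r t ht => Subgroup.subset_closure ⟨r, t, (hf t).symm.trans ht, g.coe_xG r t⟩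
  obtain ⟨h1, h2⟩ := CfsgLib.Classical.ChevFix.centralizer_normalizer g hc f K hKG
    ((CfsgLib.Classical.ChevFix.rootFix_le g f fun r _ t ht =>
      hroot r t ht).trans hLK)
    (fun y hy => (hmap y).2 (hKfix y hy))
  exact ⟨h1, fun x hx => (h2 x hx).trans (hmap x)⟩

end Cfsg.Agent.S2214
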