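import Cfsg.Statements.S2221
import Cfsg.Agent.Lib.ClassK.AltSylowCount
-- import your own Cfsg.Agent.* helpers here

set_option autoImplicit false
open Cfsg

namespace Cfsg.Agent.S2221

/-- Direct decomposability of the Sylow 2-subgroups of the alternating groups. Let n ≥ 4 and let P be a Sylow 2-subgroup of the alternating group of degree n. Then P is the internal direct product of two nontrivial subgroups if and only if n = 4, n = 5, or n ≡ 2, 3 (mod 4) with 4⌊n/4⌋ not a power of 2. In the remaining cases (n ≡ 0, 1 (mod 4) with n ≥ 8, or n ≡ 2, 3 (mod 4) with 4⌊n/4⌋ a power of 2) P is directly indecomposable. -/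
theorem result (n : ℕ) (hn : 4 ≤ n)
    (P : Sylow 2 (alternatingGroup (Fin n))) :
    (∃ S₁ S₂ : Subgroup (alternatingGroup (Fin n)), S₁ ≠ ⊥ ∧ S₂ ≠ ⊥ ∧
        Cfsg.IsInternalDirectProduct S₁ S₂ (P : Subgroup (alternatingGroup (Fin n)))) ↔
      (n = 4 ∨ n = 5 ∨ ((n % 4 = 2 ∨ n % 4 = 3) ∧ ∀ r : ℕ, 4 * (n / 4) ≠ 2 ^ r)) := by
  obtain ⟨S⟩ := (inferInstance : Nonempty (Sylow 2 (Equiv.Perm (Fin (n / 2)))))
  obtain ⟨e⟩ := CfsgLib.ClassK.AltSylow.sylow_alternating_equiv (by omega) S P
  have h := (CfsgLib.ClassK.AltSylow.decomposable_iff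
      (P : Subgroup (alternatingGroup (Fin n)))).trans
    (⟨fun h => h.congr e, fun h => h.congr e.symm⟩ :
      _ ↔ CfsgLib.ClassK.AltSylow.Decomposable _)
  simp only [Cfsg.IsInternalDirectProduct]
  rw [h, CfsgLib.ClassK.AltSylow.decomposable_evenW (by omega) S]
  constructor
  · rintro (h2 | ⟨ho, hp⟩)
    · omega
    · refine Or.inr (Or.inr ⟨by omega, fun r hr => ?_⟩)
      rcases r with _ | r
      · omega
      · rw [pow_succ] at hr
        exact hp r (by omega)
  · rintro (rfl | rfl | ⟨h4, hp⟩)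
    · exact Or.inl rfl
    · exact Or.inl rfl
    · refine Or.inr ⟨by omega, fun k hk => hp (k + 1) ?_⟩
      rw [pow_succ]
      omega

end Cfsg.Agent.S2221
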