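import Cfsg.Statements.S2227
import Cfsg.Agent.Lib.Chev.TwE6FiveGroup
import Cfsg.Agent.Lib.Chev.E6FiClasses

set_option autoImplicit false
open Cfsg

namespace Cfsg.Agent.S2227

/-- In the twisted group ²E₆(2) all elements of order 5 are conjugate, and the centralizer of an element of order 5 is isomorphic to the direct product of a cyclic group of order 5 with the alternating group of degree 8. -/
theorem result {K : Type*} [Field K] [Fintype K] (hK : Fintype.card K = 4) :
    (∀ x y : ↥(Cfsg.Lie.twistedE6 K 2), orderOf x = 5 → orderOf y = 5 → IsConj x y) ∧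
      ∀ x : ↥(Cfsg.Lie.twistedE6 K 2), orderOf x = 5 →
        Nonempty (↥(Subgroup.centralizer ({x} : Set ↥(Cfsg.Lie.twistedE6 K 2))) ≃* (Multiplicative (ZMod 5) × ↥(alternatingGroup (Fin 8)))) := by
  obtain ⟨hchar, -, ω, hω, h1⟩ := CfsgLib.Chev.FiInE6.four_setup hK
  haveI := hchar
  refine ⟨fun x y hx hy => CfsgLib.Chev.TwE6Five.conj_all hω h1 hK hx hy, fun x hx => ?_⟩
  obtain ⟨g, hg⟩ := isConj_iff.1
    (CfsgLib.Chev.TwE6Five.conj_all hω h1 hK hx (CfsgLib.Chev.TwE6Five.xT_order hω h1))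
  obtain ⟨e⟩ := CfsgLib.Chev.TwE6Five.centralizer_equiv hω h1 hK
  have hmap : (Subgroup.centralizer ({x} : Set ↥(Cfsg.Lie.twistedE6 K 2))).map (MulAut.conj g).toMonoidHom =
      Subgroup.centralizer {CfsgLib.Chev.TwE6Five.xT hω h1} := by
    ext z
    rw [Subgroup.mem_map_equiv, Subgroup.mem_centralizer_singleton_iff, Subgroup.mem_centralizer_singleton_iff,
      ← hg, MulAut.conj_symm_apply]
    constructor <;> intro h
    · calc z * (g * x * g⁻¹) = g * (g⁻¹ * z * g * x) * g⁻¹ := by group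
        _ = g * (x * (g⁻¹ * z * g)) * g⁻¹ := by rw [h]
        _ = g * x * g⁻¹ * z := by group
    · calc g⁻¹ * z * g * x = g⁻¹ * (z * (g * x * g⁻¹)) * g := by group
        _ = g⁻¹ * (g * x * g⁻¹ * z) * g := by rw [h]
        _ = x * (g⁻¹ * z * g) := by group
  exact ⟨(((MulAut.conj g).subgroupMap _).trans (MulEquiv.subgroupCongr hmap)).trans e⟩

end Cfsg.Agent.S2227
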