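import Cfsg.Statements.S2231
import Mathlib.Tactic
import Mathlib.Algebra.CharP.Lemmas
import Mathlib.GroupTheory.Sylow

set_option autoImplicit false
open Cfsg

namespace Cfsg.Agent.S2231

/-- A subgroup of `SL₂` in characteristic `p` that is a `p`-group is commutative. -/
theorem sl2_pgroup_comm {p : ℕ} [Fact p.Prime] {K : Type*} [Field K] [Fintype K] [CharP K p]
    (P : Subgroup (Matrix.SpecialLinearGroup (Fin 2) K)) (hP : IsPGroup p P) :
    ∀ g ∈ P, ∀ h ∈ P, g * h = h * g := by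
  classical
  -- a common nonzero fixed vector
  letI : MulAction P (Fin 2 → K) := MulAction.compHom _ P.subtype
  have hcard : p ∣ Nat.card (Fin 2 → K) := by
    obtain ⟨n, hn⟩ : ∃ n : ℕ+, Fintype.card K = p ^ (n : ℕ) := by
      obtain ⟨n, -, hn⟩ := FiniteField.card K p
      exact ⟨n, hn⟩
    rw [Nat.card_fun, Nat.card_eq_fintype_card (α := K), Nat.card_fin, hn, ← pow_mul]
    exact dvd_pow_self p (Nat.mul_ne_zero n.pos.ne' two_ne_zero)
  have h0 : (0 : Fin 2 → K) ∈ MulAction.fixedPoints P (Fin 2 → K) := fun g => by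
    change (g : Matrix.SpecialLinearGroup (Fin 2) K) • (0 : Fin 2 → K) = 0
    rw [Matrix.SpecialLinearGroup.smul_def, Matrix.smul_eq_mulVec, Matrix.mulVec_zero]
  obtain ⟨v, hv, hne⟩ := hP.exists_fixed_point_of_prime_dvd_card_of_fixed_point (Fin 2 → K) hcard h0
  have hrow : ∀ g ∈ P, (g.1 0 0 * v 0 + g.1 0 1 * v 1 = v 0 ∧ g.1 1 0 * v 0 + g.1 1 1 * v 1 = v 1) ∧
      g.1 0 0 * g.1 1 1 - g.1 0 1 * g.1 1 0 = 1 := by
    intro g hg
    have h : g • v = v := hv ⟨g, hg⟩
    rw [Matrix.SpecialLinearGroup.smul_def, Matrix.smul_eq_mulVec] at h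
    have hd := g.2
    rw [Matrix.det_fin_two] at hd
    refine ⟨⟨?_, ?_⟩, hd⟩
    · simpa [Matrix.mulVec, dotProduct, Fin.sum_univ_two] using congrFun h 0
    · simpa [Matrix.mulVec, dotProduct, Fin.sum_univ_two] using congrFun h 1
  intro g hg h hh
  obtain ⟨⟨g1, g2⟩, g3⟩ := hrow g hg
  obtain ⟨⟨h1, h2⟩, h3⟩ := hrow h hh
  apply Subtype.ext
  change g.1 * h.1 = h.1 * g.1
  rw [Matrix.eta_fin_two g.1, Matrix.eta_fin_two h.1, Matrix.mul_fin_two, Matrix.mul_fin_two]
  by_cases hv0 : v 0 = 0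
  · have hv1 : v 1 ≠ 0 := fun h1' => hne (by funext i; fin_cases i <;> simp [hv0, h1'])
    have key : ∀ a b c d : K, a * v 0 + b * v 1 = v 0 → c * v 0 + d * v 1 = v 1 → a * d - b * c = 1 →
        a = 1 ∧ b = 0 ∧ d = 1 := by
      intro a b c d e1 e2 e3
      rw [hv0] at e1 e2
      have hb : b = 0 := by simpa [hv1] using e1
      have hd : d = 1 := by
        have : (d - 1) * v 1 = 0 := by linear_combination e2
        simpa [sub_eq_zero, hv1] using this
      subst hb hd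
      exact ⟨by linear_combination e3, rfl, rfl⟩
    obtain ⟨a1, b1, d1⟩ := key _ _ _ _ g1 g2 g3
    obtain ⟨a2, b2, d2⟩ := key _ _ _ _ h1 h2 h3
    rw [a1, b1, d1, a2, b2, d2]
    ext i j
    fin_cases i <;> fin_cases j <;> simp [add_comm]
  · obtain ⟨r, hr⟩ : ∃ r, v 1 = r * v 0 := ⟨v 1 / v 0, (div_mul_cancel₀ _ hv0).symm⟩
    have key : ∀ a b c d : K, a * v 0 + b * v 1 = v 0 → c * v 0 + d * v 1 = v 1 → a * d - b * c = 1 →
        a = 1 - b * r ∧ c = - (b * r * r) ∧ d = 1 + b * r := by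
      intro a b c d e1 e2 e3
      rw [hr] at e1 e2
      have ha : a = 1 - b * r := mul_right_cancel₀ hv0 (by linear_combination e1)
      have hc : c = r - d * r := mul_right_cancel₀ hv0 (by linear_combination e2)
      have hd : d = 1 + b * r := by
        rw [ha, hc] at e3
        linear_combination e3
      refine ⟨ha, ?_, hd⟩
      rw [hc, hd]; ring
    obtain ⟨a1, c1, d1⟩ := key _ _ _ _ g1 g2 g3
    obtain ⟨a2, c2, d2⟩ := key _ _ _ _ h1 h2 h3
    rw [a1, c1, d1, a2, c2, d2]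
    ext i j
    fin_cases i <;> fin_cases j <;> simp <;> ring

theorem psl2_pgroup_comm {p : ℕ} [Fact p.Prime] {K : Type*} [Field K] [Fintype K] [CharP K p]
    (T : Subgroup (Matrix.ProjectiveSpecialLinearGroup (Fin 2) K)) (hT : IsPGroup p T) :
    ∀ x ∈ T, ∀ y ∈ T, x * y = y * x := by
  classical
  haveI : Finite (Matrix.SpecialLinearGroup (Fin 2) K) := inferInstance
  set π := QuotientGroup.mk' (Subgroup.center (Matrix.SpecialLinearGroup (Fin 2) K)) with hπ
  set f : T.comap π →* T := π.subgroupComap T with hf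
  have hfs : Function.Surjective f :=
    MonoidHom.subgroupComap_surjective_of_surjective π T (QuotientGroup.mk'_surjective _)
  let P : Sylow p ↥(T.comap π) := default
  have htop : ((P.mapSurjective hfs : Sylow p T) : Subgroup T) = ⊤ :=
    ((P.mapSurjective hfs).is_maximal' (hT.to_subgroup ⊤ |> fun h => by simpa using h) le_top).symm
  have hcomm := sl2_pgroup_comm ((P : Subgroup ↥(T.comap π)).map (T.comap π).subtype) (P.isPGroup'.map _)
  intro x hx y hy
  rw [Sylow.coe_mapSurjective] at htop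
  obtain ⟨u, hu, hux⟩ := (Subgroup.mem_map.mp (htop ▸ Subgroup.mem_top (⟨x, hx⟩ : T)))
  obtain ⟨w, hw, hwy⟩ := (Subgroup.mem_map.mp (htop ▸ Subgroup.mem_top (⟨y, hy⟩ : T)))
  have ex : x = π u.1 := (congrArg Subtype.val hux).symm
  have ey : y = π w.1 := (congrArg Subtype.val hwy).symm
  have hc : u.1 * w.1 = w.1 * u.1 := hcomm _ (Subgroup.mem_map_of_mem _ hu) _ (Subgroup.mem_map_of_mem _ hw)
  rw [ex, ey, ← map_mul, ← map_mul, hc]

/-- If all `p`-subgroups of `G` are commutative then so are those of every involved group. -/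
theorem involves_pgroup_comm {p : ℕ} [Fact p.Prime] {G : Type*} [Group G] [Finite G] {H : Type*} [Group H]
    (hG : ∀ T : Subgroup G, IsPGroup p T → ∀ x ∈ T, ∀ y ∈ T, x * y = y * x)
    (hinv : Cfsg.Involves H G) (T : Subgroup H) (hT : IsPGroup p T) : ∀ x ∈ T, ∀ y ∈ T, x * y = y * x := by
  obtain ⟨K, R, hn, ⟨e⟩⟩ := hinv
  set f : K →* H := e.toMonoidHom.comp (QuotientGroup.mk' (R.subgroupOf K)) with hf
  have hfs : Function.Surjective f := e.surjective.comp (QuotientGroup.mk'_surjective _)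
  haveI : Finite H := Finite.of_surjective f hfs
  obtain ⟨S, hS⟩ := hT.exists_le_sylow
  let P : Sylow p K := default
  obtain ⟨g, hg⟩ := MulAction.exists_smul_eq H (P.mapSurjective hfs) S
  obtain ⟨k, hk⟩ := hfs g
  intro x hx y hy
  have hmem : ∀ z ∈ T, ∃ u : K, u ∈ ((k • P : Sylow p K) : Subgroup K) ∧ f u = z := by
    intro z hz
    have hz' := hS hz
    rw [← hg, Sylow.coe_subgroup_smul, Subgroup.mem_pointwise_smul_iff_inv_smul_mem,
      Sylow.coe_mapSurjective] at hz'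
    obtain ⟨u, hu, hu'⟩ := Subgroup.mem_map.mp hz'
    refine ⟨k * u * k⁻¹, ?_, ?_⟩
    · rw [Sylow.coe_subgroup_smul, Subgroup.mem_pointwise_smul_iff_inv_smul_mem]
      simpa [mul_assoc] using hu
    · rw [map_mul, map_mul, map_inv, hk, hu']
      simp [mul_assoc]
  obtain ⟨u, hu, rfl⟩ := hmem x hx
  obtain ⟨w, hw, rfl⟩ := hmem y hy
  have h := hG (((k • P : Sylow p K) : Subgroup K).map K.subtype) ((k • P).isPGroup'.map _)
    _ (Subgroup.mem_map_of_mem _ hu) _ (Subgroup.mem_map_of_mem _ hw)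
  rw [← map_mul, ← map_mul, show u * w = w * u from Subtype.ext h]

/-- Upper unitriangular 3 × 3 matrices. -/
def uni (p : ℕ) [Fact p.Prime] : Submonoid (Matrix.SpecialLinearGroup (Fin 3) (ZMod p)) where
  carrier := {M | M.1 0 0 = 1 ∧ M.1 1 1 = 1 ∧ M.1 2 2 = 1 ∧ M.1 1 0 = 0 ∧ M.1 2 0 = 0 ∧ M.1 2 1 = 0}
  one_mem' := by simp
  mul_mem' := by
    rintro A B ⟨a1, a2, a3, a4, a5, a6⟩ ⟨b1, b2, b3, b4, b5, b6⟩
    simp only [Set.mem_setOf_eq, Matrix.SpecialLinearGroup.coe_mul, Matrix.mul_apply, Fin.sum_univ_three,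
      a1, a2, a3, a4, a5, a6, b1, b2, b3, b4, b5, b6]
    simp

theorem uni_pow {p : ℕ} [Fact p.Prime] (hp : p ≠ 2) {M : Matrix.SpecialLinearGroup (Fin 3) (ZMod p)}
    (hM : M ∈ uni p) : M ^ p = 1 := by
  obtain ⟨a1, a2, a3, a4, a5, a6⟩ := hM
  have h3 : (M.1 - 1) ^ 3 = 0 := by
    ext i j
    rw [pow_succ, pow_two]
    fin_cases i <;> fin_cases j <;>
      simp [Matrix.mul_apply, Fin.sum_univ_three, Matrix.sub_apply, a1, a2, a3, a4, a5, a6]
  have hp3 : 3 ≤ p := by
    have := (Fact.out : p.Prime).two_le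
    omega
  have hN : (M.1 - 1) ^ p = 0 := pow_eq_zero_of_le hp3 h3
  rw [sub_pow_char_of_commute _ (Commute.one_right _), one_pow, sub_eq_zero] at hN
  apply Subtype.ext
  rw [Matrix.SpecialLinearGroup.coe_pow, hN]
  rfl

/-- The unitriangular elements of `qd p`. -/
def uniQd (p : ℕ) [Fact p.Prime] (hp : p ≠ 2) : Subgroup ↥(Cfsg.qd p) where
  toSubmonoid := (uni p).comap (Cfsg.qd p).subtype
  inv_mem' := by
    intro x hx
    have h1 : x ^ p = 1 := Subtype.ext (by simpa using uni_pow hp hx)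
    have : x⁻¹ = x ^ (p - 1) := by
      rw [eq_comm, eq_inv_iff_mul_eq_one, ← pow_succ, Nat.sub_add_cancel (Fact.out : p.Prime).one_le, h1]
    rw [this]
    exact pow_mem (show x ∈ (uni p).comap (Cfsg.qd p).subtype from hx) _

/-- Let p be an odd prime and K a finite field of characteristic p. Then Qd(p) (the natural semidirect product of an elementary abelian group of order p² by SL₂(p)) is not involved in the projective special linear group PSL₂(K). -/
theorem result {p : ℕ} [Fact p.Prime] (hp : p ≠ 2) {K : Type*} [Field K] [Fintype K] [CharP K p] : ¬ Cfsg.Involves ↥(Cfsg.qd p) (Matrix.ProjectiveSpecialLinearGroup (Fin 2) K) := by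
  intro hinv
  have hpg : IsPGroup p (uniQd p hp) := fun x => ⟨1, by
    rw [pow_one]
    exact Subtype.ext (Subtype.ext (by simpa using uni_pow hp x.2))⟩
  let X : Matrix.SpecialLinearGroup (Fin 3) (ZMod p) := ⟨!![1, 1, 0; 0, 1, 0; 0, 0, 1], by simp [Matrix.det_fin_three]⟩
  let Y : Matrix.SpecialLinearGroup (Fin 3) (ZMod p) := ⟨!![1, 0, 0; 0, 1, 1; 0, 0, 1], by simp [Matrix.det_fin_three]⟩
  have hX : X ∈ Cfsg.qd p := Subgroup.subset_closure ⟨rfl, rfl, rfl⟩
  have hY : Y ∈ Cfsg.qd p := Subgroup.subset_closure ⟨rfl, rfl, rfl⟩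
  have mX : (⟨X, hX⟩ : ↥(Cfsg.qd p)) ∈ uniQd p hp := show X ∈ uni p from ⟨rfl, rfl, rfl, rfl, rfl, rfl⟩
  have mY : (⟨Y, hY⟩ : ↥(Cfsg.qd p)) ∈ uniQd p hp := show Y ∈ uni p from ⟨rfl, rfl, rfl, rfl, rfl, rfl⟩
  have h := involves_pgroup_comm (p := p) psl2_pgroup_comm hinv _ hpg _ mX _ mY
  have h' := congrArg (fun M : ↥(Cfsg.qd p) => M.1.1 0 2) h
  change (X.1 * Y.1) 0 2 = (Y.1 * X.1) 0 2 at h'
  simp [X, Y, Matrix.mul_apply, Fin.sum_univ_three] at h' 

end Cfsg.Agent.S2231
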