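import Cfsg.Statements.S2238
import Cfsg.Agent.Lib.Suzuki.Tori

set_option autoImplicit false
open Cfsg

namespace Cfsg.Agent.S2238

theorem coprime_values {F : Type*} [Field F] [CharP F 2] [Fintype F] {m : ℕ} (hm : 1 ≤ m)
    (hF : Fintype.card F = 2 ^ (2 * m + 1)) {a b : ℕ}
    (ha : a ∈ ({2 ^ (2 * m + 1) - 1, 2 ^ (2 * m + 1) + 2 ^ (m + 1) + 1,
      2 ^ (2 * m + 1) - 2 ^ (m + 1) + 1} : Set ℕ))
    (hb : b ∈ ({2 ^ (2 * m + 1) - 1, 2 ^ (2 * m + 1) + 2 ^ (m + 1) + 1,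
      2 ^ (2 * m + 1) - 2 ^ (m + 1) + 1} : Set ℕ))
    (hdvd : a ∣ b) : a = b := by
  have hle : 2 * 2 ^ (m + 1) ≤ 2 ^ (2 * m + 1) := by
    rw [← pow_succ']; exact Nat.pow_le_pow_right (by norm_num) (by omega)
  have hsq : 2 ^ (m + 1) * 2 ^ (m + 1) = 2 * 2 ^ (2 * m + 1) := by
    rw [← pow_add, ← pow_succ']; congr 1; omega
  have h4 : 4 ≤ 2 ^ (m + 1) := le_trans (by norm_num) (Nat.pow_le_pow_right (by norm_num)
    (show 2 ≤ m + 1 by omega))
  have hr2 : 2 ∣ 2 ^ (m + 1) := dvd_pow_self 2 (by omega)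
  have hq2 : 2 ∣ 2 ^ (2 * m + 1) := dvd_pow_self 2 (by omega)
  obtain ⟨c, hc⟩ := hdvd
  simp only [Set.mem_insert_iff, Set.mem_singleton_iff] at ha hb
  generalize 2 ^ (m + 1) = r at hle hsq h4 ha hb hr2
  generalize 2 ^ (2 * m + 1) = q at hle hsq ha hb hq2
  have h8 : 8 ≤ q := by omega
  rcases c with _ | _ | c
  · rcases hb with hb | hb | hb <;> omega
  · omega
  · -- a proper multiple
    exfalso
    have hb' : b < 2 * q := by rcases hb with hb | hb | hb <;> omega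
    have hc' : c = 0 := by
      by_contra hc0
      have : 3 * a ≤ b := by
        rw [hc]; rw [Nat.mul_comm a]; exact Nat.mul_le_mul_right a (by omega)
      rcases ha with ha | ha | ha <;> rcases hb with hb | hb | hb <;> omega
    subst hc'
    rcases ha with ha | ha | ha <;> rcases hb with hb | hb | hb <;> omega

/-- The partition of the Suzuki group: with q = 2^(2m+1), m ≥ 1, r = 2^m and the Suzuki group realised as the stabiliser in SL₄ of the Suzuki–Tits ovoid, every non-identity element lies in exactly one subgroup that is either a Sylow 2-subgroup or a cyclic subgroup of order q − 1, q + 2r + 1 or q − 2r + 1. -/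
theorem result {F : Type*} [Field F] [Fintype F] {m : ℕ} (hm : 1 ≤ m) (hF : Fintype.card F = 2 ^ (2 * m + 1)) (g : ↥(Cfsg.Sz F m)) (hg : g ≠ 1) :
    ∃! U : Subgroup ↥(Cfsg.Sz F m), ((∃ P : Sylow 2 ↥(Cfsg.Sz F m), U = (P : Subgroup ↥(Cfsg.Sz F m))) ∨
      (IsCyclic ↥U ∧ Nat.card ↥U ∈ ({2 ^ (2 * m + 1) - 1, 2 ^ (2 * m + 1) + 2 ^ (m + 1) + 1, 2 ^ (2 * m + 1) - 2 ^ (m + 1) + 1} : Set ℕ))) ∧ g ∈ U := by
  haveI : CharP F 2 := charP_of_card_eq_prime_pow hF
  haveI : Fact (Nat.Prime 2) := ⟨Nat.prime_two⟩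
  set h := CfsgLib.Suzuki.thSq_of_card hF
  let S : Set ℕ := {2 ^ (2 * m + 1) - 1, 2 ^ (2 * m + 1) + 2 ^ (m + 1) + 1,
    2 ^ (2 * m + 1) - 2 ^ (m + 1) + 1}
  have hodd : ∀ k ∈ S, ¬ 2 ∣ k := by
    intro k hk
    have h1 : 2 ∣ 2 ^ (2 * m + 1) := dvd_pow_self 2 (by omega)
    have h2 : 2 ∣ 2 ^ (m + 1) := dvd_pow_self 2 (by omega)
    have h3 : 2 ^ (m + 1) ≤ 2 ^ (2 * m + 1) := Nat.pow_le_pow_right (by norm_num) (by omega)
    have h4 : 1 ≤ 2 ^ (2 * m + 1) := Nat.one_le_two_pow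
    simp only [S, Set.mem_insert_iff, Set.mem_singleton_iff] at hk
    rcases hk with hk | hk | hk <;> omega
  have hsmall : ∀ U : Subgroup (Cfsg.Sz F m), Nat.card U ∈ S → g ∈ U →
      ¬ ∃ k, k * g * k⁻¹ ∈ CfsgLib.Suzuki.uSub h := by
    rintro U hU hgU ⟨k, hk⟩
    obtain ⟨e, he⟩ := (IsPGroup.iff_orderOf.1 (CfsgLib.Suzuki.isPGroup_uSub hF)) ⟨_, hk⟩
    rw [← Subgroup.orderOf_coe,
      show orderOf (k * g * k⁻¹) = orderOf g from MulEquiv.orderOf_eq (MulAut.conj k) g] at he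
    have he0 : e ≠ 0 := fun e0 => hg (orderOf_eq_one_iff.1 (by rw [he, e0, pow_zero]))
    have hd : orderOf g ∣ Nat.card U := by
      rw [show orderOf g = orderOf (⟨g, hgU⟩ : U) from Subgroup.orderOf_coe (⟨g, hgU⟩ : U)]
      exact orderOf_dvd_natCard _
    exact hodd _ hU ((dvd_pow_self 2 he0).trans (he ▸ hd))
  have hcent : ∀ U : Subgroup (Cfsg.Sz F m), IsCyclic U → g ∈ U → U ≤ Subgroup.centralizer {g} :=
    fun U hU hgU c hc => Subgroup.mem_centralizer_singleton_iff.2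
      (congrArg Subtype.val (hU.commGroup.mul_comm ⟨c, hc⟩ ⟨g, hgU⟩))
  by_cases h2 : ∃ k, k * g * k⁻¹ ∈ CfsgLib.Suzuki.uSub h
  · obtain ⟨k, hk⟩ := h2
    refine ⟨(CfsgLib.Suzuki.uSub h).map (MulAut.conj k⁻¹).toMonoidHom,
      ⟨Or.inl ⟨k⁻¹ • CfsgLib.Suzuki.uSylow hm hF, rfl⟩, _, hk, by simp [mul_assoc]⟩, ?_⟩
    rintro U ⟨⟨P, rfl⟩ | ⟨-, hcard⟩, hgU⟩
    · obtain ⟨l, hl⟩ := CfsgLib.Suzuki.exists_conj_sylow hm hF P
      rw [hl] at hgU ⊢
      obtain ⟨u, hu, hug⟩ := hgU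
      have hu1 : u ≠ 1 := fun e => hg (by rw [← hug, e]; exact map_one _)
      have hB : k * l ∈ CfsgLib.Suzuki.bSub F m := by
        refine CfsgLib.Suzuki.mem_bSub_of_conj hu hu1 (CfsgLib.Suzuki.uSub_le_bSub h ?_)
        rw [← hug] at hk
        simpa [mul_assoc] using hk
      ext y
      rw [Subgroup.mem_map_equiv, Subgroup.mem_map_equiv, MulAut.conj_symm_apply,
        MulAut.conj_symm_apply, inv_inv]
      constructor
      · intro hy
        have := CfsgLib.Suzuki.conj_mem_uSub hm hF hB hy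
        simpa [mul_assoc] using this
      · intro hy
        have := CfsgLib.Suzuki.conj_mem_uSub hm hF (inv_mem hB) hy
        simpa [mul_assoc] using this
    · exact absurd ⟨k, hk⟩ (hsmall U hcard hgU)
  · have hC : IsCyclic (Subgroup.centralizer {g}) ∧ Nat.card (Subgroup.centralizer {g}) ∈ S := by
      rcases CfsgLib.Suzuki.conj_cases hm hF g with h1 | h1 | ⟨k, s, hs, hk⟩
      · have hA := h1.isTorus hm hF
        refine ⟨hA.isCyclic hF, ?_⟩
        rcases (hA.card_mem hm hF).1 with h3 | h3 <;> simp [S, h3]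
      · exact absurd h1 h2
      · have e : Subgroup.centralizer {g} =
            (CfsgLib.Suzuki.hSub h).map (MulAut.conj k⁻¹).toMonoidHom := by
          ext y
          rw [Subgroup.mem_map_equiv, MulAut.conj_symm_apply, inv_inv,
            ← CfsgLib.Suzuki.centralizer_hG hm hF hs, ← hk, Subgroup.mem_centralizer_singleton_iff,
            Subgroup.mem_centralizer_singleton_iff]
          constructor <;> intro e
          · calc k * y * k⁻¹ * (k * g * k⁻¹) = k * (y * g) * k⁻¹ := by group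
              _ = k * g * k⁻¹ * (k * y * k⁻¹) := by rw [e]; group
          · calc y * g = k⁻¹ * (k * y * k⁻¹ * (k * g * k⁻¹)) * k := by group
              _ = g * y := by rw [e]; group
        rw [e]
        haveI := CfsgLib.Suzuki.isCyclic_hSub h
        refine ⟨(Subgroup.equivMapOfInjective (CfsgLib.Suzuki.hSub h) _
          (MulAut.conj k⁻¹).injective).isCyclic.1 inferInstance, ?_⟩
        rw [Subgroup.card_map_of_injective (MulAut.conj k⁻¹).injective, CfsgLib.Suzuki.card_hSub, hF]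
        exact Or.inl rfl
    refine ⟨Subgroup.centralizer {g}, ⟨Or.inr hC, Subgroup.mem_centralizer_singleton_iff.2 rfl⟩, ?_⟩
    rintro U ⟨⟨P, rfl⟩ | ⟨hUc, hcard⟩, hgU⟩
    · obtain ⟨l, hl⟩ := CfsgLib.Suzuki.exists_conj_sylow hm hF P
      rw [hl, Subgroup.mem_map_equiv, MulAut.conj_symm_apply] at hgU
      exact absurd ⟨l⁻¹, by rwa [inv_inv]⟩ h2
    · have hle := hcent U hUc hgU
      exact Subgroup.eq_of_le_of_card_ge hle
        (coprime_values hm hF hcard hC.2 (Subgroup.card_dvd_of_le hle)).ge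

end Cfsg.Agent.S2238
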