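import Cfsg.Statements.S2239
import Cfsg.Agent.Lib.Suzuki.Classify

set_option autoImplicit false
open Cfsg

namespace Cfsg.Agent.S2239

/-- Subfield subgroups of the Suzuki group: let q = 2^(2m+1) and s = 2^(2k+1) with m, k ≥ 1 and 2k+1 dividing 2m+1 (so q is a power of s), both groups realised as stabilisers in SL₄ of the Suzuki–Tits ovoid. Then Sz(q) has a subgroup isomorphic to Sz(s), and any two subgroups of Sz(q) isomorphic to Sz(s) are conjugate. -/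
theorem result {F : Type*} [Field F] [Fintype F] {m : ℕ} (hm : 1 ≤ m) (hF : Fintype.card F = 2 ^ (2 * m + 1)) {K : Type*} [Field K] [Fintype K] {k : ℕ} (hk : 1 ≤ k) (hK : Fintype.card K = 2 ^ (2 * k + 1)) (hdiv : 2 * k + 1 ∣ 2 * m + 1) :
    (∃ S : Subgroup ↥(Cfsg.Sz F m), Nonempty (↥S ≃* ↥(Cfsg.Sz K k))) ∧
    ∀ S₁ S₂ : Subgroup ↥(Cfsg.Sz F m), Nonempty (↥S₁ ≃* ↥(Cfsg.Sz K k)) → Nonempty (↥S₂ ≃* ↥(Cfsg.Sz K k)) →
      ∃ g : ↥(Cfsg.Sz F m), S₂ = S₁.map (MulAut.conj g).toMonoidHom := by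
  haveI : CharP F 2 := charP_of_card_eq_prime_pow hF
  haveI : CharP K 2 := charP_of_card_eq_prime_pow hK
  haveI : Fact (Nat.Prime 2) := ⟨Nat.prime_two⟩
  obtain ⟨ι⟩ := CfsgLib.Suzuki.exists_ringHom hF hK hdiv
  refine ⟨⟨(CfsgLib.Suzuki.emb hk hF hK ι hdiv).range,
    ⟨(MonoidHom.ofInjective (CfsgLib.Suzuki.emb_injective hk hF hK ι hdiv)).symm⟩⟩, ?_⟩
  intro S₁ S₂ h₁ h₂
  obtain ⟨e₁⟩ := h₁
  obtain ⟨e₂⟩ := h₂
  obtain ⟨g₁, hg₁⟩ := CfsgLib.Suzuki.exists_conj_range hm hk hF hK ι hdiv e₁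
  obtain ⟨g₂, hg₂⟩ := CfsgLib.Suzuki.exists_conj_range hm hk hF hK ι hdiv e₂
  refine ⟨g₂⁻¹ * g₁, ?_⟩
  rw [← CfsgLib.Suzuki.map_conj_mul, hg₁, ← hg₂, CfsgLib.Suzuki.map_conj_mul, inv_mul_cancel,
    map_one]
  exact (Subgroup.map_id S₂).symm

end Cfsg.Agent.S2239
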