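import Cfsg.Statements.S2240
import Cfsg.Agent.Lib.Suzuki.Centralizer

set_option autoImplicit false
open Cfsg

namespace Cfsg.Agent.S2240

/-- Elementary abelian TI-subgroups of the Suzuki group: let q = 2^(2m+1) with m ≥ 1, the group realised as the stabiliser in SL₄ of the Suzuki–Tits ovoid, and n ≥ 2. There is an elementary abelian 2-subgroup E of order 2^n that is a TI-subgroup (every conjugate of E meeting E nontrivially is E itself) if and only if n divides 2m + 1. -/
theorem result {F : Type*} [Field F] [Fintype F] {m : ℕ} (hm : 1 ≤ m) (hF : Fintype.card F = 2 ^ (2 * m + 1)) (n : ℕ) (hn : 2 ≤ n) :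
    (∃ E : Subgroup ↥(Cfsg.Sz F m), Cfsg.IsElementaryAbelian 2 E ∧ Nat.card ↥E = 2 ^ n ∧
      ∀ x : ↥(Cfsg.Sz F m), E ⊓ E.map (MulAut.conj x).toMonoidHom ≠ ⊥ → x ∈ Subgroup.normalizer (E : Set ↥(Cfsg.Sz F m))) ↔ n ∣ 2 * m + 1 := by
  classical
  haveI : CharP F 2 := charP_of_card_eq_prime_pow hF
  haveI : Fact (Nat.Prime 2) := ⟨Nat.prime_two⟩
  set h := CfsgLib.Suzuki.thSq_of_card hF
  have hq : 2 ^ n ≠ 1 := fun e => absurd (Nat.pow_right_injective le_rfl (e.trans (pow_zero 2).symm)) (by omega)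
  constructor
  · rintro ⟨E, ⟨-, hE2⟩, hEcard, hTI⟩
    obtain ⟨P, hP⟩ := (IsPGroup.of_card hEcard).exists_le_sylow
    obtain ⟨g, hg⟩ := CfsgLib.Suzuki.exists_conj_sylow hm hF P
    let S : Set F := {b | (MulAut.conj g) (CfsgLib.Suzuki.tG h 0 b) ∈ E}
    have hsurj : ∀ e ∈ E, ∃ b ∈ S, (MulAut.conj g) (CfsgLib.Suzuki.tG h 0 b) = e := by
      intro e he
      obtain ⟨u, ⟨a, b, rfl⟩, hu⟩ := (hg ▸ hP he :
        e ∈ (CfsgLib.Suzuki.uSub h).map (MulAut.conj g).toMonoidHom)
      have ha : a = 0 := by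
        have h2 := hE2 e he
        rw [← hu, ← map_pow, ← map_one (MulAut.conj g).toMonoidHom] at h2
        have h3 := (MulAut.conj g).injective h2
        rw [sq, CfsgLib.Suzuki.tG_sq, CfsgLib.Suzuki.tG_eq_one, mul_eq_zero] at h3
        rcases h3.2 with h4 | h4
        · simpa using h4
        · exact h4
      subst ha
      refine ⟨b, ?_, hu⟩
      show (MulAut.conj g) (CfsgLib.Suzuki.tG h 0 b) ∈ E
      rw [show (MulAut.conj g) (CfsgLib.Suzuki.tG h 0 b) = e from hu]
      exact he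
    have hinj : Function.Injective fun b : F => (MulAut.conj g) (CfsgLib.Suzuki.tG h 0 b) :=
      fun a b e => (CfsgLib.Suzuki.tG_inj h ((MulAut.conj g).injective e)).2
    have hScard : S.ncard = 2 ^ n := by
      rw [← hEcard, ← SetLike.coe_sort_coe, Nat.card_coe_set_eq,
        ← Set.ncard_image_of_injective S hinj]
      congr 1
      ext e
      exact ⟨by rintro ⟨b, hb, rfl⟩; exact hb, fun he => hsurj e he⟩
    have h0 : (0 : F) ∈ S := by
      show (MulAut.conj g) (CfsgLib.Suzuki.tG h 0 0) ∈ E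
      rw [CfsgLib.Suzuki.tG_zero, map_one]
      exact one_mem E
    have key : ∀ lam : Fˣ, ∀ b : F, b ≠ 0 → b ∈ S → (lam : F) * b ∈ S →
        ∀ c ∈ S, (lam : F) * c ∈ S := by
      intro lam b hb hbS hlb c hc
      obtain ⟨s, hs⟩ : ∃ s : Fˣ, CfsgLib.Suzuki.th m (s : F) * (s : F) ^ 2 = lam := by
        let f : Fˣ → Fˣ := fun s => Units.mk0 (CfsgLib.Suzuki.th m (s : F) * (s : F) ^ 2)
          (mul_ne_zero (by simp) (pow_ne_zero 2 s.ne_zero))
        have hf : Function.Injective f := fun s t e => by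
          by_contra hst
          refine CfsgLib.Suzuki.th_sq_ne_one h (s := s * t⁻¹) (fun e' => hst ?_) ?_
          · rwa [mul_inv_eq_one] at e'
          · have e2 := congrArg Units.val e
            simp only [f, Units.val_mk0] at e2
            rw [Units.val_mul, map_mul, Units.val_inv_eq_inv_val, map_inv₀]
            have := t.ne_zero
            have : CfsgLib.Suzuki.th m (t : F) ≠ 0 := by simpa using this
            field_simp
            linear_combination e2
        obtain ⟨s, hs⟩ := Finite.surjective_of_injective hf lam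
        exact ⟨s, congrArg Units.val hs⟩
      have hx : ∀ d : F, (MulAut.conj (g * CfsgLib.Suzuki.hG h s * g⁻¹))
          ((MulAut.conj g) (CfsgLib.Suzuki.tG h 0 d)) =
          (MulAut.conj g) (CfsgLib.Suzuki.tG h 0 ((lam : F) * d)) := fun d => by
        rw [← hs]
        have := CfsgLib.Suzuki.hG_conj h s 0 d
        rw [mul_zero] at this
        rw [← this]
        simp [mul_assoc]
      have hmem := hTI (g * CfsgLib.Suzuki.hG h s * g⁻¹) (fun e => by
        have h1 : (MulAut.conj g) (CfsgLib.Suzuki.tG h 0 ((lam : F) * b)) ∈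
            E ⊓ E.map (MulAut.conj (g * CfsgLib.Suzuki.hG h s * g⁻¹)).toMonoidHom :=
          ⟨hlb, _, hbS, hx b⟩
        rw [e, Subgroup.mem_bot, ← map_one (MulAut.conj g)] at h1
        have h2 := CfsgLib.Suzuki.tG_eq_one h |>.1 ((MulAut.conj g).injective h1)
        exact mul_ne_zero lam.ne_zero hb h2.2)
      show (MulAut.conj g) (CfsgLib.Suzuki.tG h 0 ((lam : F) * c)) ∈ E
      rw [← hx]
      exact (Subgroup.mem_normalizer_iff.1 hmem _).1 hc
    obtain ⟨s₀, hs₀, hs₀0⟩ : ∃ s ∈ S, s ≠ 0 := by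
      by_contra! hh
      have : S = {0} := Set.eq_singleton_iff_unique_mem.2 ⟨h0, hh⟩
      rw [this, Set.ncard_singleton] at hScard
      exact hq hScard.symm
    let H : Subgroup Fˣ :=
      { carrier := {u | s₀ * (u : F) ∈ S}
        one_mem' := by simpa using hs₀
        mul_mem' := fun {u v} hu hv => by
          have := key u s₀ hs₀0 hs₀ (by rw [mul_comm]; exact hu) _ hv
          rw [Set.mem_setOf_eq, Units.val_mul]
          convert this using 1
          ring
        inv_mem' := fun {u} hu => by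
          have := key u⁻¹ (s₀ * (u : F)) (mul_ne_zero hs₀0 u.ne_zero) hu
            (by rw [mul_comm s₀, ← mul_assoc, ← Units.val_mul, inv_mul_cancel, Units.val_one, one_mul]
                exact hs₀) s₀ hs₀
          rw [Set.mem_setOf_eq, mul_comm]
          exact this }
    have hHcard : Nat.card H = 2 ^ n - 1 := by
      rw [← hScard, ← Set.ncard_diff_singleton_of_mem h0, ← Nat.card_coe_set_eq]
      refine Nat.card_eq_of_bijective
        (fun u : H => (⟨s₀ * (u.1 : F), u.2, mul_ne_zero hs₀0 u.1.ne_zero⟩ : ↥(S \ {0}))) ⟨?_, ?_⟩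
      · intro u v e
        exact Subtype.ext (Units.ext (mul_left_cancel₀ hs₀0 (congrArg Subtype.val e)))
      · rintro ⟨b, hb, hb0⟩
        refine ⟨⟨Units.mk0 (b / s₀) (div_ne_zero hb0 hs₀0), ?_⟩, Subtype.ext ?_⟩
        · show s₀ * (b / s₀) ∈ S
          rwa [mul_div_cancel₀ _ hs₀0]
        · exact mul_div_cancel₀ _ hs₀0
    have hd := Subgroup.card_subgroup_dvd_card H
    rw [hHcard, Nat.card_units, Nat.card_eq_fintype_card, hF] at hd
    have hgcd := Nat.pow_sub_one_gcd_pow_sub_one 2 n (2 * m + 1)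
    rw [Nat.gcd_eq_left hd] at hgcd
    have h1 : 2 ^ n = 2 ^ n.gcd (2 * m + 1) := by
      have := Nat.one_le_two_pow (n := n)
      have := Nat.one_le_two_pow (n := n.gcd (2 * m + 1))
      omega
    rw [Nat.pow_right_injective le_rfl h1]
    exact Nat.gcd_dvd_right _ _
  · intro hn'
    let T : AddSubgroup F := (iterateFrobenius F 2 n - RingHom.id F : F →+ F).ker
    have hT : ∀ x : F, x ∈ T ↔ x ^ 2 ^ n = x := fun x => by
      simp [T, AddMonoidHom.mem_ker, sub_eq_zero, iterateFrobenius_def]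
    let E : Subgroup (Cfsg.Sz F m) :=
      { carrier := {u | ∃ b ∈ T, u = CfsgLib.Suzuki.tG h 0 b}
        one_mem' := ⟨0, T.zero_mem, (CfsgLib.Suzuki.tG_zero h).symm⟩
        mul_mem' := by
          rintro _ _ ⟨a, ha, rfl⟩ ⟨b, hb, rfl⟩
          exact ⟨b + a, T.add_mem hb ha, by
            rw [CfsgLib.Suzuki.tG_mul, map_zero, zero_mul, add_zero, add_zero]⟩
        inv_mem' := by
          rintro _ ⟨a, ha, rfl⟩
          exact ⟨a, ha, by rw [CfsgLib.Suzuki.tG_inv, map_zero, zero_mul, add_zero]⟩ }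
    have hEle : E ≤ CfsgLib.Suzuki.uSub h := by rintro _ ⟨b, -, rfl⟩; exact ⟨0, b, rfl⟩
    refine ⟨E, ⟨⟨⟨?_⟩⟩, ?_⟩, ?_, ?_⟩
    · rintro ⟨_, a, -, rfl⟩ ⟨_, b, -, rfl⟩
      apply Subtype.ext
      show CfsgLib.Suzuki.tG h 0 a * CfsgLib.Suzuki.tG h 0 b =
        CfsgLib.Suzuki.tG h 0 b * CfsgLib.Suzuki.tG h 0 a
      rw [CfsgLib.Suzuki.tG_mul, CfsgLib.Suzuki.tG_mul, add_comm a b]
    · rintro _ ⟨b, -, rfl⟩
      rw [sq, CfsgLib.Suzuki.tG_sq, map_zero, zero_mul, CfsgLib.Suzuki.tG_zero]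
    · have e : Nat.card E = Nat.card T := by
        refine (Nat.card_eq_of_bijective
          (fun b : T => (⟨CfsgLib.Suzuki.tG h 0 b.1, b.1, b.2, rfl⟩ : E)) ⟨?_, ?_⟩).symm
        · intro a b e
          exact Subtype.ext (CfsgLib.Suzuki.tG_inj h (congrArg Subtype.val e)).2
        · rintro ⟨_, b, hb, rfl⟩
          exact ⟨⟨b, hb⟩, rfl⟩
      obtain ⟨c, hc⟩ := hn'
      rw [e]
      have hcard : Fintype.card {x : F // x ^ 2 ^ n = x} = 2 ^ n := by
        rw [Fintype.card_subtype]
        have hqn : 2 ≤ 2 ^ n := Nat.one_lt_two_pow (by omega)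
        have hfilter : (Finset.univ.filter fun x : F => x ^ 2 ^ n = x) =
            insert 0 ((Finset.univ.filter fun u : Fˣ => u ^ (2 ^ n - 1) = 1).image Units.val) := by
          ext x
          simp only [Finset.mem_filter, Finset.mem_univ, true_and, Finset.mem_insert, Finset.mem_image]
          constructor
          · intro hx
            rcases eq_or_ne x 0 with h0 | h0
            · exact Or.inl h0
            · refine Or.inr ⟨Units.mk0 x h0, Units.ext ?_, rfl⟩
              apply mul_right_cancel₀ h0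
              rw [Units.val_pow_eq_pow_val, Units.val_mk0, ← pow_succ, Units.val_one, one_mul,
                show 2 ^ n - 1 + 1 = 2 ^ n by omega, hx]
          · rintro (rfl | ⟨u, hu, rfl⟩)
            · rw [zero_pow (by omega)]
            · rw [show 2 ^ n = 2 ^ n - 1 + 1 by omega, pow_succ, ← Units.val_pow_eq_pow_val, hu,
                Units.val_one, one_mul]
        rw [hfilter, Finset.card_insert_of_notMem (by simp), Finset.card_image_of_injective _ Units.val_injective]
        have hd : 2 ^ n - 1 ∣ Fintype.card Fˣ := by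
          rw [Fintype.card_units, hF, hc, pow_mul]
          simpa using Nat.sub_dvd_pow_sub_pow (2 ^ n) 1 c
        have h2 := IsCyclic.card_powMonoidHom_ker (G := Fˣ) (2 ^ n - 1)
        rw [Nat.card_eq_fintype_card (α := Fˣ), Nat.gcd_eq_right hd] at h2
        have h3 : (Finset.univ.filter fun u : Fˣ => u ^ (2 ^ n - 1) = 1).card = 2 ^ n - 1 := by
          rw [← Fintype.card_subtype, ← Nat.card_eq_fintype_card]
          exact (Nat.card_congr (Equiv.subtypeEquivRight fun u => by simp [MonoidHom.mem_ker])).trans h2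
        omega
      rw [← hcard, ← Nat.card_eq_fintype_card]
      exact Nat.card_congr (Equiv.subtypeEquivRight hT)
    · intro x hx
      obtain ⟨y, hy, hy1⟩ := (Subgroup.bot_or_exists_ne_one _).resolve_left hx
      obtain ⟨⟨c, hc, hyc⟩, u, ⟨b, hb, rfl⟩, hub⟩ := hy
      subst hyc
      have hub' : x * CfsgLib.Suzuki.tG h 0 b * x⁻¹ = CfsgLib.Suzuki.tG h 0 c := hub
      have hb1 : CfsgLib.Suzuki.tG h 0 b ≠ 1 := fun e => hy1 (by rw [← hub', e]; simp)
      have hB : x ∈ CfsgLib.Suzuki.bSub F m := by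
        refine CfsgLib.Suzuki.mem_bSub_of_conj ⟨0, b, rfl⟩ hb1 ?_
        rw [hub']
        exact CfsgLib.Suzuki.tG_mem_bSub h 0 c
      obtain ⟨a', b', s, rfl⟩ := CfsgLib.Suzuki.exists_of_mem_bSub hm hF hB
      have hconj : ∀ d, CfsgLib.Suzuki.tG h a' b' * CfsgLib.Suzuki.hG h s * CfsgLib.Suzuki.tG h 0 d *
          (CfsgLib.Suzuki.tG h a' b' * CfsgLib.Suzuki.hG h s)⁻¹ =
          CfsgLib.Suzuki.tG h 0 (CfsgLib.Suzuki.th m (s : F) * (s : F) ^ 2 * d) := by
        intro d
        have e1 := CfsgLib.Suzuki.hG_conj h s 0 d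
        rw [mul_zero] at e1
        have e2 : ∀ e, CfsgLib.Suzuki.tG h a' b' * CfsgLib.Suzuki.tG h 0 e =
            CfsgLib.Suzuki.tG h 0 e * CfsgLib.Suzuki.tG h a' b' := fun e => by
          rw [CfsgLib.Suzuki.tG_mul, CfsgLib.Suzuki.tG_mul]
          simp [add_comm]
        rw [mul_inv_rev, ← mul_assoc, mul_assoc (CfsgLib.Suzuki.tG h a' b'),
          mul_assoc (CfsgLib.Suzuki.tG h a' b'), e1, e2, mul_inv_cancel_right]
      rw [hconj] at hub'
      have hl := (CfsgLib.Suzuki.tG_inj h hub').2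
      have hb0 : b ≠ 0 := fun e => hb1 (by rw [e]; exact CfsgLib.Suzuki.tG_zero h)
      have hl1 : (CfsgLib.Suzuki.th m (s : F) * (s : F) ^ 2) ^ 2 ^ n =
          CfsgLib.Suzuki.th m (s : F) * (s : F) ^ 2 := by
        apply mul_right_cancel₀ hb0
        conv_lhs => rw [← (hT b).1 hb, ← mul_pow, hl, (hT c).1 hc, ← hl]
      rw [Subgroup.mem_normalizer_iff]
      intro w
      constructor
      · rintro ⟨d, hd, rfl⟩
        exact ⟨_, (hT _).2 (by rw [mul_pow, hl1, (hT d).1 hd]), hconj d⟩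
      · rintro ⟨e, he, hwe⟩
        have hl0 : CfsgLib.Suzuki.th m (s : F) * (s : F) ^ 2 ≠ 0 :=
          mul_ne_zero (by simp) (pow_ne_zero 2 s.ne_zero)
        refine ⟨e / (CfsgLib.Suzuki.th m (s : F) * (s : F) ^ 2), (hT _).2
          (by rw [div_pow, hl1, (hT e).1 he]), ?_⟩
        have e3 := hconj (e / (CfsgLib.Suzuki.th m (s : F) * (s : F) ^ 2))
        rw [mul_div_cancel₀ _ hl0, ← hwe] at e3
        exact (mul_left_cancel (mul_right_cancel e3)).symm

end Cfsg.Agent.S2240
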