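import Cfsg.Statements.S2241
import Cfsg.Agent.Lib.Suzuki.Sylow

set_option autoImplicit false
open Cfsg

namespace Cfsg.Agent.S2241

/-- Real 2-elements of the Suzuki group: with q = 2^(2m+1), m ≥ 1, and the group realised as the stabiliser in SL₄ of the Suzuki–Tits ovoid, a non-identity element of a Sylow 2-subgroup is conjugate to its inverse if and only if it is an involution; in particular no element of order 4 is conjugate to its inverse. -/
theorem result {F : Type*} [Field F] [Fintype F] {m : ℕ} (hm : 1 ≤ m) (hF : Fintype.card F = 2 ^ (2 * m + 1)) (P : Sylow 2 ↥(Cfsg.Sz F m)) (g : ↥(Cfsg.Sz F m)) (hg : g ∈ (P : Subgroup ↥(Cfsg.Sz F m))) (h1 : g ≠ 1) :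
    IsConj g g⁻¹ ↔ orderOf g = 2 := by
  haveI : CharP F 2 := charP_of_card_eq_prime_pow hF
  set h := CfsgLib.Suzuki.thSq_of_card hF
  haveI : Fact (Nat.Prime 2) := ⟨Nat.prime_two⟩
  constructor
  · intro hc
    obtain ⟨k, hk⟩ := CfsgLib.Suzuki.exists_conj_sylow hm hF P
    rw [hk] at hg
    obtain ⟨u, hu, rfl⟩ := hg
    have hc' : IsConj u u⁻¹ := by
      obtain ⟨x, hx⟩ := isConj_iff.1 hc
      refine isConj_iff.2 ⟨k⁻¹ * x * k, (MulAut.conj k).injective ?_⟩
      simpa [mul_assoc] using hx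
    have h1' : u ≠ 1 := fun e => h1 (by rw [e]; exact map_one _)
    rw [show orderOf ((MulAut.conj k).toMonoidHom u) = orderOf u from MulEquiv.orderOf_eq _ u]
    obtain ⟨a, b, rfl⟩ := hu
    rcases eq_or_ne a 0 with rfl | ha
    · refine orderOf_eq_prime ?_ h1'
      rw [sq, CfsgLib.Suzuki.tG_sq, map_zero, zero_mul, CfsgLib.Suzuki.tG_zero]
    exfalso
    obtain ⟨x, hx⟩ := isConj_iff.1 hc'
    have hxB : x ∈ CfsgLib.Suzuki.bSub F m := by
      refine CfsgLib.Suzuki.mem_bSub_of_conj (h := h) ⟨a, b, rfl⟩ h1' ?_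
      rw [hx]
      exact inv_mem (CfsgLib.Suzuki.tG_mem_bSub h a b)
    obtain ⟨c, d, s, rfl⟩ := CfsgLib.Suzuki.exists_of_mem_bSub hm hF hxB
    rw [mul_inv_rev, show CfsgLib.Suzuki.tG h c d * CfsgLib.Suzuki.hG h s * CfsgLib.Suzuki.tG h a b *
      ((CfsgLib.Suzuki.hG h s)⁻¹ * (CfsgLib.Suzuki.tG h c d)⁻¹) =
      CfsgLib.Suzuki.tG h c d * (CfsgLib.Suzuki.hG h s * CfsgLib.Suzuki.tG h a b *
      (CfsgLib.Suzuki.hG h s)⁻¹) * (CfsgLib.Suzuki.tG h c d)⁻¹ by group,
      CfsgLib.Suzuki.hG_conj, CfsgLib.Suzuki.tG_inv, CfsgLib.Suzuki.tG_inv,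
      CfsgLib.Suzuki.tG_mul, CfsgLib.Suzuki.tG_mul] at hx
    obtain ⟨e1, e2⟩ := CfsgLib.Suzuki.tG_inj h hx
    have hs : (s : F) = 1 := by
      refine RingHom.injective (CfsgLib.Suzuki.th m) ?_
      rw [map_one]
      apply mul_right_cancel₀ ha
      linear_combination e1 - c * (CharTwo.two_eq_zero (R := F))
    rw [hs] at e2
    simp only [map_add, map_mul, map_one, one_mul, one_pow] at e2
    have hta : CfsgLib.Suzuki.th m a ≠ 0 := by simpa using ha
    have e3 : CfsgLib.Suzuki.th m c * a + CfsgLib.Suzuki.th m a * c = CfsgLib.Suzuki.th m a * a := by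
      linear_combination e2 -
        (d + CfsgLib.Suzuki.th m c * c) * (CharTwo.two_eq_zero (R := F))
    obtain ⟨z, rfl⟩ : ∃ z, c = z * a := ⟨c / a, by rw [div_mul_cancel₀ _ ha]⟩
    have e4 : CfsgLib.Suzuki.th m z + z = 1 := by
      apply mul_right_cancel₀ (mul_ne_zero hta ha)
      rw [map_mul] at e3
      linear_combination e3
    have e5 := congrArg (CfsgLib.Suzuki.th m) e4
    rw [map_add, h z, map_one] at e5
    rcases mul_eq_zero.1 (show z * (z - 1) = 0 by linear_combination e5 - e4) with h' | h'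
    · rw [h'] at e4; simp at e4
    · rw [sub_eq_zero.1 h', map_one, CharTwo.add_self_eq_zero] at e4
      exact zero_ne_one e4
  · intro h2
    rw [inv_eq_of_mul_eq_one_right (show g * g = 1 by rw [← sq, ← h2]; exact pow_orderOf_eq_one g)]

end Cfsg.Agent.S2241
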