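import Cfsg.Statements.S2244
import Cfsg.Agent.Lib.KnownA.Chev.WeaklyClosed

set_option autoImplicit false
open Cfsg

namespace Cfsg.Agent.S2244

/-- Weakly closed unipotent subgroups of Chevalley groups: let G be the Chevalley group of type G₂, B₂, D₄, F₄, E₆, E₇ or E₈ over a finite field F (the matrix group generated by the root elements), with |F| ≠ 2, and |F| ≠ 3 as well for the types G₂, B₂, D₄, F₄. Let U be the subgroup generated by the positive root subgroups. If X ≤ U is weakly closed in U with respect to G (every G-conjugate of X lying in U equals X), then X is the unipotent radical U_J of a standard parabolic subgroup for some set J of fundamental roots. -/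
theorem result {F : Type*} [Field F] [Fintype F] (D : Cfsg.Lie.ChevalleyDatum) (hD : D ∈ [Cfsg.Lie.chevG2, Cfsg.Lie.chevB2, Cfsg.Lie.chevD4, Cfsg.Lie.chevF4, Cfsg.Lie.chevE6, Cfsg.Lie.chevE7, Cfsg.Lie.chevE8])
    (h2 : Fintype.card F ≠ 2) (h3 : D ∈ [Cfsg.Lie.chevG2, Cfsg.Lie.chevB2, Cfsg.Lie.chevD4, Cfsg.Lie.chevF4] → Fintype.card F ≠ 3)
    (X : Subgroup (GL D.Idx F)) (hXU : X ≤ D.posUnipotent F)
    (hwc : ∀ g ∈ D.group F, X.map (MulAut.conj g).toMonoidHom ≤ D.posUnipotent F → X.map (MulAut.conj g).toMonoidHom = X) :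
    ∃ J : Set ℕ, (∀ j ∈ J, j < D.rank) ∧ X = D.unipotentRadical F J := by
  have g := CfsgLib.Chev.good_of_mem hD
  have hc := CfsgLib.Chev.hasComm_of_mem hD
  have hse := CfsgLib.Chev.suppEq_of_mem hD
  have h1 : 1 ≤ Fintype.card F := Fintype.card_pos
  have h2' : ¬ Fintype.card F - 1 ∣ 1 := fun h => by
    have := Nat.dvd_one.1 h
    omega
  have big : Fintype.card F ≠ 3 → (¬ Fintype.card F - 1 ∣ 2) ∧ ∃ c : F, c ≠ 0 ∧ c ^ 2 ≠ 1 := by
    intro h3'
    have hone : 1 < Fintype.card F := Fintype.one_lt_card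
    refine ⟨fun h => ?_, ?_⟩
    · have := Nat.le_of_dvd two_pos h
      omega
    · obtain ⟨ω, hω⟩ := IsCyclic.exists_generator (α := Fˣ)
      refine ⟨ω, ω.ne_zero, fun h => ?_⟩
      have hord : orderOf ω ∣ 2 := orderOf_dvd_of_pow_eq_one (Units.ext (by simpa using h))
      rw [orderOf_eq_card_of_forall_mem_zpowers hω, Nat.card_units, Nat.card_eq_fintype_card] at hord
      have := Nat.le_of_dvd two_pos hord
      omega
  simp only [List.mem_cons, List.not_mem_nil, or_false] at hD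
  rcases hD with rfl | rfl | rfl | rfl | rfl | rfl | rfl
  · obtain ⟨hd, hc2⟩ := big (h3 (by simp))
    exact CfsgLib.KnownA.Chev.weakly_closed_eq_radical g hc hse CfsgLib.KnownA.Chev.minorsG2 hd
      (fun r a b c t => CfsgLib.KnownA.Chev.xG_mem_commutator g hc CfsgLib.KnownA.Chev.witsG2_ok (Or.inr hc2) a b c t) X hXU hwc
  · obtain ⟨hd, hc2⟩ := big (h3 (by simp))
    exact CfsgLib.KnownA.Chev.weakly_closed_eq_radical g hc hse CfsgLib.KnownA.Chev.minorsB2 hd
      (fun r a b c t => CfsgLib.KnownA.Chev.xG_mem_commutator g hc CfsgLib.KnownA.Chev.witsB2_ok (Or.inr hc2) a b c t) X hXU hwc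
  · obtain ⟨hd, hc2⟩ := big (h3 (by simp))
    exact CfsgLib.KnownA.Chev.weakly_closed_eq_radical g hc hse CfsgLib.KnownA.Chev.minorsD4 hd
      (fun r a b c t => CfsgLib.KnownA.Chev.xG_mem_commutator g hc CfsgLib.KnownA.Chev.witsD4_ok (Or.inr hc2) a b c t) X hXU hwc
  · obtain ⟨hd, hc2⟩ := big (h3 (by simp))
    exact CfsgLib.KnownA.Chev.weakly_closed_eq_radical g hc hse CfsgLib.KnownA.Chev.minorsF4 hd
      (fun r a b c t => CfsgLib.KnownA.Chev.xG_mem_commutator g hc CfsgLib.KnownA.Chev.witsF4_ok (Or.inr hc2) a b c t) X hXU hwc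
  · exact CfsgLib.KnownA.Chev.weakly_closed_eq_radical g hc hse CfsgLib.KnownA.Chev.minorsE6 h2'
      (fun r a b c t => CfsgLib.KnownA.Chev.xG_mem_commutator g hc CfsgLib.KnownA.Chev.witsE6_ok
        (Or.inl (by decide +kernel)) a b c t) X hXU hwc
  · exact CfsgLib.KnownA.Chev.weakly_closed_eq_radical g hc hse CfsgLib.KnownA.Chev.minorsE7 h2'
      (fun r a b c t => CfsgLib.KnownA.Chev.xG_mem_commutator g hc CfsgLib.KnownA.Chev.witsE7_ok
        (Or.inl (by decide +kernel)) a b c t) X hXU hwc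
  · exact CfsgLib.KnownA.Chev.weakly_closed_eq_radical g hc hse CfsgLib.KnownA.Chev.minorsE8 h2'
      (fun r a b c t => CfsgLib.KnownA.Chev.xG_mem_commutator g hc CfsgLib.KnownA.Chev.witsE8_ok
        (Or.inl (by decide +kernel)) a b c t) X hXU hwc

end Cfsg.Agent.S2244
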