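import Cfsg.Statements.S2247
import Cfsg.Agent.Lib.Suzuki.Sylow

set_option autoImplicit false
open Cfsg

namespace Cfsg.Agent.S2247

/-- In the Suzuki group with q = 2^(2m+1), m ≥ 1 (realised as the stabiliser in SL₄ of the Suzuki–Tits ovoid), the normalizer of a Sylow 2-subgroup P is a maximal subgroup and is the only maximal subgroup containing P. -/
theorem result {F : Type*} [Field F] [Fintype F] {m : ℕ} (hm : 1 ≤ m) (hF : Fintype.card F = 2 ^ (2 * m + 1)) (P : Sylow 2 ↥(Cfsg.Sz F m)) :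
    IsCoatom (Subgroup.normalizer ((P : Subgroup ↥(Cfsg.Sz F m)) : Set ↥(Cfsg.Sz F m))) ∧
    ∀ M : Subgroup ↥(Cfsg.Sz F m), IsCoatom M → (P : Subgroup ↥(Cfsg.Sz F m)) ≤ M → M = Subgroup.normalizer ((P : Subgroup ↥(Cfsg.Sz F m)) : Set ↥(Cfsg.Sz F m)) := by
  haveI : CharP F 2 := charP_of_card_eq_prime_pow hF
  obtain ⟨g, hg⟩ := CfsgLib.Suzuki.exists_conj_sylow hm hF P
  rw [hg, CfsgLib.Suzuki.normalizer_map_conj, CfsgLib.Suzuki.normalizer_uSub hm hF]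
  let E : Subgroup ↥(Cfsg.Sz F m) ≃o Subgroup ↥(Cfsg.Sz F m) := (MulAut.conj g).mapSubgroup
  refine ⟨(OrderIso.isCoatom_iff E _).2 (CfsgLib.Suzuki.isCoatom_bSub hm hF), fun M hM hle => ?_⟩
  have h1 : IsCoatom (E.symm M) := (OrderIso.isCoatom_iff E.symm _).2 hM
  have h2 : CfsgLib.Suzuki.uSub (CfsgLib.Suzuki.thSq_of_card hF) ≤ E.symm M :=
    E.le_symm_apply.2 hle
  rw [← E.apply_symm_apply M, CfsgLib.Suzuki.eq_bSub_of_uSub_le hm hF h1 h2]
  rfl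

end Cfsg.Agent.S2247
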