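import Cfsg.Statements.S2249
import Cfsg.Agent.Lib.Classical.TwoRankUpper
import Cfsg.Agent.Lib.Classical.TwoRankLower
import Cfsg.Agent.Lib.Classical.Preserving

set_option autoImplicit false
open Cfsg CfsgLib.Classical CfsgLib.Classical.TwoRank

namespace Cfsg.Agent.S2249

variable {F : Type*} [Field F] [Fintype F] {n : ℕ}

theorem two_ne (hodd : Odd (Fintype.card F)) : (2 : F) ≠ 0 :=
  Ring.two_ne_zero fun h' => by
    have := FiniteField.even_card_iff_char_two.1 h'
    have := Nat.odd_iff.1 hodd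
    omega

theorem upper (hodd : Odd (Fintype.card F)) (S : Sylow 2 (Matrix.GeneralLinearGroup (Fin n) F))
    (E : Subgroup ↥(S : Subgroup (Matrix.GeneralLinearGroup (Fin n) F))) (hn : E.Normal)
    (hE : Cfsg.IsElementaryAbelian 2 E) :
    Nat.card E ≤ 2 ^ n ∧ (Fintype.card F % 4 = 3 → Nat.card E ≤ 2 ^ ((n + 1) / 2)) := by
  classical
  haveI := Fact.mk Nat.prime_two
  set ρ : E →* ((Fin n → F) ≃ₗ[F] (Fin n → F)) :=
    (glLin.toMonoidHom.comp (S : Subgroup (Matrix.GeneralLinearGroup (Fin n) F)).subtype).comp E.subtype with hρdef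
  have hρ : Function.Injective ρ := fun a b h =>
    Subtype.ext (Subtype.ext (glLin.injective h))
  have hc : ∀ a b : E, Commute a b := fun a b => isMulCommutative_iff.1 hE.1 a b
  have hi : ∀ a : E, a ^ 2 = 1 := fun a => Subtype.ext (hE.2 a a.2)
  haveI : Fintype E := Fintype.ofFinite E
  haveI : Fintype (E → Bool) := inferInstance
  have h2 := two_ne (F := F) hodd
  have hind := eig_indep h2 ρ hc
  have htop := eig_top h2 ρ hc hi
  have hcard := card_le_two_pow h2 ρ hρ hc hi
  set k := Nat.card {f : E → Bool // eig ρ f ≠ ⊥} with hk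
  have hsum : (n : ℕ) = ∑ f, Module.finrank F (eig ρ f) := by
    rw [← finrank_iSup _ hind, htop, finrank_top, Module.finrank_fintype_fun_eq_card, Fintype.card_fin]
  have hkn : k ≤ n := by
    rw [hk, Nat.card_eq_fintype_card]
    have := hind.subtype_ne_bot_le_finrank
    rwa [Module.finrank_fintype_fun_eq_card, Fintype.card_fin] at this
  refine ⟨hcard.trans (Nat.pow_le_pow_right two_pos hkn), fun hq => hcard.trans
    (Nat.pow_le_pow_right two_pos ?_)⟩
  set P := (S : Subgroup (Matrix.GeneralLinearGroup (Fin n) F)).map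
    (glLin (ι := Fin n) (F := F)).toMonoidHom with hP
  have hPc : Nat.card P = 2 ^ (Nat.card ((Fin n → F) ≃ₗ[F] (Fin n → F))).factorization 2 := by
    rw [hP, ← Nat.card_congr ((S : Subgroup _).equivMapOfInjective
      (glLin (ι := Fin n) (F := F)).toMonoidHom
      (glLin (ι := Fin n) (F := F)).injective).toEquiv, S.card_eq_multiplicity,
      Nat.card_congr (glLin (ι := Fin n) (F := F)).toEquiv]
  have hodd1 := card_odd_le_one (eig ρ) hind htop hq P hPc (by
    rintro _ ⟨g, hg, rfl⟩ f -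
    let c : E ≃ E := (MulAut.conjNormal (⟨g, hg⟩ : ↥(S : Subgroup _)) : MulAut E).toEquiv
    refine ⟨f ∘ c.symm, map_eig ρ _ c (fun a v => ?_) f⟩
    show (glLin g) ((ρ a) v) = _
    simp only [hρdef, c, MonoidHom.coe_comp, Function.comp_apply, Subgroup.coe_subtype,
      MulEquiv.toEquiv_eq_coe, MulEquiv.coe_toMonoidHom, EquivLike.coe_coe, MulAut.conjNormal_apply,
      Subgroup.coe_mul, InvMemClass.coe_inv]
    rw [← LinearEquiv.mul_apply, ← LinearEquiv.mul_apply, ← map_mul, ← map_mul, inv_mul_cancel_right])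
  -- count
  have h3 : 2 * k ≤ (∑ f, Module.finrank F (eig ρ f)) +
      Nat.card {f : E → Bool // Odd (Module.finrank F (eig ρ f))} := by
    rw [hk, Nat.card_eq_fintype_card, Nat.card_eq_fintype_card, Fintype.card_subtype,
      Fintype.card_subtype, Finset.card_filter, Finset.card_filter, Finset.mul_sum,
      ← Finset.sum_add_distrib]
    refine Finset.sum_le_sum fun f _ => ?_
    by_cases h : eig ρ f = ⊥
    · simp [h]
    · have := Submodule.one_le_finrank_iff.2 h
      rw [if_pos h]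
      split_ifs with h'
      · omega
      · have := Nat.even_iff.1 (Nat.not_odd_iff_even.1 h'); omega
  omega

/-- The normal 2-rank of the general linear group over a finite field of odd order q: for n ≥ 1 and S a Sylow 2-subgroup of GL_n(F), the largest rank of an elementary abelian subgroup of S that is normal in S equals n when q ≡ 1 (mod 4) and ⌊(n + 1)/2⌋ when q ≡ 3 (mod 4). -/
theorem result {F : Type*} [Field F] [Fintype F] {q : ℕ} (hF : Fintype.card F = q) (hodd : Odd q) (n : ℕ) (hn : 1 ≤ n) (S : Sylow 2 (Matrix.GeneralLinearGroup (Fin n) F)) :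
    (q % 4 = 1 → ((∃ E : Subgroup ↥(S : Subgroup (Matrix.GeneralLinearGroup (Fin n) F)), E.Normal ∧ Cfsg.IsElementaryAbelian 2 E ∧ 2 ^ (n) ≤ Nat.card ↥E) ∧
      ∀ E : Subgroup ↥(S : Subgroup (Matrix.GeneralLinearGroup (Fin n) F)), E.Normal → Cfsg.IsElementaryAbelian 2 E → Nat.card ↥E ≤ 2 ^ (n))) ∧
    (q % 4 = 3 → ((∃ E : Subgroup ↥(S : Subgroup (Matrix.GeneralLinearGroup (Fin n) F)), E.Normal ∧ Cfsg.IsElementaryAbelian 2 E ∧ 2 ^ ((n + 1) / 2) ≤ Nat.card ↥E) ∧
      ∀ E : Subgroup ↥(S : Subgroup (Matrix.GeneralLinearGroup (Fin n) F)), E.Normal → Cfsg.IsElementaryAbelian 2 E → Nat.card ↥E ≤ 2 ^ ((n + 1) / 2))) := by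
  subst hF
  exact ⟨fun h => ⟨gl_lower_one h S, fun E h1 h2 => (upper hodd S E h1 h2).1⟩,
    fun h => ⟨gl_lower_three hodd S, fun E h1 h2 => (upper hodd S E h1 h2).2 h⟩⟩

end Cfsg.Agent.S2249
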