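import Cfsg.Statements.S2250
import Cfsg.Agent.Lib.Classical.TwoRankUpper
import Cfsg.Agent.Lib.Classical.TwoRankLower

set_option autoImplicit false
open Cfsg CfsgLib.Classical CfsgLib.Classical.TwoRank CfsgLib.Geom

namespace Cfsg.Agent.S2250

theorem upper {F : Type*} [Field F] [Fintype F] (hodd : Odd (Fintype.card F)) {n : ℕ}
    (S : Subgroup ↥(Matrix.symplecticGroup (Fin n) F)) (E : Subgroup ↥S)
    (hE : Cfsg.IsElementaryAbelian 2 E) : Nat.card E ≤ 2 ^ n := by
  classical
  set ρ : E →* ((Fin n ⊕ Fin n → F) ≃ₗ[F] (Fin n ⊕ Fin n → F)) :=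
    ((formIsoms (sympBilin n F)).subtype.comp ((spEquiv n F).symm.toMonoidHom.comp S.subtype)).comp
      E.subtype with hρdef
  have hρ : Function.Injective ρ := fun a b h =>
    Subtype.ext (Subtype.ext ((spEquiv n F).symm.injective (Subtype.ext h)))
  have hc : ∀ a b : E, Commute a b := fun a b => isMulCommutative_iff.1 hE.1 a b
  have hi : ∀ a : E, a ^ 2 = 1 := fun a => Subtype.ext (hE.2 a a.2)
  haveI : Fintype E := Fintype.ofFinite E
  have h2 : (2 : F) ≠ 0 := Ring.two_ne_zero fun h' => by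
    have := FiniteField.even_card_iff_char_two.1 h'
    have := Nat.odd_iff.1 hodd
    omega
  have hind := eig_indep h2 ρ hc
  have htop := eig_top h2 ρ hc hi
  refine (card_le_two_pow h2 ρ hρ hc hi).trans (Nat.pow_le_pow_right two_pos ?_)
  have hsum : n + n = ∑ f, Module.finrank F (eig ρ f) := by
    rw [← finrank_iSup _ hind, htop, finrank_top, Module.finrank_fintype_fun_eq_card,
      Fintype.card_sum, Fintype.card_fin]
  have h3 : 2 * Nat.card {f : E → Bool // eig ρ f ≠ ⊥} ≤ ∑ f, Module.finrank F (eig ρ f) := by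
    rw [Nat.card_eq_fintype_card, Fintype.card_subtype, Finset.card_filter, Finset.mul_sum]
    refine Finset.sum_le_sum fun f _ => ?_
    by_cases h : eig ρ f = ⊥
    · simp [h]
    · rw [if_pos h, mul_one]
      exact two_le_finrank_eig h2 ρ hc hi (sympBilin n F) sympBilin_self sympBilin_sep
        (fun a u v => ((spEquiv n F).symm (a.1.1)).2 u v) h
  omega

/-- The normal 2-rank of the symplectic group over a finite field of odd order: for n ≥ 1 and S a Sylow 2-subgroup of Sp_{2n}(F), the largest rank of an elementary abelian subgroup of S that is normal in S equals n. -/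
theorem result {F : Type*} [Field F] [Fintype F] (hF : Odd (Fintype.card F)) (n : ℕ) (hn : 1 ≤ n) (S : Sylow 2 ↥(Matrix.symplecticGroup (Fin n) F)) :
    ((∃ E : Subgroup ↥(S : Subgroup ↥(Matrix.symplecticGroup (Fin n) F)), E.Normal ∧ Cfsg.IsElementaryAbelian 2 E ∧ 2 ^ (n) ≤ Nat.card ↥E) ∧
      ∀ E : Subgroup ↥(S : Subgroup ↥(Matrix.symplecticGroup (Fin n) F)), E.Normal → Cfsg.IsElementaryAbelian 2 E → Nat.card ↥E ≤ 2 ^ (n)) :=
  ⟨sp_lower hF S, fun E _ h2 => upper hF _ E h2⟩

end Cfsg.Agent.S2250
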