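import Cfsg.Statements.S2251
import Cfsg.Agent.Lib.Suzuki.Classify

set_option autoImplicit false
open Cfsg

namespace Cfsg.Agent.S2251

/-- The subgroups of the Suzuki group: with q = 2^(2m+1), m ≥ 1, r = 2^m and the group realised as the stabiliser in SL₄ of the Suzuki–Tits ovoid, every proper subgroup is contained in the normalizer of a Sylow 2-subgroup, or in the normalizer of a cyclic subgroup of order q − 1, q + 2r + 1 or q − 2r + 1, or in a subgroup isomorphic to a smaller Suzuki group Sz(s) with s = 2^(2k+1) ≥ 8 and 2k+1 a proper divisor of 2m+1. -/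
theorem result {F : Type*} [Field F] [Fintype F] {m : ℕ} (hm : 1 ≤ m) (hF : Fintype.card F = 2 ^ (2 * m + 1)) (M : Subgroup ↥(Cfsg.Sz F m)) (hM : M ≠ ⊤) :
    (∃ P : Sylow 2 ↥(Cfsg.Sz F m), M ≤ Subgroup.normalizer ((P : Subgroup ↥(Cfsg.Sz F m)) : Set ↥(Cfsg.Sz F m))) ∨
    (∃ U : Subgroup ↥(Cfsg.Sz F m), IsCyclic ↥U ∧ Nat.card ↥U ∈ ({2 ^ (2 * m + 1) - 1, 2 ^ (2 * m + 1) + 2 ^ (m + 1) + 1, 2 ^ (2 * m + 1) - 2 ^ (m + 1) + 1} : Set ℕ) ∧
      M ≤ Subgroup.normalizer (U : Set ↥(Cfsg.Sz F m))) ∨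
    (∃ (K : Type) (_ : Field K) (_ : Fintype K) (k : ℕ), 1 ≤ k ∧ k < m ∧ Fintype.card K = 2 ^ (2 * k + 1) ∧ 2 * k + 1 ∣ 2 * m + 1 ∧
      ∃ S : Subgroup ↥(Cfsg.Sz F m), Nonempty (↥S ≃* ↥(Cfsg.Sz K k)) ∧ M ≤ S) := by
  haveI : CharP F 2 := charP_of_card_eq_prime_pow hF
  haveI : Fact (Nat.Prime 2) := ⟨Nat.prime_two⟩
  rcases CfsgLib.Suzuki.classify' hm hF M with ⟨g, h⟩ | ⟨A, hA, h⟩ | ⟨k, g, hk, hd, hS⟩
  · refine Or.inl ⟨g • CfsgLib.Suzuki.uSylow hm hF, h.trans_eq ?_⟩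
    rw [← CfsgLib.Suzuki.normalizer_uSub hm hF, ← CfsgLib.Suzuki.normalizer_map_conj]
    rfl
  · exact Or.inr (Or.inl ⟨A, hA.isCyclic hF, hA.card_mem hm hF, h⟩)
  · refine Or.inr (Or.inr ?_)
    let _ : Fintype (GaloisField 2 (2 * k + 1)) := Fintype.ofFinite _
    have hK : Fintype.card (GaloisField 2 (2 * k + 1)) = 2 ^ (2 * k + 1) := by
      rw [← Nat.card_eq_fintype_card, GaloisField.card 2 _ (by omega)]
    have hlt : k < m := by
      have := Nat.le_of_dvd (by omega) hd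
      refine lt_of_le_of_ne (by omega) fun e => hM ?_
      subst e
      refine Subgroup.eq_top_of_card_eq M ?_
      obtain ⟨-, -, -, -, hc, -⟩ := hS
      rw [Subgroup.card_map_of_injective (MulAut.conj g).injective] at hc
      rw [hc, CfsgLib.Suzuki.card_sz hm hF, hF]
    obtain ⟨ι⟩ := CfsgLib.Suzuki.exists_subfield hF (show 2 * k + 1 ≠ 0 by omega) hd
    obtain ⟨g', e⟩ := CfsgLib.Suzuki.subShape_rigid hm hk hF hK ι hd hS
    rw [CfsgLib.Suzuki.map_conj_mul] at e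
    exact ⟨GaloisField 2 (2 * k + 1), inferInstance, inferInstance, k, hk, hlt, hK, hd, M,
      ⟨((Subgroup.equivMapOfInjective M _ (MulAut.conj (g' * g)).injective).trans
        (MulEquiv.subgroupCongr e)).trans
          (MonoidHom.ofInjective (CfsgLib.Suzuki.emb_injective hk hF hK ι hd)).symm⟩, le_rfl⟩

end Cfsg.Agent.S2251
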