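import Cfsg.Statements.S2254
import Cfsg.Agent.Lib.KnownA.NilMax
open CfsgLib.KnownA

set_option autoImplicit false
open Cfsg

namespace Cfsg.Agent.S2254

/-- Let n ≡ 3 (mod 4). Then every nilpotent subgroup of the symmetric group on n letters has order at most 3 times the order of a Sylow 2-subgroup of the symmetric group on n − 3 letters; the bound is attained by a nilpotent subgroup isomorphic to the direct product of such a Sylow 2-subgroup with a cyclic group of order 3; and any two nilpotent subgroups attaining the bound are conjugate. -/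
theorem result  (n : ℕ) (hn : n % 4 = 3)
    (P : Sylow 2 (Equiv.Perm (Fin (n - 3)))) :
    (∀ N : Subgroup (Equiv.Perm (Fin n)), Group.IsNilpotent N → Nat.card N ≤ 3 * Nat.card P) ∧
    (∃ M : Subgroup (Equiv.Perm (Fin n)), Group.IsNilpotent M ∧ Nat.card M = 3 * Nat.card P ∧
      Nonempty (M ≃* (↥(P : Subgroup (Equiv.Perm (Fin (n - 3)))) × Multiplicative (ZMod 3)))) ∧
    (∀ N₁ N₂ : Subgroup (Equiv.Perm (Fin n)), Group.IsNilpotent N₁ → Group.IsNilpotent N₂ →
      Nat.card N₁ = 3 * Nat.card P → Nat.card N₂ = 3 * Nat.card P →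
      ∃ g : Equiv.Perm (Fin n), N₂ = N₁.map (MulAut.conj g).toMonoidHom) := by
  obtain ⟨hb, -⟩ := (Nil.two_pow_e2_le n).2.2 hn
  have hc : 3 * Nat.card P = Nil.bnd n := by rw [hb, Nil.card_sylow_sym]
  have hP : Group.IsNilpotent (P : Subgroup (Equiv.Perm (Fin (n - 3)))) :=
    IsPGroup.isNilpotent P.isPGroup'
  have he : 3 ≤ n := by omega
  have hmax : ∀ N : Subgroup (Equiv.Perm (Fin n)), Group.IsNilpotent N →
      Nat.card N = 3 * Nat.card P → ∃ e, N = Nil.std e (P : Subgroup (Equiv.Perm (Fin (n - 3)))) := by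
    intro N hN hcard
    obtain ⟨x, hx⟩ := Nil.sym_eq_orbit hn (Nat.card_fin _) N hN (hcard.trans hc)
    refine Nil.eq_std (by rw [Nat.card_fin]; omega) Nat.card_pos N hN hcard x hx ⊤ _ rfl
      (fun _ _ _ _ _ => trivial) (fun Q _ hQ => ⟨?_, Nil.exists_conj_of_card P⟩)
    rw [Nil.card_sylow_sym]
    refine (Nil.bd_all _ _ (Nat.card_fin _) Q hQ).trans ?_
    exact ((Nil.two_pow_e2_le _).2.1 (by omega)).ge
  refine ⟨fun N hN => hc ▸ Nil.bd_all _ _ (Nat.card_fin _) N hN,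
    ⟨Nil.std (Nil.sumFin he) (P : Subgroup (Equiv.Perm (Fin (n - 3)))), Nil.std_nilpotent _ _ hP, Nil.card_std _ _,
      Nil.nonempty_std_equiv _ _⟩, fun N₁ N₂ h₁ h₂ c₁ c₂ => ?_⟩
  obtain ⟨e₁, rfl⟩ := hmax N₁ h₁ c₁
  obtain ⟨e₂, rfl⟩ := hmax N₂ h₂ c₂
  exact ⟨_, Nil.std_conj e₁ e₂ _⟩

end Cfsg.Agent.S2254
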