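import Cfsg.Statements.S2255
import Cfsg.Agent.Lib.KnownA.NilMax

set_option autoImplicit false
open Cfsg

namespace Cfsg.Agent.S2255

/-- Let n be a natural number not congruent to 3 modulo 4, with n ∉ {5, 6, 9}. Then every nilpotent subgroup of the alternating group on n letters has order at most the order of a Sylow 2-subgroup of the alternating group (so the nilpotent subgroups of largest order are exactly the Sylow 2-subgroups). -/
theorem result  (n : ℕ) (hn : n % 4 ≠ 3)
    (h5 : n ≠ 5) (h6 : n ≠ 6) (h9 : n ≠ 9)
    (N : Subgroup (alternatingGroup (Fin n))) (hN : Group.IsNilpotent N)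
    (P : Sylow 2 (alternatingGroup (Fin n))) :
    Nat.card N ≤ Nat.card P := by
  have hN' : Group.IsNilpotent (N.map (alternatingGroup (Fin n)).subtype) :=
    (have : Group.IsNilpotent N := hN
    Group.nilpotent_of_mulEquiv
      (Subgroup.equivMapOfInjective N _ (Subgroup.subtype_injective _)))
  have hc : Nat.card (N.map (alternatingGroup (Fin n)).subtype) = Nat.card N :=
    Subgroup.card_map_of_injective (Subgroup.subtype_injective _)
  rcases Nat.lt_or_ge n 2 with h | h
  · have : Subsingleton (Equiv.Perm (Fin n)) := by
      have : Subsingleton (Fin n) := Fin.subsingleton_iff_le_one.mpr (by omega)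
      infer_instance
    rw [Subgroup.eq_bot_of_subsingleton N, Subgroup.card_bot]
    exact Nat.card_pos
  have hb := (CfsgLib.KnownA.Nil.alt_bound n (Fin n) (Nat.card_fin n) _ hN'
    (Subgroup.map_subtype_le N) (by simp; omega)).1
  rw [hc, ← (CfsgLib.KnownA.Nil.two_pow_e2_le n).2.1 hn,
    ← CfsgLib.KnownA.Nil.card_sylow_alt h P] at hb
  omega

end Cfsg.Agent.S2255
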