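import Cfsg.Statements.S2256
import Cfsg.Agent.Lib.KnownA.NilMax
open CfsgLib.KnownA

set_option autoImplicit false
open Cfsg

namespace Cfsg.Agent.S2256

/-- Let n ≡ 3 (mod 4) with n ≥ 7. Then every nilpotent subgroup of the alternating group on n letters has order at most 3 times the order of a Sylow 2-subgroup of the alternating group on n − 3 letters; the bound is attained by a nilpotent subgroup isomorphic to the direct product of such a Sylow 2-subgroup with a cyclic group of order 3; and any two nilpotent subgroups of the alternating group attaining the bound are conjugate in it. -/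
theorem result  (n : ℕ) (hn : n % 4 = 3) (h7 : 7 ≤ n)
    (P : Sylow 2 (alternatingGroup (Fin (n - 3)))) :
    (∀ N : Subgroup (alternatingGroup (Fin n)), Group.IsNilpotent N → Nat.card N ≤ 3 * Nat.card P) ∧
    (∃ M : Subgroup (alternatingGroup (Fin n)), Group.IsNilpotent M ∧ Nat.card M = 3 * Nat.card P ∧
      Nonempty (M ≃* (↥(P : Subgroup (alternatingGroup (Fin (n - 3)))) × Multiplicative (ZMod 3)))) ∧
    (∀ N₁ N₂ : Subgroup (alternatingGroup (Fin n)), Group.IsNilpotent N₁ → Group.IsNilpotent N₂ →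
      Nat.card N₁ = 3 * Nat.card P → Nat.card N₂ = 3 * Nat.card P →
      ∃ g : alternatingGroup (Fin n), N₂ = N₁.map (MulAut.conj g).toMonoidHom) := by
  obtain ⟨hb, -⟩ := (Nil.two_pow_e2_le n).2.2 hn
  set P₀ := (P : Subgroup (alternatingGroup (Fin (n - 3)))).map (alternatingGroup (Fin (n - 3))).subtype with hP₀
  have hP₀c : Nat.card P₀ = Nat.card P := Subgroup.card_map_of_injective (Subgroup.subtype_injective _)
  have hP₀A : P₀ ≤ (alternatingGroup (Fin (n - 3))) := Subgroup.map_subtype_le _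
  have hc : 2 * (3 * Nat.card P) = Nil.bnd n := by
    rw [hb, ← Nil.card_sylow_alt (by omega) P]; ring
  have hP : Group.IsNilpotent P₀ :=
    have : Group.IsNilpotent (P : Subgroup (alternatingGroup (Fin (n - 3)))) := IsPGroup.isNilpotent P.isPGroup'
    Group.nilpotent_of_mulEquiv (Subgroup.equivMapOfInjective _ _ (Subgroup.subtype_injective _))
  have he : 3 ≤ n := by omega
  have hnil : ∀ N : Subgroup (alternatingGroup (Fin n)), Group.IsNilpotent N →
      Group.IsNilpotent (N.map (alternatingGroup (Fin n)).subtype) ∧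
      Nat.card (N.map (alternatingGroup (Fin n)).subtype) = Nat.card N := fun N hN =>
    ⟨(have : Group.IsNilpotent N := hN
    Group.nilpotent_of_mulEquiv
      (Subgroup.equivMapOfInjective N _ (Subgroup.subtype_injective _))),
      Subgroup.card_map_of_injective (Subgroup.subtype_injective _)⟩
  have hmax : ∀ N : Subgroup (alternatingGroup (Fin n)), Group.IsNilpotent N →
      Nat.card N = 3 * Nat.card P →
      ∃ e, N.map (alternatingGroup (Fin n)).subtype = Nil.std e P₀ := by
    intro N hN hcard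
    obtain ⟨hN', hNc⟩ := hnil N hN
    have hle := Subgroup.map_subtype_le N
    obtain ⟨x, hx⟩ := (Nil.alt_bound _ _ (Nat.card_fin _) _ hN' hle (by simp; omega)).2
      (fun h => by
        obtain ⟨j, hj⟩ := IsPGroup.iff_card.mp h
        have h3 : 3 ∣ 2 ^ j := ⟨Nat.card P, by rw [← hj, hNc, hcard]⟩
        have := Nat.prime_three.dvd_of_dvd_pow h3
        omega) (by rw [hNc, hcard, hc])
    refine Nil.eq_std (by rw [Nat.card_fin]; omega) Nat.card_pos _ hN' (hNc.trans hcard) x hx (alternatingGroup (Fin (n - 3))) P₀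
      hP₀c (fun e a b ha hab => ?_) (fun Q hQA hQ => ⟨?_, fun hQc => ?_⟩)
    · have h := Equiv.Perm.mem_alternatingGroup.mp (hle hab)
      rw [Nil.sign_fe, ha, one_mul] at h
      exact Equiv.Perm.mem_alternatingGroup.mpr h
    · have h := (Nil.alt_bound _ _ (Nat.card_fin _) Q hQ hQA (by simp; omega)).1
      rw [← (Nil.two_pow_e2_le (n - 3)).2.1 (by omega),
        ← Nil.card_sylow_alt (by omega) P] at h
      omega
    · obtain ⟨g, hg⟩ := Nil.exists_conj_of_card P (Q := Q.subgroupOf (alternatingGroup (Fin (n - 3))))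
        ((Nat.card_congr (Subgroup.subgroupOfEquivOfLe hQA).toEquiv).trans hQc)
      exact ⟨g, fun y hy => ⟨_, hg ⟨y, hQA hy⟩ hy, rfl⟩⟩
  have hle : Nil.std (Nil.sumFin he) P₀ ≤ alternatingGroup (Fin n) :=
    Nil.sign_eq_one_of_mem_std _ hP₀A
  refine ⟨fun N hN => ?_, ⟨(Nil.std (Nil.sumFin he) P₀).subgroupOf _, ?_, ?_, ?_⟩,
    fun N₁ N₂ h₁ h₂ c₁ c₂ => ?_⟩
  · obtain ⟨hN', hNc⟩ := hnil N hN
    have := (Nil.alt_bound _ _ (Nat.card_fin _) _ hN' (Subgroup.map_subtype_le N)
      (by simp; omega)).1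
    omega
  · have : Group.IsNilpotent (Nil.std (Nil.sumFin he) P₀) := Nil.std_nilpotent _ _ hP
    exact Group.nilpotent_of_mulEquiv (Subgroup.subgroupOfEquivOfLe hle).symm
  · rw [Nat.card_congr (Subgroup.subgroupOfEquivOfLe hle).toEquiv, Nil.card_std, hP₀c]
  · obtain ⟨φ⟩ := Nil.nonempty_std_equiv (Nil.sumFin he) P₀
    exact ⟨((Subgroup.subgroupOfEquivOfLe hle).trans φ).trans (MulEquiv.prodCongr
      (Subgroup.equivMapOfInjective _ _ (Subgroup.subtype_injective _)).symm (MulEquiv.refl _))⟩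
  · obtain ⟨e₁, he₁⟩ := hmax N₁ h₁ c₁
    obtain ⟨e₂, he₂⟩ := hmax N₂ h₂ c₂
    suffices ∀ e, Nil.std e P₀ = Nil.std e₂ P₀ → Equiv.Perm.sign (e₁.symm.trans e) = 1 →
        ∃ g, N₂ = N₁.map (MulAut.conj g).toMonoidHom by
      rcases Int.units_eq_one_or (Equiv.Perm.sign (e₁.symm.trans e₂)) with h | h
      · exact this e₂ rfl h
      · refine this (((Equiv.swap (0 : Fin 3) 1).sumCongr (Equiv.refl _)).trans e₂)
          (Nil.std_swap e₂ P₀) ?_
        have : e₁.symm.trans (((Equiv.swap (0 : Fin 3) 1).sumCongr (Equiv.refl _)).trans e₂) =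
            (e₁.symm.trans e₂) * e₁.permCongr (((Equiv.swap (0 : Fin 3) 1).sumCongr
              (Equiv.refl _))) := by
          ext y; simp [Equiv.Perm.mul_apply]
        rw [this, map_mul, Equiv.Perm.sign_permCongr, h]
        simp [Equiv.Perm.sign_sumCongr]
    intro e heq hs
    refine ⟨⟨e₁.symm.trans e, Equiv.Perm.mem_alternatingGroup.mpr hs⟩,
      Subgroup.map_injective (f := (alternatingGroup (Fin n)).subtype)
        (Subgroup.subtype_injective _) ?_⟩
    rw [he₂, ← heq, Nil.std_conj e₁ e, ← he₁, Subgroup.map_map, Subgroup.map_map]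
    rfl

end Cfsg.Agent.S2256
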