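import Cfsg.Statements.S2257
import Cfsg.Agent.Lib.Geom.SolubilizerEven
-- import your own Cfsg.Agent.* helpers here

set_option autoImplicit false
open Cfsg CfsgLib.Geom

namespace Cfsg.Agent.S2257

/-- Let G = PSL_2(F) with F a field of order q = 2^p, p prime, and for x ∈ G call the solubilizer of x the set of y ∈ G such that x and y generate a solvable subgroup. Then the solubilizer of an involution has 3q(q − 1) elements; that of a non-identity element of order dividing q − 1 has 2q(q − 1) elements; and that of a non-identity element of order dividing q + 1 has 2(q + 1) elements. -/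
theorem result (p : ℕ) (hp : p.Prime) {F : Type*} [Field F] [Fintype F]
    (hF : Fintype.card F = 2 ^ p) (x : Matrix.ProjectiveSpecialLinearGroup (Fin 2) F) :
    (orderOf x = 2 → Nat.card {y : Matrix.ProjectiveSpecialLinearGroup (Fin 2) F // Group.IsSolvable ↥(Subgroup.closure ({x, y} : Set (Matrix.ProjectiveSpecialLinearGroup (Fin 2) F)))} = 3 * 2 ^ p * (2 ^ p - 1)) ∧
    (x ≠ 1 → orderOf x ∣ 2 ^ p - 1 → Nat.card {y : Matrix.ProjectiveSpecialLinearGroup (Fin 2) F // Group.IsSolvable ↥(Subgroup.closure ({x, y} : Set (Matrix.ProjectiveSpecialLinearGroup (Fin 2) F)))} = 2 * 2 ^ p * (2 ^ p - 1)) ∧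
    (x ≠ 1 → orderOf x ∣ 2 ^ p + 1 → Nat.card {y : Matrix.ProjectiveSpecialLinearGroup (Fin 2) F // Group.IsSolvable ↥(Subgroup.closure ({x, y} : Set (Matrix.ProjectiveSpecialLinearGroup (Fin 2) F)))} = 2 * (2 ^ p + 1)) := by
  have hp2 : 2 ≤ p := hp.two_le
  have h4 : 4 ≤ Fintype.card F := hF ▸ (show 2 ^ 2 ≤ 2 ^ p from Nat.pow_le_pow_right (by norm_num) hp2)
  have heven : Even (Fintype.card F) := hF ▸ (Nat.even_pow.2 ⟨even_two, by omega⟩)
  have hd := Moebius.gcd_two_of_even (F := F) heven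
  have h2 : (2 : F) = 0 := by
    obtain ⟨r, hr⟩ := CharP.exists F
    obtain ⟨n, hrp, hn⟩ := FiniteField.card F r
    have h := ((Nat.prime_dvd_prime_iff_eq Nat.prime_two hrp).1
      (Nat.prime_two.dvd_of_dvd_pow (n := (n : ℕ)) (hn ▸ even_iff_two_dvd.1 heven)))
    subst h
    exact_mod_cast CharP.cast_eq_zero F 2
  have conv : ∀ x : Matrix.ProjectiveSpecialLinearGroup (Fin 2) F,
      Nat.card {y : Matrix.ProjectiveSpecialLinearGroup (Fin 2) F // Group.IsSolvable ↥(Subgroup.closure
        ({x, y} : Set (Matrix.ProjectiveSpecialLinearGroup (Fin 2) F)))} = (Moebius.solSet x).ncard := fun x =>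
    Nat.card_coe_set_eq (Moebius.solSet x)
  have hsq : x ≠ 1 → ∀ m, Odd m → orderOf x ∣ m → x * x ≠ 1 := by
    intro hx m hm hd e
    have h := orderOf_eq_prime (p := 2) (by rw [sq]; exact e) hx
    rw [h] at hd
    exact Nat.not_even_iff_odd.2 hm (even_iff_two_dvd.2 hd)
  rw [conv]
  refine ⟨fun hx => ?_, fun hx hdvd => ?_, fun hx hdvd => ?_⟩
  · rw [Moebius.card_solSet_involution_even h4 heven hx, hF]
  · rw [← hF] at hdvd ⊢
    have hxx := hsq hx _ (by obtain ⟨i, hi⟩ := heven; exact ⟨i - 1, by omega⟩) hdvd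
    have h := (Moebius.card_solSet_semisimple h4 hxx (fun h => absurd h2 h)).1 hdvd
    rw [hd, one_mul] at h
    rw [h, mul_assoc]
  · rw [← hF] at hdvd ⊢
    have hxx := hsq hx _ heven.add_one hdvd
    have h := (Moebius.card_solSet_semisimple h4 hxx (fun h => absurd h2 h)).2 hdvd
    rwa [hd, one_mul] at h
end Cfsg.Agent.S2257
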