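import Cfsg.Statements.S2258
import Cfsg.Agent.Lib.Geom.SolubilizerThree
-- import your own Cfsg.Agent.* helpers here

set_option autoImplicit false
open Cfsg CfsgLib.Geom

namespace Cfsg.Agent.S2258

/-- Let G = PSL_2(F) with F a field of order q = 3^p, p an odd prime, and for x ∈ G call the solubilizer of x the set of y ∈ G such that x and y generate a solvable subgroup. Then the solubilizer of an involution has q(q + 1) elements; that of an element of order 3 has q(q + 5)/2 elements; that of an element of order neither 1 nor 2 dividing q − 1 has q(q − 1) elements; and that of an element of order neither 1 nor 2 dividing q + 1 has q + 1 elements. -/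
theorem result (p : ℕ) (hp : p.Prime) (hodd : Odd p) {F : Type*} [Field F] [Fintype F]
    (hF : Fintype.card F = 3 ^ p) (x : Matrix.ProjectiveSpecialLinearGroup (Fin 2) F) :
    (orderOf x = 2 → Nat.card {y : Matrix.ProjectiveSpecialLinearGroup (Fin 2) F // Group.IsSolvable ↥(Subgroup.closure ({x, y} : Set (Matrix.ProjectiveSpecialLinearGroup (Fin 2) F)))} = 3 ^ p * (3 ^ p + 1)) ∧
    (orderOf x = 3 → 2 * Nat.card {y : Matrix.ProjectiveSpecialLinearGroup (Fin 2) F // Group.IsSolvable ↥(Subgroup.closure ({x, y} : Set (Matrix.ProjectiveSpecialLinearGroup (Fin 2) F)))} = 3 ^ p * (3 ^ p + 5)) ∧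
    (x ≠ 1 → orderOf x ≠ 2 → orderOf x ∣ 3 ^ p - 1 → Nat.card {y : Matrix.ProjectiveSpecialLinearGroup (Fin 2) F // Group.IsSolvable ↥(Subgroup.closure ({x, y} : Set (Matrix.ProjectiveSpecialLinearGroup (Fin 2) F)))} = 3 ^ p * (3 ^ p - 1)) ∧
    (x ≠ 1 → orderOf x ≠ 2 → orderOf x ∣ 3 ^ p + 1 → Nat.card {y : Matrix.ProjectiveSpecialLinearGroup (Fin 2) F // Group.IsSolvable ↥(Subgroup.closure ({x, y} : Set (Matrix.ProjectiveSpecialLinearGroup (Fin 2) F)))} = 3 ^ p + 1) := by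
  obtain ⟨m, hm⟩ := hodd
  have hp3 : 3 ≤ p := by have := hp.two_le; omega
  have h8 : 3 ^ p % 8 = 3 := by
    rw [hm, pow_succ, pow_mul, Nat.mul_mod, Nat.pow_mod]; norm_num
  have h4 : 4 ≤ Fintype.card F := by
    rw [hF]; exact le_trans (by norm_num) (Nat.pow_le_pow_right (by norm_num : 0 < 3) hp3)
  have h3 : (3 : F) = 0 := by
    have h := pow_eq_zero_iff (M₀ := F) (a := 3) (n := p) (by omega)
    refine h.1 ?_
    have e := FiniteField.cast_card_eq_zero F
    rw [hF] at e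
    exact_mod_cast e
  have hd : Nat.gcd 2 (Fintype.card F - 1) = 2 := Moebius.gcd_two_of_odd (Nat.odd_iff.2 (by rw [hF]; omega))
  have h24 : ¬ 24 ∣ Nat.card (Matrix.ProjectiveSpecialLinearGroup (Fin 2) F) := by
    intro h
    have h16 : 48 ∣ 2 * Nat.card (Matrix.ProjectiveSpecialLinearGroup (Fin 2) F) := Nat.mul_dvd_mul_left 2 h
    have hc := Moebius.card_psl_two_split (F := F)
    rw [hd] at hc
    rw [hc, hF] at h16
    obtain ⟨c, hc⟩ : ∃ c, 3 ^ p = 8 * c + 3 := ⟨3 ^ p / 8, by omega⟩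
    rw [hc, show (8 * c + 3 + 1) * ((8 * c + 3) * (8 * c + 3 - 1)) = 8 * ((2 * c + 1) * ((8 * c + 3) * (4 * c + 1))) by
      rw [show 8 * c + 3 - 1 = 2 * (4 * c + 1) by omega]; ring, show 48 = 8 * 6 by norm_num] at h16
    have h6 := Nat.dvd_of_mul_dvd_mul_left (by norm_num : 0 < 8) h16
    have hodd' : Odd ((2 * c + 1) * ((8 * c + 3) * (4 * c + 1))) :=
      (odd_two_mul_add_one c).mul ((Nat.odd_iff.2 (by omega)).mul (Nat.odd_iff.2 (by omega)))
    exact Nat.not_even_iff_odd.2 hodd' (even_iff_two_dvd.2 (dvd_trans (by norm_num) h6))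
  have hT : Moebius.Three F := ⟨h4, by rw [hF]; omega, h3, h24⟩
  have conv : ∀ x : Matrix.ProjectiveSpecialLinearGroup (Fin 2) F,
      Nat.card {y : Matrix.ProjectiveSpecialLinearGroup (Fin 2) F // Group.IsSolvable ↥(Subgroup.closure
        ({x, y} : Set (Matrix.ProjectiveSpecialLinearGroup (Fin 2) F)))} = (Moebius.solSet x).ncard := fun x =>
    Nat.card_coe_set_eq (Moebius.solSet x)
  have h3d : 3 ∣ 3 ^ p := dvd_pow_self 3 (by omega)
  have hxx : x ≠ 1 → orderOf x ≠ 2 → x * x ≠ 1 := fun h1 h2 e => h2 (orderOf_eq_prime (by rw [sq]; exact e) h1)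
  have hx3 : ∀ n : ℕ, x ≠ 1 → orderOf x ∣ n → ¬ 3 ∣ n → x ^ 3 ≠ 1 := fun n h1 hd h3 e =>
    h3 (orderOf_eq_prime (p := 3) e h1 ▸ hd)
  rw [conv]
  refine ⟨fun hx => ?_, fun hx => ?_, fun h1 h2 hdvd => ?_, fun h1 h2 hdvd => ?_⟩
  · rw [Moebius.card_solSet_involution_three hT hx, hF]
  · rw [Moebius.card_solSet_order_three hT hx, hF]
  · have h := (Moebius.card_solSet_semisimple h4 (hxx h1 h2) fun _ => ⟨h24, hx3 _ h1 hdvd (by omega)⟩).1 (hF ▸ hdvd)
    rw [hd, hF] at h
    omega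
  · have h := (Moebius.card_solSet_semisimple h4 (hxx h1 h2) fun _ => ⟨h24, hx3 _ h1 hdvd (by omega)⟩).2 (hF ▸ hdvd)
    rw [hd, hF] at h
    omega
end Cfsg.Agent.S2258
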