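import Cfsg.Statements.S2259
import Cfsg.Agent.Lib.Suzuki.Solubilizer
import Cfsg.Agent.Lib.Suzuki.Model

set_option autoImplicit false
open Cfsg

namespace Cfsg.Agent.S2259

/-- Let G be the Suzuki group Sz(q), q = 2^(2m+1) with 2m + 1 prime and m ≥ 1, realised inside Sp_4(F) for F the field of order q, write r = 2^(m+1) (so r² = 2q), and for x ∈ G call the solubilizer of x the set of y ∈ G such that x and y generate a solvable subgroup. Then the solubilizer of an involution has q²(4q − 3) elements; that of an element of order 4 has q²(q + 3) elements; that of a non-identity element of order dividing q − 1 has 2q²(q − 1) elements; that of a non-identity element of order dividing q + r + 1 has 4(q + r + 1) elements; and that of a non-identity element of order dividing q − r + 1 has 4(q − r + 1) elements. -/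
theorem result {F : Type*} [Field F] [Fintype F] {m : ℕ} (hm : 1 ≤ m)
    (hp : (2 * m + 1).Prime) (hF : Fintype.card F = 2 ^ (2 * m + 1)) (x : ↥(Cfsg.Lie.Sz F (2 ^ (m + 1)))) :
    (orderOf x = 2 → Nat.card {y : ↥(Cfsg.Lie.Sz F (2 ^ (m + 1))) // Group.IsSolvable ↥(Subgroup.closure ({x, y} : Set (↥(Cfsg.Lie.Sz F (2 ^ (m + 1))))))} = (2 ^ (2 * m + 1)) ^ 2 * (4 * 2 ^ (2 * m + 1) - 3)) ∧
    (orderOf x = 4 → Nat.card {y : ↥(Cfsg.Lie.Sz F (2 ^ (m + 1))) // Group.IsSolvable ↥(Subgroup.closure ({x, y} : Set (↥(Cfsg.Lie.Sz F (2 ^ (m + 1))))))} = (2 ^ (2 * m + 1)) ^ 2 * (2 ^ (2 * m + 1) + 3)) ∧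
    (x ≠ 1 → orderOf x ∣ 2 ^ (2 * m + 1) - 1 →
      Nat.card {y : ↥(Cfsg.Lie.Sz F (2 ^ (m + 1))) // Group.IsSolvable ↥(Subgroup.closure ({x, y} : Set (↥(Cfsg.Lie.Sz F (2 ^ (m + 1))))))} = 2 * (2 ^ (2 * m + 1)) ^ 2 * (2 ^ (2 * m + 1) - 1)) ∧
    (x ≠ 1 → orderOf x ∣ 2 ^ (2 * m + 1) + 2 ^ (m + 1) + 1 → Nat.card {y : ↥(Cfsg.Lie.Sz F (2 ^ (m + 1))) // Group.IsSolvable ↥(Subgroup.closure ({x, y} : Set (↥(Cfsg.Lie.Sz F (2 ^ (m + 1))))))} = 4 * (2 ^ (2 * m + 1) + 2 ^ (m + 1) + 1)) ∧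
    (x ≠ 1 → orderOf x ∣ 2 ^ (2 * m + 1) - 2 ^ (m + 1) + 1 → Nat.card {y : ↥(Cfsg.Lie.Sz F (2 ^ (m + 1))) // Group.IsSolvable ↥(Subgroup.closure ({x, y} : Set (↥(Cfsg.Lie.Sz F (2 ^ (m + 1))))))} = 4 * (2 ^ (2 * m + 1) - 2 ^ (m + 1) + 1)) := by
  haveI : CharP F 2 := charP_of_card_eq_prime_pow hF
  obtain ⟨x, rfl⟩ := (CfsgLib.Suzuki.szEquiv hm hF).surjective x
  have hcard : Nat.card {y : ↥(Cfsg.Lie.Sz F (2 ^ (m + 1))) //
      Group.IsSolvable ↥(Subgroup.closure ({CfsgLib.Suzuki.szEquiv hm hF x, y} : Set _))} =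
      (CfsgLib.Suzuki.solSet x).ncard := by
    rw [← CfsgLib.Suzuki.card_solSet_equiv (CfsgLib.Suzuki.szEquiv hm hF) x, ← Nat.card_coe_set_eq]
    rfl
  simp only [hcard, MulEquiv.orderOf_eq, ne_eq, EmbeddingLike.map_eq_one_iff]
  set h := CfsgLib.Suzuki.thSq_of_card hF
  set q := 2 ^ (2 * m + 1) with hq
  set r := 2 ^ (m + 1) with hr
  have hr4 : 4 ≤ r := by
    calc 4 = 2 ^ 2 := rfl
      _ ≤ _ := Nat.pow_le_pow_right (by norm_num) (by omega)
  have hrq : r ≤ q := Nat.pow_le_pow_right (by norm_num) (by omega)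
  have hprime : Fact (Nat.Prime 2) := ⟨Nat.prime_two⟩
  -- move into the standard unipotent group
  have hconj : (∃ e, orderOf x = 2 ^ e ∧ e ≠ 0) → ∃ c, c * x * c⁻¹ ∈ CfsgLib.Suzuki.uSub h := by
    rintro ⟨e, he, he0⟩
    refine (CfsgLib.Suzuki.two_or_cell hm hF x).resolve_right fun hc => hc.not_two_dvd_card hm hF ?_
    exact (he ▸ dvd_pow_self 2 he0).trans
      (Subgroup.orderOf_dvd_natCard _ (Subgroup.mem_centralizer_singleton_iff.2 rfl))
  have horder : ∀ c : ↥(Cfsg.Sz F m), orderOf (c * x * c⁻¹) = orderOf x := fun c =>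
    MulEquiv.orderOf_eq (MulAut.conj c) x
  have hsol : ∀ c : ↥(Cfsg.Sz F m),
      (CfsgLib.Suzuki.solSet (c * x * c⁻¹)).ncard = (CfsgLib.Suzuki.solSet x).ncard := fun c =>
    CfsgLib.Suzuki.card_solSet_equiv (MulAut.conj c) x
  obtain ⟨A₁, hA₁, hA₁k⟩ := CfsgLib.Suzuki.exists_torus_of_card hm hF (k := q + r + 1) (Or.inl rfl)
  obtain ⟨A₂, hA₂, hA₂k⟩ := CfsgLib.Suzuki.exists_torus_of_card hm hF (k := q - r + 1) (Or.inr rfl)
  refine ⟨fun h2 => ?_, fun h4 => ?_, fun h1 hd => ?_, fun h1 hd => ?_, fun h1 hd => ?_⟩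
  · obtain ⟨c, hc⟩ := hconj ⟨1, by rw [h2, pow_one], one_ne_zero⟩
    have hy1 : c * x * c⁻¹ ≠ 1 := fun e => by
      rw [← horder c, e, orderOf_one] at h2; exact absurd h2 (by norm_num)
    have hz : c * x * c⁻¹ ∈ CfsgLib.Suzuki.zSub h := CfsgLib.Suzuki.mem_zSub_of_sq hc (by
      rw [← sq, ← h2, ← horder c]; exact pow_orderOf_eq_one _)
    have hH : CfsgLib.Suzuki.IsCell h (CfsgLib.Suzuki.hSub h) :=
      Or.inl ⟨1, by rw [map_one]; exact (Subgroup.map_id _).symm⟩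
    have n0 := CfsgLib.Suzuki.ncard_cellsThrough hm hF hH hz hy1
    rw [CfsgLib.Suzuki.card_normalizer_hSub hm hF, CfsgLib.Suzuki.card_hSub, hF] at n0
    have n1 := CfsgLib.Suzuki.ncard_cellsThrough hm hF (Or.inr hA₁) hz hy1
    rw [(hA₁.card_mem hm hF).2, hA₁k, hF] at n1
    have n2 := CfsgLib.Suzuki.ncard_cellsThrough hm hF (Or.inr hA₂) hz hy1
    rw [(hA₂.card_mem hm hF).2, hA₂k, hF] at n2
    have main := CfsgLib.Suzuki.card_solSet_uSub hm hF (CfsgLib.Suzuki.zSub_le _ hz) hy1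
    rw [hsol, hF] at main
    have a0 : 2 * (CfsgLib.Suzuki.cellsThrough h (c * x * c⁻¹) (q - 1)).ncard = q ^ 2 :=
      Nat.eq_of_mul_eq_mul_left (show 0 < q - 1 by omega) (by rw [← n0]; ring)
    have a1 : 4 * (CfsgLib.Suzuki.cellsThrough h (c * x * c⁻¹) (q + r + 1)).ncard = q ^ 2 :=
      Nat.eq_of_mul_eq_mul_left (show 0 < q + r + 1 by omega) (by rw [← n1]; ring)
    have a2 : 4 * (CfsgLib.Suzuki.cellsThrough h (c * x * c⁻¹) (q - r + 1)).ncard = q ^ 2 :=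
      Nat.eq_of_mul_eq_mul_left (show 0 < q - r + 1 by omega) (by rw [← n2]; ring)
    have hr' : (r : ℤ) = 2 ^ (m + 1) := by rw [hr]; norm_num
    rw [← hr'] at main
    zify [show 3 ≤ 4 * q by omega] at a0 a1 a2 ⊢
    linear_combination main + ((q : ℤ) - 2) * a0 + ((q : ℤ) + r) * a1 + ((q : ℤ) - r) * a2
  · obtain ⟨c, hc⟩ := hconj ⟨2, by rw [h4]; rfl, two_ne_zero⟩
    have hy2 : c * x * c⁻¹ * (c * x * c⁻¹) ≠ 1 := fun e => by
      have := orderOf_dvd_of_pow_eq_one (x := c * x * c⁻¹) (n := 2) (by rw [sq]; exact e)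
      rw [horder, h4] at this; norm_num at this
    have hy1 : c * x * c⁻¹ ≠ 1 := fun e => hy2 (by rw [e, one_mul])
    have n0 : (CfsgLib.Suzuki.cellsThrough h (c * x * c⁻¹) (q - 1)).ncard = 0 := by
      rw [Set.ncard_eq_zero]
      refine Set.eq_empty_of_forall_notMem ?_
      rintro A ⟨hA, hk, hxA⟩
      obtain ⟨-, hD⟩ := CfsgLib.Suzuki.normalizer_inf_bSub hm hF hA hc hy1 hxA
      obtain ⟨d, -, hdH, hcd⟩ := hA.normalizer_card hm hF
      rw [hcd, hdH (CfsgLib.Suzuki.isHConj_of_card hm hF hA (by rw [hk, hF]))] at hD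
      have h2 := Nat.eq_of_mul_eq_mul_right Nat.card_pos hD
      have h5 : orderOf (c * x * c⁻¹) ∣ 2 := h2.symm ▸ Subgroup.orderOf_dvd_natCard _
        (Subgroup.mem_inf.2 ⟨hxA, CfsgLib.Suzuki.uSub_le_bSub h hc⟩)
      rw [horder, h4] at h5
      norm_num at h5
    have a1 := CfsgLib.Suzuki.ncard_cellsThrough_four hm hF hA₁ hc hy2
    rw [hA₁k, hF] at a1
    have a2 := CfsgLib.Suzuki.ncard_cellsThrough_four hm hF hA₂ hc hy2
    rw [hA₂k, hF] at a2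
    have main := CfsgLib.Suzuki.card_solSet_uSub hm hF hc hy1
    rw [hsol, hF] at main
    have hr' : (r : ℤ) = 2 ^ (m + 1) := by rw [hr]; norm_num
    rw [← hr', n0] at main
    zify at a1 a2 ⊢
    push_cast at main
    linear_combination main + 2 * ((q : ℤ) + r) * a1 + 2 * ((q : ℤ) - r) * a2
  · rw [CfsgLib.Suzuki.card_solSet_split hm hF h1 (by rw [hF]; exact hd), hF]
  · exact CfsgLib.Suzuki.card_solSet_torus hm hF (Or.inl rfl) h1 hd
  · exact CfsgLib.Suzuki.card_solSet_torus hm hF (Or.inr rfl) h1 hd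

end Cfsg.Agent.S2259
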