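import Cfsg.Statements.S2260
import Mathlib.Tactic
import Mathlib.Algebra.CharP.Lemmas
import Mathlib.LinearAlgebra.Matrix.Charpoly.Coeff

set_option autoImplicit false
open Cfsg

namespace Cfsg.Agent.S2260

theorem nilpotent_pow_card {F : Type*} [Field F] (d : ℕ) (N : Matrix (Fin d) (Fin d) F)
    (hN : IsNilpotent N) : N ^ d = 0 := by
  have h := Matrix.isNilpotent_charpoly_sub_pow_of_isNilpotent hN
  have h' : N.charpoly = Polynomial.X ^ d := by
    have := h.eq_zero
    rw [Fintype.card_fin] at this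
    exact sub_eq_zero.mp this
  have hc := Matrix.aeval_self_charpoly N
  rw [h'] at hc
  simpa using hc

/-- Let F be a finite field of prime characteristic p and u an invertible d × d matrix over F with u − 1 nilpotent (a unipotent element). Then the order of u is at most p^⌈log_p d⌉; and if moreover (u − 1)^(d−1) ≠ 0 (u is a single Jordan block) then the order of u is exactly p^⌈log_p d⌉. -/
theorem result {F : Type*} [Field F] [Finite F] (p : ℕ) [Fact p.Prime] [CharP F p] (d : ℕ)
    (u : GL (Fin d) F) (hu : IsNilpotent ((u : Matrix (Fin d) (Fin d) F) - 1)) :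
    orderOf u ≤ p ^ Nat.clog p d ∧
    (((u : Matrix (Fin d) (Fin d) F) - 1) ^ (d - 1) ≠ 0 → orderOf u = p ^ Nat.clog p d) := by
  have hp : p.Prime := Fact.out
  rcases Nat.eq_zero_or_pos d with rfl | hd
  · have hu1 : u = 1 := Units.ext (Subsingleton.elim _ _)
    subst hu1
    simp
  haveI : Nonempty (Fin d) := ⟨⟨0, hd⟩⟩
  set N : Matrix (Fin d) (Fin d) F := (u : Matrix (Fin d) (Fin d) F) - 1 with hN
  have hNd : N ^ d = 0 := nilpotent_pow_card d N hu
  have key : ∀ k : ℕ, u ^ p ^ k = 1 ↔ N ^ p ^ k = 0 := by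
    intro k
    have : N ^ p ^ k = (u : Matrix (Fin d) (Fin d) F) ^ p ^ k - 1 := by
      rw [hN, sub_pow_char_pow_of_commute p k (Commute.one_right _), one_pow]
    rw [this, sub_eq_zero, ← Units.val_pow_eq_pow_val, Units.val_eq_one]
  have hk : u ^ p ^ Nat.clog p d = 1 :=
    (key _).mpr (pow_eq_zero_of_le (Nat.le_pow_clog hp.one_lt d) hNd)
  have hdvd : orderOf u ∣ p ^ Nat.clog p d := orderOf_dvd_of_pow_eq_one hk
  refine ⟨Nat.le_of_dvd (pow_pos hp.pos _) hdvd, fun hne => ?_⟩
  obtain ⟨j, hjk, hj⟩ := (Nat.dvd_prime_pow hp).mp hdvd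
  have hz : N ^ p ^ j = 0 := (key j).mp (by rw [← hj]; exact pow_orderOf_eq_one u)
  have hle : d ≤ p ^ j := by
    by_contra hlt
    push Not at hlt
    exact hne (pow_eq_zero_of_le (by omega) hz)
  have : Nat.clog p d ≤ j := Nat.clog_le_of_le_pow hle
  rw [hj]
  congr 1
  omega

end Cfsg.Agent.S2260
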