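import Cfsg.Statements.S2261
import Mathlib

set_option autoImplicit false
open Cfsg

namespace Cfsg.Agent.S2261

open Polynomial in
/-- The polynomials in a matrix have at most `d` coordinates. -/
theorem exists_coeffs {F : Type*} [Field F] {d : ℕ} (M : Matrix (Fin d) (Fin d) F) (f : F[X]) :
    ∃ v : Fin d → F, (∑ i, v i • M ^ (i : ℕ)) = Polynomial.aeval M f := by
  rcases Nat.eq_zero_or_pos d with rfl | hd
  · exact ⟨0, Subsingleton.elim _ _⟩
  set g := f %ₘ M.charpoly with hg
  have haev : Polynomial.aeval M g = Polynomial.aeval M f := by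
    rw [hg, Polynomial.aeval_modByMonic_eq_self_of_root]
    exact Matrix.aeval_self_charpoly M
  have hdeg : g.natDegree < d := by
    have hn : M.charpoly.natDegree = d := by
      rw [Matrix.charpoly_natDegree_eq_dim, Fintype.card_fin]
    have := Polynomial.natDegree_modByMonic_lt f (Matrix.charpoly_monic M)
      (fun h => by rw [h] at hn; simp at hn; omega)
    rwa [hn] at this
  refine ⟨fun i => g.coeff i, ?_⟩
  rw [← haev, Polynomial.aeval_eq_sum_range' hdeg, Fin.sum_univ_eq_sum_range
    (fun i => g.coeff i • M ^ i)]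

/-- The order of an element of `PGL_d`. -/
theorem upper {F : Type*} [Field F] [Fintype F] {d : ℕ} (hd : 1 ≤ d)
    (g : GL (Fin d) F ⧸ Subgroup.center (GL (Fin d) F)) :
    (Fintype.card F - 1) * orderOf g ≤ Fintype.card F ^ d - 1 := by
  classical
  induction g using QuotientGroup.induction_on with
  | H a =>
    have : Nonempty (Fin d) := ⟨⟨0, hd⟩⟩
    set M : Matrix (Fin d) (Fin d) F := (a : Matrix (Fin d) (Fin d) F) with hM
    set N := orderOf (QuotientGroup.mk' (Subgroup.center (GL (Fin d) F)) a) with hN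
    choose v hv using fun p : Fin N × Fˣ =>
      exists_coeffs M (Polynomial.C (p.2 : F) * Polynomial.X ^ (p.1 : ℕ))
    have hval : ∀ p : Fin N × Fˣ, ∑ i, v p i • M ^ (i : ℕ) = (p.2 : F) • M ^ (p.1 : ℕ) := fun p => by
      rw [hv, map_mul, Polynomial.aeval_C, map_pow, Polynomial.aeval_X, Algebra.smul_def]
    have hinj : Function.Injective v := by
      intro p p' h
      have h' : (p.2 : F) • M ^ (p.1 : ℕ) = (p'.2 : F) • M ^ (p'.1 : ℕ) := by
        rw [← hval, ← hval, h]
      have hz : (a ^ (p.1 : ℕ))⁻¹ * a ^ (p'.1 : ℕ) ∈ Subgroup.center (GL (Fin d) F) := by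
        rw [Matrix.GeneralLinearGroup.mem_center_iff_val_mem_range_scalar]
        refine ⟨(p'.2 : F)⁻¹ * p.2, ?_⟩
        have e : M ^ (p'.1 : ℕ) = ((p'.2 : F)⁻¹ * p.2) • M ^ (p.1 : ℕ) := by
          rw [mul_smul, h', inv_smul_smul₀ p'.2.ne_zero]
        rw [Units.val_mul, Units.val_pow_eq_pow_val a (p'.1 : ℕ), ← hM, e, Matrix.mul_smul, hM,
          ← Units.val_pow_eq_pow_val, Units.inv_mul, Matrix.smul_one_eq_diagonal]
        rfl
      have h1 : p.1 = p'.1 := by
        apply Fin.ext
        have hq : (QuotientGroup.mk' (Subgroup.center (GL (Fin d) F))) a ^ (p.1 : ℕ) =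
            (QuotientGroup.mk' (Subgroup.center (GL (Fin d) F))) a ^ (p'.1 : ℕ) := by
          rw [← map_pow, ← map_pow]; exact (QuotientGroup.eq).mpr hz
        have := pow_inj_mod.mp hq
        rwa [Nat.mod_eq_of_lt p.1.2, Nat.mod_eq_of_lt p'.1.2] at this
      refine Prod.ext h1 (Units.ext ?_)
      rw [← h1] at h'
      refine smul_left_injective F ?_ h'
      rw [hM, ← Units.val_pow_eq_pow_val]
      exact (a ^ (p.1 : ℕ)).ne_zero
    have hne : ∀ p, v p ≠ 0 := fun p h0 => by
      have h := hval p
      rw [h0] at h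
      simp only [Pi.zero_apply, zero_smul, Finset.sum_const_zero] at h
      refine (a ^ (p.1 : ℕ)).ne_zero ?_
      rw [Units.val_pow_eq_pow_val, ← hM]
      exact (smul_eq_zero.mp h.symm).resolve_left p.2.ne_zero
    have := Fintype.card_le_of_injective
      (fun p => (⟨v p, hne p⟩ : {w : Fin d → F // w ≠ 0}))
      (fun p p' h => hinj (congrArg Subtype.val h))
    rw [Fintype.card_prod, Fintype.card_fin, Fintype.card_units, Fintype.card_subtype_compl,
      Fintype.card_fun, Fintype.card_fin, Fintype.card_subtype_eq] at this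
    rw [mul_comm]
    exact this

/-- The Singer cycle. -/
theorem singer {F : Type*} [Field F] [Fintype F] {d : ℕ} (hd : 1 ≤ d) :
    ∃ g : GL (Fin d) F ⧸ Subgroup.center (GL (Fin d) F),
      (Fintype.card F - 1) * orderOf g = Fintype.card F ^ d - 1 := by
  classical
  obtain ⟨p, hp⟩ := CharP.exists F
  have : Fact p.Prime := ⟨CharP.char_is_prime F p⟩
  have : NeZero d := ⟨by omega⟩
  let K := FiniteField.Extension F p d
  let b : Module.Basis (Fin d) F K :=
    Module.finBasisOfFinrankEq F K (FiniteField.finrank_extension F p d)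
  let φ : Kˣ →* GL (Fin d) F := Units.map (Algebra.leftMulMatrix b).toRingHom.toMonoidHom
  let ψ := (QuotientGroup.mk' (Subgroup.center (GL (Fin d) F))).comp φ
  obtain ⟨z, hz⟩ := IsCyclic.exists_generator (α := Kˣ)
  refine ⟨ψ z, ?_⟩
  have hker : ψ.ker = (Units.map (algebraMap F K).toMonoidHom).range := by
    ext x
    rw [MonoidHom.mem_ker, MonoidHom.mem_range]
    show QuotientGroup.mk' _ (φ x) = 1 ↔ _
    rw [QuotientGroup.mk'_apply, QuotientGroup.eq_one_iff,
      Matrix.GeneralLinearGroup.mem_center_iff_val_mem_range_scalar]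
    have hsc : ∀ c : F, Matrix.scalar (Fin d) c = Algebra.leftMulMatrix b (algebraMap F K c) :=
      fun c => by rw [AlgHom.commutes]; rfl
    constructor
    · rintro ⟨c, hc⟩
      rw [hsc] at hc
      have hcx : algebraMap F K c = (x : K) := Algebra.leftMulMatrix_injective b hc
      refine ⟨Units.mk0 c fun h => x.ne_zero ?_, Units.ext hcx⟩
      rw [← hcx, h, map_zero]
    · rintro ⟨c, rfl⟩
      exact ⟨c, hsc c⟩
  have hrange : ψ.range = Subgroup.zpowers (ψ z) := by
    rw [← MonoidHom.map_zpowers, (Subgroup.eq_top_iff' _).mpr hz, MonoidHom.range_eq_map]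
  have hc := ψ.ker.card_mul_index
  rw [Subgroup.index_ker, hrange, Nat.card_zpowers, hker,
    ← Nat.card_congr (MonoidHom.ofInjective (f := Units.map (algebraMap F K).toMonoidHom)
      (Units.map_injective (algebraMap F K).injective)).toEquiv, Nat.card_units, Nat.card_units,
    FiniteField.natCard_extension, Nat.card_eq_fintype_card] at hc
  exact hc

/-- Let F be a finite field with q elements and d ≥ 1. Then every element of PGL_d(F) = GL_d(F)/Z has order at most (q^d − 1)/(q − 1), and some element (the image of a Singer cycle) has exactly this order. -/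
theorem result {F : Type*} [Field F] [Fintype F] (d : ℕ) (hd : 1 ≤ d) :
    (∀ g : (GL (Fin d) F ⧸ Subgroup.center (GL (Fin d) F)), (Fintype.card F - 1) * orderOf g ≤ Fintype.card F ^ d - 1) ∧
    (∃ g : (GL (Fin d) F ⧸ Subgroup.center (GL (Fin d) F)), (Fintype.card F - 1) * orderOf g = Fintype.card F ^ d - 1) := by
  exact ⟨upper hd, singer hd⟩

end Cfsg.Agent.S2261
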