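import Cfsg.Statements.S2262
import Cfsg.Agent.S2261
import Cfsg.Agent.Lib.KnownA.RecipOrder.AutPSLMain

set_option autoImplicit false
open Cfsg

namespace Cfsg.Agent.S2262

/-- Let F be a finite field with q elements and d ≥ 2, with q ≥ 4 when d = 2, and (d, q) ∉ {(2, 4), (3, 2)}. Then every automorphism of the simple group PSL_d(F) has order at most (q^d − 1)/(q − 1) as an element of the automorphism group, and some automorphism has exactly this order. -/
theorem result {F : Type*} [Field F] [Fintype F] (d : ℕ) (hd : 2 ≤ d)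
    (h2 : d = 2 → 4 ≤ Fintype.card F) (h24 : ¬ (d = 2 ∧ Fintype.card F = 4)) (h32 : ¬ (d = 3 ∧ Fintype.card F = 2)) :
    (∀ φ : MulAut (Matrix.ProjectiveSpecialLinearGroup (Fin d) F),
      (Fintype.card F - 1) * orderOf φ ≤ Fintype.card F ^ d - 1) ∧
    (∃ φ : MulAut (Matrix.ProjectiveSpecialLinearGroup (Fin d) F),
      (Fintype.card F - 1) * orderOf φ = Fintype.card F ^ d - 1) := by
  classical
  have hq1 : 1 ≤ Fintype.card F := Fintype.card_pos
  refine ⟨fun φ => ?_, ?_⟩
  · have hle : orderOf φ ≤ CfsgLib.KnownA.RecipOrder.geomS (Fintype.card F) d := by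
      rcases CfsgLib.KnownC.mulAut_psl_cases hd φ with ⟨g, σ, rfl⟩ | ⟨h3, g, σ, rfl⟩
      · refine CfsgLib.KnownA.RecipOrder.orderOf_semiAut_le hd (fun h => ?_) g σ
        have := h2 h
        have : Fintype.card F ≠ 4 := fun h4 => h24 ⟨h, h4⟩
        omega
      · exact CfsgLib.KnownA.RecipOrder.orderOf_graph_le h3 h32 g σ
    have h := CfsgLib.KnownA.RecipOrder.geomS_mul hq1 d
    have := Nat.mul_le_mul_left (Fintype.card F - 1) hle
    rw [Nat.mul_comm (CfsgLib.KnownA.RecipOrder.geomS _ _)] at h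
    omega
  · obtain ⟨g, hg⟩ := Cfsg.Agent.S2261.singer (F := F) (d := d) (by omega)
    obtain ⟨a, rfl⟩ := QuotientGroup.mk_surjective g
    exact ⟨CfsgLib.KnownC.inndiagHom a, by
      rw [CfsgLib.KnownA.RecipOrder.orderOf_inndiag_eq hd a]; exact hg⟩

end Cfsg.Agent.S2262
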