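import Cfsg.Statements.S2263
import Cfsg.Agent.Lib.ClassK.PGUOrderWitness

set_option autoImplicit false
open Cfsg

namespace Cfsg.Agent.S2263

/-- Let q = p^f with p prime and f ≥ 1, F a field with q² elements, d ≥ 3 with (d, q) ≠ (3, 2), and PGU_d(q) the general unitary group of the standard Hermitian form modulo its centre. Then the largest order of an element of PGU_d(q) is: q^(d−1) − 1 if d is odd and f ≥ 2; (p^(d−2) + 1)p if d is odd and f = 1; q^(d−1) + 1 if d is even and q > 2; 4(2^(d−3) + 1) if d is even and q = 2. -/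
theorem result {F : Type*} [Field F] [Fintype F] (p f d : ℕ) (hp : p.Prime) (hf : 1 ≤ f) (q : ℕ) (hq : q = p ^ f)
    (hF : Fintype.card F = q ^ 2) (hd : 3 ≤ d) (h32 : ¬ (d = 3 ∧ q = 2)) :
    (Odd d → 2 ≤ f → (∀ g : (↥(Cfsg.GU d F q) ⧸ Subgroup.center ↥(Cfsg.GU d F q)), orderOf g ≤ q ^ (d - 1) - 1) ∧ ∃ g : (↥(Cfsg.GU d F q) ⧸ Subgroup.center ↥(Cfsg.GU d F q)), orderOf g = q ^ (d - 1) - 1) ∧
    (Odd d → f = 1 → (∀ g : (↥(Cfsg.GU d F q) ⧸ Subgroup.center ↥(Cfsg.GU d F q)), orderOf g ≤ (p ^ (d - 2) + 1) * p) ∧ ∃ g : (↥(Cfsg.GU d F q) ⧸ Subgroup.center ↥(Cfsg.GU d F q)), orderOf g = (p ^ (d - 2) + 1) * p) ∧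
    (Even d → 2 < q → (∀ g : (↥(Cfsg.GU d F q) ⧸ Subgroup.center ↥(Cfsg.GU d F q)), orderOf g ≤ q ^ (d - 1) + 1) ∧ ∃ g : (↥(Cfsg.GU d F q) ⧸ Subgroup.center ↥(Cfsg.GU d F q)), orderOf g = q ^ (d - 1) + 1) ∧
    (Even d → q = 2 → (∀ g : (↥(Cfsg.GU d F q) ⧸ Subgroup.center ↥(Cfsg.GU d F q)), orderOf g ≤ 4 * (2 ^ (d - 3) + 1)) ∧ ∃ g : (↥(Cfsg.GU d F q) ⧸ Subgroup.center ↥(Cfsg.GU d F q)), orderOf g = 4 * (2 ^ (d - 3) + 1)) := by
  classical
  haveI : Fact p.Prime := ⟨hp⟩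
  haveI : CharP F p := by
    obtain ⟨p', hp'⟩ := CharP.exists F
    obtain ⟨n, hpr, hn⟩ := FiniteField.card F p'
    have hd : p ∣ p' ^ (n : ℕ) := by
      rw [← hn, hF, hq, ← pow_mul]; exact dvd_pow_self p (by omega)
    rw [(Nat.prime_dvd_prime_iff_eq hp hpr).1 (hp.dvd_of_dvd_pow hd)]
    exact hp'
  have hq2 : 2 ≤ q := CfsgLib.ClassK.PGUOrder.two_le_q hF
  have hpos : 1 ≤ q ^ (d - 1) := Nat.one_le_pow _ _ (by omega)
  have hup : ∀ B : ℕ,
      (Odd d → 2 ≤ f → q ^ (d - 1) - 1 ≤ B) → (Odd d → f = 1 → (p ^ (d - 2) + 1) * p ≤ B) →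
      (Even d → 2 < q → q ^ (d - 1) + 1 ≤ B) → (Even d → q = 2 → 4 * (2 ^ (d - 3) + 1) ≤ B) →
      ∀ g : (↥(Cfsg.GU d F q) ⧸ Subgroup.center ↥(Cfsg.GU d F q)), orderOf g ≤ B :=
    fun B h1 h2 h3 h4 g =>
      CfsgLib.ClassK.PGUOrder.exists_exponent_le hF hd hf hq h1 h2 h3 h4 g
  have fin : ∀ B : ℕ,
      (∀ g : (↥(Cfsg.GU d F q) ⧸ Subgroup.center ↥(Cfsg.GU d F q)), orderOf g ≤ B) →
      (∃ g : (↥(Cfsg.GU d F q) ⧸ Subgroup.center ↥(Cfsg.GU d F q)), B ∣ orderOf g) →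
      (∀ g : (↥(Cfsg.GU d F q) ⧸ Subgroup.center ↥(Cfsg.GU d F q)), orderOf g ≤ B) ∧
        ∃ g : (↥(Cfsg.GU d F q) ⧸ Subgroup.center ↥(Cfsg.GU d F q)), orderOf g = B := by
    rintro B hle ⟨g, hg⟩
    exact ⟨hle, g, le_antisymm (hle g) (Nat.le_of_dvd (orderOf_pos g) hg)⟩
  refine ⟨fun ho h2f => fin _ ?_ ?_, fun ho hf1 => fin _ ?_ ?_, fun he h2q => fin _ ?_ ?_,
    fun he hq2' => fin _ ?_ ?_⟩
  · exact hup _ (fun _ _ => le_rfl) (fun _ h => by omega)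
      (fun h => absurd h (Nat.not_even_iff_odd.2 ho)) (fun h => absurd h (Nat.not_even_iff_odd.2 ho))
  · obtain ⟨j, hj⟩ := ho
    haveI : NeZero j := ⟨by omega⟩
    obtain ⟨T, hT, hTN⟩ := CfsgLib.ClassK.PGUOrder.exists_torus_even hF (p := p) (j := j)
    obtain ⟨g, hg⟩ := CfsgLib.ClassK.PGUOrder.exists_block hF (p := p) (N := q ^ (2 * j) - 1) (s := 0)
      (show 2 * j + 1 = d by omega) (by omega) le_rfl hT hTN (U := 1) (one_mem _)
      (by rw [orderOf_one, pow_zero]) (by rw [pow_zero]; exact Nat.coprime_one_right _)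
    exact ⟨g, by rw [show d - 1 = 2 * j by omega]; simpa using hg⟩
  · exact hup _ (fun _ h => by omega) (fun _ _ => le_rfl)
      (fun h => absurd h (Nat.not_even_iff_odd.2 ho)) (fun h => absurd h (Nat.not_even_iff_odd.2 ho))
  · subst hf1
    rw [pow_one] at hq
    obtain ⟨T, hT, hTN⟩ := CfsgLib.ClassK.PGUOrder.exists_torus_odd hF (p := p) (f := 1)
      (by rw [pow_one]; exact hq) (k := d - 2)
      (by obtain ⟨j, hj⟩ := ho; exact ⟨j - 1, by omega⟩)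
    obtain ⟨U, hU, hUo, -⟩ :=
      CfsgLib.KnownC.UnitarySpectrum.exists_gu_unipotent hF (p := p) (m := 2) le_rfl
    have hcl : Nat.clog p 2 = 1 := Nat.clog_eq_one le_rfl hp.two_le
    rw [hcl] at hUo
    obtain ⟨g, hg⟩ := CfsgLib.ClassK.PGUOrder.exists_block hF (p := p) (N := q ^ (d - 2) + 1) (s := 1)
      (show d - 2 + 2 = d by omega) (by omega) (by omega) hT hTN hU hUo
      (by
        rw [pow_one, Nat.coprime_comm, hp.coprime_iff_not_dvd]
        intro h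
        have h1 : p ∣ q ^ (d - 2) := by rw [hq]; exact dvd_pow_self p (by omega)
        exact hp.ne_one (Nat.dvd_one.1 ((Nat.dvd_add_right h1).1 h)))
    exact ⟨g, by rw [pow_one] at hg; rw [← hq] at hg ⊢; exact hg⟩
  · exact hup _ (fun h => absurd he (Nat.not_even_iff_odd.2 h))
      (fun h => absurd he (Nat.not_even_iff_odd.2 h)) (fun _ _ => le_rfl) (fun _ h => by omega)
  · obtain ⟨T, hT, hTN⟩ := CfsgLib.ClassK.PGUOrder.exists_torus_odd hF (p := p) hq (k := d - 1)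
      (by obtain ⟨j, hj⟩ := he; exact ⟨j - 1, by omega⟩)
    obtain ⟨g, hg⟩ := CfsgLib.ClassK.PGUOrder.exists_block hF (p := p) (N := q ^ (d - 1) + 1) (s := 0)
      (show d - 1 + 1 = d by omega) (by omega) le_rfl hT hTN (U := 1) (one_mem _)
      (by rw [orderOf_one, pow_zero]) (by rw [pow_zero]; exact Nat.coprime_one_right _)
    exact ⟨g, by simpa using hg⟩
  · exact hup _ (fun h => absurd he (Nat.not_even_iff_odd.2 h))
      (fun h => absurd he (Nat.not_even_iff_odd.2 h)) (fun _ h => by omega) (fun _ _ => le_rfl)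
  · subst hq2'
    have hp2 : p = 2 := (Nat.prime_dvd_prime_iff_eq hp Nat.prime_two).1 (hq ▸ dvd_pow_self p (by omega))
    subst hp2
    obtain ⟨T, hT, hTN⟩ := CfsgLib.ClassK.PGUOrder.exists_torus_odd hF (p := 2) hq (k := d - 3)
      (by obtain ⟨j, hj⟩ := he; exact ⟨j - 2, by omega⟩)
    obtain ⟨U, hU, hUo, -⟩ :=
      CfsgLib.KnownC.UnitarySpectrum.exists_gu_unipotent hF (p := 2) (m := 3) (by norm_num)
    have hcl : Nat.clog 2 3 = 2 := by
      apply le_antisymm (Nat.clog_le_of_le_pow (by norm_num))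
      by_contra h
      have := Nat.le_pow_clog (b := 2) (by norm_num) 3
      have := Nat.pow_le_pow_right (show 2 > 0 by norm_num) (show Nat.clog 2 3 ≤ 1 by omega)
      omega
    rw [hcl] at hUo
    have hd4 : 4 ≤ d := by obtain ⟨j, hj⟩ := he; omega
    obtain ⟨g, hg⟩ := CfsgLib.ClassK.PGUOrder.exists_block hF (p := 2) (N := 2 ^ (d - 3) + 1) (s := 2)
      (show d - 3 + 3 = d by omega) (by omega) (by omega) hT hTN hU hUo
      (by
        refine Nat.Coprime.pow_right _ ?_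
        rw [Nat.coprime_comm, Nat.prime_two.coprime_iff_not_dvd]
        intro h
        have h1 : 2 ∣ 2 ^ (d - 3) := dvd_pow_self 2 (by omega)
        omega)
    exact ⟨g, by rw [mul_comm]; exact hg⟩

end Cfsg.Agent.S2263
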