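import Cfsg.Statements.S2264
import Cfsg.Agent.Lib.KnownA.RecipOrder.Bound

set_option autoImplicit false
open Cfsg

namespace Cfsg.Agent.S2264

/-- Let F be a finite field with q elements and m ≥ 2. Then every element g of PSp_2m(F) satisfies (q − 1)·|g| ≤ q^(m+1), i.e. has order at most q^(m+1)/(q − 1). -/
theorem result {F : Type*} [Field F] [Fintype F] (m : ℕ) (hm : 2 ≤ m) (g : Cfsg.PSp m F) :
    (Fintype.card F - 1) * orderOf g ≤ Fintype.card F ^ (m + 1) := by
  classical
  obtain ⟨p, hpc⟩ := CharP.exists F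
  haveI := hpc
  haveI : Fact p.Prime := ⟨CharP.char_is_prime F p⟩
  obtain ⟨A, rfl⟩ := QuotientGroup.mk'_surjective _ g
  obtain ⟨E, c, hE, hc, hAE, hle⟩ := CfsgLib.KnownA.RecipOrder.exists_small_exponent (p := p) (m := m)
    (Or.inl (by simp [two_mul])) A.1 (Or.inl (CfsgLib.Classical.SemiSympExists.charpoly_symp A))
    (SymplecticGroup.det_eq_one A.2)
  refine le_trans (Nat.mul_le_mul le_rfl (Nat.le_of_dvd hE ?_)) hle
  refine orderOf_dvd_of_pow_eq_one ?_
  rw [← map_pow]
  exact CfsgLib.KnownC.SympSpectrum.mk_eq_one_of_smul (A ^ E) c (by rw [SubmonoidClass.coe_pow, hAE])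


end Cfsg.Agent.S2264
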