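import Cfsg.Statements.S2265
import Cfsg.Agent.Lib.KnownA.RecipOrder.OrthBound

set_option autoImplicit false
open Cfsg

namespace Cfsg.Agent.S2265

/-- Let F be a finite field with q elements. Every element g of PΩ_(2m+1)(F) (m ≥ 3, q odd), of PΩ⁺_2m(F) (m ≥ 4), or of PΩ⁻_2m(F) (m ≥ 4, the form having an anisotropic binary part) satisfies (q − 1)·|g| ≤ q^(m+1), i.e. has order at most q^(m+1)/(q − 1). -/
theorem result {F : Type*} [Field F] [Fintype F] (m : ℕ) :
    (3 ≤ m → Odd (Fintype.card F) → ∀ g : Cfsg.POmega F (Cfsg.quadFormOdd m F),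
      (Fintype.card F - 1) * orderOf g ≤ Fintype.card F ^ (m + 1)) ∧
    (4 ≤ m → ∀ g : Cfsg.POmega F (Cfsg.quadFormPlus m F),
      (Fintype.card F - 1) * orderOf g ≤ Fintype.card F ^ (m + 1)) ∧
    (4 ≤ m → ∀ a b : F, (∀ z₁ z₂ : F, z₁ ^ 2 + a * z₁ * z₂ + b * z₂ ^ 2 = 0 → z₁ = 0 ∧ z₂ = 0) →
      ∀ g : Cfsg.POmega F (Cfsg.quadFormMinus (m - 1) F a b),
      (Fintype.card F - 1) * orderOf g ≤ Fintype.card F ^ (m + 1)) := by
  classical
  obtain ⟨p, hpc⟩ := CharP.exists F
  haveI := hpc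
  haveI : Fact p.Prime := ⟨CharP.char_is_prime F p⟩
  refine ⟨fun hm hodd g => ?_, fun hm g => ?_, fun hm a b hab g => ?_⟩
  · have h2 : (2 : F) ≠ 0 := fun h => by
      have h0 : ((Fintype.card F : ℕ) : F) = 0 := FiniteField.cast_card_eq_zero F
      obtain ⟨k, hk⟩ := hodd
      rw [hk] at h0
      push_cast at h0
      exact one_ne_zero (by linear_combination h0 - (k : F) * h : (1 : F) = 0)
    have hp3 : 3 ≤ p := by
      have := (Fact.out : p.Prime).two_le
      rcases Nat.lt_or_ge p 3 with h | h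
      · obtain rfl : p = 2 := by omega
        exact absurd (by exact_mod_cast CharP.cast_eq_zero F 2) h2
      · exact h
    exact CfsgLib.KnownA.RecipOrder.pOmega_bound (p := p)
      (Or.inr ⟨by simp only [Fintype.card_sum, Fintype.card_unit, Fintype.card_fin]; omega, hp3, hm⟩)
      (CfsgLib.KnownA.RecipOrder.oddForm m F) _ (CfsgLib.KnownA.RecipOrder.oddForm_coe m).symm
      (CfsgLib.KnownA.RecipOrder.oddForm_disc h2 m) g
  · exact CfsgLib.KnownA.RecipOrder.pOmega_bound (p := p) (Or.inl (by simp [two_mul]))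
      (CfsgLib.Geom.plusForm m F) _ (CfsgLib.Geom.plusForm_coe m).symm
      (by rw [CfsgLib.Geom.plusForm_disc]; exact pow_ne_zero _ (neg_ne_zero.2 one_ne_zero)) g
  · refine CfsgLib.KnownA.RecipOrder.pOmega_bound (p := p) (Or.inl (by simp only [Fintype.card_sum, Fintype.card_fin]; omega))
      (CfsgLib.Geom.minusForm (m - 1) F a b) _ (CfsgLib.Geom.minusForm_coe _ a b).symm ?_ g
    rw [CfsgLib.Geom.minusForm_disc]
    refine mul_ne_zero (pow_ne_zero _ (neg_ne_zero.2 one_ne_zero)) fun h => ?_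
    by_cases h2 : (2 : F) = 0
    · have ha : a = 0 := by
        have : a * a = 0 := by linear_combination -h + (2 * b) * h2
        exact mul_self_eq_zero.1 this
      haveI : CharP F 2 := CharTwo.of_one_ne_zero_of_two_eq_zero one_ne_zero h2
      obtain ⟨r, hr⟩ := (FiniteField.isSquare_of_char_two ((CharP.eq F ‹CharP F 2› (ringChar.charP F)).symm) b)
      exact one_ne_zero (hab r 1 (by rw [ha, hr]; linear_combination (r * r) * h2)).2
    · exact CfsgLib.Geom.not_isSquare_disc h2 a b hab ⟨0, by linear_combination -h⟩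


end Cfsg.Agent.S2265
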