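import Cfsg.Statements.S2268
import Mathlib.Tactic
import Mathlib.GroupTheory.Sylow

set_option autoImplicit false
open Cfsg

namespace Cfsg.Agent.S2268


theorem frattini_in_centralizer {G : Type*} [Group G] [Finite G] {p : ℕ} [Fact p.Prime]
    (P : Sylow p G) (hP : IsMulCommutative (P : Subgroup G)) (Q : Subgroup G)
    (hQ : Q ≤ (P : Subgroup G)) :
    Subgroup.normalizer (Q : Set G) =
      (Subgroup.normalizer (Q : Set G) ⊓ Subgroup.normalizer ((P : Subgroup G) : Set G)) ⊔
        Subgroup.centralizer (Q : Set G) := by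
  have hPC : (P : Subgroup G) ≤ Subgroup.centralizer (Q : Set G) := by
    intro x hx
    rw [Subgroup.mem_centralizer_iff]
    intro y hy
    exact congrArg Subtype.val (hP.is_comm.comm ⟨y, hQ hy⟩ ⟨x, hx⟩)
  refine le_antisymm ?_ (sup_le inf_le_left (Subgroup.centralizer_le_normalizer ..))
  intro g hg
  have hgPC : ((g • P : Sylow p G) : Subgroup G) ≤ Subgroup.centralizer (Q : Set G) := by
    rw [Sylow.coe_subgroup_smul]
    intro x hx
    rw [Subgroup.mem_pointwise_smul_iff_inv_smul_mem] at hx
    have hx' : g⁻¹ * x * g ∈ (P : Subgroup G) := by simpa using hx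
    rw [Subgroup.mem_centralizer_iff]
    intro y hy
    have hy' : g⁻¹ * y * g ∈ Q := by
      have := (Subgroup.mem_normalizer_iff.mp (inv_mem hg) y).mp hy
      simpa using this
    have := Subgroup.mem_centralizer_iff.mp (hPC hx') _ hy'
    calc y * x = g * ((g⁻¹ * y * g) * (g⁻¹ * x * g)) * g⁻¹ := by group
      _ = g * ((g⁻¹ * x * g) * (g⁻¹ * y * g)) * g⁻¹ := by rw [this]
      _ = x * y := by group
  obtain ⟨c, hc⟩ := MulAction.exists_smul_eq (Subgroup.centralizer (Q : Set G))
    ((g • P).subtype hgPC) (P.subtype hPC)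
  rw [Sylow.smul_subtype] at hc
  have hc' := Sylow.subtype_injective hc
  have hcg : (c : G) * g ∈ Subgroup.normalizer ((P : Subgroup G) : Set G) := by
    refine Sylow.smul_eq_iff_mem_normalizer.mp ?_
    rw [mul_smul]
    exact hc'
  have hcN : (c : G) ∈ Subgroup.normalizer (Q : Set G) := Subgroup.centralizer_le_normalizer _ c.2
  have : g = (c : G)⁻¹ * ((c : G) * g) := by group
  rw [this]
  exact Subgroup.mul_mem _ (Subgroup.mem_sup_right (inv_mem c.2))
    (Subgroup.mem_sup_left ⟨mul_mem hcN hg, hcg⟩)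

/-- Let G be a finite group with an abelian Sylow p-subgroup P and let Q ≤ P. Then N_G(Q) = (N_G(Q) ∩ N_G(P))·C_G(Q), so that N_G(Q)/C_G(Q) is a homomorphic image of the subgroup (N_G(Q) ∩ N_G(P))/C_G(P) of N_G(P)/C_G(P); in particular the order of N_G(Q)/C_G(Q) divides the order of N_G(P)/C_G(P). -/
theorem result {G : Type*} [Group G] [Finite G] {p : ℕ} [Fact p.Prime]
    (P : Sylow p G) (hP : IsMulCommutative (P : Subgroup G)) (Q : Subgroup G) (hQ : Q ≤ (P : Subgroup G)) :
    Subgroup.normalizer (Q : Set G) =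
      (Subgroup.normalizer (Q : Set G) ⊓ Subgroup.normalizer ((P : Subgroup G) : Set G)) ⊔ Subgroup.centralizer (Q : Set G) ∧
    ((Subgroup.centralizer (Q : Set G)).subgroupOf (Subgroup.normalizer (Q : Set G))).index ∣ ((Subgroup.centralizer ((P : Subgroup G) : Set G)).subgroupOf (Subgroup.normalizer ((P : Subgroup G) : Set G))).index := by
  refine ⟨frattini_in_centralizer P hP Q hQ, ?_⟩
  set N := Subgroup.normalizer (Q : Set G) with hN
  set NP := Subgroup.normalizer ((P : Subgroup G) : Set G) with hNP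
  set C := Subgroup.centralizer (Q : Set G) with hC
  set CP := Subgroup.centralizer ((P : Subgroup G) : Set G) with hCP
  have : (C.subgroupOf N).Normal := inferInstanceAs (((Subgroup.centralizer (Q : Set G)).subgroupOf (Subgroup.normalizer (Q : Set G))).Normal)
  have htop : (N ⊓ NP).subgroupOf N ⊔ C.subgroupOf N = ⊤ := by
    rw [← Subgroup.subgroupOf_sup inf_le_left (Subgroup.centralizer_le_normalizer ..),
      ← frattini_in_centralizer P hP Q hQ, Subgroup.subgroupOf_self]
  have h1 : (C.subgroupOf N).index = C.relIndex (N ⊓ NP) := by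
    rw [← Subgroup.relIndex_top_right, ← htop, Subgroup.relIndex_sup_right,
      Subgroup.relIndex_subgroupOf inf_le_left]
  have hCP_C : CP ≤ C := Subgroup.centralizer_le hQ
  have h2 : C.relIndex (N ⊓ NP) ∣ CP.relIndex (N ⊓ NP) := Subgroup.relIndex_dvd_of_le_left _ hCP_C
  have h3 : CP.relIndex (N ⊓ NP) ∣ (CP.subgroupOf NP).index := by
    have hle : CP ≤ N ⊓ NP := le_inf (hCP_C.trans (Subgroup.centralizer_le_normalizer ..))
      (Subgroup.centralizer_le_normalizer ..)
    refine Dvd.intro ((N ⊓ NP).relIndex NP) ?_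
    exact Subgroup.relIndex_mul_relIndex CP (N ⊓ NP) NP hle inf_le_right
  rw [h1]; exact h2.trans h3

end Cfsg.Agent.S2268
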