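import Cfsg.Statements.S2269
import Cfsg.Agent.Lib.KnownA.AbelianAltSylow

set_option autoImplicit false
open Cfsg

namespace Cfsg.Agent.S2269

open CfsgLib.KnownA.AltSylow

theorem val_five [Fact (Nat.Prime 2)] : padicValNat 2 (Nat.factorial 5) = 3 := by
  rw [padicValNat_factorial (b := 3) (by decide +kernel)]
  decide +kernel

theorem a5_facts : ∀ z : alternatingGroup (Fin 5), z ≠ 1 → z * z = 1 →
    Fintype.card {g // z * g = g * z} = 4 ∧
    Fintype.card {g : alternatingGroup (Fin 5) //
      ∀ q, z * q = q * z → z * (g * q * g⁻¹) = (g * q * g⁻¹) * z} = 12 ∧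
    Fintype.card {g : alternatingGroup (Fin 5) // ∀ q, z * q = q * z → g * q = q * g} = 4 ∧
    ∀ q, z * q = q * z → q * q = 1 := by
  decide +kernel

theorem klein_case (P : Sylow 2 (alternatingGroup (Fin 5))) :
    ((Subgroup.centralizer ((P : Subgroup (alternatingGroup (Fin 5))) : Set (alternatingGroup (Fin 5)))).subgroupOf
      (Subgroup.normalizer ((P : Subgroup (alternatingGroup (Fin 5))) : Set (alternatingGroup (Fin 5))))).index = 3 ∧
    IsKleinFour (P : Subgroup (alternatingGroup (Fin 5))) := by
  have : Fact (Nat.Prime 2) := ⟨Nat.prime_two⟩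
  have h4 : Nat.card P = 4 := by
    rw [card_sylow_alt' (by norm_num) P,
      val_five, padicValNat.self (by norm_num)]
    norm_num
  obtain ⟨z, hz⟩ := exists_prime_orderOf_dvd_card' (G := (P : Subgroup (alternatingGroup (Fin 5)))) 2
    (h4.symm ▸ ⟨2, rfl⟩)
  have hz1 : (z : alternatingGroup (Fin 5)) ≠ 1 := fun h => by
    rw [OneMemClass.coe_eq_one.mp h, orderOf_one] at hz; norm_num at hz
  have hz2 : (z : alternatingGroup (Fin 5)) * z = 1 := by
    have := pow_orderOf_eq_one z
    rw [hz, pow_two] at this
    exact congrArg Subtype.val this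
  obtain ⟨hC, hN, hCC, hsq⟩ := a5_facts (z : alternatingGroup (Fin 5)) hz1 hz2
  have hmul : ∀ x ∈ (P : Subgroup (alternatingGroup (Fin 5))),
      (z : alternatingGroup (Fin 5)) * x = x * z := fun x hx => by
    have : Std.Commutative (α := (P : Subgroup (alternatingGroup (Fin 5)))) (· * ·) :=
      (IsPGroup.commGroupOfCardEqPrimeSq (p := 2) (by rw [h4]; norm_num)).mul_comm |> fun h => ⟨h⟩
    exact congrArg Subtype.val (this.comm z ⟨x, hx⟩)
  have hPC : ∀ x, x ∈ (P : Subgroup (alternatingGroup (Fin 5))) ↔
      (z : alternatingGroup (Fin 5)) * x = x * z := by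
    have h : Nat.card (Subgroup.centralizer ({(z : alternatingGroup (Fin 5))} : Set _)) = 4 := by
      rw [Nat.card_congr (Equiv.subtypeEquivRight (q := fun g : alternatingGroup (Fin 5) =>
        (z : alternatingGroup (Fin 5)) * g = g * z) fun g => by
        show g ∈ Subgroup.centralizer _ ↔ _
        rw [Subgroup.mem_centralizer_iff]; simp), Nat.card_eq_fintype_card]
      exact hC
    have heq := Subgroup.eq_of_le_of_card_ge (H := (P : Subgroup (alternatingGroup (Fin 5))))
      (K := Subgroup.centralizer ({(z : alternatingGroup (Fin 5))} : Set _))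
      (fun x hx => Subgroup.mem_centralizer_iff.mpr fun w hw => by
        rw [Set.mem_singleton_iff.mp hw]; exact hmul x hx) (by rw [h, h4])
    intro x
    refine (SetLike.ext_iff.mp heq x).trans ?_
    rw [Subgroup.mem_centralizer_iff]
    simp
  constructor
  · have hle : Subgroup.centralizer ((P : Subgroup (alternatingGroup (Fin 5))) : Set (alternatingGroup (Fin 5))) ≤
        Subgroup.normalizer ((P : Subgroup (alternatingGroup (Fin 5))) : Set (alternatingGroup (Fin 5))) :=
      Subgroup.centralizer_le_normalizer _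
    have hcN : Nat.card (Subgroup.normalizer ((P : Subgroup (alternatingGroup (Fin 5))) : Set (alternatingGroup (Fin 5)))) = 12 := by
      rw [Nat.card_congr (Equiv.subtypeEquivRight (q := fun g : alternatingGroup (Fin 5) =>
        ∀ q, (z : alternatingGroup (Fin 5)) * q = q * z →
          (z : alternatingGroup (Fin 5)) * (g * q * g⁻¹) = g * q * g⁻¹ * z) fun g => by
        show g ∈ Subgroup.normalizer _ ↔ _
        rw [Subgroup.mem_normalizer_iff_map_conj_eq]
        constructor
        · intro h q hq
          exact (hPC _).mp (h ▸ ⟨q, (hPC q).mpr hq, rfl⟩)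
        · intro h
          refine Subgroup.eq_of_le_of_card_ge ?_ (by
            rw [Subgroup.card_map_of_injective (MulAut.conj g).injective])
          rintro _ ⟨q, hq, rfl⟩
          exact (hPC _).mpr (h q ((hPC q).mp hq))), Nat.card_eq_fintype_card]
      exact hN
    have hcC : Nat.card (Subgroup.centralizer ((P : Subgroup (alternatingGroup (Fin 5))) : Set (alternatingGroup (Fin 5)))) = 4 := by
      rw [Nat.card_congr (Equiv.subtypeEquivRight (q := fun g : alternatingGroup (Fin 5) =>
        ∀ q, (z : alternatingGroup (Fin 5)) * q = q * z → g * q = q * g) fun g => by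
        show g ∈ Subgroup.centralizer _ ↔ _
        rw [Subgroup.mem_centralizer_iff]
        exact ⟨fun h q hq => (h q ((hPC q).mpr hq)).symm,
          fun h q hq => (h q ((hPC q).mp hq)).symm⟩), Nat.card_eq_fintype_card]
      exact hCC
    have := ((Subgroup.centralizer ((P : Subgroup (alternatingGroup (Fin 5))) : Set (alternatingGroup (Fin 5)))).subgroupOf
      (Subgroup.normalizer ((P : Subgroup (alternatingGroup (Fin 5))) : Set (alternatingGroup (Fin 5))))).card_mul_index
    rw [Nat.card_congr (Subgroup.subgroupOfEquivOfLe hle).toEquiv, hcC, hcN] at this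
    omega
  · refine ⟨h4, ?_⟩
    have : Nontrivial (P : Subgroup (alternatingGroup (Fin 5))) :=
      Finite.one_lt_card_iff_nontrivial.mp (by rw [h4]; norm_num)
    refine (Monoid.exponent_eq_prime_iff Nat.prime_two).mpr fun x hx => orderOf_eq_prime ?_ hx
    rw [pow_two]
    exact Subtype.ext (hsq _ ((hPC _).mp x.2))

/-- Let n ≥ 5 and let P be an abelian Sylow p-subgroup of the alternating group A_n. Then N(P)/C(P) (taken in A_n) has even order, or P is cyclic, except when n = 5 and p = 2, where P is a four-group and N(P)/C(P) has order 3. -/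
theorem result (n : ℕ) (hn : 5 ≤ n) {p : ℕ} [Fact p.Prime]
    (P : Sylow p (alternatingGroup (Fin n))) (hP : IsMulCommutative (P : Subgroup (alternatingGroup (Fin n)))) :
    (¬ (n = 5 ∧ p = 2) → 2 ∣ ((Subgroup.centralizer ((P : Subgroup (alternatingGroup (Fin n))) : Set (alternatingGroup (Fin n)))).subgroupOf (Subgroup.normalizer ((P : Subgroup (alternatingGroup (Fin n))) : Set (alternatingGroup (Fin n))))).index ∨ IsCyclic (P : Subgroup (alternatingGroup (Fin n)))) ∧
    ((n = 5 ∧ p = 2) → ((Subgroup.centralizer ((P : Subgroup (alternatingGroup (Fin n))) : Set (alternatingGroup (Fin n)))).subgroupOf (Subgroup.normalizer ((P : Subgroup (alternatingGroup (Fin n))) : Set (alternatingGroup (Fin n))))).index = 3 ∧ IsKleinFour (P : Subgroup (alternatingGroup (Fin n)))) := by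
  refine ⟨fun hne => ?_, fun h => ?_⟩
  swap
  · obtain ⟨rfl, rfl⟩ := h
    exact klein_case P
  have hp := (Fact.out : p.Prime)
  have hn2 : 2 ≤ n := by omega
  have hcard := card_sylow_alt' hn2 P
  set P' := (P : Subgroup (alternatingGroup (Fin n))).map (alternatingGroup (Fin n)).subtype
  have hPc : Nat.card P' = p ^ (padicValNat p n.factorial - padicValNat p 2) := by
    rw [Subgroup.card_map_of_injective (Subgroup.subtype_injective _)]; exact hcard
  have hab : ∀ x ∈ (P : Subgroup (alternatingGroup (Fin n))),
      ∀ y ∈ (P : Subgroup (alternatingGroup (Fin n))), x * y = y * x := fun x hx y hy =>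
    congrArg Subtype.val (hP.is_comm.comm ⟨x, hx⟩ ⟨y, hy⟩)
  have hbound := exp_mul_le P' (P.isPGroup'.map _) (by
    rintro _ ⟨x, hx, rfl⟩ _ ⟨y, hy, rfl⟩
    rw [← map_mul, ← map_mul, hab x hx y hy]) hPc
  rw [Nat.card_fin] at hbound
  by_cases hp2 : p = 2
  · subst hp2
    have h6 : 6 ≤ n := by omega
    obtain ⟨H, hH, x, hx, y, hy, hxy⟩ := exists_nonabelian_two h6
    obtain ⟨R, hR⟩ := hH.exists_le_sylow
    obtain ⟨g, hg⟩ := MulAction.exists_smul_eq (alternatingGroup (Fin n)) P R
    have hR' : ∀ z ∈ (R : Subgroup (alternatingGroup (Fin n))),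
        ∃ w ∈ (P : Subgroup (alternatingGroup (Fin n))), z = g * w * g⁻¹ := by
      intro z hz
      rw [← hg] at hz
      obtain ⟨w, hw, rfl⟩ := hz
      exact ⟨w, hw, rfl⟩
    obtain ⟨a, ha, rfl⟩ := hR' x (hR hx)
    obtain ⟨b, hb, rfl⟩ := hR' y (hR hy)
    refine absurd ?_ hxy
    simp only [mul_assoc, inv_mul_cancel_left]
    rw [← mul_assoc a b, hab a ha b hb, mul_assoc]
  · have hv : padicValNat p 2 = 0 := padicValNat_primes hp2
    rw [hv, Nat.sub_zero] at hPc hcard hbound
    have hlt : n < p ^ 2 := by
      by_contra h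
      have h1 : 1 ≤ n / p ^ 2 := Nat.div_pos (not_lt.mp h) (pow_pos hp.pos 2)
      have h2 : n / p + 1 ≤ padicValNat p n.factorial := by
        exact (Nat.add_le_add_left h1 _).trans ((Nat.le_add_right _ _).trans three_terms_le_val)
      have h3 := Nat.mul_le_mul_right p h2
      have h4 : n < (n / p + 1) * p := by rw [mul_comm]; exact Nat.lt_mul_div_succ n hp.pos
      exact absurd (h4.trans_le (h3.trans hbound)) (lt_irrefl n)
    rw [val_of_lt_sq hlt] at hcard
    rcases Nat.lt_or_ge (n / p) 2 with hk | hk
    · right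
      rcases Nat.lt_or_ge (n / p) 1 with h0 | h0
      · rw [Nat.lt_one_iff.mp h0, pow_zero] at hcard
        have := (Nat.card_eq_one_iff_unique.mp hcard).1
        infer_instance
      · rw [Nat.le_antisymm (Nat.lt_succ_iff.mp hk) h0, pow_one] at hcard
        exact isCyclic_of_prime_card (p := p) hcard
    · left
      obtain ⟨Q, t, ht, hN, hC⟩ := exists_sylow_inverting hp2 hlt hk
      obtain ⟨g, hg⟩ := MulAction.exists_smul_eq (alternatingGroup (Fin n)) Q P
      have hmem : ∀ z, z ∈ (P : Subgroup (alternatingGroup (Fin n))) ↔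
          g⁻¹ * z * g ∈ (Q : Subgroup (alternatingGroup (Fin n))) := by
        intro z
        rw [← hg]
        constructor
        · rintro ⟨w, hw, rfl⟩
          simp [mul_assoc, MulAut.conj_apply] at hw ⊢
          exact hw
        · intro hw
          exact ⟨_, hw, by simp [mul_assoc, MulAut.conj_apply]⟩
      have hinv : t⁻¹ = t := inv_eq_of_mul_eq_one_right ht
      refine two_dvd_index (P : Subgroup (alternatingGroup (Fin n))) (t := g * t * g⁻¹) ?_ ?_ ?_
      · calc g * t * g⁻¹ * (g * t * g⁻¹) = g * (t * t) * g⁻¹ := by group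
          _ = 1 := by rw [ht]; group
      · rw [Subgroup.mem_normalizer_iff_map_conj_eq]
        refine Subgroup.eq_of_le_of_card_ge ?_ (by
          rw [Subgroup.card_map_of_injective (MulAut.conj _).injective])
        rintro _ ⟨z, hz, rfl⟩
        rw [hmem]
        have h := hN _ ((hmem z).mp hz)
        simp [mul_assoc, MulAut.conj_apply] at h ⊢
        exact h
      · intro hcon
        apply hC
        rw [Subgroup.mem_centralizer_iff]
        intro w hw
        have h := Subgroup.mem_centralizer_iff.mp hcon (g * w * g⁻¹)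
          ((hmem _).mpr (by simp [mul_assoc] at hw ⊢; exact hw))
        have h' : g * (w * t) * g⁻¹ = g * (t * w) * g⁻¹ := by
          simpa [mul_assoc] using h
        exact mul_left_cancel (mul_right_cancel h')

end Cfsg.Agent.S2269
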