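import Cfsg.Statements.S2270
import Mathlib

-- import your own Cfsg.Agent.* helpers here

set_option autoImplicit false
open Cfsg

namespace Cfsg.Agent.S2270

/-- Let n ≥ 3, p an odd prime, and P an abelian Sylow p-subgroup of the symmetric group S_n (with p dividing n!, so that P ≠ 1). Then N(P)/C(P) has even order. -/
theorem result (n : ℕ) (hn : 3 ≤ n) {p : ℕ} [Fact p.Prime] (hp : p ≠ 2) (hpn : p ≤ n)
    (P : Sylow p (Equiv.Perm (Fin n))) (hP : IsMulCommutative (P : Subgroup (Equiv.Perm (Fin n)))) :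
    2 ∣ ((Subgroup.centralizer ((P : Subgroup (Equiv.Perm (Fin n))) : Set (Equiv.Perm (Fin n)))).subgroupOf (Subgroup.normalizer ((P : Subgroup (Equiv.Perm (Fin n))) : Set (Equiv.Perm (Fin n))))).index := by
  classical
  haveI := hP
  have hcard : Nat.card (Equiv.Perm (Fin n)) = n.factorial := by
    rw [Nat.card_perm, Nat.card_fin]
  have hne : (P : Subgroup (Equiv.Perm (Fin n))) ≠ ⊥ :=
    P.ne_bot_of_dvd_card (hcard ▸ (Fact.out : p.Prime).dvd_factorial.2 hpn)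
  obtain ⟨x, hx, hx1⟩ := P.1.bot_or_exists_ne_one.resolve_left hne
  obtain ⟨g, hg⟩ : IsConj x x⁻¹ := Equiv.Perm.isConj_iff_cycleType_eq.2 (Equiv.Perm.cycleType_inv x).symm
  have hgx : ((g : Equiv.Perm (Fin n))⁻¹)⁻¹ * x * (g : Equiv.Perm (Fin n))⁻¹ = x⁻¹ := by
    rw [inv_inv, hg.eq, mul_inv_cancel_right]
  obtain ⟨m, hm, hmx⟩ := P.conj_eq_normalizer_conj_of_mem x (g : Equiv.Perm (Fin n))⁻¹ hx
    (hgx ▸ inv_mem hx)
  rw [hgx] at hmx
  set N := Subgroup.normalizer ((P : Subgroup (Equiv.Perm (Fin n))) : Set (Equiv.Perm (Fin n))) with hN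
  set C := (Subgroup.centralizer ((P : Subgroup (Equiv.Perm (Fin n))) : Set (Equiv.Perm (Fin n)))).subgroupOf N with hC
  have hCn : C.Normal := by rw [hC, ← Subgroup.normalizerMonoidHom_ker]; infer_instance
  by_contra hodd
  have hk : (⟨m, hm⟩ : N) ^ C.index ∈ C := by
    haveI := hCn
    exact C.pow_index_mem _
  have hinv : m * x * m⁻¹ = x⁻¹ := by
    have h1 : m * x⁻¹ * m⁻¹ = x := by rw [hmx]; group
    calc m * x * m⁻¹ = (m * x⁻¹ * m⁻¹)⁻¹ := by group
      _ = x⁻¹ := by rw [h1]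
  have hpow : ∀ k, Odd k → m ^ k * x * (m ^ k)⁻¹ = x⁻¹ := by
    rintro k ⟨j, rfl⟩
    induction j with
    | zero => simpa using hinv
    | succ j ih =>
      rw [show 2 * (j + 1) + 1 = (2 * j + 1) + 1 + 1 by ring, pow_succ' m ((2 * j + 1) + 1),
        pow_succ' m (2 * j + 1)]
      calc m * (m * m ^ (2 * j + 1)) * x * (m * (m * m ^ (2 * j + 1)))⁻¹
          = m * (m * (m ^ (2 * j + 1) * x * (m ^ (2 * j + 1))⁻¹) * m⁻¹) * m⁻¹ := by group
        _ = m * (m * x * m⁻¹)⁻¹ * m⁻¹ := by rw [ih]; group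
        _ = m * x * m⁻¹ := by conv_lhs => rw [hinv, inv_inv]
        _ = x⁻¹ := hinv
  have hcomm : m ^ C.index * x = x * m ^ C.index := by
    have := Subgroup.mem_centralizer_iff.1 (show ((⟨m, hm⟩ : N) ^ C.index).1 ∈ _ from hk) x hx
    simpa using this.symm
  have hxx := hpow C.index (Nat.odd_iff.2 (by omega))
  rw [hcomm, mul_inv_cancel_right] at hxx
  have hxp : ∃ k, orderOf x = p ^ k := by
    obtain ⟨k, hk⟩ := P.isPGroup' ⟨x, hx⟩
    obtain ⟨j, -, hj⟩ := (Nat.dvd_prime_pow (Fact.out : p.Prime)).1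
      (orderOf_dvd_of_pow_eq_one (by simpa using congrArg Subtype.val hk : x ^ p ^ k = 1))
    exact ⟨j, hj⟩
  obtain ⟨j, hj⟩ := hxp
  have h2 : orderOf x ∣ 2 := orderOf_dvd_of_pow_eq_one (by rw [sq]; nth_rw 2 [hxx]; exact mul_inv_cancel x)
  rw [hj] at h2
  rcases j with _ | j
  · exact hx1 (orderOf_eq_one_iff.1 (by simpa using hj))
  · have := Nat.le_of_dvd two_pos h2
    have h3 : p ≤ p ^ (j + 1) := Nat.le_self_pow (by omega) p
    have := (Fact.out : p.Prime).two_le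
    omega

end Cfsg.Agent.S2270
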