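import Cfsg.Statements.S2272
import Cfsg.Agent.Lib.KnownB.PSLClassProduct

set_option autoImplicit false
open Cfsg

namespace Cfsg.Agent.S2272

/-- Let F be a finite field and d ≥ 3, and let a, b be non-identity elements of PSL_d(F). Then the product of the conjugacy classes of a and b is not a single conjugacy class: there are conjugates a′ of a and b′ of b such that a′b′ is not conjugate to ab. -/
theorem result {F : Type*} [Field F] [Fintype F] (d : ℕ) (hd : 3 ≤ d)
    (a b : Matrix.ProjectiveSpecialLinearGroup (Fin d) F) (ha : a ≠ 1) (hb : b ≠ 1) :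
    ∃ g h : Matrix.ProjectiveSpecialLinearGroup (Fin d) F, ¬ IsConj (a * b) (g * a * g⁻¹ * (h * b * h⁻¹)) :=
  CfsgLib.KnownB.PSLClassProduct.not_single_class hd a b ha hb

end Cfsg.Agent.S2272
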