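import Cfsg.Statements.S2277
import Cfsg.Agent.Lib.Coprime.TwoCentralizers

set_option autoImplicit false
open Cfsg

namespace Cfsg.Agent.S2277

/-- Let p ≥ 3 be prime and G a finite group with a Sylow p-subgroup P and a normal p-complement N (N normal, of order prime to p, with NP = G). Suppose P is generated by a subset C and also by a subset D, and that ⟨x c x⁻¹, d⟩ is a p-group for all x ∈ N, c ∈ C, d ∈ D. Then P centralizes N, so that G = N × P. -/
theorem result {G : Type*} [Group G] [Finite G] (p : ℕ) [Fact p.Prime] (hp3 : 3 ≤ p) (P : Sylow p G)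
    (N : Subgroup G) [N.Normal] (hN : (Nat.card N).Coprime p) (hNP : N ⊔ (P : Subgroup G) = ⊤)
    (C D : Set G) (hC : Subgroup.closure C = (P : Subgroup G)) (hD : Subgroup.closure D = (P : Subgroup G))
    (h : ∀ x ∈ N, ∀ c ∈ C, ∀ d ∈ D, IsPGroup p ↥(Subgroup.closure ({x * c * x⁻¹, d} : Set G))) :
    ⁅(P : Subgroup G), N⁆ = ⊥ := by
  open CfsgLib.Coprime in
  open Subgroup in
  set Ps := (P : Subgroup G) with hPs
  have hcopPN : (Nat.card Ps).Coprime (Nat.card N) := by
    obtain ⟨k, hk⟩ := IsPGroup.iff_card.1 P.isPGroup'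
    rw [hk]; exact Nat.Coprime.pow_left k hN.symm
  have hinf : Ps ⊓ N = ⊥ := CfsgLib.Coprime.inf_eq_bot_of_coprime hcopPN
  have hPN : Ps ≤ normalizer (N : Set G) := by rw [normalizer_eq_top (H := N)]; exact le_top
  have hfac : ∀ c ∈ C, ∀ d ∈ D, ∀ x ∈ N, ∃ a ∈ N, a * d = d * a ∧ ∃ b ∈ N, b * c = c * b ∧ x = a * b := by
    intro c hc d hd x hx
    obtain ⟨S, hS⟩ := (h x hx c hc d hd).exists_le_sylow
    obtain ⟨g, hg⟩ := MulAction.exists_smul_eq G P S
    obtain ⟨n, hn, π, hπ, rfl⟩ : ∃ n ∈ N, ∃ π ∈ Ps, n * π = g := by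
      have hg' : g ∈ ((N ⊔ Ps : Subgroup G) : Set G) := by rw [hNP]; exact mem_top g
      rw [Subgroup.normal_mul] at hg'
      exact hg'
    have hS' : (S : Subgroup G) = Ps.map (MulAut.conj n).toMonoidHom := by
      rw [← hg, mul_smul, Sylow.smul_eq_iff_mem_normalizer.2 (le_normalizer hπ)]
      rfl
    have key : ∀ y ∈ Ps, ∀ m : G, m * y * m⁻¹ ∈ Ps → m ∈ N → m * y = y * m := by
      intro y hy m hmy hm
      have h1 : m * y * m⁻¹ * y⁻¹ ∈ Ps ⊓ N := ⟨Ps.mul_mem hmy (Ps.inv_mem hy), by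
        rw [show m * y * m⁻¹ * y⁻¹ = m * (y * m⁻¹ * y⁻¹) by group]
        exact mul_mem hm ((inferInstance : N.Normal).conj_mem _ (inv_mem hm) y)⟩
      rw [hinf, mem_bot] at h1
      calc m * y = (m * y * m⁻¹ * y⁻¹) * (y * m) := by group
        _ = y * m := by rw [h1, one_mul]
    have hdP : d ∈ Ps := hD ▸ subset_closure hd
    have hcP : c ∈ Ps := hC ▸ subset_closure hc
    have h1 : n⁻¹ * d * n⁻¹⁻¹ ∈ Ps := by
      have h2 := hS (subset_closure (Set.mem_insert_of_mem _ rfl : d ∈ ({x * c * x⁻¹, d} : Set G)))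
      rw [hS', Subgroup.mem_map] at h2
      obtain ⟨y, hy, e⟩ := h2
      have : y = n⁻¹ * d * n⁻¹⁻¹ := by rw [← e]; simp [mul_assoc]
      exact this ▸ hy
    have h3 : (n⁻¹ * x) * c * (n⁻¹ * x)⁻¹ ∈ Ps := by
      have h2 := hS (subset_closure (Set.mem_insert _ _ : x * c * x⁻¹ ∈ ({x * c * x⁻¹, d} : Set G)))
      rw [hS', Subgroup.mem_map] at h2
      obtain ⟨y, hy, e⟩ := h2
      have : y = (n⁻¹ * x) * c * (n⁻¹ * x)⁻¹ := by
        have e' : n * y * n⁻¹ = x * c * x⁻¹ := by simpa using e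
        calc y = n⁻¹ * (n * y * n⁻¹) * n := by group
          _ = _ := by rw [e']; group
      exact this ▸ hy
    have hd' := key d hdP n⁻¹ h1 (inv_mem hn)
    refine ⟨n, hn, ?_, n⁻¹ * x, mul_mem (inv_mem hn) hx, key c hcP _ h3 (mul_mem (inv_mem hn) hx), by group⟩
    have h4 : Commute n⁻¹ d := hd'
    simpa using h4.inv_left.eq
  rw [commutator_eq_bot_iff_le_centralizer]
  have hsolv : Group.IsSolvable Ps := by
    have := P.isPGroup'.isNilpotent
    infer_instance
  suffices hle : N ≤ N ⊓ centralizer (Ps : Set G) from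
    le_centralizer_iff.1 (hle.trans inf_le_right)
  refine le_of_eq (eq_of_le_of_card_ge inf_le_left (Nat.le_of_dvd Nat.card_pos ?_)).symm
  refine (Nat.factorization_prime_le_iff_dvd Nat.card_pos.ne' Nat.card_pos.ne').1 fun q hq => ?_
  have := Fact.mk hq
  by_cases hqp : q = p
  · subst hqp
    rw [Nat.factorization_eq_zero_of_not_dvd fun hd => by
      exact Nat.Prime.ne_one hq (Nat.dvd_one.1 (hN ▸ Nat.dvd_gcd hd dvd_rfl))]
    exact Nat.zero_le _
  obtain ⟨Q, hQ⟩ := exists_invariant_sylow hPN hcopPN (Or.inl hsolv) q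
  have hzp : ∀ y ∈ Ps, zpowers y ≤ normalizer (((Q : Subgroup N).map N.subtype : Subgroup G) : Set G) :=
    fun y hy => (zpowers_le.2 hy).trans hQ
  have hzN : ∀ y : G, zpowers y ≤ normalizer (N : Set G) := fun y => by
    rw [normalizer_eq_top (H := N)]; exact le_top
  have hzc : ∀ y ∈ Ps, (Nat.card (zpowers y)).Coprime (Nat.card N) := fun y hy =>
    hcopPN.coprime_dvd_left (card_dvd_of_le (zpowers_le.2 hy))
  have hcent := TwoCentralizers.pgroup_case (show p ≠ 2 by omega) hqp P.isPGroup' (Q.isPGroup'.map _) hQ C D hC hD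
    fun c hc d hd => TwoCentralizers.factor_sylow (hzc c (hC ▸ subset_closure hc)) (hzc d (hD ▸ subset_closure hd))
      (hzN c) (hzN d) (hfac c hc d hd) Q (hzp c (hC ▸ subset_closure hc)) (hzp d (hD ▸ subset_closure hd))
  have hsub : (Q : Subgroup N).map N.subtype ≤ N ⊓ centralizer (Ps : Set G) :=
    le_inf (map_subtype_le _) (le_centralizer_iff.1 hcent)
  refine (hq.pow_dvd_iff_le_factorization Nat.card_pos.ne').1 ?_
  rw [← Sylow.card_eq_multiplicity Q, ← card_map_of_injective N.subtype_injective]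
  exact card_dvd_of_le hsub

end Cfsg.Agent.S2277
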