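import Cfsg.Statements.S2281
import Cfsg.Agent.Lib.Geom.SympUnipGen

set_option autoImplicit false
open Cfsg
open CfsgLib.Geom

namespace Cfsg.Agent.S2281

/-- Let F be a finite field and n ≥ 2, excluding the case n = 2 with F of two elements (where the group is not quasisimple). Then the symplectic group Sp_2n(F) is generated by three conjugate regular unipotent elements: there are u ∈ Sp_2n(F) with u − 1 nilpotent and (u − 1)^(2n−1) ≠ 0, and g, h ∈ Sp_2n(F), such that u, g u g⁻¹ and h u h⁻¹ generate Sp_2n(F). -/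
theorem result {F : Type*} [Field F] [Fintype F] (n : ℕ) (hn : 2 ≤ n) (h22 : ¬ (n = 2 ∧ Fintype.card F = 2)) :
    ∃ u g h : Matrix.symplecticGroup (Fin n) F,
      IsNilpotent ((u : Matrix (Fin n ⊕ Fin n) (Fin n ⊕ Fin n) F) - 1) ∧
      ((u : Matrix (Fin n ⊕ Fin n) (Fin n ⊕ Fin n) F) - 1) ^ (2 * n - 1) ≠ 0 ∧
      Subgroup.closure ({u, g * u * g⁻¹, h * u * h⁻¹} : Set (Matrix.symplecticGroup (Fin n) F)) = ⊤ := by
  classical
  obtain ⟨u, k, t, ⟨hnil, hnz⟩, hclo⟩ := exists_three_unipotent_symp hn h22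
  let e := spEquiv n F
  have hmat : Matrix.toLinAlgEquiv' (((e u : Matrix.symplecticGroup (Fin n) F) :
      Matrix (Fin n ⊕ Fin n) (Fin n ⊕ Fin n) F) - 1) =
      (u.1 : (Fin n ⊕ Fin n → F) →ₗ[F] (Fin n ⊕ Fin n → F)) - 1 := by
    rw [map_sub, map_one]
    refine congrArg (· - 1) (LinearMap.ext fun v => ?_)
    rw [Matrix.toLinAlgEquiv'_apply]
    exact spEquiv_mulVec u v
  refine ⟨e u, e k, e t, ⟨2 * n, ?_⟩, fun h => hnz ?_, ?_⟩
  · refine Matrix.toLinAlgEquiv'.injective ?_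
    rw [map_pow, hmat, hnil, map_zero]
  · rw [← hmat, ← map_pow, h, map_zero]
  · rw [← map_inv, ← map_inv, ← map_mul, ← map_mul, ← map_mul, ← map_mul,
      show ({e u, e (k * u * k⁻¹), e (t * u * t⁻¹)} : Set (Matrix.symplecticGroup (Fin n) F)) =
        e.toMonoidHom '' {u, k * u * k⁻¹, t * u * t⁻¹} by
        simp [Set.image_insert_eq],
      ← MonoidHom.map_closure, hclo]
    exact Subgroup.map_top_of_surjective _ e.surjective

end Cfsg.Agent.S2281
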