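import Cfsg.Statements.S2283
import Cfsg.Agent.Lib.Geom.SUThreeRegular
import Cfsg.Agent.Lib.Geom.RegUnipTheta

set_option autoImplicit false
open Cfsg

namespace Cfsg.Agent.S2283

section Aux

open CfsgLib.Geom CfsgLib.Classical

variable {F : Type*} [Field F] [Fintype F] {q : ℕ}

theorem comb_congr {V : Type*} [AddCommGroup V] [Module F V] {σ : F →+* F}
    {B : V →ₛₗ[σ] V →ₗ[F] F} (Φ : UThreeFrame B) {a b c a' b' c' : F}
    (h1 : a = a') (h2 : b = b') (h3 : c = c') : Φ.comb a b c = Φ.comb a' b' c' := by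
  rw [h1, h2, h3]

theorem exists_frame (hF : Fintype.card F = q ^ 2) : Nonempty (UThreeFrame (hermB hF 3)) := by
  have H := isHermSpace_hermB hF 3
  have h3 : 3 ≤ Module.finrank F (Fin 3 → F) := by simp
  obtain ⟨x, hx, hxx⟩ := H.exists_isotropic h3
  obtain ⟨y, hxy, hyy⟩ := H.exists_hyperbolic hx hxx
  obtain ⟨e, hxe, hye, hee⟩ := H.exists_perp_value h3 hxx hyy hxy (a := (1 : F)) (map_one _)
  refine ⟨⟨x, e, y, hxx, hyy, hxy, hxe, hye, hee, fun z => ?_⟩⟩
  have hyx := H.eq_one_comm hxy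
  have hex := H.eq_zero_comm hxe
  have hey := H.eq_zero_comm hye
  have hli : LinearIndependent F ![x, e, y] := by
    rw [Fintype.linearIndependent_iff]
    intro k hk
    rw [Fin.sum_univ_three] at hk
    have h0 := congrArg (hermB hF 3 y) hk
    have h1 := congrArg (hermB hF 3 e) hk
    have h2 := congrArg (hermB hF 3 x) hk
    simp [hxx, hyy, hxy, hxe, hye, hee, hyx, hex, hey] at h0 h1 h2
    intro i
    fin_cases i <;> assumption
  have htop := hli.span_eq_top_of_card_eq_finrank (by simp)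
  set r := z - (hermB hF 3 y z • x + hermB hF 3 e z • e + hermB hF 3 x z • y) with hr
  suffices r = 0 from sub_eq_zero.1 this
  refine H.sep r fun w => H.eq_zero_comm ?_
  have hw : w ∈ Submodule.span F (Set.range ![x, e, y]) := htop ▸ Submodule.mem_top
  rw [Submodule.mem_span_range_iff_exists_fun] at hw
  obtain ⟨k, rfl⟩ := hw
  simp [hr, Fin.sum_univ_three, map_smulₛₗ, hxx, hyy, hxy, hxe, hye, hee, hyx, hex, hey]

/-- Parameters of a generating pair together with a normalising element. -/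
def Params (hF : Fintype.card F = q ^ 2) (Φ : UThreeFrame (hermB hF 3)) : Prop :=
  ∃ α c a d a₁ : F, c + qFrob hF c + qFrob hF α * α = 0 ∧ d + qFrob hF d + qFrob hF a * a = 0 ∧
    α ≠ 0 ∧ a ≠ 0 ∧ a₁ ≠ 0 ∧ qFrob hF a₁ * qFrob hF a₁ * α = -a * a₁ ∧
    ∃ g : formIsoms (hermB hF 3),
      g ∈ Subgroup.closure ({eich (isHermSpace_hermB hF 3) Φ.x (α • Φ.e) c,
        eich (isHermSpace_hermB hF 3) Φ.y (a • Φ.e) d} : Set (formIsoms (hermB hF 3))) ∧
      ∃ lam ν : F, g.1 Φ.x = lam • Φ.x ∧ hermB hF 3 Φ.e (g.1 Φ.e) = ν ∧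
        Subring.closure {qFrob hF lam * ν} = ⊤

theorem gen_of_not_mem {x : F} (h : ∀ R : Subring F, R ≠ ⊤ → x ∉ R) :
    Subring.closure {x} = ⊤ := by
  by_contra hne
  exact h _ hne (Subring.subset_closure rfl)

theorem params_five (hF : Fintype.card F = q ^ 2) (hq : q = 5) (Φ : UThreeFrame (hermB hF 3)) :
    Params hF Φ := by
  subst hq
  have H := isHermSpace_hermB hF 3
  have h5 : (5 : F) = 0 := by
    have h := FiniteField.cast_card_eq_zero F
    rw [hF, Nat.cast_pow] at h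
    exact pow_eq_zero_iff (n := 2) (by norm_num) |>.1 (by exact_mod_cast h)
  have h2 : (2 : F) ≠ 0 := fun e => one_ne_zero (show (1 : F) = 0 by linear_combination h5 - 2 * e)
  obtain ⟨s, hs'⟩ : IsSquare (2 : F) := by
    rw [FiniteField.isSquare_iff (fun e => by
      have := ringChar.Nat.cast_ringChar (R := F)
      rw [e] at this
      exact h2 (by exact_mod_cast this)) h2, hF]
    norm_num
    linear_combination (819 : F) * h5
  have hs : s ^ 2 - 2 = 0 := by linear_combination -hs'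
  have hs0 : s ≠ 0 := fun e => h2 (by linear_combination hs' + s * e)
  have hσs : qFrob hF s = -s := by
    rw [qFrob_apply]
    linear_combination (s ^ 3 + 2 * s) * hs + s * h5
  have hsa : qFrob hF ((4 : F) * s) = -((4 : F) * s) := by
    rw [map_mul, hσs, map_ofNat]; ring
  have hc : (2 : F) + qFrob hF 2 + qFrob hF 1 * 1 = 0 := by
    rw [map_ofNat, map_one]; linear_combination h5
  have hd : ((1 : F) + (2 : F) * s) + qFrob hF ((1 : F) + (2 : F) * s) +
      qFrob hF ((4 : F) * s) * ((4 : F) * s) = 0 := by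
    rw [hsa, map_add, map_mul, hσs, map_ofNat, map_one]
    linear_combination -(16 : F) * hs - 6 * h5
  refine ⟨1, 2, (4 : F) * s, (1 : F) + (2 : F) * s, s, hc, hd, one_ne_zero,
    mul_ne_zero (fun e => h2 (by linear_combination h5 * 2 - 2 * e)) hs0, hs0,
    by rw [hσs]; linear_combination s ^ 2 * h5, ?_⟩
  obtain ⟨U, hU⟩ : ∃ U, U = eich H Φ.x ((1 : F) • Φ.e) 2 := ⟨_, rfl⟩
  obtain ⟨W, hW⟩ : ∃ W, W = eich H Φ.y (((4 : F) * s) • Φ.e) ((1 : F) + (2 : F) * s) := ⟨_, rfl⟩
  rw [← hU, ← hW]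
  have x0 : (W).1 (Φ.comb ((1 : F)) (0 : F) (0 : F)) = Φ.comb ((1 : F)) ((4 : F) * s) ((1 : F) + (2 : F) * s) := by
    rw [hW, Φ.eichY_comb H hd, hsa]
    exact comb_congr Φ (by linear_combination (0 : F) * h5)
      (by linear_combination (0 : F) * h5)
      (by linear_combination (0 : F) * h5)
  have x1 : (U).1 (Φ.comb ((1 : F)) ((4 : F) * s) ((1 : F) + (2 : F) * s)) = Φ.comb ((3 : F)) ((1 : F) + s) ((1 : F) + (2 : F) * s) := by
    rw [hU, Φ.eichX_comb H hc, map_one]
    exact comb_congr Φ (by linear_combination (0 : F) * h5)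
      (by linear_combination (s) * h5)
      (by linear_combination (0 : F) * h5)
  have x2 : (U).1 (Φ.comb ((3 : F)) ((1 : F) + s) ((1 : F) + (2 : F) * s)) = Φ.comb ((4 : F) + (3 : F) * s) ((2 : F) + (3 : F) * s) ((1 : F) + (2 : F) * s) := by
    rw [hU, Φ.eichX_comb H hc, map_one]
    exact comb_congr Φ (by linear_combination (0 : F) * h5)
      (by linear_combination (0 : F) * h5)
      (by linear_combination (0 : F) * h5)
  have x3 : (W).1 (Φ.comb ((4 : F) + (3 : F) * s) ((2 : F) + (3 : F) * s) ((1 : F) + (2 : F) * s)) = Φ.comb ((4 : F) + (3 : F) * s) ((1 : F) + (4 : F) * s) ((1 : F) + s) := by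
    rw [hW, Φ.eichY_comb H hd, hsa]
    exact comb_congr Φ (by linear_combination (0 : F) * h5)
      (by linear_combination ((12 : F)) * hs + ((5 : F) + (3 : F) * s) * h5)
      (by linear_combination ((18 : F)) * hs + ((8 : F) + (4 : F) * s) * h5)
  have x4 : (U).1 (Φ.comb ((4 : F) + (3 : F) * s) ((1 : F) + (4 : F) * s) ((1 : F) + s)) = Φ.comb (s) ((2 : F)) ((1 : F) + s) := by
    rw [hU, Φ.eichX_comb H hc, map_one]
    exact comb_congr Φ (by linear_combination ((1 : F)) * h5)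
      (by linear_combination (s) * h5)
      (by linear_combination (0 : F) * h5)
  have x5 : (W).1 (Φ.comb (s) ((2 : F)) ((1 : F) + s)) = Φ.comb (s) (0 : F) (0 : F) := by
    rw [hW, Φ.eichY_comb H hd, hsa]
    exact comb_congr Φ (by linear_combination (0 : F) * h5)
      (by linear_combination ((4 : F)) * hs + ((2 : F)) * h5)
      (by linear_combination ((2 : F)) * hs + ((1 : F) + (2 : F) * s) * h5)
  have e0 : (W).1 (Φ.comb (0 : F) ((1 : F)) (0 : F)) = Φ.comb (0 : F) ((1 : F)) ((4 : F) * s) := by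
    rw [hW, Φ.eichY_comb H hd, hsa]
    exact comb_congr Φ (by linear_combination (0 : F) * h5)
      (by linear_combination (0 : F) * h5)
      (by linear_combination (0 : F) * h5)
  have e1 : (U).1 (Φ.comb (0 : F) ((1 : F)) ((4 : F) * s)) = Φ.comb ((4 : F) + (3 : F) * s) ((1 : F) + (4 : F) * s) ((4 : F) * s) := by
    rw [hU, Φ.eichX_comb H hc, map_one]
    exact comb_congr Φ (by linear_combination (-((1 : F)) + s) * h5)
      (by linear_combination (0 : F) * h5)
      (by linear_combination (0 : F) * h5)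
  have e2 : (U).1 (Φ.comb ((4 : F) + (3 : F) * s) ((1 : F) + (4 : F) * s) ((4 : F) * s)) = Φ.comb ((3 : F) + (2 : F) * s) ((1 : F) + (3 : F) * s) ((4 : F) * s) := by
    rw [hU, Φ.eichX_comb H hc, map_one]
    exact comb_congr Φ (by linear_combination (s) * h5)
      (by linear_combination (s) * h5)
      (by linear_combination (0 : F) * h5)
  have e3 : (W).1 (Φ.comb ((3 : F) + (2 : F) * s) ((1 : F) + (3 : F) * s) ((4 : F) * s)) = Φ.comb ((3 : F) + (2 : F) * s) ((2 : F)) (s) := by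
    rw [hW, Φ.eichY_comb H hd, hsa]
    exact comb_congr Φ (by linear_combination (0 : F) * h5)
      (by linear_combination ((8 : F)) * hs + ((3 : F) + (3 : F) * s) * h5)
      (by linear_combination ((16 : F)) * hs + ((7 : F) + (3 : F) * s) * h5)
  have e4 : (U).1 (Φ.comb ((3 : F) + (2 : F) * s) ((2 : F)) (s)) = Φ.comb ((1 : F) + (4 : F) * s) ((2 : F) + s) (s) := by
    rw [hU, Φ.eichX_comb H hc, map_one]
    exact comb_congr Φ (by linear_combination (0 : F) * h5)
      (by linear_combination (0 : F) * h5)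
      (by linear_combination (0 : F) * h5)
  have e5 : (W).1 (Φ.comb ((1 : F) + (4 : F) * s) ((2 : F) + s) (s)) = Φ.comb ((1 : F) + (4 : F) * s) ((4 : F)) (0 : F) := by
    rw [hW, Φ.eichY_comb H hd, hsa]
    exact comb_congr Φ (by linear_combination (0 : F) * h5)
      (by linear_combination ((16 : F)) * hs + ((6 : F) + s) * h5)
      (by linear_combination ((12 : F)) * hs + ((5 : F) + (3 : F) * s) * h5)
  refine ⟨W * U * W * U * U * W, ?_, (s), ((4 : F)), ?_, ?_, ?_⟩
  · repeat' apply mul_mem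
    all_goals first
      | exact Subgroup.subset_closure (Set.mem_insert _ _)
      | exact Subgroup.subset_closure (Set.mem_insert_of_mem _ (Set.mem_singleton _))
  · simp only [Subgroup.coe_mul, LinearEquiv.mul_apply, Φ.x_eq H]
    rw [x0, x1, x2, x3, x4, x5]
    simp [UThreeFrame.comb]
  · simp only [Subgroup.coe_mul, LinearEquiv.mul_apply]
    conv_lhs => arg 2; rw [Φ.e_eq H, e0, e1, e2, e3, e4, e5]
    exact Φ.coord_e H _ _ _
  · refine gen_of_not_mem fun R hR hmem => ?_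
    rw [show qFrob hF s * (4 : F) = s by rw [hσs]; linear_combination (-s) * h5] at hmem
    obtain ⟨e, he, he2⟩ := ru_natCard_eq R
    rw [Nat.card_eq_fintype_card, hF] at he
    have hd5 : Nat.card R ∣ 5 ^ 2 := by rw [he]; exact dvd_pow_self _ (by have := he2 hR; omega)
    obtain ⟨k, hk, hcard⟩ := (Nat.dvd_prime_pow (by norm_num : Nat.Prime 5)).1 hd5
    rw [hcard, ← pow_mul] at he
    have hke := Nat.pow_right_injective (by norm_num : 2 ≤ 5) he
    have h1 : k * 2 ≤ k * e := Nat.mul_le_mul_left k (he2 hR)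
    have hp := ru_pow_natCard hmem
    rw [hcard] at hp
    rw [show k = 1 by
      rcases Nat.eq_zero_or_pos k with rfl | hpos
      · simp at hke
      · omega, pow_one, ← qFrob_apply hF, hσs] at hp
    exact hs0 (by
      have : (2 : F) * s = 0 := by
        linear_combination -hp
      exact (mul_eq_zero.1 this).resolve_left h2)

theorem params_eight (hF : Fintype.card F = q ^ 2) (hq : q = 8) (Φ : UThreeFrame (hermB hF 3)) :
    Params hF Φ := by
  classical
  subst hq
  have H := isHermSpace_hermB hF 3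
  have h2 : (2 : F) = 0 := by
    have h := FiniteField.cast_card_eq_zero F
    rw [hF, show (8 : ℕ) ^ 2 = 2 ^ 6 by norm_num, Nat.cast_pow] at h
    exact pow_eq_zero_iff (n := 6) (by norm_num) |>.1 (by exact_mod_cast h)
  have hcard : Fintype.card Fˣ = 63 := by rw [Fintype.card_units, hF]; norm_num
  obtain ⟨uw, huw⟩ := exists_prime_orderOf_dvd_card (G := Fˣ) 3 (hp := ⟨by norm_num⟩) (by rw [hcard]; norm_num)
  obtain ⟨ur, hur⟩ := exists_prime_orderOf_dvd_card (G := Fˣ) 7 (hp := ⟨by norm_num⟩) (by rw [hcard]; norm_num)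
  have hw1 : (uw : F) ≠ 1 := fun e => by
    rw [Units.val_eq_one.1 e, orderOf_one] at huw; omega
  have hr1 : (ur : F) ≠ 1 := fun e => by
    rw [Units.val_eq_one.1 e, orderOf_one] at hur; omega
  have hw3 : (uw : F) ^ 3 = 1 := by
    rw [← Units.val_pow_eq_pow_val, ← huw, pow_orderOf_eq_one, Units.val_one]
  have hr7 : (ur : F) ^ 7 = 1 := by
    rw [← Units.val_pow_eq_pow_val, ← hur, pow_orderOf_eq_one, Units.val_one]
  obtain ⟨w, hw⟩ : ∃ w : F, w ^ 2 + w + 1 = 0 := by
    refine ⟨uw, ?_⟩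
    have : ((uw : F) - 1) * ((uw : F) ^ 2 + uw + 1) = 0 := by linear_combination hw3
    exact (mul_eq_zero.1 this).resolve_left (sub_ne_zero.2 hw1)
  obtain ⟨r, hr⟩ : ∃ r : F, r ^ 3 + r + 1 = 0 := by
    set t := (ur : F) with ht
    have : (t - 1) * (t ^ 3 + t + 1) * (t ^ 3 + t ^ 2 + 1) = 0 := by
      linear_combination hr7 + (t ^ 4 - t ^ 3) * h2
    rcases mul_eq_zero.1 this with h | h
    · exact ⟨t, (mul_eq_zero.1 h).resolve_left (sub_ne_zero.2 hr1)⟩
    · exact ⟨t⁻¹, by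
        have ht0 : t ≠ 0 := ur.ne_zero
        field_simp
        linear_combination h⟩
  have hr7' : r ^ 7 = 1 := by
    linear_combination (r ^ 4 - r ^ 2 - r + 1) * hr + (r ^ 2 - 1) * h2 * 0 + (r ^ 2 + r * 0 - 1) * h2
  have hw0 : w ≠ 0 := fun e => one_ne_zero (show (1 : F) = 0 by linear_combination hw - (w + 1) * e)
  have hr0 : r ≠ 0 := fun e => one_ne_zero (show (1 : F) = 0 by linear_combination hr - (r ^ 2 + 1) * e)
  have hσw : qFrob hF w = w + 1 := by
    rw [qFrob_apply]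
    linear_combination (w ^ 6 - w ^ 5 + w ^ 3 - w ^ 2 + 1) * hw - (w + 1) * h2
  have hσr : qFrob hF r = r := by
    rw [qFrob_apply]
    linear_combination r * hr7'
  have hsa : qFrob hF (w * r) = r + w * r := by rw [map_mul, hσw, hσr]; ring
  have hc : w + qFrob hF w + qFrob hF 1 * 1 = 0 := by
    rw [hσw, map_one]; linear_combination (w + 1) * h2
  have hd : (r ^ 2 + w * r ^ 2) + qFrob hF (r ^ 2 + w * r ^ 2) + qFrob hF (w * r) * (w * r) = 0 := by
    rw [hsa, map_add, map_mul, map_pow, hσw, hσr]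
    linear_combination r ^ 2 * hw + (r ^ 2 + w * r ^ 2) * h2
  refine ⟨1, w, w * r, r ^ 2 + w * r ^ 2, w + w * r + r ^ 2, hc, hd, one_ne_zero,
    mul_ne_zero hw0 hr0, ?_, ?_, ?_⟩
  · intro e
    have h8 := congrArg (qFrob hF) e
    rw [map_zero, map_add, map_add, map_mul, map_pow, hσw, hσr] at h8
    have h3 : r = 1 := by linear_combination h8 - e - h2
    exact one_ne_zero (show (1 : F) = 0 by rw [h3] at hr; linear_combination hr - h2)
  · rw [map_add, map_add, map_mul, map_pow, hσw, hσr]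
    linear_combination ((1 : F) + (3 : F) * r + (2 : F) * r ^ 2) * hw + ((2 : F) + r + (3 : F) * w) * hr + (-((1 : F)) - (2 : F) * r - w - w * r + w * r ^ 2) * h2
  obtain ⟨U, hU⟩ : ∃ U, U = eich H Φ.x ((1 : F) • Φ.e) w := ⟨_, rfl⟩
  obtain ⟨W, hW⟩ : ∃ W, W = eich H Φ.y ((w * r) • Φ.e) (r ^ 2 + w * r ^ 2) := ⟨_, rfl⟩
  rw [← hU, ← hW]
  have x0 : (W).1 (Φ.comb ((1 : F)) (0 : F) (0 : F)) = Φ.comb ((1 : F)) (w * r) (r ^ 2 + w * r ^ 2) := by
    rw [hW, Φ.eichY_comb H hd, hsa]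
    exact comb_congr Φ (by linear_combination (0 : F) * h2)
      (by linear_combination (0 : F) * h2)
      (by linear_combination (0 : F) * h2)
  have x1 : (W).1 (Φ.comb ((1 : F)) (w * r) (r ^ 2 + w * r ^ 2)) = Φ.comb ((1 : F)) (0 : F) (r ^ 2) := by
    rw [hW, Φ.eichY_comb H hd, hsa]
    exact comb_congr Φ (by linear_combination (0 : F) * h2)
      (by linear_combination (w * r) * h2)
      (by linear_combination (-(r ^ 2)) * hw + (r ^ 2 + w * r ^ 2) * h2)
  have x2 : (U).1 (Φ.comb ((1 : F)) (0 : F) (r ^ 2)) = Φ.comb ((1 : F) + w * r ^ 2) (r ^ 2) (r ^ 2) := by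
    rw [hU, Φ.eichX_comb H hc, map_one]
    exact comb_congr Φ (by linear_combination (0 : F) * h2)
      (by linear_combination (0 : F) * h2)
      (by linear_combination (0 : F) * h2)
  have x3 : (W).1 (Φ.comb ((1 : F) + w * r ^ 2) (r ^ 2) (r ^ 2)) = Φ.comb ((1 : F) + w * r ^ 2) ((1 : F) + r + r ^ 2 + w) ((1 : F) + r ^ 2 + w + w * r + w * r ^ 2) := by
    rw [hW, Φ.eichY_comb H hd, hsa]
    exact comb_congr Φ (by linear_combination (0 : F) * h2)
      (by linear_combination (r ^ 3) * hw + (-((1 : F)) - w) * hr + (w * r) * h2)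
      (by linear_combination (r ^ 4) * hw + (-((1 : F)) - r - w) * hr + (r + r ^ 2) * h2)
  have x4 : (U).1 (Φ.comb ((1 : F) + w * r ^ 2) ((1 : F) + r + r ^ 2 + w) ((1 : F) + r ^ 2 + w + w * r + w * r ^ 2)) = Φ.comb ((1 : F) + w + w * r + w * r ^ 2) (r + w * r + w * r ^ 2) ((1 : F) + r ^ 2 + w + w * r + w * r ^ 2) := by
    rw [hU, Φ.eichX_comb H hc, map_one]
    exact comb_congr Φ (by linear_combination ((1 : F) + r + r ^ 2) * hw + (-((1 : F)) - r - r ^ 2 - w - w * r) * h2)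
      (by linear_combination ((1 : F) + r ^ 2 + w) * h2)
      (by linear_combination (0 : F) * h2)
  have x5 : (W).1 (Φ.comb ((1 : F) + w + w * r + w * r ^ 2) (r + w * r + w * r ^ 2) ((1 : F) + r ^ 2 + w + w * r + w * r ^ 2)) = Φ.comb ((1 : F) + w + w * r + w * r ^ 2) ((1 : F) + r + r ^ 2 + w) ((1 : F) + r + w + w * r + w * r ^ 2) := by
    rw [hW, Φ.eichY_comb H hd, hsa]
    exact comb_congr Φ (by linear_combination (0 : F) * h2)
      (by linear_combination (r + r ^ 2 + r ^ 3) * hw + (-((1 : F)) - w) * hr + (-(r ^ 2) + w * r) * h2)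
      (by linear_combination (r ^ 4) * hw + (-(r)) * hr + (r ^ 2) * h2)
  have x6 : (U).1 (Φ.comb ((1 : F) + w + w * r + w * r ^ 2) ((1 : F) + r + r ^ 2 + w) ((1 : F) + r + w + w * r + w * r ^ 2)) = Φ.comb ((1 : F) + w * r) (r ^ 2 + w * r + w * r ^ 2) ((1 : F) + r + w + w * r + w * r ^ 2) := by
    rw [hU, Φ.eichX_comb H hc, map_one]
    exact comb_congr Φ (by linear_combination ((1 : F) + r + r ^ 2) * hw + (-((1 : F)) - r - r ^ 2) * h2)
      (by linear_combination ((1 : F) + r + w) * h2)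
      (by linear_combination (0 : F) * h2)
  have x7 : (W).1 (Φ.comb ((1 : F) + w * r) (r ^ 2 + w * r + w * r ^ 2) ((1 : F) + r + w + w * r + w * r ^ 2)) = Φ.comb ((1 : F) + w * r) (0 : F) (0 : F) := by
    rw [hW, Φ.eichY_comb H hd, hsa]
    exact comb_congr Φ (by linear_combination (0 : F) * h2)
      (by linear_combination (r ^ 2) * hw + (w * r) * h2)
      (by linear_combination (-(r ^ 2)) * hw + (-((1 : F)) - w) * hr + ((1 : F) + r + r ^ 2 + w + w * r + w * r ^ 2) * h2)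
  have e0 : (W).1 (Φ.comb (0 : F) ((1 : F)) (0 : F)) = Φ.comb (0 : F) ((1 : F)) (r + w * r) := by
    rw [hW, Φ.eichY_comb H hd, hsa]
    exact comb_congr Φ (by linear_combination (0 : F) * h2)
      (by linear_combination (0 : F) * h2)
      (by linear_combination (-(r) - w * r) * h2)
  have e1 : (W).1 (Φ.comb (0 : F) ((1 : F)) (r + w * r)) = Φ.comb (0 : F) ((1 : F)) (0 : F) := by
    rw [hW, Φ.eichY_comb H hd, hsa]
    exact comb_congr Φ (by linear_combination (0 : F) * h2)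
      (by linear_combination (0 : F) * h2)
      (by linear_combination (0 : F) * h2)
  have e2 : (U).1 (Φ.comb (0 : F) ((1 : F)) (0 : F)) = Φ.comb ((1 : F)) ((1 : F)) (0 : F) := by
    rw [hU, Φ.eichX_comb H hc, map_one]
    exact comb_congr Φ (by linear_combination (-((1 : F))) * h2)
      (by linear_combination (0 : F) * h2)
      (by linear_combination (0 : F) * h2)
  have e3 : (W).1 (Φ.comb ((1 : F)) ((1 : F)) (0 : F)) = Φ.comb ((1 : F)) ((1 : F) + w * r) (r + r ^ 2 + w * r + w * r ^ 2) := by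
    rw [hW, Φ.eichY_comb H hd, hsa]
    exact comb_congr Φ (by linear_combination (0 : F) * h2)
      (by linear_combination (0 : F) * h2)
      (by linear_combination (-(r) - w * r) * h2)
  have e4 : (U).1 (Φ.comb ((1 : F)) ((1 : F) + w * r) (r + r ^ 2 + w * r + w * r ^ 2)) = Φ.comb (r + r ^ 2 + w * r) ((1 : F) + r + r ^ 2 + w * r ^ 2) (r + r ^ 2 + w * r + w * r ^ 2) := by
    rw [hU, Φ.eichX_comb H hc, map_one]
    exact comb_congr Φ (by linear_combination (r + r ^ 2) * hw + (-(r) - r ^ 2 - w * r) * h2)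
      (by linear_combination (w * r) * h2)
      (by linear_combination (0 : F) * h2)
  have e5 : (W).1 (Φ.comb (r + r ^ 2 + w * r) ((1 : F) + r + r ^ 2 + w * r ^ 2) (r + r ^ 2 + w * r + w * r ^ 2)) = Φ.comb (r + r ^ 2 + w * r) ((1 : F) + r + w + w * r + w * r ^ 2) (r + r ^ 2 + w * r + w * r ^ 2) := by
    rw [hW, Φ.eichY_comb H hd, hsa]
    exact comb_congr Φ (by linear_combination (0 : F) * h2)
      (by linear_combination (r ^ 2) * hw + (w) * hr + (-(w) - w * r) * h2)
      (by linear_combination (r + w * r) * hr + (-(r) - r ^ 2 - w * r - w * r ^ 2) * h2)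
  have e6 : (U).1 (Φ.comb (r + r ^ 2 + w * r) ((1 : F) + r + w + w * r + w * r ^ 2) (r + r ^ 2 + w * r + w * r ^ 2)) = Φ.comb ((1 : F) + r + w + w * r ^ 2) ((1 : F) + r ^ 2 + w) (r + r ^ 2 + w * r + w * r ^ 2) := by
    rw [hU, Φ.eichX_comb H hc, map_one]
    exact comb_congr Φ (by linear_combination (r + r ^ 2) * hw + (-((1 : F)) - r - w - w * r ^ 2) * h2)
      (by linear_combination (r + w * r + w * r ^ 2) * h2)
      (by linear_combination (0 : F) * h2)
  have e7 : (W).1 (Φ.comb ((1 : F) + r + w + w * r ^ 2) ((1 : F) + r ^ 2 + w) (r + r ^ 2 + w * r + w * r ^ 2)) = Φ.comb ((1 : F) + r + w + w * r ^ 2) (r ^ 2 + w * r + w * r ^ 2) (0 : F) := by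
    rw [hW, Φ.eichY_comb H hd, hsa]
    exact comb_congr Φ (by linear_combination (0 : F) * h2)
      (by linear_combination (r + r ^ 3) * hw + (-((1 : F)) - w) * hr + ((1 : F) + w) * h2)
      (by linear_combination (-(r) + r ^ 2 + r ^ 4) * hw + (-(r)) * hr + (r + r ^ 2 + w * r ^ 2) * h2)
  refine ⟨W * U * W * U * W * U * W * W, ?_, ((1 : F) + w * r), (r ^ 2 + w * r + w * r ^ 2), ?_, ?_, ?_⟩
  · repeat' apply mul_mem
    all_goals first
      | exact Subgroup.subset_closure (Set.mem_insert _ _)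
      | exact Subgroup.subset_closure (Set.mem_insert_of_mem _ (Set.mem_singleton _))
  · simp only [Subgroup.coe_mul, LinearEquiv.mul_apply, Φ.x_eq H]
    rw [x0, x1, x2, x3, x4, x5, x6, x7]
    simp [UThreeFrame.comb]
  · simp only [Subgroup.coe_mul, LinearEquiv.mul_apply]
    conv_lhs => arg 2; rw [Φ.e_eq H, e0, e1, e2, e3, e4, e5, e6, e7]
    exact Φ.coord_e H _ _ _
  · rw [map_add, map_mul, map_one, hσw, hσr]
    refine gen_of_not_mem fun R hR hmem => ?_
    obtain ⟨e, he, he2⟩ := ru_natCard_eq R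
    rw [Nat.card_eq_fintype_card, hF, show (8 : ℕ) ^ 2 = 2 ^ 6 by norm_num] at he
    have hd6 : Nat.card R ∣ 2 ^ 6 := by rw [he]; exact dvd_pow_self _ (by have := he2 hR; omega)
    obtain ⟨k, hk, hcard'⟩ := (Nat.dvd_prime_pow Nat.prime_two).1 hd6
    rw [hcard', ← pow_mul] at he
    have hke := Nat.pow_right_injective le_rfl he
    have h1 : k * 2 ≤ k * e := Nat.mul_le_mul_left k (he2 hR)
    have hval : ∀ ν : F, ν = r ^ 2 + w * r ^ 2 + w * r →
        (1 + (w + 1) * r) * ν = w + w * r ^ 2 := fun ν hν => by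
      rw [hν]; linear_combination (r ^ 2 + r ^ 3) * hw + (w) * hr + (-(w)) * h2
    rw [hval _ (by ring)] at hmem
    have hp := ru_pow_natCard hmem
    rw [hcard'] at hp
    have hf4 : (w + w * r ^ 2) ^ 4 ≠ w + w * r ^ 2 := by
      intro e4
      have hr2 : w * (r * (r - 1)) = 0 := by
        linear_combination (w + (4 : F) * w * r ^ 2 + (6 : F) * w * r ^ 4 + (4 : F) * w * r ^ 6 + w * r ^ 8 - w ^ 2 - (4 : F) * w ^ 2 * r ^ 2 - (6 : F) * w ^ 2 * r ^ 4 - (4 : F) * w ^ 2 * r ^ 6 - w ^ 2 * r ^ 8) * hw + ((2 : F) * w - (3 : F) * w * r + w * r ^ 2 - (3 : F) * w * r ^ 3 - w * r ^ 5) * hr + (-(w)) * h2 + e4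
      exact mul_ne_zero hw0 (mul_ne_zero hr0 (sub_ne_zero.2 (fun h3 => one_ne_zero
        (show (1 : F) = 0 by rw [h3] at hr; linear_combination hr - h2)))) hr2
    have hf8 : (w + w * r ^ 2) ^ 8 ≠ w + w * r ^ 2 := by
      intro e8
      have h := qFrob_apply hF (w + w * r ^ 2)
      rw [e8, map_add, map_mul, map_pow, hσw, hσr] at h
      have : (r + 1) ^ 2 = 0 := by linear_combination h + r * h2
      have h3 : r = 1 := by linear_combination (pow_eq_zero_iff (n := 2) (by norm_num)).1 this - h2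
      exact one_ne_zero (show (1 : F) = 0 by rw [h3] at hr; linear_combination hr - h2)
    rcases (show k = 0 ∨ k = 1 ∨ k = 2 ∨ k = 3 by omega) with rfl | rfl | rfl | rfl
    · simp at hke
    · exact hf4 (by
        norm_num at hp
        rw [show (w + w * r ^ 2) ^ 4 = ((w + w * r ^ 2) ^ 2) ^ 2 by ring, hp, hp])
    · exact hf4 (by simpa using hp)
    · exact hf8 (by simpa using hp)

theorem exists_norm_generator (hF : Fintype.card F = q ^ 2) (hq : 3 ≤ q) (h5 : q ≠ 5) (h8 : q ≠ 8) :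
    ∃ μ : F, μ ≠ -1 ∧ μ ^ (q + 1) = 1 ∧ Subring.closure {(μ⁻¹) ^ 3} = ⊤ := by
  obtain ⟨g, hg⟩ := IsCyclic.exists_ofOrder_eq_natCard (α := Fˣ)
  rw [Nat.card_units, Nat.card_eq_fintype_card, hF] at hg
  have hord : orderOf ((g : F) ^ (q - 1)) = q + 1 := by
    have hm : q ^ 2 - 1 = (q - 1) * (q + 1) := by
      obtain ⟨k, rfl⟩ : ∃ k, q = k + 1 := ⟨q - 1, by omega⟩
      simp only [Nat.add_sub_cancel]
      ring_nf
      omega
    rw [← Units.val_pow_eq_pow_val, orderOf_units, orderOf_pow_of_dvd (by omega)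
      (by rw [hg, hm]; exact Dvd.intro _ rfl), hg, hm, Nat.mul_div_cancel_left _ (by omega)]
  set μ : F := (g : F) ^ (q - 1) with hμ
  have h1 : μ ^ (q + 1) = 1 := by rw [← hord, pow_orderOf_eq_one]
  refine ⟨μ, fun e => ?_, h1, gen_of_not_mem fun R hR hmem => ?_⟩
  · have hle : orderOf μ ≤ 2 := Nat.le_of_dvd (by norm_num)
      (orderOf_dvd_of_pow_eq_one (by rw [e]; ring))
    omega
  obtain ⟨e, he, he2⟩ := ru_natCard_eq R
  rw [Nat.card_eq_fintype_card, hF] at he
  obtain ⟨p, hchar⟩ := CharP.exists F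
  obtain ⟨m, hp, hpm⟩ := FiniteField.card F p
  rw [hF] at hpm
  have hd : Nat.card R ∣ p ^ (m : ℕ) := by
    rw [← hpm, he]; exact dvd_pow_self _ (by have := he2 hR; omega)
  obtain ⟨k, -, hcard⟩ := (Nat.dvd_prime_pow hp).1 hd
  obtain ⟨m', -, hq'⟩ := (Nat.dvd_prime_pow hp).1 (hpm ▸ dvd_pow_self q (by norm_num) : q ∣ p ^ (m : ℕ))
  have hke : k * e = m' * 2 := by
    apply Nat.pow_right_injective hp.two_le
    show p ^ (k * e) = p ^ (m' * 2)
    rw [pow_mul, ← hcard, ← he, hq', ← pow_mul]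
  have hmem' : (μ⁻¹) ^ 3 ≠ 0 := pow_ne_zero _ (inv_ne_zero (fun e => by rw [e] at h1; simp at h1))
  have hx := ru_pow_natCard hmem
  have hdvd : orderOf ((μ⁻¹) ^ 3) ∣ Nat.card R - 1 := by
    refine orderOf_dvd_of_pow_eq_one (mul_right_cancel₀ hmem' ?_)
    rw [← pow_succ, show Nat.card R - 1 + 1 = Nat.card R by
      have : 0 < Nat.card R := Nat.card_pos
      omega, hx, one_mul]
  have hori : orderOf (μ⁻¹) = q + 1 := by
    rw [← hord]
    have := orderOf_inv (Units.mk0 μ (fun e => by rw [e] at h1; simp at h1))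
    rw [← orderOf_units, ← orderOf_units] at this
    simpa using this
  rw [orderOf_pow' _ (by norm_num : 3 ≠ 0), hori] at hdvd
  have hR1 : 1 < Nat.card R := Finite.one_lt_card
  have hbig : (q + 1) ≤ 3 * ((q + 1) / Nat.gcd (q + 1) 3) := by
    have hg3 : Nat.gcd (q + 1) 3 ∣ 3 := Nat.gcd_dvd_right _ _
    have hmul := Nat.mul_div_cancel' (Nat.gcd_dvd_left (q + 1) 3)
    have hle : Nat.gcd (q + 1) 3 ≤ 3 := Nat.le_of_dvd (by norm_num) hg3
    calc q + 1 = Nat.gcd (q + 1) 3 * ((q + 1) / Nat.gcd (q + 1) 3) := hmul.symm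
      _ ≤ _ := Nat.mul_le_mul_right _ hle
  have hle := Nat.le_of_dvd (by omega) hdvd
  -- `R` lies in the fixed field of the Frobenius, or is small
  by_cases hkm : k ∣ m'
  · have hfix : ((μ⁻¹) ^ 3) ^ q = (μ⁻¹) ^ 3 := by
      obtain ⟨j, hj⟩ := hkm
      rw [hq', hj, pow_mul, ← hcard]
      clear hj
      generalize (μ⁻¹) ^ 3 = y at hx ⊢
      induction j with
      | zero => simp
      | succ j ih => rw [pow_succ, pow_mul, ih, hx]
    have h6 : (μ⁻¹) ^ 6 = 1 := by
      have hinv : (μ⁻¹) ^ (q + 1) = 1 := by rw [inv_pow, h1, inv_one]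
      calc (μ⁻¹) ^ 6 = ((μ⁻¹) ^ 3) ^ q * (μ⁻¹) ^ 3 := by rw [hfix]; ring
        _ = ((μ⁻¹) ^ (q + 1)) ^ 3 := by ring
        _ = 1 := by rw [hinv, one_pow]
    have hd6 := orderOf_dvd_of_pow_eq_one h6
    rw [hori] at hd6
    have := Nat.le_of_dvd (by norm_num) hd6
    have hq6 : q ≤ 5 := by omega
    interval_cases q <;> first | omega | (norm_num at hd6)
  · have he3 : 3 ≤ e := by
      by_contra hlt
      have : e = 2 := by have := he2 hR; omega
      subst this
      exact hkm (Dvd.intro 1 (by omega))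
    have hpow : Nat.card R ^ 3 ≤ q ^ 2 := by
      rw [he]; exact Nat.pow_le_pow_right (by omega) he3
    have hq27 : q < 27 := by
      by_contra hge
      have h3 : q + 1 < 3 * Nat.card R := by omega
      have h4 : (q + 1) ^ 3 < (3 * Nat.card R) ^ 3 := Nat.pow_lt_pow_left h3 (by norm_num)
      have h5 : q ^ 3 ≤ (q + 1) ^ 3 := Nat.pow_le_pow_left (by omega) 3
      have h6 : (3 * Nat.card R) ^ 3 = 27 * Nat.card R ^ 3 := by ring
      have h7 : 27 * q ^ 2 ≤ q ^ 3 := by
        calc 27 * q ^ 2 ≤ q * q ^ 2 := Nat.mul_le_mul_right _ (by omega)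
          _ = q ^ 3 := by ring
      omega
    -- only `q = 8` has an odd proper divisor of the exponent
    have hm'3 : 3 ≤ m' := by
      by_contra hlt
      have hk0 : 0 < k := Nat.pos_of_ne_zero (fun e0 => by rw [e0, pow_zero] at hcard; omega)
      have hk1 : k * 3 ≤ k * e := Nat.mul_le_mul_left k he3
      have : k = 1 := by omega
      subst this
      exact hkm (one_dvd _)
    have hp2 : p = 2 := by
      by_contra hne
      have h3p : 3 ≤ p := by have := hp.two_le; omega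
      have : 3 ^ 3 ≤ q := hq'.symm ▸ le_trans (Nat.pow_le_pow_left h3p 3)
        (Nat.pow_le_pow_right (by omega) hm'3)
      omega
    subst hp2
    have hm'4 : m' < 5 := by
      by_contra hge
      have : 2 ^ 5 ≤ q := hq'.symm ▸ Nat.pow_le_pow_right (by norm_num) (by omega : 5 ≤ m')
      omega
    have hm'e : m' = 4 := by
      rcases (show m' = 3 ∨ m' = 4 by omega) with rfl | rfl
      · exact absurd hq' h8
      · rfl
    subst hm'e
    have hk0 : 0 < k := Nat.pos_of_ne_zero (fun e0 => by rw [e0, pow_zero] at hcard; omega)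
    have hk1 : k * 3 ≤ k * e := Nat.mul_le_mul_left k he3
    have : k = 1 ∨ k = 2 := by omega
    rcases this with rfl | rfl
    · exact hkm (by norm_num)
    · exact hkm (by norm_num)

theorem params_general (hF : Fintype.card F = q ^ 2) (hq : 3 ≤ q) (h5 : q ≠ 5) (h8 : q ≠ 8)
    (Φ : UThreeFrame (hermB hF 3)) : Params hF Φ := by
  have H := isHermSpace_hermB hF 3
  obtain ⟨μ, hμ1, hμ, hgen⟩ := exists_norm_generator hF hq h5 h8
  have hμ0 : μ ≠ 0 := fun e => by rw [e] at hμ; simp at hμ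
  have hσμ : qFrob hF μ = μ⁻¹ := by
    rw [qFrob_apply]
    exact eq_inv_of_mul_eq_one_left (by rw [← pow_succ, hμ])
  have h1 : (1 : F) + μ ≠ 0 := fun e => hμ1 (by linear_combination e)
  have hNfix : qFrob hF (-(1 + μ) ^ 2 / μ) = -(1 + μ) ^ 2 / μ := by
    simp only [map_div₀, map_neg, map_pow, map_add, map_one, hσμ]
    field_simp
    ring
  obtain ⟨a, ha⟩ := H.norm_surj _ hNfix
  have ha0 : a ≠ 0 := by
    intro e
    rw [e, mul_zero, eq_comm, div_eq_zero_iff] at ha
    exact ha.elim (fun h => h1 (by simpa using h)) hμ0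
  have hd : (1 + μ) + qFrob hF (1 + μ) + qFrob hF a * a = 0 := by
    rw [map_add, map_one, hσμ, ha]
    field_simp
    ring
  set c : F := (μ - 1 + (1 + μ) ^ 2 / μ) / (1 + μ) with hc'
  have hc : c + qFrob hF c + qFrob hF (-a) * (-a) = 0 := by
    rw [map_neg, neg_mul_neg, ha, hc']
    simp only [map_div₀, map_sub, map_add, map_pow, map_one, hσμ]
    have hμ1' : μ + 1 ≠ 0 := fun e => h1 (by linear_combination e)
    field_simp
    ring
  refine ⟨-a, c, a, 1 + μ, 1, hc, hd, neg_ne_zero.2 ha0, ha0, one_ne_zero, by simp, ?_⟩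
  obtain ⟨U, hU⟩ : ∃ U, U = eich H Φ.x ((-a) • Φ.e) c := ⟨_, rfl⟩
  obtain ⟨W, hW⟩ : ∃ W, W = eich H Φ.y (a • Φ.e) (1 + μ) := ⟨_, rfl⟩
  rw [← hU, ← hW]
  have hn : qFrob hF a * a = -(1 + μ) ^ 2 / μ := ha
  have hcμ : c * (1 + μ) = μ - 1 + (1 + μ) ^ 2 / μ := by rw [hc', div_mul_cancel₀ _ h1]
  refine ⟨W * U * W, ?_, μ, μ⁻¹ ^ 2, ?_, ?_, ?_⟩
  · exact mul_mem (mul_mem (Subgroup.subset_closure (Set.mem_insert_of_mem _ (Set.mem_singleton _)))
      (Subgroup.subset_closure (Set.mem_insert _ _)))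
      (Subgroup.subset_closure (Set.mem_insert_of_mem _ (Set.mem_singleton _)))
  · simp only [Subgroup.coe_mul, LinearEquiv.mul_apply]
    conv_lhs => rw [Φ.x_eq H, hW, Φ.eichY_comb H hd, hU, Φ.eichX_comb H hc, Φ.eichY_comb H hd]
    rw [show μ • Φ.x = Φ.comb μ 0 0 by simp [UThreeFrame.comb]]
    refine comb_congr Φ ?_ ?_ ?_
    · rw [map_neg]
      linear_combination hcμ + hn
    · rw [map_neg]
      linear_combination a * hcμ + a * hn
    · rw [map_neg]
      have hμi : μ * μ⁻¹ = 1 := mul_inv_cancel₀ hμ0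
      linear_combination (1 + μ) * hcμ + (1 + 2 * μ) * hn - (1 + μ) ^ 2 * hμi
  · simp only [Subgroup.coe_mul, LinearEquiv.mul_apply]
    conv_lhs => arg 2; rw [Φ.e_eq H, hW, Φ.eichY_comb H hd, hU, Φ.eichX_comb H hc,
      Φ.eichY_comb H hd]
    rw [Φ.coord_e H, map_neg]
    have hc2 : c = (μ - 1 + (1 + μ) ^ 2 / μ) / (1 + μ) := hc'
    have : c * (qFrob hF a * a) = (μ - 1 + (1 + μ) ^ 2 / μ) / (1 + μ) * (-(1 + μ) ^ 2 / μ) := by
      rw [hn, hc2]
    have hgoal : 1 + 2 * (qFrob hF a * a) - c * (qFrob hF a * a) = μ⁻¹ ^ 2 := by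
      rw [this, hn]
      field_simp
      ring
    linear_combination hgoal
  · rw [hσμ, show μ⁻¹ * μ⁻¹ ^ 2 = μ⁻¹ ^ 3 by ring]
    exact hgen

end Aux


/-- Let F be a field with q² elements, q ≥ 3, and SU_3(q) the special unitary group of the standard Hermitian form. Then SU_3(q) is generated by two conjugate regular unipotent elements: there are u ∈ SU_3(q) with u − 1 nilpotent and (u − 1)² ≠ 0, and g ∈ SU_3(q), such that u and g u g⁻¹ generate SU_3(q). -/
theorem result {F : Type*} [Field F] [Fintype F] (q : ℕ) (hq : 3 ≤ q) (hF : Fintype.card F = q ^ 2) :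
    ∃ u g : ↥(Cfsg.SU 3 F q), (IsNilpotent (((u : Matrix.SpecialLinearGroup (Fin 3) F) : Matrix (Fin 3) (Fin 3) F) - 1) ∧ (((u : Matrix.SpecialLinearGroup (Fin 3) F) : Matrix (Fin 3) (Fin 3) F) - 1) ^ (3 - 1) ≠ 0) ∧
      Subgroup.closure ({u, g * u * g⁻¹} : Set ↥(Cfsg.SU 3 F q)) = ⊤ := by
  open CfsgLib.Geom CfsgLib.Classical in
  classical
  have H := isHermSpace_hermB hF 3
  have h32 : ¬ (3 = 3 ∧ q = 2) := fun h => by omega
  obtain ⟨Φ⟩ := exists_frame hF
  obtain ⟨α, c, a, d, a₁, hc, hd, hα, ha, ha₁, hrel, g, hg, lam, ν, hgx, hge, hgen⟩ :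
      Params hF Φ := by
    by_cases h5 : q = 5
    · exact params_five hF h5 Φ
    by_cases h8 : q = 8
    · exact params_eight hF h8 Φ
    exact params_general hF hq h5 h8 Φ
  have h3 : 3 ≤ Module.finrank F (Fin 3 → F) := by simp
  have hμ := exists_fixed_ne hF hq
  have hclo := Φ.closure_eq _ h3 hμ hc hd hα ha hg hgx hge hgen
  obtain ⟨k, g', hdet, ⟨t, f, rfl⟩, hconj⟩ := Φ.exists_conj (isHermSpace_hermB hF 3) hc hd ha ha₁ hrel
  have hut := utGroup_eq_ker_hermDet hF le_rfl h32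
  have hg' : g' ∈ utGroup (isHermSpace_hermB hF 3) := by
    rw [hut, MonoidHom.mem_ker]
    refine Units.ext ?_
    show ((LinearEquiv.det g'.1 : Fˣ) : F) = 1
    rw [LinearEquiv.coe_det]
    exact hdet
  have hk : eich (isHermSpace_hermB hF 3) Φ.y (t • Φ.e) f ∈ utGroup (isHermSpace_hermB hF 3) :=
    eich_mem _ h3 (Or.inr hμ) _ _ _
  have hu : eich (isHermSpace_hermB hF 3) Φ.x (α • Φ.e) c ∈ utGroup (isHermSpace_hermB hF 3) :=
    eich_mem _ h3 (Or.inr hμ) _ _ _
  let e := suEquiv hF le_rfl h32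
  let u := e.symm ⟨_, hu⟩
  let g0 := e.symm ⟨_, mul_mem hk hg'⟩
  have hu' : suHom hF 3 u = eich (isHermSpace_hermB hF 3) Φ.x (α • Φ.e) c := by
    rw [← suEquiv_coe hF le_rfl h32, MulEquiv.apply_symm_apply]
  have hgu : suHom hF 3 (g0 * u * g0⁻¹) = eich (isHermSpace_hermB hF 3) Φ.y (a • Φ.e) d := by
    rw [map_mul, map_mul, map_inv, hu', ← suEquiv_coe hF le_rfl h32, MulEquiv.apply_symm_apply]
    exact hconj
  have hN : ∀ z : Fin 3 → F, (((u : Matrix.SpecialLinearGroup (Fin 3) F) :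
      Matrix (Fin 3) (Fin 3) F) - 1).mulVec z =
      ((eich (isHermSpace_hermB hF 3) Φ.x (α • Φ.e) c).1 : (Fin 3 → F) →ₗ[F] (Fin 3 → F)) z - z := by
    intro z
    rw [Matrix.sub_mulVec, Matrix.one_mulVec, ← suHom_apply hF, hu']
    rfl
  refine ⟨u, g0, ⟨⟨3, Matrix.ext_iff_mulVec.2 fun z => ?_⟩, fun h2 => ?_⟩, ?_⟩
  · rw [pow_succ, pow_two, ← Matrix.mulVec_mulVec, ← Matrix.mulVec_mulVec, hN, hN, hN,
      Matrix.zero_mulVec]
    exact (Φ.eichX_regular _ hc hα z).1
  · refine (Φ.eichX_regular (isHermSpace_hermB hF 3) hc hα 0).2 ?_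
    have h := congrArg (fun M => Matrix.mulVec M Φ.y) h2
    simp only [show 3 - 1 = 2 from rfl, pow_two, ← Matrix.mulVec_mulVec, hN, Matrix.zero_mulVec] at h
    exact h
  · refine Subgroup.map_injective (suHom_injective hF 3) ?_
    rw [MonoidHom.map_closure, Set.image_pair, hu', hgu, hclo, ← MonoidHom.range_eq_map,
      range_suHom, hut]

end Cfsg.Agent.S2283
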