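import Cfsg.Statements.S2282
import Cfsg.Agent.Lib.Geom.HermUnipGen
import Cfsg.Agent.S2283

set_option autoImplicit false
open Cfsg
open CfsgLib.Geom CfsgLib.Classical

namespace Cfsg.Agent.S2282

/-- Let F be a field with q² elements, n ≥ 3 odd with (n, q) ≠ (3, 2), and SU_n(q) the special unitary group of the standard Hermitian form Σ u_i v_i^q. Then SU_n(q) is generated by three conjugate regular unipotent elements: there are u ∈ SU_n(q) with u − 1 nilpotent and (u − 1)^(n−1) ≠ 0, and g, h ∈ SU_n(q), such that u, g u g⁻¹ and h u h⁻¹ generate SU_n(q). -/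
theorem result {F : Type*} [Field F] [Fintype F] (q : ℕ) (hF : Fintype.card F = q ^ 2) (n : ℕ) (hn : 3 ≤ n) (hodd : Odd n) (h32 : ¬ (n = 3 ∧ q = 2)) :
    ∃ u g h : ↥(Cfsg.SU n F q), (IsNilpotent (((u : Matrix.SpecialLinearGroup (Fin n) F) : Matrix (Fin n) (Fin n) F) - 1) ∧ (((u : Matrix.SpecialLinearGroup (Fin n) F) : Matrix (Fin n) (Fin n) F) - 1) ^ (n - 1) ≠ 0) ∧
      Subgroup.closure ({u, g * u * g⁻¹, h * u * h⁻¹} : Set ↥(Cfsg.SU n F q)) = ⊤ := by
  classical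
  have hq := two_le_of_card_sq hF
  by_cases h3 : n = 3
  · subst h3
    obtain ⟨u, g, hu, hgen⟩ := Cfsg.Agent.S2283.result q (by omega) hF
    refine ⟨u, g, 1, hu, ?_⟩
    rw [eq_top_iff, ← hgen]
    refine Subgroup.closure_mono ?_
    rintro x (rfl | rfl) <;> simp
  have hn5 : 5 ≤ n := by
    obtain ⟨k, rfl⟩ := hodd
    omega
  obtain ⟨u, k, s, ⟨hu, hk, hs⟩, ⟨hnil, hnz⟩, hclo⟩ := exists_three_unipotent_ker hF hn5 hodd
  rw [← range_suHom] at hu hk hs
  obtain ⟨U, rfl⟩ := hu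
  obtain ⟨K, rfl⟩ := hk
  obtain ⟨S, rfl⟩ := hs
  have hmat : Matrix.toLinAlgEquiv' (((U : Matrix.SpecialLinearGroup (Fin n) F) :
      Matrix (Fin n) (Fin n) F) - 1) =
      ((suHom hF n U).1 : (Fin n → F) →ₗ[F] (Fin n → F)) - 1 := by
    rw [map_sub, map_one]
    rfl
  refine ⟨U, K, S, ⟨⟨n, ?_⟩, fun h => hnz ?_⟩, ?_⟩
  · refine Matrix.toLinAlgEquiv'.injective ?_
    rw [map_pow, hmat, hnil, map_zero]
  · rw [← hmat, ← map_pow, h, map_zero]
  · refine Subgroup.map_injective (suHom_injective hF n) ?_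
    rw [MonoidHom.map_closure, Set.image_insert_eq, Set.image_pair, map_mul, map_mul, map_inv,
      map_mul, map_mul, map_inv, hclo, ← MonoidHom.range_eq_map, range_suHom]

end Cfsg.Agent.S2282
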