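import Cfsg.Statements.S2290
import Cfsg.Agent.Lib.Pres.PSLnPres
import Cfsg.Agent.S2278
import Cfsg.Agent.S2279
-- import your own Cfsg.Agent.* helpers here

set_option autoImplicit false
open Cfsg

namespace Cfsg.Agent.S2290

/-- For every finite field F with q elements and n ≥ 2, with q ≥ 4 when n = 2, the simple group PSL_n(F) has a presentation with 2 generators and at most 80 relations. -/
theorem result {F : Type*} [Field F] [Fintype F] (n : ℕ) (hn : 2 ≤ n) (h2 : n = 2 → 4 ≤ Fintype.card F) :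
    ∃ rels : Finset (FreeGroup (Fin 2)), rels.card ≤ 80 ∧ Nonempty (PresentedGroup (↑rels : Set (FreeGroup (Fin 2))) ≃* Matrix.ProjectiveSpecialLinearGroup (Fin n) F) := by
  rcases lt_trichotomy n 3 with h | h | h
  · obtain rfl : n = 2 := by omega
    obtain ⟨z, hz⟩ := IsCyclic.exists_generator (α := Fˣ)
    have h9 : CfsgLib.Pres.PresBy 3 (Matrix.ProjectiveSpecialLinearGroup (Fin 2) F) 9 :=
      (CfsgLib.Pres.presentations F).2.1
    exact (CfsgLib.Pres.psl_two_gens h9 _ _ (CfsgLib.Pres.pair_gen z hz).2).mono (by norm_num)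
  · subst h
    obtain ⟨u, g, -, -, hug⟩ := Cfsg.Agent.S2278.result (F := F)
    have h14 : CfsgLib.Pres.PresBy 4 (Matrix.SpecialLinearGroup (Fin 3) F) 14 := CfsgLib.Pres.sl_three
    exact (CfsgLib.Pres.psl_two_gens (CfsgLib.Pres.psl_of_sl h14) _ _ hug).mono (by norm_num)
  · obtain ⟨⟨u, v, -, -, huv⟩, -⟩ := Cfsg.Agent.S2279.result (F := F) n h
    exact (CfsgLib.Pres.psl_two_gens (CfsgLib.Pres.psl_of_sl (CfsgLib.Pres.sl_n h)) _ _ huv).mono (by norm_num)

end Cfsg.Agent.S2290
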