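import Cfsg.Statements.S2292
import Cfsg.Agent.Lib.Pres.SpPres
import Cfsg.Agent.Lib.KnownB.SpTwoGen

set_option autoImplicit false
open Cfsg

namespace Cfsg.Agent.S2292

/-- Let F be a finite field with q elements and m ≥ 2 with (m, q) ≠ (2, 2). Then the simple group PSp_2m(F) has a presentation with 2 generators and at most 80 relations. -/
theorem result {F : Type*} [Field F] [Fintype F] (m : ℕ) (hm : 2 ≤ m) (h22 : ¬ (m = 2 ∧ Fintype.card F = 2)) :
    ∃ rels : Finset (FreeGroup (Fin 2)), rels.card ≤ 80 ∧ Nonempty (PresentedGroup (↑rels : Set (FreeGroup (Fin 2))) ≃* Cfsg.PSp m F) := by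
  obtain ⟨a, b, hab⟩ := CfsgLib.KnownB.SpTwoGen.psp_two_gen (F := F) hm (fun h => by
    have := Fintype.one_lt_card (α := F)
    rcases Nat.lt_or_ge 2 (Fintype.card F) with h2 | h2
    · exact h2
    · exact absurd ⟨h, by omega⟩ h22)
  have hgen : Subgroup.closure (Set.range ![a, b]) = ⊤ := by
    rw [Matrix.range_cons_cons_empty]; exact hab
  have key : ∀ k K, CfsgLib.Pres.PresBy k (Cfsg.PSp m F) K → K ≤ 78 → CfsgLib.Pres.PresBy 2 (Cfsg.PSp m F) 80 :=
    fun k K h hK => (h.gens ![a, b] hgen).mono (by omega)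
  rcases (show m = 2 ∨ m = 3 ∨ 4 ≤ m by omega) with rfl | rfl | h4
  · obtain ⟨rels, hr, he⟩ := CfsgLib.Pres.SpFour.psp_four_pres F
    exact key 6 32 ⟨rels, hr, he⟩ (by norm_num)
  · exact key 8 53 (CfsgLib.Pres.SpN.psp_of_sp (by norm_num) CfsgLib.Pres.SpN.sp_three) (by norm_num)
  · exact key 8 56 (CfsgLib.Pres.SpN.psp_of_sp (by omega) (CfsgLib.Pres.SpN.sp_large h4)) (by norm_num)

end Cfsg.Agent.S2292
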