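import Cfsg.Statements.S2298
import Cfsg.Agent.Lib.KnownB.GL2Count

-- import your own Cfsg.Agent.* helpers here

set_option autoImplicit false
open Cfsg

namespace Cfsg.Agent.S2298

open CfsgLib.KnownB.GL2

/-- Over a finite field F with q elements, every irreducible complex character of GL₂ has degree 1, q − 1, q or q + 1; and when q ≥ 3 (so that these four numbers are distinct) there are exactly q − 1 irreducible characters of degree 1, exactly q − 1 of degree q, exactly (q − 1)(q − 2)/2 of degree q + 1 and exactly q(q − 1)/2 of degree q − 1. -/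
theorem result {F : Type*} [Field F] [Fintype F] :
    (∀ χ : Matrix.GeneralLinearGroup (Fin 2) F → ℂ, Cfsg.IsIrrCharacter (Matrix.GeneralLinearGroup (Fin 2) F) χ →
      χ 1 = 1 ∨ χ 1 = (Fintype.card F : ℂ) - 1 ∨ χ 1 = (Fintype.card F : ℂ) ∨ χ 1 = (Fintype.card F : ℂ) + 1) ∧
    (3 ≤ Fintype.card F →
      Nat.card {χ : Cfsg.IrrCharacter (Matrix.GeneralLinearGroup (Fin 2) F) // (χ : Matrix.GeneralLinearGroup (Fin 2) F → ℂ) 1 = 1} = Fintype.card F - 1 ∧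
      Nat.card {χ : Cfsg.IrrCharacter (Matrix.GeneralLinearGroup (Fin 2) F) // (χ : Matrix.GeneralLinearGroup (Fin 2) F → ℂ) 1 = (Fintype.card F : ℂ)} = Fintype.card F - 1 ∧
      Nat.card {χ : Cfsg.IrrCharacter (Matrix.GeneralLinearGroup (Fin 2) F) // (χ : Matrix.GeneralLinearGroup (Fin 2) F → ℂ) 1 = (Fintype.card F : ℂ) + 1} = (Fintype.card F - 1) * (Fintype.card F - 2) / 2 ∧
      Nat.card {χ : Cfsg.IrrCharacter (Matrix.GeneralLinearGroup (Fin 2) F) // (χ : Matrix.GeneralLinearGroup (Fin 2) F → ℂ) 1 = (Fintype.card F : ℂ) - 1} = Fintype.card F * (Fintype.card F - 1) / 2) := by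
  classical
  obtain ⟨E, _, _, _, _⟩ := exists_quad F
  refine ⟨fun χ hχ => ?_, fun hq => ?_⟩
  · rcases irr_cases E hχ with ⟨c, rfl⟩ | ⟨c, rfl⟩ | ⟨α, β, -, rfl⟩ | ⟨ν, -, rfl⟩
    · exact Or.inl (detC_one c)
    · exact Or.inr (Or.inr (Or.inl (St_one c)))
    · exact Or.inr (Or.inr (Or.inr (I_one α β)))
    · exact Or.inr (Or.inl (X_one ν))
  have h3 : (3 : ℝ) ≤ Fintype.card F := by exact_mod_cast hq
  have key : ∀ (χ : Matrix.GeneralLinearGroup (Fin 2) F → ℂ),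
      (χ ∈ Dset F ↔ Cfsg.IsIrrCharacter _ χ ∧ χ 1 = 1) ∧
      (χ ∈ Sset F ↔ Cfsg.IsIrrCharacter _ χ ∧ χ 1 = (Fintype.card F : ℂ)) ∧
      (χ ∈ Iset F ↔ Cfsg.IsIrrCharacter _ χ ∧ χ 1 = (Fintype.card F : ℂ) + 1) ∧
      (χ ∈ Xset F E ↔ Cfsg.IsIrrCharacter _ χ ∧ χ 1 = (Fintype.card F : ℂ) - 1) := by
    intro χ
    refine ⟨⟨?_, ?_⟩, ⟨?_, ?_⟩, ⟨?_, ?_⟩, ⟨?_, ?_⟩⟩
    · rintro ⟨c, rfl⟩; exact ⟨isIrr_detC c, detC_one c⟩
    rotate_left
    · rintro ⟨c, rfl⟩; exact ⟨isIrr_St c, St_one c⟩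
    rotate_left
    · rintro ⟨p, hp, rfl⟩; exact ⟨isIrr_I hp, I_one _ _⟩
    rotate_left
    · rintro ⟨ν, hν, rfl⟩; exact ⟨isIrr_X hν, X_one ν⟩
    all_goals
      rintro ⟨hχ, hdeg⟩
      rcases irr_cases E hχ with ⟨c, rfl⟩ | ⟨c, rfl⟩ | ⟨α, β, hab, rfl⟩ | ⟨ν, hν, rfl⟩ <;>
        first
          | exact ⟨c, rfl⟩
          | exact ⟨(α, β), hab, rfl⟩
          | exact ⟨ν, hν, rfl⟩
          | (simp only [detC_one, St_one, I_one, X_one] at hdeg
             replace hdeg := congrArg Complex.re hdeg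
             simp at hdeg <;> linarith)
  refine ⟨?_, ?_, ?_, ?_⟩
  · rw [natCard_irr_deg (Dset F) 1 fun χ => (key χ).1, ncard_Dset]
  · rw [natCard_irr_deg (Sset F) _ fun χ => (key χ).2.1, ncard_Sset]
  · rw [natCard_irr_deg (Iset F) _ fun χ => (key χ).2.2.1, ← ncard_Iset,
      Nat.mul_div_cancel_left _ (by norm_num)]
  · rw [natCard_irr_deg (Xset F E) _ fun χ => (key χ).2.2.2, ← ncard_Xset (E := E),
      Nat.mul_div_cancel_left _ (by norm_num)]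

end Cfsg.Agent.S2298
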