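import Cfsg.Statements.S2299
import Cfsg.Agent.Lib.KnownB.SL2Count

-- import your own Cfsg.Agent.* helpers here

set_option autoImplicit false
open Cfsg

namespace Cfsg.Agent.S2299

open CfsgLib.KnownB.GL2 CfsgLib.KnownB.SL2

/-- Over a finite field F with q elements, q odd, every irreducible complex character of SL₂ has degree 1, q, q + 1, q − 1, (q + 1)/2 or (q − 1)/2; and when q ≥ 5 (so that these six numbers are distinct) there are exactly one irreducible character of degree 1, one of degree q, (q − 3)/2 of degree q + 1, (q − 1)/2 of degree q − 1, two of degree (q + 1)/2 and two of degree (q − 1)/2. -/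
theorem result {F : Type*} [Field F] [Fintype F] (hodd : Odd (Fintype.card F)) :
    (∀ χ : Matrix.SpecialLinearGroup (Fin 2) F → ℂ, Cfsg.IsIrrCharacter (Matrix.SpecialLinearGroup (Fin 2) F) χ →
      χ 1 = 1 ∨ χ 1 = (Fintype.card F : ℂ) ∨ χ 1 = (Fintype.card F : ℂ) + 1 ∨ χ 1 = (Fintype.card F : ℂ) - 1 ∨
        χ 1 = (((Fintype.card F + 1) / 2 : ℕ) : ℂ) ∨ χ 1 = (((Fintype.card F - 1) / 2 : ℕ) : ℂ)) ∧
    (5 ≤ Fintype.card F →
      Nat.card {χ : Cfsg.IrrCharacter (Matrix.SpecialLinearGroup (Fin 2) F) // (χ : Matrix.SpecialLinearGroup (Fin 2) F → ℂ) 1 = 1} = 1 ∧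
      Nat.card {χ : Cfsg.IrrCharacter (Matrix.SpecialLinearGroup (Fin 2) F) // (χ : Matrix.SpecialLinearGroup (Fin 2) F → ℂ) 1 = (Fintype.card F : ℂ)} = 1 ∧
      Nat.card {χ : Cfsg.IrrCharacter (Matrix.SpecialLinearGroup (Fin 2) F) // (χ : Matrix.SpecialLinearGroup (Fin 2) F → ℂ) 1 = (Fintype.card F : ℂ) + 1} = (Fintype.card F - 3) / 2 ∧
      Nat.card {χ : Cfsg.IrrCharacter (Matrix.SpecialLinearGroup (Fin 2) F) // (χ : Matrix.SpecialLinearGroup (Fin 2) F → ℂ) 1 = (Fintype.card F : ℂ) - 1} = (Fintype.card F - 1) / 2 ∧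
      Nat.card {χ : Cfsg.IrrCharacter (Matrix.SpecialLinearGroup (Fin 2) F) // (χ : Matrix.SpecialLinearGroup (Fin 2) F → ℂ) 1 = (((Fintype.card F + 1) / 2 : ℕ) : ℂ)} = 2 ∧
      Nat.card {χ : Cfsg.IrrCharacter (Matrix.SpecialLinearGroup (Fin 2) F) // (χ : Matrix.SpecialLinearGroup (Fin 2) F → ℂ) 1 = (((Fintype.card F - 1) / 2 : ℕ) : ℂ)} = 2) := by
  classical
  obtain ⟨E, _, _, _, _⟩ := exists_quad F
  obtain ⟨D⟩ := exists_oddData E hodd
  have hdeg := D.degrees hodd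
  refine ⟨fun χ hχ => ?_, fun hq => ?_⟩
  · rcases D.cases hodd hχ with rfl | rfl | ⟨α, -, rfl⟩ | ⟨μ, -, rfl⟩ | rfl | rfl | rfl | rfl
    · exact Or.inl rfl
    · exact Or.inr (Or.inl St0_one)
    · exact Or.inr (Or.inr (Or.inl (P_one α)))
    · exact Or.inr (Or.inr (Or.inr (Or.inl (C_one μ))))
    · exact Or.inr (Or.inr (Or.inr (Or.inr (Or.inl hdeg.1))))
    · exact Or.inr (Or.inr (Or.inr (Or.inr (Or.inl hdeg.2.1))))
    · exact Or.inr (Or.inr (Or.inr (Or.inr (Or.inr hdeg.2.2.1))))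
    · exact Or.inr (Or.inr (Or.inr (Or.inr (Or.inr hdeg.2.2.2))))
  have h5 : (5 : ℝ) ≤ Fintype.card F := by exact_mod_cast hq
  obtain ⟨hPn, hCn, -, hpne, hcne⟩ := counts_odd hodd D
  refine ⟨?_, ?_, ?_, ?_, ?_, ?_⟩
  · rw [natCard_deg {fun _ => 1} 1 fun χ => ?_, Set.ncard_singleton]
    constructor
    · rintro rfl; exact ⟨CfsgLib.Char.isIrrCharacter_one, rfl⟩
    · rintro ⟨hχ, hd⟩
      rcases D.cases hodd hχ with rfl | rfl | ⟨α, -, rfl⟩ | ⟨μ, -, rfl⟩ | rfl | rfl | rfl | rfl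
      · rfl
      all_goals
        exfalso
        simp only [St0_one, P_one, C_one, hdeg.1, hdeg.2.1, hdeg.2.2.1, hdeg.2.2.2,
          (half_cast hodd).1, (half_cast hodd).2] at hd
        replace hd := congrArg Complex.re hd
        simp at hd <;> linarith
  · rw [natCard_deg {St0} _ fun χ => ?_, Set.ncard_singleton]
    exact ⟨by rintro rfl; exact ⟨isIrr_St0, St0_one⟩, fun h => irr_deg_q h.1 h.2⟩
  · rw [natCard_deg (Pset F) _ fun χ => ⟨Pset_deg, fun h => ?_⟩]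
    · omega
    · obtain ⟨α, hα, rfl⟩ := irr_deg_q_add_one h.1 h.2; exact ⟨α, hα, rfl⟩
  · rw [natCard_deg (Cset F E) _ fun χ => ⟨Cset_deg, fun h => ?_⟩]
    · omega
    · obtain ⟨μ, hμ, rfl⟩ := irr_deg_q_sub_one E (by omega) h.1 h.2; exact ⟨μ, hμ, rfl⟩
  · rw [natCard_deg {D.p₁, D.p₂} _ fun χ => ?_, Set.ncard_pair hpne]
    refine ⟨?_, fun h => D.deg_half_plus hodd hq h.1 h.2⟩
    rintro (rfl | rfl)
    · exact ⟨D.hP.irr₁, hdeg.1⟩
    · exact ⟨D.hP.irr₂, hdeg.2.1⟩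
  · rw [natCard_deg {D.c₁, D.c₂} _ fun χ => ?_, Set.ncard_pair hcne]
    refine ⟨?_, fun h => D.deg_half_minus hodd hq h.1 h.2⟩
    rintro (rfl | rfl)
    · exact ⟨D.hC.irr₁, hdeg.2.2.1⟩
    · exact ⟨D.hC.irr₂, hdeg.2.2.2⟩

end Cfsg.Agent.S2299
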