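import Cfsg.Statements.S2300
import Cfsg.Agent.Lib.KnownB.SL2Count

-- import your own Cfsg.Agent.* helpers here

set_option autoImplicit false
open Cfsg

namespace Cfsg.Agent.S2300

open CfsgLib.KnownB.GL2 CfsgLib.KnownB.SL2

/-- Over a finite field F with q elements, q even, every irreducible complex character of SL₂ has degree 1, q − 1, q or q + 1; and when q ≥ 4 (so that these four numbers are distinct) there are exactly one irreducible character of degree 1, one of degree q, (q − 2)/2 of degree q + 1 and q/2 of degree q − 1. -/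
theorem result {F : Type*} [Field F] [Fintype F] [CharP F 2] :
    (∀ χ : Matrix.SpecialLinearGroup (Fin 2) F → ℂ, Cfsg.IsIrrCharacter (Matrix.SpecialLinearGroup (Fin 2) F) χ →
      χ 1 = 1 ∨ χ 1 = (Fintype.card F : ℂ) - 1 ∨ χ 1 = (Fintype.card F : ℂ) ∨ χ 1 = (Fintype.card F : ℂ) + 1) ∧
    (4 ≤ Fintype.card F →
      Nat.card {χ : Cfsg.IrrCharacter (Matrix.SpecialLinearGroup (Fin 2) F) // (χ : Matrix.SpecialLinearGroup (Fin 2) F → ℂ) 1 = 1} = 1 ∧
      Nat.card {χ : Cfsg.IrrCharacter (Matrix.SpecialLinearGroup (Fin 2) F) // (χ : Matrix.SpecialLinearGroup (Fin 2) F → ℂ) 1 = (Fintype.card F : ℂ)} = 1 ∧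
      Nat.card {χ : Cfsg.IrrCharacter (Matrix.SpecialLinearGroup (Fin 2) F) // (χ : Matrix.SpecialLinearGroup (Fin 2) F → ℂ) 1 = (Fintype.card F : ℂ) + 1} = (Fintype.card F - 2) / 2 ∧
      Nat.card {χ : Cfsg.IrrCharacter (Matrix.SpecialLinearGroup (Fin 2) F) // (χ : Matrix.SpecialLinearGroup (Fin 2) F → ℂ) 1 = (Fintype.card F : ℂ) - 1} = Fintype.card F / 2) := by
  classical
  obtain ⟨E, _, _, _, _⟩ := exists_quad F
  have he : ¬ Odd (Fintype.card F) := fun h => two_ne h (by exact_mod_cast CharP.cast_eq_zero F 2)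
  refine ⟨fun χ hχ => ?_, fun hq => ?_⟩
  · rcases irr_cases_even E he hχ with rfl | rfl | ⟨α, -, rfl⟩ | ⟨μ, -, rfl⟩
    · exact Or.inl rfl
    · exact Or.inr (Or.inr (Or.inl St0_one))
    · exact Or.inr (Or.inr (Or.inr (P_one α)))
    · exact Or.inr (Or.inl (C_one μ))
  have h4 : (4 : ℝ) ≤ Fintype.card F := by exact_mod_cast hq
  obtain ⟨hPn, hCn, -⟩ := counts_even E he
  refine ⟨?_, ?_, ?_, ?_⟩
  · rw [natCard_deg {fun _ => 1} 1 fun χ => ?_, Set.ncard_singleton]
    constructor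
    · rintro rfl; exact ⟨CfsgLib.Char.isIrrCharacter_one, rfl⟩
    · rintro ⟨hχ, hd⟩
      rcases irr_cases_even E he hχ with rfl | rfl | ⟨α, -, rfl⟩ | ⟨μ, -, rfl⟩
      · rfl
      all_goals
        exfalso
        simp only [St0_one, P_one, C_one] at hd
        replace hd := congrArg Complex.re hd
        simp at hd <;> linarith
  · rw [natCard_deg {St0} _ fun χ => ?_, Set.ncard_singleton]
    exact ⟨by rintro rfl; exact ⟨isIrr_St0, St0_one⟩, fun h => irr_deg_q h.1 h.2⟩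
  · rw [natCard_deg (Pset F) _ fun χ => ⟨Pset_deg, fun h => ?_⟩]
    · omega
    · obtain ⟨α, hα, rfl⟩ := irr_deg_q_add_one h.1 h.2; exact ⟨α, hα, rfl⟩
  · rw [natCard_deg (Cset F E) _ fun χ => ⟨Cset_deg, fun h => ?_⟩]
    · omega
    · obtain ⟨μ, hμ, rfl⟩ := irr_deg_q_sub_one E hq h.1 h.2; exact ⟨μ, hμ, rfl⟩

end Cfsg.Agent.S2300
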