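import Cfsg.Statements.S2301
import Cfsg.Agent.Lib.KnownB.SL2OrderP

-- import your own Cfsg.Agent.* helpers here

set_option autoImplicit false
open Cfsg

namespace Cfsg.Agent.S2301

open CfsgLib.KnownB.GL2 CfsgLib.KnownB.SL2

/-- Over a finite field with q elements of odd characteristic p, the elements of order p of SL₂ (the non-identity unipotent elements) fall into exactly two conjugacy classes, each of size (q² − 1)/2; two upper unitriangular matrices with non-zero off-diagonal entries b and b′ are conjugate exactly when bb′ is a square. -/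
theorem result {F : Type*} [Field F] [Fintype F] (p : ℕ) [Fact p.Prime] [CharP F p] (hp : p ≠ 2) :
    Nat.card {C : ConjClasses (Matrix.SpecialLinearGroup (Fin 2) F) // ∃ g : Matrix.SpecialLinearGroup (Fin 2) F, orderOf g = p ∧ ConjClasses.mk g = C} = 2 ∧
    (∀ g : Matrix.SpecialLinearGroup (Fin 2) F, orderOf g = p → Nat.card (ConjClasses.mk g).carrier = (Fintype.card F ^ 2 - 1) / 2) ∧
    ∀ g h : Matrix.SpecialLinearGroup (Fin 2) F, (g : Matrix (Fin 2) (Fin 2) F) 0 0 = 1 → (g : Matrix (Fin 2) (Fin 2) F) 1 1 = 1 → (g : Matrix (Fin 2) (Fin 2) F) 1 0 = 0 → (g : Matrix (Fin 2) (Fin 2) F) 0 1 ≠ 0 →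
      (h : Matrix (Fin 2) (Fin 2) F) 0 0 = 1 → (h : Matrix (Fin 2) (Fin 2) F) 1 1 = 1 → (h : Matrix (Fin 2) (Fin 2) F) 1 0 = 0 → (h : Matrix (Fin 2) (Fin 2) F) 0 1 ≠ 0 →
      (IsConj g h ↔ IsSquare ((g : Matrix (Fin 2) (Fin 2) F) 0 1 * (h : Matrix (Fin 2) (Fin 2) F) 0 1)) := by
  classical
  have hodd := odd_of_ne_two (F := F) p hp
  obtain ⟨ε, hε⟩ := nonsquare_exists hodd
  obtain ⟨hc1, hc2⟩ := carrier_card_odd hodd ε hε
  have hu : orderOf (u₀ : Matrix.SpecialLinearGroup (Fin 2) F) = p :=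
    (orderOf_eq_p_iff p _).mpr u₀_dbl
  have hu' : orderOf (outer ε u₀ : Matrix.SpecialLinearGroup (Fin 2) F) = p := by
    rw [orderOf_injective (outer ε) (outer_injective ε), hu]
  have hcases : ∀ g : Matrix.SpecialLinearGroup (Fin 2) F, orderOf g = p →
      IsConj g u₀ ∨ IsConj g (outer ε u₀) := fun g hg =>
    dbl_one_cases ε hε ((orderOf_eq_p_iff p g).mp hg).1 ((orderOf_eq_p_iff p g).mp hg).2
  refine ⟨?_, fun g hg => ?_, fun g h h00 h11 h10 h01 k00 k11 k10 k01 => ?_⟩
  · rw [show Nat.card {C : ConjClasses (Matrix.SpecialLinearGroup (Fin 2) F) //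
        ∃ g : Matrix.SpecialLinearGroup (Fin 2) F, orderOf g = p ∧ ConjClasses.mk g = C} =
      ({ConjClasses.mk u₀, ConjClasses.mk (outer ε u₀)} :
        Set (ConjClasses (Matrix.SpecialLinearGroup (Fin 2) F))).ncard from ?_, Set.ncard_pair ?_]
    · rw [ne_eq, ConjClasses.mk_eq_mk_iff_isConj]
      exact not_isConj_u₀_outer ε hε
    · rw [← Nat.card_coe_set_eq]
      refine Nat.card_congr (Equiv.subtypeEquivRight fun C => ?_)
      simp only [Set.mem_insert_iff, Set.mem_singleton_iff]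
      constructor
      · rintro ⟨g, hg, rfl⟩
        rcases hcases g hg with h | h
        · exact Or.inl (ConjClasses.mk_eq_mk_iff_isConj.mpr h)
        · exact Or.inr (ConjClasses.mk_eq_mk_iff_isConj.mpr h)
      · rintro (rfl | rfl)
        · exact ⟨u₀, hu, rfl⟩
        · exact ⟨outer ε u₀, hu', rfl⟩
  · have h2 : 2 * Nat.card (ConjClasses.mk (u₀ : Matrix.SpecialLinearGroup (Fin 2) F)).carrier =
        Fintype.card F ^ 2 - 1 := by
      have h1 : 1 ≤ Fintype.card F ^ 2 := Nat.one_le_pow _ _ Fintype.card_pos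
      zify [h1]
      exact hc1
    rcases hcases g hg with h | h
    · rw [ConjClasses.mk_eq_mk_iff_isConj.mpr h]; omega
    · rw [ConjClasses.mk_eq_mk_iff_isConj.mpr h, hc2]; omega
  · have e : ∀ k : Matrix.SpecialLinearGroup (Fin 2) F,
        (k : Matrix (Fin 2) (Fin 2) F) 0 0 = 1 → (k : Matrix (Fin 2) (Fin 2) F) 1 1 = 1 →
        (k : Matrix (Fin 2) (Fin 2) F) 1 0 = 0 →
        k = utri 1 ((k : Matrix (Fin 2) (Fin 2) F) 0 1) (one_mul 1) := by
      intro k a b c
      refine Subtype.ext ?_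
      rw [coe_utri]
      ext i j
      fin_cases i <;> fin_cases j <;> simp [a, b, c]
    conv_lhs => rw [e g h00 h11 h10, e h k00 k11 k10]
    exact isConj_utri_iff (one_mul 1) h01 k01

end Cfsg.Agent.S2301
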