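import Cfsg.Statements.S2302
import Cfsg.Agent.Lib.KnownB.SL2OrderP

-- import your own Cfsg.Agent.* helpers here

set_option autoImplicit false
open Cfsg

namespace Cfsg.Agent.S2302

open CfsgLib.KnownB.GL2 CfsgLib.KnownB.SL2

/-- Over a finite field with q elements of characteristic 2, the involutions of SL₂ (the non-identity unipotent elements) form a single conjugacy class, of size q² − 1. -/
theorem result {F : Type*} [Field F] [Fintype F] [CharP F 2] (g h : Matrix.SpecialLinearGroup (Fin 2) F) (hg : orderOf g = 2) (hh : orderOf h = 2) :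
    IsConj g h ∧ Nat.card (ConjClasses.mk g).carrier = Fintype.card F ^ 2 - 1 := by
  classical
  have : Fact (Nat.Prime 2) := ⟨Nat.prime_two⟩
  obtain ⟨hg1, hg2⟩ := (orderOf_eq_p_iff 2 g).mp hg
  obtain ⟨hh1, hh2⟩ := (orderOf_eq_p_iff 2 h).mp hh
  have h20 : (2 : F) = 0 := by exact_mod_cast CharP.cast_eq_zero F 2
  have hconj : ∀ k : Matrix.SpecialLinearGroup (Fin 2) F,
      NonScalar (k : Matrix (Fin 2) (Fin 2) F) ∧ (k : Matrix (Fin 2) (Fin 2) F).trace = 1 + 1 →
        IsConj g k := fun k hk =>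
    isConj_of_isConj_gl (isConj_of_trace_det hg1 hk.1 (hg2.trans hk.2.symm)
      ((det_ι g).trans (det_ι k).symm)) (Or.inr h20)
  refine ⟨hconj h ⟨hh1, hh2⟩, ?_⟩
  have h1 : 1 ≤ Fintype.card F ^ 2 := Nat.one_le_pow _ _ Fintype.card_pos
  rw [show Nat.card (ConjClasses.mk g).carrier = Nat.card {s : Matrix.SpecialLinearGroup (Fin 2) F //
      NonScalar (s : Matrix (Fin 2) (Fin 2) F) ∧
        (s : Matrix (Fin 2) (Fin 2) F).trace = 1 + 1} from
    Nat.card_congr (Equiv.subtypeEquivRight fun s => by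
      rw [ConjClasses.mem_carrier_iff_mk_eq, ConjClasses.mk_eq_mk_iff_isConj]
      exact ⟨fun hs => isConj_dbl hs.symm ⟨hg1, hg2⟩, fun hs => (hconj s hs).symm⟩)]
  zify [h1]
  exact natCard_dbl

end Cfsg.Agent.S2302
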