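import Cfsg.Statements.S2303
import Cfsg.Agent.Lib.KnownB.GL2Types

-- import your own Cfsg.Agent.* helpers here

set_option autoImplicit false
open Cfsg

namespace Cfsg.Agent.S2303

open CfsgLib.KnownB.GL2

/-- Over a finite field with q elements: a diagonal element of GL₂ with two distinct diagonal entries has centralizer of order (q − 1)² (so q(q + 1) conjugates), and an element of GL₂ with no eigenvector in F² has centralizer of order q² − 1 (so q(q − 1) conjugates). -/
theorem result {F : Type*} [Field F] [Fintype F] (g : Matrix.GeneralLinearGroup (Fin 2) F) :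
    ((g : Matrix (Fin 2) (Fin 2) F) 0 1 = 0 → (g : Matrix (Fin 2) (Fin 2) F) 1 0 = 0 → (g : Matrix (Fin 2) (Fin 2) F) 0 0 ≠ (g : Matrix (Fin 2) (Fin 2) F) 1 1 →
      Nat.card (Subgroup.centralizer ({g} : Set (Matrix.GeneralLinearGroup (Fin 2) F))) = (Fintype.card F - 1) ^ 2) ∧
    ((∀ (c : F) (v : Fin 2 → F), v ≠ 0 → (g : Matrix (Fin 2) (Fin 2) F).mulVec v ≠ c • v) →
      Nat.card (Subgroup.centralizer ({g} : Set (Matrix.GeneralLinearGroup (Fin 2) F))) = Fintype.card F ^ 2 - 1) := by
  classical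
  obtain ⟨E, _, _, _, _⟩ := exists_quad F
  refine ⟨fun h01 h10 hne => ?_, fun h => ?_⟩
  · obtain ⟨ht, hd⟩ := diag_data h01 h10
    have hc := (centralizer_split hne ht hd).2
    have hq : 1 ≤ Fintype.card F := Fintype.card_pos
    exact_mod_cast hc.trans (show ((Fintype.card F : ℂ) - 1) ^ 2 =
      (((Fintype.card F - 1) ^ 2 : ℕ) : ℂ) by push_cast [Nat.cast_sub hq]; ring)
  · obtain ⟨x, hx, ht, hd⟩ := ell_of_noEig E h
    have hc := (centralizer_ell hx ht hd).2
    have hq : 1 ≤ Fintype.card F ^ 2 := Nat.one_le_pow _ _ Fintype.card_pos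
    exact_mod_cast hc.trans (show (Fintype.card F : ℂ) ^ 2 - 1 =
      ((Fintype.card F ^ 2 - 1 : ℕ) : ℂ) by push_cast [Nat.cast_sub hq]; ring)

end Cfsg.Agent.S2303
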