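import Cfsg.Statements.S2308
import Cfsg.Agent.Lib.KnownB.GL2Types

-- import your own Cfsg.Agent.* helpers here

set_option autoImplicit false
open Cfsg

namespace Cfsg.Agent.S2308

open CfsgLib.KnownB.GL2

/-- Values of the permutation character of GL₂ over a finite field F with q elements on the cosets of its upper triangular subgroup (equivalently, the number of lines of F² that an element maps to themselves): q + 1 at a scalar matrix, 2 at a diagonal matrix with two different diagonal entries, 0 at an element with no eigenvector in F², and 1 at an upper triangular matrix with equal diagonal entries and non-zero upper right entry. -/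
theorem result {F : Type*} [Field F] [Fintype F] (g : Matrix.GeneralLinearGroup (Fin 2) F) :
    ((∃ a : F, (g : Matrix (Fin 2) (Fin 2) F) = a • (1 : Matrix (Fin 2) (Fin 2) F)) → Cfsg.fixedPointCharacter (Cfsg.upperTriangularGL 2 F) g = Fintype.card F + 1) ∧
    ((g : Matrix (Fin 2) (Fin 2) F) 0 1 = 0 → (g : Matrix (Fin 2) (Fin 2) F) 1 0 = 0 → (g : Matrix (Fin 2) (Fin 2) F) 0 0 ≠ (g : Matrix (Fin 2) (Fin 2) F) 1 1 →
      Cfsg.fixedPointCharacter (Cfsg.upperTriangularGL 2 F) g = 2) ∧
    ((∀ (c : F) (v : Fin 2 → F), v ≠ 0 → (g : Matrix (Fin 2) (Fin 2) F).mulVec v ≠ c • v) → Cfsg.fixedPointCharacter (Cfsg.upperTriangularGL 2 F) g = 0) ∧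
    ((g : Matrix (Fin 2) (Fin 2) F) 1 0 = 0 → (g : Matrix (Fin 2) (Fin 2) F) 0 0 = (g : Matrix (Fin 2) (Fin 2) F) 1 1 → (g : Matrix (Fin 2) (Fin 2) F) 0 1 ≠ 0 →
      Cfsg.fixedPointCharacter (Cfsg.upperTriangularGL 2 F) g = 1) := by
  classical
  obtain ⟨E, _, _, _, _⟩ := exists_quad F
  rw [borel_fixedPoint]
  refine ⟨?_, fun h01 h10 hne => ?_, fun h => ?_, fun h10 he h01 => ?_⟩
  · rintro ⟨a, ha⟩
    rw [(tbl_I (E := E) 1 1).scalar g a ha, one_apply_ne (scalar_trace_det ha).1]
    simp
  · obtain ⟨ht, hd⟩ := diag_data h01 h10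
    rw [(tbl_I (E := E) 1 1).split g _ _ hne ht hd, one_apply_ne (split_ne_zero hd).1,
      one_apply_ne (split_ne_zero hd).2]
    norm_num
  · obtain ⟨x, hx, ht, hd⟩ := ell_of_noEig E h
    exact (tbl_I (E := E) 1 1).ell g x hx ht hd
  · obtain ⟨hg, ht, hd⟩ := upper_data h10 he h01
    rw [(tbl_I (E := E) 1 1).double g _ hg ht hd, one_apply_ne (split_ne_zero hd).1, one_mul]

end Cfsg.Agent.S2308
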