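import Cfsg.Statements.S2309
import Cfsg.Agent.Lib.KnownB.GL2Types

-- import your own Cfsg.Agent.* helpers here

set_option autoImplicit false
open Cfsg

namespace Cfsg.Agent.S2309

open CfsgLib.KnownB.GL2

/-- Over a finite field F with q elements: every irreducible complex character of GL₂ of degree q − 1 vanishes at every diagonal matrix with two distinct entries, and every irreducible complex character of degree q + 1 vanishes at every element with no eigenvector in F². -/
theorem result {F : Type*} [Field F] [Fintype F] (χ : Matrix.GeneralLinearGroup (Fin 2) F → ℂ) (hχ : Cfsg.IsIrrCharacter (Matrix.GeneralLinearGroup (Fin 2) F) χ) (g : Matrix.GeneralLinearGroup (Fin 2) F) :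
    (χ 1 = (Fintype.card F : ℂ) - 1 → (g : Matrix (Fin 2) (Fin 2) F) 0 1 = 0 → (g : Matrix (Fin 2) (Fin 2) F) 1 0 = 0 → (g : Matrix (Fin 2) (Fin 2) F) 0 0 ≠ (g : Matrix (Fin 2) (Fin 2) F) 1 1 → χ g = 0) ∧
    (χ 1 = (Fintype.card F : ℂ) + 1 → (∀ (c : F) (v : Fin 2 → F), v ≠ 0 → (g : Matrix (Fin 2) (Fin 2) F).mulVec v ≠ c • v) → χ g = 0) := by
  classical
  obtain ⟨E, _, _, _, _⟩ := exists_quad F
  have hq2 : 2 ≤ Fintype.card F := Fintype.one_lt_card
  refine ⟨fun hdeg h01 h10 hne => ?_, fun hdeg h => ?_⟩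
  · obtain ⟨ht, hd⟩ := diag_data h01 h10
    obtain ⟨ha, hb⟩ := split_ne_zero hd
    rcases irr_cases E hχ with ⟨c, rfl⟩ | ⟨c, rfl⟩ | ⟨α, β, -, rfl⟩ | ⟨ν, -, rfl⟩
    · rw [detC_one] at hdeg
      have h2 : Fintype.card F = 2 := by
        exact_mod_cast (by linear_combination -hdeg : (Fintype.card F : ℂ) = 2)
      exfalso
      obtain ⟨u, hu⟩ := Fintype.card_eq_one_iff.mp
        (show Fintype.card Fˣ = 1 by rw [Fintype.card_units, h2])
      exact hne (congrArg Units.val ((hu (Units.mk0 _ ha)).trans (hu (Units.mk0 _ hb)).symm))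
    · rw [St_one] at hdeg
      exfalso
      have h2 : (1 : ℂ) = 0 := by linear_combination hdeg
      norm_num at h2
    · rw [I_one] at hdeg
      exfalso
      have h2 : (2 : ℂ) = 0 := by linear_combination hdeg
      norm_num at h2
    · exact (tbl_X (F := F) ν).split g _ _ hne ht hd
  · obtain ⟨x, hx, ht, hd⟩ := ell_of_noEig E h
    rcases irr_cases E hχ with ⟨c, rfl⟩ | ⟨c, rfl⟩ | ⟨α, β, -, rfl⟩ | ⟨ν, -, rfl⟩
    · rw [detC_one] at hdeg
      have : (Fintype.card F : ℂ) = 0 := by linear_combination -hdeg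
      exact absurd this (by simp)
    · rw [St_one] at hdeg
      exact absurd hdeg (by simp)
    · exact (tbl_I (E := E) α β).ell g x hx ht hd
    · rw [X_one] at hdeg
      exfalso
      have h2 : (2 : ℂ) = 0 := by linear_combination -hdeg
      norm_num at h2

end Cfsg.Agent.S2309
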