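import Cfsg.Statements.S2310
import Cfsg.Agent.Lib.KnownB.GL2Types

-- import your own Cfsg.Agent.* helpers here

set_option autoImplicit false
open Cfsg

namespace Cfsg.Agent.S2310

open CfsgLib.KnownB.GL2

/-- Over a finite field F with q ≥ 3 elements, let u be the upper unitriangular matrix of GL₂ with off-diagonal entry 1. An irreducible complex character χ of GL₂ takes at u the value 1 if χ has degree 1 or q + 1, the value −1 if χ has degree q − 1, and the value 0 if χ has degree q. -/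
theorem result {F : Type*} [Field F] [Fintype F] (hq : 3 ≤ Fintype.card F) (χ : Matrix.GeneralLinearGroup (Fin 2) F → ℂ) (hχ : Cfsg.IsIrrCharacter (Matrix.GeneralLinearGroup (Fin 2) F) χ)
    (u : Matrix.GeneralLinearGroup (Fin 2) F) (hu : (u : Matrix (Fin 2) (Fin 2) F) = !![1, 1; 0, 1]) :
    (χ 1 = 1 → χ u = 1) ∧ (χ 1 = (Fintype.card F : ℂ) + 1 → χ u = 1) ∧
    (χ 1 = (Fintype.card F : ℂ) - 1 → χ u = -1) ∧ (χ 1 = (Fintype.card F : ℂ) → χ u = 0) := by
  classical
  obtain ⟨E, _, _, _, _⟩ := exists_quad F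
  obtain ⟨hns, ht, hd⟩ := upper_data (M := (u : Matrix (Fin 2) (Fin 2) F))
    (by simp [hu]) (by simp [hu]) (by simp [hu])
  have e0 : (u : Matrix (Fin 2) (Fin 2) F) 0 0 = 1 := by simp [hu]
  rw [e0] at ht hd
  have h3 : (3 : ℝ) ≤ Fintype.card F := by exact_mod_cast hq
  refine ⟨?_, ?_, ?_, ?_⟩ <;> intro hdeg <;>
    rcases irr_cases E hχ with ⟨c, rfl⟩ | ⟨c, rfl⟩ | ⟨α, β, -, rfl⟩ | ⟨ν, -, rfl⟩ <;>
    first
      | (rw [(tbl_detC (E := E) c).double u 1 hns ht hd]; simp; done)
      | (rw [(tbl_St (E := E) c).double u 1 hns ht hd]; done)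
      | (rw [(tbl_I (E := E) α β).double u 1 hns ht hd]; simp; done)
      | (rw [(tbl_X (F := F) ν).double u 1 hns ht hd]; simp; done)
      | (simp only [detC_one, St_one, I_one, X_one] at hdeg
         replace hdeg := congrArg Complex.re hdeg
         simp at hdeg <;> linarith)

end Cfsg.Agent.S2310
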