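import Cfsg.Statements.S2313
import Cfsg.Agent.Lib.KnownB.ChevSteinberg
import Cfsg.Agent.Lib.Chev.CommGood
-- import your own Cfsg.Agent.* helpers here

set_option autoImplicit false
open Cfsg

namespace Cfsg.Agent.S2313

/-- In a Chevalley group of type G₂, B₂, D₄, F₄, E₆, E₇ or E₈ over a finite field, the restriction of the Steinberg character to the subgroup B = UH is the permutation character of B on the cosets of the diagonal subgroup H: at b ∈ B its value is the number of cosets xH, x ∈ B, with bxH = xH. -/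
theorem result {F : Type*} [Field F] [Fintype F] (D : Cfsg.Lie.ChevalleyDatum) (hD : D ∈ [Cfsg.Lie.chevG2, Cfsg.Lie.chevB2, Cfsg.Lie.chevD4, Cfsg.Lie.chevF4, Cfsg.Lie.chevE6, Cfsg.Lie.chevE7, Cfsg.Lie.chevE8]) (b : ↥((D.borelSubgroup F).subgroupOf (D.group F))) :
    D.steinbergCharacter F ((((D.borelSubgroup F).subgroupOf (D.group F)).subtype) b) =
      Cfsg.fixedPointCharacter (((D.diagonalSubgroup F).subgroupOf (D.group F)).subgroupOf ((D.borelSubgroup F).subgroupOf (D.group F))) b := by
  have g := CfsgLib.Chev.good_of_mem hD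
  have hc := CfsgLib.Chev.hasComm_of_mem hD
  have hse := CfsgLib.Chev.suppEq_of_mem hD
  show D.steinbergCharacter F (b : ↥(D.group F)) = _
  rw [g.steinberg_borel hc hse b.2]
  unfold Cfsg.fixedPointCharacter
  congr 1
  refine Nat.card_eq_of_bijective (fun v => ⟨((⟨v.1, Subgroup.mem_subgroupOf.2
    (Subgroup.mem_sup_left (Subgroup.mem_subgroupOf.1 v.2.1))⟩ :
      ↥((D.borelSubgroup F).subgroupOf (D.group F))) : _ ⧸ _), ?_⟩) ⟨?_, ?_⟩
  · have h := v.2.2
    rw [MulAction.mem_fixedBy, MulAction.Quotient.smul_coe, smul_eq_mul, eq_comm,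
      QuotientGroup.eq, Subgroup.mem_subgroupOf]
    simpa [mul_assoc] using h
  · intro v w h
    have h1 := QuotientGroup.eq.1 (Subtype.ext_iff.1 h)
    rw [Subgroup.mem_subgroupOf] at h1
    have h2 : (v.1⁻¹ * w.1 : ↥(D.group F)).1 ∈
        D.posUnipotent F ⊓ D.diagonalSubgroup F :=
      ⟨Subgroup.mem_subgroupOf.1 (mul_mem (inv_mem v.2.1) w.2.1),
        Subgroup.mem_subgroupOf.1 h1⟩
    rw [g.pos_inf_diagonal, Subgroup.mem_bot] at h2
    exact Subtype.ext (inv_mul_eq_one.1 (Subtype.ext h2))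
  · rintro ⟨c, hcf⟩
    induction c using QuotientGroup.induction_on with
    | _ a =>
      obtain ⟨u, hu, h, hh, hae⟩ := g.mem_borel.1 (Subgroup.mem_subgroupOf.1 a.2)
      let v : ↥(D.group F) := ⟨u, g.posUnipotent_le_group hu⟩
      let k : ↥(D.group F) := ⟨h, g.diagonal_le_group hh⟩
      have ha : a.1 = v * k := Subtype.ext hae.symm
      have hk : k ∈ (D.diagonalSubgroup F).subgroupOf (D.group F) :=
        Subgroup.mem_subgroupOf.2 hh
      rw [MulAction.mem_fixedBy, MulAction.Quotient.smul_coe, smul_eq_mul, eq_comm,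
        QuotientGroup.eq, Subgroup.mem_subgroupOf, Subgroup.coe_mul, Subgroup.coe_inv,
        Subgroup.coe_mul] at hcf
      refine ⟨⟨v, Subgroup.mem_subgroupOf.2 hu, ?_⟩, Subtype.ext ?_⟩
      · have := mul_mem (mul_mem hk hcf) (inv_mem hk)
        rw [ha] at this
        simpa [mul_assoc] using this
      · refine QuotientGroup.eq.2 (Subgroup.mem_subgroupOf.2 ?_)
        simpa [ha] using hk

end Cfsg.Agent.S2313
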