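import Cfsg.Statements.S2315
import Cfsg.Agent.Lib.KnownB.NilCount

-- import your own Cfsg.Agent.* helpers here

set_option autoImplicit false
open Cfsg

namespace Cfsg.Agent.S2315

/-- Steinberg's count of unipotent elements for the general linear group: over a finite field with q elements of characteristic p, the number of elements of GL_n of p-power order (the unipotent matrices) is q^(n(n−1)). -/
theorem result {F : Type*} [Field F] [Fintype F] (p : ℕ) [Fact p.Prime] [CharP F p] (n : ℕ) :
    Nat.card {g : Matrix.GeneralLinearGroup (Fin n) F // ∃ k : ℕ, orderOf g = p ^ k} = Fintype.card F ^ (n * (n - 1)) := by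
  classical
  have hexp : ∀ M : Matrix (Fin n) (Fin n) F, ∀ k : ℕ, (1 + M) ^ p ^ k = 1 + M ^ p ^ k := by
    intro M k
    rcases Nat.eq_zero_or_pos n with rfl | hn
    · exact Subsingleton.elim _ _
    · haveI : Nonempty (Fin n) := ⟨⟨0, hn⟩⟩
      rw [add_pow_char_pow_of_commute p k (Commute.one_left M), one_pow]
  have hiff : ∀ g : Matrix.GeneralLinearGroup (Fin n) F,
      (∃ k : ℕ, orderOf g = p ^ k) ↔ IsNilpotent ((g : Matrix (Fin n) (Fin n) F) - 1) := by
    intro g
    constructor
    · rintro ⟨k, hk⟩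
      refine ⟨p ^ k, ?_⟩
      have h := hexp ((g : Matrix (Fin n) (Fin n) F) - 1) k
      rw [add_sub_cancel, ← Units.val_pow_eq_pow_val, ← hk, pow_orderOf_eq_one, Units.val_one,
        left_eq_add, hk] at h
      exact h
    · rintro ⟨m, hm⟩
      obtain ⟨k, hk⟩ := Nat.exists_eq_add_of_le (Nat.le_of_lt (Nat.lt_pow_self (Fact.out : p.Prime).one_lt : m < p ^ m))
      have h0 : ((g : Matrix (Fin n) (Fin n) F) - 1) ^ p ^ m = 0 := by
        rw [hk, pow_add, hm, zero_mul]
      have h := hexp ((g : Matrix (Fin n) (Fin n) F) - 1) m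
      rw [add_sub_cancel, h0, add_zero, ← Units.val_pow_eq_pow_val] at h
      obtain ⟨j, -, hj⟩ := (Nat.dvd_prime_pow Fact.out).mp
        (orderOf_dvd_of_pow_eq_one (Units.ext (by rw [h, Units.val_one]) : g ^ p ^ m = 1))
      exact ⟨j, hj⟩
  have e : {g : Matrix.GeneralLinearGroup (Fin n) F // ∃ k : ℕ, orderOf g = p ^ k} ≃
      {M : Matrix (Fin n) (Fin n) F // IsNilpotent M} :=
    { toFun := fun g => ⟨(g.1 : Matrix (Fin n) (Fin n) F) - 1, (hiff g.1).mp g.2⟩
      invFun := fun M => ⟨(IsNilpotent.isUnit_one_add M.2).unit, (hiff _).mpr (by simpa using M.2)⟩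
      left_inv := fun g => Subtype.ext (Units.ext (by simp))
      right_inv := fun M => Subtype.ext (by simp) }
  have e2 : {M : Matrix (Fin n) (Fin n) F // IsNilpotent M} ≃
      {f : Module.End F (Fin n → F) // IsNilpotent f} :=
    Equiv.subtypeEquiv (Matrix.toLinAlgEquiv' (R := F) (n := Fin n)).toEquiv fun M =>
      ⟨fun h => h.map Matrix.toLinAlgEquiv', fun h => by
        have := h.map (Matrix.toLinAlgEquiv' (R := F) (n := Fin n)).symm
        simpa using this⟩
  rw [Nat.card_congr e, Nat.card_congr e2]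
  show CfsgLib.KnownB.NilCount.num F n = _
  rw [CfsgLib.KnownB.NilCount.num_eq, Nat.card_eq_fintype_card]

end Cfsg.Agent.S2315
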