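import Cfsg.Statements.S2316
import Cfsg.Agent.Lib.KnownB.SpUnipCount

set_option autoImplicit false
open Cfsg

namespace Cfsg.Agent.S2316

/-- Steinberg's count of unipotent elements for the symplectic group: over a finite field with q elements of characteristic p, the number of elements of Sp_{2m} of p-power order is q^(2m²). -/
theorem result {F : Type*} [Field F] [Fintype F] (p : ℕ) [Fact p.Prime] [CharP F p] (m : ℕ) :
    Nat.card {g : ↥(Matrix.symplecticGroup (Fin m) F) // ∃ k : ℕ, orderOf g = p ^ k} = Fintype.card F ^ (2 * m ^ 2) := by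
  classical
  have hexp : ∀ M : Matrix (Fin m ⊕ Fin m) (Fin m ⊕ Fin m) F, ∀ k : ℕ,
      (1 + M) ^ p ^ k = 1 + M ^ p ^ k := by
    intro M k
    rcases isEmpty_or_nonempty (Fin m ⊕ Fin m) with h | h
    · exact Subsingleton.elim _ _
    · rw [add_pow_char_pow_of_commute p k (Commute.one_left M), one_pow]
  have hiff : ∀ g : ↥(Matrix.symplecticGroup (Fin m) F),
      (∃ k : ℕ, orderOf g = p ^ k) ↔
        IsNilpotent ((g : Matrix (Fin m ⊕ Fin m) (Fin m ⊕ Fin m) F) - 1) := by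
    intro g
    constructor
    · rintro ⟨k, hk⟩
      refine ⟨p ^ k, ?_⟩
      have h := hexp ((g : Matrix (Fin m ⊕ Fin m) (Fin m ⊕ Fin m) F) - 1) k
      rw [add_sub_cancel, ← SubmonoidClass.coe_pow, ← hk, pow_orderOf_eq_one, OneMemClass.coe_one,
        left_eq_add, hk] at h
      exact h
    · rintro ⟨j, hj⟩
      obtain ⟨i, hi⟩ := Nat.exists_eq_add_of_le
        (Nat.le_of_lt (Nat.lt_pow_self (Fact.out : p.Prime).one_lt : j < p ^ j))
      have h0 : ((g : Matrix (Fin m ⊕ Fin m) (Fin m ⊕ Fin m) F) - 1) ^ p ^ j = 0 := by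
        rw [hi, pow_add, hj, zero_mul]
      have h := hexp ((g : Matrix (Fin m ⊕ Fin m) (Fin m ⊕ Fin m) F) - 1) j
      rw [add_sub_cancel, h0, add_zero, ← SubmonoidClass.coe_pow] at h
      obtain ⟨a, -, ha⟩ := (Nat.dvd_prime_pow Fact.out).mp
        (orderOf_dvd_of_pow_eq_one (Subtype.ext (h.trans (OneMemClass.coe_one _).symm) : g ^ p ^ j = 1))
      exact ⟨a, ha⟩
  have e : CfsgLib.KnownB.SpUnip.UnipSet F m ≃
      {g : ↥(Matrix.symplecticGroup (Fin m) F) // ∃ k : ℕ, orderOf g = p ^ k} := by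
    refine Equiv.subtypeEquiv (CfsgLib.Geom.spEquiv m F).toEquiv fun g => ?_
    rw [hiff]
    have hM : Matrix.toLinAlgEquiv' ((CfsgLib.Geom.spEquiv m F g : Matrix.symplecticGroup (Fin m) F) :
        Matrix (Fin m ⊕ Fin m) (Fin m ⊕ Fin m) F) =
        ((g.1 : (Fin m ⊕ Fin m → F) ≃ₗ[F] (Fin m ⊕ Fin m → F)) :
          (Fin m ⊕ Fin m → F) →ₗ[F] (Fin m ⊕ Fin m → F)) := LinearMap.ext fun v => by
      rw [Matrix.toLinAlgEquiv'_apply]
      exact CfsgLib.Geom.spEquiv_mulVec g v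
    show IsNilpotent (CfsgLib.KnownB.SpUnip.delta g.1) ↔ _
    rw [← IsNilpotent.map_iff (f := (Matrix.toLinAlgEquiv' (R := F) (n := Fin m ⊕ Fin m)))
      (AlgEquiv.injective _) (r := _ - 1), map_sub, map_one]
    erw [hM]
    rfl
  rw [← Nat.card_congr e]
  exact_mod_cast CfsgLib.KnownB.SpUnip.card_unipSet_eq (F := F) m

end Cfsg.Agent.S2316
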