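import Cfsg.Statements.S2317
import Cfsg.Agent.Lib.KnownB.UnipClasses

set_option autoImplicit false
open Cfsg

namespace Cfsg.Agent.S2317

/-- Over a finite field of characteristic p, the conjugacy classes of GL_n consisting of elements of p-power order (the unipotent classes) are as many as the partitions of n. -/
theorem result {F : Type*} [Field F] [Fintype F] (p : ℕ) [Fact p.Prime] [CharP F p] (n : ℕ) :
    Nat.card {C : ConjClasses (Matrix.GeneralLinearGroup (Fin n) F) //
      ∃ g : Matrix.GeneralLinearGroup (Fin n) F, (∃ k : ℕ, orderOf g = p ^ k) ∧ ConjClasses.mk g = C} =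
      Fintype.card (Nat.Partition n) := by
  classical
  have hexp : ∀ M : Matrix (Fin n) (Fin n) F, ∀ k : ℕ, (1 + M) ^ p ^ k = 1 + M ^ p ^ k := by
    intro M k
    rcases isEmpty_or_nonempty (Fin n) with h | h
    · exact Subsingleton.elim _ _
    · rw [add_pow_char_pow_of_commute p k (Commute.one_left M), one_pow]
  have hiff : ∀ g : Matrix.GeneralLinearGroup (Fin n) F,
      (∃ k : ℕ, orderOf g = p ^ k) ↔ IsNilpotent ((g : Matrix (Fin n) (Fin n) F) - 1) := by
    intro g
    constructor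
    · rintro ⟨k, hk⟩
      refine ⟨p ^ k, ?_⟩
      have h := hexp ((g : Matrix (Fin n) (Fin n) F) - 1) k
      rw [add_sub_cancel, ← Units.val_pow_eq_pow_val, ← hk, pow_orderOf_eq_one, Units.val_one,
        left_eq_add, hk] at h
      exact h
    · rintro ⟨m, hm⟩
      obtain ⟨k, hk⟩ := Nat.exists_eq_add_of_le
        (Nat.le_of_lt (Nat.lt_pow_self (Fact.out : p.Prime).one_lt : m < p ^ m))
      have h0 : ((g : Matrix (Fin n) (Fin n) F) - 1) ^ p ^ m = 0 := by
        rw [hk, pow_add, hm, zero_mul]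
      have h := hexp ((g : Matrix (Fin n) (Fin n) F) - 1) m
      rw [add_sub_cancel, h0, add_zero, ← Units.val_pow_eq_pow_val] at h
      obtain ⟨j, -, hj⟩ := (Nat.dvd_prime_pow Fact.out).mp
        (orderOf_dvd_of_pow_eq_one (Units.ext (by rw [h, Units.val_one]) : g ^ p ^ m = 1))
      exact ⟨j, hj⟩
  let X := {C : ConjClasses (Matrix.GeneralLinearGroup (Fin n) F) //
      ∃ g : Matrix.GeneralLinearGroup (Fin n) F, (∃ k : ℕ, orderOf g = p ^ k) ∧ ConjClasses.mk g = C}
  have hrep : ∀ C : X, IsNilpotent ((C.2.choose : Matrix (Fin n) (Fin n) F) - 1) := fun C =>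
    (hiff _).1 C.2.choose_spec.1
  rw [← Nat.card_eq_fintype_card]
  refine Nat.card_congr (Equiv.ofBijective
    (fun C : X => CfsgLib.KnownB.UnipClasses.partOf (hrep C)) ⟨fun C D h => ?_, fun lam => ?_⟩)
  · obtain ⟨T, hT⟩ := CfsgLib.KnownB.UnipClasses.exists_conj_of_partOf _ _ h
    apply Subtype.ext
    rw [← C.2.choose_spec.2, ← D.2.choose_spec.2, ConjClasses.mk_eq_mk_iff_isConj]
    exact isConj_iff.2 ⟨T, by rw [mul_inv_eq_iff_eq_mul]; exact Units.ext hT⟩
  · obtain ⟨A, hA, rfl⟩ := CfsgLib.KnownB.UnipClasses.exists_partOf (F := F) lam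
    have hu : IsUnit A := by
      have := hA.isUnit_one_add
      rwa [add_sub_cancel] at this
    refine ⟨⟨ConjClasses.mk hu.unit, hu.unit, (hiff _).2 hA, rfl⟩, Nat.Partition.ext ?_⟩
    set C : X := ⟨ConjClasses.mk hu.unit, hu.unit, (hiff _).2 hA, rfl⟩
    obtain ⟨T, hT⟩ := isConj_iff.1 (ConjClasses.mk_eq_mk_iff_isConj.1 C.2.choose_spec.2)
    have hd := CfsgLib.KnownB.GLClass.dataOf_conj (A := (C.2.choose : Matrix (Fin n) (Fin n) F)) (B := A) T
      (congrArg (fun g : Matrix.GeneralLinearGroup (Fin n) F => (g : Matrix (Fin n) (Fin n) F))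
        (mul_inv_eq_iff_eq_mul.1 hT))
    show Multiset.map Prod.snd _ = Multiset.map Prod.snd _
    rw [CfsgLib.KnownB.GLClass.blocks_eq_of_dataOf hd]

end Cfsg.Agent.S2317
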