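import Cfsg.Statements.S2319
import Cfsg.Agent.Lib.KnownB.ChevHecke
import Cfsg.Agent.Lib.Chev.CommGood
import Cfsg.Agent.Lib.Chev.WeylMatch
-- import your own Cfsg.Agent.* helpers here

set_option autoImplicit false
open Cfsg

namespace Cfsg.Agent.S2319

theorem conjClasses_congr {G H : Type*} [Group G] [Group H] (e : G ≃* H) :
    Nat.card (ConjClasses G) = Nat.card (ConjClasses H) := by
  refine Nat.card_congr (Equiv.ofBijective (ConjClasses.map e.toMonoidHom) ⟨?_, ?_⟩)
  · intro a b h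
    obtain ⟨a, rfl⟩ := ConjClasses.mk_surjective a
    obtain ⟨b, rfl⟩ := ConjClasses.mk_surjective b
    have h' : IsConj (e a) (e b) := ConjClasses.mk_eq_mk_iff_isConj.1 h
    rw [ConjClasses.mk_eq_mk_iff_isConj]
    simpa using e.symm.toMonoidHom.map_isConj h'
  · exact ConjClasses.map_surjective e.surjective

/-- In a Chevalley group of type G₂, B₂, D₄, F₄, E₆, E₇ or E₈ over a finite field, the number of distinct irreducible constituents of the permutation character on the cosets of B = UH equals the number of conjugacy classes (equivalently, of irreducible characters) of the Weyl group, the Coxeter group of the type with nodes numbered as the fundamental roots. -/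
theorem result {F : Type*} [Field F] [Fintype F]
    (dw : Cfsg.Lie.ChevalleyDatum × (Σ n : ℕ, CoxeterMatrix (Fin n)))
    (hdw : dw ∈ [(Cfsg.Lie.chevG2, ⟨2, CoxeterMatrix.G₂⟩), (Cfsg.Lie.chevB2, ⟨2, CoxeterMatrix.B 2⟩), (Cfsg.Lie.chevD4, ⟨4, Cfsg.Lie.coxeterD4⟩), (Cfsg.Lie.chevF4, ⟨4, CoxeterMatrix.F₄⟩),
      (Cfsg.Lie.chevE6, ⟨6, CoxeterMatrix.E₆⟩), (Cfsg.Lie.chevE7, ⟨7, CoxeterMatrix.E₇⟩), (Cfsg.Lie.chevE8, ⟨8, CoxeterMatrix.E₈⟩)]) :
    Nat.card {χ : Cfsg.IrrCharacter ↥(dw.1.group F) //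
      ∃ φ : ↥(dw.1.group F) → ℂ, Cfsg.IsCharacter ↥(dw.1.group F) φ ∧
        Cfsg.fixedPointCharacter ((dw.1.borelSubgroup F).subgroupOf (dw.1.group F)) = (χ : ↥(dw.1.group F) → ℂ) + φ} =
      Nat.card (ConjClasses dw.2.2.Group) := by
  fin_cases hdw
  all_goals
    first
    | (obtain ⟨e, -⟩ := CfsgLib.Chev.weylIsoG2 CfsgLib.Chev.goodG2
       exact (CfsgLib.Chev.goodG2.card_constituents (CfsgLib.Chev.hasComm_of_mem (by simp))).trans
        (conjClasses_congr e))
    | (obtain ⟨e, -⟩ := CfsgLib.Chev.weylIsoB2 CfsgLib.Chev.goodB2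
       exact (CfsgLib.Chev.goodB2.card_constituents (CfsgLib.Chev.hasComm_of_mem (by simp))).trans
        (conjClasses_congr e))
    | (obtain ⟨e, -⟩ := CfsgLib.Chev.weylIsoD4 CfsgLib.Chev.goodD4
       exact (CfsgLib.Chev.goodD4.card_constituents (CfsgLib.Chev.hasComm_of_mem (by simp))).trans
        (conjClasses_congr e))
    | (obtain ⟨e, -⟩ := CfsgLib.Chev.weylIsoF4 CfsgLib.Chev.goodF4
       exact (CfsgLib.Chev.goodF4.card_constituents (CfsgLib.Chev.hasComm_of_mem (by simp))).trans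
        (conjClasses_congr e))
    | (obtain ⟨e, -⟩ := CfsgLib.Chev.weylIsoE6 CfsgLib.Chev.goodE6
       exact (CfsgLib.Chev.goodE6.card_constituents (CfsgLib.Chev.hasComm_of_mem (by simp))).trans
        (conjClasses_congr e))
    | (obtain ⟨e, -⟩ := CfsgLib.Chev.weylIsoE7 CfsgLib.Chev.goodE7
       exact (CfsgLib.Chev.goodE7.card_constituents (CfsgLib.Chev.hasComm_of_mem (by simp))).trans
        (conjClasses_congr e))
    | (obtain ⟨e, -⟩ := CfsgLib.Chev.weylIsoE8 CfsgLib.Chev.goodE8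
       exact (CfsgLib.Chev.goodE8.card_constituents (CfsgLib.Chev.hasComm_of_mem (by simp))).trans
        (conjClasses_congr e))

end Cfsg.Agent.S2319
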