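import Cfsg.Statements.S2320
import Cfsg.Agent.Lib.KnownB.GL2Types

-- import your own Cfsg.Agent.* helpers here

set_option autoImplicit false
open Cfsg

namespace Cfsg.Agent.S2320

open CfsgLib.KnownB.GL2

/-- Over a finite field F with q elements, every irreducible complex character of GL₂ of degree q takes a value of absolute value 1 at every diagonal matrix with two different diagonal entries and at every element with no eigenvector in F². -/
theorem result {F : Type*} [Field F] [Fintype F] (χ : Matrix.GeneralLinearGroup (Fin 2) F → ℂ) (hχ : Cfsg.IsIrrCharacter (Matrix.GeneralLinearGroup (Fin 2) F) χ) (hdeg : χ 1 = (Fintype.card F : ℂ)) (g : Matrix.GeneralLinearGroup (Fin 2) F) :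
    ((g : Matrix (Fin 2) (Fin 2) F) 0 1 = 0 → (g : Matrix (Fin 2) (Fin 2) F) 1 0 = 0 → (g : Matrix (Fin 2) (Fin 2) F) 0 0 ≠ (g : Matrix (Fin 2) (Fin 2) F) 1 1 → ‖χ g‖ = 1) ∧
    ((∀ (c : F) (v : Fin 2 → F), v ≠ 0 → (g : Matrix (Fin 2) (Fin 2) F).mulVec v ≠ c • v) → ‖χ g‖ = 1) := by
  classical
  obtain ⟨E, _, _, _, _⟩ := exists_quad F
  have hq2 : (2 : ℝ) ≤ Fintype.card F := by exact_mod_cast Fintype.one_lt_card
  have norm_one : ∀ (c : MulChar F ℂ) (a : F), a ≠ 0 → ‖c a‖ = 1 := fun c a ha => by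
    have h := congrArg (fun z : ℂˣ => (z : ℂ))
      (pow_card_eq_one (x := Units.mk0 a ha) ▸ map_pow c.toUnitHom (Units.mk0 a ha) (Fintype.card Fˣ))
    simp at h
    exact Complex.norm_eq_one_of_pow_eq_one h.symm Fintype.card_ne_zero
  have key : ∃ c, χ = St c := by
    rcases irr_cases E hχ with ⟨c, rfl⟩ | h | ⟨α, β, -, rfl⟩ | ⟨ν, -, rfl⟩
    · rw [detC_one] at hdeg
      replace hdeg := congrArg Complex.re hdeg
      simp at hdeg; linarith
    · exact h
    · rw [I_one] at hdeg; exact absurd hdeg (by simp)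
    · rw [X_one] at hdeg; exact absurd hdeg (by simp)
  obtain ⟨c, rfl⟩ := key
  refine ⟨fun h01 h10 hne => ?_, fun h => ?_⟩
  · obtain ⟨ht, hd⟩ := diag_data h01 h10
    obtain ⟨ha, hb⟩ := split_ne_zero hd
    rw [(tbl_St (E := E) c).split g _ _ hne ht hd]
    exact norm_one c _ (mul_ne_zero ha hb)
  · obtain ⟨x, hx, ht, hd⟩ := ell_of_noEig E h
    rw [(tbl_St (E := E) c).ell g x hx ht hd, norm_neg]
    exact norm_one c _ (hd ▸ det_ne_zero g)

end Cfsg.Agent.S2320
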