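import Cfsg.Statements.S2321
import Cfsg.Agent.Lib.KnownB.SL2Deg

-- import your own Cfsg.Agent.* helpers here

set_option autoImplicit false
open Cfsg

namespace Cfsg.Agent.S2321

open CfsgLib.KnownB.GL2 CfsgLib.KnownB.SL2

/-- Over a finite field F with q elements, an irreducible complex character of SL₂ of degree q (the Steinberg character) takes the value 1 at every diagonal matrix whose diagonal entry a has a² ≠ 1, the value −1 at every element with no eigenvector in F², and the value 0 at every upper triangular matrix with equal diagonal entries and non-zero upper right entry. -/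
theorem result {F : Type*} [Field F] [Fintype F] (χ : Matrix.SpecialLinearGroup (Fin 2) F → ℂ) (hχ : Cfsg.IsIrrCharacter (Matrix.SpecialLinearGroup (Fin 2) F) χ) (hdeg : χ 1 = (Fintype.card F : ℂ)) (g : Matrix.SpecialLinearGroup (Fin 2) F) :
    ((g : Matrix (Fin 2) (Fin 2) F) 0 1 = 0 → (g : Matrix (Fin 2) (Fin 2) F) 1 0 = 0 → (g : Matrix (Fin 2) (Fin 2) F) 0 0 ^ 2 ≠ 1 → χ g = 1) ∧
    ((∀ (c : F) (v : Fin 2 → F), v ≠ 0 → (g : Matrix (Fin 2) (Fin 2) F).mulVec v ≠ c • v) → χ g = -1) ∧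
    ((g : Matrix (Fin 2) (Fin 2) F) 1 0 = 0 → (g : Matrix (Fin 2) (Fin 2) F) 0 0 = (g : Matrix (Fin 2) (Fin 2) F) 1 1 → (g : Matrix (Fin 2) (Fin 2) F) 0 1 ≠ 0 → χ g = 0) := by
  classical
  obtain ⟨E, _, _, _, _⟩ := exists_quad F
  obtain rfl := irr_deg_q hχ hdeg
  refine ⟨fun h01 h10 h => ?_, fun h => ?_, fun h10 he h01 => ?_⟩
  · obtain ⟨h1, ht, hne⟩ := diag_type h01 h10
    exact (St0_values g).1 _ _ h1 (hne h) ht
  · obtain ⟨x, hx, hn, ht⟩ := ell_type E h
    exact St0_ell hx hn ht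
  · obtain ⟨hn, ha, ht⟩ := upper_type h10 he h01
    exact (St0_values g).2 _ hn ha ht

end Cfsg.Agent.S2321
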