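import Cfsg.Statements.S2322
import Cfsg.Agent.Lib.KnownB.SL2Deg

-- import your own Cfsg.Agent.* helpers here

set_option autoImplicit false
open Cfsg

namespace Cfsg.Agent.S2322

open CfsgLib.KnownB.GL2 CfsgLib.KnownB.SL2

/-- Over a finite field F with q elements, q odd: every irreducible complex character of SL₂ of degree q − 1 or (q − 1)/2 vanishes at every diagonal matrix whose diagonal entry a has a² ≠ 1, and every irreducible complex character of degree q + 1 or (q + 1)/2 vanishes at every element with no eigenvector in F². -/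
theorem result {F : Type*} [Field F] [Fintype F] (hodd : Odd (Fintype.card F)) (χ : Matrix.SpecialLinearGroup (Fin 2) F → ℂ) (hχ : Cfsg.IsIrrCharacter (Matrix.SpecialLinearGroup (Fin 2) F) χ) (g : Matrix.SpecialLinearGroup (Fin 2) F) :
    ((χ 1 = (Fintype.card F : ℂ) - 1 ∨ χ 1 = (((Fintype.card F - 1) / 2 : ℕ) : ℂ)) →
      (g : Matrix (Fin 2) (Fin 2) F) 0 1 = 0 → (g : Matrix (Fin 2) (Fin 2) F) 1 0 = 0 → (g : Matrix (Fin 2) (Fin 2) F) 0 0 ^ 2 ≠ 1 → χ g = 0) ∧
    ((χ 1 = (Fintype.card F : ℂ) + 1 ∨ χ 1 = (((Fintype.card F + 1) / 2 : ℕ) : ℂ)) →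
      (∀ (c : F) (v : Fin 2 → F), v ≠ 0 → (g : Matrix (Fin 2) (Fin 2) F).mulVec v ≠ c • v) → χ g = 0) := by
  classical
  obtain ⟨E, _, _, _, _⟩ := exists_quad F
  obtain ⟨D⟩ := exists_oddData E hodd
  have hdeg := D.degrees hodd
  rw [(half_cast hodd).1, (half_cast hodd).2] at hdeg ⊢
  have hq3 : 3 ≤ Fintype.card F := by
    have := Fintype.one_lt_card (α := F)
    rw [Nat.odd_iff] at hodd
    omega
  refine ⟨fun hd h01 h10 h => ?_, fun hd h => ?_⟩
  · obtain ⟨h1, ht, hne⟩ := diag_type h01 h10
    have ha : (g : Matrix (Fin 2) (Fin 2) F) 0 0 ≠ 0 := left_ne_zero_of_mul_eq_one h1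
    have hq4 : (4 : ℝ) ≤ Fintype.card F := by
      have : 4 ≤ Fintype.card F := by
        by_contra hlt
        have h3 : Fintype.card F = 3 := by omega
        have := FiniteField.pow_card_sub_one_eq_one _ ha
        rw [h3] at this
        exact h this
      exact_mod_cast this
    have hc := isConj_outer_split D.ε h1 (hne h) ht
    rcases D.cases hodd hχ with h' | h' | ⟨α, -, h'⟩ | ⟨μ, -, h'⟩ | h' | h' | h' | h' <;> subst h'
    rotate_left 3
    · exact C_split μ h1 (hne h) ht
    rotate_left 2
    · rw [(D.hC.one_apply hc).1, C_split _ h1 (hne h) ht, zero_div]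
    · rw [(D.hC.one_apply hc).2, C_split _ h1 (hne h) ht, zero_div]
    all_goals
      exfalso
      simp only [St0_one, P_one, hdeg.1, hdeg.2.1] at hd
      rcases hd with hd | hd <;>
      · replace hd := congrArg Complex.re hd
        simp at hd <;> linarith
  · obtain ⟨x, hx, hn, ht⟩ := ell_type E h
    have hc := isConj_outer_ell D.ε hx hn ht
    have h3 : (3 : ℝ) ≤ Fintype.card F := by exact_mod_cast hq3
    rcases D.cases hodd hχ with h' | h' | ⟨α, -, h'⟩ | ⟨μ, hμ, h'⟩ | h' | h' | h' | h' <;> subst h'
    rotate_left 2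
    · exact P_ell α hx hn ht
    · have hq : Fintype.card F = 3 := by
        rw [C_one] at hd
        rcases hd with hd | hd
        · replace hd := congrArg Complex.re hd
          simp at hd
          linarith
        · exact_mod_cast (by linear_combination 2 * hd : (Fintype.card F : ℂ) = 3)
      have h4 : ∀ y : E, Algebra.norm F y = 1 → (y * y) * (y * y) = 1 := fun y hy => by
        have := algebraMap_N (F := F) y
        rw [hy, map_one, hq] at this
        linear_combination -this
      have hxx : x * x = -1 := by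
        rcases mul_self_eq_one_iff.mp (h4 x hn) with h | h
        · exfalso
          rcases mul_self_eq_one_iff.mp h with h | h
          · exact hx 1 (by simp [h])
          · exact hx (-1) (by simp [h])
        · exact h
      have hm : μ (-1) ≠ 1 := fun hm => hμ fun y hy => by
        rw [MulChar.pow_apply' _ two_ne_zero, ← map_pow, sq]
        rcases mul_self_eq_one_iff.mp (h4 y hy) with h | h <;> rw [h]
        · exact map_one μ
        · exact hm
      have hm1 : μ (-1) = -1 := by
        have : μ (-1) * μ (-1) = 1 := by rw [← map_mul]; simp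
        exact (mul_self_eq_one_iff.mp this).resolve_left hm
      rw [C_ell μ hx hn ht, show x⁻¹ = -1 * x from inv_eq_of_mul_eq_one_left (by
        rw [mul_assoc, hxx]; ring), map_mul, hm1]
      ring
    · rw [(D.hP.one_apply hc).1, P_ell _ hx hn ht, zero_div]
    · rw [(D.hP.one_apply hc).2, P_ell _ hx hn ht, zero_div]
    all_goals
      exfalso
      simp only [St0_one, hdeg.2.2.1, hdeg.2.2.2] at hd
      rcases hd with hd | hd <;>
      · replace hd := congrArg Complex.re hd
        simp at hd <;> linarith

end Cfsg.Agent.S2322
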