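import Cfsg.Statements.S2323
import Cfsg.Agent.Lib.KnownB.SL2Deg

-- import your own Cfsg.Agent.* helpers here

set_option autoImplicit false
open Cfsg

namespace Cfsg.Agent.S2323

open CfsgLib.KnownB.GL2 CfsgLib.KnownB.SL2

/-- Over a finite field F with q ≥ 4 elements, let u be the upper unitriangular matrix of SL₂ with off-diagonal entry 1. An irreducible complex character of SL₂ takes at u the value 1 if its degree is q + 1 and the value −1 if its degree is q − 1. -/
theorem result {F : Type*} [Field F] [Fintype F] (hq : 4 ≤ Fintype.card F) (χ : Matrix.SpecialLinearGroup (Fin 2) F → ℂ) (hχ : Cfsg.IsIrrCharacter (Matrix.SpecialLinearGroup (Fin 2) F) χ)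
    (u : Matrix.SpecialLinearGroup (Fin 2) F) (hu : (u : Matrix (Fin 2) (Fin 2) F) = !![1, 1; 0, 1]) :
    (χ 1 = (Fintype.card F : ℂ) + 1 → χ u = 1) ∧ (χ 1 = (Fintype.card F : ℂ) - 1 → χ u = -1) := by
  classical
  obtain ⟨E, _, _, _, _⟩ := exists_quad F
  obtain ⟨hn, ha, ht⟩ := upper_type (s := u) (by simp [hu]) (by simp [hu]) (by simp [hu])
  have e0 : (u : Matrix (Fin 2) (Fin 2) F) 0 0 = 1 := by simp [hu]
  rw [e0] at ha ht
  refine ⟨fun hd => ?_, fun hd => ?_⟩
  · obtain ⟨α, -, rfl⟩ := irr_deg_q_add_one hχ hd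
    rw [P_double α hn ha ht, map_one]
  · obtain ⟨μ, -, rfl⟩ := irr_deg_q_sub_one E hq hχ hd
    rw [C_double μ hn ha ht]; simp

end Cfsg.Agent.S2323
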