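import Cfsg.Statements.S2324
import Cfsg.Agent.Lib.KnownB.SL2Deg

-- import your own Cfsg.Agent.* helpers here

set_option autoImplicit false
open Cfsg

namespace Cfsg.Agent.S2324

open CfsgLib.KnownB.GL2 CfsgLib.KnownB.SL2

/-- Over a finite field F with q elements, q odd and q ≥ 5, let u be the upper unitriangular matrix of SL₂ with off-diagonal entry 1 and let δ = (−1)^((q−1)/2). Every irreducible complex character χ of SL₂ of degree (q + 1)/2 satisfies (2χ(u) − 1)² = δq, and every irreducible complex character χ of degree (q − 1)/2 satisfies (2χ(u) + 1)² = δq; that is, χ(u) = (1 ± √(δq))/2 in the first case and χ(u) = (−1 ± √(δq))/2 in the second. Moreover two different irreducible characters of degree (q + 1)/2 take the two different values (their values at u add up to 1), and likewise for degree (q − 1)/2 (values adding up to −1). -/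
theorem result {F : Type*} [Field F] [Fintype F] (hodd : Odd (Fintype.card F)) (hq : 5 ≤ Fintype.card F)
    (u : Matrix.SpecialLinearGroup (Fin 2) F) (hu : (u : Matrix (Fin 2) (Fin 2) F) = !![1, 1; 0, 1]) :
    (∀ χ : Matrix.SpecialLinearGroup (Fin 2) F → ℂ, Cfsg.IsIrrCharacter (Matrix.SpecialLinearGroup (Fin 2) F) χ → χ 1 = (((Fintype.card F + 1) / 2 : ℕ) : ℂ) → (2 * χ u - 1) ^ 2 = (-1 : ℂ) ^ ((Fintype.card F - 1) / 2) * (Fintype.card F : ℂ)) ∧
    (∀ χ : Matrix.SpecialLinearGroup (Fin 2) F → ℂ, Cfsg.IsIrrCharacter (Matrix.SpecialLinearGroup (Fin 2) F) χ → χ 1 = (((Fintype.card F - 1) / 2 : ℕ) : ℂ) → (2 * χ u + 1) ^ 2 = (-1 : ℂ) ^ ((Fintype.card F - 1) / 2) * (Fintype.card F : ℂ)) ∧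
    (∀ χ₁ χ₂ : Matrix.SpecialLinearGroup (Fin 2) F → ℂ, Cfsg.IsIrrCharacter (Matrix.SpecialLinearGroup (Fin 2) F) χ₁ → Cfsg.IsIrrCharacter (Matrix.SpecialLinearGroup (Fin 2) F) χ₂ → χ₁ ≠ χ₂ →
      χ₁ 1 = (((Fintype.card F + 1) / 2 : ℕ) : ℂ) → χ₂ 1 = (((Fintype.card F + 1) / 2 : ℕ) : ℂ) → χ₁ u + χ₂ u = 1) ∧
    (∀ χ₁ χ₂ : Matrix.SpecialLinearGroup (Fin 2) F → ℂ, Cfsg.IsIrrCharacter (Matrix.SpecialLinearGroup (Fin 2) F) χ₁ → Cfsg.IsIrrCharacter (Matrix.SpecialLinearGroup (Fin 2) F) χ₂ → χ₁ ≠ χ₂ →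
      χ₁ 1 = (((Fintype.card F - 1) / 2 : ℕ) : ℂ) → χ₂ 1 = (((Fintype.card F - 1) / 2 : ℕ) : ℂ) → χ₁ u + χ₂ u = -1) := by
  classical
  obtain ⟨E, _, _, _, _⟩ := exists_quad F
  obtain ⟨D⟩ := exists_oddData E hodd
  obtain rfl : u = u₀ := Subtype.ext hu
  have hp : D.p₁ u₀ + D.p₂ u₀ = 1 := by
    rw [← Pi.add_apply, ← D.hP.sum, P_double _ u₀_dbl.1 (one_mul 1) u₀_dbl.2, map_one]
  have hc : D.c₁ u₀ + D.c₂ u₀ = -1 := by
    rw [← Pi.add_apply, ← D.hC.sum, C_double _ u₀_dbl.1 (one_mul 1) u₀_dbl.2, map_one, map_one]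
  have dp := D.hP.disc hodd D.hε (P_outer _ _)
  have dc := D.hC.disc hodd D.hε (C_outer _ _)
  refine ⟨fun χ hχ hd => ?_, fun χ hχ hd => ?_, fun χ₁ χ₂ h1 h2 hne d1 d2 => ?_,
    fun χ₁ χ₂ h1 h2 hne d1 d2 => ?_⟩
  · rcases D.deg_half_plus hodd hq hχ hd with rfl | rfl
    · rw [← dp, show D.p₂ u₀ = 1 - D.p₁ u₀ by linear_combination hp]; ring
    · rw [← dp, show D.p₁ u₀ = 1 - D.p₂ u₀ by linear_combination hp]; ring
  · rcases D.deg_half_minus hodd hq hχ hd with rfl | rfl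
    · rw [← dc, show D.c₂ u₀ = -1 - D.c₁ u₀ by linear_combination hc]; ring
    · rw [← dc, show D.c₁ u₀ = -1 - D.c₂ u₀ by linear_combination hc]; ring
  · rcases D.deg_half_plus hodd hq h1 d1 with rfl | rfl <;>
      rcases D.deg_half_plus hodd hq h2 d2 with rfl | rfl
    · exact absurd rfl hne
    · exact hp
    · rw [add_comm]; exact hp
    · exact absurd rfl hne
  · rcases D.deg_half_minus hodd hq h1 d1 with rfl | rfl <;>
      rcases D.deg_half_minus hodd hq h2 d2 with rfl | rfl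
    · exact absurd rfl hne
    · exact hc
    · rw [add_comm]; exact hc
    · exact absurd rfl hne

end Cfsg.Agent.S2324
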