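import Cfsg.Statements.S2328
import Cfsg.Agent.Lib.KnownB.ChevSteinberg
import Cfsg.Agent.Lib.Chev.CommGood
import Cfsg.Agent.Lib.BlockB.DefectZero
-- import your own Cfsg.Agent.* helpers here

set_option autoImplicit false
open Cfsg

namespace Cfsg.Agent.S2328

/-- In a Chevalley group of type G₂, B₂, D₄, F₄, E₆, E₇ or E₈ over a finite field of characteristic p, the Steinberg character vanishes at every element whose order is divisible by p (every element that is not semisimple). -/
theorem result {F : Type*} [Field F] [Fintype F] (p : ℕ) [Fact p.Prime] [CharP F p] (D : Cfsg.Lie.ChevalleyDatum) (hD : D ∈ [Cfsg.Lie.chevG2, Cfsg.Lie.chevB2, Cfsg.Lie.chevD4, Cfsg.Lie.chevF4, Cfsg.Lie.chevE6, Cfsg.Lie.chevE7, Cfsg.Lie.chevE8]) (g' : ↥(D.group F)) (hg : p ∣ orderOf g') :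
    D.steinbergCharacter F g' = 0 := by
  have g := CfsgLib.Chev.good_of_mem hD
  have hc := CfsgLib.Chev.hasComm_of_mem hD
  have hse := CfsgLib.Chev.suppEq_of_mem hD
  refine CfsgLib.BlockB.irr_apply_eq_zero_of_defect_zero (p := p)
    ⟨_, g.steinberg_irr hc hse⟩ ?_ hg
  show _ ∣ ⌊(D.steinbergCharacter F 1).re⌋₊
  rw [g.steinberg_one hc hse, g.card_p_part hc p,
    show ((Fintype.card F : ℂ) ^ (D.nroots / 2)) = (((Fintype.card F ^ (D.nroots / 2) : ℕ)) : ℂ) by
      push_cast; rfl, Complex.natCast_re, Nat.floor_natCast]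

end Cfsg.Agent.S2328
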