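import Cfsg.Statements.S2329
import Cfsg.Agent.Lib.KnownB.GL2Types

-- import your own Cfsg.Agent.* helpers here

set_option autoImplicit false
open Cfsg

namespace Cfsg.Agent.S2329

open CfsgLib.KnownB.GL2

/-- Over a finite field of characteristic p, any two elements of order p of GL₂ are conjugate: there is a single conjugacy class of non-identity unipotent elements. -/
theorem result {F : Type*} [Field F] [Fintype F] (p : ℕ) [Fact p.Prime] [CharP F p] (g h : Matrix.GeneralLinearGroup (Fin 2) F)
    (hg : orderOf g = p) (hh : orderOf h = p) : IsConj g h := by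
  classical
  have key : ∀ k : Matrix.GeneralLinearGroup (Fin 2) F, orderOf k = p →
      NonScalar (k : Matrix (Fin 2) (Fin 2) F) ∧
      (k : Matrix (Fin 2) (Fin 2) F).trace = 1 + 1 ∧ (k : Matrix (Fin 2) (Fin 2) F).det = 1 := by
    intro k hk
    have hp : p.Prime := Fact.out
    have hpow : (k : Matrix (Fin 2) (Fin 2) F) ^ p = 1 := by
      rw [← Units.val_pow_eq_pow_val, ← hk, pow_orderOf_eq_one, Units.val_one]
    have hne : (k : Matrix (Fin 2) (Fin 2) F) ≠ 1 := fun h => hp.one_lt.ne'
      (hk ▸ orderOf_eq_one_iff.mpr (Units.ext h))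
    have hN : ((k : Matrix (Fin 2) (Fin 2) F) - 1) ^ p = 0 := by
      rw [sub_pow_char_of_commute p (Commute.one_right _), hpow, one_pow, sub_self]
    have hnil : IsNilpotent ((k : Matrix (Fin 2) (Fin 2) F) - 1) := ⟨p, hN⟩
    have htr : ((k : Matrix (Fin 2) (Fin 2) F) - 1).trace = 0 :=
      IsNilpotent.eq_zero (Matrix.isNilpotent_trace_of_isNilpotent hnil)
    have hdet : ((k : Matrix (Fin 2) (Fin 2) F) - 1).det = 0 := by
      have h := congrArg Matrix.det hN
      rw [Matrix.det_pow, Matrix.det_zero] at h
      exact eq_zero_of_pow_eq_zero h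
    simp [Matrix.trace_fin_two, Matrix.det_fin_two] at htr hdet
    refine ⟨?_, ?_, ?_⟩
    · intro a ha
      apply hne
      have h00 := congrArg (fun M : Matrix (Fin 2) (Fin 2) F => M 0 0) ha
      rw [ha] at hdet
      simp at hdet
      rw [ha, show a = 1 by exact sub_eq_zero.mp hdet, one_smul]
    · rw [Matrix.trace_fin_two]; linear_combination htr
    · rw [Matrix.det_fin_two]; linear_combination hdet + htr
  obtain ⟨a1, a2, a3⟩ := key g hg
  obtain ⟨b1, b2, b3⟩ := key h hh
  exact isConj_of_trace_det a1 b1 (a2.trans b2.symm) (a3.trans b3.symm)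

end Cfsg.Agent.S2329
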