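import Cfsg.Statements.S2332
import Cfsg.Agent.Lib.Classical.SLMinDegIndex

set_option autoImplicit false
open Cfsg

namespace Cfsg.Agent.S2332

/-- Smallest degree of a non-linear irreducible complex representation of SL_n over a finite field with q elements, for n ≥ 3 and (n, q) not one of (3, 2), (3, 4), (4, 2), (4, 3): every irreducible complex representation of SL_n(F) of degree at least 2 has degree at least (q^n − q)/(q − 1), and there is an irreducible complex representation of exactly that degree. -/
theorem result {F : Type*} [Field F] [Fintype F] [DecidableEq F] (n : ℕ) (hn : 3 ≤ n)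
    (hex : (n, Fintype.card F) ≠ (3, 2) ∧ (n, Fintype.card F) ≠ (3, 4) ∧ (n, Fintype.card F) ≠ (4, 2) ∧ (n, Fintype.card F) ≠ (4, 3)) :
    (∀ (k : ℕ) (ρ : Representation ℂ (Matrix.SpecialLinearGroup (Fin n) F) (Fin k → ℂ)), ρ.IsIrreducible → 2 ≤ k → (Fintype.card F ^ n - Fintype.card F) / (Fintype.card F - 1) ≤ k) ∧
    (∃ ρ : Representation ℂ (Matrix.SpecialLinearGroup (Fin n) F) (Fin ((Fintype.card F ^ n - Fintype.card F) / (Fintype.card F - 1)) → ℂ), ρ.IsIrreducible) := by
  classical
  obtain ⟨m, rfl⟩ : ∃ m, n = m + 1 := ⟨n - 1, by omega⟩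
  rw [← CfsgLib.Classical.SLMinDeg.bigT_eq Fintype.one_lt_card m]
  refine ⟨fun k ρ hρ hk => ?_, ?_⟩
  · have : Nontrivial (Fin k → ℂ) := CfsgLib.Char.nontrivial_of_isIrreducible ρ
    have hfix : ∀ v : Fin k → ℂ, (∀ g, ρ g v = v) → v = 0 := by
      intro v hv
      by_contra hv0
      let U : Subrepresentation ρ := ⟨ℂ ∙ v, fun g w hw => by
        obtain ⟨c, rfl⟩ := Submodule.mem_span_singleton.1 hw
        rw [map_smul, hv g]
        exact Submodule.smul_mem _ _ (Submodule.mem_span_singleton_self v)⟩
      rcases IsSimpleOrder.eq_bot_or_eq_top U with e | e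
      · exact hv0 ((Submodule.span_singleton_eq_bot).1 (congrArg Subrepresentation.toSubmodule e))
      · have h1 := finrank_span_singleton (K := ℂ) hv0
        rw [show (ℂ ∙ v) = (⊤ : Submodule ℂ (Fin k → ℂ)) from
          congrArg Subrepresentation.toSubmodule e, finrank_top, Module.finrank_fin_fun] at h1
        omega
    rcases CfsgLib.Classical.SLMinDeg.min_degree (show 2 ≤ m by omega) ρ hfix with h | ⟨-, hs, -⟩
    · rwa [Module.finrank_fin_fun] at h
    · exfalso
      rcases hs with ⟨hq, rfl, -⟩ | ⟨hq, rfl, -⟩ | ⟨hq, rfl, -⟩ | ⟨hq, rfl, -⟩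
      · exact hex.1 (by rw [hq])
      · exact hex.2.1 (by rw [hq])
      · exact hex.2.2.1 (by rw [hq])
      · exact hex.2.2.2 (by rw [hq])
  · set X := Projectivization F (Fin (m + 1) → F)
    have hcard : Nat.card X = CfsgLib.Classical.SLMinDeg.bigT (Fintype.card F) m + 1 := by
      rw [Projectivization.card_of_finrank F (Fin (m + 1) → F) (Module.finrank_fin_fun F),
        Nat.card_eq_fintype_card, CfsgLib.Classical.SLMinDeg.bigT, Finset.sum_range_succ', pow_zero]
    have hT : 1 ≤ CfsgLib.Classical.SLMinDeg.bigT (Fintype.card F) m := by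
      obtain ⟨l, rfl⟩ : ∃ l, m = l + 1 := ⟨m - 1, by omega⟩
      rw [CfsgLib.Classical.SLMinDeg.bigT_succ]
      have := Nat.one_le_pow (l + 1) _ (Fintype.card_pos (α := F))
      omega
    have : MulAction.IsMultiplyPretransitive (Matrix.SpecialLinearGroup (Fin (m + 1)) F) X 2 :=
      inferInstance
    have : MulAction.IsPretransitive (Matrix.SpecialLinearGroup (Fin (m + 1)) F) X :=
      MulAction.isPretransitive_of_is_two_pretransitive
    obtain ⟨d, ρ, hρ, hchar⟩ := (CfsgLib.Char.isIrr_perm_iff
      (G := Matrix.SpecialLinearGroup (Fin (m + 1)) F) X (by omega)).2 ‹_›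
    have hd : d = CfsgLib.Classical.SLMinDeg.bigT (Fintype.card F) m := by
      have h1 := congrFun hchar 1
      rw [Representation.char_one, Module.finrank_fin_fun] at h1
      have h2 : Nat.card (MulAction.fixedBy X (1 : Matrix.SpecialLinearGroup (Fin (m + 1)) F)) =
          Nat.card X := by
        exact Nat.card_congr (Equiv.subtypeUnivEquiv fun x => one_smul _ x)
      simp only [h2, hcard] at h1
      push_cast at h1
      rw [add_sub_cancel_right] at h1
      exact_mod_cast h1
    subst hd
    exact ⟨ρ, hρ⟩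

end Cfsg.Agent.S2332
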