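import Cfsg.Statements.S2336
import Cfsg.Agent.Lib.Perm.PermChar
import Cfsg.Agent.Lib.Classical.UnitaryGen

set_option autoImplicit false
open Cfsg

namespace Cfsg.Agent.S2336


open Matrix CfsgLib.Perm

section move

variable {F : Type*} [Field F] {n : ℕ}

theorem exists_tv {v : Fin n → F} (φ : (Fin n → F) →ₗ[F] F) (hφ : φ v = 0) :
    ∃ g : Matrix.SpecialLinearGroup (Fin n) F, ∀ x, (g : Matrix (Fin n) (Fin n) F) *ᵥ x = x + φ x • v := by
  refine ⟨⟨LinearMap.toMatrix' (LinearMap.id + φ.smulRight v), ?_⟩, fun x => ?_⟩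
  · rw [LinearMap.det_toMatrix', CfsgLib.Classical.det_id_add_smulRight, hφ, add_zero]
  · show LinearMap.toMatrix' _ *ᵥ x = _
    rw [LinearMap.toMatrix'_mulVec]; rfl

theorem exists_step {W : Submodule F (Fin n → F)} {y z : Fin n → F} (hy : y ∉ W)
    (hz : z ∉ W ⊔ Submodule.span F {y}) :
    ∃ g : Matrix.SpecialLinearGroup (Fin n) F, (g : Matrix (Fin n) (Fin n) F) *ᵥ y = z ∧
      ∀ w ∈ W, (g : Matrix (Fin n) (Fin n) F) *ᵥ w = w := by
  have hy' : y ∉ W ⊔ Submodule.span F {z - y} := by
    intro h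
    obtain ⟨w, hw, u, hu, e⟩ := Submodule.mem_sup.1 h
    obtain ⟨t, rfl⟩ := Submodule.mem_span_singleton.1 hu
    rcases eq_or_ne t 0 with rfl | ht
    · exact hy (by rw [← e, zero_smul, add_zero]; exact hw)
    · refine hz (Submodule.mem_sup.2 ⟨(-t⁻¹) • w, W.smul_mem _ hw, (1 + t⁻¹) • y,
        Submodule.smul_mem _ _ (Submodule.mem_span_singleton_self y), ?_⟩)
      have e' : t • z = (1 + t) • y - w := by linear_combination (norm := module) e
      apply smul_right_injective _ ht
      show t • _ = t • z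
      rw [e', smul_add, smul_smul, smul_smul]
      match_scalars <;> field_simp <;> ring
  obtain ⟨φ, hφy, hφ⟩ := Submodule.exists_le_ker_of_notMem hy'
  have h0 : ((φ y)⁻¹ • φ) (z - y) = 0 := by
    simp [LinearMap.mem_ker.1 (hφ (Submodule.mem_sup_right (Submodule.mem_span_singleton_self _)))]
  obtain ⟨g, hg⟩ := exists_tv ((φ y)⁻¹ • φ) h0
  refine ⟨g, ?_, fun w hw => ?_⟩
  · rw [hg, LinearMap.smul_apply, smul_eq_mul, inv_mul_cancel₀ hφy, one_smul, add_sub_cancel]
  · simp [hg, LinearMap.mem_ker.1 (hφ (Submodule.mem_sup_left hw))]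

theorem exists_not_mem_two {A B : Submodule F (Fin n → F)} (hA : A ≠ ⊤) (hB : B ≠ ⊤) :
    ∃ z, z ∉ A ∧ z ∉ B := by
  obtain ⟨a, -, ha⟩ := SetLike.exists_of_lt hA.lt_top
  obtain ⟨b, -, hb⟩ := SetLike.exists_of_lt hB.lt_top
  by_cases haB : a ∈ B
  · by_cases hbA : b ∈ A
    · exact ⟨a + b, fun h => ha (by simpa using sub_mem h hbA), fun h => hb (by simpa using sub_mem h haB)⟩
    · exact ⟨b, hbA, hb⟩
  · exact ⟨a, ha, haB⟩

theorem exists_move {W : Submodule F (Fin n → F)} {y b : Fin n → F} (hy : y ∉ W) (hb : b ∉ W)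
    (hW : Module.finrank F W + 2 ≤ n) :
    ∃ g : Matrix.SpecialLinearGroup (Fin n) F, (g : Matrix (Fin n) (Fin n) F) *ᵥ y = b ∧
      ∀ w ∈ W, (g : Matrix (Fin n) (Fin n) F) *ᵥ w = w := by
  have hne : ∀ u : Fin n → F, W ⊔ Submodule.span F {u} ≠ ⊤ := fun u h => by
    have h1 := Submodule.finrank_add_le_finrank_add_finrank W (Submodule.span F {u})
    rw [h, finrank_top, Module.finrank_fin_fun] at h1
    have h2 : Module.finrank F (Submodule.span F ({u} : Set (Fin n → F))) ≤ 1 := by
      simpa using finrank_span_le_card ({u} : Set (Fin n → F))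
    omega
  obtain ⟨z, hzy, hzb⟩ := exists_not_mem_two (hne y) (hne b)
  obtain ⟨g, hg, hgW⟩ := exists_step hy hzy
  obtain ⟨h, hh, hhW⟩ := exists_step hb hzb
  refine ⟨h⁻¹ * g, ?_, fun w hw => ?_⟩ <;> rw [Matrix.SpecialLinearGroup.coe_mul, ← mulVec_mulVec]
  · rw [hg, ← hh, mulVec_mulVec, ← Matrix.SpecialLinearGroup.coe_mul, inv_mul_cancel,
      Matrix.SpecialLinearGroup.coe_one, one_mulVec]
  · rw [hgW w hw]
    conv_lhs => rw [← hhW w hw]
    rw [mulVec_mulVec, ← Matrix.SpecialLinearGroup.coe_mul, inv_mul_cancel,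
      Matrix.SpecialLinearGroup.coe_one, one_mulVec]

theorem sl_inv_mulVec (g : Matrix.SpecialLinearGroup (Fin n) F) (v : Fin n → F) :
    ((g⁻¹ : Matrix.SpecialLinearGroup (Fin n) F) : Matrix (Fin n) (Fin n) F) *ᵥ
      ((g : Matrix (Fin n) (Fin n) F) *ᵥ v) = v := by
  rw [mulVec_mulVec, ← Matrix.SpecialLinearGroup.coe_mul, inv_mul_cancel,
    Matrix.SpecialLinearGroup.coe_one, one_mulVec]

theorem exists_move_pair (hn : 3 ≤ n) {x y a b : Fin n → F} (hx : x ≠ 0) (hy : y ∉ Submodule.span F {x})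
    (ha : a ≠ 0) (hb : b ∉ Submodule.span F {a}) :
    ∃ g : Matrix.SpecialLinearGroup (Fin n) F,
      (g : Matrix (Fin n) (Fin n) F) *ᵥ x = a ∧ (g : Matrix (Fin n) (Fin n) F) *ᵥ y = b := by
  obtain ⟨g, hg, -⟩ := exists_move (W := ⊥) (by simpa using hx) (by simpa using ha)
    (by rw [finrank_bot]; omega)
  have hy' : (g : Matrix (Fin n) (Fin n) F) *ᵥ y ∉ Submodule.span F {a} := fun h => by
    obtain ⟨t, ht⟩ := Submodule.mem_span_singleton.1 h
    refine hy (Submodule.mem_span_singleton.2 ⟨t, ?_⟩)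
    have := congrArg (((g⁻¹ : Matrix.SpecialLinearGroup (Fin n) F) : Matrix (Fin n) (Fin n) F) *ᵥ ·) ht
    simpa only [← hg, mulVec_smul, sl_inv_mulVec] using this
  obtain ⟨h, hh, hhW⟩ := exists_move hy' hb (by rw [finrank_span_singleton ha]; omega)
  refine ⟨h * g, ?_, ?_⟩ <;> rw [Matrix.SpecialLinearGroup.coe_mul, ← mulVec_mulVec]
  · rw [hg]; exact hhW a (Submodule.mem_span_singleton_self a)
  · exact hh

end move

variable {F : Type*} [Field F] {n : ℕ}

/-- the non-zero vectors -/
def NzVec (F : Type*) [Field F] (n : ℕ) : Type _ := {v : Fin n → F // v ≠ 0}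

noncomputable instance [Fintype F] : Fintype (NzVec F n) := by
  classical exact Subtype.fintype fun v : Fin n → F => v ≠ 0

noncomputable instance : DecidableEq (NzVec F n) := Classical.decEq _

instance : MulAction (Matrix.SpecialLinearGroup (Fin n) F) (NzVec F n) where
  smul g v := ⟨(g : Matrix (Fin n) (Fin n) F) *ᵥ v.1, fun h => v.2 (by
    have := congrArg (((g⁻¹ : Matrix.SpecialLinearGroup (Fin n) F) : Matrix (Fin n) (Fin n) F) *ᵥ ·) h
    simpa only [sl_inv_mulVec, mulVec_zero] using this)⟩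
  one_smul v := Subtype.ext (by show (((1 : Matrix.SpecialLinearGroup (Fin n) F)) : Matrix (Fin n) (Fin n) F) *ᵥ v.1 = v.1; simp)
  mul_smul g h v := Subtype.ext (by
    show ((g * h : Matrix.SpecialLinearGroup (Fin n) F) : Matrix (Fin n) (Fin n) F) *ᵥ v.1 = (g : Matrix (Fin n) (Fin n) F) *ᵥ ((h : Matrix (Fin n) (Fin n) F) *ᵥ v.1)
    rw [Matrix.SpecialLinearGroup.coe_mul, mulVec_mulVec])

/-- scalar multiple -/
def scal (c : Fˣ) (v : NzVec F n) : NzVec F n := ⟨(c : F) • v.1, smul_ne_zero c.ne_zero v.2⟩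

theorem smul_val (g : Matrix.SpecialLinearGroup (Fin n) F) (v : NzVec F n) :
    (g • v).1 = (g : Matrix (Fin n) (Fin n) F) *ᵥ v.1 := rfl

theorem smul_scal (g : Matrix.SpecialLinearGroup (Fin n) F) (c : Fˣ) (v : NzVec F n) :
    g • scal c v = scal c (g • v) := Subtype.ext (by
  show (g : Matrix (Fin n) (Fin n) F) *ᵥ ((c : F) • v.1) = (c : F) • ((g : Matrix (Fin n) (Fin n) F) *ᵥ v.1)
  rw [Matrix.mulVec_smul])

theorem scal_scal (c d : Fˣ) (v : NzVec F n) : scal c (scal d v) = scal (c * d) v :=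
  Subtype.ext (by show (c : F) • ((d : F) • v.1) = ((c * d : Fˣ) : F) • v.1; rw [Units.val_mul, smul_smul])

theorem scal_injective (v : NzVec F n) : Function.Injective fun c : Fˣ => scal c v := fun c d h =>
  Units.ext (smul_left_injective F v.2 (congrArg Subtype.val h))

theorem scal_eq_of_span {x y : NzVec F n} (h : y.1 ∈ Submodule.span F {x.1}) : ∃ c : Fˣ, y = scal c x := by
  obtain ⟨t, ht⟩ := Submodule.mem_span_singleton.1 h
  have ht0 : t ≠ 0 := fun e => y.2 (by rw [← ht, e, zero_smul])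
  exact ⟨Units.mk0 t ht0, Subtype.ext ht.symm⟩

theorem exists_indep (hn : 3 ≤ n) :
    ∃ x y : NzVec F n, y.1 ∉ Submodule.span F {x.1} := by
  refine ⟨⟨Pi.single ⟨0, by omega⟩ 1, by simp⟩, ⟨Pi.single ⟨1, by omega⟩ 1, by simp⟩, fun h => ?_⟩
  obtain ⟨t, ht⟩ := Submodule.mem_span_singleton.1 h
  have := congrFun ht ⟨1, by omega⟩
  simp [Fin.ext_iff] at this

theorem pretransitive (hn : 3 ≤ n) :
    MulAction.IsPretransitive (Matrix.SpecialLinearGroup (Fin n) F) (NzVec F n) := by
  refine ⟨fun x y => ?_⟩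
  obtain ⟨g, hg, -⟩ := exists_move (W := (⊥ : Submodule F (Fin n → F))) (by simpa using x.2)
    (by simpa using y.2) (by rw [finrank_bot]; omega)
  exact ⟨g, Subtype.ext hg⟩

variable [Fintype F] [DecidableEq F]

/-- translation by a scalar -/
noncomputable def transOp (c : Fˣ) : (NzVec F n → ℂ) →ₗ[ℂ] (NzVec F n → ℂ) :=
  LinearMap.funLeft ℂ ℂ (scal c)

/-- the all-one operator -/
noncomputable def sumOp : (NzVec F n → ℂ) →ₗ[ℂ] (NzVec F n → ℂ) where
  toFun f _ := ∑ y, f y
  map_add' f g := funext fun _ => by simp [Finset.sum_add_distrib]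
  map_smul' c f := funext fun _ => by simp [Finset.mul_sum]

/-- the basic operators -/
noncomputable def opFam : Option Fˣ → ((NzVec F n → ℂ) →ₗ[ℂ] (NzVec F n → ℂ))
  | none => sumOp
  | some c => transOp c

theorem transOp_sumOp (c : Fˣ) : transOp c ∘ₗ sumOp = (sumOp : (NzVec F n → ℂ) →ₗ[ℂ] _) := rfl

theorem sumOp_transOp (c : Fˣ) : sumOp ∘ₗ transOp c = (sumOp : (NzVec F n → ℂ) →ₗ[ℂ] _) := by
  refine LinearMap.ext fun f => funext fun _ => ?_
  exact Fintype.sum_equiv ⟨scal c, scal c⁻¹, fun v => by rw [scal_scal, inv_mul_cancel]; exact Subtype.ext (one_smul _ _),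
    fun v => by rw [scal_scal, mul_inv_cancel]; exact Subtype.ext (one_smul _ _)⟩ _ _ fun v => rfl

theorem opFam_commute (i j : Option Fˣ) :
    opFam (n := n) i ∘ₗ opFam j = opFam j ∘ₗ opFam i := by
  rcases i with _ | c <;> rcases j with _ | d <;> simp only [opFam]
  · rw [sumOp_transOp, transOp_sumOp]
  · rw [sumOp_transOp, transOp_sumOp]
  · refine LinearMap.ext fun f => funext fun v => ?_
    show f (scal d (scal c v)) = f (scal c (scal d v))
    rw [scal_scal, scal_scal, mul_comm]

theorem opFam_mem (i : Option Fˣ) :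
    opFam i ∈ permEnd (Matrix.SpecialLinearGroup (Fin n) F) (NzVec F n) := by
  refine (Representation.mem_linHom_invariants_iff_isIntertwining _).mpr ⟨fun g f => funext fun v => ?_⟩
  rcases i with _ | c
  · show ∑ y, f (g⁻¹ • y) = ∑ y, f y
    exact Fintype.sum_equiv (MulAction.toPerm g⁻¹) _ _ fun y => rfl
  · show f (g⁻¹ • scal c v) = f (scal c (g⁻¹ • v))
    rw [smul_scal]

theorem opFam_span (hn : 3 ≤ n) {T : (NzVec F n → ℂ) →ₗ[ℂ] (NzVec F n → ℂ)}
    (hT : T ∈ permEnd (Matrix.SpecialLinearGroup (Fin n) F) (NzVec F n)) :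
    T ∈ Submodule.span ℂ (Set.range (opFam (F := F) (n := n))) := by
  obtain ⟨x₀, y₀, hxy⟩ := exists_indep (F := F) hn
  let K : NzVec F n → NzVec F n → ℂ := fun x y => T (Pi.single y 1) x
  have hK : ∀ (g : Matrix.SpecialLinearGroup (Fin n) F) x y, K (g • x) (g • y) = K x y := fun g x y => by
    have h := intertwiner_commute ⟨T, hT⟩ g (Pi.single y (1 : ℂ))
    rw [permRep_single] at h
    have h' := congrFun h (g • x)
    rw [permRep_apply, inv_smul_smul] at h'
    exact h'
  let b := K x₀ y₀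
  let a : Fˣ → ℂ := fun c => K x₀ (scal c x₀) - b
  have hval : ∀ x y, K x y = b + ∑ c : Fˣ, if y = scal c x then a c else 0 := fun x y => by
    by_cases h : y.1 ∈ Submodule.span F {x.1}
    · obtain ⟨c, rfl⟩ := scal_eq_of_span h
      rw [Finset.sum_eq_single c (fun d _ hd => if_neg fun e => hd (scal_injective x e).symm) (by simp),
        if_pos rfl, add_sub_cancel]
      obtain ⟨g, hg, -⟩ := exists_move (W := (⊥ : Submodule F (Fin n → F))) (by simpa using x₀.2)
        (by simpa using x.2) (by rw [finrank_bot]; omega)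
      have : g • x₀ = x := Subtype.ext hg
      rw [← this, ← smul_scal, hK]
    · rw [Finset.sum_eq_zero fun c _ => if_neg fun e => h (by
        rw [e]; exact Submodule.smul_mem _ _ (Submodule.mem_span_singleton_self _)), add_zero]
      obtain ⟨g, hg, hg'⟩ := exists_move_pair hn x₀.2 hxy x.2 h
      have h1 : g • x₀ = x := Subtype.ext hg
      have h2 : g • y₀ = y := Subtype.ext hg'
      rw [← h1, ← h2, hK]
  have hTeq : T = b • sumOp + ∑ c : Fˣ, a c • transOp c := by
    refine (Pi.basisFun ℂ (NzVec F n)).ext fun y => funext fun x => ?_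
    rw [Pi.basisFun_apply]
    show K x y = _
    rw [hval]
    simp only [LinearMap.add_apply, LinearMap.sum_apply, LinearMap.smul_apply, Pi.add_apply,
      Finset.sum_apply, Pi.smul_apply, smul_eq_mul, sumOp, transOp, LinearMap.coe_mk, AddHom.coe_mk,
      LinearMap.funLeft_apply, Pi.single_apply]
    congr 1
    · simp
    · refine Finset.sum_congr rfl fun c _ => ?_
      rw [mul_ite, mul_one, mul_zero]
      exact if_congr eq_comm rfl rfl
  rw [hTeq]
  exact add_mem (Submodule.smul_mem _ _ (Submodule.subset_span ⟨none, rfl⟩))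
    (sum_mem fun c _ => Submodule.smul_mem _ _ (Submodule.subset_span ⟨some c, rfl⟩))

theorem opFam_linearIndependent (hn : 3 ≤ n) : LinearIndependent ℂ (opFam (F := F) (n := n)) := by
  obtain ⟨x₀, y₀, hxy⟩ := exists_indep (F := F) hn
  rw [Fintype.linearIndependent_iff]
  intro a ha
  have h : ∀ x y, a none + ∑ c : Fˣ, (if y = scal c x then a (some c) else 0) = 0 := fun x y => by
    have := congrFun (LinearMap.congr_fun ha (Pi.single y 1)) x
    simp only [Fintype.sum_option, opFam, LinearMap.add_apply, LinearMap.sum_apply, LinearMap.smul_apply,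
      Pi.add_apply, Finset.sum_apply, Pi.smul_apply, smul_eq_mul, sumOp, transOp, LinearMap.coe_mk,
      AddHom.coe_mk, LinearMap.funLeft_apply, Pi.single_apply, LinearMap.zero_apply, Pi.zero_apply,
      mul_ite, mul_one, mul_zero, Finset.sum_ite_eq', Finset.mem_univ, if_true] at this
    refine Eq.trans ?_ this
    congr 1
    exact Finset.sum_congr rfl fun c _ => if_congr eq_comm rfl rfl
  have h0 : a none = 0 := by
    have := h x₀ y₀
    rwa [Finset.sum_eq_zero fun c _ => if_neg fun e => hxy (by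
      rw [e]; exact Submodule.smul_mem _ _ (Submodule.mem_span_singleton_self _)), add_zero] at this
  rintro (_ | c)
  · exact h0
  · have := h x₀ (scal c x₀)
    rwa [h0, zero_add, Finset.sum_eq_single c (fun d _ hd => if_neg fun e => hd (scal_injective x₀ e).symm)
      (by simp), if_pos rfl] at this

theorem finrank_end (hn : 3 ≤ n) :
    Module.finrank ℂ (permEnd (Matrix.SpecialLinearGroup (Fin n) F) (NzVec F n)) = Fintype.card F := by
  classical
  have e : permEnd (Matrix.SpecialLinearGroup (Fin n) F) (NzVec F n) =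
      Submodule.span ℂ (Set.range (opFam (F := F) (n := n))) :=
    le_antisymm (fun T hT => opFam_span hn hT) (Submodule.span_le.2 (by rintro _ ⟨i, rfl⟩; exact opFam_mem i))
  rw [e, finrank_span_eq_card (opFam_linearIndependent hn), Fintype.card_option, Fintype.card_units]
  exact Nat.succ_pred_eq_of_pos Fintype.card_pos

theorem end_commute (hn : 3 ≤ n) (S T : (NzVec F n → ℂ) →ₗ[ℂ] (NzVec F n → ℂ))
    (hS : S ∈ permEnd (Matrix.SpecialLinearGroup (Fin n) F) (NzVec F n))
    (hT : T ∈ permEnd (Matrix.SpecialLinearGroup (Fin n) F) (NzVec F n)) : S ∘ₗ T = T ∘ₗ S := by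
  have hS' := opFam_span hn hS
  have hT' := opFam_span hn hT
  clear hS hT
  induction hS' using Submodule.span_induction with
  | mem x hx =>
    obtain ⟨i, rfl⟩ := hx
    induction hT' using Submodule.span_induction with
    | mem y hy => obtain ⟨j, rfl⟩ := hy; exact opFam_commute i j
    | zero => simp
    | add y z _ _ hy hz => rw [LinearMap.comp_add, LinearMap.add_comp, hy, hz]
    | smul r y _ hy => rw [LinearMap.comp_smul, LinearMap.smul_comp, hy]
  | zero => simp
  | add y z _ _ hy hz => rw [LinearMap.comp_add, LinearMap.add_comp, hy, hz]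
  | smul r y _ hy => rw [LinearMap.comp_smul, LinearMap.smul_comp, hy]


/-- Let F be a finite field with q elements and n ≥ 3. The permutation character of SL_n(F) on the non-zero vectors of F^n (the function sending a matrix to the number of non-zero vectors it fixes) is the sum of the principal character and q − 1 pairwise distinct irreducible complex characters. -/
theorem result {F : Type*} [Field F] [Fintype F] [DecidableEq F] (n : ℕ) (hn : 3 ≤ n) :
    ∃ χ : Fin (Fintype.card F - 1) → (Matrix.SpecialLinearGroup (Fin n) F → ℂ),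
      (∀ i, Cfsg.IsIrrCharacter (Matrix.SpecialLinearGroup (Fin n) F) (χ i)) ∧ Function.Injective χ ∧
      ∀ g : Matrix.SpecialLinearGroup (Fin n) F,
        (Nat.card {v : Fin n → F // v ≠ 0 ∧ (g : Matrix (Fin n) (Fin n) F).mulVec v = v} : ℂ) = 1 + ∑ i, χ i g := by
  classical
  haveI := Fintype.ofFinite (Cfsg.IrrCharacter (Matrix.SpecialLinearGroup (Fin n) F))
  haveI := pretransitive (F := F) hn
  haveI : Nonempty (NzVec F n) := ⟨(exists_indep (F := F) hn).choose⟩
  obtain ⟨m, hm, hsum, hrk⟩ := exists_multiplicities (G := Matrix.SpecialLinearGroup (Fin n) F) (Ω := NzVec F n)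
  have h01 : ∀ ψ : Cfsg.IrrCharacter (Matrix.SpecialLinearGroup (Fin n) F), m ψ = 0 ∨ m ψ = 1 := fun ψ => by
    have := multiplicityFree_of_commute (end_commute (F := F) hn) ψ.2
    rw [hm] at this
    exact_mod_cast this
  let S := Finset.univ.filter fun ψ : Cfsg.IrrCharacter (Matrix.SpecialLinearGroup (Fin n) F) => m ψ = 1
  have hS : S.card = Fintype.card F := by
    rw [← finrank_end (F := F) hn, hrk, Finset.card_filter]
    exact Finset.sum_congr rfl fun ψ _ => by rcases h01 ψ with h | h <;> simp [h]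
  let one : Cfsg.IrrCharacter (Matrix.SpecialLinearGroup (Fin n) F) :=
    ⟨fun _ => 1, CfsgLib.Char.isIrrCharacter_one⟩
  have hone : one ∈ S := by
    have h1 : (m one : ℂ) = 1 := (hm one).symm.trans classInner_permChar_one
    exact Finset.mem_filter.2 ⟨Finset.mem_univ _, by exact_mod_cast h1⟩
  let S' := S.erase one
  have hS' : Fintype.card S' = Fintype.card F - 1 := by
    rw [Fintype.card_coe, Finset.card_erase_of_mem hone, hS]
  let e : Fin (Fintype.card F - 1) ≃ S' := (Fintype.equivFinOfCardEq hS').symm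
  refine ⟨fun i => ((e i).1 : Matrix.SpecialLinearGroup (Fin n) F → ℂ), fun i => (e i).1.2,
    fun i j h => e.injective (Subtype.ext (Subtype.ext h)), fun g => ?_⟩
  have hfix : (Nat.card {v : Fin n → F // v ≠ 0 ∧ (g : Matrix (Fin n) (Fin n) F).mulVec v = v} : ℂ) =
      permChar (Matrix.SpecialLinearGroup (Fin n) F) (NzVec F n) g := by
    exact congrArg Nat.cast (Nat.card_congr
      { toFun := fun v => ⟨⟨v.1, v.2.1⟩, Subtype.ext v.2.2⟩
        invFun := fun v => ⟨v.1.1, v.1.2, congrArg Subtype.val v.2⟩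
        left_inv := fun v => rfl
        right_inv := fun v => rfl })
  rw [hfix, hsum g, Equiv.sum_comp e fun ψ => (ψ.1 : Matrix.SpecialLinearGroup (Fin n) F → ℂ) g,
    Finset.sum_coe_sort S' fun ψ => (ψ : Matrix.SpecialLinearGroup (Fin n) F → ℂ) g]
  simp only [S']
  rw [show (1 : ℂ) = (one : Matrix.SpecialLinearGroup (Fin n) F → ℂ) g from rfl,
    Finset.add_sum_erase S (fun ψ => (ψ : Matrix.SpecialLinearGroup (Fin n) F → ℂ) g) hone, Finset.sum_filter]
  exact Finset.sum_congr rfl fun ψ _ => by rcases h01 ψ with h | h <;> simp [h]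
end Cfsg.Agent.S2336
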