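import Cfsg.Statements.S2338
import Cfsg.Agent.Lib.Chev.G2Min.OneC
import Cfsg.Agent.Lib.Chev.G2Min.Three

set_option autoImplicit false
open Cfsg

namespace Cfsg.Agent.S2338

/-- Lower bounds for the degrees of non-linear irreducible complex representations of the Chevalley group of type G₂ over a finite field with q elements: the degree is at least q³ + 1 when q ≡ 1 (mod 3) and q > 4, at least q³ − 1 when q ≡ 2 (mod 3) and q > 2, and at least q⁴ + q² + 1 when q ≡ 0 (mod 3) and q > 3. -/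
theorem result {F : Type*} [Field F] [Fintype F] (k : ℕ) (ρ : Representation ℂ (Cfsg.Lie.chevG2.group F) (Fin k → ℂ)) (hρ : ρ.IsIrreducible) (hk : 2 ≤ k) :
    (Fintype.card F % 3 = 1 → 4 < Fintype.card F → Fintype.card F ^ 3 + 1 ≤ k) ∧
    (Fintype.card F % 3 = 2 → 2 < Fintype.card F → Fintype.card F ^ 3 - 1 ≤ k) ∧
    (Fintype.card F % 3 = 0 → 3 < Fintype.card F → Fintype.card F ^ 4 + Fintype.card F ^ 2 + 1 ≤ k) := by
  obtain ⟨ψ₀, hψ₀⟩ : ∃ ψ : AddChar F ℂ, ψ.IsPrimitive :=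
    ⟨AddChar.FiniteField.primitiveChar_to_Complex F, AddChar.FiniteField.primitiveChar_to_Complex_isPrimitive F⟩
  have hfin : Module.finrank ℂ (Fin k → ℂ) = k := Module.finrank_fin_fun ℂ
  refine ⟨fun h1 h4 => ?_, fun h1 h2 => ?_, fun h1 h3 => ?_⟩
  · let C : CfsgLib.Chev.G2Min.Ctx F (Fin k → ℂ) :=
      ⟨ρ, hρ, hfin.symm ▸ hk, by omega, ψ₀, hψ₀⟩
    have := C.bound_one (CfsgLib.Chev.G2Min.three_ne_zero_of_mod (by omega)) (by omega) h1 h4
    rwa [hfin] at this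
  · let C : CfsgLib.Chev.G2Min.Ctx F (Fin k → ℂ) :=
      ⟨ρ, hρ, hfin.symm ▸ hk, by omega, ψ₀, hψ₀⟩
    have := (C.lower_bound (CfsgLib.Chev.G2Min.three_ne_zero_of_mod (by omega)) (by omega)).1
    rwa [hfin] at this
  · let C : CfsgLib.Chev.G2Min.Ctx F (Fin k → ℂ) :=
      ⟨ρ, hρ, hfin.symm ▸ hk, by omega, ψ₀, hψ₀⟩
    have := C.bound_three h1 h3
    rwa [hfin] at this

end Cfsg.Agent.S2338
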