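import Cfsg.Statements.S2342
import Cfsg.Agent.Lib.KnownB.D4MinDegree

set_option autoImplicit false
open Cfsg

namespace Cfsg.Agent.S2342

/-- For the twisted group ³D₄(q), realised over the field with q³ elements (q a prime power), every irreducible complex representation of degree at least 2 has degree at least q(q⁴ − q² + 1). -/
theorem result {K : Type*} [Field K] [Fintype K] (q : ℕ) (hq : IsPrimePow q) (hK : Fintype.card K = q ^ 3) :
    (∀ (k : ℕ) (ρ : Representation ℂ (Cfsg.Lie.twistedD4 K q) (Fin k → ℂ)), ρ.IsIrreducible → 2 ≤ k → q * (q ^ 4 - q ^ 2 + 1) ≤ k) := by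
  intro k ρ hρ hk
  have hne : ∃ g, ρ g ≠ 1 := by
    by_contra hall
    push Not at hall
    let v : Fin k → ℂ := Pi.single ⟨0, by omega⟩ 1
    let W : Subrepresentation ρ := ⟨Submodule.span ℂ {v}, fun g x hx => by rw [hall g]; exact hx⟩
    rcases hρ.eq_bot_or_eq_top W with h | h
    · have h1 := congrArg Subrepresentation.toSubmodule h
      have h2 : v ∈ W.toSubmodule := Submodule.mem_span_singleton_self v
      rw [h1] at h2
      have h3 := congrFun ((Submodule.mem_bot ℂ).1 h2) ⟨0, by omega⟩
      simp [v] at h3
    · have h1 : Submodule.span ℂ {v} = ⊤ := congrArg Subrepresentation.toSubmodule h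
      have h2 := finrank_span_singleton (K := ℂ) (v := v) (fun h => by
        have h3 := congrFun h ⟨0, by omega⟩
        simp [v] at h3)
      rw [h1, finrank_top, Module.finrank_fin_fun] at h2
      omega
  have := hρ
  simpa using CfsgLib.KnownB.D4Deg.min_degree q hq hK ρ hne

end Cfsg.Agent.S2342
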