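import Cfsg.Statements.S2345
import Cfsg.Agent.Lib.Classical.OMinDegStd

set_option autoImplicit false
open Cfsg

namespace Cfsg.Agent.S2345

open CfsgLib.Classical CfsgLib.Classical.OMinDeg in
/-- For a finite field F with q > 3 elements and n ≥ 4, every irreducible complex representation of degree at least 2 of Ω⁺_{2n}(F) (the commutator subgroup of the isometry group of the hyperbolic quadratic form x₁y₁ + ⋯ + x_ny_n) has degree at least (q^n − 1)(q^{n−1} + q)/(q² − 1). -/
theorem result {F : Type*} [Field F] [Fintype F] (n : ℕ) (hn : 4 ≤ n) (h3 : 3 < Fintype.card F) :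
    (∀ (k : ℕ) (ρ : Representation ℂ (Cfsg.Omega F (Cfsg.quadFormPlus n F)) (Fin k → ℂ)), ρ.IsIrreducible → 2 ≤ k → (Fintype.card F ^ n - 1) * (Fintype.card F ^ (n - 1) + Fintype.card F) / (Fintype.card F ^ 2 - 1) ≤ k) := by
  intro k ρ hirr hk
  obtain ⟨m, rfl⟩ : ∃ m, n = m + 1 := ⟨n - 1, by omega⟩
  haveI := finite_siegelGroup (qfPlus (m + 1) F)
  have hV := qfPlus_type (F := F) m
  obtain ⟨ρ', hirr'⟩ := exists_transfer (qfPlus (m + 1) F) hV.sep (by rw [hV.dim]; omega)
    (qfPlus_apply (m + 1)) ρ hirr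
  have h := even_bound ρ' (by omega : 3 ≤ m) (Or.inl rfl) (Or.inl h3) hV hirr' (by simpa using hk)
  rw [Module.finrank_fin_fun] at h
  refine div_le_of_real ?_
  rw [Nat.add_sub_cancel, Nat.cast_mul, Nat.cast_sub (Nat.one_le_pow _ _ Fintype.card_pos),
    Nat.cast_sub (Nat.one_le_pow _ _ Fintype.card_pos)]
  push_cast
  rw [one_mul] at h
  exact h

end Cfsg.Agent.S2345
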