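import Cfsg.Statements.S2346
import Cfsg.Agent.Lib.Classical.OMinDegStd
import Cfsg.Agent.Lib.Classical.OMinDegSmallInd

set_option autoImplicit false
open Cfsg

namespace Cfsg.Agent.S2346

open CfsgLib.Classical CfsgLib.Classical.OMinDeg in
/-- For a finite field F with q elements, n ≥ 4, and a, b ∈ F with z₁² + a z₁z₂ + b z₂² anisotropic, every irreducible complex representation of degree at least 2 of Ω⁻_{2n}(F) (the commutator subgroup of the isometry group of x₁y₁ + ⋯ + x_{n−1}y_{n−1} + z₁² + a z₁z₂ + b z₂²) has degree at least (q^n + 1)(q^{n−1} − q)/(q² − 1). -/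
theorem result {F : Type*} [Field F] [Fintype F] (n : ℕ) (hn : 4 ≤ n) (a b : F) (hab : ∀ z₁ z₂ : F, z₁ ^ 2 + a * z₁ * z₂ + b * z₂ ^ 2 = 0 → z₁ = 0 ∧ z₂ = 0) :
    (∀ (k : ℕ) (ρ : Representation ℂ (Cfsg.Omega F (Cfsg.quadFormMinus (n - 1) F a b)) (Fin k → ℂ)), ρ.IsIrreducible → 2 ≤ k → (Fintype.card F ^ n + 1) * (Fintype.card F ^ (n - 1) - Fintype.card F) / (Fintype.card F ^ 2 - 1) ≤ k) := by
  obtain ⟨m, rfl⟩ : ∃ m, n = m + 1 + 1 := ⟨n - 2, by omega⟩
  simp only [Nat.add_sub_cancel]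
  intro k ρ hirr hk
  haveI := finite_siegelGroup (qfMinus (m + 1) F a b)
  have hV := qfMinus_type (F := F) m hab
  obtain ⟨ρ', hirr'⟩ := exists_transfer (qfMinus (m + 1) F a b) hV.sep (by rw [hV.dim]; omega)
    (qfMinus_apply (m + 1) a b) ρ hirr
  have h : ((Fintype.card F : ℝ) ^ (m + 1 + 1) + 1) *
      ((Fintype.card F : ℝ) ^ (m + 1) - (Fintype.card F : ℝ)) ≤
        (k : ℝ) * ((Fintype.card F : ℝ) ^ 2 - 1) := by
    by_cases hq : 4 ≤ Fintype.card F
    · have h := even_bound ρ' (by omega : 3 ≤ m + 1) (Or.inr rfl : (-1 : ℝ) = 1 ∨ (-1 : ℝ) = -1)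
        (Or.inl hq) hV hirr' (by simpa using hk)
      simpa [sub_eq_add_neg] using h
    · have h := small_bound (by omega : Fintype.card F ≤ 3) (by omega : 3 ≤ m + 1) hV ρ' hirr'
        (by simpa using hk)
      simpa using h
  refine div_le_of_real ?_
  rw [Nat.cast_mul, Nat.cast_sub (Nat.le_self_pow (by omega) _),
    Nat.cast_sub (Nat.one_le_pow _ _ Fintype.card_pos)]
  push_cast
  exact h

end Cfsg.Agent.S2346
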