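import Cfsg.Statements.S2359
import Cfsg.Agent.Lib.Chev.ReeTori

set_option autoImplicit false
open Cfsg

namespace Cfsg.Agent.S2359

/-- Let R be the small Ree group over the field with q = 3^(2m+1) ≥ 27 elements. If H is a cyclic subgroup of R of order (q−1)/2, then the centralizer of H in R is cyclic of order q−1, and every non-trivial subgroup of H has the same centralizer as H. If H is a cyclic subgroup of order (q+1)/4, then the centralizer of H is abelian of order q+1 with no element of order 4 (so it is the direct product of H and a group of order 4 whose non-identity elements all have order 2), and every non-trivial subgroup of H has the same centralizer as H. -/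
theorem result {K : Type*} [Field K] [Fintype K] {m : ℕ} (hm : 1 ≤ m)
    (hK : Fintype.card K = 3 ^ (2 * m + 1)) (H : Subgroup ↥(Cfsg.Lie.twistedG2 K (3 ^ m))) (hH : IsCyclic H) :
    (Nat.card H = (3 ^ (2 * m + 1) - 1) / 2 →
      IsCyclic ↥(Subgroup.centralizer (H : Set ↥(Cfsg.Lie.twistedG2 K (3 ^ m)))) ∧
        Nat.card ↥(Subgroup.centralizer (H : Set ↥(Cfsg.Lie.twistedG2 K (3 ^ m)))) = 3 ^ (2 * m + 1) - 1 ∧
        ∀ A : Subgroup ↥(Cfsg.Lie.twistedG2 K (3 ^ m)), A ≤ H → A ≠ ⊥ →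
          Subgroup.centralizer (A : Set ↥(Cfsg.Lie.twistedG2 K (3 ^ m))) = Subgroup.centralizer (H : Set ↥(Cfsg.Lie.twistedG2 K (3 ^ m)))) ∧
    (Nat.card H = (3 ^ (2 * m + 1) + 1) / 4 →
      IsMulCommutative ↥(Subgroup.centralizer (H : Set ↥(Cfsg.Lie.twistedG2 K (3 ^ m)))) ∧
        Nat.card ↥(Subgroup.centralizer (H : Set ↥(Cfsg.Lie.twistedG2 K (3 ^ m)))) = 3 ^ (2 * m + 1) + 1 ∧
        (∀ x ∈ Subgroup.centralizer (H : Set ↥(Cfsg.Lie.twistedG2 K (3 ^ m))), orderOf x ≠ 4) ∧
        ∀ A : Subgroup ↥(Cfsg.Lie.twistedG2 K (3 ^ m)), A ≤ H → A ≠ ⊥ →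
          Subgroup.centralizer (A : Set ↥(Cfsg.Lie.twistedG2 K (3 ^ m))) = Subgroup.centralizer (H : Set ↥(Cfsg.Lie.twistedG2 K (3 ^ m)))) := by
  classical
  obtain ⟨S⟩ := CfsgLib.Chev.exists_setupG2 K hK
  obtain ⟨hq27, -, -, -, -, -⟩ := S.arith hm
  have h8 := S.q_mod
  constructor
  · intro hc
    obtain ⟨T, hk, hTc, -, hcyc⟩ := S.torusData_split hm
    obtain ⟨g, hg⟩ := T.centralizer_sub hH (hc.trans hk.symm)
    have hne : H ≠ ⊥ := fun h => by
      rw [h, Subgroup.card_bot] at hc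
      omega
    rw [hg H le_rfl hne]
    refine ⟨isCyclic_of_surjective (T.M.equivMapOfInjective _ (MulEquiv.injective _))
      (T.M.equivMapOfInjective _ (MulEquiv.injective _)).surjective, ?_, fun A hA hA0 => hg A hA hA0⟩
    rw [Subgroup.card_map_of_injective (MulEquiv.injective _), T.cardM, hTc, hk]
    omega
  · intro hc
    obtain ⟨T, hk, hTc, -, -, -⟩ := S.torusData_klein hm
    obtain ⟨g, hg⟩ := T.centralizer_sub hH (hc.trans hk.symm)
    have hne : H ≠ ⊥ := fun h => by
      rw [h, Subgroup.card_bot] at hc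
      omega
    rw [hg H le_rfl hne]
    refine ⟨⟨⟨?_⟩⟩, ?_, ?_, fun A hA hA0 => hg A hA hA0⟩
    · rintro ⟨_, x, hx, rfl⟩ ⟨_, y, hy, rfl⟩
      refine Subtype.ext ?_
      show (MulAut.conj g).toMonoidHom x * (MulAut.conj g).toMonoidHom y =
        (MulAut.conj g).toMonoidHom y * (MulAut.conj g).toMonoidHom x
      rw [← map_mul, ← map_mul, T.comm x hx y hy]
    · rw [Subgroup.card_map_of_injective (MulEquiv.injective _), T.cardM, hTc, hk]
      omega
    · rintro _ ⟨x, hx, rfl⟩ h4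
      rw [MulEquiv.coe_toMonoidHom, MulEquiv.orderOf_eq] at h4
      have h := orderOf_dvd_of_pow_eq_one (T.exp x hx)
      rw [h4, hk] at h
      omega

end Cfsg.Agent.S2359
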