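import Cfsg.Statements.S2362
import Cfsg.Agent.Lib.KnownB.BCSpectrum
import Cfsg.Agent.Lib.KnownB.SpElem
import Cfsg.Agent.Lib.Classical.OrthOmega

-- import your own Cfsg.Agent.* helpers here

set_option autoImplicit false
open Cfsg

namespace Cfsg.Agent.S2362

/-- Let F be a finite field of odd order and n ≥ 3. The simple orthogonal group PΩ(2n+1, F) (type B_n) and the projective symplectic group PSp(2n, F) (type C_n), which have the same order, do not have the same set of element orders. -/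
theorem result {F : Type*} [Field F] [Fintype F] (hodd : Odd (Fintype.card F)) (n : ℕ) (hn : 3 ≤ n) :
    Set.range (orderOf : Cfsg.POmega F (Cfsg.quadFormOdd n F) → ℕ) ≠ Set.range (orderOf : Cfsg.PSp n F → ℕ) := by
  classical
  intro hEq
  obtain ⟨p, _⟩ := CharP.exists F
  have : Fact p.Prime := ⟨CharP.char_is_prime F p⟩
  have hp2 : p ≠ 2 := by
    rintro rfl
    obtain ⟨k, -, hk⟩ := FiniteField.card F 2
    rw [hk] at hodd
    exact Nat.not_even_iff_odd.mpr hodd (Nat.even_pow.mpr ⟨even_two, k.pos.ne'⟩)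
  obtain ⟨m, rfl⟩ : ∃ m, n = m + 1 := ⟨n - 1, by omega⟩
  have : NeZero m := ⟨by omega⟩
  obtain ⟨x, hx⟩ := CfsgLib.KnownB.SpElem.exists_orderOf_psp (F := F) p hp2 m
  obtain ⟨y, hy⟩ := hEq.ge ⟨x, hx⟩
  have h2 : (2 : F) ≠ 0 := fun h => hp2 ((Nat.prime_dvd_prime_iff_eq Fact.out Nat.prime_two).mp
    ((CharP.cast_eq_zero_iff F p 2).mp (by exact_mod_cast h)))
  have key : ∀ Q0, Q0 = ⇑(CfsgLib.Classical.qfOdd (m + 1) F) →
      ∀ z : Cfsg.POmega F Q0, orderOf z ≠ p * (Fintype.card F ^ m + 1) := by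
    rintro Q0 rfl z
    obtain ⟨g, rfl⟩ := QuotientGroup.mk_surjective z
    have hcard : Fintype.card (Unit ⊕ (Fin (m + 1) ⊕ Fin (m + 1))) = 2 * (m + 1) + 1 := by
      simp only [Fintype.card_sum, Fintype.card_fin, Fintype.card_unit]
      omega
    have hZ := (CfsgLib.Geom.omega_odd_center_and_involutions _
      (CfsgLib.Classical.qfOdd_sep h2 (m + 1)) h2 (by omega) hcard).1
    rw [show orderOf (g : Cfsg.POmega F (⇑(CfsgLib.Classical.qfOdd (m + 1) F))) = orderOf g from
      orderOf_injective (QuotientGroup.mk' _) (by rw [← MonoidHom.ker_eq_bot_iff, QuotientGroup.ker_mk', hZ]) g,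
      ← Subgroup.orderOf_coe]
    exact CfsgLib.KnownB.BC.no_elem p hp2 (by omega) _
      (CfsgLib.Classical.qfOdd_sep h2 (m + 1)) (by omega) g.2
  exact key _ (CfsgLib.Classical.qfOdd_coe (m + 1)).symm y hy

end Cfsg.Agent.S2362
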