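import Cfsg.Statements.S2364
import Cfsg.Agent.Lib.Classical.SLOrder

set_option autoImplicit false
open Cfsg

namespace Cfsg.Agent.S2364


open Matrix

variable {F : Type*} [Field F] [Fintype F]

theorem prime_dvd_gl {r m j : ℕ} (hr : r.Prime) (hm : 2 ≤ m) (hj : j ≤ m)
    (h : r ∣ Nat.card (GL (Fin j) F)) : r ∣ Nat.card (Matrix.SpecialLinearGroup (Fin m) F) := by
  have : Nonempty (Fin m) := ⟨⟨0, by omega⟩⟩
  set q := Fintype.card F with hq
  rw [Matrix.card_GL_field] at h
  obtain ⟨i, -, hi⟩ := (Nat.Prime.prime hr).dvd_finset_prod_iff _ |>.1 h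
  have hq1 : 1 < q := Fintype.one_lt_card
  have e : ∀ a b : ℕ, b ≤ a → q ^ a - q ^ b = q ^ b * (q ^ (a - b) - 1) := fun a b hab => by
    rw [Nat.mul_sub, mul_one, ← pow_add, Nat.add_sub_cancel' hab]
  have hcard := CfsgLib.Classical.card_sl_mul (F := F) (n := m) (by omega)
  have hdvd : ∀ k : ℕ, k < m → q ^ m - q ^ k ∣ (q - 1) * Nat.card (Matrix.SpecialLinearGroup (Fin m) F) := fun k hk => by
    rw [hcard]
    exact Finset.dvd_prod_of_mem (fun i : Fin m => q ^ m - q ^ (i : ℕ)) (Finset.mem_univ ⟨k, hk⟩)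
  have hsq : (q - 1) * (q - 1) ∣ (q - 1) * Nat.card (Matrix.SpecialLinearGroup (Fin m) F) := by
    rw [hcard, ← Finset.mul_prod_erase Finset.univ _ (Finset.mem_univ (⟨0, by omega⟩ : Fin m))]
    refine mul_dvd_mul ?_ (dvd_trans ?_ (Finset.dvd_prod_of_mem _
      (Finset.mem_erase.2 ⟨show (⟨1, by omega⟩ : Fin m) ≠ ⟨0, by omega⟩ by simp [Fin.ext_iff], Finset.mem_univ _⟩)))
    · rw [e _ _ (Nat.zero_le _)]
      exact dvd_mul_of_dvd_right ((Nat.sub_one_dvd_pow_sub_one q _)) _
    · rw [e _ _ (show 1 ≤ m by omega)]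
      exact dvd_mul_of_dvd_right ((Nat.sub_one_dvd_pow_sub_one q _)) _
  have hq1' : (q - 1) ∣ Nat.card (Matrix.SpecialLinearGroup (Fin m) F) :=
    (Nat.mul_dvd_mul_iff_left (by omega : 0 < q - 1)).1 hsq
  have key : r ∣ (q - 1) * Nat.card (Matrix.SpecialLinearGroup (Fin m) F) := by
    rw [e _ _ (le_of_lt i.2)] at hi
    rcases hr.dvd_mul.1 hi with h1 | h1
    · refine dvd_trans ?_ (hdvd 1 (by omega))
      rw [e _ _ (show 1 ≤ m by omega), pow_one]
      exact dvd_mul_of_dvd_left (hr.dvd_of_dvd_pow h1) _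
    · refine dvd_trans ?_ (hdvd (m - (j - i)) (by omega))
      rw [e _ _ (by omega), show m - (m - (j - (i : ℕ))) = j - i by omega]
      exact dvd_mul_of_dvd_right h1 _
  exact (hr.dvd_mul.1 key).elim (fun h1 => h1.trans hq1') id

variable {n : ℕ}

theorem trivial_on_small {r : ℕ} (hr : r.Prime) (hn : 4 ≤ n)
    (hndvd : ¬ r ∣ Nat.card (Matrix.SpecialLinearGroup (Fin (n - 2)) F))
    (B : Module.End F (Fin n → F)) (hB : B ^ r = 1) (W : Submodule F (Fin n → F))
    (hW : ∀ x ∈ W, B x ∈ W) (hd : Module.finrank F W ≤ n - 2) : ∀ x ∈ W, B x = x := by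
  let f : Module.End F W := B.restrict hW
  have hpow : ∀ (k : ℕ) (x : W), ((f ^ k) x : Fin n → F) = (B ^ k) (x : Fin n → F) := by
    intro k
    induction k with
    | zero => intro x; simp
    | succ k ih =>
      intro x
      rw [pow_succ, pow_succ, Module.End.mul_apply, Module.End.mul_apply, ih]
      rfl
  have hf : f ^ r = 1 := LinearMap.ext fun x => Subtype.ext (by rw [hpow, hB]; rfl)
  let e := (algEquivMatrix (Module.finBasis F W))
  have hfm : (e f) ^ r = 1 := by rw [← map_pow, hf, map_one]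
  let u : GL (Fin (Module.finrank F W)) F := Units.ofPowEqOne (e f) r hfm hr.ne_zero
  have hu : u = 1 := by
    have h1 : orderOf u ∣ r := orderOf_dvd_of_pow_eq_one (Units.ext (by
      rw [Units.val_pow_eq_pow_val, Units.val_one]; exact hfm))
    have h2 : orderOf u ∣ Nat.card (GL (Fin (Module.finrank F W)) F) := orderOf_dvd_natCard u
    rcases (Nat.dvd_prime hr).1 h1 with h | h
    · exact orderOf_eq_one_iff.1 h
    · exact absurd (prime_dvd_gl hr (by omega) hd (h ▸ h2)) hndvd
  have h3 : f = 1 := e.injective (by rw [map_one]; exact congrArg Units.val hu)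
  intro x hx
  exact congrArg Subtype.val (LinearMap.congr_fun h3 ⟨x, hx⟩)

/-- The linear algebra core. -/
theorem core {r : ℕ} (hr : r.Prime) (hn : 4 ≤ n)
    (hndvd : ¬ r ∣ Nat.card (Matrix.SpecialLinearGroup (Fin (n - 2)) F))
    (B N : Module.End F (Fin n → F)) (hB : B ^ r = 1) (hN : IsNilpotent N) (hN0 : N ≠ 0)
    (hc : Commute B N) : B = 1 := by
  have hrF : (r : F) ≠ 0 := fun h => hndvd (prime_dvd_gl hr (by omega) (le_refl _) (by
    obtain ⟨p, hp⟩ := CharP.exists F
    haveI := hp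
    obtain ⟨k, hpp, hcard⟩ := FiniteField.card F p
    have hrp : p = r := by
      rcases (Nat.dvd_prime hr).1 ((CharP.cast_eq_zero_iff F p r).1 h) with e | e
      · exact absurd e hpp.ne_one
      · exact e
    rw [Matrix.card_GL_field]
    refine dvd_trans ?_ (Finset.dvd_prod_of_mem _ (Finset.mem_univ (⟨1, by omega⟩ : Fin (n - 2))))
    refine Nat.dvd_sub (dvd_pow (hcard ▸ hrp ▸ dvd_pow_self p k.ne_zero) (by omega))
      (dvd_pow (hcard ▸ hrp ▸ dvd_pow_self p k.ne_zero) (by simp))))
  let T := B - 1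
  have hTB : ∀ x, B x = x + T x := fun x => by simp [T]
  have hdisj : ∀ y, y ∈ LinearMap.range T → T y = 0 → y = 0 := by
    rintro _ ⟨x, rfl⟩ hy
    have hk : ∀ k : ℕ, (B ^ k) x = x + (k : F) • T x := by
      intro k
      induction k with
      | zero => simp
      | succ k ih =>
        rw [pow_succ', Module.End.mul_apply, ih, map_add, map_smul, hTB x, hTB (T x), hy, add_zero,
          Nat.cast_succ, add_smul, one_smul]
        abel
    have := hk r
    rw [hB, Module.End.one_apply, left_eq_add] at this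
    exact (smul_eq_zero.1 this).resolve_left hrF
  have hTN : ∀ x, T (N x) = N (T x) := fun x => by
    have := LinearMap.congr_fun hc.eq x
    simp only [Module.End.mul_apply] at this
    simp [T, this, map_sub]
  -- B fixes small invariant subspaces
  have small : ∀ W : Submodule F (Fin n → F), (∀ x ∈ W, T x ∈ W) → Module.finrank F W ≤ n - 2 →
      ∀ x ∈ W, T x = 0 := fun W hW hd x hx => by
    have := trivial_on_small hr hn hndvd B hB W (fun x hx => by rw [hTB]; exact add_mem hx (hW x hx)) hd x hx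
    rw [hTB, add_eq_left] at this
    exact this
  have hdim := T.finrank_range_add_finrank_ker
  rw [Module.finrank_fin_fun] at hdim
  by_cases hW : Module.finrank F (LinearMap.range T) ≤ n - 2
  · refine LinearMap.ext fun x => ?_
    rw [hTB, hdisj (T x) ⟨x, rfl⟩ (small _ (fun y _ => LinearMap.mem_range_self T y) hW _ (LinearMap.mem_range_self T x)), add_zero,
      Module.End.one_apply]
  exfalso
  push Not at hW
  -- the kernel of T is killed by N
  obtain ⟨s, hs⟩ := hN
  have hnil : ∀ (U : Submodule F (Fin n → F)), (∀ x ∈ U, N x ∈ U) → (∀ x ∈ U, N x = 0 → x = 0) →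
      U = ⊥ := by
    intro U hU hinj
    have : ∀ (k : ℕ) x, x ∈ U → (N ^ k) x = 0 → x = 0 := by
      intro k
      induction k with
      | zero => intro x _ h; simpa using h
      | succ k ih =>
        intro x hx h
        rw [pow_succ, Module.End.mul_apply] at h
        exact hinj x hx (ih (N x) (hU x hx) h)
    exact (Submodule.eq_bot_iff U).2 fun x hx => this s x hx (by rw [hs]; rfl)
  have hkerN : ∀ x, T x = 0 → N x = 0 := by
    intro x hx
    by_contra h0
    have hle : LinearMap.range (N.domRestrict (LinearMap.ker T)) ≤ LinearMap.ker T := by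
      rintro _ ⟨y, rfl⟩
      show T (N y.1) = 0
      rw [hTN, LinearMap.mem_ker.1 y.2, map_zero]
    have h1 : Module.finrank F (LinearMap.ker T) ≤ 1 := by omega
    have heq : LinearMap.range (N.domRestrict (LinearMap.ker T)) = LinearMap.ker T :=
      Submodule.eq_of_le_of_finrank_le hle (h1.trans (Submodule.one_le_finrank_iff.2
        ((Submodule.ne_bot_iff _).2 ⟨N x, ⟨⟨x, hx⟩, rfl⟩, h0⟩)))
    have hbot := hnil (LinearMap.ker T) (fun y hy => heq ▸ ⟨⟨y, hy⟩, rfl⟩) ?_
    · rw [Submodule.eq_bot_iff] at hbot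
      exact h0 (by rw [hbot x hx, map_zero])
    · intro y hy hNy
      by_contra hy0
      obtain ⟨c, hc'⟩ := exists_smul_eq_of_finrank_eq_one
        (le_antisymm h1 (Submodule.one_le_finrank_iff.2 ((Submodule.ne_bot_iff _).2 ⟨y, hy, hy0⟩)))
        (x := ⟨y, hy⟩) (by simpa using hy0) ⟨x, hx⟩
      apply h0
      have hcx : c • y = x := congrArg Subtype.val hc'
      rw [← hcx, map_smul, hNy, smul_zero]
  -- the kernel and the image of N inside the image of T
  let K := LinearMap.ker N ⊓ LinearMap.range T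
  let I := (LinearMap.range T).map N
  have hKinv : ∀ x ∈ K, T x ∈ K := fun x hx => ⟨by
    show N (T x) = 0
    rw [← hTN, LinearMap.mem_ker.1 hx.1, map_zero], ⟨x, rfl⟩⟩
  have hIT : I ≤ LinearMap.range T := by
    rintro _ ⟨_, ⟨x, rfl⟩, rfl⟩; exact ⟨N x, hTN x⟩
  have hIinv : ∀ x ∈ I, T x ∈ I := by
    rintro _ ⟨y, hy, rfl⟩
    exact ⟨T y, ⟨y, rfl⟩, (hTN y).symm⟩
  have hkill : ∀ (U : Submodule F (Fin n → F)), (∀ x ∈ U, T x ∈ U) → U ≤ LinearMap.range T →
      Module.finrank F U ≤ n - 2 → U = ⊥ := fun U h1 h2 h3 =>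
    (Submodule.eq_bot_iff U).2 fun x hx => hdisj x (h2 hx) (small U h1 h3 x hx)
  have hsum : Module.finrank F I + Module.finrank F K = Module.finrank F (LinearMap.range T) := by
    have h1 := (N.domRestrict (LinearMap.range T)).finrank_range_add_finrank_ker
    rw [LinearMap.range_domRestrict, LinearMap.ker_domRestrict] at h1
    rw [← h1]
    congr 1
    rw [show K = Submodule.map (LinearMap.range T).subtype ((LinearMap.ker N).comap (LinearMap.range T).subtype) by
      rw [Submodule.map_comap_subtype, inf_comm], Submodule.finrank_map_subtype_eq]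
  have hK : K ≠ ⊥ := fun h => by
    have := hnil (LinearMap.range T) (fun x hx => hIT ⟨x, hx, rfl⟩) fun x hx h0 =>
      (Submodule.eq_bot_iff K).1 h x ⟨h0, hx⟩
    rw [this, finrank_bot] at hW
    omega
  have hI : I ≠ ⊥ := fun h => hN0 (LinearMap.ext fun x => by
    have hle : LinearMap.ker T ⊔ LinearMap.range T ≤ LinearMap.ker N :=
      sup_le (fun y hy => hkerN y hy) fun y hy => (Submodule.eq_bot_iff I).1 h _ ⟨y, hy, rfl⟩
    have hd : Disjoint (LinearMap.ker T) (LinearMap.range T) :=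
      Submodule.disjoint_def.2 fun y hy hy' => hdisj y hy' hy
    have htop : LinearMap.ker T ⊔ LinearMap.range T = ⊤ := Submodule.eq_top_of_disjoint _ _
      (by rw [Module.finrank_fin_fun]; omega) hd
    exact hle (htop ▸ Submodule.mem_top))
  have h1 : n - 2 < Module.finrank F K := lt_of_not_ge fun h => hK (hkill K hKinv inf_le_right h)
  have h2 : n - 2 < Module.finrank F I := lt_of_not_ge fun h => hI (hkill I hIinv hIT h)
  have := Submodule.finrank_le (LinearMap.range T)
  rw [Module.finrank_fin_fun] at this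
  omega

theorem exists_lift {G : Type*} [Group G] [Finite G] {Z : Subgroup G} [Z.Normal] {r : ℕ} (hr : r.Prime)
    (hco : ¬ r ∣ Nat.card Z) (a : G ⧸ Z) (ha : orderOf a = r) :
    ∃ A : G, A ^ r = 1 ∧ QuotientGroup.mk' Z A = a := by
  obtain ⟨A, rfl⟩ := QuotientGroup.mk'_surjective Z a
  obtain ⟨j, hj1, hj2⟩ := Nat.chineseRemainder (Nat.Coprime.symm ((hr.coprime_iff_not_dvd).2 hco)) 0 1
  refine ⟨A ^ j, ?_, ?_⟩
  · have hmem : A ^ r ∈ Z := (QuotientGroup.eq_one_iff _).1 (by
      have := pow_orderOf_eq_one (QuotientGroup.mk' Z A)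
      rw [ha, ← map_pow] at this
      exact this)
    obtain ⟨k, hk⟩ := (Nat.modEq_zero_iff_dvd.1 hj1)
    rw [← pow_mul, mul_comm j r, pow_mul, hk, pow_mul]
    have : ((⟨_, hmem⟩ : Z) ^ Nat.card Z : Z) = 1 := pow_card_eq_one'
    rw [show (A ^ r) ^ Nat.card Z = 1 from congrArg Subtype.val this, one_pow]
  · rw [map_pow]
    refine Eq.trans ?_ (pow_one _)
    rw [pow_eq_pow_iff_modEq, ha]
    exact hj2


/-- Let F be a finite field of characteristic p, n ≥ 4, and let a, b be commuting elements of PSL(n, F) with a of order p. Then every prime divisor of the order of b divides the order of SL(n − 2, F). -/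
theorem result {F : Type*} [Field F] [Fintype F] (p : ℕ) [Fact p.Prime] [CharP F p] (n : ℕ) (hn : 4 ≤ n)
    (a b : Matrix.ProjectiveSpecialLinearGroup (Fin n) F) (ha : orderOf a = p) (hab : Commute a b) :
    (orderOf b).primeFactors ⊆ (Nat.card (Matrix.SpecialLinearGroup (Fin (n - 2)) F)).primeFactors := by
  classical
  intro r hr
  rw [Nat.mem_primeFactors] at hr ⊢
  obtain ⟨hrp, hrb, hb0⟩ := hr
  refine ⟨hrp, ?_, Nat.card_pos.ne'⟩
  by_contra hndvd
  have : Nonempty (Fin n) := ⟨⟨0, by omega⟩⟩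
  haveI : Nonempty (Fin (n - 2)) := ⟨⟨0, by omega⟩⟩
  let b₀ := b ^ (orderOf b / r)
  have hb₀ : orderOf b₀ = r := orderOf_pow_orderOf_div hb0 hrb
  have hcard : Nat.card (Subgroup.center (Matrix.SpecialLinearGroup (Fin n) F)) ∣ Fintype.card F - 1 := by
    rw [CfsgLib.Classical.card_center_sl]; exact Nat.gcd_dvd_right _ _
  have hqd : Fintype.card F - 1 ∣ Nat.card (GL (Fin (n - 2)) F) := by
    rw [← CfsgLib.Classical.card_units_mul_card_sl, Nat.card_units, Nat.card_eq_fintype_card]
    exact dvd_mul_right _ _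
  have hrZ : ¬ r ∣ Nat.card (Subgroup.center (Matrix.SpecialLinearGroup (Fin n) F)) := fun h =>
    hndvd (prime_dvd_gl hrp (by omega) le_rfl ((h.trans hcard).trans hqd))
  have hpZ : ¬ p ∣ Nat.card (Subgroup.center (Matrix.SpecialLinearGroup (Fin n) F)) := fun h => by
    obtain ⟨k, hpp, hk⟩ := FiniteField.card F p
    have h1 := h.trans hcard
    have h2 : p ∣ Fintype.card F := hk ▸ dvd_pow_self p k.ne_zero
    have h3 := Nat.dvd_sub h2 h1
    rw [Nat.sub_sub_self Fintype.card_pos] at h3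
    exact hpp.ne_one (Nat.dvd_one.1 h3)
  obtain ⟨A, hAp, hAa⟩ := exists_lift (Fact.out : p.Prime) hpZ a ha
  obtain ⟨B, hBr, hBb⟩ := exists_lift hrp hrZ b₀ hb₀
  -- the lifts commute
  let z := B * A * B⁻¹ * A⁻¹
  have hz : z ∈ Subgroup.center (Matrix.SpecialLinearGroup (Fin n) F) := by
    refine (QuotientGroup.eq_one_iff _).1 ?_
    show QuotientGroup.mk' _ (B * A * B⁻¹ * A⁻¹) = 1
    have hc : b₀ * a * b₀⁻¹ * a⁻¹ = 1 := by rw [((hab.pow_right _).symm : Commute b₀ a).eq, mul_assoc a, mul_inv_cancel, mul_one, mul_inv_cancel]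
    rw [map_mul, map_mul, map_mul, map_inv, map_inv, hAa, hBb]
    exact hc
  have hz1 : z = 1 := by
    have h1 : (B * A * B⁻¹) ^ p = 1 := by rw [conj_pow, hAp, mul_one, mul_inv_cancel]
    have h2 : B * A * B⁻¹ = z * A := by simp [z]
    rw [h2, (show Commute z A from (Subgroup.mem_center_iff.1 hz A).symm).mul_pow, hAp, mul_one] at h1
    have h3 : z ^ Nat.card (Subgroup.center (Matrix.SpecialLinearGroup (Fin n) F)) = 1 :=
      congrArg Subtype.val (pow_card_eq_one' (x := (⟨z, hz⟩ : Subgroup.center (Matrix.SpecialLinearGroup (Fin n) F))))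
    refine orderOf_eq_one_iff.1 (Nat.dvd_one.1 ?_)
    have h4 := Nat.dvd_gcd (orderOf_dvd_of_pow_eq_one h1) (orderOf_dvd_of_pow_eq_one h3)
    rwa [((Fact.out : p.Prime).coprime_iff_not_dvd.2 hpZ).gcd_eq_one] at h4
  have hcomm : Commute B A := by
    have h2 : B * A * B⁻¹ = z * A := by simp [z]
    rw [hz1, one_mul, mul_inv_eq_iff_eq_mul] at h2
    exact h2
  let e := Matrix.toLinAlgEquiv' (R := F) (n := Fin n)
  let φ : Matrix.SpecialLinearGroup (Fin n) F →* Module.End F (Fin n → F) :=
    e.toMonoidHom.comp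
      { toFun := fun g => (g : Matrix (Fin n) (Fin n) F), map_one' := rfl, map_mul' := fun _ _ => rfl }
  have hφ : Function.Injective φ := fun x y h => Subtype.ext (e.injective h)
  haveI : CharP (Module.End F (Fin n → F)) p :=
    charP_of_injective_ringHom (algebraMap F (Module.End F (Fin n → F))).injective p
  have hN : IsNilpotent (φ A - 1) := ⟨p, by
    rw [sub_pow_char_of_commute p (Commute.one_right _), one_pow, ← map_pow, hAp, map_one, sub_self]⟩
  have hN0 : φ A - 1 ≠ 0 := fun h => by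
    rw [sub_eq_zero, ← map_one φ] at h
    rw [hφ h, map_one] at hAa
    rw [← hAa, orderOf_one] at ha
    exact (Fact.out : p.Prime).ne_one ha.symm
  have hB1 := core hrp hn hndvd (φ B) (φ A - 1) (by rw [← map_pow, hBr, map_one]) hN hN0
    (((hcomm.map φ)).sub_right (Commute.one_right _))
  rw [← map_one φ] at hB1
  rw [hφ hB1, map_one] at hBb
  rw [← hBb, orderOf_one] at hb₀
  exact hrp.ne_one hb₀.symm
end Cfsg.Agent.S2364
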