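import Cfsg.Statements.S2367
import Mathlib

set_option autoImplicit false
open Cfsg

namespace Cfsg.Agent.S2367

/-- Let G be an alternating group of degree at least 5 or a simple group with the order of one of the 26 sporadic groups, and let p be an odd prime such that p³ is the exact power of p dividing the order of G. Then p³ is less than the 2-part of the order of G. -/
theorem result {G : Type*} [Group G] [Finite G] (hG : Cfsg.IsAlternating G ∨ Cfsg.IsSporadic G)
    (p : ℕ) (hp : p.Prime) (hodd : p ≠ 2) (h3 : (Nat.card G).factorization p = 3) :
    p ^ 3 < 2 ^ (Nat.card G).factorization 2 := by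
  have hp5 : ∀ n : ℕ, 5 ≤ n → (n.factorial / 2).factorization p = 3 →
      p ^ 3 < 2 ^ (n.factorial / 2).factorization 2 := by
    intro n hn h
    have hdiv : 2 ∣ n.factorial := Nat.dvd_factorial (by norm_num) (by omega)
    rw [Nat.factorization_div hdiv, Finsupp.tsub_apply, Nat.Prime.factorization Nat.prime_two,
      Finsupp.single_eq_of_ne hodd, Nat.sub_zero] at h
    rw [Nat.factorization_div hdiv, Finsupp.tsub_apply, Nat.Prime.factorization Nat.prime_two,
      Finsupp.single_eq_same]
    have mono : ∀ {r a b : ℕ}, a ≤ b → a.factorial.factorization r ≤ b.factorial.factorization r :=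
      fun {r a b} hab => (Nat.factorization_le_iff_dvd (Nat.factorial_ne_zero _)
        (Nat.factorial_ne_zero _)).2 (Nat.factorial_dvd_factorial hab) r
    have hmul : ∀ j, (p * j).factorial.factorization p = j + j.factorial.factorization p :=
      fun j => (Nat.factorization_factorial_mul hp).trans (add_comm _ _)
    have h2mul : ∀ j, (2 * j).factorial.factorization 2 = j + j.factorial.factorization 2 :=
      fun j => (Nat.factorization_factorial_mul Nat.prime_two).trans (add_comm _ _)
    have hp3 : 3 ≤ p := by have := hp.two_le; omega
    have hfib : ∀ j, j * p ≤ n → j + j.factorial.factorization p ≤ 3 := fun j hj => by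
      rw [← hmul j, ← h]
      exact mono (by linarith)
    have hn4 : n < 4 * p := by
      by_contra hc
      have := hfib 4 (by omega)
      omega
    have hn3 : 3 * p ≤ n := by
      by_contra hc
      obtain ⟨j, hj, hj'⟩ : ∃ j, j * p ≤ n ∧ n < (j + 1) * p :=
        ⟨n / p, Nat.div_mul_le_self n p, Nat.lt_div_mul_add hp.pos |>.trans_eq (by ring)⟩
      have hj2 : j ≤ 2 := by
        by_contra hc2
        have : 3 * p ≤ j * p := Nat.mul_le_mul_right p (by omega)
        omega
      have hv : n.factorial.factorization p = j + j.factorial.factorization p := by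
        have key : ∀ r, r < p →
            (j * p + r).factorial.factorization p = (p * j).factorial.factorization p := by
          intro r hr
          induction r with
          | zero => rw [add_zero, mul_comm]
          | succ r ih =>
            rw [← add_assoc, Nat.factorial_succ,
              Nat.factorization_mul (Nat.succ_ne_zero _) (Nat.factorial_ne_zero _),
              Finsupp.add_apply, Nat.factorization_eq_zero_of_not_dvd (fun hd => ?_), zero_add,
              ih (by omega)]
            rw [Nat.succ_eq_add_one, add_assoc] at hd
            have := Nat.le_of_dvd (by omega) ((Nat.dvd_add_right (Dvd.intro_left j rfl)).1 hd)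
            omega
        obtain ⟨r, rfl⟩ := Nat.exists_eq_add_of_le hj
        rw [key r (by nlinarith), hmul]
      have : j.factorial.factorization p = 0 := Nat.factorization_eq_zero_of_not_dvd fun hd => by
        have := (hp.dvd_factorial).1 hd
        omega
      omega
    have hp5 : 5 ≤ p := by
      by_contra hc
      obtain rfl : p = 3 := by
        rcases (show p = 3 ∨ p = 4 by omega) with e | e
        · exact e
        · subst e; norm_num at hp
      have := hfib 3 (by omega)
      have h1 : (3 : ℕ).factorial.factorization 3 = 1 + (1 : ℕ).factorial.factorization 3 :=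
        hmul 1
      omega
    have hv2 : 3 * p / 2 + 3 * p / 2 / 2 ≤ n.factorial.factorization 2 := by
      refine le_trans ?_ (mono (show 2 * (3 * p / 2) ≤ n by omega))
      rw [h2mul]
      refine Nat.add_le_add_left ?_ _
      refine le_trans ?_ (mono (show 2 * (3 * p / 2 / 2) ≤ 3 * p / 2 by omega))
      rw [h2mul]
      omega
    have key : ∀ r, 5 ≤ r → r ^ 3 < 2 ^ (2 * r - 1) := by
      intro r hr
      induction r, hr using Nat.le_induction with
      | base => norm_num
      | succ r hr ih =>
        have e : 2 * (r + 1) - 1 = 2 * r - 1 + 2 := by omega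
        rw [e, pow_add]
        have : (r + 1) ^ 3 ≤ 4 * r ^ 3 := by nlinarith [Nat.mul_le_mul_right (r * r) hr, Nat.mul_le_mul_right r hr]
        omega
    refine lt_of_lt_of_le (key p hp5) (Nat.pow_le_pow_right (by norm_num) ?_)
    omega
  rcases hG with ⟨n, hn, ⟨e⟩⟩ | hS
  · have : Nontrivial (Fin n) := Fin.nontrivial_iff_two_le.2 (by omega)
    rw [Nat.card_congr e.toEquiv, nat_card_alternatingGroup, Nat.card_eq_fintype_card,
      Fintype.card_fin] at h3 ⊢
    exact hp5 n hn h3
  · have hN : Nat.card G ≠ 0 := Nat.card_pos.ne'
    have h3' : Nat.card G % p ^ 3 = 0 := Nat.mod_eq_zero_of_dvd (by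
      have := Nat.ordProj_dvd (Nat.card G) p
      rwa [h3] at this)
    have h4' : Nat.card G % p ^ 4 ≠ 0 := fun h => by
      have := (hp.pow_dvd_iff_le_factorization hN).1 (Nat.dvd_of_mod_eq_zero h)
      omega
    have hpd : p ∣ Nat.card G := Nat.dvd_of_factorization_pos (by omega)
    have key : ∀ a : ℕ, Nat.card G % 2 ^ a = 0 →
        (∀ q ∈ [2, 3, 5, 7, 11, 13, 17, 19, 23, 29, 31, 37, 41, 43, 47, 59, 67, 71],
          q ≠ 2 → Nat.card G % q ^ 3 = 0 → Nat.card G % q ^ 4 ≠ 0 → q ^ 3 < 2 ^ a) →
        Nat.card G ∣ [2, 3, 5, 7, 11, 13, 17, 19, 23, 29, 31, 37, 41, 43, 47, 59, 67, 71].prod ^ 50 →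
        p ^ 3 < 2 ^ (Nat.card G).factorization 2 := by
      intro a ha hall hdvd
      have hmem : p ∈ [2, 3, 5, 7, 11, 13, 17, 19, 23, 29, 31, 37, 41, 43, 47, 59, 67, 71] := by
        obtain ⟨q, hq, hpq⟩ := (hp.prime.dvd_prod_iff).1 (hp.dvd_of_dvd_pow (hpd.trans hdvd))
        have : q.Prime := by
          simp only [List.mem_cons, List.not_mem_nil, or_false] at hq
          rcases hq with rfl | rfl | rfl | rfl | rfl | rfl | rfl | rfl | rfl | rfl | rfl | rfl |
            rfl | rfl | rfl | rfl | rfl | rfl <;> norm_num
        rwa [(Nat.prime_dvd_prime_iff_eq hp this).1 hpq]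
      refine lt_of_lt_of_le (hall p hmem hodd h3' h4') (Nat.pow_le_pow_right (by norm_num) ?_)
      exact (Nat.prime_two.pow_dvd_iff_le_factorization hN).1 (Nat.dvd_of_mod_eq_zero ha)
    rcases hS with h | h | h | h | h | h | h | h | h | h | h | h | h | h | h | h | h | h | h | h |
      h | h | h | h | h | h
    all_goals obtain ⟨-, hc⟩ := h
    all_goals rw [hc] at key
    all_goals rw [hc]
    · exact key 4 (by decide +kernel) (by decide +kernel) (by decide +kernel)
    · exact key 6 (by decide +kernel) (by decide +kernel) (by decide +kernel)
    · exact key 7 (by decide +kernel) (by decide +kernel) (by decide +kernel)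
    · exact key 7 (by decide +kernel) (by decide +kernel) (by decide +kernel)
    · exact key 10 (by decide +kernel) (by decide +kernel) (by decide +kernel)
    · exact key 3 (by decide +kernel) (by decide +kernel) (by decide +kernel)
    · exact key 7 (by decide +kernel) (by decide +kernel) (by decide +kernel)
    · exact key 7 (by decide +kernel) (by decide +kernel) (by decide +kernel)
    · exact key 21 (by decide +kernel) (by decide +kernel) (by decide +kernel)
    · exact key 21 (by decide +kernel) (by decide +kernel) (by decide +kernel)
    · exact key 18 (by decide +kernel) (by decide +kernel) (by decide +kernel)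
    · exact key 10 (by decide +kernel) (by decide +kernel) (by decide +kernel)
    · exact key 17 (by decide +kernel) (by decide +kernel) (by decide +kernel)
    · exact key 18 (by decide +kernel) (by decide +kernel) (by decide +kernel)
    · exact key 21 (by decide +kernel) (by decide +kernel) (by decide +kernel)
    · exact key 9 (by decide +kernel) (by decide +kernel) (by decide +kernel)
    · exact key 7 (by decide +kernel) (by decide +kernel) (by decide +kernel)
    · exact key 10 (by decide +kernel) (by decide +kernel) (by decide +kernel)
    · exact key 14 (by decide +kernel) (by decide +kernel) (by decide +kernel)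
    · exact key 13 (by decide +kernel) (by decide +kernel) (by decide +kernel)
    · exact key 9 (by decide +kernel) (by decide +kernel) (by decide +kernel)
    · exact key 14 (by decide +kernel) (by decide +kernel) (by decide +kernel)
    · exact key 8 (by decide +kernel) (by decide +kernel) (by decide +kernel)
    · exact key 15 (by decide +kernel) (by decide +kernel) (by decide +kernel)
    · exact key 41 (by decide +kernel) (by decide +kernel) (by decide +kernel)
    · exact key 46 (by decide +kernel) (by decide +kernel) (by decide +kernel)

end Cfsg.Agent.S2367
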