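import Cfsg.Statements.S2368
import Mathlib

-- import your own Cfsg.Agent.* helpers here

set_option autoImplicit false
open Cfsg

namespace Cfsg.Agent.S2368

/-- Let F be a finite field of characteristic p and m ≥ 1. Every element of GL(m, F) of p-power order has order less than p·m, and GL(m, F) has an element of p-power order at least m; so the largest order of a p-element of GL(m, F) is the least power of p that is at least m. -/
theorem result {F : Type*} [Field F] [Fintype F] (p : ℕ) [Fact p.Prime] [CharP F p] (m : ℕ) (hm : 1 ≤ m) :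
    (∀ g : Matrix.GeneralLinearGroup (Fin m) F, (∃ j : ℕ, orderOf g = p ^ j) → orderOf g < p * m) ∧
      ∃ g : Matrix.GeneralLinearGroup (Fin m) F, (∃ j : ℕ, orderOf g = p ^ j) ∧ m ≤ orderOf g := by
  classical
  haveI : ExpChar (Matrix (Fin m) (Fin m) F) p := by
    haveI : Nonempty (Fin m) := ⟨⟨0, hm⟩⟩
    haveI : CharP (Matrix (Fin m) (Fin m) F) p := inferInstance
    exact ExpChar.prime Fact.out
  have hp := (Fact.out : p.Prime)
  refine ⟨?_, ?_⟩
  · rintro g ⟨j, hj⟩
    have hnil : IsNilpotent ((g : Matrix (Fin m) (Fin m) F) - 1) := by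
      refine ⟨p ^ j, ?_⟩
      rw [sub_pow_expChar_pow_of_commute p _ (Commute.one_right _), ← Units.val_pow_eq_pow_val, ← hj,
        pow_orderOf_eq_one, one_pow, Units.val_one, sub_self]
    have hm' : ((g : Matrix (Fin m) (Fin m) F) - 1) ^ m = 0 := by
      have h := Matrix.isNilpotent_charpoly_sub_pow_of_isNilpotent hnil
      have h2 := Matrix.aeval_self_charpoly ((g : Matrix (Fin m) (Fin m) F) - 1)
      have h3 : ((g : Matrix (Fin m) (Fin m) F) - 1).charpoly = Polynomial.X ^ m := by
        have := h.eq_zero
        rw [sub_eq_zero] at this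
        simpa using this
      rw [h3] at h2
      simpa using h2
    obtain ⟨a, ha⟩ : ∃ a, m ≤ p ^ a ∧ p ^ a < p * m := by
      refine ⟨Nat.clog p m, Nat.le_pow_clog hp.one_lt m, ?_⟩
      rcases (Nat.clog p m).eq_zero_or_pos with h0 | h0
      · rw [h0, pow_zero]; have := hp.two_le; nlinarith
      · have hm1 : 1 < m := by
          rcases lt_or_eq_of_le hm with h | h
          · exact h
          · rw [← h] at h0; simp at h0
        have := Nat.pow_pred_clog_lt_self hp.one_lt hm1
        calc p ^ Nat.clog p m = p * p ^ (Nat.clog p m).pred := by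
              rw [← pow_succ', show (Nat.clog p m).pred + 1 = Nat.clog p m from Nat.succ_pred_eq_of_pos h0]
          _ < p * m := Nat.mul_lt_mul_of_pos_left this hp.pos
    refine lt_of_le_of_lt (orderOf_le_of_pow_eq_one (pow_pos hp.pos a) ?_) ha.2
    apply Units.ext
    have h := pow_eq_zero_of_le ha.1 hm'
    rw [sub_pow_expChar_pow_of_commute p _ (Commute.one_right _), one_pow, sub_eq_zero] at h
    rwa [Units.val_pow_eq_pow_val]
  · let N : Matrix (Fin m) (Fin m) F := Matrix.of fun i j => if j.val = i.val + 1 then 1 else 0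
    have hdet : (1 + N).det ≠ 0 := by
      rw [Matrix.det_of_upperTriangular]
      · simp [N]
      · intro i j hij
        have h1 : j.val < i.val := hij
        simp [N, Matrix.one_apply, Fin.ext_iff, show i.val ≠ j.val by omega,
          show j.val ≠ i.val + 1 by omega]
    have hNm : ∀ k (i j : Fin m), (N ^ k) i j = if j.val = i.val + k then 1 else 0 := by
      intro k
      induction k with
      | zero => intro i j; simp [Matrix.one_apply, Fin.ext_iff, eq_comm]
      | succ k ih =>
        intro i j
        rw [pow_succ, Matrix.mul_apply]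
        simp only [ih, N, Matrix.of_apply]
        by_cases h : i.val + k < m
        · rw [Finset.sum_eq_single ⟨i.val + k, h⟩]
          · simp [add_assoc]
          · intro b _ hb
            simp [show b.val ≠ i.val + k from fun e => hb (Fin.ext e)]
          · simp
        · rw [Finset.sum_eq_zero fun b _ => by simp [show b.val ≠ i.val + k by omega],
            if_neg (by omega)]
    have hnil : IsNilpotent N := ⟨m, by ext i j; rw [hNm, if_neg (by omega)]; rfl⟩
    refine ⟨Matrix.GeneralLinearGroup.mkOfDetNeZero _ hdet, ?_, ?_⟩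
    · obtain ⟨k, hk⟩ := hnil
      have h1 : (1 + N) ^ p ^ k = 1 := by
        rw [add_pow_expChar_pow_of_commute p _ (Commute.one_left _),
          pow_eq_zero_of_le (Nat.lt_pow_self hp.one_lt).le hk]
        simp
      obtain ⟨i, -, hi⟩ := (Nat.dvd_prime_pow hp).1
        (orderOf_dvd_of_pow_eq_one (x := Matrix.GeneralLinearGroup.mkOfDetNeZero _ hdet) (n := p ^ k)
          (Units.ext (by rw [Units.val_pow_eq_pow_val]; exact h1)))
      exact ⟨i, hi⟩
    · set g := Matrix.GeneralLinearGroup.mkOfDetNeZero _ hdet with hg
      have hgv : (g : Matrix (Fin m) (Fin m) F) = 1 + N := rfl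
      obtain ⟨a, ha⟩ : ∃ a, orderOf g = p ^ a := by
        obtain ⟨k, hk⟩ := hnil
        obtain ⟨i, -, hi⟩ := (Nat.dvd_prime_pow hp).1
          (orderOf_dvd_of_pow_eq_one (x := g) (n := p ^ k) (Units.ext (by
            rw [Units.val_pow_eq_pow_val, hgv, add_pow_expChar_pow_of_commute p _ (Commute.one_left _), pow_eq_zero_of_le (Nat.lt_pow_self hp.one_lt).le hk]
            simp)))
        exact ⟨i, hi⟩
      by_contra hlt
      rw [not_le, ha] at hlt
      have h := congrArg Units.val (pow_orderOf_eq_one g)
      rw [ha, Units.val_pow_eq_pow_val, hgv, add_pow_expChar_pow_of_commute p _ (Commute.one_left _), one_pow, Units.val_one, add_eq_left] at h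
      have := congrFun (congrFun h ⟨0, hm⟩) ⟨p ^ a, hlt⟩
      simp [hNm] at this

end Cfsg.Agent.S2368
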