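import Cfsg.Statements.S2383
import Cfsg.Agent.Lib.KnownB.ChevSSCount
import Cfsg.Agent.Lib.Chev.OrderTables

set_option autoImplicit false
open Cfsg

namespace Cfsg.Agent.S2383

/-- Steinberg's count of semisimple classes in characteristic 2 for the types B₂, D₄, E₇, where the finite simply connected group has trivial centre and so coincides with the Chevalley group: for the Chevalley group of type B₂, D₄ or E₇ over a field with `q` elements of characteristic 2, the conjugacy classes of elements of odd order number exactly `q^l`, `l` the rank. -/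
theorem result {F : Type*} [Field F] [Fintype F] {q : ℕ} (hq : Fintype.card F = q) [CharP F 2]
    (D : Cfsg.Lie.ChevalleyDatum) (hD : D ∈ [Cfsg.Lie.chevB2, Cfsg.Lie.chevD4, Cfsg.Lie.chevE7]) :
    Nat.card {c : ConjClasses ↥(D.group F) // ∃ g : ↥(D.group F), ConjClasses.mk g = c ∧ Odd (orderOf g)} = q ^ D.rank := by
  subst hq
  have hgcd : (Fintype.card F - 1).gcd 2 = 1 := by
    obtain ⟨n, hn, hc⟩ := FiniteField.card F 2
    rw [hc]
    refine Nat.coprime_two_right.2 ?_
    have he : Even (2 ^ (n : ℕ)) := (Nat.even_pow).2 ⟨even_two, n.ne_zero⟩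
    obtain ⟨m, hm⟩ := he
    have := Nat.one_le_two_pow (n := (n : ℕ))
    exact ⟨m - 1, by omega⟩
  simp only [List.mem_cons, List.not_mem_nil, or_false] at hD
  have hsub : Nat.card {c : ConjClasses ↥(D.group F) //
      ∃ g : ↥(D.group F), ConjClasses.mk g = c ∧ Odd (orderOf g)} =
      Nat.card {c : ConjClasses ↥(D.group F) //
      ∃ g : ↥(D.group F), ConjClasses.mk g = c ∧ (orderOf g).Coprime 2} :=
    Nat.card_congr (Equiv.subtypeEquivRight fun c =>
      exists_congr fun g => and_congr_right' Nat.coprime_two_right.symm)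
  rw [hsub]
  rcases hD with rfl | rfl | rfl
  · exact CfsgLib.Chev.goodB2.card_regular_classes (CfsgLib.Chev.hasComm_of_mem (by simp))
      (CfsgLib.Chev.goodB2.torHom_injective_of_card hgcd (CfsgLib.Chev.card_diagonalB2 F)) 2
  · exact CfsgLib.Chev.goodD4.card_regular_classes (CfsgLib.Chev.hasComm_of_mem (by simp))
      (CfsgLib.Chev.goodD4.torHom_injective_of_card (by rw [hgcd]) (CfsgLib.Chev.card_diagonalD4 F)) 2
  · exact CfsgLib.Chev.goodE7.card_regular_classes (CfsgLib.Chev.hasComm_of_mem (by simp))
      (CfsgLib.Chev.goodE7.torHom_injective_of_card hgcd (CfsgLib.Chev.card_diagonalE7 F)) 2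

end Cfsg.Agent.S2383
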