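import Cfsg.Statements.S2389
import Cfsg.Agent.Lib.Classical.SemiSymp
import Cfsg.Agent.Lib.KnownB.SSMatrix

set_option autoImplicit false
open Cfsg

namespace Cfsg.Agent.S2389

/-- In the symplectic group `Sp_{2n}(q)`, `q` a power of the prime `p`, two elements of order prime to `p` with the same characteristic polynomial are conjugate in `Sp_{2n}(q)`. -/
theorem result {F : Type*} [Field F] [Fintype F] (p : ℕ) [Fact p.Prime] [CharP F p] (n : ℕ)
    (g h : ↥(Matrix.symplecticGroup (Fin n) F)) (hg : (orderOf g).Coprime p) (hh : (orderOf h).Coprime p)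
    (hc : (g : Matrix (Fin n ⊕ Fin n) (Fin n ⊕ Fin n) F).charpoly = (h : Matrix (Fin n ⊕ Fin n) (Fin n ⊕ Fin n) F).charpoly) :
    IsConj g h := by
  refine CfsgLib.Classical.SemiSymp.isConj_of_linear g h hg ?_
  let e := Fintype.equivFinOfCardEq (show Fintype.card (Fin n ⊕ Fin n) = n + n by simp)
  let re := Matrix.reindexAlgEquiv F F e
  let φ : ↥(Matrix.symplecticGroup (Fin n) F) →* GL (Fin (n + n)) F :=
    MonoidHom.toHomUnits (re.toMonoidHom.comp (Matrix.symplecticGroup (Fin n) F).subtype)
  have hφ : Function.Injective φ := fun a b hab => Subtype.ext (re.injective (congrArg Units.val hab))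
  obtain ⟨x, hx⟩ := CfsgLib.KnownB.SSClass.gl_isConj_of_charpoly p (g := φ g) (h := φ h)
    (by rwa [orderOf_injective φ hφ]) (by rwa [orderOf_injective φ hφ])
    (by
      show (Matrix.reindex e e (g : Matrix (Fin n ⊕ Fin n) (Fin n ⊕ Fin n) F)).charpoly =
        (Matrix.reindex e e (h : Matrix (Fin n ⊕ Fin n) (Fin n ⊕ Fin n) F)).charpoly
      rw [Matrix.charpoly_reindex, Matrix.charpoly_reindex, hc])
  have h1 := MonoidHom.map_isConj (re.symm.toMonoidHom.comp (Units.coeHom _)) (⟨x, hx⟩ : IsConj (φ g) (φ h))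
  simpa [φ] using h1

end Cfsg.Agent.S2389
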