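import Cfsg.Statements.S2392
import Cfsg.Agent.S2336

set_option autoImplicit false
open scoped MatrixGroups
open Cfsg

namespace Cfsg.Agent.S2392


open Matrix

section move

variable {F : Type*} [Field F] {m : ℕ}

theorem exists_sl_move (hm : 2 ≤ m) {x y : Fin m → F} (hx : x ≠ 0) (hy : y ≠ 0) :
    ∃ h : Matrix.SpecialLinearGroup (Fin m) F, (h : Matrix (Fin m) (Fin m) F) *ᵥ x = y := by
  obtain ⟨g, hg, -⟩ := Cfsg.Agent.S2336.exists_move (W := (⊥ : Submodule F (Fin m → F))) (y := x) (b := y)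
    (by simpa using hx) (by simpa using hy) (by rw [finrank_bot]; omega)
  exact ⟨g, hg⟩

/-- the row transvection -/
def tv (v : Fin m → F) : Matrix.SpecialLinearGroup (Unit ⊕ Fin m) F :=
  ⟨Matrix.fromBlocks 1 (Matrix.replicateRow Unit v) 0 1, by rw [Matrix.det_fromBlocks_zero₂₁]; simp⟩

/-- the block embedding -/
def emb (h : Matrix.SpecialLinearGroup (Fin m) F) : Matrix.SpecialLinearGroup (Unit ⊕ Fin m) F :=
  ⟨Matrix.fromBlocks 1 0 0 (h : Matrix (Fin m) (Fin m) F), by
    rw [Matrix.det_fromBlocks_zero₂₁]; simp⟩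

theorem tv_add (v w : Fin m → F) : tv (v + w) = tv v * tv w := by
  refine Subtype.ext ?_
  rw [Matrix.SpecialLinearGroup.coe_mul]
  show Matrix.fromBlocks _ _ _ _ = Matrix.fromBlocks _ _ _ _ * Matrix.fromBlocks _ _ _ _
  rw [Matrix.fromBlocks_multiply]
  simp [Matrix.replicateRow_add, add_comm]

theorem tv_zero : tv (0 : Fin m → F) = 1 := by
  refine Subtype.ext ?_
  show Matrix.fromBlocks _ _ _ _ = 1
  rw [Matrix.replicateRow_zero, Matrix.fromBlocks_one]

theorem emb_tv (h : Matrix.SpecialLinearGroup (Fin m) F) (v : Fin m → F) :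
    emb h * tv (v ᵥ* (h : Matrix (Fin m) (Fin m) F)) = tv v * emb h := by
  refine Subtype.ext ?_
  rw [Matrix.SpecialLinearGroup.coe_mul, Matrix.SpecialLinearGroup.coe_mul]
  show Matrix.fromBlocks _ _ _ _ * Matrix.fromBlocks _ _ _ _ = Matrix.fromBlocks _ _ _ _ * Matrix.fromBlocks _ _ _ _
  rw [Matrix.fromBlocks_multiply, Matrix.fromBlocks_multiply]
  simp [Matrix.replicateRow_vecMul]

theorem tv_central (hm : 2 ≤ m) {v : Fin m → F}
    (h : tv v ∈ Subgroup.center (Matrix.SpecialLinearGroup (Unit ⊕ Fin m) F)) : v = 0 := by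
  have key : ∀ g : Matrix.SpecialLinearGroup (Fin m) F, v ᵥ* (g : Matrix (Fin m) (Fin m) F) = v := fun g => by
    have e := emb_tv g v
    rw [← (Subgroup.mem_center_iff.1 h) (emb g)] at e
    have e2 := congrArg (fun A : Matrix.SpecialLinearGroup (Unit ⊕ Fin m) F =>
      (A : Matrix (Unit ⊕ Fin m) (Unit ⊕ Fin m) F).toBlocks₁₂) (mul_left_cancel e)
    funext j
    have := congrFun (congrFun e2 ()) j
    simpa [tv] using this
  have hconst : ∀ x y : Fin m → F, x ≠ 0 → y ≠ 0 → v ⬝ᵥ x = v ⬝ᵥ y := fun x y hx hy => by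
    obtain ⟨g, hg⟩ := exists_sl_move hm hx hy
    rw [← hg, dotProduct_mulVec, key]
  funext i
  obtain ⟨j, hj⟩ : ∃ j, j ≠ i := by
    by_cases h0 : (⟨0, by omega⟩ : Fin m) = i
    · exact ⟨⟨1, by omega⟩, fun e => by rw [← e] at h0; simp [Fin.ext_iff] at h0⟩
    · exact ⟨_, h0⟩
  have hne : (Pi.single i (1 : F) + Pi.single j 1 : Fin m → F) ≠ 0 := fun e => by
    have := congrFun e i
    simp [Pi.single_apply, hj.symm] at this
  have h1 := hconst _ (Pi.single j 1) hne (by simp)
  simpa [dotProduct_add] using h1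

end move

theorem le_finrank_of_abelian_chars {K W : Type*} [Field K] [AddCommGroup W] [Module K W]
    [FiniteDimensional K W] {ι : Type*} [Fintype ι] (E : ι → Module.End K W) (hne : ∀ i, E i ≠ 0)
    (horth : ∀ i j, i ≠ j → E i * E j = 0) (hidem : ∀ i, ∃ c : K, c ≠ 0 ∧ E i * E i = c • E i) :
    Fintype.card ι ≤ Module.finrank K W := by
  classical
  have hu : ∀ i, ∃ u, E i u ≠ 0 := fun i => by
    by_contra! h
    exact hne i (LinearMap.ext h)
  choose u hu using hu
  have hli : LinearIndependent K fun i => E i (u i) := by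
    rw [Fintype.linearIndependent_iff]
    intro a ha i
    obtain ⟨c, hc, hcE⟩ := hidem i
    have h1 := congrArg (E i) ha
    rw [map_sum, map_zero, Finset.sum_eq_single i] at h1
    · rw [map_smul, ← Module.End.mul_apply, hcE, LinearMap.smul_apply, smul_smul] at h1
      exact (mul_eq_zero.1 ((smul_eq_zero.1 h1).resolve_right (hu i))).resolve_right hc
    · intro j _ hj
      rw [map_smul, ← Module.End.mul_apply, horth i j (Ne.symm hj), LinearMap.zero_apply, smul_zero]
    · simp
  exact hli.fintype_card_le_finrank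

theorem main {F : Type*} [Field F] [Fintype F] {m : ℕ} (hm : 2 ≤ m) {K : Type*} [Field K]
    (hK : ringChar K ≠ ringChar F) {d : ℕ}
    (ρ : Matrix.SpecialLinearGroup (Unit ⊕ Fin m) F →* GL (Fin d) K)
    (hker : ρ.ker ≤ Subgroup.center (Matrix.SpecialLinearGroup (Unit ⊕ Fin m) F)) :
    Fintype.card F ^ m - 1 ≤ d := by
  classical
  let P := AddChar.FiniteField.primitiveChar F K hK
  let L := CyclotomicField P.n K
  let ψ : AddChar F L := P.char
  have hψ : ψ ≠ 1 := fun e => P.prim one_ne_zero (by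
    ext x; simp only [AddChar.mulShift_apply, one_mul, AddChar.one_apply]; exact DFunLike.congr_fun e x)
  let ρ' : Matrix.SpecialLinearGroup (Unit ⊕ Fin m) F →* Module.End L (Fin d → L) :=
    ((Matrix.toLinAlgEquiv' (R := L) (n := Fin d)).toMonoidHom.comp
      ((RingHom.mapMatrix (algebraMap K L)).toMonoidHom.comp (Units.coeHom _))).comp ρ
  have hρ' : ∀ g, ρ' g = 1 → g ∈ Subgroup.center _ := fun g hg => hker (by
    rw [MonoidHom.mem_ker]
    refine Units.ext ?_
    have h1 : Matrix.toLinAlgEquiv' (((ρ g : Matrix (Fin d) (Fin d) K)).map (algebraMap K L)) =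
        Matrix.toLinAlgEquiv' (1 : Matrix (Fin d) (Fin d) L) := hg.trans (map_one _).symm
    have h2 := (Matrix.toLinAlgEquiv' (R := L) (n := Fin d)).injective h1
    rw [← Matrix.map_one (algebraMap K L) (map_zero _) (map_one _)] at h2
    exact Matrix.map_injective (algebraMap K L).injective h2)
  let E : (Fin m → F) → Module.End L (Fin d → L) := fun w => ∑ v, ψ (-(v ⬝ᵥ w)) • ρ' (tv v)
  have hN : (Fintype.card (Fin m → F) : L) ≠ 0 := by
    rw [Fintype.card_fun, Fintype.card_fin, Nat.cast_pow]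
    refine pow_ne_zero _ fun h => hK ?_
    obtain ⟨p, hp⟩ := CharP.exists F
    haveI := hp
    obtain ⟨k, hpp, hcard⟩ := FiniteField.card F p
    haveI := Fact.mk hpp
    rw [hcard, Nat.cast_pow, pow_eq_zero_iff (PNat.ne_zero k)] at h
    have h' : ((p : ℕ) : K) = 0 := (algebraMap K L).injective (by rw [map_natCast, map_zero]; exact h)
    haveI : CharP K p := (CharP.charP_iff_prime_eq_zero hpp).2 h'
    rw [ringChar.eq F p, ringChar.eq K p]
  have hshift : ∀ w u, ρ' (tv u) * E w = ψ (u ⬝ᵥ w) • E w := fun w u => by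
    simp only [E, Finset.mul_sum, Finset.smul_sum, Algebra.mul_smul_comm, ← map_mul, ← tv_add, smul_smul]
    refine Fintype.sum_equiv (Equiv.addLeft u) _ _ fun v => ?_
    rw [Equiv.coe_addLeft, ← AddChar.map_add_eq_mul]
    congr 2
    rw [add_dotProduct]; ring
  have horth : ∀ a b, E a * E b = (∑ v, ψ (v ⬝ᵥ (b - a))) • E b := fun a b => by
    show (∑ v, ψ (-(v ⬝ᵥ a)) • ρ' (tv v)) * E b = _
    rw [Finset.sum_mul, Finset.sum_smul]
    refine Finset.sum_congr rfl fun v _ => ?_
    rw [Algebra.smul_mul_assoc, hshift, smul_smul, ← AddChar.map_add_eq_mul, dotProduct_sub]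
    congr 2
    ring
  have hsum : ∀ w : Fin m → F, w ≠ 0 → ∑ v, ψ (v ⬝ᵥ w) = 0 := fun w hw => by
    let φ : (Fin m → F) →+ F :=
      { toFun := fun v => v ⬝ᵥ w, map_zero' := zero_dotProduct _, map_add' := fun a b => add_dotProduct _ _ _ }
    refine AddChar.sum_eq_zero_of_ne_one (ψ := ψ.compAddMonoidHom φ) fun e => hψ ?_
    obtain ⟨i, hi⟩ := Function.ne_iff.1 hw
    refine DFunLike.ext _ _ fun x => ?_
    have := DFunLike.congr_fun e (Pi.single i (x / w i))
    simp only [AddChar.compAddMonoidHom_apply, AddChar.one_apply] at this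
    rw [AddChar.one_apply, ← this]
    congr 1
    show x = Pi.single i (x / w i) ⬝ᵥ w
    rw [single_dotProduct, div_mul_cancel₀ _ hi]
  have htotal : ∀ v : Fin m → F, ∑ w : Fin m → F, ψ (-(v ⬝ᵥ w)) = if v = 0 then (Fintype.card (Fin m → F) : L) else 0 := fun v => by
    rcases eq_or_ne v 0 with h | h
    · subst h; simp
    · rw [if_neg h, ← hsum (-v) (neg_ne_zero.2 h)]
      exact Finset.sum_congr rfl fun w _ => by rw [dotProduct_neg, dotProduct_comm]
  have hconj : ∀ (h : Matrix.SpecialLinearGroup (Fin m) F) w,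
      ρ' (emb h) * E w = E ((h : Matrix (Fin m) (Fin m) F) *ᵥ w) * ρ' (emb h) := fun h w => by
    simp only [E, Finset.mul_sum, Finset.sum_mul, Algebra.mul_smul_comm, Algebra.smul_mul_assoc, ← map_mul]
    refine (Fintype.sum_equiv
      ⟨fun u => u ᵥ* (h : Matrix (Fin m) (Fin m) F),
        fun u => u ᵥ* ((h⁻¹ : Matrix.SpecialLinearGroup (Fin m) F) : Matrix (Fin m) (Fin m) F),
        fun u => by
          show (u ᵥ* _) ᵥ* _ = u
          rw [vecMul_vecMul, ← Matrix.SpecialLinearGroup.coe_mul, mul_inv_cancel,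
            Matrix.SpecialLinearGroup.coe_one, vecMul_one],
        fun u => by
          show (u ᵥ* _) ᵥ* _ = u
          rw [vecMul_vecMul, ← Matrix.SpecialLinearGroup.coe_mul, inv_mul_cancel,
            Matrix.SpecialLinearGroup.coe_one, vecMul_one]⟩ _ _ fun u => ?_).symm
    show _ = ψ (-((u ᵥ* _) ⬝ᵥ w)) • ρ' (emb h * tv (u ᵥ* _))
    rw [emb_tv, ← dotProduct_mulVec]
  have hE0 : ∃ w, w ≠ 0 ∧ E w ≠ 0 := by
    by_contra! h
    let v : Fin m → F := Pi.single ⟨0, by omega⟩ 1
    have hv : v ≠ 0 := by simp [v]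
    have htot : ∑ w, E w = (Fintype.card (Fin m → F) : L) • (1 : Module.End L (Fin d → L)) := by
      simp only [E]
      rw [Finset.sum_comm]
      simp only [← Finset.sum_smul, htotal, ite_smul, zero_smul, Finset.sum_ite_eq', Finset.mem_univ, if_true,
        tv_zero, map_one]
    rw [Finset.sum_eq_single 0 (fun w _ hw => h w hw) (by simp)] at htot
    have h1 := hshift 0 v
    rw [htot, dotProduct_zero, AddChar.map_zero_eq_one, one_smul, Algebra.mul_smul_comm, mul_one] at h1
    exact hv (tv_central hm (hρ' _ (smul_right_injective _ hN h1)))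
  obtain ⟨w₀, hw₀, hE₀⟩ := hE0
  have hall : ∀ w : {w : Fin m → F // w ≠ 0}, E w.1 ≠ 0 := fun w hw => by
    obtain ⟨h, hh⟩ := exists_sl_move hm hw₀ w.2
    have h1 := hconj h w₀
    rw [hh, hw, zero_mul] at h1
    apply hE₀
    have h2 := congrArg (ρ' (emb h)⁻¹ * ·) h1
    simpa [← mul_assoc, ← map_mul] using h2
  have := le_finrank_of_abelian_chars (fun w : {w : Fin m → F // w ≠ 0} => E w.1) hall
    (fun i j hij => by
      rw [horth, hsum _ (sub_ne_zero.2 fun e => hij (Subtype.ext e.symm)), zero_smul])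
    (fun i => ⟨(Fintype.card (Fin m → F) : L), hN, by rw [horth, sub_self]; simp⟩)
  rwa [Module.finrank_fin_fun, Fintype.card_subtype_compl, Fintype.card_subtype_eq, Fintype.card_fun,
    Fintype.card_fin] at this


/-- A lower bound for representations in cross characteristic: for `n ≥ 3` and a field `F` with `q` elements, every homomorphism from `SL_n(F)` to `GL_d(K)`, `K` a field of characteristic different from that of `F`, whose kernel is central has `d ≥ q^(n-1) - 1`. -/
theorem result {F : Type*} [Field F] [Fintype F] {q : ℕ} (hq : Fintype.card F = q) (n : ℕ) (hn : 3 ≤ n)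
    {K : Type*} [Field K] (hK : ringChar K ≠ ringChar F) {d : ℕ}
    (ρ : Matrix.SpecialLinearGroup (Fin n) F →* GL (Fin d) K) (hker : ρ.ker ≤ Subgroup.center (Matrix.SpecialLinearGroup (Fin n) F)) :
    q ^ (n - 1) - 1 ≤ d := by
  obtain ⟨m, rfl⟩ : ∃ m, n = m + 1 := ⟨n - 1, by omega⟩
  classical
  let e : Unit ⊕ Fin m ≃ Fin (m + 1) := (finSumFinEquiv.trans (finCongr (add_comm 1 m))).symm.trans
    (Equiv.sumCongr finOneEquiv (Equiv.refl _)) |>.symm
  let R := Matrix.reindexAlgEquiv F F e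
  let Φ : Matrix.SpecialLinearGroup (Unit ⊕ Fin m) F →* Matrix.SpecialLinearGroup (Fin (m + 1)) F :=
    { toFun := fun A => ⟨R A.1, by rw [Matrix.det_reindexAlgEquiv]; exact A.2⟩
      map_one' := Subtype.ext (map_one R)
      map_mul' := fun A B => Subtype.ext (map_mul R A.1 B.1) }
  have hΦ : Function.Surjective Φ := fun B => ⟨⟨R.symm B.1, by
    rw [Matrix.reindexAlgEquiv_symm, Matrix.det_reindexAlgEquiv]; exact B.2⟩, Subtype.ext (R.apply_symm_apply B.1)⟩
  have hΦi : Function.Injective Φ := fun A B h => Subtype.ext (R.injective (congrArg Subtype.val h))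
  have := main (m := m) (by omega) hK (ρ.comp Φ) fun A hA => by
    have h1 := Subgroup.mem_center_iff.1 (hker (show Φ A ∈ ρ.ker from hA))
    refine Subgroup.mem_center_iff.2 fun B => hΦi ?_
    rw [map_mul, map_mul, h1]
  rw [← hq, Nat.add_sub_cancel]
  exact this
end Cfsg.Agent.S2392
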