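import Cfsg.Statements.S2398
import Cfsg.Agent.Lib.KnownA.CExt.Mult

set_option autoImplicit false
open Cfsg

namespace Cfsg.Agent.S2398

/-- Universality of the group Δ presented by Steinberg's generators with relators (R1), (R2), over a field with more than four elements (types G₂, B₂, D₄, F₄, E₆, E₇, E₈): for every central extension `π₁ : E → G₁` (surjective, central kernel) and every homomorphism `σ : Δ → G₁` there is exactly one homomorphism `τ : Δ → E` with `π₁ ∘ τ = σ`. In particular every central extension of Δ splits; together with the fact that Δ maps onto the Chevalley group with central kernel, this makes Δ the universal central extension of the Chevalley group. -/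
theorem result {K : Type*} [Field K] (hK5 : ∃ s : Finset K, 4 < s.card) (D : Cfsg.Lie.ChevalleyDatum) (hD : D ∈ [Cfsg.Lie.chevG2, Cfsg.Lie.chevB2, Cfsg.Lie.chevD4, Cfsg.Lie.chevF4, Cfsg.Lie.chevE6, Cfsg.Lie.chevE7, Cfsg.Lie.chevE8])
    {G₁ E : Type*} [Group G₁] [Group E] (π₁ : E →* G₁) (hπ : Function.Surjective π₁) (hc : π₁.ker ≤ Subgroup.center E)
    (σ : D.SteinbergCover K →* G₁) : ∃! τ : D.SteinbergCover K →* E, π₁.comp τ = σ := by
  have g := CfsgLib.Chev.good_of_mem hD
  have hcm := CfsgLib.Chev.hasComm_of_mem hD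
  have hF := CfsgLib.KnownA.CExt.bigField_of_five D hK5
  have hperf : commutator (D.SteinbergCover K) = ⊤ :=
    CfsgLib.Chev.stPerfect_of_mem (CfsgLib.Chev.scData g hcm K) hD
      (CfsgLib.KnownA.CExt.two_of_big hD hF)
  let P : Subgroup (D.SteinbergCover K × E) :=
    { carrier := {p | σ p.1 = π₁ p.2}
      one_mem' := by simp
      mul_mem' := fun {a b} ha hb => by simp only [Set.mem_setOf_eq, Prod.fst_mul, Prod.snd_mul, map_mul] at *; rw [ha, hb]
      inv_mem' := fun {a} ha => by simp only [Set.mem_setOf_eq, Prod.fst_inv, Prod.snd_inv, map_inv] at *; rw [ha] }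
  let pr : ↥P →* D.SteinbergCover K := (MonoidHom.fst _ _).comp P.subtype
  have hpr : CfsgLib.KnownA.CExt.IsCentralSurj pr := by
    refine ⟨fun x => ?_, fun z hz => Subgroup.mem_center_iff.2 fun w => ?_⟩
    · obtain ⟨e, he⟩ := hπ (σ x)
      exact ⟨⟨(x, e), he.symm⟩, rfl⟩
    · have h1 : (z : D.SteinbergCover K × E).1 = 1 := hz
      have h2 : π₁ (z : D.SteinbergCover K × E).2 = 1 := by
        have := z.2
        rw [show (z : D.SteinbergCover K × E) ∈ P ↔ σ (z : D.SteinbergCover K × E).1 =
          π₁ (z : D.SteinbergCover K × E).2 from Iff.rfl, h1, map_one] at this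
        exact this.symm
      refine Subtype.ext (Prod.ext ?_ (Subgroup.mem_center_iff.1 (hc h2) _))
      show (w : D.SteinbergCover K × E).1 * (z : D.SteinbergCover K × E).1 = _ * (w : D.SteinbergCover K × E).1
      rw [h1, mul_one, one_mul]
  obtain ⟨s, hs⟩ := CfsgLib.KnownA.CExt.exists_section hD g hcm hperf hF hpr
  refine ⟨((MonoidHom.snd _ _).comp P.subtype).comp s, MonoidHom.ext fun x => ?_, fun τ hτ => ?_⟩
  · have h1 : (s x : D.SteinbergCover K × E).1 = x := DFunLike.congr_fun hs x
    have h2 := (s x).2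
    show π₁ (s x : D.SteinbergCover K × E).2 = σ x
    rw [← h2, h1]
  · set τ₀ := ((MonoidHom.snd _ _).comp P.subtype).comp s
    have hτ₀ : ∀ x, π₁ (τ₀ x) = σ x := fun x => by
      have h1 : (s x : D.SteinbergCover K × E).1 = x := DFunLike.congr_fun hs x
      show π₁ (s x : D.SteinbergCover K × E).2 = σ x
      rw [← (s x).2, h1]
    have hz : ∀ x, (τ₀ x)⁻¹ * τ x ∈ Subgroup.center E := fun x => hc (by
      rw [MonoidHom.mem_ker, map_mul, map_inv, hτ₀, ← MonoidHom.comp_apply, hτ, inv_mul_cancel])
    let d : D.SteinbergCover K →* ↥(Subgroup.center E) :=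
      { toFun := fun x => ⟨(τ₀ x)⁻¹ * τ x, hz x⟩
        map_one' := Subtype.ext (by simp)
        map_mul' := fun x y => Subtype.ext (by
          show (τ₀ (x * y))⁻¹ * τ (x * y) = (τ₀ x)⁻¹ * τ x * ((τ₀ y)⁻¹ * τ y)
          rw [map_mul, map_mul, mul_inv_rev,
            show (τ₀ y)⁻¹ * (τ₀ x)⁻¹ * (τ x * τ y) = (τ₀ y)⁻¹ * (((τ₀ x)⁻¹ * τ x) * τ y) by group,
            ← Subgroup.mem_center_iff.1 (hz x) (τ y), ← mul_assoc,
            Subgroup.mem_center_iff.1 (hz x) ((τ₀ y)⁻¹ * τ y)]) }
    have hker : commutator (D.SteinbergCover K) ≤ d.ker := by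
      rw [commutator_def, Subgroup.commutator_le]
      intro p _ q _
      rw [MonoidHom.mem_ker, map_commutatorElement, commutatorElement_eq_one_iff_mul_comm]
      exact Subtype.ext (Subgroup.mem_center_iff.1 (hz q) _)
    rw [hperf] at hker
    refine MonoidHom.ext fun x => ?_
    have := congrArg Subtype.val (MonoidHom.mem_ker.1 (hker (Subgroup.mem_top x)))
    exact (inv_mul_eq_one.1 this).symm

end Cfsg.Agent.S2398
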