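import Cfsg.Statements.S2399
import Cfsg.Agent.Lib.KnownA.CExt.NatChar
import Cfsg.Agent.S2398

set_option autoImplicit false
open scoped MatrixGroups
open Cfsg
open scoped commutatorElement

namespace Cfsg.Agent.S2399

/-- Projective representations in the natural characteristic lift: for each of the types G₂, B₂, D₄, F₄, E₆, E₇, E₈ over any field `K` (for types B₂ and G₂ the field must have more than two elements — the cases where the Chevalley group is not simple are set aside), every homomorphism from the Chevalley group to `PGL_n(L) = GL_n(L)/Z`, `L` a field of the same characteristic as `K`, lifts uniquely to a homomorphism from the group Δ presented by (R1), (R2) to `GL_n(L)`, compatibly with the projection Δ → Chevalley group sending x̄_r(t) to x_r(t). -/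
theorem result {K : Type*} [Field K] (D : Cfsg.Lie.ChevalleyDatum) (hD : D ∈ [Cfsg.Lie.chevG2, Cfsg.Lie.chevB2, Cfsg.Lie.chevD4, Cfsg.Lie.chevF4, Cfsg.Lie.chevE6, Cfsg.Lie.chevE7, Cfsg.Lie.chevE8]) (hK : D ∈ [Cfsg.Lie.chevB2, Cfsg.Lie.chevG2] → ∃ x : K, x ≠ 0 ∧ x ≠ 1)
    (θ : D.SteinbergCover K →* ↥(D.group K))
    (hθ : ∀ (r : ℕ) (t : K), r < D.nroots → ((θ (D.scGen K r t) : GL D.Idx K) : Matrix D.Idx D.Idx K) = D.x K r t)
    {L : Type*} [Field L] (hL : ringChar L = ringChar K) {n : ℕ}
    (φ : ↥(D.group K) →* GL (Fin n) L ⧸ Subgroup.center (GL (Fin n) L)) :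
    ∃! ψ : D.SteinbergCover K →* GL (Fin n) L, (QuotientGroup.mk' (Subgroup.center (GL (Fin n) L))).comp ψ = φ.comp θ := by
  classical
  have g := CfsgLib.Chev.good_of_mem hD
  have hcm := CfsgLib.Chev.hasComm_of_mem hD
  set Z := Subgroup.center (GL (Fin n) L)
  set σ : D.SteinbergCover K →* GL (Fin n) L ⧸ Z := φ.comp θ
  have hperf : commutator (D.SteinbergCover K) = ⊤ :=
    CfsgLib.Chev.stPerfect_of_mem (CfsgLib.Chev.scData g hcm K) hD
      (fun h => hK (by rcases h with rfl | rfl <;> simp))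
  by_cases hbig : ∃ s : Finset K, 4 < s.card
  · exact Cfsg.Agent.S2398.result hbig D hD (QuotientGroup.mk' Z) (QuotientGroup.mk'_surjective Z)
      (QuotientGroup.ker_mk' Z).le σ
  haveI : Finite K := by
    by_contra h
    haveI := not_finite_iff_infinite.1 h
    obtain ⟨s, hs⟩ := Infinite.exists_subset_card_eq K 5
    exact hbig ⟨s, by omega⟩
  haveI := Fintype.ofFinite K
  obtain ⟨p, hp⟩ := CharP.exists K
  haveI := hp
  haveI hpf : Fact p.Prime := ⟨CharP.char_is_prime K p⟩
  haveI : CharP L p := ringChar.of_eq (hL.trans (ringChar.eq K p))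
  let f : L →+* AlgebraicClosure L := algebraMap L (AlgebraicClosure L)
  haveI : CharP (AlgebraicClosure L) p := charP_of_injective_ringHom f.injective p
  let ι : GL (Fin n) L →* GL (Fin n) (AlgebraicClosure L) := Matrix.GeneralLinearGroup.map f
  have hι : Function.Injective ι := by
    intro a b hab
    apply Matrix.GeneralLinearGroup.ext
    intro i j
    have := congrArg (fun x : GL (Fin n) (AlgebraicClosure L) =>
      (x : Matrix (Fin n) (Fin n) (AlgebraicClosure L)) i j) hab
    exact f.injective this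
  set Z' := Subgroup.center (GL (Fin n) (AlgebraicClosure L))
  have hscal : ∀ z ∈ Z, ι z ∈ Z' := by
    intro z hz
    simp only [Z, Z', Matrix.GeneralLinearGroup.center_eq_range_scalar] at hz ⊢
    obtain ⟨u, rfl⟩ := hz
    refine ⟨Units.map f.toMonoidHom u, ?_⟩
    apply Matrix.GeneralLinearGroup.ext
    intro i j
    show Matrix.diagonal (fun _ => f u) i j = f (Matrix.diagonal (fun _ => (u : L)) i j)
    by_cases h : i = j
    · subst h; simp
    · simp [h]
  let σ' : D.SteinbergCover K →* GL (Fin n) (AlgebraicClosure L) ⧸ Z' :=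
    (QuotientGroup.map Z Z' ι hscal).comp σ
  -- the pullback
  let P : Subgroup (D.SteinbergCover K × GL (Fin n) (AlgebraicClosure L)) :=
    { carrier := {x | σ' x.1 = QuotientGroup.mk' Z' x.2}
      one_mem' := by simp
      mul_mem' := fun {a b} ha hb => by
        simp only [Set.mem_setOf_eq, Prod.fst_mul, Prod.snd_mul, map_mul] at *; rw [ha, hb]
      inv_mem' := fun {a} ha => by
        simp only [Set.mem_setOf_eq, Prod.fst_inv, Prod.snd_inv, map_inv] at *; rw [ha] }
  let pr : ↥P →* D.SteinbergCover K := (MonoidHom.fst _ _).comp P.subtype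
  have hker : ∀ z ∈ pr.ker, (z : D.SteinbergCover K × GL (Fin n) (AlgebraicClosure L)).2 ∈ Z' := by
    intro z hz
    have h1 : (z : D.SteinbergCover K × GL (Fin n) (AlgebraicClosure L)).1 = 1 := hz
    have h2 : σ' z.val.1 = QuotientGroup.mk' Z' z.val.2 := z.2
    rw [h1, map_one] at h2
    exact (QuotientGroup.eq_one_iff _).1 h2.symm
  have hpr : CfsgLib.KnownA.CExt.IsCentralSurj pr := by
    refine ⟨fun x => ?_, fun z hz => Subgroup.mem_center_iff.2 fun w => ?_⟩
    · obtain ⟨y, hy⟩ := QuotientGroup.mk'_surjective Z' (σ' x)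
      exact ⟨⟨(x, y), hy.symm⟩, rfl⟩
    · have h1 : (z : D.SteinbergCover K × GL (Fin n) (AlgebraicClosure L)).1 = 1 := hz
      refine Subtype.ext (Prod.ext ?_ (Subgroup.mem_center_iff.1 (hker z hz) _))
      show w.val.1 * z.val.1 = z.val.1 * w.val.1
      rw [h1, mul_one, one_mul]
  have hone : ∀ u : (AlgebraicClosure L)ˣ, u ^ p = 1 → u = 1 := fun u hu => by
    ext
    have h : ((u : AlgebraicClosure L) - 1) ^ p = 0 := by
      rw [sub_pow_char, one_pow, ← Units.val_pow_eq_pow_val, hu, Units.val_one, sub_self]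
    exact sub_eq_zero.1 (eq_zero_of_pow_eq_zero h)
  have hdiv : ∀ z ∈ pr.ker, ∃ w ∈ pr.ker, w ^ p = z := by
    intro z hz
    have h := hker z hz
    simp only [Z', Matrix.GeneralLinearGroup.center_eq_range_scalar] at h
    obtain ⟨u, hu⟩ := h
    obtain ⟨v, hv⟩ := IsAlgClosed.exists_pow_nat_eq (u : AlgebraicClosure L) hpf.out.pos
    have hv0 : v ≠ 0 := by
      rintro rfl
      exact u.ne_zero (by rw [← hv, zero_pow hpf.out.ne_zero])
    set w := Matrix.GeneralLinearGroup.scalar (Fin n) (Units.mk0 v hv0)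
    have hw : w ∈ Z' := by
      show w ∈ Subgroup.center _
      rw [Matrix.GeneralLinearGroup.center_eq_range_scalar]; exact ⟨_, rfl⟩
    refine ⟨⟨(1, w), ?_⟩, rfl, Subtype.ext (Prod.ext ?_ ?_)⟩
    · show σ' 1 = QuotientGroup.mk' Z' w
      rw [map_one]
      exact ((QuotientGroup.eq_one_iff w).2 hw).symm
    · show (1 : D.SteinbergCover K) ^ p = z.val.1
      rw [one_pow]; exact hz.symm
    · show w ^ p = z.val.2
      rw [← hu, ← map_pow]
      congr 1
      ext
      exact hv
  have hfree : ∀ z ∈ pr.ker, z ^ p = 1 → z = 1 := by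
    intro z hz hzp
    have h := hker z hz
    simp only [Z', Matrix.GeneralLinearGroup.center_eq_range_scalar] at h
    obtain ⟨u, hu⟩ := h
    refine Subtype.ext (Prod.ext hz ?_)
    show z.val.2 = 1
    rw [← hu]
    have h2 : z.val.2 ^ p = 1 := congrArg (fun x : ↥P => x.val.2) hzp
    rw [← hu, ← map_pow] at h2
    rcases n.eq_zero_or_pos with rfl | hn
    · exact Subsingleton.elim _ _
    · haveI : Nonempty (Fin n) := ⟨⟨0, hn⟩⟩
      have h3 : u ^ p = 1 := by
        ext
        have := congrArg (fun x : GL (Fin n) (AlgebraicClosure L) =>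
          (x : Matrix (Fin n) (Fin n) (AlgebraicClosure L)) ⟨0, hn⟩ ⟨0, hn⟩) h2
        simpa [Matrix.diagonal_pow] using this
      rw [hone u h3, map_one]
  obtain ⟨τ, hτ⟩ := CfsgLib.KnownA.CExt.exists_lift_pfree (CfsgLib.Chev.scData g hcm K) hpr
    (CfsgLib.Chev.linked_of_mem hD g) p (CharP.cast_eq_zero K p) hdiv hfree
  set ψ' : D.SteinbergCover K →* GL (Fin n) (AlgebraicClosure L) :=
    ((MonoidHom.snd _ _).comp P.subtype).comp τ
  have hψ' : ∀ x, QuotientGroup.mk' Z' (ψ' x) = σ' x := by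
    have e : pr.comp τ = MonoidHom.id _ := by
      refine MonoidHom.eq_of_eqOn_dense (CfsgLib.Chev.closure_gen_eq_top (D.steinbergRelsAB K)) ?_
      rintro _ ⟨r, hr, t, rfl⟩
      exact hτ r hr t
    intro x
    have h1 : (τ x).val.1 = x := DFunLike.congr_fun e x
    have h2 : σ' (τ x).val.1 = QuotientGroup.mk' Z' (τ x).val.2 := (τ x).2
    rw [h1] at h2
    exact h2.symm
  -- the lift lands in `GL (Fin n) L`
  have hrange : commutator (D.SteinbergCover K) ≤ ι.range.comap ψ' := by
    rw [commutator_def, Subgroup.commutator_le]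
    intro a _ b _
    have hl : ∀ x, ∃ A : GL (Fin n) L, ∃ z ∈ Z', ψ' x = ι A * z := by
      intro x
      obtain ⟨A, hA⟩ := QuotientGroup.mk'_surjective Z (σ x)
      refine ⟨A, (ι A)⁻¹ * ψ' x, ?_, by group⟩
      rw [← QuotientGroup.eq_one_iff]
      show QuotientGroup.mk' Z' _ = 1
      rw [map_mul, map_inv, hψ', show σ' x = QuotientGroup.map Z Z' ι hscal (σ x) from rfl, ← hA]
      exact inv_mul_cancel _
    obtain ⟨A, z, hz, hA⟩ := hl a
    obtain ⟨B, w, hw, hB⟩ := hl b
    refine ⟨⁅A, B⁆, ?_⟩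
    have hπ' : CfsgLib.KnownA.CExt.IsCentralSurj (QuotientGroup.mk' Z') :=
      ⟨QuotientGroup.mk'_surjective _, (QuotientGroup.ker_mk' _).le⟩
    rw [map_commutatorElement, map_commutatorElement, hA, hB,
      CfsgLib.KnownA.CExt.comm_mul_ker_left hπ' _ _ (by rw [QuotientGroup.ker_mk']; exact hz),
      CfsgLib.KnownA.CExt.comm_mul_ker_right hπ' _ _ (by rw [QuotientGroup.ker_mk']; exact hw)]
  rw [hperf] at hrange
  have hmem : ∀ x, ∃ A, ι A = ψ' x := fun x => hrange (Subgroup.mem_top x)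
  choose ψf hψf using hmem
  let ψ : D.SteinbergCover K →* GL (Fin n) L := MonoidHom.mk' ψf
    (fun a b => hι (by rw [map_mul, hψf, hψf, hψf, map_mul]))
  have hψ : ∀ x, QuotientGroup.mk' Z (ψ x) = σ x := by
    intro x
    obtain ⟨A, hA⟩ := QuotientGroup.mk'_surjective Z (σ x)
    rw [← hA]
    refine (QuotientGroup.eq (s := Z)).2 ?_
    have h1 : QuotientGroup.mk' Z' (ι (ψ x)) = QuotientGroup.mk' Z' (ι A) := by
      show QuotientGroup.mk' Z' (ι (ψf x)) = _
      rw [hψf, hψ', show σ' x = QuotientGroup.map Z Z' ι hscal (σ x) from rfl, ← hA]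
      rfl
    have h2 := Subgroup.mem_center_iff.1 ((QuotientGroup.eq (s := Z')).1 h1)
    refine Subgroup.mem_center_iff.2 fun w => hι ?_
    have := h2 (ι w)
    simpa only [map_mul, map_inv] using this
  refine ⟨ψ, MonoidHom.ext hψ, fun χ hχ => MonoidHom.ext fun x => ?_⟩
  have hz : ∀ x, (ψ x)⁻¹ * χ x ∈ Z := fun x => by
    rw [← QuotientGroup.eq_one_iff]
    show QuotientGroup.mk' Z _ = 1
    have : QuotientGroup.mk' Z (χ x) = σ x := DFunLike.congr_fun hχ x
    rw [map_mul, map_inv, hψ, this]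
    exact inv_mul_cancel _
  let d : D.SteinbergCover K →* ↥Z :=
    { toFun := fun x => ⟨(ψ x)⁻¹ * χ x, hz x⟩
      map_one' := Subtype.ext (by simp)
      map_mul' := fun x y => Subtype.ext (by
        show (ψ (x * y))⁻¹ * χ (x * y) = (ψ x)⁻¹ * χ x * ((ψ y)⁻¹ * χ y)
        rw [map_mul, map_mul, mul_inv_rev,
          show (ψ y)⁻¹ * (ψ x)⁻¹ * (χ x * χ y) = (ψ y)⁻¹ * (((ψ x)⁻¹ * χ x) * χ y) by group,
          ← Subgroup.mem_center_iff.1 (hz x) (χ y), ← mul_assoc,
          Subgroup.mem_center_iff.1 (hz x) ((ψ y)⁻¹ * χ y)]) }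
  have hk : commutator (D.SteinbergCover K) ≤ d.ker := by
    rw [commutator_def, Subgroup.commutator_le]
    intro a _ b _
    rw [MonoidHom.mem_ker, map_commutatorElement, commutatorElement_eq_one_iff_mul_comm]
    exact Subtype.ext (Subgroup.mem_center_iff.1 (hz b) _)
  rw [hperf] at hk
  exact (inv_mul_eq_one.1 (congrArg Subtype.val (MonoidHom.mem_ker.1 (hk (Subgroup.mem_top x))))).symm


end Cfsg.Agent.S2399
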