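import Cfsg.Statements.S2400
import Cfsg.Agent.Lib.KnownA.CExt.B2Three
import Cfsg.Agent.Lib.KnownA.CExt.TwoTables

set_option autoImplicit false
open Cfsg

namespace Cfsg.Agent.S2400

/-- Over a finite field `K`, the group presented by Steinberg's relators (R1)–(R3) (the universal Chevalley group) of type E₆ or E₇, or of type B₂ or D₄ with `K` of more than two elements, has trivial Schur multiplier: every finite stem extension of it is an isomorphism (Schur multiplier described through stem extensions as in the definitions). Types G₂, F₄ and E₈ are not covered here. -/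
theorem result {K : Type*} [Field K] [Fintype K] (e : Cfsg.Lie.ChevalleyDatum × ℕ)
    (he : e ∈ [(Cfsg.Lie.chevE6, 0), (Cfsg.Lie.chevE7, 0), (Cfsg.Lie.chevB2, 2), (Cfsg.Lie.chevD4, 2)]) (hK : Fintype.card K ≠ e.2) :
    Cfsg.HasCyclicSchurMultiplier (e.1.SteinbergGroup K) 1 := by
  simp only [List.mem_cons, List.not_mem_nil, or_false] at he
  have hD : ∀ D, D = Cfsg.Lie.chevE6 ∨ D = Cfsg.Lie.chevE7 ∨ D = Cfsg.Lie.chevB2 ∨ D = Cfsg.Lie.chevD4 →
      D ∈ [Cfsg.Lie.chevG2, Cfsg.Lie.chevB2, Cfsg.Lie.chevD4, Cfsg.Lie.chevF4, Cfsg.Lie.chevE6,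
        Cfsg.Lie.chevE7, Cfsg.Lie.chevE8] := by
    rintro D (rfl | rfl | rfl | rfl) <;> simp
  have h3 : e.2 = 2 → 3 ≤ Fintype.card K := fun h => by
    have := Fintype.one_lt_card (α := K)
    omega
  have hbig : ∀ D, 3 ≤ Fintype.card K → 4 ≤ Fintype.card K → D ≠ Cfsg.Lie.chevG2 →
      CfsgLib.KnownA.CExt.BigField K D := fun D h h' hne =>
    CfsgLib.KnownA.CExt.bigField_of_card D h (fun _ => h') fun h'' => absurd h'' hne
  have htwo : Fintype.card K = 3 → (2 : K) ≠ 0 := fun h h2 => by
    have h0 : ((Fintype.card K : ℕ) : K) = 0 := FiniteField.cast_card_eq_zero K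
    rw [h] at h0
    push_cast at h0
    exact one_ne_zero (by linear_combination h0 - h2 : (1 : K) = 0)
  rcases he with rfl | rfl | rfl | rfl
  · exact CfsgLib.KnownA.CExt.multiplier_stGroup (hD _ (Or.inl rfl))
      (CfsgLib.KnownA.CExt.splits_E (by simp))
  · exact CfsgLib.KnownA.CExt.multiplier_stGroup (hD _ (Or.inr (Or.inl rfl)))
      (CfsgLib.KnownA.CExt.splits_E (by simp))
  · refine CfsgLib.KnownA.CExt.multiplier_stGroup (hD _ (Or.inr (Or.inr (Or.inl rfl)))) ?_
    by_cases h : Fintype.card K = 3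
    · refine CfsgLib.KnownA.CExt.splits_b2three (htwo h) fun t => ?_
      classical
      have hne : (-1 : K) ≠ 1 := fun h' => htwo h (by linear_combination -h')
      have hu : (Finset.univ : Finset K) = {0, 1, -1} := by
        refine (Finset.eq_univ_of_card _ ?_).symm
        rw [h, Finset.card_eq_three]
        exact ⟨0, 1, -1, zero_ne_one, by simp, hne.symm, rfl⟩
      have := Finset.mem_univ t
      rw [hu] at this
      simpa using this
    · have := h3 rfl
      exact CfsgLib.KnownA.CExt.splits_of_bigField (hD _ (Or.inr (Or.inr (Or.inl rfl))))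
        (hbig _ this (by omega) (fun h' => absurd (congrArg Cfsg.Lie.ChevalleyDatum.nroots h') (by decide)))
  · refine CfsgLib.KnownA.CExt.multiplier_stGroup (hD _ (Or.inr (Or.inr (Or.inr rfl)))) ?_
    by_cases h : Fintype.card K = 3
    · exact CfsgLib.KnownA.CExt.splits_of_odd (Or.inl rfl) (htwo h)
    · have := h3 rfl
      exact CfsgLib.KnownA.CExt.splits_of_bigField (hD _ (Or.inr (Or.inr (Or.inr rfl))))
        (hbig _ this (by omega) (fun h' => absurd (congrArg Cfsg.Lie.ChevalleyDatum.nroots h') (by decide)))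


end Cfsg.Agent.S2400
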