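import Cfsg.Statements.S2402
import Cfsg.Agent.Lib.KnownB.SLTwoGen

-- import your own Cfsg.Agent.* helpers here

set_option autoImplicit false
open Cfsg

namespace Cfsg.Agent.S2402

open Matrix CfsgLib.KnownB.SLTwoGen CfsgLib.Classical


/-- Explicit two-element generation of `PSL_{n+1}(K)` for a finite field `K` with more than three elements: let `k` generate the multiplicative group of `K`, `h = diag(k, k⁻¹, 1, …, 1)`, `x = 1 + E₁₂` (the elementary transvection) and `w` the monomial matrix with entries `1` in positions `(i, i+1)` and `(−1)^n` in position `(n+1, 1)`. Then `h` and `x·w` generate `SL_{n+1}(K)` modulo its centre: the subgroup they generate together with the centre is everything. -/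
theorem result {K : Type*} [Field K] [Fintype K] (hK : 3 < Fintype.card K) (n : ℕ) (hn : 1 ≤ n)
    (k : Kˣ) (hk : ∀ u : Kˣ, u ∈ Subgroup.zpowers k)
    (h x w : Matrix.SpecialLinearGroup (Fin (n + 1)) K)
    (hh : (h : Matrix (Fin (n + 1)) (Fin (n + 1)) K) =
      Matrix.diagonal (fun i => if i.val = 0 then (k : K) else if i.val = 1 then ((k⁻¹ : Kˣ) : K) else 1))
    (hx : (x : Matrix (Fin (n + 1)) (Fin (n + 1)) K) = Matrix.transvection (0 : Fin (n + 1)) (1 : Fin (n + 1)) 1)
    (hw : (w : Matrix (Fin (n + 1)) (Fin (n + 1)) K) =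
      Matrix.of (fun i j => if j.val = i.val + 1 then 1 else if i.val = n ∧ j.val = 0 then (-1) ^ n else 0)) :
    Subgroup.closure ({h, x * w} : Set (Matrix.SpecialLinearGroup (Fin (n + 1)) K)) ⊔
      Subgroup.center (Matrix.SpecialLinearGroup (Fin (n + 1)) K) = ⊤ := by
  classical
  set H := Subgroup.closure ({h, x * w} : Set (Matrix.SpecialLinearGroup (Fin (n + 1)) K))
  have hhH : h ∈ H := Subgroup.subset_closure (by simp)
  have hyH : x * w ∈ H := Subgroup.subset_closure (by simp)
  suffices hT : ∀ (hij : (0 : Fin (n + 1)) ≠ 1) (c : K),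
      Matrix.SpecialLinearGroup.transvection hij c ∈ H by
    have h01 : (0 : Fin (n + 1)) ≠ 1 := fun e => by
      have := congrArg Fin.val e
      rw [Fin.val_zero, Fin.val_one', Nat.mod_eq_of_lt (by omega)] at this
      omega
    have hxe : x = Matrix.SpecialLinearGroup.transvection h01 (1 : K) := Subtype.ext (by
      rw [hx, Matrix.SpecialLinearGroup.transvection_coe]; rfl)
    have hwH : w ∈ H := (Subgroup.mul_mem_cancel_left _ (hxe ▸ hT h01 1)).mp hyH
    rw [shift_gen hn H hw hwH hT, top_sup_eq]
  intro hij
  have hxe : x = Matrix.SpecialLinearGroup.transvection hij (1 : K) := Subtype.ext (by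
    rw [hx, Matrix.SpecialLinearGroup.transvection_coe]; rfl)
  let d : Fin (n + 1) → K :=
    fun i => if i.val = 0 then (k : K) else if i.val = 1 then ((k⁻¹ : Kˣ) : K) else 1
  have hd : ∀ i, d i ≠ 0 := fun i => by simp only [d]; split_ifs <;> simp
  have h1v : (1 : Fin (n + 1)).val = 1 := by rw [Fin.val_one', Nat.mod_eq_of_lt (by omega)]
  have hd0 : d 0 = k := by simp [d]
  have hd1 : d 1 = (k : K)⁻¹ := by
    simp only [d]; rw [if_neg (by omega), if_pos h1v, Units.val_inv_eq_inv_val]
  have hk0 : (k : K) ≠ 0 := k.ne_zero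
  -- the additive group of transvection parameters lying in `H`
  let S : AddSubgroup K :=
    { carrier := {c | Matrix.SpecialLinearGroup.transvection hij c ∈ H}
      add_mem' := fun {a b} ha hb => by
        have e : Matrix.SpecialLinearGroup.transvection hij (a + b) =
            Matrix.SpecialLinearGroup.transvection hij a *
              Matrix.SpecialLinearGroup.transvection hij b := Subtype.ext (by
          rw [Matrix.SpecialLinearGroup.coe_mul, Matrix.SpecialLinearGroup.transvection_coe,
            Matrix.SpecialLinearGroup.transvection_coe, Matrix.SpecialLinearGroup.transvection_coe]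
          exact (Matrix.transvection_mul_transvection_same 0 1 hij a b).symm)
        show _ ∈ H
        rw [e]
        exact mul_mem ha hb
      zero_mem' := by
        show _ ∈ H
        rw [show Matrix.SpecialLinearGroup.transvection hij (0 : K) = 1 from Subtype.ext (by
          simp [Matrix.SpecialLinearGroup.transvection_coe])]
        exact one_mem _
      neg_mem' := fun {a} ha => by
        show _ ∈ H
        rw [← Matrix.SpecialLinearGroup.transvection_inv]
        exact inv_mem ha }
  have hsq : ∀ c ∈ S, (k : K) ^ 2 * c ∈ S := by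
    intro c hc
    show _ ∈ H
    have e := diag_conj (d := d) hh hij (hd 1) c
    rw [hd0, hd1] at e
    rw [show (k : K) ^ 2 * c = k * c / (k : K)⁻¹ by field_simp, ← e]
    exact mul_mem (mul_mem hhH hc) (inv_mem hhH)
  -- the shifted torus element
  set h' := w * h * w⁻¹ with hh'
  let d' : Fin (n + 1) → K := fun i => if hi : i.val < n then d ⟨i.val + 1, by omega⟩ else d 0
  have hh'd : (h' : Matrix (Fin (n + 1)) (Fin (n + 1)) K) = Matrix.diagonal d' := by
    obtain ⟨D, hD⟩ : ∃ D : Matrix.SpecialLinearGroup (Fin (n + 1)) K,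
        (D : Matrix (Fin (n + 1)) (Fin (n + 1)) K) = Matrix.diagonal d' := by
      refine ⟨⟨Matrix.diagonal d', ?_⟩, rfl⟩
      have hperm : ∀ i, d' i = d (finRotate (n + 1) i) := by
        intro i
        simp only [d']
        split_ifs with hi
        · congr 1
          exact Fin.ext (by rw [coe_finRotate_of_ne_last (fun e => by rw [e] at hi; simp at hi)])
        · rw [show i = Fin.last n from Fin.ext (by simp; omega), finRotate_last]
      rw [Matrix.det_diagonal, Finset.prod_congr rfl fun i _ => hperm i,
        Equiv.prod_comp (finRotate (n + 1)) d]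
      have hdet := h.2
      rw [hh, Matrix.det_diagonal] at hdet
      exact hdet
    rw [← hD]
    refine congrArg (fun s : Matrix.SpecialLinearGroup (Fin (n + 1)) K =>
      (s : Matrix (Fin (n + 1)) (Fin (n + 1)) K)) ?_
    rw [hh']
    refine mul_inv_eq_of_eq_mul ?_
    refine sl_ext_smul fun v => funext fun r => ?_
    have hs : ∀ (u : Fin (n + 1) → K) i, (h • u) i = d i * u i := fun u i => by
      rw [Matrix.SpecialLinearGroup.smul_def, Matrix.smul_eq_mulVec, hh, Matrix.mulVec_diagonal]
    have hs' : ∀ (u : Fin (n + 1) → K) i, (D • u) i = d' i * u i := fun u i => by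
      rw [Matrix.SpecialLinearGroup.smul_def, Matrix.smul_eq_mulVec, hD, Matrix.mulVec_diagonal]
    simp only [mul_smul, cyc_smul hw, hs, hs', d']
    split_ifs <;> ring
  have ha : (x * w) * h * (x * w)⁻¹ ∈ H := mul_mem (mul_mem hyH hhH) (inv_mem hyH)
  rw [show (x * w) * h * (x * w)⁻¹ = x * h' * x⁻¹ by rw [hh']; group] at ha
  have hd'0 : d' 0 = (k : K)⁻¹ := by
    simp only [d']
    rw [dif_pos (show (0 : Fin (n + 1)).val < n by simp only [Fin.val_zero]; omega)]
    simp [d]
  have hd'1 : d' 1 ≠ 0 := by
    simp only [d']; split_ifs <;> exact hd _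
  set lam := d' 0 / d' 1 with hlam
  have hlam0 : lam ≠ 0 := div_ne_zero (by rw [hd'0]; exact inv_ne_zero hk0) hd'1
  have hconj : ∀ c, h' * Matrix.SpecialLinearGroup.transvection hij c * h'⁻¹ =
      Matrix.SpecialLinearGroup.transvection hij (lam * c) := fun c => by
    rw [diag_conj hh'd hij hd'1 c, hlam]; congr 1; ring
  have hu : x * h' * x⁻¹ = h' * Matrix.SpecialLinearGroup.transvection hij (lam⁻¹ - 1) := by
    have e : x * h' * x⁻¹ = h' * ((h'⁻¹ * x * h') * x⁻¹) := by group
    have e2 : h'⁻¹ * x * h' = Matrix.SpecialLinearGroup.transvection hij lam⁻¹ := by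
      have e3 := hconj lam⁻¹
      rw [mul_inv_cancel₀ hlam0, ← hxe] at e3
      rw [← e3]
      group
    rw [e, e2, hxe, Matrix.SpecialLinearGroup.transvection_inv]
    congr 1
    refine Subtype.ext ?_
    rw [Matrix.SpecialLinearGroup.coe_mul, Matrix.SpecialLinearGroup.transvection_coe,
      Matrix.SpecialLinearGroup.transvection_coe, Matrix.SpecialLinearGroup.transvection_coe]
    rw [sub_eq_add_neg]
    exact Matrix.transvection_mul_transvection_same 0 1 hij _ _
  rw [hu] at ha
  set a := h' * Matrix.SpecialLinearGroup.transvection hij (lam⁻¹ - 1) with haa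
  have hascale : ∀ c ∈ S, lam * c ∈ S := by
    intro c hc
    show _ ∈ H
    have e : a * Matrix.SpecialLinearGroup.transvection hij c * a⁻¹ =
        Matrix.SpecialLinearGroup.transvection hij (lam * c) := by
      rw [← hconj c, haa]
      have hcom : Commute (Matrix.SpecialLinearGroup.transvection hij (lam⁻¹ - 1))
          (Matrix.SpecialLinearGroup.transvection hij c) := Subtype.ext (by
        rw [Matrix.SpecialLinearGroup.coe_mul, Matrix.SpecialLinearGroup.coe_mul,
          Matrix.SpecialLinearGroup.transvection_coe, Matrix.SpecialLinearGroup.transvection_coe]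
        exact (Matrix.transvection_mul_transvection_same 0 1 hij _ _).trans
          ((congrArg (Matrix.transvection 0 1) (add_comm _ _)).trans
            (Matrix.transvection_mul_transvection_same 0 1 hij _ _).symm))
      rw [_root_.mul_inv_rev, mul_assoc h', hcom.eq]
      group
    rw [← e]
    exact mul_mem (mul_mem ha hc) (inv_mem ha)
  -- a nonzero parameter
  have hk1 : (k : K) ^ 2 ≠ 1 := by
    intro e
    have hcard : Nat.card Kˣ ≤ 2 := by
      rw [← orderOf_eq_card_of_forall_mem_zpowers hk]
      exact Nat.le_of_dvd two_pos (orderOf_dvd_of_pow_eq_one (Units.ext (by simpa using e)))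
    rw [Nat.card_units, Nat.card_eq_fintype_card] at hcard
    omega
  obtain ⟨c₀, hc₀, hc₀0⟩ : ∃ c ∈ S, c ≠ 0 := by
    refine ⟨lam * (((k : K) ^ 2 - 1) * (lam⁻¹ - 1)), ?_, ?_⟩
    · show _ ∈ H
      have hcomm : h * h' * h⁻¹ = h' := by
        rw [mul_inv_eq_iff_eq_mul]
        refine Subtype.ext ?_
        rw [Matrix.SpecialLinearGroup.coe_mul h h', Matrix.SpecialLinearGroup.coe_mul h' h, hh'd, hh,
          Matrix.diagonal_mul_diagonal, Matrix.diagonal_mul_diagonal]
        exact congrArg Matrix.diagonal (funext fun i => mul_comm _ _)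
      have e : h * a * h⁻¹ * a⁻¹ = Matrix.SpecialLinearGroup.transvection hij
          (lam * (((k : K) ^ 2 - 1) * (lam⁻¹ - 1))) := by
        have e4 := diag_conj (d := d) hh hij (hd 1) (lam⁻¹ - 1)
        rw [hd0, hd1] at e4
        rw [haa, show h * (h' * Matrix.SpecialLinearGroup.transvection hij (lam⁻¹ - 1)) * h⁻¹ =
          (h * h' * h⁻¹) * (h * Matrix.SpecialLinearGroup.transvection hij (lam⁻¹ - 1) * h⁻¹) by group,
          hcomm, e4, _root_.mul_inv_rev, Matrix.SpecialLinearGroup.transvection_inv, ← hconj]
        rw [← mul_assoc, mul_assoc h']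
        congr 2
        refine Subtype.ext ?_
        rw [Matrix.SpecialLinearGroup.coe_mul, Matrix.SpecialLinearGroup.transvection_coe,
          Matrix.SpecialLinearGroup.transvection_coe, Matrix.SpecialLinearGroup.transvection_coe]
        refine (Matrix.transvection_mul_transvection_same 0 1 hij _ _).trans
          (congrArg (Matrix.transvection 0 1) ?_)
        field_simp
        ring
      rw [← e]
      exact mul_mem (mul_mem (mul_mem hhH ha) (inv_mem hhH)) (inv_mem ha)
    · refine mul_ne_zero hlam0 (mul_ne_zero (sub_ne_zero.mpr hk1) (sub_ne_zero.mpr fun e => ?_))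
      rw [inv_eq_one, hlam, div_eq_one_iff_eq hd'1, hd'0] at e
      by_cases hn1 : n = 1
      · have : d' 1 = k := by simp [d', d, h1v, hn1]
        rw [this] at e
        exact hk1 (by rw [sq]; nth_rw 1 [← e]; exact inv_mul_cancel₀ hk0)
      · have : d' 1 = 1 := by
          simp only [d', h1v]
          rw [dif_pos (by omega)]
          simp [d]
        rw [this, inv_eq_one] at e
        exact hk1 (by rw [e, one_pow])
  have hsquares : ∀ (u : Kˣ) (c : K), c ∈ S → (u : K) ^ 2 * c ∈ S := by
    intro u c hc
    obtain ⟨i, hi⟩ := (mem_powers_iff_mem_zpowers).mpr (hk u)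
    simp only at hi
    subst hi
    induction i generalizing c with
    | zero => simpa using hc
    | succ i ih =>
      have := hsq _ (ih c hc)
      rw [show ((k ^ (i + 1) : Kˣ) : K) ^ 2 * c = (k : K) ^ 2 * (((k ^ i : Kˣ) : K) ^ 2 * c) by
        push_cast; ring]
      exact this
  have hsq' : ∀ (r : K) (c : K), c ∈ S → r ^ 2 * c ∈ S := fun r c hc => by
    by_cases hr : r = 0
    · simp [hr, S.zero_mem]
    · exact hsquares (Units.mk0 r hr) c hc
  intro c
  obtain ⟨r, s, hrs⟩ : ∃ r s : K, r ^ 2 + s ^ 2 = c / c₀ := by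
    obtain ⟨p, hp⟩ := CharP.exists K
    haveI : Fact p.Prime := ⟨CharP.char_is_prime K p⟩
    by_cases h2 : ringChar K = 2
    · obtain ⟨r, hr⟩ := FiniteField.isSquare_of_char_two h2 (c / c₀)
      exact ⟨r, 0, by rw [hr]; ring⟩
    · obtain ⟨r, s, hrs⟩ := FiniteField.exists_root_sum_quadratic (R := K)
        (f := Polynomial.X ^ 2) (g := Polynomial.X ^ 2 - Polynomial.C (c / c₀))
        (Polynomial.degree_X_pow 2) (Polynomial.degree_X_pow_sub_C two_pos _)
        (FiniteField.odd_card_of_char_ne_two h2)
      simp at hrs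
      exact ⟨r, s, by linear_combination hrs⟩
  have := S.add_mem (hsq' r c₀ hc₀) (hsq' s c₀ hc₀)
  rw [← add_mul, hrs, div_mul_cancel₀ _ hc₀0] at this
  exact this

end Cfsg.Agent.S2402
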