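import Cfsg.Statements.S2403
import Cfsg.Agent.Lib.KnownB.SLTwoGen

-- import your own Cfsg.Agent.* helpers here

set_option autoImplicit false
open Cfsg

namespace Cfsg.Agent.S2403

open Matrix CfsgLib.KnownB.SLTwoGen CfsgLib.Classical


/-- Explicit two-element generation of `PSL_{n+1}(K)` over the fields with two or three elements: with `x = 1 + E₁₂` and `w` the monomial matrix with entries `1` in positions `(i, i+1)` and `(−1)^n` in position `(n+1, 1)`, the elements `x` and `w` generate `SL_{n+1}(K)` modulo its centre. -/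
theorem result {K : Type*} [Field K] [Fintype K] (hK : Fintype.card K ≤ 3) (n : ℕ) (hn : 1 ≤ n)
    (x w : Matrix.SpecialLinearGroup (Fin (n + 1)) K)
    (hx : (x : Matrix (Fin (n + 1)) (Fin (n + 1)) K) = Matrix.transvection (0 : Fin (n + 1)) (1 : Fin (n + 1)) 1)
    (hw : (w : Matrix (Fin (n + 1)) (Fin (n + 1)) K) =
      Matrix.of (fun i j => if j.val = i.val + 1 then 1 else if i.val = n ∧ j.val = 0 then (-1) ^ n else 0)) :
    Subgroup.closure ({x, w} : Set (Matrix.SpecialLinearGroup (Fin (n + 1)) K)) ⊔
      Subgroup.center (Matrix.SpecialLinearGroup (Fin (n + 1)) K) = ⊤ := by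
  classical
  rw [shift_gen hn (Subgroup.closure {x, w}) hw (Subgroup.subset_closure (by simp)) ?_, top_sup_eq]
  intro hij c
  have hxe : x = Matrix.SpecialLinearGroup.transvection hij (1 : K) := Subtype.ext (by
    rw [hx, Matrix.SpecialLinearGroup.transvection_coe]; rfl)
  have hxH : x ∈ Subgroup.closure ({x, w} : Set (Matrix.SpecialLinearGroup (Fin (n + 1)) K)) :=
    Subgroup.subset_closure (by simp)
  have hc : c = 0 ∨ c = 1 ∨ c = -1 := by
    by_contra hc
    push Not at hc
    by_cases h2 : (-1 : K) = 1
    · have hcard : ({0, 1, c, c + 1} : Finset K).card = 4 := by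
        have h11 : (1 : K) + 1 = 0 := by linear_combination -h2
        rw [Finset.card_eq_four]
        refine ⟨0, 1, c, c + 1, zero_ne_one, Ne.symm hc.1, fun e => hc.2.2 (by linear_combination -e),
          Ne.symm hc.2.1, fun e => hc.1 (by linear_combination -e), fun e => one_ne_zero (α := K) (by linear_combination -e), rfl⟩
      have := Finset.card_le_univ ({0, 1, c, c + 1} : Finset K)
      omega
    · have hcard : ({0, 1, c, -1} : Finset K).card = 4 := by
        rw [Finset.card_eq_four]
        exact ⟨0, 1, c, -1, zero_ne_one, Ne.symm hc.1, Ne.symm (neg_ne_zero.mpr one_ne_zero),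
          Ne.symm hc.2.1, Ne.symm h2, hc.2.2, rfl⟩
      have := Finset.card_le_univ ({0, 1, c, -1} : Finset K)
      omega
  rcases hc with rfl | rfl | rfl
  · rw [show Matrix.SpecialLinearGroup.transvection hij (0 : K) = 1 from Subtype.ext (by
      simp)]
    exact one_mem _
  · exact hxe ▸ hxH
  · rw [← Matrix.SpecialLinearGroup.transvection_inv, ← hxe]
    exact inv_mem hxH

end Cfsg.Agent.S2403
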