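import Cfsg.Statements.S2405
import Cfsg.Agent.Lib.Chev.ChevGenTwoData

set_option autoImplicit false
open Cfsg

namespace Cfsg.Agent.S2405

/-- Each Chevalley group of type G₂, B₂, D₄, F₄, E₆, E₇ or E₈ over a finite field is generated by two of its elements (types B₂ and G₂ over the field with two elements, where the group is not simple, excepted). -/
theorem result {F : Type*} [Field F] [Finite F] (D : Cfsg.Lie.ChevalleyDatum) (hD : D ∈ [Cfsg.Lie.chevG2, Cfsg.Lie.chevB2, Cfsg.Lie.chevD4, Cfsg.Lie.chevF4, Cfsg.Lie.chevE6, Cfsg.Lie.chevE7, Cfsg.Lie.chevE8])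
    (hF : D ∈ [Cfsg.Lie.chevB2, Cfsg.Lie.chevG2] → ∃ x : F, x ≠ 0 ∧ x ≠ 1) :
    ∃ a b : ↥(D.group F), Subgroup.closure ({a, b} : Set ↥(D.group F)) = ⊤ := by
  classical
  have := Fintype.ofFinite F
  have hsmall : ¬ 3 ≤ Fintype.card F → Fintype.card F = 2 := fun h => by
    have := Fintype.one_lt_card (α := F)
    omega
  have h3 : (∃ x : F, x ≠ 0 ∧ x ≠ 1) → 3 ≤ Fintype.card F := by
    rintro ⟨x, h0, h1⟩
    refine le_trans ?_ (Finset.card_le_univ ({x, 0, 1} : Finset F))
    rw [Finset.card_insert_of_notMem (by simp [h0, h1]), Finset.card_pair zero_ne_one]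
  simp only [List.mem_cons, List.not_mem_nil, or_false] at hD
  rcases hD with rfl | rfl | rfl | rfl | rfl | rfl | rfl
  · exact CfsgLib.Chev.two_genG2 (h3 (hF (by simp)))
  · exact CfsgLib.Chev.two_genB2 (h3 (hF (by simp)))
  · by_cases h : 3 ≤ Fintype.card F
    · exact CfsgLib.Chev.two_genD4 h
    · exact CfsgLib.Chev.two_genD4_two (hsmall h)
  · by_cases h : 3 ≤ Fintype.card F
    · exact CfsgLib.Chev.two_genF4 h
    · exact CfsgLib.Chev.two_genF4_two (hsmall h)
  · exact CfsgLib.Chev.two_genE6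
  · exact CfsgLib.Chev.two_genE7
  · exact CfsgLib.Chev.two_genE8

end Cfsg.Agent.S2405
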