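import Cfsg.Statements.S2419


set_option autoImplicit false
open Cfsg

namespace Cfsg.Agent.S2419


variable {l : ℕ} {M : CoxeterMatrix (Fin l)}

theorem sq (i : Fin l) : M.simple i * M.simple i = 1 := M.toCoxeterSystem.simple_mul_simple_self i

theorem sq_assoc (i : Fin l) (x : M.Group) : M.simple i * (M.simple i * x) = x := by
  rw [← mul_assoc, sq, one_mul]

theorem inv_eq (i : Fin l) : (M.simple i)⁻¹ = M.simple i := inv_eq_of_mul_eq_one_right (sq i)

theorem pow_rel (i j : Fin l) (k : ℕ) (h : M i j = k) : (M.simple i * M.simple j) ^ k = 1 := by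
  rw [← h]; exact M.toCoxeterSystem.simple_mul_simple_pow i j

theorem comm (i j : Fin l) (h : M i j = 2) : Commute (M.simple i) (M.simple j) := by
  have h1 := pow_rel i j 2 h
  have h2 : M.simple i * M.simple j = (M.simple i * M.simple j)⁻¹ :=
    eq_inv_of_mul_eq_one_left (by rw [← pow_two]; exact h1)
  rwa [mul_inv_rev, inv_eq, inv_eq] at h2

theorem braid (i j : Fin l) (h : M i j = 3) :
    M.simple i * M.simple j * M.simple i = M.simple j * M.simple i * M.simple j := by
  have h1 : M.simple i * M.simple j * M.simple i = (M.simple j * M.simple i * M.simple j)⁻¹ :=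
    eq_inv_of_mul_eq_one_left (by rw [← pow_rel i j 3 h, pow_three]; group)
  rwa [mul_inv_rev, mul_inv_rev, inv_eq, inv_eq, ← mul_assoc] at h1

/-- The Coxeter element. -/
def cox (M : CoxeterMatrix (Fin l)) : M.Group := ((List.finRange l).map M.simple).prod

/-- Conjugation by the Coxeter element along a path. -/
theorem shift (A B : List (Fin l)) (x y : Fin l) (hl : List.finRange l = A ++ x :: y :: B)
    (hxy : M x y = 3) (hA : ∀ a ∈ A, M y a = 2) (hB : ∀ b ∈ B, M x b = 2) :
    cox M * M.simple x * (cox M)⁻¹ = M.simple y := by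
  have h1 : Commute (M.simple y) ((A.map M.simple).prod) :=
    Commute.list_prod_right _ _ fun z hz => by
      obtain ⟨a, ha, rfl⟩ := List.mem_map.1 hz
      exact comm y a (hA a ha)
  have h2 : Commute (M.simple x) ((B.map M.simple).prod) :=
    Commute.list_prod_right _ _ fun z hz => by
      obtain ⟨b, hb, rfl⟩ := List.mem_map.1 hz
      exact comm x b (hB b hb)
  simp only [cox, hl, List.map_append, List.map_cons, List.prod_append, List.prod_cons]
  rw [mul_inv_eq_iff_eq_mul]
  calc _ = (A.map M.simple).prod * (M.simple x * M.simple y * ((B.map M.simple).prod * M.simple x)) := by group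
    _ = (A.map M.simple).prod * ((M.simple x * M.simple y * M.simple x) * (B.map M.simple).prod) := by
        rw [← h2.eq]; group
    _ = ((A.map M.simple).prod * M.simple y) * (M.simple x * M.simple y * (B.map M.simple).prod) := by
        rw [braid x y hxy]; group
    _ = _ := by rw [← h1.eq]; group

theorem mem_of_shift {H : Subgroup M.Group} (hc : cox M ∈ H) (A B : List (Fin l)) (x y : Fin l)
    (hl : List.finRange l = A ++ x :: y :: B)
    (hxy : M x y = 3) (hA : ∀ a ∈ A, M y a = 2) (hB : ∀ b ∈ B, M x b = 2) (hx : M.simple x ∈ H) :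
    M.simple y ∈ H := by
  rw [← shift A B x y hl hxy hA hB]; exact mul_mem (mul_mem hc hx) (inv_mem hc)

theorem eq_top {H : Subgroup M.Group} (h : ∀ i, M.simple i ∈ H) : H = ⊤ := by
  rw [eq_top_iff, ← M.toCoxeterSystem.subgroup_closure_range_simple, Subgroup.closure_le]
  rintro _ ⟨i, rfl⟩; exact h i

open scoped Classical in
theorem ne_of_closure {T : Finset M.Group} (s : Finset (Fin l)) (hT : T = s.image M.simple) :
    ∀ t ∈ T, ∃ (g : M.Group) (i : Fin l), t = g * M.simple i * g⁻¹ := fun t ht => by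
  subst hT
  obtain ⟨i, -, rfl⟩ := Finset.mem_image.1 ht
  exact ⟨1, i, by group⟩

/-- The branch at the start of the diagrams of type E. -/
theorem e_branch {H : Subgroup M.Group} (a b c d : Fin l) (hab : M a b = 2) (hcb : M b c = 2)
    (hac : M a c = 3) (hcd : M c d = 3) (had : M a d = 2)
    (hp : M.simple a * M.simple b * M.simple c ∈ H) (hd : M.simple d ∈ H) :
    M.simple a ∈ H ∧ M.simple b ∈ H ∧ M.simple c ∈ H := by
  have h1 := comm a b hab
  have h2 := comm b c hcb
  have e : M.simple a * M.simple b * M.simple c = M.simple b * (M.simple a * M.simple c) := by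
    rw [h1.eq, mul_assoc]
  have hcomm : Commute (M.simple b) (M.simple a * M.simple c) := (h1.symm).mul_right h2
  have hb : M.simple b ∈ H := by
    have := pow_mem hp 3
    rw [e, hcomm.mul_pow, pow_rel a c 3 hac, mul_one, pow_three, sq, mul_one] at this
    exact this
  have hr : M.simple a * M.simple c ∈ H := by
    have := mul_mem hb hp
    rwa [e, ← mul_assoc, sq, one_mul] at this
  have ha : M.simple a ∈ H := by
    obtain ⟨r, hr'⟩ : ∃ r, r = M.simple a * M.simple c := ⟨_, rfl⟩
    rw [← hr'] at hr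
    have := mul_mem (mul_mem (mul_mem (mul_mem hr hd) (inv_mem hr)) (mul_mem (mul_mem (inv_mem hr) hd) hr))
      (mul_mem (mul_mem hr hd) (inv_mem hr))
    convert this using 1
    rw [hr', mul_inv_rev, inv_eq, inv_eq]
    obtain ⟨u, hu⟩ : ∃ u, u = M.simple c * M.simple d * M.simple c := ⟨_, rfl⟩
    have hu' : u = M.simple d * M.simple c * M.simple d := by rw [hu, braid c d hcd]
    have e1 : M.simple c * M.simple a * M.simple d * (M.simple a * M.simple c) = u := by
      rw [hu, mul_assoc (M.simple c) (M.simple a), (comm a d had).eq]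
      calc _ = M.simple c * M.simple d * (M.simple a * M.simple a) * M.simple c := by group
        _ = _ := by rw [sq, mul_one]
    have e2 : M.simple a * M.simple c * M.simple d * (M.simple c * M.simple a) = M.simple a * u * M.simple a := by
      rw [hu]; group
    rw [e1, e2]
    have h3 : (M.simple a * u) ^ 3 = 1 := by
      have : M.simple a * u = M.simple d * (M.simple a * M.simple c) * (M.simple d)⁻¹ := by
        rw [hu', inv_eq]
        calc _ = (M.simple a * M.simple d) * M.simple c * M.simple d := by group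
          _ = _ := by rw [(comm a d had).eq]; group
      rw [this, conj_pow, pow_rel a c 3 hac, mul_one, mul_inv_cancel]
    calc M.simple a = (M.simple a * u) ^ 3 * M.simple a := by rw [h3, one_mul]
      _ = _ := by rw [pow_three]; group
  refine ⟨ha, hb, ?_⟩
  have := mul_mem ha hr
  rwa [← mul_assoc, sq, one_mul] at this

open scoped Classical in
theorem d4_gen : Cfsg.Lie.coxeterD4.simple 0 ≠ Cfsg.Lie.coxeterD4.simple 2 ∧
    Subgroup.closure (({cox Cfsg.Lie.coxeterD4} : Set Cfsg.Lie.coxeterD4.Group) ∪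
    ↑(({0, 2} : Finset (Fin 4)).image Cfsg.Lie.coxeterD4.simple)) = ⊤ := by
  classical
  refine ⟨fun e => ?_, ?_⟩
  · let f : Fin 4 → Equiv.Perm (Fin 4) := ![Equiv.swap 0 1, Equiv.swap 1 2, Equiv.swap 2 3, Equiv.swap 2 3]
    have hf : Cfsg.Lie.coxeterD4.IsLiftable f :=
      (by decide +kernel : ∀ i j, (f i * f j) ^ (Cfsg.Lie.coxeterD4 i j) = 1)
    have := congrArg (Cfsg.Lie.coxeterD4.toCoxeterSystem.lift ⟨f, hf⟩) e
    rw [show Cfsg.Lie.coxeterD4.simple = Cfsg.Lie.coxeterD4.toCoxeterSystem.simple from rfl,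
      CoxeterSystem.lift_apply_simple, CoxeterSystem.lift_apply_simple] at this
    exact absurd this (by decide)
  set H := Subgroup.closure (({cox Cfsg.Lie.coxeterD4} : Set Cfsg.Lie.coxeterD4.Group) ∪
    ↑(({0, 2} : Finset (Fin 4)).image Cfsg.Lie.coxeterD4.simple))
  have hc : cox Cfsg.Lie.coxeterD4 ∈ H := Subgroup.subset_closure (Or.inl rfl)
  have h0 : Cfsg.Lie.coxeterD4.simple 0 ∈ H := Subgroup.subset_closure (Or.inr (by simp))
  have h2 : Cfsg.Lie.coxeterD4.simple 2 ∈ H := Subgroup.subset_closure (Or.inr (by simp))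
  have hp : Cfsg.Lie.coxeterD4.simple 1 * Cfsg.Lie.coxeterD4.simple 2 * Cfsg.Lie.coxeterD4.simple 3 ∈ H := by
    have := mul_mem h0 hc
    simpa [cox, List.finRange_succ, mul_assoc, sq, sq_assoc] using this
  have h1 : Cfsg.Lie.coxeterD4.simple 1 ∈ H := by
    have h := mul_mem (mul_mem h2 (mul_mem (mul_mem hp h2) (inv_mem hp))) h2
    convert h using 1
    have e23 := (comm (M := Cfsg.Lie.coxeterD4) 2 3 (by decide)).eq
    rw [mul_inv_rev, mul_inv_rev, inv_eq, inv_eq, inv_eq]
    symm
    calc _ = Cfsg.Lie.coxeterD4.simple 2 * Cfsg.Lie.coxeterD4.simple 1 * Cfsg.Lie.coxeterD4.simple 2 *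
          (Cfsg.Lie.coxeterD4.simple 3 * Cfsg.Lie.coxeterD4.simple 2) * Cfsg.Lie.coxeterD4.simple 3 *
          Cfsg.Lie.coxeterD4.simple 2 * Cfsg.Lie.coxeterD4.simple 1 * Cfsg.Lie.coxeterD4.simple 2 := by group
      _ = (Cfsg.Lie.coxeterD4.simple 2 * Cfsg.Lie.coxeterD4.simple 1 * Cfsg.Lie.coxeterD4.simple 2) *
          Cfsg.Lie.coxeterD4.simple 1 * Cfsg.Lie.coxeterD4.simple 2 := by
        rw [← e23]
        simp [mul_assoc, sq, sq_assoc]
      _ = _ := by
        rw [braid 2 1 (by decide)]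
        simp [mul_assoc, sq, sq_assoc]
  have h3 : Cfsg.Lie.coxeterD4.simple 3 ∈ H := by
    have := mul_mem (mul_mem h2 h1) hp
    simpa [mul_assoc, sq, sq_assoc] using this
  refine eq_top fun i => ?_
  fin_cases i <;> (simp only []; assumption)

open scoped Classical in
theorem f4_gen : CoxeterMatrix.F₄.simple 0 ≠ CoxeterMatrix.F₄.simple 2 ∧
    Subgroup.closure (({cox CoxeterMatrix.F₄} : Set CoxeterMatrix.F₄.Group) ∪
    ↑(({0, 2} : Finset (Fin 4)).image CoxeterMatrix.F₄.simple)) = ⊤ := by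
  classical
  refine ⟨fun e => ?_, ?_⟩
  · let f : Fin 4 → Equiv.Perm (Fin 4) := ![Equiv.swap 0 1, Equiv.swap 0 1, 1, 1]
    have hf : CoxeterMatrix.F₄.IsLiftable f :=
      (by decide +kernel : ∀ i j, (f i * f j) ^ (CoxeterMatrix.F₄ i j) = 1)
    have := congrArg (CoxeterMatrix.F₄.toCoxeterSystem.lift ⟨f, hf⟩) e
    rw [show CoxeterMatrix.F₄.simple = CoxeterMatrix.F₄.toCoxeterSystem.simple from rfl,
      CoxeterSystem.lift_apply_simple, CoxeterSystem.lift_apply_simple] at this
    exact absurd this (by decide)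
  set H := Subgroup.closure (({cox CoxeterMatrix.F₄} : Set CoxeterMatrix.F₄.Group) ∪
    ↑(({0, 2} : Finset (Fin 4)).image CoxeterMatrix.F₄.simple))
  have hc : cox CoxeterMatrix.F₄ ∈ H := Subgroup.subset_closure (Or.inl rfl)
  have h0 : CoxeterMatrix.F₄.simple 0 ∈ H := Subgroup.subset_closure (Or.inr (by simp))
  have h2 : CoxeterMatrix.F₄.simple 2 ∈ H := Subgroup.subset_closure (Or.inr (by simp))
  have h1 : CoxeterMatrix.F₄.simple 1 ∈ H :=
    mem_of_shift hc [] [2, 3] 0 1 (by decide) (by decide) (by decide) (by decide) h0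
  have h3 : CoxeterMatrix.F₄.simple 3 ∈ H := by
    have := mul_mem (mul_mem (mul_mem h2 h1) h0) hc
    simpa [cox, List.finRange_succ, mul_assoc, sq, sq_assoc] using this
  refine eq_top fun i => ?_
  fin_cases i <;> (simp only []; assumption)

theorem e6_gen : Subgroup.closure (({cox CoxeterMatrix.E₆} : Set CoxeterMatrix.E₆.Group) ∪
    ↑({CoxeterMatrix.E₆.simple 3} : Finset CoxeterMatrix.E₆.Group)) = ⊤ := by
  classical
  set H := Subgroup.closure (({cox CoxeterMatrix.E₆} : Set CoxeterMatrix.E₆.Group) ∪ ↑({CoxeterMatrix.E₆.simple 3} : Finset CoxeterMatrix.E₆.Group))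
  have hc : cox CoxeterMatrix.E₆ ∈ H := Subgroup.subset_closure (Or.inl rfl)
  have h3 : CoxeterMatrix.E₆.simple 3 ∈ H := Subgroup.subset_closure (Or.inr (by simp))
  have h4 : CoxeterMatrix.E₆.simple 4 ∈ H := mem_of_shift hc [0, 1, 2] [5] 3 4 (by decide) (by decide) (by decide) (by decide) h3
  have h5 : CoxeterMatrix.E₆.simple 5 ∈ H := mem_of_shift hc [0, 1, 2, 3] [] 4 5 (by decide) (by decide) (by decide) (by decide) h4
  have hp : CoxeterMatrix.E₆.simple 0 * CoxeterMatrix.E₆.simple 1 * CoxeterMatrix.E₆.simple 2 ∈ H := by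
    have := mul_mem hc (mul_mem (mul_mem h5 h4) h3)
    simpa [cox, List.finRange_succ, mul_assoc, sq, sq_assoc] using this
  obtain ⟨h0, h1, h2⟩ := e_branch 0 1 2 3 (by decide) (by decide) (by decide) (by decide) (by decide) hp h3
  refine eq_top fun i => ?_
  fin_cases i <;> (simp only []; assumption)

theorem e7_gen : Subgroup.closure (({cox CoxeterMatrix.E₇} : Set CoxeterMatrix.E₇.Group) ∪
    ↑({CoxeterMatrix.E₇.simple 3} : Finset CoxeterMatrix.E₇.Group)) = ⊤ := by
  classical
  set H := Subgroup.closure (({cox CoxeterMatrix.E₇} : Set CoxeterMatrix.E₇.Group) ∪ ↑({CoxeterMatrix.E₇.simple 3} : Finset CoxeterMatrix.E₇.Group))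
  have hc : cox CoxeterMatrix.E₇ ∈ H := Subgroup.subset_closure (Or.inl rfl)
  have h3 : CoxeterMatrix.E₇.simple 3 ∈ H := Subgroup.subset_closure (Or.inr (by simp))
  have h4 : CoxeterMatrix.E₇.simple 4 ∈ H := mem_of_shift hc [0, 1, 2] [5, 6] 3 4 (by decide) (by decide) (by decide) (by decide) h3
  have h5 : CoxeterMatrix.E₇.simple 5 ∈ H := mem_of_shift hc [0, 1, 2, 3] [6] 4 5 (by decide) (by decide) (by decide) (by decide) h4
  have h6 : CoxeterMatrix.E₇.simple 6 ∈ H := mem_of_shift hc [0, 1, 2, 3, 4] [] 5 6 (by decide) (by decide) (by decide) (by decide) h5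
  have hp : CoxeterMatrix.E₇.simple 0 * CoxeterMatrix.E₇.simple 1 * CoxeterMatrix.E₇.simple 2 ∈ H := by
    have := mul_mem hc (mul_mem (mul_mem (mul_mem h6 h5) h4) h3)
    simpa [cox, List.finRange_succ, mul_assoc, sq, sq_assoc] using this
  obtain ⟨h0, h1, h2⟩ := e_branch 0 1 2 3 (by decide) (by decide) (by decide) (by decide) (by decide) hp h3
  refine eq_top fun i => ?_
  fin_cases i <;> (simp only []; assumption)

theorem e8_gen : Subgroup.closure (({cox CoxeterMatrix.E₈} : Set CoxeterMatrix.E₈.Group) ∪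
    ↑({CoxeterMatrix.E₈.simple 3} : Finset CoxeterMatrix.E₈.Group)) = ⊤ := by
  classical
  set H := Subgroup.closure (({cox CoxeterMatrix.E₈} : Set CoxeterMatrix.E₈.Group) ∪ ↑({CoxeterMatrix.E₈.simple 3} : Finset CoxeterMatrix.E₈.Group))
  have hc : cox CoxeterMatrix.E₈ ∈ H := Subgroup.subset_closure (Or.inl rfl)
  have h3 : CoxeterMatrix.E₈.simple 3 ∈ H := Subgroup.subset_closure (Or.inr (by simp))
  have h4 : CoxeterMatrix.E₈.simple 4 ∈ H := mem_of_shift hc [0, 1, 2] [5, 6, 7] 3 4 (by decide) (by decide) (by decide) (by decide) h3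
  have h5 : CoxeterMatrix.E₈.simple 5 ∈ H := mem_of_shift hc [0, 1, 2, 3] [6, 7] 4 5 (by decide) (by decide) (by decide) (by decide) h4
  have h6 : CoxeterMatrix.E₈.simple 6 ∈ H := mem_of_shift hc [0, 1, 2, 3, 4] [7] 5 6 (by decide) (by decide) (by decide) (by decide) h5
  have h7 : CoxeterMatrix.E₈.simple 7 ∈ H := mem_of_shift hc [0, 1, 2, 3, 4, 5] [] 6 7 (by decide) (by decide) (by decide) (by decide) h6
  have hp : CoxeterMatrix.E₈.simple 0 * CoxeterMatrix.E₈.simple 1 * CoxeterMatrix.E₈.simple 2 ∈ H := by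
    have := mul_mem hc (mul_mem (mul_mem (mul_mem (mul_mem h7 h6) h5) h4) h3)
    simpa [cox, List.finRange_succ, mul_assoc, sq, sq_assoc] using this
  obtain ⟨h0, h1, h2⟩ := e_branch 0 1 2 3 (by decide) (by decide) (by decide) (by decide) (by decide) hp h3
  refine eq_top fun i => ?_
  fin_cases i <;> (simp only []; assumption)

/-- The Coxeter groups of types B₂, G₂, E₆, E₇, E₈ are generated by the Coxeter element `s₁ s₂ ⋯ s_l` together with one suitable reflection (a conjugate of a simple reflection); for types D₄ and F₄ the Coxeter element together with two suitable reflections suffices. -/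
theorem result (c : (Σ n : ℕ, CoxeterMatrix (Fin n)) × ℕ)
    (hc : c ∈ [(⟨2, CoxeterMatrix.B 2⟩, 1), (⟨2, CoxeterMatrix.G₂⟩, 1), (⟨4, Cfsg.Lie.coxeterD4⟩, 2), (⟨4, CoxeterMatrix.F₄⟩, 2),
      (⟨6, CoxeterMatrix.E₆⟩, 1), (⟨7, CoxeterMatrix.E₇⟩, 1), (⟨8, CoxeterMatrix.E₈⟩, 1)]) :
    ∃ T : Finset c.1.2.Group, T.card = c.2 ∧ (∀ t ∈ T, ∃ (g : c.1.2.Group) (i : Fin c.1.1), t = g * c.1.2.simple i * g⁻¹) ∧
      Subgroup.closure (({((List.finRange c.1.1).map c.1.2.simple).prod} : Set c.1.2.Group) ∪ ↑T) = ⊤ := by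
  classical
  simp only [List.mem_cons, List.not_mem_nil, or_false] at hc
  rcases hc with rfl | rfl | rfl | rfl | rfl | rfl | rfl
  · refine ⟨{(CoxeterMatrix.B 2).simple 1}, by simp, ne_of_closure {1} (by simp), eq_top fun i => ?_⟩
    have hc : cox (CoxeterMatrix.B 2) ∈ Subgroup.closure (({cox (CoxeterMatrix.B 2)} : Set _) ∪ ↑({(CoxeterMatrix.B 2).simple 1} : Finset _)) :=
      Subgroup.subset_closure (Or.inl rfl)
    have h1 : (CoxeterMatrix.B 2).simple 1 ∈ Subgroup.closure (({cox (CoxeterMatrix.B 2)} : Set _) ∪ ↑({(CoxeterMatrix.B 2).simple 1} : Finset _)) :=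
      Subgroup.subset_closure (Or.inr (by simp))
    fin_cases i
    · have := mul_mem hc h1
      simpa [cox, List.finRange_succ, mul_assoc, sq, sq_assoc] using this
    · exact h1
  · refine ⟨{CoxeterMatrix.G₂.simple 1}, by simp, ne_of_closure {1} (by simp), eq_top fun i => ?_⟩
    have hc : cox CoxeterMatrix.G₂ ∈ Subgroup.closure (({cox CoxeterMatrix.G₂} : Set _) ∪ ↑({CoxeterMatrix.G₂.simple 1} : Finset _)) :=
      Subgroup.subset_closure (Or.inl rfl)
    have h1 : CoxeterMatrix.G₂.simple 1 ∈ Subgroup.closure (({cox CoxeterMatrix.G₂} : Set _) ∪ ↑({CoxeterMatrix.G₂.simple 1} : Finset _)) :=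
      Subgroup.subset_closure (Or.inr (by simp))
    fin_cases i
    · have := mul_mem hc h1
      simpa [cox, List.finRange_succ, mul_assoc, sq, sq_assoc] using this
    · exact h1
  · obtain ⟨hne, hgen⟩ := d4_gen
    exact ⟨_, by rw [Finset.image_insert, Finset.image_singleton]; exact Finset.card_pair hne, ne_of_closure {0, 2} rfl, hgen⟩
  · obtain ⟨hne, hgen⟩ := f4_gen
    exact ⟨_, by rw [Finset.image_insert, Finset.image_singleton]; exact Finset.card_pair hne, ne_of_closure {0, 2} rfl, hgen⟩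
  · exact ⟨_, Finset.card_singleton _, ne_of_closure {3} (by simp), e6_gen⟩
  · exact ⟨_, Finset.card_singleton _, ne_of_closure {3} (by simp), e7_gen⟩
  · exact ⟨_, Finset.card_singleton _, ne_of_closure {3} (by simp), e8_gen⟩
end Cfsg.Agent.S2419
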