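import Cfsg.Statements.S2425
import Cfsg.Agent.Lib.KnownB.StValue

set_option autoImplicit false
open scoped MatrixGroups
open Cfsg

namespace Cfsg.Agent.S2425

/-- Values of the Steinberg character of `GL_n(q)` (the partition-indexed character for `ν = (1,…,1)`, of degree `q^(n(n−1)/2)`) at elements of order prime to the characteristic: if the characteristic polynomial of such an element is `∏ f^(m_f)` over distinct monic irreducible `f`, the value is `∏_f (−1)^((deg f − 1) m_f) q^(deg f · m_f (m_f − 1)/2)`. (At elements of order divisible by the characteristic the value is 0; that is not part of this statement.) -/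
theorem result {F : Type*} [Field F] [Fintype F] [DecidableEq F] {q : ℕ} (hq : Fintype.card F = q) (p : ℕ) [Fact p.Prime] [CharP F p]
    {n : ℕ} (x : GL (Fin n) F) (hx : (orderOf x).Coprime p) :
    Cfsg.unipotentCharacterGL n F (fun _ => 1) x =
      ∏ f ∈ (UniqueFactorizationMonoid.normalizedFactors (x : Matrix (Fin n) (Fin n) F).charpoly).toFinset,
        (-1 : ℂ) ^ ((f.natDegree - 1) * (UniqueFactorizationMonoid.normalizedFactors (x : Matrix (Fin n) (Fin n) F).charpoly).count f) *
          (q : ℂ) ^ (f.natDegree * (UniqueFactorizationMonoid.normalizedFactors (x : Matrix (Fin n) (Fin n) F).charpoly).count f *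
            ((UniqueFactorizationMonoid.normalizedFactors (x : Matrix (Fin n) (Fin n) F).charpoly).count f - 1) / 2) := by
  classical
  rcases n with _ | m
  · have hM : (x : Matrix (Fin 0) (Fin 0) F).charpoly = 1 :=
      (Matrix.charpoly_monic _).natDegree_eq_zero.1 (by rw [Matrix.charpoly_natDegree_eq_dim, Fintype.card_fin])
    rw [hM, UniqueFactorizationMonoid.normalizedFactors_one, Multiset.toFinset_zero, Finset.prod_empty,
      Cfsg.unipotentCharacterGL, Fintype.sum_unique, if_pos (fun i => Fin.elim0 i), Cfsg.fixedPointCharacter]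
    have hsub : Subsingleton (GL (Fin 0) F) := ⟨fun a b => Units.ext (Subsingleton.elim _ _)⟩
    have hcard : Nat.card (MulAction.fixedBy (GL (Fin 0) F ⧸
        Cfsg.parabolicGL 0 F (fun i => 1 + i.val - ((default : Equiv.Perm (Fin 0)) i).val)) x) = 1 := by
      rw [Nat.card_eq_one_iff_unique]
      refine ⟨⟨fun a b => Subtype.ext ?_⟩, ⟨⟨QuotientGroup.mk (1 : GL (Fin 0) F), ?_⟩⟩⟩
      · induction a.1 using QuotientGroup.induction_on
        induction b.1 using QuotientGroup.induction_on
        exact congrArg _ (Subsingleton.elim _ _)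
      · show x • (QuotientGroup.mk (1 : GL (Fin 0) F) : GL (Fin 0) F ⧸ _) = _
        rw [Subsingleton.elim x 1, one_smul]
    rw [hcard]
    simp
  · have hss : CfsgLib.KnownB.SSClass.SS (CfsgLib.KnownB.StValue.lin x) := by
      have hpow : ∀ j, CfsgLib.KnownB.StValue.lin (x ^ j) = CfsgLib.KnownB.StValue.lin x ^ j := by
        intro j
        induction j with
        | zero => rw [pow_zero, pow_zero, CfsgLib.KnownB.StValue.lin_one]; rfl
        | succ j ih => rw [pow_succ, pow_succ, CfsgLib.KnownB.StValue.lin_mul, ih]; rfl
      obtain ⟨N, hp, hN⟩ := FiniteField.card F p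
      have hcop : (Fintype.card F).Coprime (orderOf x) := by
        rw [hN]; exact (Nat.Coprime.pow_left _ hx.symm)
      refine ⟨Nat.totient (orderOf x), Nat.totient_pos.2 (orderOf_pos x), ?_⟩
      rw [← hpow, Nat.card_eq_fintype_card, ← pow_mod_orderOf, Nat.ModEq.pow_totient hcop, pow_mod_orderOf,
        pow_one]
    rw [CfsgLib.KnownB.StValue.steinberg_value x hss, CfsgLib.KnownB.InvMobius.val, Nat.card_eq_fintype_card, hq,
      Int.cast_prod]
    refine Finset.prod_congr rfl fun f _ => ?_
    rw [Int.cast_mul, Int.cast_pow, Int.cast_pow, Int.cast_neg, Int.cast_one, Int.cast_natCast, Nat.choose_two_right]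
    congr 2
    rw [mul_assoc, Nat.mul_div_assoc _ (Nat.even_mul_pred_self _).two_dvd]

end Cfsg.Agent.S2425
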