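import Cfsg.Statements.S2428
import Cfsg.Agent.Lib.KnownB.SL2Norm

-- import your own Cfsg.Agent.* helpers here

set_option autoImplicit false
open Cfsg

namespace Cfsg.Agent.S2428

open CfsgLib.KnownB CfsgLib.KnownB.SL2


/-- Let F be a finite field with q elements, q odd, and let d be a diagonal element of SL₂ over F whose diagonal entry a has a² ≠ 1 (such d exist exactly when q > 3). Then the centraliser of d is precisely the diagonal subgroup T; the normaliser of T has order 2(q − 1) and exactly (q + 5)/2 conjugacy classes; and every element of that normaliser outside T has square equal to −1. -/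
theorem result {F : Type*} [Field F] [Fintype F] (hodd : Odd (Fintype.card F))
    (d : Matrix.SpecialLinearGroup (Fin 2) F) (hd01 : (d : Matrix (Fin 2) (Fin 2) F) 0 1 = 0) (hd10 : (d : Matrix (Fin 2) (Fin 2) F) 1 0 = 0) (hda : (d : Matrix (Fin 2) (Fin 2) F) 0 0 ^ 2 ≠ 1) :
    (∀ g : Matrix.SpecialLinearGroup (Fin 2) F, g ∈ Subgroup.centralizer ({d} : Set (Matrix.SpecialLinearGroup (Fin 2) F)) ↔ ((g : Matrix (Fin 2) (Fin 2) F) 0 1 = 0 ∧ (g : Matrix (Fin 2) (Fin 2) F) 1 0 = 0)) ∧
    Nat.card (Subgroup.normalizer ((Subgroup.centralizer ({d} : Set (Matrix.SpecialLinearGroup (Fin 2) F))) : Set (Matrix.SpecialLinearGroup (Fin 2) F))) = 2 * (Fintype.card F - 1) ∧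
    Nat.card (ConjClasses (Subgroup.normalizer ((Subgroup.centralizer ({d} : Set (Matrix.SpecialLinearGroup (Fin 2) F))) : Set (Matrix.SpecialLinearGroup (Fin 2) F)))) = (Fintype.card F + 5) / 2 ∧
    ∀ g : Matrix.SpecialLinearGroup (Fin 2) F, g ∈ Subgroup.normalizer ((Subgroup.centralizer ({d} : Set (Matrix.SpecialLinearGroup (Fin 2) F))) : Set (Matrix.SpecialLinearGroup (Fin 2) F)) →
      g ∉ Subgroup.centralizer ({d} : Set (Matrix.SpecialLinearGroup (Fin 2) F)) → ((g * g) : Matrix (Fin 2) (Fin 2) F) = -1 := by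
  classical
  have h2 := two_ne hodd
  have hq : 3 < Fintype.card F := by
    by_contra hc
    have h1 := Fintype.one_lt_card (α := F)
    rw [Nat.odd_iff] at hodd
    have h3 : Fintype.card F = 3 := by omega
    have hd := det_entries d
    rw [hd01, zero_mul, sub_zero] at hd
    have := FiniteField.pow_card_sub_one_eq_one _ (left_ne_zero_of_mul_eq_one hd)
    rw [h3] at this
    exact hda this
  obtain ⟨D, hmem, hsq⟩ := torusData_split hodd hq
  have hdT := (hmem d).mpr ⟨hd01, hd10⟩
  have hd2 : d * d ≠ 1 := fun h => hda (by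
    rcases (mul_self_eq_one_iff_center h2).mp h with h' | h' <;> simp [h'])
  rw [D.cent d hdT hd2]
  refine ⟨hmem, D.card_norm, ?_, fun g hg hgT => ?_⟩
  · have := D.cyclic
    set N := Subgroup.normalizer ((CfsgLib.Classical.splitTorus F).range : Set (Matrix.SpecialLinearGroup (Fin 2) F))
    have hle : (CfsgLib.Classical.splitTorus F).range ≤ N := Subgroup.le_normalizer
    have hcy : IsCyclic ((CfsgLib.Classical.splitTorus F).range.subgroupOf N) :=
      isCyclic_of_surjective (Subgroup.subgroupOfEquivOfLe hle).symm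
        (Subgroup.subgroupOfEquivOfLe hle).symm.surjective
    rw [card_conjClasses_inverting ((CfsgLib.Classical.splitTorus F).range.subgroupOf N)
      (n := Fintype.card F - 1)
      ((Nat.card_congr (Subgroup.subgroupOfEquivOfLe hle).toEquiv).trans D.card)
      (by rw [Nat.odd_iff] at hodd; omega) D.card_norm
      (fun x hx a ha => Subtype.ext ((D.inv x x.2 hx).1 a ha))]
    rw [Nat.odd_iff] at hodd
    omega
  · simpa using hsq g hg hgT

end Cfsg.Agent.S2428
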