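import Cfsg.Statements.S2429
import Cfsg.Agent.Lib.KnownB.SL2Norm

-- import your own Cfsg.Agent.* helpers here

set_option autoImplicit false
open Cfsg

namespace Cfsg.Agent.S2429

open CfsgLib.KnownB CfsgLib.KnownB.SL2


/-- Let F be a finite field with q elements, q odd. Then SL₂ over F contains a cyclic subgroup T′ of order q + 1 (a non-split torus) with the following properties: T′ is its own centraliser, and indeed the centraliser of each element of T′ other than 1 and −1 is exactly T′; every element of SL₂ having no eigenvector in F² is conjugate to an element of T′; the normaliser of T′ has order 2(q + 1) and exactly (q + 7)/2 conjugacy classes; and every element of that normaliser outside T′ has square −1. -/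
theorem result {F : Type*} [Field F] [Fintype F] (hodd : Odd (Fintype.card F)) :
    ∃ T' : Subgroup (Matrix.SpecialLinearGroup (Fin 2) F), IsCyclic T' ∧ Nat.card T' = Fintype.card F + 1 ∧
      Subgroup.centralizer ((T' : Set (Matrix.SpecialLinearGroup (Fin 2) F))) = T' ∧
      (∀ g : Matrix.SpecialLinearGroup (Fin 2) F, g ∈ T' → (g : Matrix (Fin 2) (Fin 2) F) ≠ 1 → (g : Matrix (Fin 2) (Fin 2) F) ≠ -1 → Subgroup.centralizer ({g} : Set (Matrix.SpecialLinearGroup (Fin 2) F)) = T') ∧
      (∀ g : Matrix.SpecialLinearGroup (Fin 2) F, (∀ (c : F) (v : Fin 2 → F), v ≠ 0 → (g : Matrix (Fin 2) (Fin 2) F).mulVec v ≠ c • v) → ∃ h : Matrix.SpecialLinearGroup (Fin 2) F, h * g * h⁻¹ ∈ T') ∧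
      Nat.card (Subgroup.normalizer (T' : Set (Matrix.SpecialLinearGroup (Fin 2) F))) = 2 * (Fintype.card F + 1) ∧
      Nat.card (ConjClasses (Subgroup.normalizer (T' : Set (Matrix.SpecialLinearGroup (Fin 2) F)))) = (Fintype.card F + 7) / 2 ∧
      ∀ g : Matrix.SpecialLinearGroup (Fin 2) F, g ∈ Subgroup.normalizer (T' : Set (Matrix.SpecialLinearGroup (Fin 2) F)) → g ∉ T' → ((g * g) : Matrix (Fin 2) (Fin 2) F) = -1 := by
  classical
  have h2 := two_ne hodd
  obtain ⟨δ, hδ⟩ := FiniteField.exists_nonsquare (ringChar_ne_two hodd)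
  obtain ⟨D, hmem, hsq⟩ := torusData_nonsplit hodd hδ
  set T := CfsgLib.Classical.nsTorus (0 : F) (-δ)
  have := D.cyclic
  obtain ⟨g₁, hg₁, hg₁2⟩ : ∃ g ∈ T, g * g ≠ 1 := by
    by_contra hc
    push Not at hc
    have := @card_sq_one_cyclic T _ _ D.cyclic (by rw [D.card]; exact hodd.add_one.two_dvd)
    rw [Nat.card_congr (Equiv.subtypeUnivEquiv fun a : T => Subtype.ext (hc a a.2)), D.card] at this
    have := Fintype.one_lt_card (α := F)
    omega
  refine ⟨T, D.cyclic, D.card, ?_, fun g hg h1 h1' => D.cent g hg fun h => ?_, fun g hg => ?_,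
    D.card_norm, ?_, fun g hg hgT => by simpa using hsq g hg hgT⟩
  · refine le_antisymm (fun x hx => ?_) fun a ha => ?_
    · rw [← D.cent g₁ hg₁ hg₁2]
      exact Subgroup.centralizer_le (Set.singleton_subset_iff.mpr hg₁) hx
    · rw [Subgroup.mem_centralizer_iff]
      intro b hb
      let := IsCyclic.commGroup (α := T)
      exact congrArg Subtype.val (mul_comm (⟨b, hb⟩ : T) ⟨a, ha⟩)
  · rcases (mul_self_eq_one_iff_center h2).mp h with h' | h'
    · exact h1 h'
    · exact h1' h'
  · have hns : ¬ IsSquare ((g : Matrix (Fin 2) (Fin 2) F).trace ^ 2 - 4) := by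
      rintro ⟨r, hr⟩
      obtain ⟨v, hv, he⟩ := Matrix.exists_mulVec_eq_zero_iff.mpr
        (show ((g : Matrix (Fin 2) (Fin 2) F) -
          ((((g : Matrix (Fin 2) (Fin 2) F).trace + r) / 2) • 1)).det = 0 by
          have hd := det_entries g
          simp [Matrix.det_fin_two, Matrix.trace_fin_two] at hr ⊢
          field_simp
          linear_combination (4 : F) * hd - hr)
      refine hg (((g : Matrix (Fin 2) (Fin 2) F).trace + r) / 2) v hv ?_
      rw [Matrix.sub_mulVec, Matrix.smul_mulVec, Matrix.one_mulVec, sub_eq_zero] at he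
      exact he
    set t := (g : Matrix (Fin 2) (Fin 2) F).trace
    obtain ⟨r, hr⟩ : IsSquare ((t ^ 2 - 4) * δ) := by
      have h0 : t ^ 2 - 4 ≠ 0 := fun h => hns (h ▸ IsSquare.zero)
      have hδ0 : δ ≠ 0 := fun h => hδ (h ▸ IsSquare.zero)
      rw [← quadraticChar_one_iff_isSquare (mul_ne_zero h0 hδ0), map_mul,
        quadraticChar_neg_one_iff_not_isSquare.mpr hns,
        quadraticChar_neg_one_iff_not_isSquare.mpr hδ]
      norm_num
    have hδ0 : δ ≠ 0 := fun h => hδ (h ▸ IsSquare.zero)
    let s : Matrix.SpecialLinearGroup (Fin 2) F :=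
      ⟨!![t / 2, δ * (r / (2 * δ)); r / (2 * δ), t / 2], by
        rw [Matrix.det_fin_two_of]
        field_simp
        linear_combination hr⟩
    have hsT : s ∈ T := (hmem s).mpr ⟨rfl, rfl⟩
    have hgn : GL2.NonScalar (g : Matrix (Fin 2) (Fin 2) F) := fun a ha => hg a ![1, 0]
      (fun h => one_ne_zero (congrFun h 0)) (by rw [ha, Matrix.smul_mulVec, Matrix.one_mulVec])
    have hr0 : r ≠ 0 := by
      intro h
      rw [h, mul_zero, mul_eq_zero] at hr
      exact hns ((hr.resolve_right hδ0) ▸ IsSquare.zero)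
    have hst : (s : Matrix (Fin 2) (Fin 2) F).trace = t := by
      simp [s, Matrix.trace_fin_two]
      field_simp
      ring
    have hc : IsConj g s := isConj_of_isConj_gl
      (GL2.isConj_of_trace_det (g := ι g) (h := ι s) hgn
        ((GL2.nonScalar_iff _).mpr (Or.inr (Or.inl (by
          show r / (2 * δ) ≠ 0
          exact div_ne_zero hr0 (mul_ne_zero h2 hδ0)))))
        hst.symm ((det_ι g).trans (det_ι s).symm))
      (Or.inl fun h => hns (by rw [h, sub_self]; exact IsSquare.zero))
    obtain ⟨y, hy⟩ := isConj_iff.mp hc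
    exact ⟨y, hy ▸ hsT⟩
  · set N := Subgroup.normalizer (T : Set (Matrix.SpecialLinearGroup (Fin 2) F))
    have hle : T ≤ N := Subgroup.le_normalizer
    have hcy : IsCyclic (T.subgroupOf N) :=
      isCyclic_of_surjective (Subgroup.subgroupOfEquivOfLe hle).symm
        (Subgroup.subgroupOfEquivOfLe hle).symm.surjective
    rw [card_conjClasses_inverting (T.subgroupOf N) (n := Fintype.card F + 1)
      ((Nat.card_congr (Subgroup.subgroupOfEquivOfLe hle).toEquiv).trans D.card)
      hodd.add_one.two_dvd D.card_norm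
      (fun x hx a ha => Subtype.ext ((D.inv x x.2 hx).1 a ha))]
    rw [Nat.odd_iff] at hodd
    omega

end Cfsg.Agent.S2429
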