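import Cfsg.Statements.S2434
import Cfsg.Agent.Lib.KnownB.SL2Tori
import Cfsg.Agent.S2322

-- import your own Cfsg.Agent.* helpers here

set_option autoImplicit false
open Cfsg

namespace Cfsg.Agent.S2434

open CfsgLib.KnownB.GL2 CfsgLib.KnownB.SL2

set_option maxHeartbeats 1000000

/-- Let F be a finite field with q elements, q odd, and C a cyclic subgroup of order q + 1 of SL₂ over F (a non-split torus; it contains the centre). For every homomorphism θ from C to the non-zero complex numbers with θ² ≠ 1 there is an irreducible complex character χ of degree q − 1 such that χ(c) = −θ(c) − θ(c)⁻¹ for every non-central c in C, χ(zg) = θ(z)χ(g) for central z in C, χ vanishes at diagonal elements with entry a, a² ≠ 1, and χ takes the value −1 at every upper unitriangular element other than 1. Conversely every irreducible character of degree q − 1 has, for some such θ, the values −θ(c) − θ(c)⁻¹ at the non-central elements c of C (for q ≥ 5 these are exactly the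 cuspidal characters of degree q − 1). -/
theorem result {F : Type*} [Field F] [Fintype F] (hodd : Odd (Fintype.card F))
    (C : Subgroup (Matrix.SpecialLinearGroup (Fin 2) F)) (hC : IsCyclic C) (hcard : Nat.card C = Fintype.card F + 1) :
    (∀ θ : C →* ℂˣ, (∃ c : C, θ c ^ 2 ≠ 1) →
      ∃ χ : Matrix.SpecialLinearGroup (Fin 2) F → ℂ, Cfsg.IsIrrCharacter (Matrix.SpecialLinearGroup (Fin 2) F) χ ∧ χ 1 = (Fintype.card F : ℂ) - 1 ∧
        (∀ c : C, (c : Matrix.SpecialLinearGroup (Fin 2) F) ∉ Subgroup.center (Matrix.SpecialLinearGroup (Fin 2) F) → χ c = -((θ c).val + (θ c)⁻¹.val)) ∧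
        (∀ c : C, (c : Matrix.SpecialLinearGroup (Fin 2) F) ∈ Subgroup.center (Matrix.SpecialLinearGroup (Fin 2) F) → ∀ g : Matrix.SpecialLinearGroup (Fin 2) F, χ ((c : Matrix.SpecialLinearGroup (Fin 2) F) * g) = (θ c).val * χ g) ∧
        (∀ g : Matrix.SpecialLinearGroup (Fin 2) F, (g : Matrix (Fin 2) (Fin 2) F) 0 1 = 0 → (g : Matrix (Fin 2) (Fin 2) F) 1 0 = 0 → (g : Matrix (Fin 2) (Fin 2) F) 0 0 ^ 2 ≠ 1 → χ g = 0) ∧
        (∀ g : Matrix.SpecialLinearGroup (Fin 2) F, (g : Matrix (Fin 2) (Fin 2) F) 1 0 = 0 → (g : Matrix (Fin 2) (Fin 2) F) 0 0 = 1 → (g : Matrix (Fin 2) (Fin 2) F) 1 1 = 1 → (g : Matrix (Fin 2) (Fin 2) F) 0 1 ≠ 0 → χ g = -1)) ∧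
    (∀ χ : Matrix.SpecialLinearGroup (Fin 2) F → ℂ, Cfsg.IsIrrCharacter (Matrix.SpecialLinearGroup (Fin 2) F) χ → χ 1 = (Fintype.card F : ℂ) - 1 →
      ∃ θ : C →* ℂˣ, (∃ c : C, θ c ^ 2 ≠ 1) ∧
        ∀ c : C, (c : Matrix.SpecialLinearGroup (Fin 2) F) ∉ Subgroup.center (Matrix.SpecialLinearGroup (Fin 2) F) → χ c = -((θ c).val + (θ c)⁻¹.val)) := by
  classical
  obtain ⟨E, _, _, _, _⟩ := exists_quad F
  obtain ⟨g, u, hg, hgo, huo, hun, hconj⟩ := exists_torus_param E hodd C hC hcard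
  have huk : ∀ k : ℕ, Algebra.norm F ((u ^ k : Eˣ) : E) = 1 := fun k => by
    rw [Units.val_pow_eq_pow_val, map_pow, hun, one_pow]
  have hdata : ∀ k : ℕ,
      (((g ^ k : C) : Matrix.SpecialLinearGroup (Fin 2) F) : Matrix (Fin 2) (Fin 2) F).trace =
          Algebra.trace F E ((u ^ k : Eˣ) : E) ∧
      (((g ^ k : C) : Matrix.SpecialLinearGroup (Fin 2) F) ∉
          Subgroup.center (Matrix.SpecialLinearGroup (Fin 2) F) →
        ∀ a, algebraMap F E a ≠ ((u ^ k : Eˣ) : E)) ∧
      (((g ^ k : C) : Matrix.SpecialLinearGroup (Fin 2) F) ∈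
          Subgroup.center (Matrix.SpecialLinearGroup (Fin 2) F) →
        ∃ a : F, ((u ^ k : Eˣ) : E) = algebraMap F E a ∧
          (((g ^ k : C) : Matrix.SpecialLinearGroup (Fin 2) F) : Matrix (Fin 2) (Fin 2) F) =
            a • 1) := by
    intro k
    have h := hconj k
    refine ⟨by rw [← trace_emb, ← (isConj_trace_det h).1, coe_ι], fun hnc a ha => hnc ?_,
      fun hce => ?_⟩
    · have hs := (emb_eq_scalar_iff (F := F) (E := E) (u ^ k) a).mpr ha
      obtain ⟨y, hy⟩ := isConj_iff.mp h.symm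
      rw [scalar_conj hs] at hy
      exact mem_center_iff_scalar.mpr ⟨a, by rw [← coe_ι, ← hy, hs]⟩
    · obtain ⟨a, ha⟩ := mem_center_iff_scalar.mp hce
      obtain ⟨y, hy⟩ := isConj_iff.mp h
      rw [scalar_conj (by rw [coe_ι]; exact ha)] at hy
      refine ⟨a, ((emb_eq_scalar_iff (F := F) (E := E) (u ^ k) a).mp ?_).symm, ha⟩
      rw [← hy, coe_ι, ha]
  have ext' : ∀ ν : MulChar E ℂ, ∀ θ : C →* ℂˣ, ν (u : E) = (θ g : ℂ) →
      ∀ k : ℕ, ν ((u ^ k : Eˣ) : E) = (θ (g ^ k) : ℂ) := by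
    intro ν θ h k
    rw [Units.val_pow_eq_pow_val, map_pow, h, map_pow, Units.val_pow_eq_pow_val]
  refine ⟨fun θ hθ => ?_, fun χ hχ hd => ?_⟩
  · -- extend θ to Eˣ
    have hψ : orderOf (θ g) ∣ orderOf (⟨u, Subgroup.mem_zpowers u⟩ : Subgroup.zpowers u) := by
      rw [Subgroup.orderOf_mk, huo, ← hgo]
      exact orderOf_map_dvd θ g
    let ψ : Subgroup.zpowers u →* ℂˣ := monoidHomOfForallMemZpowers
      (g := (⟨u, Subgroup.mem_zpowers u⟩ : Subgroup.zpowers u)) (fun y => by
        obtain ⟨n, hn⟩ := Subgroup.mem_zpowers_iff.mp y.2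
        exact Subgroup.mem_zpowers_iff.mpr ⟨n, Subtype.ext (by simpa using hn)⟩) hψ
    obtain ⟨Φ, hΦ⟩ := MonoidHom.domRestrict_surjective (M := ℂ) (Subgroup.zpowers u) ψ
    let ν : MulChar E ℂ := MulChar.ofUnitHom Φ
    have hνu : ν (u : E) = (θ g : ℂ) := by
      rw [MulChar.ofUnitHom_coe]
      have := DFunLike.congr_fun hΦ (⟨u, Subgroup.mem_zpowers u⟩ : Subgroup.zpowers u)
      rw [monoidHomOfForallMemZpowers_apply_gen] at this
      exact congrArg Units.val this
    have hk := ext' ν θ hνu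
    have hν2 : ¬ TrivC F (ν ^ 2) := by
      intro h
      obtain ⟨c, hc⟩ := hθ
      obtain ⟨k, rfl⟩ := hg c
      apply hc
      refine Units.ext ?_
      rw [Units.val_pow_eq_pow_val, ← hk k, Units.val_one, ← MulChar.pow_apply' _ two_ne_zero]
      exact h _ (huk k)
    refine ⟨CfsgLib.KnownB.SL2.C (F := F) ν, isIrr_C hν2, C_one ν, fun c hc => ?_, fun c hc => ?_,
      fun s h01 h10 h => ?_, fun s h10 h00 h11 h01 => ?_⟩
    · obtain ⟨k, hk'⟩ := hg c
      simp only at hk'
      subst hk'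
      obtain ⟨ht, hx, -⟩ := hdata k
      have hi : ν ((u ^ k : Eˣ) : E)⁻¹ = (θ (g ^ k))⁻¹.val := by
        rw [Units.val_inv_eq_inv_val, ← hk k]
        refine eq_inv_of_mul_eq_one_left ?_
        rw [← map_mul, inv_mul_cancel₀ (Units.ne_zero _), map_one]
      rw [C_ell ν (hx hc) (huk k) ht, hi, hk k]
    · intro s
      obtain ⟨k, rfl⟩ := hg c
      obtain ⟨-, -, hx⟩ := hdata k
      obtain ⟨a, ha, hs⟩ := hx hc
      have h := irr_mul_central (isIrr_C hν2) hc s
      rw [C_one, C_scalar ν hs, ← ha, hk k] at h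
      have hq1 := (q_facts (F := F)).2.1
      apply mul_left_cancel₀ hq1
      linear_combination h
    · obtain ⟨h1, ht, hne⟩ := diag_type h01 h10
      exact C_split ν h1 (hne h) ht
    · obtain ⟨hn, ha, ht⟩ := upper_type h10 (h00.trans h11.symm) h01
      rw [h00] at ha ht
      rw [C_double ν hn ha ht]; simp
  · have hq3 : 3 ≤ Fintype.card F := by
      have := Fintype.one_lt_card (α := F)
      rw [Nat.odd_iff] at hodd
      omega
    obtain ⟨μ, hμ, hval⟩ : ∃ μ : MulChar E ℂ, ¬ TrivC F (μ ^ 2) ∧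
        ∀ c : C, (c : Matrix.SpecialLinearGroup (Fin 2) F) ∉
          Subgroup.center (Matrix.SpecialLinearGroup (Fin 2) F) →
            χ c = CfsgLib.KnownB.SL2.C (F := F) μ c := by
      by_cases hq : 4 ≤ Fintype.card F
      · obtain ⟨μ, hμ, rfl⟩ := irr_deg_q_sub_one E hq hχ hd
        exact ⟨μ, hμ, fun c _ => rfl⟩
      · obtain ⟨D⟩ := exists_oddData E hodd
        have hn := (counts_odd hodd D).2.1
        obtain ⟨φ, μ, hμ, rfl⟩ : (Cset F E).Nonempty :=
          Set.nonempty_of_ncard_ne_zero (by omega)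
        refine ⟨μ, hμ, fun c hc => ?_⟩
        obtain ⟨k, rfl⟩ := hg c
        obtain ⟨ht, hx, -⟩ := hdata k
        have hq' : Fintype.card F = 3 := by omega
        have e : (Fintype.card F : ℂ) - 1 = (((Fintype.card F + 1) / 2 : ℕ) : ℂ) := by
          rw [hq']; norm_num
        have hne := noEig_of_ell (hx hc) (huk k) ht
        rw [(Cfsg.Agent.S2322.result hodd χ hχ _).2 (Or.inr (hd.trans e)) hne,
          (Cfsg.Agent.S2322.result hodd _ (isIrr_C hμ) _).2
            (Or.inr ((C_one μ).trans e)) hne]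
    have hθ0 : orderOf (Units.map (μ : E →* ℂ) u) ∣ orderOf g := by
      rw [hgo, ← huo]; exact orderOf_map_dvd _ u
    let θ : C →* ℂˣ := monoidHomOfForallMemZpowers (fun y => by
      obtain ⟨n, hn⟩ := hg y
      exact ⟨(n : ℤ), by simpa using hn⟩) hθ0
    have hθg : μ (u : E) = (θ g : ℂ) := by
      simp only [θ, monoidHomOfForallMemZpowers_apply_gen]
      rfl
    have hk := ext' μ θ hθg
    refine ⟨θ, ?_, fun c hc => ?_⟩
    · by_contra hall
      push Not at hall
      apply hμ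
      intro x hx
      have hxu : x ^ (Fintype.card F + 1) = 1 := by
        rw [pow_succ', ← algebraMap_N (F := F), hx, map_one]
      have hprim : IsPrimitiveRoot (u : E) (Fintype.card F + 1) := by
        rw [← huo, ← orderOf_units]; exact IsPrimitiveRoot.orderOf _
      have : NeZero (Fintype.card F + 1) := ⟨Nat.succ_ne_zero _⟩
      obtain ⟨i, -, rfl⟩ := hprim.eq_pow_of_pow_eq_one hxu
      rw [MulChar.pow_apply' _ two_ne_zero, ← Units.val_pow_eq_pow_val, hk i,
        ← Units.val_pow_eq_pow_val, hall, Units.val_one]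
    · obtain ⟨k, hk'⟩ := hg c
      simp only at hk'
      subst hk'
      obtain ⟨ht, hx, -⟩ := hdata k
      have hi : μ ((u ^ k : Eˣ) : E)⁻¹ = (θ (g ^ k))⁻¹.val := by
        rw [Units.val_inv_eq_inv_val, ← hk k]
        refine eq_inv_of_mul_eq_one_left ?_
        rw [← map_mul, inv_mul_cancel₀ (Units.ne_zero _), map_one]
      rw [hval _ hc, C_ell μ (hx hc) (huk k) ht, hi, hk k]

end Cfsg.Agent.S2434
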