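import Cfsg.Statements.S2435
import Cfsg.Agent.Lib.KnownB.SL2Deg

-- import your own Cfsg.Agent.* helpers here

set_option autoImplicit false
open Cfsg

namespace Cfsg.Agent.S2435

open CfsgLib.KnownB.GL2 CfsgLib.KnownB.SL2

/-- Let F be a finite field with q elements, q odd and q ≥ 5, and χ an irreducible complex character of SL₂ over F. If χ has degree (q + 1)/2, then at a diagonal element with entry a, a² ≠ 1, χ takes the value 1 when a is a square in F and −1 otherwise. If χ has degree (q − 1)/2, then at an element g with no eigenvector in F² (so g has order dividing q + 1), χ takes the value −1 when g raised to the power (q + 1)/2 is the identity and the value 1 otherwise. -/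
theorem result {F : Type*} [Field F] [Fintype F] (hodd : Odd (Fintype.card F)) (hq : 5 ≤ Fintype.card F)
    (χ : Matrix.SpecialLinearGroup (Fin 2) F → ℂ) (hχ : Cfsg.IsIrrCharacter (Matrix.SpecialLinearGroup (Fin 2) F) χ) (g : Matrix.SpecialLinearGroup (Fin 2) F) :
    (χ 1 = (((Fintype.card F + 1) / 2 : ℕ) : ℂ) → (g : Matrix (Fin 2) (Fin 2) F) 0 1 = 0 → (g : Matrix (Fin 2) (Fin 2) F) 1 0 = 0 → (g : Matrix (Fin 2) (Fin 2) F) 0 0 ^ 2 ≠ 1 →
      (IsSquare ((g : Matrix (Fin 2) (Fin 2) F) 0 0) → χ g = 1) ∧ (¬ IsSquare ((g : Matrix (Fin 2) (Fin 2) F) 0 0) → χ g = -1)) ∧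
    (χ 1 = (((Fintype.card F - 1) / 2 : ℕ) : ℂ) → (∀ (c : F) (v : Fin 2 → F), v ≠ 0 → (g : Matrix (Fin 2) (Fin 2) F).mulVec v ≠ c • v) →
      (((g ^ ((Fintype.card F + 1) / 2)) : Matrix (Fin 2) (Fin 2) F) = 1 → χ g = -1) ∧ (((g ^ ((Fintype.card F + 1) / 2)) : Matrix (Fin 2) (Fin 2) F) ≠ 1 → χ g = 1)) := by
  classical
  obtain ⟨E, _, _, _, _⟩ := exists_quad F
  obtain ⟨D⟩ := exists_oddData E hodd
  refine ⟨fun hd h01 h10 h => ?_, fun hd h => ?_⟩
  · obtain ⟨h1, ht, hne⟩ := diag_type h01 h10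
    have hc := isConj_outer_split D.ε h1 (hne h) ht
    have ha : (g : Matrix (Fin 2) (Fin 2) F) 0 0 ≠ 0 := left_ne_zero_of_mul_eq_one h1
    have hb : (g : Matrix (Fin 2) (Fin 2) F) 1 1 ≠ 0 := right_ne_zero_of_mul_eq_one h1
    have hab : sgnC F ((g : Matrix (Fin 2) (Fin 2) F) 1 1) =
        sgnC F ((g : Matrix (Fin 2) (Fin 2) F) 0 0) := by
      have hm : sgnC F ((g : Matrix (Fin 2) (Fin 2) F) 0 0) *
          sgnC F ((g : Matrix (Fin 2) (Fin 2) F) 1 1) = 1 := by rw [← map_mul, h1, map_one]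
      by_cases hs : IsSquare ((g : Matrix (Fin 2) (Fin 2) F) 0 0)
      · rw [(sgnC_apply ha).1 hs] at hm ⊢; linear_combination hm
      · rw [(sgnC_apply ha).2 hs] at hm ⊢; linear_combination -hm
    have hval : χ g = sgnC F ((g : Matrix (Fin 2) (Fin 2) F) 0 0) := by
      rcases D.deg_half_plus hodd hq hχ hd with rfl | rfl
      · rw [(D.hP.one_apply hc).1, P_split _ h1 (hne h) ht, hab]; ring
      · rw [(D.hP.one_apply hc).2, P_split _ h1 (hne h) ht, hab]; ring
    rw [hval]
    exact sgnC_apply ha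
  · obtain ⟨x, hx, hn, ht⟩ := ell_type E h
    have hc := isConj_outer_ell D.ε hx hn ht
    have hx0 := ne_zero_of_norm_one hn
    obtain ⟨v1, v2⟩ := nu0_apply hodd D.hν D.hν2 hn
    have hinv : D.ν x⁻¹ = D.ν x := by
      have : D.ν x * D.ν x⁻¹ = 1 := by rw [← map_mul, mul_inv_cancel₀ hx0, map_one]
      by_cases hp : x ^ ((Fintype.card F + 1) / 2) = 1
      · rw [v1 hp] at this ⊢; linear_combination this
      · rw [v2 hp] at this ⊢; linear_combination -this
    have hval : χ g = -D.ν x := by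
      rcases D.deg_half_minus hodd hq hχ hd with rfl | rfl
      · rw [(D.hC.one_apply hc).1, C_ell _ hx hn ht, hinv]; ring
      · rw [(D.hC.one_apply hc).2, C_ell _ hx hn ht, hinv]; ring
    have hiff : (((g ^ ((Fintype.card F + 1) / 2)) : Matrix (Fin 2) (Fin 2) F) = 1) ↔
        x ^ ((Fintype.card F + 1) / 2) = 1 := by
      have hconj : IsConj (ι g) (emb F E (Units.mk0 x hx0)) := by
        refine isConj_of_trace_det ?_ ((nonScalar_emb_iff _).mpr hx) ?_ ?_
        · exact (centralizer_ell hx ht ((det_ι g).trans hn.symm)).1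
        · rw [trace_emb]; exact ht
        · rw [det_emb, Units.val_mk0, hn]; exact det_ι g
      obtain ⟨c, hcc⟩ := isConj_iff.mp hconj
      have e1 : x ^ ((Fintype.card F + 1) / 2) = 1 ↔
          (ι g) ^ ((Fintype.card F + 1) / 2) = 1 := by
        rw [← conj_eq_one_iff (a := c), ← conj_pow, hcc, ← map_pow,
          map_eq_one_iff _ emb_injective, Units.ext_iff, Units.val_pow_eq_pow_val, Units.val_mk0,
          Units.val_one]
      rw [e1, Units.ext_iff, Units.val_pow_eq_pow_val, Units.val_one, coe_ι]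
    rw [hval]
    exact ⟨fun hp => by rw [v1 (hiff.mp hp)],
      fun hp => by rw [v2 (fun h' => hp (hiff.mpr h'))]; ring⟩

end Cfsg.Agent.S2435
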