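import Cfsg.Statements.S2437
import Cfsg.Agent.Lib.KnownB.SL2Char

-- import your own Cfsg.Agent.* helpers here

set_option autoImplicit false
open Cfsg

namespace Cfsg.Agent.S2437

open CfsgLib.KnownB.GL2 CfsgLib.KnownB.SL2

/-- Over a finite field F with q elements, q odd, the upper triangular subgroup of SL₂ (a Borel subgroup, of order q(q − 1)) has exactly q + 3 conjugacy classes. -/
theorem result {F : Type*} [Field F] [Fintype F] (hodd : Odd (Fintype.card F)) :
    Nat.card (ConjClasses ((Cfsg.upperTriangularGL 2 F).comap Matrix.SpecialLinearGroup.toGL)) = Fintype.card F + 3 := by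
  classical
  have h2 : (2 : F) ≠ 0 := by
    refine Ring.two_ne_zero fun hr => ?_
    have := FiniteField.even_card_iff_char_two.mp hr
    rw [Nat.odd_iff] at hodd
    omega
  set B := (Cfsg.upperTriangularGL 2 F).comap
    (Matrix.SpecialLinearGroup.toGL (n := Fin 2) (R := F)) with hB
  have hbij := ut_bijective (F := F)
  set Z : Fˣ → F := fun a => (a : F) - ((a⁻¹ : Fˣ) : F) with hZ
  have hcomm : ∀ p r : Fˣ × F, ut p * ut r = ut r * ut p ↔ r.2 * Z p.1 = p.2 * Z r.1 := by
    rintro ⟨a, n⟩ ⟨b, m⟩
    have hinj : Function.Injective (fun k : Matrix.SpecialLinearGroup (Fin 2) F =>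
        (k : Matrix (Fin 2) (Fin 2) F)) := fun _ _ h => Subtype.ext h
    rw [Subtype.ext_iff, ← hinj.eq_iff, Subgroup.coe_mul, Subgroup.coe_mul]
    simp only [Matrix.SpecialLinearGroup.coe_mul]
    show (!![(a : F), n; 0, ((a⁻¹ : Fˣ) : F)] : Matrix (Fin 2) (Fin 2) F) *
        !![(b : F), m; 0, ((b⁻¹ : Fˣ) : F)] =
      !![(b : F), m; 0, ((b⁻¹ : Fˣ) : F)] * !![(a : F), n; 0, ((a⁻¹ : Fˣ) : F)] ↔ _
    simp only [hZ]
    constructor
    · intro h
      have h01 := congrFun (congrFun h 0) 1
      simp [Matrix.mul_apply, Fin.sum_univ_two] at h01 ⊢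
      linear_combination h01
    · intro h
      ext i j
      fin_cases i <;> fin_cases j <;> simp [Matrix.mul_apply, Fin.sum_univ_two, mul_comm]
      simp at h
      linear_combination h
  -- the number of solutions of a homogeneous linear equation in two unknowns
  have hlin : ∀ A C : F, (Finset.univ.filter fun x : F × F => x.2 * A = x.1 * C).card =
      if A = 0 ∧ C = 0 then Fintype.card F * Fintype.card F else Fintype.card F := by
    intro A C
    split_ifs with h
    · rw [Finset.filter_true_of_mem (fun x _ => by rw [h.1, h.2, mul_zero, mul_zero]),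
        Finset.card_univ, Fintype.card_prod]
    · by_cases hA : A = 0
      · have hC : C ≠ 0 := fun hC => h ⟨hA, hC⟩
        rw [show (Finset.univ.filter fun x : F × F => x.2 * A = x.1 * C) =
          Finset.univ.image (fun m : F => ((0 : F), m)) from ?_,
          Finset.card_image_of_injective _ (fun x y hxy => by simpa using hxy), Finset.card_univ]
        ext ⟨x, y⟩
        simp only [Finset.mem_filter, Finset.mem_univ, true_and, Finset.mem_image, Prod.mk.injEq,
          hA, mul_zero]
        constructor
        · intro hx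
          exact ⟨y, ((mul_eq_zero.mp hx.symm).resolve_right hC).symm, rfl⟩
        · rintro ⟨m, rfl, rfl⟩; rw [zero_mul]
      · rw [show (Finset.univ.filter fun x : F × F => x.2 * A = x.1 * C) =
          Finset.univ.image (fun n : F => (n, n * C / A)) from ?_,
          Finset.card_image_of_injective _ (fun x y hxy => congrArg Prod.fst hxy),
          Finset.card_univ]
        ext ⟨x, y⟩
        simp only [Finset.mem_filter, Finset.mem_univ, true_and, Finset.mem_image, Prod.mk.injEq]
        constructor
        · intro hx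
          exact ⟨x, rfl, by rw [← hx]; field_simp⟩
        · rintro ⟨m, rfl, rfl⟩; field_simp
  have hZero : (Finset.univ.filter fun a : Fˣ => Z a = 0).card = 2 := by
    rw [show (Finset.univ.filter fun a : Fˣ => Z a = 0) = {1, -1} from ?_,
      Finset.card_pair (fun h => h2 (by
        have h' := congrArg Units.val h
        simp at h'
        linear_combination h'))]
    ext a
    simp only [Finset.mem_filter, Finset.mem_univ, true_and, Finset.mem_insert,
      Finset.mem_singleton, hZ, sub_eq_zero]
    rw [Units.val_inj, eq_inv_iff_mul_eq_one]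
    constructor
    · intro h
      have h' : (a : F) * (a : F) = 1 := by rw [← Units.val_mul, h, Units.val_one]
      rcases mul_self_eq_one_iff.mp h' with h1 | h1
      · exact Or.inl (Units.ext h1)
      · exact Or.inr (Units.ext (by simpa using h1))
    · rintro (rfl | rfl) <;> simp
  have hpairs : Nat.card {p : B × B // Commute p.1 p.2} =
      Fintype.card F * (Fintype.card F - 1) * (Fintype.card F + 3) := by
    rw [Nat.card_congr (((Equiv.ofBijective _ hbij).prodCongr
      (Equiv.ofBijective _ hbij)).subtypeEquiv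
      (p := fun p : (Fˣ × F) × (Fˣ × F) => p.2.2 * Z p.1.1 = p.1.2 * Z p.2.1)
      (fun p => (hcomm p.1 p.2).symm)).symm, Nat.card_eq_fintype_card, Fintype.card_subtype]
    have e : (Finset.univ.filter fun p : (Fˣ × F) × (Fˣ × F) =>
        p.2.2 * Z p.1.1 = p.1.2 * Z p.2.1).card =
        ((Finset.univ : Finset (Fˣ × Fˣ)).sigma fun ab =>
          Finset.univ.filter fun x : F × F => x.2 * Z ab.1 = x.1 * Z ab.2).card := by
      refine Finset.card_bij' (fun p _ => ⟨(p.1.1, p.2.1), (p.1.2, p.2.2)⟩)
        (fun x _ => ((x.1.1, x.2.1), (x.1.2, x.2.2))) ?_ ?_ ?_ ?_ <;> simp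
    rw [e, Finset.card_sigma, Finset.sum_congr rfl (fun ab _ => hlin (Z ab.1) (Z ab.2))]
    rw [Finset.sum_ite, Finset.sum_const, Finset.sum_const, smul_eq_mul, smul_eq_mul]
    have hz : (Finset.univ.filter fun x : Fˣ × Fˣ => Z x.1 = 0 ∧ Z x.2 = 0).card = 4 := by
      rw [show (Finset.univ.filter fun x : Fˣ × Fˣ => Z x.1 = 0 ∧ Z x.2 = 0) =
        (Finset.univ.filter fun a : Fˣ => Z a = 0) ×ˢ (Finset.univ.filter fun a : Fˣ => Z a = 0)
        from by ext ⟨x, y⟩; simp, Finset.card_product, hZero]
    have hnz := Finset.card_filter_add_card_filter_not (s := (Finset.univ : Finset (Fˣ × Fˣ)))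
      (p := fun x : Fˣ × Fˣ => Z x.1 = 0 ∧ Z x.2 = 0)
    rw [Finset.card_univ, Fintype.card_prod, Fintype.card_units, hz] at hnz
    rw [hz]
    generalize (Finset.univ.filter fun x : Fˣ × Fˣ => ¬(Z x.1 = 0 ∧ Z x.2 = 0)).card = w at hnz ⊢
    obtain ⟨k, hk⟩ : ∃ k, Fintype.card F = k + 1 := ⟨Fintype.card F - 1,
      (Nat.sub_add_cancel Fintype.card_pos).symm⟩
    simp only [hk, Nat.add_sub_cancel] at hnz ⊢
    nlinarith [hnz]
  have hcardB : Nat.card B = Fintype.card F * (Fintype.card F - 1) := by
    rw [← Nat.card_eq_of_bijective _ hbij, Nat.card_prod, Nat.card_units,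
      Nat.card_eq_fintype_card, mul_comm]
  rw [card_comm_eq_card_conjClasses_mul_card, hcardB, mul_comm (Nat.card (ConjClasses B))]
    at hpairs
  have hpos : 0 < Fintype.card F * (Fintype.card F - 1) :=
    Nat.mul_pos Fintype.card_pos (Nat.sub_pos_of_lt Fintype.one_lt_card)
  exact Nat.eq_of_mul_eq_mul_left hpos hpairs

end Cfsg.Agent.S2437
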