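import Cfsg.Statements.S2438
import Cfsg.Agent.Lib.KnownB.SL2Deg

-- import your own Cfsg.Agent.* helpers here

set_option autoImplicit false
open Cfsg

namespace Cfsg.Agent.S2438

open CfsgLib.KnownB.GL2 CfsgLib.KnownB.SL2

/-- Let F be a finite field with q elements, q odd, q ≥ 5, U the upper unitriangular subgroup of SL₂ over F, and χ an irreducible complex character. The sum of the values of χ over U equals 2q, q, 0, q, 0 according as the degree of χ is q + 1, q, q − 1, (q + 1)/2, (q − 1)/2; so among these five degrees the sum vanishes exactly for the degrees q − 1 and (q − 1)/2, i.e. the irreducible characters of those two degrees are the ones whose restriction to U does not contain the trivial character (the cuspidal characters), while those of degree q + 1, q and (q + 1)/2 are not cuspidal. -/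
theorem result {F : Type*} [Field F] [Fintype F] [DecidableEq F] (hodd : Odd (Fintype.card F)) (hq : 5 ≤ Fintype.card F)
    (χ : Matrix.SpecialLinearGroup (Fin 2) F → ℂ) (hχ : Cfsg.IsIrrCharacter (Matrix.SpecialLinearGroup (Fin 2) F) χ) :
    (χ 1 = (Fintype.card F : ℂ) + 1 →
      (∑ g : Matrix.SpecialLinearGroup (Fin 2) F, if (g : Matrix (Fin 2) (Fin 2) F) 1 0 = 0 ∧ (g : Matrix (Fin 2) (Fin 2) F) 0 0 = 1 ∧ (g : Matrix (Fin 2) (Fin 2) F) 1 1 = 1 then χ g else 0) = 2 * (Fintype.card F : ℂ)) ∧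
    (χ 1 = (Fintype.card F : ℂ) →
      (∑ g : Matrix.SpecialLinearGroup (Fin 2) F, if (g : Matrix (Fin 2) (Fin 2) F) 1 0 = 0 ∧ (g : Matrix (Fin 2) (Fin 2) F) 0 0 = 1 ∧ (g : Matrix (Fin 2) (Fin 2) F) 1 1 = 1 then χ g else 0) = (Fintype.card F : ℂ)) ∧
    (χ 1 = (Fintype.card F : ℂ) - 1 →
      (∑ g : Matrix.SpecialLinearGroup (Fin 2) F, if (g : Matrix (Fin 2) (Fin 2) F) 1 0 = 0 ∧ (g : Matrix (Fin 2) (Fin 2) F) 0 0 = 1 ∧ (g : Matrix (Fin 2) (Fin 2) F) 1 1 = 1 then χ g else 0) = 0) ∧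
    (χ 1 = (((Fintype.card F + 1) / 2 : ℕ) : ℂ) →
      (∑ g : Matrix.SpecialLinearGroup (Fin 2) F, if (g : Matrix (Fin 2) (Fin 2) F) 1 0 = 0 ∧ (g : Matrix (Fin 2) (Fin 2) F) 0 0 = 1 ∧ (g : Matrix (Fin 2) (Fin 2) F) 1 1 = 1 then χ g else 0) = (Fintype.card F : ℂ)) ∧
    (χ 1 = (((Fintype.card F - 1) / 2 : ℕ) : ℂ) →
      (∑ g : Matrix.SpecialLinearGroup (Fin 2) F, if (g : Matrix (Fin 2) (Fin 2) F) 1 0 = 0 ∧ (g : Matrix (Fin 2) (Fin 2) F) 0 0 = 1 ∧ (g : Matrix (Fin 2) (Fin 2) F) 1 1 = 1 then χ g else 0) = 0) := by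
  classical
  obtain ⟨E, _, _, _, _⟩ := exists_quad F
  obtain ⟨D⟩ := exists_oddData E hodd
  have hsum : ∀ f : Matrix.SpecialLinearGroup (Fin 2) F → ℂ,
      (∑ g : Matrix.SpecialLinearGroup (Fin 2) F, if (g : Matrix (Fin 2) (Fin 2) F) 1 0 = 0 ∧
        (g : Matrix (Fin 2) (Fin 2) F) 0 0 = 1 ∧ (g : Matrix (Fin 2) (Fin 2) F) 1 1 = 1
        then f g else 0) = ∑ n : F, f (utri 1 n (one_mul 1)) := by
    intro f
    rw [← Finset.sum_filter]
    refine Finset.sum_bij' (fun g _ => (g : Matrix (Fin 2) (Fin 2) F) 0 1)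
      (fun n _ => utri 1 n (one_mul 1)) ?_ ?_ ?_ ?_ ?_
    · simp
    · intro n _; simp [coe_utri]
    · intro g hg
      simp only [Finset.mem_filter, Finset.mem_univ, true_and] at hg
      refine Subtype.ext ?_
      ext i j
      fin_cases i <;> fin_cases j <;> simp [coe_utri, hg.1, hg.2.1, hg.2.2]
    · intro n _; simp [coe_utri]
    · intro g hg
      simp only [Finset.mem_filter, Finset.mem_univ, true_and] at hg
      congr 1
      refine Subtype.ext ?_
      ext i j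
      fin_cases i <;> fin_cases j <;> simp [coe_utri, hg.1, hg.2.1, hg.2.2]
  have hsplit : ∀ (f : Matrix.SpecialLinearGroup (Fin 2) F → ℂ) (c : ℂ),
      (∀ n : F, n ≠ 0 → f (utri 1 n (one_mul 1)) = c) →
      ∑ n : F, f (utri 1 n (one_mul 1)) = f 1 + ((Fintype.card F : ℂ) - 1) * c := by
    intro f c hc
    rw [← Finset.add_sum_erase _ _ (Finset.mem_univ (0 : F)),
      Finset.sum_congr rfl (fun n hn => hc n (Finset.ne_of_mem_erase hn)), Finset.sum_const,
      Finset.card_erase_of_mem (Finset.mem_univ _), Finset.card_univ, nsmul_eq_mul,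
      Nat.cast_sub Fintype.card_pos, Nat.cast_one,
      show utri (1 : F) 0 (one_mul 1) = (1 : Matrix.SpecialLinearGroup (Fin 2) F) from
        Subtype.ext (by ext i j; fin_cases i <;> fin_cases j <;> simp [coe_utri])]
  have hd : ∀ n : F, n ≠ 0 → NonScalar ((utri 1 n (one_mul 1) : Matrix.SpecialLinearGroup (Fin 2) F)
      : Matrix (Fin 2) (Fin 2) F) ∧ _ := fun n hn => utri_data 1 n (one_mul 1) hn
  have hP : ∀ α : MulChar F ℂ, ∑ n : F, P α (utri 1 n (one_mul 1)) = 2 * (Fintype.card F : ℂ) := by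
    intro α
    rw [hsplit _ 1 fun n hn => by rw [P_double α (hd n hn).1 (one_mul 1) (hd n hn).2.1, map_one],
      P_one]
    ring
  have hC : ∀ μ : MulChar E ℂ, ∑ n : F, C (F := F) μ (utri 1 n (one_mul 1)) = 0 := by
    intro μ
    rw [hsplit _ (-1) fun n hn => by
      rw [C_double μ (hd n hn).1 (one_mul 1) (hd n hn).2.1, map_one, map_one], C_one]
    ring
  have hhalf : ∀ {Φ a b : Matrix.SpecialLinearGroup (Fin 2) F → ℂ}, Halves D.ε Φ a b →
      (∀ s, Φ (outer D.ε s) = Φ s) →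
      ∀ χ, (χ = a ∨ χ = b) → ∑ n : F, χ (utri 1 n (one_mul 1)) =
        (∑ n : F, Φ (utri 1 n (one_mul 1))) / 2 := by
    intro Φ a b hh _ χ hχ
    have he : ∑ n : F, b (utri 1 n (one_mul 1)) = ∑ n : F, a (utri 1 n (one_mul 1)) := by
      simp only [← hh.swap]
      refine Fintype.sum_equiv (Equiv.mulRight₀ ((D.ε⁻¹ : Fˣ) : F) (Units.ne_zero _)) _ _
        fun n => ?_
      congr 1
      refine Subtype.ext ?_
      rw [coe_outer]
      simp [coe_utri]
    rw [hh.sum]
    simp only [Pi.add_apply, Finset.sum_add_distrib, he]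
    rcases hχ with rfl | rfl
    · ring
    · rw [he]; ring
  simp only [hsum]
  refine ⟨fun h => ?_, fun h => ?_, fun h => ?_, fun h => ?_, fun h => ?_⟩
  · obtain ⟨α, -, rfl⟩ := irr_deg_q_add_one hχ h
    exact hP α
  · obtain rfl := irr_deg_q hχ h
    rw [hsplit _ 0 fun n hn => (St0_values _).2 1 (hd n hn).1 (one_mul 1) (hd n hn).2.1, St0_one]
    ring
  · obtain ⟨μ, -, rfl⟩ := irr_deg_q_sub_one E (by omega) hχ h
    exact hC μ
  · rw [hhalf D.hP (P_outer _ _) χ (D.deg_half_plus hodd hq hχ h), hP]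
    ring
  · rw [hhalf D.hC (C_outer _ _) χ (D.deg_half_minus hodd hq hχ h), hC]
    ring

end Cfsg.Agent.S2438
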