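import Cfsg.Statements.S2439
import Cfsg.Agent.Lib.KnownB.SLBlocks
import Cfsg.Agent.Lib.Block.Knorr
import Cfsg.Agent.Lib.BlockA.CentralDefect
import Cfsg.Agent.Lib.BlockB.DefectZero
import Cfsg.Agent.Lib.BlockB.PSL2Degrees
import Cfsg.Agent.Lib.Classical.SLTwoSylow

set_option autoImplicit false
open Cfsg

namespace Cfsg.Agent.S2439

/-- Let F be a finite field with q elements of odd characteristic p, and M a maximal ideal of the algebraic integers containing p. Then SL₂ over F has exactly three p-blocks relative to M: the irreducible character of degree q (the Steinberg character) alone; the other irreducible characters taking the same value at −1 as at 1 (the principal block); and the irreducible characters χ with χ(−1) = −χ(1). Every Sylow p-subgroup is a defect group of each of the last two blocks. -/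
theorem result {F : Type*} [Field F] [Fintype F] (p : ℕ) [Fact p.Prime] [CharP F p] (hp : p ≠ 2)
    (M : Ideal Cfsg.AlgInt) (hM : Cfsg.IsPModular p M) :
    (∀ B : Set (Cfsg.IrrCharacter (Matrix.SpecialLinearGroup (Fin 2) F)), Cfsg.IsPBlock M B ↔
      (B = {χ : Cfsg.IrrCharacter (Matrix.SpecialLinearGroup (Fin 2) F) | (χ : Matrix.SpecialLinearGroup (Fin 2) F → ℂ) 1 = (Fintype.card F : ℂ)} ∨
       B = {χ : Cfsg.IrrCharacter (Matrix.SpecialLinearGroup (Fin 2) F) | (χ : Matrix.SpecialLinearGroup (Fin 2) F → ℂ) (-1) = (χ : Matrix.SpecialLinearGroup (Fin 2) F → ℂ) 1 ∧ (χ : Matrix.SpecialLinearGroup (Fin 2) F → ℂ) 1 ≠ (Fintype.card F : ℂ)} ∨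
       B = {χ : Cfsg.IrrCharacter (Matrix.SpecialLinearGroup (Fin 2) F) | (χ : Matrix.SpecialLinearGroup (Fin 2) F → ℂ) (-1) = -(χ : Matrix.SpecialLinearGroup (Fin 2) F → ℂ) 1})) ∧
    Nat.card {B : Set (Cfsg.IrrCharacter (Matrix.SpecialLinearGroup (Fin 2) F)) // Cfsg.IsPBlock M B} = 3 ∧
    ∀ P : Sylow p (Matrix.SpecialLinearGroup (Fin 2) F),
      Cfsg.IsDefectGroup p M {χ : Cfsg.IrrCharacter (Matrix.SpecialLinearGroup (Fin 2) F) | (χ : Matrix.SpecialLinearGroup (Fin 2) F → ℂ) (-1) = (χ : Matrix.SpecialLinearGroup (Fin 2) F → ℂ) 1 ∧ (χ : Matrix.SpecialLinearGroup (Fin 2) F → ℂ) 1 ≠ (Fintype.card F : ℂ)} (P : Subgroup (Matrix.SpecialLinearGroup (Fin 2) F)) ∧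
      Cfsg.IsDefectGroup p M {χ : Cfsg.IrrCharacter (Matrix.SpecialLinearGroup (Fin 2) F) | (χ : Matrix.SpecialLinearGroup (Fin 2) F → ℂ) (-1) = -(χ : Matrix.SpecialLinearGroup (Fin 2) F → ℂ) 1} (P : Subgroup (Matrix.SpecialLinearGroup (Fin 2) F)) := by
  classical
  have := CfsgLib.Block.isPrime_of_pmodular hM
  have := CfsgLib.Block.charP_kres (M := M) hM
  let G := Matrix.SpecialLinearGroup (Fin 2) F
  obtain ⟨h1, h2, h3, h4⟩ := CfsgLib.KnownB.SLSt.blocks_sl (F := F) (n := 2) p le_rfl M hM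
  obtain ⟨f, -, hq⟩ := FiniteField.card F p
  have hq2 : 2 < Fintype.card F := by
    have := Nat.le_self_pow f.ne_zero p
    have := (Fact.out : p.Prime).two_le
    omega
  have hgcd : Nat.gcd 2 (Fintype.card F - 1) = 2 := by
    refine Nat.gcd_eq_left ?_
    have : Odd (Fintype.card F) := hq ▸ ((Fact.out : p.Prime).odd_of_ne_two hp).pow
    obtain ⟨r, hr⟩ := this
    omega
  rw [hgcd] at h3
  have ha : (Nat.card G).factorization p = f := by
    rw [CfsgLib.Classical.card_sl_two_eq, hq,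
      Nat.factorization_mul (pow_ne_zero _ (Fact.out : p.Prime).ne_zero) (by
        have : 2 ≤ p ^ (f : ℕ) := hq ▸ hq2.le
        have := Nat.pow_le_pow_left this 2
        omega), Finsupp.add_apply, (Fact.out : p.Prime).factorization_pow, Finsupp.single_eq_same,
      Nat.factorization_eq_zero_of_not_dvd, add_zero]
    intro hd
    have h5 : p ∣ (p ^ (f : ℕ)) ^ 2 := dvd_pow (dvd_pow_self p f.ne_zero) two_ne_zero
    have h6 := Nat.dvd_sub h5 hd
    have h8 : 1 ≤ (p ^ (f : ℕ)) ^ 2 :=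
      Nat.one_le_pow _ _ (Nat.pow_pos (Fact.out : p.Prime).pos)
    rw [show (p ^ (f : ℕ)) ^ 2 - ((p ^ (f : ℕ)) ^ 2 - 1) = 1 by omega] at h6
    exact (Fact.out : p.Prime).one_lt.ne' (Nat.dvd_one.1 h6)
  have hdeg : ∀ χ : Cfsg.IrrCharacter G,
      (χ : G → ℂ) 1 = (Fintype.card F : ℂ) ↔ Cfsg.charDegree (χ : G → ℂ) = Fintype.card F := by
    intro χ
    rw [← CfsgLib.BlockB.irr_degree_cast χ, Nat.cast_inj]
  have hzero : ∀ χ : Cfsg.IrrCharacter G, (χ : G → ℂ) 1 = (Fintype.card F : ℂ) ↔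
      Cfsg.blockDefect p (Cfsg.blockOf M (χ : G → ℂ)) = 0 := by
    intro χ
    rw [hdeg]
    constructor
    · intro hd
      refine CfsgLib.Block.blockDefect_eq_zero_of_vanish hM (CfsgLib.Block.isPBlock_blockOf χ)
        (CfsgLib.Block.mem_blockOf_self χ) fun g hg =>
          CfsgLib.BlockB.irr_apply_eq_zero_of_defect_zero (p := p) χ ?_ (hg ▸ dvd_rfl)
      rw [ha, hd, hq]
    · intro hd
      have h5 := CfsgLib.Block.sInf_degree_add_blockDefect hM (CfsgLib.Block.isPBlock_blockOf χ)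
      rw [hd, add_zero, ha] at h5
      have h6 : sInf ((fun ψ : Cfsg.IrrCharacter G =>
          (Cfsg.charDegree (ψ : G → ℂ)).factorization p) '' Cfsg.blockOf M (χ : G → ℂ)) ≤
          (Cfsg.charDegree (χ : G → ℂ)).factorization p :=
        Nat.sInf_le ⟨χ, CfsgLib.Block.mem_blockOf_self χ, rfl⟩
      rw [h5] at h6
      have hd0 : 0 < Cfsg.charDegree (χ : G → ℂ) :=
        Nat.pos_of_ne_zero (CfsgLib.Block.charDegree_ne_zero χ.2)
      have h7 : Fintype.card F ∣ Cfsg.charDegree (χ : G → ℂ) := by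
        rw [hq]
        exact (Nat.Prime.pow_dvd_iff_le_factorization Fact.out hd0.ne').2 h6
      have h8 := Nat.le_of_dvd hd0 h7
      rcases CfsgLib.BlockB.PSL2Degrees.sl_degree (F := F) ⟨χ, rfl⟩ with h | h | h | h | ⟨-, h | h⟩
      · omega
      · exact h
      · rw [h] at h7
        have := Nat.eq_one_of_dvd_one ((Nat.dvd_add_right dvd_rfl).1 h7)
        omega
      · omega
      · omega
      · omega
  have hnegval : ((-1 : G) : Matrix (Fin 2) (Fin 2) F) = -1 :=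
    Matrix.SpecialLinearGroup.coe_neg 1
  have hneg : ∀ w : G, (-1 : G) * w = w * -1 := fun w => by
    refine Subtype.ext ?_
    show ((-1 : G) : Matrix (Fin 2) (Fin 2) F) * w.1 = w.1 * ((-1 : G) : Matrix (Fin 2) (Fin 2) F)
    rw [hnegval, neg_one_mul, mul_neg_one]
  have hnegsq : (-1 : G) * -1 = 1 := by
    refine Subtype.ext ?_
    show ((-1 : G) : Matrix (Fin 2) (Fin 2) F) * ((-1 : G) : Matrix (Fin 2) (Fin 2) F) = 1
    rw [hnegval, neg_mul_neg, one_mul]
  have hnegc : (-1 : G) ∈ Subgroup.center G := Subgroup.mem_center_iff.2 fun w => (hneg w).symm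
  have hsign : ∀ χ : Cfsg.IrrCharacter G,
      (χ : G → ℂ) (-1) = (χ : G → ℂ) 1 ∨ (χ : G → ℂ) (-1) = -(χ : G → ℂ) 1 := by
    intro χ
    have h5 := CfsgLib.BlockA.irr_central_mul χ hneg (-1)
    rw [hnegsq] at h5
    have h10 := CfsgLib.Char.irr_apply_one_ne_zero χ.2
    rw [div_mul_eq_mul_div, eq_div_iff h10] at h5
    rcases mul_self_eq_mul_self_iff.1 h5.symm with h | h
    · exact Or.inl h
    · exact Or.inr h
  have hval : ∀ (χ : Cfsg.IrrCharacter G) (z : Subgroup.center G),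
      CfsgLib.KnownB.SLSt.cenHom M χ z =
        CfsgLib.Block.redC M ((χ : G → ℂ) (z : G) / (χ : G → ℂ) 1) := by
    intro χ z
    rw [CfsgLib.KnownB.SLSt.cenHom_apply, CfsgLib.Block.lam_classSumZ, Cfsg.centralChar]
    congr 2
    have : (Subgroup.centralizer ({(z : G)} : Set G)).index = 1 := by
      rw [Subgroup.index_eq_one, eq_top_iff]
      intro w _
      exact Subgroup.mem_centralizer_singleton_iff.2 (Subgroup.mem_center_iff.1 z.2 w)
    rw [this, Nat.cast_one, one_mul]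
  have hcen : ∀ z : G, z ∈ Subgroup.center G → z = 1 ∨ z = -1 := by
    intro z hz
    obtain ⟨r, hr, hz'⟩ := Matrix.SpecialLinearGroup.mem_center_iff.1 hz
    rw [Fintype.card_fin] at hr
    have hr2 : r * r = 1 := by rw [← pow_two]; exact hr
    rcases mul_self_eq_one_iff.1 hr2 with rfl | rfl
    · left
      refine Subtype.ext ?_
      rw [← hz', map_one]
      rfl
    · right
      refine Subtype.ext ?_
      rw [← hz', map_neg, map_one]
      rfl
  have hone : ((1 : CfsgLib.Block.kres M)) ≠ -1 := by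
    intro h
    have h5 : ((2 : ℕ) : CfsgLib.Block.kres M) = 0 := by
      push_cast
      rw [← one_add_one_eq_two]
      nth_rewrite 2 [h]
      exact add_neg_cancel 1
    rw [CharP.cast_eq_zero_iff (CfsgLib.Block.kres M) p] at h5
    exact hp ((Nat.prime_dvd_prime_iff_eq Fact.out Nat.prime_two).1 h5)
  have hno : ∀ χ : Cfsg.IrrCharacter G, (χ : G → ℂ) (-1) = -(χ : G → ℂ) 1 →
      ¬ (χ : G → ℂ) (-1) = (χ : G → ℂ) 1 := fun χ h h' =>
    CfsgLib.Char.irr_apply_one_ne_zero χ.2 (self_eq_neg.1 (h'.symm.trans h))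
  have hsame : ∀ χ χ' : Cfsg.IrrCharacter G, (χ : G → ℂ) 1 ≠ (Fintype.card F : ℂ) →
      (χ' : G → ℂ) 1 ≠ (Fintype.card F : ℂ) →
      ((χ : G → ℂ) (-1) = (χ : G → ℂ) 1 ↔ (χ' : G → ℂ) (-1) = (χ' : G → ℂ) 1) →
      Cfsg.blockOf M (χ : G → ℂ) = Cfsg.blockOf M (χ' : G → ℂ) := by
    intro χ χ' hd hd' hiff
    refine h4 χ χ' (fun h => hd ((hzero χ).2 h)) (fun h => hd' ((hzero χ').2 h)) ?_
    refine MonoidHom.ext fun z => ?_
    rw [hval, hval]
    congr 1
    have h10 := CfsgLib.Char.irr_apply_one_ne_zero χ.2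
    have h10' := CfsgLib.Char.irr_apply_one_ne_zero χ'.2
    rcases hcen z z.2 with h | h <;> rw [h]
    · rw [div_self h10, div_self h10']
    · rcases hsign χ with e | e
      · rw [e, hiff.1 e, div_self h10, div_self h10']
      · have e' := (hsign χ').resolve_left fun e2 => hno χ e (hiff.2 e2)
        rw [e, e', neg_div, neg_div, div_self h10, div_self h10']
  have hdiff : ∀ χ χ' : Cfsg.IrrCharacter G, χ' ∈ Cfsg.blockOf M (χ : G → ℂ) →
      ((χ : G → ℂ) (-1) = (χ : G → ℂ) 1 ↔ (χ' : G → ℂ) (-1) = (χ' : G → ℂ) 1) := by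
    intro χ χ' hmem
    have e : CfsgLib.Block.lam M χ = CfsgLib.Block.lam M χ' :=
      CfsgLib.Block.lam_eq_of_sameBlock hmem
    have h5 := hval χ ⟨-1, hnegc⟩
    have h6 := hval χ' ⟨-1, hnegc⟩
    rw [CfsgLib.KnownB.SLSt.cenHom_apply, e, ← CfsgLib.KnownB.SLSt.cenHom_apply] at h5
    rw [h5] at h6
    have hred : ∀ ψ : Cfsg.IrrCharacter G,
        ((ψ : G → ℂ) (-1) = (ψ : G → ℂ) 1 → CfsgLib.Block.redC M ((ψ : G → ℂ) (-1) /
          (ψ : G → ℂ) 1) = 1) ∧
        ((ψ : G → ℂ) (-1) = -(ψ : G → ℂ) 1 → CfsgLib.Block.redC M ((ψ : G → ℂ) (-1) /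
          (ψ : G → ℂ) 1) = -1) := by
      intro ψ
      have h10 := CfsgLib.Char.irr_apply_one_ne_zero ψ.2
      refine ⟨fun h => by rw [h, div_self h10, CfsgLib.Block.redC_one], fun h => ?_⟩
      rw [h, neg_div, div_self h10]
      refine eq_neg_of_add_eq_zero_left ?_
      have h1 := CfsgLib.Block.memLocalRing_natCast (M := M) 1
      rw [Nat.cast_one] at h1
      rw [← CfsgLib.Block.redC_one (M := M)]
      rw [← CfsgLib.Block.redC_add ((CfsgLib.Block.lring M).neg_mem h1) h1, neg_add_cancel,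
        CfsgLib.Block.redC_zero]
    rcases hsign χ with a | a <;> rcases hsign χ' with b | b
    · exact iff_of_true a b
    · exact absurd (((hred χ).1 a).symm.trans (h6.trans ((hred χ').2 b))) hone
    · exact absurd (((hred χ').1 b).symm.trans (h6.symm.trans ((hred χ).2 a))) hone
    · exact iff_of_false (hno χ a) (hno χ' b)
  set B0 : Set (Cfsg.IrrCharacter G) := {χ | (χ : G → ℂ) 1 = (Fintype.card F : ℂ)} with hB0
  set Bp : Set (Cfsg.IrrCharacter G) := {χ | (χ : G → ℂ) (-1) = (χ : G → ℂ) 1 ∧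
    (χ : G → ℂ) 1 ≠ (Fintype.card F : ℂ)} with hBp
  set Bm : Set (Cfsg.IrrCharacter G) := {χ | (χ : G → ℂ) (-1) = -(χ : G → ℂ) 1} with hBm
  obtain ⟨hsub, ⟨⟨B₀, hB₀, hd₀⟩⟩⟩ := Nat.card_eq_one_iff_unique.1 h1
  have huniq : ∀ B, Cfsg.IsPBlock M B → Cfsg.blockDefect p B = 0 → B = B₀ := fun B hB hd =>
    congrArg Subtype.val (hsub.elim ⟨B, hB, hd⟩ ⟨B₀, hB₀, hd₀⟩)
  have hB₀eq : B₀ = B0 := by
    ext χ
    rw [hB0, Set.mem_ofPred_eq, hzero]
    constructor
    · intro h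
      rw [← CfsgLib.Block.isPBlock_eq_blockOf hB₀ h]
      exact hd₀
    · intro h
      rw [← huniq _ (CfsgLib.Block.isPBlock_blockOf χ) h]
      exact CfsgLib.Block.mem_blockOf_self χ
  have htwo : ∀ B : Set (Cfsg.IrrCharacter G), Cfsg.IsPBlock M B → Cfsg.blockDefect p B ≠ 0 → ∀ χ ∈ B,
      (χ : G → ℂ) 1 ≠ (Fintype.card F : ℂ) := by
    intro B hB hd χ hχ h
    apply hd
    rw [CfsgLib.Block.isPBlock_eq_blockOf hB hχ]
    exact (hzero χ).1 h
  obtain ⟨X, Y, hXY, -⟩ := Nat.card_eq_two_iff.1 h3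
  obtain ⟨x, hx⟩ := CfsgLib.Block.isPBlock_nonempty X.2.1
  obtain ⟨y, hy⟩ := CfsgLib.Block.isPBlock_nonempty Y.2.1
  have hxy : ¬ ((x : G → ℂ) (-1) = (x : G → ℂ) 1 ↔ (y : G → ℂ) (-1) = (y : G → ℂ) 1) := by
    intro h
    apply hXY
    refine Subtype.ext ?_
    rw [CfsgLib.Block.isPBlock_eq_blockOf X.2.1 hx, CfsgLib.Block.isPBlock_eq_blockOf Y.2.1 hy]
    exact hsame x y (htwo _ X.2.1 X.2.2 x hx) (htwo _ Y.2.1 Y.2.2 y hy) h
  obtain ⟨χp, hχp, hχp1, χm, hχm, hχm1⟩ : ∃ χp : Cfsg.IrrCharacter G,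
      (χp : G → ℂ) (-1) = (χp : G → ℂ) 1 ∧ (χp : G → ℂ) 1 ≠ (Fintype.card F : ℂ) ∧
      ∃ χm : Cfsg.IrrCharacter G,
        (χm : G → ℂ) (-1) = -(χm : G → ℂ) 1 ∧ (χm : G → ℂ) 1 ≠ (Fintype.card F : ℂ) := by
    by_cases hc : (x : G → ℂ) (-1) = (x : G → ℂ) 1
    · exact ⟨x, hc, htwo _ X.2.1 X.2.2 x hx, y,
        (hsign y).resolve_left fun h => hxy (iff_of_true hc h), htwo _ Y.2.1 Y.2.2 y hy⟩
    · refine ⟨y, ?_, htwo _ Y.2.1 Y.2.2 y hy, x, (hsign x).resolve_left hc,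
        htwo _ X.2.1 X.2.2 x hx⟩
      by_contra h
      exact hxy (iff_of_false hc h)
  have hnz : ∀ χ : Cfsg.IrrCharacter G, (χ : G → ℂ) 1 ≠ (Fintype.card F : ℂ) →
      ∀ ψ ∈ Cfsg.blockOf M (χ : G → ℂ), (ψ : G → ℂ) 1 ≠ (Fintype.card F : ℂ) := fun χ hχ =>
    htwo _ (CfsgLib.Block.isPBlock_blockOf χ) fun h => hχ ((hzero χ).2 h)
  have hneg_nq : ∀ χ : Cfsg.IrrCharacter G, (χ : G → ℂ) (-1) = -(χ : G → ℂ) 1 →
      (χ : G → ℂ) 1 ≠ (Fintype.card F : ℂ) := by
    intro χ hχ hd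
    have h5 := CfsgLib.KnownB.SL2.irr_deg_q (F := F) χ.2 hd
    have h6 := CfsgLib.BlockB.PSL2Degrees.St0_scalar (F := F) (s := (-1 : G)) (r := -1) (by ring)
      (by simp [hnegval])
    rw [← h5] at h6
    exact hno χ hχ h6
  have hP : Cfsg.blockOf M (χp : G → ℂ) = Bp := by
    ext ψ
    constructor
    · intro h
      exact ⟨(hdiff χp ψ h).1 hχp, hnz χp hχp1 ψ h⟩
    · rintro ⟨h5, h6⟩
      rw [hsame χp ψ hχp1 h6 (iff_of_true hχp h5)]
      exact CfsgLib.Block.mem_blockOf_self ψ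
  have hM' : Cfsg.blockOf M (χm : G → ℂ) = Bm := by
    ext ψ
    constructor
    · intro h
      exact (hsign ψ).resolve_left fun h5 => hno χm hχm ((hdiff χm ψ h).2 h5)
    · intro h5
      rw [hsame χm ψ hχm1 (hneg_nq ψ h5) (iff_of_false (hno χm hχm) (hno ψ h5))]
      exact CfsgLib.Block.mem_blockOf_self ψ
  have hblocks : ∀ B, Cfsg.IsPBlock M B ↔ (B = B0 ∨ B = Bp ∨ B = Bm) := by
    intro B
    constructor
    · intro hB
      by_cases hd : Cfsg.blockDefect p B = 0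
      · exact Or.inl ((huniq B hB hd).trans hB₀eq)
      · obtain ⟨χ, hχ⟩ := CfsgLib.Block.isPBlock_nonempty hB
        have e := CfsgLib.Block.isPBlock_eq_blockOf hB hχ
        rcases hsign χ with hs | hs
        · exact Or.inr (Or.inl (e.trans ((hsame χ χp (htwo B hB hd χ hχ) hχp1
            (iff_of_true hs hχp)).trans hP)))
        · exact Or.inr (Or.inr (e.trans ((hsame χ χm (htwo B hB hd χ hχ) hχm1
            (iff_of_false (hno χ hs) (hno χm hχm))).trans hM')))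
    · rintro (rfl | rfl | rfl)
      · exact hB₀eq ▸ hB₀
      · exact hP ▸ CfsgLib.Block.isPBlock_blockOf χp
      · exact hM' ▸ CfsgLib.Block.isPBlock_blockOf χm
  have hfinB : Finite {B : Set (Cfsg.IrrCharacter G) // Cfsg.IsPBlock M B} :=
    Finite.of_surjective (fun χ : Cfsg.IrrCharacter G => (⟨_, CfsgLib.Block.isPBlock_blockOf χ⟩ :
      {B : Set (Cfsg.IrrCharacter G) // Cfsg.IsPBlock M B})) fun ⟨B, χ, hχ⟩ =>
        ⟨χ, Subtype.ext hχ.symm⟩
  refine ⟨hblocks, ?_, fun P => ?_⟩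
  · rw [Nat.card_congr ((Equiv.sumCompl fun B : {B : Set (Cfsg.IrrCharacter G) //
      Cfsg.IsPBlock M B} => Cfsg.blockDefect p B.1 ≠ 0).symm), Nat.card_sum,
      Nat.card_congr (Equiv.subtypeSubtypeEquivSubtypeInter _ fun B => Cfsg.blockDefect p B ≠ 0),
      h3, Nat.card_congr (Equiv.subtypeSubtypeEquivSubtypeInter _
        fun B => ¬ Cfsg.blockDefect p B ≠ 0)]
    simp only [ne_eq, not_not]
    rw [h1]
  · have key : ∀ χ : Cfsg.IrrCharacter G, (χ : G → ℂ) 1 ≠ (Fintype.card F : ℂ) →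
        Cfsg.IsDefectGroup p M (Cfsg.blockOf M (χ : G → ℂ)) (P : Subgroup G) := by
      intro χ hχ
      have hB := CfsgLib.Block.isPBlock_blockOf (M := M) χ
      obtain ⟨D, hD⟩ := CfsgLib.Block.exists_isDefectGroup hM hB
      have hfull := (h2 _ hB).resolve_left fun h => hχ ((hzero χ).2 h)
      have hcard : Nat.card D = p ^ (Nat.card G).factorization p := by
        rw [CfsgLib.Block.natCard_defectGroup hM hB hD, hfull]
      obtain ⟨c, hc⟩ := MulAction.exists_smul_eq G (Sylow.ofCard D hcard) P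
      have h5 := CfsgLib.Block.defectGroup_conj hM hB hD c
      rw [← hc]
      exact h5
    exact ⟨hP ▸ key χp hχp1, hM' ▸ key χm hχm1⟩

end Cfsg.Agent.S2439
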