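import Cfsg.Statements.S2440
import Cfsg.Agent.Lib.KnownB.SLBlocks

set_option autoImplicit false
open Cfsg

namespace Cfsg.Agent.S2440

/-- For a prime p and n ≥ 2, the group SL_n over the field with p elements has exactly gcd(n, p − 1) + 1 p-blocks relative to any maximal ideal of the algebraic integers containing p, that is, one more than the order of its centre (only this total is asserted; it arises as the defect-zero block of the Steinberg character plus as many blocks of maximal defect as the order of the centre). -/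
theorem result (p : ℕ) [Fact p.Prime] (n : ℕ) (hn : 2 ≤ n) (M : Ideal Cfsg.AlgInt) (hM : Cfsg.IsPModular p M) :
    Nat.card {B : Set (Cfsg.IrrCharacter (Matrix.SpecialLinearGroup (Fin n) (ZMod p))) // Cfsg.IsPBlock M B} =
      Nat.gcd n (p - 1) + 1 := by
  classical
  have := CfsgLib.Block.isPrime_of_pmodular hM
  obtain ⟨h1, -, h3, -⟩ := CfsgLib.KnownB.SLSt.blocks_sl (F := ZMod p) (n := n) p hn M hM
  rw [ZMod.card] at h3
  let G := Matrix.SpecialLinearGroup (Fin n) (ZMod p)
  have : Finite {B : Set (Cfsg.IrrCharacter G) // Cfsg.IsPBlock M B} :=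
    Finite.of_surjective (fun χ : Cfsg.IrrCharacter G => (⟨_, CfsgLib.Block.isPBlock_blockOf χ⟩ :
      {B : Set (Cfsg.IrrCharacter G) // Cfsg.IsPBlock M B})) fun ⟨B, χ, hχ⟩ =>
        ⟨χ, Subtype.ext hχ.symm⟩
  rw [Nat.card_congr ((Equiv.sumCompl fun B : {B : Set (Cfsg.IrrCharacter G) //
    Cfsg.IsPBlock M B} => Cfsg.blockDefect p B.1 ≠ 0).symm), Nat.card_sum,
    Nat.card_congr (Equiv.subtypeSubtypeEquivSubtypeInter _ fun B => Cfsg.blockDefect p B ≠ 0), h3,
    Nat.card_congr (Equiv.subtypeSubtypeEquivSubtypeInter _ fun B => ¬ Cfsg.blockDefect p B ≠ 0)]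
  simp only [ne_eq, not_not]
  rw [h1]

end Cfsg.Agent.S2440
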