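import Cfsg.Statements.S2444
import Cfsg.Agent.Lib.StructC.SLCommTwo
import Cfsg.Agent.Lib.StructC.SLCommScalar
-- import your own Cfsg.Agent.* helpers here

set_option autoImplicit false
open Cfsg

namespace Cfsg.Agent.S2444

open CfsgLib.StructC.SLComm

universe u

theorem of_rel {F : Type u} [Field F] (n : ℕ) (g : Matrix.SpecialLinearGroup (Fin n) F)
    {A B : Matrix (Fin n) (Fin n) F} (hA : A.det = 1) (hB : B.det = 1)
    (h : (g : Matrix (Fin n) (Fin n) F) * B * A = A * B) :
    ∃ a b : Matrix.SpecialLinearGroup (Fin n) F, g = a * b * a⁻¹ * b⁻¹ := by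
  let a : Matrix.SpecialLinearGroup (Fin n) F := ⟨A, hA⟩
  let b : Matrix.SpecialLinearGroup (Fin n) F := ⟨B, hB⟩
  refine ⟨a, b, ?_⟩
  have h' : g * b * a = a * b := Subtype.ext h
  rw [← h']; group

/-- In the special linear group SL(n,F) over a finite field F, with n ≥ 2 and (n, |F|) not (2,2) or (2,3), every element is a commutator a·b·a⁻¹·b⁻¹ of two elements of SL(n,F). -/
theorem result {F : Type*} [Field F] [Fintype F] (n : ℕ) (hn : 2 ≤ n) (hex : n = 2 → 4 ≤ Fintype.card F) :
    ∀ g : Matrix.SpecialLinearGroup (Fin n) F, ∃ a b : Matrix.SpecialLinearGroup (Fin n) F, g = a * b * a⁻¹ * b⁻¹ := by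
  classical
  intro g
  set M : Matrix (Fin n) (Fin n) F := (g : Matrix (Fin n) (Fin n) F) with hM
  have hdetM : M.det = 1 := g.2
  by_cases hs : ∃ c : F, M = c • 1
  · obtain ⟨c, hc⟩ := hs
    obtain ⟨A, B, hA, hB, hAB⟩ := scalar_comm n c (by
      rw [← hdetM, hc, Matrix.det_smul, Matrix.det_one, mul_one, Fintype.card_fin]) (by omega)
    refine of_rel n g hA hB ?_
    rw [← hM, hc, Matrix.smul_mul, one_mul, Matrix.smul_mul, hAB]
  · push Not at hs
    set G : Module.End F (Fin n → F) := Matrix.toLin' M with hG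
    have hdetG : LinearMap.det G = 1 := by rw [hG, LinearMap.det_toLin', hdetM]
    have hns : ∀ c : F, G ≠ c • 1 := fun c h => hs c (by
      have := congrArg LinearMap.toMatrix' h
      rwa [hG, LinearMap.toMatrix'_toLin', map_smul, LinearMap.toMatrix'_one] at this)
    have hfr : Module.finrank F (Fin n → F) = n := Module.finrank_fin_fun F
    have hcomm : IsComm G := by
      rcases eq_or_lt_of_le hn with h2 | h3
      · obtain ⟨μ, -, hμ⟩ := Finset.exists_mem_notMem_of_card_lt_card
          (s := ({0, 1, -1} : Finset F)) (t := Finset.univ) (by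
            rw [Finset.card_univ]
            exact lt_of_le_of_lt Finset.card_le_three (hex h2.symm))
        simp only [Finset.mem_insert, Finset.mem_singleton, not_or] at hμ
        refine comm_of_two G hdetG (by omega) hns hμ.1 fun h => ?_
        rcases mul_self_eq_one_iff.1 h with h | h
        · exact hμ.2.1 h
        · exact hμ.2.2 h
      · by_cases hq : ∃ μ : F, μ ≠ 0 ∧ μ ≠ 1
        · obtain ⟨μ, h0, h1⟩ := hq
          exact comm_of_three G hdetG (by omega) hns h0 (Or.inl h1)
        · push Not at hq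
          rcases eq_or_lt_of_le (show 3 ≤ n from h3) with h4 | h4
          · exact comm_of_three G hdetG (by omega) hns one_ne_zero (Or.inr (by omega))
          · exact comm_two_field (fun s => or_iff_not_imp_left.2 (hq s)) G hdetG (by omega)
              (by simpa using hns 1)
    obtain ⟨a, b, ha, hb, hab⟩ := hcomm
    refine of_rel n g (A := LinearMap.toMatrix' (a : (Fin n → F) →ₗ[F] (Fin n → F)))
      (B := LinearMap.toMatrix' (b : (Fin n → F) →ₗ[F] (Fin n → F))) ?_ ?_ ?_
    · rw [LinearMap.det_toMatrix', ha]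
    · rw [LinearMap.det_toMatrix', hb]
    · have h := congrArg LinearMap.toMatrix'
        (LinearMap.ext (f := (G ∘ₗ (b : (Fin n → F) →ₗ[F] (Fin n → F))) ∘ₗ (a : (Fin n → F) →ₗ[F] (Fin n → F)))
          (g := (a : (Fin n → F) →ₗ[F] (Fin n → F)) ∘ₗ (b : (Fin n → F) →ₗ[F] (Fin n → F))) hab)
      rw [LinearMap.toMatrix'_comp, LinearMap.toMatrix'_comp, LinearMap.toMatrix'_comp, hG,
        LinearMap.toMatrix'_toLin'] at h
      exact h

end Cfsg.Agent.S2444
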