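import Cfsg.Statements.S2455
import Cfsg.Agent.Lib.KnownB.PSL2Elem

-- import your own Cfsg.Agent.* helpers here

set_option autoImplicit false
open Cfsg

namespace Cfsg.Agent.S2455

open CfsgLib.KnownB CfsgLib.KnownB.SL2


/-- A strong covering result in the direction of Thompson's conjecture (non-identity elements) for PSL(2,q), q odd: let F be a finite field of odd characteristic p with at least 5 elements and let x ∈ PSL(2,F) have order greater than 2 and not divisible by p (so x is not unipotent). Then every non-identity element of PSL(2,F) is a product of two conjugates of x. -/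
theorem result {F : Type*} [Field F] [Fintype F] (p : ℕ) [Fact p.Prime] [CharP F p] (hp : p ≠ 2) (h5 : 5 ≤ Fintype.card F)
    (x : Matrix.ProjectiveSpecialLinearGroup (Fin 2) F) (hx2 : 2 < orderOf x) (hxp : ¬ p ∣ orderOf x) : ∀ g : Matrix.ProjectiveSpecialLinearGroup (Fin 2) F, g ≠ 1 → ∃ u v : Matrix.ProjectiveSpecialLinearGroup (Fin 2) F, g = (u * x * u⁻¹) * (v * x * v⁻¹) := by
  classical
  have hodd : Odd (Fintype.card F) := Nat.odd_iff.mpr (FiniteField.odd_card_of_char_ne_two (by
    rw [ringChar.eq F p]; exact hp))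
  obtain ⟨X, rfl⟩ := exists_lift x
  refine covering_odd hodd ?_ ?_
  · intro h
    have hpp : p.Prime := Fact.out
    obtain ⟨a, ha, ht⟩ : ∃ a : F, a * a = 1 ∧ (X : Matrix (Fin 2) (Fin 2) F).trace = a + a := by
      rcases sq_eq_sq_iff_eq_or_eq_neg.mp (show (X : Matrix (Fin 2) (Fin 2) F).trace ^ 2 = (2 : F) ^ 2 by
        rw [h]; norm_num) with h' | h'
      · exact ⟨1, one_mul 1, by rw [h']; norm_num⟩
      · exact ⟨-1, by norm_num, by rw [h']; norm_num⟩
    rcases (Nat.dvd_prime hpp).mp (orderOf_dvd_p p ha ht) with h' | h'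
    · omega
    · exact hxp (dvd_of_eq h'.symm)
  · intro h
    have h2 : (QuotientGroup.mk' (Subgroup.center _) X) ^ 2 = 1 := by
      rw [← map_pow]
      refine mk_eq_one_iff.mpr ⟨-1, ?_⟩
      have hd := det_entries X
      rw [Matrix.trace_fin_two] at h
      rw [Matrix.SpecialLinearGroup.coe_pow, sq]
      ext i j
      fin_cases i <;> fin_cases j <;> simp [Matrix.mul_apply, Fin.sum_univ_two]
      · linear_combination (X : Matrix (Fin 2) (Fin 2) F) 0 0 * h - hd
      · linear_combination (X : Matrix (Fin 2) (Fin 2) F) 0 1 * h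
      · linear_combination (X : Matrix (Fin 2) (Fin 2) F) 1 0 * h
      · linear_combination (X : Matrix (Fin 2) (Fin 2) F) 1 1 * h - hd
    have := Nat.le_of_dvd two_pos (orderOf_dvd_of_pow_eq_one h2)
    omega

end Cfsg.Agent.S2455
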