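import Cfsg.Statements.S2456
import Cfsg.Agent.Lib.KnownB.PSL2Elem

-- import your own Cfsg.Agent.* helpers here

set_option autoImplicit false
open Cfsg

namespace Cfsg.Agent.S2456

open CfsgLib.KnownB CfsgLib.KnownB.SL2


/-- A strong covering result in the direction of Thompson's conjecture (non-identity elements) for PSL(2,q), q even: let F be a finite field of characteristic 2 with q ≥ 4 elements and let x ∈ PSL(2,F) have order greater than 2 and not dividing q + 1. Then every non-identity element of PSL(2,F) is a product of two conjugates of x. -/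
theorem result {F : Type*} [Field F] [Fintype F] [CharP F 2] (h4 : 4 ≤ Fintype.card F)
    (x : Matrix.ProjectiveSpecialLinearGroup (Fin 2) F) (hx2 : 2 < orderOf x) (hxq : ¬ orderOf x ∣ Fintype.card F + 1) : ∀ g : Matrix.ProjectiveSpecialLinearGroup (Fin 2) F, g ≠ 1 → ∃ u v : Matrix.ProjectiveSpecialLinearGroup (Fin 2) F, g = (u * x * u⁻¹) * (v * x * v⁻¹) := by
  classical
  obtain ⟨X, rfl⟩ := exists_lift x
  obtain ⟨E, _, _, _, _⟩ := GL2.exists_quad F
  have hX0 : (X : Matrix (Fin 2) (Fin 2) F).trace ≠ 0 := by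
    intro h
    have := Nat.le_of_dvd two_pos (orderOf_dvd_p 2 (s := X) (a := (1 : F)) (one_mul 1)
      (by rw [h, CharTwo.add_self_eq_zero]))
    omega
  rcases sl_cases E X with ⟨a, -, hs⟩ | ⟨-, a, -, ht⟩ | ⟨a, b, hab, -, ht⟩ | ⟨y, hy, hn, ht⟩
  · have h1 : QuotientGroup.mk' (Subgroup.center _) X = 1 := mk_eq_one_iff.mpr ⟨a, hs⟩
    rw [h1, orderOf_one] at hx2
    omega
  · exact absurd (ht.trans (CharTwo.add_self_eq_zero a)) hX0
  · refine covering_even (nonScalar_of_trace ?_ rfl) (left_ne_zero_of_mul_eq_one hab) ?_ hX0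
    · intro h4'
      have h4'' : (4 : F) = 0 := by
        rw [show (4 : F) = 2 * 2 by norm_num, CharTwo.two_eq_zero (R := F), zero_mul]
      exact pow_ne_zero 2 hX0 (h4'.trans h4'')
    · rw [ht, inv_eq_of_mul_eq_one_right hab]
  · exfalso
    have heven : Nat.gcd 2 (Fintype.card F - 1) = 1 := by
      obtain ⟨f, -, hf⟩ := FiniteField.card F 2
      have h2 : 2 ∣ Fintype.card F := hf ▸ dvd_pow_self 2 f.ne_zero
      exact (Nat.prime_two.coprime_iff_not_dvd).mpr (by omega)
    have := orderOf_dvd_ell hy hn ht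
    rw [heven, Nat.div_one] at this
    exact hxq this

end Cfsg.Agent.S2456
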