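import Cfsg.Statements.S2463
import Cfsg.Agent.Lib.Chev.LargeReeTwoConj
import Cfsg.Agent.Lib.Chev.TitsFive

set_option autoImplicit false
set_option maxRecDepth 100000
open Cfsg

namespace Cfsg.Agent.S2463

/-- Transfer along an isomorphism. -/
theorem transfer {A M : Type*} [Group A] [Group M] (e : A ≃* M)
    (h : ∃ x : A, Odd (orderOf x) ∧ ∀ g : A, g ≠ 1 → ∃ u v : A, g = (u * x * u⁻¹) * (v * x * v⁻¹)) :
    ∃ x : M, Odd (orderOf x) ∧ ∀ g : M, g ≠ 1 → ∃ u v : M, g = (u * x * u⁻¹) * (v * x * v⁻¹) := by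
  obtain ⟨x, hx, h⟩ := h
  refine ⟨e x, by rwa [MulEquiv.orderOf_eq], fun g hg => ?_⟩
  obtain ⟨u, v, huv⟩ := h (e.symm g) (fun he => hg (by simpa using congrArg e he))
  exact ⟨e u, e v, by simpa using congrArg e huv⟩

/-- A form of Thompson's conjecture for the simple groups of type ²F₄ (covering the non-identity elements) with a semisimple class: if M is a large Ree group ²F₄(2^(2m+1)) with m ≥ 1, or the Tits group, then there is an element x of M of odd order such that every non-identity element of M is a product of two conjugates of x. -/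
theorem result {M : Type*} [Group M] [Finite M] (hM : Cfsg.Lie.Iso2F4 M ∨ Cfsg.Lie.IsoTits M) :
    ∃ x : M, Odd (orderOf x) ∧ ∀ g : M, g ≠ 1 → ∃ u v : M, g = (u * x * u⁻¹) * (v * x * v⁻¹) := by
  rcases hM with ⟨K, _, _, m, hm, hK, ⟨e⟩⟩ | h
  · have : CharP K 2 := charP_of_card_eq_prime_pow hK
    obtain ⟨S⟩ := CfsgLib.Chev.exists_setupF4 K hK
    exact transfer e.symm (S.two_conj hm)
  · obtain ⟨e⟩ : Nonempty (M ≃* Cfsg.Lie.TitsGroup) := h
    exact transfer (A := Cfsg.Lie.TitsGroup) e.symm (by exact CfsgLib.Chev.Tits.two_conj)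

end Cfsg.Agent.S2463
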