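import Cfsg.Statements.S2466
import Mathlib

-- import your own Cfsg.Agent.* helpers here

set_option autoImplicit false
open Cfsg

namespace Cfsg.Agent.S2466

/-- Adjacency of odd primes in the prime graph of the alternating groups: let r ≠ s be odd primes at most n. The alternating group of degree n has an element of order r·s if and only if r + s ≤ n. -/
theorem result (n r s : ℕ) (hr : r.Prime) (hs : s.Prime) (hr2 : r ≠ 2) (hs2 : s ≠ 2) (hrs : r ≠ s) (hrn : r ≤ n) (hsn : s ≤ n) :
    (r * s ∈ Set.range (orderOf : alternatingGroup (Fin n) → ℕ)) ↔ r + s ≤ n := by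
  classical
  constructor
  · rintro ⟨g, hg⟩
    have hlcm : (g : Equiv.Perm (Fin n)).cycleType.lcm = r * s := by
      rw [Equiv.Perm.lcm_cycleType, Subgroup.orderOf_coe, hg]
    set t := (g : Equiv.Perm (Fin n)).cycleType with ht
    have hsum : t.sum ≤ n := by simpa using Equiv.Perm.sum_cycleType_le (g : Equiv.Perm (Fin n))
    have key : ∀ q : ℕ, q.Prime → q ∣ t.lcm → ∃ a ∈ t, q ∣ a := by
      intro q hq
      induction t using Multiset.induction with
      | empty => intro h; simp at h; exact absurd h hq.ne_one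
      | cons a u ih =>
        intro h
        rw [Multiset.lcm_cons] at h
        rcases hq.dvd_mul.1 (h.trans (Nat.lcm_dvd_mul a u.lcm)) with h | h
        · exact ⟨a, Multiset.mem_cons_self _ _, h⟩
        · obtain ⟨b, hb, hb'⟩ := ih h
          exact ⟨b, Multiset.mem_cons_of_mem hb, hb'⟩
    obtain ⟨a, ha, hra⟩ := key r hr (hlcm ▸ dvd_mul_right r s)
    obtain ⟨b, hb, hsb⟩ := key s hs (hlcm ▸ dvd_mul_left s r)
    have ha2 : 2 ≤ a := Equiv.Perm.two_le_of_mem_cycleType ha
    have hb2 : 2 ≤ b := Equiv.Perm.two_le_of_mem_cycleType hb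
    by_cases hab : a = b
    · subst hab
      have h1 : r * s ∣ a := ((Nat.coprime_primes hr hs).2 hrs).mul_dvd_of_dvd_of_dvd hra hsb
      have h2 := Nat.le_of_dvd (by omega) h1
      have h3 : a ≤ t.sum := Multiset.le_sum_of_mem ha
      have := hr.two_le
      have := hs.two_le
      nlinarith
    · have h1 : a + b ≤ t.sum := by
        obtain ⟨u, hu⟩ := Multiset.exists_cons_of_mem ha
        rw [hu, Multiset.mem_cons] at hb
        have := Multiset.le_sum_of_mem (hb.resolve_left (Ne.symm hab))
        rw [hu, Multiset.sum_cons]; omega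
      have := Nat.le_of_dvd (by omega) hra
      have := Nat.le_of_dvd (by omega) hsb
      omega
  · intro h
    obtain ⟨g, hg⟩ := (Equiv.Perm.exists_with_cycleType_iff (Fin n) (m := {r, s})).2
      ⟨by simpa using h, by simp [hr.two_le, hs.two_le]⟩
    have hsgn : Equiv.Perm.sign g = 1 := by
      rw [Equiv.Perm.sign_of_cycleType, hg]
      simp [Even.neg_one_pow (Nat.even_iff.2 (show (r + s + 2) % 2 = 0 by
        have := hr.odd_of_ne_two hr2
        have := hs.odd_of_ne_two hs2
        rw [Nat.odd_iff] at *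
        omega))]
    refine ⟨⟨g, Equiv.Perm.mem_alternatingGroup.2 hsgn⟩, ?_⟩
    rw [← Subgroup.orderOf_coe]
    show orderOf g = r * s
    rw [← Equiv.Perm.lcm_cycleType, hg]
    simp only [Multiset.insert_eq_cons, Multiset.lcm_cons, Multiset.lcm_singleton]
    simp [lcm_eq_nat_lcm, ((Nat.coprime_primes hr hs).2 hrs).lcm_eq_mul]

end Cfsg.Agent.S2466
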