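import Cfsg.Statements.S2467
import Mathlib

-- import your own Cfsg.Agent.* helpers here

set_option autoImplicit false
open Cfsg

namespace Cfsg.Agent.S2467

/-- Adjacency of 2 and an odd prime in the prime graph of the alternating groups: let r be an odd prime at most n, with n ≥ 4. The alternating group of degree n has an element of order 2r if and only if r + 4 ≤ n. -/
theorem result (n r : ℕ) (hn : 4 ≤ n) (hr : r.Prime) (hr2 : r ≠ 2) (hrn : r ≤ n) :
    (2 * r ∈ Set.range (orderOf : alternatingGroup (Fin n) → ℕ)) ↔ r + 4 ≤ n := by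
  classical
  constructor
  · rintro ⟨g, hg⟩
    have hlcm : (g : Equiv.Perm (Fin n)).cycleType.lcm = 2 * r := by
      rw [Equiv.Perm.lcm_cycleType, Subgroup.orderOf_coe, hg]
    have hsgn : Equiv.Perm.sign (g : Equiv.Perm (Fin n)) = 1 :=
      Equiv.Perm.mem_alternatingGroup.1 g.2
    rw [Equiv.Perm.sign_of_cycleType] at hsgn
    have hpar : Even ((g : Equiv.Perm (Fin n)).cycleType.sum +
        Multiset.card (g : Equiv.Perm (Fin n)).cycleType) := by
      by_contra hodd
      rw [Nat.not_even_iff_odd] at hodd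
      rw [hodd.neg_one_pow] at hsgn
      exact absurd hsgn (by decide)
    set t := (g : Equiv.Perm (Fin n)).cycleType with ht
    have hsum : t.sum ≤ n := by simpa using Equiv.Perm.sum_cycleType_le (g : Equiv.Perm (Fin n))
    have h2le : ∀ a ∈ t, 2 ≤ a := fun a ha => Equiv.Perm.two_le_of_mem_cycleType ha
    have key : ∀ q : ℕ, q.Prime → q ∣ t.lcm → ∃ a ∈ t, q ∣ a := by
      intro q hq
      induction t using Multiset.induction with
      | empty => intro h; simp at h; exact absurd h hq.ne_one
      | cons a u ih =>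
        intro h
        rw [Multiset.lcm_cons] at h
        rcases hq.dvd_mul.1 (h.trans (Nat.lcm_dvd_mul a u.lcm)) with h | h
        · exact ⟨a, Multiset.mem_cons_self _ _, h⟩
        · obtain ⟨b, hb, hb'⟩ := ih h
          exact ⟨b, Multiset.mem_cons_of_mem hb, hb'⟩
    obtain ⟨a, ha, hra⟩ := key r hr (hlcm ▸ dvd_mul_left r 2)
    obtain ⟨u, hu⟩ := Multiset.exists_cons_of_mem ha
    have hla : a ∣ 2 * r := hlcm ▸ Multiset.dvd_lcm ha
    obtain ⟨k, rfl⟩ := hra
    have hk : k ∣ 2 := Nat.dvd_of_mul_dvd_mul_left hr.pos (by rwa [mul_comm 2 r] at hla)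
    have hrodd := Nat.odd_iff.1 (hr.odd_of_ne_two hr2)
    have hr3 : 3 ≤ r := by have := hr.two_le; omega
    rw [hu, Multiset.sum_cons, Multiset.card_cons, Nat.even_iff] at hpar
    rw [hu, Multiset.sum_cons] at hsum
    rcases (Nat.dvd_prime Nat.prime_two).1 hk with rfl | rfl
    · obtain ⟨b, hb, h2b⟩ := key 2 Nat.prime_two (hlcm ▸ dvd_mul_right 2 r)
      have hbu : b ∈ u := by
        rw [hu, Multiset.mem_cons] at hb
        exact hb.resolve_left (by rintro rfl; omega)
      obtain ⟨v, hv⟩ := Multiset.exists_cons_of_mem hbu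
      rw [hv, Multiset.sum_cons, Multiset.card_cons] at hpar
      rw [hv, Multiset.sum_cons] at hsum
      have hb2 := h2le b (hu ▸ Multiset.mem_cons_of_mem hbu)
      rcases Multiset.empty_or_exists_mem v with rfl | ⟨c, hc⟩
      · simp at hpar
        omega
      · have hc2 := h2le c (by rw [hu, hv]; simp [hc])
        have := Multiset.le_sum_of_mem hc
        omega
    · rcases Multiset.empty_or_exists_mem u with rfl | ⟨c, hc⟩
      · simp at hpar
      · have hc2 := h2le c (by rw [hu]; simp [hc])
        have := Multiset.le_sum_of_mem hc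
        omega
  · intro h
    obtain ⟨g, hg⟩ := (Equiv.Perm.exists_with_cycleType_iff (Fin n) (m := {r, 2, 2})).2
      ⟨by simp; omega, by simp [hr.two_le]⟩
    have hsgn : Equiv.Perm.sign g = 1 := by
      rw [Equiv.Perm.sign_of_cycleType, hg]
      simp [Even.neg_one_pow (Nat.even_iff.2 (show (r + (2 + 2) + 3) % 2 = 0 by
        have := hr.odd_of_ne_two hr2
        rw [Nat.odd_iff] at *
        omega))]
    refine ⟨⟨g, Equiv.Perm.mem_alternatingGroup.2 hsgn⟩, ?_⟩
    rw [← Subgroup.orderOf_coe]
    show orderOf g = 2 * r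
    rw [← Equiv.Perm.lcm_cycleType, hg]
    simp only [Multiset.insert_eq_cons, Multiset.lcm_cons, Multiset.lcm_singleton]
    simp [lcm_eq_nat_lcm, ((Nat.coprime_primes hr Nat.prime_two).2 hr2).lcm_eq_mul, mul_comm]

end Cfsg.Agent.S2467
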