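import Cfsg.Statements.S2471
import Cfsg.Agent.Lib.KnownB.PSL2Elem

-- import your own Cfsg.Agent.* helpers here

set_option autoImplicit false
open Cfsg

namespace Cfsg.Agent.S2471

open CfsgLib.KnownB CfsgLib.KnownB.SL2


/-- In PSL(2,q) with q odd, the characteristic p is isolated from 2 in the prime graph: for F a finite field of odd characteristic p with at least 5 elements, PSL(2,F) has no element of order 2p. -/
theorem result {F : Type*} [Field F] [Fintype F] (p : ℕ) [Fact p.Prime] [CharP F p] (hp : p ≠ 2) (h5 : 5 ≤ Fintype.card F) (g : Matrix.ProjectiveSpecialLinearGroup (Fin 2) F) :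
    orderOf g ≠ 2 * p := by
  intro hg
  have hpp : p.Prime := Fact.out
  have hp3 : 3 ≤ p := by have := hpp.two_le; omega
  have hq1 : 1 < Fintype.card F := Fintype.one_lt_card
  obtain ⟨f, -, hf⟩ := FiniteField.card F p
  have hpq : p ∣ Fintype.card F := hf ▸ dvd_pow_self p f.ne_zero
  rcases orderOf_psl_cases p g with h | h | h <;> rw [hg] at h
  · have := Nat.le_of_dvd hpp.pos h
    omega
  · have h' := (dvd_mul_left p 2).trans (h.trans (Nat.div_dvd_of_dvd (Nat.gcd_dvd_right _ _)))
    have := Nat.le_of_dvd (by omega) (Nat.dvd_sub hpq h')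
    omega
  · have hd : Nat.gcd 2 (Fintype.card F - 1) ∣ Fintype.card F + 1 := by
      have := Nat.dvd_add (Nat.gcd_dvd_right 2 (Fintype.card F - 1))
        (Nat.gcd_dvd_left 2 (Fintype.card F - 1))
      rwa [show Fintype.card F - 1 + 2 = Fintype.card F + 1 by omega] at this
    have h' := (dvd_mul_left p 2).trans (h.trans (Nat.div_dvd_of_dvd hd))
    have := Nat.le_of_dvd (by omega) (Nat.dvd_sub h' hpq)
    omega

end Cfsg.Agent.S2471
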