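import Cfsg.Statements.S2477
import Mathlib

-- import your own Cfsg.Agent.* helpers here

set_option autoImplicit false
open Cfsg

namespace Cfsg.Agent.S2477

/-- Possible (order, parity) of permutations moving at most `k` points, `k ≤ 10`. -/
def cycleTable : List (List (ℕ × ℕ)) :=
   [[(1, 0)],
    [(1, 0)],
    [(1, 0), (2, 1)],
    [(1, 0), (2, 1), (3, 0)],
    [(1, 0), (2, 0), (2, 1), (3, 0), (4, 1)],
    [(1, 0), (2, 0), (2, 1), (3, 0), (4, 1), (5, 0), (6, 1)],
    [(1, 0), (2, 0), (2, 1), (3, 0), (4, 0), (4, 1), (5, 0), (6, 1)],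
    [(1, 0), (2, 0), (2, 1), (3, 0), (4, 0), (4, 1), (5, 0), (6, 0), (6, 1), (7, 0), (10, 1), (12, 1)],
    [(1, 0), (2, 0), (2, 1), (3, 0), (4, 0), (4, 1), (5, 0), (6, 0), (6, 1), (7, 0), (8, 1), (10, 1), (12, 1), (15, 0)],
    [(1, 0), (2, 0), (2, 1), (3, 0), (4, 0), (4, 1), (5, 0), (6, 0), (6, 1), (7, 0), (8, 1), (9, 0), (10, 0), (10, 1), (12, 0), (12, 1), (14, 1), (15, 0), (20, 1)],
    [(1, 0), (2, 0), (2, 1), (3, 0), (4, 0), (4, 1), (5, 0), (6, 0), (6, 1), (7, 0), (8, 0), (8, 1), (9, 0), (10, 0), (10, 1), (12, 0), (12, 1), (14, 1), (15, 0), (20, 1), (21, 0), (30, 1)]]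

theorem cycleTable_check : ((List.range 11).all fun k =>
    (cycleTable.getD k []).contains (1, 0) && (List.range (k + 1)).all fun a => decide (a < 2) ||
      (cycleTable.getD (k - a) []).all fun x =>
        (cycleTable.getD k []).contains (Nat.lcm a x.1, (x.2 + a + 1) % 2)) = true := by
  decide +kernel

theorem cycleTable_closed (k : ℕ) (hk : k < 11) :
    ((1, 0) ∈ cycleTable.getD k []) ∧ ∀ a < k + 1, 2 ≤ a →
      ∀ x ∈ cycleTable.getD (k - a) [],
        (Nat.lcm a x.1, (x.2 + a + 1) % 2) ∈ cycleTable.getD k [] := by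
  have h := cycleTable_check
  simp only [List.all_eq_true, List.mem_range, Bool.and_eq_true, Bool.or_eq_true,
    decide_eq_true_eq, List.contains_iff_mem] at h
  exact ⟨(h k hk).1, fun a ha h2 x hx => ((h k hk).2 a ha).resolve_left (by omega) x hx⟩

theorem mem_cycleTable (t : Multiset ℕ) :
    ∀ k < 11, (∀ a ∈ t, 2 ≤ a) → t.sum ≤ k →
      (t.lcm, (t.sum + Multiset.card t) % 2) ∈ cycleTable.getD k [] := by
  induction t using Multiset.induction with
  | empty => intro k hk _ _; simpa using (cycleTable_closed k hk).1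
  | cons a t ih =>
    intro k hk h2 hs
    rw [Multiset.sum_cons] at hs
    have := (cycleTable_closed k hk).2 a (by omega) (h2 a (Multiset.mem_cons_self _ _)) _
      (ih (k - a) (by omega) (fun b hb => h2 b (Multiset.mem_cons_of_mem hb)) (by omega))
    rw [Multiset.lcm_cons, Multiset.sum_cons, Multiset.card_cons]
    rw [lcm_eq_nat_lcm]
    rw [show (a + t.sum + (Multiset.card t + 1)) % 2 = ((t.sum + Multiset.card t) % 2 + a + 1) % 2 by omega]
    exact this

theorem cycleTable_even :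
    ∀ x ∈ cycleTable.getD 10 [], x.2 = 0 → x.1 ∈ [1, 2, 3, 4, 5, 6, 7, 8, 9, 10, 12, 15, 21] := by
  decide +kernel

theorem exists_order (t : Multiset ℕ) (h2 : ∀ a ∈ t, 2 ≤ a) (hs : t.sum ≤ 10)
    (hp : (t.sum + Multiset.card t) % 2 = 0) :
    t.lcm ∈ Set.range (orderOf : alternatingGroup (Fin 10) → ℕ) := by
  obtain ⟨g, hg⟩ := (Equiv.Perm.exists_with_cycleType_iff (Fin 10) (m := t)).2 ⟨by simpa using hs, h2⟩
  have hsgn : Equiv.Perm.sign g = 1 := by
    rw [Equiv.Perm.sign_of_cycleType, hg, Even.neg_one_pow (Nat.even_iff.2 hp)]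
  refine ⟨⟨g, Equiv.Perm.mem_alternatingGroup.2 hsgn⟩, ?_⟩
  rw [← Subgroup.orderOf_coe, ← hg, Equiv.Perm.lcm_cycleType]


/-- The set of element orders of the alternating group of degree 10 is {1, 2, 3, 4, 5, 6, 7, 8, 9, 10, 12, 15, 21}. -/
theorem result : Set.range (orderOf : alternatingGroup (Fin 10) → ℕ) = {1, 2, 3, 4, 5, 6, 7, 8, 9, 10, 12, 15, 21} := by
  apply Set.eq_of_subset_of_subset
  · rintro _ ⟨g, rfl⟩
    have hsgn : Equiv.Perm.sign (g : Equiv.Perm (Fin 10)) = 1 :=
      Equiv.Perm.mem_alternatingGroup.1 g.2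
    rw [Equiv.Perm.sign_of_cycleType] at hsgn
    have hpar : ((g : Equiv.Perm (Fin 10)).cycleType.sum +
        Multiset.card (g : Equiv.Perm (Fin 10)).cycleType) % 2 = 0 := by
      by_contra hodd
      rw [(Nat.odd_iff.2 (by omega) : Odd _).neg_one_pow] at hsgn
      exact absurd hsgn (by decide)
    have h := mem_cycleTable (g : Equiv.Perm (Fin 10)).cycleType 10 (by norm_num)
      (fun a ha => Equiv.Perm.two_le_of_mem_cycleType ha)
      (by simpa using Equiv.Perm.sum_cycleType_le (g : Equiv.Perm (Fin 10)))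
    have h' := cycleTable_even _ h hpar
    rw [Equiv.Perm.lcm_cycleType, Subgroup.orderOf_coe] at h'
    simpa using h'
  · intro x hx
    simp only [Set.mem_insert_iff, Set.mem_singleton_iff] at hx
    rcases hx with rfl | rfl | rfl | rfl | rfl | rfl | rfl | rfl | rfl | rfl | rfl | rfl | rfl
    · simpa [lcm_eq_nat_lcm, Nat.lcm] using exists_order 0 (by simp) (by simp) (by simp)
    · simpa [lcm_eq_nat_lcm, Nat.lcm] using exists_order {2, 2} (by simp) (by simp) (by simp)
    · simpa [lcm_eq_nat_lcm, Nat.lcm] using exists_order {3} (by simp) (by simp) (by simp)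
    · simpa [lcm_eq_nat_lcm, Nat.lcm] using exists_order {4, 2} (by simp) (by simp) (by simp)
    · simpa [lcm_eq_nat_lcm, Nat.lcm] using exists_order {5} (by simp) (by simp) (by simp)
    · simpa [lcm_eq_nat_lcm, Nat.lcm] using exists_order {3, 2, 2} (by simp) (by simp) (by simp)
    · simpa [lcm_eq_nat_lcm, Nat.lcm] using exists_order {7} (by simp) (by simp) (by simp)
    · simpa [lcm_eq_nat_lcm, Nat.lcm] using exists_order {8, 2} (by simp) (by simp) (by simp)
    · simpa [lcm_eq_nat_lcm, Nat.lcm] using exists_order {9} (by simp) (by simp) (by simp)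
    · simpa [lcm_eq_nat_lcm, Nat.lcm] using exists_order {5, 2, 2} (by simp) (by simp) (by simp)
    · simpa [lcm_eq_nat_lcm, Nat.lcm] using exists_order {4, 6} (by simp) (by simp) (by simp)
    · simpa [lcm_eq_nat_lcm, Nat.lcm] using exists_order {5, 3} (by simp) (by simp) (by simp)
    · simpa [lcm_eq_nat_lcm, Nat.lcm] using exists_order {7, 3} (by simp) (by simp) (by simp)

end Cfsg.Agent.S2477
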