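import Cfsg.Statements.S2479
import Cfsg.Agent.Lib.KnownB.ClassCount

set_option autoImplicit false
open Cfsg

namespace Cfsg.Agent.S2479

/-- The number of conjugacy classes of SL(n,q): for F a finite field with q elements, the number k of conjugacy classes of SL(n,F) satisfies q^(n−1) < k and k ≤ (5/2)·q^(n−1) for n ≥ 2, and k ≤ q^(n−1) + 3q^(n−2) for n ≥ 3. -/
theorem result {F : Type*} [Field F] [Fintype F] (n : ℕ) (hn : 2 ≤ n) :
    Fintype.card F ^ (n - 1) < Nat.card (ConjClasses (Matrix.SpecialLinearGroup (Fin n) F)) ∧ 2 * Nat.card (ConjClasses (Matrix.SpecialLinearGroup (Fin n) F)) ≤ 5 * Fintype.card F ^ (n - 1) ∧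
      (3 ≤ n → Nat.card (ConjClasses (Matrix.SpecialLinearGroup (Fin n) F)) ≤ Fintype.card F ^ (n - 1) + 3 * Fintype.card F ^ (n - 2)) := by
  obtain ⟨q, hqF⟩ : ∃ q, Fintype.card F = q := ⟨_, rfl⟩
  have hq : 2 ≤ q := hqF ▸ Fintype.one_lt_card
  have hk := CfsgLib.KnownB.ClassCount.card_sl_classes_le (F := F) (n := n)
  refine ⟨CfsgLib.KnownB.ClassCount.lt_card_sl_classes hn, ?_⟩
  rw [hqF] at hk ⊢
  rcases eq_or_lt_of_le hn with rfl | hn3
  · refine ⟨?_, fun h => absurd h (by omega)⟩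
    have hB := CfsgLib.KnownB.ClassNum.phiBound_two hq 2
    obtain ⟨s, hs⟩ : ∃ s, q = s + 2 := ⟨q - 2, by omega⟩
    rw [hs] at hk hB ⊢
    simp only [show s + 2 - 1 = s + 1 by omega, show 2 - 1 = 1 from rfl, pow_one] at hk hB ⊢
    have e : (s + 2) ^ 2 = (s + 1) * (s + 3) + 1 := by ring
    refine Nat.le_of_mul_le_mul_right (?_ : _ * (s + 1) ≤ _ * (s + 1)) (Nat.succ_pos s)
    rw [mul_assoc]
    refine le_trans (Nat.mul_le_mul_left 2 (hk.trans hB)) ?_
    split_ifs with hd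
    · have h1 : 1 ≤ s := by omega
      have := Nat.mul_le_mul_right (s + 1) (show 2 * (s + 6) ≤ 5 * (s + 2) by omega)
      have e3 : 2 * ((s + 2) ^ 2 - 1 + 3 * (s + 1)) = 2 * (s + 6) * (s + 1) := by
        rw [e, Nat.add_sub_cancel]; ring
      omega
    · have e3 : 2 * ((s + 2) ^ 2 - 1 + 0) = 2 * (s + 3) * (s + 1) := by
        rw [e, Nat.add_sub_cancel]; ring
      have := Nat.mul_le_mul_right (s + 1) (show 2 * (s + 3) ≤ 5 * (s + 2) by omega)
      omega
  · have hA : Nat.card (ConjClasses (Matrix.SpecialLinearGroup (Fin n) F)) ≤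
        q ^ (n - 1) + 3 * q ^ (n - 2) :=
      Nat.le_of_mul_le_mul_right ((hk.trans (CfsgLib.KnownB.ClassNum.phiBound_main hq n n hn3)).trans
        (le_of_eq (mul_comm _ _))) (by omega)
    refine ⟨?_, fun _ => hA⟩
    have e : q ^ (n - 1) = q ^ (n - 2) * q := by rw [← pow_succ]; congr 1; omega
    have := Nat.mul_le_mul_left (q ^ (n - 2)) hq
    omega

end Cfsg.Agent.S2479
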