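import Cfsg.Statements.S2481
import Cfsg.Agent.Lib.ClassK.GUClassBound
-- import your own Cfsg.Agent.* helpers here

set_option autoImplicit false
open Cfsg

namespace Cfsg.Agent.S2481

/-- The number of conjugacy classes of SU(n,q): for n ≥ 2, q a prime power and F the field with q² elements, the number k of conjugacy classes of SU(n,q) (the determinant-one isometries of the standard Hermitian form on F^n) satisfies q^(n−1) ≤ k ≤ 8.26·q^(n−1). -/
theorem result {F : Type*} [Field F] [Fintype F] (n q : ℕ) (hn : 2 ≤ n) (hF : Fintype.card F = q ^ 2) :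
    q ^ (n - 1) ≤ Nat.card (ConjClasses (Cfsg.SU n F q)) ∧ 100 * Nat.card (ConjClasses (Cfsg.SU n F q)) ≤ 826 * q ^ (n - 1) := by
  obtain ⟨p, _, m, hp, -⟩ := FiniteField.card' F
  haveI := Fact.mk hp
  have hq : 2 ≤ q := by
    by_contra h
    have h1 := Fintype.one_lt_card (α := F)
    rw [hF] at h1
    interval_cases q <;> simp at h1
  refine ⟨?_, ?_⟩
  · rw [← CfsgLib.Classical.SemiUnitaryClasses.natCard_classes_su hF p (n := n) (by omega)]
    exact Nat.card_le_card_of_injective _ Subtype.val_injective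
  · refine Nat.le_of_mul_le_mul_right ?_ (Nat.succ_pos q)
    calc 100 * Nat.card (ConjClasses (Cfsg.SU n F q)) * (q + 1)
        = 100 * (Nat.card (ConjClasses (Cfsg.SU n F q)) * (q + 1)) := mul_assoc _ _ _
      _ ≤ 100 * CfsgLib.ClassK.GUData.uPhi q n n :=
          Nat.mul_le_mul_left _ (CfsgLib.ClassK.GUData.card_su_classes_le hF)
      _ ≤ 826 * ((q + 1) * q ^ (n - 1)) := CfsgLib.ClassK.GUData.uPhi_bound hq n hn n
      _ = 826 * q ^ (n - 1) * (q + 1) := by ring

end Cfsg.Agent.S2481
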