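import Cfsg.Statements.S2482
import Cfsg.Agent.Lib.ClassK.SpClassBound
import Cfsg.Agent.Lib.Classical.SemiSympExists
-- import your own Cfsg.Agent.* helpers here

set_option autoImplicit false
open Cfsg

namespace Cfsg.Agent.S2482

open Matrix CfsgLib.ClassK.IsoData
open scoped Matrix

theorem card_conjClasses_congr {G H : Type*} [Group G] [Group H] (e : G ≃* H) :
    Nat.card (ConjClasses G) = Nat.card (ConjClasses H) :=
  Nat.card_eq_of_bijective (ConjClasses.map e.toMonoidHom)
    ⟨fun a b hab => by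
      obtain ⟨a, rfl⟩ := ConjClasses.mk_surjective a
      obtain ⟨b, rfl⟩ := ConjClasses.mk_surjective b
      have h := ConjClasses.mk_eq_mk_iff_isConj.1 hab
      rw [ConjClasses.mk_eq_mk_iff_isConj]
      simpa using MonoidHom.map_isConj e.symm.toMonoidHom h,
    ConjClasses.map_surjective e.surjective⟩

variable {F : Type*} [Field F] {n : ℕ}

/-- The Gram matrix on `Fin (n + n)`. -/
noncomputable def gramSp (F : Type*) [Field F] (n : ℕ) : Matrix (Fin (n + n)) (Fin (n + n)) F :=
  Matrix.reindexAlgEquiv F F finSumFinEquiv (Matrix.J (Fin n) F)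

theorem reindex_transpose (M : Matrix (Fin n ⊕ Fin n) (Fin n ⊕ Fin n) F) :
    (Matrix.reindexAlgEquiv F F finSumFinEquiv M)ᵀ = Matrix.reindexAlgEquiv F F finSumFinEquiv Mᵀ := rfl

/-- The symplectic group as an isometry group on `Fin (n + n)`. -/
noncomputable def spEquiv : Matrix.symplecticGroup (Fin n) F ≃* ↥(isoGroup (gramSp F n)) :=
  let R := Matrix.reindexAlgEquiv F F (finSumFinEquiv (m := n) (n := n))
  let f : Matrix.symplecticGroup (Fin n) F →* GL (Fin (n + n)) F :=
    ((R.toAlgHom.toRingHom.toMonoidHom).comp (Matrix.symplecticGroup (Fin n) F).subtype).toHomUnits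
  MulEquiv.ofBijective (f.codRestrict (isoGroup (gramSp F n)) fun A => by
      show (R A.1)ᵀ * gramSp F n * R A.1 = gramSp F n
      rw [gramSp, reindex_transpose, ← map_mul, ← map_mul, SymplecticGroup.mem_iff'.1 A.2])
    ⟨fun A B h => Subtype.ext (R.injective (congrArg (fun z : ↥(isoGroup (gramSp F n)) =>
        ((z : GL (Fin (n + n)) F) : Matrix (Fin (n + n)) (Fin (n + n)) F)) h)), fun g => by
      obtain ⟨M, hM⟩ := R.surjective ((g : GL (Fin (n + n)) F) : Matrix (Fin (n + n)) (Fin (n + n)) F)
      refine ⟨⟨M, SymplecticGroup.mem_iff'.2 (R.injective ?_)⟩, Subtype.ext (Units.ext hM)⟩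
      have h := g.2
      rw [mem_isoGroup, ← hM, gramSp, reindex_transpose, ← map_mul, ← map_mul] at h
      exact h⟩

/-- The number of conjugacy classes of Sp(2n,q), q odd: for F a finite field of odd order q and n ≥ 1, the number k of conjugacy classes of Sp(2n,F) satisfies q^n ≤ k ≤ 10.8·q^n. -/
theorem result {F : Type*} [Field F] [Fintype F] (hodd : Odd (Fintype.card F)) (n : ℕ) (hn : 1 ≤ n) :
    Fintype.card F ^ n ≤ Nat.card (ConjClasses (Matrix.symplecticGroup (Fin n) F)) ∧ 5 * Nat.card (ConjClasses (Matrix.symplecticGroup (Fin n) F)) ≤ 54 * Fintype.card F ^ n := by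
  classical
  have h2 : (2 : F) ≠ 0 := fun h => by
    have h' : CharP F 2 := CharTwo.of_one_ne_zero_of_two_eq_zero one_ne_zero h
    exact Nat.not_even_iff_odd.2 hodd (Nat.even_iff.2 (FiniteField.even_card_iff_char_two.1 (ringChar.eq F 2)))
  refine ⟨?_, ?_⟩
  · obtain ⟨p, _, m, hp, -⟩ := FiniteField.card' F
    haveI := Fact.mk hp
    rw [← CfsgLib.Classical.SemiSympExists.natCard_classes (F := F) (n := n) p]
    exact Nat.card_le_card_of_injective _ Subtype.val_injective
  · rw [card_conjClasses_congr (spEquiv (F := F) (n := n))]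
    have hq : 3 ≤ Fintype.card F := by
      have := Fintype.one_lt_card (α := F)
      obtain ⟨k, hk⟩ := hodd
      omega
    have hJs : (gramSp F n)ᵀ = (-1 : F) • gramSp F n := by
      rw [gramSp, reindex_transpose, Matrix.J_transpose, map_neg, neg_one_smul]
    have hJu : IsUnit (gramSp F n) :=
      ((Matrix.isUnit_iff_isUnit_det _).2 (Matrix.isUnit_det_J (Fin n) F)).map _
    have hfl : ∀ l : ℕ, (-1 : F) * (-1) ^ l = if Even l then -1 else 1 := fun l => by
      rcases Nat.even_or_odd l with h | h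
      · rw [if_pos h, h.neg_one_pow, mul_one]
      · rw [if_neg (Nat.not_even_iff_odd.2 h), h.neg_one_pow, neg_one_mul, neg_neg]
    have h := card_classes_le (ε := (-1 : F)) (by norm_num) hJs hJu h2 (fun l => Even l) hfl
    exact (Nat.mul_le_mul_left 5 h).trans (CfsgLib.ClassK.SpBound.sum_wgt_le hq n (n + n) hn rfl)

end Cfsg.Agent.S2482
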