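import Cfsg.Statements.S2485
import Cfsg.Agent.Lib.KnownB.GL2Types
import Cfsg.Agent.Lib.Classical.GLTwoSylow

-- import your own Cfsg.Agent.* helpers here

set_option autoImplicit false
open scoped Pointwise
open Cfsg

namespace Cfsg.Agent.S2485

open Matrix CfsgLib.KnownB CfsgLib.KnownB.GL2

section Aux

variable {F : Type*} [Field F]

theorem center_scalar (g : GL (Fin 2) F) :
    g ∈ Subgroup.center (GL (Fin 2) F) ↔ ∃ a : F, (g : Matrix (Fin 2) (Fin 2) F) = a • 1 := by
  rw [Matrix.GeneralLinearGroup.center_eq_range_scalar]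
  constructor
  · rintro ⟨u, rfl⟩
    exact ⟨u, by simp [← Matrix.smul_one_eq_diagonal]⟩
  · rintro ⟨a, ha⟩
    have ha0 : a ≠ 0 := fun h => det_ne_zero g (by rw [ha, h, zero_smul, Matrix.det_zero])
    exact ⟨Units.mk0 a ha0, Units.ext (by simp [ha, ← Matrix.smul_one_eq_diagonal])⟩

theorem card_center_gl [Fintype F] :
    Nat.card (Subgroup.center (GL (Fin 2) F)) = Fintype.card F - 1 := by
  rw [Matrix.GeneralLinearGroup.center_eq_range_scalar, ← Nat.card_congr
    (MonoidHom.ofInjective (f := Matrix.GeneralLinearGroup.scalar (Fin 2) (R := F)) ?_).toEquiv,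
    Nat.card_units, Nat.card_eq_fintype_card]
  intro u v h
  exact Units.ext (by simpa using congrArg (fun g : GL (Fin 2) F => (g : Matrix (Fin 2) (Fin 2) F) 0 0) h)

end Aux


/-- Let q = 2^k − 1 ≥ 7 be a prime and let G = PGL(2,q), the general linear group of degree 2 over the field with q elements modulo its centre. Then any two Sylow 2-subgroups of G have a non-trivial intersection: for a Sylow 2-subgroup H and every x ∈ G, H ∩ H^x ≠ 1. -/
theorem result {q k : ℕ} [Fact q.Prime] (hk : q + 1 = 2 ^ k) (hq : 7 ≤ q)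
    (H : Sylow 2 (GL (Fin 2) (ZMod q) ⧸ Subgroup.center (GL (Fin 2) (ZMod q))))
    (x : GL (Fin 2) (ZMod q) ⧸ Subgroup.center (GL (Fin 2) (ZMod q))) :
    (H : Subgroup (GL (Fin 2) (ZMod q) ⧸ Subgroup.center (GL (Fin 2) (ZMod q)))) ⊓ MulAut.conj x • (H : Subgroup _) ≠ ⊥ := by
  classical
  obtain ⟨X, rfl⟩ := QuotientGroup.mk'_surjective _ x
  set F := ZMod q
  have hqp : q.Prime := Fact.out
  have hcF : Fintype.card F = q := ZMod.card q
  have h2 : (2 : F) ≠ 0 := by
    intro h
    have : ((2 : ℕ) : F) = 0 := by exact_mod_cast h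
    rw [ZMod.natCast_eq_zero_iff] at this
    have := Nat.le_of_dvd two_pos this
    omega
  set Z := Subgroup.center (GL (Fin 2) F)
  let π : GL (Fin 2) F →* GL (Fin 2) F ⧸ Z := QuotientGroup.mk' Z
  have hπ : Function.Surjective π := QuotientGroup.mk'_surjective Z
  have hcardG : Nat.card (GL (Fin 2) F ⧸ Z) = q * (q - 1) * (q + 1) := by
    have h := Z.index_mul_card
    rw [Subgroup.index_eq_card, card_center_gl, CfsgLib.Classical.card_gl_two, hcF] at h
    refine Nat.eq_of_mul_eq_mul_right (show 0 < q - 1 by omega) ?_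
    rw [h]; ring
  have hqodd : q % 2 = 1 := (hqp.eq_two_or_odd).resolve_left (by omega)
  have hk3 : 3 ≤ k := by
    by_contra hc
    have : 2 ^ k ≤ 2 ^ 2 := Nat.pow_le_pow_right two_pos (by omega)
    omega
  have hfac : (Nat.card (GL (Fin 2) F ⧸ Z)).factorization 2 = k + 1 := by
    rw [hcardG, hk, Nat.factorization_mul (Nat.mul_ne_zero (by omega) (by omega)) (by positivity),
      Nat.factorization_mul (by omega) (by omega), Finsupp.add_apply, Finsupp.add_apply,
      Nat.factorization_eq_zero_of_not_dvd (n := q) (p := 2) (by omega),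
      Nat.prime_two.factorization_pow, Finsupp.single_eq_same]
    have h1 : (q - 1).factorization 2 = 1 := by
      obtain ⟨j, rfl⟩ : ∃ j, k = j + 2 := ⟨k - 2, by omega⟩
      obtain ⟨d, hd⟩ : ∃ d, q - 1 = 2 * d := ⟨(q - 1) / 2, by omega⟩
      have hdodd : ¬ 2 ∣ d := by
        rw [pow_add] at hk
        omega
      rw [hd, Nat.factorization_mul two_ne_zero (by omega), Finsupp.add_apply,
        Nat.prime_two.factorization_self, Nat.factorization_eq_zero_of_not_dvd hdodd]
    rw [h1]; omega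
  have hcardH : Nat.card (H : Subgroup (GL (Fin 2) F ⧸ Z)) = 2 * (q + 1) := by
    rw [show Nat.card (H : Subgroup (GL (Fin 2) F ⧸ Z)) = Nat.card H from rfl, H.card_eq_multiplicity,
      hfac, hk, pow_succ']
  have hfin : Finite (GL (Fin 2) F ⧸ Z) := inferInstance
  haveI : Nontrivial (H : Subgroup (GL (Fin 2) F ⧸ Z)) :=
    Finite.one_lt_card_iff_nontrivial.mp (by omega)
  haveI : Nontrivial (Subgroup.center (H : Subgroup (GL (Fin 2) F ⧸ Z))) :=
    H.isPGroup'.center_nontrivial
  obtain ⟨c, hc⟩ : ∃ c : Subgroup.center (H : Subgroup (GL (Fin 2) F ⧸ Z)), orderOf c = 2 := by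
    have hcc := (H.isPGroup'.to_subgroup (Subgroup.center (H : Subgroup (GL (Fin 2) F ⧸ Z))))
    obtain ⟨m, hm⟩ := hcc.exists_card_eq
    have hm0 : m ≠ 0 := fun h => by
      have := Finite.one_lt_card (α := Subgroup.center (H : Subgroup (GL (Fin 2) F ⧸ Z)))
      rw [hm, h, pow_zero] at this
      omega
    exact exists_prime_orderOf_dvd_card' 2 (hm ▸ dvd_pow_self 2 hm0)
  set t : GL (Fin 2) F ⧸ Z := ((c : (H : Subgroup (GL (Fin 2) F ⧸ Z))) : GL (Fin 2) F ⧸ Z) with ht
  have hto : orderOf t = 2 := by rw [ht, Subgroup.orderOf_coe, Subgroup.orderOf_coe, hc]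
  have htH : t ∈ (H : Subgroup (GL (Fin 2) F ⧸ Z)) := (c : (H : Subgroup (GL (Fin 2) F ⧸ Z))).2
  have hHle : (H : Subgroup (GL (Fin 2) F ⧸ Z)) ≤ Subgroup.centralizer {t} := fun y hy => by
    rw [Subgroup.mem_centralizer_singleton_iff]
    exact congrArg Subtype.val (Subgroup.mem_center_iff.mp c.2 ⟨y, hy⟩)
  obtain ⟨A, hA⟩ := hπ t
  have hAns : NonScalar (A : Matrix (Fin 2) (Fin 2) F) := fun a ha => by
    have : π A = 1 := (QuotientGroup.eq_one_iff A).mpr ((center_scalar A).mpr ⟨a, ha⟩)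
    rw [hA] at this
    rw [this, orderOf_one] at hto
    omega
  have hpi1 : ∀ g : GL (Fin 2) F, π g = 1 ↔ g ∈ Z := fun g => QuotientGroup.eq_one_iff g
  obtain ⟨a0, ha0⟩ : ∃ a : F, ((A * A : GL (Fin 2) F) : Matrix (Fin 2) (Fin 2) F) = a • 1 := by
    refine (center_scalar _).mp ((hpi1 _).mp ?_)
    rw [map_mul, hA, ← sq]
    exact orderOf_dvd_iff_pow_eq_one.mp (dvd_of_eq hto)
  have htrA : (A : Matrix (Fin 2) (Fin 2) F).trace = 0 := by
    rw [Units.val_mul] at ha0
    have e01 := congrFun (congrFun ha0 0) 1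
    have e10 := congrFun (congrFun ha0 1) 0
    have e00 := congrFun (congrFun ha0 0) 0
    have e11 := congrFun (congrFun ha0 1) 1
    simp [Matrix.mul_apply, Fin.sum_univ_two] at e01 e10 e00 e11
    rw [trace_fin_two]
    rcases (nonScalar_iff _).mp hAns with h | h | h
    · exact (mul_eq_zero.mp (show ((A : Matrix (Fin 2) (Fin 2) F) 0 0 + (A : Matrix (Fin 2) (Fin 2) F) 1 1) *
        (A : Matrix (Fin 2) (Fin 2) F) 0 1 = 0 by linear_combination e01)).resolve_right h
    · exact (mul_eq_zero.mp (show ((A : Matrix (Fin 2) (Fin 2) F) 0 0 + (A : Matrix (Fin 2) (Fin 2) F) 1 1) *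
        (A : Matrix (Fin 2) (Fin 2) F) 1 0 = 0 by linear_combination e10)).resolve_right h
    · exact (mul_eq_zero.mp (show ((A : Matrix (Fin 2) (Fin 2) F) 0 0 + (A : Matrix (Fin 2) (Fin 2) F) 1 1) *
        ((A : Matrix (Fin 2) (Fin 2) F) 0 0 - (A : Matrix (Fin 2) (Fin 2) F) 1 1) = 0 by
          linear_combination e00 - e11)).resolve_right (sub_ne_zero.mpr h)
  -- the centraliser of `t` is small
  set P := (Subgroup.centralizer ({t} : Set (GL (Fin 2) F ⧸ Z))).comap π with hP
  have hcardP : Nat.card P = (q - 1) * Nat.card (Subgroup.centralizer ({t} : Set (GL (Fin 2) F ⧸ Z))) := by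
    have h1 := P.index_mul_card
    rw [hP, Subgroup.index_comap_of_surjective _ hπ, ← hP] at h1
    have h2' := (Subgroup.centralizer ({t} : Set (GL (Fin 2) F ⧸ Z))).index_mul_card
    have h3 := Z.index_mul_card
    rw [Subgroup.index_eq_card (H := Z), card_center_gl, hcF, ← h2'] at h3
    refine Nat.eq_of_mul_eq_mul_left (Nat.pos_of_ne_zero Subgroup.index_ne_zero_of_finite) (h1.trans ?_)
    rw [← h3]; ring
  have hPle : Nat.card P ≤ 2 * Nat.card (Subgroup.centralizer ({A} : Set (GL (Fin 2) F))) := by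
    have hsign : ∀ X ∈ P, ((X * A * X⁻¹ : GL (Fin 2) F) : Matrix (Fin 2) (Fin 2) F) = (A : Matrix (Fin 2) (Fin 2) F) ∨
        ((X * A * X⁻¹ : GL (Fin 2) F) : Matrix (Fin 2) (Fin 2) F) = -(A : Matrix (Fin 2) (Fin 2) F) := by
      intro X hX
      rw [hP, Subgroup.mem_comap, Subgroup.mem_centralizer_singleton_iff, ← hA] at hX
      have h1 : π (X * A * X⁻¹ * A⁻¹) = 1 := by
        rw [map_mul, map_mul, map_mul, map_inv, map_inv, hX, mul_inv_cancel_right, mul_inv_cancel]
      obtain ⟨z, hz⟩ := (center_scalar _).mp ((hpi1 _).mp h1)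
      have hz' : ((X * A * X⁻¹ : GL (Fin 2) F) : Matrix (Fin 2) (Fin 2) F) = z • (A : Matrix (Fin 2) (Fin 2) F) := by
        rw [show X * A * X⁻¹ = (X * A * X⁻¹ * A⁻¹) * A by group, Units.val_mul _ A, hz, smul_mul_assoc, one_mul]
      have hd := congrArg Matrix.det hz'
      rw [GL2.det_conj, Matrix.det_smul, Fintype.card_fin] at hd
      have hz2 : z ^ 2 = 1 := mul_right_cancel₀ (det_ne_zero A) (by rw [one_mul]; exact hd.symm)
      rcases sq_eq_one_iff.mp hz2 with rfl | rfl
      · left; rw [hz', one_smul]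
      · right; rw [hz', neg_smul, one_smul]
    let f : P → Prop := fun X =>
      ((X.1 * A * X.1⁻¹ : GL (Fin 2) F) : Matrix (Fin 2) (Fin 2) F) = (A : Matrix (Fin 2) (Fin 2) F)
    have := Fintype.ofFinite P
    rw [Nat.card_eq_fintype_card, ← Finset.card_univ,
      ← Finset.card_filter_add_card_filter_not (fun X => f X), two_mul]
    have hfib : ∀ (S : Finset P), (∀ X ∈ S, ∀ Y ∈ S,
        ((X.1 * A * X.1⁻¹ : GL (Fin 2) F)) = Y.1 * A * Y.1⁻¹) →
        S.card ≤ Nat.card (Subgroup.centralizer ({A} : Set (GL (Fin 2) F))) := by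
      intro S hS
      rcases S.eq_empty_or_nonempty with rfl | ⟨X₀, hX₀⟩
      · simp
      · rw [Nat.card_eq_fintype_card, ← Finset.card_univ]
        refine Finset.card_le_card_of_injOn (fun X : P =>
          if h : X₀.1⁻¹ * X.1 ∈ Subgroup.centralizer ({A} : Set (GL (Fin 2) F)) then
            (⟨_, h⟩ : Subgroup.centralizer ({A} : Set (GL (Fin 2) F))) else 1)
          (fun _ _ => Finset.mem_univ _) ?_
        intro X hX Y hY hXY
        have hm : ∀ W ∈ S, X₀.1⁻¹ * W.1 ∈ Subgroup.centralizer ({A} : Set (GL (Fin 2) F)) := by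
          intro W hW
          rw [Subgroup.mem_centralizer_singleton_iff]
          have e := hS W hW X₀ hX₀
          calc X₀.1⁻¹ * W.1 * A = X₀.1⁻¹ * (W.1 * A * W.1⁻¹) * W.1 := by group
            _ = _ := by rw [e]; group
        simp only [dif_pos (hm X hX), dif_pos (hm Y hY), Subtype.mk.injEq] at hXY
        exact Subtype.ext (mul_left_cancel hXY)
    refine Nat.add_le_add (hfib _ fun X hX Y hY => ?_) (hfib _ fun X hX Y hY => ?_)
    · simp only [Finset.mem_filter, Finset.mem_univ, true_and, f] at hX hY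
      exact Units.ext (hX.trans hY.symm)
    · simp only [Finset.mem_filter, Finset.mem_univ, true_and, f] at hX hY
      exact Units.ext (((hsign X.1 X.2).resolve_left hX).trans ((hsign Y.1 Y.2).resolve_left hY).symm)
  obtain ⟨E, _, _, _, _⟩ := exists_quad F
  have hCle := Subgroup.card_le_of_le hHle
  rw [hcardH] at hCle
  rcases gl_cases E A with ⟨a, -, ha⟩ | ⟨-, a, ha, h1, -⟩ | ⟨a, b, -, -, hab, h1, h3⟩ | ⟨y, hy, h1, h3⟩
  · exact absurd ha (hAns a)
  · rw [htrA, ← two_mul] at h1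
    exact absurd ((mul_eq_zero.mp h1.symm).resolve_left h2) ha
  · exfalso
    have hc' := (centralizer_split hab h1 h3).2
    rw [hcF, show ((q : ℂ) - 1) ^ 2 = (((q - 1) ^ 2 : ℕ) : ℂ) by
      rw [Nat.cast_pow, Nat.cast_sub (by omega), Nat.cast_one]] at hc'
    rw [Nat.cast_inj.mp hc', sq, hcardP] at hPle
    have := hCle.trans (Nat.le_of_mul_le_mul_left (hPle.trans (le_of_eq (mul_left_comm 2 (q - 1) (q - 1))))
      (show 0 < q - 1 by omega))
    omega
  have hc' := (centralizer_ell hy h1 h3).2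
  rw [hcF, show (q : ℂ) ^ 2 - 1 = (((q - 1) * (q + 1) : ℕ) : ℂ) by
    rw [Nat.cast_mul, Nat.cast_sub (by omega), Nat.cast_add, Nat.cast_one]; ring] at hc'
  rw [Nat.cast_inj.mp hc', hcardP] at hPle
  have hCH : Subgroup.centralizer ({t} : Set (GL (Fin 2) F ⧸ Z)) = (H : Subgroup (GL (Fin 2) F ⧸ Z)) :=
    (Subgroup.eq_of_le_of_card_ge hHle (by
      rw [hcardH]
      exact Nat.le_of_mul_le_mul_left (hPle.trans (le_of_eq (by ring))) (show 0 < q - 1 by omega))).symm
  have hnoeig : ∀ (c : F) (v : Fin 2 → F), v ≠ 0 → (A : Matrix (Fin 2) (Fin 2) F).mulVec v ≠ c • v := by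
    intro c v hv he
    have hdet : ((A : Matrix (Fin 2) (Fin 2) F) - c • 1).det = 0 :=
      Matrix.exists_mulVec_eq_zero_iff.mp ⟨v, hv, by
        rw [Matrix.sub_mulVec, Matrix.smul_mulVec, Matrix.one_mulVec, he, sub_self]⟩
    have hmem : c ∈ roots (A : Matrix (Fin 2) (Fin 2) F).trace (A : Matrix (Fin 2) (Fin 2) F).det := by
      simp only [roots, Finset.mem_filter, Finset.mem_univ, true_and, trace_fin_two, det_fin_two]
      simp [det_fin_two] at hdet
      linear_combination -hdet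
    rw [roots_eq_empty_of_mem hy h1.symm h3.symm] at hmem
    exact Finset.notMem_empty _ hmem
  -- a common centralising element
  set A₁ := X * A * X⁻¹ with hA1
  set C : Matrix (Fin 2) (Fin 2) F :=
    (A : Matrix (Fin 2) (Fin 2) F) * A₁ - (A₁ : Matrix (Fin 2) (Fin 2) F) * A with hCdef
  rw [Subgroup.ne_bot_iff_exists_ne_one]
  suffices key : ∃ y : GL (Fin 2) F, π y ≠ 1 ∧ Commute (π y) t ∧ Commute (π y) (π X * t * (π X)⁻¹) by
    obtain ⟨y, hy1, hy2, hy3⟩ := key
    refine ⟨⟨π y, ⟨hCH ▸ Subgroup.mem_centralizer_singleton_iff.mpr hy2.eq, ?_⟩⟩,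
      fun h => hy1 (congrArg Subtype.val h)⟩
    refine ⟨(π X)⁻¹ * π y * π X, hCH ▸ Subgroup.mem_centralizer_singleton_iff.mpr ?_, ?_⟩
    · calc (π X)⁻¹ * π y * π X * t = (π X)⁻¹ * (π y * (π X * t * (π X)⁻¹)) * π X := by group
        _ = t * ((π X)⁻¹ * π y * π X) := by rw [hy3.eq]; group
    · show π X * ((π X)⁻¹ * π y * π X) * (π X)⁻¹ = π y
      group
  have hA1t : π A₁ = π X * t * (π X)⁻¹ := by rw [hA1, map_mul, map_mul, map_inv, hA]
  rw [← hA1t]
  have hA1sq : ((A₁ * A₁ : GL (Fin 2) F) : Matrix (Fin 2) (Fin 2) F) = a0 • 1 := by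
    rw [show A₁ * A₁ = X * (A * A) * X⁻¹ by rw [hA1]; group, scalar_conj ha0, ha0]
  rw [Units.val_mul] at ha0 hA1sq
  by_cases hC0 : C = 0
  · refine ⟨A, fun h => ?_, ?_, ?_⟩
    · rw [hA] at h; rw [h, orderOf_one] at hto; omega
    · rw [hA]
    · exact (Commute.map (show Commute A A₁ from Units.ext (sub_eq_zero.mp hC0)) π)
  · have hanti : C * A = -((A : Matrix (Fin 2) (Fin 2) F) * C) ∧
        C * A₁ = -((A₁ : Matrix (Fin 2) (Fin 2) F) * C) := by
      constructor
      · rw [hCdef, sub_mul, mul_sub, mul_assoc _ _ (A : Matrix (Fin 2) (Fin 2) F), mul_assoc (A₁ : Matrix (Fin 2) (Fin 2) F),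
          ha0, ← mul_assoc (A : Matrix (Fin 2) (Fin 2) F) A, ha0]
        simp [neg_sub]
      · rw [hCdef, sub_mul, mul_sub, mul_assoc (A : Matrix (Fin 2) (Fin 2) F), hA1sq,
          ← mul_assoc (A₁ : Matrix (Fin 2) (Fin 2) F) A₁, hA1sq, mul_assoc (A₁ : Matrix (Fin 2) (Fin 2) F)]
        simp [neg_sub]
    have hdet : C.det ≠ 0 := by
      intro h0
      obtain ⟨v, hv, hCv⟩ := Matrix.exists_mulVec_eq_zero_iff.mpr h0
      set u := (A : Matrix (Fin 2) (Fin 2) F).mulVec v with hu
      have hCu : C.mulVec u = 0 := by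
        rw [hu, Matrix.mulVec_mulVec, hanti.1, Matrix.neg_mulVec, ← Matrix.mulVec_mulVec, hCv,
          Matrix.mulVec_zero, neg_zero]
      by_cases hind : v 0 * u 1 - v 1 * u 0 = 0
      · by_cases hv0 : v 0 = 0
        · have hv1 : v 1 ≠ 0 := fun h => hv (funext fun i => by fin_cases i <;> assumption)
          refine hnoeig (u 1 / v 1) v hv (funext fun i => ?_)
          fin_cases i
          · rw [hv0, zero_mul, zero_sub, neg_eq_zero] at hind
            simp [hv0, ← hu, (mul_eq_zero.mp hind).resolve_left hv1]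
          · show u 1 = u 1 / v 1 * v 1
            rw [div_mul_cancel₀ _ hv1]
        · refine hnoeig (u 0 / v 0) v hv (funext fun i => ?_)
          fin_cases i
          · show u 0 = u 0 / v 0 * v 0
            rw [div_mul_cancel₀ _ hv0]
          · show u 1 = u 0 / v 0 * v 1
            rw [div_mul_eq_mul_div, eq_div_iff hv0]
            linear_combination hind
      · refine hC0 ?_
        have hM : C * !![v 0, u 0; v 1, u 1] = 0 := by
          have e0 := congrFun hCv
          have e1 := congrFun hCu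
          simp [Matrix.mulVec, dotProduct, Fin.sum_univ_two] at e0 e1
          ext i j
          fin_cases j <;> fin_cases i <;> simp [Matrix.mul_apply, Fin.sum_univ_two, e0, e1]
        have hu' : IsUnit (!![v 0, u 0; v 1, u 1] : Matrix (Fin 2) (Fin 2) F) :=
          (Matrix.isUnit_iff_isUnit_det _).mpr (isUnit_iff_ne_zero.mpr (by
            rw [det_fin_two_of]; intro h; exact hind (by linear_combination h)))
        exact hu'.mul_left_eq_zero.mp hM
    have hcomm : ∀ Y : GL (Fin 2) F, C * Y = -((Y : Matrix (Fin 2) (Fin 2) F) * C) →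
        Commute (π (GeneralLinearGroup.mkOfDetNeZero C hdet)) (π Y) := by
      intro Y hY
      show π _ * π Y = π Y * π _
      rw [← map_mul, ← map_mul]
      refine (eq_of_mul_inv_eq_one ?_).symm.symm
      rw [← map_inv, ← map_mul, hpi1, center_scalar]
      refine ⟨-1, ?_⟩
      rw [Units.val_mul, show ((GeneralLinearGroup.mkOfDetNeZero C hdet * Y : GL (Fin 2) F) : Matrix (Fin 2) (Fin 2) F) =
        (-1 : F) • ((Y * GeneralLinearGroup.mkOfDetNeZero C hdet : GL (Fin 2) F) : Matrix (Fin 2) (Fin 2) F) by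
          rw [neg_smul, one_smul]; exact hY, smul_mul_assoc, ← Units.val_mul, mul_inv_cancel, Units.val_one]
    refine ⟨GeneralLinearGroup.mkOfDetNeZero C hdet, ?_, hA ▸ hcomm A hanti.1, hcomm A₁ hanti.2⟩
    intro h
    obtain ⟨c', hc'⟩ := (center_scalar _).mp ((hpi1 _).mp h)
    have hc'' : C = c' • 1 := hc'
    have htr := congrArg Matrix.trace hc''
    rw [hCdef, Matrix.trace_sub, Matrix.trace_mul_comm (A : Matrix (Fin 2) (Fin 2) F), sub_self,
      Matrix.trace_smul, Matrix.trace_one, Fintype.card_fin, smul_eq_mul] at htr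
    push_cast at htr
    rw [(mul_eq_zero.mp htr.symm).resolve_right h2, zero_smul] at hc''
    exact hdet (by rw [hc'', Matrix.det_zero])

end Cfsg.Agent.S2485
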