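import Cfsg.Statements.S2500
import Cfsg.Agent.Lib.NormalCover.SL
import Cfsg.Agent.Lib.NormalCover.SpEven
import Cfsg.Agent.Lib.NormalCover.G2
import Cfsg.Agent.Lib.NormalCover.UnitaryFour
import Cfsg.Agent.Lib.NormalCover.UnitaryThree
import Cfsg.Agent.Lib.NormalCover.SpSix

set_option autoImplicit false
open Cfsg

namespace Cfsg.Agent.S2500

/-- The infinite families of simple groups with normal covering number 2. For a finite field F: each of PSL_2(F) (|F| ≥ 4), PSL_3(F), PSL_4(F), PSU_4 over F (|F| = q²), PSU_3 over F when |F| = q² with q a power of 3, PSp_{2m}(F) for |F| even, m ≥ 2 and (m, |F|) ≠ (2, 2), PSp_6(F) for |F| a power of 3, and G_2(F) (automorphisms of the split octonions) for |F| = 2^a ≥ 4 is the union of the conjugates of two proper subgroups: there are proper subgroups H, K such that every element is conjugate into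 H or into K. -/
theorem result {F : Type} [Field F] [Fintype F] :
    (4 ≤ Fintype.card F → (∃ H K : Subgroup (Matrix.ProjectiveSpecialLinearGroup (Fin 2) F), H ≠ ⊤ ∧ K ≠ ⊤ ∧ ∀ g : (Matrix.ProjectiveSpecialLinearGroup (Fin 2) F), ∃ x : (Matrix.ProjectiveSpecialLinearGroup (Fin 2) F), x * g * x⁻¹ ∈ H ∨ x * g * x⁻¹ ∈ K)) ∧
    (∃ H K : Subgroup (Matrix.ProjectiveSpecialLinearGroup (Fin 3) F), H ≠ ⊤ ∧ K ≠ ⊤ ∧ ∀ g : (Matrix.ProjectiveSpecialLinearGroup (Fin 3) F), ∃ x : (Matrix.ProjectiveSpecialLinearGroup (Fin 3) F), x * g * x⁻¹ ∈ H ∨ x * g * x⁻¹ ∈ K) ∧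
    (∃ H K : Subgroup (Matrix.ProjectiveSpecialLinearGroup (Fin 4) F), H ≠ ⊤ ∧ K ≠ ⊤ ∧ ∀ g : (Matrix.ProjectiveSpecialLinearGroup (Fin 4) F), ∃ x : (Matrix.ProjectiveSpecialLinearGroup (Fin 4) F), x * g * x⁻¹ ∈ H ∨ x * g * x⁻¹ ∈ K) ∧
    (∀ q : ℕ, Fintype.card F = q ^ 2 → (∃ H K : Subgroup (Cfsg.PSU 4 F q), H ≠ ⊤ ∧ K ≠ ⊤ ∧ ∀ g : (Cfsg.PSU 4 F q), ∃ x : (Cfsg.PSU 4 F q), x * g * x⁻¹ ∈ H ∨ x * g * x⁻¹ ∈ K)) ∧
    (∀ q a : ℕ, Fintype.card F = q ^ 2 → 1 ≤ a → q = 3 ^ a → (∃ H K : Subgroup (Cfsg.PSU 3 F q), H ≠ ⊤ ∧ K ≠ ⊤ ∧ ∀ g : (Cfsg.PSU 3 F q), ∃ x : (Cfsg.PSU 3 F q), x * g * x⁻¹ ∈ H ∨ x * g * x⁻¹ ∈ K)) ∧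
    (∀ m : ℕ, 2 ≤ m → ¬ Odd (Fintype.card F) → ¬ (m = 2 ∧ Fintype.card F = 2) → (∃ H K : Subgroup (Cfsg.PSp m F), H ≠ ⊤ ∧ K ≠ ⊤ ∧ ∀ g : (Cfsg.PSp m F), ∃ x : (Cfsg.PSp m F), x * g * x⁻¹ ∈ H ∨ x * g * x⁻¹ ∈ K)) ∧
    (∀ a : ℕ, 1 ≤ a → Fintype.card F = 3 ^ a → (∃ H K : Subgroup (Cfsg.PSp 3 F), H ≠ ⊤ ∧ K ≠ ⊤ ∧ ∀ g : (Cfsg.PSp 3 F), ∃ x : (Cfsg.PSp 3 F), x * g * x⁻¹ ∈ H ∨ x * g * x⁻¹ ∈ K)) ∧
    (∀ a : ℕ, 2 ≤ a → Fintype.card F = 2 ^ a → (∃ H K : Subgroup (Cfsg.Lie.G2 F), H ≠ ⊤ ∧ K ≠ ⊤ ∧ ∀ g : (Cfsg.Lie.G2 F), ∃ x : (Cfsg.Lie.G2 F), x * g * x⁻¹ ∈ H ∨ x * g * x⁻¹ ∈ K)) := by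
  have hchar : ∀ p a : ℕ, p.Prime → Fintype.card F = p ^ a → (p : F) = 0 := fun p a hp h => by
    have h0 := Nat.cast_card_eq_zero (R := F)
    rw [h, Nat.cast_pow] at h0
    exact eq_zero_of_pow_eq_zero h0
  have htwo : ¬ Odd (Fintype.card F) → (2 : F) = 0 := fun h => by
    obtain ⟨c, hc⟩ := CharP.exists F
    obtain ⟨k, hcp, hk⟩ := FiniteField.card F c
    have : (2 : ℕ) ∣ c := by
      have h2 : 2 ∣ Fintype.card F := even_iff_two_dvd.1 (Nat.not_odd_iff_even.1 h)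
      rw [hk] at h2
      exact Nat.prime_two.dvd_of_dvd_pow h2
    exact_mod_cast (CharP.cast_eq_zero_iff F c 2).2 ((Nat.prime_dvd_prime_iff_eq Nat.prime_two hcp).1 this ▸ dvd_rfl)
  exact ⟨fun _ => CfsgLib.NormalCover.psl_small_covered (Or.inl rfl),
    CfsgLib.NormalCover.psl_small_covered (Or.inr (Or.inl rfl)),
    CfsgLib.NormalCover.psl_small_covered (Or.inr (Or.inr rfl)),
    fun q hF => CfsgLib.NormalCover.Unitary.psu_four_covered hF,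
    fun q a hF ha hq => CfsgLib.NormalCover.Unitary.psu_three_covered hF ha hq,
    fun m hm hodd _ => CfsgLib.NormalCover.psp_covered_even (htwo hodd) hm,
    fun a _ h => CfsgLib.NormalCover.SpSix.psp_six_covered (by simpa using hchar 3 a Nat.prime_three h),
    fun a _ h => CfsgLib.NormalCover.g2_covered (by simpa using hchar 2 a Nat.prime_two h)⟩

end Cfsg.Agent.S2500
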