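import Cfsg.Statements.S2507
import Cfsg.Agent.Lib.Geom.PSLTwoCentralizer
-- import your own Cfsg.Agent.* helpers here

set_option autoImplicit false
open Cfsg CfsgLib.Geom

namespace Cfsg.Agent.S2507

/-- Let F be a finite field with q = 2^f ≥ 4 elements. The conjugacy class sizes of PSL(2,F) are exactly 1, q(q − 1), q² − 1 and q(q + 1). -/
theorem result {F : Type*} [Field F] [Fintype F]
    (h2 : 2 ∣ Fintype.card F) (h4 : 4 ≤ Fintype.card F) :
    Set.range (fun g : (Matrix.ProjectiveSpecialLinearGroup (Fin 2) F) => (Subgroup.centralizer ({g} : Set (Matrix.ProjectiveSpecialLinearGroup (Fin 2) F))).index) =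
      {1, Fintype.card F * (Fintype.card F - 1), Fintype.card F ^ 2 - 1, Fintype.card F * (Fintype.card F + 1)} := by
  classical
  obtain ⟨E, _, _, f, hE, hQC⟩ := Moebius.exists_quadExt F
  have heven : Even (Fintype.card F) := even_iff_two_dvd.2 h2
  set q := Fintype.card F with hq
  have hd := Moebius.gcd_two_of_even (F := F) heven
  have hG := Moebius.card_psl_two_split (F := F)
  rw [hd, one_mul, ← hq] at hG
  obtain ⟨j, hj⟩ := h2
  -- index times centraliser order
  have hidx : ∀ g : Matrix.ProjectiveSpecialLinearGroup (Fin 2) F, (Subgroup.centralizer ({g} : Set _)).index *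
      Nat.card (Subgroup.centralizer ({g} : Set (Matrix.ProjectiveSpecialLinearGroup (Fin 2) F))) =
      (q + 1) * (q * (q - 1)) := fun g => hG ▸ (Subgroup.centralizer ({g} : Set _)).index_mul_card
  have hsq : q ^ 2 - 1 = (q + 1) * (q - 1) := by rw [← Nat.sq_sub_sq, one_pow]
  have val : ∀ g : Matrix.ProjectiveSpecialLinearGroup (Fin 2) F, g ≠ 1 →
      (Nat.card (Subgroup.centralizer ({g} : Set _)) = q ∧ (Subgroup.centralizer ({g} : Set _)).index = q ^ 2 - 1) ∨
      (orderOf g ∣ q - 1 ∧ (Subgroup.centralizer ({g} : Set _)).index = q * (q + 1)) ∨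
      (orderOf g ∣ q + 1 ∧ (Subgroup.centralizer ({g} : Set _)).index = q * (q - 1)) := by
    intro g hg
    have h := hidx g
    rcases Moebius.card_centralizer_cases f hE hQC h4 g hg with e | ⟨k, hk, hdvd, -, hne⟩
    · left
      rw [e] at h
      refine ⟨e, Nat.eq_of_mul_eq_mul_right (show 0 < q by omega) ?_⟩
      rw [h, hsq]; ring
    · have hgg : g * g ≠ 1 := by
        intro e
        have h2' : orderOf g = 2 := orderOf_eq_prime (by rw [sq]; exact e) hg
        rw [h2'] at hdvd
        rw [hd, one_mul, ← hq] at hk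
        obtain ⟨c, hc⟩ := hdvd
        omega
      rw [hd, one_mul, ← hq] at hk
      rw [hne hgg] at h
      right
      rcases hk with rfl | rfl
      · refine Or.inl ⟨hdvd, Nat.eq_of_mul_eq_mul_right (show 0 < q - 1 by omega) ?_⟩
        rw [h]; ring
      · refine Or.inr ⟨hdvd, Nat.eq_of_mul_eq_mul_right (show 0 < q + 1 by omega) ?_⟩
        rw [h]; ring
  have hcop : ¬ (q - 1 ∣ q + 1) ∧ ¬ (q + 1 ∣ q - 1) ∧ ¬ (q - 1 ∣ q) ∧ ¬ (q + 1 ∣ q) := by
    refine ⟨fun h => ?_, fun h => ?_, fun h => ?_, fun h => ?_⟩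
    · have h1 := Nat.dvd_sub h (dvd_refl (q - 1))
      have := Nat.le_of_dvd (by omega) h1
      omega
    · have := Nat.le_of_dvd (by omega) h
      omega
    · have h1 := Nat.dvd_sub h (dvd_refl (q - 1))
      have := Nat.le_of_dvd (by omega) h1
      omega
    · have := Nat.le_of_dvd (by omega) h
      omega
  ext i
  simp only [Set.mem_range, Set.mem_insert_iff, Set.mem_singleton_iff]
  constructor
  · rintro ⟨g, rfl⟩
    by_cases hg : g = 1
    · left
      rw [hg, Subgroup.index_eq_one, Subgroup.eq_top_iff']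
      exact fun x => Subgroup.mem_centralizer_singleton_iff.2 (by simp)
    · rcases val g hg with ⟨-, e⟩ | ⟨-, e⟩ | ⟨-, e⟩
      · exact Or.inr (Or.inr (Or.inl e))
      · exact Or.inr (Or.inr (Or.inr e))
      · exact Or.inr (Or.inl e)
  · have mem : ∀ g : Matrix.ProjectiveSpecialLinearGroup (Fin 2) F,
        orderOf g ∣ Nat.card (Subgroup.centralizer ({g} : Set (Matrix.ProjectiveSpecialLinearGroup (Fin 2) F))) := by
      intro g
      rw [← Subgroup.orderOf_mk g (Subgroup.mem_centralizer_singleton_iff.2 rfl)]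
      exact orderOf_dvd_natCard _
    rintro (rfl | rfl | rfl | rfl)
    · refine ⟨1, ?_⟩
      rw [Subgroup.index_eq_one, Subgroup.eq_top_iff']
      exact fun x => Subgroup.mem_centralizer_singleton_iff.2 (by simp)
    · obtain ⟨g, hg⟩ := Moebius.exists_psl_of_dvd f hE hQC h4 (k := q + 1) dvd_rfl (Or.inr (by rw [hd, one_mul]))
      have hg1 : g ≠ 1 := fun e => by rw [e, orderOf_one] at hg; omega
      refine ⟨g, ?_⟩
      rcases val g hg1 with ⟨e, -⟩ | ⟨e, -⟩ | ⟨-, e⟩
      · have h := mem g; rw [hg, e] at h; exact absurd h hcop.2.2.2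
      · exact absurd (hg ▸ e) hcop.2.1
      · exact e
    · obtain ⟨g, hg, hc⟩ := Moebius.exists_unipotent_centralizer f hE hQC
      refine ⟨g, ?_⟩
      have h := hidx g
      rw [hc, ← hq] at h
      refine Nat.eq_of_mul_eq_mul_right (show 0 < q by omega) ?_
      rw [h, hsq]; ring
    · obtain ⟨g, hg⟩ := Moebius.exists_psl_of_dvd f hE hQC h4 (k := q - 1) dvd_rfl (Or.inl (by rw [hd, one_mul]))
      have hg1 : g ≠ 1 := fun e => by rw [e, orderOf_one] at hg; omega
      refine ⟨g, ?_⟩
      rcases val g hg1 with ⟨e, -⟩ | ⟨-, e⟩ | ⟨e, -⟩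
      · have h := mem g; rw [hg, e] at h; exact absurd h hcop.2.2.1
      · exact e
      · exact absurd (hg ▸ e) hcop.1
end Cfsg.Agent.S2507
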