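import Cfsg.Statements.S2510
import Cfsg.Agent.Lib.KnownC.Spectra
import Cfsg.Agent.Lib.KnownC.AlgebraEmbed
import Cfsg.Agent.Lib.KnownC.MatrixPrimary
-- import your own Cfsg.Agent.* helpers here

set_option autoImplicit false
open Cfsg

namespace Cfsg.Agent.S2510

open CfsgLib.KnownC Polynomial

variable {F : Type*} [Field F] [Fintype F]

/-- A common bound for the orders of the elements with no commuting element of order `r`. -/
theorem order_bound (p : ℕ) [Fact p.Prime] [CharP F p] {n r e : ℕ} (hn : 2 ≤ n) (hr : r.Prime) (hrn : ¬ r ∣ n)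
    (ζ : F) (hζ : orderOf ζ = r) (he : n ≤ p ^ (e + 1)) :
    ∃ w : Matrix.ProjectiveSpecialLinearGroup (Fin n) F, (orderOf w).Coprime p ∧
      ∀ y : Matrix.ProjectiveSpecialLinearGroup (Fin n) F,
      (∃ y' : Matrix.ProjectiveSpecialLinearGroup (Fin n) F, orderOf y ∣ orderOf y' ∧ r ∣ orderOf y') ∨
        orderOf y ∣ orderOf w * p ^ (e + 1) := by
  classical
  have : NeZero n := ⟨by omega⟩
  let E := FiniteField.Extension F p n
  have : FiniteDimensional F E := Module.finite_of_finrank_pos (by rw [FiniteField.finrank_extension]; omega)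
  let b : Module.Basis (Fin n) F E :=
    (Module.finBasis F E).reindex (finCongr (FiniteField.finrank_extension F p n))
  let ψ : E →ₐ[F] Matrix (Fin n) (Fin n) F := Algebra.leftMulMatrix b
  have hψ : Function.Injective ψ := Algebra.leftMulMatrix_injective b
  let δ : Eˣ →* F := (Matrix.detMonoidHom).comp (ψ.toRingHom.toMonoidHom.comp (Units.coeHom E))
  let U : Subgroup Eˣ := δ.ker
  let τ : ↥U →* Matrix.SpecialLinearGroup (Fin n) F :=
    { toFun := fun u => ⟨ψ ((u : Eˣ) : E), u.2⟩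
      map_one' := Subtype.ext (by simp)
      map_mul' := fun u v => Subtype.ext (map_mul ψ _ _) }
  obtain ⟨u₀, hu₀⟩ := IsCyclic.exists_generator (α := ↥U)
  let π := QuotientGroup.mk' (Subgroup.center (Matrix.SpecialLinearGroup (Fin n) F))
  refine ⟨π (τ u₀), ?_, fun y => ?_⟩
  · refine Nat.Coprime.coprime_dvd_left ((orderOf_map_dvd π _).trans (orderOf_map_dvd τ u₀)) ?_
    rw [Nat.coprime_comm, (Fact.out : p.Prime).coprime_iff_not_dvd]
    intro hdvd
    have hu := orderOf_pow_orderOf_div (orderOf_pos u₀).ne' hdvd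
    set x := u₀ ^ (orderOf u₀ / p)
    have hx : ((x : Eˣ) : E) ^ p = 1 := by
      have h1 : x ^ p = 1 := orderOf_dvd_iff_pow_eq_one.1 hu.dvd
      simpa using congrArg (fun z : ↥U => ((z : Eˣ) : E)) h1
    have hx1 : ((x : Eˣ) : E) = 1 := by
      have : CharP E p := charP_of_injective_algebraMap' F p
      have h2 : (((x : Eˣ) : E) - 1) ^ p = 0 := by rw [sub_pow_char, hx, one_pow, sub_self]
      exact sub_eq_zero.1 (eq_zero_of_pow_eq_zero h2)
    rw [show x = 1 from Subtype.ext (Units.ext hx1), orderOf_one] at hu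
    exact (Fact.out : p.Prime).one_lt.ne hu
  obtain ⟨g, rfl⟩ := QuotientGroup.mk'_surjective _ y
  by_cases hext : r ∣ orderOf (π g)
  · exact Or.inl ⟨π g, dvd_rfl, hext⟩
  rcases idempotent_or_primary (by omega : 0 < n) (g : Matrix (Fin n) (Fin n) F) with
    ⟨P, hP, hPA, hP0, hP1⟩ | ⟨P, j, hPm, hP, hchar⟩
  · left
    obtain ⟨z, hzr, hzc, hzg⟩ := exists_SL_of_idempotent hrn hr ζ hζ _ P hP hPA hP0 hP1
    have hπz : orderOf (π z) = r := by
      have := Fact.mk hr
      refine orderOf_eq_prime (by rw [← map_pow, hzr, map_one]) ?_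
      rwa [Ne, QuotientGroup.mk'_apply, QuotientGroup.eq_one_iff]
    have hcomm : Commute (π g) (π z) :=
      Commute.map (show g * z = z * g from Subtype.ext hzg.symm.eq) π
    have hcop : (orderOf (π g)).Coprime (orderOf (π z)) := by
      rw [hπz]; exact ((hr.coprime_iff_not_dvd).2 hext).symm
    refine ⟨π g * π z, ?_, ?_⟩
    · rw [hcomm.orderOf_mul_eq_mul_orderOf_of_coprime hcop]; exact dvd_mul_right _ _
    · rw [hcomm.orderOf_mul_eq_mul_orderOf_of_coprime hcop, hπz]; exact dvd_mul_left _ _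
  · right
    have : Fact (Irreducible P) := ⟨hP⟩
    have hnj : n = j * P.natDegree := by
      have := congrArg natDegree hchar
      rwa [Matrix.charpoly_natDegree_eq_dim, Fintype.card_fin, natDegree_pow] at this
    have hfin : Module.finrank F (AdjoinRoot P) = P.natDegree := by
      rw [(AdjoinRoot.powerBasis hP.ne_zero).finrank, AdjoinRoot.powerBasis_dim]
    have : FiniteDimensional F (AdjoinRoot P) := (AdjoinRoot.powerBasis hP.ne_zero).finite
    have : Finite (AdjoinRoot P) := Module.finite_of_finite F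
    obtain ⟨emb⟩ := FiniteField.nonempty_algHom_of_finrank_dvd (F := F) (K := AdjoinRoot P) (L := E)
      (by rw [hfin, FiniteField.finrank_extension]; exact ⟨j, by rw [mul_comm]; exact hnj⟩)
    set β : E := emb (AdjoinRoot.root P) with hβ
    have hβP : aeval β P = 0 := by
      rw [hβ, aeval_algHom_apply, AdjoinRoot.aeval_eq, AdjoinRoot.mk_self, map_zero]
    obtain ⟨j', hj'⟩ := charpoly_eq_pow_of_aeval_pow_eq_zero (ψ β) hP hPm (m := 1)
      (by rw [pow_one, aeval_algHom_apply, hβP, map_zero])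
    have hjj : j' = j := by
      have := congrArg natDegree hj'
      rw [Matrix.charpoly_natDegree_eq_dim, Fintype.card_fin, natDegree_pow, hnj] at this
      exact (Nat.eq_of_mul_eq_mul_right hP.natDegree_pos this).symm
    have hdet : (ψ β).det = 1 := by
      rw [Matrix.det_eq_sign_charpoly_coeff, hj', hjj, ← hchar, ← Matrix.det_eq_sign_charpoly_coeff]
      exact g.2
    have hβ0 : β ≠ 0 := fun h => by rw [h, map_zero, Matrix.det_zero] at hdet; exact zero_ne_one hdet
    let u : ↥U := ⟨Units.mk0 β hβ0, hdet⟩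
    set M := orderOf (π (τ u₀))
    have hM : π (τ u) ^ M = 1 := by
      obtain ⟨i, hi⟩ := Subgroup.mem_zpowers_iff.1 (hu₀ u)
      rw [← hi, map_zpow, map_zpow, ← zpow_natCast, ← zpow_mul, mul_comm, zpow_mul, zpow_natCast,
        pow_orderOf_eq_one, one_zpow]
    rw [← map_pow, QuotientGroup.mk'_apply, QuotientGroup.eq_one_iff,
      Matrix.SpecialLinearGroup.mem_center_iff] at hM
    obtain ⟨c, -, hc⟩ := hM
    rw [Matrix.SpecialLinearGroup.coe_pow] at hc
    have hβM : β ^ M = algebraMap F E c := by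
      apply hψ
      rw [map_pow, AlgHom.commutes, Matrix.algebraMap_eq_diagonal]
      exact hc.symm.trans (Matrix.scalar_apply c)
    have hPdvd : P ∣ X ^ M - C c := by
      rw [← AdjoinRoot.mk_eq_zero, map_sub, map_pow, AdjoinRoot.mk_X, AdjoinRoot.mk_C, sub_eq_zero]
      apply emb.toRingHom.injective
      change emb (AdjoinRoot.root P ^ M) = emb (AdjoinRoot.of P c)
      rw [map_pow, ← hβ, hβM, ← AdjoinRoot.algebraMap_eq, AlgHom.commutes]
    have hdvd : (g : Matrix (Fin n) (Fin n) F).charpoly ∣ X ^ (M * p ^ (e + 1)) - C (c ^ p ^ (e + 1)) := by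
      rw [pow_mul, C_pow, ← sub_pow_char_pow, hchar]
      refine (pow_dvd_pow_of_dvd hPdvd j).trans (pow_dvd_pow _ (le_trans ?_ he))
      rw [hnj]; exact Nat.le_mul_of_pos_right j hP.natDegree_pos
    obtain ⟨q, hq⟩ := hdvd
    have h0 := congrArg (aeval (g : Matrix (Fin n) (Fin n) F)) hq
    rw [map_mul, Matrix.aeval_self_charpoly, zero_mul, map_sub, map_pow, aeval_X, aeval_C, sub_eq_zero] at h0
    refine orderOf_dvd_of_pow_eq_one ?_
    rw [← map_pow, QuotientGroup.mk'_apply, QuotientGroup.eq_one_iff,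
      Matrix.SpecialLinearGroup.mem_center_iff, Matrix.SpecialLinearGroup.coe_pow]
    refine ⟨c ^ p ^ (e + 1), ?_, ?_⟩
    · have := congrArg Matrix.det h0
      rw [Matrix.det_pow, g.2, one_pow, Matrix.algebraMap_eq_diagonal, Matrix.det_diagonal] at this
      simpa using this.symm
    · rw [h0, Matrix.algebraMap_eq_diagonal]; exact Matrix.scalar_apply _

/-- An element of order `r` exists. -/
theorem exists_orderOf_eq {n r : ℕ} (hn : 2 ≤ n) (hr : r.Prime) (hrn : ¬ r ∣ n) (ζ : F) (hζ : orderOf ζ = r) :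
    ∃ z : Matrix.ProjectiveSpecialLinearGroup (Fin n) F, orderOf z = r := by
  classical
  let P : Matrix (Fin n) (Fin n) F := Matrix.single ⟨0, by omega⟩ ⟨0, by omega⟩ 1
  obtain ⟨z, hzr, hzc, -⟩ := exists_SL_of_idempotent hrn hr ζ hζ 1 P (by simp [P]) (Commute.one_right _)
    (fun h => by
      have h1 := congrFun (congrFun h ⟨0, by omega⟩) ⟨0, by omega⟩
      simp [P] at h1)
    (fun h => by
      have h1 := congrFun (congrFun h ⟨1, by omega⟩) ⟨1, by omega⟩
      simp [P, Matrix.single, Matrix.one_apply] at h1)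
  refine ⟨QuotientGroup.mk' _ z, ?_⟩
  have := Fact.mk hr
  refine orderOf_eq_prime (by rw [← map_pow, hzr, map_one]) ?_
  rwa [Ne, QuotientGroup.mk'_apply, QuotientGroup.eq_one_iff]

/-- A unipotent matrix of order `p ^ k` gives an element of the same order in `PSL`. -/
theorem psl_of_unipotent (p : ℕ) [Fact p.Prime] [CharP F p] {n k : ℕ} (g : GL (Fin n) F)
    (hg : orderOf g = p ^ k) :
    ∃ s : Matrix.SpecialLinearGroup (Fin n) F, (s : Matrix (Fin n) (Fin n) F) = g ∧
      orderOf (QuotientGroup.mk' (Subgroup.center (Matrix.SpecialLinearGroup (Fin n) F)) s) = p ^ k := by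
  have h1 : (g : Matrix (Fin n) (Fin n) F) ^ p ^ k = 1 := by
    rw [← Units.val_pow_eq_pow_val, ← hg, pow_orderOf_eq_one, Units.val_one]
  have hd : ∀ x : F, x ^ p ^ k = 1 → x = 1 := fun x hx => by
    have : (x - 1) ^ p ^ k = 0 := by rw [sub_pow_char_pow, hx, one_pow, sub_self]
    exact sub_eq_zero.1 (eq_zero_of_pow_eq_zero this)
  obtain ⟨s, hs⟩ : ∃ s : Matrix.SpecialLinearGroup (Fin n) F, (s : Matrix (Fin n) (Fin n) F) = g :=
    ⟨⟨g, hd _ (by rw [← Matrix.det_pow, h1, Matrix.det_one])⟩, rfl⟩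
  refine ⟨s, hs, Nat.dvd_antisymm ((orderOf_map_dvd _ s).trans (orderOf_dvd_of_pow_eq_one ?_)) ?_⟩
  · apply Subtype.ext
    rw [Matrix.SpecialLinearGroup.coe_pow, Matrix.SpecialLinearGroup.coe_one, hs, h1]
  set o := orderOf (QuotientGroup.mk' (Subgroup.center (Matrix.SpecialLinearGroup (Fin n) F)) s) with ho
  have h2 := pow_orderOf_eq_one (QuotientGroup.mk' (Subgroup.center (Matrix.SpecialLinearGroup (Fin n) F)) s)
  rw [← ho, ← map_pow, QuotientGroup.mk'_apply, QuotientGroup.eq_one_iff,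
    Matrix.SpecialLinearGroup.mem_center_iff, Matrix.SpecialLinearGroup.coe_pow, hs] at h2
  obtain ⟨c, -, hc⟩ := h2
  rw [← hg]
  refine orderOf_dvd_of_pow_eq_one (Units.ext ?_)
  rw [Units.val_pow_eq_pow_val, Units.val_one, ← hc]
  rcases Nat.eq_zero_or_pos n with hn | hn
  · subst hn; exact Subsingleton.elim _ _
  have hcp : Matrix.scalar (Fin n) (c ^ p ^ k) = 1 := by
    rw [map_pow, hc, ← pow_mul, mul_comm, pow_mul, h1, one_pow]
  have hcc : c ^ p ^ k = 1 := by simpa using congrArg (fun M => M ⟨0, hn⟩ ⟨0, hn⟩) hcp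
  rw [hd c hcc, map_one]

/-- If `n - 1` is not a power of `p`: an element of order `r · p ^ (e + 1)`. -/
theorem exists_orderOf_mul (p : ℕ) [Fact p.Prime] [CharP F p] {n r e : ℕ} (hn : 2 ≤ n) (hr : r.Prime)
    (hrn : ¬ r ∣ n) (hrp : r ≠ p) (ζ : F) (hζ : orderOf ζ = r) (he1 : p ^ e < n - 1) (he2 : n - 1 ≤ p ^ (e + 1)) :
    ∃ y : Matrix.ProjectiveSpecialLinearGroup (Fin n) F, orderOf y = p ^ (e + 1) * r := by
  classical
  let A := AdjoinRoot ((X : F[X]) ^ (n - 1))
  have hf0 : ((X : F[X]) ^ (n - 1)) ≠ 0 := pow_ne_zero _ X_ne_zero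
  have : FiniteDimensional F A := (AdjoinRoot.powerBasis hf0).finite
  have hdimA : Module.finrank F A = n - 1 := by
    rw [(AdjoinRoot.powerBasis hf0).finrank, AdjoinRoot.powerBasis_dim, natDegree_X_pow]
  have hdim : Module.finrank F (A × F) = n := by
    rw [Module.finrank_prod, hdimA, Module.finrank_self]; omega
  let b : Module.Basis (Fin n) F (A × F) := (Module.finBasis F (A × F)).reindex (finCongr hdim)
  let ψ : (A × F) →ₐ[F] Matrix (Fin n) (Fin n) F := Algebra.leftMulMatrix b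
  have hψ : Function.Injective ψ := Algebra.leftMulMatrix_injective b
  have hroot : (AdjoinRoot.root ((X : F[X]) ^ (n - 1))) ^ (n - 1) = 0 := by
    rw [← AdjoinRoot.mk_X, ← map_pow, AdjoinRoot.mk_self]
  obtain ⟨ua, hua⟩ := (IsNilpotent.isUnit_one_add ⟨n - 1, hroot⟩)
  have hpow : ∀ k : ℕ, (ua : A) ^ p ^ k = AdjoinRoot.mk ((X : F[X]) ^ (n - 1)) (1 + X ^ p ^ k) := by
    intro k
    rw [hua, ← AdjoinRoot.mk_X, ← map_one (AdjoinRoot.mk ((X : F[X]) ^ (n - 1))), ← map_add, ← map_pow,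
      add_pow_char_pow, one_pow]
  have hord : orderOf ua = p ^ (e + 1) := by
    apply orderOf_eq_prime_pow
    · intro hc
      have hc' : (ua : A) ^ p ^ e = 1 := by simpa using congrArg Units.val hc
      rw [hpow, ← map_one (AdjoinRoot.mk ((X : F[X]) ^ (n - 1))), map_add, add_eq_left,
        AdjoinRoot.mk_eq_zero] at hc'
      have := natDegree_le_of_dvd hc' (pow_ne_zero _ X_ne_zero)
      rw [natDegree_X_pow, natDegree_X_pow] at this
      omega
    · refine Units.ext ?_
      rw [Units.val_pow_eq_pow_val, hpow, Units.val_one, ← map_one (AdjoinRoot.mk ((X : F[X]) ^ (n - 1))),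
        map_add, add_eq_left, AdjoinRoot.mk_eq_zero]
      exact pow_dvd_pow X he2
  let ι : Aˣ →* (A × F)ˣ := Units.map (MonoidHom.prod (MonoidHom.id A) (1 : A →* F))
  have hι : Function.Injective ι := fun x y hxy =>
    Units.ext (congrArg Prod.fst (congrArg Units.val hxy))
  let φ : (A × F)ˣ →* GL (Fin n) F := Units.map ψ.toRingHom.toMonoidHom
  have hφ : Function.Injective φ := Units.map_injective hψ
  obtain ⟨s, hs, hso⟩ := psl_of_unipotent p (φ (ι ua))
    (by rw [orderOf_injective φ hφ, orderOf_injective ι hι, hord])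
  let P : Matrix (Fin n) (Fin n) F := ψ (0, 1)
  obtain ⟨z, hzr, hzc, hzs⟩ := exists_SL_of_idempotent hrn hr ζ hζ (s : Matrix (Fin n) (Fin n) F) P
    (by rw [← map_mul]; simp [P])
    (by rw [hs]; exact Commute.map (show Commute ((0, 1) : A × F) ((ua : A), 1) from
      Commute.prod (Commute.zero_left _) (Commute.refl _)) ψ)
    (fun h => by
      have := hψ (h.trans (map_zero ψ).symm)
      exact one_ne_zero (congrArg Prod.snd this))
    (fun h => by
      have h1 := congrArg Prod.fst (hψ (h.trans (map_one ψ).symm))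
      have h2 : (AdjoinRoot.mk ((X : F[X]) ^ (n - 1))) 1 = 0 := by rw [map_one]; exact h1.symm
      rw [AdjoinRoot.mk_eq_zero] at h2
      have := natDegree_le_of_dvd h2 one_ne_zero
      rw [natDegree_X_pow, natDegree_one] at this
      omega)
  let π := QuotientGroup.mk' (Subgroup.center (Matrix.SpecialLinearGroup (Fin n) F))
  have hπz : orderOf (π z) = r := by
    have := Fact.mk hr
    refine orderOf_eq_prime (by rw [← map_pow, hzr, map_one]) ?_
    rwa [Ne, QuotientGroup.mk'_apply, QuotientGroup.eq_one_iff]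
  have hcomm : Commute (π s) (π z) := Commute.map (show s * z = z * s from Subtype.ext hzs.symm.eq) π
  refine ⟨π s * π z, ?_⟩
  have hcop : (orderOf (π s)).Coprime (orderOf (π z)) := by
    rw [hπz, hso]
    exact ((Nat.coprime_primes Fact.out hr).2 (Ne.symm hrp)).pow_left _
  rw [hcomm.orderOf_mul_eq_mul_orderOf_of_coprime hcop, hπz, hso]

/-- The absorption criterion. -/
theorem absorb {L Z : Type*} [Group L] [Group Z] {r : ℕ} (hr : r.Prime)
    (hZ : ∀ v : Z, v ^ r = 1) (B : ℕ)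
    (hext : ∀ y : L, (∃ y' : L, orderOf y ∣ orderOf y' ∧ r ∣ orderOf y') ∨ orderOf y ∣ B)
    (y : L) (v : Z) :
    (∃ y' : L, orderOf y ∣ orderOf y' ∧ (orderOf v ∣ orderOf y')) ∨ orderOf y ∣ B := by
  rcases hext y with ⟨y', h1, h2⟩ | h
  · exact Or.inl ⟨y', h1, (orderOf_dvd_of_pow_eq_one (hZ v)).trans h2⟩
  · exact Or.inr h

/-- Let F be a finite field with q = p^a elements, n ≥ 2 (with q ≥ 4 when n = 2), L = PSL(n, F), and let r be a prime dividing q − 1 and not dividing n. Then for every m the direct product L × L × L × (ℤ/r)^m has the same set of element orders as L × L × L; and if n − 1 ≠ p^j for every j ≥ 0 (so never when n = 2, since 1 = p^0), then already L × L × (ℤ/r)^m has the same set of element orders as L × L. -/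
theorem result {F : Type*} [Field F] [Fintype F] (p a n r m : ℕ) (hp : p.Prime) (ha : 1 ≤ a) (hF : Fintype.card F = p ^ a)
    (hn : 2 ≤ n) (hn2 : n = 2 → 4 ≤ Fintype.card F) (hr : r.Prime) (hrq : r ∣ Fintype.card F - 1) (hrn : ¬ r ∣ n) :
    Set.range (orderOf : Matrix.ProjectiveSpecialLinearGroup (Fin n) F × Matrix.ProjectiveSpecialLinearGroup (Fin n) F × Matrix.ProjectiveSpecialLinearGroup (Fin n) F × Multiplicative (Fin m → ZMod r) → ℕ) =
      Set.range (orderOf : Matrix.ProjectiveSpecialLinearGroup (Fin n) F × Matrix.ProjectiveSpecialLinearGroup (Fin n) F × Matrix.ProjectiveSpecialLinearGroup (Fin n) F → ℕ) ∧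
    ((¬ ∃ j : ℕ, n - 1 = p ^ j) →
      Set.range (orderOf : Matrix.ProjectiveSpecialLinearGroup (Fin n) F × Matrix.ProjectiveSpecialLinearGroup (Fin n) F × Multiplicative (Fin m → ZMod r) → ℕ) =
        Set.range (orderOf : Matrix.ProjectiveSpecialLinearGroup (Fin n) F × Matrix.ProjectiveSpecialLinearGroup (Fin n) F → ℕ)) := by
  classical
  have : Fact p.Prime := ⟨hp⟩
  have hcardp : Fintype.card F = p ^ a := hF
  have : CharP F p := by
    obtain ⟨c, hc⟩ := CharP.exists F
    obtain ⟨k, hcp, hck⟩ := FiniteField.card F c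
    rw [hF] at hck
    have hcp' : c = p := ((Nat.prime_dvd_prime_iff_eq hcp hp).1
      (hcp.dvd_of_dvd_pow (n := a) (hck ▸ dvd_pow_self c k.ne_zero)))
    exact hcp' ▸ hc
  obtain ⟨ζ, hζ⟩ : ∃ ζ : F, orderOf ζ = r := by
    have := Fact.mk hr
    obtain ⟨u, hu⟩ := exists_prime_orderOf_dvd_card r (G := Fˣ) (by rwa [Fintype.card_units])
    exact ⟨u, by rw [orderOf_units, hu]⟩
  have hrp : r ≠ p := by
    intro h
    have h1 : p ∣ Fintype.card F := hF ▸ dvd_pow_self p (by omega)
    have h2 : p ∣ Fintype.card F - (Fintype.card F - 1) := Nat.dvd_sub h1 (h ▸ hrq)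
    have h3 : Fintype.card F - (Fintype.card F - 1) = 1 := by
      have := Fintype.one_lt_card (α := F); omega
    exact hp.one_lt.ne' (Nat.dvd_one.1 (h3 ▸ h2))
  obtain ⟨e, he1, he2⟩ : ∃ e, p ^ e < n ∧ n ≤ p ^ (e + 1) := by
    refine ⟨Nat.clog p n - 1, Nat.pow_pred_clog_lt_self hp.one_lt (by omega), ?_⟩
    rw [Nat.sub_add_cancel (Nat.clog_pos hp.one_lt (by omega))]
    exact Nat.le_pow_clog hp.one_lt n
  obtain ⟨w, hcw, hw⟩ := order_bound p hn hr hrn ζ hζ he2
  obtain ⟨g, hg⟩ := exists_orderOf_eq_prime_pow_GL (F := F) he1 he2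
  obtain ⟨s, -, hu⟩ := psl_of_unipotent p g hg
  set u := QuotientGroup.mk' (Subgroup.center (Matrix.SpecialLinearGroup (Fin n) F)) s
  obtain ⟨z, hz⟩ := exists_orderOf_eq hn hr hrn ζ hζ
  have hcopw : (orderOf w).Coprime (p ^ (e + 1)) := hcw.pow_right _
  have hZ : ∀ v : Multiplicative (Fin m → ZMod r), v ^ r = 1 := fun v => by
    apply Multiplicative.toAdd.injective
    funext i
    simp
  refine ⟨?_, fun hj => ?_⟩
  · refine Set.Subset.antisymm ?_ ?_
    · rintro _ ⟨⟨y₁, y₂, y₃, v⟩, rfl⟩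
      suffices hs : ∃ x : Matrix.ProjectiveSpecialLinearGroup (Fin n) F ×
          Matrix.ProjectiveSpecialLinearGroup (Fin n) F × Matrix.ProjectiveSpecialLinearGroup (Fin n) F,
          orderOf y₁ ∣ orderOf x ∧ orderOf y₂ ∣ orderOf x ∧ orderOf y₃ ∣ orderOf x ∧ orderOf v ∣ orderOf x by
        obtain ⟨x, h1, h2, h3, h4⟩ := hs
        refine mem_range_orderOf_of_dvd x (orderOf_pos x).ne' ?_
        rw [Prod.orderOf, Prod.orderOf, Prod.orderOf]
        exact Nat.lcm_dvd h1 (Nat.lcm_dvd h2 (Nat.lcm_dvd h3 h4))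
      have key := absorb hr hZ (orderOf w * p ^ (e + 1)) hw
      rcases key y₁ v with ⟨y', h, hv⟩ | hb1
      · refine ⟨(y', y₂, y₃), ?_⟩
        simp only [Prod.orderOf]
        exact ⟨h.trans (Nat.dvd_lcm_left _ _), (Nat.dvd_lcm_left _ _).trans (Nat.dvd_lcm_right _ _),
          (Nat.dvd_lcm_right _ _).trans (Nat.dvd_lcm_right _ _), hv.trans (Nat.dvd_lcm_left _ _)⟩
      rcases key y₂ v with ⟨y', h, hv⟩ | hb2
      · refine ⟨(y₁, y', y₃), ?_⟩
        simp only [Prod.orderOf]
        exact ⟨Nat.dvd_lcm_left _ _, (h.trans (Nat.dvd_lcm_left _ _)).trans (Nat.dvd_lcm_right _ _),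
          (Nat.dvd_lcm_right _ _).trans (Nat.dvd_lcm_right _ _),
          (hv.trans (Nat.dvd_lcm_left _ _)).trans (Nat.dvd_lcm_right _ _)⟩
      rcases key y₃ v with ⟨y', h, hv⟩ | hb3
      · refine ⟨(y₁, y₂, y'), ?_⟩
        simp only [Prod.orderOf]
        exact ⟨Nat.dvd_lcm_left _ _, (Nat.dvd_lcm_left _ _).trans (Nat.dvd_lcm_right _ _),
          (h.trans (Nat.dvd_lcm_right _ _)).trans (Nat.dvd_lcm_right _ _),
          (hv.trans (Nat.dvd_lcm_right _ _)).trans (Nat.dvd_lcm_right _ _)⟩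
      refine ⟨(w, u, z), ?_⟩
      have hbd : ∀ k, k ∣ orderOf w * p ^ (e + 1) →
          k ∣ orderOf (w, u, z) := by
        intro k hk
        rw [Prod.orderOf, Prod.orderOf, hu]
        refine hk.trans ?_
        rw [← Nat.Coprime.lcm_eq_mul hcopw]
        exact Nat.lcm_dvd (Nat.dvd_lcm_left _ _) ((Nat.dvd_lcm_left _ _).trans (Nat.dvd_lcm_right _ _))
      refine ⟨hbd _ hb1, hbd _ hb2, hbd _ hb3, ?_⟩
      rw [Prod.orderOf, Prod.orderOf]
      exact ((orderOf_dvd_of_pow_eq_one (hZ v)).trans (hz ▸ Nat.dvd_lcm_right _ _)).trans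
        (Nat.dvd_lcm_right _ _)
    · rintro _ ⟨⟨y₁, y₂, y₃⟩, rfl⟩
      refine ⟨(y₁, y₂, y₃, 1), ?_⟩
      simp [Prod.orderOf]
  · obtain ⟨e', he1', he2'⟩ : ∃ e', p ^ e' < n - 1 ∧ n - 1 ≤ p ^ (e' + 1) := by
      have hn1 : 1 < n - 1 := by
        by_contra hh
        exact hj ⟨0, by rw [pow_zero]; omega⟩
      refine ⟨Nat.clog p (n - 1) - 1, Nat.pow_pred_clog_lt_self hp.one_lt hn1, ?_⟩
      rw [Nat.sub_add_cancel (Nat.clog_pos hp.one_lt hn1)]
      exact Nat.le_pow_clog hp.one_lt _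
    have hee : e ≤ e' := by
      by_contra hh
      have h1 : p ^ (e' + 1) ≤ p ^ e := Nat.pow_le_pow_right hp.pos (by omega)
      rcases Nat.lt_or_ge (n - 1) (p ^ (e' + 1)) with h | h
      · omega
      · exact hj ⟨e' + 1, le_antisymm he2' h⟩
    obtain ⟨y₀, hy₀⟩ := exists_orderOf_mul p hn hr hrn hrp ζ hζ he1' he2'
    refine Set.Subset.antisymm ?_ ?_
    · rintro _ ⟨⟨y₁, y₂, v⟩, rfl⟩
      suffices hs : ∃ x : Matrix.ProjectiveSpecialLinearGroup (Fin n) F ×
          Matrix.ProjectiveSpecialLinearGroup (Fin n) F,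
          orderOf y₁ ∣ orderOf x ∧ orderOf y₂ ∣ orderOf x ∧ orderOf v ∣ orderOf x by
        obtain ⟨x, h1, h2, h4⟩ := hs
        refine mem_range_orderOf_of_dvd x (orderOf_pos x).ne' ?_
        rw [Prod.orderOf, Prod.orderOf]
        exact Nat.lcm_dvd h1 (Nat.lcm_dvd h2 h4)
      have key := absorb hr hZ (orderOf w * p ^ (e + 1)) hw
      rcases key y₁ v with ⟨y', h, hv⟩ | hb1
      · refine ⟨(y', y₂), ?_⟩
        simp only [Prod.orderOf]
        exact ⟨h.trans (Nat.dvd_lcm_left _ _), Nat.dvd_lcm_right _ _, hv.trans (Nat.dvd_lcm_left _ _)⟩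
      rcases key y₂ v with ⟨y', h, hv⟩ | hb2
      · refine ⟨(y₁, y'), ?_⟩
        simp only [Prod.orderOf]
        exact ⟨Nat.dvd_lcm_left _ _, h.trans (Nat.dvd_lcm_right _ _), hv.trans (Nat.dvd_lcm_right _ _)⟩
      refine ⟨(w, y₀), ?_⟩
      have hbd : ∀ k, k ∣ orderOf w * p ^ (e + 1) → k ∣ orderOf (w, y₀) := by
        intro k hk
        rw [Prod.orderOf, hy₀]
        refine hk.trans ?_
        rw [← Nat.Coprime.lcm_eq_mul hcopw]
        exact Nat.lcm_dvd (Nat.dvd_lcm_left _ _)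
          (((Nat.pow_dvd_pow p (by omega)).trans (dvd_mul_right _ _)).trans (Nat.dvd_lcm_right _ _))
      refine ⟨hbd _ hb1, hbd _ hb2, ?_⟩
      rw [Prod.orderOf, hy₀]
      exact ((orderOf_dvd_of_pow_eq_one (hZ v)).trans (dvd_mul_left _ _)).trans (Nat.dvd_lcm_right _ _)
    · rintro _ ⟨⟨y₁, y₂⟩, rfl⟩
      refine ⟨(y₁, y₂, 1), ?_⟩
      simp [Prod.orderOf]

end Cfsg.Agent.S2510
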