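import Cfsg.Statements.S2511
import Cfsg.Agent.Lib.KnownC.UnitarySpectrum
import Cfsg.Agent.Lib.KnownC.Spectra

set_option autoImplicit false
open Cfsg

namespace Cfsg.Agent.S2511

/-- Let F be a finite field with q² elements, q = p^a, n ≥ 3 with (n, q) ≠ (3, 2), L = PSU(n, q) realised over F, and let r be a prime dividing q + 1 and not dividing n. Then for every m the direct product L × L × L × (ℤ/r)^m has the same set of element orders as L × L × L; and if n − 1 is not a power of p, then already L × L × (ℤ/r)^m has the same set of element orders as L × L. -/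
theorem result {F : Type*} [Field F] [Fintype F] (p a n q r m : ℕ) (hp : p.Prime) (ha : 1 ≤ a) (hq : q = p ^ a) (hF : Fintype.card F = q ^ 2)
    (hn : 3 ≤ n) (hn3 : ¬ (n = 3 ∧ q = 2)) (hr : r.Prime) (hrq : r ∣ q + 1) (hrn : ¬ r ∣ n) :
    Set.range (orderOf : Cfsg.PSU n F q × Cfsg.PSU n F q × Cfsg.PSU n F q × Multiplicative (Fin m → ZMod r) → ℕ) = Set.range (orderOf : Cfsg.PSU n F q × Cfsg.PSU n F q × Cfsg.PSU n F q → ℕ) ∧
    ((¬ ∃ j : ℕ, n - 1 = p ^ j) →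
      Set.range (orderOf : Cfsg.PSU n F q × Cfsg.PSU n F q × Multiplicative (Fin m → ZMod r) → ℕ) = Set.range (orderOf : Cfsg.PSU n F q × Cfsg.PSU n F q → ℕ)) := by
  classical
  have : Fact p.Prime := ⟨hp⟩
  have : CharP F p := by
    obtain ⟨c, hc⟩ := CharP.exists F
    obtain ⟨k, hcp, hck⟩ := FiniteField.card F c
    rw [hF, hq, ← pow_mul] at hck
    have hcp' : c = p := ((Nat.prime_dvd_prime_iff_eq hcp hp).1
      (hcp.dvd_of_dvd_pow (n := a * 2) (hck ▸ dvd_pow_self c k.ne_zero)))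
    exact hcp' ▸ hc
  obtain ⟨w, hwc, hcls⟩ := CfsgLib.KnownC.UnitarySpectrum.classify hF (n := n) hq (by omega) hr hrq hrn
  obtain ⟨u, hu⟩ := CfsgLib.KnownC.UnitarySpectrum.exists_unipotent (n := n) hF (p := p) (by omega)
  obtain ⟨y₀, hy₀r, hy₀p⟩ := CfsgLib.KnownC.UnitarySpectrum.exists_mixed hF (p := p) hn hr hrq hrn
  have hZ : ∀ v : Multiplicative (Fin m → ZMod r), orderOf v ∣ r := fun v => by
    refine orderOf_dvd_of_pow_eq_one (Multiplicative.toAdd.injective ?_)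
    funext i
    simp
  have hmem := @CfsgLib.KnownC.mem_range_orderOf_of_dvd
  refine ⟨?_, fun hj => ?_⟩
  · refine Set.Subset.antisymm ?_ ?_
    · rintro _ ⟨⟨y₁, y₂, y₃, v⟩, rfl⟩
      suffices hs : ∃ x : Cfsg.PSU n F q × Cfsg.PSU n F q × Cfsg.PSU n F q,
          orderOf y₁ ∣ orderOf x ∧ orderOf y₂ ∣ orderOf x ∧ orderOf y₃ ∣ orderOf x ∧ r ∣ orderOf x by
        obtain ⟨x, h1, h2, h3, h4⟩ := hs
        refine hmem x (orderOf_pos x).ne' ?_
        rw [Prod.orderOf, Prod.orderOf, Prod.orderOf]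
        exact Nat.lcm_dvd h1 (Nat.lcm_dvd h2 (Nat.lcm_dvd h3 ((hZ v).trans h4)))
      set E := Nat.clog p n
      have hcl := fun y => hcls y E (Nat.le_pow_clog hp.one_lt _)
      rcases hcl y₁ with ⟨y', h, hv⟩ | hb1
      · refine ⟨(y', y₂, y₃), ?_⟩
        simp only [Prod.orderOf]
        exact ⟨h.trans (Nat.dvd_lcm_left _ _), (Nat.dvd_lcm_left _ _).trans (Nat.dvd_lcm_right _ _),
          (Nat.dvd_lcm_right _ _).trans (Nat.dvd_lcm_right _ _), hv.trans (Nat.dvd_lcm_left _ _)⟩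
      rcases hcl y₂ with ⟨y', h, hv⟩ | hb2
      · refine ⟨(y₁, y', y₃), ?_⟩
        simp only [Prod.orderOf]
        exact ⟨Nat.dvd_lcm_left _ _, (h.trans (Nat.dvd_lcm_left _ _)).trans (Nat.dvd_lcm_right _ _),
          (Nat.dvd_lcm_right _ _).trans (Nat.dvd_lcm_right _ _),
          (hv.trans (Nat.dvd_lcm_left _ _)).trans (Nat.dvd_lcm_right _ _)⟩
      rcases hcl y₃ with ⟨y', h, hv⟩ | hb3
      · refine ⟨(y₁, y₂, y'), ?_⟩
        simp only [Prod.orderOf]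
        exact ⟨Nat.dvd_lcm_left _ _, (Nat.dvd_lcm_left _ _).trans (Nat.dvd_lcm_right _ _),
          (h.trans (Nat.dvd_lcm_right _ _)).trans (Nat.dvd_lcm_right _ _),
          (hv.trans (Nat.dvd_lcm_right _ _)).trans (Nat.dvd_lcm_right _ _)⟩
      refine ⟨(w, QuotientGroup.mk' _ u, y₀), ?_⟩
      simp only [Prod.orderOf]
      have hbd : ∀ k, k ∣ orderOf w * p ^ E → k ∣ Nat.lcm (orderOf w)
          (Nat.lcm (orderOf (QuotientGroup.mk' (Subgroup.center (Cfsg.SU n F q)) u)) (orderOf y₀)) := by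
        intro k hk
        refine hk.trans ((hwc.pow_right E).mul_dvd_of_dvd_of_dvd (Nat.dvd_lcm_left _ _) ?_)
        exact (hu.trans (Nat.dvd_lcm_left _ _)).trans (Nat.dvd_lcm_right _ _)
      exact ⟨hbd _ hb1, hbd _ hb2, hbd _ hb3,
        (hy₀r.trans (Nat.dvd_lcm_right _ _)).trans (Nat.dvd_lcm_right _ _)⟩
    · rintro _ ⟨⟨y₁, y₂, y₃⟩, rfl⟩
      refine ⟨(y₁, y₂, y₃, 1), ?_⟩
      simp [Prod.orderOf]
  · obtain ⟨E, hEdef⟩ : ∃ E, E = Nat.clog p (n - 1) := ⟨_, rfl⟩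
    have hE : n ≤ p ^ E := by
      have h1 := Nat.le_pow_clog hp.one_lt (n - 1)
      rw [← hEdef] at h1
      have h2 : n - 1 ≠ p ^ E := fun h => hj ⟨_, h⟩
      omega
    have hcl := fun y => hcls y E hE
    refine Set.Subset.antisymm ?_ ?_
    · rintro _ ⟨⟨y₁, y₂, v⟩, rfl⟩
      suffices hs : ∃ x : Cfsg.PSU n F q × Cfsg.PSU n F q,
          orderOf y₁ ∣ orderOf x ∧ orderOf y₂ ∣ orderOf x ∧ r ∣ orderOf x by
        obtain ⟨x, h1, h2, h4⟩ := hs
        refine hmem x (orderOf_pos x).ne' ?_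
        rw [Prod.orderOf, Prod.orderOf]
        exact Nat.lcm_dvd h1 (Nat.lcm_dvd h2 ((hZ v).trans h4))
      rcases hcl y₁ with ⟨y', h, hv⟩ | hb1
      · refine ⟨(y', y₂), ?_⟩
        simp only [Prod.orderOf]
        exact ⟨h.trans (Nat.dvd_lcm_left _ _), Nat.dvd_lcm_right _ _, hv.trans (Nat.dvd_lcm_left _ _)⟩
      rcases hcl y₂ with ⟨y', h, hv⟩ | hb2
      · refine ⟨(y₁, y'), ?_⟩
        simp only [Prod.orderOf]
        exact ⟨Nat.dvd_lcm_left _ _, h.trans (Nat.dvd_lcm_right _ _), hv.trans (Nat.dvd_lcm_right _ _)⟩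
      refine ⟨(w, y₀), ?_⟩
      simp only [Prod.orderOf]
      have hbd : ∀ k, k ∣ orderOf w * p ^ E → k ∣ Nat.lcm (orderOf w) (orderOf y₀) := fun k hk =>
        hk.trans ((hwc.pow_right E).mul_dvd_of_dvd_of_dvd (Nat.dvd_lcm_left _ _)
          ((hEdef ▸ hy₀p).trans (Nat.dvd_lcm_right _ _)))
      exact ⟨hbd _ hb1, hbd _ hb2, hy₀r.trans (Nat.dvd_lcm_right _ _)⟩
    · rintro _ ⟨⟨y₁, y₂⟩, rfl⟩
      refine ⟨(y₁, y₂, 1), ?_⟩
      simp [Prod.orderOf]

end Cfsg.Agent.S2511
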