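import Cfsg.Statements.S2512
import Cfsg.Agent.Lib.KnownC.SympSpectrum
import Cfsg.Agent.Lib.KnownC.Spectra

set_option autoImplicit false
open Cfsg

namespace Cfsg.Agent.S2512

open CfsgLib.KnownC CfsgLib.KnownC.SympSpectrum

/-- If `v ^ 2 = 1` and some element order is a multiple of the orders of all three, it is in the spectrum. -/
theorem orderOf_dvd_two {Z : Type*} [Group Z] {v : Z} (h : v ^ 2 = 1) : orderOf v ∣ 2 :=
  orderOf_dvd_of_pow_eq_one h

/-- Two odd halves coincide. -/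
theorem odd_half_unique {Q M M' : ℕ} (hM : 2 * M = Q + 1 ∨ 2 * M + 1 = Q) (hMo : Odd M)
    (hM' : 2 * M' = Q + 1 ∨ 2 * M' + 1 = Q) (hMo' : Odd M') : M = M' := by
  obtain ⟨a, rfl⟩ := hMo
  obtain ⟨b, rfl⟩ := hMo'
  omega


/-- Let F be a finite field of odd order q = p^a, n ≥ 2 (with q ≥ 3 automatic), and L = PSp(2n, F). Then for every m the direct product L × L × L × (ℤ/2)^m has the same set of element orders as L × L × L; and if 2n − 1 is not a power of p, then already L × L × (ℤ/2)^m has the same set of element orders as L × L. -/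
theorem result {F : Type*} [Field F] [Fintype F] (p a n m : ℕ) (hp : p.Prime) (ha : 1 ≤ a) (hF : Fintype.card F = p ^ a) (hodd : Odd (Fintype.card F))
    (hn : 2 ≤ n) :
    Set.range (orderOf : Cfsg.PSp n F × Cfsg.PSp n F × Cfsg.PSp n F × Multiplicative (Fin m → ZMod 2) → ℕ) = Set.range (orderOf : Cfsg.PSp n F × Cfsg.PSp n F × Cfsg.PSp n F → ℕ) ∧
    ((¬ ∃ j : ℕ, 2 * n - 1 = p ^ j) →
      Set.range (orderOf : Cfsg.PSp n F × Cfsg.PSp n F × Multiplicative (Fin m → ZMod 2) → ℕ) = Set.range (orderOf : Cfsg.PSp n F × Cfsg.PSp n F → ℕ)) := by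
  classical
  have : Fact p.Prime := ⟨hp⟩
  have : CharP F p := by
    obtain ⟨c, hc⟩ := CharP.exists F
    obtain ⟨k, hcp, hck⟩ := FiniteField.card F c
    rw [hF] at hck
    have hcp' : c = p := ((Nat.prime_dvd_prime_iff_eq hcp hp).1
      (hcp.dvd_of_dvd_pow (n := a) (hck ▸ dvd_pow_self c k.ne_zero)))
    exact hcp' ▸ hc
  have hp2 : p ≠ 2 := by
    rintro rfl
    rw [hF, Nat.odd_pow_iff (by omega)] at hodd
    exact absurd hodd (by decide)
  obtain ⟨Q, hQ⟩ : ∃ Q, Q = Fintype.card F ^ n := ⟨_, rfl⟩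
  have hQo : Odd Q := hQ ▸ hodd.pow
  -- the element for the odd half
  obtain ⟨M₀, hM₀, hM₀o, w, hw⟩ : ∃ M₀, (2 * M₀ = Q + 1 ∨ 2 * M₀ + 1 = Q) ∧ Odd M₀ ∧
      ∃ w : Cfsg.PSp n F, M₀ ∣ orderOf w := by
    obtain ⟨b, hb⟩ := hQo
    rcases Nat.even_or_odd b with hbe | hbo
    · obtain ⟨s, hs⟩ := exists_orderOf_plus (F := F) p n (by omega)
      refine ⟨b + 1, Or.inl (by omega), hbe.add_one, QuotientGroup.mk' _ s, ?_⟩
      refine (Nat.mul_dvd_mul_iff_left (by norm_num : 0 < 2)).1 ?_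
      have h := orderOf_dvd_two_mul (n := n) (by omega) s
      rwa [hs, ← hQ, hb, show 2 * b + 1 + 1 = 2 * (b + 1) by ring] at h
    · obtain ⟨s, hs⟩ := exists_orderOf_minus (F := F) p n (by omega)
      refine ⟨b, Or.inr (by omega), hbo, QuotientGroup.mk' _ s, ?_⟩
      refine (Nat.mul_dvd_mul_iff_left (by norm_num : 0 < 2)).1 ?_
      have h := orderOf_dvd_two_mul (n := n) (by omega) s
      rwa [hs, ← hQ, hb, Nat.add_sub_cancel] at h
  have hcls : ∀ E, 2 * n ≤ p ^ E → ∀ y : Cfsg.PSp n F,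
      (∃ y' : Cfsg.PSp n F, orderOf y ∣ orderOf y' ∧ 2 ∣ orderOf y') ∨ orderOf y ∣ M₀ ∨
        orderOf y ∣ p ^ E := by
    intro E hE y
    rcases classify p hp2 (by omega) hE y with h | ⟨M, hM, hMo, hd⟩ | h
    · exact Or.inl h
    · right; left
      rw [← odd_half_unique hM hMo (hQ ▸ hM₀) hM₀o]; exact hd
    · exact Or.inr (Or.inr h)
  have hZ : ∀ v : Multiplicative (Fin m → ZMod 2), orderOf v ∣ 2 := fun v => orderOf_dvd_two (by
    apply Multiplicative.toAdd.injective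
    funext i
    simp only [toAdd_pow, toAdd_one, Pi.smul_apply, Pi.zero_apply, nsmul_eq_mul]
    exact mul_eq_zero_of_left (ZMod.natCast_self 2) _)
  obtain ⟨s₁, hs₁⟩ := exists_orderOf_minus (F := F) p 1 le_rfl
  have hs₁2 : 2 ∣ orderOf s₁ := by
    obtain ⟨b, hb⟩ := hodd
    rw [hs₁, pow_one, hb, Nat.add_sub_cancel]
    exact dvd_mul_right 2 b
  obtain ⟨u₁, hu₁⟩ := exists_orderOf_unipotent (F := F) p (n - 1) (by omega)
  obtain ⟨y₀, hy₀2, hy₀p⟩ := exists_mixed (n := n) p hp2 le_rfl (by omega) s₁ u₁ (by omega) hu₁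
  replace hy₀2 := hs₁2.trans hy₀2
  obtain ⟨u, hu⟩ := exists_orderOf_unipotent (F := F) p n (by omega)
  set E := Nat.clog p (2 * n)
  have hup : p ^ E ∣ orderOf (QuotientGroup.mk' (Subgroup.center (Matrix.symplecticGroup (Fin n) F)) u) := by
    have h := orderOf_dvd_two_mul (n := n) (by omega) u
    rw [hu] at h
    exact (Nat.Coprime.pow_left _ ((Nat.coprime_primes hp Nat.prime_two).2 hp2)).dvd_of_dvd_mul_left h
  refine ⟨?_, fun hj => ?_⟩
  · refine Set.Subset.antisymm ?_ ?_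
    · rintro _ ⟨⟨y₁, y₂, y₃, v⟩, rfl⟩
      suffices hs : ∃ x : Cfsg.PSp n F × Cfsg.PSp n F × Cfsg.PSp n F,
          orderOf y₁ ∣ orderOf x ∧ orderOf y₂ ∣ orderOf x ∧ orderOf y₃ ∣ orderOf x ∧ 2 ∣ orderOf x by
        obtain ⟨x, h1, h2, h3, h4⟩ := hs
        refine mem_range_orderOf_of_dvd x (orderOf_pos x).ne' ?_
        rw [Prod.orderOf, Prod.orderOf, Prod.orderOf]
        exact Nat.lcm_dvd h1 (Nat.lcm_dvd h2 (Nat.lcm_dvd h3 ((hZ v).trans h4)))
      have hcl := hcls E (Nat.le_pow_clog hp.one_lt _)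
      rcases hcl y₁ with ⟨y', h, hv⟩ | hb1
      · refine ⟨(y', y₂, y₃), ?_⟩
        simp only [Prod.orderOf]
        exact ⟨h.trans (Nat.dvd_lcm_left _ _), (Nat.dvd_lcm_left _ _).trans (Nat.dvd_lcm_right _ _),
          (Nat.dvd_lcm_right _ _).trans (Nat.dvd_lcm_right _ _), hv.trans (Nat.dvd_lcm_left _ _)⟩
      rcases hcl y₂ with ⟨y', h, hv⟩ | hb2
      · refine ⟨(y₁, y', y₃), ?_⟩
        simp only [Prod.orderOf]
        exact ⟨Nat.dvd_lcm_left _ _, (h.trans (Nat.dvd_lcm_left _ _)).trans (Nat.dvd_lcm_right _ _),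
          (Nat.dvd_lcm_right _ _).trans (Nat.dvd_lcm_right _ _),
          (hv.trans (Nat.dvd_lcm_left _ _)).trans (Nat.dvd_lcm_right _ _)⟩
      rcases hcl y₃ with ⟨y', h, hv⟩ | hb3
      · refine ⟨(y₁, y₂, y'), ?_⟩
        simp only [Prod.orderOf]
        exact ⟨Nat.dvd_lcm_left _ _, (Nat.dvd_lcm_left _ _).trans (Nat.dvd_lcm_right _ _),
          (h.trans (Nat.dvd_lcm_right _ _)).trans (Nat.dvd_lcm_right _ _),
          (hv.trans (Nat.dvd_lcm_right _ _)).trans (Nat.dvd_lcm_right _ _)⟩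
      refine ⟨(w, QuotientGroup.mk' _ u, y₀), ?_⟩
      simp only [Prod.orderOf]
      have hbd : ∀ k, (k ∣ M₀ ∨ k ∣ p ^ E) → k ∣ Nat.lcm (orderOf w)
          (Nat.lcm (orderOf (QuotientGroup.mk' (Subgroup.center (Matrix.symplecticGroup (Fin n) F)) u))
            (orderOf y₀)) := by
        rintro k (hk | hk)
        · exact (hk.trans hw).trans (Nat.dvd_lcm_left _ _)
        · exact ((hk.trans hup).trans (Nat.dvd_lcm_left _ _)).trans (Nat.dvd_lcm_right _ _)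
      exact ⟨hbd _ hb1, hbd _ hb2, hbd _ hb3,
        (hy₀2.trans (Nat.dvd_lcm_right _ _)).trans (Nat.dvd_lcm_right _ _)⟩
    · rintro _ ⟨⟨y₁, y₂, y₃⟩, rfl⟩
      refine ⟨(y₁, y₂, y₃, 1), ?_⟩
      simp [Prod.orderOf]
  · have hE' : 2 * n ≤ p ^ Nat.clog p (2 * (n - 1)) := by
      have h1 := Nat.le_pow_clog hp.one_lt (2 * (n - 1))
      have h2 : Odd (p ^ Nat.clog p (2 * (n - 1))) := (hp.odd_of_ne_two hp2).pow
      have h3 : 2 * n - 1 ≠ p ^ Nat.clog p (2 * (n - 1)) := fun h => hj ⟨_, h⟩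
      obtain ⟨b, hb⟩ := h2
      omega
    have hcl : ∀ y : Cfsg.PSp n F,
        (∃ y' : Cfsg.PSp n F, orderOf y ∣ orderOf y' ∧ 2 ∣ orderOf y') ∨ orderOf y ∣ M₀ := fun y => by
      rcases hcls _ hE' y with h | h | h
      · exact Or.inl h
      · exact Or.inr h
      · exact Or.inl ⟨y₀, h.trans hy₀p, hy₀2⟩
    refine Set.Subset.antisymm ?_ ?_
    · rintro _ ⟨⟨y₁, y₂, v⟩, rfl⟩
      suffices hs : ∃ x : Cfsg.PSp n F × Cfsg.PSp n F,
          orderOf y₁ ∣ orderOf x ∧ orderOf y₂ ∣ orderOf x ∧ 2 ∣ orderOf x by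
        obtain ⟨x, h1, h2, h4⟩ := hs
        refine mem_range_orderOf_of_dvd x (orderOf_pos x).ne' ?_
        rw [Prod.orderOf, Prod.orderOf]
        exact Nat.lcm_dvd h1 (Nat.lcm_dvd h2 ((hZ v).trans h4))
      rcases hcl y₁ with ⟨y', h, hv⟩ | hb1
      · refine ⟨(y', y₂), ?_⟩
        simp only [Prod.orderOf]
        exact ⟨h.trans (Nat.dvd_lcm_left _ _), Nat.dvd_lcm_right _ _, hv.trans (Nat.dvd_lcm_left _ _)⟩
      rcases hcl y₂ with ⟨y', h, hv⟩ | hb2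
      · refine ⟨(y₁, y'), ?_⟩
        simp only [Prod.orderOf]
        exact ⟨Nat.dvd_lcm_left _ _, h.trans (Nat.dvd_lcm_right _ _), hv.trans (Nat.dvd_lcm_right _ _)⟩
      refine ⟨(w, y₀), ?_⟩
      simp only [Prod.orderOf]
      exact ⟨(hb1.trans hw).trans (Nat.dvd_lcm_left _ _), (hb2.trans hw).trans (Nat.dvd_lcm_left _ _),
        hy₀2.trans (Nat.dvd_lcm_right _ _)⟩
    · rintro _ ⟨⟨y₁, y₂⟩, rfl⟩
      refine ⟨(y₁, y₂, 1), ?_⟩
      simp [Prod.orderOf]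

end Cfsg.Agent.S2512
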