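import Cfsg.Statements.S2513
import Cfsg.Agent.Lib.KnownC.Spectra
import Cfsg.Agent.Lib.KnownC.AlgebraEmbed
-- import your own Cfsg.Agent.* helpers here

set_option autoImplicit false
open Cfsg

namespace Cfsg.Agent.S2513

open CfsgLib.KnownC

theorem units_eq_one {F : Type*} [Field F] [Fintype F] (hF : Fintype.card F = 2) (u : Fˣ) : u = 1 := by
  classical
  have h : Fintype.card Fˣ = 1 := by rw [Fintype.card_units, hF]
  exact (Fintype.card_eq_one_iff.1 h).elim fun x hx => (hx u).trans (hx 1).symm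

theorem exists_psl_orderOf {F : Type*} [Field F] [Fintype F] (hF : Fintype.card F = 2) {n : ℕ}
    (g : GL (Fin n) F) :
    ∃ x : Matrix.ProjectiveSpecialLinearGroup (Fin n) F, orderOf x = orderOf g := by
  have hdet : (g : Matrix (Fin n) (Fin n) F).det = 1 := by
    have h := congrArg Units.val (units_eq_one hF (Matrix.GeneralLinearGroup.det g))
    simpa using h
  let s : Matrix.SpecialLinearGroup (Fin n) F := ⟨g, hdet⟩
  have hs : orderOf s = orderOf g := by
    refine (orderOf_injective Matrix.SpecialLinearGroup.toGL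
      Matrix.SpecialLinearGroup.toGL_injective s).symm.trans (congrArg orderOf ?_)
    exact Units.ext rfl
  refine ⟨QuotientGroup.mk' _ s, ?_⟩
  rw [orderOf_injective (QuotientGroup.mk' (Subgroup.center (Matrix.SpecialLinearGroup (Fin n) F))) ?_ s, hs]
  rw [← MonoidHom.ker_eq_bot_iff, QuotientGroup.ker_mk', eq_bot_iff]
  intro a ha
  obtain ⟨r, hr, hra⟩ := Matrix.SpecialLinearGroup.mem_center_iff.1 ha
  rw [Subgroup.mem_bot]
  apply Subtype.ext
  rcases eq_or_ne r 0 with h0 | h0
  · rcases Nat.eq_zero_or_pos n with hn | hn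
    · subst hn; exact Subsingleton.elim _ _
    · rw [h0, zero_pow (by simp; omega)] at hr; exact absurd hr zero_ne_one
  · have hr1 : r = 1 := by simpa using congrArg Units.val (units_eq_one hF (Units.mk0 r h0))
    rw [← hra, hr1, map_one]
    rfl

theorem exists_GL_orderOf_two_pow_sub_one {F : Type*} [Field F] [Fintype F] (hF : Fintype.card F = 2)
    [CharP F 2] {n i : ℕ} (hi : i ≠ 0) (hin : i ≤ n) :
    ∃ g : GL (Fin n) F, orderOf g = 2 ^ i - 1 := by
  have : NeZero i := ⟨hi⟩
  have hfin : Module.finrank F (FiniteField.Extension F 2 i) = i := FiniteField.finrank_extension F 2 i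
  have hc : Nat.card (FiniteField.Extension F 2 i) = 2 ^ i := by
    rw [Module.natCard_eq_pow_finrank (K := F), hfin, Nat.card_eq_fintype_card, hF]
  obtain ⟨φ, hφ⟩ := exists_units_embedding_GL_le (F := F) (FiniteField.Extension F 2 i) hfin hin
  obtain ⟨u, hu⟩ := IsCyclic.exists_ofOrder_eq_natCard (α := (FiniteField.Extension F 2 i)ˣ)
  refine ⟨φ u, ?_⟩
  rw [orderOf_injective φ hφ, hu, Nat.card_units, hc]


/-- Let F be the field with two elements, n ≥ 2, L = PSL(n, F) and k₀ = ⌊(n + 3)/2⌋. Then for every k ≥ k₀ the direct product of k copies of L has the same set of element orders as the direct product of k₀ copies of L. -/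
theorem result {F : Type*} [Field F] [Fintype F] (hF : Fintype.card F = 2) (n k : ℕ) (hn : 2 ≤ n) (hk : (n + 3) / 2 ≤ k) :
    Set.range (orderOf : (Fin k → Matrix.ProjectiveSpecialLinearGroup (Fin n) F) → ℕ) = Set.range (orderOf : (Fin ((n + 3) / 2) → Matrix.ProjectiveSpecialLinearGroup (Fin n) F) → ℕ) := by
  have hF2 : Nat.card F = 2 := by rw [Nat.card_eq_fintype_card, hF]
  have : Fact (Nat.Prime 2) := ⟨Nat.prime_two⟩
  have : CharP F 2 := charP_of_card_eq_prime hF
  obtain ⟨e, he1, he2⟩ : ∃ e, 2 ^ e < n ∧ n ≤ 2 ^ (e + 1) := by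
    refine ⟨Nat.clog 2 n - 1, ?_, ?_⟩
    · exact Nat.pow_pred_clog_lt_self Nat.one_lt_two (by omega)
    · rw [Nat.sub_add_cancel (Nat.clog_pos Nat.one_lt_two (by omega))]
      exact Nat.le_pow_clog Nat.one_lt_two n
  have hex : ∀ j : Fin ((n + 3) / 2), ∃ x : Matrix.ProjectiveSpecialLinearGroup (Fin n) F,
      orderOf x = if (j : ℕ) < n - n / 2 then 2 ^ (n / 2 + 1 + j) - 1 else 2 ^ (e + 1) := by
    intro j
    obtain ⟨g, hg⟩ : ∃ g : GL (Fin n) F,
        orderOf g = if (j : ℕ) < n - n / 2 then 2 ^ (n / 2 + 1 + j) - 1 else 2 ^ (e + 1) := by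
      split_ifs with h
      · exact exists_GL_orderOf_two_pow_sub_one hF (by omega) (by omega)
      · exact exists_orderOf_eq_prime_pow_GL he1 he2
    exact hg ▸ exists_psl_orderOf hF g
  choose x hx using hex
  refine range_orderOf_pi_eq hk x fun y => ?_
  obtain ⟨N, hN⟩ : ∃ N, orderOf x = N * 2 ^ (e + 1) := by
    have h := (orderOf_pi_dvd_iff x _).1 dvd_rfl ⟨n - n / 2, by omega⟩
    rw [hx, if_neg (by simp)] at h
    obtain ⟨N, hN⟩ := h
    exact ⟨N, hN.trans (mul_comm _ _)⟩
  have hd : ∀ d, 1 ≤ d → d ≤ n → (Nat.card F) ^ d - 1 ∣ N := by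
    intro d hd1 hdn
    have h1 : d * (n / d) ≤ n := Nat.mul_div_le n d
    have h2 : n / 2 < d * (n / d) := by
      have := Nat.lt_mul_div_succ n (show 0 < d by omega)
      have : 1 ≤ n / d := (Nat.one_le_div_iff (by omega)).2 hdn
      have : d ≤ d * (n / d) := Nat.le_mul_of_pos_right d this
      rw [Nat.mul_succ] at *
      omega
    have h := (orderOf_pi_dvd_iff x _).1 dvd_rfl ⟨d * (n / d) - (n / 2 + 1), by omega⟩
    rw [hx, if_pos (by simp only; omega), hN] at h
    simp only at h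
    rw [show n / 2 + 1 + (d * (n / d) - (n / 2 + 1)) = d * (n / d) by omega] at h
    rw [hF2]
    have hdvd : 2 ^ d - 1 ∣ N * 2 ^ (e + 1) :=
      (Nat.pow_sub_one_dvd_pow_sub_one 2 (dvd_mul_right d _)).trans h
    refine (Nat.Coprime.pow_right (e + 1) ?_).dvd_of_dvd_mul_right hdvd
    rw [Nat.coprime_two_right]
    exact Nat.Even.sub_odd Nat.one_le_two_pow (Nat.even_pow.2 ⟨even_two, by omega⟩) odd_one
  obtain ⟨s, rfl⟩ := QuotientGroup.mk'_surjective _ y
  refine (orderOf_map_dvd _ s).trans ?_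
  rw [hN]
  refine orderOf_dvd_of_pow_eq_one (Subtype.ext ?_)
  rw [Matrix.SpecialLinearGroup.coe_pow, Matrix.SpecialLinearGroup.coe_one]
  exact matrix_pow_eq_one_of_card_pow_sub_one_dvd hd he2 _
    ((Matrix.isUnit_iff_isUnit_det _).2 (by simp [s.2]))

end Cfsg.Agent.S2513
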