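import Cfsg.Statements.S2514
import Cfsg.Agent.Lib.KnownC.Spectra
-- import your own Cfsg.Agent.* helpers here

set_option autoImplicit false
open Cfsg

namespace Cfsg.Agent.S2514

open CfsgLib.KnownC

theorem exists_maximal_order (K : Type*) [Group K] [Finite K] (d : ℕ) (hd : d ∈ Set.range (orderOf : K → ℕ)) :
    ∃ m ∈ {n : ℕ | n ∈ Set.range (orderOf : K → ℕ) ∧ ∀ m ∈ Set.range (orderOf : K → ℕ), n ∣ m → m = n}, d ∣ m := by
  obtain ⟨m, ⟨hm, hdm⟩, hmax⟩ := Set.exists_max_image {m | m ∈ Set.range (orderOf : K → ℕ) ∧ d ∣ m} id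
    ((Set.finite_range _).subset fun m hm => hm.1) ⟨d, hd, dvd_rfl⟩
  refine ⟨m, ⟨hm, fun m' hm' hmm' => ?_⟩, hdm⟩
  obtain ⟨x, rfl⟩ := hm'
  exact le_antisymm (hmax _ ⟨⟨x, rfl⟩, hdm.trans hmm'⟩) (Nat.le_of_dvd (orderOf_pos x) hmm')

/-- For a finite group X write μ(X) for the set of element orders of X that are maximal under divisibility. Let G and H be finite groups and k ≥ 1 such that μ(H) ⊆ μ(G) and μ(G) has fewer than k elements outside μ(H). Then the direct product of k copies of G has the same set of element orders as the direct product of k − 1 copies of G with H. -/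
theorem result {G H : Type*} [Group G] [Finite G] [Group H] [Finite H] (k : ℕ) (hk : 1 ≤ k)
    (hsub : {n : ℕ | n ∈ Set.range (orderOf : H → ℕ) ∧ ∀ m ∈ Set.range (orderOf : H → ℕ), n ∣ m → m = n} ⊆ {n : ℕ | n ∈ Set.range (orderOf : G → ℕ) ∧ ∀ m ∈ Set.range (orderOf : G → ℕ), n ∣ m → m = n})
    (hfew : ({n : ℕ | n ∈ Set.range (orderOf : G → ℕ) ∧ ∀ m ∈ Set.range (orderOf : G → ℕ), n ∣ m → m = n} \ {n : ℕ | n ∈ Set.range (orderOf : H → ℕ) ∧ ∀ m ∈ Set.range (orderOf : H → ℕ), n ∣ m → m = n}).ncard < k) :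
    Set.range (orderOf : (Fin k → G) → ℕ) = Set.range (orderOf : (Fin (k - 1) → G) × H → ℕ) := by
  classical
  set SG := Set.range (orderOf : G → ℕ)
  set SH := Set.range (orderOf : H → ℕ)
  set MG := {n : ℕ | n ∈ SG ∧ ∀ m ∈ SG, n ∣ m → m = n}
  set MH := {n : ℕ | n ∈ SH ∧ ∀ m ∈ SH, n ∣ m → m = n}
  have exG : ∀ d ∈ SG, ∃ m ∈ MG, d ∣ m := fun d hd => exists_maximal_order G d hd
  have exH : ∀ d ∈ SH, ∃ m ∈ MH, d ∣ m := fun d hd => exists_maximal_order H d hd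
  obtain ⟨k, rfl⟩ : ∃ j, k = j + 1 := ⟨k - 1, by omega⟩
  change Set.range (orderOf : (Fin (k + 1) → G) → ℕ) = Set.range (orderOf : (Fin k → G) × H → ℕ)
  refine Set.Subset.antisymm ?_ ?_
  · rintro _ ⟨z, rfl⟩
    choose m hm hdiv using fun i => exG (orderOf (z i)) ⟨z i, rfl⟩
    suffices hs : ∃ (y : Fin k → G) (h : H), ∀ i, m i ∣ orderOf (y, h) by
      obtain ⟨y, h, hy⟩ := hs
      exact mem_range_orderOf_of_dvd (y, h) (orderOf_pos _).ne'
        ((orderOf_pi_dvd_iff z _).2 fun i => (hdiv i).trans (hy i))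
    choose g hg using fun i => (hm i).1
    by_cases hH : ∃ i, m i ∈ MH
    · obtain ⟨i₀, hi₀⟩ := hH
      obtain ⟨h, hh⟩ := hi₀.1
      refine ⟨fun j => g (i₀.succAbove j), h, fun i => ?_⟩
      rw [Prod.orderOf]
      rcases Fin.eq_self_or_eq_succAbove i₀ i with rfl | ⟨j, rfl⟩
      · rw [← hh]; exact Nat.dvd_lcm_right _ _
      · refine Dvd.dvd.trans ?_ (Nat.dvd_lcm_left _ _)
        exact hg (i₀.succAbove j) ▸ (orderOf_pi_dvd_iff (fun j => g (i₀.succAbove j)) _).1 dvd_rfl j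
    · push Not at hH
      have hfin : MG.Finite := (Set.finite_range _).subset fun n hn => hn.1
      obtain ⟨i₀, -, i₁, -, hne, heq⟩ : ∃ i ∈ (Set.univ : Set (Fin (k + 1))), ∃ j ∈ Set.univ, i ≠ j ∧ m i = m j :=
        Set.exists_ne_map_eq_of_ncard_lt_of_maps_to (by simpa [Set.ncard_univ] using hfew)
          (f := m) (t := MG \ MH) (fun i _ => ⟨hm i, hH i⟩) hfin.sdiff
      refine ⟨fun j => g (i₀.succAbove j), 1, fun i => ?_⟩
      obtain ⟨j, hj⟩ : ∃ j, m i = m (i₀.succAbove j) := by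
        rcases Fin.eq_self_or_eq_succAbove i₀ i with rfl | ⟨j, rfl⟩
        · obtain ⟨j, rfl⟩ := Fin.exists_succAbove_eq hne.symm
          exact ⟨j, heq⟩
        · exact ⟨j, rfl⟩
      rw [Prod.orderOf, hj]
      refine Dvd.dvd.trans ?_ (Nat.dvd_lcm_left _ _)
      exact hg (i₀.succAbove j) ▸ (orderOf_pi_dvd_iff (fun j => g (i₀.succAbove j)) _).1 dvd_rfl j
  · rintro _ ⟨⟨y, h⟩, rfl⟩
    obtain ⟨m, hm, hd⟩ := exH (orderOf h) ⟨h, rfl⟩
    obtain ⟨g, hg⟩ := (hsub hm).1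
    refine mem_range_orderOf_of_dvd (Fin.cons g y : Fin (k + 1) → G) (orderOf_pos _).ne' ?_
    rw [Prod.orderOf]
    refine Nat.lcm_dvd ((orderOf_pi_dvd_iff y _).2 fun i => ?_) (hd.trans ?_)
    · simpa using (orderOf_pi_dvd_iff (Fin.cons g y : Fin (k + 1) → G) _).1 dvd_rfl i.succ
    · simpa [hg] using (orderOf_pi_dvd_iff (Fin.cons g y : Fin (k + 1) → G) _).1 dvd_rfl 0

end Cfsg.Agent.S2514
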