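import Cfsg.Statements.S2515
import Cfsg.Agent.Lib.KnownC.TruncatedReeSpectrum


set_option autoImplicit false
open Cfsg

namespace Cfsg.Agent.S2515

/-- Let q = 3^α with α ≥ 3 odd. There is a finite group H having a non-trivial normal 3-subgroup and whose element orders maximal under divisibility are exactly 6, 9, q − 1 and (q + 1)/2. -/
theorem result (α : ℕ) (hα : 3 ≤ α) (hodd : Odd α) :
    ∃ (H : Type) (_ : Group H) (_ : Fintype H), (∃ P : Subgroup H, P.Normal ∧ P ≠ ⊥ ∧ IsPGroup 3 ↥P) ∧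
      {n : ℕ | n ∈ Set.range (orderOf : H → ℕ) ∧ ∀ m ∈ Set.range (orderOf : H → ℕ), n ∣ m → m = n} = ({6, 9, 3 ^ α - 1, (3 ^ α + 1) / 2} : Set ℕ) := by
  classical
  haveI : Fact (Nat.Prime 3) := ⟨Nat.prime_three⟩
  haveI : Fintype (GaloisField 3 α) := Fintype.ofFinite _
  have hq : Fintype.card (GaloisField 3 α) = 3 ^ α := by
    rw [← Nat.card_eq_fintype_card, GaloisField.card 3 α (by omega)]
  haveI : Finite (CfsgLib.KnownC.ReeTrunc.H (GaloisField 3 α)) :=
    Finite.of_equiv _ SemidirectProduct.equivProd.symm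
  refine ⟨CfsgLib.KnownC.ReeTrunc.H (GaloisField 3 α), inferInstance, Fintype.ofFinite _,
    CfsgLib.KnownC.ReeTrunc.normal_three _, ?_⟩
  apply CfsgLib.KnownC.ReeTrunc.maximal_set
  · intro x
    rcases CfsgLib.KnownC.ReeTrunc.order_cases _ hq hodd x with h | h | h | h <;>
      exact ⟨_, by simp, h⟩
  · intro s hs
    simp only [Set.mem_insert_iff, Set.mem_singleton_iff] at hs
    rcases hs with rfl | rfl | rfl | rfl
    exacts [CfsgLib.KnownC.ReeTrunc.exists_six _, CfsgLib.KnownC.ReeTrunc.exists_nine _,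
      CfsgLib.KnownC.ReeTrunc.exists_split _ hq hodd, CfsgLib.KnownC.ReeTrunc.exists_nonsplit _ hq hodd]
  · obtain ⟨k, rfl⟩ := hodd
    have h27 : 3 ^ 3 ≤ 3 ^ (2 * k + 1) := Nat.pow_le_pow_right (by norm_num) hα
    have h3 : 3 ∣ 3 ^ (2 * k + 1) := dvd_pow_self 3 (by omega)
    have h4 : 3 ^ (2 * k + 1) % 4 = 3 := by rw [pow_succ, pow_mul, Nat.mul_mod, Nat.pow_mod]; norm_num
    generalize 3 ^ (2 * k + 1) = Q at *
    intro s hs t ht hst
    simp only [Set.mem_insert_iff, Set.mem_singleton_iff] at hs ht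
    have hA : ¬ 3 ∣ Q - 1 := by omega
    have hB : ¬ 3 ∣ (Q + 1) / 2 := by omega
    have hC : ¬ (Q + 1) / 2 ∣ Q - 1 := by
      intro h
      have h2 : (Q + 1) / 2 ∣ 2 := by
        have := Nat.dvd_sub (dvd_mul_left ((Q + 1) / 2) 2) h
        rwa [show 2 * ((Q + 1) / 2) - (Q - 1) = 2 by omega] at this
      have := Nat.le_of_dvd (by norm_num) h2
      omega
    rcases hs with rfl | rfl | rfl | rfl <;> rcases ht with rfl | rfl | rfl | rfl
    all_goals first
      | rfl
      | omega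
      | exact absurd (dvd_trans (show 3 ∣ 6 by norm_num) hst) hA
      | exact absurd (dvd_trans (show 3 ∣ 9 by norm_num) hst) hA
      | exact absurd (dvd_trans (show 3 ∣ 6 by norm_num) hst) hB
      | exact absurd (dvd_trans (show 3 ∣ 9 by norm_num) hst) hB
      | (have := Nat.le_of_dvd (by omega) hst; omega)
      | exact absurd hst (by norm_num)
      | exact absurd hst hC
      | (have := Nat.le_of_dvd (by omega) hst; omega)

end Cfsg.Agent.S2515
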