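import Cfsg.Statements.S2516
-- import your own Cfsg.Agent.* helpers here

set_option autoImplicit false
open Cfsg

namespace Cfsg.Agent.S2516

/-- Let F be a field of characteristic p > 0, V a non-zero finite-dimensional F-vector space, G a finite group and ρ a representation of G on V; form the semidirect product V ⋊ G. For g ∈ G of order k, the coset Vg contains an element of order pk if and only if the minimal polynomial of ρ(g) does not divide 1 + X + ⋯ + X^(k−1). -/
theorem result {F : Type*} [Field F] (p : ℕ) [Fact p.Prime] [CharP F p] {V : Type*} [AddCommGroup V] [Module F V] [FiniteDimensional F V] [Nontrivial V]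
    {G : Type*} [Group G] [Finite G] (ρ : Representation F G V) (g : G) :
    (∃ x : Multiplicative V ⋊[(MulAutMultiplicative V).symm.toMonoidHom.comp
        ((DistribMulAction.toAddAut ((V →ₗ[F] V)ˣ) V).comp ρ.asGroupHom)] G,
        x.right = g ∧ orderOf x = p * orderOf g) ↔
      ¬ (minpoly F (ρ g) ∣ ∑ i ∈ Finset.range (orderOf g), (Polynomial.X : Polynomial F) ^ i) := by
  set H := Multiplicative V ⋊[(MulAutMultiplicative V).symm.toMonoidHom.comp
        ((DistribMulAction.toAddAut ((V →ₗ[F] V)ˣ) V).comp ρ.asGroupHom)] G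
  set k := orderOf g
  have hk : 0 < k := orderOf_pos g
  set S : V →ₗ[F] V := ∑ i ∈ Finset.range k, (ρ g) ^ i with hS
  have hpow : ∀ (x : H), x.right = g → ∀ j : ℕ,
      (x ^ j).right = g ^ j ∧ Multiplicative.toAdd (x ^ j).left =
        (∑ i ∈ Finset.range j, (ρ g) ^ i) (Multiplicative.toAdd x.left) := by
    intro x hx j
    induction j with
    | zero =>
      rw [pow_zero, pow_zero, Finset.range_zero, Finset.sum_empty, LinearMap.zero_apply]
      exact ⟨rfl, rfl⟩
    | succ j ih =>
      refine ⟨by rw [pow_succ, SemidirectProduct.mul_right, ih.1, hx, pow_succ], ?_⟩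
      rw [pow_succ, SemidirectProduct.mul_left, toAdd_mul, ih.2, ih.1, Finset.sum_range_succ,
        LinearMap.add_apply, ← map_pow]
      rfl
  have hrdvd : ∀ x : H, x.right = g → k ∣ orderOf x := by
    intro x hx
    have := orderOf_map_dvd (SemidirectProduct.rightHom (φ := (MulAutMultiplicative V).symm.toMonoidHom.comp
        ((DistribMulAction.toAddAut ((V →ₗ[F] V)ˣ) V).comp ρ.asGroupHom))) x
    change orderOf x.right ∣ orderOf x at this
    rwa [hx] at this
  have hxk : ∀ x : H, x.right = g → x ^ k = SemidirectProduct.inl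
      (Multiplicative.ofAdd (S (Multiplicative.toAdd x.left))) := by
    intro x hx
    refine SemidirectProduct.ext ?_ ?_
    · exact Multiplicative.toAdd.injective (hpow x hx k).2
    · rw [SemidirectProduct.right_inl, (hpow x hx k).1]; exact pow_orderOf_eq_one g
  have hminiff : minpoly F (ρ g) ∣ ∑ i ∈ Finset.range k, (Polynomial.X : Polynomial F) ^ i ↔ S = 0 := by
    rw [minpoly.dvd_iff, map_sum, hS]
    simp only [map_pow, Polynomial.aeval_X]
  rw [hminiff]
  constructor
  · rintro ⟨x, hx, hord⟩ h0
    have h1 : x ^ k = 1 := by rw [hxk x hx, h0, LinearMap.zero_apply, ofAdd_zero]; exact map_one _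
    have h2 := Nat.le_of_dvd hk (orderOf_dvd_of_pow_eq_one h1)
    rw [hord] at h2
    exact absurd h2 (not_le.2 (lt_mul_left hk (Fact.out : p.Prime).one_lt))
  · intro h0
    obtain ⟨v, hv⟩ : ∃ v, S v ≠ 0 := by
      by_contra hh; push Not at hh; exact h0 (LinearMap.ext hh)
    let x : H := ⟨Multiplicative.ofAdd v, g⟩
    refine ⟨x, rfl, ?_⟩
    obtain ⟨d, hd⟩ := hrdvd x rfl
    have hp1 : x ^ (p * k) = 1 := by
      rw [mul_comm, pow_mul, hxk x rfl, ← map_pow, ← ofAdd_nsmul,
        show p • S (Multiplicative.toAdd x.left) = 0 by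
          rw [← Nat.cast_smul_eq_nsmul F, CharP.cast_eq_zero, zero_smul]]
      rw [ofAdd_zero]; exact map_one _
    have hdvd := orderOf_dvd_of_pow_eq_one hp1
    rw [hd, mul_comm p k] at hdvd
    rcases (Nat.dvd_prime Fact.out).1 (Nat.dvd_of_mul_dvd_mul_left hk hdvd) with h1 | h1
    · exfalso
      have h2 := pow_orderOf_eq_one x
      rw [hd, h1, mul_one, hxk x rfl, ← map_one (SemidirectProduct.inl : _ →* H)] at h2
      exact hv (Multiplicative.ofAdd.injective (SemidirectProduct.inl_injective h2))
    · rw [hd, h1, mul_comm]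

end Cfsg.Agent.S2516
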