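import Cfsg.Statements.S2517
import Cfsg.Agent.Lib.KnownC.OrthNineSpectrum
import Cfsg.Agent.Lib.Recog.SemidirectSpectrum
import Cfsg.Agent.Lib.KnownC.Spectra

set_option autoImplicit false
set_option synthInstance.maxHeartbeats 400000
set_option maxHeartbeats 1000000
open Cfsg

namespace Cfsg.Agent.S2517

open CfsgLib.Geom CfsgLib.Classical CfsgLib.KnownB.SpOrth CfsgLib.KnownC.OrthNine

/-- `Ω(Q)` acting on its module. -/
noncomputable local instance omegaAct {F : Type*} [Field F] {ι : Type} [Fintype ι] [DecidableEq ι]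
    (Q : QuadraticForm F (ι → F)) : DistribMulAction ↥(Cfsg.Omega F (⇑Q)) (ι → F) :=
  DistribMulAction.compHom (ι → F) (Matrix.GeneralLinearGroup.toLin.toMonoidHom.comp
    ((Cfsg.isometryGroup F (⇑Q)).subtype.comp (Cfsg.Omega F (⇑Q)).subtype))

/-- The element orders of `V ⋊ Ω(Q)`. -/
theorem semidirect_range {F : Type*} [Field F] [Fintype F] {p : ℕ} [hp : Fact p.Prime] [CharP F p] {ι : Type}
    [Fintype ι] [DecidableEq ι] (Q : QuadraticForm F (ι → F)) (N : ℕ) :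
    N ∈ Set.range (orderOf : (Multiplicative (ι → F)) ⋊[(MulAutMultiplicative (ι → F)).symm.toMonoidHom.comp
        ((DistribMulAction.toAddAut (LinearMap.GeneralLinearGroup F (ι → F)) (ι → F)).comp
          (Matrix.GeneralLinearGroup.toLin.toMonoidHom.comp
            ((Cfsg.isometryGroup F (⇑Q)).subtype.comp (Cfsg.Omega F (⇑Q)).subtype)))] ↥(Cfsg.Omega F (⇑Q)) → ℕ) ↔
      ∃ g ∈ commutator (quadIsoms Q), ∃ v : ι → F,
        ((∑ i ∈ Finset.range (orderOf g), (g ^ i).1 v) = 0 ∧ N = orderOf g) ∨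
        ((∑ i ∈ Finset.range (orderOf g), (g ^ i).1 v) ≠ 0 ∧ N = p * orderOf g) := by
  have hφ : (MulAutMultiplicative (ι → F)).symm.toMonoidHom.comp
      ((DistribMulAction.toAddAut (LinearMap.GeneralLinearGroup F (ι → F)) (ι → F)).comp
        (Matrix.GeneralLinearGroup.toLin.toMonoidHom.comp
          ((Cfsg.isometryGroup F (⇑Q)).subtype.comp (Cfsg.Omega F (⇑Q)).subtype))) =
      CfsgLib.Recog.mulAutOfAction ↥(Cfsg.Omega F (⇑Q)) (ι → F) :=
    MonoidHom.ext fun c => MulEquiv.ext fun v => rfl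
  rw [hφ]
  have hexp : ∀ v : ι → F, p • v = 0 := fun v => by
    rw [← Nat.cast_smul_eq_nsmul F, CharP.cast_eq_zero, zero_smul]
  have hact : ∀ (g : quadIsoms Q) (c : ↥(Cfsg.Omega F (⇑Q))), orEquiv Q g = c.1 → ∀ (i : ℕ) (v : ι → F),
      (g ^ i).1 v = c ^ i • v := fun g c h i v => by
    rw [← orEquiv_mulVec Q (g ^ i), map_pow, h]
    rfl
  have key : ∀ (g : quadIsoms Q) (c : ↥(Cfsg.Omega F (⇑Q))), orEquiv Q g = c.1 → orderOf g = orderOf c :=
    fun g c h => by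
      rw [← Subgroup.orderOf_coe c, ← h]
      exact (orderOf_injective (orEquiv Q).toMonoidHom (orEquiv Q).injective g).symm
  constructor
  · rintro ⟨x, rfl⟩
    obtain ⟨g, hg⟩ := (orEquiv Q).surjective x.right.1
    refine ⟨g, (mem_comm_iff g).2 (by show orEquiv Q g ∈ _; rw [hg]; exact x.right.2), x.left.toAdd, ?_⟩
    simp only [hact g x.right hg, key g x.right hg]
    exact CfsgLib.Recog.orderOf_semidirect hp.out hexp x
  · rintro ⟨g, hg, v, h⟩
    obtain ⟨c, hc⟩ : ∃ c : ↥(Cfsg.Omega F (⇑Q)), orEquiv Q g = c.1 := ⟨⟨orEquiv Q g, (mem_comm_iff g).1 hg⟩, rfl⟩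
    refine ⟨⟨Multiplicative.ofAdd v, c⟩, ?_⟩
    simp only [hact g c hc, key g c hc] at h
    rcases CfsgLib.Recog.orderOf_semidirect hp.out hexp (⟨Multiplicative.ofAdd v, c⟩ :
        Multiplicative (ι → F) ⋊[CfsgLib.Recog.mulAutOfAction ↥(Cfsg.Omega F (⇑Q)) (ι → F)] _) with
      ⟨h0, ho⟩ | ⟨h0, ho⟩ <;> rcases h with ⟨h1, rfl⟩ | ⟨h1, rfl⟩
    exacts [ho, absurd h0 h1, absurd h1 h0, ho]

/-- Let F be a finite field of odd order q, let Ω₉ be the simple orthogonal group PΩ(9, F), and let Ω₈⁻ be the commutator subgroup of the isometry group of a minus-type non-singular quadratic form on V = F⁸ (the simple group PΩ⁻(8, F), acting on its natural module V). Then Ω₉ and the semidirect product V ⋊ Ω₈⁻ have exactly the same set of element orders. -/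
theorem result {F : Type*} [Field F] [Fintype F] (hF : Odd (Fintype.card F)) (a b : F)
    (hab : ∀ z₁ z₂ : F, z₁ ^ 2 + a * z₁ * z₂ + b * z₂ ^ 2 = 0 → z₁ = 0 ∧ z₂ = 0) :
    Set.range (orderOf : Cfsg.POmega F (Cfsg.quadFormOdd 4 F) → ℕ) =
      Set.range (orderOf :
        (Multiplicative (((Fin 3 ⊕ Fin 3) ⊕ Fin 2) → F)) ⋊[
          (MulAutMultiplicative (((Fin 3 ⊕ Fin 3) ⊕ Fin 2) → F)).symm.toMonoidHom.comp
           ((DistribMulAction.toAddAut (LinearMap.GeneralLinearGroup F (((Fin 3 ⊕ Fin 3) ⊕ Fin 2) → F))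
              (((Fin 3 ⊕ Fin 3) ⊕ Fin 2) → F)).comp
            (Matrix.GeneralLinearGroup.toLin.toMonoidHom.comp
              ((Cfsg.isometryGroup F (Cfsg.quadFormMinus 3 F a b)).subtype.comp
                (Cfsg.Omega F (Cfsg.quadFormMinus 3 F a b)).subtype)))]
          ↥(Cfsg.Omega F (Cfsg.quadFormMinus 3 F a b)) → ℕ) := by
  obtain ⟨p, hchar⟩ := CharP.exists F
  have hp : Fact p.Prime := ⟨CharP.char_is_prime F p⟩
  have hp2 : p ≠ 2 := by
    rintro rfl
    obtain ⟨n, -, hn⟩ := FiniteField.card F 2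
    rw [hn, Nat.odd_pow_iff n.pos.ne'] at hF
    exact absurd hF (by decide)
  have h2 := two_ne_zero_of_char (F := F) hp2
  rw [← qfOdd_coe, ← qfMinus_coe]
  ext N
  constructor
  · intro hN
    obtain ⟨g, hg, rfl⟩ := (pomega_range_iff (F := F) (n := 4) h2 (by norm_num) N).1 hN
    obtain ⟨g', hg', hd⟩ := specM_of_mem (p := p) hab hp2 ((mem_comm_iff g).2 hg)
    have := finite_isoms (qfMinus 3 F a b)
    have hne : orderOf g' ≠ 0 := (orderOf_pos g').ne'
    rcases hd with hd | ⟨v, hv, hd⟩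
    · obtain ⟨x, hx⟩ := (semidirect_range (p := p) (qfMinus 3 F a b) (orderOf g')).2
        ⟨g', hg', 0, Or.inl ⟨by simp, rfl⟩⟩
      exact CfsgLib.KnownC.mem_range_orderOf_of_dvd x (hx ▸ hne) (hx ▸ hd)
    · obtain ⟨x, hx⟩ := (semidirect_range (p := p) (qfMinus 3 F a b) (p * orderOf g')).2
        ⟨g', hg', v, Or.inr ⟨hv, rfl⟩⟩
      exact CfsgLib.KnownC.mem_range_orderOf_of_dvd x (hx ▸ mul_ne_zero hp.out.ne_zero hne) (hx ▸ hd)
  · intro hN
    have main : ∀ m, Spec9 F m → m ∈ Set.range (orderOf : Cfsg.POmega F (⇑(qfOdd 4 F)) → ℕ) := by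
      rintro m ⟨g₉, hg₉, hd⟩
      obtain ⟨y, hy⟩ := (pomega_range_iff (F := F) (n := 4) h2 (by norm_num) (orderOf g₉)).2
        ⟨g₉, (mem_comm_iff g₉).1 hg₉, rfl⟩
      have := finite_isoms (qfOdd 4 F)
      exact CfsgLib.KnownC.mem_range_orderOf_of_dvd y (hy ▸ (orderOf_pos g₉).ne') (hy ▸ hd)
    obtain ⟨g, hg, v, ⟨-, rfl⟩ | ⟨hv, rfl⟩⟩ := (semidirect_range (p := p) (qfMinus 3 F a b) N).1 hN
    · exact main _ (spec9_of_mem (p := p) hab hp2 hg)
    · exact main _ (spec9_of_norm (p := p) hab hp2 hg hv)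

end Cfsg.Agent.S2517
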