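import Cfsg.Statements.S2520
import Cfsg.Agent.Lib.Chev.G2EvenUnitary
import Cfsg.Agent.Lib.NormalCover.G2Spectrum

set_option autoImplicit false
open Cfsg

namespace Cfsg.Agent.S2520

/-- Let F be a finite field with q = 2^a ≥ 4 elements and G₂(F) the Chevalley group of type G₂ over it. Every element order of G₂(F) maximal under divisibility lies in the set {8, 12, 2(q + 1), 2(q − 1), q² − 1, q² + q + 1, q² − q + 1}, and every member of that set is an element order of G₂(F). -/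
theorem result {F : Type*} [Field F] [Fintype F] (a : ℕ) (ha : 2 ≤ a) (hF : Fintype.card F = 2 ^ a) :
    {n : ℕ | n ∈ Set.range (orderOf : ↥(Cfsg.Lie.chevG2.group F) → ℕ) ∧ ∀ m ∈ Set.range (orderOf : ↥(Cfsg.Lie.chevG2.group F) → ℕ), n ∣ m → m = n} ⊆ ({8, 12, 2 * (2 ^ a + 1), 2 * (2 ^ a - 1), 2 ^ (2 * a) - 1, 2 ^ (2 * a) + 2 ^ a + 1, 2 ^ (2 * a) - 2 ^ a + 1} : Set ℕ) ∧
    ({8, 12, 2 * (2 ^ a + 1), 2 * (2 ^ a - 1), 2 ^ (2 * a) - 1, 2 ^ (2 * a) + 2 ^ a + 1, 2 ^ (2 * a) - 2 ^ a + 1} : Set ℕ) ⊆ Set.range (orderOf : ↥(Cfsg.Lie.chevG2.group F) → ℕ) := by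
  classical
  have h2 : (2 : F) = 0 := by
    have h := congrArg (fun n : ℕ => (n : F)) hF
    simp only [Nat.cast_pow, Nat.cast_ofNat] at h
    rw [Nat.cast_card_eq_zero] at h
    exact eq_zero_of_pow_eq_zero h.symm
  obtain ⟨q, hqa⟩ : ∃ q, q = 2 ^ a := ⟨_, rfl⟩
  have hq : Fintype.card F = q := hF.trans hqa.symm
  have hq4 : 4 ≤ q := hqa ▸ Nat.pow_le_pow_right (n := 2) (by norm_num) ha
  have heven : Even q := hqa ▸ (Nat.even_pow' (by omega)).2 even_two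
  have hodd1 : Odd (q - 1) := Nat.Even.sub_odd (by omega) heven odd_one
  have hodd2 : Odd (q + 1) := heven.add_one
  have hall : ∀ n ∈ ({8, 12, 2 * (q + 1), 2 * (q - 1), q ^ 2 - 1, q ^ 2 + q + 1, q ^ 2 - q + 1} : Set ℕ),
      n ∈ Set.range (orderOf : ↥(Cfsg.Lie.chevG2.group F) → ℕ) := by
    intro n hn
    simp only [Set.mem_insert_iff, Set.mem_singleton_iff] at hn
    rcases hn with rfl | rfl | rfl | rfl | rfl | rfl | rfl
    · exact (CfsgLib.Chev.G2Oct.exists_eight_twelve h2).1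
    · exact (CfsgLib.Chev.G2Oct.exists_eight_twelve h2).2
    · exact CfsgLib.Chev.G2Oct.exists_mixed_order h2 hq (by omega) hodd2 (Or.inr dvd_rfl)
    · exact CfsgLib.Chev.G2Oct.exists_mixed_order h2 hq (by omega) hodd1 (Or.inl dvd_rfl)
    · exact CfsgLib.Chev.G2Oct.exists_order_sq_sub_one h2 hq hq4
    · obtain ⟨H, hc, hcard, -⟩ := CfsgLib.Chev.G2Torus.exists_torus F q hq (by omega)
      obtain ⟨h, hh⟩ := IsCyclic.exists_generator (α := ↥H)
      exact ⟨h, by rw [Subgroup.orderOf_coe, orderOf_eq_card_of_forall_mem_zpowers hh, hcard]⟩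
    · exact CfsgLib.Chev.G2Oct.exists_order_singer_minus h2 hqa (by omega) hq
  rw [pow_mul' 2 2 a, ← hqa]
  refine ⟨fun n hn => ?_, hall⟩
  obtain ⟨⟨g, rfl⟩, hmax⟩ := hn
  obtain ⟨m, hm, hgm⟩ := CfsgLib.NormalCover.g2_order_cases h2 hq (CfsgLib.Chev.G2Oct.toOct h2 g).2
  have hdvd : orderOf g ∣ m := by
    rw [← orderOf_injective (CfsgLib.Chev.G2Oct.toOct h2) (CfsgLib.Chev.G2Oct.toOct_injective h2) g]
    exact orderOf_dvd_of_pow_eq_one (Subtype.ext hgm)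
  exact hmax m (hall m hm) hdvd ▸ hm

end Cfsg.Agent.S2520
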