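import Cfsg.Statements.S2521
-- import your own Cfsg.Agent.* helpers here

set_option autoImplicit false
open Cfsg

namespace Cfsg.Agent.S2521

/-- Let B be a finite group that is the semidirect product of a nilpotent normal subgroup U by an abelian subgroup T (U ∩ T = 1, UT = B), and let t ∈ T have centralizer exactly T. Then every element of the coset tU is conjugate to t in B: for each u ∈ U there is b ∈ B with b t b⁻¹ = t u. -/
theorem result {B : Type*} [Group B] [Finite B] (U T : Subgroup B) [U.Normal] (hU : Group.IsNilpotent ↥U) (hT : IsMulCommutative ↥T)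
    (hcompl : Subgroup.IsComplement' U T) (t : B) (ht : t ∈ T) (hreg : Subgroup.centralizer ({t} : Set B) = T) (u : B) (hu : u ∈ U) :
    ∃ b : B, b * t * b⁻¹ = t * u := by
  obtain ⟨hcard, -⟩ := And.intro hcompl.card_mul trivial
  let C : Set B := Set.range fun b : ↥U => (b : B) * t * (b : B)⁻¹
  have hinj : Function.Injective fun b : ↥U => (b : B) * t * (b : B)⁻¹ := by
    intro b c hbc
    have hc : ((c : B)⁻¹ * b) ∈ Subgroup.centralizer ({t} : Set B) := by
      rw [Subgroup.mem_centralizer_singleton_iff]
      have := congrArg (fun z => (c : B)⁻¹ * z * b) hbc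
      simp only [mul_assoc, inv_mul_cancel, mul_one, inv_mul_cancel_left] at this
      simpa [mul_assoc] using this
    rw [hreg] at hc
    have hu' : ((c : B)⁻¹ * b) ∈ U := U.mul_mem (U.inv_mem c.2) b.2
    have := Subgroup.disjoint_def.1 hcompl.disjoint hu' hc
    exact Subtype.ext (inv_mul_eq_one.1 this).symm
  have hsub : C ⊆ Set.range fun w : ↥U => t * (w : B) := by
    rintro _ ⟨b, rfl⟩
    refine ⟨⟨(t⁻¹ * b * t) * (b : B)⁻¹, U.mul_mem ?_ (U.inv_mem b.2)⟩, by simp [mul_assoc]⟩
    simpa using ‹U.Normal›.conj_mem (b : B) b.2 t⁻¹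
  have heq : C = Set.range fun w : ↥U => t * (w : B) := by
    refine Set.eq_of_subset_of_ncard_le hsub (le_of_eq ?_) (Set.toFinite _)
    rw [Set.ncard_range_of_injective hinj, Set.ncard_range_of_injective]
    exact fun v w h => Subtype.ext (mul_left_cancel h)
  obtain ⟨b, hb⟩ := heq.symm.subset ⟨⟨u, hu⟩, rfl⟩
  exact ⟨b, hb⟩

end Cfsg.Agent.S2521
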