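import Cfsg.Statements.S2524
import Cfsg.Agent.Lib.Classical.SpWeilGap.Main

set_option autoImplicit false
open Cfsg

namespace Cfsg.Agent.S2524

/-- Let F be a finite field of odd order q and G = Sp(2n, F) with n ≥ 2. Then G has exactly four irreducible complex characters of degree (q^n + 1)/2 or (q^n − 1)/2 (two of each), and every other non-principal irreducible character has degree at least (q^n − 1)(q^n − q)/(2(q + 1)). -/
theorem result {F : Type*} [Field F] [Fintype F] (hodd : Odd (Fintype.card F)) (n : ℕ) (hn : 2 ≤ n) :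
    Nat.card {χ : Cfsg.IrrCharacter ↥(Matrix.symplecticGroup (Fin n) F) // (χ : ↥(Matrix.symplecticGroup (Fin n) F) → ℂ) 1 = (((Fintype.card F) ^ n + 1 : ℕ) : ℂ) / 2} = 2 ∧
    Nat.card {χ : Cfsg.IrrCharacter ↥(Matrix.symplecticGroup (Fin n) F) // (χ : ↥(Matrix.symplecticGroup (Fin n) F) → ℂ) 1 = (((Fintype.card F) ^ n - 1 : ℕ) : ℂ) / 2} = 2 ∧
    ∀ χ : Cfsg.IrrCharacter ↥(Matrix.symplecticGroup (Fin n) F),
      (χ : ↥(Matrix.symplecticGroup (Fin n) F) → ℂ) 1 ≠ 1 →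
      (χ : ↥(Matrix.symplecticGroup (Fin n) F) → ℂ) 1 ≠ (((Fintype.card F) ^ n + 1 : ℕ) : ℂ) / 2 →
      (χ : ↥(Matrix.symplecticGroup (Fin n) F) → ℂ) 1 ≠ (((Fintype.card F) ^ n - 1 : ℕ) : ℂ) / 2 →
      (((Fintype.card F) ^ n - 1 : ℕ) : ℝ) * (((Fintype.card F) ^ n - Fintype.card F : ℕ) : ℝ) / (2 * ((Fintype.card F : ℕ) + 1 : ℝ)) ≤ ‖(χ : ↥(Matrix.symplecticGroup (Fin n) F) → ℂ) 1‖ := by
  obtain ⟨m, rfl⟩ : ∃ m, n = m + 1 := ⟨n - 1, by omega⟩
  have h2 : (2 : F) ≠ 0 := by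
    intro h
    have hc : ringChar F = 2 := by
      have : CharP F 2 := CharTwo.of_one_ne_zero_of_two_eq_zero one_ne_zero h
      exact ringChar.eq F 2
    exact Nat.not_even_iff_odd.2 hodd (Nat.even_iff.2 (FiniteField.even_card_of_char_two hc))
  haveI : Fintype (CfsgLib.Classical.SpMinDeg.symMat (m + 1) F) := Fintype.ofFinite _
  obtain ⟨h1, h3, h4⟩ := CfsgLib.Classical.SpWeilGap.main (F := F) (m := m) h2 (by omega)
  obtain ⟨d, hd⟩ := hodd.pow (n := m + 1)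
  have hdd : (Fintype.card F ^ (m + 1) - 1) / 2 = d := by omega
  have e1 : (((Fintype.card F) ^ (m + 1) + 1 : ℕ) : ℂ) / 2 = ((d + 1 : ℕ) : ℂ) := by
    rw [hd]; push_cast; ring
  have e2 : (((Fintype.card F) ^ (m + 1) - 1 : ℕ) : ℂ) / 2 = ((d : ℕ) : ℂ) := by
    rw [show Fintype.card F ^ (m + 1) - 1 = 2 * d by omega]; push_cast; ring
  rw [hdd] at h1 h3
  rw [e1, e2]
  refine ⟨h1, h3, fun χ hne hne1 hne2 => ?_⟩
  obtain ⟨k, ρ, -, -, hk, -⟩ := CfsgLib.Classical.SpWeilGap.irr_data (m := m) χ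
  have h := h4 χ k hk (fun e => hne (by rw [hk, e, Nat.cast_one]))
    (fun e => hne1 (by rw [hk, e, hdd])) (fun e => hne2 (by rw [hk, e, hdd]))
  rw [hk, Complex.norm_natCast, div_le_iff₀ (by positivity)]
  have h' : (((Fintype.card F ^ (m + 1) - 1) * (Fintype.card F ^ (m + 1) - Fintype.card F) : ℕ) : ℝ) ≤
      ((2 * (Fintype.card F + 1) * k : ℕ) : ℝ) := by exact_mod_cast h
  push_cast at h' ⊢
  linarith

end Cfsg.Agent.S2524
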