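import Cfsg.Statements.S2525
import Cfsg.Agent.Lib.Chev.F4PrimeGraph

set_option autoImplicit false
open Cfsg

namespace Cfsg.Agent.S2525

/-- Let F be a finite field with q = 2^n elements and G = F₄(F). For an odd prime r let e(r, q) be the multiplicative order of q modulo r. Two distinct primes r, s dividing the order of G are non-adjacent in the prime graph of G (no element of order rs) if and only if, up to swapping r and s, either r = 2 and e(s, q) ∈ {8, 12}, or r, s are both odd with k = e(r, q) < l = e(s, q) and one of: l ∈ {8, 12}; l = 6 and k ∈ {3, 4}; l = 4 and k = 3. -/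
theorem result {F : Type*} [Field F] [Fintype F] (n : ℕ) (hn : 1 ≤ n) (hF : Fintype.card F = 2 ^ n)
    (r s : ℕ) (hr : r.Prime) (hs : s.Prime) (hrs : r ≠ s) (hrG : r ∣ Nat.card ↥(Cfsg.Lie.chevF4.group F)) (hsG : s ∣ Nat.card ↥(Cfsg.Lie.chevF4.group F)) :
    (¬ ∃ x : ↥(Cfsg.Lie.chevF4.group F), orderOf x = r * s) ↔
      ((r = 2 ∧ orderOf ((Fintype.card F : ℕ) : ZMod s) ∈ ({8, 12} : Finset ℕ)) ∨ (s = 2 ∧ orderOf ((Fintype.card F : ℕ) : ZMod r) ∈ ({8, 12} : Finset ℕ)) ∨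
       (r ≠ 2 ∧ s ≠ 2 ∧
         ((orderOf ((Fintype.card F : ℕ) : ZMod r) < orderOf ((Fintype.card F : ℕ) : ZMod s) ∧ (orderOf ((Fintype.card F : ℕ) : ZMod s) ∈ ({8, 12} : Finset ℕ) ∨ (orderOf ((Fintype.card F : ℕ) : ZMod s) = 6 ∧ orderOf ((Fintype.card F : ℕ) : ZMod r) ∈ ({3, 4} : Finset ℕ)) ∨ (orderOf ((Fintype.card F : ℕ) : ZMod s) = 4 ∧ orderOf ((Fintype.card F : ℕ) : ZMod r) = 3))) ∨
          (orderOf ((Fintype.card F : ℕ) : ZMod s) < orderOf ((Fintype.card F : ℕ) : ZMod r) ∧ (orderOf ((Fintype.card F : ℕ) : ZMod r) ∈ ({8, 12} : Finset ℕ) ∨ (orderOf ((Fintype.card F : ℕ) : ZMod r) = 6 ∧ orderOf ((Fintype.card F : ℕ) : ZMod s) ∈ ({3, 4} : Finset ℕ)) ∨ (orderOf ((Fintype.card F : ℕ) : ZMod r) = 4 ∧ orderOf ((Fintype.card F : ℕ) : ZMod s) = 3)))))) := by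
  haveI := Fact.mk hr
  haveI := Fact.mk hs
  haveI : Fact (Nat.Prime 2) := ⟨Nat.prime_two⟩
  haveI : CharP F 2 := by
    obtain ⟨p, hp⟩ := CharP.exists F
    haveI := hp
    obtain ⟨k, hpp, hk⟩ := FiniteField.card F p
    have h2 : p ∣ 2 := hpp.dvd_of_dvd_pow (hF ▸ hk ▸ dvd_pow_self p k.ne_zero)
    rwa [(Nat.prime_dvd_prime_iff_eq hpp Nat.prime_two).1 h2] at hp
  set q := Fintype.card F with hq
  have hq2 : 2 ∣ q := hF ▸ dvd_pow_self 2 (by omega)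
  have hq1 : q ≠ 0 := by rw [hF]; exact pow_ne_zero _ two_ne_zero
  have hmem : ∀ t : ℕ, Fact t.Prime → t ∣ Nat.card ↥(Cfsg.Lie.chevF4.group F) →
      (t = 2 → orderOf (q : ZMod t) = 0) ∧
      (t ≠ 2 → orderOf (q : ZMod t) ∈ ({1, 2, 3, 4, 6, 8, 12} : Finset ℕ)) := by
    intro t ht htG
    refine ⟨fun h => ?_, fun h => CfsgLib.Chev.F4Graph.order_mem F rfl (fun hd => h ?_) htG⟩
    · subst h
      rw [(CharP.cast_eq_zero_iff (ZMod 2) 2 q).2 hq2, orderOf_zero]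
    · rw [hF] at hd
      exact (Nat.prime_dvd_prime_iff_eq ht.out Nat.prime_two).1 (ht.out.dvd_of_dvd_pow hd)
  obtain ⟨hr0, hr1⟩ := hmem r ⟨hr⟩ hrG
  obtain ⟨hs0, hs1⟩ := hmem s ⟨hs⟩ hsG
  have hcases : ∀ l ∈ ({1, 2, 3, 4, 6, 8, 12} : Finset ℕ), CfsgLib.Chev.F4Graph.NonAdj 0 l ↔
      l ∈ ({8, 12} : Finset ℕ) := by decide
  have hsub : ∀ l ∈ ({1, 2, 3, 4, 6, 8, 12} : Finset ℕ), l ∈ ({0, 1, 2, 3, 4, 6, 8, 12} : Finset ℕ) := by decide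
  have h0 : (0 : ℕ) ∈ ({0, 1, 2, 3, 4, 6, 8, 12} : Finset ℕ) := by decide
  by_cases hr2 : r = 2
  · have hs2 : s ≠ 2 := fun h => hrs (hr2.trans h.symm)
    rw [CfsgLib.Chev.F4Graph.adjacent_iff_le hq.symm hq2 hrs (by rw [hr0 hr2]; exact h0) (hs1 hs2)
      (by rw [hr0 hr2]; omega) hrG hsG, hr0 hr2, hcases _ (hs1 hs2)]
    exact ⟨fun h => Or.inl ⟨hr2, h⟩, fun h => h.elim (fun h => h.2)
      (fun h => h.elim (fun h => absurd h.1 hs2) (fun h => absurd hr2 h.1))⟩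
  have hswap : (¬ ∃ x : ↥(Cfsg.Lie.chevF4.group F), orderOf x = r * s) ↔
      ¬ ∃ x : ↥(Cfsg.Lie.chevF4.group F), orderOf x = s * r := by rw [Nat.mul_comm]
  by_cases hs2 : s = 2
  · rw [hswap, CfsgLib.Chev.F4Graph.adjacent_iff_le hq.symm hq2 hrs.symm (by rw [hs0 hs2]; exact h0) (hr1 hr2)
      (by rw [hs0 hs2]; omega) hsG hrG, hs0 hs2, hcases _ (hr1 hr2)]
    exact ⟨fun h => Or.inr (Or.inl ⟨hs2, h⟩), fun h => h.elim (fun h => absurd h.1 hr2)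
      (fun h => h.elim (fun h => h.2) (fun h => absurd hs2 h.2.1))⟩
  have hN : ∀ k l : ℕ, CfsgLib.Chev.F4Graph.NonAdj k l ↔
      k < l ∧ (l ∈ ({8, 12} : Finset ℕ) ∨ (l = 6 ∧ k ∈ ({3, 4} : Finset ℕ)) ∨ (l = 4 ∧ k = 3)) := by
    intro k l
    simp [CfsgLib.Chev.F4Graph.NonAdj, or_assoc]
  rcases le_total (orderOf (q : ZMod r)) (orderOf (q : ZMod s)) with h | h
  · rw [CfsgLib.Chev.F4Graph.adjacent_iff_le hq.symm hq2 hrs (hsub _ (hr1 hr2)) (hs1 hs2) h hrG hsG, hN]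
    refine ⟨fun h' => Or.inr (Or.inr ⟨hr2, hs2, Or.inl h'⟩), ?_⟩
    rintro (⟨h', -⟩ | ⟨h', -⟩ | ⟨-, -, h' | ⟨h', -⟩⟩)
    exacts [absurd h' hr2, absurd h' hs2, h', absurd h' (not_lt.2 h)]
  · rw [hswap, CfsgLib.Chev.F4Graph.adjacent_iff_le hq.symm hq2 hrs.symm (hsub _ (hs1 hs2)) (hr1 hr2) h hsG hrG, hN]
    refine ⟨fun h' => Or.inr (Or.inr ⟨hr2, hs2, Or.inr h'⟩), ?_⟩
    rintro (⟨h', -⟩ | ⟨h', -⟩ | ⟨-, -, ⟨h', -⟩ | h'⟩)
    exacts [absurd h' hr2, absurd h' hs2, absurd h' (not_lt.2 h), h']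

end Cfsg.Agent.S2525
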