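import Cfsg.Statements.S2531
-- import your own Cfsg.Agent.* helpers here

set_option autoImplicit false
open Cfsg

namespace Cfsg.Agent.S2531

open scoped LinearAlgebra.Projectivization

section
variable {F : Type*} [Field F] [Finite F] {n : ℕ}

/-- The projective points of a submodule. -/
def pts (K : Submodule F (Fin n → F)) : Set (ℙ F (Fin n → F)) :=
  Set.range (Projectivization.map K.subtype K.injective_subtype)

theorem mk_mem_pts (K : Submodule F (Fin n → F)) (v : Fin n → F) (hv : v ≠ 0) :
    Projectivization.mk F v hv ∈ pts K ↔ v ∈ K := by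
  constructor
  · rintro ⟨w, hw⟩
    induction w using Projectivization.ind with
    | h w hw0 =>
      rw [Projectivization.map_mk, Projectivization.mk_eq_mk_iff'] at hw
      obtain ⟨a, ha⟩ := hw
      have ha0 : a ≠ 0 := by
        rintro rfl
        rw [zero_smul] at ha
        exact hw0 (Subtype.ext ha.symm)
      have hm : a • v ∈ K := by rw [ha]; exact w.2
      exact (K.smul_mem_iff ha0).1 hm
  · intro h
    refine ⟨Projectivization.mk F (⟨v, h⟩ : K) (fun e => hv (congrArg Subtype.val e)), ?_⟩
    rw [Projectivization.map_mk]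
    rfl

theorem card_pts_cast (K : Submodule F (Fin n → F)) (hK : K ≠ ⊥) :
    (Nat.card (pts K) : F) = 1 := by
  classical
  have hc : Nat.card (pts K) = Nat.card (ℙ F K) :=
    Nat.card_range_of_injective (Projectivization.map_injective K.subtype K.injective_subtype)
  haveI : Fintype F := Fintype.ofFinite F
  have hq : (Fintype.card F : F) = 0 := Nat.cast_card_eq_zero F
  have hd : Module.finrank F K ≠ 0 := fun h => hK (Submodule.finrank_eq_zero.1 h)
  have h := Projectivization.card' F (↥K)
  rw [Module.natCard_eq_pow_finrank (K := F)] at h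
  have h2 := congrArg (fun m : ℕ => (m : F)) h
  have h1 : 1 ≤ Fintype.card F := Fintype.card_pos
  simp only [Nat.card_eq_fintype_card (α := F), Nat.cast_pow, Nat.cast_add, Nat.cast_mul,
    Nat.cast_sub h1, Nat.cast_one, hq, zero_pow hd] at h2
  rw [hc]
  linear_combination h2

end


/-- Let `F` be a finite field and `n ≥ 3`. No set of permutations of the points of the projective space of `Fⁿ`, each induced by an invertible semilinear transformation of `Fⁿ` (so a subset of the full projective semilinear group), is sharply 2-transitive on the points: it is impossible that for all pairs of distinct points `(a, b)` and `(c, d)` exactly one member of the set sends `a` to `c` and `b` to `d`. -/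
theorem result {F : Type*} [Field F] [Finite F]
    (n : ℕ) (hn : 3 ≤ n) (S : Set (Equiv.Perm (Projectivization F (Fin n → F))))
    (hS : ∀ s ∈ S, ∃ (σ : F ≃+* F) (f : (Fin n → F) →ₛₗ[(σ : F →+* F)] (Fin n → F)) (hf : Function.Injective f),
      ∀ x, s x = Projectivization.map f hf x) :
    ¬ (∀ a b c d : Projectivization F (Fin n → F), a ≠ b → c ≠ d →
        ∃! s, s ∈ S ∧ s a = c ∧ s b = d) := by
  classical
  haveI : Fintype F := Fintype.ofFinite F
  haveI : NeZero n := ⟨by omega⟩
  intro hst
  set i0 : Fin n := ⟨0, by omega⟩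
  set i1 : Fin n := ⟨1, by omega⟩
  set i2 : Fin n := ⟨2, by omega⟩
  have h01 : i0 ≠ i1 := by simp [i0, i1]
  have h02 : i0 ≠ i2 := by simp [i0, i2]
  have h12 : i1 ≠ i2 := by simp [i1, i2]
  set e0 : Fin n → F := Pi.single i0 1
  set e1 : Fin n → F := Pi.single i1 1
  set e2 : Fin n → F := Pi.single i2 1
  have he0 : e0 ≠ 0 := by simp [e0]
  have he1 : e1 ≠ 0 := by simp [e1]
  set P : Projectivization F (Fin n → F) := Projectivization.mk F e0 he0
  set L : Submodule F (Fin n → F) := Submodule.span F {e1, e2}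
  set H : Submodule F (Fin n → F) := LinearMap.ker (LinearMap.proj (R := F) (φ := fun _ : Fin n => F) i0)
  have memH : ∀ v, v ∈ H ↔ v i0 = 0 := fun v => Iff.rfl
  have hL0 : ∀ v ∈ L, v i0 = 0 := by
    intro v hv
    obtain ⟨a, b, rfl⟩ := Submodule.mem_span_pair.1 hv
    simp [e1, e2, h01, h02]
  have hPL : ∀ b ∈ pts L, P ≠ b := by
    rintro b hb rfl
    have h := hL0 e0 ((mk_mem_pts L e0 he0).1 hb)
    simp [e0] at h
  have hPH : ∀ b ∈ pts H, P ≠ b := by
    rintro b hb rfl
    have h := (memH e0).1 ((mk_mem_pts H e0 he0).1 hb)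
    simp [e0] at h
  have hLne : L ≠ ⊥ := fun h => he1 ((Submodule.eq_bot_iff L).1 h e1 (Submodule.subset_span (by simp)))
  have hHne : H ≠ ⊥ := fun h => he1 ((Submodule.eq_bot_iff H).1 h e1 (by rw [memH]; simp [e1, h01]))
  -- the members fixing P
  let T := {s : Equiv.Perm (Projectivization F (Fin n → F)) // s ∈ S ∧ s P = P}
  -- every such member meets H in 1 mod q points of the line
  have key : ∀ s : T, (Nat.card {b : pts L // s.1 b.1 ∈ pts H} : F) = 1 := by
    intro s
    obtain ⟨σ, f, hf, hfs⟩ := hS s.1 s.2.1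
    let K : Submodule F (Fin n → F) :=
      { carrier := {v | v ∈ L ∧ f v i0 = 0}
        zero_mem' := ⟨L.zero_mem, by simp⟩
        add_mem' := fun {a b} ha hb => ⟨L.add_mem ha.1 hb.1, by simp [ha.2, hb.2]⟩
        smul_mem' := fun c {a} ha => ⟨L.smul_mem c ha.1, by simp [ha.2]⟩ }
    have hK : K ≠ ⊥ := by
      intro h
      by_cases h1 : f e1 i0 = 0
      · exact he1 ((Submodule.eq_bot_iff K).1 h e1 ⟨Submodule.subset_span (by simp), h1⟩)
      · set a : F := σ.symm (-(f e2 i0) / f e1 i0)
        have hv : a • e1 + e2 ∈ K := by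
          refine ⟨L.add_mem (L.smul_mem a (Submodule.subset_span (by simp))) (Submodule.subset_span (by simp)), ?_⟩
          have : (σ : F →+* F) a = -(f e2 i0) / f e1 i0 := by simp [a]
          rw [map_add, map_smulₛₗ, Pi.add_apply, Pi.smul_apply, smul_eq_mul, this, div_mul_cancel₀ _ h1]
          ring
        have h3 := congrFun ((Submodule.eq_bot_iff K).1 h _ hv) i2
        simp [e1, e2, h12] at h3
    rw [← card_pts_cast K hK]
    congr 1
    refine Nat.card_congr ((Equiv.subtypeSubtypeEquivSubtypeInter (fun b => b ∈ pts L) (fun b => s.1 b ∈ pts H)).trans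
      (Equiv.subtypeEquivRight (fun b => ?_)))
    induction b using Projectivization.ind with
    | h v hv =>
      rw [hfs, Projectivization.map_mk, mk_mem_pts, mk_mem_pts, mk_mem_pts]
      exact Iff.rfl
  -- double counting
  have hsum : Nat.card (Σ s : T, {b : pts L // s.1 b.1 ∈ pts H}) = Nat.card (pts L × pts H) := by
    refine Nat.card_congr (Equiv.ofBijective (fun x => (x.2.1, ⟨x.1.1 x.2.1.1, x.2.2⟩)) ⟨?_, ?_⟩)
    · rintro ⟨⟨s, hs, hsP⟩, b, hb⟩ ⟨⟨s', hs', hsP'⟩, b', hb'⟩ h
      simp only [Prod.mk.injEq, Subtype.mk.injEq] at h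
      obtain ⟨rfl, h2⟩ := h
      obtain ⟨u, -, hu⟩ := hst P b.1 P (s b.1) (hPL _ b.2) (hPH _ hb)
      have e : s = s' := (hu s ⟨hs, hsP, rfl⟩).trans (hu s' ⟨hs', hsP', h2.symm⟩).symm
      subst e
      rfl
    · rintro ⟨b, c⟩
      obtain ⟨u, ⟨hu, huP, hub⟩, -⟩ := hst P b.1 P c.1 (hPL _ b.2) (hPH _ c.2)
      have hc : u b.1 ∈ pts H := by rw [hub]; exact c.2
      exact ⟨⟨⟨u, hu, huP⟩, b, hc⟩, Prod.ext rfl (Subtype.ext hub)⟩
  set b0 : Projectivization F (Fin n → F) := Projectivization.mk F e1 he1
  have hb0 : b0 ∈ pts L := (mk_mem_pts L e1 he1).2 (Submodule.subset_span (by simp))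
  have hT : Nat.card T + 1 = Nat.card (Projectivization F (Fin n → F)) := by
    have e : T ≃ {c : Projectivization F (Fin n → F) // c ≠ P} := by
      refine Equiv.ofBijective (fun s => ⟨s.1 b0, fun h => hPL b0 hb0 (s.1.injective (s.2.2.trans h.symm))⟩) ⟨?_, ?_⟩
      · rintro ⟨s, hs, hsP⟩ ⟨s', hs', hsP'⟩ h
        simp only [Subtype.mk.injEq] at h
        obtain ⟨u, -, hu⟩ := hst P b0 P (s b0) (hPL _ hb0) (fun h => hPL b0 hb0 (s.injective (hsP.trans h)))
        exact Subtype.ext ((hu s ⟨hs, hsP, rfl⟩).trans (hu s' ⟨hs', hsP', h.symm⟩).symm)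
      · rintro ⟨c, hc⟩
        obtain ⟨u, ⟨hu, huP, hub⟩, -⟩ := hst P b0 P c (hPL _ hb0) hc.symm
        exact ⟨⟨u, hu, huP⟩, Subtype.ext hub⟩
    haveI : Fintype (Projectivization F (Fin n → F)) := Fintype.ofFinite _
    rw [Nat.card_congr e, Nat.card_eq_fintype_card, Nat.card_eq_fintype_card, Fintype.card_subtype_compl, Fintype.card_subtype_eq]
    have : 0 < Fintype.card (Projectivization F (Fin n → F)) := Fintype.card_pos_iff.2 ⟨P⟩
    omega
  have hN : (Nat.card (Projectivization F (Fin n → F)) : F) = 1 := by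
    have h := card_pts_cast (⊤ : Submodule F (Fin n → F))
      (fun h => he1 ((Submodule.eq_bot_iff _).1 h e1 trivial))
    have e : pts (⊤ : Submodule F (Fin n → F)) = Set.univ := by
      ext b
      induction b using Projectivization.ind with
      | h v hv => simp [mk_mem_pts]
    rw [e, Nat.card_congr (Equiv.Set.univ _)] at h
    exact h
  haveI : Fintype T := Fintype.ofFinite T
  rw [Nat.card_sigma, Nat.card_prod] at hsum
  have h3 := congrArg (fun m : ℕ => (m : F)) hsum
  simp only [Nat.cast_sum, key, Nat.cast_mul, card_pts_cast L hLne, card_pts_cast H hHne, Finset.sum_const,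
    Finset.card_univ, nsmul_eq_mul, mul_one, ← Nat.card_eq_fintype_card] at h3
  have h4 : (Nat.card T : F) + 1 = 1 := by
    have h := congrArg (fun m : ℕ => (m : F)) hT
    simp only [Nat.cast_add, Nat.cast_one] at h
    rw [h]
    exact hN
  rw [h3] at h4
  simp at h4


end Cfsg.Agent.S2531
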