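import Cfsg.Statements.S2532


set_option autoImplicit false
open Cfsg

namespace Cfsg.Agent.S2532

theorem sign_prod_refl {α β : Type*} [Fintype α] [DecidableEq α] [Fintype β] [DecidableEq β]
    (σ : Equiv.Perm α) :
    Equiv.Perm.sign (Equiv.prodCongr σ (Equiv.refl β)) = Equiv.Perm.sign σ ^ Fintype.card β := by
  have h : Equiv.Perm.sign (Equiv.prodCongr σ (Equiv.refl β)) =
      Equiv.Perm.sign (Equiv.prodCongrRight fun _ : β => σ) := by
    refine Equiv.Perm.sign_bij (fun x _ => (x.2, x.1)) ?_ ?_ ?_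
    · intro x _ _; rfl
    · intro x y _ _ h
      exact Prod.ext (congrArg Prod.snd h) (congrArg Prod.fst h)
    · intro y hy
      refine ⟨(y.2, y.1), fun h => hy ?_, rfl⟩
      have h1 : σ y.2 = y.2 := congrArg Prod.fst h
      exact Prod.ext rfl h1
  rw [h, Equiv.Perm.sign_prodCongrRight, Finset.prod_const, Finset.card_univ]

theorem centralizes_alternating {m r : ℕ} (H : Subgroup ↥(alternatingGroup (Fin m)))
    (hm : Nat.card H * (2 ^ Nat.card H * (r + 1)) ≤ m) :
    ∃ K : Subgroup ↥(alternatingGroup (Fin m)), Nonempty (↥K ≃* ↥(alternatingGroup (Fin r))) ∧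
      K ≤ Subgroup.centralizer (H : Set ↥(alternatingGroup (Fin m))) := by
  classical
  let _ : Fintype H := Fintype.ofFinite _
  -- many orbits
  let Ω := MulAction.orbitRel.Quotient H (Fin m)
  let _ : Fintype Ω := Fintype.ofFinite _
  have hΩ : 2 ^ Nat.card H * (r + 1) ≤ Fintype.card Ω := by
    refine Nat.le_of_mul_le_mul_left (le_trans hm ?_) Nat.card_pos
    have h := Finset.card_le_mul_card_image (f := fun x : Fin m => (Quotient.mk'' x : Ω))
      (Finset.univ : Finset (Fin m)) (Nat.card H) (fun o _ => by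
        obtain ⟨y, rfl⟩ := Quotient.mk''_surjective o
        refine le_trans (Finset.card_le_card (t := Finset.univ.image fun h : H => h • y) ?_)
          (le_trans Finset.card_image_le (le_of_eq (by rw [Finset.card_univ, Nat.card_eq_fintype_card])))
        intro x hx
        obtain ⟨g, hg⟩ := (Quotient.eq''.1 (Finset.mem_filter.1 hx).2 : x ∈ MulAction.orbit H y)
        exact Finset.mem_image.2 ⟨g, Finset.mem_univ _, hg⟩)
    refine le_trans (le_of_eq (by simp)) (le_trans h ?_)
    exact Nat.mul_le_mul_left _ (Finset.card_le_univ _)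
  -- a repeated stabiliser
  obtain ⟨S, hS⟩ := Fintype.exists_le_card_fiber_of_mul_le_card
    (f := fun o : Ω => Finset.univ.filter fun h : H => h • Quotient.out o = Quotient.out o)
    (n := r + 1) (by
      refine le_trans (le_of_eq ?_) hΩ
      rw [Fintype.card_finset, Nat.card_eq_fintype_card])
  obtain ⟨T, hTS, hT⟩ := Finset.exists_subset_card_eq (le_trans (Nat.le_succ r) hS)
  let o : Fin r → Fin m := fun i => Quotient.out ((T.equivFinOfCardEq hT).symm i : Ω)
  have ho : ∀ i (h : H), h • o i = o i ↔ h ∈ S := fun i h => by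
    have h2 := hTS ((T.equivFinOfCardEq hT).symm i).2
    rw [← (Finset.mem_filter.1 h2).2, Finset.mem_filter]
    simp [o]
  have hdist : ∀ i i' (h : H), h • o i = o i' → i = i' := fun i i' h e => by
    have : (Quotient.mk'' (o i') : Ω) = Quotient.mk'' (o i) :=
      Quotient.eq''.2 (⟨h, e⟩ : o i' ∈ MulAction.orbit H (o i))
    simp only [o, Quotient.out_eq'] at this
    exact ((T.equivFinOfCardEq hT).symm.injective (Subtype.ext this)).symm
  rcases Nat.eq_zero_or_pos r with hr | hr
  · subst hr
    exact ⟨⊥, ⟨MulEquiv.ofUnique⟩, bot_le⟩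
  let i₀ : Fin r := ⟨0, hr⟩
  have hst : ∀ i, MulAction.stabilizer H (o i) = MulAction.stabilizer H (o i₀) := fun i =>
    Subgroup.ext fun h => by rw [MulAction.mem_stabilizer_iff, MulAction.mem_stabilizer_iff, ho, ho]
  let _ : Fintype (H ⧸ MulAction.stabilizer H (o i₀)) := Fintype.ofFinite _
  let j : Fin r × (H ⧸ MulAction.stabilizer H (o i₀)) → Fin m := fun p =>
    Quotient.liftOn' p.2 (fun h => h • o p.1) fun a b hab => by
      rw [QuotientGroup.leftRel_apply, ← hst p.1, MulAction.mem_stabilizer_iff, mul_smul,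
        inv_smul_eq_iff] at hab
      exact hab.symm
  have hj : ∀ (i : Fin r) (h : H), j (i, (h : H ⧸ MulAction.stabilizer H (o i₀))) = h • o i :=
    fun i h => rfl
  have hjinj : Function.Injective j := by
    rintro ⟨i, a⟩ ⟨i', b⟩ e
    obtain ⟨a, rfl⟩ := QuotientGroup.mk_surjective a
    obtain ⟨b, rfl⟩ := QuotientGroup.mk_surjective b
    rw [hj, hj] at e
    have e' : (b⁻¹ * a) • o i = o i' := by rw [mul_smul, e, inv_smul_smul]
    obtain rfl := hdist _ _ _ e'
    refine Prod.ext rfl (QuotientGroup.eq.2 ?_)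
    rw [← hst i, MulAction.mem_stabilizer_iff, mul_smul, ← e, inv_smul_smul]
  let P : Equiv.Perm (Fin r) → Equiv.Perm (Fin m) := fun σ =>
    Equiv.Perm.extendDomain (Equiv.prodCongr σ (Equiv.refl (H ⧸ MulAction.stabilizer H (o i₀))))
      (Equiv.ofInjective j hjinj)
  have hPin : ∀ σ i (h : H), P σ (h • o i) = h • o (σ i) := fun σ i h =>
    Equiv.Perm.extendDomain_apply_image (Equiv.prodCongr σ (Equiv.refl _)) (Equiv.ofInjective j hjinj)
      (i, (h : H ⧸ MulAction.stabilizer H (o i₀)))
  have hPout : ∀ σ x, (¬ ∃ i, ∃ h : H, h • o i = x) → P σ x = x := fun σ x hx =>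
    Equiv.Perm.extendDomain_apply_not_subtype _ _ (by
      rintro ⟨⟨i, a⟩, ha⟩
      obtain ⟨a, rfl⟩ := QuotientGroup.mk_surjective a
      exact hx ⟨i, a, ha⟩)
  let Φ : ↥(alternatingGroup (Fin r)) →* ↥(alternatingGroup (Fin m)) :=
    MonoidHom.codRestrict
      { toFun := fun σ : ↥(alternatingGroup (Fin r)) => P (σ : Equiv.Perm (Fin r))
        map_one' := by
          refine Equiv.ext fun x => ?_
          by_cases hx : ∃ i, ∃ h : H, h • o i = x
          · obtain ⟨i, h, rfl⟩ := hx
            exact hPin _ i h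
          · exact hPout _ x hx
        map_mul' := fun σ τ => by
          refine Equiv.ext fun x => ?_
          show P _ x = P _ (P _ x)
          by_cases hx : ∃ i, ∃ h : H, h • o i = x
          · obtain ⟨i, h, rfl⟩ := hx
            rw [hPin, hPin, hPin]
            rfl
          · rw [hPout _ x hx, hPout _ x hx, hPout _ x hx] }
      (alternatingGroup (Fin m)) fun σ => by
        rw [Equiv.Perm.mem_alternatingGroup]
        show Equiv.Perm.sign (P σ) = 1
        rw [Equiv.Perm.sign_extendDomain, sign_prod_refl, Equiv.Perm.mem_alternatingGroup.1 σ.2,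
          one_pow]
  have hinj : Function.Injective Φ := fun σ τ e => Subtype.ext (Equiv.ext fun i => by
    have h1 : P (σ : Equiv.Perm (Fin r)) ((1 : H) • o i) = P (τ : Equiv.Perm (Fin r)) ((1 : H) • o i) :=
      congrArg (fun g : ↥(alternatingGroup (Fin m)) => (g : Equiv.Perm (Fin m)) ((1 : H) • o i)) e
    rw [hPin, hPin, one_smul, one_smul] at h1
    exact hdist _ _ 1 (by rw [one_smul, h1]))
  refine ⟨Φ.range, ⟨(MonoidHom.ofInjective hinj).symm⟩, ?_⟩
  rintro _ ⟨σ, rfl⟩ g hg
  refine Subtype.ext (Equiv.ext fun x => ?_)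
  show ((⟨g, hg⟩ : H) • P σ x) = P σ ((⟨g, hg⟩ : H) • x)
  by_cases hx : ∃ i, ∃ h : H, h • o i = x
  · obtain ⟨i, h, rfl⟩ := hx
    rw [hPin, ← mul_smul, ← mul_smul, hPin]
  · rw [hPout _ x hx, hPout]
    rintro ⟨i, h, e⟩
    exact hx ⟨i, (⟨g, hg⟩ : H)⁻¹ * h, by rw [mul_smul, e, inv_smul_smul]⟩

/-- There is a function `f` of two natural-number arguments such that, whenever `m ≥ f(n, r)`, every subgroup of order `n` of the alternating group of degree `m` centralizes some subgroup of that alternating group isomorphic to the alternating group of degree `r`. -/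
theorem result :
    ∃ f : ℕ → ℕ → ℕ, ∀ (m r : ℕ) (H : Subgroup ↥(alternatingGroup (Fin m))), f (Nat.card H) r ≤ m →
      ∃ K : Subgroup ↥(alternatingGroup (Fin m)), Nonempty (↥K ≃* ↥(alternatingGroup (Fin r))) ∧
        K ≤ Subgroup.centralizer (H : Set ↥(alternatingGroup (Fin m))) := by
  exact ⟨fun n r => n * (2 ^ n * (r + 1)), fun m r H h => centralizes_alternating H h⟩

end Cfsg.Agent.S2532
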