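import Cfsg.Statements.S2533
import Cfsg.Agent.Lib.KnownC.TrivialCentralizerEmbedding


set_option autoImplicit false
open Cfsg

namespace Cfsg.Agent.S2533

/-- For every odd prime `p` there is a finite group `H` of order `2p³` which, for infinitely many `n`, embeds in the projective special linear group `PSL(n, p)` as a subgroup with trivial centralizer. -/
theorem result
    (p : ℕ) [Fact p.Prime] (hp : p ≠ 2) :
    ∃ (H : Type) (_ : Group H) (_ : Finite H), Nat.card H = 2 * p ^ 3 ∧
      ∀ N : ℕ, ∃ n, N ≤ n ∧ ∃ φ : H →* Matrix.ProjectiveSpecialLinearGroup (Fin n) (ZMod p),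
        Function.Injective φ ∧ Subgroup.centralizer (φ.range : Set (Matrix.ProjectiveSpecialLinearGroup (Fin n) (ZMod p))) = ⊥ := by
  classical
  refine ⟨CfsgLib.KnownC.TrivCent.H p, inferInstance, Finite.of_equiv _ SemidirectProduct.equivProd.symm, ?_, ?_⟩
  · rw [Nat.card_congr SemidirectProduct.equivProd, Nat.card_prod,
      Nat.card_congr Multiplicative.toAdd, Nat.card_fun, Nat.card_zmod, Nat.card_eq_fintype_card,
      Nat.card_eq_fintype_card, Fintype.card_units_int, Fintype.card_fin, mul_comm]
  · intro N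
    obtain ⟨φ, h1, h2⟩ := CfsgLib.KnownC.TrivCent.main (p := p) (m := 2 * (N + 1)) hp (by omega) ⟨N + 1, by omega⟩
    exact ⟨_, by omega, φ, h1, h2⟩

end Cfsg.Agent.S2533
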