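import Cfsg.Statements.S2534
import Cfsg.Agent.Lib.KnownC.HallPermMain

set_option autoImplicit false
open Cfsg

namespace Cfsg.Agent.S2534

/-- For `n ≥ 5` and a set of primes `π`, the alternating group of degree `n` satisfies the full Sylow analogue for `π` (its maximal `π`-subgroups are pairwise conjugate; for a finite group this says Hall `π`-subgroups exist, are all conjugate, and contain every `π`-subgroup up to conjugacy) if and only if either at most one prime of `π` divides its order or every prime dividing its order lies in `π`. -/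
theorem result (n : ℕ) (hn : 5 ≤ n) (π : Set ℕ) :
    Cfsg.IsDPiGroup π ↥(alternatingGroup (Fin n)) ↔
      ((∀ r s : ℕ, r.Prime → s.Prime → r ∈ π → s ∈ π → r ∣ Nat.card ↥(alternatingGroup (Fin n)) → s ∣ Nat.card ↥(alternatingGroup (Fin n)) → r = s) ∨
        ∀ r : ℕ, r.Prime → r ∣ Nat.card ↥(alternatingGroup (Fin n)) → r ∈ π) := by
  rw [CfsgLib.KnownC.HallPerm.dPi_alt_iff hn]
  have e := fun {p : ℕ} (hp : p.Prime) => CfsgLib.KnownC.HallPerm.prime_dvd_card_alt hn hp
  refine or_congr ⟨fun h r s hr hs hrπ hsπ hrd hsd => h r s hr hs hrπ hsπ ((e hr).1 hrd) ((e hs).1 hsd),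
    fun h r s hr hs hrπ hsπ hrn hsn => h r s hr hs hrπ hsπ ((e hr).2 hrn) ((e hs).2 hsn)⟩
    ⟨fun h r hr hrd => h r hr ((e hr).1 hrd), fun h r hr hrn => h r hr ((e hr).2 hrn)⟩

end Cfsg.Agent.S2534
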