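import Cfsg.Statements.S2540
import Cfsg.Agent.Lib.KnownC.AutPSLPoints
import Cfsg.Agent.Lib.Classical.SLGen

set_option autoImplicit false
open Cfsg
open scoped commutatorElement

namespace Cfsg.Agent.S2540

/-- Let F be a finite field and n ≥ 1, excluding the case n = 2 with #F ≤ 3. A subgroup of GL_n(F) that is normalized by every element of SL_n(F) either consists of scalar matrices or contains SL_n(F). -/
theorem result {F : Type*} [Field F] [Fintype F] (n : ℕ) (hn : 1 ≤ n) (hex : ¬ (n = 2 ∧ Fintype.card F ≤ 3)) (G : Subgroup (Matrix.GeneralLinearGroup (Fin n) F)) (hG : ∀ s : Matrix.SpecialLinearGroup (Fin n) F, ∀ g ∈ G, (Matrix.SpecialLinearGroup.toGL s) * g * (Matrix.SpecialLinearGroup.toGL s)⁻¹ ∈ G) : (∀ g ∈ G, ∃ c : F, (g : Matrix (Fin n) (Fin n) F) = c • (1 : Matrix (Fin n) (Fin n) F)) ∨ (Matrix.SpecialLinearGroup.toGL : Matrix.SpecialLinearGroup (Fin n) F →* _).range ≤ G := by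
  classical
  by_cases hsc : ∀ g ∈ G, ∃ c : F, (g : Matrix (Fin n) (Fin n) F) = c • (1 : Matrix (Fin n) (Fin n) F)
  · exact Or.inl hsc
  refine Or.inr ?_
  simp only [not_forall, not_exists] at hsc
  obtain ⟨g, hg, hgns⟩ := hsc
  have hn2 : 2 ≤ n := by
    by_contra hlt
    obtain rfl : n = 1 := by omega
    refine hgns (g.1 0 0) (Matrix.ext fun i j => ?_)
    rw [Subsingleton.elim i 0, Subsingleton.elim j 0]; simp
  have hgz : g ∉ Subgroup.center (Matrix.GeneralLinearGroup (Fin n) F) := fun hz => by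
    obtain ⟨a, ha⟩ := Matrix.GeneralLinearGroup.mem_center_iff_val_mem_range_scalar.1 hz
    exact hgns a (by rw [← ha, Matrix.smul_one_eq_diagonal]; rfl)
  set N0 := G.comap (Matrix.SpecialLinearGroup.toGL (n := Fin n) (R := F)) with hN0
  haveI hnorm : N0.Normal := ⟨fun x hx s => by
    rw [hN0, Subgroup.mem_comap, map_mul, map_mul, map_inv]
    exact hG s _ hx⟩
  obtain ⟨s, hs⟩ : ∃ s : Matrix.SpecialLinearGroup (Fin n) F,
      s * (CfsgLib.KnownC.slConj g s)⁻¹ ∉ Subgroup.center (Matrix.SpecialLinearGroup (Fin n) F) := by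
    by_contra hcon
    simp only [not_exists, not_not] at hcon
    refine hgz ((CfsgLib.KnownC.semiAut_eq_one_iff hn2 g (RingEquiv.refl F)).1
      (MulEquiv.ext fun y => ?_)).2
    obtain ⟨s, rfl⟩ := QuotientGroup.mk_surjective y
    rw [CfsgLib.KnownC.semiAut_mk, show CfsgLib.KnownC.slField (RingEquiv.refl F) = 1 from
      map_one CfsgLib.KnownC.slField, MulAut.one_apply, MulAut.one_apply, eq_comm]
    refine QuotientGroup.eq_iff_div_mem.2 ?_
    rw [div_eq_mul_inv]
    exact hcon s
  have hsN : s * (CfsgLib.KnownC.slConj g s)⁻¹ ∈ N0 := by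
    rw [hN0, Subgroup.mem_comap, map_mul, map_inv]
    have : Matrix.SpecialLinearGroup.toGL (CfsgLib.KnownC.slConj g s) =
        g * Matrix.SpecialLinearGroup.toGL s * g⁻¹ := Units.ext rfl
    rw [this, mul_inv_rev, mul_inv_rev, inv_inv, ← mul_assoc, ← mul_assoc]
    exact mul_mem (hG s g hg) (inv_mem hg)
  haveI : Nontrivial (Fin n) := Fin.nontrivial_iff_two_le.2 hn2
  have hperf : commutator (Matrix.SpecialLinearGroup (Fin n) F) = ⊤ ∧
      IsSimpleGroup (Matrix.ProjectiveSpecialLinearGroup (Fin n) F) := by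
    rcases Nat.lt_or_ge n 3 with h3 | h3
    · obtain rfl : n = 2 := by omega
      have h4 : 4 ≤ Fintype.card F := by
        by_contra h; exact hex ⟨rfl, by omega⟩
      obtain ⟨a, ha, ha2⟩ : ∃ a : F, a ≠ 0 ∧ a ^ 2 ≠ 1 := by
        by_contra hcon
        simp only [not_exists, not_and, not_not] at hcon
        have hsub : (Finset.univ : Finset F) ⊆ {0, 1, -1} := fun a _ => by
          by_cases ha : a = 0
          · simp [ha]
          · rcases sq_eq_one_iff.1 (hcon a ha) with h | h <;> simp [h]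
        have := (Finset.card_le_card hsub).trans Finset.card_le_three
        rw [Finset.card_univ] at this
        omega
      have hc := Matrix.SL2.commutator_eq_top ha ha2
      exact ⟨hc, CfsgLib.Classical.isSimpleGroup_psl_of_perfect hc⟩
    · exact ⟨CfsgLib.Classical.commutator_sl_eq_top (by simpa using h3),
        CfsgLib.Classical.isSimpleGroup_psl (by simpa using h3)⟩
  haveI := hperf.2
  have htop : N0.map (QuotientGroup.mk' (Subgroup.center (Matrix.SpecialLinearGroup (Fin n) F))) = ⊤ := by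
    refine (Subgroup.Normal.eq_bot_or_eq_top (hnorm.map _ (QuotientGroup.mk'_surjective _))).resolve_left
      fun h => hs ?_
    have := Subgroup.mem_map_of_mem (QuotientGroup.mk' (Subgroup.center (Matrix.SpecialLinearGroup (Fin n) F))) hsN
    rw [h, Subgroup.mem_bot, QuotientGroup.mk'_apply, QuotientGroup.eq_one_iff] at this
    exact this
  have hle : commutator (Matrix.SpecialLinearGroup (Fin n) F) ≤ N0 := by
    rw [commutator_def, Subgroup.commutator_le]
    intro a _ b _
    obtain ⟨a', ha', z, hz, rfl⟩ : ∃ a' ∈ N0, ∃ z ∈ Subgroup.center (Matrix.SpecialLinearGroup (Fin n) F),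
        a = a' * z := by
      have : QuotientGroup.mk' (Subgroup.center (Matrix.SpecialLinearGroup (Fin n) F)) a ∈ N0.map _ :=
        htop ▸ Subgroup.mem_top _
      obtain ⟨a', ha', he⟩ := this
      exact ⟨a', ha', a'⁻¹ * a, QuotientGroup.eq.1 he, by group⟩
    have hcz : ⁅a' * z, b⁆ = ⁅a', b⁆ := by
      rw [commutatorElement_def, commutatorElement_def, mul_inv_rev,
        show a' * z * b * (z⁻¹ * a'⁻¹) = a' * (z * b) * z⁻¹ * a'⁻¹ by group,
        ← Subgroup.mem_center_iff.1 hz b]
      group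
    rw [hcz, commutatorElement_def, mul_assoc, mul_assoc, ← mul_assoc b]
    exact mul_mem ha' (hnorm.conj_mem _ (inv_mem ha') b)
  rintro _ ⟨t, rfl⟩
  exact hle (hperf.1 ▸ Subgroup.mem_top t)

end Cfsg.Agent.S2540
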