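import Cfsg.Statements.S2541
import Mathlib

set_option autoImplicit false
open Cfsg

namespace Cfsg.Agent.S2541

/-- Let F be a field with 9 elements. The symmetric group S_6 is not isomorphic to PGL_2(F) (although both have index-2 subgroups isomorphic to A_6). -/
theorem result {F : Type*} [Field F] [Fintype F] (hF : Fintype.card F = 9) : ¬ Nonempty (Equiv.Perm (Fin 6) ≃* Matrix.ProjGenLinGroup (Fin 2) F) := by
  classical
  rintro ⟨e⟩
  obtain ⟨g, hg⟩ := IsCyclic.exists_generator (α := Fˣ)
  have hgo : orderOf g = 8 := by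
    rw [orderOf_eq_card_of_forall_mem_zpowers hg, Nat.card_units, Nat.card_eq_fintype_card, hF]
  let d : GL (Fin 2) F := Matrix.GeneralLinearGroup.mkOfDetNeZero !![(g : F), 0; 0, 1]
    (by simp [Matrix.det_fin_two])
  have hd : ∀ k : ℕ, (d ^ k).1 = !![(g : F) ^ k, 0; 0, 1] := fun k => by
    induction k with
    | zero => simp [Matrix.one_fin_two]
    | succ k ih =>
      rw [pow_succ, Units.val_mul, ih]
      show !![(g : F) ^ k, 0; 0, 1] * !![(g : F), 0; 0, 1] = _
      simp [Matrix.mul_fin_two, pow_succ]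
  have hmk : ∀ k : ℕ, (Matrix.ProjGenLinGroup.mk d) ^ k = 1 ↔ g ^ k = 1 := fun k => by
    rw [← map_pow, Matrix.ProjGenLinGroup.mk_eq_one,
      Matrix.GeneralLinearGroup.mem_center_iff_val_mem_range_scalar, hd, Units.ext_iff,
      Units.val_pow_eq_pow_val, Units.val_one]
    constructor
    · rintro ⟨a, ha⟩
      have h0 := congrFun (congrFun ha 0) 0
      have h1 := congrFun (congrFun ha 1) 1
      simp at h0 h1
      rw [← h0, h1]
    · intro h
      exact ⟨1, by rw [h]; simp [Matrix.one_fin_two, Matrix.scalar_apply]⟩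
  have hord : orderOf (e.symm (Matrix.ProjGenLinGroup.mk d)) = 8 := by
    rw [MulEquiv.orderOf_eq, ← hgo]
    exact orderOf_eq_orderOf_iff.2 hmk
  generalize e.symm (Matrix.ProjGenLinGroup.mk d) = σ at hord
  have h4 : σ.cycleType.lcm ∣ 4 := by
    refine Multiset.lcm_dvd.2 fun c hc => ?_
    have h1 : c ∣ 8 := by rw [← hord, ← Equiv.Perm.lcm_cycleType]; exact Multiset.dvd_lcm hc
    have h2 : c ≤ 6 := by
      refine (Multiset.le_sum_of_mem hc).trans ?_
      rw [Equiv.Perm.sum_cycleType]
      exact (Finset.card_le_univ _).trans (by simp)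
    obtain ⟨k, hk, rfl⟩ := (Nat.dvd_prime_pow Nat.prime_two).1 (show c ∣ 2 ^ 3 from h1)
    interval_cases k <;> omega
  rw [Equiv.Perm.lcm_cycleType, hord] at h4
  exact absurd (Nat.le_of_dvd (by norm_num) h4) (by norm_num)

end Cfsg.Agent.S2541
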