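import Cfsg.Statements.S2552
import Mathlib

set_option autoImplicit false
open Cfsg

namespace Cfsg.Agent.S2552

/-- Let F be a finite field and n ≥ 1. For every k, the special linear group SL_n(F) acts transitively on the set of k-dimensional subspaces of F^n: any two subspaces of the same dimension are carried onto each other by some matrix of determinant 1. -/
theorem result {F : Type*} [Field F] [Fintype F] (n : ℕ) (hn : 1 ≤ n) (U₁ U₂ : Submodule F (Fin n → F)) (h : Module.finrank F U₁ = Module.finrank F U₂) : ∃ g : Matrix.SpecialLinearGroup (Fin n) F, U₁.map ((Matrix.SpecialLinearGroup.toLin' g : (Fin n → F) ≃ₗ[F] (Fin n → F)) : (Fin n → F) →ₗ[F] (Fin n → F)) = U₂ := by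
  classical
  obtain ⟨C₁, hC₁⟩ := Submodule.exists_isCompl U₁
  obtain ⟨C₂, hC₂⟩ := Submodule.exists_isCompl U₂
  have hC : Module.finrank F C₁ = Module.finrank F C₂ := by
    have e1 := Submodule.finrank_add_eq_of_isCompl hC₁
    have e2 := Submodule.finrank_add_eq_of_isCompl hC₂
    omega
  obtain ⟨eU⟩ : Nonempty (U₁ ≃ₗ[F] U₂) := FiniteDimensional.nonempty_linearEquiv_of_finrank_eq h
  obtain ⟨eC⟩ : Nonempty (C₁ ≃ₗ[F] C₂) := FiniteDimensional.nonempty_linearEquiv_of_finrank_eq hC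
  let e : (Fin n → F) ≃ₗ[F] (Fin n → F) :=
    ((U₁.prodEquivOfIsCompl C₁ hC₁).symm.trans (eU.prodCongr eC)).trans (U₂.prodEquivOfIsCompl C₂ hC₂)
  have he : U₁.map (e : (Fin n → F) →ₗ[F] (Fin n → F)) = U₂ := by
    have key : ∀ x : U₁, e (x : Fin n → F) = (eU x : Fin n → F) := fun x => by
      show (U₂.prodEquivOfIsCompl C₂ hC₂) ((eU.prodCongr eC)
        ((U₁.prodEquivOfIsCompl C₁ hC₁).symm (x : Fin n → F))) = _
      rw [Submodule.prodEquivOfIsCompl_symm_apply_left]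
      simp [Submodule.coe_prodEquivOfIsCompl']
    refine le_antisymm ?_ fun y hy =>
      ⟨(eU.symm ⟨y, hy⟩ : U₁), (eU.symm ⟨y, hy⟩).2, (key _).trans (by rw [LinearEquiv.apply_symm_apply])⟩
    rintro _ ⟨x, hx, rfl⟩
    show e x ∈ U₂
    rw [key ⟨x, hx⟩]; exact (eU ⟨x, hx⟩).2
  -- correct the determinant by a map fixing `U₂`
  let δ : Fˣ := LinearEquiv.det e
  obtain ⟨v, hvmem⟩ : ∃ v : Fin n → F, v ≠ 0 ∧ (v ∈ U₂ ∨ v ∈ C₂) := by
    by_cases hU : U₂ = ⊥
    · have hC2 : C₂ = ⊤ := by simpa [hU] using hC₂.sup_eq_top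
      exact ⟨Pi.single ⟨0, hn⟩ 1, Pi.single_ne_zero_iff.2 one_ne_zero, Or.inr (hC2 ▸ trivial)⟩
    · obtain ⟨v, hv, hv0⟩ := Submodule.exists_mem_ne_zero_of_ne_bot hU
      exact ⟨v, hv0, Or.inl hv⟩
  obtain ⟨hv0, hv⟩ := hvmem
  obtain ⟨f, hf, hfU⟩ : ∃ f : (Fin n → F) →ₗ[F] F, f v = 1 ∧ (v ∈ C₂ → v ∉ U₂ → ∀ u ∈ U₂, f u = 0) := by
    by_cases hvU : v ∈ U₂
    · obtain ⟨f, hf, -⟩ := Submodule.exists_dual_map_eq_bot_of_notMem
        (show v ∉ (⊥ : Submodule F (Fin n → F)) by simpa using hv0) inferInstance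
      exact ⟨(f v)⁻¹ • f, by simp [hf], fun _ h => absurd hvU h⟩
    · obtain ⟨f, hf, hf0⟩ := Submodule.exists_dual_map_eq_bot_of_notMem hvU inferInstance
      refine ⟨(f v)⁻¹ • f, by simp [hf], fun _ _ u hu => ?_⟩
      simp [(Submodule.eq_bot_iff _).1 hf0 _ (Submodule.mem_map_of_mem hu)]
  let w : (Fin n → F) →ₗ[F] (Fin n → F) := LinearMap.id + f.smulRight ((((δ⁻¹ : Fˣ) : F) - 1) • v)
  have hwdet : LinearMap.det w = ((δ⁻¹ : Fˣ) : F) := by
    rw [← LinearMap.det_toMatrix', map_add, LinearMap.toMatrix'_id]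
    have hvv : LinearMap.toMatrix' (f.smulRight ((((δ⁻¹ : Fˣ) : F) - 1) • v)) =
        Matrix.replicateCol Unit ((((δ⁻¹ : Fˣ) : F) - 1) • v) *
          Matrix.replicateRow Unit (fun j => f (Pi.single j 1)) := by
      ext i j
      simp [LinearMap.toMatrix'_apply, Matrix.mul_apply, mul_comm]
    rw [hvv, Matrix.det_one_add_replicateCol_mul_replicateRow, dotProduct_smul]
    have : (fun j => f (Pi.single j 1)) ⬝ᵥ v = 1 := by
      conv_rhs => rw [← hf, ← Finset.univ_sum_single v, map_sum]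
      refine Finset.sum_congr rfl fun j _ => ?_
      rw [show (Pi.single j (v j) : Fin n → F) = v j • Pi.single j 1 by
        rw [← Pi.single_smul, smul_eq_mul, mul_one], map_smul, smul_eq_mul, mul_comm]
    rw [this, smul_eq_mul]; ring
  have hwU : ∀ u ∈ U₂, w u ∈ U₂ := fun u hu => by
    show u + f u • _ ∈ U₂
    refine add_mem hu ?_
    by_cases hvU : v ∈ U₂
    · exact Submodule.smul_mem _ _ (Submodule.smul_mem _ _ hvU)
    · rw [hfU (hv.resolve_left hvU) hvU u hu, zero_smul]; exact zero_mem _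
  let G : (Fin n → F) →ₗ[F] (Fin n → F) := w ∘ₗ (e : (Fin n → F) →ₗ[F] (Fin n → F))
  have hG : (LinearMap.toMatrix' G).det = 1 := by
    rw [LinearMap.det_toMatrix', LinearMap.det_comp, hwdet, ← LinearEquiv.coe_det]
    exact Units.inv_mul δ
  refine ⟨⟨LinearMap.toMatrix' G, hG⟩, ?_⟩
  rw [show ((Matrix.SpecialLinearGroup.toLin' ⟨LinearMap.toMatrix' G, hG⟩ : (Fin n → F) ≃ₗ[F] (Fin n → F)) :
      (Fin n → F) →ₗ[F] (Fin n → F)) = G from Matrix.toLin'_toMatrix' G, Submodule.map_comp, he]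
  refine Submodule.eq_of_le_of_finrank_eq (by rintro _ ⟨u, hu, rfl⟩; exact hwU u hu) ?_
  refine (Submodule.equivMapOfInjective w ?_ U₂).finrank_eq.symm
  refine LinearMap.ker_eq_bot.1 ?_
  exact (LinearMap.isUnit_iff_ker_eq_bot w).1 ((LinearMap.isUnit_iff_isUnit_det w).2 (by
    rw [hwdet]; exact Units.isUnit _))

end Cfsg.Agent.S2552
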