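import Cfsg.Statements.S2553
import Cfsg.Agent.Lib.StructC.AltEightOrders
import Cfsg.Agent.Lib.InvChar.EmbedAltEight

set_option autoImplicit false
open Cfsg

namespace Cfsg.Agent.S2553

open CfsgLib CfsgLib.StructC.AltEight

/-- `GL₄(2)` inside `A₈`. -/
theorem exists_gl_to_alt : ∃ f : GL (Fin 4) (ZMod 2) →* alternatingGroup (Fin 8), Function.Injective f := by
  obtain ⟨g, hg⟩ := InvChar.EmbedAltEight.exists_to_alt
  let a : GL (Fin 4) (ZMod 2) →* MulAut (Multiplicative (Fin 4 → ZMod 2)) :=
    { toFun := fun A =>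
        { toFun := fun v => Multiplicative.ofAdd ((A : Matrix (Fin 4) (Fin 4) (ZMod 2)).mulVec v.toAdd)
          invFun := fun v => Multiplicative.ofAdd (((A⁻¹ : GL (Fin 4) (ZMod 2)) : Matrix (Fin 4) (Fin 4) (ZMod 2)).mulVec v.toAdd)
          left_inv := fun v => Multiplicative.toAdd.injective (by simp [Matrix.mulVec_mulVec])
          right_inv := fun v => Multiplicative.toAdd.injective (by simp [Matrix.mulVec_mulVec])
          map_mul' := fun v w => Multiplicative.toAdd.injective (by simp [Matrix.mulVec_add]) }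
      map_one' := MulEquiv.ext fun v => Multiplicative.toAdd.injective (by simp)
      map_mul' := fun A B => MulEquiv.ext fun v => Multiplicative.toAdd.injective (by
        simp [Matrix.mulVec_mulVec]) }
  refine ⟨g.comp a, hg.comp fun A B h => Units.ext (Matrix.ext_of_mulVec_single fun i => ?_)⟩
  exact congrArg Multiplicative.toAdd (MulEquiv.congr_fun h (Multiplicative.ofAdd (Pi.single i 1)))

/-- A proper subgroup of the alternating group of degree 6 or 7 has index at least its degree. -/
theorem card_le_of_alt {n : ℕ} (hn : n = 6 ∨ n = 7) {S : Subgroup (alternatingGroup (Fin n))} (hS : S ≠ ⊤) :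
    n * Nat.card S ≤ Nat.card (alternatingGroup (Fin n)) := by
  haveI := alternatingGroup.isSimpleGroup (α := Fin n) (by rw [Nat.card_fin]; omega)
  haveI : Nontrivial (Fin n) := Fin.nontrivial_iff_two_le.2 (by omega)
  have hA : 2 * Nat.card (alternatingGroup (Fin n)) = n.factorial := by
    rw [Nat.card_eq_fintype_card, two_mul_card_alternatingGroup, Fintype.card_perm, Fintype.card_fin]
  have hnp : ¬ (Nat.card (alternatingGroup (Fin n))).Prime := by
    rcases hn with rfl | rfl <;> (rw [nat_card_alternatingGroup, Nat.card_fin]; norm_num [Nat.factorial])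
  have h := Transfer.two_mul_card_dvd_factorial (Transfer.not_isMulCommutative_of_not_prime hnp) hS
  rw [hA] at h
  have hk : n ≤ S.index := by
    by_contra hc
    have h1 := Nat.le_of_dvd (Nat.factorial_pos _) h
    have h2 : S.index.factorial ≤ (n - 1).factorial := Nat.factorial_le (by omega)
    rcases hn with rfl | rfl <;> norm_num [Nat.factorial] at h1 h2 <;> omega
  calc n * Nat.card S ≤ S.index * Nat.card S := Nat.mul_le_mul_right _ hk
    _ = _ := Subgroup.index_mul_card S

/-- Let H be a nontrivial subgroup of GL(4,2) (a group isomorphic to the alternating group of degree 8) whose largest normal 2-subgroup and largest normal subgroup of odd order are both trivial. Then H is isomorphic to an alternating group of degree n for some 5 ≤ n ≤ 8, to the symmetric group of degree 5 or 6, or to GL(3,2). -/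
theorem result (H : Subgroup (GL (Fin 4) (ZMod 2))) (hH : H ≠ ⊥) (hO : Cfsg.pPrimeCore 2 ↥H = ⊥) (hO2 : Cfsg.pCore 2 ↥H = ⊥) :
    (∃ n : ℕ, 5 ≤ n ∧ n ≤ 8 ∧ Nonempty (↥H ≃* alternatingGroup (Fin n))) ∨
    Nonempty (↥H ≃* Equiv.Perm (Fin 5)) ∨ Nonempty (↥H ≃* Equiv.Perm (Fin 6)) ∨ Nonempty (↥H ≃* GL (Fin 3) (ZMod 2)) := by
  classical
  obtain ⟨g, hg⟩ := exists_gl_to_alt
  let φ' : ↥H →* alternatingGroup (Fin 8) := g.comp H.subtype
  have hφ' : Function.Injective φ' := hg.comp H.subtype_injective
  let f : ↥H →* Equiv.Perm (Fin 8) := (alternatingGroup (Fin 8)).subtype.comp φ'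
  have hf : Function.Injective f := Subtype.val_injective.comp hφ'
  haveI : Nontrivial ↥H := H.nontrivial_iff_ne_bot.2 hH
  have hns : ∀ N : Subgroup ↥H, N.Normal → N ≠ ⊥ → ¬ Group.IsSolvable N := by
    intro N hN hne hs
    haveI := hN
    haveI := hs
    obtain ⟨K, hKn, hKne, hKle, hKmin⟩ := Solvable.exists_minimal_normal_le hN hne
    haveI := hKn
    haveI : Group.IsSolvable K := solvable_of_solvable_injective (Subgroup.inclusion_injective hKle)
    obtain ⟨p, hp, hpK, -, -⟩ := Solvable.exists_isPGroup_of_minimal_normal hKne hKmin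
    haveI : Fact p.Prime := ⟨hp⟩
    apply hKne
    rw [← le_bot_iff]
    by_cases h2 : p = 2
    · subst h2; rw [← hO2]; exact Solvable.le_pCore hKn hpK
    · rw [← hO]
      obtain ⟨e, he⟩ := hpK.exists_card_eq
      exact Solvable.le_pPrimeCore hKn (he ▸ ((Nat.coprime_primes hp Nat.prime_two).2 h2).pow_left e)
  obtain ⟨T, n, r, hTn, hTs, hTc, hC, hn5, hn8, hr, htr, hsign⟩ := exists_socle hf hns
  haveI := hTn
  haveI := hTs
  let φT : T →* alternatingGroup (Fin 8) := φ'.comp T.subtype
  have hφT : Function.Injective φT := hφ'.comp T.subtype_injective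
  haveI : Nontrivial (Fin n) := Fin.nontrivial_iff_two_le.2 (by omega)
  let rT : T →* Equiv.Perm (Fin n) := r.comp T.subtype
  have hrT : Function.Injective rT := hr.comp T.subtype_injective
  let sT : T →* alternatingGroup (Fin n) := rT.codRestrict _ fun t =>
    Equiv.Perm.mem_alternatingGroup.2 (Transfer.sign_eq_one_of_simple hTc rT t)
  have hsT : Function.Injective sT := fun a b h => hrT (congrArg Subtype.val h)
  have hAn : Nat.card (alternatingGroup (Fin n)) = n.factorial / 2 := by
    rw [nat_card_alternatingGroup, Nat.card_fin]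
  have hdA : Nat.card T ∣ n.factorial / 2 := hAn ▸ Subgroup.card_dvd_of_injective sT hsT
  have hndvd : n ∣ Nat.card T := by
    letI : MulAction T (Fin n) := MulAction.compHom (Fin n) rT
    haveI : MulAction.IsPretransitive T (Fin n) := ⟨fun a b => by
      obtain ⟨t, ht, h⟩ := htr a b; exact ⟨⟨t, ht⟩, h⟩⟩
    have := Subgroup.index_dvd_card (MulAction.stabilizer T (⟨0, by omega⟩ : Fin n))
    rwa [MulAction.index_stabilizer_of_transitive, Nat.card_fin] at this
  -- outcomes
  have out60 : Nat.card T = 60 → (∃ m : ℕ, 5 ≤ m ∧ m ≤ 8 ∧ Nonempty (↥H ≃* alternatingGroup (Fin m))) ∨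
      Nonempty (↥H ≃* Equiv.Perm (Fin 5)) := fun h =>
    (above_sixty T hTc hC h).imp (fun e => ⟨5, le_rfl, by norm_num, e⟩) id
  have hrange : (r.range : Subgroup (Equiv.Perm (Fin n))) ≥ rT.range := by
    rintro _ ⟨t, rfl⟩; exact ⟨t, rfl⟩
  have hfull : Nat.card T = n.factorial / 2 → alternatingGroup (Fin n) ≤ r.range := by
    intro hc
    refine le_trans (le_of_eq ?_) hrange
    refine (Subgroup.eq_of_le_of_card_ge (show rT.range ≤ alternatingGroup (Fin n) by rintro _ ⟨t, rfl⟩; exact (sT t).2) ?_).symm
    rw [hAn, ← hc]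
    exact (Nat.card_congr (MonoidHom.ofInjective hrT).toEquiv).le
  have halt : 7 ≤ n → r.range ≤ alternatingGroup (Fin n) := by
    rintro h _ ⟨x, rfl⟩
    rw [Equiv.Perm.mem_alternatingGroup, hsign h x]
    exact Equiv.Perm.mem_alternatingGroup.1 (φ' x).2
  have houtA : 7 ≤ n → Nat.card T = n.factorial / 2 → Nonempty (↥H ≃* alternatingGroup (Fin n)) := fun h hc =>
    ⟨(MonoidHom.ofInjective hr).trans (MulEquiv.subgroupCongr (le_antisymm (halt h) (hfull hc)))⟩
  have out168 : Nat.card T = 168 → Nonempty (↥H ≃* GL (Fin 3) (ZMod 2)) := by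
    intro hc
    haveI : Fact (Nat.Prime 7) := ⟨by norm_num⟩
    obtain ⟨-, -, -, key⟩ := card_of_seven hTc φT hφT (by rw [hc]; norm_num)
    obtain ⟨P⟩ := (inferInstance : Nonempty (Sylow 7 T))
    let P' := (P : Subgroup T).map T.subtype
    have hP' : Nat.card P' = 7 := (Subgroup.card_map_of_injective T.subtype_injective).trans (key P).1
    have hN : Nat.card (Subgroup.normalizer (P' : Set ↥H)) ∣ 21 := by
      let Q := P'.map φ'
      refine (Subgroup.card_dvd_of_injective (MonoidHom.mk' (fun x : Subgroup.normalizer (P' : Set ↥H) =>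
        (⟨φ' x.1, Subgroup.le_normalizer_map φ' ⟨x.1, x.2, rfl⟩⟩ :
          Subgroup.normalizer (Q : Set (alternatingGroup (Fin 8)))))
        fun a b => Subtype.ext (map_mul φ' _ _)) fun a b h => Subtype.ext (hφ' (congrArg Subtype.val h :))).trans
        (card_normalizer_seven Q ((Subgroup.card_map_of_injective hφ').trans hP'))
    have hNT : (Subgroup.normalizer ((P : Subgroup T) : Set T)).map T.subtype ≤
        Subgroup.normalizer (P' : Set ↥H) := Subgroup.le_normalizer_map _
    have heq := Subgroup.eq_of_le_of_card_ge hNT (by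
      rw [Subgroup.card_map_of_injective T.subtype_injective, (key P).2]
      exact Nat.le_of_dvd (by norm_num) hN)
    have hsup : Subgroup.normalizer (P' : Set ↥H) ⊔ T = ⊤ := Sylow.normalizer_sup_eq_top P
    have hT : T = ⊤ := by
      rw [eq_top_iff, ← hsup, ← heq]
      exact sup_le (Subgroup.map_subtype_le _) le_rfl
    obtain ⟨hs, hcard⟩ := gl_three_two
    haveI := hs
    obtain ⟨e⟩ := ClassK.nonempty_equiv_168 (G := ↥T) (H := GL (Fin 3) (ZMod 2)) hc hcard
    exact ⟨(Subgroup.topEquiv.symm.trans (MulEquiv.subgroupCongr hT.symm)).trans e⟩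
  have hle : ∀ (hh : n = 6 ∨ n = 7), Nat.card T ≠ n.factorial / 2 → n * Nat.card T ≤ n.factorial / 2 := by
    intro hh hne
    have := card_le_of_alt hh (S := sT.range) (fun h => hne (by
      rw [← hAn, ← Subgroup.card_top (G := alternatingGroup (Fin n)), ← h]
      exact Nat.card_congr (MonoidHom.ofInjective hsT).toEquiv))
    rwa [hAn, ← Nat.card_congr (MonoidHom.ofInjective hsT).toEquiv] at this
  interval_cases n
  · -- degree 5
    have h60 : Nat.card T = 60 := by
      have hd : Nat.card T ∣ 60 := by simpa [Nat.factorial] using hdA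
      exact card_eq_sixty hTc (hd.trans (by norm_num)) (Nat.le_of_dvd (by norm_num) hd)
    exact (out60 h60).imp id Or.inl
  · -- degree 6
    have hd : Nat.card T ∣ 360 := by simpa [Nat.factorial] using hdA
    by_cases h360 : Nat.card T = 360
    · have hA6 := hfull (by rw [h360]; rfl)
      have h720 : Nat.card (Equiv.Perm (Fin 6)) = 720 := by rw [Nat.card_perm, Nat.card_fin]; rfl
      have hi := Subgroup.index_mul_card r.range
      have hge := Subgroup.card_dvd_of_le hA6
      rw [hAn, show (6 : ℕ).factorial / 2 = 360 from rfl] at hge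
      rw [h720] at hi
      obtain ⟨k, hk⟩ := hge
      rw [hk] at hi
      have : r.range.index * k = 2 := by nlinarith
      rcases (Nat.dvd_prime Nat.prime_two).1 (Dvd.intro k this) with h | h
      · exact Or.inr (Or.inr (Or.inl ⟨((MonoidHom.ofInjective hr).trans
          (MulEquiv.subgroupCongr (Subgroup.index_eq_one.1 h))).trans Subgroup.topEquiv⟩))
      · exact Or.inl ⟨6, by norm_num, by norm_num, ⟨(MonoidHom.ofInjective hr).trans
          (MulEquiv.subgroupCongr (Equiv.Perm.eq_alternatingGroup_of_index_eq_two h))⟩⟩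
    · have h := hle (Or.inl rfl) h360
      rw [show (6 : ℕ).factorial / 2 = 360 from rfl] at h
      exact (out60 (card_eq_sixty hTc hd (by omega))).imp id Or.inl
  · -- degree 7
    have hd : Nat.card T ∣ 2520 := by simpa [Nat.factorial] using hdA
    rcases card_of_deg_seven hTc φT hφT hndvd hd (fun h => by
      have := hle (Or.inr rfl) (by simpa [Nat.factorial] using h)
      rw [show (7 : ℕ).factorial / 2 = 2520 from rfl] at this
      omega) with h | h
    · exact Or.inl ⟨7, by norm_num, by norm_num, houtA le_rfl (by rw [h]; rfl)⟩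
    · exact Or.inr (Or.inr (Or.inr (out168 h)))
  · -- degree 8
    by_cases h5 : 5 ∣ Nat.card T
    · have halt8 := alt_le_of_five rT.range (fun a b => by
        obtain ⟨t, ht, h⟩ := htr a b; exact ⟨rT ⟨t, ht⟩, ⟨_, rfl⟩, h⟩)
        (by rwa [← Nat.card_congr (MonoidHom.ofInjective hrT).toEquiv])
      refine Or.inl ⟨8, by norm_num, le_rfl, houtA (by norm_num) ?_⟩
      refine Nat.dvd_antisymm hdA ?_
      rw [← hAn, Nat.card_congr (MonoidHom.ofInjective hrT).toEquiv]
      exact Subgroup.card_dvd_of_le halt8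
    have hd : Nat.card T ∣ 20160 := by simpa [Nat.factorial] using hdA
    by_cases h7 : 7 ∣ Nat.card T
    · haveI : Fact (Nat.Prime 7) := ⟨by norm_num⟩
      obtain ⟨hc, hm, hn1, -⟩ := card_of_seven hTc φT hφT h7
      rw [hc] at hd hndvd h5
      set k := Nat.card (Sylow 7 T)
      have hk : k ∣ 960 := (Nat.mul_dvd_mul_iff_left (show 0 < 21 by norm_num)).1 hd
      have hk8 : 8 ∣ k := (show Nat.Coprime 8 21 by norm_num).dvd_of_dvd_mul_left hndvd
      have hk5 : ¬ 5 ∣ k := fun h => h5 (h.mul_left _)
      have hk2 : k = 8 ∨ k = 64 := by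
        have hk192 : k ∣ 192 := ((Nat.prime_five.coprime_iff_not_dvd.2 hk5).symm).dvd_of_dvd_mul_right
          (show k ∣ 192 * 5 from hk)
        have := Nat.le_of_dvd (by norm_num) hk192
        obtain ⟨j, hj⟩ := hk8
        rw [hj] at hk192 hm this ⊢
        have : j ≤ 24 := by omega
        interval_cases j <;> first | omega | (norm_num at hk192) | (norm_num at hm)
      rcases hk2 with h | h
      · exact Or.inr (Or.inr (Or.inr (out168 (by omega))))
      · exact absurd (by omega) (card_ne_1344 hTc (H.subtype.comp T.subtype)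
          (H.subtype_injective.comp T.subtype_injective))
    · exfalso
      refine not_solvable hTc (solvable_of_dvd (a := 6) (b := 2) ?_)
      have h35 : (Nat.card T).Coprime 35 := Nat.Coprime.mul_right
        (Nat.prime_five.coprime_iff_not_dvd.2 h5).symm
        ((show Nat.Prime 7 by norm_num).coprime_iff_not_dvd.2 h7).symm
      exact h35.dvd_of_dvd_mul_right (show Nat.card T ∣ 2 ^ 6 * 3 ^ 2 * 35 from hd)

end Cfsg.Agent.S2553
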