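import Cfsg.Statements.S2556
import Cfsg.Agent.Lib.KnownC.SuzTwoAut

set_option autoImplicit false
open Cfsg

namespace Cfsg.Agent.S2556

/-- Let S be a Sylow 2-subgroup of the Suzuki group Sz(q), q = 2ⁿ with n = 2m + 1 ≥ 3 (realised as 4 × 4 matrices over the field with q elements). Then the largest normal 2-subgroup of the automorphism group of S is elementary abelian of order 2^(n²), and the automorphism group of S has order 2^(n²) · n · (q − 1). -/
theorem result {S : Type*} [Group S] [Finite S] (m : ℕ) (hm : 1 ≤ m)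
    {F : Type*} [Field F] [Fintype F] (hF : Fintype.card F = 2 ^ (2 * m + 1))
    (P : Sylow 2 ↥(Cfsg.Lie.Sz F (2 ^ (m + 1)))) (hS : Nonempty (S ≃* ↥(P : Subgroup ↥(Cfsg.Lie.Sz F (2 ^ (m + 1)))))) :
    Cfsg.IsElementaryAbelian 2 (Cfsg.pCore 2 (MulAut S)) ∧ Nat.card ↥(Cfsg.pCore 2 (MulAut S)) = 2 ^ ((2 * m + 1) ^ 2) ∧
      Nat.card (MulAut S) = 2 ^ ((2 * m + 1) ^ 2) * ((2 * m + 1) * (2 ^ (2 * m + 1) - 1)) := by
  haveI : CharP F 2 := charP_of_card_eq_prime_pow hF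
  haveI : Fact (Nat.Prime 2) := ⟨Nat.prime_two⟩
  obtain ⟨e⟩ := hS
  let sz := CfsgLib.Suzuki.szEquiv hm hF
  let e1 := (sz.symm.subgroupMap (P : Subgroup ↥(Cfsg.Lie.Sz F (2 ^ (m + 1)))))
  let Q : Sylow 2 (Cfsg.Sz F m) := P.mapSurjective (f := sz.symm.toMonoidHom) sz.symm.surjective
  exact CfsgLib.KnownC.SuzTwoAut.mulAut_structure hm hF
    (((e.trans e1).trans (Q.equiv (CfsgLib.Suzuki.uSylow hm hF))).trans
      (CfsgLib.KnownC.SuzTwoAut.sqEquiv (CfsgLib.Suzuki.thSq_of_card hF)).symm)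

end Cfsg.Agent.S2556
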