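import Cfsg.Statements.S2558
import Cfsg.Agent.Lib.ClassK.OrthClassBound
import Cfsg.Agent.Lib.ClassK.OrthClassData
import Cfsg.Agent.Lib.ClassK.OrthRealise
-- import your own Cfsg.Agent.* helpers here

set_option autoImplicit false
open Cfsg

namespace Cfsg.Agent.S2558

open Matrix CfsgLib.ClassK.IsoData
open scoped Matrix

theorem classes_congr {G H : Type*} [Group G] [Group H] (e : G ≃* H) :
    Nat.card (ConjClasses G) = Nat.card (ConjClasses H) :=
  Nat.card_eq_of_bijective (ConjClasses.map e.toMonoidHom)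
    ⟨fun a b hab => by
      obtain ⟨a, rfl⟩ := ConjClasses.mk_surjective a
      obtain ⟨b, rfl⟩ := ConjClasses.mk_surjective b
      have h := ConjClasses.mk_eq_mk_iff_isConj.1 hab
      rw [ConjClasses.mk_eq_mk_iff_isConj]
      simpa using MonoidHom.map_isConj e.symm.toMonoidHom h,
    ConjClasses.map_surjective e.surjective⟩

variable {F : Type*} [Field F] {ι : Type} [Fintype ι] [DecidableEq ι] {Q : (ι → F) → F} {J : Matrix ι ι F}

theorem mem_isometryGroup_iff (h2 : (2 : F) ≠ 0) (hJs : Jᵀ = J) (hQ : ∀ v, Q v = v ⬝ᵥ J *ᵥ v) (g : GL ι F) :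
    g ∈ Cfsg.isometryGroup F Q ↔ (g : Matrix ι ι F)ᵀ * J * (g : Matrix ι ι F) = J := by
  have key : ∀ v, Q ((g : Matrix ι ι F) *ᵥ v) = v ⬝ᵥ ((g : Matrix ι ι F)ᵀ * J * (g : Matrix ι ι F)) *ᵥ v := fun v => by
    rw [hQ, ← mulVec_mulVec, ← mulVec_mulVec, dotProduct_mulVec v (g : Matrix ι ι F)ᵀ, vecMul_transpose]
  constructor
  · intro hg
    have h0 : ∀ v, v ⬝ᵥ ((g : Matrix ι ι F)ᵀ * J * (g : Matrix ι ι F) - J) *ᵥ v = 0 := fun v => by
      rw [sub_mulVec, dotProduct_sub, ← key, ← hQ, sub_eq_zero]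
      exact hg v v
    generalize hS : (g : Matrix ι ι F)ᵀ * J * (g : Matrix ι ι F) - J = S at h0
    have hSs : ∀ i j, S j i = S i j := fun i j => by
      have : Sᵀ = S := by
        rw [← hS, transpose_sub, transpose_mul, transpose_mul, transpose_transpose, hJs, Matrix.mul_assoc]
      exact congrFun (congrFun this i) j
    have hd : ∀ i, S i i = 0 := fun i => by simpa using h0 (Pi.single i 1)
    refine sub_eq_zero.1 (hS.trans (Matrix.ext fun i j => ?_))
    have h := h0 (Pi.single i 1 + Pi.single j 1)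
    simp [mulVec_add, dotProduct_add, add_dotProduct, hd, hSs i j] at h
    rw [← two_mul] at h
    simpa using (mul_eq_zero.1 h).resolve_left h2
  · intro hg u v
    show Q ((g : Matrix ι ι F) *ᵥ u) = Q u
    rw [key, hg, hQ]

variable [Fintype F]

theorem bounds (hodd : Odd (Fintype.card F)) {n : ℕ} (hn : 2 ≤ n) (e : ι ≃ Fin (2 * n)) (hJs : Jᵀ = J)
    (hJu : IsUnit J) (hQ : ∀ v, Q v = v ⬝ᵥ J *ᵥ v) :
    Fintype.card F ^ n ≤ 2 * Nat.card (ConjClasses ↥(Cfsg.isometryGroup F Q)) ∧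
      2 * Nat.card (ConjClasses ↥(Cfsg.isometryGroup F Q)) ≤ 19 * Fintype.card F ^ n := by
  classical
  have h2 : (2 : F) ≠ 0 := fun h => by
    have h' : CharP F 2 := CharTwo.of_one_ne_zero_of_two_eq_zero one_ne_zero h
    exact Nat.not_even_iff_odd.2 hodd (Nat.even_iff.2 (FiniteField.even_card_iff_char_two.1 (ringChar.eq F 2)))
  have hq : 3 ≤ Fintype.card F := by
    have := Fintype.one_lt_card (α := F)
    obtain ⟨k, hk⟩ := hodd
    omega
  let R := Matrix.reindexAlgEquiv F F e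
  have hRt : ∀ M, (R M)ᵀ = R Mᵀ := fun M => rfl
  let f : ↥(Cfsg.isometryGroup F Q) →* GL (Fin (2 * n)) F :=
    (Units.map R.toAlgHom.toRingHom.toMonoidHom).comp (Cfsg.isometryGroup F Q).subtype
  have hmem : ∀ g, f g ∈ isoGroup (R J) := fun g => by
    show (R (g.1 : Matrix ι ι F))ᵀ * R J * R (g.1 : Matrix ι ι F) = R J
    rw [hRt, ← map_mul, ← map_mul, (mem_isometryGroup_iff h2 hJs hQ g.1).1 g.2]
  let E : ↥(Cfsg.isometryGroup F Q) ≃* ↥(isoGroup (R J)) :=
    MulEquiv.ofBijective (f.codRestrict _ hmem)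
      ⟨fun A B h => Subtype.ext (Units.ext (R.injective (congrArg (fun z : ↥(isoGroup (R J)) =>
        ((z : GL (Fin (2 * n)) F) : Matrix (Fin (2 * n)) (Fin (2 * n)) F)) h))), fun g => by
        obtain ⟨u, hu⟩ := (Units.mapEquiv R.toMulEquiv).surjective g.1
        refine ⟨⟨u, (mem_isometryGroup_iff h2 hJs hQ u).2 (R.injective ?_)⟩, Subtype.ext hu⟩
        rw [map_mul, map_mul, ← hRt]
        have := g.2
        rw [mem_isoGroup, ← hu] at this
        exact this⟩
  have hRs : (R J)ᵀ = R J := by rw [hRt, hJs]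
  rw [classes_congr E]
  exact ⟨pow_le_card_orth_classes h2 hn hRs (hJu.map _),
    (card_orth_classes_le hRs (hJu.map _) h2).trans (CfsgLib.ClassK.OrthBound.sum_wgt_le hq n (2 * n) (by omega) rfl)⟩

/-- The number of conjugacy classes of the full orthogonal groups O⁺(2n,q) and O⁻(2n,q), q odd, 2n ≥ 4: for F a finite field of odd order q and n ≥ 2, the number k of conjugacy classes of the isometry group of the hyperbolic quadratic form Σ xᵢyᵢ on F^{2n}, and likewise of the elliptic form Σ xᵢyᵢ + (z₁² + a z₁z₂ + b z₂²) with anisotropic binary part, satisfies q^n/2 ≤ k ≤ 9.5·q^n. -/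
theorem result {F : Type*} [Field F] [Fintype F] (hodd : Odd (Fintype.card F)) (n : ℕ) (hn : 2 ≤ n) (a b : F) (hab : ∀ z₁ z₂ : F, z₁ ^ 2 + a * z₁ * z₂ + b * z₂ ^ 2 = 0 → z₁ = 0 ∧ z₂ = 0) :
    (Fintype.card F ^ n ≤ 2 * Nat.card (ConjClasses ↥(Cfsg.isometryGroup F (Cfsg.quadFormPlus n F))) ∧
      2 * Nat.card (ConjClasses ↥(Cfsg.isometryGroup F (Cfsg.quadFormPlus n F))) ≤ 19 * Fintype.card F ^ n) ∧
    (Fintype.card F ^ n ≤ 2 * Nat.card (ConjClasses ↥(Cfsg.isometryGroup F (Cfsg.quadFormMinus (n - 1) F a b))) ∧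
      2 * Nat.card (ConjClasses ↥(Cfsg.isometryGroup F (Cfsg.quadFormMinus (n - 1) F a b))) ≤ 19 * Fintype.card F ^ n) := by
  have h2 : (2 : F) ≠ 0 := fun h => by
    have h' : CharP F 2 := CharTwo.of_one_ne_zero_of_two_eq_zero one_ne_zero h
    exact Nat.not_even_iff_odd.2 hodd (Nat.even_iff.2 (FiniteField.even_card_iff_char_two.1 (ringChar.eq F 2)))
  let P : ∀ m : ℕ, Matrix (Fin m ⊕ Fin m) (Fin m ⊕ Fin m) F := fun m => fromBlocks 0 ((2 : F)⁻¹ • 1) ((2 : F)⁻¹ • 1) 0
  have hP : ∀ m v, Cfsg.quadFormPlus m F v = v ⬝ᵥ P m *ᵥ v := fun m v => by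
    simp only [Cfsg.quadFormPlus, P, fromBlocks_mulVec, dotProduct, Fintype.sum_sum_type, Sum.elim_inl, Sum.elim_inr,
      zero_mulVec, smul_mulVec, one_mulVec, Pi.add_apply, Pi.zero_apply, Pi.smul_apply, Function.comp_apply, smul_eq_mul,
      zero_add, add_zero, ← Finset.sum_add_distrib]
    refine Finset.sum_congr rfl fun i _ => ?_
    field_simp
    ring
  have hPs : ∀ m, (P m)ᵀ = P m := fun m => by simp [P, fromBlocks_transpose]
  have hPu : ∀ m, IsUnit (P m) := fun m => by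
    refine (isUnit_iff_isUnit_det _).2 (Matrix.isUnit_det_of_left_inverse
      (B := fromBlocks 0 ((2 : F) • 1) ((2 : F) • 1) 0) ?_)
    simp [P, fromBlocks_multiply, smul_smul, h2, fromBlocks_one]
  refine ⟨bounds hodd hn (Fintype.equivFinOfCardEq (by simp; omega)) (hPs n) (hPu n) (hP n), ?_⟩
  refine bounds hodd hn (J := fromBlocks (P (n - 1)) 0 0 !![1, a / 2; a / 2, b])
    (Fintype.equivFinOfCardEq (by simp; omega)) ?_ ?_ fun v => ?_
  · rw [fromBlocks_transpose, hPs, transpose_zero, transpose_zero]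
    congr 1
    ext i j; fin_cases i <;> fin_cases j <;> rfl
  · rw [isUnit_iff_isUnit_det, det_fromBlocks_zero₂₁, det_fin_two_of]
    refine ((isUnit_iff_isUnit_det _).1 (hPu _)).mul (Ne.isUnit fun hz => ?_)
    have h := (hab (-(a / 2)) 1 (by rw [← hz]; field_simp; ring)).2
    exact one_ne_zero h
  · have := hP (n - 1) (v ∘ Sum.inl)
    simp only [Cfsg.quadFormPlus, Function.comp_apply] at this
    rw [Cfsg.quadFormMinus, this]
    conv_rhs => rw [← Sum.elim_comp_inl_inr v, fromBlocks_mulVec, sumElim_dotProduct_sumElim]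
    simp [dotProduct, mulVec, Fin.sum_univ_two]
    field_simp
    ring

end Cfsg.Agent.S2558
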