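import Cfsg.Statements.S2560
import Cfsg.Agent.S2558
import Cfsg.Agent.Lib.ClassK.OmegaOddClasses
import Cfsg.Agent.Lib.Classical.StdQuad
-- import your own Cfsg.Agent.* helpers here

set_option autoImplicit false
open Cfsg

namespace Cfsg.Agent.S2560

open Matrix Polynomial CfsgLib.Geom CfsgLib.KnownB.GLClass CfsgLib.ClassK CfsgLib.ClassK.IsoData CfsgLib.ClassK.CompRec
  CfsgLib.ClassK.OddBound
open scoped Matrix

theorem cs_three (N : ℕ) (hN : 1 ≤ N) : cs (fun l a => if l = 0 then tThree a else wgt 3 (Odd l) a) N N =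
    cs (fun l a => wgt 3 (Odd l) a) N N + 3 * cs wGood N N := by
  have e : cs (fun l a => wgt 3 (Odd l) a) N N =
      cs (fun l a => if l = 0 then wgt 3 (Odd 0) a else wgt 3 (Odd l) a) N N := by
    congr 1
    funext l a
    split_ifs with h
    · subst h; rfl
    · rfl
  rw [e, show cs wGood N N = cs (fun l a => if l = 0 then wr a else wgt 3 (Odd l) a) N N from rfl,
    cs_first (fun l a => wgt 3 (Odd l) a) tThree N N hN,
    cs_first (fun l a => wgt 3 (Odd l) a) (fun a => wgt 3 (Odd 0) a) N N hN,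
    cs_first (fun l a => wgt 3 (Odd l) a) wr N N hN, Finset.mul_sum, ← Finset.sum_add_distrib]
  exact Finset.sum_congr rfl fun a _ => by rw [tThree, add_mul, mul_assoc]

theorem omega_bounds {F : Type*} [Field F] [Fintype F] (hodd : Odd (Fintype.card F)) (n : ℕ) (hn : 2 ≤ n) :
    Fintype.card F ^ n ≤ 2 * Nat.card (ConjClasses ↥(Cfsg.Omega F (⇑(CfsgLib.Classical.qfOdd n F)))) ∧
      10 * Nat.card (ConjClasses ↥(Cfsg.Omega F (⇑(CfsgLib.Classical.qfOdd n F)))) ≤ 73 * Fintype.card F ^ n := by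
  classical
  have h2 : (2 : F) ≠ 0 := CfsgLib.Classical.two_ne_zero_of_odd hodd
  have hqodd := hodd
  set Q := CfsgLib.Classical.qfOdd n F with hQdef
  let O := Cfsg.isometryGroup F (⇑Q)
  let S := Cfsg.specialIsometryGroup F (⇑Q)
  have hsep : ∀ x, (∀ y, QuadraticMap.polar Q x y = 0) → x = 0 := CfsgLib.Classical.qfOdd_sep h2 n
  let J₀ : Matrix (Unit ⊕ (Fin n ⊕ Fin n)) (Unit ⊕ (Fin n ⊕ Fin n)) F :=
    fromBlocks 1 0 0 (fromBlocks 0 ((2 : F)⁻¹ • 1) ((2 : F)⁻¹ • 1) 0)
  have hJ₀s : J₀ᵀ = J₀ := by simp [J₀, fromBlocks_transpose]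
  have hJ₀u : IsUnit J₀ := by
    refine (isUnit_iff_isUnit_det _).2 (Matrix.isUnit_det_of_left_inverse
      (B := fromBlocks 1 0 0 (fromBlocks 0 ((2 : F) • 1) ((2 : F) • 1) 0)) ?_)
    simp [J₀, fromBlocks_multiply, smul_smul, h2, fromBlocks_one]
  have hQ : ∀ v, Q v = v ⬝ᵥ J₀ *ᵥ v := fun v => by
    rw [hQdef, CfsgLib.Classical.qfOdd_apply, Cfsg.quadFormOdd]
    simp only [J₀, fromBlocks_mulVec, dotProduct, Fintype.sum_sum_type, Sum.elim_inl, Sum.elim_inr,
      zero_mulVec, smul_mulVec, one_mulVec, Pi.add_apply, Pi.zero_apply, Pi.smul_apply, Function.comp_apply, smul_eq_mul,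
      zero_add, add_zero, ← Finset.sum_add_distrib, Fintype.univ_unit, Finset.sum_singleton]
    refine congrArg₂ (· + ·) (sq _) (Finset.sum_congr rfl fun i _ => ?_)
    field_simp
    ring
  let e : Unit ⊕ (Fin n ⊕ Fin n) ≃ Fin (2 * n + 1) := Fintype.equivFinOfCardEq (by simp; omega)
  let R := Matrix.reindexAlgEquiv F F e
  let J := R J₀
  have hRt : ∀ M, (R M)ᵀ = R Mᵀ := fun M => rfl
  have hJs : Jᵀ = J := by
    show (R J₀)ᵀ = R J₀
    rw [hRt, hJ₀s]
  have hJu : IsUnit J := hJ₀u.map _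
  let f : ↥O →* GL (Fin (2 * n + 1)) F := (Units.map R.toAlgHom.toRingHom.toMonoidHom).comp O.subtype
  have hmem : ∀ g, f g ∈ isoGroup J := fun g => by
    show (R (g.1 : Matrix _ _ F))ᵀ * R J₀ * R (g.1 : Matrix _ _ F) = R J₀
    rw [hRt, ← map_mul, ← map_mul, (Cfsg.Agent.S2558.mem_isometryGroup_iff h2 hJ₀s hQ g.1).1 g.2]
  let E : ↥O ≃* ↥(isoGroup J) :=
    MulEquiv.ofBijective (f.codRestrict _ hmem)
      ⟨fun A B h => Subtype.ext (Units.ext (R.injective (congrArg (fun z : ↥(isoGroup J) =>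
        ((z : GL (Fin (2 * n + 1)) F) : Matrix (Fin (2 * n + 1)) (Fin (2 * n + 1)) F)) h))), fun g => by
        obtain ⟨u, hu⟩ := (Units.mapEquiv R.toMulEquiv).surjective g.1
        refine ⟨⟨u, (Cfsg.Agent.S2558.mem_isometryGroup_iff h2 hJ₀s hQ u).2 (R.injective ?_)⟩, Subtype.ext hu⟩
        rw [map_mul, map_mul, ← hRt]
        have := g.2
        rw [mem_isoGroup, ← hu] at this
        exact this⟩
  let mt : ↥O → Matrix (Unit ⊕ (Fin n ⊕ Fin n)) (Unit ⊕ (Fin n ⊕ Fin n)) F := fun g =>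
    ((g : GL (Unit ⊕ (Fin n ⊕ Fin n)) F) : Matrix _ _ F)
  have hEv : ∀ g, (((E g : ↥(isoGroup J)) : GL (Fin (2 * n + 1)) F) : Matrix _ _ F) = R (mt g) := fun g => rfl
  -- determinants
  have hmS : ∀ g : ↥O, g ∈ S ↔ (mt g).det = 1 := fun g => ⟨fun h => congrArg Units.val h, fun h => Units.ext h⟩
  have hd : ∀ g : ↥O, (mt g).det = 1 ∨ (mt g).det = -1 := fun g => by
    have h := congrArg Matrix.det ((Cfsg.Agent.S2558.mem_isometryGroup_iff h2 hJ₀s hQ g.1).1 g.2)
    rw [det_mul, det_mul, det_transpose] at h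
    have hJ0 : J₀.det ≠ 0 := ((isUnit_iff_isUnit_det _).1 hJ₀u).ne_zero
    exact mul_self_eq_one_iff.1 (mul_right_cancel₀ hJ0 (by linear_combination h))
  let m1 : ↥O := ⟨-1, OmegaOdd.neg_one_mem Q⟩
  have hm1 : ∀ g : ↥O, mt (m1 * g) = -mt g := fun g => by
    show ((-1 : GL (Unit ⊕ (Fin n ⊕ Fin n)) F) : Matrix _ _ F) * mt g = _
    rw [Units.val_neg, Units.val_one, neg_one_mul]
  have hm1c : ∀ g : ↥O, m1 * g = g * m1 := fun g => by
    refine Subtype.ext ?_
    show (-1 : GL (Unit ⊕ (Fin n ⊕ Fin n)) F) * g.1 = g.1 * -1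
    rw [neg_one_mul, mul_neg_one]
  have hm1d : ∀ g : ↥O, (mt (m1 * g)).det = -(mt g).det := fun g => by
    rw [hm1, det_neg, Fintype.card_sum, Fintype.card_sum, Fintype.card_unit, Fintype.card_fin,
      show 1 + (n + n) = 2 * n + 1 by omega, pow_succ, pow_mul, neg_one_sq, one_pow, one_mul, neg_one_mul]
  have hSi : S.index = 2 := OmegaOdd.special_index h2 Q ⟨n, by simp; omega⟩ hd
  have hΩS : Cfsg.Omega F (⇑Q) ≤ S := omega_le_special Q
  let H : Subgroup ↥S := (Cfsg.Omega F (⇑Q)).subgroupOf S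
  have hH : H.index = 2 := by
    have h4 := omega_index_odd Q hsep h2 (by simp; omega)
    rw [← Subgroup.relIndex_mul_index hΩS, hSi] at h4
    show (Cfsg.Omega F (⇑Q)).relIndex S = 2
    omega
  rw [← Cfsg.Agent.S2558.classes_congr (Subgroup.subgroupOfEquivOfLe hΩS)]
  change Fintype.card F ^ n ≤ 2 * Nat.card (ConjClasses ↥H) ∧ 10 * Nat.card (ConjClasses ↥H) ≤ 73 * Fintype.card F ^ n
  -- the two classes of the isometry group over a class of `S`
  let Ψ : ConjClasses ↥S × Bool → ConjClasses ↥(isoGroup J) := fun x =>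
    ConjClasses.mk (E (if x.2 then m1 * (Quotient.out x.1 : ↥S).1 else (Quotient.out x.1 : ↥S).1))
  have hΨ : Function.Injective Ψ := by
    rintro ⟨C, b⟩ ⟨C', b'⟩ h
    obtain ⟨c, hc⟩ := isConj_iff.1 (ConjClasses.mk_eq_mk_iff_isConj.1 h)
    obtain ⟨d, rfl⟩ := E.surjective c
    rw [← map_inv, ← map_mul, ← map_mul] at hc
    have hc' := E.injective hc
    simp only at hc'
    have hdet : (mt (if b then m1 * (Quotient.out C : ↥S).1 else (Quotient.out C : ↥S).1)).det =
        (mt (if b' then m1 * (Quotient.out C' : ↥S).1 else (Quotient.out C' : ↥S).1)).det := by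
      rw [← hc']
      simp only [mt, Subgroup.coe_mul, InvMemClass.coe_inv, Units.val_mul, det_mul]
      rw [mul_right_comm, ← det_mul, Units.mul_inv, det_one, one_mul]
    have hne : (1 : F) ≠ -1 := fun h => h2 (by linear_combination h)
    have hC1 := (hmS _).1 (Quotient.out C : ↥S).2
    have hC2 := (hmS _).1 (Quotient.out C' : ↥S).2
    obtain rfl : b = b' := by
      cases b <;> cases b' <;> simp only [if_true, if_false, Bool.false_eq_true, hm1d, hC1, hC2] at hdet
      · rfl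
      · exact absurd hdet hne
      · exact absurd hdet.symm hne
      · rfl
    have hbase : d * (Quotient.out C : ↥S).1 * d⁻¹ = (Quotient.out C' : ↥S).1 := by
      cases b
      · simpa using hc'
      · simp only [if_true] at hc'
        rw [← mul_assoc, ← hm1c, mul_assoc m1, mul_assoc m1] at hc'
        exact mul_left_cancel hc'
    have hsgn : ∃ d' ∈ S, d' * (Quotient.out C : ↥S).1 * d'⁻¹ = (Quotient.out C' : ↥S).1 := by
      rcases hd d with h1 | h1
      · exact ⟨d, (hmS d).2 h1, hbase⟩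
      · refine ⟨m1 * d, (hmS _).2 (by rw [hm1d, h1, neg_neg]), ?_⟩
        rw [show m1 * d * (Quotient.out C : ↥S).1 * (m1 * d)⁻¹ = m1 * (d * (Quotient.out C : ↥S).1 * d⁻¹) * m1⁻¹ by group,
          hm1c, mul_inv_cancel_right, hbase]
    obtain ⟨d', hd', hd''⟩ := hsgn
    refine Prod.ext ?_ rfl
    rw [← Quotient.out_eq C, ← Quotient.out_eq C']
    exact Quotient.sound (isConj_iff.2 ⟨⟨d', hd'⟩, Subtype.ext hd''⟩)
  have hN : Odd (2 * n + 1) := ⟨n, rfl⟩
  have hkS : 4 * Nat.card (ConjClasses ↥S) ≤ ∑ a ∈ CfsgLib.KnownB.ClassNum.comps 1 (2 * n + 1) (2 * n + 1),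
      ∏ l : Fin (2 * n + 1), wgt (Fintype.card F) (Odd (l : ℕ)) (a l) := by
    have h := Nat.card_le_card_of_injective Ψ hΨ
    rw [Nat.card_prod, Nat.card_eq_fintype_card (α := Bool), Fintype.card_bool] at h
    have := card_orth_odd_le hN hJs hJu h2
    omega
  have hlow : Fintype.card F ^ n ≤ Nat.card (ConjClasses ↥S) := by
    let P := {f : F[X] // f.Monic ∧ f.reverse = f ∧ f.natDegree = 2 * n}
    have hP : Nat.card P = Fintype.card F ^ n := CfsgLib.Classical.SemiSympExists.natCard_palindromic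
    have hA : ∀ p : P, ∃ g : ↥S, (mt g.1).charpoly = (X - C 1) * p.1 := fun p => by
      obtain ⟨A, hA⟩ := OmegaOdd.exists_orth_charpoly_odd h2 (by omega) p.2.1 p.2.2.1 p.2.2.2 hJs hJu
      obtain ⟨g, rfl⟩ := E.surjective A
      have hc : (mt g).charpoly = (X - C 1) * p.1 := by
        rw [← hA, hEv]; exact (Matrix.charpoly_reindex e _).symm
      refine ⟨⟨g, (hmS g).2 ?_⟩, hc⟩
      rw [det_eq_sign_charpoly_coeff, hc, mul_coeff_zero, coeff_sub, coeff_X_zero, coeff_C_zero,
        CfsgLib.Classical.SemiPalin.coeff_zero_of_rev p.2.2.1 p.2.1, Fintype.card_sum, Fintype.card_sum,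
        Fintype.card_unit, Fintype.card_fin, show 1 + (n + n) = 2 * n + 1 by omega, pow_succ, pow_mul, neg_one_sq,
        one_pow]
      ring
    choose A hA using hA
    rw [← hP]
    refine Nat.card_le_card_of_injective (fun p => ConjClasses.mk (A p)) fun p p' h => ?_
    obtain ⟨c, hc⟩ := isConj_iff.1 (ConjClasses.mk_eq_mk_iff_isConj.1 h)
    refine Subtype.ext (mul_left_cancel₀ (X_sub_C_ne_zero (1 : F)) ?_)
    rw [← hA p, ← hA p', ← hc]
    simp only [mt, Subgroup.coe_mul, InvMemClass.coe_inv, Units.val_mul, Matrix.coe_units_inv, Matrix.charpoly_units_conj]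
  refine ⟨hlow.trans (IndexTwo.le_two_mul' H hH), ?_⟩
  rcases le_or_gt 5 (Fintype.card F) with hq | hq
  · have h1 := sum_large_le hq n
    have h3 := IndexTwo.le_two_mul H hH
    omega
  have hq3 : Fintype.card F = 3 := by
    have := Fintype.one_lt_card (α := F)
    obtain ⟨k, hk⟩ := hqodd
    omega
  -- split classes
  let l0 : Fin (2 * n + 1) := ⟨0, by omega⟩
  let ok : ConjClasses ↥(isoGroup J) → Prop := fun D => ∀ c : F, c * c = 1 →
    rootMultiplicity c (dataOf ((((Quotient.out D : ↥(isoGroup J)) : GL (Fin (2 * n + 1)) F)) :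
      Matrix (Fin (2 * n + 1)) (Fin (2 * n + 1)) F) l0) ≤ 1
  have hok : ∀ x : {C : ConjClasses ↥S // IndexTwo.IsSplit H C} × Bool, ok (Ψ (x.1.1, x.2)) := by
    rintro ⟨⟨C, hC⟩, b⟩ c hc
    by_contra hlt
    rw [not_le] at hlt
    obtain ⟨D, hD⟩ : ∃ D, D = Ψ (C, b) := ⟨_, rfl⟩
    simp only [← hD] at hlt
    obtain ⟨A, hA⟩ : ∃ A : ↥(isoGroup J), A = Quotient.out D := ⟨_, rfl⟩
    rw [← hA] at hlt
    obtain ⟨g, rfl⟩ := E.surjective A
    have hv : ∀ a : F, a ≠ 0 → ∃ u, mt g *ᵥ u = c • u ∧ Q u = a := fun a ha => by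
      obtain ⟨u, hu1, hu2⟩ := OmegaOdd.exists_eigvec h2 (isInv_mem (by rw [one_smul, hJs]) hJu (E g)) hc l0 rfl hlt ha
      refine ⟨u ∘ e, ?_, ?_⟩
      · rw [hEv] at hu1
        funext i
        have := congrFun hu1 (e i)
        simp only [R, Matrix.reindexAlgEquiv_apply, Matrix.reindex_apply, mulVec, dotProduct, submatrix_apply,
          Equiv.symm_apply_apply, Pi.smul_apply] at this
        rw [Pi.smul_apply, mulVec, dotProduct, Function.comp_apply, ← this]
        exact (Fintype.sum_equiv e.symm _ _ fun j => by simp).symm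
      · rw [← hu2, hQ]
        simp only [J, R, Matrix.reindexAlgEquiv_apply, Matrix.reindex_apply, dotProduct, mulVec, submatrix_apply]
        refine Fintype.sum_equiv e _ _ fun i => ?_
        simp only [Function.comp_apply, Equiv.symm_apply_apply]
        congr 1
        exact Fintype.sum_equiv e _ _ fun j => by simp
    obtain ⟨w, hwS, hwΩ, hwc⟩ := OmegaOdd.exists_witness h2 Q hsep g hc hv
    obtain ⟨x0, hx0⟩ : ∃ x0, x0 = (Quotient.out C : ↥S).1 := ⟨_, rfl⟩
    have hmk : ConjClasses.mk (E g) = ConjClasses.mk (E (if b then m1 * x0 else x0)) := by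
      rw [hA, hx0]; exact (Quotient.out_eq D).trans hD
    obtain ⟨d, hdd⟩ := isConj_iff.1 (ConjClasses.mk_eq_mk_iff_isConj.1 hmk)
    obtain ⟨d, rfl⟩ := E.surjective d
    rw [← map_inv, ← map_mul, ← map_mul] at hdd
    have hdd' := E.injective hdd
    have hcomm : Commute (d * w * d⁻¹) x0 := by
      have h := hwc.map (MulAut.conj d).toMonoidHom
      simp only [MulEquiv.coe_toMonoidHom, MulAut.conj_apply, hdd'] at h
      cases b
      · simpa using h
      · simp only [if_true] at h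
        have h' : d * w * d⁻¹ * (m1 * x0) = m1 * x0 * (d * w * d⁻¹) := h
        rw [← mul_assoc, ← hm1c, mul_assoc m1, mul_assoc m1] at h'
        exact mul_left_cancel h'
    have hS' : d * w * d⁻¹ ∈ S := (show S.Normal from MonoidHom.normal_ker _).conj_mem w hwS d
    have hin := hC.2 ⟨_, hS'⟩ (Subtype.ext (by subst hx0; exact hcomm.eq))
    refine hwΩ ?_
    have := (inferInstance : (Cfsg.Omega F (⇑Q)).Normal).conj_mem _ (show d * w * d⁻¹ ∈ Cfsg.Omega F (⇑Q) from hin) d⁻¹
    simpa [mul_assoc] using this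
  have hv4 : 4 * Nat.card {C : ConjClasses ↥S // IndexTwo.IsSplit H C} ≤ cs wGood (2 * n + 1) (2 * n + 1) := by
    have h := Nat.card_le_card_of_injective (fun x : {C : ConjClasses ↥S // IndexTwo.IsSplit H C} × Bool =>
      (⟨Ψ (x.1.1, x.2), hok x⟩ : {D // ok D})) fun x y h => by
        have := hΨ (congrArg Subtype.val h)
        simp only [Prod.mk.injEq] at this
        exact Prod.ext (Subtype.ext this.1) this.2
    rw [Nat.card_prod, Nat.card_eq_fintype_card (α := Bool), Fintype.card_bool] at h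
    have : 2 * Nat.card {D // ok D} ≤ cs wGood (2 * n + 1) (2 * n + 1) := card_orth_odd_good_le hq3 hN l0 rfl hJs hJu h2
    omega
  rw [sum_comps_eq (fun l a => wgt (Fintype.card F) (Odd l) a), hq3] at hkS
  rw [hq3]
  have h1 := sum_three_le n (by omega)
  rw [cs_three _ (by omega)] at h1
  have h3 := IndexTwo.two_mul_le H hH
  omega

/-- The number of conjugacy classes of Ω(2n+1,q), q odd, n ≥ 2: for F a finite field of odd order q, the number k of conjugacy classes of the commutator subgroup of the isometry group of the quadratic form x₀² + Σ xᵢyᵢ on F^{2n+1} satisfies q^n/2 ≤ k ≤ 7.3·q^n. -/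
theorem result {F : Type*} [Field F] [Fintype F] (hodd : Odd (Fintype.card F)) (n : ℕ) (hn : 2 ≤ n) :
    Fintype.card F ^ n ≤ 2 * Nat.card (ConjClasses ↥(Cfsg.Omega F (Cfsg.quadFormOdd n F))) ∧
      10 * Nat.card (ConjClasses ↥(Cfsg.Omega F (Cfsg.quadFormOdd n F))) ≤ 73 * Fintype.card F ^ n := by
  rw [← show ⇑(CfsgLib.Classical.qfOdd n F) = Cfsg.quadFormOdd n F from funext fun v => CfsgLib.Classical.qfOdd_apply n v]
  exact omega_bounds hodd n hn

end Cfsg.Agent.S2560
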