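import Cfsg.Statements.S2567
import Mathlib

set_option autoImplicit false
open Cfsg

namespace Cfsg.Agent.S2567

/-- Lifting elements of prime order from PGL to GL: let F be a finite field with q elements, r a prime not dividing q − 1, and x an element of order r in GL_n(F) modulo its centre (the scalar matrices). Then x has exactly one preimage in GL_n(F) of order r. -/
theorem result {F : Type*} [Field F] [Fintype F] {q n r : ℕ} (hF : Fintype.card F = q) (hr : r.Prime) (hdiv : ¬ r ∣ q - 1) (x : GL (Fin n) F ⧸ Subgroup.center (GL (Fin n) F)) (hx : orderOf x = r) : ∃! g : GL (Fin n) F, (QuotientGroup.mk g : GL (Fin n) F ⧸ Subgroup.center (GL (Fin n) F)) = x ∧ orderOf g = r := by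
  classical
  haveI := Fact.mk hr
  rcases Nat.eq_zero_or_pos n with rfl | hn
  · haveI : Subsingleton (GL (Fin 0) F) := ⟨fun a b => Units.ext (Subsingleton.elim _ _)⟩
    obtain ⟨y, rfl⟩ := QuotientGroup.mk_surjective x
    rw [Subsingleton.elim y 1, QuotientGroup.mk_one, orderOf_one] at hx
    exact absurd hx.symm hr.one_lt.ne'
  obtain ⟨g, rfl⟩ := QuotientGroup.mk_surjective x
  set Z := Subgroup.center (GL (Fin n) F) with hZ
  have hcop : (Nat.card Z).Coprime r := by
    refine Nat.Coprime.symm ((Nat.Prime.coprime_iff_not_dvd hr).2 fun h => hdiv (h.trans ?_))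
    rw [hZ, Matrix.GeneralLinearGroup.center_eq_range_scalar, ← hF, ← Fintype.card_units,
      ← Nat.card_eq_fintype_card]
    exact Subgroup.card_range_dvd _
  have hgr : g ^ r ∈ Z := by
    rw [← QuotientGroup.eq_one_iff, QuotientGroup.mk_pow, ← hx, pow_orderOf_eq_one]
  obtain ⟨d, hd⟩ := (powCoprime hcop).surjective ⟨g ^ r, hgr⟩
  have hd' : (d : GL (Fin n) F) ^ r = g ^ r := by simpa using congrArg Subtype.val hd
  have hcomm : ∀ (z : Z) (y : GL (Fin n) F), Commute y (z : GL (Fin n) F) := fun z y =>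
    Subgroup.mem_center_iff.1 z.2 y
  have hmk : ∀ z : Z, (QuotientGroup.mk (g * z) : GL (Fin n) F ⧸ Z) = QuotientGroup.mk g := fun z =>
    QuotientGroup.mk_mul_of_mem g z.2
  refine ⟨g * ↑(d⁻¹), ⟨hmk _, orderOf_eq_prime ?_ fun h1 => ?_⟩, ?_⟩
  · rw [(hcomm d⁻¹ g).mul_pow, ← hd', ← SubmonoidClass.coe_pow d, ← SubmonoidClass.coe_pow d⁻¹,
      ← Subgroup.coe_mul, inv_pow, mul_inv_cancel, Subgroup.coe_one]
  · rw [← hmk d⁻¹, h1, QuotientGroup.mk_one, orderOf_one] at hx
    exact hr.one_lt.ne hx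
  · rintro g' ⟨hg', hgo⟩
    have hz : g⁻¹ * g' ∈ Z := QuotientGroup.eq.1 hg'.symm
    obtain ⟨z, hz'⟩ : ∃ z : Z, g' = g * z := ⟨⟨_, hz⟩, by simp⟩
    subst hz'
    congr 2
    have h1 := pow_orderOf_eq_one (g * (z : GL (Fin n) F))
    rw [hgo, (hcomm z g).mul_pow, ← hd', ← SubmonoidClass.coe_pow, ← SubmonoidClass.coe_pow,
      ← Subgroup.coe_mul] at h1
    refine (powCoprime hcop).injective ?_
    show z ^ r = d⁻¹ ^ r
    rw [inv_pow, eq_inv_iff_mul_eq_one]
    exact mul_eq_one_comm.1 (Subtype.ext h1)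

end Cfsg.Agent.S2567
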