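import Cfsg.Statements.S2569
import Cfsg.Agent.Lib.KnownC.CentralizerDet

set_option autoImplicit false
open Cfsg

namespace Cfsg.Agent.S2569

/-- In GL_n over a finite field of characteristic p, the conjugacy class of a semisimple element (an element of order prime to p) under the special linear group is its whole GL-conjugacy class: for every such x and every invertible g there is h of determinant one with h x h⁻¹ = g x g⁻¹. -/
theorem result {F : Type*} [Field F] [Fintype F] {p : ℕ} [Fact p.Prime] [CharP F p] {n : ℕ} (x g : GL (Fin n) F) (hx : (orderOf x).Coprime p) : ∃ h : GL (Fin n) F, (h : Matrix (Fin n) (Fin n) F).det = 1 ∧ h * x * h⁻¹ = g * x * g⁻¹ := by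
  classical
  rcases Nat.eq_zero_or_pos n with rfl | hn
  · exact ⟨g, Matrix.det_isEmpty, rfl⟩
  haveI : Nonempty (Fin n) := ⟨⟨0, hn⟩⟩
  have hm : ((orderOf x : ℕ) : F) ≠ 0 := fun h0 => by
    have h1 : p ∣ orderOf x := (CharP.cast_eq_zero_iff F p _).1 h0
    exact (Fact.out : p.Prime).not_dvd_one ((hx.gcd_eq_one) ▸ Nat.dvd_gcd h1 dvd_rfl)
  have hφ : (Matrix.toLin' (x : Matrix (Fin n) (Fin n) F)) ^ orderOf x = 1 := by
    rw [← Matrix.toLin'_pow, ← Units.val_pow_eq_pow_val, pow_orderOf_eq_one, Units.val_one,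
      Matrix.toLin'_one]
    rfl
  obtain ⟨T, hT, hdet⟩ := CfsgLib.KnownC.exists_commute_det
    (Matrix.toLin' (x : Matrix (Fin n) (Fin n) F)) hm hφ (g : Matrix (Fin n) (Fin n) F).det
  have hgdet : (g : Matrix (Fin n) (Fin n) F).det ≠ 0 :=
    ((Matrix.isUnit_iff_isUnit_det _).1 g.isUnit).ne_zero
  have hMdet : (LinearMap.toMatrix' T).det ≠ 0 := by rw [LinearMap.det_toMatrix', hdet]; exact hgdet
  let t : GL (Fin n) F := Matrix.GeneralLinearGroup.mkOfDetNeZero (LinearMap.toMatrix' T) hMdet
  have hc : t * x = x * t := Units.ext (by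
    show LinearMap.toMatrix' T * (x : Matrix (Fin n) (Fin n) F) = (x : Matrix (Fin n) (Fin n) F) * LinearMap.toMatrix' T
    have := congrArg LinearMap.toMatrix' hT
    rwa [LinearMap.toMatrix'_comp, LinearMap.toMatrix'_comp, LinearMap.toMatrix'_toLin'] at this)
  refine ⟨g * t⁻¹, ?_, ?_⟩
  · have h1 : Matrix.GeneralLinearGroup.det t = Matrix.GeneralLinearGroup.det g :=
      Units.ext (show (LinearMap.toMatrix' T).det = _ by rw [LinearMap.det_toMatrix', hdet]; rfl)
    have h2 := congrArg Units.val (show Matrix.GeneralLinearGroup.det (g * t⁻¹) = 1 by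
      rw [map_mul, map_inv, h1, mul_inv_cancel])
    exact h2
  · rw [mul_inv_rev, inv_inv]
    calc g * t⁻¹ * x * (t * g⁻¹) = g * t⁻¹ * (x * t) * g⁻¹ := by group
      _ = _ := by rw [← hc]; group

end Cfsg.Agent.S2569
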