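import Cfsg.Statements.S2574
import Cfsg.Agent.Lib.KnownC.RegularUnipotent

set_option autoImplicit false
open Cfsg

namespace Cfsg.Agent.S2574

/-- A regular unipotent element of the symplectic group has totally isotropic small invariant subspaces: over a finite field, if u ∈ Sp_2m(F) satisfies (u − 1)^(2m) = 0 and rank(u − 1) = 2m − 1, and W is a u-invariant subspace with 2 dim W ≤ 2m, then the alternating form vanishes identically on W. -/
theorem result {F : Type*} [Field F] [Finite F] {m : ℕ} (u : Matrix.symplecticGroup (Fin m) F) (hnil : ((u : Matrix (Fin m ⊕ Fin m) (Fin m ⊕ Fin m) F) - 1) ^ (2 * m) = 0) (hreg : ((u : Matrix (Fin m ⊕ Fin m) (Fin m ⊕ Fin m) F) - 1).rank = 2 * m - 1) (W : Submodule F (Fin m ⊕ Fin m → F)) (hW : ∀ v ∈ W, (u : Matrix (Fin m ⊕ Fin m) (Fin m ⊕ Fin m) F).mulVec v ∈ W) (hdim : 2 * Module.finrank F W ≤ 2 * m) : ∀ v ∈ W, ∀ w ∈ W, Cfsg.sympForm m F v w = 0 := by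
  classical
  set M := (u : Matrix (Fin m ⊕ Fin m) (Fin m ⊕ Fin m) F) with hM
  set M' := ((u⁻¹ : Matrix.symplecticGroup (Fin m) F) : Matrix (Fin m ⊕ Fin m) (Fin m ⊕ Fin m) F)
    with hM'
  have hinv : M' * M = 1 := congrArg Subtype.val (inv_mul_cancel u)
  have hinv' : M * M' = 1 := congrArg Subtype.val (mul_inv_cancel u)
  have hJ : M.transpose * Matrix.J (Fin m) F = Matrix.J (Fin m) F * M' := by
    have h1 : M.transpose * Matrix.J (Fin m) F * M = Matrix.J (Fin m) F := SymplecticGroup.mem_iff'.1 u.2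
    calc M.transpose * Matrix.J (Fin m) F = M.transpose * Matrix.J (Fin m) F * (M * M') := by
          rw [hinv', Matrix.mul_one]
      _ = _ := by rw [← Matrix.mul_assoc, h1]
  set N := M - 1 with hN
  set N' := M' - 1 with hN'
  have hadj : ∀ (k : ℕ) a b, Cfsg.sympForm m F ((N ^ k).mulVec a) b =
      Cfsg.sympForm m F a ((N' ^ k).mulVec b) := by
    have h1 : N.transpose * Matrix.J (Fin m) F = Matrix.J (Fin m) F * N' := by
      rw [hN, hN', Matrix.transpose_sub, Matrix.transpose_one, Matrix.sub_mul, Matrix.mul_sub, hJ,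
        Matrix.one_mul, Matrix.mul_one]
    intro k
    induction k with
    | zero => intro a b; simp
    | succ k ih =>
      intro a b
      rw [pow_succ, ← Matrix.mulVec_mulVec, ih, pow_succ', ← Matrix.mulVec_mulVec]
      show (N.mulVec a) ⬝ᵥ (Matrix.J (Fin m) F).mulVec _ = a ⬝ᵥ (Matrix.J (Fin m) F).mulVec _
      rw [← Matrix.vecMul_transpose, ← Matrix.dotProduct_mulVec, Matrix.mulVec_mulVec, h1,
        ← Matrix.mulVec_mulVec]
  have hcard : Fintype.card (Fin m ⊕ Fin m) = 2 * m := by simp; omega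
  have hr : Fintype.card (Fin m ⊕ Fin m) ≤ N.rank + 1 := by rw [hcard, hN, hM, hreg]; omega
  have hWeq := CfsgLib.KnownC.eq_ker_pow_of_invariant N hr ⟨2 * m, hnil⟩ W fun v hv => by
    rw [hN, Matrix.sub_mulVec, Matrix.one_mulVec]
    exact sub_mem (hW v hv) hv
  set d := Module.finrank F W with hd
  set k := 2 * m - d with hk
  have hmem : ∀ x, x ∈ W ↔ (N ^ d).mulVec x = 0 := fun x => by
    conv_lhs => rw [hWeq]
    rfl
  have hrange : W = LinearMap.range (Matrix.mulVecLin (N ^ k)) := by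
    refine (Submodule.eq_of_le_of_finrank_le ?_ ?_).symm
    · rintro _ ⟨x, rfl⟩
      rw [hmem, Matrix.mulVecLin_apply, Matrix.mulVec_mulVec, ← pow_add,
        show d + k = 2 * m by omega, hnil, Matrix.zero_mulVec]
    · have h1 := (Matrix.mulVecLin (N ^ k)).finrank_range_add_finrank_ker
      rw [Module.finrank_fintype_fun_eq_card, hcard] at h1
      have h2 := CfsgLib.KnownC.finrank_ker_pow_le N hr k
      omega
  intro v hv w hw
  rw [hrange] at hv
  obtain ⟨x, rfl⟩ := hv
  rw [Matrix.mulVecLin_apply, hadj]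
  have hfac : N' = -M' * N := by
    rw [hN, hN', Matrix.mul_sub, Matrix.neg_mul, Matrix.neg_mul, hinv, Matrix.mul_one]; abel
  have hcom : Commute (-M') N := by
    show -M' * N = N * -M'
    rw [hN, Matrix.mul_sub, Matrix.sub_mul, Matrix.neg_mul, Matrix.neg_mul, Matrix.mul_neg, hinv, hinv',
      Matrix.mul_one, Matrix.one_mul]
  rw [hfac, hcom.mul_pow, ← Matrix.mulVec_mulVec,
    show (N ^ k).mulVec w = 0 from by
      rw [show k = (k - d) + d by omega, pow_add, ← Matrix.mulVec_mulVec, (hmem w).1 hw,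
        Matrix.mulVec_zero],
    Matrix.mulVec_zero]
  show x ⬝ᵥ (Matrix.J (Fin m) F).mulVec 0 = 0
  rw [Matrix.mulVec_zero, dotProduct_zero]

end Cfsg.Agent.S2574
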