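import Cfsg.Statements.S2575
import Cfsg.Agent.Lib.KnownC.FiniteFieldSquares

set_option autoImplicit false
open Cfsg

namespace Cfsg.Agent.S2575

/-- Which diagonal involutions of PGL_n(q) lie in PSL_n(q), q odd: for the diagonal matrix t with i entries −1 and n − i entries 1, some non-zero scalar multiple of t has determinant one if and only if i is even or the 2-part of q − 1 exceeds the 2-part of n (that is, −1 is an n-th power in the field exactly in the latter case). -/
theorem result {F : Type*} [Field F] [Fintype F] {q : ℕ} (hF : Fintype.card F = q) (hq : Odd q) {n : ℕ} (hn : 1 ≤ n) (i : ℕ) (hi : i ≤ n) : (∃ c : F, c ≠ 0 ∧ (c • Matrix.diagonal (fun j : Fin n => if (j : ℕ) < i then (-1 : F) else 1)).det = 1) ↔ (Even i ∨ padicValNat 2 n < padicValNat 2 (q - 1)) := by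
  subst hF
  set q := Fintype.card F with hqF
  have h2 : ringChar F ≠ 2 := fun h => by
    have := FiniteField.even_card_of_char_two h
    rw [Nat.odd_iff, ← hqF] at *
    omega
  have hM : q - 1 ≠ 0 := by
    have := Fintype.one_lt_card (α := F)
    omega
  have hdet : ∀ c : F, (c • Matrix.diagonal (fun j : Fin n => if (j : ℕ) < i then (-1 : F) else 1)).det =
      c ^ n * (-1) ^ i := fun c => by
    rw [Matrix.det_smul, Fintype.card_fin, Matrix.det_diagonal, Finset.prod_ite, Finset.prod_const_one,
      mul_one, Finset.prod_const, Fin.card_filter_val_lt, min_eq_right hi]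
  simp only [hdet]
  rw [CfsgLib.KnownC.exists_pow_mul_eq_one_iff (pow_ne_zero _ (neg_ne_zero.2 one_ne_zero)), ← pow_mul,
    neg_one_pow_eq_one_iff_even (Ring.neg_one_ne_one_of_char_ne_two h2), Nat.even_mul]
  refine or_congr Iff.rfl ?_
  set g := Nat.gcd n (q - 1) with hg
  obtain ⟨k, hk⟩ : g ∣ q - 1 := Nat.gcd_dvd_right _ _
  have hg0 : g ≠ 0 := fun h => hM (by rw [hk, h, zero_mul])
  have hk0 : k ≠ 0 := fun h => hM (by rw [hk, h, mul_zero])
  have hv : padicValNat 2 (q - 1) = padicValNat 2 g + padicValNat 2 k := by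
    rw [hk, padicValNat.mul hg0 hk0]
  have hgv : padicValNat 2 g = min (padicValNat 2 n) (padicValNat 2 (q - 1)) :=
    CfsgLib.KnownC.padicValNat_gcd_two (by omega) hM
  rw [show (q - 1) / g = k by rw [hk, Nat.mul_div_cancel_left _ (Nat.pos_of_ne_zero hg0)],
    even_iff_two_dvd, dvd_iff_padicValNat_ne_zero hk0]
  omega

end Cfsg.Agent.S2575
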