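import Cfsg.Statements.S2576
import Cfsg.Agent.Lib.KnownC.FiniteFieldSquares

set_option autoImplicit false
open Cfsg

namespace Cfsg.Agent.S2576

/-- Which involutions of PGL_2m(q) coming from a scalar of the quadratic extension field lie in PSL_2m(q), q odd: let μ generate the Sylow 2-subgroup of the multiplicative group of the field with q elements (μ has order the 2-part of q − 1) and let t be the block-diagonal matrix with m diagonal blocks [[0, 1], [μ, 0]] (so t² is the scalar μ and t is an involution modulo scalars). Then some non-zero scalar multiple of t has determinant one if and only if q ≡ 3 (mod 4) or the 2-part of q − 1 is less than the 2-part of 2m. -/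
theorem result {F : Type*} [Field F] [Fintype F] {q : ℕ} (hF : Fintype.card F = q) (hq : Odd q) {m : ℕ} (hm : 1 ≤ m) (μ : F) (hμ : orderOf μ = 2 ^ padicValNat 2 (q - 1)) : (∃ c : F, c ≠ 0 ∧ (c • Matrix.blockDiagonal (fun _ : Fin m => !![(0 : F), 1; μ, 0])).det = 1) ↔ (q % 4 = 3 ∨ padicValNat 2 (q - 1) < padicValNat 2 (2 * m)) := by
  classical
  subst hF
  set q := Fintype.card F with hqF
  set M := q - 1 with hMdef
  have hq3 : 3 ≤ q := by
    have := Fintype.one_lt_card (α := F)
    rw [Nat.odd_iff, ← hqF] at *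
    omega
  have h2 : ringChar F ≠ 2 := fun h => by
    have := FiniteField.even_card_of_char_two h
    rw [Nat.odd_iff, ← hqF] at *
    omega
  have hne : (-1 : F) ≠ 1 := Ring.neg_one_ne_one_of_char_ne_two h2
  have hM : M ≠ 0 := by omega
  have hMev : 2 ∣ M := by rw [Nat.odd_iff] at hq; omega
  set a := padicValNat 2 M with ha
  have ha1 : 1 ≤ a := by
    have := (dvd_iff_padicValNat_ne_zero (p := 2) hM).1 hMev
    omega
  have hμ0 : μ ≠ 0 := fun h => by
    have h1 := pow_orderOf_eq_one μ
    rw [hμ, h, zero_pow (by positivity)] at h1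
    exact zero_ne_one h1
  have hdet : ∀ c : F, (c • Matrix.blockDiagonal (fun _ : Fin m => !![(0 : F), 1; μ, 0])).det =
      c ^ (2 * m) * (-μ) ^ m := fun c => by
    rw [Matrix.det_smul, Matrix.det_blockDiagonal]
    simp [Matrix.det_fin_two, mul_comm]
  simp only [hdet]
  rw [CfsgLib.KnownC.exists_pow_mul_eq_one_iff (pow_ne_zero _ (neg_ne_zero.2 hμ0)), ← pow_mul]
  set g := Nat.gcd (2 * m) M with hg
  obtain ⟨k, hk⟩ : g ∣ M := Nat.gcd_dvd_right _ _
  have hg0 : g ≠ 0 := fun h => hM (by rw [hk, h, zero_mul])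
  have hk0 : k ≠ 0 := fun h => hM (by rw [hk, h, mul_zero])
  rw [show M / g = k by rw [hk, Nat.mul_div_cancel_left _ (Nat.pos_of_ne_zero hg0)]]
  have hv : a = padicValNat 2 g + padicValNat 2 k := by rw [ha, hk, padicValNat.mul hg0 hk0]
  have hgv : padicValNat 2 g = min (padicValNat 2 (2 * m)) a :=
    CfsgLib.KnownC.padicValNat_gcd_two (by omega) hM
  have h2m : padicValNat 2 (2 * m) = 1 + padicValNat 2 m := by
    rw [padicValNat.mul two_ne_zero (by omega), padicValNat.self (by norm_num)]
  rcases Nat.lt_or_ge a 2 with ha2 | ha2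
  · -- `q ≡ 3 (mod 4)`, so `μ = -1`
    have hq4 : q % 4 = 3 := by
      rw [Nat.odd_iff] at hq
      by_contra h
      have h4 : 2 ^ 2 ∣ M := by
        show 4 ∣ M
        omega
      have := (padicValNat_dvd_iff_le hM).1 h4
      omega
    have hμ1 : μ = -1 := by
      have h1 := pow_orderOf_eq_one μ
      rw [hμ, show a = 1 by omega, pow_one] at h1
      rcases sq_eq_one_iff.1 h1 with h | h
      · exfalso
        rw [h, orderOf_one, show a = 1 by omega] at hμ
        norm_num at hμ
      · exact h
    rw [hμ1, neg_neg, one_pow]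
    exact iff_of_true rfl (Or.inl hq4)
  · have hq4 : q % 4 ≠ 3 := fun h => by
      have h4 : 2 ^ 2 ∣ M := (pow_dvd_pow 2 ha2).trans (pow_padicValNat_dvd)
      have : (4 : ℕ) ∣ M := h4
      omega
    have hord : orderOf (-μ) = 2 ^ a := by
      obtain ⟨b, hb⟩ : ∃ b, a = b + 2 := ⟨a - 2, by omega⟩
      haveI := Fact.mk Nat.prime_two
      have hneg : ∀ t, (-μ) ^ 2 ^ (t + 1) = μ ^ 2 ^ (t + 1) := fun t =>
        Even.neg_pow (by rw [pow_succ]; exact even_two.mul_left _) μ
      rw [hb]
      refine orderOf_eq_prime_pow ?_ ?_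
      · rw [hneg]
        exact pow_ne_one_of_lt_orderOf (by positivity) (by
          rw [hμ, hb]; exact Nat.pow_lt_pow_right (by norm_num) (by omega))
      · rw [hneg, show b + 1 + 1 = a by omega, ← hμ, pow_orderOf_eq_one]
    rw [← orderOf_dvd_iff_pow_eq_one, hord, padicValNat_dvd_iff_le (Nat.mul_ne_zero (by omega) hk0),
      padicValNat.mul (by omega) hk0, or_iff_right hq4]
    omega

end Cfsg.Agent.S2576
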