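import Cfsg.Statements.S2577
import Cfsg.Agent.Lib.KnownC.PGLInvolutions

set_option autoImplicit false
open Cfsg

namespace Cfsg.Agent.S2577

/-- Number of conjugacy classes of involutions in PGL_n(q) for q odd and n ≥ 2: there are ⌊n/2⌋ classes represented by diagonal matrices with i entries −1 (1 ≤ i ≤ n/2) and, when n is even, one more class represented by a block-diagonal matrix of 2 × 2 blocks [[0, 1], [μ, 0]] with μ a non-square (a matrix squaring to a scalar but having no eigenvalue in the field); in all ⌊n/2⌋ + 1 classes if n is even and ⌊n/2⌋ if n is odd. -/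
theorem result {F : Type*} [Field F] [Fintype F] {q : ℕ} (hF : Fintype.card F = q) (hq : Odd q) {n : ℕ} (hn : 2 ≤ n) : Nat.card {C : ConjClasses (GL (Fin n) F ⧸ Subgroup.center (GL (Fin n) F)) // ∃ g : GL (Fin n) F ⧸ Subgroup.center (GL (Fin n) F), ConjClasses.mk g = C ∧ orderOf g = 2} = n / 2 + (if Even n then 1 else 0) := by
  have h2 : (2 : F) ≠ 0 := by
    intro h
    have h' : ((2 : ℕ) : F) = 0 := by exact_mod_cast h
    obtain ⟨p, hp⟩ := CharP.exists F
    have hd := (CharP.cast_eq_zero_iff F p 2).1 h'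
    have hq2 : q % 2 = 1 := Nat.odd_iff.1 hq
    obtain ⟨k, hpp, hk⟩ := FiniteField.card F p
    have : p = 2 := ((Nat.prime_dvd_prime_iff_eq hpp Nat.prime_two).1 hd)
    rw [hF, this] at hk
    rw [hk, Nat.pow_mod] at hq2
    simp [k.ne_zero] at hq2
  exact CfsgLib.KnownC.card_involution_classes_pgl h2 hn

end Cfsg.Agent.S2577
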