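import Cfsg.Statements.S2578
import Cfsg.Agent.Lib.KnownC.RegularUnipotentClasses
import Cfsg.Agent.Lib.KnownC.AutPSLOut

set_option autoImplicit false
open Cfsg

namespace Cfsg.Agent.S2578

/-- Regular unipotent classes of SL_n(q): for n ≥ 2 over the field with q elements, the matrices u of determinant one with (u − 1)^n = 0 and rank(u − 1) = n − 1 form a single GL_n(q)-class which splits into exactly gcd(n, q − 1) conjugacy classes of SL_n(q). -/
theorem result {F : Type*} [Field F] [Fintype F] {q : ℕ} (hF : Fintype.card F = q) {n : ℕ} (hn : 2 ≤ n) : Nat.card {C : ConjClasses (Matrix.SpecialLinearGroup (Fin n) F) // ∃ u : Matrix.SpecialLinearGroup (Fin n) F, ConjClasses.mk u = C ∧ ((u : Matrix (Fin n) (Fin n) F) - 1) ^ n = 0 ∧ ((u : Matrix (Fin n) (Fin n) F) - 1).rank = n - 1} = Nat.gcd n (q - 1) := by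
  classical
  subst hF
  haveI : NeZero n := ⟨by omega⟩
  have hn1 : 1 ≤ n := by omega
  obtain ⟨hN0, hNr⟩ := CfsgLib.KnownC.shiftMat_regular (F := F) hn1
  set N := CfsgLib.KnownC.shiftMat n F with hN
  have hdet0 : (1 + N).det = 1 := by
    rw [Matrix.det_of_upperTriangular fun i j hij => ?_]
    · refine Finset.prod_eq_one fun i _ => ?_
      simp [hN, CfsgLib.KnownC.shiftMat]
    · have h1 : (j : ℕ) < i := hij
      rw [Matrix.add_apply, Matrix.one_apply_ne (fun e => by rw [e] at h1; omega), hN,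
        CfsgLib.KnownC.shiftMat, Matrix.of_apply, if_neg (by omega), add_zero]
  let u0 : Matrix.SpecialLinearGroup (Fin n) F := ⟨1 + N, hdet0⟩
  let P : Matrix.SpecialLinearGroup (Fin n) F → Prop := fun u =>
    ((u : Matrix (Fin n) (Fin n) F) - 1) ^ n = 0 ∧ ((u : Matrix (Fin n) (Fin n) F) - 1).rank = n - 1
  let d : Fˣ → Matrix.GeneralLinearGroup (Fin n) F := fun a => CfsgLib.KnownC.firstDiag a
  have hconj1 : ∀ g : Matrix.GeneralLinearGroup (Fin n) F,
      (CfsgLib.KnownC.slConj g u0 : Matrix (Fin n) (Fin n) F) - 1 = g.1 * N * (g⁻¹).1 := fun g => by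
    rw [CfsgLib.KnownC.slConj_coe]
    show g.1 * (1 + N) * (g⁻¹).1 - 1 = _
    rw [mul_add, mul_one, add_mul, Units.mul_inv, add_sub_cancel_left]
  have hP : ∀ g, P (CfsgLib.KnownC.slConj g u0) := fun g => by
    have hpow : ∀ k : ℕ, (g.1 * N * (g⁻¹).1) ^ k = g.1 * N ^ k * (g⁻¹).1 := fun k => by
      induction k with
      | zero => rw [pow_zero, pow_zero, mul_one, Units.mul_inv]
      | succ k ih =>
        rw [pow_succ, ih, pow_succ]
        simp only [mul_assoc]
        rw [← mul_assoc (g⁻¹).1 g.1, Units.inv_mul, one_mul]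
    refine ⟨?_, ?_⟩
    · rw [hconj1, hpow, hN0, mul_zero, zero_mul]
    · rw [hconj1, Matrix.rank_mul_eq_left_of_isUnit_det _ _ ((Matrix.isUnit_iff_isUnit_det _).1 (g⁻¹).isUnit),
        Matrix.rank_mul_eq_right_of_isUnit_det _ _ ((Matrix.isUnit_iff_isUnit_det _).1 g.isUnit), hNr]
  let S := {C : ConjClasses (Matrix.SpecialLinearGroup (Fin n) F) // ∃ u, ConjClasses.mk u = C ∧
    ((u : Matrix (Fin n) (Fin n) F) - 1) ^ n = 0 ∧ ((u : Matrix (Fin n) (Fin n) F) - 1).rank = n - 1}
  let Φ : Fˣ → S := fun a => ⟨ConjClasses.mk (CfsgLib.KnownC.slConj (d a) u0),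
    _, rfl, (hP (d a)).1, (hP (d a)).2⟩
  -- two conjugates are `SL`-conjugate iff the determinants agree modulo `n`-th powers
  have key : ∀ g h : Matrix.GeneralLinearGroup (Fin n) F,
      IsConj (CfsgLib.KnownC.slConj g u0) (CfsgLib.KnownC.slConj h u0) ↔
        ((Matrix.GeneralLinearGroup.det g)⁻¹ * Matrix.GeneralLinearGroup.det h) ∈
          (powMonoidHom n : Fˣ →* Fˣ).range := by
    intro g h
    constructor
    · intro hc
      obtain ⟨s, hs⟩ := isConj_iff.1 hc
      have h1 : CfsgLib.KnownC.slConj (h⁻¹ * (Matrix.SpecialLinearGroup.toGL s * g)) u0 = u0 := by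
        rw [map_mul, map_mul, MulAut.mul_apply, MulAut.mul_apply, CfsgLib.KnownC.slConj_toGL,
          MulAut.conj_apply, hs, map_inv, MulAut.inv_apply, MulEquiv.symm_apply_apply]
      set z := h⁻¹ * (Matrix.SpecialLinearGroup.toGL s * g) with hz
      have h2 : z.1 * N = N * z.1 := by
        have h3 : z.1 * (1 + N) * (z⁻¹).1 = 1 + N := by
          rw [← CfsgLib.KnownC.slConj_coe z u0, h1]
        have h4 := congrArg (· * z.1) h3
        simp only [mul_assoc, Units.inv_mul, mul_one] at h4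
        rw [mul_add, add_mul, mul_one, one_mul, add_right_inj] at h4
        exact h4
      obtain ⟨c, hc⟩ := CfsgLib.KnownC.det_commutant N hn1 hN0 hNr z.1 h2
      have hcu : c ≠ 0 := fun e => by
        rw [e, zero_pow (by omega)] at hc
        exact ((Matrix.isUnit_iff_isUnit_det _).1 z.isUnit).ne_zero hc
      refine ⟨(Units.mk0 c hcu)⁻¹, ?_⟩
      have h5 : Matrix.GeneralLinearGroup.det z = Units.mk0 c hcu ^ n := Units.ext (by
        rw [Units.val_pow_eq_pow_val]; exact hc)
      rw [powMonoidHom_apply, inv_pow, ← h5, hz, map_mul, map_mul, map_inv,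
        show Matrix.GeneralLinearGroup.det (Matrix.SpecialLinearGroup.toGL s) = 1 from Units.ext s.2,
        one_mul, mul_inv_rev, inv_inv]
    · rintro ⟨c, hc⟩
      rw [powMonoidHom_apply] at hc
      let z := h * (Matrix.GeneralLinearGroup.scalar (Fin n) c)⁻¹ * g⁻¹
      obtain ⟨s, hs⟩ := CfsgLib.KnownC.exists_toGL_of_det_one z (by
        have hsc : Matrix.GeneralLinearGroup.det (Matrix.GeneralLinearGroup.scalar (Fin n) c) = c ^ n :=
          Units.ext (by
            show (Matrix.scalar (Fin n) (c : F)).det = ((c ^ n : Fˣ) : F)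
            simp)
        rw [map_mul, map_mul, map_inv, map_inv, hsc, hc, mul_inv_rev, inv_inv,
          mul_inv_cancel_left, mul_inv_cancel])
      refine isConj_iff.2 ⟨s, ?_⟩
      rw [← MulAut.conj_apply, ← CfsgLib.KnownC.slConj_toGL, hs, ← MulAut.mul_apply, ← map_mul,
        show z * g = h * (Matrix.GeneralLinearGroup.scalar (Fin n) c)⁻¹ by simp [z], map_mul,
        MulAut.mul_apply]
      congr 1
      refine Subtype.ext ?_
      rw [CfsgLib.KnownC.slConj_coe, inv_inv]
      show (Matrix.GeneralLinearGroup.scalar (Fin n) c⁻¹).1 * _ * (Matrix.GeneralLinearGroup.scalar (Fin n) c).1 = _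
      rw [show (Matrix.GeneralLinearGroup.scalar (Fin n) c⁻¹).1 = ((c⁻¹ : Fˣ) : F) • (1 : Matrix (Fin n) (Fin n) F) by
          rw [Matrix.smul_one_eq_diagonal]; rfl,
        show (Matrix.GeneralLinearGroup.scalar (Fin n) c).1 = (c : F) • (1 : Matrix (Fin n) (Fin n) F) by
          rw [Matrix.smul_one_eq_diagonal]; rfl]
      simp [smul_smul]
  have hsurj : Function.Surjective Φ := by
    rintro ⟨C, u, rfl, hu1, hu2⟩
    obtain ⟨g, hg⟩ := CfsgLib.KnownC.exists_conj_regular hn1 N _ hN0 hNr hu1 hu2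
    have hu : u = CfsgLib.KnownC.slConj g u0 := by
      refine Subtype.ext ?_
      have h1 := hconj1 g
      rw [hg, mul_assoc, Units.mul_inv, mul_one] at h1
      exact (sub_left_inj.1 h1).symm
    refine ⟨Matrix.GeneralLinearGroup.det g, Subtype.ext (ConjClasses.mk_eq_mk_iff_isConj.2 ?_)⟩
    rw [hu, key, CfsgLib.KnownC.det_firstDiag, inv_mul_cancel]
    exact one_mem _
  have hfib : ∀ a b, Φ a = Φ b ↔ a⁻¹ * b ∈ (powMonoidHom n : Fˣ →* Fˣ).range := fun a b => by
    rw [Subtype.ext_iff, ConjClasses.mk_eq_mk_iff_isConj, key, CfsgLib.KnownC.det_firstDiag,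
      CfsgLib.KnownC.det_firstDiag]
  let e : Fˣ ⧸ (powMonoidHom n : Fˣ →* Fˣ).range → S :=
    Quotient.lift Φ fun a b h => (hfib a b).2 (QuotientGroup.leftRel_apply.1 h)
  have he : Function.Bijective e := by
    refine ⟨fun x y => ?_, fun C => ?_⟩
    · obtain ⟨a, rfl⟩ := QuotientGroup.mk_surjective x
      obtain ⟨b, rfl⟩ := QuotientGroup.mk_surjective y
      exact fun h => QuotientGroup.eq.2 ((hfib a b).1 h)
    · obtain ⟨a, ha⟩ := hsurj C
      exact ⟨QuotientGroup.mk a, ha⟩
  show Nat.card S = _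
  rw [← Nat.card_eq_of_bijective e he, ← Subgroup.index_eq_card, IsCyclic.index_powMonoidHom_range,
    Nat.card_units, Nat.card_eq_fintype_card, Nat.gcd_comm]

end Cfsg.Agent.S2578
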