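import Cfsg.Statements.S2579
import Mathlib

set_option autoImplicit false
open Cfsg

namespace Cfsg.Agent.S2579

open Matrix in
/-- A transvection is `1 + v φᵀ`. -/
theorem exists_vecMulVec {n : ℕ} {F : Type*} [Field F] (M : Matrix (Fin n) (Fin n) F)
    (h : M.rank = 1) (hsq : M * M = 0) :
    ∃ v φ : Fin n → F, v ≠ 0 ∧ φ ⬝ᵥ v = 0 ∧ φ ≠ 0 ∧ M = vecMulVec v φ := by
  classical
  obtain ⟨⟨v, hvmem⟩, hv0, hvspan⟩ := finrank_eq_one_iff'.1
    (show Module.finrank F (LinearMap.range M.mulVecLin) = 1 from h)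
  have hv : v ≠ 0 := fun e => hv0 (Subtype.ext e)
  choose φ hφ using fun j => hvspan ⟨M *ᵥ Pi.single j 1, LinearMap.mem_range_self M.mulVecLin _⟩
  have hM : M = vecMulVec v φ := Matrix.ext fun i j => by
    have h1 := congrFun (congrArg Subtype.val (hφ j)) i
    simp only [SetLike.mk_smul_mk, mulVec_single_one, Pi.smul_apply, smul_eq_mul] at h1
    rw [vecMulVec_apply, mul_comm]
    exact h1.symm
  have hφ0 : φ ≠ 0 := fun e => by
    rw [hM, e, vecMulVec_zero, Matrix.rank_zero] at h
    exact zero_ne_one h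
  refine ⟨v, φ, hv, ?_, hφ0, hM⟩
  obtain ⟨x, hx⟩ := hvmem
  have h2 : M *ᵥ v = 0 := by
    rw [← hx, mulVecLin_apply, mulVec_mulVec, hsq, zero_mulVec]
  rw [hM, vecMulVec_mulVec, op_smul_eq_smul, smul_eq_zero] at h2
  exact h2.resolve_right hv

open Matrix in
/-- Every transvection of `SL_(k+3)` is conjugate to `x_01(1)`. -/
theorem isConj_standard {k : ℕ} {F : Type*} [Field F] (t : Matrix.SpecialLinearGroup (Fin (k + 3)) F)
    (ht : Cfsg.IsTransvection (t : Matrix (Fin (k + 3)) (Fin (k + 3)) F)) :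
    IsConj t (Matrix.SpecialLinearGroup.transvection (show (0 : Fin (k + 3)) ≠ 1 by simp) 1) := by
  classical
  obtain ⟨v, φ, hv, hφv, hφ0, hM⟩ := exists_vecMulVec _ ht.1 ht.2
  obtain ⟨j, hj⟩ := Function.ne_iff.1 hφ0
  let Φ : (Fin (k + 3) → F) →ₗ[F] F := dotProductEquiv F (Fin (k + 3)) φ
  have hΦ : ∀ x, Φ x = φ ⬝ᵥ x := fun x => rfl
  let w : Fin (k + 3) → F := (φ j)⁻¹ • Pi.single j 1
  have hw : Φ w = 1 := by
    rw [hΦ, dotProduct_smul, dotProduct_single_one, smul_eq_mul, inv_mul_cancel₀]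
    exact hj
  let K := LinearMap.ker Φ
  have hK : Module.finrank F K = k + 2 := by
    have h1 := Φ.finrank_range_add_finrank_ker
    rw [Module.finrank_fin_fun, LinearMap.range_eq_top.2 (fun a => ⟨a • w, by
      rw [map_smul, hw, smul_eq_mul, mul_one]⟩), finrank_top, Module.finrank_self] at h1
    show Module.finrank F (LinearMap.ker Φ) = k + 2
    omega
  let v' : K := ⟨v, hφv⟩
  have hv' : v' ≠ 0 := fun e => hv (congrArg Subtype.val e)
  obtain ⟨U, hU⟩ := Submodule.exists_isCompl (Submodule.span F {v'})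
  have hUd : Module.finrank F U = k + 1 := by
    have h1 := Submodule.finrank_add_eq_of_isCompl hU
    rw [finrank_span_singleton hv', hK] at h1
    omega
  haveI : Module.Free F ↥U := Module.Free.of_divisionRing F U
  let bU := Module.finBasisOfFinrankEq F U hUd
  let f : Fin (k + 3) → (Fin (k + 3) → F) :=
    Fin.cons v (Fin.cons w fun i => (((bU i : U) : K) : Fin (k + 3) → F))
  have hf : ∀ i : Fin (k + 1), f i.succ.succ = (((bU i : U) : K) : Fin (k + 3) → F) := fun i => rfl
  have hspan : ⊤ ≤ Submodule.span F (Set.range f) := by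
    intro x _
    have hx : x - Φ x • w ∈ K := by
      rw [LinearMap.mem_ker, map_sub, map_smul, hw, smul_eq_mul, mul_one, sub_self]
    obtain ⟨a, ha, u, hu, hau⟩ := Submodule.mem_sup.1
      (show (⟨_, hx⟩ : K) ∈ Submodule.span F {v'} ⊔ U by rw [hU.sup_eq_top]; trivial)
    obtain ⟨c, rfl⟩ := Submodule.mem_span_singleton.1 ha
    have hx2 : x = Φ x • w + (c • v + (u : Fin (k + 3) → F)) := by
      have := congrArg Subtype.val hau
      simp only [Submodule.coe_add, Submodule.coe_smul] at this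
      rw [show (v' : Fin (k + 3) → F) = v from rfl] at this
      rw [this]; abel
    rw [hx2]
    refine add_mem (Submodule.smul_mem _ _ (Submodule.subset_span ⟨1, rfl⟩))
      (add_mem (Submodule.smul_mem _ _ (Submodule.subset_span ⟨0, rfl⟩)) ?_)
    have := congrArg (fun z : U => ((z : K) : Fin (k + 3) → F)) (bU.sum_repr ⟨u, hu⟩)
    simp only [Submodule.coe_sum, Submodule.coe_smul] at this
    rw [← this]
    exact Submodule.sum_mem _ fun i _ => Submodule.smul_mem _ _ (Submodule.subset_span ⟨_, hf i⟩)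
  let B : Module.Basis (Fin (k + 3)) F (Fin (k + 3) → F) :=
    basisOfTopLeSpanOfCardEqFinrank f hspan (by rw [Fintype.card_fin, Module.finrank_fin_fun])
  haveI := (Pi.basisFun F (Fin (k + 3))).invertibleToMatrix B
  let G : Matrix (Fin (k + 3)) (Fin (k + 3)) F := (Pi.basisFun F (Fin (k + 3))).toMatrix B
  have hG : ∀ i l, G i l = f l i := fun i l => by
    simp only [G, B, Module.Basis.toMatrix_apply, coe_basisOfTopLeSpanOfCardEqFinrank, Pi.basisFun_repr]
  have hdet : G.det ≠ 0 := (Matrix.isUnit_det_of_invertible G).ne_zero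
  let c : Fin (k + 3) → F := Function.update 1 ⟨2, by omega⟩ G.det⁻¹
  have hc0 : c 0 = 1 := by simp [c, show (0 : Fin (k + 3)) ≠ ⟨2, by omega⟩ by simp [Fin.ext_iff]]
  have hc1 : c 1 = 1 := by
    simp [c, show (1 : Fin (k + 3)) ≠ ⟨2, by omega⟩ by simp [Fin.ext_iff]]
  let g : Matrix.SpecialLinearGroup (Fin (k + 3)) F := ⟨G * diagonal c, by
    rw [det_mul, det_diagonal, Finset.prod_update_of_mem (Finset.mem_univ _)]
    simp [mul_inv_cancel₀ hdet]⟩
  refine (isConj_iff.2 ⟨g, ?_⟩).symm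
  rw [mul_inv_eq_iff_eq_mul]
  refine Subtype.ext ?_
  show (G * diagonal c) * (1 + Matrix.single 0 1 (1 : F)) = t.1 * (G * diagonal c)
  rw [mul_add, mul_one, show t.1 = 1 + vecMulVec v φ from by rw [← hM]; abel, add_mul, one_mul]
  congr 1
  refine Matrix.ext fun i l => ?_
  have hrow : ∀ l, φ ⬝ᵥ f l = if l = 1 then 1 else 0 := fun l => by
    refine Fin.cases ?_ (fun l => ?_) l
    · exact hφv.trans (by simp)
    refine Fin.cases ?_ (fun l => ?_) l
    · exact hw.trans (if_pos Fin.succ_zero_eq_one).symm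
    · rw [hf, if_neg (fun e => Fin.succ_ne_zero l (Fin.succ_injective _ (e.trans Fin.succ_zero_eq_one.symm)))]
      exact LinearMap.mem_ker.1 ((bU l : U) : K).2
  have hl : (vecMulVec v φ * (G * diagonal c)) i l = v i * ((φ ⬝ᵥ f l) * c l) := by
    rw [← mul_assoc, mul_diagonal, mul_apply]
    simp only [vecMulVec_apply, hG, mul_assoc, ← Finset.mul_sum]
    rfl
  rw [hl, hrow]
  by_cases h : l = 1
  · subst h
    rw [Matrix.mul_single_apply_same, mul_diagonal, hG, hc0, hc1]
    simp [f]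
  · rw [Matrix.mul_single_apply_of_ne _ _ _ _ _ h, if_neg h]
    simp

/-- In SL_n(F) with n ≥ 3, over a finite field F, any two transvections (matrices t with t − 1 of rank one and square zero) are conjugate by an element of SL_n(F). -/
theorem result {F : Type*} [Field F] [Finite F] {n : ℕ} (hn : 3 ≤ n) (s t : Matrix.SpecialLinearGroup (Fin n) F) (hs : Cfsg.IsTransvection (s : Matrix (Fin n) (Fin n) F)) (ht : Cfsg.IsTransvection (t : Matrix (Fin n) (Fin n) F)) : IsConj s t := by
  obtain ⟨k, rfl⟩ : ∃ k, n = k + 3 := ⟨n - 3, by omega⟩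
  exact (isConj_standard s hs).trans (isConj_standard t ht).symm

end Cfsg.Agent.S2579
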