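import Cfsg.Statements.S2585
import Mathlib

set_option autoImplicit false
open Cfsg

namespace Cfsg.Agent.S2585

/-- Over a finite field of characteristic two every element of the symplectic group is orthogonal for a suitable quadratic form: for each A in Sp_2m(F) there is a quadratic form Q on F^(2m) whose polar form is the alternating form defining Sp_2m(F) (so Q is non-degenerate) and which A preserves. Equivalently, for m ≥ 1, Sp_2m(F) is the union of the conjugates of its two orthogonal subgroups O⁺_2m(F) and O⁻_2m(F). -/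
theorem result {F : Type*} [Field F] [Fintype F] [CharP F 2] {m : ℕ} (A : Matrix.symplecticGroup (Fin m) F) : ∃ Q : QuadraticForm F (Fin m ⊕ Fin m → F), (∀ u v : Fin m ⊕ Fin m → F, QuadraticMap.polar ⇑Q u v = Cfsg.sympForm m F u v) ∧ ∀ v : Fin m ⊕ Fin m → F, Q ((A : Matrix (Fin m ⊕ Fin m) (Fin m ⊕ Fin m) F).mulVec v) = Q v := by
  classical
  let M : Matrix (Fin m ⊕ Fin m) (Fin m ⊕ Fin m) F := A
  let Q0 : QuadraticForm F (Fin m ⊕ Fin m → F) := ∑ i : Fin m,
    QuadraticMap.linMulLin (LinearMap.proj (R := F) (Sum.inl i)) (LinearMap.proj (R := F) (Sum.inr i))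
  have hQ0 : ∀ v, Q0 v = ∑ i : Fin m, v (Sum.inl i) * v (Sum.inr i) := fun v => by simp [Q0]
  have hpol : ∀ u v : Fin m ⊕ Fin m → F, Q0 (u + v) = Q0 u + Q0 v + Cfsg.sympForm m F u v := fun u v => by
    rw [hQ0, hQ0, hQ0]
    simp only [Cfsg.sympForm, Matrix.J, dotProduct, Matrix.mulVec, Fintype.sum_sum_type,
      Matrix.fromBlocks_apply₁₁, Matrix.fromBlocks_apply₁₂, Matrix.fromBlocks_apply₂₁,
      Matrix.fromBlocks_apply₂₂, Matrix.zero_apply, Matrix.neg_apply, Matrix.one_apply,
      CharTwo.neg_eq, zero_mul, ite_mul, one_mul, Finset.sum_const_zero, zero_add, add_zero,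
      Finset.sum_ite_eq, Finset.mem_univ, if_true, Pi.add_apply, ← Finset.sum_add_distrib]
    exact Finset.sum_congr rfl fun i _ => by ring
  have hform : ∀ u v, Cfsg.sympForm m F (M.mulVec u) (M.mulVec v) = Cfsg.sympForm m F u v := fun u v => by
    have hA : M.transpose * Matrix.J (Fin m) F * M = Matrix.J (Fin m) F := SymplecticGroup.mem_iff'.1 A.2
    show (M.mulVec u) ⬝ᵥ (Matrix.J (Fin m) F).mulVec (M.mulVec v) = _
    rw [← Matrix.vecMul_transpose, ← Matrix.dotProduct_mulVec, Matrix.mulVec_mulVec,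
      Matrix.mulVec_mulVec, hA]
    rfl
  -- the defect of `Q0` is the square of a linear functional
  let D : (Fin m ⊕ Fin m → F) → F := fun v => Q0 (M.mulVec v) + Q0 v
  have hD : ∀ u v, D (u + v) = D u + D v := fun u v => by
    simp only [D, Matrix.mulVec_add, hpol, hform]
    linear_combination CharTwo.add_self_eq_zero (Cfsg.sympForm m F u v)
  have hDsmul : ∀ (c : F) v, D (c • v) = c ^ 2 * D v := fun c v => by
    simp only [D, Matrix.mulVec_smul, QuadraticMap.map_smul, smul_eq_mul]
    ring
  have hs : ∀ a : F, ((frobeniusEquiv F 2).symm a) ^ 2 = a := fun a =>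
    frobeniusEquiv_symm_pow_p F 2 a
  let l0 : (Fin m ⊕ Fin m → F) →ₗ[F] F :=
    { toFun := fun v => (frobeniusEquiv F 2).symm (D v)
      map_add' := fun u v => by rw [hD, map_add]
      map_smul' := fun c v => by
        refine (frobenius_inj F 2) ?_
        simp only [frobenius_def, RingHom.id_apply, smul_eq_mul, mul_pow, hs, hDsmul] }
  let T : (Fin m ⊕ Fin m → F) →ₗ[F] (Fin m ⊕ Fin m → F) := Matrix.toLin' M + LinearMap.id
  have hker : LinearMap.ker T ≤ LinearMap.ker l0 := fun v hv => by
    rw [LinearMap.mem_ker] at hv ⊢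
    simp only [T, LinearMap.add_apply, Matrix.toLin'_apply, LinearMap.id_apply] at hv
    have hfix : M.mulVec v = v := funext fun i => CharTwo.add_eq_zero.1 (congrFun hv i)
    show (frobeniusEquiv F 2).symm (D v) = 0
    simp only [D, hfix, CharTwo.add_self_eq_zero, map_zero]
  obtain ⟨l, hl⟩ : ∃ l : (Fin m ⊕ Fin m → F) →ₗ[F] F, ∀ v, l (T v) = l0 v := by
    let g : LinearMap.range T →ₗ[F] F :=
      ((LinearMap.ker T).liftQ l0 hker).comp T.quotKerEquivRange.symm.toLinearMap
    obtain ⟨l, hl⟩ := LinearMap.exists_extend g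
    refine ⟨l, fun v => ?_⟩
    have h1 := LinearMap.congr_fun hl ⟨T v, LinearMap.mem_range_self T v⟩
    simp only [LinearMap.comp_apply, Submodule.subtype_apply, g] at h1
    rw [h1, LinearEquiv.coe_coe, LinearMap.quotKerEquivRange_symm_apply_image, Submodule.mkQ_apply,
      Submodule.liftQ_apply]
  refine ⟨Q0 + QuadraticMap.linMulLin l l, fun u v => ?_, fun v => ?_⟩
  · simp only [QuadraticMap.polar, QuadraticMap.add_apply, QuadraticMap.linMulLin_apply, hpol, map_add]
    linear_combination CharTwo.add_self_eq_zero (l u * l v)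
  · have h1 : l (M.mulVec v) + l v = l0 v := by
      rw [← hl, ← map_add]; rfl
    have h2 : D v = (l (M.mulVec v) + l v) ^ 2 := by rw [h1]; exact (hs _).symm
    simp only [D] at h2
    simp only [QuadraticMap.add_apply, QuadraticMap.linMulLin_apply]
    linear_combination h2 + (l (M.mulVec v) * l (M.mulVec v) + l (M.mulVec v) * l v - Q0 v) *
      CharTwo.two_eq_zero (R := F)

end Cfsg.Agent.S2585
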