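import Cfsg.Statements.S2586
import Cfsg.Agent.Lib.KnownC.TransposeSimilar

set_option autoImplicit false
open Cfsg

namespace Cfsg.Agent.S2586

/-- Over a finite field, every element of the symplectic group Sp_2m(F) is conjugate by an invertible matrix to its inverse. -/
theorem result {F : Type*} [Field F] [Finite F] {m : ℕ} (A : Matrix.symplecticGroup (Fin m) F) : IsConj (A : Matrix (Fin m ⊕ Fin m) (Fin m ⊕ Fin m) F) ((A⁻¹ : Matrix.symplecticGroup (Fin m) F) : Matrix (Fin m ⊕ Fin m) (Fin m ⊕ Fin m) F) := by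
  set J := Matrix.J (Fin m) F with hJ
  have h1 : (-J) * J = 1 := by rw [Matrix.neg_mul, Matrix.J_squared, neg_neg]
  have h2 : J * (-J) = 1 := by rw [Matrix.mul_neg, Matrix.J_squared, neg_neg]
  refine (CfsgLib.KnownC.isConj_transpose (A : Matrix (Fin m ⊕ Fin m) (Fin m ⊕ Fin m) F)).trans ?_
  refine ⟨⟨-J, J, h1, h2⟩, ?_⟩
  show (-J) * _ = _ * (-J)
  rw [SymplecticGroup.coe_inv, ← hJ, Matrix.mul_assoc _ J (-J), h2, Matrix.mul_one]

end Cfsg.Agent.S2586
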