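import Cfsg.Statements.S2591
import Cfsg.Agent.Lib.KnownC.SympRegular

set_option autoImplicit false
open Cfsg

namespace Cfsg.Agent.S2591

/-- Over a finite field of odd order and for m ≥ 1, the regular unipotent elements of Sp_2m(F) (u − 1 nilpotent of rank 2m − 1, a single Jordan block) form exactly two conjugacy classes of Sp_2m(F) (one class under the similarity group, which splits in two). -/
theorem result {F : Type*} [Field F] [Fintype F] {q : ℕ} (hF : Fintype.card F = q) (hq : Odd q) {m : ℕ} (hm : 1 ≤ m) : Nat.card {C : ConjClasses ↥(Matrix.symplecticGroup (Fin m) F) // ∃ u : Matrix.symplecticGroup (Fin m) F, ConjClasses.mk u = C ∧ ((u : Matrix (Fin m ⊕ Fin m) (Fin m ⊕ Fin m) F) - 1) ^ (2 * m) = 0 ∧ ((u : Matrix (Fin m ⊕ Fin m) (Fin m ⊕ Fin m) F) - 1).rank = 2 * m - 1} = 2 := by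
  have h2 : (2 : F) ≠ 0 := by
    intro h
    have h' : ((2 : ℕ) : F) = 0 := by exact_mod_cast h
    obtain ⟨p, hp⟩ := CharP.exists F
    have hd := (CharP.cast_eq_zero_iff F p 2).1 h'
    have hq2 : q % 2 = 1 := Nat.odd_iff.1 hq
    obtain ⟨k, hpp, hk⟩ := FiniteField.card F p
    have : p = 2 := ((Nat.prime_dvd_prime_iff_eq hpp Nat.prime_two).1 hd)
    rw [hF, this] at hk
    rw [hk, Nat.pow_mod] at hq2
    simp [k.ne_zero] at hq2
  refine (Nat.card_congr (Equiv.subtypeEquivRight fun C => ?_)).trans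
    (CfsgLib.KnownC.card_symp_regular_classes hm h2)
  simp only [CfsgLib.KnownC.isRegNil_symp_iff hm]

end Cfsg.Agent.S2591
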