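import Cfsg.Statements.S2592
import Cfsg.Agent.Lib.KnownC.SympRegular

set_option autoImplicit false
open Cfsg

namespace Cfsg.Agent.S2592

/-- Over a finite field with q elements, q odd, the centraliser in Sp_2m(F) (m ≥ 1) of a regular unipotent element (u − 1 nilpotent of rank 2m − 1) has order 2 q^m. -/
theorem result {F : Type*} [Field F] [Fintype F] {q : ℕ} (hF : Fintype.card F = q) (hq : Odd q) {m : ℕ} (hm : 1 ≤ m) (u : Matrix.symplecticGroup (Fin m) F) (hnil : ((u : Matrix (Fin m ⊕ Fin m) (Fin m ⊕ Fin m) F) - 1) ^ (2 * m) = 0) (hreg : ((u : Matrix (Fin m ⊕ Fin m) (Fin m ⊕ Fin m) F) - 1).rank = 2 * m - 1) : Nat.card ↥(Subgroup.centralizer ({u} : Set ↥(Matrix.symplecticGroup (Fin m) F))) = 2 * q ^ m := by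
  have h2 : (2 : F) ≠ 0 := by
    intro h
    have h' : ((2 : ℕ) : F) = 0 := by exact_mod_cast h
    obtain ⟨p, hp⟩ := CharP.exists F
    have hd := (CharP.cast_eq_zero_iff F p 2).1 h'
    have hq2 : q % 2 = 1 := Nat.odd_iff.1 hq
    obtain ⟨k, hpp, hk⟩ := FiniteField.card F p
    have : p = 2 := ((Nat.prime_dvd_prime_iff_eq hpp Nat.prime_two).1 hd)
    rw [hF, this] at hk
    rw [hk, Nat.pow_mod] at hq2
    simp [k.ne_zero] at hq2
  rw [← hF]
  exact CfsgLib.KnownC.card_symp_regular_centralizer hm h2 u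
    ((CfsgLib.KnownC.isRegNil_symp_iff hm _).2 ⟨hnil, hreg⟩)

end Cfsg.Agent.S2592
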