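import Cfsg.Statements.S2598
import Cfsg.Agent.Lib.Classical.InvTwoForms
import Cfsg.Agent.Lib.Classical.ExcIsoMinusFour
import Cfsg.Agent.Lib.Classical.PSLTwoMaximal
import Cfsg.Agent.Lib.Geom.InvolGraph

set_option autoImplicit false
open Cfsg

namespace Cfsg.Agent.S2598

open QuadraticMap (polar) in
theorem center_trivial {F : Type*} [Field F] [Fintype F] (h2 : (2 : F) = 0) {a b : F}
    (hab : ∀ z₁ z₂ : F, z₁ ^ 2 + a * z₁ * z₂ + b * z₂ ^ 2 = 0 → z₁ = 0 ∧ z₂ = 0)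
    (z : Cfsg.isometryGroup F (⇑(CfsgLib.Classical.qfMinus 1 F a b)))
    (hz : z ∈ Subgroup.center (Cfsg.isometryGroup F (⇑(CfsgLib.Classical.qfMinus 1 F a b)))) : z = 1 := by
  obtain ⟨Q, hQd⟩ : ∃ Q, Q = CfsgLib.Classical.qfMinus 1 F a b := ⟨_, rfl⟩
  have hsep := CfsgLib.Classical.qfMinus_sep (F := F) 1 hab
  rw [← hQd] at hsep
  subst hQd
  obtain ⟨g, hg⟩ : ∃ g, g = CfsgLib.Classical.InvTwo.qIsom (CfsgLib.Classical.qfMinus 1 F a b) z := ⟨_, rfl⟩
  have hgm := hg ▸ CfsgLib.Classical.InvTwo.qIsom_mem z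
  have hfix : ∀ u, CfsgLib.Classical.qfMinus 1 F a b u ≠ 0 → g u = u := by
    intro u hu
    obtain ⟨Q, hQd⟩ : ∃ Q, Q = CfsgLib.Classical.qfMinus 1 F a b := ⟨_, rfl⟩
    rw [← hQd] at hu hgm hsep
    have hu0 : u ≠ 0 := fun h => hu (by rw [h, QuadraticMap.map_zero])
    obtain ⟨x, hx⟩ : ∃ x, polar Q u x = 1 := by
      obtain ⟨y, hy⟩ : ∃ y, polar Q u y ≠ 0 := by
        by_contra hh
        push Not at hh
        exact hu0 (hsep u hh)
      exact ⟨(polar Q u y)⁻¹ • y, by rw [QuadraticMap.polar_smul_right, smul_eq_mul, inv_mul_cancel₀ hy]⟩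
    subst hQd
    have hc := congrArg (fun w => CfsgLib.Classical.InvTwo.qIsom (CfsgLib.Classical.qfMinus 1 F a b) w x)
      (Subgroup.mem_center_iff.1 hz (CfsgLib.KnownC.reflIsom (CfsgLib.Classical.qfMinus 1 F a b) u hu))
    simp only [CfsgLib.Classical.InvTwo.qIsom_mul, LinearEquiv.mul_apply, ← hg] at hc
    rw [CfsgLib.Classical.InvTwo.qIsom_apply _ x, CfsgLib.Classical.InvTwo.qIsom_apply _ (g x),
      CfsgLib.KnownC.reflIsom_mulVec, CfsgLib.KnownC.reflIsom_mulVec, map_sub, map_smul, hx, mul_one,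
      sub_right_inj] at hc
    have h1 : g u = polar (CfsgLib.Classical.qfMinus 1 F a b) u (g x) • u := by
      rw [← smul_smul] at hc
      exact (smul_right_injective _ (inv_ne_zero hu) hc).symm
    have h3 : polar (CfsgLib.Classical.qfMinus 1 F a b) u (g x) ^ 2 = 1 := by
      refine mul_right_cancel₀ hu ?_
      rw [one_mul]
      conv_rhs => rw [← hgm u, h1, CfsgLib.Geom.quad_smul, ← sq]
    have : CharP F 2 := CharTwo.of_one_ne_zero_of_two_eq_zero one_ne_zero h2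
    rw [h1, CharTwo.sq_inj.1 (h3.trans (one_pow 2).symm), one_smul]
  refine CfsgLib.Classical.InvTwo.qIsom_injective (LinearEquiv.ext fun v => ?_)
  rw [CfsgLib.Classical.InvTwo.qIsom_one, ← hg]
  obtain ⟨z1, hz1⟩ : ∃ z1 : (Fin 1 ⊕ Fin 1) ⊕ Fin 2 → F, z1 = Pi.single (Sum.inr 0) 1 := ⟨_, rfl⟩
  have hQz : g z1 = z1 := hfix z1 (by
    rw [CfsgLib.Classical.qfMinus_apply, hz1, Cfsg.quadFormMinus]; simp)
  have hsingle : ∀ k : (Fin 1 ⊕ Fin 1) ⊕ Fin 2, g (Pi.single k 1) = Pi.single k 1 := by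
    intro k
    rcases k with k | k
    · have h := hfix (Pi.single (Sum.inl k) 1 + z1) (by
        rw [CfsgLib.Classical.qfMinus_apply, hz1, Cfsg.quadFormMinus]
        rcases k with i | i <;> simp)
      rw [map_add, hQz] at h
      exact add_right_cancel h
    · fin_cases k
      · simpa [hz1] using hQz
      · refine hfix _ ?_
        rw [CfsgLib.Classical.qfMinus_apply, Cfsg.quadFormMinus]
        intro h0
        have := hab 0 1 (by simpa using h0)
        exact one_ne_zero this.2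
  show g v = v
  conv_lhs => rw [pi_eq_sum_univ' v, map_sum]
  conv_rhs => rw [pi_eq_sum_univ' v]
  simp only [map_smul, hsingle]

/-- The case of `Ω⁻_4(2) ≅ PSL₂(4)`. -/
theorem small_case {F : Type*} [Field F] [Fintype F] (h2 : (2 : F) = 0) (hF : Fintype.card F = 2) {a b : F}
    (hab : ∀ z₁ z₂ : F, z₁ ^ 2 + a * z₁ * z₂ + b * z₂ ^ 2 = 0 → z₁ = 0 ∧ z₂ = 0) :
    Nat.card {C : ConjClasses ↥(Cfsg.Omega F (⇑(CfsgLib.Classical.qfMinus 1 F a b))) //
      ∃ g : ↥(Cfsg.Omega F (⇑(CfsgLib.Classical.qfMinus 1 F a b))), ConjClasses.mk g = C ∧ orderOf g = 2} =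
      (1 + 1) / 2 + (1 + 1 - 1) / 2 := by
  classical
  let _ : Fintype (GaloisField 2 2) := Fintype.ofFinite _
  have hK : Fintype.card (GaloisField 2 2) = 2 ^ 2 := by
    rw [← Nat.card_eq_fintype_card, GaloisField.card 2 2 two_ne_zero]
  obtain ⟨φ⟩ := CfsgLib.Classical.pOmega_minus_four (K := GaloisField 2 2) hF hK a b hab
  have e : Cfsg.quadFormMinus 1 F a b = ⇑(CfsgLib.Classical.qfMinus 1 F a b) :=
    (funext (CfsgLib.Classical.qfMinus_apply 1 a b)).symm
  revert φ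
  rw [e]
  intro φ
  obtain ⟨G, hG⟩ : ∃ G, G = Cfsg.Omega F (⇑(CfsgLib.Classical.qfMinus 1 F a b)) := ⟨_, rfl⟩
  have h60 : Nat.card (Matrix.ProjectiveSpecialLinearGroup (Fin 2) (GaloisField 2 2)) = 60 :=
    CfsgLib.Classical.card_psl_two_four (Or.inl hK)
  have hP : Nat.card (Cfsg.POmega F (⇑(CfsgLib.Classical.qfMinus 1 F a b))) = 60 := by
    rw [Nat.card_congr φ.toEquiv, h60]
  have hO : Nat.card (Cfsg.isometryGroup F (⇑(CfsgLib.Classical.qfMinus 1 F a b))) = 120 := by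
    rw [CfsgLib.Classical.card_isometryGroup_eq _ (CfsgLib.Classical.qfMinus 1 F a b) fun _ => rfl,
      CfsgLib.Classical.card_qfMinus_isoms hab 1, hF]
    rfl
  have hdvd := Subgroup.card_subgroup_dvd_card (Cfsg.Omega F (⇑(CfsgLib.Classical.qfMinus 1 F a b)))
  have hcz : Subgroup.center ↥(Cfsg.Omega F (⇑(CfsgLib.Classical.qfMinus 1 F a b))) = ⊥ := by
    rw [Subgroup.eq_bot_iff_forall]
    intro z hz
    have hm := Subgroup.card_eq_card_quotient_mul_card_subgroup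
      (Subgroup.center ↥(Cfsg.Omega F (⇑(CfsgLib.Classical.qfMinus 1 F a b))))
    change _ = Nat.card (Cfsg.POmega F (⇑(CfsgLib.Classical.qfMinus 1 F a b))) * _ at hm
    rw [hP] at hm
    rw [hO] at hdvd
    have hle := Nat.le_of_dvd (by norm_num) hdvd
    rcases Nat.lt_or_ge (Nat.card ↥(Subgroup.center ↥(Cfsg.Omega F (⇑(CfsgLib.Classical.qfMinus 1 F a b))))) 2 with h | h
    · have h1' : Nat.card ↥(Subgroup.center ↥(Cfsg.Omega F (⇑(CfsgLib.Classical.qfMinus 1 F a b)))) = 1 := by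
        have := Nat.card_pos (α := ↥(Subgroup.center ↥(Cfsg.Omega F (⇑(CfsgLib.Classical.qfMinus 1 F a b)))))
        omega
      have hsub := (Nat.card_eq_one_iff_unique.1 h1').1
      exact congrArg Subtype.val (hsub.elim (⟨z, hz⟩ : Subgroup.center _) 1)
    · have htop : Cfsg.Omega F (⇑(CfsgLib.Classical.qfMinus 1 F a b)) = ⊤ :=
        Subgroup.eq_top_of_card_eq _ (Eq.trans (b := 120) (by omega) hO.symm)
      refine Subtype.ext (center_trivial h2 hab z.1 (Subgroup.mem_center_iff.2 fun w => ?_))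
      exact congrArg Subtype.val (Subgroup.mem_center_iff.1 hz ⟨w, htop ▸ Subgroup.mem_top w⟩)
  obtain ⟨ψ⟩ : Nonempty (↥(Cfsg.Omega F (⇑(CfsgLib.Classical.qfMinus 1 F a b))) ≃*
      Matrix.ProjectiveSpecialLinearGroup (Fin 2) (GaloisField 2 2)) :=
    ⟨((QuotientGroup.quotientBot).symm.trans (QuotientGroup.quotientMulEquivOfEq hcz.symm)).trans φ⟩
  refine Nat.card_eq_one_iff_unique.2 ⟨⟨?_⟩, ?_⟩
  · rintro ⟨_, g, rfl, hg⟩ ⟨_, h, rfl, hh⟩
    refine Subtype.ext (ConjClasses.mk_eq_mk_iff_isConj.2 ?_)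
    have h1 := CfsgLib.Geom.Moebius.isConj_involutions (F := GaloisField 2 2) (x := ψ g) (y := ψ h)
      (by rw [MulEquiv.orderOf_eq]; exact hg) (by rw [MulEquiv.orderOf_eq]; exact hh)
    simpa using MonoidHom.map_isConj ψ.symm.toMonoidHom h1
  · have : Fact (Nat.Prime 2) := ⟨Nat.prime_two⟩
    obtain ⟨g, hg⟩ := exists_prime_orderOf_dvd_card' (G := ↥(Cfsg.Omega F (⇑(CfsgLib.Classical.qfMinus 1 F a b)))) 2
      (by rw [Nat.card_congr ψ.toEquiv, h60]; norm_num)
    exact ⟨⟨ConjClasses.mk g, g, rfl, hg⟩⟩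

/-- Number of conjugacy classes of involutions in Ω⁻_2m(F) (the commutator subgroup of the orthogonal group of an elliptic quadratic form, Σ_(i<m−1) x_i y_i plus an anisotropic binary form) over a finite field F of characteristic two, m ≥ 1: the involutions of Ω are those with s = rank(t − 1) even, one O-class for each even s with 2 ≤ s ≤ m on which v ↦ f(v, tv) is not identically zero and one for each even s with 2 ≤ s < m on which it is zero (f the polar form; in characteristic 2, f(v, tv) = Q(v + tv)), none of which splits in Ω; in all ⌊m/2⌋ + ⌊(m − 1)/2⌋. -/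
theorem result {F : Type*} [Field F] [Fintype F] [CharP F 2] {m : ℕ} (hm : 1 ≤ m) (a b : F) (hab : ∀ z₁ z₂ : F, z₁ ^ 2 + a * z₁ * z₂ + b * z₂ ^ 2 = 0 → z₁ = 0 ∧ z₂ = 0) : Nat.card {C : ConjClasses ↥(Cfsg.Omega F (Cfsg.quadFormMinus (m - 1) F a b)) // ∃ g : ↥(Cfsg.Omega F (Cfsg.quadFormMinus (m - 1) F a b)), ConjClasses.mk g = C ∧ orderOf g = 2} = m / 2 + (m - 1) / 2 := by
  have h2 : (2 : F) = 0 := CharTwo.two_eq_zero
  obtain ⟨n, rfl⟩ : ∃ n, m = n + 1 := ⟨m - 1, by omega⟩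
  have e : Cfsg.quadFormMinus (n + 1 - 1) F a b = ⇑(CfsgLib.Classical.qfMinus n F a b) :=
    (funext (CfsgLib.Classical.qfMinus_apply n a b)).symm
  rw [e]
  by_cases h : Fintype.card F ≠ 2 ∨ n ≠ 1
  · exact (CfsgLib.Classical.InvTwo.card_omega_classes_minus (n := n) h2 hab
      (CfsgLib.Geom.exGen_of_card (h.imp id fun h => by simp; omega))).trans (by simp)
  · push Not at h
    obtain ⟨hF, rfl⟩ := h
    exact small_case h2 hF hab

end Cfsg.Agent.S2598
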