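import Cfsg.Statements.S2599


set_option autoImplicit false
open Cfsg

namespace Cfsg.Agent.S2599

/-- An irreducible invariant subspace of a semisimple isometry is non-degenerate or totally singular: let Q be a quadratic form on F^n (F finite of characteristic p) with non-degenerate polar form f, x an isometry of Q of order prime to p, and U a non-zero x-invariant subspace containing no x-invariant subspace other than 0 and U. Then U meets its f-orthogonal trivially, or Q vanishes on U, or p = 2, U is a line spanned by a non-singular vector and x fixes U pointwise. -/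
theorem result {F : Type*} [Field F] [Fintype F] {p : ℕ} [Fact p.Prime] [CharP F p] {n : ℕ} (Q : QuadraticForm F (Fin n → F)) (hQ : (QuadraticMap.polarBilin Q).Nondegenerate) (x : ↥(Cfsg.isometryGroup F ⇑Q)) (hx : (orderOf x).Coprime p) (U : Submodule F (Fin n → F)) (hU0 : U ≠ ⊥) (hUx : ∀ u ∈ U, ((x : Matrix.GeneralLinearGroup (Fin n) F) : Matrix (Fin n) (Fin n) F).mulVec u ∈ U) (hirr : ∀ W : Submodule F (Fin n → F), W ≤ U → (∀ w ∈ W, ((x : Matrix.GeneralLinearGroup (Fin n) F) : Matrix (Fin n) (Fin n) F).mulVec w ∈ W) → W = ⊥ ∨ W = U) : U ⊓ LinearMap.BilinForm.orthogonal (QuadraticMap.polarBilin Q) U = ⊥ ∨ (∀ u ∈ U, Q u = 0) ∨ (p = 2 ∧ Module.finrank F U = 1 ∧ (∃ u ∈ U, Q u ≠ 0) ∧ ∀ u ∈ U, ((x : Matrix.GeneralLinearGroup (Fin n) F) : Matrix (Fin n) (Fin n) F).mulVec u = u) := by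
  classical
  set A : Matrix (Fin n) (Fin n) F := ((x : GL (Fin n) F) : Matrix (Fin n) (Fin n) F) with hA
  have hx1 : ∀ u, Q (A.mulVec u) = Q u := fun u => x.2 u u
  have hpol : ∀ u v, QuadraticMap.polar Q (A.mulVec u) (A.mulVec v) = QuadraticMap.polar Q u v :=
    fun u v => by simp only [QuadraticMap.polar, ← Matrix.mulVec_add, hx1]
  have hinj : Function.Injective A.mulVec :=
    Matrix.mulVec_injective_of_isUnit (x : GL (Fin n) F).isUnit
  have hsurj : ∀ w ∈ U, ∃ w' ∈ U, A.mulVec w' = w := by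
    have hb : Function.Bijective (fun u : U => (⟨A.mulVec u, hUx u u.2⟩ : U)) :=
      Finite.injective_iff_bijective.1 fun a b h => Subtype.ext (hinj (congrArg Subtype.val h))
    intro w hw
    obtain ⟨u, hu⟩ := hb.2 ⟨w, hw⟩
    exact ⟨u, u.2, congrArg Subtype.val hu⟩
  have hperp : ∀ m, m ∈ LinearMap.BilinForm.orthogonal (QuadraticMap.polarBilin Q) U ↔
      ∀ w ∈ U, QuadraticMap.polar Q w m = 0 := fun m => Iff.rfl
  have hinv : ∀ u ∈ U ⊓ LinearMap.BilinForm.orthogonal (QuadraticMap.polarBilin Q) U,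
      A.mulVec u ∈ U ⊓ LinearMap.BilinForm.orthogonal (QuadraticMap.polarBilin Q) U := by
    intro u hu
    refine ⟨hUx u hu.1, (hperp _).2 fun w hw => ?_⟩
    obtain ⟨w', hw', rfl⟩ := hsurj w hw
    rw [hpol]; exact (hperp u).1 hu.2 w' hw'
  rcases hirr (U ⊓ LinearMap.BilinForm.orthogonal (QuadraticMap.polarBilin Q) U) inf_le_left hinv with
    h | h
  · exact Or.inl h
  have htot : ∀ u ∈ U, ∀ w ∈ U, QuadraticMap.polar Q w u = 0 := fun u hu => by
    have : u ∈ LinearMap.BilinForm.orthogonal (QuadraticMap.polarBilin Q) U := (inf_eq_left.1 h) hu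
    exact (hperp u).1 this
  by_cases hp : p = 2
  swap
  · refine Or.inr (Or.inl fun u hu => ?_)
    have h2 : (2 : F) ≠ 0 := by
      intro h2
      have hd : p ∣ 2 := (CharP.cast_eq_zero_iff F p 2).1 (by exact_mod_cast h2)
      exact hp (((Nat.prime_dvd_prime_iff_eq Fact.out Nat.prime_two).1 hd))
    have := htot u hu u hu
    rw [QuadraticMap.polar_self] at this
    replace this : (2 : F) * Q u = 0 := by rw [two_mul, ← two_nsmul]; exact this
    exact (mul_eq_zero.1 this).resolve_left h2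
  subst hp
  have hadd : ∀ u ∈ U, ∀ w ∈ U, Q (u + w) = Q u + Q w := fun u hu w hw => by
    have := htot w hw u hu
    rw [QuadraticMap.polar] at this
    linear_combination this
  let W : Submodule F (Fin n → F) :=
    { carrier := {u | u ∈ U ∧ Q u = 0}
      add_mem' := fun {a b} ha hb => ⟨U.add_mem ha.1 hb.1, by rw [hadd a ha.1 b hb.1, ha.2, hb.2, add_zero]⟩
      zero_mem' := ⟨U.zero_mem, QuadraticMap.map_zero Q⟩
      smul_mem' := fun c a ha => ⟨U.smul_mem c ha.1, by rw [QuadraticMap.map_smul, ha.2, smul_zero]⟩ }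
  rcases hirr W (fun u hu => hu.1) (fun u hu => ⟨hUx u hu.1, by rw [hx1]; exact hu.2⟩) with hW | hW
  swap
  · refine Or.inr (Or.inl fun u hu => ?_)
    rw [← hW] at hu
    exact hu.2
  have hne : ∀ u ∈ U, u ≠ 0 → Q u ≠ 0 := fun u hu hu0 hQu => hu0 (by
    have : u ∈ W := ⟨hu, hQu⟩
    rwa [hW, Submodule.mem_bot] at this)
  obtain ⟨u₀, hu₀, hu₀0⟩ := U.exists_mem_ne_zero_of_ne_bot hU0
  have hline : ∀ u ∈ U, ∃ c : F, u = c • u₀ := by
    intro u hu
    obtain ⟨c, hc⟩ : IsSquare (Q u / Q u₀) :=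
      FiniteField.isSquare_of_char_two (ringChar.eq F 2) _
    refine ⟨c, ?_⟩
    by_contra hne'
    refine hne (u - c • u₀) (U.sub_mem hu (U.smul_mem _ hu₀)) (sub_ne_zero.2 hne') ?_
    have h0 := hne u₀ hu₀ hu₀0
    have e : u - c • u₀ = u + c • u₀ := by
      rw [sub_eq_add_neg, ← neg_smul, CharTwo.neg_eq]
    rw [e, hadd u hu _ (U.smul_mem _ hu₀), QuadraticMap.map_smul, smul_eq_mul, ← hc,
      div_mul_cancel₀ _ h0, CharTwo.add_self_eq_zero]
  refine Or.inr (Or.inr ⟨rfl, ?_, ⟨u₀, hu₀, hne u₀ hu₀ hu₀0⟩, fun u hu => ?_⟩)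
  · have hU : U = Submodule.span F {u₀} := le_antisymm (fun u hu => by
      obtain ⟨c, rfl⟩ := hline u hu
      exact Submodule.smul_mem _ _ (Submodule.mem_span_singleton_self _))
      ((Submodule.span_singleton_le_iff_mem _ _).2 hu₀)
    rw [hU]
    exact finrank_span_singleton hu₀0
  · obtain ⟨d, hd⟩ := hline _ (hUx u₀ hu₀)
    have h0 := hne u₀ hu₀ hu₀0
    have h1 := hx1 u₀
    rw [hd, QuadraticMap.map_smul, smul_eq_mul] at h1
    have h2 : (d + 1) * (d + 1) = 0 := by
      have h3 : d * d = 1 := mul_right_cancel₀ h0 (by rw [h1, one_mul])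
      rw [CharTwo.add_mul_self, h3, mul_one, CharTwo.add_self_eq_zero]
    have hd1 : d = 1 := by
      have := mul_self_eq_zero.1 h2
      rwa [CharTwo.add_eq_zero] at this
    obtain ⟨c, rfl⟩ := hline u hu
    rw [Matrix.mulVec_smul, hd, hd1, one_smul]

end Cfsg.Agent.S2599
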