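import Cfsg.Statements.S2601
import Cfsg.Agent.Lib.KnownC.AutPSLOut

set_option autoImplicit false
open Cfsg

namespace Cfsg.Agent.S2601

/-- Structure of the outer automorphism group of PSL_n(q), n ≥ 3, q = p^f: it has a normal cyclic subgroup of order gcd(n, q − 1) (the diagonal automorphisms) whose quotient is the direct product of a cyclic group of order f (field automorphisms) and a group of order 2 (the inverse-transpose graph automorphism). -/
theorem result {F : Type*} [Field F] [Fintype F] {p f n : ℕ} [Fact p.Prime] (hf : 1 ≤ f) (hF : Fintype.card F = p ^ f) (hn : 3 ≤ n) : ∃ φ : Cfsg.Out (Matrix.ProjectiveSpecialLinearGroup (Fin n) F) →* Multiplicative (ZMod f × ZMod 2), Function.Surjective φ ∧ IsCyclic φ.ker ∧ Nat.card φ.ker = Nat.gcd n (p ^ f - 1) := by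
  haveI : NeZero n := ⟨by omega⟩
  obtain ⟨-, ⟨e⟩⟩ := CfsgLib.KnownC.exists_zmod_mulEquiv_ringAut hF
  obtain ⟨φ, h1, h2, h3⟩ := CfsgLib.KnownC.exists_out_hom (n := n) (F := F) (by omega)
    (fun σ a => Multiplicative.ofAdd ((e.symm σ).toAdd, (a : ZMod 2)))
    (fun σ a b _ h => congrArg Multiplicative.ofAdd (Prod.ext rfl h))
    (fun σ τ a b => by rw [map_mul, toAdd_mul, Nat.cast_add, ← ofAdd_add]; rfl)
    (fun σ a _ h => by
      have h' := congrArg Multiplicative.toAdd h
      simp only [toAdd_ofAdd, toAdd_one, Prod.mk_eq_zero] at h'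
      refine ⟨?_, h'.2⟩
      have : e.symm σ = 1 := Multiplicative.toAdd.injective (h'.1.trans toAdd_one.symm)
      exact (MulEquiv.map_eq_one_iff e.symm).1 this)
    (fun m => ⟨e (Multiplicative.ofAdd m.toAdd.1), m.toAdd.2.val, fun h => absurd h (by omega), by
      rw [MulEquiv.symm_apply_apply, toAdd_ofAdd, ZMod.natCast_rightInverse]
      rfl⟩)
  rw [Nat.card_eq_fintype_card (α := F), hF] at h3
  exact ⟨φ, h1, h2, h3⟩

end Cfsg.Agent.S2601
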