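import Cfsg.Statements.S2617
import Mathlib

set_option autoImplicit false
open Cfsg

namespace Cfsg.Agent.S2617

/-- The two standard quadratic forms of even dimension 2m over a finite field are not isometric: there is no linear isomorphism carrying the elliptic form Σ_(i<m−1) x_i y_i + z₁² + z₁z₂ + ζ z₂² (t² + t + ζ without roots) to the hyperbolic form Σ_(i<m) x_i y_i (they have different Witt index). -/
theorem result {F : Type*} [Field F] [Finite F] {m : ℕ} (hm : 1 ≤ m) (ζ : F) (hζ : ∀ t : F, t ^ 2 + t + ζ ≠ 0) (g : (Fin m ⊕ Fin m → F) ≃ₗ[F] ((Fin (m - 1) ⊕ Fin (m - 1)) ⊕ Fin 2 → F)) : ¬ (∀ v : Fin m ⊕ Fin m → F, Cfsg.quadFormMinus (m - 1) F 1 ζ (g v) = Cfsg.quadFormPlus m F v) := by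
  classical
  intro hg
  obtain ⟨k, rfl⟩ : ∃ k, m = k + 1 := ⟨m - 1, by omega⟩
  change (Fin (k + 1) ⊕ Fin (k + 1) → F) ≃ₗ[F] ((Fin k ⊕ Fin k) ⊕ Fin 2 → F) at g
  let W0 : Submodule F (Fin (k + 1) ⊕ Fin (k + 1) → F) :=
    LinearMap.range (LinearMap.funLeft F F (Sum.elim (fun i => some i) fun _ => none) ∘ₗ
      ({ toFun := fun y => fun o : Option (Fin (k + 1)) => o.elim 0 y
         map_add' := fun a b => funext fun o => by cases o <;> simp
         map_smul' := fun a b => funext fun o => by cases o <;> simp } :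
        (Fin (k + 1) → F) →ₗ[F] (Option (Fin (k + 1)) → F)))
  have hW0 : ∀ v ∈ W0, Cfsg.quadFormPlus (k + 1) F v = 0 := by
    rintro _ ⟨y, rfl⟩
    simp [Cfsg.quadFormPlus, LinearMap.funLeft_apply]
  have hdim0 : Module.finrank F W0 = k + 1 := by
    rw [LinearMap.finrank_range_of_inj, Module.finrank_fin_fun]
    intro y y' h
    funext i
    simpa [LinearMap.funLeft_apply] using congrFun h (Sum.inl i)
  let W : Submodule F ((Fin k ⊕ Fin k) ⊕ Fin 2 → F) := W0.map g.toLinearMap
  have hW : ∀ v ∈ W, Cfsg.quadFormMinus k F 1 ζ v = 0 := by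
    rintro _ ⟨v, hv, rfl⟩
    exact (hg v).trans (hW0 v hv)
  have hdim : Module.finrank F W = k + 1 :=
    ((Submodule.equivMapOfInjective _ g.injective W0).finrank_eq.symm).trans hdim0
  let π : W →ₗ[F] (Fin k → F) :=
    (LinearMap.funLeft F F fun i => Sum.inl (Sum.inr i)) ∘ₗ W.subtype
  let ρ : LinearMap.ker π →ₗ[F] (Fin k → F) :=
    (LinearMap.funLeft F F fun i => Sum.inl (Sum.inl i)) ∘ₗ W.subtype ∘ₗ (LinearMap.ker π).subtype
  have hz : ∀ w : LinearMap.ker π, ((w : W) : (Fin k ⊕ Fin k) ⊕ Fin 2 → F) (Sum.inr 0) = 0 ∧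
      ((w : W) : (Fin k ⊕ Fin k) ⊕ Fin 2 → F) (Sum.inr 1) = 0 := by
    intro w
    have h1 := hW _ (w : W).2
    have h2 : ∀ i, ((w : W) : (Fin k ⊕ Fin k) ⊕ Fin 2 → F) (Sum.inl (Sum.inr i)) = 0 := fun i =>
      congrFun (LinearMap.mem_ker.1 w.2) i
    simp only [Cfsg.quadFormMinus, Cfsg.quadFormPlus, Function.comp_apply, h2, mul_zero,
      Finset.sum_const_zero, zero_add] at h1
    set z1 := ((w : W) : (Fin k ⊕ Fin k) ⊕ Fin 2 → F) (Sum.inr 0)
    set z2 := ((w : W) : (Fin k ⊕ Fin k) ⊕ Fin 2 → F) (Sum.inr 1)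
    by_cases hz2 : z2 = 0
    · refine ⟨?_, hz2⟩
      rw [hz2] at h1
      exact pow_eq_zero_iff (two_ne_zero) |>.1 (by linear_combination h1)
    · exfalso
      refine hζ (z1 / z2) ?_
      field_simp
      linear_combination h1
  have hρinj : Function.Injective ρ := by
    rw [injective_iff_map_eq_zero]
    intro w hw
    refine Subtype.ext (Subtype.ext (funext fun j => ?_))
    rcases j with (i | i) | i
    · exact congrFun hw i
    · exact congrFun (LinearMap.mem_ker.1 w.2) i
    · fin_cases i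
      · exact (hz w).1
      · exact (hz w).2
  let Φ : (Fin k → F) →ₗ[F] Module.Dual F (Fin k → F) := (dotProductEquiv F (Fin k)).toLinearMap
  have hperp : (LinearMap.range ρ).map Φ ≤ (LinearMap.range π).dualAnnihilator := by
    rintro _ ⟨_, ⟨w, rfl⟩, rfl⟩
    rw [Submodule.mem_dualAnnihilator]
    rintro _ ⟨w', rfl⟩
    have h1 := hW _ ((w : W) + w').2
    have h2 := hW _ (w : W).2
    have h3 := hW _ w'.2
    have h4 : ∀ i, ((w : W) : (Fin k ⊕ Fin k) ⊕ Fin 2 → F) (Sum.inl (Sum.inr i)) = 0 := fun i =>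
      congrFun (LinearMap.mem_ker.1 w.2) i
    simp only [Cfsg.quadFormMinus, Cfsg.quadFormPlus, Submodule.coe_add, Function.comp_apply,
      Pi.add_apply, h4, (hz w).1, (hz w).2, zero_add, mul_zero, Finset.sum_const_zero, add_mul,
      Finset.sum_add_distrib] at h1 h2 h3
    show ρ w ⬝ᵥ π w' = 0
    simp only [dotProduct, ρ, π, LinearMap.comp_apply, LinearMap.funLeft_apply, Submodule.subtype_apply]
    linear_combination h1 - h3
  have e1 : Module.finrank F ((LinearMap.range ρ).map Φ) = Module.finrank F (LinearMap.ker π) := by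
    rw [← (Submodule.equivMapOfInjective Φ (dotProductEquiv F (Fin k)).injective _).finrank_eq,
      LinearMap.finrank_range_of_inj hρinj]
  have e2 := Submodule.finrank_mono hperp
  have e3 := Subspace.finrank_add_finrank_dualAnnihilator_eq (LinearMap.range π)
  have e4 := π.finrank_range_add_finrank_ker
  rw [Module.finrank_fin_fun] at e3
  omega

end Cfsg.Agent.S2617
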