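import Cfsg.Statements.S2620
import Cfsg.Agent.Lib.KnownC.FiniteFieldSquares

set_option autoImplicit false
open Cfsg

namespace Cfsg.Agent.S2620

/-- Discriminant of the hyperbolic quadratic form Σ_(i<m) x_i y_i over a field with q elements, q odd, m ≥ 1: the determinant of the Gram matrix of its polar form in any basis is a square if and only if m(q − 1)/2 is even (equivalently q^m ≡ 1 (mod 4)). -/
theorem result {F : Type*} [Field F] [Fintype F] {q : ℕ} (hF : Fintype.card F = q) (hq : Odd q) {m : ℕ} (hm : 1 ≤ m) {ι : Type*} [Fintype ι] [DecidableEq ι] (b : Module.Basis ι F (Fin m ⊕ Fin m → F)) : IsSquare (Matrix.of (fun i j : ι => QuadraticMap.polar (Cfsg.quadFormPlus m F) (b i) (b j))).det ↔ Even (m * (q - 1) / 2) := by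
  subst hF
  have h2 : ringChar F ≠ 2 := fun h => by
    have := FiniteField.even_card_of_char_two h
    rw [Nat.odd_iff] at hq
    omega
  let G : Matrix (Fin m ⊕ Fin m) (Fin m ⊕ Fin m) F := Matrix.fromBlocks 0 1 1 0
  have hpol : ∀ u v : Fin m ⊕ Fin m → F,
      QuadraticMap.polar (Cfsg.quadFormPlus m F) u v = u ⬝ᵥ G.mulVec v := fun u v => by
    simp only [QuadraticMap.polar, Cfsg.quadFormPlus, G, Matrix.fromBlocks_mulVec, dotProduct,
      Fintype.sum_sum_type, Sum.elim_inl, Sum.elim_inr, Matrix.zero_mulVec, Matrix.one_mulVec,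
      zero_add, add_zero, Function.comp_apply, Pi.add_apply, ← Finset.sum_add_distrib,
      ← Finset.sum_sub_distrib]
    exact Finset.sum_congr rfl fun i _ => by ring
  simp only [hpol]
  rw [CfsgLib.KnownC.isSquare_gram_det_iff G b, CfsgLib.KnownC.det_swapBlocks,
    CfsgLib.KnownC.isSquare_neg_one_pow_iff h2]
  rw [show Fintype.card F / 2 = (Fintype.card F - 1) / 2 by rw [Nat.odd_iff] at hq; omega,
    Nat.mul_div_assoc m (show 2 ∣ Fintype.card F - 1 by rw [Nat.odd_iff] at hq; omega)]

end Cfsg.Agent.S2620
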