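import Cfsg.Statements.S2621
import Cfsg.Agent.Lib.KnownC.FiniteFieldSquares

set_option autoImplicit false
open Cfsg

namespace Cfsg.Agent.S2621

/-- Discriminant of an elliptic quadratic form Σ_(i<m−1) x_i y_i + z₁² + a z₁z₂ + c z₂² (binary part anisotropic) in dimension 2m over a field with q elements, q odd, m ≥ 1: the determinant of the Gram matrix of its polar form in any basis is a square if and only if m(q − 1)/2 is odd (equivalently q^m ≡ 3 (mod 4)). -/
theorem result {F : Type*} [Field F] [Fintype F] {q : ℕ} (hF : Fintype.card F = q) (hq : Odd q) {m : ℕ} (hm : 1 ≤ m) (a c : F) (hac : ∀ z₁ z₂ : F, z₁ ^ 2 + a * z₁ * z₂ + c * z₂ ^ 2 = 0 → z₁ = 0 ∧ z₂ = 0) {ι : Type*} [Fintype ι] [DecidableEq ι] (b : Module.Basis ι F ((Fin (m - 1) ⊕ Fin (m - 1)) ⊕ Fin 2 → F)) : IsSquare (Matrix.of (fun i j : ι => QuadraticMap.polar (Cfsg.quadFormMinus (m - 1) F a c) (b i) (b j))).det ↔ ¬ Even (m * (q - 1) / 2) := by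
  subst hF
  obtain ⟨k, rfl⟩ : ∃ k, m = k + 1 := ⟨m - 1, by omega⟩
  change Module.Basis ι F ((Fin k ⊕ Fin k) ⊕ Fin 2 → F) at b
  show IsSquare (Matrix.of (fun i j : ι => QuadraticMap.polar (Cfsg.quadFormMinus k F a c) (b i) (b j))).det ↔ _
  have h2 : ringChar F ≠ 2 := fun h => by
    have := FiniteField.even_card_of_char_two h
    rw [Nat.odd_iff] at hq
    omega
  have htwo : (2 : F) ≠ 0 := Ring.two_ne_zero h2
  let G : Matrix ((Fin k ⊕ Fin k) ⊕ Fin 2) ((Fin k ⊕ Fin k) ⊕ Fin 2) F :=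
    Matrix.fromBlocks (Matrix.fromBlocks 0 1 1 0) 0 0 !![2, a; a, 2 * c]
  have hpol : ∀ u v : (Fin k ⊕ Fin k) ⊕ Fin 2 → F,
      QuadraticMap.polar (Cfsg.quadFormMinus k F a c) u v = u ⬝ᵥ G.mulVec v := fun u v => by
    have hGv : G.mulVec v = Sum.elim (Sum.elim (fun i => v (Sum.inl (Sum.inr i))) fun i => v (Sum.inl (Sum.inl i)))
        ![2 * v (Sum.inr 0) + a * v (Sum.inr 1), a * v (Sum.inr 0) + 2 * c * v (Sum.inr 1)] := by
      funext j
      rcases j with (i | i) | i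
      · simp [G, Matrix.fromBlocks_mulVec]
      · simp [G, Matrix.fromBlocks_mulVec]
      · fin_cases i <;> simp [G, Matrix.fromBlocks_mulVec, Matrix.mulVec, dotProduct, Fin.sum_univ_two]
    rw [hGv]
    simp only [QuadraticMap.polar, Cfsg.quadFormMinus, Cfsg.quadFormPlus, dotProduct, Fintype.sum_sum_type,
      Sum.elim_inl, Sum.elim_inr, Function.comp_apply, Pi.add_apply, Fin.sum_univ_two, Matrix.cons_val_zero,
      Matrix.cons_val_one, Matrix.cons_val_fin_one, mul_add, add_mul, Finset.sum_add_distrib]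
    simp only [mul_comm (v _) (u _)]
    ring
  simp only [hpol]
  rw [CfsgLib.KnownC.isSquare_gram_det_iff G b, Matrix.det_fromBlocks_zero₂₁,
    CfsgLib.KnownC.det_swapBlocks, Matrix.det_fin_two]
  simp only [Matrix.of_apply, Matrix.cons_val', Matrix.cons_val_zero, Matrix.cons_val_one,
    Matrix.cons_val_fin_one]
  rw [show (-1 : F) ^ k * (2 * (2 * c) - a * a) = (-1) ^ (k + 1) * (a * a - 4 * c) by ring]
  set Δ := a * a - 4 * c with hΔ
  have hns : ¬ IsSquare Δ := fun ⟨r, hr⟩ => by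
    have hr' : r * r = a * a - 4 * c := hr.symm
    have key : ((r - a) / 2) ^ 2 + a * ((r - a) / 2) * 1 + c * 1 ^ 2 = 0 := by
      field_simp
      linear_combination hr'
    exact one_ne_zero (hac _ 1 key).2
  have hΔ0 : Δ ≠ 0 := fun h => hns (h ▸ ⟨0, (mul_zero 0).symm⟩)
  have hn1 : ((-1 : F) ^ (k + 1)) ≠ 0 := pow_ne_zero _ (neg_ne_zero.2 one_ne_zero)
  have hqq : (Fintype.card F - 1) / 2 = Fintype.card F / 2 := by rw [Nat.odd_iff] at hq; omega
  rw [Nat.mul_div_assoc _ (show 2 ∣ Fintype.card F - 1 by rw [Nat.odd_iff] at hq; omega), hqq,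
    ← CfsgLib.KnownC.isSquare_neg_one_pow_iff h2]
  have hne : (-1 : F) ≠ 1 := Ring.neg_one_ne_one_of_char_ne_two h2
  rw [FiniteField.isSquare_iff h2 (mul_ne_zero hn1 hΔ0), FiniteField.isSquare_iff h2 hn1, mul_pow]
  have hΔp : Δ ^ (Fintype.card F / 2) = -1 :=
    (FiniteField.pow_dichotomy h2 hΔ0).resolve_left fun h =>
      hns ((FiniteField.isSquare_iff h2 hΔ0).2 h)
  rw [hΔp]
  rcases FiniteField.pow_dichotomy h2 hn1 with h | h <;> rw [h]
  · simp [hne]
  · simp [hne]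

end Cfsg.Agent.S2621
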