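import Cfsg.Statements.S2622


set_option autoImplicit false
open Cfsg

namespace Cfsg.Agent.S2622

universe u v

theorem orthonormal_aux {F : Type u} [Field F] [Finite F] [CharP F 2] :
    ∀ (n : ℕ) (V : Type v) [AddCommGroup V] [Module F V] [FiniteDimensional F V]
      (B : LinearMap.BilinForm F V), Module.finrank F V = n → (∀ x y, B x y = B y x) →
      (∀ x, (∀ y, B x y = 0) → x = 0) → (n = 0 ∨ ∃ x, B x x ≠ 0) →
      ∃ b : Module.Basis (Fin n) F V, ∀ i j, B (b i) (b j) = if i = j then 1 else 0 := by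
  intro n
  induction n with
  | zero =>
    intro V _ _ _ B hV _ _ _
    exact ⟨(Module.finBasisOfFinrankEq F V hV), fun i => i.elim0⟩
  | succ n ih =>
    intro V _ _ _ B hV hS hB hna
    obtain ⟨x, hx⟩ := hna.resolve_left (by omega)
    obtain ⟨c, hc⟩ : IsSquare (B x x) := FiniteField.isSquare_of_char_two (ringChar.eq F 2) _
    have hc0 : c ≠ 0 := fun h => hx (by simp [hc, h])
    obtain ⟨v₁, hv₁⟩ : ∃ v, B v v = 1 := ⟨c⁻¹ • x, by
      simp only [map_smul, LinearMap.smul_apply, smul_eq_mul, hc]
      field_simp⟩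
    obtain ⟨v, hv, hgood⟩ : ∃ v, B v v = 1 ∧
        (n = 0 ∨ ∃ w, B v w = 0 ∧ B w w ≠ 0) := by
      by_cases h1 : n = 0 ∨ ∃ w, B v₁ w = 0 ∧ B w w ≠ 0
      · exact ⟨v₁, hv₁, h1⟩
      push Not at h1
      obtain ⟨hn, halt⟩ := h1
      have hker : Module.finrank F (LinearMap.ker (B v₁)) ≠ 0 := by
        have h := LinearMap.finrank_range_add_finrank_ker (B v₁)
        have : Module.finrank F (LinearMap.range (B v₁)) ≤ 1 :=
          le_trans (Submodule.finrank_le _) (le_of_eq (Module.finrank_self F))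
        omega
      obtain ⟨w₁, hw₁, hw₁0⟩ := Submodule.exists_mem_ne_zero_of_ne_bot
        (p := LinearMap.ker (B v₁)) (fun h => hker (by rw [h, finrank_bot]))
      rw [LinearMap.mem_ker] at hw₁
      obtain ⟨y, hy⟩ : ∃ y, B w₁ y ≠ 0 := by
        by_contra h; push Not at h; exact hw₁0 (hB _ h)
      set w₂ := y - B v₁ y • v₁ with hw₂
      have hw₂v : B v₁ w₂ = 0 := by simp [hw₂, hv₁]
      have hw12 : B w₁ w₂ ≠ 0 := by
        simpa [hw₂, hS w₁ v₁, hw₁] using hy
      set w₃ := (B w₁ w₂)⁻¹ • w₂ with hw₃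
      have h3v : B v₁ w₃ = 0 := by simp [hw₃, hw₂v]
      have h13 : B w₁ w₃ = 1 := by simp [hw₃, inv_mul_cancel₀ hw12]
      refine ⟨v₁ + w₁, ?_, Or.inr ⟨w₃ + v₁, ?_, ?_⟩⟩
      · simp [hv₁, hw₁, hS w₁ v₁, halt w₁ hw₁]
      · simp [hv₁, h3v, hS w₁ v₁, hw₁, h13, CharTwo.add_self_eq_zero]
      · simp [halt w₃ h3v, hS w₃ v₁, h3v, hv₁]
    let W : Submodule F V := LinearMap.ker (B v)
    have hW : Module.finrank F W = n := by
      have h := LinearMap.finrank_range_add_finrank_ker (B v)
      have hr : LinearMap.range (B v) = ⊤ := LinearMap.range_eq_top.2 fun t => ⟨t • v, by simp [hv]⟩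
      rw [hr, finrank_top, Module.finrank_self] at h
      show Module.finrank F (LinearMap.ker (B v)) = n
      omega
    obtain ⟨b, hb⟩ := ih W (B.restrict W) hW (fun p r => hS _ _) (fun w hw => by
        refine Subtype.ext (hB _ fun y => ?_)
        have hwv : B (w : V) v = 0 := by rw [hS]; exact w.2
        have hmem : y - B v y • v ∈ W := by simp [W, hv]
        have := hw ⟨_, hmem⟩
        replace this : B (w : V) (y - B v y • v) = 0 := this
        simpa [hwv] using this)
      (hgood.imp id fun ⟨w, h1, h2⟩ => ⟨⟨w, h1⟩, h2⟩)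
    let f : Fin (n + 1) → V := Fin.cons v fun i => (b i : V)
    have hf : ∀ i j, B (f i) (f j) = if i = j then 1 else 0 := by
      intro i j
      refine Fin.cases ?_ (fun i => ?_) i <;> refine Fin.cases ?_ (fun j => ?_) j
      · simp [f, hv]
      · simpa [f, (Fin.succ_ne_zero j).symm] using ((b j).2 : B v (b j) = 0)
      · simpa [f, Fin.succ_ne_zero i, hS (b i : V) v] using ((b i).2 : B v (b i) = 0)
      · simpa [f] using hb i j
    have hli : LinearIndependent F f := by
      refine Fintype.linearIndependent_iff.2 fun g hg i => ?_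
      have := congrArg (B (f i)) hg
      simpa [hf] using this
    exact ⟨basisOfLinearIndependentOfCardEqFinrank hli (by rw [Fintype.card_fin, hV]),
      fun i j => by simp [hf]⟩

/-- Over a finite field of characteristic two, a non-degenerate symmetric bilinear form that is not alternating (some vector v has B(v, v) ≠ 0) admits an orthonormal basis. -/
theorem result {F V : Type*} [Field F] [Finite F] [CharP F 2] [AddCommGroup V] [Module F V] [FiniteDimensional F V] {n : ℕ} (hV : Module.finrank F V = n) (B : LinearMap.BilinForm F V) (hS : B.IsSymm) (hB : B.Nondegenerate) (hna : ∃ v : V, B v v ≠ 0) : ∃ b : Module.Basis (Fin n) F V, ∀ i j, B (b i) (b j) = if i = j then 1 else 0 := by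
  refine orthonormal_aux n V B hV (fun x y => hS.eq x y) (fun x hx => hB.1 x hx) ?_
  exact Or.inr hna

end Cfsg.Agent.S2622
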