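import Cfsg.Statements.S2625
import Mathlib

set_option autoImplicit false
open Cfsg

namespace Cfsg.Agent.S2625

/-- For a quadratic form Q on F^n with non-degenerate polar form, F finite and n odd (so |F| is odd), the multiplier of any similarity is a square: if g is an invertible linear map with Q(g v) = c·Q(v) for all v then c is a square. -/
theorem result {F : Type*} [Field F] [Fintype F] {n : ℕ} (hn : Odd n) (Q : QuadraticForm F (Fin n → F)) (hQ : (QuadraticMap.polarBilin Q).Nondegenerate) (g : (Fin n → F) ≃ₗ[F] (Fin n → F)) (c : F) (hg : ∀ v, Q (g v) = c * Q v) : IsSquare c := by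
  classical
  obtain ⟨m, rfl⟩ := hn
  let b := Pi.basisFun F (Fin (2 * m + 1))
  let M := LinearMap.toMatrix₂ b b (QuadraticMap.polarBilin Q)
  have hM : M.det ≠ 0 :=
    Matrix.nondegenerate_iff_det_ne_zero.1 ((LinearMap.nondegenerate_toMatrix₂_iff b b).2 hQ)
  have hcomp : (QuadraticMap.polarBilin Q).compl₁₂ g.toLinearMap g.toLinearMap =
      c • QuadraticMap.polarBilin Q := LinearMap.ext fun u => LinearMap.ext fun v => by
    show QuadraticMap.polar Q (g u) (g v) = c * QuadraticMap.polar Q u v
    simp only [QuadraticMap.polar, ← map_add, hg]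
    ring
  have h1 := congrArg (LinearMap.toMatrix₂ b b) hcomp
  rw [LinearMap.toMatrix₂_compl₁₂ b b, map_smul] at h1
  have h2 := congrArg Matrix.det h1
  rw [Matrix.det_mul, Matrix.det_mul, Matrix.det_transpose, Matrix.det_smul, Fintype.card_fin] at h2
  have hc : c ≠ 0 := fun h0 => by
    rw [h0, zero_pow (by omega), zero_mul] at h2
    have hg0 : (LinearMap.toMatrix b b g.toLinearMap).det ≠ 0 := by
      rw [LinearMap.det_toMatrix]; exact g.isUnit_det'.ne_zero
    simp only [mul_eq_zero] at h2
    tauto
  refine ⟨(LinearMap.toMatrix b b g.toLinearMap).det / c ^ m, ?_⟩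
  have h3 : (LinearMap.toMatrix b b g.toLinearMap).det ^ 2 = c ^ (2 * m + 1) := by
    refine mul_right_cancel₀ hM ?_
    linear_combination h2
  rw [div_mul_div_comm, ← sq, h3, ← pow_add, eq_div_iff (pow_ne_zero _ hc)]
  ring

end Cfsg.Agent.S2625
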