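import Cfsg.Statements.S2626
import Mathlib

set_option autoImplicit false
open Cfsg
open scoped Matrix

namespace Cfsg.Agent.S2626

/-- Ω of an orthogonal direct sum contains the product of the Ω's: for quadratic forms Q₁ on F^k and Q₂ on F^l with non-degenerate polar forms (F finite) and Q = Q₁ ⊕ Q₂ on F^(k+l), if g₁ lies in Ω(Q₁) and g₂ in Ω(Q₂) (commutator subgroups of the orthogonal groups) then the block-diagonal isometry diag(g₁, g₂) lies in Ω(Q). -/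
theorem result {F : Type*} [Field F] [Fintype F] {k l : ℕ} (Q₁ : QuadraticForm F (Fin k → F)) (Q₂ : QuadraticForm F (Fin l → F)) (h₁ : (QuadraticMap.polarBilin Q₁).Nondegenerate) (h₂ : (QuadraticMap.polarBilin Q₂).Nondegenerate) (g₁ : ↥(Cfsg.isometryGroup F ⇑Q₁)) (g₂ : ↥(Cfsg.isometryGroup F ⇑Q₂)) (hg₁ : g₁ ∈ Cfsg.Omega F ⇑Q₁) (hg₂ : g₂ ∈ Cfsg.Omega F ⇑Q₂) : ∃ g : ↥(Cfsg.isometryGroup F (fun v : Fin k ⊕ Fin l → F => Q₁ (v ∘ Sum.inl) + Q₂ (v ∘ Sum.inr))), g ∈ Cfsg.Omega F (fun v : Fin k ⊕ Fin l → F => Q₁ (v ∘ Sum.inl) + Q₂ (v ∘ Sum.inr)) ∧ ((g : Matrix.GeneralLinearGroup (Fin k ⊕ Fin l) F) : Matrix (Fin k ⊕ Fin l) (Fin k ⊕ Fin l) F) = Matrix.fromBlocks ((g₁ : Matrix.GeneralLinearGroup (Fin k) F) : Matrix (Fin k) (Fin k) F) 0 0 ((g₂ : Matrix.GeneralLinearGroup (Fin l) F) : Matrix (Fin l) (Fin l) F) := by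
  let Q : (Fin k ⊕ Fin l → F) → F := fun v => Q₁ (v ∘ Sum.inl) + Q₂ (v ∘ Sum.inr)
  let φ : ↥(Cfsg.isometryGroup F ⇑Q₁) × ↥(Cfsg.isometryGroup F ⇑Q₂) →*
      ↥(Cfsg.isometryGroup F Q) :=
    { toFun := fun x => ⟨⟨Matrix.fromBlocks x.1.1.1 0 0 x.2.1.1,
          Matrix.fromBlocks (x.1.1⁻¹).1 0 0 (x.2.1⁻¹).1,
          by simp [Matrix.fromBlocks_multiply, Units.mul_inv],
          by simp [Matrix.fromBlocks_multiply, Units.inv_mul]⟩, fun u v => by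
        show Q (Matrix.fromBlocks x.1.1.1 0 0 x.2.1.1 *ᵥ u) = Q u
        have e1 := x.1.2 (u ∘ Sum.inl) (u ∘ Sum.inl)
        have e2 := x.2.2 (u ∘ Sum.inr) (u ∘ Sum.inr)
        simp only [Units.coeHom_apply] at e1 e2
        simp only [Q, Matrix.fromBlocks_mulVec, Sum.elim_comp_inl, Sum.elim_comp_inr, Matrix.zero_mulVec,
          add_zero, zero_add, e1, e2]⟩
      map_one' := Subtype.ext (Units.ext (by simp))
      map_mul' := fun x y => Subtype.ext (Units.ext (by simp [Matrix.fromBlocks_multiply])) }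
  refine ⟨φ (g₁, g₂), ?_, rfl⟩
  have hmem : (g₁, g₂) ∈ commutator (↥(Cfsg.isometryGroup F ⇑Q₁) × ↥(Cfsg.isometryGroup F ⇑Q₂)) := by
    rw [commutator_def, ← Subgroup.top_prod_top, Subgroup.commutator_prod_prod]
    exact ⟨hg₁, hg₂⟩
  have hle : (commutator (↥(Cfsg.isometryGroup F ⇑Q₁) × ↥(Cfsg.isometryGroup F ⇑Q₂))).map φ ≤
      commutator ↥(Cfsg.isometryGroup F Q) := by
    rw [commutator_def, commutator_def, Subgroup.map_commutator]
    exact Subgroup.commutator_mono le_top le_top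
  exact hle (Subgroup.mem_map_of_mem φ hmem)

end Cfsg.Agent.S2626
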