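import Cfsg.Statements.S2644
import Cfsg.Agent.Lib.Classical.SemiUnitary
import Cfsg.Agent.S2579

set_option autoImplicit false
open Cfsg
open Matrix

namespace Cfsg.Agent.S2644

/-- In the special unitary group SU_n(q) with n ≥ 3 (isometries of Σ u_i v_i^q of determinant one over the field with q² elements), any two transvections (elements t with t − 1 of rank one and square zero) are conjugate. -/
theorem result {K : Type*} [Field K] [Fintype K] {q n : ℕ} (hK : Fintype.card K = q ^ 2) (hn : 3 ≤ n) (s t : ↥(Cfsg.SU n K q)) (hs : Cfsg.IsTransvection (((s : GL (Fin n) K) : Matrix (Fin n) (Fin n) K))) (ht : Cfsg.IsTransvection (((t : GL (Fin n) K) : Matrix (Fin n) (Fin n) K))) : IsConj s t := by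
  classical
  obtain ⟨k, rfl⟩ : ∃ k, n = k + 3 := ⟨n - 3, by omega⟩
  obtain ⟨x, hx⟩ := isConj_iff.1 ((Cfsg.Agent.S2579.isConj_standard s.1 hs).trans
    (Cfsg.Agent.S2579.isConj_standard t.1 ht).symm)
  obtain ⟨σs, hσs⟩ : ∃ σs : GL (Fin (k + 3)) K, σs = (s.1 : GL (Fin (k + 3)) K) := ⟨_, rfl⟩
  obtain ⟨σt, hσt⟩ : ∃ σt : GL (Fin (k + 3)) K, σt = (t.1 : GL (Fin (k + 3)) K) := ⟨_, rfl⟩
  have hsU : σs ∈ Cfsg.GU (k + 3) K q := hσs ▸ s.2
  have htU : σt ∈ Cfsg.GU (k + 3) K q := hσt ▸ t.2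
  obtain ⟨y, hy, hys⟩ := CfsgLib.Classical.SemiUnitary.exists_unitary_intertwine hK hsU htU
    (Matrix.SpecialLinearGroup.toGL x) (by rw [hσs, hσt, ← map_mul, ← map_mul, ← hx, inv_mul_cancel_right])
  -- an anisotropic fixed vector
  obtain ⟨w, hw, hww⟩ : ∃ w : Fin (k + 3) → K, (σs : Matrix (Fin (k + 3)) (Fin (k + 3)) K) *ᵥ w = w ∧
      Cfsg.hermForm (k + 3) K q w w ≠ 0 := by
    by_contra hne
    push Not at hne
    obtain ⟨N, hN⟩ : ∃ N : Matrix (Fin (k + 3)) (Fin (k + 3)) K, N = (σs : Matrix _ _ K) - 1 := ⟨_, rfl⟩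
    have hker : ∀ w, w ∈ LinearMap.ker N.mulVecLin → (σs : Matrix _ _ K) *ᵥ w = w := fun w hw => by
      rw [LinearMap.mem_ker, Matrix.mulVecLin_apply, hN, Matrix.sub_mulVec, Matrix.one_mulVec, sub_eq_zero] at hw
      exact hw
    have hdim : Module.finrank K (LinearMap.ker N.mulVecLin) = k + 2 := by
      have h1 := N.mulVecLin.finrank_range_add_finrank_ker
      have h2 : Module.finrank K (LinearMap.range N.mulVecLin) = 1 := by rw [hN, hσs]; exact hs.1
      rw [h2, Module.finrank_fin_fun] at h1; omega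
    obtain ⟨σ, hσ⟩ : ∃ σ : K →+* K, σ = CfsgLib.Classical.qFrob hK := ⟨_, rfl⟩
    let B := CfsgLib.Classical.hermB hK (k + 3)
    have hiso : ∀ a ∈ LinearMap.ker N.mulVecLin, ∀ b ∈ LinearMap.ker N.mulVecLin, B a b = 0 := by
      intro a ha b hb
      have hz : ∀ u ∈ LinearMap.ker N.mulVecLin, B u u = 0 := fun u hu => by
        rw [CfsgLib.Classical.hermB_apply]; exact hne u (hker u hu)
      obtain ⟨c, hc⟩ := CfsgLib.Classical.SemiUnitary.exists_theta hK
      have h1 := hz _ (add_mem ha hb)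
      have h2 := hz _ (add_mem ha (Submodule.smul_mem _ c hb))
      simp only [map_add, LinearMap.add_apply, map_smul, smul_eq_mul, LinearMap.map_smulₛₗ,
        LinearMap.smul_apply, hz a ha, hz b hb] at h1 h2
      have h3 : (c - CfsgLib.Classical.qFrob hK c) * B a b = 0 := by
        linear_combination h2 - CfsgLib.Classical.qFrob hK c * h1
      exact (mul_eq_zero.1 h3).resolve_left (sub_ne_zero.2 hc.symm)
    obtain ⟨W, hW⟩ : ∃ W, W = LinearMap.ker N.mulVecLin := ⟨_, rfl⟩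
    rw [← hW] at hdim hiso
    obtain ⟨b, hb⟩ : ∃ b, b ∉ W := by
      by_contra h
      push Not at h
      rw [show W = ⊤ from eq_top_iff.2 fun v _ => h v, finrank_top, Module.finrank_fin_fun] at hdim
      omega
    have htop : W ⊔ Submodule.span K {b} = ⊤ := by
      refine Submodule.eq_top_of_finrank_eq (le_antisymm (Submodule.finrank_le _) ?_)
      have hlt : W < W ⊔ Submodule.span K {b} := lt_of_le_of_ne le_sup_left fun h =>
        hb (h ▸ Submodule.mem_sup_right (Submodule.mem_span_singleton_self b))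
      have := Submodule.finrank_lt_finrank_of_lt hlt
      rw [Module.finrank_fin_fun]
      omega
    have hzero : ∀ a ∈ W, B a b = 0 → a = 0 := fun a ha hab =>
      CfsgLib.Classical.hermB_sep hK a fun v => by
        obtain ⟨w, hw, u, hu, rfl⟩ := Submodule.mem_sup.1 (htop.symm ▸ Submodule.mem_top : v ∈ W ⊔ Submodule.span K {b})
        obtain ⟨c, rfl⟩ := Submodule.mem_span_singleton.1 hu
        show B a _ = 0
        rw [map_add, map_smul, hiso a ha w hw, hab, smul_zero, add_zero]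
    let e := Module.finBasisOfFinrankEq K W hdim
    obtain ⟨β, hβ⟩ : ∃ β : Fin (k + 2) → K, ∀ i, β i = CfsgLib.Classical.qFrob hK (B (e i : Fin (k + 3) → K) b) :=
      ⟨_, fun i => rfl⟩
    have hlin : β 1 • e 0 + (-(β 0)) • e 1 = 0 := by
      refine Subtype.ext (hzero _ (Submodule.coe_mem _) ?_)
      simp only [Submodule.coe_add, SetLike.val_smul, map_add, LinearMap.add_apply, LinearMap.map_smulₛₗ,
        LinearMap.smul_apply, smul_eq_mul, map_neg, hβ, CfsgLib.Classical.qFrob_qFrob]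
      ring
    have h0 := congrArg (fun v => e.repr v 1) hlin
    simp at h0
    have hb0 : B (e 0 : Fin (k + 3) → K) b = 0 := by
      have := hβ 0
      rw [h0] at this
      exact (map_eq_zero _).1 this.symm
    exact e.ne_zero 0 (Subtype.ext (hzero _ (Submodule.coe_mem _) hb0))
  -- correct the determinant
  have hyd : (y : Matrix (Fin (k + 3)) (Fin (k + 3)) K).det *
      CfsgLib.Classical.qFrob hK (y : Matrix (Fin (k + 3)) (Fin (k + 3)) K).det = 1 := by
    have := congrArg Matrix.det ((CfsgLib.Classical.SemiUnitary.mem_gu_iff hK y).1 hy)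
    rwa [Matrix.det_mul, Matrix.det_transpose, CfsgLib.Classical.SemiUnitary.det_map, Matrix.det_one] at this
  obtain ⟨c, hc⟩ : ∃ c : K, c = CfsgLib.Classical.qFrob hK (y : Matrix (Fin (k + 3)) (Fin (k + 3)) K).det := ⟨_, rfl⟩
  obtain ⟨d, hd, hds, hdd⟩ := CfsgLib.Classical.SemiUnitary.exists_comm_det_of_fixed hK hsU hw hww (c := c) (by
    rw [hc, CfsgLib.Classical.qFrob_qFrob, mul_comm]; exact hyd)
  obtain ⟨z, hz⟩ : ∃ z : Matrix.SpecialLinearGroup (Fin (k + 3)) K, Matrix.SpecialLinearGroup.toGL z = y * d :=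
    ⟨⟨(y * d : GL (Fin (k + 3)) K), by rw [Units.val_mul, Matrix.det_mul, hdd, hc, hyd]⟩, Units.ext rfl⟩
  have hzU : z ∈ Cfsg.SU (k + 3) K q := by
    intro u v
    exact (hz ▸ mul_mem hy hd : Matrix.SpecialLinearGroup.toGL z ∈ Cfsg.GU (k + 3) K q) u v
  refine isConj_iff.2 ⟨⟨z, hzU⟩, mul_inv_eq_iff_eq_mul.2 (Subtype.ext (Matrix.SpecialLinearGroup.toGL_injective ?_))⟩
  rw [Subgroup.coe_mul, Subgroup.coe_mul, map_mul, map_mul, hz]
  show y * d * (s.1 : GL (Fin (k + 3)) K) = (t.1 : GL (Fin (k + 3)) K) * (y * d)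
  rw [← hσs, ← hσt, mul_assoc, hds, ← mul_assoc, hys, mul_assoc]

end Cfsg.Agent.S2644
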