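import Cfsg.Statements.S2646
import Cfsg.Agent.Lib.KnownC.GUUnipotentCentralizer

set_option autoImplicit false
open Cfsg

namespace Cfsg.Agent.S2646

/-- Order of the centraliser in the general unitary group GU_n(q) of a unipotent element of given Jordan type: if u ∈ GU_n(q) (isometries of Σ u_i v_i^q over the field with q² elements) is similar to the unipotent matrix with a_i Jordan blocks of size i (all sizes at least 1), then its centraliser in GU_n(q) has order q^γ · Π_i |GU_(a_i)(q)| with γ = 2 Σ_(i<j) i a_i a_j + Σ_i (i − 1) a_i², the same exponent as in GL_n(q), where |GU_a(q)| = q^(a(a−1)/2) Π_(k=1)^a (q^k − (−1)^k). -/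
theorem result {K : Type*} [Field K] [Fintype K] {q n t : ℕ} (hK : Fintype.card K = q ^ 2) (d : Fin t → ℕ) (hd : ∀ k, 1 ≤ d k) (e : ((k : Fin t) × Fin (d k)) ≃ Fin n) (u : ↥(Cfsg.GU n K q)) (hu : IsConj (Matrix.reindex e e (Cfsg.jordanTypeMatrix d K)) ((u : GL (Fin n) K) : Matrix (Fin n) (Fin n) K)) : (Nat.card ↥(Subgroup.centralizer ({u} : Set ↥(Cfsg.GU n K q))) : ℤ) = (q : ℤ) ^ (2 * (∑ i ∈ Finset.range (Finset.univ.sup d + 1), ∑ j ∈ Finset.range (Finset.univ.sup d + 1), if i < j then i * (Finset.univ.filter (fun k : Fin t => d k = i)).card * (Finset.univ.filter (fun k : Fin t => d k = j)).card else 0) + ∑ i ∈ Finset.range (Finset.univ.sup d + 1), (i - 1) * (Finset.univ.filter (fun k : Fin t => d k = i)).card ^ 2) * ∏ i ∈ Finset.range (Finset.univ.sup d + 1), ((q : ℤ) ^ ((Finset.univ.filter (fun k : Fin t => d k = i)).card * ((Finset.univ.filter (fun k : Fin t => d k = i)).card - 1) / 2) * ∏ j : Fin (Finset.univ.filter (fun k : Fin t => d k = i)).card, ((q : ℤ) ^ ((j : ℕ) + 1) - (-1) ^ ((j :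 ℕ) + 1))) := by
  classical
  rw [CfsgLib.KnownC.JordanHerm.card_gu_centralizer_unipotent hK d hd e u hu,
    CfsgLib.KnownC.JordanComm.exponent_eq hd]
  have hq0 : 1 ≤ q := by
    rcases Nat.eq_zero_or_pos q with h | h
    · exfalso; exact Fintype.card_ne_zero (hK.trans (by rw [h]; norm_num))
    · exact h
  push_cast
  congr 1
  refine (Finset.prod_subset (s₂ := Finset.range (Finset.univ.sup d + 1))
    (f := fun i => (Nat.card (Cfsg.GU (Finset.univ.filter (fun k : Fin t => d k = i)).card K q) : ℤ))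
    (fun i hi => ?_) (fun i _ hi => ?_)).trans ?_
  · obtain ⟨k, -, rfl⟩ := Finset.mem_image.1 hi
    exact Finset.mem_range.2 (Nat.lt_succ_of_le (Finset.le_sup (Finset.mem_univ k)))
  · have h0 : (Finset.univ.filter (fun k : Fin t => d k = i)) = ∅ :=
      Finset.filter_eq_empty_iff.2 fun k _ h => hi (Finset.mem_image.2 ⟨k, Finset.mem_univ _, h⟩)
    rw [h0, Finset.card_empty, CfsgLib.Classical.card_gu hK]
    simp
  · refine Finset.prod_congr rfl fun i _ => ?_
    generalize (Finset.univ.filter (fun k : Fin t => d k = i)).card = a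
    rw [CfsgLib.Classical.card_gu hK, Finset.prod_range]
    push_cast
    congr 1
    refine Finset.prod_congr rfl fun j _ => ?_
    have h1 : 1 ≤ q ^ ((j : ℕ) + 1) := Nat.one_le_pow _ _ hq0
    split_ifs with hj
    · push_cast
      rw [(Even.add_one hj).neg_one_pow]; ring
    · rw [Nat.cast_sub h1, (Odd.add_one (Nat.not_even_iff_odd.1 hj)).neg_one_pow]
      push_cast; ring

end Cfsg.Agent.S2646
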