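import Cfsg.Statements.S2651
import Cfsg.Agent.Lib.Golay.H2Model
import Cfsg.Agent.Lib.Golay.H2DataCocode

set_option autoImplicit false
open Cfsg

namespace Cfsg.Agent.S2651

open CfsgLib.Golay.H2Check in
theorem cocodeData_matsOK : ∀ k ≤ cocodeData.codes.length,
    okCoco (cocodeData.code k) (cocodeData.cols k) = true := by
  decide +kernel

open CfsgLib.Golay.H2Check in
theorem cocodeData_extra : ∃ F, cocodeData.extra = [F] := ⟨_, rfl⟩

/-- The non-split extension of the Mathieu group M₂₃ by its cocode module is unique. Suppose E and E' are finite groups, each with a normal subgroup (N, N'), an isomorphism of the quotient onto M₂₃ = `Spor.M23`, and a surjective additive homomorphism from the binary words on the 24 points `GolayPt` onto the normal subgroup with kernel the Golay code `golayCode` together with its translate by the unit vector at the extra point `none`, intertwining the coordinate permutation w ↦ w ∘ σ⁻¹ (σ the image of gN)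 with conjugation by g; and suppose that in each group the normal subgroup has no complement. Then E and E' are isomorphic. -/
theorem result
    {E : Type*} [Group E] [Finite E] (N : Subgroup E) [hN : N.Normal]
    (φ : E ⧸ N ≃* ↥Cfsg.Spor.M23) (θ : (Cfsg.GolayPt → ZMod 2) →+ Additive ↥N)
    (hsurj : Function.Surjective θ)
    (hker : ∀ w : Cfsg.GolayPt → ZMod 2, θ w = 0 ↔ (w ∈ Cfsg.golayCode ∨ w + Pi.single none 1 ∈ Cfsg.golayCode))
    (hθ : ∀ (g : E) (w : Cfsg.GolayPt → ZMod 2),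
      ((θ (w ∘ ⇑(((φ (QuotientGroup.mk g) : ↥Cfsg.Spor.M23) : Equiv.Perm Cfsg.GolayPt)⁻¹))).toMul : E)
        = g * ((θ w).toMul : E) * g⁻¹)
    (hns : ∀ H : Subgroup E, H ⊓ N = ⊥ → H ⊔ N ≠ ⊤)
    {E' : Type*} [Group E'] [Finite E'] (N' : Subgroup E') [hN' : N'.Normal]
    (φ' : E' ⧸ N' ≃* ↥Cfsg.Spor.M23) (θ' : (Cfsg.GolayPt → ZMod 2) →+ Additive ↥N')
    (hsurj' : Function.Surjective θ')
    (hker' : ∀ w : Cfsg.GolayPt → ZMod 2, θ' w = 0 ↔ (w ∈ Cfsg.golayCode ∨ w + Pi.single none 1 ∈ Cfsg.golayCode))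
    (hθ' : ∀ (g : E') (w : Cfsg.GolayPt → ZMod 2),
      ((θ' (w ∘ ⇑(((φ' (QuotientGroup.mk g) : ↥Cfsg.Spor.M23) : Equiv.Perm Cfsg.GolayPt)⁻¹))).toMul : E')
        = g * ((θ' w).toMul : E') * g⁻¹)
    (hns' : ∀ H : Subgroup E', H ⊓ N' = ⊥ → H ⊔ N' ≠ ⊤) :
    Nonempty (E ≃* E') := by
  obtain ⟨X, hX, hXe, hXc⟩ := CfsgLib.Golay.H2Check.exists_ext_cocode N φ θ hsurj hker hθ
  obtain ⟨X', hX', hXe', hXc'⟩ :=
    CfsgLib.Golay.H2Check.exists_ext_cocode N' φ' θ' hsurj' hker' hθ'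
  obtain ⟨F, hF⟩ := cocodeData_extra
  refine CfsgLib.Golay.H2Check.Ext.iso_of_vals X X' ?_
    CfsgLib.Golay.H2Check.cocodeData_groupOK CfsgLib.Golay.H2Check.cocodeData_sylowOK
    CfsgLib.Golay.H2Check.cocodeData_nodup CfsgLib.Golay.H2Check.cocodeData_formsOK
    CfsgLib.Golay.H2Check.cocodeData_certOK cocodeData_matsOK (by rwa [hX]) (by rwa [hX']) hF
  intro g g' hgg v
  obtain ⟨u, hu⟩ := X.exists_emb (x := g * X.emb v * g⁻¹) (by simp [X.π_emb])
  refine ⟨u, hu, ?_⟩
  rw [hXc', ← hgg]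
  rw [hXc, hXe] at hu
  rw [hXe']
  generalize CfsgLib.Golay.H2Check.wordOf CfsgLib.Golay.H2Check.UV u = b at hu ⊢
  generalize CfsgLib.Golay.H2Check.wordOf CfsgLib.Golay.H2Check.UV v ∘ ⇑((X.π g)⁻¹) = a at hu ⊢
  have h1 : θ (a + b) = 0 := by
    rw [map_add, Additive.toMul.injective (Subtype.ext hu), ← map_add,
      CfsgLib.Golay.CocodeExt.wadd_self, map_zero]
  have h2 : θ' (a + b) = 0 := (hker' _).2 ((hker _).1 h1)
  have h3 : θ' (a + b + b) = θ' b := by rw [map_add, h2, zero_add]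
  rw [add_assoc, CfsgLib.Golay.CocodeExt.wadd_self, add_zero] at h3
  rw [h3]

end Cfsg.Agent.S2651
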