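import Cfsg.Statements.S2652
import Cfsg.Statements.S2652
import Cfsg.Agent.Lib.KnownC.FiTwentyThree.Main

set_option autoImplicit false
open Cfsg

namespace Cfsg.Agent.S2652

/-- Let T be a Sylow 2-subgroup of the Fischer group Fi₂₃ (the finitely presented group `Spor.Fi23`; T has order 2¹⁸). Then every elementary abelian subgroup of Fi₂₃ contained in T and normal in T has order at most 2¹¹, and there is exactly one such subgroup of order 2¹¹. -/
theorem result
    (T : Sylow 2 Cfsg.Spor.Fi23) :
    (∀ A : Subgroup Cfsg.Spor.Fi23, A ≤ T → (A.subgroupOf T).Normal → Cfsg.IsElementaryAbelian 2 A →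
        Nat.card A ≤ 2 ^ 11) ∧
    ∃! A : Subgroup Cfsg.Spor.Fi23, A ≤ T ∧ (A.subgroupOf T).Normal ∧ Cfsg.IsElementaryAbelian 2 A ∧
        Nat.card A = 2 ^ 11 := by
  exact CfsgLib.KnownC.Fi23Two.sylow_main T

end Cfsg.Agent.S2652
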