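import Cfsg.Statements.S2653
import Cfsg.Agent.Lib.KnownC.AltSec.Reduce

set_option autoImplicit false
open scoped MatrixGroups
open Cfsg

namespace Cfsg.Agent.S2653

/-- Alternating sections of finite linear groups. Let `F` be a finite field of characteristic `p` and `n` a natural number, and suppose some subgroup `H` of GL_n(F) has a normal subgroup `K` with `H ⧸ K` isomorphic to the alternating group of degree `r ≥ 9`. Then `n ≥ r - 2` when `p` divides `r`, and `n ≥ r - 1` otherwise (the smallest degree of a nontrivial projective representation of that alternating group in characteristic `p`). The same bound follows for every classical group with natural module of dimension `n` over `F`, since each is a section of a subgroup of GL_n(F). -/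
theorem result {F : Type*} [Field F] [Fintype F] (p : ℕ) [Fact p.Prime] [CharP F p]
    (n : ℕ) (r : ℕ) (H : Subgroup (GL (Fin n) F)) (K : Subgroup ↥H) [K.Normal]
    (h : Nonempty (↥H ⧸ K ≃* ↥(alternatingGroup (Fin r)))) (hr : 9 ≤ r) :
    r - 1 - (if p ∣ r then 1 else 0) ≤ n := by
  obtain ⟨e⟩ := h
  letI : Algebra (ZMod p) F := ZMod.algebra F p
  haveI : Module.Finite (ZMod p) F := Module.Finite.of_finite
  haveI : CharP (AlgebraicClosure (ZMod p)) p :=
    charP_of_injective_algebraMap (algebraMap (ZMod p) (AlgebraicClosure (ZMod p))).injective p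
  let f : F →ₐ[ZMod p] AlgebraicClosure (ZMod p) := IsAlgClosed.lift
  let μ : GL (Fin n) F →* GL (Fin n) (AlgebraicClosure (ZMod p)) := Matrix.GeneralLinearGroup.map f.toRingHom
  have hμ : Function.Injective μ := fun a b hab => Units.ext
    (Matrix.map_injective f.toRingHom.injective (congrArg Units.val hab))
  let H' := H.map μ
  let eH : H ≃* H' := H.equivMapOfInjective μ hμ
  haveI : Finite H' := Finite.of_equiv H eH.toEquiv
  let ψ : H →* Equiv.Perm (Fin r) :=
    ((alternatingGroup (Fin r)).subtype.comp e.toMonoidHom).comp (QuotientGroup.mk' K)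
  have hψ : ψ.range = alternatingGroup (Fin r) := by
    rw [MonoidHom.range_comp, MonoidHom.range_eq_top.2 (QuotientGroup.mk'_surjective K), ← MonoidHom.range_eq_map,
      MonoidHom.range_comp, MonoidHom.range_eq_top.2 e.surjective, ← MonoidHom.range_eq_map, Subgroup.range_subtype]
  let φ : H' →* Equiv.Perm (Fin r) := ψ.comp eH.symm.toMonoidHom
  let ρ : H' →* Module.End (AlgebraicClosure (ZMod p)) (Fin n → AlgebraicClosure (ZMod p)) :=
    Matrix.toLinAlgEquiv'.toRingEquiv.toMonoidHom.comp ((Units.coeHom _).comp H'.subtype)
  refine CfsgLib.KnownC.AltSec.bound_all n (AlgebraicClosure (ZMod p)) p (Fin n → AlgebraicClosure (ZMod p)) H' r φ ρ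
    (by simp) ?_ (fun g hg => ?_) hr
  · rw [MonoidHom.range_comp, MonoidHom.range_eq_top.2 eH.symm.surjective, ← MonoidHom.range_eq_map, hψ]
  · have : g = 1 := Subtype.ext (Units.ext (Matrix.toLinAlgEquiv'.injective (hg.trans (map_one _).symm)))
    rw [this, map_one]

end Cfsg.Agent.S2653
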