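import Cfsg.Statements.S2669
import Cfsg.Agent.Lib.KnownC.Shintani
-- import your own Cfsg.Agent.* helpers here

set_option autoImplicit false
open Cfsg

namespace Cfsg.Agent.S2669

open CfsgLib.KnownC

/-- Shintani descent preserves numbers of fixed points on coset spaces (abstract form). Let `σ` be an automorphism of a group `X` and `e ≥ 1`; write `G` for the fixed points of `σᵉ` and `H` for the fixed points of `σ`, and assume `G` is finite. Let `Y` be a `σ`-stable subgroup of `X` on which the maps `a ↦ a σ(a)⁻¹` and `a ↦ a σᵉ(a)⁻¹` are surjective (as for a closed connected `σ`-stable subgroup of an algebraic group). Let `g ∈ G`, let `a ∈ X` satisfy `g = a σ(a)⁻¹` and put `x = σᵉ(a)⁻¹ a` (the Shintani image, an element of `H`). The element `g σ` of the semidirect product acts on the cosets of `Y ∩ G` in `G` by `k (Y ∩ G) ↦ g σ(k)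 (Y ∩ G)`, fixing that coset exactly when `k⁻¹ g σ(k) ∈ Y`; and `x` fixes the coset `h (Y ∩ H)` of `H` exactly when `h⁻¹ x h ∈ Y`. Then the two numbers of fixed cosets agree; in cross-multiplied form, `#{k ∈ G : k⁻¹ g σ(k) ∈ Y} · |Y ∩ H| = #{h ∈ H : h⁻¹ x h ∈ Y} · |Y ∩ G|`. -/
theorem result {X : Type*} [Group X] (σ : MulAut X) (e : ℕ) (he : 1 ≤ e)
    [Finite ↥((MulEquiv.toMonoidHom (σ ^ e)).eqLocus (MonoidHom.id X))]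
    (Y : Subgroup X) (hY : ∀ y : X, y ∈ Y ↔ σ y ∈ Y)
    (hYL : ∀ y ∈ Y, ∃ a ∈ Y, y = a * (σ a)⁻¹) (hYLe : ∀ y ∈ Y, ∃ a ∈ Y, y = a * ((σ ^ e) a)⁻¹)
    (g : X) (hg : g ∈ (MulEquiv.toMonoidHom (σ ^ e)).eqLocus (MonoidHom.id X)) (a : X) (ha : g = a * (σ a)⁻¹) :
    Nat.card {k : ↥((MulEquiv.toMonoidHom (σ ^ e)).eqLocus (MonoidHom.id X)) // (k : X)⁻¹ * g * σ k ∈ Y} *
        Nat.card ↥(Y ⊓ (MulEquiv.toMonoidHom σ).eqLocus (MonoidHom.id X)) =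
      Nat.card {h : ↥((MulEquiv.toMonoidHom σ).eqLocus (MonoidHom.id X)) // (h : X)⁻¹ * (((σ ^ e) a)⁻¹ * a) * h ∈ Y} *
        Nat.card ↥(Y ⊓ (MulEquiv.toMonoidHom (σ ^ e)).eqLocus (MonoidHom.id X)) := by
  simp only [mem_eqLocus_id_iff] at *
  subst ha
  set G := (MulEquiv.toMonoidHom (σ ^ e)).eqLocus (MonoidHom.id X) with hG
  set H := (MulEquiv.toMonoidHom σ).eqLocus (MonoidHom.id X) with hH
  set x := ((σ ^ e) a)⁻¹ * a with hx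
  let S := {kc : ↥G × ↥Y // (kc.1 : X)⁻¹ * (a * (σ a)⁻¹) * σ kc.1 = (kc.2 : X) * (σ kc.2)⁻¹}
  let T := {hc : ↥H × ↥Y // (hc.1 : X)⁻¹ * x * hc.1 = ((σ ^ e) (hc.2 : X))⁻¹ * hc.2}
  have hkey : ∀ k c : X, k⁻¹ * (a * (σ a)⁻¹) * σ k = c * (σ c)⁻¹ ↔ σ (a⁻¹ * k * c) = a⁻¹ * k * c := by
    intro k c
    have h := lang_eq_iff σ c (k⁻¹ * a)
    rw [show (k⁻¹ * a)⁻¹ * c = a⁻¹ * k * c by group, map_mul σ k⁻¹ a, map_inv] at h
    rw [← h, show k⁻¹ * a * ((σ k)⁻¹ * σ a)⁻¹ = k⁻¹ * (a * (σ a)⁻¹) * σ k by group, eq_comm]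
  have hkey2 : ∀ k c : X, σ (a⁻¹ * k * c) = a⁻¹ * k * c →
      ((σ ^ e) k = k ↔ (a⁻¹ * k * c)⁻¹ * x * (a⁻¹ * k * c) = ((σ ^ e) c)⁻¹ * c) := by
    intro k c hh
    have hk : (σ ^ e) k = (σ ^ e) a * (a⁻¹ * k * c) * ((σ ^ e) c)⁻¹ := by
      have h' := mulAut_pow_fixed σ hh e
      rw [map_mul, map_mul, map_inv] at h'
      rw [← h']; group
    rw [hk, hx]
    constructor
    · intro h
      calc (a⁻¹ * k * c)⁻¹ * (((σ ^ e) a)⁻¹ * a) * (a⁻¹ * k * c)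
          = (a⁻¹ * k * c)⁻¹ * ((σ ^ e) a)⁻¹ * k * c := by group
        _ = (a⁻¹ * k * c)⁻¹ * ((σ ^ e) a)⁻¹ * ((σ ^ e) a * (a⁻¹ * k * c) * ((σ ^ e) c)⁻¹) * c := by rw [h]
        _ = _ := by group
    · intro h
      calc (σ ^ e) a * (a⁻¹ * k * c) * ((σ ^ e) c)⁻¹
          = (σ ^ e) a * (a⁻¹ * k * c) * (((σ ^ e) c)⁻¹ * c) * c⁻¹ := by group
        _ = _ := by rw [← h]; group
  let eST : S ≃ T :=
    { toFun := fun z => ⟨(⟨a⁻¹ * z.1.1 * z.1.2, (hkey _ _).1 z.2⟩, z.1.2),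
        (hkey2 _ _ ((hkey _ _).1 z.2)).1 z.1.1.2⟩
      invFun := fun z => ⟨(⟨a * z.1.1 * (z.1.2 : X)⁻¹, (hkey2 (a * z.1.1 * (z.1.2 : X)⁻¹) z.1.2
          (by rw [show a⁻¹ * (a * z.1.1 * (z.1.2 : X)⁻¹) * z.1.2 = (z.1.1 : X) by group]; exact z.1.1.2)).2
          (by rw [show a⁻¹ * (a * z.1.1 * (z.1.2 : X)⁻¹) * z.1.2 = (z.1.1 : X) by group]; exact z.2)⟩, z.1.2),
        (hkey _ _).2 (by
          show σ (a⁻¹ * (a * z.1.1 * (z.1.2 : X)⁻¹) * z.1.2) = a⁻¹ * (a * z.1.1 * (z.1.2 : X)⁻¹) * z.1.2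
          rw [show a⁻¹ * (a * z.1.1 * (z.1.2 : X)⁻¹) * z.1.2 = (z.1.1 : X) by group]; exact z.1.1.2)⟩
      left_inv := fun z => Subtype.ext (Prod.ext (Subtype.ext (by simp [mul_assoc])) rfl)
      right_inv := fun z => Subtype.ext (Prod.ext (Subtype.ext (by simp [mul_assoc])) rfl) }
  let A := {k : ↥G // (k : X)⁻¹ * (a * (σ a)⁻¹) * σ k ∈ Y}
  let B := {h : ↥H // (h : X)⁻¹ * x * h ∈ Y}
  have hA : ∀ k : A, ∃ c : ↥Y, (k.1 : X)⁻¹ * (a * (σ a)⁻¹) * σ k.1 = (c : X) * (σ c)⁻¹ := fun k => by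
    obtain ⟨c, hc, h⟩ := hYL _ k.2
    exact ⟨⟨c, hc⟩, h⟩
  choose cA hcA using hA
  have hB : ∀ h : B, ∃ c : ↥Y, (h.1 : X)⁻¹ * x * h.1 = ((σ ^ e) (c : X))⁻¹ * c := fun h => by
    obtain ⟨c, hc, hc'⟩ := hYLe _ (Y.inv_mem h.2)
    refine ⟨⟨c⁻¹, Y.inv_mem hc⟩, ?_⟩
    change _ = ((σ ^ e) c⁻¹)⁻¹ * c⁻¹
    rw [map_inv, inv_inv, ← inv_inj, mul_inv_rev ((σ ^ e) c), inv_inv, hc']
  choose cB hcB using hB
  have hmemY : ∀ y : X, y ∈ Y → σ y ∈ Y := fun y => (hY y).1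
  have hmemYe : ∀ (n : ℕ) (y : X), y ∈ Y → (σ ^ n) y ∈ Y := fun n => by
    induction n with
    | zero => simp
    | succ n ih => intro y hy; rw [mulAut_pow_succ']; exact ih _ (hmemY y hy)
  let eA : S ≃ A × ↥(Y ⊓ H) :=
    { toFun := fun z => (⟨z.1.1, z.2 ▸ Y.mul_mem z.1.2.2 (Y.inv_mem (hmemY _ z.1.2.2))⟩,
        ⟨((cA ⟨z.1.1, z.2 ▸ Y.mul_mem z.1.2.2 (Y.inv_mem (hmemY _ z.1.2.2))⟩ : ↥Y) : X)⁻¹ * z.1.2,
          Y.mul_mem (Y.inv_mem (cA _).2) z.1.2.2,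
          (lang_eq_iff σ _ _).1 (z.2.symm.trans (hcA ⟨z.1.1, _⟩))⟩)
      invFun := fun w => ⟨(w.1.1, ⟨(cA w.1 : X) * w.2, Y.mul_mem (cA w.1).2 w.2.2.1⟩), by
        change (w.1.1 : X)⁻¹ * (a * (σ a)⁻¹) * σ w.1.1 = (cA w.1 : X) * w.2 * (σ ((cA w.1 : X) * w.2))⁻¹
        rw [hcA, map_mul, show σ (w.2 : X) = w.2 from w.2.2.2]; group⟩
      left_inv := fun z => Subtype.ext (Prod.ext rfl (Subtype.ext (by simp)))
      right_inv := fun w => Prod.ext (Subtype.ext rfl) (Subtype.ext (by simp)) }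
  have hfix : ∀ c c' : X, ((σ ^ e) c)⁻¹ * c = ((σ ^ e) c')⁻¹ * c' → (σ ^ e) (c * c'⁻¹) = c * c'⁻¹ := by
    intro c c' h
    rw [inv_mul_eq_iff_eq_mul] at h
    rw [map_mul, map_inv]
    conv_rhs => rw [h]
    group
  let eB : T ≃ B × ↥(Y ⊓ G) :=
    { toFun := fun z => (⟨z.1.1, z.2 ▸ Y.mul_mem (Y.inv_mem (hmemYe e _ z.1.2.2)) z.1.2.2⟩,
        ⟨(z.1.2 : X) * ((cB ⟨z.1.1, z.2 ▸ Y.mul_mem (Y.inv_mem (hmemYe e _ z.1.2.2)) z.1.2.2⟩ : ↥Y) : X)⁻¹,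
          Y.mul_mem z.1.2.2 (Y.inv_mem (cB _).2), by
            have hb := z.2.symm.trans (hcB ⟨z.1.1, z.2 ▸ Y.mul_mem (Y.inv_mem (hmemYe e _ z.1.2.2)) z.1.2.2⟩)
            exact hfix _ _ hb⟩)
      invFun := fun w => ⟨(w.1.1, ⟨(w.2 : X) * cB w.1, Y.mul_mem w.2.2.1 (cB w.1).2⟩), by
        change (w.1.1 : X)⁻¹ * x * w.1.1 = ((σ ^ e) ((w.2 : X) * cB w.1))⁻¹ * ((w.2 : X) * cB w.1)
        rw [hcB, map_mul, show (σ ^ e) (w.2 : X) = w.2 from w.2.2.2]; group⟩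
      left_inv := fun z => Subtype.ext (Prod.ext rfl (Subtype.ext (by simp)))
      right_inv := fun w => Prod.ext (Subtype.ext rfl) (Subtype.ext (by simp)) }
  rw [← Nat.card_prod, ← Nat.card_prod]
  exact Nat.card_congr ((eA.symm.trans eST).trans eB)

end Cfsg.Agent.S2669
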