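import Cfsg.Statements.S2696
import Cfsg.Agent.Lib.Classical.OrthAutFrames

set_option autoImplicit false
open Cfsg

namespace Cfsg.Agent.S2696

/-- For m ≥ 3 and a finite field F, the automorphism group of the minus-type group PΩ⁻_{2m+2}(F) (form Σ xᵢ yᵢ + z₁² + a z₁ z₂ + b z₂² with anisotropic binary part) is generated by the automorphisms induced by semisimilarities of the form. -/
theorem result {F : Type*} [Field F] [Fintype F] {m : ℕ} (hm : 3 ≤ m) (a b : F) (hab : ∀ z₁ z₂ : F, z₁ ^ 2 + a * z₁ * z₂ + b * z₂ ^ 2 = 0 → z₁ = 0 ∧ z₂ = 0) :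
    Cfsg.gammaPOmega F (Cfsg.quadFormMinus m F a b) = ⊤ := by
  rw [← CfsgLib.Classical.qfMinus_coe]
  refine CfsgLib.Classical.gammaPOmega_eq_top _ _
    (CfsgLib.Classical.four_le_of_big hm fun h => ?_)
    (CfsgLib.Classical.fieldLift_minus m hm hab)
  simp [Module.finrank_fintype_fun_eq_card]; omega

end Cfsg.Agent.S2696
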