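import Cfsg.Statements.S2697
import Cfsg.Agent.Lib.KnownC.AutPSLUnitary

set_option autoImplicit false
open Cfsg

namespace Cfsg.Agent.S2697

/-- Let T = PSL_n(F) be simple over a finite field (n ≥ 2; |F| ≥ 4 when n = 2) and let x be a field automorphism or a graph-field automorphism of T of prime order r. Then an element y of the coset Inndiag(T)·x (that is, y = δ x with δ in the inner-diagonal group, the image of PGL_n(F)) has order r if and only if y is conjugate to x by an element of Inndiag(T). -/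
theorem result {F : Type*} [Field F] [Fintype F] {p f : ℕ} [Fact p.Prime] (hF : Fintype.card F = p ^ f) (hf : 1 ≤ f) {n : ℕ} (hn : 2 ≤ n) (hs : n = 2 → 4 ≤ Fintype.card F) (x δ : MulAut (Matrix.ProjectiveSpecialLinearGroup (Fin n) F)) (hx : Cfsg.IsFieldAutClassPSL x ∨ Cfsg.IsGraphFieldAutClassPSL x) {r : ℕ} (hr : r.Prime) (hxr : orderOf x = r) (hδ : δ ∈ Cfsg.inndiagPSL n F) :
    orderOf (δ * x) = r ↔ Cfsg.IsConjUnder (Cfsg.inndiagPSL n F) x (δ * x) := by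
  haveI := CfsgLib.KnownC.inndiag_normal (F := F) hn
  constructor
  swap
  · rintro ⟨h, -, he⟩
    rw [he, ← MulAut.conj_apply, MulEquiv.orderOf_eq, hxr]
  intro hord
  rcases hx with ⟨α, σ, hσ, hstd⟩ | ⟨h3, α, φ, γ, σ, hσ, hφ, hγ, hstd⟩
  · rw [CfsgLib.KnownC.isStdFieldAutPSL_iff] at hstd
    rw [← CfsgLib.KnownC.isConjUnder_conj_iff (Cfsg.inndiagPSL n F) α]
    have hδ' : α * δ * α⁻¹ ∈ Cfsg.inndiagPSL n F := Subgroup.Normal.conj_mem inferInstance δ hδ α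
    rw [CfsgLib.KnownC.inndiagPSL_eq_range] at hδ'
    obtain ⟨g, hg⟩ := hδ'
    have hoσ : orderOf σ = r := by
      rw [← CfsgLib.KnownC.orderOf_semiAut_one (F := F) hn, ← hstd, ← hxr, ← MulAut.conj_apply,
        MulEquiv.orderOf_eq]
    have hy : α * (δ * x) * α⁻¹ = CfsgLib.KnownC.semiAut g σ := by
      rw [CfsgLib.KnownC.semiAut_eq_mul, hg, ← hstd]; group
    obtain ⟨k, hk⟩ := CfsgLib.KnownC.exists_conj_field hn (g := g) (σ := σ) (by
      rw [hoσ, ← hy, ← MulAut.conj_apply, ← map_pow, ← hord, pow_orderOf_eq_one, map_one])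
    refine ⟨CfsgLib.KnownC.inndiagHom k, ?_, ?_⟩
    · rw [CfsgLib.KnownC.inndiagPSL_eq_range]; exact ⟨k, rfl⟩
    · rw [hy, hk, hstd]
  · rw [CfsgLib.KnownC.isStdFieldAutPSL_iff] at hφ
    rw [CfsgLib.KnownC.isInverseTransposeAutPSL_iff] at hγ
    subst hφ hγ
    rw [← CfsgLib.KnownC.isConjUnder_conj_iff (Cfsg.inndiagPSL n F) α]
    have hδ' : α * δ * α⁻¹ ∈ Cfsg.inndiagPSL n F := Subgroup.Normal.conj_mem inferInstance δ hδ α
    rw [CfsgLib.KnownC.inndiagPSL_eq_range] at hδ'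
    obtain ⟨g, hg⟩ := hδ'
    obtain ⟨hr2, hoσ⟩ := CfsgLib.KnownC.orderOf_graphField h3 hr (σ := σ)
      (by rw [← hstd, ← hxr, ← MulAut.conj_apply, MulEquiv.orderOf_eq]) hσ
    have hy : α * (δ * x) * α⁻¹ = CfsgLib.KnownC.semiAut g σ * CfsgLib.KnownC.itAut := by
      rw [CfsgLib.KnownC.semiAut_eq_mul, hg, mul_assoc _ _ CfsgLib.KnownC.itAut, ← hstd]; group
    obtain ⟨k, hk⟩ := CfsgLib.KnownC.exists_conj_graphField h3 hoσ (g := g) (by
      rw [← sq, ← hr2, ← hy, ← MulAut.conj_apply, ← map_pow, ← hord, pow_orderOf_eq_one, map_one])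
    refine ⟨CfsgLib.KnownC.inndiagHom k, ?_, ?_⟩
    · rw [CfsgLib.KnownC.inndiagPSL_eq_range]; exact ⟨k, rfl⟩
    · rw [hy, hk, hstd]

end Cfsg.Agent.S2697
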