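import Cfsg.Statements.S2698
import Cfsg.Agent.Lib.KnownC.AutPSLUnitary

set_option autoImplicit false
open Cfsg

namespace Cfsg.Agent.S2698

/-- Let T = PSL_n(F) be simple over the field F with p^f elements (n ≥ 2; p^f ≥ 4 when n = 2), G = Inndiag(T) the image of PGL_n(F) in Aut(T), and x a field automorphism of T of prime order r. Then r divides f; the centralizer C_G(x) is isomorphic to PGL_n(F₀) for the subfield size |F₀| = p^(f/r); and the G-class of x is the union of exactly gcd(n, (p^f − 1)/(p^(f/r) − 1)) classes under conjugation by T (the inner automorphism group). -/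
theorem result {F : Type*} [Field F] [Fintype F] {p f : ℕ} [Fact p.Prime] (hF : Fintype.card F = p ^ f) (hf : 1 ≤ f) {n : ℕ} (hn : 2 ≤ n) (hs : n = 2 → 4 ≤ Fintype.card F) (x : MulAut (Matrix.ProjectiveSpecialLinearGroup (Fin n) F)) (hx : Cfsg.IsFieldAutClassPSL x) {r : ℕ} (hr : r.Prime) (hxr : orderOf x = r) (F₀ : Type*) [Field F₀] [Fintype F₀] (hF₀ : Fintype.card F₀ = p ^ (f / r)) :
    r ∣ f ∧ Nonempty (↥(Cfsg.inndiagPSL n F ⊓ Subgroup.centralizer {x}) ≃* Matrix.ProjGenLinGroup (Fin n) F₀) ∧ Cfsg.splitClassCount (Cfsg.inndiagPSL n F) (Cfsg.Inn (Matrix.ProjectiveSpecialLinearGroup (Fin n) F)) x = Nat.gcd n ((p ^ f - 1) / (p ^ (f / r) - 1)) := by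
  haveI := CfsgLib.KnownC.inndiag_normal (F := F) hn
  obtain ⟨α, σ, hσ, hstd⟩ := hx
  rw [CfsgLib.KnownC.isStdFieldAutPSL_iff] at hstd
  have hoσ : orderOf σ = r := by
    rw [← CfsgLib.KnownC.orderOf_semiAut_one (F := F) hn, ← hstd, ← hxr, ← MulAut.conj_apply,
      MulEquiv.orderOf_eq]
  obtain ⟨hdvd, -, hemb⟩ := CfsgLib.KnownC.exists_fixed_embedding σ hF
  rw [hoσ] at hdvd hemb
  obtain ⟨ι, hι⟩ := hemb F₀ hF₀
  have hC := CfsgLib.KnownC.centralizer_field hn σ ι hι
  refine ⟨hdvd, ?_, ?_⟩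
  · obtain ⟨e⟩ := CfsgLib.KnownC.centralizer_conj_equiv (Cfsg.inndiagPSL n F) α x
    rw [hstd, hC] at e
    obtain ⟨e'⟩ := CfsgLib.KnownC.pgl_equiv_map hn ι
    exact ⟨e.trans e'⟩
  · have hle : Cfsg.Inn (Matrix.ProjectiveSpecialLinearGroup (Fin n) F) ≤ Cfsg.inndiagPSL n F := by
      rintro _ ⟨y, rfl⟩
      obtain ⟨s, rfl⟩ := QuotientGroup.mk_surjective y
      rw [CfsgLib.KnownC.inndiagPSL_eq_range]
      exact ⟨Matrix.SpecialLinearGroup.toGL s, (CfsgLib.KnownC.conj_eq_semiAut s).symm⟩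
    rw [← CfsgLib.KnownC.splitClassCount_conj _ _ hle α, hstd,
      CfsgLib.KnownC.splitClassCount_eq_gcd hn _ _ hC]
    congr 1
    haveI : NeZero n := ⟨by omega⟩
    have hdet : (((Matrix.GeneralLinearGroup.map (n := Fin n) ι).range).map
        Matrix.GeneralLinearGroup.det) = (CfsgLib.KnownC.unitTwist σ).ker := by
      ext u
      rw [CfsgLib.KnownC.mem_unitTwist_ker, hι]
      constructor
      · rintro ⟨_, ⟨g, rfl⟩, rfl⟩
        exact ⟨_, RingHom.map_det ι g.1⟩
      · rintro ⟨a, ha⟩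
        have ha0 : a ≠ 0 := fun h0 => u.ne_zero (by rw [← ha, h0, map_zero])
        refine ⟨_, ⟨CfsgLib.KnownC.firstDiag (Units.mk0 a ha0), rfl⟩, Units.ext ?_⟩
        have h1 := congrArg Units.val
          (CfsgLib.KnownC.det_firstDiag (n := n) (F := F₀) (Units.mk0 a ha0))
        refine (RingHom.map_det ι _).symm.trans ?_
        rw [show ((CfsgLib.KnownC.firstDiag (n := n) (Units.mk0 a ha0)).1).det = a from h1, ha]
    rw [hdet]
    have hidx := (CfsgLib.KnownC.unitTwist σ).ker.card_mul_index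
    rw [CfsgLib.KnownC.card_fixed_units σ hF, hoσ, Nat.card_units, Nat.card_eq_fintype_card, hF] at hidx
    rw [← hidx, Nat.mul_div_cancel_left]
    have : p ^ 1 ≤ p ^ (f / r) := Nat.pow_le_pow_right (Fact.out : p.Prime).pos
      (Nat.div_pos (Nat.le_of_dvd hf hdvd) hr.pos)
    have := (Fact.out : p.Prime).two_le
    rw [pow_one] at *
    omega

end Cfsg.Agent.S2698
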