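import Cfsg.Statements.S2704
import Cfsg.Agent.Lib.KnownC.AutPSLUnitary

set_option autoImplicit false
open Cfsg

namespace Cfsg.Agent.S2704

/-- Let T = PSL_n(F) over the field F with p^f elements, n ≥ 3, and G = Inndiag(T) the image of PGL_n(F). If x is an involutory graph-field automorphism of T then f is even; x is G-conjugate to every other involutory graph-field automorphism; C_G(x) is isomorphic to the projective general unitary group PGU_n(q₀) with q₀² = p^f, realised over F itself through the Hermitian form Σ uᵢ vᵢ^{q₀}; and the G-class of x is the union of exactly gcd(n, q₀ − 1) T-classes. -/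
theorem result {F : Type*} [Field F] [Fintype F] {p f : ℕ} [Fact p.Prime] (hF : Fintype.card F = p ^ f) (hf : 1 ≤ f) {n : ℕ} (hn : 3 ≤ n) (x : MulAut (Matrix.ProjectiveSpecialLinearGroup (Fin n) F)) (hx : Cfsg.IsGraphFieldAutClassPSL x) (hx2 : orderOf x = 2) :
    Even f ∧ (∀ y : MulAut (Matrix.ProjectiveSpecialLinearGroup (Fin n) F), Cfsg.IsGraphFieldAutClassPSL y → orderOf y = 2 → Cfsg.IsConjUnder (Cfsg.inndiagPSL n F) x y) ∧ Nonempty (↥(Cfsg.inndiagPSL n F ⊓ Subgroup.centralizer {x}) ≃* Cfsg.PGU n F (p ^ (f / 2))) ∧ Cfsg.splitClassCount (Cfsg.inndiagPSL n F) (Cfsg.Inn (Matrix.ProjectiveSpecialLinearGroup (Fin n) F)) x = Nat.gcd n (p ^ (f / 2) - 1) := by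
  haveI := CfsgLib.KnownC.inndiag_normal (F := F) (n := n) (by omega)
  have hn2 : 2 ≤ n := by omega
  obtain ⟨-, α, φ, γ, σ, hσ, hφ, hγ, hstd⟩ := hx
  rw [CfsgLib.KnownC.isStdFieldAutPSL_iff] at hφ
  rw [CfsgLib.KnownC.isInverseTransposeAutPSL_iff] at hγ
  subst hφ hγ
  obtain ⟨-, hoσ⟩ := CfsgLib.KnownC.orderOf_graphField hn Nat.prime_two (σ := σ)
    (by rw [← hstd, ← hx2, ← MulAut.conj_apply, MulEquiv.orderOf_eq]) hσ
  obtain ⟨hev, hq⟩ := CfsgLib.KnownC.apply_of_orderOf_two hF σ hoσ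
  have hσσ : ∀ a, σ (σ a) = a := fun a => by
    have := pow_orderOf_eq_one σ
    rw [hoσ, sq] at this
    exact RingEquiv.congr_fun this a
  refine ⟨even_iff_two_dvd.2 hev, fun y hy hy2 => ?_, ?_, ?_⟩
  · obtain ⟨-, α', φ', γ', σ', hσ', hφ', hγ', hstd'⟩ := hy
    rw [CfsgLib.KnownC.isStdFieldAutPSL_iff] at hφ'
    rw [CfsgLib.KnownC.isInverseTransposeAutPSL_iff] at hγ'
    subst hφ' hγ'
    obtain ⟨-, hoσ'⟩ := CfsgLib.KnownC.orderOf_graphField hn Nat.prime_two (σ := σ')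
      (by rw [← hstd', ← hy2, ← MulAut.conj_apply, MulEquiv.orderOf_eq]) hσ'
    obtain rfl : σ = σ' := RingEquiv.ext fun a => by
      rw [hq, (CfsgLib.KnownC.apply_of_orderOf_two hF σ' hoσ').2]
    rw [← CfsgLib.KnownC.isConjUnder_conj_iff (Cfsg.inndiagPSL n F) α, hstd]
    set z := CfsgLib.KnownC.semiAut (1 : Matrix.GeneralLinearGroup (Fin n) F) σ * CfsgLib.KnownC.itAut
      with hz
    have hy' : α * y * α⁻¹ = (α * α'⁻¹) * z * (α * α'⁻¹)⁻¹ := by rw [← hstd']; group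
    rw [hy']
    have hcomm : ∀ τ : F ≃+* F, Commute (CfsgLib.KnownC.semiAut (1 : Matrix.GeneralLinearGroup (Fin n) F) τ) z := fun τ => by
      have h1 : Commute (CfsgLib.KnownC.semiAut (1 : Matrix.GeneralLinearGroup (Fin n) F) τ)
          (CfsgLib.KnownC.semiAut 1 σ) := by
        show _ * _ = _ * _
        rw [CfsgLib.KnownC.semiAut_mul, CfsgLib.KnownC.semiAut_mul, map_one, map_one,
          CfsgLib.KnownC.ringAut_mul_comm hF]
      exact h1.mul_right (CfsgLib.KnownC.itAut_comm_semiAut_one τ).symm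
    have hit : Commute (CfsgLib.KnownC.itAut (n := n) (F := F)) z :=
      Commute.mul_right (CfsgLib.KnownC.itAut_comm_semiAut_one σ) (Commute.refl _)
    have key : ∀ β : MulAut (Matrix.ProjectiveSpecialLinearGroup (Fin n) F),
        ∃ g, β * z * β⁻¹ = CfsgLib.KnownC.inndiagHom g * z * (CfsgLib.KnownC.inndiagHom g)⁻¹ := by
      intro β
      rcases CfsgLib.KnownC.mulAut_psl_cases hn2 β with ⟨g, τ, rfl⟩ | ⟨-, g, τ, rfl⟩
      · refine ⟨g, ?_⟩
        rw [CfsgLib.KnownC.semiAut_eq_mul, mul_assoc (CfsgLib.KnownC.inndiagHom g), (hcomm τ).eq]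
        group
      · refine ⟨g, ?_⟩
        rw [CfsgLib.KnownC.semiAut_eq_mul,
          mul_assoc _ CfsgLib.KnownC.itAut z, hit.eq,
          ← mul_assoc (CfsgLib.KnownC.inndiagHom g * _) z, mul_assoc (CfsgLib.KnownC.inndiagHom g),
          (hcomm τ).eq]
        group
    obtain ⟨g, hg⟩ := key (α * α'⁻¹)
    exact ⟨CfsgLib.KnownC.inndiagHom g, by rw [CfsgLib.KnownC.inndiagPSL_eq_range]; exact ⟨g, rfl⟩, hg⟩
  · obtain ⟨e⟩ := CfsgLib.KnownC.centralizer_conj_equiv (Cfsg.inndiagPSL n F) α x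
    rw [hstd, CfsgLib.KnownC.centralizer_graphField hn σ hoσ (Cfsg.GU n F (p ^ (f / 2)))
      (CfsgLib.KnownC.mem_GU_iff σ hq hσσ)] at e
    obtain ⟨e'⟩ := CfsgLib.KnownC.projQuot_equiv_map hn2 (Cfsg.GU n F (p ^ (f / 2)))
    exact ⟨e.trans e'⟩
  · have hle : Cfsg.Inn (Matrix.ProjectiveSpecialLinearGroup (Fin n) F) ≤ Cfsg.inndiagPSL n F := by
      rintro _ ⟨y, rfl⟩
      obtain ⟨s, rfl⟩ := QuotientGroup.mk_surjective y
      rw [CfsgLib.KnownC.inndiagPSL_eq_range]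
      exact ⟨Matrix.SpecialLinearGroup.toGL s, (CfsgLib.KnownC.conj_eq_semiAut s).symm⟩
    haveI : NeZero n := ⟨by omega⟩
    rw [← CfsgLib.KnownC.splitClassCount_conj _ _ hle α, hstd,
      CfsgLib.KnownC.splitClassCount_eq_gcd hn2 _ (Cfsg.GU n F (p ^ (f / 2)))
        (CfsgLib.KnownC.centralizer_graphField hn σ hoσ _ (CfsgLib.KnownC.mem_GU_iff σ hq hσσ)),
      CfsgLib.KnownC.det_GU σ hq hoσ, Subgroup.index_ker, CfsgLib.KnownC.unitNorm_range,
      CfsgLib.KnownC.card_fixed_units σ hF, hoσ]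

end Cfsg.Agent.S2704
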