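import Cfsg.Statements.S2705
import Cfsg.Agent.Lib.KnownC.AutPSUField

set_option autoImplicit false
open Cfsg

namespace Cfsg.Agent.S2705

/-- Let T = PSU_n(q) be simple (n ≥ 3, (n, q) ≠ (3, 2), q = p^f), realised over the field F with q² elements, G = Inndiag(T) the image of PGU_n(q) in Aut(T), and x a field automorphism of T (conjugate to a standard field automorphism of odd order) of odd prime order r. Then r divides f; C_G(x) is isomorphic to PGU_n(q₀) with q₀ = p^(f/r), realised over a field F₀ with q₀² elements; and the G-class of x is the union of exactly gcd(n, (q + 1)/(q₀ + 1)) T-classes. -/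
theorem result {F : Type*} [Field F] [Fintype F] {p f q : ℕ} [Fact p.Prime] (hq : q = p ^ f) (hf : 1 ≤ f) (hF : Fintype.card F = q ^ 2) {n : ℕ} (hn : 3 ≤ n) (hs : ¬ (n = 3 ∧ q = 2)) (x : MulAut (Cfsg.PSU n F q)) (hx : Cfsg.IsFieldAutClassPSU x) {r : ℕ} (hr : r.Prime) (hro : Odd r) (hxr : orderOf x = r) (F₀ : Type*) [Field F₀] [Fintype F₀] (hF₀ : Fintype.card F₀ = p ^ (2 * (f / r))) :
    r ∣ f ∧ Nonempty (↥(Cfsg.inndiagPSU n F q ⊓ Subgroup.centralizer {x}) ≃* Cfsg.PGU n F₀ (p ^ (f / r))) ∧ Cfsg.splitClassCount (Cfsg.inndiagPSU n F q) (Cfsg.Inn (Cfsg.PSU n F q)) x = Nat.gcd n ((q + 1) / (p ^ (f / r) + 1)) := by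
  haveI := CfsgLib.KnownC.inndiagPSU_normal (F := F) hF hn hs
  obtain ⟨α, φ₀, σ, hσ, hσodd, hφ₀, hαx⟩ := hx
  rw [CfsgLib.KnownC.isFieldAutPSUOf_iff] at hφ₀
  have hstd : α * x * α⁻¹ = CfsgLib.KnownC.psuSemiAut 1 σ := hαx.trans hφ₀
  have hoσ : orderOf σ = r := by
    rw [← CfsgLib.KnownC.orderOf_psuSemiAut_one (n := n) hF hn hs, ← hstd, ← hxr, ← MulAut.conj_apply,
      MulEquiv.orderOf_eq]
  have hF' : Fintype.card F = p ^ (2 * f) := by rw [hF, hq, ← pow_mul, mul_comm]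
  obtain ⟨hdvd, -, hemb⟩ := CfsgLib.KnownC.exists_fixed_embedding σ hF'
  rw [hoσ] at hdvd hemb
  have hrf : r ∣ f := ((Nat.coprime_two_left.2 hro).symm).dvd_of_dvd_mul_left hdvd
  have hdiv : 2 * f / r = 2 * (f / r) := Nat.mul_div_assoc 2 hrf
  obtain ⟨ι, hι⟩ := hemb F₀ (by rw [hdiv]; exact hF₀)
  have hF₀' : Fintype.card F₀ = (p ^ (f / r)) ^ 2 := by rw [hF₀, ← pow_mul, mul_comm]
  have hq' : q = (p ^ (f / r)) ^ r := by rw [← pow_mul, Nat.div_mul_cancel hrf, hq]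
  obtain ⟨φ, hφ, hC⟩ := CfsgLib.KnownC.centralizer_fieldPSU hF hn hs hF₀' hq' σ hoσ hro ι hι
  refine ⟨hrf, ?_, ?_⟩
  · obtain ⟨e⟩ := CfsgLib.KnownC.centralizer_conj_equiv (Cfsg.inndiagPSU n F q) α x
    rw [hstd, hC] at e
    obtain ⟨e'⟩ := CfsgLib.KnownC.pgu_equiv_range hF hn hs ι φ hφ
    exact ⟨e.trans e'⟩
  rw [MonoidHom.range_comp] at hC
  rw [← CfsgLib.KnownC.splitClassCount_conj _ _ (CfsgLib.KnownC.inn_le_inndiagPSU hF (by omega)) α, hstd,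
    CfsgLib.KnownC.splitClassCountPSU_eq hF hn hs _ _ hC,
    CfsgLib.KnownC.index_det_centralizer hF (by omega) hF₀' hq' hro ι φ hφ, Nat.gcd_assoc]
  congr 1
  refine Nat.gcd_eq_right (Nat.div_dvd_of_dvd ?_)
  rw [hq']
  simpa using hro.nat_add_dvd_pow_add_pow (p ^ (f / r)) 1

end Cfsg.Agent.S2705
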