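import Cfsg.Statements.S2711
import Cfsg.Agent.Lib.KnownC.AutPSUField

set_option autoImplicit false
open Cfsg

namespace Cfsg.Agent.S2711

/-- Let T = PSU_n(q) be simple (n ≥ 3, (n,q) ≠ (3,2)), realised over the field F with q² elements, and let x be a field automorphism of T (conjugate to a standard field automorphism of odd order) of prime order r. Then an element y of the coset Inndiag(T)·x (y = δ x with δ in the image of PGU_n(q)) has order r if and only if y is conjugate to x by an element of Inndiag(T). (T has no graph-field automorphisms.) -/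
theorem result {F : Type*} [Field F] [Fintype F] {p f q : ℕ} [Fact p.Prime] (hq : q = p ^ f) (hf : 1 ≤ f) (hF : Fintype.card F = q ^ 2) {n : ℕ} (hn : 3 ≤ n) (hs : ¬ (n = 3 ∧ q = 2)) (x δ : MulAut (Cfsg.PSU n F q)) (hx : Cfsg.IsFieldAutClassPSU x) {r : ℕ} (hr : r.Prime) (hxr : orderOf x = r) (hδ : δ ∈ Cfsg.inndiagPSU n F q) :
    orderOf (δ * x) = r ↔ Cfsg.IsConjUnder (Cfsg.inndiagPSU n F q) x (δ * x) := by
  haveI := CfsgLib.KnownC.inndiagPSU_normal (F := F) hF hn hs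
  constructor
  swap
  · rintro ⟨h, -, he⟩
    rw [he, ← MulAut.conj_apply, MulEquiv.orderOf_eq, hxr]
  intro hord
  obtain ⟨α, φ₀, σ, hσ, hσodd, hφ₀, hαx⟩ := hx
  rw [CfsgLib.KnownC.isFieldAutPSUOf_iff] at hφ₀
  have hstd : α * x * α⁻¹ = CfsgLib.KnownC.psuSemiAut 1 σ := hαx.trans hφ₀
  rw [← CfsgLib.KnownC.isConjUnder_conj_iff (Cfsg.inndiagPSU n F q) α]
  have hδ' : α * δ * α⁻¹ ∈ Cfsg.inndiagPSU n F q := Subgroup.Normal.conj_mem inferInstance δ hδ α
  rw [CfsgLib.KnownC.inndiagPSU_eq_range] at hδ'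
  obtain ⟨g, hg⟩ := hδ'
  have hoσ : orderOf σ = r := by
    rw [← CfsgLib.KnownC.orderOf_psuSemiAut_one (n := n) hF hn hs, ← hstd, ← hxr, ← MulAut.conj_apply,
      MulEquiv.orderOf_eq]
  have hro : Odd r := hoσ ▸ hσodd
  have hy : α * (δ * x) * α⁻¹ = CfsgLib.KnownC.psuSemiAut g σ := by
    rw [CfsgLib.KnownC.psuSemiAut_eq_mul, hg, ← hstd]; group
  have hF' : Fintype.card F = p ^ (2 * f) := by rw [hF, hq, ← pow_mul, mul_comm]
  obtain ⟨hdvd, -, hemb⟩ := CfsgLib.KnownC.exists_fixed_embedding σ hF'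
  rw [hoσ] at hdvd hemb
  have hrf : r ∣ f := ((Nat.coprime_two_left.2 hro).symm).dvd_of_dvd_mul_left hdvd
  have hdiv : 2 * f / r = 2 * (f / r) := Nat.mul_div_assoc 2 hrf
  have hpos : 0 < f / r := Nat.div_pos (Nat.le_of_dvd (by omega) hrf) hr.pos
  haveI : Fintype (GaloisField p (2 * (f / r))) := Fintype.ofFinite _
  have hF₀ : Fintype.card (GaloisField p (2 * (f / r))) = p ^ (2 * (f / r)) := by
    rw [← Nat.card_eq_fintype_card, GaloisField.card p _ (by omega)]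
  obtain ⟨ι, hι⟩ := hemb (GaloisField p (2 * (f / r))) (by rw [hdiv]; exact hF₀)
  have hF₀' : Fintype.card (GaloisField p (2 * (f / r))) = (p ^ (f / r)) ^ 2 := by
    rw [hF₀, ← pow_mul, mul_comm]
  have hq' : q = (p ^ (f / r)) ^ r := by rw [← pow_mul, Nat.div_mul_cancel hrf, hq]
  obtain ⟨k, hk⟩ := CfsgLib.KnownC.exists_conj_fieldPSU hF hn hs hF₀' hq' σ hoσ hro ι hι g (by
    rw [← hy, ← MulAut.conj_apply, ← map_pow, ← hord, pow_orderOf_eq_one, map_one])
  refine ⟨CfsgLib.KnownC.psuInndiagHom k, ?_, ?_⟩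
  · rw [CfsgLib.KnownC.inndiagPSU_eq_range]; exact ⟨k, rfl⟩
  · rw [hy, hk, hstd]

end Cfsg.Agent.S2711
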