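import Cfsg.Statements.S2712
import Cfsg.Agent.Lib.KnownC.AutPSpField

set_option autoImplicit false
open Cfsg

namespace Cfsg.Agent.S2712

/-- Let T = PSp_{2m}(F) be simple over the field F with p^f elements (m ≥ 2, (2m, |F|) ≠ (4, 2)), G = Inndiag(T) the image of the projective conformal symplectic group PGSp_{2m}(F), and x a field automorphism of T of prime order r. Then r divides f; C_G(x) is isomorphic to PGSp_{2m}(F₀) for a field F₀ with p^(f/r) elements; and the G-class of x is the union of exactly gcd(gcd(2, p^f − 1), r) T-classes. -/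
theorem result {F : Type*} [Field F] [Fintype F] {p f : ℕ} [Fact p.Prime] (hF : Fintype.card F = p ^ f) (hf : 1 ≤ f) {m : ℕ} (hm : 2 ≤ m) (hs : m = 2 → 3 ≤ Fintype.card F) (x : MulAut (Cfsg.PSp m F)) (hx : Cfsg.IsFieldAutClassPSp x) {r : ℕ} (hr : r.Prime) (hxr : orderOf x = r) (F₀ : Type*) [Field F₀] [Fintype F₀] (hF₀ : Fintype.card F₀ = p ^ (f / r)) :
    r ∣ f ∧ Nonempty (↥(Cfsg.inndiagPSp m F ⊓ Subgroup.centralizer {x}) ≃* Cfsg.PGSp m F₀) ∧ Cfsg.splitClassCount (Cfsg.inndiagPSp m F) (Cfsg.Inn (Cfsg.PSp m F)) x = Nat.gcd (Nat.gcd 2 (p ^ f - 1)) r := by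
  haveI := CfsgLib.KnownC.inndiagPSp_normal (F := F) hm
  obtain ⟨α, σ, hσ, hstd⟩ := hx
  rw [CfsgLib.KnownC.isStdFieldAutPSp_iff] at hstd
  have hoσ : orderOf σ = r := by
    rw [← CfsgLib.KnownC.orderOf_spSemiAut_one (F := F) hm, ← hstd, ← hxr, ← MulAut.conj_apply,
      MulEquiv.orderOf_eq]
  obtain ⟨hdvd, -, hemb⟩ := CfsgLib.KnownC.exists_fixed_embedding σ hF
  rw [hoσ] at hdvd hemb
  obtain ⟨ι, hι⟩ := hemb F₀ hF₀
  obtain ⟨φ, hφ, hmult, hC⟩ := CfsgLib.KnownC.centralizer_fieldPSp hm σ ι hι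
  refine ⟨hdvd, ?_, ?_⟩
  · obtain ⟨e⟩ := CfsgLib.KnownC.centralizer_conj_equiv (Cfsg.inndiagPSp m F) α x
    rw [hstd, hC] at e
    obtain ⟨e'⟩ := CfsgLib.KnownC.pgsp_equiv_range hm ι φ hφ
    exact ⟨e.trans e'⟩
  rw [MonoidHom.range_comp] at hC
  rw [← CfsgLib.KnownC.splitClassCount_conj _ _ (CfsgLib.KnownC.inn_le_inndiagPSp (by omega)) α, hstd,
    CfsgLib.KnownC.splitClassCountPSp_eq hm _ _ hC]
  have himg : φ.range.map (CfsgLib.KnownC.gspMultHom (m := m) (by omega)) =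
      (CfsgLib.KnownC.unitTwist σ).ker := by
    ext u
    rw [CfsgLib.KnownC.mem_unitTwist_ker, hι]
    constructor
    · rintro ⟨_, ⟨h, rfl⟩, rfl⟩
      exact ⟨_, (hmult h).symm⟩
    · rintro ⟨a, ha⟩
      have ha0 : a ≠ 0 := fun h0 => u.ne_zero (by rw [← ha, h0, map_zero])
      obtain ⟨h, hh⟩ := CfsgLib.KnownC.exists_gspMult_eq (m := m) (by omega) (Units.mk0 a ha0)
      exact ⟨φ h, ⟨h, rfl⟩, Units.ext ((hmult h).trans (by rw [hh]; exact ha))⟩
  rw [himg, Nat.card_units, Nat.card_eq_fintype_card, hF]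
  have hidx := (CfsgLib.KnownC.unitTwist σ).ker.card_mul_index
  rw [CfsgLib.KnownC.card_fixed_units σ hF, hoσ, Nat.card_units, Nat.card_eq_fintype_card, hF] at hidx
  rcases (Fact.out : p.Prime).eq_two_or_odd' with rfl | hodd
  · have h1 : Nat.gcd 2 (2 ^ f - 1) = 1 := by
      refine (Nat.prime_two.coprime_iff_not_dvd).2 fun h => ?_
      have h2 : 2 ∣ 2 ^ f := dvd_pow_self 2 (by omega)
      have h3 : 1 ≤ 2 ^ f := Nat.one_le_two_pow
      omega
    rw [h1, Nat.gcd_one_left, Nat.gcd_one_left]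
  have hq : Odd (p ^ f) := hodd.pow
  have hq0 : Odd (p ^ (f / r)) := hodd.pow
  have h2d : 2 ∣ p ^ f - 1 := by obtain ⟨k, hk⟩ := hq; exact ⟨k, by omega⟩
  rw [Nat.gcd_eq_left h2d]
  have hpf : p ^ f = (p ^ (f / r)) ^ r := by rw [← pow_mul, Nat.div_mul_cancel hdvd]
  set q₀ := p ^ (f / r)
  have hq01 : 1 < q₀ := Nat.one_lt_pow (Nat.div_pos (Nat.le_of_dvd hf hdvd) hr.pos).ne'
    (Fact.out : p.Prime).one_lt
  have hgeom : (q₀ - 1) * (∑ i ∈ Finset.range r, q₀ ^ i) = p ^ f - 1 := by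
    rw [hpf, mul_comm, ← geom_sum_mul_of_one_le (x := q₀) (by omega) r]
  rw [Nat.eq_of_mul_eq_mul_left (by omega : 0 < q₀ - 1) (hidx.trans hgeom.symm)]
  have hmod : (∑ i ∈ Finset.range r, q₀ ^ i) % 2 = r % 2 := by
    rw [Finset.sum_nat_mod, Finset.sum_congr rfl (fun i _ => Nat.odd_iff.1 hq0.pow), Finset.sum_const,
      Finset.card_range, smul_eq_mul, mul_one]
  rw [Nat.gcd_rec 2, Nat.gcd_rec 2 r, hmod]

end Cfsg.Agent.S2712
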