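import Cfsg.Statements.S2713
import Cfsg.Agent.Lib.KnownC.AutPSpField

set_option autoImplicit false
open Cfsg

namespace Cfsg.Agent.S2713

/-- Let T = PSp_{2m}(F) be simple over a finite field (m ≥ 2, (2m, |F|) ≠ (4, 2)) and let x be a field automorphism of T of prime order r. Then an element y of the coset Inndiag(T)·x (y = δ x with δ in the image of the projective conformal symplectic group) has order r if and only if y is conjugate to x by an element of Inndiag(T). -/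
theorem result {F : Type*} [Field F] [Fintype F] {m : ℕ} (hm : 2 ≤ m) (hs : m = 2 → 3 ≤ Fintype.card F) (x δ : MulAut (Cfsg.PSp m F)) (hx : Cfsg.IsFieldAutClassPSp x) {r : ℕ} (hr : r.Prime) (hxr : orderOf x = r) (hδ : δ ∈ Cfsg.inndiagPSp m F) :
    orderOf (δ * x) = r ↔ Cfsg.IsConjUnder (Cfsg.inndiagPSp m F) x (δ * x) := by
  haveI := CfsgLib.KnownC.inndiagPSp_normal (F := F) hm
  constructor
  swap
  · rintro ⟨h, -, he⟩
    rw [he, ← MulAut.conj_apply, MulEquiv.orderOf_eq, hxr]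
  intro hord
  obtain ⟨α, σ, hσ, hstd⟩ := hx
  rw [CfsgLib.KnownC.isStdFieldAutPSp_iff] at hstd
  rw [← CfsgLib.KnownC.isConjUnder_conj_iff (Cfsg.inndiagPSp m F) α]
  have hδ' : α * δ * α⁻¹ ∈ Cfsg.inndiagPSp m F := Subgroup.Normal.conj_mem inferInstance δ hδ α
  rw [CfsgLib.KnownC.inndiagPSp_eq_range] at hδ'
  obtain ⟨g, hg⟩ := hδ'
  have hoσ : orderOf σ = r := by
    rw [← CfsgLib.KnownC.orderOf_spSemiAut_one (F := F) hm, ← hstd, ← hxr, ← MulAut.conj_apply,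
      MulEquiv.orderOf_eq]
  have hy : α * (δ * x) * α⁻¹ = CfsgLib.KnownC.spSemiAut g σ := by
    rw [CfsgLib.KnownC.spSemiAut_eq_mul, hg, ← hstd]; group
  let S : Subfield F := (σ : F →+* F).eqLocusField (RingHom.id F)
  have hS : ∀ a, σ a = a ↔ ∃ b : S, S.subtype b = a :=
    fun a => ⟨fun h => ⟨⟨a, h⟩, rfl⟩, fun ⟨b, hb⟩ => hb ▸ b.2⟩
  obtain ⟨k, hk⟩ := CfsgLib.KnownC.exists_conj_fieldPSp hm σ S.subtype hS g (by
    rw [hoσ, ← hy, ← MulAut.conj_apply, ← map_pow, ← hord, pow_orderOf_eq_one, map_one])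
  refine ⟨CfsgLib.KnownC.spInndiagHom k, ?_, ?_⟩
  · rw [CfsgLib.KnownC.inndiagPSp_eq_range]; exact ⟨k, rfl⟩
  · rw [hy, hk, hstd]

end Cfsg.Agent.S2713
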