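import Cfsg.Statements.S2718
import Cfsg.Agent.Lib.Classical.OrthGraphSplit

set_option autoImplicit false
open Cfsg

namespace Cfsg.Agent.S2718

/-- Let T = PΩ⁺_{2m}(F) with m ≥ 4 and |F| = q odd, G = Inndiag(T), and γ an involutory graph automorphism of T induced by a similarity (one interchanging the two classes of maximal totally singular subspaces). Then the G-class of γ is either a single T-class or the union of exactly two T-classes, and it is the union of two unless m is odd and q ≡ 3 (mod 4). -/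
theorem result {F : Type*} [Field F] [Fintype F] (hodd : Odd (Fintype.card F)) {m : ℕ} (hm : 4 ≤ m) (γ : MulAut (Cfsg.POmega F (Cfsg.quadFormPlus m F))) (hγ : Cfsg.IsSimilarityGraphAutPOmegaPlus m γ) (hγ2 : orderOf γ = 2) :
    (Cfsg.splitClassCount (Cfsg.inndiagPOmegaPlus m F) (Cfsg.Inn (Cfsg.POmega F (Cfsg.quadFormPlus m F))) γ = 1 ∨ Cfsg.splitClassCount (Cfsg.inndiagPOmegaPlus m F) (Cfsg.Inn (Cfsg.POmega F (Cfsg.quadFormPlus m F))) γ = 2) ∧ (¬ (Odd m ∧ Fintype.card F % 4 = 3) → Cfsg.splitClassCount (Cfsg.inndiagPOmegaPlus m F) (Cfsg.Inn (Cfsg.POmega F (Cfsg.quadFormPlus m F))) γ = 2) := by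
  have h2 := CfsgLib.Classical.two_ne_zero_of_odd (F := F) hodd
  revert γ
  have hI : Cfsg.inndiagPOmegaPlus m F = Subgroup.closure {β | Cfsg.IsInnerDiagonalAutPOmegaPlus m β} := rfl
  simp only [Cfsg.IsInnerDiagonalAutPOmegaPlus] at hI
  rw [hI]
  simp only [Cfsg.IsSimilarityGraphAutPOmegaPlus]
  rw [← CfsgLib.Classical.qfPlus_coe, CfsgLib.Classical.inndiagPlus_eq h2 (by omega)]
  rintro γ ⟨g, hg, hnp, hind⟩ hγ2
  have h := (CfsgLib.Classical.SemiSim.similarity_pair_iff g).1 hg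
  rw [(CfsgLib.Classical.SemiSim.isInduced_iff h γ).1 hind] at hγ2 ⊢
  obtain ⟨l, hl⟩ := CfsgLib.Classical.SemiSim.exists_scalar_of_orderOf_two
    (CfsgLib.Classical.framePlus m (by omega)) hγ2
  have hd : (CfsgLib.Classical.SemiSim.ofPair h).sdet ≠ ((CfsgLib.Classical.SemiSim.ofPair h).c : F) ^ m :=
    fun e => hnp ((CfsgLib.Classical.preservesClassesPlus_iff h2 (by omega) h).2
      (CfsgLib.Classical.SemiSim.mem_diagSub.2 ⟨rfl, e⟩))
  obtain ⟨c, hc⟩ := CfsgLib.Classical.exists_nonsquare_class (F := F) h2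
  obtain ⟨τ, hτ, hτc, -⟩ := CfsgLib.Classical.exists_tau_plus h2 (show 3 ≤ m by omega) c
  obtain ⟨h1, h1'⟩ := CfsgLib.Classical.SemiSim.split_count (CfsgLib.Classical.qfPlus_sep m) h2
    (CfsgLib.Classical.card_plus_index m) (CfsgLib.Classical.framePlus m (by omega)) (by omega)
    ⟨τ, hτ, by rw [hτc]; exact hc⟩ rfl hd hl
  exact ⟨h1, fun hn => h1' (Or.inl ((CfsgLib.Classical.spin_negI_plus h2 m).2
    ((CfsgLib.Classical.pow_mod_four_eq_one_iff hodd m).2 hn)))⟩

end Cfsg.Agent.S2718
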