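import Cfsg.Statements.S2719
import Cfsg.Agent.Lib.Classical.OrthGraphSplit

set_option autoImplicit false
open Cfsg

namespace Cfsg.Agent.S2719

theorem aux {F : Type*} [Field F] [Fintype F] (hodd : Odd (Fintype.card F)) {m : ℕ} (hm : 3 ≤ m) (a b : F)
    (hab : ∀ z₁ z₂ : F, z₁ ^ 2 + a * z₁ * z₂ + b * z₂ ^ 2 = 0 → z₁ = 0 ∧ z₂ = 0)
    (Qf : ((Fin m ⊕ Fin m) ⊕ Fin 2 → F) → F) (e : ⇑(CfsgLib.Classical.qfMinus m F a b) = Qf)
    (γ : MulAut (Cfsg.POmega F Qf)) (hgam : γ ∈ Cfsg.gammaPOmega F Qf) :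
    let G := Subgroup.closure {β : MulAut (Cfsg.POmega F Qf) | ∃ g : GL ((Fin m ⊕ Fin m) ⊕ Fin 2) F,
      g ∈ Cfsg.Geo.quadSimilarityGroup (F := F) Qf ∧
        Cfsg.PreservesSingularClassesMinus m a b
          (g.val : Matrix ((Fin m ⊕ Fin m) ⊕ Fin 2) ((Fin m ⊕ Fin m) ⊕ Fin 2) F) ∧
        Cfsg.IsInducedBySemilinearPOmega Qf g (RingEquiv.refl F) β}
    γ ∉ G → orderOf γ = 2 →
      (Cfsg.splitClassCount G (Cfsg.Inn (Cfsg.POmega F Qf)) γ = 1 ∨
        Cfsg.splitClassCount G (Cfsg.Inn (Cfsg.POmega F Qf)) γ = 2) ∧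
      (¬ (Even m ∧ Fintype.card F % 4 = 1) →
        Cfsg.splitClassCount G (Cfsg.Inn (Cfsg.POmega F Qf)) γ = 2) := by
  subst e
  intro G hni hγ2
  have h2 := CfsgLib.Classical.two_ne_zero_of_odd (F := F) hodd
  simp only [G] at hni ⊢
  rw [CfsgLib.Classical.inndiagMinus_eq h2 m hab] at hni ⊢
  obtain ⟨S, rfl⟩ := CfsgLib.Classical.SemiSim.mem_range_of_gamma hgam
  obtain ⟨l, hl⟩ := CfsgLib.Classical.SemiSim.exists_scalar_of_orderOf_two
    (CfsgLib.Classical.frameMinus m hm hab) hγ2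
  have hS : S.σ = 1 := CfsgLib.Classical.SemiSim.σ_eq_one_of_sq (CfsgLib.Classical.qfMinus_sep m hab)
    (CfsgLib.Classical.card_minus_index m) h2 hl (CfsgLib.Classical.disc_minus_nonsquare h2 m hab)
  have hd : S.sdet ≠ (S.c : F) ^ (m + 1) := fun e =>
    hni ⟨S, CfsgLib.Classical.SemiSim.mem_diagSub.2 ⟨hS, e⟩, rfl⟩
  obtain ⟨c, hc⟩ := CfsgLib.Classical.exists_nonsquare_class (F := F) h2
  obtain ⟨τ, hτ, hτc, -⟩ := CfsgLib.Classical.exists_tau_minus h2 hm hab c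
  obtain ⟨h1, h1'⟩ := CfsgLib.Classical.SemiSim.split_count (CfsgLib.Classical.qfMinus_sep m hab) h2
    (CfsgLib.Classical.card_minus_index m) (CfsgLib.Classical.frameMinus m hm hab) (by omega)
    ⟨τ, hτ, by rw [hτc]; exact hc⟩ hS hd hl
  refine ⟨h1, fun hn => h1' ?_⟩
  rcases Nat.even_or_odd m with he | ho
  · refine Or.inl ((CfsgLib.Classical.spin_negI_minus h2 m hab).2
      ((CfsgLib.Classical.pow_succ_mod_four_eq_three_iff hodd m).2 ⟨he, ?_⟩))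
    have := Nat.odd_iff.1 hodd
    have h1 : ¬ Fintype.card F % 4 = 1 := fun e => hn ⟨he, e⟩
    omega
  · exact Or.inr ho.add_one


/-- Let T = PΩ⁻_{2m+2}(F) with m ≥ 3 and |F| = q odd (form with anisotropic binary part z₁² + a z₁ z₂ + b z₂²), G = Inndiag(T), and γ an involutory graph automorphism of T (an automorphism in the image of the semisimilarity group, not inner-diagonal, of order 2). Then the G-class of γ is either a single T-class or the union of exactly two T-classes, and it is the union of two unless m is even and q ≡ 1 (mod 4). -/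
theorem result {F : Type*} [Field F] [Fintype F] (hodd : Odd (Fintype.card F)) {m : ℕ} (hm : 3 ≤ m) (a b : F) (hab : (∀ z₁ z₂ : F, z₁ ^ 2 + a * z₁ * z₂ + b * z₂ ^ 2 = 0 → z₁ = 0 ∧ z₂ = 0)) (γ : MulAut (Cfsg.POmega F (Cfsg.quadFormMinus m F a b))) (hγ : Cfsg.IsGraphAutClassPOmegaMinus m a b γ) (hγ2 : orderOf γ = 2) :
    (Cfsg.splitClassCount (Cfsg.inndiagPOmegaMinus m F a b) (Cfsg.Inn (Cfsg.POmega F (Cfsg.quadFormMinus m F a b))) γ = 1 ∨ Cfsg.splitClassCount (Cfsg.inndiagPOmegaMinus m F a b) (Cfsg.Inn (Cfsg.POmega F (Cfsg.quadFormMinus m F a b))) γ = 2) ∧ (¬ (Even m ∧ Fintype.card F % 4 = 1) → Cfsg.splitClassCount (Cfsg.inndiagPOmegaMinus m F a b) (Cfsg.Inn (Cfsg.POmega F (Cfsg.quadFormMinus m F a b))) γ = 2) := by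
  exact aux hodd hm a b hab _ (CfsgLib.Classical.qfMinus_coe m a b) γ hγ.1 hγ.2.1 hγ2

end Cfsg.Agent.S2719
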