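import Cfsg.Statements.S2723
import Cfsg.Agent.Lib.Classical.OrthDiagStd

set_option autoImplicit false
open Cfsg

namespace Cfsg.Agent.S2723

/-- Let T = PΩ⁺_{2m}(F) with m ≥ 4 and |F| = q odd. The image of the special orthogonal group in Aut(T) contains the inner automorphism group T with index 1 (they coincide) when m is odd and q ≡ 3 (mod 4), and with index 2 otherwise (the index is 2 exactly when the discriminant of the form is a square). -/
theorem result {F : Type*} [Field F] [Fintype F] (hodd : Odd (Fintype.card F)) {m : ℕ} (hm : 4 ≤ m) :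
    ((Odd m ∧ Fintype.card F % 4 = 3) → (Cfsg.Inn (Cfsg.POmega F (Cfsg.quadFormPlus m F))).relIndex (Cfsg.psoAut F (Cfsg.quadFormPlus m F)) = 1) ∧ (¬ (Odd m ∧ Fintype.card F % 4 = 3) → (Cfsg.Inn (Cfsg.POmega F (Cfsg.quadFormPlus m F))).relIndex (Cfsg.psoAut F (Cfsg.quadFormPlus m F)) = 2) := by
  have h2 := CfsgLib.Classical.two_ne_zero_of_odd (F := F) hodd
  rw [← CfsgLib.Classical.qfPlus_coe]
  have h := CfsgLib.Classical.SemiSim.relIndex_pso (CfsgLib.Classical.qfPlus_sep m) h2
    (CfsgLib.Classical.card_plus_index m) (CfsgLib.Classical.framePlus m (by omega))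
  rw [Ne, CfsgLib.Classical.spin_negI_plus h2, CfsgLib.Classical.pow_mod_four_eq_one_iff hodd, not_not] at h
  exact h

end Cfsg.Agent.S2723
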