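import Cfsg.Statements.S2725
import Cfsg.Agent.Lib.Classical.OrthDiagInndiag

set_option autoImplicit false
open Cfsg

namespace Cfsg.Agent.S2725

/-- Let T = PΩ⁺_{2m}(F) with m ≥ 4 and |F| = q odd. The inner-diagonal group G = Inndiag(T) (image of the class-preserving similarities) taken modulo the inner automorphism group T is cyclic of order 2 when m is odd and q ≡ 3 (mod 4), cyclic of order 4 when m is odd and q ≡ 1 (mod 4), and elementary abelian of order 4 when m is even. -/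
theorem result {F : Type*} [Field F] [Fintype F] (hodd : Odd (Fintype.card F)) {m : ℕ} (hm : 4 ≤ m) :
    ((Odd m ∧ Fintype.card F % 4 = 3) → (∃ φ : ↥(Cfsg.inndiagPOmegaPlus m F) →* Multiplicative (ZMod 2), Function.Surjective φ ∧ φ.ker = (Cfsg.Inn (Cfsg.POmega F (Cfsg.quadFormPlus m F))).subgroupOf (Cfsg.inndiagPOmegaPlus m F))) ∧ ((Odd m ∧ Fintype.card F % 4 = 1) → (∃ φ : ↥(Cfsg.inndiagPOmegaPlus m F) →* Multiplicative (ZMod 4), Function.Surjective φ ∧ φ.ker = (Cfsg.Inn (Cfsg.POmega F (Cfsg.quadFormPlus m F))).subgroupOf (Cfsg.inndiagPOmegaPlus m F))) ∧ (Even m → (∃ φ : ↥(Cfsg.inndiagPOmegaPlus m F) →* Multiplicative (ZMod 2 × ZMod 2), Function.Surjective φ ∧ φ.ker = (Cfsg.Inn (Cfsg.POmega F (Cfsg.quadFormPlus m F))).subgroupOf (Cfsg.inndiagPOmegaPlus m F))) := by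
  have h2 := CfsgLib.Classical.two_ne_zero_of_odd (F := F) hodd
  have hI : Cfsg.inndiagPOmegaPlus m F = Subgroup.closure {β | Cfsg.IsInnerDiagonalAutPOmegaPlus m β} := rfl
  simp only [Cfsg.IsInnerDiagonalAutPOmegaPlus] at hI
  rw [hI, ← CfsgLib.Classical.qfPlus_coe, CfsgLib.Classical.inndiagPlus_eq h2 (by omega)]
  obtain ⟨c, hc⟩ := CfsgLib.Classical.exists_nonsquare_class (F := F) h2
  obtain ⟨τ, hτ, hτc, -, w, hw, hsw⟩ := CfsgLib.Classical.exists_tau_plus h2 (show 3 ≤ m by omega) c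
  obtain ⟨hA, hB, hC⟩ := CfsgLib.Classical.SemiSim.diag_mod_inn (CfsgLib.Classical.qfPlus_sep m) h2
    (CfsgLib.Classical.card_plus_index m) (CfsgLib.Classical.framePlus m (by omega)) hτ
    (by rw [hτc]; exact hc) hw
  simp only [ne_eq, CfsgLib.Classical.spin_negI_plus h2, CfsgLib.Classical.pow_mod_four_eq_one_iff hodd,
    not_not] at hA hB hC
  refine ⟨hA, fun h => hB (by omega) ?_, fun h => hC (fun e => Nat.not_even_iff_odd.2 e.1 h) ?_⟩
  · rw [hsw]
    obtain ⟨n, hn⟩ := h.1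
    intro e
    have e' := (Prod.ext_iff.1 e).2
    simp only [hn, pow_succ, pow_mul, sq, CfsgLib.Geom.sqClass_mul_self, one_pow, one_mul] at e'
    exact hc e'
  · rw [hsw]
    obtain ⟨n, hn⟩ := h
    rw [hn, pow_add, CfsgLib.Geom.sqClass_mul_self]
    rfl

end Cfsg.Agent.S2725
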