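import Cfsg.Statements.S2726
import Cfsg.Agent.Lib.Classical.OrthDiagStd

set_option autoImplicit false
open Cfsg

namespace Cfsg.Agent.S2726

/-- Let T = PΩ⁻_{2m+2}(F) with m ≥ 3 and |F| = q odd (form with anisotropic binary part). Inside Aut(T), the image G̃ of the conformal orthogonal group of the form modulo the image of the special orthogonal group is elementary abelian of order 4. -/
theorem result {F : Type*} [Field F] [Fintype F] (hodd : Odd (Fintype.card F)) {m : ℕ} (hm : 3 ≤ m) (a b : F) (hab : (∀ z₁ z₂ : F, z₁ ^ 2 + a * z₁ * z₂ + b * z₂ ^ 2 = 0 → z₁ = 0 ∧ z₂ = 0)) :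
    (∃ φ : ↥(Cfsg.pgoAut F (Cfsg.quadFormMinus m F a b)) →* Multiplicative (ZMod 2 × ZMod 2), Function.Surjective φ ∧ φ.ker = (Cfsg.psoAut F (Cfsg.quadFormMinus m F a b)).subgroupOf (Cfsg.pgoAut F (Cfsg.quadFormMinus m F a b))) := by
  have h2 := CfsgLib.Classical.two_ne_zero_of_odd (F := F) hodd
  rw [← CfsgLib.Classical.qfMinus_coe]
  exact CfsgLib.Classical.SemiSim.pgo_mod_pso (CfsgLib.Classical.frameMinus m hm hab)
    (CfsgLib.Classical.qfMinus_sep m hab) h2 (CfsgLib.Classical.card_minus_index m)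
    (CfsgLib.Classical.exists_ns_minus h2 m hab)

end Cfsg.Agent.S2726
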