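import Cfsg.Statements.S2729
import Cfsg.Agent.Lib.Classical.OrthDiagInndiag

set_option autoImplicit false
open Cfsg

namespace Cfsg.Agent.S2729

/-- Let T = PΩ⁻_{2m+2}(F) with m ≥ 3 and |F| = q odd (form with anisotropic binary part). The inner-diagonal group G = Inndiag(T) (image of the class-preserving similarities) taken modulo the inner automorphism group T is cyclic of order 4 when m is even and q ≡ 3 (mod 4), and of order 2 otherwise. -/
theorem result {F : Type*} [Field F] [Fintype F] (hodd : Odd (Fintype.card F)) {m : ℕ} (hm : 3 ≤ m) (a b : F) (hab : (∀ z₁ z₂ : F, z₁ ^ 2 + a * z₁ * z₂ + b * z₂ ^ 2 = 0 → z₁ = 0 ∧ z₂ = 0)) :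
    ((Even m ∧ Fintype.card F % 4 = 3) → (∃ φ : ↥(Cfsg.inndiagPOmegaMinus m F a b) →* Multiplicative (ZMod 4), Function.Surjective φ ∧ φ.ker = (Cfsg.Inn (Cfsg.POmega F (Cfsg.quadFormMinus m F a b))).subgroupOf (Cfsg.inndiagPOmegaMinus m F a b))) ∧ (¬ (Even m ∧ Fintype.card F % 4 = 3) → (∃ φ : ↥(Cfsg.inndiagPOmegaMinus m F a b) →* Multiplicative (ZMod 2), Function.Surjective φ ∧ φ.ker = (Cfsg.Inn (Cfsg.POmega F (Cfsg.quadFormMinus m F a b))).subgroupOf (Cfsg.inndiagPOmegaMinus m F a b))) := by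
  have h2 := CfsgLib.Classical.two_ne_zero_of_odd (F := F) hodd
  have hI : Cfsg.inndiagPOmegaMinus m F a b =
      Subgroup.closure {β | Cfsg.IsInnerDiagonalAutPOmegaMinus m a b β} := rfl
  simp only [Cfsg.IsInnerDiagonalAutPOmegaMinus] at hI
  rw [hI, ← CfsgLib.Classical.qfMinus_coe, CfsgLib.Classical.inndiagMinus_eq h2 m hab]
  obtain ⟨c, hc⟩ := CfsgLib.Classical.exists_nonsquare_class (F := F) h2
  obtain ⟨τ, hτ, hτc, w, hw, hsw⟩ := CfsgLib.Classical.exists_tau_minus h2 hm hab c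
  obtain ⟨hA, hB, -⟩ := CfsgLib.Classical.SemiSim.diag_mod_inn (CfsgLib.Classical.qfMinus_sep m hab) h2
    (CfsgLib.Classical.card_minus_index m) (CfsgLib.Classical.frameMinus m hm hab) hτ
    (by rw [hτc]; exact hc) hw
  simp only [ne_eq, CfsgLib.Classical.spin_negI_minus h2 m hab,
    CfsgLib.Classical.pow_succ_mod_four_eq_three_iff hodd] at hA hB
  refine ⟨fun h => hB h ?_, hA⟩
  rw [hsw]
  obtain ⟨n, hn⟩ := h.1
  intro e
  have e' := (Prod.ext_iff.1 e).2
  simp only [hn, pow_succ, pow_add, ← mul_pow, CfsgLib.Geom.sqClass_mul_self, one_pow, one_mul] at e'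
  exact hc e'

end Cfsg.Agent.S2729
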