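import Cfsg.Statements.S2730
import Cfsg.Agent.Lib.KnownC.LocalBalancePSp

set_option autoImplicit false
open Cfsg

namespace Cfsg.Agent.S2730

/-- A criterion for the failure of local balance in almost simple groups whose socle is a projective symplectic group PSp_{2m}(F) (m ≥ 2, (2m, |F|) ≠ (4, 2)). Let F be a finite field of characteristic r and K the (simple) group in question; let A be a group of automorphisms of K containing all inner automorphisms, and x ∈ A an automorphism of prime order p ≠ r that is not inner-diagonal (not induced by a conformal symplectic matrix). Then the largest normal subgroup of C_A(x) of order prime to p is nontrivial if and only if x is a field automorphism of K (conjugate under Aut(K) to a non-identity standard field automorphism) and p does not divide the number of fixed points of x on K. -/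
theorem result {F : Type*} [Field F] [Fintype F] {r : ℕ} [Fact r.Prime] [CharP F r] {m : ℕ} (hm : 2 ≤ m) (hs : m = 2 → 3 ≤ Fintype.card F) (hK : IsSimpleGroup (Cfsg.PSp m F)) (A : Subgroup (MulAut (Cfsg.PSp m F))) (hinn : ∀ k : Cfsg.PSp m F, MulAut.conj k ∈ A) {p : ℕ} [Fact p.Prime] (hpr : p ≠ r) (x : MulAut (Cfsg.PSp m F)) (hxA : x ∈ A) (hord : orderOf x = p) (hnot : ¬ Cfsg.IsInnerDiagonalAutPSp x) :
    Cfsg.pPrimeCore p ↥(A ⊓ Subgroup.centralizer {x}) ≠ ⊥ ↔ (Cfsg.IsFieldAutClassPSp x ∧ Nat.Coprime p (Nat.card ↥(MonoidHom.eqLocus x.toMonoidHom (MonoidHom.id (Cfsg.PSp m F))))) := by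
  classical
  open CfsgLib.KnownC in
  exact (by
    have hm1 : 1 ≤ m := by omega
    haveI : Finite (Matrix.symplecticGroup (Fin m) F) := Subtype.finite
    haveI : Finite (MulAut (Cfsg.PSp m F)) :=
      Finite.of_injective (fun e : MulAut (Cfsg.PSp m F) => (e : Cfsg.PSp m F → Cfsg.PSp m F))
        DFunLike.coe_injective
    haveI := hK
    have hp : p.Prime := Fact.out
    obtain ⟨g, σ, rfl⟩ : ∃ g σ, x = spSemiAut g σ := by
      by_cases h : (2 : F) ≠ 0 ∨ 3 ≤ m
      · exact exists_spSemiAut hm h x
      · simp only [not_or, not_le, ne_eq, not_not] at h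
        obtain rfl : m = 2 := by omega
        haveI : CharP F 2 := CharTwo.of_one_ne_zero_of_two_eq_zero one_ne_zero h.1
        have hr : r = 2 := CharP.eq F ‹CharP F r› ‹CharP F 2›
        have hidx : (spSemiSubgroup 2 F).index = 2 := by
          have h1 := (spSemiSubgroup 2 F).card_mul_index
          rw [card_mulAut_psp_four, card_spSemiSubgroup le_rfl, card_inndiagPSp le_rfl] at h1
          have hpos : 0 < Nat.card (F ≃+* F) * (Nat.gcd 2 (Nat.card Fˣ) * Nat.card (Cfsg.PSp 2 F)) := by
            haveI : Finite (F ≃+* F) :=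
              Finite.of_injective (fun s : F ≃+* F => (s : F → F)) DFunLike.coe_injective
            exact Nat.mul_pos Nat.card_pos (Nat.mul_pos (Nat.gcd_pos_of_pos_left _ two_pos) Nat.card_pos)
          refine Nat.eq_of_mul_eq_mul_left hpos ?_
          rw [h1]; ring
        have hsq : x ^ 2 ∈ spSemiSubgroup 2 F := Subgroup.sq_mem_of_index_two hidx x
        have hodd : p % 2 = 1 := (hp.eq_two_or_odd).resolve_left (fun h => hpr (h.trans hr.symm))
        have hx : x = (x ^ 2) ^ ((p + 1) / 2) := by
          rw [← pow_mul, show 2 * ((p + 1) / 2) = p + 1 by omega, pow_succ, ← hord, pow_orderOf_eq_one,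
            one_mul]
        rw [hx]
        exact pow_mem hsq _
    have hσ1 : σ ≠ RingEquiv.refl F := fun h =>
      hnot ((isInnerDiagonalAutPSp_iff _).2 ⟨g, by rw [h]⟩)
    have hσp : σ ^ p = 1 := by
      have h1 : spSemiAut g σ ^ p = 1 := by rw [← hord, pow_orderOf_eq_one]
      rw [spSemiAut_pow, spSemiAut_eq_one_iff hm] at h1
      exact h1.1
    have hordσ : orderOf σ = p := orderOf_eq_prime hσp hσ1
    obtain ⟨c, hc⟩ := exists_conj_fieldPSp (m := m) hm σ
      ((σ : F →+* F).eqLocusField (RingHom.id F)).subtype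
      (fun x => ⟨fun hx => ⟨⟨x, hx⟩, rfl⟩, by rintro ⟨a, rfl⟩; exact a.2⟩) g
      (by rw [hordσ, ← hord, pow_orderOf_eq_one])
    set s := spSemiAut (1 : Cfsg.GSp m F) σ with hs'
    set γ := spInndiagHom c with hγ
    have hfield : Cfsg.IsFieldAutClassPSp (spSemiAut g σ) :=
      ⟨γ⁻¹, σ, hσ1, (isStdFieldAutPSp_iff _ _).2 (by rw [hc]; group; rfl)⟩
    constructor
    · intro hne
      refine ⟨hfield, ?_⟩
      by_contra hco
      rw [hp.coprime_iff_not_dvd, not_not] at hco
      haveI : Finite (Cfsg.PSp m F) := inferInstance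
      obtain ⟨⟨k, hkfix⟩, hk⟩ := exists_prime_orderOf_dvd_card' p hco
      have hk' : orderOf k = p := (Subgroup.orderOf_mk k hkfix).symm.trans hk
      have hfix : s (γ⁻¹ k) = γ⁻¹ k := by
        have h1 : spSemiAut g σ k = k := hkfix
        rw [hc, MulAut.mul_apply, MulAut.mul_apply] at h1
        have h2 := congrArg (γ⁻¹ : MulAut (Cfsg.PSp m F)) h1
        rwa [MulAut.inv_apply_self] at h2
      have hK' := hasCoreKiller_fieldPSp (r := r) hm σ hp hpr (γ⁻¹ k)
        ((MulEquiv.orderOf_eq (γ⁻¹ : MulAut (Cfsg.PSp m F)) k).trans hk') hfix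
      have hK2 : HasCoreKiller (MulAut.conj : Cfsg.PSp m F →* MulAut (Cfsg.PSp m F)).range
          (spSemiAut g σ) p := by
        refine hK'.transport (MulAut.conj γ⁻¹) (by rw [hc, MulAut.conj_apply]; group; rfl) fun y => ?_
        constructor
        · intro h
          have h2 := inn_normal.conj_mem _ h γ
          rwa [MulAut.conj_apply, inv_inv, show γ * (γ⁻¹ * y * γ) * γ⁻¹ = y by group] at h2
        · intro h
          exact inn_normal.conj_mem _ h γ⁻¹
      haveI := inn_normal (K := Cfsg.PSp m F)
      exact hne (hK2.pPrimeCore_eq_bot hp hord A (by rintro _ ⟨k, rfl⟩; exact hinn k))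
    · rintro ⟨-, hco⟩
      exact pPrimeCore_inf_centralizer_ne_bot (conjHom_psp_injective hm) A hinn hp _ hord hco)

end Cfsg.Agent.S2730
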