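import Cfsg.Statements.S2738
import Cfsg.Agent.Lib.Classical.SLGen
import Cfsg.Agent.Lib.Classical.SLOrder

set_option autoImplicit false
open Cfsg
open scoped commutatorElement

namespace Cfsg.Agent.S2738

/-- The special linear group SL(3, 4) has centre of order 3 and does not split over it: no subgroup is a complement to the centre (so SL(3, 4) is a non-split central extension of PSL(3, 4) by a group of order 3). -/
theorem result (F : Type*) [Field F] [Fintype F] (hF : Fintype.card F = 4) : Nat.card ↥(Subgroup.center (Matrix.SpecialLinearGroup (Fin 3) F)) = 3 ∧ ¬ ∃ K : Subgroup (Matrix.SpecialLinearGroup (Fin 3) F), Subgroup.IsComplement' (Subgroup.center (Matrix.SpecialLinearGroup (Fin 3) F)) K := by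
  have hZ : Nat.card ↥(Subgroup.center (Matrix.SpecialLinearGroup (Fin 3) F)) = 3 := by
    rw [CfsgLib.Classical.card_center_sl, hF, Fintype.card_fin]
    rfl
  refine ⟨hZ, fun ⟨K, hK⟩ => ?_⟩
  have hnorm : K.Normal := ⟨fun x hx s => by
    obtain ⟨⟨z, k⟩, he⟩ := hK.2 s
    simp only at he
    have hz := Subgroup.mem_center_iff.1 z.2
    rw [← he, mul_inv_rev, show (z : Matrix.SpecialLinearGroup (Fin 3) F) * k * x *
      ((k : Matrix.SpecialLinearGroup (Fin 3) F)⁻¹ * (z : Matrix.SpecialLinearGroup (Fin 3) F)⁻¹) =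
      z * (k * x * (k : Matrix.SpecialLinearGroup (Fin 3) F)⁻¹) *
        (z : Matrix.SpecialLinearGroup (Fin 3) F)⁻¹ by simp only [mul_assoc],
      ← hz, mul_inv_cancel_right]
    exact mul_mem (mul_mem k.2 hx) (inv_mem k.2)⟩
  have hle : commutator (Matrix.SpecialLinearGroup (Fin 3) F) ≤ K := by
    rw [commutator_def, Subgroup.commutator_le]
    intro a _ b _
    obtain ⟨⟨z, k⟩, rfl⟩ := hK.2 a
    obtain ⟨⟨w, l⟩, rfl⟩ := hK.2 b
    simp only
    haveI := hnorm
    rw [← QuotientGroup.eq_one_iff]
    show QuotientGroup.mk' K ⁅_, _⁆ = 1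
    rw [map_commutatorElement, map_mul, map_mul,
      show QuotientGroup.mk' K (k : Matrix.SpecialLinearGroup (Fin 3) F) = 1 from
        (QuotientGroup.eq_one_iff _).2 k.2,
      show QuotientGroup.mk' K (l : Matrix.SpecialLinearGroup (Fin 3) F) = 1 from
        (QuotientGroup.eq_one_iff _).2 l.2, mul_one, mul_one, commutatorElement_eq_one_iff_mul_comm,
      ← map_mul, ← map_mul, Subgroup.mem_center_iff.1 w.2]
  rw [CfsgLib.Classical.commutator_sl_eq_top (by simp), top_le_iff] at hle
  have := hK.card_mul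
  rw [hle, Subgroup.card_top, hZ] at this
  have hpos : 0 < Nat.card (Matrix.SpecialLinearGroup (Fin 3) F) := Nat.card_pos
  omega

end Cfsg.Agent.S2738
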