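import Cfsg.Statements.S2752
import Cfsg.Agent.Lib.Amalgam.SThreeFreeModule
import Cfsg.Agent.Lib.Amalgam.SThreeFreeComponents

set_option autoImplicit false
universe u
open Cfsg

namespace Cfsg.Agent.S2752

/-- Let M be an elementary abelian 2-subgroup of a finite group L and G a subgroup of L acting faithfully on M by conjugation (G normalizes M and meets C(M) trivially). Assume O₂(G) = 1, the symmetric group of degree 3 is not involved in G, and every non-abelian composition factor of G is a Suzuki group Sz(2^(2n+1)) or a group PSL₂(3^(2n+1)). Then every elementary abelian 2-subgroup A of G satisfies |M / C_M(A)| ≥ |A|² and |[M, A]| ≥ |A|². -/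
theorem result {L : Type u} [Group L] [Finite L] (M G : Subgroup L) (hM : Cfsg.IsElementaryAbelian 2 M) (hGM : G ≤ Subgroup.normalizer (M : Set L)) (hf : G ⊓ Subgroup.centralizer (M : Set L) = ⊥) (ha : Cfsg.pCore 2 ↥G = ⊥) (hb : ¬ Cfsg.Involves (Equiv.Perm (Fin 3)) ↥G) (hc : Cfsg.IsCompositionKGroupWith Cfsg.IsSuzukiOrPSL2OddPowerThree ↥G) (A : Subgroup L) (hA : A ≤ G) (hAe : Cfsg.IsElementaryAbelian 2 A) : Nat.card A ^ 2 * Nat.card ↥(M ⊓ Subgroup.centralizer (A : Set L)) ≤ Nat.card M ∧ Nat.card A ^ 2 ≤ Nat.card ↥⁅M, A⁆ := by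
  refine CfsgLib.Amalgam.SFree.good_of_red hM hGM hf (fun B hBG hB hBne => ?_) A hA hAe
  have hB' : Cfsg.IsElementaryAbelian 2 (B.subgroupOf G) :=
    ⟨⟨⟨fun a b => Subtype.ext (Subtype.ext
      (CfsgLib.Amalgam.SFree.elemAb_comm' hB a.2 b.2))⟩⟩, fun a ha' => Subtype.ext (hB.2 _ ha')⟩
  have hne : B.subgroupOf G ≠ ⊥ := fun h => hBne (by
    rw [← Subgroup.map_subgroupOf_eq_of_le hBG, h, Subgroup.map_bot])
  obtain ⟨A₁, hlt, t, ht, x, -, r, j, hr, hr2, hxr, hx1, hcomm, hti, hk, hcard⟩ :=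
    CfsgLib.Amalgam.SFree.redIn_of_sfree hb hc ha hB' hne
  have hA₁B : A₁.map G.subtype ≤ B :=
    (Subgroup.map_mono hlt.le).trans (Subgroup.map_subgroupOf_eq_of_le hBG).le
  refine ⟨A₁.map G.subtype, lt_of_le_of_ne hA₁B fun h => hlt.ne ?_, t, ht, x, x.2, r, j, hr, hr2,
    congrArg Subtype.val hxr, fun h => hx1 (Subtype.ext h), ?_, congrArg Subtype.val hti, hk, ?_⟩
  · rw [← h]
    exact (Subgroup.comap_map_eq_self_of_injective G.subtype_injective A₁).symm
  · rintro _ ⟨a, ha', rfl⟩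
    exact congrArg Subtype.val (hcomm a ha')
  · rw [Subgroup.card_map_of_injective G.subtype_injective,
      ← Nat.card_congr (Subgroup.subgroupOfEquivOfLe hBG).toEquiv]
    exact hcard

end Cfsg.Agent.S2752
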