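import Cfsg.Statements.S3011
import Cfsg.Agent.Lib.Invol.BaerSuzuki

set_option autoImplicit false
open Cfsg

namespace Cfsg.Agent.S3011

open Subgroup

variable {G : Type*} [Group G] [Finite G]

/-- An involution outside `O₂(G)` inverts a nontrivial element of odd order. -/
theorem exists_inverted_of_not_mem_pCore {x : G} (hx : x * x = 1) (hxO : x ∉ Cfsg.pCore 2 G) :
    ∃ h : G, Odd (orderOf h) ∧ h ≠ 1 ∧ x * h * x⁻¹ = h⁻¹ := by
  haveI : Fact (Nat.Prime 2) := ⟨Nat.prime_two⟩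
  by_contra hall
  push Not at hall
  apply hxO
  refine CfsgLib.Invol.baer_suzuki_mem_pCore fun g => ?_
  set y := g * x * g⁻¹ with hy
  have hxi : x⁻¹ = x := inv_eq_of_mul_eq_one_left hx
  have hyy : y * y = 1 := by rw [hy, show g * x * g⁻¹ * (g * x * g⁻¹) = g * (x * x) * g⁻¹ by group, hx]; group
  have hyi : y⁻¹ = y := inv_eq_of_mul_eq_one_left hyy
  set u := x * y with hu
  have hinv : x * u * x⁻¹ = u⁻¹ := by rw [hu, mul_inv_rev, hyi, ← mul_assoc x x, hx, one_mul]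
  set s := (orderOf u).factorization 2 with hs
  have hodd : Odd (orderOf (u ^ 2 ^ s)) := by
    rw [orderOf_pow' u (pow_ne_zero _ (by norm_num)), Nat.gcd_eq_right (Nat.ordProj_dvd (orderOf u) 2)]
    exact Nat.odd_iff.2 (Nat.two_dvd_ne_zero.1 (Nat.not_dvd_ordCompl Nat.prime_two (orderOf_pos u).ne'))
  have hu1 : u ^ 2 ^ s = 1 := by
    by_contra hne
    exact hall _ hodd hne (by rw [← conj_pow, hinv, inv_pow])
  have hU : IsPGroup 2 (zpowers u) := by
    refine IsPGroup.iff_orderOf.2 ?_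
    rintro ⟨z, hz⟩
    obtain ⟨k, rfl⟩ := mem_zpowers_iff.1 hz
    have h1 : orderOf (u ^ k) ∣ 2 ^ s := (orderOf_dvd_natCard _ (zpow_mem (mem_zpowers u) k)).trans
      (by rw [Nat.card_zpowers]; exact orderOf_dvd_of_pow_eq_one hu1)
    obtain ⟨i, -, hi⟩ := (Nat.dvd_prime_pow Nat.prime_two).1 h1
    exact ⟨i, by rw [Subgroup.orderOf_mk, hi]⟩
  have hX : IsPGroup 2 (zpowers x) := by
    refine IsPGroup.iff_orderOf.2 ?_
    rintro ⟨z, hz⟩
    have h1 : orderOf z ∣ orderOf x := (Nat.card_zpowers x) ▸ Subgroup.orderOf_dvd_natCard (zpowers x) hz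
    obtain ⟨i, -, hi⟩ := (Nat.dvd_prime_pow Nat.prime_two).1 (h1.trans
      (orderOf_dvd_of_pow_eq_one (by rw [pow_one, pow_two, hx]) : orderOf x ∣ 2 ^ 1))
    exact ⟨i, by rw [Subgroup.orderOf_mk, hi]⟩
  have hn : zpowers x ≤ normalizer (zpowers u : Set G) := by
    rw [zpowers_le, mem_normalizer_iff_map_conj_eq, MonoidHom.map_zpowers]
    show zpowers (x * u * x⁻¹) = _
    rw [hinv, zpowers_inv]
  refine (IsPGroup.to_sup_of_normal_left' hU hX hn).to_le ((closure_le _).2 ?_)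
  rintro z (rfl | rfl)
  · exact (le_sup_right : zpowers z ≤ _) (mem_zpowers z)
  · have : g * x * g⁻¹ = x * u := by rw [hu, ← mul_assoc, hx, one_mul]
    show g * x * g⁻¹ ∈ _
    rw [this]
    exact mul_mem ((le_sup_right : zpowers x ≤ _) (mem_zpowers x)) ((le_sup_left : zpowers u ≤ _) (mem_zpowers u))

omit [Finite G] in
theorem eq_one_of_inv {h : G} (ho : Odd (orderOf h)) (e : h = h⁻¹) : h = 1 := by
  have h2 : orderOf h ∣ 2 := orderOf_dvd_of_pow_eq_one (by rw [pow_two]; exact eq_inv_iff_mul_eq_one.1 e)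
  refine orderOf_eq_one_iff.1 (Nat.eq_one_of_dvd_coprimes ?_ dvd_rfl h2)
  exact Nat.coprime_two_right.2 ho

omit [Finite G] in
theorem eq_one_of_sq_conj {h : G} (ho : Odd (orderOf h)) (e : h * h = 1) : h = 1 :=
  eq_one_of_inv ho (eq_inv_iff_mul_eq_one.2 e)

omit [Finite G] in
/-- `a` inverts `h` and `k`, `b` centralizes `h` and inverts `k`, `c = a * b` centralizes `k`. -/
theorem no_two {V : Subgroup G} (hS : Cfsg.IsSidkiPair V) {a b h k : G} (haV : a ∈ V) (hbV : b ∈ V)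
    (hV : ∀ w ∈ V, w = 1 ∨ w = a ∨ w = b ∨ w = a * b)
    (ha2 : a * a = 1) (hb2 : b * b = 1) (hab : a * b = b * a)
    (hh : Odd (orderOf h)) (hk : Odd (orderOf k)) (hk1 : k ≠ 1) (hh1 : h ≠ 1)
    (hah : a * h * a⁻¹ = h⁻¹) (hbh : b * h = h * b)
    (hak : a * k * a⁻¹ = k⁻¹) (hbk : b * k * b⁻¹ = k⁻¹) : False := by
  -- apply the hypothesis to `h k h⁻¹`, inverted by `b`
  have h1 : b * (h * k * h⁻¹) * b⁻¹ = (h * k * h⁻¹)⁻¹ := by
    calc b * (h * k * h⁻¹) * b⁻¹ = (b * h * b⁻¹) * (b * k * b⁻¹) * (b * h * b⁻¹)⁻¹ := by group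
      _ = (h * k * h⁻¹)⁻¹ := by
        rw [hbh, mul_inv_cancel_right, hbk]; group
  have ho : Odd (orderOf (h * k * h⁻¹)) := by
    rwa [show h * k * h⁻¹ = MulAut.conj h k from rfl, MulEquiv.orderOf_eq]
  obtain ⟨w, hw, hw1, hwc⟩ := hS _ b hbV ho h1
  have hwc' : w * (h * k * h⁻¹) * w⁻¹ = h * k * h⁻¹ := by rw [hwc, mul_inv_cancel_right]
  rcases hV w hw with e | e | e | e <;> rw [e] at hw1 hwc'
  · exact hw1 rfl
  · -- `h ^ 2` inverts `k`
    have h2 : h⁻¹ * k⁻¹ * h = h * k * h⁻¹ := by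
      rw [← hwc', show a * (h * k * h⁻¹) * a⁻¹ = (a * h * a⁻¹) * (a * k * a⁻¹) * (a * h * a⁻¹)⁻¹ by group,
        hah, hak, inv_inv]
    have h3 : (h * h) * k * (h * h)⁻¹ = k⁻¹ := by
      calc (h * h) * k * (h * h)⁻¹ = h * (h * k * h⁻¹) * h⁻¹ := by group
        _ = k⁻¹ := by rw [← h2]; group
    -- so an odd power of it centralizes `k`
    have h4 : Commute ((h * h) * (h * h)) k := by
      refine mul_inv_eq_iff_eq_mul.1 ?_
      calc h * h * (h * h) * k * (h * h * (h * h))⁻¹ = h * h * (h * h * k * (h * h)⁻¹) * (h * h)⁻¹ := by group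
        _ = h * h * k⁻¹ * (h * h)⁻¹ := by rw [h3]
        _ = (h * h * k * (h * h)⁻¹)⁻¹ := by simp [mul_assoc]
        _ = k := by rw [h3, inv_inv]
    obtain ⟨m, hm⟩ := hh
    have h5 : (h * h) ^ (2 * m + 1) = 1 := by
      rw [← hm, ← pow_two, ← pow_mul, mul_comm, pow_mul, pow_orderOf_eq_one, one_pow]
    have h6 := h4.pow_left (m + 1)
    rw [← pow_two, ← pow_mul, show 2 * (m + 1) = 2 * m + 1 + 1 by ring, pow_succ, h5, one_mul] at h6
    have h7 : (h * h) * k * (h * h)⁻¹ = k := mul_inv_eq_iff_eq_mul.2 h6.eq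
    exact hk1 (eq_one_of_inv hk (h7.symm.trans h3))
  · exact hk1 (eq_one_of_inv hk (by
      have h2 : h * k * h⁻¹ = (h * k * h⁻¹)⁻¹ := hwc'.symm.trans h1
      have := congrArg (fun z => h⁻¹ * z * h) h2
      simpa [mul_assoc] using this))
  · -- `h` and `k` commute
    have h2 : h⁻¹ * k * h = h * k * h⁻¹ := by
      rw [← hwc', show a * b * (h * k * h⁻¹) * (a * b)⁻¹ = a * (b * (h * k * h⁻¹) * b⁻¹) * a⁻¹ by group, h1,
        show a * (h * k * h⁻¹)⁻¹ * a⁻¹ = (a * h * a⁻¹) * (a * k * a⁻¹)⁻¹ * (a * h * a⁻¹)⁻¹ by group, hah, hak]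
      group
    have h3 : Commute (h ^ 2) k := by
      have : h * h * k = k * (h * h) := by
        calc h * h * k = h * (h * k * h⁻¹) * h := by group
          _ = k * (h * h) := by rw [← h2]; group
      rwa [pow_two]
    have h4 : Commute h k := by
      obtain ⟨m, hm⟩ := hh
      have := h3.pow_left (m + 1)
      rwa [← pow_mul, show 2 * (m + 1) = orderOf h + 1 by omega, pow_succ, pow_orderOf_eq_one, one_mul] at this
    have hinv : a * (h * k) * a⁻¹ = (h * k)⁻¹ := by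
      rw [show a * (h * k) * a⁻¹ = (a * h * a⁻¹) * (a * k * a⁻¹) by group, hah, hak, mul_inv_rev, h4.inv_inv.eq]
    have hodd : Odd (orderOf (h * k)) :=
      Odd.of_dvd_nat (hh.mul hk) (h4.orderOf_mul_dvd_mul_orderOf)
    obtain ⟨w, hw, hw1, hwc⟩ := hS _ a haV hodd hinv
    have e1 : b * h * b⁻¹ = h := by rw [hbh, mul_inv_cancel_right]
    have hwc2 : w * (h * k) * w⁻¹ = h * k := by rw [hwc, mul_inv_cancel_right]
    rcases hV w hw with e | e | e | e <;> rw [e] at hw1 hwc2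
    · exact hw1 rfl
    · have e : h * k = (h * k)⁻¹ := by
        rw [← hinv, hwc2]
      have e3 : h * k = 1 := eq_one_of_inv hodd e
      have e4 : k = h⁻¹ := eq_inv_of_mul_eq_one_right e3
      rw [e4] at hbk
      exact hh1 (eq_one_of_inv hh (by
        rw [show b * h⁻¹ * b⁻¹ = (b * h * b⁻¹)⁻¹ by group, e1, inv_inv] at hbk
        exact hbk.symm))
    · have e : h * k⁻¹ = h * k := by
        rw [← hbk]
        conv_lhs => rw [← e1]
        rw [show b * h * b⁻¹ * (b * k * b⁻¹) = b * (h * k) * b⁻¹ by group, hwc2]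
      exact hk1 (eq_one_of_inv hk (mul_left_cancel e).symm)
    · have e : h⁻¹ * k = h * k := by
        calc h⁻¹ * k = a * (b * (h * k) * b⁻¹) * a⁻¹ := by
              rw [show b * (h * k) * b⁻¹ = (b * h * b⁻¹) * (b * k * b⁻¹) by group, e1, hbk,
                show a * (h * k⁻¹) * a⁻¹ = (a * h * a⁻¹) * (a * k * a⁻¹)⁻¹ by group, hah, hak, inv_inv]
          _ = a * b * (h * k) * (a * b)⁻¹ := by group
          _ = h * k := hwc2
      exact hh1 (eq_one_of_inv hh (mul_right_cancel e).symm)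

/-- Let G be a finite group and V a nontrivial elementary abelian 2-subgroup of G of order at most 4 such that, whenever an element of V inverts an element h of G of odd order, some nontrivial element of V commutes with h. Then V meets O₂(G) nontrivially. (The case of order at most 4 has a short argument from the Baer–Suzuki theorem.) -/
theorem result {G : Type*} [Group G] [Finite G] (V : Subgroup G) (hV : Cfsg.IsElementaryAbelian 2 V) (hV1 : V ≠ ⊥) (hS : Cfsg.IsSidkiPair V) (h4 : Nat.card V ≤ 4) : V ⊓ Cfsg.pCore 2 G ≠ ⊥ := by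
  haveI : Fact (Nat.Prime 2) := ⟨Nat.prime_two⟩
  haveI := hV.1
  intro hcap
  have hsq : ∀ x ∈ V, x * x = 1 := fun x hx => by rw [← pow_two]; exact hV.2 x hx
  have hcm : ∀ x ∈ V, ∀ y ∈ V, x * y = y * x := fun x hx y hy =>
    congrArg Subtype.val (hV.1.is_comm.comm (⟨x, hx⟩ : V) ⟨y, hy⟩)
  -- every involution of `V` inverts some `h`, which another one centralizes
  have hex : ∀ x ∈ V, x ≠ 1 → ∃ h w : G, Odd (orderOf h) ∧ h ≠ 1 ∧ x * h * x⁻¹ = h⁻¹ ∧ w ∈ V ∧ w ≠ 1 ∧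
      w ≠ x ∧ w * h = h * w := by
    intro x hx hx1
    obtain ⟨h, hho, hh1, hinv⟩ := exists_inverted_of_not_mem_pCore (hsq x hx) fun hO => hx1 (by
      have : x ∈ V ⊓ Cfsg.pCore 2 G := ⟨hx, hO⟩
      rw [hcap] at this
      exact mem_bot.1 this)
    obtain ⟨w, hw, hw1, hwc⟩ := hS h x hx hho hinv
    refine ⟨h, w, hho, hh1, hinv, hw, hw1, fun e => hh1 (eq_one_of_inv hho ?_), hwc⟩
    rw [e] at hwc
    rw [← hinv, hwc, mul_inv_cancel_right]
  obtain ⟨x, hx, hx1⟩ : ∃ x ∈ V, x ≠ 1 := by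
    by_contra hall
    push Not at hall
    exact hV1 (eq_bot_iff.2 fun z hz => mem_bot.2 (hall z hz))
  obtain ⟨h, b, hho, hh1, hxh, hb, hb1, hbx, hbh⟩ := hex x hx hx1
  -- the other involutions
  have hlist : ∀ u ∈ V, ∀ v ∈ V, u ≠ 1 → v ≠ 1 → u ≠ v → ∀ w ∈ V, w = 1 ∨ w = u ∨ w = v ∨ w = u * v := by
    intro u hu v hv hu1 hv1 huv w hw
    by_contra hne
    simp only [not_or] at hne
    obtain ⟨n1, n2, n3, n4⟩ := hne
    have huv1 : u * v ≠ 1 := fun e => huv (by
      rw [eq_inv_of_mul_eq_one_left e, inv_eq_of_mul_eq_one_left (hsq v hv)])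
    have huvu : u * v ≠ u := fun e => hv1 (mul_eq_left.1 e)
    have huvv : u * v ≠ v := fun e => hu1 (mul_eq_right.1 e)
    let φ : Fin 5 → V := ![1, ⟨u, hu⟩, ⟨v, hv⟩, ⟨u * v, mul_mem hu hv⟩, ⟨w, hw⟩]
    have hinj : Function.Injective φ := by
      intro i j hij
      have h := congrArg Subtype.val hij
      fin_cases i <;> fin_cases j <;>
        simp [φ, hu1, hv1, huv, huv1, huvu, huvv, n1, n2, n3, n4, hu1.symm, hv1.symm, huv.symm, huv1.symm,
          huvu.symm, huvv.symm, Ne.symm n1, Ne.symm n2, Ne.symm n3, Ne.symm n4] at h ⊢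
    have := Nat.card_le_card_of_injective φ hinj
    rw [Nat.card_fin] at this
    omega
  obtain ⟨k, w, hko, hk1, hbk, hw, hw1, hwb, hwk⟩ := hex b hb hb1
  have hbhb : b * h * b⁻¹ = h := by rw [hbh, mul_inv_cancel_right]
  rcases hlist x hx b hb hx1 hb1 (Ne.symm hbx) w hw with rfl | rfl | rfl | rfl
  · exact hw1 rfl
  · -- `w = x` centralizes `k`; so `w * b` inverts both
    have hc : w * b * h * (w * b)⁻¹ = h⁻¹ := by
      rw [show w * b * h * (w * b)⁻¹ = w * (b * h * b⁻¹) * w⁻¹ by group, hbhb, hxh]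
    have hck : w * b * k * (w * b)⁻¹ = k⁻¹ := by
      rw [show w * b * k * (w * b)⁻¹ = w * (b * k * b⁻¹) * w⁻¹ by group, hbk,
        show w * k⁻¹ * w⁻¹ = (w * k * w⁻¹)⁻¹ by group, hwk, mul_inv_cancel_right]
    refine no_two hS (mul_mem hx hb) hb (fun z hz => ?_) (hsq _ (mul_mem hx hb)) (hsq b hb)
      (hcm _ (mul_mem hx hb) b hb) hho hko hk1 hh1 hc hbh hck hbk
    rcases hlist w hx b hb hx1 hb1 (Ne.symm hbx) z hz with e | e | e | e
    · exact Or.inl e
    · refine Or.inr (Or.inr (Or.inr ?_))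
      rw [e, mul_assoc, hsq b hb, mul_one]
    · exact Or.inr (Or.inr (Or.inl e))
    · exact Or.inr (Or.inl e)
  · exact hwb rfl
  · -- `x * b` centralizes `k`; so `x` inverts both
    have hxk : x * k * x⁻¹ = k⁻¹ := by
      have e : x * b * k * (x * b)⁻¹ = k := by rw [hwk, mul_inv_cancel_right]
      rw [show x * b * k * (x * b)⁻¹ = x * (b * k * b⁻¹) * x⁻¹ by group, hbk,
        show x * k⁻¹ * x⁻¹ = (x * k * x⁻¹)⁻¹ by group, inv_eq_iff_eq_inv] at e
      exact e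
    exact no_two hS hx hb (hlist x hx b hb hx1 hb1 (Ne.symm hbx)) (hsq x hx) (hsq b hb) (hcm x hx b hb)
      hho hko hk1 hh1 hxh hbh hxk hbk

end Cfsg.Agent.S3011
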