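import Cfsg.Statements.S2756
import Cfsg.Agent.Lib.Amalgam.InvertMain
import Cfsg.Agent.Lib.Amalgam.PEmbed
import Cfsg.Agent.S3011
import Cfsg.Agent.Lib.Solvable.PCore

set_option autoImplicit false
open Cfsg

namespace Cfsg.Agent.S2756

open Subgroup CfsgLib.Amalgam

universe u

variable {G : Type u} [Group G] [Finite G]

theorem isPGroup_zpowers' {q : ℕ} {y : G} {k : ℕ} (hk : orderOf y = q ^ k) : IsPGroup q (zpowers y) :=
  IsPGroup.of_card (n := k) (by rw [Nat.card_zpowers, hk])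

/-- A normal Sylow `2`-subgroup rules out inverted elements of odd prime power order. -/
theorem not_inverts_of_normal_sylow {q : ℕ} [Fact q.Prime] (hq : q ≠ 2) (P : Sylow 2 G)
    (hP : (P : Subgroup G).Normal) : ¬ Inverts q (⊤ : Subgroup G) := by
  haveI : Fact (Nat.Prime 2) := ⟨Nat.prime_two⟩
  intro h
  obtain ⟨x, -, ⟨k, hk⟩, y, -, hy1, ⟨l, hl⟩, hxy⟩ := h.exists_two
  have hxP : x ∈ (P : Subgroup G) := by
    obtain ⟨P', hP'⟩ := (isPGroup_zpowers' hk).exists_le_sylow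
    obtain ⟨g, hg⟩ := MulAction.exists_smul_eq G P P'
    have h1 : x ∈ ((g • P : Sylow 2 G) : Subgroup G) := hg.symm ▸ hP' (mem_zpowers x)
    have h2 := (mem_conj_smul_iff P g x).1 h1
    have h3 := hP.conj_mem _ h2 g
    rwa [show g * (g⁻¹ * x * g) * g⁻¹ = x by group] at h3
  have hcop : Nat.Coprime q 2 := (Nat.coprime_primes (Fact.out : q.Prime) Nat.prime_two).2 hq
  have h1 : x * y * x⁻¹ * y⁻¹ ∈ (P : Subgroup G) := by
    rw [mul_assoc x, mul_assoc x]
    exact mul_mem hxP (hP.conj_mem _ (inv_mem hxP) y)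
  rw [hxy, ← mul_inv_rev, ← pow_two] at h1
  obtain ⟨j, hj⟩ := IsPGroup.iff_orderOf.1 P.isPGroup' ⟨_, h1⟩
  rw [Subgroup.orderOf_mk, orderOf_inv] at hj
  have h3 : orderOf (y ^ 2) = 1 := Nat.eq_one_of_dvd_coprimes (hcop.pow l j)
    ((orderOf_pow_dvd 2).trans hl.dvd) hj.dvd
  have h4 : orderOf y ∣ 2 := orderOf_dvd_of_pow_eq_one (orderOf_eq_one_iff.1 h3)
  exact hy1 (orderOf_eq_one_iff.1 (Nat.eq_one_of_dvd_coprimes (hcop.pow_left l) hl.dvd h4))

theorem restrict_inverts {q : ℕ} {L : Subgroup G} (h : Inverts q L) : Inverts q (⊤ : Subgroup ↥L) := by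
  obtain ⟨x, hx, y, hy, h1, ⟨k, hk⟩, he⟩ := h
  exact ⟨⟨x, hx⟩, mem_top _, ⟨y, hy⟩, mem_top _, fun e => h1 (congrArg Subtype.val e),
    ⟨k, by rw [Subgroup.orderOf_mk, hk]⟩, Subtype.ext he⟩

theorem sylow_normal_subgroup (h : ∀ P : Sylow 2 G, (P : Subgroup G).Normal) (L : Subgroup G)
    (P : Sylow 2 ↥L) : (P : Subgroup ↥L).Normal := by
  haveI : Fact (Nat.Prime 2) := ⟨Nat.prime_two⟩
  obtain ⟨S, hS⟩ := (P.isPGroup'.map L.subtype).exists_le_sylow
  haveI := h S
  have hle : (P : Subgroup ↥L) ≤ (S : Subgroup G).subgroupOf L := fun z hz => hS (mem_map_of_mem _ hz)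
  rw [← P.3 (S.isPGroup'.comap_subtype) hle]
  exact normal_subgroupOf

/-- No inverted elements of odd prime order means a normal Sylow `2`-subgroup. -/
theorem normal_sylow_of_no_inverts
    (h : ∀ (q : ℕ) [Fact q.Prime], q ≠ 2 → ¬ Inverts q (⊤ : Subgroup G)) (P : Sylow 2 G) :
    (P : Subgroup G).Normal := by
  haveI : Fact (Nat.Prime 2) := ⟨Nat.prime_two⟩
  haveI := Cfsg.pCore_normal 2 G
  set O := Cfsg.pCore 2 G
  have hOP : O ≤ (P : Subgroup G) := CfsgLib.Solvable.pCore_le_sylow P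
  suffices hPO : (P : Subgroup G) ≤ O by
    rw [le_antisymm hPO hOP]; infer_instance
  intro x hx
  by_contra hxO
  set π := QuotientGroup.mk' O
  have hx1 : π x ≠ 1 := fun e => hxO ((QuotientGroup.eq_one_iff x).1 e)
  obtain ⟨k, hk⟩ := IsPGroup.iff_orderOf.1 P.isPGroup' ⟨x, hx⟩
  rw [Subgroup.orderOf_mk] at hk
  obtain ⟨i, -, hi⟩ := (Nat.dvd_prime_pow Nat.prime_two).1 ((orderOf_map_dvd π x).trans hk.dvd)
  obtain ⟨i', rfl⟩ : ∃ i', i = i' + 1 := by
    refine Nat.exists_eq_succ_of_ne_zero fun e => hx1 ?_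
    rw [e, pow_zero] at hi
    exact orderOf_eq_one_iff.1 hi
  set z := π x ^ 2 ^ i'
  have hzo : orderOf z = 2 := by
    show orderOf (π x ^ 2 ^ i') = 2
    rw [orderOf_pow_of_dvd (pow_ne_zero _ (by norm_num)) (hi ▸ pow_dvd_pow 2 (Nat.le_succ i')), hi,
      pow_succ, Nat.mul_div_cancel_left _ (pow_pos two_pos _)]
  have hzz : z * z = 1 := by rw [← pow_two, ← hzo]; exact pow_orderOf_eq_one z
  obtain ⟨w, hwo, hw1, hzw⟩ := Cfsg.Agent.S3011.exists_inverted_of_not_mem_pCore hzz (by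
    rw [CfsgLib.Solvable.pCore_quotient_eq_bot, mem_bot]
    intro e
    rw [e, orderOf_one] at hzo
    norm_num at hzo)
  obtain ⟨q, hq, hqd⟩ := Nat.exists_prime_and_dvd (show orderOf w ≠ 1 from
    fun e => hw1 (orderOf_eq_one_iff.1 e))
  haveI : Fact q.Prime := ⟨hq⟩
  have hq2 : q ≠ 2 := by
    rintro rfl
    exact Nat.not_even_iff_odd.2 hwo (even_iff_two_dvd.2 hqd)
  refine h q hq2 (inverts_of_map hq2 π ?_)
  rw [map_top_of_surjective π (QuotientGroup.mk'_surjective O)]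
  refine ⟨z, mem_top _, w ^ (orderOf w / q), mem_top _, fun e => hq.one_lt.ne ?_, ⟨1, ?_⟩, ?_⟩
  · rw [← orderOf_pow_orderOf_div (orderOf_pos w).ne' hqd, e, orderOf_one]
  · rw [pow_one, orderOf_pow_orderOf_div (orderOf_pos w).ne' hqd]
  · rw [← conj_pow, hzw, inv_pow]

/-- The pointwise form of the hypothesis on `N(Z(J(T)))`. -/
theorem pointwise_iff {q : ℕ} [Fact q.Prime] (T : Sylow q G) :
    (∀ x ∈ (T : Subgroup G), x ≠ 1 → ∀ g ∈ normalizer (Cfsg.centerThompsonAOf (T : Subgroup G) : Set G),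
      g * x * g⁻¹ ≠ x⁻¹) ↔ ¬ Inverts q (normalizer (Cfsg.centerThompsonAOf (T : Subgroup G) : Set G)) := by
  set M := normalizer (Cfsg.centerThompsonAOf (T : Subgroup G) : Set G)
  have hTM : (T : Subgroup G) ≤ M :=
    le_normalizer.trans (CfsgLib.PLocal.normalizer_le_normalizer_centerThompsonAOf _)
  constructor
  · rintro h ⟨g, hg, y, hy, hy1, ⟨k, hk⟩, he⟩
    obtain ⟨U, hU⟩ := ((isPGroup_zpowers' hk).comap_subtype (K := M)).exists_le_sylow
    obtain ⟨m, hm⟩ := MulAction.exists_smul_eq M (T.subtype hTM) U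
    have h1 : (⟨y, hy⟩ : M) ∈ ((m • T.subtype hTM : Sylow q M) : Subgroup M) :=
      hm.symm ▸ hU (mem_zpowers y)
    have h2 : (m : G)⁻¹ * y * m ∈ (T : Subgroup G) := (mem_conj_smul_iff _ m _).1 h1
    refine h _ h2 (fun e => hy1 ?_) ((m : G)⁻¹ * g * m) (mul_mem (mul_mem (inv_mem m.2) hg) m.2) ?_
    · have e2 := congrArg (fun z => (m : G) * z * (m : G)⁻¹) e
      simpa [mul_assoc] using e2
    · rw [show (m : G)⁻¹ * g * m * ((m : G)⁻¹ * y * m) * ((m : G)⁻¹ * g * m)⁻¹ =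
        (m : G)⁻¹ * (g * y * g⁻¹) * m by group, he]
      group
  · intro h x hx hx1 g hg he
    obtain ⟨k, hk⟩ := IsPGroup.iff_orderOf.1 T.isPGroup' ⟨x, hx⟩
    rw [Subgroup.orderOf_mk] at hk
    exact h ⟨g, hg, x, hTM hx, hx1, ⟨k, hk⟩, he⟩

theorem a_of_c (hc : ∀ (q : ℕ) [Fact q.Prime], q ≠ 2 → ∀ T : Sylow q G,
      ¬ Inverts q (normalizer (Cfsg.centerThompsonAOf (T : Subgroup G) : Set G))) (P : Sylow 2 G) :
    (P : Subgroup G).Normal :=
  normal_sylow_of_no_inverts (fun q _ hq => not_inverts_of_zjA hq default (hc q hq default)) P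

/-- For a finite group G the following are equivalent: (a) G has a normal Sylow 2-subgroup; (b) for every odd prime q dividing the order of G and every Sylow q-subgroup T, the normalizer of Z(J(T)) has a normal Sylow 2-subgroup; (c) for every odd prime q and every Sylow q-subgroup T, no nonidentity element of T is inverted by an element of the normalizer of Z(J(T)). Here J(T) is the Thompson subgroup generated by the abelian subgroups of T of largest order. Stated as the two equivalences (a) ⇔ (b) and (a) ⇔ (c). -/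
theorem result {G : Type*} [Group G] [Finite G] : ((∀ P : Sylow 2 G, (P : Subgroup G).Normal) ↔ ∀ (q : ℕ) [Fact q.Prime], q ≠ 2 → q ∣ Nat.card G → ∀ T : Sylow q G, ∀ P : Sylow 2 ↥(Subgroup.normalizer (Cfsg.centerThompsonAOf (T : Subgroup G) : Set G)), (P : Subgroup ↥(Subgroup.normalizer (Cfsg.centerThompsonAOf (T : Subgroup G) : Set G))).Normal) ∧ ((∀ P : Sylow 2 G, (P : Subgroup G).Normal) ↔ ∀ (q : ℕ) [Fact q.Prime], q ≠ 2 → ∀ T : Sylow q G, ∀ x ∈ (T : Subgroup G), x ≠ 1 → ∀ g ∈ Subgroup.normalizer (Cfsg.centerThompsonAOf (T : Subgroup G) : Set G), g * x * g⁻¹ ≠ x⁻¹) := by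
  haveI : Fact (Nat.Prime 2) := ⟨Nat.prime_two⟩
  refine ⟨⟨fun h q _ hq _ T P => sylow_normal_subgroup h _ P, fun h => ?_⟩, ⟨fun h q _ hq T => ?_, fun h => ?_⟩⟩
  · refine a_of_c fun q _ hq T hI => ?_
    by_cases hd : q ∣ Nat.card G
    · exact not_inverts_of_normal_sylow hq default (h q hq hd T default) (restrict_inverts hI)
    · obtain ⟨-, -, y, -, hy1, ⟨k, hk⟩, -⟩ := hI
      refine hy1 (orderOf_eq_one_iff.1 ?_)
      exact Nat.eq_one_of_dvd_coprimes (((Fact.out : q.Prime).coprime_iff_not_dvd.2 hd).pow_left k) hk.dvd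
        (orderOf_dvd_natCard y)
  · exact (pointwise_iff T).2 fun hI =>
      not_inverts_of_normal_sylow hq default (sylow_normal_subgroup h _ default) (restrict_inverts hI)
  · exact a_of_c fun q _ hq T => (pointwise_iff T).1 (h q hq T)

end Cfsg.Agent.S2756
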