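import Cfsg.Statements.S2760
import Cfsg.Agent.Lib.Amalgam.CharP
import Cfsg.Agent.Lib.Transfer.Basic
import Cfsg.Agent.Lib.PLocal.Sylow

set_option autoImplicit false
open Cfsg

namespace Cfsg.Agent.S2760

/-- Let G be a finite group with C_G(O₂(G)) ≤ O₂(G) and H a subgroup of G such that H is normal in G, or the subgroup O²(H) generated by the elements of H of odd order is normal in G. Then C_H(O₂(H)) ≤ O₂(H). -/
theorem result {G : Type*} [Group G] [Finite G] (hchar : Subgroup.centralizer (Cfsg.pCore 2 G : Set G) ≤ Cfsg.pCore 2 G) (H : Subgroup G) (hH : H.Normal ∨ ((Cfsg.pResidual 2 ↥H).map H.subtype).Normal) : Subgroup.centralizer (Cfsg.pCore 2 ↥H : Set ↥H) ≤ Cfsg.pCore 2 ↥H := by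
  rw [← CfsgLib.Amalgam.charPElements_iff]
  rcases hH with hH | hH
  · exact CfsgLib.Amalgam.charPElements_of_subnormal hchar hH.isSubnormal
  · set R := (Cfsg.pResidual 2 H).map H.subtype with hR
    have hRc := CfsgLib.Amalgam.charPElements_of_subnormal hchar hH.isSubnormal
    intro x hx hxp hxc
    refine hRc x ⟨⟨x, hx⟩, CfsgLib.Transfer.mem_pResidual_of_coprime (by rwa [Subgroup.orderOf_mk]), rfl⟩ hxp ?_
    refine Subgroup.centralizer_le ?_ hxc
    refine CfsgLib.Amalgam.le_pCoreOf ((CfsgLib.Amalgam.pCoreOf_le R).trans (Subgroup.map_subtype_le _)) ?_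
      (CfsgLib.Amalgam.isPGroup_pCoreOf R)
    intro h _
    apply CfsgLib.PLocal.mem_normalizer_map_conj.2
    rw [← CfsgLib.Amalgam.pCoreOf_map _ (MulAut.conj h).injective,
      CfsgLib.PLocal.mem_normalizer_map_conj.1 (show h ∈ Subgroup.normalizer (R : Set G) by
        rw [Subgroup.normalizer_eq_top]; trivial)]

end Cfsg.Agent.S2760
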