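import Cfsg.Statements.S2762
import Cfsg.Agent.Lib.Amalgam.QdBasic

set_option autoImplicit false
open Cfsg

namespace Cfsg.Agent.S2762

open Subgroup CfsgLib.Amalgam
open scoped MatrixGroups

variable {F : Type*} [Field F]

def sec : SL(2, F) →* ↥(Cfsg.qdOver F) :=
  MonoidHom.mk' (fun M => Qd.el 0 M) fun M N => by
    rw [Qd.el_mul, Matrix.mulVec_zero, add_zero]

theorem mem_range_sec (g : ↥(Cfsg.qdOver F)) :
    g ∈ (sec (F := F)).range ↔ ((g : SL(3, F)) : Matrix (Fin 3) (Fin 3) F) 0 2 = 0 ∧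
      ((g : SL(3, F)) : Matrix (Fin 3) (Fin 3) F) 1 2 = 0 := by
  constructor
  · rintro ⟨M, rfl⟩
    simp [sec, Qd.el, Qd.aff_coe]
  · obtain ⟨t, M, rfl⟩ := Qd.el_surjective g
    rintro ⟨h0, h1⟩
    simp [Qd.el, Qd.aff_coe] at h0 h1
    refine ⟨M, ?_⟩
    show Qd.el 0 M = Qd.el t M
    congr 1
    funext i
    fin_cases i <;> simp [h0, h1]

theorem natural_module : Cfsg.IsNaturalSL2Module F (Qd.lin F).ker (sec (F := F)).range := by
  refine ⟨?_, ?_⟩
  · rw [normalizer_eq_top (H := (Qd.lin F).ker)]; exact le_top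
  let V := (Qd.lin F).ker
  have hmem : ∀ t : Fin 2 → F, Qd.el t 1 ∈ V := fun t => (Qd.mem_ker_iff _).2 ⟨t, rfl⟩
  let f : (Fin 2 → F) →+ Additive V :=
    AddMonoidHom.mk' (fun t => Additive.ofMul ⟨Qd.el t 1, hmem t⟩) fun s t => by
      refine Additive.toMul.injective (Subtype.ext ?_)
      show Qd.el (s + t) 1 = Qd.el s 1 * Qd.el t 1
      rw [Qd.el_mul, Matrix.SpecialLinearGroup.coe_one, Matrix.one_mulVec, mul_one]
  have hf : Function.Bijective f := by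
    refine ⟨fun s t h => (Qd.el_inj (congrArg (fun u : Additive V => ((Additive.toMul u : V) : ↥(Cfsg.qdOver F))) h)).1,
      fun u => ?_⟩
    obtain ⟨t, ht⟩ := (Qd.mem_ker_iff _).1 (Additive.toMul u : V).2
    exact ⟨t, Additive.toMul.injective (Subtype.ext ht.symm)⟩
  refine ⟨(Qd.lin F).comp (sec (F := F)).range.subtype, (AddEquiv.ofBijective f hf).symm, ?_, ?_, ?_⟩
  · exact fun M => ⟨⟨sec M, M, rfl⟩, Qd.lin_el 0 M⟩
  · ext ⟨l, M, hM⟩
    subst hM
    rw [MonoidHom.mem_ker, mem_subgroupOf, mem_centralizer_iff]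
    show Qd.lin F (Qd.el 0 M) = 1 ↔ ∀ h ∈ (V : Set ↥(Cfsg.qdOver F)), h * Qd.el 0 M = Qd.el 0 M * h
    rw [Qd.lin_el]
    constructor
    · rintro rfl h -
      rw [Qd.el_one, mul_one, one_mul]
    · intro h
      have key : ∀ t : Fin 2 → F, (M : Matrix (Fin 2) (Fin 2) F).mulVec t = t := fun t => by
        have e := h _ (hmem t)
        rw [Qd.el_mul, Qd.el_mul, Matrix.SpecialLinearGroup.coe_one, Matrix.one_mulVec] at e
        simpa using (Qd.el_inj e).1.symm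
      refine Matrix.SpecialLinearGroup.ext _ _ ?_
      intro i j
      have := congrFun (key (Pi.single j 1)) i
      simpa [Matrix.mulVec_single, Pi.single_apply, Matrix.one_apply] using this
  · rintro ⟨l, M, rfl⟩ ⟨v, hv⟩
    obtain ⟨t, rfl⟩ := (Qd.mem_ker_iff v).1 hv
    refine ⟨⟨Qd.el ((M : Matrix (Fin 2) (Fin 2) F).mulVec t) 1, hmem _⟩, (Qd.el_conj _ _ _).symm, ?_⟩
    show (AddEquiv.ofBijective f hf).symm (f _) =
      (Qd.lin F (Qd.el 0 M) : Matrix (Fin 2) (Fin 2) F).mulVec ((AddEquiv.ofBijective f hf).symm (f t))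
    rw [Qd.lin_el]
    simp only [AddEquiv.symm_apply_apply, ← AddEquiv.ofBijective_apply f hf]

/-- Structure of Qd over a finite field F of characteristic p (the affine subgroup of SL₃(F)): its largest normal p-subgroup is the group of translations (matrices with upper-left block the identity), the block-diagonal matrices form a complement isomorphic to SL₂(F), and the translation subgroup is a natural SL₂(F)-module for that complement. -/
theorem result {F : Type*} [Field F] [Fintype F] {p : ℕ} [Fact p.Prime] [CharP F p] : (∀ M : ↥(Cfsg.qdOver F), M ∈ Cfsg.pCore p ↥(Cfsg.qdOver F) ↔ ((M : Matrix.SpecialLinearGroup (Fin 3) F) : Matrix (Fin 3) (Fin 3) F) 0 0 = 1 ∧ ((M : Matrix.SpecialLinearGroup (Fin 3) F) : Matrix (Fin 3) (Fin 3) F) 0 1 = 0 ∧ ((M : Matrix.SpecialLinearGroup (Fin 3) F) : Matrix (Fin 3) (Fin 3) F) 1 0 = 0 ∧ ((M : Matrix.SpecialLinearGroup (Fin 3) F) : Matrix (Fin 3) (Fin 3) F) 1 1 = 1) ∧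 ∃ K : Subgroup ↥(Cfsg.qdOver F), (∀ M : ↥(Cfsg.qdOver F), M ∈ K ↔ ((M : Matrix.SpecialLinearGroup (Fin 3) F) : Matrix (Fin 3) (Fin 3) F) 0 2 = 0 ∧ ((M : Matrix.SpecialLinearGroup (Fin 3) F) : Matrix (Fin 3) (Fin 3) F) 1 2 = 0) ∧ K ⊓ Cfsg.pCore p ↥(Cfsg.qdOver F) = ⊥ ∧ K ⊔ Cfsg.pCore p ↥(Cfsg.qdOver F) = ⊤ ∧ Nonempty (↥K ≃* Matrix.SpecialLinearGroup (Fin 2) F) ∧ Cfsg.IsNaturalSL2Module F (Cfsg.pCore p ↥(Cfsg.qdOver F)) K := by
  rw [CfsgLib.Amalgam.Qd.pCore_eq_ker]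
  refine ⟨fun M => (Qd.mem_ker_iff M).trans (Qd.mem_translation_iff M), (sec (F := F)).range,
    mem_range_sec, ?_, ?_, ⟨(MonoidHom.ofInjective fun M N h => (Qd.el_inj h).2).symm⟩, natural_module⟩
  · refine eq_bot_iff.2 ?_
    rintro _ ⟨⟨M, rfl⟩, h⟩
    have : Qd.lin F (Qd.el 0 M) = 1 := h
    rw [Qd.lin_el] at this
    rw [mem_bot, this, map_one]
  · refine eq_top_iff.2 fun g _ => ?_
    obtain ⟨t, M, rfl⟩ := Qd.el_surjective g
    have e : Qd.el t M = Qd.el t 1 * sec M := by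
      show _ = Qd.el t 1 * Qd.el 0 M
      rw [Qd.el_mul, Matrix.mulVec_zero, add_zero, one_mul]
    rw [e]
    exact mul_mem (mem_sup_right ((Qd.mem_ker_iff _).2 ⟨t, rfl⟩)) (mem_sup_left ⟨M, rfl⟩)

end Cfsg.Agent.S2762
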