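import Cfsg.Statements.S2763
import Cfsg.Agent.Lib.Amalgam.QdBasic
import Cfsg.Agent.Lib.ClassK.Core
import Cfsg.Agent.Lib.Classical.SLTwoSylow

set_option autoImplicit false
open Cfsg

namespace Cfsg.Agent.S2763

open Subgroup CfsgLib.Amalgam
open scoped MatrixGroups

variable {F : Type*} [Field F] [Fintype F] {p : ℕ} [Fact p.Prime] [CharP F p]

omit [Fintype F] in
theorem uElt_zero' : CfsgLib.Classical.uElt (0 : F) = 1 := by
  have h := CfsgLib.Classical.uElt_add (0 : F) 0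
  simp at h
  exact h

theorem ker_le_sylow (S : Sylow p ↥(Cfsg.qdOver F)) : (Qd.lin F).ker ≤ (S : Subgroup ↥(Cfsg.qdOver F)) :=
  CfsgLib.Solvable.normal_pgroup_le_sylow Qd.isPGroup_ker S

theorem translations_not_characteristic (S : Sylow p ↥(Cfsg.qdOver F))
    (T : Subgroup ↥(S : Subgroup ↥(Cfsg.qdOver F))) [hTc : T.Characteristic]
    (hT : T.map (S : Subgroup ↥(Cfsg.qdOver F)).subtype = (Qd.lin F).ker) : False := by
  obtain ⟨P, hP⟩ := Qd.exists_sylow_syl (F := F) (p := p)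
  obtain ⟨g, hg⟩ := MulAction.exists_smul_eq ↥(Cfsg.qdOver F) P S
  have hS : (S : Subgroup ↥(Cfsg.qdOver F)) = (Qd.syl F).map (MulAut.conj g).toMonoidHom := by
    rw [← hg, Sylow.coe_subgroup_smul, hP]; rfl
  obtain ⟨φ, hφ⟩ := Qd.exists_swap (F := F)
  let e : ↥(Qd.syl F) ≃* ↥(S : Subgroup ↥(Cfsg.qdOver F)) :=
    (equivMapOfInjective _ _ (MulAut.conj g).injective).trans (MulEquiv.subgroupCongr hS.symm)
  have he : ∀ u, ((e u : ↥(S : Subgroup ↥(Cfsg.qdOver F))) : ↥(Cfsg.qdOver F)) = g * u * g⁻¹ := fun u => rfl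
  have hmem : ∀ u, e u ∈ T ↔ Qd.lin F (u : ↥(Cfsg.qdOver F)) = 1 := by
    intro u
    rw [← MonoidHom.mem_ker]
    constructor
    · intro h
      have h' : g * u * g⁻¹ ∈ (Qd.lin F).ker := hT ▸ (he u ▸ mem_map_of_mem _ h)
      have := (inferInstance : (Qd.lin F).ker.Normal).conj_mem _ h' g⁻¹
      simpa [mul_assoc] using this
    · intro h
      obtain ⟨t, ht, ht'⟩ : g * u * g⁻¹ ∈ T.map (S : Subgroup ↥(Cfsg.qdOver F)).subtype :=
        hT ▸ (inferInstance : (Qd.lin F).ker.Normal).conj_mem _ h g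
      have : t = e u := Subtype.ext (ht'.trans (he u).symm)
      rwa [← this]
  have hfix := hTc.fixed ((e.symm.trans φ).trans e)
  have h1 : e (Qd.tri 0 1 0) ∈ T := (hmem _).2 (by
    show Qd.lin F (Qd.el _ (CfsgLib.Classical.uElt 0)) = 1
    rw [Qd.lin_el, uElt_zero'])
  have h2 : e (φ (Qd.tri 0 1 0)) ∈ T := by
    rw [← hfix, mem_comap] at h1
    simpa using h1
  rw [hmem, hφ] at h2
  have h3 : Qd.lin F (Qd.el _ (CfsgLib.Classical.uElt (1 : F))) = 1 := h2
  rw [Qd.lin_el, ← uElt_zero'] at h3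
  exact one_ne_zero (CfsgLib.Classical.uElt_injective h3)

theorem core (S : Sylow p ↥(Cfsg.qdOver F)) (T : Subgroup ↥(S : Subgroup ↥(Cfsg.qdOver F))) (hT : T ≠ ⊥)
    [hTc : T.Characteristic] :
    normalizer ((T.map (S : Subgroup ↥(Cfsg.qdOver F)).subtype : Subgroup ↥(Cfsg.qdOver F)) :
        Set ↥(Cfsg.qdOver F)) = normalizer ((S : Subgroup ↥(Cfsg.qdOver F)) : Set ↥(Cfsg.qdOver F)) ∧
      normalizer ((S : Subgroup ↥(Cfsg.qdOver F)) : Set ↥(Cfsg.qdOver F)) ≠ ⊤ := by
  set T' := T.map (S : Subgroup ↥(Cfsg.qdOver F)).subtype with hT'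
  have hge := CfsgLib.ClassK.normalizer_le_normalizer_map (S : Subgroup ↥(Cfsg.qdOver F)) T
  have hnt : normalizer (T' : Set ↥(Cfsg.qdOver F)) ≠ ⊤ := by
    intro htop
    haveI hn : T'.Normal := normalizer_eq_top_iff.1 htop
    have hle : T' ≤ (Qd.lin F).ker := by
      rw [← Qd.pCore_eq_ker (p := p)]
      exact CfsgLib.Solvable.le_pCore hn ((S.isPGroup'.to_subgroup T).map _)
    have hne : T' ≠ ⊥ := by
      rw [hT', Ne, map_eq_bot_iff_of_injective _ Subtype.val_injective]; exact hT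
    exact translations_not_characteristic S T (le_antisymm hle (Qd.ker_le_of_normal hn hle hne))
  refine ⟨le_antisymm (fun n hn => ?_) hge, fun h => hnt (eq_top_iff.2 (h ▸ hge))⟩
  by_contra hns
  have hSN : (S : Subgroup ↥(Cfsg.qdOver F)) ≤ normalizer (T' : Set ↥(Cfsg.qdOver F)) :=
    le_normalizer.trans hge
  have hSn : ((n • S : Sylow p _) : Subgroup ↥(Cfsg.qdOver F)) ≤ normalizer (T' : Set ↥(Cfsg.qdOver F)) := by
    intro x hx
    rw [Sylow.coe_subgroup_smul, mem_pointwise_smul_iff_inv_smul_mem] at hx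
    have h := mul_mem (mul_mem hn (hSN hx)) (inv_mem hn)
    simpa [MulAut.smul_def, mul_assoc] using h
  have hne : Sylow.mapSurjective Qd.lin_surjective S ≠ Sylow.mapSurjective Qd.lin_surjective (n • S) := by
    intro h
    have h' : (S : Subgroup ↥(Cfsg.qdOver F)).map (Qd.lin F) =
        ((n • S : Sylow p _) : Subgroup ↥(Cfsg.qdOver F)).map (Qd.lin F) :=
      congrArg (fun Q : Sylow p SL(2, F) => (Q : Subgroup SL(2, F))) h
    have h'' := congrArg (Subgroup.comap (Qd.lin F)) h'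
    rw [comap_map_eq_self (ker_le_sylow S), comap_map_eq_self (ker_le_sylow _)] at h''
    exact hns ((Sylow.smul_eq_iff_mem_normalizer).1 (Sylow.ext h''.symm))
  have htop := CfsgLib.Classical.sylow_sl_two_sup_eq_top p _ _ hne
  have hmap : ((S : Subgroup ↥(Cfsg.qdOver F)) ⊔ ((n • S : Sylow p _) : Subgroup ↥(Cfsg.qdOver F))).map
      (Qd.lin F) = ⊤ := by
    rw [Subgroup.map_sup]; exact htop
  have h := congrArg (Subgroup.comap (Qd.lin F)) hmap
  rw [comap_map_eq_self ((ker_le_sylow S).trans le_sup_left), comap_top] at h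
  exact hnt (eq_top_iff.2 (h ▸ sup_le hSN hSn))

/-- In the group Qd(p) (p prime; the natural semidirect product of an elementary abelian group of order p² by SL₂(p)), the normalizer of every nontrivial characteristic subgroup of a Sylow p-subgroup S equals the normalizer of S, which is a proper subgroup; in particular no such characteristic subgroup is normal. -/
theorem result {p : ℕ} [Fact p.Prime] (S : Sylow p ↥(Cfsg.qd p)) (T : Subgroup ↥(S : Subgroup ↥(Cfsg.qd p))) (hT : T ≠ ⊥) (hTc : T.Characteristic) : Subgroup.normalizer ((T.map (S : Subgroup ↥(Cfsg.qd p)).subtype : Subgroup ↥(Cfsg.qd p)) : Set ↥(Cfsg.qd p)) = Subgroup.normalizer ((S : Subgroup ↥(Cfsg.qd p)) : Set ↥(Cfsg.qd p)) ∧ Subgroup.normalizer ((S : Subgroup ↥(Cfsg.qd p)) : Set ↥(Cfsg.qd p)) ≠ ⊤ := by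
  exact core (F := ZMod p) S T hT (hTc := hTc)

end Cfsg.Agent.S2763
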