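import Cfsg.Statements.S2765
import Cfsg.Agent.Lib.ClassK.PushFinal

set_option autoImplicit false
open Cfsg

namespace Cfsg.Agent.S2765

/-- In the same pushing-up situation (G finite, C_G(O_p(G)) ≤ O_p(G), G/K ≅ PSL₂(p^n) with n ≥ 1, a Sylow p-subgroup S in exactly one maximal subgroup, no nontrivial characteristic subgroup of S normal in G), one of the following holds: (I) S has nilpotency class 2, exponent 4 if p = 2 and exponent p otherwise, and G has exactly one noncentral chief factor inside O_p(G); or (II) p = 3, S has class 3 and exponent 9, and G has exactly two noncentral chief factors inside O_p(G). 'Exactly one' is phrased as: some noncentral chief factor U/W inside O_p(G) with G acting hypercentrally on W and on O_p(G)/U; 'exactly two' analogously with a chain. -/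
theorem result {G : Type*} [Group G] [Finite G] {p : ℕ} [Fact p.Prime] (S : Sylow p G) (hE₁ : Subgroup.centralizer (Cfsg.pCore p G : Set G) ≤ Cfsg.pCore p G) (hE₂ : ∃! M : Subgroup G, IsCoatom M ∧ (S : Subgroup G) ≤ M) (K : Subgroup G) [K.Normal] (F : Type) [Field F] [Fintype F] (n : ℕ) (hn : 1 ≤ n) (hF : Fintype.card F = p ^ n) (hE₃ : Nonempty (G ⧸ K ≃* Matrix.ProjectiveSpecialLinearGroup (Fin 2) F)) (hd : ∀ T : Subgroup ↥(S : Subgroup G), T ≠ ⊥ → T.Characteristic → ¬ (T.map (S : Subgroup G).subtype).Normal) : ((S : Subgroup G).lowerCentralSeries 2 = ⊥ ∧ (S : Subgroup G).lowerCentralSeries 1 ≠ ⊥ ∧ (p = 2 → Monoid.exponent ↥(S : Subgroup G) = 4) ∧ (p ≠ 2 → Monoid.exponent ↥(S : Subgroup G) = p) ∧ (∃ U W : Subgroup G, W ≤ U ∧ U ≤ (Cfsg.pCore p G) ∧ Cfsg.IsChiefFactor U W ∧ ¬ ⁅U, (⊤ : Subgroup G)⁆ ≤ W ∧ (∃ k : ℕ, Cfsg.iterCommutator W ⊤ k = ⊥) ∧ (∃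 k : ℕ, Cfsg.iterCommutator (Cfsg.pCore p G) ⊤ k ≤ U))) ∨ (p = 3 ∧ (S : Subgroup G).lowerCentralSeries 3 = ⊥ ∧ (S : Subgroup G).lowerCentralSeries 2 ≠ ⊥ ∧ Monoid.exponent ↥(S : Subgroup G) = 9 ∧ (∃ U₁ W₁ U₂ W₂ : Subgroup G, W₁ ≤ U₁ ∧ U₁ ≤ W₂ ∧ W₂ ≤ U₂ ∧ U₂ ≤ (Cfsg.pCore p G) ∧ Cfsg.IsChiefFactor U₁ W₁ ∧ Cfsg.IsChiefFactor U₂ W₂ ∧ ¬ ⁅U₁, (⊤ : Subgroup G)⁆ ≤ W₁ ∧ ¬ ⁅U₂, (⊤ : Subgroup G)⁆ ≤ W₂ ∧ (∃ k : ℕ, Cfsg.iterCommutator W₁ ⊤ k = ⊥) ∧ (∃ k : ℕ, Cfsg.iterCommutator W₂ ⊤ k ≤ U₁) ∧ (∃ k : ℕ, Cfsg.iterCommutator (Cfsg.pCore p G) ⊤ k ≤ U₂))) := by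
  obtain ⟨e⟩ := hE₃
  obtain ⟨M, φ, h⟩ := CfsgLib.ClassK.Push.exists_sit S hE₁ hE₂ K hF e
  obtain ⟨V, ρ, hD, hker, hn', hcase⟩ := h.pushing_structure hd
  haveI := hD.V_normal
  haveI := hD.Q_normal
  rcases hcase with ⟨hLQ, hc2, hc1, h4, hp'⟩ | ⟨Y, hVY, hLY, hnY, hp3, hc3, hc2, h9⟩
  · exact Or.inl ⟨hc2, hc1, h4, hp', V, V ⊓ Subgroup.center G, inf_le_left, hD.V_le,
      hn'.isChiefFactor, hn'.noncentral, ⟨1, CfsgLib.ClassK.Push.iterCommutator_inf_center⟩,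
      CfsgLib.ClassK.Push.exists_iterCommutator_le S hD.Q_le hLQ⟩
  · haveI := hnY.N_normal
    exact Or.inr ⟨hp3, hc3, hc2, h9, V, V ⊓ Subgroup.center G, Cfsg.pCore p G, Y, inf_le_left, hVY,
      hnY.le, le_rfl, hn'.isChiefFactor, hnY.isChiefFactor, hn'.noncentral, hnY.noncentral,
      ⟨1, CfsgLib.ClassK.Push.iterCommutator_inf_center⟩,
      CfsgLib.ClassK.Push.exists_iterCommutator_le S (hnY.le.trans hD.Q_le) hLY, ⟨0, le_rfl⟩⟩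

end Cfsg.Agent.S2765
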