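import Cfsg.Statements.S2766
import Cfsg.Agent.Lib.ClassK.PushQd

set_option autoImplicit false
open Cfsg

namespace Cfsg.Agent.S2766

/-- Let p ≥ 5 be prime and G a maximal p-local subgroup of a finite group H (G is the normalizer of a nontrivial p-subgroup and lies in no other such normalizer). Suppose C_G(O_p(G)) ≤ O_p(G), G/K ≅ PSL₂(p^n) for some normal K and n ≥ 1, a Sylow p-subgroup S of G lies in exactly one maximal subgroup of G, and N_H(S) is not contained in G. Then G = G₀ × E for subgroups G₀ ≅ Qd(p^n) (the natural semidirect product of the plane over the field with p^n elements by SL₂) and E an elementary abelian p-group. -/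
theorem result {H : Type*} [Group H] [Finite H] {p : ℕ} [Fact p.Prime] (hp : 5 ≤ p) (G : Subgroup H) (hloc : ∃ R : Subgroup H, IsPGroup p ↥R ∧ R ≠ ⊥ ∧ G = Subgroup.normalizer (R : Set H)) (hmax : ∀ R : Subgroup H, IsPGroup p ↥R → R ≠ ⊥ → G ≤ Subgroup.normalizer (R : Set H) → Subgroup.normalizer (R : Set H) = G) (S : Sylow p ↥G) (hE₁ : Subgroup.centralizer (Cfsg.pCore p ↥G : Set ↥G) ≤ Cfsg.pCore p ↥G) (hE₂ : ∃! M : Subgroup ↥G, IsCoatom M ∧ (S : Subgroup ↥G) ≤ M) (K : Subgroup ↥G) [K.Normal] (F : Type) [Field F] [Fintype F] (n : ℕ) (hn : 1 ≤ n) (hF : Fintype.card F = p ^ n) (hE₃ : Nonempty (↥G ⧸ K ≃* Matrix.ProjectiveSpecialLinearGroup (Fin 2) F)) (hN : ¬ Subgroup.normalizer (((S : Subgroup ↥G).map G.subtype : Subgroup H) : Set H) ≤ G) : ∃ G₀ E : Subgroup H, Cfsg.IsInternalDirectProduct G₀ E G ∧ Cfsg.IsElementaryAbelian p E ∧ Nonempty (↥G₀ ≃* ↥(Cfsg.qdOver F)) := by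
  obtain ⟨e⟩ := hE₃
  obtain ⟨M, φ, h⟩ := CfsgLib.ClassK.Push.exists_sit S hE₁ hE₂ K hF e
  have hd := CfsgLib.ClassK.Push.noChar_of_maximal_local S hmax hN
  obtain ⟨V, ρ, hD, hker, hn', hcase⟩ := h.pushing_structure hd
  rcases hcase with ⟨hLQ, hc2, -, -, hexp⟩ | ⟨Y, -, -, -, hp3, -⟩
  swap
  · omega
  obtain ⟨g, hg, hgQ⟩ := CfsgLib.ClassK.Push.exists_autImg_not_le h hmax hN hD hLQ
  have hexp' : ∀ s ∈ (S : Subgroup ↥G), s ^ p = 1 := fun s hs => by
    have h1 := Monoid.pow_exponent_eq_one (⟨s, hs⟩ : ↥(S : Subgroup ↥G))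
    rw [hexp (by omega)] at h1
    exact congrArg Subtype.val h1
  obtain ⟨G₀, C, hcomm, hbot, htop, hC, hCp, ⟨f⟩⟩ := CfsgLib.ClassK.Push.exists_qd_split h hp hD hker
    hn' hLQ hexp' hgQ (CfsgLib.ClassK.Push.commutator_eq_one_of_autImg h hmax hD hc2 hg hgQ)
  refine ⟨G₀.map G.subtype, C.map G.subtype, ⟨Subgroup.map_subtype_le _, Subgroup.map_subtype_le _,
    ?_, ?_, ?_⟩, ?_, ⟨(G₀.equivMapOfInjective _ G.subtype_injective).symm.trans f⟩⟩
  · rintro _ ⟨a, ha, rfl⟩ _ ⟨b, hb, rfl⟩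
    exact congrArg Subtype.val (hcomm a ha b hb)
  · rw [← Subgroup.map_inf _ _ _ G.subtype_injective, hbot, Subgroup.map_bot]
  · rw [← Subgroup.map_sup, htop, ← MonoidHom.range_eq_map, Subgroup.range_subtype]
  · refine ⟨?_, ?_⟩
    · exact ⟨⟨by
        rintro ⟨_, a, ha, rfl⟩ ⟨_, b, hb, rfl⟩
        exact Subtype.ext (show (a : H) * b = b * a from congrArg Subtype.val (Subgroup.mem_center_iff.1 (hC hb) a))⟩⟩
    · rintro x ⟨a, ha, rfl⟩
      rw [← map_pow, hCp a ha, map_one]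

end Cfsg.Agent.S2766
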