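import Cfsg.Statements.S2768
import Cfsg.Agent.Lib.ClassK.PushBaumann

set_option autoImplicit false
set_option linter.style.haveILetI false
set_option linter.unusedVariables false
open Cfsg

namespace Cfsg.Agent.S2768

/-- Let G be a finite group and p a prime with C_G(O_p(G)) ≤ O_p(G), such that a Sylow p-subgroup S lies in exactly one maximal subgroup of G and G/K ≅ PSL₂(p^n) for some normal K and n ≥ 1. Put J̃(S) = C_S(Z(J(S))), where J(S) is generated by the abelian subgroups of S of largest order. If Z(S) is not normal in G, then J̃(S) is a Sylow p-subgroup of its normal closure ⟨J̃(S)^G⟩. -/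
theorem result {G : Type*} [Group G] [Finite G] {p : ℕ} [Fact p.Prime] (S : Sylow p G) (hE₁ : Subgroup.centralizer (Cfsg.pCore p G : Set G) ≤ Cfsg.pCore p G) (hE₂ : ∃! M : Subgroup G, IsCoatom M ∧ (S : Subgroup G) ≤ M) (K : Subgroup G) [K.Normal] (F : Type) [Field F] [Fintype F] (n : ℕ) (hn : 1 ≤ n) (hF : Fintype.card F = p ^ n) (hE₃ : Nonempty (G ⧸ K ≃* Matrix.ProjectiveSpecialLinearGroup (Fin 2) F)) (hZ : ¬ ((S : Subgroup G) ⊓ Subgroup.centralizer ((S : Subgroup G) : Set G)).Normal) : ∃ P : Sylow p ↥(Subgroup.normalClosure (((S : Subgroup G) ⊓ Subgroup.centralizer (Cfsg.centerThompsonAOf (S : Subgroup G) : Set G)) : Set G)), (P : Subgroup ↥(Subgroup.normalClosure (((S : Subgroup G) ⊓ Subgroup.centralizer (Cfsg.centerThompsonAOf (S : Subgroup G) : Set G)) : Set G))) = (((S : Subgroup G) ⊓ Subgroup.centralizer (Cfsg.centerThompsonAOf (S : Subgroup G) : Set G))).subgroupOf (Subgroup.normalClosure (((S : Subgroup G) ⊓ Subgroup.centralizer (Cfsg.centerThompsonAOf (S : Subgroup G) : Set G)) : Set G))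 := by
  classical
  obtain ⟨e⟩ := hE₃
  obtain ⟨M, φ, h⟩ := CfsgLib.ClassK.Push.exists_sit S hE₁ hE₂ K hF e
  set ZJ := Cfsg.centerThompsonAOf (S : Subgroup G) with hZJ
  set Jt := (S : Subgroup G) ⊓ Subgroup.centralizer (ZJ : Set G) with hJt
  set N := Subgroup.normalClosure (Jt : Set G) with hN
  have hJN : Jt ≤ N := Subgroup.subset_normalClosure
  have hle : (S : Subgroup G) ⊓ N ≤ Jt := by
    by_cases hJ : Cfsg.thompsonSubgroupAOf (S : Subgroup G) ≤ φ.ker
    · haveI := h.centerThompson_normal hJ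
      exact inf_le_inf_left _ (Subgroup.normalClosure_le_normal inf_le_right)
    · have hsub := h.residual_inf_le_jTilde hJ hZ
      haveI := CfsgLib.Transfer.pResidual_normal (G := G) (p := p)
      have hSn : (S : Subgroup G) ≤ Subgroup.normalizer (Jt : Set G) :=
        (le_inf Subgroup.le_normalizer ((Subgroup.le_normalizer.trans
          (CfsgLib.PLocal.normalizer_le_normalizer_centerThompsonAOf _)).trans
          (CfsgLib.Comp.normalizer_le_normalizer_centralizer _))).trans
          Subgroup.inf_normalizer_le_normalizer_inf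
      haveI : (Cfsg.pResidual p G ⊔ Jt).Normal := Subgroup.normalizer_eq_top_iff.1 (top_le_iff.1
        ((CfsgLib.Transfer.pResidual_sup_sylow S).ge.trans (sup_le
          (le_sup_left.trans Subgroup.le_normalizer)
          (CfsgLib.Comp.le_normalizer_sup (CfsgLib.Comp.le_normalizer_of_normal' _ _) hSn))))
      rintro x ⟨hxS, hxN⟩
      have hx' : x ∈ Cfsg.pResidual p G ⊔ Jt := Subgroup.normalClosure_le_normal (show Jt ≤ Cfsg.pResidual p G ⊔ Jt from le_sup_right) hxN
      obtain ⟨l, hl, t, ht, rfl⟩ := Subgroup.mem_sup_of_normal_left.1 hx'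
      have hlS : l ∈ (S : Subgroup G) := by
        simpa using mul_mem (show l * t ∈ (S : Subgroup G) from hxS)
          (inv_mem (show t ∈ (S : Subgroup G) from ht.1))
      exact mul_mem (hsub ⟨hl, hlS⟩) ht
  obtain ⟨P, hP⟩ := CfsgLib.Transfer.exists_sylow_eq_subgroupOf S N
  refine ⟨P, hP.trans ?_⟩
  rw [← Subgroup.inf_subgroupOf_right (S : Subgroup G),
    le_antisymm hle (le_inf inf_le_left hJN)]
  rfl

end Cfsg.Agent.S2768
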