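import Cfsg.Statements.S2772
import Cfsg.Agent.Lib.Amalgam.DihedralOffender
import Cfsg.Agent.Lib.Amalgam.TIStrongMain
import Cfsg.Agent.Lib.Amalgam.PCore
import Cfsg.Agent.Lib.Recog.SimsThreeMain
import Mathlib.GroupTheory.GroupAction.Primitive

set_option autoImplicit false
open Cfsg

namespace Cfsg.Agent.S2772

open CfsgLib.Amalgam.DihedralOffender CfsgLib.Amalgam.TIClosed

set_option maxHeartbeats 1000000 in
/-- Sims' Theorem in local form: let H be a finite non-abelian simple group and G a maximal subgroup of H with C_G(O₂(G)) ≤ O₂(G), such that N_H(S) is not contained in G for a Sylow 2-subgroup S of G and G/O₂(G) is dihedral of order 2q for a prime q. Then G is isomorphic to the symmetric group of degree 4 or to its direct product with a group of order 2. -/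
theorem result {H : Type*} [Group H] [Finite H] [IsSimpleGroup H] (hna : ¬ IsMulCommutative H) (G : Subgroup H) (hG : IsCoatom G) (hchar : Subgroup.centralizer (Cfsg.pCore 2 ↥G : Set ↥G) ≤ Cfsg.pCore 2 ↥G) (S : Sylow 2 ↥G) (hN : ¬ Subgroup.normalizer (((S : Subgroup ↥G).map G.subtype : Subgroup H) : Set H) ≤ G) (q : ℕ) (hq : q.Prime) (hD : Nonempty (↥G ⧸ Cfsg.pCore 2 ↥G ≃* DihedralGroup q)) : Nonempty (↥G ≃* Equiv.Perm (Fin 4)) ∨ Nonempty (↥G ≃* Equiv.Perm (Fin 4) × Multiplicative (ZMod 2)) := by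
  classical
  haveI : Fact q.Prime := ⟨hq⟩
  haveI : Fact (Nat.Prime 2) := ⟨Nat.prime_two⟩
  obtain ⟨e⟩ := hD
  let Q : Subgroup ↥G := Cfsg.pCore 2 ↥G
  haveI hQn : Q.Normal := inferInstanceAs (Cfsg.pCore 2 ↥G).Normal
  have hQ2 : IsPGroup 2 ↥Q := CfsgLib.Amalgam.isPGroup_pCore
  have hQS : Q ≤ (S : Subgroup ↥G) := hQ2.le_sylow_of_normal S
  let φ : ↥G →* DihedralGroup q := e.toMonoidHom.comp (QuotientGroup.mk' Q)
  have hφ : Function.Surjective φ := e.surjective.comp (QuotientGroup.mk'_surjective Q)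
  have hker : φ.ker = Q := by
    ext x
    rw [MonoidHom.mem_ker, MonoidHom.comp_apply, MulEquiv.coe_toMonoidHom,
      MulEquiv.map_eq_one_iff, QuotientGroup.mk'_apply, QuotientGroup.eq_one_iff]
  obtain ⟨nq, hnq⟩ := IsPGroup.iff_card.1 hQ2
  have hcard : Nat.card ↥G = 2 * q * Nat.card Q := by
    rw [Subgroup.card_eq_card_quotient_mul_card_subgroup Q, Nat.card_congr e.toEquiv,
      DihedralGroup.nat_card]
  have hq2 : q ≠ 2 := by
    intro h
    have hG2 : IsPGroup 2 ↥G := IsPGroup.of_card (n := 2 + nq)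
      (by rw [hcard, hnq, h, pow_add]; norm_num)
    have htop : (⊤ : Subgroup ↥G) ≤ Q := CfsgLib.Amalgam.le_pCore inferInstance (hG2.to_subgroup ⊤)
    have h1 : Nat.card Q = Nat.card ↥G := by
      rw [top_le_iff.1 htop, Subgroup.card_top]
    have hpos : 0 < Nat.card Q := Nat.card_pos
    rw [← h1, h] at hcard
    omega
  obtain ⟨hrefl, hprod⟩ := exists_reflection hq2 φ S.2
  have hS1 : (S : Subgroup ↥G) ≠ ⊥ := by
    intro h
    have h2 : (2 : ℕ) ∣ Nat.card ↥G := ⟨q * Nat.card Q, by rw [hcard, mul_assoc]⟩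
    exact S.ne_bot_of_dvd_card h2 h
  set Sh : Subgroup H := (S : Subgroup ↥G).map G.subtype with hSh
  obtain ⟨n, hn, hnG⟩ : ∃ n ∈ Subgroup.normalizer (Sh : Set H), n ∉ G := SetLike.not_le_iff_exists.1 hN
  -- a nontrivial subgroup of `G` invariant under `G` and `n` is impossible
  have key : ∀ X : Subgroup ↥G, X.Normal →
      (∀ x ∈ X, ∃ y ∈ X, (y : H) = n * x * n⁻¹) → X = ⊥ := by
    intro X hXn hXinv
    by_contra hX
    set Xh := X.map G.subtype with hXh
    have hinj : Function.Injective G.subtype := Subtype.val_injective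
    have hnor : Subgroup.normalizer (Xh : Set H) = ⊤ := by
      refine hG.2 _ (lt_of_le_of_ne ?_ ?_)
      · intro g hg
        rw [Subgroup.mem_normalizer_iff]
        intro x
        constructor
        · rintro ⟨y, hy, rfl⟩
          exact ⟨_, hXn.conj_mem y hy ⟨g, hg⟩, rfl⟩
        · rintro ⟨y, hy, hyx⟩
          refine ⟨_, hXn.conj_mem y hy ⟨g, hg⟩⁻¹, ?_⟩
          show g⁻¹ * (y : H) * g⁻¹⁻¹ = x
          rw [show (y : H) = g * x * g⁻¹ from hyx]; group
      · intro h
        apply hnG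
        rw [h]
        refine Subgroup.mem_normalizer_iff_map_conj_eq.2 (Subgroup.eq_of_le_of_card_ge ?_ ?_)
        · rintro _ ⟨_, ⟨x, hx, rfl⟩, rfl⟩
          obtain ⟨y, hy, hyx⟩ := hXinv x hx
          exact ⟨y, hy, hyx⟩
        · exact le_of_eq (Nat.card_congr (Xh.equivMapOfInjective _
            (MulEquiv.injective (MulAut.conj n))).toEquiv)
    have hXhn : Xh.Normal := Subgroup.normalizer_eq_top_iff.1 hnor
    rcases hXhn.eq_bot_or_eq_top with h | h
    · exact hX (Subgroup.map_injective hinj (h.trans (Subgroup.map_bot _).symm))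
    · exact hG.1 (top_le_iff.1 (h ▸ (Subgroup.map_subtype_le X)))
  -- conjugation by `n` on elements of `S`
  have hnS : ∀ x ∈ (S : Subgroup ↥G), ∃ y ∈ (S : Subgroup ↥G), (y : H) = n * x * n⁻¹ := by
    intro x hx
    obtain ⟨y, hy, hyx⟩ := (Subgroup.mem_normalizer_iff.1 hn _).1 (⟨x, hx, rfl⟩ : (x : H) ∈ Sh)
    exact ⟨y, hy, hyx⟩
  have hnS' : ∀ y ∈ (S : Subgroup ↥G), ∃ x ∈ (S : Subgroup ↥G), (y : H) = n * x * n⁻¹ := by
    intro y hy
    obtain ⟨x, hx, hxy⟩ := (Subgroup.mem_normalizer_iff.1 (inv_mem hn) _).1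
      (⟨y, hy, rfl⟩ : (y : H) ∈ Sh)
    refine ⟨x, hx, ?_⟩
    rw [show (x : H) = n⁻¹ * y * n⁻¹⁻¹ from hxy]; group
  -- `Z` and `V`
  let Z : Subgroup ↥G :=
    { carrier := {z | z ∈ (S : Subgroup ↥G) ∧ z * z = 1 ∧ ∀ s ∈ (S : Subgroup ↥G), s * z = z * s}
      one_mem' := ⟨one_mem _, one_mul 1, fun s _ => by rw [mul_one, one_mul]⟩
      mul_mem' := fun {a b} ha hb => ⟨mul_mem ha.1 hb.1, by
        calc a * b * (a * b) = a * (b * a) * b := by group
          _ = (a * a) * (b * b) := by rw [ha.2.2 b hb.1]; group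
          _ = 1 := by rw [ha.2.1, hb.2.1, one_mul], fun s hs => by
        calc s * (a * b) = (s * a) * b := by group
          _ = a * (s * b) := by rw [ha.2.2 s hs]; group
          _ = a * b * s := by rw [hb.2.2 s hs]; group⟩
      inv_mem' := fun {a} ha => by rw [inv_eq_of_mul_eq_one_right ha.2.1]; exact ha }
  have hZne : Z ≠ ⊥ := by
    haveI : Nontrivial ↥(S : Subgroup ↥G) := (Subgroup.nontrivial_iff_ne_bot _).2 hS1
    haveI := S.2.center_nontrivial
    have h2 : 2 ∣ Nat.card ↥(Subgroup.center ↥(S : Subgroup ↥G)) := by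
      obtain ⟨k, hk, hk'⟩ := (S.2.to_subgroup (Subgroup.center ↥(S : Subgroup ↥G))).nontrivial_iff_card.1
        inferInstance
      rw [hk']; exact dvd_pow_self 2 hk.ne'
    obtain ⟨z, hz⟩ := exists_prime_orderOf_dvd_card' 2 h2
    intro h
    have hz2 : z * z = 1 := by
      have h' := pow_orderOf_eq_one z
      rwa [hz, pow_two] at h'
    have hmem : (((z : ↥(S : Subgroup ↥G))) : ↥G) ∈ Z := ⟨(z : ↥(S : Subgroup ↥G)).2,
      congrArg (fun w : ↥(Subgroup.center ↥(S : Subgroup ↥G)) => ((w : ↥(S : Subgroup ↥G)) : ↥G)) hz2,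
      fun s hs => congrArg (Subtype.val) (Subgroup.mem_center_iff.1 z.2 ⟨s, hs⟩)⟩
    rw [h, Subgroup.mem_bot] at hmem
    rw [show z = 1 from Subtype.ext (Subtype.ext hmem), orderOf_one] at hz
    exact absurd hz (by norm_num)
  have hZQ : Z ≤ Q ⊓ Subgroup.centralizer (Q : Set ↥G) := by
    intro z hz
    have h : z ∈ Subgroup.centralizer (Q : Set ↥G) :=
      Subgroup.mem_centralizer_iff.2 fun x hx => hz.2.2 x (hQS hx)
    exact ⟨hchar h, h⟩
  let V : Subgroup ↥G := Subgroup.normalClosure (Z : Set ↥G)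
  haveI hVn : V.Normal := inferInstanceAs (Subgroup.normalClosure (Z : Set ↥G)).Normal
  have hVQ : V ≤ Q ⊓ Subgroup.centralizer (Q : Set ↥G) := Subgroup.normalClosure_le_normal hZQ
  have hV2 : ∀ x ∈ V, x * x = 1 := by
    intro x hx
    refine sq_eq_one_of_closure ?_ ?_ (hx : x ∈ Subgroup.closure (Group.conjugatesOfSet (Z : Set ↥G)))
    · intro a ha b hb
      have ha' := hVQ (Subgroup.subset_closure ha)
      have hb' := hVQ (Subgroup.subset_closure hb)
      exact Subgroup.mem_centralizer_iff.1 hb'.2 a ha'.1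
    · intro a ha
      obtain ⟨z, hz, hza⟩ := Group.mem_conjugatesOfSet_iff.1 ha
      obtain ⟨g, rfl⟩ := isConj_iff.1 hza
      rw [conj_mul, hz.2.1]; group
  have hfaith : Subgroup.centralizer (V : Set ↥G) ≤ Q := by
    intro d hd
    by_contra hdQ
    rw [← hker, MonoidHom.mem_ker] at hdQ
    set K := Subgroup.centralizer (V : Set ↥G)
    haveI : K.Normal := Subgroup.normal_centralizer
    haveI hKi : (K.map φ).Normal := Subgroup.Normal.map inferInstance φ hφ
    obtain ⟨s, hsS, hsQ⟩ : ∃ s ∈ (S : Subgroup ↥G), s ∉ φ.ker := by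
      by_contra hc
      push_neg at hc
      have hle : (S : Subgroup ↥G) ≤ Q := hker ▸ hc
      have hd2 : 2 ∣ Q.index := by
        rw [Subgroup.index_eq_card, Nat.card_congr e.toEquiv, DihedralGroup.nat_card]
        exact dvd_mul_right 2 q
      exact S.not_dvd_index (hd2.trans (Subgroup.index_dvd_of_le hle))
    obtain ⟨i, hi⟩ := (hrefl s hsS).resolve_left hsQ
    have htop : (K ⊔ (S : Subgroup ↥G)).map φ = ⊤ := by
      obtain ⟨k, hk, hkK⟩ : ∃ k : ZMod q, k ≠ 0 ∧ DihedralGroup.r k ∈ K.map φ := by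
        have hm : φ d ∈ K.map φ := Subgroup.mem_map_of_mem φ hd
        rcases h : φ d with k | j
        · refine ⟨k, fun hk => hdQ (by rw [h, hk, DihedralGroup.one_def]), h ▸ hm⟩
        · rw [h] at hm
          refine ⟨-2, ?_, ?_⟩
          · rw [neg_ne_zero]
            intro h2
            exact hq2 ((Nat.prime_dvd_prime_iff_eq hq Nat.prime_two).1
              ((ZMod.natCast_eq_zero_iff _ _).1 (by exact_mod_cast h2)))
          · have hc := hKi.conj_mem _ hm (DihedralGroup.r 1)
            have := mul_mem hm hc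
            rw [show (DihedralGroup.r 1 : DihedralGroup q)⁻¹ = DihedralGroup.r (-1) from rfl,
              DihedralGroup.r_mul_sr, DihedralGroup.sr_mul_r, DihedralGroup.sr_mul_sr,
              show j - 1 + -1 - j = (-2 : ZMod q) by ring] at this
            exact this
      exact eq_top_of_mem hk (Subgroup.map_mono le_sup_left hkK)
        (hi ▸ Subgroup.mem_map_of_mem φ (le_sup_right (a := K) hsS))
    have hall : K ⊔ (S : Subgroup ↥G) = ⊤ := by
      refine top_le_iff.1 fun g _ => ?_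
      obtain ⟨g', hg', hgg⟩ : φ g ∈ (K ⊔ (S : Subgroup ↥G)).map φ := htop ▸ Subgroup.mem_top _
      have h1 : g'⁻¹ * g ∈ Q := by rw [← hker, MonoidHom.mem_ker, map_mul, map_inv, hgg, inv_mul_cancel]
      simpa using mul_mem hg' (Subgroup.mem_sup_right (S := K) (hQS h1))
    refine hZne (key Z ?_ ?_)
    · have hc : ∀ g : ↥G, ∀ z ∈ Z, g * z = z * g := by
        intro g
        have hg : g ∈ K ⊔ (S : Subgroup ↥G) := hall ▸ Subgroup.mem_top g
        intro z hz
        have hle : K ⊔ (S : Subgroup ↥G) ≤ Subgroup.centralizer ({z} : Set ↥G) := sup_le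
          (fun k hk => Subgroup.mem_centralizer_singleton_iff.2
            (Subgroup.mem_centralizer_iff.1 hk z (Subgroup.subset_normalClosure hz)).symm)
          (fun x hx => Subgroup.mem_centralizer_singleton_iff.2 (hz.2.2 x hx))
        exact Subgroup.mem_centralizer_singleton_iff.1 (hle hg)
      exact ⟨fun z hz g => by rw [hc g z hz, mul_inv_cancel_right]; exact hz⟩
    · intro z hz
      obtain ⟨y, hy, hyz⟩ := hnS z hz.1
      refine ⟨y, ⟨hy, ?_, ?_⟩, hyz⟩
      · apply Subtype.ext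
        show (y : H) * y = 1
        rw [hyz, conj_mul, show (z : H) * z = 1 from congrArg Subtype.val hz.2.1]; group
      · intro t ht
        obtain ⟨x, hx, hxt⟩ := hnS' t ht
        apply Subtype.ext
        show (t : H) * y = y * t
        rw [hyz, hxt, conj_mul, conj_mul,
          show (x : H) * z = z * x from congrArg Subtype.val (hz.2.2 x hx)]
  -- an offender outside `Q`
  let El : Set (Subgroup ↥G) := {A | A ≤ (S : Subgroup ↥G) ∧ ∀ a ∈ A, a * a = 1}
  obtain ⟨A₀, hA₀, hmax₀⟩ := Set.Finite.exists_maximalFor (fun A : Subgroup ↥G => Nat.card A) El El.toFinite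
    ⟨⊥, bot_le, fun a ha => by rw [Subgroup.mem_bot.1 ha, one_mul]⟩
  let M := Nat.card A₀
  have hM : ∀ A ∈ El, Nat.card A ≤ M := fun A hA => (le_total (Nat.card A) M).elim id
    (fun h => hmax₀ hA h)
  obtain ⟨A, hA, hAM, hAQ⟩ : ∃ A ∈ El, Nat.card A = M ∧ ¬ A ≤ Q := by
    by_contra hc
    push_neg at hc
    let J : Subgroup ↥G := ⨆ A : {A // A ∈ El ∧ Nat.card ↥A = M}, A.1
    have hJn : J.Normal := by
      refine Subgroup.normalizer_eq_top_iff.1 (top_le_iff.1 fun g _ => ?_)
      refine Subgroup.mem_normalizer_iff_map_conj_eq.2 (Subgroup.eq_of_le_of_card_ge ?_ ?_)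
      · rw [Subgroup.map_iSup]
        refine iSup_le fun A => ?_
        refine le_iSup_of_le ⟨A.1.map (MulAut.conj g).toMonoidHom, ⟨?_, ?_⟩, ?_⟩ le_rfl
        · rintro _ ⟨a, ha, rfl⟩
          exact hQS (hQn.conj_mem a (hc A.1 A.2.1 A.2.2 ha) g)
        · rintro _ ⟨a, ha, rfl⟩
          show g * a * g⁻¹ * (g * a * g⁻¹) = 1
          rw [conj_mul, A.2.1.2 a ha]; group
        · exact (Nat.card_congr (A.1.equivMapOfInjective _
            (MulEquiv.injective (MulAut.conj g))).toEquiv).symm.trans A.2.2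
      · exact le_of_eq (Nat.card_congr (J.equivMapOfInjective _
          (MulEquiv.injective (MulAut.conj g))).toEquiv)
    have hJS : J ≤ (S : Subgroup ↥G) := iSup_le fun A => A.2.1.1
    have hJ0 : J = ⊥ := by
      refine key J hJn fun x hx => ?_
      have hle : J ≤ (J.map G.subtype).comap ((MulAut.conj n).toMonoidHom.comp G.subtype) := by
        refine iSup_le fun A a ha => ?_
        let f := (MulAut.conj n).toMonoidHom.comp G.subtype
        let A' : Subgroup ↥G := (A.1.map f).comap G.subtype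
        have hsub : ∀ b ∈ A.1.map f, ∃ y ∈ (S : Subgroup ↥G), (y : H) = b := by
          rintro _ ⟨b, hb, rfl⟩
          exact hnS b (A.2.1.1 hb)
        have hmem : A'.map G.subtype = A.1.map f := by
          refine Subgroup.map_comap_eq_self ?_
          intro b hb
          obtain ⟨y, -, hy⟩ := hsub b hb
          exact ⟨y, hy⟩
        have hEl : A' ∈ El := by
          refine ⟨fun y hy => ?_, fun y hy => ?_⟩
          · obtain ⟨y', hy', e'⟩ := hsub _ hy
            rwa [← (Subtype.ext e' : y' = y)]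
          · obtain ⟨b, hb, e'⟩ := hy
            apply Subtype.ext
            show (y : H) * y = 1
            rw [show (y : H) = n * b * n⁻¹ from e'.symm, conj_mul,
              show (b : H) * b = 1 from congrArg Subtype.val (A.2.1.2 b hb)]
            group
        have hcard' : Nat.card ↥A' = M := by
          rw [← A.2.2, Nat.card_congr (A'.equivMapOfInjective G.subtype Subtype.val_injective).toEquiv,
            hmem]
          exact (Nat.card_congr (A.1.equivMapOfInjective f
            (fun x y h => Subtype.ext ((MulAut.conj n).injective h))).toEquiv).symm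
        obtain ⟨y, hy, hya⟩ : f a ∈ A'.map G.subtype := hmem ▸ Subgroup.mem_map_of_mem f ha
        exact ⟨y, le_iSup (fun A : {A // A ∈ El ∧ Nat.card ↥A = M} => A.1) ⟨A', hEl, hcard'⟩ hy, hya⟩
      obtain ⟨y, hy, hyx⟩ := hle hx
      exact ⟨y, hy, hyx⟩
    have hA₀0 : A₀ = ⊥ := le_bot_iff.1 (hJ0 ▸ le_iSup (fun A : {A // A ∈ El ∧ Nat.card ↥A = M} => A.1) ⟨A₀, hA₀, rfl⟩)
    have hM1 : M = 1 := by show Nat.card A₀ = 1; rw [hA₀0, Subgroup.card_bot]
    have hZEl : Z ∈ El := ⟨fun z hz => hz.1, fun z hz => hz.2.1⟩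
    exact hZne (Subgroup.card_eq_one.1 (le_antisymm (hM1 ▸ hM Z hZEl) Nat.card_pos))
  obtain ⟨t, htA, htQ⟩ := SetLike.not_le_iff_exists.1 hAQ
  have htQ' : t ∉ φ.ker := by rwa [hker]
  obtain ⟨i, hi⟩ := (hrefl t (hA.1 htA)).resolve_left htQ'
  have htr : Nat.card V ≤ 2 * Nat.card ↥(V ⊓ Subgroup.centralizer ({t} : Set ↥G)) := by
    set A1 := A ⊓ Q with hA1
    have h2 : Nat.card A ≤ 2 * Nat.card A1 := by
      have h := Subgroup.relIndex_mul_relIndex ⊥ A1 A bot_le inf_le_left
      rw [Subgroup.relIndex_bot_left, Subgroup.relIndex_bot_left] at h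
      have hle : A1.relIndex A ≤ 2 := by
        rw [Subgroup.relIndex, Subgroup.index_eq_card]
        let g : Fin 2 → ↥A ⧸ A1.subgroupOf A := fun j =>
          if j = 0 then QuotientGroup.mk 1 else QuotientGroup.mk ⟨t, htA⟩
        refine le_trans (Nat.card_le_card_of_surjective g ?_) (by simp)
        rintro ⟨a⟩
        by_cases ha : (a : ↥G) ∈ φ.ker
        · refine ⟨0, QuotientGroup.eq.2 ?_⟩
          rw [Subgroup.mem_subgroupOf]
          exact ⟨by simp, by rw [← hker]; simpa using ha⟩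
        · refine ⟨1, QuotientGroup.eq.2 ?_⟩
          rw [Subgroup.mem_subgroupOf]
          refine ⟨by simp [mul_mem (inv_mem htA) a.2], ?_⟩
          rw [← hker]
          have hti : t⁻¹ = t := inv_eq_of_mul_eq_one_right (hA.2 t htA)
          simpa [hti] using hprod t (hA.1 htA) a (hA.1 a.2) htQ' ha
      calc Nat.card A = Nat.card A1 * A1.relIndex A := h.symm
        _ ≤ Nat.card A1 * 2 := Nat.mul_le_mul_left _ hle
        _ = _ := mul_comm _ _
    have hcomm : ∀ a ∈ A1, ∀ v ∈ V, a * v = v * a := fun a ha v hv =>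
      Subgroup.mem_centralizer_iff.1 (hVQ hv).2 a ha.2
    have hBEl : A1 ⊔ V ∈ El := by
      refine ⟨sup_le (inf_le_left.trans hA.1) (le_trans (hVQ.trans inf_le_left) hQS), ?_⟩
      intro x hx
      obtain ⟨a, ha, v, hv, rfl⟩ := Subgroup.mem_sup_of_normal_right.1 hx
      calc a * v * (a * v) = a * (v * a) * v := by group
        _ = (a * a) * (v * v) := by rw [← hcomm a ha v hv]; group
        _ = 1 := by rw [hA.2 a ha.1, hV2 v hv, one_mul]
    have hBM := hM _ hBEl
    have hprod' : Nat.card ↥(A1 ⊔ V : Subgroup ↥G) * Nat.card ↥(A1 ⊓ V : Subgroup ↥G) =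
        Nat.card A1 * Nat.card V := by
      have e1 := Subgroup.relIndex_mul_relIndex ⊥ V (A1 ⊔ V) bot_le le_sup_right
      have e2 := Subgroup.relIndex_mul_relIndex ⊥ (A1 ⊓ V) A1 bot_le inf_le_left
      rw [Subgroup.relIndex_bot_left, Subgroup.relIndex_bot_left] at e1 e2
      rw [Subgroup.relIndex_sup_right] at e1
      rw [Subgroup.inf_relIndex_left] at e2
      rw [← e1, ← e2]; ring
    have hAV : Nat.card ↥(A1 ⊓ V : Subgroup ↥G) ≤ Nat.card ↥(V ⊓ Subgroup.centralizer ({t} : Set ↥G)) := by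
      refine Subgroup.card_le_of_le fun x hx => ⟨hx.2, Subgroup.mem_centralizer_singleton_iff.2 ?_⟩
      have hx1 := hA.2 _ (mul_mem hx.1.1 htA)
      have h3 := inv_eq_of_mul_eq_one_right hx1
      rw [mul_inv_rev, inv_eq_of_mul_eq_one_right (hA.2 x hx.1.1),
        inv_eq_of_mul_eq_one_right (hA.2 t htA)] at h3
      exact h3.symm
    have hposA : 0 < Nat.card A1 := Nat.card_pos
    rw [← hAM] at hBM
    have : Nat.card A1 * Nat.card V ≤ Nat.card A1 * (2 * Nat.card ↥(A1 ⊓ V : Subgroup ↥G)) := by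
      rw [← hprod']
      calc Nat.card ↥(A1 ⊔ V : Subgroup ↥G) * Nat.card ↥(A1 ⊓ V : Subgroup ↥G)
          ≤ (2 * Nat.card A1) * Nat.card ↥(A1 ⊓ V : Subgroup ↥G) := Nat.mul_le_mul_right _ (hBM.trans h2)
        _ = _ := by ring
    exact (Nat.le_of_mul_le_mul_left this hposA).trans (Nat.mul_le_mul_left 2 hAV)
  have hq3 : q = 3 := eq_three hq2 φ hφ hker
    (Subgroup.le_centralizer_iff.1 (hVQ.trans inf_le_right)) hV2 hfaith hi htr
  subst hq3
  -- the action on the cosets of `G`
  have hQ4 : 4 ≤ Nat.card Q := by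
    by_contra hlt
    have hn1 : nq < 2 := by
      by_contra h
      exact hlt (hnq ▸ (show 4 = 2 ^ 2 by norm_num) ▸ Nat.pow_le_pow_right two_pos (not_lt.1 h))
    have hc : (⊤ : Subgroup ↥G) ≤ Subgroup.centralizer (Q : Set ↥G) := by
      intro g _
      refine Subgroup.mem_centralizer_iff.2 fun x hx => ?_
      by_contra hne
      have hx1 : (⟨x, hx⟩ : ↥Q) ≠ 1 := fun h => hne (by
        rw [show x = 1 from congrArg Subtype.val h, one_mul, mul_one])
      have hgx : (⟨g * x * g⁻¹, hQn.conj_mem x hx g⟩ : ↥Q) ≠ 1 := fun h => hx1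
        (Subtype.ext (conj_eq_one_iff.1 (congrArg Subtype.val h)))
      have hne2 : (⟨g * x * g⁻¹, hQn.conj_mem x hx g⟩ : ↥Q) ≠ ⟨x, hx⟩ := fun h => hne
        (mul_inv_eq_iff_eq_mul.1 (congrArg Subtype.val h)).symm
      have h2 : Nat.card Q = 2 := by
        have h1 : 1 < Nat.card Q := Finite.one_lt_card_iff_nontrivial.2 ⟨_, _, hx1⟩
        rw [hnq] at h1 ⊢
        interval_cases nq
        · exact absurd h1 (by norm_num)
        · norm_num
      obtain ⟨y, -, huy⟩ := (Nat.card_eq_two_iff' (1 : ↥Q)).1 h2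
      exact hne2 ((huy _ hgx).trans (huy _ hx1).symm)
    have htop : (⊤ : Subgroup ↥G) ≤ Q := hc.trans hchar
    have h1 : Nat.card Q = Nat.card ↥G := by rw [top_le_iff.1 htop, Subgroup.card_top]
    have hpos : 0 < Nat.card Q := Nat.card_pos
    omega
  have hcore : G.normalCore = ⊥ :=
    (G.normalCore_normal.eq_bot_or_eq_top).resolve_right fun h =>
      hG.1 (top_le_iff.1 (h ▸ G.normalCore_le))
  haveI : FaithfulSMul H (H ⧸ G) := by
    refine ⟨fun {x y} h => ?_⟩
    have : x⁻¹ * y ∈ (MulAction.toPermHom H (H ⧸ G)).ker := by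
      rw [MonoidHom.mem_ker]
      ext z
      simp [MulAction.toPermHom, mul_smul, ← h z]
    rw [← Subgroup.normalCore_eq_ker, hcore, Subgroup.mem_bot, inv_mul_eq_one] at this
    exact this
  haveI : Nontrivial (H ⧸ G) := QuotientGroup.nontrivial_iff.2 hG.1
  have hst : MulAction.stabilizer H ((1 : H) : H ⧸ G) = G := MulAction.stabilizer_quotient G
  have hprim : MulAction.IsPreprimitive H (H ⧸ G) :=
    (MulAction.isCoatom_stabilizer_iff_preprimitive _ _).1 (hst.symm ▸ hG)
  have h3 : Nat.card (MulAction.orbit (MulAction.stabilizer H ((1 : H) : H ⧸ G)) ((n : H) : H ⧸ G)) = 3 := by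
    rw [Nat.card_coe_set_eq, ← MulAction.index_stabilizer, hst]
    set K := MulAction.stabilizer ↥G ((n : H) : H ⧸ G)
    have hmemK : ∀ g : ↥G, g ∈ K ↔ n⁻¹ * (g : H)⁻¹ * n ∈ G := by
      intro g
      rw [MulAction.mem_stabilizer_iff]
      show ((((g : H) * n : H)) : H ⧸ G) = (n : H ⧸ G) ↔ _
      rw [QuotientGroup.eq, show ((g : H) * n)⁻¹ * n = n⁻¹ * (g : H)⁻¹ * n by group]
    have hSK : (S : Subgroup ↥G) ≤ K := by
      intro x hx
      rw [hmemK]
      obtain ⟨y, hy, hyx⟩ := hnS' x⁻¹ (inv_mem hx)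
      rw [show (x : H)⁻¹ = n * y * n⁻¹ from hyx, show n⁻¹ * (n * (y : H) * n⁻¹) * n = y by group]
      exact y.2
    have hSi : (S : Subgroup ↥G).index ∣ 3 := by
      have h6 : (S : Subgroup ↥G).index ∣ 2 * 3 := by
        refine (Subgroup.index_dvd_of_le hQS).trans ?_
        rw [Subgroup.index_eq_card, Nat.card_congr e.toEquiv, DihedralGroup.nat_card]
      exact (Nat.Coprime.dvd_of_dvd_mul_left
        ((Nat.prime_two.coprime_iff_not_dvd).2 S.not_dvd_index).symm h6)
    refine ((Nat.dvd_prime Nat.prime_three).1 ((Subgroup.index_dvd_of_le hSK).trans hSi)).resolve_left ?_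
    intro h1
    have hKt := Subgroup.index_eq_one.1 h1
    have hnN : n⁻¹ ∈ Subgroup.normalizer (G : Set H) := by
      refine Subgroup.mem_normalizer_iff_map_conj_eq.2 (Subgroup.eq_of_le_of_card_ge ?_ ?_)
      · rintro _ ⟨g, hg, rfl⟩
        have := (hmemK ⟨g, hg⟩⁻¹).1 (hKt ▸ Subgroup.mem_top _)
        show n⁻¹ * g * n⁻¹⁻¹ ∈ G
        simpa using this
      · exact le_of_eq (Nat.card_congr (G.equivMapOfInjective _
          (MulEquiv.injective (MulAut.conj n⁻¹))).toEquiv)
    have hGn : Subgroup.normalizer (G : Set H) = ⊤ := hG.2 _ (lt_of_le_of_ne Subgroup.le_normalizer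
      fun h => hnG (inv_mem_iff.1 (h ▸ hnN)))
    rcases (Subgroup.normalizer_eq_top_iff.1 hGn).eq_bot_or_eq_top with h | h
    · have hpos : 0 < Nat.card Q := Nat.card_pos
      have h1 : Nat.card ↥G = 1 := Subgroup.card_eq_one.2 h
      omega
    · exact hG.1 h
  have hGcard : 24 ≤ Nat.card ↥G := by rw [hcard]; omega
  have e0 := MulEquiv.subgroupCongr hst
  rcases CfsgLib.Recog.Sims.stabilizer_three hprim _ _ h3 with h | h | h | h | h <;> obtain ⟨f⟩ := h
  · have := Nat.card_congr (e0.symm.trans f).toEquiv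
    simp at this; omega
  · have := Nat.card_congr (e0.symm.trans f).toEquiv
    rw [Nat.card_perm, Nat.card_fin] at this
    simp [Nat.factorial] at this; omega
  · have := Nat.card_congr (e0.symm.trans f).toEquiv
    rw [DihedralGroup.nat_card] at this; omega
  · exact Or.inl ⟨e0.symm.trans f⟩
  · exact Or.inr ⟨e0.symm.trans f⟩

end Cfsg.Agent.S2772
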