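import Cfsg.Statements.S2779
import Cfsg.Agent.Lib.Amalgam.NaturalSLTwo

set_option autoImplicit false
open Cfsg

namespace Cfsg.Agent.S2779

open Subgroup CfsgLib.Amalgam CfsgLib.Classical
open scoped MatrixGroups commutatorElement

/-- Let L act on the elementary abelian p-group V (inside a finite group, by conjugation, faithfully) as SL₂(F) on its natural module, F a field with p^n elements, and let S be a Sylow p-subgroup of L. Then [V, S, S] = 1; |V| = p^(2n) and |C_V(S)| = p^n; and for every nonidentity s ∈ S and every v ∈ V outside C_V(S): C_V(s) = C_V(S) = [V, S] = [V, s] = the subgroup generated by the commutators [v, t], t ∈ S. -/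
theorem result {G : Type*} [Group G] [Finite G] {p : ℕ} [Fact p.Prime] {F : Type*} [Field F] [Fintype F] (n : ℕ) (hF : Fintype.card F = p ^ n) (V L : Subgroup G) (hnat : Cfsg.IsNaturalSL2Module F V L) (hf : L ⊓ Subgroup.centralizer (V : Set G) = ⊥) (S : Sylow p ↥L) (T : Subgroup G) (hT : T = ((S : Subgroup ↥L).map L.subtype)) : ⁅⁅V, T⁆, T⁆ = ⊥ ∧ Nat.card V = p ^ (2 * n) ∧ Nat.card ↥(V ⊓ Subgroup.centralizer ((T : Subgroup G) : Set G)) = p ^ n ∧ ∀ s ∈ T, s ≠ 1 → (V ⊓ Subgroup.centralizer ({s} : Set G)) = (V ⊓ Subgroup.centralizer ((T : Subgroup G) : Set G)) ∧ ⁅V, T⁆ = (V ⊓ Subgroup.centralizer ((T : Subgroup G) : Set G)) ∧ ⁅V, Subgroup.zpowers s⁆ = (V ⊓ Subgroup.centralizer ((T : Subgroup G) : Set G)) ∧ ∀ v ∈ V, v ∉ Subgroup.centralizer (T : Set G) → Subgroup.closure {x : G | ∃ t ∈ T, x = v * t * v⁻¹ * t⁻¹} = (V ⊓ Subgroup.centralizer ((T : Subgroup G) : Set G)) := by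
  obtain ⟨c⟩ := exists_natCoord hF hnat hf S hT
  have hmemW : ∀ x, x ∈ V ⊓ centralizer (T : Set G) ↔ ∃ hx : x ∈ V, c.co ⟨x, hx⟩ 1 = 0 :=
    fun x => ⟨fun h => ⟨h.1, (c.mem_fix_iff ⟨x, h.1⟩).1 h.2⟩, fun ⟨hx, h⟩ => ⟨hx, (c.mem_fix_iff ⟨x, hx⟩).2 h⟩⟩
  have hcomm : ∀ v ∈ V, ∀ t ∈ T, v * t * v⁻¹ * t⁻¹ ∈ V ⊓ centralizer (T : Set G) := by
    intro v hv t ht
    obtain ⟨b, hb⟩ := c.exists_unipotent ht
    obtain ⟨w, hw, hw'⟩ := c.co_comm ht hb ⟨v, hv⟩
    have h : (w : G) ∈ V ⊓ centralizer (T : Set G) := ⟨w.2, (c.mem_fix_iff w).2 (by rw [hw']; simp)⟩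
    rwa [hw] at h
  have hcardq : Nat.card (Fin 2 → F) = p ^ (2 * n) := by
    rw [Nat.card_fun, Nat.card_eq_fintype_card, hF, Nat.card_fin, ← pow_mul, mul_comm]
  refine ⟨?_, ?_, ?_, fun s hs hs1 => ?_⟩
  · rw [eq_bot_iff, commutator_le]
    intro w hw t ht
    rw [Subgroup.mem_bot, commutatorElement_eq_one_iff_mul_comm]
    have hle : ⁅V, T⁆ ≤ V ⊓ centralizer (T : Set G) := commutator_le.2 hcomm
    exact (mem_centralizer_iff.1 (hle hw).2 t ht).symm
  · rw [← hcardq]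
    exact Nat.card_congr ((Additive.ofMul (α := ↥V)).trans c.vec.toEquiv)
  · rw [← hF, ← Nat.card_eq_fintype_card]
    refine Nat.card_congr (Equiv.ofBijective (fun x : ↥(V ⊓ centralizer (T : Set G)) => c.co ⟨x, x.2.1⟩ 0) ⟨?_, ?_⟩)
    · intro x y h
      obtain ⟨_, hx⟩ := (hmemW _).1 x.2
      obtain ⟨_, hy⟩ := (hmemW _).1 y.2
      have e : c.co ⟨x, x.2.1⟩ = c.co ⟨y, y.2.1⟩ := by
        funext i
        fin_cases i
        · exact h
        · exact hx.trans hy.symm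
      exact Subtype.ext (show (x : G) = y from Subtype.mk.inj (c.co_inj e))
    · intro a
      obtain ⟨v, hv⟩ := c.co_surj ![a, 0]
      exact ⟨⟨v, (hmemW _).2 ⟨v.2, by simp [hv]⟩⟩, by simp [hv]⟩
  obtain ⟨b, hb⟩ := c.exists_unipotent hs
  have hb0 : b ≠ 0 := by
    intro h0
    have h : c.toSL ⟨s, c.le hs⟩ = 1 := by
      rw [hb, h0]
      refine Matrix.SpecialLinearGroup.ext _ _ ?_
      intro i j
      rw [uElt_val, Matrix.SpecialLinearGroup.coe_one]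
      fin_cases i <;> fin_cases j <;> simp
    rw [← c.toSL.map_one] at h
    exact hs1 (congrArg Subtype.val (c.toSL.injective h))
  have hgen : ∀ w ∈ V ⊓ centralizer (T : Set G), ∃ v ∈ V, v * s * v⁻¹ * s⁻¹ = w := by
    intro w hw
    obtain ⟨hwV, hw1⟩ := (hmemW w).1 hw
    obtain ⟨v, hv⟩ := c.co_surj ![0, -(c.co ⟨w, hwV⟩ 0) / b]
    obtain ⟨u, hu, hu'⟩ := c.co_comm hs hb v
    refine ⟨v, v.2, ?_⟩
    have : u = ⟨w, hwV⟩ := c.co_inj (by
      rw [hu', hv]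
      funext i
      fin_cases i
      · simp; field_simp
      · simp [hw1])
    rw [← hu, this]
  refine ⟨?_, le_antisymm (commutator_le.2 hcomm) (fun w hw => ?_),
    le_antisymm (commutator_le.2 fun v hv t ht => hcomm v hv t (zpowers_le.2 hs ht)) (fun w hw => ?_),
    fun v hv hvT => le_antisymm ((closure_le _).2 ?_) (fun w hw => ?_)⟩
  · refine le_antisymm (fun x hx => ?_) (inf_le_inf_left _ (centralizer_le (Set.singleton_subset_iff.2 hs)))
    refine (hmemW x).2 ⟨hx.1, ((c.commute_unipotent hs hb ⟨x, hx.1⟩).1 ?_).resolve_left hb0⟩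
    exact mem_centralizer_iff.1 hx.2 s rfl
  · obtain ⟨v, hv, rfl⟩ := hgen w hw
    exact commutator_mem_commutator hv hs
  · obtain ⟨v, hv, rfl⟩ := hgen w hw
    exact commutator_mem_commutator hv (mem_zpowers s)
  · rintro _ ⟨t, ht, rfl⟩
    exact hcomm v hv t ht
  · obtain ⟨hwV, hw1⟩ := (hmemW w).1 hw
    have hy : c.co ⟨v, hv⟩ 1 ≠ 0 := fun h => hvT ((c.mem_fix_iff ⟨v, hv⟩).2 h)
    obtain ⟨t, ht, htb⟩ := c.exists_mem (-(c.co ⟨w, hwV⟩ 0) / c.co ⟨v, hv⟩ 1)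
    obtain ⟨u, hu, hu'⟩ := c.co_comm ht htb ⟨v, hv⟩
    have : u = ⟨w, hwV⟩ := c.co_inj (by
      rw [hu']
      funext i
      fin_cases i
      · simp; field_simp
      · simp [hw1])
    exact subset_closure ⟨t, ht, by rw [← hu, this]⟩

end Cfsg.Agent.S2779
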