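import Cfsg.Statements.S2780
import Cfsg.Agent.Lib.Amalgam.NaturalSLTwo
import Cfsg.Agent.Lib.Amalgam.QdBasic

set_option autoImplicit false
open Cfsg

namespace Cfsg.Agent.S2780

open Subgroup CfsgLib.Amalgam CfsgLib.Classical
open scoped MatrixGroups

theorem conj_uElt_eq {F : Type*} [Field F] (M : SL(2, F)) (h : (M : Matrix (Fin 2) (Fin 2) F) 1 0 = 0) (b : F) :
    M * uElt b * M⁻¹ = uElt ((M : Matrix (Fin 2) (Fin 2) F) 0 0 ^ 2 * b) := by
  rw [mul_inv_eq_iff_eq_mul]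
  have hd := M.det_coe
  rw [Matrix.det_fin_two, h, mul_zero, sub_zero] at hd
  refine Matrix.SpecialLinearGroup.ext _ _ ?_
  intro i j
  rw [Matrix.SpecialLinearGroup.coe_mul, Matrix.SpecialLinearGroup.coe_mul, uElt_val, uElt_val]
  fin_cases i <;> fin_cases j <;> simp [Matrix.mul_apply, Fin.sum_univ_two, h] <;>
    linear_combination (-((M : Matrix (Fin 2) (Fin 2) F) 0 0 * b)) * hd

theorem fixes_vector_pow_eq_one {F : Type*} [Field F] {p : ℕ} [CharP F p] (M : SL(2, F)) {w : Fin 2 → F}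
    (hw : w ≠ 0) (h : (M : Matrix (Fin 2) (Fin 2) F).mulVec w = w) : M ^ p = 1 := by
  obtain ⟨A, hA⟩ := Qd.exists_mulVec_eq hw
  set N := A⁻¹ * M * A with hN
  have hfix : (N : Matrix (Fin 2) (Fin 2) F).mulVec ![1, 0] = ![1, 0] := by
    rw [hN, Matrix.SpecialLinearGroup.coe_mul, Matrix.SpecialLinearGroup.coe_mul, ← Matrix.mulVec_mulVec, hA,
      ← Matrix.mulVec_mulVec, h, ← hA, Matrix.mulVec_mulVec, ← Matrix.SpecialLinearGroup.coe_mul,
      inv_mul_cancel, Matrix.SpecialLinearGroup.coe_one, Matrix.one_mulVec]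
  have h00 : (N : Matrix (Fin 2) (Fin 2) F) 0 0 = 1 := by
    simpa [Matrix.mulVec, dotProduct, Fin.sum_univ_two] using congrFun hfix 0
  have h10 : (N : Matrix (Fin 2) (Fin 2) F) 1 0 = 0 := by
    simpa [Matrix.mulVec, dotProduct, Fin.sum_univ_two] using congrFun hfix 1
  have h11 : (N : Matrix (Fin 2) (Fin 2) F) 1 1 = 1 := by
    have := N.det_coe
    rw [Matrix.det_fin_two, h00, h10] at this
    simpa using this
  have hu : N = uElt ((N : Matrix (Fin 2) (Fin 2) F) 0 1) := by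
    refine Matrix.SpecialLinearGroup.ext _ _ ?_
    intro i j
    rw [uElt_val]
    fin_cases i <;> fin_cases j <;> simp [h00, h10, h11]
  have hz : uElt (0 : F) = 1 := by
    have e := uElt_add (0 : F) 0
    simp at e
    exact e
  have hpow : ∀ (b : F) (k : ℕ), uElt b ^ k = uElt (k * b) := by
    intro b k
    induction k with
    | zero => simp [hz]
    | succ k ih => rw [pow_succ, ih, ← uElt_add]; congr 1; push_cast; ring
  have h1 : N ^ p = 1 := by rw [hu, hpow, CharP.cast_eq_zero, zero_mul, hz]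
  rw [show M = A * N * A⁻¹ by simp [hN, mul_assoc], conj_pow, h1, mul_one, mul_inv_cancel]

section
variable {G : Type*} [Group G] {F : Type*} [Field F] {V L T : Subgroup G} (c : NatCoord F V L T)

include c in
theorem mem_normalizer_of_lower_zero {g : G} (hg : g ∈ L)
    (h : (c.toSL ⟨g, hg⟩ : Matrix (Fin 2) (Fin 2) F) 1 0 = 0) : g ∈ normalizer (T : Set G) := by
  have key : ∀ (l : ↥L), (c.toSL l : Matrix (Fin 2) (Fin 2) F) 1 0 = 0 → ∀ t ∈ T, (l : G) * t * (l : G)⁻¹ ∈ T := by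
    intro l hl t ht
    obtain ⟨b, hb⟩ := c.exists_unipotent ht
    refine (c.mem (l * ⟨t, c.le ht⟩ * l⁻¹)).2 ?_
    rw [map_mul, map_mul, map_inv, hb, conj_uElt_eq _ hl]
    exact ⟨_, rfl⟩
  have h' : (c.toSL (⟨g, hg⟩ : ↥L)⁻¹ : Matrix (Fin 2) (Fin 2) F) 1 0 = 0 := by
    rw [map_inv, Matrix.SpecialLinearGroup.coe_inv, Matrix.adjugate_fin_two]
    simp [h]
  rw [mem_normalizer_iff]
  refine fun t => ⟨key _ h t, fun ht => ?_⟩
  have e := key _ h' _ ht
  simpa [mul_assoc] using e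

include c in
theorem mem_conj_fix_iff {g : G} (hg : g ∈ L) (x : ↥V) :
    (x : G) ∈ centralizer ((T.map (MulAut.conj g).toMonoidHom : Subgroup G) : Set G) ↔
      ∃ u : ↥V, c.co u 1 = 0 ∧ c.co x = (c.toSL ⟨g, hg⟩ : Matrix (Fin 2) (Fin 2) F).mulVec (c.co u) := by
  constructor
  · intro h
    have hu : g⁻¹ * x * g ∈ V := by simpa using c.conj_mem (inv_mem hg) x.2
    refine ⟨⟨_, hu⟩, (c.mem_fix_iff _).1 ?_, ?_⟩
    · rw [mem_centralizer_iff] at h ⊢
      intro t ht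
      have e := h (g * t * g⁻¹) ⟨t, ht, rfl⟩
      have e' := congrArg (fun z => g⁻¹ * z * g) e
      simpa [mul_assoc] using e'
    · rw [← c.co_conj]
      exact congrArg c.co (Subtype.ext (by simp [mul_assoc]))
  · rintro ⟨u, hu, hx⟩
    rw [← c.co_conj] at hx
    have hx' : (x : G) = g * u * g⁻¹ := congrArg Subtype.val (c.co_inj hx)
    rw [hx', mem_centralizer_iff]
    rintro _ ⟨t, ht, rfl⟩
    have e := mem_centralizer_iff.1 ((c.mem_fix_iff u).2 hu) t ht
    show g * t * g⁻¹ * (g * u * g⁻¹) = g * u * g⁻¹ * (g * t * g⁻¹)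
    simp only [mul_assoc, inv_mul_cancel_left]
    rw [← mul_assoc t, e, mul_assoc]

include c in
theorem exists_torus (U : Subgroup G) (hU : L ⊓ normalizer (T : Set G) ≤ normalizer (U : Set G)) (u : ↥V)
    (hu : (u : G) ∈ U) (a : F) (ha : a ≠ 0) :
    ∃ w : ↥V, (w : G) ∈ U ∧ c.co w = ![a * c.co u 0, a⁻¹ * c.co u 1] := by
  let D : SL(2, F) := ⟨!![a, 0; 0, a⁻¹], by rw [Matrix.det_fin_two_of]; field_simp; ring⟩
  set l := c.toSL.symm D with hl
  have hlD : c.toSL l = D := c.toSL.apply_symm_apply D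
  have hn : (l : G) ∈ normalizer (U : Set G) := hU ⟨l.2, mem_normalizer_of_lower_zero c l.2 (by
    rw [show (⟨(l : G), l.2⟩ : ↥L) = l from rfl, hlD]; rfl)⟩
  refine ⟨⟨_, c.conj_mem l.2 u.2⟩, (mem_normalizer_iff.1 hn _).1 hu, ?_⟩
  rw [c.co_conj, hlD]
  funext i
  fin_cases i <;> simp [D, Matrix.mulVec, dotProduct, Fin.sum_univ_two]

end

/-- Let L act on the elementary abelian p-group V (inside a finite group, faithfully) as SL₂(F) on its natural module, F a field with p^n elements, S a Sylow p-subgroup of L. Then: for every g ∈ L not normalizing S, V is the internal direct product of C_V(S) and C_V(gSg⁻¹); every nonidentity element of L of order prime to p acts on V without nonidentity fixed points; and C_V(S) and V/C_V(S) are irreducible for N_L(S): the only N_L(S)-invariant subgroups of C_V(S) are 1 and C_V(S), and the only N_L(S)-invariant subgroups between C_V(S) and V are those two. -/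
theorem result {G : Type*} [Group G] [Finite G] {p : ℕ} [Fact p.Prime] {F : Type*} [Field F] [Fintype F] (n : ℕ) (hF : Fintype.card F = p ^ n) (V L : Subgroup G) (hnat : Cfsg.IsNaturalSL2Module F V L) (hf : L ⊓ Subgroup.centralizer (V : Set G) = ⊥) (S : Sylow p ↥L) (T : Subgroup G) (hT : T = ((S : Subgroup ↥L).map L.subtype)) : (∀ g ∈ L, g ∉ Subgroup.normalizer (T : Set G) → Cfsg.IsInternalDirectProduct (V ⊓ Subgroup.centralizer ((T : Subgroup G) : Set G)) (V ⊓ Subgroup.centralizer ((T.map (MulAut.conj g).toMonoidHom : Subgroup G) : Set G)) V) ∧ (∀ x ∈ L, x ≠ 1 → (orderOf x).Coprime p → (V ⊓ Subgroup.centralizer ({x} : Set G)) = ⊥) ∧ (∀ U : Subgroup G, U ≤ (V ⊓ Subgroup.centralizer ((T : Subgroup G) : Set G)) → L ⊓ Subgroup.normalizer (T : Set G) ≤ Subgroup.normalizer (U : Set G) → U = ⊥ ∨ U = (V ⊓ Subgroup.centralizer ((T : Subgroup G) : Set G))) ∧ (∀ U : Subgroup G, (V ⊓ Subgroup.centralizer ((T : Subgroup G) : Set G)) ≤ U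 → U ≤ V → L ⊓ Subgroup.normalizer (T : Set G) ≤ Subgroup.normalizer (U : Set G) → U = (V ⊓ Subgroup.centralizer ((T : Subgroup G) : Set G)) ∨ U = V) := by
  obtain ⟨c⟩ := exists_natCoord hF hnat hf S hT
  haveI : CharP F p := charP_of_card_eq_prime_pow hF
  refine ⟨fun g hg hgN => ?_, fun x hx hx1 hord => ?_, fun U hUW hUn => ?_, fun U hWU hUV hUn => ?_⟩
  · set M : SL(2, F) := c.toSL ⟨g, hg⟩ with hM
    have h10 : (M : Matrix (Fin 2) (Fin 2) F) 1 0 ≠ 0 := fun h => hgN (mem_normalizer_of_lower_zero c hg h)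
    refine ⟨inf_le_left, inf_le_left, fun a ha b hb => ?_, ?_, le_antisymm (sup_le inf_le_left inf_le_left) ?_⟩
    · have : (⟨a, ha.1⟩ : ↥V) * ⟨b, hb.1⟩ = ⟨b, hb.1⟩ * ⟨a, ha.1⟩ :=
        c.co_inj (by rw [c.co_mul, c.co_mul, add_comm])
      exact congrArg Subtype.val this
    · refine eq_bot_iff.2 fun x hx => ?_
      have h1 := (c.mem_fix_iff ⟨x, hx.1.1⟩).1 hx.1.2
      obtain ⟨u, hu, hxu⟩ := (mem_conj_fix_iff c hg ⟨x, hx.1.1⟩).1 hx.2.2
      have h2 := congrFun hxu 1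
      rw [h1] at h2
      simp [Matrix.mulVec, dotProduct, Fin.sum_univ_two, hu, ← hM, h10] at h2
      have h3 : c.co ⟨x, hx.1.1⟩ = c.co 1 := by
        rw [c.co_one, hxu]
        funext i
        fin_cases i <;> simp [Matrix.mulVec, dotProduct, Fin.sum_univ_two, hu, h2]
      rw [Subgroup.mem_bot]
      exact congrArg Subtype.val (c.co_inj h3)
    · intro v hv
      obtain ⟨u, hu⟩ := c.co_surj ![c.co ⟨v, hv⟩ 1 / (M : Matrix (Fin 2) (Fin 2) F) 1 0, 0]
      obtain ⟨x, hx⟩ := c.co_surj ((M : Matrix (Fin 2) (Fin 2) F).mulVec (c.co u))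
      have hw : c.co (⟨v, hv⟩ * x⁻¹) 1 = 0 := by
        rw [c.co_mul, c.co_inv, hx, hu]
        simp [Matrix.mulVec, dotProduct, Fin.sum_univ_two]
        field_simp
        ring
      have e : v = ((⟨v, hv⟩ * x⁻¹ : ↥V) : G) * x := by simp
      rw [e]
      exact mul_mem (mem_sup_left ⟨(⟨v, hv⟩ * x⁻¹ : ↥V).2, (c.mem_fix_iff _).2 hw⟩)
        (mem_sup_right ⟨x.2, (mem_conj_fix_iff c hg x).2 ⟨u, by simp [hu], hx⟩⟩)
  · refine eq_bot_iff.2 fun v hv => ?_
    by_contra hv1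
    rw [Subgroup.mem_bot] at hv1
    have hcm : x * v = v * x := mem_centralizer_iff.1 hv.2 x rfl
    have hfix := (c.commute_iff ⟨x, hx⟩ ⟨v, hv.1⟩).1 hcm
    have hw : c.co ⟨v, hv.1⟩ ≠ 0 := fun h => hv1 (congrArg Subtype.val (c.co_inj (h.trans c.co_one.symm)))
    have hp : x ^ p = 1 := by
      have h := fixes_vector_pow_eq_one (p := p) _ hw hfix
      rw [← map_pow, ← c.toSL.map_one] at h
      exact congrArg Subtype.val (c.toSL.injective h)
    exact hx1 (orderOf_eq_one_iff.1 (Nat.eq_one_of_dvd_coprimes hord dvd_rfl (orderOf_dvd_of_pow_eq_one hp)))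
  · refine or_iff_not_imp_left.2 fun hne => le_antisymm hUW fun v hv => ?_
    obtain ⟨u, hu, hu1⟩ : ∃ u ∈ U, u ≠ 1 := by
      by_contra hall
      push Not at hall
      exact hne (eq_bot_iff.2 fun u hu => Subgroup.mem_bot.2 (hall u hu))
    by_cases hv1 : v = 1
    · rw [hv1]; exact one_mem _
    have h1 := (c.mem_fix_iff ⟨u, (hUW hu).1⟩).1 (hUW hu).2
    have h2 := (c.mem_fix_iff ⟨v, hv.1⟩).1 hv.2
    have key : ∀ z (hz : z ∈ V), z ≠ 1 → c.co ⟨z, hz⟩ 1 = 0 → c.co ⟨z, hz⟩ 0 ≠ 0 := by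
      intro z hz hz1 hy h0
      apply hz1
      refine congrArg Subtype.val (c.co_inj (v := ⟨z, hz⟩) (w := 1) ?_)
      rw [c.co_one]
      funext i
      fin_cases i <;> simp [h0, hy]
    have ha := key u _ hu1 h1
    have hb := key v _ hv1 h2
    obtain ⟨w, hwU, hw⟩ := exists_torus c U hUn ⟨u, (hUW hu).1⟩ hu _ (div_ne_zero hb ha)
    have e : w = ⟨v, hv.1⟩ := c.co_inj (by
      rw [hw]
      funext i
      fin_cases i
      · simp; field_simp
      · simp [h1, h2])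
    rw [e] at hwU
    exact hwU
  · refine or_iff_not_imp_left.2 fun hne => le_antisymm hUV fun v hv => ?_
    obtain ⟨u, hu, huW⟩ : ∃ u ∈ U, u ∉ V ⊓ centralizer (T : Set G) := by
      by_contra hall
      push Not at hall
      exact hne (le_antisymm hall hWU)
    have hy0 : c.co ⟨u, hUV hu⟩ 1 ≠ 0 := fun h => huW ⟨hUV hu, (c.mem_fix_iff _).2 h⟩
    by_cases hy : c.co ⟨v, hv⟩ 1 = 0
    · exact hWU ⟨hv, (c.mem_fix_iff ⟨v, hv⟩).2 hy⟩
    obtain ⟨w, hwU, hw⟩ := exists_torus c U hUn ⟨u, hUV hu⟩ hu _ (div_ne_zero hy0 hy)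
    have hq : c.co (⟨v, hv⟩ * w⁻¹) 1 = 0 := by
      rw [c.co_mul, c.co_inv, hw]
      simp
      field_simp
      ring
    have hmem : ((⟨v, hv⟩ * w⁻¹ : ↥V) : G) ∈ U := hWU ⟨(⟨v, hv⟩ * w⁻¹ : ↥V).2, (c.mem_fix_iff _).2 hq⟩
    have h := mul_mem hmem hwU
    simpa using h

end Cfsg.Agent.S2780
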