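import Cfsg.Statements.S2781
import Cfsg.Agent.Lib.Amalgam.PReducedSubnormal

set_option autoImplicit false
open Cfsg

namespace Cfsg.Agent.S2781

open scoped commutatorElement
/-- Let H act faithfully by conjugation on the elementary abelian p-subgroup V of a finite group, let O^p(H) be the subgroup of H generated by its elements of order prime to p, and T a Sylow p-subgroup of O^p(H). If V is generated by the H-conjugates of C_V(T) (V is the smallest H-invariant subgroup containing C_V(T)), then V = [V, O^p(H)]·C_V(O^p(H)). -/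
theorem result {G : Type*} [Group G] [Finite G] {p : ℕ} [Fact p.Prime] (V H : Subgroup G) (hV : Cfsg.IsElementaryAbelian p V) (hHV : H ≤ Subgroup.normalizer (V : Set G)) (hf : H ⊓ Subgroup.centralizer (V : Set G) = ⊥) (R : Subgroup G) (hR : R = (Cfsg.pResidual p ↥H).map H.subtype) (S : Sylow p ↥R) (T : Subgroup G) (hT : T = ((S : Subgroup ↥R).map R.subtype)) (hgen : ∀ W : Subgroup G, H ≤ Subgroup.normalizer (W : Set G) → (V ⊓ Subgroup.centralizer ((T : Subgroup G) : Set G)) ≤ W → V ≤ W) : ⁅V, R⁆ ⊔ (V ⊓ Subgroup.centralizer ((R : Subgroup G) : Set G)) = V := by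
  haveI := hV.1
  have hRH : R ≤ H := hR ▸ Subgroup.map_subtype_le _
  have hRn : H ≤ Subgroup.normalizer (R : Set G) := by
    intro l hl
    apply CfsgLib.PLocal.mem_normalizer_map_conj.2
    refine Subgroup.eq_of_le_of_card_ge ?_ (CfsgLib.Coprime.card_map_conj l R).ge
    subst hR
    rintro _ ⟨_, ⟨v, hv, rfl⟩, rfl⟩
    exact ⟨_, (CfsgLib.Transfer.pResidual_normal (G := H) (p := p)).conj_mem v hv ⟨l, hl⟩, rfl⟩
  have hMV : ⁅V, R⁆ ≤ V := Subgroup.le_normalizer_iff_commutator_le_left.1 (hRH.trans hHV)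
  refine le_antisymm (sup_le hMV inf_le_left) (hgen _ ?_ ?_)
  · refine CfsgLib.Comp.le_normalizer_sup ?_
      (CfsgLib.Amalgam.normalizes_inf hHV (CfsgLib.Amalgam.le_normalizer_centralizer' hRn))
    intro l hl
    apply CfsgLib.PLocal.mem_normalizer_map_conj.2
    rw [Subgroup.map_commutator, CfsgLib.Coprime.map_conj_of_mem_normalizer (hHV hl),
      CfsgLib.Coprime.map_conj_of_mem_normalizer (hRn hl)]
  · intro z hz
    obtain ⟨hzV, hzT⟩ := Subgroup.mem_inf.1 hz
    have hTR : CfsgLib.Amalgam.IsSylIn p R T := by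
      subst hT
      exact ⟨Subgroup.map_subtype_le _, S.isPGroup'.map _, by
        rw [Subgroup.card_map_of_injective R.subtype_injective, S.card_eq_multiplicity]⟩
    obtain ⟨N, hN1, -, hN3, -⟩ := CfsgLib.Amalgam.exists_norm V R T (hRH.trans hHV)
    set zz : ↥(V ⊓ Subgroup.centralizer (T : Set G)) := ⟨z, hz⟩
    have h3 := hN3 zz ⁅V, R⁆ hMV fun r hr => by
      rw [← commutatorElement_inv]
      exact inv_mem (Subgroup.commutator_mem_commutator hzV hr)
    refine CfsgLib.Amalgam.mem_of_pow_mem (hV.2 z hzV) hTR.relIndex_not_dvd ?_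
    rw [show z ^ T.relIndex R = (N zz * (z ^ T.relIndex R)⁻¹)⁻¹ * N zz by group]
    exact mul_mem (Subgroup.mem_sup_left (inv_mem h3)) (Subgroup.mem_sup_right (hN1 zz))

end Cfsg.Agent.S2781
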