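import Cfsg.Statements.S2787
import Cfsg.Agent.Lib.Classical.SLTwoSylowTwo
import Cfsg.Agent.Lib.Chev.ReeInvolution
import Cfsg.Agent.Lib.PLocal.QdFree
import Cfsg.Agent.Lib.Amalgam.PCore

set_option autoImplicit false
open Cfsg
open scoped commutatorElement

namespace Cfsg.Agent.S2787

/-- Square roots of one in `SL₂`. -/
theorem sl_sq_one {F : Type*} [Field F] (h2 : (2 : F) ≠ 0) {M : Matrix.SpecialLinearGroup (Fin 2) F}
    (hM : M * M = 1) : M = 1 ∨ M = -1 := by
  have h : M⁻¹ = M := inv_eq_of_mul_eq_one_right hM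
  have e := congrArg (fun N : Matrix.SpecialLinearGroup (Fin 2) F => (N : Matrix (Fin 2) (Fin 2) F)) h
  simp only [Matrix.SpecialLinearGroup.coe_inv, Matrix.adjugate_fin_two] at e
  have e00 := congrFun (congrFun e 0) 0
  have e01 := congrFun (congrFun e 0) 1
  have e10 := congrFun (congrFun e 1) 0
  simp at e00 e01 e10
  have hb : M.1 0 1 = 0 := mul_left_cancel₀ h2 (by linear_combination -e01)
  have hc : M.1 1 0 = 0 := mul_left_cancel₀ h2 (by linear_combination -e10)
  have hd := M.2
  rw [Matrix.det_fin_two, hb, e00] at hd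
  have ha : (M.1 0 0 - 1) * (M.1 0 0 + 1) = 0 := by linear_combination hd
  rcases mul_eq_zero.1 ha with ha | ha
  · left
    apply Subtype.ext
    ext i j
    fin_cases i <;> fin_cases j <;> simp [hb, hc, e00, sub_eq_zero.1 ha]
  · right
    apply Subtype.ext
    ext i j
    fin_cases i <;> fin_cases j <;> simp [hb, hc, e00, eq_neg_of_add_eq_zero_left ha]

/-- The criterion for `PSL₂(q)`, `q` odd. -/
theorem psl_crit {F : Type*} [Field F] [Fintype F] (hodd : Odd (Fintype.card F))
    (Q : Subgroup (Matrix.ProjectiveSpecialLinearGroup (Fin 2) F)) (hQ : IsPGroup 2 Q) :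
    ∀ x ∈ Q, ∀ y ∈ Q, x * y = y * x ∨ x * x = 1 ∨ y * y = 1 := by
  classical
  haveI : Fact (Nat.Prime 2) := ⟨Nat.prime_two⟩
  have h2 : (2 : F) ≠ 0 := fun h20 => by
    have : CharP F 2 := CharTwo.of_one_ne_zero_of_two_eq_zero one_ne_zero h20
    obtain ⟨k, -, hk⟩ := FiniteField.card F 2
    rw [hk] at hodd
    exact Nat.not_even_iff_odd.2 hodd (Nat.even_pow.2 ⟨even_two, k.ne_zero⟩)
  obtain ⟨k, -, -, hquat⟩ := CfsgLib.Classical.sylow_two_sl_two hodd
  set π := QuotientGroup.mk' (Subgroup.center (Matrix.SpecialLinearGroup (Fin 2) F)) with hπ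
  have hcen : IsPGroup 2 π.ker := by
    rw [hπ, QuotientGroup.ker_mk']
    intro z
    refine ⟨1, Subtype.ext ?_⟩
    obtain ⟨r, hr, hr'⟩ := Matrix.SpecialLinearGroup.mem_center_iff.1 z.2
    show (z : Matrix.SpecialLinearGroup (Fin 2) F) ^ (2 ^ 1) = 1
    apply Subtype.ext
    rw [Matrix.SpecialLinearGroup.coe_pow, ← hr', pow_one, ← map_pow]
    rw [Fintype.card_fin] at hr
    rw [hr, map_one]
    rfl
  obtain ⟨P, hP⟩ := (hQ.comap_of_ker_isPGroup π hcen).exists_le_sylow
  obtain ⟨eq⟩ := hquat P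
  haveI : NeZero (2 ^ k) := ⟨by positivity⟩
  intro x hx y hy
  obtain ⟨x, rfl⟩ := QuotientGroup.mk'_surjective _ x
  obtain ⟨y, rfl⟩ := QuotientGroup.mk'_surjective _ y
  have hxP : x ∈ (P : Subgroup _) := hP hx
  have hyP : y ∈ (P : Subgroup _) := hP hy
  have key : ∀ (z : Matrix.SpecialLinearGroup (Fin 2) F) (hz : z ∈ (P : Subgroup _)) (i : ZMod (2 * 2 ^ k)),
      eq ⟨z, hz⟩ = QuaternionGroup.xa i → π z * π z = 1 := by
    intro z hz i hi
    have h4 : z ^ 4 = 1 := by
      have h := pow_orderOf_eq_one (QuaternionGroup.xa i)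
      rw [QuaternionGroup.orderOf_xa, ← hi, ← map_pow, MulEquiv.map_eq_one_iff] at h
      exact congrArg Subtype.val h
    rw [← map_mul]
    refine (QuotientGroup.eq_one_iff _).2 ?_
    rcases sl_sq_one h2 (M := z * z) (by rw [← pow_two, ← pow_two, ← pow_mul]; exact h4) with h | h
    · rw [h]; exact one_mem _
    · rw [h, Subgroup.mem_center_iff]
      intro g
      rw [neg_mul, mul_neg, one_mul, mul_one]
  rcases hex : eq ⟨x, hxP⟩ with i | i
  · rcases hey : eq ⟨y, hyP⟩ with j | j
    · left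
      rw [← map_mul, ← map_mul]
      congr 1
      have : (⟨x, hxP⟩ : (P : Subgroup _)) * ⟨y, hyP⟩ = ⟨y, hyP⟩ * ⟨x, hxP⟩ :=
        eq.injective (by rw [map_mul, map_mul, hex, hey]; simp [add_comm])
      exact congrArg Subtype.val this
    · exact Or.inr (Or.inr (key y hyP j hey))
  · exact Or.inr (Or.inl (key x hxP i hex))

open Cfsg Subgroup in
/-- No section `SL₂(p)`. -/
theorem no_sl_section {Γ Hb : Type*} [Group Γ] [Finite Γ] [Group Hb] [Finite Hb] {p : ℕ} [Fact p.Prime]
    (hp : p ≠ 2) (π : Γ →* Hb) (hker : ∀ x : Γ, π x = 1 → x ^ p = 1)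
    (hcrit : ∀ Q : Subgroup Hb, IsPGroup 2 Q → ∀ x ∈ Q, ∀ y ∈ Q,
      x * y = y * x ∨ x * x = 1 ∨ y * y = 1)
    (K : Subgroup Γ) (f : K →* Matrix.SpecialLinearGroup (Fin 2) (ZMod p)) :
    ¬ Function.Surjective f := by
  intro hf
  classical
  haveI : Fact (Nat.Prime 2) := ⟨Nat.prime_two⟩
  have hodd : Odd (Fintype.card (ZMod p)) := by
    rw [ZMod.card]; exact (Fact.out : p.Prime).odd_of_ne_two hp
  have h2 : (2 : ZMod p) ≠ 0 := by
    have h := Fact.out (p := p.Prime)
    intro h2
    have : (p : ℕ) ∣ 2 := (ZMod.natCast_eq_zero_iff 2 p).1 (by exact_mod_cast h2)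
    exact hp ((Nat.prime_dvd_prime_iff_eq h Nat.prime_two).1 this)
  obtain ⟨k, hk1, -, hquat⟩ := CfsgLib.Classical.sylow_two_sl_two hodd
  let S : Sylow 2 K := default
  obtain ⟨eq⟩ := hquat (S.mapSurjective hf)
  haveI : NeZero (2 ^ k) := ⟨by positivity⟩
  -- the image of a Sylow subgroup is abelian
  have habel : ∀ x ∈ (S : Subgroup K), ∀ y ∈ (S : Subgroup K), f x * f y = f y * f x := by
    intro x hx y hy
    have hinj : ∀ z ∈ (S : Subgroup K), π z = 1 → z = 1 := by
      intro z hz hz1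
      obtain ⟨j, hj⟩ := S.isPGroup' ⟨z, hz⟩
      have hj' : z ^ 2 ^ j = 1 := congrArg Subtype.val hj
      have h3 : z ^ p = 1 := Subtype.ext (hker _ hz1)
      have hcop : Nat.Coprime (2 ^ j) p :=
        Nat.Coprime.pow_left _ ((Nat.coprime_primes Nat.prime_two Fact.out).2 (Ne.symm hp))
      exact orderOf_eq_one_iff.1 (Nat.eq_one_of_dvd_coprimes hcop
        (orderOf_dvd_of_pow_eq_one hj') (orderOf_dvd_of_pow_eq_one h3))
    have hQ : IsPGroup 2 ((S : Subgroup K).map (π.comp K.subtype)) := S.isPGroup'.map _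
    have hinvol : ∀ M : Matrix.SpecialLinearGroup (Fin 2) (ZMod p), M * M = 1 →
        ∀ N, M * N = N * M := by
      intro M hM N
      rcases sl_sq_one h2 hM with rfl | rfl
      · rw [one_mul, mul_one]
      · rw [neg_mul, mul_neg, one_mul, mul_one]
    rcases hcrit _ hQ _ (mem_map_of_mem _ hx) _ (mem_map_of_mem _ hy) with h | h | h
    · rw [← map_mul, ← map_mul]
      congr 1
      have h' : π ((x * y) * (y * x)⁻¹ : K) = 1 := by
        simp only [MonoidHom.comp_apply, Subgroup.coe_subtype] at h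
        rw [Subgroup.coe_mul, Subgroup.coe_inv, Subgroup.coe_mul, Subgroup.coe_mul, map_mul, map_inv,
          map_mul, map_mul, h, mul_inv_cancel]
      exact mul_inv_eq_one.1 (hinj _ (mul_mem (mul_mem hx hy) (inv_mem (mul_mem hy hx))) h')
    · have h' : x * x = 1 := hinj _ (mul_mem hx hx) (by
        rw [Subgroup.coe_mul, map_mul]; exact h)
      exact hinvol _ (by rw [← map_mul, h', map_one]) _
    · have h' : y * y = 1 := hinj _ (mul_mem hy hy) (by
        rw [Subgroup.coe_mul, map_mul]; exact h)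
      exact (hinvol _ (by rw [← map_mul, h', map_one]) _).symm
  -- but quaternion groups are not
  obtain ⟨u, hu⟩ := eq.surjective (QuaternionGroup.a 1)
  obtain ⟨v, hv⟩ := eq.surjective (QuaternionGroup.xa 0)
  obtain ⟨x, hx, hxu⟩ := u.2
  obtain ⟨y, hy, hyv⟩ := v.2
  have huv : u * v = v * u := Subtype.ext (by
    rw [Subgroup.coe_mul, Subgroup.coe_mul, ← hxu, ← hyv]; exact habel x hx y hy)
  have hq := congrArg eq huv
  rw [map_mul, map_mul, hu, hv, QuaternionGroup.a_mul_xa, QuaternionGroup.xa_mul_a] at hq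
  have h4 : (2 : ZMod (2 * 2 ^ k)) = 0 := by
    injection hq with hq'
    linear_combination -hq'
  have h5 : (2 * 2 ^ k) ∣ 2 := (ZMod.natCast_eq_zero_iff 2 _).1 (by exact_mod_cast h4)
  have h6 := Nat.le_of_dvd (by norm_num) h5
  have h7 : 2 ^ 1 ≤ 2 ^ k := Nat.pow_le_pow_right (by norm_num) hk1
  omega

open Cfsg Subgroup in
/-- The abstract statement. -/
theorem quadratic_trivial {Hb V : Type*} [Group Hb] [Finite Hb] [Group V] [Finite V] {p : ℕ}
    [Fact p.Prime] (hp : p ≠ 2) (hVab : ∀ a b : V, a * b = b * a) (hVp : ∀ a : V, a ^ p = 1)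
    (φ : Hb →* MulAut V) (hinj : Function.Injective φ)
    (hirr : ∀ U : Subgroup V, (∀ g, ∀ u ∈ U, φ g u ∈ U) → U = ⊥ ∨ U = ⊤)
    (hcrit : ∀ Q : Subgroup Hb, IsPGroup 2 Q → ∀ x ∈ Q, ∀ y ∈ Q,
      x * y = y * x ∨ x * x = 1 ∨ y * y = 1)
    (a : Hb) (hquad : ∀ v, φ a (φ a v * v⁻¹) = φ a v * v⁻¹) : a = 1 := by
  classical
  let Γ := V ⋊[φ] Hb
  haveI : Finite Γ := Finite.of_equiv (V × Hb) SemidirectProduct.equivProd.symm
  set P : Subgroup Γ := (SemidirectProduct.inl : V →* Γ).range with hPdef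
  have hPker : P = (SemidirectProduct.rightHom : Γ →* Hb).ker :=
    SemidirectProduct.range_inl_eq_ker_rightHom
  haveI hPn : P.Normal := hPker ▸ MonoidHom.normal_ker _
  have hno : ∀ (K : Subgroup Γ) (f : K →* Matrix.SpecialLinearGroup (Fin 2) (ZMod p)),
      ¬ Function.Surjective f := fun K f =>
    no_sl_section hp (SemidirectProduct.rightHom : Γ →* Hb) (fun x hx => by
      obtain ⟨v, rfl⟩ : x ∈ P := hPker.ge hx
      rw [← map_pow, hVp, map_one]) hcrit K f
  have hPp : IsPGroup p P := by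
    rintro ⟨_, v, rfl⟩
    exact ⟨1, Subtype.ext (by rw [pow_one]; show SemidirectProduct.inl v ^ p = 1; rw [← map_pow, hVp, map_one])⟩
  have hstab := CfsgLib.PLocal.isPStableOn_of_not_involves_qd (G := Γ) hp
    (CfsgLib.PLocal.not_involves_qd_of_no_sl hno) P hPp
  set t : Γ := SemidirectProduct.inr a
  have hconj : ∀ v, t * SemidirectProduct.inl v * t⁻¹ = SemidirectProduct.inl (φ a v) := fun v => by
    rw [SemidirectProduct.inl_aut, map_inv]
  have h1 : ⁅⁅P, Subgroup.zpowers t⁆, Subgroup.zpowers t⁆ = ⊥ := by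
    -- the elements of `P` moved into the fixed points of `t`
    rw [commutator_eq_bot_iff_le_centralizer]
    rw [commutator_le]
    rintro _ ⟨v, rfl⟩ g hg
    obtain ⟨i, rfl⟩ := hg
    have hfix : ∀ w, φ a w = w →
        (SemidirectProduct.inl w : Γ) ∈ centralizer ((Subgroup.zpowers t : Subgroup Γ) : Set Γ) := fun w hw =>
      mem_centralizer_iff.2 (by
        rintro _ ⟨j, rfl⟩
        have := hconj w
        rw [hw] at this
        exact ((show Commute t (SemidirectProduct.inl w) from mul_inv_eq_iff_eq_mul.1 this).zpow_left j).eq)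
    let U : Subgroup V :=
      { carrier := {w | φ a w = w}
        one_mem' := map_one _
        mul_mem' := fun {x y} hx hy => by
          show φ a (x * y) = x * y
          rw [map_mul, hx, hy]
        inv_mem' := fun {x} hx => by
          show φ a x⁻¹ = x⁻¹
          rw [map_inv, hx] }
    have hpow : ∀ m : ℕ, ∀ w, (φ (a ^ m)) w * w⁻¹ ∈ U := by
      intro m
      induction m with
      | zero => intro w; rw [pow_zero, map_one, MulAut.one_apply, mul_inv_cancel]; exact one_mem U
      | succ m ih =>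
        intro w
        have h := mul_mem (ih (φ a w)) (show φ a w * w⁻¹ ∈ U from hquad w)
        rwa [pow_succ, map_mul, MulAut.mul_apply, show φ (a ^ m) (φ a w) * (φ a w)⁻¹ * (φ a w * w⁻¹) =
          φ (a ^ m) (φ a w) * w⁻¹ by group] at *
    obtain ⟨m, hm⟩ := (mem_powers_iff_mem_zpowers (x := a) (y := a ^ i)).2 (zpow_mem (mem_zpowers a) i)
    have ht : t ^ i = SemidirectProduct.inr (a ^ i) := (map_zpow _ a i).symm
    show ⁅(SemidirectProduct.inl v : Γ), t ^ i⁆ ∈ _
    have hc : ⁅(SemidirectProduct.inl v : Γ), t ^ i⁆ =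
        SemidirectProduct.inl ((φ (a ^ i) v * v⁻¹)⁻¹) := by
      rw [ht, _root_.mul_inv_rev, inv_inv, map_mul, ← map_inv (φ (a ^ i)), SemidirectProduct.inl_aut,
        commutatorElement_def]
      simp [mul_assoc]
    rw [hc]
    simp only at hm
    rw [← hm]
    exact hfix _ (inv_mem (hpow m v))
  have h2 := hstab t h1
  set C := centralizer (P : Set Γ)
  have hC : C = P := by
    refine le_antisymm (fun x hx => ?_) ?_
    · rw [hPker, MonoidHom.mem_ker]
      refine hinj ?_
      rw [map_one]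
      refine MulEquiv.ext fun v => ?_
      have h3 := mem_centralizer_iff.1 hx (SemidirectProduct.inl v) ⟨v, rfl⟩
      have h4 := congrArg SemidirectProduct.left h3
      change v * φ 1 x.left = x.left * φ x.right v at h4
      rw [map_one, MulAut.one_apply, hVab v x.left] at h4
      rw [MulAut.one_apply]
      exact (mul_left_cancel h4).symm
    · rintro _ ⟨v, rfl⟩
      refine mem_centralizer_iff.2 ?_
      rintro _ ⟨w, rfl⟩
      rw [← map_mul, ← map_mul, hVab]
  -- `O_p` of the quotient is trivial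
  set N := (Cfsg.pCore p (Γ ⧸ C)).comap (QuotientGroup.mk' C)
  have hNp : IsPGroup p N := by
    refine (CfsgLib.Amalgam.isPGroup_pCore (G := Γ ⧸ C) (p := p)).comap_of_ker_isPGroup _ ?_
    rw [QuotientGroup.ker_mk', hC]
    exact hPp
  haveI := Cfsg.pCore_normal p (Γ ⧸ C)
  haveI hNn : N.Normal := Normal.comap inferInstance _
  set Nb := N.map (SemidirectProduct.rightHom : Γ →* Hb)
  haveI : Nb.Normal := Normal.map hNn _ SemidirectProduct.rightHom_surjective
  have hNb : Nb = ⊥ := by
    by_contra hne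
    -- fixed points of a normal `p`-subgroup
    let fixU : Subgroup V :=
      { carrier := {w | ∀ g ∈ Nb, φ g w = w}
        one_mem' := fun g _ => map_one _
        mul_mem' := fun {x y} hx hy g hg => by rw [map_mul, hx g hg, hy g hg]
        inv_mem' := fun {x} hx g hg => by rw [map_inv, hx g hg] }
    have hinv : ∀ g, ∀ u ∈ fixU, φ g u ∈ fixU := by
      intro g u hu x hx
      have := hu (g⁻¹ * x * g) (by simpa using Normal.conj_mem inferInstance x hx g⁻¹)
      rw [map_mul, map_mul, MulAut.mul_apply, MulAut.mul_apply] at this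
      have h5 := congrArg (φ g) this
      rwa [← MulAut.mul_apply, ← map_mul, mul_inv_cancel, map_one, MulAut.one_apply] at h5
    rcases hirr fixU hinv with h | h
    · -- a fixed point exists
      let _ : MulAction Nb V := MulAction.compHom V ((φ.comp Nb.subtype))
      have hV0 : Nontrivial V := by
        by_contra hV
        rw [not_nontrivial_iff_subsingleton] at hV
        exact hne ((Subgroup.eq_bot_iff_forall _).2 fun x _ => hinj (MulEquiv.ext fun v => Subsingleton.elim _ _))
      have hdvd : p ∣ Nat.card V := by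
        obtain ⟨v, hv⟩ := exists_ne (1 : V)
        have := orderOf_dvd_natCard v
        rwa [orderOf_eq_prime (hVp v) hv] at this
      obtain ⟨w, hw, hw1⟩ := (hNp.map (SemidirectProduct.rightHom : Γ →* Hb)).exists_fixed_point_of_prime_dvd_card_of_fixed_point
        V hdvd (a := (1 : V)) (fun g => map_one (φ (g : Hb)))
      exact hw1 (Subgroup.mem_bot.1 (h.le (fun g hg => hw ⟨g, hg⟩))).symm
    · exact hne ((Subgroup.eq_bot_iff_forall _).2 fun x hx => hinj (MulEquiv.ext fun v => by
        rw [map_one, MulAut.one_apply]; exact (h.ge (mem_top v)) x hx))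
  have h6 : (SemidirectProduct.rightHom : Γ →* Hb) t ∈ Nb := mem_map_of_mem _ h2
  rw [hNb, Subgroup.mem_bot] at h6
  simpa [t] using h6

/-- Let p be a prime and let H act by conjugation on the elementary abelian p-subgroup V of a finite group, irreducibly (no H-invariant subgroups of V other than 1 and V) and nontrivially, and suppose H/C_H(V) is isomorphic to PSL₂(F) for a field F with p^n elements, p^n odd, or p = 3 and H/C_H(V) is isomorphic to a Ree group ²G₂(3^(2m+1)), m ≥ 1. Then no subgroup A of H acting nontrivially on V acts quadratically: [V, A, A] = 1 forces [V, A] = 1. -/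
theorem result {G : Type*} [Group G] [Finite G] {p : ℕ} [Fact p.Prime] (V H : Subgroup G) (hV : Cfsg.IsElementaryAbelian p V) (hHV : H ≤ Subgroup.normalizer (V : Set G)) (hirr : ∀ U : Subgroup G, U ≤ V → H ≤ Subgroup.normalizer (U : Set G) → U = ⊥ ∨ U = V) (hnt : ¬ H ≤ Subgroup.centralizer (V : Set G)) [hn : ((Subgroup.centralizer (V : Set G)).subgroupOf H).Normal] (hq : (∃ (F : Type) (_ : Field F) (_ : Fintype F) (n : ℕ), Fintype.card F = p ^ n ∧ Odd (Fintype.card F) ∧ Nonempty (↥H ⧸ (Subgroup.centralizer (V : Set G)).subgroupOf H ≃* Matrix.ProjectiveSpecialLinearGroup (Fin 2) F)) ∨ (p = 3 ∧ Cfsg.Lie.IsoRee (↥H ⧸ (Subgroup.centralizer (V : Set G)).subgroupOf H))) (A : Subgroup G) (hA : A ≤ H) (hquad : ⁅⁅V, A⁆, A⁆ = ⊥) : ⁅V, A⁆ = ⊥ := by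
  classical
  haveI : Fact (Nat.Prime 2) := ⟨Nat.prime_two⟩
  set C := (Subgroup.centralizer (V : Set G)).subgroupOf H with hC
  have hmem : ∀ h : ↥H, ∀ v ∈ V, (h : G) * v * (h : G)⁻¹ ∈ V := fun h v hv =>
    (Subgroup.mem_normalizer_iff.1 (hHV h.2) v).1 hv
  let c : ↥H →* MulAut ↥V :=
    { toFun := fun h =>
        { toFun := fun v => ⟨(h : G) * v * (h : G)⁻¹, hmem h v v.2⟩
          invFun := fun v => ⟨((h⁻¹ : ↥H) : G) * v * ((h⁻¹ : ↥H) : G)⁻¹, hmem h⁻¹ v v.2⟩
          left_inv := fun v => Subtype.ext (by simp [mul_assoc])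
          right_inv := fun v => Subtype.ext (by simp [mul_assoc])
          map_mul' := fun v w => Subtype.ext (by simp [mul_assoc]) }
      map_one' := MulEquiv.ext fun v => Subtype.ext (by simp)
      map_mul' := fun g h => MulEquiv.ext fun v => Subtype.ext (by simp [mul_assoc]) }
  have hc : ∀ (h : ↥H) (v : ↥V), ((c h v : ↥V) : G) = (h : G) * v * (h : G)⁻¹ := fun h v => rfl
  have hker : C = c.ker := by
    ext h
    rw [MonoidHom.mem_ker, hC, Subgroup.mem_subgroupOf, Subgroup.mem_centralizer_iff]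
    constructor
    · intro hh
      refine MulEquiv.ext fun v => Subtype.ext ?_
      rw [hc, MulAut.one_apply]
      exact mul_inv_eq_iff_eq_mul.2 (hh v v.2).symm
    · intro hh v hv
      have := congrArg Subtype.val (DFunLike.congr_fun hh ⟨v, hv⟩)
      rw [hc, MulAut.one_apply] at this
      exact (mul_inv_eq_iff_eq_mul.1 this).symm
  let φ : ↥H ⧸ C →* MulAut ↥V := QuotientGroup.lift C c (hker.le)
  have hφ : Function.Injective φ := by
    rw [injective_iff_map_eq_one]
    intro x hx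
    obtain ⟨h, rfl⟩ := QuotientGroup.mk'_surjective C x
    exact (QuotientGroup.eq_one_iff h).2 (hker.ge hx)
  have hp2 : p ≠ 2 := by
    rcases hq with ⟨F, _, _, n, hn, hodd, -⟩ | ⟨h3, -⟩
    · rintro rfl
      rcases n with _ | n
      · have := Fintype.one_lt_card (α := F); rw [hn, pow_zero] at this; omega
      · rw [hn] at hodd
        exact Nat.not_even_iff_odd.2 hodd (Nat.even_pow.2 ⟨even_two, n.succ_ne_zero⟩)
    · omega
  have hcrit : ∀ Q : Subgroup (↥H ⧸ C), IsPGroup 2 Q → ∀ x ∈ Q, ∀ y ∈ Q,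
      x * y = y * x ∨ x * x = 1 ∨ y * y = 1 := by
    rcases hq with ⟨F, _, _, n, hn, hodd, ⟨e⟩⟩ | ⟨-, K, _, _, m, hm, hK, ⟨e⟩⟩
    · intro Q hQ x hx y hy
      rcases psl_crit hodd (Q.map e.toMonoidHom) (hQ.map _) _ (Subgroup.mem_map_of_mem _ hx) _
        (Subgroup.mem_map_of_mem _ hy) with h | h | h
      · exact Or.inl (e.injective (by rw [map_mul, map_mul]; exact h))
      · exact Or.inr (Or.inl (e.injective (by rw [map_mul, map_one]; exact h)))
      · exact Or.inr (Or.inr (e.injective (by rw [map_mul, map_one]; exact h)))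
    · intro Q hQ x hx y hy
      obtain ⟨S⟩ := CfsgLib.Chev.exists_setupG2 K hK
      obtain ⟨P, hP⟩ := (hQ.map e.toMonoidHom).exists_le_sylow
      exact Or.inr (Or.inl (e.injective (by
        rw [map_mul, map_one]
        exact (S.sylow_two P).2 _ (hP (Subgroup.mem_map_of_mem _ hx)))))
  rw [Subgroup.commutator_eq_bot_iff_le_centralizer] at hquad
  rw [Subgroup.commutator_eq_bot_iff_le_centralizer]
  intro v hv
  refine Subgroup.mem_centralizer_iff.2 fun a ha => ?_
  have key := quadratic_trivial hp2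
    (fun x y => hV.1.is_comm.comm x y) (fun x => Subtype.ext (hV.2 _ x.2)) φ hφ
    (fun U hU => by
      rcases hirr (U.map V.subtype) (Subgroup.map_subtype_le _) (by
        intro g hg
        refine Subgroup.mem_normalizer_iff.2 fun u => ⟨?_, ?_⟩
        · rintro ⟨w, hw, rfl⟩
          exact ⟨_, hU (QuotientGroup.mk ⟨g, hg⟩) w hw, rfl⟩
        · rintro ⟨w, hw, he⟩
          refine ⟨_, hU (QuotientGroup.mk ⟨g, hg⟩⁻¹) w hw, ?_⟩
          show g⁻¹ * (w : G) * g⁻¹⁻¹ = u
          rw [show (w : G) = g * u * g⁻¹ from he]; group) with h | h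
      · exact Or.inl ((Subgroup.map_eq_bot_iff_of_injective _ V.subtype_injective).1 h)
      · refine Or.inr (eq_top_iff.2 fun w _ => ?_)
        obtain ⟨w', hw', he⟩ := h.ge w.2
        rwa [← show w' = w from Subtype.ext he])
    hcrit (QuotientGroup.mk ⟨a, hA ha⟩) (fun w => Subtype.ext (by
      show a * (a * (w : G) * a⁻¹ * (w : G)⁻¹) * a⁻¹ = a * (w : G) * a⁻¹ * (w : G)⁻¹
      have h1 := inv_mem (Subgroup.commutator_mem_commutator w.2 ha)
      rw [show ⁅(w : G), a⁆⁻¹ = a * (w : G) * a⁻¹ * (w : G)⁻¹ by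
        rw [commutatorElement_def]; group] at h1
      rw [Subgroup.mem_centralizer_iff.1 (hquad h1) a ha, mul_inv_cancel_right]))
  have h2 := (QuotientGroup.eq_one_iff _).1 key
  exact (Subgroup.mem_centralizer_iff.1 h2 v hv).symm

end Cfsg.Agent.S2787
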