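import Cfsg.Statements.S2788
import Cfsg.Agent.Lib.ClassK.PushBasic
import Cfsg.Agent.Lib.Classical.SLTwoSylow


set_option autoImplicit false
open Cfsg Subgroup
open scoped MatrixGroups

namespace Cfsg.Agent.S2788

/-- Let H act faithfully by conjugation on the elementary abelian p-subgroup V of a finite group with H ≅ SL₂(F), F a field with p^n elements, S a Sylow p-subgroup of H, and A ≤ S a subgroup of order at least 3 acting quadratically on V ([V, A, A] = 1). Then |V/C_V(a)| ≥ p^n for every nonidentity a ∈ A. -/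
theorem result {G : Type*} [Group G] [Finite G] {p : ℕ} [Fact p.Prime] (V H : Subgroup G) (hV : Cfsg.IsElementaryAbelian p V) (hHV : H ≤ Subgroup.normalizer (V : Set G)) (hf : H ⊓ Subgroup.centralizer (V : Set G) = ⊥) {F : Type*} [Field F] [Fintype F] (n : ℕ) (hF : Fintype.card F = p ^ n) (hiso : Nonempty (↥H ≃* Matrix.SpecialLinearGroup (Fin 2) F)) (S : Sylow p ↥H) (T : Subgroup G) (hT : T = ((S : Subgroup ↥H).map H.subtype)) (A : Subgroup G) (hA : A ≤ T) (hA3 : 3 ≤ Nat.card A) (hquad : ⁅⁅V, A⁆, A⁆ = ⊥) : ∀ a ∈ A, a ≠ 1 → p ^ n ≤ ((V ⊓ Subgroup.centralizer ({a} : Set G))).relIndex V := by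
  classical
  intro a ha ha1
  have hp : p.Prime := Fact.out
  obtain ⟨e⟩ := hiso
  haveI : CharP F p := CfsgLib.ClassK.Push.charP_of_card hF
  set X : Subgroup G := V ⊔ H
  have hVX : V ≤ X := le_sup_left
  have hHX : H ≤ X := le_sup_right
  set W : Subgroup ↥X := V.subgroupOf X with hWdef
  haveI hWn : W.Normal := normal_subgroupOf_of_le_normalizer (sup_le le_normalizer hHV)
  have hWmem : ∀ x : ↥X, x ∈ W ↔ (x : G) ∈ V := fun x => mem_subgroupOf
  have hab : ∀ x ∈ V, ∀ y ∈ V, x * y = y * x := fun x hx y hy =>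
    congrArg Subtype.val (hV.1.is_comm.comm ⟨x, hx⟩ ⟨y, hy⟩)
  have hdisj : ∀ x ∈ H, x ∈ V → x = 1 := fun x hxH hxV => by
    have : x ∈ H ⊓ centralizer (V : Set G) :=
      mem_inf.2 ⟨hxH, mem_centralizer_iff.2 fun y hy => hab y hy x hxV⟩
    rwa [hf, Subgroup.mem_bot] at this
  let g : ↥H →* ↥X ⧸ W := (QuotientGroup.mk' W).comp (inclusion hHX)
  have hg : Function.Bijective g := by
    refine ⟨(injective_iff_map_eq_one g).2 fun x hx => ?_, fun q => ?_⟩
    · exact Subtype.ext (hdisj x x.2 ((hWmem _).1 ((QuotientGroup.eq_one_iff _).1 hx)))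
    · obtain ⟨x, rfl⟩ := QuotientGroup.mk'_surjective W q
      obtain ⟨v, hv, w, hw, hvw⟩ := CfsgLib.Comp.exists_mul_of_mem_sup hHV x.2
      refine ⟨⟨w, hw⟩, ?_⟩
      show QuotientGroup.mk' W ⟨w, hHX hw⟩ = _
      have hx : x = ⟨v, hVX hv⟩ * ⟨w, hHX hw⟩ :=
        Subtype.ext (by
          first
            | exact hvw
            | exact hvw.symm)
      have h1 : QuotientGroup.mk' W ⟨v, hVX hv⟩ = 1 :=
        (QuotientGroup.eq_one_iff _).2 ((hWmem _).2 hv)
      rw [hx, map_mul, h1, one_mul]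
  let g' := MulEquiv.ofBijective g hg
  let f : ↥X →* SL(2, F) := e.toMonoidHom.comp (g'.symm.toMonoidHom.comp (QuotientGroup.mk' W))
  have hfH : ∀ (x : G) (hx : x ∈ H), f ⟨x, hHX hx⟩ = e ⟨x, hx⟩ := fun x hx => by
    show e (g'.symm (g' ⟨x, hx⟩)) = _
    rw [MulEquiv.symm_apply_apply]
  have hfsurj : Function.Surjective f :=
    e.surjective.comp (g'.symm.surjective.comp (QuotientGroup.mk'_surjective W))
  have hker : f.ker = W := by
    ext x
    rw [MonoidHom.mem_ker]
    show e (g'.symm _) = 1 ↔ _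
    rw [MulEquiv.map_eq_one_iff, MulEquiv.map_eq_one_iff]
    exact QuotientGroup.eq_one_iff x
  have hWp : IsPGroup p ↥W := fun x =>
    ⟨1, Subtype.ext (Subtype.ext (by rw [pow_one]; exact hV.2 _ ((hWmem _).1 x.2)))⟩
  set P : Sylow p SL(2, F) := S.mapSurjective (f := e.toMonoidHom) e.surjective
  have hPc : (P : Subgroup SL(2, F)) = (S : Subgroup ↥H).map e.toMonoidHom := Sylow.coe_mapSurjective _ _
  have hrange : (P : Subgroup SL(2, F)) ≤ f.range := by
    rw [MonoidHom.range_eq_top.2 hfsurj]; exact le_top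
  set SX : Sylow p ↥X := P.comapOfKerIsPGroup f (hker ▸ hWp) hrange
  have hSX : (SX : Subgroup ↥X) = (P : Subgroup SL(2, F)).comap f := rfl
  set φ : ↥X →* Matrix.ProjectiveSpecialLinearGroup (Fin 2) F := (QuotientGroup.mk' _).comp f
  have hφ : Function.Surjective φ := (QuotientGroup.mk'_surjective _).comp hfsurj
  have hPn : normalizer ((P : Subgroup SL(2, F)) : Set SL(2, F)) ≠ ⊤ := by
    intro htop
    haveI := normalizer_eq_top_iff.1 htop
    let π := QuotientGroup.mk' (center SL(2, F))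
    haveI : ((P : Subgroup SL(2, F)).map π).Normal :=
      Normal.map inferInstance _ (QuotientGroup.mk'_surjective _)
    have h1 := CfsgLib.ClassK.Push.normal_pGroup_psl_eq_bot (F := F) hF
      ((P : Subgroup SL(2, F)).map π) (P.isPGroup'.map π)
    have h2 := CfsgLib.ClassK.Push.card_sylow_psl (F := F) hF
      (P.mapSurjective (f := π) (QuotientGroup.mk'_surjective _))
    rw [Sylow.coe_mapSurjective, h1, card_bot] at h2
    have := CfsgLib.ClassK.Push.one_le_exponent (F := F) hF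
    have := Nat.one_lt_pow (by omega : n ≠ 0) hp.one_lt
    omega
  set M : Subgroup ↥X := (normalizer ((P : Subgroup SL(2, F)) : Set SL(2, F))).comap f
  have hM : M ≠ ⊤ := by
    intro htop
    apply hPn
    have h0 := congrArg (Subgroup.map f) htop
    rwa [map_comap_eq_self_of_surjective hfsurj, map_top_of_surjective f hfsurj] at h0
  have hkey : ∀ N : Subgroup ↥X, (SX : Subgroup ↥X) ≤ N → N ≠ ⊤ → N ≤ M := by
    intro N hN hne
    have hkN : f.ker ≤ N := le_trans (by rw [hSX]; exact ker_le_comap f _) hN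
    refine map_le_iff_le_comap.1 fun y hy => ?_
    have hP : (P : Subgroup SL(2, F)) ≤ N.map f := by
      refine le_trans ?_ (map_mono hN)
      rw [hSX, map_comap_eq_self_of_surjective hfsurj]
    by_contra hyP
    have hne' : P ≠ y • P := fun he => hyP (Sylow.smul_eq_iff_mem_normalizer.1 he.symm)
    have h2 : ((y • P : Sylow p SL(2, F)) : Subgroup SL(2, F)) ≤ N.map f := by
      intro z hz
      rw [Sylow.coe_subgroup_smul, mem_pointwise_smul_iff_inv_smul_mem] at hz
      have hz' := mul_mem (mul_mem hy (hP hz)) (inv_mem hy)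
      simpa [MulAut.smul_def, mul_assoc] using hz'
    have htop := CfsgLib.Classical.sylow_sl_two_sup_eq_top p P (y • P) hne'
    apply hne
    have h3 : N.map f = ⊤ := top_le_iff.1 (htop.ge.trans (sup_le hP h2))
    rw [← comap_map_eq_self hkN, h3, comap_top]
  have hSM : (SX : Subgroup ↥X) ≤ M := hSX ▸ comap_mono le_normalizer
  have hpre : CfsgLib.ClassK.Push.Pre (F := F) SX M φ n :=
    { coatom := ⟨hM, fun N hN => by
        by_contra hne
        exact hN.not_ge (hkey N (hSM.trans hN.le) hne)⟩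
      le := hSM
      unique := fun N hN hle => le_antisymm (hkey N hle hN.1) (by
        rcases eq_or_lt_of_le (hkey N hle hN.1) with h | h
        · exact h.ge
        · exact absurd (hN.2 M h) hM)
      surj := hφ
      card := hF }
  have hW2 : ∀ w ∈ W, w ^ p = 1 := fun w hw => Subtype.ext (hV.2 _ ((hWmem w).1 hw))
  have hWab : W ≤ centralizer (W : Set ↥X) := fun x hx => mem_centralizer_iff.2 fun y hy =>
    Subtype.ext (hab _ ((hWmem y).1 hy) _ ((hWmem x).1 hx))
  have hcen : ∀ c : ↥X, c ∈ centralizer (W : Set ↥X) → f c = 1 := by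
    intro c hc
    obtain ⟨x, hx⟩ := hg.2 (QuotientGroup.mk' W c)
    have hxc : (inclusion hHX x)⁻¹ * c ∈ W := QuotientGroup.eq.1 hx
    have hxC : inclusion hHX x ∈ centralizer (W : Set ↥X) := by
      have h1 := mul_mem hc (inv_mem (hWab hxc))
      rwa [_root_.mul_inv_rev, inv_inv, mul_inv_cancel_left] at h1
    have hx1 : (x : G) ∈ H ⊓ centralizer (V : Set G) :=
      mem_inf.2 ⟨x.2, mem_centralizer_iff.2 fun v hv =>
        congrArg Subtype.val (mem_centralizer_iff.1 hxC ⟨v, hVX hv⟩ ((hWmem ⟨v, hVX hv⟩).2 hv))⟩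
    rw [hf, Subgroup.mem_bot] at hx1
    show e (g'.symm (QuotientGroup.mk' W c)) = 1
    rw [← hx, show x = 1 from Subtype.ext hx1, map_one, map_one, map_one]
  have hWc : ¬ Cfsg.pResidual p ↥X ≤ centralizer (W : Set ↥X) := by
    intro hle
    refine CfsgLib.ClassK.Push.not_isPGroup_psl (F := F) hF
      (IsPGroup.of_surjective SX.isPGroup' (φ.comp (SX : Subgroup ↥X).subtype) fun q => ?_)
    obtain ⟨x, rfl⟩ := hφ q
    have hx : x ∈ Cfsg.pResidual p ↥X ⊔ (SX : Subgroup ↥X) :=
      (CfsgLib.Transfer.pResidual_sup_sylow SX).symm ▸ mem_top x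
    haveI := hWn
    haveI : (Cfsg.pResidual p ↥X).Normal := CfsgLib.Transfer.pResidual_normal
    obtain ⟨c, hc, s, hs, rfl⟩ := mem_sup_of_normal_left.1 hx
    refine ⟨⟨s, hs⟩, ?_⟩
    show φ s = φ (c * s)
    rw [map_mul, show φ c = 1 from (congrArg (QuotientGroup.mk' _) (hcen c (hle hc))).trans (map_one _),
      one_mul]
  subst hT
  obtain ⟨⟨y, hy⟩, hyS, rfl⟩ := hA ha
  have hye : e ⟨y, hy⟩ ∈ (P : Subgroup SL(2, F)) := by
    rw [hPc]; exact ⟨⟨y, hy⟩, hyS, rfl⟩
  have haS : (⟨y, hHX hy⟩ : ↥X) ∈ (SX : Subgroup ↥X) := by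
    show f _ ∈ (P : Subgroup SL(2, F))
    rw [hfH y hy]; exact hye
  have haφ : φ ⟨y, hHX hy⟩ ≠ 1 := by
    intro h
    apply ha1
    have h1 : f ⟨y, hHX hy⟩ ∈ center SL(2, F) := (QuotientGroup.eq_one_iff _).1 h
    rw [hfH y hy] at h1
    obtain ⟨k, hk⟩ := P.isPGroup' ⟨_, hye⟩
    have hk' : (e ⟨y, hy⟩) ^ p ^ k = 1 := congrArg Subtype.val hk
    have hord := orderOf_dvd_of_pow_eq_one hk'
    have hdvd : orderOf (e ⟨y, hy⟩) ∣ Nat.card ↥(center SL(2, F)) := by
      have := orderOf_dvd_natCard (⟨_, h1⟩ : ↥(center SL(2, F)))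
      rwa [← Subgroup.orderOf_coe] at this
    obtain ⟨i, -, hi⟩ := (Nat.dvd_prime_pow hp).1 hord
    rcases i with _ | i
    · rw [pow_zero, orderOf_eq_one_iff, MulEquiv.map_eq_one_iff] at hi
      exact congrArg Subtype.val hi
    · exact absurd ((dvd_pow_self p i.succ_ne_zero).trans (hi ▸ hdvd))
        (CfsgLib.ClassK.Push.not_dvd_center (F := F) hF)
  refine (hpre.le_relIndex_centralizer hW2 hWab hWc haS haφ).trans (le_of_eq ?_)
  have hmap : (W ⊓ centralizer ({(⟨y, hHX hy⟩ : ↥X)} : Set ↥X)) =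
      (V ⊓ centralizer ({y} : Set G)).subgroupOf X := by
    ext z
    rw [mem_subgroupOf, mem_inf, mem_inf, hWmem, mem_centralizer_singleton_iff,
      mem_centralizer_singleton_iff, Subtype.ext_iff]
    rfl
  rw [hmap, hWdef, relIndex_subgroupOf hVX]
  rfl

end Cfsg.Agent.S2788
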