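import Cfsg.Statements.S2796
import Cfsg.Agent.S1997
import Cfsg.Agent.Lib.PLocal.SFourFactorHat
-- import your own Cfsg.Agent.* helpers here

set_option autoImplicit false
universe u
open Cfsg

namespace Cfsg.Agent.S2796

open Subgroup CfsgLib.PLocal CfsgLib.PLocal.SFourW

theorem normalizer_jH_le {G : Type u} [Group G] (P : Subgroup G) :
    Subgroup.normalizer (jH P : Set G) ≤ Subgroup.normalizer (zHat P : Set G) := fun g hg => by
  rw [mem_normalizer_iff_map_conj_eq] at hg ⊢
  unfold zHat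
  rw [omegaOne_map_injective (MulAut.conj g).injective, center_map_of_injOn _ (MulAut.conj g).injective.injOn, hg]

theorem induced_zHat {G : Type u} [Group G] (P : Subgroup G) :
    Cfsg.inducedFunctor (G := G) (fun Q [Group Q] => zHat (⊤ : Subgroup Q)) P = zHat P := by
  show (zHat (⊤ : Subgroup P)).map P.subtype = zHat P
  rw [zHat_map_of_injective P.subtype_injective, ← MonoidHom.range_eq_map, Subgroup.range_subtype]

theorem zHat_isChar : Cfsg.IsCharPFunctor.{u} 2 (fun Q [Group Q] => zHat (⊤ : Subgroup Q)) := by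
  haveI := Fact.mk Nat.prime_two
  refine ⟨fun Q _ _ hQ hne => ?_, fun Q R _ _ _ _ φ => ?_⟩
  · have hJ : Cfsg.thompsonSubgroupOf 2 (⊤ : Subgroup Q) ≠ ⊥ :=
      CfsgLib.Complement.thompsonOf_ne_bot (hQ.to_subgroup ⊤)
        ((Subgroup.nontrivial_iff_ne_bot _).1 (Subgroup.topEquiv.toEquiv.nontrivial))
    have hH : jH (⊤ : Subgroup Q) ≠ ⊥ := fun h => hJ (le_bot_iff.1 (h ▸ thompson_le_jH _))
    have hC := CfsgLib.Complement.center_inf_ne_bot (hQ.to_subgroup _) hH
    intro h
    obtain ⟨z, hz⟩ : ∃ z : ↥(jH (⊤ : Subgroup Q) ⊓ centralizer (jH (⊤ : Subgroup Q) : Set Q)),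
        orderOf z = 2 := by
      refine exists_prime_orderOf_dvd_card' 2 ?_
      obtain ⟨k, hk⟩ := IsPGroup.iff_card.1 (hQ.to_subgroup (jH (⊤ : Subgroup Q) ⊓
        centralizer (jH (⊤ : Subgroup Q) : Set Q)))
      rw [hk]
      exact dvd_pow_self 2 fun h0 => hC (card_eq_one.1 (by rw [hk, h0, pow_zero]))
    have hz2 : (z : Q) ^ 2 = 1 := by
      rw [← SubgroupClass.coe_pow, ← hz, pow_orderOf_eq_one]; rfl
    have hmem : (z : Q) ∈ zHat (⊤ : Subgroup Q) := subset_closure ⟨z.2, hz2⟩
    change zHat (⊤ : Subgroup Q) = ⊥ at h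
    rw [h, mem_bot] at hmem
    rw [show z = 1 from Subtype.ext hmem, orderOf_one] at hz
    omega
  · show (zHat (⊤ : Subgroup Q)).map φ.toMonoidHom = zHat ⊤
    rw [zHat_map_of_injective φ.injective, map_top_of_surjective _ φ.surjective]

/-- Let G be a finite group in which the symmetric group of degree 4 is not involved, such that for every section K/R of G with C(O₂(K/R)) ≤ O₂(K/R) every non-abelian composition factor of K/R is a Suzuki group Sz(2^(2n+1)) or PSL₂ over a field with 3^(2n+1) elements. Let S be a Sylow 2-subgroup, J_e(S) the subgroup generated by its elementary abelian subgroups of largest order, and A the normal closure of Ω₁(Z(S)) in N_G(J_e(S)). Then A is an elementary abelian subgroup of S, strongly closed in S with respect to G, and A controls strong fusion in G. -/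
theorem result {G : Type u} [Group G] [Finite G] (hfree : ¬ Cfsg.Involves (Equiv.Perm (Fin 4)) G) (hsec : ∀ (K R : Subgroup G) [hR : (R.subgroupOf K).Normal], Subgroup.centralizer (Cfsg.pCore 2 (K ⧸ R.subgroupOf K) : Set (K ⧸ R.subgroupOf K)) ≤ Cfsg.pCore 2 (K ⧸ R.subgroupOf K) → Cfsg.IsCompositionKGroupWith Cfsg.IsSuzukiOrPSL2OddPowerThree (K ⧸ R.subgroupOf K)) (S : Sylow 2 G) (N : Subgroup G) (hN : N = Subgroup.normalizer (Cfsg.thompsonSubgroupOf 2 (S : Subgroup G) : Set G)) (A : Subgroup G) (hA : A = (Subgroup.normalClosure (((Cfsg.omegaOne 2 ((S : Subgroup G) ⊓ Subgroup.centralizer ((S : Subgroup G) : Set G))).subgroupOf N : Subgroup ↥N) : Set ↥N)).map N.subtype) : A ≤ S ∧ Cfsg.IsElementaryAbelian 2 A ∧ Cfsg.IsStronglyClosed A (S : Subgroup G) ∧ Cfsg.ControlsStrongFusion 2 A := by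
  haveI := Fact.mk Nat.prime_two
  refine Cfsg.Agent.S1997.result S (fun Q [Group Q] => Cfsg.thompsonSubgroup 2 Q)
    (fun Q [Group Q] => zHat (⊤ : Subgroup Q)) (zjFamily_isChar _ (Or.inr rfl)) zHat_isChar ?_ ?_
    N hN A hA
  · intro K R _ hc T
    have hfree' : ¬ Cfsg.Involves (Equiv.Perm (Fin 4)) (↥K ⧸ R.subgroupOf K) := fun h =>
      hfree (CfsgLib.Complement.involves_of_subgroup (L := K) (CfsgLib.Complement.involves_of_quotient h))
    have hK := hsec K R hc
    simp only [induced_zHat]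
    refine ⟨fun x => ?_, fun x => ?_, fun x => ?_⟩
    · obtain ⟨c, hc', n, hn, -, e⟩ := factor_centre hfree' hK hc T x
      exact ⟨c, centralizer_le (omegaOne_le 2 _) hc', n, hn, e⟩
    · obtain ⟨c, hc', n, -, hn, e⟩ := factor_centre hfree' hK hc T x
      exact ⟨c, centralizer_le (omegaOne_le 2 _) hc', n, normalizer_jH_le _ hn, e⟩
    · obtain ⟨c, hc', m, hm, e⟩ := factor_zHat _ _ le_rfl hfree' hK hc T x⁻¹
      refine ⟨m⁻¹, inv_mem hm, c⁻¹, inv_mem ?_, by rw [← mul_inv_rev, ← e, inv_inv]⟩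
      refine mem_normalizer_iff_map_conj_eq.2 (eq_of_le_of_card_ge ?_
        (card_map_of_injective (MulAut.conj c).injective).ge)
      rintro _ ⟨z, hz, rfl⟩
      show c * z * c⁻¹ ∈ _
      rw [← hc' z hz, mul_inv_cancel_right]
      exact hz
  · rw [induced_zHat]
    obtain ⟨P, hP⟩ : ∃ P, P = (S : Subgroup G) := ⟨_, rfl⟩
    rw [← hP]
    have hel : Cfsg.IsElementaryAbelian 2 (Cfsg.omegaOne 2 (P ⊓ centralizer (P : Set G))) :=
      omegaCenter_elemAb P
    have hle : Cfsg.omegaOne 2 (P ⊓ centralizer (P : Set G)) ≤ P := (omegaOne_le 2 _).trans inf_le_left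
    have hJ : Cfsg.omegaOne 2 (P ⊓ centralizer (P : Set G)) ≤ Cfsg.thompsonSubgroupOf 2 P :=
      le_thompson_of_centralized hle hel ((thompsonOf_le P).trans
        (le_centralizer_iff.1 ((omegaOne_le 2 _).trans inf_le_right)))
    refine le_inf hJ ?_
    exact le_omegaOne hel (le_inf (hJ.trans (thompson_le_jH P))
      (((omegaOne_le 2 _).trans inf_le_right).trans (centralizer_le (jH_le P))))

end Cfsg.Agent.S2796
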