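import Cfsg.Statements.S2799
import Cfsg.Agent.Lib.Fusion.ThompsonCenter
import Cfsg.Agent.Lib.Fusion.GroupModel
import Cfsg.Agent.Lib.Fusion.GroupFusion

set_option autoImplicit false
open Cfsg

namespace Cfsg.Agent.S2799

/-- Let S be a Sylow p-subgroup of the finite group G, J(S) the subgroup generated by the abelian subgroups of S of largest order, and x an element of S lying in the centre of N_G(J(S)). Assume that p is odd, or that x is a p-th power of an element of Z(S), or that the symmetric group of degree 4 is not involved in G. Then x is weakly closed in S with respect to G: every G-conjugate of x that lies in S equals x. -/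
theorem result {G : Type*} [Group G] [Finite G] {p : ℕ} [Fact p.Prime] (S : Sylow p G) (x : G) (hxS : x ∈ (S : Subgroup G)) (hxZ : x ∈ (Subgroup.center ↥(Subgroup.normalizer ((Cfsg.thompsonSubgroupAOf (S : Subgroup G)) : Set G))).map (Subgroup.normalizer ((Cfsg.thompsonSubgroupAOf (S : Subgroup G)) : Set G)).subtype) (h : p ≠ 2 ∨ (∃ z ∈ (S : Subgroup G) ⊓ Subgroup.centralizer ((S : Subgroup G) : Set G), z ^ p = x) ∨ ¬ Cfsg.Involves (Equiv.Perm (Fin 4)) G) : ∀ g : G, g * x * g⁻¹ ∈ (S : Subgroup G) → g * x * g⁻¹ = x := by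
  intro g hg
  set J := Cfsg.thompsonSubgroupAOf (S : Subgroup G) with hJ
  set F := Cfsg.groupFusionSystem (S : Subgroup G) with hF
  have hS : IsPGroup p (S : Subgroup G) := S.isPGroup'
  have hFs : F.IsSaturated p := CfsgLib.Fusion.group_isSaturated S
  have hJS : J ≤ (S : Subgroup G) := CfsgLib.Complement.thompsonAOf_le _
  have hNS : Cfsg.FusionSystem.normalizerIn (S : Subgroup G) J = S :=
    CfsgLib.Fusion.normalizerIn_thompsonAOf hS
  have hJn : F.IsFullyNormalized J :=
    ⟨hJS, fun T _ => by rw [hNS]; exact Subgroup.card_le_of_le inf_le_left⟩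
  set N := CfsgLib.Fusion.normalizerSys F J hJS with hN
  have hNN : F.IsNormalizerSystem J N := CfsgLib.Fusion.isNormalizerSystem_normalizerSys F J hJS
  have hNs : N.IsSaturated p := CfsgLib.Fusion.isSaturated_normalizerSystem hS hFs hJn hNN
  have hsys := CfsgLib.Fusion.isSystemOf_group (S : Subgroup G)
  obtain ⟨⟨x', hx'⟩, hxc, rfl⟩ := hxZ
  have hfix : ∀ a ∈ Subgroup.normalizer (J : Set G), a * x' * a⁻¹ = x' := fun a ha => by
    rw [show a * x' = x' * a from congrArg Subtype.val (Subgroup.mem_center_iff.1 hxc ⟨a, ha⟩)]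
    exact mul_inv_cancel_right _ _
  haveI : Finite ↥(Cfsg.FusionSystem.normalizerIn (S : Subgroup G) J) :=
    CfsgLib.Fusion.finite_normalizerIn
  have hxN : x' ∈ N.center := by
    refine (CfsgLib.Fusion.mem_center_iff (hS.to_le inf_le_left) hNs).2
      ⟨⟨hxS, hx'⟩, fun P f hf hxP => ?_⟩
    obtain ⟨hPn, -, f', hf', hf'x, hJi⟩ := (CfsgLib.Fusion.isMap_normalizerSystem_iff hNN).1 hf
    obtain ⟨-, -, a, -, ha⟩ := (hsys.2 _ f').1 hf'
    have hci : CfsgLib.Fusion.conjSub a J = J := by
      rw [← CfsgLib.Fusion.img_conj]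
      exact (CfsgLib.Fusion.img_congr fun y hy => (ha y (Subgroup.mem_sup_right hy)).symm).trans hJi
    rw [← hf'x x' hxP, ha x' (Subgroup.mem_sup_left hxP)]
    exact hfix a (Subgroup.mem_normalizer_iff_map_conj_eq.2 hci)
  have hxF : x' ∈ F.center := by
    by_cases hpow : ∃ z ∈ (S : Subgroup G) ⊓ Subgroup.centralizer ((S : Subgroup G) : Set G), z ^ p = x'
    · exact CfsgLib.Fusion.pow_mem_center_of_normalizer hS hFs hNN
        ⟨Subgroup.subset_closure hpow, hxN⟩
    · rw [← CfsgLib.Fusion.center_normalizer_thompson_eq hS hFs hNN ?_]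
      · exact hxN
      · rcases h with h | h | h
        · exact Or.inl h
        · exact absurd h hpow
        · exact Or.inr (CfsgLib.Fusion.group_isSectionFree S h)
  refine CfsgLib.Fusion.IsCentral.apply_eq CfsgLib.Fusion.center_isCentral (F := F)
    (P := Subgroup.zpowers x') (f := fun y => g * y * g⁻¹) ?_ hxF (Subgroup.mem_zpowers x')
  refine (hsys.2 _ _).2 ⟨Subgroup.zpowers_le.2 hxS, fun y hy => ?_, g, Subgroup.mem_top g,
    fun y _ => rfl⟩
  obtain ⟨n, rfl⟩ := Subgroup.mem_zpowers_iff.1 hy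
  rw [← conj_zpow]
  exact (S : Subgroup G).zpow_mem hg n

end Cfsg.Agent.S2799
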