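import Cfsg.Statements.S2802
import Cfsg.Agent.Lib.Amalgam.PReducedSubnormal

set_option autoImplicit false
open Cfsg

namespace Cfsg.Agent.S2802

/-- Let L be a finite group and p a prime with C_L(O_p(L)) ≤ O_p(L), T a Sylow p-subgroup of L and R a subgroup with T ≤ R. If X is a p-reduced normal subgroup of R (normal in R, elementary abelian, O_p(R/C_R(X)) = 1), then the normal closure of X in L is a p-reduced normal subgroup of L. -/
theorem result {L : Type*} [Group L] [Finite L] {p : ℕ} [Fact p.Prime] (hchar : Subgroup.centralizer (Cfsg.pCore p L : Set L) ≤ Cfsg.pCore p L) (T : Sylow p L) (R : Subgroup L) (hTR : (T : Subgroup L) ≤ R) (X : Subgroup ↥R) (hX : Cfsg.IsPReducedNormal p X) : Cfsg.IsPReducedNormal p (Subgroup.normalClosure ((X.map R.subtype : Subgroup L) : Set L)) := by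
  have h := CfsgLib.Amalgam.pRedIn_normalClosure (CfsgLib.Amalgam.charPElements_top hchar)
    (CfsgLib.Amalgam.isSylIn_top T) hTR le_top ((CfsgLib.Amalgam.isPReducedNormal_iff_pRedIn X).1 hX)
  set X' := X.map R.subtype
  set W := ⨆ l : (⊤ : Subgroup L), X'.map (MulAut.conj (l : L)).toMonoidHom with hW
  have hWn : W.Normal := CfsgLib.Comp.normal_of_top_le_normalizer h.2.1
  have e : Subgroup.normalClosure (X' : Set L) = W := by
    refine le_antisymm (Subgroup.normalClosure_le_normal ?_) (iSup_le fun l => ?_)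
    · intro x hx
      exact Subgroup.mem_iSup_of_mem (1 : (⊤ : Subgroup L)) ⟨x, hx, by simp⟩
    · rintro _ ⟨x, hx, rfl⟩
      exact Subgroup.normalClosure_normal.conj_mem x (Subgroup.subset_normalClosure hx) (l : L)
  rw [e]
  exact (CfsgLib.Amalgam.isPReducedNormal_top_iff _).2 h

end Cfsg.Agent.S2802
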