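import Cfsg.Statements.S2803
import Cfsg.Agent.Lib.Amalgam.PReducedSubnormal

set_option autoImplicit false
open Cfsg

namespace Cfsg.Agent.S2803

/-- Let L be a finite group and p a prime with C_L(O_p(L)) ≤ O_p(L), T a Sylow p-subgroup, and Y the largest p-reduced normal subgroup of L. Put T_L = C_T(Y) and L_T = N_L(T_L). Then L = L_T · C_L(Y) (elementwise), T_L = O_p(L_T), and Y = Ω₁(Z(T_L)). -/
theorem result {L : Type*} [Group L] [Finite L] {p : ℕ} [Fact p.Prime] (hchar : Subgroup.centralizer (Cfsg.pCore p L : Set L) ≤ Cfsg.pCore p L) (T : Sylow p L) (Y : Subgroup L) (hY : (Cfsg.IsPReducedNormal p Y ∧ ∀ V : Subgroup L, Cfsg.IsPReducedNormal p V → V ≤ Y)) (TL : Subgroup L) (hTL : TL = (T : Subgroup L) ⊓ Subgroup.centralizer (Y : Set L)) : (∀ g : L, ∃ a ∈ Subgroup.normalizer (TL : Set L), ∃ c ∈ Subgroup.centralizer (Y : Set L), g = a * c) ∧ (Cfsg.pCore p ↥(Subgroup.normalizer (TL : Set L))).map (Subgroup.normalizer (TL : Set L)).subtype = TL ∧ Y = Cfsg.omegaOne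 p (TL ⊓ Subgroup.centralizer (TL : Set L)) := by
  have hY' : CfsgLib.Amalgam.PRedIn p ⊤ Y := (CfsgLib.Amalgam.isPReducedNormal_top_iff Y).1 hY.1
  have hTs := CfsgLib.Amalgam.isSylIn_top (p := p) T
  have hYeq : Y = Cfsg.largestPReducedOf p (⊤ : Subgroup L) := le_antisymm
    ((CfsgLib.Amalgam.pRedIn_largest ⊤).2 Y hY')
    (hY.2 _ ((CfsgLib.Amalgam.isPReducedNormal_top_iff _).2 (CfsgLib.Amalgam.pRedIn_largest ⊤).1))
  haveI := hY.1.1
  set C := Subgroup.centralizer (Y : Set L)
  set N := Subgroup.normalizer (TL : Set L)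
  refine ⟨fun g => ?_, ?_, ?_⟩
  · obtain ⟨c, hc, n, hn, rfl⟩ := CfsgLib.PLocal.frattini_mul T C g
    refine ⟨n, (by show n ∈ Subgroup.normalizer (TL : Set L); rw [hTL]; exact hn), n⁻¹ * c * n, ?_, by group⟩
    simpa using (inferInstance : C.Normal).conj_mem c hc n⁻¹
  · show Cfsg.pCoreOf p N = TL
    have hTN : (T : Subgroup L) ≤ N := by
      rw [show N = Subgroup.normalizer (TL : Set L) from rfl, hTL]
      exact CfsgLib.Amalgam.normalizes_inf Subgroup.le_normalizer (CfsgLib.Comp.le_normalizer_of_normal' C _)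
    apply le_antisymm
    · set R := Cfsg.pCoreOf p N
      have hRC : R ≤ C := by
        refine le_sup_left.trans (hY'.2.2.2 (R ⊔ C) le_top ?_ ?_)
        · intro g _
          obtain ⟨c, hc, n, hn, rfl⟩ := CfsgLib.PLocal.frattini_mul T C g
          refine mul_mem (Subgroup.le_normalizer (Subgroup.mem_sup_right hc))
            (CfsgLib.Comp.le_normalizer_sup (CfsgLib.Amalgam.le_normalizer_pCoreOf N)
              (CfsgLib.Comp.le_normalizer_of_normal' C N) ?_)
          rw [show N = Subgroup.normalizer (TL : Set L) from rfl, hTL]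
          exact hn
        · intro x hx
          obtain ⟨r, hr, c, hc, rfl⟩ := Subgroup.mem_sup_of_normal_right.1 hx
          obtain ⟨k, hk⟩ := CfsgLib.Amalgam.isPGroup_pCoreOf N ⟨r, hr⟩
          refine ⟨k, (QuotientGroup.eq_one_iff (N := C) _).1 ?_⟩
          rw [QuotientGroup.mk_pow, QuotientGroup.mk_mul, (QuotientGroup.eq_one_iff c).2 hc, mul_one,
            ← QuotientGroup.mk_pow, show r ^ p ^ k = 1 from congrArg Subtype.val hk, QuotientGroup.mk_one]
      rw [hTL]
      exact le_inf ((hTs.mono hTN le_top).pCoreOf_le) hRC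
    · exact CfsgLib.Amalgam.le_pCoreOf Subgroup.le_normalizer le_rfl (hTL ▸ T.isPGroup'.to_le inf_le_left)
  · rw [hTL]
    conv_lhs => rw [hYeq, CfsgLib.Amalgam.largest_eq_omega_center (CfsgLib.Amalgam.charPElements_top hchar) hTs, ← hYeq]

end Cfsg.Agent.S2803
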