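import Cfsg.Statements.S2804
import Cfsg.Agent.Lib.Amalgam.PReducedSubnormal
import Cfsg.Agent.Lib.Coprime.Action

set_option autoImplicit false
open Cfsg

namespace Cfsg.Agent.S2804

open scoped commutatorElement
/-- Let L be a finite group and p a prime with C_L(O_p(L)) ≤ O_p(L), V a p-reduced normal subgroup of L and K a subnormal subgroup of L. Then [V, O^p(K)] is contained in K and is a p-reduced normal subgroup of K, where O^p(K) is the subgroup of K generated by its elements of order prime to p. -/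
theorem result {L : Type*} [Group L] [Finite L] {p : ℕ} [Fact p.Prime] (hchar : Subgroup.centralizer (Cfsg.pCore p L : Set L) ≤ Cfsg.pCore p L) (V : Subgroup L) (hV : Cfsg.IsPReducedNormal p V) (K : Subgroup L) (hK : K.IsSubnormal) : ⁅V, (Cfsg.pResidual p ↥K).map K.subtype⁆ ≤ K ∧ Cfsg.IsPReducedNormal p ((⁅V, (Cfsg.pResidual p ↥K).map K.subtype⁆).subgroupOf K) := by
  have hV' := (CfsgLib.Amalgam.isPReducedNormal_top_iff V).1 hV
  obtain ⟨hred, hCeq⟩ := CfsgLib.Amalgam.pRedIn_inf_subnormal hV' hK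
  set M := V ⊓ K
  set O := (Cfsg.pResidual p ↥K).map K.subtype
  have hVn := hV.1
  have hVp : IsPGroup p V := CfsgLib.PLocal.elemAb_isPGroup hV'.2.2.1
  have hstep : ∀ K' : Subgroup L, K'.IsSubnormal → ∀ x ∈ K', (orderOf x).Coprime p → ⁅V, Subgroup.zpowers x⁆ ≤ K' := by
    intro K' hK'
    induction hK' with
    | top => exact fun _ _ _ => le_top
    | step K1 K2 hle _ hN ih =>
      intro x hx hxp
      have hxn : Subgroup.zpowers x ≤ Subgroup.normalizer (V : Set L) :=
        CfsgLib.Comp.le_normalizer_of_normal' V _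
      rw [← CfsgLib.Coprime.commutator_commutator_eq hxn (CfsgLib.Amalgam.coprime_card_zpowers hVp hxp)
        (Or.inl (haveI := Subgroup.zpowers_isMulCommutative x; inferInstance))]
      refine (Subgroup.commutator_mono (ih x (hle hx) hxp) (Subgroup.zpowers_le.2 hx)).trans ?_
      exact Subgroup.le_normalizer_iff_commutator_le_right.1
        ((Subgroup.normal_subgroupOf_iff_le_normalizer hle).1 hN)
  have hKM : K ≤ Subgroup.normalizer (M : Set L) := hred.2.1
  have hgen : ∀ y : K, y ∈ Cfsg.pResidual p K → ∀ v ∈ V, ⁅(y : L), v⁆ ∈ M := by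
    intro y hy
    induction hy using Subgroup.closure_induction with
    | mem y hy =>
      intro v hv
      have hyp : (orderOf (y : L)).Coprime p := by rw [Subgroup.orderOf_coe]; exact hy
      rw [← commutatorElement_inv]
      refine inv_mem (Subgroup.mem_inf.2 ⟨?_, ?_⟩)
      · rw [commutatorElement_def, show v * y * v⁻¹ * (y : L)⁻¹ = v * ((y : L) * v⁻¹ * (y : L)⁻¹) by group]
        exact mul_mem hv (hVn.conj_mem _ (inv_mem hv) _)
      · exact hstep K hK y y.2 hyp (Subgroup.commutator_mem_commutator hv (Subgroup.mem_zpowers (y : L)))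
    | one => intro v _; simp
    | mul a b _ _ ha hb =>
      intro v hv
      rw [Subgroup.coe_mul, show ⁅(a : L) * b, v⁆ = a * ⁅(b : L), v⁆ * (a : L)⁻¹ * ⁅(a : L), v⁆ by
        simp only [commutatorElement_def]; group]
      exact mul_mem ((Subgroup.mem_normalizer_iff.1 (hKM a.2) _).1 (hb v hv)) (ha v hv)
    | inv a _ ha =>
      intro v hv
      rw [Subgroup.coe_inv, show ⁅(a : L)⁻¹, v⁆ = (a : L)⁻¹ * ⁅(a : L), v⁆⁻¹ * ((a : L)⁻¹)⁻¹ by
        simp only [commutatorElement_def]; group]
      exact (Subgroup.mem_normalizer_iff.1 (hKM (inv_mem a.2)) _).1 (inv_mem (ha v hv))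
  set W := ⁅V, O⁆
  have hWM : W ≤ M := by
    refine Subgroup.commutator_le.2 ?_
    rintro v hv _ ⟨y, hy, rfl⟩
    rw [← commutatorElement_inv]
    exact inv_mem (hgen y hy v hv)
  have hWK : W ≤ K := hWM.trans inf_le_right
  refine ⟨hWK, ?_⟩
  rw [CfsgLib.Amalgam.isPReducedNormal_iff_pRedIn, Subgroup.subgroupOf_map_subtype, inf_eq_left.2 hWK]
  have hKW : K ≤ Subgroup.normalizer (W : Set L) := fun k hk => by
    apply CfsgLib.PLocal.mem_normalizer_map_conj.2
    have hO : k ∈ Subgroup.normalizer (O : Set L) := by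
      apply CfsgLib.PLocal.mem_normalizer_map_conj.2
      refine Subgroup.eq_of_le_of_card_ge ?_ (CfsgLib.Coprime.card_map_conj k O).ge
      rintro _ ⟨_, ⟨v, hv, rfl⟩, rfl⟩
      exact ⟨_, (CfsgLib.Transfer.pResidual_normal (G := K) (p := p)).conj_mem v hv ⟨k, hk⟩, rfl⟩
    show (⁅V, O⁆).map _ = _
    rw [Subgroup.map_commutator, CfsgLib.Coprime.map_conj_of_mem_normalizer hO,
      CfsgLib.Coprime.map_conj_of_mem_normalizer (CfsgLib.Comp.le_normalizer_of_normal' V ⊤ (Subgroup.mem_top k))]
  refine ⟨hWK, hKW, CfsgLib.PLocal.elemAb_mono hred.2.2.1 hWM, fun D hDK hKD hD => ?_⟩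
  have key : ∀ x ∈ D, (orderOf x).Coprime p → x ∈ Subgroup.centralizer (M : Set L) := by
    intro x hx hxp
    have hxW := hD.mem_of_coprime hx hxp
    refine Subgroup.centralizer_le (inf_le_left : M ≤ V)
      (CfsgLib.Amalgam.centralizes_of_stabilizes (N := W) (hWM.trans inf_le_left) hVp hxp hxW fun v hv => ?_)
    have h1 : ⁅v, x⁆ ∈ W := Subgroup.commutator_mem_commutator hv
      ⟨⟨x, hDK hx⟩, CfsgLib.Transfer.mem_pResidual_of_coprime (by rwa [← Subgroup.orderOf_coe]), rfl⟩
    have h2 := inv_mem h1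
    rwa [commutatorElement_inv, commutatorElement_def] at h2
  refine le_trans (le_inf hDK (hred.2.2.2 D hDK hKD (CfsgLib.Amalgam.pMod_of_coprime_mem key))) ?_
  exact hCeq.le.trans (inf_le_right.trans (Subgroup.centralizer_le (hWM.trans inf_le_left)))

end Cfsg.Agent.S2804
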