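import Cfsg.Statements.S2805
import Cfsg.Agent.Lib.Amalgam.PReducedSubnormal

set_option autoImplicit false
open Cfsg

namespace Cfsg.Agent.S2805

open scoped commutatorElement
/-- Kieler's Lemma: let H be a finite group of characteristic p (C_H(O_p(H)) ≤ O_p(H)), T a Sylow p-subgroup of H and L a subnormal subgroup of H. Then C_L(Ω₁(Z(T))) = C_L(Ω₁(Z(T ∩ L))), Ω₁(Z(·)) denoting the elements of order dividing p in the centre. -/
theorem result {H : Type*} [Group H] [Finite H] {p : ℕ} [Fact p.Prime] (hH : Subgroup.centralizer (Cfsg.pCore p H : Set H) ≤ Cfsg.pCore p H) (T : Sylow p H) (L : Subgroup H) (hL : L.IsSubnormal) : L ⊓ Subgroup.centralizer ((Cfsg.omegaOne p ((T : Subgroup H) ⊓ Subgroup.centralizer ((T : Subgroup H) : Set H))) : Set H) = L ⊓ Subgroup.centralizer ((Cfsg.omegaOne p (((T : Subgroup H) ⊓ L) ⊓ Subgroup.centralizer ((((T : Subgroup H) ⊓ L) : Subgroup H) : Set H))) : Set H) := by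
  set ZT := fun P : Subgroup H => Cfsg.omegaOne p (P ⊓ Subgroup.centralizer (P : Set H))
  suffices main : CfsgLib.Amalgam.IsSylIn p L ((T : Subgroup H) ⊓ L) ∧
      L ⊓ Subgroup.centralizer (ZT (T : Subgroup H) : Set H) =
        L ⊓ Subgroup.centralizer (ZT ((T : Subgroup H) ⊓ L) : Set H) from main.2
  induction hL with
  | top => rw [inf_top_eq]; exact ⟨CfsgLib.Amalgam.isSylIn_top T, rfl⟩
  | step L K hle hKs hN ih =>
    obtain ⟨hTK, heq⟩ := ih
    have hKL := (Subgroup.normal_subgroupOf_iff_le_normalizer hle).1 hN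
    have hKc := CfsgLib.Amalgam.charPElements_of_subnormal hH hKs
    set TK := (T : Subgroup H) ⊓ K
    set TL := (T : Subgroup H) ⊓ L
    have hTKL : TK ⊓ L = TL := by rw [inf_assoc, inf_eq_right.2 hle]
    have hTL : CfsgLib.Amalgam.IsSylIn p L TL := hTKL ▸ CfsgLib.Amalgam.isSylIn_inf_normal hTK hle hKL
    refine ⟨hTL, ?_⟩
    have hL' := CfsgLib.Amalgam.charPElements_of_subnormal hH (Subgroup.IsSubnormal.step L K hle hKs hN)
    suffices h : L ⊓ Subgroup.centralizer (ZT TK : Set H) = L ⊓ Subgroup.centralizer (ZT TL : Set H) by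
      rw [← h]
      calc L ⊓ Subgroup.centralizer (ZT (T : Subgroup H) : Set H)
          = L ⊓ (K ⊓ Subgroup.centralizer (ZT (T : Subgroup H) : Set H)) := by rw [← inf_assoc, inf_eq_left.2 hle]
        _ = L ⊓ Subgroup.centralizer (ZT TK : Set H) := by rw [heq, ← inf_assoc, inf_eq_left.2 hle]
    set OL := Cfsg.pCoreOf p L
    set OK := Cfsg.pCoreOf p K
    set A := ZT OL
    set B := ZT OK
    have hKOL : K ≤ Subgroup.normalizer (OL : Set H) := fun k hk => by
      apply CfsgLib.Comp.map_conj_eq_iff.1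
      rw [← CfsgLib.Amalgam.pCoreOf_map _ (MulAut.conj k).injective, CfsgLib.Comp.map_conj_eq_iff.2 (hKL hk)]
    have hOLK : OL ≤ OK := CfsgLib.Amalgam.le_pCoreOf ((CfsgLib.Amalgam.pCoreOf_le L).trans hle) hKOL
      (CfsgLib.Amalgam.isPGroup_pCoreOf L)
    have hnZ : ∀ P : Subgroup H, K ≤ Subgroup.normalizer (P : Set H) → K ≤ Subgroup.normalizer (ZT P : Set H) := by
      intro P hP k hk
      apply CfsgLib.PLocal.mem_normalizer_map_conj.2
      show (Cfsg.omegaOne p _).map _ = _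
      rw [CfsgLib.PLocal.omegaOne_map_equiv, CfsgLib.Coprime.map_conj_of_mem_normalizer
        (CfsgLib.Amalgam.normalizes_inf hP (CfsgLib.Amalgam.le_normalizer_centralizer' hP) hk)]
    have hAK : A ≤ OK := (CfsgLib.PLocal.omegaOne_le p _).trans (inf_le_left.trans hOLK)
    have hBK : B ≤ OK := (CfsgLib.PLocal.omegaOne_le p _).trans inf_le_left
    have hAB : A ≤ Subgroup.centralizer (B : Set H) :=
      hAK.trans (Subgroup.le_centralizer_iff.1 ((CfsgLib.PLocal.omegaOne_le p _).trans inf_le_right))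
    set A' := A ⊔ B
    have hA'ea : Cfsg.IsElementaryAbelian p A' :=
      CfsgLib.PLocal.elemAb_sup (CfsgLib.PLocal.omegaCenter_elemAb _) (CfsgLib.PLocal.omegaCenter_elemAb _) hAB
    haveI := hA'ea.1
    have hKA' : K ≤ Subgroup.normalizer (A' : Set H) := CfsgLib.Comp.le_normalizer_sup
      (hnZ _ hKOL) (hnZ _ (CfsgLib.Amalgam.le_normalizer_pCoreOf K))
    have hA'L : A' ⊓ L ≤ OL := CfsgLib.Amalgam.le_pCoreOf inf_le_right
      (CfsgLib.Amalgam.normalizes_inf (hle.trans hKA') Subgroup.le_normalizer)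
      ((CfsgLib.PLocal.elemAb_isPGroup hA'ea).to_le inf_le_left)
    have hZL : ZT TL ≤ A' := (CfsgLib.Amalgam.omega_center_le_center_pCoreOf hL' hTL).trans le_sup_left
    have hZK : ZT TK ≤ A' := (CfsgLib.Amalgam.omega_center_le_center_pCoreOf hKc hTK).trans le_sup_right
    have hcen : ∀ P : Subgroup H, ZT P ≤ Subgroup.centralizer (P : Set H) := fun P =>
      (CfsgLib.PLocal.omegaOne_le p _).trans inf_le_right
    have hTLK : TL ≤ TK := inf_le_inf_left _ hle
    apply le_antisymm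
    · refine le_inf inf_le_left ?_
      set R := L ⊓ Subgroup.centralizer (ZT TK : Set H)
      rw [Subgroup.le_centralizer_iff]
      have hTLR : TL ≤ R := le_inf inf_le_right (hTLK.trans (Subgroup.le_centralizer_iff.1 (hcen TK)))
      have hR : CfsgLib.Amalgam.IsSylIn p R TL := hTL.mono hTLR inf_le_left
      set F := A' ⊓ Subgroup.centralizer (TL : Set H)
      obtain ⟨N, hN1, hN2, -, hN4⟩ := CfsgLib.Amalgam.exists_norm A' R TL (inf_le_left.trans (hle.trans hKA'))
      have hTKR : TK ≤ Subgroup.normalizer (R : Set H) :=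
        CfsgLib.Amalgam.normalizes_inf ((inf_le_right : TK ≤ K).trans hKL)
          ((Subgroup.le_centralizer_iff.1 (hcen TK)).trans ((Subgroup.centralizer_le_normalizer _).trans
            (CfsgLib.Comp.normalizer_le_normalizer_centralizer _)))
      have hTKT : TK ≤ Subgroup.normalizer (TL : Set H) :=
        hTKL ▸ CfsgLib.Amalgam.normalizes_inf Subgroup.le_normalizer ((inf_le_right : TK ≤ K).trans hKL)
      set k := TL.relIndex R
      have hk : ¬ p ∣ k := hR.relIndex_not_dvd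
      have hker : N.ker.map F.subtype = ⊥ := by
        by_contra hne
        set Kr := N.ker.map F.subtype
        have hKrA : Kr ≤ A' := (Subgroup.map_subtype_le _).trans inf_le_left
        have hn : TK ≤ Subgroup.normalizer (Kr : Set H) := by
          intro g hg
          apply CfsgLib.PLocal.mem_normalizer_map_conj.2
          refine Subgroup.eq_of_le_of_card_ge ?_ (CfsgLib.Coprime.card_map_conj g Kr).ge
          rintro _ ⟨_, ⟨z, hz, rfl⟩, rfl⟩
          have hgA : g ∈ Subgroup.normalizer (A' : Set H) := hKA' (Subgroup.mem_inf.1 hg).2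
          have hF : g * (z : H) * g⁻¹ ∈ F :=
            (Subgroup.mem_normalizer_iff.1 (CfsgLib.Amalgam.normalizes_inf ((inf_le_right : TK ≤ K).trans hKA')
              (CfsgLib.Amalgam.le_normalizer_centralizer' hTKT) hg) _).1 z.2
          refine ⟨⟨_, hF⟩, ?_, rfl⟩
          have h4 := hN4 g hgA (hTKR hg) (hTKT hg) z ⟨_, hF⟩ rfl
          have hz1 : N z = 1 := hz
          rw [hz1, mul_one, mul_inv_cancel] at h4
          exact h4.symm
        refine CfsgLib.Amalgam.inf_centralizer_ne_bot hTK.2.1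
          ((CfsgLib.PLocal.elemAb_isPGroup hA'ea).to_le hKrA) hne hn ((Subgroup.eq_bot_iff_forall _).2 ?_)
        intro w hw
        obtain ⟨⟨z, hz, rfl⟩, hwc⟩ := Subgroup.mem_inf.1 hw
        have hwA : (z : H) ∈ A' := (Subgroup.mem_inf.1 z.2).1
        have hwZ : (z : H) ∈ ZT TK := CfsgLib.Amalgam.mem_omega_center_iff.2
          ⟨hTK.pCoreOf_le ((sup_le hAK hBK : A' ≤ OK) hwA), hwc, hA'ea.2 _ hwA⟩
        have h2 := hN2 z fun r hr => ((Subgroup.mem_inf.1 hr).2 _ hwZ).symm
        have hz1 : N z = 1 := hz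
        rw [hz1] at h2
        exact Subgroup.mem_bot.1 (CfsgLib.Amalgam.mem_of_pow_mem (K := ⊥) (hA'ea.2 _ hwA) hk
          (Subgroup.mem_bot.2 h2.symm))
      intro z' hz'
      have hz'F : z' ∈ F := Subgroup.mem_inf.2 ⟨hZL hz', hcen TL hz'⟩
      refine CfsgLib.Amalgam.mem_of_pow_mem (hA'ea.2 _ (hZL hz')) hk ?_
      set zz : F := ⟨z', hz'F⟩
      obtain ⟨h1, h2⟩ := Subgroup.mem_inf.1 (hN1 zz)
      have hNF : N zz ∈ F := Subgroup.mem_inf.2 ⟨h1, Subgroup.centralizer_le hTLR h2⟩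
      have h3 := hN2 ⟨N zz, hNF⟩ h2
      have h4 : N (⟨N zz, hNF⟩ * (zz ^ k)⁻¹) = 1 := by rw [map_mul, h3, map_inv, map_pow, mul_inv_cancel]
      have h5 : (⟨N zz, hNF⟩ * (zz ^ k)⁻¹ : F) = 1 := Subtype.ext (Subgroup.mem_bot.1 (hker.le ⟨_, h4, rfl⟩))
      have h6 : N zz = z' ^ k := congrArg Subtype.val (mul_inv_eq_one.1 h5)
      exact h6 ▸ h2
    · refine le_inf inf_le_left ?_
      set R := L ⊓ Subgroup.centralizer (ZT TL : Set H)
      rw [Subgroup.le_centralizer_iff]
      have hTLR : TL ≤ R := le_inf inf_le_right (Subgroup.le_centralizer_iff.1 (hcen TL))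
      have hR : CfsgLib.Amalgam.IsSylIn p R TL := hTL.mono hTLR inf_le_left
      obtain ⟨N, hN1, -, hN3, -⟩ := CfsgLib.Amalgam.exists_norm A' R TL (inf_le_left.trans (hle.trans hKA'))
      intro z hz
      refine CfsgLib.Amalgam.mem_of_pow_mem (hA'ea.2 _ (hZK hz)) hR.relIndex_not_dvd ?_
      have hzc : z ∈ Subgroup.centralizer (TL : Set H) := Subgroup.centralizer_le hTLK (hcen TK hz)
      set zz : ↥(A' ⊓ Subgroup.centralizer (TL : Set H)) := ⟨z, Subgroup.mem_inf.2 ⟨hZK hz, hzc⟩⟩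
      set k := TL.relIndex R
      obtain ⟨h1, h2⟩ := Subgroup.mem_inf.1 (hN1 zz)
      have hzK : z ∈ K := (Subgroup.mem_inf.1 (Subgroup.mem_inf.1 (CfsgLib.PLocal.omegaOne_le p _ hz)).1).2
      have hm := hN3 zz (A' ⊓ L) inf_le_left fun r hr => by
        have hrL : r ∈ L := (Subgroup.mem_inf.1 hr).1
        refine Subgroup.mem_inf.2 ⟨?_, ?_⟩
        · rw [commutatorElement_def]
          exact mul_mem ((Subgroup.mem_normalizer_iff.1 (hKA' (hle hrL)) z).1 (hZK hz)) (inv_mem (hZK hz))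
        · rw [commutatorElement_def, show r * z * r⁻¹ * z⁻¹ = r * (z * r⁻¹ * z⁻¹) by group]
          exact mul_mem hrL ((Subgroup.mem_normalizer_iff.1 (hKL hzK) _).1 (inv_mem hrL))
      set m := N zz * (z ^ k)⁻¹
      have hmc : m ∈ Subgroup.centralizer (TL : Set H) :=
        mul_mem (Subgroup.centralizer_le hTLR h2) (inv_mem (pow_mem hzc k))
      have hmZ : m ∈ ZT TL := CfsgLib.Amalgam.mem_omega_center_iff.2
        ⟨hTL.pCoreOf_le (hA'L hm), hmc, hA'ea.2 _ (Subgroup.mem_inf.1 hm).1⟩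
      rw [show z ^ k = m⁻¹ * N zz by simp only [m]; group]
      exact mul_mem (inv_mem fun r hr => ((Subgroup.mem_inf.1 hr).2 m hmZ).symm) h2

end Cfsg.Agent.S2805
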