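import Cfsg.Statements.S2806
import Cfsg.Agent.Lib.Amalgam.SubnormalSylow
import Cfsg.Agent.Lib.Amalgam.Asymmetric
import Cfsg.Agent.S2805

set_option autoImplicit false
open Cfsg

namespace Cfsg.Agent.S2806

/-- Let H be a finite group of local characteristic p, T a Sylow p-subgroup, and L₁, L₂ subnormal subgroups of H generating the subgroup L. Then the point stabilizer of L with respect to T ∩ L is generated by the point stabilizers of L₁ and L₂ with respect to T ∩ L₁ and T ∩ L₂ (point stabilizer of X w.r.t. R: the subgroup generated by the p-elements of X centralizing Ω₁(Z(R))). -/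
theorem result {H : Type*} [Group H] [Finite H] {p : ℕ} [Fact p.Prime] (hH : Cfsg.IsOfLocalCharacteristic p H) (T : Sylow p H) (L₁ L₂ : Subgroup H) (h₁ : L₁.IsSubnormal) (h₂ : L₂.IsSubnormal) : Cfsg.pointStabilizer p (L₁ ⊔ L₂) ((T : Subgroup H) ⊓ (L₁ ⊔ L₂)) = Cfsg.pointStabilizer p L₁ ((T : Subgroup H) ⊓ L₁) ⊔ Cfsg.pointStabilizer p L₂ ((T : Subgroup H) ⊓ L₂) := by
  set C := Subgroup.centralizer (Cfsg.omegaOne p ((T : Subgroup H) ⊓ Subgroup.centralizer ((T : Subgroup H) : Set H)) : Set H)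
  have hne : ∀ P : Subgroup H, IsPGroup p P → P ≠ ⊥ →
      Cfsg.omegaOne p (P ⊓ Subgroup.centralizer (P : Set H)) ≠ ⊥ := by
    intro P hP hP1 hb
    set Z := P ⊓ Subgroup.centralizer (P : Set H)
    have hZ : Z ≠ ⊥ := CfsgLib.Amalgam.inf_centralizer_ne_bot hP hP hP1 Subgroup.le_normalizer
    obtain ⟨k, hk⟩ := (hP.to_le (inf_le_left : Z ≤ P)).exists_card_eq
    have hk0 : k ≠ 0 := fun h0 => hZ (Subgroup.card_eq_one.1 (by rw [hk, h0, pow_zero]))
    obtain ⟨z, hz⟩ := exists_prime_orderOf_dvd_card' p (hk ▸ dvd_pow_self p hk0)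
    have hmem : (z : H) ∈ Cfsg.omegaOne p Z := CfsgLib.Amalgam.mem_omega_center_iff.2
      ⟨(Subgroup.mem_inf.1 z.2).1, (Subgroup.mem_inf.1 z.2).2, by
        rw [← hz, ← Subgroup.orderOf_coe]; exact pow_orderOf_eq_one _⟩
    rw [hb, Subgroup.mem_bot] at hmem
    rw [← Subgroup.orderOf_coe, hmem, orderOf_one] at hz
    exact (Fact.out : p.Prime).one_lt.ne hz
  have hT1 : (T : Subgroup H) ≠ ⊥ := T.ne_bot_of_dvd_card hH.1
  have hzn : ∀ P : Subgroup H, P ≤ Subgroup.normalizer ((Cfsg.omegaOne p (P ⊓ Subgroup.centralizer (P : Set H)) : Subgroup H) : Set H) :=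
    fun P => (Subgroup.le_centralizer_iff.1 ((CfsgLib.PLocal.omegaOne_le p _).trans inf_le_right)).trans
      (Subgroup.centralizer_le_normalizer _)
  have kieler : ∀ L : Subgroup H, L.IsSubnormal → (T : Subgroup H) ⊓ L ≠ ⊥ →
      L ⊓ Subgroup.centralizer (Cfsg.omegaOne p (((T : Subgroup H) ⊓ L) ⊓ Subgroup.centralizer ((((T : Subgroup H) ⊓ L) : Subgroup H) : Set H)) : Set H) = L ⊓ C := by
    intro L hL hT0
    set T0 := (T : Subgroup H) ⊓ L with hT0def
    set Z0 := Cfsg.omegaOne p (T0 ⊓ Subgroup.centralizer (T0 : Set H))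
    set ZT := Cfsg.omegaOne p ((T : Subgroup H) ⊓ Subgroup.centralizer ((T : Subgroup H) : Set H))
    have hT0p : IsPGroup p T0 := T.isPGroup'.to_le inf_le_left
    have hZTT : ZT ≤ (T : Subgroup H) := (CfsgLib.PLocal.omegaOne_le p _).trans inf_le_left
    have hZ0T : Z0 ≤ T0 := (CfsgLib.PLocal.omegaOne_le p _).trans inf_le_left
    have hZTc : (T : Subgroup H) ≤ Subgroup.centralizer (ZT : Set H) :=
      Subgroup.le_centralizer_iff.1 ((CfsgLib.PLocal.omegaOne_le p _).trans inf_le_right)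
    apply le_antisymm
    · set Lp := ⨆ w : ZT, L.map (MulAut.conj (w : H)).toMonoidHom
      have hLLp : L ≤ Lp := le_iSup_of_le (1 : ZT) (by
        rw [show ((1 : ZT) : H) = 1 from rfl, CfsgLib.Amalgam.map_conj_one'])
      have hLpn : ZT ≤ Subgroup.normalizer (Lp : Set H) := by
        intro l hl
        apply CfsgLib.PLocal.mem_normalizer_map_conj.2
        refine Subgroup.eq_of_le_of_card_ge ?_ (CfsgLib.Coprime.card_map_conj l Lp).ge
        rw [Subgroup.map_iSup]
        refine iSup_le fun m => ?_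
        rw [CfsgLib.Coprime.map_conj_conj]
        exact le_iSup (fun m : ZT => L.map (MulAut.conj (m : H)).toMonoidHom) (⟨l, hl⟩ * m)
      have hLp : Lp.IsSubnormal ∧ Lp ⊓ (T : Subgroup H) ≤ T0 := by
        have key : ∀ s : Finset ZT, (s.sup fun w => L.map (MulAut.conj (w : H)).toMonoidHom).IsSubnormal ∧
            (s.sup fun w => L.map (MulAut.conj (w : H)).toMonoidHom) ⊓ (T : Subgroup H) ≤ T0 := by
          classical
          intro s
          induction s using Finset.induction_on with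
          | empty =>
            rw [Finset.sup_empty]
            exact ⟨Subgroup.IsSubnormal.bot, inf_le_left.trans bot_le⟩
          | insert w s _ ih =>
            rw [Finset.sup_insert]
            have hw := CfsgLib.Comp.isSubnormal_map_conj hL (w : H)
            refine ⟨CfsgLib.PLocal.isSubnormal_sup hw ih.1, ?_⟩
            rw [CfsgLib.Amalgam.inf_sylow_sup_eq T hw ih.1]
            refine sup_le ?_ ih.2
            rintro x ⟨⟨l, hl, rfl⟩, hxT⟩
            have hwT : (w : H) ∈ (T : Subgroup H) := hZTT w.2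
            have hlT : l ∈ (T : Subgroup H) := by
              have := mul_mem (mul_mem (inv_mem hwT) hxT) hwT
              simpa [mul_assoc] using this
            show (w : H) * l * (w : H)⁻¹ ∈ T0
            rw [hZTc hlT w w.2, mul_inv_cancel_right]
            exact Subgroup.mem_inf.2 ⟨hlT, hl⟩
        classical
        have := Fintype.ofFinite ZT
        have h := key Finset.univ
        rwa [Finset.sup_univ_eq_iSup] at h
      set N := Subgroup.normalizer (Z0 : Set H)
      have hN : CfsgLib.Amalgam.CharPElements p N :=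
        CfsgLib.Amalgam.charPElements_iff.2 (hH.2 Z0 (hT0p.to_le hZ0T) (hne T0 hT0p hT0))
      have hZTN : ZT ≤ N := (Subgroup.le_centralizer_iff.1 (((hZ0T.trans inf_le_left)).trans hZTc)).trans
        (Subgroup.centralizer_le_normalizer _)
      set L1 := Lp ⊓ N
      have hL1 : CfsgLib.Amalgam.CharPElements p L1 :=
        CfsgLib.Amalgam.charPElements_subnormal_subgroupOf hN inf_le_right (by
          rw [Subgroup.inf_subgroupOf_right]; exact hLp.1.subgroupOf)
      have hT0L1 : T0 ≤ L1 := le_inf (inf_le_right.trans hLLp) (hzn T0)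
      set J := L1 ⊔ ZT
      have hZL1 : ZT ≤ Subgroup.normalizer (L1 : Set H) :=
        (le_inf hLpn (hZTN.trans Subgroup.le_normalizer)).trans Subgroup.inf_normalizer_le_normalizer_inf
      have hJ : CfsgLib.Amalgam.CharPElements p J := by
        intro x hx hxp hxc
        refine hL1 x (CfsgLib.Amalgam.mem_of_coprime_sup hZL1 (T.isPGroup'.to_le hZTT) hx hxp) hxp
          (Subgroup.centralizer_le ?_ hxc)
        refine CfsgLib.Amalgam.le_pCoreOf ((CfsgLib.Amalgam.pCoreOf_le L1).trans le_sup_left) ?_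
          (CfsgLib.Amalgam.isPGroup_pCoreOf L1)
        intro k hk
        apply CfsgLib.Comp.map_conj_eq_iff.1
        rw [← CfsgLib.Amalgam.pCoreOf_map _ (MulAut.conj k).injective,
          CfsgLib.Comp.map_conj_eq_iff.2 ((sup_le Subgroup.le_normalizer hZL1) hk)]
      set P := T0 ⊔ ZT
      have hPT : P ≤ (T : Subgroup H) := sup_le inf_le_left hZTT
      have hPJ : P ≤ J := sup_le (hT0L1.trans le_sup_left) le_sup_right
      obtain ⟨S₁, hS₁, hPS⟩ := CfsgLib.Amalgam.exists_isSylIn_ge (T.isPGroup'.to_le hPT) hPJ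
      have hS₁P : S₁ = P := by
        refine le_antisymm ?_ hPS
        intro s hs
        obtain ⟨l, hl, z, hz, rfl⟩ := CfsgLib.Comp.exists_mul_of_mem_sup hZL1 (hS₁.1 hs)
        have hlS : l ∈ S₁ := by
          have := mul_mem hs (inv_mem (hPS (Subgroup.mem_sup_right hz)))
          rwa [mul_inv_cancel_right] at this
        have hLT : CfsgLib.Amalgam.IsSylIn p L1 T0 := by
          have h1 := CfsgLib.Amalgam.isSylIn_inf_sylow T hLp.1
          have h2 : Lp ⊓ (T : Subgroup H) = T0 := le_antisymm hLp.2 (le_inf (hT0L1.trans inf_le_left) inf_le_left)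
          rw [h2] at h1
          exact h1.mono hT0L1 inf_le_left
        have h3 := hLT.eq_of_le (Q := S₁ ⊓ L1) (le_inf (le_sup_left.trans hPS) hT0L1) inf_le_right
          (hS₁.2.1.to_le inf_le_left)
        exact mul_mem (Subgroup.mem_sup_left (h3.le (Subgroup.mem_inf.2 ⟨hlS, hl⟩))) (Subgroup.mem_sup_right hz)
      rw [hS₁P] at hS₁
      let P' : Sylow p J := Sylow.ofCard (P.subgroupOf J)
        (by rw [Nat.card_congr (Subgroup.subgroupOfEquivOfLe hPJ).toEquiv, hS₁.2.2])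
      have hL1n : (L1.subgroupOf J).Normal :=
        Subgroup.normal_subgroupOf_of_le_normalizer (sup_le Subgroup.le_normalizer hZL1)
      have hk := Cfsg.Agent.S2805.result (CfsgLib.Amalgam.charPElements_iff.1 hJ) P' (L1.subgroupOf J) hL1n.isSubnormal
      intro x hx
      obtain ⟨hxL, hxc⟩ := Subgroup.mem_inf.1 hx
      have hxN : x ∈ N := Subgroup.centralizer_le_normalizer _ hxc
      have hxJ : x ∈ J := Subgroup.mem_sup_left (Subgroup.mem_inf.2 ⟨hLLp hxL, hxN⟩)
      have hPT0 : (P.subgroupOf J ⊓ L1.subgroupOf J).map J.subtype ≤ T0 := by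
        rintro _ ⟨y, hy, rfl⟩
        exact hLp.2 (Subgroup.mem_inf.2 ⟨(Subgroup.mem_inf.1 (Subgroup.mem_inf.1 hy).2).1, hPT (Subgroup.mem_inf.1 hy).1⟩)
      have hmem : (⟨x, hxJ⟩ : J) ∈ L1.subgroupOf J ⊓ Subgroup.centralizer ((Cfsg.omegaOne p ((((P' : Subgroup J)) ⊓ L1.subgroupOf J) ⊓ Subgroup.centralizer (((((P' : Subgroup J)) ⊓ L1.subgroupOf J) : Subgroup J) : Set J))) : Set J) := by
        refine Subgroup.mem_inf.2 ⟨Subgroup.mem_inf.2 ⟨hLLp hxL, hxN⟩, ?_⟩
        intro z hz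
        obtain ⟨h1, h2, h3⟩ := CfsgLib.Amalgam.mem_omega_center_iff.1 hz
        refine Subtype.ext (hxc (z : H) (CfsgLib.Amalgam.mem_omega_center_iff.2
          ⟨hPT0 ⟨z, h1, rfl⟩, fun t ht => ?_, congrArg Subtype.val h3⟩))
        have htJ : t ∈ J := Subgroup.mem_sup_left (hT0L1 ht)
        exact congrArg Subtype.val (h2 ⟨t, htJ⟩ (Subgroup.mem_inf.2 ⟨Subgroup.mem_sup_left ht, hT0L1 ht⟩))
      rw [← hk] at hmem
      refine Subgroup.mem_inf.2 ⟨hxL, fun w hw => ?_⟩
      have hwJ : w ∈ J := Subgroup.mem_sup_right hw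
      refine congrArg Subtype.val ((Subgroup.mem_inf.1 hmem).2 ⟨w, hwJ⟩ (CfsgLib.Amalgam.mem_omega_center_iff.2
        ⟨Subgroup.mem_sup_right hw, fun q hq => Subtype.ext ?_, Subtype.ext
          ((CfsgLib.PLocal.omegaCenter_elemAb _).2 w hw)⟩))
      exact (hZTc (hPT hq) w hw).symm
    · set N := Subgroup.normalizer (ZT : Set H)
      have hTN : (T : Subgroup H) ≤ N := hzn _
      have hN := hH.2 ZT (T.isPGroup'.to_le hZTT) (hne _ T.isPGroup' hT1)
      let T' : Sylow p N := T.subtype hTN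
      have hk := Cfsg.Agent.S2805.result hN T' (L.subgroupOf N) hL.subgroupOf
      intro x hx
      obtain ⟨hxL, hxc⟩ := Subgroup.mem_inf.1 hx
      have hxN : x ∈ N := Subgroup.centralizer_le_normalizer _ hxc
      have hmem : (⟨x, hxN⟩ : N) ∈ L.subgroupOf N ⊓ Subgroup.centralizer ((Cfsg.omegaOne p ((T' : Subgroup N) ⊓ Subgroup.centralizer ((T' : Subgroup N) : Set N))) : Set N) := by
        refine Subgroup.mem_inf.2 ⟨hxL, fun z hz => ?_⟩
        obtain ⟨h1, h2, h3⟩ := CfsgLib.Amalgam.mem_omega_center_iff.1 hz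
        refine Subtype.ext (hxc (z : H) (CfsgLib.Amalgam.mem_omega_center_iff.2 ⟨h1, fun t ht => ?_, congrArg Subtype.val h3⟩))
        exact congrArg Subtype.val (h2 ⟨t, hTN ht⟩ ht)
      rw [hk] at hmem
      refine Subgroup.mem_inf.2 ⟨hxL, fun z hz => ?_⟩
      obtain ⟨h1, h2, h3⟩ := CfsgLib.Amalgam.mem_omega_center_iff.1 hz
      have hzN : z ∈ N := hTN (Subgroup.mem_inf.1 h1).1
      refine congrArg Subtype.val ((Subgroup.mem_inf.1 hmem).2 ⟨z, hzN⟩ (CfsgLib.Amalgam.mem_omega_center_iff.2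
        ⟨Subgroup.mem_inf.2 ⟨(Subgroup.mem_inf.1 h1).1, (Subgroup.mem_inf.1 h1).2⟩, fun t ht => Subtype.ext ?_, Subtype.ext h3⟩))
      exact h2 t (Subgroup.mem_inf.2 ⟨(Subgroup.mem_inf.1 ht).1, (Subgroup.mem_inf.1 ht).2⟩)
  have hPS : ∀ L : Subgroup H, L.IsSubnormal →
      Cfsg.pointStabilizer p L ((T : Subgroup H) ⊓ L) = Cfsg.pElementClosure p (L ⊓ C) := by
    intro L hL
    unfold Cfsg.pointStabilizer Cfsg.pElementClosure
    rcases eq_or_ne ((T : Subgroup H) ⊓ L) ⊥ with h0 | h0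
    · congr 1
      ext x
      have hx1 : ∀ k : ℕ, x ∈ L → orderOf x = p ^ k → x = 1 := by
        intro k hxL hxk
        have hzp : IsPGroup p (Subgroup.zpowers x) := IsPGroup.of_card (n := k) (by rw [Nat.card_zpowers, hxk])
        have h := (CfsgLib.Amalgam.isSylIn_inf_sylow T hL).eq_of_le (Q := Subgroup.zpowers x)
          (by rw [inf_comm, h0]; exact bot_le) (Subgroup.zpowers_le.2 hxL) hzp
        rw [inf_comm, h0, Subgroup.zpowers_eq_bot] at h
        exact h
      constructor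
      · rintro ⟨hx, k, hk⟩
        obtain rfl := hx1 k (Subgroup.mem_inf.1 hx).1 hk
        exact ⟨one_mem _, k, hk⟩
      · rintro ⟨hx, k, hk⟩
        obtain rfl := hx1 k (Subgroup.mem_inf.1 hx).1 hk
        exact ⟨one_mem _, k, hk⟩
    · rw [kieler L hL h0]
  set L := L₁ ⊔ L₂
  have hL : L.IsSubnormal := CfsgLib.PLocal.isSubnormal_sup h₁ h₂
  rw [hPS L hL, hPS L₁ h₁, hPS L₂ h₂]
  set X := Cfsg.pElementClosure p (L₁ ⊓ C) ⊔ Cfsg.pElementClosure p (L₂ ⊓ C)
  refine le_antisymm ?_ (sup_le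
    (Subgroup.closure_mono fun x hx => ⟨inf_le_inf_right C le_sup_left hx.1, hx.2⟩)
    (Subgroup.closure_mono fun x hx => ⟨inf_le_inf_right C le_sup_right hx.1, hx.2⟩))
  set K := L ⊓ C
  have hle : ∀ A : Subgroup H, Cfsg.pElementClosure p A ≤ A := fun A => (Subgroup.closure_le _).2 fun x hx => hx.1
  have hTC : (T : Subgroup H) ≤ C :=
    Subgroup.le_centralizer_iff.1 ((CfsgLib.PLocal.omegaOne_le p _).trans inf_le_right)
  have hsub : ∀ A : Subgroup H, A.IsSubnormal → A ≤ L → ((Cfsg.pElementClosure p (A ⊓ C)).subgroupOf K).IsSubnormal := by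
    intro A hA hAL
    have h1 : ((A ⊓ C).subgroupOf K).IsSubnormal := by
      have : (A ⊓ C).subgroupOf K = A.subgroupOf K := by
        ext x
        exact ⟨fun hx => (Subgroup.mem_inf.1 hx).1, fun hx => Subgroup.mem_inf.2 ⟨hx, (Subgroup.mem_inf.1 x.2).2⟩⟩
      rw [this]; exact hA.subgroupOf
    refine CfsgLib.Comp.isSubnormal_of_le_normalizer (Subgroup.comap_mono (hle _)) h1 ?_
    intro x hx
    apply CfsgLib.PLocal.mem_normalizer_map_conj.2
    refine Subgroup.eq_of_le_of_card_ge ?_ (CfsgLib.Coprime.card_map_conj x _).ge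
    rintro _ ⟨y, hy, rfl⟩
    have h2 : (Cfsg.pElementClosure p (A ⊓ C)).map (MulAut.conj (x : H)).toMonoidHom ≤ Cfsg.pElementClosure p (A ⊓ C) := by
      unfold Cfsg.pElementClosure
      rw [MonoidHom.map_closure]
      refine Subgroup.closure_mono ?_
      rintro _ ⟨z, ⟨hz, k, hk⟩, rfl⟩
      exact ⟨mul_mem (mul_mem hx hz) (inv_mem hx), k, by
        rw [orderOf_injective _ (MulAut.conj (x : H)).injective, hk]⟩
    exact Subgroup.mem_subgroupOf.2 (h2 ⟨y, hy, rfl⟩)
  have hX : (X.subgroupOf K).IsSubnormal := by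
    rw [Subgroup.subgroupOf_sup ((hle _).trans (inf_le_inf_right C le_sup_left))
      ((hle _).trans (inf_le_inf_right C le_sup_right))]
    exact CfsgLib.PLocal.isSubnormal_sup (hsub L₁ h₁ le_sup_left) (hsub L₂ h₂ le_sup_right)
  have hS := CfsgLib.Amalgam.isSylIn_inf_sylow T hL
  have hSK : CfsgLib.Amalgam.IsSylIn p K (L ⊓ (T : Subgroup H)) :=
    hS.mono (le_inf inf_le_left (inf_le_right.trans hTC)) inf_le_left
  let S' : Sylow p K := Sylow.ofCard ((L ⊓ (T : Subgroup H)).subgroupOf K)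
    (by rw [Nat.card_congr (Subgroup.subgroupOfEquivOfLe hSK.1).toEquiv, hSK.2.2])
  have hTX : ∀ A : Subgroup H, A ⊓ (T : Subgroup H) ≤ Cfsg.pElementClosure p (A ⊓ C) := by
    intro A x hx
    obtain ⟨k, hk⟩ := (IsPGroup.iff_orderOf.1 T.isPGroup') ⟨x, (Subgroup.mem_inf.1 hx).2⟩
    exact Subgroup.subset_closure ⟨Subgroup.mem_inf.2 ⟨(Subgroup.mem_inf.1 hx).1, hTC (Subgroup.mem_inf.1 hx).2⟩,
      k, by rw [← hk, Subgroup.orderOf_mk]⟩
  have hSX : (S' : Subgroup K) ≤ X.subgroupOf K := by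
    refine Subgroup.comap_mono ?_
    rw [CfsgLib.Amalgam.inf_sylow_sup_eq T h₁ h₂]
    exact sup_le_sup (hTX L₁) (hTX L₂)
  refine (Subgroup.closure_le _).2 ?_
  rintro x ⟨hxK, k, hk⟩
  have hzp : IsPGroup p (Subgroup.zpowers (⟨x, hxK⟩ : K)) :=
    IsPGroup.of_card (n := k) (by rw [Nat.card_zpowers, Subgroup.orderOf_mk, hk])
  exact CfsgLib.Amalgam.le_of_subnormal_of_sylow_le hX S' hSX hzp (Subgroup.mem_zpowers _)

end Cfsg.Agent.S2806
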