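import Cfsg.Statements.S2809
import Cfsg.Agent.Lib.Amalgam.CharP

set_option autoImplicit false
open Cfsg

namespace Cfsg.Agent.S2809

/-- Let H be a finite group, p a prime, R a p-subgroup of H with C_H(R) ≤ R, and L a subgroup of N_H(R) acting nilpotently on R (some iterated commutator [R, L, …, L] is trivial). Then L is a p-group. -/
theorem result {H : Type*} [Group H] [Finite H] {p : ℕ} [Fact p.Prime] (R : Subgroup H) (hR : IsPGroup p ↥R) (hC : Subgroup.centralizer (R : Set H) ≤ R) (L : Subgroup H) (hL : L ≤ Subgroup.normalizer (R : Set H)) (hnil : ∃ n : ℕ, Cfsg.iterCommutator R L n = ⊥) : IsPGroup p ↥L := by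
  obtain ⟨n, hn⟩ := hnil
  refine CfsgLib.PLocal.isPGroup_of_forall_coprime fun x hx hxp => ?_
  refine CfsgLib.Amalgam.eq_one_of_coprime_of_mem hR hxp (hC ?_)
  have hle : Subgroup.zpowers x ≤ L := Subgroup.zpowers_le.2 hx
  have hmono : ∀ i, Cfsg.iterCommutator R (Subgroup.zpowers x) i ≤ Cfsg.iterCommutator R L i := by
    intro i
    induction i with
    | zero => exact le_rfl
    | succ i ih => exact Subgroup.commutator_mono ih hle
  have h1 := CfsgLib.Amalgam.commutator_eq_bot_of_iterCommutator (hle.trans hL)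
    (CfsgLib.Amalgam.coprime_card_zpowers hR hxp)
    (Or.inl (Group.isSolvable_of_comm fun a b => mul_comm' a b)) (le_bot_iff.1 (hn ▸ hmono n))
  rw [Subgroup.commutator_comm, Subgroup.commutator_eq_bot_iff_le_centralizer] at h1
  exact h1 (Subgroup.mem_zpowers x)

end Cfsg.Agent.S2809
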