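import Cfsg.Statements.S2812
import Cfsg.Agent.Lib.Amalgam.FStarCommutator

set_option autoImplicit false
open Cfsg

namespace Cfsg.Agent.S2812

open Subgroup

theorem splitting {G : Type*} [Group G] [Finite G] {p : ℕ} [Fact p.Prime] {Y L R : Subgroup G}
    (hY : IsPGroup p Y) (hYL : Y ≤ normalizer (L : Set G)) (hRL : R ≤ L)
    [Group.IsNilpotent R] (hYR : Y ≤ normalizer (R : Set G)) (hcop : (Nat.card R).Coprime p)
    (𝒦 : Set (Subgroup G)) (hgen : L ≤ R ⊔ sSup 𝒦)
    (hK : ∀ K ∈ 𝒦, K ≤ L ∧ Cfsg.IsQuasisimple K ∧ K ≤ centralizer (R : Set G) ∧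
      (∀ y ∈ Y, K.map (MulAut.conj y).toMonoidHom ∈ 𝒦) ∧
      ∀ K' ∈ 𝒦, K' ≠ K → K' ≤ centralizer (K : Set G)) :
    ⁅L, Y⁆ ⊔ (L ⊓ centralizer (Y : Set G)) = L ∧ ⁅L, Y⁆ = ⁅⁅L, Y⁆, Y⁆ := by
  set A := sSup {K ∈ 𝒦 | ¬ Y ≤ centralizer (K : Set G)} with hA
  have hdisj : ∀ K ∈ 𝒦, ∀ y ∈ Y, K.map (MulAut.conj y).toMonoidHom ≠ K →
      K.map (MulAut.conj y).toMonoidHom ≤ centralizer (K : Set G) := fun K hKm y hy hne =>
    (hK K hKm).2.2.2.2 _ ((hK K hKm).2.2.2.1 y hy) hne
  have hAL : A ≤ L := sSup_le fun K hKm => (hK K hKm.1).1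
  have hAc : A ≤ ⁅L, Y⁆ := sSup_le fun K hKm =>
    CfsgLib.Amalgam.quasisimple_le_commutator (hK K hKm.1).2.1 (hK K hKm.1).1 hKm.2 (hdisj K hKm.1)
  have hAA : A ≤ ⁅A, Y⁆ := sSup_le fun K hKm =>
    CfsgLib.Amalgam.quasisimple_le_commutator (hK K hKm.1).2.1
      (le_sSup (s := {K ∈ 𝒦 | ¬ Y ≤ centralizer (K : Set G)}) hKm) hKm.2 (hdisj K hKm.1)
  have hcop' : (Nat.card Y).Coprime (Nat.card R) := by
    obtain ⟨k, hk⟩ := hY.exists_card_eq
    rw [hk]; exact (hcop.pow_right k).symm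
  have hRR : ⁅R, Y⁆ ≤ ⁅L, Y⁆ := commutator_mono hRL le_rfl
  refine ⟨le_antisymm (sup_le (le_normalizer_iff_commutator_le_left.1 hYL) inf_le_left) (hgen.trans (sup_le ?_ (sSup_le ?_))), ?_⟩
  · conv_lhs => rw [← CfsgLib.Coprime.commutator_sup_centralizer hYR hcop' (Or.inr inferInstance)]
    exact sup_le_sup hRR (inf_le_inf_right _ hRL)
  · intro K hKm
    by_cases hc : Y ≤ centralizer (K : Set G)
    · exact le_sup_of_le_right (le_inf (hK K hKm).1 (CfsgLib.Comp.le_centralizer_symm hc))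
    · exact le_sup_of_le_left ((le_sSup (s := {K ∈ 𝒦 | ¬ Y ≤ centralizer (K : Set G)}) ⟨hKm, hc⟩).trans hAc)
  · refine le_antisymm ?_ (commutator_mono (le_normalizer_iff_commutator_le_left.1 hYL) le_rfl)
    have hT : ⁅R, Y⁆ ⊔ A ≤ ⁅⁅L, Y⁆, Y⁆ := by
      refine sup_le ?_ (hAA.trans (commutator_mono hAc le_rfl))
      rw [← CfsgLib.Coprime.commutator_commutator_eq hYR hcop' (Or.inr inferInstance)]
      exact commutator_mono hRR le_rfl
    refine le_trans ?_ hT
    refine (commutator_mono hgen le_rfl).trans ?_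
    have hKA : ∀ K ∈ 𝒦, K ≤ normalizer (A : Set G) := by
      intro K hKm
      refine CfsgLib.Comp.le_normalizer_sSup _ fun a ha K' hK' => ?_
      have : K'.map (MulAut.conj a).toMonoidHom = K' := by
        by_cases he : K = K'
        · subst he; exact CfsgLib.Comp.map_conj_eq_iff.2 (Subgroup.le_normalizer ha)
        · exact CfsgLib.Comp.map_conj_eq_iff.2
            (CfsgLib.Comp.centralizer_le_normalizer K' ((hK K' hK'.1).2.2.2.2 K hKm he ha))
      rw [this]; exact hK'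
    have hRA : R ≤ normalizer (A : Set G) := by
      refine CfsgLib.Comp.le_normalizer_sSup _ fun a ha K' hK' => ?_
      rw [CfsgLib.Comp.map_conj_eq_iff.2 (CfsgLib.Comp.centralizer_le_normalizer K'
        (CfsgLib.Comp.le_centralizer_symm (hK K' hK'.1).2.2.1 ha))]
      exact hK'
    have hKR : ∀ K ∈ 𝒦, K ≤ normalizer ((⁅R, Y⁆ : Subgroup G) : Set G) := fun K hKm =>
      ((hK K hKm).2.2.1.trans (centralizer_le (le_normalizer_iff_commutator_le_left.1 hYR))).trans
        (CfsgLib.Comp.centralizer_le_normalizer _)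
    refine CfsgLib.Amalgam.commutator_sup_left_le (CfsgLib.Comp.le_normalizer_sup (normalizer_commutator_ge_left R Y) hRA)
      (sSup_le fun K hKm => CfsgLib.Comp.le_normalizer_sup (hKR K hKm) (hKA K hKm)) le_sup_left ?_
    refine CfsgLib.Amalgam.commutator_sSup_left_le fun K hKm =>
      ⟨CfsgLib.Comp.le_normalizer_sup (hKR K hKm) (hKA K hKm), ?_⟩
    by_cases hc : Y ≤ centralizer (K : Set G)
    · rw [commutator_eq_bot_iff_le_centralizer.2 (CfsgLib.Comp.le_centralizer_symm hc)]; exact bot_le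
    refine le_trans (commutator_le.2 fun a ha y hy => ?_) (le_sup_right : A ≤ _)
    have hKA' : K ≤ A := le_sSup (s := {K ∈ 𝒦 | ¬ Y ≤ centralizer (K : Set G)}) ⟨hKm, hc⟩
    have hyA : y * a⁻¹ * y⁻¹ ∈ A := by
      by_cases hc' : Y ≤ centralizer ((K.map (MulAut.conj y).toMonoidHom : Subgroup G) : Set G)
      · have e : y * (y * a⁻¹ * y⁻¹) = (y * a⁻¹ * y⁻¹) * y := (hc' hy _ ⟨a⁻¹, inv_mem ha, rfl⟩).symm
        have e2 : y * a⁻¹ * y⁻¹ = a⁻¹ := by
          have h3 : y * (y * a⁻¹ * y⁻¹) = y * a⁻¹ := by rw [e, inv_mul_cancel_right]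
          exact mul_left_cancel h3
        rw [e2]; exact hKA' (inv_mem ha)
      · exact le_sSup (s := {K ∈ 𝒦 | ¬ Y ≤ centralizer (K : Set G)}) ⟨(hK K hKm).2.2.2.1 y hy, hc'⟩ ⟨a⁻¹, inv_mem ha, rfl⟩
    show a * y * a⁻¹ * y⁻¹ ∈ A
    simpa [mul_assoc] using mul_mem (hKA' ha) hyA

/-- Let H be a subgroup of the finite group G with O_p(H) = 1, Y a p-subgroup of G normalizing H, and L a subgroup of the generalized Fitting subgroup F*(H) that is subnormal in H and normalized by Y. Then L = [L, Y]·C_L(Y) and [L, Y] = [L, Y, Y]. -/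
theorem result {G : Type*} [Group G] [Finite G] {p : ℕ} [Fact p.Prime] (H : Subgroup G) (hO : Cfsg.pCore p ↥H = ⊥) (Y : Subgroup G) (hY : IsPGroup p ↥Y) (hYH : Y ≤ Subgroup.normalizer (H : Set G)) (L : Subgroup G) (hLF : L ≤ (Cfsg.generalizedFittingSubgroup ↥H).map H.subtype) (hLsn : (L.subgroupOf H).IsSubnormal) (hYL : Y ≤ Subgroup.normalizer (L : Set G)) : ⁅L, Y⁆ ⊔ (L ⊓ Subgroup.centralizer (Y : Set G)) = L ∧ ⁅L, Y⁆ = ⁅⁅L, Y⁆, Y⁆ := by
  set Fn := (Cfsg.fittingSubgroup H).map H.subtype with hFn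
  have hLH : L ≤ H := hLF.trans (Subgroup.map_subtype_le _)
  haveI := CfsgLib.Comp.fittingSubgroup_normal H
  haveI := CfsgLib.Comp.isNilpotent_fittingSubgroup H
  set R₀ := Cfsg.fittingSubgroup H ⊓ L.subgroupOf H with hR₀
  haveI : Group.IsNilpotent R₀ := by
    haveI : Group.IsNilpotent (R₀.subgroupOf (Cfsg.fittingSubgroup H)) := inferInstance
    exact Group.nilpotent_of_surjective (Subgroup.subgroupOfEquivOfLe (inf_le_left : R₀ ≤ Cfsg.fittingSubgroup H)).toMonoidHom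
      (Subgroup.subgroupOfEquivOfLe (inf_le_left : R₀ ≤ Cfsg.fittingSubgroup H)).surjective
  haveI : Group.IsNilpotent (R₀.map H.subtype) := Group.nilpotent_of_surjective
    (R₀.equivMapOfInjective _ H.subtype_injective).toMonoidHom (R₀.equivMapOfInjective _ H.subtype_injective).surjective
  have hmapH : ∀ y ∈ Y, ∀ x : H, (y : G) * x * y⁻¹ ∈ H := fun y hy x =>
    (Subgroup.mem_normalizer_iff.1 (hYH hy) x).1 x.2
  refine splitting hY hYL (R := R₀.map H.subtype) ?_ ?_ ?_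
    ((fun K : Subgroup H => K.map H.subtype) '' {K | Cfsg.IsComponent K ∧ K ≤ L.subgroupOf H}) ?_ ?_
  · rintro _ ⟨r, hr, rfl⟩; exact (Subgroup.mem_inf.1 hr).2
  · have h1 : Y ≤ Subgroup.normalizer (Fn : Set G) := by
      intro y hy
      let e : H ≃* H :=
        { toFun := fun x => ⟨y * x * y⁻¹, hmapH y hy x⟩
          invFun := fun x => ⟨y⁻¹ * x * y⁻¹⁻¹, hmapH y⁻¹ (inv_mem hy) x⟩
          left_inv := fun x => Subtype.ext (by simp [mul_assoc])
          right_inv := fun x => Subtype.ext (by simp [mul_assoc])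
          map_mul' := fun a b => Subtype.ext (by simp [mul_assoc]) }
      refine CfsgLib.Comp.map_conj_eq_iff.1 ?_
      rw [hFn, Subgroup.map_map, show (MulAut.conj y).toMonoidHom.comp H.subtype = H.subtype.comp e.toMonoidHom from
        MonoidHom.ext fun x => rfl, ← Subgroup.map_map]
      congr 1
      haveI : (Cfsg.fittingSubgroup H).map e.toMonoidHom |>.Normal :=
        (CfsgLib.Comp.fittingSubgroup_normal H).map _ e.surjective
      haveI : Group.IsNilpotent ((Cfsg.fittingSubgroup H).map e.toMonoidHom) := Group.nilpotent_of_surjective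
        ((Cfsg.fittingSubgroup H).equivMapOfInjective e.toMonoidHom e.injective).toMonoidHom
        ((Cfsg.fittingSubgroup H).equivMapOfInjective e.toMonoidHom e.injective).surjective
      exact Subgroup.eq_of_le_of_card_ge
        (CfsgLib.Comp.le_fittingSubgroup_of_isSubnormal (Subgroup.Normal.isSubnormal inferInstance) inferInstance)
        (by rw [Subgroup.card_map_of_injective (f := e.toMonoidHom) e.injective])
    have h2 : R₀.map H.subtype = Fn ⊓ L := by
      rw [hR₀, Subgroup.map_inf _ _ _ H.subtype_injective, Subgroup.subgroupOf_map_subtype, inf_eq_left.2 hLH]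
    rw [h2]
    exact CfsgLib.Comp.le_normalizer_inf h1 hYL
  · rw [Subgroup.card_map_of_injective H.subtype_injective]
    exact Nat.Coprime.coprime_dvd_left (Subgroup.card_dvd_of_le inf_le_left) (CfsgLib.Amalgam.coprime_card_fittingSubgroup hO)
  · have h1 : L.subgroupOf H ≤ Cfsg.generalizedFittingSubgroup H := fun x hx =>
      (Subgroup.mem_map_iff_mem H.subtype_injective).1 (hLF (Subgroup.mem_subgroupOf.1 hx))
    have h2 := Subgroup.map_mono (f := H.subtype) (CfsgLib.Comp.le_fitting_inf_sup_components hLsn h1)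
    rw [Subgroup.subgroupOf_map_subtype, inf_eq_left.2 hLH, Subgroup.map_sup, sSup_eq_iSup, Subgroup.map_iSup] at h2
    refine h2.trans (sup_le_sup le_rfl (iSup_le fun K => ?_))
    rw [Subgroup.map_iSup]
    exact iSup_le fun hK => le_sSup ⟨K, hK, rfl⟩
  · rintro _ ⟨K, ⟨hKc, hKL⟩, rfl⟩
    refine ⟨?_, CfsgLib.Comp.isQuasisimple_congr (K.equivMapOfInjective _ H.subtype_injective) hKc.2, ?_, ?_, ?_⟩
    · rintro _ ⟨k, hk, rfl⟩; exact hKL hk
    · rintro _ ⟨k, hk, rfl⟩ _ ⟨r, hr, rfl⟩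
      exact congrArg Subtype.val ((CfsgLib.Comp.le_layer hKc |>.trans (CfsgLib.Comp.layer_le_centralizer_fittingSubgroup H)) hk r (Subgroup.mem_inf.1 hr).1)
    · intro y hy
      let e : H ≃* H :=
        { toFun := fun x => ⟨y * x * y⁻¹, hmapH y hy x⟩
          invFun := fun x => ⟨y⁻¹ * x * y⁻¹⁻¹, hmapH y⁻¹ (inv_mem hy) x⟩
          left_inv := fun x => Subtype.ext (by simp [mul_assoc])
          right_inv := fun x => Subtype.ext (by simp [mul_assoc])
          map_mul' := fun a b => Subtype.ext (by simp [mul_assoc]) }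
      refine ⟨K.map e.toMonoidHom, ⟨CfsgLib.Comp.isComponent_map_mulEquiv e hKc, ?_⟩, ?_⟩
      · rintro _ ⟨k, hk, rfl⟩
        exact (Subgroup.mem_normalizer_iff.1 (hYL hy) _).1 (hKL hk)
      · show (K.map e.toMonoidHom).map H.subtype = (K.map H.subtype).map (MulAut.conj y).toMonoidHom
        rw [Subgroup.map_map, Subgroup.map_map]
        rfl
    · rintro _ ⟨K', ⟨hK'c, -⟩, rfl⟩ hne
      rcases CfsgLib.Comp.component_eq_or_le_centralizer hK'c hKc with h | h
      · exact absurd (by rw [h]) hne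
      · rintro _ ⟨k', hk', rfl⟩ _ ⟨k, hk, rfl⟩
        exact congrArg Subtype.val (h hk' k hk)

end Cfsg.Agent.S2812
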