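import Cfsg.Statements.S2813
import Cfsg.Agent.Lib.Amalgam.CharP

set_option autoImplicit false
open Cfsg

namespace Cfsg.Agent.S2813

/-- Let K be a subgroup of the finite group H with O_p(K) = 1 and Y a p-subgroup of N_H(K) with [K, Y, Y] = 1. Then [K, Y] = 1. -/
theorem result {H : Type*} [Group H] [Finite H] {p : ℕ} [Fact p.Prime] (K : Subgroup H) (hO : Cfsg.pCore p ↥K = ⊥) (Y : Subgroup H) (hY : IsPGroup p ↥Y) (hYK : Y ≤ Subgroup.normalizer (K : Set H)) (hq : ⁅⁅K, Y⁆, Y⁆ = ⊥) : ⁅K, Y⁆ = ⊥ := by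
  have h := CfsgLib.Amalgam.commutator_le_pCoreOf hY hYK hq
  rw [Cfsg.pCoreOf, hO, Subgroup.map_bot] at h
  exact le_bot_iff.1 h

end Cfsg.Agent.S2813
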