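import Cfsg.Statements.S2814
import Cfsg.Agent.Lib.Transfer.Basic
import Cfsg.Agent.Lib.Comp.Subnormal
import Cfsg.Agent.Lib.Comp.Normalize
import Mathlib.GroupTheory.Nilpotent

set_option autoImplicit false
open Cfsg

namespace Cfsg.Agent.S2814

open Subgroup

theorem isSubnormal_sInf {H : Type*} [Group H] [Finite H] (S : Set (Subgroup H))
    (hS : ∀ K ∈ S, K.IsSubnormal) : (sInf S).IsSubnormal := by
  haveI := Fintype.ofFinite (Subgroup H)
  have key : ∀ T : Finset (Subgroup H), (∀ K ∈ T, K.IsSubnormal) → (T.inf id).IsSubnormal := by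
    intro T
    exact fun h => Finset.inf_induction (p := Subgroup.IsSubnormal) IsSubnormal.top
      (fun a ha b hb => ha.inf hb) (fun K hK => h K hK)
  have e : sInf S = (Set.toFinite S).toFinset.inf id := by
    rw [Finset.inf_id_eq_sInf, Set.Finite.coe_toFinset]
  rw [e]
  exact key _ fun K hK => hS K ((Set.toFinite S).mem_toFinset.1 hK)

theorem isSubnormal_of_isNilpotent {G : Type*} [Group G] [Finite G] [Group.IsNilpotent G] (K : Subgroup G) :
    K.IsSubnormal := by
  induction K using WellFoundedGT.induction with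
  | ind K ih =>
    by_cases h : K = ⊤
    · subst h; exact IsSubnormal.top
    · have hlt := Group.normalizerCondition_of_isNilpotent K (lt_top_iff_ne_top.2 h)
      exact IsSubnormal.step K _ hlt.le (ih _ hlt)
        ((normal_subgroupOf_iff_le_normalizer hlt.le).2 le_rfl)

/-- Let A be a subgroup of the finite group H and K the subnormal closure of A (intersection of the subnormal subgroups containing A). Then K is the normal closure of A inside K and N_H(A) ≤ N_H(K); K = A·O^p(K), O^p(K) being generated by the elements of K of order prime to p; and if A is a p-group, O^p(K) = [O^p(K), A]. -/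
theorem result {H : Type*} [Group H] [Finite H] {p : ℕ} [Fact p.Prime] (A : Subgroup H) (K : Subgroup H) (hK : K = Cfsg.subnormalClosure A) : (Subgroup.normalClosure ((A.subgroupOf K : Subgroup ↥K) : Set ↥K)).map K.subtype = K ∧ Subgroup.normalizer (A : Set H) ≤ Subgroup.normalizer (K : Set H) ∧ A ⊔ (Cfsg.pResidual p ↥K).map K.subtype = K ∧ (IsPGroup p ↥A → ⁅(Cfsg.pResidual p ↥K).map K.subtype, A⁆ = (Cfsg.pResidual p ↥K).map K.subtype) := by
  subst hK
  set K := Cfsg.subnormalClosure A with hK
  have hKsn : K.IsSubnormal := isSubnormal_sInf _ fun J hJ => hJ.2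
  have hAK : A ≤ K := le_sInf fun J hJ => hJ.1
  have hmin : ∀ J : Subgroup H, A ≤ J → J.IsSubnormal → K ≤ J := fun J h1 h2 => sInf_le ⟨h1, h2⟩
  have hmin' : ∀ N : Subgroup K, A.subgroupOf K ≤ N → N.IsSubnormal → N = ⊤ := by
    intro N hN hNsn
    have h1 := hmin (N.map K.subtype) (fun a ha => ⟨⟨a, hAK ha⟩, hN ha, rfl⟩) (hNsn.trans' hKsn)
    refine eq_top_iff.2 fun x _ => ?_
    exact (Subgroup.mem_map_iff_mem K.subtype_injective).1 (h1 x.2)
  haveI hRn := CfsgLib.Transfer.pResidual_normal (G := K) (p := p)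
  set R := Cfsg.pResidual p K with hR
  have hAR : A.subgroupOf K ⊔ R = ⊤ := by
    haveI : IsPGroup p (K ⧸ R) → Group.IsNilpotent (K ⧸ R) := fun h => h.isNilpotent
    haveI hnil : Group.IsNilpotent (K ⧸ R) :=
      (CfsgLib.Transfer.isPGroup_quotient_of_pResidual_le (p := p) (N := R) le_rfl).isNilpotent
    refine hmin' _ le_sup_left ?_
    rw [← QuotientGroup.ker_mk' R, ← Subgroup.comap_map_eq]
    exact (isSubnormal_of_isNilpotent ((A.subgroupOf K).map (QuotientGroup.mk' R))).comap _
  refine ⟨?_, ?_, ?_, ?_⟩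
  · rw [hmin' _ Subgroup.le_normalClosure (Subgroup.normalClosure_normal.isSubnormal), ← MonoidHom.range_eq_map,
      K.range_subtype]
  · intro g hg
    refine CfsgLib.Comp.map_conj_eq_iff.1 ?_
    have key : ∀ g, g ∈ Subgroup.normalizer (A : Set H) → K ≤ K.map (MulAut.conj g).toMonoidHom := by
      intro g hg
      refine hmin _ ?_ (CfsgLib.Comp.isSubnormal_map_conj hKsn g)
      conv_lhs => rw [← CfsgLib.Comp.map_conj_eq_iff.2 hg]
      exact Subgroup.map_mono hAK
    refine le_antisymm ?_ (key g hg)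
    have h2 := Subgroup.map_mono (f := (MulAut.conj g).toMonoidHom) (key g⁻¹ (inv_mem hg))
    rwa [← CfsgLib.Comp.map_conj_mul, mul_inv_cancel, CfsgLib.Comp.map_conj_one] at h2
  · have := congrArg (Subgroup.map K.subtype) hAR
    rwa [Subgroup.map_sup, Subgroup.subgroupOf_map_subtype, inf_eq_left.2 hAK, ← MonoidHom.range_eq_map,
      K.range_subtype] at this
  · intro hA
    set A' := A.subgroupOf K with hA'
    set D := ⁅R, A'⁆ with hD
    have hDR : D ≤ R := Subgroup.commutator_le_left R A'
    have hRD : R ≤ Subgroup.normalizer (D : Set K) := Subgroup.normalizer_commutator_ge_left R A'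
    have hAD : A' ≤ Subgroup.normalizer (D : Set K) := Subgroup.normalizer_commutator_ge_right R A'
    haveI hDn : D.Normal := by
      rw [← Subgroup.normalizer_eq_top_iff, eq_top_iff, ← hAR]
      exact sup_le hAD hRD
    have htop : A' ⊔ D = ⊤ := by
      refine hmin' _ le_sup_left (Subgroup.Normal.isSubnormal ?_)
      rw [← Subgroup.normalizer_eq_top_iff, eq_top_iff, ← hAR]
      refine sup_le (le_sup_left.trans Subgroup.le_normalizer) ?_
      have h1 : ∀ r ∈ R, ∀ x ∈ A' ⊔ D, r * x * r⁻¹ ∈ A' ⊔ D := by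
        intro r hr
        have : A' ⊔ D ≤ (A' ⊔ D).comap (MulAut.conj r).toMonoidHom := by
          refine sup_le (fun a ha => ?_) fun d hd => Subgroup.mem_sup_right ((Subgroup.mem_normalizer_iff.1 (hRD hr) d).1 hd)
          show r * a * r⁻¹ ∈ A' ⊔ D
          rw [show r * a * r⁻¹ = (r * a * r⁻¹ * a⁻¹) * a by group]
          exact mul_mem (Subgroup.mem_sup_right (Subgroup.commutator_mem_commutator hr ha)) (Subgroup.mem_sup_left ha)
        exact fun x hx => this hx
      intro r hr
      refine Subgroup.mem_normalizer_iff.2 fun x => ⟨h1 r hr x, fun hx => ?_⟩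
      have := h1 r⁻¹ (inv_mem hr) _ hx
      simpa [mul_assoc] using this
    have hRleD : R ≤ D := by
      refine CfsgLib.Transfer.pResidual_le_of_isPGroup_quotient (IsPGroup.of_surjective
        (hA.comap_of_injective K.subtype K.subtype_injective) ((QuotientGroup.mk' D).comp A'.subtype) fun q => ?_)
      obtain ⟨x, rfl⟩ := QuotientGroup.mk'_surjective D q
      have hx : x ∈ A' ⊔ D := htop ▸ Subgroup.mem_top x
      obtain ⟨a, ha, b, hb, rfl⟩ := Subgroup.mem_sup_of_normal_right.1 hx
      refine ⟨⟨a, ha⟩, ?_⟩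
      show (QuotientGroup.mk' D) a = (QuotientGroup.mk' D) (a * b)
      rw [map_mul, show (QuotientGroup.mk' D) b = 1 from (QuotientGroup.eq_one_iff b).2 hb, mul_one]
    have h := congrArg (Subgroup.map K.subtype) (le_antisymm hDR hRleD)
    rwa [hD, Subgroup.map_commutator, hA', Subgroup.subgroupOf_map_subtype, inf_eq_left.2 hAK] at h

end Cfsg.Agent.S2814
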