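import Cfsg.Statements.S2815
import Cfsg.Agent.Lib.Amalgam.FStarCommutator
import Cfsg.Agent.Lib.Amalgam.PIrred
import Cfsg.Agent.Lib.Transfer.Basic

set_option autoImplicit false
open Cfsg

namespace Cfsg.Agent.S2815

/-- Let H be a finite group and p a prime dividing its order with O_p(H) = 1, and suppose K = O^p(H) (generated by the elements of order prime to p) is quasisimple. Then K = F*(H); for every nontrivial p-subgroup Y of H, K = [K, Y] and K lies in the subgroup generated by the K-conjugates of Y; every normal subgroup of H not containing K has order prime to p; and H is p-irreducible. -/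
theorem result {H : Type*} [Group H] [Finite H] {p : ℕ} [Fact p.Prime] (hp : p ∣ Nat.card H) (hO : Cfsg.pCore p H = ⊥) (hq : Cfsg.IsQuasisimple ↥(Cfsg.pResidual p H)) : Cfsg.pResidual p H = Cfsg.generalizedFittingSubgroup H ∧ (∀ Y : Subgroup H, IsPGroup p ↥Y → Y ≠ ⊥ → ⁅Cfsg.pResidual p H, Y⁆ = Cfsg.pResidual p H ∧ Cfsg.pResidual p H ≤ ⨆ k : ↥(Cfsg.pResidual p H), Y.map (MulAut.conj (k : H)).toMonoidHom) ∧ (∀ C : Subgroup H, C.Normal → ¬ Cfsg.pResidual p H ≤ C → (Nat.card ↥C).Coprime p) ∧ Cfsg.IsPIrreducible p H := by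
  haveI hKn := CfsgLib.Transfer.pResidual_normal (G := H) (p := p)
  set K := Cfsg.pResidual p H with hK
  have hKc : Cfsg.IsComponent K := ⟨Subgroup.Normal.isSubnormal hKn, hq⟩
  haveI := CfsgLib.Comp.fittingSubgroup_normal H
  have hFK : Cfsg.fittingSubgroup H ≤ K := fun x hx => CfsgLib.Transfer.mem_pResidual_of_coprime
    (Nat.Coprime.coprime_dvd_left (Subgroup.orderOf_dvd_natCard _ hx) (CfsgLib.Amalgam.coprime_card_fittingSubgroup hO))
  have hmove : ∀ Y : Subgroup H, IsPGroup p Y → Y ≠ ⊥ → ¬ Y ≤ Subgroup.centralizer (K : Set H) := by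
    intro Y hY hY1 hc
    refine hY1 (CfsgLib.Amalgam.eq_bot_of_commutator_commutator_fstar (Y := Y) hO hY le_rfl ?_)
    rw [CfsgLib.Amalgam.commutator_fstar_eq hO hY, eq_bot_iff]
    refine (CfsgLib.Amalgam.commutator_fstar_le Y).trans (sup_le ?_ (sSup_le fun L hL => ?_))
    · rw [← Subgroup.commutator_eq_bot_iff_le_centralizer.2 (CfsgLib.Comp.le_centralizer_symm hc)]
      exact Subgroup.commutator_mono hFK le_rfl
    · exfalso
      refine hL.2 (hc.trans (Subgroup.centralizer_le ?_))
      intro x hx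
      haveI := hL.1.2.1
      have h1 : L ≤ K := by
        have hperf : (⊤ : Subgroup L).map ((QuotientGroup.mk' K).comp L.subtype) = ⊥ := by
          haveI : IsPGroup p (H ⧸ K) → Group.IsNilpotent (H ⧸ K) := fun h => h.isNilpotent
          haveI : Group.IsNilpotent (H ⧸ K) :=
            (CfsgLib.Transfer.isPGroup_quotient_of_pResidual_le (p := p) (N := K) le_rfl).isNilpotent
          have hser : ∀ k, (⊤ : Subgroup L).map ((QuotientGroup.mk' K).comp L.subtype) ≤
              (⊤ : Subgroup (H ⧸ K)).lowerCentralSeries k := by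
            intro k
            induction k with
            | zero => simp
            | succ k ih =>
              conv_lhs => rw [← Group.IsPerfect.commutator_eq_top (G := L), commutator_def, Subgroup.map_commutator]
              exact Subgroup.commutator_mono ih le_top
          obtain ⟨k, hk⟩ := Subgroup.nilpotent_iff_lowerCentralSeries.1 ‹Group.IsNilpotent (H ⧸ K)›
          exact le_bot_iff.1 (hk ▸ hser k)
        intro y hy
        rw [← QuotientGroup.eq_one_iff]
        exact (Subgroup.mem_bot).1 (hperf ▸ ⟨⟨y, hy⟩, trivial, rfl⟩)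
      exact h1 hx
  have hFstar : K = Cfsg.generalizedFittingSubgroup H := by
    refine le_antisymm ((CfsgLib.Comp.le_layer hKc).trans (CfsgLib.Comp.layer_le_generalizedFitting H))
      (sup_le (sSup_le fun L hL => ?_) hFK)
    haveI := hL.2.1
    haveI : Group.IsNilpotent (H ⧸ K) :=
      (CfsgLib.Transfer.isPGroup_quotient_of_pResidual_le (p := p) (N := K) le_rfl).isNilpotent
    have hser : ∀ k, (⊤ : Subgroup L).map ((QuotientGroup.mk' K).comp L.subtype) ≤
        (⊤ : Subgroup (H ⧸ K)).lowerCentralSeries k := by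
      intro k
      induction k with
      | zero => simp
      | succ k ih =>
        conv_lhs => rw [← Group.IsPerfect.commutator_eq_top (G := L), commutator_def, Subgroup.map_commutator]
        exact Subgroup.commutator_mono ih le_top
    obtain ⟨k, hk⟩ := Subgroup.nilpotent_iff_lowerCentralSeries.1 ‹Group.IsNilpotent (H ⧸ K)›
    intro y hy
    rw [← QuotientGroup.eq_one_iff]
    exact (Subgroup.mem_bot).1 ((le_bot_iff.1 (hk ▸ hser k)) ▸ ⟨⟨y, hy⟩, trivial, rfl⟩)
  have hKY : ∀ Y : Subgroup H, IsPGroup p Y → Y ≠ ⊥ → ⁅K, Y⁆ = K := fun Y hY hY1 =>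
    le_antisymm (Subgroup.commutator_le_left K Y) (CfsgLib.Amalgam.component_le_commutator hKc le_rfl (hmove Y hY hY1))
  have hC : ∀ C : Subgroup H, C.Normal → ¬ K ≤ C → (Nat.card C).Coprime p := by
    intro C hCn hKC
    refine ((Nat.Prime.coprime_iff_not_dvd Fact.out).2 fun hd => ?_).symm
    obtain ⟨y, hy⟩ := exists_prime_orderOf_dvd_card' p hd
    rw [← Subgroup.orderOf_coe] at hy
    have hY : IsPGroup p (Subgroup.zpowers (y : H)) := IsPGroup.of_card (n := 1) (by rw [Nat.card_zpowers, hy, pow_one])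
    have hY1 : Subgroup.zpowers (y : H) ≠ ⊥ := by
      rw [Ne, Subgroup.zpowers_eq_bot]; intro e; rw [e, orderOf_one] at hy
      exact (Fact.out : p.Prime).one_lt.ne hy
    haveI := hCn
    exact hKC ((hKY _ hY hY1).symm.le.trans ((Subgroup.commutator_mono le_rfl (Subgroup.zpowers_le.2 y.2)).trans
      (Subgroup.commutator_le_right K C)))
  refine ⟨hFstar, fun Y hY hY1 => ⟨hKY Y hY hY1, ?_⟩, hC, ?_, ?_⟩
  · conv_lhs => rw [← hKY Y hY hY1]
    refine Subgroup.commutator_le.2 fun k hk y hy => ?_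
    show k * y * k⁻¹ * y⁻¹ ∈ _
    refine mul_mem ?_ (inv_mem ?_)
    · exact le_iSup (fun k : K => Y.map (MulAut.conj (k : H)).toMonoidHom) ⟨k, hk⟩ ⟨y, hy, rfl⟩
    · exact le_iSup (fun k : K => Y.map (MulAut.conj (k : H)).toMonoidHom) 1 ⟨y, hy, by simp⟩
  · intro hcl
    obtain ⟨S⟩ : Nonempty (Sylow p H) := inferInstance
    refine S.ne_bot_of_dvd_card hp ?_
    rw [eq_bot_iff, ← hO]
    exact CfsgLib.Amalgam.isPClosed_iff.1 hcl _ S.isPGroup'
  · intro N hN hncl
    by_contra hKN
    refine hncl ((CfsgLib.Amalgam.isPClosed_normal_iff N).2 fun Q hQ hQN => ?_)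
    obtain ⟨k, hk⟩ := hQ.exists_card_eq
    have : Nat.card Q = 1 := Nat.eq_one_of_dvd_coprimes ((hC N hN hKN).pow_right k)
      (Subgroup.card_dvd_of_le hQN) (hk ▸ dvd_rfl)
    rw [Subgroup.card_eq_one.1 this]; exact bot_le

end Cfsg.Agent.S2815
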