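import Cfsg.Statements.S2816
import Cfsg.Agent.Lib.Amalgam.FStarCommutator

set_option autoImplicit false
open Cfsg

namespace Cfsg.Agent.S2816

/-- Let H be a finite group and p a prime with O_p(H) = 1, and Y a p-subgroup of H. Then for every subnormal subgroup K of H containing Y, [F*(H), Y] = [F*(K), Y] = [F*(K), Y, Y]; and if Y₀ ≤ Y with [F*(H), Y, Y₀] = 1 then Y₀ = 1 (in particular [F*(H), Y] = 1 forces Y = 1). -/
theorem result {H : Type*} [Group H] [Finite H] {p : ℕ} [Fact p.Prime] (hO : Cfsg.pCore p H = ⊥) (Y : Subgroup H) (hY : IsPGroup p ↥Y) : (∀ K : Subgroup H, K.IsSubnormal → Y ≤ K → ⁅Cfsg.generalizedFittingSubgroup H, Y⁆ = ⁅(Cfsg.generalizedFittingSubgroup ↥K).map K.subtype, Y⁆ ∧ ⁅(Cfsg.generalizedFittingSubgroup ↥K).map K.subtype, Y⁆ = ⁅⁅(Cfsg.generalizedFittingSubgroup ↥K).map K.subtype, Y⁆, Y⁆) ∧ (∀ Y₀ : Subgroup H, Y₀ ≤ Y → ⁅⁅Cfsg.generalizedFittingSubgroup H, Y⁆,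 Y₀⁆ = ⊥ → Y₀ = ⊥) := by
  exact ⟨fun K hK hYK => CfsgLib.Amalgam.commutator_fstar_subnormal hO hY hK hYK,
    fun Y₀ hle h => CfsgLib.Amalgam.eq_bot_of_commutator_commutator_fstar hO hY hle h⟩

end Cfsg.Agent.S2816
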