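import Cfsg.Statements.S2817
import Cfsg.Agent.Lib.Amalgam.FStarFixed

set_option autoImplicit false
open Cfsg

namespace Cfsg.Agent.S2817

/-- Let H be a finite group and p a prime with O_p(H) = 1, Q a p-subgroup of H, L = [F*(H), Q], and F the largest normal subgroup of F*(H) centralized by Q (a normal subgroup of F*(H) centralized by Q and containing every such). Then F = C_{F*(H)}(LQ); L = [L, Q]; L ∩ F ≤ Φ(L); every p-subgroup B of N_H(Q) with [L, B] ≤ F satisfies [L, B] = 1; and C_H(FL) has order prime to p. -/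
theorem result {H : Type*} [Group H] [Finite H] {p : ℕ} [Fact p.Prime] (hO : Cfsg.pCore p H = ⊥) (Q : Subgroup H) (hQ : IsPGroup p ↥Q) (L : Subgroup H) (hL : L = ⁅Cfsg.generalizedFittingSubgroup H, Q⁆) (F : Subgroup H) (hF : F ≤ Cfsg.generalizedFittingSubgroup H ∧ Cfsg.generalizedFittingSubgroup H ≤ Subgroup.normalizer (F : Set H) ∧ Q ≤ Subgroup.centralizer (F : Set H) ∧ ∀ N : Subgroup H, N ≤ Cfsg.generalizedFittingSubgroup H → Cfsg.generalizedFittingSubgroup H ≤ Subgroup.normalizer (N : Set H) → Q ≤ Subgroup.centralizer (N : Set H) → N ≤ F) : F = Cfsg.generalizedFittingSubgroup H ⊓ Subgroup.centralizer ((L ⊔ Q : Subgroup H) : Set H) ∧ ⁅L, Q⁆ = L ∧ L ⊓ F ≤ (frattini ↥L).map L.subtype ∧ (∀ B : Subgroup H, IsPGroup p ↥B → B ≤ Subgroup.normalizer (Q : Set H) → ⁅L, B⁆ ≤ F → ⁅L, B⁆ = ⊥) ∧ (Nat.card ↥(Subgroup.centralizer ((F ⊔ L : Subgroup H) : Set H))).Coprime p := by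
  have hFe := CfsgLib.Amalgam.fixed_eq_inf_centralizer hL hF
  have hLQ : ⁅L, Q⁆ = L := by rw [hL, CfsgLib.Amalgam.commutator_fstar_eq hO hQ]
  refine ⟨hFe, hLQ, ?_, fun B hB hBQ hBF => CfsgLib.Amalgam.commutator_eq_bot_of_le_fixed hO hQ hL hFe hB hBQ hBF,
    CfsgLib.Amalgam.coprime_card_centralizer_fixed hO hQ hL hFe hF.2.2.2⟩
  intro z hz
  refine ⟨⟨z, (Subgroup.mem_inf.1 hz).1⟩, ?_, rfl⟩
  suffices h : (L ⊓ F).subgroupOf L ≤ frattini L from h (Subgroup.mem_subgroupOf.2 hz)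
  refine le_iInf₂ fun M hM => ?_
  by_contra hne
  have hcen : (L ⊓ F).subgroupOf L ≤ Subgroup.center L := by
    intro w hw
    refine Subgroup.mem_center_iff.2 fun l => Subtype.ext ?_
    have h1 : (w : H) ∈ F := (Subgroup.mem_inf.1 (Subgroup.mem_subgroupOf.1 hw)).2
    rw [hFe] at h1
    exact (Subgroup.mem_inf.1 h1).2 _ (Subgroup.mem_sup_left l.2)
  have hsup : M ⊔ (L ⊓ F).subgroupOf L = ⊤ := hM.2 _ (lt_of_le_of_ne le_sup_left fun e => hne (e ▸ le_sup_right))
  haveI : M.Normal := by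
    rw [← Subgroup.normalizer_eq_top_iff, eq_top_iff, ← hsup]
    refine sup_le Subgroup.le_normalizer fun w hw => Subgroup.mem_normalizer_iff.2 fun m => ?_
    rw [← Subgroup.mem_center_iff.1 (hcen hw) m, mul_inv_cancel_right]
  have hD : commutator L ≤ M := by
    rw [commutator_def, ← QuotientGroup.ker_mk' M, ← Subgroup.map_eq_bot_iff, Subgroup.map_commutator]
    have hrange : (⊤ : Subgroup L).map (QuotientGroup.mk' M) ≤ Subgroup.center (L ⧸ M) := by
      rw [← hsup, Subgroup.map_sup, QuotientGroup.map_mk'_self, bot_sup_eq]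
      rintro _ ⟨w, hw, rfl⟩
      refine Subgroup.mem_center_iff.2 fun q => ?_
      obtain ⟨l, rfl⟩ := QuotientGroup.mk'_surjective M q
      rw [← map_mul, ← map_mul, Subgroup.mem_center_iff.1 (hcen hw) l]
    rw [Subgroup.commutator_eq_bot_iff_le_centralizer]
    exact fun a _ b hb => (Subgroup.mem_center_iff.1 (hrange hb) a).symm
  refine hne (le_trans ?_ hD)
  intro w hw
  have h2 := CfsgLib.Amalgam.fixed_inf_le_derived hO hQ hL hF.2.2.1 (Subgroup.mem_subgroupOf.1 hw)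
  rw [← Subgroup.map_subtype_commutator] at h2
  exact (Subgroup.mem_map_iff_mem L.subtype_injective).1 h2

end Cfsg.Agent.S2817
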