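import Cfsg.Statements.S2818
import Cfsg.Agent.Lib.Amalgam.CharP
import Cfsg.Agent.Lib.Solvable.PGroupBasics
import Mathlib.GroupTheory.Complement

set_option autoImplicit false
open Cfsg
open scoped commutatorElement

namespace Cfsg.Agent.S2818

/-- Let P be a finite p-subgroup of a group G and H a subgroup of N_G(P) with [P, H] ≤ Ω₁(Z(P)) (the elements of order dividing p in the centre of P). Then H centralizes the Frattini subgroup of P. -/
theorem result {G : Type*} [Group G] [Finite G] {p : ℕ} [Fact p.Prime] (P : Subgroup G) (hP : IsPGroup p ↥P) (H : Subgroup G) (hH : H ≤ Subgroup.normalizer (P : Set G)) (h : ⁅P, H⁆ ≤ Cfsg.omegaOne p (P ⊓ Subgroup.centralizer (P : Set G))) : ⁅(frattini ↥P).map P.subtype, H⁆ = ⊥ := by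
  refine (Subgroup.commutator_eq_bot_iff_le_centralizer).2 ?_
  set Z := Cfsg.omegaOne p (P ⊓ Subgroup.centralizer (P : Set G))
  have hZc : ∀ z ∈ Z, ∀ y ∈ P, y * z = z * y := fun z hz y hy =>
    ((Subgroup.closure_le _).2 (fun w hw => hw.1.2) hz : z ∈ Subgroup.centralizer (P : Set G)) y hy
  have hZP : Z ≤ P := (Subgroup.closure_le _).2 fun w hw => hw.1.1
  have hZp : ∀ z ∈ Z, z ^ p = 1 := by
    intro z hz
    let S : Subgroup G :=
      { carrier := {z | z ∈ Z ∧ z ^ p = 1}
        one_mem' := ⟨one_mem Z, one_pow p⟩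
        mul_mem' := fun {a b} ha hb => ⟨mul_mem ha.1 hb.1, by
          rw [(show Commute a b from hZc b hb.1 a (hZP ha.1)).mul_pow, ha.2, hb.2, mul_one]⟩
        inv_mem' := fun {a} ha => ⟨inv_mem ha.1, by rw [inv_pow, ha.2, inv_one]⟩ }
    exact ((Subgroup.closure_le S).2 (fun w hw => ⟨Subgroup.subset_closure hw, hw.2⟩) hz).2
  rintro _ ⟨x, hx, rfl⟩ g hg
  -- the map `x ↦ [x, g]`
  let φ : P →* Z := MonoidHom.mk' (fun y => ⟨⁅(y : G), g⁆, h (Subgroup.commutator_mem_commutator y.2 hg)⟩)
    fun y w => Subtype.ext (by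
      show ⁅(y : G) * w, g⁆ = ⁅(y : G), g⁆ * ⁅(w : G), g⁆
      have hw : ⁅(w : G), g⁆ ∈ Z := h (Subgroup.commutator_mem_commutator w.2 hg)
      have hy : ⁅(y : G), g⁆ ∈ Z := h (Subgroup.commutator_mem_commutator y.2 hg)
      rw [hZc _ hw _ (hZP hy), show ⁅(y : G) * w, g⁆ = (y : G) * ⁅(w : G), g⁆ * (y : G)⁻¹ * ⁅(y : G), g⁆ by
        simp only [commutatorElement_def]; group, hZc _ hw _ y.2, mul_inv_cancel_right])
  suffices hx' : φ x = 1 by
    have := congrArg Subtype.val hx'
    exact (commutatorElement_eq_one_iff_mul_comm.1 this).symm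
  by_contra hne
  let _ : CommGroup φ.range :=
    { (inferInstance : Group φ.range) with
      mul_comm := fun a b => Subtype.ext (Subtype.ext (hZc _ (b : Z).2 _ (hZP (a : Z).2))) }
  obtain ⟨B, hB⟩ := CfsgLib.Solvable.exists_isCompl_of_pow_eq_one (p := p)
    (fun q : φ.range => Subtype.ext (Subtype.ext (hZp _ (q : Z).2))) (Subgroup.zpowers (φ.rangeRestrict x))
  have hord : orderOf (φ.rangeRestrict x) = p :=
    orderOf_eq_prime (Subtype.ext (Subtype.ext (hZp _ (φ.rangeRestrict x : Z).2))) fun he => hne (congrArg Subtype.val he)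
  have hidx : (B.comap φ.rangeRestrict).index = p := by
    rw [Subgroup.index_comap_of_surjective _ φ.rangeRestrict_surjective]
    have hc : (Subgroup.zpowers (φ.rangeRestrict x)).IsComplement' B :=
      Subgroup.isComplement'_of_disjoint_and_mul_eq_univ hB.disjoint (by
        rw [← Subgroup.mul_normal, hB.sup_eq_top, Subgroup.coe_top])
    rw [hc.index_eq_card, Nat.card_zpowers, hord]
  have hco : IsCoatom (B.comap φ.rangeRestrict) := by
    refine ⟨fun ht => ?_, fun K hK => ?_⟩
    · rw [ht, Subgroup.index_top] at hidx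
      exact (Fact.out : p.Prime).one_lt.ne hidx
    · have h1 := Subgroup.relIndex_mul_index hK.le
      rw [hidx] at h1
      rcases (Nat.dvd_prime (Fact.out : p.Prime)).1 (Dvd.intro_left _ h1) with h2 | h2
      · exact Subgroup.index_eq_one.1 h2
      · exfalso
        rw [h2] at h1
        have h3 : (B.comap φ.rangeRestrict).relIndex K = 1 := by
          have h4 : (B.comap φ.rangeRestrict).relIndex K * p = 1 * p := by rw [h1, one_mul]
          exact Nat.eq_of_mul_eq_mul_right (Fact.out : p.Prime).pos h4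
        exact hK.not_ge (Subgroup.relIndex_eq_one.1 h3)
  have hxB : φ.rangeRestrict x ∈ B := (frattini_le_coatom hco) hx
  have := hB.disjoint.le_bot ⟨Subgroup.mem_zpowers _, hxB⟩
  exact hne (congrArg Subtype.val (Subgroup.mem_bot.1 this))

end Cfsg.Agent.S2818
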