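import Cfsg.Statements.S2819
import Cfsg.Agent.Lib.Amalgam.CharP
import Cfsg.Agent.Lib.Transfer.PPrimeAut
import Cfsg.Agent.Lib.Comp.Normalize

set_option autoImplicit false
open Cfsg

namespace Cfsg.Agent.S2819

/-- Let P be a finite p-subgroup of a group G, H a subgroup of N_G(P), and Y a subgroup of H centralizing the derived subgroup P' such that [P, Y] is elementary abelian. Then O^p(⟨Y^H⟩), the subgroup of the normal closure of Y in H generated by its elements of order prime to p, centralizes the Frattini subgroup of P. -/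
theorem result {G : Type*} [Group G] [Finite G] {p : ℕ} [Fact p.Prime] (P : Subgroup G) (hP : IsPGroup p ↥P) (H : Subgroup G) (hH : H ≤ Subgroup.normalizer (P : Set G)) (Y : Subgroup G) (hYH : Y ≤ H) (hYc : Y ≤ Subgroup.centralizer ((⁅P, P⁆ : Subgroup G) : Set G)) (hel : Cfsg.IsElementaryAbelian p ⁅P, Y⁆) (NY : Subgroup G) (hNY : NY = (Subgroup.normalClosure ((Y.subgroupOf H : Subgroup ↥H) : Set ↥H)).map H.subtype) : (Cfsg.pResidual p ↥NY).map NY.subtype ≤ Subgroup.centralizer (((frattini ↥P).map P.subtype : Subgroup G) : Set G) := by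
  set D : Subgroup G := ⁅P, P⁆ with hD
  have hDeq : (commutator P).map P.subtype = D := Subgroup.map_subtype_commutator P
  have hPD : P ≤ Subgroup.normalizer (D : Set G) := Subgroup.normalizer_commutator_ge_left P P
  have hND : Subgroup.normalizer (P : Set G) ≤ Subgroup.normalizer (D : Set G) := by
    intro g hg
    refine CfsgLib.Comp.map_conj_eq_iff.1 ?_
    rw [hD, Subgroup.map_commutator, CfsgLib.Comp.map_conj_eq_iff.2 hg]
  let W : Subgroup G :=
    { carrier := {g | g ∈ Subgroup.normalizer (P : Set G) ∧ g ∈ Subgroup.centralizer (D : Set G) ∧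
        ∀ x ∈ P, g * x ^ p * g⁻¹ * (x ^ p)⁻¹ ∈ D}
      one_mem' := ⟨one_mem _, one_mem _, fun x _ => by simp⟩
      mul_mem' := by
        rintro a b ⟨ha, hac, ha'⟩ ⟨hb, hbc, hb'⟩
        refine ⟨mul_mem ha hb, mul_mem hac hbc, fun x hx => ?_⟩
        rw [show a * b * x ^ p * (a * b)⁻¹ * (x ^ p)⁻¹ =
          (a * (b * x ^ p * b⁻¹ * (x ^ p)⁻¹) * a⁻¹) * (a * x ^ p * a⁻¹ * (x ^ p)⁻¹) by group]
        exact mul_mem ((Subgroup.mem_normalizer_iff.1 (hND ha) _).1 (hb' x hx)) (ha' x hx)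
      inv_mem' := by
        rintro a ⟨ha, hac, ha'⟩
        refine ⟨inv_mem ha, inv_mem hac, fun x hx => ?_⟩
        rw [show a⁻¹ * x ^ p * a⁻¹⁻¹ * (x ^ p)⁻¹ = a⁻¹ * (a * x ^ p * a⁻¹ * (x ^ p)⁻¹)⁻¹ * a⁻¹⁻¹ by group]
        exact (Subgroup.mem_normalizer_iff.1 (inv_mem (hND ha)) _).1 (inv_mem (ha' x hx)) }
  have hYW : Y ≤ W := fun y hy => by
    refine ⟨hH (hYH hy), hYc hy, fun x hx => ?_⟩
    have hyx : y * x * y⁻¹ ∈ P := (Subgroup.mem_normalizer_iff.1 (hH (hYH hy)) x).1 hx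
    set e : G := x⁻¹ * y * x * y⁻¹ with he
    have hePY : e ∈ ⁅P, Y⁆ := by
      rw [he, show x⁻¹ * y * x * y⁻¹ = x⁻¹ * y * x⁻¹⁻¹ * y⁻¹ by group]
      exact Subgroup.commutator_mem_commutator (inv_mem hx) hy
    have heP : e ∈ P := by
      rw [he, mul_assoc, mul_assoc, ← mul_assoc y]
      exact mul_mem (inv_mem hx) hyx
    rw [← conj_pow, show y * x * y⁻¹ = x * e by rw [he]; group]
    have h1 : Abelianization.of (((⟨x, hx⟩ : P) * ⟨e, heP⟩) ^ p * ((⟨x, hx⟩ : P) ^ p)⁻¹) = 1 := by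
      rw [map_mul, map_inv, map_pow, map_pow, map_mul, mul_pow, ← map_pow Abelianization.of (⟨e, heP⟩ : P),
        show (⟨e, heP⟩ : P) ^ p = 1 from Subtype.ext (hel.2 e hePY), map_one, mul_one, mul_inv_cancel]
    rw [← MonoidHom.mem_ker, Abelianization.ker_of] at h1
    exact hDeq ▸ ⟨_, h1, rfl⟩
  have hNW : NY ≤ W := by
    rw [hNY, Subgroup.map_le_iff_le_comap]
    haveI : (W.comap H.subtype).Normal := ⟨fun w hw h => by
      obtain ⟨h1, h2, h3⟩ := Subgroup.mem_comap.1 hw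
      have hh := hH h.2
      refine ⟨mul_mem (mul_mem hh h1) (inv_mem hh), ?_, fun x hx => ?_⟩
      · exact (Subgroup.mem_normalizer_iff.1 (CfsgLib.Comp.normalizer_le_normalizer_centralizer D (hND hh)) _).1 h2
      · have hx' : (h : G)⁻¹ * x * h ∈ P := by
          have := (Subgroup.mem_normalizer_iff.1 (inv_mem hh) x).1 hx
          simpa using this
        have := (Subgroup.mem_normalizer_iff.1 (hND hh) _).1 (h3 _ hx')
        rw [show ((h : G)⁻¹ * x * h) ^ p = (h : G)⁻¹ * x ^ p * h by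
          conv_lhs => rw [show (h : G)⁻¹ * x * h = (h : G)⁻¹ * x * (h : G)⁻¹⁻¹ by rw [inv_inv], conj_pow, inv_inv]] at this
        show (h : G) * w * (h : G)⁻¹ * x ^ p * ((h : G) * w * (h : G)⁻¹)⁻¹ * (x ^ p)⁻¹ ∈ D
        convert this using 1
        simp only [Subgroup.coe_subtype]
        group⟩
    refine Subgroup.normalClosure_le_normal fun y hy => ?_
    exact hYW (Subgroup.mem_subgroupOf.1 hy)
  rw [Cfsg.pResidual, MonoidHom.map_closure, Subgroup.closure_le]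
  rintro _ ⟨g, hg, rfl⟩
  obtain ⟨hgP, hgc, hgx⟩ := hNW g.2
  have hord : (orderOf (g : G)).Coprime p := by rw [Subgroup.orderOf_coe]; exact hg
  set N₀ : Subgroup P :=
    { carrier := {x | (g : G) * x * (g : G)⁻¹ * (x : G)⁻¹ ∈ D}
      one_mem' := by simp
      mul_mem' := fun {a b} ha hb => by
        show (g : G) * ((a : G) * b) * (g : G)⁻¹ * ((a : G) * b)⁻¹ ∈ D
        rw [show (g : G) * ((a : G) * b) * (g : G)⁻¹ * ((a : G) * b)⁻¹ = ((g : G) * a * (g : G)⁻¹ * (a : G)⁻¹) *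
          ((a : G) * ((g : G) * b * (g : G)⁻¹ * (b : G)⁻¹) * (a : G)⁻¹) by group]
        exact mul_mem ha ((Subgroup.mem_normalizer_iff.1 (hPD a.2) _).1 hb)
      inv_mem' := fun {a} ha => by
        show (g : G) * (a : G)⁻¹ * (g : G)⁻¹ * (a : G)⁻¹⁻¹ ∈ D
        rw [show (g : G) * (a : G)⁻¹ * (g : G)⁻¹ * (a : G)⁻¹⁻¹ =
          (a : G)⁻¹ * ((g : G) * a * (g : G)⁻¹ * (a : G)⁻¹)⁻¹ * (a : G)⁻¹⁻¹ by group]
        exact (Subgroup.mem_normalizer_iff.1 (hPD (inv_mem a.2)) _).1 (inv_mem ha) } with hN₀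
  have hcN : commutator P ≤ N₀ := fun x hx => by
    have hxD : (x : G) ∈ D := hDeq ▸ ⟨x, hx, rfl⟩
    show (g : G) * x * (g : G)⁻¹ * (x : G)⁻¹ ∈ D
    rw [← hgc _ hxD, mul_inv_cancel_right, mul_inv_cancel]
    exact one_mem D
  haveI : N₀.Normal := ⟨fun x hx a => by
    rw [show a * x * a⁻¹ = (a * x * a⁻¹ * x⁻¹) * x by group]
    exact mul_mem (hcN (Subgroup.commutator_mem_commutator (Subgroup.mem_top a) (Subgroup.mem_top x))) hx⟩
  have hΦ : frattini P ≤ N₀ := CfsgLib.Transfer.frattini_le_of_elementary_quotient N₀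
    (fun x y => hcN (Subgroup.commutator_mem_commutator (Subgroup.mem_top x) (Subgroup.mem_top y)))
    (fun x => hgx x x.2)
  have hDΦ : D ≤ (frattini P).map P.subtype := by
    rw [← hDeq]; exact Subgroup.map_mono (CfsgLib.Transfer.commutator_le_frattini_pgroup hP)
  refine CfsgLib.Amalgam.centralizes_of_stabilizes hDΦ (hP.to_le (Subgroup.map_subtype_le _)) hord hgc ?_
  rintro _ ⟨x, hx, rfl⟩
  exact hΦ hx

end Cfsg.Agent.S2819
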