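import Cfsg.Statements.S2820
import Cfsg.Agent.Lib.Amalgam.CharP
import Cfsg.Agent.Lib.Comp.Subnormal
import Cfsg.Agent.Lib.Transfer.Basic

set_option autoImplicit false
open Cfsg

namespace Cfsg.Agent.S2820

/-- Let A and B be subnormal subgroups of the finite group H with A a p-group and B = O^p(B) (B generated by its elements of order prime to p). Then A normalizes B and B = O^p(AB), the subgroup of ⟨A, B⟩ generated by its elements of order prime to p. -/
theorem result {H : Type*} [Group H] [Finite H] {p : ℕ} [Fact p.Prime] (A B : Subgroup H) (hA : A.IsSubnormal) (hB : B.IsSubnormal) (hAp : IsPGroup p ↥A) (hBres : (Cfsg.pResidual p ↥B).map B.subtype = B) : A ≤ Subgroup.normalizer (B : Set H) ∧ (Cfsg.pResidual p ↥(A ⊔ B)).map (A ⊔ B).subtype = B := by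
  set X := A ⊔ B with hX
  have hres : (Cfsg.pResidual p ↥X).map X.subtype = B := by
    set Q := Cfsg.pCore p ↥X
    have hQn := CfsgLib.Amalgam.normal_pCore (p := p) (G := X)
    have hA' : A.subgroupOf X ≤ Q := CfsgLib.Comp.le_pCore_of_isSubnormal hA.subgroupOf
      (hAp.of_equiv (Subgroup.subgroupOfEquivOfLe le_sup_left).symm)
    have hsup : B.subgroupOf X ⊔ Q = ⊤ := by
      refine eq_top_iff.2 fun x _ => ?_
      have h1 : X ≤ (B.subgroupOf X ⊔ Q).map X.subtype := sup_le
        (fun a ha => ⟨⟨a, Subgroup.mem_sup_left ha⟩, Subgroup.mem_sup_right (hA' ha), rfl⟩)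
        (fun b hb => ⟨⟨b, Subgroup.mem_sup_right hb⟩, Subgroup.mem_sup_left hb, rfl⟩)
      obtain ⟨y, hy, hyx⟩ := h1 x.2
      rwa [← show y = x from Subtype.ext hyx]
    have main : ∀ K : Subgroup X, K.IsSubnormal → K ⊔ Q = ⊤ → Cfsg.pResidual p ↥X ≤ K := by
      intro K hK
      induction hK with
      | top => intro; exact le_top
      | step K L hle _ hN ih =>
        intro hKQ
        have hL : Cfsg.pResidual p ↥X ≤ L := ih (top_le_iff.1 (hKQ ▸ sup_le_sup_right hle Q))
        refine (Subgroup.closure_le _).2 fun g hg => ?_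
        have hgL : g ∈ L := hL (Subgroup.subset_closure hg)
        let π := QuotientGroup.mk' (K.subgroupOf L)
        suffices h1 : π ⟨g, hgL⟩ = 1 from (QuotientGroup.eq_one_iff (N := K.subgroupOf L) (⟨g, hgL⟩ : L)).1 h1
        obtain ⟨k, hk, q, hq, hkq⟩ := Subgroup.mem_sup_of_normal_right.1 (show g ∈ K ⊔ Q from hKQ ▸ Subgroup.mem_top g)
        have hqL : q ∈ L := by
          rw [show q = k⁻¹ * g by rw [← hkq]; group]
          exact mul_mem (inv_mem (hle hk)) hgL
        have e : π ⟨g, hgL⟩ = π ⟨q, hqL⟩ := by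
          have hk1 : π ⟨k, hle hk⟩ = 1 := (QuotientGroup.eq_one_iff _).2 hk
          rw [show (⟨g, hgL⟩ : L) = ⟨k, hle hk⟩ * ⟨q, hqL⟩ from Subtype.ext hkq.symm, map_mul, hk1, one_mul]
        obtain ⟨j, hj⟩ := IsPGroup.iff_orderOf.1 (CfsgLib.Amalgam.isPGroup_pCore (p := p) (G := X)) ⟨q, hq⟩
        rw [Subgroup.orderOf_mk] at hj
        refine orderOf_eq_one_iff.1 (Nat.eq_one_of_dvd_coprimes (a := orderOf g) (b := p ^ j)
          (hg.pow_right j) ?_ ?_)
        · have := orderOf_map_dvd π (⟨g, hgL⟩ : L)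
          rwa [Subgroup.orderOf_mk] at this
        · rw [e, ← hj]
          have := orderOf_map_dvd π (⟨q, hqL⟩ : L)
          rwa [Subgroup.orderOf_mk] at this
    refine le_antisymm ?_ ?_
    · rintro _ ⟨x, hx, rfl⟩
      exact main _ hB.subgroupOf hsup hx
    · refine hBres.ge.trans ?_
      rw [Cfsg.pResidual, Cfsg.pResidual, MonoidHom.map_closure, MonoidHom.map_closure]
      refine Subgroup.closure_mono ?_
      rintro _ ⟨b, hb, rfl⟩
      refine ⟨⟨b, Subgroup.mem_sup_right b.2⟩, ?_, rfl⟩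
      show (orderOf _).Coprime p
      rwa [Subgroup.orderOf_mk, Subgroup.orderOf_coe]
  refine ⟨fun a ha => ?_, hres⟩
  rw [← hres]
  apply CfsgLib.Comp.map_conj_eq_iff.1
  have hn := CfsgLib.Transfer.pResidual_normal (p := p) (G := X)
  rw [Subgroup.map_map]
  calc (Cfsg.pResidual p ↥X).map ((MulAut.conj a).toMonoidHom.comp X.subtype)
      = ((Cfsg.pResidual p ↥X).map (MulAut.conj (⟨a, Subgroup.mem_sup_left ha⟩ : X)).toMonoidHom).map X.subtype := by
        rw [Subgroup.map_map]; rfl
    _ = _ := by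
        rw [CfsgLib.Comp.map_conj_eq_iff.2]
        rw [Subgroup.normalizer_eq_top]; exact Subgroup.mem_top _

end Cfsg.Agent.S2820
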