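import Cfsg.Statements.S2821
import Cfsg.Agent.Lib.Amalgam.PReducedSubnormal

set_option autoImplicit false
open Cfsg

namespace Cfsg.Agent.S2821

/-- Let H be a finite group, p a prime, T a Sylow p-subgroup and L a subgroup of characteristic p containing T; let Y_L be the largest p-reduced normal subgroup of L (the join of the normal elementary abelian p-subgroups V of L with O_p(L/C_L(V)) = 1). Then T₀ := C_T(Y_L) is a Sylow p-subgroup of C_H(Y_L); moreover O_p(L) ≤ T₀ ≤ C_L(Y_L) and Ω₁(Z(T)) ≤ Z_L ≤ Y_L ≤ Ω₁(Z(O_p(L))), where Z_L is generated by the Ω₁(Z(S)) over the Sylow p-subgroups S of L. -/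
theorem result {H : Type*} [Group H] [Finite H] {p : ℕ} [Fact p.Prime] (T : Sylow p H) (L : Subgroup H) (hTL : (T : Subgroup H) ≤ L) (hL : Subgroup.centralizer (Cfsg.pCore p ↥L : Set ↥L) ≤ Cfsg.pCore p ↥L) (T₀ : Subgroup H) (hT₀ : T₀ = (T : Subgroup H) ⊓ Subgroup.centralizer (((Cfsg.largestPReducedOf p L) : Subgroup H) : Set H)) : (∃ P : Sylow p ↥(Subgroup.centralizer (((Cfsg.largestPReducedOf p L) : Subgroup H) : Set H)), (P : Subgroup ↥(Subgroup.centralizer (((Cfsg.largestPReducedOf p L) : Subgroup H) : Set H))) = T₀.subgroupOf (Subgroup.centralizer (((Cfsg.largestPReducedOf p L) : Subgroup H) : Set H))) ∧ (Cfsg.pCoreOf p L) ≤ T₀ ∧ T₀ ≤ L ⊓ Subgroup.centralizer (((Cfsg.largestPReducedOf p L) : Subgroup H) : Set H) ∧ (Cfsg.omegaOne p ((T : Subgroup H) ⊓ Subgroup.centralizer (((T : Subgroup H) : Subgroup H) : Set H))) ≤ Cfsg.sylowCenterClosure p L ∧ Cfsg.sylowCenterClosure p L ≤ (Cfsg.largestPReducedOf p L) ∧ (Cfsg.largestPReducedOf p L) ≤ (Cfsg.omegaOne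 p ((Cfsg.pCoreOf p L) ⊓ Subgroup.centralizer (((Cfsg.pCoreOf p L) : Subgroup H) : Set H))) := by
  obtain ⟨hY, -⟩ := CfsgLib.Amalgam.pRedIn_largest (p := p) L
  set Y := Cfsg.largestPReducedOf p L
  set C := Subgroup.centralizer (Y : Set H)
  have hTs : CfsgLib.Amalgam.IsSylIn p L (T : Subgroup H) :=
    (CfsgLib.Amalgam.isSylIn_top T).mono hTL le_top
  have hchar := CfsgLib.Amalgam.charPElements_iff.2 hL
  subst hT₀
  have hN : CfsgLib.Amalgam.IsSylIn p (Subgroup.normalizer (Y : Set H)) (T : Subgroup H) :=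
    (CfsgLib.Amalgam.isSylIn_top T).mono (hTL.trans hY.2.1) le_top
  have hT0 := CfsgLib.Amalgam.isSylIn_inf_normal hN (Subgroup.centralizer_le_normalizer (Y : Set H))
    (CfsgLib.Comp.normalizer_le_normalizer_centralizer Y)
  let P : Sylow p C := Sylow.ofCard (((T : Subgroup H) ⊓ C).subgroupOf C)
    (by rw [Nat.card_congr (Subgroup.subgroupOfEquivOfLe inf_le_right).toEquiv, hT0.2.2])
  refine ⟨⟨P, rfl⟩, le_inf hTs.pCoreOf_le hY.pCoreOf_le_centralizer, inf_le_inf_right _ hTL, ?_, ?_,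
    hY.le_center_pCoreOf⟩
  · refine le_trans (le_of_eq ?_) (le_iSup _ (T.subtype hTL))
    rw [Sylow.coe_subtype, Subgroup.subgroupOf_map_subtype, inf_eq_left.2 hTL]
  · refine iSup_le fun S => ?_
    have hS : CfsgLib.Amalgam.IsSylIn p L ((S : Subgroup L).map L.subtype) :=
      ⟨Subgroup.map_subtype_le _, S.isPGroup'.map _, by
        rw [Subgroup.card_map_of_injective L.subtype_injective, S.card_eq_multiplicity]⟩
    refine le_trans (le_of_eq ?_) (CfsgLib.Amalgam.omega_center_le_largest hchar hS 1 (one_mem L))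
    rw [CfsgLib.Amalgam.map_conj_one']

end Cfsg.Agent.S2821
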