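import Cfsg.Statements.S2823
import Cfsg.Agent.Lib.Amalgam.PReducedSubnormal

set_option autoImplicit false
open Cfsg

namespace Cfsg.Agent.S2823

open scoped commutatorElement
/-- Let H be a finite group, p a prime, T a Sylow p-subgroup and L a subgroup of characteristic p containing T; let Z_L be the subgroup generated by the Ω₁(Z(S)) over the Sylow p-subgroups S of L and O^p(L) the subgroup generated by the elements of L of order prime to p. Then Z_L = Ω₁(Z(L))·[Z_L, O^p(L)] and [Z_L, L] = [Z_L, O^p(L)]. -/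
theorem result {H : Type*} [Group H] [Finite H] {p : ℕ} [Fact p.Prime] (T : Sylow p H) (L : Subgroup H) (hTL : (T : Subgroup H) ≤ L) (hL : Subgroup.centralizer (Cfsg.pCore p ↥L : Set ↥L) ≤ Cfsg.pCore p ↥L) : Cfsg.sylowCenterClosure p L = (Cfsg.omegaOne p (L ⊓ Subgroup.centralizer ((L : Subgroup H) : Set H))) ⊔ ⁅Cfsg.sylowCenterClosure p L, (Cfsg.pResidual p ↥L).map L.subtype⁆ ∧ ⁅Cfsg.sylowCenterClosure p L, L⁆ = ⁅Cfsg.sylowCenterClosure p L, (Cfsg.pResidual p ↥L).map L.subtype⁆ := by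
  set Z := Cfsg.sylowCenterClosure p L with hZdef
  set O := (Cfsg.pResidual p ↥L).map L.subtype
  set M := ⁅Z, O⁆
  have hTs : CfsgLib.Amalgam.IsSylIn p L (T : Subgroup H) := (CfsgLib.Amalgam.isSylIn_top T).mono hTL le_top
  have hchar := CfsgLib.Amalgam.charPElements_iff.2 hL
  set ZT := Cfsg.omegaOne p ((T : Subgroup H) ⊓ Subgroup.centralizer ((T : Subgroup H) : Set H))
  have hSyl : ∀ S : Sylow p L, CfsgLib.Amalgam.IsSylIn p L ((S : Subgroup L).map L.subtype) := fun S =>
    ⟨Subgroup.map_subtype_le _, S.isPGroup'.map _, by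
      rw [Subgroup.card_map_of_injective L.subtype_injective, S.card_eq_multiplicity]⟩
  have hZT : ZT ≤ Z := by
    refine le_trans (le_of_eq ?_) (le_iSup _ (T.subtype hTL))
    rw [Sylow.coe_subtype, Subgroup.subgroupOf_map_subtype, inf_eq_left.2 hTL]
  have hZY : Z ≤ Cfsg.largestPReducedOf p L := iSup_le fun S => by
    refine le_trans (le_of_eq ?_) (CfsgLib.Amalgam.omega_center_le_largest hchar (hSyl S) 1 (one_mem L))
    rw [CfsgLib.Amalgam.map_conj_one']
  obtain ⟨hY, -⟩ := CfsgLib.Amalgam.pRedIn_largest (p := p) L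
  have hZea : Cfsg.IsElementaryAbelian p Z := CfsgLib.PLocal.elemAb_mono hY.2.2.1 hZY
  have hZc : ∀ a ∈ Z, ∀ b ∈ Z, a * b = b * a := fun a ha b hb => CfsgLib.PLocal.elemAb_comm hZea ha hb
  have hZL : Z ≤ L := hZY.trans hY.1
  have hZeq : Z = ⨆ l : L, ZT.map (MulAut.conj (l : H)).toMonoidHom := by
    refine le_antisymm (iSup_le fun S => ?_) (iSup_le fun l => ?_)
    · obtain ⟨l, hl, hlS⟩ := hTs.exists_conj (hSyl S)
      refine le_trans (le_of_eq ?_) (le_iSup _ (⟨l, hl⟩ : L))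
      show _ = (Cfsg.omegaOne p _).map _
      rw [CfsgLib.PLocal.omegaOne_map_equiv, Subgroup.map_inf _ _ _ (MulAut.conj l).injective]
      have hc : (Subgroup.centralizer ((T : Subgroup H) : Set H)).map (MulAut.conj l).toMonoidHom =
          Subgroup.centralizer (((S : Subgroup L).map L.subtype : Subgroup H) : Set H) := by
        rw [← hlS]
        ext x
        rw [CfsgLib.Coprime.mem_map_conj, Subgroup.mem_centralizer_iff, Subgroup.mem_centralizer_iff]
        constructor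
        · rintro hx _ ⟨t, ht, rfl⟩
          show l * t * l⁻¹ * x = x * (l * t * l⁻¹)
          calc l * t * l⁻¹ * x = l * (t * (l⁻¹ * x * l)) * l⁻¹ := by group
            _ = _ := by rw [hx t ht]; group
        · intro hx t ht
          have h1 : l * t * l⁻¹ * x = x * (l * t * l⁻¹) := hx _ ⟨t, ht, rfl⟩
          calc t * (l⁻¹ * x * l) = l⁻¹ * (l * t * l⁻¹ * x) * l := by group
            _ = _ := by rw [h1]; group
      rw [hc]
      exact congrArg (fun X : Subgroup H => Cfsg.omegaOne p (X ⊓ _)) hlS.symm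
    · have h1 : CfsgLib.Amalgam.IsSylIn p L ((T : Subgroup H).map (MulAut.conj (l : H)).toMonoidHom) :=
        ⟨(Subgroup.map_mono hTL).trans (CfsgLib.Coprime.map_conj_of_mem_normalizer (Subgroup.le_normalizer l.2)).le,
          hTs.2.1.map _, by rw [CfsgLib.Coprime.card_map_conj, hTs.2.2]⟩
      let S : Sylow p L := Sylow.ofCard (((T : Subgroup H).map (MulAut.conj (l : H)).toMonoidHom).subgroupOf L)
        (by rw [Nat.card_congr (Subgroup.subgroupOfEquivOfLe h1.1).toEquiv, h1.2.2])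
      rintro _ ⟨z, hz, rfl⟩
      obtain ⟨hzT, hzc, hzp⟩ := CfsgLib.Amalgam.mem_omega_center_iff.1 hz
      refine Subgroup.mem_iSup_of_mem S (CfsgLib.Amalgam.mem_omega_center_iff.2 ?_)
      have hS : (S : Subgroup L).map L.subtype = (T : Subgroup H).map (MulAut.conj (l : H)).toMonoidHom := by
        show (Subgroup.subgroupOf _ L).map _ = _
        rw [Subgroup.subgroupOf_map_subtype, inf_eq_left.2 h1.1]
      rw [hS]
      refine ⟨⟨z, hzT, rfl⟩, ?_, by rw [← map_pow, hzp, map_one]⟩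
      rintro _ ⟨t, ht, rfl⟩
      rw [← map_mul, ← map_mul, hzc t ht]
  have hLZ : L ≤ Subgroup.normalizer (Z : Set H) := by
    intro l hl
    apply CfsgLib.PLocal.mem_normalizer_map_conj.2
    refine Subgroup.eq_of_le_of_card_ge ?_ (CfsgLib.Coprime.card_map_conj l Z).ge
    rw [hZeq, Subgroup.map_iSup]
    refine iSup_le fun m => ?_
    rw [CfsgLib.Coprime.map_conj_conj]
    exact le_iSup (fun m : L => ZT.map (MulAut.conj (m : H)).toMonoidHom) (⟨l, hl⟩ * m)
  have hOL : O ≤ L := Subgroup.map_subtype_le _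
  have hLO : L ≤ Subgroup.normalizer (O : Set H) := by
    intro l hl
    apply CfsgLib.PLocal.mem_normalizer_map_conj.2
    refine Subgroup.eq_of_le_of_card_ge ?_ (CfsgLib.Coprime.card_map_conj l O).ge
    rintro _ ⟨_, ⟨v, hv, rfl⟩, rfl⟩
    exact ⟨_, (CfsgLib.Transfer.pResidual_normal (G := L) (p := p)).conj_mem v hv ⟨l, hl⟩, rfl⟩
  have hOT : L ≤ O ⊔ (T : Subgroup H) := by
    have h := congrArg (Subgroup.map L.subtype) (CfsgLib.Transfer.pResidual_sup_sylow (T.subtype hTL))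
    rw [Subgroup.map_sup, Sylow.coe_subtype, Subgroup.subgroupOf_map_subtype, inf_eq_left.2 hTL,
      ← MonoidHom.range_eq_map, Subgroup.range_subtype] at h
    exact h.ge
  have hLM : L ≤ Subgroup.normalizer (M : Set H) := fun l hl => by
    apply CfsgLib.PLocal.mem_normalizer_map_conj.2
    show (⁅Z, O⁆).map _ = _
    rw [Subgroup.map_commutator, CfsgLib.Coprime.map_conj_of_mem_normalizer (hLZ hl),
      CfsgLib.Coprime.map_conj_of_mem_normalizer (hLO hl)]
  have hMZ : M ≤ Z := Subgroup.le_normalizer_iff_commutator_le_left.1 (hOL.trans hLZ)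
  have hTfix : ∀ z ∈ ZT, ∀ t ∈ (T : Subgroup H), t * z = z * t := fun z hz t ht =>
    (CfsgLib.Amalgam.mem_omega_center_iff.1 hz).2.1 t ht
  have hsup : Z ≤ ZT ⊔ M := by
    have hn : L ≤ Subgroup.normalizer ((ZT ⊔ M : Subgroup H) : Set H) := by
      refine hOT.trans (sup_le (fun o ho => ?_) (CfsgLib.Comp.le_normalizer_sup
        (fun t ht => Subgroup.centralizer_le_normalizer (ZT : Set H) fun z hz => (hTfix z hz t ht).symm)
        (hTL.trans hLM)))
      apply CfsgLib.PLocal.mem_normalizer_map_conj.2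
      refine Subgroup.eq_of_le_of_card_ge ?_ (CfsgLib.Coprime.card_map_conj o _).ge
      rw [Subgroup.map_sup]
      refine sup_le ?_ (le_trans (CfsgLib.Coprime.map_conj_of_mem_normalizer (hLM (hOL ho))).le le_sup_right)
      rintro _ ⟨z, hz, rfl⟩
      show o * z * o⁻¹ ∈ ZT ⊔ M
      rw [show o * z * o⁻¹ = ⁅z, o⁆⁻¹ * z by rw [commutatorElement_def]; group]
      exact mul_mem (Subgroup.mem_sup_right (inv_mem (Subgroup.commutator_mem_commutator (hZT hz) ho)))
        (Subgroup.mem_sup_left hz)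
    rw [hZeq]
    exact iSup_le fun l => (Subgroup.map_mono le_sup_left).trans
      (CfsgLib.Coprime.map_conj_of_mem_normalizer (hn l.2)).le
  have hcomm : ∀ l ∈ L, ∀ z ∈ Z, ⁅l, z⁆ ∈ M := by
    let E : Subgroup H :=
      { carrier := {l | l ∈ L ∧ ∀ z ∈ Z, ⁅l, z⁆ ∈ M}
        one_mem' := ⟨one_mem L, fun z _ => by simp⟩
        mul_mem' := by
          rintro a b ⟨ha, ha'⟩ ⟨hb, hb'⟩
          refine ⟨mul_mem ha hb, fun z hz => ?_⟩
          rw [show ⁅a * b, z⁆ = a * ⁅b, z⁆ * a⁻¹ * ⁅a, z⁆ by simp only [commutatorElement_def]; group]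
          exact mul_mem ((Subgroup.mem_normalizer_iff.1 (hLM ha) _).1 (hb' z hz)) (ha' z hz)
        inv_mem' := by
          rintro a ⟨ha, ha'⟩
          refine ⟨inv_mem ha, fun z hz => ?_⟩
          rw [show ⁅a⁻¹, z⁆ = a⁻¹ * ⁅a, z⁆⁻¹ * a⁻¹⁻¹ by simp only [commutatorElement_def]; group]
          exact (Subgroup.mem_normalizer_iff.1 (hLM (inv_mem ha)) _).1 (inv_mem (ha' z hz)) }
    have hE : L ≤ E := by
      refine hOT.trans (sup_le (fun o ho => ⟨hOL ho, fun z hz => ?_⟩) fun t ht => ⟨hTL ht, fun z hz => ?_⟩)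
      · rw [← commutatorElement_inv]
        exact inv_mem (Subgroup.commutator_mem_commutator hz ho)
      · have hzsup := hsup hz
        rw [sup_comm] at hzsup
        obtain ⟨m, hm, w, hw, rfl⟩ := CfsgLib.Comp.exists_mul_of_mem_sup ((hZT.trans hZL).trans hLM) hzsup
        rw [show ⁅t, m * w⁆ = ⁅t, m⁆ * (m * ⁅t, w⁆ * m⁻¹) by simp only [commutatorElement_def]; group,
          commutatorElement_eq_one_iff_mul_comm.2 (hTfix w hw t ht), mul_one, mul_inv_cancel, mul_one,
          commutatorElement_def]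
        exact mul_mem ((Subgroup.mem_normalizer_iff.1 (hLM (hTL ht)) m).1 hm) (inv_mem hm)
    exact fun l hl => (hE hl).2
  refine ⟨le_antisymm ?_ (sup_le ?_ hMZ), le_antisymm ?_ (Subgroup.commutator_mono le_rfl hOL)⟩
  · refine hsup.trans (sup_le (fun z hz => ?_) le_sup_right)
    haveI := hZea.1
    obtain ⟨N, hN1, -, hN3, -⟩ := CfsgLib.Amalgam.exists_norm Z L (T : Subgroup H) hLZ
    set zz : ↥(Z ⊓ Subgroup.centralizer ((T : Subgroup H) : Set H)) :=
      ⟨z, Subgroup.mem_inf.2 ⟨hZT hz, fun t ht => hTfix z hz t ht⟩⟩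
    obtain ⟨h1, h2⟩ := Subgroup.mem_inf.1 (hN1 zz)
    have h3 := hN3 zz M hMZ (fun l hl => hcomm l hl z (hZT hz))
    refine CfsgLib.Amalgam.mem_of_pow_mem (hZea.2 z (hZT hz)) hTs.relIndex_not_dvd ?_
    have h4 : z ^ (T : Subgroup H).relIndex L = (N zz * (z ^ (T : Subgroup H).relIndex L)⁻¹)⁻¹ * N zz := by group
    rw [h4]
    exact mul_mem (Subgroup.mem_sup_right (inv_mem h3))
      (Subgroup.mem_sup_left (Subgroup.subset_closure ⟨Subgroup.mem_inf.2 ⟨hZL h1, h2⟩, hZea.2 _ h1⟩))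
  · intro x hx
    obtain ⟨hxL, hxc⟩ := Subgroup.mem_inf.1 (CfsgLib.PLocal.omegaOne_le p _ hx)
    have hxp : x ^ p = 1 := (CfsgLib.PLocal.omegaCenter_elemAb L).2 x hx
    have hxO : Subgroup.zpowers x ≤ Cfsg.pCoreOf p L := by
      refine CfsgLib.Amalgam.le_pCoreOf (Subgroup.zpowers_le.2 hxL) ?_
        (CfsgLib.PLocal.elemAb_isPGroup (CfsgLib.PLocal.elemAb_zpowers hxp))
      exact (Subgroup.le_centralizer_iff.1 (Subgroup.zpowers_le.2 hxc)).trans (Subgroup.centralizer_le_normalizer _)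
    exact hZT (CfsgLib.Amalgam.mem_omega_center_iff.2
      ⟨hTs.pCoreOf_le (hxO (Subgroup.mem_zpowers x)), fun t ht => hxc t (hTL ht), hxp⟩)
  · refine Subgroup.commutator_le.2 fun z hz l hl => ?_
    rw [← commutatorElement_inv]
    exact inv_mem (hcomm l hl z hz)

end Cfsg.Agent.S2823
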