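import Cfsg.Statements.S2824
import Cfsg.Agent.Lib.Amalgam.PReducedSubnormal

set_option autoImplicit false
open Cfsg

namespace Cfsg.Agent.S2824

/-- Let H be a finite group, p a prime, T a Sylow p-subgroup, L and M subgroups of characteristic p containing T, Y_L the largest p-reduced normal subgroup of L and T₀ = C_T(Y_L). If M·C_H(Y_L) = L·C_H(Y_L), then L* := N_M(T₀) has Y_{L*} = Y_L and L·C_H(Y_L) = L*·C_H(Y_L). -/
theorem result {H : Type*} [Group H] [Finite H] {p : ℕ} [Fact p.Prime] (T : Sylow p H) (L M : Subgroup H) (hTL : (T : Subgroup H) ≤ L) (hTM : (T : Subgroup H) ≤ M) (hL : Subgroup.centralizer (Cfsg.pCore p ↥L : Set ↥L) ≤ Cfsg.pCore p ↥L) (hM : Subgroup.centralizer (Cfsg.pCore p ↥M : Set ↥M) ≤ Cfsg.pCore p ↥M) (T₀ : Subgroup H) (hT₀ : T₀ = (T : Subgroup H) ⊓ Subgroup.centralizer (((Cfsg.largestPReducedOf p L) : Subgroup H) : Set H)) (hfac : M ⊔ Subgroup.centralizer (((Cfsg.largestPReducedOf p L) : Subgroup H) :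 Set H) = L ⊔ Subgroup.centralizer (((Cfsg.largestPReducedOf p L) : Subgroup H) : Set H)) (Ls : Subgroup H) (hLs : Ls = M ⊓ Subgroup.normalizer ((T₀ : Subgroup H) : Set H)) : (Cfsg.largestPReducedOf p Ls) = (Cfsg.largestPReducedOf p L) ∧ L ⊔ Subgroup.centralizer (((Cfsg.largestPReducedOf p L) : Subgroup H) : Set H) = Ls ⊔ Subgroup.centralizer (((Cfsg.largestPReducedOf p L) : Subgroup H) : Set H) := by
  obtain ⟨hY, -⟩ := CfsgLib.Amalgam.pRedIn_largest (p := p) L
  set Y := Cfsg.largestPReducedOf p L with hYdef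
  set C := Subgroup.centralizer (Y : Set H)
  have hTsL : CfsgLib.Amalgam.IsSylIn p L (T : Subgroup H) := (CfsgLib.Amalgam.isSylIn_top T).mono hTL le_top
  have hTsM : CfsgLib.Amalgam.IsSylIn p M (T : Subgroup H) := (CfsgLib.Amalgam.isSylIn_top T).mono hTM le_top
  have hchar := CfsgLib.Amalgam.charPElements_iff.2 hL
  have hMY : M ≤ Subgroup.normalizer (Y : Set H) :=
    (le_sup_left.trans hfac.le).trans (sup_le hY.2.1 (Subgroup.centralizer_le_normalizer _))
  have hCn : M ≤ Subgroup.normalizer (C : Set H) := CfsgLib.Amalgam.le_normalizer_centralizer' hMY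
  subst hT₀
  subst hLs
  set T₀ := (T : Subgroup H) ⊓ C
  set Ls := M ⊓ Subgroup.normalizer (T₀ : Set H)
  have hMC : M ≤ Subgroup.normalizer ((M ⊓ C : Subgroup H) : Set H) :=
    CfsgLib.Amalgam.normalizes_inf Subgroup.le_normalizer hCn
  have hT0 : CfsgLib.Amalgam.IsSylIn p (M ⊓ C) T₀ := by
    have := CfsgLib.Amalgam.isSylIn_inf_normal hTsM inf_le_left hMC
    rwa [← inf_assoc, inf_eq_left.2 hTM] at this
  have hTLs : (T : Subgroup H) ≤ Ls :=
    le_inf hTM (CfsgLib.Amalgam.normalizes_inf Subgroup.le_normalizer (hTM.trans hCn))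
  have hcov : M ≤ Ls ⊔ C := by
    intro m hm
    obtain ⟨c, hc, hcT⟩ := hT0.exists_conj (Q := T₀.map (MulAut.conj m).toMonoidHom)
      ⟨(Subgroup.map_mono hT0.1).trans (CfsgLib.Coprime.map_conj_of_mem_normalizer (hMC hm)).le,
        hT0.2.1.map _, by rw [CfsgLib.Coprime.card_map_conj, hT0.2.2]⟩
    have h : c⁻¹ * m ∈ Ls := Subgroup.mem_inf.2 ⟨mul_mem (inv_mem (Subgroup.mem_inf.1 hc).1) hm,
      CfsgLib.PLocal.mem_normalizer_map_conj.2 (by
        rw [← CfsgLib.Coprime.map_conj_conj, ← hcT, CfsgLib.Amalgam.map_conj_inv_cancel])⟩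
    have := mul_mem (Subgroup.mem_sup_right (S := Ls) (Subgroup.mem_inf.1 hc).2) (Subgroup.mem_sup_left (T := C) h)
    rwa [mul_inv_cancel_left] at this
  have hLsM : Ls ≤ M := inf_le_left
  have heq : L ⊔ C = Ls ⊔ C := by
    rw [← hfac]
    exact le_antisymm (sup_le hcov le_sup_right) (sup_le_sup_right hLsM C)
  refine ⟨le_antisymm ?_ ?_, heq⟩
  · obtain ⟨hY', -⟩ := CfsgLib.Amalgam.pRedIn_largest (p := p) Ls
    set Y' := Cfsg.largestPReducedOf p Ls
    have hY'T : Y' ≤ (T : Subgroup H) := hY'.le_pCoreOf.trans (hTsM.mono hTLs hLsM).pCoreOf_le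
    have hT0O : T₀ ≤ Cfsg.pCoreOf p Ls := CfsgLib.Amalgam.le_pCoreOf (inf_le_left.trans hTLs) inf_le_right
      (T.isPGroup'.to_le inf_le_left)
    have hY'c : Y' ≤ Subgroup.centralizer (T₀ : Set H) :=
      Subgroup.le_centralizer_iff.1 (hT0O.trans hY'.pCoreOf_le_centralizer)
    have hYT0 : Y ≤ T₀ := le_inf (hY.le_pCoreOf.trans hTsL.pCoreOf_le)
      (CfsgLib.PLocal.elemAb_le_centralizer hY.2.2.1)
    rw [hYdef, CfsgLib.Amalgam.largest_eq_omega_center hchar hTsL]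
    exact CfsgLib.PLocal.le_omegaOne hY'.2.2.1
      (le_inf (le_inf hY'T (hY'c.trans (Subgroup.centralizer_le hYT0))) hY'c)
  · exact (CfsgLib.Amalgam.pRedIn_largest Ls).2 _ (hY.transfer ((hY.le_pCoreOf.trans hTsL.pCoreOf_le).trans hTLs)
      (hLsM.trans hMY) (le_sup_left.trans heq.le) (le_sup_left.trans heq.ge))

end Cfsg.Agent.S2824
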