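import Cfsg.Statements.S2825
import Cfsg.Agent.Lib.Amalgam.PReducedSubnormal

set_option autoImplicit false
open Cfsg

namespace Cfsg.Agent.S2825

/-- Let L be a subnormal subgroup of the finite group H, p a prime, Y_H and Y_L the largest p-reduced normal subgroups. Then Y_H ∩ L = Y_H ∩ Y_L and this subgroup is a p-reduced normal subgroup of L; C_L(Y_L) = C_L(Y_H) = C_L(Y_H ∩ L); and if O^p(H) ≤ L, then [Y_L, L] = 1 if and only if [Y_H, H] = 1. -/
theorem result {H : Type*} [Group H] [Finite H] {p : ℕ} [Fact p.Prime] (L : Subgroup H) (hL : L.IsSubnormal) : Cfsg.largestPReduced p H ⊓ L = Cfsg.largestPReduced p H ⊓ (Cfsg.largestPReducedOf p L) ∧ Cfsg.IsPReducedNormal p ((Cfsg.largestPReduced p H ⊓ L).subgroupOf L) ∧ L ⊓ Subgroup.centralizer ((Cfsg.largestPReducedOf p L : Subgroup H) : Set H) = L ⊓ Subgroup.centralizer (Cfsg.largestPReduced p H : Set H) ∧ L ⊓ Subgroup.centralizer (Cfsg.largestPReduced p H : Set H) = L ⊓ Subgroup.centralizer ((Cfsg.largestPReduced p H ⊓ L : Subgroup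 H) : Set H) ∧ (Cfsg.pResidual p H ≤ L → (⁅(Cfsg.largestPReducedOf p L), L⁆ = ⊥ ↔ ⁅Cfsg.largestPReduced p H, (⊤ : Subgroup H)⁆ = ⊥)) := by
  rw [CfsgLib.Amalgam.largestPReduced_eq]
  set Y := Cfsg.largestPReducedOf p (⊤ : Subgroup H)
  obtain ⟨hY, -⟩ := CfsgLib.Amalgam.pRedIn_largest (p := p) (⊤ : Subgroup H)
  obtain ⟨hW, hCW⟩ := CfsgLib.Amalgam.pRedIn_inf_subnormal hY hL
  have hWL : Y ⊓ L ≤ Cfsg.largestPReducedOf p L := (CfsgLib.Amalgam.pRedIn_largest L).2 _ hW
  have hC : L ⊓ Subgroup.centralizer (Y : Set H) ≤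
      Subgroup.centralizer (Cfsg.largestPReducedOf p L : Set H) := by
    clear hW hCW hWL
    induction hL with
    | top => exact inf_le_right
    | step L K hle _ hN ih =>
      refine le_trans (le_inf inf_le_left ?_)
        (CfsgLib.Amalgam.centralizer_largest_le hle ((Subgroup.normal_subgroupOf_iff_le_normalizer hle).1 hN))
      exact (inf_le_inf_right _ hle).trans ih
  have hCeq : L ⊓ Subgroup.centralizer ((Cfsg.largestPReducedOf p L : Subgroup H) : Set H) =
      L ⊓ Subgroup.centralizer (Y : Set H) :=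
    le_antisymm ((inf_le_inf_left L (Subgroup.centralizer_le hWL)).trans hCW.le) (le_inf inf_le_left hC)
  refine ⟨le_antisymm (le_inf inf_le_left hWL)
      (inf_le_inf_left Y (CfsgLib.Amalgam.pRedIn_largest L).1.1), ?_, hCeq, hCW.symm, fun hO => ?_⟩
  · rw [CfsgLib.Amalgam.isPReducedNormal_iff_pRedIn, Subgroup.subgroupOf_map_subtype, inf_eq_left.2 inf_le_right]
    exact hW
  · rw [Subgroup.commutator_eq_bot_iff_le_centralizer, Subgroup.commutator_eq_bot_iff_le_centralizer]
    constructor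
    · intro h
      refine Subgroup.le_centralizer_iff.1 (hY.2.2.2 ⊤ le_rfl (by rw [Subgroup.normalizer_eq_top]) ?_)
      haveI := CfsgLib.Transfer.pResidual_normal (G := H) (p := p)
      have hle : Cfsg.pResidual p H ≤ Subgroup.centralizer (Y : Set H) :=
        (le_inf le_rfl le_rfl).trans ((inf_le_inf hO (hO.trans (Subgroup.le_centralizer_iff.1 h))).trans
          (hCeq.le.trans inf_le_right))
      intro x _
      obtain ⟨k, hk⟩ := CfsgLib.Transfer.isPGroup_quotient_of_pResidual_le (le_refl (Cfsg.pResidual p H))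
        (QuotientGroup.mk' _ x)
      rw [← map_pow] at hk
      exact ⟨k, hle ((QuotientGroup.eq_one_iff _).1 hk)⟩
    · intro h
      exact Subgroup.le_centralizer_iff.1
        ((le_inf le_rfl (le_top.trans (Subgroup.le_centralizer_iff.1 h))).trans (hCeq.ge.trans inf_le_right))

end Cfsg.Agent.S2825
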