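import Cfsg.Statements.S2826
import Cfsg.Agent.Lib.Amalgam.PReducedSubnormal

set_option autoImplicit false
open Cfsg

namespace Cfsg.Agent.S2826

open scoped commutatorElement
/-- Let H be a finite group of characteristic p, T a Sylow p-subgroup, and V a normal elementary abelian p-subgroup of H containing Ω₁(Z(T)). Then C_H(Ω₁(Z(T))) = C_H([V, O^p(H)] ∩ Ω₁(Z(T))), O^p(H) being generated by the elements of order prime to p. -/
theorem result {H : Type*} [Group H] [Finite H] {p : ℕ} [Fact p.Prime] (hH : Subgroup.centralizer (Cfsg.pCore p H : Set H) ≤ Cfsg.pCore p H) (T : Sylow p H) (V : Subgroup H) [V.Normal] (hV : Cfsg.IsElementaryAbelian p V) (hZV : (Cfsg.omegaOne p ((T : Subgroup H) ⊓ Subgroup.centralizer (((T : Subgroup H) : Subgroup H) : Set H))) ≤ V) : Subgroup.centralizer ((Cfsg.omegaOne p ((T : Subgroup H) ⊓ Subgroup.centralizer (((T : Subgroup H) : Subgroup H) : Set H))) : Set H) = Subgroup.centralizer (((⁅V, Cfsg.pResidual p H⁆ ⊓ (Cfsg.omegaOne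 p ((T : Subgroup H) ⊓ Subgroup.centralizer (((T : Subgroup H) : Subgroup H) : Set H)))) : Subgroup H) : Set H) := by
  haveI := hV.1
  set Z := Cfsg.omegaOne p ((T : Subgroup H) ⊓ Subgroup.centralizer ((T : Subgroup H) : Set H))
  set O := Cfsg.pResidual p H
  set W := ⁅V, O⁆
  set R := Subgroup.centralizer ((W ⊓ Z : Subgroup H) : Set H)
  refine le_antisymm (Subgroup.centralizer_le inf_le_right) (Subgroup.le_centralizer_iff.1 ?_)
  have hOn : O.Normal := CfsgLib.Transfer.pResidual_normal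
  have hZc : ∀ z ∈ Z, ∀ t ∈ (T : Subgroup H), t * z = z * t := fun z hz t ht =>
    (CfsgLib.Amalgam.mem_omega_center_iff.1 hz).2.1 t ht
  have hTR : (T : Subgroup H) ≤ R := fun t ht w hw => (hZc w (Subgroup.mem_inf.1 hw).2 t ht).symm
  have hWn : W.Normal := Subgroup.commutator_normal V O
  have hWV : W ≤ V := Subgroup.commutator_le_left V O
  have hTs : CfsgLib.Amalgam.IsSylIn p R (T : Subgroup H) := (CfsgLib.Amalgam.isSylIn_top T).mono hTR le_top
  obtain ⟨N, hN1, -, hN3, -⟩ := CfsgLib.Amalgam.exists_norm V R (T : Subgroup H)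
    (CfsgLib.Comp.le_normalizer_of_normal' V R)
  intro z hz
  refine CfsgLib.Amalgam.mem_of_pow_mem (hV.2 z (hZV hz)) hTs.relIndex_not_dvd ?_
  set zz : ↥(V ⊓ Subgroup.centralizer ((T : Subgroup H) : Set H)) :=
    ⟨z, Subgroup.mem_inf.2 ⟨hZV hz, hZc z hz⟩⟩
  have hr : ∀ r ∈ R, ⁅r, z⁆ ∈ W := by
    intro r _
    have hr' : r ∈ O ⊔ (T : Subgroup H) := by
      rw [CfsgLib.Transfer.pResidual_sup_sylow T]; trivial
    obtain ⟨o, ho, t, ht, rfl⟩ := Subgroup.mem_sup_of_normal_left.1 hr'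
    rw [show ⁅o * t, z⁆ = o * ⁅t, z⁆ * o⁻¹ * ⁅o, z⁆ by simp only [commutatorElement_def]; group,
      commutatorElement_eq_one_iff_mul_comm.2 (hZc z hz t ht), mul_one, mul_inv_cancel, one_mul,
      ← commutatorElement_inv]
    exact inv_mem (Subgroup.commutator_mem_commutator (hZV hz) ho)
  have h3 := hN3 zz W hWV hr
  obtain ⟨h1, h2⟩ := Subgroup.mem_inf.1 (hN1 zz)
  set k := (T : Subgroup H).relIndex R
  set m := N zz * (z ^ k)⁻¹
  have hmT : m ∈ Subgroup.centralizer ((T : Subgroup H) : Set H) :=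
    mul_mem (Subgroup.centralizer_le hTR h2) (inv_mem (pow_mem (show z ∈ Subgroup.centralizer ((T : Subgroup H) : Set H) from hZc z hz) k))
  have hmV : m ∈ V := hWV h3
  have hmp : m ^ p = 1 := hV.2 m hmV
  have hmTm : m ∈ (T : Subgroup H) :=
    ((CfsgLib.Solvable.le_pCore ‹V.Normal› (CfsgLib.PLocal.elemAb_isPGroup hV)).trans
      (CfsgLib.Solvable.pCore_le_sylow T)) hmV
  have hm : m ∈ Subgroup.centralizer (R : Set H) := fun r hr' =>
    (hr' m (Subgroup.mem_inf.2 ⟨h3, CfsgLib.Amalgam.mem_omega_center_iff.2 ⟨hmTm, hmT, hmp⟩⟩)).symm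
  rw [show z ^ k = m⁻¹ * N zz by simp only [m]; group]
  exact mul_mem (inv_mem hm) h2

end Cfsg.Agent.S2826
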