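import Cfsg.Statements.S2827
import Cfsg.Agent.Lib.Amalgam.PIrred

set_option autoImplicit false
open Cfsg

namespace Cfsg.Agent.S2827

open scoped commutatorElement
/-- Let H be a finite p-irreducible group (not p-closed, and O^p(H) lies in every normal subgroup that is not p-closed) and T a Sylow p-subgroup. Then H is generated by the conjugates of T and H = H'·T; O^p(H) ≤ H'; and for every normal subgroup Y of T not contained in O_p(H), O^p(H) = [O^p(H), Y] and O^p(H) is contained in the normal closure of Y in H. -/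
theorem result {H : Type*} [Group H] [Finite H] {p : ℕ} [Fact p.Prime] (hH : Cfsg.IsPIrreducible p H) (T : Sylow p H) : Subgroup.normalClosure ((T : Subgroup H) : Set H) = ⊤ ∧ commutator H ⊔ (T : Subgroup H) = ⊤ ∧ Cfsg.pResidual p H ≤ commutator H ∧ ∀ Y : Subgroup H, Y ≤ (T : Subgroup H) → (T : Subgroup H) ≤ Subgroup.normalizer (Y : Set H) → ¬ Y ≤ Cfsg.pCore p H → ⁅Cfsg.pResidual p H, Y⁆ = Cfsg.pResidual p H ∧ Cfsg.pResidual p H ≤ Subgroup.normalClosure (Y : Set H) := by
  have hne : ∀ N : Subgroup H, N.Normal → (T : Subgroup H) ≤ N → ¬ Cfsg.IsPClosed p N := by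
    intro N hN hTN hc
    have := hN
    refine hH.1 (CfsgLib.Amalgam.isPClosed_iff.2 fun Q hQ => ?_)
    obtain ⟨P, hP⟩ := hQ.exists_le_sylow
    have hT := (CfsgLib.Amalgam.isPClosed_normal_iff N).1 hc _ T.isPGroup' hTN
    have hTn : ((T : Subgroup H)).Normal := by
      rw [← T.3 (CfsgLib.Solvable.pCore_isPGroup p) hT]; exact CfsgLib.Solvable.pCore_normal p H
    refine le_trans (hP.trans ?_) hT
    obtain ⟨g, rfl⟩ := MulAction.exists_smul_eq H T P
    rw [Sylow.smul_eq_of_normal]
  have hR := CfsgLib.Transfer.pResidual_normal (G := H) (p := p)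
  have hRT := CfsgLib.Transfer.pResidual_sup_sylow T
  have htop : ∀ N : Subgroup H, N.Normal → (T : Subgroup H) ≤ N → N = ⊤ := by
    intro N hN hTN
    rw [eq_top_iff, ← hRT]
    exact sup_le (hH.2 N hN (hne N hN hTN)) hTN
  have h2 : commutator H ⊔ (T : Subgroup H) = ⊤ :=
    htop _ ⟨fun n hn g => by
      rw [show g * n * g⁻¹ = ⁅g, n⁆ * n by rw [commutatorElement_def]; group]
      exact mul_mem (Subgroup.mem_sup_left (Subgroup.commutator_mem_commutator (Subgroup.mem_top g) (Subgroup.mem_top n))) hn⟩ le_sup_right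
  refine ⟨htop _ Subgroup.normalClosure_normal Subgroup.subset_normalClosure, h2, ?_, ?_⟩
  · apply CfsgLib.Transfer.pResidual_le_of_isPGroup_quotient
    have h3 := congrArg (Subgroup.map (QuotientGroup.mk' (commutator H))) h2
    rw [Subgroup.map_sup, QuotientGroup.map_mk'_self, bot_sup_eq,
      Subgroup.map_top_of_surjective _ (QuotientGroup.mk'_surjective _)] at h3
    exact (h3 ▸ T.isPGroup'.map _).of_equiv Subgroup.topEquiv
  · intro Y hYT hTY hY
    have hncl : Cfsg.pResidual p H ≤ Subgroup.normalClosure (Y : Set H) :=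
      hH.2 _ Subgroup.normalClosure_normal fun hc =>
        hY ((CfsgLib.Amalgam.isPClosed_normal_iff _).1 hc Y (T.isPGroup'.to_le hYT) Subgroup.subset_normalClosure)
    refine ⟨?_, hncl⟩
    set R := Cfsg.pResidual p H
    set M := ⁅R, Y⁆
    have hMR : M ≤ R := Subgroup.commutator_le_left R Y
    have hMn : M.Normal := by
      refine CfsgLib.Comp.normal_of_top_le_normalizer ?_
      rw [← hRT]
      refine sup_le ?_ fun t ht => ?_
      · exact Subgroup.normalizer_commutator_ge_left R Y
      · apply CfsgLib.PLocal.mem_normalizer_map_conj.2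
        rw [Subgroup.map_commutator, CfsgLib.Coprime.map_conj_of_mem_normalizer (hTY ht),
          CfsgLib.Coprime.map_conj_of_mem_normalizer (CfsgLib.PLocal.le_normalizer_of_normal (T : Subgroup H) R ht)]
    have hYM : (Y ⊔ M).Normal := by
      refine CfsgLib.Comp.normal_of_top_le_normalizer ?_
      rw [← hRT]
      refine sup_le (fun o ho => ?_) (CfsgLib.Comp.le_normalizer_sup hTY (CfsgLib.Comp.le_normalizer_of_normal' M _))
      apply CfsgLib.PLocal.mem_normalizer_map_conj.2
      refine Subgroup.eq_of_le_of_card_ge ?_ (CfsgLib.Coprime.card_map_conj o _).ge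
      rw [Subgroup.map_sup]
      refine sup_le ?_ ?_
      · rintro _ ⟨y, hy, rfl⟩
        show o * y * o⁻¹ ∈ _
        rw [show o * y * o⁻¹ = ⁅o, y⁆ * y by rw [commutatorElement_def]; group]
        exact mul_mem (Subgroup.mem_sup_right (Subgroup.commutator_mem_commutator ho hy)) (Subgroup.mem_sup_left hy)
      · rintro _ ⟨m, hm, rfl⟩
        exact Subgroup.mem_sup_right (hMn.conj_mem m hm o)
    have hR' : R ≤ Y ⊔ M := hncl.trans (Subgroup.normalClosure_le_normal (fun x hx => Subgroup.mem_sup_left hx))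
    refine le_antisymm hMR (CfsgLib.Transfer.pResidual_le_of_isPGroup_quotient ?_)
    have h3 : Subgroup.map (QuotientGroup.mk' M) ⊤ ≤ Subgroup.map (QuotientGroup.mk' M) (T : Subgroup H) := by
      rw [← hRT, Subgroup.map_sup]
      refine sup_le ((Subgroup.map_mono hR').trans ?_) le_rfl
      rw [Subgroup.map_sup, QuotientGroup.map_mk'_self, sup_bot_eq]
      exact Subgroup.map_mono hYT
    rw [Subgroup.map_top_of_surjective _ (QuotientGroup.mk'_surjective _)] at h3
    exact ((T.isPGroup'.map _).to_le h3).of_equiv Subgroup.topEquiv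

end Cfsg.Agent.S2827
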