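import Cfsg.Statements.S2828
import Cfsg.Agent.Lib.Amalgam.PIrred

set_option autoImplicit false
open Cfsg

namespace Cfsg.Agent.S2828

/-- Let H be a finite group, p a prime and D a normal p-subgroup of H. Then H is p-irreducible if and only if H/D is p-irreducible, and H is strongly p-irreducible if and only if H/D is strongly p-irreducible. -/
theorem result {H : Type*} [Group H] [Finite H] {p : ℕ} [Fact p.Prime] (D : Subgroup H) [D.Normal] (hD : IsPGroup p ↥D) : (Cfsg.IsPIrreducible p H ↔ Cfsg.IsPIrreducible p (H ⧸ D)) ∧ (Cfsg.IsStronglyPIrreducible p H ↔ Cfsg.IsStronglyPIrreducible p (H ⧸ D)) := by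
  have hDO : D ≤ Cfsg.pCore p H := CfsgLib.Solvable.le_pCore ‹D.Normal› hD
  have hsurj := QuotientGroup.mk'_surjective D
  have hcl := CfsgLib.Amalgam.isPClosed_quotient_iff D hD
  refine ⟨⟨?_, ?_⟩, ⟨?_, ?_⟩⟩
  · rintro ⟨h1, h2⟩
    refine ⟨fun h => h1 (hcl.1 h), fun N hN hNc => ?_⟩
    have := hN
    exact (CfsgLib.Amalgam.pResidual_quotient_le_iff D N).2
      (h2 _ (hN.comap _) fun h => hNc ((CfsgLib.Amalgam.isPClosed_comap_iff D hD N).1 h))
  · rintro ⟨h1, h2⟩
    refine ⟨fun h => h1 (hcl.2 h), fun N hN hNc => ?_⟩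
    have := hN
    have hN' : (N.map (QuotientGroup.mk' D)).Normal := hN.map _ hsurj
    refine CfsgLib.Amalgam.pResidual_le_of_le_sup hD ?_
    have h3 := (CfsgLib.Amalgam.pResidual_quotient_le_iff D (N.map (QuotientGroup.mk' D))).1
      (h2 _ hN' fun h => hNc ?_)
    · rwa [Subgroup.comap_map_eq, QuotientGroup.ker_mk'] at h3
    · rw [CfsgLib.Amalgam.isPClosed_normal_iff]
      intro Q hQ hQN
      exact (CfsgLib.Amalgam.isPClosed_normal_iff _).1 ((CfsgLib.Amalgam.isPClosed_comap_iff D hD _).2 h) Q hQ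
        (hQN.trans (Subgroup.le_comap_map _ _))
  · rintro ⟨h1, h2⟩
    refine ⟨fun h => h1 (hcl.1 h), fun N hN hNc => ?_⟩
    have := hN
    refine (CfsgLib.Amalgam.pResidual_quotient_le_iff D N).2 (h2 _ (hN.comap _) fun h => hNc ?_)
    have h4 := Subgroup.map_mono (f := QuotientGroup.mk' D) h
    rwa [Subgroup.map_commutator, Subgroup.map_comap_eq_self_of_surjective hsurj,
      Subgroup.map_top_of_surjective _ hsurj, CfsgLib.Amalgam.map_pCore_of_isPGroup_ker D hD] at h4
  · rintro ⟨h1, h2⟩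
    refine ⟨fun h => h1 (hcl.2 h), fun N hN hNc => ?_⟩
    have := hN
    have hN' : (N.map (QuotientGroup.mk' D)).Normal := hN.map _ hsurj
    refine CfsgLib.Amalgam.pResidual_le_of_le_sup hD ?_
    have h3 := (CfsgLib.Amalgam.pResidual_quotient_le_iff D (N.map (QuotientGroup.mk' D))).1
      (h2 _ hN' fun h => hNc ?_)
    · rwa [Subgroup.comap_map_eq, QuotientGroup.ker_mk'] at h3
    · rw [← Subgroup.map_top_of_surjective _ hsurj, ← Subgroup.map_commutator,
        Subgroup.map_le_iff_le_comap, CfsgLib.Amalgam.comap_pCore_of_isPGroup_ker D hD] at h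
      exact h

end Cfsg.Agent.S2828
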