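import Cfsg.Statements.S2829
import Cfsg.Agent.Lib.Amalgam.PIrred

set_option autoImplicit false
open Cfsg

namespace Cfsg.Agent.S2829

open scoped commutatorElement
/-- Every strongly p-irreducible finite group is p-irreducible. -/
theorem result {H : Type*} [Group H] [Finite H] {p : ℕ} [Fact p.Prime] (hH : Cfsg.IsStronglyPIrreducible p H) : Cfsg.IsPIrreducible p H := by
  refine ⟨hH.1, fun N hN hNc => hH.2 N hN fun hc => hNc ?_⟩
  rw [CfsgLib.Amalgam.isPClosed_normal_iff]
  intro Q hQ hQN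
  have hO := CfsgLib.Solvable.pCore_normal p H
  have hn : (Q ⊔ Cfsg.pCore p H).Normal := by
    refine CfsgLib.Comp.normal_of_top_le_normalizer fun g _ => ?_
    apply CfsgLib.PLocal.mem_normalizer_map_conj.2
    refine Subgroup.eq_of_le_of_card_ge ?_ (CfsgLib.Coprime.card_map_conj g _).ge
    rw [Subgroup.map_sup]
    refine sup_le ?_ ?_
    · rintro _ ⟨q, hq, rfl⟩
      have h1 : ⁅q, g⁆ ∈ Cfsg.pCore p H := hc (Subgroup.commutator_mem_commutator (hQN hq) (Subgroup.mem_top g))
      show g * q * g⁻¹ ∈ _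
      rw [show g * q * g⁻¹ = ⁅q, g⁆⁻¹ * q by rw [commutatorElement_def]; group]
      exact mul_mem (Subgroup.mem_sup_right (inv_mem h1)) (Subgroup.mem_sup_left hq)
    · rintro _ ⟨q, hq, rfl⟩
      exact Subgroup.mem_sup_right (hO.conj_mem q hq g)
  exact le_sup_left.trans (CfsgLib.Solvable.le_pCore hn
    (hQ.to_sup_of_normal_right (CfsgLib.Solvable.pCore_isPGroup p)))

end Cfsg.Agent.S2829
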