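import Cfsg.Statements.S2830
import Cfsg.Agent.Lib.Amalgam.PIrred
import Cfsg.Agent.Lib.Comp.Normalize

set_option autoImplicit false
open Cfsg

namespace Cfsg.Agent.S2830

/-- Let H act by conjugation on the elementary abelian p-subgroup V of a finite group G (H ≤ N(V)), with H p-irreducible and O^p(H) not centralizing V. Then C_H(V) is p-closed and C_T(V) ≤ O_p(H) for every p-subgroup T of H. If in addition O_p(H) centralizes V, then C_T(V) = T ∩ O_p(H) for every p-subgroup T of H, and V is p-reduced for H: O_p(H/C_H(V)) = 1. -/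
theorem result {G : Type*} [Group G] [Finite G] {p : ℕ} [Fact p.Prime] (V H : Subgroup G) (hV : Cfsg.IsElementaryAbelian p V) (hHV : H ≤ Subgroup.normalizer (V : Set G)) (hH : Cfsg.IsPIrreducible p ↥H) (hnc : ¬ (Cfsg.pResidual p ↥H).map H.subtype ≤ Subgroup.centralizer (V : Set G)) [hn : ((Subgroup.centralizer (V : Set G)).subgroupOf H).Normal] : Cfsg.IsPClosed p ↥(H ⊓ Subgroup.centralizer (V : Set G)) ∧ (∀ T : Subgroup G, T ≤ H → IsPGroup p ↥T → T ⊓ Subgroup.centralizer (V : Set G) ≤ Cfsg.pCoreOf p H) ∧ (Cfsg.pCoreOf p H ≤ Subgroup.centralizer (V : Set G) → (∀ T : Subgroup G, T ≤ H → IsPGroup p ↥T → T ⊓ Subgroup.centralizer (V : Set G) = T ⊓ Cfsg.pCoreOf p H) ∧ Cfsg.pCore p (↥H ⧸ (Subgroup.centralizer (V : Set G)).subgroupOf H) = ⊥) := by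
  set C := Subgroup.centralizer (V : Set G)
  set C' := C.subgroupOf H
  have hcl : Cfsg.IsPClosed p C' := by
    by_contra h
    exact hnc (Subgroup.map_le_iff_le_comap.2 (hH.2 C' hn h))
  have hC' := (CfsgLib.Amalgam.isPClosed_normal_iff C').1 hcl
  have hT : ∀ T : Subgroup G, T ≤ H → IsPGroup p ↥T → T ⊓ C ≤ Cfsg.pCoreOf p H := by
    intro T hTH hT x hx
    have h1 := hC' ((T ⊓ C).subgroupOf H)
      (((hT.to_le inf_le_left)).of_equiv (Subgroup.subgroupOfEquivOfLe (inf_le_left.trans hTH)).symm)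
      (fun y hy => (Subgroup.mem_inf.1 hy).2) (show (⟨x, hTH hx.1⟩ : H) ∈ _ from hx)
    exact ⟨_, h1, rfl⟩
  refine ⟨?_, hT, fun hO => ⟨fun T hTH hTp => ?_, ?_⟩⟩
  · refine CfsgLib.Amalgam.isPClosed_of_forall_le (R := Cfsg.pCoreOf p H)
      ((CfsgLib.Solvable.pCore_isPGroup p).map _) ?_ fun Q hQ hQK => ?_
    · intro x hx
      apply CfsgLib.PLocal.mem_normalizer_map_conj.2
      refine Subgroup.eq_of_le_of_card_ge ?_ (CfsgLib.Coprime.card_map_conj x _).ge
      rintro _ ⟨_, ⟨y, hy, rfl⟩, rfl⟩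
      exact ⟨_, (CfsgLib.Solvable.pCore_normal p H).conj_mem y hy ⟨x, hx.1⟩, rfl⟩
    · exact (le_inf le_rfl (hQK.trans inf_le_right)).trans (hT Q (hQK.trans inf_le_left) hQ)
  · exact le_antisymm (le_inf inf_le_left (hT T hTH hTp)) (le_inf inf_le_left (inf_le_right.trans hO))
  · set K := (Cfsg.pCore p (H ⧸ C')).comap (QuotientGroup.mk' C')
    have := CfsgLib.Solvable.pCore_normal p (H ⧸ C')
    have hKn : K.Normal := inferInstance
    have hCK : C' ≤ K := by
      rw [← QuotientGroup.ker_mk' C', ← MonoidHom.comap_bot]; exact Subgroup.comap_mono bot_le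
    have hKp : IsPGroup p (K.map (QuotientGroup.mk' C')) := by
      rw [Subgroup.map_comap_eq_self_of_surjective (QuotientGroup.mk'_surjective C')]
      exact CfsgLib.Solvable.pCore_isPGroup p
    by_cases hKc : Cfsg.IsPClosed p K
    · obtain ⟨P⟩ : Nonempty (Sylow p H) := inferInstance
      have hK1 : K ≤ C' ⊔ ((P : Subgroup H) ⊓ K) :=
        CfsgLib.PLocal.normal_pGroup_quotient_le P hCK (CfsgLib.PLocal.pCore_comap_relIndex C')
      have hK2 : (P : Subgroup H) ⊓ K ≤ C' :=
        ((CfsgLib.Amalgam.isPClosed_normal_iff K).1 hKc _ (P.isPGroup'.to_le inf_le_left) inf_le_right).trans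
          (fun x hx => hO ⟨x, hx, rfl⟩)
      rw [← Subgroup.map_comap_eq_self_of_surjective (QuotientGroup.mk'_surjective C') (Cfsg.pCore p _),
        eq_bot_iff]
      refine (Subgroup.map_mono (hK1.trans (sup_le le_rfl hK2))).trans ?_
      rw [QuotientGroup.map_mk'_self]
    · refine absurd (Subgroup.map_le_iff_le_comap.2 ?_) hnc
      show Cfsg.pResidual p H ≤ C'
      apply CfsgLib.Transfer.pResidual_le_of_isPGroup_quotient
      have hq := CfsgLib.Transfer.isPGroup_quotient_of_pResidual_le (hH.2 K hKn hKc)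
      intro q
      obtain ⟨x, rfl⟩ := QuotientGroup.mk'_surjective C' q
      obtain ⟨k, hk⟩ := hq (QuotientGroup.mk' K x)
      rw [← map_pow, QuotientGroup.mk'_apply, QuotientGroup.eq_one_iff] at hk
      obtain ⟨j, hj⟩ := CfsgLib.Solvable.pCore_isPGroup p ⟨_, hk⟩
      refine ⟨k + j, ?_⟩
      rw [pow_add, pow_mul, ← map_pow]
      simpa using congrArg Subtype.val hj

end Cfsg.Agent.S2830
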