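import Cfsg.Statements.S2831
import Cfsg.Agent.Lib.Amalgam.PIrred

set_option autoImplicit false
open Cfsg

namespace Cfsg.Agent.S2831

/-- Let H be a finite group with Sylow p-subgroup T such that H is T-minimal (H is generated by the conjugates of T and T lies in exactly one maximal subgroup of H). Then H is p-irreducible: H is not p-closed and O^p(H) lies in every normal subgroup of H that is not p-closed. -/
theorem result {H : Type*} [Group H] [Finite H] {p : ℕ} [Fact p.Prime] (T : Sylow p H) (hmin : Cfsg.IsMinimalOver (T : Subgroup H)) : Cfsg.IsPIrreducible p H := by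
  obtain ⟨hncl, M, ⟨hM, hTM⟩, huniq⟩ := hmin
  have hle : ∀ X : Subgroup H, (T : Subgroup H) ≤ X → X ≠ ⊤ → X ≤ M := by
    intro X hX hne
    obtain ⟨M', hM', hXM'⟩ := (eq_top_or_exists_le_coatom X).resolve_left hne
    rwa [← huniq M' ⟨hM', hX.trans hXM'⟩]
  refine ⟨fun hc => ?_, fun N hN hNc => ?_⟩
  · have := hc T
    rw [Subgroup.normalClosure_eq_self] at hncl
    exact hM.1 (top_le_iff.1 (hncl.ge.trans hTM))
  · have := hN
    by_cases hNT : N ⊔ (T : Subgroup H) = ⊤
    · apply CfsgLib.Transfer.pResidual_le_of_isPGroup_quotient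
      have h3 := congrArg (Subgroup.map (QuotientGroup.mk' N)) hNT
      rw [Subgroup.map_sup, QuotientGroup.map_mk'_self, bot_sup_eq,
        Subgroup.map_top_of_surjective _ (QuotientGroup.mk'_surjective _)] at h3
      exact (h3 ▸ T.isPGroup'.map _).of_equiv Subgroup.topEquiv
    · exfalso
      set S := (T : Subgroup H) ⊓ N
      have hSn : ¬ S.Normal := fun hSn => hNc ((CfsgLib.Amalgam.isPClosed_normal_iff N).2 fun Q hQ hQN => by
        obtain ⟨P, hP⟩ := hQ.exists_le_sylow
        obtain ⟨g, rfl⟩ := MulAction.exists_smul_eq H T P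
        intro q hq
        have h1 : q ∈ ((g • T : Sylow p H) : Subgroup H) := hP hq
        rw [Sylow.coe_subgroup_smul, Subgroup.mem_pointwise_smul_iff_inv_smul_mem] at h1
        have h2 : g⁻¹ * q * g ∈ S := Subgroup.mem_inf.2 ⟨by simpa using h1, by
          simpa using hN.conj_mem q (hQN hq) g⁻¹⟩
        have h3 := CfsgLib.Solvable.le_pCore hSn (T.isPGroup'.to_le inf_le_left) h2
        have h4 := (CfsgLib.Solvable.pCore_normal p H).conj_mem _ h3 g
        simpa [mul_assoc] using h4)
      have hTn : (T : Subgroup H) ≤ Subgroup.normalizer (S : Set H) :=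
        (le_inf Subgroup.le_normalizer (CfsgLib.Comp.le_normalizer_of_normal' N _)).trans
          Subgroup.inf_normalizer_le_normalizer_inf
      have h1 := CfsgLib.PLocal.frattini_sup T N
      refine hM.1 (top_le_iff.1 (h1.ge.trans (sup_le ?_ ?_)))
      · exact le_sup_left.trans (hle _ le_sup_right hNT)
      · exact hle _ hTn fun h => hSn (CfsgLib.Comp.normal_of_top_le_normalizer h.ge)

end Cfsg.Agent.S2831
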