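import Cfsg.Statements.S2832
import Cfsg.Agent.Lib.Amalgam.PIrred

set_option autoImplicit false
open Cfsg

namespace Cfsg.Agent.S2832

/-- Let H be a finite group with Sylow p-subgroup T such that H is T-minimal (generated by the conjugates of T, with T in exactly one maximal subgroup), and let N be a normal subgroup of H. Then either H/N is a p-group or H/N is minimal over the image of T in the same sense. -/
theorem result {H : Type*} [Group H] [Finite H] {p : ℕ} [Fact p.Prime] (T : Sylow p H) (hmin : Cfsg.IsMinimalOver (T : Subgroup H)) (N : Subgroup H) [N.Normal] : IsPGroup p (H ⧸ N) ∨ Cfsg.IsMinimalOver ((T : Subgroup H).map (QuotientGroup.mk' N)) := by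
  obtain ⟨hncl, M, ⟨hM, hTM⟩, huniq⟩ := hmin
  set f := QuotientGroup.mk' N
  have hsurj : Function.Surjective f := QuotientGroup.mk'_surjective N
  by_cases hNT : N ⊔ (T : Subgroup H) = ⊤
  · left
    have h3 := congrArg (Subgroup.map f) hNT
    rw [Subgroup.map_sup, QuotientGroup.map_mk'_self, bot_sup_eq, Subgroup.map_top_of_surjective _ hsurj] at h3
    exact (h3 ▸ T.isPGroup'.map _).of_equiv Subgroup.topEquiv
  · right
    have hNM : N ≤ M := by
      obtain ⟨M', hM', hXM'⟩ := (eq_top_or_exists_le_coatom _).resolve_left hNT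
      exact huniq M' ⟨hM', le_sup_right.trans hXM'⟩ ▸ le_sup_left.trans hXM'
    have hback : ∀ X : Subgroup (H ⧸ N), IsCoatom X → IsCoatom (X.comap f) := fun X hX =>
      ⟨fun h => hX.1 (by rw [← Subgroup.map_comap_eq_self_of_surjective hsurj X, h,
        Subgroup.map_top_of_surjective _ hsurj]), fun Y hY => by
        have hker : f.ker ≤ Y := le_trans (Subgroup.ker_le_comap f X) hY.le
        have : X < Y.map f := lt_of_le_of_ne
          ((Subgroup.map_comap_eq_self_of_surjective hsurj X).ge.trans (Subgroup.map_mono hY.le))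
          fun h => hY.ne (by rw [h, Subgroup.comap_map_eq_self hker])
        rw [← Subgroup.comap_map_eq_self hker, hX.2 _ this, Subgroup.comap_top]⟩
    refine ⟨?_, M.map f, ⟨⟨?_, ?_⟩, Subgroup.map_mono hTM⟩, ?_⟩
    · rw [Subgroup.coe_map, ← Subgroup.map_normalClosure _ f hsurj, hncl, Subgroup.map_top_of_surjective _ hsurj]
    · intro h
      apply hM.1
      rw [← Subgroup.comap_map_eq_self (show f.ker ≤ M by rwa [QuotientGroup.ker_mk']), h, Subgroup.comap_top]
    · intro Y hY
      have h1 : M < Y.comap f := lt_of_le_of_ne (Subgroup.map_le_iff_le_comap.1 hY.le) fun h => hY.ne (by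
        rw [h, Subgroup.map_comap_eq_self_of_surjective hsurj])
      rw [← Subgroup.map_comap_eq_self_of_surjective hsurj Y, hM.2 _ h1, Subgroup.map_top_of_surjective _ hsurj]
    · rintro X ⟨hX, hTX⟩
      rw [← huniq _ ⟨hback X hX, Subgroup.map_le_iff_le_comap.1 hTX⟩,
        Subgroup.map_comap_eq_self_of_surjective hsurj]

end Cfsg.Agent.S2832
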