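import Cfsg.Statements.S2833
import Cfsg.Agent.Lib.Comp.Normalize
import Cfsg.Agent.Lib.Coprime.Basic

set_option autoImplicit false
open Cfsg
open scoped commutatorElement

namespace Cfsg.Agent.S2833

/-- Let V be a subgroup of a finite group G normalized by the subgroup L, let X ≤ L and g ∈ L with [V, X, X] = 1 and L generated by X and gXg⁻¹. Put W = [V, L]. Then W = [V, X]·[V, gXg⁻¹], C_W(X) = [V, X], and C_W(L) = [V, X] ∩ [V, gXg⁻¹]. -/
theorem result {G : Type*} [Group G] [Finite G] (V L : Subgroup G) (hLV : L ≤ Subgroup.normalizer (V : Set G)) (X : Subgroup G) (hX : X ≤ L) (g : G) (hg : g ∈ L) (hq : ⁅⁅V, X⁆, X⁆ = ⊥) (hgen : X ⊔ X.map (MulAut.conj g).toMonoidHom = L) (W : Subgroup G) (hW : W = ⁅V, L⁆) : ⁅V, X⁆ ⊔ ⁅V, X.map (MulAut.conj g).toMonoidHom⁆ = W ∧ W ⊓ Subgroup.centralizer (X : Set G) = ⁅V, X⁆ ∧ W ⊓ Subgroup.centralizer (L : Set G) = ⁅V, X⁆ ⊓ ⁅V, X.map (MulAut.conj g).toMonoidHom⁆ := by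
  set Y := X.map (MulAut.conj g).toMonoidHom with hY
  have hXV : X ≤ Subgroup.normalizer (V : Set G) := hX.trans hLV
  have hgV : g ∈ Subgroup.normalizer (V : Set G) := hLV hg
  have hVg : V.map (MulAut.conj g).toMonoidHom = V := CfsgLib.Coprime.map_conj_of_mem_normalizer hgV
  have hmap : (⁅V, X⁆).map (MulAut.conj g).toMonoidHom = ⁅V, Y⁆ := by rw [Subgroup.map_commutator, hVg]
  have hqX : ⁅V, X⁆ ≤ Subgroup.centralizer (X : Set G) := Subgroup.commutator_eq_bot_iff_le_centralizer.1 hq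
  have hqY : ⁅V, Y⁆ ≤ Subgroup.centralizer (Y : Set G) := by
    rw [← hmap]
    exact (Subgroup.map_mono hqX).trans (Subgroup.map_centralizer_le_centralizer_image _ _)
  have hYV : Y ≤ Subgroup.normalizer (V : Set G) :=
    CfsgLib.Coprime.map_conj_le_normalizer hXV hgV
  have hleV : ∀ Z : Subgroup G, Z ≤ Subgroup.normalizer (V : Set G) → ⁅V, Z⁆ ≤ V := fun Z hZ =>
    Subgroup.le_normalizer_iff_commutator_le_left.mp hZ
  set J := ⁅V, X⁆ ⊔ ⁅V, Y⁆ with hJ
  have hJV : J ≤ V := sup_le (hleV X hXV) (hleV Y hYV)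
  have hVJ : V ≤ Subgroup.normalizer (J : Set G) :=
    (le_inf (Subgroup.normalizer_commutator_ge_left V X) (Subgroup.normalizer_commutator_ge_left V Y)).trans
      (by
        intro v hv
        rw [CfsgLib.Comp.map_conj_eq_iff.symm, hJ, Subgroup.map_sup,
          CfsgLib.Comp.map_conj_eq_iff.2 hv.1, CfsgLib.Comp.map_conj_eq_iff.2 hv.2])
  have move : ∀ Z : Subgroup G, ⁅V, Z⁆ ≤ J → Z ≤ Subgroup.normalizer (J : Set G) := by
    intro Z hZ z hz
    refine Subgroup.mem_normalizer_fintype fun w hw => ?_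
    have h1 : ⁅z, w⁆ ∈ J := hZ (by rw [Subgroup.commutator_comm]; exact Subgroup.commutator_mem_commutator hz (hJV hw))
    have := mul_mem h1 hw
    rwa [commutatorElement_def, inv_mul_cancel_right] at this
  have hWJ : J = W := by
    refine le_antisymm ?_ ?_
    · rw [hW]
      exact sup_le (Subgroup.commutator_mono le_rfl hX)
        (Subgroup.commutator_mono le_rfl (hgen ▸ le_sup_right))
    · rw [hW]
      let K : Subgroup G :=
        { carrier := {l | l ∈ Subgroup.normalizer (J : Set G) ∧ ∀ v ∈ V, ⁅v, l⁆ ∈ J}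
          one_mem' := ⟨one_mem _, fun v _ => by simp⟩
          mul_mem' := by
            rintro a b ⟨ha, ha'⟩ ⟨hb, hb'⟩
            refine ⟨mul_mem ha hb, fun v hv => ?_⟩
            rw [show ⁅v, a * b⁆ = ⁅v, a⁆ * (a * ⁅v, b⁆ * a⁻¹) by simp [commutatorElement_def, mul_assoc]]
            exact mul_mem (ha' v hv) ((Subgroup.mem_normalizer_iff.1 ha _).1 (hb' v hv))
          inv_mem' := by
            rintro a ⟨ha, ha'⟩
            refine ⟨inv_mem ha, fun v hv => ?_⟩
            have := inv_mem ((Subgroup.mem_normalizer_iff.1 (inv_mem ha) _).1 (ha' v hv))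
            convert this using 1
            simp [commutatorElement_def, mul_assoc] }
      have hLK : L ≤ K := by
        rw [← hgen]
        refine sup_le (fun z hz => ⟨move X le_sup_left hz, fun v hv => Subgroup.mem_sup_left (Subgroup.commutator_mem_commutator hv hz)⟩)
          (fun z hz => ⟨move Y le_sup_right hz, fun v hv => Subgroup.mem_sup_right (Subgroup.commutator_mem_commutator hv hz)⟩)
      exact Subgroup.commutator_le.2 fun v hv l hl => (hLK hl).2 v hv
  have hfix : ∀ b ∈ ⁅V, Y⁆, b ∈ Subgroup.centralizer (L : Set G) → b ∈ ⁅V, X⁆ := by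
    intro b hb hbL
    rw [← hmap] at hb
    obtain ⟨b0, hb0, rfl⟩ := hb
    have h1 := hbL g hg
    have h2 : b0 = MulAut.conj g b0 := by
      have h3 : g * (g * b0 * g⁻¹) = g * b0 * g⁻¹ * g := h1
      rw [inv_mul_cancel_right] at h3
      exact (mul_left_cancel h3).symm
    rw [MulEquiv.coe_toMonoidHom, ← h2]; exact hb0
  have hCL : ∀ b, b ∈ Subgroup.centralizer (X : Set G) → b ∈ Subgroup.centralizer (Y : Set G) →
      b ∈ Subgroup.centralizer (L : Set G) := by
    intro b hbX hbY l hl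
    have hle : L ≤ Subgroup.centralizer ({b} : Set G) := by
      rw [← hgen]
      exact sup_le (fun y hy => Subgroup.mem_centralizer_singleton_iff.2 (hbX y hy))
        (fun y hy => Subgroup.mem_centralizer_singleton_iff.2 (hbY y hy))
    exact Subgroup.mem_centralizer_singleton_iff.1 (hle hl)
  have hnXY : ⁅V, Y⁆ ≤ Subgroup.normalizer ((⁅V, X⁆ : Subgroup G) : Set G) :=
    (hleV Y hYV).trans (Subgroup.normalizer_commutator_ge_left V X)
  have hCX : W ⊓ Subgroup.centralizer (X : Set G) = ⁅V, X⁆ := by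
    refine le_antisymm ?_ (le_inf (hWJ ▸ le_sup_left) hqX)
    rintro w ⟨hw, hwX⟩
    rw [← hWJ] at hw
    obtain ⟨a, ha, b, hb, rfl⟩ := CfsgLib.Comp.exists_mul_of_mem_sup hnXY hw
    have hbX : b ∈ Subgroup.centralizer (X : Set G) := by
      simpa using mul_mem (inv_mem (hqX ha)) hwX
    exact mul_mem ha (hfix b hb (hCL b hbX (hqY hb)))
  refine ⟨hWJ, hCX, le_antisymm ?_ ?_⟩
  · rintro w ⟨hw, hwL⟩
    have hwX : w ∈ ⁅V, X⁆ := hCX.le ⟨hw, Subgroup.centralizer_le hX hwL⟩
    refine ⟨hwX, ?_⟩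
    have h1 := hwL g hg
    rw [← hmap]
    exact ⟨w, hwX, show g * w * g⁻¹ = w by rw [h1, mul_inv_cancel_right]⟩
  · rintro w ⟨h1, h2⟩
    exact ⟨hWJ ▸ Subgroup.mem_sup_left h1, hCL w (hqX h1) (hqY h2)⟩

end Cfsg.Agent.S2833
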