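import Cfsg.Statements.S2834
import Cfsg.Agent.Lib.Amalgam.LLemma

set_option autoImplicit false
open Cfsg

namespace Cfsg.Agent.S2834

/-- The L-Lemma: let H be a finite group with Sylow p-subgroup T such that H is T-minimal (generated by the conjugates of T, T in exactly one maximal subgroup M), and let A ≤ T with A not contained in O_p(H). Then there is a subgroup L of H containing A·O_p(H) such that (a) A·O_p(L) lies in exactly one maximal subgroup L₀ of L, and L₀ = L ∩ gMg⁻¹ for some g ∈ H; (b) L = ⟨A, xAx⁻¹⟩·O_p(L) for every x ∈ L outside L₀. -/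
theorem result {H : Type*} [Group H] [Finite H] {p : ℕ} [Fact p.Prime] (T : Sylow p H) (hmin : Cfsg.IsMinimalOver (T : Subgroup H)) (M : Subgroup H) (hM : IsCoatom M ∧ (T : Subgroup H) ≤ M) (A : Subgroup H) (hAT : A ≤ (T : Subgroup H)) (hA : ¬ A ≤ Cfsg.pCore p H) : ∃ L : Subgroup H, A ⊔ Cfsg.pCore p H ≤ L ∧ ∃ L₀ : Subgroup H, A ⊔ (Cfsg.pCoreOf p L) ≤ L₀ ∧ L₀ < L ∧ (∀ X : Subgroup H, A ⊔ (Cfsg.pCoreOf p L) ≤ X → X < L → X ≤ L₀) ∧ (∃ g : H, L₀ = L ⊓ ((M : Subgroup H).map (MulAut.conj (g : H)).toMonoidHom)) ∧ ∀ x ∈ L, x ∉ L₀ → (A ⊔ ((A : Subgroup H).map (MulAut.conj (x : H)).toMonoidHom)) ⊔ (Cfsg.pCoreOf p L) = L := by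
  obtain ⟨hM, hTM⟩ := hM
  obtain ⟨hncl, M', hM', huniq⟩ := hmin
  have hMM : M = M' := huniq M ⟨hM, hTM⟩
  have hO := CfsgLib.Solvable.pCore_normal p H
  have hAp : IsPGroup p A := T.isPGroup'.to_le hAT
  have hWTn : Subgroup.normalizer (Cfsg.weakClosure A (T : Subgroup H) : Set H) ≤ M := by
    set W := Cfsg.weakClosure A (T : Subgroup H)
    have hne : Subgroup.normalizer (W : Set H) ≠ ⊤ := fun h => by
      have hn := CfsgLib.Comp.normal_of_top_le_normalizer h.ge
      exact hA ((CfsgLib.Amalgam.self_le_weakClosure hAT).trans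
        (CfsgLib.Solvable.le_pCore hn (T.isPGroup'.to_le (CfsgLib.Amalgam.weakClosure_le _ _))))
    obtain ⟨M1, hM1, hle⟩ := (eq_top_or_exists_le_coatom _).resolve_left hne
    rw [hMM]
    exact (huniq M1 ⟨hM1, (Subgroup.le_normalizer.trans
      (CfsgLib.Amalgam.normalizer_le_normalizer_weakClosure A _)).trans hle⟩) ▸ hle
  have hgood : CfsgLib.Amalgam.LGood p A M ⊤ := by
    refine ⟨le_top, fun h => hM.1 (top_le_iff.1 h), ⟨T, CfsgLib.Amalgam.isSylIn_top T, hTM, 1, ?_, ?_⟩, ?_⟩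
    · rintro _ ⟨a, ha, rfl⟩; simpa using hAT ha
    · rw [CfsgLib.Amalgam.pCoreOf_top']
      exact fun h => hA fun a ha => by simpa using h ⟨a, ha, rfl⟩
    · intro P hP hPM
      obtain ⟨l, hl, rfl⟩ := ((CfsgLib.Amalgam.isSylIn_top T).mono hTM le_top).exists_conj
        (hP.mono hPM le_top)
      rw [← CfsgLib.Amalgam.map_weakClosure_conj]
      intro n hn
      have h1 : l⁻¹ * n * l ∈ Subgroup.normalizer (Cfsg.weakClosure A (T : Subgroup H) : Set H) := by
        apply CfsgLib.PLocal.mem_normalizer_map_conj.2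
        rw [← CfsgLib.Coprime.map_conj_conj, ← CfsgLib.Coprime.map_conj_conj,
          CfsgLib.Coprime.map_conj_of_mem_normalizer (Subgroup.mem_inf.1 hn).2,
          CfsgLib.Coprime.map_conj_conj, inv_mul_cancel]
        ext x; rw [CfsgLib.Coprime.mem_map_conj]; simp
      simpa [mul_assoc] using mul_mem (mul_mem hl (hWTn h1)) (inv_mem hl)
  obtain ⟨L, g, hOL, hB, hlt, hX, hb⟩ := CfsgLib.Amalgam.exists_lLemma hAp hgood
  set φ := (MulAut.conj g⁻¹).toMonoidHom
  have hinj : Function.Injective φ := (MulAut.conj g⁻¹).injective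
  set B := A.map (MulAut.conj g).toMonoidHom
  have hφB : B.map φ = A := by
    rw [CfsgLib.Coprime.map_conj_conj, inv_mul_cancel]
    ext x; rw [CfsgLib.Coprime.mem_map_conj]; simp
  have hcore : Cfsg.pCoreOf p (L.map φ) = (Cfsg.pCoreOf p L).map φ := CfsgLib.Amalgam.pCoreOf_map φ hinj L
  refine ⟨L.map φ, sup_le ?_ ?_, (L ⊓ M).map φ, ?_, ?_, ?_, ⟨g⁻¹, Subgroup.map_inf _ _ _ hinj⟩, ?_⟩
  · exact hφB.ge.trans (Subgroup.map_mono ((le_sup_left.trans hB).trans inf_le_left))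
  · exact (CfsgLib.Coprime.map_conj_of_mem_normalizer
      (CfsgLib.Comp.le_normalizer_of_normal' (Cfsg.pCore p H) ⊤ (Subgroup.mem_top g⁻¹))).ge.trans
      (Subgroup.map_mono hOL)
  · rw [hcore, ← hφB, ← Subgroup.map_sup]
    exact Subgroup.map_mono hB
  · exact lt_of_le_not_ge (Subgroup.map_mono inf_le_left) fun h =>
      hlt.not_ge ((Subgroup.map_le_map_iff_of_injective hinj).1 h)
  · intro X hXle hXlt
    have hXe : (X.comap φ).map φ = X := Subgroup.map_comap_eq_self_of_surjective (MulAut.conj g⁻¹).surjective X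
    rw [hcore, ← hφB, ← Subgroup.map_sup, ← hXe] at hXle
    rw [← hXe] at hXlt ⊢
    refine Subgroup.map_mono (hX _ ((Subgroup.map_le_map_iff_of_injective hinj).1 hXle) ?_)
    exact lt_of_le_not_ge ((Subgroup.map_le_map_iff_of_injective hinj).1 hXlt.le)
      fun h => hXlt.not_ge (Subgroup.map_mono h)
  · rintro _ ⟨y, hy, rfl⟩ hyn
    have h := congrArg (Subgroup.map φ) (hb y hy fun h => hyn ⟨y, h, rfl⟩)
    rw [Subgroup.map_sup, Subgroup.map_sup, hφB, CfsgLib.Coprime.map_conj_map φ y B, hφB, ← hcore] at h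
    exact h

end Cfsg.Agent.S2834
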