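import Cfsg.Statements.S2835
import Cfsg.Agent.Lib.Transfer.Frobenius
import Cfsg.Agent.Lib.Coprime.Basic
import Cfsg.Agent.Lib.PLocal.Sylow
import Cfsg.Agent.Lib.Amalgam.PCore

set_option autoImplicit false
open Cfsg

namespace Cfsg.Agent.S2835

/-- Let L be a finite group, L₀ a maximal subgroup, T a Sylow p-subgroup of L₀ and Y ≤ T, and suppose L is Y-minimal (generated by the conjugates of Y, with Y in exactly one maximal subgroup, necessarily L₀). Then N_L(T) ≤ L₀, O_p(L) ≤ L₀ and T is a Sylow p-subgroup of L; N_L(L₀) = L₀; L = ⟨Y, gYg⁻¹⟩ for each g ∈ L outside L₀; and if Y is abelian then Y ∩ gYg⁻¹ = C_Y(L) for each such g. -/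
theorem result {L : Type*} [Group L] [Finite L] {p : ℕ} [Fact p.Prime] (L₀ : Subgroup L) (hL₀ : IsCoatom L₀) (T : Sylow p ↥L₀) (Y : Subgroup L) (hYT : Y ≤ (T : Subgroup ↥L₀).map L₀.subtype) (hmin : Cfsg.IsMinimalOver Y) : Subgroup.normalizer (((T : Subgroup ↥L₀).map L₀.subtype : Subgroup L) : Set L) ≤ L₀ ∧ Cfsg.pCore p L ≤ L₀ ∧ (∃ P : Sylow p L, (P : Subgroup L) = (T : Subgroup ↥L₀).map L₀.subtype) ∧ Subgroup.normalizer (L₀ : Set L) = L₀ ∧ (∀ g : L, g ∉ L₀ → Y ⊔ Y.map (MulAut.conj g).toMonoidHom = ⊤) ∧ (IsMulCommutative ↥Y → ∀ g : L, g ∉ L₀ → Y ⊓ Y.map (MulAut.conj g).toMonoidHom = Y ⊓ Subgroup.center L) := by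
  obtain ⟨hclo, M, hM, huniq⟩ := hmin
  set T' := (T : Subgroup ↥L₀).map L₀.subtype with hT'
  have hT'L : T' ≤ L₀ := Subgroup.map_subtype_le _
  have hYL : Y ≤ L₀ := hYT.trans hT'L
  have only : ∀ K : Subgroup L, K ≠ ⊤ → Y ≤ K → K ≤ L₀ := by
    intro K hK hYK
    obtain ⟨M', hM', hKM'⟩ := (eq_top_or_exists_le_coatom K).resolve_left hK
    have e1 := huniq M' ⟨hM', hYK.trans hKM'⟩
    have e2 := huniq L₀ ⟨hL₀, hYL⟩
    rw [e2, ← e1]; exact hKM'
  have hNT : Subgroup.normalizer (T' : Set L) ≤ L₀ := by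
    refine only _ (fun htop => hL₀.1 ?_) (hYT.trans Subgroup.le_normalizer)
    have : T'.Normal := Subgroup.normalizer_eq_top_iff.1 htop
    exact eq_top_iff.2 (hclo ▸ (Subgroup.normalClosure_le_normal hYT).trans hT'L)
  have hTp : IsPGroup p T' := T.isPGroup'.map _
  obtain ⟨P, hP⟩ := hTp.exists_le_sylow
  have hPT : (P : Subgroup L) = T' := by
    refine le_antisymm ?_ hP
    by_contra hle
    obtain ⟨y, hyP, hyN, hyT⟩ := CfsgLib.Transfer.exists_mem_normalizer_not_mem P.isPGroup' (lt_of_le_not_ge hP hle)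
    have hyL := hNT hyN
    have hsup : T' ⊔ Subgroup.zpowers y ≤ L₀ := sup_le hT'L (Subgroup.zpowers_le.2 hyL)
    have := T.is_maximal' ((P.isPGroup'.to_le (sup_le hP (Subgroup.zpowers_le.2 hyP))).of_equiv
      (Subgroup.subgroupOfEquivOfLe hsup).symm) (fun s hs => Subgroup.mem_sup_left (⟨s, hs, rfl⟩ : (s : L) ∈ T'))
    exact hyT ⟨⟨y, hyL⟩, this.le (show y ∈ T' ⊔ Subgroup.zpowers y from
      Subgroup.mem_sup_right (Subgroup.mem_zpowers y)), rfl⟩
  have hNL : Subgroup.normalizer (L₀ : Set L) = L₀ := by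
    refine le_antisymm (only _ (fun htop => hL₀.1 ?_) (hYL.trans Subgroup.le_normalizer)) Subgroup.le_normalizer
    have : L₀.Normal := Subgroup.normalizer_eq_top_iff.1 htop
    exact eq_top_iff.2 (hclo ▸ Subgroup.normalClosure_le_normal hYL)
  have hgen : ∀ g : L, g ∉ L₀ → Y ⊔ Y.map (MulAut.conj g).toMonoidHom = ⊤ := by
    intro g hg
    by_contra hne
    have hle := only _ hne le_sup_left
    have hYg : Y ≤ L₀.map (MulAut.conj g⁻¹).toMonoidHom := by
      intro y hy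
      refine CfsgLib.Coprime.mem_map_conj.2 ?_
      rw [inv_inv]
      exact hle (Subgroup.mem_sup_right ⟨y, hy, rfl⟩)
    have hle' := only _ (fun htop => hL₀.1 (Subgroup.card_eq_iff_eq_top _ |>.1 (by
      rw [← CfsgLib.Coprime.card_map_conj g⁻¹ L₀, htop, Subgroup.card_top]))) hYg
    have heq := Subgroup.eq_of_le_of_card_ge hle' (CfsgLib.Coprime.card_map_conj g⁻¹ L₀).ge
    have hgN : g⁻¹ ∈ Subgroup.normalizer (L₀ : Set L) :=
      CfsgLib.PLocal.mem_normalizer_map_conj.2 heq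
    rw [hNL] at hgN
    exact hg (inv_mem_iff.1 hgN)
  refine ⟨hNT, (CfsgLib.Amalgam.pCore_le_sylow P).trans (hPT.le.trans hT'L), ⟨P, hPT⟩, hNL, hgen, fun hab g hg => ?_⟩
  refine le_antisymm (fun y hy => Subgroup.mem_inf.2 ⟨hy.1, ?_⟩) (fun y hy => Subgroup.mem_inf.2 ⟨hy.1, ?_⟩)
  · rw [Subgroup.mem_center_iff]
    intro l
    have htop := hgen g hg
    have hle : Y ⊔ Y.map (MulAut.conj g).toMonoidHom ≤ Subgroup.centralizer ({y} : Set L) := by
      refine sup_le (fun w hw => Subgroup.mem_centralizer_singleton_iff.2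
        (congrArg Subtype.val (mul_comm' (⟨w, hw⟩ : Y) ⟨y, hy.1⟩))) ?_
      have hab' : IsMulCommutative (Y.map (MulAut.conj g).toMonoidHom) :=
        Subgroup.map_isMulCommutative Y _
      exact fun w hw => Subgroup.mem_centralizer_singleton_iff.2
        (congrArg Subtype.val (mul_comm' (⟨w, hw⟩ : Y.map (MulAut.conj g).toMonoidHom) ⟨y, hy.2⟩))
    exact Subgroup.mem_centralizer_singleton_iff.1 (hle (htop ▸ Subgroup.mem_top l))
  · refine ⟨y, hy.1, ?_⟩
    show g * y * g⁻¹ = y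
    rw [Subgroup.mem_center_iff.1 hy.2 g, mul_inv_cancel_right]

end Cfsg.Agent.S2835
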