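import Cfsg.Statements.S2836
import Cfsg.Agent.Lib.Amalgam.PIrred
import Cfsg.Agent.Lib.Amalgam.WeakClosure

set_option autoImplicit false
open Cfsg

namespace Cfsg.Agent.S2836

/-- Let L be a finite group, L₀ a maximal subgroup, T a Sylow p-subgroup of L₀, Y ≤ T, and suppose L is Y-minimal. Let D be the intersection of the conjugates of L₀ (the core of L₀). Then D contains O_p(L) and D/O_p(L) is the Frattini subgroup of L/O_p(L), so D is p-closed; and every normal subgroup N of L contained in L₀ is p-closed with N/O_p(N) a nilpotent group of order prime to p. -/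
theorem result {L : Type*} [Group L] [Finite L] {p : ℕ} [Fact p.Prime] (L₀ : Subgroup L) (hL₀ : IsCoatom L₀) (T : Sylow p ↥L₀) (Y : Subgroup L) (hYT : Y ≤ (T : Subgroup ↥L₀).map L₀.subtype) (hmin : Cfsg.IsMinimalOver Y) : (Cfsg.pCore p L ≤ L₀.normalCore ∧ (L₀.normalCore).map (QuotientGroup.mk' (Cfsg.pCore p L)) = frattini (L ⧸ Cfsg.pCore p L) ∧ Cfsg.IsPClosed p ↥(L₀.normalCore)) ∧ ∀ (N : Subgroup L) [N.Normal], N ≤ L₀ → Cfsg.IsPClosed p ↥N ∧ Group.IsNilpotent (↥N ⧸ Cfsg.pCore p ↥N) ∧ (Nat.card (↥N ⧸ Cfsg.pCore p ↥N)).Coprime p := by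
  obtain ⟨hncl, M', -, huniq⟩ := hmin
  have hTp : IsPGroup p ((T : Subgroup L₀).map L₀.subtype) := T.isPGroup'.map _
  have hYL₀ : Y ≤ L₀ := hYT.trans (Subgroup.map_subtype_le _)
  have hYp : IsPGroup p Y := hTp.to_le hYT
  have hle : ∀ X : Subgroup L, Y ≤ X → X ≠ ⊤ → X ≤ L₀ := by
    intro X hX hne
    obtain ⟨M1, hM1, hXM⟩ := (eq_top_or_exists_le_coatom X).resolve_left hne
    rwa [huniq L₀ ⟨hL₀, hYL₀⟩, ← huniq M1 ⟨hM1, hX.trans hXM⟩]
  have hO := CfsgLib.Solvable.pCore_normal p L
  have hOp : IsPGroup p (Cfsg.pCore p L) := CfsgLib.Solvable.pCore_isPGroup p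
  have hOL₀ : Cfsg.pCore p L ≤ L₀ := by
    refine le_sup_right.trans (hle (Y ⊔ Cfsg.pCore p L) le_sup_left fun h => ?_)
    have hLp : IsPGroup p L := by
      have h1 : IsPGroup p (Y ⊔ Cfsg.pCore p L : Subgroup L) := hYp.to_sup_of_normal_right hOp
      rw [h] at h1
      exact h1.of_equiv Subgroup.topEquiv
    have hn : L₀.Normal := by
      haveI := hLp.isNilpotent
      exact Subgroup.NormalizerCondition.normal_of_coatom L₀ Group.normalizerCondition_of_isNilpotent hL₀
    exact hL₀.1 (top_le_iff.1 (hncl.ge.trans (Subgroup.normalClosure_le_normal hYL₀)))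
  -- supplements of normal subgroups inside `L₀` of index prime to `p` in it
  have key : ∀ N : Subgroup L, N.Normal → N ≤ L₀ → ∀ K : Subgroup L, N ⊔ K = ⊤ →
      (¬ p ∣ (K ⊓ N).relIndex N) → K = ⊤ := by
    intro N hN hNL₀ K hsup hnd
    by_contra hne
    have hidx : ¬ p ∣ K.index := by
      have e1 := Subgroup.relIndex_mul_relIndex (K ⊓ N) N ⊤ inf_le_right le_top
      have e2 := Subgroup.relIndex_mul_relIndex (K ⊓ N) K ⊤ inf_le_left le_top
      have e3 : N.relIndex ⊤ = N.relIndex K := by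
        rw [← hsup, sup_comm, Subgroup.relIndex_sup_right]
      rw [e3] at e1
      rw [Subgroup.inf_relIndex_left, ← e1, Subgroup.relIndex_top_right, mul_comm _ (N.relIndex K)] at e2
      rwa [Nat.eq_of_mul_eq_mul_left (Nat.pos_of_ne_zero Subgroup.index_ne_zero_of_finite) e2]
    obtain ⟨R⟩ : Nonempty (Sylow p K) := inferInstance
    have hR : CfsgLib.Amalgam.IsSylIn p ⊤ ((R : Subgroup K).map K.subtype) := by
      refine ⟨le_top, R.isPGroup'.map _, ?_⟩
      rw [Subgroup.card_map_of_injective K.subtype_injective, R.card_eq_multiplicity, Subgroup.card_top,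
        ← K.card_mul_index, Nat.factorization_mul Nat.card_pos.ne' Subgroup.index_ne_zero_of_finite,
        Finsupp.add_apply, Nat.factorization_eq_zero_of_not_dvd hidx, add_zero]
    obtain ⟨P1, hP1, hYP1⟩ := CfsgLib.Amalgam.exists_isSylIn_ge hYp (le_top (a := Y))
    obtain ⟨g, -, hg⟩ := hR.exists_conj hP1
    set K' := K.map (MulAut.conj g).toMonoidHom
    have hK' : Y ≤ K' := hYP1.trans (hg ▸ Subgroup.map_mono (Subgroup.map_subtype_le _))
    have hK'ne : K' ≠ ⊤ := fun h => hne (Subgroup.eq_top_of_card_eq K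
      (by rw [← CfsgLib.Coprime.card_map_conj g K]; exact (congrArg (fun X : Subgroup L => Nat.card X) h).trans Subgroup.card_top))
    refine hL₀.1 (top_le_iff.1 (le_trans ?_ (sup_le hNL₀ (hle K' hK' hK'ne))))
    rw [← Subgroup.map_top_of_surjective (MulAut.conj g).toMonoidHom (MulAut.conj g).surjective, ← hsup,
      Subgroup.map_sup, CfsgLib.Coprime.map_conj_of_mem_normalizer
        (CfsgLib.Comp.le_normalizer_of_normal' N ⊤ (Subgroup.mem_top g))]
  -- normal subgroups inside `L₀` are `p`-closed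
  have hcl : ∀ N : Subgroup L, N.Normal → N ≤ L₀ → ∀ Q : Subgroup L, IsPGroup p Q → Q ≤ N → Q ≤ Cfsg.pCore p L := by
    intro N hN hNL₀ Q hQ hQN
    set T' := (T : Subgroup L₀).map L₀.subtype
    set S := T' ⊓ N
    have hS : CfsgLib.Amalgam.IsSylIn p N S := by
      have hT' : CfsgLib.Amalgam.IsSylIn p L₀ T' := ⟨Subgroup.map_subtype_le _, hTp, by
        rw [Subgroup.card_map_of_injective L₀.subtype_injective, T.card_eq_multiplicity]⟩
      obtain ⟨S1, hS1, hSS1⟩ :=
        CfsgLib.Amalgam.exists_isSylIn_ge (L := N) (hTp.to_le (inf_le_left (b := N))) inf_le_right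
      obtain ⟨T2, hT2, hS1T2⟩ := CfsgLib.Amalgam.exists_isSylIn_ge hS1.2.1 (hS1.1.trans hNL₀)
      obtain ⟨l, hl, hlT⟩ := hT2.exists_conj hT'
      have h1 : S1.map (MulAut.conj l).toMonoidHom ≤ S := le_inf ((Subgroup.map_mono hS1T2).trans hlT.le)
        ((Subgroup.map_mono hS1.1).trans (CfsgLib.Coprime.map_conj_of_mem_normalizer
          (CfsgLib.Comp.le_normalizer_of_normal' N ⊤ (Subgroup.mem_top l))).le)
      have h2 := Subgroup.card_le_of_le h1
      rw [CfsgLib.Coprime.card_map_conj] at h2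
      rwa [show S1 = S from (Subgroup.eq_of_le_of_card_ge hSS1 h2).symm] at hS1
    have hYn : Y ≤ Subgroup.normalizer (S : Set L) := hYT.trans
      ((le_inf Subgroup.le_normalizer (CfsgLib.Comp.le_normalizer_of_normal' N _)).trans
        Subgroup.inf_normalizer_le_normalizer_inf)
    have hfr : N ⊔ Subgroup.normalizer (S : Set L) = ⊤ := by
      refine eq_top_iff.2 fun g _ => ?_
      have hSg : CfsgLib.Amalgam.IsSylIn p N (S.map (MulAut.conj g).toMonoidHom) :=
        ⟨(Subgroup.map_mono hS.1).trans (CfsgLib.Coprime.map_conj_of_mem_normalizer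
          (CfsgLib.Comp.le_normalizer_of_normal' N ⊤ (Subgroup.mem_top g))).le, hS.2.1.map _,
          by rw [CfsgLib.Coprime.card_map_conj, hS.2.2]⟩
      obtain ⟨n, hn, hnS⟩ := hSg.exists_conj hS
      rw [CfsgLib.Coprime.map_conj_conj] at hnS
      have := mul_mem (Subgroup.mem_sup_left (inv_mem hn))
        (Subgroup.mem_sup_right (S := N) (CfsgLib.PLocal.mem_normalizer_map_conj.2 hnS))
      rwa [inv_mul_cancel_left] at this
    have hSn : S.Normal := CfsgLib.Comp.normal_of_top_le_normalizer (le_of_eq (Eq.symm (by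
      by_contra hne
      exact hL₀.1 (top_le_iff.1 (hfr.ge.trans (sup_le hNL₀ (hle _ hYn hne)))))))
    obtain ⟨S2, hS2, hQS2⟩ := CfsgLib.Amalgam.exists_isSylIn_ge hQ hQN
    obtain ⟨n, -, hnS⟩ := hS.exists_conj hS2
    rw [CfsgLib.Coprime.map_conj_of_mem_normalizer
      (CfsgLib.Comp.le_normalizer_of_normal' S ⊤ (Subgroup.mem_top n))] at hnS
    exact (hnS ▸ hQS2).trans (CfsgLib.Solvable.le_pCore hSn hS.2.1)
  have hD := L₀.normalCore_normal
  have hDL₀ : L₀.normalCore ≤ L₀ := L₀.normalCore_le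
  have hOD : Cfsg.pCore p L ≤ L₀.normalCore := Subgroup.normal_le_normalCore.2 hOL₀
  -- index prime to `p`
  have hnd : ∀ N : Subgroup L, N.Normal → N ≤ L₀ → ∀ K : Subgroup L, Cfsg.pCore p L ⊓ N ≤ K →
      ¬ p ∣ (K ⊓ N).relIndex N := by
    intro N hN hNL₀ K hK hd
    obtain ⟨S, hS⟩ := CfsgLib.Amalgam.exists_isSylIn (p := p) N
    have h1 : S ≤ K ⊓ N := le_inf ((le_inf (hcl N hN hNL₀ S hS.2.1 hS.1) hS.1).trans hK) hS.1
    have h2 := hd.trans (Subgroup.relIndex_dvd_of_le_left N h1)
    rw [Subgroup.relIndex, Subgroup.index_eq_card] at h2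
    have h3 : Nat.card N = Nat.card S * (S.subgroupOf N).index := by
      rw [← (S.subgroupOf N).card_mul_index, Nat.card_congr (Subgroup.subgroupOfEquivOfLe hS.1).toEquiv]
    rw [← Subgroup.index_eq_card] at h2
    have h4 : (Nat.card N).factorization p = _ := congrArg (fun m => Nat.factorization m p) h3
    rw [hS.2.2, Nat.factorization_mul (pow_ne_zero _ (Fact.out : p.Prime).ne_zero) Subgroup.index_ne_zero_of_finite,
      Finsupp.add_apply, (Fact.out : p.Prime).factorization_pow, Finsupp.single_eq_same] at h4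
    exact absurd ((Fact.out : p.Prime).factorization_pos_of_dvd Subgroup.index_ne_zero_of_finite h2) (by omega)
  refine ⟨⟨hOD, ?_, ?_⟩, fun N _ hNL₀ => ⟨?_, ?_, ?_⟩⟩
  · set f := QuotientGroup.mk' (Cfsg.pCore p L)
    have hsurj : Function.Surjective f := QuotientGroup.mk'_surjective _
    have hker : f.ker = Cfsg.pCore p L := QuotientGroup.ker_mk' _
    apply le_antisymm
    · show _ ≤ ⨅ a ∈ {H : Subgroup (L ⧸ Cfsg.pCore p L) | IsCoatom H}, a
      refine le_iInf₂ fun X hX => ?_
      have hX1 : X.comap f ≠ ⊤ := fun h => hX.1 (by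
        rw [← Subgroup.map_comap_eq_self_of_surjective hsurj X, h, Subgroup.map_top_of_surjective _ hsurj])
      refine Subgroup.map_le_iff_le_comap.2 ?_
      by_contra hne
      have hsup : L₀.normalCore ⊔ X.comap f = ⊤ := by
        have h1 : X < (L₀.normalCore ⊔ X.comap f).map f := lt_of_le_not_ge
          ((Subgroup.map_comap_eq_self_of_surjective hsurj X).ge.trans (Subgroup.map_mono le_sup_right))
          fun h => hne ((le_sup_left.trans (Subgroup.le_comap_map f _)).trans (Subgroup.comap_mono h))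
        rw [← Subgroup.comap_map_eq_self (hker.le.trans (hOD.trans le_sup_left)), hX.2 _ h1, Subgroup.comap_top]
      exact hX1 (key _ hD hDL₀ _ hsup (hnd _ hD hDL₀ _ (inf_le_left.trans (hker.ge.trans (Subgroup.ker_le_comap f X)))))
    · have hF : (frattini (L ⧸ Cfsg.pCore p L)).comap f ≤ L₀ := by
        have hc : IsCoatom (L₀.map f) := by
          refine ⟨fun h => hL₀.1 ?_, fun Y' hY' => ?_⟩
          · rw [← Subgroup.comap_map_eq_self (hker.le.trans hOL₀), h, Subgroup.comap_top]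
          · have h1 : L₀ < Y'.comap f := lt_of_le_of_ne (Subgroup.map_le_iff_le_comap.1 hY'.le) fun h => hY'.ne (by
              rw [h, Subgroup.map_comap_eq_self_of_surjective hsurj])
            rw [← Subgroup.map_comap_eq_self_of_surjective hsurj Y', hL₀.2 _ h1, Subgroup.map_top_of_surjective _ hsurj]
        exact (Subgroup.comap_mono (frattini_le_coatom hc)).trans (Subgroup.comap_map_eq_self (hker.le.trans hOL₀)).le
      rw [← Subgroup.map_comap_eq_self_of_surjective hsurj (frattini (L ⧸ Cfsg.pCore p L))]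
      exact Subgroup.map_mono (Subgroup.normal_le_normalCore.2 hF)
  · exact (CfsgLib.Amalgam.isPClosed_normal_iff _).2 (hcl _ hD hDL₀)
  · exact (CfsgLib.Amalgam.isPClosed_normal_iff N).2 (hcl N inferInstance hNL₀)
  · haveI := CfsgLib.Solvable.pCore_normal p N
    set π := QuotientGroup.mk' (Cfsg.pCore p N)
    refine (Group.isNilpotent_of_finite_tfae.out 0 3).2 fun q hq Q' => ?_
    haveI := hq
    set O := Cfsg.pCore p L ⊓ N
    have hON : O.Normal := Subgroup.normal_inf_normal _ _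
    have hker : ∀ x : N, (x : L) ∈ O → π x = 1 := fun x hx => (QuotientGroup.eq_one_iff x).2
      (CfsgLib.Solvable.le_pCore (hON.subgroupOf N)
        ((hOp.to_le inf_le_left).comap_of_injective _ N.subtype_injective) hx)
    obtain ⟨Q⟩ : Nonempty (Sylow q N) := inferInstance
    set Qm := (Q : Subgroup N).map N.subtype
    have h1 : N ⊔ (Subgroup.normalizer (Qm : Set L) ⊔ O) = ⊤ := by
      rw [← sup_assoc, sup_comm N, Q.normalizer_sup_eq_top, top_sup_eq]
    have h2 := key N inferInstance hNL₀ _ h1 (hnd N inferInstance hNL₀ _ le_sup_right)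
    have hKn : (Qm ⊔ O).Normal := CfsgLib.Comp.normal_of_top_le_normalizer (h2.ge.trans
      (sup_le (CfsgLib.Comp.le_normalizer_sup le_rfl (CfsgLib.Comp.le_normalizer_of_normal' O _))
        (le_sup_right.trans Subgroup.le_normalizer)))
    have h3 : ((Q : Subgroup N).map π).Normal := by
      refine ⟨fun y hy z => ?_⟩
      obtain ⟨a, ha, rfl⟩ := hy
      obtain ⟨b, rfl⟩ := QuotientGroup.mk'_surjective _ z
      have h4 : ((b * a * b⁻¹ : N) : L) ∈ Qm ⊔ O :=
        hKn.conj_mem _ (Subgroup.mem_sup_left ⟨a, ha, rfl⟩) (b : L)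
      rw [sup_comm] at h4
      obtain ⟨o, ho, _, ⟨c, hc, rfl⟩, h5⟩ := Subgroup.mem_sup_of_normal_left.1 h4
      have h6 : (b * a * b⁻¹ : N) = ⟨o, ho.2⟩ * c := Subtype.ext h5.symm
      refine ⟨c, hc, ?_⟩
      rw [← map_inv, ← map_mul, ← map_mul, h6, map_mul, hker ⟨o, ho.2⟩ ho, one_mul]
    have hQi : (Q.mapSurjective (QuotientGroup.mk'_surjective (Cfsg.pCore p N)) : Subgroup _) = (Q : Subgroup N).map π := rfl
    obtain ⟨z, hz⟩ := MulAction.exists_smul_eq (N ⧸ Cfsg.pCore p N) (Q.mapSurjective (QuotientGroup.mk'_surjective (Cfsg.pCore p N))) Q'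
    set Qi := Q.mapSurjective (QuotientGroup.mk'_surjective (Cfsg.pCore p N))
    haveI : (Qi : Subgroup (N ⧸ Cfsg.pCore p N)).Normal := h3
    rw [← hz, Sylow.smul_eq_of_normal]
    infer_instance
  · obtain ⟨P⟩ : Nonempty (Sylow p N) := inferInstance
    have hP : (P : Subgroup N) ≤ Cfsg.pCore p N := CfsgLib.Amalgam.isPClosed_iff.1
      ((CfsgLib.Amalgam.isPClosed_normal_iff N).2 (hcl N inferInstance hNL₀)) _ P.isPGroup'
    rw [Nat.coprime_comm, (Fact.out : p.Prime).coprime_iff_not_dvd, ← Subgroup.index_eq_card]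
    exact fun h => P.not_dvd_index (h.trans (Subgroup.index_dvd_of_le hP))

end Cfsg.Agent.S2836
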