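import Cfsg.Statements.S2837
import Cfsg.Agent.Lib.Amalgam.WeakClosure
import Cfsg.Agent.Lib.Transfer.PPrimeAut
import Cfsg.Agent.Lib.Transfer.Basic
import Cfsg.Agent.Lib.Comp.Normalize

set_option autoImplicit false
open Cfsg

namespace Cfsg.Agent.S2837

open scoped commutatorElement
/-- Let L be a finite group of characteristic p, L₀ a maximal subgroup, Y an elementary abelian p-subgroup of L₀ with L Y-minimal and O_p(L) ≤ N_L(Y). Put A = the normal closure of O_p(L) ∩ Y in L. Then for every g ∈ L outside L₀: Φ(A) = A' = [A ∩ Y, A] = [A ∩ Y, A ∩ gYg⁻¹] ≤ C_Y(L), and Y ∩ gYg⁻¹ = (A ∩ Y) ∩ (A ∩ gYg⁻¹) = C_Y(L) = C_A(L). -/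
theorem result {L : Type*} [Group L] [Finite L] {p : ℕ} [Fact p.Prime] (hchar : Subgroup.centralizer (Cfsg.pCore p L : Set L) ≤ Cfsg.pCore p L) (L₀ : Subgroup L) (hL₀ : IsCoatom L₀) (Y : Subgroup L) (hYL₀ : Y ≤ L₀) (hYel : Cfsg.IsElementaryAbelian p Y) (hmin : Cfsg.IsMinimalOver Y) (hOY : Cfsg.pCore p L ≤ Subgroup.normalizer (Y : Set L)) (A : Subgroup L) (hA : A = Subgroup.normalClosure (((Cfsg.pCore p L ⊓ Y : Subgroup L)) : Set L)) (g : L) (hg : g ∉ L₀) : (frattini ↥A).map A.subtype = ⁅A, A⁆ ∧ ⁅A, A⁆ = ⁅A ⊓ Y, A⁆ ∧ ⁅A ⊓ Y, A⁆ = ⁅A ⊓ Y, A ⊓ Y.map (MulAut.conj g).toMonoidHom⁆ ∧ ⁅A ⊓ Y, A⁆ ≤ Y ⊓ Subgroup.center L ∧ Y ⊓ Y.map (MulAut.conj g).toMonoidHom = Y ⊓ Subgroup.center L ∧ (A ⊓ Y) ⊓ (A ⊓ Y.map (MulAut.conj g).toMonoidHom) = Y ⊓ Subgroup.center L ∧ A ⊓ Subgroup.center L = Y ⊓ Subgroup.center L := by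
  obtain ⟨hncl, M', -, huniq⟩ := hmin
  have hle : ∀ X : Subgroup L, Y ≤ X → X ≠ ⊤ → X ≤ L₀ := by
    intro X hX hne
    obtain ⟨M1, hM1, hXM⟩ := (eq_top_or_exists_le_coatom X).resolve_left hne
    rwa [huniq L₀ ⟨hL₀, hYL₀⟩, ← huniq M1 ⟨hM1, hX.trans hXM⟩]
  set O := Cfsg.pCore p L
  have hOn : O.Normal := CfsgLib.Solvable.pCore_normal p L
  set Z := Subgroup.center L
  set c := (MulAut.conj g).toMonoidHom
  set Yg := Y.map c
  have hL₀n : Subgroup.normalizer (L₀ : Set L) = L₀ := by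
    refine (hL₀.le_iff.1 Subgroup.le_normalizer).resolve_left fun h => ?_
    haveI := CfsgLib.Comp.normal_of_top_le_normalizer h.ge
    exact hL₀.1 (top_le_iff.1 (hncl.ge.trans (Subgroup.normalClosure_le_normal hYL₀)))
  have hgen : Y ⊔ Yg = ⊤ := by
    by_contra hne
    have h1 : Yg ≤ L₀ := le_sup_right.trans (hle _ le_sup_left hne)
    set L₁ := L₀.map (MulAut.conj g⁻¹).toMonoidHom
    have hY1 : Y ≤ L₁ := fun y hy => ⟨g * y * g⁻¹, h1 ⟨y, hy, rfl⟩, by simp [mul_assoc]⟩
    have hL₁ : L₁ ≤ L₀ := hle L₁ hY1 fun h => hL₀.1 (Subgroup.eq_top_of_card_eq L₀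
      (by rw [← CfsgLib.Coprime.card_map_conj g⁻¹ L₀]; exact (congrArg (fun X : Subgroup L => Nat.card X) h).trans Subgroup.card_top))
    have h2 := CfsgLib.PLocal.mem_normalizer_map_conj.2
      (Subgroup.eq_of_le_of_card_ge hL₁ (CfsgLib.Coprime.card_map_conj g⁻¹ L₀).ge)
    rw [hL₀n] at h2
    exact hg (inv_mem_iff.1 h2)
  have hYab : ∀ a ∈ Y, ∀ b ∈ Y, a * b = b * a := fun a ha b hb =>
    have := hYel.1
    congrArg Subtype.val (mul_comm' (⟨a, ha⟩ : Y) ⟨b, hb⟩)
  have hYgab : ∀ a ∈ Yg, ∀ b ∈ Yg, a * b = b * a := by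
    rintro _ ⟨a, ha, rfl⟩ _ ⟨b, hb, rfl⟩
    rw [← map_mul, ← map_mul, hYab a ha b hb]
  have hcentral : ∀ x : L, (∀ y ∈ Y, y * x = x * y) → (∀ y ∈ Yg, y * x = x * y) → x ∈ Z := by
    intro x h1 h2
    rw [Subgroup.mem_center_iff]
    intro z
    have : (⊤ : Subgroup L) ≤ Subgroup.centralizer {x} := hgen.ge.trans (sup_le
      (fun y hy => Subgroup.mem_centralizer_singleton_iff.2 (h1 y hy))
      (fun y hy => Subgroup.mem_centralizer_singleton_iff.2 (h2 y hy)))
    exact Subgroup.mem_centralizer_singleton_iff.1 (this (Subgroup.mem_top z))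
  have hZO : Z ≤ O := le_trans (Subgroup.center_le_centralizer _) hchar
  have hYYg : Y ⊓ Yg = Y ⊓ Z := by
    apply le_antisymm
    · intro x hx
      exact Subgroup.mem_inf.2 ⟨hx.1, hcentral x (fun y hy => hYab y hy x hx.1) (fun y hy => hYgab y hy x hx.2)⟩
    · intro x hx
      obtain ⟨hxY, hxZ⟩ := Subgroup.mem_inf.1 hx
      refine Subgroup.mem_inf.2 ⟨hxY, x, hxY, ?_⟩
      show g * x * g⁻¹ = x
      rw [Subgroup.mem_center_iff.1 hxZ g, mul_inv_cancel_right]
  -- the two halves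
  set B := O ⊓ Y
  set Bg := O ⊓ Yg
  have hOc : O.map c = O := CfsgLib.Coprime.map_conj_of_mem_normalizer
    (CfsgLib.Comp.le_normalizer_of_normal' O ⊤ (Subgroup.mem_top g))
  have hBg : B.map c = Bg := by rw [Subgroup.map_inf _ _ _ (MulAut.conj g).injective, hOc]
  have hOYg : O ≤ Subgroup.normalizer (Yg : Set L) := by
    intro o ho
    obtain ⟨o', ho', rfl⟩ := hOc.ge ho
    apply CfsgLib.PLocal.mem_normalizer_map_conj.2
    show (Y.map c).map (MulAut.conj (c o')).toMonoidHom = Y.map c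
    rw [← CfsgLib.Coprime.map_conj_map c o' Y, CfsgLib.Coprime.map_conj_of_mem_normalizer (hOY ho')]
  have hswap : ∀ Y1 : Subgroup L, O ≤ Subgroup.normalizer (Y1 : Set L) → ∀ b ∈ O, ∀ y ∈ Y1,
      ⁅y, b⁆ ∈ O ⊓ Y1 := by
    intro Y1 hn b hb y hy
    rw [commutatorElement_def]
    refine Subgroup.mem_inf.2 ⟨mul_mem (hOn.conj_mem b hb y) (inv_mem hb), ?_⟩
    rw [show y * b * y⁻¹ * b⁻¹ = y * (b * y⁻¹ * b⁻¹) by group]
    exact mul_mem hy ((Subgroup.mem_normalizer_iff.1 (hn hb) _).1 (inv_mem hy))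
  have hAeq : A = B ⊔ Bg := by
    rw [hA]
    apply le_antisymm
    · have hn : (B ⊔ Bg).Normal := by
        refine CfsgLib.Comp.normal_of_top_le_normalizer (hgen.ge.trans (sup_le ?_ ?_))
        · intro y hy
          apply CfsgLib.PLocal.mem_normalizer_map_conj.2
          refine Subgroup.eq_of_le_of_card_ge ?_ (CfsgLib.Coprime.card_map_conj y _).ge
          rw [Subgroup.map_sup]
          refine sup_le ?_ ?_
          · rintro _ ⟨b, hb, rfl⟩
            refine Subgroup.mem_sup_left ?_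
            show y * b * y⁻¹ ∈ B
            rw [hYab y hy b hb.2, mul_inv_cancel_right]; exact hb
          · rintro _ ⟨b, hb, rfl⟩
            show y * b * y⁻¹ ∈ B ⊔ Bg
            rw [show y * b * y⁻¹ = ⁅y, b⁆ * b by rw [commutatorElement_def]; group]
            exact mul_mem (Subgroup.mem_sup_left (hswap Y hOY b hb.1 y hy)) (Subgroup.mem_sup_right hb)
        · intro y hy
          apply CfsgLib.PLocal.mem_normalizer_map_conj.2
          refine Subgroup.eq_of_le_of_card_ge ?_ (CfsgLib.Coprime.card_map_conj y _).ge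
          rw [Subgroup.map_sup]
          refine sup_le ?_ ?_
          · rintro _ ⟨b, hb, rfl⟩
            show y * b * y⁻¹ ∈ B ⊔ Bg
            rw [show y * b * y⁻¹ = ⁅y, b⁆ * b by rw [commutatorElement_def]; group]
            exact mul_mem (Subgroup.mem_sup_right (hswap Yg hOYg b hb.1 y hy)) (Subgroup.mem_sup_left hb)
          · rintro _ ⟨b, hb, rfl⟩
            refine Subgroup.mem_sup_right ?_
            show y * b * y⁻¹ ∈ Bg
            rw [hYgab y hy b hb.2, mul_inv_cancel_right]; exact hb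
      exact Subgroup.normalClosure_le_normal (le_sup_left (b := Bg))
    · refine sup_le Subgroup.subset_normalClosure ?_
      rw [← hBg]
      rintro _ ⟨b, hb, rfl⟩
      exact Subgroup.normalClosure_normal.conj_mem b (Subgroup.subset_normalClosure hb) g
  have hAO : A ≤ O := hAeq.le.trans (sup_le inf_le_left inf_le_left)
  have hAY : A ⊓ Y = B := le_antisymm (inf_le_inf_right Y hAO) (le_inf (hAeq ▸ le_sup_left) inf_le_right)
  have hAYg : A ⊓ Yg = Bg := le_antisymm (inf_le_inf_right Yg hAO) (le_inf (hAeq ▸ le_sup_right) inf_le_right)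
  have hBB : B ⊓ Bg = Y ⊓ Z := by
    rw [← hYYg]
    exact le_antisymm (inf_le_inf inf_le_right inf_le_right)
      (le_inf (le_inf (hYYg.le.trans (inf_le_right.trans hZO)) inf_le_left)
        (le_inf (hYYg.le.trans (inf_le_right.trans hZO)) inf_le_right))
  set K := ⁅B, Bg⁆
  have hKc : ∀ b ∈ B, ∀ c' ∈ Bg, ⁅b, c'⁆ ∈ Y ⊓ Z := by
    intro b hb c' hc'
    rw [← hBB]
    refine Subgroup.mem_inf.2 ⟨hswap Y hOY c' hc'.1 b hb.2, ?_⟩
    rw [← commutatorElement_inv]
    exact inv_mem (hswap Yg hOYg b hb.1 c' hc'.2)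
  have hKYZ : K ≤ Y ⊓ Z := Subgroup.commutator_le.2 hKc
  have hAA : ⁅A, A⁆ ≤ K := by
    have hKn : K.Normal := ⟨fun k hk z => by
      rw [Subgroup.mem_center_iff.1 (Subgroup.mem_inf.1 (hKYZ hk)).2 z, mul_inv_cancel_right]; exact hk⟩
    set π := QuotientGroup.mk' K
    have hcomm : ∀ u v : L, π u * π v = π v * π u → ⁅u, v⁆ ∈ K := fun u v h => by
      rw [← QuotientGroup.eq_one_iff]
      show π ⁅u, v⁆ = 1
      rwa [map_commutatorElement, commutatorElement_eq_one_iff_mul_comm]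
    have hgenA : A ≤ (Subgroup.centralizer ((A.map π : Subgroup (L ⧸ K)) : Set (L ⧸ K))).comap π := by
      have h0 : ∀ u, (u ∈ B ∨ u ∈ Bg) → ∀ v, (v ∈ B ∨ v ∈ Bg) → π u * π v = π v * π u := by
        intro u hu v hv
        rcases hu with hu | hu <;> rcases hv with hv | hv
        · rw [← map_mul, ← map_mul, hYab u hu.2 v hv.2]
        · rw [← commutatorElement_eq_one_iff_mul_comm, ← map_commutatorElement]
          exact (QuotientGroup.eq_one_iff _).2 (Subgroup.commutator_mem_commutator hu hv)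
        · rw [eq_comm, ← commutatorElement_eq_one_iff_mul_comm, ← map_commutatorElement]
          exact (QuotientGroup.eq_one_iff _).2 (Subgroup.commutator_mem_commutator hv hu)
        · rw [← map_mul, ← map_mul, hYgab u hu.2 v hv.2]
      rw [← Subgroup.map_le_iff_le_comap]
      conv_lhs => rw [hAeq, Subgroup.map_sup]
      refine sup_le ?_ ?_
      all_goals
        rintro _ ⟨u, hu, rfl⟩ _ ⟨v, hv, rfl⟩
        have : A ≤ (Subgroup.centralizer {π u}).comap π := hAeq.le.trans (sup_le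
          (fun w hw => Subgroup.mem_centralizer_singleton_iff.2 (h0 w (Or.inl hw) u (by first | exact Or.inl hu | exact Or.inr hu)))
          (fun w hw => Subgroup.mem_centralizer_singleton_iff.2 (h0 w (Or.inr hw) u (by first | exact Or.inl hu | exact Or.inr hu))))
        exact Subgroup.mem_centralizer_singleton_iff.1 (this hv)
    exact Subgroup.commutator_le.2 fun u hu v hv => hcomm u v ((hgenA hu _ ⟨v, hv, rfl⟩).symm)
  have hBA : B ≤ A := hAeq ▸ le_sup_left
  have hBgA : Bg ≤ A := hAeq ▸ le_sup_right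
  have h1 : ⁅A, A⁆ = ⁅A ⊓ Y, A⁆ := by
    rw [hAY]
    exact le_antisymm (hAA.trans (Subgroup.commutator_mono le_rfl hBgA)) (Subgroup.commutator_mono hBA le_rfl)
  have h2 : ⁅A ⊓ Y, A⁆ = ⁅A ⊓ Y, A ⊓ Yg⁆ := by
    rw [hAY, hAYg]
    exact le_antisymm ((Subgroup.commutator_mono hBA le_rfl).trans hAA) (Subgroup.commutator_mono le_rfl hBgA)
  have hfr : (frattini A).map A.subtype = ⁅A, A⁆ := by
    have hAp : IsPGroup p A := (CfsgLib.Solvable.pCore_isPGroup p).to_le hAO
    apply le_antisymm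
    · rw [Subgroup.map_le_iff_le_comap]
      set N := (⁅A, A⁆).comap A.subtype
      haveI : N.Normal := ⟨fun n hn z => by
        show (z : L) * n * (z : L)⁻¹ ∈ ⁅A, A⁆
        have hn' : (n : L) ∈ ⁅A, A⁆ := hn
        rw [Subgroup.mem_center_iff.1 (Subgroup.mem_inf.1 (hKYZ (hAA hn'))).2 (z : L), mul_inv_cancel_right]
        exact hn'⟩
      have hN1 : ∀ x y : A, ⁅x, y⁆ ∈ N := fun x y => by
        show ((⁅x, y⁆ : A) : L) ∈ ⁅A, A⁆
        exact Subgroup.commutator_mem_commutator x.2 y.2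
      refine CfsgLib.Transfer.frattini_le_of_elementary_quotient (p := p) N hN1 fun x => ?_
      have hab : ∀ a b : A ⧸ N, Commute a b := fun a b => by
        obtain ⟨a, rfl⟩ := QuotientGroup.mk'_surjective N a
        obtain ⟨b, rfl⟩ := QuotientGroup.mk'_surjective N b
        show QuotientGroup.mk' N a * _ = _
        rw [← commutatorElement_eq_one_iff_mul_comm, ← map_commutatorElement]
        exact (QuotientGroup.eq_one_iff _).2 (hN1 a b)
      let E : Subgroup A :=
        { carrier := {a | a ^ p ∈ N}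
          one_mem' := by show (1 : A) ^ p ∈ N; rw [one_pow]; exact one_mem N
          mul_mem' := fun {a b} ha hb => by
            show (a * b) ^ p ∈ N
            rw [← QuotientGroup.eq_one_iff, QuotientGroup.mk_pow, QuotientGroup.mk_mul, (hab _ _).mul_pow,
              ← QuotientGroup.mk_pow, ← QuotientGroup.mk_pow, (QuotientGroup.eq_one_iff _).2 ha,
              (QuotientGroup.eq_one_iff _).2 hb, one_mul]
          inv_mem' := fun {a} ha => by show a⁻¹ ^ p ∈ N; rw [inv_pow]; exact inv_mem ha }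
      have hE : A ≤ E.map A.subtype := by
        conv_lhs => rw [hAeq]
        refine sup_le ?_ ?_
        · intro b hb
          refine ⟨⟨b, hBA hb⟩, ?_, rfl⟩
          show b ^ p ∈ ⁅A, A⁆
          rw [hYel.2 b hb.2]; exact one_mem _
        · intro b hb
          refine ⟨⟨b, hBgA hb⟩, ?_, rfl⟩
          show b ^ p ∈ ⁅A, A⁆
          obtain ⟨a, ha, rfl⟩ := hb.2
          rw [← map_pow, hYel.2 a ha, map_one]; exact one_mem _
      obtain ⟨e, he, hex⟩ := hE x.2
      rw [show x = e from Subtype.ext hex.symm]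
      exact he
    · rw [Subgroup.commutator_le]
      intro x hx y hy
      exact ⟨⁅(⟨x, hx⟩ : A), ⟨y, hy⟩⁆, CfsgLib.Transfer.commutatorElement_mem_frattini hAp _ _, rfl⟩
  refine ⟨hfr, h1, h2, ?_, hYYg, ?_, ?_⟩
  · rw [h2, hAY, hAYg]; exact hKYZ
  · rw [hAY, hAYg]; exact hBB
  · apply le_antisymm
    · intro a ha
      obtain ⟨haA, haZ⟩ := Subgroup.mem_inf.1 ha
      have hBgn : Bg ≤ Subgroup.normalizer (B : Set L) :=
        (inf_le_left.trans ((le_inf (CfsgLib.Comp.le_normalizer_of_normal' O _) hOY).trans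
          Subgroup.inf_normalizer_le_normalizer_inf))
      obtain ⟨b, hb, b', hb', rfl⟩ := CfsgLib.Comp.exists_mul_of_mem_sup hBgn (hAeq.le haA)
      have hc' : b' ∈ Z := hcentral b' (fun y hy => by
        rw [show b' = b⁻¹ * (b * b') by group]
        have e1 : y * (b * b') = b * b' * y := Subgroup.mem_center_iff.1 haZ y
        have e2 : y * b⁻¹ = b⁻¹ * y := hYab y hy _ (inv_mem hb.2)
        rw [← mul_assoc, e2, mul_assoc, e1]; group) (fun y hy => hYgab y hy b' hb'.2)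
      have hb'Y : b' ∈ Y := by
        obtain ⟨u, hu, hub⟩ := hb'.2
        have h3 : g * u * g⁻¹ = b' := hub
        have h4 : u = b' := by
          rw [show u = g⁻¹ * (g * u * g⁻¹) * g by group, h3, Subgroup.mem_center_iff.1 hc' g⁻¹, inv_mul_cancel_right]
        exact h4 ▸ hu
      exact Subgroup.mem_inf.2 ⟨mul_mem hb.2 hb'Y, haZ⟩
    · refine le_inf (le_trans ?_ hBA) inf_le_right
      exact le_inf (inf_le_right.trans hZO) inf_le_left

end Cfsg.Agent.S2837
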