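import Cfsg.Statements.S2840
import Cfsg.Agent.Lib.Amalgam.WeaklyClosed

set_option autoImplicit false
open Cfsg

namespace Cfsg.Agent.S2840

/-- Let Q be a nontrivial p-subgroup of the finite group H that is a weakly closed subgroup and K a subgroup containing Q; let K° be the weak closure of Q in K (generated by the H-conjugates of Q inside K). Then K° is generated by the K-conjugates of Q, and K° is the subnormal closure of Q in K. -/
theorem result {H : Type*} [Group H] [Finite H] {p : ℕ} [Fact p.Prime] (Q : Subgroup H) (hQp : IsPGroup p ↥Q) (hQ1 : Q ≠ ⊥) (hwc : Cfsg.IsWeaklyClosedSubgroup p Q) (K : Subgroup H) (hQK : Q ≤ K) (Kc : Subgroup H) (hKc : Kc = Cfsg.weakClosure Q K) : Kc = ⨆ k : ↥K, ((Q : Subgroup H).map (MulAut.conj ((k : H) : H)).toMonoidHom) ∧ Kc = (Cfsg.subnormalClosure (Q.subgroupOf K)).map K.subtype := by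
  subst hKc
  have hkey : ∀ V : Subgroup H, Q ≤ V → Cfsg.weakClosure Q V = ⨆ k : ↥V, Q.map (MulAut.conj ((k : H) : H)).toMonoidHom := by
    intro V hQV
    refine le_antisymm (iSup_le fun g => ?_) (iSup_le fun k => CfsgLib.Amalgam.conj_le_weakClosure ?_)
    · obtain ⟨k, hk, hke⟩ := CfsgLib.Amalgam.exists_conj_eq_of_le hwc hQp hQV g.2
      rw [hke]
      exact le_iSup (fun k : ↥V => Q.map (MulAut.conj ((k : H) : H)).toMonoidHom) ⟨k, hk⟩
    · rintro _ ⟨q, hq, rfl⟩
      exact mul_mem (mul_mem k.2 (hQV hq)) (inv_mem k.2)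
  refine ⟨hkey K hQK, ?_⟩
  set W := Cfsg.weakClosure Q K
  have hsub : ∀ U : Subgroup K, U.IsSubnormal → Q.subgroupOf K ≤ U → W ≤ U.map K.subtype := by
    intro U hU
    induction hU with
    | top => intro _; rw [← MonoidHom.range_eq_map, Subgroup.range_subtype]; exact CfsgLib.Amalgam.weakClosure_le _ _
    | step U V hle _ hN ih =>
      intro hQU
      refine iSup_le fun g => ?_
      have h1 : Q.map (MulAut.conj (g : H)).toMonoidHom ≤ V.map K.subtype :=
        (CfsgLib.Amalgam.conj_le_weakClosure g.2).trans (ih (hQU.trans hle))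
      have hQV : Q ≤ V.map K.subtype := fun q hq => ⟨⟨q, hQK hq⟩, hle (hQU hq), rfl⟩
      obtain ⟨k, ⟨v, hv, rfl⟩, hke⟩ := CfsgLib.Amalgam.exists_conj_eq_of_le hwc hQp hQV h1
      rw [hke]
      rintro _ ⟨q, hq, rfl⟩
      exact ⟨v * ⟨q, hQK hq⟩ * v⁻¹,
        (Subgroup.mem_normalizer_iff.1 ((Subgroup.normal_subgroupOf_iff_le_normalizer hle).1 hN hv) _).1 (hQU hq), rfl⟩
  apply le_antisymm
  · intro x hx
    refine ⟨⟨x, CfsgLib.Amalgam.weakClosure_le _ _ hx⟩, ?_, rfl⟩
    refine Subgroup.mem_sInf.2 fun U hU => ?_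
    obtain ⟨u, hu, hux⟩ := hsub U hU.2 hU.1 hx
    rwa [show (⟨x, CfsgLib.Amalgam.weakClosure_le _ _ hx⟩ : K) = u from Subtype.ext hux.symm]
  · rw [Subgroup.map_le_iff_le_comap]
    refine sInf_le ⟨fun q hq => CfsgLib.Amalgam.self_le_weakClosure hQK hq, ?_⟩
    have : (W.subgroupOf K).Normal := CfsgLib.Coprime.normal_subgroupOf_of_le_normalizer fun k hk => by
      apply CfsgLib.PLocal.mem_normalizer_map_conj.2
      rw [CfsgLib.Amalgam.map_weakClosure_conj, CfsgLib.Coprime.map_conj_of_mem_normalizer (Subgroup.le_normalizer hk)]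
    exact Subgroup.IsSubnormal.step _ ⊤ le_top Subgroup.IsSubnormal.top (this.subgroupOf ⊤)

end Cfsg.Agent.S2840
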