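import Cfsg.Statements.S2841
import Cfsg.Agent.Lib.Amalgam.WeaklyClosed

set_option autoImplicit false
open Cfsg

namespace Cfsg.Agent.S2841

open scoped commutatorElement
/-- Let Q be a nontrivial p-subgroup of the finite group H that is a weakly closed subgroup and N a normal subgroup of H. Then N = N_N(Q)·[N, Q] and [N, Q] = (Q ∩ [N, Q])·[N, Q, Q]. -/
theorem result {H : Type*} [Group H] [Finite H] {p : ℕ} [Fact p.Prime] (Q : Subgroup H) (hQp : IsPGroup p ↥Q) (hQ1 : Q ≠ ⊥) (hwc : Cfsg.IsWeaklyClosedSubgroup p Q) (N' : Subgroup H) [N'.Normal] : (∀ n : H, n ∈ N' → ∃ a ∈ N' ⊓ Subgroup.normalizer ((Q : Subgroup H) : Set H), ∃ b ∈ ⁅N', Q⁆, n = a * b) ∧ (∀ c : H, c ∈ ⁅N', Q⁆ → ∃ a ∈ Q ⊓ ⁅N', Q⁆, ∃ b ∈ ⁅⁅N', Q⁆, Q⁆, c = a * b) := by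
  set C := ⁅N', Q⁆
  have hCN : C ≤ N' := Subgroup.commutator_le_left N' Q
  have hN'n : N' ≤ Subgroup.normalizer (C : Set H) := Subgroup.normalizer_commutator_ge_left _ _
  have hQn : Q ≤ Subgroup.normalizer (C : Set H) := Subgroup.normalizer_commutator_ge_right _ _
  have part1 : ∀ n : H, n ∈ N' → ∃ a ∈ N' ⊓ Subgroup.normalizer ((Q : Subgroup H) : Set H), ∃ b ∈ C, n = a * b := by
    intro n hn
    have hle : Q.map (MulAut.conj n⁻¹).toMonoidHom ≤ C ⊔ Q := by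
      rintro _ ⟨q, hq, rfl⟩
      show n⁻¹ * q * n⁻¹⁻¹ ∈ C ⊔ Q
      rw [show n⁻¹ * q * n⁻¹⁻¹ = ⁅n⁻¹, q⁆ * q by rw [commutatorElement_def]; group]
      exact mul_mem (Subgroup.mem_sup_left (Subgroup.commutator_mem_commutator (inv_mem hn) hq))
        (Subgroup.mem_sup_right hq)
    obtain ⟨k, hk, hke⟩ := CfsgLib.Amalgam.exists_conj_eq_of_le hwc hQp le_sup_right hle
    obtain ⟨c, hc, q, hq, rfl⟩ := CfsgLib.Comp.exists_mul_of_mem_sup hQn hk
    rw [← CfsgLib.Coprime.map_conj_conj, CfsgLib.Coprime.map_conj_of_mem_normalizer (Subgroup.le_normalizer hq)] at hke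
    have hm : n * c ∈ Subgroup.normalizer (Q : Set H) := by
      apply CfsgLib.PLocal.mem_normalizer_map_conj.2
      rw [← CfsgLib.Coprime.map_conj_conj, ← hke, CfsgLib.Coprime.map_conj_conj, mul_inv_cancel,
        CfsgLib.Amalgam.map_conj_one']
    exact ⟨n * c, Subgroup.mem_inf.2 ⟨mul_mem hn (hCN hc), hm⟩, c⁻¹, inv_mem hc, (mul_inv_cancel_right n c).symm⟩
  refine ⟨part1, ?_⟩
  set D := ⁅C, Q⁆
  have hDC : D ≤ C := by
    show ⁅C, Q⁆ ≤ C
    exact Subgroup.le_normalizer_iff_commutator_le_left.1 hQn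
  have hCD : C ≤ Subgroup.normalizer (D : Set H) := Subgroup.normalizer_commutator_ge_left _ _
  have hsup : C ≤ (Q ⊓ C) ⊔ D := by
    refine Subgroup.commutator_le.2 fun n hn q hq => ?_
    obtain ⟨a, ha, b, hb, rfl⟩ := part1 n hn
    obtain ⟨haN, haQ⟩ := Subgroup.mem_inf.1 ha
    rw [show ⁅a * b, q⁆ = a * ⁅b, q⁆ * a⁻¹ * ⁅a, q⁆ by simp only [commutatorElement_def]; group]
    refine mul_mem (Subgroup.mem_sup_right ?_) (Subgroup.mem_sup_left (Subgroup.mem_inf.2 ⟨?_, ?_⟩))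
    · have hD : D.map (MulAut.conj a).toMonoidHom = D := by
        show (⁅C, Q⁆).map _ = _
        rw [Subgroup.map_commutator, CfsgLib.Coprime.map_conj_of_mem_normalizer (hN'n haN),
          CfsgLib.Coprime.map_conj_of_mem_normalizer haQ]
      exact hD.le ⟨_, Subgroup.commutator_mem_commutator hb hq, rfl⟩
    · rw [commutatorElement_def]
      exact mul_mem ((Subgroup.mem_normalizer_iff.1 haQ q).1 hq) (inv_mem hq)
    · exact Subgroup.commutator_mem_commutator haN hq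
  intro c hc
  have h := hsup hc
  rw [sup_comm] at h
  obtain ⟨d, hd, a, ha, rfl⟩ := CfsgLib.Comp.exists_mul_of_mem_sup (inf_le_right.trans hCD) h
  refine ⟨a, ha, a⁻¹ * d * a, ?_, by group⟩
  have := (Subgroup.mem_normalizer_iff.1 (hCD (inv_mem (Subgroup.mem_inf.1 ha).2)) d).1 hd
  simpa using this

end Cfsg.Agent.S2841
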