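import Cfsg.Statements.S2843
import Cfsg.Agent.Lib.Amalgam.WeaklyClosed

set_option autoImplicit false
open Cfsg

namespace Cfsg.Agent.S2843

open scoped commutatorElement
/-- Let Q be a nontrivial large p-subgroup of the finite group H, Q ≤ L ≤ H, and Y a nontrivial p-subgroup of H normalized by L. Let L° be the weak closure of Q in L (generated by the conjugates of Q inside L). Then L° equals the weak closure of Q in L·C_H(Y), and [L°, C_H(Y)] ≤ O_p(L°); in particular C_H(Y) normalizes L°. -/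
theorem result {H : Type*} [Group H] [Finite H] {p : ℕ} [Fact p.Prime] (Q : Subgroup H) (hQp : IsPGroup p ↥Q) (hQ1 : Q ≠ ⊥) (hL : Cfsg.IsLarge Q) (L : Subgroup H) (hQL : Q ≤ L) (Y : Subgroup H) (hYp : IsPGroup p ↥Y) (hY1 : Y ≠ ⊥) (hLY : L ≤ Subgroup.normalizer ((Y : Subgroup H) : Set H)) : Cfsg.weakClosure Q L = Cfsg.weakClosure Q (L ⊔ Subgroup.centralizer ((Y : Subgroup H) : Set H)) ∧ ⁅Cfsg.weakClosure Q L, Subgroup.centralizer ((Y : Subgroup H) : Set H)⁆ ≤ (Cfsg.pCoreOf p (Cfsg.weakClosure Q L)) ∧ Subgroup.centralizer ((Y : Subgroup H) : Set H) ≤ Subgroup.normalizer (((Cfsg.weakClosure Q L) : Subgroup H) : Set H) := by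
  set C := Subgroup.centralizer (Y : Set H)
  set Lc := Cfsg.weakClosure Q L
  have hLC : L ≤ Subgroup.normalizer (C : Set H) :=
    hLY.trans (CfsgLib.Comp.normalizer_le_normalizer_centralizer Y)
  have hwc := CfsgLib.Amalgam.weaklyClosed_of_large hQp hQ1 hL
  have hCN : ∀ g : H, Q.map (MulAut.conj g).toMonoidHom ≤ L →
      C ≤ Subgroup.normalizer ((Q.map (MulAut.conj g).toMonoidHom : Subgroup H) : Set H) := fun g hg =>
    CfsgLib.Amalgam.centralizer_le_normalizer_of_large (CfsgLib.Amalgam.isLarge_map_conj hL g)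
      (hQp.map _) hYp hY1 (hg.trans hLY)
  have hCW : C ≤ Subgroup.normalizer (Lc : Set H) := CfsgLib.Comp.le_normalizer_iSup _ fun g => hCN g g.2
  refine ⟨le_antisymm (CfsgLib.Amalgam.weakClosure_mono le_sup_left) (iSup_le fun g => ?_), ?_, hCW⟩
  · obtain ⟨k, hk, hke⟩ := CfsgLib.Amalgam.exists_conj_eq_of_le hwc hQp (hQL.trans le_sup_left) g.2
    rw [sup_comm] at hk
    obtain ⟨c, hc, l, hl, rfl⟩ := CfsgLib.Comp.exists_mul_of_mem_sup hLC hk
    have hlL : Q.map (MulAut.conj l).toMonoidHom ≤ L := by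
      rintro _ ⟨q, hq, rfl⟩
      exact mul_mem (mul_mem hl (hQL hq)) (inv_mem hl)
    rw [hke, ← CfsgLib.Coprime.map_conj_conj, CfsgLib.Coprime.map_conj_of_mem_normalizer (hCN l hlL hc)]
    exact CfsgLib.Amalgam.conj_le_weakClosure hlL
  · let J : {g : H // Q.map (MulAut.conj g).toMonoidHom ≤ L} → Subgroup H :=
      fun g => Q.map (MulAut.conj (g : H)).toMonoidHom ⊓ C
    set Z := ⨆ g, J g
    have hZC : Z ≤ C := iSup_le fun g => inf_le_right
    have hCJ : ∀ g, C ≤ Subgroup.normalizer (J g : Set H) := fun g =>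
      (le_inf (hCN g g.2) Subgroup.le_normalizer).trans Subgroup.inf_normalizer_le_normalizer_inf
    have hZp : IsPGroup p Z := (CfsgLib.Amalgam.isPGroup_pCoreOf C).to_le (iSup_le fun g =>
      CfsgLib.Amalgam.le_pCoreOf inf_le_right (hCJ g) ((hQp.map _).to_le inf_le_left))
    have hZn : L ≤ Subgroup.normalizer (Z : Set H) := by
      intro l hl
      apply CfsgLib.PLocal.mem_normalizer_map_conj.2
      refine Subgroup.eq_of_le_of_card_ge ?_ (CfsgLib.Coprime.card_map_conj l Z).ge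
      rw [Subgroup.map_iSup]
      refine iSup_le fun g => ?_
      rw [Subgroup.map_inf _ _ _ (MulAut.conj l).injective, CfsgLib.Coprime.map_conj_conj,
        CfsgLib.Coprime.map_conj_of_mem_normalizer (hLC hl)]
      refine le_iSup_of_le ⟨l * g, ?_⟩ le_rfl
      rw [← CfsgLib.Coprime.map_conj_conj]
      exact (Subgroup.map_mono g.2).trans (CfsgLib.Coprime.map_conj_of_mem_normalizer (Subgroup.le_normalizer hl)).le
    have hWL : Lc ≤ L := CfsgLib.Amalgam.weakClosure_le _ _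
    have hZO : Z ≤ Cfsg.pCoreOf p Lc := CfsgLib.Amalgam.le_pCoreOf
      (iSup_le fun g => inf_le_left.trans (CfsgLib.Amalgam.conj_le_weakClosure g.2)) (hWL.trans hZn) hZp
    refine le_trans ?_ hZO
    let E : Subgroup H :=
      { carrier := {x | x ∈ L ∧ ∀ c ∈ C, ⁅x, c⁆ ∈ Z}
        one_mem' := ⟨one_mem L, fun c _ => by simp⟩
        mul_mem' := by
          rintro a b ⟨ha, ha'⟩ ⟨hb, hb'⟩
          refine ⟨mul_mem ha hb, fun c hc => ?_⟩
          rw [show ⁅a * b, c⁆ = a * ⁅b, c⁆ * a⁻¹ * ⁅a, c⁆ by simp only [commutatorElement_def]; group]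
          exact mul_mem ((Subgroup.mem_normalizer_iff.1 (hZn ha) _).1 (hb' c hc)) (ha' c hc)
        inv_mem' := by
          rintro a ⟨ha, ha'⟩
          refine ⟨inv_mem ha, fun c hc => ?_⟩
          have := (Subgroup.mem_normalizer_iff.1 (hZn (inv_mem ha)) _).1 (inv_mem (ha' c hc))
          rw [show ⁅a⁻¹, c⁆ = a⁻¹ * ⁅a, c⁆⁻¹ * a⁻¹⁻¹ by simp only [commutatorElement_def]; group]
          exact this }
    have hWE : Lc ≤ E := by
      refine iSup_le fun g x hx => ⟨g.2 hx, fun c hc => Subgroup.mem_iSup_of_mem g (Subgroup.mem_inf.2 ⟨?_, ?_⟩)⟩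
      · rw [commutatorElement_def, show x * c * x⁻¹ * c⁻¹ = x * (c * x⁻¹ * c⁻¹) by group]
        exact mul_mem hx ((Subgroup.mem_normalizer_iff.1 (hCN g g.2 hc) _).1 (inv_mem hx))
      · rw [commutatorElement_def]
        exact mul_mem ((Subgroup.mem_normalizer_iff.1 (hLC (g.2 hx)) c).1 hc) (inv_mem hc)
    exact Subgroup.commutator_le.2 fun x hx c hc => (hWE hx).2 c hc

end Cfsg.Agent.S2843
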