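import Cfsg.Statements.S2844
import Cfsg.Agent.Lib.Amalgam.WeaklyClosed

set_option autoImplicit false
open Cfsg

namespace Cfsg.Agent.S2844

/-- Let Q be a nontrivial large p-subgroup of the finite group H and Q• = O_p(N_H(Q)). Then for every g ∈ H outside N_H(Q): C_H(Q) ∩ C_H(gQg⁻¹) = 1, C_H(Q•) ∩ C_H(gQ•g⁻¹) = 1, Z(Q) ∩ Z(gQg⁻¹) = 1 and Z(Q•) ∩ Z(gQ•g⁻¹) = 1; moreover N_H(Q) = N_H(Q•) and Q• is large in H. -/
theorem result {H : Type*} [Group H] [Finite H] {p : ℕ} [Fact p.Prime] (Q : Subgroup H) (hQp : IsPGroup p ↥Q) (hQ1 : Q ≠ ⊥) (hL : Cfsg.IsLarge Q) (Qb : Subgroup H) (hQb : Qb = Cfsg.largeBullet p Q) : (∀ g : H, g ∉ Subgroup.normalizer ((Q : Subgroup H) : Set H) → Subgroup.centralizer ((Q : Subgroup H) : Set H) ⊓ Subgroup.centralizer ((((Q : Subgroup H).map (MulAut.conj (g : H)).toMonoidHom) : Subgroup H) : Set H) = ⊥ ∧ Subgroup.centralizer ((Qb : Subgroup H) : Set H) ⊓ Subgroup.centralizer ((((Qb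 : Subgroup H).map (MulAut.conj (g : H)).toMonoidHom) : Subgroup H) : Set H) = ⊥ ∧ (Q ⊓ Subgroup.centralizer ((Q : Subgroup H) : Set H)) ⊓ (((Q : Subgroup H).map (MulAut.conj (g : H)).toMonoidHom) ⊓ Subgroup.centralizer ((((Q : Subgroup H).map (MulAut.conj (g : H)).toMonoidHom) : Subgroup H) : Set H)) = ⊥ ∧ (Qb ⊓ Subgroup.centralizer ((Qb : Subgroup H) : Set H)) ⊓ (((Qb : Subgroup H).map (MulAut.conj (g : H)).toMonoidHom) ⊓ Subgroup.centralizer ((((Qb : Subgroup H).map (MulAut.conj (g : H)).toMonoidHom) : Subgroup H) : Set H)) = ⊥) ∧ Subgroup.normalizer ((Q : Subgroup H) : Set H) = Subgroup.normalizer ((Qb : Subgroup H) : Set H) ∧ Cfsg.IsLarge Qb := by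
  have hwc := CfsgLib.Amalgam.weaklyClosed_of_large hQp hQ1 hL
  have hQbp : IsPGroup p Qb := hQb ▸ CfsgLib.Amalgam.isPGroup_pCoreOf _
  have hQQb : Q ≤ Qb := hQb ▸ CfsgLib.Amalgam.le_pCoreOf Subgroup.le_normalizer le_rfl hQp
  have hN : Subgroup.normalizer (Q : Set H) = Subgroup.normalizer (Qb : Set H) := by
    refine le_antisymm ?_ (CfsgLib.Amalgam.normalizer_le_of_weaklyClosed hwc hQbp hQQb)
    rw [hQb]; exact CfsgLib.Amalgam.le_normalizer_pCoreOf _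
  have hc := Subgroup.centralizer_le (G := H) hQQb
  refine ⟨fun g hg => ?_, hN, (hc.trans hL.1).trans hQQb, fun U hU hU1 => hN ▸ hL.2 U (hU.trans hc) hU1⟩
  have hne : Q.map (MulAut.conj g).toMonoidHom ≠ Q := fun h => hg (CfsgLib.PLocal.mem_normalizer_map_conj.2 h)
  have h1 := CfsgLib.Amalgam.centralizer_inf_centralizer_eq_bot hQp hQ1 hL hne
  have h2 : Subgroup.centralizer (Qb : Set H) ⊓
      Subgroup.centralizer ((Qb.map (MulAut.conj g).toMonoidHom : Subgroup H) : Set H) = ⊥ :=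
    le_bot_iff.1 ((inf_le_inf hc (Subgroup.centralizer_le (Subgroup.map_mono hQQb))).trans h1.le)
  refine ⟨h1, h2, le_bot_iff.1 ?_, le_bot_iff.1 ?_⟩
  · exact (inf_le_inf inf_le_right inf_le_right).trans h1.le
  · exact (inf_le_inf inf_le_right inf_le_right).trans h2.le

end Cfsg.Agent.S2844
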