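import Cfsg.Statements.S2845
import Cfsg.Agent.Lib.Amalgam.WeaklyClosed

set_option autoImplicit false
open Cfsg

namespace Cfsg.Agent.S2845

/-- Let Q be a nontrivial large p-subgroup of the finite group H. Then for every subgroup L ≥ Q with O_p(L) ≠ 1, C_H(O_p(L)) is a p-group and L has characteristic p, and either the weak closure L° of Q in L equals Q or C_H(L°) = 1; for every subgroup R of H containing a Sylow p-subgroup of H with O_p(R) ≠ 1, C_H(O_p(R)) ≤ O_p(R); and H has parabolic characteristic p. -/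
theorem result {H : Type*} [Group H] [Finite H] {p : ℕ} [Fact p.Prime] (Q : Subgroup H) (hQp : IsPGroup p ↥Q) (hQ1 : Q ≠ ⊥) (hL : Cfsg.IsLarge Q) : (∀ L : Subgroup H, Q ≤ L → Cfsg.pCore p ↥L ≠ ⊥ → IsPGroup p ↥(Subgroup.centralizer (((Cfsg.pCoreOf p L) : Subgroup H) : Set H)) ∧ Subgroup.centralizer (Cfsg.pCore p ↥L : Set ↥L) ≤ Cfsg.pCore p ↥L ∧ (Cfsg.weakClosure Q L = Q ∨ Subgroup.centralizer (((Cfsg.weakClosure Q L) : Subgroup H) : Set H) = ⊥)) ∧ (∀ R : Subgroup H, Cfsg.IsParabolic p R → Cfsg.pCore p ↥R ≠ ⊥ → Subgroup.centralizer (((Cfsg.pCoreOf p R) : Subgroup H) : Set H) ≤ (Cfsg.pCoreOf p R)) ∧ Cfsg.IsOfParabolicCharacteristic p H := by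
  have hwc := CfsgLib.Amalgam.weaklyClosed_of_large hQp hQ1 hL
  have part1 : ∀ Q : Subgroup H, IsPGroup p Q → Cfsg.IsLarge Q → ∀ L : Subgroup H, Q ≤ L → Cfsg.pCore p ↥L ≠ ⊥ →
      IsPGroup p ↥(Subgroup.centralizer ((Cfsg.pCoreOf p L : Subgroup H) : Set H)) := by
    intro Q hQp hL L hQL hne
    set O := Cfsg.pCoreOf p L
    have hO1 : O ≠ ⊥ := fun h => hne ((Subgroup.map_eq_bot_iff_of_injective _ L.subtype_injective).1 h)
    set C := Subgroup.centralizer (O : Set H)
    have hLO := CfsgLib.Amalgam.le_normalizer_pCoreOf (p := p) L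
    have hLC : L ≤ Subgroup.normalizer (C : Set H) :=
      hLO.trans (CfsgLib.Comp.normalizer_le_normalizer_centralizer O)
    have hCQ : ∀ l ∈ L, C ≤ Subgroup.normalizer ((Q.map (MulAut.conj l).toMonoidHom : Subgroup H) : Set H) := fun l hl =>
      CfsgLib.Amalgam.centralizer_le_normalizer_of_large (CfsgLib.Amalgam.isLarge_map_conj hL l)
        (hQp.map _) (CfsgLib.Amalgam.isPGroup_pCoreOf L) hO1 (by
          rintro _ ⟨q, hq, rfl⟩
          exact hLO (mul_mem (mul_mem hl (hQL hq)) (inv_mem hl)))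
    let J : L → Subgroup H := fun l => Q.map (MulAut.conj (l : H)).toMonoidHom ⊓ C
    set D := ⨆ l, J l
    have hJL : ∀ l, J l ≤ L := fun l => inf_le_left.trans (by
      rintro _ ⟨q, hq, rfl⟩
      exact mul_mem (mul_mem l.2 (hQL hq)) (inv_mem l.2))
    have hDp : IsPGroup p D := (CfsgLib.Amalgam.isPGroup_pCoreOf C).to_le (iSup_le fun l =>
      CfsgLib.Amalgam.le_pCoreOf inf_le_right
        ((le_inf (hCQ l l.2) Subgroup.le_normalizer).trans Subgroup.inf_normalizer_le_normalizer_inf)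
        ((hQp.map _).to_le inf_le_left))
    have hDO : D ≤ O := by
      refine CfsgLib.Amalgam.le_pCoreOf (iSup_le hJL) ?_ hDp
      intro x hx
      apply CfsgLib.PLocal.mem_normalizer_map_conj.2
      refine Subgroup.eq_of_le_of_card_ge ?_ (CfsgLib.Coprime.card_map_conj x D).ge
      rw [Subgroup.map_iSup]
      refine iSup_le fun l => ?_
      rw [Subgroup.map_inf _ _ _ (MulAut.conj x).injective, CfsgLib.Coprime.map_conj_conj,
        CfsgLib.Coprime.map_conj_of_mem_normalizer (hLC hx)]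
      refine le_iSup_of_le (f := J) (⟨x, hx⟩ * l) ?_
      simp only [J, Subgroup.coe_mul, le_refl]
    refine CfsgLib.PLocal.isPGroup_of_forall_coprime fun x hx hxp => ?_
    refine CfsgLib.Amalgam.eq_one_of_coprime_of_mem hQp hxp (hL.1 ?_)
    have hxQ : x ∈ Subgroup.normalizer (Q : Set H) := by
      have := hCQ 1 (one_mem L) hx
      rwa [CfsgLib.Amalgam.map_conj_one'] at this
    refine CfsgLib.Amalgam.centralizes_of_stabilizes (N := Q ⊓ C) inf_le_left hQp hxp ?_ fun q hq => ?_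
    · intro d hd
      refine hx d (hDO (Subgroup.mem_iSup_of_mem (1 : L) ?_))
      show d ∈ Q.map (MulAut.conj (1 : H)).toMonoidHom ⊓ C
      rwa [CfsgLib.Amalgam.map_conj_one']
    · refine Subgroup.mem_inf.2 ⟨mul_mem ((Subgroup.mem_normalizer_iff.1 hxQ q).1 hq) (inv_mem hq), ?_⟩
      rw [show x * q * x⁻¹ * q⁻¹ = x * (q * x⁻¹ * q⁻¹) by group]
      exact mul_mem hx ((Subgroup.mem_normalizer_iff.1 (hLC (hQL hq)) _).1 (inv_mem hx))
  have part2 : ∀ R : Subgroup H, Cfsg.IsParabolic p R → Cfsg.pCore p ↥R ≠ ⊥ →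
      Subgroup.centralizer ((Cfsg.pCoreOf p R : Subgroup H) : Set H) ≤ Cfsg.pCoreOf p R := by
    rintro R ⟨T, hTR⟩ hne
    obtain ⟨T', hQT'⟩ := hQp.exists_le_sylow
    obtain ⟨g, -, hg⟩ := (CfsgLib.Amalgam.isSylIn_top T').exists_conj (CfsgLib.Amalgam.isSylIn_top T)
    have hp := part1 _ (hQp.map _) (CfsgLib.Amalgam.isLarge_map_conj hL g) R
      (((Subgroup.map_mono hQT').trans hg.le).trans hTR) hne
    set C := Subgroup.centralizer ((Cfsg.pCoreOf p R : Subgroup H) : Set H)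
    have hn : R ≤ Subgroup.normalizer (C : Set H) :=
      (CfsgLib.Amalgam.le_normalizer_pCoreOf R).trans (CfsgLib.Comp.normalizer_le_normalizer_centralizer _)
    have hsup := T.is_maximal' (hp.to_sup_of_normal_left' T.isPGroup' (hTR.trans hn)) le_sup_right
    exact CfsgLib.Amalgam.le_pCoreOf ((le_sup_left.trans hsup.le).trans hTR) hn hp
  refine ⟨fun L hQL hne => ⟨part1 Q hQp hL L hQL hne, ?_, ?_⟩, part2, ?_⟩
  · refine CfsgLib.Amalgam.charPElements_iff.1 fun x _ hxp hxc => ?_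
    exact CfsgLib.Amalgam.eq_one_of_coprime_of_mem (part1 Q hQp hL L hQL hne) hxp hxc
  · by_cases hb : Subgroup.centralizer ((Cfsg.weakClosure Q L : Subgroup H) : Set H) = ⊥
    · exact Or.inr hb
    refine Or.inl (le_antisymm (iSup_le fun g => le_of_eq ?_) (CfsgLib.Amalgam.self_le_weakClosure hQL))
    by_contra hne'
    refine hb (le_bot_iff.1 ?_)
    rw [← CfsgLib.Amalgam.centralizer_inf_centralizer_eq_bot hQp hQ1 hL hne']
    exact le_inf (Subgroup.centralizer_le (CfsgLib.Amalgam.self_le_weakClosure hQL))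
      (Subgroup.centralizer_le (CfsgLib.Amalgam.conj_le_weakClosure g.2))
  · intro R hR hR1 hpar
    set N := Subgroup.normalizer (R : Set H)
    have hne : Cfsg.pCore p N ≠ ⊥ := fun h => hR1 (le_bot_iff.1 (by
      have := CfsgLib.Amalgam.le_pCoreOf (p := p) (Subgroup.le_normalizer (H := R)) le_rfl hR
      exact this.trans (by show (Cfsg.pCore p N).map N.subtype ≤ ⊥; rw [h, Subgroup.map_bot])))
    refine CfsgLib.Amalgam.charPElements_iff.1 fun x _ hxp hxc => ?_
    exact CfsgLib.Amalgam.eq_one_of_coprime_of_mem (CfsgLib.Amalgam.isPGroup_pCoreOf N) hxp (part2 N hpar hne hxc)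

end Cfsg.Agent.S2845
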