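import Cfsg.Statements.S2846
import Cfsg.Agent.Lib.Amalgam.FrakM
import Cfsg.Agent.S2843
import Cfsg.Agent.S2845

set_option autoImplicit false
open Cfsg

namespace Cfsg.Agent.S2846

/-- Let Q be a nontrivial large p-subgroup of the finite group H, S a Sylow p-subgroup containing Q, and L a subgroup containing S with O_p(L) ≠ 1 and C_H(O_p(L)) ≤ O_p(L). Then there are a subgroup M containing S having the basic property (M ∈ 𝔐_H, writing Y_X for the largest p-reduced normal subgroup of X and 𝓛_H for the set of subgroups X with O_p(X) ≠ 1 and C_H(O_p(X)) ≤ O_p(X): M ∈ 𝓛_H, M·C_H(Y_M) is the only maximal member of 𝓛_H containing M and its largest p-reduced normal subgroup is again Y_M, C_M(Y_M) is p-closed, and the image of C_M(Y_M) in M/O_p(M) lies in the Frattini subgroup of M/O_p(M)) and a subgroup L* with S ≤ L* ≤ M, O_p(L*) ≠ 1, C_H(O_p(L*)) ≤ O_p(L*), such that L·C_H(Y_L) = L*·C_H(Y_L), the weak closures of Q in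 L and in L* agree and lie in that of M, and Y_L = Y_{L*} ≤ Y_M. If moreover Q is not normal in L, then Q is normal in neither L* nor M. -/
theorem result {H : Type*} [Group H] [Finite H] {p : ℕ} [Fact p.Prime] (Q : Subgroup H) (hQp : IsPGroup p ↥Q) (hQ1 : Q ≠ ⊥) (hLg : Cfsg.IsLarge Q) (S : Sylow p H) (hQS : Q ≤ (S : Subgroup H)) (L : Subgroup H) (hSL : (S : Subgroup H) ≤ L) (hL : L ∈ Cfsg.charPSubgroups p H) : ∃ M Ls : Subgroup H, (S : Subgroup H) ≤ M ∧ Cfsg.IsInFrakM p M ∧ (S : Subgroup H) ≤ Ls ∧ Ls ≤ M ∧ Ls ∈ Cfsg.charPSubgroups p H ∧ L ⊔ Subgroup.centralizer (((Cfsg.largestPReducedOf p L) : Subgroup H) : Set H) = Ls ⊔ Subgroup.centralizer (((Cfsg.largestPReducedOf p L) : Subgroup H) : Set H) ∧ Cfsg.weakClosure Q L = Cfsg.weakClosure Q Ls ∧ Cfsg.weakClosure Q Ls ≤ Cfsg.weakClosure Q M ∧ (Cfsg.largestPReducedOf p L) = (Cfsg.largestPReducedOf p Ls) ∧ (Cfsg.largestPReducedOf p Ls) ≤ (Cfsg.largestPReducedOf p M) ∧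 (¬ L ≤ Subgroup.normalizer ((Q : Subgroup H) : Set H) → ¬ Ls ≤ Subgroup.normalizer ((Q : Subgroup H) : Set H) ∧ ¬ M ≤ Subgroup.normalizer ((Q : Subgroup H) : Set H)) := by
  have hpar := (Cfsg.Agent.S2845.result Q hQp hQ1 hLg).2.2
  obtain ⟨M, Ls, h1, h2, h3, h4, h5, h6, h7, h8⟩ := CfsgLib.Amalgam.exists_frakM hpar S hSL hL
  set Y := Cfsg.largestPReducedOf p L
  have hYr := (CfsgLib.Amalgam.pRedIn_largest (p := p) L).1
  have hYp : IsPGroup p Y := CfsgLib.PLocal.elemAb_isPGroup hYr.2.2.1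
  have hY1 : Y ≠ ⊥ := CfsgLib.Amalgam.largest_ne_bot S hSL hL
  have hQL : Q ≤ L := hQS.trans hSL
  have hQLs : Q ≤ Ls := hQS.trans h3
  have hLsY : Ls ≤ Subgroup.normalizer (Y : Set H) := h6 ▸ (CfsgLib.Amalgam.pRedIn_largest (p := p) Ls).1.2.1
  have hwk : Cfsg.weakClosure Q L = Cfsg.weakClosure Q Ls := by
    rw [(Cfsg.Agent.S2843.result Q hQp hQ1 hLg L hQL Y hYp hY1 hYr.2.1).1,
      (Cfsg.Agent.S2843.result Q hQp hQ1 hLg Ls hQLs Y hYp hY1 hLsY).1, h8]
  have hwc := CfsgLib.Amalgam.weaklyClosed_of_large hQp hQ1 hLg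
  refine ⟨M, Ls, h1, h2, h3, h4, h5, h8, hwk, CfsgLib.Amalgam.weakClosure_mono h4, h6, h6 ▸ h7, fun hL' => ?_⟩
  have hLs : ¬ Ls ≤ Subgroup.normalizer (Q : Set H) := by
    intro hle
    refine hL' fun l hl => ?_
    apply CfsgLib.PLocal.mem_normalizer_map_conj.2
    have hW : Cfsg.weakClosure Q Ls = Q := le_antisymm
      (iSup_le fun g => (CfsgLib.Amalgam.eq_conj_of_le_normalizer hwc hQp (g.2.trans hle)).le)
      (CfsgLib.Amalgam.self_le_weakClosure hQLs)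
    have hlL : Q.map (MulAut.conj l).toMonoidHom ≤ L := by
      rintro _ ⟨q, hq, rfl⟩
      exact mul_mem (mul_mem hl (hQL hq)) (inv_mem hl)
    refine Subgroup.eq_of_le_of_card_ge ?_ (CfsgLib.Coprime.card_map_conj l Q).ge
    exact (CfsgLib.Amalgam.conj_le_weakClosure hlL).trans (hwk.trans hW).le
  exact ⟨hLs, fun hle => hLs (h4.trans hle)⟩

end Cfsg.Agent.S2846
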