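import Cfsg.Statements.S2848
import Cfsg.Agent.Lib.Amalgam.WeaklyClosed

set_option autoImplicit false
open Cfsg

namespace Cfsg.Agent.S2848

/-- Standing hypotheses: G a finite group, S a Sylow p-subgroup, Q a nontrivial large p-subgroup of G contained in S (C_G(Q) ≤ Q and N_G(U) ≤ N_G(Q) for all nontrivial U ≤ C_G(Q)), and M a subgroup containing S with the basic property (M ∈ 𝔐_G(S)); Y_M denotes the largest p-reduced normal subgroup of M and M† = M·C_G(Y_M). Then O_p(M) is a weakly closed subgroup of M† (for p): it is the only M†-conjugate of itself inside some Sylow p-subgroup of M† containing it. -/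
theorem result {G : Type*} [Group G] [Finite G] {p : ℕ} [Fact p.Prime] (S : Sylow p G) (Q : Subgroup G) (hQp : IsPGroup p ↥Q) (hQ1 : Q ≠ ⊥) (hQS : Q ≤ (S : Subgroup G)) (hQ : Cfsg.IsLarge Q) (M : Subgroup G) (hSM : (S : Subgroup G) ≤ M) (hM : Cfsg.IsInFrakM p M) : Cfsg.IsWeaklyClosedSubgroup p (((Cfsg.pCoreOf p M)).subgroupOf (M ⊔ Subgroup.centralizer (((Cfsg.largestPReducedOf p M) : Subgroup G) : Set G))) := by
  set Y := Cfsg.largestPReducedOf p M
  set C := Subgroup.centralizer (Y : Set G)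
  set O := Cfsg.pCoreOf p M
  obtain ⟨-, -, -, -, hcl, -⟩ := hM
  have hYn : M ≤ Subgroup.normalizer (Y : Set G) := by
    intro m hm
    have hn : (Cfsg.largestPReduced p M).Normal := CfsgLib.Comp.normal_of_top_le_normalizer
      (CfsgLib.Comp.le_normalizer_sSup _ fun m _ V hV => by
        haveI := hV.1
        rwa [CfsgLib.Coprime.map_conj_of_mem_normalizer
          (CfsgLib.Comp.le_normalizer_of_normal' V ⊤ (Subgroup.mem_top m))])
    apply CfsgLib.PLocal.mem_normalizer_map_conj.2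
    refine Subgroup.eq_of_le_of_card_ge ?_ (CfsgLib.Coprime.card_map_conj m Y).ge
    rintro _ ⟨_, ⟨y, hy, rfl⟩, rfl⟩
    exact ⟨_, hn.conj_mem y hy ⟨m, hm⟩, rfl⟩
  have hOC : O ≤ C := by
    refine Subgroup.le_centralizer_iff.1 ?_
    show (sSup {V : Subgroup M | Cfsg.IsPReducedNormal p V}).map M.subtype ≤ _
    rw [Subgroup.map_le_iff_le_comap]
    refine sSup_le fun V hV v hv => ?_
    obtain ⟨hVn, -, _, hred⟩ := hV
    haveI := hVn
    haveI : (Subgroup.centralizer (V : Set M)).Normal := inferInstance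
    rintro _ ⟨o, ho, rfl⟩
    have hmem : o ∈ Subgroup.centralizer (V : Set M) := by
      rw [← QuotientGroup.eq_one_iff]
      have h1 : (Cfsg.pCore p M).map (QuotientGroup.mk' (Subgroup.centralizer (V : Set M))) ≤ ⊥ :=
        (CfsgLib.Solvable.le_pCore ((CfsgLib.Solvable.pCore_normal p M).map _ (QuotientGroup.mk'_surjective _))
          ((CfsgLib.Solvable.pCore_isPGroup p).map _)).trans (le_of_eq hred)
      exact Subgroup.mem_bot.1 (h1 ⟨o, ho, rfl⟩)
    exact (congrArg Subtype.val (hmem v hv)).symm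
  have hSK : CfsgLib.Amalgam.IsSylIn p (M ⊔ C) (S : Subgroup G) :=
    (CfsgLib.Amalgam.isSylIn_top S).mono (hSM.trans le_sup_left) le_top
  have hOS : O ≤ (S : Subgroup G) :=
    (((CfsgLib.Amalgam.isSylIn_top S).mono hSM le_top)).eq_of_le le_sup_left
      (sup_le hSM (CfsgLib.Amalgam.pCoreOf_le M))
      (S.isPGroup'.to_sup_of_normal_right' (CfsgLib.Amalgam.isPGroup_pCoreOf M)
        (hSM.trans (CfsgLib.Amalgam.le_normalizer_pCoreOf M))) ▸ le_sup_right
  let S' : Sylow p ↥(M ⊔ C) := Sylow.ofCard ((S : Subgroup G).subgroupOf (M ⊔ C))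
    (by rw [Nat.card_congr (Subgroup.subgroupOfEquivOfLe hSK.1).toEquiv, hSK.2.2])
  refine ⟨S', Subgroup.comap_mono hOS, fun k hk => ?_⟩
  set Ks := (M ⊔ C).subtype
  have hOK : O ≤ M ⊔ C := (CfsgLib.Amalgam.pCoreOf_le M).trans le_sup_left
  have e : ((O.subgroupOf (M ⊔ C)).map (MulAut.conj k).toMonoidHom).map Ks = O.map (MulAut.conj (k : G)).toMonoidHom := by
    rw [CfsgLib.Coprime.map_conj_map Ks k, Subgroup.subgroupOf_map_subtype, inf_eq_left.2 hOK]
    rfl
  refine Subgroup.map_injective (M ⊔ C).subtype_injective ?_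
  rw [e, Subgroup.subgroupOf_map_subtype, inf_eq_left.2 hOK]
  have h1 : O.map (MulAut.conj (k : G)).toMonoidHom ≤ (S : Subgroup G) := by
    refine e.ge.trans ?_
    rintro _ ⟨z, hz, rfl⟩
    exact hk hz
  have h2 : O.map (MulAut.conj (k : G)).toMonoidHom ≤ C := by
    refine (Subgroup.map_mono hOC).trans (CfsgLib.Coprime.map_conj_of_mem_normalizer ?_).le
    exact (sup_le (hYn.trans (CfsgLib.Comp.normalizer_le_normalizer_centralizer Y)) Subgroup.le_normalizer) k.2
  have h3 : (S : Subgroup G) ⊓ C ≤ O := by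
    have hle : (S : Subgroup G) ⊓ C ≤ M ⊓ C := inf_le_inf_right _ hSM
    obtain ⟨P, hP⟩ := ((S.isPGroup'.to_le (inf_le_left : (S : Subgroup G) ⊓ C ≤ S)).of_equiv
      (Subgroup.subgroupOfEquivOfLe hle).symm).exists_le_sylow
    have hP' : (S : Subgroup G) ⊓ C ≤ Cfsg.pCoreOf p (M ⊓ C) := fun x hx => ⟨⟨x, hle hx⟩,
      CfsgLib.Solvable.le_pCore (hcl P) P.isPGroup' (hP hx), rfl⟩
    refine hP'.trans (CfsgLib.Amalgam.le_pCoreOf ((CfsgLib.Amalgam.pCoreOf_le _).trans inf_le_left) ?_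
      (CfsgLib.Amalgam.isPGroup_pCoreOf _))
    intro m hm
    apply CfsgLib.Comp.map_conj_eq_iff.1
    rw [← CfsgLib.Amalgam.pCoreOf_map _ (MulAut.conj m).injective, CfsgLib.Comp.map_conj_eq_iff.2
      (((le_inf Subgroup.le_normalizer (hYn.trans (CfsgLib.Comp.normalizer_le_normalizer_centralizer Y))).trans
        Subgroup.inf_normalizer_le_normalizer_inf) hm)]
  exact Subgroup.eq_of_le_of_card_ge ((le_inf h1 h2).trans h3) (CfsgLib.Coprime.card_map_conj _ O).ge

end Cfsg.Agent.S2848
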