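import Cfsg.Statements.S2849
import Cfsg.Agent.Lib.Amalgam.WeaklyClosed

set_option autoImplicit false
open Cfsg

namespace Cfsg.Agent.S2849

open scoped commutatorElement
/-- Standing hypotheses: G a finite group, S a Sylow p-subgroup, Q a nontrivial large p-subgroup of G contained in S (C_G(Q) ≤ Q and N_G(U) ≤ N_G(Q) for all nontrivial U ≤ C_G(Q)), and M a subgroup containing S with the basic property (M ∈ 𝔐_G(S)); Y_M denotes the largest p-reduced normal subgroup of M and M† = M·C_G(Y_M). Suppose Y_M is asymmetric in G. Then for every subgroup R with Y_M ≤ R ≤ M†, the normal closure of Y_M in N_G(R) is elementary abelian. -/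
theorem result {G : Type*} [Group G] [Finite G] {p : ℕ} [Fact p.Prime] (S : Sylow p G) (Q : Subgroup G) (hQp : IsPGroup p ↥Q) (hQ1 : Q ≠ ⊥) (hQS : Q ≤ (S : Subgroup G)) (hQ : Cfsg.IsLarge Q) (M : Subgroup G) (hSM : (S : Subgroup G) ≤ M) (hM : Cfsg.IsInFrakM p M) (hasym : ¬ Cfsg.IsSymmetricIn (Cfsg.largestPReducedOf p M)) (R : Subgroup G) (hYR : (Cfsg.largestPReducedOf p M) ≤ R) (hRM : R ≤ (M ⊔ Subgroup.centralizer (((Cfsg.largestPReducedOf p M) : Subgroup G) : Set G))) : Cfsg.IsElementaryAbelian p ((Subgroup.normalClosure ((((Cfsg.largestPReducedOf p M)).subgroupOf (Subgroup.normalizer ((R : Subgroup G) : Set G)) : Subgroup ↥(Subgroup.normalizer ((R : Subgroup G) : Set G))) : Set ↥(Subgroup.normalizer ((R : Subgroup G) : Set G)))).map (Subgroup.normalizer ((R : Subgroup G) : Set G)).subtype) := by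
  set Y := Cfsg.largestPReducedOf p M
  set N := Subgroup.normalizer (R : Set G)
  have hasym' : ∀ g : G, ⁅Y, Y.map (MulAut.conj g).toMonoidHom⁆ ≤ Y ⊓ Y.map (MulAut.conj g).toMonoidHom →
      ⁅Y, Y.map (MulAut.conj g).toMonoidHom⁆ = ⊥ := fun g hg => by
    by_contra h
    exact hasym ⟨g, h, hg⟩
  have hMdag : M ⊔ Subgroup.centralizer (Y : Set G) ≤ Subgroup.normalizer (Y : Set G) := by
    refine sup_le ?_ (Subgroup.centralizer_le_normalizer _)
    intro m hm
    have hn : (Cfsg.largestPReduced p M).Normal := CfsgLib.Comp.normal_of_top_le_normalizer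
      (CfsgLib.Comp.le_normalizer_sSup _ fun m _ V hV => by
        haveI := hV.1
        rwa [CfsgLib.Coprime.map_conj_of_mem_normalizer
          (CfsgLib.Comp.le_normalizer_of_normal' V ⊤ (Subgroup.mem_top m))])
    apply CfsgLib.PLocal.mem_normalizer_map_conj.2
    refine Subgroup.eq_of_le_of_card_ge ?_ (CfsgLib.Coprime.card_map_conj m Y).ge
    rintro _ ⟨_, ⟨y, hy, rfl⟩, rfl⟩
    exact ⟨_, hn.conj_mem y hy ⟨m, hm⟩, rfl⟩
  have hRY : R ≤ Subgroup.normalizer (Y : Set G) := hRM.trans hMdag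
  have hcomm : ∀ n ∈ N, ∀ a ∈ Y, ∀ b ∈ Y, a * (n * b * n⁻¹) = (n * b * n⁻¹) * a := by
    intro n hn a ha b hb
    set Yn := Y.map (MulAut.conj n).toMonoidHom
    have hnR := CfsgLib.Coprime.map_conj_of_mem_normalizer hn
    have h1 : Yn ≤ Subgroup.normalizer (Y : Set G) := ((Subgroup.map_mono hYR).trans hnR.le).trans hRY
    have h2 : Y ≤ Subgroup.normalizer (Yn : Set G) :=
      hYR.trans (hnR.ge.trans ((Subgroup.map_mono hRY).trans (Subgroup.le_normalizer_map _)))
    have h3 := hasym' n (le_inf (Subgroup.le_normalizer_iff_commutator_le_left.1 h1)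
      (Subgroup.le_normalizer_iff_commutator_le_right.1 h2))
    have h4 : ⁅a, n * b * n⁻¹⁆ ∈ ⁅Y, Yn⁆ := Subgroup.commutator_mem_commutator ha ⟨b, hb, rfl⟩
    rw [h3, Subgroup.mem_bot] at h4
    exact commutatorElement_eq_one_iff_mul_comm.1 h4
  set A : Subgroup G := ⨆ n : N, Y.map (MulAut.conj (n : G)).toMonoidHom
  have hAle : (Subgroup.normalClosure ((Y.subgroupOf N : Subgroup N) : Set N)).map N.subtype ≤ A := by
    rw [Subgroup.map_le_iff_le_comap]
    have hn : (A.subgroupOf N).Normal := CfsgLib.Coprime.normal_subgroupOf_of_le_normalizer (fun m hm => by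
      apply CfsgLib.PLocal.mem_normalizer_map_conj.2
      refine Subgroup.eq_of_le_of_card_ge ?_ (CfsgLib.Coprime.card_map_conj m A).ge
      rw [Subgroup.map_iSup]
      refine iSup_le fun n => ?_
      rw [CfsgLib.Coprime.map_conj_conj]
      exact le_iSup (fun n : N => Y.map (MulAut.conj (n : G)).toMonoidHom) (⟨m, hm⟩ * n))
    haveI : (A.comap N.subtype).Normal := hn
    refine Subgroup.normalClosure_le_normal fun y hy => ?_
    refine Subgroup.mem_iSup_of_mem (1 : N) ?_
    show (y : G) ∈ Y.map (MulAut.conj (1 : G)).toMonoidHom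
    rw [CfsgLib.Amalgam.map_conj_one']
    exact hy
  have hgen : A ≤ Subgroup.centralizer (A : Set G) := by
    refine iSup_le fun n => Subgroup.le_centralizer_iff.1 (iSup_le fun m => ?_)
    rintro _ ⟨b, hb, rfl⟩ _ ⟨a, ha, rfl⟩
    show (n : G) * a * (n : G)⁻¹ * ((m : G) * b * (m : G)⁻¹) = (m : G) * b * (m : G)⁻¹ * ((n : G) * a * (n : G)⁻¹)
    have h := hcomm ((n : G)⁻¹ * m) (mul_mem (inv_mem n.2) m.2) a ha b hb
    have h' := congrArg (fun z => (n : G) * z * (n : G)⁻¹) h
    simpa [mul_assoc] using h'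
  have hexp : ∀ a ∈ A, a ^ p = 1 := by
    have hY : ∀ y ∈ Y, y ^ p = 1 := by
      rintro _ ⟨y, hy, rfl⟩
      have hsub : Cfsg.largestPReduced p M ≤ (Cfsg.largestPReduced p M).comap (MonoidHom.id M) := le_rfl
      revert hy
      show y ∈ sSup {V : Subgroup M | Cfsg.IsPReducedNormal p V} → _
      intro hy
      rw [sSup_eq_iSup'] at hy
      induction hy using Subgroup.iSup_induction' with
      | hp V y hy => rw [← map_pow, V.2.2.1.2 y hy, map_one]
      | h1 => rw [map_one, one_pow]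
      | hmul x y hx hy hxp hyp =>
        have hx' : M.subtype x ∈ Y := ⟨x, by
          show x ∈ sSup {V : Subgroup M | Cfsg.IsPReducedNormal p V}; rwa [sSup_eq_iSup'], rfl⟩
        have hy' : M.subtype y ∈ Y := ⟨y, by
          show y ∈ sSup {V : Subgroup M | Cfsg.IsPReducedNormal p V}; rwa [sSup_eq_iSup'], rfl⟩
        have hc := hcomm 1 (one_mem N) _ hx' _ hy'
        rw [one_mul, inv_one, mul_one] at hc
        rw [map_mul, Commute.mul_pow hc, hxp, hyp, one_mul]
    intro a ha
    induction ha using Subgroup.iSup_induction' with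
    | hp n a ha => obtain ⟨b, hb, rfl⟩ := ha; rw [← map_pow, hY b hb, map_one]
    | h1 => rw [one_pow]
    | hmul x y hx hy hxp hyp => rw [Commute.mul_pow ((hgen hy x hx) : x * y = y * x), hxp, hyp, one_mul]
  exact ⟨⟨⟨fun a b => Subtype.ext (hgen (hAle b.2) _ (hAle a.2))⟩⟩, fun a ha => hexp a (hAle ha)⟩

end Cfsg.Agent.S2849
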