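import Cfsg.Statements.S2850
import Cfsg.Agent.Lib.Amalgam.Asymmetric
import Cfsg.Agent.S2845

set_option autoImplicit false
open Cfsg

namespace Cfsg.Agent.S2850

/-- Standing hypotheses: G a finite group, S a Sylow p-subgroup, Q a nontrivial large p-subgroup of G contained in S (C_G(Q) ≤ Q and N_G(U) ≤ N_G(Q) for all nontrivial U ≤ C_G(Q)), and M a subgroup containing S with the basic property (M ∈ 𝔐_G(S)); Y_M denotes the largest p-reduced normal subgroup of M and M† = M·C_G(Y_M). Suppose Y_M is asymmetric in G. Then N_G(L) ≤ N_G(O_p(M)) ≤ M† for every p-subgroup L containing O_p(M); O_p(M) is a weakly closed subgroup of G; for every subgroup L containing O_p(M), L ∩ M† contains a Sylow p-subgroup of L; and two elements of Y_M conjugate in G are conjugate in M. -/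
theorem result {G : Type*} [Group G] [Finite G] {p : ℕ} [Fact p.Prime] (S : Sylow p G) (Q : Subgroup G) (hQp : IsPGroup p ↥Q) (hQ1 : Q ≠ ⊥) (hQS : Q ≤ (S : Subgroup G)) (hQ : Cfsg.IsLarge Q) (M : Subgroup G) (hSM : (S : Subgroup G) ≤ M) (hM : Cfsg.IsInFrakM p M) (hasym : ¬ Cfsg.IsSymmetricIn (Cfsg.largestPReducedOf p M)) : (∀ L : Subgroup G, IsPGroup p ↥L → (Cfsg.pCoreOf p M) ≤ L → Subgroup.normalizer ((L : Subgroup G) : Set G) ≤ Subgroup.normalizer (((Cfsg.pCoreOf p M) : Subgroup G) : Set G) ∧ Subgroup.normalizer (((Cfsg.pCoreOf p M) : Subgroup G) : Set G) ≤ (M ⊔ Subgroup.centralizer (((Cfsg.largestPReducedOf p M) : Subgroup G) : Set G))) ∧ Cfsg.IsWeaklyClosedSubgroup p (Cfsg.pCoreOf p M) ∧ (∀ L : Subgroup G, (Cfsg.pCoreOf p M) ≤ L → Cfsg.IsParabolic p ((L ⊓ (M ⊔ Subgroup.centralizer (((Cfsg.largestPReducedOf p M) : Subgroup G) : Set G))).subgroupOf L)) ∧ (∀ x ∈ (Cfsg.largestPReducedOf p M), ∀ g : G, g * x * g⁻¹ ∈ (Cfsg.largestPReducedOf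 p M) → ∃ m ∈ M, m * x * m⁻¹ = g * x * g⁻¹) := by
  have hpar := (Cfsg.Agent.S2845.result Q hQp hQ1 hQ).2.2
  set O := Cfsg.pCoreOf p M
  set Y := Cfsg.largestPReducedOf p M
  have hOp : IsPGroup p O := CfsgLib.Amalgam.isPGroup_pCoreOf M
  have hwc := CfsgLib.Amalgam.weaklyClosed_core hpar S hSM hM hasym
  have hNd := CfsgLib.Amalgam.normalizer_pCoreOf_le_dagger S hpar hSM hM
  refine ⟨fun L hLp hOL => ⟨CfsgLib.Amalgam.normalizer_le_of_weaklyClosed hwc hLp hOL, hNd⟩, hwc,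
    fun L hOL => ?_, fun x hx g hgx => ?_⟩
  · obtain ⟨P, hP, hOP⟩ := CfsgLib.Amalgam.exists_isSylIn_ge hOp hOL
    let P' : Sylow p L := Sylow.ofCard (P.subgroupOf L)
      (by rw [Nat.card_congr (Subgroup.subgroupOfEquivOfLe hP.1).toEquiv, hP.2.2])
    refine ⟨P', Subgroup.comap_mono (le_inf hP.1 ?_)⟩
    exact (Subgroup.le_normalizer.trans (CfsgLib.Amalgam.normalizer_le_of_weaklyClosed hwc hP.2.1 hOP)).trans hNd
  · set x' := g * x * g⁻¹ with hx'
    set C := Subgroup.centralizer ({x'} : Set G)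
    have hOC : O ≤ Subgroup.centralizer (Y : Set G) :=
      (CfsgLib.Amalgam.pRedIn_largest (p := p) M).1.pCoreOf_le_centralizer
    have hOx : O ≤ C := fun o ho => Subgroup.mem_centralizer_singleton_iff.2 (hOC ho x' hgx).symm
    have hOgx : O.map (MulAut.conj g).toMonoidHom ≤ C := by
      rintro _ ⟨o, ho, rfl⟩
      refine Subgroup.mem_centralizer_singleton_iff.2 ?_
      show g * o * g⁻¹ * (g * x * g⁻¹) = g * x * g⁻¹ * (g * o * g⁻¹)
      have h := hOC ho x hx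
      calc g * o * g⁻¹ * (g * x * g⁻¹) = g * (o * x) * g⁻¹ := by group
        _ = _ := by rw [← h]; group
    obtain ⟨k, hk, hke⟩ := CfsgLib.Amalgam.exists_conj_eq_of_le hwc hOp hOx hOgx
    have hn : k⁻¹ * g ∈ Subgroup.normalizer (O : Set G) := CfsgLib.PLocal.mem_normalizer_map_conj.2 (by
      rw [← CfsgLib.Coprime.map_conj_conj, hke, CfsgLib.Amalgam.map_conj_inv_cancel])
    obtain ⟨c, hc, m, hm, hcm⟩ := CfsgLib.Comp.exists_mul_of_mem_sup
      (CfsgLib.Amalgam.le_normalizer_centralizer' (CfsgLib.Amalgam.pRedIn_largest (p := p) M).1.2.1)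
      ((sup_comm M _).le (hNd hn))
    refine ⟨m, hm, ?_⟩
    have hmx : m * x * m⁻¹ ∈ Y :=
      (Subgroup.mem_normalizer_iff.1 ((CfsgLib.Amalgam.pRedIn_largest (p := p) M).1.2.1 hm) x).1 hx
    have h1 : (k⁻¹ * g) * x * (k⁻¹ * g)⁻¹ = m * x * m⁻¹ := by
      rw [← hcm]
      calc c * m * x * (c * m)⁻¹ = c * (m * x * m⁻¹) * c⁻¹ := by group
        _ = m * x * m⁻¹ := by rw [← hc _ hmx, mul_inv_cancel_right]
    have h2 : x' * k = k * x' := (Subgroup.mem_centralizer_singleton_iff.1 hk).symm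
    rw [← h1, hx']
    rw [hx'] at h2
    calc k⁻¹ * g * x * (k⁻¹ * g)⁻¹ = k⁻¹ * (g * x * g⁻¹ * k) := by group
      _ = _ := by rw [h2, inv_mul_cancel_left]

end Cfsg.Agent.S2850
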