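import Cfsg.Statements.S2851
import Cfsg.Agent.Lib.Amalgam.Asymmetric
import Cfsg.Agent.S2845

set_option autoImplicit false
open Cfsg

namespace Cfsg.Agent.S2851

/-- Standing hypotheses: G a finite group, S a Sylow p-subgroup, Q a nontrivial large p-subgroup of G contained in S, M a subgroup containing S with the basic property (M ∈ 𝔐_G(S)); Y_M the largest p-reduced normal subgroup of M and M† = M·C_G(Y_M). Let F be the preimage in M† of the generalized Fitting subgroup of M†/C_{M†}(Y_M). If Y_M is asymmetric in G and H is a subgroup of characteristic p containing F, then Y_M ≤ Y_H. -/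
theorem result {G : Type*} [Group G] [Finite G] {p : ℕ} [Fact p.Prime] (S : Sylow p G) (Q : Subgroup G) (hQp : IsPGroup p ↥Q) (hQ1 : Q ≠ ⊥) (hQS : Q ≤ (S : Subgroup G)) (hQ : Cfsg.IsLarge Q) (M : Subgroup G) (hSM : (S : Subgroup G) ≤ M) (hM : Cfsg.IsInFrakM p M) (hasym : ¬ Cfsg.IsSymmetricIn (Cfsg.largestPReducedOf p M)) [hn : ((Subgroup.centralizer (((Cfsg.largestPReducedOf p M) : Subgroup G) : Set G)).subgroupOf (M ⊔ Subgroup.centralizer (((Cfsg.largestPReducedOf p M) : Subgroup G) : Set G))).Normal] (F : Subgroup G) (hF : F = ((Cfsg.generalizedFittingSubgroup (↥(M ⊔ Subgroup.centralizer (((Cfsg.largestPReducedOf p M) : Subgroup G) : Set G)) ⧸ (Subgroup.centralizer (((Cfsg.largestPReducedOf p M) : Subgroup G) : Set G)).subgroupOf (M ⊔ Subgroup.centralizer (((Cfsg.largestPReducedOf p M) : Subgroup G) : Set G)))).comap (QuotientGroup.mk' ((Subgroup.centralizer (((Cfsg.largestPReducedOf p M) : Subgroup G) : Set G)).subgroupOf (M ⊔ Subgroup.centralizer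 (((Cfsg.largestPReducedOf p M) : Subgroup G) : Set G))))).map ((M ⊔ Subgroup.centralizer (((Cfsg.largestPReducedOf p M) : Subgroup G) : Set G))).subtype) (H : Subgroup G) (hFH : F ≤ H) (hH : Subgroup.centralizer (Cfsg.pCore p ↥H : Set ↥H) ≤ Cfsg.pCore p ↥H) : (Cfsg.largestPReducedOf p M) ≤ Cfsg.largestPReducedOf p H := by
  have hpar := (Cfsg.Agent.S2845.result Q hQp hQ1 hQ).2.2
  set O := Cfsg.pCoreOf p M
  set Y := Cfsg.largestPReducedOf p M
  set C := Subgroup.centralizer (Y : Set G)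
  set Md := M ⊔ C
  have hOp : IsPGroup p O := CfsgLib.Amalgam.isPGroup_pCoreOf M
  have hY := (CfsgLib.Amalgam.pRedIn_largest (p := p) M).1
  have hwc := CfsgLib.Amalgam.weaklyClosed_core hpar S hSM hM hasym
  have hNd : Subgroup.normalizer (O : Set G) ≤ Md := CfsgLib.Amalgam.normalizer_pCoreOf_le_dagger S hpar hSM hM
  have hYd : CfsgLib.Amalgam.PRedIn p Md Y := hY.transfer (hY.1.trans le_sup_left)
    (CfsgLib.Amalgam.dagger_le_normalizer M) (le_sup_left.trans le_sup_left) le_rfl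
  have hcH : CfsgLib.Amalgam.CharPElements p H := CfsgLib.Amalgam.charPElements_iff.2 hH
  set π := QuotientGroup.mk' (C.subgroupOf Md)
  have hπ : Function.Surjective π := QuotientGroup.mk'_surjective _
  set Fb := Cfsg.generalizedFittingSubgroup (↥Md ⧸ C.subgroupOf Md)
  have hCF : C ≤ F := by
    intro c hc
    rw [hF]
    refine ⟨⟨c, Subgroup.mem_sup_right hc⟩, ?_, rfl⟩
    rw [SetLike.mem_coe, Subgroup.mem_comap,
      show π ⟨c, Subgroup.mem_sup_right hc⟩ = 1 from (QuotientGroup.eq_one_iff _).2 hc]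
    exact one_mem _
  have hFd : F ≤ Md := hF ▸ Subgroup.map_subtype_le _
  have hO1 : Cfsg.pCore p (↥Md ⧸ C.subgroupOf Md) = ⊥ := by
    set K := Cfsg.pCore p (↥Md ⧸ C.subgroupOf Md)
    have hKn : K.Normal := CfsgLib.Amalgam.normal_pCore
    have h1 : (K.comap π).map Md.subtype ≤ C := by
      refine hYd.2.2.2 _ (Subgroup.map_subtype_le _) ?_ ?_
      · intro m hm
        apply CfsgLib.PLocal.mem_normalizer_map_conj.2
        refine Subgroup.eq_of_le_of_card_ge ?_ (CfsgLib.Coprime.card_map_conj m _).ge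
        rintro _ ⟨_, ⟨x, hx, rfl⟩, rfl⟩
        exact ⟨⟨m, hm⟩ * x * ⟨m, hm⟩⁻¹, (hKn.comap π).conj_mem x hx _, rfl⟩
      · rintro _ ⟨x, hx, rfl⟩
        obtain ⟨k, hk⟩ := CfsgLib.Amalgam.isPGroup_pCore (p := p) ⟨π x, hx⟩
        refine ⟨k, (QuotientGroup.eq_one_iff (N := C.subgroupOf Md) (x ^ p ^ k)).1 ?_⟩
        show π (x ^ p ^ k) = 1
        rw [map_pow]
        exact congrArg Subtype.val hk
    refine (Subgroup.eq_bot_iff_forall _).2 fun y hy => ?_
    obtain ⟨x, rfl⟩ := hπ y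
    exact (QuotientGroup.eq_one_iff x).2 (h1 ⟨x, hy, rfl⟩)
  have key : ∀ D : Subgroup G, D ≤ Md → CfsgLib.Amalgam.PMod p C D → F ≤ Subgroup.normalizer (D : Set G) →
      D ≤ C := by
    intro D hDd hDm hDn
    have hb := CfsgLib.Amalgam.eq_bot_of_fstar_normalizes hO1 (D := (D.subgroupOf Md).map π) (p := p) (by
      rintro ⟨_, x, hx, rfl⟩
      obtain ⟨k, hk⟩ := hDm _ hx
      refine ⟨k, Subtype.ext ?_⟩
      show π x ^ p ^ k = 1
      rw [← map_pow]
      exact (QuotientGroup.eq_one_iff _).2 hk) (by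
      intro y hy
      obtain ⟨x, rfl⟩ := hπ y
      have hxF : (x : G) ∈ F := hF ▸ ⟨x, hy, rfl⟩
      refine Subgroup.le_normalizer_map π ⟨x, ?_, rfl⟩
      exact Subgroup.mem_normalizer_iff.2 fun z => (Subgroup.mem_normalizer_iff.1 (hDn hxF) z))
    intro d hd
    have h1 : π ⟨d, hDd hd⟩ ∈ (D.subgroupOf Md).map π := ⟨_, hd, rfl⟩
    rw [hb, Subgroup.mem_bot] at h1
    exact (QuotientGroup.eq_one_iff (N := C.subgroupOf Md) _).1 h1
  have hOH : O ≤ H := hY.pCoreOf_le_centralizer.trans (hCF.trans hFH)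
  set R := Cfsg.pCoreOf p H
  have hRp : IsPGroup p R := CfsgLib.Amalgam.isPGroup_pCoreOf H
  have hHR := CfsgLib.Amalgam.le_normalizer_pCoreOf (p := p) H
  have hRN : R ≤ Subgroup.normalizer (O : Set G) := le_sup_left.trans (Subgroup.le_normalizer.trans
    (CfsgLib.Amalgam.normalizer_le_of_weaklyClosed hwc
      (hRp.to_sup_of_normal_left' hOp (hOH.trans hHR)) le_sup_right))
  have hRC : R ≤ C := key R (hRN.trans hNd) (CfsgLib.Amalgam.pMod_of_isPGroup hRp) (hFH.trans hHR)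
  set T0 := Subgroup.centralizer (R : Set G) ⊓ H
  have hT0p : IsPGroup p T0 := CfsgLib.PLocal.isPGroup_of_forall_coprime fun x hx hxp =>
    hcH x hx.2 hxp hx.1
  have hT0R : T0 ≤ R := CfsgLib.Amalgam.le_pCoreOf inf_le_right
    ((le_inf (CfsgLib.Amalgam.le_normalizer_centralizer' hHR) Subgroup.le_normalizer).trans
      Subgroup.inf_normalizer_le_normalizer_inf) hT0p
  have hYH : Y ≤ H := hY.le_pCoreOf.trans hOH
  have hYR : Y ≤ R := (le_inf (Subgroup.le_centralizer_iff.1 hRC) hYH).trans hT0R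
  set Z0 := Cfsg.omegaOne p (R ⊓ Subgroup.centralizer (R : Set G))
  have hYZ : Y ≤ Z0 := CfsgLib.PLocal.le_omegaOne hY.2.2.1 (le_inf hYR (Subgroup.le_centralizer_iff.1 hRC))
  have hZn : H ≤ Subgroup.normalizer (Z0 : Set G) := fun l hl => by
    apply CfsgLib.PLocal.mem_normalizer_map_conj.2
    have h1 := CfsgLib.Coprime.map_conj_of_mem_normalizer
      ((le_inf hHR (CfsgLib.Amalgam.le_normalizer_centralizer' hHR)).trans
        Subgroup.inf_normalizer_le_normalizer_inf hl)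
    show (Cfsg.omegaOne p _).map _ = _
    rw [CfsgLib.PLocal.omegaOne_map_equiv, h1]
  set W := ⨆ h : H, Y.map (MulAut.conj (h : G)).toMonoidHom
  have hYW : Y ≤ W := le_iSup_of_le (⟨1, one_mem H⟩ : H) (by rw [CfsgLib.Amalgam.map_conj_one'])
  have hWZ : W ≤ Z0 := iSup_le fun h => (Subgroup.map_mono hYZ).trans
    (CfsgLib.Coprime.map_conj_of_mem_normalizer (hZn h.2)).le
  have hWn : H ≤ Subgroup.normalizer (W : Set G) := by
    intro l hl
    apply CfsgLib.PLocal.mem_normalizer_map_conj.2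
    refine Subgroup.eq_of_le_of_card_ge ?_ (CfsgLib.Coprime.card_map_conj l W).ge
    rw [Subgroup.map_iSup]
    refine iSup_le fun m => ?_
    rw [CfsgLib.Coprime.map_conj_conj]
    exact le_iSup (fun m : H => Y.map (MulAut.conj (m : G)).toMonoidHom) (⟨l, hl⟩ * m)
  refine hYW.trans ((CfsgLib.Amalgam.pRedIn_largest H).2 W ⟨?_, hWn,
    CfsgLib.PLocal.elemAb_mono (CfsgLib.PLocal.omegaCenter_elemAb R) hWZ, fun D hDH hHD hD => ?_⟩)
  · exact hWZ.trans ((CfsgLib.PLocal.omegaOne_le p _).trans (inf_le_left.trans (CfsgLib.Amalgam.pCoreOf_le H)))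
  have hcWC : Subgroup.centralizer (W : Set G) ≤ C := Subgroup.centralizer_le hYW
  have hDM : D ⊓ Md ≤ C := key _ inf_le_right (CfsgLib.Amalgam.pMod_mono hD hcWC inf_le_left)
    ((le_inf (hFH.trans hHD) (hFd.trans Subgroup.le_normalizer)).trans Subgroup.inf_normalizer_le_normalizer_inf)
  obtain ⟨P, hP, hOP⟩ := CfsgLib.Amalgam.exists_isSylIn_ge hOp (le_sup_right : O ≤ D ⊔ O)
  have hS := CfsgLib.Amalgam.isSylIn_inf_normal hP le_sup_left (sup_le Subgroup.le_normalizer (hOH.trans hHD))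
  have hPd : P ≤ Md :=
    (Subgroup.le_normalizer.trans (CfsgLib.Amalgam.normalizer_le_of_weaklyClosed hwc hP.2.1 hOP)).trans hNd
  have hDY : D ≤ C := (CfsgLib.Amalgam.pMod_cover
    (hDH.trans (CfsgLib.Amalgam.le_normalizer_centralizer' hWn)) hD hS).trans
      (sup_le (inf_le_left.trans hcWC) (le_trans (le_inf inf_le_right (inf_le_left.trans hPd)) hDM))
  rw [Subgroup.le_centralizer_iff]
  refine iSup_le fun l => ?_
  rintro _ ⟨x, hx, rfl⟩ d hd
  have h1 : (l : G)⁻¹ * d * l ∈ D := by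
    simpa using (Subgroup.mem_normalizer_iff.1 (hHD (inv_mem l.2)) d).1 hd
  have h2 := hDY h1 x hx
  show d * ((l : G) * x * (l : G)⁻¹) = (l : G) * x * (l : G)⁻¹ * d
  calc d * ((l : G) * x * (l : G)⁻¹) = (l : G) * ((l : G)⁻¹ * d * l * x) * (l : G)⁻¹ := by group
    _ = _ := by rw [← h2]; group

end Cfsg.Agent.S2851
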