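import Cfsg.Statements.S2852
import Cfsg.Agent.Lib.Amalgam.Asymmetric
import Cfsg.Agent.S2845

set_option autoImplicit false
open Cfsg

namespace Cfsg.Agent.S2852

/-- Standing hypotheses: G a finite group, S a Sylow p-subgroup, Q a nontrivial large p-subgroup of G contained in S, M a subgroup containing S with the basic property (M ∈ 𝔐_G(S)); Y_M the largest p-reduced normal subgroup of M. If Y_M is char-p-tall and asymmetric in G, then some subgroup H of G lies in ℌ_G(O_p(M)): H has characteristic p, O_p(M) ≤ H, Y_M ≰ O_p(H), and Y_M ≤ O_p(P) for every proper subgroup P of H containing O_p(M). -/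
theorem result {G : Type*} [Group G] [Finite G] {p : ℕ} [Fact p.Prime] (S : Sylow p G) (Q : Subgroup G) (hQp : IsPGroup p ↥Q) (hQ1 : Q ≠ ⊥) (hQS : Q ≤ (S : Subgroup G)) (hQ : Cfsg.IsLarge Q) (M : Subgroup G) (hSM : (S : Subgroup G) ≤ M) (hM : Cfsg.IsInFrakM p M) (htall : Cfsg.IsCharPTall p (Cfsg.largestPReducedOf p M)) (hasym : ¬ Cfsg.IsSymmetricIn (Cfsg.largestPReducedOf p M)) : ∃ H : Subgroup G, Cfsg.IsInFrakH p M H := by
  have hpar := (Cfsg.Agent.S2845.result Q hQp hQ1 hQ).2.2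
  set O := Cfsg.pCoreOf p M
  set Y := Cfsg.largestPReducedOf p M
  set C := Subgroup.centralizer (Y : Set G)
  obtain ⟨T, L, hTL, hL, hYL⟩ := htall
  have hwc := CfsgLib.Amalgam.weaklyClosed_core hpar S hSM hM hasym
  have hOm := CfsgLib.Amalgam.mem_charPSubgroups_iff.1 hM.1
  have hT : CfsgLib.Amalgam.IsSylIn p C ((T : Subgroup C).map C.subtype) :=
    ⟨Subgroup.map_subtype_le _, T.isPGroup'.map _,
      by rw [Subgroup.card_map_of_injective C.subtype_injective, T.card_eq_multiplicity]⟩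
  obtain ⟨c, hc, hce⟩ := hT.exists_conj (CfsgLib.Amalgam.isSylIn_centralizer_largest S hSM hM)
  set f := (MulAut.conj c).toMonoidHom
  have hYc : Y.map f = Y :=
    CfsgLib.Coprime.map_conj_of_mem_normalizer (Subgroup.centralizer_le_normalizer _ hc)
  have hOL : O ≤ L.map f := hce.ge.trans (Subgroup.map_mono hTL)
  have hL' : CfsgLib.Amalgam.CharPElements p (L.map f) :=
    (CfsgLib.Amalgam.charPElements_map f (MulAut.conj c).injective).2 (CfsgLib.Amalgam.charPElements_iff.2 hL)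
  have hYL' : ¬ Y ≤ Cfsg.pCoreOf p (L.map f) := fun h => hYL
    ((Subgroup.map_le_map_iff_of_injective (MulAut.conj c).injective).1
      (hYc.le.trans (h.trans (CfsgLib.Amalgam.pCoreOf_map f (MulAut.conj c).injective L).le)))
  obtain ⟨H, ⟨hOH, hHc, hYH⟩, hmin⟩ := Set.Finite.exists_minimal
    (Set.toFinite {H : Subgroup G | O ≤ H ∧ CfsgLib.Amalgam.CharPElements p H ∧ ¬ Y ≤ Cfsg.pCoreOf p H})
    ⟨_, hOL, hL', hYL'⟩
  refine ⟨H, CfsgLib.Amalgam.charPElements_iff.1 hHc, hOH, hYH, fun P hOP hPH => ?_⟩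
  by_contra hne
  exact hPH.not_ge (hmin ⟨hOP, CfsgLib.Amalgam.charPElements_of_weaklyClosed
    (CfsgLib.Amalgam.isPGroup_pCoreOf M) hOm.1 hwc hOm.2 hHc hOP hPH.le, hne⟩ hPH.le)

end Cfsg.Agent.S2852
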