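import Cfsg.Statements.S2853
import Cfsg.Agent.Lib.Amalgam.FrakH
import Cfsg.Agent.S2845

set_option autoImplicit false
open Cfsg

namespace Cfsg.Agent.S2853

/-- Standing hypotheses: G a finite group, S a Sylow p-subgroup, Q a nontrivial large p-subgroup of G contained in S, M a subgroup containing S with the basic property (M ∈ 𝔐_G(S)); Y_M the largest p-reduced normal subgroup of M and M† = M·C_G(Y_M). Suppose Y_M is char-p-tall and asymmetric in G and H ∈ ℌ_G(O_p(M)). Then every Sylow p-subgroup of H ∩ M† is a Sylow p-subgroup of H; O_p(H) normalizes O_p(M) and Y_M; O^p(H) = [O^p(H), Y_M] and H = O^p(H)·O_p(M); O^p(H)·Y_M is the normal closure of Y_M in H; and H is the normal closure of O_p(M) in H. Here O^p(H) is the subgroup generated by the elements of H of order prime to p. -/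
theorem result {G : Type*} [Group G] [Finite G] {p : ℕ} [Fact p.Prime] (S : Sylow p G) (Q : Subgroup G) (hQp : IsPGroup p ↥Q) (hQ1 : Q ≠ ⊥) (hQS : Q ≤ (S : Subgroup G)) (hQ : Cfsg.IsLarge Q) (M : Subgroup G) (hSM : (S : Subgroup G) ≤ M) (hM : Cfsg.IsInFrakM p M) (htall : Cfsg.IsCharPTall p (Cfsg.largestPReducedOf p M)) (hasym : ¬ Cfsg.IsSymmetricIn (Cfsg.largestPReducedOf p M)) (H : Subgroup G) (hH : Cfsg.IsInFrakH p M H) (R : Subgroup G) (hR : R = (Cfsg.pResidual p ↥H).map H.subtype) : (∀ T : Sylow p ↥(H ⊓ (M ⊔ Subgroup.centralizer (((Cfsg.largestPReducedOf p M) : Subgroup G) : Set G))), ∃ P : Sylow p ↥H, ((P : Subgroup ↥H).map H.subtype) = (T : Subgroup ↥(H ⊓ (M ⊔ Subgroup.centralizer (((Cfsg.largestPReducedOf p M) : Subgroup G) : Set G)))).map (H ⊓ (M ⊔ Subgroup.centralizer (((Cfsg.largestPReducedOf p M) : Subgroup G) : Set G))).subtype) ∧ Cfsg.pCoreOf p H ≤ Subgroup.normalizer (((Cfsg.pCoreOf p M) : Subgroup G) : Set G) ⊓ Subgroup.normalizer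 (((Cfsg.largestPReducedOf p M) : Subgroup G) : Set G) ∧ ⁅R, (Cfsg.largestPReducedOf p M)⁆ = R ∧ R ⊔ (Cfsg.pCoreOf p M) = H ∧ R ⊔ (Cfsg.largestPReducedOf p M) = (Subgroup.normalClosure ((((Cfsg.largestPReducedOf p M)).subgroupOf H : Subgroup ↥H) : Set ↥H)).map H.subtype ∧ (Subgroup.normalClosure ((((Cfsg.pCoreOf p M)).subgroupOf H : Subgroup ↥H) : Set ↥H)).map H.subtype = H := by
  have hpar := (Cfsg.Agent.S2845.result Q hQp hQ1 hQ).2.2
  subst hR
  set O := Cfsg.pCoreOf p M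
  set C := Subgroup.centralizer ((Cfsg.largestPReducedOf p M : Subgroup G) : Set G)
  set K := H ⊓ (M ⊔ C)
  have hwc := CfsgLib.Amalgam.weaklyClosed_core hpar S hSM hM hasym
  have hNd := CfsgLib.Amalgam.normalizer_pCoreOf_le_dagger S hpar hSM hM
  refine ⟨fun T => ?_, le_inf (CfsgLib.Amalgam.pCoreOf_frakH_le_normalizer hwc hH)
    ((CfsgLib.Amalgam.pCoreOf_frakH_le_normalizer hwc hH).trans
      (CfsgLib.Amalgam.normalizer_pCoreOf_le_normalizer_largest S hSM hM)),
    CfsgLib.Amalgam.commutator_pResidual_largest hwc hH, CfsgLib.Amalgam.pResidual_sup_core_eq hwc hH,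
    CfsgLib.Amalgam.pResidual_sup_largest_eq hwc hH, ?_⟩
  · obtain ⟨P, hP, -, hPN⟩ := CfsgLib.Amalgam.exists_isSylIn_frakH hwc hH
    have hPK := hP.mono (le_inf hP.1 (hPN.trans hNd)) (inf_le_left : K ≤ H)
    set T' := (T : Subgroup K).map K.subtype
    have hcard : Nat.card T' = Nat.card P := by
      rw [Subgroup.card_map_of_injective K.subtype_injective, T.card_eq_multiplicity, hPK.2.2]
    have hT' : T' ≤ H := (Subgroup.map_subtype_le _).trans inf_le_left
    exact ⟨Sylow.ofCard (T'.subgroupOf H) (by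
      rw [Nat.card_congr (Subgroup.subgroupOfEquivOfLe hT').toEquiv, hcard, hP.2.2]),
      by rw [show ((Sylow.ofCard (T'.subgroupOf H) _ : Sylow p H) : Subgroup H) = T'.subgroupOf H from rfl,
        Subgroup.subgroupOf_map_subtype, inf_eq_left.2 hT']⟩
  · refine CfsgLib.Amalgam.frakH_eq_of_normalized hH (Subgroup.map_subtype_le _) ?_ ?_
    · intro h hh
      apply CfsgLib.PLocal.mem_normalizer_map_conj.2
      refine Subgroup.eq_of_le_of_card_ge ?_ (CfsgLib.Coprime.card_map_conj h _).ge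
      rintro _ ⟨_, ⟨x, hx, rfl⟩, rfl⟩
      exact ⟨⟨h, hh⟩ * x * ⟨h, hh⟩⁻¹, Subgroup.normalClosure_normal.conj_mem x hx _, rfl⟩
    · exact fun o ho => ⟨⟨o, hH.2.1 ho⟩, Subgroup.le_normalClosure ho, rfl⟩

end Cfsg.Agent.S2853
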