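import Cfsg.Statements.S2854
import Cfsg.Agent.Lib.Amalgam.FrakH
import Cfsg.Agent.S2845

set_option autoImplicit false
open Cfsg

namespace Cfsg.Agent.S2854

/-- Standing hypotheses: G a finite group, S a Sylow p-subgroup, Q a nontrivial large p-subgroup of G contained in S, M a subgroup containing S with the basic property (M ∈ 𝔐_G(S)); Y_M the largest p-reduced normal subgroup of M and M† = M·C_G(Y_M). Suppose Y_M is asymmetric in G, H ∈ ℌ_G(O_p(M)), and H ≤ N_G(gQg⁻¹) for some g ∈ G. Then gQg⁻¹ ≤ O_p(H·gQg⁻¹) ≤ N_G(O_p(M)) ≤ N_G(Y_M) = M†; H is normal in H·gQg⁻¹ with O^p(H) = O^p(H·gQg⁻¹); and H·gQg⁻¹ is p-irreducible. -/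
theorem result {G : Type*} [Group G] [Finite G] {p : ℕ} [Fact p.Prime] (S : Sylow p G) (Q : Subgroup G) (hQp : IsPGroup p ↥Q) (hQ1 : Q ≠ ⊥) (hQS : Q ≤ (S : Subgroup G)) (hQ : Cfsg.IsLarge Q) (M : Subgroup G) (hSM : (S : Subgroup G) ≤ M) (hM : Cfsg.IsInFrakM p M) (hasym : ¬ Cfsg.IsSymmetricIn (Cfsg.largestPReducedOf p M)) (H : Subgroup G) (hH : Cfsg.IsInFrakH p M H) (g : G) (hHQ : H ≤ Subgroup.normalizer ((((Q : Subgroup G).map (MulAut.conj (g : G)).toMonoidHom) : Subgroup G) : Set G)) : ((Q : Subgroup G).map (MulAut.conj (g : G)).toMonoidHom) ≤ Cfsg.pCoreOf p (H ⊔ ((Q : Subgroup G).map (MulAut.conj (g : G)).toMonoidHom)) ∧ Cfsg.pCoreOf p (H ⊔ ((Q : Subgroup G).map (MulAut.conj (g : G)).toMonoidHom)) ≤ Subgroup.normalizer (((Cfsg.pCoreOf p M) : Subgroup G) : Set G) ∧ Subgroup.normalizer (((Cfsg.pCoreOf p M) : Subgroup G) : Set G) ≤ Subgroup.normalizer (((Cfsg.largestPReducedOf p M) : Subgroup G) : Set G)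 ∧ Subgroup.normalizer (((Cfsg.largestPReducedOf p M) : Subgroup G) : Set G) = (M ⊔ Subgroup.centralizer (((Cfsg.largestPReducedOf p M) : Subgroup G) : Set G)) ∧ (H.subgroupOf (H ⊔ ((Q : Subgroup G).map (MulAut.conj (g : G)).toMonoidHom))).Normal ∧ (Cfsg.pResidual p ↥H).map H.subtype = (Cfsg.pResidual p ↥(H ⊔ ((Q : Subgroup G).map (MulAut.conj (g : G)).toMonoidHom))).map (H ⊔ ((Q : Subgroup G).map (MulAut.conj (g : G)).toMonoidHom)).subtype ∧ Cfsg.IsPIrreducible p ↥(H ⊔ ((Q : Subgroup G).map (MulAut.conj (g : G)).toMonoidHom)) := by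
  have hpar := (Cfsg.Agent.S2845.result Q hQp hQ1 hQ).2.2
  set U := Q.map (MulAut.conj g).toMonoidHom
  have hU : IsPGroup p U := hQp.map _
  have hwc := CfsgLib.Amalgam.weaklyClosed_core hpar S hSM hM hasym
  obtain ⟨h1, h2, h3⟩ := CfsgLib.Amalgam.le_normalizer_frakH hwc hH hU hHQ
  refine ⟨h1, h2, CfsgLib.Amalgam.normalizer_pCoreOf_le_normalizer_largest S hSM hM,
    CfsgLib.Amalgam.normalizer_largest_eq S hpar hSM hM,
    Subgroup.normal_subgroupOf_of_le_normalizer (sup_le Subgroup.le_normalizer h3), ?_,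
    CfsgLib.Amalgam.isPIrreducible_frakH_sup hwc hH hU hHQ⟩
  exact le_antisymm
    (CfsgLib.Amalgam.pResidual_map_le fun x hx hxp =>
      CfsgLib.Amalgam.mem_pResidual_map (Subgroup.mem_sup_left hx) hxp)
    (CfsgLib.Amalgam.pResidual_map_le fun x hx hxp =>
      CfsgLib.Amalgam.mem_pResidual_map (CfsgLib.Amalgam.mem_of_coprime_sup h3 hU hx hxp) hxp)

end Cfsg.Agent.S2854
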