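import Cfsg.Statements.S2855
import Cfsg.Agent.Lib.Amalgam.PIrredFamily

set_option autoImplicit false
open Cfsg

namespace Cfsg.Agent.S2855

open Subgroup
open scoped commutatorElement

section
variable {H : Type*} [Group H] [Finite H] {p : ℕ} [Fact p.Prime] {𝒦 : Set (Subgroup H)}

theorem sSup_family_normal (hinv : ∀ h : H, ∀ E ∈ 𝒦, E.map (MulAut.conj h).toMonoidHom ∈ 𝒦) :
    (sSup 𝒦).Normal := by
  refine ⟨fun n hn h => ?_⟩
  have h1 : (sSup 𝒦).map (MulAut.conj h).toMonoidHom ≤ sSup 𝒦 := by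
    rw [map_le_iff_le_comap]
    exact sSup_le fun E hE => map_le_iff_le_comap.1 (le_sSup (hinv h E hE))
  exact h1 ⟨n, hn, rfl⟩

theorem conj_sup_core (E : Subgroup H) (h : H) :
    (E ⊔ pCore p H).map (MulAut.conj h).toMonoidHom = E.map (MulAut.conj h).toMonoidHom ⊔ pCore p H := by
  haveI := CfsgLib.Solvable.pCore_normal p H
  rw [Subgroup.map_sup]
  congr 1
  exact Subgroup.Normal.map_conj_eq _ h

theorem part_one (hne : 𝒦.Nonempty) (hinv : ∀ h : H, ∀ E ∈ 𝒦, E.map (MulAut.conj h).toMonoidHom ∈ 𝒦)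
    (htr : ∀ E ∈ 𝒦, ∀ K ∈ 𝒦, ∃ h : H, K = E.map (MulAut.conj h).toMonoidHom)
    (hres : pResidual p H ≤ sSup 𝒦)
    (hnorm : ∀ E ∈ 𝒦, sSup 𝒦 ⊔ pCore p H ≤ normalizer ((E ⊔ pCore p H : Subgroup H) : Set H))
    (hmin : ∀ E ∈ 𝒦, ∀ T : Sylow p ↥E, IsMinimalOver (T : Subgroup ↥E)) (T : Sylow p H) :
    IsMinimalOver (T : Subgroup H) := by
  haveI hPn := CfsgLib.Solvable.pCore_normal p H
  haveI hKn := sSup_family_normal hinv
  have hPp : IsPGroup p (pCore p H) := CfsgLib.Solvable.pCore_isPGroup p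
  have hPT : pCore p H ≤ (T : Subgroup H) := CfsgLib.Solvable.pCore_le_sylow T
  -- normal closure
  refine ⟨?_, ?_⟩
  · have hN : ∀ Q : Subgroup H, IsPGroup p Q → Q ≤ normalClosure ((T : Subgroup H) : Set H) := by
      intro Q hQ
      obtain ⟨R, hR⟩ := hQ.exists_le_sylow
      obtain ⟨g, rfl⟩ := MulAction.exists_smul_eq H T R
      intro x hx
      have hx' := hR hx
      rw [Sylow.coe_subgroup_smul, mem_pointwise_smul_iff_inv_smul_mem] at hx'
      have := normalClosure_normal.conj_mem _ (le_normalClosure hx') g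
      simpa [MulAut.smul_def, mul_assoc] using this
    rw [eq_top_iff, ← CfsgLib.Transfer.pResidual_sup_sylow T]
    refine sup_le (hres.trans (sSup_le fun E hE => ?_)) le_normalClosure
    obtain ⟨S⟩ : Nonempty (Sylow p E) := inferInstance
    rw [← subgroupOf_eq_top, eq_top_iff, ← (hmin E hE S).1]
    refine normalClosure_le_normal fun x hx => mem_subgroupOf.2 ?_
    exact hN _ (S.isPGroup'.map E.subtype) ⟨x, hx, rfl⟩
  -- Sylow subgroups of the members
  have hS : ∀ E ∈ 𝒦, ∃ S : Sylow p E, (S : Subgroup E) = (T : Subgroup H).subgroupOf E := by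
    intro E hE
    set W := sSup 𝒦 ⊔ pCore p H with hW
    obtain ⟨TW, hTW⟩ := CfsgLib.Transfer.exists_sylow_eq_subgroupOf T W
    set U := E ⊔ pCore p H with hU
    have hUW : U ≤ W := sup_le_sup_right (le_sSup hE) _
    haveI : (U.subgroupOf W).Normal := normal_subgroupOf_of_le_normalizer (hnorm E hE)
    obtain ⟨TU, hTU⟩ := CfsgLib.Transfer.exists_sylow_eq_subgroupOf TW (U.subgroupOf W)
    obtain ⟨S⟩ : Nonempty (Sylow p E) := inferInstance
    -- conjugate the Sylow subgroup of `E` into `T`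
    have hSle : (S : Subgroup E).map E.subtype ≤ U := (map_subtype_le _).trans le_sup_left
    obtain ⟨R, hR⟩ := (show IsPGroup p ((((S : Subgroup E).map E.subtype).subgroupOf W).subgroupOf
        (U.subgroupOf W)) from ((S.isPGroup'.map E.subtype).comap_of_injective _ W.subtype_injective
          ).comap_of_injective _ (U.subgroupOf W).subtype_injective).exists_le_sylow
    obtain ⟨u, rfl⟩ := MulAction.exists_smul_eq (↥(U.subgroupOf W)) TU R
    have hu : ((u : W) : H) ∈ (E : Subgroup H) ⊔ pCore p H := mem_subgroupOf.1 u.2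
    obtain ⟨e, he, x, hx, hex⟩ := mem_sup_of_normal_right.1 hu
    have hconj : ∀ s ∈ (S : Subgroup E), e⁻¹ * (s : H) * e ∈ (T : Subgroup H) := by
      intro s hs
      have hsU : (s : H) ∈ U := le_sup_left (a := E) s.2
      have h1 : (⟨⟨(s : H), hUW hsU⟩, hsU⟩ : U.subgroupOf W) ∈ ((u • TU : Sylow p _) : Subgroup _) :=
        hR (mem_subgroupOf.2 (mem_subgroupOf.2 ⟨s, hs, rfl⟩))
      rw [Sylow.coe_subgroup_smul, mem_pointwise_smul_iff_inv_smul_mem,
        hTU, mem_subgroupOf, hTW, mem_subgroupOf] at h1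
      simp [MulAut.smul_def] at h1
      rw [← hex] at h1
      have h2 := mul_mem (mul_mem (hPT hx) h1) (inv_mem (hPT hx))
      convert h2 using 1
      simp only [mul_assoc, mul_inv_rev, mul_inv_cancel, mul_one, mul_inv_cancel_left]
    refine ⟨(⟨e, he⟩ : E)⁻¹ • S, ?_⟩
    have hle : (((⟨e, he⟩ : E)⁻¹ • S : Sylow p E) : Subgroup E) ≤ (T : Subgroup H).subgroupOf E := by
      intro s hs
      rw [Sylow.coe_subgroup_smul, mem_pointwise_smul_iff_inv_smul_mem] at hs
      have h := hconj _ hs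
      rw [mem_subgroupOf]
      simpa [MulAut.smul_def, mul_assoc] using h
    exact (((⟨e, he⟩ : E)⁻¹ • S : Sylow p E).3 (T.isPGroup'.comap_of_injective _ E.subtype_injective)
      hle).symm
  -- the maximal subgroup of `E O_p(H)` over `T`
  have hM : ∀ E ∈ 𝒦, ∃ M : Subgroup H, M < E ⊔ pCore p H ∧ (T : Subgroup H) ⊓ (E ⊔ pCore p H) ≤ M ∧
      ∀ X : Subgroup H, (T : Subgroup H) ⊓ (E ⊔ pCore p H) ≤ X → X < E ⊔ pCore p H → X ≤ M := by
    intro E hE
    obtain ⟨S, hSe⟩ := hS E hE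
    obtain ⟨M, ⟨hMc, hSM⟩, huniq⟩ := (hmin E hE S).2
    have hPX : ∀ X : Subgroup H, (T : Subgroup H) ⊓ (E ⊔ pCore p H) ≤ X → pCore p H ≤ X :=
      fun X hX => (le_inf hPT le_sup_right).trans hX
    have hbound : ∀ X : Subgroup H, (T : Subgroup H) ⊓ (E ⊔ pCore p H) ≤ X → X < E ⊔ pCore p H →
        X ≤ M.map E.subtype ⊔ pCore p H := by
      intro X hX hlt
      have hne : X.subgroupOf E ≠ ⊤ := by
        rw [Ne, subgroupOf_eq_top]
        exact fun h => hlt.not_ge (sup_le h (hPX X hX))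
      obtain ⟨N, hN, hXN⟩ := (eq_top_or_exists_le_coatom _).resolve_left hne
      have hTN : (S : Subgroup E) ≤ N := by
        refine le_trans ?_ hXN
        rw [hSe]
        intro s hs
        exact mem_subgroupOf.2 (hX ⟨mem_subgroupOf.1 hs, le_sup_left (b := pCore p H) s.2⟩)
      have hNM : N = M := huniq N ⟨hN, hTN⟩
      intro x hx
      obtain ⟨e, he, y, hy, rfl⟩ := mem_sup_of_normal_right.1 (hlt.le hx)
      refine mul_mem_sup ⟨⟨e, he⟩, hNM ▸ hXN (mem_subgroupOf.2 ?_), rfl⟩ hy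
      simpa using mul_mem hx (inv_mem (hPX X hX hy))
    refine ⟨M.map E.subtype ⊔ pCore p H, lt_of_le_of_ne (sup_le_sup_right (map_subtype_le _) _) ?_, ?_, hbound⟩
    · intro heq
      refine hMc.1 (eq_top_iff.2 fun e _ => ?_)
      obtain ⟨_, ⟨m, hm, rfl⟩, y, hy, hmy⟩ := mem_sup_of_normal_right.1
        (heq.ge (le_sup_left (b := pCore p H) e.2))
      have hyE : y ∈ E := (mul_mem_cancel_left m.2).1 (hmy.symm ▸ e.2)
      have hyM : (⟨y, hyE⟩ : E) ∈ M := hSM (by rw [hSe, mem_subgroupOf]; exact hPT hy)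
      have : e = m * ⟨y, hyE⟩ := Subtype.ext hmy.symm
      rw [this]; exact mul_mem hm hyM
    · intro x hxi
      obtain ⟨hxT, hxU⟩ := mem_inf.1 hxi
      obtain ⟨e, he, y, hy, rfl⟩ := mem_sup_of_normal_right.1 hxU
      refine mul_mem_sup ⟨⟨e, he⟩, hSM (by
        rw [hSe, mem_subgroupOf]
        have h := mul_mem hxT (inv_mem (show y ∈ (T : Subgroup H) from hPT hy))
        simpa using h), rfl⟩ hy
  choose! M hMlt hMT hMmax using hM
  have hmove : ∀ E ∈ 𝒦, ∀ E' ∈ 𝒦, ∀ h : H, ∀ X : Subgroup H,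
      X ≤ M E → (T : Subgroup H) ⊓ (E' ⊔ pCore p H) ≤ X.map (MulAut.conj h).toMonoidHom →
      (E ⊔ pCore p H).map (MulAut.conj h).toMonoidHom = E' ⊔ pCore p H →
      (M E).map (MulAut.conj h).toMonoidHom ≤ M E' := by
    intro E hE E' hE' h X hX hTX heq
    refine hMmax E' hE' _ (hTX.trans (map_mono hX)) ?_
    rw [← heq]
    exact (map_lt_map_iff_of_injective (MulAut.conj h).injective).2 (hMlt E hE)
  -- proper overgroups of `T` contain no member
  have hnot : ∀ X : Subgroup H, (T : Subgroup H) ≤ X → X ≠ ⊤ → ∀ E ∈ 𝒦, ¬ E ≤ X := by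
    intro X hTX hX E hE hEX
    refine hX (eq_top_iff.2 ?_)
    rw [← CfsgLib.Transfer.pResidual_sup_sylow T]
    refine sup_le (hres.trans (sSup_le fun K hK => ?_)) hTX
    obtain ⟨h, rfl⟩ := htr E hE K hK
    have htop : sSup 𝒦 ⊔ (T : Subgroup H) = ⊤ :=
      eq_top_iff.2 ((CfsgLib.Transfer.pResidual_sup_sylow T).ge.trans (sup_le_sup_right hres _))
    obtain ⟨t, ht, k, hk, rfl⟩ := mem_sup_of_normal_right.1
      (show h ∈ (T : Subgroup H) ⊔ sSup 𝒦 by rw [sup_comm, htop]; trivial)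
    rintro _ ⟨x, hx, rfl⟩
    have hkx : k * x * k⁻¹ ∈ X :=
      (sup_le hEX (hPT.trans hTX)) ((mem_normalizer_iff.1 (hnorm E hE (le_sup_left (b := pCore p H) hk))
        x).1 (le_sup_left (b := pCore p H) hx))
    simpa [mul_assoc] using mul_mem (mul_mem (hTX ht) hkx) (inv_mem (hTX ht))
  set W := sSup 𝒦 ⊔ pCore p H with hW
  let U₀ : Subgroup H := W ⊓ ⨅ E : 𝒦, normalizer (M E : Set H)
  have hU₀mem : ∀ x, x ∈ W → (∀ E ∈ 𝒦, (M E).map (MulAut.conj x).toMonoidHom ≤ M E) → x ∈ U₀ := by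
    intro x hxW hx
    refine mem_inf.2 ⟨hxW, mem_iInf.2 fun E => ?_⟩
    rw [mem_normalizer_iff_map_conj_eq]
    exact eq_of_le_of_card_ge (hx E E.2) (card_map_of_injective (MulAut.conj x).injective).ge
  have hfix : ∀ E ∈ 𝒦, ∀ x ∈ W, (E ⊔ pCore p H).map (MulAut.conj x).toMonoidHom = E ⊔ pCore p H :=
    fun E hE x hx => mem_normalizer_iff_map_conj_eq.1 (hnorm E hE hx)
  have htfix : ∀ t ∈ (T : Subgroup H), (T : Subgroup H).map (MulAut.conj t).toMonoidHom = (T : Subgroup H) :=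
    fun t ht => mem_normalizer_iff_map_conj_eq.1 (le_normalizer ht)
  have htM : ∀ E ∈ 𝒦, ∀ t ∈ (T : Subgroup H),
      (M E).map (MulAut.conj t).toMonoidHom ≤ M (E.map (MulAut.conj t).toMonoidHom) := by
    intro E hE t ht
    refine hmove E hE _ (hinv t E hE) t _ (hMT E hE) ?_ (conj_sup_core E t)
    rw [map_inf _ _ _ (MulAut.conj t).injective, htfix t ht, conj_sup_core]
  have hTU₀ : (T : Subgroup H) ⊓ W ≤ U₀ := by
    intro t hti
    obtain ⟨ht, htW⟩ := mem_inf.1 hti
    refine hU₀mem t htW fun E hE => hmove E hE E hE t _ (hMT E hE) ?_ (hfix E hE t htW)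
    rw [map_inf _ _ _ (MulAut.conj t).injective, htfix t ht, hfix E hE t htW]
  have hTn : (T : Subgroup H) ≤ normalizer (U₀ : Set H) := by
    have key : ∀ t ∈ (T : Subgroup H), ∀ u ∈ U₀, t * u * t⁻¹ ∈ U₀ := by
      intro t ht u hu
      obtain ⟨huW, hu'⟩ := mem_inf.1 hu
      haveI : W.Normal := by rw [hW]; infer_instance
      refine hU₀mem _ (Normal.conj_mem inferInstance u huW t) fun E hE => ?_
      set E₁ := E.map (MulAut.conj t⁻¹).toMonoidHom with hE₁
      have hE₁K : E₁ ∈ 𝒦 := hinv _ E hE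
      rintro _ ⟨m, hm, rfl⟩
      have h1 : t⁻¹ * m * t ∈ M E₁ := by
        have := htM E hE t⁻¹ (inv_mem ht) ⟨m, hm, rfl⟩
        simpa [hE₁, mul_assoc] using this
      have h2 : u * (t⁻¹ * m * t) * u⁻¹ ∈ M E₁ :=
        (mem_normalizer_iff.1 (mem_iInf.1 hu' ⟨E₁, hE₁K⟩) _).1 h1
      have h3 := htM E₁ hE₁K t ht ⟨_, h2, rfl⟩
      have h4 : E₁.map (MulAut.conj t).toMonoidHom = E := by
        rw [hE₁, map_map]
        ext x
        simp [mem_map, mul_assoc]
      rw [h4] at h3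
      simpa [mul_assoc] using h3
    intro t ht
    rw [mem_normalizer_iff]
    refine fun x => ⟨key t ht x, fun hx => ?_⟩
    simpa [mul_assoc] using key t⁻¹ (inv_mem ht) _ hx
  have hproper : (T : Subgroup H) ⊔ U₀ ≠ ⊤ := by
    intro htop
    have hWU : W ≤ U₀ := by
      intro w hw
      have hw' : w ∈ ((U₀ ⊔ (T : Subgroup H) : Subgroup H) : Set H) := by
        rw [sup_comm, htop]; trivial
      rw [coe_mul_of_right_le_normalizer_left U₀ _ hTn] at hw'
      obtain ⟨u, hu, t, ht, rfl⟩ := Set.mem_mul.1 hw'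
      exact mul_mem hu (hTU₀ ⟨ht, (mul_mem_cancel_left (mem_inf.1 hu).1).1 hw⟩)
    obtain ⟨E, hE⟩ := hne
    have hEn : E ≤ normalizer (M E : Set H) := fun x hx =>
      mem_iInf.1 (mem_inf.1 (hWU (le_sup_left (b := pCore p H) (le_sSup hE hx)))).2 ⟨E, hE⟩
    obtain ⟨S, hSe⟩ := hS E hE
    refine (hMlt E hE).not_ge (sup_le ?_ ((le_inf hPT le_sup_right).trans (hMT E hE)))
    haveI : ((M E).subgroupOf E).Normal := normal_subgroupOf_of_le_normalizer hEn
    rw [← subgroupOf_eq_top, eq_top_iff, ← (hmin E hE S).1]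
    refine normalClosure_le_normal fun s hs => mem_subgroupOf.2 (hMT E hE ⟨?_, ?_⟩)
    · rw [hSe] at hs; exact mem_subgroupOf.1 hs
    · exact le_sup_left (b := pCore p H) s.2
  have hall : ∀ X : Subgroup H, (T : Subgroup H) ≤ X → X ≠ ⊤ → X ≤ (T : Subgroup H) ⊔ U₀ := by
    intro X hTX hX x hx
    have htop : sSup 𝒦 ⊔ (T : Subgroup H) = ⊤ :=
      eq_top_iff.2 ((CfsgLib.Transfer.pResidual_sup_sylow T).ge.trans (sup_le_sup_right hres _))
    obtain ⟨t, ht, k, hk, rfl⟩ := mem_sup_of_normal_right.1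
      (show x ∈ (T : Subgroup H) ⊔ sSup 𝒦 by rw [sup_comm, htop]; trivial)
    have hkX : k ∈ X := (mul_mem_cancel_left (hTX ht)).1 hx
    have hkW : k ∈ W := le_sup_left (b := pCore p H) hk
    refine mul_mem_sup ht (hU₀mem k hkW fun E hE => ?_)
    have hTle : (T : Subgroup H) ⊓ (E ⊔ pCore p H) ≤ X ⊓ (E ⊔ pCore p H) := inf_le_inf_right _ hTX
    refine hmove E hE E hE k (X ⊓ (E ⊔ pCore p H)) (hMmax E hE _ hTle ?_) ?_ (hfix E hE k hkW)
    · exact inf_lt_right.2 fun h => hnot X hTX hX E hE (le_sup_left.trans h)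
    · have hXk : X.map (MulAut.conj k).toMonoidHom = X :=
        mem_normalizer_iff_map_conj_eq.1 (le_normalizer hkX)
      rw [map_inf _ _ _ (MulAut.conj k).injective, hfix E hE k hkW, hXk]
      exact hTle
  obtain ⟨N, hN, hUN⟩ := (eq_top_or_exists_le_coatom _).resolve_left hproper
  refine ⟨N, ⟨hN, le_sup_left.trans hUN⟩, fun N' ⟨hN', hTN'⟩ => ?_⟩
  exact ((hN'.le_iff.1 ((hall N' hTN' hN'.1).trans hUN)).resolve_left hN.1).symm

/-- Image of the family in `H / O_p(H)`. -/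
theorem part_two (hne : 𝒦.Nonempty) (hinv : ∀ h : H, ∀ E ∈ 𝒦, E.map (MulAut.conj h).toMonoidHom ∈ 𝒦)
    (htr : ∀ E ∈ 𝒦, ∀ K ∈ 𝒦, ∃ h : H, K = E.map (MulAut.conj h).toMonoidHom)
    (hres : pResidual p H ≤ sSup 𝒦)
    (hnorm : ∀ E ∈ 𝒦, sSup 𝒦 ⊔ pCore p H ≤ normalizer ((E ⊔ pCore p H : Subgroup H) : Set H))
    (hirr : ∀ E ∈ 𝒦, IsStronglyPIrreducible p ↥E) :
    IsPIrreducible p H ∧ ∀ E ∈ 𝒦, ∀ K ∈ 𝒦,
      (pResidual p ↥(E ⊔ pCore p H)).map (E ⊔ pCore p H).subtype =
        (pResidual p ↥(K ⊔ pCore p H)).map (K ⊔ pCore p H).subtype ∨ ⁅E, K⁆ ≤ pCore p H := by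
  haveI hPn := CfsgLib.Solvable.pCore_normal p H
  haveI hKn := sSup_family_normal hinv
  have hPp : IsPGroup p (pCore p H) := CfsgLib.Solvable.pCore_isPGroup p
  set f := QuotientGroup.mk' (pCore p H) with hf
  have hfker : f.ker = pCore p H := QuotientGroup.ker_mk' _
  have hcore : pCore p (H ⧸ pCore p H) = ⊥ := by
    rw [← CfsgLib.Amalgam.map_pCore_of_isPGroup_ker (pCore p H) hPp, QuotientGroup.map_mk'_self]
  haveI hK0 : ((sSup 𝒦).map f).Normal := hKn.map f (QuotientGroup.mk'_surjective _)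
  have hPmap : (pCore p H).map f = ⊥ := QuotientGroup.map_mk'_self _
  have hrange : ∀ E : Subgroup H, (f.comp E.subtype).range = E.map f := fun E => by
    rw [MonoidHom.range_comp, range_subtype]
  have hEK : ∀ E ∈ 𝒦, E.map f ≤ (sSup 𝒦).map f := fun E hE => map_mono (le_sSup hE)
  have hKE : ∀ E ∈ 𝒦, (sSup 𝒦).map f ≤ normalizer (E.map f : Set (H ⧸ pCore p H)) := by
    intro E hE
    have h := (map_mono (f := f) (le_sup_left.trans (hnorm E hE))).trans (le_normalizer_map f)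
    rwa [Subgroup.map_sup, hPmap, sup_bot_eq] at h
  have hdich : ∀ E ∈ 𝒦, ∀ Y : Subgroup (H ⧸ pCore p H),
      E.map f ≤ normalizer (Y : Set (H ⧸ pCore p H)) →
      Y ≤ normalizer (E.map f : Set (H ⧸ pCore p H)) →
      (∀ x : ↥E, x ∈ pResidual p ↥E → f (x : H) ∈ Y) ∨ (∀ y ∈ Y, ∀ e ∈ E, f e * y = y * f e) := by
    intro E hE Y h1 h2
    rcases CfsgLib.Amalgam.residual_le_or_commute hcore ((sSup 𝒦).map f) (f.comp E.subtype) (hirr E hE)
        (by rw [hrange]; exact hEK E hE) (by rw [hrange]; exact hKE E hE) Y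
        (by rw [hrange]; exact h1) (by rw [hrange]; exact h2) with h | h
    · exact Or.inl fun x hx => h (mem_map_of_mem _ hx)
    · exact Or.inr fun y hy e he => h y hy ⟨e, he⟩
  have hpow : ∀ (E : Subgroup H) (e : ↥E), ∃ k, e ^ p ^ k ∈ pResidual p ↥E := by
    intro E e
    haveI := CfsgLib.Transfer.pResidual_normal (G := ↥E) (p := p)
    obtain ⟨k, hk⟩ := CfsgLib.Transfer.isPGroup_quotient_of_pResidual_le (le_refl (pResidual p ↥E))
      (QuotientGroup.mk' _ e)
    exact ⟨k, by rwa [← map_pow, QuotientGroup.mk'_apply, QuotientGroup.eq_one_iff] at hk⟩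
  refine ⟨⟨?_, ?_⟩, ?_⟩
  · intro hc
    obtain ⟨E, hE⟩ := hne
    refine (hirr E hE).1 (CfsgLib.Amalgam.isPClosed_of_forall_le hPp ?_ fun Q hQ _ =>
      (CfsgLib.Amalgam.isPClosed_iff.1 hc) Q hQ)
    rw [normalizer_eq_top]; exact le_top
  · intro N hN hNc
    haveI := hN
    haveI := CfsgLib.Transfer.pResidual_characteristic (G := ↥N) (p := p)
    haveI hMn : ((pResidual p ↥N).map N.subtype).Normal := inferInstance
    haveI hMbn : (((pResidual p ↥N).map N.subtype).map f).Normal :=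
      hMn.map f (QuotientGroup.mk'_surjective _)
    haveI hNbn : (N.map f).Normal := hN.map f (QuotientGroup.mk'_surjective _)
    set M := (pResidual p ↥N).map N.subtype with hMdef
    have hMN : M ≤ N := map_subtype_le _
    have hMK : M ≤ sSup 𝒦 := (CfsgLib.Transfer.map_pResidual_le _).trans hres
    have hside : ∀ E ∈ 𝒦, E.map f ≤ normalizer (M.map f : Set (H ⧸ pCore p H)) ∧
        M.map f ≤ normalizer (E.map f : Set (H ⧸ pCore p H)) := fun E hE =>
      ⟨by rw [normalizer_eq_top]; exact le_top, (map_mono hMK).trans (hKE E hE)⟩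
    have hd := fun E hE => hdich E hE (M.map f) (hside E hE).1 (hside E hE).2
    by_cases hall : ∀ E ∈ 𝒦, ∀ x : ↥E, x ∈ pResidual p ↥E → f (x : H) ∈ M.map f
    · have hstep : pResidual p H ≤ M ⊔ pCore p H := by
        set L := M ⊔ pCore p H with hL
        haveI : L.Normal := by rw [hL]; infer_instance
        set f₂ := QuotientGroup.mk' L with hf₂
        haveI : ((sSup 𝒦).map f₂).Normal := hKn.map f₂ (QuotientGroup.mk'_surjective _)
        have hEp : ∀ E ∈ 𝒦, E.map f₂ ≤ pCore p (H ⧸ L) := by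
          intro E hE
          refine CfsgLib.Amalgam.le_pCore_of_normalized (K := (sSup 𝒦).map f₂) ?_ le_rfl le_normalizer
            (map_mono (le_sSup hE)) ?_
          · rintro ⟨_, e, he, rfl⟩
            obtain ⟨k, hk⟩ := hpow E ⟨e, he⟩
            refine ⟨k, Subtype.ext ?_⟩
            rw [SubmonoidClass.coe_pow, OneMemClass.coe_one, ← map_pow, hf₂, QuotientGroup.mk'_apply,
              QuotientGroup.eq_one_iff, hL]
            have h := hall E hE _ hk
            rw [← mem_comap, comap_map_eq, hfker] at h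
            simpa using h
          · have h := (map_mono (f := f₂) (le_sup_left.trans (hnorm E hE))).trans (le_normalizer_map f₂)
            have hPL : (pCore p H).map f₂ = ⊥ := (Subgroup.map_eq_bot_iff _).2
              (by rw [hf₂, QuotientGroup.ker_mk']; exact le_sup_right)
            rwa [Subgroup.map_sup, hPL, sup_bot_eq] at h
        have hKp : (sSup 𝒦).map f₂ ≤ pCore p (H ⧸ L) :=
          map_le_iff_le_comap.2 (sSup_le fun E hE => map_le_iff_le_comap.1 (hEp E hE))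
        have h0 : pResidual p H ≤ sSup 𝒦 := hres
        unfold Cfsg.pResidual at h0 ⊢
        rw [closure_le] at h0 ⊢
        intro g hg
        have h1 := (IsPGroup.iff_orderOf.1 (CfsgLib.Solvable.pCore_isPGroup p))
          ⟨f₂ g, hKp (mem_map_of_mem f₂ (h0 hg))⟩
        obtain ⟨k, hk⟩ := h1
        rw [orderOf_mk] at hk
        have h2 : orderOf (f₂ g) ∣ orderOf g := orderOf_map_dvd f₂ g
        have h3 : (orderOf (f₂ g)).Coprime (p ^ k) :=
          (Nat.Coprime.coprime_dvd_left h2 hg).pow_right k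
        rw [hk, Nat.coprime_self] at h3
        have : f₂ g = 1 := orderOf_eq_one_iff.1 (hk.trans h3)
        rwa [hf₂, QuotientGroup.mk'_apply, QuotientGroup.eq_one_iff] at this
      exact CfsgLib.Amalgam.pResidual_le_of_le_sup hPp (hstep.trans (sup_le_sup_right hMN _))
    · exfalso
      push Not at hall
      obtain ⟨E₀, hE₀, x₀, hx₀, hx₀'⟩ := hall
      have hc₀ := (hd E₀ hE₀).resolve_left fun h => hx₀' (h x₀ hx₀)
      have hcE : ∀ E ∈ 𝒦, ∀ e ∈ E, ∀ y ∈ M.map f, f e * y = y * f e := by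
        intro E hE e he y hy
        obtain ⟨h, rfl⟩ := htr E₀ hE₀ E hE
        obtain ⟨e₀, he₀, rfl⟩ := he
        have hy' : (f h)⁻¹ * y * f h ∈ M.map f := by
          have := hMbn.conj_mem y hy (f h)⁻¹
          simpa using this
        have h1 := hc₀ _ hy' e₀ he₀
        simp only [MulEquiv.coe_toMonoidHom, MulAut.conj_apply, map_mul, map_inv]
        calc f h * f e₀ * (f h)⁻¹ * y = f h * (f e₀ * ((f h)⁻¹ * y * f h)) * (f h)⁻¹ := by
              simp [mul_assoc]
          _ = f h * (((f h)⁻¹ * y * f h) * f e₀) * (f h)⁻¹ := by rw [h1]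
          _ = _ := by simp [mul_assoc]
      have hcK : (sSup 𝒦).map f ≤ centralizer (M.map f : Set (H ⧸ pCore p H)) := by
        rw [map_le_iff_le_comap]
        exact sSup_le fun E hE e he => mem_comap.2 (mem_centralizer_iff.2 fun y hy => (hcE E hE e he y hy).symm)
      have hMK' : M.map f ≤ (sSup 𝒦).map f := map_mono hMK
      have hMN' : M.map f ≤ N.map f := map_mono hMN
      have hNpow : ∀ y ∈ N.map f, ∃ k, y ^ p ^ k ∈ M.map f := by
        rintro _ ⟨n, hn, rfl⟩
        obtain ⟨k, hk⟩ := hpow N ⟨n, hn⟩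
        exact ⟨k, by rw [← map_pow]; exact ⟨_, ⟨_, hk, rfl⟩, rfl⟩⟩
      obtain ⟨hY0, hcop0⟩ := CfsgLib.Amalgam.eq_and_coprime_of_central hcore
        (M := M.map f) (Y := N.map f ⊓ (sSup 𝒦).map f) (le_inf hMN' hMK')
        (fun m hm y hy => mem_centralizer_iff.1 (hcK (mem_inf.1 hy).2) m hm)
        (fun y hy => hNpow y (mem_inf.1 hy).1)
      rw [hY0] at hcop0
      have hNc' : ∀ n ∈ N.map f, ∀ E ∈ 𝒦, ∀ e ∈ E, f e * n = n * f e := by
        intro n hn E hE e he
        refine CfsgLib.Amalgam.commute_of_commutator_mem (f.comp E.subtype) n (M.map f) hcop0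
          (fun a ha b hb => mem_centralizer_iff.1 (hcK (hMK' hb)) a ha)
          (fun x z hz => hcE E hE x x.2 z hz) ?_
          (CfsgLib.Amalgam.pResidual_le_commutator (hirr E hE)) ⟨e, he⟩
        intro x
        rw [← hY0, commutatorElement_def]
        refine mem_inf.2 ⟨mul_mem (hNbn.conj_mem n hn _) (inv_mem hn), ?_⟩
        rw [mul_assoc, mul_assoc]
        refine mul_mem (hEK E hE ⟨x, x.2, rfl⟩) ?_
        rw [← mul_assoc]
        exact hK0.conj_mem _ (inv_mem (hEK E hE ⟨x, x.2, rfl⟩)) n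
      have hNK : N.map f ≤ centralizer ((sSup 𝒦).map f : Set (H ⧸ pCore p H)) := by
        intro n hn
        have h1 : sSup 𝒦 ≤ (centralizer {n}).comap f := sSup_le fun E hE e he =>
          mem_comap.2 (mem_centralizer_singleton_iff.2 (hNc' n hn E hE e he))
        rw [mem_centralizer_iff]
        rintro _ ⟨k, hk, rfl⟩
        exact mem_centralizer_singleton_iff.1 (h1 hk)
      obtain ⟨-, hcop⟩ := CfsgLib.Amalgam.eq_and_coprime_of_central hcore
        (M := M.map f) (Y := N.map f) hMN'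
        (fun m hm y hy => mem_centralizer_iff.1 (hNK hy) m (hMK' hm)) hNpow
      refine hNc ((CfsgLib.Amalgam.isPClosed_normal_iff N).2 fun Q hQ hQN => ?_)
      rw [← hfker, ← Subgroup.map_eq_bot_iff, ← Subgroup.card_eq_one]
      obtain ⟨j, hj⟩ := (hQ.map f).exists_card_eq
      exact Nat.eq_one_of_dvd_coprimes (hcop.pow_right j) (card_dvd_of_le (map_mono hQN)) (hj ▸ dvd_rfl)
  · intro E hE K hK
    have hn1 : E.map f ≤ normalizer (K.map f : Set (H ⧸ pCore p H)) := (hEK E hE).trans (hKE K hK)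
    have hn2 : K.map f ≤ normalizer (E.map f : Set (H ⧸ pCore p H)) := (hEK K hK).trans (hKE E hE)
    have hbr : (∀ y ∈ K.map f, ∀ e ∈ E, f e * y = y * f e) → ⁅E, K⁆ ≤ pCore p H := by
      intro h
      rw [commutator_le]
      intro e he k hk
      rw [← hfker, MonoidHom.mem_ker, map_commutatorElement, commutatorElement_eq_one_iff_mul_comm]
      exact h _ (mem_map_of_mem f hk) e he
    have key : ∀ A B : Subgroup H, (∀ x : ↥A, x ∈ pResidual p ↥A → f (x : H) ∈ B.map f) →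
        (pResidual p ↥(A ⊔ pCore p H)).map (A ⊔ pCore p H).subtype ≤
          (pResidual p ↥(B ⊔ pCore p H)).map (B ⊔ pCore p H).subtype := by
      intro A B h
      rw [map_le_iff_le_comap]
      conv_lhs => unfold Cfsg.pResidual
      rw [closure_le]
      intro g hg
      obtain ⟨a, ha, y, hy, hay⟩ := mem_sup_of_normal_right.1 g.2
      obtain ⟨k, hk⟩ := hpow A ⟨a, ha⟩
      have h1 : f (g : H) ^ p ^ k ∈ B.map f := by
        have hy1 : f y = 1 := by rw [← MonoidHom.mem_ker, hfker]; exact hy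
        have := h _ hk
        rw [← hay, map_mul, hy1, mul_one, ← map_pow]
        simpa using this
      have hord : (orderOf (g : H)).Coprime p := by rw [Subgroup.orderOf_coe]; exact hg
      have h2 : f (g : H) ∈ B.map f :=
        CfsgLib.Amalgam.mem_of_pPow_mem (hord.coprime_dvd_left (orderOf_map_dvd f _)) h1
      rw [← mem_comap, comap_map_eq, hfker] at h2
      exact ⟨⟨g, h2⟩, CfsgLib.Transfer.mem_pResidual_of_coprime
        (by rw [orderOf_mk]; exact hord), rfl⟩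
    rcases hdich E hE (K.map f) hn1 hn2 with h1 | h1
    · rcases hdich K hK (E.map f) hn2 hn1 with h2 | h2
      · exact Or.inl (le_antisymm (key E K h1) (key K E h2))
      · refine Or.inr ?_
        rw [commutator_comm]
        rw [commutator_le]
        intro k hk e he
        rw [← hfker, MonoidHom.mem_ker, map_commutatorElement, commutatorElement_eq_one_iff_mul_comm]
        exact h2 _ (mem_map_of_mem f he) k hk
    · exact Or.inr (hbr h1)

end

/-- Let H be a finite group, p a prime, and 𝒦 a nonempty set of subgroups of H permuted transitively by conjugation, with R the subgroup generated by the members of 𝒦. Suppose O^p(H) ≤ R, each E ∈ 𝒦 has E·O_p(H) normal in R·O_p(H), and each E ∈ 𝒦 is p-minimal (generated by the conjugates of a Sylow p-subgroup T_E of E, with T_E in exactly one maximal subgroup of E). Then H is p-minimal in the same sense. If instead each E ∈ 𝒦 is strongly p-irreducible, then H is p-irreducible and, for E, K ∈ 𝒦,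 either O^p(E·O_p(H)) = O^p(K·O_p(H)) or [E, K] ≤ O_p(H). -/
theorem result {H : Type*} [Group H] [Finite H] {p : ℕ} [Fact p.Prime] (𝒦 : Set (Subgroup H)) (hne : 𝒦.Nonempty) (hinv : ∀ h : H, ∀ E ∈ 𝒦, E.map (MulAut.conj h).toMonoidHom ∈ 𝒦) (htr : ∀ E ∈ 𝒦, ∀ K ∈ 𝒦, ∃ h : H, K = E.map (MulAut.conj h).toMonoidHom) (hres : Cfsg.pResidual p H ≤ sSup 𝒦) (hnorm : ∀ E ∈ 𝒦, sSup 𝒦 ⊔ Cfsg.pCore p H ≤ Subgroup.normalizer ((E ⊔ Cfsg.pCore p H : Subgroup H) : Set H)) : ((∀ E ∈ 𝒦, ∀ T : Sylow p ↥E, Cfsg.IsMinimalOver (T : Subgroup ↥E)) → ∀ T : Sylow p H, Cfsg.IsMinimalOver (T : Subgroup H)) ∧ ((∀ E ∈ 𝒦, Cfsg.IsStronglyPIrreducible p ↥E) → Cfsg.IsPIrreducible p H ∧ ∀ E ∈ 𝒦, ∀ K ∈ 𝒦, (Cfsg.pResidual p ↥(E ⊔ Cfsg.pCore p H)).map (E ⊔ Cfsg.pCore p H).subtype = (Cfsg.pResidual p ↥(K ⊔ Cfsg.pCore p H)).map (K ⊔ Cfsg.pCore p H).subtype ∨ ⁅E, K⁆ ≤ Cfsg.pCore p H) := by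
  exact ⟨fun h T => part_one hne hinv htr hres hnorm h T, fun h => part_two hne hinv htr hres hnorm h⟩

end Cfsg.Agent.S2855
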