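import Cfsg.Statements.S2856
import Cfsg.Agent.Lib.Amalgam.SpePair

set_option autoImplicit false
open Cfsg

namespace Cfsg.Agent.S2856

/-- Let (M₁, M₂) be an amalgam pair in X satisfying the rank-two standing hypothesis (characteristic p, the normalizers in M₁ and in M₂ of a Sylow p-subgroup of M₁ ∩ M₂ equal and contained in M₁ ∩ M₂, and strongly p-embedded residues), λ a vertex of the coset graph, L_λ the subgroup of its stabilizer generated by the p-elements, Q_λ = O_p of the stabilizer, O^p(L_λ) the subgroup of L_λ generated by its elements of order prime to p, and V_λ^{(k)} the subgroup generated by the Z_μ over the vertices μ at distance at most k from λ (Z_μ being generated by the Ω₁(Z(S)), S a Sylow p-subgroup of the stabilizer of μ). If n ≥ 1 and V_λ^{(n)} ≤ Q_λ, then O^p(L_λ) does not centralize V_λ^{(n)}/[V_λ^{(n)}, Q_λ], that is, [V_λ^{(n)}, O^p(L_λ)] is not contained in [V_λ^{(n)}, Q_λ]. -/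
theorem result {X : Type*} [Group X] {p : ℕ} [Fact p.Prime] (M₁ M₂ : Subgroup X) (h : Cfsg.IsSpeAmalgamPair p M₁ M₂) (lam : Cfsg.CosetVertex M₁ M₂) (n : ℕ) (hn : 1 ≤ n) (V : Subgroup X) (hV : V = Cfsg.vertexVIter p M₁ M₂ n lam) (hVQ : V ≤ Cfsg.vertexQ p lam) : ¬ ⁅V, ((Cfsg.pResidual p ↥(Cfsg.pElementClosure p (MulAction.stabilizer X lam))).map (Cfsg.pElementClosure p (MulAction.stabilizer X lam)).subtype)⁆ ≤ ⁅V, Cfsg.vertexQ p lam⁆ := by
  subst hV
  intro hcomm
  obtain ⟨m, rfl⟩ : ∃ m, n = m + 1 := ⟨n - 1, by omega⟩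
  obtain ⟨δ, hadj⟩ := CfsgLib.Amalgam.exists_adj lam
  haveI := CfsgLib.Amalgam.finite_stabilizer h.1 lam
  haveI : Finite (Cfsg.edgeStabilizer lam δ) := Finite.of_injective _ (Subgroup.inclusion_injective inf_le_left)
  haveI : Finite (Cfsg.pElementClosure p (MulAction.stabilizer X lam)) :=
    Finite.of_injective _ (Subgroup.inclusion_injective (CfsgLib.Amalgam.pElementClosure_le _))
  obtain ⟨S⟩ : Nonempty (Sylow p (Cfsg.edgeStabilizer lam δ)) := inferInstance
  obtain ⟨P, -, hP, -⟩ := CfsgLib.Amalgam.exists_sylow_edge h.1 hadj S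
  obtain ⟨R, hR⟩ := CfsgLib.Amalgam.edge_sylow_le_pElementClosure P
    (le_of_eq_of_le hP (Subgroup.map_subtype_le _))
  have hQker : Cfsg.vertexQ p lam ≤ Cfsg.neighbourKernel lam := Cfsg.Agent.S2746.result M₁ M₂ h.1 lam
  have hQδ : ∀ q ∈ Cfsg.vertexQ p lam, q • δ = δ := fun q hq =>
    (CfsgLib.Amalgam.mem_neighbourKernel.1 (hQker hq)).2 δ hadj
  set A := Cfsg.vertexVIter p M₁ M₂ m δ with hA
  set V := Cfsg.vertexVIter p M₁ M₂ (m + 1) lam with hV
  set Q := Cfsg.vertexQ p lam with hQ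
  have hAV : A ≤ V := by
    refine iSup_le fun μ => CfsgLib.Amalgam.vertexZ_le_vertexVIter ?_
    have h1 := (CfsgLib.Amalgam.cosetGraph_connected h.1.1.1).dist_triangle (u := lam) (v := δ) (w := μ.1)
    have h2 := SimpleGraph.dist_eq_one_iff_adj.2 hadj
    have := μ.2
    omega
  have hgV : ∀ g ∈ MulAction.stabilizer X lam, ∀ v ∈ V, g * v * g⁻¹ ∈ V := fun g hg v hv =>
    CfsgLib.Amalgam.conj_mem_vertexVIter h.1 _ (MulAction.mem_stabilizer_iff.1 hg) hv
  have hgQ : MulAction.stabilizer X lam ≤ Subgroup.normalizer ((⁅V, Q⁆ : Subgroup X) : Set X) := by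
    intro g hg
    refine CfsgLib.PLocal.mem_normalizer_map_conj.2 ?_
    rw [Subgroup.map_commutator,
      CfsgLib.PLocal.mem_normalizer_map_conj.1 (CfsgLib.Amalgam.le_normalizer_of_conj_mem hgV hg),
      CfsgLib.PLocal.mem_normalizer_map_conj.1 (CfsgLib.Amalgam.le_normalizer_pCoreOf _ hg)]
  have hVW : V ≤ A ⊔ ⁅V, Q⁆ := by
    refine CfsgLib.Amalgam.vertexVIter_succ_le h hadj le_sup_left ?_
    refine CfsgLib.Amalgam.pResidual_mul_sylow _ R ?_ ?_
    · refine CfsgLib.Amalgam.le_normalizer_of_conj_mem fun g hg w hw => ?_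
      have hg' := Subgroup.mem_inf.1 (hR hg)
      have h1 : (A ⊔ ⁅V, Q⁆).map (MulAut.conj g).toMonoidHom ≤ A ⊔ ⁅V, Q⁆ := by
        rw [Subgroup.map_sup]
        refine sup_le_sup ?_ (le_of_eq (CfsgLib.PLocal.mem_normalizer_map_conj.1 (hgQ hg'.1)))
        refine (CfsgLib.Amalgam.map_conj_iSup_vertexVIter_le h.1 g m δ).trans ?_
        rw [MulAction.mem_stabilizer_iff.1 hg'.2]
      exact h1 ⟨w, hw, rfl⟩
    · refine CfsgLib.Amalgam.le_normalizer_of_conj_mem fun g hg w hw => ?_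
      have hgs : g ∈ MulAction.stabilizer X lam :=
        CfsgLib.Amalgam.pElementClosure_le _ (Subgroup.map_subtype_le _ hg)
      have h1 : (A ⊔ ⁅V, Q⁆).map (MulAut.conj g).toMonoidHom ≤ A ⊔ ⁅V, Q⁆ := by
        rw [Subgroup.map_sup]
        refine sup_le ?_ (le_sup_of_le_right (le_of_eq (CfsgLib.PLocal.mem_normalizer_map_conj.1 (hgQ hgs))))
        rintro _ ⟨a, ha, rfl⟩
        show g * a * g⁻¹ ∈ _
        rw [show g * a * g⁻¹ = a * (a⁻¹ * g * a⁻¹⁻¹ * g⁻¹) by group]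
        exact mul_mem (Subgroup.mem_sup_left ha)
          (Subgroup.mem_sup_right (hcomm (Subgroup.commutator_mem_commutator (inv_mem (hAV ha)) hg)))
      exact h1 ⟨w, hw, rfl⟩
  have hpQ : IsPGroup p Q := CfsgLib.Amalgam.isPGroup_pCoreOf _
  haveI : Finite Q := Finite.of_injective _ (Subgroup.inclusion_injective (CfsgLib.Amalgam.pCoreOf_le _))
  haveI : Group.IsNilpotent Q := hpQ.isNilpotent
  haveI : (A.subgroupOf Q).Normal := ⟨fun a ha q => by
    rw [Subgroup.mem_subgroupOf] at ha ⊢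
    exact CfsgLib.Amalgam.conj_mem_vertexVIter h.1 _ (hQδ q q.2) ha⟩
  have hV' : V.subgroupOf Q ≤ A.subgroupOf Q := by
    refine CfsgLib.Amalgam.le_of_le_sup_commutator ?_
    apply (Subgroup.map_le_map_iff_of_injective Q.subtype_injective).1
    rw [Subgroup.map_sup, Subgroup.map_commutator, ← MonoidHom.range_eq_map, Q.range_subtype,
      Subgroup.subgroupOf_map_subtype, Subgroup.subgroupOf_map_subtype,
      inf_eq_left.2 hVQ, inf_eq_left.2 (hAV.trans hVQ)]
    exact hVW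
  have hEq : V = A := le_antisymm
    (fun v hv => Subgroup.mem_subgroupOf.1 (hV' (x := ⟨v, hVQ hv⟩) (Subgroup.mem_subgroupOf.2 hv))) hAV
  have hVbot : V = ⊥ := by
    refine CfsgLib.Amalgam.eq_bot_of_normalized h hadj (fun v hv => Subgroup.mem_inf.2
      ⟨CfsgLib.Amalgam.pCoreOf_le _ (hVQ hv), hQδ v (hVQ hv)⟩) ?_ ?_
    · exact (CfsgLib.Amalgam.pElementClosure_le _).trans (CfsgLib.Amalgam.le_normalizer_of_conj_mem hgV)
    · rw [hEq]
      exact (CfsgLib.Amalgam.pElementClosure_le _).trans (CfsgLib.Amalgam.le_normalizer_of_conj_mem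
        fun g hg v hv => CfsgLib.Amalgam.conj_mem_vertexVIter h.1 _ (MulAction.mem_stabilizer_iff.1 hg) hv)
  refine CfsgLib.Amalgam.vertexZ_ne_bot h.1 lam (le_bot_iff.1 (hVbot ▸ ?_))
  exact CfsgLib.Amalgam.vertexZ_le_vertexVIter (by simp)

end Cfsg.Agent.S2856
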