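import Cfsg.Statements.S2857
import Cfsg.Agent.Lib.Amalgam.SpePair

set_option autoImplicit false
open Cfsg

namespace Cfsg.Agent.S2857

/-- Let (M₁, M₂) be an amalgam pair in X satisfying the rank-two standing hypothesis (characteristic p, the normalizers in M₁ and in M₂ of a Sylow p-subgroup of M₁ ∩ M₂ equal and contained in M₁ ∩ M₂, and strongly p-embedded residues), λ a vertex of the coset graph, L_λ the subgroup of its stabilizer generated by the p-elements, Q_λ = O_p of the stabilizer, O^p(L_λ) the subgroup of L_λ generated by its elements of order prime to p, and V_λ^{(k)} the subgroup generated by the Z_μ over the vertices μ at distance at most k from λ (Z_μ being generated by the Ω₁(Z(S)), S a Sylow p-subgroup of the stabilizer of μ). If n ≥ 2 and V_λ^{(n)} ≤ Q_λ, then O^p(L_λ) does not centralize V_λ^{(n)}/V_λ^{(n-2)}, that is, [V_λ^{(n)}, O^p(L_λ)] is not contained in V_λ^{(n-2)}. -/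
theorem result {X : Type*} [Group X] {p : ℕ} [Fact p.Prime] (M₁ M₂ : Subgroup X) (h : Cfsg.IsSpeAmalgamPair p M₁ M₂) (lam : Cfsg.CosetVertex M₁ M₂) (n : ℕ) (hn : 2 ≤ n) (hVQ : Cfsg.vertexVIter p M₁ M₂ n lam ≤ Cfsg.vertexQ p lam) : ¬ ⁅Cfsg.vertexVIter p M₁ M₂ n lam, ((Cfsg.pResidual p ↥(Cfsg.pElementClosure p (MulAction.stabilizer X lam))).map (Cfsg.pElementClosure p (MulAction.stabilizer X lam)).subtype)⁆ ≤ Cfsg.vertexVIter p M₁ M₂ (n - 2) lam := by
  intro hcomm
  obtain ⟨m, rfl⟩ : ∃ m, n = m + 2 := ⟨n - 2, by omega⟩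
  rw [Nat.add_sub_cancel] at hcomm
  obtain ⟨δ, hadj⟩ := CfsgLib.Amalgam.exists_adj lam
  haveI := CfsgLib.Amalgam.finite_stabilizer h.1 lam
  haveI : Finite (Cfsg.edgeStabilizer lam δ) := Finite.of_injective _ (Subgroup.inclusion_injective inf_le_left)
  haveI : Finite (Cfsg.pElementClosure p (MulAction.stabilizer X lam)) :=
    Finite.of_injective _ (Subgroup.inclusion_injective (CfsgLib.Amalgam.pElementClosure_le _))
  obtain ⟨S⟩ : Nonempty (Sylow p (Cfsg.edgeStabilizer lam δ)) := inferInstance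
  obtain ⟨P, -, hP, -⟩ := CfsgLib.Amalgam.exists_sylow_edge h.1 hadj S
  obtain ⟨R, hR⟩ := CfsgLib.Amalgam.edge_sylow_le_pElementClosure P
    (le_of_eq_of_le hP (Subgroup.map_subtype_le _))
  have hQker : Cfsg.vertexQ p lam ≤ Cfsg.neighbourKernel lam := Cfsg.Agent.S2746.result M₁ M₂ h.1 lam
  have hQδ : ∀ q ∈ Cfsg.vertexQ p lam, q • δ = δ := fun q hq =>
    (CfsgLib.Amalgam.mem_neighbourKernel.1 (hQker hq)).2 δ hadj
  set A := Cfsg.vertexVIter p M₁ M₂ (m + 1) δ with hA
  set V := Cfsg.vertexVIter p M₁ M₂ (m + 2) lam with hV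
  have hAV : A ≤ V := by
    refine iSup_le fun μ => CfsgLib.Amalgam.vertexZ_le_vertexVIter ?_
    have h1 := (CfsgLib.Amalgam.cosetGraph_connected h.1.1.1).dist_triangle (u := lam) (v := δ) (w := μ.1)
    have h2 := SimpleGraph.dist_eq_one_iff_adj.2 hadj
    have := μ.2
    omega
  have hBA : Cfsg.vertexVIter p M₁ M₂ m lam ≤ A := by
    refine iSup_le fun μ => CfsgLib.Amalgam.vertexZ_le_vertexVIter ?_
    have h1 := (CfsgLib.Amalgam.cosetGraph_connected h.1.1.1).dist_triangle (u := δ) (v := lam) (w := μ.1)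
    have h2 := SimpleGraph.dist_eq_one_iff_adj.2 hadj.symm
    have := μ.2
    omega
  have hgV : ∀ g ∈ MulAction.stabilizer X lam, ∀ v ∈ V, g * v * g⁻¹ ∈ V := fun g hg v hv =>
    CfsgLib.Amalgam.conj_mem_vertexVIter h.1 _ (MulAction.mem_stabilizer_iff.1 hg) hv
  have hVA : V ≤ A := by
    refine CfsgLib.Amalgam.vertexVIter_succ_le h hadj le_rfl ?_
    refine CfsgLib.Amalgam.pResidual_mul_sylow _ R ?_ ?_
    · exact CfsgLib.Amalgam.le_normalizer_of_conj_mem fun g hg w hw =>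
        CfsgLib.Amalgam.conj_mem_vertexVIter h.1 _ (Subgroup.mem_inf.1 (hR hg)).2 hw
    · refine CfsgLib.Amalgam.le_normalizer_of_conj_mem fun g hg a ha => ?_
      rw [show g * a * g⁻¹ = a * (a⁻¹ * g * a⁻¹⁻¹ * g⁻¹) by group]
      exact mul_mem ha (hBA (hcomm (Subgroup.commutator_mem_commutator (inv_mem (hAV ha)) hg)))
  have hEq : V = A := le_antisymm hVA hAV
  have hVbot : V = ⊥ := by
    refine CfsgLib.Amalgam.eq_bot_of_normalized h hadj (fun v hv => Subgroup.mem_inf.2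
      ⟨CfsgLib.Amalgam.pCoreOf_le _ (hVQ hv), hQδ v (hVQ hv)⟩) ?_ ?_
    · exact (CfsgLib.Amalgam.pElementClosure_le _).trans (CfsgLib.Amalgam.le_normalizer_of_conj_mem hgV)
    · rw [hEq]
      exact (CfsgLib.Amalgam.pElementClosure_le _).trans (CfsgLib.Amalgam.le_normalizer_of_conj_mem
        fun g hg v hv => CfsgLib.Amalgam.conj_mem_vertexVIter h.1 _ (MulAction.mem_stabilizer_iff.1 hg) hv)
  refine CfsgLib.Amalgam.vertexZ_ne_bot h.1 lam (le_bot_iff.1 (hVbot ▸ ?_))
  exact CfsgLib.Amalgam.vertexZ_le_vertexVIter (by simp)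

end Cfsg.Agent.S2857
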