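import Cfsg.Statements.S2859
import Cfsg.Agent.Lib.Amalgam.WeakClosureFactor

set_option autoImplicit false
open Cfsg

namespace Cfsg.Agent.S2859

open Subgroup
open scoped commutatorElement

/-- Let Q be a nontrivial p-subgroup of the finite group H that is a weakly closed subgroup, H° the weak closure of Q in H (generated by the conjugates of Q) and H_∘ = O^p(H°). Suppose H₁, H₂ are normal subgroups of H° with H° = H₁H₂ and [H₁, H₂] ≤ N_H(Q), and put Kᵢ = O^p of the weak closure of Q in HᵢQ. Then for i = 1, 2: Kᵢ = [Kᵢ, Q] = [Kᵢ, Hᵢ] ≤ Hᵢ′ and Kᵢ is normal in H°; H_∘ = K₁K₂; and [K₁, K₂] ≤ O_p(H°). -/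
theorem result {G : Type*} [Group G] [Finite G] {p : ℕ} [Fact p.Prime] (Q : Subgroup G) (hQp : IsPGroup p ↥Q) (hQ1 : Q ≠ ⊥) (hwc : Cfsg.IsWeaklyClosedSubgroup p Q) (Hc : Subgroup G) (hHc : Hc = Cfsg.weakClosure Q ⊤) (H₁ H₂ : Subgroup G) (hn₁ : H₁ ≤ Hc ∧ Hc ≤ Subgroup.normalizer ((H₁ : Subgroup G) : Set G)) (hn₂ : H₂ ≤ Hc ∧ Hc ≤ Subgroup.normalizer ((H₂ : Subgroup G) : Set G)) (hprod : H₁ ⊔ H₂ = Hc) (hcomm : ⁅H₁, H₂⁆ ≤ Subgroup.normalizer ((Q : Subgroup G) : Set G)) (K₁ K₂ : Subgroup G) (hK₁ : K₁ = ((Cfsg.pResidual p ↥(Cfsg.weakClosure Q (H₁ ⊔ Q))).map ((Cfsg.weakClosure Q (H₁ ⊔ Q))).subtype)) (hK₂ : K₂ = ((Cfsg.pResidual p ↥(Cfsg.weakClosure Q (H₂ ⊔ Q))).map ((Cfsg.weakClosure Q (H₂ ⊔ Q))).subtype)) : (⁅K₁, Q⁆ = K₁ ∧ ⁅K₁, H₁⁆ = K₁ ∧ K₁ ≤ ⁅H₁, H₁⁆ ∧ Hc ≤ Subgroup.normalizer ((K₁ : Subgroup G) : Set G)) ∧ (⁅K₂, Q⁆ = K₂ ∧ ⁅K₂, H₂⁆ = K₂ ∧ K₂ ≤ ⁅H₂, H₂⁆ ∧ Hc ≤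 Subgroup.normalizer ((K₂ : Subgroup G) : Set G)) ∧ K₁ ⊔ K₂ = ((Cfsg.pResidual p ↥Hc).map (Hc).subtype) ∧ ⁅K₁, K₂⁆ ≤ (Cfsg.pCoreOf p Hc) := by
  have c : CfsgLib.Amalgam.WCFactor.Ctx p Q Hc H₁ H₂ :=
    ⟨hQp, hwc, hHc, hn₁.1, hn₁.2, hn₂.1, hn₂.2, hprod, hcomm⟩
  obtain ⟨a1, a2, a3, a4, a5⟩ := c.side hK₁
  obtain ⟨b1, b2, b3, b4, b5⟩ := c.symm.side hK₂
  refine ⟨⟨a1, a2, a3, a4⟩, ⟨b1, b2, b3, b4⟩, le_antisymm (sup_le ?_ ?_) ?_, ?_⟩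
  · rw [hK₁, CfsgLib.Amalgam.WCFactor.res_eq, CfsgLib.Amalgam.WCFactor.res_eq]
    exact closure_mono fun x hx =>
      ⟨(sup_le c.le₁ c.q_le) (CfsgLib.Amalgam.weakClosure_le _ _ hx.1), hx.2⟩
  · rw [hK₂, CfsgLib.Amalgam.WCFactor.res_eq, CfsgLib.Amalgam.WCFactor.res_eq]
    exact closure_mono fun x hx =>
      ⟨(sup_le c.le₂ c.q_le) (CfsgLib.Amalgam.weakClosure_le _ _ hx.1), hx.2⟩
  · have hN : Hc ≤ normalizer ((K₁ ⊔ K₂ : Subgroup G) : Set G) := fun x hx =>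
      mem_normalizer_iff_map_conj_eq.2 ((Subgroup.map_sup _ _ _).trans
        (congrArg₂ (· ⊔ ·) (mem_normalizer_iff_map_conj_eq.1 (a4 hx))
          (mem_normalizer_iff_map_conj_eq.1 (b4 hx))))
    have key : ∀ (Hi : Subgroup G), Hi ≤ Hc → ∀ Ki : Subgroup G,
        Ki = (Cfsg.pResidual p ↥(Cfsg.weakClosure Q (Hi ⊔ Q))).map
          (Cfsg.weakClosure Q (Hi ⊔ Q)).subtype → Ki ≤ K₁ ⊔ K₂ →
        Hi ≤ normalizer ((K₁ ⊔ K₂ ⊔ Q : Subgroup G) : Set G) := by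
      intro Hi hHi Ki hKi hle
      set L := Cfsg.weakClosure Q (Hi ⊔ Q) with hL
      have hQL : Q ≤ L := CfsgLib.Amalgam.self_le_weakClosure le_sup_right
      obtain ⟨P, hP, hQP⟩ := CfsgLib.Amalgam.exists_isSylIn_ge hQp hQL
      have hPQ : P ≤ normalizer (Q : Set G) :=
        le_normalizer.trans (CfsgLib.Amalgam.normalizer_le_of_weaklyClosed hwc hP.2.1 hQP)
      have hLN : L ≤ normalizer ((K₁ ⊔ K₂ ⊔ Q : Subgroup G) : Set G) := by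
        rw [← CfsgLib.Amalgam.WCFactor.res_sup_syl hP, ← hKi]
        refine sup_le (hle.trans (le_sup_left.trans le_normalizer)) fun x hx => ?_
        have hxc : x ∈ Hc := (sup_le hHi c.q_le) (CfsgLib.Amalgam.weakClosure_le _ _ (hP.1 hx))
        exact mem_normalizer_iff_map_conj_eq.2 ((Subgroup.map_sup _ _ _).trans
          (congrArg₂ (· ⊔ ·) (mem_normalizer_iff_map_conj_eq.1 (hN hxc))
            (mem_normalizer_iff_map_conj_eq.1 (hPQ hx))))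
      intro h hh
      refine mem_normalizer_iff_map_conj_eq.2 (eq_of_le_of_card_ge ?_
        (card_map_of_injective (MulAut.conj h).injective).ge)
      rw [Subgroup.map_sup]
      refine sup_le ((mem_normalizer_iff_map_conj_eq.1 (hN (hHi hh))).le.trans le_sup_left) ?_
      have hle' : Q.map (MulAut.conj h).toMonoidHom ≤ Hi ⊔ Q := by
        rintro _ ⟨q, hq, rfl⟩
        exact mul_mem (mul_mem (mem_sup_left hh) (mem_sup_right hq)) (inv_mem (mem_sup_left hh))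
      obtain ⟨l, hl, e⟩ := CfsgLib.Amalgam.exists_conj_eq_of_le hwc hQp hQL
        (CfsgLib.Amalgam.conj_le_weakClosure hle' : Q.map (MulAut.conj h).toMonoidHom ≤ L)
      show Q.map (MulAut.conj h).toMonoidHom ≤ _
      rw [e]
      exact (map_mono le_sup_right).trans (mem_normalizer_iff_map_conj_eq.1 (hLN hl)).le
    have hHN : Hc ≤ normalizer ((K₁ ⊔ K₂ ⊔ Q : Subgroup G) : Set G) := by
      rw [← hprod]
      exact sup_le (key H₁ c.le₁ K₁ hK₁ le_sup_left) (key H₂ c.le₂ K₂ hK₂ le_sup_right)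
    refine CfsgLib.Amalgam.WCFactor.res_le_of_le_sup (c.le_of_conj_le fun k hk => ?_) hQp (c.q_le.trans hN)
    exact (map_mono le_sup_right).trans (mem_normalizer_iff_map_conj_eq.1 (hHN hk)).le
  · rw [commutator_le]
    intro x hx y hy
    exact a5 x hx y (by
      have := b3 hy
      exact (commutator_le.2 fun a ha b hb => by
        rw [commutatorElement_def]
        exact mul_mem (mul_mem (mul_mem ha hb) (inv_mem ha)) (inv_mem hb) : ⁅H₂, H₂⁆ ≤ H₂) this)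

end Cfsg.Agent.S2859
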