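import Cfsg.Statements.S2860
import Cfsg.Agent.Lib.Amalgam.LargeQuasisimple

set_option autoImplicit false
open Cfsg

namespace Cfsg.Agent.S2860

open Subgroup
open scoped commutatorElement

/-- Let Q be a nontrivial large p-subgroup of the finite group H, U a nontrivial elementary abelian p-subgroup of H, and Q ≤ E ≤ N_H(U) with Q not normal in E. Suppose O_p(E/C_E(U)) = 1 and O^p(E)·C_E(U)/C_E(U) is quasisimple. Let E° be the weak closure of Q in E (generated by the conjugates of Q inside E) and E_∘ = O^p(E°). Then O^p(E)·C_E(U) = E_∘·C_E(U); E_∘ is perfect and equals O^p(E_∘); E_∘/C_{E_∘}(U) and E_∘/O_p(E_∘) are quasisimple; and E_∘ = [E_∘, Y] for every p-subgroup Y of E not centralizing U. -/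
theorem result {G : Type*} [Group G] [Finite G] {p : ℕ} [Fact p.Prime] (Q : Subgroup G) (hQp : IsPGroup p ↥Q) (hQ1 : Q ≠ ⊥) (hQ : Cfsg.IsLarge Q) (U : Subgroup G) (hU : Cfsg.IsElementaryAbelian p U) (hU1 : U ≠ ⊥) (E : Subgroup G) (hQE : Q ≤ E) (hEU : E ≤ Subgroup.normalizer ((U : Subgroup G) : Set G)) (hQn : ¬ E ≤ Subgroup.normalizer ((Q : Subgroup G) : Set G)) [hn : ((Subgroup.centralizer ((U : Subgroup G) : Set G)).subgroupOf E).Normal] (hred : Cfsg.pCore p (↥E ⧸ (Subgroup.centralizer ((U : Subgroup G) : Set G)).subgroupOf E) = ⊥) (hqs : Cfsg.IsQuasisimple ↥(((Cfsg.pResidual p ↥E) ⊔ (Subgroup.centralizer ((U : Subgroup G) : Set G)).subgroupOf E).map (QuotientGroup.mk' ((Subgroup.centralizer ((U : Subgroup G) : Set G)).subgroupOf E)))) (Er : Subgroup G) (hEr : Er = ((Cfsg.pResidual p ↥(Cfsg.weakClosure Q E)).map ((Cfsg.weakClosure Q E)).subtype)) [hn2 : ((Subgroup.centralizer ((U : Subgroup G) : Set G)).subgroupOf Er).Normal] : ((Cfsg.pResidual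 p ↥E).map (E).subtype) ⊔ (E ⊓ Subgroup.centralizer ((U : Subgroup G) : Set G)) = Er ⊔ (E ⊓ Subgroup.centralizer ((U : Subgroup G) : Set G)) ∧ ⁅Er, Er⁆ = Er ∧ ((Cfsg.pResidual p ↥Er).map (Er).subtype) = Er ∧ Cfsg.IsQuasisimple (↥Er ⧸ (Subgroup.centralizer ((U : Subgroup G) : Set G)).subgroupOf Er) ∧ Cfsg.IsQuasisimple (↥Er ⧸ Cfsg.pCore p ↥Er) ∧ ∀ Y : Subgroup G, Y ≤ E → IsPGroup p ↥Y → ¬ Y ≤ Subgroup.centralizer ((U : Subgroup G) : Set G) → ⁅Er, Y⁆ = Er := by
  classical
  set CU := Subgroup.centralizer (U : Set G) with hCU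
  set WC := Cfsg.weakClosure Q E with hWC
  have hWE : WC ≤ E := CfsgLib.Amalgam.weakClosure_le Q E
  have hErW : Er ≤ WC := hEr ▸ map_subtype_le _
  have hErE : Er ≤ E := hErW.trans hWE
  have hUp : IsPGroup p U := CfsgLib.PLocal.elemAb_isPGroup hU
  have hWn : E ≤ normalizer (WC : Set G) :=
    le_normalizer.trans (CfsgLib.Amalgam.normalizer_le_normalizer_weakClosure Q E)
  have hCQ : CU ≤ normalizer (Q : Set G) :=
    CfsgLib.Amalgam.centralizer_le_normalizer_of_large hQ hQp hUp hU1 (hQE.trans hEU)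
  have hQC : ¬ Q ≤ CU := fun h => hQn (hEU.trans (hQ.2 U (le_centralizer_iff.1 h) hU1))
  have hmemW : ∀ x ∈ WC, (orderOf x).Coprime p → x ∈ Er := fun x hx hxp =>
    hEr ▸ CfsgLib.Amalgam.mem_pResidual_map hx hxp
  -- `[C_E(U), E°]` lies in `O_p(E)`
  have hcen : ⁅E ⊓ CU, WC⁆ ≤ Cfsg.pCoreOf p E := by
    have hst : WC ≤ CfsgLib.Amalgam.AsymL.stab (E ⊓ CU) (Cfsg.pCoreOf p E) := by
      refine iSup_le fun g => ?_
      obtain ⟨g, hg⟩ := g
      set Qg := Q.map (MulAut.conj g).toMonoidHom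
      have hgU : Qg ≤ normalizer (U : Set G) := hg.trans hEU
      have hCn : E ⊓ CU ≤ normalizer (Qg : Set G) := by
        refine inf_le_right.trans ?_
        refine CfsgLib.Amalgam.centralizer_le_normalizer_of_large (CfsgLib.Amalgam.isLarge_map_conj hQ g)
          (hQp.map _) hUp hU1 hgU
      have hnC : E ≤ normalizer ((E ⊓ CU : Subgroup G) : Set G) :=
        (le_inf le_normalizer (hEU.trans (CfsgLib.Comp.normalizer_le_normalizer_centralizer U))).trans
          inf_normalizer_le_normalizer_inf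
      refine CfsgLib.Amalgam.AsymL.le_stab (hg.trans hnC)
        (hg.trans (CfsgLib.Amalgam.le_normalizer_pCoreOf E)) ?_
      have h1 : ⁅E ⊓ CU, Qg⁆ ≤ E ⊓ CU := CfsgLib.Comp.commutator_le_of_le_normalizer (hg.trans hnC)
      have h2 : ⁅E ⊓ CU, Qg⁆ ≤ Qg := by
        rw [Subgroup.commutator_comm]
        exact CfsgLib.Comp.commutator_le_of_le_normalizer hCn
      refine (le_inf h1 h2).trans (le_trans (CfsgLib.Amalgam.le_pCoreOf (H := E ⊓ CU) inf_le_left
        ((le_inf le_normalizer hCn).trans inf_normalizer_le_normalizer_inf)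
        ((hQp.map _).to_le inf_le_right)) (CfsgLib.Amalgam.pCoreOf_le_of_normal inf_le_left hnC))
    exact CfsgLib.Amalgam.AsymL.commutator_le_of_le_stab hst
  set C := CU.subgroupOf E with hC
  set W := WC.subgroupOf E with hW
  set E0 := Er.subgroupOf E with hE0
  have hkey : ∀ {A B : Subgroup G}, A ≤ E → B ≤ E →
      ⁅A.subgroupOf E, B.subgroupOf E⁆.map E.subtype = ⁅A, B⁆ := by
    intro A B hA hB
    rw [Subgroup.map_commutator, subgroupOf_map_subtype, subgroupOf_map_subtype, inf_eq_left.2 hA,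
      inf_eq_left.2 hB]
  have d : CfsgLib.Amalgam.LargeQs.Data p C W E0 := by
    refine ⟨hn, normal_subgroupOf_of_le_normalizer hWn, comap_mono hErW, ?_, ?_, ?_, ?_, ?_⟩
    · intro x hx hxp
      exact mem_subgroupOf.2 (hmemW _ (mem_subgroupOf.1 hx) (by rwa [Subgroup.orderOf_coe]))
    · intro K hK x hx
      have h1 : Er ≤ K.map E.subtype := hEr ▸ CfsgLib.Amalgam.pResidual_map_le fun y hy hyp =>
        ⟨⟨y, hWE hy⟩, hK _ (mem_subgroupOf.2 hy) (by rwa [← Subgroup.orderOf_coe]), rfl⟩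
      obtain ⟨y, hy, e⟩ := h1 (mem_subgroupOf.1 hx)
      exact E.subtype_injective e ▸ hy
    · intro K hK x hx
      have h1 : WC ≤ K.map E.subtype := iSup_le fun g => by
        obtain ⟨g, hg⟩ := g
        intro y hy
        refine ⟨⟨y, hg hy⟩, hK ((Q.map (MulAut.conj g).toMonoidHom).subgroupOf E)
          ((hQp.map _).comap_of_injective _ E.subtype_injective)
          (comap_mono (CfsgLib.Amalgam.conj_le_weakClosure hg)) (mem_subgroupOf.2 hy), rfl⟩
      obtain ⟨y, hy, e⟩ := h1 (mem_subgroupOf.1 hx)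
      exact E.subtype_injective e ▸ hy
    · exact fun h => hQC fun q hq => mem_subgroupOf.1
        (h (x := (⟨q, hQE hq⟩ : E)) (mem_subgroupOf.2 (CfsgLib.Amalgam.self_le_weakClosure hQE hq)))
    · refine (Subgroup.map_le_map_iff_of_injective E.subtype_injective).1 ?_
      rw [Subgroup.map_commutator, subgroupOf_map_subtype, subgroupOf_map_subtype, inf_eq_left.2 hWE,
        inf_comm CU E]
      exact hcen
  haveI : C.Normal := hn
  have hqs' : Cfsg.IsQuasisimple ↥(CfsgLib.Amalgam.LargeQs.resBar p C) := by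
    have : (Cfsg.pResidual p ↥E ⊔ C).map (QuotientGroup.mk' C) = CfsgLib.Amalgam.LargeQs.resBar p C := by
      rw [Subgroup.map_sup, QuotientGroup.map_mk'_self, sup_bot_eq]
    rwa [this] at hqs
  have hE0map : E0.map E.subtype = Er := by rw [hE0, subgroupOf_map_subtype, inf_eq_left.2 hErE]
  haveI hEn : E0.Normal := d.normal
  haveI hn3 : (C.subgroupOf E0).Normal := Subgroup.normal_subgroupOf
  haveI hpn : (Cfsg.pCore p ↥E0).Normal := CfsgLib.Amalgam.normal_pCore
  let e : ↥E0 ≃* ↥Er := subgroupOfEquivOfLe hErE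
  refine ⟨?_, ?_, ?_, ?_, ?_, ?_⟩
  · have h := congrArg (Subgroup.map E.subtype) (d.sup_eq hred hqs')
    rw [Subgroup.map_sup, Subgroup.map_sup, hE0map, hC, subgroupOf_map_subtype, inf_comm] at h
    exact h
  · rw [← hkey hErE hErE, d.perfect hred hqs', hE0map]
  · refine le_antisymm (map_subtype_le _) ?_
    conv_lhs => rw [hEr]
    exact CfsgLib.Amalgam.pResidual_map_le fun x hx hxp =>
      CfsgLib.Amalgam.mem_pResidual_map (hmemW x hx hxp) hxp
  · refine CfsgLib.Comp.isQuasisimple_congr (QuotientGroup.congr (C.subgroupOf E0) (CU.subgroupOf Er) e ?_)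
      (d.quasisimple_quotient hred hqs')
    ext x
    constructor
    · rintro ⟨y, hy, rfl⟩
      exact hy
    · intro hx
      exact ⟨⟨⟨(x : G), hErE x.2⟩, x.2⟩, hx, rfl⟩
  · haveI : (Cfsg.pCore p ↥Er).Normal := CfsgLib.Amalgam.normal_pCore
    exact CfsgLib.Comp.isQuasisimple_congr (QuotientGroup.congr _ _ e (CfsgLib.Amalgam.map_pCore_eq e))
      (d.quasisimple_pCore hred hqs')
  · intro Y hYE hYp hYC
    rw [← hkey hErE hYE, d.commutator_eq hred hqs' (Y := Y.subgroupOf E) (hYp.comap_of_injective _ E.subtype_injective)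
      (fun h => hYC fun y hy => mem_subgroupOf.1 (h (x := (⟨y, hYE hy⟩ : E)) (mem_subgroupOf.2 hy))), hE0map]

end Cfsg.Agent.S2860
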