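import Cfsg.Statements.S2861
import Cfsg.Agent.Lib.Amalgam.FrakLNorm
import Cfsg.Agent.Lib.Amalgam.PCore

set_option autoImplicit false
open Cfsg

namespace Cfsg.Agent.S2861

open Subgroup

/-- Standing hypotheses: G a finite group, S a Sylow p-subgroup, Q a nontrivial large p-subgroup of G contained in S, M a subgroup containing S with the basic property (M ∈ 𝔐_G(S)); Y_M the largest p-reduced normal subgroup of M and M† = M·C_G(Y_M). Let L ∈ 𝔏_G(Y_M) (L ∈ 𝔏_G(Y_M): Y_M ≤ L; O_p(L) is the normal closure in L of Y_M ∩ O_p(L) and normalizes Y_M; L is Y_M-minimal of characteristic p with N_L(Y_M) its unique maximal subgroup over Y_M; and L/O_p(L) ≅ SL₂(q) with q = |Y_M : Y_M ∩ O_p(L)|, or p = 2 and L/O_p(L) is a Suzuki group Sz(q) or dihedral of order 2r, r an odd prime) and A = O_p(L). Then Y_M·A/A is the unique nontrivial elementary abelian normal p-subgroup of N_L(Y_M)/A. -/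
theorem result {G : Type*} [Group G] [Finite G] {p : ℕ} [Fact p.Prime] (S : Sylow p G) (Q : Subgroup G) (hQp : IsPGroup p ↥Q) (hQ1 : Q ≠ ⊥) (hQS : Q ≤ (S : Subgroup G)) (hQ : Cfsg.IsLarge Q) (M : Subgroup G) (hSM : (S : Subgroup G) ≤ M) (hM : Cfsg.IsInFrakM p M) (L : Subgroup G) (hL : Cfsg.IsInFrakL p M L) (NL : Subgroup G) (hNL : NL = L ⊓ Subgroup.normalizer (((Cfsg.largestPReducedOf p M) : Subgroup G) : Set G)) [hn : (((Cfsg.pCoreOf p L)).subgroupOf NL).Normal] : let Ybar : Subgroup (↥NL ⧸ ((Cfsg.pCoreOf p L)).subgroupOf NL) := (((Cfsg.largestPReducedOf p M)).subgroupOf NL).map (QuotientGroup.mk' (((Cfsg.pCoreOf p L)).subgroupOf NL)); Ybar ≠ ⊥ ∧ Ybar.Normal ∧ Cfsg.IsElementaryAbelian p Ybar ∧ ∀ (V : Subgroup (↥NL ⧸ ((Cfsg.pCoreOf p L)).subgroupOf NL)), V.Normal → Cfsg.IsElementaryAbelian p V → V ≠ ⊥ → V = Ybar := by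
  classical
  intro Ybar
  have c := CfsgLib.ClassK.FrakL.ctx_of_frakL hL
  set Y := Cfsg.largestPReducedOf p M with hY
  set A := Cfsg.pCoreOf p L with hA
  have hNLle : NL ≤ L := hNL.trans_le inf_le_left
  have hYNL : Y ≤ NL := hNL ▸ le_inf c.le le_normalizer
  have hAL : A ≤ L := map_subtype_le _
  -- the embedding into the quotient of `L`
  let f : ↥NL →* ↥L ⧸ Cfsg.pCore p ↥L := (QuotientGroup.mk' _).comp (inclusion hNLle)
  have hker : f.ker = A.subgroupOf NL := by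
    ext x
    rw [MonoidHom.mem_ker, mem_subgroupOf, MonoidHom.comp_apply, QuotientGroup.mk'_apply,
      QuotientGroup.eq_one_iff]
    refine ⟨fun h => ⟨_, h, rfl⟩, fun h => ?_⟩
    obtain ⟨w, hw, hwx⟩ := h
    have : w = inclusion hNLle x := Subtype.ext hwx
    exact this ▸ hw
  let e : ↥NL ⧸ A.subgroupOf NL →* ↥L ⧸ Cfsg.pCore p ↥L :=
    QuotientGroup.lift _ f hker.ge
  have he : Function.Injective e := by
    rw [← MonoidHom.ker_eq_bot_iff, eq_bot_iff]
    intro x hx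
    obtain ⟨x, rfl⟩ := QuotientGroup.mk'_surjective _ x
    rw [Subgroup.mem_bot, QuotientGroup.mk'_apply, QuotientGroup.eq_one_iff, ← hker]
    exact hx
  have hrange : e.range = (NL.subgroupOf L).map (QuotientGroup.mk' _) := by
    ext x
    constructor
    · rintro ⟨y, rfl⟩
      obtain ⟨y, rfl⟩ := QuotientGroup.mk'_surjective _ y
      exact ⟨inclusion hNLle y, y.2, rfl⟩
    · rintro ⟨y, hy, rfl⟩
      exact ⟨QuotientGroup.mk' _ ⟨y, hy⟩, rfl⟩
  set T : Subgroup (↥L ⧸ Cfsg.pCore p ↥L) := (Y.subgroupOf L).map (QuotientGroup.mk' _) with hTdef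
  have hYT : Ybar.map e = T := by
    ext x
    constructor
    · rintro ⟨_, ⟨y, hy, rfl⟩, rfl⟩
      exact ⟨inclusion hNLle y, hy, rfl⟩
    · rintro ⟨y, hy, rfl⟩
      exact ⟨_, ⟨⟨y, hYNL hy⟩, hy, rfl⟩, rfl⟩
  have hTcard : Nat.card T = (Y ⊓ A).relIndex Y := by
    let g : ↥Y →* ↥L ⧸ Cfsg.pCore p ↥L := (QuotientGroup.mk' _).comp (inclusion c.le)
    have hr : g.range = T := by
      rw [MonoidHom.range_comp]
      exact congrArg (Subgroup.map _) (inclusion_range c.le)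
    have hk : g.ker = (Y ⊓ A).subgroupOf Y := by
      ext y
      rw [MonoidHom.mem_ker, mem_subgroupOf, MonoidHom.comp_apply, QuotientGroup.mk'_apply,
        QuotientGroup.eq_one_iff]
      refine ⟨fun h => ⟨y.2, ⟨_, h, rfl⟩⟩, fun h => ?_⟩
      obtain ⟨w, hw, hwy⟩ := h.2
      have : w = inclusion c.le y := Subtype.ext hwy
      exact this ▸ hw
    rw [relIndex, ← hk, index_ker, hr]
  have hTel : Cfsg.IsElementaryAbelian p T := by
    rw [hTdef]
    exact CfsgLib.Amalgam.FrakLNorm.elemAb_map (CfsgLib.Amalgam.FrakLNorm.elemAb_subgroupOf c.elem L) _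
  have hYn : (Y.subgroupOf NL).Normal := by
    refine (Subgroup.normal_subgroupOf_iff_le_normalizer hYNL).2 ?_
    exact hNL.trans_le inf_le_right
  have hT1 : T ≠ ⊥ := by
    intro h0
    refine c.not_le fun y hy => ?_
    have : QuotientGroup.mk' (Cfsg.pCore p ↥L) ⟨y, c.le hy⟩ = 1 := by
      rw [← Subgroup.mem_bot, ← h0]
      exact ⟨⟨y, c.le hy⟩, hy, rfl⟩
    exact ⟨_, (QuotientGroup.eq_one_iff _).1 this, rfl⟩
  have hYbar1 : Ybar ≠ ⊥ := fun h0 => hT1 (by rw [← hYT, h0, Subgroup.map_bot])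
  have hYbarN : Ybar.Normal := hYn.map _ (QuotientGroup.mk'_surjective _)
  have hYbarE : Cfsg.IsElementaryAbelian p Ybar :=
    CfsgLib.Amalgam.FrakLNorm.elemAb_map (CfsgLib.Amalgam.FrakLNorm.elemAb_subgroupOf c.elem NL) _
  -- the image of `NL` is the normalizer of `T`
  have hN : normalizer (T : Set (↥L ⧸ Cfsg.pCore p ↥L)) = e.range := by
    refine le_antisymm ?_ ?_
    · set X := ((normalizer (T : Set (↥L ⧸ Cfsg.pCore p ↥L))).comap (QuotientGroup.mk' _)).map L.subtype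
      have hXL : X ≤ L := map_subtype_le _
      have hYX : Y ≤ X := fun y hy => ⟨⟨y, c.le hy⟩, le_normalizer (H := T) ⟨_, hy, rfl⟩, rfl⟩
      have hlt : X < L := by
        refine lt_of_le_of_ne hXL fun hX => hT1 ?_
        have hTn : T.Normal := by
          rw [← normalizer_eq_top_iff, eq_top_iff]
          intro x _
          obtain ⟨x, rfl⟩ := QuotientGroup.mk'_surjective _ x
          obtain ⟨x', hx', ex⟩ := hX.ge x.2
          exact L.subtype_injective ex ▸ hx'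
        have hpT : IsPGroup p T := fun x => ⟨1, Subtype.ext (by simpa using hTel.2 x x.2)⟩
        have hle := CfsgLib.Amalgam.le_pCore (hTn.comap (QuotientGroup.mk' (Cfsg.pCore p ↥L)))
          (hpT.comap_of_ker_isPGroup _ (by
            rw [QuotientGroup.ker_mk']; exact CfsgLib.Amalgam.isPGroup_pCore))
        rw [eq_bot_iff]
        intro x hx
        obtain ⟨x, rfl⟩ := QuotientGroup.mk'_surjective _ x
        rw [Subgroup.mem_bot, QuotientGroup.mk'_apply, QuotientGroup.eq_one_iff]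
        exact hle hx
      intro x hx
      obtain ⟨x, rfl⟩ := QuotientGroup.mk'_surjective _ x
      have hxX : (x : G) ∈ X := ⟨x, hx, rfl⟩
      rw [hrange]
      exact ⟨x, hNL.ge (c.max X hYX hlt hxX), rfl⟩
    · rw [← hYT, MonoidHom.range_eq_map]
      refine le_trans ?_ (Subgroup.le_normalizer_map e)
      rw [normalizer_eq_top_iff.2 hYbarN]
  -- the possible quotients
  have hTp : IsPGroup p T := fun x => ⟨1, Subtype.ext (by simpa using hTel.2 x x.2)⟩
  have hTinv : ∀ x ∈ T, x ^ p = 1 := hTel.2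
  have htwo : p = 2 → Nat.card T = 2 → CfsgLib.Amalgam.FrakLNorm.OnlyNormal p T := by
    intro hp hT
    subst hp
    obtain ⟨g, hg, hgen⟩ := c.exists_gen
    refine CfsgLib.Amalgam.FrakLNorm.onlyNormal_two hT (g := QuotientGroup.mk' _ (⟨g, hg⟩ : ↥L)) ?_
    rw [eq_top_iff]
    intro x _
    obtain ⟨x, rfl⟩ := QuotientGroup.mk'_surjective _ x
    have hle : Y ⊔ CfsgLib.ClassK.FrakL.cj Y g ≤
        ((T ⊔ T.map (MulAut.conj (QuotientGroup.mk' _ (⟨g, hg⟩ : ↥L))).toMonoidHom).comap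
        (QuotientGroup.mk' _)).map L.subtype := by
      refine sup_le (fun y hy => ⟨⟨y, c.le hy⟩, mem_sup_left ⟨_, hy, rfl⟩, rfl⟩) ?_
      rintro _ ⟨y, hy, rfl⟩
      refine ⟨⟨g, hg⟩ * ⟨y, c.le hy⟩ * (⟨g, hg⟩ : ↥L)⁻¹, mem_sup_right ⟨_, ⟨⟨y, c.le hy⟩, hy, rfl⟩, ?_⟩, rfl⟩
      simp
      rfl
    rw [hgen] at hle
    obtain ⟨x', hx', e1⟩ := hle x.2
    exact L.subtype_injective e1 ▸ hx'
  have honly : CfsgLib.Amalgam.FrakLNorm.OnlyNormal p T := by
    obtain ⟨-, -, -, -, -, -, h7⟩ := hL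
    rcases h7 with ⟨F, iF, iFF, hq, ⟨φ⟩⟩ | ⟨hp, F, iF, iFF, m', hF, hq, ⟨φ⟩⟩ | ⟨hp, r, hr, hr2, ⟨φ⟩⟩
    · obtain ⟨n, hn⟩ := IsPGroup.iff_card.1 hTp
      rw [← hTcard, hn] at hq
      haveI : CharP F p := CfsgLib.ClassK.Push.charP_of_card hq
      exact .of_map φ (CfsgLib.Amalgam.FrakLNorm.onlyNormal_sl (F := F)
        (by rw [card_map_of_injective φ.injective, hn, hq]))
    · rw [← hTcard] at hq
      by_cases hm' : m' = 0
      · exact htwo hp (by rw [← hq, hF, hm']; norm_num)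
      subst hp
      refine .of_map φ (CfsgLib.Amalgam.FrakLNorm.onlyNormal_suzuki (F := F) (by omega : 1 ≤ m') hF
        (by rw [card_map_of_injective φ.injective, hq]) ?_)
      rintro _ ⟨x, hx, rfl⟩
      show φ x * φ x = 1
      rw [← map_mul, ← sq, hTinv x hx, map_one]
    · refine htwo hp ?_
      subst hp
      obtain ⟨n, hn⟩ := IsPGroup.iff_card.1 hTp
      have hdvd : 2 ^ n ∣ 2 * r := by
        rw [← hn, ← DihedralGroup.nat_card, ← Nat.card_congr φ.toEquiv]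
        exact card_subgroup_dvd_card T
      have hn1 : n ≤ 1 := by
        by_contra hcon
        have h4 : 2 ^ 2 ∣ 2 * r := (pow_dvd_pow 2 (by omega)).trans hdvd
        rw [show (2 : ℕ) ^ 2 = 2 * 2 from rfl] at h4
        exact hr2 ((Nat.prime_dvd_prime_iff_eq Nat.prime_two hr).1 (Nat.dvd_of_mul_dvd_mul_left (by norm_num) h4)).symm
      have hn0 : n ≠ 0 := by
        intro e0
        rw [e0, pow_zero] at hn
        exact hT1 ((Subgroup.card_eq_one).1 hn)
      rw [hn, show n = 1 by omega, pow_one]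
  refine ⟨hYbar1, hYbarN, hYbarE, fun V hVn hVe hV1 => Subgroup.map_injective he ?_⟩
  rw [hYT]
  refine honly _ (CfsgLib.Amalgam.FrakLNorm.elemAb_map hVe _) ?_ ?_ ?_
  · rw [hN, MonoidHom.range_eq_map]; exact map_mono le_top
  · rw [hN, MonoidHom.range_eq_map]
    refine le_trans ?_ (Subgroup.le_normalizer_map e)
    rw [normalizer_eq_top_iff.2 hVn]
  · exact fun h0 => hV1 ((Subgroup.map_eq_bot_iff_of_injective _ he).1 h0)

end Cfsg.Agent.S2861
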