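import Cfsg.Statements.S2862
import Cfsg.Agent.S2845
import Cfsg.Agent.Lib.Amalgam.FrakH
import Cfsg.Agent.Lib.Amalgam.AsymmetricLGlobal
import Cfsg.Agent.Lib.Invol.BaerSuzuki

set_option autoImplicit false
open Cfsg

namespace Cfsg.Agent.S2862

open Subgroup
open scoped commutatorElement

/-- Standing hypotheses: G a finite group, S a Sylow p-subgroup, Q a nontrivial large p-subgroup of G contained in S, M a subgroup containing S with the basic property (M ∈ 𝔐_G(S)); Y_M the largest p-reduced normal subgroup of M and M† = M·C_G(Y_M). Suppose Y_M is char-p-tall and asymmetric in G, H ∈ ℌ_G(O_p(M)), and L is minimal among the subgroups of H containing Y_M with Y_M ≰ O_p(L). Then H = ⟨L, O_p(M)⟩ = ⟨hY_Mh⁻¹, O_p(M)⟩ for every h ∈ L outside N_L(Y_M); L is Y_M-minimal and of characteristic p, with N_L(Y_M) the unique maximal subgroup of L containing Y_M; [V, O^p(L)] ≠ 1 for every noncentral chief factor V/W of H inside O_p(H) (that is, O^p(L) does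 not act trivially on V/W); and the normal closure of O_p(L) ∩ Y_M in L lies in O_p(H). -/
theorem result {G : Type*} [Group G] [Finite G] {p : ℕ} [Fact p.Prime] (S : Sylow p G) (Q : Subgroup G) (hQp : IsPGroup p ↥Q) (hQ1 : Q ≠ ⊥) (hQS : Q ≤ (S : Subgroup G)) (hQ : Cfsg.IsLarge Q) (M : Subgroup G) (hSM : (S : Subgroup G) ≤ M) (hM : Cfsg.IsInFrakM p M) (htall : Cfsg.IsCharPTall p (Cfsg.largestPReducedOf p M)) (hasym : ¬ Cfsg.IsSymmetricIn (Cfsg.largestPReducedOf p M)) (H : Subgroup G) (hH : Cfsg.IsInFrakH p M H) (L : Subgroup G) (hLH : L ≤ H) (hYL : (Cfsg.largestPReducedOf p M) ≤ L) (hYO : ¬ (Cfsg.largestPReducedOf p M) ≤ (Cfsg.pCoreOf p L)) (hmin : ∀ L' : Subgroup G, L' ≤ L → (Cfsg.largestPReducedOf p M) ≤ L' → ¬ (Cfsg.largestPReducedOf p M) ≤ (Cfsg.pCoreOf p L') → L' = L) : (L ⊔ (Cfsg.pCoreOf p M) = H ∧ ∀ h ∈ L, h ∉ Subgroup.normalizer (((Cfsg.largestPReducedOf p M) : Subgroup G) : Set G) → (((Cfsg.largestPReducedOf p M) : Subgroup G).map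 (MulAut.conj (h : G)).toMonoidHom) ⊔ (Cfsg.pCoreOf p M) = H) ∧ (Cfsg.IsMinimalOver (((Cfsg.largestPReducedOf p M)).subgroupOf L) ∧ Subgroup.centralizer (Cfsg.pCore p ↥L : Set ↥L) ≤ Cfsg.pCore p ↥L ∧ L ⊓ Subgroup.normalizer (((Cfsg.largestPReducedOf p M) : Subgroup G) : Set G) < L ∧ ∀ X : Subgroup G, (Cfsg.largestPReducedOf p M) ≤ X → X < L → X ≤ L ⊓ Subgroup.normalizer (((Cfsg.largestPReducedOf p M) : Subgroup G) : Set G)) ∧ (∀ V W' : Subgroup G, V ≤ (Cfsg.pCoreOf p H) → H ≤ Subgroup.normalizer ((V : Subgroup G) : Set G) → H ≤ Subgroup.normalizer ((W' : Subgroup G) : Set G) → W' < V → (∀ Z' : Subgroup G, H ≤ Subgroup.normalizer ((Z' : Subgroup G) : Set G) → W' ≤ Z' → Z' ≤ V → Z' = W' ∨ Z' = V) → ¬ ⁅V, H⁆ ≤ W' → ¬ ⁅V, ((Cfsg.pResidual p ↥L).map (L).subtype)⁆ ≤ W') ∧ (Subgroup.normalClosure (((((Cfsg.pCoreOf p L) ⊓ (Cfsg.largestPReducedOf p M)).subgroupOf L : Subgroup ↥L)) : Set ↥L)).map L.subtype ≤ (Cfsg.pCoreOf p H) := by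
  classical
  have hG := (Cfsg.Agent.S2845.result Q hQp hQ1 hQ).2.2
  have hwc := CfsgLib.Amalgam.weaklyClosed_core hG S hSM hM hasym
  set Y := Cfsg.largestPReducedOf p M with hYdef
  set O := Cfsg.pCoreOf p M with hOdef
  obtain ⟨hY, -⟩ := CfsgLib.Amalgam.pRedIn_largest (p := p) M
  have hYp : IsPGroup p Y := CfsgLib.PLocal.elemAb_isPGroup hY.2.2.1
  have hYO' : Y ≤ O := hY.le_pCoreOf
  have hNON : normalizer (O : Set G) ≤ normalizer (Y : Set G) :=
    CfsgLib.Amalgam.normalizer_pCoreOf_le_normalizer_largest S hSM hM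
  have hLK := CfsgLib.Amalgam.le_normalizer_pCoreOf (p := p) L
  -- proper subgroups over `Y`
  have hX : ∀ X : Subgroup G, Y ≤ X → X < L → Y ≤ Cfsg.pCoreOf p X := fun X hYX hXL =>
    not_not.1 fun h => hXL.ne (hmin X hXL.le hYX h)
  -- `L` is generated by the conjugates of `Y`
  have hncl : normalClosure ((Y.subgroupOf L : Subgroup L) : Set L) = ⊤ := by
    set N := normalClosure ((Y.subgroupOf L : Subgroup L) : Set L)
    have hYN : Y ≤ N.map L.subtype := fun y hy => ⟨⟨y, hYL hy⟩, le_normalClosure hy, rfl⟩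
    have hn : L ≤ normalizer ((N.map L.subtype : Subgroup G) : Set G) := by
      intro h hh
      refine CfsgLib.Amalgam.AsymL.mem_normalizer_of_conj' ?_
      rintro _ ⟨x, hx, rfl⟩
      exact ⟨⟨h, hh⟩ * x * ⟨h, hh⟩⁻¹, normalClosure_normal.conj_mem x hx _, rfl⟩
    by_contra hne
    have hlt : N.map L.subtype < L := lt_of_le_of_ne (map_subtype_le _) fun h => hne (by
      refine Subgroup.map_injective L.subtype_injective ?_
      rw [h, ← MonoidHom.range_eq_map, range_subtype])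
    exact hYO ((hX _ hYN hlt).trans (CfsgLib.Amalgam.pCoreOf_le_of_normal (map_subtype_le _) hn))
  -- a generating conjugate
  have hconjL : ∀ g ∈ L, L.map (MulAut.conj g).toMonoidHom = L := fun g hg =>
    CfsgLib.Coprime.map_conj_of_mem_normalizer (le_normalizer hg)
  have hYgL : ∀ g ∈ L, Y.map (MulAut.conj g).toMonoidHom ≤ L := fun g hg =>
    (map_mono hYL).trans (hconjL g hg).le
  have hflip : ∀ g ∈ L, Y ⊔ Y.map (MulAut.conj g).toMonoidHom = L →
      Y ⊔ Y.map (MulAut.conj g⁻¹).toMonoidHom = L := by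
    intro g hg h
    have := congrArg (Subgroup.map (MulAut.conj g⁻¹).toMonoidHom) h
    rw [Subgroup.map_sup, CfsgLib.Coprime.map_conj_conj, inv_mul_cancel, CfsgLib.Amalgam.map_conj_one',
      hconjL _ (inv_mem hg), sup_comm] at this
    exact this
  obtain ⟨l, hl, hlgen⟩ : ∃ l ∈ L, Y ⊔ Y.map (MulAut.conj l).toMonoidHom = L := by
    by_contra hcon
    push Not at hcon
    have hpg : ∀ g ∈ L, IsPGroup p (Y ⊔ Y.map (MulAut.conj g).toMonoidHom : Subgroup G) := by
      intro g hg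
      set T' := Y ⊔ Y.map (MulAut.conj g).toMonoidHom
      have h1 : Y ≤ Cfsg.pCoreOf p T' :=
        hX _ le_sup_left (lt_of_le_of_ne (sup_le hYL (hYgL g hg)) (hcon g hg))
      have h2 := hX _ (le_sup_left : Y ≤ Y ⊔ Y.map (MulAut.conj g⁻¹).toMonoidHom)
        (lt_of_le_of_ne (sup_le hYL (hYgL _ (inv_mem hg))) (hcon _ (inv_mem hg)))
      have h3 := map_mono (f := (MulAut.conj g).toMonoidHom) h2
      rw [← CfsgLib.Amalgam.pCoreOf_map _ (MulAut.conj g).injective, Subgroup.map_sup,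
        CfsgLib.Coprime.map_conj_conj, mul_inv_cancel, CfsgLib.Amalgam.map_conj_one', sup_comm] at h3
      exact (CfsgLib.Amalgam.isPGroup_pCoreOf T').to_le (sup_le h1 h3)
    obtain ⟨N, hNn, hNp, hYN⟩ := CfsgLib.Invol.baer_suzuki (p := p) (Y.subgroupOf L) (fun g => by
      refine ((hpg g g.2).comap_of_injective L.subtype L.subtype_injective).to_le ?_
      refine sup_le (comap_mono le_sup_left) ?_
      rintro _ ⟨y, hy, rfl⟩
      exact mem_comap.2 (mem_sup_right ⟨(y : G), mem_subgroupOf.1 hy, rfl⟩))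
    exact hYO fun y hy => ⟨⟨y, hYL hy⟩, CfsgLib.Amalgam.le_pCore hNn hNp (hYN (mem_subgroupOf.2 hy)), rfl⟩
  -- `H = ⟨L, O⟩`
  have hLO : L ⊔ O = H := by
    refine le_antisymm (sup_le hLH hH.2.1) (not_lt_iff_le_imp_ge.1 (fun hlt => hYO ?_) (sup_le hLH hH.2.1))
    refine (le_inf hYL (hH.2.2.2 _ le_sup_right hlt)).trans (CfsgLib.Amalgam.le_pCoreOf inf_le_left ?_
      ((CfsgLib.Amalgam.isPGroup_pCoreOf _).to_le inf_le_right))
    exact (le_inf le_normalizer (le_sup_left.trans (CfsgLib.Amalgam.le_normalizer_pCoreOf _))).trans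
      inf_normalizer_le_normalizer_inf
  have hgenH : ∀ g ∈ L, Y ⊔ Y.map (MulAut.conj g).toMonoidHom = L →
      Y.map (MulAut.conj g).toMonoidHom ⊔ O = H := fun g hg h =>
    le_antisymm (sup_le ((hYgL g hg).trans hLH) hH.2.1) (hLO.ge.trans (sup_le
      (h.ge.trans (sup_le (hYO'.trans le_sup_right) le_sup_left)) le_sup_right))
  have d : CfsgLib.Amalgam.AsymL.Glob p H Y O l :=
    ⟨CfsgLib.Amalgam.charPElements_iff.2 hH.1, CfsgLib.Amalgam.isPGroup_pCoreOf M, hH.2.1, hYO',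
      hY.pCoreOf_le_centralizer, (CfsgLib.Amalgam.pCoreOf_frakH_le_normalizer hwc hH).trans hNON,
      hlgen.ge hl, hgenH l hl hlgen, hgenH _ (inv_mem hl) (hflip l hl hlgen)⟩
  -- commuting conjugates coincide
  have hkey : ∀ g ∈ L, Y ≤ normalizer ((Y.map (MulAut.conj g).toMonoidHom : Subgroup G) : Set G) →
      Y.map (MulAut.conj g).toMonoidHom ≤ normalizer (Y : Set G) → g ∈ normalizer (Y : Set G) := by
    intro g hg h1 h2
    have hc : ⁅Y, Y.map (MulAut.conj g).toMonoidHom⁆ = ⊥ := by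
      by_contra hne
      exact hasym ⟨g, hne, le_inf (CfsgLib.Comp.commutator_le_of_le_normalizer h2)
        (by rw [Subgroup.commutator_comm]; exact CfsgLib.Comp.commutator_le_of_le_normalizer h1)⟩
    have hp := d.isPGroup_sup_conj (hlgen.ge hg) (commutator_eq_bot_iff_le_centralizer.1 hc)
    exact hNON (CfsgLib.PLocal.mem_normalizer_map_conj.2
      (CfsgLib.Amalgam.eq_conj_of_le_of_isPGroup hwc hp le_sup_left le_sup_right))
  have hsym : ∀ {R : Subgroup G}, R ≤ normalizer (Y : Set G) → ∀ g : G,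
      g ∈ normalizer (R : Set G) → Y ≤ R →
      Y ≤ normalizer ((Y.map (MulAut.conj g).toMonoidHom : Subgroup G) : Set G) ∧
        Y.map (MulAut.conj g).toMonoidHom ≤ normalizer (Y : Set G) := by
    intro R hR g hg hYR
    have e := CfsgLib.Coprime.map_conj_of_mem_normalizer hg
    refine ⟨hYR.trans ?_, ((map_mono hYR).trans e.le).trans hR⟩
    have := map_mono (f := (MulAut.conj g).toMonoidHom) hR
    rwa [Subgroup.map_normalizer_eq_of_bijective _ (MulAut.conj g).bijective, e] at this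
  -- `N_L(Y)` is the unique maximal subgroup over `Y`
  have hmax : ∀ X : Subgroup G, Y ≤ X → X < L → X ≤ L ⊓ normalizer (Y : Set G) := by
    intro X hYX hXL
    set R := Cfsg.pCoreOf p X
    have hYR : Y ≤ R := hX X hYX hXL
    have hRL : R ≤ L := (CfsgLib.Amalgam.pCoreOf_le X).trans hXL.le
    have hRN : R ≤ normalizer (Y : Set G) := by
      by_contra hn
      have hRp : IsPGroup p R := CfsgLib.Amalgam.isPGroup_pCoreOf X
      haveI : Group.IsNilpotent R := hRp.isNilpotent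
      set R0 := R ⊓ normalizer (Y : Set G)
      have hlt : R0.subgroupOf R < ⊤ := lt_top_iff_ne_top.2 fun h =>
        hn fun r hr => (mem_inf.1 (mem_subgroupOf.1 (h.ge (mem_top (⟨r, hr⟩ : R))))).2
      obtain ⟨w, hw, hwn⟩ := SetLike.exists_of_lt (normalizerCondition_of_isNilpotent _ hlt)
      refine hwn (mem_subgroupOf.2 (mem_inf.2 ⟨w.2, ?_⟩))
      have hw' : (w : G) ∈ normalizer (R0 : Set G) := by
        refine CfsgLib.Amalgam.AsymL.mem_normalizer_of_conj' fun y hy => ?_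
        exact mem_subgroupOf.1
          ((mem_normalizer_iff.1 hw (⟨y, (mem_inf.1 hy).1⟩ : R)).1 (mem_subgroupOf.2 hy))
      obtain ⟨h1, h2⟩ := hsym inf_le_right (w : G) hw' (le_inf hYR le_normalizer)
      exact hkey _ (hRL w.2) h1 h2
    refine le_inf hXL.le fun x hx => ?_
    obtain ⟨h1, h2⟩ := hsym hRN x (CfsgLib.Amalgam.le_normalizer_pCoreOf X hx) hYR
    exact hkey x (hXL.le hx) h1 h2
  have hNlt : L ⊓ normalizer (Y : Set G) < L := lt_of_le_of_ne inf_le_left fun h =>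
    hYO (CfsgLib.Amalgam.le_pCoreOf hYL (h.ge.trans inf_le_right) hYp)
  -- `Y ∩ O_p(L)` is in `O_p(H)`
  set K := Cfsg.pCoreOf p L
  have hKp : IsPGroup p K := CfsgLib.Amalgam.isPGroup_pCoreOf L
  have hKY : K ≤ normalizer (Y : Set G) := by
    refine le_trans ?_ ((hmax (K ⊔ Y) le_sup_right (lt_of_le_of_ne
      (sup_le (CfsgLib.Amalgam.pCoreOf_le L) hYL) fun h => hYO ?_)).trans inf_le_right)
    · exact le_sup_left
    · exact hYL.trans (CfsgLib.Amalgam.le_pCoreOf le_rfl le_normalizer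
        (h ▸ hKp.to_sup_of_normal_left' hYp (hYL.trans hLK)))
  have hA := d.le_pCoreOf_of_commutator_le (inf_le_right : K ⊓ Y ≤ Y) (by
    refine (commutator_mono le_rfl ((map_mono inf_le_left).trans
      (CfsgLib.Coprime.map_conj_of_mem_normalizer (hLK hl)).le)).trans (le_inf ?_ ?_)
    · rw [Subgroup.commutator_comm]
      exact CfsgLib.Comp.commutator_le_of_le_normalizer (hYL.trans hLK)
    · exact CfsgLib.Comp.commutator_le_of_le_normalizer hKY)
  refine ⟨⟨hLO, fun h hh hhN => hgenH h hh ?_⟩, ⟨⟨hncl, ?_⟩, ?_, hNlt, hmax⟩, ?_, ?_⟩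
  · by_contra hne
    have h1 := (hmax _ le_sup_left (lt_of_le_of_ne (sup_le hYL (hYgL h hh)) hne)).trans inf_le_right
    have hne' : Y ⊔ Y.map (MulAut.conj h⁻¹).toMonoidHom ≠ L := fun he => hne (by
      simpa using hflip _ (inv_mem hh) he)
    have h2 := (hmax _ le_sup_left (lt_of_le_of_ne (sup_le hYL (hYgL _ (inv_mem hh))) hne')).trans inf_le_right
    refine hhN (hkey h hh ?_ (le_sup_right.trans h1))
    have := map_mono (f := (MulAut.conj h).toMonoidHom) (le_sup_right.trans h2)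
    rwa [Subgroup.map_normalizer_eq_of_bijective _ (MulAut.conj h).bijective, CfsgLib.Coprime.map_conj_conj,
      mul_inv_cancel, CfsgLib.Amalgam.map_conj_one'] at this
  · have hup : ∀ B : Subgroup L, B ≠ ⊤ → Y.subgroupOf L ≤ B →
        B ≤ (L ⊓ normalizer (Y : Set G)).subgroupOf L := by
      intro B hB hYB x hx
      refine mem_subgroupOf.2 (hmax (B.map L.subtype) ?_ ?_ ⟨x, hx, rfl⟩)
      · exact fun y hy => ⟨⟨y, hYL hy⟩, hYB (mem_subgroupOf.2 hy), rfl⟩
      · refine lt_of_le_of_ne (map_subtype_le _) fun h => hB (Subgroup.map_injective L.subtype_injective ?_)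
        rw [h, ← MonoidHom.range_eq_map, range_subtype]
    have hne : (L ⊓ normalizer (Y : Set G)).subgroupOf L ≠ ⊤ := fun h =>
      hNlt.ne (le_antisymm inf_le_left (subgroupOf_eq_top.1 h))
    have hYle : Y.subgroupOf L ≤ (L ⊓ normalizer (Y : Set G)).subgroupOf L :=
      comap_mono (le_inf hYL le_normalizer)
    refine ⟨_, ⟨⟨hne, fun B hB => ?_⟩, hYle⟩, ?_⟩
    · by_contra hBt
      exact not_le_of_gt hB (hup B hBt (hYle.trans hB.le))
    · rintro B ⟨hB, hYB⟩
      by_contra hne'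
      exact hne (hB.2 _ (lt_of_le_of_ne (hup B hB.1 hYB) hne'))
  · refine CfsgLib.Amalgam.charPElements_iff.1 ?_
    rw [← hlgen]
    exact d.charP_L
  · intro V W' h1 h2 h3 h4 h5 h6 hres
    obtain ⟨x, hx, hxp, v, hv, hvx⟩ := d.exists_moving (V := V) (W := W') ⟨h1, h2, h3, h4, h5, h6⟩
    refine hvx ?_
    rw [← commutatorElement_inv]
    exact inv_mem (hres (commutator_mem_commutator hv
      (CfsgLib.Amalgam.mem_pResidual_map (hlgen.le hx) hxp)))
  · haveI : ((Cfsg.pCoreOf p H).subgroupOf L).Normal :=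
      normal_subgroupOf_of_le_normalizer (hLH.trans (CfsgLib.Amalgam.le_normalizer_pCoreOf H))
    rw [map_le_iff_le_comap]
    show _ ≤ (Cfsg.pCoreOf p H).subgroupOf L
    exact normalClosure_le_normal fun a ha => hA (mem_subgroupOf.1 ha)

end Cfsg.Agent.S2862
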