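import Cfsg.Statements.S2864
import Cfsg.Agent.Lib.Amalgam.FrakM
import Cfsg.Agent.Lib.PLocal.Section
import Cfsg.Agent.Lib.Comp.Subnormal
import Cfsg.Agent.Lib.Solvable.Frattini2
import Cfsg.Agent.S2845

set_option autoImplicit false
open Cfsg

namespace Cfsg.Agent.S2864

open scoped commutatorElement in
/-- Standing hypotheses: G a finite group, S a Sylow p-subgroup, Q a nontrivial large p-subgroup of G contained in S, M a subgroup containing S with the basic property (M ∈ 𝔐_G(S)); Y_M the largest p-reduced normal subgroup of M and M† = M·C_G(Y_M). Let I be a nontrivial normal p-subgroup of M and Y ≤ O_p(M†); let L be a subgroup of G containing Y and A a normal p-subgroup of L with I ≤ A ≤ M. If [Y, A] ≤ [I, A], then Y ≤ O_p(L). -/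
theorem result {G : Type*} [Group G] [Finite G] {p : ℕ} [Fact p.Prime] (S : Sylow p G) (Q : Subgroup G) (hQp : IsPGroup p ↥Q) (hQ1 : Q ≠ ⊥) (hQS : Q ≤ (S : Subgroup G)) (hQ : Cfsg.IsLarge Q) (M : Subgroup G) (hSM : (S : Subgroup G) ≤ M) (hM : Cfsg.IsInFrakM p M) (I : Subgroup G) (hI1 : I ≠ ⊥) (hIp : IsPGroup p ↥I) (hIM : I ≤ M ∧ M ≤ Subgroup.normalizer ((I : Subgroup G) : Set G)) (Y : Subgroup G) (hY : Y ≤ (Cfsg.pCoreOf p (M ⊔ Subgroup.centralizer (((Cfsg.largestPReducedOf p M) : Subgroup G) : Set G)))) (L : Subgroup G) (hYL : Y ≤ L) (A : Subgroup G) (hAp : IsPGroup p ↥A) (hAL : A ≤ L ∧ L ≤ Subgroup.normalizer ((A : Subgroup G) : Set G)) (hIA : I ≤ A) (hAM : A ≤ M) (hc : ⁅Y, A⁆ ≤ ⁅I, A⁆) : Y ≤ (Cfsg.pCoreOf p L) := by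
  have hpar := (Cfsg.Agent.S2845.result Q hQp hQ1 hQ).2.2
  set Md := M ⊔ Subgroup.centralizer ((Cfsg.largestPReducedOf p M : Subgroup G) : Set G)
  have hCMd : Subgroup.centralizer (A : Set G) ≤ Md := (Subgroup.centralizer_le hIA).trans
    ((Subgroup.centralizer_le_normalizer _).trans (CfsgLib.Amalgam.normalizer_le_dagger S hpar hSM hM hIp hI1 hIM.2))
  set A' := A.subgroupOf L
  have hA'n : A'.Normal := Subgroup.normal_subgroupOf_of_le_normalizer hAL.2
  set N := ⁅A', A'⁆
  have hN : N.map L.subtype = ⁅A, A⁆ := by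
    rw [Subgroup.map_commutator, Subgroup.subgroupOf_map_subtype, inf_eq_left.2 hAL.1]
  set D := Cfsg.sectionKernel A' N
  have hDn : D.Normal := by
    have : (A'.map (QuotientGroup.mk' N)).Normal := hA'n.map _ (QuotientGroup.mk'_surjective N)
    simp only [D, Cfsg.sectionKernel]
    exact Subgroup.Normal.comap inferInstance _
  set C := Subgroup.centralizer (A' : Set L)
  have hCd : ∀ c ∈ C, (c : G) ∈ Md := fun c hc => hCMd fun a ha =>
    congrArg Subtype.val (hc ⟨a, hAL.1 ha⟩ ha)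
  have hCD : C ≤ D := fun c hc => CfsgLib.PLocal.mem_sectionKernel.2 fun k hk => by
    rw [show k⁻¹ * c⁻¹ * k * c = k⁻¹ * c⁻¹ * (k * c) by group, hc k hk]
    simp
  set X := (Cfsg.pCoreOf p Md).subgroupOf L ⊓ D
  have hXp : IsPGroup p X := ((CfsgLib.Amalgam.isPGroup_pCoreOf Md).comap_of_injective _ L.subtype_injective).to_le inf_le_left
  have hCX : C ≤ Subgroup.normalizer (X : Set L) := by
    refine (le_inf ?_ (CfsgLib.Comp.le_normalizer_of_normal' D C)).trans Subgroup.inf_normalizer_le_normalizer_inf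
    intro c hc
    exact Subgroup.mem_normalizer_iff.2 fun z =>
      Subgroup.mem_normalizer_iff.1 (CfsgLib.Amalgam.le_normalizer_pCoreOf Md (hCd c hc)) z
  have hYX : Y.subgroupOf L ≤ X := by
    intro y hy
    refine Subgroup.mem_inf.2 ⟨hY hy, CfsgLib.PLocal.mem_sectionKernel.2 fun k hk => ?_⟩
    have h1 : (k : G)⁻¹ * (y : G)⁻¹ * k * y ∈ ⁅A, A⁆ := by
      refine (hc.trans (Subgroup.commutator_mono hIA le_rfl)) ?_
      rw [Subgroup.commutator_comm]
      have := Subgroup.commutator_mem_commutator (inv_mem hk : (k : G)⁻¹ ∈ A) (inv_mem hy : (y : G)⁻¹ ∈ Y)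
      simpa [commutatorElement_def, mul_assoc] using this
    rw [← hN] at h1
    obtain ⟨z, hz, hze⟩ := h1
    have e : k⁻¹ * y⁻¹ * k * y = z := L.subtype_injective (by rw [hze]; simp)
    rwa [e]
  -- `D / C` is a `p`-group
  have hq : IsPGroup p (D ⧸ C.subgroupOf D) := by
    refine CfsgLib.Transfer.isPGroup_quotient_of_coprime_mem fun x hxp => ?_
    have hA'p : IsPGroup p A' := hAp.comap_of_injective _ L.subtype_injective
    refine CfsgLib.PLocal.centralizes_of_trivial_on_frattini_quotient hA'p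
      (CfsgLib.Comp.le_normalizer_of_normal' A' ⊤ (Subgroup.mem_top (x : L)))
      (by rwa [Subgroup.coe_subtype, Subgroup.orderOf_coe]) fun k hk => ?_
    have h1 := CfsgLib.PLocal.mem_sectionKernel.1 x.2 k hk
    have h2 : N ≤ (frattini A').map A'.subtype := by
      have := hA'p.isNilpotent
      refine le_trans ?_ (Subgroup.map_mono CfsgLib.Solvable.commutator_le_frattini)
      rw [Subgroup.map_subtype_commutator]
    exact h2 h1
  set E := X ⊔ C
  have hXE : X ≤ E := le_sup_left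
  have hED : E ≤ D := sup_le inf_le_right hCD
  have hEs : (E.subgroupOf D).IsSubnormal := by
    have := hq.isNilpotent
    have h1 := (CfsgLib.Solvable.isSubnormal_of_isNilpotent
      ((E.subgroupOf D).map (QuotientGroup.mk' (C.subgroupOf D)))).comap (QuotientGroup.mk' (C.subgroupOf D))
    rwa [Subgroup.comap_map_eq, QuotientGroup.ker_mk',
      sup_eq_left.2 (show C.subgroupOf D ≤ E.subgroupOf D from Subgroup.comap_mono le_sup_right)] at h1
  have hEL : E.IsSubnormal := Subgroup.IsSubnormal.trans hED hEs hDn.isSubnormal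
  have hXs : X.IsSubnormal := Subgroup.IsSubnormal.trans hXE
    (Subgroup.normal_subgroupOf_of_le_normalizer (sup_le Subgroup.le_normalizer hCX)).isSubnormal hEL
  intro y hy
  exact ⟨⟨y, hYL hy⟩, CfsgLib.Comp.le_pCore_of_isSubnormal hXs hXp (hYX hy), rfl⟩

end Cfsg.Agent.S2864
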