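import Cfsg.Statements.S2872
import Cfsg.Agent.Lib.Amalgam.CentralTransfer

set_option autoImplicit false
open Cfsg

namespace Cfsg.Agent.S2872

/-- Let S be a Sylow 2-subgroup of the finite group G. Then G has a proper normal subgroup of 2-power index (O²(G) ≠ G), or Ω₁(Z(S)) is contained in the Frattini subgroup of S, or N_G(S) acts nontrivially on Ω₁(Z(S)) by conjugation. -/
theorem result {G : Type*} [Group G] [Finite G] (S : Sylow 2 G) : Cfsg.pResidual 2 G ≠ ⊤ ∨ Cfsg.omegaOne 2 ((S : Subgroup G) ⊓ Subgroup.centralizer ((S : Subgroup G) : Set G)) ≤ (frattini ↥(S : Subgroup G)).map (S : Subgroup G).subtype ∨ ∃ g ∈ Subgroup.normalizer ((S : Subgroup G) : Set G), ∃ z ∈ Cfsg.omegaOne 2 ((S : Subgroup G) ⊓ Subgroup.centralizer ((S : Subgroup G) : Set G)), g * z * g⁻¹ ≠ z := by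
  by_cases hΦ : Cfsg.omegaOne 2 ((S : Subgroup G) ⊓ Subgroup.centralizer ((S : Subgroup G) : Set G)) ≤ (frattini ↥(S : Subgroup G)).map (S : Subgroup G).subtype
  · exact Or.inr (Or.inl hΦ)
  by_cases hN : ∃ g ∈ Subgroup.normalizer ((S : Subgroup G) : Set G), ∃ z ∈ Cfsg.omegaOne 2 ((S : Subgroup G) ⊓ Subgroup.centralizer ((S : Subgroup G) : Set G)), g * z * g⁻¹ ≠ z
  · exact Or.inr (Or.inr hN)
  left
  push Not at hN
  obtain ⟨z, ⟨hz, hz2⟩, hzΦ⟩ : ∃ z, (z ∈ (S : Subgroup G) ⊓ Subgroup.centralizer ((S : Subgroup G) : Set G) ∧ z ^ 2 = 1) ∧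
      z ∉ (frattini ↥(S : Subgroup G)).map (S : Subgroup G).subtype := by
    by_contra h
    push Not at h
    exact hΦ ((Subgroup.closure_le _).2 fun z hz => h z hz)
  obtain ⟨M, hM, hzM⟩ : ∃ M : Subgroup (S : Subgroup G), IsCoatom M ∧ (⟨z, hz.1⟩ : (S : Subgroup G)) ∉ M := by
    by_contra h
    push Not at h
    refine hzΦ ⟨⟨z, hz.1⟩, ?_, rfl⟩
    rw [SetLike.mem_coe, frattini, Order.radical]
    simp only [Subgroup.mem_iInf]
    exact fun M hM => h M hM
  haveI : Fact (Nat.Prime 2) := ⟨Nat.prime_two⟩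
  obtain ⟨hMn, hMi⟩ := CfsgLib.Transfer.coatom_index_eq_prime S.2 hM
  obtain ⟨N, hNn, hNi, hzN⟩ := CfsgLib.Amalgam.exists_index_two_not_mem_of_central S hMi hz.1 hz2
    (fun s hs => Subgroup.mem_centralizer_iff.1 hz.2 s hs) hzM
    (fun g hg => hN g hg z (Subgroup.subset_closure ⟨hz, hz2⟩))
  intro htop
  have h1 : Cfsg.pResidual 2 G ≤ N :=
    CfsgLib.Transfer.pResidual_le_of_isPGroup_quotient (IsPGroup.of_card (n := 1) (by rw [← Subgroup.index_eq_card, hNi, pow_one]))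
  exact hzN (h1 (htop ▸ Subgroup.mem_top z))

end Cfsg.Agent.S2872
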