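import Cfsg.Statements.S2873
import Cfsg.Agent.Lib.PLocal.Sylow
import Cfsg.Agent.Lib.Solvable.PCore
import Cfsg.Agent.Lib.Comp.Normalize
import Mathlib.GroupTheory.SpecificGroups.Dihedral
import Mathlib.Tactic

set_option autoImplicit false
open Cfsg

namespace Cfsg.Agent.S2873

open Subgroup

theorem dihedral_involution {r : ℕ} [Fact r.Prime] (hr : r ≠ 2) {x : DihedralGroup r} (hx : x * x = 1)
    (hx1 : x ≠ 1) : ∃ i, x = DihedralGroup.sr i := by
  rcases x with i | i
  · exfalso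
    haveI : Fact (2 < r) := ⟨lt_of_le_of_ne (Fact.out : r.Prime).two_le (Ne.symm hr)⟩
    rw [DihedralGroup.r_mul_r, DihedralGroup.one_def, DihedralGroup.r.injEq] at hx
    have h2 : (2 : ZMod r) * i = 0 := by rw [two_mul]; exact hx
    rcases mul_eq_zero.1 h2 with h | h
    · have h3 : ((2 : ℕ) : ZMod r) = 0 := by exact_mod_cast h
      rw [ZMod.natCast_eq_zero_iff] at h3
      exact absurd (Nat.le_of_dvd two_pos h3) (not_le.2 Fact.out)
    · exact hx1 (by rw [h, ← DihedralGroup.one_def])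
  · exact ⟨i, rfl⟩

theorem dihedral_reflection_conj {r : ℕ} [Fact r.Prime] (hr : r ≠ 2) (i j : ZMod r) :
    ∃ d : DihedralGroup r, d * DihedralGroup.sr i * d⁻¹ = DihedralGroup.sr j := by
  have h2 : (2 : ZMod r) ≠ 0 := fun h => by
    have h3 : ((2 : ℕ) : ZMod r) = 0 := by exact_mod_cast h
    rw [ZMod.natCast_eq_zero_iff] at h3
    exact hr ((Nat.prime_dvd_prime_iff_eq Fact.out Nat.prime_two).1 h3)
  refine ⟨DihedralGroup.r ((i - j) / 2), ?_⟩
  rw [DihedralGroup.r_mul_sr, DihedralGroup.inv_r, DihedralGroup.sr_mul_r]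
  congr 1
  field_simp
  ring

/-- Let G be a finite group and r an odd prime such that G ⧸ O₂(G) is dihedral of order 2r, and let R be a Sylow r-subgroup of G with C_{O₂(G)}(R) = 1. Then N_G(R) is dihedral of order 2r; for any involution a of N_G(R), every involution of G outside O₂(G) is conjugate to a; and |C_{O₂(G)}(a)|² = |O₂(G)|. -/
theorem result {G : Type*} [Group G] [Finite G] {r : ℕ} [Fact r.Prime] (hr : r ≠ 2) [hN : (Cfsg.pCore 2 G).Normal] (hquot : Nonempty (G ⧸ Cfsg.pCore 2 G ≃* DihedralGroup r)) (R : Sylow r G) (hC : Cfsg.pCore 2 G ⊓ Subgroup.centralizer ((R : Subgroup G) : Set G) = ⊥) : Nonempty (↥(Subgroup.normalizer ((R : Subgroup G) : Set G)) ≃* DihedralGroup r) ∧ ∀ a : G, a ∈ Subgroup.normalizer ((R : Subgroup G) : Set G) → orderOf a = 2 → (∀ b : G, orderOf b = 2 → b ∉ Cfsg.pCore 2 G → ∃ g : G, g * a * g⁻¹ = b) ∧ Nat.card ↥(Cfsg.pCore 2 G ⊓ Subgroup.centralizer ({a} : Set G)) ^ 2 = Nat.card ↥(Cfsg.pCore 2 G) := by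
  set Q := Cfsg.pCore 2 G with hQdef
  set N := Subgroup.normalizer ((R : Subgroup G) : Set G) with hNdef
  obtain ⟨φ⟩ := hquot
  let f : G →* DihedralGroup r := φ.toMonoidHom.comp (QuotientGroup.mk' Q)
  have hf : Function.Surjective f := φ.surjective.comp (QuotientGroup.mk'_surjective Q)
  have hker : ∀ x, f x = 1 ↔ x ∈ Q := fun x => by
    show φ (x : G ⧸ Q) = 1 ↔ _
    rw [map_eq_one_iff φ φ.injective, QuotientGroup.eq_one_iff]
  have hr0 : NeZero r := ⟨(Fact.out : r.Prime).ne_zero⟩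
  have hQ2 : IsPGroup 2 Q := CfsgLib.Solvable.pCore_isPGroup 2
  have hcop : (Nat.card Q).Coprime r := by
    obtain ⟨k, hk⟩ := hQ2.exists_card_eq
    rw [hk]; exact ((Nat.coprime_primes Nat.prime_two Fact.out).2 (Ne.symm hr)).pow_left k
  have hRQ : ∀ x, x ∈ (R : Subgroup G) → x ∈ Q → x = 1 := fun x hx hxQ => by
    obtain ⟨k, hk⟩ := R.isPGroup'.exists_card_eq
    exact orderOf_eq_one_iff.1 (Nat.eq_one_of_dvd_coprimes (hcop.pow_right k)
      (Subgroup.orderOf_dvd_natCard _ hxQ) (hk ▸ Subgroup.orderOf_dvd_natCard _ hx))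
  have hNQ : ∀ x, x ∈ N → x ∈ Q → x = 1 := by
    intro x hx hxQ
    have : x ∈ Q ⊓ Subgroup.centralizer ((R : Subgroup G) : Set G) := by
      refine Subgroup.mem_inf.2 ⟨hxQ, fun y hy => ?_⟩
      have h1 : y * x * y⁻¹ * x⁻¹ ∈ Q := mul_mem (hN.conj_mem x hxQ y) (inv_mem hxQ)
      have h2 : y * x * y⁻¹ * x⁻¹ ∈ (R : Subgroup G) := by
        rw [mul_assoc, mul_assoc, ← mul_assoc x]
        exact mul_mem hy ((Subgroup.mem_normalizer_iff.1 hx _).1 (inv_mem hy))
      have h3 := hRQ _ h2 h1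
      rw [mul_inv_eq_one, mul_inv_eq_iff_eq_mul] at h3
      exact h3
    rwa [hC, Subgroup.mem_bot] at this
  -- `G = QN` by the Frattini argument
  set K := (Subgroup.zpowers (DihedralGroup.r (1 : ZMod r))).comap f with hK
  haveI hKn : K.Normal := by
    refine Subgroup.Normal.comap ?_ f
    refine Subgroup.normal_of_index_eq_two ?_
    have h := Subgroup.card_mul_index (Subgroup.zpowers (DihedralGroup.r (1 : ZMod r)))
    rw [Nat.card_zpowers, DihedralGroup.orderOf_r_one, DihedralGroup.nat_card, mul_comm 2 r] at h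
    exact Nat.eq_of_mul_eq_mul_left (NeZero.pos r) h
  have hRK : (R : Subgroup G) ≤ K := fun x hx => by
    obtain ⟨k, hk⟩ := R.isPGroup'.exists_card_eq
    rw [hK, Subgroup.mem_comap]
    rcases h : f x with i | i
    · exact Subgroup.mem_zpowers_iff.2 ⟨i.val, by rw [DihedralGroup.r_one_zpow]; simp⟩
    · exfalso
      have h1 : orderOf (f x) ∣ r ^ k := (orderOf_map_dvd f x).trans (hk ▸ Subgroup.orderOf_dvd_natCard _ hx)
      rw [h, DihedralGroup.orderOf_sr] at h1
      exact hr ((Nat.prime_dvd_prime_iff_eq Nat.prime_two Fact.out).1 (Nat.prime_two.dvd_of_dvd_pow h1)).symm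
  have hfN : ∀ d : DihedralGroup r, ∃ n ∈ N, f n = d := by
    intro d
    obtain ⟨g, rfl⟩ := hf d
    obtain ⟨c, hc, n, hn, rfl⟩ := CfsgLib.PLocal.frattini_mul R K g
    rw [inf_eq_left.2 hRK] at hn
    have hRne : ∃ x ∈ (R : Subgroup G), f x ≠ 1 := by
      have hd : r ∣ Nat.card G := by
        have h := Subgroup.card_mul_index Q
        rw [Subgroup.index_eq_card, Nat.card_congr φ.toEquiv, DihedralGroup.nat_card] at h
        rw [← h]; exact (dvd_mul_left r 2).mul_left _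
      haveI : Nontrivial (R : Subgroup G) := (Subgroup.nontrivial_iff_ne_bot _).2 (R.ne_bot_of_dvd_card hd)
      obtain ⟨⟨x, hx⟩, hx1⟩ := exists_ne (1 : (R : Subgroup G))
      exact ⟨x, hx, fun e => hx1 (Subtype.ext (hRQ x hx ((hker x).1 e)))⟩
    obtain ⟨x, hx, hx1⟩ := hRne
    have hgen : Subgroup.zpowers (f x) = Subgroup.zpowers (DihedralGroup.r (1 : ZMod r)) := by
      refine Subgroup.eq_of_le_of_card_ge (Subgroup.zpowers_le.2 (hRK hx)) ?_
      rw [Nat.card_zpowers, Nat.card_zpowers, DihedralGroup.orderOf_r_one]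
      obtain ⟨k, hk⟩ := R.isPGroup'.exists_card_eq
      obtain ⟨j, -, hj⟩ := (Nat.dvd_prime_pow (Fact.out : r.Prime)).1
        ((orderOf_map_dvd f x).trans (hk ▸ Subgroup.orderOf_dvd_natCard _ hx))
      rcases j with _ | j
      · exact absurd (orderOf_eq_one_iff.1 (by rw [hj, pow_zero])) hx1
      · rw [hj, pow_succ]; exact Nat.le_mul_of_pos_left _ (pow_pos (NeZero.pos r) j)
    have hc' : f c ∈ Subgroup.zpowers (f x) := by rw [hgen]; exact hc
    obtain ⟨j, hj⟩ := Subgroup.mem_zpowers_iff.1 hc'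
    exact ⟨x ^ j * n, mul_mem (Subgroup.le_normalizer (zpow_mem hx j)) hn, by rw [map_mul, map_zpow, hj, map_mul]⟩
  have hNinj : Function.Injective (f.comp N.subtype) := by
    rw [injective_iff_map_eq_one]
    exact fun x hx => Subtype.ext (hNQ x x.2 ((hker x).1 hx))
  let e : N ≃* DihedralGroup r := MulEquiv.ofBijective (f.comp N.subtype)
    ⟨hNinj, fun d => let ⟨n, hn, h⟩ := hfN d; ⟨⟨n, hn⟩, h⟩⟩
  refine ⟨⟨e⟩, fun a haN hao => ?_⟩
  have haa : a * a = 1 := by rw [← pow_two, ← hao, pow_orderOf_eq_one]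
  have hfa : f a * f a = 1 := by rw [← map_mul, haa, map_one]
  have hfa1 : f a ≠ 1 := fun h => by
    have := hNQ a haN ((hker a).1 h)
    rw [this, orderOf_one] at hao; norm_num at hao
  obtain ⟨i, hi⟩ := dihedral_involution hr hfa hfa1
  obtain ⟨a', ha'N, ha'⟩ := hfN (DihedralGroup.sr (i + 1))
  have ha'a : a' * a' = 1 := hNQ _ (mul_mem ha'N ha'N) ((hker _).1 (by rw [map_mul, ha', DihedralGroup.sr_mul_self]))
  set ρ := a * a' with hρ
  have hρN : ρ ∈ N := mul_mem haN ha'N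
  have hfρ : f ρ = DihedralGroup.r 1 := by rw [hρ, map_mul, hi, ha', DihedralGroup.sr_mul_sr]; congr 1; ring
  have hρo : orderOf ρ = r := by
    have h1 : orderOf (⟨ρ, hρN⟩ : N) = orderOf (e ⟨ρ, hρN⟩) := (MulEquiv.orderOf_eq e _).symm
    rw [Subgroup.orderOf_mk, show e ⟨ρ, hρN⟩ = f ρ from rfl, hfρ, DihedralGroup.orderOf_r_one] at h1
    exact h1
  have hρR : ρ ∈ (R : Subgroup G) := by
    have hz : IsPGroup r (Subgroup.zpowers ρ) := IsPGroup.of_card (n := 1) (by rw [Nat.card_zpowers, hρo, pow_one])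
    exact (R.is_maximal' (R.isPGroup'.to_sup_of_normal_left' hz (Subgroup.zpowers_le.2 hρN)) le_sup_left) ▸
      Subgroup.mem_sup_right (Subgroup.mem_zpowers ρ)
  have hRz : (R : Subgroup G) ≤ Subgroup.zpowers ρ := by
    intro x hx
    have hfx : f x ∈ Subgroup.zpowers (f ρ) := by rw [hfρ]; exact hRK hx
    obtain ⟨j, hj⟩ := Subgroup.mem_zpowers_iff.1 hfx
    have h1 : x = ρ ^ j := by
      have := hNQ (x * (ρ ^ j)⁻¹) (mul_mem (Subgroup.le_normalizer hx) (inv_mem (zpow_mem hρN j)))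
        ((hker _).1 (by rw [map_mul, map_inv, map_zpow, hj, mul_inv_cancel]))
      exact mul_inv_eq_one.1 this
    rw [h1]; exact zpow_mem (Subgroup.mem_zpowers ρ) j
  have hCρ : ∀ q ∈ Q, q * ρ = ρ * q → q = 1 := by
    intro q hq h
    have : q ∈ Q ⊓ Subgroup.centralizer ((R : Subgroup G) : Set G) := by
      refine Subgroup.mem_inf.2 ⟨hq, fun x hx => ?_⟩
      obtain ⟨j, rfl⟩ := Subgroup.mem_zpowers_iff.1 (hRz hx)
      exact ((show Commute q ρ from h).zpow_right j).symm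
    rwa [hC, Subgroup.mem_bot] at this
  haveI := Fintype.ofFinite G
  -- every element of the coset `Qρ` is conjugate to `ρ` by `Q`
  have hcoset : ∀ x, f x = f ρ → ∃ q ∈ Q, q * ρ * q⁻¹ = x := by
    intro x hx
    let T := {x : G // f x = f ρ}
    let c : Q → T := fun q => ⟨(q : G) * ρ * (q : G)⁻¹, by rw [map_mul, map_mul, map_inv, (hker q).2 q.2]; simp⟩
    have hcinj : Function.Injective c := by
      intro q q' h
      have h1 : (q : G) * ρ * (q : G)⁻¹ = (q' : G) * ρ * (q' : G)⁻¹ := congrArg Subtype.val h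
      have h2 := hCρ ((q' : G)⁻¹ * q) (mul_mem (inv_mem q'.2) q.2) (by
        calc (q' : G)⁻¹ * q * ρ = (q' : G)⁻¹ * ((q : G) * ρ * (q : G)⁻¹) * q := by group
          _ = ρ * ((q' : G)⁻¹ * q) := by rw [h1]; group)
      exact Subtype.ext (inv_mul_eq_one.1 h2).symm
    have hcard : Nat.card T = Nat.card Q := Nat.card_congr
      { toFun := fun x => ⟨x.1 * ρ⁻¹, (hker _).1 (by rw [map_mul, map_inv, x.2, mul_inv_cancel])⟩
        invFun := fun q => ⟨q * ρ, by rw [map_mul, (hker q).2 q.2, one_mul]⟩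
        left_inv := fun x => Subtype.ext (by simp)
        right_inv := fun q => Subtype.ext (by simp) }
    obtain ⟨q, hq⟩ := ((Nat.bijective_iff_injective_and_card c).2 ⟨hcinj, hcard.symm⟩).2 ⟨x, hx⟩
    exact ⟨q, q.2, congrArg Subtype.val hq⟩
  -- the involutions of `aQ`
  have hnorm : ∀ q ∈ Q, ∀ b c : G, b * b = 1 → c * c = 1 → b * c = q * ρ * q⁻¹ → f b = f a →
      b = q * a * q⁻¹ := by
    intro q hq b c hb hc hbc hfb
    set d := q⁻¹ * b * q with hd
    have hd2 : d * d = 1 := by rw [hd]; calc q⁻¹ * b * q * (q⁻¹ * b * q) = q⁻¹ * (b * b) * q := by group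
      _ = 1 := by rw [hb]; group
    have hd' : d * ρ * d = ρ⁻¹ := by
      have e1 : ρ = q⁻¹ * (b * c) * q := by rw [hbc]; group
      rw [e1, hd]
      calc q⁻¹ * b * q * (q⁻¹ * (b * c) * q) * (q⁻¹ * b * q) = q⁻¹ * ((b * b) * c * b) * q := by group
        _ = q⁻¹ * (c⁻¹ * b⁻¹) * q := by rw [hb, one_mul, inv_eq_of_mul_eq_one_left hc, inv_eq_of_mul_eq_one_left hb]
        _ = _ := by group
    have hdN : d ∈ N := by
      refine CfsgLib.Comp.map_conj_eq_iff.1 ?_
      refine Subgroup.eq_of_le_of_card_ge ?_ (by rw [Subgroup.card_map_of_injective (f := (MulAut.conj d).toMonoidHom) (MulAut.conj d).injective])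
      rintro _ ⟨x, hx, rfl⟩
      obtain ⟨j, rfl⟩ := Subgroup.mem_zpowers_iff.1 (hRz hx)
      show d * ρ ^ j * d⁻¹ ∈ (R : Subgroup G)
      rw [← conj_zpow, inv_eq_of_mul_eq_one_left hd2, hd']
      exact zpow_mem (inv_mem hρR) j
    have hda : d * a⁻¹ ∈ Q := (hker _).1 (by
      rw [map_mul, map_inv, hd, map_mul, map_mul, map_inv, (hker q).2 hq, hfb]; simp)
    have := hNQ _ (mul_mem hdN (inv_mem haN)) hda
    rw [mul_inv_eq_one] at this
    rw [← this, hd]; group
  refine ⟨?_, ?_⟩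
  · intro b hbo hbQ
    have hbb : b * b = 1 := by rw [← pow_two, ← hbo, pow_orderOf_eq_one]
    obtain ⟨j, hj⟩ := dihedral_involution hr (x := f b) (by rw [← map_mul, hbb, map_one]) (fun h => hbQ ((hker b).1 h))
    obtain ⟨d, hd⟩ := dihedral_reflection_conj hr j i
    obtain ⟨n, hn, rfl⟩ := hfN d
    set b' := n * b * n⁻¹ with hb'
    have hfb' : f b' = f a := by rw [hb', map_mul, map_mul, map_inv, hj, hd, hi]
    have hbb' : b' * b' = 1 := by rw [hb']; calc n * b * n⁻¹ * (n * b * n⁻¹) = n * (b * b) * n⁻¹ := by group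
      _ = 1 := by rw [hbb]; group
    obtain ⟨q, hq, hqe⟩ := hcoset (b' * a') (by rw [map_mul, hfb', ← map_mul])
    have h1 := hnorm q hq b' a' hbb' ha'a hqe.symm hfb'
    refine ⟨n⁻¹ * q, ?_⟩
    rw [hb'] at h1
    calc n⁻¹ * q * a * (n⁻¹ * q)⁻¹ = n⁻¹ * (q * a * q⁻¹) * n := by group
      _ = b := by rw [← h1]; group
  · have hcardA : ∀ c : G, Nat.card {b : G // ∃ q ∈ Q, q * c * q⁻¹ = b} * Nat.card ↥(Q ⊓ Subgroup.centralizer ({c} : Set G)) = Nat.card Q := by
      intro c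
      have h := Subgroup.card_mul_index ((Q ⊓ Subgroup.centralizer ({c} : Set G)).subgroupOf Q)
      rw [Nat.card_congr (Subgroup.subgroupOfEquivOfLe (inf_le_left : Q ⊓ Subgroup.centralizer ({c} : Set G) ≤ Q)).toEquiv] at h
      rw [← h, mul_comm]
      congr 1
      rw [Subgroup.index_eq_card]
      refine (Nat.card_congr (Equiv.ofBijective
        (Quotient.lift (fun q : Q => (⟨(q : G) * c * (q : G)⁻¹, q, q.2, rfl⟩ : {b : G // ∃ q ∈ Q, q * c * q⁻¹ = b})) ?_) ⟨?_, ?_⟩)).symm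
      · intro q q' hqq
        have h1 := Subgroup.mem_centralizer_singleton_iff.1 (Subgroup.mem_inf.1 (Subgroup.mem_subgroupOf.1 (QuotientGroup.leftRel_apply.1 hqq))).2
        refine Subtype.ext ?_
        show (q : G) * c * (q : G)⁻¹ = (q' : G) * c * (q' : G)⁻¹
        have h2 : (q' : G) = (q : G) * ((q⁻¹ * q' : Q) : G) := by simp
        rw [h2, mul_inv_rev]
        calc (q : G) * c * (q : G)⁻¹ = (q : G) * (c * ((q⁻¹ * q' : Q) : G)) * ((q⁻¹ * q' : Q) : G)⁻¹ * (q : G)⁻¹ := by group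
          _ = _ := by rw [← h1]; group
      · intro x y
        induction x using Quotient.inductionOn with | _ q =>
        induction y using Quotient.inductionOn with | _ q' =>
        intro hxy
        have h1 : (q : G) * c * (q : G)⁻¹ = (q' : G) * c * (q' : G)⁻¹ := congrArg Subtype.val hxy
        refine Quotient.sound (QuotientGroup.leftRel_apply.2 ?_)
        refine Subgroup.mem_subgroupOf.2 (Subgroup.mem_inf.2 ⟨(q⁻¹ * q').2, Subgroup.mem_centralizer_singleton_iff.2 ?_⟩)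
        show (q : G)⁻¹ * q' * c = c * ((q : G)⁻¹ * q')
        calc (q : G)⁻¹ * q' * c = (q : G)⁻¹ * ((q' : G) * c * (q' : G)⁻¹) * q' := by group
          _ = _ := by rw [← h1]; group
      · rintro ⟨b, q, hq, rfl⟩
        exact ⟨Quotient.mk'' ⟨q, hq⟩, rfl⟩
    let A := {b : G // ∃ q ∈ Q, q * a * q⁻¹ = b}
    let A' := {b : G // ∃ q ∈ Q, q * a' * q⁻¹ = b}
    have hmem : ∀ (c : G), c * c = 1 → ∀ b : {b : G // ∃ q ∈ Q, q * c * q⁻¹ = b}, (b : G) * b = 1 ∧ f b = f c := by
      rintro c hc ⟨b, q, hq, rfl⟩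
      refine ⟨?_, by rw [map_mul, map_mul, map_inv, (hker q).2 hq]; simp⟩
      calc q * c * q⁻¹ * (q * c * q⁻¹) = q * (c * c) * q⁻¹ := by group
        _ = 1 := by rw [hc]; group
    let m : A × A' → {x : G // f x = f ρ} := fun u => ⟨(u.1 : G) * u.2, by
      rw [map_mul, (hmem a haa u.1).2, (hmem a' ha'a u.2).2, ← map_mul]⟩
    have hmb : Function.Bijective m := by
      constructor
      · rintro ⟨b₁, b₂⟩ ⟨c₁, c₂⟩ h
        have h1 : (b₁ : G) * b₂ = (c₁ : G) * c₂ := congrArg Subtype.val h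
        obtain ⟨q, hq, hqe⟩ := hcoset ((b₁ : G) * b₂) (m (b₁, b₂)).2
        have e1 := hnorm q hq b₁ b₂ (hmem a haa b₁).1 (hmem a' ha'a b₂).1 hqe.symm (hmem a haa b₁).2
        have e2 := hnorm q hq c₁ c₂ (hmem a haa c₁).1 (hmem a' ha'a c₂).1 (h1.symm.trans hqe.symm) (hmem a haa c₁).2
        have e3 : b₁ = c₁ := Subtype.ext (e1.trans e2.symm)
        subst e3
        exact Prod.ext rfl (Subtype.ext (mul_left_cancel h1))
      · rintro ⟨x, hx⟩
        obtain ⟨q, hq, rfl⟩ := hcoset x hx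
        refine ⟨(⟨q * a * q⁻¹, q, hq, rfl⟩, ⟨q * a' * q⁻¹, q, hq, rfl⟩), Subtype.ext ?_⟩
        show q * a * q⁻¹ * (q * a' * q⁻¹) = q * (a * a') * q⁻¹
        group
    have hcardT : Nat.card {x : G // f x = f ρ} = Nat.card Q := Nat.card_congr
      { toFun := fun x => ⟨x.1 * ρ⁻¹, (hker _).1 (by rw [map_mul, map_inv, x.2, mul_inv_cancel])⟩
        invFun := fun q => ⟨q * ρ, by rw [map_mul, (hker q).2 q.2, one_mul]⟩
        left_inv := fun x => Subtype.ext (by simp)
        right_inv := fun q => Subtype.ext (by simp) }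
    have h1 := Nat.card_congr (Equiv.ofBijective m hmb)
    rw [Nat.card_prod, hcardT] at h1
    have h2 := hcardA a
    have h3 := hcardA a'
    have hCC : Nat.card ↥(Q ⊓ Subgroup.centralizer ({a'} : Set G)) = Nat.card ↥(Q ⊓ Subgroup.centralizer ({a} : Set G)) := by
      obtain ⟨d, hd⟩ := dihedral_reflection_conj hr i (i + 1)
      obtain ⟨n, hn, rfl⟩ := hfN d
      have e : n * a * n⁻¹ = a' := by
        have := hNQ (n * a * n⁻¹ * a'⁻¹) (mul_mem (mul_mem (mul_mem hn haN) (inv_mem hn)) (inv_mem ha'N))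
          ((hker _).1 (by rw [map_mul, map_mul, map_mul, map_inv, map_inv, hi, hd, ha', mul_inv_cancel]))
        exact mul_inv_eq_one.1 this
      have : (Q ⊓ Subgroup.centralizer ({a} : Set G)).map (MulAut.conj n).toMonoidHom = Q ⊓ Subgroup.centralizer ({a'} : Set G) := by
        ext x
        constructor
        · rintro ⟨y, hy, rfl⟩
          obtain ⟨hy1, hy2⟩ := Subgroup.mem_inf.1 hy
          refine Subgroup.mem_inf.2 ⟨hN.conj_mem y hy1 n, Subgroup.mem_centralizer_singleton_iff.2 ?_⟩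
          show n * y * n⁻¹ * a' = a' * (n * y * n⁻¹)
          rw [← e]
          calc n * y * n⁻¹ * (n * a * n⁻¹) = n * (y * a) * n⁻¹ := by group
            _ = n * (a * y) * n⁻¹ := by rw [Subgroup.mem_centralizer_singleton_iff.1 hy2]
            _ = _ := by group
        · intro hx
          obtain ⟨hx1, hx2⟩ := Subgroup.mem_inf.1 hx
          refine ⟨n⁻¹ * x * n, Subgroup.mem_inf.2 ⟨by simpa using hN.conj_mem x hx1 n⁻¹,
            Subgroup.mem_centralizer_singleton_iff.2 ?_⟩, by simp [mul_assoc]⟩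
          calc n⁻¹ * x * n * a = n⁻¹ * (x * (n * a * n⁻¹)) * n := by group
            _ = n⁻¹ * ((n * a * n⁻¹) * x) * n := by rw [e, Subgroup.mem_centralizer_singleton_iff.1 hx2]
            _ = _ := by group
      rw [← this, Subgroup.card_map_of_injective (f := (MulAut.conj n).toMonoidHom) (MulAut.conj n).injective]
    rw [hCC] at h3
    set c := Nat.card ↥(Q ⊓ Subgroup.centralizer ({a} : Set G))
    set x := Nat.card A
    set y := Nat.card A'
    change x * y = _ at h1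
    have hpos : 0 < Nat.card Q := Nat.card_pos
    have : Nat.card Q * c ^ 2 = Nat.card Q * Nat.card Q := by
      calc Nat.card Q * c ^ 2 = (x * c) * (y * c) := by rw [← h1]; ring
        _ = _ := by rw [h2, h3]
    exact Nat.eq_of_mul_eq_mul_left hpos this

end Cfsg.Agent.S2873
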