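import Cfsg.Statements.S2881
import Cfsg.Agent.Lib.StructC.ExtraspecialCount

set_option autoImplicit false
open Cfsg

namespace Cfsg.Agent.S2881

open Subgroup CfsgLib.Transfer
open scoped commutatorElement

variable {E : Type*} [Group E] [Finite E]

theorem card_cent_mul_le (h : Cfsg.IsExtraspecial 2 E) (H : Subgroup E) :
    Nat.card (centralizer (H : Set E)) * Nat.card H ≤ 2 * Nat.card E := by
  have hc := special_commutatorElement_mem_center h.1
  induction H using WellFoundedGT.induction with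
  | ind H ih =>
    rcases eq_or_ne H ⊤ with rfl | hne
    · rw [coe_top, centralizer_univ, h.2, card_top]
    obtain ⟨x, hxH⟩ : ∃ x, x ∉ H := by
      by_contra! hall
      exact hne (eq_top_iff.2 fun x _ => hall x)
    have hlt : H < H ⊔ zpowers x :=
      lt_of_le_of_ne le_sup_left fun e => hxH (e ▸ mem_sup_right (mem_zpowers x))
    let φ : ↥(centralizer (H : Set E)) →* ↥(center E) :=
      MonoidHom.mk' (fun c => ⟨⁅(c : E), x⁆, hc _ _⟩) fun a b => Subtype.ext (by
        show ⁅(a : E) * b, x⁆ = ⁅(a : E), x⁆ * ⁅(b : E), x⁆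
        rw [CfsgLib.Transfer.commutatorElement_mul_left hc])
    have hker : ∀ c ∈ φ.ker, (c : E) ∈ centralizer ((H ⊔ zpowers x : Subgroup E) : Set E) := by
      intro c hc'
      have e : ⁅(c : E), x⁆ = 1 := congrArg Subtype.val (MonoidHom.mem_ker.1 hc')
      have h1 : H ⊔ zpowers x ≤ centralizer ({(c : E)} : Set E) := by
        refine sup_le (fun y hy => ?_) (zpowers_le.2 ?_)
        · exact mem_centralizer_singleton_iff.2 (mem_centralizer_iff.1 c.2 y hy)
        · exact mem_centralizer_singleton_iff.2 (commutatorElement_eq_one_iff_mul_comm.1 e).symm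
      rw [mem_centralizer_iff]
      exact fun y hy => mem_centralizer_singleton_iff.1 (h1 hy)
    have h1 : Nat.card (centralizer (H : Set E)) ≤
        Nat.card (centralizer ((H ⊔ zpowers x : Subgroup E) : Set E)) * 2 := by
      calc Nat.card (centralizer (H : Set E)) = Nat.card φ.ker * Nat.card φ.range := by
            rw [← φ.ker.card_mul_index, index_ker]
        _ ≤ _ := Nat.mul_le_mul
            (Nat.card_le_card_of_injective (fun c : φ.ker => (⟨(c : E), hker c c.2⟩ :
              centralizer ((H ⊔ zpowers x : Subgroup E) : Set E)))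
              fun a b e => Subtype.ext (Subtype.ext (Subtype.mk.inj e)))
            ((Nat.card_le_card_of_injective φ.range.subtype Subtype.val_injective).trans h.2.le)
    have h2 : 2 * Nat.card H ≤ Nat.card ↥(H ⊔ zpowers x) := by
      have e := relIndex_mul_relIndex ⊥ H (H ⊔ zpowers x) bot_le le_sup_left
      rw [relIndex_bot_left, relIndex_bot_left] at e
      have h0 : H.relIndex (H ⊔ zpowers x) ≠ 0 := FiniteIndex.index_ne_zero
      have h1 : H.relIndex (H ⊔ zpowers x) ≠ 1 := fun h => hlt.not_ge (relIndex_eq_one.1 h)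
      rw [← e, mul_comm (Nat.card H)]
      exact Nat.mul_le_mul_right _ (by omega)
    calc _ ≤ Nat.card (centralizer ((H ⊔ zpowers x : Subgroup E) : Set E)) * 2 * Nat.card H :=
          Nat.mul_le_mul_right _ h1
      _ ≤ Nat.card (centralizer ((H ⊔ zpowers x : Subgroup E) : Set E)) * Nat.card ↥(H ⊔ zpowers x) := by
          rw [mul_assoc]; exact Nat.mul_le_mul_left _ h2
      _ ≤ _ := ih _ hlt

theorem involution_count (h : Cfsg.IsExtraspecial 2 E) {m : ℕ} (hcard : Nat.card E = 2 ^ (2 * m + 1))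
    (A : Subgroup E) (hA : Cfsg.IsElementaryAbelian 2 A) (hAc : Nat.card A = 2 ^ (m + 1)) :
    Nat.card {x : E // x ^ 2 = 1} = 2 ^ (2 * m) + 2 ^ m := by
  classical
  haveI := Fintype.ofFinite E
  have hc := special_commutatorElement_mem_center h.1
  have hsqA : ∀ a ∈ A, a ^ 2 = 1 := hA.2
  have hcomA : ∀ a ∈ A, ∀ b ∈ A, a * b = b * a := fun a ha b hb => congrArg Subtype.val (hA.1.1.1 ⟨a, ha⟩ ⟨b, hb⟩)
  have hAcent : A ≤ centralizer (A : Set E) := fun a ha => mem_centralizer_iff.2 fun b hb => hcomA b hb a ha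
  have hCA : centralizer (A : Set E) = A := by
    refine (eq_of_le_of_card_ge hAcent ?_).symm
    have hb := card_cent_mul_le h A
    rw [hAc, hcard] at hb
    rw [hAc]
    have e : 2 * 2 ^ (2 * m + 1) = 2 ^ (m + 1) * 2 ^ (m + 1) := by ring
    rw [e] at hb
    exact Nat.le_of_mul_le_mul_right hb (by positivity)
  obtain ⟨z, hz1, hzall⟩ : ∃ z : E, z ≠ 1 ∧ ∀ w ∈ center E, w = 1 ∨ w = z := by
    obtain ⟨u, hu, hu1⟩ : ∃ u ∈ center E, u ≠ 1 := by
      by_contra! hall
      have := h.2
      rw [(eq_bot_iff.2 fun u hu => Subgroup.mem_bot.2 (hall u hu) : center E = ⊥), card_bot] at this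
      omega
    refine ⟨u, hu1, fun w hw => ?_⟩
    by_contra hcon
    push Not at hcon
    have h2 := h.2
    rw [Nat.card_eq_fintype_card] at h2
    have : ({⟨1, one_mem _⟩, ⟨u, hu⟩, ⟨w, hw⟩} : Finset ↥(center E)).card = 3 :=
      Finset.card_eq_three.2 ⟨_, _, _, by simp [Ne.symm hu1], by simp [Ne.symm hcon.1], by simp [Ne.symm hcon.2], rfl⟩
    have hle := Finset.card_le_univ ({⟨1, one_mem _⟩, ⟨u, hu⟩, ⟨w, hw⟩} : Finset ↥(center E))
    omega
  have hflip : ∀ x ∉ A, ∃ a ∈ A, (x * a) ^ 2 = z * x ^ 2 := by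
    intro x hx
    obtain ⟨a, ha, hxa⟩ : ∃ a ∈ A, ⁅a, x⁆ ≠ 1 := by
      by_contra! hall
      exact hx (hCA.le (mem_centralizer_iff.2 fun a ha => commutatorElement_eq_one_iff_mul_comm.1 (hall a ha)))
    refine ⟨a, ha, ?_⟩
    have hz := (hzall _ (hc a x)).resolve_left hxa
    have e1 : a * x = z * (x * a) := by rw [← hz, commutatorElement_def]; group
    have hzc := mem_center_iff.1 (hz ▸ hc a x)
    calc (x * a) ^ 2 = x * (a * x) * a := by rw [pow_two]; group
      _ = x * (z * (x * a)) * a := by rw [e1]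
      _ = x * z * x * (a * a) := by group
      _ = z * x ^ 2 := by rw [← pow_two a, hsqA a ha, mul_one, hzc x, mul_assoc, pow_two]
  have hsq : ∀ x : E, x ^ 2 ∈ center E := CfsgLib.Transfer.es_two_sq_mem h
  -- count pairs `(x, a)` outside `A`
  let I := {x : E // x ^ 2 = 1 ∧ x ∉ A}
  let J := {x : E // x ^ 2 ≠ 1 ∧ x ∉ A}
  have hsum : Nat.card I + Nat.card J = 2 ^ (2 * m + 1) - 2 ^ (m + 1) := by
    have e1 : Nat.card {x : E // x ∉ A} = Nat.card I + Nat.card J := by
      rw [← Nat.card_sum]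
      exact Nat.card_congr
        { toFun := fun x => if hh : x.1 ^ 2 = 1 then Sum.inl ⟨x.1, hh, x.2⟩ else Sum.inr ⟨x.1, hh, x.2⟩
          invFun := Sum.elim (fun x => ⟨x.1, x.2.2⟩) (fun x => ⟨x.1, x.2.2⟩)
          left_inv := fun x => by by_cases hh : x.1 ^ 2 = 1 <;> simp [hh]
          right_inv := fun x => by rcases x with ⟨x, hh, hx⟩ | ⟨x, hh, hx⟩ <;> simp [hh] }
    rw [← e1, Nat.card_eq_fintype_card, Fintype.card_subtype_compl, ← Nat.card_eq_fintype_card,
      ← Nat.card_eq_fintype_card, hcard]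
    rw [show Nat.card {x : E // x ∈ A} = 2 ^ (m + 1) from hAc]
  have hIJ : Nat.card I = Nat.card J := by
    have hzne : ∀ x : E, x ^ 2 = 1 → z * x ^ 2 ≠ 1 := fun x e => by rw [e, mul_one]; exact hz1
    have key : Nat.card (I × A) = Nat.card (J × A) := by
      choose α hα hα2 using hflip
      have hcos : ∀ x (hx : x ∉ A) (a : A), x * (a : E) ∉ A := fun x hx a hm =>
        hx (by simpa using mul_mem hm (inv_mem a.2))
      -- the element of `A` attached to the coset
      let σ : ∀ x, x ∉ A → E := fun x hx =>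
        α (Quotient.out (QuotientGroup.mk x : E ⧸ A)) (fun hm => hx (by
          obtain ⟨b, hb⟩ := QuotientGroup.mk_out_eq_mul A x
          rw [hb] at hm
          simpa using mul_mem hm (inv_mem b.2)))
      have hσA : ∀ x hx, σ x hx ∈ A := fun x hx => hα _ _
      have hσ : ∀ x hx, (x * σ x hx) ^ 2 = z * x ^ 2 := by
        intro x hx
        obtain ⟨b, hb⟩ := QuotientGroup.mk_out_eq_mul A x
        set y := Quotient.out (QuotientGroup.mk x : E ⧸ A) with hy
        have hya : (y * σ x hx) ^ 2 = z * y ^ 2 := hα2 _ _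
        have hyx : ⁅y, σ x hx⁆ = ⁅x, σ x hx⁆ := by
          rw [hb, CfsgLib.Transfer.commutatorElement_mul_left hc,
            commutatorElement_eq_one_iff_mul_comm.2 (hcomA b b.2 _ (hσA x hx)), mul_one]
        have hg : ∀ u : E, (u * σ x hx) ^ 2 = ⁅u, σ x hx⁆ * u ^ 2 := by
          intro u
          have hcu := mem_center_iff.1 (hc (σ x hx) u)
          have hinv : ⁅σ x hx, u⁆ = ⁅u, σ x hx⁆ := by
            rcases hzall _ (hc u (σ x hx)) with e | e <;> rcases hzall _ (hc (σ x hx) u) with e' | e' <;>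
              rw [e, e']
            · exact absurd ((commutatorElement_inv u (σ x hx)).symm.trans (by rw [e, inv_one])) (e' ▸ hz1)
            · exact absurd ((commutatorElement_inv (σ x hx) u).symm.trans (by rw [e', inv_one])) (e ▸ hz1)
          rw [← hinv]
          calc (u * σ x hx) ^ 2 = u * (⁅σ x hx, u⁆ * (u * σ x hx)) * σ x hx := by
                rw [pow_two, commutatorElement_def]; group
            _ = u * ⁅σ x hx, u⁆ * u * (σ x hx * σ x hx) := by group
            _ = ⁅σ x hx, u⁆ * u ^ 2 := by rw [← pow_two (σ x hx), hsqA _ (hσA x hx), mul_one, hcu u, mul_assoc, pow_two]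
        rw [hg, hyx] at hya
        rw [hg, mul_right_cancel hya]
      have hσinv : ∀ x hx hx', σ (x * σ x hx) hx' = σ x hx := by
        intro x hx hx'
        have e : (QuotientGroup.mk (x * σ x hx) : E ⧸ A) = QuotientGroup.mk x :=
          QuotientGroup.mk_mul_of_mem x (hσA x hx)
        simp only [σ, e]
      have hbij : Nat.card I = Nat.card J := Nat.card_congr
        { toFun := fun x => ⟨x.1 * σ x.1 x.2.2, by rw [hσ]; exact hzne _ x.2.1, hcos _ x.2.2 ⟨_, hσA _ _⟩⟩
          invFun := fun x => ⟨x.1 * σ x.1 x.2.2, by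
            rw [hσ]
            have := (hzall _ (hsq x.1)).resolve_left x.2.1
            rw [this, ← pow_two]
            rcases hzall _ (hsq z) with e | e
            · exact e
            · exact absurd (mul_left_cancel ((pow_two z).symm.trans (e.trans (mul_one z).symm))) hz1,
            hcos _ x.2.2 ⟨_, hσA _ _⟩⟩
          left_inv := fun x => Subtype.ext (by
            show x.1 * σ x.1 x.2.2 * σ (x.1 * σ x.1 x.2.2) _ = x.1
            rw [hσinv, mul_assoc, ← pow_two, hsqA _ (hσA _ _), mul_one])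
          right_inv := fun x => Subtype.ext (by
            show x.1 * σ x.1 x.2.2 * σ (x.1 * σ x.1 x.2.2) _ = x.1
            rw [hσinv, mul_assoc, ← pow_two, hsqA _ (hσA _ _), mul_one]) }
      rw [Nat.card_prod, Nat.card_prod, hbij]
    rw [Nat.card_prod, Nat.card_prod] at key
    exact Nat.eq_of_mul_eq_mul_right Nat.card_pos key
  have htot : Nat.card {x : E // x ^ 2 = 1} = Nat.card A + Nat.card I := by
    rw [← Nat.card_sum]
    exact Nat.card_congr
      { toFun := fun x => if hh : x.1 ∈ A then Sum.inl ⟨x.1, hh⟩ else Sum.inr ⟨x.1, x.2, hh⟩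
        invFun := Sum.elim (fun a => ⟨a.1, hsqA a.1 a.2⟩) (fun x => ⟨x.1, x.2.1⟩)
        left_inv := fun x => by by_cases hh : x.1 ∈ A <;> simp [hh]
        right_inv := fun x => by rcases x with ⟨x, hx⟩ | ⟨x, hh, hx⟩ <;> simp [hx] }
  rw [htot, hAc]
  have e1 : 2 ^ (2 * m + 1) = 2 * 2 ^ (2 * m) := by ring
  have e2 : 2 ^ (m + 1) = 2 * 2 ^ m := by ring
  have e3 : 2 ^ m ≤ 2 ^ (2 * m) := Nat.pow_le_pow_right two_pos (by omega)
  omega

theorem five_dvd_moved (ω : E ≃* E) (hω : orderOf ω = 5) (hfix : ∀ x : E, ω x = x ↔ x ∈ center E)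
    (h : Cfsg.IsExtraspecial 2 E) (s : ℕ) :
    5 ∣ Nat.card {x : E // x ^ s = 1 ∧ x ∉ center E} := by
  haveI : Fact (Nat.Prime 5) := ⟨by norm_num⟩
  let R : Subgroup (MulAut E) := zpowers (ω : MulAut E)
  have hR : IsPGroup 5 R := IsPGroup.of_card (n := 1) (by rw [Nat.card_zpowers]; exact hω.trans (pow_one 5).symm)
  have hst : ∀ (r : R) (x : E), x ^ s = 1 ∧ x ∉ center E → (r : MulAut E) x ^ s = 1 ∧ (r : MulAut E) x ∉ center E := by
    rintro r x ⟨h1, h2⟩
    refine ⟨by rw [← map_pow, h1, map_one], fun hm => h2 ?_⟩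
    have e : (r : MulAut E)⁻¹ ((r : MulAut E) x) ∈ (center E).map ((r : MulAut E)⁻¹).toMonoidHom :=
      mem_map_of_mem _ hm
    rw [characteristic_iff_map_eq.1 inferInstance] at e
    simpa using e
  letI : MulAction R {x : E // x ^ s = 1 ∧ x ∉ center E} :=
    { smul := fun r x => ⟨(r : MulAut E) x.1, hst r x.1 x.2⟩
      one_smul := fun x => Subtype.ext rfl
      mul_smul := fun r r' x => Subtype.ext rfl }
  have hfp := hR.card_modEq_card_fixedPoints {x : E // x ^ s = 1 ∧ x ∉ center E}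
  have h0 : Nat.card (MulAction.fixedPoints R {x : E // x ^ s = 1 ∧ x ∉ center E}) = 0 := by
    rw [Nat.card_eq_zero]
    left
    refine ⟨fun x => x.1.2.2 ((hfix _).1 ?_)⟩
    exact congrArg Subtype.val (x.2 ⟨(ω : MulAut E), mem_zpowers _⟩)
  rw [h0] at hfp
  exact Nat.modEq_zero_iff_dvd.1 hfp

theorem card_split (h : Cfsg.IsExtraspecial 2 E) (s : ℕ) (hs : ∀ x ∈ center E, x ^ s = 1) :
    Nat.card {x : E // x ^ s = 1} = 2 + Nat.card {x : E // x ^ s = 1 ∧ x ∉ center E} := by
  classical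
  rw [← h.2, ← Nat.card_sum]
  exact Nat.card_congr
    { toFun := fun x => if hh : x.1 ∈ center E then Sum.inl ⟨x.1, hh⟩ else Sum.inr ⟨x.1, x.2, hh⟩
      invFun := Sum.elim (fun a => ⟨a.1, hs a.1 a.2⟩) (fun x => ⟨x.1, x.2.1⟩)
      left_inv := fun x => by by_cases hh : x.1 ∈ center E <;> simp [hh]
      right_inv := fun x => by rcases x with ⟨x, hx⟩ | ⟨x, hh, hx⟩ <;> simp [hx] }

/-- Let E be an extraspecial 2-group of order 2^(2m+1) of plus type (containing an elementary abelian subgroup of order 2^(m+1)), and let ω be an automorphism of E of order 5 whose fixed points are exactly the centre of E. Then m is divisible by 4. -/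
theorem result {E : Type*} [Group E] [Finite E] (m : ℕ) (hm : 1 ≤ m) (hE : Cfsg.IsExtraspecial 2 E) (hcard : Nat.card E = 2 ^ (2 * m + 1)) (hplus : ∃ A : Subgroup E, Cfsg.IsElementaryAbelian 2 A ∧ Nat.card A = 2 ^ (m + 1)) (ω : E ≃* E) (hω : orderOf ω = 5) (hfix : ∀ x : E, ω x = x ↔ x ∈ Subgroup.center E) : 4 ∣ m := by
  obtain ⟨A, hA, hAc⟩ := hplus
  have h1 := five_dvd_moved ω hω hfix hE (Nat.card E)
  have c1 := card_split hE (Nat.card E) (fun x _ => pow_card_eq_one')
  rw [Nat.card_congr (Equiv.subtypeUnivEquiv fun x : E => (pow_card_eq_one' : x ^ Nat.card E = 1))] at c1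
  have h2 := five_dvd_moved ω hω hfix hE 2
  have c2 := card_split hE 2 (fun x hx => special_center_pow hE.1 hx)
  rw [involution_count hE hcard A hA hAc] at c2
  obtain ⟨a, ha⟩ := h1
  obtain ⟨b, hb⟩ := h2
  rw [ha, hcard] at c1
  rw [hb] at c2
  obtain ⟨q, r, hr, rfl⟩ : ∃ q r, r < 4 ∧ m = 4 * q + r := ⟨m / 4, m % 4, Nat.mod_lt _ (by norm_num), (Nat.div_add_mod m 4).symm⟩
  obtain ⟨t, ht⟩ : ∃ t, (16 : ℕ) ^ q = 5 * t + 1 := ⟨16 ^ q / 5, by
    have : 16 ^ q % 5 = 1 := by rw [Nat.pow_mod]; norm_num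
    omega⟩
  have e1 : (2 : ℕ) ^ (4 * q + r) = 16 ^ q * 2 ^ r := by rw [pow_add, pow_mul]; norm_num
  have e2 : (2 : ℕ) ^ (2 * (4 * q + r)) = (2 ^ (4 * q + r)) ^ 2 := by rw [← pow_mul]; congr 1; ring
  rw [pow_succ, e2, e1, ht] at c1
  rw [e2, e1, ht] at c2
  interval_cases r
  · exact ⟨q, rfl⟩
  all_goals (ring_nf at c1 c2; omega)

end Cfsg.Agent.S2881
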