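import Cfsg.Statements.S2882
import Cfsg.Agent.Lib.Fusion.MathieuCertM24
import Cfsg.Agent.Lib.Golay.Mathieu
import Cfsg.Agent.Lib.Amalgam.MathieuSelfNorm

set_option autoImplicit false
open Cfsg

namespace Cfsg.Agent.S2882

/-- In the Mathieu group of degree 24 (realised as the automorphism group of the extended binary Golay code) every Sylow 2-subgroup is self-normalizing. -/
theorem result (S : Sylow 2 ↥Cfsg.M24) : Subgroup.normalizer ((S : Subgroup ↥Cfsg.M24) : Set ↥Cfsg.M24) = (S : Subgroup ↥Cfsg.M24) := by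
  revert S
  rw [← CfsgLib.Golay.fixMasks_nil]
  intro S
  exact CfsgLib.Amalgam.sylow_two_self_normalizing_of_cert CfsgLib.Fusion.MathieuCert.M24.cert _ _
    CfsgLib.Golay.card_fixM24 (by decide +kernel) CfsgLib.Fusion.MathieuCert.M24.els_ok
    CfsgLib.Fusion.MathieuCert.M24.nxt_ok CfsgLib.Fusion.MathieuCert.M24.pred_ok
    CfsgLib.Fusion.MathieuCert.M24.sq_ok CfsgLib.Fusion.MathieuCert.M24.labels_ok
    CfsgLib.Fusion.MathieuCert.M24.series_ok CfsgLib.Fusion.MathieuCert.M24.sep_ok S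

end Cfsg.Agent.S2882
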