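import Cfsg.Statements.S2896
import Cfsg.Agent.Lib.Amalgam.CharPLocal
import Cfsg.Agent.Lib.PLocal.Basic

set_option autoImplicit false
open Cfsg

namespace Cfsg.Agent.S2896

/-- Let p be a prime dividing the order of the finite group G, S a Sylow p-subgroup of G and X a subgroup of S. (i) If some nontrivial element z of the centre of X has F*(C_G(z)) = O_p(C_G(z)), then F*(N_G(X)) = O_p(N_G(X)). (ii) G has parabolic characteristic p if and only if F*(C_G(z)) = O_p(C_G(z)) for every nontrivial z ∈ Ω₁(Z(S)). (iii) If F*(C_G(z)) = O_p(C_G(z)) for every element z of S of order p, then G has local characteristic p. -/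
theorem result {G : Type*} [Group G] [Finite G] {p : ℕ} [Fact p.Prime] (hdiv : p ∣ Nat.card G) (S : Sylow p G) (X : Subgroup G) (hX : X ≤ (S : Subgroup G)) : (∀ z : G, z ≠ 1 → z ∈ X → (∀ x ∈ X, x * z = z * x) → Cfsg.generalizedFittingSubgroup ↥(Subgroup.centralizer ({z} : Set G)) = Cfsg.pCore p ↥(Subgroup.centralizer ({z} : Set G)) → Cfsg.generalizedFittingSubgroup ↥(Subgroup.normalizer (X : Set G)) = Cfsg.pCore p ↥(Subgroup.normalizer (X : Set G))) ∧ (Cfsg.IsOfParabolicCharacteristic p G ↔ ∀ z : G, z ≠ 1 → z ∈ Cfsg.omegaOne p ((S : Subgroup G) ⊓ Subgroup.centralizer ((S : Subgroup G) : Set G)) → Cfsg.generalizedFittingSubgroup ↥(Subgroup.centralizer ({z} : Set G)) = Cfsg.pCore p ↥(Subgroup.centralizer ({z} : Set G))) ∧ ((∀ z : G, z ∈ (S : Subgroup G) → orderOf z = p → Cfsg.generalizedFittingSubgroup ↥(Subgroup.centralizer ({z} : Set G)) = Cfsg.pCore p ↥(Subgroup.centralizer ({z} : Set G))) → Cfsg.IsOfLocalCharacteristic p G) := by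
  refine ⟨fun z hz1 hzX hzc h => ?_, ⟨fun hG z hz1 hz => ?_, fun h => ?_⟩, fun h => ⟨hdiv, fun T hT hT1 => ?_⟩⟩
  · rw [CfsgLib.Amalgam.fstar_eq_iff_charPElements] at h ⊢
    exact CfsgLib.Amalgam.charPElements_normalizer_of_centralizer (S.isPGroup'.to_le hX) hzX hzc h
  · rw [CfsgLib.Amalgam.fstar_eq_iff_charPElements]
    obtain ⟨hzS, hzc⟩ := Subgroup.mem_inf.1 (CfsgLib.PLocal.omegaOne_le p _ hz)
    refine CfsgLib.Amalgam.charPElements_centralizer_of_parabolic hG S (orderOf_eq_prime ?_ hz1) hzc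
    exact (CfsgLib.PLocal.omegaCenter_elemAb (S : Subgroup G)).2 z hz
  · refine CfsgLib.Amalgam.isOfParabolicCharacteristic_of_centralizers S fun z hzo hzS hzc => ?_
    rw [← CfsgLib.Amalgam.fstar_eq_iff_charPElements]
    refine h z (fun e => ?_) (Subgroup.subset_closure ⟨Subgroup.mem_inf.2 ⟨hzS, hzc⟩, by rw [← hzo]; exact pow_orderOf_eq_one z⟩)
    rw [e, orderOf_one] at hzo
    exact (Fact.out : p.Prime).one_lt.ne hzo
  · rw [← CfsgLib.Amalgam.charPElements_iff]
    obtain ⟨S', hS'⟩ := hT.exists_le_sylow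
    obtain ⟨g, hg⟩ := MulAction.exists_smul_eq G S' S
    set T' := T.map (MulAut.conj g).toMonoidHom with hT'
    have hT'S : T' ≤ (S : Subgroup G) := by
      rw [hT', ← hg, Sylow.coe_subgroup_smul]; exact Subgroup.map_mono hS'
    have hT'p : IsPGroup p T' := hT.map _
    haveI : Nontrivial T' := (Subgroup.nontrivial_iff_ne_bot _).2 fun e =>
      hT1 ((Subgroup.map_eq_bot_iff_of_injective _ (MulAut.conj g).injective).1 e)
    haveI := hT'p.center_nontrivial
    obtain ⟨z, hz⟩ := exists_prime_orderOf_dvd_card' p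
      ((hT'p.to_subgroup (Subgroup.center T')).card_eq_or_dvd.resolve_left fun e =>
        not_nontrivial_iff_subsingleton.2 ((Nat.card_eq_one_iff_unique.1 e).1) this)
    rw [← Subgroup.orderOf_coe, ← Subgroup.orderOf_coe] at hz
    have h0 := h ((z : T') : G) (hT'S (z : T').2) hz
    rw [CfsgLib.Amalgam.fstar_eq_iff_charPElements] at h0
    have h1 := CfsgLib.Amalgam.charPElements_normalizer_of_centralizer hT'p (z : T').2
      (fun x hx => congrArg Subtype.val ((Subgroup.mem_center_iff.1 z.2) ⟨x, hx⟩)) h0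
    have hn : Subgroup.normalizer (T' : Set G) = (Subgroup.normalizer (T : Set G)).map (MulAut.conj g).toMonoidHom :=
      (Subgroup.map_normalizer_eq_of_bijective _ (f := (MulAut.conj g).toMonoidHom) (MulAut.conj g).bijective).symm
    rw [hn] at h1
    have h2 := CfsgLib.Amalgam.charPElements_map_conj h1 g⁻¹
    rwa [← CfsgLib.Comp.map_conj_mul, inv_mul_cancel, CfsgLib.Comp.map_conj_one] at h2

end Cfsg.Agent.S2896
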