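import Cfsg.Statements.S2897
import Cfsg.Agent.Lib.Amalgam.CharPLocal
import Cfsg.Agent.Lib.PLocal.Basic

set_option autoImplicit false
open Cfsg

namespace Cfsg.Agent.S2897

/-- Let p be a prime dividing the order of the finite group G, suppose G has parabolic characteristic p, let S be a Sylow p-subgroup of G and G₁ a normal subgroup of G. If Ω₁(Z(S ∩ G₁)) is nontrivial and contained in Ω₁(Z(S)), then G₁ has parabolic characteristic p. -/
theorem result {G : Type*} [Group G] [Finite G] {p : ℕ} [Fact p.Prime] (hdiv : p ∣ Nat.card G) (hG : Cfsg.IsOfParabolicCharacteristic p G) (S : Sylow p G) (G₁ : Subgroup G) [G₁.Normal] (hne : Cfsg.omegaOne p (((S : Subgroup G) ⊓ G₁) ⊓ Subgroup.centralizer (((S : Subgroup G) ⊓ G₁ : Subgroup G) : Set G)) ≠ ⊥) (hle : Cfsg.omegaOne p (((S : Subgroup G) ⊓ G₁) ⊓ Subgroup.centralizer (((S : Subgroup G) ⊓ G₁ : Subgroup G) : Set G)) ≤ Cfsg.omegaOne p ((S : Subgroup G) ⊓ Subgroup.centralizer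 ((S : Subgroup G) : Set G))) : Cfsg.IsOfParabolicCharacteristic p ↥G₁ := by
  obtain ⟨S₁, hS₁⟩ := CfsgLib.Amalgam.exists_sylow_subnormal S (Subgroup.Normal.isSubnormal inferInstance : G₁.IsSubnormal)
  refine CfsgLib.Amalgam.isOfParabolicCharacteristic_subnormal hG S (Subgroup.Normal.isSubnormal inferInstance) S₁ fun z hzo hzS hzc => ?_
  have h1 : (z : G) ∈ (S : Subgroup G) ⊓ G₁ := Subgroup.mem_inf.2 ⟨Subgroup.mem_subgroupOf.1 (hS₁ ▸ hzS), z.2⟩
  have h2 : (z : G) ∈ Subgroup.centralizer (((S : Subgroup G) ⊓ G₁ : Subgroup G) : Set G) := fun w hw =>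
    congrArg Subtype.val (hzc ⟨w, (Subgroup.mem_inf.1 hw).2⟩ (hS₁.symm ▸ Subgroup.mem_subgroupOf.2 (Subgroup.mem_inf.1 hw).1))
  refine (Subgroup.mem_inf.1 (CfsgLib.PLocal.omegaOne_le p _ (hle (Subgroup.subset_closure ⟨Subgroup.mem_inf.2 ⟨h1, h2⟩, ?_⟩)))).2
  rw [← hzo, ← Subgroup.orderOf_coe]
  exact pow_orderOf_eq_one _

end Cfsg.Agent.S2897
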