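import Cfsg.Statements.S2898
import Cfsg.Agent.Lib.Amalgam.CharPLocal
import Cfsg.Agent.Lib.PLocal.Basic
import Cfsg.Agent.Lib.Coprime.Basic

set_option autoImplicit false
open Cfsg

namespace Cfsg.Agent.S2898

/-- Let G be a finite group of even order with parabolic characteristic 2. If the centre of G ⧸ O(G) is trivial, then O(G) = 1. -/
theorem result {G : Type*} [Group G] [Finite G] (h2 : 2 ∣ Nat.card G) (hG : Cfsg.IsOfParabolicCharacteristic 2 G) [hN : (Cfsg.oddCore G).Normal] (hZ : Subgroup.center (G ⧸ Cfsg.oddCore G) = ⊥) : Cfsg.oddCore G = ⊥ := by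
  obtain ⟨S⟩ : Nonempty (Sylow 2 G) := inferInstance
  set W := Cfsg.oddCore G with hW
  have hWodd : (Nat.card W).Coprime 2 := CfsgLib.Solvable.pPrimeCore_coprime (G := G) 2
  by_contra hW1
  -- centralizers of central involutions meet `W` trivially
  have hfree : ∀ z : G, orderOf z = 2 → z ∈ Subgroup.centralizer ((S : Subgroup G) : Set G) →
      ∀ w ∈ W, w * z = z * w → w = 1 := by
    intro z hz hzc w hw hwz
    have hc := CfsgLib.Amalgam.charPElements_centralizer_of_parabolic hG S hz hzc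
    set C := Subgroup.centralizer ({z} : Set G)
    set R := Cfsg.pCoreOf 2 C
    have hwC : w ∈ C := Subgroup.mem_centralizer_singleton_iff.2 hwz
    refine hc w hwC (Nat.Coprime.coprime_dvd_left (Subgroup.orderOf_dvd_natCard _ hw) hWodd) fun r hr => ?_
    have h1 : r * w * r⁻¹ * w⁻¹ ∈ W := mul_mem (hN.conj_mem w hw r) (inv_mem hw)
    have h2 : r * w * r⁻¹ * w⁻¹ ∈ R := by
      rw [show r * w * r⁻¹ * w⁻¹ = r * (w * r⁻¹ * w⁻¹) by group]
      exact mul_mem hr ((Subgroup.mem_normalizer_iff.1 (CfsgLib.Amalgam.le_normalizer_pCoreOf C hwC) _).1 (inv_mem hr))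
    have h3 := CfsgLib.Amalgam.eq_one_of_coprime_of_mem (CfsgLib.Amalgam.isPGroup_pCoreOf (p := 2) C)
      (Nat.Coprime.coprime_dvd_left (Subgroup.orderOf_dvd_natCard _ h1) hWodd) h2
    exact mul_inv_eq_iff_eq_mul.1 (mul_inv_eq_one.1 h3)
  -- hence they invert `W`
  have hinv : ∀ z : G, orderOf z = 2 → z ∈ Subgroup.centralizer ((S : Subgroup G) : Set G) →
      ∀ w ∈ W, z * w * z⁻¹ = w⁻¹ := by
    intro z hz hzc w hw
    have hz2 : z * z = 1 := by rw [← pow_two, ← hz, pow_orderOf_eq_one]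
    let φ : W → W := fun v => ⟨(v : G)⁻¹ * z * v * z⁻¹, by
      rw [mul_assoc, mul_assoc, ← mul_assoc z]; exact mul_mem (inv_mem v.2) (hN.conj_mem _ v.2 z)⟩
    have hinj : Function.Injective φ := by
      intro v v' h
      have h1 : (v : G)⁻¹ * z * v * z⁻¹ = (v' : G)⁻¹ * z * v' * z⁻¹ := congrArg Subtype.val h
      have h2 := hfree z hz hzc ((v' : G) * (v : G)⁻¹) (mul_mem v'.2 (inv_mem v.2)) (by
        calc (v' : G) * (v : G)⁻¹ * z = (v' : G) * ((v : G)⁻¹ * z * v * z⁻¹) * z * (v : G)⁻¹ := by group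
          _ = z * ((v' : G) * (v : G)⁻¹) := by rw [h1]; group)
      exact Subtype.ext (mul_inv_eq_one.1 h2).symm
    obtain ⟨v, hv⟩ := (Finite.injective_iff_surjective.1 hinj) ⟨w, hw⟩
    rw [← show (v : G)⁻¹ * z * v * z⁻¹ = w from congrArg Subtype.val hv]
    have e : z⁻¹ = z := inv_eq_of_mul_eq_one_left hz2
    calc z * ((v : G)⁻¹ * z * v * z⁻¹) * z⁻¹ = z * (v : G)⁻¹ * z * v * (z * z)⁻¹ := by group
      _ = z * (v : G)⁻¹ * z⁻¹ * v := by rw [hz2, e]; simp [mul_assoc]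
      _ = _ := by group
  haveI : Nontrivial (S : Subgroup G) := (Subgroup.nontrivial_iff_ne_bot _).2 (S.ne_bot_of_dvd_card h2)
  obtain ⟨-, z, -, hz, hzc⟩ := CfsgLib.Amalgam.exists_center_sylow_mem S.isPGroup'
    (S.ne_bot_of_dvd_card h2) S Subgroup.le_normalizer
  set C := Subgroup.centralizer (W : Set G)
  have hCodd : (Nat.card C).Coprime 2 := by
    refine ((Nat.Prime.coprime_iff_not_dvd Nat.prime_two).2 fun hd => ?_).symm
    haveI : (C : Subgroup G).Normal := inferInstance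
    obtain ⟨T, hT⟩ := CfsgLib.Transfer.exists_sylow_eq_subgroupOf S C
    have hne : (S : Subgroup G) ⊓ C ≠ ⊥ := by
      intro e
      refine T.ne_bot_of_dvd_card hd ?_
      rw [hT, Subgroup.subgroupOf_eq_bot, disjoint_iff, e]
    obtain ⟨-, y, hy, hyo, hyc⟩ := CfsgLib.Amalgam.exists_center_sylow_mem (S.isPGroup'.to_le inf_le_left) hne S
      (CfsgLib.Comp.le_normalizer_inf Subgroup.le_normalizer (CfsgLib.Comp.le_normalizer_of_normal' C _))
    exact hW1 ((Subgroup.eq_bot_iff_forall _).2 fun w hw => hfree y hyo hyc w hw ((Subgroup.mem_inf.1 hy).2 w hw))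
  have hCW : C ≤ W := CfsgLib.Solvable.le_pPrimeCore inferInstance hCodd
  have hz1 : (QuotientGroup.mk z : G ⧸ W) = 1 := by
    rw [← Subgroup.mem_bot, ← hZ, Subgroup.mem_center_iff]
    intro q
    obtain ⟨g, rfl⟩ := QuotientGroup.mk_surjective q
    rw [← QuotientGroup.mk_mul, ← QuotientGroup.mk_mul, QuotientGroup.eq]
    refine hCW fun w hw => ?_
    have h3 : (g * z * g⁻¹) * w * (g * z * g⁻¹)⁻¹ = w⁻¹ := by
      have := hinv z hz hzc (g⁻¹ * w * g) (by simpa using hN.conj_mem w hw g⁻¹)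
      calc (g * z * g⁻¹) * w * (g * z * g⁻¹)⁻¹ = g * (z * (g⁻¹ * w * g) * z⁻¹) * g⁻¹ := by group
        _ = _ := by rw [this]; group
    have hgi : g⁻¹ * w * g ∈ W := by simpa using hN.conj_mem w hw g⁻¹
    show w * ((g * z)⁻¹ * (z * g)) = (g * z)⁻¹ * (z * g) * w
    have h4 : ∀ v ∈ W, ((g * z)⁻¹ * (z * g)) * v * ((g * z)⁻¹ * (z * g))⁻¹ = v := by
      intro v hv
      have hgv : g * v * g⁻¹ ∈ W := hN.conj_mem v hv g
      have a1 := hinv z hz hzc (g * v * g⁻¹) hgv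
      have a2 := hinv z hz hzc v hv
      calc ((g * z)⁻¹ * (z * g)) * v * ((g * z)⁻¹ * (z * g))⁻¹ = z⁻¹ * (g⁻¹ * (z * (g * v * g⁻¹) * z⁻¹) * g) * z := by group
        _ = z⁻¹ * v⁻¹ * z := by rw [a1]; group
        _ = v := by rw [← a2]; group
    exact (mul_inv_eq_iff_eq_mul.1 (h4 w hw)).symm
  have hzW : z ∈ W := (QuotientGroup.eq_one_iff z).1 hz1
  have := Nat.Coprime.coprime_dvd_left (Subgroup.orderOf_dvd_natCard _ hzW) hWodd
  rw [hz] at this
  norm_num at this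

end Cfsg.Agent.S2898
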