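import Cfsg.Statements.S2905
import Cfsg.Agent.Lib.Amalgam.PMinimal

set_option autoImplicit false
open Cfsg

namespace Cfsg.Agent.S2905

/-- Let P be a finite p-minimal group (a Sylow p-subgroup S is not normal and lies in a unique maximal subgroup M of P) and let F be the normal core of M. Then: every subnormal subgroup N of P contained in M satisfies N ∩ S ≤ O_p(P); if O^p(P) has a normal Sylow p-subgroup then the order of P has at most two prime divisors; every normal subgroup N of P either contains O^p(P) or is contained in F; and O^p(P)F ⧸ F is a minimal normal subgroup of P ⧸ F. -/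
theorem result {P : Type*} [Group P] [Finite P] {p : ℕ} [Fact p.Prime] (hP : Cfsg.IsPMinimal p P) (S : Sylow p P) (M : Subgroup P) (hM : IsCoatom M) (hSM : (S : Subgroup P) ≤ M) [hF : M.normalCore.Normal] : (∀ N : Subgroup P, N.IsSubnormal → N ≤ M → N ⊓ (S : Subgroup P) ≤ Cfsg.pCore p P) ∧ ((∀ T : Sylow p ↥(Cfsg.pResidual p P), (T : Subgroup ↥(Cfsg.pResidual p P)).Normal) → (Nat.card P).primeFactors.card ≤ 2) ∧ (∀ N : Subgroup P, N.Normal → Cfsg.pResidual p P ≤ N ∨ N ≤ M.normalCore) ∧ (∀ N : Subgroup P, N.Normal → M.normalCore ≤ N → N ≤ Cfsg.pResidual p P ⊔ M.normalCore → N = M.normalCore ∨ N = Cfsg.pResidual p P ⊔ M.normalCore) ∧ M.normalCore < Cfsg.pResidual p P ⊔ M.normalCore := by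
  haveI := CfsgLib.Transfer.pResidual_normal (G := P) (p := p)
  refine ⟨fun N hN hNM => CfsgLib.Amalgam.pmin_subnormal_inf_le_pCore hP hM hSM hN hNM, ?_, ?_, ?_, ?_⟩
  · intro hT
    set R := Cfsg.pResidual p P
    set T := (S : Subgroup P) ⊓ R with hTdef
    have hndvd : ¬ p ∣ T.relIndex R := CfsgLib.PLocal.sylow_inf_normal_not_dvd S R
    have hTp : IsPGroup p T := S.isPGroup'.to_le inf_le_left
    obtain ⟨T₀, hT₀⟩ := (hTp.comap_of_injective R.subtype R.subtype_injective).exists_le_sylow
    have hTeq : (T₀ : Subgroup R).map R.subtype = T := by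
      refine Eq.symm (Subgroup.eq_of_le_of_card_ge
        (fun t ht => ⟨⟨t, (Subgroup.mem_inf.1 ht).2⟩, hT₀ (Subgroup.mem_comap.2 ht), rfl⟩) ?_)
      rw [Subgroup.card_map_of_injective R.subtype_injective]
      have h1 := Subgroup.card_mul_index (T.subgroupOf R)
      rw [Nat.card_congr (Subgroup.subgroupOfEquivOfLe (inf_le_right : T ≤ R)).toEquiv] at h1
      refine Nat.le_of_dvd Nat.card_pos ?_
      obtain ⟨k, hk⟩ := T₀.isPGroup'.exists_card_eq
      rw [hk]
      refine (Nat.Coprime.pow_left k ((Nat.Prime.coprime_iff_not_dvd Fact.out).2 hndvd)).dvd_of_dvd_mul_right ?_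
      rw [← hk]
      show Nat.card (T₀ : Subgroup R) ∣ Nat.card T * (T.subgroupOf R).index
      rw [h1]
      exact Subgroup.card_subgroup_dvd_card _
    haveI : T.Normal := by
      haveI := hT T₀
      haveI : (T₀ : Subgroup R).Characteristic := Sylow.characteristic_of_normal T₀ this
      rw [← hTeq]; infer_instance
    by_contra hcard
    push Not at hcard
    have hbad : ∀ q, q.Prime → q ∣ Nat.card P → ∃ k : ℕ, q ^ (Nat.card P).factorization q ∣ k ∧ k ∣ Nat.card M := by
      intro q hq hqd
      haveI := Fact.mk hq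
      by_cases hqp : q = p
      · subst hqp
        exact ⟨Nat.card S, by rw [S.card_eq_multiplicity], Subgroup.card_dvd_of_le hSM⟩
      obtain ⟨Q⟩ : Nonempty (Sylow q P) := inferInstance
      have hQR : (Q : Subgroup P) ≤ R := by
        intro x hx
        obtain ⟨k, hk⟩ := Q.isPGroup'.exists_card_eq
        refine CfsgLib.Transfer.mem_pResidual_of_coprime (Nat.Coprime.coprime_dvd_left
          (Subgroup.orderOf_dvd_natCard _ hx) ?_)
        rw [hk]
        exact ((Nat.coprime_primes hq Fact.out).2 hqp).pow_left k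
      have hfr := CfsgLib.PLocal.frattini_sup Q R
      rw [inf_eq_left.2 hQR] at hfr
      set H := Subgroup.normalizer ((Q : Subgroup P) : Set P) ⊔ T with hH
      have hidx : ¬ p ∣ H.index := by
        intro hd
        have h1 : R ⊔ H = ⊤ := eq_top_iff.2 (hfr ▸ sup_le le_sup_left (le_sup_left.trans le_sup_right))
        have h2 : H.index ∣ T.relIndex R := by
          refine dvd_trans ?_ (Subgroup.relIndex_dvd_of_le_left R (le_sup_right : T ≤ H))
          have h3 := Subgroup.relIndex_mul_index (inf_le_left : H ⊓ R ≤ H)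
          have h4 := Subgroup.relIndex_mul_index (inf_le_right : H ⊓ R ≤ R)
          rw [Subgroup.inf_relIndex_left] at h3
          rw [Subgroup.inf_relIndex_right] at h4
          have h5 : R.relIndex H = R.index := by
            rw [← Subgroup.relIndex_sup_right (H := H) (K := R), sup_comm, h1, Subgroup.relIndex_top_right]
          rw [h5, ← h4, mul_comm (H.relIndex R)] at h3
          exact (Nat.eq_of_mul_eq_mul_left (Nat.pos_of_ne_zero Subgroup.index_ne_zero_of_finite) h3).dvd
        exact hndvd (hd.trans h2)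
      obtain ⟨S₁⟩ : Nonempty (Sylow p H) := inferInstance
      have hS₁ : Nat.card ((S₁ : Subgroup H).map H.subtype) = p ^ (Nat.card P).factorization p := by
        rw [Subgroup.card_map_of_injective H.subtype_injective, S₁.card_eq_multiplicity, ← Subgroup.card_mul_index H,
          Nat.factorization_mul (Nat.card_pos.ne') Subgroup.index_ne_zero_of_finite, Finsupp.add_apply,
          Nat.factorization_eq_zero_of_not_dvd hidx, add_zero]
      obtain ⟨g, hg⟩ := MulAction.exists_smul_eq P (Sylow.ofCard _ hS₁) S
      set Q' : Sylow q P := g • Q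
      have hSH : (S : Subgroup P) ≤ Subgroup.normalizer ((Q' : Subgroup P) : Set P) ⊔ T := by
        rw [← hg, Sylow.coe_subgroup_smul]
        show ((S₁ : Subgroup H).map H.subtype).map (MulAut.conj g).toMonoidHom ≤ _
        refine (Subgroup.map_mono (Subgroup.map_subtype_le _)).trans ?_
        rw [hH, Subgroup.map_sup]
        refine sup_le_sup ?_ ?_
        · rw [Subgroup.map_normalizer_eq_of_bijective _ (f := (MulAut.conj g).toMonoidHom) (MulAut.conj g).bijective]
          exact le_of_eq rfl
        · rintro _ ⟨t, ht, rfl⟩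
          exact ‹T.Normal›.conj_mem t ht g
      have hSN : (S : Subgroup P) ≤ Subgroup.normalizer (((Q' : Subgroup P) ⊔ T : Subgroup P) : Set P) := by
        refine hSH.trans (sup_le ?_ (le_sup_right.trans Subgroup.le_normalizer))
        intro n hn
        refine CfsgLib.PLocal.mem_normalizer_map_conj.2 ?_
        rw [Subgroup.map_sup, CfsgLib.PLocal.mem_normalizer_map_conj.1 hn]
        congr 1
        exact CfsgLib.PLocal.mem_normalizer_map_conj.1 (by rw [Subgroup.normalizer_eq_top]; trivial)
      refine ⟨Nat.card Q', by rw [Q'.card_eq_multiplicity], Subgroup.card_dvd_of_le ?_⟩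
      by_contra hnot
      have htop : ((Q' : Subgroup P) ⊔ T) ⊔ (S : Subgroup P) = ⊤ := by
        by_contra hne
        exact hnot (le_sup_left.trans (le_sup_left.trans
          (CfsgLib.Amalgam.pmin_le_of_ne_top hP hM hSM le_sup_right hne)))
      haveI : ((Q' : Subgroup P) ⊔ T).Normal := by
        rw [← Subgroup.normalizer_eq_top_iff, eq_top_iff, ← htop]
        exact sup_le Subgroup.le_normalizer hSN
      have hdvd : Nat.card P ∣ (Nat.card T * Nat.card Q') * Nat.card S := by
        rw [← Subgroup.card_mul_index ((Q' : Subgroup P) ⊔ T)]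
        refine mul_dvd_mul ?_ ?_
        · rw [sup_comm, ← Subgroup.card_mul_index (T.subgroupOf (T ⊔ (Q' : Subgroup P))),
            Nat.card_congr (Subgroup.subgroupOfEquivOfLe (le_sup_left : T ≤ T ⊔ (Q' : Subgroup P))).toEquiv]
          refine mul_dvd_mul_left _ ?_
          show T.relIndex _ ∣ _
          rw [Subgroup.relIndex_sup_left]
          exact Subgroup.relIndex_dvd_card ..
        · rw [← Subgroup.relIndex_top_right, ← htop, Subgroup.relIndex_sup_left]
          exact Subgroup.relIndex_dvd_card ..
      have hsub : (Nat.card P).primeFactors ⊆ {p, q} := by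
        intro r hr
        obtain ⟨hr1, hr2, -⟩ := Nat.mem_primeFactors.1 hr
        obtain ⟨a, ha⟩ := hTp.exists_card_eq
        obtain ⟨b, hb⟩ := Q'.isPGroup'.exists_card_eq
        obtain ⟨c, hc⟩ := S.isPGroup'.exists_card_eq
        rw [ha, hb, hc] at hdvd
        rw [Finset.mem_insert, Finset.mem_singleton]
        rcases hr1.dvd_mul.1 (hr2.trans hdvd) with h | h
        · rcases hr1.dvd_mul.1 h with h | h
          · exact Or.inl ((Nat.prime_dvd_prime_iff_eq hr1 Fact.out).1 (hr1.dvd_of_dvd_pow h))
          · exact Or.inr ((Nat.prime_dvd_prime_iff_eq hr1 hq).1 (hr1.dvd_of_dvd_pow h))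
        · exact Or.inl ((Nat.prime_dvd_prime_iff_eq hr1 Fact.out).1 (hr1.dvd_of_dvd_pow h))
      have := Finset.card_le_card hsub
      have h2 := Finset.card_le_two (a := p) (b := q)
      omega
    have hall : Nat.card P ∣ Nat.card M := by
      refine (Nat.factorization_le_iff_dvd Nat.card_pos.ne' Nat.card_pos.ne').1 fun q => ?_
      by_cases hq : q.Prime ∧ q ∣ Nat.card P
      · obtain ⟨k, h1, h2⟩ := hbad q hq.1 hq.2
        exact (hq.1.pow_dvd_iff_le_factorization Nat.card_pos.ne').1 (h1.trans h2)
      · have h0 : (Nat.card P).factorization q = 0 := by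
          rw [Nat.factorization_eq_zero_iff]
          by_cases h : q.Prime
          · exact Or.inr (Or.inl fun hd => hq ⟨h, hd⟩)
          · exact Or.inl h
        rw [h0]; exact Nat.zero_le _
    exact hM.1 (Subgroup.eq_top_of_card_eq M (Nat.dvd_antisymm (Subgroup.card_subgroup_dvd_card M) hall))
  · intro N hN
    exact CfsgLib.Amalgam.pmin_normal_dichotomy hP hM hSM N
  · intro N hN hFN hN'
    rcases CfsgLib.Amalgam.pmin_normal_dichotomy hP hM hSM N with h | h
    · exact Or.inr (le_antisymm hN' (sup_le h hFN))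
    · exact Or.inl (le_antisymm h hFN)
  · refine lt_of_le_of_ne le_sup_right fun e => CfsgLib.Amalgam.pmin_not_residual_le hP hM hSM ?_
    exact e ▸ le_sup_left

end Cfsg.Agent.S2905
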