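import Cfsg.Statements.S2907
import Mathlib.GroupTheory.Commutator.Basic

set_option autoImplicit false
open Cfsg
open scoped commutatorElement

namespace Cfsg.Agent.S2907

/-- Let X be a finite semi-extraspecial p-group and x an element of X outside the centre. Then the index of C_X(x) in X equals the order of Z(X), and the commutators [x, y], y ∈ X, form exactly the centre Z(X). -/
theorem result {X : Type*} [Group X] [Finite X] {p : ℕ} [Fact p.Prime] (hX : Cfsg.IsSemiExtraspecial p X) (x : X) (hx : x ∉ Subgroup.center X) : (Subgroup.centralizer ({x} : Set X)).index = Nat.card ↥(Subgroup.center X) ∧ {z : X | ∃ y : X, z = x * y * x⁻¹ * y⁻¹} = (Subgroup.center X : Set X) := by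
  obtain ⟨⟨hXp, -, hder⟩, hY⟩ := hX
  have hmemZ : ∀ a b : X, ⁅a, b⁆ ∈ Subgroup.center X := fun a b => by
    rw [← hder, commutator_def]
    exact Subgroup.commutator_mem_commutator (Subgroup.mem_top a) (Subgroup.mem_top b)
  let φ : X →* X := MonoidHom.mk' (fun y => ⁅x, y⁆) fun a b => by
    show ⁅x, a * b⁆ = ⁅x, a⁆ * ⁅x, b⁆
    have h := Subgroup.mem_center_iff.1 (hmemZ x b) a
    calc ⁅x, a * b⁆ = ⁅x, a⁆ * (a * ⁅x, b⁆ * a⁻¹) := by simp [commutatorElement_def, mul_assoc]
      _ = _ := by rw [h, mul_inv_cancel_right]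
  have hset : {z : X | ∃ y : X, z = x * y * x⁻¹ * y⁻¹} = (φ.range : Set X) := by
    ext z; exact ⟨fun ⟨y, hy⟩ => ⟨y, hy.symm⟩, fun ⟨y, hy⟩ => ⟨y, hy.symm⟩⟩
  have hker : φ.ker = Subgroup.centralizer ({x} : Set X) := by
    ext y
    rw [MonoidHom.mem_ker, Subgroup.mem_centralizer_singleton_iff]
    exact commutatorElement_eq_one_iff_mul_comm.trans eq_comm
  have hrange : φ.range = Subgroup.center X := by
    have hle : φ.range ≤ Subgroup.center X := by rintro _ ⟨y, rfl⟩; exact hmemZ x y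
    by_contra hne
    obtain ⟨M, hM, hRM⟩ := (eq_top_or_exists_le_coatom (φ.range.subgroupOf (Subgroup.center X))).resolve_left
      (fun h => hne (le_antisymm hle (Subgroup.subgroupOf_eq_top.1 h)))
    set Y := M.map (Subgroup.center X).subtype with hYdef
    have hYsub : Y.subgroupOf (Subgroup.center X) = M :=
      Subgroup.comap_map_eq_self_of_injective (Subgroup.center X).subtype_injective M
    obtain ⟨hn, hES⟩ := hY Y (Subgroup.map_subtype_le _) (hYsub ▸ hM)
    have hxc : (x : X ⧸ Y) ∈ Subgroup.center (X ⧸ Y) := by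
      rw [Subgroup.mem_center_iff]
      intro q
      obtain ⟨y, rfl⟩ := QuotientGroup.mk_surjective q
      rw [← QuotientGroup.mk_mul, ← QuotientGroup.mk_mul, eq_comm, QuotientGroup.eq]
      have : ⁅x, y⁆ ∈ Y := ⟨⟨_, hmemZ x y⟩, hRM (show ⁅x, y⁆ ∈ φ.range from ⟨y, rfl⟩), rfl⟩
      have h2 := hn.conj_mem _ (inv_mem this) (x⁻¹ * y⁻¹ * x * y)
      have h3 : x⁻¹ * y⁻¹ * x * y * ⁅x, y⁆⁻¹ * (x⁻¹ * y⁻¹ * x * y)⁻¹ = ⁅x, y⁆⁻¹ := by
        rw [Subgroup.mem_center_iff.1 (inv_mem (hmemZ x y)), mul_inv_cancel_right]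
      have h4 := hn.conj_mem _ (inv_mem this) (x * y)⁻¹
      convert h4 using 1
      simp [commutatorElement_def, mul_assoc]
    have hmap : (Subgroup.center X).map (QuotientGroup.mk' Y) = Subgroup.center (X ⧸ Y) := by
      have hle' : (Subgroup.center X).map (QuotientGroup.mk' Y) ≤ Subgroup.center (X ⧸ Y) := by
        rintro _ ⟨z, hz, rfl⟩
        rw [Subgroup.mem_center_iff]
        intro q
        obtain ⟨y, rfl⟩ := QuotientGroup.mk'_surjective Y q
        rw [← map_mul, ← map_mul, Subgroup.mem_center_iff.1 hz y]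
      refine Subgroup.eq_of_le_of_card_ge hle' ?_
      rw [hES.2]
      haveI : Nontrivial ((Subgroup.center X).map (QuotientGroup.mk' Y)) := by
        rw [Subgroup.nontrivial_iff_ne_bot]
        intro hb
        rw [Subgroup.map_eq_bot_iff, QuotientGroup.ker_mk'] at hb
        exact hM.1 (hYsub ▸ Subgroup.subgroupOf_eq_top.2 hb)
      obtain ⟨k, hk, hcard⟩ := ((hXp.to_subgroup (Subgroup.center X)).map (QuotientGroup.mk' Y)).nontrivial_iff_card.1 inferInstance
      rw [hcard]
      exact Nat.le_of_dvd (pow_pos (Fact.out : p.Prime).pos k) (dvd_pow_self p hk.ne')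
    rw [← hmap] at hxc
    obtain ⟨z, hz, hzx⟩ := hxc
    apply hx
    have h1 : z⁻¹ * x ∈ Y := QuotientGroup.eq.1 hzx
    have h2 : z⁻¹ * x ∈ Subgroup.center X := Subgroup.map_subtype_le _ h1
    simpa using mul_mem hz h2
  refine ⟨?_, ?_⟩
  · rw [← hker, Subgroup.index_ker, hrange]
  · rw [hset, hrange]

end Cfsg.Agent.S2907
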