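import Cfsg.Statements.S2909
import Cfsg.Agent.Lib.Amalgam.OmegaCentralizes
import Cfsg.Agent.Lib.Comp.Local
import Cfsg.Agent.Lib.Comp.Signalizer
import Cfsg.Agent.Lib.Coprime.Generation
import Cfsg.Agent.Lib.Amalgam.FStarCommutator

set_option autoImplicit false
open Cfsg

namespace Cfsg.Agent.S2909

open Subgroup

theorem piece_centralizes {G : Type*} [Group G] [Finite G] {p : ℕ} [Fact p.Prime] {E U Q : Subgroup G} [E.Normal]
    (hE : IsPGroup p E) (hU : IsPGroup p U) (hUab : U ≤ centralizer (U : Set G)) {u : G} (hu : u ∈ U)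
    (hQ : (Nat.card Q).Coprime p) (hUQ : U ≤ normalizer (Q : Set G)) (hQu : Q ≤ centralizer ({u} : Set G))
    (hcond : E ⊓ centralizer (U : Set G) = E ⊓ centralizer ({u} : Set G) ∨ ⁅E, U⁆ = ⁅E, zpowers u⁆) :
    ⁅Q, U⁆ ≤ centralizer (E : Set G) := by
  set K := ⁅Q, U⁆ with hK
  have hKQ : K ≤ Q := le_normalizer_iff_commutator_le_left.1 hUQ
  have hKcop : (Nat.card K).Coprime p := Nat.Coprime.coprime_dvd_left (card_dvd_of_le hKQ) hQ
  have hQz : Q ≤ centralizer (zpowers u : Set G) := fun q hq z hz => by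
    obtain ⟨k, rfl⟩ := mem_zpowers_iff.1 hz
    exact (Commute.zpow_left (show Commute u q from (mem_centralizer_singleton_iff.1 (hQu hq)).symm) k)
  have hEn : ∀ M : Subgroup G, M ≤ normalizer (E : Set G) := fun M => by rw [normalizer_eq_top]; exact le_top
  rcases hcond with h | h
  · refine CfsgLib.Comp.le_centralizer_of_centralizes_fixed (P := zpowers u) hE (hU.to_le (zpowers_le.2 hu)) hKcop
      (hEn _) (hEn _) (hKQ.trans hQz) ?_
    rw [show E ⊓ centralizer (zpowers u : Set G) = E ⊓ centralizer (U : Set G) by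
      rw [h, CfsgLib.Comp.centralizer_zpowers]]
    rw [← commutator_eq_bot_iff_le_centralizer]
    refine commutator_commutator_eq_bot_of_rotate ?_ ?_
    · rw [commutator_comm U, commutator_eq_bot_iff_le_centralizer.2
        (inf_le_right : E ⊓ centralizer (U : Set G) ≤ centralizer (U : Set G)), commutator_bot_left]
    · rw [eq_bot_iff, ← commutator_eq_bot_iff_le_centralizer.2 (inf_le_right : E ⊓ centralizer (U : Set G) ≤ centralizer (U : Set G))]
      refine commutator_mono (le_normalizer_iff_commutator_le_left.1 ?_) le_rfl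
      rw [h]
      exact CfsgLib.Comp.le_normalizer_inf (hEn Q)
        (CfsgLib.Comp.le_normalizer_centralizer (H := zpowers u) ((hQz.trans (CfsgLib.Comp.centralizer_le_normalizer _))) |>.trans
          (by rw [CfsgLib.Comp.centralizer_zpowers]))
  · set W := ⁅E, U⁆ with hW
    have hQW : Q ≤ normalizer (W : Set G) := by
      intro q hq
      rw [h]
      refine CfsgLib.Comp.map_conj_eq_iff.1 ?_
      rw [map_commutator, CfsgLib.Comp.map_conj_eq_iff.2 (hEn Q hq),
        CfsgLib.Comp.map_conj_eq_iff.2 (CfsgLib.Comp.centralizer_le_normalizer _ (hQz hq))]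
    let N : Subgroup G :=
      { carrier := {g | g ∈ normalizer (W : Set G) ∧ ∀ e ∈ E, g * e * g⁻¹ * e⁻¹ ∈ W}
        one_mem' := ⟨one_mem _, fun e _ => by simp⟩
        mul_mem' := by
          rintro a b ⟨ha, ha'⟩ ⟨hb, hb'⟩
          refine ⟨mul_mem ha hb, fun e he => ?_⟩
          rw [show a * b * e * (a * b)⁻¹ * e⁻¹ = (a * (b * e * b⁻¹ * e⁻¹) * a⁻¹) * (a * e * a⁻¹ * e⁻¹) by group]
          exact mul_mem ((mem_normalizer_iff.1 ha _).1 (hb' e he)) (ha' e he)
        inv_mem' := by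
          rintro a ⟨ha, ha'⟩
          refine ⟨inv_mem ha, fun e he => ?_⟩
          rw [show a⁻¹ * e * a⁻¹⁻¹ * e⁻¹ = a⁻¹ * (a * e * a⁻¹ * e⁻¹)⁻¹ * a⁻¹⁻¹ by group]
          exact (mem_normalizer_iff.1 (inv_mem ha) _).1 (inv_mem (ha' e he)) }
    have hUN : U ≤ N := fun v hv => ⟨normalizer_commutator_ge_right E U hv, fun e he => by
      rw [show v * e * v⁻¹ * e⁻¹ = (e * v * e⁻¹ * v⁻¹)⁻¹ by group]
      exact inv_mem (commutator_mem_commutator he hv)⟩
    have hKN : K ≤ N := commutator_le.2 fun q hq v hv => by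
      show q * v * q⁻¹ * v⁻¹ ∈ N
      refine N.mul_mem ?_ (inv_mem (hUN hv))
      refine ⟨mul_mem (mul_mem (hQW hq) (hUN hv).1) (inv_mem (hQW hq)), fun e he => ?_⟩
      rw [show q * v * q⁻¹ * e * (q * v * q⁻¹)⁻¹ * e⁻¹ =
        q * (v * (q⁻¹ * e * q) * v⁻¹ * (q⁻¹ * e * q)⁻¹) * q⁻¹ by group]
      refine (mem_normalizer_iff.1 (hQW hq) _).1 ((hUN hv).2 _ ?_)
      simpa using (inferInstance : E.Normal).conj_mem e he q⁻¹
    have hzero : ⁅E, K⁆ = ⊥ := by
      refine CfsgLib.Amalgam.commutator_eq_bot_of_le_commutator hE (hU.to_le (zpowers_le.2 hu))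
        ((Nat.Prime.coprime_iff_not_dvd Fact.out).1 hKcop.symm) (hEn _) (hEn _) ?_ ?_
      · exact commutator_eq_bot_iff_le_centralizer.2 (CfsgLib.Comp.le_centralizer_symm (hKQ.trans hQz))
      · rw [← h]
        refine commutator_le.2 fun e he k hk => ?_
        show e * k * e⁻¹ * k⁻¹ ∈ W
        rw [show e * k * e⁻¹ * k⁻¹ = (k * e * k⁻¹ * e⁻¹)⁻¹ by group]
        exact inv_mem ((hKN hk).2 e he)
    exact CfsgLib.Comp.le_centralizer_symm (commutator_eq_bot_iff_le_centralizer.1 hzero)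

/-- Let p be a prime, E a normal p-subgroup of the finite group G, and U a non-cyclic elementary abelian p-subgroup of G such that either C_E(U) = C_E(u) for every nontrivial u ∈ U, or [E, U] = [E, ⟨u⟩] for every nontrivial u ∈ U. If R is a subgroup of order prime to p normalized by U, then [R, U] centralizes E. -/
theorem result {G : Type*} [Group G] [Finite G] {p : ℕ} [Fact p.Prime] (E : Subgroup G) [E.Normal] (hE : IsPGroup p ↥E) (U : Subgroup G) (hU : Cfsg.IsElementaryAbelian p U) (hnc : ¬ IsCyclic ↥U) (hcond : (∀ u ∈ U, u ≠ 1 → E ⊓ Subgroup.centralizer (U : Set G) = E ⊓ Subgroup.centralizer ({u} : Set G)) ∨ (∀ u ∈ U, u ≠ 1 → ⁅E, U⁆ = ⁅E, Subgroup.zpowers u⁆)) (R : Subgroup G) (hR : ¬ p ∣ Nat.card ↥R) (hRU : U ≤ Subgroup.normalizer (R : Set G)) : ⁅R, U⁆ ≤ Subgroup.centralizer (E : Set G) := by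
  have hUab : U ≤ Subgroup.centralizer (U : Set G) := Subgroup.le_centralizer_iff_isMulCommutative.2 hU.1
  have hUp : IsPGroup p U := CfsgLib.Comp.isPGroup_of_elemAb hU
  have hRc : (Nat.card R).Coprime p := ((Nat.Prime.coprime_iff_not_dvd Fact.out).2 hR).symm
  have hcop : (Nat.card U).Coprime (Nat.card R) := by
    obtain ⟨k, hk⟩ := hUp.exists_card_eq
    rw [hk]; exact (hRc.pow_right k).symm
  have hgen := CfsgLib.Coprime.iSup_centralizer_eq hU.1 hnc hRU hcop
  haveI : (Subgroup.centralizer (E : Set G)).Normal := inferInstance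
  have hall : ∀ M : Subgroup G, M ≤ Subgroup.normalizer ((Subgroup.centralizer (E : Set G) : Subgroup G) : Set G) := fun M => by
    rw [Subgroup.normalizer_eq_top]; exact le_top
  rw [← hgen, ← sSup_range]
  refine CfsgLib.Amalgam.commutator_sSup_left_le ?_
  rintro _ ⟨⟨u, hu, hu1⟩, rfl⟩
  refine ⟨hall _, piece_centralizes hE hUp hUab hu
    (Nat.Coprime.coprime_dvd_left (Subgroup.card_dvd_of_le inf_le_left) hRc) ?_ inf_le_right ?_⟩
  · refine CfsgLib.Comp.le_normalizer_inf hRU ((hUab.trans (Subgroup.centralizer_le ?_)).trans Subgroup.le_normalizer)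
    simpa using hu
  · rcases hcond with h | h
    · exact Or.inl (h u hu hu1)
    · exact Or.inr (h u hu hu1)

end Cfsg.Agent.S2909
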