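import Cfsg.Statements.S2910
import Cfsg.Agent.Lib.Amalgam.OmegaCentralizes
import Cfsg.Agent.Lib.Transfer.Frobenius
import Cfsg.Agent.Lib.Transfer.Basic
import Cfsg.Agent.Lib.Comp.Quasisimple

set_option autoImplicit false
open Cfsg

namespace Cfsg.Agent.S2910

/-- Let p be an odd prime dividing the order of the finite group G and P a Sylow p-subgroup of G. If Ω₁(P) (generated by the elements of order dividing p) is contained in the centre of G, then G has a normal p-complement. In particular, if G is quasisimple then Ω₁(P) is not central in G. -/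
theorem result {G : Type*} [Group G] [Finite G] {p : ℕ} [Fact p.Prime] (hp : p ≠ 2) (hdiv : p ∣ Nat.card G) (P : Sylow p G) (hZ : Cfsg.omegaOne p (P : Subgroup G) ≤ Subgroup.center G) : Cfsg.HasNormalPComplement p G ∧ ¬ Cfsg.IsQuasisimple G := by
  have hcen : ∀ x : G, x ^ p = 1 → x ∈ Subgroup.center G := by
    intro x hx
    obtain ⟨Q, hQ⟩ := (IsPGroup.to_le (H := Subgroup.zpowers x) (by
      intro y
      obtain ⟨k, hk⟩ := Subgroup.mem_zpowers_iff.1 y.2
      refine ⟨1, Subtype.ext ?_⟩
      show (y : G) ^ p ^ 1 = 1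
      rw [← hk, pow_one, ← zpow_natCast (x ^ k), ← zpow_mul, mul_comm, zpow_mul, zpow_natCast, hx, one_zpow]) le_rfl).exists_le_sylow
    obtain ⟨g, rfl⟩ := MulAction.exists_smul_eq G P Q
    obtain ⟨w, hw, hwx⟩ := hQ (Subgroup.mem_zpowers x)
    have hwp : w ^ p = 1 := by
      apply (MulAut.conj g).injective
      rw [map_pow, map_one, ← hx]
      exact congrArg (· ^ p) hwx
    have hwc : w ∈ Subgroup.center G := hZ (Subgroup.subset_closure ⟨hw, hwp⟩)
    have : x = w := by
      rw [← hwx]
      show g * w * g⁻¹ = w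
      rw [Subgroup.mem_center_iff.1 hwc g, mul_inv_cancel_right]
    rw [this]; exact hwc
  have hc : Cfsg.HasNormalPComplement p G := by
    rw [CfsgLib.Transfer.hasNormalPComplement_iff_frobenius]
    intro D hD g hg hgp
    exact CfsgLib.Amalgam.mem_centralizer_of_fixes_omega hp hD hg hgp fun x _ hxp => Subgroup.mem_center_iff.1 (hcen x hxp) g
  refine ⟨hc, fun hq => ?_⟩
  haveI := hq.1
  have h1 : (Nat.card (Cfsg.pResidual p G)).Coprime p := CfsgLib.Transfer.hasNormalPComplement_iff_coprime_pResidual.1 hc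
  haveI hn := CfsgLib.Transfer.pResidual_normal (G := G) (p := p)
  have hnil : Group.IsNilpotent (G ⧸ Cfsg.pResidual p G) :=
    (CfsgLib.Transfer.isPGroup_quotient_of_pResidual_le (p := p) (N := Cfsg.pResidual p G) le_rfl).isNilpotent
  have htop : Cfsg.pResidual p G = ⊤ := by
    have hser : ∀ k, (⊤ : Subgroup (G ⧸ Cfsg.pResidual p G)) ≤ (⊤ : Subgroup (G ⧸ Cfsg.pResidual p G)).lowerCentralSeries k := by
      intro k
      induction k with
      | zero => simp
      | succ k ih =>
        conv_lhs => rw [← Subgroup.map_top_of_surjective _ (QuotientGroup.mk'_surjective (Cfsg.pResidual p G)),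
          ← Group.IsPerfect.commutator_eq_top (G := G), commutator_def, Subgroup.map_commutator]
        exact Subgroup.commutator_mono ((le_top).trans ih) le_top
    obtain ⟨k, hk⟩ := Subgroup.nilpotent_iff_lowerCentralSeries.1 hnil
    refine eq_top_iff.2 fun x _ => (QuotientGroup.eq_one_iff x).1 (Subgroup.mem_bot.1 (hk ▸ hser k trivial))
  rw [htop, Subgroup.card_top] at h1
  exact (Nat.Prime.coprime_iff_not_dvd Fact.out).1 h1.symm hdiv

end Cfsg.Agent.S2910
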