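import Cfsg.Statements.S2911
import Cfsg.Agent.Lib.Amalgam.CentralTransfer
import Mathlib.GroupTheory.SpecificGroups.Dihedral

set_option autoImplicit false
open Cfsg

namespace Cfsg.Agent.S2911

abbrev M := Multiplicative (ZMod 2) × DihedralGroup 4

def cM : M := (Multiplicative.ofAdd 1, 1)
def zM : M := (1, DihedralGroup.r 2)

theorem sq_mem : ∀ y : M, y * y = 1 ∨ y * y = zM := by decide

theorem center_mem : ∀ x : M, (∀ y : M, x * y = y * x) → x = 1 ∨ x = zM ∨ x = cM ∨ x = cM * zM := by decide

theorem cM_sq : cM * cM = 1 := by decide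

theorem cM_fst : ¬ (MonoidHom.fst (Multiplicative (ZMod 2)) (DihedralGroup 4)) cM = 1 := by decide

theorem cM_central : ∀ y : M, cM * y = y * cM := by decide

theorem model_fix (τ : M ≃* M) : τ (τ cM) = cM := by
  have hz : τ zM = zM := by
    have h : zM = (1, DihedralGroup.r 1) * (1, DihedralGroup.r 1) := by decide
    rcases sq_mem (τ (1, DihedralGroup.r 1)) with h1 | h1
    · rw [← map_mul, ← h] at h1
      exact absurd ((map_eq_one_iff τ τ.injective).1 h1) (by decide)
    · rwa [← map_mul, ← h] at h1
  have hc : ∀ y : M, τ cM * y = y * τ cM := fun y => by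
    obtain ⟨y, rfl⟩ := τ.surjective y
    rw [← map_mul, ← map_mul, cM_central]
  rcases center_mem _ hc with h | h | h | h
  · exact absurd ((map_eq_one_iff τ τ.injective).1 h) (by decide)
  · exact absurd (τ.injective (h.trans hz.symm)) (by decide)
  · rw [h, h]
  · rw [h, map_mul, h, hz]; decide

/-- A finite group whose Sylow 2-subgroups are isomorphic to the direct product of a group of order 2 and a dihedral group of order 8 has a subgroup of index two. -/
theorem result {G : Type*} [Group G] [Finite G] (S : Sylow 2 G) (hS : Nonempty (↥(S : Subgroup G) ≃* Multiplicative (ZMod 2) × DihedralGroup 4)) : ∃ H : Subgroup G, H.index = 2 := by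
  obtain ⟨e⟩ := hS
  haveI : Fact (Nat.Prime 2) := ⟨Nat.prime_two⟩
  set c : ↥(S : Subgroup G) := e.symm cM with hcdef
  let pr : ↥(S : Subgroup G) →* Multiplicative (ZMod 2) := (MonoidHom.fst _ _).comp e.toMonoidHom
  have hpr : Function.Surjective pr := fun u => ⟨e.symm (u, 1), by simp [pr]⟩
  have hQ : pr.ker.index = 2 := by
    rw [Subgroup.index_ker, MonoidHom.range_eq_top.2 hpr, Subgroup.card_top]
    simp
  have hcc : ∀ s : ↥(S : Subgroup G), s * c = c * s := fun s => by
    apply e.injective
    simp [c, cM_central]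
  have hc2 : c * c = 1 := by
    apply e.injective
    simp only [c, map_mul, MulEquiv.apply_symm_apply, map_one]
    exact cM_sq
  have hcQ : c ∉ pr.ker := by
    simp only [MonoidHom.mem_ker, pr, c, MonoidHom.comp_apply, MulEquiv.coe_toMonoidHom, MulEquiv.apply_symm_apply]
    exact cM_fst
  suffices hfix : ∀ g ∈ Subgroup.normalizer ((S : Subgroup G) : Set G), g * (c : G) * g⁻¹ = c by
    obtain ⟨N, -, hN, -⟩ := CfsgLib.Amalgam.exists_index_two_not_mem_of_central S hQ c.2
      (by rw [pow_two]; exact congrArg Subtype.val hc2)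
      (fun s hs => congrArg Subtype.val (hcc ⟨s, hs⟩)) hcQ hfix
    exact ⟨N, hN⟩
  intro g hg
  -- `g` induces an automorphism of square acting trivially on `c`
  let σ : MulAut ↥(S : Subgroup G) := (S : Subgroup G).normalizerMonoidHom ⟨g, hg⟩
  have h2 : σ (σ c) = c := by
    have h := model_fix ((e.symm.trans σ).trans e)
    simpa [c] using congrArg e.symm h
  have h2' : g * (g * (c : G) * g⁻¹) * g⁻¹ = c := congrArg Subtype.val h2
  -- an odd power of `g` lies in `S`
  set N := Subgroup.normalizer ((S : Subgroup G) : Set G)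
  haveI : ((S : Subgroup G).subgroupOf N).Normal := Subgroup.normal_in_normalizer
  set m := ((S : Subgroup G).subgroupOf N).index with hm
  have hodd : Odd m := Nat.not_even_iff_odd.1 fun h =>
    S.not_dvd_index ((even_iff_two_dvd.1 h).trans (Subgroup.relIndex_dvd_index_of_le Subgroup.le_normalizer))
  have hgm : g ^ m ∈ (S : Subgroup G) := by
    have := Subgroup.pow_index_mem ((S : Subgroup G).subgroupOf N) ⟨g, hg⟩
    simpa [Subgroup.mem_subgroupOf] using this
  obtain ⟨j, hj⟩ := hodd
  have hfix2 : Commute (g ^ 2) (c : G) := by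
    rw [pow_two]
    exact mul_inv_eq_iff_eq_mul.1 (Eq.trans (by group) h2')
  have hfixm : Commute (g ^ m) (c : G) := congrArg Subtype.val (hcc ⟨_, hgm⟩)
  rw [hj, pow_succ, pow_mul] at hfixm
  have hg1 : Commute g (c : G) := by
    have h := (hfix2.pow_left j).inv_left.mul_left hfixm
    simpa using h
  rw [hg1.eq, mul_inv_cancel_right]

end Cfsg.Agent.S2911
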