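import Cfsg.Statements.S3334
import Cfsg.Agent.Lib.Recog.McLInv.Final

set_option autoImplicit false
open Cfsg

namespace Cfsg.Agent.S3334

/-- Let G be a finite group with an involution t whose centralizer is a non-split double cover of the alternating group of degree 8. Then either G = C_G(t) O_{2'}(G), or G is isomorphic to the McLaughlin group. -/
theorem result {G : Type*} [Group G] [Finite G]
    (t : G) (ht : orderOf t = 2)
    (hcov : Cfsg.IsNonsplitDoubleCover (Subgroup.centralizer ({t} : Set G)) (alternatingGroup (Fin 8))) :
    Subgroup.centralizer ({t} : Set G) ⊔ Cfsg.oddCore G = ⊤ ∨ Nonempty (G ≃* Cfsg.Spor.McL) := by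
  exact CfsgLib.Recog.McLInv.recognise t ht hcov

end Cfsg.Agent.S3334
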