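import Cfsg.Statements.S2925
import Cfsg.Agent.Lib.Amalgam.CharPLocal
import Cfsg.Agent.Lib.Comp.Components

set_option autoImplicit false
set_option linter.style.haveILetI false
open Cfsg

namespace Cfsg.Agent.S2925

/-- Let K be a component of the finite group X and T a Sylow 2-subgroup of X. If some abelian normal subgroup Y of T does not normalize K, then K ⧸ Z(K) has abelian Sylow 2-subgroups. -/
theorem result {X : Type*} [Group X] [Finite X] (K : Subgroup X) (hK : Cfsg.IsComponent K) (T : Sylow 2 X) (Y : Subgroup X) (hYT : Y ≤ (T : Subgroup X)) (hYn : (Y.subgroupOf (T : Subgroup X)).Normal) (hYab : IsMulCommutative ↥Y) (hnot : ¬ Y ≤ Subgroup.normalizer (K : Set X)) (P : Sylow 2 (↥K ⧸ Subgroup.center ↥K)) : IsMulCommutative ↥(P : Subgroup (↥K ⧸ Subgroup.center ↥K)) := by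
  open Subgroup CfsgLib.Comp in
  obtain ⟨y, hy, hyn⟩ := SetLike.not_le_iff_exists.1 hnot
  have hne : K.map (MulAut.conj y).toMonoidHom ≠ K := fun e => hyn (map_conj_eq_iff.1 e)
  have hcomm : ∀ k ∈ K, ∀ l ∈ K, k * (y * l * y⁻¹) = (y * l * y⁻¹) * k := fun k hk l hl =>
    (mem_centralizer_iff.1 (((component_eq_or_le_centralizer (isComponent_map_conj hK y) hK).resolve_left hne)
      ⟨l, hl, rfl⟩) k hk)
  obtain ⟨TK, hTK⟩ := CfsgLib.Amalgam.exists_sylow_subnormal T hK.1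
  set π := QuotientGroup.mk' (center ↥K)
  have hπ : Function.Surjective π := QuotientGroup.mk'_surjective _
  have key : ∀ t ∈ (TK : Subgroup K), ∀ u ∈ (TK : Subgroup K), π t * π u = π u * π t := by
    intro t ht u hu
    rw [hTK, mem_subgroupOf] at ht hu
    have hmem : ∀ s : K, (s : X) ∈ (T : Subgroup X) → y * (s : X) * y⁻¹ * (s : X)⁻¹ ∈ Y := by
      intro s hs
      have h1 := hYn.conj_mem ⟨y⁻¹, inv_mem (hYT hy)⟩ (mem_subgroupOf.2 (inv_mem hy)) ⟨s, hs⟩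
      rw [mem_subgroupOf] at h1
      have e : y * (s : X) * y⁻¹ * (s : X)⁻¹ = y * ((s : X) * y⁻¹ * (s : X)⁻¹) := by group
      rw [e]
      exact mul_mem hy h1
    have hab : (y * (t : X) * y⁻¹ * (t : X)⁻¹) * (y * (u : X) * y⁻¹ * (u : X)⁻¹) =
        (y * (u : X) * y⁻¹ * (u : X)⁻¹) * (y * (t : X) * y⁻¹ * (t : X)⁻¹) :=
      congrArg Subtype.val (hYab.is_comm.comm ⟨_, hmem t ht⟩ ⟨_, hmem u hu⟩)
    set k := (t : X)⁻¹ * (u : X)⁻¹ * ((u : X)⁻¹ * (t : X)⁻¹)⁻¹ with hk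
    have hkK : k ∈ K := mul_mem (mul_mem (inv_mem t.2) (inv_mem u.2))
      (inv_mem (mul_mem (inv_mem u.2) (inv_mem t.2)))
    set l := ((t : X) * (u : X))⁻¹ * ((u : X) * (t : X)) with hl
    have hlK : l ∈ K := mul_mem (inv_mem (mul_mem t.2 u.2)) (mul_mem u.2 t.2)
    -- separate the two factors
    have e1 : (y * ((t : X) * (u : X)) * y⁻¹) * ((t : X)⁻¹ * (u : X)⁻¹) =
        (y * ((u : X) * (t : X)) * y⁻¹) * ((u : X)⁻¹ * (t : X)⁻¹) := by
      have c1 := hcomm _ (inv_mem t.2) _ u.2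
      have c2 := hcomm _ (inv_mem u.2) _ t.2
      calc (y * ((t : X) * (u : X)) * y⁻¹) * ((t : X)⁻¹ * (u : X)⁻¹)
          = (y * (t : X) * y⁻¹) * ((y * (u : X) * y⁻¹) * (t : X)⁻¹) * (u : X)⁻¹ := by group
        _ = (y * (t : X) * y⁻¹) * ((t : X)⁻¹ * (y * (u : X) * y⁻¹)) * (u : X)⁻¹ := by rw [c1]
        _ = (y * (t : X) * y⁻¹ * (t : X)⁻¹) * (y * (u : X) * y⁻¹ * (u : X)⁻¹) := by group
        _ = (y * (u : X) * y⁻¹ * (u : X)⁻¹) * (y * (t : X) * y⁻¹ * (t : X)⁻¹) := hab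
        _ = (y * (u : X) * y⁻¹) * ((u : X)⁻¹ * (y * (t : X) * y⁻¹)) * (t : X)⁻¹ := by group
        _ = (y * (u : X) * y⁻¹) * ((y * (t : X) * y⁻¹) * (u : X)⁻¹) * (t : X)⁻¹ := by rw [c2]
        _ = _ := by group
    have e2 : k = y * l * y⁻¹ := by
      have h1 : (t : X)⁻¹ * (u : X)⁻¹ = (y * ((t : X) * (u : X)) * y⁻¹)⁻¹ *
          ((y * ((u : X) * (t : X)) * y⁻¹) * ((u : X)⁻¹ * (t : X)⁻¹)) := by
        rw [← e1]; group
      rw [hk, hl, h1]
      group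
    have hkc : (⟨k, hkK⟩ : K) ∈ center ↥K := mem_center_iff.2 fun z => Subtype.ext (by
      change (z : X) * k = k * (z : X)
      rw [e2]; exact hcomm z z.2 l hlK)
    have h2 : π (t⁻¹ * u⁻¹ * (u⁻¹ * t⁻¹)⁻¹) = 1 := (QuotientGroup.eq_one_iff _).2 (by
      have e : (⟨k, hkK⟩ : K) = t⁻¹ * u⁻¹ * (u⁻¹ * t⁻¹)⁻¹ := Subtype.ext hk
      rwa [e] at hkc)
    rw [map_mul, map_mul, map_inv, map_inv, map_inv, mul_inv_eq_one, map_mul, map_inv, map_inv] at h2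
    have := congrArg (·⁻¹) h2
    simpa [mul_inv_rev] using this.symm
  obtain ⟨g, hg⟩ := MulAction.exists_smul_eq (↥K ⧸ center ↥K) (TK.mapSurjective hπ) P
  refine ⟨⟨fun a b => Subtype.ext ?_⟩⟩
  have ha := a.2
  have hb := b.2
  simp only [← hg, Sylow.coe_subgroup_smul, Sylow.coe_mapSurjective] at ha hb
  obtain ⟨_, ⟨t, ht, rfl⟩, hat⟩ := ha
  obtain ⟨_, ⟨u, hu, rfl⟩, hbu⟩ := hb
  change g * π t * g⁻¹ = (a : ↥K ⧸ center ↥K) at hat
  change g * π u * g⁻¹ = (b : ↥K ⧸ center ↥K) at hbu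
  change (a : ↥K ⧸ center ↥K) * b = b * a
  rw [← hat, ← hbu]
  calc g * π t * g⁻¹ * (g * π u * g⁻¹) = g * (π t * π u) * g⁻¹ := by group
    _ = g * (π u * π t) * g⁻¹ := by rw [key t ht u hu]
    _ = _ := by group

end Cfsg.Agent.S2925
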