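import Cfsg.Statements.S2928
import Cfsg.Agent.Lib.Amalgam.DoubleTransp

set_option autoImplicit false
open Cfsg

namespace Cfsg.Agent.S2928

open Equiv Equiv.Perm CfsgLib.Amalgam

/-- Permutations of `Fin m × ZMod 2` permuting fibres as the involution `pr` allows. -/
def blockTwoGroup {m : ℕ} (pr : Fin m → Fin m) (hpr : ∀ i, pr (pr i) = i) :
    Subgroup (Perm (Fin m × ZMod 2)) where
  carrier := {g | ∃ σ : Perm (Fin m), (∀ i, σ i = i ∨ σ i = pr i) ∧
    ∃ v : Fin m → ZMod 2, ∀ x, g x = (σ x.1, x.2 + v x.1)}
  one_mem' := ⟨1, fun i => Or.inl rfl, 0, fun x => by simp⟩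
  mul_mem' := by
    rintro a b ⟨σ, hσ, v, hv⟩ ⟨τ, hτ, w, hw⟩
    refine ⟨σ * τ, fun i => ?_, fun i => w i + v (τ i), fun x => ?_⟩
    · rw [Perm.mul_apply]
      rcases hτ i with h | h <;> rw [h]
      · exact hσ i
      · rcases hσ (pr i) with h' | h' <;> rw [h']
        · exact Or.inr rfl
        · exact Or.inl (hpr i)
    · rw [Perm.mul_apply, hw, hv]
      ext
      · rfl
      · simp [add_assoc]
  inv_mem' := by
    rintro a ⟨σ, hσ, v, hv⟩
    refine ⟨σ⁻¹, fun i => ?_, fun i => -v (σ⁻¹ i), fun x => ?_⟩
    · rcases hσ (σ⁻¹ i) with h | h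
      · left; rw [Perm.inv_def, Equiv.apply_symm_apply] at h; exact h.symm
      · right
        rw [Perm.inv_def, Equiv.apply_symm_apply] at h
        have := congrArg pr h
        rw [hpr] at this
        exact this.symm
    · rw [Perm.inv_eq_iff_eq, hv]
      ext
      · simp
      · show x.2 = x.2 + -v (σ⁻¹ x.1) + v (σ⁻¹ x.1)
        rw [neg_add_cancel_right]

theorem blockTwoGroup_isPGroup {m : ℕ} (pr : Fin m → Fin m) (hpr : ∀ i, pr (pr i) = i) :
    IsPGroup 2 ↥(blockTwoGroup pr hpr) := by
  rintro ⟨g, σ, hσ, v, hv⟩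
  refine ⟨2, Subtype.ext (Equiv.ext fun x => ?_)⟩
  have hσ2 : ∀ i, σ (σ i) = i := by
    intro i
    rcases hσ i with h | h
    · rw [h, h]
    · rw [h]
      rcases hσ (pr i) with h' | h'
      · have := σ.injective (h.trans h'.symm)
        rw [h', ← this]
      · rw [h', hpr]
  show ((g : Perm (Fin m × ZMod 2)) ^ (2 ^ 2)) x = x
  simp only [show (2 ^ 2 : ℕ) = 4 from rfl, pow_succ, pow_zero, one_mul, Perm.mul_apply, hv, hσ2]
  ext
  · rfl
  · have h2 : (2 : ZMod 2) = 0 := by decide
    calc x.2 + v x.1 + v (σ x.1) + v x.1 + v (σ x.1) = x.2 + 2 * (v x.1 + v (σ x.1)) := by ring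
      _ = x.2 := by rw [h2, zero_mul, add_zero]

theorem swap_mem_block {m : ℕ} (pr : Fin m → Fin m) (hpr : ∀ i, pr (pr i) = i) (j : Fin m) :
    swap ((j, 0) : Fin m × ZMod 2) (j, 1) ∈ blockTwoGroup pr hpr := by
  refine ⟨1, fun i => Or.inl rfl, fun i => if i = j then 1 else 0, fun x => ?_⟩
  obtain ⟨l, k⟩ := x
  by_cases h : l = j
  · subst h
    fin_cases k
    · show swap (l, (0 : ZMod 2)) (l, 1) (l, 0) = _
      rw [swap_apply_left]; simp; exact (zero_add (1 : ZMod 2)).symm
    · show swap (l, (0 : ZMod 2)) (l, 1) (l, 1) = _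
      rw [swap_apply_right]; simp; rfl
  · rw [swap_apply_of_ne_of_ne (by simp [h]) (by simp [h])]
    simp [h]

theorem pairSwap_general {m : ℕ} {β : Type*} [DecidableEq β] (f : Fin m × ZMod 2 ↪ β) (a b l : Fin m)
    (k : ZMod 2) :
    (swap (f (a, 0)) (f (b, 0)) * swap (f (a, 1)) (f (b, 1))) (f (l, k)) = f (swap a b l, k) := by
  have hg : ∀ k : ZMod 2, Function.Injective fun i : Fin m => f (i, k) :=
    fun k i j e => (Prod.ext_iff.1 (f.injective e)).1
  have hne : ∀ (i j : Fin m) (c d : ZMod 2), c ≠ d → f (i, c) ≠ f (j, d) :=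
    fun i j c d h e => h (Prod.ext_iff.1 (f.injective e)).2
  rw [Perm.mul_apply]
  rcases (show k = 0 ∨ k = 1 by revert k; decide) with rfl | rfl
  · rw [show swap (f (a, 1)) (f (b, 1)) (f (l, 0)) = f (l, 0) from
      swap_apply_of_ne_of_ne (hne _ _ _ _ zero_ne_one) (hne _ _ _ _ zero_ne_one)]
    exact ((hg 0).map_swap a b l).symm
  · rw [show swap (f (a, 1)) (f (b, 1)) (f (l, 1)) = f (swap a b l, 1) from ((hg 1).map_swap a b l).symm]
    exact swap_apply_of_ne_of_ne (hne _ _ _ _ one_ne_zero) (hne _ _ _ _ one_ne_zero)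

theorem pairSwap_mem_block {m : ℕ} (pr : Fin m → Fin m) (hpr : ∀ i, pr (pr i) = i) {a b : Fin m}
    (hab : a ≠ b) (h : pr a = b) :
    swap ((a, 0) : Fin m × ZMod 2) (b, 0) * swap (a, 1) (b, 1) ∈ blockTwoGroup pr hpr := by
  refine ⟨swap a b, fun i => ?_, 0, fun x => ?_⟩
  · by_cases ha : i = a
    · subst ha; right; rw [swap_apply_left, h]
    · by_cases hb : i = b
      · subst hb; right; rw [swap_apply_right, ← h, hpr]
      · exact Or.inl (swap_apply_of_ne_of_ne ha hb)
  · rw [Pi.zero_apply, add_zero]
    exact pairSwap_general (Function.Embedding.refl _) a b x.1 x.2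

theorem viaEmbeddingHom_swap {α β : Type*} [Fintype α] [DecidableEq α] [DecidableEq β] (ι : α ↪ β)
    (a b : α) : viaEmbeddingHom ι (swap a b) = swap (ι a) (ι b) := by
  apply Equiv.ext
  intro x
  rw [viaEmbeddingHom_apply]
  by_cases hx : x ∈ Set.range ι
  · obtain ⟨y, rfl⟩ := hx
    rw [viaEmbedding_apply]
    exact (ι.injective.map_swap _ _ _).symm ▸ rfl
  · rw [viaEmbedding_apply_of_notMem _ _ _ hx, swap_apply_of_ne_of_ne]
    · exact fun h => hx ⟨a, h.symm⟩
    · exact fun h => hx ⟨b, h.symm⟩

/-- Paired points whose double transpositions lie in `H`. -/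
theorem exists_pairs {n : ℕ} {H : Subgroup (Perm (Fin n))} (P : Sylow 2 ↥(alternatingGroup (Fin n)))
    (hP : (P : Subgroup ↥(alternatingGroup (Fin n))).map (alternatingGroup (Fin n)).subtype ≤ H)
    (pr : Fin (n / 2) → Fin (n / 2)) (hpr : ∀ i, pr (pr i) = i) :
    ∃ ι : Fin (n / 2) × ZMod 2 ↪ Fin n, (∀ i j, i ≠ j → pairDT ι i j ∈ H) ∧
      ∀ a b, a ≠ b → pr a = b → pairSwap ι a b ∈ H := by
  obtain ⟨ι₀⟩ : Nonempty (Fin (n / 2) × ZMod 2 ↪ Fin n) :=
    Function.Embedding.nonempty_of_card_le (by
      rw [Fintype.card_prod, Fintype.card_fin, ZMod.card, Fintype.card_fin]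
      exact Nat.div_mul_le_self n 2)
  have hE : IsPGroup 2 ↥(((blockTwoGroup pr hpr).map (viaEmbeddingHom ι₀)).subgroupOf
      (alternatingGroup (Fin n))) :=
    ((blockTwoGroup_isPGroup pr hpr).map _).comap_of_injective _ (alternatingGroup (Fin n)).subtype_injective
  haveI : Fact (Nat.Prime 2) := ⟨Nat.prime_two⟩
  obtain ⟨R, hR⟩ := hE.exists_le_sylow
  obtain ⟨g, hg⟩ := MulAction.exists_smul_eq ↥(alternatingGroup (Fin n)) R P
  let ι : Fin (n / 2) × ZMod 2 ↪ Fin n := ι₀.trans (g : Perm (Fin n)).toEmbedding
  have key : ∀ x y z w : Fin (n / 2) × ZMod 2, x ≠ y → z ≠ w →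
      swap x y * swap z w ∈ blockTwoGroup pr hpr → swap (ι x) (ι y) * swap (ι z) (ι w) ∈ H := by
    intro x y z w hxy hzw h
    have hA : swap (ι₀ x) (ι₀ y) * swap (ι₀ z) (ι₀ w) ∈ alternatingGroup (Fin n) := by
      rw [mem_alternatingGroup, map_mul, sign_swap (ι₀.injective.ne hxy),
        sign_swap (ι₀.injective.ne hzw)]
      decide
    have h1 : (⟨_, hA⟩ : ↥(alternatingGroup (Fin n))) ∈ (R : Subgroup ↥(alternatingGroup (Fin n))) := by
      refine hR (Subgroup.mem_subgroupOf.2 ⟨_, h, ?_⟩)
      rw [map_mul, viaEmbeddingHom_swap, viaEmbeddingHom_swap]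
    have h2 : g * ⟨_, hA⟩ * g⁻¹ ∈ (P : Subgroup ↥(alternatingGroup (Fin n))) := by
      rw [← hg, Sylow.coe_subgroup_smul, Subgroup.mem_pointwise_smul_iff_inv_smul_mem]
      simpa [MulAut.smul_def, mul_assoc] using h1
    have h3 := hP (Subgroup.mem_map_of_mem _ h2)
    simp only [map_mul, map_inv, Subgroup.coe_subtype] at h3
    convert h3 using 1
    rw [show swap (ι x) (ι y) = (g : Perm (Fin n)) * swap (ι₀ x) (ι₀ y) * (g : Perm (Fin n))⁻¹ from
      (conj_swap _ _ _).symm, show swap (ι z) (ι w) = (g : Perm (Fin n)) * swap (ι₀ z) (ι₀ w) *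
      (g : Perm (Fin n))⁻¹ from (conj_swap _ _ _).symm]
    simp [mul_assoc]
  refine ⟨ι, fun i j hij => key _ _ _ _ (by simp) (by simp)
    (mul_mem (swap_mem_block pr hpr i) (swap_mem_block pr hpr j)), fun a b hab h =>
    key _ _ _ _ (by simp [hab]) (by simp [hab]) (pairSwap_mem_block pr hpr hab h)⟩

theorem core {n : ℕ} (hn : 8 ≤ n) (H : Subgroup (Perm (Fin n)))
    (hF : Cfsg.IsQuasisimple ↥(Cfsg.generalizedFittingSubgroup ↥H))
    (hS : ∃ P : Sylow 2 ↥(alternatingGroup (Fin n)),
      (P : Subgroup ↥(alternatingGroup (Fin n))).map (alternatingGroup (Fin n)).subtype ≤ H) :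
    ∃ m : ℕ, (m = n - 3 ∨ m = n - 2 ∨ m = n - 1 ∨ m = n) ∧
      Nonempty (↥(Cfsg.generalizedFittingSubgroup ↥H) ≃* ↥(alternatingGroup (Fin m))) := by
  classical
  obtain ⟨P, hP⟩ := hS
  have hm : 4 ≤ n / 2 := by omega
  let a : Fin 4 → Fin (n / 2) := fun i => ⟨i, lt_of_lt_of_le i.2 hm⟩
  let pr : Fin (n / 2) → Fin (n / 2) := fun i =>
    if h : (i : ℕ) < 4 then ⟨if (i : ℕ) % 2 = 0 then i + 1 else i - 1, by split <;> omega⟩ else i
  have hpr : ∀ i, pr (pr i) = i := by
    intro i
    apply Fin.ext
    simp only [pr]
    by_cases h : (i : ℕ) < 4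
    · by_cases h2 : (i : ℕ) % 2 = 0
      · have : (i : ℕ) + 1 < 4 := by omega
        have h2' : ¬ ((i : ℕ) + 1) % 2 = 0 := by omega
        simp [h, h2, this, h2']
      · have : (i : ℕ) - 1 < 4 := by omega
        have h2' : ((i : ℕ) - 1) % 2 = 0 := by omega
        simp [h, h2, this, h2']
        omega
    · simp [h]
  obtain ⟨ι, hu, hw⟩ := exists_pairs P hP pr hpr
  set Q := (Cfsg.generalizedFittingSubgroup ↥H).map H.subtype with hQdef
  have hQ : QsFitting H Q := qsFitting_of_isQuasisimple H hF
  have hout : ∀ x y : Fin n, x ∉ Set.range ι → y ∉ Set.range ι → x = y := by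
    intro x y hx hy
    by_contra hne
    have hsub : ({x, y} : Finset (Fin n)) ⊆ Finset.univ \ Finset.univ.map ι := by
      intro z hz
      simp only [Finset.mem_insert, Finset.mem_singleton] at hz
      rcases hz with rfl | rfl <;> simpa [Finset.mem_map] using (by assumption : z ∉ Set.range ι)
    have := Finset.card_le_card hsub
    rw [Finset.card_pair hne, Finset.card_univ_sdiff, Finset.card_map, Finset.card_univ, Fintype.card_fin,
      Fintype.card_prod, Fintype.card_fin, ZMod.card] at this
    omega
  have hexj : ∀ i : Fin (n / 2), ∃ j, i ≠ j := fun i => by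
    haveI : Nontrivial (Fin (n / 2)) := Fin.nontrivial_iff_two_le.2 (by omega)
    obtain ⟨j, hj⟩ := exists_ne i
    exact ⟨j, hj.symm⟩
  have huflip : ∀ i j, i ≠ j → ∀ k, pairDT ι i j (ι (i, k)) = ι (i, k + 1) := fun i j hij k => by
    rw [pairDT_apply ι hij, if_pos (Or.inl rfl)]
  rcases hQ.eq_altOn_or_commute with hc | ⟨Δ, h5, hΔ⟩
  · exfalso
    by_cases h3 : ∃ c ∈ H, c.IsThreeCycle
    · obtain ⟨c, hcH, hc3⟩ := h3
      set S := c.support with hSdef
      have hS3 : S.card = 3 := hc3.card_support
      have hdisj : ∀ d ∈ H, d.IsThreeCycle → S = d.support ∨ ∀ x ∈ S, x ∉ d.support := fun d hd hd3 =>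
        threeCycle_support_eq_or_disjoint hc3 hd3
          (hc c hcH hc3 d (hQ.self_cent d hd (hc d hd hd3)))
      have hconjS : ∀ h ∈ H, (∀ x, h x ∈ S ↔ x ∈ S) ∨ ∀ x ∈ S, h x ∉ S := by
        intro h hh
        have he : ∀ x, h x ∈ (h * c * h⁻¹).support ↔ x ∈ S := fun x => by
          rw [hSdef, mem_support, mem_support]; simp [Perm.mul_apply]
        rcases hdisj _ (mul_mem (mul_mem hh hcH) (inv_mem hh)) (perm_conj_isThreeCycle hc3 h) with e | e
        · exact Or.inl fun x => by rw [← he x, ← e]
        · exact Or.inr fun x hx hx' => e _ hx' ((he x).2 hx)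
      -- each pair lies in `S` or misses it
      have hpair : ∀ i k, ι (i, k) ∈ S → ι (i, k + 1) ∈ S := by
        intro i k hk
        obtain ⟨j, hij⟩ := hexj i
        rcases hconjS _ (hu i j hij) with h | h
        · have := (h _).2 hk
          rwa [huflip i j hij] at this
        · exfalso
          have hsub : S ⊆ pairSet ι i ∪ pairSet ι j := by
            intro x hx
            rw [← support_pairDT ι hij, mem_support]
            intro e
            exact h x hx (by rw [e]; exact hx)
          have hboth : ∀ l, (∀ x, ι (l, x) ∈ S → ι (l, x + 1) ∉ S) → (S ∩ pairSet ι l).card ≤ 1 := by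
            intro l hl
            rw [Finset.card_le_one]
            intro x hx y hy
            rw [Finset.mem_inter] at hx hy
            obtain ⟨kx, rfl⟩ := (mem_pairSet ι).1 hx.2
            obtain ⟨ky, rfl⟩ := (mem_pairSet ι).1 hy.2
            by_contra hne
            have hne' : kx ≠ ky := fun e => hne (by rw [e])
            exact hl kx hx.1 (by rw [add_comm, ← zmodTwo_eq_add hne']; exact hy.1)
          have hi := hboth i fun x hx hx' => h _ hx (by rw [huflip i j hij]; exact hx')
          have hj := hboth j fun x hx hx' => h _ hx (by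
            rw [pairDT_apply ι hij, if_pos (Or.inr rfl)]; exact hx')
          have hcard : S.card ≤ (S ∩ pairSet ι i).card + (S ∩ pairSet ι j).card := by
            refine (Finset.card_le_card ?_).trans (Finset.card_union_le _ _)
            intro x hx
            rcases Finset.mem_union.1 (hsub hx) with h' | h'
            · exact Finset.mem_union_left _ (Finset.mem_inter.2 ⟨hx, h'⟩)
            · exact Finset.mem_union_right _ (Finset.mem_inter.2 ⟨hx, h'⟩)
          rw [hS3] at hcard
          omega
      have hpair' : ∀ i k l, ι (i, k) ∈ S → ι (i, l) ∈ S := by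
        intro i k l hk
        by_cases e : k = l
        · rw [← e]; exact hk
        · rw [zmodTwo_eq_add e, add_comm]; exact hpair i k hk
      obtain ⟨k₀, hk₀⟩ : ∃ k₀, ι (k₀, 0) ∈ S := by
        by_contra hno
        push Not at hno
        have hsub : ∀ x ∈ S, x ∉ Set.range ι := by
          rintro x hx ⟨⟨i, k⟩, rfl⟩
          exact hno i (hpair' i k 0 hx)
        have : S.card ≤ 1 := Finset.card_le_one.2 fun x hx y hy => hout x y (hsub x hx) (hsub y hy)
        rw [hS3] at this
        omega
      have hk₀sub : pairSet ι k₀ ⊆ S := by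
        intro x hx
        obtain ⟨k, rfl⟩ := (mem_pairSet ι).1 hx
        exact hpair' k₀ 0 k hk₀
      have honly : ∀ i k, ι (i, k) ∈ S → i = k₀ := by
        intro i k hk
        by_contra hne
        have h4 : (pairSet ι i ∪ pairSet ι k₀).card ≤ S.card := Finset.card_le_card
          (Finset.union_subset (fun x hx => by
            obtain ⟨l, rfl⟩ := (mem_pairSet ι).1 hx
            exact hpair' i k l hk) hk₀sub)
        rw [Finset.card_union_of_disjoint (pairSet_disjoint ι hne), card_pairSet, card_pairSet, hS3] at h4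
        omega
      obtain ⟨o, hoS, ho⟩ : ∃ o ∈ S, o ∉ Set.range ι := by
        by_contra hno
        push Not at hno
        have : S ⊆ pairSet ι k₀ := by
          intro x hx
          obtain ⟨⟨i, k⟩, rfl⟩ := hno x hx
          rw [honly i k hx]
          exact (mem_pairSet ι).2 ⟨k, rfl⟩
        have := Finset.card_le_card this
        rw [hS3, card_pairSet] at this
        omega
      have hk4 : 4 ≤ (k₀ : ℕ) := by
        by_contra hlt
        have hb : k₀ ≠ pr k₀ := by
          intro e
          have := congrArg Fin.val e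
          simp only [pr, dif_pos (show (k₀ : ℕ) < 4 by omega)] at this
          split at this <;> omega
        have hwo : pairSwap ι k₀ (pr k₀) o = o := by
          rw [pairSwap, Perm.mul_apply,
            show swap (ι (k₀, 1)) (ι (pr k₀, 1)) o = o from
              swap_apply_of_ne_of_ne (fun e => ho ⟨_, e.symm⟩) (fun e => ho ⟨_, e.symm⟩)]
          exact swap_apply_of_ne_of_ne (fun e => ho ⟨_, e.symm⟩) (fun e => ho ⟨_, e.symm⟩)
        rcases hconjS _ (hw k₀ (pr k₀) hb rfl) with h | h
        · have := (h (ι (k₀, 0))).2 hk₀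
          rw [pairSwap, pairSwap_general, swap_apply_left] at this
          exact hb (honly _ _ this).symm
        · exact h o hoS (by rw [hwo]; exact hoS)
      have hSeq : ∀ x, x ∈ S ↔ x ∉ (Finset.univ.erase k₀).biUnion (pairSet ι) := by
        intro x
        constructor
        · intro hx hx'
          obtain ⟨i, hi, hxi⟩ := Finset.mem_biUnion.1 hx'
          obtain ⟨k, rfl⟩ := (mem_pairSet ι).1 hxi
          exact (Finset.mem_erase.1 hi).1 (honly i k hx)
        · intro hx
          by_cases hr : x ∈ Set.range ι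
          · obtain ⟨⟨i, k⟩, rfl⟩ := hr
            by_contra hxS
            have hik : i ≠ k₀ := fun e => hxS (hk₀sub ((mem_pairSet ι).2 ⟨k, by rw [e]⟩))
            exact hx (Finset.mem_biUnion.2
              ⟨i, Finset.mem_erase.2 ⟨hik, Finset.mem_univ _⟩, (mem_pairSet ι).2 ⟨k, rfl⟩⟩)
          · rw [hout x o hr ho]; exact hoS
      have huniq : ∀ d ∈ H, d.IsThreeCycle → S = d.support := by
        intro d hd hd3
        rcases hdisj d hd hd3 with e | e
        · exact e
        exfalso
        -- a second support would also contain the point outside the pairs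
        have hd' := hdisj d hd hd3
        by_cases hr : ∃ x ∈ d.support, x ∈ Set.range ι
        · -- conjugate argument applies to `d` as well
          obtain ⟨x, hx, ⟨i, k⟩, rfl⟩ := hr
          have hi : i ≠ k₀ := fun e' => e (ι (i, k)) (hk₀sub ((mem_pairSet ι).2 ⟨k, by rw [e']⟩)) hx
          obtain ⟨j, hij⟩ := hexj i
          have hd2 : (∀ y, y ∈ d.support → pairDT ι i j y ∈ d.support) ∨
              ∀ y, y ∈ d.support → pairDT ι i j y ∉ d.support := by
            have he : ∀ y, pairDT ι i j y ∈ (pairDT ι i j * d * (pairDT ι i j)⁻¹).support ↔ y ∈ d.support :=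
              fun y => by rw [mem_support, mem_support]; simp [Perm.mul_apply]
            have hH := mul_mem (mul_mem (hu i j hij) hd) (inv_mem (hu i j hij))
            have h3' := perm_conj_isThreeCycle hd3 (pairDT ι i j)
            rcases threeCycle_support_eq_or_disjoint hd3 h3'
                (hc d hd hd3 _ (hQ.self_cent _ hH (hc _ hH h3'))) with e1 | e1
            · exact Or.inl fun y hy => by rw [e1]; exact (he y).2 hy
            · exact Or.inr fun y hy hy' => e1 _ hy' ((he y).2 hy)
          have hsub : d.support ⊆ (Finset.univ.erase k₀).biUnion (pairSet ι) := fun y hy => by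
            by_contra hy'
            exact e y ((hSeq y).2 hy') hy
          rcases hd2 with h | h
          · -- invariant: contains the whole pair and a further pair point
            have h2 := h _ hx
            rw [huflip i j hij] at h2
            have hcard2 : pairSet ι i ⊆ d.support := by
              intro y hy
              obtain ⟨l, rfl⟩ := (mem_pairSet ι).1 hy
              by_cases el : k = l
              · rw [← el]; exact hx
              · rw [zmodTwo_eq_add el, add_comm]; exact h2
            obtain ⟨z, hz, hzi⟩ : ∃ z ∈ d.support, z ∉ pairSet ι i := by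
              by_contra hno
              push Not at hno
              have := Finset.card_le_card hno
              rw [hd3.card_support, card_pairSet] at this
              omega
            obtain ⟨l, hl, hzl⟩ := Finset.mem_biUnion.1 (hsub hz)
            obtain ⟨kl, rfl⟩ := (mem_pairSet ι).1 hzl
            have hil : l ≠ i := fun e' => hzi ((mem_pairSet ι).2 ⟨kl, by rw [e']⟩)
            have hH := mul_mem (mul_mem (hu l i hil) hd) (inv_mem (hu l i hil))
            have h3' := perm_conj_isThreeCycle hd3 (pairDT ι l i)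
            have he : ∀ y, pairDT ι l i y ∈ (pairDT ι l i * d * (pairDT ι l i)⁻¹).support ↔ y ∈ d.support :=
              fun y => by rw [mem_support, mem_support]; simp [Perm.mul_apply]
            rcases threeCycle_support_eq_or_disjoint hd3 h3'
                (hc d hd hd3 _ (hQ.self_cent _ hH (hc _ hH h3'))) with e1 | e1
            · have h4 : pairSet ι i ∪ pairSet ι l ⊆ d.support := by
                refine Finset.union_subset hcard2 fun y hy => ?_
                obtain ⟨ly, rfl⟩ := (mem_pairSet ι).1 hy
                by_cases el : kl = ly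
                · rw [← el]; exact hz
                · rw [zmodTwo_eq_add el, add_comm]
                  have := (he _).2 hz
                  rw [huflip l i hil, ← e1] at this
                  exact this
              have := Finset.card_le_card h4
              rw [Finset.card_union_of_disjoint (pairSet_disjoint ι hil.symm), card_pairSet, card_pairSet,
                hd3.card_support] at this
              omega
            · refine e1 (ι (i, k + 1)) h2 ?_
              have := (he _).2 hx
              rwa [pairDT_apply ι hil, if_pos (Or.inr rfl)] at this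
          · have hsub2 : d.support ⊆ pairSet ι i ∪ pairSet ι j := by
              intro y hy
              rw [← support_pairDT ι hij, mem_support]
              intro e'
              exact h y hy (by rw [e']; exact hy)
            have hone : ∀ l, (l = i ∨ l = j) → (d.support ∩ pairSet ι l).card ≤ 1 := by
              intro l hl
              rw [Finset.card_le_one]
              intro u hu' v hv
              rw [Finset.mem_inter] at hu' hv
              obtain ⟨ku, rfl⟩ := (mem_pairSet ι).1 hu'.2
              obtain ⟨kv, rfl⟩ := (mem_pairSet ι).1 hv.2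
              by_contra hne
              have hne' : ku ≠ kv := fun e' => hne (by rw [e'])
              apply h _ hu'.1
              rw [pairDT_apply ι hij, if_pos hl, add_comm, ← zmodTwo_eq_add hne']
              exact hv.1
            have hcard : d.support.card ≤ (d.support ∩ pairSet ι i).card + (d.support ∩ pairSet ι j).card := by
              refine (Finset.card_le_card ?_).trans (Finset.card_union_le _ _)
              intro y hy
              rcases Finset.mem_union.1 (hsub2 hy) with h' | h'
              · exact Finset.mem_union_left _ (Finset.mem_inter.2 ⟨hy, h'⟩)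
              · exact Finset.mem_union_right _ (Finset.mem_inter.2 ⟨hy, h'⟩)
            have := hone i (Or.inl rfl)
            have := hone j (Or.inr rfl)
            rw [hd3.card_support] at hcard
            omega
        · push Not at hr
          have : d.support.card ≤ 1 :=
            Finset.card_le_one.2 fun x hx y hy => hout x y (hr x hx) (hr y hy)
          rw [hd3.card_support] at this
          omega
      have hinvS : ∀ h ∈ H, ∀ x, h x ∈ S ↔ x ∈ S := by
        intro h hh x
        have e := huniq _ (mul_mem (mul_mem hh hcH) (inv_mem hh)) (perm_conj_isThreeCycle hc3 h)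
        conv_lhs => rw [e]
        rw [hSdef, mem_support, mem_support]
        simp [Perm.mul_apply]
      haveI : Group.IsSolvable (Perm {x // x ∈ S}) :=
        isSolvable_perm_of_card_le_four (by rw [Fintype.card_coe, hS3]; omega)
      let φ : ↥Q →* Perm {x // x ∈ S} := MonoidHom.mk'
        (fun q => (q : Perm (Fin n)).subtypePerm (hinvS q (hQ.le q.2)))
        (fun a b => Equiv.ext fun y => Subtype.ext rfl)
      refine hQ.pairs_false ι (Finset.univ.erase k₀) ?_ (fun i _ j _ hij => hu i j hij) ?_ ?_ ?_
      · rw [Finset.card_erase_of_mem (Finset.mem_univ _), Finset.card_univ, Fintype.card_fin]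
        have := k₀.2
        omega
      · intro h hh x
        rw [← not_iff_not, ← hSeq, ← hSeq]
        exact hinvS h hh x
      · intro q hq x hx
        exact congrArg Subtype.val (Equiv.congr_fun (hQ.hom_trivial φ ⟨q, hq⟩) ⟨x, (hSeq x).2 hx⟩)
      · intro d hd hd3 hsub
        obtain ⟨x, hx⟩ := Finset.card_pos.1 (by rw [hd3.card_support]; omega : 0 < d.support.card)
        exact (hSeq x).1 (by rw [huniq d hd hd3]; exact hx) (hsub hx)
    · push Not at h3
      set Ω := (Finset.univ : Finset (Fin (n / 2))).biUnion (pairSet ι) with hΩdef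
      have hmemΩ : ∀ x, x ∈ Ω ↔ x ∈ Set.range ι := by
        intro x
        rw [hΩdef, Finset.mem_biUnion]
        constructor
        · rintro ⟨i, -, hx⟩
          obtain ⟨k, rfl⟩ := (mem_pairSet ι).1 hx
          exact ⟨_, rfl⟩
        · rintro ⟨⟨i, k⟩, rfl⟩
          exact ⟨i, Finset.mem_univ _, (mem_pairSet ι).2 ⟨k, rfl⟩⟩
      have hin : ∀ h ∈ H, ∀ x ∈ Ω, h x ∈ Ω := by
        intro h hh x hx
        by_contra ho
        obtain ⟨⟨i, k⟩, rfl⟩ := (hmemΩ x).1 hx
        obtain ⟨j, hij⟩ := hexj i
        set d := h * pairDT ι i j * h⁻¹ with hddef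
        have hdH : d ∈ H := mul_mem (mul_mem hh (hu i j hij)) (inv_mem hh)
        have hdt : IsDT d := (pairDT_isDT ι hij).conj h
        have hod : h (ι (i, k)) ∈ d.support := by
          rw [hddef, mem_support]
          have hmove : pairDT ι i j (ι (i, k)) ≠ ι (i, k) := by
            rw [← mem_support, support_pairDT ι hij]
            exact Finset.mem_union_left _ ((mem_pairSet ι).2 ⟨k, rfl⟩)
          simpa [Perm.mul_apply] using hmove
        have hd4 := hdt.card_support
        have hinter : (d.support ∩ Ω).card = 3 := by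
          have hd3' : d.support ∩ Ω = d.support.erase (h (ι (i, k))) := by
            ext y
            rw [Finset.mem_inter, Finset.mem_erase]
            constructor
            · rintro ⟨h1, h2⟩; exact ⟨fun e => ho (e ▸ h2), h1⟩
            · rintro ⟨h1, h2⟩
              refine ⟨h2, ?_⟩
              by_contra hy
              exact h1 (hout _ _ (fun e => hy ((hmemΩ y).2 e)) (fun e => ho ((hmemΩ _).2 e)))
          rw [hd3', Finset.card_erase_of_mem hod, hd4]
        rcases pair_count ι Finset.univ (fun i _ j _ hij => hu i j hij) hdH hdt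
            (fun c hc' hc'' _ _ _ _ => absurd hc'' (h3 c hc')) with hA | ⟨⟨hle, -⟩, -⟩
        · have hsum : (d.support ∩ Ω).card = ∑ l : Fin (n / 2), (d.support ∩ pairSet ι l).card := by
            rw [hΩdef, Finset.inter_biUnion, Finset.card_biUnion]
            intro a _ b _ hab
            exact (pairSet_disjoint ι hab).mono Finset.inter_subset_right Finset.inter_subset_right
          have h2 : 2 ∣ ∑ l : Fin (n / 2), (d.support ∩ pairSet ι l).card := by
            refine Finset.dvd_sum fun l hl => ?_
            have h1 := hA l hl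
            have h2 : (d.support ∩ pairSet ι l).card ≤ 2 :=
              (Finset.card_le_card Finset.inter_subset_right).trans (card_pairSet ι l).le
            omega
          rw [← hsum, hinter] at h2
          omega
        · rw [← hΩdef, hinter, Finset.card_univ, Fintype.card_fin] at hle
          omega
      have hΩinv : ∀ h ∈ H, ∀ x, h x ∈ Ω ↔ x ∈ Ω := fun h hh x => ⟨fun hx => by
        simpa using hin h⁻¹ (inv_mem hh) _ hx, hin h hh x⟩
      refine hQ.pairs_false ι Finset.univ (by rw [Finset.card_univ, Fintype.card_fin]; exact hm)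
        (fun i _ j _ hij => hu i j hij) hΩinv ?_ (fun d hd hd3 _ => h3 d hd hd3)
      intro q hq x hx
      exact hout _ _ (fun e => hx ((hΩinv q (hQ.le hq) x).1 ((hmemΩ _).2 e)))
        (fun e => hx ((hmemΩ x).2 e))
  · refine ⟨Δ.card, ?_, ⟨((Cfsg.generalizedFittingSubgroup ↥H).equivMapOfInjective _
      H.subtype_injective).trans ((MulEquiv.subgroupCongr hΔ).trans (altOnEquiv Δ))⟩⟩
    have hflip : ∀ i k, ι (i, k) ∈ Δ ↔ ι (i, k + 1) ∈ Δ := by
      intro i k
      obtain ⟨j, hij⟩ := hexj i
      have := hQ.mem_iff_mem h5 hΔ (hu i j hij) (ι (i, k))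
      rw [huflip i j hij] at this
      exact this.symm
    have hsame : ∀ i k l, ι (i, k) ∈ Δ ↔ ι (i, l) ∈ Δ := by
      intro i k l
      by_cases e : k = l
      · rw [e]
      · rw [zmodTwo_eq_add e, add_comm]; exact hflip i k
    have htwo : ∀ i j, ι (i, 0) ∉ Δ → ι (j, 0) ∉ Δ → i = j := by
      intro i j hi hj
      by_contra hij
      have h1 : pairDT ι i j = 1 := hQ.eq_one_of_fix hΔ (hu i j hij) fun y hy => by
        rw [← notMem_support, support_pairDT ι hij, Finset.mem_union]
        rintro (h | h)
        · obtain ⟨k, rfl⟩ := (mem_pairSet ι).1 h; exact hi ((hsame i k 0).1 hy)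
        · obtain ⟨k, rfl⟩ := (mem_pairSet ι).1 h; exact hj ((hsame j k 0).1 hy)
      have := Equiv.congr_fun h1 (ι (i, 0))
      rw [huflip i j hij, Perm.one_apply] at this
      simpa using (Prod.ext_iff.1 (ι.injective this)).2
    have hcard : (Finset.univ \ Δ).card ≤ 3 := by
      by_cases hi : ∃ i, ι (i, 0) ∉ Δ
      · obtain ⟨i, hi⟩ := hi
        by_cases ho : ∃ o, o ∉ Set.range ι
        · obtain ⟨o, ho⟩ := ho
          refine (Finset.card_le_card (t := insert o (pairSet ι i)) ?_).trans
            ((Finset.card_insert_le _ _).trans (by rw [card_pairSet]))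
          intro x hx
          rw [Finset.mem_sdiff] at hx
          rw [Finset.mem_insert]
          by_cases hr : x ∈ Set.range ι
          · obtain ⟨⟨j, k⟩, rfl⟩ := hr
            exact Or.inr ((mem_pairSet ι).2 ⟨k, by rw [htwo i j hi fun h => hx.2 ((hsame j k 0).2 h)]⟩)
          · exact Or.inl (hout x o hr ho)
        · push Not at ho
          refine (Finset.card_le_card (t := pairSet ι i) ?_).trans (by rw [card_pairSet]; omega)
          intro x hx
          rw [Finset.mem_sdiff] at hx
          obtain ⟨⟨j, k⟩, rfl⟩ := ho x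
          exact (mem_pairSet ι).2 ⟨k, by rw [htwo i j hi fun h => hx.2 ((hsame j k 0).2 h)]⟩
      · push Not at hi
        refine (Finset.card_le_one.2 fun x hx y hy => ?_).trans (by omega)
        rw [Finset.mem_sdiff] at hx hy
        exact hout x y (fun ⟨⟨j, k⟩, e⟩ => hx.2 (e ▸ (hsame j k 0).2 (hi j)))
          (fun ⟨⟨j, k⟩, e⟩ => hy.2 (e ▸ (hsame j k 0).2 (hi j)))
    rw [Finset.card_univ_sdiff, Fintype.card_fin] at hcard
    have h2 : Δ.card ≤ n := (Finset.card_le_univ Δ).trans_eq (Fintype.card_fin n)
    omega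

/-- Let n ≥ 8 and let H be a subgroup of the symmetric group of degree n whose generalized Fitting subgroup F*(H) is quasisimple. If H contains a Sylow 2-subgroup of the alternating group of degree n, then F*(H) is isomorphic to an alternating group of degree m for some m ∈ {n − 3, n − 2, n − 1, n}. -/
theorem result (n : ℕ) (hn : 8 ≤ n) (H : Subgroup (Equiv.Perm (Fin n))) (hF : Cfsg.IsQuasisimple ↥(Cfsg.generalizedFittingSubgroup ↥H)) (hS : ∃ P : Sylow 2 ↥(alternatingGroup (Fin n)), ((P : Subgroup ↥(alternatingGroup (Fin n))).map (alternatingGroup (Fin n)).subtype) ≤ H) : ∃ m : ℕ, (m = n - 3 ∨ m = n - 2 ∨ m = n - 1 ∨ m = n) ∧ Nonempty (↥(Cfsg.generalizedFittingSubgroup ↥H) ≃* ↥(alternatingGroup (Fin m))) := by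
  exact core hn H hF hS

end Cfsg.Agent.S2928
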