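import Cfsg.Statements.S2929
import Cfsg.Agent.Lib.Amalgam.AltOvergroup

set_option autoImplicit false
open Cfsg

namespace Cfsg.Agent.S2929

open Equiv Equiv.Perm

/-- The group of fibrewise translations of `Fin m × ZMod 3`. -/
def shiftGroup (m : ℕ) : Subgroup (Perm (Fin m × ZMod 3)) where
  carrier := {g | ∃ v : Fin m → ZMod 3, ∀ x, g x = (x.1, x.2 + v x.1)}
  one_mem' := ⟨0, fun x => by simp⟩
  mul_mem' := by
    rintro a b ⟨v, hv⟩ ⟨w, hw⟩
    exact ⟨v + w, fun x => by rw [Perm.mul_apply, hw, hv]; ext <;> simp; abel⟩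
  inv_mem' := by
    rintro a ⟨v, hv⟩
    refine ⟨-v, fun x => ?_⟩
    rw [Perm.inv_eq_iff_eq, hv]
    ext <;> simp

theorem shiftGroup_isPGroup (m : ℕ) : IsPGroup 3 ↥(shiftGroup m) := by
  rintro ⟨g, v, hv⟩
  refine ⟨1, Subtype.ext (Equiv.ext fun x => ?_)⟩
  show ((g : Perm (Fin m × ZMod 3)) ^ (3 ^ 1)) x = x
  simp only [pow_one, pow_succ, pow_zero, one_mul, Perm.mul_apply, hv]
  ext
  · rfl
  · have h3 : (3 : ZMod 3) = 0 := by decide
    calc x.2 + v x.1 + v x.1 + v x.1 = x.2 + 3 * v x.1 := by ring
      _ = x.2 := by rw [h3, zero_mul, add_zero]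

/-- The 3-cycle on the `j`-th fibre. -/
def cyc {m : ℕ} (j : Fin m) : Perm (Fin m × ZMod 3) where
  toFun x := (x.1, if x.1 = j then x.2 + 1 else x.2)
  invFun x := (x.1, if x.1 = j then x.2 - 1 else x.2)
  left_inv x := by ext <;> simp <;> split <;> simp
  right_inv x := by ext <;> simp <;> split <;> simp

theorem cyc_mem {m : ℕ} (j : Fin m) : cyc j ∈ shiftGroup m :=
  ⟨fun i => if i = j then 1 else 0, fun x => by
    show ((x.1, if x.1 = j then x.2 + 1 else x.2) : Fin m × ZMod 3) = _
    split <;> simp [*]⟩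

/-- An embedded family of disjoint 3-cycles inside a group containing a Sylow 3-subgroup. -/
theorem exists_triples {n : ℕ} {H : Subgroup (Perm (Fin n))} (P : Sylow 3 (Perm (Fin n)))
    (hP : (P : Subgroup (Perm (Fin n))) ≤ H) :
    ∃ ι : Fin (n / 3) × ZMod 3 ↪ Fin n, ∀ j, viaEmbeddingHom ι (cyc j) ∈ H := by
  obtain ⟨ι₀⟩ : Nonempty (Fin (n / 3) × ZMod 3 ↪ Fin n) :=
    Function.Embedding.nonempty_of_card_le (by
      rw [Fintype.card_prod, Fintype.card_fin, ZMod.card, Fintype.card_fin]
      exact Nat.div_mul_le_self n 3)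
  haveI : Fact (Nat.Prime 3) := ⟨Nat.prime_three⟩
  obtain ⟨R, hR⟩ := ((shiftGroup_isPGroup (n / 3)).map (viaEmbeddingHom ι₀)).exists_le_sylow
  obtain ⟨g, hg⟩ := MulAction.exists_smul_eq (Perm (Fin n)) R P
  refine ⟨ι₀.trans g.toEmbedding, fun j => hP ?_⟩
  have h1 : g * viaEmbeddingHom ι₀ (cyc j) * g⁻¹ ∈ (P : Subgroup (Perm (Fin n))) := by
    rw [← hg, Sylow.coe_subgroup_smul, Subgroup.mem_pointwise_smul_iff_inv_smul_mem]
    simpa [MulAut.smul_def, mul_assoc] using hR (Subgroup.mem_map_of_mem _ (cyc_mem j))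
  convert h1 using 1
  apply Equiv.ext
  intro y
  obtain ⟨x, rfl⟩ := g.surjective y
  simp only [Perm.mul_apply, Perm.inv_def, Equiv.symm_apply_apply]
  by_cases hx : x ∈ Set.range ι₀
  · obtain ⟨a, rfl⟩ := hx
    rw [viaEmbeddingHom_apply, viaEmbeddingHom_apply, viaEmbedding_apply,
      show g (ι₀ a) = (ι₀.trans g.toEmbedding) a from rfl, viaEmbedding_apply]
    rfl
  · have : g x ∉ Set.range (ι₀.trans g.toEmbedding) := by
      rintro ⟨a, ha⟩
      exact hx ⟨a, g.injective ha⟩
    rw [viaEmbeddingHom_apply, viaEmbeddingHom_apply, viaEmbedding_apply_of_notMem _ _ _ hx,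
      viaEmbedding_apply_of_notMem _ _ _ this]

theorem core {n : ℕ} (hn : 5 ≤ n) (H : Subgroup (Perm (Fin n)))
    (hF : Cfsg.IsQuasisimple ↥(Cfsg.generalizedFittingSubgroup ↥H))
    (hS : ∃ P : Sylow 3 (Perm (Fin n)), (P : Subgroup (Perm (Fin n))) ≤ H) :
    ∃ m : ℕ, (m = n - 2 ∨ m = n - 1 ∨ m = n) ∧
      Nonempty (↥(Cfsg.generalizedFittingSubgroup ↥H) ≃* ↥(alternatingGroup (Fin m))) := by
  classical
  obtain ⟨P, hP⟩ := hS
  obtain ⟨ι, hι⟩ := exists_triples P hP
  set Q := (Cfsg.generalizedFittingSubgroup ↥H).map H.subtype with hQdef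
  have hQ : CfsgLib.Amalgam.QsFitting H Q := CfsgLib.Amalgam.qsFitting_of_isQuasisimple H hF
  let R : Finset (Fin n) := Finset.univ.filter fun x => x ∉ Set.range ι
  have hRcard : R.card ≤ 2 := by
    have h1 : R = Finset.univ \ Finset.univ.map ι := by ext x; simp [R]
    rw [h1, Finset.card_univ_diff, Finset.card_map, Finset.card_univ, Fintype.card_fin,
      Fintype.card_prod, Fintype.card_fin, ZMod.card]
    omega
  have hcapply : ∀ j i k, viaEmbeddingHom ι (cyc j) (ι (i, k)) = ι (i, if i = j then k + 1 else k) :=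
    fun j i k => by rw [viaEmbeddingHom_apply, viaEmbedding_apply]; rfl
  have hcout : ∀ j x, x ∉ Set.range ι → viaEmbeddingHom ι (cyc j) x = x :=
    fun j x hx => by rw [viaEmbeddingHom_apply, viaEmbedding_apply_of_notMem _ _ _ hx]
  rcases hQ.eq_altOn_or_commute with hc | ⟨Δ, h5, hΔ⟩
  · exfalso
    -- every 3-cycle commutes with `Q`
    have hc3 : ∀ j, (viaEmbeddingHom ι (cyc j)).IsThreeCycle := by
      intro j
      rw [← card_support_eq_three_iff]
      have : (viaEmbeddingHom ι (cyc j)).support = (Finset.univ.image fun k => ι (j, k)) := by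
        ext x
        rw [mem_support, Finset.mem_image]
        constructor
        · intro hx
          by_cases hxr : x ∈ Set.range ι
          · obtain ⟨⟨i, k⟩, rfl⟩ := hxr
            rw [hcapply] at hx
            split at hx
            · subst i; exact ⟨k, Finset.mem_univ _, rfl⟩
            · exact absurd rfl hx
          · exact absurd (hcout j x hxr) hx
        · rintro ⟨k, -, rfl⟩
          rw [hcapply, if_pos rfl]
          intro h
          have := congrArg Prod.snd (ι.injective h)
          simp at this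
      rw [this, Finset.card_image_of_injective _ (fun a b h => (Prod.ext_iff.1 (ι.injective h)).2)]
      simp
    have hq : ∀ q ∈ Q, (∀ j k, ∃ a, q (ι (j, k)) = ι (j, k + a) ∧ q (ι (j, 0)) = ι (j, a)) := by
      intro q hq j k
      have hcomm := hc _ (hι j) (hc3 j) q hq
      have hstep : ∀ k, q (ι (j, k + 1)) = viaEmbeddingHom ι (cyc j) (q (ι (j, k))) := by
        intro k
        have := Equiv.congr_fun hcomm (ι (j, k))
        rw [Perm.mul_apply, Perm.mul_apply, hcapply, if_pos rfl] at this
        exact this.symm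
      obtain ⟨⟨i, a⟩, ha⟩ : q (ι (j, 0)) ∈ Set.range ι := by
        by_contra hr
        have := hstep 0
        rw [hcout j _ hr, zero_add] at this
        have := congrArg Prod.snd (ι.injective (q.injective this))
        simp at this
      have hij : i = j := by
        by_contra hij
        have := hstep 0
        rw [← ha, hcapply, if_neg hij, ha, zero_add] at this
        have := congrArg Prod.snd (ι.injective (q.injective this))
        simp at this
      subst i
      refine ⟨a, ?_, ha.symm⟩
      have h1 : q (ι (j, 1)) = ι (j, a + 1) := by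
        have := hstep 0; rwa [zero_add, ← ha, hcapply, if_pos rfl] at this
      have h2 : q (ι (j, 2)) = ι (j, a + 1 + 1) := by
        have := hstep 1; rwa [h1, hcapply, if_pos rfl] at this
      fin_cases k
      · show q (ι (j, 0)) = ι (j, 0 + a); rw [zero_add]; exact ha.symm
      · show q (ι (j, 1)) = ι (j, 1 + a); rw [h1, add_comm]
      · show q (ι (j, 2)) = ι (j, 2 + a); rw [h2]; congr 2; ring
    have hRinv : ∀ q ∈ Q, ∀ x, q x ∈ R ↔ x ∈ R := by
      intro q hq'
      have key : ∀ x, x ∈ R → q x ∈ R := by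
        intro x hx
        simp only [R, Finset.mem_filter, Finset.mem_univ, true_and] at hx ⊢
        rintro ⟨⟨i, k⟩, hik⟩
        obtain ⟨b, -, hb0⟩ := hq q hq' i 0
        obtain ⟨a, ha, ha0⟩ := hq q hq' i (k - b)
        have : a = b := (Prod.ext_iff.1 (ι.injective (ha0.symm.trans hb0))).2
        rw [this, sub_add_cancel, hik] at ha
        exact hx ⟨_, q.injective ha⟩
      refine fun x => ⟨fun h => ?_, key x⟩
      by_contra hx
      simp only [R, Finset.mem_filter, Finset.mem_univ, true_and, not_not] at hx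
      obtain ⟨⟨i, k⟩, rfl⟩ := hx
      obtain ⟨a, ha, -⟩ := hq q hq' i k
      rw [ha] at h
      simp only [R, Finset.mem_filter, Finset.mem_univ, true_and] at h
      exact h ⟨_, rfl⟩
    haveI : Group.IsSolvable (Perm {x // x ∈ R}) :=
      CfsgLib.Amalgam.isSolvable_perm_of_card_le_four (by rw [Fintype.card_coe]; omega)
    let φ : ↥Q →* Perm {x // x ∈ R} := MonoidHom.mk'
      (fun q => (q : Perm (Fin n)).subtypePerm (hRinv q q.2)) (fun a b => Equiv.ext fun y => Subtype.ext rfl)
    have hfixR : ∀ q ∈ Q, ∀ x ∈ R, q x = x := fun q hq' x hx =>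
      congrArg Subtype.val (Equiv.congr_fun (hQ.hom_trivial φ ⟨q, hq'⟩) ⟨x, hx⟩)
    obtain ⟨a, ha, b, hb, hab⟩ := hQ.not_abelian
    refine hab (Equiv.ext fun x => ?_)
    rw [Perm.mul_apply, Perm.mul_apply]
    by_cases hx : x ∈ R
    · rw [hfixR b hb x hx, hfixR a ha x hx, hfixR b hb x hx]
    · simp only [R, Finset.mem_filter, Finset.mem_univ, true_and, not_not] at hx
      obtain ⟨⟨i, k⟩, rfl⟩ := hx
      obtain ⟨u, hu, hu0⟩ := hq a ha i k
      obtain ⟨v, hv, hv0⟩ := hq b hb i k
      obtain ⟨u', hu', hu0'⟩ := hq a ha i (k + v)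
      obtain ⟨v', hv', hv0'⟩ := hq b hb i (k + u)
      have e1 : u' = u := (Prod.ext_iff.1 (ι.injective (hu0'.symm.trans hu0))).2
      have e2 : v' = v := (Prod.ext_iff.1 (ι.injective (hv0'.symm.trans hv0))).2
      rw [hv, hu', hu, hv', e1, e2, add_right_comm]
  · refine ⟨Δ.card, ?_, ⟨((Cfsg.generalizedFittingSubgroup ↥H).equivMapOfInjective _
      H.subtype_injective).trans ((MulEquiv.subgroupCongr hΔ).trans (CfsgLib.Amalgam.altOnEquiv Δ))⟩⟩
    have hsub : Finset.univ \ R ⊆ Δ := by
      intro x hx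
      simp only [R, Finset.mem_sdiff, Finset.mem_univ, Finset.mem_filter, true_and, not_not] at hx
      obtain ⟨⟨j, k⟩, rfl⟩ := hx
      by_contra hx
      have h1 : viaEmbeddingHom ι (cyc j) = 1 := by
        refine hQ.eq_one_of_fix hΔ (hι j) fun y hy => ?_
        by_contra hmove
        by_cases hyr : y ∈ Set.range ι
        · obtain ⟨⟨i, l⟩, rfl⟩ := hyr
          rw [hcapply] at hmove
          split at hmove
          · subst i
            have key : ∀ l, ι (j, l) ∈ Δ ↔ ι (j, l + 1) ∈ Δ := by
              intro l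
              have := hQ.mem_iff_mem h5 hΔ (hι j) (ι (j, l))
              rw [hcapply, if_pos rfl] at this
              exact this.symm
            have e1 : ((1 : ZMod 3) + 1) = 2 := by decide
            have k0 := key 0; have k1 := key 1
            rw [e1] at k1
            rw [zero_add] at k0
            have hall : ∀ l, ι (j, l) ∈ Δ ↔ ι (j, 0) ∈ Δ := by
              intro l
              fin_cases l
              · exact Iff.rfl
              · exact k0.symm
              · exact (k0.trans k1).symm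
            exact hx ((hall k).2 ((hall l).1 hy))
          · exact hmove rfl
        · exact hmove (hcout j y hyr)
      have h2 := Equiv.congr_fun h1 (ι (j, k))
      rw [hcapply, if_pos rfl, Perm.one_apply] at h2
      have := congrArg Prod.snd (ι.injective h2)
      simp at this
    have h1 := Finset.card_le_card hsub
    rw [Finset.card_univ_diff, Fintype.card_fin] at h1
    have h2 : Δ.card ≤ n := (Finset.card_le_univ Δ).trans_eq (Fintype.card_fin n)
    omega

/-- Let n ≥ 5 and let H be a subgroup of the symmetric group of degree n whose generalized Fitting subgroup F*(H) is quasisimple. If H contains a Sylow 3-subgroup of the symmetric group, then F*(H) is isomorphic to an alternating group of degree m for some m ∈ {n − 2, n − 1, n}. -/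
theorem result (n : ℕ) (hn : 5 ≤ n) (H : Subgroup (Equiv.Perm (Fin n))) (hF : Cfsg.IsQuasisimple ↥(Cfsg.generalizedFittingSubgroup ↥H)) (hS : ∃ P : Sylow 3 (Equiv.Perm (Fin n)), (P : Subgroup (Equiv.Perm (Fin n))) ≤ H) : ∃ m : ℕ, (m = n - 2 ∨ m = n - 1 ∨ m = n) ∧ Nonempty (↥(Cfsg.generalizedFittingSubgroup ↥H) ≃* ↥(alternatingGroup (Fin m))) := by
  exact core hn H hF hS

end Cfsg.Agent.S2929
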