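import Cfsg.Statements.S2930
import Cfsg.Agent.Lib.Amalgam.AltOvergroup
import Cfsg.Agent.Lib.Perm.AutAltSix
import Cfsg.Agent.S2119
import Cfsg.Agent.S2790
import Cfsg.Agent.Lib.Solvable.Nilpotent
import Mathlib.GroupTheory.IndexNormal

set_option autoImplicit false
open Cfsg

namespace Cfsg.Agent.S2930

open Subgroup Equiv Equiv.Perm

/-- A permutation commuting with the alternating group is trivial. -/
theorem eq_one_of_commute {n : ℕ} (hn : 5 ≤ n) (σ : Perm (Fin n))
    (h : ∀ τ : Perm (Fin n), τ ∈ alternatingGroup (Fin n) → σ * τ = τ * σ) : σ = 1 := by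
  apply Equiv.ext
  intro x
  by_contra hx
  have hcard : 2 < ((Finset.univ : Finset (Fin n)).erase x).card := by
    rw [Finset.card_erase_of_mem (Finset.mem_univ _), Finset.card_univ, Fintype.card_fin]; omega
  obtain ⟨y, hy, z, hz, hyz, hy', hz'⟩ : ∃ y, y ≠ x ∧ ∃ z, z ≠ x ∧ y ≠ z ∧ y ≠ σ x ∧ z ≠ σ x := by
    have h2 : 1 < (((Finset.univ : Finset (Fin n)).erase x).erase (σ x)).card := by
      have := Finset.pred_card_le_card_erase (s := (Finset.univ : Finset (Fin n)).erase x) (a := σ x)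
      omega
    obtain ⟨y, hy, z, hz, hne⟩ := Finset.one_lt_card.1 h2
    simp only [Finset.mem_erase] at hy hz
    exact ⟨y, hy.2.1, z, hz.2.1, hne, hy.1, hz.1⟩
  have hσx : σ x ≠ x := hx
  have hτ : swap x y * swap x z ∈ alternatingGroup (Fin n) := by
    rw [mem_alternatingGroup, map_mul, sign_swap hy.symm, sign_swap hz.symm]; decide
  have h1 := Equiv.congr_fun (h _ hτ) x
  rw [Perm.mul_apply, Perm.mul_apply, Perm.mul_apply, swap_apply_left,
    swap_apply_of_ne_of_ne hz hyz.symm, Perm.mul_apply,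
    swap_apply_of_ne_of_ne hσx hz'.symm, swap_apply_of_ne_of_ne hσx hy'.symm] at h1
  exact hz (σ.injective h1)

/-- An automorphism of `A_n` with a trivial odd power is conjugation by a permutation. -/
theorem exists_perm_of_aut {n : ℕ} (hn : 5 ≤ n) (α : MulAut ↥(alternatingGroup (Fin n))) (k : ℕ)
    (hk : α ^ (3 ^ k) = 1) : ∃ σ : Perm (Fin n), MulAut.conjNormal σ = α := by
  by_cases h6 : n = 6
  · subst h6
    obtain ⟨ψ, hψ⟩ := CfsgLib.Perm.AutAltSix.exists_outer
    obtain ⟨s, hs⟩ : ∃ s : CfsgLib.Perm.AutAltSix.A6, (s : Perm (Fin 6)) = CfsgLib.Perm.AutAltSix.cs :=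
      ⟨⟨_, mem_alternatingGroup.2 CfsgLib.Perm.AutAltSix.cs_cr_facts.2.2.2.2.2.2.2.2.1⟩, rfl⟩
    have hs3 : (s : Perm (Fin 6)).IsThreeCycle :=
      card_support_eq_three_iff.1 (hs ▸ CfsgLib.Perm.AutAltSix.cs_cr_facts.1)
    have hfix : ((α s : CfsgLib.Perm.AutAltSix.A6) : Perm (Fin 6)).IsThreeCycle := by
      by_contra hno
      have ho : ∀ (β : MulAut CfsgLib.Perm.AutAltSix.A6) (x : CfsgLib.Perm.AutAltSix.A6),
          (x : Perm (Fin 6)).IsThreeCycle → orderOf (β x) = 3 := by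
        intro β x hx
        rw [MulEquiv.orderOf_eq, ← Subgroup.orderOf_coe, hx.orderOf]
      have hflip1 : ∀ x : CfsgLib.Perm.AutAltSix.A6, (x : Perm (Fin 6)).IsThreeCycle →
          ¬ ((α x : CfsgLib.Perm.AutAltSix.A6) : Perm (Fin 6)).IsThreeCycle :=
        fun x hx hαx => hno (CfsgLib.Perm.AutAltSix.isThreeCycle_map hx hαx hs3)
      have hflip2 : ∀ x : CfsgLib.Perm.AutAltSix.A6, orderOf x = 3 → ¬ (x : Perm (Fin 6)).IsThreeCycle →
          ((α x : CfsgLib.Perm.AutAltSix.A6) : Perm (Fin 6)).IsThreeCycle := by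
        intro x hx hx3
        by_contra hαx
        have h1 := hψ (α s) (ho α s hs3) (hflip1 s hs3)
        have h2 := hψ (α x) (by rw [MulEquiv.orderOf_eq, hx]) hαx
        have h3 := alternatingGroup.isThreeCycle_isConj (by simp) h1 h2
        have h4 := (α.trans ψ).symm.toMonoidHom.map_isConj h3
        have e : ∀ y, (α.trans ψ).symm.toMonoidHom (ψ (α y)) = y := fun y => (α.trans ψ).symm_apply_apply y
        rw [e, e] at h4
        have h5 := (alternatingGroup (Fin 6)).subtype.map_isConj h4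
        have h6' := isConj_iff_cycleType_eq.1 h5
        exact hx3 (h6'.symm.trans hs3)
      have hit : ∀ j : ℕ, (((α ^ (2 * j)) s : CfsgLib.Perm.AutAltSix.A6) : Perm (Fin 6)).IsThreeCycle := by
        intro j
        induction j with
        | zero => simpa using hs3
        | succ j ih =>
          rw [show 2 * (j + 1) = (2 * j + 1) + 1 by ring, pow_succ', MulAut.mul_apply, pow_succ',
            MulAut.mul_apply]
          exact hflip2 _ (ho α _ ih) (hflip1 _ ih)
      obtain ⟨j, hj⟩ : Odd (3 ^ k) := (by decide : Odd 3).pow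
      have h1 := hflip1 _ (hit j)
      rw [← MulAut.mul_apply, ← pow_succ', ← hj, hk] at h1
      exact h1 hs3
    choose π hπ using fun i => CfsgLib.Perm.AutAltSix.stab_map hs3 hfix i
    have hsep : ∀ a b : Fin 6, (∀ g : CfsgLib.Perm.AutAltSix.A6,
        (g : Perm (Fin 6)) a = a → (g : Perm (Fin 6)) b = b) → a = b := by
      intro a b h
      by_contra hab
      obtain ⟨g, hg, hga, hgb⟩ := CfsgLib.Perm.AutAltSix.stab_sep a b hab
      exact hgb (h ⟨g, mem_alternatingGroup.2 hg⟩ hga)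
    have hinj : Function.Injective π := fun a b e =>
      hsep a b fun g hg => (hπ b g).2 (e ▸ (hπ a g).1 hg)
    let P : Perm (Fin 6) := Equiv.ofBijective π ⟨hinj, Finite.injective_iff_surjective.1 hinj⟩
    refine ⟨P, MulEquiv.ext fun x => Subtype.ext (Equiv.ext fun y => ?_)⟩
    obtain ⟨i, rfl⟩ := P.surjective y
    rw [MulAut.conjNormal_apply, Perm.mul_apply, Perm.mul_apply, Perm.inv_def, Equiv.symm_apply_apply]
    show π ((x : Perm (Fin 6)) i) = ((α x : CfsgLib.Perm.AutAltSix.A6) : Perm (Fin 6)) (π i)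
    refine hsep _ _ fun g hg => ?_
    obtain ⟨g, rfl⟩ := α.surjective g
    have h1 := (hπ _ g).2 hg
    have h2 : ((x⁻¹ * g * x : CfsgLib.Perm.AutAltSix.A6) : Perm (Fin 6)) i = i := by
      simp only [Subgroup.coe_mul, Subgroup.coe_inv, Perm.mul_apply]
      rw [Perm.inv_def, Equiv.symm_apply_eq]
      exact h1
    have h3 := (hπ i _).1 h2
    simp only [map_mul, map_inv, Subgroup.coe_mul, Subgroup.coe_inv, Perm.mul_apply] at h3
    rw [Perm.inv_def, Equiv.symm_apply_eq] at h3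
    exact h3
  · exact (Cfsg.Agent.S2119.result n (by omega) h6).2 α

/-- A 3-minimal group with alternating generalized Fitting subgroup equals it. -/
theorem fitting_eq_top {X : Type*} [Group X] [Finite X] (hX : Cfsg.IsPMinimal 3 X) {n : ℕ} (hn : 5 ≤ n)
    (e : ↥(Cfsg.generalizedFittingSubgroup X) ≃* ↥(alternatingGroup (Fin n))) :
    Cfsg.generalizedFittingSubgroup X = ⊤ := by
  set F := Cfsg.generalizedFittingSubgroup X with hF
  haveI hFn : F.Normal := CfsgLib.Comp.generalizedFittingSubgroup_normal X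
  haveI : Fact (Nat.Prime 3) := ⟨Nat.prime_three⟩
  have hmem : ∀ x : X, ∀ k : ℕ, x ^ (3 ^ k) = 1 → x ∈ F := by
    intro x k hk
    let α : MulAut ↥(alternatingGroup (Fin n)) := e.symm.trans ((MulAut.conjNormal x : MulAut ↥F).trans e)
    have hpow : ∀ j : ℕ, α ^ j = e.symm.trans ((MulAut.conjNormal (x ^ j) : MulAut ↥F).trans e) := by
      intro j
      induction j with
      | zero => ext y; simp
      | succ j ih =>
        rw [pow_succ', ih]
        refine MulEquiv.ext fun y => ?_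
        show α (e ((MulAut.conjNormal (x ^ j) : MulAut ↥F) (e.symm y))) = e ((MulAut.conjNormal (x ^ (j + 1)) : MulAut ↥F) (e.symm y))
        rw [pow_succ', map_mul, MulAut.mul_apply]
        simp [α]
    have hαk : α ^ (3 ^ k) = 1 := by
      rw [hpow, hk, map_one]; ext y; simp
    obtain ⟨σ, hσ⟩ := exists_perm_of_aut hn α k hαk
    have hσk : σ ^ (3 ^ k) = 1 := by
      refine eq_one_of_commute hn _ fun τ hτ => ?_
      have h1 : (MulAut.conjNormal (σ ^ (3 ^ k)) : MulAut ↥(alternatingGroup (Fin n))) = 1 := by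
        rw [map_pow, hσ, hαk]
      have h2 := congrArg Subtype.val (congrArg (fun β : MulAut ↥(alternatingGroup (Fin n)) => β ⟨τ, hτ⟩) h1)
      simp only [MulAut.conjNormal_apply, MulAut.one_apply] at h2
      conv_rhs => rw [← h2, inv_mul_cancel_right]
    have hsign : σ ∈ alternatingGroup (Fin n) := by
      rw [mem_alternatingGroup]
      have h1 : Perm.sign σ ^ (3 ^ k) = 1 := by rw [← map_pow, hσk, map_one]
      have h2 : Perm.sign σ ^ 2 = 1 := Int.units_sq _
      obtain ⟨j, hj⟩ : Odd (3 ^ k) := (by decide : Odd 3).pow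
      rw [hj, pow_succ, pow_mul, h2, one_pow, one_mul] at h1
      exact h1
    set f := e.symm ⟨σ, hsign⟩ with hf
    have hc : x * (f : X)⁻¹ ∈ centralizer (F : Set X) := by
      rw [mem_centralizer_iff]
      intro a ha
      have h1 : α (e ⟨a, ha⟩) = MulAut.conjNormal σ (e ⟨a, ha⟩) := by rw [hσ]
      have h2 : (MulAut.conjNormal σ : MulAut ↥(alternatingGroup (Fin n))) (e ⟨a, ha⟩) = e (f * ⟨a, ha⟩ * f⁻¹) := by
        apply Subtype.ext
        rw [MulAut.conjNormal_apply, map_mul, map_mul, map_inv, hf, e.apply_symm_apply]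
        rfl
      rw [h2] at h1
      simp only [α, MulEquiv.trans_apply, e.symm_apply_apply] at h1
      have h3 := congrArg Subtype.val (e.injective h1)
      simp only [MulAut.conjNormal_apply, Subgroup.coe_mul, Subgroup.coe_inv] at h3
      have h4 : (f : X)⁻¹ * (x * a * x⁻¹) * f = a := by rw [h3]; simp [mul_assoc]
      -- move to the other side
      have h5 : ∀ b : ↥F, x * (b : X) * x⁻¹ = (f : X) * b * (f : X)⁻¹ := by
        intro b
        have g1 : α (e b) = MulAut.conjNormal σ (e b) := by rw [hσ]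
        have g2 : (MulAut.conjNormal σ : MulAut ↥(alternatingGroup (Fin n))) (e b) = e (f * b * f⁻¹) := by
          apply Subtype.ext
          rw [MulAut.conjNormal_apply, map_mul, map_mul, map_inv, hf, e.apply_symm_apply]
          rfl
        rw [g2] at g1
        simp only [α, MulEquiv.trans_apply, e.symm_apply_apply] at g1
        have := congrArg Subtype.val (e.injective g1)
        simpa [MulAut.conjNormal_apply] using this
      have h6 := h5 (f⁻¹ * ⟨a, ha⟩ * f)
      simp only [Subgroup.coe_mul, Subgroup.coe_inv] at h6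
      have h7 : x * ((f : X)⁻¹ * a * f) * x⁻¹ = a := by rw [h6]; simp [mul_assoc]
      calc a * (x * (f : X)⁻¹) = x * ((f : X)⁻¹ * a * f) * x⁻¹ * (x * (f : X)⁻¹) := by rw [h7]
        _ = x * (f : X)⁻¹ * a := by simp [mul_assoc]
    have h1 := mul_mem (CfsgLib.Comp.centralizer_generalizedFitting_le X hc) f.2
    simpa using h1
  obtain ⟨T⟩ : Nonempty (Sylow 3 X) := inferInstance
  have hTF : (T : Subgroup X) ≤ F := by
    intro t ht
    obtain ⟨k, hk⟩ := T.isPGroup' ⟨t, ht⟩
    exact hmem t k (congrArg Subtype.val hk)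
  by_contra hne
  obtain ⟨hnn, M, ⟨hM, hTM⟩, huniq⟩ := hX T
  obtain ⟨M₁, hM₁, hFM₁⟩ := (eq_top_or_exists_le_coatom F).resolve_left hne
  have hNne : normalizer ((T : Subgroup X) : Set X) ≠ ⊤ := fun h => hnn (normalizer_eq_top_iff.1 h)
  obtain ⟨M₂, hM₂, hNM₂⟩ := (eq_top_or_exists_le_coatom _).resolve_left hNne
  have e1 := huniq M₁ ⟨hM₁, hTF.trans hFM₁⟩
  have e2 := huniq M₂ ⟨hM₂, le_normalizer.trans hNM₂⟩
  apply hM.1
  rw [eq_top_iff, ← Sylow.normalizer_sup_eq_top (T.subtype hTF)]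
  refine sup_le ?_ (e1 ▸ hFM₁)
  rw [Sylow.coe_subtype, map_subgroupOf_eq_of_le hTF]
  exact e2 ▸ hNM₂

section Alt

variable {n : ℕ}

/-- A subgroup of `A_n` (as permutations) generated by 3-cycles with a single orbit is everything. -/
theorem alternating_le_of_connected (hn : 5 ≤ n) (J : Subgroup (Perm (Fin n)))
    (h : ∀ x y : Fin n, ∃ k ∈ closure {c : Perm (Fin n) | c ∈ J ∧ c.IsThreeCycle}, k x = y) :
    alternatingGroup (Fin n) ≤ J := by
  classical
  set L := closure {c : Perm (Fin n) | c ∈ J ∧ c.IsThreeCycle} with hL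
  have hLJ : L ≤ J := (closure_le _).2 fun c hc => hc.1
  haveI : MulAction.IsPretransitive ↥L (Fin n) := ⟨fun a b => by
    obtain ⟨k, hk, hkb⟩ := h a b
    exact ⟨⟨k, hk⟩, hkb⟩⟩
  haveI hprim : MulAction.IsPreprimitive ↥L (Fin n) := by
    refine { isTrivialBlock_of_isBlock := fun {B} hB => ?_ }
    by_contra hB'
    simp only [MulAction.IsTrivialBlock, not_or] at hB'
    obtain ⟨hns, hnu⟩ := hB'
    have hfix : ∀ σ : Perm (Fin n), σ ∈ L → σ '' B = B := by
      intro σ hσ
      induction hσ using closure_induction with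
      | mem c hc =>
        by_contra hne
        have hd : _root_.Disjoint (c '' B) B :=
          (hB.smul_eq_or_disjoint (⟨c, subset_closure hc⟩ : ↥L)).resolve_left hne
        have hsub : B ⊆ ↑c.support := by
          intro b hb
          rw [Finset.mem_coe, mem_support]
          intro h
          exact Set.disjoint_left.1 hd ⟨b, hb, h⟩ hb
        have hsub' : c '' B ⊆ ↑c.support := by
          rintro _ ⟨b, hb, rfl⟩
          rw [Finset.mem_coe, apply_mem_support]
          exact hsub hb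
        have hcard : (c '' B ∪ B).ncard ≤ 3 := by
          refine le_trans (Set.ncard_le_ncard (Set.union_subset hsub' hsub) (Finset.finite_toSet _)) ?_
          rw [Set.ncard_coe_finset, hc.2.card_support]
        rw [Set.ncard_union_eq hd, Set.ncard_image_of_injective _ c.injective] at hcard
        have h2 : 2 ≤ B.ncard := by
          by_contra h
          exact hns ((Set.ncard_le_one_iff_subsingleton).1 (by omega))
        omega
      | one => simp
      | mul a b _ _ iha ihb => rw [Perm.coe_mul, Set.image_comp, ihb, iha]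
      | inv a _ iha =>
        conv_lhs => rw [← iha]
        simp [← Set.image_comp]
    obtain ⟨b, hb⟩ : B.Nonempty := by
      by_contra h
      rw [Set.not_nonempty_iff_eq_empty] at h
      exact hns (h ▸ Set.subsingleton_empty)
    refine hnu (Set.eq_univ_of_forall fun z => ?_)
    obtain ⟨k, hk, rfl⟩ := h b z
    rw [← hfix k hk]
    exact ⟨b, hb, rfl⟩
  by_cases hex : ∃ c, c ∈ L ∧ c.IsThreeCycle
  · obtain ⟨c, hc, h3⟩ := hex
    exact (alternatingGroup_le_of_isPreprimitive_of_isThreeCycle_mem hprim h3 hc).trans hLJ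
  · exfalso
    push Not at hex
    have hbot : L = ⊥ := by
      rw [hL, closure_eq_bot_iff]
      intro c hc
      exact absurd hc.2 (hex c (subset_closure hc))
    obtain ⟨k, hk, hkb⟩ := h ⟨0, by omega⟩ ⟨1, by omega⟩
    rw [hbot, mem_bot] at hk
    subst hk
    simp [Fin.ext_iff] at hkb

/-- The even permutations preserving an equivalence relation. -/
def relStab (r : Fin n → Fin n → Prop) : Subgroup (Perm (Fin n)) where
  carrier := {g | g ∈ alternatingGroup (Fin n) ∧ ∀ x y, r (g x) (g y) ↔ r x y}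
  one_mem' := ⟨one_mem _, fun _ _ => Iff.rfl⟩
  mul_mem' := fun ha hb => ⟨mul_mem ha.1 hb.1, fun x y => by
    rw [Perm.mul_apply, Perm.mul_apply, ha.2, hb.2]⟩
  inv_mem' := fun {a} ha => ⟨inv_mem ha.1, fun x y => by
    rw [← ha.2 (a⁻¹ x) (a⁻¹ y)]; simp⟩

theorem relStab_le (r : Fin n → Fin n → Prop) : relStab r ≤ alternatingGroup (Fin n) := fun _ h => h.1

/-- A 3-cycle inside one class preserves the relation. -/
theorem threeCycle_mem_relStab {r : Fin n → Fin n → Prop} (he : Equivalence r) {x y z : Fin n}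
    (hxy : x ≠ y) (hxz : x ≠ z) (hyz : y ≠ z) (h1 : r x y) (h2 : r x z) :
    swap x y * swap x z ∈ relStab r ∧ (swap x y * swap x z).IsThreeCycle := by
  refine ⟨⟨(isThreeCycle_swap_mul_swap_same hxy hxz hyz).mem_alternatingGroup, ?_⟩,
    isThreeCycle_swap_mul_swap_same hxy hxz hyz⟩
  have key : ∀ w, r ((swap x y * swap x z) w) w := by
    intro w
    rw [Perm.mul_apply]
    by_cases hwx : w = x
    · subst hwx
      rw [swap_apply_left, swap_apply_of_ne_of_ne hxz.symm hyz.symm]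
      exact he.symm h2
    by_cases hwz : w = z
    · subst hwz
      rw [swap_apply_right, swap_apply_left]
      exact he.trans (he.symm h1) h2
    rw [swap_apply_of_ne_of_ne hwx hwz]
    by_cases hwy : w = y
    · subst hwy; rw [swap_apply_right]; exact h1
    · rw [swap_apply_of_ne_of_ne hwx hwy]; exact he.refl w
  intro a b
  exact ⟨fun h => he.trans (he.symm (key a)) (he.trans h (key b)),
    fun h => he.trans (key a) (he.trans h (he.symm (key b)))⟩

theorem relStab_ne (hn : 5 ≤ n) {r : Fin n → Fin n → Prop} (he : Equivalence r) {x y z : Fin n}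
    (hxy : x ≠ y) (h1 : r x y) (h2 : ¬ r x z) : ¬ alternatingGroup (Fin n) ≤ relStab r := by
  intro hle
  have hxz : x ≠ z := fun e => h2 (e ▸ he.refl x)
  have hyz : y ≠ z := fun e => h2 (e ▸ h1)
  obtain ⟨w, hw⟩ : ∃ w, w ∉ ({x, y, z} : Finset (Fin n)) := by
    by_contra hc
    push Not at hc
    have h4 : (Finset.univ : Finset (Fin n)) ⊆ {x, y, z} := fun a _ => hc a
    have := (Finset.card_le_card h4).trans Finset.card_le_three
    rw [Finset.card_univ, Fintype.card_fin] at this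
    omega
  simp only [Finset.mem_insert, Finset.mem_singleton, not_or] at hw
  obtain ⟨hwx, hwy, hwz⟩ := hw
  have hmem := hle (isThreeCycle_swap_mul_swap_same (Ne.symm hwy) hyz hwz).mem_alternatingGroup
  have := (hmem.2 x y).2 h1
  rw [Perm.mul_apply, Perm.mul_apply, swap_apply_of_ne_of_ne hxy hxz,
    swap_apply_of_ne_of_ne hxy (Ne.symm hwx), swap_apply_left,
    swap_apply_of_ne_of_ne hyz.symm (Ne.symm hwz)] at this
  exact h2 this

end Alt

section Tbl

variable {n : ℕ}

/-- Connection relation of 3-cycles in `J`. -/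
def Conn (J : Subgroup (Perm (Fin n))) (x y : Fin n) : Prop :=
  ∃ k ∈ closure {c : Perm (Fin n) | c ∈ J ∧ c.IsThreeCycle}, k x = y

theorem conn_refl (J : Subgroup (Perm (Fin n))) (x : Fin n) : Conn J x x := ⟨1, one_mem _, rfl⟩

theorem conn_symm {J : Subgroup (Perm (Fin n))} {x y : Fin n} (h : Conn J x y) : Conn J y x := by
  obtain ⟨k, hk, rfl⟩ := h
  exact ⟨k⁻¹, inv_mem hk, by simp⟩

theorem conn_trans {J : Subgroup (Perm (Fin n))} {x y z : Fin n} (h : Conn J x y) (h' : Conn J y z) :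
    Conn J x z := by
  obtain ⟨k, hk, rfl⟩ := h
  obtain ⟨l, hl, rfl⟩ := h'
  exact ⟨l * k, mul_mem hl hk, rfl⟩

theorem conn_map {J : Subgroup (Perm (Fin n))} {g : Perm (Fin n)} (hg : g ∈ J) {x y : Fin n}
    (h : Conn J x y) : Conn J (g x) (g y) := by
  obtain ⟨k, hk, rfl⟩ := h
  refine ⟨g * k * g⁻¹, ?_, by simp [Perm.mul_apply]⟩
  set C := {c : Perm (Fin n) | c ∈ J ∧ c.IsThreeCycle}
  have : closure C ≤ (closure C).comap (MulAut.conj g).toMonoidHom := (closure_le _).2 fun c hc =>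
    subset_closure ⟨mul_mem (mul_mem hg hc.1) (inv_mem hg), CfsgLib.Amalgam.perm_conj_isThreeCycle hc.2 g⟩
  exact this hk

theorem conn_of_class {J : Subgroup (Perm (Fin n))} {r : Fin n → Fin n → Prop} (he : Equivalence r)
    (hJ : relStab r ≤ J) {a b c : Fin n} (hab : r a b) (hac : r a c) (hca : c ≠ a) (hcb : c ≠ b) :
    Conn J a b := by
  by_cases e : a = b
  · subst e; exact conn_refl J a
  obtain ⟨h1, h2⟩ := threeCycle_mem_relStab he (Ne.symm hca) e hcb hac hab
  refine ⟨_, subset_closure ⟨hJ h1, h2⟩, ?_⟩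
  rw [Perm.mul_apply, swap_apply_left, swap_apply_of_ne_of_ne (Ne.symm e) (Ne.symm hcb)]

/-- The uniqueness hypothesis, for a subgroup of permutations. -/
def UniqueAbove (T : Subgroup (Perm (Fin n))) : Prop :=
  ∀ H₁ H₂ : Subgroup (Perm (Fin n)), H₁ ≤ alternatingGroup (Fin n) → H₂ ≤ alternatingGroup (Fin n) →
    T ≤ H₁ → T ≤ H₂ → ¬ alternatingGroup (Fin n) ≤ H₁ → ¬ alternatingGroup (Fin n) ≤ H₂ →
    ¬ alternatingGroup (Fin n) ≤ H₁ ⊔ H₂

theorem two_systems_false (hn : 5 ≤ n) {T : Subgroup (Perm (Fin n))} (hTA : T ≤ alternatingGroup (Fin n))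
    (hU : UniqueAbove T) (z : Perm (Fin n)) (hz : ∀ t ∈ T, t * z = z * t) (hz3 : z * z * z = 1)
    (hzf : ∀ a, z a ≠ a) (r₂ : Fin n → Fin n → Prop) (he₂ : Equivalence r₂)
    (hT₂ : ∀ t ∈ T, ∀ a b, r₂ (t a) (t b) ↔ r₂ a b) (hzr : ∀ a, r₂ a (z a))
    (x₀ c : Fin n) (hc : r₂ x₀ c) (hc0 : c ≠ x₀) (hc1 : c ≠ z x₀) (hc2 : c ≠ z (z x₀))
    (y₀ : Fin n) (hy₀ : ¬ r₂ x₀ y₀) : False := by
  classical
  have hz3a : ∀ a, z (z (z a)) = a := fun a => by
    have := Equiv.congr_fun hz3 a
    simpa [Perm.mul_apply] using this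
  have hzz : ∀ a, z (z a) ≠ a := fun a h => hzf a (by
    have := hz3a a
    rw [h] at this
    exact this)
  let r₁ : Fin n → Fin n → Prop := fun a b => b = a ∨ b = z a ∨ b = z (z a)
  have he₁ : Equivalence r₁ := by
    refine ⟨fun a => Or.inl rfl, fun {a b} h => ?_, fun {a b d} h h' => ?_⟩
    · rcases h with rfl | rfl | rfl
      · exact Or.inl rfl
      · exact Or.inr (Or.inr (hz3a a).symm)
      · exact Or.inr (Or.inl (hz3a a).symm)
    · rcases h with rfl | rfl | rfl <;> rcases h' with rfl | rfl | rfl <;> simp [r₁, hz3a]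
  have h12 : ∀ a b, r₁ a b → r₂ a b := by
    rintro a b (h | h | h) <;> rw [h]
    · exact he₂.refl a
    · exact hzr a
    · exact he₂.trans (hzr a) (hzr (z a))
  set J := relStab r₁ ⊔ relStab r₂
  have hT1 : T ≤ relStab r₁ := fun t ht => by
    refine ⟨hTA ht, fun a b => ?_⟩
    have e : ∀ w, t (z w) = z (t w) := fun w => by
      have := Equiv.congr_fun (hz t ht) w
      simpa [Perm.mul_apply] using this
    show (t b = t a ∨ t b = z (t a) ∨ t b = z (z (t a))) ↔ _
    rw [← e, ← e, t.injective.eq_iff, t.injective.eq_iff, t.injective.eq_iff]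
  refine hU (relStab r₁) (relStab r₂) (relStab_le _) (relStab_le _) hT1
    (fun t ht => ⟨hTA ht, fun a b => hT₂ t ht a b⟩) ?_ ?_ ?_
  · refine relStab_ne hn he₁ (x := x₀) (y := z x₀) (z := c) (hzf x₀).symm (Or.inr (Or.inl rfl)) ?_
    rintro (e | e | e)
    exacts [hc0 e, hc1 e, hc2 e]
  · exact relStab_ne hn he₂ hc0.symm hc hy₀
  refine alternating_le_of_connected hn J ?_
  have hclass : ∀ a b, r₂ a b → Conn J a b := by
    intro a b hab
    by_cases hb : b = z a
    · subst hb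
      exact conn_of_class he₂ le_sup_right hab (he₂.trans (hzr a) (hzr (z a))) (hzz a) (hzf (z a))
    · exact conn_of_class he₂ le_sup_right hab (hzr a) (hzf a) (Ne.symm hb)
  have hto : ∀ b, Conn J x₀ b := by
    intro b
    by_cases hb : r₂ x₀ b
    · exact hclass _ _ hb
    -- exchange the small blocks of `x₀` and `b`, transpose two points of the block of `c`
    set g := swap x₀ b * swap (z x₀) (z b) * swap (z (z x₀)) (z (z b)) * swap (z c) (z (z c)) with hg
    have nb : ∀ u v, r₁ x₀ u → r₁ b v → u ≠ v := fun u v hu hv e =>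
      hb (he₂.trans (h12 _ _ hu) (e ▸ he₂.symm (h12 _ _ hv)))
    have nc : ∀ u v, r₁ c u → r₁ x₀ v → u ≠ v := fun u v hu hv e => by
      have h := he₁.trans hv (e ▸ he₁.symm hu)
      rcases h with h | h | h
      exacts [hc0 h, hc1 h, hc2 h]
    have nd : ∀ u v, r₁ c u → r₁ b v → u ≠ v := fun u v hu hv e =>
      hb (he₂.trans hc (he₂.trans (h12 _ _ hu) (e ▸ he₂.symm (h12 _ _ hv))))
    have i0 : ∀ a, r₁ a a := fun a => Or.inl rfl
    have i1 : ∀ a, r₁ a (z a) := fun a => Or.inr (Or.inl rfl)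
    have i2 : ∀ a, r₁ a (z (z a)) := fun a => Or.inr (Or.inr rfl)
    have hev : g ∈ alternatingGroup (Fin n) := by
      rw [hg, mem_alternatingGroup, map_mul, map_mul, map_mul, sign_swap (nb _ _ (i0 _) (i0 _)),
        sign_swap (nb _ _ (i1 _) (i1 _)), sign_swap (nb _ _ (i2 _) (i2 _)), sign_swap (hzf (z c)).symm]
      decide
    have hs : ∀ {u v w : Fin n}, w ≠ u → w ≠ v → swap u v w = w := fun h h' => swap_apply_of_ne_of_ne h h'
    have gx0 : g x₀ = b := by
      rw [hg, Perm.mul_apply, Perm.mul_apply, Perm.mul_apply,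
        hs (nc _ _ (i1 _) (i0 _)).symm (nc _ _ (i2 _) (i0 _)).symm,
        hs (hzz x₀).symm (nb _ _ (i0 _) (i2 _)), hs (hzf x₀).symm (nb _ _ (i0 _) (i1 _)), swap_apply_left]
    have gc : g c = c := by
      rw [hg, Perm.mul_apply, Perm.mul_apply, Perm.mul_apply, hs (hzf c).symm (hzz c).symm,
        hs (nc _ _ (i0 _) (i2 _)) (nd _ _ (i0 _) (i2 _)), hs (nc _ _ (i0 _) (i1 _)) (nd _ _ (i0 _) (i1 _)),
        hs (nc _ _ (i0 _) (i0 _)) (nd _ _ (i0 _) (i0 _))]
    have hgr : g ∈ relStab r₁ := by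
      refine ⟨hev, ?_⟩
      -- `g` maps every block to a block
      have hblock : ∀ a, r₁ (g a) (g (z a)) := by
        intro a
        by_cases h1 : r₁ x₀ a
        · have hgv : g (z x₀) = z b ∧ g (z (z x₀)) = z (z b) := by
            constructor
            · rw [hg, Perm.mul_apply, Perm.mul_apply, Perm.mul_apply,
                hs (nc _ _ (i1 _) (i1 _)).symm (nc _ _ (i2 _) (i1 _)).symm,
                hs (hzf (z x₀)).symm (nb _ _ (i1 _) (i2 _)), swap_apply_left,
                hs (nb _ _ (i0 _) (i1 _)).symm (hzf b)]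
            · rw [hg, Perm.mul_apply, Perm.mul_apply, Perm.mul_apply,
                hs (nc _ _ (i1 _) (i2 _)).symm (nc _ _ (i2 _) (i2 _)).symm, swap_apply_left,
                hs (nb _ _ (i1 _) (i2 _)).symm (hzf (z b)), hs (nb _ _ (i0 _) (i2 _)).symm (hzz b)]
          rcases h1 with rfl | rfl | rfl
          · rw [gx0, hgv.1]; exact i1 b
          · rw [hgv.1, hgv.2]; exact he₁.trans (he₁.symm (i1 b)) (i2 b)
          · rw [hgv.2, hz3a, gx0]; exact he₁.symm (i2 b)
        by_cases h2 : r₁ b a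
        · have g0 : g b = x₀ := by
            rw [hg, Perm.mul_apply, Perm.mul_apply, Perm.mul_apply,
              hs (nd _ _ (i1 _) (i0 _)).symm (nd _ _ (i2 _) (i0 _)).symm,
              hs (nb _ _ (i2 _) (i0 _)).symm (hzz b).symm, hs (nb _ _ (i1 _) (i0 _)).symm (hzf b).symm,
              swap_apply_right]
          have g1 : g (z b) = z x₀ := by
            rw [hg, Perm.mul_apply, Perm.mul_apply, Perm.mul_apply,
              hs (nd _ _ (i1 _) (i1 _)).symm (nd _ _ (i2 _) (i1 _)).symm,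
              hs (nb _ _ (i2 _) (i1 _)).symm (hzf (z b)).symm, swap_apply_right,
              hs (hzf x₀) (nb _ _ (i1 _) (i0 _))]
          have g2 : g (z (z b)) = z (z x₀) := by
            rw [hg, Perm.mul_apply, Perm.mul_apply, Perm.mul_apply,
              hs (nd _ _ (i1 _) (i2 _)).symm (nd _ _ (i2 _) (i2 _)).symm, swap_apply_right,
              hs (hzf (z x₀)) (nb _ _ (i2 _) (i1 _)), hs (hzz x₀) (nb _ _ (i2 _) (i0 _))]
          rcases h2 with rfl | rfl | rfl
          · rw [g0, g1]; exact i1 x₀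
          · rw [g1, g2]; exact he₁.trans (he₁.symm (i1 x₀)) (i2 x₀)
          · rw [g2, hz3a, g0]; exact he₁.symm (i2 x₀)
        have key : ∀ u, r₁ a u → g u = swap (z c) (z (z c)) u := by
          intro u hu
          have n1 : ∀ v, r₁ x₀ v → swap (z c) (z (z c)) u ≠ v := by
            intro v hv e
            by_cases q1 : u = z c
            · rw [q1, swap_apply_left] at e; exact nc _ _ (i2 _) hv e
            by_cases q2 : u = z (z c)
            · rw [q2, swap_apply_right] at e; exact nc _ _ (i1 _) hv e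
            rw [hs q1 q2] at e
            exact h1 (he₁.trans hv (e ▸ he₁.symm hu))
          have n2 : ∀ v, r₁ b v → swap (z c) (z (z c)) u ≠ v := by
            intro v hv e
            by_cases q1 : u = z c
            · rw [q1, swap_apply_left] at e; exact nd _ _ (i2 _) hv e
            by_cases q2 : u = z (z c)
            · rw [q2, swap_apply_right] at e; exact nd _ _ (i1 _) hv e
            rw [hs q1 q2] at e
            exact h2 (he₁.trans hv (e ▸ he₁.symm hu))
          rw [hg, Perm.mul_apply, Perm.mul_apply, Perm.mul_apply, hs (n1 _ (i2 _)) (n2 _ (i2 _)),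
            hs (n1 _ (i1 _)) (n2 _ (i1 _)), hs (n1 _ (i0 _)) (n2 _ (i0 _))]
        have hsw : ∀ u, r₁ u (swap (z c) (z (z c)) u) := by
          intro u
          by_cases q1 : u = z c
          · rw [q1, swap_apply_left]; exact Or.inr (Or.inl rfl)
          by_cases q2 : u = z (z c)
          · rw [q2, swap_apply_right]; exact he₁.symm (Or.inr (Or.inl rfl))
          rw [hs q1 q2]; exact i0 u
        rw [key a (i0 a), key (z a) (i1 a)]
        exact he₁.trans (he₁.symm (hsw a)) (he₁.trans (i1 a) (hsw (z a)))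
      have hfwd : ∀ a d, r₁ a d → r₁ (g a) (g d) := by
        rintro a d (rfl | rfl | rfl)
        · exact i0 _
        · exact hblock a
        · exact he₁.trans (hblock a) (hblock (z a))
      intro a d
      refine ⟨fun h => ?_, hfwd a d⟩
      -- finitely many pairs: an injective self map of the relation is onto
      let R := {q : Fin n × Fin n // r₁ q.1 q.2}
      let φ : R → R := fun q => ⟨(g q.1.1, g q.1.2), hfwd _ _ q.2⟩
      have hφ : Function.Injective φ := fun q q' e => by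
        have e' := congrArg Subtype.val e
        exact Subtype.ext (Prod.ext (g.injective (congrArg Prod.fst e')) (g.injective (congrArg Prod.snd e')))
      obtain ⟨⟨⟨a', d'⟩, h'⟩, e⟩ := Finite.injective_iff_surjective.1 hφ ⟨(g a, g d), h⟩
      have e' := congrArg Subtype.val e
      rwa [g.injective (congrArg Prod.fst e'), g.injective (congrArg Prod.snd e')] at h'
    have h1 := conn_map (J := J) (le_sup_left (a := relStab r₁) hgr) (hclass _ _ hc)
    rw [gx0, gc] at h1
    exact conn_trans (hclass _ _ hc) (conn_symm h1)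
  exact fun a b => conn_trans (conn_symm (hto a)) (hto b)

/-- A central element of order three on a nontrivial orbit. -/
theorem exists_orbit_shift {T : Subgroup (Perm (Fin n))} (hT : IsPGroup 3 ↥T) (x : Fin n)
    (hx : ∃ t ∈ T, t x ≠ x) :
    ∃ z : Perm (Fin n), (∀ t ∈ T, t * z = z * t) ∧ z * z * z = 1 ∧
      (∀ a, (∃ t ∈ T, t x = a) → z a ≠ a ∧ ∃ t ∈ T, t x = z a) ∧
      (∀ a, (¬ ∃ t ∈ T, t x = a) → z a = a) := by
  classical
  haveI : Fact (Nat.Prime 3) := ⟨Nat.prime_three⟩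
  let p : Fin n → Prop := fun a => ∃ t ∈ T, t x = a
  have hinv : ∀ t ∈ T, ∀ a, p (t a) ↔ p a := by
    intro t ht a
    constructor
    · rintro ⟨s, hs, e⟩; exact ⟨t⁻¹ * s, mul_mem (inv_mem ht) hs, by simp [Perm.mul_apply, e]⟩
    · rintro ⟨s, hs, e⟩; exact ⟨t * s, mul_mem ht hs, by simp [Perm.mul_apply, e]⟩
  let ρ : ↥T →* Perm {a // p a} := MonoidHom.mk'
    (fun t => (t : Perm (Fin n)).subtypePerm (hinv t t.2)) (fun a b => Equiv.ext fun y => Subtype.ext rfl)
  have hR : IsPGroup 3 ↥ρ.range := IsPGroup.of_surjective hT ρ.rangeRestrict ρ.rangeRestrict_surjective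
  haveI : Nontrivial ↥ρ.range := by
    obtain ⟨t, ht, htx⟩ := hx
    refine ⟨⟨ρ ⟨t, ht⟩, _, rfl⟩, 1, fun e => htx ?_⟩
    exact congrArg Subtype.val (Equiv.congr_fun (congrArg Subtype.val e) ⟨x, 1, one_mem _, rfl⟩)
  obtain ⟨k, hk0, hk⟩ := (hR.to_subgroup (center ↥ρ.range)).nontrivial_iff_card.1 hR.center_nontrivial
  obtain ⟨⟨⟨σ, hσr⟩, hσc⟩, hσo⟩ := exists_prime_orderOf_dvd_card' (G := ↥(center ↥ρ.range)) 3
    (hk ▸ dvd_pow_self 3 hk0.ne')
  rw [orderOf_mk, orderOf_mk] at hσo
  have hσ3 : σ * σ * σ = 1 := by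
    have := pow_orderOf_eq_one σ
    rw [hσo] at this
    simpa [pow_succ] using this
  have hcomm : ∀ t : ↥T, ρ t * σ = σ * ρ t := fun t =>
    congrArg Subtype.val (mem_center_iff.1 hσc ⟨ρ t, t, rfl⟩)
  have hσf : ∀ a, σ a ≠ a := by
    intro a ha
    have h1 : σ = 1 := by
      apply Equiv.ext
      intro b
      obtain ⟨s, hs, hsa⟩ := a.2
      obtain ⟨u, hu, hub⟩ := b.2
      have hb : b = ρ (⟨u, hu⟩ * ⟨s, hs⟩⁻¹) a := by
        refine Subtype.ext ?_
        show (b : Fin n) = (u * s⁻¹) (a : Fin n)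
        rw [Perm.mul_apply, ← hsa]
        simp [hub]
      have := Equiv.congr_fun (hcomm (⟨u, hu⟩ * ⟨s, hs⟩⁻¹)) a
      rw [Perm.mul_apply, Perm.mul_apply, ha, ← hb] at this
      exact this.symm
    rw [h1, orderOf_one] at hσo
    omega
  refine ⟨ofSubtype σ, fun t ht => Equiv.ext fun a => ?_, ?_, fun a ha => ?_, fun a ha =>
    ofSubtype_apply_of_not_mem σ ha⟩
  · rw [Perm.mul_apply, Perm.mul_apply]
    by_cases ha : p a
    · rw [ofSubtype_apply_of_mem _ ha, ofSubtype_apply_of_mem _ ((hinv t ht a).2 ha)]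
      exact congrArg Subtype.val (Equiv.congr_fun (hcomm ⟨t, ht⟩) ⟨a, ha⟩)
    · rw [ofSubtype_apply_of_not_mem _ ha, ofSubtype_apply_of_not_mem _ fun h => ha ((hinv t ht a).1 h)]
  · rw [← map_mul, ← map_mul, hσ3, map_one]
  · rw [show ofSubtype σ a = σ ⟨a, ha⟩ from ofSubtype_apply_of_mem (p := p) σ ha]
    exact ⟨fun e => hσf ⟨a, ha⟩ (Subtype.ext e), (σ ⟨a, ha⟩).2⟩

theorem orbit_card_pow {T : Subgroup (Perm (Fin n))} (hT : IsPGroup 3 ↥T) (x : Fin n) :
    ∃ i, Nat.card {a // ∃ t ∈ T, t x = a} = 3 ^ i := by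
  haveI : Fact (Nat.Prime 3) := ⟨Nat.prime_three⟩
  obtain ⟨i, hi⟩ := hT.card_orbit x
  refine ⟨i, (Nat.card_congr (Equiv.subtypeEquivRight fun a => ?_)).trans hi⟩
  exact ⟨fun ⟨t, ht, e⟩ => ⟨⟨t, ht⟩, e⟩, fun ⟨⟨t, ht⟩, e⟩ => ⟨t, ht, e⟩⟩

theorem degree_cases (hn : 5 ≤ n) {T : Subgroup (Perm (Fin n))} (hT : IsPGroup 3 ↥T)
    (hTA : T ≤ alternatingGroup (Fin n)) (hT1 : T ≠ ⊥) (hU : UniqueAbove T) :
    n = 6 ∨ n = 9 ∨ ∃ a : ℕ, 2 ≤ a ∧ n = 3 ^ a + 1 := by
  classical
  haveI : Fact (Nat.Prime 3) := ⟨Nat.prime_three⟩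
  let o : Fin n → Fin n → Prop := fun x y => ∃ t ∈ T, t x = y
  have heo : Equivalence o := by
    refine ⟨fun x => ⟨1, one_mem _, rfl⟩, fun {x y} ⟨t, ht, e⟩ => ⟨t⁻¹, inv_mem ht, by rw [← e]; simp⟩,
      fun {x y w} ⟨t, ht, e⟩ ⟨s, hs, e'⟩ => ⟨s * t, mul_mem hs ht, by simp [Perm.mul_apply, e, e']⟩⟩
  have hoT : ∀ t ∈ T, ∀ a, o a (t a) := fun t ht a => ⟨t, ht, rfl⟩
  obtain ⟨x₁, t₁, ht₁, hx₁⟩ : ∃ x, ∃ t ∈ T, t x ≠ x := by
    by_contra hc
    push Not at hc
    exact hT1 (eq_bot_iff.2 fun t ht => mem_bot.2 (Equiv.ext (fun x => hc x t ht)))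
  by_cases h3 : ∃ y w, ¬ o x₁ y ∧ ¬ o x₁ w ∧ ¬ o y w
  · -- three orbits
    exfalso
    obtain ⟨y, w, hy, hw, hyw⟩ := h3
    let r : Fin n → Fin n → Fin n → Prop := fun u a b => o u a ↔ o u b
    have her : ∀ u, Equivalence (r u) := fun u =>
      ⟨fun a => Iff.rfl, fun h => h.symm, fun h h' => h.trans h'⟩
    have hrT : ∀ u, T ≤ relStab (r u) := fun u t ht => ⟨hTA ht, fun a b => by
      have e : ∀ a, o u (t a) ↔ o u a := fun a =>
        ⟨fun h => heo.trans h (heo.symm (hoT t ht a)), fun h => heo.trans h (hoT t ht a)⟩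
      show (o u (t a) ↔ o u (t b)) ↔ (o u a ↔ o u b)
      rw [e, e]⟩
    have hox : o x₁ (t₁ x₁) := hoT t₁ ht₁ x₁
    have hno : ∀ u, ¬ o x₁ u → ¬ o u x₁ ∧ ¬ o u (t₁ x₁) := fun u hu =>
      ⟨fun h => hu (heo.symm h), fun h => hu (heo.trans hox (heo.symm h))⟩
    have hprop : ∀ u, ¬ o x₁ u → ¬ alternatingGroup (Fin n) ≤ relStab (r u) := fun u hu =>
      relStab_ne hn (her u) (x := x₁) (y := t₁ x₁) (z := u) hx₁.symm
        (iff_of_false (hno u hu).1 (hno u hu).2) (fun h => (hno u hu).1 (h.2 (heo.refl u)))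
    refine hU _ _ (relStab_le _) (relStab_le _) (hrT y) (hrT w) (hprop y hy) (hprop w hw) ?_
    refine alternating_le_of_connected hn _ ?_
    have hcls : ∀ u, ¬ o x₁ u → ∀ J, relStab (r u) ≤ J → ∀ a, ¬ o u a → Conn J a x₁ := by
      intro u hu J hJ a ha
      by_cases e : a = t₁ x₁
      · subst e
        have h2 : t₁ (t₁ x₁) ≠ t₁ x₁ := fun h => hx₁ (t₁.injective h)
        have h3' : ¬ o u (t₁ (t₁ x₁)) := fun h => (hno u hu).2 (heo.trans h (heo.symm (hoT t₁ ht₁ _)))
        refine conn_of_class (her u) hJ (iff_of_false (hno u hu).2 (hno u hu).1)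
          (iff_of_false (hno u hu).2 h3') h2 ?_
        intro e
        -- a transposition cannot occur in a 3-group
        obtain ⟨k, hk⟩ := hT ⟨t₁, ht₁⟩
        have hk' : t₁ ^ (3 ^ k) = 1 := congrArg Subtype.val hk
        have heven : ∀ j, (t₁ ^ (2 * j)) x₁ = x₁ := by
          intro j
          induction j with
          | zero => rfl
          | succ j ih =>
            rw [show 2 * (j + 1) = 2 * j + 1 + 1 by ring, pow_succ', Perm.mul_apply, pow_succ',
              Perm.mul_apply, ih, e]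
        obtain ⟨j, hj⟩ : Odd (3 ^ k) := (by decide : Odd 3).pow
        rw [hj, pow_succ'] at hk'
        have := Equiv.congr_fun hk' x₁
        rw [Perm.mul_apply, heven] at this
        exact hx₁ this
      · exact conn_of_class (her u) hJ (iff_of_false ha (hno u hu).1) (iff_of_false ha (hno u hu).2)
          (Ne.symm e) hx₁
    have hto : ∀ a, Conn (relStab (r y) ⊔ relStab (r w)) a x₁ := by
      intro a
      by_cases ha : o y a
      · exact hcls w hw _ le_sup_right a fun h => hyw (heo.trans ha (heo.symm h))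
      · exact hcls y hy _ le_sup_left a ha
    exact fun a b => conn_trans (hto a) (conn_symm (hto b))
  push Not at h3
  obtain ⟨i, hi⟩ := orbit_card_pow hT x₁
  have hi1 : 1 ≤ i := by
    by_contra h
    rw [show i = 0 by omega, pow_zero, Nat.card_eq_one_iff_unique] at hi
    exact hx₁ (congrArg Subtype.val (@Subsingleton.elim _ hi.1 ⟨_, hoT t₁ ht₁ x₁⟩ ⟨x₁, heo.refl x₁⟩))
  by_cases hall : ∀ y, o x₁ y
  · -- transitive
    have hni : n = 3 ^ i := by
      rw [← hi, Nat.card_congr (Equiv.subtypeUnivEquiv hall), Nat.card_fin]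
    have hi2 : 2 ≤ i := by
      by_contra h
      rw [show i = 1 by omega] at hni
      omega
    rcases eq_or_lt_of_le hi2 with rfl | hi3
    · exact Or.inr (Or.inl hni)
    exfalso
    haveI : MulAction.IsPretransitive ↥T (Fin n) := ⟨fun a b => by
      obtain ⟨t, ht, e⟩ := heo.trans (heo.symm (hall a)) (hall b)
      exact ⟨⟨t, ht⟩, e⟩⟩
    obtain ⟨m, hm⟩ := hT.exists_card_eq
    set S := MulAction.stabilizer ↥T x₁ with hS
    obtain ⟨j, hj⟩ := (hT.to_subgroup S).exists_card_eq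
    have hSidx : S.index = n := by
      rw [hS, MulAction.index_stabilizer_of_transitive, Nat.card_fin]
    have hmij : 3 ^ j * 3 ^ i = 3 ^ m := by
      have e := card_mul_index S
      rw [hSidx, hj, hm] at e
      exact (congrArg (3 ^ j * ·) hni).symm.trans e
    rw [← pow_add] at hmij
    have hmij' := Nat.pow_right_injective (le_refl 2 |>.trans (by norm_num : 2 ≤ 3)) hmij
    obtain ⟨M, hMc, hSM⟩ := Sylow.exists_subgroup_card_pow_prime_le 3 (n := j) (m := m - 1)
      (by rw [hm]; exact pow_dvd_pow 3 (by omega)) S hj (by omega)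
    have hMi : M.index = 3 := by
      have := card_mul_index M
      rw [hMc, hm] at this
      have h3m : 3 ^ m = 3 ^ (m - 1) * 3 := by rw [← pow_succ]; congr 1; omega
      rw [h3m] at this
      exact Nat.eq_of_mul_eq_mul_left (pow_pos (by norm_num) _) this
    haveI hMn : M.Normal := by
      apply normal_of_index_eq_minFac_card
      rw [hMi, hm, Nat.pow_minFac (by omega), Nat.prime_three.minFac_eq]
    have hMne : M ≠ ⊥ := by
      intro e
      rw [e, card_bot] at hMc
      have := (Nat.pow_eq_one.1 hMc.symm).resolve_left (by norm_num)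
      omega
    haveI := hT.isNilpotent
    have hZne := CfsgLib.Solvable.normal_inf_center_ne_bot M hMne
    obtain ⟨k, hk⟩ := (hT.to_subgroup (M ⊓ center ↥T)).exists_card_eq
    have hk0 : k ≠ 0 := by
      rintro rfl
      exact hZne (card_eq_one.1 (by rw [hk, pow_zero]))
    obtain ⟨⟨z, hzm⟩, hzo⟩ := exists_prime_orderOf_dvd_card' (G := ↥(M ⊓ center ↥T)) 3
      (hk ▸ dvd_pow_self 3 hk0)
    rw [orderOf_mk] at hzo
    obtain ⟨hzM, hzc⟩ := mem_inf.1 hzm
    let r₂ : Fin n → Fin n → Prop := fun a b => ∃ u ∈ M, (u : Perm (Fin n)) a = b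
    have he₂ : Equivalence r₂ :=
      ⟨fun a => ⟨1, one_mem _, rfl⟩, fun {a b} ⟨u, hu, e⟩ => ⟨u⁻¹, inv_mem hu, by rw [← e]; simp⟩,
        fun {a b c} ⟨u, hu, e⟩ ⟨v, hv, e'⟩ => ⟨v * u, mul_mem hv hu, by simp [Perm.mul_apply, e, e']⟩⟩
    have hT₂ : ∀ t ∈ T, ∀ a b, r₂ (t a) (t b) ↔ r₂ a b := by
      intro t ht a b
      constructor
      · rintro ⟨u, hu, e⟩
        refine ⟨⟨t, ht⟩⁻¹ * u * ⟨t, ht⟩, by simpa using hMn.conj_mem u hu ⟨t, ht⟩⁻¹, ?_⟩
        simp [Perm.mul_apply, e]
      · rintro ⟨u, hu, e⟩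
        refine ⟨⟨t, ht⟩ * u * ⟨t, ht⟩⁻¹, hMn.conj_mem u hu ⟨t, ht⟩, ?_⟩
        simp [Perm.mul_apply, e]
    have hcomm : ∀ t ∈ T, t * (z : Perm (Fin n)) = (z : Perm (Fin n)) * t := fun t ht =>
      congrArg Subtype.val (mem_center_iff.1 hzc ⟨t, ht⟩)
    have hzf : ∀ a, (z : Perm (Fin n)) a ≠ a := by
      intro a ha
      have h1 : z = 1 := by
        refine Subtype.ext (Equiv.ext fun b => ?_)
        obtain ⟨⟨t, ht⟩, rfl⟩ := MulAction.exists_smul_eq (↥T) a b
        have := Equiv.congr_fun (hcomm t ht) a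
        rw [Perm.mul_apply, Perm.mul_apply, ha] at this
        exact this.symm
      rw [h1, orderOf_one] at hzo
      omega
    have hclass : 4 ≤ Nat.card {a // r₂ x₁ a} := by
      have e1 : Nat.card {a // r₂ x₁ a} = Nat.card (MulAction.orbit ↥M x₁) :=
        Nat.card_congr (Equiv.subtypeEquivRight fun a =>
          ⟨fun ⟨u, hu, e⟩ => ⟨⟨u, hu⟩, e⟩, fun ⟨⟨u, hu⟩, e⟩ => ⟨u, hu, e⟩⟩)
      have hst : MulAction.stabilizer ↥M x₁ = S.subgroupOf M := rfl
      rw [e1, Nat.card_congr (MulAction.orbitEquivQuotientStabilizer ↥M x₁), ← index_eq_card, hst]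
      have e2 : S.relIndex M * M.index = n := by rw [relIndex_mul_index hSM, hSidx]
      rw [hMi] at e2
      replace e2 := e2.trans hni
      have : 3 ^ 3 ≤ 3 ^ i := Nat.pow_le_pow_right (by norm_num) hi3
      show 4 ≤ S.relIndex M
      omega
    obtain ⟨c, hc, hc0, hc1, hc2⟩ : ∃ c, r₂ x₁ c ∧ c ≠ x₁ ∧ c ≠ (z : Perm (Fin n)) x₁ ∧
        c ≠ (z : Perm (Fin n)) ((z : Perm (Fin n)) x₁) := by
      by_contra hno
      push Not at hno
      have hsub : (Finset.univ.filter fun a => r₂ x₁ a) ⊆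
          {x₁, (z : Perm (Fin n)) x₁, (z : Perm (Fin n)) ((z : Perm (Fin n)) x₁)} := by
        intro a ha
        rw [Finset.mem_filter] at ha
        simp only [Finset.mem_insert, Finset.mem_singleton]
        by_cases q1 : a = x₁
        · exact Or.inl q1
        by_cases q2 : a = (z : Perm (Fin n)) x₁
        · exact Or.inr (Or.inl q2)
        exact Or.inr (Or.inr (hno a ha.2 q1 q2))
      have := (Finset.card_le_card hsub).trans Finset.card_le_three
      rw [Nat.card_eq_fintype_card, Fintype.card_subtype] at hclass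
      omega
    obtain ⟨y₀, hy₀⟩ : ∃ y, ¬ r₂ x₁ y := by
      by_contra hno
      push Not at hno
      have hMtop : M = ⊤ := by
        rw [eq_top_iff]
        intro t _
        obtain ⟨u, hu, e⟩ := hno ((t : Perm (Fin n)) x₁)
        have : u⁻¹ * t ∈ S := by
          rw [hS, MulAction.mem_stabilizer_iff]
          show (u : Perm (Fin n))⁻¹ ((t : Perm (Fin n)) x₁) = x₁
          rw [← e]; simp
        have := mul_mem hu (hSM this)
        rwa [mul_inv_cancel_left] at this
      rw [hMtop, index_top] at hMi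
      omega
    have hz3 : (z : Perm (Fin n)) * z * z = 1 := by
      have := congrArg Subtype.val (pow_orderOf_eq_one z)
      rw [hzo] at this
      simpa [pow_succ] using this
    exact two_systems_false hn hTA hU z hcomm hz3 hzf r₂ he₂ hT₂ (fun a => ⟨z, hzM, rfl⟩) x₁ c hc hc0 hc1 hc2
      y₀ hy₀
  -- two orbits
  push Not at hall
  obtain ⟨x₂, hx₂⟩ := hall
  have hcover : ∀ y, o x₁ y ∨ o x₂ y := by
    intro y
    by_cases hy : o x₁ y
    · exact Or.inl hy
    · exact Or.inr (h3 x₂ y hx₂ hy)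
  obtain ⟨j, hj⟩ := orbit_card_pow hT x₂
  have hnij : n = 3 ^ i + 3 ^ j := by
    refine (Nat.card_fin n).symm.trans ?_
    rw [← hi, ← hj, ← Nat.card_sum]
    refine (Nat.card_congr (Equiv.ofBijective
      (fun s : {a // ∃ t ∈ T, t x₁ = a} ⊕ {a // ∃ t ∈ T, t x₂ = a} => Sum.elim Subtype.val Subtype.val s)
      ⟨?_, ?_⟩)).symm
    · rintro (⟨a, ha⟩ | ⟨a, ha⟩) (⟨b, hb⟩ | ⟨b, hb⟩) e <;> simp only [Sum.elim_inl, Sum.elim_inr] at e
      · subst e; rfl
      · subst e; exact absurd (heo.trans ha (heo.symm hb)) hx₂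
      · subst e; exact absurd (heo.trans hb (heo.symm ha)) hx₂
      · subst e; rfl
    · intro a
      rcases hcover a with h | h
      · exact ⟨Sum.inl ⟨a, h⟩, rfl⟩
      · exact ⟨Sum.inr ⟨a, h⟩, rfl⟩
  rcases Nat.eq_zero_or_pos j with rfl | hj1
  · refine Or.inr (Or.inr ⟨i, ?_, by rw [hnij, pow_zero]⟩)
    by_contra h
    rw [show i = 1 by omega] at hnij
    omega
  by_cases hij : i = 1 ∧ j = 1
  · exact Or.inl (by rw [hnij, hij.1, hij.2]; norm_num)
  exfalso
  have hx₂' : ∃ t ∈ T, t x₂ ≠ x₂ := by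
    by_contra hc
    push Not at hc
    have : Nat.card {a // ∃ t ∈ T, t x₂ = a} = 1 := by
      rw [Nat.card_eq_one_iff_unique]
      exact ⟨⟨fun a b => by
        obtain ⟨a, t, ht, rfl⟩ := a
        obtain ⟨b, s, hs, rfl⟩ := b
        exact Subtype.ext ((hc t ht).trans (hc s hs).symm)⟩, ⟨⟨x₂, heo.refl x₂⟩⟩⟩
    rw [hj] at this
    have := Nat.one_lt_pow hj1.ne' (by norm_num : 1 < 3)
    omega
  obtain ⟨z₁, hz₁c, hz₁3, hz₁in, hz₁out⟩ := exists_orbit_shift hT x₁ ⟨t₁, ht₁, hx₁⟩
  obtain ⟨z₂, hz₂c, hz₂3, hz₂in, hz₂out⟩ := exists_orbit_shift hT x₂ hx₂'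
  have hsep : ∀ a, o x₁ a → ¬ o x₂ a := fun a h h' => hx₂ (heo.trans h (heo.symm h'))
  have hcom : z₁ * z₂ = z₂ * z₁ := Equiv.ext fun a => by
    rw [Perm.mul_apply, Perm.mul_apply]
    rcases hcover a with h | h
    · rw [hz₂out a (hsep a h), hz₂out _ (hsep _ (hz₁in a h).2)]
    · have h' : ¬ o x₁ a := fun h' => hsep a h' h
      rw [hz₁out a h', hz₁out _ fun h'' => hsep _ h'' (hz₂in a h).2]
  set z := z₁ * z₂ with hz
  have hzo₁ : ∀ a, o x₁ a → z a = z₁ a := fun a h => by rw [hz, Perm.mul_apply, hz₂out a (hsep a h)]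
  have hzo₂ : ∀ a, o x₂ a → z a = z₂ a := fun a h => by
    rw [hz, Perm.mul_apply, hz₁out _ fun h' => hsep _ h' (hz₂in a h).2]
  have hzr : ∀ a, o a (z a) := by
    intro a
    rcases hcover a with h | h
    · rw [hzo₁ a h]; exact heo.trans (heo.symm h) (hz₁in a h).2
    · rw [hzo₂ a h]; exact heo.trans (heo.symm h) (hz₂in a h).2
  have hzf : ∀ a, z a ≠ a := by
    intro a
    rcases hcover a with h | h
    · rw [hzo₁ a h]; exact (hz₁in a h).1
    · rw [hzo₂ a h]; exact (hz₂in a h).1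
  have hz3 : z * z * z = 1 := by
    have hc : Commute z₁ z₂ := hcom
    rw [hz, ← pow_three', hc.mul_pow, pow_three', pow_three', hz₁3, hz₂3, one_mul]
  have hzc : ∀ t ∈ T, t * z = z * t := fun t ht => by
    rw [hz, ← mul_assoc, hz₁c t ht, mul_assoc, hz₂c t ht, mul_assoc]
  have hbig : ∀ x y, 4 ≤ Nat.card {a // ∃ t ∈ T, t x = a} → ¬ o x y → False := by
    intro x y hx hxy
    obtain ⟨c, hc, hc0, hc1, hc2⟩ : ∃ c, o x c ∧ c ≠ x ∧ c ≠ z x ∧ c ≠ z (z x) := by
      by_contra hno
      push Not at hno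
      have hsub : (Finset.univ.filter fun a => ∃ t ∈ T, t x = a) ⊆ {x, z x, z (z x)} := by
        intro a ha
        rw [Finset.mem_filter] at ha
        simp only [Finset.mem_insert, Finset.mem_singleton]
        by_cases q1 : a = x
        · exact Or.inl q1
        by_cases q2 : a = z x
        · exact Or.inr (Or.inl q2)
        exact Or.inr (Or.inr (hno a ha.2 q1 q2))
      have := (Finset.card_le_card hsub).trans Finset.card_le_three
      rw [Nat.card_eq_fintype_card, Fintype.card_subtype] at hx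
      omega
    exact two_systems_false hn hTA hU z hzc hz3 hzf o heo (fun t ht a b =>
      ⟨fun h => heo.trans (hoT t ht a) (heo.trans h (heo.symm (hoT t ht b))),
        fun h => heo.trans (heo.symm (hoT t ht a)) (heo.trans h (hoT t ht b))⟩)
      hzr x c hc hc0 hc1 hc2 y hxy
  rcases (show 2 ≤ i ∨ 2 ≤ j by omega) with h | h
  · exact hbig x₁ x₂ (by rw [hi]; exact le_trans (by norm_num) (Nat.pow_le_pow_right (by norm_num) h)) hx₂
  · exact hbig x₂ x₁ (by rw [hj]; exact le_trans (by norm_num) (Nat.pow_le_pow_right (by norm_num) h))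
      fun h' => hx₂ (heo.symm h')

end Tbl

theorem core {X : Type*} [Group X] [Finite X] (hX : Cfsg.IsPMinimal 3 X) (n : ℕ) (hn : 5 ≤ n)
    (hF : Nonempty (↥(Cfsg.generalizedFittingSubgroup X) ≃* ↥(alternatingGroup (Fin n)))) :
    Cfsg.generalizedFittingSubgroup X = ⊤ ∧ (n = 6 ∨ n = 9 ∨ ∃ a : ℕ, 2 ≤ a ∧ n = 3 ^ a + 1) := by
  obtain ⟨e⟩ := hF
  have htop := fitting_eq_top hX hn e
  refine ⟨htop, ?_⟩
  haveI : Fact (Nat.Prime 3) := ⟨Nat.prime_three⟩
  have hA : Cfsg.IsPMinimal 3 ↥(alternatingGroup (Fin n)) :=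
    Cfsg.Agent.S2790.isPMinimal_equiv
      ((Subgroup.topEquiv.symm.trans (MulEquiv.subgroupCongr htop.symm)).trans e) hX
  set A := alternatingGroup (Fin n) with hAdef
  obtain ⟨T⟩ : Nonempty (Sylow 3 ↥A) := inferInstance
  obtain ⟨hnn, M, ⟨hM, hTM⟩, huniq⟩ := hA T
  refine degree_cases hn (T := (T : Subgroup ↥A).map A.subtype) (T.isPGroup'.map _) (map_subtype_le _) ?_ ?_
  · rw [Ne, map_eq_bot_iff_of_injective _ A.subtype_injective]
    intro hb
    exact hnn (hb ▸ inferInstance)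
  · intro H₁ H₂ h1 h2 hT1 hT2 hn1 hn2 htop'
    have hsub : ∀ H : Subgroup (Perm (Fin n)), (T : Subgroup ↥A).map A.subtype ≤ H →
        ¬ A ≤ H → H.subgroupOf A ≤ M := by
      intro H hTH hne
      obtain ⟨M', hM', hle⟩ := (eq_top_or_exists_le_coatom (H.subgroupOf A)).resolve_left
        (by rwa [subgroupOf_eq_top])
      rw [← huniq M' ⟨hM', le_trans (fun t ht => mem_subgroupOf.2 (hTH ⟨t, ht, rfl⟩)) hle⟩]
      exact hle
    apply hM.1
    rw [eq_top_iff]
    intro a _
    have hle : H₁ ⊔ H₂ ≤ M.map A.subtype := sup_le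
      (fun g hg => ⟨⟨g, h1 hg⟩, hsub H₁ hT1 hn1 (mem_subgroupOf.2 hg), rfl⟩)
      (fun g hg => ⟨⟨g, h2 hg⟩, hsub H₂ hT2 hn2 (mem_subgroupOf.2 hg), rfl⟩)
    obtain ⟨b, hb, hba⟩ := hle (htop' a.2)
    rwa [← Subtype.ext hba]

/-- Let X be a finite 3-minimal group (a Sylow 3-subgroup is not normal and lies in a unique maximal subgroup) whose generalized Fitting subgroup is isomorphic to an alternating group of degree n ≥ 5. Then X = F*(X), and n = 6, n = 9, or n = 3ᵃ + 1 for some a ≥ 2. -/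
theorem result {X : Type*} [Group X] [Finite X] (hX : Cfsg.IsPMinimal 3 X) (n : ℕ) (hn : 5 ≤ n) (hF : Nonempty (↥(Cfsg.generalizedFittingSubgroup X) ≃* ↥(alternatingGroup (Fin n)))) : Cfsg.generalizedFittingSubgroup X = ⊤ ∧ (n = 6 ∨ n = 9 ∨ ∃ a : ℕ, 2 ≤ a ∧ n = 3 ^ a + 1) := by
  exact core hX n hn hF

end Cfsg.Agent.S2930
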