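import Cfsg.Statements.S2933
import Cfsg.Agent.Lib.Amalgam.FoursCentre
import Cfsg.Agent.Lib.Amalgam.FoursCentreModels

set_option autoImplicit false
open Cfsg

namespace Cfsg.Agent.S2933

/-- Let T be a 2-subgroup of a finite group G, V ≤ Z(T) a four-group, and t, ρ ∈ N_G(V) ∩ N_G(T) elements of order 2 and 3 with t commuting with ρ and with V. If [V, ρ] = V and C_T(t) = V, then T is elementary abelian of order 16, or homocyclic of rank 2 (ℤ/2ⁿ × ℤ/2ⁿ for some n ≥ 1), or isomorphic to a Sylow 2-subgroup of PSL₃(4) or of PSU₃(4). -/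
theorem result {G : Type*} [Group G] [Finite G] (T V : Subgroup G) (hT : IsPGroup 2 ↥T) (hVT : V ≤ T ⊓ Subgroup.centralizer (T : Set G)) (hV : Nat.card ↥V = 4 ∧ ∀ v ∈ V, v ^ 2 = 1) (t ρ : G) (ht : orderOf t = 2) (hρ : orderOf ρ = 3) (htn : t ∈ Subgroup.normalizer (V : Set G) ⊓ Subgroup.normalizer (T : Set G)) (hρn : ρ ∈ Subgroup.normalizer (V : Set G) ⊓ Subgroup.normalizer (T : Set G)) (htρ : t * ρ = ρ * t) (htV : t ∈ Subgroup.centralizer (V : Set G)) (hVρ : ⁅V, Subgroup.zpowers ρ⁆ = V) (hCt : T ⊓ Subgroup.centralizer ({t} : Set G) = V) : (Nat.card ↥T = 16 ∧ ∀ x ∈ T, x ^ 2 = 1) ∨ (∃ n : ℕ, 1 ≤ n ∧ Nonempty (↥T ≃* Multiplicative (ZMod (2 ^ n)) × Multiplicative (ZMod (2 ^ n)))) ∨ (∃ (F : Type) (_ : Field F) (_ : Fintype F), Fintype.card F = 4 ∧ ∀ P : Sylow 2 (Matrix.ProjectiveSpecialLinearGroup (Fin 3) F), Nonempty (↥T ≃* ↥(P : Subgroup (Matrix.ProjectiveSpecialLinearGroup (Fin 3) F)))) ∨ (∃ (F : Type) (_ : Field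 F) (_ : Fintype F), Fintype.card F = 16 ∧ ∀ P : Sylow 2 (Cfsg.PSU 3 F 4), Nonempty (↥T ≃* ↥(P : Subgroup (Cfsg.PSU 3 F 4)))) := by
  classical
  obtain ⟨hV4, hV2⟩ := hV
  have hVle : V ≤ T := fun v hv => (hVT hv).1
  have hVc : ∀ v ∈ V, ∀ x ∈ T, x * v = v * x := fun v hv x hx =>
    Subgroup.mem_centralizer_iff.1 (hVT hv).2 x hx
  let τ : MulAut ↥T := T.normalizerMonoidHom ⟨t, htn.2⟩
  let σ : MulAut ↥T := T.normalizerMonoidHom ⟨ρ, hρn.2⟩
  have hτ : ∀ x : ↥T, (τ x : G) = t * x * t⁻¹ := fun x => rfl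
  have hσ : ∀ x : ↥T, (σ x : G) = ρ * x * ρ⁻¹ := fun x => rfl
  have ht2 : t * t = 1 := by rw [← pow_two, ← ht, pow_orderOf_eq_one]
  have hti : t⁻¹ = t := inv_eq_of_mul_eq_one_right ht2
  have hρ3 : ρ * ρ * ρ = 1 := by
    rw [← pow_orderOf_eq_one ρ, hρ, pow_succ, pow_two]
  have hρV : ∀ v ∈ V, ρ * v * ρ⁻¹ ∈ V := fun v hv => (Subgroup.mem_normalizer_iff.1 hρn.1 v).1 hv
  have hmove : ∀ v ∈ V, ρ * v * ρ⁻¹ = v → v = 1 := by
    intro v hv hfix
    by_contra hv1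
    -- otherwise `ρ` centralizes `V`
    haveI : Fintype ↥V := Fintype.ofFinite ↥V
    haveI : Fact (Nat.Prime 3) := ⟨Nat.prime_three⟩
    let f : Function.End ↥V := fun w => ⟨ρ * w * ρ⁻¹, hρV _ w.2⟩
    have hf : f ^ 3 ^ 1 = 1 := funext fun w => Subtype.ext (by
      show ρ * (ρ * (ρ * (w : G) * ρ⁻¹) * ρ⁻¹) * ρ⁻¹ = w
      calc ρ * (ρ * (ρ * (w : G) * ρ⁻¹) * ρ⁻¹) * ρ⁻¹ = (ρ * ρ * ρ) * w * (ρ * ρ * ρ)⁻¹ := by group
        _ = w := by rw [hρ3, one_mul, inv_one, mul_one])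
    have h1 := Equiv.Perm.card_fixedPoints_modEq hf
    let C : Subgroup G := V ⊓ Subgroup.centralizer ({ρ} : Set G)
    have hmem : ∀ w : G, w ∈ C ↔ w ∈ V ∧ ρ * w * ρ⁻¹ = w := fun w => by
      rw [Subgroup.mem_inf, Subgroup.mem_centralizer_singleton_iff, mul_inv_eq_iff_eq_mul]
      exact ⟨fun h => ⟨h.1, h.2.symm⟩, fun h => ⟨h.1, h.2.symm⟩⟩
    have hcardC : Fintype.card (Function.fixedPoints f) = Nat.card ↥C := by
      rw [← Nat.card_eq_fintype_card]
      exact Nat.card_congr ⟨fun w => ⟨w.1.1, (hmem _).2 ⟨w.1.2, congrArg Subtype.val w.2⟩⟩,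
        fun w => ⟨⟨w.1, ((hmem _).1 w.2).1⟩, Subtype.ext ((hmem _).1 w.2).2⟩,
        fun w => rfl, fun w => rfl⟩
    rw [hcardC, ← Nat.card_eq_fintype_card, hV4] at h1
    have hd : Nat.card ↥C ∣ 2 ^ 2 := by
      rw [show (2 : ℕ) ^ 2 = 4 from rfl, ← hV4]; exact Subgroup.card_dvd_of_le inf_le_left
    obtain ⟨k, hk, hk'⟩ := (Nat.dvd_prime_pow Nat.prime_two).1 hd
    have hvC : v ∈ C := (hmem v).2 ⟨hv, hfix⟩
    have h2 : 1 < Nat.card ↥C := by
      haveI : Nontrivial ↥C := ⟨⟨⟨v, hvC⟩, 1, fun e => hv1 (congrArg Subtype.val e)⟩⟩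
      exact Finite.one_lt_card
    rw [hk'] at h1 h2
    unfold Nat.ModEq at h1
    have hk2 : k = 2 := by interval_cases k <;> simp_all
    have hCV : C = V := Subgroup.eq_of_le_of_card_ge inf_le_left (by rw [hk', hk2, hV4]; norm_num)
    have hle : V ≤ Subgroup.centralizer (Subgroup.zpowers ρ : Set G) := by
      intro w hw y hy
      obtain ⟨j, rfl⟩ := Subgroup.mem_zpowers_iff.1 hy
      have h' : Commute ρ w := (Subgroup.mem_centralizer_singleton_iff.1 (hCV.symm ▸ hw : w ∈ C).2).symm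
      exact (h'.zpow_left j).eq
    rw [Subgroup.commutator_eq_bot_iff_le_centralizer.2 hle] at hVρ
    rw [← hVρ] at hv
    exact hv1 (Subgroup.mem_bot.1 hv)
  have S : CfsgLib.Amalgam.FoursCentre.Hyp (V.subgroupOf T) τ σ := by
    refine
      { two := hT
        cardV := ?_
        sqV := fun v hv => Subtype.ext ?_
        central := fun v hv => ?_
        invol := fun x => Subtype.ext ?_
        three := fun x => Subtype.ext ?_
        comm := fun x => Subtype.ext ?_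
        fixed := fun x => ?_
        stable := fun v hv => ?_
        move := fun v hv e => Subtype.ext ?_ }
    · rw [Nat.card_congr (Subgroup.subgroupOfEquivOfLe hVle).toEquiv, hV4]
    · rw [Subgroup.coe_mul, Subgroup.coe_one, ← pow_two]; exact hV2 _ hv
    · exact Subgroup.mem_center_iff.2 fun x => Subtype.ext (hVc _ hv _ x.2)
    · rw [hτ, hτ, hti]
      calc t * (t * (x : G) * t) * t = (t * t) * x * (t * t) := by group
        _ = x := by rw [ht2, one_mul, mul_one]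
    · rw [hσ, hσ, hσ]
      calc ρ * (ρ * (ρ * (x : G) * ρ⁻¹) * ρ⁻¹) * ρ⁻¹ = (ρ * ρ * ρ) * x * (ρ * ρ * ρ)⁻¹ := by group
        _ = x := by rw [hρ3, one_mul, inv_one, mul_one]
    · rw [hτ, hσ, hσ, hτ]
      calc t * (ρ * (x : G) * ρ⁻¹) * t⁻¹ = (t * ρ) * x * (t * ρ)⁻¹ := by group
        _ = (ρ * t) * x * (ρ * t)⁻¹ := by rw [htρ]
        _ = ρ * (t * x * t⁻¹) * ρ⁻¹ := by group
    · rw [Subgroup.mem_subgroupOf, ← hCt, Subgroup.mem_inf, Subgroup.mem_centralizer_singleton_iff]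
      constructor
      · intro h
        refine ⟨x.2, ?_⟩
        have h' := congrArg Subtype.val h
        rw [hτ, mul_inv_eq_iff_eq_mul] at h'
        exact h'.symm
      · intro h
        apply Subtype.ext
        rw [hτ, mul_inv_eq_iff_eq_mul]
        exact h.2.symm
    · rw [Subgroup.mem_subgroupOf, hσ]; exact hρV _ hv
    · have h' := congrArg Subtype.val e
      rw [hσ] at h'
      exact hmove _ hv h'
  rcases CfsgLib.Amalgam.FoursCentre.structure_cases _ rfl S with hab | ⟨h64, hsq⟩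
  · rcases S.abelian_cases hab with ⟨h16, hexp⟩ | ⟨h, -⟩
    · exact Or.inl ⟨h16, fun x hx => by rw [pow_two]; exact congrArg Subtype.val (hexp ⟨x, hx⟩)⟩
    · exact Or.inr (Or.inl h)
  · by_cases hab : ∀ x y : ↥T, x * y = y * x
    · rcases S.abelian_cases hab with ⟨h16, hexp⟩ | ⟨h, -⟩
      · omega
      · exact Or.inr (Or.inl h)
    · have S' : CfsgLib.InvChar.FpfThree.Setup σ := ⟨h64, by push Not at hab; exact hab, S.three, S.fpf⟩
      rcases CfsgLib.Amalgam.FoursCentreModels.identify S' with h | h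
      · exact Or.inr (Or.inr (Or.inl h))
      · exact Or.inr (Or.inr (Or.inr h))

end Cfsg.Agent.S2933
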