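import Cfsg.Statements.S2939
import Cfsg.Agent.Lib.Amalgam.SylowControl

set_option autoImplicit false
open Cfsg

namespace Cfsg.Agent.S2939

/-- Let p be a prime dividing the order of the finite group G and 𝓕 a family of subgroups of G closed under conjugation, with conjugates taken as X^g = g⁻¹Xg. Then 𝓕 controls Sylow p-intersections in G (any two distinct Sylow p-subgroups S and T with S ∩ T ≠ 1 are joined by a chain S = S₀, S₁, …, Sₙ = T of Sylow p-subgroups where, for each i, some member Xᵢ of 𝓕 meets both S_{i-1} and Sᵢ in Sylow p-subgroups of Xᵢ, satisfies S ∩ T ≤ Sᵢ ∩ Xᵢ, and contains an element xᵢ with Sᵢ^{xᵢ} = S_{i-1}) if and only if 𝓕 strongly controls p-fusion in G (whenever A is a subset of a Sylow p-subgroup S, A contains an element other than 1, and A^g ⊆ S, the element g factorises as g = y₁⋯yₙy with y ∈ N_G(S) and each yᵢ in a member Yᵢ of 𝓕 that meets S in a Sylow p-subgroup of Yᵢ, with A^{y₁⋯yᵢ} ⊆ S ∩ Yᵢ for each i). -/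
theorem result {G : Type*} [Group G] [Finite G] {p : ℕ} [Fact p.Prime] (hdiv : p ∣ Nat.card G) (𝓕 : Set (Subgroup G)) (h𝓕 : Cfsg.IsNormalSet 𝓕) : Cfsg.ControlsSylowIntersections p 𝓕 ↔ Cfsg.FamilyStronglyControlsFusion p 𝓕 := by
  constructor
  · intro hc S A g hA ⟨a, ha, ha1⟩ hAg
    by_cases hT : g • S = S
    · refine ⟨0, Fin.elim0, Fin.elim0, g, Sylow.smul_eq_iff_mem_normalizer.1 hT, fun i => i.elim0, ?_, fun i => i.elim0⟩
      simp
    have hAT : ∀ a ∈ A, a ∈ (S : Subgroup G) ⊓ ((g • S : Sylow p G) : Subgroup G) := by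
      intro a ha
      refine Subgroup.mem_inf.2 ⟨hA ha, ?_⟩
      rw [CfsgLib.Amalgam.coe_sylow_smul]
      exact ⟨g⁻¹ * a * g, hAg ⟨a, ha, rfl⟩, by simp [mul_assoc]⟩
    obtain ⟨n, c, X, x, hc0, hcn, hci⟩ := hc S (g • S) (Ne.symm hT) (fun e => ha1 (by
      have := hAT a ha
      rwa [e, Subgroup.mem_bot] at this))
    let z : ℕ → G := fun k => Nat.rec 1 (fun i r => (if h : i < n then x ⟨i, h⟩ else 1) * r) k
    have hz : ∀ i : Fin n, z (i.val + 1) = x i * z i.val := fun i => by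
      show (if h : i.val < n then x ⟨i.val, h⟩ else 1) * z i.val = _
      rw [dif_pos i.isLt]
    have hcz : ∀ i : Fin (n + 1), c i = z i.val • S := by
      intro i
      induction i using Fin.induction with
      | zero => rw [hc0]; exact (one_smul G S).symm
      | succ i ih =>
        rw [Fin.val_succ, hz, mul_smul, ← Fin.val_castSucc, ← ih]
        apply Sylow.ext
        rw [CfsgLib.Amalgam.coe_sylow_smul, ← (hci i).2.2.2.1, Cfsg.subgroupConjRight,
          CfsgLib.Coprime.map_conj_conj, mul_inv_cancel]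
        ext y; simp
    let y : Fin n → G := fun i => (z i.val)⁻¹ * x i * z i.val
    have hy : ∀ i : Fin n, z (i.val + 1) = z i.val * y i := fun i => by
      rw [hz]; simp [y, mul_assoc]
    have htake := CfsgLib.Amalgam.prod_take_ofFn_telescope z rfl y hy
    refine ⟨n, fun i => (X i).map (MulAut.conj (z (i.val + 1))⁻¹).toMonoidHom, y, (z n)⁻¹ * g, ?_, ?_, ?_, ?_⟩
    · refine Sylow.smul_eq_iff_mem_normalizer.1 ?_
      rw [mul_smul, ← hcn, hcz, Fin.val_last, inv_smul_smul]
    · intro i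
      refine ⟨?_, x i, (hci i).2.2.1, ?_⟩
      · have := CfsgLib.Amalgam.sylowMembers_map_conj h𝓕 (hci i).2.1 (z (i.val + 1))⁻¹
        rwa [← CfsgLib.Amalgam.coe_sylow_smul, hcz, Fin.val_succ, inv_smul_smul] at this
      · show (z (i.val + 1))⁻¹ * x i * (z (i.val + 1))⁻¹⁻¹ = _
        rw [hz]; simp [y, mul_assoc]
    · have h1 := htake n le_rfl
      rw [List.take_of_length_le (by rw [List.length_ofFn])] at h1
      rw [h1, mul_inv_cancel_left]
    · intro i
      rw [htake _ i.isLt]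
      rintro _ ⟨a, ha, rfl⟩
      obtain ⟨h1, h2⟩ := Subgroup.mem_inf.1 ((hci i).2.2.2.2 (hAT a ha))
      refine ⟨?_, a, h2, by simp⟩
      rw [hcz, Fin.val_succ, CfsgLib.Amalgam.coe_sylow_smul] at h1
      obtain ⟨s, hs, rfl⟩ := h1
      simpa [mul_assoc] using hs
  · intro hf S T hST hne
    obtain ⟨g, rfl⟩ := MulAction.exists_smul_eq G S T
    obtain ⟨b, hb, hb1⟩ := ((S : Subgroup G) ⊓ ((g • S : Sylow p G) : Subgroup G)).ne_bot_iff_exists_ne_one.1 hne |>
      fun ⟨b, hb⟩ => (⟨b.1, b.2, fun e => hb (Subtype.ext e)⟩ : ∃ b : G, b ∈ (S : Subgroup G) ⊓ ((g • S : Sylow p G) : Subgroup G) ∧ b ≠ 1)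
    obtain ⟨n, Y, y, y₀, hy₀, hY, hg, hA⟩ := hf S
      (((S : Subgroup G) ⊓ ((g • S : Sylow p G) : Subgroup G) : Subgroup G) : Set G) g
      (fun a ha => (Subgroup.mem_inf.1 ha).1) ⟨b, hb, hb1⟩ (by
        rintro _ ⟨a, ha, rfl⟩
        have h1 := (Subgroup.mem_inf.1 ha).2
        rw [CfsgLib.Amalgam.coe_sylow_smul] at h1
        obtain ⟨s, hs, rfl⟩ := h1
        simpa [mul_assoc] using hs)
    let z : ℕ → G := fun k => ((List.ofFn y).take k).prod
    have hz : ∀ i : Fin n, z (i.val + 1) = z i.val * y i := fun i => by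
      show ((List.ofFn y).take _).prod = _
      rw [List.prod_take_succ _ _ (by rw [List.length_ofFn]; exact i.isLt), List.getElem_ofFn]
    have hzn : z n = (List.ofFn y).prod := by
      show ((List.ofFn y).take _).prod = _
      rw [List.take_of_length_le (by rw [List.length_ofFn])]
    refine ⟨n, fun i => z i.val • S, fun i => (Y i).map (MulAut.conj (z (i.val + 1))).toMonoidHom,
      fun i => z (i.val + 1) * y i * (z (i.val + 1))⁻¹, ?_, ?_, ?_⟩
    · show z (0 : Fin (n+1)).val • S = S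
      simp [z]
    · show z (Fin.last n).val • S = g • S
      rw [Fin.val_last, hzn, hg, mul_smul, Sylow.smul_eq_iff_mem_normalizer.2 hy₀]
    intro i
    have e : (Y i).map (MulAut.conj (z (i.val + 1))).toMonoidHom = (Y i).map (MulAut.conj (z i.val)).toMonoidHom := by
      rw [hz, ← CfsgLib.Coprime.map_conj_conj]
      congr 1
      exact CfsgLib.Amalgam.map_conj_eq_self_of_mem (hY i).2
    refine ⟨?_, ?_, ⟨y i, (hY i).2, rfl⟩, ?_, ?_⟩
    · show (Y i).map _ ∈ _
      rw [e, CfsgLib.Amalgam.coe_sylow_smul]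
      exact CfsgLib.Amalgam.sylowMembers_map_conj h𝓕 (hY i).1 _
    · show (Y i).map _ ∈ _
      rw [CfsgLib.Amalgam.coe_sylow_smul, Fin.val_succ]
      exact CfsgLib.Amalgam.sylowMembers_map_conj h𝓕 (hY i).1 _
    · show Cfsg.subgroupConjRight _ ((z i.succ.val • S : Sylow p G) : Subgroup G) = ((z i.castSucc.val • S : Sylow p G) : Subgroup G)
      rw [Cfsg.subgroupConjRight, CfsgLib.Amalgam.coe_sylow_smul, CfsgLib.Amalgam.coe_sylow_smul,
        CfsgLib.Coprime.map_conj_conj, Fin.val_succ, Fin.val_castSucc]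
      congr 3
      simp only [hz]; group
    · intro a ha
      have h1 := hA i ⟨a, ha, rfl⟩
      refine Subgroup.mem_inf.2 ⟨?_, ⟨_, h1.2, by simp [z, mul_assoc]⟩⟩
      rw [CfsgLib.Amalgam.coe_sylow_smul, Fin.val_succ]
      exact ⟨_, h1.1, by simp [z, mul_assoc]⟩

end Cfsg.Agent.S2939
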