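import Cfsg.Statements.S2940
import Cfsg.Agent.Lib.Amalgam.CharP

set_option autoImplicit false
open Cfsg

namespace Cfsg.Agent.S2940

/-- Let S be a Sylow p-subgroup of the finite group G and G₁, G₂ subgroups containing S with G = G₁G₂. Then for every g ∈ G there is a Sylow p-subgroup U of G with S ∩ S^g ≤ U ≤ G₁ ∩ G₂^g (conjugates taken as X^g = g⁻¹Xg). -/
theorem result {G : Type*} [Group G] [Finite G] {p : ℕ} [Fact p.Prime] (S : Sylow p G) (G₁ G₂ : Subgroup G) (h1 : (S : Subgroup G) ≤ G₁) (h2 : (S : Subgroup G) ≤ G₂) (hfact : ∀ g : G, ∃ g₁ ∈ G₁, ∃ g₂ ∈ G₂, g = g₁ * g₂) (g : G) : ∃ U : Sylow p G, (S : Subgroup G) ⊓ Cfsg.subgroupConjRight g (S : Subgroup G) ≤ (U : Subgroup G) ∧ (U : Subgroup G) ≤ G₁ ⊓ Cfsg.subgroupConjRight g G₂ := by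
  obtain ⟨a, ha, b, hb, hab⟩ := hfact g⁻¹
  have hg : g = b⁻¹ * a⁻¹ := by rw [← mul_inv_rev, ← hab, inv_inv]
  set K := G₁ ⊓ Cfsg.subgroupConjRight g G₂ with hK
  have hmem : ∀ (Y : Subgroup G) (x : G), x ∈ Cfsg.subgroupConjRight g Y ↔ g * x * g⁻¹ ∈ Y := by
    intro Y x
    unfold Cfsg.subgroupConjRight
    rw [CfsgLib.Coprime.mem_map_conj, inv_inv]
  set Sa : Sylow p G := a • S with hSa
  have hSaK : (Sa : Subgroup G) ≤ K := by
    rintro _ ⟨x, hx, rfl⟩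
    refine Subgroup.mem_inf.2 ⟨mul_mem (mul_mem ha (h1 hx)) (inv_mem ha), (hmem G₂ _).2 ?_⟩
    show g * (a * x * a⁻¹) * g⁻¹ ∈ G₂
    rw [hg, show b⁻¹ * a⁻¹ * (a * x * a⁻¹) * (b⁻¹ * a⁻¹)⁻¹ = b⁻¹ * x * b by group]
    exact mul_mem (mul_mem (inv_mem hb) (h2 hx)) hb
  have hD : (S : Subgroup G) ⊓ Cfsg.subgroupConjRight g (S : Subgroup G) ≤ K :=
    fun x hx => ⟨h1 hx.1, (hmem G₂ x).2 (h2 ((hmem _ x).1 hx.2))⟩
  obtain ⟨W, hW⟩ := ((S.isPGroup'.to_le inf_le_left).of_equiv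
    (Subgroup.subgroupOfEquivOfLe hD).symm).exists_le_sylow
  have hcard : Nat.card ((W : Subgroup K).map K.subtype) = Nat.card (Sa : Subgroup G) := by
    rw [Subgroup.card_map_of_injective K.subtype_injective, Nat.card_congr (W.equiv (Sa.subtype hSaK)).toEquiv]
    exact Nat.card_congr (Subgroup.subgroupOfEquivOfLe hSaK).toEquiv
  refine ⟨Sylow.ofCard ((W : Subgroup K).map K.subtype) (hcard.trans Sa.card_eq_multiplicity), ?_, ?_⟩
  · intro x hx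
    exact ⟨⟨x, hD hx⟩, hW hx, rfl⟩
  · exact Subgroup.map_subtype_le _

end Cfsg.Agent.S2940
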