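import Cfsg.Statements.S2941
import Cfsg.Agent.Lib.PLocal.Thompson
import Cfsg.Agent.Lib.PLocal.Basic
import Cfsg.Agent.Lib.PLocal.Sylow

set_option autoImplicit false
open Cfsg

namespace Cfsg.Agent.S2941

/-- Let G be a finite group of characteristic 2 type in which every 2-local subgroup is solvable and the centralizer of Ω₁(Z(S)) lies in N_G(S) for every Sylow 2-subgroup S, and let T be a nontrivial 2-subgroup and K a J(T)-component (J the Thompson subgroup generated by the elementary abelian 2-subgroups of largest order). If a subgroup Q is normalized by ⟨K, J(T)⟩ and normalizes J(T), then Q normalizes K. -/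
theorem result {G : Type*} [Group G] [Finite G] (hL : Cfsg.IsCharacteristicTwoType G) (hN : ∀ N : Subgroup G, Cfsg.IsTwoLocal N → Group.IsSolvable ↥N)
    (hZ : ∀ S : Sylow 2 G, Subgroup.centralizer (Cfsg.omegaCenterOf (S : Subgroup G) : Set G) ≤ Subgroup.normalizer ((S : Subgroup G) : Set G)) (T : Subgroup G) (hT : IsPGroup 2 ↥T) (hT1 : T ≠ ⊥) (K : Subgroup G) (hK : Cfsg.IsJComponent T K)
    (Q : Subgroup G) (hQ1 : K ⊔ Cfsg.thompsonSubgroupOf 2 T ≤ Subgroup.normalizer (Q : Set G)) (hQ2 : Q ≤ Subgroup.normalizer (Cfsg.thompsonSubgroupOf 2 T : Set G)) :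
    Q ≤ Subgroup.normalizer (K : Set G) := by
  obtain ⟨hgen, hKJ, -, -, -, -⟩ := hK
  set J := Cfsg.thompsonSubgroupOf 2 T with hJ
  have hJ2 : IsPGroup 2 J := hT.to_le (CfsgLib.PLocal.thompsonOf_le T)
  have hJK : J ≤ Subgroup.normalizer (K : Set G) := by
    have hone : ∀ a ∈ J, ∀ x ∈ K, a * x * a⁻¹ ∈ K := by
      intro a ha
      have hle : K ≤ K.comap (MulAut.conj a).toMonoidHom := by
        conv_lhs => rw [← hKJ]
        refine Subgroup.commutator_le.2 fun k hk b hb => ?_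
        show a * (k * b * k⁻¹ * b⁻¹) * a⁻¹ ∈ K
        rw [show a * (k * b * k⁻¹ * b⁻¹) * a⁻¹ = (k * a * k⁻¹ * a⁻¹)⁻¹ * (k * (a * b) * k⁻¹ * (a * b)⁻¹) by group, ← hKJ]
        exact mul_mem (inv_mem (Subgroup.commutator_mem_commutator hk ha))
          (Subgroup.commutator_mem_commutator hk (mul_mem ha hb))
      exact fun x hx => hle hx
    intro a ha
    refine Subgroup.mem_normalizer_iff.2 fun x => ⟨hone a ha x, fun hx => ?_⟩
    have := hone a⁻¹ (inv_mem ha) _ hx
    simpa [mul_assoc] using this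
  have hodd : ∀ x ∈ K ⊔ J, Odd (orderOf x) → x ∈ K := by
    intro x hx hxo
    rw [← SetLike.mem_coe, Subgroup.coe_mul_of_right_le_normalizer_left K J hJK] at hx
    obtain ⟨k, hk, j, hj, rfl⟩ := hx
    show k * j ∈ K
    replace hxo : Odd (orderOf (k * j)) := hxo
    have hpow : ∀ n : ℕ, (k * j) ^ n * (j ^ n)⁻¹ ∈ K := by
      intro n
      induction n with
      | zero => simp
      | succ n ih =>
        have : (k * j) ^ (n + 1) * (j ^ (n + 1))⁻¹ = ((k * j) ^ n * (j ^ n)⁻¹) * (j ^ n * k * (j ^ n)⁻¹) := by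
          rw [pow_succ, pow_succ']; group
        rw [this]
        exact mul_mem ih ((Subgroup.mem_normalizer_iff.1 (pow_mem (hJK hj) n) k).1 hk)
    obtain ⟨a, ha⟩ := hJ2 ⟨j, hj⟩
    have hk2 := hpow (2 ^ a)
    rw [show j ^ (2 ^ a) = 1 from congrArg Subtype.val ha, inv_one, mul_one] at hk2
    obtain ⟨m, hm⟩ := exists_pow_eq_self_of_coprime (n := 2 ^ a) (x := k * j)
      (Nat.Coprime.pow_left a hxo.coprime_two_left)
    rw [← hm]
    exact pow_mem hk2 m
  have hQJ : ∀ q ∈ Q, ∀ j ∈ J, q * j * q⁻¹ ∈ J := fun q hq j hj => (Subgroup.mem_normalizer_iff.1 (hQ2 hq) j).1 hj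
  have key : ∀ q ∈ Q, ∀ k ∈ K, q * k * q⁻¹ ∈ K := by
    intro q hq k hk
    have hle : K ≤ (K ⊔ J).comap (MulAut.conj q).toMonoidHom := by
      conv_lhs => rw [← hKJ]
      refine Subgroup.commutator_le.2 fun a ha b hb => ?_
      show q * (a * b * a⁻¹ * b⁻¹) * q⁻¹ ∈ K ⊔ J
      have hx : a⁻¹ * q * a * q⁻¹ ∈ Q := by
        have h1 := (Subgroup.mem_normalizer_iff.1 (hQ1 (Subgroup.mem_sup_left (inv_mem ha))) q).1 hq
        rw [inv_inv] at h1
        exact mul_mem h1 (inv_mem hq)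
      rw [show q * (a * b * a⁻¹ * b⁻¹) * q⁻¹ = a * ((a⁻¹ * q * a * q⁻¹) * (q * b * q⁻¹) *
        (a⁻¹ * q * a * q⁻¹)⁻¹) * a⁻¹ * (q * b * q⁻¹)⁻¹ by group]
      have hb' := hQJ q hq b hb
      exact mul_mem (mul_mem (mul_mem (Subgroup.mem_sup_left ha)
        (Subgroup.mem_sup_right (hQJ _ hx _ hb'))) (Subgroup.mem_sup_left (inv_mem ha)))
        (Subgroup.mem_sup_right (inv_mem hb'))
    have h2 : K ≤ K.comap (MulAut.conj q).toMonoidHom := by
      conv_lhs => rw [← hgen]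
      rw [Subgroup.closure_le]
      rintro x ⟨hx, hxo⟩
      refine hodd _ (hle hx) ?_
      rwa [MulEquiv.coe_toMonoidHom, MulEquiv.orderOf_eq]
    exact h2 hk
  intro q hq
  refine Subgroup.mem_normalizer_iff.2 fun k => ⟨key q hq k, fun hk => ?_⟩
  have := key q⁻¹ (inv_mem hq) _ hk
  simpa [mul_assoc] using this

end Cfsg.Agent.S2941
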