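import Cfsg.Statements.S2954
import Cfsg.Agent.Lib.ClassK.ZNFinal

set_option autoImplicit false
open Cfsg

namespace Cfsg.Agent.S2954

/-- Let G be a finite group of characteristic 2 type in which every 2-local subgroup is solvable and the centralizer of Ω₁(Z(S)) lies in N_G(S) for every Sylow 2-subgroup S; suppose O₂(G) = 1, fix a Sylow 2-subgroup S and a 2-local subgroup M containing N_G(J(S)) (J the Thompson subgroup generated by the elementary abelian 2-subgroups of largest order). If T is maximal (for the order of a largest elementary abelian subgroup, then the order of J(T), then the order of T) among the nontrivial 2-subgroups of M lying in a 2-local subgroup not inside M, then there are two distinct maximal 2-local subgroups P₁, P₂ of G, each having T as a Sylow 2-subgroup, that are both isomorphic to the symmetric group on four letters or both isomorphic to its direct product with a group of order 2. -/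
theorem result {G : Type*} [Group G] [Finite G] (hL : Cfsg.IsCharacteristicTwoType G) (hN : ∀ N : Subgroup G, Cfsg.IsTwoLocal N → Group.IsSolvable ↥N)
    (hZ : ∀ S : Sylow 2 G, Subgroup.centralizer (Cfsg.omegaCenterOf (S : Subgroup G) : Set G) ≤ Subgroup.normalizer ((S : Subgroup G) : Set G)) (hO : Cfsg.pCore 2 G = ⊥) (S : Sylow 2 G) (M : Subgroup G) (hM : Cfsg.IsTwoLocal M)
    (hMJ : Subgroup.normalizer (Cfsg.thompsonSubgroupOf 2 (S : Subgroup G) : Set G) ≤ M) (T : Subgroup G) (hT : T ∈ Cfsg.maxStraddlingTwoSubgroups M) :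
    ∃ P₁ P₂ : Subgroup G, P₁ ≠ P₂ ∧ Cfsg.IsMaximalTwoLocal P₁ ∧ Cfsg.IsMaximalTwoLocal P₂ ∧
      Cfsg.IsSylowTwoIn T P₁ ∧ Cfsg.IsSylowTwoIn T P₂ ∧
      ((Nonempty (↥P₁ ≃* Equiv.Perm (Fin 4)) ∧ Nonempty (↥P₂ ≃* Equiv.Perm (Fin 4))) ∨
        (Nonempty (↥P₁ ≃* Equiv.Perm (Fin 4) × Multiplicative (ZMod 2)) ∧
          Nonempty (↥P₂ ≃* Equiv.Perm (Fin 4) × Multiplicative (ZMod 2)))) := by
  obtain ⟨K, D⟩ := (⟨hL, hN, hZ, hO, hM, hMJ⟩ : CfsgLib.ClassK.ZN.Setup G S M).exists_duo hT
  have hP := fun b => D.pair.normalizer_eq D.ncomm b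
  refine ⟨_, _, D.ne, (D.max false).1, (D.max true).1, (D.pair.side false).syl,
    (D.pair.side true).syl, ?_⟩
  rw [hP false, hP true]
  have hc : Nat.card (CfsgLib.ClassK.ZN.Zc T (K false)) = Nat.card (CfsgLib.ClassK.ZN.Zc T (K true)) := by
    have h1 := (D.pair.side false).card_Z
    have h2 := (D.pair.side true).card_Z
    omega
  have h1 : 0 < Nat.card (CfsgLib.ClassK.ZN.Zc T (K false)) := Nat.card_pos
  have h2 := D.pair.card_Zc_le false
  rcases (show Nat.card (CfsgLib.ClassK.ZN.Zc T (K false)) = 1 ∨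
      Nat.card (CfsgLib.ClassK.ZN.Zc T (K false)) = 2 by omega) with e | e
  · exact Or.inl ⟨(D.pair.iso D.ncomm false).1 e, (D.pair.iso D.ncomm true).1 (hc ▸ e)⟩
  · exact Or.inr ⟨(D.pair.iso D.ncomm false).2 e, (D.pair.iso D.ncomm true).2 (hc ▸ e)⟩

end Cfsg.Agent.S2954
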