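import Cfsg.Statements.S2955
import Cfsg.Agent.Lib.Amalgam.SylowControl

set_option autoImplicit false
open Cfsg

namespace Cfsg.Agent.S2955

/-- Let p be a prime dividing the order of the finite group G and 𝓕 a conjugation-closed family of subgroups that controls Sylow p-intersections in G. Suppose the Sylow p-subgroups of G are chain-connected: any two of them are joined by a chain of Sylow p-subgroups, consecutive ones distinct with nontrivial intersection, all containing the intersection of the two ends (equivalently, the graph on the Sylow p-subgroups whose edges are the distinct pairs meeting nontrivially is connected). Then for every Sylow p-subgroup S, G is generated by N_G(S) together with the members of 𝓕 that meet S in a Sylow p-subgroup of themselves. -/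
theorem result {G : Type*} [Group G] [Finite G] (p : ℕ) [Fact p.Prime] (hdiv : p ∣ Nat.card G)
    (𝓕 : Set (Subgroup G)) (h𝓕 : Cfsg.IsNormalSet 𝓕) (hc : Cfsg.ControlsSylowIntersections p 𝓕)
    (hconn : Cfsg.IsSylowChainConnected p G) (S : Sylow p G) :
    (⨆ X ∈ Cfsg.sylowMembers p 𝓕 (S : Subgroup G), X) ⊔ Subgroup.normalizer ((S : Subgroup G) : Set G) = ⊤ := by
  set H := (⨆ X ∈ Cfsg.sylowMembers p 𝓕 (S : Subgroup G), X) ⊔ Subgroup.normalizer ((S : Subgroup G) : Set G) with hH
  have hmem : ∀ X ∈ Cfsg.sylowMembers p 𝓕 (S : Subgroup G), X ≤ H := fun X hX =>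
    (le_iSup₂ (f := fun X (_ : X ∈ Cfsg.sylowMembers p 𝓕 (S : Subgroup G)) => X) X hX).trans le_sup_left
  -- one control step preserves being `H`-conjugate to `S`
  have step : ∀ (R R' : Sylow p G) (X : Subgroup G) (x : G), X ∈ Cfsg.sylowMembers p 𝓕 (R : Subgroup G) → x ∈ X →
      Cfsg.subgroupConjRight x (R' : Subgroup G) = (R : Subgroup G) → (∃ h ∈ H, R = h • S) →
      ∃ h ∈ H, R' = h • S := by
    rintro R R' X x hX hx hR' ⟨h, hh, rfl⟩
    have h1 := CfsgLib.Amalgam.sylowMembers_map_conj h𝓕 hX h⁻¹
    rw [← CfsgLib.Amalgam.coe_sylow_smul, inv_smul_smul] at h1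
    have h2 : h⁻¹ * x * h⁻¹⁻¹ ∈ H := hmem _ h1 ⟨x, hx, rfl⟩
    have h3 : x ∈ H := by
      have := H.mul_mem (H.mul_mem hh h2) (H.inv_mem hh)
      simpa [mul_assoc] using this
    refine ⟨x * h, H.mul_mem h3 hh, ?_⟩
    rw [mul_smul]
    apply Sylow.ext
    rw [CfsgLib.Amalgam.coe_sylow_smul, ← hR', Cfsg.subgroupConjRight, CfsgLib.Coprime.map_conj_conj, mul_inv_cancel]
    ext y; simp
  have key : ∀ R : Sylow p G, ∃ h ∈ H, R = h • S := by
    intro R
    obtain ⟨n, c, hc0, hcn, -, hc'⟩ := hconn S R
    have : ∀ i : Fin (n + 1), ∃ h ∈ H, c i = h • S := by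
      intro i
      induction i using Fin.induction with
      | zero => exact ⟨1, H.one_mem, by rw [hc0, one_smul]⟩
      | succ i ih =>
        obtain ⟨m, d, X, x, hd0, hdm, hd⟩ := hc (c i.castSucc) (c i.succ) (hc' i).1 (hc' i).2
        have hall : ∀ j : Fin (m + 1), ∃ h ∈ H, d j = h • S := by
          intro j
          induction j using Fin.induction with
          | zero => rw [hd0]; exact ih
          | succ j ihj => exact step _ _ _ _ (hd j).1 (hd j).2.2.1 (hd j).2.2.2.1 ihj
        rw [← hdm]
        exact hall _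
    rw [← hcn]
    exact this _
  rw [eq_top_iff]
  intro g _
  obtain ⟨h, hh, e⟩ := key (g • S)
  have hN : h⁻¹ * g ∈ Subgroup.normalizer ((S : Subgroup G) : Set G) := by
    refine Sylow.smul_eq_iff_mem_normalizer.1 ?_
    rw [mul_smul, e, inv_smul_smul]
  have := H.mul_mem hh (show h⁻¹ * g ∈ H from Subgroup.mem_sup_right hN)
  rwa [mul_inv_cancel_left] at this

end Cfsg.Agent.S2955
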