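import Cfsg.Statements.S2956
import Cfsg.Agent.Lib.Amalgam.FunctorControl

set_option autoImplicit false
open Cfsg

namespace Cfsg.Agent.S2956

open Subgroup CfsgLib.Amalgam
open scoped Pointwise

variable {G : Type*} [Group G] [Finite G] {p : ℕ} [Fact p.Prime]

theorem exists_maximalPLocal {E : Subgroup G} (hE : IsPGroup p E) (h : E ≠ ⊥) :
    ∃ M, Cfsg.IsMaximalPLocal p M ∧ normalizer (E : Set G) ≤ M := by
  obtain ⟨M, ⟨hM, hle⟩, hmax⟩ := Set.Finite.exists_maximal
    (s := {N : Subgroup G | Cfsg.IsPLocal p N ∧ normalizer (E : Set G) ≤ N}) (Set.toFinite _)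
    ⟨normalizer (E : Set G), ⟨E, hE, h, rfl⟩, le_rfl⟩
  exact ⟨M, ⟨hM, fun N hN hMN => le_antisymm (hmax ⟨hN, hle.trans hMN⟩ hMN) hMN⟩, hle⟩

theorem card_sylow_map {M : Subgroup G} (P Q : Sylow p ↥M) :
    Nat.card ↥((P : Subgroup ↥M).map M.subtype) = Nat.card ↥((Q : Subgroup ↥M).map M.subtype) := by
  rw [card_map_of_injective M.subtype_injective, card_map_of_injective M.subtype_injective,
    Nat.card_congr (P.equiv Q).toEquiv]

theorem sylow_of_card (A : Subgroup G) (R : Sylow p G) (hA : IsPGroup p A)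
    (h : Nat.card A = Nat.card (R : Subgroup G)) : ∃ S : Sylow p G, (S : Subgroup G) = A := by
  obtain ⟨S, hS⟩ := hA.exists_le_sylow
  exact ⟨S, (eq_of_le_of_card_ge hS (by rw [h, Nat.card_congr (S.equiv R).toEquiv])).symm⟩

theorem core {f : Subgroup G → Set (Subgroup G)} (hf : Cfsg.IsNormalizerFunctor p f)
    (hf1 : ∀ P : Subgroup G, IsPGroup p ↥P → P ≠ ⊥ → ∀ F ∈ f P, F ≠ ⊥)
    {𝓕 : Set (Subgroup G)} (h1 : Cfsg.functorFamily p f ⊤ ⊆ 𝓕)
    (h2 : ∀ M, Cfsg.IsMaximalPLocal p M → ¬ Cfsg.IsFunctorRegular p f M → M ∈ 𝓕) :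
    ∀ (k : ℕ) (D : Subgroup G) (R R' : Sylow p G), Nat.card G - Nat.card D = k → D ≠ ⊥ →
      D ≤ (R : Subgroup G) → D ≤ (R' : Subgroup G) → Link 𝓕 D R R' := by
  intro k
  induction k using Nat.strong_induction_on with | _ k ih => ?_
  intro D R R' hk hD hDR hDR'
  rcases eq_or_lt_of_le hDR with hDeq | hlt
  · have e : R = R' := Sylow.ext (eq_of_le_of_card_ge (hDeq ▸ hDR') (Nat.card_congr (R'.equiv R).toEquiv).le)
    rw [e]
    exact .refl
  have hlt' : D < (R' : Subgroup G) := by
    refine lt_of_le_of_ne hDR' fun e => hlt.ne ?_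
    exact eq_of_le_of_card_ge hDR (by rw [e, Nat.card_congr (R'.equiv R).toEquiv])
  have hbridge : ∀ (E : Subgroup G) (A B : Sylow p G), D ≤ E → Nat.card D < Nat.card E →
      E ≤ (A : Subgroup G) → E ≤ (B : Subgroup G) → Link 𝓕 D A B := by
    intro E A B hDE hc hA hB
    have := card_le_card_group E
    exact link_mono hDE (ih _ (by omega) E A B rfl
      (fun e => by rw [e, card_bot] at hc; have := Nat.card_pos (α := D); omega) hA hB)
  have hDp : IsPGroup p D := R.2.to_le hDR
  obtain ⟨M, hM, hNM⟩ := exists_maximalPLocal hDp hD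
  obtain ⟨P, hP⟩ := exists_sylow_map_ge (R.2.to_le inf_le_left)
    ((inf_le_right : (R : Subgroup G) ⊓ normalizer (D : Set G) ≤ _).trans hNM)
  obtain ⟨Q, hQ⟩ := exists_sylow_map_ge (R'.2.to_le inf_le_left)
    ((inf_le_right : (R' : Subgroup G) ⊓ normalizer (D : Set G) ≤ _).trans hNM)
  have hcA := CfsgLib.PLocal.card_lt_card_inf_normalizer R.2 hlt
  have hcA' := CfsgLib.PLocal.card_lt_card_inf_normalizer R'.2 hlt'
  -- inside the maximal local subgroups
  have claim : ∀ (j : ℕ) (M : Subgroup G), Cfsg.IsMaximalPLocal p M → ∀ (P Q : Sylow p ↥M) (A B : Sylow p G),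
      Nat.card G - Nat.card ↥((P : Subgroup ↥M).map M.subtype) = j →
      Nat.card D < Nat.card ↥((P : Subgroup ↥M).map M.subtype) →
      D ≤ (P : Subgroup ↥M).map M.subtype → D ≤ (Q : Subgroup ↥M).map M.subtype →
      (P : Subgroup ↥M).map M.subtype ≤ (A : Subgroup G) → (Q : Subgroup ↥M).map M.subtype ≤ (B : Subgroup G) →
      Link 𝓕 D A B := by
    intro j
    induction j using Nat.strong_induction_on with | _ j ihj => ?_
    intro M hM P Q A B hj hcard hDP hDQ hPA hQB
    by_cases hreg : Cfsg.IsFunctorRegular p f M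
    · have hchain := regular_chain hf hreg hD hDP hDQ
      suffices h : ∀ Z : Sylow p G, (Q : Subgroup ↥M).map M.subtype ≤ (Z : Subgroup G) → Link 𝓕 D A Z from h B hQB
      clear hDQ hQB
      induction hchain with
      | refl => exact fun Z hZ => hbridge _ A Z hDP hcard hPA hZ
      | @tail Q₁ Q₂ _ hstep ihc =>
        intro Z hZ
        obtain ⟨hD1, hD2, U, F, hF, hN1, hN2, x, hxM, hxF, hconj⟩ := hstep
        obtain ⟨A1, hA1⟩ := (Q₁.2.map M.subtype).exists_le_sylow
        refine (ihc A1 hA1).trans ?_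
        obtain ⟨V, hV⟩ := (U.2.map M.subtype).exists_le_sylow
        rcases eq_or_lt_of_le hV with hUeq | hUlt
        · have hc1 : ∀ (W : Sylow p ↥M) (S : Sylow p G), (W : Subgroup ↥M).map M.subtype ≤ (S : Subgroup G) →
              (S : Subgroup G) = (W : Subgroup ↥M).map M.subtype := fun W S hS =>
            (eq_of_le_of_card_ge hS (by rw [card_sylow_map W U, hUeq, Nat.card_congr (S.equiv V).toEquiv])).symm
          refine Relation.ReflTransGen.single (linkStep_of_top h1 (U := V) (hUeq ▸ hF) ?_ ?_ hxF ?_ (hD2.trans hZ))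
          · rw [hc1 _ _ hA1]; exact hN1
          · rw [hc1 _ _ hZ]; exact hN2
          · rw [hc1 _ _ hA1, hc1 _ _ hZ]; exact hconj
        · have hUne : (U : Subgroup ↥M).map M.subtype ≠ ⊥ := by
            intro e
            have h' := card_sylow_map P U
            rw [e, card_bot] at h'
            have := Nat.card_pos (α := D)
            omega
          have hUp : IsPGroup p ((U : Subgroup ↥M).map M.subtype) := U.2.map _
          obtain ⟨hFle, hFN⟩ := mem_normalizerFunctor hf hUp hF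
          obtain ⟨M', hM', hNM'⟩ := exists_maximalPLocal (hUp.to_le hFle) (hf1 _ hUp hUne F hF)
          obtain ⟨P₁, hP₁⟩ := exists_sylow_map_ge (Q₁.2.map M.subtype) (hN1.trans hNM')
          obtain ⟨Q₁', hQ₁'⟩ := exists_sylow_map_ge (Q₂.2.map M.subtype) (hN2.trans hNM')
          obtain ⟨W, hW⟩ := exists_sylow_map_ge (V.2.to_le inf_le_left)
            (((inf_le_right : (V : Subgroup G) ⊓ normalizer (((U : Subgroup ↥M).map M.subtype : Subgroup G) : Set G) ≤ _).trans hFN).trans hNM')
          obtain ⟨A2, hA2⟩ := (P₁.2.map M'.subtype).exists_le_sylow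
          obtain ⟨B2, hB2⟩ := (Q₁'.2.map M'.subtype).exists_le_sylow
          have hcU := CfsgLib.PLocal.card_lt_card_inf_normalizer V.2 hUlt
          have hbig : Nat.card ↥((P : Subgroup ↥M).map M.subtype) < Nat.card ↥((P₁ : Subgroup ↥M').map M'.subtype) := by
            rw [card_sylow_map P U, card_sylow_map P₁ W]
            exact hcU.trans_le (card_le_of_le hW)
          have hmid : Link 𝓕 D A2 B2 := ihj _ (by
              have := card_le_card_group ((P₁ : Subgroup ↥M').map M'.subtype)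
              omega) M' hM' P₁ Q₁' A2 B2 rfl (hcard.trans hbig)
            (hD1.trans hP₁) (hD2.trans hQ₁') hA2 hB2
          have hq1 : Nat.card D < Nat.card ↥((Q₁ : Subgroup ↥M).map M.subtype) := by rwa [card_sylow_map Q₁ P]
          have hq2 : Nat.card D < Nat.card ↥((Q₂ : Subgroup ↥M).map M.subtype) := by rwa [card_sylow_map Q₂ P]
          exact ((hbridge _ A1 A2 hD1 hq1 hA1 (hP₁.trans hA2)).trans hmid).trans
            (hbridge _ B2 Z hD2 hq2 (hQ₁'.trans hB2) hZ)
    · obtain ⟨x, hx⟩ := MulAction.exists_smul_eq ↥M P Q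
      have hQA : (Q : Subgroup ↥M).map M.subtype ≤ (((x : G) • A : Sylow p G) : Subgroup G) := by
        rw [← hx, coe_sylow_smul]
        rintro _ ⟨q, hq, rfl⟩
        obtain ⟨y, hy, rfl⟩ := hq
        exact ⟨y, hPA ⟨y, hy, rfl⟩, rfl⟩
      have hMF := h2 M hM hreg
      refine Relation.ReflTransGen.head (b := (x : G) • A) ⟨M, x, ⟨hMF, P, (inf_eq_map_sylow P A hPA).symm⟩,
        ⟨hMF, Q, (inf_eq_map_sylow Q _ hQA).symm⟩, x.2, ?_, le_inf (hDQ.trans hQA) (hDQ.trans (map_subtype_le _))⟩ ?_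
      · rw [Cfsg.subgroupConjRight, coe_sylow_smul, CfsgLib.Coprime.map_conj_conj, inv_mul_cancel]
        ext y; simp
      · exact hbridge _ _ B hDQ (by rwa [card_sylow_map Q P]) hQA hQB
  obtain ⟨A, hA⟩ := (P.2.map M.subtype).exists_le_sylow
  obtain ⟨B, hB⟩ := (Q.2.map M.subtype).exists_le_sylow
  have hleA : D ≤ (R : Subgroup G) ⊓ normalizer (D : Set G) := le_inf hDR le_normalizer
  have hleB : D ≤ (R' : Subgroup G) ⊓ normalizer (D : Set G) := le_inf hDR' le_normalizer
  exact ((hbridge _ R A hleA hcA inf_le_left (hP.trans hA)).trans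
    (claim _ M hM P Q A B rfl (hcA.trans_le (card_le_of_le hP)) (hleA.trans hP) (hleB.trans hQ) hA hB)).trans
    (hbridge _ B R' hleB hcA' (hQ.trans hB) inf_le_left)

/-- Let p be a prime dividing the order of the finite group G, and f an assignment to every p-subgroup P of a set f(P) of subgroups of P, each normalized by N_G(P), compatible with conjugation, such that for P ≠ 1 the members of f(P) are nontrivial. Let 𝓕 be the family of the normalizers N_G(F) of the members F of f(S) over the Sylow p-subgroups S of G, and 𝓕' the family of the maximal p-local subgroups M of G that are singular for f (the corresponding family of normalizers inside M does not control Sylow p-intersections in M). Then 𝓕 ∪ 𝓕' controls Sylow p-intersections in G. -/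
theorem result {G : Type*} [Group G] [Finite G] (p : ℕ) [Fact p.Prime] (hdiv : p ∣ Nat.card G)
    (f : Subgroup G → Set (Subgroup G)) (hf : Cfsg.IsNormalizerFunctor p f)
    (hf1 : ∀ P : Subgroup G, IsPGroup p ↥P → P ≠ ⊥ → ∀ F ∈ f P, F ≠ ⊥)
    (𝓕 𝓕' : Set (Subgroup G)) (h𝓕 : 𝓕 = Cfsg.functorFamily p f ⊤)
    (h𝓕' : 𝓕' = {M | Cfsg.IsMaximalPLocal p M ∧ ¬ Cfsg.IsFunctorRegular p f M}) :
    Cfsg.ControlsSylowIntersections p (𝓕 ∪ 𝓕') := by
  subst h𝓕 h𝓕'
  exact controls_of_link fun S T hST hne => core (𝓕 := Cfsg.functorFamily p f ⊤ ∪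
      {M | Cfsg.IsMaximalPLocal p M ∧ ¬ Cfsg.IsFunctorRegular p f M}) hf hf1 Set.subset_union_left
    (fun M hM hr => Or.inr ⟨hM, hr⟩) _ _ S T rfl hne inf_le_left inf_le_right

end Cfsg.Agent.S2956
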