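import Cfsg.Statements.S2957
import Cfsg.Agent.Lib.Amalgam.FunctorControl

set_option autoImplicit false
open Cfsg

namespace Cfsg.Agent.S2957

open Subgroup CfsgLib.Amalgam
open scoped Pointwise

variable {G : Type*} [Group G] [Finite G] {p : ℕ} [Fact p.Prime]

theorem map_top_members {𝓕 : Set (Subgroup G)} {X S : Subgroup G} (hX : X ∈ Cfsg.sylowMembers p 𝓕 S) :
    X.subgroupOf ⊤ ∈ Cfsg.sylowMembers p ((fun X : Subgroup G => X.subgroupOf ⊤) '' 𝓕) (S.subgroupOf ⊤) := by
  obtain ⟨hmem, P, hP⟩ := hX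
  refine ⟨⟨X, hmem, rfl⟩, ?_⟩
  let e : ↥(X.subgroupOf (⊤ : Subgroup G)) ≃* ↥X := subgroupOfEquivOfLe le_top
  refine ⟨P.mapSurjective (f := e.symm.toMonoidHom) e.symm.surjective, ?_⟩
  have hinf : (S ⊓ X).subgroupOf ⊤ = S.subgroupOf ⊤ ⊓ X.subgroupOf (⊤ : Subgroup G) := comap_inf _ _ _
  rw [← hinf, ← hP]
  ext a
  constructor
  · rintro ⟨b, ⟨c, hc, rfl⟩, rfl⟩
    exact ⟨c, hc, rfl⟩
  · intro ha
    obtain ⟨c, hc, hca⟩ := ha
    exact ⟨e.symm c, ⟨c, hc, rfl⟩, Subtype.ext hca⟩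

theorem link_conj {f : Subgroup G → Set (Subgroup G)} (hf : Cfsg.IsNormalizerFunctor p f) (g : G) {D : Subgroup G}
    {R R' : Sylow p G} (h : Link (Cfsg.functorFamily p f ⊤) D R R') :
    Link (Cfsg.functorFamily p f ⊤) (D.map (MulAut.conj g).toMonoidHom) (g • R) (g • R') := by
  have hnormal : Cfsg.IsNormalSet (Cfsg.functorFamily p f (⊤ : Subgroup G)) := by
    rintro _ ⟨P, F, hF, rfl⟩ y
    obtain ⟨R, hR⟩ := (P.2.map (⊤ : Subgroup G).subtype).exists_le_sylow
    have hPR : (P : Subgroup ↥(⊤ : Subgroup G)).map (⊤ : Subgroup G).subtype = (R : Subgroup G) := by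
      have := inf_eq_map_sylow P R hR
      rwa [inf_top_eq, eq_comm] at this
    have hmem := mem_functorFamily_top f (y⁻¹ • R) (F := F.map (MulAut.conj y⁻¹).toMonoidHom) (by
      rw [coe_sylow_smul, (hf _ R.2).2, ← hPR]
      exact ⟨F, hF, rfl⟩)
    convert hmem using 1
    rw [Cfsg.subgroupConjRight, top_inf_eq]
    exact map_equiv_normalizer_eq F (MulAut.conj y⁻¹)
  induction h with
  | refl => exact .refl
  | tail _ hstep ih =>
    obtain ⟨X, x, h1, h2, h3, h4, h5⟩ := hstep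
    refine ih.tail ⟨X.map (MulAut.conj g).toMonoidHom, g * x * g⁻¹, ?_, ?_, ⟨x, h3, rfl⟩, ?_, ?_⟩
    · rw [coe_sylow_smul]; exact sylowMembers_map_conj hnormal h1 g
    · rw [coe_sylow_smul]; exact sylowMembers_map_conj hnormal h2 g
    · rw [coe_sylow_smul, coe_sylow_smul, ← h4, Cfsg.subgroupConjRight, Cfsg.subgroupConjRight,
        CfsgLib.Coprime.map_conj_conj, CfsgLib.Coprime.map_conj_conj]
      congr 3
      group
    · rw [coe_sylow_smul]
      exact le_inf (map_mono (h5.trans inf_le_left)) (map_mono (h5.trans inf_le_right))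

theorem link_in {f : Subgroup G → Set (Subgroup G)} (hf : Cfsg.IsNormalizerFunctor p f) {M : Subgroup G}
    (hM : Cfsg.IsFunctorRegular p f M) {D : Subgroup G} (hD : D ≠ ⊥) (A B : Sylow p G)
    (hA : (A : Subgroup G) ≤ M) (hB : (B : Subgroup G) ≤ M) (hDA : D ≤ (A : Subgroup G)) (hDB : D ≤ (B : Subgroup G)) :
    Link (Cfsg.functorFamily p f ⊤) D A B := by
  have eA : ((A.subtype hA : Sylow p ↥M) : Subgroup ↥M).map M.subtype = (A : Subgroup G) := by
    rw [Sylow.coe_subtype, map_subgroupOf_eq_of_le hA]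
  have eB : ((B.subtype hB : Sylow p ↥M) : Subgroup ↥M).map M.subtype = (B : Subgroup G) := by
    rw [Sylow.coe_subtype, map_subgroupOf_eq_of_le hB]
  have hchain := regular_chain hf hM (P := A.subtype hA) (Q := B.subtype hB) hD (eA.symm ▸ hDA) (eB.symm ▸ hDB)
  have hfull : ∀ W : Sylow p ↥M, ∃ S : Sylow p G, (S : Subgroup G) = (W : Subgroup ↥M).map M.subtype := by
    intro W
    obtain ⟨S, hS⟩ := (W.2.map M.subtype).exists_le_sylow
    refine ⟨S, (eq_of_le_of_card_ge hS ?_).symm⟩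
    rw [card_map_of_injective M.subtype_injective, Nat.card_congr (W.equiv (A.subtype hA)).toEquiv,
      Sylow.coe_subtype, Nat.card_congr (subgroupOfEquivOfLe hA).toEquiv,
      Nat.card_congr (S.equiv A).toEquiv]
  suffices h : ∀ Z : Sylow p G, (Z : Subgroup G) = ((B.subtype hB : Sylow p ↥M) : Subgroup ↥M).map M.subtype →
      Link (Cfsg.functorFamily p f ⊤) D A Z from h B eB.symm
  generalize B.subtype hB = Q at hchain ⊢
  induction hchain with
  | refl => intro Z hZ; rw [show Z = A from Sylow.ext (hZ.trans eA)]; exact .refl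
  | @tail Q₁ Q₂ _ hstep ihc =>
    intro Z hZ
    obtain ⟨hD1, hD2, U, F, hF, hN1, hN2, x, hxM, hxF, hconj⟩ := hstep
    obtain ⟨A1, hA1⟩ := hfull Q₁
    obtain ⟨V, hV⟩ := hfull U
    refine (ihc A1 hA1).trans (Relation.ReflTransGen.single
      (linkStep_of_top (Set.Subset.refl _) (U := V) (hV ▸ hF) ?_ ?_ hxF ?_ (hZ ▸ hD2)))
    · rw [hA1]; exact hN1
    · rw [hZ]; exact hN2
    · rw [hA1, hZ]; exact hconj

/-- Let p be a prime dividing the order of the finite group G, f an equivariant assignment of a set of subgroups f(P) of P to every p-subgroup P, each normalized by N_G(P), and S a Sylow p-subgroup. If G = G₁G₂ for subgroups G₁, G₂ both containing S and both regular for f (in each Gᵢ, the family of normalizers in Gᵢ of the members of f(P), P a Sylow p-subgroup of Gᵢ, controls Sylow p-intersections), then G itself is regular for f. -/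
theorem result {G : Type*} [Group G] [Finite G] (p : ℕ) [Fact p.Prime] (hdiv : p ∣ Nat.card G)
    (f : Subgroup G → Set (Subgroup G)) (hf : Cfsg.IsNormalizerFunctor p f) (S : Sylow p G)
    (G₁ G₂ : Subgroup G) (h₁ : (S : Subgroup G) ≤ G₁) (h₂ : (S : Subgroup G) ≤ G₂)
    (hprod : ∀ g : G, ∃ g₁ ∈ G₁, ∃ g₂ ∈ G₂, g = g₁ * g₂)
    (hr₁ : Cfsg.IsFunctorRegular p f G₁) (hr₂ : Cfsg.IsFunctorRegular p f G₂) :
    Cfsg.IsFunctorRegular p f ⊤ := by
  intro S' T' hne hbot
  let up : Sylow p ↥(⊤ : Subgroup G) → Sylow p G := fun P =>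
    P.mapSurjective (f := (topEquiv : (⊤ : Subgroup G) ≃* G).toMonoidHom) topEquiv.surjective
  have hup : ∀ P, ((up P : Sylow p G) : Subgroup G) = (P : Subgroup ↥(⊤ : Subgroup G)).map (⊤ : Subgroup G).subtype :=
    fun P => rfl
  set D := ((S' : Subgroup ↥(⊤ : Subgroup G)) ⊓ (T' : Subgroup ↥(⊤ : Subgroup G))).map (⊤ : Subgroup G).subtype with hD
  have hD0 : D ≠ ⊥ := by
    rw [hD, Ne, map_eq_bot_iff_of_injective _ (⊤ : Subgroup G).subtype_injective]; exact hbot
  have hlink : Link (Cfsg.functorFamily p f ⊤) D (up S') (up T') := by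
    obtain ⟨a, ha⟩ := MulAction.exists_smul_eq G S (up S')
    obtain ⟨b, hb⟩ := MulAction.exists_smul_eq G S (up T')
    obtain ⟨g₁, hg₁, g₂, hg₂, hg⟩ := hprod (a⁻¹ * b)
    set E := D.map (MulAut.conj a⁻¹).toMonoidHom with hE
    have hES : E ≤ (S : Subgroup G) := by
      have h := map_mono (f := (MulAut.conj a⁻¹).toMonoidHom) (show D ≤ (up S' : Subgroup G) from map_mono inf_le_left)
      rwa [← coe_sylow_smul, ← ha, inv_smul_smul] at h
    have hET : E ≤ (((g₁ * g₂) • S : Sylow p G) : Subgroup G) := by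
      have h := map_mono (f := (MulAut.conj a⁻¹).toMonoidHom) (show D ≤ (up T' : Subgroup G) from map_mono inf_le_right)
      rwa [← coe_sylow_smul, ← hb, ← mul_smul, hg] at h
    set E' := E.map (MulAut.conj g₁⁻¹).toMonoidHom with hE'
    have hEne : E ≠ ⊥ := by
      rw [hE, Ne, map_eq_bot_iff_of_injective _ (MulAut.conj a⁻¹).injective]; exact hD0
    have hE'ne : E' ≠ ⊥ := by
      rw [hE', Ne, map_eq_bot_iff_of_injective _ (MulAut.conj g₁⁻¹).injective]; exact hEne
    have hE'T : E' ≤ ((g₂ • S : Sylow p G) : Subgroup G) := by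
      have h := map_mono (f := (MulAut.conj g₁⁻¹).toMonoidHom) hET
      rwa [← coe_sylow_smul, ← mul_smul, inv_mul_cancel_left] at h
    have hsm : ∀ (M : Subgroup G) (g : G), (S : Subgroup G) ≤ M → g ∈ M → ((g • S : Sylow p G) : Subgroup G) ≤ M := by
      intro M g hSM hgM
      rw [coe_sylow_smul]
      rintro _ ⟨s, hs, rfl⟩
      exact mul_mem (mul_mem hgM (hSM hs)) (inv_mem hgM)
    have hE'12 : E' ≤ G₁ ⊓ G₂ := by
      refine le_inf ?_ (hE'T.trans (hsm G₂ g₂ h₂ hg₂))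
      rintro _ ⟨e, he, rfl⟩
      exact mul_mem (mul_mem (inv_mem hg₁) (h₁ (hES he))) (inv_mem (inv_mem hg₁))
    obtain ⟨W, hW⟩ := exists_sylow_map_ge ((S.2.to_le hES).map _) hE'12
    obtain ⟨h, hh⟩ := MulAction.exists_smul_eq ↥(G₁ ⊓ G₂) (S.subtype (le_inf h₁ h₂)) W
    set U : Sylow p G := (h : G) • S with hU
    have hWU : E' ≤ (U : Subgroup G) := by
      refine hW.trans ?_
      rw [← hh, hU, coe_sylow_smul]
      rintro _ ⟨w, hw, rfl⟩
      obtain ⟨y, hy, rfl⟩ := hw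
      exact ⟨y, hy, rfl⟩
    have l1 : Link (Cfsg.functorFamily p f ⊤) E S (g₁ • U) := by
      refine link_in hf hr₁ hEne S (g₁ • U) h₁ ?_ hES ?_
      · rw [hU, ← mul_smul]; exact hsm G₁ _ h₁ (mul_mem hg₁ h.2.1)
      · have h' := map_mono (f := (MulAut.conj g₁).toMonoidHom) hWU
        rw [← coe_sylow_smul, hE', CfsgLib.Coprime.map_conj_conj, mul_inv_cancel] at h'
        refine le_trans ?_ h'
        intro e he
        exact ⟨e, he, by simp⟩
    have l2 : Link (Cfsg.functorFamily p f ⊤) E' U (g₂ • S) :=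
      link_in hf hr₂ hE'ne U (g₂ • S) (hsm G₂ _ h₂ h.2.2) (hsm G₂ g₂ h₂ hg₂) hWU hE'T
    have l2' := link_conj hf g₁ l2
    rw [hE', CfsgLib.Coprime.map_conj_conj, mul_inv_cancel, ← mul_smul g₁ g₂ S, ← hg] at l2'
    have hidE : E.map (MulAut.conj (1 : G)).toMonoidHom = E := by ext x; simp
    rw [hidE] at l2'
    have l := link_conj hf a (l1.trans l2')
    rw [hE, CfsgLib.Coprime.map_conj_conj, mul_inv_cancel, ha, ← mul_smul, mul_inv_cancel_left, hb] at l
    have hidD : D.map (MulAut.conj (1 : G)).toMonoidHom = D := by ext x; simp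
    rwa [hidD] at l
  obtain ⟨n, c, X, x, h0, hn, hc⟩ := exists_chain_of_link hlink
  let down : Sylow p G → Sylow p ↥(⊤ : Subgroup G) := fun R => R.subtype le_top
  have hdown : ∀ P, down (up P) = P := fun P => Sylow.ext (by
    rw [Sylow.coe_subtype, hup]
    exact comap_map_eq_self_of_injective (⊤ : Subgroup G).subtype_injective _)
  refine ⟨n, fun i => down (c i), fun i => (X i).subgroupOf ⊤, fun i => ⟨x i, mem_top _⟩,
    (congrArg down h0).trans (hdown S'), (congrArg down hn).trans (hdown T'), fun i => ?_⟩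
  obtain ⟨m1, m2, m3, m4, m5⟩ := hc i
  refine ⟨map_top_members m1, map_top_members m2, m3, ?_, ?_⟩
  · show Cfsg.subgroupConjRight _ ((c i.succ : Subgroup G).subgroupOf ⊤) = (c i.castSucc : Subgroup G).subgroupOf ⊤
    rw [← m4]
    ext a
    constructor
    · rintro ⟨b, hb, rfl⟩; exact ⟨_, hb, rfl⟩
    · rintro ⟨b, hb, hba⟩; exact ⟨⟨b, mem_top _⟩, hb, Subtype.ext hba⟩
  · intro a ha
    have := m5 (show (a : G) ∈ D from ⟨a, ha, rfl⟩)
    exact ⟨this.1, this.2⟩

end Cfsg.Agent.S2957
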