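import Cfsg.Statements.S2958
import Cfsg.Agent.Lib.Amalgam.CharP

set_option autoImplicit false
open Cfsg

namespace Cfsg.Agent.S2958

/-- Let X, A, B be subgroups of a group G such that G is generated by the conjugates of X and every conjugate of X is contained in A or in B. Then A = G or B = G. -/
theorem result {G : Type*} [Group G] (X A B : Subgroup G) (hgen : (⨆ g : G, X.map (MulAut.conj g).toMonoidHom) = ⊤) (hcover : ∀ g : G, X.map (MulAut.conj g).toMonoidHom ≤ A ∨ X.map (MulAut.conj g).toMonoidHom ≤ B) : A = ⊤ ∨ B = ⊤ := by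
  let A0 : Subgroup G := ⨆ g : {g : G // X.map (MulAut.conj g).toMonoidHom ≤ A ∧ ¬ X.map (MulAut.conj g).toMonoidHom ≤ B},
    X.map (MulAut.conj (g : G)).toMonoidHom
  by_cases hall : ∀ g : G, X.map (MulAut.conj g).toMonoidHom ≤ B
  · exact Or.inr (eq_top_iff.2 (hgen ▸ iSup_le hall))
  left
  obtain ⟨g₀, hg₀⟩ := not_forall.1 hall
  have hA0A : A0 ≤ A := iSup_le fun g => g.2.1
  -- conjugates lying in `B` permute the others
  have inv : ∀ g : G, X.map (MulAut.conj g).toMonoidHom ≤ B → ∀ z ∈ X.map (MulAut.conj g).toMonoidHom,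
      z ∈ Subgroup.normalizer (A0 : Set G) := by
    intro g hg
    have key : ∀ z ∈ B, A0.map (MulAut.conj z).toMonoidHom ≤ A0 := by
      intro z hz
      rw [Subgroup.map_iSup]
      refine iSup_le fun h => ?_
      have e : (X.map (MulAut.conj (h : G)).toMonoidHom).map (MulAut.conj z).toMonoidHom =
          X.map (MulAut.conj (z * h)).toMonoidHom := by
        rw [Subgroup.map_map]; congr 1; ext x; simp [mul_assoc]
      rw [e]
      have hnB : ¬ X.map (MulAut.conj (z * h)).toMonoidHom ≤ B := by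
        intro hh
        refine h.2.2 fun x hx => ?_
        have h1 : z * x * z⁻¹ ∈ B := hh (by rw [← e]; exact ⟨x, hx, rfl⟩)
        simpa [mul_assoc] using mul_mem (mul_mem (inv_mem hz) h1) hz
      exact le_iSup (fun g : {g : G // X.map (MulAut.conj g).toMonoidHom ≤ A ∧ ¬ X.map (MulAut.conj g).toMonoidHom ≤ B} =>
        X.map (MulAut.conj (g : G)).toMonoidHom) ⟨z * h, (hcover _).resolve_right hnB, hnB⟩
    intro z hz
    rw [Subgroup.mem_normalizer_iff]
    refine fun x => ⟨fun hx => key z (hg hz) ⟨x, hx, rfl⟩, fun hx => ?_⟩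
    simpa [mul_assoc] using key z⁻¹ (inv_mem (hg hz)) ⟨_, hx, rfl⟩
  have hn : Subgroup.normalizer (A0 : Set G) = ⊤ := by
    rw [eq_top_iff, ← hgen]
    refine iSup_le fun g => ?_
    by_cases hg : X.map (MulAut.conj g).toMonoidHom ≤ B
    · exact inv g hg
    · exact le_trans (le_iSup (fun g : {g : G // X.map (MulAut.conj g).toMonoidHom ≤ A ∧ ¬ X.map (MulAut.conj g).toMonoidHom ≤ B} =>
        X.map (MulAut.conj (g : G)).toMonoidHom) ⟨g, (hcover g).resolve_right hg, hg⟩) Subgroup.le_normalizer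
  have hN : A0.Normal := Subgroup.normalizer_eq_top_iff.1 hn
  refine eq_top_iff.2 (hgen ▸ iSup_le fun g => le_trans ?_ hA0A)
  rintro _ ⟨x, hx, rfl⟩
  have h0 : g₀ * x * g₀⁻¹ ∈ A0 := le_iSup (fun g : {g : G // X.map (MulAut.conj g).toMonoidHom ≤ A ∧ ¬ X.map (MulAut.conj g).toMonoidHom ≤ B} =>
    X.map (MulAut.conj (g : G)).toMonoidHom) ⟨g₀, (hcover g₀).resolve_right hg₀, hg₀⟩ ⟨x, hx, rfl⟩
  have := hN.conj_mem _ h0 (g * g₀⁻¹)
  simpa [mul_assoc] using this

end Cfsg.Agent.S2958
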