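import Cfsg.Statements.S2963
import Mathlib.GroupTheory.Perm.Closure

set_option autoImplicit false
open Cfsg

namespace Cfsg.Agent.S2963

open Subgroup
open scoped Pointwise

theorem exists_coatom_ge {G : Type*} [Group G] [Finite G] {H : Subgroup G} (h : H ≠ ⊤) :
    ∃ M, IsCoatom M ∧ H ≤ M := by
  rcases eq_top_or_exists_le_coatom H with h' | h'
  · exact absurd h' h
  · exact h'

theorem core (n : ℕ) (hn : Odd n) (S : Sylow 2 (Equiv.Perm (Fin n)))
    (hu : ∃! M : Subgroup (Equiv.Perm (Fin n)), IsCoatom M ∧ (S : Subgroup _) ≤ M)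
    (hne : ¬ (S : Subgroup (Equiv.Perm (Fin n))).Normal) : ∃ m : ℕ, n = 2 ^ m + 1 := by
  classical
  have hndvd : ¬ 2 ∣ Nat.card (Fin n) := by rw [Nat.card_fin]; exact hn.not_two_dvd_nat
  obtain ⟨i, hi⟩ := S.2.nonempty_fixed_point_of_prime_not_dvd_card (Fin n) hndvd
  have hSi : ∀ s ∈ (S : Subgroup (Equiv.Perm (Fin n))), s i = i := fun s hs => hi ⟨s, hs⟩
  obtain ⟨j, hji⟩ : ∃ j : Fin n, j ≠ i := by
    by_contra hall
    push Not at hall
    apply hne
    have : ∀ g : Equiv.Perm (Fin n), g = 1 := fun g => Equiv.ext fun x => by rw [hall (g x), hall x]; simp [hall i]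
    exact ⟨fun x hx g => by rw [this (g * x * g⁻¹)]; exact one_mem _⟩
  set O := MulAction.orbit ↥(S : Subgroup (Equiv.Perm (Fin n))) j with hO
  have hiO : i ∉ O := by
    rintro ⟨s, hs⟩
    have h1 : (s : Equiv.Perm (Fin n)) j = (s : Equiv.Perm (Fin n)) i := hs.trans (hSi s s.2).symm
    exact hji ((s : Equiv.Perm (Fin n)).injective h1)
  obtain ⟨k, hk⟩ := S.2.card_orbit j
  by_cases hfull : ∀ x, x ≠ i → x ∈ O
  · refine ⟨k, ?_⟩
    have hset : O = ({i} : Set (Fin n))ᶜ := by
      ext x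
      exact ⟨fun h e => hiO (e ▸ h), fun h => hfull x h⟩
    rw [← hO, hset] at hk
    rw [← hk]
    rw [Nat.card_coe_set_eq, Set.ncard_compl, Set.ncard_singleton, Nat.card_fin]
    have := hn.pos
    omega
  exfalso
  push Not at hfull
  obtain ⟨x, hxi, hxO⟩ := hfull
  set A : Set (Fin n) := insert i O with hA
  set H := MulAction.stabilizer (Equiv.Perm (Fin n)) A with hH
  have hSH : (S : Subgroup (Equiv.Perm (Fin n))) ≤ H := by
    intro s hs
    rw [hH, MulAction.mem_stabilizer_iff, hA, Set.smul_set_insert]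
    rw [show s • i = i from hSi s hs]
    congr 1
    exact MulAction.smul_orbit (⟨s, hs⟩ : ↥(S : Subgroup (Equiv.Perm (Fin n)))) j
  have hjA : j ∈ A := Set.mem_insert_of_mem _ (MulAction.mem_orbit_self j)
  have hsw : Equiv.swap i j ∈ H := by
    rw [hH, MulAction.mem_stabilizer_iff]
    have hsub : ∀ a ∈ A, Equiv.swap i j a ∈ A := by
      intro a ha
      rcases eq_or_ne a i with rfl | h1
      · rw [Equiv.swap_apply_left]; exact hjA
      rcases eq_or_ne a j with h2 | h2
      · rw [h2, Equiv.swap_apply_right]; exact Set.mem_insert _ _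
      · rw [Equiv.swap_apply_of_ne_of_ne h1 h2]; exact ha
    refine Set.Subset.antisymm (Set.smul_set_subset_iff.2 hsub) fun a ha => ?_
    exact ⟨_, hsub a ha, Equiv.swap_apply_self i j a⟩
  have hHne : H ≠ ⊤ := by
    intro htop
    have h : Equiv.swap i x ∈ H := htop ▸ mem_top _
    rw [hH, MulAction.mem_stabilizer_iff] at h
    have : x ∈ A := by
      rw [← h]
      exact ⟨i, Set.mem_insert _ _, Equiv.swap_apply_left i x⟩
    exact (Set.mem_insert_iff.1 this).elim hxi hxO
  have hKne : MulAction.stabilizer (Equiv.Perm (Fin n)) i ≠ ⊤ := by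
    intro htop
    have h : Equiv.swap i j ∈ MulAction.stabilizer (Equiv.Perm (Fin n)) i := htop ▸ mem_top _
    rw [MulAction.mem_stabilizer_iff] at h
    exact hji ((Equiv.swap_apply_left i j).symm.trans h)
  obtain ⟨M, hM, hHM⟩ := exists_coatom_ge hHne
  obtain ⟨M', hM', hKM⟩ := exists_coatom_ge hKne
  obtain ⟨U, -, huniq⟩ := hu
  have e : M' = M := (huniq M' ⟨hM', fun s hs => hKM (hSi s hs)⟩).trans (huniq M ⟨hM, hSH.trans hHM⟩).symm
  subst e
  apply hM.1
  rw [eq_top_iff, ← Equiv.Perm.closure_isSwap, closure_le]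
  have hij : Equiv.swap i j ∈ M' := hHM hsw
  have hoff : ∀ a b, a ≠ i → b ≠ i → Equiv.swap a b ∈ M' :=
    fun a b ha hb => hKM (Equiv.swap_apply_of_ne_of_ne ha.symm hb.symm)
  have hit : ∀ b, b ≠ i → Equiv.swap i b ∈ M' := by
    intro b hb
    rcases eq_or_ne b j with rfl | hbj
    · exact hij
    · have h := mul_mem (mul_mem (hoff j b hji hb) hij) (inv_mem (hoff j b hji hb))
      rwa [← Equiv.swap_apply_apply (Equiv.swap j b) i j, Equiv.swap_apply_of_ne_of_ne hji.symm hb.symm,
        Equiv.swap_apply_left] at h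
  rintro _ ⟨a, b, hab, rfl⟩
  rcases eq_or_ne a i with rfl | ha
  · exact hit b hab.symm
  rcases eq_or_ne b i with rfl | hb
  · rw [Equiv.swap_comm]; exact hit a ha
  · exact hoff a b ha hb

/-- Let n be odd. If the symmetric group of degree n is a minimal parabolic group for the prime 2, that is, a Sylow 2-subgroup is not normal and lies in exactly one maximal subgroup, then n = 2^m + 1 for some natural number m. -/
theorem result (n : ℕ) (hn : Odd n) (h : Cfsg.IsPMinimal 2 (Equiv.Perm (Fin n))) : ∃ m : ℕ, n = 2 ^ m + 1 := by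
  obtain ⟨S⟩ := (inferInstance : Nonempty (Sylow 2 (Equiv.Perm (Fin n))))
  exact core n hn S (h S).2 (h S).1

end Cfsg.Agent.S2963
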