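import Cfsg.Statements.S2968
import Cfsg.Agent.Lib.Amalgam.Isolated

set_option autoImplicit false
open Cfsg

namespace Cfsg.Agent.S2968

/-- Let G be a finite group, p a prime, P a Sylow p-subgroup of G and x ∈ P an element of p-power order which is isolated in G (the only conjugate of x commuting with x is x itself). Then x lies in the centre of P, and the subgroup generated by x is both strongly closed and weakly closed in P with respect to G. -/
theorem result {G : Type*} [Group G] [Finite G] {p : ℕ} [Fact p.Prime] (P : Sylow p G) (x : G) (hxP : x ∈ (P : Subgroup G)) (hx : ∃ k : ℕ, orderOf x = p ^ k) (hiso : Cfsg.IsIsolated x) : x ∈ (P : Subgroup G) ⊓ Subgroup.centralizer ((P : Subgroup G) : Set G) ∧ Cfsg.IsStronglyClosed (Subgroup.zpowers x) (P : Subgroup G) ∧ Cfsg.IsWeaklyClosed (Subgroup.zpowers x) (P : Subgroup G) := by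
  have hP := CfsgLib.Amalgam.isolated_central_of_isPGroup hiso P.isPGroup' hxP
  have hzP : Subgroup.zpowers x ≤ (P : Subgroup G) := Subgroup.zpowers_le.2 hxP
  have hsc : ∀ y ∈ Subgroup.zpowers x, ∀ g : G, g * y * g⁻¹ ∈ (P : Subgroup G) →
      g * y * g⁻¹ ∈ Subgroup.zpowers x := by
    rintro _ ⟨i, rfl⟩ g hg
    refine ⟨i, (CfsgLib.Amalgam.isolated_pow_conj_eq hx hiso P hxP hg).symm⟩
  refine ⟨⟨hxP, fun y hy => Subgroup.mem_centralizer_singleton_iff.1 (hP hy)⟩, ⟨hzP, hsc⟩, hzP, fun g hg => ?_⟩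
  refine Subgroup.eq_of_le_of_card_ge ?_ (CfsgLib.Coprime.card_map_conj g _).ge
  rintro _ ⟨y, hy, rfl⟩
  exact hsc y hy g (hg ⟨y, hy, rfl⟩)

end Cfsg.Agent.S2968
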