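import Cfsg.Statements.S2971
import Cfsg.Agent.Lib.Solvable.UniqueSubgroup
import Cfsg.Agent.Lib.Transfer.Frobenius
import Cfsg.Agent.Lib.Transfer.Basic
import Cfsg.Agent.Lib.Solvable.PCore
import Mathlib.NumberTheory.Basic

set_option autoImplicit false
open Cfsg

namespace Cfsg.Agent.S2971

open Subgroup

/-- Let G be a finite group and p an odd prime such that G has p-rank at most 1 (no elementary abelian subgroup of order p²). If x ∈ G is an isolated element of order p, then x is central modulo the largest normal subgroup of G of order prime to p. -/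
theorem result {G : Type*} [Group G] [Finite G] {p : ℕ} [Fact p.Prime] (hp : p ≠ 2) (hrk : Cfsg.PRankLE p 1 G) (x : G) (hx : orderOf x = p) (hiso : Cfsg.IsIsolated x) : Cfsg.InZStar p x := by
  classical
  have hpp : p.Prime := Fact.out
  obtain ⟨S, hxS⟩ := (IsPGroup.of_card (n := 1) (show Nat.card (zpowers x) = p ^ 1 by
    rw [Nat.card_zpowers, hx, pow_one])).exists_le_sylow
  rw [zpowers_le] at hxS
  -- the Sylow subgroup is cyclic
  haveI hcyc : IsCyclic (S : Subgroup G) := by
    rcases CfsgLib.Solvable.isCyclic_or_quaternion_of_unique S.2 (fun A B hA hB => by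
      haveI : Nontrivial (S : Subgroup G) := ⟨⟨x, hxS⟩, 1, fun e => by
        have e' : x = 1 := congrArg Subtype.val e
        rw [e', orderOf_one] at hx; exact hpp.ne_one hx.symm⟩
      haveI := S.2.center_nontrivial
      obtain ⟨z, hz⟩ : ∃ z : center (S : Subgroup G), orderOf z = p := by
        obtain ⟨k, hk⟩ := (S.2.to_subgroup (center (S : Subgroup G))).exists_card_eq
        refine exists_prime_orderOf_dvd_card' p ?_
        rcases k with - | k
        · rw [pow_zero] at hk
          have : 1 < Nat.card (center (S : Subgroup G)) := Finite.one_lt_card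
          omega
        · rw [hk]; exact dvd_pow_self p (Nat.succ_ne_zero k)
      have key : ∀ L : Subgroup ↥(S : Subgroup G), Nat.card L = p → L = zpowers (z : ↥(S : Subgroup G)) := by
        intro L hL
        obtain ⟨u, hu⟩ := exists_prime_orderOf_dvd_card' (G := L) p (by rw [hL])
        set W := closure ({(z : ↥(S : Subgroup G)), (u : ↥(S : Subgroup G))} : Set ↥(S : Subgroup G)) with hW
        have hWc : IsMulCommutative W := by
          rw [← le_centralizer_iff_isMulCommutative, hW, centralizer_closure, closure_le]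
          intro a ha
          rw [SetLike.mem_coe, mem_centralizer_iff]
          intro b hb
          rcases ha with ha | ha <;> rcases hb with hb | hb <;> rw [ha, hb]
          · exact mem_center_iff.1 z.2 _
          · exact (mem_center_iff.1 z.2 _).symm
        have hWp : ∀ w ∈ W, w ^ p = 1 := by
          intro w hw
          induction hw using closure_induction with
          | mem a ha =>
            rcases ha with ha | ha <;> rw [ha]
            · exact orderOf_dvd_iff_pow_eq_one.1 (dvd_of_eq ((Subgroup.orderOf_coe z).trans hz))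
            · exact orderOf_dvd_iff_pow_eq_one.1 (dvd_of_eq ((Subgroup.orderOf_coe u).trans hu))
          | one => exact one_pow p
          | mul a b ha hb iha ihb =>
            rw [(show Commute a b from congrArg Subtype.val (hWc.is_comm.comm (⟨a, ha⟩ : W) ⟨b, hb⟩)).mul_pow,
              iha, ihb, one_mul]
          | inv a ha iha => rw [inv_pow, iha, inv_one]
        have h := hrk (W.map (S : Subgroup G).subtype) (by
            refine ⟨⟨?_⟩⟩
            rintro ⟨_, a, ha, rfl⟩ ⟨_, b, hb, rfl⟩
            exact Subtype.ext (congrArg (fun w : W => ((w : ↥(S : Subgroup G)) : G)) (hWc.is_comm.comm ⟨a, ha⟩ ⟨b, hb⟩)))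
          (by rintro _ ⟨a, ha, rfl⟩; rw [← map_pow, hWp a ha, map_one])
        rw [card_map_of_injective (S : Subgroup G).subtype_injective, pow_one] at h
        have h1 : zpowers (z : ↥(S : Subgroup G)) = W := eq_of_le_of_card_ge
          (zpowers_le.2 (subset_closure (Set.mem_insert _ _)))
          (by rw [Nat.card_zpowers, Subgroup.orderOf_coe, hz]; exact h)
        have h2 : zpowers (u : ↥(S : Subgroup G)) = W := eq_of_le_of_card_ge
          (zpowers_le.2 (subset_closure (Set.mem_insert_of_mem _ rfl)))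
          (by rw [Nat.card_zpowers, Subgroup.orderOf_coe, hu]; exact h)
        rw [h1, ← h2]
        exact (eq_of_le_of_card_ge (zpowers_le.2 u.2) (by rw [hL, Nat.card_zpowers, Subgroup.orderOf_coe, hu])).symm
      rw [key A hA, key B hB]) with hc | ⟨h2, -⟩
    · exact hc
    · exact absurd h2 hp
  haveI hcomm : IsMulCommutative (S : Subgroup G) := ⟨⟨fun a b => by
    obtain ⟨g, hg⟩ := IsCyclic.exists_generator (α := ↥(S : Subgroup G))
    obtain ⟨i, rfl⟩ := hg a
    obtain ⟨j, rfl⟩ := hg b
    exact zpow_mul_comm g i j⟩⟩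
  have hNC : normalizer ((S : Subgroup G) : Set G) ≤ centralizer ((S : Subgroup G) : Set G) := by
    intro n hn
    obtain ⟨⟨u, hu⟩, hgen⟩ := IsCyclic.exists_generator (α := ↥(S : Subgroup G))
    have hfix : n * x * n⁻¹ = x := by
      refine hiso n ?_
      exact congrArg Subtype.val (hcomm.is_comm.comm (⟨x, hxS⟩ : ↥(S : Subgroup G)) ⟨_, (mem_normalizer_iff.1 hn x).1 hxS⟩)
    obtain ⟨i, hi⟩ := hgen ⟨n * u * n⁻¹, (mem_normalizer_iff.1 hn u).1 hu⟩
    have hi' : u ^ i = n * u * n⁻¹ := congrArg Subtype.val hi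
    obtain ⟨j, hj⟩ := hgen ⟨x, hxS⟩
    have hj' : u ^ j = x := congrArg Subtype.val hj
    have hxi : x ^ (i - 1) = 1 := by
      have : n * x * n⁻¹ = x ^ i := by
        rw [← hj', ← conj_zpow, ← hi', ← zpow_mul, ← zpow_mul, mul_comm]
      rw [zpow_sub_one, ← this, hfix, mul_inv_cancel]
    rw [← orderOf_dvd_iff_zpow_eq_one, hx] at hxi
    obtain ⟨a, ha⟩ := IsPGroup.iff_orderOf.1 S.2 ⟨u, hu⟩
    rw [Subgroup.orderOf_mk] at ha
    have hiter : ∀ k : ℕ, n ^ k * u * (n ^ k)⁻¹ = u ^ (i ^ k) := by
      intro k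
      induction k with
      | zero => simp
      | succ k ih =>
        rw [pow_succ' n, show n * n ^ k * u * (n * n ^ k)⁻¹ = n * (n ^ k * u * (n ^ k)⁻¹) * n⁻¹ by group, ih,
          ← conj_zpow, ← hi', ← zpow_mul, pow_succ']
    have hpk : ∀ k : ℕ, ((p : ℤ) ^ (k + 1)) ∣ i ^ p ^ k - 1 := by
      intro k
      have h := dvd_sub_pow_of_dvd_sub (R := ℤ) (p := p) hxi k
      simpa using h
    have hna : n ^ p ^ a * u = u * n ^ p ^ a := by
      have h1 : u ^ (i ^ p ^ a - 1) = 1 := by
        rw [← orderOf_dvd_iff_zpow_eq_one, ha]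
        push_cast
        exact (pow_dvd_pow _ (Nat.le_succ a)).trans (hpk a)
      have h2 := hiter (p ^ a)
      rw [show i ^ p ^ a = (i ^ p ^ a - 1) + 1 by ring, zpow_add, h1, one_mul, zpow_one] at h2
      exact mul_inv_eq_iff_eq_mul.1 h2
    obtain ⟨b, m, hm, hbm⟩ := Nat.exists_eq_pow_mul_and_not_dvd (orderOf_pos n).ne' p hpp.ne_one
    have hnm : n ^ m * u = u * n ^ m := by
      have hpg : IsPGroup p (zpowers (n ^ m)) := by
        intro g
        refine ⟨b, Subtype.ext ?_⟩
        obtain ⟨g, k, rfl⟩ := g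
        show ((n ^ m) ^ k) ^ p ^ b = 1
        rw [← zpow_natCast, ← zpow_mul, mul_comm k, zpow_mul, zpow_natCast, ← pow_mul, mul_comm m, ← hbm,
          pow_orderOf_eq_one, one_zpow]
      have hmem : n ^ m ∈ (S : Subgroup G) := by
        have h := hpg.to_sup_of_normal_right' S.2 ((zpowers_le.2 (pow_mem hn m)))
        have := S.3 h le_sup_right
        rw [← this]
        exact mem_sup_left (mem_zpowers _)
      exact congrArg Subtype.val (hcomm.is_comm.comm (⟨_, hmem⟩ : ↥(S : Subgroup G)) ⟨u, hu⟩)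
    have hnu : n * u = u * n := by
      have hg : Nat.gcd (p ^ a) m = 1 :=
        Nat.Coprime.pow_left a (hpp.coprime_iff_not_dvd.2 hm)
      have h := Nat.gcd_eq_gcd_ab (p ^ a) m
      rw [hg, Nat.cast_one] at h
      have e : n = (n ^ p ^ a) ^ Nat.gcdA (p ^ a) m * (n ^ m) ^ Nat.gcdB (p ^ a) m := by
        rw [← zpow_natCast, ← zpow_natCast, ← zpow_mul, ← zpow_mul, ← zpow_add, ← h, zpow_one]
      rw [e]
      exact (((show Commute (n ^ p ^ a) u from hna).zpow_left _).mul_left ((show Commute (n ^ m) u from hnm).zpow_left _)).eq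
    rw [mem_centralizer_iff]
    intro s hs
    obtain ⟨k, hk⟩ := hgen ⟨s, hs⟩
    have hk' : u ^ k = s := congrArg Subtype.val hk
    rw [← hk']
    exact ((show Commute n u from hnu).zpow_right k).eq.symm
  obtain ⟨P, K, hKn, hcompl⟩ := CfsgLib.Transfer.hasNormalPComplement_of_normalizer_le_centralizer S hNC
  intro g
  have hKp : K ≤ Cfsg.pPrimeCore p G := CfsgLib.Solvable.le_pPrimeCore hKn
    (CfsgLib.Transfer.coprime_card_of_inf_sylow_eq_bot P hcompl.disjoint.eq_bot)
  apply hKp
  have hsplit : ∀ y : G, ∃ k ∈ K, ∃ s ∈ (P : Subgroup G), y = k * s := by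
    intro y
    obtain ⟨⟨⟨k, hk⟩, ⟨s, hs⟩⟩, h⟩ := hcompl.2 y
    exact ⟨k, hk, s, hs, h.symm⟩
  haveI hPc : IsMulCommutative (P : Subgroup G) := ⟨⟨fun a b => (P.equiv S).injective (by
    rw [map_mul, map_mul]; exact hcomm.is_comm.comm _ _)⟩⟩
  have hmk : ∀ y : G, ∃ s : ↥(P : Subgroup G), (QuotientGroup.mk y : G ⧸ K) = QuotientGroup.mk (s : G) := by
    intro y
    obtain ⟨k, hk, s, hs, rfl⟩ := hsplit y
    refine ⟨⟨s, hs⟩, ?_⟩
    rw [QuotientGroup.mk_mul, (QuotientGroup.eq_one_iff k).2 hk, one_mul]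
  rw [← QuotientGroup.eq_one_iff]
  obtain ⟨s, hs⟩ := hmk g
  obtain ⟨t, ht⟩ := hmk x
  simp only [QuotientGroup.mk_mul, QuotientGroup.mk_inv, hs, ht]
  simp only [← QuotientGroup.mk_mul, ← QuotientGroup.mk_inv]
  rw [QuotientGroup.eq_one_iff, show (s : G) * t = t * s from congrArg Subtype.val (hPc.is_comm.comm s t)]
  simp [one_mem]

end Cfsg.Agent.S2971
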