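import Cfsg.Statements.S2972
import Cfsg.Agent.Lib.Solvable.PCore
import Mathlib.GroupTheory.SchurZassenhaus
import Mathlib.GroupTheory.Nilpotent

set_option autoImplicit false
open Cfsg

namespace Cfsg.Agent.S2972

open Subgroup
open scoped commutatorElement

section
variable {G : Type*} [Group G] [Finite G] {p : ℕ} [Fact p.Prime]

omit [Fact p.Prime] in
theorem pPrimeCore_map_le {H : Subgroup G} [H.Normal] :
    (Cfsg.pPrimeCore p ↥H).map H.subtype ≤ Cfsg.pPrimeCore p G := by
  haveI := CfsgLib.Solvable.pPrimeCore_characteristic p ↥H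
  exact CfsgLib.Solvable.le_pPrimeCore inferInstance
    (by rw [CfsgLib.Solvable.card_map_subtype]; exact CfsgLib.Solvable.pPrimeCore_coprime p)

theorem comap_core_coprime {N : Subgroup G} [N.Normal] (hN : (Nat.card N).Coprime p) :
    (Nat.card ((Cfsg.pPrimeCore p (G ⧸ N)).comap (QuotientGroup.mk' N) : Subgroup G)).Coprime p := by
  set L := (Cfsg.pPrimeCore p (G ⧸ N)).comap (QuotientGroup.mk' N)
  have hNL : N ≤ L := fun n hn => by
    refine mem_comap.2 ?_
    rw [QuotientGroup.mk'_apply, (QuotientGroup.eq_one_iff n).2 hn]; exact one_mem _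
  have h := relIndex_mul_relIndex ⊥ N L bot_le hNL
  rw [relIndex_bot_left, relIndex_bot_left] at h
  have h2 : N.relIndex L = Nat.card (Cfsg.pPrimeCore p (G ⧸ N)) := by
    conv_lhs => rw [← QuotientGroup.ker_mk' N, relIndex_ker]
    rw [map_comap_eq_self_of_surjective (QuotientGroup.mk'_surjective N)]
  rw [← h, h2]
  exact hN.mul_left (CfsgLib.Solvable.pPrimeCore_coprime p)
end

/-- Let G be a finite group, p a prime and x ∈ G an isolated element of order p (the only conjugate of x commuting with x is x) which is not central modulo the largest normal subgroup of order prime to p, while x is central modulo the largest normal subgroup of order prime to p in every proper subgroup containing x, and the image of x is so in every quotient of G by a nontrivial normal subgroup (a minimal counterexample to the Z*_p statement). Then the derived subgroup G' is a non-abelian simple group and G = G'⟨x⟩. -/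
theorem result {G : Type*} [Group G] [Finite G] {p : ℕ} [Fact p.Prime] (x : G) (hx : orderOf x = p) (hiso : Cfsg.IsIsolated x) (hnz : ¬ Cfsg.InZStar p x) (hmin : ∀ (H : Subgroup G) (hxH : x ∈ H), H ≠ ⊤ → Cfsg.InZStar p (⟨x, hxH⟩ : ↥H)) (hquot : ∀ (N : Subgroup G) [N.Normal], N ≠ ⊥ → Cfsg.InZStar p (QuotientGroup.mk x : G ⧸ N)) : IsSimpleGroup ↥(commutator G) ∧ ¬ IsMulCommutative ↥(commutator G) ∧ commutator G ⊔ Subgroup.zpowers x = ⊤ := by
  classical
  have hpp : p.Prime := Fact.out
  haveI hOn := CfsgLib.Solvable.pPrimeCore_normal p G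
  have hnc : x ∉ center G := fun h => hnz fun g => by
    rw [mem_center_iff.1 h g, mul_inv_cancel_right, mul_inv_cancel]; exact one_mem _
  have hmk : ∀ (M : Subgroup G) [M.Normal], M ≠ ⊥ → ∀ g : G,
      g * x * g⁻¹ * x⁻¹ ∈ (Cfsg.pPrimeCore p (G ⧸ M)).comap (QuotientGroup.mk' M) := by
    intro M _ hM g
    have h := hquot M hM (g : G ⧸ M)
    exact mem_comap.2 h
  have hO : Cfsg.pPrimeCore p G = ⊥ := by
    by_contra h
    refine hnz fun g => ?_
    have hc := comap_core_coprime (p := p) (N := Cfsg.pPrimeCore p G) (CfsgLib.Solvable.pPrimeCore_coprime p)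
    haveI := CfsgLib.Solvable.pPrimeCore_normal p (G ⧸ Cfsg.pPrimeCore p G)
    exact CfsgLib.Solvable.le_pPrimeCore inferInstance hc (hmk _ h g)
  -- normal subgroups which do not generate `G` with `x` are centralized by `x`
  have hsmall : ∀ K : Subgroup G, K.Normal → K ⊔ zpowers x ≠ ⊤ → ∀ k ∈ K, k * x = x * k := by
    intro K hK hne k hk
    set H := K ⊔ zpowers x with hH
    have hxH : x ∈ H := mem_sup_right (mem_zpowers x)
    have h := hmin H hxH hne ⟨k, mem_sup_left hk⟩
    haveI := CfsgLib.Solvable.pPrimeCore_normal p ↥H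
    set P := (Cfsg.pPrimeCore p ↥H).map H.subtype with hP
    have h1 : k * x * k⁻¹ * x⁻¹ ∈ P := ⟨_, h, rfl⟩
    have h2 : k * x * k⁻¹ * x⁻¹ ∈ K := by
      have := mul_mem hk (hK.conj_mem _ (inv_mem hk) x)
      simpa [mul_assoc] using this
    have hn : (P.subgroupOf K).Normal := ⟨fun a ha g => by
      rw [mem_subgroupOf] at ha ⊢
      obtain ⟨b, hb, e⟩ := ha
      refine ⟨⟨g, mem_sup_left g.2⟩ * b * ⟨g, mem_sup_left g.2⟩⁻¹, Normal.conj_mem ‹(Cfsg.pPrimeCore p ↥H).Normal› b hb _, ?_⟩
      show (g : G) * (b : G) * (g : G)⁻¹ = (g : G) * (a : G) * (g : G)⁻¹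
      rw [← e]; rfl⟩
    have hcop : (Nat.card (P.subgroupOf K)).Coprime p := by
      refine Nat.Coprime.coprime_dvd_left ?_ (CfsgLib.Solvable.pPrimeCore_coprime (G := ↥H) p)
      rw [← CfsgLib.Solvable.card_map_subtype (Cfsg.pPrimeCore p ↥H), ← hP,
        ← CfsgLib.Solvable.card_map_subtype (P.subgroupOf K), subgroupOf_map_subtype]
      exact card_dvd_of_le inf_le_left
    have h3 : k * x * k⁻¹ * x⁻¹ ∈ Cfsg.pPrimeCore p G :=
      pPrimeCore_map_le (H := K) ⟨⟨_, h2⟩, CfsgLib.Solvable.le_pPrimeCore hn hcop h1, rfl⟩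
    rw [hO, mem_bot, mul_inv_eq_one, mul_inv_eq_iff_eq_mul] at h3
    exact h3
  -- `G = G'⟨x⟩`
  set R := commutator G with hR
  have hmemR : ∀ g : G, g * x * g⁻¹ * x⁻¹ ∈ R := fun g => by
    rw [hR, _root_.commutator_def]; exact commutator_mem_commutator (mem_top _) (mem_top _)
  have hRtop : R ⊔ zpowers x = ⊤ := by
    by_contra hne
    apply hnc
    rw [mem_center_iff]
    intro g
    have h := hsmall R inferInstance hne _ (hmemR g)
    have hc : Commute x (g * x * g⁻¹) := by
      rw [inv_mul_cancel_right] at h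
      exact (mul_inv_eq_iff_eq_mul.1 (show x * (g * x * g⁻¹) * x⁻¹ = g * x * g⁻¹ by simpa [mul_assoc] using h.symm))
    exact mul_inv_eq_iff_eq_mul.1 (hiso g hc)
  -- `G'` is the only minimal normal subgroup
  have hcomm_le : ∀ K : Subgroup G, K.Normal → K ⊔ zpowers x = ⊤ → R ≤ K := by
    intro K hK htop
    haveI := hK
    have hgen : ∀ a : G, ∃ i : ℤ, (a : G ⧸ K) = (x : G ⧸ K) ^ i := by
      intro a
      have ha : a ∈ K ⊔ zpowers x := htop ▸ mem_top a
      rw [← SetLike.mem_coe, normal_mul] at ha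
      obtain ⟨k, hk, z, ⟨i, rfl⟩, rfl⟩ := ha
      exact ⟨i, by rw [QuotientGroup.mk_mul, (QuotientGroup.eq_one_iff k).2 hk, one_mul]; rfl⟩
    rw [hR, _root_.commutator_def, commutator_le]
    intro a _ b _
    rw [← QuotientGroup.eq_one_iff]
    obtain ⟨i, hi⟩ := hgen a
    obtain ⟨j, hj⟩ := hgen b
    show QuotientGroup.mk' K ⁅a, b⁆ = 1
    rw [map_commutatorElement, QuotientGroup.mk'_apply, QuotientGroup.mk'_apply, hi, hj,
      commutatorElement_eq_one_iff_mul_comm]
    exact zpow_mul_comm _ i j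
  have huniq : ∀ K : Subgroup G, K.Normal → K ≠ ⊥ → R ≤ K := by
    intro K hK hKne
    haveI := hK
    by_contra hRK
    have hKx : ∀ k ∈ K, k * x = x * k := hsmall K hK fun h => hRK (hcomm_le K hK h)
    -- `K` is central
    have hKc : K ≤ center G := by
      intro k hk
      have hRk : ∀ g : G, g * x * g⁻¹ * k = k * (g * x * g⁻¹) := by
        intro g
        have h := hKx _ (hK.conj_mem k hk g⁻¹)
        have h' := congrArg (fun z => g * z * g⁻¹) h
        simpa [mul_assoc] using h'.symm
      set C := centralizer ({k} : Set G) with hC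
      have hxC : normalClosure ({x} : Set G) ≤ C := by
        rw [normalClosure, closure_le]
        intro y hy
        obtain ⟨z, hz, hyz⟩ := Group.mem_conjugatesOfSet_iff.1 hy
        rw [Set.mem_singleton_iff] at hz; subst hz
        obtain ⟨g, rfl⟩ := isConj_iff.1 hyz
        exact mem_centralizer_singleton_iff.2 (hRk g)
      have htop : normalClosure ({x} : Set G) = ⊤ := by
        refine top_le_iff.1 ?_
        rw [← hRtop]
        refine sup_le (hcomm_le _ normalClosure_normal (top_le_iff.1 ?_))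
          (zpowers_le.2 (subset_normalClosure rfl))
        haveI : (normalClosure ({x} : Set G)).Normal := normalClosure_normal
        intro g _
        by_contra hgout
        have hne : normalClosure ({x} : Set G) ⊔ zpowers x ≠ ⊤ := fun e => hgout (e ▸ mem_top g)
        have hall := hsmall _ normalClosure_normal hne
        apply hnc
        rw [mem_center_iff]
        intro g
        have h := hall _ ((inferInstance : (normalClosure ({x} : Set G)).Normal).conj_mem x (subset_normalClosure rfl) g)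
        exact mul_inv_eq_iff_eq_mul.1 (hiso g h.symm)
      rw [mem_center_iff]
      intro g
      have : g ∈ C := hxC (htop ▸ mem_top g)
      exact mem_centralizer_singleton_iff.1 this
    -- a central subgroup of order `p`
    obtain ⟨k₀, hk₀, hk₀1⟩ : ∃ k ∈ K, k ≠ 1 := by
      by_contra hall
      push Not at hall
      exact hKne (eq_bot_iff.2 fun k hk => mem_bot.2 (hall k hk))
    obtain ⟨q, hq, hqd⟩ := Nat.exists_prime_and_dvd (fun h => hk₀1 (orderOf_eq_one_iff.1 h))
    haveI : Fact q.Prime := ⟨hq⟩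
    set z := k₀ ^ (orderOf k₀ / q) with hz
    have hzo : orderOf z = q := orderOf_pow_orderOf_div (orderOf_pos k₀).ne' hqd
    have hzc : z ∈ center G := hKc (pow_mem hk₀ _)
    haveI hZn : (zpowers z).Normal := ⟨fun a ha g => by
      rw [mem_center_iff.1 ((zpowers_le.2 hzc) ha) g, mul_inv_cancel_right]; exact ha⟩
    have hqp : q = p := by
      by_contra hne
      have hle : zpowers z ≤ Cfsg.pPrimeCore p G := CfsgLib.Solvable.le_pPrimeCore hZn
        (by rw [Nat.card_zpowers, hzo]; exact (Nat.coprime_primes hq hpp).2 hne)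
      rw [hO, le_bot_iff, zpowers_eq_bot] at hle
      rw [hle, orderOf_one] at hzo
      exact hq.ne_one hzo.symm
    subst hqp
    have hne : zpowers z ≠ ⊥ := fun h => by
      rw [zpowers_eq_bot] at h; rw [h, orderOf_one] at hzo; exact hpp.ne_one hzo.symm
    set L := (Cfsg.pPrimeCore q (G ⧸ zpowers z)).comap (QuotientGroup.mk' (zpowers z)) with hL
    haveI := CfsgLib.Solvable.pPrimeCore_normal q (G ⧸ zpowers z)
    haveI : L.Normal := (inferInstance : (Cfsg.pPrimeCore q (G ⧸ zpowers z)).Normal).comap _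
    have hZL : zpowers z ≤ L := fun a ha => by
      refine mem_comap.2 ?_
      rw [QuotientGroup.mk'_apply, (QuotientGroup.eq_one_iff a).2 ha]; exact one_mem _
    -- the complement of `⟨z⟩` in `L` is trivial
    have hidx : ((zpowers z).subgroupOf L).index = Nat.card (Cfsg.pPrimeCore q (G ⧸ zpowers z)) := by
      show (zpowers z).relIndex L = _
      conv_lhs => rw [← QuotientGroup.ker_mk' (zpowers z), relIndex_ker]
      rw [hL, map_comap_eq_self_of_surjective (QuotientGroup.mk'_surjective _)]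
    have hcardZ : Nat.card ((zpowers z).subgroupOf L) = q := by
      rw [Nat.card_congr (subgroupOfEquivOfLe hZL).toEquiv, Nat.card_zpowers, hzo]
    obtain ⟨M, hMc⟩ := exists_right_complement'_of_coprime (N := (zpowers z).subgroupOf L)
      (by rw [hcardZ, hidx]; exact (CfsgLib.Solvable.pPrimeCore_coprime q).symm)
    have hMn : M.Normal := ⟨fun m hm g => by
      obtain ⟨⟨a, m'⟩, hg⟩ := hMc.2 g
      simp only at hg
      have hac : ∀ y : ↥L, y * (a : ↥L) = (a : ↥L) * y := fun y =>
        Subtype.ext (mem_center_iff.1 ((zpowers_le.2 hzc) a.2) y)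
      rw [← hg, show (a : ↥L) * m' * m * ((a : ↥L) * m')⁻¹ = (a : ↥L) * ((m' : ↥L) * m * (m' : ↥L)⁻¹) * (a : ↥L)⁻¹ by group,
        ← hac, mul_inv_cancel_right]
      exact mul_mem (mul_mem m'.2 hm) (inv_mem m'.2)⟩
    have hMcop : (Nat.card M).Coprime q := by
      rw [← hMc.symm.index_eq_card, hidx]
      exact CfsgLib.Solvable.pPrimeCore_coprime q
    have hM1 : ∀ m ∈ M, (m : G) = 1 := fun m hm => by
      have h := pPrimeCore_map_le (H := L) (mem_map_of_mem _ (CfsgLib.Solvable.le_pPrimeCore hMn hMcop hm))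
      rwa [hO, mem_bot] at h
    apply hnc
    rw [mem_center_iff]
    intro g
    have hg := hmk (zpowers z) hne g
    obtain ⟨⟨a, m⟩, ham⟩ := hMc.2 (⟨_, hg⟩ : ↥L)
    have e : (a : G) * (m : G) = g * x * g⁻¹ * x⁻¹ := congrArg Subtype.val ham
    rw [hM1 _ m.2, mul_one] at e
    have hcc : g * x * g⁻¹ * x⁻¹ ∈ center G := e ▸ (zpowers_le.2 hzc) a.2
    have hc : Commute x (g * x * g⁻¹) := by
      have h := mem_center_iff.1 hcc x
      rw [inv_mul_cancel_right] at h
      exact mul_inv_eq_iff_eq_mul.1 (show x * (g * x * g⁻¹) * x⁻¹ = g * x * g⁻¹ by simpa [mul_assoc] using h)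
    exact mul_inv_eq_iff_eq_mul.1 (hiso g hc)
  have hRne : R ≠ ⊥ := fun h => hnc (mem_center_iff.2 fun g => by
    have := hmemR g
    rw [h, mem_bot, mul_inv_eq_one, mul_inv_eq_iff_eq_mul] at this
    exact this)
  -- no normal `p`-subgroup
  have hnoP : ∀ A : Subgroup G, A.Normal → IsPGroup p A → A = ⊥ := by
    intro A hA hAp
    by_contra hAne
    have hRp : IsPGroup p R := hAp.to_le (huniq A hA hAne)
    have hx' : IsPGroup p (zpowers x) := IsPGroup.of_card (n := 1) (by rw [Nat.card_zpowers, hx, pow_one])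
    have htopp : IsPGroup p (⊤ : Subgroup G) := hRtop ▸ hRp.to_sup_of_normal_left hx'
    apply hnc
    rw [mem_center_iff]
    -- `x` is isolated in a `p`-group
    by_contra hx0
    have hnil : Group.IsNilpotent G := (htopp.of_equiv topEquiv).isNilpotent
    have hC : centralizer ({x} : Set G) < ⊤ := lt_top_iff_ne_top.2 fun h => hx0 fun g =>
      mem_centralizer_singleton_iff.1 (h ▸ mem_top g)
    have hlt := Group.normalizerCondition_of_isNilpotent (G := G) _ hC
    obtain ⟨n, hn, hnC⟩ := SetLike.exists_of_lt hlt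
    apply hnC
    have hxn : n * x * n⁻¹ ∈ centralizer ({x} : Set G) :=
      (mem_normalizer_iff.1 hn x).1 (mem_centralizer_singleton_iff.2 rfl)
    exact mem_centralizer_singleton_iff.2 (mul_inv_eq_iff_eq_mul.1 (hiso n (mem_centralizer_singleton_iff.1 hxn).symm))
  have hRab : ¬ IsMulCommutative R := by
    intro hab
    obtain ⟨r, hr, hr1⟩ : ∃ r ∈ R, r ≠ 1 := by
      by_contra hall
      push Not at hall
      exact hRne (eq_bot_iff.2 fun k hk => mem_bot.2 (hall k hk))
    obtain ⟨q, hq, hqd⟩ := Nat.exists_prime_and_dvd (fun h => hr1 (orderOf_eq_one_iff.1 h))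
    haveI : Fact q.Prime := ⟨hq⟩
    obtain ⟨Q⟩ := (inferInstance : Nonempty (Sylow q ↥R))
    have hQn : (Q : Subgroup ↥R).Normal := ⟨fun a ha g => by
      rw [hab.is_comm.comm g a, mul_inv_cancel_right]; exact ha⟩
    haveI := Q.characteristic_of_normal hQn
    set A := (Q : Subgroup ↥R).map R.subtype with hA
    have hAn : A.Normal := inferInstance
    have hAne : A ≠ ⊥ := by
      rw [hA, Ne, map_eq_bot_iff_of_injective _ R.subtype_injective]
      exact Q.ne_bot_of_dvd_card ((hqd.trans (by rw [← Subgroup.orderOf_mk r hr])).trans (orderOf_dvd_natCard _))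
    by_cases hqp : q = p
    · subst hqp; exact hAne (hnoP A hAn (Q.2.map _))
    · obtain ⟨n, hn⟩ := (Q.2.map R.subtype).exists_card_eq
      have hle := CfsgLib.Solvable.le_pPrimeCore (p := p) hAn (by
        rw [hn]; exact ((Nat.coprime_primes hq hpp).2 hqp).pow_left n)
      rw [hO, le_bot_iff] at hle
      exact hAne hle
  haveI : Nontrivial ↥R := (nontrivial_iff_ne_bot R).2 hRne
  refine ⟨?_, hRab, hRtop⟩
  refine ⟨fun N hN => or_iff_not_imp_left.2 fun hNne => ?_⟩
  -- a minimal normal subgroup of `R` below `N`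
  obtain ⟨L, ⟨hLn, hLne, hLN⟩, hLmin⟩ := Set.Finite.exists_minimal
    (s := {L : Subgroup ↥R | L.Normal ∧ L ≠ ⊥ ∧ L ≤ N}) (Set.toFinite _) ⟨N, hN, hNne, le_rfl⟩
  set L' := L.map R.subtype with hL'
  let σ : G ≃* G := MulAut.conj x
  have hxR : ∀ y ∈ R, x * y * x⁻¹ ∈ R := fun y hy => (inferInstance : R.Normal).conj_mem y hy x
  have hL'R : L' ≤ R := map_subtype_le _
  have hL'n : ∀ r ∈ R, ∀ l ∈ L', r * l * r⁻¹ ∈ L' := by
    rintro r hr _ ⟨l, hl, rfl⟩
    exact ⟨_, hLn.conj_mem l hl ⟨r, hr⟩, rfl⟩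
  have hminL : ∀ A : Subgroup G, A ≤ L' → (∀ r ∈ R, ∀ a ∈ A, r * a * r⁻¹ ∈ A) → A = ⊥ ∨ A = L' := by
    intro A hA hAn
    refine or_iff_not_imp_left.2 fun hAne => le_antisymm hA ?_
    have h1 : A.subgroupOf R ≤ L := fun a ha => by
      obtain ⟨l, hl, e⟩ := hA ha
      rwa [← Subtype.ext e]
    have h2 := hLmin (y := A.subgroupOf R) ⟨⟨fun a ha g => hAn g g.2 a ha⟩, fun h => hAne (by
      rw [← map_subgroupOf_eq_of_le (hA.trans hL'R), h, Subgroup.map_bot]), h1.trans hLN⟩ h1
    rintro _ ⟨l, hl, rfl⟩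
    exact h2 hl
  by_cases hfix : ∀ l ∈ L', x * l * x⁻¹ ∈ L'
  · have hL'top : L'.Normal := by
      refine normalizer_eq_top_iff.1 (top_le_iff.1 ?_)
      rw [← hRtop, sup_le_iff, zpowers_le]
      have hback : ∀ y : G, (∀ l ∈ L', y * l * y⁻¹ ∈ L') → y ∈ normalizer (L' : Set G) := by
        intro y hy
        rw [mem_normalizer_iff_map_conj_eq]
        exact eq_of_le_of_card_ge (by rintro _ ⟨l, hl, rfl⟩; exact hy l hl)
          (card_map_of_injective (MulAut.conj y).injective).ge
      exact ⟨fun r hr => hback r (hL'n r hr), hback x hfix⟩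
    have hle := huniq L' hL'top (by rw [hL', Ne, map_eq_bot_iff_of_injective _ R.subtype_injective]; exact hLne)
    refine eq_top_iff.2 fun r _ => hLN ?_
    obtain ⟨l, hl, e⟩ := hle r.2
    rwa [← Subtype.ext e]
  exfalso
  let c : ℕ → Subgroup G := fun i => L'.map (MulAut.conj (x ^ i)).toMonoidHom
  have hcn : ∀ i, ∀ r ∈ R, ∀ a ∈ c i, r * a * r⁻¹ ∈ c i := by
    rintro i r hr _ ⟨l, hl, rfl⟩
    refine ⟨((x ^ i)⁻¹ * r * x ^ i) * l * ((x ^ i)⁻¹ * r * x ^ i)⁻¹, hL'n _ ?_ l hl, by show x ^ i * _ * (x ^ i)⁻¹ = r * (x ^ i * l * (x ^ i)⁻¹) * r⁻¹; group⟩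
    simpa using (inferInstance : R.Normal).conj_mem r hr (x ^ i)⁻¹
  have hxp : x ^ p = 1 := hx ▸ pow_orderOf_eq_one x
  have hdis : ∀ i, 0 < i → i < p → L' ⊓ c i = ⊥ := by
    intro i hi0 hip
    rcases hminL (L' ⊓ c i) inf_le_left (fun r hr a ha => ⟨hL'n r hr a ha.1, hcn i r hr a ha.2⟩) with h | h
    · exact h
    · exfalso
      apply hfix
      have he : c i = L' := (eq_of_le_of_card_ge (h.ge.trans inf_le_right)
        (card_map_of_injective (MulAut.conj (x ^ i)).injective).le).symm
      have hxi : x ^ i ∈ normalizer (L' : Set G) := mem_normalizer_iff_map_conj_eq.2 he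
      have hcop : i.Coprime (orderOf x) := by
        rw [hx]; exact (hpp.coprime_iff_not_dvd.2 fun hd => absurd (Nat.le_of_dvd hi0 hd) (not_le.2 hip)).symm
      obtain ⟨m, hm⟩ := exists_pow_eq_self_of_coprime hcop
      have hxn : x ∈ normalizer (L' : Set G) := hm ▸ pow_mem hxi m
      exact fun l hl => (mem_normalizer_iff.1 hxn l).1 hl
  have hcomm : ∀ i, 0 < i → i < p → ∀ a ∈ L', ∀ b ∈ c i, a * b = b * a := by
    intro i hi0 hip a ha b hb
    have hbR : b ∈ R := by
      obtain ⟨l, hl, rfl⟩ := hb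
      exact (inferInstance : R.Normal).conj_mem l (hL'R hl) _
    have h1 : a * b * a⁻¹ * b⁻¹ ∈ L' := by
      have := mul_mem ha (hL'n b hbR _ (inv_mem ha))
      simpa [mul_assoc] using this
    have h2 : a * b * a⁻¹ * b⁻¹ ∈ c i := mul_mem (hcn i a (hL'R ha) b hb) (inv_mem hb)
    have h3 : a * b * a⁻¹ * b⁻¹ ∈ L' ⊓ c i := ⟨h1, h2⟩
    rw [hdis i hi0 hip, mem_bot, mul_inv_eq_one, mul_inv_eq_iff_eq_mul] at h3
    exact h3
  -- `L` is not abelian, so has trivial centre
  have hLab : ∀ a ∈ L', (∀ b ∈ L', a * b = b * a) → a = 1 := by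
    intro a ha hcen
    let A : Subgroup G := L' ⊓ centralizer (L' : Set G)
    have haA : a ∈ A := ⟨ha, mem_centralizer_iff.2 fun b hb => (hcen b hb).symm⟩
    rcases hminL A inf_le_left (fun r hr u hu => ⟨hL'n r hr u hu.1, mem_centralizer_iff.2 fun b hb => by
      have hb' : r⁻¹ * b * r ∈ L' := by simpa using hL'n r⁻¹ (inv_mem hr) b hb
      have h := mem_centralizer_iff.1 hu.2 _ hb'
      have h' := congrArg (fun z => r * z * r⁻¹) h
      simpa [mul_assoc] using h'⟩) with h | h
    · rwa [h, mem_bot] at haA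
    · exfalso
      have hLcomm : ∀ u ∈ L', ∀ v ∈ L', u * v = v * u := fun u hu v hv => by
        have : u ∈ A := h.symm ▸ hu
        exact (mem_centralizer_iff.1 this.2 v hv).symm
      obtain ⟨u, hu, hu1⟩ : ∃ u ∈ L, u ≠ 1 := by
        by_contra hall
        push Not at hall
        exact hLne (eq_bot_iff.2 fun k hk => mem_bot.2 (hall k hk))
      obtain ⟨q, hq, hqd⟩ := Nat.exists_prime_and_dvd (fun h => hu1 (orderOf_eq_one_iff.1 h))
      haveI : Fact q.Prime := ⟨hq⟩
      haveI := hLn
      obtain ⟨Q⟩ := (inferInstance : Nonempty (Sylow q ↥L))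
      have hQn : (Q : Subgroup ↥L).Normal := ⟨fun y hy g => by
        have : g * y = y * g := Subtype.ext (Subtype.ext (hLcomm _ ⟨_, g.2, rfl⟩ _ ⟨_, y.2, rfl⟩))
        rw [this, mul_inv_cancel_right]; exact hy⟩
      haveI := Q.characteristic_of_normal hQn
      have hQne : (Q : Subgroup ↥L).map L.subtype ≠ ⊥ := by
        rw [Ne, map_eq_bot_iff_of_injective _ L.subtype_injective]
        exact Q.ne_bot_of_dvd_card ((hqd.trans (by rw [← Subgroup.orderOf_mk u hu])).trans (orderOf_dvd_natCard _))
      by_cases hqp : q = p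
      · subst hqp
        have hle := CfsgLib.Solvable.le_pCore (inferInstance : ((Q : Subgroup ↥L).map L.subtype).Normal) (Q.2.map L.subtype)
        haveI := CfsgLib.Solvable.pCore_characteristic q ↥R
        have := hnoP ((Cfsg.pCore q ↥R).map R.subtype) inferInstance ((CfsgLib.Solvable.pCore_isPGroup q).map _)
        rw [map_eq_bot_iff_of_injective _ R.subtype_injective] at this
        rw [this, le_bot_iff] at hle
        exact hQne hle
      · obtain ⟨n, hn⟩ := (Q.2.map L.subtype).exists_card_eq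
        have hle := CfsgLib.Solvable.le_pPrimeCore (p := p) (inferInstance : ((Q : Subgroup ↥L).map L.subtype).Normal) (by
          rw [hn]; exact ((Nat.coprime_primes hq hpp).2 hqp).pow_left n)
        have : Cfsg.pPrimeCore p ↥R = ⊥ := by
          have h := pPrimeCore_map_le (H := R) (p := p)
          rw [hO, le_bot_iff, map_eq_bot_iff_of_injective _ R.subtype_injective] at h
          exact h
        rw [this, le_bot_iff] at hle
        exact hQne hle
  -- an element of order `p` in `L`
  obtain ⟨g, hg, hgo⟩ : ∃ g ∈ L', orderOf g = p := by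
    by_cases hd : p ∣ Nat.card L'
    · obtain ⟨g, hg⟩ := exists_prime_orderOf_dvd_card' (G := L') p hd
      exact ⟨g, g.2, by rw [Subgroup.orderOf_coe]; exact hg⟩
    · exfalso
      have hle := CfsgLib.Solvable.le_pPrimeCore (p := p) hLn (by
        rw [← CfsgLib.Solvable.card_map_subtype L]; exact (hpp.coprime_iff_not_dvd.2 hd).symm)
      have h := pPrimeCore_map_le (H := R) (p := p)
      rw [hO, le_bot_iff, map_eq_bot_iff_of_injective _ R.subtype_injective] at h
      rw [h, le_bot_iff] at hle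
      exact hLne hle
  -- the product over the orbit of `g`
  let F : ℕ → G := fun j => x ^ j * g * (x ^ j)⁻¹
  have hF : ∀ j, F j ∈ c j := fun j => mem_map_of_mem (MulAut.conj (x ^ j)).toMonoidHom hg
  have hFc : ∀ i j, i < p → j < p → Commute (F i) (F j) := by
    intro i j hi hj
    wlog hij : i ≤ j generalizing i j
    · exact (this j i hj hi (le_of_not_ge hij)).symm
    rcases eq_or_lt_of_le hij with rfl | hlt
    · exact Commute.refl _
    have h := hcomm (j - i) (by omega) (by omega) g hg (F (j - i)) (hF _)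
    have h' := congrArg (fun z => x ^ i * z * (x ^ i)⁻¹) h
    have e : F j = x ^ i * F (j - i) * (x ^ i)⁻¹ := by
      simp only [F]
      conv_lhs => rw [show j = i + (j - i) by omega]
      rw [pow_add]; group
    show F i * F j = F j * F i
    rw [e]
    simp only [F, mul_assoc] at h' ⊢
    simpa using h'
  -- `d = ∏ F j` is fixed by `x`, and is a commutator `y · (x y x⁻¹)⁻¹`
  let T : ℕ → G := fun k => ((List.range k).map fun j => F j).prod
  let Y : ℕ → G := fun k => ((List.range k).map fun j => F j ^ j).prod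
  have hTs : ∀ k, T (k + 1) = T k * F k := fun k => by simp [T, List.range_succ]
  have hYs : ∀ k, Y (k + 1) = Y k * F k ^ k := fun k => by simp [Y, List.range_succ]
  have hFs : ∀ j, x * F j * x⁻¹ = F (j + 1) := fun j => by simp only [F]; rw [pow_succ']; group
  have hcT : ∀ k ≤ p, ∀ j < p, Commute (T k) (F j) := by
    intro k hk j hj
    induction k with
    | zero => exact Commute.one_left _
    | succ k ih => rw [hTs]; exact (ih (by omega)).mul_left (hFc k j (by omega) hj)
  have hcY : ∀ k ≤ p, ∀ j < p, Commute (Y k) (F j) := by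
    intro k hk j hj
    induction k with
    | zero => exact Commute.one_left _
    | succ k ih => rw [hYs]; exact (ih (by omega)).mul_left ((hFc k j (by omega) hj).pow_left _)
  have hgp : g ^ p = 1 := hgo ▸ pow_orderOf_eq_one g
  have hFp : F p = F 0 := by simp [F, hxp]
  have hFpp : ∀ j, F j ^ p = 1 := fun j => by simp only [F]; rw [conj_pow, hgp, mul_one, mul_inv_cancel]
  have hTx : ∀ k, F 0 * (x * T k * x⁻¹) = T (k + 1) := by
    intro k
    induction k with
    | zero => simp [T]
    | succ k ih =>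
      calc F 0 * (x * T (k + 1) * x⁻¹) = F 0 * (x * T k * x⁻¹) * (x * F k * x⁻¹) := by rw [hTs]; group
        _ = _ := by rw [ih, hFs, ← hTs]
  have hYx : ∀ k < p, (x * Y k * x⁻¹) * T (k + 1) = Y (k + 1) * F k ^ (0 : ℕ) * F 0 := by
    intro k hk
    induction k with
    | zero => simp [T, Y]
    | succ k ih =>
      have ih' := ih (by omega)
      rw [pow_zero, mul_one] at ih' ⊢
      have c2 : Commute (T (k + 1)) (F (k + 1) ^ k) := (hcT (k + 1) (by omega) (k + 1) hk).pow_right _
      calc x * Y (k + 1) * x⁻¹ * T (k + 1 + 1)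
          = (x * Y k * x⁻¹) * (x * F k ^ k * x⁻¹) * (T (k + 1) * F (k + 1)) := by rw [hYs, hTs (k + 1)]; group
        _ = (x * Y k * x⁻¹) * (F (k + 1) ^ k * T (k + 1)) * F (k + 1) := by rw [← conj_pow, hFs]; group
        _ = (x * Y k * x⁻¹) * T (k + 1) * (F (k + 1) ^ (k + 1)) := by rw [← c2.eq, pow_succ]; group
        _ = Y (k + 1) * (F 0 * F (k + 1) ^ (k + 1)) := by rw [ih']; group
        _ = Y (k + 1 + 1) * F 0 := by rw [((hFc 0 (k + 1) hpp.pos hk).pow_right _).eq, hYs (k + 1)]; group
  obtain ⟨q, hq⟩ : ∃ q, p = q + 1 := ⟨p - 1, by have := hpp.pos; omega⟩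
  set d := T p with hd
  have hdx : x * d * x⁻¹ = d := by
    have h := hTx p
    rw [hTs, hFp, ← (hcT p le_rfl 0 hpp.pos).symm.eq] at h
    exact mul_left_cancel h
  have hdY : (x * Y p * x⁻¹) * d = Y p := by
    have h := hYx q (by omega)
    rw [← hq, pow_zero, mul_one] at h
    have hlast : x * Y p * x⁻¹ = (x * Y q * x⁻¹) * (F 0)⁻¹ := by
      have e0 : F 0 ^ q = (F 0)⁻¹ := eq_inv_of_mul_eq_one_left (by rw [← pow_succ, ← hq]; exact hFpp 0)
      have eF : F 0 = x * F q * x⁻¹ := by rw [hFs, ← hq, hFp]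
      have eP : F 0 ^ q = x * F q ^ q * x⁻¹ := (congrArg (· ^ q) eF).trans conj_pow
      rw [show Y p = Y q * F q ^ q by rw [hq, hYs], ← e0, eP]
      group
    rw [hlast, mul_assoc, show (F 0)⁻¹ * d = d * (F 0)⁻¹ from ((hcT p le_rfl 0 hpp.pos).inv_right).eq.symm,
      ← mul_assoc, hd, h, mul_inv_cancel_right]
  -- `d = 1`
  have hd1 : d = 1 := by
    set y := Y p
    have hc : Commute x (y * x * y⁻¹) := by
      have e1 : y⁻¹ * (x * y * x⁻¹) = d⁻¹ := by
        conv_lhs => arg 1; rw [← hdY]
        group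
      have e2 : x * y = y * d⁻¹ * x := by rw [← e1]; group
      have e3 : y * x * y⁻¹ = y * x * (x * y)⁻¹ * x := by group
      have e4 : y * x * y⁻¹ = y * d * y⁻¹ * x := by rw [e3, e2]; group
      have hyd : y * d = d * y := by
        have : ∀ k ≤ p, Commute (Y k) d := fun k hk => by
          induction k with
          | zero => exact Commute.one_left _
          | succ k ih => rw [hYs]; exact (ih (by omega)).mul_left (((hcT p le_rfl k (by omega)).symm).pow_left _)
        exact (this p le_rfl).eq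
      rw [e4, hyd, mul_inv_cancel_right]
      exact (show Commute x d from mul_inv_eq_iff_eq_mul.1 hdx).mul_right (Commute.refl x)
    have h := hiso y hc
    have h1 : x * y * x⁻¹ = y := mul_inv_eq_iff_eq_mul.2 (mul_inv_eq_iff_eq_mul.1 h).symm
    have h2 := hdY
    rw [h1] at h2
    exact mul_eq_left.1 h2
  -- but `g` is not central in `L`
  have hgc : ∀ b ∈ L', g * b = b * g := by
    intro b hb
    have hT : ∀ k ≤ p, 1 ≤ k → Commute b (g⁻¹ * T k) := by
      intro k hk h1
      induction k with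
      | zero => omega
      | succ k ih =>
        rcases Nat.eq_zero_or_pos k with rfl | hkpos
        · simp [T, F]
        · rw [hTs, ← mul_assoc]
          exact (ih (by omega) hkpos).mul_right (hcomm k hkpos (by omega) b hb (F k) (hF k))
    have h := hT p le_rfl hpp.one_lt.le
    rw [show T p = d from rfl, hd1, mul_one] at h
    simpa using h.inv_right.eq.symm
  exact hpp.ne_one (by rw [← hgo, hLab g hg hgc, orderOf_one])

end Cfsg.Agent.S2972
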