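import Cfsg.Statements.S2975
import Cfsg.Agent.Lib.Coprime.Sylow
import Cfsg.Agent.Lib.Transfer.Frobenius
import Cfsg.Agent.Lib.Solvable.PCore

set_option autoImplicit false
open Cfsg

namespace Cfsg.Agent.S2975

open Subgroup

/-- Let G be a finite group, p a prime and x ∈ G an isolated element of order p (the only conjugate of x commuting with x is x) which is not central modulo the largest normal subgroup of order prime to p, while x is central modulo the largest normal subgroup of order prime to p in every proper subgroup containing x, and the image of x is so in every quotient of G by a nontrivial normal subgroup (a minimal counterexample to the Z*_p statement). Then for every prime q, every q-subgroup of G that is normalized by x and maximal among the q-subgroups normalized by x is either trivial or a Sylow q-subgroup of G; and C_G(x) permutes the x-invariant Sylow q-subgroups of G transitively by conjugation. -/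
theorem result {G : Type*} [Group G] [Finite G] {p : ℕ} [Fact p.Prime] (x : G) (hx : orderOf x = p) (hiso : Cfsg.IsIsolated x) (hnz : ¬ Cfsg.InZStar p x) (hmin : ∀ (H : Subgroup G) (hxH : x ∈ H), H ≠ ⊤ → Cfsg.InZStar p (⟨x, hxH⟩ : ↥H)) (hquot : ∀ (N : Subgroup G) [N.Normal], N ≠ ⊥ → Cfsg.InZStar p (QuotientGroup.mk x : G ⧸ N)) (q : ℕ) [Fact q.Prime] : (∀ Q : Subgroup G, IsPGroup q ↥Q → x ∈ Subgroup.normalizer (Q : Set G) → (∀ R : Subgroup G, IsPGroup q ↥R → x ∈ Subgroup.normalizer (R : Set G) → Q ≤ R → R = Q) → Q = ⊥ ∨ ∃ S : Sylow q G, (S : Subgroup G) = Q) ∧ (∀ S₁ S₂ : Sylow q G, x ∈ Subgroup.normalizer ((S₁ : Subgroup G) : Set G) → x ∈ Subgroup.normalizer ((S₂ : Subgroup G) : Set G) → ∃ c ∈ Subgroup.centralizer ({x} : Set G), (S₁ : Subgroup G).map (MulAut.conj c).toMonoidHom = (S₂ : Subgroup G)) := by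
  classical
  have hpp : p.Prime := Fact.out
  have hqp : q.Prime := Fact.out
  have hxP : ∀ P : Subgroup G, IsPGroup p P → x ∈ P → ∀ u ∈ P, u * x = x * u := by
    intro P hP hxmem u hu
    by_contra hne
    have hC : P ⊓ centralizer ({x} : Set G) < P := lt_of_le_not_ge inf_le_left fun h =>
      hne (mem_centralizer_singleton_iff.1 (h hu).2)
    obtain ⟨n, hn, hnn, hnC⟩ := CfsgLib.Transfer.exists_mem_normalizer_not_mem hP hC
    apply hnC
    refine ⟨hn, mem_centralizer_singleton_iff.2 (mul_inv_eq_iff_eq_mul.1 (hiso n ?_))⟩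
    exact (mem_centralizer_singleton_iff.1 ((mem_normalizer_iff.1 hnn x).1 ⟨hxmem, mem_centralizer_singleton_iff.2 rfl⟩).2).symm
  refine ⟨?_, fun S₁ S₂ h1 h2 => ?_⟩
  swap
  · obtain ⟨g, rfl⟩ := MulAction.exists_smul_eq G S₁ S₂
    set H := normalizer ((S₁ : Subgroup G) : Set G) with hH
    have hy : g⁻¹ * x * g ∈ H := by
      rw [hH]
      refine Sylow.smul_eq_iff_mem_normalizer.1 ?_
      rw [mul_smul, mul_smul, Sylow.smul_eq_iff_mem_normalizer.2 h2,
        inv_smul_smul]
    have hpg : ∀ y : G, orderOf y = p → IsPGroup p (zpowers y) := fun y hy =>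
      IsPGroup.of_card (n := 1) (by rw [Nat.card_zpowers, hy, pow_one])
    have hyo : orderOf (g⁻¹ * x * g) = p := by
      rw [← hx]
      simpa using MulEquiv.orderOf_eq (MulAut.conj g⁻¹) x
    obtain ⟨P, hP⟩ := ((hpg x hx).comap_of_injective H.subtype H.subtype_injective).exists_le_sylow
    obtain ⟨P', hP'⟩ := ((hpg _ hyo).comap_of_injective H.subtype H.subtype_injective).exists_le_sylow
    obtain ⟨n, hn⟩ := MulAction.exists_smul_eq H P' P
    have hxm : x ∈ (P : Subgroup H).map H.subtype := ⟨⟨x, h1⟩, hP (show x ∈ zpowers x from mem_zpowers x), rfl⟩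
    have hym : (n : G) * (g⁻¹ * x * g) * (n : G)⁻¹ ∈ (P : Subgroup H).map H.subtype := by
      rw [← hn]
      exact ⟨n * ⟨_, hy⟩ * n⁻¹, ⟨⟨_, hy⟩, hP' (show g⁻¹ * x * g ∈ zpowers (g⁻¹ * x * g) from mem_zpowers _), rfl⟩, rfl⟩
    have hc : ((n : G) * g⁻¹) * x * ((n : G) * g⁻¹)⁻¹ = x := by
      refine hiso _ ?_
      have h := hxP _ (P.2.map H.subtype) hxm _ hym
      have e : (n : G) * g⁻¹ * x * ((n : G) * g⁻¹)⁻¹ = (n : G) * (g⁻¹ * x * g) * (n : G)⁻¹ := by group
      rw [e]
      exact h.symm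
    refine ⟨((n : G) * g⁻¹)⁻¹, inv_mem (mem_centralizer_singleton_iff.2 (mul_inv_eq_iff_eq_mul.1 hc)), ?_⟩
    have e : (((n : G) * g⁻¹)⁻¹ • S₁ : Sylow q G) = g • S₁ := by
      rw [mul_inv_rev, inv_inv, mul_smul, Sylow.smul_eq_iff_mem_normalizer.2 (inv_mem n.2)]
    rw [← e]
    rfl
  intro Q hQ hxQ hmax
  refine or_iff_not_imp_left.2 fun hQne => ?_
  by_cases hpq : q = p
  · subst hpq
    have hsup : IsPGroup q (Q ⊔ zpowers x : Subgroup G) :=
      IsPGroup.to_sup_of_normal_left' hQ (IsPGroup.of_card (n := 1) (by rw [Nat.card_zpowers, hx, pow_one]))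
        (zpowers_le.2 hxQ)
    obtain ⟨P, hP⟩ := hsup.exists_le_sylow
    exact ⟨P, hmax P P.2 (le_normalizer (hP (mem_sup_right (mem_zpowers x)))) (le_sup_left.trans hP)⟩
  have hO : Cfsg.pPrimeCore p G = ⊥ := by
    by_contra h
    haveI := CfsgLib.Solvable.pPrimeCore_normal p G
    refine hnz fun g => ?_
    set N := Cfsg.pPrimeCore p G with hN
    haveI := CfsgLib.Solvable.pPrimeCore_normal p (G ⧸ N)
    set L := (Cfsg.pPrimeCore p (G ⧸ N)).comap (QuotientGroup.mk' N) with hL
    have hNL : N ≤ L := fun a ha => mem_comap.2 (by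
      rw [QuotientGroup.mk'_apply, (QuotientGroup.eq_one_iff a).2 ha]; exact one_mem _)
    have hcard := relIndex_mul_relIndex ⊥ N L bot_le hNL
    rw [relIndex_bot_left, relIndex_bot_left] at hcard
    have h2 : N.relIndex L = Nat.card (Cfsg.pPrimeCore p (G ⧸ N)) := by
      conv_lhs => rw [← QuotientGroup.ker_mk' N, relIndex_ker]
      rw [hL, map_comap_eq_self_of_surjective (QuotientGroup.mk'_surjective N)]
    have hc : (Nat.card L).Coprime p := by
      rw [← hcard, h2]
      exact (CfsgLib.Solvable.pPrimeCore_coprime p).mul_left (CfsgLib.Solvable.pPrimeCore_coprime p)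
    exact CfsgLib.Solvable.le_pPrimeCore inferInstance hc (mem_comap.2 (hquot N h (g : G ⧸ N)))
  set H := normalizer (Q : Set G) with hH
  have hHne : H ≠ ⊤ := by
    intro h
    haveI : Q.Normal := normalizer_eq_top_iff.1 h
    obtain ⟨n, hn⟩ := hQ.exists_card_eq
    have hle := CfsgLib.Solvable.le_pPrimeCore (p := p) (inferInstance : Q.Normal) (by
      rw [hn]; exact ((Nat.coprime_primes hqp hpp).2 hpq).pow_left n)
    rw [hO, le_bot_iff] at hle
    exact hQne hle
  have hZ := hmin H hxQ hHne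
  haveI hLn := CfsgLib.Solvable.pPrimeCore_normal p ↥H
  set L₀ := Cfsg.pPrimeCore p ↥H with hL₀
  obtain ⟨R₀⟩ := (inferInstance : Nonempty (Sylow q ↥H))
  set A₀ := (R₀ : Subgroup ↥H) ⊔ L₀ with hA₀
  set A := A₀.map H.subtype with hA
  have hxA₀ : (⟨x, hxQ⟩ : ↥H) ∈ normalizer (A₀ : Set ↥H) := by
    rw [mem_normalizer_iff_map_conj_eq]
    refine eq_of_le_of_card_ge ?_ (card_map_of_injective (MulAut.conj _).injective).ge
    rintro _ ⟨r, hr, rfl⟩
    show (⟨x, hxQ⟩ : ↥H) * r * (⟨x, hxQ⟩ : ↥H)⁻¹ ∈ A₀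
    have h := inv_mem (hZ r)
    have e : (⟨x, hxQ⟩ : ↥H) * r * (⟨x, hxQ⟩ : ↥H)⁻¹ =
        (r * ⟨x, hxQ⟩ * r⁻¹ * (⟨x, hxQ⟩ : ↥H)⁻¹)⁻¹ * r := by group
    rw [e]
    exact mul_mem (mem_sup_right h) hr
  have hxA : zpowers x ≤ normalizer (A : Set G) :=
    zpowers_le.2 (le_normalizer_map H.subtype ⟨_, hxA₀, rfl⟩)
  have hcopA : (Nat.card (zpowers x)).Coprime (Nat.card A) := by
    rw [Nat.card_zpowers, hx, Nat.coprime_comm, hA, card_map_of_injective H.subtype_injective]
    obtain ⟨n, hn⟩ := R₀.2.exists_card_eq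
    refine Nat.Coprime.coprime_dvd_left (CfsgLib.Solvable.card_sup_dvd (R₀ : Subgroup ↥H) L₀) ?_
    exact Nat.Coprime.mul_left (hn.symm ▸ ((Nat.coprime_primes hqp hpp).2 hpq).pow_left n)
      (CfsgLib.Solvable.pPrimeCore_coprime p)
  have hcyc : Group.IsSolvable ↥(zpowers x) := by
    refine Group.isSolvable_of_comm ?_
    rintro ⟨a, i, rfl⟩ ⟨b, j, rfl⟩
    exact Subtype.ext (zpow_mul_comm x i j)
  obtain ⟨P, hP⟩ := CfsgLib.Coprime.exists_invariant_sylow hxA hcopA (Or.inl hcyc) q
  set P' := (P : Subgroup ↥A).map A.subtype with hP'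
  have hP'H : P' ≤ H := (map_subtype_le _).trans (map_subtype_le _)
  have hcardP : Nat.card P' = Nat.card (R₀ : Subgroup ↥H) := by
    rw [hP', card_map_of_injective A.subtype_injective]
    have hRA : (R₀ : Subgroup ↥H).map H.subtype ≤ A := map_mono le_sup_left
    refine le_antisymm ?_ ?_
    · obtain ⟨W, hW⟩ := ((P.2.map A.subtype).comap_of_injective H.subtype H.subtype_injective).exists_le_sylow
      rw [← Nat.card_congr (W.equiv R₀).toEquiv, ← card_map_of_injective A.subtype_injective,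
        ← Nat.card_congr (subgroupOfEquivOfLe (show (P : Subgroup ↥A).map A.subtype ≤ H from hP'H)).toEquiv]
      exact card_le_of_le hW
    · obtain ⟨W, hW⟩ := ((R₀.2.map H.subtype).comap_of_injective A.subtype A.subtype_injective).exists_le_sylow
      rw [← Nat.card_congr (W.equiv P).toEquiv, ← card_map_of_injective H.subtype_injective,
        ← Nat.card_congr (subgroupOfEquivOfLe hRA).toEquiv]
      exact card_le_of_le hW
  obtain ⟨W, hW⟩ := ((P.2.map A.subtype).comap_of_injective H.subtype H.subtype_injective).exists_le_sylow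
  have hWP : (W : Subgroup ↥H) = P'.subgroupOf H := (eq_of_le_of_card_ge hW (by
    show _ ≤ Nat.card ↥(P'.subgroupOf H)
    rw [Nat.card_congr (subgroupOfEquivOfLe hP'H).toEquiv, hcardP, Nat.card_congr (W.equiv R₀).toEquiv])).symm
  have hQW : Q.subgroupOf H ≤ P'.subgroupOf H := by
    haveI : (Q.subgroupOf H).Normal := normal_in_normalizer
    rw [← hWP]
    exact CfsgLib.Solvable.normal_pgroup_le_sylow (N := Q.subgroupOf H) (hQ.comap_of_injective H.subtype H.subtype_injective) W
  have hQP : Q ≤ P' := fun a ha => hQW (show (⟨a, le_normalizer ha⟩ : ↥H) ∈ Q.subgroupOf H from ha)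
  have hQeq : P' = Q := hmax P' (P.2.map _) (hP (mem_zpowers x)) hQP
  obtain ⟨S, hS⟩ := hQ.exists_le_sylow
  refine ⟨S, ?_⟩
  by_contra hne
  obtain ⟨n, hn, hnn, hnQ⟩ := CfsgLib.Transfer.exists_mem_normalizer_not_mem S.2 (lt_of_le_of_ne hS (Ne.symm hne))
  set T := (S : Subgroup G) ⊓ H with hT
  have hTle : Nat.card T ≤ Nat.card Q := by
    obtain ⟨U, hU⟩ := ((S.2.to_le inf_le_left : IsPGroup q T).comap_of_injective H.subtype H.subtype_injective).exists_le_sylow
    have e1 : Nat.card T = Nat.card (T.subgroupOf H) := (Nat.card_congr (subgroupOfEquivOfLe inf_le_right).toEquiv).symm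
    rw [e1, ← hQeq, hcardP, ← Nat.card_congr (U.equiv R₀).toEquiv]
    exact card_le_of_le hU
  exact hnQ ((eq_of_le_of_card_ge (le_inf hS le_normalizer) hTle).ge ⟨hn, hnn⟩)

end Cfsg.Agent.S2975
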