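import Cfsg.Statements.S2988
import Cfsg.Agent.Lib.ClassK.PushPairExc

set_option autoImplicit false
set_option linter.style.haveILetI false
universe u
open scoped Pointwise
open Cfsg
open CfsgLib.ClassK.Push

namespace Cfsg.Agent.S2988

/-- Let p be a prime and S a nontrivial finite p-group. Write J(S) for the subgroup generated by the abelian subgroups of S of largest order (the large abelian subgroups) and J̃(S) = C_S(Z(J(S))). Unless S satisfies all of the following conditions — S is non-abelian; J(S) = S; Z(S) and Φ(S) are elementary abelian; Φ(S) ≤ Z(S) if p = 2, Φ(S) ≤ Z₂(S) if p = 3, and Φ(S) ≤ Z(S) with S of exponent p if p > 3; some large abelian subgroup is elementary abelian; and for all large abelian subgroups A, B and all subgroups Q of S one has |A|² = |S|·|Z(S)| ≥ |Q|·|Z(Q)| and ⟨A, B⟩ = AB = C_S(A ∩ B) — there exist nontrivial characteristic subgroups S₁ ≤ Z(S) and S₂ ≤ J̃(S) of S, S₂ characteristic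 in J̃(S), such that whenever S is embedded as a Sylow p-subgroup of a finite group G in the basic pushing-up situation, the image of S₁ or of S₂ is normal in G. -/
theorem result {p : ℕ} [Fact p.Prime] (S : Type u) [Group S] [Finite S] [Nontrivial S] (hS : IsPGroup p S) (hexc : ¬ (¬ IsMulCommutative S ∧ Cfsg.thompsonSubgroupA S = ⊤ ∧ Cfsg.IsElementaryAbelian p (Subgroup.center S) ∧ Cfsg.IsElementaryAbelian p (frattini S) ∧ (p = 2 → frattini S ≤ Subgroup.center S) ∧ (p = 3 → frattini S ≤ Subgroup.upperCentralSeries S 2) ∧ (3 < p → frattini S ≤ Subgroup.center S ∧ Monoid.exponent S = p) ∧ (∃ A ∈ Cfsg.maxAbelianSubgroups S, Cfsg.IsElementaryAbelian p A) ∧ (∀ A ∈ Cfsg.maxAbelianSubgroups S, ∀ B ∈ Cfsg.maxAbelianSubgroups S, ∀ Q : Subgroup S, Nat.card ↥A ^ 2 = Nat.card S * Nat.card ↥(Subgroup.center S) ∧ Nat.card ↥Q * Nat.card ↥(Subgroup.center ↥Q) ≤ Nat.card S * Nat.card ↥(Subgroup.center S) ∧ ((A ⊔ B : Subgroup S) : Set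 S) = (A : Set S) * (B : Set S) ∧ A ⊔ B = Subgroup.centralizer ((A ⊓ B : Subgroup S) : Set S)))) : ∃ S₁ S₂ : Subgroup S, S₁ ≠ ⊥ ∧ S₂ ≠ ⊥ ∧ S₁.Characteristic ∧ S₂.Characteristic ∧ S₁ ≤ Subgroup.center S ∧ S₂ ≤ Subgroup.centralizer ((Cfsg.thompsonSubgroupA S ⊓ Subgroup.centralizer (Cfsg.thompsonSubgroupA S : Set S) : Subgroup S) : Set S) ∧ (S₂.subgroupOf (Subgroup.centralizer ((Cfsg.thompsonSubgroupA S ⊓ Subgroup.centralizer (Cfsg.thompsonSubgroupA S : Set S) : Subgroup S) : Set S))).Characteristic ∧ ∀ (G : Type u) [Group G] [Finite G] (P : Subgroup G) (e : S ≃* ↥P), Cfsg.IsPushingUpSituation p P → ((S₁).map ((P.subtype).comp (e : S ≃* ↥P).toMonoidHom)).Normal ∨ ((S₂).map ((P.subtype).comp (e : S ≃* ↥P).toMonoidHom)).Normal := by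
  classical
  suffices key : (∃ S₁ S₂ : Subgroup S, GoodPair p S₁ S₂) ∨ Cfsg.frattiniOfMinimalCLJoin p S ≠ ⊥ ∧
      Subgroup.centralizer (zJ S : Set S) = ⊤ by
    rcases key with ⟨S₁, S₂, h⟩ | ⟨hF, hJt⟩
    · obtain ⟨h1, h2, h3, h4, h5, h6, h7, -⟩ := id h
      exact ⟨S₁, S₂, h1, h2, h3, h4, h5, h6, h7, h.pairNormal⟩
    · obtain ⟨h1, h4, h8⟩ := pair_of_frattini hS hJt hF
      haveI := h4
      exact ⟨_, _, h1, hF, inferInstance, h4, le_rfl, hJt.ge.trans' le_top,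
        subgroupOf_characteristic_of_top hJt, h8⟩
  by_cases hA : ⁅zJ S, (⊤ : Subgroup S)⁆ ≠ ⊥
  · exact Or.inl ⟨_, _, goodPair_of_commutator hS hA⟩
  rw [not_not] at hA
  have hJt : Subgroup.centralizer (zJ S : Set S) = ⊤ :=
    top_le_iff.1 (Subgroup.le_centralizer_iff.1 (Subgroup.commutator_eq_bot_iff_le_centralizer.1 hA))
  by_cases hZ : ∀ z ∈ Subgroup.center S, z ^ p = 1
  swap
  · exact Or.inl ⟨_, _, goodPair_of_center hS hZ⟩
  by_cases hab : IsMulCommutative S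
  · exact Or.inl ⟨_, _, goodPair_of_abelian hab⟩
  by_cases hh : szero p S ≠ ⊥ ∨ Cfsg.thompsonSubgroupA S ≠ ⊤
  · obtain ⟨S₁, S₂, h, -⟩ := exists_goodPair hS hJt hZ hh
    exact Or.inl ⟨_, _, h⟩
  simp only [ne_eq, not_or, not_not] at hh
  by_cases hF : Cfsg.frattiniOfMinimalCLJoin p S = ⊥
  · obtain ⟨Q, hQ, hQe⟩ := exists_elementary_of_frattini_join hS hF
    obtain ⟨e1, e2, e3, e4, e5, e6⟩ := exceptional hS hh.1 hh.2 hZ hQ hQe.1
    exact absurd ⟨hab, hh.2, e1, e2, e3, e4, e5,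
      ⟨Q, (CfsgLib.Amalgam.minimalCentrallyLarge_iff_maxAbelian hQ hQe.1 Q).1 hQ, hQe⟩, e6⟩ hexc
  · exact Or.inr ⟨hF, hJt⟩

end Cfsg.Agent.S2988
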