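import Cfsg.Statements.S2991
import Cfsg.Agent.Lib.ClassK.PushPairExc

set_option autoImplicit false
set_option linter.style.haveILetI false
universe u
open scoped Pointwise
open Cfsg
open CfsgLib.ClassK.Push

namespace Cfsg.Agent.S2991

/-- Let p be a prime and S a nontrivial finite p-group; write J(S) for the subgroup generated by the abelian subgroups of S of largest order and J̃(S) = C_S(Z(J(S))), and call a subgroup R of a p-group X centrally large in X if |R|·|Z(R)| is as large as possible among subgroups of X. Unless S satisfies all of: S is non-abelian; J(S) = S; Z(S) and Φ(S) are elementary abelian; Φ(S) ≤ Z(S) if p = 2, Φ(S) ≤ Z₂(S) if p = 3, Φ(S) ≤ Z(S) with S of exponent p if p > 3; and for all abelian subgroups A, B of largest order and all subgroups Q of S, |A|² = |S|·|Z(S)| ≥ |Q|·|Z(Q)| and ⟨A, B⟩ = AB = C_S(A ∩ B) — there exist nontrivial characteristic subgroups S₁ ≤ Z(S) and S₂ ≤ J̃(S) of S, S₂ characteristic in J̃(S) and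 containing a centrally large subgroup of J̃(S) (the largest value of |R|·|Z(R)| over subgroups R of S₂ equals that over subgroups of J̃(S)), such that whenever S is embedded as a Sylow p-subgroup of a finite group G in the basic pushing-up situation, the image of S₁ or of S₂ is normal in G. -/
theorem result {p : ℕ} [Fact p.Prime] (S : Type u) [Group S] [Finite S] [Nontrivial S] (hS : IsPGroup p S) (hexc : ¬ (¬ IsMulCommutative S ∧ Cfsg.thompsonSubgroupA S = ⊤ ∧ Cfsg.IsElementaryAbelian p (Subgroup.center S) ∧ Cfsg.IsElementaryAbelian p (frattini S) ∧ (p = 2 → frattini S ≤ Subgroup.center S) ∧ (p = 3 → frattini S ≤ Subgroup.upperCentralSeries S 2) ∧ (3 < p → frattini S ≤ Subgroup.center S ∧ Monoid.exponent S = p) ∧ (∀ A ∈ Cfsg.maxAbelianSubgroups S, ∀ B ∈ Cfsg.maxAbelianSubgroups S, ∀ Q : Subgroup S, Nat.card ↥A ^ 2 = Nat.card S * Nat.card ↥(Subgroup.center S) ∧ Nat.card ↥Q * Nat.card ↥(Subgroup.center ↥Q) ≤ Nat.card S * Nat.card ↥(Subgroup.center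 S) ∧ ((A ⊔ B : Subgroup S) : Set S) = (A : Set S) * (B : Set S) ∧ A ⊔ B = Subgroup.centralizer ((A ⊓ B : Subgroup S) : Set S)))) : ∃ S₁ S₂ : Subgroup S, S₁ ≠ ⊥ ∧ S₂ ≠ ⊥ ∧ S₁.Characteristic ∧ S₂.Characteristic ∧ S₁ ≤ Subgroup.center S ∧ S₂ ≤ Subgroup.centralizer ((Cfsg.thompsonSubgroupA S ⊓ Subgroup.centralizer (Cfsg.thompsonSubgroupA S : Set S) : Subgroup S) : Set S) ∧ (S₂.subgroupOf (Subgroup.centralizer ((Cfsg.thompsonSubgroupA S ⊓ Subgroup.centralizer (Cfsg.thompsonSubgroupA S : Set S) : Subgroup S) : Set S))).Characteristic ∧ Cfsg.maxCentralProduct ↥S₂ = Cfsg.maxCentralProduct ↥(Subgroup.centralizer ((Cfsg.thompsonSubgroupA S ⊓ Subgroup.centralizer (Cfsg.thompsonSubgroupA S : Set S) : Subgroup S) : Set S)) ∧ ∀ (G : Type u) [Group G] [Finite G] (P : Subgroup G) (e : S ≃* ↥P), Cfsg.IsPushingUpSituation p P → ((S₁).map ((P.subtype).comp (e : S ≃* ↥P).toMonoidHom)).Normal ∨ ((S₂).map ((P.subtype).comp (e : S ≃* ↥P).toMonoidHom)).Normal :=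 by
  classical
  by_cases hA : ⁅zJ S, (⊤ : Subgroup S)⁆ ≠ ⊥
  · have h := goodPair_of_commutator hS hA
    obtain ⟨h1, h2, h3, h4, h5, h6, h7, -⟩ := id h
    exact ⟨_, _, h1, h2, h3, h4, h5, h6, h7, rfl, h.pairNormal⟩
  rw [not_not] at hA
  have hJt : Subgroup.centralizer (zJ S : Set S) = ⊤ :=
    top_le_iff.1 (Subgroup.le_centralizer_iff.1 (Subgroup.commutator_eq_bot_iff_le_centralizer.1 hA))
  by_cases hZ : ∀ z ∈ Subgroup.center S, z ^ p = 1
  swap
  · have h := goodPair_of_center hS hZ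
    obtain ⟨h1, h2, h3, h4, h5, h6, h7, -⟩ := id h
    exact ⟨_, _, h1, h2, h3, h4, h5, h6, h7, rfl, h.pairNormal⟩
  by_cases hab : IsMulCommutative S
  · have h := goodPair_of_abelian (p := p) hab
    obtain ⟨h1, h2, h3, h4, h5, h6, h7, -⟩ := id h
    exact ⟨_, _, h1, h2, h3, h4, h5, h6, h7,
      (maxCentralProduct_top rfl).trans (maxCentralProduct_top hJt).symm, h.pairNormal⟩
  obtain ⟨Q₀, hQ₀⟩ := CfsgLib.Amalgam.exists_isCentrallyLarge (G := S)
  obtain ⟨Q, -, hQ⟩ := CfsgLib.Amalgam.exists_isMinimalCentrallyLarge_le hQ₀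
  by_cases hD : ⁅Q, Q⁆ = ⊥
  · have hQa : IsMulCommutative Q := Subgroup.le_centralizer_iff_isMulCommutative.1
      (Subgroup.commutator_eq_bot_iff_le_centralizer.1 hD)
    by_cases hh : szero p S ≠ ⊥ ∨ Cfsg.thompsonSubgroupA S ≠ ⊤
    · obtain ⟨S₁, S₂, h, A, hA', hAS⟩ := exists_goodPair hS hJt hZ hh
      obtain ⟨h1, h2, h3, h4, h5, h6, h7, -⟩ := id h
      exact ⟨_, _, h1, h2, h3, h4, h5, h6, h7, (maxCentralProduct_eq_of_le
        ((CfsgLib.Amalgam.minimalCentrallyLarge_iff_maxAbelian hQ hQa A).2 hA').1 hAS).trans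
        (maxCentralProduct_top hJt).symm, h.pairNormal⟩
    · simp only [ne_eq, not_or, not_not] at hh
      obtain ⟨e1, e2, e3, e4, e5, e6⟩ := exceptional hS hh.1 hh.2 hZ hQ hQa
      exact absurd ⟨hab, hh.2, e1, e2, e3, e4, e5, e6⟩ hexc
  · obtain ⟨h1, h2, h3, h4, h8⟩ := pair_of_mcl hS hJt hQ hD
    haveI := h4
    exact ⟨_, _, h1, h2, h3, h4, inf_le_left, hJt.ge.trans' le_top,
      subgroupOf_characteristic_of_top hJt,
      (maxCentralProduct_eq_of_le hQ.1 (le_sSup hQ)).trans (maxCentralProduct_top hJt).symm, h8⟩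

end Cfsg.Agent.S2991
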