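import Cfsg.Statements.S2998
import Cfsg.Agent.Lib.Amalgam.PEmbed
import Cfsg.Agent.Lib.Solvable.Products
import Cfsg.Agent.Lib.PLocal.Sylow

set_option autoImplicit false
open Cfsg

namespace Cfsg.Agent.S2998

/-- Let G be a finite group, p a prime, P a Sylow p-subgroup of G and x ∈ P an element such that N_G(R) ≤ C_G(x) for every nontrivial subgroup R of P. Then P ≤ C_G(x); every G-conjugate of x lying in P equals x (so g ∈ C_G(x) whenever g x g⁻¹ ∈ P); and for every normal subgroup N of G, the image of x in G ⧸ N has the same property with respect to the image of P: the normalizer of every nontrivial subgroup of the image of P centralizes the image of x. -/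
theorem result {G : Type*} [Group G] [Finite G] {p : ℕ} [Fact p.Prime] (P : Sylow p G) (x : G) (hxP : x ∈ (P : Subgroup G)) (hlc : ∀ R : Subgroup G, R ≤ (P : Subgroup G) → R ≠ ⊥ → Subgroup.normalizer (R : Set G) ≤ Subgroup.centralizer ({x} : Set G)) : (P : Subgroup G) ≤ Subgroup.centralizer ({x} : Set G) ∧ (∀ g : G, g * x * g⁻¹ ∈ (P : Subgroup G) → g * x * g⁻¹ = x) ∧ ∀ (N : Subgroup G) [N.Normal], ∀ R : Subgroup (G ⧸ N), R ≤ (P : Subgroup G).map (QuotientGroup.mk' N) → R ≠ ⊥ → Subgroup.normalizer (R : Set (G ⧸ N)) ≤ Subgroup.centralizer ({(QuotientGroup.mk x : G ⧸ N)} : Set (G ⧸ N)) := by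
  by_cases hx1 : x = 1
  · subst hx1
    have htop : ∀ {K : Type _} [Group K] (H : Subgroup K), H ≤ Subgroup.centralizer ({1} : Set K) :=
      fun H k _ => Subgroup.mem_centralizer_singleton_iff.2 (by rw [mul_one, one_mul])
    refine ⟨htop _, fun g _ => by group, fun N _ R _ _ => ?_⟩
    intro k _
    rw [Subgroup.mem_centralizer_singleton_iff, QuotientGroup.mk_one, mul_one, one_mul]
  have hz : Subgroup.zpowers x ≠ ⊥ := by simpa [Subgroup.zpowers_eq_bot] using hx1
  have hP1 : (P : Subgroup G) ≠ ⊥ := fun hb => hx1 (Subgroup.mem_bot.1 (hb ▸ hxP))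
  have hPC : (P : Subgroup G) ≤ Subgroup.centralizer ({x} : Set G) :=
    Subgroup.le_normalizer.trans (hlc _ le_rfl hP1)
  refine ⟨hPC, fun g hg => ?_, ?_⟩
  · have hmem := CfsgLib.Fusion.mem_of_containsLocals (T := P) (fun U hU hne => hlc U hU hne)
      (Subgroup.zpowers_le.2 hxP) hz (a := g⁻¹) (fun u hu => by
        obtain ⟨i, rfl⟩ := hu
        have := (P : Subgroup G).zpow_mem hg i
        rw [conj_zpow] at this
        simpa using this)
    have := Subgroup.mem_centralizer_singleton_iff.1 (inv_mem hmem)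
    rw [inv_inv] at this
    rw [this, mul_inv_cancel_right]
  · intro N _ R hR hR1 q hq
    obtain ⟨n, rfl⟩ := QuotientGroup.mk'_surjective N q
    rw [Subgroup.mem_centralizer_singleton_iff]
    set f := QuotientGroup.mk' N
    set H := R.comap f with hH
    set D := (P : Subgroup G) ⊓ H with hD
    have hNH : N ≤ H := fun x hx => by
      show f x ∈ R
      rw [QuotientGroup.mk'_apply, (QuotientGroup.eq_one_iff x).2 hx]; exact one_mem R
    have hDN : H = D ⊔ N := by
      refine le_antisymm (fun h hh => ?_) (sup_le inf_le_right hNH)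
      obtain ⟨y, hy, hyh⟩ := hR hh
      have hN' : y⁻¹ * h ∈ N := QuotientGroup.eq.1 hyh
      have hyH : y ∈ H := by show f y ∈ R; rw [hyh]; exact hh
      have := Subgroup.mul_mem _ (Subgroup.mem_sup_left (show y ∈ D from Subgroup.mem_inf.2 ⟨hy, hyH⟩)) (Subgroup.mem_sup_right hN')
      rwa [mul_inv_cancel_left] at this
    have hD1 : D ≠ ⊥ := by
      intro hb
      apply hR1
      rw [← Subgroup.map_comap_eq_self_of_surjective (QuotientGroup.mk'_surjective N) R]
      show H.map f = ⊥
      rw [hDN, hb, bot_sup_eq, QuotientGroup.map_mk'_self]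
    obtain ⟨S, hS⟩ := ((P.isPGroup'.to_le inf_le_left).of_equiv
      (Subgroup.subgroupOfEquivOfLe (inf_le_right : D ≤ H)).symm).exists_le_sylow
    set S' := (S : Subgroup H).map H.subtype with hS'
    have hDS : D ≤ S' := fun d hd => ⟨⟨d, hd.2⟩, hS hd, rfl⟩
    have hS'D : S' = D := by
      refine (Subgroup.eq_of_le_of_card_ge hDS ?_).symm
      have h1 := CfsgLib.Solvable.card_mul_set_mul_card_inf D N
      rw [← Subgroup.mul_normal, ← hDN] at h1
      have hDi : D ⊓ N = (P : Subgroup G) ⊓ N := by rw [hD, inf_assoc, inf_eq_right.2 hNH]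
      rw [hDi] at h1
      simp only [SetLike.coe_sort_coe] at h1
      obtain ⟨a, ha⟩ := (P.isPGroup'.to_le (inf_le_left : D ≤ _)).exists_card_eq
      obtain ⟨b, hb⟩ := (S.isPGroup'.map H.subtype).exists_card_eq
      have hdvd : Nat.card S' ∣ Nat.card H := Subgroup.card_dvd_of_le (Subgroup.map_subtype_le _)
      have h2 := CfsgLib.PLocal.sylow_inf_normal_not_dvd P N
      have h3 : Nat.card ((P : Subgroup G) ⊓ N : Subgroup G) * ((P : Subgroup G) ⊓ N).relIndex N = Nat.card N := by
        rw [← Subgroup.relIndex_bot_left, Subgroup.relIndex_mul_relIndex ⊥ _ N bot_le inf_le_right,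
          Subgroup.relIndex_bot_left]
      have h4 : Nat.card H = Nat.card D * ((P : Subgroup G) ⊓ N).relIndex N :=
        Nat.eq_of_mul_eq_mul_right (Nat.card_pos (α := ↥((P : Subgroup G) ⊓ N)))
          (by rw [h1, ← h3]; ring)
      rw [ha, hb] at *
      rw [h4] at hdvd
      exact Nat.le_of_dvd (pow_pos (Fact.out : p.Prime).pos a)
        ((Nat.Coprime.pow_left b (((Fact.out : p.Prime).coprime_iff_not_dvd).2 h2)).dvd_of_dvd_mul_right hdvd)
    -- `n` normalizes `H`
    have hnH : ∀ h ∈ H, n * h * n⁻¹ ∈ H := fun h hh => by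
      show f (n * h * n⁻¹) ∈ R
      rw [map_mul, map_mul, map_inv]
      exact (Subgroup.mem_normalizer_iff.1 hq _).1 hh
    set W := S'.map (MulAut.conj n).toMonoidHom
    have hWH : W ≤ H := by rintro _ ⟨y, hy, rfl⟩; exact hnH y (Subgroup.map_subtype_le _ hy)
    obtain ⟨T, hT⟩ := (((S.isPGroup'.map H.subtype).map (MulAut.conj n).toMonoidHom).of_equiv
      (Subgroup.subgroupOfEquivOfLe hWH).symm).exists_le_sylow
    obtain ⟨r, hr⟩ := MulAction.exists_smul_eq H T S
    have hm : ∀ d ∈ D, ((r : G) * n) * d * ((r : G) * n)⁻¹ ∈ D := by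
      intro d hd
      have hy : n * d * n⁻¹ ∈ W := ⟨d, hDS hd, rfl⟩
      have h1 : (r * ⟨_, hWH hy⟩ * r⁻¹ : H) ∈ ((r • T : Sylow p H) : Subgroup H) := by
        rw [CfsgLib.Amalgam.mem_conj_smul_iff, show r⁻¹ * (r * (⟨_, hWH hy⟩ : H) * r⁻¹) * r = ⟨_, hWH hy⟩ by group]
        exact hT hy
      rw [hr] at h1
      rw [← hS'D]
      exact ⟨_, h1, by simp [mul_assoc]⟩
    have hrn := hlc D inf_le_left hD1 (Subgroup.mem_normalizer_fintype hm)
    have hrC : (r : G) ∈ Subgroup.centralizer ({x} : Set G) ⊔ N := by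
      have : (r : G) ∈ D ⊔ N := hDN ▸ r.2
      exact (sup_le_sup_right (inf_le_left.trans hPC) N) this
    have hn' : n ∈ Subgroup.centralizer ({x} : Set G) ⊔ N := by
      have := Subgroup.mul_mem _ (inv_mem hrC) (Subgroup.mem_sup_left hrn)
      rwa [inv_mul_cancel_left] at this
    obtain ⟨c, hc, k, hk, rfl⟩ := Subgroup.mem_sup_of_normal_right.1 hn'
    have hk1 : f k = 1 := (QuotientGroup.eq_one_iff k).2 hk
    show f (c * k) * f x = f x * f (c * k)
    rw [map_mul, hk1, mul_one, ← map_mul, ← map_mul, Subgroup.mem_centralizer_singleton_iff.1 hc]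

end Cfsg.Agent.S2998
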