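import Cfsg.Statements.S2999
import Cfsg.Agent.Lib.Amalgam.OffenderSL2Field
import Cfsg.Agent.Lib.Amalgam.PMinimal
import Cfsg.Agent.Lib.Amalgam.PEmbed

set_option autoImplicit false
open Cfsg

namespace Cfsg.Agent.S2999

/-- Let p be a prime and let P and V be subgroups of a finite group with V elementary abelian, P normalizing V and acting faithfully on it (P ∩ C(V) = 1). Suppose P is p-minimal (a Sylow p-subgroup T of P is not normal and lies in a unique maximal subgroup M of P) and A ≤ T is an elementary abelian subgroup such that: |V/C_V(A)| ≤ |A| while |A₀|·|C_V(A₀)| < |A|·|C_V(A)| for every nontrivial proper subgroup A₀ of A; [C_V(T), P] ≠ 1; and P = ⟨A, xAx⁻¹⟩ for every x ∈ P outside M. Then, with q = |A|, there is a field F with q elements such that P ≅ SL₂(F), C_V(A) = [V, A]·C_V(P), and P acts on V/C_V(P) as SL₂(F) on its natural two-dimensional module. -/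
theorem result {G : Type*} [Group G] [Finite G] {p : ℕ} [Fact p.Prime] (V P : Subgroup G) (hV : Cfsg.IsElementaryAbelian p V) (hPV : P ≤ Subgroup.normalizer (V : Set G)) (hfaith : P ⊓ Subgroup.centralizer (V : Set G) = ⊥) (hmin : Cfsg.IsPMinimal p ↥P) (T : Sylow p ↥P) (M : Subgroup ↥P) (hM : IsCoatom M) (hTM : (T : Subgroup ↥P) ≤ M) (A : Subgroup G) (hAT : A ≤ ((T : Subgroup ↥P).map P.subtype)) (hAel : Cfsg.IsElementaryAbelian p A) (hi : Nat.card ↥V ≤ Nat.card ↥A * Nat.card ↥(V ⊓ Subgroup.centralizer ((A : Subgroup G) : Set G)) ∧ ∀ A₀ : Subgroup G, A₀ ≤ A → A₀ ≠ ⊥ → A₀ ≠ A → Nat.card ↥A₀ * Nat.card ↥(V ⊓ Subgroup.centralizer ((A₀ : Subgroup G) : Set G)) < Nat.card ↥A * Nat.card ↥(V ⊓ Subgroup.centralizer ((A : Subgroup G) : Set G))) (hii : ⁅(V ⊓ Subgroup.centralizer ((((T : Subgroup ↥P).map P.subtype) : Subgroup G) : Set G)), P⁆ ≠ ⊥) (hiii : ∀ x : ↥P, x ∉ M → A ⊔ A.map (MulAut.conj (x : G)).toMonoidHom = P) : ∃ (F : Type) (_ : Field F)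 (_ : Fintype F), Fintype.card F = Nat.card ↥A ∧ Nonempty (↥P ≃* Matrix.SpecialLinearGroup (Fin 2) F) ∧ (V ⊓ Subgroup.centralizer ((A : Subgroup G) : Set G)) = ⁅V, A⁆ ⊔ (V ⊓ Subgroup.centralizer ((P : Subgroup G) : Set G)) ∧ Cfsg.ActsAsSL2OnSection F ⊤ P V (V ⊓ Subgroup.centralizer ((P : Subgroup G) : Set G)) := by
  have hTP : (T : Subgroup ↥P).map P.subtype ≤ P := Subgroup.map_subtype_le _
  set D := (Cfsg.pCore p ↥P).map P.subtype with hD
  have hoff : CfsgLib.Amalgam.OffGen p V P A (M.map P.subtype) ((T : Subgroup ↥P).map P.subtype) D := by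
    haveI := CfsgLib.Solvable.pCore_normal p ↥P
    refine ⟨hV, hAel, hPV, hfaith, hAT, Subgroup.map_mono hTM, Subgroup.map_subtype_le _,
      Subgroup.map_mono (CfsgLib.Solvable.pCore_le_sylow T), ?_, ?_, ?_, ?_, hi.1, hi.2, ?_, ?_, ?_⟩
    · intro g hg
      refine Subgroup.mem_normalizer_fintype fun k hk => ?_
      obtain ⟨k, hk', rfl⟩ := hk
      exact ⟨⟨g, hg⟩ * k * ⟨g, hg⟩⁻¹, (inferInstance : (Cfsg.pCore p ↥P).Normal).conj_mem k hk' _, rfl⟩
    · intro K hKP hPK hK k hk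
      have hn : (K.subgroupOf P).Normal :=
        (Subgroup.normal_subgroupOf_iff_le_normalizer hKP).2 hPK
      have hp : IsPGroup p ↥(K.subgroupOf P) := hK.comap_of_injective _ P.subtype_injective
      exact ⟨⟨k, hKP hk⟩, CfsgLib.Solvable.le_pCore hn hp hk, rfl⟩
    · rintro _ ⟨t, ht, rfl⟩ hall
      have htc : t ∈ M.normalCore := by
        intro b
        obtain ⟨m, hm, e⟩ := hall ((b⁻¹ : ↥P) : G) (b⁻¹ : ↥P).2
        have : b * t * b⁻¹ = m := Subtype.ext (by
          have := e.symm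
          simpa [mul_assoc] using this)
        rw [this]
        exact hm
      exact ⟨t, CfsgLib.Amalgam.pmin_normal_inf_le_pCore hmin hM hTM (Subgroup.normalCore_le M)
        ⟨htc, ht⟩, rfl⟩
    · rintro _ ⟨a, ha, rfl⟩ hap
      have hp : IsPGroup p ↥(Subgroup.zpowers a) := by
        obtain ⟨k, -, hk⟩ := (Nat.dvd_prime_pow (Fact.out : p.Prime)).1
          (orderOf_dvd_of_pow_eq_one (x := a) (n := p ^ 1) (by
            rw [pow_one]; exact Subtype.ext (by simpa using hap)))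
        exact IsPGroup.of_card (n := k) (by rw [Nat.card_zpowers, hk])
      obtain ⟨m, hm, hmc⟩ := CfsgLib.Amalgam.exists_conj_le T hTM (Subgroup.zpowers_le.2 ha) hp
      exact ⟨m, ⟨m, hm, rfl⟩, ⟨_, hmc a (Subgroup.mem_zpowers a), rfl⟩⟩
    · by_contra hne
      push Not at hne
      refine hii (Subgroup.commutator_eq_bot_iff_le_centralizer.2 fun v hv => hne v hv.1 hv.2)
    · intro g hg hgM
      exact hiii ⟨g, hg⟩ fun hm => hgM ⟨_, hm, rfl⟩
    · obtain ⟨x, -, hx⟩ := SetLike.exists_of_lt (lt_top_iff_ne_top.2 hM.1)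
      exact ⟨x, x.2, fun ⟨m, hm, e⟩ => hx (by rwa [← Subtype.ext e])⟩
  exact hoff.main

end Cfsg.Agent.S2999
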