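import Cfsg.Statements.S3003
import Cfsg.Agent.Lib.Comp.Local
import Cfsg.Agent.Lib.Coprime.Generation
import Cfsg.Agent.Lib.PLocal.Sylow

set_option autoImplicit false
open Cfsg
open scoped commutatorElement

namespace Cfsg.Agent.S3003

/-- Let G be a finite group, p a prime and Q a large p-subgroup of G: C_G(Q) ≤ Q and N_G(U) ≤ N_G(Q) for every nontrivial subgroup U of C_G(Q). Let Q ≤ G₁ ≤ G, let R be a subgroup of order prime to p normalized by G₁, and let U ≤ G₁ be a p-subgroup. If U contains a nontrivial element which is G₁-conjugate to an element of Z(Q), then C_R(U) = 1. In particular, if U is elementary abelian of order at least p² and every maximal subgroup of U contains a nontrivial element G₁-conjugate into Z(Q), then R = 1. -/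
theorem result {G : Type*} [Group G] [Finite G] {p : ℕ} [Fact p.Prime] (Q : Subgroup G) (hQp : IsPGroup p ↥Q) (hlarge : Cfsg.IsLarge Q) (G₁ : Subgroup G) (hQG : Q ≤ G₁) (R : Subgroup G) (hR : (Nat.card ↥R).Coprime p) (hGR : G₁ ≤ Subgroup.normalizer (R : Set G)) (U : Subgroup G) (hUG : U ≤ G₁) (hUp : IsPGroup p ↥U) : ((∃ x ∈ U, x ≠ 1 ∧ ∃ g ∈ G₁, g * x * g⁻¹ ∈ Q ⊓ Subgroup.centralizer (Q : Set G)) → R ⊓ Subgroup.centralizer (U : Set G) = ⊥) ∧ (Cfsg.IsElementaryAbelian p U → p ^ 2 ≤ Nat.card ↥U → (∀ U₀ : Subgroup G, U₀ ≤ U → IsCoatom (U₀.subgroupOf U) → ∃ x ∈ U₀, x ≠ 1 ∧ ∃ g ∈ G₁, g * x * g⁻¹ ∈ Q ⊓ Subgroup.centralizer (Q : Set G)) → R = ⊥) := by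
  have part1 : ∀ U : Subgroup G, (∃ x ∈ U, x ≠ 1 ∧ ∃ g ∈ G₁, g * x * g⁻¹ ∈ Q ⊓ Subgroup.centralizer (Q : Set G)) →
      R ⊓ Subgroup.centralizer (U : Set G) = ⊥ := by
    rintro U ⟨x, hxU, hx1, g, hg, hy⟩
    rw [eq_bot_iff]
    rintro r ⟨hr, hrc⟩
    set y := g * x * g⁻¹
    set r' := g * r * g⁻¹
    have hr' : r' ∈ R := (Subgroup.mem_normalizer_iff.1 (hGR hg) r).1 hr
    have hyr : r' ∈ Subgroup.normalizer ((Subgroup.zpowers y : Subgroup G) : Set G) := by
      have h1 : r' * y * r'⁻¹ = y := by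
        calc r' * y * r'⁻¹ = g * (r * x * r⁻¹) * g⁻¹ := by simp only [r', y]; group
          _ = y := by rw [← hrc x hxU, mul_inv_cancel_right]
      apply CfsgLib.PLocal.mem_normalizer_map_conj.2
      rw [MonoidHom.map_zpowers]
      show Subgroup.zpowers (r' * y * r'⁻¹) = _
      rw [h1]
    have hrQ : r' ∈ Subgroup.normalizer (Q : Set G) := hlarge.2 _ (Subgroup.zpowers_le.2 hy.2)
      (by
        rw [Ne, Subgroup.zpowers_eq_bot]
        intro he
        exact hx1 (conj_eq_one_iff.1 he)) hyr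
    have hQR : Q ⊓ R = ⊥ := CfsgLib.Comp.inf_eq_bot_of_isPGroup hQp hR
    have hrCQ : r' ∈ Subgroup.centralizer (Q : Set G) := by
      intro q hq
      have hm : ⁅q, r'⁆ ∈ Q ⊓ R := by
        refine Subgroup.mem_inf.2 ⟨?_, ?_⟩
        · rw [commutatorElement_def, show q * r' * q⁻¹ * r'⁻¹ = q * (r' * q⁻¹ * r'⁻¹) by group]
          exact mul_mem hq ((Subgroup.mem_normalizer_iff.1 hrQ _).1 (inv_mem hq))
        · rw [commutatorElement_def]
          exact mul_mem ((Subgroup.mem_normalizer_iff.1 (hGR (hQG hq)) _).1 hr') (inv_mem hr')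
      rw [hQR] at hm
      exact commutatorElement_eq_one_iff_mul_comm.1 (Subgroup.mem_bot.1 hm)
    have : r' ∈ Q ⊓ R := Subgroup.mem_inf.2 ⟨hlarge.1 hrCQ, hr'⟩
    rw [hQR, Subgroup.mem_bot] at this
    rw [Subgroup.mem_bot]
    exact conj_eq_one_iff.1 this
  refine ⟨part1 U, fun hU hcard hall => ?_⟩
  have hcop : (Nat.card U).Coprime (Nat.card R) := CfsgLib.Comp.coprime_card_of_isPGroup hUp hR
  have hRn : U ≤ Subgroup.normalizer (R : Set G) := hUG.trans hGR
  rw [eq_bot_iff, ← CfsgLib.Coprime.cocyclicJoin_eq hU.1 hRn hcop]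
  refine iSup₂_le ?_
  rintro B ⟨hBU, a, ha, hBa⟩
  have := hU.1
  have hUmul : Nat.card U ≤ Nat.card B * p := by
    have hn : Subgroup.zpowers a ≤ Subgroup.normalizer (B : Set G) := Subgroup.zpowers_le.2 (by
      refine Subgroup.mem_normalizer_fintype fun b hb => ?_
      show a * b * a⁻¹ ∈ B
      rw [show a * b = b * a from congrArg Subtype.val (mul_comm' (⟨a, ha⟩ : U) ⟨b, hBU hb⟩),
        mul_inv_cancel_right]
      exact hb)
    have hdvd := CfsgLib.Comp.card_sup_dvd_mul hn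
    rw [hBa, Nat.card_zpowers] at hdvd
    exact (Nat.le_of_dvd (Nat.mul_pos Nat.card_pos (orderOf_pos a)) hdvd).trans
      (Nat.mul_le_mul_left _ (Nat.le_of_dvd (Fact.out : p.Prime).pos (orderOf_dvd_of_pow_eq_one (hU.2 a ha))))
  have hex : ∃ U₀ : Subgroup G, U₀ ≤ B ∧ U₀ ≤ U ∧ IsCoatom (U₀.subgroupOf U) := by
    by_cases hBt : B.subgroupOf U = ⊤
    · haveI : Nontrivial U := by
        rw [← Finite.one_lt_card_iff_nontrivial]
        exact lt_of_lt_of_le (Nat.one_lt_pow two_ne_zero (Fact.out : p.Prime).one_lt) hcard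
      obtain ⟨M, hM, -⟩ := (eq_top_or_exists_le_coatom (⊥ : Subgroup U)).resolve_left bot_ne_top
      refine ⟨M.map U.subtype, (Subgroup.map_subtype_le _).trans (Subgroup.subgroupOf_eq_top.1 hBt),
        Subgroup.map_subtype_le _, ?_⟩
      rwa [← Subgroup.comap_map_eq_self_of_injective U.subtype_injective M] at hM
    · obtain ⟨M, hM, hBM⟩ := (eq_top_or_exists_le_coatom (B.subgroupOf U)).resolve_left hBt
      refine ⟨B, le_rfl, hBU, ?_⟩
      suffices hEq : B.subgroupOf U = M by rw [hEq]; exact hM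
      refine Subgroup.eq_of_le_of_card_ge hBM ?_
      rw [Nat.card_congr (Subgroup.subgroupOfEquivOfLe hBU).toEquiv]
      have h1 := Subgroup.card_mul_index M
      obtain ⟨k, hk⟩ := hUp.exists_card_eq
      have h2 : M.index ∣ p ^ k := hk ▸ Subgroup.index_dvd_card M
      obtain ⟨j, -, hj⟩ := (Nat.dvd_prime_pow (Fact.out : p.Prime)).1 h2
      rcases j with _ | j
      · exact absurd (Subgroup.index_eq_one.1 (by simpa using hj)) hM.1
      · have h3 : p ≤ M.index := hj ▸ Nat.le_self_pow (Nat.succ_ne_zero j) p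
        refine Nat.le_of_mul_le_mul_right ?_ (Fact.out : p.Prime).pos
        exact ((Nat.mul_le_mul_left _ h3).trans h1.le).trans hUmul
  obtain ⟨U₀, hU₀B, hU₀U, hco⟩ := hex
  obtain ⟨x, hx, hx1, hg⟩ := hall U₀ hU₀U hco
  exact (part1 B ⟨x, hU₀B hx, hx1, hg⟩).le

end Cfsg.Agent.S3003
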