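import Cfsg.Statements.S3006
import Cfsg.Agent.Lib.Amalgam.ChermakDelgado

set_option autoImplicit false
open scoped Pointwise
open Cfsg

namespace Cfsg.Agent.S3006

/-- Let P be a finite p-group, Q a centrally large subgroup of P (|Q|·|Z(Q)| maximal among subgroups of P) and A an abelian subgroup of P of largest order. Then QA = AQ is a centrally large subgroup of P, C_{QA}(Q ∩ A) = Z(Q)·A, and the subgroup generated by all centrally large subgroups of P contains C_P(Z(J(P))), where J(P) is generated by the abelian subgroups of largest order. -/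
theorem result {p : ℕ} [Fact p.Prime] (P : Type*) [Group P] [Finite P] (hP : IsPGroup p P) (Q A : Subgroup P) (hQ : Cfsg.IsCentrallyLarge Q) (hA : A ∈ Cfsg.maxAbelianSubgroups P) : ((Q ⊔ A : Subgroup P) : Set P) = (Q : Set P) * (A : Set P) ∧ Cfsg.IsCentrallyLarge (Q ⊔ A) ∧ (Q ⊔ A) ⊓ Subgroup.centralizer ((Q ⊓ A : Subgroup P) : Set P) = (Q ⊓ Subgroup.centralizer (Q : Set P)) ⊔ A ∧ (((Q ⊓ Subgroup.centralizer (Q : Set P)) ⊔ A : Subgroup P) : Set P) = ((Q ⊓ Subgroup.centralizer (Q : Set P)) : Set P) * (A : Set P) ∧ Subgroup.centralizer ((Cfsg.thompsonSubgroupA P ⊓ Subgroup.centralizer (Cfsg.thompsonSubgroupA P : Set P) : Subgroup P) : Set P) ≤ Cfsg.centrallyLargeJoin P := by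
  obtain ⟨hQL, hCQ⟩ := CfsgLib.Amalgam.isCentrallyLarge_iff.1 hQ
  obtain ⟨hX, hset, hB⟩ := CfsgLib.Amalgam.centrallyLarge_sup_maxAbelian hQ hA
  have hAA := CfsgLib.Amalgam.centralizer_maxAbelian hA
  have hBB := CfsgLib.Amalgam.centralizer_maxAbelian hB
  rw [inf_eq_right.2 hCQ]
  have hD : A ≤ Subgroup.centralizer ((Q ⊓ A : Subgroup P) : Set P) :=
    hAA.symm.le.trans (Subgroup.centralizer_le fun _ h => h.2)
  have hZ : Subgroup.centralizer (Q : Set P) ≤ Subgroup.centralizer ((Q ⊓ A : Subgroup P) : Set P) :=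
    Subgroup.centralizer_le fun _ h => h.1
  have key : ∀ x ∈ (Q ⊔ A) ⊓ Subgroup.centralizer ((Q ⊓ A : Subgroup P) : Set P),
      x ∈ ((Subgroup.centralizer (Q : Set P) : Set P) * (A : Set P) : Set P) := by
    rintro x ⟨hx, hxC⟩
    obtain ⟨q, hq, a, ha, rfl⟩ := (Set.ext_iff.1 hset x).1 hx
    have hqC : q ∈ Subgroup.centralizer ((Q ⊓ A : Subgroup P) : Set P) := by
      simpa using (Subgroup.centralizer ((Q ⊓ A : Subgroup P) : Set P)).mul_mem hxC (Subgroup.inv_mem _ (hD ha))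
    have hqB : q ∈ (Q ⊓ A) ⊔ Subgroup.centralizer (Q : Set P) := by
      rw [← hBB, CfsgLib.Amalgam.centralizer_sup]
      exact ⟨hqC, CfsgLib.Amalgam.le_centralizer_centralizer Q hq⟩
    obtain ⟨d, hd, z, hz, rfl⟩ := CfsgLib.Amalgam.exists_mul_of_mem_sup
      (show Subgroup.centralizer (Q : Set P) ≤ Subgroup.centralizer ((Q ⊓ A : Subgroup P) : Set P) from hZ) hqB
    exact ⟨z, hz, d * a, mul_mem hd.2 ha, by
      show z * (d * a) = d * z * a
      rw [hz d hd.1, mul_assoc]⟩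
  have hle : Subgroup.centralizer (Q : Set P) ⊔ A ≤
      (Q ⊔ A) ⊓ Subgroup.centralizer ((Q ⊓ A : Subgroup P) : Set P) :=
    sup_le (le_inf (hCQ.trans le_sup_left) hZ) (le_inf le_sup_right hD)
  refine ⟨hset, hX, le_antisymm (fun x hx => ?_) hle, ?_, ?_⟩
  · obtain ⟨z, hz, a, ha, rfl⟩ := key x hx
    exact mul_mem (Subgroup.mem_sup_left hz) (Subgroup.mem_sup_right ha)
  · have hset' : ((Q : Set P) ⊓ (Subgroup.centralizer (Q : Set P) : Set P)) = (Subgroup.centralizer (Q : Set P) : Set P) :=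
      Set.inter_eq_right.2 hCQ
    rw [hset']
    refine Set.Subset.antisymm (fun x hx => key x (hle hx)) ?_
    rintro _ ⟨z, hz, a, ha, rfl⟩
    exact mul_mem (Subgroup.mem_sup_left hz) (Subgroup.mem_sup_right ha)
  · refine CfsgLib.Amalgam.centralizer_centerThompsonA_le
      CfsgLib.Amalgam.isCentrallyLarge_centrallyLargeJoin (sSup_le fun B hB' => ?_)
    exact le_trans le_sup_right (le_sSup (show Cfsg.IsCentrallyLarge _ from
      (CfsgLib.Amalgam.centrallyLarge_sup_maxAbelian hQ hB').1))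

end Cfsg.Agent.S3006
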