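import Cfsg.Statements.S3008
import Cfsg.Agent.Lib.Amalgam.CLReplace

set_option autoImplicit false
open Cfsg

namespace Cfsg.Agent.S3008

/-- Let P be a finite p-group, with J(P) generated by its abelian subgroups of largest order and J̃(P) = C_P(Z(J(P))); call R ≤ P centrally large if |R|·|Z(R)| is as large as possible, and let P_MCL be generated by the minimal centrally large subgroups. Then: for every centrally large Q, Q·J(P) ⊇ J̃(P); some minimal centrally large subgroup of P is normalized by both J(P) and P_MCL; if P = J(P) and d(P)² = |P|·|Z(P)|, where d(P) is the largest order of an abelian subgroup, then every minimal centrally large subgroup of P is abelian; and if every minimal centrally large subgroup is abelian then J̃(P) = J(P). -/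
theorem result {p : ℕ} [Fact p.Prime] (P : Type*) [Group P] [Finite P] (hP : IsPGroup p P) : (∀ Q : Subgroup P, Cfsg.IsCentrallyLarge Q → Subgroup.centralizer ((Cfsg.thompsonSubgroupA P ⊓ Subgroup.centralizer (Cfsg.thompsonSubgroupA P : Set P) : Subgroup P) : Set P) ≤ Q ⊔ Cfsg.thompsonSubgroupA P) ∧ (∃ Q : Subgroup P, Cfsg.IsMinimalCentrallyLarge Q ∧ Cfsg.thompsonSubgroupA P ≤ Subgroup.normalizer (Q : Set P) ∧ Cfsg.minimalCentrallyLargeJoin P ≤ Subgroup.normalizer (Q : Set P)) ∧ (Cfsg.thompsonSubgroupA P = ⊤ → (∀ A ∈ Cfsg.maxAbelianSubgroups P, Nat.card ↥A ^ 2 = Nat.card P * Nat.card ↥(Subgroup.center P)) → ∀ Q : Subgroup P, Cfsg.IsMinimalCentrallyLarge Q → IsMulCommutative ↥Q) ∧ ((∀ Q : Subgroup P, Cfsg.IsMinimalCentrallyLarge Q → IsMulCommutative ↥Q) → Subgroup.centralizer ((Cfsg.thompsonSubgroupA P ⊓ Subgroup.centralizer (Cfsg.thompsonSubgroupA P : Set P) : Subgroup P) : Set P) = Cfsg.thompsonSubgroupA P) := by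
  haveI : Group.IsNilpotent P := hP.isNilpotent
  refine ⟨fun Q hQ => CfsgLib.Amalgam.centralizer_centerThompsonA_le
    (CfsgLib.Amalgam.centrallyLarge_sup_thompsonA hQ) le_sup_right,
    CfsgLib.Amalgam.CLReplace.exists_normalized, ?_, ?_⟩
  · intro hJ hA Q hQ
    obtain ⟨Q₀, hQ₀⟩ := CfsgLib.Amalgam.exists_isCentrallyLarge (G := P)
    have htop := CfsgLib.Amalgam.centrallyLarge_sup_thompsonA hQ₀
    rw [hJ, sup_top_eq] at htop
    obtain ⟨A, hAm⟩ := CfsgLib.Amalgam.exists_maxAbelian (G := P)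
    have hmax : Nat.card ↥(⊤ : Subgroup P) * Nat.card ↥(Subgroup.center ↥(⊤ : Subgroup P)) =
        Cfsg.maxCentralProduct P := htop
    have hAA := CfsgLib.Amalgam.centralizer_maxAbelian hAm
    have hAcl : Cfsg.IsCentrallyLarge A := by
      unfold Cfsg.IsCentrallyLarge
      rw [← hmax, CfsgLib.Amalgam.card_center_eq, CfsgLib.Amalgam.card_center_eq, hAA, inf_idem,
        top_inf_eq, Subgroup.coe_top, Subgroup.centralizer_univ, Subgroup.card_top, ← hA A hAm,
        pow_two]
    obtain ⟨R, hRA, hR⟩ := CfsgLib.Amalgam.exists_isMinimalCentrallyLarge_le hAcl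
    have hRab : IsMulCommutative ↥R := CfsgLib.Amalgam.commutative_of_le_centralizer
      (hRA.trans ((CfsgLib.Amalgam.le_centralizer_of_commutative hAm.1).trans
        (Subgroup.centralizer_le (SetLike.coe_subset_coe.2 hRA))))
    exact ((CfsgLib.Amalgam.minimalCentrallyLarge_iff_maxAbelian hR hRab Q).1 hQ).1
  · intro hab
    obtain ⟨Q₀, hQ₀⟩ := CfsgLib.Amalgam.exists_isCentrallyLarge (G := P)
    obtain ⟨Q, -, hQ⟩ := CfsgLib.Amalgam.exists_isMinimalCentrallyLarge_le hQ₀
    have hQA := (CfsgLib.Amalgam.minimalCentrallyLarge_iff_maxAbelian hQ (hab Q hQ) Q).1 hQ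
    refine le_antisymm ?_ ?_
    · exact (CfsgLib.Amalgam.centralizer_centerThompsonA_le
        (CfsgLib.Amalgam.centrallyLarge_sup_thompsonA hQ.1) le_sup_right).trans
        (sup_le (le_sSup hQA) le_rfl)
    · exact fun x hx z hz => (hz.2 x hx).symm

end Cfsg.Agent.S3008
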