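import Cfsg.Statements.S3009
import Cfsg.Agent.Lib.Amalgam.NaturalRecognition
import Cfsg.Agent.Lib.Classical.SLTwoSylow
import Mathlib.Algebra.CharP.CharAndCard
import Mathlib.GroupTheory.Commutator.Basic


set_option autoImplicit false
open Cfsg Subgroup Matrix CfsgLib.Classical CfsgLib.Amalgam.NatRec
open scoped MatrixGroups commutatorElement

namespace Cfsg.Agent.S3009

/-- Let p be a prime and let G and V be subgroups of a finite group with V elementary abelian and normalized by G, and G isomorphic to SL₂(F) for a finite field F with pⁿ elements. Suppose G acts irreducibly and nontrivially on V by conjugation (no G-invariant subgroups of V other than 1 and V, and [V, G] ≠ 1), and let S be a Sylow p-subgroup of G and V₀ = C_V(S). If [V, S, S] = 1 or |V| ≤ |V₀|², then G acts on V as SL₂(F) on its natural two-dimensional module; in particular |V| = |F|². -/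
theorem result {X : Type*} [Group X] [Finite X] {p : ℕ} [Fact p.Prime] (G V : Subgroup X) (hV : Cfsg.IsElementaryAbelian p V) (hGV : G ≤ Subgroup.normalizer (V : Set X)) (F : Type) [Field F] [Fintype F] (n : ℕ) (hF : Fintype.card F = p ^ n) (hG : Nonempty (↥G ≃* Matrix.SpecialLinearGroup (Fin 2) F)) (hirr : ∀ U : Subgroup X, U ≤ V → G ≤ Subgroup.normalizer (U : Set X) → U = ⊥ ∨ U = V) (hnt : ⁅V, G⁆ ≠ ⊥) (S : Sylow p ↥G) (hyp : ⁅⁅V, (S : Subgroup ↥G).map G.subtype⁆, (S : Subgroup ↥G).map G.subtype⁆ = ⊥ ∨ Nat.card ↥V ≤ Nat.card ↥(V ⊓ Subgroup.centralizer (((S : Subgroup ↥G).map G.subtype : Subgroup X) : Set X)) ^ 2) : Cfsg.ActsAsSL2OnSection F ⊤ G V ⊥ := by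
  classical
  haveI : CharP F p := charP_of_card_eq_prime_pow hF
  obtain ⟨e₀⟩ := hG
  obtain ⟨P, hP⟩ := exists_sylow_uSL (F := F) p
  obtain ⟨m, hm⟩ := MulAction.exists_smul_eq SL(2, F)
    (S.mapSurjective (f := e₀.toMonoidHom) e₀.surjective) P
  let e : ↥G ≃* SL(2, F) := e₀.trans (MulAut.conj m)
  have hSe : ∀ g : ↥G, g ∈ (S : Subgroup ↥G) ↔ e g ∈ uSL F := by
    intro g
    rw [← hP, ← hm, Sylow.coe_subgroup_smul, mem_pointwise_smul_iff_inv_smul_mem]
    have h1 : (MulAut.conj m)⁻¹ • e g = e₀ g := by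
      simp [e, MulAut.smul_def]; group
    rw [h1]
    show _ ↔ e₀ g ∈ (S : Subgroup ↥G).map e₀.toMonoidHom
    exact ⟨fun h => ⟨g, h, rfl⟩, fun ⟨x, hx, he⟩ => e₀.injective he ▸ hx⟩
  have hnorm : ∀ g : ↥G, ∀ v ∈ V, (g : X) * v * (g : X)⁻¹ ∈ V := fun g v hv =>
    (mem_normalizer_iff.1 (hGV g.2) v).1 hv
  let _ : CommGroup ↥V :=
    { (inferInstance : Group ↥V) with mul_comm := fun a b => hV.1.is_comm.comm a b }
  let _ : DistribMulAction SL(2, F) (Additive ↥V) :=
    { smul := fun g v => Additive.ofMul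
        ⟨(e.symm g : X) * (v.toMul : X) * (e.symm g : X)⁻¹, hnorm _ _ v.toMul.2⟩
      one_smul := fun v => Subtype.ext (by
        show (e.symm 1 : X) * (v.toMul : X) * (e.symm 1 : X)⁻¹ = (v.toMul : X)
        simp)
      mul_smul := fun g h v => Subtype.ext (by
        show (e.symm (g * h) : X) * (v.toMul : X) * (e.symm (g * h) : X)⁻¹ =
          (e.symm g : X) * ((e.symm h : X) * (v.toMul : X) * (e.symm h : X)⁻¹) * (e.symm g : X)⁻¹
        simp only [map_mul, Subgroup.coe_mul]; group)
      smul_zero := fun g => Subtype.ext (by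
        show (e.symm g : X) * (1 : X) * (e.symm g : X)⁻¹ = 1
        simp)
      smul_add := fun g v w => Subtype.ext (by
        show (e.symm g : X) * ((v.toMul : X) * (w.toMul : X)) * (e.symm g : X)⁻¹ =
          ((e.symm g : X) * (v.toMul : X) * (e.symm g : X)⁻¹) *
            ((e.symm g : X) * (w.toMul : X) * (e.symm g : X)⁻¹)
        group) }
  have hsmul : ∀ (g : SL(2, F)) (v : Additive ↥V),
      (((g • v).toMul : ↥V) : X) = (e.symm g : X) * (v.toMul : X) * (e.symm g : X)⁻¹ :=
    fun g v => rfl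
  set T : Subgroup X := (S : Subgroup ↥G).map G.subtype with hT
  have huT : ∀ a : F, ((e.symm (uElt a) : ↥G) : X) ∈ T := fun a =>
    ⟨_, (hSe _).2 (by rw [e.apply_symm_apply]; exact ⟨a, rfl⟩), rfl⟩
  have hirr' : ∀ N : AddSubgroup (Additive ↥V), (∀ (g : SL(2, F)), ∀ v ∈ N, g • v ∈ N) →
      N = ⊥ ∨ N = ⊤ := by
    intro N hN
    let U : Subgroup X := (AddSubgroup.toSubgroup' N).map V.subtype
    have hUV : U ≤ V := map_subtype_le _
    have hGU : G ≤ normalizer (U : Set X) := by
      have h1 : ∀ g ∈ G, ∀ u ∈ U, g * u * g⁻¹ ∈ U := by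
        rintro g hg _ ⟨v, hv, rfl⟩
        refine ⟨((e ⟨g, hg⟩) • Additive.ofMul v).toMul, hN _ _ hv, ?_⟩
        show _ = g * (v : X) * g⁻¹
        rw [Subgroup.coe_subtype, hsmul, e.symm_apply_apply]
        rfl
      intro g hg
      refine mem_normalizer_iff.2 fun u => ⟨h1 g hg u, fun h => ?_⟩
      have := h1 g⁻¹ (inv_mem hg) _ h
      simpa [mul_assoc] using this
    rcases hirr U hUV hGU with h | h
    · left
      rw [eq_bot_iff]
      intro v hv
      have h1 : ((v.toMul : ↥V) : X) ∈ U := ⟨v.toMul, hv, rfl⟩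
      rw [h, Subgroup.mem_bot] at h1
      exact AddSubgroup.mem_bot.2 (Subtype.ext h1)
    · right
      rw [eq_top_iff]
      intro v _
      obtain ⟨w, hw, hwe⟩ := h.ge v.toMul.2
      have : w = v.toMul := Subtype.ext hwe
      rw [this] at hw
      exact hw
  have hnt' : ∃ (g : SL(2, F)) (v : Additive ↥V), g • v ≠ v := by
    by_contra h
    push_neg at h
    apply hnt
    rw [commutator_eq_bot_iff_le_centralizer]
    intro v hv
    refine mem_centralizer_iff.2 fun g hg => ?_
    have := congrArg (fun w : Additive ↥V => ((w.toMul : ↥V) : X)) (h (e ⟨g, hg⟩) (Additive.ofMul ⟨v, hv⟩))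
    simp only [hsmul, e.symm_apply_apply] at this
    exact mul_inv_eq_iff_eq_mul.1 this
  have hexp : ∀ v : Additive ↥V, p • v = 0 := fun v =>
    Subtype.ext (by
      show (((p • v).toMul : ↥V) : X) = 1
      rw [toMul_nsmul, Subgroup.coe_pow]
      exact hV.2 _ v.toMul.2)
  have hyp' : (∀ (a b : F) (v : Additive ↥V), D a (D b v) = 0) ∨
      Nat.card (Additive ↥V) ≤ Nat.card (fix F (Additive ↥V)) ^ 2 := by
    rcases hyp with hq | hc
    · left
      intro a b v
      rw [commutator_eq_bot_iff_le_centralizer] at hq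
      have h1 : (((D b v).toMul : ↥V) : X) ∈ ⁅V, T⁆ := by
        have h2 := inv_mem (commutator_mem_commutator v.toMul.2 (huT b))
        have h3 : (((D b v).toMul : ↥V) : X) = (e.symm (uElt b) : X) * (v.toMul : X) *
            (e.symm (uElt b) : X)⁻¹ * (v.toMul : X)⁻¹ := by
          simp only [D, toMul_sub, div_eq_mul_inv]
          rw [Subgroup.coe_mul, Subgroup.coe_inv, hsmul]
        rw [h3]
        simpa [commutatorElement_def, mul_assoc] using h2
      have h4 := mem_centralizer_iff.1 (hq h1) _ (huT a)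
      show uElt a • D b v - D b v = 0
      rw [sub_eq_zero]
      refine Subtype.ext ?_
      show (((uElt a • D b v).toMul : ↥V) : X) = _
      rw [hsmul, h4, mul_inv_cancel_right]
      rfl
    · right
      refine le_of_eq_of_le ?_ (hc.trans (Nat.pow_le_pow_left (le_of_eq ?_) 2))
      · exact Nat.card_congr Additive.toMul
      · refine Nat.card_congr
          { toFun := fun v => ⟨Additive.ofMul ⟨v.1, (mem_inf.1 v.2).1⟩, fun a => Subtype.ext (by
              show (e.symm (uElt a) : X) * v.1 * (e.symm (uElt a) : X)⁻¹ = v.1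
              rw [mem_centralizer_iff.1 (mem_inf.1 v.2).2 _ (huT a), mul_inv_cancel_right])⟩
            invFun := fun v => ⟨(v.1.toMul : X), mem_inf.2 ⟨v.1.toMul.2, mem_centralizer_iff.2 (by
              rintro _ ⟨s, hs, rfl⟩
              obtain ⟨a, ha⟩ := (hSe s).1 hs
              have h1 := congrArg (fun w : Additive ↥V => ((w.toMul : ↥V) : X)) (v.2 a)
              simp only [hsmul] at h1
              rw [ha, e.symm_apply_apply] at h1
              exact mul_inv_eq_iff_eq_mul.1 h1)⟩⟩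
            left_inv := fun v => rfl
            right_inv := fun v => rfl }
  obtain ⟨ψ, hψ⟩ := exists_coord hirr' hnt' hF hexp hyp'
  refine ⟨hGV, bot_le, e.toMonoidHom, AddMonoidHom.toMultiplicativeRight (α := ↥V) (β := Fin 2 → F) ψ.toAddMonoidHom,
    MonoidHom.range_eq_top.2 e.surjective, ?_, ?_, ?_⟩
  · intro y
    obtain ⟨v, hv⟩ := ψ.surjective y.toAdd
    exact ⟨v.toMul, hv⟩
  · intro u
    rw [Subgroup.mem_bot]
    show ψ (Additive.ofMul u) = 0 ↔ _
    rw [AddEquiv.map_eq_zero_iff, ofMul_eq_zero, Subtype.ext_iff]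
    rfl
  · intro g u
    refine ⟨⟨(g : X) * u * (g : X)⁻¹, hnorm g u u.2⟩, rfl, ?_⟩
    show ψ (Additive.ofMul _) = (e g).1.mulVec (ψ (Additive.ofMul u))
    rw [← hψ]
    congr 1
    refine Subtype.ext ?_
    show (g : X) * u * (g : X)⁻¹ = (e.symm (e g) : X) * (u : X) * (e.symm (e g) : X)⁻¹
    rw [e.symm_apply_apply]

end Cfsg.Agent.S3009
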