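import Cfsg.Statements.S3012
import Mathlib.GroupTheory.OrderOfElement
import Mathlib.Data.Nat.Choose.Dvd
import Mathlib.Tactic

set_option autoImplicit false
open Cfsg

namespace Cfsg.Agent.S3012

/-- Let G be a finite group, V a nontrivial elementary abelian 2-subgroup of G satisfying the Sidki pair condition (every odd-order element inverted by an element of V commutes with a nontrivial element of V), and K a normal subgroup of G with V ∩ K = 1. Then the image of V in G/K satisfies the Sidki pair condition in G/K. -/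
theorem result {G : Type*} [Group G] [Finite G] (V K : Subgroup G) [K.Normal] (hV : Cfsg.IsElementaryAbelian 2 V) (hV1 : V ≠ ⊥) (hS : Cfsg.IsSidkiPair V) (hVK : V ⊓ K = ⊥) : Cfsg.IsSidkiPair (V.map (QuotientGroup.mk' K)) := by
  intro hbar vbar hv hodd hinv
  obtain ⟨v, hvV, rfl⟩ := hv
  set f := QuotientGroup.mk' K
  set n := orderOf hbar with hn
  obtain ⟨m, hm⟩ := hodd
  have hnpos : 0 < n := orderOf_pos hbar
  -- a square root
  obtain ⟨s, hs⟩ := QuotientGroup.mk'_surjective K (hbar ^ (m + 1))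
  have hsq : f s * f s = hbar := by
    rw [hs, ← pow_add, show m + 1 + (m + 1) = n + 1 by omega, pow_succ, pow_orderOf_eq_one, one_mul]
  have hv2 : v * v = 1 := by rw [← pow_two]; exact hV.2 v hvV
  have hvinv : v⁻¹ = v := inv_eq_of_mul_eq_one_right hv2
  set h0 := s * v * s⁻¹ * v with hh0
  have hf0 : f h0 = hbar := by
    have h1 : f v * f s * (f v)⁻¹ = (f s)⁻¹ := by rw [hs, ← conj_pow, hinv, inv_pow]
    have h2 : f v * (f s)⁻¹ * (f v)⁻¹ = f s := by
      have := congrArg Inv.inv h1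
      rwa [inv_inv, mul_inv_rev, mul_inv_rev, inv_inv, ← mul_assoc] at this
    rw [hh0, map_mul, map_mul, map_mul, map_inv, ← hsq]
    conv_lhs => rw [mul_assoc, mul_assoc]
    rw [show f v * ((f s)⁻¹ * f v) = f v * (f s)⁻¹ * (f v)⁻¹ by
      rw [← map_inv f v, hvinv, mul_assoc], h2]
  have hinv0 : v * h0 * v⁻¹ = h0⁻¹ := by
    rw [hh0, mul_inv_rev, mul_inv_rev, mul_inv_rev, inv_inv, hvinv]
    simp only [mul_assoc, hv2, mul_one]
  set N := orderOf h0
  obtain ⟨a, b, hb, hab⟩ : ∃ a b, ¬ 2 ∣ b ∧ N = 2 ^ a * b :=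
    Nat.exists_eq_pow_mul_and_not_dvd (orderOf_pos h0).ne' 2 (by norm_num)
  have hnb : n ∣ b := by
    have h1 : n ∣ 2 ^ a * b := hab ▸ (show orderOf hbar ∣ orderOf h0 from hf0 ▸ orderOf_map_dvd f h0)
    refine (Nat.Coprime.dvd_of_dvd_mul_left ?_ h1)
    exact Nat.Coprime.pow_right a (Nat.Coprime.symm ((Nat.prime_two.coprime_iff_not_dvd).2 (by omega)))
  have hcop : Nat.Coprime (2 ^ a) b :=
    Nat.Coprime.pow_left a ((Nat.prime_two.coprime_iff_not_dvd).2 hb)
  obtain ⟨k, hk1, hk2⟩ := Nat.chineseRemainder hcop 0 1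
  set h1 := h0 ^ k with hh1
  have hf1 : f h1 = hbar := by
    rw [hh1, map_pow, hf0]
    conv_rhs => rw [← pow_one hbar]
    exact pow_eq_pow_iff_modEq.2 (hk2.of_dvd hnb)
  have hodd1 : Odd (orderOf h1) := by
    have hd : orderOf h1 ∣ b := by
      apply orderOf_dvd_of_pow_eq_one
      rw [hh1, ← pow_mul]
      apply orderOf_dvd_iff_pow_eq_one.1
      show N ∣ k * b
      rw [hab]
      exact Nat.mul_dvd_mul_right (Nat.modEq_zero_iff_dvd.1 hk1) b
    exact Odd.of_dvd_nat (Nat.odd_iff.2 (by omega)) hd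
  obtain ⟨w, hwV, hw1, hwc⟩ := hS h1 v hvV hodd1 (by rw [hh1, ← conj_pow, hinv0, inv_pow])
  refine ⟨f w, ⟨w, hwV, rfl⟩, fun he => hw1 ?_, by rw [← hf1, ← map_mul, hwc, map_mul]⟩
  have : w ∈ V ⊓ K := Subgroup.mem_inf.2 ⟨hwV, (QuotientGroup.eq_one_iff w).1 he⟩
  rw [hVK] at this
  exact Subgroup.mem_bot.1 this

end Cfsg.Agent.S3012
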