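import Cfsg.Statements.S3013
import Mathlib.GroupTheory.OrderOfElement
import Mathlib.Data.Nat.Choose.Dvd
import Mathlib.Tactic

set_option autoImplicit false
open Cfsg

namespace Cfsg.Agent.S3013

/-- Let G be a finite group and V a nontrivial elementary abelian 2-subgroup of G satisfying the Sidki pair condition. Let v ∈ V and let x be an element of odd order inverted by v, and put C = C_G(v) ∩ C_G(x), the centralizer of the dihedral subgroup generated by v and x. Then C ∩ V is nontrivial and satisfies the Sidki pair condition inside C: every odd-order element of C inverted by an element of C ∩ V commutes with a nontrivial element of C ∩ V. -/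
theorem result {G : Type*} [Group G] [Finite G] (V : Subgroup G) (hV : Cfsg.IsElementaryAbelian 2 V) (hV1 : V ≠ ⊥) (hS : Cfsg.IsSidkiPair V) (v x : G) (hv : v ∈ V) (hx : Odd (orderOf x)) (hinv : v * x * v⁻¹ = x⁻¹) (C : Subgroup G) (hC : C = Subgroup.centralizer ({v} : Set G) ⊓ Subgroup.centralizer ({x} : Set G)) : C ⊓ V ≠ ⊥ ∧ Cfsg.IsSidkiPair ((C ⊓ V).subgroupOf C) := by
  have hc : ∀ a ∈ V, ∀ b ∈ V, a * b = b * a := fun a ha b hb =>
    have := hV.1
    congrArg Subtype.val (mul_comm' (⟨a, ha⟩ : V) ⟨b, hb⟩)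
  subst hC
  constructor
  · obtain ⟨w, hwV, hw1, hwx⟩ := hS x v hv hx hinv
    intro hb
    apply hw1
    have : w ∈ Subgroup.centralizer ({v} : Set G) ⊓ Subgroup.centralizer ({x} : Set G) ⊓ V :=
      Subgroup.mem_inf.2 ⟨Subgroup.mem_inf.2 ⟨Subgroup.mem_centralizer_singleton_iff.2 (hc w hwV v hv),
        Subgroup.mem_centralizer_singleton_iff.2 hwx⟩, hwV⟩
    rw [hb] at this
    exact Subgroup.mem_bot.1 this
  · rintro ⟨h, hh⟩ ⟨u, huC⟩ hu hodd huinv
    have huV : u ∈ V := hu.2
    have hhv := Subgroup.mem_centralizer_singleton_iff.1 hh.1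
    have hhx := Subgroup.mem_centralizer_singleton_iff.1 hh.2
    have hux := Subgroup.mem_centralizer_singleton_iff.1 huC.2
    have huh : u * h * u⁻¹ = h⁻¹ := congrArg Subtype.val huinv
    rw [Subgroup.orderOf_mk] at hodd
    have hcom : Commute x h := hhx.symm
    have hoddxh : Odd (orderOf (x * h)) :=
      Odd.of_dvd_nat (hx.mul hodd) hcom.orderOf_mul_dvd_mul_orderOf
    have hinvxh : (u * v) * (x * h) * (u * v)⁻¹ = (x * h)⁻¹ := by
      have e1 : v * h * v⁻¹ = h := by rw [← hhv, mul_inv_cancel_right]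
      have e2 : u * x * u⁻¹ = x := by rw [hux, mul_inv_cancel_right]
      calc (u * v) * (x * h) * (u * v)⁻¹ = (u * (v * x * v⁻¹) * u⁻¹) * (u * (v * h * v⁻¹) * u⁻¹) := by group
        _ = (u * x * u⁻¹)⁻¹ * (u * h * u⁻¹) := by rw [hinv, e1]; group
        _ = (x * h)⁻¹ := by rw [e2, huh, mul_inv_rev, hcom.inv_inv.eq]
    obtain ⟨w, hwV, hw1, hwc⟩ := hS (x * h) (u * v) (mul_mem huV hv) hoddxh hinvxh
    have hwv : Commute w v := hc w hwV v hv
    have h1 : Commute w (x * h) := hwc
    have h2 : Commute w (x⁻¹ * h) := by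
      have h3 := (hwv.mul_right h1).mul_right hwv.inv_right
      have e : v * (x * h) * v⁻¹ = x⁻¹ * h := by
        rw [show v * (x * h) * v⁻¹ = (v * x * v⁻¹) * (v * h * v⁻¹) by group, hinv, ← hhv, mul_inv_cancel_right]
      rwa [e] at h3
    have h4 : Commute w (h ^ 2) := by
      have h3 := h1.mul_right h2
      rwa [show x * h * (x⁻¹ * h) = x * (h * x⁻¹) * h by group, ← (hcom.inv_left).eq,
        show x * (x⁻¹ * h) * h = h ^ 2 by rw [pow_two]; group] at h3
    have h5 : Commute w h := by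
      obtain ⟨m, hm⟩ := hodd
      have := h4.pow_right (m + 1)
      rwa [← pow_mul, show 2 * (m + 1) = orderOf h + 1 by omega, pow_succ, pow_orderOf_eq_one, one_mul] at this
    have h6 : Commute w x := by
      have := h1.mul_right h5.inv_right
      rwa [mul_inv_cancel_right] at this
    have hwC : w ∈ Subgroup.centralizer ({v} : Set G) ⊓ Subgroup.centralizer ({x} : Set G) :=
      Subgroup.mem_inf.2 ⟨Subgroup.mem_centralizer_singleton_iff.2 hwv.eq,
        Subgroup.mem_centralizer_singleton_iff.2 h6.eq⟩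
    exact ⟨⟨w, hwC⟩, Subgroup.mem_inf.2 ⟨hwC, hwV⟩, fun he => hw1 (congrArg Subtype.val he), Subtype.ext h5.eq⟩

end Cfsg.Agent.S3013
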