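import Cfsg.Statements.S3020
import Cfsg.Agent.Lib.Transfer.Basic
import Cfsg.Agent.Lib.Transfer.Frobenius
import Cfsg.Agent.Lib.Solvable.PCore

set_option autoImplicit false
open Cfsg

namespace Cfsg.Agent.S3020

/-- Let G be a finite group, p a prime and H an abelian p-subgroup of G that is extremely closed (for every g, the subgroup generated by H and g H g⁻¹ meets N_G(H) exactly in H). Then for every g ∈ G, the subgroup T generated by H and g H g⁻¹ is the product of H with O_{p'}(T), and H meets O_{p'}(T) trivially; that is, O_{p'}(T) is a normal p-complement of H in T. -/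
theorem result {G : Type*} [Group G] [Finite G] {p : ℕ} [Fact p.Prime] (H : Subgroup G) (hHp : IsPGroup p H) (hHab : IsMulCommutative H) (hcl : Cfsg.IsExtremelyClosed H) (g : G) (T : Subgroup G) (hT : T = H ⊔ H.map (MulAut.conj g).toMonoidHom) : H ⊔ (Cfsg.pPrimeCore p ↥T).map T.subtype = T ∧ H ⊓ (Cfsg.pPrimeCore p ↥T).map T.subtype = ⊥ := by
  have hHT : H ≤ T := hT ▸ le_sup_left
  set H' := H.subgroupOf T with hH'
  have hH'p : IsPGroup p H' := hHp.of_equiv (Subgroup.subgroupOfEquivOfLe hHT).symm
  have hN : Subgroup.normalizer (H' : Set T) ≤ H' := by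
    intro t ht
    have hmem : (t : G) ∈ T ⊓ Subgroup.normalizer (H : Set G) := by
      refine Subgroup.mem_inf.2 ⟨t.2, ?_⟩
      rw [← Subgroup.subgroupOf_normalizer_eq hHT] at ht
      exact ht
    exact (hcl g).le ((congrArg (fun X : Subgroup G => X ⊓ Subgroup.normalizer (H : Set G)) hT).le hmem)
  obtain ⟨W, hW⟩ := hH'p.exists_le_sylow
  have hWH : (W : Subgroup T) = H' := by
    refine le_antisymm ?_ hW
    by_contra hne
    obtain ⟨y, -, hyN, hy⟩ := CfsgLib.Transfer.exists_mem_normalizer_not_mem W.isPGroup' (lt_of_le_not_ge hW hne)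
    exact hy (hN hyN)
  have hc := CfsgLib.Transfer.hasNormalPComplement_of_normalizer_le_centralizer W (by
    rw [hWH]
    refine hN.trans fun y hy z hz => ?_
    exact Subtype.ext (congrArg Subtype.val (mul_comm' (⟨(z : G), hz⟩ : H) ⟨(y : G), hy⟩) :))
  obtain ⟨N, hNn, hNc⟩ := (CfsgLib.Transfer.hasNormalPComplement_iff_exists_isComplement' W).1 hc
  set O := Cfsg.pPrimeCore p ↥T
  have hON : N = O := by
    have hcop : (Nat.card N).Coprime p := by
      rw [Nat.coprime_comm, (Fact.out : p.Prime).coprime_iff_not_dvd]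
      exact hNc.index_eq_card ▸ W.not_dvd_index
    refine le_antisymm (CfsgLib.Solvable.le_pPrimeCore hNn hcop) ?_
    have hOc := CfsgLib.Solvable.pPrimeCore_coprime (G := ↥T) p
    refine fun o ho => (QuotientGroup.eq_one_iff o).1 (orderOf_eq_one_iff.1 ?_)
    obtain ⟨k, hk⟩ := W.isPGroup'.exists_card_eq
    refine Nat.eq_one_of_dvd_coprimes (hOc.pow_right k)
      ((orderOf_map_dvd (QuotientGroup.mk' N) o).trans (Subgroup.orderOf_dvd_natCard O ho)) ?_
    rw [← hk, ← hNc.symm.index_eq_card, Subgroup.index_eq_card]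
    exact orderOf_dvd_natCard _
  have hmapH : H'.map T.subtype = H := by rw [hH', Subgroup.subgroupOf_map_subtype, inf_eq_left.2 hHT]
  rw [← hON, ← hmapH, ← hWH]
  refine ⟨?_, ?_⟩
  · rw [← Subgroup.map_sup, sup_comm, hNc.sup_eq_top, ← MonoidHom.range_eq_map, Subgroup.range_subtype]
  · rw [← Subgroup.map_inf _ _ _ T.subtype_injective, inf_comm, hNc.disjoint.eq_bot, Subgroup.map_bot]

end Cfsg.Agent.S3020
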