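import Cfsg.Statements.S3022
import Cfsg.Agent.Lib.Amalgam.PMinFFAutMain
import Cfsg.Agent.S2982
-- import your own Cfsg.Agent.* helpers here

set_option autoImplicit false
open Cfsg

namespace Cfsg.Agent.S3022

/-- Let G be a finite group all of whose non-abelian simple sections are known simple groups, such that a Sylow 2-subgroup of G lies in exactly one maximal subgroup of G and C_G(O₂(G)) ≤ O₂(G). Let S be a Sylow 2-subgroup of G and A a group of automorphisms of S of odd order. Then some nontrivial A-invariant subgroup of S is normal in G. -/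
theorem result {G : Type*} [Group G] [Finite G] (hK : Cfsg.IsKGroup G) (hirr : ∀ S : Sylow 2 G, ∃! M : Subgroup G, IsCoatom M ∧ (S : Subgroup G) ≤ M) (hchar : Subgroup.centralizer (Cfsg.pCore 2 G : Set G) ≤ Cfsg.pCore 2 G) (S : Sylow 2 G) (A : Subgroup (MulAut ↥(S : Subgroup G))) (hA : Odd (Nat.card A)) : ∃ U : Subgroup G, U ≠ ⊥ ∧ U.Normal ∧ U ≤ (S : Subgroup G) ∧ ∀ a ∈ A, ∀ x : ↥(S : Subgroup G), (x : G) ∈ U → ((a x : ↥(S : Subgroup G)) : G) ∈ U := by
  obtain ⟨M, hM, hMu⟩ := hirr S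
  by_cases hS1 : (S : Subgroup G) = ⊥
  · exfalso
    have hQ : Cfsg.pCore 2 G = ⊥ :=
      le_bot_iff.1 ((CfsgLib.Solvable.pCore_le_sylow S).trans hS1.le)
    rw [hQ] at hchar
    refine hM.1.1 (top_le_iff.1 fun x _ => ?_)
    have hx : x ∈ Subgroup.centralizer ((⊥ : Subgroup G) : Set G) :=
      Subgroup.mem_centralizer_iff.2 fun y hy => by rw [Subgroup.mem_bot.1 hy, one_mul, mul_one]
    rw [Subgroup.mem_bot.1 (hchar hx)]
    exact one_mem M
  by_cases hn : (S : Subgroup G).Normal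
  · exact ⟨S, hS1, hn, le_rfl, fun a _ x _ => (a x).2⟩
  have hmin : Cfsg.IsPMinimal 2 G := by
    intro P
    refine ⟨fun hP => ?_, hirr P⟩
    obtain ⟨g, hg⟩ := MulAction.exists_smul_eq G P S
    rw [← hg, Sylow.smul_eq_of_normal] at hn
    exact hn hP
  obtain ⟨U, hU1, hUn, hUS, hUA⟩ :=
    CfsgLib.Amalgam.PFF.exists_invariant_normal hmin hchar S hS1 (fun hc hz => by
      obtain ⟨B, h1, -, h3⟩ := Cfsg.Agent.S2982.result hmin hchar S hc hz
      exact ⟨B, h1, h3⟩) A hA
  exact ⟨U, hU1, hUn, hUS, fun a ha x hx => hUA a ha ⟨x, hx, rfl⟩⟩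

end Cfsg.Agent.S3022
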