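import Cfsg.Statements.S3023
import Cfsg.Agent.Lib.Amalgam.CharPLocal
import Cfsg.Agent.Lib.PLocal.Basic

set_option autoImplicit false
open Cfsg

namespace Cfsg.Agent.S3023

/-- Let p be a prime, G a finite group of parabolic characteristic p (every p-local subgroup containing a Sylow p-subgroup of G has characteristic p), S a Sylow p-subgroup of G and G₁ a subnormal subgroup of G. If the centre of S ∩ G₁ is nontrivial and contained in the centre of S, then G₁ has parabolic characteristic p. -/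
theorem result {G : Type*} [Group G] [Finite G] {p : ℕ} [Fact p.Prime] (hG : Cfsg.IsOfParabolicCharacteristic p G) (S : Sylow p G) (G₁ : Subgroup G) (hsn : G₁.IsSubnormal) (hne : ((S : Subgroup G) ⊓ G₁) ⊓ Subgroup.centralizer (((S : Subgroup G) ⊓ G₁ : Subgroup G) : Set G) ≠ ⊥) (hle : ((S : Subgroup G) ⊓ G₁) ⊓ Subgroup.centralizer (((S : Subgroup G) ⊓ G₁ : Subgroup G) : Set G) ≤ (S : Subgroup G) ⊓ Subgroup.centralizer ((S : Subgroup G) : Set G)) : Cfsg.IsOfParabolicCharacteristic p ↥G₁ := by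
  obtain ⟨S₁, hS₁⟩ := CfsgLib.Amalgam.exists_sylow_subnormal S hsn
  refine CfsgLib.Amalgam.isOfParabolicCharacteristic_subnormal hG S hsn S₁ fun z hzo hzS hzc => ?_
  have h1 : (z : G) ∈ (S : Subgroup G) ⊓ G₁ := Subgroup.mem_inf.2 ⟨Subgroup.mem_subgroupOf.1 (hS₁ ▸ hzS), z.2⟩
  have h2 : (z : G) ∈ Subgroup.centralizer (((S : Subgroup G) ⊓ G₁ : Subgroup G) : Set G) := fun w hw =>
    congrArg Subtype.val (hzc ⟨w, (Subgroup.mem_inf.1 hw).2⟩ (hS₁.symm ▸ Subgroup.mem_subgroupOf.2 (Subgroup.mem_inf.1 hw).1))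
  exact (Subgroup.mem_inf.1 (hle (Subgroup.mem_inf.2 ⟨h1, h2⟩))).2

end Cfsg.Agent.S3023
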