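import Cfsg.Statements.S3025
import Cfsg.Agent.Lib.Solvable.UniqueSubgroup
import Cfsg.Agent.Lib.StructC.UniqueInvol
import Mathlib.GroupTheory.SpecificGroups.Cyclic

set_option autoImplicit false
open Cfsg

namespace Cfsg.Agent.S3025

/-- Let F be a finite group and H a nontrivial subgroup of F that is contained in every nontrivial subgroup of F which H normalizes. Then F has a nontrivial normal subgroup N contained in every nontrivial normal subgroup of F (a unique minimal normal subgroup), N is simple, and one of the following holds: C_F(N) = 1; or H = N has prime order p, C_F(N) is cyclic of order a power of p, and F/C_F(N) is cyclic of order dividing p − 1; or H = N has order 2, N is central in F, and F is a generalized quaternion group. -/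
theorem result {F : Type*} [Group F] [Finite F] (H : Subgroup F) (hH : H ≠ ⊥)
    (hmin : ∀ R : Subgroup F, R ≠ ⊥ → H ≤ Subgroup.normalizer (R : Set F) → H ≤ R) :
    ∃ N : Subgroup F, N.Normal ∧ N ≠ ⊥ ∧ (∀ M : Subgroup F, M.Normal → M ≠ ⊥ → N ≤ M) ∧ IsSimpleGroup ↥N ∧
      (Subgroup.centralizer (N : Set F) = ⊥ ∨
       (H = N ∧ (Nat.card N).Prime ∧ IsCyclic ↥(Subgroup.centralizer (N : Set F)) ∧
          (∃ k : ℕ, 1 ≤ k ∧ Nat.card ↥(Subgroup.centralizer (N : Set F)) = Nat.card N ^ k) ∧
          (∃ g : F, Subgroup.centralizer (N : Set F) ⊔ Subgroup.zpowers g = ⊤) ∧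
          (Subgroup.centralizer (N : Set F)).index ∣ Nat.card N - 1) ∨
       (H = N ∧ Nat.card N = 2 ∧ Subgroup.centralizer (N : Set F) = ⊤ ∧
          ∃ k : ℕ, 1 ≤ k ∧ Nonempty (F ≃* QuaternionGroup (2 ^ k)))) := by
  open Subgroup in
  · -- every nontrivial normal subgroup contains `H`
    have hnor : ∀ M : Subgroup F, M.Normal → M ≠ ⊥ → H ≤ M := fun M hM hM1 =>
      hmin M hM1 (fun h _ => (normalizer_eq_top_iff.2 hM).ge (mem_top h))
    set N : Subgroup F := ⨅ M : {M : Subgroup F // M.Normal ∧ M ≠ ⊥}, (M : Subgroup F) with hNdef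
    have hHN : H ≤ N := le_iInf fun M => hnor M.1 M.2.1 M.2.2
    have hN1 : N ≠ ⊥ := fun h => hH (le_bot_iff.1 (h ▸ hHN))
    haveI hNn : N.Normal := normal_iInf_normal fun M => M.2.1
    have hNle : ∀ M : Subgroup F, M.Normal → M ≠ ⊥ → N ≤ M := fun M h1 h2 =>
      iInf_le (fun M : {M : Subgroup F // M.Normal ∧ M ≠ ⊥} => (M : Subgroup F)) ⟨M, h1, h2⟩
    haveI : Nontrivial N := (nontrivial_iff_ne_bot N).2 hN1
    have hsimple : IsSimpleGroup N := by
      refine ⟨fun M hM => or_iff_not_imp_left.2 fun hM1 => ?_⟩
      set M' := M.map N.subtype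
      have hHinv : ∀ g : F, H ≤ M'.map (MulAut.conj g).toMonoidHom := by
        intro g
        refine hmin _ (fun h => hM1 ((map_eq_bot_iff_of_injective _ N.subtype_injective).1
          ((map_eq_bot_iff_of_injective _ (MulEquiv.injective _)).1 h))) fun h hh => ?_
        have hh' : g⁻¹ * h * g ∈ N := by simpa using hNn.conj_mem h (hHN hh) g⁻¹
        refine mem_normalizer_iff_map_conj_eq.2 (eq_of_le_of_card_ge ?_
          (card_map_of_injective (MulEquiv.injective _)).ge)
        rintro _ ⟨_, ⟨_, ⟨m, hm, rfl⟩, rfl⟩, rfl⟩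
        refine ⟨_, mem_map_of_mem N.subtype (hM.conj_mem m hm ⟨_, hh'⟩), ?_⟩
        simp [mul_assoc]
      have hcore : N ≤ M'.normalCore := by
        refine hNle _ inferInstance fun h => hH (le_bot_iff.1 (h ▸ fun x hx g => ?_))
        obtain ⟨y, hy, hyx⟩ := hHinv g⁻¹ hx
        have hyx' : g⁻¹ * y * g = x := by simpa using hyx
        rw [← hyx']
        simpa [mul_assoc] using hy
      refine eq_top_iff.2 fun n _ => ?_
      obtain ⟨m, hm, e⟩ := (hcore.trans (normalCore_le M')) n.2
      exact (Subtype.ext e : m = n) ▸ hm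
    refine ⟨N, hNn, hN1, hNle, hsimple, ?_⟩
    by_cases hC1 : centralizer (N : Set F) = ⊥
    · exact Or.inl hC1
    set C := centralizer (N : Set F) with hC
    have hNC : N ≤ C := hNle C inferInstance hC1
    haveI : IsMulCommutative N := le_centralizer_iff_isMulCommutative.1 hNC
    let _ : CommGroup N := { (inferInstance : Group N) with mul_comm := fun a b => (‹IsMulCommutative N›).is_comm.comm a b }
    haveI := hsimple
    have hpN : (Nat.card N).Prime := IsSimpleGroup.prime_card
    have hHNeq : H = N := by
      refine eq_of_le_of_card_ge hHN ?_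
      rcases (Nat.dvd_prime hpN).1 (card_dvd_of_le hHN) with h | h
      · exact absurd (Subgroup.card_eq_one.1 h) hH
      · exact h.ge
    set p := Nat.card N with hp
    haveI : Fact p.Prime := ⟨hpN⟩
    -- every nontrivial subgroup of `C` contains `H`
    have hsub : ∀ X : Subgroup F, X ≤ C → X ≠ ⊥ → H ≤ X := fun X hX hX1 =>
      hmin X hX1 ((hHN.trans (le_centralizer_iff.1 hX)).trans (centralizer_le_normalizer _))
    have hCp : IsPGroup p C := by
      refine IsPGroup.of_card (n := (Nat.card C).factorization p) (Nat.eq_pow_of_factorization_eq_single ?_ ?_ |>.trans rfl)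
      · exact Nat.card_pos.ne'
      · ext q
        by_cases hq : q = p
        · subst hq; simp
        rw [Finsupp.single_eq_of_ne hq]
        by_contra hne
        have hqd : q ∣ Nat.card C := Nat.dvd_of_factorization_pos hne
        have hqp : q.Prime := by
          by_contra h
          exact hne (Nat.factorization_eq_zero_of_not_prime _ h)
        haveI : Fact q.Prime := ⟨hqp⟩
        obtain ⟨x, hx⟩ := exists_prime_orderOf_dvd_card' (G := C) q hqd
        have h1 : H ≤ zpowers (x : F) := hsub _ (zpowers_le.2 x.2) (fun h => by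
          rw [zpowers_eq_bot, OneMemClass.coe_eq_one] at h
          rw [h, orderOf_one] at hx
          exact hqp.ne_one hx.symm)
        have h2 := card_dvd_of_le h1
        rw [hHNeq, ← hp, Nat.card_zpowers, Subgroup.orderOf_coe, hx] at h2
        exact hq ((Nat.prime_dvd_prime_iff_eq hpN hqp).1 h2).symm
    have huniq : ∀ X Y : Subgroup C, Nat.card X = p → Nat.card Y = p → X = Y := by
      have key : ∀ X : Subgroup C, Nat.card X = p → X.map C.subtype = N := by
        intro X hX
        refine (eq_of_le_of_card_ge (hHNeq ▸ hsub _ (map_subtype_le X) fun h => hpN.ne_one ?_) ?_).symm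
        · rw [card_map_of_injective C.subtype_injective, hX]
        · rw [← hX, (map_eq_bot_iff_of_injective _ C.subtype_injective).1 h, card_bot]
      exact fun X Y hX hY => map_subtype_inj.1 ((key X hX).trans (key Y hY).symm)
    haveI : IsCyclic N := isCyclic_of_prime_card hp.symm
    let φ : F →* MulAut N := MulAut.conjNormal
    have hker : φ.ker = C := by
      ext x
      rw [MonoidHom.mem_ker, hC, mem_centralizer_iff]
      constructor
      · intro h y hy
        have := congrArg Subtype.val (DFunLike.congr_fun h ⟨y, hy⟩)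
        simp only [φ, MulAut.conjNormal_apply, MulAut.one_apply] at this
        exact (mul_inv_eq_iff_eq_mul.1 this).symm
      · intro h
        refine MulEquiv.ext fun y => Subtype.ext ?_
        simp only [φ, MulAut.conjNormal_apply, MulAut.one_apply]
        rw [← h y y.2, mul_inv_cancel_right]
    have hidx : C.index ∣ p - 1 := by
      rw [← hker, index_ker]
      refine (φ.range.card_subgroup_dvd_card).trans ?_
      rw [IsCyclic.card_mulAut, ← hp, Nat.totient_prime hpN]
    by_cases hcy : IsCyclic C
    · refine Or.inr (Or.inl ⟨hHNeq, hpN, hcy, ?_, ?_, hidx⟩)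
      · obtain ⟨k, hk⟩ := hCp.exists_card_eq
        refine ⟨k, ?_, hk⟩
        rcases Nat.eq_zero_or_pos k with rfl | h
        · exact absurd (Subgroup.card_eq_one.1 (by rw [hk, pow_zero])) hC1
        · exact h
      · haveI : IsCyclic (MulAut N) := by
          have := (ZMod.isCyclic_units_prime (hp ▸ hpN) : IsCyclic (ZMod (Nat.card N))ˣ)
          exact (IsCyclic.mulAutMulEquiv N).isCyclic.2 this
        obtain ⟨⟨_, g, rfl⟩, hg⟩ := IsCyclic.exists_generator (α := φ.range)
        refine ⟨g, eq_top_iff.2 fun x _ => ?_⟩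
        obtain ⟨i, hi⟩ := mem_zpowers_iff.1 (hg ⟨φ x, x, rfl⟩)
        have h1 : φ g ^ i = φ x := by simpa using congrArg Subtype.val hi
        have h2 : x * (g ^ i)⁻¹ ∈ C := by
          rw [← hker, MonoidHom.mem_ker, map_mul, map_inv, map_zpow, h1, mul_inv_cancel]
        have h3 := mul_mem_sup h2 (zpow_mem (mem_zpowers g) i)
        simpa using h3
    · rcases CfsgLib.Solvable.isCyclic_or_quaternion_of_unique hCp huniq with h | ⟨h2, -⟩
      · exact absurd h hcy
      have hCtop : C = ⊤ := by
        rw [h2] at hidx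
        exact index_eq_one.1 (Nat.dvd_one.1 hidx)
      have hC2 : IsPGroup 2 C := h2 ▸ hCp
      rcases CfsgLib.StructC.isCyclic_or_quaternion hC2 (fun a b ha hb _ => by
          have hz : zpowers a = zpowers b := huniq _ _ (by rw [Nat.card_zpowers, ha, h2]) (by rw [Nat.card_zpowers, hb, h2])
          rw [hz]; exact mem_zpowers b) with h | ⟨k, hk, ⟨e⟩⟩
      · exact absurd h hcy
      · exact Or.inr (Or.inr ⟨hHNeq, h2, hCtop, k, hk,
          ⟨(topEquiv.symm.trans (MulEquiv.subgroupCongr hCtop.symm)).trans e⟩⟩)

end Cfsg.Agent.S3025
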