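import Cfsg.Statements.S3027
import Cfsg.Agent.Lib.Comp.Normalize
import Mathlib.GroupTheory.Commutator.Basic
import Mathlib.GroupTheory.IsSubnormal

set_option autoImplicit false
open Cfsg

namespace Cfsg.Agent.S3027

/-- Let G be a finite group and D a normal subgroup of G such that G/D is perfect (that is, G = G′D). Then among the subnormal subgroups B of G with BD = G there is a least one, and it is normal in G. -/
theorem result {G : Type*} [Group G] [Finite G] (D : Subgroup G) [D.Normal] (hperf : ⁅(⊤ : Subgroup G), (⊤ : Subgroup G)⁆ ⊔ D = ⊤) :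
    ∃ B : Subgroup G, B.Normal ∧ B ⊔ D = ⊤ ∧ ∀ B' : Subgroup G, B'.IsSubnormal → B' ⊔ D = ⊤ → B ≤ B' := by
  classical
  -- products of two normal supplements
  have hmapperf : ⁅(⊤ : Subgroup G).map (QuotientGroup.mk' D), (⊤ : Subgroup G).map (QuotientGroup.mk' D)⁆ =
      (⊤ : Subgroup G).map (QuotientGroup.mk' D) := by
    have := congrArg (Subgroup.map (QuotientGroup.mk' D)) hperf
    rwa [Subgroup.map_sup, QuotientGroup.map_mk'_self, sup_bot_eq, Subgroup.map_commutator] at this
  have hmap : ∀ A : Subgroup G, A ⊔ D = ⊤ → A.map (QuotientGroup.mk' D) = (⊤ : Subgroup G).map (QuotientGroup.mk' D) := by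
    intro A hA
    rw [← hA, Subgroup.map_sup, QuotientGroup.map_mk'_self, sup_bot_eq]
  have hcom : ∀ A B : Subgroup G, A ⊔ D = ⊤ → B ⊔ D = ⊤ → ⁅A, B⁆ ⊔ D = ⊤ := by
    intro A B hA hB
    rw [← QuotientGroup.ker_mk' D, ← Subgroup.comap_map_eq, Subgroup.map_commutator, hmap A hA, hmap B hB,
      hmapperf, Subgroup.comap_map_eq, top_sup_eq]
  obtain ⟨B₀, ⟨hB₀n, hB₀⟩, hmin⟩ := Set.Finite.exists_minimal
    (s := {B : Subgroup G | B.Normal ∧ B ⊔ D = ⊤}) (Set.toFinite _) ⟨⊤, inferInstance, top_sup_eq _⟩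
  -- no proper subgroup normalized by `B₀` supplements `D`
  have hleast : ∀ C : Subgroup G, C ≤ B₀ → B₀ ≤ Subgroup.normalizer (C : Set G) → C ⊔ D = ⊤ → C = B₀ := by
    intro C hCB hBC hC
    haveI := Fintype.ofFinite G
    have hconjn : ∀ g : G, C.map (MulAut.conj g).toMonoidHom ≤ B₀ ∧
        B₀ ≤ Subgroup.normalizer ((C.map (MulAut.conj g).toMonoidHom : Subgroup G) : Set G) ∧
        C.map (MulAut.conj g).toMonoidHom ⊔ D = ⊤ := by
      intro g
      haveI := hB₀n
      have hfix : ∀ N : Subgroup G, N.Normal → N.map (MulAut.conj g).toMonoidHom = N := fun N hN =>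
        CfsgLib.Comp.map_conj_eq_iff.2 (by rw [Subgroup.normalizer_eq_top]; trivial)
      refine ⟨(Subgroup.map_mono hCB).trans (hfix B₀ hB₀n).le, ?_, ?_⟩
      · rw [← hfix B₀ hB₀n]
        exact (Subgroup.map_mono hBC).trans (Subgroup.le_normalizer_map _)
      · rw [← hfix D inferInstance, ← Subgroup.map_sup, hC, Subgroup.map_top_of_surjective _ (MulAut.conj g).surjective]
    set I := Finset.univ.inf fun g : G => C.map (MulAut.conj g).toMonoidHom with hI
    have hkey : ∀ T : Finset G, T.Nonempty → (T.inf fun g : G => C.map (MulAut.conj g).toMonoidHom) ≤ B₀ ∧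
        B₀ ≤ Subgroup.normalizer (((T.inf fun g : G => C.map (MulAut.conj g).toMonoidHom) : Subgroup G) : Set G) ∧
        (T.inf fun g : G => C.map (MulAut.conj g).toMonoidHom) ⊔ D = ⊤ := by
      intro T hT
      induction hT using Finset.Nonempty.cons_induction with
      | singleton g => simpa using hconjn g
      | cons g T hgT hT ih =>
        rw [Finset.cons_eq_insert, Finset.inf_insert]
        obtain ⟨a1, a2, a3⟩ := hconjn g
        obtain ⟨b1, b2, b3⟩ := ih
        refine ⟨inf_le_left.trans a1, CfsgLib.Comp.le_normalizer_inf a2 b2, eq_top_iff.2 ?_⟩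
        rw [← hcom _ _ a3 b3]
        exact sup_le_sup_right (le_inf (Subgroup.le_normalizer_iff_commutator_le_left.1 (b1.trans a2))
          (Subgroup.le_normalizer_iff_commutator_le_right.1 (a1.trans b2))) D
    have hIn : I.Normal := by
      refine ⟨fun x hx a => ?_⟩
      rw [hI, ← SetLike.mem_coe, Finset.inf_eq_iInf] at hx ⊢
      simp only [SetLike.mem_coe, Subgroup.mem_iInf] at hx ⊢
      intro g hg
      obtain ⟨c, hc, e⟩ := hx (a⁻¹ * g) (Finset.mem_univ _)
      refine ⟨c, hc, ?_⟩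
      rw [← e]
      simp [mul_assoc]
    have hIle : I ≤ C := (Finset.inf_le (Finset.mem_univ 1)).trans (le_of_eq (CfsgLib.Comp.map_conj_one C))
    exact le_antisymm hCB ((hmin ⟨hIn, (hkey _ ⟨1, Finset.mem_univ _⟩).2.2⟩ (hIle.trans hCB)).trans hIle)
  refine ⟨B₀, hB₀n, hB₀, fun B' hB' => ?_⟩
  induction hB' with
  | top => exact fun _ => le_top
  | step H K hle _ hn ih =>
    intro hH
    have hK : B₀ ≤ K := ih (eq_top_iff.2 (hH ▸ sup_le_sup_right hle D))
    have hnH : B₀ ≤ Subgroup.normalizer (H : Set G) :=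
      hK.trans ((Subgroup.normal_subgroupOf_iff_le_normalizer hle).1 hn)
    haveI := hB₀n
    have e := hleast (H ⊓ B₀) inf_le_right (CfsgLib.Comp.le_normalizer_inf hnH Subgroup.le_normalizer)
      (eq_top_iff.2 (hcom H B₀ hH hB₀ ▸ sup_le_sup_right (le_inf
        (Subgroup.le_normalizer_iff_commutator_le_left.1 hnH) (Subgroup.commutator_le_right H B₀)) D))
    exact e ▸ inf_le_left

end Cfsg.Agent.S3027
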