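import Cfsg.Statements.S3036
import Cfsg.Agent.Lib.Amalgam.ChermakDelgado

set_option autoImplicit false
open Cfsg

namespace Cfsg.Agent.S3036

/-- Let G be a finite non-abelian simple group and A a proper nontrivial subgroup of G. Then |G| > |A| · |C_G(A)|. In particular |G| > |A|² for every nontrivial abelian subgroup A of G. -/
theorem result {G : Type*} [Group G] [Finite G] [IsSimpleGroup G] (hG : ¬ IsMulCommutative G) (A : Subgroup G) (hA1 : A ≠ ⊥) (hA2 : A ≠ ⊤) : Nat.card A * Nat.card ↥(Subgroup.centralizer (A : Set G)) < Nat.card G := by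
  exact CfsgLib.Amalgam.measure_lt_of_simple hG A hA1 hA2

end Cfsg.Agent.S3036
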