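import Cfsg.Statements.S3037
import Cfsg.Agent.Lib.Amalgam.ChermakDelgado
import Cfsg.Agent.Lib.PLocal.Sylow
import Cfsg.Agent.Lib.Comp.Normalize
import Cfsg.Agent.Lib.Coprime.Basic
import Mathlib.Analysis.SpecialFunctions.Pow.Real

set_option autoImplicit false
open Cfsg

namespace Cfsg.Agent.S3037

/-- Let V and G be subgroups of a finite group with V an elementary abelian p-group (p prime) on which G acts faithfully and irreducibly by conjugation: G normalizes V, G ∩ C(V) = 1, and the only subgroups of V normalized by G are 1 and V. If for some nontrivial subgroup A of G and some real α > 0 one has |V| ≤ |A|^α · |C_V(A)|, then |V| ≤ |G|^α. -/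
theorem result {X : Type*} [Group X] [Finite X] {p : ℕ} [Fact p.Prime] (V G : Subgroup X) (hV : Cfsg.IsElementaryAbelian p V)
    (hGV : G ≤ Subgroup.normalizer (V : Set X)) (hfaith : G ⊓ Subgroup.centralizer (V : Set X) = ⊥)
    (hirr : ∀ W : Subgroup X, W ≤ V → G ≤ Subgroup.normalizer (W : Set X) → W = ⊥ ∨ W = V)
    (A : Subgroup X) (hA : A ≤ G) (hA1 : A ≠ ⊥) (α : ℝ) (hα : 0 < α)
    (hbig : (Nat.card V : ℝ) ≤ (Nat.card A : ℝ) ^ α * (Nat.card ↥(V ⊓ Subgroup.centralizer (A : Set X)) : ℝ)) :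
    (Nat.card V : ℝ) ≤ (Nat.card G : ℝ) ^ α := by
  classical
  have hα0 := hα.le
  let c : Subgroup X → ℝ := fun B => (Nat.card ↥(V ⊓ Subgroup.centralizer (B : Set X)) : ℝ)
  let f : Subgroup X → ℝ := fun B => (Nat.card B : ℝ) ^ α * c B
  have hfpos : ∀ B, 0 < f B := fun B => mul_pos (Real.rpow_pos_of_pos (by exact_mod_cast Nat.card_pos) α)
    (by show (0 : ℝ) < (Nat.card _ : ℝ); exact_mod_cast Nat.card_pos)
  have hsub : ∀ B D : Subgroup X, f B * f D ≤ f (B ⊔ D) * f (B ⊓ D) := by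
    intro B D
    have h1 : (Nat.card B : ℝ) * Nat.card D ≤ Nat.card (B ⊔ D : Subgroup X) * Nat.card (B ⊓ D : Subgroup X) := by
      exact_mod_cast CfsgLib.Amalgam.card_mul_card_le B D
    have h2 : c B * c D ≤ c (B ⊔ D) * c (B ⊓ D) := by
      have h3 := CfsgLib.Amalgam.card_mul_card_le (V ⊓ Subgroup.centralizer (B : Set X)) (V ⊓ Subgroup.centralizer (D : Set X))
      have h4 : (V ⊓ Subgroup.centralizer (B : Set X)) ⊔ (V ⊓ Subgroup.centralizer (D : Set X)) ≤
          V ⊓ Subgroup.centralizer ((B ⊓ D : Subgroup X) : Set X) :=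
        sup_le (inf_le_inf_left V (Subgroup.centralizer_le fun x hx => hx.1))
          (inf_le_inf_left V (Subgroup.centralizer_le fun x hx => hx.2))
      have h5 : (V ⊓ Subgroup.centralizer (B : Set X)) ⊓ (V ⊓ Subgroup.centralizer (D : Set X)) =
          V ⊓ Subgroup.centralizer ((B ⊔ D : Subgroup X) : Set X) := by
        rw [CfsgLib.Amalgam.centralizer_sup, inf_inf_inf_comm, inf_idem]
      rw [h5] at h3
      have h6 := h3.trans (Nat.mul_le_mul_right _ (Subgroup.card_le_of_le h4))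
      rw [mul_comm (Nat.card ↥(V ⊓ Subgroup.centralizer ((B ⊓ D : Subgroup X) : Set X)))] at h6
      show (Nat.card _ : ℝ) * (Nat.card _ : ℝ) ≤ (Nat.card _ : ℝ) * (Nat.card _ : ℝ)
      exact_mod_cast h6
    show (Nat.card B : ℝ) ^ α * c B * ((Nat.card D : ℝ) ^ α * c D) ≤
      (Nat.card (B ⊔ D : Subgroup X) : ℝ) ^ α * c (B ⊔ D) *
        ((Nat.card (B ⊓ D : Subgroup X) : ℝ) ^ α * c (B ⊓ D))
    rw [mul_mul_mul_comm, mul_mul_mul_comm ((Nat.card (B ⊔ D : Subgroup X) : ℝ) ^ α),
      ← Real.mul_rpow (Nat.cast_nonneg _) (Nat.cast_nonneg _),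
      ← Real.mul_rpow (Nat.cast_nonneg _) (Nat.cast_nonneg _)]
    refine mul_le_mul (Real.rpow_le_rpow (mul_nonneg (Nat.cast_nonneg _) (Nat.cast_nonneg _)) h1 hα0) h2
      (mul_nonneg (Nat.cast_nonneg _) (Nat.cast_nonneg _))
      (Real.rpow_nonneg (mul_nonneg (Nat.cast_nonneg _) (Nat.cast_nonneg _)) _)
  obtain ⟨U, hUG, hU⟩ := Set.Finite.exists_maximalFor f {B : Subgroup X | B ≤ G} (Set.toFinite _) ⟨A, hA⟩
  have hmax : ∀ B, B ≤ G → f B ≤ f U := fun B hB => (le_total (f B) (f U)).elim id fun h => hU hB h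
  let S : Set (Subgroup X) := {B | B ≤ G ∧ f B = f U}
  have hsup : ∀ B D, B ∈ S → D ∈ S → B ⊔ D ∈ S := by
    rintro B D ⟨hB, hBe⟩ ⟨hD, hDe⟩
    refine ⟨sup_le hB hD, le_antisymm (hmax _ (sup_le hB hD)) ?_⟩
    have h1 := hsub B D
    rw [hBe, hDe] at h1
    nlinarith [hmax _ (inf_le_left.trans hB : B ⊓ D ≤ G), hfpos (B ⊔ D), hfpos U]
  have hM : sSup S ∈ S := CfsgLib.Amalgam.sSup_large (P := fun B => B ∈ S) hsup ⟨U, hUG, rfl⟩ fun _ h => h
  set M := sSup S with hMdef
  have hMn : G ≤ Subgroup.normalizer (M : Set X) := by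
    intro g hg
    have hmG : ∀ g ∈ G, M.map (MulAut.conj g).toMonoidHom ≤ M := by
      intro g hg
      refine le_sSup ⟨?_, ?_⟩
      · rintro _ ⟨m, hm, rfl⟩
        exact mul_mem (mul_mem hg (hM.1 hm)) (inv_mem hg)
      · rw [← hM.2]
        have hV' := CfsgLib.Coprime.map_conj_of_mem_normalizer (hGV hg)
        show (Nat.card _ : ℝ) ^ α * (Nat.card _ : ℝ) = _
        rw [CfsgLib.Coprime.card_map_conj]
        have e : V ⊓ Subgroup.centralizer ((M.map (MulAut.conj g).toMonoidHom : Subgroup X) : Set X) =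
            (V ⊓ Subgroup.centralizer (M : Set X)).map (MulAut.conj g).toMonoidHom := by
          rw [Subgroup.map_inf _ _ _ (MulAut.conj g).injective, hV']
          congr 1
          ext x
          rw [CfsgLib.Coprime.mem_map_conj]
          constructor
          · intro hx m hm
            have := hx _ ⟨m, hm, rfl⟩
            simp only [MulEquiv.coe_toMonoidHom, MulAut.conj_apply] at this
            calc m * (g⁻¹ * x * g) = g⁻¹ * (g * m * g⁻¹ * x) * g := by group
              _ = _ := by rw [this]; group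
          · rintro hx _ ⟨m, hm, rfl⟩
            have := hx m hm
            show g * m * g⁻¹ * x = x * (g * m * g⁻¹)
            calc g * m * g⁻¹ * x = g * (m * (g⁻¹ * x * g)) * g⁻¹ := by group
              _ = _ := by rw [this]; group
        rw [e, CfsgLib.Coprime.card_map_conj]
    exact CfsgLib.PLocal.mem_normalizer_map_conj.2
      (Subgroup.eq_of_le_of_card_ge (hmG g hg) (CfsgLib.Coprime.card_map_conj g M).ge)
  have hVU : (Nat.card V : ℝ) ≤ f U := hbig.trans (hmax A hA)
  have hW := hirr (V ⊓ Subgroup.centralizer (M : Set X)) inf_le_left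
    ((le_inf hGV (hMn.trans (CfsgLib.Comp.normalizer_le_normalizer_centralizer M))).trans
      Subgroup.inf_normalizer_le_normalizer_inf)
  rcases hW with h | h
  · have hc1 : c M = 1 := by
      show (Nat.card _ : ℝ) = 1
      rw [h, Subgroup.card_bot, Nat.cast_one]
    refine hVU.trans (hM.2 ▸ ?_)
    show (Nat.card M : ℝ) ^ α * c M ≤ _
    rw [hc1, mul_one]
    exact Real.rpow_le_rpow (Nat.cast_nonneg _) (by exact_mod_cast Subgroup.card_le_of_le hM.1) hα0
  · exfalso
    have hM1 : M = ⊥ := le_bot_iff.1 (hfaith ▸ le_inf hM.1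
      (Subgroup.le_centralizer_iff.1 (inf_eq_left.1 h)))
    have hfM : f M = Nat.card V := by
      show (Nat.card M : ℝ) ^ α * (Nat.card _ : ℝ) = _
      rw [h, hM1, Subgroup.card_bot, Nat.cast_one, Real.one_rpow, one_mul]
    have hAS : A ∈ S := ⟨hA, le_antisymm (hmax A hA) (hM.2 ▸ hfM.le.trans hbig)⟩
    exact hA1 (le_bot_iff.1 (hM1 ▸ le_sSup hAS))

end Cfsg.Agent.S3037
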