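import Cfsg.Statements.S3049
import Cfsg.Agent.Lib.Comp.FStar
import Cfsg.Agent.Lib.Amalgam.SubnormalSylow
import Cfsg.Agent.Lib.OddLocal.Stab
import Cfsg.Agent.Lib.Transfer.Frobenius
import Cfsg.Agent.Lib.Transfer.Basic
import Cfsg.Agent.Lib.Solvable.HallHigman
import Cfsg.Agent.Lib.Solvable.PCore

set_option autoImplicit false
open Cfsg

namespace Cfsg.Agent.S3049

open Subgroup

variable {G : Type*} [Group G] [Finite G] {p : ℕ} [Fact p.Prime]

theorem sylow_commute (x : G) (hiso : Cfsg.IsIsolated x) (P : Subgroup G) (hP : IsPGroup p P) (hxmem : x ∈ P) :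
    ∀ u ∈ P, u * x = x * u := by
  intro u hu
  by_contra hne
  have hC : P ⊓ centralizer ({x} : Set G) < P := lt_of_le_not_ge inf_le_left fun h =>
    hne (mem_centralizer_singleton_iff.1 (h hu).2)
  obtain ⟨n, hn, hnn, hnC⟩ := CfsgLib.Transfer.exists_mem_normalizer_not_mem hP hC
  apply hnC
  refine ⟨hn, mem_centralizer_singleton_iff.2 (mul_inv_eq_iff_eq_mul.1 (hiso n ?_))⟩
  exact (mem_centralizer_singleton_iff.1 ((mem_normalizer_iff.1 hnn x).1 ⟨hxmem, mem_centralizer_singleton_iff.2 rfl⟩).2).symm

omit [Fact p.Prime] in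
theorem dvd_card_component (hcore : Cfsg.pPrimeCore p G = ⊥) (hp : p.Prime) {K : Subgroup G}
    (hK : Cfsg.IsComponent K) : p ∣ Nat.card K := by
  by_contra hd
  have hKE : K ≤ Cfsg.layer G := CfsgLib.Comp.le_layer hK
  haveI := CfsgLib.Comp.layer_normal G
  haveI := CfsgLib.Solvable.pPrimeCore_characteristic p ↥(Cfsg.layer G)
  have hle : (Cfsg.pPrimeCore p ↥(Cfsg.layer G)).map (Cfsg.layer G).subtype ≤ ⊥ := hcore ▸
    CfsgLib.Solvable.le_pPrimeCore inferInstance
      (by rw [CfsgLib.Solvable.card_map_subtype]; exact CfsgLib.Solvable.pPrimeCore_coprime p)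
  have hn : (K.subgroupOf (Cfsg.layer G)).Normal :=
    normal_subgroupOf_of_le_normalizer (CfsgLib.Comp.layer_le_normalizer_component hK)
  have h := CfsgLib.Solvable.le_pPrimeCore (p := p) hn (by
    rw [Nat.card_congr (subgroupOfEquivOfLe hKE).toEquiv]; exact (hp.coprime_iff_not_dvd.2 hd).symm)
  have := (map_mono h).trans hle
  rw [map_subgroupOf_eq_of_le hKE, le_bot_iff] at this
  exact CfsgLib.Comp.ne_bot_of_isComponent hK this

theorem center_component_le_fitting {K : Subgroup G} (hK : Cfsg.IsComponent K) :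
    (center ↥K).map K.subtype ≤ Cfsg.fittingSubgroup G := by
  refine CfsgLib.Comp.le_fittingSubgroup_of_abelian ?_ ?_
  · exact (Normal.isSubnormal inferInstance : (center ↥K).IsSubnormal).trans' hK.1
  · rintro _ ⟨b, hb, rfl⟩ _ ⟨a, ha, rfl⟩
    exact congrArg Subtype.val (mem_center_iff.1 hb a)

/-- A component in which every element of order `p` is a power of `x` times an element centralizing
`K` and `x` cannot exist. -/
theorem no_component (hp : p ≠ 2) (hcore : Cfsg.pPrimeCore p G = ⊥) (hrank : Cfsg.PRankLE p 2 G) (x : G)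
    (hx : orderOf x = p) (hiso : Cfsg.IsIsolated x) (S : Sylow p G) (hxS : x ∈ (S : Subgroup G))
    {K : Subgroup G} (hK : Cfsg.IsComponent K) (z : G) (hzS : z ∈ (S : Subgroup G)) (hz : orderOf z = p)
    (hzK : ∀ k ∈ K, z * k = k * z) (hzx : z ∉ zpowers x) : False := by
  classical
  have hpp : p.Prime := Fact.out
  have hxc := sylow_commute x hiso _ S.2 hxS
  -- elements of order `p` of the Sylow subgroup of `K`
  have hW : ∀ u ∈ (S : Subgroup G), u ∈ K → u ^ p = 1 → ∃ i j : ℤ, u = x ^ i * z ^ j := by
    intro u hu huK hup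
    set W := closure ({x, z, u} : Set G) with hW
    have hWc : IsMulCommutative W := by
      rw [← le_centralizer_iff_isMulCommutative, hW, centralizer_closure, closure_le]
      intro a ha
      rw [SetLike.mem_coe, mem_centralizer_iff]
      intro b hb
      rcases ha with rfl | rfl | rfl <;> rcases hb with rfl | rfl | rfl
      · rfl
      · exact hxc b hzS
      · exact hxc b hu
      · exact (hxc a hzS).symm
      · rfl
      · exact (hzK b huK).symm
      · exact (hxc a hu).symm
      · exact hzK a huK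
      · rfl
    have hWp : ∀ w ∈ W, w ^ p = 1 := by
      intro w hw
      induction hw using closure_induction with
      | mem a ha =>
        rcases ha with rfl | rfl | rfl
        · rw [← hx, pow_orderOf_eq_one]
        · rw [← hz, pow_orderOf_eq_one]
        · exact hup
      | one => exact one_pow p
      | mul a b ha hb iha ihb =>
        rw [(show Commute a b from congrArg Subtype.val (hWc.is_comm.comm (⟨a, ha⟩ : W) ⟨b, hb⟩)).mul_pow,
          iha, ihb, one_mul]
      | inv a ha iha => rw [inv_pow, iha, inv_one]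
    have hle : zpowers x ⊔ zpowers z ≤ W := sup_le (zpowers_le.2 (subset_closure (Set.mem_insert _ _)))
      (zpowers_le.2 (subset_closure (Set.mem_insert_of_mem _ (Set.mem_insert _ _))))
    have hnorm : zpowers z ≤ normalizer (zpowers x : Set G) := by
      refine zpowers_le.2 (centralizer_le_normalizer _ (mem_centralizer_iff.2 ?_))
      rintro _ ⟨i, rfl⟩
      exact ((show Commute x z from (hxc z hzS).symm).zpow_left i).eq
    have hdis : zpowers x ⊓ zpowers z = ⊥ := by
      haveI : Fact (Nat.card (zpowers z)).Prime := ⟨by rw [Nat.card_zpowers, hz]; exact hpp⟩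
      rcases ((zpowers x).subgroupOf (zpowers z)).eq_bot_or_eq_top_of_prime_card with h | h
      · rwa [subgroupOf_eq_bot, disjoint_iff] at h
      · exact absurd (subgroupOf_eq_top.1 h (mem_zpowers z)) hzx
    have hcard : p ^ 2 ≤ Nat.card ↥(zpowers x ⊔ zpowers z) := by
      let f : zpowers x × zpowers z → ↥(zpowers x ⊔ zpowers z) := fun a =>
        ⟨a.1 * a.2, mul_mem (mem_sup_left a.1.2) (mem_sup_right a.2.2)⟩
      have hf : Function.Injective f := by
        rintro ⟨a, b⟩ ⟨a', b'⟩ h
        have h' : (a : G) * b = a' * b' := congrArg Subtype.val h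
        have hmem : (a' : G)⁻¹ * a ∈ zpowers x ⊓ zpowers z := ⟨(mul_mem (inv_mem a'.2) a.2 : (a' : G)⁻¹ * a ∈ zpowers x), by
          have e : (a' : G)⁻¹ * a = b' * (b : G)⁻¹ := by
            have := congrArg (fun t => (a' : G)⁻¹ * t * (b : G)⁻¹) h'
            simpa [mul_assoc] using this
          rw [e]; exact (mul_mem b'.2 (inv_mem b.2) : (b' : G) * (b : G)⁻¹ ∈ zpowers z)⟩
        rw [hdis, Subgroup.mem_bot, inv_mul_eq_one] at hmem
        rw [hmem] at h'
        exact Prod.ext (Subtype.ext hmem.symm) (Subtype.ext (mul_left_cancel h'))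
      refine le_trans ?_ (Nat.card_le_card_of_injective f hf)
      rw [Nat.card_prod, Nat.card_zpowers, Nat.card_zpowers, hx, hz, pow_two]
    have heq : zpowers x ⊔ zpowers z = W := eq_of_le_of_card_ge hle ((hrank W hWc hWp).trans hcard)
    have hu' : u ∈ zpowers x ⊔ zpowers z :=
      heq ▸ subset_closure (Set.mem_insert_of_mem _ (Set.mem_insert_of_mem _ rfl))
    rw [← SetLike.mem_coe, coe_mul_of_right_le_normalizer_left _ _ hnorm] at hu'
    obtain ⟨_, ⟨i, rfl⟩, _, ⟨j, rfl⟩, rfl⟩ := hu'
    exact ⟨i, j, rfl⟩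
  obtain ⟨T, hT⟩ := CfsgLib.Amalgam.exists_sylow_subnormal S hK.1
  have hTS : ∀ d ∈ (T : Subgroup ↥K), (d : G) ∈ (S : Subgroup G) := fun d hd => by
    rw [hT, mem_subgroupOf] at hd; exact hd
  have hnil : Cfsg.HasNormalPComplement p ↥K := by
    rw [CfsgLib.Transfer.hasNormalPComplement_iff_frobenius]
    intro D hD g hg hgp
    obtain ⟨T', hT'⟩ := hD.exists_le_sylow
    obtain ⟨k, hk⟩ := MulAction.exists_smul_eq ↥K T' T
    set D' := D.map (MulAut.conj k).toMonoidHom with hD'
    have hD'T : D' ≤ (T : Subgroup ↥K) := by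
      rw [← hk]
      rintro _ ⟨d, hd, rfl⟩
      exact ⟨d, hT' hd, rfl⟩
    set g' := k * g * k⁻¹ with hg'
    have hg'D : g' ∈ normalizer (D' : Set ↥K) := by
      have h := le_normalizer_map (MulAut.conj k).toMonoidHom (H := D) ⟨g, hg, rfl⟩
      exact h
    have hord : orderOf g' = orderOf g := MulEquiv.orderOf_eq (MulAut.conj k) g
    have hA : zpowers g' ≤ centralizer (D' : Set ↥K) := by
      refine CfsgLib.OddLocal.le_centralizer_of_fixes_order_p (p := p) hp (hD.map _) (zpowers_le.2 hg'D)
        (by rw [Nat.card_zpowers, hord]; exact hgp) ?_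
      intro u hu hup a ha
      have hau : a * u * a⁻¹ ∈ D' := (mem_normalizer_iff.1 (zpowers_le.2 hg'D ha) u).1 hu
      obtain ⟨i, j, hij⟩ := hW u (hTS u (hD'T hu)) u.2 (by rw [← coe_pow, hup]; rfl)
      have hcz : (a : G) * z ^ j * (a : G)⁻¹ = z ^ j := by
        rw [← conj_zpow, ← hzK _ a.2, mul_inv_cancel_right]
      have hconj : (a : G) * (u : G) * (a : G)⁻¹ = (a * x * (a : G)⁻¹) ^ i * z ^ j := by
        rw [hij, conj_zpow]
        conv_rhs => rw [← hcz]
        group
      apply Subtype.ext
      show (a : G) * (u : G) * (a : G)⁻¹ = (u : G)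
      by_cases hip : (p : ℤ) ∣ i
      · obtain ⟨c, rfl⟩ := hip
        have h1 : x ^ ((p : ℤ) * c) = 1 := by rw [zpow_mul, zpow_natCast, ← hx, pow_orderOf_eq_one, one_zpow]
        rw [h1, one_mul] at hij
        rw [hij]; exact hcz
      · have hSmem : (a : G) * (u : G) * (a : G)⁻¹ ∈ (S : Subgroup G) := hTS _ (hD'T hau)
        rw [hconj] at hSmem
        have hi' : (a * x * (a : G)⁻¹) ^ i ∈ (S : Subgroup G) := by
          simpa using mul_mem hSmem (inv_mem (zpow_mem hzS j))
        obtain ⟨c, d, hcd⟩ : IsCoprime i (p : ℤ) :=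
          ((Nat.prime_iff_prime_int.1 hpp).coprime_iff_not_dvd.2 hip).symm
        have haxS : a * x * (a : G)⁻¹ ∈ (S : Subgroup G) := by
          have hp1 : (a * x * (a : G)⁻¹) ^ (p : ℤ) = 1 := by
            rw [zpow_natCast, conj_pow, ← hx, pow_orderOf_eq_one, mul_one, mul_inv_cancel]
          have e : a * x * (a : G)⁻¹ = ((a * x * (a : G)⁻¹) ^ i) ^ c := by
            rw [← zpow_mul, show i * c = 1 + (p : ℤ) * (-d) by linarith [mul_comm c i, mul_comm d (p:ℤ)],
              zpow_add, zpow_one, zpow_mul, hp1, one_zpow, mul_one]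
          rw [e]; exact zpow_mem hi' c
        have hfix := hiso (a : G) (hxc _ haxS).symm
        rw [hconj, hfix, hij]
    rw [mem_centralizer_iff]
    intro d hd
    have h := mem_centralizer_iff.1 (hA (mem_zpowers g')) (k * d * k⁻¹) ⟨d, hd, rfl⟩
    have h' := congrArg (fun t => k⁻¹ * t * k) h
    simpa [g', mul_assoc] using h'
  obtain ⟨N, hN, hNc, hq⟩ := CfsgLib.Transfer.hasNormalPComplement_iff_exists.1 hnil
  haveI := hN
  have hperf : _root_.commutator ↥K = ⊤ := by
    have h := CfsgLib.Comp.commutator_self_of_isComponent hK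
    apply map_injective K.subtype_injective
    rw [_root_.commutator_def, map_commutator, ← MonoidHom.range_eq_map, range_subtype]
    exact h
  have htop : N = ⊤ := by
    by_contra hne
    haveI : Nontrivial (↥K ⧸ N) := by rwa [QuotientGroup.nontrivial_iff]
    haveI : Group.IsNilpotent (↥K ⧸ N) := hq.isNilpotent
    have h := congrArg (Subgroup.map (QuotientGroup.mk' N)) hperf
    rw [_root_.commutator_def, map_commutator, map_top_of_surjective _ (QuotientGroup.mk'_surjective N),
      ← _root_.commutator_def] at h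
    exact (IsSolvable.commutator_lt_top_of_nontrivial (↥K ⧸ N)).ne h
  subst htop
  rw [card_top] at hNc
  exact hpp.coprime_iff_not_dvd.1 hNc.symm (dvd_card_component hcore hpp hK)

/-- Let G be a finite group and p an odd prime with O_{p'}(G) = 1. Suppose that G has p-rank at most 2 (no elementary abelian subgroup of order p³) and that some element x of order p is isolated in G (no G-conjugate of x other than x commutes with x) and not central. Then the generalized Fitting subgroup F*(G) is a non-abelian simple group. Since O_{p'}(G) = 1, such an x is not central modulo O_{p'}(G): the hypotheses describe a counterexample to the Z*_p statement in p-rank at most 2. -/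
theorem result {G : Type*} [Group G] [Finite G] {p : ℕ} [Fact p.Prime] (hp : p ≠ 2) (hcore : Cfsg.pPrimeCore p G = ⊥)
    (hrank : Cfsg.PRankLE p 2 G) (x : G) (hx : orderOf x = p) (hiso : Cfsg.IsIsolated x) (hnc : x ∉ Subgroup.center G) :
    IsSimpleGroup ↥(Cfsg.generalizedFittingSubgroup G) ∧ ¬ IsMulCommutative ↥(Cfsg.generalizedFittingSubgroup G) := by
  classical
  have hpp : p.Prime := Fact.out
  obtain ⟨S, hxS⟩ := (IsPGroup.of_card (n := 1) (show Nat.card (zpowers x) = p ^ 1 by
    rw [Nat.card_zpowers, hx, pow_one])).exists_le_sylow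
  rw [zpowers_le] at hxS
  have hxc := sylow_commute x hiso _ S.2 hxS
  have hFO := CfsgLib.Solvable.fittingSubgroup_eq_pCore p hcore
  haveI := CfsgLib.Solvable.pCore_normal p G
  have hOS := CfsgLib.Solvable.pCore_le_sylow (p := p) S
  have hxO : x ∉ Cfsg.pCore p G := fun h => hnc (mem_center_iff.2 fun g =>
    mul_inv_eq_iff_eq_mul.1 (hiso g (hxc _ (hOS (Normal.conj_mem inferInstance x h g))).symm))
  -- there is a component
  obtain ⟨K, hK⟩ : ∃ K, Cfsg.IsComponent (G := G) K := by
    by_contra hno
    push Not at hno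
    have hlayer : Cfsg.layer G = ⊥ := by
      refine eq_bot_iff.2 (sSup_le fun K hK => absurd hK (hno K))
    have h := CfsgLib.Comp.centralizer_generalizedFitting_le G
    rw [Cfsg.generalizedFittingSubgroup, hlayer, bot_sup_eq, hFO] at h
    exact hxO (h (mem_centralizer_iff.2 fun o ho => hxc o (hOS ho)))
  -- no normal `p`-subgroup
  have hObot : Cfsg.pCore p G = ⊥ := by
    by_contra hne
    obtain ⟨z, hz⟩ : ∃ z : Cfsg.pCore p G, orderOf z = p := by
      obtain ⟨k, hk⟩ := (CfsgLib.Solvable.pCore_isPGroup (G := G) p).exists_card_eq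
      refine exists_prime_orderOf_dvd_card' p ?_
      rcases k with - | k
      · rw [pow_zero, card_eq_one] at hk; exact absurd hk hne
      · rw [hk]; exact dvd_pow_self p (Nat.succ_ne_zero k)
    have hKO : K ≤ centralizer (Cfsg.pCore p G : Set G) :=
      CfsgLib.Comp.component_le_centralizer_of_isSolvable hK (Normal.isSubnormal inferInstance)
        (by haveI := (CfsgLib.Solvable.pCore_isPGroup (G := G) p).isNilpotent; infer_instance)
    refine no_component hp hcore hrank x hx hiso S hxS hK z (hOS z.2) (by rw [Subgroup.orderOf_coe, hz])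
      (fun k hk => mem_centralizer_iff.1 (hKO hk) z z.2) fun hzx => hxO ?_
    obtain ⟨i, hi⟩ := hzx
    haveI : Fact (Nat.card (zpowers x)).Prime := ⟨by rw [Nat.card_zpowers, hx]; exact hpp⟩
    rcases ((zpowers (z : G)).subgroupOf (zpowers x)).eq_bot_or_eq_top_of_prime_card with h | h
    · rw [subgroupOf_eq_bot, disjoint_iff] at h
      have hz1 : (z : G) ∈ zpowers (z : G) ⊓ zpowers x := ⟨mem_zpowers _, i, hi⟩
      rw [h, Subgroup.mem_bot] at hz1
      have h' := Subgroup.orderOf_coe z
      rw [hz1, orderOf_one, hz] at h'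
      exact absurd h'.symm hpp.ne_one
    · exact (zpowers_le.2 z.2) (subgroupOf_eq_top.1 h (mem_zpowers x))
  rw [hObot] at hFO
  have hZ : ∀ L : Subgroup G, Cfsg.IsComponent L → center ↥L = ⊥ := fun L hL => by
    have h := center_component_le_fitting hL
    rwa [hFO, le_bot_iff, map_eq_bot_iff_of_injective _ L.subtype_injective] at h
  -- only one component
  have hone : ∀ L : Subgroup G, Cfsg.IsComponent L → L = K := by
    by_contra hall
    push Not at hall
    obtain ⟨L, hL, hne⟩ := hall
    have key : ∀ K L : Subgroup G, Cfsg.IsComponent K → Cfsg.IsComponent L → K ≠ L → x ∉ L → False := by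
      intro K L hK hL hKL hxL
      obtain ⟨T, hT⟩ := CfsgLib.Amalgam.exists_sylow_subnormal S hL.1
      obtain ⟨k, hk⟩ := T.2.exists_card_eq
      obtain ⟨z, hz⟩ : ∃ z : (T : Subgroup ↥L), orderOf z = p := by
        refine exists_prime_orderOf_dvd_card' p ?_
        rcases k with - | k
        · exfalso
          have h := T.ne_bot_of_dvd_card (dvd_card_component hcore hpp hL)
          rw [pow_zero, card_eq_one] at hk
          exact h hk
        · rw [hk]; exact dvd_pow_self p (Nat.succ_ne_zero k)
      have hzS : ((z : ↥L) : G) ∈ (S : Subgroup G) := by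
        exact (mem_subgroupOf.1 (hT.le z.2) : _)
      have hzo : orderOf ((z : ↥L) : G) = p := by rw [Subgroup.orderOf_coe, Subgroup.orderOf_coe, hz]
      have hKC := (CfsgLib.Comp.component_eq_or_le_centralizer hK hL).resolve_left hKL
      refine no_component hp hcore hrank x hx hiso S hxS hK _ hzS hzo
        (fun k hk => mem_centralizer_iff.1 (hKC hk) _ (z : ↥L).2) fun hzx => hxL ?_
      obtain ⟨i, hi⟩ := hzx
      haveI : Fact (Nat.card (zpowers x)).Prime := ⟨by rw [Nat.card_zpowers, hx]; exact hpp⟩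
      rcases ((zpowers ((z : ↥L) : G)).subgroupOf (zpowers x)).eq_bot_or_eq_top_of_prime_card with h | h
      · rw [subgroupOf_eq_bot, disjoint_iff] at h
        have hz1 : ((z : ↥L) : G) ∈ zpowers ((z : ↥L) : G) ⊓ zpowers x := ⟨mem_zpowers _, i, hi⟩
        rw [h, Subgroup.mem_bot] at hz1
        rw [hz1, orderOf_one] at hzo
        exact absurd hzo.symm hpp.ne_one
      · exact (zpowers_le.2 (z : ↥L).2) (subgroupOf_eq_top.1 h (mem_zpowers x))
    by_cases hxL : x ∈ L
    · refine key L K hL hK hne fun hxK => ?_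
      have hc := (CfsgLib.Comp.component_eq_or_le_centralizer hL hK).resolve_left hne
      have hxZ : (⟨x, hxK⟩ : ↥K) ∈ center ↥K := mem_center_iff.2 fun k =>
        Subtype.ext (mem_centralizer_iff.1 (hc hxL) k k.2)
      rw [hZ K hK, Subgroup.mem_bot] at hxZ
      have : x = 1 := congrArg Subtype.val hxZ
      rw [this, orderOf_one] at hx
      exact hpp.ne_one hx.symm
    · exact key K L hK hL (Ne.symm hne) hxL
  have hlayer : Cfsg.layer G = K := le_antisymm (sSup_le fun L hL => (hone L hL).le) (CfsgLib.Comp.le_layer hK)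
  have hF : Cfsg.generalizedFittingSubgroup G = K := by
    rw [Cfsg.generalizedFittingSubgroup, hlayer, hFO, sup_bot_eq]
  rw [hF]
  obtain ⟨hperf, hsimp⟩ := hK.2
  haveI := hsimp
  refine ⟨MulEquiv.isSimpleGroup ((QuotientGroup.quotientBot (G := ↥K)).symm.trans
    (QuotientGroup.quotientMulEquivOfEq (hZ K hK).symm)), fun hab => ?_⟩
  have h : center ↥K = ⊤ := eq_top_iff.2 fun a _ => mem_center_iff.2 fun b => hab.is_comm.comm b a
  rw [hZ K hK] at h
  exact CfsgLib.Comp.not_le_center_of_isQuasisimple hK.2 (fun a ha => by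
    have hb : (⟨a, ha⟩ : ↥K) ∈ (⊥ : Subgroup ↥K) := h ▸ mem_top _
    rw [Subgroup.mem_bot] at hb
    rw [show a = 1 from congrArg Subtype.val hb]
    exact one_mem _)

end Cfsg.Agent.S3049
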