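import Cfsg.Statements.S3038
import Cfsg.Agent.S3049
import Cfsg.Agent.Lib.RankTwoIso.StepB
import Cfsg.Agent.Lib.Amalgam.Isolated
import Cfsg.Agent.Lib.PGroup.CyclicIndex
import Cfsg.Agent.Lib.Comp.FStar

set_option autoImplicit false
open Cfsg

namespace Cfsg.Agent.S3038

open Subgroup
open scoped commutatorElement

theorem rank_of_injective {A B : Type*} [Group A] [Group B] (f : A →* B) (hf : Function.Injective f)
    {p k : ℕ} (h : Cfsg.PRankLE p k B) : Cfsg.PRankLE p k A := by
  intro U hUc hUe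
  rw [← card_map_of_injective (K := U) hf]
  haveI := hUc
  refine h _ inferInstance ?_
  rintro _ ⟨u, hu, rfl⟩
  rw [← map_pow, hUe u hu, map_one]

theorem extraspecial_equiv {p : ℕ} {A B : Type*} [Group A] [Group B] (e : A ≃* B)
    (h : Cfsg.IsExtraspecial p A) : Cfsg.IsExtraspecial p B := by
  have hc : (center A).map e.toMonoidHom = center B := by
    ext b
    constructor
    · rintro ⟨a, ha, rfl⟩
      refine mem_center_iff.mpr fun y => ?_
      obtain ⟨y, rfl⟩ := e.surjective y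
      simp only [MulEquiv.coe_toMonoidHom, ← map_mul, mem_center_iff.mp ha y]
    · intro hb
      refine ⟨e.symm b, mem_center_iff.mpr fun y => e.injective ?_, by simp⟩
      simp [mem_center_iff.mp hb (e y)]
  have hf : (frattini A).map e.toMonoidHom = frattini B := by
    refine le_antisymm (map_le_iff_le_comap.mpr
      (frattini_le_comap_frattini_of_surjective (φ := e.toMonoidHom) e.surjective)) fun b hb => ?_
    exact ⟨e.symm b, frattini_le_comap_frattini_of_surjective (φ := e.symm.toMonoidHom)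
      e.symm.surjective hb, by simp⟩
  refine ⟨⟨h.1.1.of_equiv e, ?_, ?_⟩, ?_⟩
  · rw [← hf, h.1.2.1, hc]
  · rw [← hc, ← h.1.2.2, _root_.commutator_def, _root_.commutator_def, map_commutator,
      map_top_of_surjective e.toMonoidHom e.surjective]
  · rw [← hc, card_map_of_injective e.injective, h.2]

theorem isIsolated_conj {G : Type*} [Group G] {x : G} (hiso : Cfsg.IsIsolated x) (a : G) :
    Cfsg.IsIsolated (a * x * a⁻¹) := by
  intro g hg
  have := hiso (a⁻¹ * g * a) (by
    have h1 := hg.map (MulAut.conj a⁻¹).toMonoidHom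
    simp only [MulEquiv.coe_toMonoidHom, MulAut.conj_apply] at h1
    convert h1 using 1 <;> group)
  calc g * (a * x * a⁻¹) * g⁻¹ = a * (a⁻¹ * g * a * x * (a⁻¹ * g * a)⁻¹) * a⁻¹ := by group
    _ = a * x * a⁻¹ := by rw [this]

theorem cyclic_case {G : Type*} [Group G] [Finite G] {p : ℕ} [Fact p.Prime] (hp : p ≠ 2)
    (hrank : Cfsg.PRankLE p 2 G) {x : G} (hx : orderOf x = p) (hiso : Cfsg.IsIsolated x)
    {K : Subgroup G} (hxK : ∀ g : G, g * x * g⁻¹ ∉ K) (P : Sylow p K) : IsCyclic (P : Subgroup K) := by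
  by_contra hncyc
  have htop : ¬ IsCyclic (⊤ : Subgroup (P : Subgroup K)) := fun h =>
    hncyc (isCyclic_of_surjective (topEquiv : (⊤ : Subgroup (P : Subgroup K)) ≃* _).toMonoidHom topEquiv.surjective)
  obtain ⟨E, -, -, ⟨hEc, hEe⟩, hEcard⟩ :=
    CfsgLib.PGroup.exists_normal_elementary_sq_le hp P.2 ⊤ htop
  set f : (P : Subgroup K) →* G := K.subtype.comp (P : Subgroup K).subtype
  have hf : Function.Injective f := K.subtype_injective.comp (Subgroup.subtype_injective _)
  set E' := E.map f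
  obtain ⟨S, hS⟩ := (IsPGroup.of_surjective P.2 f.rangeRestrict f.rangeRestrict_surjective).exists_le_sylow
  obtain ⟨T, hT⟩ := (CfsgLib.Amalgam.isPGroup_zpowers_of_ppow (p := p) ⟨1, by rw [hx, pow_one]⟩).exists_le_sylow
  obtain ⟨a, ha⟩ := MulAction.exists_smul_eq G T S
  set x' := a * x * a⁻¹
  have hx'S : x' ∈ (S : Subgroup G) := by
    rw [← ha]
    exact ⟨x, hT (mem_zpowers x), rfl⟩
  have hcent := CfsgLib.Amalgam.isolated_central_of_isPGroup (isIsolated_conj hiso a) S.2 hx'S
  have hE'S : E' ≤ (S : Subgroup G) := (map_le_range f E).trans hS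
  have hE'c : ∀ u ∈ E', ∀ v ∈ E', u * v = v * u := by
    rintro _ ⟨u, hu, rfl⟩ _ ⟨v, hv, rfl⟩
    rw [← map_mul, ← map_mul]
    exact congrArg f (congrArg Subtype.val (hEc.is_comm.comm ⟨u, hu⟩ ⟨v, hv⟩))
  have hcomm : IsMulCommutative (closure ((E' : Set G) ∪ {x'})) := by
    refine isMulCommutative_closure ?_
    rintro u (hu | rfl) v (hv | rfl)
    · exact hE'c u hu v hv
    · exact mem_centralizer_singleton_iff.1 (hcent (hE'S hu))
    · exact (mem_centralizer_singleton_iff.1 (hcent (hE'S hv))).symm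
    · rfl
  have h1 := hrank _ hcomm fun u hu => by
    induction hu using closure_induction with
    | mem u hu =>
      rcases hu with ⟨e, he, rfl⟩ | rfl
      · rw [← map_pow, hEe e he, map_one]
      · rw [show x' = a * x * a⁻¹ from rfl, conj_pow, ← hx, pow_orderOf_eq_one, mul_one, mul_inv_cancel]
    | one => exact one_pow p
    | mul u v hu hv h1 h2 =>
      rw [(show Commute u v from congrArg Subtype.val
        (hcomm.is_comm.comm (⟨u, hu⟩ : closure ((E' : Set G) ∪ {x'})) ⟨v, hv⟩)).mul_pow, h1, h2, one_mul]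
    | inv u _ h => rw [inv_pow, h, inv_one]
  have hle : E' ≤ closure ((E' : Set G) ∪ {x'}) := fun u hu => subset_closure (Or.inl hu)
  have hx'E : x' ∈ E' := (eq_of_le_of_card_ge hle
    (by rw [card_map_of_injective hf, hEcard]; exact h1)).ge (subset_closure (Or.inr rfl))
  obtain ⟨e, -, he⟩ := hx'E
  exact hxK a (show x' ∈ K from he ▸ (e : K).2)

theorem shape_case {G : Type*} [Group G] [Finite G] {p : ℕ} [Fact p.Prime] (hp : p ≠ 2)
    (hrank : Cfsg.PRankLE p 2 G) {x : G} (hx : orderOf x = p) (hiso : Cfsg.IsIsolated x)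
    (hperf : _root_.commutator G = ⊤) (P : Sylow p G) (hxP : x ∈ (P : Subgroup G)) :
    (Cfsg.IsExtraspecial p ↥(P : Subgroup G) ∧ Nat.card (P : Subgroup G) = p ^ 3 ∧
      ∀ y ∈ (P : Subgroup G), y ^ p = 1) ∨
    (p = 3 ∧ ∃ k : ℕ, 2 ≤ k ∧ Nat.card (P : Subgroup G) = 3 ^ (2 * k + 1) ∧
      ∃ _ : Group.IsNilpotent ↥(P : Subgroup G), Group.nilpotencyClass ↥(P : Subgroup G) = 2 * k) := by
  set C := centralizer ({x} : Set G) with hC
  have hPC : (P : Subgroup G) ≤ C :=
    CfsgLib.Amalgam.isolated_central_of_isPGroup hiso P.2 hxP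
  have hxpow : ∃ k : ℕ, orderOf x = p ^ k := ⟨1, by rw [hx, pow_one]⟩
  have hctrl : ∀ y ∈ P, ∀ g : G, g * y * g⁻¹ ∈ P → ∃ v ∈ C, v * y * v⁻¹ = g * y * g⁻¹ := by
    intro y hy g hg
    have h1 : x ∈ centralizer ({y} : Set G) :=
      mem_centralizer_singleton_iff.2 (mem_centralizer_singleton_iff.1 (hPC hy)).symm
    have h2 : g⁻¹ * x * g⁻¹⁻¹ ∈ centralizer ({y} : Set G) := by
      rw [mem_centralizer_singleton_iff, inv_inv]
      have h3 := mem_centralizer_singleton_iff.1 (hPC hg)
      calc g⁻¹ * x * g * y = g⁻¹ * (x * (g * y * g⁻¹)) * g := by group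
        _ = y * (g⁻¹ * x * g) := by rw [← h3]; group
    obtain ⟨n, hn, hng⟩ := CfsgLib.Amalgam.isolated_exists_mem hxpow hiso h1 h2
    refine ⟨(n * g⁻¹)⁻¹, inv_mem hng, ?_⟩
    have h4 : n⁻¹ * y * n = y := by
      rw [mul_assoc, ← mem_centralizer_singleton_iff.1 hn, inv_mul_cancel_left]
    calc (n * g⁻¹)⁻¹ * y * (n * g⁻¹)⁻¹⁻¹ = g * (n⁻¹ * y * n) * g⁻¹ := by group
      _ = g * y * g⁻¹ := by rw [h4]
  have hfoc := CfsgLib.Transfer.commutator_inf_eq_of_controls P hPC hctrl
  rw [hperf, top_inf_eq] at hfoc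
  have hPCC : (P : Subgroup G) ≤ ⁅C, C⁆ := hfoc.le.trans inf_le_left
  set PC : Sylow p C := P.subtype hPC with hPCdef
  have hPCeq : (PC : Subgroup C) = (P : Subgroup G).subgroupOf C := Sylow.coe_subtype P hPC
  let xC : C := ⟨x, hPC hxP⟩
  have hxC : orderOf xC = p := by rw [← Subgroup.orderOf_coe]; exact hx
  have hxCc : xC ∈ center C :=
    mem_center_iff.2 fun g => Subtype.ext (mem_centralizer_singleton_iff.1 g.2)
  have hPCcomm : (PC : Subgroup C) ≤ _root_.commutator C := by
    rw [← map_le_map_iff_of_injective C.subtype_injective, map_subtype_commutator, hPCeq,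
      map_subgroupOf_eq_of_le hPC]
    exact hPCC
  have e : ↥(PC : Subgroup C) ≃* ↥(P : Subgroup G) :=
    (MulEquiv.subgroupCongr hPCeq).trans (subgroupOfEquivOfLe hPC)
  rcases CfsgLib.RankTwoIso.core_shape hp (rank_of_injective C.subtype C.subtype_injective hrank)
    hxC hxCc PC hPCcomm with ⟨h1, h2, h3⟩ | ⟨h1, k, h2, h3, hnil, h4⟩
  · refine Or.inl ⟨extraspecial_equiv e h1, by rw [← Nat.card_congr e.toEquiv, h2], fun y hy => ?_⟩
    have h5 := h3 (⟨y, hPC hy⟩ : C) (by rw [hPCeq]; exact hy)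
    simpa using congrArg Subtype.val h5
  · haveI := hnil
    haveI hnilP : Group.IsNilpotent ↥(P : Subgroup G) := P.2.isNilpotent
    refine Or.inr ⟨h1, k, h2, by rw [← Nat.card_congr e.toEquiv, h3], hnilP, ?_⟩
    rw [← h4]
    exact le_antisymm (Group.nilpotencyClass_le_of_surjective e.toMonoidHom e.surjective)
      (Group.nilpotencyClass_le_of_surjective e.symm.toMonoidHom e.symm.surjective)

theorem main_aux {G : Type*} [Group G] [Finite G] {p : ℕ} [Fact p.Prime] (hp : p ≠ 2)
    (hrank : Cfsg.PRankLE p 2 G) {x : G} (hx : orderOf x = p) (hiso : Cfsg.IsIsolated x)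
    {K : Subgroup G} (hsimple : IsSimpleGroup K) (hnab : ¬ IsMulCommutative K) (P : Sylow p K) :
    ((∀ g : G, g * x * g⁻¹ ∉ (P : Subgroup K).map K.subtype) ∧ IsCyclic ↥(P : Subgroup K)) ∨
    ((∃ g : G, g * x * g⁻¹ ∈ (P : Subgroup K).map K.subtype) ∧
      ((Cfsg.IsExtraspecial p ↥(P : Subgroup K) ∧ Nat.card (P : Subgroup K) = p ^ 3 ∧
          ∀ y ∈ (P : Subgroup K), y ^ p = 1) ∨
       (p = 3 ∧ ∃ k : ℕ, 2 ≤ k ∧ Nat.card (P : Subgroup K) = 3 ^ (2 * k + 1) ∧
          ∃ _ : Group.IsNilpotent ↥(P : Subgroup K), Group.nilpotencyClass ↥(P : Subgroup K) = 2 * k))) := by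
  by_cases hex : ∃ g : G, g * x * g⁻¹ ∈ (P : Subgroup K).map K.subtype
  · obtain ⟨g, ⟨x', hx'P, hx'⟩⟩ := hex
    refine Or.inr ⟨⟨g, x', hx'P, hx'⟩, ?_⟩
    haveI := hsimple
    have hperf : _root_.commutator K = ⊤ := by
      rcases (inferInstance : (_root_.commutator K).Normal).eq_bot_or_eq_top with h | h
      · refine absurd ⟨⟨fun a b => ?_⟩⟩ hnab
        rw [← commutatorElement_eq_one_iff_mul_comm, ← mem_bot, ← h, _root_.commutator_def]
        exact commutator_mem_commutator (mem_top a) (mem_top b)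
      · exact h
    have hx'o : orderOf x' = p := by
      rw [← Subgroup.orderOf_coe, show (x' : G) = g * x * g⁻¹ from hx', show orderOf (g * x * g⁻¹) = orderOf x from MulEquiv.orderOf_eq (MulAut.conj g) x, hx]
    have hx'iso : Cfsg.IsIsolated x' := fun u hu => Subtype.ext (by
      have h1 := (isIsolated_conj hiso g) (u : G)
      rw [← show (x' : G) = g * x * g⁻¹ from hx'] at h1
      simpa using h1 (by simpa using hu.map K.subtype))
    exact shape_case hp (rank_of_injective K.subtype K.subtype_injective hrank) hx'o hx'iso hperf P hx'P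
  · push Not at hex
    refine Or.inl ⟨hex, cyclic_case hp hrank hx hiso (fun g hg => ?_) P⟩
    -- a conjugate in `K` is conjugate into `P`
    have hord : orderOf (⟨g * x * g⁻¹, hg⟩ : K) = p := by
      rw [← Subgroup.orderOf_coe]; exact (MulEquiv.orderOf_eq (MulAut.conj g) x).trans hx
    obtain ⟨T, hT⟩ := (CfsgLib.Amalgam.isPGroup_zpowers_of_ppow (p := p)
      (x := (⟨g * x * g⁻¹, hg⟩ : K)) ⟨1, by rw [hord, pow_one]⟩).exists_le_sylow
    obtain ⟨a, ha⟩ := MulAction.exists_smul_eq K T P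
    refine hex ((a : G) * g) ⟨a * ⟨g * x * g⁻¹, hg⟩ * a⁻¹, ?_, by simp [mul_assoc]⟩
    rw [← ha]
    exact ⟨⟨g * x * g⁻¹, hg⟩, hT (mem_zpowers _), rfl⟩


/-- Let G be a finite group and p an odd prime with O_{p'}(G) = 1. Suppose that G has p-rank at most 2 and that some element x of order p is isolated in G and not central. Then F*(G) is a non-abelian simple group, and for every Sylow p-subgroup P of F*(G), either no conjugate of x lies in P and P is cyclic, or some conjugate of x lies in P and either P is extraspecial of order p³ and exponent p, or p = 3 and P has order 3^{2k+1} for some k ≥ 2 and is of maximal class (nilpotency class 2k). Since O_{p'}(G) = 1, such an x is not central modulo O_{p'}(G): the hypotheses describe a counterexample to the Z*_p statement in p-rank at most 2, and the conclusion records the structure it would have. -/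
theorem result {G : Type*} [Group G] [Finite G] {p : ℕ} [Fact p.Prime] (hp : p ≠ 2) (hcore : Cfsg.pPrimeCore p G = ⊥)
    (hrank : Cfsg.PRankLE p 2 G) (x : G) (hx : orderOf x = p) (hiso : Cfsg.IsIsolated x) (hnc : x ∉ Subgroup.center G) :
    IsSimpleGroup ↥(Cfsg.generalizedFittingSubgroup G) ∧ ¬ IsMulCommutative ↥(Cfsg.generalizedFittingSubgroup G) ∧
    ∀ P : Sylow p ↥(Cfsg.generalizedFittingSubgroup G),
      ((∀ g : G, g * x * g⁻¹ ∉ ((P : Subgroup ↥(Cfsg.generalizedFittingSubgroup G)).map (Cfsg.generalizedFittingSubgroup G).subtype)) ∧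
          IsCyclic ↥(P : Subgroup ↥(Cfsg.generalizedFittingSubgroup G))) ∨
      ((∃ g : G, g * x * g⁻¹ ∈ ((P : Subgroup ↥(Cfsg.generalizedFittingSubgroup G)).map (Cfsg.generalizedFittingSubgroup G).subtype)) ∧
        ((Cfsg.IsExtraspecial p ↥(P : Subgroup ↥(Cfsg.generalizedFittingSubgroup G)) ∧
            Nat.card (P : Subgroup ↥(Cfsg.generalizedFittingSubgroup G)) = p ^ 3 ∧
            ∀ y ∈ (P : Subgroup ↥(Cfsg.generalizedFittingSubgroup G)), y ^ p = 1) ∨
         (p = 3 ∧ ∃ k : ℕ, 2 ≤ k ∧ Nat.card (P : Subgroup ↥(Cfsg.generalizedFittingSubgroup G)) = 3 ^ (2 * k + 1) ∧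
            ∃ _ : Group.IsNilpotent ↥(P : Subgroup ↥(Cfsg.generalizedFittingSubgroup G)),
              Group.nilpotencyClass ↥(P : Subgroup ↥(Cfsg.generalizedFittingSubgroup G)) = 2 * k))) := by
  obtain ⟨hsimple, hnab⟩ := Cfsg.Agent.S3049.result hp hcore hrank x hx hiso hnc
  exact ⟨hsimple, hnab, fun P => main_aux hp hrank hx hiso hsimple hnab P⟩

end Cfsg.Agent.S3038
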