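import Cfsg.Statements.S3040
import Cfsg.Agent.Lib.Recog.FpfThree.Main

set_option autoImplicit false
open Cfsg

namespace Cfsg.Agent.S3040

open CfsgLib.Recog.FpfThree

/-- Let G be a finite group of even order coprime to 3, and let Σ be a group of automorphisms of G isomorphic to the symmetric group of degree 3 that is fixed-point-free (only the identity of G is fixed by every element of Σ). Then G is solvable, O_{2′,2}(G) (the preimage in G of O₂(G/O(G))) has odd index in G, and G = O_{2′,2}(G) C_G(σ) for every element σ of Σ of order 3; that is, O₂(G/O(G)) is a Sylow 2-subgroup of G/O(G) and G/O(G) = O₂(G/O(G)) C_{G/O(G)}(σ). -/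
theorem result {G : Type*} [Group G] [Finite G] (heven : 2 ∣ Nat.card G) (h3 : ¬ 3 ∣ Nat.card G)
    (Sig : Subgroup (MulAut G)) (hS3 : Nonempty (↥Sig ≃* Equiv.Perm (Fin 3))) (hfpf : ∀ g : G, (∀ σ ∈ Sig, σ g = g) → g = 1) :
    Group.IsSolvable G ∧ ¬ 2 ∣ (Cfsg.pPrimePCore 2 G).index ∧ ∀ σ ∈ Sig, orderOf σ = 3 →
      Cfsg.pPrimePCore 2 G ⊔ Subgroup.closure {g : G | σ g = g} = ⊤ := by
  classical
  obtain ⟨e⟩ := hS3
  have hcard : Nat.card Sig = 6 := by
    rw [Nat.card_congr e.toEquiv, Nat.card_perm, Nat.card_fin]; rfl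
  have : Fact (Nat.Prime 2) := ⟨Nat.prime_two⟩
  -- every element of order three fixes no involution
  have key : ∀ σ ∈ Sig, orderOf σ = 3 → Hyp σ := by
    intro σ hσ ho
    have hp : σ ^ 3 = 1 := by rw [← ho, pow_orderOf_eq_one]
    refine ⟨fun x => ?_, h3, fun x hx hxx => ?_⟩
    · have := congrArg (fun f : MulAut G => f x) hp
      simpa [pow_succ, MulAut.mul_apply] using this
    set s : Sig := ⟨σ, hσ⟩
    have hs : orderOf s = 3 := by rw [Subgroup.orderOf_mk, ho]
    set Z := Subgroup.zpowers s
    have hZ3 : Nat.card Z = 3 := by rw [Nat.card_zpowers, hs]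
    have hZi : Z.index = 2 := by
      have := Z.card_mul_index
      rw [hcard, hZ3] at this
      omega
    have hZn : Z.Normal := Subgroup.normal_of_index_eq_two hZi
    -- the fixed points
    let C : Subgroup G :=
      { carrier := {g | σ g = g}
        one_mem' := map_one σ
        mul_mem' := fun {a b} (ha : σ a = a) (hb : σ b = b) => by
          show σ (a * b) = a * b
          rw [map_mul, ha, hb]
        inv_mem' := fun {a} (ha : σ a = a) => by
          show σ a⁻¹ = a⁻¹
          rw [map_inv, ha] }
    have hpow : ∀ r ∈ Z, ∀ g : G, σ g = g → (r : MulAut G) g = g := by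
      intro r hr g hg
      have hr' : r ∈ Subgroup.zpowers s := hr
      rw [← mem_powers_iff_mem_zpowers] at hr'
      obtain ⟨i, rfl⟩ := hr'
      show ((s ^ i : Sig) : MulAut G) g = g
      rw [SubmonoidClass.coe_pow]
      clear hr
      induction i with
      | zero => simp
      | succ i ih => rw [pow_succ, MulAut.mul_apply]; exact (congrArg _ hg).trans ih
    have hgen : ∀ t : Sig, t ∉ Z → ∀ g : G, σ g = g → (t : MulAut G) g = g → g = 1 := by
      intro t ht g hg htg
      refine hfpf g fun r hr => ?_
      by_cases hrZ : (⟨r, hr⟩ : Sig) ∈ Z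
      · exact hpow _ hrZ g hg
      · have hmem : t⁻¹ * ⟨r, hr⟩ ∈ Z := by
          rw [Subgroup.mul_mem_iff_of_index_two hZi, inv_mem_iff]
          exact iff_of_false ht hrZ
        have := hpow _ hmem g hg
        calc r g = ((t * (t⁻¹ * ⟨r, hr⟩) : Sig) : MulAut G) g := by rw [mul_inv_cancel_left]
          _ = (t : MulAut G) (((t⁻¹ * ⟨r, hr⟩ : Sig) : MulAut G) g) := rfl
          _ = g := by rw [this, htg]
    obtain ⟨t, ht⟩ := exists_prime_orderOf_dvd_card' 2 (G := Sig) (by rw [hcard]; norm_num)
    have htZ : t ∉ Z := fun htz => by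
      have := Subgroup.orderOf_dvd_natCard Z htz
      rw [ht, hZ3] at this
      omega
    have htC : ∀ g, σ g = g → σ ((t : MulAut G) g) = (t : MulAut G) g := by
      intro g hg
      have hc : t⁻¹ * s * t ∈ Z := by
        have := hZn.conj_mem s (Subgroup.mem_zpowers s) t⁻¹
        rwa [inv_inv] at this
      have := hpow _ hc g hg
      calc σ ((t : MulAut G) g)
          = (t : MulAut G) (((t⁻¹ * s * t : Sig) : MulAut G) g) := by
            show _ = ((t * (t⁻¹ * s * t) : Sig) : MulAut G) g
            rw [show t * (t⁻¹ * s * t) = s * t by group]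
            rfl
        _ = (t : MulAut G) g := by rw [this]
    -- an involution acting on the fixed points with no other fixed point
    by_contra hx1
    have : Fintype C := Fintype.ofFinite C
    have htt : ∀ g : G, (t : MulAut G) ((t : MulAut G) g) = g := fun g => by
      have h2 : t * t = 1 := by rw [← pow_two, ← ht, pow_orderOf_eq_one]
      exact congrArg (fun f : Sig => (f : MulAut G) g) h2
    let f : Equiv.Perm C :=
      { toFun := fun g => ⟨(t : MulAut G) g, htC g g.2⟩
        invFun := fun g => ⟨(t : MulAut G) g, htC g g.2⟩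
        left_inv := fun g => Subtype.ext (htt g)
        right_inv := fun g => Subtype.ext (htt g) }
    have hf : f ^ 2 ^ 1 = 1 := Equiv.ext fun g => Subtype.ext (by
      simp only [pow_one, pow_two, Equiv.Perm.mul_apply, Equiv.Perm.one_apply]
      exact htt g)
    have hxC : x ∈ C := hx
    have hdvd : 2 ∣ Fintype.card C := by
      rw [← Nat.card_eq_fintype_card]
      refine dvd_trans ?_ (Subgroup.orderOf_dvd_natCard C hxC)
      rw [orderOf_eq_prime (by rw [pow_two]; exact hxx) hx1]
    obtain ⟨b, hb, hb1⟩ := Equiv.Perm.exists_fixed_point_of_prime' hdvd hf (a := (1 : C))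
      (Subtype.ext (map_one (t : MulAut G)))
    exact hb1 (Subtype.ext (hgen t htZ b b.2 (congrArg Subtype.val hb)))
  have : Fact (Nat.Prime 3) := ⟨Nat.prime_three⟩
  obtain ⟨s, hs⟩ := exists_prime_orderOf_dvd_card' 3 (G := Sig) (by rw [hcard]; norm_num)
  have hyp := key s s.2 (by rw [Subgroup.orderOf_coe, hs])
  have hsolv := hyp.isSolvable
  refine ⟨hsolv, hyp.structure_of_solvable.1, fun σ hσ ho => ?_⟩
  rw [eq_top_iff]
  intro x _
  obtain ⟨c, hc, hcx⟩ := (key σ hσ ho).structure_of_solvable.2 x
  have e : x = c * (x⁻¹ * c)⁻¹ := by group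
  rw [e]
  exact mul_mem (Subgroup.mem_sup_right (Subgroup.subset_closure hc))
    (Subgroup.mem_sup_left (inv_mem hcx))

end Cfsg.Agent.S3040
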