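import Cfsg.Statements.S3043
import Cfsg.Agent.Lib.Amalgam.TIInvertedCases

set_option autoImplicit false
set_option linter.style.haveILetI false
open Cfsg

namespace Cfsg.Agent.S3043

/-- Let M be a nontrivial subgroup of a finite group G meeting each of its other conjugates trivially, with N_G(M) = M · C_{N_G(M)}(z) for some involution z ∈ N_G(M), and with C_G(x) of odd order for every nontrivial x ∈ M. Then one of the following holds: M is normal in G; the number of involutions of G is at most |G : M|; G is isomorphic to PGL₂(F) or to PSL₂(F) for a finite field F with |F| = |M|, M is an elementary abelian p-group for the characteristic p of F, and |F| ≡ 1 (mod 4) in the PSL₂ case; G is isomorphic to PSL₂(F) with |F| = 2^e, e > 1, and M is cyclic of order 2^e + 1; or for some d ≥ 1, G has an elementary abelian normal subgroup of order 2^{2d} complemented by N_G(M), and N_G(M) is dihedral of order 2(2^d + 1). -/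
theorem result {G : Type*} [Group G] [Finite G] (M : Subgroup G) (hM1 : M ≠ ⊥)
    (hTI : ∀ g : G, M ⊓ M.map (MulAut.conj g).toMonoidHom ≠ ⊥ → M.map (MulAut.conj g).toMonoidHom = M)
    (z : G) (hz : orderOf z = 2) (hzN : z ∈ Subgroup.normalizer (M : Set G))
    (hfac : M ⊔ (Subgroup.normalizer (M : Set G) ⊓ Subgroup.centralizer ({z} : Set G)) = Subgroup.normalizer (M : Set G))
    (hodd : ∀ x ∈ M, x ≠ 1 → Odd (Nat.card ↥(Subgroup.centralizer ({x} : Set G)))) :
    M.Normal ∨
    Nat.card {g : G // orderOf g = 2} ≤ M.index ∨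
    (∃ (F : Type) (_ : Field F) (_ : Fintype F) (p : ℕ) (_ : Fact p.Prime) (_ : CharP F p), Fintype.card F = Nat.card M ∧ Cfsg.IsElementaryAbelian p M ∧
        (Nonempty (G ≃* (GL (Fin 2) F ⧸ Subgroup.center (GL (Fin 2) F))) ∨
         (Fintype.card F % 4 = 1 ∧ Nonempty (G ≃* Matrix.ProjectiveSpecialLinearGroup (Fin 2) F)))) ∨
    (∃ (F : Type) (_ : Field F) (_ : Fintype F) (e : ℕ), 1 < e ∧ Fintype.card F = 2 ^ e ∧ IsCyclic ↥M ∧ Nat.card M = 2 ^ e + 1 ∧
        Nonempty (G ≃* Matrix.ProjectiveSpecialLinearGroup (Fin 2) F)) ∨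
    (∃ (d : ℕ) (E : Subgroup G), 1 ≤ d ∧ E.Normal ∧ Cfsg.IsElementaryAbelian 2 E ∧ Nat.card E = 2 ^ (2 * d) ∧
        E ⊓ Subgroup.normalizer (M : Set G) = ⊥ ∧ E ⊔ Subgroup.normalizer (M : Set G) = ⊤ ∧
        Nonempty (↥(Subgroup.normalizer (M : Set G)) ≃* DihedralGroup (2 ^ d + 1))) := by
  classical
  by_cases hnn : M.Normal
  · exact Or.inl hnn
  by_cases hmany : Nat.card {g : G // orderOf g = 2} ≤ M.index
  · exact Or.inr (Or.inl hmany)
  refine Or.inr (Or.inr ?_)
  have D : CfsgLib.Amalgam.TIInverted.Data M z :=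
    ⟨hM1, hTI, hz, hzN, hfac, hodd, not_le.1 hmany⟩
  set C := CfsgLib.Amalgam.TIInverted.comp M z with hCdef
  obtain ⟨⟨h, hh, hhN⟩⟩ := D.exists_outer hnn
  have hm2 := D.two_lt_card
  have hle : Nat.card C + Nat.card (CfsgLib.Amalgam.TIInverted.Outer M z) * Nat.card M ≤
      (Nat.card C + Nat.card (CfsgLib.Amalgam.TIInverted.Outer M z)) *
        (1 + Nat.card (CfsgLib.Amalgam.TIInverted.Outer M z)) := by
    have := D.class_le
    rw [D.card_group, D.card_centralizer, D.card_involutions] at this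
    refine Nat.le_of_mul_le_mul_left ?_ (show 0 < Nat.card M by omega)
    calc _ = _ := by ring
      _ ≤ _ := this
      _ = _ := by ring
  obtain ⟨t, ht⟩ := D.comp_dvd_card hnn
  by_cases hJ : Nat.card (CfsgLib.Amalgam.TIInverted.Outer M z) = Nat.card C
  · rw [hJ] at hle
    have hc0 : 0 < Nat.card C := Nat.card_pos
    have h1 : Nat.card C * (1 + Nat.card M) ≤ Nat.card C * (2 + 2 * Nat.card C) := by
      calc Nat.card C * (1 + Nat.card M) = Nat.card C + Nat.card C * Nat.card M := by ring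
        _ ≤ (Nat.card C + Nat.card C) * (1 + Nat.card C) := hle
        _ = _ := by ring
    have h2 := Nat.le_of_mul_le_mul_left h1 hc0
    have ht0 : t ≠ 0 := fun e => by rw [e, mul_zero] at ht; omega
    have ht2 : t ≤ 2 := Nat.le_of_mul_le_mul_left
      (show Nat.card C * t ≤ Nat.card C * 2 by rw [← ht]; omega) hc0
    rcases (show t = 1 ∨ t = 2 by omega) with rfl | rfl
    · obtain ⟨F, iF, iFF, p, hp, hchar, hF, hE, he⟩ := D.pgl hnn hh hhN hJ (by omega)
      exact Or.inl ⟨F, iF, iFF, p, hp, hchar, hF, hE, Or.inl he⟩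
    · obtain ⟨F, iF, iFF, p, hp, hchar, hF, hE, h4, he⟩ := D.psl hnn hh hhN hJ (by omega)
      exact Or.inl ⟨F, iF, iFF, p, hp, hchar, hF, hE, Or.inr ⟨h4, he⟩⟩
  obtain ⟨hc, hsq⟩ := (D.dichotomy hnn).resolve_left hJ
  haveI : Fact (Nat.Prime 2) := ⟨Nat.prime_two⟩
  obtain ⟨f, hf⟩ := IsPGroup.iff_card.1
    (show IsPGroup 2 ↥(Subgroup.centralizer ({z} : Set G)) from fun w =>
      ⟨1, Subtype.ext (by rw [pow_one, Subgroup.coe_pow, pow_two]; exact hsq w w.2)⟩)
  rw [D.card_centralizer, hc] at hf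
  set J := Nat.card (CfsgLib.Amalgam.TIInverted.Outer M z) with hJdef
  have hJ0 : 0 < J := by
    haveI : Nonempty (CfsgLib.Amalgam.TIInverted.Outer M z) := ⟨⟨h, hh, hhN⟩⟩
    exact Nat.card_pos
  rw [hc] at hJ hle ht
  have hf3 : 3 ≤ f := by
    by_contra hlt
    have hf' : f = 0 ∨ f = 1 ∨ f = 2 := by omega
    rcases hf' with rfl | rfl | rfl <;> norm_num at hf <;> omega
  have hJf : J + 2 = 2 ^ f := by omega
  set k := 2 ^ (f - 1) with hk
  have hqk : 2 ^ f = 2 * k := by rw [hk, ← pow_succ', Nat.sub_add_cancel (by omega)]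
  have hmJ : Nat.card M ≤ J + 3 := by
    refine Nat.le_of_mul_le_mul_left ?_ hJ0
    have e1 : (2 + J) * (1 + J) = 2 + J * (J + 3) := by ring
    omega
  have hdvd : k ∣ Nat.card M - 1 := by
    have h1 : 2 ^ f ∣ Nat.card M * (2 + J * Nat.card M) := by
      have h2 : Nat.card G = Nat.card M * (2 + J * Nat.card M) := by
        rw [D.card_group, hc, ← hJdef]; ring
      rw [← h2, ← hf, show 2 + J = Nat.card ↥(Subgroup.centralizer ({z} : Set G)) by
        rw [D.card_centralizer, hc]]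
      exact Subgroup.card_subgroup_dvd_card _
    have h2 := ((Nat.coprime_two_left.2 D.odd_M).pow_left f).dvd_of_dvd_mul_left h1
    have e : 2 + J * Nat.card M + 2 * (Nat.card M - 1) = 2 ^ f * Nat.card M := by
      rw [← hJf, Nat.add_mul]; omega
    have h3 := (Nat.dvd_add_right h2).1 (e ▸ dvd_mul_right (2 ^ f) (Nat.card M))
    rw [hqk] at h3
    exact Nat.dvd_of_mul_dvd_mul_left two_pos h3
  obtain ⟨s, hs⟩ := hdvd
  have hk0 : 0 < k := by rw [hk]; positivity
  have hs0 : s ≠ 0 := fun e => by rw [e, mul_zero] at hs; omega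
  have hs2 : s ≤ 2 := Nat.le_of_mul_le_mul_left (show k * s ≤ k * 2 by rw [← hs]; omega) hk0
  rcases (show s = 1 ∨ s = 2 by omega) with rfl | rfl
  · exact Or.inr (Or.inr (D.affine hnn (show 2 ≤ f by omega) hc hJf hsq (d := f - 1) (by omega)
      (by rw [← hk]; omega)))
  · exact Or.inr (Or.inl (D.psl_even hnn (show 2 ≤ f by omega) hc hJf hsq (by omega)))

end Cfsg.Agent.S3043
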