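import Cfsg.Statements.S3044
import Cfsg.Agent.Lib.Amalgam.IsolatedBridge

set_option autoImplicit false
open Cfsg

namespace Cfsg.Agent.S3044

open Subgroup

/-- Let G be a finite group, p a prime, S a Sylow p-subgroup of G and P a p-minimal subgroup of G containing S (S is not normal in P and lies in exactly one maximal subgroup of P). Let L be the subgroup generated by N_G(S) and all p-minimal subgroups of G containing S other than P, and suppose P is isolated: O_p(L) is not contained in O_p(P). Put Y for the normal closure of O^p(P) in G. Then G = YL; P is again isolated in the subgroup YS (the subgroup L₀ generated by N_{YS}(S) and the p-minimal subgroups of YS containing S other than P has O_p(L₀) not contained in O_p(P)); and either Y = O^p(P), or p divides |Y/O_p(Y)|, Y/O_p(Y) is generated by its components (a central product of quasisimple groups), and S permutes these components transitively by conjugation. -/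
theorem result {G : Type*} [Group G] [Finite G] {p : ℕ} [Fact p.Prime] (S : Sylow p G) (P : Subgroup G) (hSP : (S : Subgroup G) ≤ P) (hPmin : Cfsg.IsPMinimal p ↥P)
    (L Y : Subgroup G)
    (hL : L = Subgroup.normalizer ((S : Subgroup G) : Set G) ⊔ ⨆ P' : {P' : Subgroup G // (S : Subgroup G) ≤ P' ∧ Cfsg.IsPMinimal p ↥P' ∧ P' ≠ P}, (P' : Subgroup G))
    (hiso : ¬ (Cfsg.pCore p ↥L).map L.subtype ≤ (Cfsg.pCore p ↥P).map P.subtype)
    (hY : Y = Subgroup.normalClosure (((Cfsg.pResidual p ↥P).map P.subtype : Subgroup G) : Set G)) :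
    Y ⊔ L = ⊤ ∧
    ¬ (Cfsg.pCore p ↥((Subgroup.normalizer ((S : Subgroup G) : Set G) ⊓ (Y ⊔ (S : Subgroup G))) ⊔
          ⨆ P' : {P' : Subgroup G // (S : Subgroup G) ≤ P' ∧ P' ≤ Y ⊔ (S : Subgroup G) ∧ Cfsg.IsPMinimal p ↥P' ∧ P' ≠ P}, (P' : Subgroup G))).map
        (Subgroup.subtype _) ≤ (Cfsg.pCore p ↥P).map P.subtype ∧
    ((Cfsg.pResidual p ↥P).map P.subtype = Y ∨
     ∃ _ : (Cfsg.pCore p ↥Y).Normal,
       p ∣ Nat.card (↥Y ⧸ Cfsg.pCore p ↥Y) ∧ Cfsg.layer (↥Y ⧸ Cfsg.pCore p ↥Y) = ⊤ ∧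
       ∀ K₁ K₂ : Subgroup (↥Y ⧸ Cfsg.pCore p ↥Y), Cfsg.IsComponent K₁ → Cfsg.IsComponent K₂ →
         ∃ s ∈ (S : Subgroup G), ((K₂.comap (QuotientGroup.mk' (Cfsg.pCore p ↥Y))).map Y.subtype) = (((K₁.comap (QuotientGroup.mk' (Cfsg.pCore p ↥Y))).map Y.subtype)).map (MulAut.conj s).toMonoidHom) := by
  classical
  have e := CfsgLib.Amalgam.Isol.env_of hSP hL hiso
  haveI hpG : (Cfsg.pCore p G).Normal := CfsgLib.Amalgam.normal_pCore
  refine ⟨hY ▸ e.gen, ?_, ?_⟩
  · intro h
    refine e.hiso (le_trans ?_ h)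
    set L₀ := (Subgroup.normalizer ((S : Subgroup G) : Set G) ⊓ (Y ⊔ (S : Subgroup G))) ⊔
      ⨆ P' : {P' : Subgroup G // (S : Subgroup G) ≤ P' ∧ P' ≤ Y ⊔ (S : Subgroup G) ∧ Cfsg.IsPMinimal p ↥P' ∧ P' ≠ P}, (P' : Subgroup G)
    have hL₀ : L₀ ≤ L := sup_le (inf_le_left.trans e.hN)
      (iSup_le fun P' => e.hP P' P'.2.1 P'.2.2.2.1 P'.2.2.2.2)
    refine CfsgLib.Amalgam.le_pCoreOf ?_ (hL₀.trans (CfsgLib.Amalgam.le_normalizer_pCoreOf L))
      (CfsgLib.Amalgam.isPGroup_pCoreOf L)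
    exact e.pCoreL_le_S.trans (le_sup_of_le_left (le_inf Subgroup.le_normalizer le_sup_right))
  have d := e.data
  set π := QuotientGroup.mk' (Cfsg.pCore p G)
  set A := (CfsgLib.Amalgam.Isol.res p P).map π
  set Yb := CfsgLib.Amalgam.Isol.clos A
  rcases d.commutator_cases with hD | hD
  · right
    obtain ⟨hpn, φ, hφ⟩ := e.exists_equiv hY
    refine ⟨hpn, ?_, ?_, fun K₁ K₂ hK₁ hK₂ => ?_⟩
    · rw [Nat.card_congr φ.toEquiv]; exact d.dvd_card hD
    · refine Subgroup.map_injective (f := φ.toMonoidHom) φ.injective ?_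
      rw [CfsgLib.Comp.layer_map_equiv, d.layer_eq hD, ← MonoidHom.range_eq_map,
        MonoidHom.range_eq_top_of_surjective _ φ.surjective]
    · have hc : ∀ {K : Subgroup (↥Y ⧸ Cfsg.pCore p ↥Y)}, Cfsg.IsComponent K →
          Cfsg.IsComponent ((K.map φ.toMonoidHom).map Yb.subtype) := fun hK =>
        CfsgLib.Comp.isComponent_map_subtype normalClosure_normal.isSubnormal
          (CfsgLib.Comp.isComponent_map_mulEquiv φ hK)
      have hmem : ∀ {K : Subgroup (↥Y ⧸ Cfsg.pCore p ↥Y)} {g : G},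
          g ∈ (K.comap (QuotientGroup.mk' (Cfsg.pCore p ↥Y))).map Y.subtype ↔
            g ∈ Y ∧ π g ∈ (K.map φ.toMonoidHom).map Yb.subtype := by
        intro K g
        constructor
        · rintro ⟨y, hy, rfl⟩
          exact ⟨y.2, _, ⟨_, hy, rfl⟩, hφ y⟩
        · rintro ⟨hg, _, ⟨k, hk, rfl⟩, he⟩
          refine ⟨⟨g, hg⟩, ?_, rfl⟩
          show QuotientGroup.mk' _ _ ∈ K
          have : φ k = φ (QuotientGroup.mk' _ ⟨g, hg⟩) := Subtype.ext (he.trans (hφ ⟨g, hg⟩).symm)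
          exact φ.injective this ▸ hk
      obtain ⟨_, ⟨s, hs, rfl⟩, he⟩ := d.transitive hD (hc hK₁) (map_subtype_le _) (hc hK₂) (map_subtype_le _)
      have hYn : Y.Normal := hY ▸ normalClosure_normal
      refine ⟨s, hs, ?_⟩
      ext g
      constructor
      · intro hg
        obtain ⟨hgY, hgK⟩ := hmem.1 hg
        rw [he] at hgK
        obtain ⟨x, hx, hxe⟩ := hgK
        refine ⟨s⁻¹ * g * s, hmem.2 ⟨?_, ?_⟩, ?_⟩
        · simpa using hYn.conj_mem g hgY s⁻¹
        · have hxe' : π s * x * (π s)⁻¹ = π g := hxe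
          rw [map_mul, map_mul, map_inv, ← hxe']
          simpa [mul_assoc] using hx
        · show s * (s⁻¹ * g * s) * s⁻¹ = g
          group
      · rintro ⟨x, hx, rfl⟩
        obtain ⟨hxY, hxK⟩ := hmem.1 hx
        refine hmem.2 ⟨hYn.conj_mem x hxY s, ?_⟩
        rw [he]
        exact ⟨π x, hxK, by simp⟩
  · exact Or.inl ((e.res_eq_closure (d.eq_clos hD)).trans hY.symm)

end Cfsg.Agent.S3044
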