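import Cfsg.Statements.S3045
import Cfsg.Agent.Lib.Amalgam.IsolatedBridge

set_option autoImplicit false
open Cfsg

namespace Cfsg.Agent.S3045

open Subgroup

/-- Let G be a finite group, p a prime, S a Sylow p-subgroup of G and P a p-minimal subgroup of G containing S. Let L be the subgroup generated by N_G(S) and all p-minimal subgroups of G containing S other than P, and suppose O_p(L) is not contained in O_p(P). Put Y for the normal closure of O^p(P) in G. Then O^p(P) is contained in the preimage in G of F*(G/O_p(G)); and if Y is solvable, then Y = O^p(P) and Y/O_p(Y) is a t-group of nilpotency class at most 2 for some prime t ≠ p. -/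
theorem result {G : Type*} [Group G] [Finite G] {p : ℕ} [Fact p.Prime] (S : Sylow p G) (P : Subgroup G) (hSP : (S : Subgroup G) ≤ P) (hPmin : Cfsg.IsPMinimal p ↥P)
    (L Y : Subgroup G)
    (hL : L = Subgroup.normalizer ((S : Subgroup G) : Set G) ⊔ ⨆ P' : {P' : Subgroup G // (S : Subgroup G) ≤ P' ∧ Cfsg.IsPMinimal p ↥P' ∧ P' ≠ P}, (P' : Subgroup G))
    (hiso : ¬ (Cfsg.pCore p ↥L).map L.subtype ≤ (Cfsg.pCore p ↥P).map P.subtype)
    (hY : Y = Subgroup.normalClosure (((Cfsg.pResidual p ↥P).map P.subtype : Subgroup G) : Set G)) [hn : (Cfsg.pCore p G).Normal] :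
    (Cfsg.pResidual p ↥P).map P.subtype ≤ (Cfsg.generalizedFittingSubgroup (G ⧸ Cfsg.pCore p G)).comap (QuotientGroup.mk' (Cfsg.pCore p G)) ∧
    (Group.IsSolvable ↥Y → (Cfsg.pResidual p ↥P).map P.subtype = Y ∧
       ∃ _ : (Cfsg.pCore p ↥Y).Normal, ∃ t : ℕ, t.Prime ∧ t ≠ p ∧ IsPGroup t (↥Y ⧸ Cfsg.pCore p ↥Y) ∧
         ∃ _ : Group.IsNilpotent (↥Y ⧸ Cfsg.pCore p ↥Y), Group.nilpotencyClass (↥Y ⧸ Cfsg.pCore p ↥Y) ≤ 2) := by
  classical
  have e := CfsgLib.Amalgam.Isol.env_of hSP hL hiso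
  have d := e.data
  set π := QuotientGroup.mk' (Cfsg.pCore p G)
  set A := (CfsgLib.Amalgam.Isol.res p P).map π
  set Yb := CfsgLib.Amalgam.Isol.clos A
  obtain ⟨hpn, φ, hφ⟩ := e.exists_equiv hY
  have hfit : (CfsgLib.Amalgam.Isol.res p P).map π ≤ Cfsg.generalizedFittingSubgroup (G ⧸ Cfsg.pCore p G) := by
    rcases d.commutator_cases with h | h
    · refine (CfsgLib.Amalgam.Isol.le_clos.trans (d.sSup_components h).ge).trans (sSup_le fun K hK => ?_)
      exact (CfsgLib.Comp.le_layer hK.1).trans (CfsgLib.Comp.layer_le_generalizedFitting _)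
    · exact (CfsgLib.Amalgam.Isol.le_clos.trans (CfsgLib.Solvable.le_fittingSubgroup
        normalClosure_normal (d.isNilpotent h))).trans (CfsgLib.Comp.fittingSubgroup_le_generalizedFitting _)
  refine ⟨map_le_iff_le_comap.1 hfit, fun hsol => ?_⟩
  haveI : Group.IsSolvable ↥Yb := Group.isSolvable_of_surjective
    (f := φ.toMonoidHom.comp (QuotientGroup.mk' (Cfsg.pCore p ↥Y)))
    (φ.surjective.comp (QuotientGroup.mk'_surjective _))
  have hD : ⁅Yb, Yb⁆ ≤ L.map π := d.commutator_cases.resolve_left fun h =>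
    d.clos_ne_bot (CfsgLib.Comp.eq_bot_of_perfect_of_isSolvable h inferInstance)
  obtain ⟨t, ht, htp, htY⟩ := d.exists_prime hD
  haveI := d.isNilpotent hD
  haveI hnil : Group.IsNilpotent (↥Y ⧸ Cfsg.pCore p ↥Y) := (Group.isNilpotent_congr φ).2 inferInstance
  refine ⟨(e.res_eq_closure (d.eq_clos hD)).trans hY.symm, hpn, t, ht, htp, htY.of_equiv φ.symm, hnil, ?_⟩
  exact (Group.nilpotencyClass_le_of_surjective φ.symm.toMonoidHom φ.symm.surjective).trans (d.class_le_two hD)

end Cfsg.Agent.S3045
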