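import Cfsg.Statements.S3047
import Cfsg.Agent.Lib.Amalgam.RankOneData
import Cfsg.Agent.Lib.ClassK.PushPSL

set_option autoImplicit false
open Cfsg

namespace Cfsg.Agent.S3047

theorem exists_data {R : Type*} [Group R] [Finite R] {p : ℕ} [Fact p.Prime] (hp : 5 ≤ p)
    (F : Type) [Field F] [Fintype F] {a : ℕ} (ha : 1 ≤ a)
    (h : (Fintype.card F = p ^ a ∧ (Nonempty (R ≃* Matrix.SpecialLinearGroup (Fin 2) F) ∨
            Nonempty (R ≃* Matrix.ProjectiveSpecialLinearGroup (Fin 2) F))) ∨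
         (Fintype.card F = p ^ (2 * a) ∧ (Nonempty (R ≃* ↥(Cfsg.SU 3 F (p ^ a))) ∨
            Nonempty (R ≃* Cfsg.PSU 3 F (p ^ a))))) :
    ∃ (U : Subgroup R) (w t : R), CfsgLib.Amalgam.RankOneCentral.RankOne p U w t := by
  classical
  rcases h with ⟨hF, h⟩ | ⟨hF, h⟩
  · haveI := CfsgLib.ClassK.Push.charP_of_card (p := p) hF
    obtain ⟨U, w, t, hd⟩ := CfsgLib.Amalgam.RankOneCentral.sl_two_data (F := F) p hp
    suffices H : ∃ f : Matrix.SpecialLinearGroup (Fin 2) F →* R, Function.Surjective f ∧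
        f.ker ≤ Subgroup.center _ by
      obtain ⟨f, hf, hc⟩ := H
      refine ⟨_, _, _, hd.map f hf hc fun k hk n hn => ?_⟩
      by_contra hne
      obtain ⟨j, -, hj⟩ := (Nat.dvd_prime_pow (Fact.out : p.Prime)).1 (orderOf_dvd_of_pow_eq_one hn)
      have hj0 : j ≠ 0 := by
        rintro rfl
        exact hne (orderOf_eq_one_iff.1 (by rw [hj, pow_zero]))
      exact CfsgLib.ClassK.Push.not_dvd_center hF ((dvd_pow_self p hj0).trans (hj ▸
        Subgroup.orderOf_dvd_natCard _ (hc hk)))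
    rcases h with ⟨⟨e⟩⟩ | ⟨⟨e⟩⟩
    · refine ⟨e.symm.toMonoidHom, e.symm.surjective, ?_⟩
      rw [(MonoidHom.ker_eq_bot_iff _).2 e.symm.injective]
      exact bot_le
    · refine ⟨e.symm.toMonoidHom.comp (QuotientGroup.mk' _),
        e.symm.surjective.comp (QuotientGroup.mk'_surjective _), fun x hx => ?_⟩
      exact (QuotientGroup.eq_one_iff x).1 (e.symm.injective (hx.trans (map_one e.symm).symm))
  · set q := p ^ a with hq
    have hK : Fintype.card F = q ^ 2 := by rw [hF, hq, ← pow_mul, mul_comm]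
    have h32 : ¬ (3 = 3 ∧ q = 2) := fun h => by
      have : p ≤ q := Nat.le_self_pow (by omega) p
      omega
    haveI := CfsgLib.ClassK.Push.charP_of_card (p := p) hF
    obtain ⟨σ, hσq, hσ⟩ := CfsgLib.Classical.SemiUnitary.exists_qFrobEquiv hK
    obtain ⟨e₀, -⟩ := CfsgLib.KnownB.SUTwoGen.exists_iso hK le_rfl hσq hσ
    have hsu : commutator ↥(Cfsg.SU 3 F q) = ⊤ := by
      rw [eq_top_iff, ← CfsgLib.Classical.closure_transvections_eq_top hK le_rfl h32, Subgroup.closure_le]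
      rintro A ⟨v, c, hv, hA⟩
      rw [commutator_eq_closure]
      exact Subgroup.subset_closure
        (CfsgLib.Classical.transvection_mem_commutatorSet hK le_rfl h32 A hv hA)
    have hperf : commutator ↥(CfsgLib.Fusion.FormGroup.suDat σ 3).group = ⊤ := by
      rw [commutator_def, ← Subgroup.map_top_of_surjective e₀.toMonoidHom e₀.surjective,
        ← Subgroup.map_commutator, ← commutator_def, hsu]
    obtain ⟨U, w, t, hd⟩ := CfsgLib.Amalgam.RankOneCentral.su_three_data p hp hσ hperf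
    have hD := CfsgLib.Fusion.FormGroup.suGood hσ (le_refl 3)
    suffices H : ∃ f : ↥(CfsgLib.Fusion.FormGroup.suDat σ 3).group →* R, Function.Surjective f ∧
        f.ker ≤ Subgroup.center _ by
      obtain ⟨f, hf, hc⟩ := H
      exact ⟨_, _, _, hd.map f hf hc fun k hk n hn =>
        CfsgLib.Fusion.FormGroup.center_pFree hD (hc hk) n hn⟩
    rcases h with ⟨⟨e⟩⟩ | ⟨⟨e⟩⟩
    · refine ⟨(e₀.symm.trans e.symm).toMonoidHom, (e₀.symm.trans e.symm).surjective, ?_⟩
      rw [(MonoidHom.ker_eq_bot_iff _).2 (e₀.symm.trans e.symm).injective]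
      exact bot_le
    · refine ⟨e.symm.toMonoidHom.comp ((QuotientGroup.mk' _).comp e₀.symm.toMonoidHom),
        e.symm.surjective.comp ((QuotientGroup.mk'_surjective _).comp e₀.symm.surjective), fun x hx => ?_⟩
      have h1 : e₀.symm x ∈ Subgroup.center ↥(Cfsg.SU 3 F q) :=
        (QuotientGroup.eq_one_iff _).1 (e.symm.injective (hx.trans (map_one e.symm).symm))
      refine Subgroup.mem_center_iff.2 fun g => e₀.symm.injective ?_
      rw [map_mul, map_mul]
      exact Subgroup.mem_center_iff.1 h1 _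

theorem pCore_quotient_eq_bot {X : Type*} [Group X] [Finite X] {p : ℕ} [Fact p.Prime]
    [hn : (Cfsg.pCore p X).Normal] : Cfsg.pCore p (X ⧸ Cfsg.pCore p X) = ⊥ := by
  set π := QuotientGroup.mk' (Cfsg.pCore p X)
  have hker : IsPGroup p π.ker := by
    rw [QuotientGroup.ker_mk']; exact CfsgLib.Amalgam.isPGroup_pCore
  have hle := CfsgLib.Amalgam.le_pCore (CfsgLib.Amalgam.normal_pCore.comap π)
    ((CfsgLib.Amalgam.isPGroup_pCore (p := p)).comap_of_ker_isPGroup π hker)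
  rw [eq_bot_iff]
  intro y hy
  obtain ⟨x, rfl⟩ := QuotientGroup.mk'_surjective _ y
  exact (QuotientGroup.eq_one_iff x).2 (hle hy)

theorem pResidual_normal {X : Type*} [Group X] (p : ℕ) : (Cfsg.pResidual p X).Normal := by
  refine ⟨fun x hx g => ?_⟩
  have h : (Cfsg.pResidual p X).map (MulAut.conj g).toMonoidHom ≤ Cfsg.pResidual p X := by
    rw [Cfsg.pResidual, MonoidHom.map_closure, Subgroup.closure_le]
    rintro _ ⟨y, hy, rfl⟩
    refine Subgroup.subset_closure ?_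
    show (orderOf ((MulAut.conj g) y)).Coprime p
    rwa [MulEquiv.orderOf_eq]
  exact h ⟨x, hx, rfl⟩


/-- Let p ≥ 5 be a prime, G a finite group all of whose composition factors are known simple groups, S a Sylow p-subgroup and P a p-minimal subgroup of G containing S such that O^p(P/O_p(P)) is isomorphic to SL₂(pᵃ), PSL₂(pᵃ), SU₃(pᵃ) or PSU₃(pᵃ) for some a ≥ 1. Let L be the subgroup generated by N_G(S) and the p-minimal subgroups of G containing S other than P. Then either O^p(P) is normal in G, or every p-element of the centre of L lies in O_p(P). -/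
theorem result {G : Type*} [Group G] [Finite G] {p : ℕ} [Fact p.Prime] (hp : 5 ≤ p) (hK : Cfsg.IsCompositionKGroup G)
    (S : Sylow p G) (P : Subgroup G) (hSP : (S : Subgroup G) ≤ P) (hPmin : Cfsg.IsPMinimal p ↥P) [hn : (Cfsg.pCore p ↥P).Normal]
    (hrk1 : ∃ (F : Type) (_ : Field F) (_ : Fintype F) (a : ℕ), 1 ≤ a ∧
      ((Fintype.card F = p ^ a ∧ (Nonempty (↥(Cfsg.pResidual p (↥P ⧸ Cfsg.pCore p ↥P)) ≃* Matrix.SpecialLinearGroup (Fin 2) F) ∨
                                  Nonempty (↥(Cfsg.pResidual p (↥P ⧸ Cfsg.pCore p ↥P)) ≃* Matrix.ProjectiveSpecialLinearGroup (Fin 2) F))) ∨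
       (Fintype.card F = p ^ (2 * a) ∧ (Nonempty (↥(Cfsg.pResidual p (↥P ⧸ Cfsg.pCore p ↥P)) ≃* ↥(Cfsg.SU 3 F (p ^ a))) ∨
                                        Nonempty (↥(Cfsg.pResidual p (↥P ⧸ Cfsg.pCore p ↥P)) ≃* Cfsg.PSU 3 F (p ^ a))))))
    (L : Subgroup G)
    (hL : L = Subgroup.normalizer ((S : Subgroup G) : Set G) ⊔ ⨆ P' : {P' : Subgroup G // (S : Subgroup G) ≤ P' ∧ Cfsg.IsPMinimal p ↥P' ∧ P' ≠ P}, (P' : Subgroup G)) :
    ((Cfsg.pResidual p ↥P).map P.subtype).Normal ∨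
    ∀ z ∈ L ⊓ Subgroup.centralizer (L : Set G), (∃ k : ℕ, orderOf z = p ^ k) → z ∈ (Cfsg.pCore p ↥P).map P.subtype := by
  refine Or.inr ?_
  rintro z ⟨hzL, hzC⟩ ⟨k, hk⟩
  have hNL : Subgroup.normalizer ((S : Subgroup G) : Set G) ≤ L := hL ▸ le_sup_left
  have hcomm : ∀ n ∈ Subgroup.normalizer ((S : Subgroup G) : Set G), n * z = z * n := fun n hn' =>
    Subgroup.mem_centralizer_iff.1 hzC n (hNL hn')
  have hzN : z ∈ Subgroup.normalizer ((S : Subgroup G) : Set G) :=
    Subgroup.mem_normalizer_fintype fun s hs => by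
      show z * s * z⁻¹ ∈ (S : Subgroup G)
      rw [← hcomm s (Subgroup.le_normalizer hs), mul_inv_cancel_right]
      exact hs
  have hzS : z ∈ (S : Subgroup G) := by
    have h1 : IsPGroup p (Subgroup.zpowers z) := IsPGroup.of_card ((Nat.card_zpowers z).trans hk)
    have h2 := h1.inf_normalizer_sylow S
    exact ((h2 ▸ ⟨Subgroup.mem_zpowers z, hzN⟩ : z ∈ Subgroup.zpowers z ⊓ (S : Subgroup G))).2
  obtain ⟨F, iF, iFt, a, ha, h⟩ := hrk1
  set π := QuotientGroup.mk' (Cfsg.pCore p ↥P)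
  obtain ⟨U, w, t, hd⟩ := exists_data hp F ha h
  haveI := pResidual_normal (X := ↥P ⧸ Cfsg.pCore p ↥P) p
  let SP : Sylow p ↥P := S.subtype hSP
  have h1 : π ⟨z, hSP hzS⟩ = 1 := by
    refine CfsgLib.Amalgam.RankOneCentral.eq_one_of_central
      (Cfsg.pResidual p (↥P ⧸ Cfsg.pCore p ↥P)) (fun x hx => Subgroup.subset_closure hx)
      pCore_quotient_eq_bot hd (SP.mapSurjective (QuotientGroup.mk'_surjective _)) _
      ⟨⟨z, hSP hzS⟩, hzS, rfl⟩ fun n hn' => ?_
    obtain ⟨g, rfl⟩ := QuotientGroup.mk'_surjective _ n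
    have hg : (g : G) ∈ Subgroup.normalizer ((S : Subgroup G) : Set G) := by
      refine Subgroup.mem_normalizer_fintype fun s hs => ?_
      obtain ⟨x, hx, he⟩ := (Subgroup.mem_normalizer_iff.1 hn' (π ⟨s, hSP hs⟩)).1 ⟨⟨s, hSP hs⟩, hs, rfl⟩
      have hy : x⁻¹ * (g * ⟨s, hSP hs⟩ * g⁻¹) ∈ (SP : Subgroup ↥P) := by
        refine CfsgLib.Amalgam.pCore_le_sylow SP ((QuotientGroup.eq_one_iff _).1 ?_)
        show π (x⁻¹ * (g * ⟨s, hSP hs⟩ * g⁻¹)) = 1
        rw [map_mul, map_inv, map_mul, map_mul, map_inv, he, inv_mul_cancel]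
      have h2 := (SP : Subgroup ↥P).mul_mem hx hy
      rw [mul_inv_cancel_left] at h2
      exact h2
    rw [← map_mul, ← map_mul]
    exact congrArg π (Subtype.ext (hcomm _ hg))
  exact ⟨⟨z, hSP hzS⟩, (QuotientGroup.eq_one_iff _).1 h1, rfl⟩

end Cfsg.Agent.S3047
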