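import Cfsg.Statements.S3056
import Cfsg.Agent.Lib.Amalgam.PEmbed

set_option autoImplicit false
open Cfsg

namespace Cfsg.Agent.S3056

/-- Let G be a finite group and p a prime. Join two Sylow p-subgroups when they are distinct and meet nontrivially. This graph on the Sylow p-subgroups is disconnected (the Sylow p-subgroups are not chain-connected through nontrivial intersections) if and only if G has a strongly p-embedded subgroup in the classical sense: a proper subgroup H of order divisible by p such that H ∩ gHg⁻¹ has order prime to p for every g outside H. -/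
theorem result {G : Type*} [Group G] [Finite G]
    (p : ℕ) [Fact p.Prime] :
    ¬ Cfsg.IsSylowChainConnected p G ↔
      ∃ H : Subgroup G, H ≠ ⊤ ∧ p ∣ Nat.card H ∧
        ∀ g : G, g ∉ H → ¬ p ∣ Nat.card ↥(H ⊓ H.map (MulAut.conj g).toMonoidHom) := by
  constructor
  · exact CfsgLib.Amalgam.exists_trivialMeet_of_not_connected
  · rintro ⟨H, hH, hpH, hm⟩ hc
    obtain ⟨P, hP⟩ := CfsgLib.Amalgam.exists_sylow_le (CfsgLib.Amalgam.pLocalsLe_iff_trivialMeet.2 hm) hpH
    have hpG : p ∣ Nat.card G := hpH.trans (Subgroup.card_subgroup_dvd_card H)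
    have all : ∀ T : Sylow p G, (T : Subgroup G) ≤ H := by
      intro T
      obtain ⟨n, c, h0, hl, -, hadj⟩ := hc P T
      rw [← hl]
      suffices ∀ i : Fin (n + 1), (c i : Subgroup G) ≤ H from this _
      intro i
      induction i using Fin.induction with
      | zero => rw [h0]; exact hP
      | succ j ih =>
        obtain ⟨-, hne⟩ := hadj j
        obtain ⟨g, hg⟩ := MulAction.exists_smul_eq G (c j.castSucc) (c j.succ)
        have hgH : g ∈ H := by
          by_contra hgH
          refine hm g hgH ?_
          have hle : (c j.castSucc : Subgroup G) ⊓ (c j.succ : Subgroup G) ≤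
              H ⊓ H.map (MulAut.conj g).toMonoidHom := by
            intro x hx
            refine ⟨ih hx.1, CfsgLib.Coprime.mem_map_conj.2 (ih ?_)⟩
            rw [← CfsgLib.Amalgam.mem_conj_smul_iff, hg]; exact hx.2
          haveI := (Subgroup.nontrivial_iff_ne_bot _).2 hne
          obtain ⟨k, hk, hcard⟩ :=
            ((c j.castSucc).isPGroup'.to_le (inf_le_left (b := (c j.succ : Subgroup G)))).nontrivial_iff_card.1 inferInstance
          exact (hcard ▸ dvd_pow_self p hk.ne').trans (Subgroup.card_dvd_of_le hle)
        intro x hx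
        rw [← hg, CfsgLib.Amalgam.mem_conj_smul_iff] at hx
        simpa [mul_assoc] using mul_mem (mul_mem hgH (ih hx)) (inv_mem hgH)
    obtain ⟨g, hg⟩ : ∃ g, g ∉ H := by
      by_contra hall
      push Not at hall
      exact hH (eq_top_iff.2 fun g _ => hall g)
    refine hm g hg ((P.dvd_card_of_dvd_card hpG).trans (Subgroup.card_dvd_of_le (le_inf hP fun x hx => ?_)))
    rw [CfsgLib.Coprime.mem_map_conj]
    exact all (g⁻¹ • P) (by rw [CfsgLib.Amalgam.mem_conj_smul_iff]; simpa [mul_assoc] using hx)

end Cfsg.Agent.S3056
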