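import Cfsg.Statements.S3057
import Cfsg.Agent.Lib.Amalgam.PEmbed
import Cfsg.Agent.S2777
import Cfsg.Agent.Lib.Coprime.Generation
import Cfsg.Agent.Lib.Solvable.UniqueSubgroup
import Cfsg.Agent.Lib.Solvable.PCore
import Cfsg.Agent.Lib.PLength.Constrained
import Cfsg.Agent.Lib.BlockA.PrincipalType

set_option autoImplicit false
open Cfsg

namespace Cfsg.Agent.S3057

open Subgroup CfsgLib.Amalgam

universe u

variable {G : Type u} [Group G] [Finite G] {p : ℕ} [Fact p.Prime]

/-- A strongly `p`-embedded subgroup disconnects the Sylow graph. -/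
theorem not_connected {H : Subgroup G} (hne : H ≠ ⊤) (hp : p ∣ Nat.card H) (hH : PLocalsLe p H) :
    ¬ Cfsg.IsSylowChainConnected p G := by
  intro hc
  obtain ⟨S, hS⟩ := exists_sylow_le hH hp
  have step : ∀ U V : Sylow p G, (U : Subgroup G) ≤ H → (U : Subgroup G) ⊓ (V : Subgroup G) ≠ ⊥ →
      (V : Subgroup G) ≤ H := by
    intro U V hU hne'
    have hd : p ∣ Nat.card ↥((U : Subgroup G) ⊓ (V : Subgroup G)) := by
      haveI := (nontrivial_iff_ne_bot _).2 hne'
      obtain ⟨k, hk, hcard⟩ := (U.isPGroup'.to_le (inf_le_left : (U : Subgroup G) ⊓ (V : Subgroup G) ≤ _)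
        ).nontrivial_iff_card.1 inferInstance
      exact hcard ▸ dvd_pow_self p hk.ne'
    obtain ⟨x, ⟨hxU, hxV⟩, hxo⟩ := exists_mem_prime_order hd
    obtain ⟨g, hg⟩ := MulAction.exists_smul_eq G U V
    have h1 : g⁻¹ * x * g ∈ H := hU ((mem_conj_smul_iff U g x).1 (hg.symm ▸ hxV))
    have hgH := mem_of_conj_mem hH hxo (hU hxU) h1
    intro y hy
    have h2 : g⁻¹ * y * g ∈ H := hU ((mem_conj_smul_iff U g y).1 (hg.symm ▸ hy))
    have := mul_mem (mul_mem hgH h2) (inv_mem hgH)
    rwa [show g * (g⁻¹ * y * g) * g⁻¹ = y by group] at this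
  have hall : ∀ T : Sylow p G, (T : Subgroup G) ≤ H := by
    intro T
    obtain ⟨n, c, h0, hl, -, hadj⟩ := hc S T
    have : ∀ i : Fin (n + 1), (c i : Subgroup G) ≤ H := by
      refine Fin.induction ?_ fun i hi => step _ _ hi (hadj i).2
      rw [h0]; exact hS
    exact hl ▸ this (Fin.last n)
  set N := normalClosure ((S : Subgroup G) : Set G) with hN
  have hNH : N ≤ H := by
    refine (closure_le _).2 fun z hz => ?_
    obtain ⟨a, ha, hza⟩ := Group.mem_conjugatesOfSet_iff.1 hz
    obtain ⟨g, rfl⟩ := isConj_iff.1 hza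
    refine hall (g • S) ((mem_conj_smul_iff S g _).2 ?_)
    rw [show g⁻¹ * (g * a * g⁻¹) * g = a by group]
    exact ha
  refine not_normal_le (N := N) (pLocalsLe_iff_trivialMeet.1 hH) hne ?_ hNH
  exact (S.dvd_card_of_dvd_card (hp.trans (card_subgroup_dvd_card H))).trans (card_dvd_of_le le_normalClosure)

/-- A `p`-solvable group with trivial `O_{p'}` and order divisible by `p` has `O_p ≠ 1`. -/
theorem pCore_quotient_ne_bot (hs : Cfsg.IsPSolvable p G) (hd : p ∣ Nat.card G) :
    haveI := CfsgLib.Solvable.pPrimeCore_normal p G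
    Cfsg.pCore p (G ⧸ Cfsg.pPrimeCore p G) ≠ ⊥ := by
  haveI := CfsgLib.Solvable.pPrimeCore_normal p G
  intro hb
  set N := Cfsg.pPrimeCore p G
  have h1 := CfsgLib.PLength.centralizer_pCore_le_of_isPSolvable
    (CfsgLib.BlockA.isPSolvable_of_surjective (QuotientGroup.mk' N) (QuotientGroup.mk'_surjective N) hs)
    (CfsgLib.Solvable.pPrimeCore_quotient_eq_bot p)
  rw [hb] at h1
  have h2 : Nat.card (G ⧸ N) = 1 := by
    have htop : (⊥ : Subgroup (G ⧸ N)) = ⊤ := by
      refine top_le_iff.1 (le_trans ?_ h1)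
      intro z _ w hw
      rw [SetLike.mem_coe, mem_bot] at hw
      rw [hw, one_mul, mul_one]
    rw [← card_top (G := G ⧸ N), ← htop, card_bot]
  have h3 : p ∣ Nat.card N := by
    rw [card_eq_card_quotient_mul_card_subgroup N, h2, one_mul] at hd
    exact hd
  exact (Fact.out : p.Prime).one_lt.ne'
    (Nat.eq_one_of_dvd_coprimes (CfsgLib.Solvable.pPrimeCore_coprime p) h3 dvd_rfl)

theorem structure_of_pLocalsLe (hs : Cfsg.IsPSolvable p G) (P : Sylow p G) {H : Subgroup G} (hne : H ≠ ⊤)
    (hp : p ∣ Nat.card H) (hH : PLocalsLe p H) :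
    Cfsg.pCore p G = ⊥ ∧ (IsCyclic ↥P ∨ (p = 2 ∧ ∃ n : ℕ, Nonempty (↥P ≃* QuaternionGroup (2 ^ n)))) := by
  haveI := CfsgLib.Solvable.pPrimeCore_normal p G
  have hd : p ∣ Nat.card G := hp.trans (card_subgroup_dvd_card H)
  obtain ⟨S, hS⟩ := exists_sylow_le hH hp
  have hmeet := pLocalsLe_iff_trivialMeet.1 hH
  refine ⟨?_, ?_⟩
  · by_contra hO
    haveI := CfsgLib.Solvable.pCore_normal p G
    haveI := (nontrivial_iff_ne_bot _).2 hO
    obtain ⟨k, hk, hcard⟩ := (CfsgLib.Solvable.pCore_isPGroup (G := G) p).nontrivial_iff_card.1 inferInstance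
    exact not_normal_le hmeet hne (hcard ▸ dvd_pow_self p hk.ne')
      ((CfsgLib.Solvable.pCore_le_sylow S).trans hS)
  have hsub : ∀ {A B : Subgroup ↥S}, Nat.card A = p → Nat.card B = p → A = B := by
    by_contra hcon
    push Not at hcon
    obtain ⟨A, B, hA, hB, hAB⟩ := hcon
    -- a central subgroup of order `p` and another one span a noncyclic elementary abelian group
    have hSne : (S : Subgroup G) ≠ ⊥ := sylow_ne_bot hd S
    haveI : Nontrivial ↥(S : Subgroup G) := (nontrivial_iff_ne_bot _).2 hSne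
    haveI : Nontrivial (center ↥(S : Subgroup G)) := S.isPGroup'.center_nontrivial
    have hZd : p ∣ Nat.card (center ↥(S : Subgroup G)) := by
      obtain ⟨k, hk, hcard⟩ := (S.isPGroup'.to_subgroup (center ↥(S : Subgroup G))).nontrivial_iff_card.1
        inferInstance
      exact hcard ▸ dvd_pow_self p hk.ne'
    obtain ⟨z, hz, hzo⟩ := exists_mem_prime_order hZd
    obtain ⟨C, hC, hCz⟩ : ∃ C : Subgroup ↥S, Nat.card C = p ∧ C ≠ zpowers z := by
      by_cases h : A = zpowers z
      · exact ⟨B, hB, fun e => hAB (h.trans e.symm)⟩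
      · exact ⟨A, hA, h⟩
    haveI : Fact (1 < p) := ⟨(Fact.out : p.Prime).one_lt⟩
    obtain ⟨b, hb, hbo⟩ := exists_mem_prime_order (p := p) (K := C) (dvd_of_eq hC.symm)
    have hbC : zpowers b = C := eq_of_le_of_card_ge (zpowers_le.2 hb) (by rw [Nat.card_zpowers, hbo, hC])
    set E := closure ({(z : G), (b : G)} : Set G) with hE
    have hzb : (z : G) * b = b * z := congrArg Subtype.val (mem_center_iff.1 hz b).symm
    have hEc : IsMulCommutative E := by
      rw [hE]
      exact isMulCommutative_closure (by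
        rintro x (rfl | rfl) y (rfl | rfl)
        exacts [rfl, hzb, hzb.symm, rfl])
    have hzE : (z : G) ∈ E := subset_closure (by simp)
    have hbE : (b : G) ∈ E := subset_closure (by simp)
    have hES : E ≤ (S : Subgroup G) := (closure_le _).2 (by rintro x (rfl | rfl); exacts [z.2, b.2])
    have hEnc : ¬ IsCyclic E := fun hc => hCz (by
      rw [← hbC]
      have := zpowers_eq_of_isCyclic (p := p) hc hbE hzE (by rw [Subgroup.orderOf_coe]; exact hbo)
        (by rw [Subgroup.orderOf_coe]; exact hzo)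
      apply map_injective (S : Subgroup G).subtype_injective
      rw [MonoidHom.map_zpowers, MonoidHom.map_zpowers]
      exact this)
    set N := Cfsg.pPrimeCore p G with hN
    have hcop : (Nat.card E).Coprime (Nat.card N) := by
      obtain ⟨k, hk⟩ := (S.isPGroup'.to_le hES).exists_card_eq
      rw [hk]
      exact (CfsgLib.Solvable.pPrimeCore_coprime p).symm.pow_left k
    have hNH : N ≤ H := by
      rw [← CfsgLib.Coprime.iSup_centralizer_eq hEc hEnc (by rw [normalizer_eq_top]; exact le_top) hcop]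
      refine iSup_le fun a => inf_le_right.trans ?_
      have haS : (a : G) ∈ (S : Subgroup G) := hES a.2.1
      refine le_trans ?_ (hH (zpowers (a : G)) (zpowers_le.2 (hS haS))
        (S.isPGroup'.to_le (zpowers_le.2 haS)) (by rw [Ne, zpowers_eq_bot]; exact a.2.2))
      rw [← centralizer_closure, ← zpowers_eq_closure]
      exact centralizer_le_normalizer _
    set q := QuotientGroup.mk' N with hq
    set K := Cfsg.pCore p (G ⧸ N) with hK
    haveI := CfsgLib.Solvable.pCore_normal p (G ⧸ N)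
    have hKne : K ≠ ⊥ := pCore_quotient_ne_bot hs hd
    have hMd : p ∣ Nat.card (K.comap q) := by
      haveI := (nontrivial_iff_ne_bot _).2 hKne
      obtain ⟨k, hk, hcard⟩ := (CfsgLib.Solvable.pCore_isPGroup (G := G ⧸ N) p).nontrivial_iff_card.1 inferInstance
      have h1 : Nat.card K ∣ Nat.card (K.comap q) := by
        have h2 := card_map_dvd (K.comap q) q
        rwa [map_comap_eq_self_of_surjective (QuotientGroup.mk'_surjective N)] at h2
      exact (hcard ▸ dvd_pow_self p hk.ne' : p ∣ Nat.card K).trans h1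
    refine not_normal_le (N := K.comap q) hmeet hne hMd fun m hm => ?_
    have h1 : q m ∈ ((S : Subgroup G).map q) :=
      CfsgLib.Solvable.pCore_le_sylow (S.mapSurjective (QuotientGroup.mk'_surjective N)) hm
    obtain ⟨x, hx, hxm⟩ := h1
    have h2 : x⁻¹ * m ∈ N := QuotientGroup.eq.1 hxm
    have := mul_mem (hS hx) (hNH h2)
    rwa [mul_inv_cancel_left] at this
  have e : ↥(S : Subgroup G) ≃* ↥(P : Subgroup G) := S.equiv P
  rcases CfsgLib.Solvable.isCyclic_or_quaternion_of_unique S.isPGroup' (fun A B hA hB => hsub hA hB) with h | ⟨h2, n, ⟨f⟩⟩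
  · exact Or.inl (isCyclic_of_surjective e e.surjective)
  · exact Or.inr ⟨h2, n, ⟨e.symm.trans f⟩⟩

/-- Let p be a prime and G a finite p-solvable group of order divisible by p, with Sylow p-subgroup P. Then the Sylow p-subgroups of G fail to be chain-connected through nontrivial intersections (equivalently, G has a strongly p-embedded subgroup) if and only if O_p(G) = 1 and P is cyclic or, for p = 2, generalized quaternion. -/
theorem result {G : Type*} [Group G] [Finite G]
    (p : ℕ) [Fact p.Prime] (hdiv : p ∣ Nat.card G) (hsol : Cfsg.IsPSolvable p G) (P : Sylow p G) :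
    ¬ Cfsg.IsSylowChainConnected p G ↔
      Cfsg.pCore p G = ⊥ ∧ (IsCyclic ↥P ∨ (p = 2 ∧ ∃ n : ℕ, Nonempty (↥P ≃* QuaternionGroup (2 ^ n)))) := by
  constructor
  · intro h
    obtain ⟨H, hne, hp, hm⟩ := exists_trivialMeet_of_not_connected h
    exact structure_of_pLocalsLe hsol P hne hp (pLocalsLe_iff_trivialMeet.2 hm)
  · rintro ⟨hO, hP⟩
    have hP1 : (P : Subgroup G) ≠ ⊥ := sylow_ne_bot hdiv P
    have := Cfsg.Agent.S2777.result hO P hP1 (hP.imp id fun h => by
      obtain ⟨-, n, e⟩ := h; exact ⟨2 ^ n, e⟩)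
    obtain ⟨hne, hp, hH⟩ := isStronglyPEmbedded_iff.1 this
    exact not_connected hne hp hH

end Cfsg.Agent.S3057
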