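import Cfsg.Statements.S3058
import Cfsg.Agent.Lib.Amalgam.PEmbed
import Cfsg.Agent.Lib.Coprime.Generation
import Cfsg.Agent.Lib.Transfer.Frobenius

set_option autoImplicit false
open Cfsg
open scoped commutatorElement

namespace Cfsg.Agent.S3058

/-- Let p be a prime and G a finite group whose Sylow p-subgroups are not chain-connected through nontrivial intersections (so G has a strongly p-embedded subgroup). If N and M are normal subgroups of G whose orders are both divisible by p, then the order of N ∩ M is divisible by p. Consequently, among the normal subgroups of G whose order is divisible by p there is a smallest one (the intersection of all of them). -/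
theorem result {G : Type*} [Group G] [Finite G]
    (p : ℕ) [Fact p.Prime] (hG : ¬ Cfsg.IsSylowChainConnected p G)
    (N M : Subgroup G) [N.Normal] [M.Normal] (hN : p ∣ Nat.card N) (hM : p ∣ Nat.card M) :
    p ∣ Nat.card ↥(N ⊓ M) := by
  obtain ⟨H, hH, hpH, hm⟩ := CfsgLib.Amalgam.exists_trivialMeet_of_not_connected hG
  have hl := CfsgLib.Amalgam.pLocalsLe_iff_trivialMeet.2 hm
  obtain ⟨P, hP⟩ := CfsgLib.Amalgam.exists_sylow_le hl hpH
  by_contra hK
  set K := N ⊓ M with hKdef
  have hKp : (Nat.card K).Coprime p := by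
    rw [Nat.coprime_comm, (Fact.out : p.Prime).coprime_iff_not_dvd]; exact hK
  have hA1 := CfsgLib.Amalgam.sylow_inf_normal_ne_bot P N hN
  have hB1 := CfsgLib.Amalgam.sylow_inf_normal_ne_bot P M hM
  have small : ∀ {X : Subgroup G}, X ≤ (P : Subgroup G) → X ≤ K → X = ⊥ := by
    intro X hXP hXK
    obtain ⟨k, hk⟩ := (P.isPGroup'.to_le hXP).exists_card_eq
    refine Subgroup.card_eq_one.1 (Nat.eq_one_of_dvd_coprimes (a := Nat.card K) (b := p ^ k)
      (hKp.pow_right k) (Subgroup.card_dvd_of_le hXK) (hk ▸ dvd_rfl))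
  have getPrime : ∀ {X : Subgroup G}, X ≤ (P : Subgroup G) → X ≠ ⊥ → ∃ a ∈ X, orderOf a = p := by
    intro X hXP hX
    haveI := (Subgroup.nontrivial_iff_ne_bot X).2 hX
    obtain ⟨k, hk, hcard⟩ := (P.isPGroup'.to_le hXP).nontrivial_iff_card.1 inferInstance
    exact CfsgLib.Amalgam.exists_mem_prime_order (hcard ▸ dvd_pow_self p hk.ne')
  obtain ⟨a, ha, hao⟩ := getPrime inf_le_left hA1
  obtain ⟨b, hb, hbo⟩ := getPrime inf_le_left hB1
  have hab : ∀ u ∈ (P : Subgroup G) ⊓ N, ∀ v ∈ (P : Subgroup G) ⊓ M, u * v = v * u := by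
    intro u hu v hv
    have h1 : ⁅u, v⁆ ∈ (⊥ : Subgroup G) := by
      rw [← small (X := ⁅(P : Subgroup G) ⊓ N, (P : Subgroup G) ⊓ M⁆) ?_ ?_]
      · exact Subgroup.commutator_mem_commutator hu hv
      · refine Subgroup.commutator_le.2 fun y hy w hw => ?_
        rw [commutatorElement_def]
        exact mul_mem (mul_mem (mul_mem hy.1 hw.1) (inv_mem hy.1)) (inv_mem hw.1)
      · refine (Subgroup.commutator_mono inf_le_right inf_le_right).trans ?_
        exact le_inf (Subgroup.commutator_le_left N M) (Subgroup.commutator_le_right N M)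
    exact commutatorElement_eq_one_iff_mul_comm.1 (Subgroup.mem_bot.1 h1)
  set A := Subgroup.zpowers a ⊔ Subgroup.zpowers b with hAdef
  have hAP : A ≤ (P : Subgroup G) := sup_le (Subgroup.zpowers_le.2 ha.1) (Subgroup.zpowers_le.2 hb.1)
  have hAab : IsMulCommutative A := by
    have h : A ≤ Subgroup.centralizer (A : Set G) := by
      rw [hAdef, Subgroup.zpowers_eq_closure, Subgroup.zpowers_eq_closure,
        ← Subgroup.closure_union, Subgroup.centralizer_closure, Subgroup.closure_le]
      intro y hy w hw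
      rcases hy with rfl | rfl <;> rcases hw with rfl | rfl <;>
        first | rfl | exact hab _ ha _ hb | exact (hab _ ha _ hb).symm
    exact ⟨⟨fun y w => Subtype.ext (h w.2 y y.2)⟩⟩
  have hinf : Subgroup.zpowers a ⊓ Subgroup.zpowers b = ⊥ :=
    small ((inf_le_left).trans (Subgroup.zpowers_le.2 ha.1))
      (le_inf (inf_le_left.trans (Subgroup.zpowers_le.2 ha.2)) (inf_le_right.trans (Subgroup.zpowers_le.2 hb.2)))
  have hAnc : ¬ IsCyclic A := by
    intro hc
    have hsub : ∀ c ∈ A, orderOf c = p → Subgroup.zpowers c = Subgroup.zpowers a := by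
      intro c hc' ho
      have ha' : a ∈ A := Subgroup.mem_sup_left (Subgroup.mem_zpowers a)
      exact CfsgLib.Amalgam.zpowers_eq_of_isCyclic hc hc' ha' ho hao
    have := hsub b (Subgroup.mem_sup_right (Subgroup.mem_zpowers b)) hbo
    rw [this, inf_idem] at hinf
    exact CfsgLib.Amalgam.zpowers_ne_bot_of_order hao hinf
  have hKH : K ≤ H := by
    have hcop : (Nat.card A).Coprime (Nat.card K) := by
      obtain ⟨k, hk⟩ := (P.isPGroup'.to_le hAP).exists_card_eq
      rw [hk]; exact Nat.Coprime.pow_left _ hKp.symm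
    have hKn : K.Normal := Subgroup.normal_inf_normal N M
    rw [← CfsgLib.Coprime.iSup_centralizer_eq hAab hAnc (G := K) (by rw [Subgroup.normalizer_eq_top]; exact le_top) hcop]
    refine iSup_le fun c => inf_le_right.trans ?_
    refine le_trans ?_ (hl (Subgroup.zpowers (c : G)) (Subgroup.zpowers_le.2 (hP (hAP c.2.1)))
      (P.isPGroup'.to_le (Subgroup.zpowers_le.2 (hAP c.2.1))) (by simpa [Subgroup.zpowers_eq_bot] using c.2.2))
    rw [Subgroup.zpowers_eq_closure, ← Subgroup.centralizer_closure]
    exact Subgroup.centralizer_le_normalizer _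
  -- every element of `N` normalises `B K`, hence lies in `H`
  set B := (P : Subgroup G) ⊓ M with hBdef
  have hNH : N ≤ H := by
    intro n hn
    obtain ⟨S, hS⟩ := CfsgLib.Transfer.exists_sylow_eq_subgroupOf P M
    set D := B ⊔ K with hD
    have hBD : B ≤ D := le_sup_left
    have hBn : B.map (MulAut.conj n).toMonoidHom ≤ D := by
      rintro _ ⟨v, hv, rfl⟩
      have hk : ⁅n, v⁆ ∈ K := ⟨Subgroup.commutator_le_left N M (Subgroup.commutator_mem_commutator hn hv.2),
        Subgroup.commutator_le_right N M (Subgroup.commutator_mem_commutator hn hv.2)⟩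
      have e : MulAut.conj n v = ⁅n, v⁆ * v := by simp [commutatorElement_def]
      show MulAut.conj n v ∈ D
      rw [e]
      exact mul_mem (Subgroup.mem_sup_right hk) (Subgroup.mem_sup_left hv)
    have hDH : D ≤ H := sup_le (inf_le_left.trans hP) hKH
    obtain ⟨v, hv, hvo⟩ := getPrime inf_le_left hB1
    refine CfsgLib.Amalgam.mem_of_conj_mem hl (x := n * v * n⁻¹)
      (by rw [CfsgLib.Amalgam.orderOf_conj]; exact hvo) (hDH (hBn ⟨v, hv, rfl⟩)) ?_
    rw [show n⁻¹ * (n * v * n⁻¹) * n = v by group]
    exact hP hv.1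
  exact CfsgLib.Amalgam.not_normal_le hm hH hN hNH

end Cfsg.Agent.S3058
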