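import Cfsg.Statements.S3059
import Cfsg.Agent.Lib.Amalgam.PEmbed
import Cfsg.Agent.Lib.Transfer.Frobenius

set_option autoImplicit false
open Cfsg

namespace Cfsg.Agent.S3059

/-- Let p be a prime and H a strongly p-embedded subgroup of the finite group G in the classical sense: H is proper, p divides the order of H, and H ∩ gHg⁻¹ has order prime to p for every g outside H. Then for every normal subgroup N of G of order divisible by p, G = H · O^p(N), where O^p(N) is the subgroup generated by the elements of N of order prime to p. -/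
theorem result {G : Type*} [Group G] [Finite G]
    (p : ℕ) [Fact p.Prime] (H : Subgroup G) (hH : H ≠ ⊤) (hpH : p ∣ Nat.card H)
    (hse : ∀ g : G, g ∉ H → ¬ p ∣ Nat.card ↥(H ⊓ H.map (MulAut.conj g).toMonoidHom))
    (N : Subgroup G) [N.Normal] (hN : p ∣ Nat.card N) :
    H ⊔ Subgroup.closure {g : G | g ∈ N ∧ (orderOf g).Coprime p} = ⊤ := by
  have hl : CfsgLib.Amalgam.PLocalsLe p H := CfsgLib.Amalgam.pLocalsLe_iff_trivialMeet.2 hse
  obtain ⟨P, hP⟩ := CfsgLib.Amalgam.exists_sylow_le hl hpH
  set O := Subgroup.closure {g : G | g ∈ N ∧ (orderOf g).Coprime p} with hO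
  rw [eq_top_iff, ← CfsgLib.Amalgam.sup_normal_eq_top hl hpH hN]
  refine sup_le le_sup_left ?_
  have hON : O ≤ N := (Subgroup.closure_le _).2 fun g hg => hg.1
  have : O.Normal := CfsgLib.Amalgam.closure_normal_of_conj fun g hg x =>
    ⟨‹N.Normal›.conj_mem g hg.1 x, by
      rw [show x * g * x⁻¹ = MulAut.conj x g by simp, MulEquiv.orderOf_eq]; exact hg.2⟩
  let K : Subgroup G := ((P : Subgroup G) ⊓ N) ⊔ O
  suffices N ≤ K from this.trans (sup_le ((inf_le_left.trans hP).trans le_sup_left) le_sup_right)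
  have hKN : K ≤ N := sup_le inf_le_right hON
  refine (Subgroup.eq_of_le_of_card_ge hKN (Nat.le_of_dvd Nat.card_pos ?_)).ge
  rw [← Nat.factorization_prime_le_iff_dvd Nat.card_pos.ne' Nat.card_pos.ne']
  intro q hq
  have : Fact q.Prime := ⟨hq⟩
  rw [← hq.pow_dvd_iff_le_factorization Nat.card_pos.ne']
  by_cases hqp : q = p
  · subst hqp
    obtain ⟨S, hS⟩ := CfsgLib.Transfer.exists_sylow_eq_subgroupOf P N
    have h1 : Nat.card S = q ^ (Nat.card N).factorization q := S.card_eq_multiplicity
    have h2 : Nat.card S = Nat.card ((P : Subgroup G) ⊓ N : Subgroup G) := by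
      rw [← show Nat.card ((S : Subgroup N).map N.subtype) = Nat.card S from Subgroup.card_map_of_injective N.subtype_injective, hS,
        Subgroup.subgroupOf_map_subtype]
    rw [← h1, h2]
    exact Subgroup.card_dvd_of_le le_sup_left
  · obtain ⟨S⟩ : Nonempty (Sylow q N) := inferInstance
    rw [← S.card_eq_multiplicity, ← Subgroup.card_map_of_injective N.subtype_injective]
    refine Subgroup.card_dvd_of_le fun x hx => ?_
    obtain ⟨y, hy, rfl⟩ := hx
    refine Subgroup.mem_sup_right (Subgroup.subset_closure ⟨y.2, ?_⟩)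
    obtain ⟨k, hk⟩ := IsPGroup.iff_orderOf.1 S.isPGroup' ⟨y, hy⟩
    rw [Subgroup.orderOf_mk] at hk
    show (orderOf (y : G)).Coprime p
    rw [Subgroup.orderOf_coe, hk]
    exact Nat.Coprime.pow_left _ ((Nat.coprime_primes hq (Fact.out : p.Prime)).2 hqp)

end Cfsg.Agent.S3059
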