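import Cfsg.Statements.S3061
import Cfsg.Agent.Lib.Transfer.Frobenius
import Cfsg.Agent.Lib.Coprime.Basic

set_option autoImplicit false
open Cfsg
open scoped commutatorElement

namespace Cfsg.Agent.S3061

/-- the defining condition of the family, relative to a subgroup `M` -/
def Mem {S : Type*} [Group S] (M A : Subgroup S) : Prop :=
  A ≤ M ∧ IsMulCommutative A ∧ ∀ x ∈ M,
    ⁅⁅A ⊔ Subgroup.zpowers x, A ⊔ Subgroup.zpowers x⁆, A ⊔ Subgroup.zpowers x⁆ = ⊥ → ∀ a ∈ A, a * x = x * a

theorem mem_conj {S : Type*} [Group S] {M A : Subgroup S} (h : Mem M A) {m : S} (hm : m ∈ M) :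
    Mem M (A.map (MulAut.conj m).toMonoidHom) := by
  refine ⟨?_, (have := h.2.1; Subgroup.map_isMulCommutative A _), ?_⟩
  · rintro _ ⟨a, ha, rfl⟩
    exact mul_mem (mul_mem hm (h.1 ha)) (inv_mem hm)
  intro x hx hc
  rintro _ ⟨a, ha, rfl⟩
  have hx' : m⁻¹ * x * m ∈ M := mul_mem (mul_mem (inv_mem hm) hx) hm
  have he : A.map (MulAut.conj m).toMonoidHom ⊔ Subgroup.zpowers x =
      (A ⊔ Subgroup.zpowers (m⁻¹ * x * m)).map (MulAut.conj m).toMonoidHom := by
    rw [Subgroup.map_sup, MonoidHom.map_zpowers]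
    congr 2
    simp [mul_assoc]
  rw [he, ← Subgroup.map_commutator, ← Subgroup.map_commutator,
    Subgroup.map_eq_bot_iff_of_injective _ (MulAut.conj m).injective] at hc
  have := h.2.2 _ hx' hc a ha
  show m * a * m⁻¹ * x = x * (m * a * m⁻¹)
  calc m * a * m⁻¹ * x = m * (a * (m⁻¹ * x * m)) * m⁻¹ := by group
    _ = _ := by rw [this]; group

theorem exists_normal_lt {S : Type*} [Group S] [Finite S] {p : ℕ} [Fact p.Prime] (hS : IsPGroup p S)
    {M A : Subgroup S} (hA : A < M) : ∃ K : Subgroup S, A ≤ K ∧ K < M ∧ M ≤ Subgroup.normalizer (K : Set S) := by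
  obtain ⟨K, ⟨hAK, hKM⟩, hmax⟩ := Set.Finite.exists_maximalFor id {K : Subgroup S | A ≤ K ∧ K < M}
    (Set.toFinite _) ⟨A, le_rfl, hA⟩
  refine ⟨K, hAK, hKM, ?_⟩
  obtain ⟨y, hyM, hyN, hyK⟩ := CfsgLib.Transfer.exists_mem_normalizer_not_mem (hS.to_subgroup M) hKM
  by_contra hne
  have hle : K ≤ M ⊓ Subgroup.normalizer (K : Set S) := le_inf hKM.le Subgroup.le_normalizer
  have hlt : M ⊓ Subgroup.normalizer (K : Set S) < M :=
    lt_of_le_not_ge inf_le_left fun h => hne (h.trans inf_le_right)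
  exact hyK (hmax ⟨hAK.trans hle, hlt⟩ hle (Subgroup.mem_inf.2 ⟨hyM, hyN⟩))

theorem dStar_commute {S : Type*} [Group S] [Finite S] {p : ℕ} [Fact p.Prime] (hS : IsPGroup p S)
    (M : Subgroup S) : ∀ A B : Subgroup S, Mem M A → Mem M B → A ≤ Subgroup.centralizer (B : Set S) := by
  induction M using WellFoundedLT.induction with
  | ind M ih =>
    intro A B hA hB
    by_cases hMab : M ≤ Subgroup.centralizer (M : Set S)
    · exact hA.1.trans (hMab.trans (Subgroup.centralizer_le hB.1))
    have closure_ab : ∀ C : Subgroup S, Mem M C → ∃ W : Subgroup S, C ≤ W ∧ W ≤ M ∧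
        M ≤ Subgroup.normalizer (W : Set S) ∧ W ≤ Subgroup.centralizer (W : Set S) := by
      intro C hC
      have hlt : C < M := lt_of_le_of_ne hC.1 fun e => hMab (e ▸ fun x hx y hy =>
        have := hC.2.1
        congrArg Subtype.val (mul_comm' (⟨y, hy⟩ : C) ⟨x, hx⟩))
      obtain ⟨K, hCK, hKM, hMK⟩ := exists_normal_lt hS hlt
      let Cm : M → Subgroup S := fun m => C.map (MulAut.conj (m : S)).toMonoidHom
      have hmem : ∀ m : M, Mem K (Cm m) := fun m => by
        refine ⟨?_, (mem_conj hC m.2).2.1, fun x hx => (mem_conj hC m.2).2.2 x (hKM.le hx)⟩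
        rintro _ ⟨c, hc, rfl⟩
        exact (Subgroup.mem_normalizer_iff.1 (hMK m.2) c).1 (hCK hc)
      refine ⟨⨆ m, Cm m, ?_, iSup_le fun m => (hmem m).1.trans hKM.le, ?_, iSup_le fun m => ?_⟩
      · refine le_trans ?_ (le_iSup Cm 1)
        intro c hc
        exact ⟨c, hc, by simp⟩
      · refine fun m hm => ?_
        have key : ∀ m ∈ M, (⨆ m, Cm m).map (MulAut.conj m).toMonoidHom ≤ ⨆ m, Cm m := by
          intro m hm
          rw [Subgroup.map_iSup]
          refine iSup_le fun n => le_trans (le_of_eq ?_) (le_iSup Cm (⟨m, hm⟩ * n))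
          exact CfsgLib.Coprime.map_conj_conj m n C
        rw [Subgroup.mem_normalizer_iff]
        refine fun x => ⟨fun hx => key m hm ⟨x, hx, rfl⟩, fun hx => ?_⟩
        simpa [mul_assoc] using key m⁻¹ (inv_mem hm) ⟨_, hx, rfl⟩
      · rw [Subgroup.le_centralizer_iff]
        exact iSup_le fun n => Subgroup.le_centralizer_iff.1 (ih K hKM _ _ (hmem m) (hmem n))
    obtain ⟨WA, hAW, hWAM, hMWA, hWA⟩ := closure_ab A hA
    obtain ⟨WB, hBW, hWBM, hMWB, hWB⟩ := closure_ab B hB
    intro a ha b hb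
    refine (hA.2.2 b (hB.1 hb) (le_bot_iff.1 ?_) a ha).symm
    have hle : A ⊔ Subgroup.zpowers b ≤ WA ⊔ WB :=
      sup_le_sup hAW (Subgroup.zpowers_le.2 (hBW hb))
    refine (Subgroup.commutator_mono (Subgroup.commutator_mono hle hle) hle).trans ?_
    refine le_bot_iff.2 ((Subgroup.commutator_eq_bot_iff_le_centralizer).2 ?_)
    have hcent : WA ⊓ WB ≤ Subgroup.centralizer ((WA ⊔ WB : Subgroup S) : Set S) := by
      rw [Subgroup.le_centralizer_iff]
      exact sup_le (hWA.trans (Subgroup.centralizer_le fun x hx => hx.1))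
        (hWB.trans (Subgroup.centralizer_le fun x hx => hx.2))
    let D := WA ⊓ WB
    have hD : ∀ u ∈ WA, ∀ v ∈ WB, ⁅u, v⁆ ∈ D := fun u hu v hv => by
      refine Subgroup.mem_inf.2 ⟨?_, ?_⟩
      · rw [commutatorElement_def, show u * v * u⁻¹ * v⁻¹ = u * (v * u⁻¹ * v⁻¹) by group]
        exact mul_mem hu ((Subgroup.mem_normalizer_iff.1 (hMWA (hWBM hv)) _).1 (inv_mem hu))
      · rw [commutatorElement_def]
        exact mul_mem ((Subgroup.mem_normalizer_iff.1 (hMWB (hWAM hu)) _).1 hv) (inv_mem hv)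
    refine le_trans (Subgroup.commutator_le.2 ?_) hcent
    -- products are commuting modulo `D`
    have hDn : WA ⊔ WB ≤ Subgroup.normalizer (D : Set S) := sup_le
      ((le_inf Subgroup.le_normalizer (hWAM.trans hMWB)).trans Subgroup.inf_normalizer_le_normalizer_inf)
      ((le_inf (hWBM.trans hMWA) Subgroup.le_normalizer).trans Subgroup.inf_normalizer_le_normalizer_inf)
    let W := WA ⊔ WB
    let D' := D.subgroupOf W
    have : D'.Normal := Subgroup.normal_subgroupOf_of_le_normalizer hDn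
    let π := QuotientGroup.mk' D'
    intro x hx y hy
    have key : (π ⟨x, hx⟩) * π ⟨y, hy⟩ = π ⟨y, hy⟩ * π ⟨x, hx⟩ := by
      let Z : Subgroup W := (Subgroup.center (W ⧸ D')).comap π
      have hZ : WA.subgroupOf W ⊔ WB.subgroupOf W ≤ Z := by
        have hgen : ∀ u : W, ((u : S) ∈ WA ∨ (u : S) ∈ WB) → ∀ v : W, ((v : S) ∈ WA ∨ (v : S) ∈ WB) →
            π u * π v = π v * π u := by
          intro u hu v hv
          rw [← commutatorElement_eq_one_iff_mul_comm, ← map_commutatorElement]
          refine (QuotientGroup.eq_one_iff _).2 ?_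
          show ⁅(u : S), (v : S)⁆ ∈ D
          rcases hu with hu | hu <;> rcases hv with hv | hv
          · rw [commutatorElement_eq_one_iff_mul_comm.2 (hWA hv u hu)]; exact one_mem D
          · exact hD _ hu _ hv
          · rw [← commutatorElement_inv]; exact inv_mem (hD _ hv _ hu)
          · rw [commutatorElement_eq_one_iff_mul_comm.2 (hWB hv u hu)]; exact one_mem D
        have hall : ∀ u : W, ((u : S) ∈ WA ∨ (u : S) ∈ WB) → u ∈ Z := by
          intro u hu
          show π u ∈ Subgroup.center _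
          rw [Subgroup.mem_center_iff]
          intro q
          obtain ⟨v, rfl⟩ := QuotientGroup.mk'_surjective D' q
          have hv : v ∈ WA.subgroupOf W ⊔ WB.subgroupOf W := by
            rw [← Subgroup.subgroupOf_sup le_sup_left le_sup_right, Subgroup.subgroupOf_self]; trivial
          refine Subgroup.mem_centralizer_singleton_iff.1 (Subgroup.mem_comap.1
            ((sup_le (fun w hw => ?_) (fun w hw => ?_) :
              WA.subgroupOf W ⊔ WB.subgroupOf W ≤ (Subgroup.centralizer {π u}).comap π) hv))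
          · exact Subgroup.mem_centralizer_singleton_iff.2 (hgen w (Or.inl hw) u hu)
          · exact Subgroup.mem_centralizer_singleton_iff.2 (hgen w (Or.inr hw) u hu)
        exact sup_le (fun u hu => hall u (Or.inl hu)) (fun u hu => hall u (Or.inr hu))
      have hx' : (⟨x, hx⟩ : W) ∈ WA.subgroupOf W ⊔ WB.subgroupOf W := by
        rw [← Subgroup.subgroupOf_sup le_sup_left le_sup_right, Subgroup.subgroupOf_self]; trivial
      exact (Subgroup.mem_center_iff.1 (hZ hx') _).symm
    rw [← commutatorElement_eq_one_iff_mul_comm, ← map_commutatorElement] at key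
    exact (QuotientGroup.eq_one_iff (N := D') _).1 key

/-- Let S be a finite p-group. Then D*(S) itself belongs to the family that generates it: D*(S) is abelian, and every x ∈ S with ⟨D*(S), x⟩ of class at most two centralizes D*(S). Hence D*(S) is the unique maximal member of that family. -/
theorem result {S : Type*} [Group S] [Finite S] {p : ℕ} [Fact p.Prime] (hS : IsPGroup p S) :
    Cfsg.dStar S ∈ Cfsg.dStarFamily S := by
  have hcomm : ∀ A ∈ Cfsg.dStarFamily S, ∀ B ∈ Cfsg.dStarFamily S, A ≤ Subgroup.centralizer (B : Set S) := by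
    intro A hA B hB
    exact dStar_commute hS ⊤ A B ⟨le_top, hA.1, fun x _ => hA.2 x⟩ ⟨le_top, hB.1, fun x _ => hB.2 x⟩
  have hD : Cfsg.dStar S ≤ Subgroup.centralizer (Cfsg.dStar S : Set S) := by
    refine sSup_le fun A hA => ?_
    rw [Subgroup.le_centralizer_iff]
    exact sSup_le fun B hB => Subgroup.le_centralizer_iff.1 (hcomm A hA B hB) |>.trans le_rfl
  refine ⟨⟨⟨fun a b => Subtype.ext (hD b.2 a a.2)⟩⟩, fun x hx a ha => ?_⟩
  have hle : Cfsg.dStar S ≤ Subgroup.centralizer ({x} : Set S) := by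
    refine sSup_le fun A hA b hb => ?_
    have hmono : A ⊔ Subgroup.zpowers x ≤ Cfsg.dStar S ⊔ Subgroup.zpowers x :=
      sup_le_sup_right (le_sSup hA) _
    exact Subgroup.mem_centralizer_singleton_iff.2 (hA.2 x
      (le_bot_iff.1 (hx ▸ Subgroup.commutator_mono (Subgroup.commutator_mono hmono hmono) hmono)) b hb)
  exact Subgroup.mem_centralizer_singleton_iff.1 (hle ha)

end Cfsg.Agent.S3061
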