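import Cfsg.Statements.S3062
import Cfsg.Agent.Lib.Amalgam.DStar
import Cfsg.Agent.Lib.Transfer.PGroupNormal

set_option autoImplicit false
open Cfsg

namespace Cfsg.Agent.S3062

/-- Let S be a finite p-group, J(S) the subgroup generated by the abelian subgroups of S of largest order and Z(J(S)) its centre. Then Z(S) ≤ D*(S) ≤ Z(J(S)), and every maximal normal abelian subgroup of S contains D*(S). -/
theorem result {S : Type*} [Group S] [Finite S] {p : ℕ} [Fact p.Prime]
    (hS : IsPGroup p S) :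
    Subgroup.center S ≤ Cfsg.dStar S ∧
    Cfsg.dStar S ≤ Cfsg.thompsonSubgroupA S ⊓ Subgroup.centralizer (Cfsg.thompsonSubgroupA S : Set S) ∧
    ∀ A : Subgroup S, A.Normal → IsMulCommutative A →
      (∀ B : Subgroup S, B.Normal → IsMulCommutative B → A ≤ B → B = A) → Cfsg.dStar S ≤ A := by
  have hset : {A : Subgroup S | CfsgLib.Amalgam.IsDStarMem (⊤ : Subgroup S) A} = Cfsg.dStarFamily S := by
    ext A
    exact ⟨fun h => ⟨h.2.1, fun x hx => h.2.2 x (Subgroup.mem_top x) hx⟩,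
      fun h => ⟨le_top, h.1, fun x _ hx => h.2 x hx⟩⟩
  have hS' : IsPGroup p (⊤ : Subgroup S) := hS.to_subgroup ⊤
  have hD : Cfsg.dStarOf (⊤ : Subgroup S) = Cfsg.dStar S := by
    rw [CfsgLib.Amalgam.dStarOf_eq, hset]; rfl
  refine ⟨?_, le_inf ?_ ?_, ?_⟩
  · rw [← hD]
    refine CfsgLib.Amalgam.le_dStarOf ⟨le_top, inferInstance, fun x _ _ a ha => ?_⟩
    exact (Subgroup.mem_center_iff.1 ha x).symm
  · obtain ⟨A, hA⟩ := CfsgLib.Complement.exists_maxAbIn (⊤ : Subgroup S)
    have hA' : A ∈ Cfsg.maxAbelianSubgroups S := ⟨hA.2.1, fun B hB => hA.2.2 B le_top hB⟩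
    refine le_trans ?_ (le_sSup hA')
    intro d hd
    have hc := CfsgLib.Amalgam.dStarOf_le_centralizer_maxAb hS' hA (hD.symm ▸ hd)
    exact CfsgLib.Complement.mem_maxAbIn_of_centralizes hA (Subgroup.mem_top d) hc
  · rw [Subgroup.le_centralizer_iff]
    refine sSup_le fun A hA => Subgroup.le_centralizer_iff.1 ?_
    rw [← hD]
    exact CfsgLib.Amalgam.dStarOf_le_centralizer_maxAb hS' ⟨le_top, hA.1, fun B _ hB => hA.2 B hB⟩
  · intro A hAn hAc hmax
    haveI := hAn
    haveI := hAc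
    have h1 := CfsgLib.Transfer.centralizer_eq_of_maximal_normal_abelian hS A hmax
    rw [← hD, ← h1]
    exact CfsgLib.Amalgam.mem_centralizes_normal_abelian hS' (CfsgLib.Amalgam.isDStarMem_dStarOf hS') le_top
      (fun g _ => (Subgroup.normalizer_eq_top_iff.2 hAn).ge (Subgroup.mem_top g)) hAc

end Cfsg.Agent.S3062
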