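import Cfsg.Statements.S3063
import Cfsg.Agent.Lib.Complement.AbelianThompson

set_option autoImplicit false
open Cfsg

namespace Cfsg.Agent.S3063

open Subgroup CfsgLib.Complement

variable {S : Type*} [Group S] [Finite S]

theorem card_le_of_cover {A C D : Subgroup S} (hcov : ∀ a ∈ A, ∃ d ∈ D, d⁻¹ * a ∈ C) (hAC : A ⊓ C ≤ D ⊓ C) :
    Nat.card A ≤ Nat.card D := by
  choose f hfD hfC using hcov
  let F : A ⧸ C.subgroupOf A → D ⧸ C.subgroupOf D := fun q =>
    QuotientGroup.mk ⟨f q.out q.out.2, hfD _ _⟩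
  have hF : Function.Injective F := by
    intro q r h
    rw [← QuotientGroup.out_eq' q, ← QuotientGroup.out_eq' r, QuotientGroup.eq, mem_subgroupOf]
    have h' := QuotientGroup.eq.1 h
    rw [mem_subgroupOf] at h'
    have h'' : (f q.out q.out.2)⁻¹ * f r.out r.out.2 ∈ C := h'
    have := mul_mem (mul_mem (inv_mem (hfC q.out q.out.2)) h'') (hfC r.out r.out.2)
    show ((q.out : S))⁻¹ * r.out ∈ C
    simpa [mul_assoc] using this
  rw [card_eq_card_quotient_mul_card_subgroup (C.subgroupOf A),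
    card_eq_card_quotient_mul_card_subgroup (C.subgroupOf D)]
  have e : ∀ X : Subgroup S, Nat.card (C.subgroupOf X) = Nat.card ↥(X ⊓ C) := fun X => by
    rw [← inf_subgroupOf_right C X, Nat.card_congr (subgroupOfEquivOfLe inf_le_right).toEquiv, inf_comm]
  rw [e, e]
  exact Nat.mul_le_mul (Nat.card_le_card_of_injective F hF) (card_le_of_le hAC)

/-- A weak replacement Theorem for metabelian p-groups: let S be a finite p-group whose derived subgroup is abelian and A an abelian subgroup of S of largest possible order. Then the normal closure of A in S contains an abelian subgroup B of the same order as A that is normal in S. -/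
theorem result {S : Type*} [Group S] [Finite S] {p : ℕ} [Fact p.Prime]
    (hS : IsPGroup p S) (hmeta : IsMulCommutative ↥(commutator S))
    (A : Subgroup S) (hA : A ∈ Cfsg.maxAbelianSubgroups S) :
    ∃ B ∈ Cfsg.maxAbelianSubgroups S, B.Normal ∧ B ≤ Subgroup.normalClosure (A : Set S) := by
  classical
  set U := normalClosure (A : Set S) with hU
  set B := commutator S ⊓ U with hB
  haveI : U.Normal := normalClosure_normal
  haveI : B.Normal := inferInstanceAs (commutator S ⊓ U).Normal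
  have hAU : A ≤ U := fun a ha => subset_normalClosure ha
  have hBab : ∀ s ∈ B, ∀ t ∈ B, s * t = t * s := fun s hs t ht =>
    congrArg Subtype.val (hmeta.is_comm.comm (⟨s, hs.1⟩ : commutator S) ⟨t, ht.1⟩)
  have hmaxU : ∀ X ∈ maxAbIn U, X ∈ Cfsg.maxAbelianSubgroups S := fun X hX =>
    ⟨hX.2.1, fun Y hY => (hA.2 Y hY).trans (hX.2.2 A hAU hA.1)⟩
  obtain ⟨A₀, hA₀, hmax⟩ := Set.exists_max_image (maxAbIn U) (fun X : Subgroup S => Nat.card ↥(X ⊓ B))
    (Set.toFinite _) (exists_maxAbIn U)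
  have hnorm : B ≤ normalizer (A₀ : Set S) := by
    by_contra hne
    obtain ⟨A', hA', -, hlt⟩ := abelian_replacement (p := p) (hS.to_subgroup U) (Or.inr hBab) hA₀ inf_le_right
      (by rw [normalizer_eq_top]; exact le_top)
      (fun x hx y hy z hz => by rw [hBab x hx y hy]; simp [Commute, SemiconjBy])
      (fun x hx y hy a ha => by rw [hBab x hx y hy]; simp [Commute, SemiconjBy]) hne
    exact absurd (hmax A' hA') (not_le.2 hlt)
  refine ⟨A₀, hmaxU A₀ hA₀, ⟨fun a ha g => ?_⟩, hA₀.1⟩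
  by_contra hga
  set C := A₀.map (MulAut.conj g).toMonoidHom with hC
  have hcom : ∀ x ∈ A₀, ∀ y : S, x * y * x⁻¹ * y⁻¹ ∈ B := fun x hx y =>
    ⟨by rw [commutator_def]; exact commutator_mem_commutator (mem_top _) (mem_top _), by
      have h1 := mul_mem (hA₀.1 hx) ((inferInstance : U.Normal).conj_mem _ (inv_mem (hA₀.1 hx)) y)
      simpa [mul_assoc] using h1⟩
  have hCU : C ≤ U := by
    rintro _ ⟨x, hx, rfl⟩
    exact (inferInstance : U.Normal).conj_mem x (hA₀.1 hx) g
  have hmove : ∀ x ∈ A₀, x⁻¹ * (g * x * g⁻¹) ∈ B := fun x hx => by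
    have e : x⁻¹ * (g * x * g⁻¹) = x⁻¹ * g * (x⁻¹)⁻¹ * g⁻¹ := by group
    rw [e]; exact hcom x⁻¹ (inv_mem hx) g
  set K := A₀ ⊔ C with hK
  set D := (K ⊓ B) ⊔ (A₀ ⊓ C) with hD
  have hcentral : A₀ ⊓ C ≤ centralizer (K : Set S) := by
    intro z hz
    rw [hK, mem_centralizer_iff]
    intro y hy
    have h1 : A₀ ⊔ C ≤ centralizer ({z} : Set S) := by
      refine sup_le (fun x hx => mem_centralizer_singleton_iff.2 ?_) (fun x hx => mem_centralizer_singleton_iff.2 ?_)
      · exact congrArg Subtype.val (hA₀.2.1.is_comm.comm (⟨x, hx⟩ : A₀) ⟨z, hz.1⟩)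
      · have hCc : IsMulCommutative C := isMulCommutative_map _ hA₀.2.1
        exact congrArg Subtype.val (hCc.is_comm.comm (⟨x, hx⟩ : C) ⟨z, hz.2⟩)
    exact mem_centralizer_singleton_iff.1 (h1 hy)
  have hDK : D ≤ K := sup_le inf_le_left (inf_le_left.trans le_sup_left)
  have hDab : IsMulCommutative D := by
    rw [← le_centralizer_iff_isMulCommutative, hD]
    refine sup_le ?_ (hcentral.trans (centralizer_le hDK))
    rw [le_centralizer_iff]
    refine sup_le ?_ (hcentral.trans (centralizer_le inf_le_left))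
    intro x hx
    exact mem_centralizer_iff.2 fun y hy => hBab y hy.2 x hx.2
  have hcard : Nat.card A₀ ≤ Nat.card D := by
    refine card_le_of_cover (C := C) (fun x hx => ?_) (le_inf le_sup_right inf_le_right)
    have hx' : g * x⁻¹ * g⁻¹ ∈ C := mem_map_of_mem _ (inv_mem hx)
    refine ⟨x * (g * x⁻¹ * g⁻¹), mem_sup_left ⟨mul_mem (mem_sup_left hx) (mem_sup_right hx'), ?_⟩, ?_⟩
    · have := hmove x⁻¹ (inv_mem hx)
      simpa using this
    · have := inv_mem hx'
      simpa [mul_assoc] using this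
  have hDmax : D ∈ maxAbIn U := ⟨hDK.trans (sup_le hA₀.1 hCU), hDab,
    fun E hE hEe => (hA₀.2.2 E hE hEe).trans hcard⟩
  have hle : A₀ ⊓ B ≤ D ⊓ B := le_inf (fun x hx => mem_sup_left ⟨mem_sup_left hx.1, hx.2⟩) inf_le_right
  have heq := eq_of_le_of_card_ge hle (hmax D hDmax)
  have hmem : a⁻¹ * (g * a * g⁻¹) ∈ A₀ ⊓ B := by
    rw [heq]
    exact ⟨mem_sup_left ⟨mul_mem (mem_sup_left (inv_mem ha)) (mem_sup_right (mem_map_of_mem _ ha)), hmove a ha⟩,
      hmove a ha⟩
  exact hga (by simpa using mul_mem ha hmem.1)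

end Cfsg.Agent.S3063
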