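import Cfsg.Statements.S3065
import Cfsg.Agent.Lib.StructC.OutSolvable
import Cfsg.Agent.S0205
-- import your own Cfsg.Agent.* helpers here

set_option autoImplicit false
open Cfsg

namespace Cfsg.Agent.S3065

/-- Let G be a finite non-abelian simple group with a nontrivial Sylow 2-subgroup S (that is, G has even order). If the automorphism group of S is solvable, then the outer automorphism group Out(G) = Aut(G)/Inn(G) is solvable. -/
theorem result {G : Type*} [Group G] [Finite G] [IsSimpleGroup G]
    (hG : ¬ IsMulCommutative G) (S : Sylow 2 G) (hS1 : (S : Subgroup G) ≠ ⊥) (hS : Group.IsSolvable (MulAut ↥S)) :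
    Group.IsSolvable (Cfsg.Out G) := by
  refine CfsgLib.StructC.OutSolvable.isSolvable_out (fun N hN hodd => ?_)
    (fun _ _ _ h => Cfsg.Agent.S0205.result h) S hS
  rcases hN.eq_bot_or_eq_top with h | h
  · exact h
  · exfalso
    rw [h, Subgroup.card_top] at hodd
    obtain ⟨k, hk⟩ := IsPGroup.iff_card.1 S.2
    have hk0 : k ≠ 0 := fun h0 => hS1 (Subgroup.eq_bot_of_card_eq _ (by rw [hk, h0, pow_zero]))
    exact Nat.not_odd_iff_even.2 ((even_iff_two_dvd.2 ((dvd_pow_self 2 hk0).trans (hk ▸ Subgroup.card_subgroup_dvd_card (S : Subgroup G))))) hodd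

end Cfsg.Agent.S3065
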