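-- statement Cfsg.CfsgFrozen.S3067 (Cfsg/Statements/S3067.lean; the theorem Cfsg.loc3_coprime_automorphism_moves_involution_centralizer);
import Cfsg.Statements.S3067
import Cfsg.Agent.Lib.CoprimeInvol.Main

set_option autoImplicit false
open Cfsg

namespace Cfsg.Agent.S3067

/-- Let G be a finite non-abelian simple group, τ an involution of G, and α a nontrivial automorphism of G whose order is coprime to the order of G. Then α moves some element of the centralizer of τ: α does not fix C_G(τ) elementwise. -/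
theorem result {G : Type*} [Group G] [Finite G] [IsSimpleGroup G]
    (hG : ¬ IsMulCommutative G) (τ : G) (hτ : orderOf τ = 2) (α : MulAut G) (hα : α ≠ 1)
    (hcop : (orderOf α).Coprime (Nat.card G)) :
    ∃ c ∈ Subgroup.centralizer ({τ} : Set G), α c ≠ c := by
  by_contra hno
  push Not at hno
  obtain ⟨r, hr, k, hk⟩ := Nat.exists_prime_and_dvd (fun h => hα (orderOf_eq_one_iff.1 h))
  haveI : Fact r.Prime := ⟨hr⟩
  have hpos : 0 < orderOf α := orderOf_pos α
  have hk0 : k ≠ 0 := by
    rintro rfl
    simp [hk] at hpos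
  have hfix : ∀ (i : ℕ), ∀ c ∈ Subgroup.centralizer ({τ} : Set G), (α ^ i) c = c := by
    intro i c hc
    induction i with
    | zero => rfl
    | succ i ih => rw [pow_succ, MulAut.mul_apply, hno c hc, ih]
  have hβ1 : α ^ k = 1 :=
    CfsgLib.CoprimeInvol.eq_one_of_fix_centralizer hG (r := r)
      (by rw [← pow_mul, mul_comm, ← hk, pow_orderOf_eq_one])
      (fun h => hr.one_lt.ne' (Nat.eq_one_of_dvd_coprimes hcop (hk ▸ dvd_mul_right r k) h))
      hτ (hfix k)
  have h1 : orderOf α ∣ k := orderOf_dvd_of_pow_eq_one hβ1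
  have h2 := Nat.le_of_dvd (Nat.pos_of_ne_zero hk0) h1
  rw [hk] at h2
  have h3 : 2 * k ≤ r * k := Nat.mul_le_mul_right k hr.two_le
  omega

end Cfsg.Agent.S3067
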