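import Cfsg.Statements.S3070
import Cfsg.Agent.Lib.Complement.ThompsonFive
import Cfsg.Agent.Lib.Complement.KInfinity

set_option autoImplicit false
open Cfsg

namespace Cfsg.Agent.S3070

/-- Let p ≥ 5 be a prime, S a Sylow p-subgroup of the finite group G and J(S) the subgroup generated by the abelian subgroups of S of largest order. Then G has a normal p-complement if and only if N_G(J(S))/C_G(J(S)) is a p-group (every element of N_G(J(S)) of order prime to p centralizes J(S)). -/
theorem result {G : Type*} [Group G] [Finite G] {p : ℕ} [Fact p.Prime]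
    (hp : 5 ≤ p) (S : Sylow p G) :
    Cfsg.HasNormalPComplement p G ↔
      ∀ g ∈ Subgroup.normalizer (Cfsg.thompsonSubgroupAOf (S : Subgroup G) : Set G), (orderOf g).Coprime p →
        g ∈ Subgroup.centralizer (Cfsg.thompsonSubgroupAOf (S : Subgroup G) : Set G) := by
  obtain ⟨A, hA⟩ := CfsgLib.Complement.exists_maxAbIn (S : Subgroup G)
  have hle := CfsgLib.Complement.thompsonAOf_le (S : Subgroup G)
  refine ⟨fun h g hg hgp => CfsgLib.Transfer.mem_centralizer_of_hasNormalPComplement (S.2.to_le hle)
    (CfsgLib.Transfer.hasNormalPComplement_subgroup _ h) hg hgp, fun h => ?_⟩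
  refine CfsgLib.Complement.hasNormalPComplement_of_thompsonA_five hp S
    (CfsgLib.Complement.hasNormalPComplement_normalizer_of_fixed hle (fun x hx => ?_)
      (Subgroup.le_normalizer.trans (CfsgLib.Complement.normalizer_le_normalizer_thompsonAOf _)) h)
  exact CfsgLib.Complement.le_thompsonAOf hA (CfsgLib.Complement.mem_maxAbIn_of_centralizes hA hx.1
    (Subgroup.centralizer_le (CfsgLib.Complement.le_thompsonAOf hA) hx.2))

end Cfsg.Agent.S3070
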