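import Cfsg.Statements.S3073
import Cfsg.Agent.Lib.Complement.KInfinity

set_option autoImplicit false
universe u
open Cfsg

namespace Cfsg.Agent.S3073

/-- For an odd prime p, every finite p-group S has a characteristic subgroup K with C_S(K) ≤ K such that, whenever S is (isomorphic to) a Sylow p-subgroup of a finite group G, G has a normal p-complement if and only if N_G(K)/C_G(K) is a p-group, i.e. every element of N_G(K) of order prime to p centralizes K (K transported into G along the isomorphism). -/
theorem result (p : ℕ) [Fact p.Prime] (hp : p ≠ 2)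
    (S : Type u) [Group S] [Finite S] (hS : IsPGroup p S) :
    ∃ K : Subgroup S, K.Characteristic ∧ Subgroup.centralizer (K : Set S) ≤ K ∧
      ∀ (G : Type u) [Group G] [Finite G] (P : Sylow p G) (e : ↥(P : Subgroup G) ≃* S),
        Cfsg.HasNormalPComplement p G ↔
          ∀ g ∈ Subgroup.normalizer (((K.comap (e : ↥(P : Subgroup G) →* S)).map (P : Subgroup G).subtype : Subgroup G) : Set G),
            (orderOf g).Coprime p →
              g ∈ Subgroup.centralizer (((K.comap (e : ↥(P : Subgroup G) →* S)).map (P : Subgroup G).subtype : Subgroup G) : Set G) := by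
  have hW := CfsgLib.PLocal.kInfLower_isCharPFunctor.{u} (p := p)
  refine ⟨Cfsg.kInfLower S, ?_, CfsgLib.PLocal.centralizer_kInfLower_le hS, fun G _ _ P e => ?_⟩
  · rw [Subgroup.characteristic_iff_map_eq]
    exact fun φ => hW.2 S S hS φ
  have hK : ((Cfsg.kInfLower S).comap (e : ↥(P : Subgroup G) →* S)).map (P : Subgroup G).subtype =
      Cfsg.inducedFunctor Cfsg.kInfLower (P : Subgroup G) := by
    have h2 : (Cfsg.kInfLower ↥(P : Subgroup G)).map e.toMonoidHom = Cfsg.kInfLower S :=
      hW.2 (P : Subgroup G) S P.2 e
    rw [← h2]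
    exact congrArg (Subgroup.map (P : Subgroup G).subtype)
      (Subgroup.comap_map_eq_self_of_injective e.injective _)
  rw [hK]
  obtain ⟨hKS, hself, hnorm⟩ := CfsgLib.Complement.inducedFunctor_kInfLower_facts P
  refine ⟨fun h g hg hgp => CfsgLib.Transfer.mem_centralizer_of_hasNormalPComplement (P.2.to_le hKS)
    (CfsgLib.Transfer.hasNormalPComplement_subgroup _ h) hg hgp, fun h => ?_⟩
  exact CfsgLib.Complement.hasNormalPComplement_of_kInfLower hp P
    (CfsgLib.Complement.hasNormalPComplement_normalizer_of_fixed hKS hself hnorm h)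

end Cfsg.Agent.S3073
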