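import Cfsg.Statements.S3074
import Cfsg.Agent.Lib.Amalgam.QdBasic
import Cfsg.Agent.Lib.Coprime.SymplecticType

set_option autoImplicit false
open Cfsg

namespace Cfsg.Agent.S3074

open Subgroup CfsgLib.Amalgam
open scoped MatrixGroups commutatorElement

theorem tri_pow {F : Type*} [Field F] (a b x : F) (n : ℕ) :
    Qd.tri a b x ^ n = Qd.tri (n * a + (n.choose 2 : ℕ) * (x * b)) (n * b) (n * x) := by
  induction n with
  | zero => simpa using Qd.tri_zero.symm
  | succ n ih =>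
    rw [pow_succ, ih, Qd.tri_mul, Nat.choose_succ_succ', Nat.choose_one_right]
    congr 1 <;> push_cast <;> ring

theorem syl_structure (p : ℕ) [Fact p.Prime] (hp : p ≠ 2) {X : Type} [Group X] [Finite X]
    (φ : ↥(Qd.syl (ZMod p)) ≃* X) :
    Cfsg.IsExtraspecial p X ∧ Nat.card X = p ^ 3 ∧
      Monoid.exponent X = p := by
  have hpp : p.Prime := Fact.out
  obtain ⟨P, hP⟩ := Qd.exists_sylow_syl (F := ZMod p) (p := p)
  have hpg : IsPGroup p ↥(Qd.syl (ZMod p)) := hP ▸ P.isPGroup'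
  have hpow : ∀ g : ↥(Qd.syl (ZMod p)), g ^ p = 1 := by
    intro g
    obtain ⟨a, b, x, rfl⟩ := Qd.tri_surjective g
    have h2 : p ∣ p.choose 2 := hpp.dvd_choose_self (by norm_num) (lt_of_le_of_ne hpp.two_le (Ne.symm hp))
    rw [tri_pow, (ZMod.natCast_eq_zero_iff _ _).2 h2]
    simpa using Qd.tri_zero
  let e : (ZMod p × ZMod p × ZMod p) → ↥(Qd.syl (ZMod p)) := fun v => Qd.tri v.1 v.2.1 v.2.2
  have hcard : Nat.card ↥(Qd.syl (ZMod p)) = p ^ 3 := by
    rw [← Nat.card_eq_of_bijective e ⟨fun u v h => by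
      obtain ⟨h1, h2, h3⟩ := Qd.tri_inj h
      exact Prod.ext h1 (Prod.ext h2 h3), fun g => by
      obtain ⟨a, b, x, rfl⟩ := Qd.tri_surjective g
      exact ⟨(a, b, x), rfl⟩⟩]
    simp [Nat.card_prod, Nat.card_zmod]
    ring
  let ι : Multiplicative (ZMod p) →* ↥(Qd.syl (ZMod p)) :=
    MonoidHom.mk' (fun a => Qd.tri a.toAdd 0 0) fun a a' => by rw [Qd.tri_mul]; simp
  set Z := ι.range
  have hZmem : ∀ a, Qd.tri a 0 0 ∈ Z := fun a => ⟨Multiplicative.ofAdd a, rfl⟩
  have hZ : Nat.card Z = p := by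
    have hinj : Function.Injective ι := fun u v h => Multiplicative.toAdd.injective (Qd.tri_inj h).1
    rw [← Nat.card_congr (MonoidHom.ofInjective hinj).toEquiv]
    simp [Nat.card_zmod]
  have hcenA : center ↥(Qd.syl (ZMod p)) = Z := ?_
  refine ⟨CfsgLib.Coprime.isExtraspecial_of_central (hpg.of_equiv φ) (Z.map φ.toMonoidHom)
      ((Nat.card_congr (Z.equivMapOfInjective φ.toMonoidHom φ.injective).toEquiv).symm.trans hZ) ?_ ?_
      (fun g => by
        obtain ⟨u, rfl⟩ := φ.surjective g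
        rw [← map_pow, hpow, map_one]; exact one_mem _) ?_,
    (Nat.card_congr φ.toEquiv).symm.trans hcard, (Monoid.exponent_eq_of_mulEquiv φ).symm.trans ?_⟩
  · rw [← hcenA]
    ext x
    obtain ⟨u, rfl⟩ := φ.surjective x
    simp only [mem_center_iff, mem_map, MulEquiv.coe_toMonoidHom]
    constructor
    · exact fun h => ⟨u, fun v => φ.injective (by simpa using h (φ v)), rfl⟩
    · rintro ⟨w, hw, e'⟩ g
      obtain ⟨v, rfl⟩ := φ.surjective g
      rw [← φ.injective e', ← map_mul, ← map_mul, hw]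
  rotate_left 3
  · refine le_antisymm ?_ ?_
    · intro g hg
      obtain ⟨a, b, x, rfl⟩ := Qd.tri_surjective g
      have h1 := mem_center_iff.1 hg (Qd.tri 0 1 0)
      have h2 := mem_center_iff.1 hg (Qd.tri 0 0 1)
      rw [Qd.tri_mul, Qd.tri_mul] at h1 h2
      have hx : x = 0 := by simpa using (Qd.tri_inj h1).1.symm
      have hb : b = 0 := by simpa using (Qd.tri_inj h2).1
      rw [hx, hb]
      exact hZmem a
    · rintro _ ⟨a, rfl⟩
      rw [mem_center_iff]
      intro g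
      obtain ⟨a', b', x', rfl⟩ := Qd.tri_surjective g
      show Qd.tri a' b' x' * Qd.tri a.toAdd 0 0 = Qd.tri a.toAdd 0 0 * Qd.tri a' b' x'
      rw [Qd.tri_mul, Qd.tri_mul]
      congr 1 <;> ring
  · intro g h
    obtain ⟨g, rfl⟩ := φ.surjective g
    obtain ⟨h, rfl⟩ := φ.surjective h
    rw [← map_commutatorElement]
    refine mem_map_of_mem _ ?_
    obtain ⟨a, b, x, rfl⟩ := Qd.tri_surjective g
    obtain ⟨a', b', x', rfl⟩ := Qd.tri_surjective h
    have e : ⁅Qd.tri a b x, Qd.tri a' b' x'⁆ = Qd.tri (x * b' - x' * b) 0 0 := by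
      rw [commutatorElement_def, mul_inv_eq_iff_eq_mul, mul_inv_eq_iff_eq_mul, Qd.tri_mul, Qd.tri_mul,
        Qd.tri_mul]
      congr 1 <;> ring
    rw [e]
    exact hZmem _
  · intro e
    have := congrArg (fun H : Subgroup X => Nat.card H) e
    simp only [(Nat.card_congr (Z.equivMapOfInjective φ.toMonoidHom φ.injective).toEquiv).symm.trans hZ,
      card_top, (Nat.card_congr φ.toEquiv).symm.trans hcard] at this
    have := Nat.pow_lt_pow_right hpp.one_lt (show 1 < 3 by norm_num)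
    rw [pow_one] at this
    omega
  · refine Nat.dvd_antisymm (Monoid.exponent_dvd_of_forall_pow_eq_one hpow) ?_
    have hne : Qd.tri (1 : ZMod p) 0 0 ≠ 1 := fun h => one_ne_zero (Qd.tri_inj (h.trans Qd.tri_zero.symm)).1
    have := Monoid.order_dvd_exponent (Qd.tri (1 : ZMod p) 0 0)
    rwa [orderOf_eq_prime (hpow _) hne] at this

/-- Let p be an odd prime. A Sylow p-subgroup of Qd(p), the split extension of an elementary abelian group of order p² by SL₂(p) acting naturally, is extraspecial of order p³ and exponent p. -/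
theorem result (p : ℕ) [Fact p.Prime] (hp : p ≠ 2) (P : Sylow p ↥(Cfsg.qd p)) :
    Cfsg.IsExtraspecial p ↥P ∧ Nat.card P = p ^ 3 ∧ Monoid.exponent ↥P = p := by
  obtain ⟨P₀, hP₀⟩ := CfsgLib.Amalgam.Qd.exists_sylow_syl (F := ZMod p) (p := p)
  let e : ↥(CfsgLib.Amalgam.Qd.syl (ZMod p)) ≃* ↥(P : Subgroup ↥(Cfsg.qd p)) :=
    (MulEquiv.subgroupCongr hP₀.symm).trans (Sylow.equiv P₀ P)
  exact syl_structure p hp e

end Cfsg.Agent.S3074
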