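import Cfsg.Statements.S3075
import Cfsg.Agent.Lib.Amalgam.WeaklyClosed

set_option autoImplicit false
open Cfsg

namespace Cfsg.Agent.S3075

/-- Let p be an odd prime and N a finite group with a normal elementary abelian subgroup A of order p² that is its own centralizer in N, such that N/A is isomorphic to SL₂(p) (over any field F with p elements). Then N splits over A: some subgroup U of N satisfies A ∩ U = 1 and AU = N. -/
theorem result {N : Type*} [Group N] [Finite N] {p : ℕ} [Fact p.Prime] (hp : p ≠ 2)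
    (A : Subgroup N) [A.Normal] (hAcomm : IsMulCommutative A) (hAcard : Nat.card A = p ^ 2) (hAexp : Monoid.exponent ↥A = p)
    (hAself : Subgroup.centralizer (A : Set N) = A)
    {F : Type*} [Field F] [Fintype F] (hF : Fintype.card F = p) (e : N ⧸ A ≃* Matrix.SpecialLinearGroup (Fin 2) F) :
    ∃ U : Subgroup N, A ⊓ U = ⊥ ∧ A ⊔ U = ⊤ := by
  have hp' : p.Prime := Fact.out
  have hAp : IsPGroup p A := IsPGroup.of_card hAcard
  have hpow : ∀ a ∈ A, a ^ p = 1 := fun a ha => by
    have h : (⟨a, ha⟩ : A) ^ p = 1 := hAexp ▸ Monoid.pow_exponent_eq_one _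
    exact congrArg Subtype.val h
  set π := QuotientGroup.mk' A
  have hπ : Function.Surjective π := QuotientGroup.mk'_surjective A
  set f := (e : N ⧸ A →* Matrix.SpecialLinearGroup (Fin 2) F).comp π
  have hfs : Function.Surjective f := e.surjective.comp hπ
  have hf1 : ∀ n : N, f n = 1 ↔ n ∈ A := fun n => by
    show e (π n) = 1 ↔ _
    rw [map_eq_one_iff e e.injective]; exact QuotientGroup.eq_one_iff n
  have hpchar : CharP F p := charP_of_card_eq_prime hF
  have h2 : (2 : F) ≠ 0 := fun h => hp ((Nat.prime_dvd_prime_iff_eq hp' Nat.prime_two).1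
    ((CharP.cast_eq_zero_iff F p 2).1 (by exact_mod_cast h)))
  obtain ⟨n, hn⟩ := hfs (-1)
  have hn2 : n ^ 2 ∈ A := (hf1 _).1 (by rw [map_pow, hn, neg_one_sq])
  set t := n ^ p
  have ht : f t = -1 := by rw [map_pow, hn, (hp'.odd_of_ne_two hp).neg_one_pow]
  have ht2 : t * t = 1 := by
    have h := hpow _ hn2
    rw [← pow_mul] at h
    rw [← pow_add, ← two_mul]; exact h
  have ht1 : (-1 : Matrix.SpecialLinearGroup (Fin 2) F) ≠ 1 := by
    intro h
    have h00 := congrArg (fun M : Matrix.SpecialLinearGroup (Fin 2) F => (M : Matrix (Fin 2) (Fin 2) F) 0 0) h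
    simp at h00
    exact h2 (by linear_combination -h00)
  have htA : t ∉ A := fun h => ht1 (ht ▸ (hf1 t).2 h)
  have hcomm : ∀ g : N, t * g * t⁻¹ * g⁻¹ ∈ A := fun g => (hf1 _).1 (by
    rw [map_mul, map_mul, map_mul, map_inv, map_inv, ht]; simp)
  have hAc : ∀ a ∈ A, ∀ b ∈ A, a * b = b * a := fun a ha b hb => congrArg Subtype.val (hAcomm.is_comm.comm ⟨a, ha⟩ ⟨b, hb⟩)
  set C := A ⊓ Subgroup.centralizer ({t} : Set N)
  have hCn : C.Normal := by
    refine ⟨fun c hc g => ?_⟩
    obtain ⟨hcA, hct⟩ := Subgroup.mem_inf.1 hc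
    have hgc : g * c * g⁻¹ ∈ A := (inferInstance : A.Normal).conj_mem c hcA g
    refine Subgroup.mem_inf.2 ⟨hgc, Subgroup.mem_centralizer_singleton_iff.2 ?_⟩
    have h1 := hAc _ (hcomm g) _ hgc
    have h3 : c * t = t * c := Subgroup.mem_centralizer_singleton_iff.1 hct
    calc g * c * g⁻¹ * t = g * c * g⁻¹ * (t * g * t⁻¹ * g⁻¹) * (g * t * g⁻¹) := by group
      _ = (t * g * t⁻¹ * g⁻¹) * (g * c * g⁻¹) * (g * t * g⁻¹) := by rw [← h1]
      _ = t * g * t⁻¹ * (c * t) * g⁻¹ := by group
      _ = _ := by rw [h3]; group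
  rcases eq_or_ne C ⊥ with hC | hC
  · refine ⟨Subgroup.centralizer ({t} : Set N), hC, eq_top_iff.2 fun g _ => ?_⟩
    set a := t⁻¹ * (g * t * g⁻¹)
    have haA : a ∈ A := by
      have h := (inferInstance : A.Normal).conj_mem _ (inv_mem (hcomm g)) t⁻¹
      convert h using 1
      simp [a, mul_assoc]
    have hta : t * a * t⁻¹ = a⁻¹ := by
      have hti : t⁻¹ = t := inv_eq_of_mul_eq_one_right ht2
      have hs : (g * t * g⁻¹) * (g * t * g⁻¹) = 1 := by
        rw [show (g * t * g⁻¹) * (g * t * g⁻¹) = g * (t * t) * g⁻¹ by group, ht2]; group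
      have hs' : (g * t * g⁻¹)⁻¹ = g * t * g⁻¹ := inv_eq_of_mul_eq_one_right hs
      simp only [a]
      rw [mul_inv_rev, hs', inv_inv, ← mul_assoc t t⁻¹, mul_inv_cancel, one_mul, hti]
    obtain ⟨k, hk⟩ := (hp'.odd_of_ne_two hp)
    set b := (a ^ (k + 1))⁻¹
    have hb : b * t * b⁻¹ = g * t * g⁻¹ := by
      have h1 : t * (a ^ (k + 1)) * t⁻¹ = (a ^ (k + 1))⁻¹ := by rw [← inv_pow a (k + 1), ← hta, conj_pow]
      have h2' : a ^ (k + 1) * a ^ (k + 1) = a := by
        rw [← pow_add, show k + 1 + (k + 1) = p + 1 by omega, pow_succ, hpow a haA, one_mul]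
      have e1 : b * t * b⁻¹ = t * (a ^ (k + 1) * a ^ (k + 1)) := by
        simp only [b]
        rw [inv_inv, ← h1]; group
      rw [e1, h2']; simp only [a]; group
    have hc : b⁻¹ * g ∈ Subgroup.centralizer ({t} : Set N) := Subgroup.mem_centralizer_singleton_iff.2 (by
      calc b⁻¹ * g * t = b⁻¹ * (g * t * g⁻¹) * g := by group
        _ = b⁻¹ * (b * t * b⁻¹) * g := by rw [hb]
        _ = _ := by group)
    have := mul_mem (Subgroup.mem_sup_left (T := Subgroup.centralizer ({t} : Set N))
      (inv_mem (pow_mem haA (k + 1)) : b ∈ A)) (Subgroup.mem_sup_right hc)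
    rwa [mul_inv_cancel_left] at this
  · exfalso
    have hCA : C < A := by
      refine lt_of_le_of_ne inf_le_left fun h => htA (hAself.le ?_)
      intro a ha
      exact Subgroup.mem_centralizer_singleton_iff.1 (Subgroup.mem_inf.1 (h.ge ha)).2
    have hCp : Nat.card C = p := by
      obtain ⟨i, hi⟩ := (hAp.to_le hCA.le).exists_card_eq
      have hi0 : i ≠ 0 := fun h0 => hC (Subgroup.card_eq_one.1 (by rw [hi, h0, pow_zero]))
      have hlt : Nat.card C < Nat.card A :=
        lt_of_le_of_ne (Subgroup.card_le_of_le hCA.le) fun h => hCA.ne (Subgroup.eq_of_le_of_card_ge hCA.le h.ge)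
      rw [hi, hAcard] at hlt
      rw [hi, show i = 1 by have := (Nat.pow_lt_pow_iff_right hp'.one_lt).1 hlt; omega, pow_one]
    -- elements trivial on `C` and on `A / C`
    let K : Subgroup N := Subgroup.centralizer (C : Set N) ⊓
      (Subgroup.centralizer ((A.map (QuotientGroup.mk' C) : Subgroup (N ⧸ C)) : Set (N ⧸ C))).comap (QuotientGroup.mk' C)
    have hK : ∀ x ∈ K, x ^ p ∈ A := by
      intro x hx
      refine hAself.le fun a ha => ?_
      obtain ⟨h1, h3⟩ := Subgroup.mem_inf.1 hx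
      have h4 : QuotientGroup.mk' C a * QuotientGroup.mk' C x = QuotientGroup.mk' C x * QuotientGroup.mk' C a :=
        h3 _ ⟨a, ha, rfl⟩
      set c := x * a * x⁻¹ * a⁻¹
      have hc : c ∈ C := (QuotientGroup.eq_one_iff c).1 (by
        show QuotientGroup.mk' C c = 1
        simp only [c]
        rw [map_mul, map_mul, map_mul, map_inv, map_inv, ← h4]; group)
      have hj : ∀ j : ℕ, x ^ j * a * (x ^ j)⁻¹ = c ^ j * a := by
        intro j
        induction j with
        | zero => simp
        | succ j ih =>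
          have hxc : x * c ^ j = c ^ j * x := ((h1 (c ^ j) (pow_mem hc j))).symm
          calc x ^ (j + 1) * a * (x ^ (j + 1))⁻¹ = x * (x ^ j * a * (x ^ j)⁻¹) * x⁻¹ := by group
            _ = x * c ^ j * a * x⁻¹ := by rw [ih]; group
            _ = c ^ j * (x * a * x⁻¹ * a⁻¹) * a := by rw [hxc]; group
            _ = _ := by rw [← pow_succ]
      have h5 := hj p
      rw [hpow c hc.1, one_mul, mul_inv_eq_iff_eq_mul] at h5
      exact h5.symm
    have hcent : ∀ {X : Type _} [Group X] [Finite X] (C' : Subgroup X), C'.Normal → Nat.card C' = p →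
        ∀ Q : Subgroup X, IsPGroup p Q → Q ≤ Subgroup.centralizer (C' : Set X) := by
      intro X _ _ C' hn hcard Q hQ
      have hne : C' ≠ ⊥ := fun h => by
        rw [h, Subgroup.card_bot] at hcard; exact hp'.one_lt.ne hcard
      have h := CfsgLib.Amalgam.inf_centralizer_ne_bot hQ (IsPGroup.of_card (n := 1) (by rw [hcard, pow_one])) hne
        (by rw [Subgroup.normalizer_eq_top]; exact le_top)
      have h' : C' ⊓ Subgroup.centralizer (Q : Set X) = C' := by
        refine Subgroup.eq_of_le_of_card_ge inf_le_left ?_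
        obtain ⟨i, hi⟩ := ((IsPGroup.of_card (n := 1) (by rw [hcard, pow_one]) : IsPGroup p C').to_le
          (inf_le_left : C' ⊓ Subgroup.centralizer (Q : Set X) ≤ C')).exists_card_eq
        have : i ≠ 0 := fun h0 => h (Subgroup.card_eq_one.1 (by rw [hi, h0, pow_zero]))
        rw [hcard, hi]
        exact Nat.le_self_pow this p
      exact Subgroup.le_centralizer_iff.1 (h'.ge.trans inf_le_right)
    have hmemK : ∀ x : N, ∀ j : ℕ, x ^ p ^ j = 1 → x ∈ K := by
      intro x j hj
      have hz : IsPGroup p (Subgroup.zpowers x) := by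
        obtain ⟨i, -, hi⟩ := (Nat.dvd_prime_pow hp').1 (orderOf_dvd_of_pow_eq_one hj)
        exact IsPGroup.of_card (n := i) (by rw [Nat.card_zpowers, hi])
      refine Subgroup.mem_inf.2 ⟨hcent C hCn hCp _ hz (Subgroup.mem_zpowers x), ?_⟩
      refine hcent _ (Subgroup.Normal.map inferInstance _ (QuotientGroup.mk'_surjective C)) ?_ _ (hz.map _) ⟨x, Subgroup.mem_zpowers x, rfl⟩
      have h6 : C.relIndex A = Nat.card (A.map (QuotientGroup.mk' C)) := by
        conv_lhs => rw [← QuotientGroup.ker_mk' C]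
        rw [Subgroup.relIndex_ker]
      have h7 := Subgroup.relIndex_mul_relIndex ⊥ C A bot_le hCA.le
      rw [Subgroup.relIndex_bot_left, Subgroup.relIndex_bot_left, hCp, hAcard, h6, pow_two] at h7
      exact Nat.eq_of_mul_eq_mul_left hp'.pos h7
    have hlift : ∀ M : Matrix.SpecialLinearGroup (Fin 2) F, M ^ p = 1 → ∃ x ∈ K, f x = M := by
      intro M hM
      obtain ⟨x, hx⟩ := hfs M
      refine ⟨x, hmemK x 2 ?_, hx⟩
      rw [pow_two, pow_mul, hpow]
      exact (hf1 _).1 (by rw [map_pow, hx, hM])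
    let u : Matrix.SpecialLinearGroup (Fin 2) F := ⟨!![1, 1; 0, 1], by simp [Matrix.det_fin_two_of]⟩
    let v : Matrix.SpecialLinearGroup (Fin 2) F := ⟨!![1, 0; 1, 1], by simp [Matrix.det_fin_two_of]⟩
    have hu : ∀ j : ℕ, ((u ^ j : Matrix.SpecialLinearGroup (Fin 2) F) : Matrix (Fin 2) (Fin 2) F) = !![1, (j : F); 0, 1] := by
      intro j
      induction j with
      | zero => simp [Matrix.one_fin_two]
      | succ j ih => rw [pow_succ, Matrix.SpecialLinearGroup.coe_mul, ih]; simp [u, Matrix.mul_fin_two, add_comm]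
    have hv : ∀ j : ℕ, ((v ^ j : Matrix.SpecialLinearGroup (Fin 2) F) : Matrix (Fin 2) (Fin 2) F) = !![1, 0; (j : F), 1] := by
      intro j
      induction j with
      | zero => simp [Matrix.one_fin_two]
      | succ j ih => rw [pow_succ, Matrix.SpecialLinearGroup.coe_mul, ih]; simp [v, Matrix.mul_fin_two, add_comm]
    have hup : u ^ p = 1 := Subtype.ext (by rw [hu]; simp [Matrix.one_fin_two, CharP.cast_eq_zero])
    have hvp : v ^ p = 1 := Subtype.ext (by rw [hv]; simp [Matrix.one_fin_two, CharP.cast_eq_zero])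
    obtain ⟨x, hx, hxu⟩ := hlift u hup
    obtain ⟨y, hy, hyv⟩ := hlift v hvp
    have h1 : (u * v) ^ p = 1 := by
      rw [← hxu, ← hyv, ← map_mul, ← map_pow]; exact (hf1 _).2 (hK _ (mul_mem hx hy))
    have h3 : (((u * v : Matrix.SpecialLinearGroup (Fin 2) F) : Matrix (Fin 2) (Fin 2) F) - 1) ^ p = 0 := by
      rw [sub_pow_char_of_commute p (Commute.one_right _), one_pow, ← Matrix.SpecialLinearGroup.coe_pow, h1,
        Matrix.SpecialLinearGroup.coe_one, sub_self]
    have h4 := congrArg Matrix.det h3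
    rw [Matrix.det_pow, Matrix.det_zero] at h4
    have h5 := pow_eq_zero_iff (hp'.ne_zero) |>.1 h4
    rw [Matrix.det_fin_two] at h5
    rw [Matrix.SpecialLinearGroup.coe_mul] at h5
    simp [u, v, Matrix.mul_fin_two, Matrix.one_fin_two] at h5

end Cfsg.Agent.S3075
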