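import Cfsg.Statements.S3076
import Cfsg.Agent.Lib.PLocal.Sylow

set_option autoImplicit false
open Cfsg

namespace Cfsg.Agent.S3076

open Subgroup CfsgLib.Solvable

/-- `A` is a `p`-group modulo the normal subgroup `B`. -/
theorem isPGroup_map_mk {N : Type*} [Group N] {p : ℕ} {A B : Subgroup N} [B.Normal]
    (h : ∀ a ∈ A, ∃ k, a ^ p ^ k ∈ B) : IsPGroup p (A.map (QuotientGroup.mk' B)) := by
  rintro ⟨_, a, ha, rfl⟩
  obtain ⟨k, hk⟩ := h a ha
  refine ⟨k, Subtype.ext ?_⟩
  show (QuotientGroup.mk' B a) ^ p ^ k = 1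
  rw [← map_pow, QuotientGroup.mk'_apply, QuotientGroup.eq_one_iff]
  exact hk

theorem exists_pow_mem {N : Type*} [Group N] {p : ℕ} {B : Subgroup N} [B.Normal] {K : Subgroup (N ⧸ B)}
    (hK : IsPGroup p K) {a : N} (ha : a ∈ K.comap (QuotientGroup.mk' B)) : ∃ k, a ^ p ^ k ∈ B := by
  obtain ⟨k, hk⟩ := hK ⟨_, ha⟩
  refine ⟨k, (QuotientGroup.eq_one_iff _).1 ?_⟩
  rw [← QuotientGroup.mk'_apply B, map_pow]
  exact congrArg Subtype.val hk

theorem exists_relIndex_eq_pow {N : Type*} [Group N] [Finite N] {p : ℕ} [Fact p.Prime] {A B : Subgroup N}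
    [B.Normal] (h : ∀ a ∈ A, ∃ k, a ^ p ^ k ∈ B) : ∃ k, B.relIndex A = p ^ k := by
  obtain ⟨k, hk⟩ := (isPGroup_map_mk h).exists_card_eq
  refine ⟨k, ?_⟩
  rw [← hk, ← relIndex_ker, QuotientGroup.ker_mk']

theorem core {N : Type*} [Group N] [Finite N] {p : ℕ} [Fact p.Prime] (Q : Sylow p N) (H C : Subgroup N)
    [H.Normal] [C.Normal] (hHQ : H ≤ (Q : Subgroup N)) (hC : ∀ c, c ∈ C ↔ ∀ h ∈ H, h * c = c * h) :
    (H ≤ (Cfsg.pCore p (N ⧸ C)).comap (QuotientGroup.mk' C) ∧
      ¬ p ∣ H.relIndex ((Cfsg.pCore p (N ⧸ C)).comap (QuotientGroup.mk' C))) ↔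
    ((Q : Subgroup N) ⊓ C ≤ H ∧ Cfsg.pPrimePCore p N = H ⊔ C) := by
  have hpp : p.Prime := Fact.out
  haveI hO := pPrimeCore_normal p N
  set M := (Cfsg.pCore p (N ⧸ C)).comap (QuotientGroup.mk' C) with hM
  have hCM : C ≤ M := fun c hc => by
    rw [hM, mem_comap, QuotientGroup.mk'_apply, (QuotientGroup.eq_one_iff c).2 hc]; exact one_mem _
  have hHM : H ≤ M := map_le_iff_le_comap.1
    (le_pCore (Normal.map inferInstance _ (QuotientGroup.mk'_surjective C)) ((Q.2.to_le hHQ).map _))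
  have hMpow : ∀ m ∈ M, ∃ k, m ^ p ^ k ∈ C := fun m hm => exists_pow_mem (pCore_isPGroup p) hm
  have hOC : Cfsg.pPrimeCore p N ≤ C := by
    intro c hc
    refine (hC c).2 fun h hh => ?_
    refine Subgroup.commute_of_normal_of_disjoint H (Cfsg.pPrimeCore p N) inferInstance hO ?_ h c hh hc
    rw [disjoint_iff, ← Subgroup.card_eq_one]
    obtain ⟨n, hn⟩ := (Q.2.to_le hHQ).exists_card_eq
    exact Nat.eq_one_of_dvd_coprimes (((pPrimeCore_coprime (G := N) p).pow_right n).symm)
      (hn ▸ card_dvd_of_le inf_le_left) (card_dvd_of_le inf_le_right)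
  have hXM : Cfsg.pPrimePCore p N ≤ M := by
    refine map_le_iff_le_comap.1 (le_pCore (Normal.map ((pCore_normal _ _).comap _) _
      (QuotientGroup.mk'_surjective C)) (isPGroup_map_mk ?_))
    intro a ha
    obtain ⟨k, hk⟩ := exists_pow_mem (pCore_isPGroup p) ha
    exact ⟨k, hOC hk⟩
  constructor
  · rintro ⟨-, hidx⟩
    have hQC : (Q : Subgroup N) ⊓ C ≤ H := by
      set R := H ⊔ ((Q : Subgroup N) ⊓ C) with hR
      obtain ⟨k, hk⟩ := (Q.2.to_le (sup_le hHQ inf_le_left) : IsPGroup p R).exists_card_eq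
      have h1 : H.relIndex R ∣ H.relIndex M := Dvd.intro _
        (relIndex_mul_relIndex H R M le_sup_left (sup_le hHM (inf_le_right.trans hCM)))
      have h2 : H.relIndex R = 1 := by
        obtain ⟨j, -, hj⟩ := (Nat.dvd_prime_pow hpp).1 (hk ▸ relIndex_dvd_card H R)
        rcases Nat.eq_zero_or_pos j with rfl | hjpos
        · simpa using hj
        · exact absurd ((hj ▸ dvd_pow_self p hjpos.ne').trans h1) hidx
      exact le_sup_right.trans (relIndex_eq_one.1 h2)
    have hMeq : H ⊔ C = M := by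
      refine le_antisymm (sup_le hHM hCM) (relIndex_eq_one.1 ?_)
      obtain ⟨k, hk⟩ := exists_relIndex_eq_pow hMpow
      have h1 : (H ⊔ C).relIndex M ∣ p ^ k := hk ▸ Dvd.intro_left _
        (relIndex_mul_relIndex C (H ⊔ C) M le_sup_right (sup_le hHM hCM))
      have h2 : (H ⊔ C).relIndex M ∣ H.relIndex M := Dvd.intro_left _
        (relIndex_mul_relIndex H (H ⊔ C) M le_sup_left (sup_le hHM hCM))
      obtain ⟨j, -, hj⟩ := (Nat.dvd_prime_pow hpp).1 h1
      rcases Nat.eq_zero_or_pos j with rfl | hjpos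
      · simpa using hj
      · exact absurd ((hj ▸ dvd_pow_self p hjpos.ne').trans h2) hidx
    refine ⟨hQC, le_antisymm (hXM.trans hMeq.ge) ?_⟩
    obtain ⟨S, hS⟩ := CfsgLib.Transfer.exists_sylow_eq_subgroupOf Q C
    have hcent : normalizer ((S : Subgroup ↥C) : Set ↥C) ≤ centralizer ((S : Subgroup ↥C) : Set ↥C) := by
      intro c _
      rw [mem_centralizer_iff]
      intro s hs
      have hs' : (s : N) ∈ H := hQC ⟨by rw [SetLike.mem_coe, hS, mem_subgroupOf] at hs; exact hs, s.2⟩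
      exact Subtype.ext ((hC c).1 c.2 s hs')
    obtain ⟨K, hK, hKc, hKq⟩ := CfsgLib.Transfer.hasNormalPComplement_iff_exists.1
      (CfsgLib.Transfer.hasNormalPComplement_of_normalizer_le_centralizer S hcent)
    haveI := pPrimeCore_characteristic p ↥C
    have hKO : K.map C.subtype ≤ Cfsg.pPrimeCore p N :=
      (map_mono (le_pPrimeCore hK hKc)).trans
        (le_pPrimeCore inferInstance (by rw [card_map_subtype]; exact pPrimeCore_coprime p))
    have hnorm : ∀ A : Subgroup N, A.Normal → (∀ a ∈ A, ∃ k, a ^ p ^ k ∈ Cfsg.pPrimeCore p N) →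
        A ≤ Cfsg.pPrimePCore p N := fun A hA h => map_le_iff_le_comap.1
      (le_pCore (Normal.map hA _ (QuotientGroup.mk'_surjective _)) (isPGroup_map_mk h))
    refine sup_le (hnorm H inferInstance fun a ha => ?_) (hnorm C inferInstance fun a ha => ?_)
    · obtain ⟨k, hk⟩ := (Q.2.to_le hHQ) ⟨a, ha⟩
      exact ⟨k, by rw [show a ^ p ^ k = 1 from congrArg Subtype.val hk]; exact one_mem _⟩
    · obtain ⟨k, hk⟩ := hKq (QuotientGroup.mk ⟨a, ha⟩)
      rw [← QuotientGroup.mk_pow, QuotientGroup.eq_one_iff] at hk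
      exact ⟨k, hKO ⟨_, hk, rfl⟩⟩
  · rintro ⟨hQC, hX⟩
    have hMX : M ≤ H ⊔ C := by
      rw [← hX]
      refine map_le_iff_le_comap.1 (le_pCore (Normal.map ((pCore_normal _ _).comap _) _
        (QuotientGroup.mk'_surjective _)) (isPGroup_map_mk fun m hm => ?_))
      obtain ⟨k, hk⟩ := hMpow m hm
      have hk' : m ^ p ^ k ∈ Cfsg.pPrimePCore p N := by rw [hX]; exact mem_sup_right hk
      obtain ⟨l, hl⟩ := exists_pow_mem (pCore_isPGroup p) hk'
      exact ⟨k + l, by rw [pow_add, pow_mul]; exact hl⟩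
    have hMeq : M = H ⊔ C := le_antisymm hMX (sup_le hHM hCM)
    refine ⟨hHM, ?_⟩
    rw [hMeq, relIndex_sup_left]
    refine fun h => CfsgLib.PLocal.sylow_inf_normal_not_dvd Q C (h.trans ?_)
    have : (Q : Subgroup N) ⊓ C = H ⊓ C := le_antisymm (le_inf hQC inf_le_right) (inf_le_inf_right C hHQ)
    rw [this, inf_relIndex_right]

/-- Let P be a Sylow p-subgroup of the finite group G and H ≤ P a subgroup with N_P(H) a Sylow p-subgroup of N_G(H). Let N be the preimage in N_G(H) of O_p(N_G(H)/C_G(H)). Then H is a Sylow p-subgroup of N if and only if C_P(H) ≤ H and O_{p',p}(N_G(H)) = H·C_G(H). -/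
theorem result {G : Type*} [Group G] [Finite G] {p : ℕ} [Fact p.Prime]
    (P : Sylow p G) (H : Subgroup G) (hHP : H ≤ (P : Subgroup G))
    (hSyl : ¬ p ∣ ((P : Subgroup G) ⊓ Subgroup.normalizer (H : Set G)).relIndex (Subgroup.normalizer (H : Set G)))
    [hC : ((Subgroup.centralizer (H : Set G)).subgroupOf (Subgroup.normalizer (H : Set G))).Normal] :
    (H ≤ ((Cfsg.pCore p (↥(Subgroup.normalizer (H : Set G)) ⧸
              (Subgroup.centralizer (H : Set G)).subgroupOf (Subgroup.normalizer (H : Set G)))).comap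
            (QuotientGroup.mk' _)).map (Subgroup.normalizer (H : Set G)).subtype ∧
      ¬ p ∣ H.relIndex (((Cfsg.pCore p (↥(Subgroup.normalizer (H : Set G)) ⧸
              (Subgroup.centralizer (H : Set G)).subgroupOf (Subgroup.normalizer (H : Set G)))).comap
            (QuotientGroup.mk' _)).map (Subgroup.normalizer (H : Set G)).subtype)) ↔
    ((P : Subgroup G) ⊓ Subgroup.centralizer (H : Set G) ≤ H ∧
      (Cfsg.pPrimePCore p ↥(Subgroup.normalizer (H : Set G))).map (Subgroup.normalizer (H : Set G)).subtype =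
        H ⊔ Subgroup.centralizer (H : Set G)) := by
  set N := normalizer (H : Set G) with hN
  have hHN : H ≤ N := le_normalizer
  have hi : ¬ p ∣ ((P : Subgroup G).subgroupOf N).index := by
    rw [inf_relIndex_right] at hSyl
    exact hSyl
  let Q : Sylow p ↥N := (P.isPGroup'.comap_of_injective N.subtype N.subtype_injective).toSylow hi
  have hQ : (Q : Subgroup ↥N) = (P : Subgroup G).subgroupOf N := rfl
  haveI : (H.subgroupOf N).Normal := normal_in_normalizer
  have hcomm : ∀ c : ↥N, c ∈ (centralizer (H : Set G)).subgroupOf N ↔ ∀ h ∈ H.subgroupOf N, h * c = c * h := by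
    intro c
    rw [mem_subgroupOf, mem_centralizer_iff]
    exact ⟨fun h x hx => Subtype.ext (h x hx), fun h x hx => congrArg Subtype.val (h ⟨x, hHN hx⟩ hx)⟩
  have key := core Q (H.subgroupOf N) ((centralizer (H : Set G)).subgroupOf N) (fun x hx => hHP hx) hcomm
  have hCN : centralizer (H : Set G) ≤ N := Subgroup.centralizer_le_normalizer _
  have hmH : (H.subgroupOf N).map N.subtype = H := map_subgroupOf_eq_of_le hHN
  have hmC : ((centralizer (H : Set G)).subgroupOf N).map N.subtype = centralizer (H : Set G) :=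
    map_subgroupOf_eq_of_le hCN
  set M : Subgroup ↥N := (Cfsg.pCore p (↥N ⧸ (centralizer (H : Set G)).subgroupOf N)).comap
    (QuotientGroup.mk' _) with hM
  constructor
  · rintro ⟨h1, h2⟩
    have h1' : H.subgroupOf N ≤ M := (map_le_map_iff_of_injective N.subtype_injective).1 (hmH.le.trans h1)
    have h2' : ¬ p ∣ (H.subgroupOf N).relIndex M := fun h => h2 (by
      have e := relIndex_map_map_of_injective (H.subgroupOf N) M N.subtype_injective
      exact (congrArg (fun X => X.relIndex (M.map N.subtype)) hmH).symm.trans e ▸ h)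
    obtain ⟨h3, h4⟩ := key.1 ⟨h1', h2'⟩
    refine ⟨fun x hx => ?_, by rw [h4, Subgroup.map_sup, hmH, hmC]⟩
    exact h3 (x := ⟨x, hCN hx.2⟩) ⟨hx.1, hx.2⟩
  · rintro ⟨h1, h2⟩
    have h3 : Cfsg.pPrimePCore p ↥N = H.subgroupOf N ⊔ (centralizer (H : Set G)).subgroupOf N := by
      apply map_injective N.subtype_injective
      rw [h2, Subgroup.map_sup, hmH, hmC]
    obtain ⟨h4, h5⟩ := key.2 ⟨fun x hx => h1 ⟨hx.1, hx.2⟩, h3⟩
    constructor
    · exact hmH.ge.trans (map_mono h4)
    · have e := (congrArg (fun X => X.relIndex (M.map N.subtype)) hmH).symm.trans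
        (relIndex_map_map_of_injective (H.subgroupOf N) M N.subtype_injective)
      exact e ▸ h5

end Cfsg.Agent.S3076
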