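import Cfsg.Statements.S3078
import Cfsg.Agent.Lib.PLocal.ReplaceA
import Cfsg.Agent.Lib.OddLocal.Replace

set_option autoImplicit false
open Cfsg
open scoped commutatorElement

namespace Cfsg.Agent.S3078

/-- A replacement Theorem for abelian subgroups of p-groups, p odd. Let G be a finite p-group with p odd, A an abelian subgroup of G, and B a subgroup of nilpotency class at most 2 with [B, B] ≤ A, such that A normalizes B but B does not normalize A. Then there is an abelian subgroup A* of G of the same order as A with A ∩ B strictly contained in A* ∩ B, A* contained in N_G(A) and in the normal closure of A, the exponent of A* dividing the exponent of A, and with the subgroup generated by the elements of order dividing p in A of order at most that of the corresponding subgroup of A* (the rank of A is at most the rank of A*). -/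
theorem result {G : Type*} [Group G] [Finite G] {p : ℕ} [Fact p.Prime] (hp : p ≠ 2) (hG : IsPGroup p G) (A B : Subgroup G) (hA : IsMulCommutative A) (hB2 : ⁅⁅B, B⁆, B⁆ = ⊥) (hBA : ⁅B, B⁆ ≤ A) (hAB : A ≤ Subgroup.normalizer (B : Set G)) (hBnA : ¬ B ≤ Subgroup.normalizer (A : Set G)) : ∃ Astar : Subgroup G, IsMulCommutative Astar ∧ Nat.card Astar = Nat.card A ∧ A ⊓ B < Astar ⊓ B ∧ Astar ≤ Subgroup.normalizer (A : Set G) ∧ Astar ≤ Subgroup.normalClosure (A : Set G) ∧ Monoid.exponent Astar ∣ Monoid.exponent A ∧ Nat.card (Cfsg.omegaOne p A) ≤ Nat.card (Cfsg.omegaOne p Astar) := by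
  classical
  set S := A ⊔ B with hSdef
  obtain ⟨x, h, hx, -⟩ := CfsgLib.PLocal.exists_replData (S := S) (hG.to_subgroup S) hA le_sup_left
    le_sup_right (sup_le hAB Subgroup.le_normalizer) hBA (fun h2 => absurd h2 hp) hBnA
  set A' := CfsgLib.PLocal.replA A x with hA'
  have hpodd := (Fact.out : p.Prime).odd_of_ne_two hp
  have hexp : Monoid.exponent A' ∣ Monoid.exponent A := by
    obtain ⟨k, hk⟩ := (hG.to_subgroup A).exists_card_eq
    have hmo : Odd (Monoid.exponent A) := by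
      refine Odd.of_dvd_nat ?_ Group.exponent_dvd_nat_card
      rw [hk]; exact hpodd.pow
    refine Monoid.exponent_dvd_of_forall_pow_eq_one fun g => Subtype.ext ?_
    exact h.pow_eq_one hmo (fun a ha => congrArg Subtype.val (Monoid.pow_exponent_eq_one (⟨a, ha⟩ : A))) g.2
  have hnc : A' ≤ Subgroup.normalClosure (A : Set G) := by
    refine h.le_sup_conj.trans (sup_le Subgroup.le_normalClosure ?_)
    rintro _ ⟨a, ha, rfl⟩
    exact Subgroup.normalClosure_normal.conj_mem a (Subgroup.le_normalClosure ha) x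
  refine ⟨A', h.isMulCommutative, h.card_eq, h.inf_lt hx, h.le_normalizer_self, hnc, hexp, ?_⟩
  set D := A ⊓ A.map (MulAut.conj x).toMonoidHom with hD
  set E := Cfsg.omegaOne p A with hE
  set E' := Cfsg.omegaOne p A' with hE'
  have hEmem : ∀ y, y ∈ E ↔ y ∈ A ∧ y ^ p = 1 := by
    intro y
    refine ⟨fun hy => ?_, fun hy => Subgroup.subset_closure hy⟩
    induction hy using Subgroup.closure_induction with
    | mem z hz => exact hz
    | one => exact ⟨A.one_mem, one_pow p⟩
    | mul y z _ _ hy hz => exact ⟨A.mul_mem hy.1 hz.1, by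
        rw [(show Commute y z from h.acomm hy.1 hz.1).mul_pow, hy.2, hz.2, one_mul]⟩
    | inv y _ hy => exact ⟨A.inv_mem hy.1, by rw [inv_pow, hy.2, inv_one]⟩
  have hE'mem : ∀ y, y ∈ A' → y ^ p = 1 → y ∈ E' := fun y h1 h2 => Subgroup.subset_closure ⟨h1, h2⟩
  have hEA : E ≤ A := fun y hy => ((hEmem y).1 hy).1
  have hue : ∀ e ∈ E, e * x * e⁻¹ * x⁻¹ ∈ E' := by
    intro e he
    have hEc : IsMulCommutative E := ⟨⟨fun a b => Subtype.ext (h.acomm (hEA a.2) (hEA b.2))⟩⟩
    refine hE'mem _ (Subgroup.mem_sup_right (Subgroup.subset_closure ⟨e, hEA he, rfl⟩)) ?_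
    have h' : CfsgLib.PLocal.ReplData A B x := h
    set y := e with hy
    set z := x * e⁻¹ * x⁻¹ with hz
    rw [show e * x * e⁻¹ * x⁻¹ = y * z by rw [hy, hz]; group]
    have hyp : y ^ p = 1 := ((hEmem e).1 he).2
    have hzp : z ^ p = 1 := by rw [hz, conj_pow, inv_pow, hyp, inv_one, mul_one, mul_inv_cancel]
    have hcD : z * y * z⁻¹ * y⁻¹ ∈ A ⊓ A.map (MulAut.conj x).toMonoidHom := by
      have hzm : z ∈ A.map (MulAut.conj x).toMonoidHom := ⟨e⁻¹, A.inv_mem (hEA he), rfl⟩
      refine ⟨A.mul_mem ((Subgroup.mem_normalizer_iff.mp (h.left _ (A.inv_mem (hEA he))) e).mp (hEA he))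
        (A.inv_mem (hEA he)), ?_⟩
      rw [show z * y * z⁻¹ * y⁻¹ = z * (y * z⁻¹ * y⁻¹) by group]
      refine mul_mem hzm ?_
      obtain ⟨c, hc', hce⟩ := Subgroup.inv_mem _ hzm
      refine ⟨(x⁻¹ * e * x) * c * (x⁻¹ * e * x)⁻¹,
        (Subgroup.mem_normalizer_iff.mp (h.right e (hEA he)) c).mp hc', ?_⟩
      change x * c * x⁻¹ = z⁻¹ at hce
      show x * (x⁻¹ * e * x * c * (x⁻¹ * e * x)⁻¹) * x⁻¹ = y * z⁻¹ * y⁻¹
      rw [← hce, hy]; group
    have hy1 : y ∈ A ⊔ A.map (MulAut.conj x).toMonoidHom := Subgroup.mem_sup_left (hEA he)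
    have hz1 : z ∈ A ⊔ A.map (MulAut.conj x).toMonoidHom :=
      Subgroup.mem_sup_right ⟨e⁻¹, A.inv_mem (hEA he), rfl⟩
    exact CfsgLib.OddLocal.mul_pow_eq_one_of_class_two hpodd hyp hzp
      (h.sup_central hcD hy1).symm (h.sup_central hcD hz1).symm
  let F : E → E' ⧸ D.subgroupOf E' := fun e => QuotientGroup.mk ⟨_, hue e e.2⟩
  have hinj : ∀ a b : E, F a = F b → ((a : G))⁻¹ * b ∈ D := by
    intro a b hab
    have := QuotientGroup.eq.1 hab
    rw [Subgroup.mem_subgroupOf] at this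
    change ((a : G) * x * (a : G)⁻¹ * x⁻¹)⁻¹ * ((b : G) * x * (b : G)⁻¹ * x⁻¹) ∈ D at this
    set c := (a : G)⁻¹ * b with hc
    have hcA : c ∈ A := A.mul_mem (A.inv_mem (hEA a.2)) (hEA b.2)
    set ua := (a : G) * x * (a : G)⁻¹ * x⁻¹ with hua
    set uc := c * x * c⁻¹ * x⁻¹ with huc
    have huc' : uc ∈ D := by
      have e1 : uc = (a : G)⁻¹ * (((b : G) * x * (b : G)⁻¹ * x⁻¹) * ua⁻¹) * a := by
        simp only [huc, hua, hc]; group
      have huaS : ua ∈ A ⊔ A.map (MulAut.conj x).toMonoidHom :=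
        (h.closure_le (Subgroup.subset_closure ⟨a, hEA a.2, rfl⟩)).2
      set d := ua⁻¹ * ((b : G) * x * (b : G)⁻¹ * x⁻¹) with hd
      have e2 : ((b : G) * x * (b : G)⁻¹ * x⁻¹) * ua⁻¹ = d := by
        rw [show ((b : G) * x * (b : G)⁻¹ * x⁻¹) * ua⁻¹ = ua * d * ua⁻¹ by rw [hd]; group,
          ← (h.sup_central this huaS).eq, mul_inv_cancel_right]
      rw [e1, e2, mul_assoc, (h.sup_central this (Subgroup.mem_sup_left (hEA a.2))).eq,
        inv_mul_cancel_left]
      exact this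
    refine ⟨hcA, x⁻¹ * c * x, ?_, by simp [mul_assoc]⟩
    obtain ⟨d₀, hd₀, hde⟩ := huc'.2
    change x * d₀ * x⁻¹ = uc at hde
    have e3 : x⁻¹ * c * x = d₀ * c := by
      rw [show d₀ = x⁻¹ * uc * x by rw [← hde]; group, huc]; group
    rw [e3]
    exact A.mul_mem hd₀ hcA
  let F₂ : E ⧸ D.subgroupOf E → E' ⧸ D.subgroupOf E' := fun q => F q.out
  have hF₂ : Function.Injective F₂ := fun q r hqr => by
    rw [← QuotientGroup.out_eq' q, ← QuotientGroup.out_eq' r, QuotientGroup.eq, Subgroup.mem_subgroupOf]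
    exact hinj _ _ hqr
  have hD' : Nat.card ↥(D.subgroupOf E) ≤ Nat.card ↥(D.subgroupOf E') := by
    refine Nat.card_le_card_of_injective
      (fun d => (⟨⟨(d : E).1, hE'mem _ (Subgroup.mem_sup_left d.2) ((hEmem _).1 d.1.2).2⟩, d.2⟩ :
        D.subgroupOf E')) fun d e hde => Subtype.ext (Subtype.ext (congrArg (fun z : D.subgroupOf E' => (z : E').1) hde))
  rw [Subgroup.card_eq_card_quotient_mul_card_subgroup (D.subgroupOf E),
    Subgroup.card_eq_card_quotient_mul_card_subgroup (D.subgroupOf E')]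
  exact Nat.mul_le_mul (Nat.card_le_card_of_injective F₂ hF₂) hD'

end Cfsg.Agent.S3078
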