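import Cfsg.Statements.S3084
import Cfsg.Agent.Lib.Amalgam.CliffordExtension
import Cfsg.Agent.Lib.Coprime.SymplecticType
import Mathlib.LinearAlgebra.Dual.Lemmas

set_option autoImplicit false
open Cfsg

namespace Cfsg.Agent.S3084

open Matrix CfsgLib.Amalgam.Pauli

/-- Hyperbolic coordinates for a form of plus type. -/
theorem exists_coords {U : Type*} [AddCommGroup U] [Module (ZMod 2) U] [Module.Finite (ZMod 2) U] (n : ℕ)
    (hn : Module.finrank (ZMod 2) U = 2 * n) (q : QuadraticForm (ZMod 2) U)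
    (hnd : (QuadraticMap.polarBilin q).Nondegenerate) (W : Submodule (ZMod 2) U)
    (hW : Module.finrank (ZMod 2) ↥W = n) (hW0 : ∀ w ∈ W, q w = 0) :
    ∃ e : U ≃ₗ[ZMod 2] Pt n, ∀ u, q u = cB n (e u) (e u) := by
  classical
  set B := QuadraticMap.polarBilin q with hB
  have hBapply : ∀ u v, B u v = q (u + v) - q u - q v := fun u v => rfl
  let Φ : U →ₗ[ZMod 2] Module.Dual (ZMod 2) W := B.compl₂ W.subtype
  have hΦ : Function.Surjective Φ := by
    intro f
    obtain ⟨g, rfl⟩ := Subspace.dualRestrict_surjective (W := W) f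
    have hbij : Function.Surjective B :=
      (LinearMap.injective_iff_surjective_of_finrank_eq_finrank (Subspace.dual_finrank_eq).symm).1
        (fun a b h => sub_eq_zero.1 (hnd.1 (a - b) fun c => by
          rw [map_sub, LinearMap.sub_apply, h, sub_self]))
    obtain ⟨u, rfl⟩ := hbij g
    exact ⟨u, rfl⟩
  obtain ⟨sec, hsec⟩ := Φ.exists_rightInverse_of_surjective (LinearMap.range_eq_top.2 hΦ)
  have hsec' : ∀ f, Φ (sec f) = f := fun f => LinearMap.congr_fun hsec f
  let bd := Module.finBasis (ZMod 2) (Module.Dual (ZMod 2) W)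
  let L := (q.comp sec).toBilin bd
  have hL : ∀ f, L f f = q (sec f) := fun f => by
    have := congrArg (fun Q : QuadraticMap (ZMod 2) (Module.Dual (ZMod 2) W) (ZMod 2) => Q f)
      (QuadraticMap.toQuadraticMap_toBilin (q.comp sec) bd)
    simpa using this
  let μ : Module.Dual (ZMod 2) W →ₗ[ZMod 2] W := (Module.evalEquiv (ZMod 2) W).symm.toLinearMap.comp L
  have hμ : ∀ f, f (μ f) = q (sec f) := fun f => by
    rw [← hL]
    exact Module.apply_evalEquiv_symm_apply (ZMod 2) W f (L f)
  let sec' : Module.Dual (ZMod 2) W →ₗ[ZMod 2] U := sec + W.subtype.comp μ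
  have hadd : ∀ u v, q (u + v) = q u + q v + B u v := fun u v => by rw [hBapply]; ring
  have hWW : ∀ w v : W, B (w : U) (v : U) = 0 := fun w v => by
    rw [hBapply, hW0 _ (add_mem w.2 v.2), hW0 _ w.2, hW0 _ v.2]; simp
  have hs0 : ∀ f, q (sec' f) = 0 := by
    intro f
    show q (sec f + ((μ f : W) : U)) = 0
    rw [hadd, hW0 _ (μ f).2, add_zero]
    have : B (sec f) ((μ f : W) : U) = Φ (sec f) (μ f) := rfl
    rw [this, hsec', hμ, CharTwo.add_self_eq_zero]
  have hΦs : ∀ f, Φ (sec' f) = f := by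
    intro f
    refine LinearMap.ext fun v => ?_
    show B (sec f + ((μ f : W) : U)) (v : U) = f v
    rw [map_add, LinearMap.add_apply, hWW, add_zero]
    exact LinearMap.congr_fun (hsec' f) v
  let bW : Module.Basis (Fin n) (ZMod 2) W := Module.finBasisOfFinrankEq (ZMod 2) W hW
  let θ : Pt n →ₗ[ZMod 2] U :=
    (W.subtype.comp bW.equivFun.symm.toLinearMap).coprod
      (sec'.comp (bW.dualBasis.equivFun.symm.toLinearMap))
  have hinj : Function.Injective θ := by
    rw [← LinearMap.ker_eq_bot, LinearMap.ker_eq_bot']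
    rintro ⟨a, b⟩ h
    have h' : ((bW.equivFun.symm a : W) : U) + sec' (bW.dualBasis.equivFun.symm b) = 0 := h
    have h1 := congrArg Φ h'
    rw [map_add, map_zero, hΦs] at h1
    have h2 : Φ ((bW.equivFun.symm a : W) : U) = 0 := LinearMap.ext fun v => hWW _ v
    rw [h2, zero_add] at h1
    have hb : b = 0 := bW.dualBasis.equivFun.symm.map_eq_zero_iff.1 h1
    rw [h1, map_zero, add_zero] at h'
    have ha : a = 0 := bW.equivFun.symm.map_eq_zero_iff.1 (Subtype.ext h')
    rw [ha, hb]; rfl
  have hfr : Module.finrank (ZMod 2) (Pt n) = Module.finrank (ZMod 2) U := by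
    rw [hn, Module.finrank_prod, Module.finrank_pi, Fintype.card_fin, two_mul]
  let e₀ := LinearMap.linearEquivOfInjective θ hinj hfr
  refine ⟨e₀.symm, fun u => ?_⟩
  obtain ⟨⟨a, b⟩, rfl⟩ := e₀.surjective u
  rw [e₀.symm_apply_apply]
  show q (((bW.equivFun.symm a : W) : U) + sec' (bW.dualBasis.equivFun.symm b)) = b ⬝ᵥ a
  rw [hadd, hW0 _ (bW.equivFun.symm a).2, hs0, zero_add, zero_add]
  have hsym : ∀ x y, B x y = B y x := fun x y => by rw [hBapply, hBapply, add_comm x y]; ring
  rw [hsym]
  show Φ (sec' (bW.dualBasis.equivFun.symm b)) (bW.equivFun.symm a) = b ⬝ᵥ a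
  rw [hΦs, Module.Basis.equivFun_symm_apply, Module.Basis.equivFun_symm_apply, LinearMap.sum_apply, dotProduct]
  refine Finset.sum_congr rfl fun i _ => ?_
  rw [LinearMap.smul_apply, map_sum, smul_eq_mul, Finset.sum_eq_single i]
  · rw [map_smul, Module.Basis.dualBasis_apply_self, smul_eq_mul, if_pos rfl, mul_one]
  · intro j _ hj
    rw [map_smul, Module.Basis.dualBasis_apply_self, if_neg hj, smul_zero]
  · exact fun h => absurd (Finset.mem_univ _) h

/-- The orthogonal group on signed functions of `F₂ⁿ`. -/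
abbrev Amb (n : ℕ) : Type := ↥(Matrix.orthogonalGroup (Fin n → ZMod 2) ℝ)

variable {n : ℕ}

/-- A signed Pauli element. -/
noncomputable def el (s : ZMod 2) (u : Pt n) : Amb n :=
  ⟨sgn s • mat u, (Matrix.mem_orthogonalGroup_iff _ ℝ).2 (by
    rw [Matrix.transpose_smul, Matrix.smul_mul, Matrix.mul_smul, mat_mul_transpose, smul_smul, sgn_mul_self,
      one_smul])⟩

theorem el_mul (s t : ZMod 2) (u v : Pt n) : el s u * el t v = el (s + t + cB n u v) (u + v) := by
  apply Subtype.ext
  show sgn s • mat u * (sgn t • mat v) = sgn (s + t + cB n u v) • mat (u + v)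
  rw [Matrix.smul_mul, Matrix.mul_smul, mat_mul, smul_smul, smul_smul, sgn_add, sgn_add, mul_assoc]

theorem el_zero : el (0 : ZMod 2) (0 : Pt n) = 1 := by
  apply Subtype.ext
  show sgn 0 • mat (0 : Pt n) = 1
  rw [sgn_zero, mat_zero, one_smul]

theorem el_inj {s t : ZMod 2} {u v : Pt n} (h : el s u = el t v) : s = t ∧ u = v :=
  smul_mat_injective (congrArg Subtype.val h)

theorem el_central (s : ZMod 2) (g : Amb n) : el s 0 * g = g * el s 0 := by
  apply Subtype.ext
  show sgn s • mat (0 : Pt n) * (g : Matrix _ _ ℝ) = (g : Matrix _ _ ℝ) * (sgn s • mat (0 : Pt n))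
  rw [mat_zero, Matrix.smul_mul, Matrix.mul_smul, Matrix.one_mul, Matrix.mul_one]

theorem el_split (s : ZMod 2) (u : Pt n) : el s u = el s 0 * el 0 u := by
  rw [el_mul, map_zero, LinearMap.zero_apply, zero_add, add_zero, add_zero]

theorem pt_add_self (u : Pt n) : u + u = 0 := by ext i <;> simp [CharTwo.add_self_eq_zero]

variable {K : Type*} [Group K] (σ : K →* (Pt n →ₗ[ZMod 2] Pt n))

/-- The extension inside the orthogonal group. -/
noncomputable def bigR : Subgroup (Amb n) where
  carrier := {g | ∃ k, ∀ u, ∃ s, g * el 0 u = el s (σ k u) * g}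
  one_mem' := ⟨1, fun u => ⟨0, by rw [map_one, one_mul, mul_one]; rfl⟩⟩
  mul_mem' := by
    rintro a b ⟨k, hk⟩ ⟨l, hl⟩
    refine ⟨k * l, fun u => ?_⟩
    obtain ⟨s, hs⟩ := hl u
    obtain ⟨t, ht⟩ := hk (σ l u)
    refine ⟨s + t, ?_⟩
    rw [mul_assoc, hs, el_split, mul_assoc, ← mul_assoc a, ← el_central, mul_assoc, ← mul_assoc a, ht,
      ← mul_assoc, ← mul_assoc, el_mul, map_mul, map_zero, LinearMap.zero_apply, zero_add, add_zero,
      mul_assoc]
    rfl
  inv_mem' := by
    rintro a ⟨k, hk⟩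
    refine ⟨k⁻¹, fun u => ?_⟩
    obtain ⟨s, hs⟩ := hk (σ k⁻¹ u)
    have e : σ k (σ k⁻¹ u) = u := by
      rw [← Module.End.mul_apply, ← map_mul, mul_inv_cancel, map_one]; rfl
    rw [e] at hs
    refine ⟨s, ?_⟩
    rw [inv_mul_eq_iff_eq_mul, ← mul_assoc, eq_mul_inv_iff_mul_eq, el_split s (σ k⁻¹ u), ← mul_assoc,
      ← el_central, mul_assoc, hs, ← mul_assoc, el_mul, map_zero, LinearMap.zero_apply, zero_add, add_zero,
      CharTwo.add_self_eq_zero]

theorem exists_rep (hσq : ∀ k u, cB n (σ k u) (σ k u) = cB n u u) (k : K) :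
    ∃ g : Amb n, ∀ u, ∃ s, g * el 0 u = el s (σ k u) * g := by
  obtain ⟨g, hg, hgi⟩ := exists_intertwiner (σ k) (hσq k)
  refine ⟨⟨g, (Matrix.mem_orthogonalGroup_iff' _ ℝ).2 hg⟩, fun u => ?_⟩
  obtain ⟨s, hs⟩ := hgi u
  refine ⟨s, Subtype.ext ?_⟩
  show g * (sgn 0 • mat u) = sgn s • mat (σ k u) * g
  rw [sgn_zero, one_smul, hs, Matrix.smul_mul]

theorem mem_el_of_fix {g : Amb n} (hg : ∀ u, ∃ s, g * el 0 u = el s u * g) : ∃ t w, g = el t w := by
  classical
  choose f hf using hg
  have hadd : ∀ u v, f (u + v) = f u + f v := by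
    intro u v
    have h1 : g * (el 0 u * el 0 v) = el (f u) u * el (f v) v * g := by
      rw [← mul_assoc, hf, mul_assoc, hf, mul_assoc]
    rw [el_mul, el_mul, zero_add, zero_add] at h1
    have h2 : g * el (cB n u v) (u + v) = el (cB n u v) 0 * (el (f (u + v)) (u + v) * g) := by
      rw [← hf, el_split, ← mul_assoc, ← el_central, mul_assoc]
    rw [h2, ← mul_assoc, el_mul, map_zero, LinearMap.zero_apply, zero_add, add_zero] at h1
    have h3 := (el_inj (mul_right_cancel h1)).1
    rw [add_comm] at h3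
    exact add_right_cancel h3
  let F : Pt n →ₗ[ZMod 2] ZMod 2 := (AddMonoidHom.mk' f hadd).toZModLinearMap 2
  let w : Pt n := (fun i => F (0, Pi.single i 1), fun i => F (Pi.single i 1, 0))
  have hw : ∀ u, cB n w u + cB n u w = f u := by
    intro u
    have e : u = ∑ i, u.1 i • ((Pi.single i 1, 0) : Pt n) + ∑ i, u.2 i • ((0, Pi.single i 1) : Pt n) := by
      refine Prod.ext ?_ ?_ <;> funext j <;>
        simp [Prod.fst_sum, Prod.snd_sum, Finset.sum_apply, Pi.single_apply]
    show _ = F u
    conv_rhs => rw [e, map_add, map_sum, map_sum]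
    simp only [map_smul, cB_apply, dotProduct, w, smul_eq_mul]
    refine congrArg₂ (· + ·) (Finset.sum_congr rfl fun i _ => mul_comm _ _) rfl
  have hcom : ∀ u, el 0 w * el 0 u = el (f u) u * el 0 w := by
    intro u
    rw [el_mul, el_mul, zero_add, zero_add, add_zero, add_comm w u, ← hw, add_assoc,
      CharTwo.add_self_eq_zero, add_zero]
  set h : Amb n := (el 0 w)⁻¹ * g with hh
  have hhc : ∀ u, h * el 0 u = el 0 u * h := by
    intro u
    rw [hh, mul_assoc, hf, ← mul_assoc, ← mul_assoc]
    congr 1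
    rw [inv_mul_eq_iff_eq_mul, ← mul_assoc, eq_mul_inv_iff_mul_eq, hcom]
  have hscal := eq_smul_one_of_commute (M := (h : Matrix (Fin n → ZMod 2) (Fin n → ZMod 2) ℝ)) fun u => by
    have := congrArg Subtype.val (hhc u)
    change (h : Matrix (Fin n → ZMod 2) (Fin n → ZMod 2) ℝ) * (sgn 0 • mat u) =
      sgn 0 • mat u * (h : Matrix (Fin n → ZMod 2) (Fin n → ZMod 2) ℝ) at this
    rwa [sgn_zero, one_smul] at this
  set r := (h : Matrix (Fin n → ZMod 2) (Fin n → ZMod 2) ℝ) 0 0 with hr
  have hrr : r * r = 1 := by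
    have h1 := (Matrix.mem_orthogonalGroup_iff _ ℝ).1 h.2
    rw [hscal, Matrix.transpose_smul, Matrix.transpose_one, Matrix.smul_mul, Matrix.mul_smul, Matrix.one_mul,
      smul_smul] at h1
    simpa using congrFun (congrFun h1 0) 0
  obtain ⟨t, ht⟩ : ∃ t, sgn t = r := by
    rcases mul_self_eq_one_iff.1 hrr with e | e
    · exact ⟨0, by rw [e, sgn_zero]⟩
    · exact ⟨1, by rw [e]; exact if_neg (by decide)⟩
  refine ⟨t, w, ?_⟩
  have hh' : h = el t 0 := by
    apply Subtype.ext
    show (h : Matrix (Fin n → ZMod 2) (Fin n → ZMod 2) ℝ) = sgn t • mat (0 : Pt n)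
    rw [ht, mat_zero, hscal]
  rw [el_split, ← hh', hh]
  have := el_central t (el 0 w)
  rw [← hh', hh] at this
  rw [this, mul_inv_cancel_left]

theorem core {U : Type*} [AddCommGroup U] [Module (ZMod 2) U] [Module.Finite (ZMod 2) U] (n : ℕ) (hn1 : 1 ≤ n)
    (hn : Module.finrank (ZMod 2) U = 2 * n) (ρ : Representation (ZMod 2) K U) (hρ : Function.Injective ρ)
    (q : QuadraticForm (ZMod 2) U) (hq : ∀ (k : K) (u : U), q (ρ k u) = q u)
    (hnd : (QuadraticMap.polarBilin q).Nondegenerate)
    (hplus : ∃ W : Submodule (ZMod 2) U, Module.finrank (ZMod 2) ↥W = n ∧ ∀ w ∈ W, q w = 0) :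
    ∃ (R : Type) (_ : Group R) (_ : Finite R) (Q : Subgroup R) (hN : Q.Normal) (e : R ⧸ Q ≃* K)
      (χ : ↥Q →* Multiplicative U), Cfsg.IsExtraspecial 2 ↥Q ∧ Nat.card ↥Q = 2 ^ (2 * n + 1) ∧
      Function.Surjective χ ∧ χ.ker = Subgroup.center ↥Q ∧
      (∀ (r : R) (a : ↥Q), χ ⟨r * a * r⁻¹, hN.conj_mem (a : R) a.2 r⟩ =
        Multiplicative.ofAdd (ρ (e (r : R ⧸ Q)) (Multiplicative.toAdd (χ a)))) ∧
      ∀ a : ↥Q, a * a = 1 ↔ q (Multiplicative.toAdd (χ a)) = 0 := by
  classical
  obtain ⟨W, hW, hW0⟩ := hplus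
  obtain ⟨e, he⟩ := exists_coords n hn q hnd W hW hW0
  haveI : Finite U := Module.finite_of_finite (ZMod 2)
  haveI : Finite (U →ₗ[ZMod 2] U) := Finite.of_injective (fun f => (f : U → U)) DFunLike.coe_injective
  haveI : Finite K := Finite.of_injective _ hρ
  let σ : K →* (Pt n →ₗ[ZMod 2] Pt n) :=
    { toFun := fun k => (e.toLinearMap.comp (ρ k)).comp e.symm.toLinearMap
      map_one' := by rw [map_one]; exact LinearMap.ext fun u => by simp
      map_mul' := fun a b => by rw [map_mul]; exact LinearMap.ext fun u => by simp }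
  have hσ : ∀ k u, σ k u = e (ρ k (e.symm u)) := fun k u => rfl
  have hσq : ∀ k u, cB n (σ k u) (σ k u) = cB n u u := fun k u => by
    rw [hσ, ← he, hq, he, e.apply_symm_apply]
  have hσinj : ∀ k k', (∀ u, σ k u = σ k' u) → k = k' := fun k k' h => hρ (LinearMap.ext fun u => by
    have := h (e u)
    rwa [hσ, hσ, e.symm_apply_apply, e.injective.eq_iff] at this)
  set R := bigR σ with hR
  have hRmem : ∀ g : ↥R, ∃ k, ∀ u, ∃ s, (g : Amb n) * el 0 u = el s (σ k u) * g := fun g => g.2
  choose π hπ using hRmem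
  have hπu : ∀ (g : ↥R) k, (∀ u, ∃ s, (g : Amb n) * el 0 u = el s (σ k u) * g) → π g = k := by
    intro g k hk
    refine hσinj _ _ fun u => ?_
    obtain ⟨s, hs⟩ := hπ g u
    obtain ⟨t, ht⟩ := hk u
    exact (el_inj (mul_right_cancel (hs.symm.trans ht))).2
  let πh : ↥R →* K := MonoidHom.mk' π (fun a b => hπu _ _ (by
    intro u
    obtain ⟨s, hs⟩ := hπ b u
    obtain ⟨t, ht⟩ := hπ a (σ (π b) u)
    refine ⟨s + t, ?_⟩
    show (a : Amb n) * b * el 0 u = _ * ((a : Amb n) * b)
    rw [mul_assoc, hs, el_split, mul_assoc, ← mul_assoc (a : Amb n), ← el_central, mul_assoc,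
      ← mul_assoc (a : Amb n), ht, ← mul_assoc, ← mul_assoc, el_mul, map_mul, map_zero, LinearMap.zero_apply,
      zero_add, add_zero, mul_assoc]
    rfl))
  have hπs : Function.Surjective πh := fun k => by
    obtain ⟨g, hg⟩ := exists_rep σ hσq k
    exact ⟨⟨g, k, hg⟩, hπu _ _ hg⟩
  have helR : ∀ s w, el s w ∈ R := fun s w => ⟨1, fun u => ⟨cB n w u + cB n u w, by
    rw [map_one, Module.End.one_apply, el_mul, el_mul, add_comm w u]
    congr 1
    have h2 := CharTwo.add_self_eq_zero (cB n u w)
    linear_combination -h2⟩⟩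
  let Q : Subgroup ↥R :=
    { carrier := {g | ∃ s w, (g : Amb n) = el s w}
      one_mem' := ⟨0, 0, el_zero.symm⟩
      mul_mem' := by
        rintro a b ⟨s, u, hu⟩ ⟨t, v, hv⟩
        exact ⟨_, _, by rw [Subgroup.coe_mul, hu, hv, el_mul]⟩
      inv_mem' := by
        rintro a ⟨s, u, hu⟩
        refine ⟨s + cB n u u, u, ?_⟩
        rw [Subgroup.coe_inv, inv_eq_iff_mul_eq_one, hu, el_mul, pt_add_self]
        convert el_zero using 2
        have h2 := CharTwo.add_self_eq_zero (cB n u u)
        have h3 := CharTwo.add_self_eq_zero s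
        linear_combination h2 + h3 }
  have hQk : Q = πh.ker := by
    ext g
    constructor
    · rintro ⟨s, w, hg⟩
      refine hπu g 1 fun u => ⟨cB n w u + cB n u w, ?_⟩
      rw [hg, map_one, Module.End.one_apply, el_mul, el_mul, add_comm w u]
      congr 1
      have h2 := CharTwo.add_self_eq_zero (cB n u w)
      linear_combination -h2
    · intro hg
      refine mem_el_of_fix fun u => ?_
      obtain ⟨s, hs⟩ := hπ g u
      have hg' : π g = 1 := hg
      rw [hg', map_one, Module.End.one_apply] at hs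
      exact ⟨s, hs⟩
  haveI hN : Q.Normal := by rw [hQk]; infer_instance
  let E : ↥R ⧸ Q ≃* K :=
    (QuotientGroup.quotientMulEquivOfEq hQk).trans (QuotientGroup.quotientKerEquivOfSurjective πh hπs)
  have hE : ∀ r : ↥R, E (r : ↥R ⧸ Q) = π r := fun r => rfl
  let ι : ZMod 2 × Pt n → ↥Q := fun x => ⟨⟨el x.1 x.2, helR _ _⟩, _, _, rfl⟩
  have hιb : Function.Bijective ι := by
    constructor
    · intro x y h
      have h1 := el_inj (congrArg (fun a : ↥Q => ((a : ↥R) : Amb n)) h)
      exact Prod.ext h1.1 h1.2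
    · rintro ⟨g, s, w, hg⟩
      exact ⟨(s, w), Subtype.ext (Subtype.ext hg.symm)⟩
  let coord := (Equiv.ofBijective ι hιb).symm
  have hcoord : ∀ (a : ↥Q) s w, ((a : ↥R) : Amb n) = el s w → coord a = (s, w) := by
    intro a s w h
    rw [show a = ι (s, w) from Subtype.ext (Subtype.ext h)]
    exact Equiv.ofBijective_symm_apply_apply ι hιb _
  have hcoord' : ∀ a : ↥Q, ((a : ↥R) : Amb n) = el (coord a).1 (coord a).2 := fun a => by
    obtain ⟨s, w, h⟩ := a.2
    rw [hcoord a s w h, h]
  haveI : Finite ↥Q := Finite.of_equiv _ (Equiv.ofBijective ι hιb)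
  haveI : Finite (↥R ⧸ Q) := Finite.of_equiv K E.toEquiv.symm
  haveI : Finite ↥R := Finite.of_equiv _ (Subgroup.groupEquivQuotientProdSubgroup (s := Q)).symm
  have hcard : Nat.card ↥Q = 2 ^ (2 * n + 1) := by
    rw [Nat.card_congr coord, Nat.card_prod, Nat.card_prod, Nat.card_fun, Nat.card_fin, Nat.card_zmod]
    ring
  let χ : ↥Q →* Multiplicative U := MonoidHom.mk' (fun a => Multiplicative.ofAdd (e.symm (coord a).2))
    (fun a b => by
      rw [hcoord (a * b) _ _ (by rw [Subgroup.coe_mul, Subgroup.coe_mul, hcoord' a, hcoord' b, el_mul]),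
        map_add, ofAdd_add])
  have hχ : ∀ a, χ a = Multiplicative.ofAdd (e.symm (coord a).2) := fun a => rfl
  have hcen : Subgroup.center ↥Q = χ.ker := by
    ext a
    rw [Subgroup.mem_center_iff, MonoidHom.mem_ker, hχ, ofAdd_eq_one, e.symm.map_eq_zero_iff]
    constructor
    · intro h
      have hsym : ∀ v, cB n (coord a).2 v = cB n v (coord a).2 := by
        intro v
        have h1 := congrArg (fun x : ↥Q => ((x : ↥R) : Amb n)) (h (ι (0, v)))
        simp only [Subgroup.coe_mul, hcoord' a, ι] at h1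
        rw [el_mul, el_mul, zero_add, add_zero] at h1
        exact add_left_cancel (el_inj h1).1.symm
      refine Prod.ext (funext fun i => ?_) (funext fun i => ?_)
      · have := hsym (0, Pi.single i 1)
        simpa [cB_apply] using this.symm
      · have := hsym (Pi.single i 1, 0)
        simpa [cB_apply] using this
    · intro h b
      apply Subtype.ext; apply Subtype.ext
      rw [Subgroup.coe_mul, Subgroup.coe_mul, Subgroup.coe_mul, Subgroup.coe_mul, hcoord' a, h]
      exact (el_central _ _).symm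
  refine ⟨↥R, inferInstance, inferInstance, Q, hN, E, χ, ?_, hcard, ?_, hcen.symm, ?_, ?_⟩
  · haveI : Fact (Nat.Prime 2) := ⟨Nat.prime_two⟩
    have hp : IsPGroup 2 ↥Q := IsPGroup.of_card hcard
    have hsq : ∀ a : ↥Q, χ a * χ a = 1 := fun a => by
      rw [hχ, ← ofAdd_add, ← map_add, pt_add_self, map_zero, ofAdd_zero]
    have hkc : Nat.card ↥χ.ker = 2 := by
      rw [Nat.card_congr ({ toFun := fun a => (coord a.1).1
                            invFun := fun s => ⟨ι (s, 0), by
                              rw [MonoidHom.mem_ker, hχ, hcoord _ s 0 rfl, map_zero, ofAdd_zero]⟩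
                            left_inv := fun a => by
                              have h2 : (coord a.1).2 = 0 := by
                                have := MonoidHom.mem_ker.1 a.2
                                rwa [hχ, ofAdd_eq_one, e.symm.map_eq_zero_iff] at this
                              apply Subtype.ext; apply Subtype.ext; apply Subtype.ext
                              show el (coord a.1).1 0 = _
                              rw [hcoord' a.1, h2]
                            right_inv := fun s => by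
                              show (coord (ι (s, 0))).1 = s
                              rw [hcoord _ s 0 rfl] } : ↥χ.ker ≃ ZMod 2), Nat.card_zmod]
    refine CfsgLib.Coprime.isExtraspecial_of_central hp χ.ker hkc hcen (fun a b => ?_) (fun a => ?_) ?_
    · rw [MonoidHom.mem_ker, map_commutatorElement, commutatorElement_eq_one_iff_mul_comm]
      exact mul_comm _ _
    · rw [MonoidHom.mem_ker, map_pow, sq, hsq]
    · intro htop
      rw [htop, Subgroup.card_top, hcard] at hkc
      have : 2 ^ 3 ≤ 2 ^ (2 * n + 1) := Nat.pow_le_pow_right two_pos (by omega)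
      omega
  · intro u
    refine ⟨ι (0, e (Multiplicative.toAdd u)), ?_⟩
    rw [hχ, hcoord _ 0 _ rfl, e.symm_apply_apply, ofAdd_toAdd]
  · intro r a
    obtain ⟨t, ht⟩ := hπ r (coord a).2
    have h1 : ((r * (a : ↥R) * r⁻¹ : ↥R) : Amb n) = el ((coord a).1 + t) (σ (π r) (coord a).2) := by
      rw [Subgroup.coe_mul, Subgroup.coe_mul, Subgroup.coe_inv, mul_inv_eq_iff_eq_mul, hcoord' a,
        el_split (coord a).1, ← mul_assoc, ← el_central, mul_assoc, ht, ← mul_assoc, el_mul, map_zero,
        LinearMap.zero_apply, zero_add, add_zero]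
    rw [hχ, hcoord _ _ _ h1, hE, hχ, toAdd_ofAdd, hσ, e.symm_apply_apply]
  · intro a
    rw [hχ, toAdd_ofAdd, he, e.apply_symm_apply]
    constructor
    · intro h
      have h1 := congrArg (fun x : ↥Q => ((x : ↥R) : Amb n)) h
      simp only [Subgroup.coe_mul, Subgroup.coe_one, hcoord' a, el_mul, pt_add_self,
        CharTwo.add_self_eq_zero, zero_add, ← el_zero (n := n)] at h1
      exact (el_inj h1).1
    · intro h
      apply Subtype.ext; apply Subtype.ext
      rw [Subgroup.coe_mul, Subgroup.coe_mul, hcoord' a, el_mul, pt_add_self, CharTwo.add_self_eq_zero,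
        zero_add, h, el_zero]
      rfl

/-- Let K be a group acting faithfully and linearly on a finite-dimensional vector space U of dimension 2n ≥ 2 over the field with two elements, preserving a quadratic form q whose polar bilinear form is non-degenerate and which vanishes on some n-dimensional subspace (a non-singular form of plus type). Then there is a finite group R with a normal extraspecial 2-subgroup Q of order 2^(2n+1), an isomorphism of R/Q with K, and a surjective homomorphism χ from Q onto (the additive group of) U with kernel the centre of Q, such that χ carries conjugation by any r in R to the action of the image of r in K, and an element a of Q squares to the identity exactly when q vanishes at χ(a). -/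
theorem result {K : Type*} [Group K] {U : Type*} [AddCommGroup U] [Module (ZMod 2) U] [Module.Finite (ZMod 2) U] (n : ℕ) (hn1 : 1 ≤ n) (hn : Module.finrank (ZMod 2) U = 2 * n) (ρ : Representation (ZMod 2) K U) (hρ : Function.Injective ρ) (q : QuadraticForm (ZMod 2) U) (hq : ∀ (k : K) (u : U), q (ρ k u) = q u) (hnd : (QuadraticMap.polarBilin q).Nondegenerate) (hplus : ∃ W : Submodule (ZMod 2) U, Module.finrank (ZMod 2) ↥W = n ∧ ∀ w ∈ W, q w = 0) : ∃ (R : Type) (_ : Group R) (_ : Finite R) (Q : Subgroup R) (hN : Q.Normal) (e : R ⧸ Q ≃* K) (χ : ↥Q →* Multiplicative U), Cfsg.IsExtraspecial 2 ↥Q ∧ Nat.card ↥Q = 2 ^ (2 * n + 1) ∧ Function.Surjective χ ∧ χ.ker = Subgroup.center ↥Q ∧ (∀ (r : R) (a : ↥Q), χ ⟨r * a * r⁻¹, hN.conj_mem (a : R) a.2 r⟩ = Multiplicative.ofAdd (ρ (e (r : R ⧸ Q)) (Multiplicative.toAdd (χ a)))) ∧ ∀ a : ↥Q, a * a = 1 ↔ q (Multiplicative.toAdd (χ a)) = 0 := by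
  exact core n hn1 hn ρ hρ q hq hnd hplus

end Cfsg.Agent.S3084
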