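import Cfsg.Statements.S3085
import Mathlib.Tactic
import Mathlib.Algebra.Field.ZMod

set_option autoImplicit false
open Cfsg
open scoped commutatorElement

namespace Cfsg.Agent.S3085


section

abbrev V6 : Type := Fin 6 → ZMod 2

def bet (u v : V6) : ZMod 2 := u 3 * v 0 + u 4 * v 1 + u 5 * v 2
def bf (u v : V6) : ZMod 2 := bet u v + bet v u
def sig (u : V6) : V6 := ![u 3, u 1, u 1 + u 2, u 0, u 4 + u 5, u 5]
def ta (u : V6) : V6 := ![u 0 + u 1, u 1, u 2, u 1 + u 3, u 0 + u 1 + u 3 + u 4, u 5]
def fs (u : V6) : ZMod 2 := u 0 * u 3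
def ft (u : V6) : ZMod 2 := u 0 * u 1

theorem two_zero : (2 : ZMod 2) = 0 := by decide
theorem four_zero : (4 : ZMod 2) = 0 := by decide
theorem sq_self : ∀ a : ZMod 2, a ^ 2 = a := by decide
theorem zero_or_one : ∀ a : ZMod 2, a = 0 ∨ a = 1 := by decide

theorem fs_cocycle (u v : V6) : fs u + fs v + bet (sig u) (sig v) = bet u v + fs (u + v) := by
  simp [fs, bet, sig, Pi.add_apply]
  rw [← sub_eq_zero]; ring_nf; simp [two_zero, four_zero]

theorem ft_cocycle (u v : V6) : ft u + ft v + bet (ta u) (ta v) = bet u v + ft (u + v) := by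
  simp [ft, bet, ta, Pi.add_apply]
  rw [← sub_eq_zero]; ring_nf; simp [two_zero, four_zero]

theorem sig_add (u v : V6) : sig (u + v) = sig u + sig v := by
  ext i; fin_cases i <;> simp [sig] <;> ring

theorem ta_add (u v : V6) : ta (u + v) = ta u + ta v := by
  ext i; fin_cases i <;> simp [ta] <;> ring

theorem sig_sig (u : V6) : sig (sig u) = u := by
  ext i; fin_cases i <;> simp [sig] <;> rw [← sub_eq_zero] <;> ring_nf <;> simp [two_zero, four_zero]

theorem ta_ta (u : V6) : ta (ta u) = u := by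
  ext i; fin_cases i <;> simp [ta] <;> rw [← sub_eq_zero] <;> ring_nf <;> simp [two_zero, four_zero]

theorem sig_ta (u : V6) : sig (ta u) = ta (sig u) := by
  ext i; fin_cases i <;> simp [ta, sig] <;> rw [← sub_eq_zero] <;> ring_nf <;> simp [two_zero, four_zero]

variable {Q : Type*} [Group Q]

/-- a central involution containing all commutators -/
structure Base (Q : Type*) [Group Q] where
  z : Q
  z_ne : z ≠ 1
  z_sq : z * z = 1
  z_cent : ∀ g : Q, z * g = g * z
  comm_z : ∀ g h : Q, g * h = h * g ∨ g * h = z * (h * g)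

open Classical in
noncomputable def kap (g h : Q) : ZMod 2 := if g * h = h * g then 0 else 1

theorem kap_symm (g h : Q) : kap h g = kap g h := by
  classical
  unfold kap; exact if_congr eq_comm rfl rfl

theorem kap_one (h : Q) : kap 1 h = 0 := by simp [kap]
theorem kap_self (g : Q) : kap g g = 0 := by simp [kap]

theorem kap_comm {g h : Q} (e : kap g h = 0) : g * h = h * g := by
  by_contra c
  simp [kap, c] at e

theorem kap_zero {g h : Q} (e : g * h = h * g) : kap g h = 0 := by simp [kap, e]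

variable (B : Base Q)

def zp (a : ZMod 2) : Q := B.z ^ a.val

theorem zp_zero : zp B 0 = 1 := by simp [zp]
theorem zp_one : zp B 1 = B.z := pow_one _

theorem zp_add (a b : ZMod 2) : zp B (a + b) = zp B a * zp B b := by
  rcases zero_or_one a with rfl | rfl <;> rcases zero_or_one b with rfl | rfl <;>
    simp [zp_zero, zp_one, B.z_sq, show (1 : ZMod 2) + 1 = 0 by decide]

theorem zp_comm (a : ZMod 2) (g : Q) : g * zp B a = zp B a * g := by
  rcases zero_or_one a with rfl | rfl <;> simp [zp_zero, zp_one, B.z_cent g]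

theorem zp_left (a : ZMod 2) (g h : Q) : g * (zp B a * h) = zp B a * (g * h) := by
  rw [← mul_assoc, zp_comm B a g, mul_assoc]

theorem zp_inj {a b : ZMod 2} (h : zp B a = zp B b) : a = b := by
  have hz := B.z_ne
  rcases zero_or_one a with rfl | rfl <;> rcases zero_or_one b with rfl | rfl <;>
    simp_all [zp_zero, zp_one, eq_comm]

theorem kap_spec (g h : Q) : g * h = zp B (kap g h) * (h * g) := by
  unfold kap
  by_cases c : g * h = h * g
  · rw [if_pos c, zp_zero, one_mul]; exact c
  · rw [if_neg c, zp_one]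
    exact (B.comm_z g h).resolve_left c

theorem kap_unique {g h : Q} {a : ZMod 2} (e : g * h = zp B a * (h * g)) : kap g h = a := by
  rw [kap_spec B g h] at e
  exact zp_inj B (mul_right_cancel e)

include B in
theorem kap_mul (g g' h : Q) : kap (g * g') h = kap g h + kap g' h := by
  refine kap_unique B ?_
  rw [mul_assoc, kap_spec B g' h, zp_left, ← mul_assoc g h, kap_spec B g h, zp_add]
  simp only [mul_assoc]
  rw [← mul_assoc, ← zp_comm B (kap g' h), mul_assoc]

include B in
theorem kap_mul_right (g h h' : Q) : kap g (h * h') = kap g h + kap g h' := by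
  rw [kap_symm (h * h'), kap_mul B, kap_symm h, kap_symm h']

theorem kap_zp (a : ZMod 2) (h : Q) : kap (zp B a) h = 0 := kap_zero (zp_comm B a h).symm

def pw (g : Q) (a : ZMod 2) : Q := g ^ a.val

theorem pw_zero (g : Q) : pw g 0 = 1 := by simp [pw]
theorem pw_one (g : Q) : pw g 1 = g := pow_one _

theorem pw_add {g : Q} (hg : g * g = 1) (a b : ZMod 2) : pw g (a + b) = pw g a * pw g b := by
  rcases zero_or_one a with rfl | rfl <;> rcases zero_or_one b with rfl | rfl <;>
    simp [pw_zero, pw_one, hg, show (1 : ZMod 2) + 1 = 0 by decide]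

theorem kap_pw (g h : Q) (a : ZMod 2) : kap (pw g a) h = a * kap g h := by
  rcases zero_or_one a with rfl | rfl <;> simp [pw_zero, pw_one, kap_one]

theorem kap_pw_right (g h : Q) (a : ZMod 2) : kap g (pw h a) = a * kap g h := by
  rw [kap_symm (pw h a), kap_pw, kap_symm h]

/-- three hyperbolic pairs of involutions -/
structure Frame (Q : Type*) [Group Q] extends Base Q where
  x : Fin 6 → Q
  sq : ∀ i, x i * x i = 1
  rel : ∀ i j, kap (x i) (x j) = if (i.val + 3) % 6 = j.val then 1 else 0

variable (F : Frame Q)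

def lo (u : V6) : Q := pw (F.x 0) (u 0) * (pw (F.x 1) (u 1) * pw (F.x 2) (u 2))
def hi (u : V6) : Q := pw (F.x 3) (u 3) * (pw (F.x 4) (u 4) * pw (F.x 5) (u 5))
def wd (u : V6) : Q := lo F u * hi F u

theorem comm_pw (i j : Fin 6) (h : ¬ (i.val + 3) % 6 = j.val) (a b : ZMod 2) :
    Commute (pw (F.x i) a) (pw (F.x j) b) :=
  (show Commute (F.x i) (F.x j) from kap_comm (by rw [F.rel, if_neg h])).pow_pow _ _

theorem lo_add (u v : V6) : lo F u * lo F v = lo F (u + v) := by
  simp only [lo, Pi.add_apply, pw_add (F.sq _)]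
  rw [Commute.mul_mul_mul_comm, Commute.mul_mul_mul_comm (comm_pw F 2 1 (by decide) _ _)]
  exact (comm_pw F 1 0 (by decide) _ _).mul_left (comm_pw F 2 0 (by decide) _ _)

theorem hi_add (u v : V6) : hi F u * hi F v = hi F (u + v) := by
  simp only [hi, Pi.add_apply, pw_add (F.sq _)]
  rw [Commute.mul_mul_mul_comm, Commute.mul_mul_mul_comm (comm_pw F 5 4 (by decide) _ _)]
  exact (comm_pw F 4 3 (by decide) _ _).mul_left (comm_pw F 5 3 (by decide) _ _)

theorem kap_hi_lo (u v : V6) : kap (hi F u) (lo F v) = bet u v := by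
  simp [hi, lo, bet, kap_mul F.toBase, kap_mul_right F.toBase, kap_pw, kap_pw_right, F.rel]
  ring

theorem wd_mul (u v : V6) : wd F u * wd F v = zp F.toBase (bet u v) * wd F (u + v) := by
  unfold wd
  rw [mul_assoc, ← mul_assoc (hi F u), kap_spec F.toBase (hi F u) (lo F v), kap_hi_lo, mul_assoc,
    zp_left, ← lo_add, ← hi_add]
  simp [mul_assoc]

theorem wd_zero : wd F 0 = 1 := by simp [wd, lo, hi, pw]

theorem kap_wd (u : V6) (h : Q) : kap (wd F u) h =
    u 0 * kap (F.x 0) h + u 1 * kap (F.x 1) h + u 2 * kap (F.x 2) h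
    + u 3 * kap (F.x 3) h + u 4 * kap (F.x 4) h + u 5 * kap (F.x 5) h := by
  simp only [wd, lo, hi, kap_mul F.toBase, kap_pw]; ring

noncomputable def crd (g : Q) : V6 :=
  ![kap g (F.x 3), kap g (F.x 4), kap g (F.x 5), kap g (F.x 0), kap g (F.x 1), kap g (F.x 2)]

theorem kap_wd' (u : V6) (h : Q) : kap (wd F u) h = bf u (crd F h) := by
  rw [kap_wd]
  simp [bf, bet, crd, kap_symm h]
  ring

theorem crd_wd (u : V6) : crd F (wd F u) = u := by
  ext i; fin_cases i <;> simp [crd, kap_wd, F.rel]

theorem crd_mul (g h : Q) : crd F (g * h) = crd F g + crd F h := by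
  ext i; fin_cases i <;> simp [crd, kap_mul F.toBase]

theorem crd_zp (a : ZMod 2) : crd F (zp F.toBase a) = 0 := by
  ext i; fin_cases i <;> simp [crd, kap_zp]

theorem crd_one : crd F 1 = 0 := by
  ext i; fin_cases i <;> simp [crd, kap_one]

theorem crd_inv (g : Q) : crd F g⁻¹ = crd F g := by
  have e := crd_mul F g⁻¹ g
  rw [inv_mul_cancel, crd_one] at e
  ext i
  have ei : (0 : ZMod 2) = crd F g⁻¹ i + crd F g i := by
    have := congrFun e i
    simpa using this
  linear_combination -ei - crd F g i * two_zero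

theorem bf_zero (u : V6) : bf u 0 = 0 := by simp [bf, bet]

theorem comm_wd {k : Q} (hk : crd F k = 0) (u : V6) : wd F u * k = k * wd F u := by
  apply kap_comm
  rw [kap_wd', hk, bf_zero]

variable (s : V6 → V6) (f : V6 → ZMod 2)

noncomputable def act (g : Q) : Q :=
  zp F.toBase (f (crd F g)) * (wd F (s (crd F g)) * ((wd F (crd F g))⁻¹ * g))

theorem crd_rest (g : Q) : crd F ((wd F (crd F g))⁻¹ * g) = 0 := by
  rw [crd_mul, crd_inv, crd_wd]; ext i
  simp; linear_combination crd F g i * two_zero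

theorem act_mul (hs : ∀ u v, s (u + v) = s u + s v)
    (hf : ∀ u v, f u + f v + bet (s u) (s v) = bet u v + f (u + v)) (g h : Q) :
    act F s f (g * h) = act F s f g * act F s f h := by
  have hk : crd F ((wd F (crd F g))⁻¹ * g) = 0 := crd_rest F g
  unfold act
  set u := crd F g
  set v := crd F h
  set k := (wd F u)⁻¹ * g with hkdef
  set k' := (wd F v)⁻¹ * h with hkdef'
  have hgh : g * h = zp F.toBase (bet u v) * (wd F (u + v) * (k * k')) := by
    rw [← mul_assoc, ← wd_mul]
    calc g * h = (wd F u * k) * (wd F v * k') := by simp [hkdef, hkdef']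
      _ = wd F u * (k * wd F v) * k' := by simp only [mul_assoc]
      _ = wd F u * (wd F v * k) * k' := by rw [comm_wd F hk]
      _ = wd F u * wd F v * (k * k') := by simp only [mul_assoc]
  have hc : crd F (g * h) = u + v := crd_mul F g h
  have hrest : (wd F (u + v))⁻¹ * (g * h) = zp F.toBase (bet u v) * (k * k') := by
    rw [hgh, zp_left, inv_mul_cancel_left]
  rw [hc, hrest, zp_left, ← mul_assoc, ← zp_add, hs, add_comm, ← hf u v]
  symm
  calc zp F.toBase (f u) * (wd F (s u) * k) * (zp F.toBase (f v) * (wd F (s v) * k'))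
      = zp F.toBase (f v) * (zp F.toBase (f u) * (wd F (s u) * (k * wd F (s v)) * k')) := by
        rw [zp_left]; simp only [mul_assoc]
    _ = zp F.toBase (f v) * (zp F.toBase (f u) * ((wd F (s u) * wd F (s v)) * (k * k'))) := by
        rw [← comm_wd F hk]; simp only [mul_assoc]
    _ = _ := by
        rw [wd_mul, zp_add, zp_add]
        simp only [← mul_assoc]
        rw [zp_comm F.toBase (f u) (zp F.toBase (f v))]

theorem crd_act (g : Q) : crd F (act F s f g) = s (crd F g) := by
  unfold act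
  rw [crd_mul, crd_mul, crd_rest, crd_zp, crd_wd]; simp

theorem act_wd (u : V6) : act F s f (wd F u) = zp F.toBase (f u) * wd F (s u) := by
  simp [act, crd_wd]

theorem act_act {t : V6 → V6} {g : V6 → ZMod 2} (q : Q) :
    act F s f (act F t g q) =
      zp F.toBase (f (t (crd F q)) + g (crd F q)) *
        (wd F (s (t (crd F q))) * ((wd F (crd F q))⁻¹ * q)) := by
  show zp F.toBase (f (crd F (act F t g q))) * (wd F (s (crd F (act F t g q))) *
    ((wd F (crd F (act F t g q)))⁻¹ * act F t g q)) = _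
  rw [crd_act]
  unfold act
  rw [zp_left F.toBase (g _) (wd F (t (crd F q)))⁻¹, inv_mul_cancel_left, zp_left, zp_add]
  simp [mul_assoc]

noncomputable def actAut (hs : ∀ u v, s (u + v) = s u + s v)
    (hf : ∀ u v, f u + f v + bet (s u) (s v) = bet u v + f (u + v))
    (hss : ∀ u, s (s u) = u) : MulAut Q where
  toFun := act F s f
  invFun := fun q => zp F.toBase (f (s (crd F q)) + f (crd F q)) * act F s f q
  left_inv := fun q => by
    simp only [crd_act, hss, act_act]
    rw [mul_inv_cancel_left, ← mul_assoc, ← zp_add]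
    rw [show f (crd F q) + f (s (crd F q)) + (f (s (crd F q)) + f (crd F q)) = 0 by
      linear_combination (f (crd F q) + f (s (crd F q))) * two_zero, zp_zero, one_mul]
  right_inv := fun q => by
    have hz : ∀ a : ZMod 2, act F s f (zp F.toBase a) = zp F.toBase a := fun a => by
      have h0 : s 0 = 0 := by
        have := hs 0 0; simpa using this
      have f0 : f 0 = 0 := by
        have := hf 0 0; simp [h0, bet] at this; exact this
      simp [act, crd_zp, h0, f0, zp_zero, wd_zero]
    simp only [act_mul F s f hs hf, hz, act_act, hss]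
    rw [mul_inv_cancel_left, ← mul_assoc, ← zp_add]
    rw [show f (s (crd F q)) + f (crd F q) + (f (s (crd F q)) + f (crd F q)) = 0 by
      linear_combination (f (crd F q) + f (s (crd F q))) * two_zero, zp_zero, one_mul]
  map_mul' := act_mul F s f hs hf

noncomputable def aA : MulAut Q := actAut F sig fs sig_add fs_cocycle sig_sig
noncomputable def aB : MulAut Q := actAut F ta ft ta_add ft_cocycle ta_ta

theorem aA_apply (q : Q) : aA F q = act F sig fs q := rfl
theorem aB_apply (q : Q) : aB F q = act F ta ft q := rfl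

theorem conj_eq (d q : Q) : MulAut.conj d q = zp F.toBase (kap d q) * q := by
  rw [MulAut.conj_apply, kap_spec F.toBase d q, mul_assoc, mul_assoc, mul_inv_cancel, mul_one]

def e4 : V6 := ![0, 0, 0, 0, 1, 0]

theorem aA_sq : aA F * aA F = 1 := by
  ext q
  simp only [MulAut.mul_apply, aA_apply, act_act, sig_sig, mul_inv_cancel_left, MulAut.one_apply]
  rw [show fs (sig (crd F q)) + fs (crd F q) = 0 by
    simp [fs, sig]; linear_combination (crd F q 0 * crd F q 3) * two_zero, zp_zero, one_mul]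

theorem aB_sq : aB F * aB F = MulAut.conj (wd F e4) := by
  ext q
  simp only [MulAut.mul_apply, aB_apply, act_act, ta_ta, mul_inv_cancel_left, conj_eq F, kap_wd']
  congr 2
  simp [ft, ta, e4, bf, bet]
  rw [← sub_eq_zero]; ring_nf; simp [two_zero, sq_self, CharTwo.add_self_eq_zero]

theorem aAB : aA F * aB F = MulAut.conj (wd F e4) * (aB F * aA F) := by
  ext q
  simp only [MulAut.mul_apply, aA_apply, aB_apply, act_act, sig_ta, conj_eq F, kap_wd']
  rw [crd_mul, crd_zp, crd_mul, crd_rest, crd_wd, ← mul_assoc (zp F.toBase (bf _ _)), ← zp_add]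
  congr 2
  simp [ft, fs, ta, sig, e4, bf, bet]
  rw [← sub_eq_zero]; ring_nf; simp [two_zero, sq_self, CharTwo.add_self_eq_zero]

theorem no_lifts (d e : Q) (l m : MulAut Q) (hl : l = MulAut.conj d * aA F)
    (hm : m = MulAut.conj e * aB F)
    (h1 : l * l = 1) (h2 : m * m = 1) (h3 : l * m = m * l) : False := by
  have key : ∀ (d : Q) (s : V6 → V6) (f : V6 → ZMod 2) (_ : s 0 = 0) (_ : f 0 = 0) (_hs : ∀ u v, s (u + v) = s u + s v)
      (_hf : ∀ u v, f u + f v + bet (s u) (s v) = bet u v + f (u + v)) (a : ZMod 2) (u : V6),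
      MulAut.conj d (act F s f (zp F.toBase a * wd F u)) =
        zp F.toBase (a + f u + bf (s u) (crd F d)) * wd F (s u) := by
    intro d s f h0 f0 hs hf a u
    have hz : act F s f (zp F.toBase a) = zp F.toBase a := by
      simp [act, crd_zp, h0, f0, zp_zero, wd_zero]
    rw [act_mul F s f hs hf, hz, act_wd, conj_eq F, kap_mul_right F.toBase, kap_mul_right F.toBase,
      kap_symm (zp F.toBase a), kap_symm (zp F.toBase (f u)), kap_zp, kap_zp,
      kap_symm (wd F (s u)), kap_wd', zero_add, zero_add, ← mul_assoc, ← mul_assoc, ← zp_add,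
      ← zp_add]
    congr 2
    ring
  have La : ∀ u (a : ZMod 2), l (zp F.toBase a * wd F u) =
      zp F.toBase (a + fs u + bf (sig u) (crd F d)) * wd F (sig u) := by
    intro u a
    rw [hl, MulAut.mul_apply]
    exact key d sig fs (by decide) (by decide) sig_add fs_cocycle a u
  have Mb : ∀ u (a : ZMod 2), m (zp F.toBase a * wd F u) =
      zp F.toBase (a + ft u + bf (ta u) (crd F e)) * wd F (ta u) := by
    intro u a
    rw [hm, MulAut.mul_apply]
    exact key e ta ft (by decide) (by decide) ta_add ft_cocycle a u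
  let u1 : V6 := ![1, 0, 0, 0, 0, 0]
  let u3 : V6 := ![1, 1, 0, 0, 0, 0]
  let u32 : V6 := ![0, 0, 0, 0, 0, 1]
  have E1 : fs u32 + bf (sig u32) (crd F d) + fs (sig u32) + bf u32 (crd F d) = 0 := by
    have := DFunLike.congr_fun h1 (zp F.toBase 0 * wd F u32)
    rw [MulAut.mul_apply, La, La, sig_sig, MulAut.one_apply] at this
    linear_combination zp_inj F.toBase (mul_right_cancel this)
  have E2 : ft u3 + bf (ta u3) (crd F e) + ft (ta u3) + bf u3 (crd F e) = 0 := by
    have := DFunLike.congr_fun h2 (zp F.toBase 0 * wd F u3)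
    rw [MulAut.mul_apply, Mb, Mb, ta_ta, MulAut.one_apply] at this
    linear_combination zp_inj F.toBase (mul_right_cancel this)
  have E3 : ft u1 + bf (ta u1) (crd F e) + fs (ta u1) + bf (sig (ta u1)) (crd F d) =
      fs u1 + bf (sig u1) (crd F d) + ft (sig u1) + bf (ta (sig u1)) (crd F e) := by
    have := DFunLike.congr_fun h3 (zp F.toBase 0 * wd F u1)
    rw [MulAut.mul_apply, MulAut.mul_apply, Mb, La, La, Mb] at this
    rw [sig_ta] at this ⊢
    linear_combination zp_inj F.toBase (mul_right_cancel this)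
  simp [u1, u3, u32, fs, ft, sig, ta, bf, bet] at E1 E2 E3
  have : (1 : ZMod 2) = 0 := by linear_combination E1 + E2 + E3 - (1 + crd F e 1 + crd F d 1 + crd F d 2 + 2 * crd F e 3 + crd F e 4) * two_zero
  exact one_ne_zero this

/-- one more hyperbolic pair -/
theorem next_pair {E : Subgroup Q} [Finite Q] (hab : ∀ a ∈ E, ∀ b ∈ E, a * b = b * a)
    (hE2 : ∀ a ∈ E, a * a = 1) (hcard : 16 ≤ Nat.card E)
    (hZ : ∀ g : Q, (∀ h, g * h = h * g) → g = 1 ∨ g = B.z)
    (a b c d : Q) (ha : a ∈ E) (hc : c ∈ E) (had : kap a d = 0) (hcb : kap c b = 0)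
    (hbd : kap b d = 0) (hp : kap a b = 1 ∨ a = 1 ∧ b = 1) (hq : kap c d = 1 ∨ c = 1 ∧ d = 1) :
    ∃ x y : Q, x ∈ E ∧ x * x = 1 ∧ y * y = 1 ∧ kap x y = 1 ∧ kap x a = 0 ∧ kap x b = 0 ∧
      kap x c = 0 ∧ kap x d = 0 ∧ kap y a = 0 ∧ kap y b = 0 ∧ kap y c = 0 ∧ kap y d = 0 := by
  let φ : E →* Multiplicative (ZMod 2 × ZMod 2) :=
    MonoidHom.mk' (fun e => Multiplicative.ofAdd (kap (e : Q) b, kap (e : Q) d)) fun e e' => by
      rw [← ofAdd_add]; simp [kap_mul B]
  obtain ⟨x, hxE, hxb, hxd, hxZ⟩ : ∃ x ∈ E, kap x b = 0 ∧ kap x d = 0 ∧ ¬ ∀ h, x * h = h * x := by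
    by_contra hno
    push Not at hno
    have hk : Nat.card φ.ker ≤ 2 := by
      have hf : ∀ k : φ.ker, ((k : E) : Q) = 1 ∨ ((k : E) : Q) = B.z := fun k => by
        have hk : φ (k : E) = 1 := k.2
        have hk' := congrArg Multiplicative.toAdd hk
        simp [φ, Prod.ext_iff] at hk'
        exact hZ _ (hno _ (k : E).2 hk'.1 hk'.2)
      let g : φ.ker → Set.range (fun i : Fin 2 => B.z ^ i.val) := fun k =>
        ⟨((k : E) : Q), (hf k).elim (fun h => ⟨0, by simp [h]⟩) (fun h => ⟨1, by simp [h]⟩)⟩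
      refine le_trans (Nat.card_le_card_of_injective g fun k k' h => ?_) (by
        simpa using Finite.card_range_le (fun i : Fin 2 => B.z ^ i.val))
      exact Subtype.ext (Subtype.ext (congrArg (fun w : Set.range (fun i : Fin 2 => B.z ^ i.val) => (w : Q)) h))
    have h4 : Nat.card φ.range ≤ 4 := by
      refine (Subgroup.card_le_card_group φ.range).trans (le_of_eq ?_)
      simp [Nat.card_congr Multiplicative.toAdd]
    have := φ.ker.card_mul_index
    rw [Subgroup.index_ker] at this
    have := Nat.mul_le_mul hk h4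
    omega
  push Not at hxZ
  obtain ⟨g, hg⟩ := hxZ
  have hxg : kap g x = 1 := by simp [kap, Ne.symm hg]
  let y := g * (pw a (kap g b) * pw b (kap g a)) * (pw c (kap g d) * pw d (kap g c))
  have e1 : ∀ w, kap y w = kap g w + (kap g b * kap a w + kap g a * kap b w) +
      (kap g d * kap c w + kap g c * kap d w) := fun w => by
    simp [y, kap_mul B, kap_pw]
  have hca : kap c a = 0 := kap_zero (hab c hc a ha)
  have hac : kap a c = 0 := kap_zero (hab a ha c hc)
  have sd : kap d a = 0 := by rw [kap_symm]; exact had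
  have sb : kap b c = 0 := by rw [kap_symm]; exact hcb
  have sbd : kap d b = 0 := by rw [kap_symm]; exact hbd
  have ya : kap y a = 0 := by
    rcases hp with hp | ⟨rfl, rfl⟩
    · rw [e1, kap_self, hca, sd, show kap b a = 1 by rw [kap_symm]; exact hp]
      linear_combination kap g a * two_zero
    · rw [kap_symm]; exact kap_one _
  have yb : kap y b = 0 := by
    rcases hp with hp | ⟨rfl, rfl⟩
    · rw [e1, kap_self, hcb, sbd, hp]; linear_combination kap g b * two_zero
    · rw [kap_symm]; exact kap_one _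
  have yc : kap y c = 0 := by
    rcases hq with hq | ⟨rfl, rfl⟩
    · rw [e1, kap_self, hac, sb, show kap d c = 1 by rw [kap_symm]; exact hq]
      linear_combination kap g c * two_zero
    · rw [kap_symm]; exact kap_one _
  have yd : kap y d = 0 := by
    rcases hq with hq | ⟨rfl, rfl⟩
    · rw [e1, kap_self, had, hbd, hq]; linear_combination kap g d * two_zero
    · rw [kap_symm]; exact kap_one _
  have xa : kap x a = 0 := kap_zero (hab x hxE a ha)
  have xc : kap x c = 0 := kap_zero (hab x hxE c hc)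
  have yx : kap y x = 1 := by
    rw [e1, kap_symm x a, kap_symm x b, kap_symm x c, kap_symm x d, xa, hxb, xc, hxd, hxg]
    ring
  have xy : kap x y = 1 := by rw [kap_symm]; exact yx
  have hyy : y * y = 1 ∨ y * y = B.z := hZ _ fun h => kap_comm (by
    rw [kap_mul B]; linear_combination kap y h * two_zero)
  rcases hyy with hyy | hyy
  · exact ⟨x, y, hxE, hE2 x hxE, hyy, xy, xa, hxb, xc, hxd, ya, yb, yc, yd⟩
  · refine ⟨x, y * x, hxE, hE2 x hxE, ?_, by rw [kap_mul_right B, kap_self, xy, add_zero],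
      xa, hxb, xc, hxd, by rw [kap_mul B, ya, xa, add_zero], by rw [kap_mul B, yb, hxb, add_zero],
      by rw [kap_mul B, yc, xc, add_zero], by rw [kap_mul B, yd, hxd, add_zero]⟩
    have h := kap_spec B x y
    rw [xy, zp_one] at h
    calc y * x * (y * x) = y * (x * y) * x := by simp only [mul_assoc]
      _ = y * (B.z * (y * x)) * x := by rw [h]
      _ = B.z * ((y * y) * (x * x)) := by
          rw [← mul_assoc y B.z, ← B.z_cent y]; simp only [mul_assoc]
      _ = 1 := by rw [hyy, hE2 x hxE, mul_one, B.z_sq]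

theorem exists_frame [Finite Q] (hQ : Cfsg.IsExtraspecial 2 Q) {E : Subgroup Q}
    (hE : Cfsg.IsElementaryAbelian 2 E) (hcard : 16 ≤ Nat.card E) : Nonempty (Frame Q) := by
  obtain ⟨⟨_, -, hder⟩, hc2⟩ := hQ
  obtain ⟨z, hz1, huniq⟩ := (Nat.card_eq_two_iff' (1 : Subgroup.center Q)).1 hc2
  have hzQ : (z : Q) ≠ 1 := fun h => hz1 (Subtype.ext h)
  have hZ : ∀ g : Q, (∀ h, g * h = h * g) → g = 1 ∨ g = (z : Q) := fun g hg => by
    by_cases h : g = 1
    · exact Or.inl h
    · exact Or.inr (congrArg Subtype.val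
        (huniq ⟨g, Subgroup.mem_center_iff.2 fun h => (hg h).symm⟩ fun e => h (congrArg Subtype.val e)))
  let B : Base Q :=
    { z := z
      z_ne := hzQ
      z_sq := by
        rcases hZ ((z : Q) * z) (fun h => ((Subgroup.mem_center_iff.1 (mul_mem z.2 z.2)) h).symm) with e | e
        · exact e
        · exact absurd (mul_eq_left.1 e) hzQ
      z_cent := fun g => (Subgroup.mem_center_iff.1 z.2 g).symm
      comm_z := fun g h => by
        have hm : ⁅g, h⁆ ∈ Subgroup.center Q := by
          rw [← hder, commutator_def]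
          exact Subgroup.commutator_mem_commutator trivial trivial
        rcases hZ _ (fun k => (Subgroup.mem_center_iff.1 hm k).symm) with e | e
        · exact Or.inl (commutatorElement_eq_one_iff_mul_comm.1 e)
        · refine Or.inr ?_
          rw [← e, commutatorElement_def]; group }
  have hab : ∀ a ∈ E, ∀ b ∈ E, a * b = b * a := fun a ha b hb =>
    have := hE.1
    congrArg Subtype.val (mul_comm' (⟨a, ha⟩ : E) ⟨b, hb⟩)
  have hE2 : ∀ a ∈ E, a * a = 1 := fun a ha => by rw [← pow_two]; exact hE.2 a ha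
  obtain ⟨x0, y0, m0, sx0, sy0, k0, -⟩ := next_pair B hab hE2 hcard hZ 1 1 1 1 E.one_mem E.one_mem
    (kap_one _) (kap_one _) (kap_one _) (Or.inr ⟨rfl, rfl⟩) (Or.inr ⟨rfl, rfl⟩)
  obtain ⟨x1, y1, m1, sx1, sy1, k1, x1x0, x1y0, -, -, y1x0, y1y0, -⟩ :=
    next_pair B hab hE2 hcard hZ x0 y0 1 1 m0 E.one_mem
      (by rw [kap_symm]; exact kap_one _) (kap_one _) (by rw [kap_symm]; exact kap_one _)
      (Or.inl k0) (Or.inr ⟨rfl, rfl⟩)
  obtain ⟨x2, y2, m2, sx2, sy2, k2, x2x0, x2y0, x2x1, x2y1, y2x0, y2y0, y2x1, y2y1⟩ :=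
    next_pair B hab hE2 hcard hZ x0 y0 x1 y1 m0 m1
      (by rw [kap_symm]; exact y1x0) x1y0 (by rw [kap_symm]; exact y1y0) (Or.inl k0) (Or.inl k1)
  have s0 : kap y0 x0 = 1 := by rw [kap_symm]; exact k0
  have s1 : kap y1 x1 = 1 := by rw [kap_symm]; exact k1
  have s2 : kap y2 x2 = 1 := by rw [kap_symm]; exact k2
  refine ⟨{ B with x := ![x0, x1, x2, y0, y1, y2], sq := ?_, rel := ?_ }⟩
  · intro i; fin_cases i <;> simp [sx0, sx1, sx2, sy0, sy1, sy2]
  · intro i j
    fin_cases i <;> fin_cases j <;>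
      simp [kap_self, k0, k1, k2, s0, s1, s2, x1x0, x1y0, y1x0, y1y0, x2x0, x2y0, x2x1, x2y1,
        y2x0, y2y0, y2x1, y2y1, kap_symm x1 x0, kap_symm x1 y0, kap_symm y1 x0, kap_symm y1 y0,
        kap_symm x2 x0, kap_symm x2 y0, kap_symm x2 x1, kap_symm x2 y1, kap_symm y2 x0,
        kap_symm y2 y0, kap_symm y2 x1, kap_symm y2 y1]

theorem inn_normal : (Cfsg.Inn Q).Normal := ⟨fun n hn g => by
  obtain ⟨d, rfl⟩ := hn
  exact ⟨g d, MulEquiv.ext fun q => by simp [MulAut.mul_apply]⟩⟩

end

/-- Let Q be an extraspecial 2-group of order 2^(2n+1) with n ≥ 3 that is of plus type (it contains an elementary abelian subgroup of order 2^(n+1)). Then the group of inner automorphisms of Q has no complement in the full automorphism group of Q: the extension of the inner automorphism group (elementary abelian of order 2^(2n)) by the outer automorphism group (the orthogonal group of plus type) does not split. -/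
theorem result {Q : Type*} [Group Q] [Finite Q] (n : ℕ) (hn : 3 ≤ n) (hQ : Cfsg.IsExtraspecial 2 Q) (hcard : Nat.card Q = 2 ^ (2 * n + 1)) (hplus : ∃ E : Subgroup Q, Cfsg.IsElementaryAbelian 2 E ∧ Nat.card ↥E = 2 ^ (n + 1)) (L : Subgroup (MulAut Q)) : ¬ (Cfsg.Inn Q).IsComplement' L := by
  obtain ⟨E, hE, hEc⟩ := hplus
  obtain ⟨F⟩ := exists_frame hQ hE (by
    rw [hEc]
    calc 16 = 2 ^ 4 := rfl
      _ ≤ 2 ^ (n + 1) := Nat.pow_le_pow_right (by norm_num) (by omega))
  intro hL
  have := inn_normal (Q := Q)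
  have lift : ∀ a : MulAut Q, ∃ d : Q, MulAut.conj d * a ∈ L := by
    intro a
    obtain ⟨⟨⟨i, ⟨d, hd⟩⟩, l⟩, h⟩ := hL.2 a
    refine ⟨d⁻¹, ?_⟩
    simp only at h
    rw [map_inv, hd, ← h, inv_mul_cancel_left]
    exact l.2
  obtain ⟨d, hl⟩ := lift (aA F)
  obtain ⟨e, hm⟩ := lift (aB F)
  let π := QuotientGroup.mk' (Cfsg.Inn Q)
  have pc : ∀ d : Q, π (MulAut.conj d) = 1 := fun d =>
    (QuotientGroup.eq_one_iff _).2 ⟨d, rfl⟩
  have zero : ∀ x ∈ L, π x = 1 → x = 1 := fun x hx h =>
    Subgroup.disjoint_def.1 hL.disjoint ((QuotientGroup.eq_one_iff _).1 h) hx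
  have h1 := zero _ (L.mul_mem hl hl) (by
    simp only [map_mul, pc, one_mul]; rw [← map_mul, aA_sq, map_one])
  have h2 := zero _ (L.mul_mem hm hm) (by
    simp only [map_mul, pc, one_mul]; rw [← map_mul, aB_sq, pc])
  have h3 := zero _ (L.mul_mem (L.mul_mem hl hm) (L.inv_mem (L.mul_mem hm hl))) (by
    simp only [map_mul, map_inv, pc, one_mul]
    rw [← map_mul, ← map_mul, aAB, map_mul, pc, one_mul, mul_inv_cancel])
  exact no_lifts F d e _ _ rfl rfl h1 h2 (mul_inv_eq_one.1 h3)

end Cfsg.Agent.S3085
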