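import Cfsg.Statements.S3087
import Mathlib.GroupTheory.Index
import Mathlib.Tactic.Ring
import Mathlib.Tactic.Abel

set_option autoImplicit false
open Cfsg

namespace Cfsg.Agent.S3087

/-- Let p be a prime, G a finite group acting linearly on a finite vector space V over the field with p elements, W a G-invariant subspace, and A a subgroup of G with |A|·|C_V(A)| ≥ |B|·|C_V(B)| for every subgroup B of A. Then |A|·|C_W(A)| ≥ |B|·|C_W(B)| for every subgroup B of A that contains C_A(W); that is, the image of A in the group induced on W satisfies the same maximality condition. -/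
theorem result {G V : Type*} [Group G] [Finite G] [AddCommGroup V] [Finite V] (p : ℕ) [Fact p.Prime] [Module (ZMod p) V]
    (ρ : Representation (ZMod p) G V) (W : Submodule (ZMod p) V) (hW : ∀ g : G, ∀ w ∈ W, ρ g w ∈ W)
    (A : Subgroup G)
    (hP : ∀ B : Subgroup G, B ≤ A →
      Nat.card ↥B * Nat.card {v : V // ∀ b ∈ B, ρ b v = v} ≤ Nat.card ↥A * Nat.card {v : V // ∀ a ∈ A, ρ a v = v})
    (B : Subgroup G) (hBA : B ≤ A) (hCB : ∀ a ∈ A, (∀ w ∈ W, ρ a w = w) → a ∈ B) :
    Nat.card ↥B * Nat.card {w : W // ∀ b ∈ B, ρ b w = w} ≤ Nat.card ↥A * Nat.card {w : W // ∀ a ∈ A, ρ a w = w} := by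
  let fixV : Subgroup G → AddSubgroup V := fun D =>
    { carrier := {v | ∀ b ∈ D, ρ b v = v}
      zero_mem' := fun b _ => map_zero _
      add_mem' := fun {u v} hu hv b hb => by rw [map_add, hu b hb, hv b hb]
      neg_mem' := fun {u} hu b hb => by rw [map_neg, hu b hb] }
  let fixW : Subgroup G → AddSubgroup V := fun D => fixV D ⊓ W.toAddSubgroup
  have eW : ∀ D : Subgroup G, Nat.card {w : W // ∀ b ∈ D, ρ b w = w} = Nat.card (fixW D) := fun D =>
    Nat.card_congr
      { toFun := fun w => ⟨w.1.1, fun b hb => w.2 b hb, w.1.2⟩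
        invFun := fun v => ⟨⟨v.1, v.2.2⟩, fun b hb => v.2.1 b hb⟩
        left_inv := fun _ => rfl
        right_inv := fun _ => rfl }
  have eV : ∀ D : Subgroup G, Nat.card {v : V // ∀ b ∈ D, ρ b v = v} = Nat.card (fixV D) := fun D => rfl
  rw [eW, eW]
  have h := hP B hBA
  rw [eV, eV] at h
  -- the sum map
  let σ : fixW B × fixV A →+ fixV B :=
    AddMonoidHom.mk' (fun x => ⟨(x.1 : V) + x.2, (fixV B).add_mem x.1.2.1 fun b hb => x.2.2 b (hBA hb)⟩)
      fun x y => Subtype.ext (by simp only [Prod.fst_add, Prod.snd_add, AddSubgroup.coe_add]; abel)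
  have hker : Nat.card σ.ker ≤ Nat.card (fixW A) := by
    refine Nat.card_le_card_of_injective
      (fun x => (⟨(x.1.2 : V), x.1.2.2, ?_⟩ : fixW A)) fun x y hxy => ?_
    · have h0 : (x.1.1 : V) + x.1.2 = 0 := congrArg Subtype.val x.2
      rw [eq_neg_of_add_eq_zero_right h0]
      exact W.toAddSubgroup.neg_mem x.1.1.2.2
    · have h2 : (x.1.2 : V) = y.1.2 := congrArg (fun w : fixW A => (w : V)) hxy
      have hx0 : (x.1.1 : V) + x.1.2 = 0 := congrArg Subtype.val x.2
      have hy0 : (y.1.1 : V) + y.1.2 = 0 := congrArg Subtype.val y.2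
      exact Subtype.ext (Prod.ext (Subtype.ext (by
        rw [eq_neg_of_add_eq_zero_left hx0, eq_neg_of_add_eq_zero_left hy0, h2])) (Subtype.ext h2))
  have hrange : Nat.card σ.range ≤ Nat.card (fixV B) :=
    Nat.card_le_card_of_injective Subtype.val Subtype.val_injective
  have hkr : Nat.card σ.ker * Nat.card σ.range = Nat.card (fixW B) * Nat.card (fixV A) := by
    rw [← AddSubgroup.index_ker, AddSubgroup.card_mul_index, Nat.card_prod]
  refine Nat.le_of_mul_le_mul_right ?_ (Nat.card_pos (α := fixV A))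
  calc Nat.card B * Nat.card (fixW B) * Nat.card (fixV A)
      = Nat.card B * (Nat.card σ.ker * Nat.card σ.range) := by rw [hkr, mul_assoc]
    _ ≤ Nat.card B * (Nat.card (fixW A) * Nat.card (fixV B)) :=
        Nat.mul_le_mul_left _ (Nat.mul_le_mul hker hrange)
    _ = Nat.card B * Nat.card (fixV B) * Nat.card (fixW A) := by ring
    _ ≤ Nat.card A * Nat.card (fixV A) * Nat.card (fixW A) := Nat.mul_le_mul_right _ h
    _ = _ := by ring

end Cfsg.Agent.S3087
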