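import Cfsg.Statements.S3104
import Cfsg.Agent.Lib.SRank.ConstrainedQuot
import Cfsg.Agent.Lib.SRank.AltEightOdd
import Cfsg.Agent.S2553

set_option autoImplicit false
open Cfsg

namespace Cfsg.Agent.S3104

open CfsgLib

theorem pow_four_two : ∀ r : ZMod 2, r ^ 4 = 1 → r = 1 := by decide

theorem pow_three_two : ∀ r : ZMod 2, r ^ 3 = 1 → r = 1 := by decide

theorem ne_zero_two : ∀ r : ZMod 2, r ≠ 0 → r = 1 := by decide

/-- A group inside `A₈` is inside `GL₄(2)`. -/
theorem exists_alt_to_gl :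
    ∃ g : alternatingGroup (Fin 8) →* GL (Fin 4) (ZMod 2), Function.Injective g := by
  haveI : Fact (Nat.Prime 2) := ⟨Nat.prime_two⟩
  obtain ⟨e⟩ := Cfsg.Agent.S0256.result (F := ZMod 2) (by rw [ZMod.card])
  let d : Matrix.SpecialLinearGroup (Fin 4) (ZMod 2) →* Matrix.ProjectiveSpecialLinearGroup (Fin 4) (ZMod 2) :=
    QuotientGroup.mk' _
  have hd : Function.Bijective d := by
    refine ⟨?_, QuotientGroup.mk'_surjective _⟩
    rw [← MonoidHom.ker_eq_bot_iff, QuotientGroup.ker_mk', Subgroup.eq_bot_iff_forall]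
    intro A hA
    obtain ⟨r, hr, hA'⟩ := Matrix.SpecialLinearGroup.mem_center_iff.1 hA
    refine Subtype.ext ?_
    rw [← hA']
    rw [pow_four_two r (by simpa using hr)]
    simp
  exact ⟨Matrix.SpecialLinearGroup.toGL.comp
    ((e.symm.trans (MulEquiv.ofBijective d hd).symm).toMonoidHom),
    Matrix.SpecialLinearGroup.toGL_injective.comp (MulEquiv.injective _)⟩

/-- `GL₃(2)` is `PSL₃(2)`. -/
theorem gl_three_equiv_psl :
    Nonempty (GL (Fin 3) (ZMod 2) ≃* Matrix.ProjectiveSpecialLinearGroup (Fin 3) (ZMod 2)) := by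
  haveI : Fact (Nat.Prime 2) := ⟨Nat.prime_two⟩
  have hs : Function.Bijective (Matrix.SpecialLinearGroup.toGL :
      Matrix.SpecialLinearGroup (Fin 3) (ZMod 2) →* GL (Fin 3) (ZMod 2)) := by
    refine ⟨Matrix.SpecialLinearGroup.toGL_injective, fun g => ⟨⟨g, ?_⟩, Units.ext rfl⟩⟩
    have hne : (g : Matrix (Fin 3) (Fin 3) (ZMod 2)).det ≠ 0 :=
      ((Matrix.isUnit_iff_isUnit_det _).1 g.isUnit).ne_zero
    exact ne_zero_two _ hne
  let d : Matrix.SpecialLinearGroup (Fin 3) (ZMod 2) →* Matrix.ProjectiveSpecialLinearGroup (Fin 3) (ZMod 2) :=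
    QuotientGroup.mk' _
  have hd : Function.Bijective d := by
    refine ⟨?_, QuotientGroup.mk'_surjective _⟩
    rw [← MonoidHom.ker_eq_bot_iff, QuotientGroup.ker_mk', Subgroup.eq_bot_iff_forall]
    intro A hA
    obtain ⟨r, hr, hA'⟩ := Matrix.SpecialLinearGroup.mem_center_iff.1 hA
    refine Subtype.ext ?_
    rw [← hA']
    rw [pow_three_two r (by simpa using hr)]
    simp
  exact ⟨(MulEquiv.ofBijective _ hs).symm.trans (MulEquiv.ofBijective d hd)⟩

theorem exists_six_to_seven :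
    ∃ f : Equiv.Perm (Fin 6) →* Equiv.Perm (Fin 7), Function.Injective f :=
  ⟨_, Equiv.Perm.viaEmbeddingHom_injective (Fin.castLEEmb (show 6 ≤ 7 by norm_num))⟩

/-- The sign, as a permutation of two letters. -/
def twoHom : ℤˣ →* Equiv.Perm (Fin 2) where
  toFun u := if u = 1 then 1 else Equiv.swap 0 1
  map_one' := by decide
  map_mul' := by decide

theorem sign_twoHom : ∀ u : ℤˣ, Equiv.Perm.sign (twoHom u) = u := by decide

theorem exists_six_to_alt :
    ∃ f : Equiv.Perm (Fin 6) →* alternatingGroup (Fin 8), Function.Injective f := by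
  let g : Equiv.Perm (Fin 6) →* Equiv.Perm (Fin 6 ⊕ Fin 2) :=
    (Equiv.Perm.sumCongrHom (Fin 6) (Fin 2)).comp
      ((MonoidHom.id _).prod (twoHom.comp Equiv.Perm.sign))
  have hg : Function.Injective g := fun a b h =>
    congrArg Prod.fst (Equiv.Perm.sumCongrHom_injective h)
  have hsign : ∀ σ, Equiv.Perm.sign (g σ) = 1 := fun σ => by
    change Equiv.Perm.sign (Equiv.Perm.sumCongr σ (twoHom (Equiv.Perm.sign σ))) = 1
    rw [Equiv.Perm.sign_sumCongr, sign_twoHom, Int.units_mul_self]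
  let e : Equiv.Perm (Fin 6 ⊕ Fin 2) ≃* Equiv.Perm (Fin 8) := finSumFinEquiv.permCongrHom
  refine ⟨(e.toMonoidHom.comp g).codRestrict _ fun σ => Equiv.Perm.mem_alternatingGroup.2 ?_,
    fun a b h => hg (e.injective (congrArg Subtype.val h))⟩
  change Equiv.Perm.sign (finSumFinEquiv.permCongr (g σ)) = 1
  rw [Equiv.Perm.sign_permCongr, hsign]

/-- Let X be a finite nonsolvable 2-constrained group with no nontrivial normal subgroup of odd order such that O₂(X) has sectional 2-rank at most 4, and write Q for X/O₂(X). Then Q is isomorphic to the projective special linear group of dimension 3 over the field with 2 elements, to an alternating group of degree n with 5 ≤ n ≤ 8, to a symmetric group of degree n with 5 ≤ n ≤ 7, or else O₃(Q) has order 3 and Q/O₃(Q) is isomorphic to the alternating or the symmetric group of degree 5 (so Q is the direct product of a group of order 3 with the alternating group of degree 5, or an extension of that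 direct product by a group of order 2). If moreover X itself has sectional 2-rank at most 4, then Q is not isomorphic to the symmetric group of degree 6 or 7 nor to the alternating group of degree 8. -/
theorem result {X : Type*} [Group X] [Finite X] (hns : ¬ Group.IsSolvable X) (hc : Cfsg.IsPConstrained 2 X) (hO : Cfsg.oddCore X = ⊥)
    (h4 : Cfsg.SectionalPRankLE 2 4 ↥(Cfsg.pCore 2 X)) :
    ((∃ (F : Type) (_ : Field F) (_ : Fintype F), Fintype.card F = 2 ∧
          Nonempty (X ⧸ Cfsg.pCore 2 X ≃* Matrix.ProjectiveSpecialLinearGroup (Fin 3) F)) ∨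
        (∃ n : ℕ, 5 ≤ n ∧ n ≤ 8 ∧ Nonempty (X ⧸ Cfsg.pCore 2 X ≃* ↥(alternatingGroup (Fin n)))) ∨
        (∃ n : ℕ, 5 ≤ n ∧ n ≤ 7 ∧ Nonempty (X ⧸ Cfsg.pCore 2 X ≃* Equiv.Perm (Fin n))) ∨
        (Nat.card ↥(Cfsg.pCore 3 (X ⧸ Cfsg.pCore 2 X)) = 3 ∧
          (Nonempty ((X ⧸ Cfsg.pCore 2 X) ⧸ Cfsg.pCore 3 (X ⧸ Cfsg.pCore 2 X) ≃* ↥(alternatingGroup (Fin 5))) ∨
            Nonempty ((X ⧸ Cfsg.pCore 2 X) ⧸ Cfsg.pCore 3 (X ⧸ Cfsg.pCore 2 X) ≃* Equiv.Perm (Fin 5))))) ∧
      (Cfsg.SectionalPRankLE 2 4 X →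
        ¬ (Nonempty (X ⧸ Cfsg.pCore 2 X ≃* Equiv.Perm (Fin 6)) ∨ Nonempty (X ⧸ Cfsg.pCore 2 X ≃* Equiv.Perm (Fin 7)) ∨
            Nonempty (X ⧸ Cfsg.pCore 2 X ≃* ↥(alternatingGroup (Fin 8))))) := by
  classical
  haveI : Fact (Nat.Prime 2) := ⟨Nat.prime_two⟩
  haveI := Solvable.pCore_normal 2 X
  refine ⟨?_, fun hX hcase => ?_⟩
  · have hH : ¬ Group.IsSolvable (X ⧸ Cfsg.pCore 2 X) := fun h => hns (by
      haveI := h
      haveI := (Solvable.pCore_isPGroup (G := X) 2).isNilpotent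
      exact solvable_of_ker_le_range (Cfsg.pCore 2 X).subtype (QuotientGroup.mk' (Cfsg.pCore 2 X))
        (by rw [QuotientGroup.ker_mk', Subgroup.range_subtype]))
    obtain ⟨f, hf⟩ := InvChar.EmbedAltEight.embeds hc hO h4
    by_cases hK : Cfsg.pPrimeCore 2 (X ⧸ Cfsg.pCore 2 X) = ⊥
    · obtain ⟨g, hg⟩ := exists_alt_to_gl
      let e := MonoidHom.ofInjective (f := g.comp f) (hg.comp hf)
      have h1 : Cfsg.pPrimeCore 2 ↥(g.comp f).range = ⊥ := by
        rw [← Solvable.map_pPrimeCore_equiv e, hK, Subgroup.map_bot]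
      have h2 : Cfsg.pCore 2 ↥(g.comp f).range = ⊥ := by
        rw [← Solvable.map_pCore_equiv e, Solvable.pCore_quotient_eq_bot, Subgroup.map_bot]
      have hne : (g.comp f).range ≠ ⊥ := by
        intro h
        haveI : Subsingleton (X ⧸ Cfsg.pCore 2 X) := ⟨fun a b => e.injective (Subtype.ext (by
          rw [(Subgroup.eq_bot_iff_forall _).1 h _ (e a).2, (Subgroup.eq_bot_iff_forall _).1 h _ (e b).2]))⟩
        exact hH inferInstance
      rcases Cfsg.Agent.S2553.result _ hne h1 h2 with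
        ⟨n, hn5, hn8, ⟨i⟩⟩ | ⟨⟨i⟩⟩ | ⟨⟨i⟩⟩ | ⟨⟨i⟩⟩
      · exact Or.inr (Or.inl ⟨n, hn5, hn8, ⟨e.trans i⟩⟩)
      · exact Or.inr (Or.inr (Or.inl ⟨5, le_rfl, by norm_num, ⟨e.trans i⟩⟩))
      · exact Or.inr (Or.inr (Or.inl ⟨6, by norm_num, by norm_num, ⟨e.trans i⟩⟩))
      · obtain ⟨j⟩ := gl_three_equiv_psl
        exact Or.inl ⟨ZMod 2, inferInstance, inferInstance, ZMod.card 2, ⟨(e.trans i).trans j⟩⟩
    · exact Or.inr (Or.inr (Or.inr (SRank.three_part f hf hH hK)))
  · rcases hcase with ⟨⟨e⟩⟩ | ⟨⟨e⟩⟩ | ⟨⟨e⟩⟩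
    · exact SRank.no_six hc hO hX e.symm.toMonoidHom e.symm.injective
    · obtain ⟨g, hg⟩ := exists_six_to_seven
      exact SRank.no_six hc hO hX (e.symm.toMonoidHom.comp g) (e.symm.injective.comp hg)
    · obtain ⟨g, hg⟩ := exists_six_to_alt
      exact SRank.no_six hc hO hX (e.symm.toMonoidHom.comp g) (e.symm.injective.comp hg)

end Cfsg.Agent.S3104
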