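import Cfsg.Statements.S3105
import Cfsg.Agent.Lib.SRank.Seven.Classify

set_option autoImplicit false
open Cfsg

namespace Cfsg.Agent.S3105

open CfsgLib CfsgLib.SRank

/-- Let X be a finite nonsolvable 2-constrained group with no nontrivial normal subgroup of odd order and of sectional 2-rank at most 4, and suppose X/O₂(X) is isomorphic to the projective special linear group of dimension 3 over the field with 2 elements. Then O₂(X) is elementary abelian of order 8 or 16, or is isomorphic to the direct product of a cyclic group of order 4 and an elementary abelian group of order 8. -/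
theorem result {X : Type*} [Group X] [Finite X] (hns : ¬ Group.IsSolvable X) (hc : Cfsg.IsPConstrained 2 X) (hO : Cfsg.oddCore X = ⊥)
    (h4 : Cfsg.SectionalPRankLE 2 4 X) {F : Type*} [Field F] [Fintype F] (hF : Fintype.card F = 2)
    (hQ : Nonempty (X ⧸ Cfsg.pCore 2 X ≃* Matrix.ProjectiveSpecialLinearGroup (Fin 3) F)) :
    (Cfsg.IsElementaryAbelian 2 (Cfsg.pCore 2 X) ∧ (Nat.card ↥(Cfsg.pCore 2 X) = 8 ∨ Nat.card ↥(Cfsg.pCore 2 X) = 16)) ∨
      Nonempty (↥(Cfsg.pCore 2 X) ≃* Multiplicative (ZMod 4) × (Fin 3 → Multiplicative (ZMod 2))) := by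
  classical
  haveI : Fact (Nat.Prime 2) := ⟨Nat.prime_two⟩
  haveI := Solvable.pCore_normal 2 X
  obtain ⟨e⟩ := hQ
  set Q := Cfsg.pCore 2 X with hQdef
  obtain ⟨hs, h168⟩ := Seven.psl_facts hF
  haveI := hs
  have τ : Seven.Top Q :=
    ⟨Solvable.pCore_isPGroup 2, e.isSimpleGroup, (Nat.card_congr e.toEquiv).trans h168⟩
  haveI : (Five.squares Q).Normal := by
    refine ⟨fun x hx g => ?_⟩
    refine Subgroup.closure_induction (p := fun x _ => g * x * g⁻¹ ∈ Five.squares Q) ?_
      (by rw [mul_one, mul_inv_cancel]; exact one_mem _)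
      (fun a b _ _ ha hb => by
        rw [show g * (a * b) * g⁻¹ = (g * a * g⁻¹) * (g * b * g⁻¹) by group]; exact mul_mem ha hb)
      (fun a _ ha => by rw [show g * a⁻¹ * g⁻¹ = (g * a * g⁻¹)⁻¹ by group]; exact inv_mem ha) hx
    rintro _ ⟨q, hq, rfl⟩
    exact Subgroup.subset_closure ⟨g * q * g⁻¹, Subgroup.Normal.conj_mem inferInstance q hq g, by group⟩
  have hsqle : Five.squares Q ≤ coreFrattini X := by
    rw [Five.squares, Subgroup.closure_le]
    rintro _ ⟨q, hq, rfl⟩
    exact ⟨(⟨q, hq⟩ : Q) ^ 2, StructC.pow_mem_frattini (Solvable.pCore_isPGroup 2) _, by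
      simp [pow_two]⟩
  have hself : ∀ y : X, (∀ q ∈ Q, y * q * y⁻¹ * q⁻¹ ∈ Five.squares Q) → y ∈ Q := by
    intro y hy
    have hc' : QuotientGroup.mk' (coreFrattini X) y ∈
        Subgroup.centralizer (coreTop X : Set (X ⧸ coreFrattini X)) := by
      refine Subgroup.mem_centralizer_iff.2 ?_
      rintro _ ⟨q, hq, rfl⟩
      have := hsqle (hy q hq)
      rw [← map_mul, ← map_mul]
      refine QuotientGroup.eq.2 ?_
      have h2 := (coreFrattini_normal (X := X)).conj_mem _ this (q * y)⁻¹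
      simpa [mul_assoc] using h2
    obtain ⟨z, hz, hze⟩ := centralizer_coreTop_le hc hO hc'
    have hm : z⁻¹ * y ∈ coreFrattini X := QuotientGroup.eq.1 hze
    simpa using mul_mem hz (coreFrattini_le hm)
  have σ : Seven.Setting Q (Five.squares Q) := ⟨τ, h4, rfl, hself⟩
  rcases Seven.classify (Nat.card X) Q (Five.squares Q) rfl σ with ⟨hP, hc816⟩ | ⟨hP2, h32, hcomm⟩
  · left
    have hsq : ∀ q ∈ Q, q * q = 1 := fun q hq =>
      (Subgroup.eq_bot_iff_forall _).1 hP _ (σ.sq_mem hq)
    exact ⟨(show Exp2 Q from hsq).isElementary, hc816⟩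
  · exact Or.inr (Seven.iso_of_shape (fun q hq => σ.sq_mem hq) rfl hP2 h32 hcomm)

end Cfsg.Agent.S3105
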