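import Cfsg.Statements.S3106
import Cfsg.Agent.Lib.SRank.FiveCore

set_option autoImplicit false
open Cfsg

namespace Cfsg.Agent.S3106

open CfsgLib CfsgLib.SRank

/-- Let X be a finite nonsolvable 2-constrained group with no nontrivial normal subgroup of odd order and of sectional 2-rank at most 4, and suppose X/O₂(X) contains a subgroup isomorphic to the alternating group of degree 5. Then O₂(X) is elementary abelian of order 16, or O₂(X) is a central product of a quaternion group of order 8 and a dihedral group of order 8 (it has order 32 and is generated by two elementwise-commuting subgroups, one quaternion of order 8 and one dihedral of order 8, meeting in the centre). -/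
theorem result {X : Type*} [Group X] [Finite X] (hns : ¬ Group.IsSolvable X) (hc : Cfsg.IsPConstrained 2 X) (hO : Cfsg.oddCore X = ⊥)
    (h4 : Cfsg.SectionalPRankLE 2 4 X)
    (hQ : ∃ A : Subgroup (X ⧸ Cfsg.pCore 2 X), Nonempty (↥A ≃* ↥(alternatingGroup (Fin 5)))) :
    (Cfsg.IsElementaryAbelian 2 (Cfsg.pCore 2 X) ∧ Nat.card ↥(Cfsg.pCore 2 X) = 16) ∨
      (Nat.card ↥(Cfsg.pCore 2 X) = 32 ∧ ∃ A B : Subgroup ↥(Cfsg.pCore 2 X),
        Nonempty (↥A ≃* QuaternionGroup 2) ∧ Nonempty (↥B ≃* DihedralGroup 4) ∧ (∀ a ∈ A, ∀ b ∈ B, a * b = b * a) ∧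
          A ⊔ B = ⊤ ∧ A ⊓ B = Subgroup.center ↥(Cfsg.pCore 2 X)) := by
  classical
  haveI : Fact (Nat.Prime 2) := ⟨Nat.prime_two⟩
  haveI := Solvable.pCore_normal 2 X
  obtain ⟨A, ⟨eA⟩⟩ := hQ
  set Q := Cfsg.pCore 2 X with hQdef
  set X1 := A.comap (QuotientGroup.mk' Q) with hX1
  have hQX : Q ≤ X1 := fun q hq => by
    show QuotientGroup.mk' Q q ∈ A
    rw [show QuotientGroup.mk' Q q = 1 from (QuotientGroup.eq_one_iff q).2 hq]
    exact one_mem A
  let f : X1 →* A := ((QuotientGroup.mk' Q).comp X1.subtype).codRestrict A fun x => x.2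
  have hf : Function.Surjective f := fun a => by
    obtain ⟨x, hx⟩ := QuotientGroup.mk'_surjective Q (a : X ⧸ Q)
    exact ⟨⟨x, by show QuotientGroup.mk' Q x ∈ A; rw [hx]; exact a.2⟩, Subtype.ext hx⟩
  have hker : Q.subgroupOf X1 = f.ker := by
    ext x
    rw [MonoidHom.mem_ker, Subgroup.mem_subgroupOf]
    exact ⟨fun h => Subtype.ext ((QuotientGroup.eq_one_iff _).2 h),
      fun h => (QuotientGroup.eq_one_iff _).1 (congrArg Subtype.val h)⟩
  have hiso : Nonempty (↥X1 ⧸ Q.subgroupOf X1 ≃* alternatingGroup (Fin 5)) :=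
    ⟨((QuotientGroup.quotientMulEquivOfEq hker).trans
      (QuotientGroup.quotientKerEquivOfSurjective f hf)).trans eA⟩
  let eQ : ↥(Q.subgroupOf X1) ≃* ↥Q := Subgroup.subgroupOfEquivOfLe hQX
  have h2 : IsPGroup 2 ↥(Q.subgroupOf X1) := (Solvable.pCore_isPGroup 2).of_equiv eQ.symm
  have hsqle : (Five.squares (Q.subgroupOf X1)).map X1.subtype ≤ coreFrattini X := by
    rw [Five.squares, MonoidHom.map_closure, Subgroup.closure_le]
    rintro _ ⟨_, ⟨q, hq, rfl⟩, rfl⟩
    exact ⟨(⟨(q : X), hq⟩ : Q) ^ 2, StructC.pow_mem_frattini (Solvable.pCore_isPGroup 2) _, by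
      simp [pow_two]⟩
  have hself : ∀ y : X1, (∀ q ∈ Q.subgroupOf X1, y * q * y⁻¹ * q⁻¹ ∈ Five.squares (Q.subgroupOf X1)) →
      y ∈ Q.subgroupOf X1 := by
    intro y hy
    have hc' : QuotientGroup.mk' (coreFrattini X) (y : X) ∈
        Subgroup.centralizer (coreTop X : Set (X ⧸ coreFrattini X)) := by
      refine Subgroup.mem_centralizer_iff.2 ?_
      rintro _ ⟨q, hq, rfl⟩
      have := hsqle (Subgroup.mem_map_of_mem _ (hy ⟨q, hQX hq⟩ hq))
      rw [← map_mul, ← map_mul]
      refine QuotientGroup.eq.2 ?_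
      have h2 := (coreFrattini_normal (X := X)).conj_mem _ this (q * (y : X))⁻¹
      simpa [mul_assoc] using h2
    obtain ⟨z, hz, hze⟩ := centralizer_coreTop_le hc hO hc'
    have hm : z⁻¹ * (y : X) ∈ coreFrattini X := QuotientGroup.eq.1 hze
    show (y : X) ∈ Q
    simpa using mul_mem hz (coreFrattini_le hm)
  have s := Five.mk_setting h2 hself hiso (Five.sectional_subgroup X1 h4)
  rcases s.classify with ⟨-, hexp, h16⟩ | hP
  · left
    rw [Nat.card_congr eQ.toEquiv] at h16
    have hsq : ∀ q ∈ Q, q * q = 1 := fun q hq =>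
      congrArg Subtype.val (hexp ⟨q, hQX hq⟩ hq)
    exact ⟨(show Exp2 Q from hsq).isElementary, h16⟩
  · right
    obtain ⟨hex, h32, h12⟩ := s.five hP
    obtain ⟨A', B', ⟨eQ8⟩, ⟨eD8⟩, hcomm, hsup, hinf⟩ := QuatDihedral.exists_factors hex h32 h12
    refine ⟨by rw [← Nat.card_congr eQ.toEquiv]; exact h32, A'.map eQ.toMonoidHom,
      B'.map eQ.toMonoidHom, ⟨(A'.equivMapOfInjective _ eQ.injective).symm.trans eQ8⟩,
      ⟨(B'.equivMapOfInjective _ eQ.injective).symm.trans eD8⟩, ?_, ?_, ?_⟩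
    · rintro _ ⟨a, ha, rfl⟩ _ ⟨b, hb, rfl⟩
      rw [← map_mul, ← map_mul, hcomm a ha b hb]
    · rw [← Subgroup.map_sup, hsup, ← MonoidHom.range_eq_map, MonoidHom.range_eq_top]
      exact eQ.surjective
    · rw [← Subgroup.map_inf _ _ _ eQ.injective, hinf]
      ext b
      constructor
      · rintro ⟨a, ha, rfl⟩
        refine Subgroup.mem_center_iff.2 fun y => ?_
        obtain ⟨y, rfl⟩ := eQ.surjective y
        simp only [MulEquiv.coe_toMonoidHom, ← map_mul, Subgroup.mem_center_iff.1 ha y]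
      · intro hb
        refine ⟨eQ.symm b, Subgroup.mem_center_iff.2 fun y => eQ.injective ?_, by simp⟩
        simp [Subgroup.mem_center_iff.1 hb (eQ y)]

end Cfsg.Agent.S3106
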