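import Cfsg.Statements.S3113
import Cfsg.Agent.Lib.Comp.SFT.Main
import Cfsg.Agent.Lib.InvChar.CommutingProduct
import Cfsg.Agent.Lib.InvChar.DihedralProduct.Main
-- import your own Cfsg.Agent.* helpers here

set_option autoImplicit false
open Cfsg

namespace Cfsg.Agent.S3113

/-- Let G be a finite group with no nontrivial normal subgroup of odd order, no proper normal subgroup of odd index and no normal subgroup of index 2, whose Sylow 2-subgroup S is non-abelian and is the internal direct product of two dihedral subgroups (each of order at least 4). Then G is the internal direct product of two normal subgroups G₁ and G₂, and for a suitable such factorization of S into dihedral subgroups S₁ × S₂ the factor Sᵢ is a Sylow 2-subgroup of Gᵢ for i = 1, 2. -/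
theorem result {G : Type*} [Group G] [Finite G] (hO : Cfsg.oddCore G = ⊥) (hidx : ∀ N : Subgroup G, N.Normal → Odd N.index → N = ⊤)
    (h2 : ∀ N : Subgroup G, N.Normal → N.index ≠ 2)
    (S : Sylow 2 G) (hS : ¬ IsMulCommutative ↥(S : Subgroup G))
    (D₁ D₂ : Subgroup G) (hD : Cfsg.IsInternalDirectProduct D₁ D₂ (S : Subgroup G))
    (hD₁ : ∃ m : ℕ, 2 ≤ m ∧ Nonempty (↥D₁ ≃* DihedralGroup m)) (hD₂ : ∃ m : ℕ, 2 ≤ m ∧ Nonempty (↥D₂ ≃* DihedralGroup m)) :
    ∃ G₁ G₂ : Subgroup G, G₁.Normal ∧ G₂.Normal ∧ Cfsg.IsInternalDirectProduct G₁ G₂ ⊤ ∧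
      ∃ S₁ S₂ : Subgroup G, Cfsg.IsInternalDirectProduct S₁ S₂ (S : Subgroup G) ∧
        (∃ m : ℕ, 2 ≤ m ∧ Nonempty (↥S₁ ≃* DihedralGroup m)) ∧ (∃ m : ℕ, 2 ≤ m ∧ Nonempty (↥S₂ ≃* DihedralGroup m)) ∧
        S₁ ≤ G₁ ∧ S₂ ≤ G₂ ∧ ¬ (2 ∣ (S₁.subgroupOf G₁).index) ∧ ¬ (2 ∣ (S₂.subgroupOf G₂).index) := by
  haveI : Fact (Nat.Prime 2) := ⟨Nat.prime_two⟩
  obtain ⟨m₁, hm₁, ⟨e₁⟩⟩ := hD₁
  obtain ⟨m₂, hm₂, ⟨e₂⟩⟩ := hD₂
  obtain ⟨M, hM, rfl⟩ := CfsgLib.InvChar.DProd.exists_half S hD.1 hm₁ e₁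
  obtain ⟨N, hN, rfl⟩ := CfsgLib.InvChar.DProd.exists_half S hD.2.1 hm₂ e₂
  obtain ⟨F⟩ := CfsgLib.InvChar.DProd.exists_frame S hD e₁ e₂
  haveI : NeZero M := ⟨by omega⟩
  haveI : NeZero N := ⟨by omega⟩
  have hex : ∃ F' : CfsgLib.InvChar.DProd.Frame S M N, F'.Closed ∧ F'.swap.Closed := by
    rcases Nat.lt_or_ge M 2 with hM' | hM'
    · rcases Nat.lt_or_ge N 2 with hN' | hN'
      · exfalso
        obtain rfl : M = 1 := by omega
        obtain rfl : N = 1 := by omega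
        refine hS ⟨⟨fun x y => Subtype.ext ?_⟩⟩
        obtain ⟨p, hp⟩ := F.exists_eq x.2
        obtain ⟨q, hq⟩ := F.exists_eq y.2
        show (x : G) * y = y * x
        rw [← hp, ← hq, ← map_mul, ← map_mul]
        exact congrArg F.f (Prod.ext (CfsgLib.InvChar.DProd.four_comm _ _)
          (CfsgLib.InvChar.DProd.four_comm _ _))
      · obtain ⟨F', h₁, h₂⟩ := F.swap.exists_closed hN' h2
        exact ⟨F'.swap, h₂, h₁⟩
    · exact F.exists_closed hM' h2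
  obtain ⟨F', hc₁, hc₂⟩ := hex
  obtain ⟨h₁, h₂, hc, hd, hS'⟩ := F'.isInternalDirectProduct
  have h : CfsgLib.InvChar.ComClosed.CPair S F'.left F'.right :=
    ⟨hc₁.stronglyClosed, F'.swap_left ▸ hc₂.stronglyClosed, hc, hd⟩
  have hcom := CfsgLib.InvChar.ComClosed.commutes (fun G _ _ A hA he h8 θ a b c d e =>
    CfsgLib.Comp.SFT.solvable_functor_two A hA he h8 θ a b c d e) G
  obtain ⟨hp, i₁, i₂⟩ := h.product hS' hcom hO hidx
  exact ⟨_, _, Subgroup.normalClosure_normal, Subgroup.normalClosure_normal, hp, F'.left, F'.right,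
    ⟨h₁, h₂, hc, hd, hS'⟩, ⟨2 * M, by omega, ⟨F'.leftEquiv⟩⟩,
    ⟨2 * N, by omega, ⟨F'.swap.leftEquiv⟩⟩,
    fun x hx => Subgroup.subset_normalClosure hx, fun x hx => Subgroup.subset_normalClosure hx,
    i₁.not_two_dvd_nat, i₂.not_two_dvd_nat⟩

end Cfsg.Agent.S3113
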