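import Cfsg.Statements.S3116
import Mathlib.Tactic

set_option autoImplicit false
open Cfsg

namespace Cfsg.Agent.S3116

/-- The automorphism group of a dihedral 2-group of order at least 8, or of a quasi-dihedral (semidihedral) 2-group of order at least 16, is a 2-group. -/
theorem result {X : Type*} [Group X] [Finite X] (h2 : IsPGroup 2 X)
    (h : (∃ n : ℕ, 4 ≤ n ∧ Nonempty (X ≃* DihedralGroup n)) ∨ Cfsg.IsQuasiDihedral X) : IsPGroup 2 (MulAut X) := by
  haveI : Fact (Nat.Prime 2) := ⟨Nat.prime_two⟩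
  obtain ⟨r, N, hN, hr, hout, hcard⟩ : ∃ (r : X) (N : ℕ), 3 ≤ N ∧ orderOf r = N ∧
      (∀ g, g ∉ Subgroup.zpowers r → orderOf g < N ∨ g ^ 2 = 1) ∧ Nat.card X = 2 * N := by
    rcases h with ⟨n, hn, ⟨e⟩⟩ | ⟨n, hn, hc, x, y, hx, hy, hrel⟩
    · refine ⟨e.symm (DihedralGroup.r 1), n, by omega, ?_, fun g hg => Or.inr ?_, ?_⟩
      · rw [MulEquiv.orderOf_eq]; exact DihedralGroup.orderOf_r_one
      · obtain ⟨d, rfl⟩ := e.symm.surjective g
        cases d with
        | r i =>
          refine absurd ?_ hg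
          haveI : NeZero n := ⟨by omega⟩
          refine Subgroup.mem_zpowers_iff.2 ⟨i.val, ?_⟩
          rw [← map_zpow, zpow_natCast, DihedralGroup.r_one_pow, ZMod.natCast_zmod_val]
        | sr i => rw [← map_pow, pow_two, DihedralGroup.sr_mul_self, map_one]
      · rw [Nat.card_congr e.toEquiv, DihedralGroup.nat_card]
    · refine ⟨x, 2 ^ n, ?_, hx, fun g hg => Or.inl ?_, by rw [hc, pow_succ']⟩
      · calc 3 ≤ 2 ^ 3 := by norm_num
          _ ≤ 2 ^ n := Nat.pow_le_pow_right two_pos hn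
      obtain ⟨n', rfl⟩ : ∃ n', n = n' + 1 := ⟨n - 1, by omega⟩
      simp only [Nat.add_sub_cancel] at hrel
      have hidx : (Subgroup.zpowers x).index = 2 := by
        have h1 := Subgroup.card_mul_index (Subgroup.zpowers x)
        rw [Nat.card_zpowers, hx, hc, pow_succ 2 (n' + 1)] at h1
        exact Nat.eq_of_mul_eq_mul_left (by positivity) h1
      have hyx : y ∉ Subgroup.zpowers x := by
        intro hyx
        obtain ⟨i, rfl⟩ := Subgroup.mem_zpowers_iff.1 hyx
        have e : x ^ i * x * (x ^ i)⁻¹ = x := by group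
        rw [e] at hrel
        have h1 : x ^ (2 ^ n' - 1) = x ^ 1 := by rw [pow_one]; exact hrel.symm
        rw [pow_eq_pow_iff_modEq, hx] at h1
        have h8 : 4 ≤ 2 ^ n' := by calc 4 = 2 ^ 2 := rfl
                                    _ ≤ 2 ^ n' := Nat.pow_le_pow_right two_pos (by omega)
        have := Nat.le_of_dvd (by omega) ((Nat.modEq_iff_dvd' (by omega)).1 h1.symm)
        rw [pow_succ] at this
        omega
      have hgy : g * y⁻¹ ∈ Subgroup.zpowers x := by
        rw [Subgroup.mul_mem_iff_of_index_two hidx]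
        exact iff_of_false hg (fun h => hyx (by simpa using inv_mem h))
      obtain ⟨i, hi⟩ := Subgroup.mem_zpowers_iff.1 hgy
      have hg' : g = x ^ i * y := by rw [hi, inv_mul_cancel_right]
      have hy2 : y * y = 1 := by rw [← pow_two, ← hy, pow_orderOf_eq_one]
      have hyi : y⁻¹ = y := inv_eq_of_mul_eq_one_right hy2
      have hsq : g ^ 2 = x ^ (i * ((2 ^ n' : ℕ) : ℤ)) := by
        have hz : y * x ^ i * y⁻¹ = (x ^ (2 ^ n' - 1)) ^ i := by rw [← hrel, conj_zpow]
        rw [hg', pow_two]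
        calc x ^ i * y * (x ^ i * y) = x ^ i * (y * x ^ i * y⁻¹) * (y * y) := by group
          _ = x ^ i * (x ^ (2 ^ n' - 1)) ^ i := by rw [hz, hy2, mul_one]
          _ = _ := by
            rw [← zpow_natCast x (2 ^ n' - 1), ← zpow_mul, ← zpow_add, Nat.cast_sub (Nat.one_le_two_pow)]
            congr 1; push_cast; ring
      have h4 : g ^ 4 = 1 := by
        rw [show (4 : ℕ) = 2 * 2 from rfl, pow_mul, hsq, ← zpow_natCast, ← zpow_mul,
          show i * ((2 ^ n' : ℕ) : ℤ) * ((2 : ℕ) : ℤ) = ((2 ^ (n' + 1) : ℕ) : ℤ) * i by push_cast; ring,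
          zpow_mul, zpow_natCast, ← hx, pow_orderOf_eq_one, one_zpow]
      calc orderOf g ≤ 4 := orderOf_le_of_pow_eq_one (by norm_num) h4
        _ < 2 ^ 3 := by norm_num
        _ ≤ 2 ^ (n' + 1) := Nat.pow_le_pow_right two_pos hn
  have hr2 : r ∈ Subgroup.zpowers r := Subgroup.mem_zpowers r
  rw [IsPGroup.iff_card]
  refine ⟨_, Nat.eq_prime_pow_of_unique_prime_dvd Nat.card_pos.ne' fun {q} hq hdvd => ?_⟩
  by_contra hq2
  haveI := Fact.mk hq
  obtain ⟨φ, hφ⟩ := exists_prime_orderOf_dvd_card' q hdvd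
  have hqodd : Odd q := hq.odd_of_ne_two hq2
  have hφr : φ r ∈ Subgroup.zpowers r := by
    by_contra h
    have ho : orderOf (φ r) = N := by rw [MulEquiv.orderOf_eq, hr]
    rcases hout _ h with h1 | h1
    · omega
    · have := orderOf_le_of_pow_eq_one two_pos h1
      omega
  obtain ⟨a, ha⟩ : ∃ a : ℕ, φ r = r ^ a := by
    classical
    obtain ⟨a, _, ha⟩ := (mem_zpowers_iff_mem_range_orderOf.1 hφr) |> Finset.mem_image.1
    exact ⟨a, ha.symm⟩
  have hpow : ∀ j : ℕ, (φ ^ j) r = r ^ (a ^ j) := by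
    intro j
    induction j with
    | zero => simp
    | succ j ih => rw [pow_succ', MulAut.mul_apply, ih, map_pow, ha, ← pow_mul, pow_succ, mul_comm]
  obtain ⟨k, hk⟩ : ∃ k, N = 2 ^ k := by
    obtain ⟨k, hk⟩ := h2.exists_orderOf_dvd_pow r
    rw [hr] at hk
    obtain ⟨i, -, hi⟩ := (Nat.dvd_prime_pow Nat.prime_two).1 hk
    exact ⟨i, hi⟩
  have hk1 : k ≠ 0 := by rintro rfl; simp at hk; omega
  have hfix : φ r = r := by
    have h1 : r ^ (a ^ q) = r ^ 1 := by rw [← hpow, ← hφ, pow_orderOf_eq_one, pow_one]; rfl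
    rw [pow_eq_pow_iff_modEq, hr, ← ZMod.natCast_eq_natCast_iff, Nat.cast_pow, Nat.cast_one] at h1
    have h2' : ((a : ℕ) : ZMod N) = 1 := by
      haveI : NeZero N := ⟨by omega⟩
      have hu : IsUnit ((a : ℕ) : ZMod N) := IsUnit.of_pow_eq_one h1 hq.ne_zero
      obtain ⟨u, hu⟩ := hu
      have hu1 : u ^ q = 1 := Units.ext (by rw [Units.val_pow_eq_pow_val, hu, h1]; rfl)
      have hcard : Nat.card (ZMod N)ˣ = 2 ^ (k - 1) := by
        rw [Nat.card_eq_fintype_card, ZMod.card_units_eq_totient, hk, Nat.totient_prime_pow Nat.prime_two (Nat.pos_of_ne_zero hk1)]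
        simp
      have hd1 : orderOf u ∣ q := orderOf_dvd_of_pow_eq_one hu1
      have hd2 : orderOf u ∣ 2 ^ (k - 1) := hcard ▸ orderOf_dvd_natCard u
      have : u = 1 := orderOf_eq_one_iff.1 (Nat.eq_one_of_dvd_coprimes ((hqodd.coprime_two_right).pow_right _) hd1 hd2)
      rw [← hu, this]; rfl
    rw [ha, ← pow_one r, ← pow_mul, one_mul, pow_eq_pow_iff_modEq, hr, ← ZMod.natCast_eq_natCast_iff]
    simpa using h2'
  have hfix' : ∀ c ∈ Subgroup.zpowers r, φ c = c := by
    intro c hc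
    obtain ⟨i, rfl⟩ := Subgroup.mem_zpowers_iff.1 hc
    rw [map_zpow, hfix]
  have hidx : (Subgroup.zpowers r).index = 2 := by
    have h1 := Subgroup.card_mul_index (Subgroup.zpowers r)
    rw [Nat.card_zpowers, hr, hcard, mul_comm 2 N] at h1
    exact Nat.eq_of_mul_eq_mul_left (by omega) h1
  have hone : φ = 1 := by
    ext g
    by_cases hg : g ∈ Subgroup.zpowers r
    · exact hfix' g hg
    have hc : g⁻¹ * φ g ∈ Subgroup.zpowers r := by
      rw [Subgroup.mul_mem_iff_of_index_two hidx]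
      refine iff_of_false (fun h => hg (by simpa using inv_mem h)) (fun h => hg ?_)
      have h' : φ (φ g) = φ g := hfix' _ h
      rwa [φ.injective h'] at h
    set c := g⁻¹ * φ g with hcdef
    have hφg : φ g = g * c := by rw [hcdef, mul_inv_cancel_left]
    have hpowg : ∀ j : ℕ, (φ ^ j) g = g * c ^ j := by
      intro j
      induction j with
      | zero => simp
      | succ j ih => rw [pow_succ', MulAut.mul_apply, ih, map_mul, map_pow, hfix' c hc, hφg, pow_succ', mul_assoc]
    have hcq : c ^ q = 1 := by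
      have := hpowg q
      rw [← hφ, pow_orderOf_eq_one, MulAut.one_apply, hφ] at this
      exact mul_left_cancel (a := g) (by rw [← this, mul_one])
    obtain ⟨i, hi⟩ := h2.exists_orderOf_dvd_pow c
    have hc1 : c = 1 := orderOf_eq_one_iff.1 (Nat.eq_one_of_dvd_coprimes ((hqodd.coprime_two_right).pow_right _) (orderOf_dvd_of_pow_eq_one hcq) hi)
    rw [hφg, hc1, mul_one]; rfl
  rw [hone, orderOf_one] at hφ
  exact hq.one_lt.ne hφ

end Cfsg.Agent.S3116
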