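import Cfsg.Statements.S3125
import Mathlib.GroupTheory.PGroup
import Cfsg.Agent.S1992

set_option autoImplicit false
open Cfsg

namespace Cfsg.Agent.S3125

/-- Let G be a finite group such that, for every prime p dividing the order of G, every Sylow p-subgroup of G is its own normalizer. Then G is not a non-abelian simple group. -/
theorem result {G : Type*} [Group G] [Finite G]
    (h : ∀ p : ℕ, p.Prime → p ∣ Nat.card G → ∀ P : Sylow p G, Subgroup.normalizer ((P : Subgroup G) : Set G) = P) :
    ¬ (IsSimpleGroup G ∧ ¬ IsMulCommutative G) := by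
  rintro ⟨hs, hne⟩
  obtain ⟨q, hq, hG⟩ := Cfsg.Agent.S1992.result h
  haveI : Fact q.Prime := ⟨hq⟩
  haveI : Nontrivial G := hs.toNontrivial
  haveI := hG.center_nontrivial
  rcases Subgroup.Normal.eq_bot_or_eq_top (inferInstance : (Subgroup.center G).Normal) with hb | ht
  · exact absurd hb (Subgroup.nontrivial_iff_ne_bot _ |>.1 inferInstance)
  · exact hne ⟨⟨fun a b => (Subgroup.mem_center_iff.1 (ht ▸ Subgroup.mem_top b) a)⟩⟩

end Cfsg.Agent.S3125
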