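import Cfsg.Statements.S3154
import Cfsg.Agent.Lib.Invol.L34Covers

set_option autoImplicit false
open Cfsg

namespace Cfsg.Agent.S3154

/-- Let X be a finite quasisimple group whose centre is an elementary abelian 2-group and whose central quotient is isomorphic to the projective special linear group of dimension 3 over the field with 4 elements. Let T be a Sylow 2-subgroup of X and H ≠ K subgroups of T containing the centre Z(X) whose images in X/Z(X) are elementary abelian of order 16 (the two such subgroups of a Sylow 2-subgroup of the quotient). Then H and K are elementary abelian, H ∩ K is the centre of the subgroup they generate, and each of N_X(H), N_X(K) is a split extension of H, respectively K, by the projective special linear group of dimension 2 over the field with 4 elements (there is a complement isomorphic to that group). -/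
theorem result {X : Type*} [Group X] [Finite X] (hq : Cfsg.IsQuasisimple X) (hZ : Cfsg.IsElementaryAbelian 2 (Subgroup.center X))
    {F : Type*} [Field F] [Fintype F] (hF : Fintype.card F = 4) (hXL : Nonempty ((X ⧸ Subgroup.center X) ≃* Matrix.ProjectiveSpecialLinearGroup (Fin 3) F))
    (T : Sylow 2 X) (H K : Subgroup X) (hHK : H ≠ K) (hHT : H ≤ T) (hKT : K ≤ T) (hZH : Subgroup.center X ≤ H) (hZK : Subgroup.center X ≤ K)
    (hH : Cfsg.IsElementaryAbelian 2 (H.map (QuotientGroup.mk' (Subgroup.center X))) ∧ Nat.card ↥(H.map (QuotientGroup.mk' (Subgroup.center X))) = 16)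
    (hK : Cfsg.IsElementaryAbelian 2 (K.map (QuotientGroup.mk' (Subgroup.center X))) ∧ Nat.card ↥(K.map (QuotientGroup.mk' (Subgroup.center X))) = 16) :
    Cfsg.IsElementaryAbelian 2 H ∧ Cfsg.IsElementaryAbelian 2 K ∧
      H ⊓ K = (Subgroup.center ↥(H ⊔ K)).map (H ⊔ K).subtype ∧
      (∃ C : Subgroup X, C ≤ Subgroup.normalizer (H : Set X) ∧ C ⊓ H = ⊥ ∧ H ⊔ C = Subgroup.normalizer (H : Set X) ∧
        Nonempty (↥C ≃* Matrix.ProjectiveSpecialLinearGroup (Fin 2) F)) ∧
      (∃ C : Subgroup X, C ≤ Subgroup.normalizer (K : Set X) ∧ C ⊓ K = ⊥ ∧ K ⊔ C = Subgroup.normalizer (K : Set X) ∧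
        Nonempty (↥C ≃* Matrix.ProjectiveSpecialLinearGroup (Fin 2) F)) := by
  have hker : ∀ z ∈ (QuotientGroup.mk' (Subgroup.center X)).ker, z ∈ Subgroup.center X := fun z hz => by
    rwa [QuotientGroup.ker_mk'] at hz
  obtain ⟨e⟩ := hXL
  let p : X →* Matrix.ProjectiveSpecialLinearGroup (Fin 3) F :=
    e.toMonoidHom.comp (QuotientGroup.mk' (Subgroup.center X))
  have hpk : p.ker = Subgroup.center X := by
    ext x
    rw [MonoidHom.mem_ker]
    show e (QuotientGroup.mk' (Subgroup.center X) x) = 1 ↔ _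
    rw [EmbeddingLike.map_eq_one_iff, QuotientGroup.mk'_apply, QuotientGroup.eq_one_iff]
  have himg : ∀ {A : Subgroup X},
      Cfsg.IsElementaryAbelian 2 (A.map (QuotientGroup.mk' (Subgroup.center X))) ∧
        Nat.card ↥(A.map (QuotientGroup.mk' (Subgroup.center X))) = 16 →
      (∀ x ∈ A.map p, x * x = 1) ∧ Nat.card (A.map p) = 16 := by
    intro A hA
    rw [show A.map p = (A.map (QuotientGroup.mk' (Subgroup.center X))).map e.toMonoidHom from
      (Subgroup.map_map A e.toMonoidHom (QuotientGroup.mk' (Subgroup.center X))).symm]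
    refine ⟨?_, by rw [Subgroup.card_map_of_injective e.injective]; exact hA.2⟩
    rintro _ ⟨y, hy, rfl⟩
    show e y * e y = 1
    rw [← map_mul, ← pow_two, hA.1.2 y hy, map_one]
  obtain ⟨hA, hB, hc, ⟨C, hC1, hC2, hC3, ⟨eC⟩⟩, ⟨D, hD1, hD2, hD3, ⟨eD⟩⟩⟩ :=
    CfsgLib.Invol.L34Covers.main (p := p) hF (e.surjective.comp (QuotientGroup.mk'_surjective _))
      (fun z hz x => (Subgroup.mem_center_iff.1 (hpk ▸ hz) x).symm)
      (fun z hz => by rw [← pow_two]; exact hZ.2 z (hpk ▸ hz))
      T H K hHK hHT hKT (hpk ▸ hZH) (hpk ▸ hZK) (himg hH) (himg hK)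
  obtain ⟨e2⟩ := CfsgLib.Invol.L34Covers.sl_two_equiv_psl hF
  exact ⟨⟨⟨⟨fun a b => Subtype.ext (hA.2 a a.2 b b.2)⟩⟩, fun a ha => by rw [pow_two]; exact hA.1 a ha⟩,
    ⟨⟨⟨fun a b => Subtype.ext (hB.2 a a.2 b b.2)⟩⟩, fun a ha => by rw [pow_two]; exact hB.1 a ha⟩,
    hc, ⟨C, hC1, hC2, hC3, ⟨eC.trans e2⟩⟩, ⟨D, hD1, hD2, hD3, ⟨eD.trans e2⟩⟩⟩

end Cfsg.Agent.S3154
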