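import Cfsg.Statements.S3155
import Mathlib.Tactic

set_option autoImplicit false
open Cfsg

namespace Cfsg.Agent.S3155

/-- Let B be the direct product of three cyclic groups of order 4. Then the automorphism of B inverting every element is not the square of any automorphism of B. -/
theorem result {B : Type*} [CommGroup B] [Finite B] (hB : Nonempty (B ≃* Multiplicative (ZMod 4 × ZMod 4 × ZMod 4)))
    (τ : B ≃* B) : τ.trans τ ≠ MulEquiv.inv B := by
  obtain ⟨e⟩ := hB
  intro h
  let a : (ZMod 4 × ZMod 4 × ZMod 4) →+ (ZMod 4 × ZMod 4 × ZMod 4) :=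
    { toFun := fun v => Multiplicative.toAdd (e (τ (e.symm (Multiplicative.ofAdd v))))
      map_zero' := by simp
      map_add' := fun u v => by simp [ofAdd_add, map_mul] }
  have ha : ∀ v, a (a v) = -v := by
    intro v
    have h' := congrArg (fun (f : B ≃* B) => f (e.symm (Multiplicative.ofAdd v))) h
    simp only [MulEquiv.trans_apply, MulEquiv.inv_apply] at h'
    simp [a, h']
  let L := a.toZModLinearMap 4
  have hL : L.comp L = (-1 : ZMod 4) • LinearMap.id := LinearMap.ext fun v => by simpa [L] using ha v
  have hd := congrArg LinearMap.det hL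
  rw [LinearMap.det_comp, LinearMap.det_smul, LinearMap.det_id, mul_one] at hd
  haveI : Fact (1 < 4) := ⟨by norm_num⟩
  rw [show Module.finrank (ZMod 4) (ZMod 4 × ZMod 4 × ZMod 4) = 3 by simp] at hd
  revert hd
  generalize LinearMap.det L = d
  revert d
  decide

end Cfsg.Agent.S3155
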