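import Cfsg.Statements.S3156
import Cfsg.Agent.Lib.InvChar.UnitarySylowThree

set_option autoImplicit false
open Cfsg

namespace Cfsg.Agent.S3156

/-- If a finite group T is isomorphic to a Sylow 2-subgroup of the projective special unitary group of dimension 3 with parameter 4 (realised over the field with 16 elements), then no subgroup of the automorphism group of T is isomorphic to the symmetric group of degree 3. -/
theorem result {T : Type*} [Group T] [Finite T] (hT : (∃ (F : Type) (_ : Field F) (_ : Fintype F), Fintype.card F = 16 ∧ ∃ S : Sylow 2 (Cfsg.PSU 3 F 4), Nonempty (T ≃* ↥(S : Subgroup (Cfsg.PSU 3 F 4))))) (H : Subgroup (MulAut T)) : ¬ Nonempty (↥H ≃* Equiv.Perm (Fin 3)) := by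
  obtain ⟨F, iF, iFt, hF, S, ⟨e⟩⟩ := hT
  have h2 : (2 : F) = 0 := by
    have h0 : ((Fintype.card F : ℕ) : F) = 0 := FiniteField.cast_card_eq_zero F
    rw [hF, show (16 : ℕ) = 2 ^ 4 by rfl, Nat.cast_pow] at h0
    exact (pow_eq_zero_iff (by norm_num)).1 h0
  let h : CfsgLib.Chev.PSUSyl.QField F := ⟨2, le_rfl, by rw [hF]; rfl, h2⟩
  obtain ⟨e'⟩ := CfsgLib.Chev.PSUSyl.QField.UQ.sylow_equiv (h := h) S
  rintro ⟨ψ⟩
  let f : Equiv.Perm (Fin 3) →* MulAut h.UQ :=
    ((MulAut.congr (e.trans e')).toMonoidHom.comp H.subtype).comp ψ.symm.toMonoidHom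
  have hf : Function.Injective f :=
    ((MulAut.congr (e.trans e')).injective.comp H.subtype_injective).comp ψ.symm.injective
  set x : Equiv.Perm (Fin 3) := finRotate 3 with hx
  set y : Equiv.Perm (Fin 3) := Equiv.swap 0 1 with hy
  have hyy : y * y = 1 := Equiv.swap_mul_self 0 1
  have hxx : x ^ 3 = 1 := by rw [hx]; decide
  have hyx : y * x * y = x * x := by rw [hx, hy]; decide
  have hfy : ∀ z : h.UQ, f y (f y z) = z := fun z => by
    rw [← MulAut.mul_apply, ← map_mul, hyy, map_one, MulAut.one_apply]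
  have hyfix := CfsgLib.InvChar.UnitarySylow.aut_fix_center h (f y) (fun z => by rw [hfy])
    (fun z _ => hfy z)
  have h3 : f x ^ 3 = 1 := by rw [← map_pow, hxx, map_one]
  have hxfix : ∀ z : h.UQ, z.a = 0 → f x z = z := by
    intro z hz
    have hcen : ∀ w : h.UQ, w.a = 0 → (f x w).a = 0 := by
      intro w hw
      rw [← CfsgLib.Chev.PSUSyl.QField.UQ.mem_center_iff, Subgroup.mem_center_iff]
      intro v
      obtain ⟨v, rfl⟩ := (f x).surjective v
      rw [← map_mul, ← map_mul, Subgroup.mem_center_iff.1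
        (CfsgLib.Chev.PSUSyl.QField.UQ.mem_center_iff.2 hw) v]
    have e1 := congrArg (fun g : MulAut h.UQ => g z) (congrArg f hyx)
    simp only [map_mul, MulAut.mul_apply] at e1
    rw [hyfix z hz, hyfix _ (hcen z hz)] at e1
    exact ((f x).injective e1).symm
  have h1 := CfsgLib.InvChar.UnitarySylow.aut_eq_one_of_fix_center h
    (show Nat.Coprime 3 (2 ^ 2 + 1) by decide) (f x) h3 hxfix
  have h4 : x = 1 := hf (h1.trans (map_one f).symm)
  exact absurd h4 (by rw [hx]; decide)

end Cfsg.Agent.S3156
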