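import Cfsg.Statements.S3157
import Cfsg.Agent.Lib.InvChar.FpfThreeModel
import Cfsg.Agent.Lib.Fusion.SLThreeCore
import Cfsg.Agent.Lib.Classical.SLOrder

set_option autoImplicit false
open Cfsg

namespace Cfsg.Agent.S3157

/-- Let T be a non-abelian group of order 64 admitting automorphisms ρ of order 3 and x of order 2 with x ρ x⁻¹ = ρ⁻¹ (so they generate a symmetric group of degree 3), where ρ fixes only the identity. Then T is isomorphic to a Sylow 2-subgroup of the projective special linear group of dimension 3 over the field with 4 elements, and the subgroup of fixed points of x is dihedral of order 8 or quaternion of order 8. -/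
theorem result {T : Type*} [Group T] [Finite T] (hT : Nat.card T = 64) (hna : ¬ IsMulCommutative T) (ρ x : MulAut T) (hρ : orderOf ρ = 3) (hx : orderOf x = 2)
    (hxr : x * ρ * x⁻¹ = ρ⁻¹) (hfp : ∀ y : T, ρ y = y → y = 1) (C : Subgroup T) (hC : ∀ y : T, y ∈ C ↔ x y = y) :
    (∃ (F : Type) (_ : Field F) (_ : Fintype F), Fintype.card F = 4 ∧
        ∃ S : Sylow 2 (Matrix.ProjectiveSpecialLinearGroup (Fin 3) F), Nonempty (T ≃* ↥(S : Subgroup (Matrix.ProjectiveSpecialLinearGroup (Fin 3) F)))) ∧
      (Nonempty (↥C ≃* DihedralGroup 4) ∨ Nonempty (↥C ≃* QuaternionGroup 2)) := by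
  classical
  haveI : Fact (Nat.Prime 2) := ⟨Nat.prime_two⟩
  let F := GaloisField 2 2
  haveI : Fintype F := Fintype.ofFinite F
  have hF : Fintype.card F = 4 := by
    rw [← Nat.card_eq_fintype_card, GaloisField.card 2 2 (by norm_num)]; norm_num
  -- the model
  let U := CfsgLib.Fusion.SLUni.U F 3
  let el : F → F → F → ↥U := fun a b c => CfsgLib.Fusion.SLThree.el a b c
  have hel : ∀ a b c a' b' c', el a b c * el a' b' c' = el (a + a') (b + b') (c + c' + a * b') :=
    CfsgLib.Fusion.SLThree.el_mul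
  have hsur : ∀ m : ↥U, ∃ a b c, el a b c = m := fun m => ⟨_, _, _, (CfsgLib.Fusion.SLThree.el_eq m).symm⟩
  have hcM : Nat.card ↥U = 64 := by
    have hb : Function.Bijective fun p : F × F × F => el p.1 p.2.1 p.2.2 := by
      refine ⟨fun p q e => ?_, fun m => ?_⟩
      · obtain ⟨e1, e2, e3⟩ := CfsgLib.Fusion.SLThree.el_inj e
        exact Prod.ext e1 (Prod.ext e2 e3)
      · obtain ⟨a, b, c, e⟩ := hsur m
        exact ⟨(a, b, c), e⟩
    rw [← Nat.card_eq_of_bijective _ hb, Nat.card_prod, Nat.card_prod, Nat.card_eq_fintype_card, hF]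
  -- the setting
  have h3 : ∀ y, ρ (ρ (ρ y)) = y := fun y => by
    have e := congrArg (fun f : MulAut T => f y) (pow_orderOf_eq_one ρ)
    rw [hρ, pow_succ, pow_succ, pow_one] at e
    exact e
  have hxx : ∀ y, x (x y) = y := fun y => by
    have e := congrArg (fun f : MulAut T => f y) (pow_orderOf_eq_one x)
    rw [hx, pow_two] at e
    exact e
  have hxr' : ∀ y, x (ρ y) = ρ (ρ (x y)) := fun y => by
    have hinv : ρ⁻¹ = ρ * ρ := inv_eq_of_mul_eq_one_right (MulEquiv.ext fun z => h3 z)
    have e : x * ρ = ρ * ρ * x := by rw [← hinv, ← hxr, inv_mul_cancel_right]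
    exact congrArg (fun f : MulAut T => f y) e
  have hS : CfsgLib.InvChar.FpfThree.Setup ρ := ⟨hT, by
    by_contra hno
    push Not at hno
    exact hna ⟨⟨hno⟩⟩, h3, hfp⟩
  obtain ⟨⟨e⟩, hCC⟩ := hS.classify x hxx hxr' C hC hF el hel hsur hcM
  refine ⟨⟨F, inferInstance, inferInstance, hF, ?_⟩, hCC⟩
  -- a Sylow subgroup
  haveI : Nonempty (Fin 3) := ⟨0⟩
  let π : Matrix.SpecialLinearGroup (Fin 3) F →* Matrix.ProjectiveSpecialLinearGroup (Fin 3) F :=
    QuotientGroup.mk' _
  have hcen : Nat.card ↥(Subgroup.center (Matrix.SpecialLinearGroup (Fin 3) F)) = 3 := by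
    rw [CfsgLib.Classical.card_center_sl, Fintype.card_fin, hF]; rfl
  have hinj : Function.Injective (π.comp U.subtype) := by
    rw [injective_iff_map_eq_one]
    intro m hm
    have hmc : (m : Matrix.SpecialLinearGroup (Fin 3) F) ∈ Subgroup.center _ :=
      (QuotientGroup.eq_one_iff _).1 hm
    have h1 : orderOf (m : Matrix.SpecialLinearGroup (Fin 3) F) ∣ 64 := by
      rw [Subgroup.orderOf_coe, ← hcM]; exact orderOf_dvd_natCard m
    have h2 : orderOf (m : Matrix.SpecialLinearGroup (Fin 3) F) ∣ 3 := by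
      have := orderOf_dvd_natCard (⟨_, hmc⟩ : ↥(Subgroup.center (Matrix.SpecialLinearGroup (Fin 3) F)))
      rwa [hcen, ← Subgroup.orderOf_coe] at this
    exact Subtype.ext (orderOf_eq_one_iff.1
      (Nat.eq_one_of_dvd_coprimes (by norm_num : Nat.Coprime 64 3) h1 h2))
  have hcard : Nat.card (Matrix.ProjectiveSpecialLinearGroup (Fin 3) F) = 20160 := by
    have := CfsgLib.Classical.card_psl_mul (F := F) (n := 3) (by norm_num)
    rw [hF, Fin.prod_univ_three] at this
    norm_num [-Nat.card_eq_fintype_card] at this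
    omega
  have hR : Nat.card ↥(π.comp U.subtype).range = 64 := by
    rw [← Nat.card_congr (MonoidHom.ofInjective hinj).toEquiv, hcM]
  have hp : IsPGroup 2 ↥(π.comp U.subtype).range := IsPGroup.of_card (n := 6) (by rw [hR]; norm_num)
  have hidx : ¬ 2 ∣ (π.comp U.subtype).range.index := by
    have := (π.comp U.subtype).range.card_mul_index
    rw [hR, hcard] at this
    omega
  exact ⟨hp.toSylow hidx, ⟨(e.symm.trans (MonoidHom.ofInjective hinj)).trans
    (MulEquiv.subgroupCongr rfl)⟩⟩

end Cfsg.Agent.S3157
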