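import Cfsg.Statements.S3158
import Cfsg.Agent.Lib.InvChar.Basic

set_option autoImplicit false
open Cfsg

namespace Cfsg.Agent.S3158

/-- Let U be a group of order q² with q = 2^n ≥ 2, and y an automorphism of U of order q − 1 all of whose nontrivial powers fix only the identity. Let V be a proper normal y-invariant subgroup of U such that V and U/V are elementary abelian 2-groups and there is an isomorphism from V to U/V commuting with the actions of y. Then U is abelian. -/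
theorem result {U : Type*} [Group U] [Finite U] (n : ℕ) (hn : 1 ≤ n) (hU : Nat.card U = (2 ^ n) ^ 2)
    (y : MulAut U) (hy : orderOf y = 2 ^ n - 1) (hfp : ∀ k : ℕ, y ^ k ≠ 1 → ∀ u : U, (y ^ k) u = u → u = 1)
    (V : Subgroup U) [V.Normal] (hV : V ≠ ⊤) (hyV : ∀ v ∈ V, y v ∈ V)
    (hVe : ∀ v ∈ V, v ^ 2 = 1) (hQe : ∀ u : U, u ^ 2 ∈ V) (hQc : ∀ u w : U, u * w * u⁻¹ * w⁻¹ ∈ V)
    (φ : ↥V ≃* U ⧸ V) (hφ : ∀ (v : ↥V) (u : U), (QuotientGroup.mk u : U ⧸ V) = φ v → φ ⟨y v, hyV v v.2⟩ = QuotientGroup.mk (y u)) :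
    IsMulCommutative U := by
  classical
  -- `V` is nontrivial and both factors have order `2 ^ n`
  have hVQ : Nat.card ↥V = Nat.card (U ⧸ V) := Nat.card_congr φ.toEquiv
  have hcV : Nat.card ↥V = 2 ^ n := by
    have h := Subgroup.card_eq_card_quotient_mul_card_subgroup V
    rw [hU, ← hVQ, sq] at h
    exact (Nat.mul_self_inj.1 h).symm
  have hcQ : Nat.card (U ⧸ V) = 2 ^ n := hVQ.symm.trans hcV
  -- powers of `y`
  have hyk : ∀ (k : ℕ), ∀ v ∈ V, (y ^ k) v ∈ V := by
    intro k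
    induction k with
    | zero => intro v hv; simpa using hv
    | succ k ih => intro v hv; rw [pow_succ', MulAut.mul_apply]; exact hyV _ (ih v hv)
  have hφk : ∀ (k : ℕ) (v : ↥V) (u : U), (QuotientGroup.mk u : U ⧸ V) = φ v →
      φ ⟨(y ^ k) v, hyk k v v.2⟩ = QuotientGroup.mk ((y ^ k) u) := by
    intro k
    induction k with
    | zero => intro v u h; simpa using h.symm
    | succ k ih =>
      intro v u h
      have h' := hφ ⟨(y ^ k) v, hyk k v v.2⟩ ((y ^ k) u) (ih v u h).symm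
      simp only [pow_succ', MulAut.mul_apply] at h' ⊢
      exact h'
  have hyq : ∀ (k : ℕ) (u w : U), (QuotientGroup.mk u : U ⧸ V) = QuotientGroup.mk w →
      (QuotientGroup.mk ((y ^ k) u) : U ⧸ V) = QuotientGroup.mk ((y ^ k) w) := by
    intro k u w h
    rw [QuotientGroup.eq] at h ⊢
    rw [← map_inv, ← map_mul]
    exact hyk k _ h
  -- fixed-point-freeness on both factors
  have hfixV : ∀ (k : ℕ) (v : U), v ∈ V → v ≠ 1 → (y ^ k) v = v → y ^ k = 1 := fun k v _ h1 h =>
    by_contra fun hk => h1 (hfp k hk v h)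
  have hfixQ : ∀ (k : ℕ) (u : U), (QuotientGroup.mk u : U ⧸ V) ≠ 1 →
      (QuotientGroup.mk ((y ^ k) u) : U ⧸ V) = QuotientGroup.mk u → y ^ k = 1 := by
    intro k u hu h
    obtain ⟨v, hv⟩ := φ.surjective (QuotientGroup.mk u)
    refine hfixV k v v.2 (fun h1 => hu ?_) (congrArg Subtype.val (φ.injective
      ((hφk k v u hv.symm).trans (h.trans hv.symm))))
    rw [← hv, OneMemClass.coe_eq_one.1 h1, map_one]
  have hpow : y ^ (2 ^ n - 1) = 1 := hy ▸ pow_orderOf_eq_one y
  have hN : 0 < 2 ^ n - 1 := by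
    have := Nat.one_lt_two_pow_iff.2 (by omega : n ≠ 0); omega
  -- transitivity on a set with `2 ^ n` elements, one of them fixed
  have htrans : ∀ {W : Type _} [Finite W] (o : W) (f : Fin (2 ^ n - 1) → W), Nat.card W = 2 ^ n →
      (∀ i, f i ≠ o) → Function.Injective f → ∀ w, w ≠ o → ∃ i, f i = w := by
    intro W _ o f hcard hne hinj w hw
    have hb : Function.Bijective (fun i => (⟨f i, hne i⟩ : {w : W // w ≠ o})) := by
      refine (Nat.bijective_iff_injective_and_card _).2 ⟨fun i j h => hinj (congrArg Subtype.val h), ?_⟩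
      rw [Nat.card_fin]
      haveI := Fintype.ofFinite W
      rw [Nat.card_eq_fintype_card, Fintype.card_subtype_compl, Fintype.card_subtype_eq,
        ← Nat.card_eq_fintype_card, hcard]
    obtain ⟨i, hi⟩ := hb.2 ⟨w, hw⟩
    exact ⟨i, congrArg Subtype.val hi⟩
  have hexp : ∀ i j : Fin (2 ^ n - 1), y ^ (i : ℕ) = y ^ (j : ℕ) → i = j := by
    intro i j h
    exact Fin.ext (pow_injOn_Iio_orderOf (by simp [hy, i.2]) (by simp [hy, j.2]) h)
  -- `V` is central
  have hVc : ∀ v ∈ V, ∀ u : U, u * v = v * u := by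
    have hp : IsPGroup 2 U := IsPGroup.of_card (n := n * 2) (by rw [hU, pow_mul])
    have hVb : V ≠ ⊥ := by
      intro h
      rw [h, Subgroup.card_bot] at hcV
      have := Nat.one_lt_two_pow_iff.2 (by omega : n ≠ 0); omega
    obtain ⟨z, hzV, hz1, hzc⟩ := CfsgLib.InvChar.exists_mem_center_of_normal hp V hVb
    let f : Fin (2 ^ n - 1) → ↥V := fun i => ⟨(y ^ (i : ℕ)) z, hyk i z hzV⟩
    have hf1 : ∀ i, f i ≠ 1 := fun i h => hz1 ((map_eq_one_iff _ (y ^ (i : ℕ)).injective).1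
      (congrArg Subtype.val h))
    have hfi : Function.Injective f := by
      intro i j h
      have h' : (y ^ (i : ℕ)) z = (y ^ (j : ℕ)) z := congrArg Subtype.val h
      have aux : ∀ a b : ℕ, a ≤ b → (y ^ a) z = (y ^ b) z → y ^ a = y ^ b := by
        intro a b hab hz
        obtain ⟨c, rfl⟩ := Nat.exists_eq_add_of_le hab
        rw [pow_add, MulAut.mul_apply] at hz
        rw [pow_add, hfixV c z hzV hz1 ((y ^ a).injective hz).symm, mul_one]
      rcases le_total (i : ℕ) j with hij | hij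
      · exact hexp i j (aux _ _ hij h')
      · exact hexp i j (aux _ _ hij h'.symm).symm
    intro v hv u
    by_cases h1 : v = 1
    · simp [h1]
    · obtain ⟨i, hi⟩ := htrans (1 : ↥V) f hcV hf1 hfi ⟨v, hv⟩ (fun h => h1 (congrArg Subtype.val h))
      have hi' : (y ^ (i : ℕ)) z = v := congrArg Subtype.val hi
      obtain ⟨u', rfl⟩ := (y ^ (i : ℕ)).surjective u
      rw [← hi', ← map_mul, ← map_mul, Subgroup.mem_center_iff.1 hzc u']
  -- the commutator pairing
  let c : U → U → U := fun u w => u * w * u⁻¹ * w⁻¹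
  have hcmem : ∀ u w, c u w ∈ V := hQc
  have hcinv : ∀ u w, c w u = c u w := by
    intro u w
    have e : c w u = (c u w)⁻¹ := by simp only [c]; group
    rw [e, inv_eq_of_mul_eq_one_left (pow_two (c u w) ▸ hVe _ (hcmem u w))]
  have hcmul : ∀ u w w', c u (w * w') = c u w * c u w' := by
    intro u w w'
    have e : c u (w * w') = c u w * (w * c u w' * w⁻¹) := by simp only [c]; group
    rw [e, hVc _ (hcmem u w') w, mul_inv_cancel_right]
  have hcV1 : ∀ u, ∀ v ∈ V, c u v = 1 := by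
    intro u v hv
    simp only [c, hVc v hv u]; group
  have hcq : ∀ u w w', (QuotientGroup.mk w : U ⧸ V) = QuotientGroup.mk w' → c u w = c u w' := by
    intro u w w' h
    rw [QuotientGroup.eq] at h
    conv_rhs => rw [← mul_inv_cancel_left w w']
    rw [hcmul, hcV1 u _ h, mul_one]
  have hcy : ∀ (k : ℕ) u w, (y ^ k) (c u w) = c ((y ^ k) u) ((y ^ k) w) := by
    intro k u w; simp only [c, map_mul, map_inv]
  -- `a` commutes with everything
  suffices hkey : ∀ a u : U, c a u = 1 by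
    refine ⟨⟨fun u w => ?_⟩⟩
    have := hkey u w
    simp only [c] at this
    rw [mul_inv_eq_one, mul_inv_eq_iff_eq_mul] at this
    exact this
  intro a u
  by_cases ha : (QuotientGroup.mk a : U ⧸ V) = 1
  · rw [hcinv u a]; exact hcV1 u a ((QuotientGroup.eq_one_iff a).1 ha)
  let f : Fin (2 ^ n - 1) → U ⧸ V := fun i => QuotientGroup.mk ((y ^ (i : ℕ)) a)
  have hf1 : ∀ i, f i ≠ 1 := fun i h => ha ((QuotientGroup.eq_one_iff a).2 (by
    have h' := (QuotientGroup.eq_one_iff _).1 h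
    have e : (y ^ ((2 ^ n - 1) - (i : ℕ))) ((y ^ (i : ℕ)) a) = a := by
      rw [← MulAut.mul_apply, ← pow_add, Nat.sub_add_cancel i.2.le, hpow, MulAut.one_apply]
    exact e ▸ hyk _ _ h'))
  have hfi : Function.Injective f := by
    intro i j h
    have aux : ∀ p q : ℕ, p ≤ q → (QuotientGroup.mk ((y ^ p) a) : U ⧸ V) = QuotientGroup.mk ((y ^ q) a) →
        q < 2 ^ n - 1 → y ^ p = y ^ q := by
      intro p q hpq hq hlt
      obtain ⟨d, rfl⟩ := Nat.exists_eq_add_of_le hpq
      have h2 := hyq (2 ^ n - 1 - p) _ _ hq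
      rw [← MulAut.mul_apply, ← MulAut.mul_apply, ← pow_add, ← pow_add,
        Nat.sub_add_cancel (by omega), ← add_assoc, Nat.sub_add_cancel (by omega), pow_add, hpow,
        one_mul, MulAut.one_apply] at h2
      rw [pow_add, hfixQ d a ha h2.symm, mul_one]
    rcases le_total (i : ℕ) j with hij | hij
    · exact hexp i j (aux _ _ hij h j.2)
    · exact hexp i j (aux _ _ hij h.symm i.2).symm
  have hsurj := htrans (1 : U ⧸ V) f hcQ hf1 hfi
  -- the linear relation lifted to `V`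
  have hrel : ∀ k m : ℕ, (QuotientGroup.mk ((y ^ k) a * (y ^ m) a) : U ⧸ V) = QuotientGroup.mk a →
      ∀ v ∈ V, (y ^ k) v * (y ^ m) v = v := by
    intro k m h v hv
    obtain ⟨w, hw⟩ := QuotientGroup.mk_surjective (φ ⟨v, hv⟩)
    have hall : (QuotientGroup.mk ((y ^ k) w * (y ^ m) w) : U ⧸ V) = QuotientGroup.mk w := by
      by_cases hw1 : (QuotientGroup.mk w : U ⧸ V) = 1
      · have hk := (QuotientGroup.eq_one_iff w).1 hw1
        rw [hw1]; exact (QuotientGroup.eq_one_iff _).2 (mul_mem (hyk k w hk) (hyk m w hk))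
      · obtain ⟨i, hi⟩ := hsurj _ hw1
        replace hi : (QuotientGroup.mk ((y ^ (i : ℕ)) a) : U ⧸ V) = QuotientGroup.mk w := hi
        have h2 := hyq i _ _ h
        rw [map_mul, ← MulAut.mul_apply, ← MulAut.mul_apply, ← pow_add, ← pow_add] at h2
        rw [QuotientGroup.mk_mul, ← hyq k _ _ hi, ← hyq m _ _ hi, ← MulAut.mul_apply,
          ← MulAut.mul_apply, ← pow_add, ← pow_add, add_comm k, add_comm m, ← QuotientGroup.mk_mul,
          h2, ← hi]
    have h3 : φ (⟨(y ^ k) v, hyk k v hv⟩ * ⟨(y ^ m) v, hyk m v hv⟩) = φ ⟨v, hv⟩ := by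
      rw [map_mul, hφk k ⟨v, hv⟩ w hw, hφk m ⟨v, hv⟩ w hw, ← QuotientGroup.mk_mul, hall, hw]
    exact congrArg Subtype.val (φ.injective h3)
  -- Hua's identity
  have hsq : ∀ k : ℕ, c a ((y ^ (k + k)) a) = 1 := by
    intro k
    set s := (y ^ k) a with hs
    by_cases hs1 : (QuotientGroup.mk s : U ⧸ V) = QuotientGroup.mk a
    · have hk1 : y ^ k = 1 := hfixQ k a ha hs1
      rw [pow_add, hk1, one_mul, MulAut.one_apply]
      simp only [c]; group
    have hne : (QuotientGroup.mk (s⁻¹ * a) : U ⧸ V) ≠ 1 := fun h =>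
      hs1 ((QuotientGroup.eq).2 ((QuotientGroup.eq_one_iff _).1 h))
    obtain ⟨i, hi⟩ := hsurj _ hne
    replace hi : (QuotientGroup.mk ((y ^ (i : ℕ)) a) : U ⧸ V) = QuotientGroup.mk (s⁻¹ * a) := hi
    set m : ℕ := (i : ℕ) with hm
    have hkm : (QuotientGroup.mk ((y ^ k) a * (y ^ m) a) : U ⧸ V) = QuotientGroup.mk a := by
      rw [QuotientGroup.mk_mul, hi, ← QuotientGroup.mk_mul, mul_inv_cancel_left]
    have hcomm : ∀ p q : U ⧸ V, p * q = q * p := by
      intro p q
      obtain ⟨p, rfl⟩ := QuotientGroup.mk_surjective p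
      obtain ⟨q, rfl⟩ := QuotientGroup.mk_surjective q
      rw [← QuotientGroup.mk_mul, ← QuotientGroup.mk_mul, QuotientGroup.eq]
      have := hQc q⁻¹ p⁻¹
      simpa [mul_assoc] using this
    have hsqq : ∀ p : U ⧸ V, p * p = 1 := by
      intro p
      obtain ⟨p, rfl⟩ := QuotientGroup.mk_surjective p
      rw [← QuotientGroup.mk_mul, QuotientGroup.eq_one_iff, ← pow_two]
      exact hQe p
    have hcaa : c a a = 1 := by simp only [c]; group
    have hMm : c a ((y ^ m) a) = c a s := by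
      rw [hcq a _ _ hi, hcmul, hcq a s⁻¹ s (by rw [QuotientGroup.mk_inv]; exact inv_eq_of_mul_eq_one_right (hsqq _)),
        hcaa, mul_one]
    have hsucc : ∀ t : ℕ, (2 ^ n - 1 - 1) * t + t = (2 ^ n - 1) * t := by
      intro t
      obtain ⟨q, hq⟩ : ∃ q, 2 ^ n - 1 = q + 1 := ⟨2 ^ n - 1 - 1, by omega⟩
      rw [hq, Nat.add_sub_cancel, Nat.succ_mul]
    obtain ⟨k', hk'⟩ : ∃ k', y ^ k' * y ^ k = 1 :=
      ⟨(2 ^ n - 1 - 1) * k, by rw [← pow_add, hsucc, pow_mul, hpow, one_pow]⟩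
    obtain ⟨m', hm'⟩ : ∃ m', y ^ m' * y ^ m = 1 :=
      ⟨(2 ^ n - 1 - 1) * m, by rw [← pow_add, hsucc, pow_mul, hpow, one_pow]⟩
    have hkk : y ^ (k + k') = 1 := by rw [add_comm, pow_add, hk']
    have hmm : y ^ (m + m') = 1 := by rw [add_comm, pow_add, hm']
    have hap : ∀ p q : ℕ, (y ^ p) ((y ^ q) a) = (y ^ (p + q)) a := fun p q => by
      rw [pow_add, MulAut.mul_apply]
    -- `(y^(k+m))⁻¹ a ≡ (y^k)⁻¹ a * (y^m)⁻¹ a`
    have hinv : (QuotientGroup.mk ((y ^ (k' + m')) a) : U ⧸ V) =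
        QuotientGroup.mk ((y ^ k') a * (y ^ m') a) := by
      have h2 := hyq (k' + m') _ _ hkm
      rw [map_mul, hap, hap] at h2
      rw [← h2, show k' + m' + k = (k + k') + m' by omega, show k' + m' + m = (m + m') + k' by omega,
        pow_add y (k + k'), hkk, one_mul, pow_add y (m + m'), hmm, one_mul, QuotientGroup.mk_mul,
        QuotientGroup.mk_mul, hcomm]
    have h1 : c a ((y ^ (k + m)) a) = c a s := by
      have e : (y ^ (k + m)) (c a ((y ^ (k' + m')) a)) = c a ((y ^ (k + m)) a) := by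
        rw [hcy, hap, show k + m + (k' + m') = (k + k') + (m + m') by omega, pow_add y (k + k'), hkk,
          hmm, one_mul, MulAut.one_apply, hcinv]
      rw [← e, hcq a _ _ hinv, hcmul, map_mul]
      have ek : (y ^ (k + m)) (c a ((y ^ k') a)) = (y ^ m) (c a s) := by
        rw [add_comm k m, pow_add, MulAut.mul_apply, hcy k, hap, hkk, MulAut.one_apply, hcinv a]
      have em : (y ^ (k + m)) (c a ((y ^ m') a)) = (y ^ k) (c a s) := by
        rw [pow_add, MulAut.mul_apply, hcy m, hap, hmm, MulAut.one_apply, hcinv a, hMm]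
      rw [ek, em, hVc _ (hyk k _ (hcmem a s)), hrel k m hkm _ (hcmem a s)]
    have hlast : (QuotientGroup.mk ((y ^ (k + k)) a) : U ⧸ V) =
        QuotientGroup.mk ((y ^ (k + m)) a * s) := by
      have h2 := hyq k _ _ hi
      rw [hap, map_mul, map_inv, hap, QuotientGroup.mk_mul, QuotientGroup.mk_inv,
        inv_eq_of_mul_eq_one_right (hsqq _)] at h2
      rw [QuotientGroup.mk_mul, h2, mul_assoc, hsqq, mul_one]
    rw [hcq a _ _ hlast, hcmul, h1, ← pow_two, hVe _ (hcmem a s)]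
  by_cases hu : (QuotientGroup.mk u : U ⧸ V) = 1
  · exact hcV1 a u ((QuotientGroup.eq_one_iff u).1 hu)
  obtain ⟨i, hi⟩ := hsurj _ hu
  replace hi : (QuotientGroup.mk ((y ^ (i : ℕ)) a) : U ⧸ V) = QuotientGroup.mk u := hi
  obtain ⟨r, hr⟩ : ∃ r, 2 ^ n = 2 * r := ⟨2 ^ (n - 1), by rw [← pow_succ']; congr 1; omega⟩
  rw [hcq a u _ hi.symm]
  have hk := hsq ((i : ℕ) * r)
  rw [show (i : ℕ) * r + (i : ℕ) * r = (i : ℕ) + (2 ^ n - 1) * (i : ℕ) by
    rw [Nat.sub_mul, one_mul]
    have e0 : 2 ^ n * (i : ℕ) = 2 * r * (i : ℕ) := congrArg (fun t => t * (i : ℕ)) hr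
    have : (i : ℕ) ≤ 2 * r * (i : ℕ) := Nat.le_mul_of_pos_left _ (by omega)
    have e : 2 * r * (i : ℕ) = (i : ℕ) * r + (i : ℕ) * r := by ring
    omega, pow_add, pow_mul, hpow, one_pow, mul_one] at hk
  exact hk

end Cfsg.Agent.S3158
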