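import Cfsg.Statements.S3161
import Cfsg.Agent.Lib.InvChar.FixedLine.Sylows
-- import your own Cfsg.Agent.* helpers here

set_option autoImplicit false
open Cfsg

namespace Cfsg.Agent.S3161

/-- Let Q be a non-abelian finite 2-group admitting commuting automorphisms α of order 2 and ρ of order 2^n − 1, where n ≥ 2, such that the fixed points of α form an elementary abelian subgroup of order 2^n on whose nonidentity elements the group generated by ρ acts transitively. Then Q is isomorphic to a Sylow 2-subgroup of the projective special unitary group of dimension 3 with parameter 2^n (realised over the field with 4^n elements) or of the projective special linear group of dimension 3 over the field with 2^n elements. -/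
theorem result {Q : Type*} [Group Q] [Finite Q] (hQ : IsPGroup 2 Q) (hna : ¬ IsMulCommutative Q) (n : ℕ) (hn : 2 ≤ n)
    (α ρ : MulAut Q) (hα : orderOf α = 2) (hρ : orderOf ρ = 2 ^ n - 1) (hc : Commute α ρ)
    (C : Subgroup Q) (hC : ∀ x : Q, x ∈ C ↔ α x = x) (hCE : Cfsg.IsElementaryAbelian 2 C ∧ Nat.card ↥C = 2 ^ n)
    (htr : ∀ x y : Q, x ∈ C → y ∈ C → x ≠ 1 → y ≠ 1 → ∃ k : ℕ, (ρ ^ k) x = y) :
    (∃ (F : Type) (_ : Field F) (_ : Fintype F), Fintype.card F = 4 ^ n ∧
        ∃ S : Sylow 2 (Cfsg.PSU 3 F (2 ^ n)), Nonempty (Q ≃* ↥(S : Subgroup (Cfsg.PSU 3 F (2 ^ n))))) ∨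
      (∃ (F : Type) (_ : Field F) (_ : Fintype F), Fintype.card F = 2 ^ n ∧
        ∃ S : Sylow 2 (Matrix.ProjectiveSpecialLinearGroup (Fin 3) F), Nonempty (Q ≃* ↥(S : Subgroup (Matrix.ProjectiveSpecialLinearGroup (Fin 3) F)))) := by
  classical
  have hAA : ∀ x, α (α x) = x := fun x => by
    have e := congrArg (fun f : MulAut Q => f x) (pow_orderOf_eq_one α)
    rw [hα, pow_two] at e
    exact e
  let S : CfsgLib.InvChar.FixedLine.Ctx Q n :=
    { α := α, ρ := ρ, two_le := hn, pg := hQ, aa := hAA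
      comm := fun x => congrArg (fun f : MulAut Q => f x) hc.eq
      sq := fun c h => by rw [← pow_two]; exact hCE.1.2 c ((hC c).2 h)
      card := (Nat.card_congr (Equiv.subtypeEquivRight fun x => (hC x).symm)).trans hCE.2
      trans := fun x y hx hy => htr x y ((hC x).2 hx) ((hC y).2 hy) }
  have hna' : ∃ x y : Q, x * y ≠ y * x := by
    by_contra h
    push Not at h
    exact hna ⟨⟨h⟩⟩
  obtain ⟨k₁, k₂, β, hβ, hQm⟩ := S.exists_quadratic hna' (show ρ ^ (2 ^ n - 1) = 1 by
    rw [← hρ, pow_orderOf_eq_one])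
  let K := GaloisField 2 n
  haveI : Fintype K := Fintype.ofFinite K
  have hK : Fintype.card K = 2 ^ n := by
    rw [← Nat.card_eq_fintype_card]; exact GaloisField.card 2 n (by omega)
  let E := GaloisField 2 (2 * n)
  haveI : Fintype E := Fintype.ofFinite E
  have hE : Fintype.card E = 4 ^ n := by
    rw [← Nat.card_eq_fintype_card]
    exact (GaloisField.card 2 (2 * n) (by omega)).trans (by rw [pow_mul]; norm_num)
  let h : CfsgLib.Chev.PSUSyl.QField E := ⟨n, hn, by
    rw [hE, ← pow_mul, mul_comm, pow_mul]; norm_num, CharTwo.two_eq_zero⟩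
  obtain ⟨d₀, hd₀, hUQ⟩ := CfsgLib.InvChar.FixedLine.squareMap_unitary h (K := K)
    (GaloisField.card 2 n (by omega))
  rcases CfsgLib.InvChar.FixedLine.squareMap_normal
    (CfsgLib.InvChar.FixedLine.two_eq_zero n) hβ hQm hd₀ with hs | hs
  · right
    obtain ⟨P, ⟨e₂⟩⟩ := CfsgLib.InvChar.FixedLine.exists_sylow_psl (K := K) (by omega) hK
    obtain ⟨e⟩ := CfsgLib.InvChar.FixedLine.iso_of_squareMap hs
      (CfsgLib.InvChar.FixedLine.squareMap_uni (CfsgLib.InvChar.FixedLine.two_eq_zero n))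
    exact ⟨K, inferInstance, inferInstance, hK, P, ⟨e.trans e₂⟩⟩
  · left
    obtain ⟨P⟩ := (inferInstance : Nonempty (Sylow 2 (Cfsg.PSU 3 E h.q)))
    obtain ⟨e⟩ := CfsgLib.InvChar.FixedLine.iso_of_squareMap hs hUQ
    obtain ⟨e₂⟩ := CfsgLib.Chev.PSUSyl.QField.UQ.sylow_equiv (h := h) P
    exact ⟨E, inferInstance, inferInstance, hE, P, ⟨e.trans e₂.symm⟩⟩

end Cfsg.Agent.S3161
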