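import Cfsg.Statements.S3162
import Cfsg.Agent.Lib.InvChar.UnitarySylowAut

set_option autoImplicit false
open Cfsg

namespace Cfsg.Agent.S3162

/-- Let S be a Sylow 2-subgroup of the special unitary group of dimension 3 with parameter q = 2^n (n ≥ 2; realised over the field with q² elements). Then the largest normal 2-subgroup of the automorphism group of S is elementary abelian of order 2^(2n²), and the automorphism group has order 2^(2n²) · 2n(q² − 1). -/
theorem result {S : Type*} [Group S] [Finite S] (n : ℕ) (hn : 2 ≤ n) {F : Type*} [Field F] [Fintype F] (hF : Fintype.card F = 4 ^ n)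
    (P : Sylow 2 ↥(Cfsg.SU 3 F (2 ^ n))) (hS : Nonempty (S ≃* ↥(P : Subgroup ↥(Cfsg.SU 3 F (2 ^ n))))) :
    Cfsg.IsElementaryAbelian 2 (Cfsg.pCore 2 (MulAut S)) ∧ Nat.card ↥(Cfsg.pCore 2 (MulAut S)) = 2 ^ (2 * n ^ 2) ∧
      Nat.card (MulAut S) = 2 ^ (2 * n ^ 2) * (2 * n * ((2 ^ n) ^ 2 - 1)) := by
  have h2 : (2 : F) = 0 := by
    have h0 : ((Fintype.card F : ℕ) : F) = 0 := FiniteField.cast_card_eq_zero F
    rw [hF, show (4 : ℕ) = 2 ^ 2 by rfl, ← pow_mul, Nat.cast_pow] at h0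
    exact (pow_eq_zero_iff (by omega)).1 h0
  let h : CfsgLib.Chev.PSUSyl.QField F :=
    ⟨n, hn, by rw [hF, ← pow_mul, mul_comm, pow_mul]; norm_num, h2⟩
  obtain ⟨e⟩ := CfsgLib.InvChar.UnitarySylow.sylow_su_equiv h P
  obtain ⟨e'⟩ := hS
  exact CfsgLib.InvChar.UnitarySylow.mulAut_structure h (e'.trans e)

end Cfsg.Agent.S3162
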