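import Cfsg.Statements.S3163
import Mathlib.Tactic

set_option autoImplicit false
open Cfsg

namespace Cfsg.Agent.S3163

/-- Let S be a non-abelian finite 2-group which is the product S = AB of two elementary abelian subgroups A and B, and suppose that the centralizer in S of every element of A outside B is exactly A. Then the centralizer of every element of B outside A is exactly B; A and B are maximal elementary abelian subgroups of S and the only ones; the centre of S is A ∩ B; and every element of S outside A ∪ B has centralizer of order at most min(|A|, |B|). -/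
theorem result {S : Type*} [Group S] [Finite S] (hS : IsPGroup 2 S) (hna : ¬ IsMulCommutative S) (A B : Subgroup S)
    (hA : Cfsg.IsElementaryAbelian 2 A) (hB : Cfsg.IsElementaryAbelian 2 B) (hAB : ∀ s : S, ∃ a ∈ A, ∃ b ∈ B, s = a * b)
    (hC : ∀ a ∈ A, a ∉ B → Subgroup.centralizer ({a} : Set S) = A) :
    (∀ b ∈ B, b ∉ A → Subgroup.centralizer ({b} : Set S) = B) ∧
      (∀ E : Subgroup S, Cfsg.IsElementaryAbelian 2 E → (∀ E' : Subgroup S, Cfsg.IsElementaryAbelian 2 E' → E ≤ E' → E' = E) → E = A ∨ E = B) ∧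
      (∀ E' : Subgroup S, Cfsg.IsElementaryAbelian 2 E' → A ≤ E' → E' = A) ∧ (∀ E' : Subgroup S, Cfsg.IsElementaryAbelian 2 E' → B ≤ E' → E' = B) ∧
      Subgroup.center S = A ⊓ B ∧
      (∀ x : S, x ∉ A → x ∉ B → Nat.card ↥(Subgroup.centralizer ({x} : Set S)) ≤ min (Nat.card ↥A) (Nat.card ↥B)) := by
  have comm : ∀ (X : Subgroup S), Cfsg.IsElementaryAbelian 2 X → ∀ x ∈ X, ∀ y ∈ X, x * y = y * x :=
    fun X hX x hx y hy => congrArg Subtype.val (hX.1.is_comm.comm ⟨x, hx⟩ ⟨y, hy⟩)
  have hcA := comm A hA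
  have hcB := comm B hB
  have cent : ∀ a ∈ A, a ∉ B → ∀ x, x * a = a * x → x ∈ A := fun a ha haB x hx =>
    hC a ha haB ▸ Subgroup.mem_centralizer_singleton_iff.2 hx
  obtain ⟨a0, ha0, ha0B⟩ : ∃ a, a ∈ A ∧ a ∉ B := by
    by_contra h
    push Not at h
    exact hna ⟨⟨fun x y => by
      obtain ⟨a, ha, b, hb, rfl⟩ := hAB x
      obtain ⟨a', ha', b', hb', rfl⟩ := hAB y
      exact hcB _ (mul_mem (h a ha) hb) _ (mul_mem (h a' ha') hb')⟩⟩
  obtain ⟨b0, hb0, hb0A⟩ : ∃ b, b ∈ B ∧ b ∉ A := by
    by_contra h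
    push Not at h
    exact hna ⟨⟨fun x y => by
      obtain ⟨a, ha, b, hb, rfl⟩ := hAB x
      obtain ⟨a', ha', b', hb', rfl⟩ := hAB y
      exact hcA _ (mul_mem ha (h b hb)) _ (mul_mem ha' (h b' hb'))⟩⟩
  -- a product commuting with an element of `B` outside `A`
  have centB : ∀ b ∈ B, b ∉ A → ∀ x, x * b = b * x → x ∈ B := by
    intro b hb hbA x hx
    obtain ⟨a, ha, b', hb', rfl⟩ := hAB x
    by_cases haB : a ∈ B
    · exact mul_mem haB hb'
    exfalso
    have h1 : a * b = b * a := by
      have h2 : a * b * b' = b * a * b' := by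
        calc a * b * b' = a * (b * b') := mul_assoc _ _ _
          _ = a * b' * b := by rw [hcB b hb b' hb', mul_assoc]
          _ = b * (a * b') := hx
          _ = b * a * b' := (mul_assoc _ _ _).symm
      exact mul_right_cancel h2
    exact hbA (cent a ha haB b h1.symm)
  have hCB : ∀ b ∈ B, b ∉ A → Subgroup.centralizer ({b} : Set S) = B := fun b hb hbA =>
    le_antisymm (fun x hx => centB b hb hbA x (Subgroup.mem_centralizer_singleton_iff.1 hx))
      (fun x hx => Subgroup.mem_centralizer_singleton_iff.2 (hcB x hx b hb))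
  have hsq : ∀ x : S, x * x = 1 → x ∈ A ∨ x ∈ B := by
    intro x hx
    obtain ⟨a, ha, b, hb, rfl⟩ := hAB x
    by_cases haB : a ∈ B
    · exact Or.inr (mul_mem haB hb)
    left
    have ha2 : a⁻¹ = a := inv_eq_of_mul_eq_one_right (by simpa [pow_two] using hA.2 a ha)
    have hb2 : b⁻¹ = b := inv_eq_of_mul_eq_one_right (by simpa [pow_two] using hB.2 b hb)
    have h1 : (a * b)⁻¹ = a * b := inv_eq_of_mul_eq_one_right hx
    rw [mul_inv_rev, ha2, hb2] at h1
    exact mul_mem ha (cent a ha haB b h1)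
  have maxA : ∀ E' : Subgroup S, Cfsg.IsElementaryAbelian 2 E' → A ≤ E' → E' = A := fun E hE hle =>
    le_antisymm (fun x hx => cent a0 ha0 ha0B x (comm E hE x hx a0 (hle ha0))) hle
  have maxB : ∀ E' : Subgroup S, Cfsg.IsElementaryAbelian 2 E' → B ≤ E' → E' = B := fun E hE hle =>
    le_antisymm (fun x hx => centB b0 hb0 hb0A x (comm E hE x hx b0 (hle hb0))) hle
  refine ⟨hCB, ?_, maxA, maxB, ?_, ?_⟩
  · intro E hE hmax
    have : E ≤ A ∨ E ≤ B := by
      by_contra h
      push Not at h
      obtain ⟨x, hx, hxA⟩ := SetLike.not_le_iff_exists.1 h.1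
      obtain ⟨y, hy, hyB⟩ := SetLike.not_le_iff_exists.1 h.2
      have hxB : x ∈ B := (hsq x (by simpa [pow_two] using hE.2 x hx)).resolve_left hxA
      have hyA : y ∈ A := (hsq y (by simpa [pow_two] using hE.2 y hy)).resolve_right hyB
      exact hxA (cent y hyA hyB x (comm E hE x hx y hy))
    rcases this with h | h
    · exact Or.inl (hmax A hA h).symm
    · exact Or.inr (hmax B hB h).symm
  · refine le_antisymm (fun z hz => ?_) (fun z hz => Subgroup.mem_center_iff.2 fun g => ?_)
    · exact ⟨cent a0 ha0 ha0B z (Subgroup.mem_center_iff.1 hz a0).symm, centB b0 hb0 hb0A z (Subgroup.mem_center_iff.1 hz b0).symm⟩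
    · obtain ⟨a, ha, b, hb, rfl⟩ := hAB g
      rw [mul_assoc, hcB b hb z hz.2, ← mul_assoc, hcA a ha z hz.1, mul_assoc]
  · intro x hxA hxB
    obtain ⟨a, ha, b, hb, rfl⟩ := hAB x
    have haB : a ∉ B := fun h => hxB (mul_mem h hb)
    have hbA : b ∉ A := fun h => hxA (mul_mem ha h)
    let C := Subgroup.centralizer ({a * b} : Set S)
    have hCA : C ⊓ A ≤ A ⊓ B := by
      rintro c ⟨hc, hcA'⟩
      refine ⟨hcA', by_contra fun hcB' => ?_⟩
      have h1 := Subgroup.mem_centralizer_singleton_iff.1 hc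
      have h2 : b * c = c * b := by
        have h3 : a * (b * c) = a * (c * b) := by
          rw [← mul_assoc, ← h1, ← mul_assoc, ← mul_assoc, hcA c hcA' a ha]
        exact mul_left_cancel h3
      exact hbA (cent c hcA' hcB' b h2)
    have hCB' : C ⊓ B ≤ A ⊓ B := by
      rintro c ⟨hc, hcB'⟩
      refine ⟨by_contra fun hcA' => ?_, hcB'⟩
      have h1 := Subgroup.mem_centralizer_singleton_iff.1 hc
      have h2 : a * c = c * a := by
        have h3 : a * c * b = c * a * b := by
          rw [mul_assoc, hcB c hcB' b hb, ← mul_assoc, ← h1, mul_assoc]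
        exact mul_right_cancel h3
      exact haB (centB c hcB' hcA' a h2)
    have hidx : ∀ (X Y : Subgroup S), (∀ s : S, ∃ p ∈ Y, ∃ q ∈ X, s = p * q) → C ⊓ X ≤ Y ⊓ X →
        Nat.card C ≤ Nat.card Y := by
      intro X Y hYX hle
      have h1 : Nat.card (C ⊓ X : Subgroup S) * X.relIndex C = Nat.card C := by
        have h := Subgroup.card_mul_index (X.subgroupOf C)
        rw [Subgroup.relIndex]
        rwa [Nat.card_congr (show X.subgroupOf C ≃ (C ⊓ X : Subgroup S) from
          (Equiv.subtypeSubtypeEquivSubtypeInter (fun x => x ∈ C) (fun x => x ∈ X)))] at h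
      have h2 : Nat.card (Y ⊓ X : Subgroup S) * X.relIndex Y = Nat.card Y := by
        have h := Subgroup.card_mul_index (X.subgroupOf Y)
        rw [Subgroup.relIndex]
        rwa [Nat.card_congr (show X.subgroupOf Y ≃ (Y ⊓ X : Subgroup S) from
          (Equiv.subtypeSubtypeEquivSubtypeInter (fun x => x ∈ Y) (fun x => x ∈ X)))] at h
      have h3 : X.relIndex C ≤ X.index := by
        rw [← Subgroup.relIndex_top_right]
        exact Subgroup.relIndex_le_of_le_right le_top (by simp [Subgroup.FiniteIndex.index_ne_zero])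
      have h4 : X.index ≤ X.relIndex Y := by
        refine Nat.card_le_card_of_surjective
          (Quotient.map' (fun y : Y => (y : S)) (fun u v h => by
            rw [QuotientGroup.leftRel_apply] at h ⊢
            simpa [Subgroup.mem_subgroupOf] using h) : Y ⧸ X.subgroupOf Y → S ⧸ X) ?_
        intro q
        obtain ⟨s, rfl⟩ := QuotientGroup.mk_surjective q
        obtain ⟨p, hp, q, hq, rfl⟩ := hYX s
        exact ⟨QuotientGroup.mk ⟨p, hp⟩, QuotientGroup.eq.2 (by simpa using hq)⟩
      rw [← h1, ← h2]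
      exact Nat.mul_le_mul (Subgroup.card_le_of_le hle) (h3.trans h4)
    refine le_min ?_ ?_
    · exact hidx B A hAB (hCB'.trans le_rfl)
    · refine hidx A B (fun s => ?_) (hCA.trans (le_of_eq (inf_comm _ _)))
      obtain ⟨p, hp, q, hq, e⟩ := hAB s⁻¹
      exact ⟨q⁻¹, inv_mem hq, p⁻¹, inv_mem hp, by rw [← mul_inv_rev, ← e, inv_inv]⟩

end Cfsg.Agent.S3163
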