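import Cfsg.Statements.S3164
import Cfsg.Agent.Lib.InvChar.StandardClosureLayer

set_option autoImplicit false
open Cfsg

namespace Cfsg.Agent.S3164

/-- Let A be a standard subgroup of a finite group G whose centralizer has cyclic Sylow 2-subgroups, t an involution centralizing A, and X the normal closure of A in G. If X has a t-invariant 2-subgroup R with [R, t] nontrivial and contained in A, then X is semisimple (X equals its own layer, a central product of quasisimple groups) and the centre of X has odd order. -/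
theorem result {G : Type*} [Group G] [Finite G] (A : Subgroup G) (hA : Cfsg.IsStandardSubgroup A)
    (hcyc : ∀ R : Sylow 2 ↥(Subgroup.centralizer (A : Set G)), IsCyclic ↥(R : Subgroup ↥(Subgroup.centralizer (A : Set G)))) (t : G) (ht : orderOf t = 2) (htA : t ∈ Subgroup.centralizer (A : Set G))
    (R : Subgroup G) (hR2 : IsPGroup 2 ↥R) (hRX : R ≤ Subgroup.normalClosure (A : Set G)) (hRt : ∀ r ∈ R, t * r * t⁻¹ ∈ R)
    (hc1 : ⁅R, Subgroup.zpowers t⁆ ≠ ⊥) (hc2 : ⁅R, Subgroup.zpowers t⁆ ≤ A) :
    Cfsg.layer ↥(Subgroup.normalClosure (A : Set G)) = ⊤ ∧ Odd (Nat.card ↥(Subgroup.center ↥(Subgroup.normalClosure (A : Set G)))) := by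
  classical
  have htt : t * t = 1 := by rw [← pow_two, ← ht, pow_orderOf_eq_one]
  have ht1 : t ≠ 1 := fun e => by simp [e] at ht
  obtain ⟨g, hg, hgt⟩ : ∃ g ∈ R, g * t ≠ t * g := by
    by_contra h
    apply hc1
    refine Subgroup.commutator_eq_bot_iff_le_centralizer.2 fun g hg => ?_
    refine Subgroup.mem_centralizer_iff.2 fun y hy => ?_
    obtain ⟨n, rfl⟩ := Subgroup.mem_zpowers_iff.1 hy
    have hgt : g * t = t * g := by
      by_contra e
      exact h ⟨g, hg, e⟩
    exact ((show Commute t g from hgt.symm).zpow_left n).eq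
  have hex : ∃ j : ℕ, g ^ 2 ^ j * t = t * g ^ 2 ^ j := by
    obtain ⟨k, hk⟩ := hR2 ⟨g, hg⟩
    refine ⟨k, ?_⟩
    have : g ^ 2 ^ k = 1 := congrArg Subtype.val hk
    rw [this, one_mul, mul_one]
  obtain ⟨j, hj⟩ : ∃ j, Nat.find hex = j + 1 := by
    refine ⟨Nat.find hex - 1, ?_⟩
    have h0 : Nat.find hex ≠ 0 := fun e => by
      have := Nat.find_spec hex
      rw [e, pow_zero, pow_one] at this
      exact hgt this
    omega
  have hnot : g ^ 2 ^ j * t ≠ t * g ^ 2 ^ j := Nat.find_min hex (by omega)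
  have hyes : g ^ 2 ^ j * g ^ 2 ^ j * t = t * (g ^ 2 ^ j * g ^ 2 ^ j) := by
    have := Nat.find_spec hex
    rw [hj, pow_succ, pow_mul, pow_two] at this
    exact this
  refine CfsgLib.InvChar.StandardClosure.semisimple_of_moved hA hcyc htt ht1 htA
    (hRX (pow_mem hg _)) hyes hnot (hc2 ?_)
  rw [← commutatorElement_def]
  exact Subgroup.commutator_mem_commutator (pow_mem hg _) (Subgroup.mem_zpowers t)

end Cfsg.Agent.S3164
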