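import Cfsg.Statements.S3165
import Mathlib.Tactic

set_option autoImplicit false
open Cfsg

namespace Cfsg.Agent.S3165

/-- Let a group X act on a group Y by automorphisms and let z be an element of Y all of whose Y-conjugates are fixed by X. Then every element of the form (x·y)y⁻¹, x ∈ X, y ∈ Y (these generate the commutator [X, Y]) commutes with z. -/
theorem result {X Y : Type*} [Group X] [Group Y] [MulDistribMulAction X Y] (z : Y)
    (hz : ∀ y : Y, ∀ x : X, x • (y * z * y⁻¹) = y * z * y⁻¹) :
    ∀ x : X, ∀ y : Y, Commute ((x • y) * y⁻¹) z := by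
  intro x y
  have h1 : x • z = z := by simpa using hz 1 x
  have h2 := hz y⁻¹ x
  simp only [smul_mul', smul_inv', inv_inv, h1] at h2
  have h3 : ∀ a b c : Y, a⁻¹ * c * a = b⁻¹ * c * b → a * b⁻¹ * c = c * (a * b⁻¹) := by
    intro a b c h
    calc a * b⁻¹ * c = a * (b⁻¹ * c * b) * b⁻¹ := by group
      _ = a * (a⁻¹ * c * a) * b⁻¹ := by rw [h]
      _ = c * (a * b⁻¹) := by group
  exact h3 _ _ _ h2

end Cfsg.Agent.S3165
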