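import Cfsg.Statements.S3166
import Mathlib.Tactic

set_option autoImplicit false
open Cfsg

namespace Cfsg.Agent.S3166

/-- Let q = 2^n with n ≥ 1. If q⁴ − q³ + q² − q + 1 is a power p^m of a prime p, then m = 1: the value is never a prime power with exponent greater than 1. -/
theorem result (n p m : ℕ) (hn : 1 ≤ n) (hp : p.Prime) (h : (2 ^ n) ^ 4 - (2 ^ n) ^ 3 + (2 ^ n) ^ 2 - 2 ^ n + 1 = p ^ m) : m = 1 := by
  obtain ⟨n', rfl⟩ : ∃ n', n = n' + 1 := ⟨n - 1, by omega⟩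
  set q := 2 ^ (n' + 1) with hq
  have hq2 : 2 ≤ q := by rw [hq, pow_succ]; have := Nat.one_le_two_pow (n := n'); omega
  have h43 : q ^ 3 ≤ q ^ 4 := Nat.pow_le_pow_right (by omega) (by norm_num)
  have hqq : q ≤ q ^ 2 := Nat.le_self_pow (by norm_num) q
  have hZ : ((p : ℤ) ^ m) = (q : ℤ) ^ 4 - q ^ 3 + q ^ 2 - q + 1 := by
    have hh : (q ^ 4 - q ^ 3 + q ^ 2 - q + 1) + (q ^ 3 + q) = q ^ 4 + q ^ 2 + 1 := by omega
    rw [h] at hh
    have := congrArg (fun k : ℕ => (k : ℤ)) hh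
    push_cast at this
    linarith
  have hq' : (2 : ℤ) ≤ q := by exact_mod_cast hq2
  have hqe : ∃ r : ℤ, (q : ℤ) = 2 * r := ⟨2 ^ n', by rw [hq]; push_cast; ring⟩
  rcases Nat.even_or_odd m with ⟨j, rfl⟩ | hodd
  · exfalso
    obtain ⟨r, hr⟩ := hqe
    set s : ℤ := (p : ℤ) ^ j with hs
    have hs0 : 0 ≤ s := by rw [hs]; positivity
    rw [pow_add, ← hs, hr] at hZ
    have hr1 : 1 ≤ r := by omega
    have h1 : (4 * r ^ 2 - r) ^ 2 < s * s := by nlinarith
    have h2 : s * s < (4 * r ^ 2 - r + 1) ^ 2 := by nlinarith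
    have h3 : 0 ≤ 4 * r ^ 2 - r := by nlinarith
    have h4 : 4 * r ^ 2 - r < s := by nlinarith
    have h5 : s < 4 * r ^ 2 - r + 1 := by nlinarith
    omega
  · by_contra hm
    obtain ⟨k, hk⟩ := hodd
    have hm3 : 3 ≤ m := by omega
    have hdvd : (q : ℤ) ∣ (p : ℤ) - 1 := by
      have hfac : ((p : ℤ) - 1) * (∑ i ∈ Finset.range m, (p : ℤ) ^ i) = q * ((q : ℤ) ^ 3 - q ^ 2 + q - 1) := by
        rw [mul_comm, geom_sum_mul, hZ]; ring
      have hpodd : Odd (p : ℤ) := by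
        by_contra hc
        rw [Int.not_odd_iff_even] at hc
        obtain ⟨r, hr⟩ := hqe
        have h1 : Even ((p : ℤ) ^ m) := hc.pow_of_ne_zero (by omega)
        rw [hZ, hr] at h1
        obtain ⟨t, ht⟩ := h1
        have : (2 : ℤ) ∣ 1 := ⟨t - (8 * r ^ 4 - 4 * r ^ 3 + 2 * r ^ 2 - r), by linarith⟩
        omega
      have hS : Odd (∑ i ∈ Finset.range m, (p : ℤ) ^ i) := by
        have hev : ∀ l : ℕ, Even ((∑ i ∈ Finset.range l, (p : ℤ) ^ i) - l) := by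
          intro l
          induction l with
          | zero => simp
          | succ l ih =>
            rw [Finset.sum_range_succ]; push_cast
            rw [show (∑ i ∈ Finset.range l, (p : ℤ) ^ i) + (p : ℤ) ^ l - ((l : ℤ) + 1) = ((∑ i ∈ Finset.range l, (p : ℤ) ^ i) - l) + ((p : ℤ) ^ l - 1) by ring]
            exact ih.add ((hpodd.pow).sub_odd odd_one)
        obtain ⟨t, ht⟩ := hev m
        exact ⟨t + k, by rw [hk] at ht ⊢; push_cast at ht ⊢; linarith⟩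
      have hcop : IsCoprime (q : ℤ) (∑ i ∈ Finset.range m, (p : ℤ) ^ i) := by
        rw [hq]; push_cast
        exact (Int.prime_two.coprime_iff_not_dvd.2 (by rw [← even_iff_two_dvd]; exact Int.not_even_iff_odd.2 hS)).pow_left
      exact hcop.dvd_of_dvd_mul_right ⟨_, hfac⟩
    obtain ⟨d, hd⟩ := hdvd
    have hp2 : (2 : ℤ) ≤ p := by exact_mod_cast hp.two_le
    have hd1 : 1 ≤ d := by nlinarith
    have hqp : (q : ℤ) + 1 ≤ p := by nlinarith
    have hlt : (p : ℤ) ^ m < (q : ℤ) ^ 4 := by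
      rw [hZ]; nlinarith [mul_le_mul_of_nonneg_left hq' (by positivity : (0 : ℤ) ≤ (q : ℤ) ^ 2)]
    have hm3' : m = 3 := by
      by_contra hne
      have h1 : (p : ℤ) ^ 4 ≤ (p : ℤ) ^ m := pow_le_pow_right₀ (by omega) (by omega)
      have h2 : (q : ℤ) ^ 4 ≤ (p : ℤ) ^ 4 := pow_le_pow_left₀ (by omega) (by omega) 4
      linarith
    subst hm3'
    have hp' : (p : ℤ) = 1 + q * d := by linarith
    rw [hp'] at hZ hlt
    obtain ⟨w, hw⟩ : ∃ w : ℤ, 3 * d + 1 = q * w :=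
      ⟨(q : ℤ) ^ 2 - q + 1 - 3 * d ^ 2 - q * d ^ 3, mul_left_cancel₀ (show (q : ℤ) ≠ 0 by omega) (by linear_combination hZ)⟩
    have hd3 : d ^ 3 < q := by nlinarith
    have hwpos : 1 ≤ w := by nlinarith
    have hdq : (q : ℤ) ≤ 3 * d + 1 := by nlinarith
    have : d < 3 := by nlinarith [mul_le_mul_of_nonneg_left hd1 (by positivity : (0:ℤ) ≤ d ^ 2)]
    have hq4 : (q : ℤ) ≤ 7 := by omega
    obtain ⟨r, hr⟩ := hqe
    interval_cases d <;> interval_cases hqv : (q : ℤ) <;> omega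

end Cfsg.Agent.S3166
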