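import Cfsg.Statements.S3170
import Cfsg.Agent.Lib.SylM24Q.Main

set_option autoImplicit false
open Cfsg

namespace Cfsg.Agent.S3170

/-- Let H be a finite group with no nontrivial normal subgroup of odd order whose Sylow 2-subgroup T is isomorphic to a Sylow 2-subgroup of the Mathieu group of degree 24, and suppose that the centre of T lies in the centre of H. If E is a subgroup of T that is normal in T and extraspecial of order 2^7, and E is the only such subgroup of T, then E is normal in H. -/
theorem result {H : Type*} [Group H] [Finite H]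
    (hO : Cfsg.oddCore H = ⊥) (T : Sylow 2 H) (P : Sylow 2 ↥Cfsg.M24)
    (hT : Nonempty (↥(T : Subgroup H) ≃* ↥(P : Subgroup ↥Cfsg.M24)))
    (hZ : ∀ z ∈ (T : Subgroup H), (∀ t ∈ (T : Subgroup H), z * t = t * z) → z ∈ Subgroup.center H)
    (E : Subgroup H) (hE : E ≤ (T : Subgroup H)) (hEn : (E.subgroupOf (T : Subgroup H)).Normal)
    (hEx : Cfsg.IsExtraspecial 2 ↥E) (hE7 : Nat.card ↥E = 2 ^ 7)
    (huniq : ∀ E' : Subgroup H, E' ≤ (T : Subgroup H) → (E'.subgroupOf (T : Subgroup H)).Normal →
      Cfsg.IsExtraspecial 2 ↥E' → Nat.card ↥E' = 2 ^ 7 → E' = E) :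
    E.Normal := by
  exact CfsgLib.SylM24Q.extraspecial_normal hO T P hT hZ E hE hEn hEx hE7
    fun hO' S m A hA hAc hA64 => CfsgLib.SylM24Q.normal_of_model hO' S m A hA hAc hA64

end Cfsg.Agent.S3170
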