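import Cfsg.Statements.S3175
import Cfsg.Agent.Lib.Invol.RuTypeClosed

set_option autoImplicit false
open Cfsg

namespace Cfsg.Agent.S3175

/-- Let G be a finite group whose Sylow 2-subgroup T has order at least 2^14 and whose upper central series has fourth term of order 16; let W be the centralizer in T of the third term, and suppose the Frattini subgroup of W has order at most 8 and lies in every subgroup of W of index at most 16. Then the normalizer of T in G has a normal 2-complement, and W is weakly closed in T with respect to G. -/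
theorem result {G : Type*} [Group G] [Finite G]
    (T : Sylow 2 G) (ha : 2 ^ 14 ≤ Nat.card ↥(T : Subgroup G))
    (hb : Nat.card ↥(Subgroup.upperCentralSeries ↥(T : Subgroup G) 4) = 16)
    (W : Subgroup ↥(T : Subgroup G))
    (hW : W = Subgroup.centralizer ((Subgroup.upperCentralSeries ↥(T : Subgroup G) 3 : Subgroup ↥(T : Subgroup G)) : Set ↥(T : Subgroup G)))
    (hc : Nat.card ↥(frattini ↥W) ≤ 8)
    (hd : ∀ U : Subgroup ↥W, U.index ≤ 16 → frattini ↥W ≤ U) :
    Cfsg.HasNormalPComplement 2 ↥(Subgroup.normalizer ((T : Subgroup G) : Set G)) ∧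
      Cfsg.IsWeaklyClosed (W.map (T : Subgroup G).subtype) (T : Subgroup G) := by
  subst hW
  have H : CfsgLib.RuType.Hyp ↥(T : Subgroup G) := ⟨T.2, ha, hb, hc, hd⟩
  refine ⟨?_, Subgroup.map_subtype_le _, fun g hg => ?_⟩
  · set N := Subgroup.normalizer ((T : Subgroup G) : Set G) with hN
    set T' := (T : Subgroup G).subgroupOf N
    haveI : T'.Normal := Subgroup.normal_in_normalizer
    let P : Sylow 2 ↥N := T.subtype Subgroup.le_normalizer
    have hP : (P : Subgroup ↥N) = T' := rfl
    have hcop : Nat.Coprime (Nat.card ↥T') T'.index := by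
      obtain ⟨k, hk⟩ := (hP ▸ P.2 : IsPGroup 2 ↥T').exists_card_eq
      rw [hk]
      exact Nat.Coprime.pow_left k (Nat.prime_two.coprime_iff_not_dvd.2 (hP ▸ P.not_dvd_index))
    obtain ⟨K, hK⟩ := Subgroup.exists_right_complement'_of_coprime hcop
    have hodd : Odd (Nat.card ↥K) := by
      rw [← hK.symm.index_eq_card, Nat.odd_iff, ← Nat.two_dvd_ne_zero]
      exact hP ▸ P.not_dvd_index
    have hcomm : ∀ k ∈ K, ∀ t ∈ T', k * t = t * k := fun k hk t ht => by
      let α : MulAut ↥(T : Subgroup G) := (T : Subgroup G).normalizerMonoidHom k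
      have hα : α = 1 := CfsgLib.RuType.aut_eq_one H α hodd (by
        have h1 : k ^ Nat.card ↥K = 1 := congrArg Subtype.val (pow_card_eq_one' (x := (⟨k, hk⟩ : ↥K)))
        rw [← map_pow, h1, map_one])
      have h : ((α ⟨t, Subgroup.mem_subgroupOf.1 ht⟩ : ↥(T : Subgroup G)) : G) = (t : G) := by rw [hα]; rfl
      exact Subtype.ext (mul_inv_eq_iff_eq_mul.1 h)
    haveI : K.Normal := ⟨fun k hk n => by
      obtain ⟨⟨t, k'⟩, rfl⟩ := hK.2 n
      have h1 : (k' : ↥N) * k * (k' : ↥N)⁻¹ ∈ K := K.mul_mem (K.mul_mem k'.2 hk) (K.inv_mem k'.2)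
      have h2 := hcomm _ h1 t t.2
      have h3 : (t : ↥N) * k' * k * ((t : ↥N) * k')⁻¹ = (k' : ↥N) * k * (k' : ↥N)⁻¹ := by
        rw [show (t : ↥N) * k' * k * ((t : ↥N) * k')⁻¹ = (t : ↥N) * ((k' : ↥N) * k * (k' : ↥N)⁻¹) * (t : ↥N)⁻¹ by
          group, ← h2, mul_inv_cancel_right]
      rw [h3]
      exact h1⟩
    exact ⟨P, K, inferInstance, hP ▸ hK.symm⟩
  · set W' := (CfsgLib.RuType.W ↥(T : Subgroup G))
    change (W'.map (T : Subgroup G).subtype).map (MulAut.conj g).toMonoidHom ≤ (T : Subgroup G) at hg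
    change (W'.map (T : Subgroup G).subtype).map (MulAut.conj g).toMonoidHom = W'.map (T : Subgroup G).subtype
    set A' := (W'.map (T : Subgroup G).subtype).map (MulAut.conj g).toMonoidHom with hA'
    have e : ↥W' ≃* ↥(A'.subgroupOf (T : Subgroup G)) :=
      ((Subgroup.equivMapOfInjective W' _ (Subgroup.subtype_injective _)).trans
        ((MulAut.conj g).subgroupMap (W'.map (T : Subgroup G).subtype))).trans
          (Subgroup.subgroupOfEquivOfLe hg).symm
    have h := CfsgLib.RuType.eq_W H (A'.subgroupOf (T : Subgroup G)) e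
    rw [show W' = A'.subgroupOf (T : Subgroup G) from h.symm, Subgroup.map_subgroupOf_eq_of_le hg]

end Cfsg.Agent.S3175
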