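import Cfsg.Statements.S3180
import Mathlib.Tactic

set_option autoImplicit false
open Cfsg

namespace Cfsg.Agent.S3180

/-- Let P be a Sylow p-subgroup of a finite group J and P₁ a subgroup of P that is weakly closed in P with respect to J. If J acts on a set and two points, each fixed by every element of P₁, lie in one J-orbit, then they lie in one orbit of the normalizer of P₁ in J. -/
theorem result {J : Type*} [Group J] [Finite J]
    {p : ℕ} [Fact p.Prime] (P : Sylow p J) (P₁ : Subgroup J) (hW : Cfsg.IsWeaklyClosed P₁ (P : Subgroup J))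
    {Ω : Type*} [MulAction J Ω] (x y : Ω) (hx : ∀ g ∈ P₁, g • x = x) (hy : ∀ g ∈ P₁, g • y = y)
    (hc : ∃ g : J, g • x = y) :
    ∃ g ∈ Subgroup.normalizer (P₁ : Set J), g • x = y := by
  obtain ⟨g, hg⟩ := hc
  let H := MulAction.stabilizer J x
  let Q := P₁.map (MulAut.conj g⁻¹).toMonoidHom
  have hP₁ : IsPGroup p P₁ := P.isPGroup'.to_le hW.1
  have hQ : IsPGroup p Q := hP₁.map _
  have h1 : P₁ ≤ H := fun a ha => hx a ha
  have h2 : Q ≤ H := by
    rintro _ ⟨a, ha, rfl⟩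
    show (g⁻¹ * a * g⁻¹⁻¹) • x = x
    rw [inv_inv, mul_smul, mul_smul, hg, hy a ha, ← hg, inv_smul_smul]
  obtain ⟨S, hS⟩ := (hP₁.comap_subtype (K := H)).exists_le_sylow
  obtain ⟨T, hT⟩ := (hQ.comap_subtype (K := H)).exists_le_sylow
  obtain ⟨h, hh⟩ := MulAction.exists_smul_eq H T S
  have hSp : IsPGroup p ((S : Subgroup H).map H.subtype) := S.isPGroup'.map _
  obtain ⟨R, hR⟩ := hSp.exists_le_sylow
  obtain ⟨k, hk⟩ := MulAction.exists_smul_eq J R P
  have hkmem : ∀ r ∈ (R : Subgroup J), k * r * k⁻¹ ∈ (P : Subgroup J) := by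
    intro r hr
    rw [← hk, Sylow.coe_subgroup_smul]
    exact ⟨r, hr, rfl⟩
  have e1 : P₁.map (MulAut.conj k).toMonoidHom ≤ P := by
    rintro _ ⟨a, ha, rfl⟩
    exact hkmem a (hR ⟨⟨a, h1 ha⟩, hS (show (⟨a, h1 ha⟩ : H) ∈ P₁.subgroupOf H from ha), rfl⟩)
  have e2 : P₁.map (MulAut.conj (k * h * g⁻¹)).toMonoidHom ≤ P := by
    rintro _ ⟨a, ha, rfl⟩
    have hq : g⁻¹ * a * g⁻¹⁻¹ ∈ Q := ⟨a, ha, rfl⟩
    have hm : (⟨_, h2 hq⟩ : H) ∈ (T : Subgroup H) := hT hq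
    have hm2 : h * ⟨_, h2 hq⟩ * h⁻¹ ∈ (S : Subgroup H) := by
      rw [← hh, Sylow.coe_subgroup_smul]
      exact ⟨_, hm, rfl⟩
    have := hkmem _ (hR ⟨_, hm2, rfl⟩)
    simpa [mul_assoc] using this
  have f1 := hW.2 k e1
  have f2 := hW.2 _ e2
  have nk : k ∈ Subgroup.normalizer (P₁ : Set J) :=
    (Subgroup.mem_normalizer_iff_map_conj_eq.2 f1)
  have nk2 : k * h * g⁻¹ ∈ Subgroup.normalizer (P₁ : Set J) :=
    (Subgroup.mem_normalizer_iff_map_conj_eq.2 f2)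
  refine ⟨(k * h * g⁻¹)⁻¹ * k, mul_mem (inv_mem nk2) nk, ?_⟩
  have hhx : (h : J) • x = x := h.2
  have hhi : (h : J)⁻¹ • x = x := by
    conv_lhs => rw [← hhx]
    exact inv_smul_smul _ _
  simp only [mul_inv_rev, inv_inv, mul_assoc, inv_mul_cancel, mul_one]
  rw [mul_smul, hhi, hg]

end Cfsg.Agent.S3180
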