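import Cfsg.Statements.S3183
import Mathlib.Tactic
import Cfsg.Agent.Lib.InvChar.Basic
import Cfsg.Agent.Lib.Transfer.Frobenius

set_option autoImplicit false
open Cfsg

namespace Cfsg.Agent.S3183

/-- Let G be a finite group in which the intersection of any two distinct Sylow 2-subgroups is contained in the centre of some Sylow 2-subgroup, and let S be a Sylow 2-subgroup. Then for every x in S the centralizer of x in S is a Sylow 2-subgroup of the centralizer of x in G (no 2-subgroup centralizing x is larger), and for every other Sylow 2-subgroup T the intersection S ∩ T lies in both the centre of S and the centre of T. -/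
theorem result {G : Type*} [Group G] [Finite G]
    (hCI : ∀ S T : Sylow 2 G, S ≠ T → ∃ U : Sylow 2 G,
      (S : Subgroup G) ⊓ (T : Subgroup G) ≤ (Subgroup.center ↥(U : Subgroup G)).map (U : Subgroup G).subtype)
    (S : Sylow 2 G) :
    (∀ x ∈ (S : Subgroup G), ∀ P : Subgroup G, IsPGroup 2 ↥P → P ≤ Subgroup.centralizer ({x} : Set G) →
        Nat.card ↥P ≤ Nat.card ↥((S : Subgroup G) ⊓ Subgroup.centralizer ({x} : Set G))) ∧
    (∀ T : Sylow 2 G, T ≠ S →
        (S : Subgroup G) ⊓ (T : Subgroup G) ≤
          (Subgroup.center ↥(S : Subgroup G)).map (S : Subgroup G).subtype ⊓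
            (Subgroup.center ↥(T : Subgroup G)).map (T : Subgroup G).subtype) := by
  haveI : Fact (Nat.Prime 2) := ⟨Nat.prime_two⟩
  have hZ : ∀ (U : Sylow 2 G) x, x ∈ (Subgroup.center ↥(U : Subgroup G)).map (U : Subgroup G).subtype →
      x ∈ (U : Subgroup G) ∧ ∀ u ∈ (U : Subgroup G), u * x = x * u := by
    rintro U _ ⟨b, hb, rfl⟩
    exact ⟨b.2, fun u hu => congrArg Subtype.val (Subgroup.mem_center_iff.1 hb ⟨u, hu⟩)⟩
  -- an element of two Sylow subgroups is central in each of them
  have key : ∀ (S T : Sylow 2 G), S ≠ T → ∀ x ∈ (S : Subgroup G), x ∈ (T : Subgroup G) →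
      ∀ s ∈ (S : Subgroup G), s * x = x * s := by
    intro S T hne x hxS hxT
    obtain ⟨U, hU⟩ := hCI S T hne
    obtain ⟨hxU, hUx⟩ := hZ U x (hU ⟨hxS, hxT⟩)
    let A := (S : Subgroup G) ⊓ Subgroup.centralizer ({x} : Set G)
    have hxA : x ∈ A := ⟨hxS, Subgroup.mem_centralizer_singleton_iff.2 rfl⟩
    -- the centralizer of `A` contains a Sylow subgroup
    have hW : ∃ W : Sylow 2 G, (W : Subgroup G) ≤ Subgroup.centralizer (A : Set G) ∨ A = S := by
      obtain ⟨W0, hW0⟩ := ((S.isPGroup'.to_le (inf_le_left : A ≤ S)).comap_subtype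
        (K := Subgroup.centralizer ({x} : Set G))).exists_le_sylow
      have hUc : (U : Subgroup G) ≤ Subgroup.centralizer ({x} : Set G) := fun u hu =>
        Subgroup.mem_centralizer_singleton_iff.2 (hUx u hu)
      let U0 : Sylow 2 (Subgroup.centralizer ({x} : Set G)) := U.subtype hUc
      obtain ⟨c, hc⟩ := MulAction.exists_smul_eq (Subgroup.centralizer ({x} : Set G)) U0 W0
      let V : Sylow 2 G := (c : G) • U
      have hAV : A ≤ V := by
        intro a ha
        have h1 : (⟨a, ha.2⟩ : Subgroup.centralizer ({x} : Set G)) ∈ (W0 : Subgroup _) := hW0 (show _ ∈ A.comap _ from ha)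
        rw [← hc, Sylow.coe_subgroup_smul] at h1
        obtain ⟨u, hu, he⟩ := h1
        exact ⟨(u : G), hu, congrArg Subtype.val he⟩
      by_cases hSV : S = V
      · refine ⟨S, Or.inr (le_antisymm inf_le_left fun s hs => ⟨hs, ?_⟩)⟩
        have hs' : s ∈ (V : Subgroup G) := hSV ▸ hs
        obtain ⟨u, hu, rfl⟩ := hs'
        show (c : G) * u * (c : G)⁻¹ ∈ Subgroup.centralizer ({x} : Set G)
        exact mul_mem (mul_mem c.2 (hUc hu)) (inv_mem c.2)
      · obtain ⟨W, hW⟩ := hCI S V hSV
        refine ⟨W, Or.inl fun w hw => Subgroup.mem_centralizer_iff.2 fun a ha => ?_⟩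
        exact ((hZ W a (hW ⟨ha.1, hAV ha⟩)).2 w hw).symm
    obtain ⟨W, hW | hW⟩ := hW
    · by_cases hA : A = S
      · intro s hs
        exact Subgroup.mem_centralizer_singleton_iff.1 (hA.symm ▸ hs : s ∈ A).2
      exfalso
      have hlt : A < S := lt_of_le_of_ne inf_le_left hA
      obtain ⟨n, hnS, hnN, hnA⟩ := CfsgLib.Transfer.exists_mem_normalizer_not_mem (p := 2) S.isPGroup' hlt
      let N := Subgroup.normalizer (A : Set G)
      let K := (Subgroup.centralizer (A : Set G)).subgroupOf N
      haveI hKn : K.Normal := by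
        refine ⟨fun k hk g => Subgroup.mem_centralizer_iff.2 fun a ha => ?_⟩
        have h1 : (g : G)⁻¹ * a * (g : G) ∈ A := by
          simpa using ((Subgroup.mem_normalizer_iff.1 (inv_mem g.2)) a).1 ha
        have h2 := Subgroup.mem_centralizer_iff.1 hk _ h1
        calc a * ((g : G) * k * (g : G)⁻¹) = g * (((g : G)⁻¹ * a * g) * k) * (g : G)⁻¹ := by group
          _ = g * (k * ((g : G)⁻¹ * a * g)) * (g : G)⁻¹ := by
            have h3 : ((g : G)⁻¹ * a * g) * (k : G) = (k : G) * ((g : G)⁻¹ * a * g) := h2
            rw [h3]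
          _ = (g : G) * k * (g : G)⁻¹ * a := by group
      obtain ⟨k, hk⟩ := S.isPGroup' ⟨n, hnS⟩
      have hk' : (⟨n, hnN⟩ : N) ^ 2 ^ k = 1 := Subtype.ext (by simpa using congrArg Subtype.val hk)
      have hWN : (W : Subgroup G) ≤ N := hW.trans fun c hc => Subgroup.mem_normalizer_iff.2 fun a => by
        constructor
        · intro ha
          rwa [← Subgroup.mem_centralizer_iff.1 hc a ha, mul_inv_cancel_right]
        · intro ha
          have := Subgroup.mem_centralizer_iff.1 (inv_mem hc) _ ha
          have e : c⁻¹ * (c * a * c⁻¹) * c = a := by group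
          rw [← this, mul_assoc, inv_mul_cancel, mul_one] at e
          rwa [e] at ha
      have hodd : Nat.Coprime 2 K.index := by
        have h1 : K.index ∣ (W : Subgroup G).index := by
          have h2 : K.index = (Subgroup.centralizer (A : Set G)).relIndex N := rfl
          rw [h2]
          exact (Subgroup.relIndex_dvd_of_le_left N hW).trans (Subgroup.relIndex_dvd_index_of_le hWN)
        exact Nat.Coprime.coprime_dvd_right h1 ((Nat.Prime.coprime_iff_not_dvd Nat.prime_two).2 W.not_dvd_index)
      have hnc := CfsgLib.InvChar.mem_of_normal_of_coprime_index hk' hodd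
      exact hnA (⟨hnS, Subgroup.mem_centralizer_singleton_iff.2 (Subgroup.mem_centralizer_iff.1 hnc x hxA).symm⟩)
    · intro s hs
      exact Subgroup.mem_centralizer_singleton_iff.1 (hW.symm ▸ hs : s ∈ A).2
  constructor
  · intro x hx P hP hPc
    by_cases hxZ : ∀ s ∈ (S : Subgroup G), s * x = x * s
    · have h1 : (S : Subgroup G) ⊓ Subgroup.centralizer ({x} : Set G) = S :=
        inf_eq_left.2 fun s hs => Subgroup.mem_centralizer_singleton_iff.2 (hxZ s hs)
      rw [h1]
      obtain ⟨R, hR⟩ := hP.exists_le_sylow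
      exact (Subgroup.card_le_of_le hR).trans_eq (Sylow.card_eq_multiplicity R |>.trans (Sylow.card_eq_multiplicity S).symm)
    · have hxp : IsPGroup 2 ↥(Subgroup.zpowers x) := S.isPGroup'.to_le (Subgroup.zpowers_le.2 hx)
      have hnorm : P ≤ Subgroup.normalizer (Subgroup.zpowers x : Set G) := fun p hp =>
        Subgroup.mem_normalizer_iff.2 fun a => by
          have hc : ∀ a ∈ Subgroup.zpowers x, p * a = a * p := fun a ha => by
            obtain ⟨i, rfl⟩ := Subgroup.mem_zpowers_iff.1 ha
            exact (Commute.zpow_right (Subgroup.mem_centralizer_singleton_iff.1 (hPc hp)) i)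
          constructor
          · intro ha; rwa [hc a ha, mul_inv_cancel_right]
          · intro ha
            have h := hc _ ha
            rw [inv_mul_cancel_right] at h
            rwa [mul_left_cancel h] at ha
      obtain ⟨R, hR⟩ := (hP.to_sup_of_normal_right' hxp hnorm).exists_le_sylow
      have hRS : S = R := by
        by_contra hne
        exact hxZ (key S R hne x hx (hR (le_sup_right (a := P) (Subgroup.mem_zpowers x))))
      subst hRS
      exact Subgroup.card_le_of_le (le_inf ((le_sup_left).trans hR) hPc)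
  · intro T hT x hx
    refine ⟨⟨⟨x, hx.1⟩, Subgroup.mem_center_iff.2 fun g => Subtype.ext (key S T hT.symm x hx.1 hx.2 g g.2), rfl⟩,
      ⟨⟨x, hx.2⟩, Subgroup.mem_center_iff.2 fun g => Subtype.ext (key T S hT x hx.2 hx.1 g g.2), rfl⟩⟩

end Cfsg.Agent.S3183
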