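import Cfsg.Statements.S3184
import Mathlib.GroupTheory.Sylow
import Mathlib.GroupTheory.SpecificGroups.Cyclic
import Cfsg.Agent.S3183
import Cfsg.Agent.Lib.Invol.BrauerSuzuki

set_option autoImplicit false
open Cfsg

namespace Cfsg.Agent.S3184

/-- Let G be a finite group in which the intersection of any two distinct Sylow 2-subgroups is contained in the centre of some Sylow 2-subgroup, and let S be a Sylow 2-subgroup. If C is a nontrivial cyclic characteristic subgroup of S, then the involution of C is central modulo the largest normal subgroup of odd order of G: each of its conjugates has the same image in G/O(G). -/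
theorem result {G : Type*} [Group G] [Finite G]
    (hCI : ∀ S T : Sylow 2 G, S ≠ T → ∃ U : Sylow 2 G,
      (S : Subgroup G) ⊓ (T : Subgroup G) ≤ (Subgroup.center ↥(U : Subgroup G)).map (U : Subgroup G).subtype)
    (S : Sylow 2 G) (C : Subgroup ↥(S : Subgroup G)) (hC : C ≠ ⊥) (hCc : IsCyclic ↥C) (hCh : C.Characteristic)
    (c : ↥(S : Subgroup G)) (hc : c ∈ C) (hc2 : orderOf c = 2) :
    ∀ g : G, (QuotientGroup.mk (s := Cfsg.oddCore G) (g * (c : G) * g⁻¹)) =
      QuotientGroup.mk (s := Cfsg.oddCore G) (c : G) := by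
  haveI : Fact (Nat.Prime 2) := ⟨Nat.prime_two⟩
  haveI := hCc
  -- the involution of C is fixed by every automorphism of S
  have hfix : ∀ f : ↥(S : Subgroup G) ≃* ↥(S : Subgroup G), f c = c := by
    intro f
    have hmem : f c ∈ C := by
      have := Subgroup.mem_map_of_mem f.toMonoidHom hc
      rwa [Subgroup.characteristic_iff_map_eq.1 hCh f] at this
    have h1 : orderOf (⟨f c, hmem⟩ : C) = 2 := by rw [← Subgroup.orderOf_coe, MulEquiv.orderOf_eq, hc2]
    have h2 : orderOf (⟨c, hc⟩ : C) = 2 := by rw [← Subgroup.orderOf_coe, hc2]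
    haveI : Fintype C := Fintype.ofFinite C
    have hcard := IsCyclic.card_orderOf_eq_totient (α := C) (d := 2)
      (by have := orderOf_dvd_card (x := (⟨c, hc⟩ : C)); rwa [h2] at this)
    rw [Nat.totient_two, Finset.card_eq_one] at hcard
    obtain ⟨y, hy⟩ := hcard
    have ha : (⟨f c, hmem⟩ : C) ∈ ({y} : Finset C) := hy ▸ Finset.mem_filter.2 ⟨Finset.mem_univ _, h1⟩
    have hb : (⟨c, hc⟩ : C) ∈ ({y} : Finset C) := hy ▸ Finset.mem_filter.2 ⟨Finset.mem_univ _, h2⟩
    exact congrArg Subtype.val ((Finset.mem_singleton.1 ha).trans (Finset.mem_singleton.1 hb).symm)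
  have hcen : ∀ s ∈ (S : Subgroup G), s * (c : G) = (c : G) * s := by
    intro s hs
    have := congrArg Subtype.val (hfix (MulAut.conj ⟨s, hs⟩))
    simp only [MulAut.conj_apply, Subgroup.coe_mul, InvMemClass.coe_inv] at this
    calc s * (c : G) = s * (c : G) * s⁻¹ * s := by group
      _ = (c : G) * s := by rw [this]
  have hN : ∀ n ∈ Subgroup.normalizer ((S : Subgroup G) : Set G), n * (c : G) * n⁻¹ = c := by
    intro n hn
    have := congrArg Subtype.val (hfix ((S : Subgroup G).normalizerMonoidHom ⟨n, hn⟩))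
    exact this
  -- a conjugate of c in S is central in S
  have hiso : ∀ g : G, g * (c : G) * g⁻¹ ∈ (S : Subgroup G) → g * (c : G) * g⁻¹ = c := by
    intro g hg
    have hd : ∀ s ∈ (S : Subgroup G), s * (g * (c : G) * g⁻¹) = g * (c : G) * g⁻¹ * s := by
      have hT : g * (c : G) * g⁻¹ ∈ ((g • S : Sylow 2 G) : Subgroup G) := ⟨c, c.2, rfl⟩
      intro s hs
      by_cases hne : g • S = S
      · have hs' : s ∈ ((g • S : Sylow 2 G) : Subgroup G) := by rw [hne]; exact hs
        obtain ⟨t, ht, rfl⟩ := hs'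
        show g * t * g⁻¹ * _ = _ * (g * t * g⁻¹)
        calc g * t * g⁻¹ * (g * (c : G) * g⁻¹) = g * (t * c) * g⁻¹ := by group
          _ = g * ((c : G) * t) * g⁻¹ := by rw [hcen t ht]
          _ = _ := by group
      · obtain ⟨⟨⟨b, hbS⟩, hb, hbe⟩, -⟩ := (Cfsg.Agent.S3183.result hCI S).2 (g • S) hne ⟨hg, hT⟩
        have := congrArg Subtype.val (Subgroup.mem_center_iff.1 hb ⟨s, hs⟩)
        simp only [Subgroup.coe_subtype] at hbe
        rw [← hbe]
        exact this
    obtain ⟨n, hn, he⟩ := S.conj_eq_normalizer_conj_of_mem_centralizer (c : G) g⁻¹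
      (Subgroup.mem_centralizer_iff.2 hcen) (Subgroup.mem_centralizer_iff.2 fun s hs => by simpa using hd s hs)
    rw [inv_inv] at he
    rw [he]
    simpa using hN n⁻¹ (inv_mem hn)
  intro g
  have hc2' : orderOf (c : G) = 2 := by rw [Subgroup.orderOf_coe, hc2]
  have hz := CfsgLib.Invol.zstar G (CfsgLib.Invol.isolated_of_sylow S hc2' c.2 hiso) g⁻¹
  rw [inv_inv] at hz
  have h2 := (CfsgLib.Solvable.pPrimeCore_normal 2 G).conj_mem _ hz g
  rw [QuotientGroup.eq]
  have hcc : (c : G)⁻¹ = c := by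
    have h := pow_orderOf_eq_one (c : G)
    rw [hc2', sq] at h
    exact inv_eq_of_mul_eq_one_left h
  have e : (g * (c : G) * g⁻¹)⁻¹ * c = g * ((c : G) * g⁻¹ * (c : G)⁻¹ * g) * g⁻¹ := by
    simp only [mul_inv_rev, inv_inv, hcc]
    group
  rw [e]
  exact h2

end Cfsg.Agent.S3184
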