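import Cfsg.Statements.S3190
import Mathlib.Tactic
import Cfsg.Agent.Lib.InvChar.Basic

set_option autoImplicit false
open Cfsg

namespace Cfsg.Agent.S3190

/-- Let p be an odd prime and, inside a finite group, let P be a p-subgroup normalized by a Klein four-group T. Let R be a subgroup of P, normal in P and normalized by T, such that P is the product of R with the centralizer of T in P. If T centralizes the centre of P, then T centralizes the centre of R. -/
theorem result {X : Type*} [Group X] [Finite X]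
    {p : ℕ} (hp : p.Prime) (hodd : Odd p) (P T R : Subgroup X) (hP : IsPGroup p ↥P) (hT : IsKleinFour ↥T)
    (hTP : T ≤ Subgroup.normalizer (P : Set X)) (hRP : R ≤ P) (hRn : (R.subgroupOf P).Normal)
    (hTR : T ≤ Subgroup.normalizer (R : Set X)) (hfac : R ⊔ (P ⊓ Subgroup.centralizer (T : Set X)) = P)
    (hZ : T ≤ Subgroup.centralizer (((Subgroup.center ↥P).map P.subtype : Subgroup X) : Set X)) :
    T ≤ Subgroup.centralizer (((Subgroup.center ↥R).map R.subtype : Subgroup X) : Set X) := by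
  haveI := Fact.mk hp
  have hp2 : ∀ z ∈ P, z * z = 1 → z = 1 := by
    intro z hz h
    obtain ⟨k, hk⟩ := hP ⟨z, hz⟩
    have hzk : z ^ p ^ k = 1 := by simpa using congrArg Subtype.val hk
    have h1 : orderOf z ∣ p ^ k := orderOf_dvd_of_pow_eq_one hzk
    have h2 : orderOf z ∣ 2 := orderOf_dvd_of_pow_eq_one (by rwa [pow_two])
    rw [← orderOf_eq_one_iff]
    exact Nat.eq_one_of_dvd_coprimes ((Nat.coprime_two_left.2 hodd.pow).symm) h1 h2
  intro t ht
  rw [Subgroup.mem_centralizer_iff]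
  rintro a ⟨a', ha', rfl⟩
  by_contra hne
  let A := (Subgroup.center ↥R).map R.subtype
  have hA : ∀ {a}, a ∈ A ↔ a ∈ R ∧ ∀ r ∈ R, r * a = a * r := by
    intro a
    constructor
    · rintro ⟨b, hb, rfl⟩
      exact ⟨b.2, fun r hr => congrArg Subtype.val (Subgroup.mem_center_iff.1 hb ⟨r, hr⟩)⟩
    · rintro ⟨h1, h2⟩
      exact ⟨⟨a, h1⟩, Subgroup.mem_center_iff.2 fun r => Subtype.ext (h2 r r.2), rfl⟩
  have ht2 : t * t = 1 := congrArg Subtype.val (IsKleinFour.mul_self (⟨t, ht⟩ : T))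
  have htn := Subgroup.mem_normalizer_iff.1 (hTR ht)
  let D : Subgroup X :=
    { carrier := {a | a ∈ A ∧ t * a * t⁻¹ = a⁻¹}
      one_mem' := ⟨one_mem A, by simp⟩
      mul_mem' := fun {a b} ha hb => ⟨mul_mem ha.1 hb.1, by
        have hc : b * a = a * b := (hA.1 ha.1).2 b (hA.1 hb.1).1
        calc t * (a * b) * t⁻¹ = (t * a * t⁻¹) * (t * b * t⁻¹) := by group
          _ = a⁻¹ * b⁻¹ := by rw [ha.2, hb.2]
          _ = (a * b)⁻¹ := by rw [← hc, mul_inv_rev]⟩
      inv_mem' := fun {a} ha => ⟨inv_mem ha.1, by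
        have h := congrArg (·⁻¹) ha.2
        simpa [mul_assoc] using h⟩ }
  have hAinv : ∀ g, g ∈ P → ∀ a ∈ A, g * a * g⁻¹ ∈ A := by
    intro g hg a ha
    obtain ⟨h1, h2⟩ := hA.1 ha
    have hn : ∀ g, g ∈ P → ∀ r ∈ R, g * r * g⁻¹ ∈ R := fun g hg r hr =>
      hRn.conj_mem ⟨r, hRP hr⟩ hr ⟨g, hg⟩
    refine hA.2 ⟨hn g hg a h1, fun r hr => ?_⟩
    have h3 := h2 _ (hn g⁻¹ (inv_mem hg) r hr)
    rw [inv_inv] at h3
    calc r * (g * a * g⁻¹) = g * ((g⁻¹ * r * g) * a) * g⁻¹ := by group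
      _ = g * (a * (g⁻¹ * r * g)) * g⁻¹ := by rw [h3]
      _ = g * a * g⁻¹ * r := by group
  have hDn : P ≤ Subgroup.normalizer (D : Set X) := by
    rw [← hfac]
    refine sup_le (fun r hr => ?_) (fun c hc => ?_)
    · refine Subgroup.mem_normalizer_iff.2 fun d => ?_
      have key : ∀ d, d ∈ D → ∀ r ∈ R, r * d * r⁻¹ = d := fun d hd r hr => by
        rw [(hA.1 hd.1).2 r hr, mul_inv_cancel_right]
      constructor
      · intro hd; rwa [key d hd r hr]
      · intro hd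
        have := key _ hd r⁻¹ (inv_mem hr)
        have e : r⁻¹ * (r * d * r⁻¹) * r⁻¹⁻¹ = d := by group
        rw [e] at this
        rw [this]; exact hd
    · have hct : t * c = c * t := Subgroup.mem_centralizer_iff.1 hc.2 t ht
      have key : ∀ c, c ∈ P → t * c = c * t → ∀ d ∈ D, c * d * c⁻¹ ∈ D := fun c hc hct d hd =>
        ⟨hAinv c hc d hd.1, by
          have hct' : c⁻¹ * t⁻¹ = t⁻¹ * c⁻¹ := by rw [← mul_inv_rev, hct, mul_inv_rev]
          calc t * (c * d * c⁻¹) * t⁻¹ = (t * c) * d * (c⁻¹ * t⁻¹) := by group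
            _ = c * (t * d * t⁻¹) * c⁻¹ := by rw [hct, hct']; group
            _ = (c * d * c⁻¹)⁻¹ := by rw [hd.2]; group⟩
      refine Subgroup.mem_normalizer_iff.2 fun d => ⟨key c hc.1 hct d, fun hd => ?_⟩
      have hct2 : t * c⁻¹ = c⁻¹ * t := by
        rw [eq_inv_mul_iff_mul_eq, ← mul_assoc, ← hct, mul_inv_cancel_right]
      have := key c⁻¹ (inv_mem hc.1) hct2 _ hd
      simpa [mul_assoc] using this
  have hDP : D ≤ P := fun d hd => hRP (hA.1 hd.1).1
  have hb : t * a' * t⁻¹ * (a' : X)⁻¹ ∈ D := by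
    have ha : (a' : X) ∈ A := ⟨a', ha', rfl⟩
    have hta : t * a' * t⁻¹ ∈ A := by
      obtain ⟨h1, h2⟩ := hA.1 ha
      refine hA.2 ⟨(htn _).1 h1, fun r hr => ?_⟩
      have h3 := h2 (t⁻¹ * r * t) (by
        have := (htn (t⁻¹ * r * t)).2 (by simpa [mul_assoc] using hr)
        exact this)
      calc r * (t * a' * t⁻¹) = t * ((t⁻¹ * r * t) * a') * t⁻¹ := by group
        _ = t * (a' * (t⁻¹ * r * t)) * t⁻¹ := by rw [h3]
        _ = t * a' * t⁻¹ * r := by group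
    refine ⟨mul_mem hta (inv_mem ha), ?_⟩
    have ht' : t⁻¹ = t := inv_eq_of_mul_eq_one_right ht2
    have hc : (a' : X) * (t * a' * t⁻¹)⁻¹ = (t * a' * t⁻¹)⁻¹ * a' :=
      (hA.1 (inv_mem hta)).2 _ (hA.1 ha).1
    calc t * (t * a' * t⁻¹ * (a' : X)⁻¹) * t⁻¹ = (t * t) * a' * (t * t)⁻¹ * (t * a' * t⁻¹)⁻¹ := by group
      _ = (a' : X) * (t * a' * t⁻¹)⁻¹ := by rw [ht2]; group
      _ = (t * a' * t⁻¹ * (a' : X)⁻¹)⁻¹ := by group
  let D' := D.subgroupOf P
  haveI : D'.Normal := Subgroup.normal_subgroupOf_iff_le_normalizer hDP |>.2 hDn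
  have hD'ne : D' ≠ ⊥ := by
    intro h
    have h1 : (⟨_, hDP hb⟩ : P) ∈ D' := hb
    rw [h, Subgroup.mem_bot] at h1
    have h2 : t * a' * t⁻¹ * (a' : X)⁻¹ = 1 := congrArg Subtype.val h1
    exact hne (by rw [mul_inv_eq_one, mul_inv_eq_iff_eq_mul] at h2; exact h2.symm)
  obtain ⟨z, hz1, hzne, hzc⟩ := CfsgLib.InvChar.exists_mem_center_of_normal hP D' hD'ne
  have hzt := Subgroup.mem_centralizer_iff.1 (hZ ht) (z : X) ⟨z, hzc, rfl⟩
  have hz2 : t * (z : X) * t⁻¹ = (z : X)⁻¹ := hz1.2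
  rw [← hzt, mul_inv_cancel_right] at hz2
  exact hzne (Subtype.ext (hp2 _ z.2 (mul_eq_one_iff_eq_inv.2 hz2)))

end Cfsg.Agent.S3190
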