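import Cfsg.Statements.S3192
import Cfsg.Agent.Lib.InvChar.ConjRank.Even
import Cfsg.Agent.Lib.InvChar.ConjRank.PSLValues
import Cfsg.Agent.Lib.ClassK.SmallSimple

set_option autoImplicit false
open Cfsg

namespace Cfsg.Agent.S3192

open CfsgLib.InvChar.ConjRank

theorem ncard_index_eq {G : Type*} [Group G] [Finite G] (hcen : Subgroup.center G = ⊥) :
    Set.ncard {m : ℕ | ∃ x : G, x ∉ Subgroup.center G ∧ m = (Subgroup.centralizer ({x} : Set G)).index} =
      Set.ncard {v : ℕ | ∃ x : G, x ≠ 1 ∧ Nat.card (cent x) = v} := by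
  have hdiv : ∀ x : G, (cent x).index = Nat.card G / Nat.card (cent x) := fun x => by
    rw [← Subgroup.card_mul_index (cent x), Nat.mul_div_cancel_left _ Nat.card_pos]
  have himg : {m : ℕ | ∃ x : G, x ∉ Subgroup.center G ∧
      m = (Subgroup.centralizer ({x} : Set G)).index} =
      (fun v => Nat.card G / v) '' {v : ℕ | ∃ x : G, x ≠ 1 ∧ Nat.card (cent x) = v} := by
    ext m
    simp only [Set.mem_image, Set.mem_setOf_eq, hcen, Subgroup.mem_bot]
    constructor
    · rintro ⟨x, hx, rfl⟩
      exact ⟨_, ⟨x, hx, rfl⟩, (hdiv x).symm⟩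
    · rintro ⟨v, ⟨x, hx, rfl⟩, rfl⟩
      exact ⟨x, hx, (hdiv x).symm⟩
  rw [himg]
  refine Set.ncard_image_of_injOn ?_
  rintro _ ⟨x, -, rfl⟩ _ ⟨y, -, rfl⟩ h
  have h' : (cent x).index = (cent y).index := by rw [hdiv, hdiv]; exact h
  have e1 := Subgroup.card_mul_index (cent x)
  rw [h', ← Subgroup.card_mul_index (cent y)] at e1
  exact Nat.eq_of_mul_eq_mul_right (Nat.pos_of_ne_zero Subgroup.index_ne_zero_of_finite) e1

theorem center_eq_bot {G : Type*} [Group G] [IsSimpleGroup G] (hG : ¬ IsMulCommutative G) :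
    Subgroup.center G = ⊥ := by
  rcases Subgroup.Normal.eq_bot_or_eq_top (inferInstance : (Subgroup.center G).Normal) with h | h
  · exact h
  · exact absurd ⟨⟨fun a b => (Subgroup.mem_center_iff.mp (by rw [h]; trivial :
      b ∈ Subgroup.center G)) a⟩⟩ hG

theorem values_congr {G H : Type*} [Group G] [Group H] (e : G ≃* H) :
    {v : ℕ | ∃ x : G, x ≠ 1 ∧ Nat.card (cent x) = v} =
      {v : ℕ | ∃ x : H, x ≠ 1 ∧ Nat.card (cent x) = v} := by
  have hc : ∀ x : G, Nat.card (cent x) = Nat.card (cent (e x)) := fun x =>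
    Nat.card_congr (e.toEquiv.subtypeEquiv fun u => by
      show u ∈ cent x ↔ e u ∈ cent (e x)
      rw [mem_cent, mem_cent]
      exact ⟨fun h => h.map e.toMonoidHom, fun h => by simpa using h.map e.symm.toMonoidHom⟩)
  ext v
  constructor
  · rintro ⟨x, hx, rfl⟩
    exact ⟨e x, by simpa using hx, (hc x).symm⟩
  · rintro ⟨y, hy, rfl⟩
    exact ⟨e.symm y, by simpa using hy, by rw [hc, e.apply_symm_apply]⟩

/-- Simple groups of conjugate type rank three. For a finite group G consider the set of indices of the centralizers of the non-central elements of G. Then G is a non-abelian simple group for which this set has exactly three members if and only if G is isomorphic to PSL(2, 2^m) for some m ≥ 2. -/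
theorem result (G : Type*) [Group G] [Finite G] :
    (IsSimpleGroup G ∧ ¬ IsMulCommutative G ∧
        Set.ncard {m : ℕ | ∃ x : G, x ∉ Subgroup.center G ∧ m = (Subgroup.centralizer ({x} : Set G)).index} = 3) ↔
      ∃ (m : ℕ) (F : Type) (_ : Field F) (_ : Fintype F), 2 ≤ m ∧ Fintype.card F = 2 ^ m ∧
        Nonempty (G ≃* Matrix.ProjectiveSpecialLinearGroup (Fin 2) F) := by
  constructor
  · rintro ⟨hs, hG, h3⟩
    rw [ncard_index_eq (center_eq_bot hG)] at h3
    obtain ⟨F, hF, hFF, f, hf, hq, he⟩ := exists_psl_of_three hG h3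
    exact ⟨f, F, hF, hFF, hf, hq, he⟩
  · rintro ⟨m, F, hF, hFF, hm, hq, ⟨e⟩⟩
    have h4 : 4 ≤ Fintype.card F := by
      rw [hq]; exact le_trans (by norm_num) (Nat.pow_le_pow_right two_pos hm)
    have h2 : (2 : F) = 0 := by
      have h0 := Nat.cast_card_eq_zero F
      rw [hq, Nat.cast_pow, Nat.cast_ofNat] at h0
      exact (pow_eq_zero_iff (by omega)).1 h0
    have := CfsgLib.ClassK.isSimpleGroup_psl_two h4
    have : Nontrivial G := e.toEquiv.nontrivial
    have hsimple : IsSimpleGroup G := IsSimpleGroup.isSimpleGroup_of_surjective e.symm.toMonoidHom e.symm.surjective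
    have hcen : Subgroup.center (Matrix.SpecialLinearGroup (Fin 2) F) = ⊥ := by
      rw [Subgroup.eq_bot_iff_forall]
      intro g hg
      refine sl_eq_one_of_scalar h2 ?_
      obtain ⟨r, -, hr⟩ := Matrix.SpecialLinearGroup.mem_center_iff.1 hg
      rw [← hr]
      simp
    let e' : G ≃* Matrix.SpecialLinearGroup (Fin 2) F :=
      e.trans ((QuotientGroup.quotientMulEquivOfEq hcen).trans QuotientGroup.quotientBot)
    have hval : {v : ℕ | ∃ x : G, x ≠ 1 ∧ Nat.card (cent x) = v}.ncard = 3 := by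
      rw [values_congr e', cent_values h2 h4, Set.ncard_eq_three]
      exact ⟨_, _, _, by omega, by omega, by omega, rfl⟩
    have hG : ¬ IsMulCommutative G := by
      intro hc
      have hsub : {v : ℕ | ∃ x : G, x ≠ 1 ∧ Nat.card (cent x) = v} ⊆ {Nat.card G} := by
        rintro _ ⟨x, -, rfl⟩
        rw [Set.mem_singleton_iff, show cent x = ⊤ from (eq_top_iff.2 fun u _ =>
          mem_cent.2 (hc.is_comm.comm u x)), Subgroup.card_top]
      have := Set.ncard_le_ncard hsub (Set.finite_singleton _)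
      rw [hval, Set.ncard_singleton] at this
      omega
    exact ⟨hsimple, hG, by rw [ncard_index_eq (center_eq_bot hG), hval]⟩

end Cfsg.Agent.S3192
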