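import Cfsg.Statements.S3195
import Cfsg.Agent.Lib.Invol.BaerSuzuki
import Cfsg.Agent.Lib.Invol.Isolated

set_option autoImplicit false
open Cfsg

namespace Cfsg.Agent.S3195

open CfsgLib.Invol

variable {G : Type*} [Group G]

theorem eq_one_of_odd_pow {d : G} {k : ℕ} (hd : Odd (orderOf d)) (h : d ^ 2 ^ k = 1) : d = 1 :=
  orderOf_eq_one_iff.1 (Nat.eq_one_of_dvd_coprimes ((Nat.coprime_two_right.2 hd).pow_right k)
    dvd_rfl (orderOf_dvd_of_pow_eq_one h))

theorem odd_inv_pow {d : G} (hd : Odd (orderOf d)) (i : ℕ) : Odd (orderOf (d ^ i)) :=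
  hd.of_dvd_nat (orderOf_pow_dvd i)

/-- An element of odd order whose square commutes with something commutes with it. -/
theorem commute_of_sq_commute {d y : G} (hd : Odd (orderOf d)) (h : Commute y (d * d)) : Commute y d := by
  obtain ⟨m, hm⟩ := hd
  have e : d = (d * d) ^ (m + 1) := by
    rw [← pow_two, ← pow_mul, show 2 * (m + 1) = (2 * m + 1) + 1 by ring, ← hm, pow_succ,
      pow_orderOf_eq_one, one_mul]
  rw [e]; exact h.pow_right _

variable {a b c : G}

/-- `d` is moved by `a` to its inverse and centralised by `b`. -/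
def Rel (a b d : G) : Prop := Odd (orderOf d) ∧ d ≠ 1 ∧ a * d * a⁻¹ = d⁻¹ ∧ b * d * b⁻¹ = d

theorem Rel.pow {d : G} (h : Rel a b d) {i : ℕ} (hi : i.Coprime (orderOf d)) : Rel a b (d ^ i) := by
  refine ⟨odd_inv_pow h.1 i, fun h1 => h.2.1 ?_, conj_pow_inv h.2.2.1 i, ?_⟩
  · exact orderOf_eq_one_iff.1 (Nat.eq_one_of_dvd_coprimes hi (orderOf_dvd_of_pow_eq_one h1) dvd_rfl)
  · rw [← conj_pow, h.2.2.2]

theorem Rel.inv {d : G} (h : Rel a b d) : Rel a b d⁻¹ := by
  refine ⟨by rw [orderOf_inv]; exact h.1, by simpa using h.2.1, ?_, ?_⟩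
  · rw [← conj_inv, h.2.2.1]
  · rw [← conj_inv, h.2.2.2]

/-- The product `a * b` inverts `d`. -/
theorem Rel.third {d : G} (h : Rel a b d) (hc : c = a * b) : c * d * c⁻¹ = d⁻¹ := by
  rw [hc, show a * b * d * (a * b)⁻¹ = a * (b * d * b⁻¹) * a⁻¹ by group, h.2.2.2, h.2.2.1]

/-- Every conjugate of a member of the four-group commutes with one of its involutions. -/
def Covers (a b c x : G) : Prop :=
  ∀ g : G, Commute a (g * x * g⁻¹) ∨ Commute b (g * x * g⁻¹) ∨ Commute c (g * x * g⁻¹)

/-- An involution of the four-group outside the 2-core inverts an odd element centralised by another one. -/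
theorem exists_rel [Finite G] (ha : orderOf a = 2) (hcov : Covers a b c a)
    (hO : a ∉ Cfsg.pCore 2 G) (hba : Commute b a) (hca : Commute c a) :
    ∃ d, Rel a b d ∨ Rel a c d := by
  classical
  haveI : Fact (Nat.Prime 2) := ⟨Nat.prime_two⟩
  obtain ⟨g, hg⟩ : ∃ g : G, ∀ k : ℕ, (a * (g * a * g⁻¹)) ^ 2 ^ k ≠ 1 := by
    by_contra hcon
    simp only [not_exists, not_forall, not_not] at hcon
    refine hO (baer_suzuki_mem_pCore (p := 2) fun g => ?_)
    obtain ⟨j, hj⟩ := hcon g
    have hv : orderOf (g * a * g⁻¹) = 2 := by rw [orderOf_conj_eq, ha]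
    rintro ⟨x, hx⟩
    obtain ⟨k, rfl | rfl⟩ := (mem_closure_pair ha hv).1 hx
    · refine ⟨j, Subtype.ext ?_⟩
      simp only [SubmonoidClass.mk_pow, OneMemClass.coe_one]
      rw [← zpow_natCast, ← zpow_mul, mul_comm, zpow_mul, zpow_natCast, hj, one_zpow]
    · refine ⟨1, Subtype.ext ?_⟩
      simp only [pow_one, SubmonoidClass.mk_pow, OneMemClass.coe_one]
      rw [pow_two]
      exact refl_sq ha hv k
  set u := a * (g * a * g⁻¹) with hu
  have hai : a * u * a⁻¹ = u⁻¹ := conj_left_mul ha (by rw [orderOf_conj_eq, ha])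
  obtain ⟨k, m, hm, hkm⟩ := Nat.exists_eq_two_pow_mul_odd (orderOf_pos u).ne'
  set d := u ^ 2 ^ k with hd
  have hdo : orderOf d = m := by
    rw [hd, orderOf_pow' _ (by positivity), hkm, Nat.gcd_eq_right (dvd_mul_right _ _),
      Nat.mul_div_cancel_left _ (by positivity)]
  have hd1 : d ≠ 1 := hg k
  have hodd : Odd (orderOf d) := hdo ▸ hm
  have hinv : a * d * a⁻¹ = d⁻¹ := conj_pow_inv hai _
  have hw : d * a * d⁻¹ = d * d * a := by
    have e : a * d⁻¹ = d * a := by
      rw [← mul_inv_eq_iff_eq_mul, ← conj_inv, hinv, inv_inv]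
    rw [mul_assoc d a, e, ← mul_assoc]
  have key : ∀ y : G, Commute y a → Commute y (d * a * d⁻¹) → y * d * y⁻¹ = d := by
    intro y hya hy
    rw [hw] at hy
    have h2 : Commute y (d * d) := by
      have := hy.mul_right hya.inv_right
      rwa [mul_inv_cancel_right] at this
    exact mul_inv_eq_iff_eq_mul.2 (commute_of_sq_commute hodd h2).eq
  rcases hcov d with h | h | h
  · exfalso
    have h2 := key a (Commute.refl a) h
    rw [hinv] at h2
    refine hd1 (eq_one_of_odd_pow (k := 1) hodd ?_)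
    rw [pow_one, pow_two]
    nth_rewrite 1 [← h2]
    exact inv_mul_cancel d
  · exact ⟨d, Or.inl ⟨hodd, hd1, hinv, key b hba h⟩⟩
  · exact ⟨d, Or.inr ⟨hodd, hd1, hinv, key c hca h⟩⟩

/-- In the mutual case a conjugate of the third involution gives an involution. -/
theorem mutual_sq (hc : c = a * b) (hco : orderOf c = 2)
    (hcov : Covers a b c c) (hac : Commute a c) (hbc : Commute b c) {d e : G}
    (hd : Rel a b d) (he : Rel b a e) (hba : c = b * a) :
    (e * (d * d) * e) * (e * (d * d) * e) = 1 := by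
  have hcd := hd.third hc
  have hce := he.third hba
  set M := e * (d * d) * e with hM
  have hw : (e * d) * c * (e * d)⁻¹ = M * c := by
    have e1 : c * d⁻¹ = d * c := by rw [← mul_inv_eq_iff_eq_mul, ← conj_inv, hcd, inv_inv]
    have e2 : c * e⁻¹ = e * c := by rw [← mul_inv_eq_iff_eq_mul, ← conj_inv, hce, inv_inv]
    calc (e * d) * c * (e * d)⁻¹ = e * d * (c * d⁻¹) * e⁻¹ := by group
      _ = e * (d * d) * (c * e⁻¹) := by rw [e1]; group
      _ = M * c := by rw [e2, hM]; group
  have conjM : ∀ y : G, y * M * y⁻¹ =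
      (y * e * y⁻¹) * ((y * d * y⁻¹) * (y * d * y⁻¹)) * (y * e * y⁻¹) := fun y => by rw [hM]; group
  have key : ∀ y : G, Commute y c → Commute y (M * c) → y * M * y⁻¹ = M := by
    intro y hyc hy
    have := hy.mul_right hyc.inv_right
    rw [mul_inv_cancel_right] at this
    exact mul_inv_eq_iff_eq_mul.2 this.eq
  rcases hcov (e * d) with h | h | h <;> rw [hw] at h
  · exfalso
    have h2 := key a hac h
    rw [conjM, he.2.2.2, hd.2.2.1, hM, mul_left_inj, mul_right_inj] at h2
    refine hd.2.1 (eq_one_of_odd_pow (k := 2) hd.1 ?_)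
    calc d ^ 2 ^ 2 = (d * d) * (d * d) := by simp [pow_succ, mul_assoc]
      _ = (d * d) * (d⁻¹ * d⁻¹) := by rw [h2]
      _ = 1 := by group
  · exfalso
    have h2 := key b hbc h
    rw [conjM, hd.2.2.2, he.2.2.1, hM] at h2
    have h3 : (d * d) = (e * e) * (d * d) * (e * e) := by
      calc d * d = e * (e⁻¹ * (d * d) * e⁻¹) * e := by group
        _ = e * (e * (d * d) * e) * e := by rw [h2]
        _ = _ := by group
    -- conjugating by `d * d` inverts `e * e`
    have h4 : (d * d) * (e * e) * (d * d)⁻¹ = (e * e)⁻¹ := by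
      calc (d * d) * (e * e) * (d * d)⁻¹ = (e * e)⁻¹ * ((e * e) * (d * d) * (e * e)) * (d * d)⁻¹ := by group
        _ = (e * e)⁻¹ * (d * d) * (d * d)⁻¹ := by rw [← h3]
        _ = (e * e)⁻¹ := mul_inv_cancel_right _ _
    have h5 : (d * d) * (d * d) * (e * e) * ((d * d) * (d * d))⁻¹ = e * e := by
      rw [show (d * d) * (d * d) * (e * e) * ((d * d) * (d * d))⁻¹ =
        (d * d) * ((d * d) * (e * e) * (d * d)⁻¹) * (d * d)⁻¹ by group, h4, ← conj_inv, h4, inv_inv]
    have h6 : Commute (e * e) (d * d) := commute_of_sq_commute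
      (by rw [← pow_two]; exact odd_inv_pow hd.1 2) (mul_inv_eq_iff_eq_mul.1 h5).symm
    rw [(mul_inv_eq_iff_eq_mul.2 h6.symm.eq)] at h4
    refine he.2.1 (eq_one_of_odd_pow (k := 2) he.1 ?_)
    calc e ^ 2 ^ 2 = (e * e) * (e * e) := by simp [pow_succ, mul_assoc]
      _ = 1 := mul_eq_one_iff_eq_inv.2 h4
  · have h2 := key c (Commute.refl c) h
    rw [conjM, hcd, hce] at h2
    have e3 : e⁻¹ * (d⁻¹ * d⁻¹) * e⁻¹ = M⁻¹ := by rw [hM]; group
    rw [e3] at h2
    nth_rewrite 1 [← h2]
    exact inv_mul_cancel M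

/-- No two involutions of the four-group centralise elements inverted by each other. -/
theorem not_mutual (hc : c = a * b) (hba : c = b * a) (hco : orderOf c = 2)
    (hcov : Covers a b c c) (hac : Commute a c) (hbc : Commute b c) {d e : G}
    (hd : Rel a b d) (he : Rel b a e) : False := by
  have step : ∀ d e : G, Rel a b d → Rel b a e →
      (d * d) * (e * e) * (d * d) = (e * e)⁻¹ := by
    intro d e hd he
    have h := mutual_sq hc hco hcov hac hbc hd he hba
    calc (d * d) * (e * e) * (d * d) = e⁻¹ * (e * (d * d) * e * (e * (d * d) * e)) * e⁻¹ := by group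
      _ = (e * e)⁻¹ := by rw [h]; group
  have h2 : (2 : ℕ).Coprime (orderOf d) := Nat.coprime_two_left.2 hd.1
  have s1 := step d e hd he
  have s2 := step d e⁻¹ hd he.inv
  have s3 := step (d ^ 2) e (hd.pow h2) he
  rw [show e⁻¹ * e⁻¹ = (e * e)⁻¹ by group, inv_inv] at s2
  rw [show d ^ 2 = d * d from pow_two d] at s3
  refine he.2.1 (eq_one_of_odd_pow (k := 2) he.1 ?_)
  calc e ^ 2 ^ 2 = (e * e) * (e * e) := by simp [pow_succ, mul_assoc]
    _ = 1 := mul_eq_one_iff_eq_inv.2 ?_
  rw [← s3, show d * d * (d * d) * (e * e) * (d * d * (d * d)) =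
    (d * d) * ((d * d) * (e * e) * (d * d)) * (d * d) by group, s1, s2]

/-- The cyclic pattern is impossible. -/
theorem not_chain (hc : c = a * b) (habc : a = b * c) (ha : orderOf a = 2)
    (hcova : Covers a b c a) (hcovc : Covers a b c c) (hab : Commute a b) (hac : Commute a c)
    (hbc : Commute b c) {d e : G} (hd : Rel a b d) (he : Rel b c e) : False := by
  have hcd := hd.third hc
  have hae := he.third habc
  have had := hd.2.2.1
  have hbd := hd.2.2.2
  have hbe := he.2.2.1
  have hce := he.2.2.2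
  -- `e * e` commutes with `d * d`
  set D := e * (d * d) * e⁻¹ with hD
  have conjD : ∀ y : G, y * D * y⁻¹ =
      (y * e * y⁻¹) * ((y * d * y⁻¹) * (y * d * y⁻¹)) * (y * e * y⁻¹)⁻¹ := fun y => by rw [hD]; group
  have hw : (e * d) * c * (e * d)⁻¹ = D * c := by
    have e1 : c * d⁻¹ = d * c := by rw [← mul_inv_eq_iff_eq_mul, ← conj_inv, hcd, inv_inv]
    have e2 : c * e⁻¹ = e⁻¹ * c := by rw [← mul_inv_eq_iff_eq_mul, ← conj_inv, hce]
    calc (e * d) * c * (e * d)⁻¹ = e * d * (c * d⁻¹) * e⁻¹ := by group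
      _ = e * (d * d) * (c * e⁻¹) := by rw [e1]; group
      _ = D * c := by rw [e2, hD]; group
  have key : ∀ y : G, Commute y c → Commute y (D * c) → y * D * y⁻¹ = D := by
    intro y hyc hy
    have := hy.mul_right hyc.inv_right
    rw [mul_inv_cancel_right] at this
    exact mul_inv_eq_iff_eq_mul.2 this.eq
  have hee : Odd (orderOf (e * e)) := by rw [← pow_two]; exact odd_inv_pow he.1 2
  have hdd : Odd (orderOf (d * d)) := by rw [← pow_two]; exact odd_inv_pow hd.1 2
  have hcomm : Commute e d := by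
    suffices h : Commute (e * e) (d * d) from
      (commute_of_sq_commute he.1 (commute_of_sq_commute hd.1 h).symm).symm
    rcases hcovc (e * d) with h | h | h <;> rw [hw] at h
    · have h2 := key a hac h
      rw [conjD, hae, had, inv_inv, hD] at h2
      have h3 : (e * e) * (d * d) * (e * e)⁻¹ = (d * d)⁻¹ := by
        calc (e * e) * (d * d) * (e * e)⁻¹ = e * (e * (d * d) * e⁻¹) * e⁻¹ := by group
          _ = e * (e⁻¹ * (d⁻¹ * d⁻¹) * e) * e⁻¹ := by rw [h2]
          _ = _ := by group
      have h4 : (e * e) * (e * e) * (d * d) * ((e * e) * (e * e))⁻¹ = d * d := by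
        rw [show (e * e) * (e * e) * (d * d) * ((e * e) * (e * e))⁻¹ =
          (e * e) * ((e * e) * (d * d) * (e * e)⁻¹) * (e * e)⁻¹ by group, h3, ← conj_inv, h3, inv_inv]
      exact (commute_of_sq_commute hee (mul_inv_eq_iff_eq_mul.1 h4).symm).symm
    · have h2 := key b hbc h
      rw [conjD, hbe, hbd, inv_inv, hD] at h2
      refine mul_inv_eq_iff_eq_mul.1 ?_
      calc (e * e) * (d * d) * (e * e)⁻¹ = e * (e * (d * d) * e⁻¹) * e⁻¹ := by group
        _ = e * (e⁻¹ * (d * d) * e) * e⁻¹ := by rw [h2]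
        _ = _ := by group
    · exfalso
      have h2 := key c (Commute.refl c) h
      rw [conjD, hce, hcd, hD, mul_left_inj, mul_right_inj] at h2
      refine hd.2.1 (eq_one_of_odd_pow (k := 2) hd.1 ?_)
      calc d ^ 2 ^ 2 = (d * d) * (d * d) := by simp [pow_succ, mul_assoc]
        _ = (d * d) * (d⁻¹ * d⁻¹) := by rw [h2]
        _ = 1 := by group
  -- the conjugate of `a` by `e * d`
  set g := e * d with hg
  have hag : a * g * a⁻¹ = g⁻¹ := by
    rw [hg, show a * (e * d) * a⁻¹ = (a * e * a⁻¹) * (a * d * a⁻¹) by group, hae, had, hcomm.eq,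
      mul_inv_rev]
  have hgo : Odd (orderOf g) := by
    refine (he.1.mul hd.1).of_dvd_nat (orderOf_dvd_of_pow_eq_one ?_)
    rw [hg, hcomm.mul_pow, pow_mul, pow_orderOf_eq_one, one_pow, one_mul, mul_comm, pow_mul,
      pow_orderOf_eq_one, one_pow]
  have hga : g * a * g⁻¹ = (g * g) * a := by
    have e1 : a * g⁻¹ = g * a := by rw [← mul_inv_eq_iff_eq_mul, ← conj_inv, hag, inv_inv]
    rw [mul_assoc g a, e1, ← mul_assoc]
  have key' : ∀ y : G, Commute y a → Commute y (g * a * g⁻¹) → y * g * y⁻¹ = g := by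
    intro y hya hy
    rw [hga] at hy
    have h2 := hy.mul_right hya.inv_right
    rw [mul_inv_cancel_right] at h2
    exact mul_inv_eq_iff_eq_mul.2 (commute_of_sq_commute hgo h2).eq
  have hfix : ∀ y : G, y * g * y⁻¹ = (y * e * y⁻¹) * (y * d * y⁻¹) := fun y => by rw [hg]; group
  rcases hcova g with h | h | h
  · have h2 := key' a (Commute.refl a) h
    rw [hag] at h2
    have hg1 : g = 1 := eq_one_of_odd_pow (k := 1) hgo (by
      rw [pow_one, pow_two]; nth_rewrite 1 [← h2]; exact inv_mul_cancel g)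
    rw [hg, mul_eq_one_iff_eq_inv] at hg1
    refine he.2.1 (eq_one_of_odd_pow (k := 1) he.1 ?_)
    have e1 : b * e * b⁻¹ = e := by rw [hg1, ← conj_inv, hbd]
    rw [hbe] at e1
    rw [pow_one, pow_two]; nth_rewrite 1 [← e1]; exact inv_mul_cancel e
  · have h2 := key' b hab.symm h
    rw [hfix, hbe, hbd, hg, mul_left_inj] at h2
    refine he.2.1 (eq_one_of_odd_pow (k := 1) he.1 ?_)
    rw [pow_one, pow_two]; nth_rewrite 1 [← h2]; exact inv_mul_cancel e
  · have h2 := key' c hac.symm h
    rw [hfix, hce, hcd, hg, mul_right_inj] at h2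
    refine hd.2.1 (eq_one_of_odd_pow (k := 1) hd.1 ?_)
    rw [pow_one, pow_two]; nth_rewrite 1 [← h2]; exact inv_mul_cancel d

/-- Let A be a Klein four-subgroup of a finite group G. If every G-conjugate of every involution of A commutes with some involution of A (its centralizer meets A nontrivially), then A meets the largest normal 2-subgroup O₂(G) nontrivially. -/
theorem result {G : Type*} [Group G] [Finite G]
    (A : Subgroup G) (hA : IsKleinFour ↥A)
    (h : ∀ a ∈ A, a ≠ 1 → ∀ g : G, A ⊓ Subgroup.centralizer ({g * a * g⁻¹} : Set G) ≠ ⊥) :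
    A ⊓ Cfsg.pCore 2 G ≠ ⊥ := by
  classical
  haveI := hA
  intro hbot
  haveI : Nontrivial ↥A := Finite.one_lt_card_iff_nontrivial.1 (by rw [IsKleinFour.card_four (G := ↥A)]; norm_num)
  obtain ⟨a, ha⟩ : ∃ a : ↥A, a ≠ 1 := exists_ne 1
  obtain ⟨b, hb, hba⟩ : ∃ b : ↥A, b ≠ 1 ∧ b ≠ a := by
    by_contra hcon
    simp only [not_exists, not_and, not_not] at hcon
    have hsub : (Finset.univ (α := Fin 4)).card ≤ 2 := by
      have e := IsKleinFour.card_four (G := ↥A)
      haveI := Fintype.ofFinite ↥A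
      rw [Nat.card_eq_fintype_card, ← Finset.card_univ] at e
      have hle : (Finset.univ : Finset ↥A) ⊆ {1, a} := fun x _ => by
        by_cases h1 : x = 1
        · simp [h1]
        · simp [hcon x h1]
      have := (Finset.card_le_card hle).trans Finset.card_le_two
      omega
    simp at hsub
  set c := a * b with hcdef
  have hsq : ∀ x : ↥A, x * x = 1 := IsKleinFour.mul_self
  have hc1 : c ≠ 1 := fun h => hba (by
    calc b = a * a * b := by rw [hsq, one_mul]
      _ = a * (a * b) := mul_assoc _ _ _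
      _ = a := by rw [← hcdef, h, mul_one])
  have hcomm : ∀ x y : ↥A, Commute (x : G) y := fun x y => by
    have : x * y = y * x := by
      have ex : x⁻¹ = x := inv_eq_of_mul_eq_one_right (hsq x)
      have ey : y⁻¹ = y := inv_eq_of_mul_eq_one_right (hsq y)
      calc x * y = (x * y)⁻¹ := eq_inv_of_mul_eq_one_left (hsq (x * y))
        _ = y * x := by rw [mul_inv_rev, ex, ey]
    exact congrArg Subtype.val this
  have hord : ∀ x : ↥A, x ≠ 1 → orderOf (x : G) = 2 := fun x hx =>
    invol_of_mul_self (congrArg Subtype.val (hsq x)) (fun h1 => hx (Subtype.ext h1))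
  have hall : ∀ y : ↥A, y = 1 ∨ y = a ∨ y = b ∨ y = c := by
    intro y
    by_contra hcon
    simp only [not_or] at hcon
    haveI := Fintype.ofFinite ↥A
    have e := IsKleinFour.card_four (G := ↥A)
    let f : Fin 5 → ↥A := ![1, a, b, c, y]
    have hac : a ≠ c := fun h => hb (left_eq_mul.1 h)
    have hbc : b ≠ c := fun h => ha (right_eq_mul.1 h)
    have hf : Function.Injective f := by
      intro i j hij
      fin_cases i <;> fin_cases j <;> simp_all [f, eq_comm]
    have := Nat.card_le_card_of_injective f hf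
    rw [Nat.card_fin, e] at this
    omega
  have hcov : ∀ x : ↥A, x ≠ 1 → Covers (a : G) b c x := by
    intro x hx g
    obtain ⟨z, ⟨hzA, hzc⟩, hz1⟩ := (Subgroup.bot_or_exists_ne_one _).resolve_left
      (h x x.2 (fun h1 => hx (Subtype.ext h1)) g)
    have hz : Commute z (g * (x : G) * g⁻¹) := Subgroup.mem_centralizer_singleton_iff.1 hzc
    rcases hall ⟨z, hzA⟩ with e | e | e | e
    · exact absurd (congrArg Subtype.val e) hz1
    · exact Or.inl ((congrArg Subtype.val e : z = (a : G)) ▸ hz)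
    · exact Or.inr (Or.inl ((congrArg Subtype.val e : z = (b : G)) ▸ hz))
    · exact Or.inr (Or.inr ((congrArg Subtype.val e : z = (c : G)) ▸ hz))
  have hnot : ∀ x : ↥A, x ≠ 1 → (x : G) ∉ Cfsg.pCore 2 G := fun x hx hmem =>
    hx (Subtype.ext (Subgroup.mem_bot.1 (hbot ▸ Subgroup.mem_inf.2 ⟨x.2, hmem⟩)))
  have hmul : ∀ x y z : G, x * x = 1 → z = x * y → y = x * z := by
    intro x y z h e; rw [e, ← mul_assoc, h, one_mul]
  have pa : (a : G) * a = 1 := congrArg Subtype.val (hsq a)
  have pb : (b : G) * b = 1 := congrArg Subtype.val (hsq b)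
  have ec : (c : G) = a * b := rfl
  have ec' : (c : G) = b * a := ec.trans (hcomm a b).eq
  have eb : (b : G) = a * c := hmul _ _ _ pa ec
  have eb' : (b : G) = c * a := eb.trans (hcomm a c).eq
  have ea : (a : G) = b * c := hmul _ _ _ pb ec'
  have ea' : (a : G) = c * b := ea.trans (hcomm b c).eq
  -- permuted covering hypotheses
  have perm1 : ∀ {x y z w : G}, Covers x y z w → Covers y x z w := fun hh g => by
    rcases hh g with h1 | h1 | h1
    exacts [Or.inr (Or.inl h1), Or.inl h1, Or.inr (Or.inr h1)]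
  have perm2 : ∀ {x y z w : G}, Covers x y z w → Covers x z y w := fun hh g => by
    rcases hh g with h1 | h1 | h1
    exacts [Or.inl h1, Or.inr (Or.inr h1), Or.inr (Or.inl h1)]
  have ca := hcov a ha
  have cb := hcov b hb
  have cc := hcov c hc1
  obtain ⟨d, hd⟩ := exists_rel (hord a ha) ca (hnot a ha) (hcomm b a) (hcomm c a)
  rcases hd with hd | hd
  · obtain ⟨e, he | he⟩ := exists_rel (hord b hb) (perm1 cb) (hnot b hb) (hcomm a b) (hcomm c b)
    · exact not_mutual ec ec' (hord c hc1) cc (hcomm a c) (hcomm b c) hd he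
    · exact not_chain ec ea (hord a ha) ca cc (hcomm a b) (hcomm a c) (hcomm b c) hd he
  · obtain ⟨e, he | he⟩ := exists_rel (hord c hc1) (perm1 (perm2 cc)) (hnot c hc1) (hcomm a c) (hcomm b c)
    · exact not_mutual eb eb' (hord b hb) (perm2 cb) (hcomm a b) (hcomm c b) hd he
    · exact not_chain eb ea' (hord a ha) (perm2 ca) (perm2 cb) (hcomm a c) (hcomm a b) (hcomm c b) hd he

end Cfsg.Agent.S3195
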