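import Cfsg.Statements.S3196
import Mathlib.Tactic
import Mathlib.FieldTheory.Finite.Basic
import Mathlib.Data.Set.Card


set_option autoImplicit false
open Cfsg
open scoped Pointwise

namespace Cfsg.Agent.S3196

theorem commute_of_pow {G : Type*} [Group G] {p : ℕ} (hp : p.Prime) {w y : G} (hy : y ^ p = 1)
    {j : ℕ} (h : Commute w (y ^ j)) (hj : ¬ p ∣ j) : Commute w y := by
  obtain ⟨m, hm⟩ := Nat.exists_mul_mod_eq_one_of_coprime ((hp.coprime_iff_not_dvd.2 hj).symm) hp.one_lt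
  have : y = (y ^ j) ^ m := by
    conv_rhs => rw [← pow_mul, ← Nat.div_add_mod (j * m) p, pow_add, pow_mul, hy, one_pow, one_mul, hm.2, pow_one]
  rw [this]
  exact h.pow_right m

/-- The commuting geometry of a set of elements of order `p` whose lines are full has a radical. -/
theorem exists_radical {G : Type*} [Group G] [Finite G] {p : ℕ} (hp : p.Prime) (E : Set G)
    (hord : ∀ e ∈ E, e ^ p = 1) (hne : ∀ e ∈ E, e ≠ 1)
    (hconj : ∀ e ∈ E, ∀ g : G, g * e * g⁻¹ ∈ E)
    (hex : ∃ a ∈ E, ∃ b ∈ E, Commute a b ∧ b ∉ Subgroup.zpowers a)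
    (hline : ∀ x ∈ E, ∀ y ∈ E, Commute x y → y ∉ Subgroup.zpowers x →
      (∀ i j : ℕ, x ^ i * y ^ j ≠ 1 → x ^ i * y ^ j ∈ E) ∧
      ∀ w ∈ E, ∃ i j : ℕ, x ^ i * y ^ j ≠ 1 ∧ Commute w (x ^ i * y ^ j)) :
    ∃ v ∈ E, ∀ w ∈ E, Commute v w := by
  classical
  have hzp : ∀ a : G, a ^ p = 1 → ∀ c ∈ Subgroup.zpowers a, c ≠ 1 → a ∈ Subgroup.zpowers c := by
    intro a ha c hc hc1
    rw [← mem_powers_iff_mem_zpowers, Submonoid.mem_powers_iff] at hc
    obtain ⟨i, rfl⟩ := hc
    have hi : ¬ p ∣ i := fun h => hc1 (by obtain ⟨t, rfl⟩ := h; rw [pow_mul, ha, one_pow])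
    obtain ⟨m, hm⟩ := Nat.exists_mul_mod_eq_one_of_coprime ((hp.coprime_iff_not_dvd.2 hi).symm) hp.one_lt
    exact ⟨(m : ℤ), by
      show (a ^ i) ^ (m : ℤ) = a
      rw [zpow_natCast, ← pow_mul, ← Nat.div_add_mod (i * m) p, pow_add, pow_mul, ha, one_pow, one_mul,
        hm.2, pow_one]⟩
  -- the line axiom in normal form
  have H : ∀ x ∈ E, ∀ y ∈ E, Commute x y → y ∉ Subgroup.zpowers x → ∀ w ∈ E,
      Commute w y ∨ ∃ k : ℕ, x * y ^ k ∈ E ∧ Commute w (x * y ^ k) := by
    intro x hx y hy hxy hyx w hw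
    obtain ⟨hmem, hw'⟩ := hline x hx y hy hxy hyx
    obtain ⟨i, j, h1, h2⟩ := hw' w hw
    by_cases hi : p ∣ i
    · left
      obtain ⟨t, rfl⟩ := hi
      rw [pow_mul, hord x hx, one_pow, one_mul] at h1 h2
      refine commute_of_pow hp (hord y hy) h2 fun hj => h1 ?_
      obtain ⟨t, rfl⟩ := hj
      rw [pow_mul, hord y hy, one_pow]
    · right
      obtain ⟨m, hm⟩ := Nat.exists_mul_mod_eq_one_of_coprime ((hp.coprime_iff_not_dvd.2 hi).symm) hp.one_lt
      have hxm : x ^ (i * m) = x := by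
        rw [← Nat.div_add_mod (i * m) p, pow_add, pow_mul, hord x hx, one_pow, one_mul, hm.2, pow_one]
      have e : (x ^ i * y ^ j) ^ m = x * y ^ (j * m) := by
        rw [(hxy.pow_pow i j).mul_pow, ← pow_mul, ← pow_mul, hxm]
      refine ⟨j * m, ?_, e ▸ h2.pow_right m⟩
      have hne' : x ^ 1 * y ^ (j * m) ≠ 1 := by
        intro h
        rw [pow_one] at h
        have h' : x ∈ Subgroup.zpowers y := by
          rw [eq_inv_of_mul_eq_one_left h]
          exact inv_mem (pow_mem (Subgroup.mem_zpowers y) _)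
        exact hyx (hzp y (hord y hy) x h' (hne x hx))
      simpa using hmem 1 (j * m) hne'
  obtain ⟨a, ha, b, hb, hab, hba⟩ := hex
  obtain ⟨x, hxE, hxmax⟩ := Set.exists_max_image E (fun e => {u | u ∈ E ∧ Commute e u}.ncard)
    (Set.toFinite E) ⟨a, ha⟩
  by_contra hno
  simp only [not_exists, not_and, not_forall] at hno
  obtain ⟨w, hwE, hxw⟩ := hno x hxE
  -- a neighbour of `w`
  obtain ⟨z₀, hz₀E, hz₀w, hz₀n⟩ : ∃ z ∈ E, Commute w z ∧ z ∉ Subgroup.zpowers w := by
    rcases H a ha b hb hab hba w hwE with h | ⟨k, hkE, hk⟩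
    · by_cases hbw : b ∈ Subgroup.zpowers w
      · have hwb : w ∈ Subgroup.zpowers b := hzp w (hord w hwE) b hbw (hne b hb)
        have haw : Commute w a := by
          obtain ⟨i, rfl⟩ := hwb
          exact (hab.zpow_right i).symm
        refine ⟨a, ha, haw, fun haz => hba ?_⟩
        exact (Subgroup.zpowers_le.2 (hzp w (hord w hwE) a haz (hne a ha))) hbw
      · exact ⟨b, hb, h, hbw⟩
    · by_cases hkw : a * b ^ k ∈ Subgroup.zpowers w
      · have hwc : w ∈ Subgroup.zpowers (a * b ^ k) := hzp w (hord w hwE) _ hkw (hne _ hkE)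
        obtain ⟨i, hi⟩ := hwc
        have hwa : Commute w a := hi ▸ (((Commute.refl a).mul_left (hab.symm.pow_left k)).zpow_left i)
        have hwb : Commute w b :=
          hi ▸ ((hab.mul_left ((Commute.refl b).pow_left k)).zpow_left i)
        by_cases hbw : b ∈ Subgroup.zpowers w
        · refine ⟨a, ha, hwa, fun haz => hba ?_⟩
          exact (Subgroup.zpowers_le.2 (hzp w (hord w hwE) a haz (hne a ha))) hbw
        · exact ⟨b, hb, hwb, hbw⟩
      · exact ⟨_, hkE, hk, hkw⟩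
  set w' := x * w * x⁻¹ with hw'def
  have hw'E : w' ∈ E := hconj w hwE x
  -- a point of the common perp set that is perpendicular to all of it
  obtain ⟨P, hPE, hPx, hPw, hPC⟩ : ∃ P ∈ E, Commute x P ∧ Commute w P ∧
      ∀ v ∈ E, Commute v x → Commute v w → Commute v P := by
    by_cases hB : ∃ z ∈ E, Commute w z ∧ z ∉ Subgroup.zpowers w ∧ ¬ Commute x z ∧
        ∀ v ∈ E, Commute v x → Commute v w → Commute v z
    · obtain ⟨z, hz, hwz, hzn, hxz, hzC⟩ := hB
      obtain ⟨k, hkE, hk⟩ := (H w hwE z hz hwz hzn x hxE).resolve_left hxz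
      exact ⟨_, hkE, hk, (Commute.refl w).mul_right (hwz.pow_right k),
        fun v hv h1 h2 => h2.mul_right ((hzC v hv h1 h2).pow_right k)⟩
    have hAall : ∀ z ∈ E, Commute w z → z ∉ Subgroup.zpowers w → Commute w' z := by
      intro z hz hwz hzn
      by_cases hxz : Commute x z
      · have h := hwz.map (MulAut.conj x).toMonoidHom
        simp only [MulEquiv.coe_toMonoidHom, MulAut.conj_apply] at h
        rwa [show x * z * x⁻¹ = z from mul_inv_eq_iff_eq_mul.2 hxz.eq] at h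
      obtain ⟨v, hv, hvx, hvw, hvz⟩ : ∃ v ∈ E, Commute v x ∧ Commute v w ∧ ¬ Commute v z := by
        by_contra hcon
        exact hB ⟨z, hz, hwz, hzn, hxz, fun v hv h1 h2 => by_contra fun h3 => hcon ⟨v, hv, h1, h2, h3⟩⟩
      have hvn : v ∉ Subgroup.zpowers x := fun hmem => by
        obtain ⟨i, hi⟩ := hzp x (hord x hxE) v hmem (hne v hv)
        exact hxw (hi ▸ hvw.zpow_left i)
      obtain ⟨k, -, hk⟩ := (H x hxE v hv hvx.symm hvn z hz).resolve_left (fun h => hvz h.symm)
      have h := hwz.map (MulAut.conj (x * v ^ k)).toMonoidHom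
      simp only [MulEquiv.coe_toMonoidHom, MulAut.conj_apply] at h
      rw [show x * v ^ k * z * (x * v ^ k)⁻¹ = z from mul_inv_eq_iff_eq_mul.2 hk.symm.eq] at h
      have e : x * v ^ k * w * (x * v ^ k)⁻¹ = w' := by
        have e2 : v ^ k * w = w * v ^ k := (hvw.pow_left k).eq
        rw [hw'def, mul_inv_rev, mul_assoc x, e2]; group
      rwa [e] at h
    have hww : Commute w' w := by
      have h1 := hAall z₀ hz₀E hz₀w hz₀n
      have hne' : w ^ 1 * z₀ ^ 1 ≠ 1 := by
        intro h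
        rw [pow_one, pow_one] at h
        exact hz₀n (by rw [eq_inv_of_mul_eq_one_right h]; exact inv_mem (Subgroup.mem_zpowers w))
      have hmem := (hline w hwE z₀ hz₀E hz₀w hz₀n).1 1 1 hne'
      rw [pow_one, pow_one] at hmem
      have h2 := hAall (w * z₀) hmem ((Commute.refl w).mul_right hz₀w) (fun h => hz₀n (by
        simpa using mul_mem (inv_mem (Subgroup.mem_zpowers w)) h))
      have h3 := h2.mul_right h1.inv_right
      simpa using h3
    have hw'n : w' ∉ Subgroup.zpowers w := by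
      intro hmem
      rw [← mem_powers_iff_mem_zpowers, Submonoid.mem_powers_iff] at hmem
      obtain ⟨i, hi⟩ := hmem
      have hiter : ∀ t : ℕ, x ^ t * w * (x ^ t)⁻¹ = w ^ i ^ t := by
        intro t
        induction t with
        | zero => simp
        | succ t ih =>
          calc x ^ (t + 1) * w * (x ^ (t + 1))⁻¹ = x * (x ^ t * w * (x ^ t)⁻¹) * x⁻¹ := by rw [pow_succ']; group
            _ = (x * w * x⁻¹) ^ i ^ t := by rw [ih, conj_pow]
            _ = w ^ i ^ (t + 1) := by rw [← hw'def, ← hi, ← pow_mul, pow_succ']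
      have h := hiter p
      rw [hord x hxE, one_mul, inv_one, mul_one] at h
      haveI : Fact p.Prime := ⟨hp⟩
      have how : orderOf w = p := orderOf_eq_prime (hord w hwE) (hne w hwE)
      have hmod : i ^ p ≡ 1 [MOD p] := by
        rw [← how]
        exact (pow_eq_pow_iff_modEq.1 (by rw [pow_one, how]; exact h.symm))
      have hf : ((i : ZMod p)) = 1 := by
        have h2 := (ZMod.natCast_eq_natCast_iff _ _ _).2 hmod
        rwa [Nat.cast_pow, ZMod.pow_card, Nat.cast_one] at h2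
      have hi1 : w ^ i = w ^ 1 := pow_eq_pow_iff_modEq.2 (by
        rw [how]; exact (ZMod.natCast_eq_natCast_iff _ _ _).1 (by rw [hf, Nat.cast_one]))
      rw [pow_one, hi, hw'def, mul_inv_eq_iff_eq_mul] at hi1
      exact hxw hi1
    have hxw' : ¬ Commute x w' := by
      intro h
      refine hxw ?_
      have := h.map (MulAut.conj x⁻¹).toMonoidHom
      simp only [MulEquiv.coe_toMonoidHom, MulAut.conj_apply, hw'def] at this
      simpa [mul_assoc] using this
    obtain ⟨k, hkE, hk⟩ := (H w hwE w' hw'E hww.symm hw'n x hxE).resolve_left hxw'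
    refine ⟨_, hkE, hk, (Commute.refl w).mul_right (hww.symm.pow_right k),
      fun v hv h1 h2 => h2.mul_right (Commute.pow_right ?_ k)⟩
    by_cases hvn : v ∈ Subgroup.zpowers w
    · obtain ⟨i, rfl⟩ := hvn; exact hww.symm.zpow_left i
    · exact (hAall v hv h2.symm hvn).symm
  have hPn : P ∉ Subgroup.zpowers x := fun hmem => by
    obtain ⟨i, hi⟩ := hzp x (hord x hxE) P hmem (hne P hPE)
    exact hxw (hi ▸ (hPw.symm.zpow_left i))
  -- `P` commutes with everything commuting with `x`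
  have hPX : ∀ u ∈ E, Commute x u → Commute P u := by
    intro u hu hxu
    by_cases hun : x ∈ Subgroup.zpowers u
    · obtain ⟨i, hi⟩ := hzp u (hord u hu) x hun (hne x hxE)
      exact hi ▸ (hPx.symm.zpow_right i)
    obtain ⟨k, hkE, hk⟩ := (H u hu x hxE hxu.symm hun w hwE).resolve_left (fun h => hxw h.symm)
    have h1 := hPC _ hkE (hxu.symm.mul_left ((Commute.refl x).pow_left k)) hk.symm
    have h2 := h1.mul_left ((hPx.pow_left k).inv_left)
    simpa using h2.symm
  obtain ⟨U, hUE, hPU⟩ := hno P hPE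
  obtain ⟨k, hQE, hQ⟩ := (H x hxE P hPE hPx hPn U hUE).resolve_left (fun h => hPU h.symm)
  have hsub : {u | u ∈ E ∧ Commute x u} ⊆ {u | u ∈ E ∧ Commute (x * P ^ k) u} :=
    fun u hu => ⟨hu.1, hu.2.mul_left ((hPX u hu.1 hu.2).pow_left k)⟩
  have heq := Set.eq_of_subset_of_ncard_le hsub (hxmax _ hQE) (Set.toFinite _)
  have hxU : Commute x U := ((Set.ext_iff.1 heq U).2 ⟨hUE, hQ.symm⟩).2
  exact hPU (hPX U hUE hxU)

/-- Let p be a prime and K a set of subgroups of order p of a finite group G, closed under conjugation, such that at least two distinct members of K commute elementwise, and whenever two distinct members X, Y of K commute: every subgroup of order p of the group XY they generate belongs to K, and every member W of K has centralizer meeting XY nontrivially. Then some member V of K commutes elementwise with every member of K and lies in O_p(G); in particular G is not simple. -/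
theorem result {G : Type*} [Group G] [Finite G]
    {p : ℕ} (hp : p.Prime) (K : Set (Subgroup G)) (hK : ∀ X ∈ K, Nat.card ↥X = p)
    (hKc : ∀ X ∈ K, ∀ g : G, X.map (MulAut.conj g).toMonoidHom ∈ K)
    (hex : ∃ X ∈ K, ∃ Y ∈ K, X ≠ Y ∧ ∀ x ∈ X, ∀ y ∈ Y, x * y = y * x)
    (ha : ∀ X ∈ K, ∀ Y ∈ K, X ≠ Y → (∀ x ∈ X, ∀ y ∈ Y, x * y = y * x) →
      ∀ Z : Subgroup G, Z ≤ X ⊔ Y → Nat.card ↥Z = p → Z ∈ K)
    (hb : ∀ X ∈ K, ∀ Y ∈ K, X ≠ Y → (∀ x ∈ X, ∀ y ∈ Y, x * y = y * x) →
      ∀ W ∈ K, (X ⊔ Y) ⊓ Subgroup.centralizer (W : Set G) ≠ ⊥) :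
    (∃ V ∈ K, (∀ W ∈ K, ∀ v ∈ V, ∀ w ∈ W, v * w = w * v) ∧ V ≤ Cfsg.pCore p G) ∧ ¬ IsSimpleGroup G := by
  classical
  haveI : Fact p.Prime := ⟨hp⟩
  set E : Set G := {e | e ≠ 1 ∧ Subgroup.zpowers e ∈ K} with hE
  have hgen : ∀ X ∈ K, ∀ e ∈ X, e ≠ 1 → Subgroup.zpowers e = X := by
    intro X hX e he he1
    refine Subgroup.eq_of_le_of_card_ge (Subgroup.zpowers_le.2 he) ?_
    rw [hK X hX, Nat.card_zpowers]
    have h := Subgroup.orderOf_dvd_natCard X he
    rw [hK X hX, Nat.dvd_prime hp] at h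
    exact le_of_eq (h.resolve_left fun h1 => he1 (orderOf_eq_one_iff.1 h1)).symm
  have hord : ∀ e ∈ E, e ^ p = 1 := fun e he => by
    rw [← hK _ he.2, Nat.card_zpowers, pow_orderOf_eq_one]
  have hconj : ∀ e ∈ E, ∀ g : G, g * e * g⁻¹ ∈ E := by
    intro e he g
    refine ⟨fun h => he.1 (conj_eq_one_iff.1 h), ?_⟩
    have h := hKc _ he.2 g
    rwa [MonoidHom.map_zpowers] at h
  have hcomm : ∀ X Y : G, Commute X Y → ∀ x ∈ Subgroup.zpowers X, ∀ y ∈ Subgroup.zpowers Y, x * y = y * x := by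
    rintro X Y h _ ⟨i, rfl⟩ _ ⟨j, rfl⟩
    exact (h.zpow_zpow i j).eq
  have hex' : ∃ a ∈ E, ∃ b ∈ E, Commute a b ∧ b ∉ Subgroup.zpowers a := by
    obtain ⟨X, hX, Y, hY, hne, hc⟩ := hex
    have hnt : ∀ Z ∈ K, ∃ z ∈ Z, z ≠ 1 := fun Z hZ =>
      (Z.bot_or_exists_ne_one).resolve_left fun h => by
        have := hK Z hZ
        rw [h, Subgroup.card_bot] at this
        exact hp.ne_one this.symm
    obtain ⟨a, haX, ha1⟩ := hnt X hX
    obtain ⟨b, hbY, hb1⟩ := hnt Y hY
    refine ⟨a, ⟨ha1, (hgen X hX a haX ha1).symm ▸ hX⟩, b, ⟨hb1, (hgen Y hY b hbY hb1).symm ▸ hY⟩,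
      hc a haX b hbY, fun h => hne ?_⟩
    rw [hgen X hX a haX ha1] at h
    rw [← hgen X hX b h hb1, hgen Y hY b hbY hb1]
  obtain ⟨v, hvE, hv⟩ := exists_radical hp E hord (fun e he => he.1) hconj hex' (by
    intro x hx y hy hxy hyx
    have hne : Subgroup.zpowers x ≠ Subgroup.zpowers y := fun h => hyx (h ▸ Subgroup.mem_zpowers y)
    have hc := hcomm x y hxy
    have hmem : ∀ i j : ℕ, x ^ i * y ^ j ∈ Subgroup.zpowers x ⊔ Subgroup.zpowers y := fun i j =>
      mul_mem (Subgroup.mem_sup_left (pow_mem (Subgroup.mem_zpowers x) i))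
        (Subgroup.mem_sup_right (pow_mem (Subgroup.mem_zpowers y) j))
    refine ⟨fun i j h1 => ⟨h1, ha _ hx.2 _ hy.2 hne hc _ (Subgroup.zpowers_le.2 (hmem i j)) ?_⟩, ?_⟩
    · rw [Nat.card_zpowers]
      exact orderOf_eq_prime (by rw [(hxy.pow_pow i j).mul_pow, ← pow_mul, ← pow_mul, mul_comm i,
        mul_comm j, pow_mul, pow_mul, hord x hx, hord y hy, one_pow, one_pow, mul_one]) h1
    intro w hw
    obtain ⟨e, ⟨he, hec⟩, he1⟩ := (Subgroup.bot_or_exists_ne_one _).resolve_left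
      (hb _ hx.2 _ hy.2 hne hc _ hw.2)
    have hform : ∃ i j : ℕ, e = x ^ i * y ^ j := by
      have hle : Subgroup.zpowers y ≤ Subgroup.normalizer ((Subgroup.zpowers x : Subgroup G) : Set G) :=
        Subgroup.zpowers_le.2 (Subgroup.centralizer_le_normalizer _ (fun z hz => (hc z hz y (Subgroup.mem_zpowers y))))
      have he' : e ∈ ((Subgroup.zpowers x : Subgroup G) : Set G) * (Subgroup.zpowers y : Set G) := by
        rwa [← Subgroup.coe_mul_of_right_le_normalizer_left _ _ hle]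
      obtain ⟨s, hs, t, ht, rfl⟩ := he'
      rw [SetLike.mem_coe, ← mem_powers_iff_mem_zpowers, Submonoid.mem_powers_iff] at hs ht
      obtain ⟨i, rfl⟩ := hs
      obtain ⟨j, rfl⟩ := ht
      exact ⟨i, j, rfl⟩
    obtain ⟨i, j, rfl⟩ := hform
    exact ⟨i, j, he1, (hec w (Subgroup.mem_zpowers w))⟩)
  -- the subgroup generated by the radical elements
  set R : Set G := {e | e ∈ E ∧ ∀ w ∈ E, Commute e w} with hR
  set M := Subgroup.closure R with hM
  haveI hMn : M.Normal := by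
    refine ⟨fun m hm g => ?_⟩
    have hle : M ≤ M.comap (MulAut.conj g).toMonoidHom := by
      refine (Subgroup.closure_le _).2 fun e he => Subgroup.subset_closure ⟨hconj e he.1 g, fun w hw => ?_⟩
      have h := (he.2 _ (hconj w hw g⁻¹)).map (MulAut.conj g).toMonoidHom
      simpa [mul_assoc] using h
    exact hle hm
  have hcM : ∀ a ∈ M, ∀ b ∈ M, Commute a b := by
    intro a ha b hb
    have h1 : M ≤ Subgroup.centralizer R := (Subgroup.closure_le _).2 fun e he f hf => (hf.2 e he.1).eq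
    have h2 : M ≤ Subgroup.centralizer (M : Set G) := by
      rw [hM, Subgroup.centralizer_closure]; exact h1
    exact (h2 hb a ha : a * b = b * a)
  have hMp : ∀ a ∈ M, a ^ p = 1 := by
    intro a ha
    refine Subgroup.closure_induction (p := fun a _ => a ^ p = 1) (fun e he => hord e he.1) (one_pow p)
      (fun a b ha' hb' ha hb => by rw [(hcM a ha' b hb').mul_pow, ha, hb, one_mul])
      (fun a _ ha => by rw [inv_pow, ha, inv_one]) ha
  have hMP : IsPGroup p M := fun a => ⟨1, Subtype.ext (by simpa using hMp a a.2)⟩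
  have hvM : v ∈ M := Subgroup.subset_closure ⟨hvE, hv⟩
  refine ⟨⟨Subgroup.zpowers v, hvE.2, ?_, Subgroup.zpowers_le.2 ((le_sSup ⟨hMn, hMP⟩ : M ≤ Cfsg.pCore p G) hvM)⟩, ?_⟩
  · intro W hW x hx y hy
    by_cases hy1 : y = 1
    · simp [hy1]
    obtain ⟨i, rfl⟩ := hx
    exact ((hv y ⟨hy1, (hgen W hW y hy hy1).symm ▸ hW⟩).zpow_left i).eq
  · intro hs
    obtain ⟨a, haE, b, hbE, hab, hba⟩ := hex'
    have htop : M = ⊤ := hMn.eq_bot_or_eq_top.resolve_left fun h => hvE.1 (Subgroup.mem_bot.1 (h ▸ hvM))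
    have hGc : ∀ g h : G, g * h = h * g := fun g h => hcM g (htop ▸ Subgroup.mem_top g) h (htop ▸ Subgroup.mem_top h)
    haveI hZn : (Subgroup.zpowers a).Normal := ⟨fun n hn g => by rw [hGc g n, mul_inv_cancel_right]; exact hn⟩
    rcases hZn.eq_bot_or_eq_top with h | h
    · exact haE.1 (Subgroup.zpowers_eq_bot.1 h)
    · exact hba (h ▸ Subgroup.mem_top b)

end Cfsg.Agent.S3196
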