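import Cfsg.Statements.S3198
import Cfsg.Agent.Lib.SylLThreeFour.Main

set_option autoImplicit false
open Cfsg

namespace Cfsg.Agent.S3198

/-- If G is a finite group whose Sylow 2-subgroups are isomorphic to those of PSL(3, 4), then G modulo its largest normal subgroup of odd order is isomorphic to a subgroup of PGL(3, 4) (the general linear group of dimension 3 over the field with 4 elements modulo its centre). -/
theorem result {G : Type*} [Group G] [Finite G]
    {F : Type*} [Field F] [Fintype F] (hF : Fintype.card F = 4) (S : Sylow 2 G)
    (P : Sylow 2 (Matrix.ProjectiveSpecialLinearGroup (Fin 3) F))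
    (hS : Nonempty (↥(S : Subgroup G) ≃* ↥(P : Subgroup (Matrix.ProjectiveSpecialLinearGroup (Fin 3) F)))) :
    ∃ f : G ⧸ Cfsg.oddCore G →* GL (Fin 3) F ⧸ Subgroup.center (GL (Fin 3) F), Function.Injective f := by
  exact CfsgLib.SylL34.embeds_mod_core hF S P hS

end Cfsg.Agent.S3198
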