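import Cfsg.Statements.S3199
import Cfsg.Agent.Lib.SylJanko.Main

set_option autoImplicit false
open Cfsg

namespace Cfsg.Agent.S3199

/-- Let G be a finite group with no normal subgroup of index 2 whose Sylow 2-subgroups are isomorphic to those of the Hall–Janko group J₂, and let z be an involution central in a Sylow 2-subgroup of G. Then the centralizer of z modulo its largest normal subgroup of odd order is isomorphic to the centralizer of a 2-central involution in J₂ or to the centralizer of a 2-central involution in the third Janko group J₃. -/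
theorem result {G : Type*} [Group G] [Finite G]
    (S : Sylow 2 G) (P : Sylow 2 Cfsg.Spor.J2) (hS : Nonempty (↥(S : Subgroup G) ≃* ↥(P : Subgroup Cfsg.Spor.J2)))
    (h2 : ∀ H : Subgroup G, H.Normal → H.index ≠ 2)
    (z : G) (hz : orderOf z = 2) (hzS : z ∈ (S : Subgroup G)) (hzc : ∀ s ∈ (S : Subgroup G), s * z = z * s) :
    (∃ (z' : Cfsg.Spor.J2) (Q : Sylow 2 Cfsg.Spor.J2), orderOf z' = 2 ∧ z' ∈ (Q : Subgroup Cfsg.Spor.J2) ∧
        (∀ s ∈ (Q : Subgroup Cfsg.Spor.J2), s * z' = z' * s) ∧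
        Nonempty ((↥(Subgroup.centralizer ({z} : Set G)) ⧸ Cfsg.oddCore ↥(Subgroup.centralizer ({z} : Set G))) ≃*
          ↥(Subgroup.centralizer ({z'} : Set Cfsg.Spor.J2)))) ∨
      (∃ (F : Type) (_ : Field F) (_ : Fintype F) (ω : F), Fintype.card F = 4 ∧ ω ^ 2 + ω + 1 = 0 ∧
        ∃ (z' : Cfsg.Spor.J3 F ω) (Q : Sylow 2 (Cfsg.Spor.J3 F ω)), orderOf z' = 2 ∧ z' ∈ (Q : Subgroup (Cfsg.Spor.J3 F ω)) ∧
          (∀ s ∈ (Q : Subgroup (Cfsg.Spor.J3 F ω)), s * z' = z' * s) ∧
          Nonempty ((↥(Subgroup.centralizer ({z} : Set G)) ⧸ Cfsg.oddCore ↥(Subgroup.centralizer ({z} : Set G))) ≃*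
            ↥(Subgroup.centralizer ({z'} : Set (Cfsg.Spor.J3 F ω))))) := by
  exact Or.inl (CfsgLib.SylJanko.centralizer_quotient S P hS h2 z hz hzS hzc)

end Cfsg.Agent.S3199
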