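import Cfsg.Statements.S3200
import Cfsg.Agent.Lib.Solvable.KegelWielandt
import Cfsg.Agent.Lib.Solvable.Hall

set_option autoImplicit false
open Cfsg
open scoped Pointwise

namespace Cfsg.Agent.S3200

/-- Let H be a finite group in which a Sylow 2-subgroup has an abelian complement (an abelian subgroup meeting it trivially whose product with it is all of H). Then H is solvable, and every subgroup and every quotient group of H again has a Sylow 2-subgroup with an abelian complement. -/
theorem result {H : Type*} [Group H] [Finite H]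
    (S : Sylow 2 H) (C : Subgroup H) (hC : IsMulCommutative ↥C) (hSC : Subgroup.IsComplement' (S : Subgroup H) C) :
    Group.IsSolvable H ∧
    (∀ L : Subgroup H, ∃ (P : Sylow 2 ↥L) (D : Subgroup ↥L), IsMulCommutative ↥D ∧ Subgroup.IsComplement' (P : Subgroup ↥L) D) ∧
    (∀ (N : Subgroup H) [N.Normal], ∃ (P : Sylow 2 (H ⧸ N)) (D : Subgroup (H ⧸ N)),
      IsMulCommutative ↥D ∧ Subgroup.IsComplement' (P : Subgroup (H ⧸ N)) D) := by
  classical
  have hcard := hSC.card_mul
  have hCodd : (Nat.card ↥(S : Subgroup H)).Coprime (Nat.card ↥C) := by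
    have h := S.card_coprime_index
    rwa [hSC.symm.index_eq_card] at h
  have hC2 : (Nat.card ↥C).Coprime 2 := by
    have h := S.not_dvd_index
    rw [hSC.symm.index_eq_card] at h
    exact Nat.Coprime.symm (Nat.prime_two.coprime_iff_not_dvd.2 h)
  haveI hsol : Group.IsSolvable H := by
    haveI := hC
    letI : CommGroup ↥C := { (inferInstance : Group ↥C) with mul_comm := hC.is_comm.comm }
    refine CfsgLib.Solvable.isSolvable_of_mul_nilpotent (S : Subgroup H) C S.2.isNilpotent
      inferInstance fun g => ?_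
    obtain ⟨⟨a, b⟩, hab⟩ := hSC.2 g
    exact ⟨a, a.2, b, b.2, hab.symm⟩
  refine ⟨hsol, fun L => ?_, fun N _ => ?_⟩
  · obtain ⟨P⟩ : Nonempty (Sylow 2 ↥L) := inferInstance
    have hL : Nat.card ↥L = (P : Subgroup ↥L).index * Nat.card ↥(P : Subgroup ↥L) := by
      rw [mul_comm, Subgroup.card_mul_index]
    obtain ⟨D, hD⟩ := CfsgLib.Solvable.exists_hall hL P.card_coprime_index.symm
    have hD2 : (Nat.card ↥(D.map L.subtype)).Coprime (Nat.card ↥(S : Subgroup H)) := by
      rw [Subgroup.card_map_of_injective L.subtype_injective, hD]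
      obtain ⟨k, hk⟩ := IsPGroup.iff_card.1 S.2
      rw [hk]
      exact (Nat.Coprime.symm (Nat.prime_two.coprime_iff_not_dvd.2 P.not_dvd_index)).pow_right k
    obtain ⟨g, hg⟩ := CfsgLib.Solvable.exists_conj_le_hall
      (show Nat.card H = Nat.card ↥C * Nat.card ↥(S : Subgroup H) by rw [← hcard, mul_comm])
      hCodd.symm rfl hD2
    refine ⟨P, D, ⟨⟨fun a b => Subtype.ext (L.subtype_injective ?_)⟩⟩,
      Subgroup.isComplement'_of_card_mul_and_disjoint ?_ ?_⟩
    · have mem : ∀ d : ↥D, g * ((d : ↥L) : H) * g⁻¹ ∈ C := fun d =>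
        hg (Subgroup.smul_mem_pointwise_smul _ (MulAut.conj g) _ (Subgroup.mem_map_of_mem L.subtype d.2))
      have h := congrArg Subtype.val (hC.is_comm.comm ⟨_, mem a⟩ ⟨_, mem b⟩)
      simp only [Subgroup.coe_mul] at h ⊢
      simp only [Subgroup.coe_subtype]
      simpa [mul_assoc] using congrArg (fun w => g⁻¹ * w * g) h
    · rw [hD, Subgroup.card_mul_index]
    · rw [disjoint_iff]
      exact Subgroup.inf_eq_bot_of_coprime (by rw [hD]; exact P.card_coprime_index)
  · have hsurj := QuotientGroup.mk'_surjective N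
    obtain ⟨P⟩ : Nonempty (Sylow 2 (H ⧸ N)) := inferInstance
    set D := C.map (QuotientGroup.mk' N) with hD
    obtain ⟨k, hk⟩ := IsPGroup.iff_card.1 S.2
    obtain ⟨j, hj⟩ := IsPGroup.iff_card.1 P.2
    have hDi : D.index ∣ 2 ^ k := by
      rw [← hk, ← hSC.index_eq_card]; exact Subgroup.index_map_dvd _ hsurj
    obtain ⟨i, -, hi⟩ := (Nat.dvd_prime_pow Nat.prime_two).1 hDi
    have hDc : (Nat.card ↥D).Coprime 2 := hC2.coprime_dvd_left (Subgroup.card_map_dvd C _)
    have hcardQ : Nat.card ↥(P : Subgroup (H ⧸ N)) * Nat.card ↥D = Nat.card (H ⧸ N) := by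
      have h1 := (P : Subgroup (H ⧸ N)).card_mul_index
      have h2 := D.card_mul_index
      have hcop : (P : Subgroup (H ⧸ N)).index.Coprime 2 :=
        Nat.Coprime.symm (Nat.prime_two.coprime_iff_not_dvd.2 P.not_dvd_index)
      rw [hj] at h1 ⊢
      rw [hi] at h2
      have e : 2 ^ j * (P : Subgroup (H ⧸ N)).index = Nat.card ↥D * 2 ^ i := h1.trans h2.symm
      have hd : Nat.card ↥D ∣ (P : Subgroup (H ⧸ N)).index :=
        (hDc.pow_right j).dvd_of_dvd_mul_left ⟨2 ^ i, e⟩
      have hd' : (P : Subgroup (H ⧸ N)).index ∣ Nat.card ↥D :=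
        (hcop.pow_right i).dvd_of_dvd_mul_right ⟨2 ^ j, by rw [← e, mul_comm]⟩
      rw [Nat.dvd_antisymm hd hd', h1]
    refine ⟨P, D, ⟨⟨?_⟩⟩, Subgroup.isComplement'_of_card_mul_and_disjoint hcardQ ?_⟩
    · rintro ⟨_, a, ha, rfl⟩ ⟨_, b, hb, rfl⟩
      exact Subtype.ext (show QuotientGroup.mk' N a * QuotientGroup.mk' N b = QuotientGroup.mk' N b * QuotientGroup.mk' N a by
        rw [← map_mul, ← map_mul]; exact congrArg _ (congrArg Subtype.val (hC.is_comm.comm ⟨a, ha⟩ ⟨b, hb⟩)))
    · rw [disjoint_iff]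
      exact Subgroup.inf_eq_bot_of_coprime (by rw [hj]; exact (hDc.pow_right j).symm)

end Cfsg.Agent.S3200
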