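import Cfsg.Statements.S3203
import Mathlib.Tactic

set_option autoImplicit false
open Cfsg

namespace Cfsg.Agent.S3203

/-- Let S be a Sylow 2-subgroup of a finite group G having exactly two subgroups A ≠ B that are maximal among its elementary abelian subgroups, with S = AB. Then A and B are each weakly closed in S with respect to G, and the normalizer of S normalizes both A and B. -/
theorem result {G : Type*} [Group G] [Finite G] (S : Sylow 2 G)
    (A B : Subgroup ↥(S : Subgroup G)) (hAB : A ≠ B)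
    (hA : Cfsg.IsElementaryAbelian 2 A ∧ ∀ C : Subgroup ↥(S : Subgroup G), Cfsg.IsElementaryAbelian 2 C → A ≤ C → C = A)
    (hB : Cfsg.IsElementaryAbelian 2 B ∧ ∀ C : Subgroup ↥(S : Subgroup G), Cfsg.IsElementaryAbelian 2 C → B ≤ C → C = B)
    (honly : ∀ C : Subgroup ↥(S : Subgroup G), Cfsg.IsElementaryAbelian 2 C →
      (∀ D : Subgroup ↥(S : Subgroup G), Cfsg.IsElementaryAbelian 2 D → C ≤ D → D = C) → C = A ∨ C = B)
    (hprod : ∀ s : ↥(S : Subgroup G), ∃ a ∈ A, ∃ b ∈ B, a * b = s)
    (A' B' : Subgroup G) (hA' : A' = A.map (S : Subgroup G).subtype) (hB' : B' = B.map (S : Subgroup G).subtype) :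
    Cfsg.IsWeaklyClosed A' (S : Subgroup G) ∧ Cfsg.IsWeaklyClosed B' (S : Subgroup G) ∧
      Subgroup.normalizer ((S : Subgroup G) : Set G) ≤ Subgroup.normalizer (A' : Set G) ⊓ Subgroup.normalizer (B' : Set G) := by
  haveI : Fact (Nat.Prime 2) := ⟨Nat.prime_two⟩
  subst hA' hB'
  have cj : ∀ (a b : G) (X : Subgroup G), X.map (MulAut.conj (a * b)).toMonoidHom =
      (X.map (MulAut.conj b).toMonoidHom).map (MulAut.conj a).toMonoidHom := fun a b X => by
    ext x; simp [Subgroup.mem_map, mul_assoc]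
  have fix' : ∀ (k : G) (X : Subgroup G), k ∈ Subgroup.normalizer (X : Set G) → X.map (MulAut.conj k).toMonoidHom = X :=
    fun k X hk => Subgroup.mem_normalizer_iff_map_conj_eq.1 hk
  have hel : ∀ (f : ↥(S : Subgroup G) ≃* ↥(S : Subgroup G)) (X : Subgroup ↥(S : Subgroup G)), Cfsg.IsElementaryAbelian 2 X → Cfsg.IsElementaryAbelian 2 (X.map f.toMonoidHom) := by
    intro f X hX
    refine ⟨⟨⟨?_⟩⟩, ?_⟩
    · rintro ⟨_, u, hu, rfl⟩ ⟨_, v, hv, rfl⟩
      refine Subtype.ext ?_
      show f u * f v = f v * f u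
      rw [← map_mul, ← map_mul]
      exact congrArg f (congrArg Subtype.val (hX.1.is_comm.comm ⟨u, hu⟩ ⟨v, hv⟩))
    · rintro _ ⟨u, hu, rfl⟩
      show f u ^ 2 = 1
      rw [← map_pow, hX.2 u hu, map_one]
  have comm : ∀ (X : Subgroup ↥(S : Subgroup G)), Cfsg.IsElementaryAbelian 2 X → ∀ x ∈ X, ∀ y ∈ X, x * y = y * x :=
    fun X hX x hx y hy => congrArg Subtype.val (hX.1.is_comm.comm ⟨x, hx⟩ ⟨y, hy⟩)
  have cover : ∀ X : Subgroup ↥(S : Subgroup G), Cfsg.IsElementaryAbelian 2 X → X ≤ A ∨ X ≤ B := by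
    intro X hX
    obtain ⟨M, hXM, hM⟩ : ∃ M : Subgroup ↥(S : Subgroup G), X ≤ M ∧ Maximal (fun M => Cfsg.IsElementaryAbelian 2 M) M :=
      (Set.toFinite {M : Subgroup ↥(S : Subgroup G) | Cfsg.IsElementaryAbelian 2 M}).exists_le_maximal hX
    rcases honly M hM.1 (fun D hD hle => (le_antisymm hle (hM.2 hD hle)).symm) with rfl | rfl
    · exact Or.inl hXM
    · exact Or.inr hXM
  have maxmap : ∀ (f : ↥(S : Subgroup G) ≃* ↥(S : Subgroup G)) (X : Subgroup ↥(S : Subgroup G)), (Cfsg.IsElementaryAbelian 2 X ∧ ∀ C, Cfsg.IsElementaryAbelian 2 C → X ≤ C → C = X) →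
      X.map f.toMonoidHom = A ∨ X.map f.toMonoidHom = B := by
    intro f X hX
    refine honly _ (hel f X hX.1) fun D hD hle => ?_
    have h1 : X ≤ D.map f.symm.toMonoidHom := fun u hu => ⟨f u, hle ⟨u, hu, rfl⟩, f.symm_apply_apply u⟩
    have h2 := hX.2 _ (hel f.symm D hD) h1
    refine le_antisymm (fun d hd => ?_) hle
    have : f.symm d ∈ X := h2 ▸ ⟨d, hd, rfl⟩
    exact ⟨f.symm d, this, f.apply_symm_apply d⟩
  -- `A` and `B` are normal in `S`
  have fixN : ∀ (X : Subgroup ↥(S : Subgroup G)) (u : ↥(S : Subgroup G)), Cfsg.IsElementaryAbelian 2 X → u ∈ X → X.map (MulAut.conj u).toMonoidHom = X := by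
    intro X u hX hu
    have hmem : ∀ v ∈ X, u * v * u⁻¹ = v := fun v hv => by rw [comm X hX u hu v hv, mul_inv_cancel_right]
    apply le_antisymm
    · rintro _ ⟨v, hv, rfl⟩; show u * v * u⁻¹ ∈ X; rwa [hmem v hv]
    · exact fun v hv => ⟨v, hv, hmem v hv⟩
  have normS : ∀ (X Y : Subgroup ↥(S : Subgroup G)), (∀ s, ∃ a ∈ X, ∃ b ∈ Y, a * b = s) → Cfsg.IsElementaryAbelian 2 X → Cfsg.IsElementaryAbelian 2 Y →
      X ≠ Y → (∀ f : ↥(S : Subgroup G) ≃* ↥(S : Subgroup G), X.map f.toMonoidHom = X ∨ X.map f.toMonoidHom = Y) → ∀ s, X.map (MulAut.conj s).toMonoidHom = X := by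
    intro X Y hXY hX hY hne hf s
    obtain ⟨a, ha, b, hb, rfl⟩ := hXY s
    have e : X.map (MulAut.conj (a * b)).toMonoidHom = (X.map (MulAut.conj b).toMonoidHom).map (MulAut.conj a).toMonoidHom := by
      rw [Subgroup.map_map, map_mul]; rfl
    rcases hf (MulAut.conj b) with h | h
    · rw [e, h, fixN X a hX ha]
    · exfalso
      refine hne (le_antisymm (fun v hv => ?_) (fun v hv => ?_))
      · have hh : b * v * b⁻¹ ∈ Y := h ▸ ⟨v, hv, rfl⟩
        have h2 := mul_mem (mul_mem (inv_mem hb) hh) hb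
        simpa [mul_assoc] using h2
      · have h1 : b⁻¹⁻¹ * v * b⁻¹ ∈ Y := mul_mem (mul_mem (inv_mem (inv_mem hb)) hv) (inv_mem hb)
        rw [← h] at h1
        obtain ⟨w, hw, hwe⟩ := h1
        have : w = v := by
          have e2 : b * w * b⁻¹ = b * v * b⁻¹ := by simpa using hwe
          exact mul_left_cancel (mul_right_cancel e2)
        exact this ▸ hw
  have fA : ∀ f : ↥(S : Subgroup G) ≃* ↥(S : Subgroup G), A.map f.toMonoidHom = A ∨ A.map f.toMonoidHom = B := fun f => maxmap f A hA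
  have fB : ∀ f : ↥(S : Subgroup G) ≃* ↥(S : Subgroup G), B.map f.toMonoidHom = B ∨ B.map f.toMonoidHom = A := fun f => (maxmap f B hB).symm
  have hprod' : ∀ s, ∃ b ∈ B, ∃ a ∈ A, b * a = s := fun s => by
    obtain ⟨a, ha, b, hb, e⟩ := hprod s⁻¹
    exact ⟨b⁻¹, inv_mem hb, a⁻¹, inv_mem ha, by rw [← mul_inv_rev, e, inv_inv]⟩
  have nA := normS A B hprod hA.1 hB.1 hAB fA
  have nB := normS B A hprod' hB.1 hA.1 hAB.symm fB
  let sub : Subgroup ↥(S : Subgroup G) → Subgroup G := fun X => X.map (S : Subgroup G).subtype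
  have subN : ∀ X : Subgroup ↥(S : Subgroup G), (∀ s, X.map (MulAut.conj s).toMonoidHom = X) → (S : Subgroup G) ≤ Subgroup.normalizer (sub X : Set G) := by
    intro X hX s hs
    rw [Subgroup.mem_normalizer_iff_map_conj_eq]
    show (X.map (S : Subgroup G).subtype).map (MulAut.conj s).toMonoidHom = X.map (S : Subgroup G).subtype
    rw [Subgroup.map_map]
    conv_rhs => rw [← hX ⟨s, hs⟩, Subgroup.map_map]
    rfl
  -- the normalizer of `S` fixes `A` and `B`
  have hNS : ∀ n ∈ Subgroup.normalizer ((S : Subgroup G) : Set G), (sub A).map (MulAut.conj n).toMonoidHom = sub A ∧ (sub B).map (MulAut.conj n).toMonoidHom = sub B := by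
    intro n hn
    let f : ↥(S : Subgroup G) ≃* ↥(S : Subgroup G) :=
      { toFun := fun s => ⟨n * s * n⁻¹, (Subgroup.mem_normalizer_iff.1 hn s).1 s.2⟩
        invFun := fun s => ⟨n⁻¹ * s * n, by simpa using (Subgroup.mem_normalizer_iff.1 (inv_mem hn) s).1 s.2⟩
        left_inv := fun s => by ext; simp [mul_assoc]
        right_inv := fun s => by ext; simp [mul_assoc]
        map_mul' := fun a b => by ext; simp [mul_assoc] }
    have hsub : ∀ X : Subgroup ↥(S : Subgroup G), (sub X).map (MulAut.conj n).toMonoidHom = sub (X.map f.toMonoidHom) := fun X => by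
      show (X.map (S : Subgroup G).subtype).map _ = (X.map _).map _
      rw [Subgroup.map_map, Subgroup.map_map]; rfl
    rw [hsub, hsub]
    rcases fA f with h | h
    · refine ⟨by rw [h], ?_⟩
      rcases fB f with h' | h'
      · rw [h']
      · exact absurd (Subgroup.map_injective f.injective (h.trans h'.symm)) hAB
    · exfalso
      -- `f` would swap `A` and `B`; an odd power of it is conjugation by an element of `S`
      have hB' : B.map f.toMonoidHom = A := (fB f).resolve_left fun h' =>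
        hAB (Subgroup.map_injective f.injective (h.trans h'.symm))
      let N := Subgroup.normalizer ((S : Subgroup G) : Set G)
      let K := (S : Subgroup G).subgroupOf N
      haveI : K.Normal := Subgroup.normal_in_normalizer
      have hodd : ¬ 2 ∣ K.index := fun hd => S.not_dvd_index (hd.trans (Subgroup.relIndex_dvd_index_of_le Subgroup.le_normalizer))
      obtain ⟨j, hj⟩ := (Nat.not_even_iff_odd.1 (fun he => hodd (even_iff_two_dvd.1 he)))
      have hmem : n ^ K.index ∈ (S : Subgroup G) := K.pow_index_mem ⟨n, hn⟩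
      have hit : ∀ i : ℕ, (sub A).map (MulAut.conj (n ^ (2 * i + 1))).toMonoidHom = sub B := by
        intro i
        induction i with
        | zero => rw [mul_zero, zero_add, pow_one, hsub, h]
        | succ i ih =>
          have e : n ^ (2 * (i + 1) + 1) = n * (n * n ^ (2 * i + 1)) := by
            rw [← pow_succ', ← pow_succ']; congr 1
          have e2 : (sub A).map (MulAut.conj (n * (n * n ^ (2 * i + 1)))).toMonoidHom =
              (((sub A).map (MulAut.conj (n ^ (2 * i + 1))).toMonoidHom).map (MulAut.conj n).toMonoidHom).map (MulAut.conj n).toMonoidHom := by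
            rw [cj, cj]
          rw [e, e2, ih, hsub, hB', hsub, h]
      have h1 := hit j
      rw [← hj, fix' _ _ (subN A nA hmem)] at h1
      exact hAB (Subgroup.map_injective (Subgroup.subtype_injective (S : Subgroup G)) h1)
  have wc : ∀ (X Y : Subgroup ↥(S : Subgroup G)), X ≠ Y → (Cfsg.IsElementaryAbelian 2 X ∧ ∀ C, Cfsg.IsElementaryAbelian 2 C → X ≤ C → C = X) →
      (∀ Z : Subgroup ↥(S : Subgroup G), Cfsg.IsElementaryAbelian 2 Z → Z ≤ X ∨ Z ≤ Y) → Cfsg.IsElementaryAbelian 2 Y →
      (∀ s, X.map (MulAut.conj s).toMonoidHom = X) → (∀ s, Y.map (MulAut.conj s).toMonoidHom = Y) →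
      (∀ n ∈ Subgroup.normalizer ((S : Subgroup G) : Set G), (sub X).map (MulAut.conj n).toMonoidHom = sub X) →
      Cfsg.IsWeaklyClosed (sub X) (S : Subgroup G) := by
    intro X Y hne hX hcov hY nX nY hfix
    refine ⟨Subgroup.map_subtype_le _, fun g hg => ?_⟩
    set W := (sub X).map (MulAut.conj g).toMonoidHom
    have hcard : ∀ Z : Subgroup ↥(S : Subgroup G), Nat.card (sub Z) = Nat.card Z := fun Z =>
      Nat.card_congr (Z.equivMapOfInjective _ (Subgroup.subtype_injective _)).symm.toEquiv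
    have hWc : Nat.card W = Nat.card X := by
      rw [← hcard X]
      exact Nat.card_congr ((sub X).equivMapOfInjective _ (MulAut.conj g).injective).symm.toEquiv
    have hWel : Cfsg.IsElementaryAbelian 2 (W.subgroupOf (S : Subgroup G)) := by
      refine ⟨⟨⟨?_⟩⟩, ?_⟩
      · rintro ⟨u, hu⟩ ⟨v, hv⟩
        obtain ⟨_, ⟨a, ha, rfl⟩, hu'⟩ := hu
        obtain ⟨_, ⟨b, hb, rfl⟩, hv'⟩ := hv
        refine Subtype.ext (Subtype.ext ?_)
        show (u : G) * v = v * u
        rw [← show (MulAut.conj g).toMonoidHom (a : G) = (u : G) from hu', ← show (MulAut.conj g).toMonoidHom (b : G) = (v : G) from hv', ← map_mul, ← map_mul]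
        exact congrArg _ (congrArg Subtype.val (comm X hX.1 a ha b hb))
      · rintro u ⟨_, ⟨a, ha, rfl⟩, hu'⟩
        refine Subtype.ext ?_
        show (u : G) ^ 2 = 1
        rw [← show (MulAut.conj g).toMonoidHom (a : G) = (u : G) from hu', ← map_pow]
        have := congrArg Subtype.val (hX.1.2 a ha)
        simp at this
        simp [this]
    rcases hcov _ hWel with h | h
    · refine Subgroup.eq_of_le_of_card_ge (fun w hw => ⟨⟨w, hg hw⟩, h hw, rfl⟩) (by rw [hWc, hcard])
    · exfalso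
      have hWY : W ≤ sub Y := fun w hw => ⟨⟨w, hg hw⟩, h hw, rfl⟩
      -- compare inside the normalizer of `X`
      let V := (sub Y).map (MulAut.conj g⁻¹).toMonoidHom
      have hXV : sub X ≤ V := by
        intro v hv
        refine ⟨g * v * g⁻¹, hWY ⟨v, hv, rfl⟩, ?_⟩
        simp [mul_assoc]
      have hVcomm : ∀ u ∈ V, ∀ v ∈ V, u * v = v * u := by
        rintro _ ⟨_, ⟨a, ha, rfl⟩, rfl⟩ _ ⟨_, ⟨b, hb, rfl⟩, rfl⟩
        simp only [← map_mul, comm Y hY a ha b hb]
      have hVsq : ∀ u ∈ V, u ^ 2 = 1 := by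
        rintro _ ⟨_, ⟨a, ha, rfl⟩, rfl⟩
        rw [← map_pow]
        have := congrArg Subtype.val (hY.2 a ha)
        simp at this
        simp [this]
      let M := Subgroup.normalizer (sub X : Set G)
      have hSM : (S : Subgroup G) ≤ M := subN X nX
      have hVM : V ≤ M := fun v hv => by
        refine Subgroup.mem_normalizer_iff.2 fun a => ⟨fun ha => ?_, fun ha => ?_⟩
        · rwa [hVcomm v hv a (hXV ha), mul_inv_cancel_right]
        · have h := hVcomm v⁻¹ (inv_mem hv) _ (hXV ha)
          have e : v⁻¹ * (v * a * v⁻¹) * v = a := by group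
          rw [h, inv_mul_cancel_right] at e
          rwa [e] at ha
      have hVp : IsPGroup 2 V := by
        intro v; exact ⟨1, Subtype.ext (by simpa using hVsq v v.2)⟩
      obtain ⟨R, hR⟩ := (hVp.comap_subtype (K := M)).exists_le_sylow
      obtain ⟨m, hm⟩ := MulAction.exists_smul_eq M R (S.subtype hSM)
      have hmem : ∀ v ∈ V, (m : G) * v * (m : G)⁻¹ ∈ (S : Subgroup G) := by
        intro v hv
        have h1 : m * ⟨v, hVM hv⟩ * m⁻¹ ∈ ((S.subtype hSM : Sylow 2 M) : Subgroup M) := by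
          rw [← hm, Sylow.coe_subgroup_smul]
          exact ⟨_, hR (show (⟨v, hVM hv⟩ : M) ∈ V.subgroupOf M from hv), rfl⟩
        exact h1
      let U := (V.map (MulAut.conj (m : G)).toMonoidHom).subgroupOf (S : Subgroup G)
      have hUel : Cfsg.IsElementaryAbelian 2 U := by
        refine ⟨⟨⟨?_⟩⟩, ?_⟩
        · rintro ⟨u, hu⟩ ⟨v, hv⟩
          obtain ⟨a, ha, hu'⟩ := hu
          obtain ⟨b, hb, hv'⟩ := hv
          refine Subtype.ext (Subtype.ext ?_)
          show (u : G) * v = v * u
          rw [← show (MulAut.conj (m : G)).toMonoidHom a = (u : G) from hu', ← show (MulAut.conj (m : G)).toMonoidHom b = (v : G) from hv', ← map_mul, ← map_mul, hVcomm a ha b hb]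
        · rintro u ⟨a, ha, hu'⟩
          refine Subtype.ext ?_
          show (u : G) ^ 2 = 1
          rw [← show (MulAut.conj (m : G)).toMonoidHom a = (u : G) from hu', ← map_pow, hVsq a ha, map_one]
      have hXU : X ≤ U := by
        intro x hx
        have hx' : (x : G) ∈ sub X := ⟨x, hx, rfl⟩
        have h1 : (m : G)⁻¹ * x * (m : G) ∈ sub X := by
          simpa using (Subgroup.mem_normalizer_iff.1 (inv_mem m.2) x).1 hx'
        exact ⟨_, hXV h1, by simp [mul_assoc]⟩
      have hUX := hX.2 U hUel hXU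
      have hVX : V = sub X := by
        refine le_antisymm (fun v hv => ?_) hXV
        have h1 : (⟨_, hmem v hv⟩ : ↥(S : Subgroup G)) ∈ U := ⟨v, hv, rfl⟩
        rw [hUX] at h1
        have h2 : (m : G) * v * (m : G)⁻¹ ∈ sub X := ⟨_, h1, rfl⟩
        exact (Subgroup.mem_normalizer_iff.1 m.2 v).2 h2
      -- hence `X` and `Y` are conjugate, both normal in `S`
      have hWY' : W = sub Y := by
        show (sub X).map _ = _
        rw [← hVX, Subgroup.map_map]
        ext a; simp [Subgroup.mem_map, mul_assoc]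
      let MY := Subgroup.normalizer (sub Y : Set G)
      have hgS : ∀ s ∈ (S : Subgroup G), g * s * g⁻¹ ∈ MY := by
        intro s hs
        rw [Subgroup.mem_normalizer_iff_map_conj_eq, ← hWY']
        show ((sub X).map _).map _ = _
        have hsX := Subgroup.mem_normalizer_iff_map_conj_eq.1 (subN X nX hs)
        conv_rhs => rw [show W = (sub X).map (MulAut.conj g).toMonoidHom from rfl, ← hsX, Subgroup.map_map]
        rw [Subgroup.map_map]
        ext a; simp [Subgroup.mem_map, mul_assoc]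
      let T₁ : Sylow 2 MY := S.subtype (subN Y nY)
      have hgS' : ((g • S : Sylow 2 G) : Subgroup G) ≤ MY := by
        rw [Sylow.coe_subgroup_smul]
        rintro _ ⟨s, hs, rfl⟩; exact hgS s hs
      obtain ⟨k, hk⟩ := MulAction.exists_smul_eq MY ((g • S : Sylow 2 G).subtype hgS') T₁
      have hn : (k : G) * g ∈ Subgroup.normalizer ((S : Subgroup G) : Set G) := by
        rw [Subgroup.mem_normalizer_iff_map_conj_eq]
        refine Subgroup.eq_of_le_of_card_ge ?_ (Nat.card_congr ((S : Subgroup G).equivMapOfInjective _ (MulAut.conj _).injective).toEquiv).le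
        rintro _ ⟨s, hs, rfl⟩
        have h1 : k * ⟨_, hgS s hs⟩ * k⁻¹ ∈ (T₁ : Subgroup MY) := by
          rw [← hk, Sylow.coe_subgroup_smul]
          refine ⟨_, ?_, rfl⟩
          show g * s * g⁻¹ ∈ ((g • S : Sylow 2 G) : Subgroup G)
          rw [Sylow.coe_subgroup_smul]; exact ⟨s, hs, rfl⟩
        show (k : G) * g * s * ((k : G) * g)⁻¹ ∈ (S : Subgroup G)
        simpa [mul_assoc] using (show (k : G) * (g * s * g⁻¹) * (k : G)⁻¹ ∈ (S : Subgroup G) from h1)
      have h1 := hfix _ hn
      have e : (sub X).map (MulAut.conj ((k : G) * g)).toMonoidHom = W.map (MulAut.conj (k : G)).toMonoidHom := by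
        exact cj _ _ _
      rw [e, hWY', fix' _ _ k.2] at h1
      exact hne (Subgroup.map_injective (Subgroup.subtype_injective (S : Subgroup G)) h1.symm)
  refine ⟨wc A B hAB hA cover hB.1 nA nB (fun n hn => (hNS n hn).1),
    wc B A hAB.symm hB (fun Z hZ => (cover Z hZ).symm) hA.1 nB nA (fun n hn => (hNS n hn).2), fun n hn => ?_⟩
  exact ⟨Subgroup.mem_normalizer_iff_map_conj_eq.2 (hNS n hn).1, Subgroup.mem_normalizer_iff_map_conj_eq.2 (hNS n hn).2⟩

end Cfsg.Agent.S3203
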