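import Cfsg.Statements.S3206
import Cfsg.Agent.Lib.InvChar.JankoReeSylow

set_option autoImplicit false
open Cfsg

namespace Cfsg.Agent.S3206

open CfsgLib.InvChar.JR

variable {G : Type*} [Group G] [Finite G]

/-- An automorphism of 2-power order fixing the distinguished Sylow 2-subgroup is inner. -/
theorem inner_of_fix [IsSimpleGroup G] (hG : ¬ IsMulCommutative G) (t : G) (ht1 : t ≠ 1)
    (hmax : IsCoatom (Subgroup.centralizer ({t} : Set G))) (E : Subgroup G)
    (hE : Cfsg.IsInternalDirectProduct (Subgroup.zpowers t) E (Subgroup.centralizer ({t} : Set G)))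
    (N : Subgroup ↥E) [N.Normal] [IsSimpleGroup ↥N]
    (hNc : Subgroup.centralizer (N : Set ↥E) = ⊥)
    (S : Sylow 2 G) (x y n : G) (D : SylowData t S (N.map E.subtype) x y n)
    (haut : ∀ (β : MulAut ↥N) (k : ℕ), β ^ (2 ^ k) = 1 →
      (∀ u : ↥N, ((u : ↥E) : G) = x ∨ ((u : ↥E) : G) = y → β u = u) →
      ∃ v : ↥N, InFour x y ((v : ↥E) : G) ∧ β = MulAut.conj v)
    (φ : MulAut G) (k : ℕ) (hφ : φ ^ (2 ^ k) = 1) (hfix : ∀ s ∈ (S : Subgroup G), φ s = s) :
    ∃ g : G, ∀ z : G, φ z = g * z * g⁻¹ := by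
  classical
  haveI : Fact (Nat.Prime 2) := ⟨Nat.prime_two⟩
  obtain ⟨hzC, hEC, htE, hinf, -⟩ := id hE
  have ht2 : t * t = 1 := D.sq t D.tS
  set C := Subgroup.centralizer ({t} : Set G) with hCdef
  have memC : ∀ c, c ∈ C ↔ c * t = t * c := fun c => Subgroup.mem_centralizer_singleton_iff
  set NG := N.map E.subtype with hNG
  have hNGE : NG ≤ E := Subgroup.map_subtype_le N
  have hNGeq : Nat.card ↥NG = Nat.card ↥N :=
    Subgroup.card_map_of_injective E.subtype_injective
  -- `C` normalizes `N`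
  have hCN : ∀ c ∈ C, ∀ u ∈ NG, c * u * c⁻¹ ∈ NG := by
    intro c hc u hu
    obtain ⟨w, hw, rfl⟩ := hu
    rcases mem_pm_of_sup t ht2 E C hE c hc with h | h
    · exact ⟨⟨c, h⟩ * w * ⟨c, h⟩⁻¹, ‹N.Normal›.conj_mem w hw _, rfl⟩
    · refine ⟨⟨t * c, h⟩ * w * ⟨t * c, h⟩⁻¹, ‹N.Normal›.conj_mem w hw _, ?_⟩
      have hm : c * (w : G) * c⁻¹ = t⁻¹ * (t * c * (w : G) * (t * c)⁻¹) * t := by group
      have hcw : t * c * (w : G) * (t * c)⁻¹ ∈ E := mul_mem (mul_mem h w.2) (inv_mem h)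
      show t * c * (w : G) * (t * c)⁻¹ = c * (w : G) * c⁻¹
      rw [hm, mul_assoc t⁻¹, ← htE t (Subgroup.mem_zpowers t) _ hcw, inv_mul_cancel_left]
  -- the centralizer of `N` in `C`
  have hCcN : ∀ c ∈ C, (∀ u ∈ NG, c * u = u * c) → c = 1 ∨ c = t := by
    intro c hc hcu
    have key : ∀ e : ↥E, (∀ u ∈ NG, (e : G) * u = u * e) → e = 1 := by
      intro e he
      have : e ∈ Subgroup.centralizer (N : Set ↥E) := by
        rw [Subgroup.mem_centralizer_iff]
        intro w hw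
        exact Subtype.ext (he _ ⟨w, hw, rfl⟩).symm
      rwa [hNc, Subgroup.mem_bot] at this
    rcases mem_pm_of_sup t ht2 E C hE c hc with h | h
    · exact Or.inl (congrArg Subtype.val (key ⟨c, h⟩ hcu))
    · refine Or.inr ?_
      have h1 : t * c = 1 := congrArg Subtype.val (key ⟨t * c, h⟩ fun u hu => by
        show t * c * u = u * (t * c)
        rw [mul_assoc, hcu u hu, ← mul_assoc, htE t (Subgroup.mem_zpowers t) u (hNGE hu), mul_assoc])
      rw [← inv_eq_of_mul_eq_one_right h1, inv_eq_of_mul_eq_one_right ht2]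
  -- `φ` fixes `N` as a set
  have hφt : φ t = t := hfix t D.tS
  have hφN : ∀ u ∈ NG, φ u ∈ NG := by
    set M : Subgroup G := NG.map φ.toMonoidHom
    have hMn : ∀ u ∈ NG, ∀ w ∈ M, u * w * u⁻¹ ∈ M := by
      intro u hu w hw
      obtain ⟨w', hw', rfl⟩ := hw
      obtain ⟨c, rfl⟩ := φ.surjective u
      have hcC : c ∈ C := by
        have hu' : φ c * t = t * φ c := (memC _).1 (hEC (hNGE hu))
        rw [memC]
        exact φ.injective (by rw [map_mul, map_mul, hφt, hu'])
      exact ⟨_, hCN c hcC w' hw', by simp⟩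
    let K : Subgroup ↥N := M.comap (E.subtype.comp N.subtype)
    have hKn : K.Normal := ⟨fun w hw u => by
      show E.subtype (N.subtype (u * w * u⁻¹)) ∈ M
      rw [map_mul, map_mul, map_inv, map_mul, map_mul, map_inv]
      exact hMn _ ⟨u, u.2, rfl⟩ _ hw⟩
    rcases hKn.eq_bot_or_eq_top with h | h
    · exfalso
      obtain ⟨w, hw, hwx⟩ := D.xN
      have hwK : (⟨w, hw⟩ : ↥N) ∈ K := by
        show E.subtype w ∈ M
        exact ⟨x, D.xN, by rw [hwx]; exact hfix x D.xS⟩
      rw [h, Subgroup.mem_bot] at hwK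
      have := congrArg (fun z : ↥N => ((z : ↥E) : G)) hwK
      exact D.x1 (hwx.symm.trans this)
    · have hle : NG ≤ M := by
        rintro _ ⟨w, hw, rfl⟩
        have : (⟨w, hw⟩ : ↥N) ∈ K := h ▸ Subgroup.mem_top _
        exact this
      have heq : NG = M := Subgroup.eq_of_le_of_card_ge hle
        (le_of_eq (Subgroup.card_map_of_injective φ.injective))
      intro u hu
      rw [heq]
      exact Subgroup.mem_map_of_mem _ hu
  -- the restriction to `N`
  have hback : ∀ u ∈ NG, ∃ w : ↥N, ((w : ↥E) : G) = u := fun u ⟨w, hw, e⟩ => ⟨⟨w, hw⟩, e⟩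
  have hmemNG : ∀ w : ↥N, ((w : ↥E) : G) ∈ NG := fun w => ⟨_, w.2, rfl⟩
  let r : ↥N → ↥N := fun w => (hback _ (hφN _ (hmemNG w))).choose
  have hr : ∀ w : ↥N, ((r w : ↥E) : G) = φ ((w : ↥E) : G) := fun w =>
    (hback _ (hφN _ (hmemNG w))).choose_spec
  have hinjN : ∀ a b : ↥N, ((a : ↥E) : G) = ((b : ↥E) : G) → a = b :=
    fun a b h => Subtype.ext (Subtype.ext h)
  let β : MulAut ↥N := MulEquiv.mk' (Equiv.ofBijective r
      ((Finite.injective_iff_bijective (f := r)).1 fun a b h => hinjN a b (φ.injective (by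
        rw [← hr, ← hr, h]))))
    (fun a b => hinjN _ _ (by
      show ((r (a * b) : ↥E) : G) = ((r a : ↥E) : G) * ((r b : ↥E) : G)
      rw [hr, hr, hr, ← map_mul]; rfl))
  have hβ : ∀ w : ↥N, ((β w : ↥E) : G) = φ ((w : ↥E) : G) := hr
  have hβk : ∀ (j : ℕ) (w : ↥N), (((β ^ j) w : ↥E) : G) = (φ ^ j) ((w : ↥E) : G) := by
    intro j
    induction j with
    | zero => intro w; rfl
    | succ j ih => intro w; rw [pow_succ', pow_succ', MulAut.mul_apply, MulAut.mul_apply, hβ, ih]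
  obtain ⟨v, hv, hβv⟩ := haut β k (MulEquiv.ext fun w => hinjN _ _ (by rw [hβk, hφ]; rfl))
    (fun u hu => hinjN _ _ (by
      rw [hβ]
      rcases hu with h | h <;> rw [h]
      exacts [hfix x D.xS, hfix y D.yS]))
  set v' : G := ((v : ↥E) : G) with hv'
  have hvS : v' ∈ (S : Subgroup G) := inFour_mem D.xS D.yS hv
  set ψ : MulAut G := MulAut.conj v'⁻¹ * φ with hψdef
  have hψap : ∀ z, ψ z = v'⁻¹ * φ z * v' := fun z => by
    rw [hψdef, MulAut.mul_apply, MulAut.conj_apply, inv_inv]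
  have hψpow : ψ ^ 2 ^ (k + 1) = 1 := by
    have hcomm : Commute (MulAut.conj v'⁻¹) φ := MulEquiv.ext fun z => by
      show v'⁻¹ * φ z * (v'⁻¹)⁻¹ = φ (v'⁻¹ * z * (v'⁻¹)⁻¹)
      rw [map_mul, map_mul, map_inv φ v'⁻¹, map_inv φ v', hfix _ hvS]
    rw [hψdef, hcomm.mul_pow, show φ ^ 2 ^ (k + 1) = 1 by rw [pow_succ, pow_mul, hφ, one_pow],
      mul_one, ← map_pow, inv_pow, pow_succ', pow_mul, pow_two, D.sq _ hvS, one_pow, inv_one,
      map_one]
  have hψS : ∀ s ∈ (S : Subgroup G), ψ s = s := fun s hs => by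
    rw [hψap, hfix s hs, mul_assoc, D.comm s hs v' hvS, inv_mul_cancel_left]
  have hψN : ∀ u ∈ NG, ψ u = u := by
    intro u hu
    obtain ⟨w, rfl⟩ := hback u hu
    rw [hψap, ← hβ, hβv]
    show v'⁻¹ * (v' * ((w : ↥E) : G) * v'⁻¹) * v' = _
    group
  have hψt : ψ t = t := hψS t D.tS
  -- `ψ` fixes `C` pointwise
  have hψC0 : ∀ c ∈ C, c⁻¹ * ψ c = 1 ∨ c⁻¹ * ψ c = t := by
    intro c hc
    have hψc : ψ c * t = t * ψ c := by
      have := congrArg ψ ((memC c).1 hc)
      rwa [map_mul, map_mul, hψt] at this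
    refine hCcN _ (mul_mem (inv_mem hc) ((memC _).2 hψc)) fun u hu => ?_
    have h1 : ψ (c * u * c⁻¹) = c * u * c⁻¹ := hψN _ (hCN c hc u hu)
    rw [map_mul, map_mul, map_inv, hψN u hu] at h1
    calc c⁻¹ * ψ c * u = c⁻¹ * (ψ c * u * (ψ c)⁻¹) * ψ c := by group
      _ = c⁻¹ * (c * u * c⁻¹) * ψ c := by rw [h1]
      _ = u * (c⁻¹ * ψ c) := by group
  have hψC : ∀ c ∈ C, ψ c = c := by
    have hSC : (S : Subgroup G) ≤ C := fun s hs => (memC s).2 (D.le_cent s hs)
    let χ : ↥C → G := fun c => (c : G)⁻¹ * ψ c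
    have hχ : ∀ c : ↥C, χ c * t = t * χ c := fun c => by
      rcases hψC0 c c.2 with h | h <;> simp [χ, h]
    have hmul : ∀ a b : ↥C, χ (a * b) = χ a * χ b := by
      intro a b
      show ((a : G) * b)⁻¹ * ψ ((a : G) * b) = _
      rw [map_mul]
      have hcb : (b : G)⁻¹ * χ a = χ a * (b : G)⁻¹ := by
        rcases hψC0 a a.2 with h | h
        · simp only [χ, h, mul_one, one_mul]
        · simp only [χ, h]
          exact (memC _).1 (inv_mem b.2)
      calc ((a : G) * b)⁻¹ * (ψ a * ψ b) = (b : G)⁻¹ * χ a * ψ b := by simp only [χ]; group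
        _ = χ a * χ b := by rw [hcb, mul_assoc]
    let χh : ↥C →* G := MonoidHom.mk' χ hmul
    intro c hc
    by_contra hne
    have hct : χh ⟨c, hc⟩ = t := (hψC0 c hc).resolve_left fun h => hne (inv_mul_eq_one.1 h).symm
    set o := orderOf (⟨c, hc⟩ : ↥C) with ho
    obtain ⟨a, m, hm, ham⟩ := Nat.exists_eq_two_pow_mul_odd (orderOf_pos (⟨c, hc⟩ : ↥C)).ne'
    have hpd : IsPGroup 2 ↥(Subgroup.zpowers ((⟨c, hc⟩ : ↥C) ^ m)) := by
      intro u
      obtain ⟨i, hi⟩ := u.2
      refine ⟨a, Subtype.ext ?_⟩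
      simp only [SubmonoidClass.coe_pow, OneMemClass.coe_one]
      rw [← hi, ← zpow_natCast, ← zpow_mul, mul_comm, zpow_mul, zpow_natCast, ← pow_mul,
        mul_comm m, ← ham, pow_orderOf_eq_one, one_zpow]
    obtain ⟨T, hT⟩ := hpd.exists_le_sylow
    obtain ⟨d, hd⟩ := MulAction.exists_smul_eq ↥C T (S.subtype hSC)
    have hmem : d * (⟨c, hc⟩ : ↥C) ^ m * d⁻¹ ∈ ((S.subtype hSC : Sylow 2 ↥C) : Subgroup ↥C) := by
      rw [← hd]
      exact Subgroup.smul_mem_pointwise_smul _ (MulAut.conj d) _ (hT (Subgroup.mem_zpowers _))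
    have hone : χh (d * (⟨c, hc⟩ : ↥C) ^ m * d⁻¹) = 1 := by
      show ((d * (⟨c, hc⟩ : ↥C) ^ m * d⁻¹ : ↥C) : G)⁻¹ * ψ _ = 1
      rw [hψS ((d * (⟨c, hc⟩ : ↥C) ^ m * d⁻¹ : ↥C) : G) hmem, inv_mul_cancel]
    have hdc : χh d * t = t * χh d := hχ d
    rw [map_mul, map_mul, map_inv, map_pow, hct] at hone
    obtain ⟨j, hj⟩ := hm
    have htm : t ^ m = t := by
      rw [hj, pow_succ, pow_mul, pow_two, ht2, one_pow, one_mul]
    rw [htm, hdc, mul_inv_cancel_right] at hone
    exact ht1 hone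
  -- the action on the normalizer of `S`
  set H := Subgroup.normalizer ((S : Subgroup G) : Set G) with hH
  set S' := (S : Subgroup G).subgroupOf H with hS'
  haveI : S'.Normal := Subgroup.normal_in_normalizer
  have hcS : ∀ h ∈ H, h⁻¹ * ψ h ∈ (S : Subgroup G) := by
    intro h hh
    set c := h⁻¹ * ψ h with hc
    have hcom : ∀ s ∈ (S : Subgroup G), c * s = s * c := by
      intro s hs
      have h1 : ψ (h * s * h⁻¹) = h * s * h⁻¹ :=
        hψS _ ((Subgroup.mem_normalizer_iff.1 hh s).1 hs)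
      rw [map_mul, map_mul, map_inv, hψS s hs] at h1
      calc c * s = h⁻¹ * (ψ h * s * (ψ h)⁻¹) * ψ h := by rw [hc]; group
        _ = h⁻¹ * (h * s * h⁻¹) * ψ h := by rw [h1]
        _ = s * c := by rw [hc]; group
    have hψc : ψ c = c := hψC c ((memC c).2 (hcom t D.tS))
    have hψh : ψ h = h * c := by rw [hc, mul_inv_cancel_left]
    have hit : ∀ j : ℕ, (ψ ^ j) h = h * c ^ j := by
      intro j
      induction j with
      | zero => simp
      | succ j ih => rw [pow_succ', MulAut.mul_apply, ih, map_mul, map_pow, hψc, hψh, pow_succ',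
          mul_assoc]
    have hc2 : c ^ 2 ^ (k + 1) = 1 := by
      have := hit (2 ^ (k + 1))
      rw [hψpow, MulAut.one_apply] at this
      exact mul_eq_left.1 this.symm
    have hpc : IsPGroup 2 ↥(Subgroup.zpowers c) := by
      intro u
      obtain ⟨i, hi⟩ := u.2
      refine ⟨k + 1, Subtype.ext ?_⟩
      simp only [SubmonoidClass.coe_pow, OneMemClass.coe_one]
      rw [← hi, ← zpow_natCast, ← zpow_mul, mul_comm, zpow_mul, zpow_natCast, hc2, one_zpow]
    have hcn : c ∈ Subgroup.normalizer ((S : Subgroup G) : Set G) := by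
      rw [Subgroup.mem_normalizer_iff]
      intro s
      constructor
      · intro hs; rw [hcom s hs, mul_inv_cancel_right]; exact hs
      · intro hs
        have h2 := hcom _ hs
        have e : c * s * c⁻¹ = s :=
          calc c * s * c⁻¹ = c⁻¹ * (c * (c * s * c⁻¹)) := (inv_mul_cancel_left _ _).symm
            _ = c⁻¹ * (c * s * c⁻¹ * c) := by rw [h2]
            _ = s := by group
        rwa [e] at hs
    have hsup : IsPGroup 2 ↥(Subgroup.zpowers c ⊔ (S : Subgroup G)) :=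
      hpc.to_sup_of_normal_right' S.isPGroup' (Subgroup.zpowers_le.2 hcn)
    rw [← S.3 hsup le_sup_right]
    exact (le_sup_left : Subgroup.zpowers c ≤ _) (Subgroup.mem_zpowers c)
  haveI : IsMulCommutative ↥(S : Subgroup G) :=
    ⟨⟨fun u w => Subtype.ext (D.comm _ u.2 _ w.2)⟩⟩
  letI : CommGroup ↥(S : Subgroup G) :=
    { (inferInstance : Group ↥(S : Subgroup G)) with
      mul_comm := fun u w => Subtype.ext (D.comm _ u.2 _ w.2) }
  let cf : ↥H → ↥(S : Subgroup G) := fun h => ⟨(h : G)⁻¹ * ψ h, hcS h h.2⟩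
  let κ : ↥H → (↥(S : Subgroup G) →* ↥(S : Subgroup G)) := fun r =>
    MonoidHom.mk' (fun s => ⟨(r : G)⁻¹ * s * r, by
        have := (Subgroup.mem_normalizer_iff.1 (inv_mem r.2) (s : G)).1 s.2
        rwa [inv_inv] at this⟩)
      (fun s1 s2 => Subtype.ext (by simp [mul_assoc]))
  have hcoc : ∀ h r : ↥H, cf (h * r) = κ r (cf h) * cf r := fun h r => Subtype.ext (by
    show ((h : G) * r)⁻¹ * ψ ((h : G) * r) =
      (r : G)⁻¹ * ((h : G)⁻¹ * ψ h) * r * ((r : G)⁻¹ * ψ r)
    rw [map_mul]; group)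
  have hwd : ∀ h r : ↥H, (QuotientGroup.leftRel S').r h r → cf h = cf r := by
    intro h r hr
    rw [QuotientGroup.leftRel_apply] at hr
    have e : r = h * (h⁻¹ * r) := by group
    set s := h⁻¹ * r with hs
    have hsS : (s : G) ∈ (S : Subgroup G) := hr
    have hs1 : cf s = 1 := Subtype.ext (by
      show (s : G)⁻¹ * ψ s = 1
      rw [hψS _ hsS, inv_mul_cancel])
    rw [e, hcoc, hs1, mul_one]
    refine Subtype.ext ?_
    show _ = (s : G)⁻¹ * (cf h : G) * s
    rw [mul_assoc, D.comm _ (cf h).2 _ hsS, inv_mul_cancel_left]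
  let cq : ↥H ⧸ S' → ↥(S : Subgroup G) := Quotient.lift cf hwd
  haveI : Fintype (↥H ⧸ S') := Fintype.ofFinite _
  set a : ↥(S : Subgroup G) := ∏ q, cq q with hadef
  have hsq : ∀ s : ↥(S : Subgroup G), s * s = 1 := fun s => Subtype.ext (D.sq _ s.2)
  have hnodd : Odd (Fintype.card (↥H ⧸ S')) := by
    rw [← Nat.card_eq_fintype_card]
    exact (Nat.odd_iff.2 (Nat.two_dvd_ne_zero.1 S.not_dvd_index)).of_dvd_nat
      ⟨H.index, (Subgroup.relIndex_mul_index Subgroup.le_normalizer).symm⟩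
  have hcr : ∀ r : ↥H, cf r = κ r a * a := by
    intro r
    have h1 : a = κ r a * cf r := by
      have hperm : ∏ q, cq (q * (r : ↥H ⧸ S')) = a :=
        Equiv.prod_comp (Equiv.mulRight (r : ↥H ⧸ S')) cq
      have hstep : ∀ q, cq (q * (r : ↥H ⧸ S')) = κ r (cq q) * cf r := by
        intro q
        obtain ⟨h, rfl⟩ := QuotientGroup.mk_surjective q
        exact hcoc h r
      rw [Finset.prod_congr rfl fun q _ => hstep q, Finset.prod_mul_distrib, ← map_prod,
        Finset.prod_const, Finset.card_univ] at hperm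
      obtain ⟨j, hj⟩ := hnodd
      rw [hj, pow_succ, pow_mul, pow_two, hsq, one_pow, one_mul] at hperm
      exact hperm.symm
    calc cf r = κ r a * κ r a * cf r := by rw [hsq, one_mul]
      _ = κ r a * (κ r a * cf r) := mul_assoc _ _ _
      _ = κ r a * a := by rw [← h1]
  set a' : G := (a : G) with ha'
  have hai : a'⁻¹ = a' := inv_eq_of_mul_eq_one_right (D.sq _ a.2)
  have hψH : ∀ h ∈ H, ψ h = a' * h * a'⁻¹ := by
    intro h hh
    have e : (h⁻¹ * ψ h : G) = h⁻¹ * a' * h * a' := congrArg Subtype.val (hcr ⟨h, hh⟩)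
    rw [hai]
    calc ψ h = h * (h⁻¹ * ψ h) := (mul_inv_cancel_left _ _).symm
      _ = a' * h * a' := by rw [e]; group
  have hnC : n ∈ C := (memC n).2 D.ncent
  have hna : n * a' * n⁻¹ = a' := by
    have e := (hψH n D.nnorm).symm.trans (hψC n hnC)
    rw [hai] at e
    calc n * a' * n⁻¹ = a' * n * a' * a' * n⁻¹ := by rw [e]
      _ = a' := by rw [mul_assoc (a' * n), D.sq _ a.2, mul_one, mul_inv_cancel_right]
  have hat : a' = 1 ∨ a' = t := by
    rcases D.four a' a.2 with h | h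
    · exact Or.inl (D.nfix a' h hna)
    · refine Or.inr ?_
      have h1 : t * a' = 1 := D.nfix _ h (by
        rw [← mul_assoc, D.ncent, mul_assoc t, mul_assoc t, hna])
      rw [← inv_eq_of_mul_eq_one_right h1, inv_eq_of_mul_eq_one_right ht2]
  have haC : ∀ c ∈ C, a' * c * a'⁻¹ = c := by
    intro c hc
    rcases hat with h | h <;> rw [h]
    · rw [one_mul, inv_one, mul_one]
    · rw [← (memC c).1 hc, mul_inv_cancel_right]
  have hall : ψ.toMonoidHom.eqLocus (MulAut.conj a').toMonoidHom = ⊤ := by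
    refine hmax.2 _ (lt_of_le_not_ge (fun c hc => ?_) fun hle => ?_)
    · exact (hψC c hc).trans (haC c hc).symm
    · obtain ⟨h, hh, hne⟩ := exists_moves hG S inferInstance t D.tS ht1
      apply hne
      have hhC : h ∈ C := hle (show ψ h = MulAut.conj a' h from hψH h hh)
      rw [(memC h).1 hhC, mul_inv_cancel_right]
  refine ⟨v' * a', fun z => ?_⟩
  have hz : ψ z = a' * z * a'⁻¹ := (hall ▸ Subgroup.mem_top z :
    z ∈ ψ.toMonoidHom.eqLocus (MulAut.conj a').toMonoidHom)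
  rw [hψap] at hz
  calc φ z = v' * (v'⁻¹ * φ z * v') * v'⁻¹ := by group
    _ = v' * a' * z * (v' * a')⁻¹ := by rw [hz]; group

/-- Let G be a non-abelian finite simple group with abelian Sylow 2-subgroups, and let t be an involution of G whose centralizer is a maximal subgroup of G and is the direct product of the subgroup generated by t with a subgroup E having a normal subgroup isomorphic to PSL(2, q), q odd and greater than 3, with trivial centralizer in E. Then every finite perfect group having a central 2-subgroup with quotient isomorphic to G has that central subgroup trivial (G has no nontrivial perfect central extension by a 2-group), and every automorphism of G of 2-power order that fixes every element of some Sylow 2-subgroup of G is inner. -/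
theorem result {G : Type*} [Group G] [Finite G] [IsSimpleGroup G]
    (hG : ¬ IsMulCommutative G) (hab : ∀ S : Sylow 2 G, IsMulCommutative ↥(S : Subgroup G))
    (t : G) (ht : orderOf t = 2) (hmax : IsCoatom (Subgroup.centralizer ({t} : Set G)))
    (E : Subgroup G) (hE : Cfsg.IsInternalDirectProduct (Subgroup.zpowers t) E (Subgroup.centralizer ({t} : Set G)))
    {F : Type*} [Field F] [Fintype F] (hFo : Odd (Fintype.card F)) (hF3 : 3 < Fintype.card F)
    (N : Subgroup ↥E) [N.Normal] (hN : Nonempty (↥N ≃* Matrix.ProjectiveSpecialLinearGroup (Fin 2) F))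
    (hNc : Subgroup.centralizer (N : Set ↥E) = ⊥) :
    (∀ (L : Type) (_ : Group L) (_ : Finite L) (Z : Subgroup L) (_ : Z.Normal), commutator L = ⊤ → Z ≤ Subgroup.center L →
        IsPGroup 2 ↥Z → Nonempty (L ⧸ Z ≃* G) → Z = ⊥) ∧
    (∀ (φ : G ≃* G) (k : ℕ), φ ^ (2 ^ k) = 1 → (∃ S : Sylow 2 G, ∀ s ∈ (S : Subgroup G), φ s = s) →
        ∃ g : G, ∀ x : G, φ x = g * x * g⁻¹) := by
  classical
  haveI : Fact (Nat.Prime 2) := ⟨Nat.prime_two⟩
  have ht1 : t ≠ 1 := fun h => by rw [h, orderOf_one] at ht; omega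
  haveI : IsSimpleGroup ↥N := by
    obtain ⟨ι⟩ := id hN
    haveI := CfsgLib.ClassK.isSimpleGroup_psl_two (F := F) (by omega)
    haveI : Nontrivial ↥N := ι.toEquiv.nontrivial
    exact IsSimpleGroup.isSimpleGroup_of_surjective ι.symm.toMonoidHom ι.symm.surjective
  obtain ⟨S, x, y, n, D, haut⟩ := exists_sylowData hab t ht E hE hFo hF3 N hN hNc
  have htV : ¬ InFour x y t := fun h => by
    have htE : t ∈ E := Subgroup.map_subtype_le N (inFour_mem D.xN D.yN h)
    have hbot : t ∈ Subgroup.zpowers t ⊓ E := ⟨Subgroup.mem_zpowers t, htE⟩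
    rw [hE.2.2.2.1, Subgroup.mem_bot] at hbot
    exact ht1 hbot
  refine ⟨fun L _ _ Z _ hperf hZc hZ2 ⟨e⟩ => ?_, fun φ k hφ ⟨S₀, hS₀⟩ => ?_⟩
  · by_contra hZ
    obtain ⟨j, hj⟩ := IsPGroup.iff_card.1 hZ2
    obtain ⟨i, rfl⟩ : ∃ i, j = i + 1 := Nat.exists_eq_succ_of_ne_zero fun h => by
      rw [h, pow_zero] at hj
      exact hZ (Subgroup.eq_bot_of_card_eq _ hj)
    obtain ⟨K, hK⟩ := Sylow.exists_subgroup_card_pow_prime 2
      (show 2 ^ i ∣ Nat.card ↥Z by rw [hj]; exact Dvd.intro 2 (pow_succ 2 i).symm)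
    have hKi : K.index = 2 := by
      have h := K.card_mul_index
      rw [hK, hj, pow_succ] at h
      exact Nat.eq_of_mul_eq_mul_left (Nat.two_pow_pos i) h
    set Z₀ : Subgroup L := K.map Z.subtype with hZ₀
    haveI : Z₀.Normal := ⟨fun w hw g => by
      have := Subgroup.mem_center_iff.1 (hZc (Subgroup.map_subtype_le K hw)) g
      rw [this, mul_inv_cancel_right]; exact hw⟩
    let π₀ : L →* G := e.toMonoidHom.comp (QuotientGroup.mk' Z)
    have hπ₀ : ∀ l, π₀ l = 1 ↔ l ∈ Z := fun l => by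
      rw [← QuotientGroup.eq_one_iff (N := Z) l]
      exact ⟨fun h => e.injective (h.trans (map_one e).symm), fun h => by
        show e (QuotientGroup.mk l) = 1
        rw [h, map_one]⟩
    let π : L ⧸ Z₀ →* G := QuotientGroup.lift Z₀ π₀ fun w hw =>
      (hπ₀ w).2 (Subgroup.map_subtype_le K hw)
    obtain ⟨z₀, hz₀⟩ : ∃ z₀ : ↥Z, z₀ ∉ K := by
      by_contra hc
      push Not at hc
      rw [show K = ⊤ from (Subgroup.eq_top_iff' K).2 hc, Subgroup.index_top] at hKi
      omega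
    have hmemZ₀ : ∀ w : ↥Z, (w : L) ∈ Z₀ ↔ w ∈ K := fun w => by
      rw [hZ₀]; exact Subgroup.mem_map_iff_mem Z.subtype_injective
    have hcom : commutator (L ⧸ Z₀) = ⊤ := by
      rw [commutator_def, ← Subgroup.map_top_of_surjective (QuotientGroup.mk' Z₀)
        (QuotientGroup.mk'_surjective Z₀), ← Subgroup.map_commutator, ← commutator_def, hperf]
    refine cover_contra S D.sq (fun a ha ha1 b hb hb1 =>
        (isConj_of_mem hG ht1 D htV a ha ha1).symm.trans (isConj_of_mem hG ht1 D htV b hb hb1))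
      t x y D.tS D.xS D.yS ht1 D.x1 D.y1 (fun h => htV (Or.inr (Or.inl h)))
      (fun h => htV (Or.inr (Or.inr (Or.inl h)))) D.xy (fun h => htV (Or.inr (Or.inr (Or.inr h))))
      hcom π ?_ (QuotientGroup.mk (z₀ : L)) ?_ ?_ ?_ ?_ ?_
    · intro g
      obtain ⟨l, hl⟩ := QuotientGroup.mk_surjective (e.symm g)
      exact ⟨QuotientGroup.mk l, by
        show e (QuotientGroup.mk l) = g
        rw [hl, MulEquiv.apply_symm_apply]⟩
    · intro h
      exact hz₀ ((hmemZ₀ z₀).1 ((QuotientGroup.eq_one_iff _).1 h))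
    · intro l
      obtain ⟨l, rfl⟩ := QuotientGroup.mk_surjective l
      rw [← QuotientGroup.mk_mul, ← QuotientGroup.mk_mul, Subgroup.mem_center_iff.1 (hZc z₀.2) l]
    · rw [← QuotientGroup.mk_mul, QuotientGroup.eq_one_iff]
      exact (hmemZ₀ (z₀ * z₀)).2 ((Subgroup.mul_mem_iff_of_index_two hKi).2 Iff.rfl)
    · exact (hπ₀ _).2 z₀.2
    · intro l hl
      obtain ⟨l, rfl⟩ := QuotientGroup.mk_surjective l
      have hlZ : l ∈ Z := (hπ₀ l).1 hl
      by_cases hlK : (⟨l, hlZ⟩ : ↥Z) ∈ K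
      · exact Or.inl ((QuotientGroup.eq_one_iff _).2 ((hmemZ₀ ⟨l, hlZ⟩).2 hlK))
      · refine Or.inr (QuotientGroup.eq.2 ((hmemZ₀ (⟨l, hlZ⟩⁻¹ * z₀)).2 ?_))
        refine (Subgroup.mul_mem_iff_of_index_two hKi).2 ?_
        simp [hlK, hz₀]
  · obtain ⟨g, hg⟩ := MulAction.exists_smul_eq G S₀ S
    set φ' : MulAut G := MulAut.conj g * (φ : MulAut G) * (MulAut.conj g)⁻¹ with hφ'
    have hfix' : ∀ s ∈ (S : Subgroup G), φ' s = s := by
      intro s hs
      rw [← hg] at hs
      obtain ⟨w, hw, rfl⟩ := hs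
      show φ' (MulAut.conj g w) = MulAut.conj g w
      rw [hφ', MulAut.mul_apply, MulAut.mul_apply, MulAut.inv_apply_self, hS₀ w hw]
    have hpow : φ' ^ 2 ^ k = 1 := by
      rw [hφ', conj_pow, hφ, mul_one, mul_inv_cancel]
    obtain ⟨b, hb⟩ := inner_of_fix hG t ht1 hmax E hE N hNc S x y n D haut φ' k hpow hfix'
    refine ⟨g⁻¹ * b * g, fun z => ?_⟩
    have := hb (g * z * g⁻¹)
    rw [hφ', MulAut.mul_apply, MulAut.mul_apply, ← MulAut.conj_apply, MulAut.inv_apply_self,
      MulAut.conj_apply, MulAut.conj_apply] at this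
    calc φ z = g⁻¹ * (g * φ z * g⁻¹) * g := by group
      _ = g⁻¹ * b * g * z * (g⁻¹ * b * g)⁻¹ := by rw [this]; group

end Cfsg.Agent.S3206
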