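import Cfsg.Statements.S3208
import Mathlib.Tactic

set_option autoImplicit false
open Cfsg

namespace Cfsg.Agent.S3208

/-- Let j be an involution of a finite group G, H a subgroup of G, and T a Sylow 2-subgroup of H ∩ C_G(j) containing j such that ⟨j⟩ is a characteristic subgroup of T. Then T is a Sylow 2-subgroup of H. -/
theorem result {G : Type*} [Group G] [Finite G]
    (j : G) (hj : orderOf j = 2) (H T : Subgroup G) (hT : T ≤ H ⊓ Subgroup.centralizer ({j} : Set G)) (h2 : IsPGroup 2 ↥T)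
    (hSyl : ¬ 2 ∣ T.relIndex (H ⊓ Subgroup.centralizer ({j} : Set G))) (hjT : j ∈ T)
    (hchar : ((Subgroup.zpowers j).subgroupOf T).Characteristic) :
    ¬ 2 ∣ T.relIndex H := by
  haveI : Fact (Nat.Prime 2) := ⟨Nat.prime_two⟩
  intro h
  have hTH : T ≤ H := hT.trans inf_le_left
  obtain ⟨k, hk⟩ := (IsPGroup.iff_card).1 h2
  let T' := T.subgroupOf H
  have hc : Nat.card T' = 2 ^ k := by rw [Nat.card_congr (Subgroup.subgroupOfEquivOfLe hTH).toEquiv, hk]
  have hd : 2 ∣ Nat.card (H ⧸ T') := h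
  have hm := Sylow.card_quotient_normalizer_modEq_card_quotient (p := 2) hc
  have hle : Subgroup.normalizer (T' : Set H) ≤ (H ⊓ Subgroup.centralizer ({j} : Set G)).subgroupOf H := by
    intro n hn
    refine ⟨n.2, ?_⟩
    have hn' : ∀ a, a ∈ T → (n : G) * a * (n : G)⁻¹ ∈ T := by
      intro a ha
      exact ((Subgroup.mem_normalizer_iff.1 hn) ⟨a, hTH ha⟩).1 ha
    have hn'' : ∀ a, a ∈ T → (n : G)⁻¹ * a * (n : G) ∈ T := by
      intro a ha
      have := (Subgroup.mem_normalizer_iff.1 (inv_mem hn)) ⟨a, hTH ha⟩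
      simpa [T', Subgroup.mem_subgroupOf] using this.1 ha
    let φ : T ≃* T :=
      { toFun := fun a => ⟨_, hn' a a.2⟩
        invFun := fun a => ⟨_, hn'' a a.2⟩
        left_inv := fun a => by ext; simp [mul_assoc]
        right_inv := fun a => by ext; simp [mul_assoc]
        map_mul' := fun a b => by ext; simp [mul_assoc] }
    have hj' : (⟨j, hjT⟩ : T) ∈ (Subgroup.zpowers j).subgroupOf T := Subgroup.mem_zpowers j
    rw [← hchar.fixed φ] at hj'
    have h3 : (n : G) * j * (n : G)⁻¹ ∈ Subgroup.zpowers j := hj'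
    obtain ⟨m, hm⟩ := Subgroup.mem_zpowers_iff.1 h3
    have hj1 : j ≠ 1 := by intro h1; simp [h1] at hj
    have hj2 : j * j = 1 := by rw [← pow_two, ← hj, pow_orderOf_eq_one]
    have : (n : G) * j * (n : G)⁻¹ = j := by
      obtain ⟨r, hr | hr⟩ := Int.even_or_odd' m
      · subst hr
        rw [zpow_mul, zpow_two, hj2, one_zpow] at hm
        exact absurd (by simpa using congrArg (fun a => (n : G)⁻¹ * a * n) hm.symm) (by simpa [mul_assoc] using hj1)
      · subst hr
        rw [zpow_add, zpow_mul, zpow_two, hj2, one_zpow, one_mul, zpow_one] at hm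
        exact hm.symm
    exact Subgroup.mem_centralizer_singleton_iff.2 (mul_inv_eq_iff_eq_mul.1 this)
  have h4 : 2 ∣ T'.relIndex (Subgroup.normalizer (T' : Set H)) :=
    (Nat.ModEq.dvd_iff hm dvd_rfl).2 hd
  have hTN : T' ≤ Subgroup.normalizer (T' : Set H) := Subgroup.le_normalizer
  have h5 := h4.trans (Dvd.intro _ (Subgroup.relIndex_mul_relIndex _ _ _ hTN hle))
  rw [Subgroup.relIndex_subgroupOf inf_le_left] at h5
  exact hSyl h5

end Cfsg.Agent.S3208
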