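import Cfsg.Statements.S3209
import Cfsg.Agent.Lib.InvChar.SL2Central

set_option autoImplicit false
open Cfsg

namespace Cfsg.Agent.S3209

/-- Let L₁ ≅ SL₂(q₁) and L₂ ≅ SL₂(q₂), q₁ and q₂ odd, be elementwise-commuting subgroups of a finite group meeting in ⟨j⟩ for an involution j. Then L₁L₂ has exactly two conjugacy classes of involutions: the central involution j, and one further class (there is an involution x ≠ j in L₁L₂, and every involution of L₁L₂ other than j is conjugate to x by an element of L₁L₂). -/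
theorem result {G : Type*} [Group G] [Finite G]
    {F₁ : Type*} [Field F₁] [Fintype F₁] {F₂ : Type*} [Field F₂] [Fintype F₂]
    (hF₁ : Odd (Fintype.card F₁)) (hF₂ : Odd (Fintype.card F₂)) (L₁ L₂ : Subgroup G)
    (e₁ : ↥L₁ ≃* Matrix.SpecialLinearGroup (Fin 2) F₁) (e₂ : ↥L₂ ≃* Matrix.SpecialLinearGroup (Fin 2) F₂)
    (hc : ∀ x ∈ L₁, ∀ y ∈ L₂, x * y = y * x) (j : G) (hj : orderOf j = 2) (hm : L₁ ⊓ L₂ = Subgroup.zpowers j) :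
    ∃ x ∈ L₁ ⊔ L₂, orderOf x = 2 ∧ x ≠ j ∧
      ∀ y ∈ L₁ ⊔ L₂, orderOf y = 2 → y = j ∨ ∃ g ∈ L₁ ⊔ L₂, g * x * g⁻¹ = y := by
  have h2₁ := CfsgLib.InvChar.SL2Prod.two_ne_zero_of_odd hF₁
  have h2₂ := CfsgLib.InvChar.SL2Prod.two_ne_zero_of_odd hF₂
  have hj₁ : j ∈ L₁ := (hm ▸ Subgroup.mem_zpowers j : j ∈ L₁ ⊓ L₂).1
  have hj₂ : j ∈ L₂ := (hm ▸ Subgroup.mem_zpowers j : j ∈ L₁ ⊓ L₂).2
  have inter : ∀ x, x ∈ L₁ → x ∈ L₂ → x = 1 ∨ x = j := fun x h h' =>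
    CfsgLib.InvChar.SL2Prod.mem_zpowers_of_orderOf_two hj (hm ▸ Subgroup.mem_inf.2 ⟨h, h'⟩)
  have hjj : j * j = 1 := by rw [← pow_two, ← hj, pow_orderOf_eq_one]
  have hj1 : j ≠ 1 := fun h => by simp [h] at hj
  obtain ⟨u₀, hu₀, hu₀j⟩ := CfsgLib.InvChar.SL2Prod.exists_sq_eq e₁ h2₁ hj hj₁
  obtain ⟨v₀, hv₀, hv₀j⟩ := CfsgLib.InvChar.SL2Prod.exists_sq_eq e₂ h2₂ hj hj₂
  have hsq : ∀ u ∈ L₁, ∀ v ∈ L₂, (u * v) * (u * v) = (u * u) * (v * v) := fun u hu v hv => by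
    rw [show u * v * (u * v) = u * (v * u) * v by group, ← hc u hu v hv]; group
  have hne : u₀ * v₀ ≠ j := fun h => by
    have hu2 : u₀ ∈ L₂ := by
      rw [show u₀ = j * v₀⁻¹ by rw [← h]; group]
      exact L₂.mul_mem hj₂ (L₂.inv_mem hv₀)
    rcases inter _ (hu₀) (hu2) with h' | h' <;> rw [h'] at hu₀j
    · exact hj1 (by rw [← hu₀j, one_mul])
    · exact hj1 (by rw [← hu₀j, hjj])
  have hne1 : u₀ * v₀ ≠ 1 := fun h => by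
    have hu2 : u₀ ∈ L₂ := by
      rw [eq_inv_of_mul_eq_one_left h]
      exact L₂.inv_mem hv₀
    rcases inter _ (hu₀) (hu2) with h' | h' <;> rw [h'] at hu₀j
    · exact hj1 (by rw [← hu₀j, one_mul])
    · exact hj1 (by rw [← hu₀j, hjj])
  refine ⟨u₀ * v₀, Subgroup.mul_mem _ (Subgroup.mem_sup_left hu₀) (Subgroup.mem_sup_right hv₀),
    orderOf_eq_prime (by rw [pow_two, hsq _ hu₀ _ hv₀, hu₀j, hv₀j, hjj]) hne1, hne, fun y hy hy2 => ?_⟩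
  obtain ⟨u, hu, v, hv, rfl⟩ := CfsgLib.InvChar.SL2Prod.exists_mul_of_mem_sup hc hy
  have hyy : (u * u) * (v * v) = 1 := by
    rw [← hsq u hu v hv, ← pow_two, ← hy2, pow_orderOf_eq_one]
  have huu : u * u ∈ L₁ ⊓ L₂ := ⟨L₁.mul_mem hu hu, by
    rw [eq_inv_of_mul_eq_one_left hyy]; exact L₂.inv_mem (L₂.mul_mem hv hv)⟩
  rcases inter _ huu.1 huu.2 with h | h
  · left
    have hvv : v * v = 1 := by rwa [h, one_mul] at hyy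
    have hy1 : u * v ≠ 1 := fun e => by simp [e] at hy2
    rcases CfsgLib.InvChar.SL2Prod.eq_one_or_of_sq e₁ h2₁ hj hj₁ hu h with h' | h' <;>
      rcases CfsgLib.InvChar.SL2Prod.eq_one_or_of_sq e₂ h2₂ hj hj₂ hv hvv with h'' | h'' <;>
      rw [h', h''] at hy1 ⊢ <;> first | (simp; done) | simp [hjj] at hy1
  · right
    have hvv : v * v = j := by
      have e1 : v * v = (u * u)⁻¹ := eq_inv_of_mul_eq_one_right hyy
      rw [e1, h, inv_eq_of_mul_eq_one_right hjj]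
    obtain ⟨g₁, hg₁, he₁⟩ := CfsgLib.InvChar.SL2Prod.exists_conj_of_sq_eq e₁ hF₁ hj hj₁ hu₀ hu hu₀j h
    obtain ⟨g₂, hg₂, he₂⟩ := CfsgLib.InvChar.SL2Prod.exists_conj_of_sq_eq e₂ hF₂ hj hj₂ hv₀ hv hv₀j hvv
    refine ⟨g₁ * g₂, Subgroup.mul_mem _ (Subgroup.mem_sup_left hg₁) (Subgroup.mem_sup_right hg₂), ?_⟩
    have c1 : g₂ * u₀ = u₀ * g₂ := (hc u₀ hu₀ g₂ hg₂).symm
    have c2 : g₁⁻¹ * (g₂ * v₀ * g₂⁻¹) = g₂ * v₀ * g₂⁻¹ * g₁⁻¹ :=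
      hc _ (L₁.inv_mem hg₁) _ (L₂.mul_mem (L₂.mul_mem hg₂ hv₀) (L₂.inv_mem hg₂))
    calc g₁ * g₂ * (u₀ * v₀) * (g₁ * g₂)⁻¹ = g₁ * (g₂ * u₀) * v₀ * g₂⁻¹ * g₁⁻¹ := by group
      _ = g₁ * (u₀ * g₂) * v₀ * g₂⁻¹ * g₁⁻¹ := by rw [c1]
      _ = g₁ * u₀ * ((g₂ * v₀ * g₂⁻¹) * g₁⁻¹) := by group
      _ = g₁ * u₀ * (g₁⁻¹ * (g₂ * v₀ * g₂⁻¹)) := by rw [c2]
      _ = (g₁ * u₀ * g₁⁻¹) * (g₂ * v₀ * g₂⁻¹) := by group
      _ = u * v := by rw [he₁, he₂]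

end Cfsg.Agent.S3209
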