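import Cfsg.Statements.S3210
import Cfsg.Agent.Lib.InvChar.SL2Central

set_option autoImplicit false
open Cfsg

namespace Cfsg.Agent.S3210

/-- Let G be a finite group with subgroups L₁ ≅ SL₂(q₁) and L₂ ≅ SL₂(q₂), q₁ and q₂ odd prime powers, which commute elementwise and meet in ⟨j⟩ for an involution j, and suppose L₁L₂ has index 2 in C_G(j). Then every element n of C_G(j) outside L₁L₂ either normalizes both L₁ and L₂, or conjugates L₁ onto L₂; in the second case q₁ = q₂ and there is an element n′ of C_G(j) outside L₁L₂ conjugating L₁ onto L₂ with n′² ∈ ⟨j⟩. -/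
theorem result {G : Type*} [Group G] [Finite G]
    {F₁ : Type*} [Field F₁] [Fintype F₁] {F₂ : Type*} [Field F₂] [Fintype F₂]
    (hF₁ : Odd (Fintype.card F₁)) (hF₂ : Odd (Fintype.card F₂)) (L₁ L₂ : Subgroup G)
    (e₁ : ↥L₁ ≃* Matrix.SpecialLinearGroup (Fin 2) F₁) (e₂ : ↥L₂ ≃* Matrix.SpecialLinearGroup (Fin 2) F₂)
    (hc : ∀ x ∈ L₁, ∀ y ∈ L₂, x * y = y * x) (j : G) (hj : orderOf j = 2) (hm : L₁ ⊓ L₂ = Subgroup.zpowers j)
    (hle : L₁ ⊔ L₂ ≤ Subgroup.centralizer ({j} : Set G)) (hi : (L₁ ⊔ L₂).relIndex (Subgroup.centralizer ({j} : Set G)) = 2) (n : G) (hn : n ∈ Subgroup.centralizer ({j} : Set G)) (hn' : n ∉ L₁ ⊔ L₂) :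
    (L₁.map (MulAut.conj n).toMonoidHom = L₁ ∧ L₂.map (MulAut.conj n).toMonoidHom = L₂) ∨
      (L₁.map (MulAut.conj n).toMonoidHom = L₂ ∧ Fintype.card F₁ = Fintype.card F₂ ∧
        ∃ n' ∈ Subgroup.centralizer ({j} : Set G), n' ∉ L₁ ⊔ L₂ ∧ L₁.map (MulAut.conj n').toMonoidHom = L₂ ∧ n' ^ 2 ∈ Subgroup.zpowers j) := by
  have h2₁ := CfsgLib.InvChar.SL2Prod.two_ne_zero_of_odd hF₁
  have h2₂ := CfsgLib.InvChar.SL2Prod.two_ne_zero_of_odd hF₂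
  have hj₁ : j ∈ L₁ := (hm ▸ Subgroup.mem_zpowers j : j ∈ L₁ ⊓ L₂).1
  have hj₂ : j ∈ L₂ := (hm ▸ Subgroup.mem_zpowers j : j ∈ L₁ ⊓ L₂).2
  have inter : ∀ x, x ∈ L₁ → x ∈ L₂ → x = 1 ∨ x = j := fun x h h' =>
    CfsgLib.InvChar.SL2Prod.mem_zpowers_of_orderOf_two hj (hm ▸ Subgroup.mem_inf.2 ⟨h, h'⟩)
  set C := Subgroup.centralizer ({j} : Set G) with hC
  have hnormal : ((L₁ ⊔ L₂).subgroupOf C).Normal := Subgroup.normal_of_index_eq_two hi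
  have hnL : ∀ l ∈ L₁ ⊔ L₂, n * l * n⁻¹ ∈ L₁ ⊔ L₂ := fun l hl =>
    Subgroup.mem_subgroupOf.1 (hnormal.conj_mem ⟨l, hle hl⟩ (Subgroup.mem_subgroupOf.2 hl) ⟨n, hn⟩)
  have hnL' : ∀ l ∈ L₁ ⊔ L₂, n⁻¹ * l * n ∈ L₁ ⊔ L₂ := fun l hl => by
    have h := Subgroup.mem_subgroupOf.1 (hnormal.conj_mem ⟨l, hle hl⟩ (Subgroup.mem_subgroupOf.2 hl) ⟨n, hn⟩⁻¹)
    simpa using h
  set φ : G →* G := (MulAut.conj n).toMonoidHom with hφ
  have hφi : Function.Injective φ := (MulAut.conj n).injective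
  have hφe : ∀ x, φ x = n * x * n⁻¹ := fun _ => rfl
  have main : ∀ A B : Subgroup G, L₁ ⊔ L₂ = A ⊔ B → (∀ x ∈ A, ∀ y ∈ B, x * y = y * x) →
      (∀ l ∈ L₁ ⊔ L₂, ∀ m ∈ A.map φ, l * m * l⁻¹ ∈ A.map φ) := fun A B hAB hAc l hl m hm => by
    obtain ⟨a, ha, rfl⟩ := hm
    obtain ⟨u, hu, v, hv, huv⟩ := CfsgLib.InvChar.SL2Prod.exists_mul_of_mem_sup hAc (hAB ▸ hnL' l hl)
    refine ⟨u * a * u⁻¹, A.mul_mem (A.mul_mem hu ha) (A.inv_mem hu), ?_⟩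
    have hl' : l = n * (u * v) * n⁻¹ := by rw [← huv]; group
    have hva : v * a * v⁻¹ = a := by rw [← hAc a ha v hv]; group
    rw [hl', hφe, hφe]
    symm
    calc n * (u * v) * n⁻¹ * (n * a * n⁻¹) * (n * (u * v) * n⁻¹)⁻¹
        = n * (u * (v * a * v⁻¹) * u⁻¹) * n⁻¹ := by group
      _ = n * (u * a * u⁻¹) * n⁻¹ := by rw [hva]
  have hmapL : (L₁ ⊔ L₂).map φ ≤ L₁ ⊔ L₂ := Subgroup.map_le_iff_le_comap.2 fun l hl => hnL l hl
  have hM₁ : L₁.map φ ≤ L₁ ∨ L₁.map φ ≤ L₂ :=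
    CfsgLib.InvChar.SL2Prod.le_or_le h2₁ h2₁ h2₂ e₁ e₂
      ((L₁.equivMapOfInjective φ hφi).symm.trans e₁) hc hj hj₁ hj₂
      ((Subgroup.map_mono le_sup_left).trans hmapL) (main L₁ L₂ rfl hc)
  have hM₂ : L₂.map φ ≤ L₁ ∨ L₂.map φ ≤ L₂ :=
    CfsgLib.InvChar.SL2Prod.le_or_le h2₂ h2₁ h2₂ e₁ e₂
      ((L₂.equivMapOfInjective φ hφi).symm.trans e₂) hc hj hj₁ hj₂
      ((Subgroup.map_mono le_sup_right).trans hmapL)
      (main L₂ L₁ (sup_comm _ _) (fun x hx y hy => (hc y hy x hx).symm))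
  have hcard : ∀ A : Subgroup G, Nat.card ↥(A.map φ) = Nat.card ↥A := fun A =>
    Nat.card_congr (A.equivMapOfInjective φ hφi).symm.toEquiv
  have hLmap : (L₁ ⊔ L₂).map φ = L₁ ⊔ L₂ := Subgroup.eq_of_le_of_card_ge hmapL (hcard _).ge
  have hn1 : L₁ ≠ L₁ ⊔ L₂ := fun h => by
    have hsub : L₂ ≤ L₁ := h ▸ le_sup_right
    obtain ⟨v, hv, hvj⟩ := CfsgLib.InvChar.SL2Prod.exists_sq_eq e₂ h2₂ hj hj₂
    rcases inter _ (hsub hv) (hv) with h' | h' <;> rw [h'] at hvj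
    · exact absurd hj (by simp [← hvj])
    · have hj1 : j = 1 := mul_eq_left.1 hvj
      exact absurd hj (by simp [hj1])
  have hn2 : L₂ ≠ L₁ ⊔ L₂ := fun h => by
    have hsub : L₁ ≤ L₂ := h ▸ le_sup_left
    obtain ⟨v, hv, hvj⟩ := CfsgLib.InvChar.SL2Prod.exists_sq_eq e₁ h2₁ hj hj₁
    rcases inter _ (hv) (hsub hv) with h' | h' <;> rw [h'] at hvj
    · exact absurd hj (by simp [← hvj])
    · have hj1 : j = 1 := mul_eq_left.1 hvj
      exact absurd hj (by simp [hj1])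
  rcases hM₁ with h₁ | h₁
  · left
    refine ⟨Subgroup.eq_of_le_of_card_ge h₁ (hcard _).ge, ?_⟩
    rcases hM₂ with h₂ | h₂
    · refine absurd (le_antisymm le_sup_left ?_) hn1
      conv_lhs => rw [← hLmap, Subgroup.map_sup]
      exact sup_le h₁ h₂
    · exact Subgroup.eq_of_le_of_card_ge h₂ (hcard _).ge
  · right
    have h₂ : L₂.map φ ≤ L₁ := hM₂.resolve_right fun h₂ => absurd (le_antisymm le_sup_right (by
      conv_lhs => rw [← hLmap, Subgroup.map_sup]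
      exact sup_le h₁ h₂)) hn2
    have hle12 : Nat.card L₁ ≤ Nat.card L₂ := (hcard L₁) ▸ Subgroup.card_le_of_le h₁
    have hle21 : Nat.card L₂ ≤ Nat.card L₁ := (hcard L₂) ▸ Subgroup.card_le_of_le h₂
    have h12 : L₁.map φ = L₂ := Subgroup.eq_of_le_of_card_ge h₁ (by rw [hcard]; exact hle21)
    have h21 : L₂.map φ = L₁ := Subgroup.eq_of_le_of_card_ge h₂ (by rw [hcard]; exact hle12)
    refine ⟨h12, ?_, ?_⟩
    · have hceq := le_antisymm hle12 hle21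
      rw [Nat.card_congr e₁.toEquiv, Nat.card_congr e₂.toEquiv,
        CfsgLib.Classical.card_sl_two_eq, CfsgLib.Classical.card_sl_two_eq] at hceq
      have mono : ∀ a b : ℕ, 1 < a → a < b → a * (a ^ 2 - 1) < b * (b ^ 2 - 1) := fun a b ha hab =>
        Nat.mul_lt_mul'' hab (Nat.sub_lt_sub_right (Nat.one_le_pow _ _ (by omega))
          (Nat.pow_lt_pow_left hab (by norm_num)))
      rcases lt_trichotomy (Fintype.card F₁) (Fintype.card F₂) with h | h | h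
      · exact absurd hceq (mono _ _ Fintype.one_lt_card h).ne
      · exact h
      · exact absurd hceq (mono _ _ Fintype.one_lt_card h).ne'
    · have hn2' : n * n ∈ L₁ ⊔ L₂ := by
        have h := Subgroup.mul_self_mem_of_index_two hi (⟨n, hn⟩ : ↥C)
        simpa [Subgroup.mem_subgroupOf] using h
      obtain ⟨u, hu, v, hv, huv⟩ := CfsgLib.InvChar.SL2Prod.exists_mul_of_mem_sup hc hn2'
      have hui : u⁻¹ ∈ L₁ := L₁.inv_mem hu
      have hw : n * u⁻¹ * n⁻¹ ∈ L₂ := h12 ▸ ⟨u⁻¹, hui, rfl⟩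
      have hnC : n * u⁻¹ ∈ C := C.mul_mem hn (hle (Subgroup.mem_sup_left hui))
      have hsq : (n * u⁻¹) ^ 2 = n * u⁻¹ * n⁻¹ * v := by
        rw [pow_two, show n * u⁻¹ * (n * u⁻¹) = n * u⁻¹ * n⁻¹ * (n * n) * u⁻¹ by group, huv,
          show n * u⁻¹ * n⁻¹ * (u * v) * u⁻¹ = n * u⁻¹ * n⁻¹ * (u * v * u⁻¹) by group, hc u hu v hv]
        group
      have hmap : L₁.map (MulAut.conj (n * u⁻¹)).toMonoidHom = L₂ := by
        rw [← h12]
        ext y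
        constructor
        · rintro ⟨x, hx, rfl⟩
          exact ⟨u⁻¹ * x * u, L₁.mul_mem (L₁.mul_mem hui hx) hu, by
            simp only [MulEquiv.coe_toMonoidHom, MulAut.conj_apply, hφe]; group⟩
        · rintro ⟨x, hx, rfl⟩
          exact ⟨u * x * u⁻¹, L₁.mul_mem (L₁.mul_mem hu hx) hui, by
            simp only [MulEquiv.coe_toMonoidHom, MulAut.conj_apply, hφe]; group⟩
      refine ⟨n * u⁻¹, hnC, fun h => hn' ?_, hmap, ?_⟩
      · have h' := Subgroup.mul_mem _ h (Subgroup.mem_sup_left (T := L₂) hu)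
        simpa using h'
      · rw [← hm, hsq]
        refine ⟨?_, L₂.mul_mem hw hv⟩
        rw [← hsq, ← h21]
        have hfix : (n * u⁻¹) ^ 2 ∈ L₂ := hsq ▸ L₂.mul_mem hw hv
        refine ⟨u⁻¹ * (n * u⁻¹) ^ 2 * u, ?_, ?_⟩
        · rw [hc u⁻¹ hui _ hfix]; simpa using hfix
        · rw [hφe]; generalize hz : n * u⁻¹ = z; rw [show n * (u⁻¹ * z ^ 2 * u) * n⁻¹ = (n * u⁻¹) * z ^ 2 * (n * u⁻¹)⁻¹ by group, hz]; group

end Cfsg.Agent.S3210
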