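import Cfsg.Statements.S3211
import Cfsg.Agent.Lib.Perm.SwappedPair

set_option autoImplicit false
open Cfsg

namespace Cfsg.Agent.S3211

/-- Let G be a finite group with subgroups L₁ ≅ SL₂(q₁) and L₂ ≅ SL₂(q₂), q₁ and q₂ odd prime powers, which commute elementwise and meet in ⟨j⟩ for an involution j, and suppose L₁L₂ has index 2 in C_G(j). If some n ∈ C_G(j) with n² = j interchanges L₁ and L₂ under conjugation (so that C_G(j) = L₁L₂⟨n⟩), then G = C_G(j)O(G). -/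
theorem result {G : Type*} [Group G] [Finite G]
    {F₁ : Type*} [Field F₁] [Fintype F₁] {F₂ : Type*} [Field F₂] [Fintype F₂]
    (hF₁ : Odd (Fintype.card F₁)) (hF₂ : Odd (Fintype.card F₂)) (L₁ L₂ : Subgroup G)
    (e₁ : ↥L₁ ≃* Matrix.SpecialLinearGroup (Fin 2) F₁) (e₂ : ↥L₂ ≃* Matrix.SpecialLinearGroup (Fin 2) F₂)
    (hc : ∀ x ∈ L₁, ∀ y ∈ L₂, x * y = y * x) (j : G) (hj : orderOf j = 2) (hm : L₁ ⊓ L₂ = Subgroup.zpowers j)
    (hle : L₁ ⊔ L₂ ≤ Subgroup.centralizer ({j} : Set G)) (hi : (L₁ ⊔ L₂).relIndex (Subgroup.centralizer ({j} : Set G)) = 2) (n : G) (hn : n ∈ Subgroup.centralizer ({j} : Set G))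
    (hn2 : n ^ 2 = j) (hswap : L₁.map (MulAut.conj n).toMonoidHom = L₂) :
    Subgroup.centralizer ({j} : Set G) ⊔ Cfsg.oddCore G = ⊤ := by
  classical
  have hjj : j * j = 1 := by rw [← sq, ← hj, pow_orderOf_eq_one]
  have hj1 : j ≠ 1 := fun h => by rw [h, orderOf_one] at hj; omega
  have hjL₁ : j ∈ L₁ := (Subgroup.mem_inf.mp (hm.ge (Subgroup.mem_zpowers j))).1
  obtain ⟨x, s, hx, hs, hxx, hss, hconj, hsq, hab, hsx⟩ :=
    CfsgLib.Perm.SLInvol.subgroup_facts L₁ e₁ hF₁ hjL₁ hjj hj1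
  have hnj : n * n = j := by rw [← sq, hn2]
  have hswap1 : ∀ a ∈ L₁, n * a * n⁻¹ ∈ L₂ := fun a ha => by
    rw [← hswap]; exact ⟨a, ha, rfl⟩
  have hcomm : ∀ a ∈ L₁ ⊔ L₂, a * j = j * a := fun a ha =>
    Subgroup.mem_centralizer_singleton_iff.mp (hle ha)
  have hswap2 : ∀ b ∈ L₂, n * b * n⁻¹ ∈ L₁ := fun b hb => by
    rw [← hswap] at hb
    obtain ⟨a, ha, rfl⟩ := hb
    have e : n * (n * a * n⁻¹) * n⁻¹ = a := by
      rw [show n * (n * a * n⁻¹) * n⁻¹ = (n * n) * a * (n * n)⁻¹ by group, hnj,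
        ← hcomm a (Subgroup.mem_sup_left ha)]
      group
    show n * (n * a * n⁻¹) * n⁻¹ ∈ L₁
    rw [e]; exact ha
  have hnY : n ∉ L₁ ⊔ L₂ := by
    intro hY
    obtain ⟨a, ha, b, hb, rfl⟩ := CfsgLib.Perm.SwappedPair.exists_mul_of_mem_sup hc hY
    have h1 : a * x * a⁻¹ ∈ L₂ := by
      have e : a * b * x * (a * b)⁻¹ = a * x * a⁻¹ := by
        calc a * b * x * (a * b)⁻¹ = a * (b * x) * b⁻¹ * a⁻¹ := by group
          _ = a * x * a⁻¹ := by rw [← hc x hx b hb]; group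
      rw [← e]; exact hswap1 x hx
    have h2 : a * x * a⁻¹ ∈ Subgroup.zpowers j :=
      hm ▸ Subgroup.mem_inf.mpr ⟨mul_mem (mul_mem ha hx) (inv_mem ha), h1⟩
    obtain ⟨i, hi'⟩ := h2
    have h3 : (a * x * a⁻¹) * (a * x * a⁻¹) = 1 := by
      rw [← hi']
      show j ^ i * j ^ i = 1
      rw [← (Commute.refl j).mul_zpow, hjj, one_zpow]
    rw [show a * x * a⁻¹ * (a * x * a⁻¹) = a * (x * x) * a⁻¹ by group, hxx,
      hcomm a (Subgroup.mem_sup_left ha)] at h3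
    exact hj1 (by rw [← h3]; group)
  have hYn : ∀ k : G, k * j = j * k → k ∈ L₁ ⊔ L₂ ∨ k * n⁻¹ ∈ L₁ ⊔ L₂ := by
    intro k hk
    by_cases hkY : k ∈ L₁ ⊔ L₂
    · exact Or.inl hkY
    · right
      have hkC : k ∈ Subgroup.centralizer ({j} : Set G) := Subgroup.mem_centralizer_singleton_iff.mpr hk
      have hi' : ((L₁ ⊔ L₂).subgroupOf (Subgroup.centralizer ({j} : Set G))).index = 2 := hi
      have h := (Subgroup.mul_mem_iff_of_index_two hi' (a := ⟨k, hkC⟩) (b := ⟨n, hn⟩⁻¹)).mpr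
        (iff_of_false (by simpa [Subgroup.mem_subgroupOf] using hkY)
          (by simpa [Subgroup.mem_subgroupOf] using hnY))
      exact h
  exact CfsgLib.Perm.SwappedPair.sup_oddCore_eq_top
    (CfsgLib.Perm.SwappedPair.isolated hc hm hj hle hnj hswap1 hswap2 hx hxx hs hss hYn hnY hconj
      hsq hab hsx)

end Cfsg.Agent.S3211
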