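import Cfsg.Statements.S3216
import Cfsg.Agent.Lib.TimesPSL.Glue
import Cfsg.Agent.Lib.TimesPSL.CaseElem
import Cfsg.Agent.Lib.ClassK.SmallSimple
import Cfsg.Agent.Lib.Geom.PSLTwoSolvable

set_option autoImplicit false
open Cfsg

namespace Cfsg.Agent.S3216

/-- Let G be a finite non-abelian simple group and t an involution of G; write C = C_G(t) and C̄ = C/O(C). If the subgroup of C̄ generated by its 2-elements (the smallest normal subgroup of C̄ of odd index) is isomorphic to Z₂ × PSL₂(q) for some prime power q > 3, then the Sylow 2-subgroups of G are elementary abelian of order 8. -/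
theorem result {G : Type*} [Group G] [Finite G] [IsSimpleGroup G]
    (hG : ¬ IsMulCommutative G) (t : G) (ht : orderOf t = 2) {F : Type*} [Field F] [Fintype F] (hF : 3 < Fintype.card F)
    (hL : Nonempty (↥(Subgroup.closure {x : (↥(Subgroup.centralizer ({t} : Set G)) ⧸ Cfsg.oddCore ↥(Subgroup.centralizer ({t} : Set G))) | ∃ k : ℕ, orderOf x = 2 ^ k}) ≃*
      (Multiplicative (ZMod 2) × Matrix.ProjectiveSpecialLinearGroup (Fin 2) F))) (S : Sylow 2 G) :
    Nat.card ↥(S : Subgroup G) = 8 ∧ ∀ x ∈ (S : Subgroup G), x ^ 2 = 1 := by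
  classical
  have : Fact (Nat.Prime 2) := ⟨Nat.prime_two⟩
  have hs := CfsgLib.ClassK.isSimpleGroup_psl_two (F := F) hF
  have hc : ¬ IsMulCommutative (Matrix.ProjectiveSpecialLinearGroup (Fin 2) F) := fun h =>
    CfsgLib.Geom.Moebius.psl_not_comm hF h.is_comm.comm
  obtain ⟨tc, P, j, PL, h⟩ := CfsgLib.TimesPSL.exists_ctx hc ht hL
  rcases (show (Fintype.card F % 8 = 1 ∨ Fintype.card F % 8 = 7) ∨
      (Fintype.card F % 8 = 3 ∨ Fintype.card F % 8 = 5) ∨ Fintype.card F % 2 = 0 by omega) with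
    hq | hq
  · obtain ⟨k, hk, hk0, hiso⟩ := CfsgLib.TimesPSL.sylow_dihedral hq PL
    exact (CfsgLib.TimesPSL.case_dihedral hG (h.dsetup ht hk hk0 hiso fun a b ha ha1 hb hb1 =>
      CfsgLib.TimesPSL.psl_conj_of_odd (Nat.odd_iff.2 (by omega)) a b ha ha1 hb hb1)).elim
  have hN : CfsgLib.TimesPSL.NormData (PL : Subgroup (Matrix.ProjectiveSpecialLinearGroup (Fin 2) F)) := by
    rcases hq with hq | hq
    · exact CfsgLib.TimesPSL.normData_klein hq PL
    · exact CfsgLib.TimesPSL.normData_even (Nat.even_iff.2 hq) hF PL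
  have hE := h.esetup ht hN
  obtain ⟨h4, S₀, hS₀⟩ := CfsgLib.TimesPSL.case_elem hG hE
  have hc0 : Nat.card (S₀ : Subgroup G) = 8 := by rw [hS₀, hE.cardT, h4]
  obtain ⟨g, hg⟩ := MulAction.exists_smul_eq G S₀ S
  rw [← hg, Sylow.coe_subgroup_smul]
  refine ⟨(Nat.card_congr (Subgroup.equivSMul (MulAut.conj g) _).toEquiv).symm.trans hc0, ?_⟩
  intro x hx
  obtain ⟨y, hy, rfl⟩ := hx
  have hy1 : y * y = 1 := hE.hexp y (hS₀ ▸ hy)
  show (MulAut.conj g y) ^ 2 = 1
  rw [pow_two, ← map_mul, hy1, map_one]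

end Cfsg.Agent.S3216
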