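import Cfsg.Statements.S3219
import Cfsg.Agent.Lib.Perm.TwoPointFour.Half
import Cfsg.Agent.Lib.Perm.TwoPointFour.OfPair
import Cfsg.Agent.Lib.Perm.TwoPointFour.Even
import Cfsg.Agent.Lib.Perm.TwoPointFour.Full
import Cfsg.Agent.Lib.Perm.TwoPointFour.Final
import Cfsg.Agent.Lib.Perm.TwoPointFour.Sixteen

set_option autoImplicit false
open Cfsg

namespace Cfsg.Agent.S3219

/-- Let G be a finite doubly transitive permutation group on a set Ω in which the stabilizer of two points is isomorphic to the alternating group A₄. Then Ω has 6 points and G ≅ A₆, or Ω has 15 points and G ≅ A₇, or Ω has 16 points and G is isomorphic to the group of all affine transformations of the affine plane over the field with 4 elements, or G = C_G(J)O(G) for some involution J of G, where O(G) is the largest normal subgroup of G of odd order. -/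
theorem result {G : Type*} [Group G] [Finite G] {Ω : Type*} [Fintype Ω] [MulAction G Ω] [FaithfulSMul G Ω]
    (h2 : MulAction.IsMultiplyPretransitive G Ω 2) (a b : Ω) (hab : a ≠ b)
    (e : ↥(MulAction.stabilizer G a ⊓ MulAction.stabilizer G b) ≃* ↥(alternatingGroup (Fin 4))) :
    (Fintype.card Ω = 6 ∧ Nonempty (G ≃* ↥(alternatingGroup (Fin 6)))) ∨ (Fintype.card Ω = 15 ∧ Nonempty (G ≃* ↥(alternatingGroup (Fin 7)))) ∨
      (Fintype.card Ω = 16 ∧ ∃ (F : Type) (_ : Field F) (_ : Fintype F), Fintype.card F = 4 ∧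
        Nonempty (G ≃* ((Fin 2 → F) ≃ᵃ[F] (Fin 2 → F)))) ∨
      (∃ J : G, orderOf J = 2 ∧ Subgroup.centralizer ({J} : Set G) ⊔ Cfsg.oddCore G = ⊤) := by
  have h := CfsgLib.Perm.TwoPointFour.Hyp.of_pair inferInstance h2 hab e
  obtain ⟨B, -, -⟩ := h.exists_base hab
  rcases Nat.even_or_odd (Fintype.card Ω) with hn | hn
  · rcases h.even_cases B hn with h6 | ⟨h16, he, hm, hk⟩ | ⟨h28, he⟩
    · exact Or.inl ⟨h6, h.six h6⟩
    · exact Or.inr (Or.inr (Or.inl ⟨h16, h.sixteen B h16 he hm hk⟩))
    · exact (h.twentyEight_false B h28 he).elim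
  · rcases B.odd_cases h hn with hJ | ⟨⟨s, hO⟩, he, hkm⟩
    · exact Or.inr (Or.inr (Or.inr hJ))
    · rcases hkm with hk | ⟨hk, -⟩
      · obtain ⟨h15, hm⟩ := h.odd_full B hn hk hO he
        exact Or.inr (Or.inl ⟨h15, h.fifteen B h15 he hm⟩)
      · exact (B.outer_half_false h hn hk hO he).elim

end Cfsg.Agent.S3219
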