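import Cfsg.Statements.S3225
import Mathlib.Tactic
import Cfsg.Agent.Lib.Transfer.Thompson

set_option autoImplicit false
open Cfsg

namespace Cfsg.Agent.S3225

/-- Let G be a finite group of even order with no subgroup of index 2, S a Sylow 2-subgroup of G and M a subgroup of index 2 in S such that, for some n ≥ 1, every element of S outside M has order greater than 2^(n−1). Then every element of S of order 2ⁿ is conjugate in G to an element of M. -/
theorem result {G : Type*} [Group G] [Finite G] (hev : Even (Nat.card G))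
    (hG : ∀ H : Subgroup G, H.index ≠ 2) (S : Sylow 2 G) (M : Subgroup G) (hMS : M ≤ (S : Subgroup G)) (hM : M.relIndex (S : Subgroup G) = 2)
    (n : ℕ) (hn : 1 ≤ n) (hord : ∀ y ∈ (S : Subgroup G), y ∉ M → 2 ^ (n - 1) < orderOf y)
    (x : G) (hx : x ∈ (S : Subgroup G)) (hxn : orderOf x = 2 ^ n) :
    ∃ g : G, g * x * g⁻¹ ∈ M := by
  by_contra hne
  push Not at hne
  obtain ⟨N, _, hN, _⟩ := CfsgLib.Transfer.thompson_transfer S hMS hM hx
    (fun g => by simpa using hne g⁻¹) (fun g k hk hmem => by
      by_contra hnot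
      have h := hord _ hmem hnot
      have hy : g⁻¹ * x ^ (2 ^ k) * g = g⁻¹ * x ^ (2 ^ k) * g⁻¹⁻¹ := by rw [inv_inv]
      have hpow : (g⁻¹ * x ^ (2 ^ k) * g) ^ (2 ^ (n - 1)) = 1 := by
        have h1 : x ^ (2 ^ k * 2 ^ (n - 1)) = 1 := by
          refine orderOf_dvd_iff_pow_eq_one.1 ?_
          rw [hxn, ← pow_add]
          exact pow_dvd_pow 2 (by omega)
        rw [hy, conj_pow, ← pow_mul, h1]
        group
      exact absurd (orderOf_le_of_pow_eq_one (by positivity) hpow) (not_le.2 h))
  exact hG N hN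

end Cfsg.Agent.S3225
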