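import Cfsg.Statements.S3230
import Cfsg.Agent.Lib.Recog.U6Cent.Final
import Cfsg.Agent.Lib.Recog.U6Cent.Wrap
import Cfsg.Agent.Lib.Recog.U6Cent.ModSetup
import Cfsg.Agent.Lib.Perm.SwappedPair
import Cfsg.Agent.Lib.KnownC.AutPSpOut
import Cfsg.Agent.S0822

set_option autoImplicit false
open Cfsg Subgroup CfsgLib.Recog.U6Cent

namespace Cfsg.Agent.S3230

/-- Let G be a finite group with an involution z, H = C_G(z), such that J = O₂(H) is extraspecial of order 2⁹ with C_H(J) ≤ J and H/J ≅ PSp₄(3). Then G ≅ U₆(2) or G = H·O(G). -/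
theorem result {G : Type*} [Group G] [Finite G] (z : G) (hz : orderOf z = 2)
    {F : Type*} [Field F] [Fintype F] (hF : Fintype.card F = 3) {K : Type*} [Field K] [Fintype K] (hK : Fintype.card K = 4)
    (hJ : Cfsg.IsExtraspecial 2 ↥(Cfsg.pCore 2 ↥(Subgroup.centralizer ({z} : Set G)))) (hJc : Nat.card ↥(Cfsg.pCore 2 ↥(Subgroup.centralizer ({z} : Set G))) = 2 ^ 9)
    (hCJ : Subgroup.centralizer ((Cfsg.pCore 2 ↥(Subgroup.centralizer ({z} : Set G))) : Set ↥(Subgroup.centralizer ({z} : Set G))) ≤ Cfsg.pCore 2 ↥(Subgroup.centralizer ({z} : Set G))) [hJn : (Cfsg.pCore 2 ↥(Subgroup.centralizer ({z} : Set G))).Normal]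
    (e : (↥(Subgroup.centralizer ({z} : Set G)) ⧸ Cfsg.pCore 2 ↥(Subgroup.centralizer ({z} : Set G))) ≃* Cfsg.PSp 2 F) :
    Nonempty (G ≃* Cfsg.PSU 6 K 2) ∨ Subgroup.centralizer ({z} : Set G) ⊔ Cfsg.oddCore G = ⊤ := by
  obtain ⟨e1⟩ := Cfsg.Agent.S0822.result (F := K) (K := F) hK hF
  obtain ⟨e2⟩ := nonempty_psu_four hK
  obtain ⟨S, rfl, hcard⟩ := exists_setup hK z hz _ rfl hJ hJc hCJ
    (e.toMonoidHom.comp (QuotientGroup.mk' _)) (e.surjective.comp (QuotientGroup.mk'_surjective _))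
    (by ext x; simp [MonoidHom.mem_ker]) ⊤
    ((topEquiv.trans e1.symm).trans e2) (Or.inl index_top)
    (fun a h => CfsgLib.KnownC.conjHom_psp_injective (m := 2) le_rfl (by
      rw [map_one]
      exact MulEquiv.ext fun y => by rw [MulAut.conj_apply, MulAut.one_apply, h y (mem_top _), mul_inv_cancel_right]))
  rcases S.isolated_or_psu S.dichotomy with h | ⟨G0, ⟨f⟩, -, hi⟩
  · exact Or.inr (CfsgLib.Perm.SwappedPair.sup_oddCore_eq_top h)
  · rw [hcard, index_top, one_mul] at hi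
    have h1 : G0 = ⊤ := index_eq_one.1 (by omega)
    exact Or.inl ⟨(topEquiv.symm.trans (MulEquiv.subgroupCongr h1.symm)).trans f⟩

end Cfsg.Agent.S3230
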