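import Cfsg.Statements.S3231
import Cfsg.Agent.Lib.Recog.U6Cent.Final
import Cfsg.Agent.Lib.Recog.U6Cent.Wrap
import Cfsg.Agent.Lib.Recog.U6Cent.ModSetup
import Cfsg.Agent.Lib.Perm.SwappedPair
import Cfsg.Agent.Lib.KnownC.AutPSpOut
import Cfsg.Agent.S0822
import Cfsg.Agent.S0814

set_option autoImplicit false
open Cfsg Subgroup CfsgLib.Recog.U6Cent

namespace Cfsg.Agent.S3231

/-- Let G be a finite group with an involution z, H = C_G(z), such that J = O₂(H) is extraspecial of order 2⁹ with C_H(J) ≤ J and H/J ≅ Aut(PSp₄(3)). Then either G has a subgroup G₀ of index 2 with G₀ ≅ U₆(2) and C_G(G₀) = 1 (so that G embeds in Aut(G₀)), or G = H·O(G). -/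
theorem result {G : Type*} [Group G] [Finite G] (z : G) (hz : orderOf z = 2)
    {F : Type*} [Field F] [Fintype F] (hF : Fintype.card F = 3) {K : Type*} [Field K] [Fintype K] (hK : Fintype.card K = 4)
    (hJ : Cfsg.IsExtraspecial 2 ↥(Cfsg.pCore 2 ↥(Subgroup.centralizer ({z} : Set G)))) (hJc : Nat.card ↥(Cfsg.pCore 2 ↥(Subgroup.centralizer ({z} : Set G))) = 2 ^ 9)
    (hCJ : Subgroup.centralizer ((Cfsg.pCore 2 ↥(Subgroup.centralizer ({z} : Set G))) : Set ↥(Subgroup.centralizer ({z} : Set G))) ≤ Cfsg.pCore 2 ↥(Subgroup.centralizer ({z} : Set G))) [hJn : (Cfsg.pCore 2 ↥(Subgroup.centralizer ({z} : Set G))).Normal]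
    (e : (↥(Subgroup.centralizer ({z} : Set G)) ⧸ Cfsg.pCore 2 ↥(Subgroup.centralizer ({z} : Set G))) ≃* MulAut (Cfsg.PSp 2 F)) :
    (∃ G₀ : Subgroup G, G₀.index = 2 ∧ Nonempty (↥G₀ ≃* Cfsg.PSU 6 K 2) ∧ Subgroup.centralizer (G₀ : Set G) = ⊥) ∨
      Subgroup.centralizer ({z} : Set G) ⊔ Cfsg.oddCore G = ⊤ := by
  haveI : Fact (Nat.Prime 3) := ⟨Nat.prime_three⟩
  obtain ⟨e1⟩ := Cfsg.Agent.S0822.result (F := K) (K := F) hK hF
  obtain ⟨e2⟩ := nonempty_psu_four hK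
  have hinj := CfsgLib.KnownC.conjHom_psp_injective (F := F) (m := 2) le_rfl
  haveI : Finite (Cfsg.PSp 2 F) := Finite.of_equiv _ e1.toEquiv
  haveI : Finite (MulAut (Cfsg.PSp 2 F)) :=
    Finite.of_injective (fun e : MulAut (Cfsg.PSp 2 F) => (e : Cfsg.PSp 2 F → Cfsg.PSp 2 F))
      DFunLike.coe_injective
  set I := (MulAut.conj : Cfsg.PSp 2 F →* MulAut (Cfsg.PSp 2 F)).range with hI
  have key : ∀ (φ : MulAut (Cfsg.PSp 2 F)) x, φ * MulAut.conj x * φ⁻¹ = MulAut.conj (φ x) := fun φ x =>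
    MulEquiv.ext fun y => by simp [MulAut.mul_apply]
  haveI : I.Normal := ⟨by rintro _ ⟨x, rfl⟩ φ; exact ⟨φ x, (key φ x).symm⟩⟩
  have hidx : I.index = 2 := by
    have h := I.index_mul_card
    rw [Cfsg.Agent.S0814.result 3 1 le_rfl (by simpa using hF) 2 le_rfl fun _ => by norm_num,
      Nat.card_congr (MonoidHom.ofInjective hinj).toEquiv.symm] at h
    norm_num at h
    exact h.resolve_right Nat.card_pos.ne'
  obtain ⟨S, rfl, hcard⟩ := exists_setup hK z hz _ rfl hJ hJc hCJ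
    (e.toMonoidHom.comp (QuotientGroup.mk' _)) (e.surjective.comp (QuotientGroup.mk'_surjective _))
    (by ext x; simp [MonoidHom.mem_ker]) I
    (((MonoidHom.ofInjective hinj).symm.trans e1.symm).trans e2) (Or.inr hidx)
    (fun a h => MulEquiv.ext fun x => hinj (by
      rw [← key, h _ ⟨x, rfl⟩, mul_inv_cancel_right, MulAut.one_apply]))
  rcases S.isolated_or_psu S.dichotomy with h | ⟨G0, f, hc, hi⟩
  · exact Or.inr (CfsgLib.Perm.SwappedPair.sup_oddCore_eq_top h)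
  · rw [hcard, hidx] at hi
    exact Or.inl ⟨G0, by omega, f, hc⟩

end Cfsg.Agent.S3231
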