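import Cfsg.Statements.S3232
import Cfsg.Agent.Lib.Recog.Fi22Cent.SetupExists
import Cfsg.Agent.Lib.Recog.Fi22Cent.Assembly
import Cfsg.Agent.Lib.Recog.Fi22Cent.Isolation
import Cfsg.Agent.Lib.Recog.Fi22Cent.SplitMain
import Cfsg.Agent.Lib.Recog.U6Cent.Wrap
import Cfsg.Agent.Lib.KnownC.AutPSpOut
import Cfsg.Agent.S0822
import Cfsg.Agent.S0814

set_option autoImplicit false
open Cfsg Subgroup CfsgLib.Recog.Fi22Cent

namespace Cfsg.Agent.S3232

/-- Let G be a finite group with an involution z, H = C_G(z), such that J = O₂(H) is an (internal) direct product of a group of order 2 and an extraspecial group of order 2⁹, with derived subgroup J′ = ⟨z⟩, C_H(J) ≤ J and H/J ≅ Aut(PSp₄(3)). Then G = H·O(G); or some involution z₁ ∈ Z(J) outside ⟨z⟩ generates a normal subgroup of G and G has a subgroup G₀ of index 2 containing z₁ with G₀/⟨z₁⟩ ≅ U₆(2); or G is isomorphic to the Fischer group Fi₂₂.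 -/
theorem result {G : Type*} [Group G] [Finite G] (z : G) (hz : orderOf z = 2)
    {F : Type*} [Field F] [Fintype F] (hF : Fintype.card F = 3) {K : Type*} [Field K] [Fintype K] (hK : Fintype.card K = 4)
    (A E : Subgroup ↥(Subgroup.centralizer ({z} : Set G))) (hAE : Cfsg.IsInternalDirectProduct A E (Cfsg.pCore 2 ↥(Subgroup.centralizer ({z} : Set G)))) (hA : Nat.card ↥A = 2)
    (hE : Cfsg.IsExtraspecial 2 ↥E) (hEc : Nat.card ↥E = 2 ^ 9)
    (zc : ↥(Subgroup.centralizer ({z} : Set G))) (hzc : (zc : G) = z) (hJ' : ⁅(Cfsg.pCore 2 ↥(Subgroup.centralizer ({z} : Set G))), (Cfsg.pCore 2 ↥(Subgroup.centralizer ({z} : Set G)))⁆ = Subgroup.zpowers zc)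
    (hCJ : Subgroup.centralizer ((Cfsg.pCore 2 ↥(Subgroup.centralizer ({z} : Set G))) : Set ↥(Subgroup.centralizer ({z} : Set G))) ≤ Cfsg.pCore 2 ↥(Subgroup.centralizer ({z} : Set G))) [hJn : (Cfsg.pCore 2 ↥(Subgroup.centralizer ({z} : Set G))).Normal]
    (e : (↥(Subgroup.centralizer ({z} : Set G)) ⧸ Cfsg.pCore 2 ↥(Subgroup.centralizer ({z} : Set G))) ≃* MulAut (Cfsg.PSp 2 F)) :
    Subgroup.centralizer ({z} : Set G) ⊔ Cfsg.oddCore G = ⊤ ∨
      (∃ z₁ : G, orderOf z₁ = 2 ∧ z₁ ∉ Subgroup.zpowers z ∧ (∃ h₁ : z₁ ∈ Subgroup.centralizer ({z} : Set G), (⟨z₁, h₁⟩ : ↥(Subgroup.centralizer ({z} : Set G))) ∈ Cfsg.pCore 2 ↥(Subgroup.centralizer ({z} : Set G)) ∧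
          ∀ j ∈ Cfsg.pCore 2 ↥(Subgroup.centralizer ({z} : Set G)), j * ⟨z₁, h₁⟩ = ⟨z₁, h₁⟩ * j) ∧ (Subgroup.zpowers z₁).Normal ∧
        ∃ (G₀ : Subgroup G) (hz₁ : z₁ ∈ G₀), G₀.index = 2 ∧
          ∃ hn : ((Subgroup.zpowers z₁).subgroupOf G₀).Normal,
            Nonempty ((↥G₀ ⧸ (Subgroup.zpowers z₁).subgroupOf G₀) ≃* Cfsg.PSU 6 K 2)) ∨
      Cfsg.Spor.IsoFi22 G := by
  haveI : Fact (Nat.Prime 3) := ⟨Nat.prime_three⟩
  haveI : Fact (Nat.Prime 2) := ⟨Nat.prime_two⟩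
  obtain ⟨e1⟩ := Cfsg.Agent.S0822.result (F := K) (K := F) hK hF
  obtain ⟨e2⟩ := CfsgLib.Recog.U6Cent.nonempty_psu_four hK
  have hinj := CfsgLib.KnownC.conjHom_psp_injective (F := F) (m := 2) le_rfl
  haveI : Finite (Cfsg.PSp 2 F) := Finite.of_equiv _ e1.toEquiv
  haveI : Finite (MulAut (Cfsg.PSp 2 F)) :=
    Finite.of_injective (fun e : MulAut (Cfsg.PSp 2 F) => (e : Cfsg.PSp 2 F → Cfsg.PSp 2 F))
      DFunLike.coe_injective
  set I := (MulAut.conj : Cfsg.PSp 2 F →* MulAut (Cfsg.PSp 2 F)).range with hI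
  have key : ∀ (φ : MulAut (Cfsg.PSp 2 F)) x, φ * MulAut.conj x * φ⁻¹ = MulAut.conj (φ x) := fun φ x =>
    MulEquiv.ext fun y => by simp [MulAut.mul_apply]
  haveI : I.Normal := ⟨by rintro _ ⟨x, rfl⟩ φ; exact ⟨φ x, (key φ x).symm⟩⟩
  have hidx : I.index = 2 := by
    have h := I.index_mul_card
    rw [Cfsg.Agent.S0814.result 3 1 le_rfl (by simpa using hF) 2 le_rfl fun _ => by norm_num,
      Nat.card_congr (MonoidHom.ofInjective hinj).toEquiv.symm] at h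
    norm_num at h
    exact h.resolve_right Nat.card_pos.ne'
  obtain ⟨S, rfl, hSJ, -⟩ := exists_setup hK z hz _ rfl (pCore 2 ↥(centralizer ({z} : Set G))) hJn A E hAE hA hE
    hEc zc hzc hJ' hCJ (e.toMonoidHom.comp (QuotientGroup.mk' _))
    (e.surjective.comp (QuotientGroup.mk'_surjective _))
    (by ext x; simp [MonoidHom.mem_ker]) I
    (((MonoidHom.ofInjective hinj).symm.trans e1.symm).trans e2) hidx
    (fun a h => MulEquiv.ext fun x => hinj (by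
      rw [← key, h _ ⟨x, rfl⟩, mul_inv_cancel_right, MulAut.one_apply]))
  have second : ∀ z₁ : G, z₁ * z₁ = 1 → z₁ ≠ 1 → z₁ ≠ S.z → z₁ ∈ S.J → (∀ x ∈ S.J, x * z₁ = z₁ * x) →
      Setup.Second (F := K) z₁ →
      (∃ z₁ : G, orderOf z₁ = 2 ∧ z₁ ∉ zpowers S.z ∧ (∃ h₁ : z₁ ∈ centralizer ({S.z} : Set G),
          (⟨z₁, h₁⟩ : ↥(centralizer ({S.z} : Set G))) ∈ pCore 2 ↥(centralizer ({S.z} : Set G)) ∧
          ∀ j ∈ pCore 2 ↥(centralizer ({S.z} : Set G)), j * ⟨z₁, h₁⟩ = ⟨z₁, h₁⟩ * j) ∧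
        (zpowers z₁).Normal ∧ ∃ (G₀ : Subgroup G) (hz₁ : z₁ ∈ G₀), G₀.index = 2 ∧
          ∃ hn : ((zpowers z₁).subgroupOf G₀).Normal,
            Nonempty ((↥G₀ ⧸ (zpowers z₁).subgroupOf G₀) ≃* Cfsg.PSU 6 K 2)) := by
    intro z₁ h2 h1 hne hJ hcen hsec
    refine ⟨z₁, orderOf_eq_prime (by rw [pow_two, h2]) h1, fun hm => ?_, ⟨S.J_cent hJ, ?_, fun j hj => ?_⟩, hsec.1,
      hsec.2⟩
    · obtain ⟨k, hk⟩ := mem_zpowers_iff.1 hm
      rw [zpow_mod_orderOf _ k |>.symm, hz] at hk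
      rcases Int.emod_two_eq_zero_or_one k with r | r
      · exact h1 (by rw [← hk]; simp [r])
      · exact hne (by rw [← hk]; simp [r])
    · rw [hSJ] at hJ
      obtain ⟨x, hx, e⟩ := hJ
      exact (show x = ⟨z₁, _⟩ from Subtype.ext e) ▸ hx
    · refine Subtype.ext (hcen _ ?_)
      rw [hSJ]
      exact ⟨j, hj, rfl⟩
  rcases S.outcomes (fun T _ a b => T.isolated_of_iso a b) (fun T hs a b => T.mixed_fix hs a b)
      (fun hs h1 => S.fi22_of_swap hs (S.iso_or_u6.resolve_left h1)) with h | (h | h) | h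
  · exact Or.inl h
  · exact Or.inr (Or.inl (second _ S.z1_sq S.z1_ne S.z1_ne_z S.z1_mem S.z1_central h))
  · exact Or.inr (Or.inl (second _ S.zz1_sq S.zz1_ne S.zz1_ne_z (mul_mem S.z_mem S.z1_mem)
      S.flip.z1_central h))
  · exact Or.inr (Or.inr h)

end Cfsg.Agent.S3232
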