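import Cfsg.Statements.S3233
import Cfsg.Agent.Lib.Recog.Fi23Cent.SetupExists
import Cfsg.Agent.Lib.Recog.Fi23Cent.Coord
import Cfsg.Agent.Lib.Recog.Fi23Cent.Loc
import Cfsg.Agent.Lib.Recog.Fi23Cent.Quot
import Cfsg.Agent.Lib.Recog.Fi23Cent.U6Branch
import Cfsg.Agent.Lib.Perm.SwappedPair
import Cfsg.Agent.Lib.KnownC.AutPSpOut
import Cfsg.Agent.Lib.Recog.U6Cent.Wrap
import Cfsg.Agent.S0822
import Cfsg.Agent.S0814

set_option autoImplicit false
open Cfsg Subgroup CfsgLib.Recog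

namespace Cfsg.Agent.S3233

/-- Let G be a finite group with an involution z, H = C_G(z), such that (i) J = O₂(H) is an (internal) direct product of a four-group and an extraspecial group of order 2⁹, with C_H(J) ≤ J, and (ii) H contains an element c of order 3 such that J⟨c⟩ is normal in H with H/J⟨c⟩ ≅ Aut(PSp₄(3)) and C_H(c)/⟨c, z⟩ ≅ PSp₄(3). Then G = H·O(G), or G is isomorphic to the Fischer group Fi₂₃, or G has a normal four-group V with G/V ≅ Aut(U₆(2)). -/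
theorem result {G : Type*} [Group G] [Finite G] (z : G) (hz : orderOf z = 2)
    {F : Type*} [Field F] [Fintype F] (hF : Fintype.card F = 3) {K : Type*} [Field K] [Fintype K] (hK : Fintype.card K = 4)
    (V E : Subgroup ↥(Subgroup.centralizer ({z} : Set G))) (hVE : Cfsg.IsInternalDirectProduct V E (Cfsg.pCore 2 ↥(Subgroup.centralizer ({z} : Set G)))) (hV : Nat.card ↥V = 4) (hV2 : ∀ v ∈ V, v ^ 2 = 1)
    (hE : Cfsg.IsExtraspecial 2 ↥E) (hEc : Nat.card ↥E = 2 ^ 9)
    (hCJ : Subgroup.centralizer ((Cfsg.pCore 2 ↥(Subgroup.centralizer ({z} : Set G))) : Set ↥(Subgroup.centralizer ({z} : Set G))) ≤ Cfsg.pCore 2 ↥(Subgroup.centralizer ({z} : Set G)))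
    (zc c : ↥(Subgroup.centralizer ({z} : Set G))) (hzc : (zc : G) = z) (hc : orderOf c = 3)
    [hJc : (Cfsg.pCore 2 ↥(Subgroup.centralizer ({z} : Set G)) ⊔ Subgroup.zpowers c).Normal] (e : (↥(Subgroup.centralizer ({z} : Set G)) ⧸ (Cfsg.pCore 2 ↥(Subgroup.centralizer ({z} : Set G)) ⊔ Subgroup.zpowers c)) ≃* MulAut (Cfsg.PSp 2 F))
    [hcz : ((Subgroup.zpowers c ⊔ Subgroup.zpowers zc).subgroupOf (Subgroup.centralizer ({c} : Set ↥(Subgroup.centralizer ({z} : Set G))))).Normal]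
    (e' : (↥(Subgroup.centralizer ({c} : Set ↥(Subgroup.centralizer ({z} : Set G)))) ⧸ (Subgroup.zpowers c ⊔ Subgroup.zpowers zc).subgroupOf (Subgroup.centralizer ({c} : Set ↥(Subgroup.centralizer ({z} : Set G))))) ≃* Cfsg.PSp 2 F) :
    Subgroup.centralizer ({z} : Set G) ⊔ Cfsg.oddCore G = ⊤ ∨ Cfsg.Spor.IsoFi23 G ∨
      (∃ (W : Subgroup G) (hW : W.Normal), Nat.card ↥W = 4 ∧ (∀ w ∈ W, w ^ 2 = 1) ∧
        Nonempty ((G ⧸ W) ≃* MulAut (Cfsg.PSU 6 K 2))) := by
  haveI : Fact (Nat.Prime 3) := ⟨Nat.prime_three⟩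
  obtain ⟨e1⟩ := Cfsg.Agent.S0822.result (F := K) (K := F) hK hF
  obtain ⟨e2⟩ := U6Cent.nonempty_psu_four hK
  have hinj := CfsgLib.KnownC.conjHom_psp_injective (F := F) (m := 2) le_rfl
  haveI : Finite (Cfsg.PSp 2 F) := Finite.of_equiv _ e1.toEquiv
  haveI : Finite (MulAut (Cfsg.PSp 2 F)) :=
    Finite.of_injective (fun e : MulAut (Cfsg.PSp 2 F) => (e : Cfsg.PSp 2 F → Cfsg.PSp 2 F))
      DFunLike.coe_injective
  set I := (MulAut.conj : Cfsg.PSp 2 F →* MulAut (Cfsg.PSp 2 F)).range with hI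
  have key : ∀ (φ : MulAut (Cfsg.PSp 2 F)) x, φ * MulAut.conj x * φ⁻¹ = MulAut.conj (φ x) := fun φ x =>
    MulEquiv.ext fun y => by simp [MulAut.mul_apply]
  haveI : I.Normal := ⟨by rintro _ ⟨x, rfl⟩ φ; exact ⟨φ x, (key φ x).symm⟩⟩
  have hidx : I.index = 2 := by
    have h := I.index_mul_card
    rw [Cfsg.Agent.S0814.result 3 1 le_rfl (by simpa using hF) 2 le_rfl fun _ => by norm_num,
      Nat.card_congr (MonoidHom.ofInjective hinj).toEquiv.symm] at h
    norm_num at h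
    exact h.resolve_right Nat.card_pos.ne'
  have hcard : Nat.card (MulAut (Cfsg.PSp 2 F)) = 51840 := by
    rw [← I.index_mul_card, hidx, Nat.card_congr (MonoidHom.ofInjective hinj).toEquiv.symm,
      Nat.card_congr (e1.symm.trans e2).toEquiv, U6Cent.card_su_four hK]
  set L := centralizer ({c} : Set (centralizer ({z} : Set G)))
  obtain ⟨S, hS⟩ := Fi23Cent.exists_setup hK z hz _ rfl _ inferInstance V E hVE hV hV2 hE hEc zc c hzc hc hCJ
    (e.toMonoidHom.comp (QuotientGroup.mk' _)) (e.surjective.comp (QuotientGroup.mk'_surjective _))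
    (by ext x; simp [MonoidHom.mem_ker]) hcard I hidx
    (fun a h => MulEquiv.ext fun x => hinj (by
      rw [← key, h _ ⟨x, rfl⟩, mul_inv_cancel_right, MulAut.one_apply]))
    ((e'.trans (e1.symm.trans e2)).toMonoidHom.comp (QuotientGroup.mk' _))
    ((e'.trans (e1.symm.trans e2)).surjective.comp (QuotientGroup.mk'_surjective _))
    (fun x => by simp [mem_subgroupOf])
  obtain ⟨D⟩ := Fi23Cent.exists_fdata S
  subst hS
  rcases S.cases with h | ⟨hD, hE | hU⟩
  · exact Or.inr (Or.inl h)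
  · exact Or.inl (CfsgLib.Perm.SwappedPair.sup_oddCore_eq_top (D.isolated hD hE))
  · exact Or.inr (Or.inr (S.u6_branch D hD hU fun _ ht => D.tame hD (Or.inr hU) ht))

end Cfsg.Agent.S3233
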