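import Cfsg.Statements.S3237
import Cfsg.Agent.Lib.InvChar.LThreeFourAut.Main
import Cfsg.Agent.Lib.InvChar.LThreeFourAut.Models
import Cfsg.Agent.Lib.InvChar.LThreeFourAut.Local
import Cfsg.Agent.Lib.InvChar.LThreeFourAut.Ident
import Cfsg.Agent.Lib.InvChar.LThreeFourAut.Three

set_option autoImplicit false
open Cfsg

namespace Cfsg.Agent.S3237

/-- Let G be a finite group of even order with an involution z, H = C_G(z), such that H has a normal subgroup E of order 32 that is extraspecial and contains no elementary abelian subgroup of order 8 (the central product of a dihedral group of order 8 with a quaternion group), C_H(E) ≤ E, and H/E ≅ S₄. Then O(G) is abelian, and if G is not solvable then G is isomorphic to the automorphism group of PGL₃(4). -/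
theorem result {G : Type*} [Group G] [Finite G]
    (hev : Even (Nat.card G)) (z : G) (hz : orderOf z = 2)
    (E : Subgroup ↥(Subgroup.centralizer ({z} : Set G))) [hEn : E.Normal] (hE : Cfsg.IsExtraspecial 2 ↥E) (hE32 : Nat.card ↥E = 32)
    (hEminus : ∀ A : Subgroup ↥E, Cfsg.IsElementaryAbelian 2 A → Nat.card ↥A ≠ 8)
    (hCE : Subgroup.centralizer (E : Set ↥(Subgroup.centralizer ({z} : Set G))) ≤ E)
    (e : (↥(Subgroup.centralizer ({z} : Set G)) ⧸ E) ≃* Equiv.Perm (Fin 4)) {F : Type*} [Field F] [Fintype F] (hF : Fintype.card F = 4) :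
    IsMulCommutative ↥(Cfsg.oddCore G) ∧
      (¬ Group.IsSolvable G → Nonempty (G ≃* MulAut (GL (Fin 3) F ⧸ Subgroup.center (GL (Fin 3) F)))) := by
  have hH := CfsgLib.InvChar.LThreeFourAut.oddCore_eq_bot_of_normal E hE32 hCE
  refine CfsgLib.InvChar.LThreeFourAut.main hz hH ?_
    (fun L hO hns hU hg hN => L.nonempty_mulEquiv_of_three
      (fun H _ _ _ hG z U T A B D a h => h.false hG) hO hns hU hg hN hF)
  obtain ⟨b, φ, hinj, hrange, hφz⟩ :=
    CfsgLib.InvChar.LThreeFourAut.exists_model hz E hE hE32 hEminus hCE e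
  refine CfsgLib.InvChar.LThreeFourAut.loc_or_bad
    ((QuotientGroup.mk' (Cfsg.oddCore G)).comp φ) ?_ ?_ ?_
  · intro p q h
    have hp : ∀ r, φ r ∈ CfsgLib.InvChar.LThreeFourAut.cz z := fun r => hrange ▸ ⟨r, rfl⟩
    exact hinj (congrArg Subtype.val (CfsgLib.InvChar.LThreeFourAut.mk_injOn hz hH
      (a₁ := ⟨φ p, hp p⟩) (a₂ := ⟨φ q, hp q⟩) h))
  · rw [MonoidHom.range_comp, hrange, ← CfsgLib.InvChar.LThreeFourAut.range_mk hz hH,
      MonoidHom.range_comp, Subgroup.range_subtype]
  · rw [MonoidHom.comp_apply, hφz]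

end Cfsg.Agent.S3237
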