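import Cfsg.Statements.S3246
import Cfsg.Agent.Lib.InvChar.ConstrainedLocal
import Cfsg.Agent.Lib.Comp.Signalizer
import Cfsg.Agent.Lib.Invol.FourGroup

set_option autoImplicit false
open Cfsg

namespace Cfsg.Agent.S3246

open Subgroup CfsgLib.Comp

variable {G : Type*} [Group G] [Finite G]

/-- In a constrained group with trivial odd core, an odd subgroup normalized by a subgroup of index
at most two of a Sylow 2-subgroup is trivial. -/
theorem eq_bot_of_normalized {H : Type*} [Group H] [Finite H]
    (hH : centralizer (Cfsg.pCore 2 H : Set H) ≤ Cfsg.pCore 2 H)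
    (Q : Subgroup H) (hQ : Odd (Nat.card Q)) (R : Sylow 2 H) (S0 : Subgroup H) (hS0 : S0 ≤ (R : Subgroup H))
    (hidx : S0.relIndex (R : Subgroup H) ≤ 2) (hnorm : S0 ≤ normalizer (Q : Set H)) : Q = ⊥ := by
  classical
  set P := Cfsg.pCore 2 H with hP
  haveI : P.Normal := Cfsg.pCore_normal 2 H
  have hPR : P ≤ (R : Subgroup H) := CfsgLib.Solvable.pCore_le_sylow R
  have hP2 : IsPGroup 2 P := CfsgLib.Solvable.pCore_isPGroup 2
  have hQP : Q ⊓ P = ⊥ := by
    refine inf_eq_bot_of_coprime ?_
    obtain ⟨k, hk⟩ := IsPGroup.iff_card.1 hP2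
    rw [hk]
    exact (Nat.coprime_two_right.2 hQ).pow_right k
  set P0 := P ⊓ S0 with hP0
  have hi : P0.relIndex P ≤ 2 := by
    rw [hP0, inf_relIndex_left]
    exact (Subgroup.relIndex_le_of_le_right hPR Subgroup.index_ne_zero_of_finite).trans hidx
  rw [eq_bot_iff]
  intro q hq
  -- `q` centralizes `P0`
  have h0 : ∀ a ∈ P0, q * a * q⁻¹ = a := by
    intro a ha
    have h1 : q * a * q⁻¹ * a⁻¹ ∈ Q ⊓ P := by
      refine ⟨?_, mul_mem ((inferInstance : P.Normal).conj_mem a ha.1 q) (P.inv_mem (show a ∈ P from ha.1))⟩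
      have h2 := (mem_normalizer_iff.1 (hnorm ha.2) q⁻¹).1 (Q.inv_mem hq)
      simpa [mul_assoc] using mul_mem hq h2
    rw [hQP, mem_bot, mul_inv_eq_one] at h1
    exact h1
  -- `q` centralizes `P`
  have hcen : q ∈ centralizer (P : Set H) := by
    rw [mem_centralizer_iff]
    intro a ha
    set d := a⁻¹ * (q * a * q⁻¹) with hd
    have hdP0 : d ∈ P0 := by
      by_cases ha0 : a ∈ P0
      · rw [hd, h0 a ha0, inv_mul_cancel]; exact one_mem _
      have hqa : q * a * q⁻¹ ∉ P0 := fun h => ha0 (by
        have h2 := h0 _ h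
        have h3 : q * a * q⁻¹ = a := by
          have e : q * (q * a * q⁻¹) * q⁻¹ = q * a * q⁻¹ := h2
          exact mul_left_cancel (mul_right_cancel e)
        rwa [h3] at h)
      have h2 : (P0.subgroupOf P).index = 2 := by
        have hpos : 0 < P0.relIndex P := Nat.pos_of_ne_zero Subgroup.index_ne_zero_of_finite
        rcases Nat.lt_or_ge (P0.relIndex P) 2 with h | h
        · exact absurd (Subgroup.relIndex_eq_one.1 (by omega) ha) ha0
        · exact le_antisymm hi h
      exact mem_subgroupOf.1 ((Subgroup.mul_mem_iff_of_index_two h2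
        (a := (⟨a, ha⟩ : P)⁻¹) (b := ⟨q * a * q⁻¹, (inferInstance : P.Normal).conj_mem a ha q⟩)).2
        (iff_of_false (fun h => ha0 (by simpa using inv_mem (mem_subgroupOf.1 h)))
          (fun h => hqa (mem_subgroupOf.1 h))))
    have hk : ∀ k : ℕ, q ^ k * a * (q ^ k)⁻¹ = a * d ^ k := by
      intro k
      induction k with
      | zero => simp
      | succ k ih =>
        calc q ^ (k + 1) * a * (q ^ (k + 1))⁻¹ = q * (q ^ k * a * (q ^ k)⁻¹) * q⁻¹ := by
              rw [pow_succ']; group
          _ = (q * a * q⁻¹) * (q * d ^ k * q⁻¹) := by rw [ih]; group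
          _ = a * d * d ^ k := by rw [h0 _ (pow_mem hdP0 k), hd]; group
          _ = a * d ^ (k + 1) := by rw [pow_succ', mul_assoc]
    have hd1 : d = 1 := by
      have h := hk (orderOf q)
      rw [pow_orderOf_eq_one, one_mul, inv_one, mul_one, eq_comm, mul_eq_left] at h
      obtain ⟨j, hj⟩ := hP2 ⟨d, hdP0.1⟩
      have hodd : Odd (orderOf q) := hQ.of_dvd_nat (Subgroup.orderOf_dvd_natCard Q hq)
      rw [← orderOf_eq_one_iff]
      exact Nat.eq_one_of_dvd_coprimes ((Nat.coprime_two_right.2 hodd).pow_right j)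
        (orderOf_dvd_of_pow_eq_one h) (orderOf_dvd_of_pow_eq_one (congrArg Subtype.val hj))
    rw [hd, inv_mul_eq_one] at hd1
    exact (mul_inv_eq_iff_eq_mul.1 hd1.symm).symm
  exact (mem_bot.2 (mem_bot.1 (hQP.le ⟨hq, hH hcen⟩)))

theorem centralizer_le_of_constrained {H : Type*} [Group H] [Finite H]
    (hc : Cfsg.IsPConstrained 2 H) (hO : Cfsg.oddCore H = ⊥) :
    centralizer (Cfsg.pCore 2 H : Set H) ≤ Cfsg.pCore 2 H := by
  haveI := Cfsg.pPrimeCore_normal 2 H
  refine (centralizer_pCore_le_iff 2 H).2 ⟨?_, hO⟩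
  rw [isPConstrained_iff_pLayer, pLayer_eq_bot_iff] at hc
  set q := QuotientGroup.mk' (Cfsg.pPrimeCore 2 H) with hq
  have hinj : Function.Injective q := by
    rw [← MonoidHom.ker_eq_bot_iff, hq, QuotientGroup.ker_mk']; exact hO
  have h := layer_map_le_layer q (QuotientGroup.mk'_surjective _) (G := H)
  rw [hc, le_bot_iff] at h
  exact (map_eq_bot_iff_of_injective _ hinj).1 h

theorem isPConstrained_normalizer_of_centralizers {p : ℕ} [Fact p.Prime]
    (hx : ∀ x : G, orderOf x = p → Cfsg.IsPConstrained p ↥(Subgroup.centralizer ({x} : Set G)))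
    (T : Subgroup G) (hT : IsPGroup p T) (hT1 : T ≠ ⊥) :
    Cfsg.IsPConstrained p ↥(Subgroup.normalizer (T : Set G)) := by
  haveI : Nontrivial ↥T := (Subgroup.nontrivial_iff_ne_bot T).2 hT1
  haveI := hT.center_nontrivial
  obtain ⟨z, hz⟩ := exists_prime_orderOf_dvd_card' (G := ↥(Subgroup.center ↥T)) p
    ((hT.to_subgroup _).card_eq_or_dvd.resolve_left Finite.one_lt_card.ne')
  set x : G := ((z : ↥T) : G) with hxdef
  have hxo : orderOf x = p := by rw [hxdef, Subgroup.orderOf_coe, Subgroup.orderOf_coe, hz]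
  have hTC : T ≤ Subgroup.centralizer ({x} : Set G) := fun t ht => by
    rw [Subgroup.mem_centralizer_singleton_iff]
    exact congrArg Subtype.val (Subgroup.mem_center_iff.1 z.2 ⟨t, ht⟩)
  set D := Subgroup.centralizer ({x} : Set G) with hD
  set N := Subgroup.normalizer (T : Set G) with hN
  have h1 := (Cfsg.Agent.S0631.result (hx x hxo) (T.subgroupOf D)
    (hT.of_equiv (Subgroup.subgroupOfEquivOfLe hTC).symm)).2
  have hCD : Subgroup.centralizer (T : Set G) ≤ D :=
    Subgroup.centralizer_le (Set.singleton_subset_iff.2 (z : ↥T).2)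
  have hCN : Subgroup.centralizer (T : Set G) ≤ N := Subgroup.centralizer_le_normalizer _
  have hTN : T ≤ N := Subgroup.le_normalizer
  have e1 : Subgroup.centralizer ((T.subgroupOf D : Subgroup ↥D) : Set ↥D) =
      (Subgroup.centralizer (T : Set G)).subgroupOf D := by
    ext a
    simp only [Subgroup.mem_centralizer_iff, Subgroup.mem_subgroupOf, SetLike.mem_coe]
    exact ⟨fun h t ht => congrArg Subtype.val (h ⟨t, hTC ht⟩ ht), fun h t ht => Subtype.ext (h _ ht)⟩
  have e2 : Subgroup.centralizer ((T.subgroupOf N : Subgroup ↥N) : Set ↥N) =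
      (Subgroup.centralizer (T : Set G)).subgroupOf N := by
    ext a
    simp only [Subgroup.mem_centralizer_iff, Subgroup.mem_subgroupOf, SetLike.mem_coe]
    exact ⟨fun h t ht => congrArg Subtype.val (h ⟨t, hTN ht⟩ ht), fun h t ht => Subtype.ext (h _ ht)⟩
  haveI : (T.subgroupOf N).Normal := Subgroup.normal_in_normalizer
  refine CfsgLib.InvChar.isPConstrained_of_centralizer (T := T.subgroupOf N)
    (hT.of_equiv (Subgroup.subgroupOfEquivOfLe hTN).symm) ?_
  exact CfsgLib.InvChar.isPConstrained_congr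
    (((MulEquiv.subgroupCongr e1).trans (Subgroup.subgroupOfEquivOfLe hCD)).trans
      ((MulEquiv.subgroupCongr e2).trans (Subgroup.subgroupOfEquivOfLe hCN)).symm) h1

/-- An odd subgroup centralizing `u` and normalized by `C_S(u)` is trivial when this centralizer is
constrained with trivial odd core and has index at most two in a Sylow 2-subgroup. -/
theorem inf_centralizer_eq_bot (S : Sylow 2 G) (X : Subgroup G) (hX : Odd (Nat.card X))
    (hSX : (S : Subgroup G) ≤ normalizer (X : Set G)) (u : G)
    (hu : centralizer (Cfsg.pCore 2 ↥(centralizer ({u} : Set G)) : Set ↥(centralizer ({u} : Set G))) ≤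
      Cfsg.pCore 2 ↥(centralizer ({u} : Set G)))
    (hidx : ((S : Subgroup G) ⊓ centralizer ({u} : Set G)).relIndex (S : Subgroup G) ≤ 2) :
    X ⊓ centralizer ({u} : Set G) = ⊥ := by
  classical
  set H := centralizer ({u} : Set G) with hH
  set S0 := (S : Subgroup G).subgroupOf H with hS0
  have hS02 : IsPGroup 2 S0 := S.2.comap_of_injective H.subtype H.subtype_injective
  obtain ⟨R, hR⟩ := hS02.exists_le_sylow
  have hrel : S0.relIndex (R : Subgroup H) ≤ 2 := by
    have hcard0 : Nat.card S0 = Nat.card ↥((S : Subgroup G) ⊓ H : Subgroup G) := by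
      rw [← card_map_of_injective H.subtype_injective (K := S0), hS0, subgroupOf_map_subtype]
    have e1 : Nat.card S0 * S0.relIndex (R : Subgroup H) = Nat.card (R : Subgroup H) := by
      have h := ((S0.subgroupOf (R : Subgroup H))).card_mul_index
      rwa [Nat.card_congr (subgroupOfEquivOfLe hR).toEquiv] at h
    have e2 : Nat.card ↥((S : Subgroup G) ⊓ H : Subgroup G) * ((S : Subgroup G) ⊓ H).relIndex (S : Subgroup G) =
        Nat.card (S : Subgroup G) := by
      have h := (((S : Subgroup G) ⊓ H).subgroupOf (S : Subgroup G)).card_mul_index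
      rwa [Nat.card_congr (subgroupOfEquivOfLe inf_le_left).toEquiv] at h
    obtain ⟨R', hR'⟩ := (R.2.map H.subtype).exists_le_sylow
    have e3 : Nat.card (R : Subgroup H) ≤ Nat.card (S : Subgroup G) := by
      rw [← card_map_of_injective H.subtype_injective (K := (R : Subgroup H)), S.card_eq_multiplicity,
        ← R'.card_eq_multiplicity]
      exact Nat.le_of_dvd Nat.card_pos (card_dvd_of_le hR')
    have hpos : 0 < Nat.card S0 := Nat.card_pos
    have : Nat.card S0 * S0.relIndex (R : Subgroup H) ≤ Nat.card S0 * 2 := by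
      rw [e1]
      refine e3.trans ?_
      rw [← e2, ← hcard0]
      exact Nat.mul_le_mul_left _ hidx
    exact Nat.le_of_mul_le_mul_left this hpos
  have hodd : Odd (Nat.card (X.subgroupOf H)) := by
    rw [← card_map_of_injective H.subtype_injective (K := X.subgroupOf H), subgroupOf_map_subtype]
    exact hX.of_dvd_nat (card_dvd_of_le inf_le_left)
  have h := eq_bot_of_normalized hu (X.subgroupOf H) hodd R S0 hR hrel ?_
  · rwa [subgroupOf_eq_bot, disjoint_iff] at h
  · intro s hs
    rw [mem_normalizer_iff]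
    intro y
    simp only [mem_subgroupOf, Subgroup.coe_mul, Subgroup.coe_inv]
    exact mem_normalizer_iff.1 (hSX hs) _

/-- Let G be a finite group whose Sylow 2-subgroup S has a self-centralizing normal subgroup of rank at least 3. Suppose that either every maximal 2-local subgroup of G is 2-constrained with no nontrivial normal subgroup of odd order, or the centralizer of every involution of G is 2-constrained with no nontrivial normal subgroup of odd order. Then S normalizes no nontrivial subgroup of G of odd order and every 2-local subgroup of G is 2-constrained. -/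
theorem result {G : Type*} [Group G] [Finite G]
    (S : Sylow 2 G) (A : Subgroup G) (hA : Cfsg.IsSCN (S : Subgroup G) A) (hA3 : ¬ Cfsg.PRankLE 2 2 ↥A)
    (h : (∀ M : Subgroup G, Cfsg.IsMaximalTwoLocal M → Cfsg.IsPConstrained 2 ↥M ∧ Cfsg.oddCore ↥M = ⊥) ∨
      (∀ t : G, orderOf t = 2 → Cfsg.IsPConstrained 2 ↥(Subgroup.centralizer ({t} : Set G)) ∧
        Cfsg.oddCore ↥(Subgroup.centralizer ({t} : Set G)) = ⊥)) :
    (∀ X : Subgroup G, Odd (Nat.card ↥X) → (S : Subgroup G) ≤ Subgroup.normalizer (X : Set G) → X = ⊥) ∧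
      (∀ T : Subgroup G, IsPGroup 2 ↥T → T ≠ ⊥ → Cfsg.IsPConstrained 2 ↥(Subgroup.normalizer (T : Set G))) := by
  classical
  haveI : Fact (Nat.Prime 2) := ⟨Nat.prime_two⟩
  have hlift : ∀ N : Subgroup G, Cfsg.IsTwoLocal N → ∃ M, Cfsg.IsMaximalTwoLocal M ∧ N ≤ M := by
    intro N hN
    obtain ⟨M, ⟨hM1, hM2⟩, hM3⟩ :=
      (Set.toFinite {M : Subgroup G | Cfsg.IsTwoLocal M ∧ N ≤ M}).exists_maximal ⟨N, hN, le_rfl⟩
    exact ⟨M, ⟨hM1, fun K hK hle => le_antisymm (hM3 ⟨hK, hM2.trans hle⟩ hle) hle⟩, hM2⟩
  -- centralizers of involutions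
  have hu : ∀ u : G, orderOf u = 2 → centralizer
      (Cfsg.pCore 2 ↥(centralizer ({u} : Set G)) : Set ↥(centralizer ({u} : Set G))) ≤
      Cfsg.pCore 2 ↥(centralizer ({u} : Set G)) := by
    intro u hu
    rcases h with h | h
    · set U := zpowers u with hU
      have hU2 : IsPGroup 2 U := IsPGroup.of_card (n := 1) (by rw [hU, Nat.card_zpowers, hu, pow_one])
      have hNU : normalizer (U : Set G) = centralizer ({u} : Set G) := by
        ext g
        rw [mem_centralizer_singleton_iff]
        constructor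
        · intro hg
          have h1 := (mem_normalizer_iff.1 hg u).1 (mem_zpowers u)
          rw [hU, ← mem_powers_iff_mem_zpowers, Submonoid.mem_powers_iff] at h1
          obtain ⟨i, hi⟩ := h1
          rw [← pow_mod_orderOf, hu] at hi
          rcases Nat.mod_two_eq_zero_or_one i with h0 | h0 <;> rw [h0] at hi
          · exfalso
            have hu1 : u = 1 := by exact conj_eq_one_iff.1 (hi.symm.trans (pow_zero u))
            rw [hu1, orderOf_one] at hu
            omega
          · rw [pow_one] at hi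
            exact mul_inv_eq_iff_eq_mul.1 hi.symm
        · intro hg
          refine mem_normalizer_iff.2 fun y => ?_
          have hy : ∀ y ∈ U, g * y * g⁻¹ = y := by
            rintro y ⟨i, rfl⟩
            exact mul_inv_eq_iff_eq_mul.2 ((show Commute g u from hg).zpow_right i).eq
          refine ⟨fun h1 => (hy y h1).symm ▸ h1, fun h1 => ?_⟩
          have h2 := hy _ h1
          rw [mul_left_inj, mul_right_inj] at h2
          exact h2 ▸ h1
      obtain ⟨M, hM, hle⟩ := hlift (centralizer ({u} : Set G))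
        ⟨U, hU2, fun h1 => by
          have := Nat.card_zpowers u
          rw [← hU, h1, card_bot, hu] at this
          omega, hNU.symm⟩
      obtain ⟨hc, hO⟩ := h M hM
      have hUM : U ≤ M := (le_normalizer.trans hNU.le).trans hle
      have h2 := centralizer_pCore_normalizer_le (centralizer_le_of_constrained hc hO)
        (P := U.subgroupOf M) (hU2.of_equiv (subgroupOfEquivOfLe hUM).symm)
      have heq : normalizer ((U.subgroupOf M : Subgroup ↥M) : Set ↥M) =
          (centralizer ({u} : Set G)).subgroupOf M := by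
        rw [← hNU]; exact (subgroupOf_normalizer_eq hUM).symm
      set e := (MulEquiv.subgroupCongr heq).trans (subgroupOfEquivOfLe hle)
      have hmap := CfsgLib.Solvable.map_pCore_equiv e 2
      intro x hx
      obtain ⟨y, rfl⟩ := e.surjective x
      rw [← hmap]
      refine mem_map_of_mem _ (h2 ?_)
      intro w hw
      apply e.injective
      rw [map_mul, map_mul]
      exact hx _ (hmap.le (mem_map_of_mem _ hw))
    · exact centralizer_le_of_constrained (h u hu).1 (h u hu).2
  refine ⟨fun X hX hSX => ?_, fun T hT hT1 => ?_⟩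
  · -- a normal four-group of `S`
    obtain ⟨E, hEc, hEsq, hE8⟩ : ∃ E : Subgroup ↥(S : Subgroup G), (∀ a ∈ E, ∀ b ∈ E, a * b = b * a) ∧
        (∀ a ∈ E, a * a = 1) ∧ 8 ≤ Nat.card E := by
      rw [Cfsg.PRankLE] at hA3
      push Not at hA3
      obtain ⟨E, hEc, hE2, hE4⟩ := hA3
      set f : ↥A →* ↥(S : Subgroup G) := Subgroup.inclusion hA.1
      have hf : Function.Injective f := Subgroup.inclusion_injective hA.1
      refine ⟨E.map f, ?_, ?_, ?_⟩
      · rintro _ ⟨a, ha, rfl⟩ _ ⟨b, hb, rfl⟩
        have := congrArg Subtype.val (hEc.is_comm.comm ⟨a, ha⟩ ⟨b, hb⟩)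
        rw [← map_mul, ← map_mul]
        exact congrArg f this
      · rintro _ ⟨a, ha, rfl⟩
        rw [← map_mul, ← pow_two, hE2 a ha, map_one]
      · rw [card_map_of_injective hf]
        obtain ⟨j, hj⟩ := IsPGroup.iff_card.1 (((S.2.to_le hA.1)).to_subgroup E)
        rw [hj] at hE4 ⊢
        have := (Nat.pow_lt_pow_iff_right (by norm_num : 1 < 2)).1 hE4
        exact le_trans (by norm_num) (Nat.pow_le_pow_right (by norm_num) this)
    obtain ⟨U, hUn, hU4, hUc, hUsq⟩ := CfsgLib.Invol.exists_normal_four S.2 hEc hEsq hE8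
    set V := U.map (S : Subgroup G).subtype with hV
    have hV4 : Nat.card V = 4 := by rw [hV, card_map_of_injective (subtype_injective _), hU4]
    have hVS : V ≤ (S : Subgroup G) := map_subtype_le U
    have hVe : Cfsg.IsElementaryAbelian 2 V := by
      refine ⟨⟨⟨?_⟩⟩, ?_⟩
      · rintro ⟨_, a, ha, rfl⟩ ⟨_, b, hb, rfl⟩
        exact Subtype.ext (congrArg (fun w : ↥U => ((w : ↥(S : Subgroup G)) : G))
          (hUc.is_comm.comm ⟨a, ha⟩ ⟨b, hb⟩))
      · rintro _ ⟨a, ha, rfl⟩
        rw [pow_two, ← map_mul, hUsq a ha, map_one]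
    have hX2 : ¬ 2 ∣ Nat.card X := fun h2 => Nat.not_even_iff_odd.2 hX (even_iff_two_dvd.2 h2)
    have hdec := eq_iSup_centralizer_hyperplane hVe
      (fun h1 => by rw [h1, card_bot] at hV4; omega) hX2 (hVS.trans hSX)
    rw [hdec, iSup_eq_bot]
    rintro ⟨B, hBV, hBi⟩
    have hB2 : Nat.card B = 2 := by
      have h1 := (B.subgroupOf V).card_mul_index
      rw [Nat.card_congr (subgroupOfEquivOfLe hBV).toEquiv, hV4] at h1
      have h2 : (B.subgroupOf V).index = 2 := hBi
      rw [h2] at h1
      omega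
    obtain ⟨⟨u, huB⟩, hu2⟩ := exists_prime_orderOf_dvd_card' (G := ↥B) 2 (by rw [hB2])
    rw [Subgroup.orderOf_mk] at hu2
    have hBu : B = zpowers u := (Subgroup.eq_of_le_of_card_ge (zpowers_le.2 huB)
      (by rw [hB2, Nat.card_zpowers, hu2])).symm
    have hCB : centralizer (B : Set G) = centralizer ({u} : Set G) := by
      rw [hBu]
      refine le_antisymm (centralizer_le (Set.singleton_subset_iff.2 (mem_zpowers u))) fun g hg => ?_
      rintro _ ⟨i, rfl⟩
      exact ((show Commute g u from mem_centralizer_singleton_iff.1 hg).zpow_right i).symm.eq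
    show X ⊓ centralizer (B : Set G) = ⊥
    rw [hCB]
    refine inf_centralizer_eq_bot S X hX hSX u (hu u hu2) ?_
    -- the orbit of `u` in `S` has at most two elements
    obtain ⟨v, hvU, hvu⟩ := Subgroup.mem_map.1 (hBV huB)
    subst u
    set K := centralizer ({v} : Set ↥(S : Subgroup G)) with hK
    have hKeq : ((S : Subgroup G) ⊓ centralizer ({(v : G)} : Set G)).subgroupOf (S : Subgroup G) = K := by
      ext s
      rw [mem_subgroupOf, mem_inf, hK, mem_centralizer_singleton_iff, mem_centralizer_singleton_iff]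
      exact ⟨fun h => Subtype.ext h.2, fun h => ⟨s.2, congrArg Subtype.val h⟩⟩
    rw [relIndex]
    show (((S : Subgroup G) ⊓ centralizer ({(v : G)} : Set G)).subgroupOf (S : Subgroup G)).index ≤ 2
    rw [hKeq]
    let f : ↥(S : Subgroup G) ⧸ K → {w : ↥U // (w : ↥(S : Subgroup G)) ≠ 1} :=
      Quotient.lift (fun s => ⟨⟨s * v * s⁻¹, hUn.conj_mem v hvU s⟩, fun h => by
        have h1 : v = 1 := conj_eq_one_iff.1 h
        simp [h1] at hu2⟩) (by
        intro a b hab
        replace hab : a⁻¹ * b ∈ K := QuotientGroup.leftRel_apply.1 hab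
        rw [hK, mem_centralizer_singleton_iff] at hab
        refine Subtype.ext (Subtype.ext ?_)
        show a * v * a⁻¹ = b * v * b⁻¹
        calc a * v * a⁻¹ = a * (v * (a⁻¹ * b)) * b⁻¹ := by group
          _ = a * ((a⁻¹ * b) * v) * b⁻¹ := by rw [hab]
          _ = b * v * b⁻¹ := by group)
    have hf : Function.Injective f := by
      intro a b
      obtain ⟨a, rfl⟩ := QuotientGroup.mk_surjective a
      obtain ⟨b, rfl⟩ := QuotientGroup.mk_surjective b
      intro h
      have h' : a * v * a⁻¹ = b * v * b⁻¹ := congrArg (fun w => ((w.1 : ↥U) : ↥(S : Subgroup G))) h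
      rw [QuotientGroup.eq, hK, mem_centralizer_singleton_iff]
      calc a⁻¹ * b * v = a⁻¹ * (b * v * b⁻¹) * b := by group
        _ = a⁻¹ * (a * v * a⁻¹) * b := by rw [h']
        _ = v * (a⁻¹ * b) := by group
    have h3 : Nat.card {w : ↥U // (w : ↥(S : Subgroup G)) ≠ 1} = 3 := by
      haveI := Fintype.ofFinite ↥U
      rw [Nat.card_eq_fintype_card, Fintype.card_subtype_compl,
        ← Nat.card_eq_fintype_card, hU4]
      have e : Fintype.card {w : ↥U // (w : ↥(S : Subgroup G)) = 1} = 1 :=
        Fintype.card_eq_one_iff.2 ⟨⟨1, rfl⟩, fun w => Subtype.ext (Subtype.ext w.2)⟩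
      rw [e]
    have hle : K.index ≤ 3 := h3 ▸ Nat.card_le_card_of_injective f hf
    obtain ⟨k, hk⟩ : ∃ k, K.index = 2 ^ k := by
      obtain ⟨m, hm⟩ := IsPGroup.iff_card.1 S.2
      obtain ⟨i, -, hi⟩ := (Nat.dvd_prime_pow Nat.prime_two).1 (hm ▸ K.index_dvd_card)
      exact ⟨i, hi⟩
    rcases Nat.lt_or_ge k 2 with hk2 | hk2
    · interval_cases k <;> omega
    · have := Nat.pow_le_pow_right (show 0 < 2 by norm_num) hk2
      omega
  · rcases h with h | h
    · obtain ⟨M, hM, hle⟩ := hlift (normalizer (T : Set G)) ⟨T, hT, hT1, rfl⟩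
      have hTM : T ≤ M := le_normalizer.trans hle
      have h1 := (Cfsg.Agent.S0631.result (h M hM).1 (T.subgroupOf M)
        (hT.of_equiv (subgroupOfEquivOfLe hTM).symm)).1
      have heq : normalizer ((T.subgroupOf M : Subgroup ↥M) : Set ↥M) =
          (normalizer (T : Set G)).subgroupOf M := (subgroupOf_normalizer_eq hTM).symm
      exact CfsgLib.InvChar.isPConstrained_congr
        ((MulEquiv.subgroupCongr heq).trans (subgroupOfEquivOfLe hle)) h1
    · exact isPConstrained_normalizer_of_centralizers (fun x hx => (h x hx).1) T hT hT1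

end Cfsg.Agent.S3246
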