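import Cfsg.Statements.S3247
import Cfsg.Agent.Lib.InvChar.ConstrainedLocal

set_option autoImplicit false
open Cfsg

namespace Cfsg.Agent.S3247

/-- Let G be a finite group and p a prime; here a p-local subgroup means the normalizer of a nontrivial p-subgroup, other than G itself. If every p-local subgroup of G that is maximal among p-local subgroups is p-constrained, or if the centralizer of every element of order p of G is p-constrained, then every p-local subgroup of G is p-constrained. -/
theorem result {G : Type*} [Group G] [Finite G] (p : ℕ) [hp : Fact p.Prime]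
    (h : (∀ M : Subgroup G, (∃ T : Subgroup G, IsPGroup p ↥T ∧ T ≠ ⊥ ∧ M = Subgroup.normalizer (T : Set G)) → M ≠ ⊤ →
        (∀ M' : Subgroup G, (∃ T' : Subgroup G, IsPGroup p ↥T' ∧ T' ≠ ⊥ ∧ M' = Subgroup.normalizer (T' : Set G)) → M' ≠ ⊤ → M ≤ M' → M = M') →
        Cfsg.IsPConstrained p ↥M) ∨
      (∀ x : G, orderOf x = p → Cfsg.IsPConstrained p ↥(Subgroup.centralizer ({x} : Set G))))
    (T : Subgroup G) (hT : IsPGroup p ↥T) (hT1 : T ≠ ⊥) (hTG : Subgroup.normalizer (T : Set G) ≠ ⊤) :
    Cfsg.IsPConstrained p ↥(Subgroup.normalizer (T : Set G)) := by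
  classical
  rcases h with hM | hx
  · obtain ⟨M, hMmem, hMmax⟩ := (Set.toFinite {M : Subgroup G | (∃ T' : Subgroup G, IsPGroup p ↥T' ∧ T' ≠ ⊥ ∧
        M = Subgroup.normalizer (T' : Set G)) ∧ M ≠ ⊤ ∧ Subgroup.normalizer (T : Set G) ≤ M}).exists_maximal
        ⟨_, ⟨⟨T, hT, hT1, rfl⟩, hTG, le_rfl⟩⟩
    obtain ⟨hMloc, hMtop, hNM⟩ := hMmem
    have hc : Cfsg.IsPConstrained p ↥M := hM M hMloc hMtop fun M' h1 h2 hle =>
      le_antisymm hle (hMmax ⟨h1, h2, hNM.trans hle⟩ hle)
    have hTM : T ≤ M := Subgroup.le_normalizer.trans hNM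
    have h1 := (Cfsg.Agent.S0631.result hc (T.subgroupOf M) (hT.of_equiv (Subgroup.subgroupOfEquivOfLe hTM).symm)).1
    have heq : Subgroup.normalizer ((T.subgroupOf M : Subgroup ↥M) : Set ↥M) =
        (Subgroup.normalizer (T : Set G)).subgroupOf M := (Subgroup.subgroupOf_normalizer_eq hTM).symm
    exact CfsgLib.InvChar.isPConstrained_congr
      ((MulEquiv.subgroupCongr heq).trans (Subgroup.subgroupOfEquivOfLe hNM)) h1
  · haveI : Nontrivial ↥T := (Subgroup.nontrivial_iff_ne_bot T).2 hT1
    haveI := hT.center_nontrivial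
    obtain ⟨z, hz⟩ := exists_prime_orderOf_dvd_card' (G := ↥(Subgroup.center ↥T)) p
      ((hT.to_subgroup _).card_eq_or_dvd.resolve_left Finite.one_lt_card.ne')
    set x : G := ((z : ↥T) : G) with hxdef
    have hxo : orderOf x = p := by rw [hxdef, Subgroup.orderOf_coe, Subgroup.orderOf_coe, hz]
    have hTC : T ≤ Subgroup.centralizer ({x} : Set G) := fun t ht => by
      rw [Subgroup.mem_centralizer_singleton_iff]
      exact congrArg Subtype.val (Subgroup.mem_center_iff.1 z.2 ⟨t, ht⟩)
    set D := Subgroup.centralizer ({x} : Set G) with hD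
    set N := Subgroup.normalizer (T : Set G) with hN
    have h1 := (Cfsg.Agent.S0631.result (hx x hxo) (T.subgroupOf D)
      (hT.of_equiv (Subgroup.subgroupOfEquivOfLe hTC).symm)).2
    have hCD : Subgroup.centralizer (T : Set G) ≤ D :=
      Subgroup.centralizer_le (Set.singleton_subset_iff.2 (z : ↥T).2)
    have hCN : Subgroup.centralizer (T : Set G) ≤ N := Subgroup.centralizer_le_normalizer _
    have hTN : T ≤ N := Subgroup.le_normalizer
    have e1 : Subgroup.centralizer ((T.subgroupOf D : Subgroup ↥D) : Set ↥D) =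
        (Subgroup.centralizer (T : Set G)).subgroupOf D := by
      ext a
      simp only [Subgroup.mem_centralizer_iff, Subgroup.mem_subgroupOf, SetLike.mem_coe]
      exact ⟨fun h t ht => congrArg Subtype.val (h ⟨t, hTC ht⟩ ht), fun h t ht => Subtype.ext (h _ ht)⟩
    have e2 : Subgroup.centralizer ((T.subgroupOf N : Subgroup ↥N) : Set ↥N) =
        (Subgroup.centralizer (T : Set G)).subgroupOf N := by
      ext a
      simp only [Subgroup.mem_centralizer_iff, Subgroup.mem_subgroupOf, SetLike.mem_coe]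
      exact ⟨fun h t ht => congrArg Subtype.val (h ⟨t, hTN ht⟩ ht), fun h t ht => Subtype.ext (h _ ht)⟩
    haveI : (T.subgroupOf N).Normal := Subgroup.normal_in_normalizer
    refine CfsgLib.InvChar.isPConstrained_of_centralizer (T := T.subgroupOf N)
      (hT.of_equiv (Subgroup.subgroupOfEquivOfLe hTN).symm) ?_
    exact CfsgLib.InvChar.isPConstrained_congr
      (((MulEquiv.subgroupCongr e1).trans (Subgroup.subgroupOfEquivOfLe hCD)).trans
        ((MulEquiv.subgroupCongr e2).trans (Subgroup.subgroupOfEquivOfLe hCN)).symm) h1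

end Cfsg.Agent.S3247
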