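import Cfsg.Statements.S3254
import Cfsg.Agent.Lib.Perm.ThreeP.Main
import Cfsg.Agent.Lib.Perm.ThreeP.Imprimitive
import Cfsg.Agent.S0497

set_option autoImplicit false
open Cfsg

namespace Cfsg.Agent.S3254

/-- Let p > 3 be a prime and G a finite non-abelian simple group acting faithfully and transitively on a set Ω of 3p points, such that the normalizer of a Sylow p-subgroup of G has order 2p. If the action is primitive then p = 5 and G ≅ A₆; if it is imprimitive then p = 2^m + 1 for some m and G ≅ PSL₂(2^m). -/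
theorem result {G : Type*} [Group G] [Finite G] [IsSimpleGroup G] (hG : ¬ IsMulCommutative G)
    (p : ℕ) (hp : p.Prime) (hp3 : 3 < p) {Ω : Type*} [Fintype Ω] [MulAction G Ω] [FaithfulSMul G Ω]
    (htr : MulAction.IsPretransitive G Ω) (hΩ : Fintype.card Ω = 3 * p)
    (P : Sylow p G) (hN : Nat.card ↥(Subgroup.normalizer ((P : Subgroup G) : Set G)) = 2 * p) :
    (MulAction.IsPreprimitive G Ω → p = 5 ∧ Nonempty (G ≃* ↥(alternatingGroup (Fin 6)))) ∧
      (¬ MulAction.IsPreprimitive G Ω → ∃ (F : Type) (_ : Field F) (_ : Fintype F) (m : ℕ), Fintype.card F = 2 ^ m ∧ p = 2 ^ m + 1 ∧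
        Nonempty (G ≃* Matrix.ProjectiveSpecialLinearGroup (Fin 2) F)) := by
  haveI := Fact.mk hp
  haveI := htr
  refine ⟨fun hprim => ?_, fun hnp =>
    CfsgLib.Perm.ThreeP.psl_two_of_not_primitive hG p hp hp3 htr hΩ P hN hnp⟩
  have H := CfsgLib.Perm.ThreeP.hyp_of_normalizer hG hp3
    (show Nat.card Ω = 3 * p by rw [Nat.card_eq_fintype_card, hΩ]) hN
  obtain ⟨h5, hcard⟩ := CfsgLib.Perm.ThreeP.card_eq_of_primitive hprim H
  exact ⟨h5, Cfsg.Agent.S0497.result hcard⟩

end Cfsg.Agent.S3254
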