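import Cfsg.Statements.S3260
import Cfsg.Agent.Lib.PLocal.CoprimeQuad.ZJ

set_option autoImplicit false
open Cfsg

namespace Cfsg.Agent.S3260

/-- Let p ≥ 5 be a prime, G a finite p-constrained group with Sylow p-subgroup S, and A a group of automorphisms of G of order coprime to |G| whose fixed-point subgroup has no section isomorphic to PSL₂(p). Then G = O_{p'}(G) · N_G(Z(J(S))), where J(S) is the subgroup generated by the abelian subgroups of S of largest order. -/
theorem result {G : Type*} [Group G] [Finite G] (p : ℕ) [hp : Fact p.Prime] (hp5 : 5 ≤ p)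
    (hG : Cfsg.IsPConstrained p G) (S : Sylow p G) (A : Subgroup (MulAut G)) (hA : (Nat.card ↥A).Coprime (Nat.card G))
    (C : Subgroup G) (hC : ∀ g : G, g ∈ C ↔ ∀ a ∈ A, a g = g)
    {F : Type*} [Field F] [Fintype F] (hF : Fintype.card F = p)
    (hfix : ¬ Cfsg.Involves (Matrix.ProjectiveSpecialLinearGroup (Fin 2) F) ↥C) :
    Cfsg.pPrimeCore p G ⊔ Subgroup.normalizer (Cfsg.centerThompsonAOf (S : Subgroup G) : Set G) = ⊤ := by
  refine CfsgLib.PLocal.CoprimeQuad.sup_normalizer_eq_top (φ := A.subtype) hp5 hA ?_ hG S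
  intro K hK f hf
  apply hfix
  let r : ZMod p ≃+* F := FiniteField.ringEquivOfCardEq (K := ZMod p) (K' := F) (by rw [ZMod.card, hF])
  let e : Matrix.SpecialLinearGroup (Fin 2) (ZMod p) →* Matrix.SpecialLinearGroup (Fin 2) F :=
    Matrix.SpecialLinearGroup.map r.toRingHom
  have he : Function.Surjective e := fun y => ⟨Matrix.SpecialLinearGroup.map r.symm.toRingHom y, by
    refine Subtype.ext (Matrix.ext fun i j => ?_)
    simp only [e, Matrix.SpecialLinearGroup.map]
    exact r.apply_symm_apply _⟩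
  let q : Matrix.ProjectiveSpecialLinearGroup (Fin 2) (ZMod p) →*
      Matrix.ProjectiveSpecialLinearGroup (Fin 2) F :=
    QuotientGroup.map _ _ e fun x hx => Subgroup.mem_comap.2 (Subgroup.mem_center_iff.2 fun y => by
      obtain ⟨z, rfl⟩ := he y
      rw [← map_mul, ← map_mul, Subgroup.mem_center_iff.1 hx z])
  have hq : Function.Surjective q := fun y => by
    obtain ⟨y, rfl⟩ := QuotientGroup.mk_surjective y
    obtain ⟨x, rfl⟩ := he y
    exact ⟨QuotientGroup.mk x, rfl⟩
  have hKC : K ≤ C := fun k hk => (hC k).2 fun a ha => hK k hk ⟨a, ha⟩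
  obtain ⟨K', L, hL, -, hiso⟩ := CfsgLib.PLocal.sec_quotient_form (H := (⊤ : Subgroup C))
    (K := K.subgroupOf C) le_top
    ((q.comp f).comp (Subgroup.subgroupOfEquivOfLe hKC).toMonoidHom)
    ((hq.comp hf).comp (Subgroup.subgroupOfEquivOfLe hKC).surjective)
  exact ⟨K', L, hL, hiso⟩

end Cfsg.Agent.S3260
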