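import Cfsg.Statements.S3262
import Cfsg.Agent.Lib.Perm.TwoPointFive.Even
import Cfsg.Agent.Lib.Perm.TwoPointFive.OddFull
import Cfsg.Agent.Lib.Perm.TwoPointFive.OddHalf
import Cfsg.Agent.Lib.Perm.TwoPointFive.OddFifteen
import Cfsg.Agent.Lib.Perm.TwoPointFive.Final

set_option autoImplicit false
open Cfsg

namespace Cfsg.Agent.S3262

/-- Let G be a finite doubly transitive permutation group on a set Ω with no regular normal subgroup, in which the stabilizer of two points is isomorphic to the alternating group A₅. Then either Ω has 7 points and G ≅ A₇, or Ω has 12 points and G is isomorphic to the Mathieu group M₁₁. -/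
theorem result {G : Type*} [Group G] [Finite G] {Ω : Type*} [Fintype Ω] [MulAction G Ω] [FaithfulSMul G Ω]
    (h2 : MulAction.IsMultiplyPretransitive G Ω 2) (a b : Ω) (hab : a ≠ b)
    (hnr : ∀ N : Subgroup G, N.Normal → MulAction.IsPretransitive ↥N Ω → (∀ x : Ω, MulAction.stabilizer ↥N x = ⊥) → False)
    (e : ↥(MulAction.stabilizer G a ⊓ MulAction.stabilizer G b) ≃* ↥(alternatingGroup (Fin 5))) :
    (Fintype.card Ω = 7 ∧ Nonempty (G ≃* ↥(alternatingGroup (Fin 7)))) ∨ (Fintype.card Ω = 12 ∧ Cfsg.Spor.IsoM11 G) := by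
  have H : CfsgLib.Perm.TwoPointFive.Hyp G Ω := by
    refine ⟨inferInstance, h2, fun c d hcd => ?_, hnr⟩
    obtain ⟨g, hgc, hgd⟩ := CfsgLib.Perm.exists_smul_pair h2 hab hcd
    refine ⟨(MulEquiv.trans ?_ e)⟩
    subst hgc; subst hgd
    refine ((MulAut.conj g⁻¹).subgroupMap _).trans (MulEquiv.subgroupCongr ?_)
    ext x
    show x ∈ Subgroup.map (MulAut.conj g⁻¹).toMonoidHom _ ↔ _
    rw [Subgroup.mem_map_equiv]
    simp only [MulAut.conj_symm_apply, Subgroup.mem_inf, MulAction.mem_stabilizer_iff, inv_inv,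
      mul_smul, inv_smul_smul, smul_left_cancel_iff]
  obtain ⟨B, -, -⟩ := H.exists_base hab
  rcases Nat.even_or_odd (Fintype.card Ω) with hn | hn
  · have h12 := H.even_case B hn
    exact Or.inr ⟨h12, H.twelve h12⟩
  · have he := H.e_ne_fifteen B hn
    rcases lt_or_eq_of_le B.k_le_m with hk | hk
    · exact (H.odd_half B hn hk he).elim
    · have h7 := H.odd_full B hn hk he
      exact Or.inl ⟨h7, H.seven h7⟩

end Cfsg.Agent.S3262
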