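import Cfsg.Statements.S3264
import Cfsg.Agent.Lib.OddGraph.Basic

set_option autoImplicit false
open Cfsg

namespace Cfsg.Agent.S3264

/-- Let G be a non-abelian finite simple group and X a conjugacy class of involutions of G. Form the graph on X in which two distinct involutions are joined when their product has odd order. Then this graph is connected. (By the Baer–Suzuki Theorem the graph has at least one edge; connectedness is the stronger statement.) -/
theorem result {G : Type*} [Group G] [Finite G] [IsSimpleGroup G]
    (hG : ¬ IsMulCommutative G) (t : G) (ht : orderOf t = 2) :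
    (SimpleGraph.fromRel fun x y : {x : G // IsConj t x} => Odd (orderOf (x.1 * y.1))).Connected := by
  have key : ∀ a b : G, CfsgLib.OddGraph.Link t a b → (IsConj t a ↔ IsConj t b) ∧
      ∀ (ha : IsConj t a) (hb : IsConj t b),
        (SimpleGraph.fromRel fun x y : {x : G // IsConj t x} => Odd (orderOf (x.1 * y.1))).Reachable
          ⟨a, ha⟩ ⟨b, hb⟩ := by
    intro a b h
    induction h with
    | rel p q hpq =>
      refine ⟨iff_of_true hpq.1 hpq.2.1, fun ha hb => ?_⟩
      by_cases he : p = q
      · subst he
        exact SimpleGraph.Reachable.refl _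
      · refine SimpleGraph.Adj.reachable ((SimpleGraph.fromRel_adj _ _ _).mpr ⟨?_, Or.inl hpq.2.2⟩)
        exact fun h => he (congrArg Subtype.val h)
    | refl p => exact ⟨Iff.rfl, fun _ _ => SimpleGraph.Reachable.refl _⟩
    | symm p q _ ih => exact ⟨ih.1.symm, fun ha hb => (ih.2 hb ha).symm⟩
    | trans p q r _ _ ih1 ih2 =>
      exact ⟨ih1.1.trans ih2.1, fun ha hc => (ih1.2 ha (ih1.1.mp ha)).trans (ih2.2 (ih1.1.mp ha) hc)⟩
  have h0 : ∀ a : {x : G // IsConj t x},
      (SimpleGraph.fromRel fun x y : {x : G // IsConj t x} => Odd (orderOf (x.1 * y.1))).Reachable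
        ⟨t, IsConj.refl t⟩ a :=
    fun a => (key t a.1 (CfsgLib.OddGraph.link_of_simple t ht a.2)).2 (IsConj.refl t) a.2
  exact (SimpleGraph.connected_iff_exists_forall_reachable _).mpr ⟨_, h0⟩

end Cfsg.Agent.S3264
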