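import Cfsg.Statements.S3265
import Cfsg.Agent.Lib.Perm.InvolutionOddGraph

set_option autoImplicit false
open Cfsg

namespace Cfsg.Agent.S3265

/-- Let n ≥ 5 and let X be a conjugacy class of involutions of the symmetric group of degree n. The graph on X joining two distinct involutions whose product has odd order is connected and has diameter exactly 2. -/
theorem result (n : ℕ) (hn : 5 ≤ n) (t : Equiv.Perm (Fin n)) (ht : orderOf t = 2) :
    (SimpleGraph.fromRel fun x y : {x : Equiv.Perm (Fin n) // IsConj t x} =>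
        Odd (orderOf (x.1 * y.1))).Connected ∧
      (SimpleGraph.fromRel fun x y : {x : Equiv.Perm (Fin n) // IsConj t x} =>
        Odd (orderOf (x.1 * y.1))).diam = 2 := by
  classical
  set G := SimpleGraph.fromRel fun x y : {x : Equiv.Perm (Fin n) // IsConj t x} =>
    Odd (orderOf (x.1 * y.1)) with hG
  have h2 : t * t = 1 := by
    have := pow_orderOf_eq_one t
    rwa [ht, pow_two] at this
  have h1 : t ≠ 1 := fun h => by rw [h, orderOf_one] at ht; exact absurd ht (by norm_num)
  have hinv : ∀ x : {x : Equiv.Perm (Fin n) // IsConj t x}, x.1 * x.1 = 1 := fun x => by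
    obtain ⟨c, hc⟩ := isConj_iff.mp x.2
    rw [← hc, conj_mul, h2, mul_one, mul_inv_cancel]
  have hn' : 5 ≤ Fintype.card (Fin n) := by rw [Fintype.card_fin]; exact hn
  have hadj : ∀ x y, x ≠ y → Odd (orderOf (x.1 * y.1)) → G.Adj x y := fun x y hne ho =>
    (SimpleGraph.fromRel_adj _ _ _).mpr ⟨hne, Or.inl ho⟩
  have hd : ∀ x y, G.edist x y ≤ 2 := by
    intro x y
    obtain ⟨z, hz, o1, o2⟩ := CfsgLib.Perm.OddGraph.exists_common (hinv x) (hinv y)
      (x.2.symm.trans y.2) hn'
    let z' : {x : Equiv.Perm (Fin n) // IsConj t x} := ⟨z, x.2.trans hz⟩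
    have e : ∀ u : {x : Equiv.Perm (Fin n) // IsConj t x}, Odd (orderOf (u.1 * z)) →
        G.edist u z' ≤ 1 := fun u hu => by
      by_cases h : u = z'
      · rw [h]; simp
      · exact (SimpleGraph.edist_eq_one_iff_adj.mpr (hadj u z' h hu)).le
    calc G.edist x y ≤ G.edist x z' + G.edist z' y := SimpleGraph.edist_triangle
      _ ≤ 1 + 1 := add_le_add (e x o1) (by rw [SimpleGraph.edist_comm]; exact e y o2)
      _ = 2 := by norm_num
  obtain ⟨t', ht', hne, hcomm⟩ := CfsgLib.Perm.OddGraph.exists_commuting h2 h1 hn'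
  let x₀ : {x : Equiv.Perm (Fin n) // IsConj t x} := ⟨t, IsConj.refl t⟩
  let y₀ : {x : Equiv.Perm (Fin n) // IsConj t x} := ⟨t', ht'⟩
  have hxy : x₀ ≠ y₀ := fun h => hne (congrArg Subtype.val h).symm
  have : Nontrivial {x : Equiv.Perm (Fin n) // IsConj t x} := ⟨⟨x₀, y₀, hxy⟩⟩
  have hed : G.ediam ≤ 2 := SimpleGraph.ediam_le_of_edist_le hd
  have htop : G.ediam ≠ ⊤ := ne_top_of_le_ne_top (by simp) hed
  refine ⟨G.connected_of_ediam_ne_top htop, le_antisymm ?_ ?_⟩
  · exact ENat.toNat_le_toNat hed (by simp)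
  · have hnadj : ¬ G.Adj x₀ y₀ := fun h => by
      rw [hG, SimpleGraph.fromRel_adj] at h
      have hsq : ∀ u v : Equiv.Perm (Fin n), u * u = 1 → v * v = 1 → Commute u v → u ≠ v →
          ¬ Odd (orderOf (u * v)) := fun u v hu hv huv huv' ho => by
        have h4 : (u * v) ^ 2 = 1 := by
          rw [huv.mul_pow, pow_two, pow_two, hu, hv, one_mul]
        rcases (Nat.dvd_prime Nat.prime_two).mp (orderOf_dvd_of_pow_eq_one h4) with e | e
        · refine huv' ?_
          have h5 := orderOf_eq_one_iff.mp e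
          rw [mul_eq_one_iff_eq_inv.mp h5, inv_eq_of_mul_eq_one_left hv]
        · rw [e] at ho; exact absurd ho (by decide)
      rcases h.2 with ho | ho
      · exact hsq t t' h2 (hinv y₀) hcomm (fun e => hne e.symm) ho
      · exact hsq t' t (hinv y₀) h2 hcomm.symm hne ho
    have hc := G.connected_of_ediam_ne_top htop
    refine le_trans ?_ (SimpleGraph.dist_le_diam htop (u := x₀) (v := y₀))
    have h0 := hc.pos_dist_of_ne hxy
    have h1 : G.dist x₀ y₀ ≠ 1 := fun e => hnadj (SimpleGraph.dist_eq_one_iff_adj.mp e)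
    omega

end Cfsg.Agent.S3265
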