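import Cfsg.Statements.S3266
import Cfsg.Agent.Lib.Geom.InvolGraph
-- import your own Cfsg.Agent.* helpers here

set_option autoImplicit false
open Cfsg CfsgLib.Geom

namespace Cfsg.Agent.S3266

/-- Let F be a finite field with at least 4 elements and let X be a conjugacy class of involutions of PSL(2, F). The graph on X joining two distinct involutions whose product has odd order is connected and has diameter exactly 2. -/
theorem result {F : Type*} [Field F] [Fintype F] (hF : 4 ≤ Fintype.card F)
    (t : Matrix.ProjectiveSpecialLinearGroup (Fin 2) F) (ht : orderOf t = 2) :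
    (SimpleGraph.fromRel fun x y : {x : Matrix.ProjectiveSpecialLinearGroup (Fin 2) F // IsConj t x} =>
        Odd (orderOf (x.1 * y.1))).Connected ∧
      (SimpleGraph.fromRel fun x y : {x : Matrix.ProjectiveSpecialLinearGroup (Fin 2) F // IsConj t x} =>
        Odd (orderOf (x.1 * y.1))).diam = 2 := by
  set Gr := SimpleGraph.fromRel fun x y : {x : Matrix.ProjectiveSpecialLinearGroup (Fin 2) F // IsConj t x} =>
      Odd (orderOf (x.1 * y.1)) with hGr
  have hcomm : ∀ a b : Matrix.ProjectiveSpecialLinearGroup (Fin 2) F, orderOf (a * b) = orderOf (b * a) :=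
    fun a b => by
      rw [show b * a = a⁻¹ * (a * b) * a⁻¹⁻¹ by group]
      exact (orderOf_injective (MulAut.conj a⁻¹).toMonoidHom (MulAut.conj _).injective _).symm
  have hord : ∀ u : {x : Matrix.ProjectiveSpecialLinearGroup (Fin 2) F // IsConj t x}, orderOf u.1 = 2 := fun u => by
    obtain ⟨g, hg⟩ := isConj_iff.1 u.2
    rw [← hg]
    refine Eq.trans ?_ ht
    exact orderOf_injective (MulAut.conj g).toMonoidHom (MulAut.conj g).injective t
  have hadj : ∀ u v, Gr.Adj u v ↔ u ≠ v ∧ Odd (orderOf (u.1 * v.1)) := fun u v => by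
    simp only [hGr, SimpleGraph.fromRel_adj, hcomm v.1 u.1, or_self]
  have hle : ∀ u v, Gr.edist u v ≤ 2 := by
    intro u v
    by_cases huv : u = v
    · simp [huv]
    obtain ⟨z, hz, h1, h2⟩ := Moebius.exists_common hF (hord u) (hord v)
    let w : {x : Matrix.ProjectiveSpecialLinearGroup (Fin 2) F // IsConj t x} :=
      ⟨z, Moebius.isConj_involutions ht hz⟩
    by_cases huw : u = w
    · have : Gr.Adj u v := (hadj u v).2 ⟨huv, by rw [huw]; exact h2⟩
      exact (SimpleGraph.edist_le this.toWalk).trans (by simp)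
    by_cases hwv : w = v
    · have : Gr.Adj u v := (hadj u v).2 ⟨huv, by rw [← hwv]; exact h1⟩
      exact (SimpleGraph.edist_le this.toWalk).trans (by simp)
    exact (SimpleGraph.edist_le (SimpleGraph.Walk.cons ((hadj u w).2 ⟨huw, h1⟩)
      ((hadj w v).2 ⟨hwv, h2⟩).toWalk)).trans (by simp)
  have hne : Nonempty {x : Matrix.ProjectiveSpecialLinearGroup (Fin 2) F // IsConj t x} := ⟨⟨t, IsConj.refl t⟩⟩
  refine ⟨⟨fun u v => SimpleGraph.reachable_of_edist_ne_top
    (ne_top_of_le_ne_top (by simp) (hle u v))⟩, ?_⟩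
  obtain ⟨x, y, hx, hy, hxy, hxy2⟩ := Moebius.exists_commuting (F := F) hF
  let X : {x : Matrix.ProjectiveSpecialLinearGroup (Fin 2) F // IsConj t x} := ⟨x, Moebius.isConj_involutions ht hx⟩
  let Y : {x : Matrix.ProjectiveSpecialLinearGroup (Fin 2) F // IsConj t x} := ⟨y, Moebius.isConj_involutions ht hy⟩
  have h2 : Gr.edist X Y = 2 := by
    refine le_antisymm (hle X Y) ?_
    by_contra hlt
    push Not at hlt
    rcases h : Gr.edist X Y with _ | k
    · rw [h] at hlt; exact not_top_lt hlt
    rw [h] at hlt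
    have hk : k < 2 := ENat.coe_lt_coe.1 hlt
    interval_cases k
    · exact hxy (congrArg Subtype.val (SimpleGraph.edist_eq_zero_iff.1 h))
    · have := ((hadj X Y).1 (SimpleGraph.edist_eq_one_iff_adj.1 h)).2
      change Odd (orderOf (x * y)) at this
      rw [hxy2] at this
      exact absurd this (by decide)
  have hed : Gr.ediam = 2 := le_antisymm (SimpleGraph.ediam_le_of_edist_le hle) (h2 ▸ SimpleGraph.edist_le_ediam)
  rw [SimpleGraph.diam, hed]
  rfl
end Cfsg.Agent.S3266
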