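import Cfsg.Statements.S3276
import Mathlib.Tactic

set_option autoImplicit false
open Cfsg

namespace Cfsg.Agent.S3276

/-- Let x and y be commuting, non-conjugate involutions of a finite group G, and suppose that for every involution u commuting with x, each conjugate of y that commutes with u also commutes with y. Then the normal closure of y is a proper, normal, elementary abelian 2-subgroup of G; and if y is the only involution of that normal closure commuting with x, it has order at most 4. -/
theorem result {G : Type*} [Group G] [Finite G] (x y : G) (hx : orderOf x = 2) (hy : orderOf y = 2)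
    (hxy : Commute x y) (hnc : ¬ IsConj x y)
    (hstar : ∀ u : G, orderOf u = 2 → Commute u x → ∀ g : G, Commute (g * y * g⁻¹) u → Commute (g * y * g⁻¹) y) :
    Subgroup.normalClosure ({y} : Set G) ≠ ⊤ ∧ Cfsg.IsElementaryAbelian 2 (Subgroup.normalClosure ({y} : Set G)) ∧
      ((∀ u ∈ Subgroup.normalClosure ({y} : Set G), orderOf u = 2 → Commute u x → u = y) →
        Nat.card ↥(Subgroup.normalClosure ({y} : Set G)) ≤ 4) := by
  have hx2 : x * x = 1 := by rw [← pow_two, ← hx, pow_orderOf_eq_one]
  have hxi : x⁻¹ = x := inv_eq_of_mul_eq_one_right hx2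
  have hy2 : y * y = 1 := by rw [← pow_two, ← hy, pow_orderOf_eq_one]
  -- every conjugate of `y` commutes with `y`
  have hall : ∀ g : G, Commute (g * y * g⁻¹) y := by
    intro g
    set v := g * y * g⁻¹ with hv
    have hvo : orderOf v = 2 := by rw [hv, ← hy]; exact (MulAut.conj g).orderOf_eq y
    have hv2 : v * v = 1 := by rw [← pow_two, ← hvo, pow_orderOf_eq_one]
    have hvi : v⁻¹ = v := inv_eq_of_mul_eq_one_right hv2
    have hflip : ∀ k : ℕ, x * (x * v) ^ k * x = ((x * v) ^ k)⁻¹ := by
      intro k
      induction k with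
      | zero => simp [hx2]
      | succ k ih =>
        rw [pow_succ', mul_inv_rev, ← ih, mul_inv_rev, hxi, hvi]
        have e : x * (x * v) = v := by rw [← mul_assoc, hx2, one_mul]
        rw [← mul_assoc x (x * v), e]
        calc v * (x * v) ^ k * x = v * (x * v) ^ k * x := rfl
          _ = x * (x * v) * (x * v) ^ k * x := by rw [e]
          _ = x * ((x * v) ^ k * (x * v)) * x := by rw [mul_assoc x, ← pow_succ', pow_succ]
          _ = x * (x * v) ^ k * x * (v * x) := by simp only [mul_assoc]
    rcases Nat.even_or_odd (orderOf (x * v)) with ⟨k, hk⟩ | ⟨k, hk⟩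
    · set u := (x * v) ^ k with hu
      have hpos : 0 < orderOf (x * v) := orderOf_pos _
      have hu1 : u ≠ 1 := pow_ne_one_of_lt_orderOf (by omega) (by omega)
      have hu2 : u * u = 1 := by rw [hu, ← pow_add, ← hk, pow_orderOf_eq_one]
      have huo : orderOf u = 2 := orderOf_eq_prime (by rw [pow_two, hu2]) hu1
      have hux : Commute u x := by
        have h := hflip k
        rw [← hu, inv_eq_of_mul_eq_one_right hu2] at h
        have h' : x * u * x * x = u * x := by rw [h]
        rw [mul_assoc (x * u), hx2, mul_one] at h'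
        exact h'.symm
      have huv : Commute u v := by
        have h1 : Commute u (x * v) := (Commute.refl _).pow_left k
        have h2 := hux.mul_right h1
        rwa [← mul_assoc, hx2, one_mul] at h2
      exact hstar u huo hux g huv.symm
    · exfalso
      apply hnc
      set c := (x * v) ^ k with hc
      have hconj : IsConj x (x * v * x) := by
        refine isConj_iff.2 ⟨c⁻¹, ?_⟩
        rw [inv_inv]
        have h1 : c⁻¹ * x = x * c := by
          rw [← hflip k, mul_assoc _ x x, hx2, mul_one]
        have h3 : c * c * (x * v) = 1 := by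
          rw [hc, ← pow_add, ← pow_succ, show k + k + 1 = orderOf (x * v) by omega, pow_orderOf_eq_one]
        have h4 : c * c = (x * v)⁻¹ := eq_inv_of_mul_eq_one_left h3
        rw [h1, mul_assoc, h4, mul_inv_rev, hxi, hvi, ← mul_assoc]
      refine hconj.trans ?_
      refine IsConj.trans (isConj_iff.2 ⟨x, ?_⟩) (isConj_iff.2 ⟨g, rfl⟩).symm
      rw [hxi]
      calc x * (x * v * x) * x = (x * x) * v * (x * x) := by simp only [mul_assoc]
        _ = v := by rw [hx2, one_mul, mul_one]
  have hcomm : ∀ a ∈ Group.conjugatesOfSet ({y} : Set G), ∀ b ∈ Group.conjugatesOfSet ({y} : Set G), a * b = b * a := by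
    intro a ha b hb
    simp only [Group.mem_conjugatesOfSet_iff, Set.mem_singleton_iff, exists_eq_left, isConj_iff] at ha hb
    obtain ⟨g, rfl⟩ := ha
    obtain ⟨h, rfl⟩ := hb
    have e := (hall (h⁻¹ * g)).map (MulAut.conj h).toMonoidHom
    simp only [MulEquiv.coe_toMonoidHom, MulAut.conj_apply] at e
    have e' : h * (h⁻¹ * g * y * (h⁻¹ * g)⁻¹) * h⁻¹ = g * y * g⁻¹ := by group
    rw [e'] at e
    exact e
  set V := Subgroup.normalClosure ({y} : Set G) with hV
  haveI hVc : IsMulCommutative V := ⟨⟨fun a b => Subtype.ext (by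
    have := Subgroup.isMulCommutative_closure (k := Group.conjugatesOfSet ({y} : Set G)) hcomm
    exact congrArg Subtype.val (this.is_comm.comm (⟨a.1, a.2⟩ : Subgroup.closure _) ⟨b.1, b.2⟩))⟩⟩
  have hc : ∀ a ∈ V, ∀ b ∈ V, a * b = b * a := fun a ha b hb =>
    congrArg Subtype.val (hVc.is_comm.comm ⟨a, ha⟩ ⟨b, hb⟩)
  have hexp : ∀ a ∈ V, a ^ 2 = 1 := by
    intro a ha
    refine Subgroup.closure_induction (p := fun a _ => a ^ 2 = 1) ?_ (one_pow 2) ?_ ?_ ha
    · intro a ha
      simp only [Group.mem_conjugatesOfSet_iff, Set.mem_singleton_iff, exists_eq_left, isConj_iff] at ha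
      obtain ⟨g, rfl⟩ := ha
      rw [conj_pow, pow_two, hy2, mul_one, mul_inv_cancel]
    · intro a b ha hb h1 h2
      rw [(show Commute a b from hc a ha b hb).mul_pow, h1, h2, one_mul]
    · intro a _ h
      rw [inv_pow, h, inv_one]
  have hyV : y ∈ V := Subgroup.subset_normalClosure rfl
  refine ⟨?_, ⟨hVc, hexp⟩, ?_⟩
  · intro htop
    apply hnc
    have hyc : Subgroup.zpowers y = V := by
      haveI : (Subgroup.zpowers y).Normal := ⟨fun a ha g => by
        rwa [hc g (htop ▸ Subgroup.mem_top g) a (htop ▸ Subgroup.mem_top a), mul_inv_cancel_right]⟩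
      exact le_antisymm (Subgroup.zpowers_le.2 hyV)
        (Subgroup.normalClosure_le_normal (Set.singleton_subset_iff.2 (Subgroup.mem_zpowers y)))
    have hxy' : x ∈ Subgroup.zpowers y := by rw [hyc, htop]; trivial
    obtain ⟨i, hi⟩ := Subgroup.mem_zpowers_iff.1 hxy'
    have hx1 : x ≠ 1 := fun h => by simp [h] at hx
    rcases Int.even_or_odd' i with ⟨j, rfl | rfl⟩
    · rw [zpow_mul, zpow_two, hy2, one_zpow] at hi
      exact absurd hi.symm hx1
    · rw [zpow_add, zpow_mul, zpow_two, hy2, one_zpow, one_mul, zpow_one] at hi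
      exact hi ▸ IsConj.refl _
  · intro honly
    have hVn : ∀ a ∈ V, x * a * x ∈ V := fun a ha => by
      have := Subgroup.normalClosure_normal.conj_mem a ha x
      rwa [hxi] at this
    let f : V →* V :=
      { toFun := fun a => ⟨a.1 * (x * a.1 * x), mul_mem a.2 (hVn a a.2)⟩
        map_one' := by ext; simp [hx2]
        map_mul' := fun a b => by
          ext
          have h1 := hc b b.2 (x * a.1 * x) (hVn a a.2)
          have e : x * (a.1 * b.1) * x = (x * a.1 * x) * (x * b.1 * x) := by
            calc x * (a.1 * b.1) * x = x * a.1 * (x * x) * b.1 * x := by rw [hx2]; group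
              _ = _ := by group
          simp only [Subgroup.coe_mul]
          rw [e, mul_assoc a.1 b.1, ← mul_assoc b.1, h1]
          simp only [mul_assoc] }
    have hfix : ∀ a : V, Commute (a : G) x → a = 1 ∨ a = ⟨y, hyV⟩ := by
      intro a ha
      by_cases h1 : a = 1
      · exact Or.inl h1
      · exact Or.inr (Subtype.ext (honly a a.2 (orderOf_eq_prime (hexp a a.2) (fun h => h1 (Subtype.ext h))) ha))
    have hsmall : ∀ K : Subgroup V, (∀ a ∈ K, Commute (a : G) x) → Nat.card K ≤ 2 := by
      intro K hK
      have h2 : Nat.card ↥({1, ⟨y, hyV⟩} : Set V) ≤ 2 := by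
        rw [Nat.card_coe_set_eq]
        exact (Set.ncard_insert_le _ _).trans (by rw [Set.ncard_singleton])
      refine le_trans (Nat.card_le_card_of_injective
        (fun a : K => (⟨a.1, by simpa using hfix a.1 (hK a a.2)⟩ : ({1, ⟨y, hyV⟩} : Set V))) ?_) h2
      intro a b h
      exact Subtype.ext (by simpa using congrArg Subtype.val h)
    have hker : Nat.card f.ker ≤ 2 := by
      refine hsmall _ fun a ha => ?_
      have h : a.1 * (x * a.1 * x) = 1 := congrArg Subtype.val (MonoidHom.mem_ker.1 ha)
      have hai : (a.1)⁻¹ = a.1 := inv_eq_of_mul_eq_one_right (by rw [← pow_two]; exact hexp _ a.2)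
      have h2 : x * a.1 * x = a.1 := by rw [← inv_eq_of_mul_eq_one_right h, hai]
      calc a.1 * x = x * a.1 * x * x := by rw [h2]
        _ = x * a.1 := by rw [mul_assoc _ x x, hx2, mul_one]
    have hran : Nat.card f.range ≤ 2 := by
      refine hsmall _ ?_
      rintro _ ⟨a, rfl⟩
      show a.1 * (x * a.1 * x) * x = x * (a.1 * (x * a.1 * x))
      calc a.1 * (x * a.1 * x) * x = a.1 * x * a.1 * (x * x) := by group
        _ = (x * x) * a.1 * x * a.1 := by rw [hx2]; group
        _ = x * ((x * a.1 * x) * a.1) := by group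
        _ = x * (a.1 * (x * a.1 * x)) := by rw [hc _ (hVn _ a.2) _ a.2]
    calc Nat.card V = f.ker.index * Nat.card f.ker := (Subgroup.index_mul_card _).symm
      _ ≤ 2 * 2 := Nat.mul_le_mul (by rw [Subgroup.index_ker]; exact hran) hker
      _ = 4 := rfl

end Cfsg.Agent.S3276
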