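import Cfsg.Statements.S3279
import Cfsg.Agent.Lib.InvChar.SimpleInvol
import Cfsg.Agent.Lib.InvChar.Basic

set_option autoImplicit false
open Cfsg

namespace Cfsg.Agent.S3279

open CfsgLib.Invol
open scoped Pointwise

universe u

variable {G : Type u} [Group G] [Finite G] [IsSimpleGroup G]

theorem exists_sylow (hG : ¬ IsMulCommutative G) (x : G) (hx : orderOf x = 2)
    (h3 : Nat.card {u : G // Commute u x ∧ orderOf u = 2} ≤ 3) :
    ∃ S : Sylow 2 G, (S : Subgroup G) ≤ Subgroup.centralizer ({x} : Set G) := by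
  classical
  by_contra hno
  obtain ⟨S, hS⟩ := (isPGroup_zpowers_of_invol hx).exists_le_sylow
  have hxS : x ∈ (S : Subgroup G) := hS (Subgroup.mem_zpowers x)
  have hne : (⊤ : Subgroup (S : Subgroup G)) ≠ ⊥ := fun h =>
    invol_ne_one hx (by
      have : (⟨x, hxS⟩ : (S : Subgroup G)) ∈ (⊥ : Subgroup (S : Subgroup G)) :=
        h ▸ Subgroup.mem_top _
      simpa using congrArg Subtype.val (Subgroup.mem_bot.1 this))
  obtain ⟨w, -, hw1, hwc⟩ := CfsgLib.InvChar.exists_mem_center_of_normal S.2 ⊤ hne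
  obtain ⟨k, hk⟩ := S.2 w
  -- a central involution of `S`
  obtain ⟨z, hzo, hzc⟩ : ∃ z : G, orderOf z = 2 ∧ ∀ s ∈ (S : Subgroup G), Commute s z := by
    obtain ⟨j, hj⟩ := (Nat.dvd_prime_pow Nat.prime_two).1 (orderOf_dvd_of_pow_eq_one hk)
    have hj0 : 0 < j := by
      rcases j with _ | j
      · exact absurd (orderOf_eq_one_iff.1 (by simpa using hj.2)) hw1
      · exact j.succ_pos
    have ho : orderOf (w : G) = 2 ^ j := by
      rw [Subgroup.orderOf_coe]; exact hj.2
    refine ⟨(w : G) ^ 2 ^ (j - 1), ?_, fun s hs => ?_⟩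
    · rw [orderOf_pow' _ (by positivity), ho, Nat.gcd_eq_right (pow_dvd_pow 2 (by omega)),
        Nat.pow_div (by omega) (by norm_num), show j - (j - 1) = 1 by omega, pow_one]
    · exact Commute.pow_right
        (congrArg Subtype.val (Subgroup.mem_center_iff.1 hwc ⟨s, hs⟩)) _
  -- `x` is not conjugate to `z`
  have hxz : ¬ IsConj x z := by
    intro hc
    obtain ⟨g, hg⟩ := isConj_iff.1 hc
    refine hno ⟨g⁻¹ • S, fun s hs => ?_⟩
    have hs' : s ∈ MulAut.conj g⁻¹ • (S : Subgroup G) := hs
    rw [Subgroup.mem_pointwise_smul_iff_inv_smul_mem, ← map_inv, inv_inv, MulAut.smul_def,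
      MulAut.conj_apply] at hs'
    rw [Subgroup.mem_centralizer_singleton_iff]
    have h2 : Commute (g * s * g⁻¹) (g * x * g⁻¹) := hg.symm ▸ hzc _ hs'
    have h3 := h2.map (MulAut.conj g⁻¹).toMonoidHom
    simp only [MulEquiv.coe_toMonoidHom, MulAut.conj_apply] at h3
    simpa [mul_assoc] using h3.eq
  have hzx : Commute z x := (hzc x hxS).symm
  have hne2 : x ≠ z := fun h => hxz (h ▸ IsConj.refl x)
  have hxzo : orderOf (x * z) = 2 := by
    refine invol_of_mul_self ?_ fun h => hne2 ?_
    · rw [mul_assoc, ← mul_assoc z, hzx.eq, mul_assoc x z, invol_mul_self hzo, mul_one,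
        invol_mul_self hx]
    · rw [eq_inv_of_mul_eq_one_left h, invol_inv hzo]
  -- the involutions commuting with `x`
  have hall : ∀ v : G, Commute v x → orderOf v = 2 → v = x ∨ v = z ∨ v = x * z := by
    intro v hv hvo
    by_contra hcon
    simp only [not_or] at hcon
    let f : Fin 4 → {u : G // Commute u x ∧ orderOf u = 2} :=
      ![⟨x, Commute.refl x, hx⟩, ⟨z, hzx, hzo⟩, ⟨x * z, (Commute.refl x).mul_left hzx, hxzo⟩,
        ⟨v, hv, hvo⟩]
    have hf : Function.Injective f := by
      intro i j hij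
      have hij' := congrArg Subtype.val hij
      fin_cases i <;> fin_cases j <;>
        simp_all [f, eq_comm, invol_ne_one hx, invol_ne_one hzo]
    have := Nat.card_le_card_of_injective f hf
    simp at this
    omega
  -- `x * z` is conjugate to `x` in `S`
  obtain ⟨s, hsS, hs⟩ : ∃ s : G, s ∈ (S : Subgroup G) ∧ s * x * s⁻¹ = x * z := by
    set T : Subgroup (S : Subgroup G) := Subgroup.centralizer {⟨x, hxS⟩} with hT
    have hlt : T < ⊤ := lt_top_iff_ne_top.2 fun h => hno ⟨S, fun s hs => by
      rw [Subgroup.mem_centralizer_singleton_iff]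
      have : (⟨s, hs⟩ : (S : Subgroup G)) ∈ T := h ▸ Subgroup.mem_top _
      rw [hT, Subgroup.mem_centralizer_singleton_iff] at this
      exact congrArg Subtype.val this⟩
    haveI := S.2.isNilpotent
    obtain ⟨n, hn, hnT⟩ := SetLike.exists_of_lt (Group.normalizerCondition_of_isNilpotent T hlt)
    have hxT : (⟨x, hxS⟩ : (S : Subgroup G)) ∈ T := by
      rw [hT, Subgroup.mem_centralizer_singleton_iff]
    have h1 := (Subgroup.mem_normalizer_iff.1 hn ⟨x, hxS⟩).1 hxT
    rw [hT, Subgroup.mem_centralizer_singleton_iff] at h1 hnT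
    have hc : Commute ((n : G) * x * (n : G)⁻¹) x := congrArg Subtype.val h1
    rcases hall _ hc (by rw [orderOf_conj_eq, hx]) with h | h | h
    · refine absurd (Subtype.ext ?_) hnT
      simpa using mul_inv_eq_iff_eq_mul.1 h
    · exact absurd (isConj_iff.2 ⟨_, h⟩) hxz
    · exact ⟨_, n.2, h⟩
  -- some conjugate `v` of `z` does not commute with `z`
  obtain ⟨g, hg⟩ := CfsgLib.InvChar.exists_conj_not_commute hG (invol_ne_one hzo)
  set v := g * z * g⁻¹ with hv
  have hzv : IsConj z v := isConj_iff.2 ⟨g, rfl⟩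
  have hvo : orderOf v = 2 := by rw [hv, orderOf_conj_eq, hzo]
  obtain ⟨w, hwo, hwx, hwv⟩ := exists_commute_both hx hvo
    (even_of_not_isConj hx hvo fun h => hxz (h.trans hzv.symm))
  rcases hall w hwx hwo with rfl | rfl | rfl
  · rcases hall v hwv.symm hvo with h | h | h
    · exact hxz (h ▸ hzv.symm)
    · exact hg (h ▸ Commute.refl z)
    · exact hg (h ▸ hzx.mul_right (Commute.refl z))
  · exact hg hwv
  · rw [← hs] at hwv
    have h' := hwv.symm.map (MulAut.conj s⁻¹).toMonoidHom
    simp only [MulEquiv.coe_toMonoidHom, MulAut.conj_apply] at h'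
    have h'' : Commute (s⁻¹ * v * s) x := by simpa [mul_assoc] using h'
    have hsz : s * z * s⁻¹ = z := mul_inv_eq_iff_eq_mul.2 (hzc s hsS).eq
    have hvs : v = s * (s⁻¹ * v * s) * s⁻¹ := by group
    rcases hall _ h'' (by rw [orderOf_conj_inv_eq, hvo]) with h | h | h <;> rw [h] at hvs
    · exact hxz ((isConj_iff.2 ⟨s, hvs.symm⟩).trans hzv.symm)
    · exact hg (by rw [hvs, hsz])
    · have : v = x := by
        calc v = (s * x * s⁻¹) * (s * z * s⁻¹) := by rw [hvs]; group
          _ = x := by rw [hs, hsz, mul_assoc, invol_mul_self hzo, mul_one]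
      exact hxz (this ▸ hzv.symm)

theorem all_conj (hG : ¬ IsMulCommutative G) (x : G)
    (h3 : Nat.card {u : G // Commute u x ∧ orderOf u = 2} ≤ 3)
    (S : Sylow 2 G) (hS : (S : Subgroup G) ≤ Subgroup.centralizer ({x} : Set G))
    (u v : G) (hu : orderOf u = 2) (hv : orderOf v = 2) : IsConj u v := by
  classical
  by_contra hne
  obtain ⟨g, hg⟩ := exists_conj_invol_mem_sylow S hu
  obtain ⟨h, hh⟩ := exists_conj_invol_mem_sylow S hv
  have hao : orderOf (g * u * g⁻¹) = 2 := by rw [orderOf_conj_eq, hu]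
  have hbo : orderOf (h * v * h⁻¹) = 2 := by rw [orderOf_conj_eq, hv]
  obtain ⟨a', ha, haS, ha'⟩ := CfsgLib.InvChar.exists_other_conj_mem_sylow hG S hao hg
  obtain ⟨b', hb, hbS, hb'⟩ := CfsgLib.InvChar.exists_other_conj_mem_sylow hG S hbo hh
  set a := g * u * g⁻¹ with ha0
  set b := h * v * h⁻¹ with hb0
  have hua : IsConj u a := isConj_iff.2 ⟨g, rfl⟩
  have hvb : IsConj v b := isConj_iff.2 ⟨h, rfl⟩
  have hab : ¬ IsConj a b := fun h' => hne ((hua.trans h').trans hvb.symm)
  have hmem : ∀ s ∈ (S : Subgroup G), Commute s x := fun s hs =>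
    Subgroup.mem_centralizer_singleton_iff.1 (hS hs)
  let f : Fin 4 → {u : G // Commute u x ∧ orderOf u = 2} :=
    ![⟨a, hmem a hg, hao⟩, ⟨a', hmem a' haS, by rw [orderOf_eq_of_isConj ha, hao]⟩,
      ⟨b, hmem b hh, hbo⟩, ⟨b', hmem b' hbS, by rw [orderOf_eq_of_isConj hb, hbo]⟩]
  have e1 : a ≠ b := fun e => hab (e ▸ IsConj.refl a)
  have e2 : a' ≠ b := fun e => hab (e ▸ ha)
  have e3 : a ≠ b' := fun e => hab ((e ▸ IsConj.refl a : IsConj a b').trans hb.symm)
  have e4 : a' ≠ b' := fun e => hab ((e ▸ ha : IsConj a b').trans hb.symm)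
  have hf : Function.Injective f := by
    intro i j hij
    have hij' := congrArg Subtype.val hij
    fin_cases i <;> fin_cases j <;> simp_all [f, eq_comm]
  have := Nat.card_le_card_of_injective f hf
  simp at this
  omega

/-- Let G be a finite simple group and x an involution of G whose centralizer contains at most three involutions. Then C_G(x) contains a Sylow 2-subgroup of G, and all involutions of G are conjugate. -/
theorem result {G : Type*} [Group G] [Finite G] [IsSimpleGroup G] (x : G) (hx : orderOf x = 2)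
    (h3 : Nat.card {u : ↥(Subgroup.centralizer ({x} : Set G)) // orderOf u = 2} ≤ 3) :
    (∃ S : Sylow 2 G, (S : Subgroup G) ≤ Subgroup.centralizer ({x} : Set G)) ∧
      ∀ u v : G, orderOf u = 2 → orderOf v = 2 → IsConj u v := by
  classical
  by_cases hG : IsMulCommutative G
  · refine ⟨⟨Classical.arbitrary _, fun s _ => ?_⟩, fun u v hu hv => ?_⟩
    · rw [Subgroup.mem_centralizer_singleton_iff]
      exact hG.is_comm.comm s x
    · haveI := hG
      letI : CommGroup G := { (inferInstance : Group G) with mul_comm := hG.is_comm.comm }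
      have hp : (Nat.card G).Prime := IsSimpleGroup.prime_card
      have h2 : Nat.card G = 2 := ((Nat.prime_dvd_prime_iff_eq Nat.prime_two hp).1
        (hu ▸ orderOf_dvd_natCard u)).symm
      have : u = v := by
        by_contra hne
        let f : Fin 3 → G := ![1, u, v]
        have hf : Function.Injective f := by
          intro i j hij
          fin_cases i <;> fin_cases j <;> simp_all [f, eq_comm, invol_ne_one hu, invol_ne_one hv]
        have := Nat.card_le_card_of_injective f hf
        simp at this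
        omega
      exact this ▸ IsConj.refl u
  have h3' : Nat.card {u : G // Commute u x ∧ orderOf u = 2} ≤ 3 := by
    refine le_trans (le_of_eq (Nat.card_congr
      { toFun := fun u => ⟨⟨u.1, Subgroup.mem_centralizer_singleton_iff.2 u.2.1⟩,
          by rw [← Subgroup.orderOf_coe]; exact u.2.2⟩
        invFun := fun u => ⟨u.1, Subgroup.mem_centralizer_singleton_iff.1 u.1.2,
          by rw [Subgroup.orderOf_coe]; exact u.2⟩
        left_inv := fun _ => rfl
        right_inv := fun _ => rfl })) h3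
  obtain ⟨S, hS⟩ := exists_sylow hG x hx h3'
  exact ⟨⟨S, hS⟩, all_conj hG x h3' S hS⟩

end Cfsg.Agent.S3279
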