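import Cfsg.Statements.S3280
import Cfsg.Agent.Lib.StructC.CentFour.Final

set_option autoImplicit false
open Cfsg

namespace Cfsg.Agent.S3280

/-- A non-cyclic finite simple group containing an element whose centralizer has order at most 4 is isomorphic to the alternating group of degree 5, 6 or 7, or to PSL(2, 7). -/
theorem result {G : Type*} [Group G] [Finite G] [IsSimpleGroup G] (hG : ¬ IsCyclic G)
    (w : G) (hw : Nat.card ↥(Subgroup.centralizer ({w} : Set G)) ≤ 4) :
    Nonempty (G ≃* ↥(alternatingGroup (Fin 5))) ∨ Nonempty (G ≃* ↥(alternatingGroup (Fin 6))) ∨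
      Nonempty (G ≃* ↥(alternatingGroup (Fin 7))) ∨
      (∃ (F : Type) (_ : Field F) (_ : Fintype F), Fintype.card F = 7 ∧ Nonempty (G ≃* Matrix.ProjectiveSpecialLinearGroup (Fin 2) F)) := by
  exact CfsgLib.StructC.CentFour.main hG w hw

end Cfsg.Agent.S3280
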