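import Cfsg.Statements.S3283
import Cfsg.Agent.Lib.Recog.SThreeASix.Main

set_option autoImplicit false
open Cfsg

namespace Cfsg.Agent.S3283

/-- Let G be a finite group with an involution z whose centralizer M has Q = O₂(M) extraspecial of order 2⁹ with C_M(Q) ≤ Q, and M/Q isomorphic to S₃ × A₆ or to S₃ × S₆. Then G is not simple. -/
theorem result {G : Type*} [Group G] [Finite G] (z : G) (hz : orderOf z = 2)
    (hQ : Cfsg.IsExtraspecial 2 ↥(Cfsg.pCore 2 ↥(Subgroup.centralizer ({z} : Set G)))) (hQ9 : Nat.card ↥(Cfsg.pCore 2 ↥(Subgroup.centralizer ({z} : Set G))) = 2 ^ 9)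
    (hCQ : Subgroup.centralizer ((Cfsg.pCore 2 ↥(Subgroup.centralizer ({z} : Set G))) : Set ↥(Subgroup.centralizer ({z} : Set G))) ≤ Cfsg.pCore 2 ↥(Subgroup.centralizer ({z} : Set G)))
    (hMQ : Nonempty (↥(Subgroup.centralizer ({z} : Set G)) ⧸ Cfsg.pCore 2 ↥(Subgroup.centralizer ({z} : Set G)) ≃* (Equiv.Perm (Fin 3) × ↥(alternatingGroup (Fin 6)))) ∨
      Nonempty (↥(Subgroup.centralizer ({z} : Set G)) ⧸ Cfsg.pCore 2 ↥(Subgroup.centralizer ({z} : Set G)) ≃* (Equiv.Perm (Fin 3) × Equiv.Perm (Fin 6)))) :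
    ¬ IsSimpleGroup G := by
  intro hG
  haveI hn : (Cfsg.pCore 2 ↥(Subgroup.centralizer ({z} : Set G))).Normal :=
    Subgroup.sSup_normal _ fun N hN => hN.1
  obtain ⟨f, hf, htop⟩ : ∃ f : ↥(Subgroup.centralizer ({z} : Set G)) ⧸
      Cfsg.pCore 2 ↥(Subgroup.centralizer ({z} : Set G)) →* CfsgLib.Recog.SThreeASix.P3 × CfsgLib.Recog.SThreeASix.P6,
      Function.Injective f ∧ ∀ (a : CfsgLib.Recog.SThreeASix.P3) (g : CfsgLib.Recog.SThreeASix.A6),
        ∃ m, f m = (a, (g : CfsgLib.Recog.SThreeASix.P6)) := by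
    rcases hMQ with ⟨⟨e⟩⟩ | ⟨⟨e⟩⟩
    · exact ⟨((MonoidHom.id _).prodMap (alternatingGroup (Fin 6)).subtype).comp e.toMonoidHom,
        (Function.injective_id.prodMap Subtype.val_injective).comp e.injective,
        fun a g => ⟨e.symm (a, g), by simp⟩⟩
    · exact ⟨e.toMonoidHom, e.injective, fun a g => ⟨e.symm (a, g), by simp⟩⟩
  obtain ⟨C, S⟩ := CfsgLib.Recog.SThreeASix.exists_cfg z hz hQ hQ9 hCQ f hf htop
  obtain ⟨m, hm⟩ := C.proj_top (Equiv.swap 0 1 * Equiv.swap 1 2) 1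
  refine C.not_residual_top S (CfsgLib.Recog.SThreeASix.residual_eq_top (m := (m : G)) ?_)
  rw [Subgroup.orderOf_coe]
  refine dvd_trans ?_ (orderOf_map_dvd C.proj m)
  rw [hm, Prod.orderOf]
  refine dvd_trans ?_ (Nat.dvd_lcm_left _ _)
  rw [orderOf_eq_prime (p := 3) (by decide) (by decide)]

end Cfsg.Agent.S3283
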