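import Cfsg.Statements.S3294
import Mathlib.Tactic
import Mathlib.GroupTheory.SpecificGroups.Quaternion
import Cfsg.Agent.Lib.Solvable.HallHigman
import Cfsg.Agent.Lib.Transfer.Basic
import Cfsg.Agent.Lib.InvChar.OddAct

set_option autoImplicit false
open Cfsg

namespace Cfsg.Agent.S3294

/-- A finite solvable group whose Sylow 2-subgroups are generalized quaternion of order at least 32 has a normal 2-complement. -/
theorem result {G : Type*} [Group G] [Finite G] (hsol : Group.IsSolvable G) (T : Sylow 2 G) (n : ℕ) (hn : 3 ≤ n) (hT : Nonempty ((T : Subgroup G) ≃* QuaternionGroup (2 ^ n))) : Cfsg.HasNormalPComplement 2 G := by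
  haveI : Fact (Nat.Prime 2) := ⟨Nat.prime_two⟩
  obtain ⟨eT⟩ := hT
  let O := Cfsg.pPrimeCore 2 G
  haveI hOn : O.Normal := CfsgLib.Solvable.pPrimeCore_normal 2 G
  let π := QuotientGroup.mk' O
  haveI : Group.IsSolvable (G ⧸ O) := solvable_of_surjective (f := π) (QuotientGroup.mk'_surjective O)
  let P := Cfsg.pCore 2 (G ⧸ O)
  haveI hPn : P.Normal := CfsgLib.Solvable.pCore_normal 2 _
  have hP : IsPGroup 2 P := CfsgLib.Solvable.pCore_isPGroup 2
  have hcen := CfsgLib.Solvable.centralizer_pCore_le 2 (CfsgLib.Solvable.pPrimeCore_quotient_eq_bot (G := G) 2)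
  let φ : QuaternionGroup (2 ^ n) →* G ⧸ O := π.comp ((T : Subgroup G).subtype.comp eT.symm.toMonoidHom)
  have hφ : Function.Injective φ := by
    refine (injective_iff_map_eq_one φ).2 fun x hx => ?_
    have h1 : ((eT.symm x : T) : G) ∈ O := (QuotientGroup.eq_one_iff _).1 hx
    obtain ⟨k, hk⟩ := T.isPGroup' (eT.symm x)
    have h2 : orderOf ((eT.symm x : T) : G) ∣ 2 ^ k :=
      orderOf_dvd_of_pow_eq_one (by simpa using congrArg Subtype.val hk)
    have hco : (Nat.card O).Coprime (2 ^ k) := (CfsgLib.Solvable.pPrimeCore_coprime (G := G) 2).pow_right k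
    have h3 : orderOf ((eT.symm x : T) : G) = 1 :=
      Nat.eq_one_of_dvd_one (hco ▸ Nat.dvd_gcd (O.orderOf_dvd_natCard h1) h2)
    have h4 : eT.symm x = 1 := Subtype.ext (orderOf_eq_one_iff.1 h3)
    simpa using congrArg eT h4
  have hsurj : Function.Surjective π := QuotientGroup.mk'_surjective O
  have hPr : ∀ p ∈ P, ∃ q, φ q = p := by
    intro p hp
    obtain ⟨t, ht, rfl⟩ : p ∈ (T : Subgroup G).map π :=
      CfsgLib.Solvable.pCore_le_sylow (T.mapSurjective hsurj) hp
    exact ⟨eT ⟨t, ht⟩, by simp [φ]⟩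
  let u := φ (QuaternionGroup.a 1)
  let E := P ⊓ Subgroup.zpowers u
  have hAu : ∀ i, φ (QuaternionGroup.a i) ∈ Subgroup.zpowers u := by
    intro i
    have h : QuaternionGroup.a i = (QuaternionGroup.a 1 : QuaternionGroup (2 ^ n)) ^ i.val := by
      rw [QuaternionGroup.a_one_pow, ZMod.natCast_zmod_val]
    rw [h, map_pow]
    exact pow_mem (Subgroup.mem_zpowers u) _
  haveI hEc : IsCyclic E := isCyclic_of_injective
    (Subgroup.inclusion (inf_le_right : E ≤ Subgroup.zpowers u)) (Subgroup.inclusion_injective _)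
  obtain ⟨w, hw⟩ := IsCyclic.exists_generator (α := E)
  have hwE : ∀ x ∈ E, x ∈ Subgroup.zpowers (w : G ⧸ O) := fun x hx => by
    obtain ⟨i, hi⟩ := Subgroup.mem_zpowers_iff.1 (hw ⟨x, hx⟩)
    exact ⟨i, by simpa using congrArg Subtype.val hi⟩
  obtain ⟨kw, hkw⟩ := hP ⟨w, w.2.1⟩
  have hkw : (w : G ⧸ O) ^ 2 ^ kw = 1 := by simpa using congrArg Subtype.val hkw
  have hodd : ∀ g : G ⧸ O, (orderOf g).Coprime 2 → g = 1 := by
    intro g hg
    have hgP : ∀ x ∈ P, g * x * g⁻¹ ∈ P := fun x hx => hPn.conj_mem x hx g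
    have hgw : g * w * g⁻¹ ∈ E := by
      obtain ⟨q, hq⟩ := hPr _ (hgP _ w.2.1)
      rcases q with i | i
      · exact ⟨hgP _ w.2.1, hq ▸ hAu i⟩
      · -- the image lies outside the cyclic part: compare orders
        obtain ⟨q', hq'⟩ := hPr _ (hgP _ w.2.1)
        refine ⟨hgP _ w.2.1, ?_⟩
        have h4 : orderOf (w : G ⧸ O) = 4 := by
          rw [show orderOf (w : G ⧸ O) = orderOf (g * w * g⁻¹) from ((MulAut.conj g).orderOf_eq _).symm,
            ← hq, orderOf_injective φ hφ, QuaternionGroup.orderOf_xa]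
        -- then `a 2` lies in `E`, of order `2 ^ n > 4`
        exfalso
        have hxi : φ (QuaternionGroup.xa i) ∈ P := hq ▸ hgP _ w.2.1
        have ha2 : φ (QuaternionGroup.a 2) ∈ E := by
          refine ⟨?_, hAu _⟩
          have h := mul_mem (inv_mem hxi) (hPn.conj_mem _ hxi (φ (QuaternionGroup.a 1)))
          rw [← map_inv, ← map_inv, ← map_mul, ← map_mul, ← map_mul] at h
          have e : (QuaternionGroup.xa i : QuaternionGroup (2 ^ n))⁻¹ *
              (QuaternionGroup.a 1 * QuaternionGroup.xa i * (QuaternionGroup.a 1)⁻¹) = QuaternionGroup.a (-2) := by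
            rw [mul_inv_eq_iff_eq_mul.2 (show QuaternionGroup.a 1 * QuaternionGroup.xa i = QuaternionGroup.xa (i - 2) * QuaternionGroup.a 1 by
              simp only [QuaternionGroup.a_mul_xa, QuaternionGroup.xa_mul_a]; congr 1; ring), inv_mul_eq_iff_eq_mul]
            simp only [QuaternionGroup.xa_mul_a]; congr 1; ring
          rw [e] at h
          have h' := inv_mem h
          rwa [← map_inv, show (QuaternionGroup.a (-2) : QuaternionGroup (2 ^ n))⁻¹ = QuaternionGroup.a 2 from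
            inv_eq_of_mul_eq_one_right (by rw [QuaternionGroup.a_mul_a, neg_add_cancel]; rfl)] at h'
        obtain ⟨j, hj⟩ := hwE _ ha2
        have hd : orderOf (φ (QuaternionGroup.a 2)) ∣ 4 := by
          rw [← h4]
          exact orderOf_dvd_of_mem_zpowers ⟨j, hj⟩
        rw [orderOf_injective φ hφ, QuaternionGroup.orderOf_a] at hd
        have hv : (2 : ZMod (2 * 2 ^ n)).val = 2 := by
          rw [show (2 : ZMod (2 * 2 ^ n)) = ((2 : ℕ) : ZMod (2 * 2 ^ n)) by simp, ZMod.val_natCast, Nat.mod_eq_of_lt]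
          have : 1 < 2 ^ n := Nat.one_lt_two_pow (by omega)
          omega
        rw [hv, Nat.gcd_eq_right (Dvd.intro _ rfl), Nat.mul_div_cancel_left _ two_pos] at hd
        have := Nat.le_of_dvd (by norm_num) hd
        have : 2 ^ 3 ≤ 2 ^ n := Nat.pow_le_pow_right two_pos hn
        omega
    have hfw := CfsgLib.InvChar.fix_of_cyclic hg kw _ hkw (hwE _ hgw)
    have hfixE : ∀ e ∈ E, g * e * g⁻¹ = e := by
      intro e he
      obtain ⟨i, rfl⟩ := Subgroup.mem_zpowers_iff.1 (hwE e he)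
      rw [← conj_zpow, hfw]
    have hfix : ∀ x ∈ P, g * x * g⁻¹ = x := by
      intro x hx
      obtain ⟨q, rfl⟩ := hPr x hx
      rcases q with i | i
      · exact hfixE _ ⟨hx, hAu i⟩
      obtain ⟨q, hq⟩ := hPr _ (hgP _ hx)
      rcases q with j | j
      · exfalso
        have hE : g * φ (QuaternionGroup.xa i) * g⁻¹ ∈ E := ⟨hgP _ hx, hq ▸ hAu j⟩
        have h2 := mul_left_cancel (mul_right_cancel (hfixE _ hE))
        have h3 := hq.trans h2
        cases hφ h3
      · have he : (φ (QuaternionGroup.xa i))⁻¹ * (g * φ (QuaternionGroup.xa i) * g⁻¹) ∈ E := by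
          refine ⟨P.mul_mem (P.inv_mem hx) (hgP _ hx), ?_⟩
          rw [← hq, ← map_inv, ← map_mul]
          obtain ⟨t, ht⟩ : ∃ t, (QuaternionGroup.xa i : QuaternionGroup (2 ^ n))⁻¹ * QuaternionGroup.xa j = QuaternionGroup.a t :=
            ⟨j - i, by rw [inv_mul_eq_iff_eq_mul, QuaternionGroup.xa_mul_a, add_sub_cancel]⟩
          rw [ht]; exact hAu t
        obtain ⟨k, hk⟩ := hP ⟨_, he.1⟩
        exact CfsgLib.InvChar.fix_of_conj_eq_mul hg (congrArg Subtype.val hk) (hfixE _ he) (mul_inv_cancel_left _ _).symm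
    have hgmem : g ∈ P := hcen (Subgroup.mem_centralizer_iff.2 fun x hx =>
      (mul_inv_eq_iff_eq_mul.1 (hfix x hx)).symm)
    obtain ⟨k, hk⟩ := hP ⟨g, hgmem⟩
    have hk' : g ^ 2 ^ k = 1 := by simpa using congrArg Subtype.val hk
    exact orderOf_eq_one_iff.1 (Nat.eq_one_of_dvd_one ((hg.pow_right k) ▸ Nat.dvd_gcd dvd_rfl (orderOf_dvd_of_pow_eq_one hk')))
  refine CfsgLib.Transfer.hasNormalPComplement_iff_exists.2 ⟨O, hOn, CfsgLib.Solvable.pPrimeCore_coprime 2, fun g => ?_⟩
  obtain ⟨k, m, hm, hkm⟩ := Nat.exists_eq_pow_mul_and_not_dvd (orderOf_pos g).ne' 2 (by norm_num)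
  refine ⟨k, hodd _ ?_⟩
  rw [orderOf_pow, hkm, Nat.gcd_mul_right_left, Nat.mul_div_cancel_left _ (by positivity)]
  exact Nat.Coprime.symm ((Nat.prime_two.coprime_iff_not_dvd).2 hm)

end Cfsg.Agent.S3294
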