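import Cfsg.Statements.S3303
import Mathlib.Tactic
import Cfsg.Agent.Lib.Transfer.Frobenius
import Cfsg.Agent.Lib.Solvable.HallHigman
import Cfsg.Agent.Lib.InvChar.OddAct

set_option autoImplicit false
open Cfsg

namespace Cfsg.Agent.S3303

/-- Let G be a finite solvable group in which the intersection of any two distinct Sylow 2-subgroups is cyclic. Then G/O(G) has a normal Sylow 2-subgroup, where O(G) is the largest normal subgroup of odd order. -/
theorem result {G : Type*} [Group G] [Finite G] (hs : Group.IsSolvable G)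
    (hC : ∀ S T : Sylow 2 G, S ≠ T → IsCyclic ↥((S : Subgroup G) ⊓ (T : Subgroup G))) :
    ∃ P : Sylow 2 (G ⧸ Cfsg.oddCore G), (P : Subgroup (G ⧸ Cfsg.oddCore G)).Normal := by
  haveI : Fact (Nat.Prime 2) := ⟨Nat.prime_two⟩
  let O := Cfsg.oddCore G
  haveI : O.Normal := CfsgLib.Solvable.pPrimeCore_normal 2 G
  let π := QuotientGroup.mk' O
  haveI : Group.IsSolvable (G ⧸ O) := solvable_of_surjective (f := π) (QuotientGroup.mk'_surjective O)
  let P := Cfsg.pCore 2 (G ⧸ O)
  haveI : P.Normal := CfsgLib.Solvable.pCore_normal 2 _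
  have hP : IsPGroup 2 P := CfsgLib.Solvable.pCore_isPGroup 2
  have hbot : Cfsg.pPrimeCore 2 (G ⧸ O) = ⊥ := CfsgLib.Solvable.pPrimeCore_quotient_eq_bot 2
  have hcen := CfsgLib.Solvable.centralizer_pCore_le 2 hbot
  by_contra hne
  push Not at hne
  obtain ⟨Sb⟩ := (inferInstance : Nonempty (Sylow 2 (G ⧸ O)))
  -- `O₂(G/O)` is cyclic
  have hcyc : IsCyclic P := by
    obtain ⟨g, hg⟩ : ∃ g, g • Sb ≠ Sb := by
      by_contra hall
      push Not at hall
      apply hne Sb
      rw [← Subgroup.normalizer_eq_top_iff]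
      exact eq_top_iff.2 fun g _ => Sylow.smul_eq_iff_mem_normalizer.1 (hall g)
    let S₀ : Sylow 2 G := Classical.choice inferInstance
    have hsur : Function.Surjective π := QuotientGroup.mk'_surjective O
    let N := P.comap π
    obtain ⟨a, ha⟩ := MulAction.exists_smul_eq (G ⧸ O) (S₀.mapSurjective hsur) Sb
    obtain ⟨b, hb⟩ := MulAction.exists_smul_eq (G ⧸ O) (S₀.mapSurjective hsur) (g • Sb)
    obtain ⟨a, rfl⟩ := hsur a
    obtain ⟨b, rfl⟩ := hsur b
    have hmap : ∀ x : G, ((x • S₀ : Sylow 2 G) : Subgroup G).map π = ((π x • S₀.mapSurjective hsur : Sylow 2 (G ⧸ O)) : Subgroup (G ⧸ O)) := by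
      intro x
      rw [Sylow.coe_subgroup_smul, Sylow.coe_subgroup_smul]
      exact CfsgLib.Solvable.map_conj_smul π x _
    -- a Sylow subgroup of `N` inside a conjugate of `S₀`
    haveI : N.Normal := inferInstance
    obtain ⟨W, hW⟩ := CfsgLib.Transfer.exists_sylow_eq_subgroupOf (a • S₀) N
    obtain ⟨W', hW'⟩ := CfsgLib.Transfer.exists_sylow_eq_subgroupOf (b • S₀) N
    obtain ⟨c, hc⟩ := MulAction.exists_smul_eq N W' W
    have hc' : ∀ x ∈ N, x ∈ ((a • S₀ : Sylow 2 G) : Subgroup G) → x ∈ (((c : G) * b) • S₀ : Sylow 2 G) := by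
      intro x hxN hx
      have h : (⟨x, hxN⟩ : N) ∈ (W : Subgroup N) := by rw [hW]; exact hx
      rw [← hc, Sylow.coe_subgroup_smul] at h
      obtain ⟨w, hw, hwe⟩ := h
      have hw' : (w : G) ∈ ((b • S₀ : Sylow 2 G) : Subgroup G) := by
        have : w ∈ (W' : Subgroup N) := hw
        rw [hW'] at this; exact this
      rw [SemigroupAction.mul_smul]
      change x ∈ ((((c : G) • (b • S₀)) : Sylow 2 G) : Subgroup G)
      rw [Sylow.coe_subgroup_smul (P := b • S₀)]
      exact ⟨(w : G), hw', congrArg Subtype.val hwe⟩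
    have hne' : ((c : G) * b) • S₀ ≠ a • S₀ := by
      intro h
      apply hg
      have h1 := hmap ((c : G) * b)
      rw [h, hmap a, ha] at h1
      rw [map_mul, SemigroupAction.mul_smul, hb] at h1
      have hcP : π c ∈ P := c.2
      have h2 : π c • g • Sb = g • Sb := Sylow.smul_eq_iff_mem_normalizer.2
        (Subgroup.le_normalizer (CfsgLib.Solvable.pCore_le_sylow (g • Sb) hcP))
      rw [h2] at h1
      exact Sylow.ext h1.symm
    haveI := hC _ _ hne'
    let T := (((c : G) * b) • S₀ : Sylow 2 G)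
    let I := (T : Subgroup G) ⊓ ((a • S₀ : Sylow 2 G) : Subgroup G)
    have hle : P ≤ I.map π := by
      intro q hq
      have hqS : q ∈ ((π a • S₀.mapSurjective hsur : Sylow 2 (G ⧸ O)) : Subgroup (G ⧸ O)) := ha ▸ CfsgLib.Solvable.pCore_le_sylow Sb hq
      rw [← hmap] at hqS
      obtain ⟨x, hx, rfl⟩ := hqS
      exact ⟨x, ⟨hc' x hq hx, hx⟩, rfl⟩
    haveI : IsCyclic I := this
    haveI : IsCyclic (I.map π) := isCyclic_of_surjective (π.subgroupMap I) (π.subgroupMap_surjective I)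
    exact isCyclic_of_injective (Subgroup.inclusion hle) (Subgroup.inclusion_injective hle)
  -- so `G/O` is a 2-group
  have hodd : ∀ g : G ⧸ O, (orderOf g).Coprime 2 → g = 1 := by
    intro g hg
    obtain ⟨w, hw⟩ := IsCyclic.exists_generator (α := P)
    have hfix : g * w * g⁻¹ = (w : G ⧸ O) := by
      obtain ⟨k, hk⟩ := hP w
      refine CfsgLib.InvChar.fix_of_cyclic hg k w (by simpa using congrArg Subtype.val hk) ?_
      obtain ⟨i, hi⟩ := Subgroup.mem_zpowers_iff.1 (hw ⟨_, (inferInstance : P.Normal).conj_mem _ w.2 g⟩)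
      exact ⟨i, by simpa using congrArg Subtype.val hi⟩
    have hgP : g ∈ P := hcen (Subgroup.mem_centralizer_iff.2 fun x hx => by
      obtain ⟨i, hi⟩ := Subgroup.mem_zpowers_iff.1 (hw ⟨x, hx⟩)
      have hi' : ((w : G ⧸ O)) ^ i = x := by simpa using congrArg Subtype.val hi
      have hc : Commute g (w : G ⧸ O) := mul_inv_eq_iff_eq_mul.1 hfix
      rw [← hi']; exact (hc.zpow_right i).eq.symm)
    obtain ⟨k, hk⟩ := hP ⟨g, hgP⟩
    have hk' : g ^ 2 ^ k = 1 := by simpa using congrArg Subtype.val hk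
    exact orderOf_eq_one_iff.1 (Nat.eq_one_of_dvd_one ((hg.pow_right k) ▸ Nat.dvd_gcd dvd_rfl (orderOf_dvd_of_pow_eq_one hk')))
  have h2 : IsPGroup 2 (⊤ : Subgroup (G ⧸ O)) := by
    refine IsPGroup.to_subgroup (fun g => ?_) ⊤
    obtain ⟨k, m, hm, hkm⟩ := Nat.exists_eq_pow_mul_and_not_dvd (orderOf_pos g).ne' 2 (by norm_num)
    refine ⟨k, hodd _ ?_⟩
    rw [orderOf_pow, hkm, Nat.gcd_mul_right_left, Nat.mul_div_cancel_left _ (by positivity)]
    exact (Nat.Coprime.symm ((Nat.prime_two.coprime_iff_not_dvd).2 hm))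
  exact hne Sb ((Sb.is_maximal' h2 le_top) ▸ inferInstance)

end Cfsg.Agent.S3303
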