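import Cfsg.Statements.S3305
import Mathlib.Tactic

set_option autoImplicit false
open Cfsg

namespace Cfsg.Agent.S3305

/-- If any two distinct Sylow 2-subgroups of the finite group G intersect in a cyclic group, then the same holds in every quotient group G/H, H a normal subgroup of G. -/
theorem result {G : Type*} [Group G] [Finite G]
    (hC : ∀ S T : Sylow 2 G, S ≠ T → IsCyclic ↥((S : Subgroup G) ⊓ (T : Subgroup G))) (H : Subgroup G) [H.Normal] :
    ∀ S T : Sylow 2 (G ⧸ H), S ≠ T → IsCyclic ↥((S : Subgroup (G ⧸ H)) ⊓ (T : Subgroup (G ⧸ H))) := by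
  haveI : Fact (Nat.Prime 2) := ⟨Nat.prime_two⟩
  intro S T hne
  let π := QuotientGroup.mk' H
  have hπ : Function.Surjective π := QuotientGroup.mk'_surjective H
  let S₁ := (S : Subgroup (G ⧸ H)).comap π
  let T₁ := (T : Subgroup (G ⧸ H)).comap π
  obtain ⟨R⟩ := (inferInstance : Nonempty (Sylow 2 ↥(S₁ ⊓ T₁)))
  let R₀ : Subgroup G := (R : Subgroup ↥(S₁ ⊓ T₁)).map (S₁ ⊓ T₁).subtype
  have hR₀ : IsPGroup 2 R₀ := R.isPGroup'.map _
  have hR₀le : R₀ ≤ S₁ ⊓ T₁ := Subgroup.map_subtype_le _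
  -- lift each Sylow subgroup
  have lift : ∀ (U : Sylow 2 (G ⧸ H)), R₀ ≤ (U : Subgroup (G ⧸ H)).comap π →
      ∃ U' : Sylow 2 G, R₀ ≤ U' ∧ (U' : Subgroup G).map π = U := by
    intro U hU
    obtain ⟨V, hV⟩ := (hR₀.comap_subtype (K := (U : Subgroup (G ⧸ H)).comap π)).exists_le_sylow
    have hidx : ¬ 2 ∣ ((V : Subgroup _).map ((U : Subgroup (G ⧸ H)).comap π).subtype).index := by
      rw [Subgroup.index_map_subtype, Subgroup.index_comap_of_surjective _ hπ]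
      exact fun h => (Nat.prime_two.dvd_mul.1 h).elim V.not_dvd_index U.not_dvd_index
    let U' : Sylow 2 G := (V.isPGroup'.map _).toSylow hidx
    have hle : R₀ ≤ U' := fun r hr => ⟨⟨r, hU hr⟩, hV (show (⟨r, hU hr⟩ : ↥((U : Subgroup (G ⧸ H)).comap π)) ∈ R₀.subgroupOf _ from hr), rfl⟩
    refine ⟨U', hle, ?_⟩
    have h1 : (U' : Subgroup G).map π ≤ U := Subgroup.map_le_iff_le_comap.2 (Subgroup.map_subtype_le _)
    have h2 := (U'.mapSurjective hπ).is_maximal' U.isPGroup' h1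
    exact h2.symm
  obtain ⟨S', hS', hSm⟩ := lift S (hR₀le.trans inf_le_left)
  obtain ⟨T', hT', hTm⟩ := lift T (hR₀le.trans inf_le_right)
  have hne' : S' ≠ T' := fun h => hne (Sylow.ext (by rw [← hSm, ← hTm, h]))
  haveI := hC S' T' hne'
  haveI : IsCyclic R₀ := isCyclic_of_injective (Subgroup.inclusion (le_inf hS' hT')) (Subgroup.inclusion_injective _)
  let D := (S : Subgroup (G ⧸ H)) ⊓ (T : Subgroup (G ⧸ H))
  let f : ↥(S₁ ⊓ T₁) →* D := (π.comp (S₁ ⊓ T₁).subtype).codRestrict D (fun a => ⟨a.2.1, a.2.2⟩)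
  have hf : Function.Surjective f := by
    rintro ⟨d, hd⟩
    obtain ⟨g, rfl⟩ := hπ d
    exact ⟨⟨g, hd.1, hd.2⟩, rfl⟩
  have htop : (R.mapSurjective hf : Subgroup D) = ⊤ :=
    ((R.mapSurjective hf).is_maximal' ((S.isPGroup'.to_le inf_le_left).to_subgroup ⊤) le_top).symm
  rw [Sylow.coe_mapSurjective] at htop
  haveI : IsCyclic (R : Subgroup ↥(S₁ ⊓ T₁)) :=
    isCyclic_of_injective ((S₁ ⊓ T₁).subtype.subgroupMap (R : Subgroup ↥(S₁ ⊓ T₁)))
      (fun a b h => Subtype.ext (Subtype.ext (by simpa using congrArg Subtype.val h)))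
  refine isCyclic_of_surjective (f.comp (R : Subgroup ↥(S₁ ⊓ T₁)).subtype) (fun d => ?_)
  obtain ⟨r, hr, rfl⟩ := htop.symm ▸ Subgroup.mem_top d
  exact ⟨⟨r, hr⟩, rfl⟩

end Cfsg.Agent.S3305
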