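import Cfsg.Statements.S3306
import Cfsg.Agent.S3305
import Cfsg.Agent.Lib.StructB.CyclicIntersectionRadical

set_option autoImplicit false
open Cfsg

namespace Cfsg.Agent.S3306

/-- Let G be a finite nonsolvable group in which any two distinct Sylow 2-subgroups intersect in a cyclic group, and let N be a solvable normal subgroup of G. Then the image of N in G/O(G) is a cyclic 2-group contained in the centre of G/O(G) (O(G) the largest normal subgroup of odd order). In other words the solvable radical of G is V·O(G) with V a cyclic 2-group central modulo O(G). -/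
theorem result {G : Type*} [Group G] [Finite G] (hns : ¬ Group.IsSolvable G)
    (hC : ∀ S T : Sylow 2 G, S ≠ T → IsCyclic ↥((S : Subgroup G) ⊓ (T : Subgroup G)))
    (N : Subgroup G) [N.Normal] (hN : Group.IsSolvable ↥N) :
    IsCyclic ↥(N.map (QuotientGroup.mk' (Cfsg.oddCore G))) ∧ IsPGroup 2 ↥(N.map (QuotientGroup.mk' (Cfsg.oddCore G))) ∧
      N.map (QuotientGroup.mk' (Cfsg.oddCore G)) ≤ Subgroup.center (G ⧸ Cfsg.oddCore G) := by
  haveI : (Cfsg.oddCore G).Normal := CfsgLib.Solvable.pPrimeCore_normal 2 G
  haveI : Group.IsSolvable (Cfsg.oddCore G) := Cfsg.Agent.S0205.result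
    (Nat.coprime_two_right.1 (CfsgLib.Solvable.pPrimeCore_coprime 2))
  let π := QuotientGroup.mk' (Cfsg.oddCore G)
  have hns' : ¬ Group.IsSolvable (G ⧸ Cfsg.oddCore G) := fun h => hns
    (Group.isSolvable_of_ker_le_range (Cfsg.oddCore G).subtype π (fun y hy => by
      rw [QuotientGroup.ker_mk'] at hy
      exact ⟨⟨y, hy⟩, rfl⟩))
  haveI : (N.map π).Normal := Subgroup.Normal.map inferInstance π (QuotientGroup.mk'_surjective _)
  exact CfsgLib.StructB.CycInt.solvable_normal (Cfsg.Agent.S3305.result hC (Cfsg.oddCore G))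
    (CfsgLib.Solvable.pPrimeCore_quotient_eq_bot 2) hns' (N.map π)
    (solvable_of_surjective (π.subgroupMap_surjective N))

end Cfsg.Agent.S3306
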