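import Cfsg.Statements.S3309
import Cfsg.Agent.Lib.Transfer.Thompson
import Cfsg.Agent.Lib.Invol.Basic
import Cfsg.Agent.Lib.InvChar.Basic
import Mathlib.GroupTheory.SpecificGroups.Dihedral

set_option autoImplicit false
open Cfsg

namespace Cfsg.Agent.S3309

open DihedralGroup
open scoped Pointwise

/-- The model of the Sylow 2-subgroup. -/
abbrev P := Multiplicative (ZMod 2) × DihedralGroup 4

/-- The element spanning the complement. -/
def pa : P := (Multiplicative.ofAdd 1, 1)

/-- The square of a rotation of order four. -/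
def pd : P := (1, r 2)

/-- The two maximal elementary abelian subgroups: `half i` consists of the products with a reflection
of the `i`-th sort and with the centre. -/
def half (i : Bool) (x : P) : Bool :=
  x.2 = 1 || x.2 = r 2 || x.2 = sr (if i then 1 else 0) || x.2 = sr (if i then 3 else 2)

theorem half_mul : ∀ i, ∀ x y : P, half i x → half i y → half i (x * y) := by decide +kernel
theorem half_inv : ∀ i, ∀ x : P, half i x → half i x⁻¹ := by decide +kernel
theorem half_sq : ∀ i, ∀ x : P, half i x → x * x = 1 := by decide +kernel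
theorem half_comm : ∀ i, ∀ x y : P, half i x → half i y → x * y = y * x := by decide +kernel
theorem half_conj : ∀ i, ∀ x y : P, half i x → half i (y * x * y⁻¹) := by decide +kernel
theorem half_sq_inv : ∀ x : P, x * x = 1 → half false x ∨ half true x := by decide +kernel
theorem half_sep : ∀ x y : P, x * x = 1 → y * y = 1 → x * y = y * x →
    ¬ half false x → ¬ half true y → False := by decide +kernel
theorem half_ne : ∃ x : P, half false x ∧ ¬ half true x := ⟨(1, sr 0), by decide +kernel⟩
theorem central_a : ∀ x : P, x * pa = pa * x := by decide +kernel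
theorem central_d : ∀ x : P, x * pd = pd * x := by decide +kernel
theorem square_eq : ∀ x : P, x * x ≠ 1 → x * x = pd := by decide +kernel
theorem exists_square : ∃ x : P, x * x = pd := ⟨(1, r 1), by decide +kernel⟩

/-- The reflections chosen by two bits. -/
def refl (i β : Bool) : P := (if β then Multiplicative.ofAdd 1 else 1, sr (if i then 1 else 0))

/-- The maximal subgroup containing two chosen reflections. -/
def inM (β γ : Bool) (x : P) : Bool :=
  match x.2 with
  | .r j => (x.1 = if (j.val % 2 = 1) ∧ β ≠ γ then Multiplicative.ofAdd 1 else 1)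
  | .sr j => (x.1 = if (if j.val % 2 = 1 then γ else β) then Multiplicative.ofAdd 1 else 1)

theorem inM_mul : ∀ β γ, ∀ x y : P, inM β γ x → inM β γ y → inM β γ (x * y) := by decide +kernel
theorem inM_inv : ∀ β γ, ∀ x : P, inM β γ x → inM β γ x⁻¹ := by decide +kernel
theorem inM_one : ∀ β γ, inM β γ 1 := by decide +kernel
theorem inM_xor : ∀ β γ, ∀ x : P, (inM β γ x = true) ≠ (inM β γ (x * pa) = true) := by decide +kernel
theorem inM_invol : ∀ β γ, ∀ x : P, inM β γ x → x * x = 1 → x = 1 ∨ x = pd ∨ x = refl false β ∨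
    x = refl false β * pd ∨ x = refl true γ ∨ x = refl true γ * pd := by decide +kernel
theorem refl_conj : ∀ i β, refl (!i) false * refl i β * (refl (!i) false)⁻¹ = refl i β * pd := by
  decide +kernel
theorem half_cases : ∀ i, ∀ x : P, half i x → x = 1 ∨ x = pa ∨ x = pd ∨ x = pa * pd ∨
    x = refl i false ∨ x = refl i false * pd ∨ x = refl i true ∨ x = refl i true * pd := by decide +kernel
theorem half_refl : ∀ i β, half i (refl i β) ∧ refl i β ≠ pa := by decide +kernel
theorem half_one : ∀ i, half i 1 := by decide +kernel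
theorem half_central : ∀ i, half i pd ∧ half i (pa * pd) := by decide +kernel
theorem pa_ne : pa ≠ 1 ∧ pd ≠ 1 ∧ pa ≠ pd ∧ pa * pd ≠ 1 ∧ pa * pa = 1 ∧ pd * pd = 1 := by decide +kernel

variable {G : Type*} [Group G] [Finite G]

/-- No element normalizing a Sylow 2-subgroup swaps two different things fixed by the subgroup. -/
theorem eq_of_swap {α : Type*} [MulAction (MulAut G) α] (S : Sylow 2 G) {n : G}
    (hn : n ∈ Subgroup.normalizer ((S : Subgroup G) : Set G)) {x y : α}
    (hfix : ∀ s ∈ (S : Subgroup G), MulAut.conj s • x = x)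
    (h1 : MulAut.conj n • x = y) (h2 : MulAut.conj n • y = x) : x = y := by
  haveI : Fact (Nat.Prime 2) := ⟨Nat.prime_two⟩
  obtain ⟨k, q, hq, hkq⟩ := Nat.exists_eq_two_pow_mul_odd (orderOf_pos n).ne'
  set N := Subgroup.normalizer ((S : Subgroup G) : Set G) with hN
  haveI : ((S : Subgroup G).subgroupOf N).Normal := Subgroup.normal_in_normalizer
  have h3 : (⟨n, hn⟩ : N) ^ q ∈ (S : Subgroup G).subgroupOf N :=
    CfsgLib.InvChar.mem_of_normal_of_coprime_index (p := 2) (k := k)
      (Subtype.ext (by simp [← pow_mul, mul_comm q, ← hkq, pow_orderOf_eq_one]))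
      (Nat.prime_two.coprime_iff_not_dvd.2 fun h =>
        S.not_dvd_index (h.trans (Subgroup.relIndex_dvd_index_of_le Subgroup.le_normalizer)))
  have h4 : n ^ q ∈ (S : Subgroup G) := h3
  have hit : ∀ j : ℕ, MulAut.conj (n ^ (2 * j + 1)) • x = y := by
    intro j
    induction j with
    | zero => rw [mul_zero, zero_add, pow_one, h1]
    | succ j ih =>
      rw [show 2 * (j + 1) + 1 = 1 + (1 + (2 * j + 1)) by ring, pow_add, map_mul, mul_smul, pow_one,
        pow_add, map_mul, mul_smul, ih, pow_one, h2, h1]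
  obtain ⟨j, rfl⟩ := hq
  rw [← hit j, hfix _ h4]

/-- The embedding of the model. -/
theorem main (S : Sylow 2 G) (ι : P →* G) (hι : Function.Injective ι) (hran : ι.range = (S : Subgroup G))
    (hsimple : IsSimpleGroup G) (hG : ¬ IsMulCommutative G) : False := by
  classical
  haveI : Fact (Nat.Prime 2) := ⟨Nat.prime_two⟩
  have hmem : ∀ x, ι x ∈ (S : Subgroup G) := fun x => hran ▸ ⟨x, rfl⟩
  have hsur : ∀ s ∈ (S : Subgroup G), ∃ x, ι x = s := fun s hs => (hran.symm ▸ hs : s ∈ ι.range)
  set a := ι pa with ha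
  set d := ι pd with hd
  obtain ⟨pa1, pd1, pad, padne, pa2, pd2⟩ := pa_ne
  have hSa : ∀ s ∈ (S : Subgroup G), Commute s a := fun s hs => by
    obtain ⟨x, rfl⟩ := hsur s hs
    show ι x * ι pa = ι pa * ι x
    rw [← map_mul, ← map_mul, central_a]
  have hSd : ∀ s ∈ (S : Subgroup G), Commute s d := fun s hs => by
    obtain ⟨x, rfl⟩ := hsur s hs
    show ι x * ι pd = ι pd * ι x
    rw [← map_mul, ← map_mul, central_d]
  set N := Subgroup.normalizer ((S : Subgroup G) : Set G) with hN
  have hNd : ∀ n ∈ N, n * d * n⁻¹ = d := by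
    intro n hn
    obtain ⟨x, hx⟩ := exists_square
    obtain ⟨y, hy⟩ := hsur _ ((Subgroup.mem_normalizer_iff.1 hn (ι x)).1 (hmem x))
    have e : n * d * n⁻¹ = ι (y * y) := by rw [hd, ← hx, map_mul, map_mul, hy]; group
    have hne : y * y ≠ 1 := fun h => by
      rw [h, map_one] at e
      exact pd1 (hι ((conj_eq_one_iff.1 e).trans (map_one ι).symm))
    rw [e, square_eq y hne, hd]
  have hcen : ∀ z : P, (∀ w, w * z = z * w) → ι z ∈ Subgroup.centralizer ((S : Subgroup G) : Set G) :=
    fun z hz s hs => by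
      obtain ⟨w, rfl⟩ := hsur s hs
      rw [← map_mul, ← map_mul, hz]
  -- fusion in the centre
  have had : ¬ IsConj a d := by
    intro h
    obtain ⟨g, hg⟩ := isConj_iff.1 h
    obtain ⟨n, hn, hn'⟩ := Sylow.conj_eq_normalizer_conj_of_mem_centralizer S a g⁻¹ (hcen _ central_a)
      (by rw [inv_inv, hg]; exact hcen _ central_d)
    rw [inv_inv, hg] at hn'
    have h2 : n * d * n⁻¹ = a := by rw [hn']; group
    rw [hNd n hn] at h2
    exact pad (hι h2.symm)
  have haad : ¬ IsConj a (a * d) := by
    intro h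
    obtain ⟨g, hg⟩ := isConj_iff.1 h
    have hmem' : a * d ∈ Subgroup.centralizer ((S : Subgroup G) : Set G) :=
      mul_mem (hcen _ central_a) (hcen _ central_d)
    obtain ⟨n, hn, hn'⟩ := Sylow.conj_eq_normalizer_conj_of_mem_centralizer S a g⁻¹ (hcen _ central_a)
      (by rw [inv_inv, hg]; exact hmem')
    rw [inv_inv, hg] at hn'
    have hdd : d * d = 1 := by rw [hd, ← map_mul, pd2, map_one]
    have h1 : MulAut.conj n • (a * d) = a := by
      show n * (a * d) * n⁻¹ = a; rw [hn']; group
    have h2 : MulAut.conj n • a = a * d := by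
      show n * a * n⁻¹ = a * d
      have e : n * a * n⁻¹ * (n * d * n⁻¹) = a := by
        rw [← show n * (a * d) * n⁻¹ = n * a * n⁻¹ * (n * d * n⁻¹) by group]; exact h1
      rw [hNd n hn] at e
      calc n * a * n⁻¹ = n * a * n⁻¹ * d * d := by rw [mul_assoc _ d d, hdd, mul_one]
        _ = a * d := by rw [e]
    have heq := eq_of_swap S hn (fun s hs => mul_inv_eq_iff_eq_mul.2 (hSa s hs).eq) h2 h1
    exact pd1 (hι ((left_eq_mul.1 heq).trans (map_one ι).symm))
  -- the elementary abelian halves
  let Q : Bool → Subgroup P := fun i =>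
    { carrier := {x | half i x}
      one_mem' := half_one i
      mul_mem' := fun {x y} hx hy => half_mul i x y hx hy
      inv_mem' := fun {x} hx => half_inv i x hx }
  let E : Bool → Subgroup G := fun i => (Q i).map ι
  have hES : ∀ i, E i ≤ (S : Subgroup G) := fun i => hran ▸ ι.range_eq_map ▸ Subgroup.map_mono le_top
  have hEn : ∀ i, ∀ s ∈ (S : Subgroup G), MulAut.conj s • E i = E i := by
    intro i s hs
    obtain ⟨w, rfl⟩ := hsur s hs
    refine le_antisymm ?_ ?_
    · rintro _ ⟨_, ⟨x, hx, rfl⟩, rfl⟩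
      exact ⟨w * x * w⁻¹, half_conj i x w hx, by simp⟩
    · rintro _ ⟨x, hx, rfl⟩
      refine ⟨ι (w⁻¹ * x * w), ⟨_, (by simpa using half_conj i x w⁻¹ hx : half i (w⁻¹ * x * w) = true), rfl⟩, ?_⟩
      show ι w * ι (w⁻¹ * x * w) * (ι w)⁻¹ = ι x
      rw [← map_inv, ← map_mul, ← map_mul]
      congr 1; group
  have hcard : ∀ i, Nat.card (E i) = 8 := fun i => by
    rw [Subgroup.card_map_of_injective hι]
    show Nat.card {x : P // half i x} = 8
    rw [Nat.card_eq_fintype_card]
    cases i <;> decide +kernel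
  have hmax : ∀ F : Subgroup G, F ≤ (S : Subgroup G) → (∀ x ∈ F, x * x = 1) →
      (∀ x ∈ F, ∀ y ∈ F, x * y = y * x) → Nat.card F = 8 → F = E false ∨ F = E true := by
    intro F hF hsq hc h8
    by_cases h : F ≤ E false
    · exact Or.inl (Subgroup.eq_of_le_of_card_ge h (by rw [hcard, h8]))
    by_cases h' : F ≤ E true
    · exact Or.inr (Subgroup.eq_of_le_of_card_ge h' (by rw [hcard, h8]))
    exfalso
    obtain ⟨u, huF, hu⟩ := SetLike.not_le_iff_exists.1 h
    obtain ⟨v, hvF, hv⟩ := SetLike.not_le_iff_exists.1 h'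
    obtain ⟨x, rfl⟩ := hsur u (hF huF)
    obtain ⟨y, rfl⟩ := hsur v (hF hvF)
    exact half_sep x y (hι (by rw [map_mul, hsq _ huF, map_one])) (hι (by rw [map_mul, hsq _ hvF, map_one]))
      (hι (by rw [map_mul, map_mul, hc _ huF _ hvF])) (fun hh => hu ⟨x, hh, rfl⟩) (fun hh => hv ⟨y, hh, rfl⟩)
  have himg : ∀ (k : G) (i : Bool), MulAut.conj k • E i ≤ (S : Subgroup G) →
      MulAut.conj k • E i = E false ∨ MulAut.conj k • E i = E true := by
    intro k i hle
    refine hmax _ hle ?_ ?_ ?_
    · rintro _ ⟨_, ⟨x, hx, rfl⟩, rfl⟩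
      show k * ι x * k⁻¹ * (k * ι x * k⁻¹) = 1
      calc k * ι x * k⁻¹ * (k * ι x * k⁻¹) = k * ι (x * x) * k⁻¹ := by rw [map_mul]; group
        _ = 1 := by rw [half_sq i x hx, map_one]; group
    · rintro _ ⟨_, ⟨x, hx, rfl⟩, rfl⟩ _ ⟨_, ⟨y, hy, rfl⟩, rfl⟩
      show k * ι x * k⁻¹ * (k * ι y * k⁻¹) = k * ι y * k⁻¹ * (k * ι x * k⁻¹)
      calc k * ι x * k⁻¹ * (k * ι y * k⁻¹) = k * ι (x * y) * k⁻¹ := by rw [map_mul]; group
        _ = _ := by rw [half_comm i x y hx hy, map_mul]; group
    · rw [Nat.card_congr (Subgroup.equivSMul (MulAut.conj k) (E i)).toEquiv.symm, hcard]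
  have hne : E false ≠ E true := by
    obtain ⟨x, hx, hx'⟩ := half_ne
    intro h
    obtain ⟨y, hy, hyx⟩ := (h ▸ ⟨x, hx, rfl⟩ : ι x ∈ E true)
    exact hx' (hι hyx ▸ hy)
  have hnoswap : ∀ (k : G) (i : Bool), MulAut.conj k • E i ≠ E (!i) := by
    intro k i hk
    set L := Subgroup.normalizer ((E i : Subgroup G) : Set G) with hL
    have hkS : MulAut.conj k⁻¹ • (S : Subgroup G) ≤ L := by
      intro t ht
      rw [Subgroup.mem_pointwise_smul_iff_inv_smul_mem, ← map_inv, inv_inv] at ht
      have hs : k * t * k⁻¹ ∈ (S : Subgroup G) := ht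
      have h2 : MulAut.conj t • E i = E i := by
        have h3 := hEn (!i) _ hs
        rw [← hk, ← mul_smul, ← map_mul, show k * t * k⁻¹ * k = k * t by group, map_mul, mul_smul] at h3
        exact smul_left_cancel _ h3
      rw [Subgroup.mem_normalizer_iff]
      intro z
      conv_rhs => rw [← h2]
      exact (Subgroup.smul_mem_pointwise_smul_iff (a := MulAut.conj t) (S := E i) (x := z)).symm
    have hSL : (S : Subgroup G) ≤ L := fun s hs => by
      rw [Subgroup.mem_normalizer_iff]
      intro z
      conv_rhs => rw [← hEn i s hs]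
      exact (Subgroup.smul_mem_pointwise_smul_iff (a := MulAut.conj s) (S := E i) (x := z)).symm
    let S' : Sylow 2 L := S.subtype hSL
    have hp : IsPGroup 2 ↥((MulAut.conj k⁻¹ • (S : Subgroup G)).subgroupOf L) :=
      ((S.2.of_equiv (Subgroup.equivSMul (MulAut.conj k⁻¹) _)).of_equiv
        (Subgroup.subgroupOfEquivOfLe hkS).symm)
    obtain ⟨m, hm⟩ := CfsgLib.Invol.exists_conj_mem_sylow S' hp
    set n := (m : G) * k⁻¹ with hn
    have hnN : n ∈ N := by
      have hle : MulAut.conj n • (S : Subgroup G) ≤ (S : Subgroup G) := by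
        rintro _ ⟨s, hs, rfl⟩
        have hmem2 : k⁻¹ * s * k ∈ MulAut.conj k⁻¹ • (S : Subgroup G) := ⟨s, hs, by simp⟩
        have h3 : (m : G) * (k⁻¹ * s * k) * (m : G)⁻¹ ∈ (S : Subgroup G) :=
          hm ⟨_, hkS hmem2⟩ hmem2
        show n * s * n⁻¹ ∈ (S : Subgroup G)
        rw [hn]; simpa [mul_assoc] using h3
      have heq := Subgroup.eq_of_le_of_card_ge hle
        (le_of_eq (Nat.card_congr (Subgroup.equivSMul (MulAut.conj n) _).toEquiv))
      rw [hN, Subgroup.mem_normalizer_iff]
      intro z
      conv_rhs => rw [← heq]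
      exact (Subgroup.smul_mem_pointwise_smul_iff (a := MulAut.conj n) (S := (S : Subgroup G)) (x := z)).symm
    have h1 : MulAut.conj n • E (!i) = E i := by
      rw [hn, map_mul, mul_smul, ← hk, map_inv, inv_smul_smul]
      refine le_antisymm ?_ ?_
      · rintro _ ⟨z, hz, rfl⟩
        exact (Subgroup.mem_normalizer_iff.1 m.2 z).1 hz
      · intro z hz
        refine ⟨(m : G)⁻¹ * z * m, (Subgroup.mem_normalizer_iff.1 m.2 _).2 (by simpa [mul_assoc] using hz), by simp [mul_assoc]⟩
    have h2 : MulAut.conj n • E i = E (!i) := by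
      have hle : MulAut.conj n • E i ≤ (S : Subgroup G) := by
        rintro _ ⟨z, hz, rfl⟩
        exact (Subgroup.mem_normalizer_iff.1 hnN z).1 (hES i hz)
      have hdist : MulAut.conj n • E i ≠ E i := fun h => by
        have := smul_left_cancel _ (h.trans h1.symm)
        cases i <;> simp_all
      rcases himg n i hle with h | h <;> cases i <;> simp_all
    have := eq_of_swap S hnN (hEn i) h2 h1
    cases i <;> simp_all
  -- in each half some reflection is not fused to `a`
  have hchoice : ∀ i, ∃ β, ¬ IsConj a (ι (refl i β)) := by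
    intro i
    by_contra hcon
    simp only [not_exists, not_not] at hcon
    obtain ⟨g, hg⟩ := isConj_iff.1 (hcon false).symm
    set C := Subgroup.centralizer ({a} : Set G) with hC
    have hSC : (S : Subgroup G) ≤ C := fun s hs => Subgroup.mem_centralizer_singleton_iff.2 (hSa s hs).eq
    have hgE : MulAut.conj g • E i ≤ C := by
      rintro _ ⟨_, ⟨x, hx, rfl⟩, rfl⟩
      refine Subgroup.mem_centralizer_singleton_iff.2 ?_
      show g * ι x * g⁻¹ * a = a * (g * ι x * g⁻¹)
      rw [← hg]
      have := half_comm i x (refl i false) hx (half_refl i false).1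
      calc g * ι x * g⁻¹ * (g * ι (refl i false) * g⁻¹) = g * ι (x * refl i false) * g⁻¹ := by
            rw [map_mul]; group
        _ = g * ι (refl i false * x) * g⁻¹ := by rw [this]
        _ = _ := by rw [map_mul]; group
    let S' : Sylow 2 C := S.subtype hSC
    have hp : IsPGroup 2 ↥((MulAut.conj g • E i).subgroupOf C) :=
      ((((S.2.to_le (hES i)))).of_equiv (Subgroup.equivSMul (MulAut.conj g) _)).of_equiv
        (Subgroup.subgroupOfEquivOfLe hgE).symm
    obtain ⟨h, hh⟩ := CfsgLib.Invol.exists_conj_mem_sylow S' hp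
    set k := (h : G) * g with hk
    have hle : MulAut.conj k • E i ≤ (S : Subgroup G) := by
      rw [hk, map_mul, mul_smul]
      rintro _ ⟨z, hz, rfl⟩
      exact hh ⟨z, hgE hz⟩ hz
    have hkE : MulAut.conj k • E i = E i := by
      rcases himg k i hle with h1 | h1 <;> cases i <;>
        first
          | exact h1
          | exact absurd h1 (hnoswap k false)
          | exact absurd h1 (hnoswap k true)
    have hkb : k * ι (refl i false) * k⁻¹ = a := by
      have hha : (h : G) * a * (h : G)⁻¹ = a :=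
        mul_inv_eq_iff_eq_mul.2 (Subgroup.mem_centralizer_singleton_iff.1 h.2)
      calc k * ι (refl i false) * k⁻¹ = (h : G) * (g * ι (refl i false) * g⁻¹) * (h : G)⁻¹ := by rw [hk]; group
        _ = a := by rw [hg, hha]
    -- the complementary pair of the orbit is `{d, a * d}`
    have hpair : ∀ x : P, half i x → x ≠ 1 → ¬ IsConj a (ι x) → x = pd ∨ x = pa * pd := by
      intro x hx hx1 hxa
      have hbd : ∀ β, IsConj a (ι (refl i β * pd)) := fun β => (hcon β).trans (isConj_iff.2
        ⟨ι (refl (!i) false), by rw [← map_inv, ← map_mul, ← map_mul, refl_conj]⟩)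
      rcases half_cases i x hx with h | h | h | h | h | h | h | h <;> subst h
      · exact absurd rfl hx1
      · exact absurd (IsConj.refl a) hxa
      · exact Or.inl rfl
      · exact Or.inr rfl
      · exact absurd (hcon false) hxa
      · exact absurd (hbd false) hxa
      · exact absurd (hcon true) hxa
      · exact absurd (hbd true) hxa
    have hYimg : ∀ x : P, half i x → x ≠ 1 → ¬ IsConj a (ι x) →
        k * ι x * k⁻¹ = d ∨ k * ι x * k⁻¹ = a * d := by
      intro x hx hx1 hxa
      have hmemE : k * ι x * k⁻¹ ∈ E i := by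
        have hz : MulAut.conj k • ι x ∈ MulAut.conj k • E i :=
          Subgroup.smul_mem_pointwise_smul (ι x) (MulAut.conj k) (E i) ⟨x, hx, rfl⟩
        rw [hkE] at hz
        exact hz
      obtain ⟨y, hy, hyx⟩ := hmemE
      rcases hpair y hy (fun h1 => hx1 (hι (by
          rw [h1, map_one] at hyx
          rw [map_one]
          exact conj_eq_one_iff.1 hyx.symm)))
        (fun hya => hxa (hya.trans (by rw [hyx]; exact (isConj_iff.2 ⟨k, rfl⟩).symm))) with h | h
      · left; rw [← hyx, h]
      · right; rw [← hyx, h, map_mul]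
    have hd_half := half_central i
    have e1 := hYimg pd hd_half.1 pd1 had
    have e2 := hYimg (pa * pd) hd_half.2 padne (by rw [map_mul]; exact haad)
    have hka : k * a * k⁻¹ = a := by
      have hdd : d * d = 1 := by rw [hd, ← map_mul, pd2, map_one]
      have haa : a * a = 1 := by rw [ha, ← map_mul, pa2, map_one]
      have hsplit : k * a * k⁻¹ = (k * ι (pa * pd) * k⁻¹) * (k * ι pd * k⁻¹) := by
        rw [map_mul, ← ha, ← hd]
        calc k * a * k⁻¹ = k * (a * (d * d)) * k⁻¹ := by rw [hdd, mul_one]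
          _ = _ := by group
      have hdne : (k * ι (pa * pd) * k⁻¹) ≠ (k * ι pd * k⁻¹) := by
        intro h
        have h' := hι (mul_left_cancel (mul_right_cancel h))
        exact pa1 (mul_eq_right.1 h')
      rw [hsplit]
      rcases e1 with h1 | h1 <;> rcases e2 with h2 | h2 <;> rw [h1, h2] at hdne ⊢
      · exact absurd rfl hdne
      · rw [mul_assoc, hdd, mul_one]
      · rw [← mul_assoc, show d * a = a * d from ((hSd _ (hmem pa))).symm.eq, mul_assoc, hdd, mul_one]
      · exact absurd rfl hdne
    exact (half_refl i false).2 (hι (mul_left_cancel (mul_right_cancel (hkb.trans hka.symm))))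
  obtain ⟨β, hβ⟩ := hchoice false
  obtain ⟨γ, hγ⟩ := hchoice true
  -- transfer
  let M : Subgroup P :=
    { carrier := {x | inM β γ x}
      one_mem' := inM_one β γ
      mul_mem' := fun {x y} hx hy => inM_mul β γ x y hx hy
      inv_mem' := fun {x} hx => inM_inv β γ x hx }
  have hMi : M.index = 2 := by
    rw [Subgroup.index_eq_two_iff]
    refine ⟨pa, fun x => ?_⟩
    have h := inM_xor β γ x
    show Xor' (inM β γ (x * pa) = true) (inM β γ x = true)
    cases hx : inM β γ x <;> cases hy : inM β γ (x * pa) <;> simp_all [Xor']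
  have hQS : M.map ι ≤ (S : Subgroup G) := by rw [← hran, ι.range_eq_map]; exact Subgroup.map_mono le_top
  have hQi : (M.map ι).relIndex (S : Subgroup G) = 2 := by
    rw [← hran, ι.range_eq_map, Subgroup.relIndex_map_map_of_injective _ _ hι, Subgroup.relIndex_top_right, hMi]
  rcases CfsgLib.Transfer.thompson_transfer_involution S hQS hQi (u := a)
      (by rw [pow_two, ha, ← map_mul, pa2, map_one]) (hmem pa) with ⟨K, hK, hK2, -⟩ | ⟨g, hg⟩
  · rcases hK.eq_bot_or_eq_top with h | h
    · refine hG ?_
      rw [h, Subgroup.index_bot] at hK2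
      haveI : IsCyclic G := isCyclic_of_prime_card (p := 2) hK2
      exact ⟨⟨fun x y => by
        obtain ⟨z, hz⟩ := IsCyclic.exists_generator (α := G)
        obtain ⟨i, rfl⟩ := hz x
        obtain ⟨j, rfl⟩ := hz y
        exact ((Commute.refl z).zpow_zpow i j).eq⟩⟩
    · rw [h, Subgroup.index_top] at hK2
      omega
  · obtain ⟨x, hxM, hx⟩ := hg
    have hc : IsConj a (ι x) := isConj_iff.2 ⟨g, hx.symm⟩
    have hx2 : x * x = 1 := hι (by
      rw [map_mul, hx, map_one, show g * a * g⁻¹ * (g * a * g⁻¹) = g * (a * a) * g⁻¹ by group,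
        show a * a = 1 by rw [ha, ← map_mul, pa2, map_one]]
      group)
    have hbd : ∀ i β', IsConj (ι (refl i β')) (ι (refl i β' * pd)) := fun i β' =>
      isConj_iff.2 ⟨ι (refl (!i) false), by rw [← map_inv, ← map_mul, ← map_mul, refl_conj]⟩
    rcases inM_invol β γ x hxM hx2 with h | h | h | h | h | h <;> subst h
    · rw [map_one] at hc
      exact pa1 (hι ((isConj_one_left.1 hc).trans (map_one ι).symm))
    · exact had hc
    · exact hβ hc
    · exact hβ (hc.trans (hbd false β).symm)
    · exact hγ hc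
    · exact hγ (hc.trans (hbd true γ).symm)

/-- A finite group whose Sylow 2-subgroups are isomorphic to the direct product of a group of order 2 and the dihedral group of order 8 is not a non-abelian simple group. -/
theorem result {G : Type*} [Group G] [Finite G] (S : Sylow 2 G) (hS : Nonempty (↥(S : Subgroup G) ≃* Multiplicative (ZMod 2) × DihedralGroup 4))
    [IsSimpleGroup G] (hG : ¬ IsMulCommutative G) : False := by
  obtain ⟨e⟩ := hS
  exact main S ((S : Subgroup G).subtype.comp e.symm.toMonoidHom)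
    ((Subgroup.subtype_injective _).comp e.symm.injective)
    (by rw [MonoidHom.range_comp, MonoidHom.range_eq_top.2 e.symm.surjective, ← MonoidHom.range_eq_map, Subgroup.range_subtype])
    inferInstance hG

end Cfsg.Agent.S3309
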