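import Cfsg.Statements.S3313
import Cfsg.Agent.Lib.InvChar.HallJankoCount
import Cfsg.Agent.Lib.Comp.FStar
import Cfsg.Agent.Lib.Solvable.Fitting
import Cfsg.Agent.Lib.Invol.Basic
import Cfsg.Agent.S1875

set_option autoImplicit false
open Cfsg
open scoped Pointwise

namespace Cfsg.Agent.S3313

/-- Counting pairs with first member in a class. -/
theorem fib {G : Type*} [Group G] [Finite G] {T : Type*} [Finite T] (c : G → T ≃ T) (a : G)
    (R : G → T → Prop) (hR : ∀ g y, R (g * a * g⁻¹) (c g y) ↔ R a y) :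
    Nat.card {p : G × T // IsConj a p.1 ∧ R p.1 p.2} * Nat.card ↥(Subgroup.centralizer ({a} : Set G)) =
      Nat.card G * Nat.card {y : T // R a y} := by
  classical
  have e : {p : G × T // IsConj a p.1 ∧ R p.1 p.2} ≃
      Σ x : {x : G // IsConj a x}, {y : T // R x.1 y} :=
    { toFun := fun p => ⟨⟨p.1.1, p.2.1⟩, ⟨p.1.2, p.2.2⟩⟩
      invFun := fun s => ⟨(s.1.1, s.2.1), s.1.2, s.2.2⟩
      left_inv := fun _ => rfl
      right_inv := fun _ => rfl }
  have hfib : ∀ x : {x : G // IsConj a x},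
      Nat.card {y : T // R x.1 y} = Nat.card {y : T // R a y} := by
    intro x
    obtain ⟨g, hg⟩ := isConj_iff.1 x.2
    refine (Nat.card_congr ((c g).subtypeEquiv fun y => ?_)).symm
    rw [← hg]
    exact (hR g y).symm
  haveI : Fintype {x : G // IsConj a x} := Fintype.ofFinite _
  rw [Nat.card_congr e, Nat.card_sigma, Finset.sum_congr rfl fun x _ => hfib x, Finset.sum_const,
    Finset.card_univ, smul_eq_mul, ← Nat.card_eq_fintype_card, mul_right_comm,
    CfsgLib.Invol.card_class_mul_card_centralizer]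

theorem conj_inv_iff {G : Type*} [Group G] {a b g : G} :
    IsConj a (g * b * g⁻¹) ↔ IsConj a b :=
  ⟨fun h => h.trans (isConj_iff.2 ⟨g, rfl⟩ : IsConj b _).symm, fun h => h.trans (isConj_iff.2 ⟨g, rfl⟩)⟩

theorem conj_comm_iff {G : Type*} [Group G] {a b g : G} :
    g * a * g⁻¹ * (g * b * g⁻¹) = g * b * g⁻¹ * (g * a * g⁻¹) ↔ a * b = b * a := by
  rw [show g * a * g⁻¹ * (g * b * g⁻¹) = g * (a * b) * g⁻¹ by group,
    show g * b * g⁻¹ * (g * a * g⁻¹) = g * (b * a) * g⁻¹ by group]
  simp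

/-- The order of a simple group with the involution pattern of the Hall–Janko group. Let G be a non-abelian finite simple group with exactly two conjugacy classes of involutions, represented by z and t, such that: F*(C_G(z)) is an extraspecial 2-group; Q = O₂(C_G(z)) has order 32 and C_G(z) is the semidirect product of Q by a subgroup isomorphic to A₅; every involution of Q is conjugate to z and every other involution of C_G(z) is conjugate to t; C_G(t) is an internal direct product V × B with V a four-group containing t and B ≅ A₅; every involution of B is conjugate to z and every other involution of C_G(t) is conjugate to t. Then |G| = 604800. -/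
theorem result {G : Type*} [Group G] [Finite G]
    [IsSimpleGroup G] (hna : ¬ IsMulCommutative G) (z t : G) (hz : orderOf z = 2) (ht : orderOf t = 2)
    (hzt : ¬ IsConj z t) (hcl : ∀ x : G, orderOf x = 2 → IsConj x z ∨ IsConj x t)
    (hex : Cfsg.IsExtraspecial 2 ↥(Cfsg.generalizedFittingSubgroup ↥(Subgroup.centralizer ({z} : Set G))))
    (hQ : Nat.card ↥(Cfsg.pCore 2 ↥(Subgroup.centralizer ({z} : Set G))) = 32)
    (K : Subgroup G) (hK : Nonempty (↥K ≃* alternatingGroup (Fin 5)))
    (hKC : K ⊔ (Cfsg.pCore 2 ↥(Subgroup.centralizer ({z} : Set G))).map (Subgroup.centralizer ({z} : Set G)).subtype = Subgroup.centralizer ({z} : Set G))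
    (hKQ : K ⊓ (Cfsg.pCore 2 ↥(Subgroup.centralizer ({z} : Set G))).map (Subgroup.centralizer ({z} : Set G)).subtype = ⊥)
    (hQz : ∀ x ∈ (Cfsg.pCore 2 ↥(Subgroup.centralizer ({z} : Set G))).map (Subgroup.centralizer ({z} : Set G)).subtype, orderOf x = 2 → IsConj x z)
    (hCz : ∀ x ∈ Subgroup.centralizer ({z} : Set G), orderOf x = 2 →
      x ∉ (Cfsg.pCore 2 ↥(Subgroup.centralizer ({z} : Set G))).map (Subgroup.centralizer ({z} : Set G)).subtype → IsConj x t)
    (V B : Subgroup G) (hVB : Cfsg.IsInternalDirectProduct V B (Subgroup.centralizer ({t} : Set G)))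
    (hV : Nat.card ↥V = 4) (hV2 : ∀ v ∈ V, v ^ 2 = 1) (htV : t ∈ V) (hB : Nonempty (↥B ≃* alternatingGroup (Fin 5)))
    (hBz : ∀ x ∈ B, orderOf x = 2 → IsConj x z)
    (hCt : ∀ x ∈ Subgroup.centralizer ({t} : Set G), orderOf x = 2 → x ∉ B → IsConj x t) :
    Nat.card G = 604800 := by
  classical
  haveI : Fintype G := Fintype.ofFinite G
  haveI : Fact (Nat.Prime 2) := ⟨Nat.prime_two⟩
  set H := Subgroup.centralizer ({z} : Set G) with hH
  set Qc := Cfsg.pCore 2 ↥H with hQc
  set Q := Qc.map H.subtype with hQdef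
  have hzz : z * z = 1 := CfsgLib.Invol.invol_mul_self hz
  have htt : t * t = 1 := CfsgLib.Invol.invol_mul_self ht
  -- `Q` is extraspecial and self-centralizing
  haveI hQn : Qc.Normal := CfsgLib.Solvable.pCore_normal 2 ↥H
  have hQp : IsPGroup 2 ↥Qc := IsPGroup.of_card (n := 5) (by rw [hQ]; norm_num)
  have hFQ : Cfsg.generalizedFittingSubgroup ↥H = Qc := by
    refine le_antisymm ?_ ((CfsgLib.Solvable.pCore_le_fittingSubgroup 2).trans
      (CfsgLib.Comp.fittingSubgroup_le_generalizedFitting _))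
    exact le_sSup ⟨(CfsgLib.Comp.generalizedFittingSubgroup_normal _), hex.1.1⟩
  rw [hFQ] at hex
  have hCQ : Subgroup.centralizer (Qc : Set ↥H) ≤ Qc := by
    rw [← hFQ]
    exact CfsgLib.Comp.centralizer_generalizedFitting_le ↥H
  have hQH : Q ≤ H := Subgroup.map_subtype_le Qc
  have hmemQ : ∀ a : ↥H, (a : G) ∈ Q ↔ a ∈ Qc := fun a =>
    Subgroup.mem_map_iff_mem H.subtype_injective
  have hKH : K ≤ H := hKC ▸ le_sup_left
  have hQnorm : ∀ g ∈ H, ∀ a ∈ Q, g * a * g⁻¹ ∈ Q := by
    rintro g hg _ ⟨a, ha, rfl⟩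
    exact ⟨⟨g, hg⟩ * a * ⟨g, hg⟩⁻¹, hQn.conj_mem a ha _, rfl⟩
  obtain ⟨eK⟩ := hK
  obtain ⟨eB⟩ := hB
  have hA5 : Nat.card ↥(alternatingGroup (Fin 5)) = 60 := by
    rw [nat_card_alternatingGroup, Nat.card_fin]; rfl
  have hKc : Nat.card ↥K = 60 := by rw [Nat.card_congr eK.toEquiv, hA5]
  have hBc : Nat.card ↥B = 60 := by rw [Nat.card_congr eB.toEquiv, hA5]
  have hQc32 : Nat.card ↥Q = 32 := by
    rw [hQdef, Subgroup.card_map_of_injective H.subtype_injective, hQ]
  -- the centralizer orders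
  have hHc : Nat.card ↥H = 1920 := by
    have hcoe : ((K ⊔ Q : Subgroup G) : Set G) = (K : Set G) * (Q : Set G) :=
      Subgroup.coe_mul_of_left_le_normalizer_right K Q fun g hg =>
        Subgroup.mem_normalizer_iff.2 fun a => ⟨fun ha => hQnorm g (hKH hg) a ha, fun ha => by
          have := hQnorm g⁻¹ (inv_mem (hKH hg)) _ ha
          rwa [show g⁻¹ * (g * a * g⁻¹) * g⁻¹⁻¹ = a by group] at this⟩
    rw [← hKC]
    have hb : Function.Bijective fun p : ↥K × ↥Q =>
        (⟨(p.1 : G) * p.2, mul_mem (Subgroup.mem_sup_left p.1.2) (Subgroup.mem_sup_right p.2.2)⟩ :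
          ↥(K ⊔ Q)) := by
      refine ⟨fun p q h => Subgroup.mul_injective_of_disjoint (disjoint_iff.2 hKQ)
        (congrArg Subtype.val h), fun a => ?_⟩
      have : (a : G) ∈ (K : Set G) * (Q : Set G) := hcoe ▸ a.2
      obtain ⟨k, hk, b, hb, e⟩ := this
      exact ⟨(⟨k, hk⟩, ⟨b, hb⟩), Subtype.ext e⟩
    rw [← Nat.card_eq_of_bijective _ hb, Nat.card_prod, hKc, hQc32]
  obtain ⟨hVC, hBC, hVBc, hVBi, hVBs⟩ := hVB
  set Ct := Subgroup.centralizer ({t} : Set G) with hCtdef
  have hdec : ∀ a ∈ Ct, ∃ v ∈ V, ∃ b ∈ B, v * b = a := by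
    intro a ha
    rw [← hVBs] at ha
    have hcoe : ((V ⊔ B : Subgroup G) : Set G) = (V : Set G) * (B : Set G) :=
      Subgroup.coe_mul_of_left_le_normalizer_right V B fun v hv =>
        Subgroup.mem_normalizer_iff.2 fun b => ⟨fun hb => by
          rwa [hVBc v hv b hb, mul_inv_cancel_right], fun hb => by
          have h := hVBc v⁻¹ (inv_mem hv) _ hb
          have : b = v⁻¹ * (v * b * v⁻¹) * v := by group
          rw [h, inv_mul_cancel_right] at this
          rwa [this]⟩
    have : a ∈ (V : Set G) * (B : Set G) := hcoe ▸ ha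
    obtain ⟨v, hv, b, hb, e⟩ := this
    exact ⟨v, hv, b, hb, e⟩
  have hCtc : Nat.card ↥Ct = 240 := by
    have hb : Function.Bijective fun p : ↥V × ↥B =>
        (⟨(p.1 : G) * p.2, mul_mem (hVC p.1.2) (hBC p.2.2)⟩ : ↥Ct) := by
      refine ⟨fun p q h => Subgroup.mul_injective_of_disjoint (disjoint_iff.2 hVBi)
        (congrArg Subtype.val h), fun a => ?_⟩
      obtain ⟨v, hv, b, hb, e⟩ := hdec a a.2
      exact ⟨(⟨v, hv⟩, ⟨b, hb⟩), Subtype.ext e⟩
    rw [← Nat.card_eq_of_bijective _ hb, Nat.card_prod, hV, hBc]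
  -- the two classes inside the centralizers
  have hnzt : ∀ a, IsConj z a → IsConj t a → False := fun a h1 h2 => hzt (h1.trans h2.symm)
  have hzinv : ∀ a, IsConj z a → orderOf a = 2 := fun a h =>
    (CfsgLib.Invol.orderOf_eq_of_isConj h).trans hz
  have htinv : ∀ a, IsConj t a → orderOf a = 2 := fun a h =>
    (CfsgLib.Invol.orderOf_eq_of_isConj h).trans ht
  have hzin : ∀ a ∈ H, IsConj z a → a ∈ Q := fun a ha h => by
    by_contra hn
    exact hnzt a h (hCz a ha (hzinv a h) hn).symm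
  have hzQ : ∀ a ∈ Q, orderOf a = 2 → IsConj z a := fun a ha ho => (hQz a ha ho).symm
  have hBin : ∀ a ∈ Ct, IsConj z a → a ∈ B := fun a ha h => by
    by_contra hn
    exact hnzt a h (hCt a ha (hzinv a h) hn).symm
  have hzB : ∀ a ∈ B, orderOf a = 2 → IsConj z a := fun a ha ho => (hBz a ha ho).symm
  -- facts about `Q`
  obtain ⟨⟨r, hrK⟩, hr⟩ := exists_prime_orderOf_dvd_card' (G := ↥K) (p := 5)
    (hp := ⟨by norm_num⟩) (by rw [hKc]; norm_num)
  rw [← Subgroup.orderOf_coe] at hr
  change orderOf r = 5 at hr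
  set r' : ↥H := ⟨r, hKH hrK⟩ with hr'
  have hrQ : r ∉ Q := fun h => by
    have : r ∈ K ⊓ Q := ⟨hrK, h⟩
    rw [hKQ, Subgroup.mem_bot] at this
    rw [this, orderOf_one] at hr
    omega
  set ρ : MulAut ↥Qc := MulAut.conjNormal r' with hρdef
  have hρ5 : ρ ^ 5 = 1 := by
    rw [hρdef, ← map_pow]
    have : r' ^ 5 = 1 := Subtype.ext (by
      rw [Subgroup.coe_pow]
      show r ^ 5 = 1
      rw [← hr, pow_orderOf_eq_one])
    rw [this, map_one]
  have hρ1 : ρ ≠ 1 := by
    intro h
    refine hrQ ((hmemQ r').2 (hCQ (Subgroup.mem_centralizer_iff.2 fun a ha => ?_)))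
    have := congrArg Subtype.val (DFunLike.congr_fun h ⟨a, ha⟩)
    rw [hρdef, MulAut.conjNormal_apply] at this
    change r' * a * r'⁻¹ = a at this
    exact (mul_inv_eq_iff_eq_mul.1 this).symm
  obtain ⟨hN12, hcom⟩ := CfsgLib.InvChar.HJ.extraspecial_five hex hQ ρ hρ5 hρ1
  -- the centre of `Q` is `⟨z⟩`
  have hzH : z ∈ H := Subgroup.mem_centralizer_singleton_iff.2 rfl
  have hzQmem : z ∈ Q := hzin z hzH (IsConj.refl z)
  have hZ2 : ∀ a : ↥Qc, a ∈ Subgroup.center ↥Qc → ((a : ↥H) : G) = 1 ∨ ((a : ↥H) : G) = z := by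
    intro a ha
    by_cases h1 : a = 1
    · exact Or.inl (by rw [h1]; rfl)
    · refine Or.inr ?_
      have hzc : (⟨⟨z, hzH⟩, (hmemQ _).1 hzQmem⟩ : ↥Qc) ∈ Subgroup.center ↥Qc :=
        Subgroup.mem_center_iff.2 fun b => Subtype.ext (Subtype.ext
          (Subgroup.mem_centralizer_singleton_iff.1 (b : ↥H).2))
      rw [CfsgLib.Transfer.es_two_central_eq hex ha hzc h1 fun e =>
        CfsgLib.Invol.invol_ne_one hz (congrArg (fun b : ↥Qc => ((b : ↥H) : G)) e)]
  have hQsq : ∀ a ∈ Q, a * a = 1 ∨ a * a = z := by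
    rintro _ ⟨a, ha, rfl⟩
    have := hZ2 (⟨a, ha⟩ * ⟨a, ha⟩) (by
      rw [← pow_two]; exact CfsgLib.Transfer.es_two_sq_mem hex _)
    exact this
  -- non-central involutions of `Q`
  have hpairQ : ∀ x ∈ Q, ∀ y ∈ Q, orderOf x = 2 → orderOf y = 2 → x ≠ z → y ≠ z →
      x * y = y * x → y = x ∨ y = x * z := by
    rintro _ ⟨x, hx, rfl⟩ _ ⟨y, hy, rfl⟩ hox hoy hxz hyz hxy
    have sq : ∀ a : ↥H, (ha : a ∈ Qc) → orderOf (a : G) = 2 → (⟨a, ha⟩ : ↥Qc) ^ 2 = 1 := by
      intro a ha ho
      refine Subtype.ext (Subtype.ext ?_)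
      rw [pow_two]
      exact CfsgLib.Invol.invol_mul_self ho
    have nc : ∀ a : ↥H, (ha : a ∈ Qc) → orderOf (a : G) = 2 → (a : G) ≠ z →
        (⟨a, ha⟩ : ↥Qc) ∉ Subgroup.center ↥Qc := by
      intro a ha ho haz hc
      rcases hZ2 _ hc with e | e
      · exact CfsgLib.Invol.invol_ne_one ho e
      · exact haz e
    have := hZ2 _ (hcom ⟨x, hx⟩ ⟨y, hy⟩ (sq x hx hox) (sq y hy hoy) (nc x hx hox hxz)
      (nc y hy hoy hyz) (Subtype.ext (Subtype.ext hxy)))
    change (x : G)⁻¹ * y = 1 ∨ (x : G)⁻¹ * y = z at this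
    rcases this with e | e
    · exact Or.inl (inv_mul_eq_one.1 e).symm
    · refine Or.inr ?_
      show (y : G) = (x : G) * z
      rw [← e, mul_inv_cancel_left]
  let S : Finset G := Finset.univ.filter fun x => IsConj z x ∧ x ∈ H ∧ x ≠ z
  have hS : S.card = 10 := by
    have h1 : Nat.card {x : ↥Qc // x ^ 2 = 1} = (Finset.univ.filter fun x : G => x ∈ Q ∧ x * x = 1).card := by
      rw [← Fintype.card_subtype, ← Nat.card_eq_fintype_card]
      refine Nat.card_congr
        { toFun := fun a => ⟨((a.1 : ↥H) : G), (hmemQ _).2 a.1.2, by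
            have := congrArg (fun b : ↥Qc => ((b : ↥H) : G)) a.2
            rw [pow_two] at this
            exact this⟩
          invFun := fun a => ⟨⟨⟨a.1, hQH a.2.1⟩, (hmemQ ⟨a.1, hQH a.2.1⟩).1 a.2.1⟩, by
            rw [pow_two]; exact Subtype.ext (Subtype.ext a.2.2)⟩
          left_inv := fun a => rfl
          right_inv := fun a => rfl }
    have h2 : (Finset.univ.filter fun x : G => x ∈ Q ∧ x * x = 1) = insert 1 (insert z S) := by
      ext x
      simp only [Finset.mem_insert, Finset.mem_filter, Finset.mem_univ, true_and, S]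
      constructor
      · rintro ⟨hx, hxx⟩
        by_cases h1 : x = 1
        · exact Or.inl h1
        · by_cases h2 : x = z
          · exact Or.inr (Or.inl h2)
          · exact Or.inr (Or.inr ⟨hzQ x hx (CfsgLib.Invol.invol_of_mul_self hxx h1), hQH hx, h2⟩)
      · rintro (rfl | rfl | ⟨h, hH', -⟩)
        · exact ⟨one_mem Q, one_mul 1⟩
        · exact ⟨hzQmem, hzz⟩
        · exact ⟨hzin x hH' h, CfsgLib.Invol.invol_mul_self (hzinv x h)⟩
    rw [hN12, h2, Finset.card_insert_of_notMem, Finset.card_insert_of_notMem] at h1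
    · omega
    · simp [S]
    · simp only [Finset.mem_insert, Finset.mem_filter, Finset.mem_univ, true_and, S, not_or]
      exact ⟨(CfsgLib.Invol.invol_ne_one hz).symm,
        fun h => CfsgLib.Invol.invol_ne_one (hzinv 1 h.1) rfl⟩
  -- counts in `A5`
  have hBfin : ∀ (P : G × G → Prop) (P' : ↥(alternatingGroup (Fin 5)) × ↥(alternatingGroup (Fin 5)) → Prop),
      (∀ p, P p → p.1 ∈ B ∧ p.2 ∈ B) → (∀ a b : ↥B, P ((a : G), (b : G)) ↔ P' (eB a, eB b)) →
      Nat.card {p : G × G // P p} = Nat.card {p // P' p} := by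
    intro P P' hmem hiff
    refine Nat.card_congr
      { toFun := fun p => ⟨(eB ⟨p.1.1, (hmem _ p.2).1⟩, eB ⟨p.1.2, (hmem _ p.2).2⟩),
          (hiff _ _).1 p.2⟩
        invFun := fun p => ⟨((eB.symm p.1.1 : G), (eB.symm p.1.2 : G)),
          (hiff _ _).2 (by simpa using p.2)⟩
        left_inv := fun p => by simp
        right_inv := fun p => by simp }
  have hBinv : ∀ a : ↥B, (eB a * eB a = 1 ∧ eB a ≠ 1) ↔ orderOf (a : G) = 2 := by
    intro a
    rw [← map_mul, map_eq_one_iff _ eB.injective, Ne, map_eq_one_iff _ eB.injective]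
    constructor
    · exact fun h => CfsgLib.Invol.invol_of_mul_self (congrArg Subtype.val h.1)
        fun e => h.2 (Subtype.ext e)
    · exact fun h => ⟨Subtype.ext (CfsgLib.Invol.invol_mul_self h),
        fun e => CfsgLib.Invol.invol_ne_one h (congrArg Subtype.val e)⟩
  have hBconj : ∀ a, IsConj z a ∧ a * t = t * a ↔ a ∈ B ∧ orderOf a = 2 := by
    intro a
    constructor
    · rintro ⟨h, hc⟩
      exact ⟨hBin a (Subgroup.mem_centralizer_singleton_iff.2 hc) h, hzinv a h⟩
    · rintro ⟨h, ho⟩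
      exact ⟨hzB a h ho, Subgroup.mem_centralizer_singleton_iff.1 (hBC h)⟩
  have h15 : Nat.card {x : G // IsConj z x ∧ x * t = t * x} = 15 := by
    rw [Nat.card_congr (Equiv.subtypeEquivRight hBconj), ← CfsgLib.InvChar.HJ.a5_involutions,
      ← Fintype.card_subtype, ← Nat.card_eq_fintype_card]
    exact Nat.card_congr
      { toFun := fun x => ⟨eB ⟨x.1, x.2.1⟩, (hBinv _).2 x.2.2⟩
        invFun := fun x => ⟨(eB.symm x.1 : G), (eB.symm x.1).2, (hBinv _).1 (by simpa using x.2)⟩
        left_inv := fun x => by simp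
        right_inv := fun x => by simp }
  -- double counting
  let cj : G → G ≃ G := fun g => (MulAut.conj g).toEquiv
  let cj2 : G → G × G ≃ G × G := fun g => (cj g).prodCongr (cj g)
  have hX : Nat.card {y : G // IsConj t y ∧ z * y = y * z} = 120 := by
    have h1 := fib cj z (fun a y => IsConj t y ∧ a * y = y * a) fun g y =>
      and_congr conj_inv_iff conj_comm_iff
    have h2 := fib cj t (fun a x => IsConj z x ∧ x * a = a * x) fun g y =>
      and_congr conj_inv_iff conj_comm_iff
    rw [hHc] at h1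
    rw [hCtc, h15] at h2
    rw [Nat.card_congr
      ({ toFun := fun p => ⟨(p.1.2, p.1.1), p.2.2.1, p.2.1, p.2.2.2⟩
         invFun := fun p => ⟨(p.1.2, p.1.1), p.2.2.1, p.2.1, p.2.2.2⟩
         left_inv := fun _ => rfl
         right_inv := fun _ => rfl } :
        {p : G × G // IsConj z p.1 ∧ IsConj t p.2 ∧ p.1 * p.2 = p.2 * p.1} ≃
          {p : G × G // IsConj t p.1 ∧ IsConj z p.2 ∧ p.2 * p.1 = p.1 * p.2})] at h1
    apply Nat.eq_of_mul_eq_mul_left (Nat.card_pos (α := G))
    rw [← h1]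
    linarith
  have hN : Nat.card {q : G × G // IsConj z q.1 ∧ q.1 ≠ z ∧ z * q.1 = q.1 * z ∧
      IsConj t q.2 ∧ z * q.2 = q.2 * z ∧ q.1 * q.2 = q.2 * q.1} = 240 := by
    have h1 := fib cj2 z (fun a q => IsConj z q.1 ∧ q.1 ≠ a ∧ a * q.1 = q.1 * a ∧
      IsConj t q.2 ∧ a * q.2 = q.2 * a ∧ q.1 * q.2 = q.2 * q.1) fun g q =>
      and_congr conj_inv_iff (and_congr (not_congr (MulAut.conj g).injective.eq_iff)
        (and_congr conj_comm_iff (and_congr conj_inv_iff (and_congr conj_comm_iff conj_comm_iff))))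
    have h2 := fib cj2 t (fun a q => IsConj z q.1 ∧ IsConj z q.2 ∧ q.2 ≠ q.1 ∧
      q.1 * q.2 = q.2 * q.1 ∧ q.1 * a = a * q.1 ∧ q.2 * a = a * q.2) fun g q =>
      and_congr conj_inv_iff (and_congr conj_inv_iff (and_congr
        (not_congr (MulAut.conj g).injective.eq_iff)
        (and_congr conj_comm_iff (and_congr conj_comm_iff conj_comm_iff))))
    have h30 : Nat.card {q : G × G // IsConj z q.1 ∧ IsConj z q.2 ∧ q.2 ≠ q.1 ∧
        q.1 * q.2 = q.2 * q.1 ∧ q.1 * t = t * q.1 ∧ q.2 * t = t * q.2} = 30 := by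
      rw [hBfin _ (fun p => p.1 * p.1 = 1 ∧ p.1 ≠ 1 ∧ p.2 * p.2 = 1 ∧ p.2 ≠ 1 ∧
        p.1 * p.2 = p.2 * p.1 ∧ p.1 ≠ p.2), Nat.card_eq_fintype_card, Fintype.card_subtype,
        CfsgLib.InvChar.HJ.a5_commuting_pairs]
      · rintro p ⟨h1, h2, -, -, h5, h6⟩
        exact ⟨((hBconj _).1 ⟨h1, h5⟩).1, ((hBconj _).1 ⟨h2, h6⟩).1⟩
      · intro a b
        constructor
        · rintro ⟨h1, h2, h3, h4, h5, h6⟩
          obtain ⟨p1, p2⟩ := (hBinv a).2 ((hBconj _).1 ⟨h1, h5⟩).2
          obtain ⟨p3, p4⟩ := (hBinv b).2 ((hBconj _).1 ⟨h2, h6⟩).2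
          exact ⟨p1, p2, p3, p4, by rw [← map_mul, ← map_mul, show a * b = b * a from Subtype.ext h4],
            fun e => h3 (congrArg Subtype.val (eB.injective e)).symm⟩
        · rintro ⟨p1, p2, p3, p4, p5, p6⟩
          obtain ⟨h1, h5⟩ := (hBconj _).2 ⟨a.2, (hBinv a).1 ⟨p1, p2⟩⟩
          obtain ⟨h2, h6⟩ := (hBconj _).2 ⟨b.2, (hBinv b).1 ⟨p3, p4⟩⟩
          refine ⟨h1, h2, fun e => p6 (congrArg eB (Subtype.ext e)).symm, ?_, h5, h6⟩
          rw [← map_mul, ← map_mul] at p5
          exact congrArg Subtype.val (eB.injective p5)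
    rw [hHc] at h1
    rw [hCtc, h30] at h2
    rw [Nat.card_congr
      ({ toFun := fun p => ⟨(p.1.2.2, (p.1.1, p.1.2.1)), p.2.2.2.2.2.1, p.2.1, p.2.2.1,
           p.2.2.2.1, p.2.2.2.2.1, p.2.2.2.2.2.2.1, p.2.2.2.2.2.2.2⟩
         invFun := fun p => ⟨(p.1.2.1, (p.1.2.2, p.1.1)), p.2.2.1, p.2.2.2.1, p.2.2.2.2.1,
           p.2.2.2.2.2.1, p.2.1, p.2.2.2.2.2.2.1, p.2.2.2.2.2.2.2⟩
         left_inv := fun _ => rfl
         right_inv := fun _ => rfl } :
        {p : G × G × G // IsConj z p.1 ∧ IsConj z p.2.1 ∧ p.2.1 ≠ p.1 ∧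
            p.1 * p.2.1 = p.2.1 * p.1 ∧ IsConj t p.2.2 ∧ p.1 * p.2.2 = p.2.2 * p.1 ∧
            p.2.1 * p.2.2 = p.2.2 * p.2.1} ≃
          {p : G × G × G // IsConj t p.1 ∧ IsConj z p.2.1 ∧ IsConj z p.2.2 ∧ p.2.2 ≠ p.2.1 ∧
            p.2.1 * p.2.2 = p.2.2 * p.2.1 ∧ p.2.1 * p.1 = p.1 * p.2.1 ∧
            p.2.2 * p.1 = p.1 * p.2.2})] at h1
    apply Nat.eq_of_mul_eq_mul_left (Nat.card_pos (α := G))
    rw [← h1]
    linarith
  -- the contribution of `z`
  have haz : Nat.card {q : G × G // IsConj z q.1 ∧ IsConj t q.2 ∧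
      z ∈ Subgroup.zpowers (q.1 * q.2)} = 960 := by
    let T : Finset G := Finset.univ.filter fun y => IsConj t y ∧ z * y = y * z
    have hT : T.card = 120 := by rw [← hX, Nat.card_eq_fintype_card, Fintype.card_subtype]
    have hcommN : ((S ×ˢ T).filter fun q => q.1 * q.2 = q.2 * q.1).card = 240 := by
      rw [← hN, Nat.card_eq_fintype_card, Fintype.card_subtype]
      congr 1
      ext q
      simp only [Finset.mem_filter, Finset.mem_product, Finset.mem_univ, true_and, S, T, hH,
        Subgroup.mem_centralizer_singleton_iff]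
      exact ⟨fun h => ⟨h.1.1.1, h.1.1.2.2, h.1.1.2.1.symm, h.1.2.1, h.1.2.2, h.2⟩,
        fun h => ⟨⟨⟨h.1, h.2.2.1.symm, h.2.1⟩, h.2.2.2.1, h.2.2.2.2.1⟩, h.2.2.2.2.2⟩⟩
    have htot := Finset.card_filter_add_card_filter_not (s := S ×ˢ T)
      (fun q : G × G => q.1 * q.2 = q.2 * q.1)
    rw [hcommN, Finset.card_product, hS, hT] at htot
    rw [Nat.card_eq_fintype_card, Fintype.card_subtype,
      show (Finset.univ.filter fun q : G × G => IsConj z q.1 ∧ IsConj t q.2 ∧
        z ∈ Subgroup.zpowers (q.1 * q.2)) = (S ×ˢ T).filter fun q => ¬ q.1 * q.2 = q.2 * q.1 from ?_]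
    · omega
    ext ⟨x, y⟩
    simp only [Finset.mem_filter, Finset.mem_product, Finset.mem_univ, true_and, S, T, hH,
      Subgroup.mem_centralizer_singleton_iff]
    constructor
    · rintro ⟨hx, hy, hw⟩
      have hxo := hzinv x hx
      have hyo := htinv y hy
      obtain ⟨i, hi⟩ := Subgroup.mem_zpowers_iff.1 hw
      have hxz : x * z = z * x := by
        have h := CfsgLib.Invol.zpow_conj_left hxo hyo i
        rw [two_mul, zpow_add, hi, hzz, one_mul] at h
        exact (mul_inv_eq_iff_eq_mul.1 h).symm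
      have hxyz : (x * y) * z = z * (x * y) := by
        rw [← hi]; exact (Commute.self_zpow (x * y) i).eq
      have hyz : z * y = y * z := by
        calc z * y = x⁻¹ * (x * z) * y := by group
          _ = x⁻¹ * (z * (x * y)) := by rw [hxz]; group
          _ = x⁻¹ * ((x * y) * z) := by rw [hxyz]
          _ = y * z := by group
      have hor : ∀ a : G, a * a = 1 → z ∈ Subgroup.zpowers a → z = a := by
        intro a ha hm
        obtain ⟨j, hj⟩ := Subgroup.mem_zpowers_iff.1 hm
        rcases Int.even_or_odd j with ⟨l, hl⟩ | ⟨l, hl⟩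
        · exfalso
          rw [hl, ← two_mul, zpow_mul, zpow_two, ha, one_zpow] at hj
          exact CfsgLib.Invol.invol_ne_one hz hj.symm
        · rw [hl, zpow_add_one, zpow_mul, zpow_two, ha, one_zpow, one_mul] at hj
          exact hj.symm
      have hsqc : x * y = y * x → (x * y) * (x * y) = 1 := fun h => by
        calc x * y * (x * y) = x * (y * x) * y := by group
          _ = x * (x * y) * y := by rw [h]
          _ = (x * x) * (y * y) := by group
          _ = 1 := by rw [CfsgLib.Invol.invol_mul_self hxo, CfsgLib.Invol.invol_mul_self hyo, one_mul]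
      refine ⟨⟨⟨hx, hxz, ?_⟩, hy, hyz⟩, fun hc => ?_⟩
      · intro e
        have h := hor _ (hsqc (by rw [e, hyz])) hw
        rw [e] at h
        exact CfsgLib.Invol.invol_ne_one hyo (mul_eq_left.1 h.symm)
      · have h := hor _ (hsqc hc) hw
        have hxQ : x ∈ Q := hzin x (Subgroup.mem_centralizer_singleton_iff.2 hxz) hx
        have hyQ : y ∈ Q := by
          rw [show y = x⁻¹ * (x * y) by group, ← h]
          exact mul_mem (inv_mem hxQ) hzQmem
        exact hnzt y (hzQ y hyQ hyo) hy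
    · rintro ⟨⟨⟨hx, hxz, hxne⟩, hy, hyz⟩, hnc⟩
      refine ⟨hx, hy, ?_⟩
      have hxo := hzinv x hx
      have hyo := htinv y hy
      have hyy := CfsgLib.Invol.invol_mul_self hyo
      have hxx := CfsgLib.Invol.invol_mul_self hxo
      have hyi := CfsgLib.Invol.invol_inv hyo
      have hxQ : x ∈ Q := hzin x (Subgroup.mem_centralizer_singleton_iff.2 hxz) hx
      have hyQ : y * x * y⁻¹ ∈ Q :=
        hQnorm y (Subgroup.mem_centralizer_singleton_iff.2 hyz.symm) x hxQ
      set d := (x * y) * (x * y) with hd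
      have hde : d = x * (y * x * y⁻¹) := by rw [hd, hyi]; group
      have hdz : d ∈ Subgroup.zpowers (x * y) :=
        mul_mem (Subgroup.mem_zpowers _) (Subgroup.mem_zpowers _)
      rcases hQsq d (hde ▸ mul_mem hxQ hyQ) with h | h
      · have hco : x * (y * x * y⁻¹) = (y * x * y⁻¹) * x := by
          have hi2 : d⁻¹ = d := inv_eq_of_mul_eq_one_right h
          rw [hde, _root_.mul_inv_rev, CfsgLib.Invol.invol_inv hxo,
            CfsgLib.Invol.invol_inv (by rw [CfsgLib.Invol.orderOf_conj_eq]; exact hxo)] at hi2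
          exact hi2.symm
        have hne : y * x * y⁻¹ ≠ z := fun e => hxne (by
          calc x = y⁻¹ * (y * x * y⁻¹) * y := by group
            _ = y⁻¹ * (z * y) := by rw [e]; group
            _ = z := by rw [hyz]; group)
        rcases hpairQ x hxQ _ hyQ hxo (by rw [CfsgLib.Invol.orderOf_conj_eq]; exact hxo) hxne hne hco
          with e | e
        · exact absurd (mul_inv_eq_iff_eq_mul.1 e).symm hnc
        · rw [hde, e, ← mul_assoc, hxx, one_mul] at hdz
          exact hdz
      · rw [← h]; exact mul_mem hdz hdz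
  -- the contribution of `t`
  have hat : Nat.card {q : G × G // IsConj z q.1 ∧ IsConj t q.2 ∧
      t ∈ Subgroup.zpowers (q.1 * q.2)} = 195 := by
    have hodd : ∀ v ∈ V, ∀ c : ↥B, t ∈ Subgroup.zpowers (v * c) →
        v = t ∧ ((eB c) * eB c * eB c = 1 ∨ eB c * eB c * eB c * eB c * eB c = 1) := by
      intro v hv c hm
      obtain ⟨j, hj⟩ := Subgroup.mem_zpowers_iff.1 hm
      rw [(show Commute v (c : G) from hVBc v hv c c.2).mul_zpow] at hj
      have hvj : v ^ j = t ∧ (c : G) ^ j = 1 := by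
        have h := Subgroup.mul_injective_of_disjoint (disjoint_iff.2 hVBi)
          (a₁ := (⟨v ^ j, zpow_mem hv j⟩, ⟨(c : G) ^ j, zpow_mem c.2 j⟩))
          (a₂ := (⟨t, htV⟩, (1 : ↥B))) (by simpa using hj)
        exact ⟨congrArg (fun p : ↥V × ↥B => (p.1 : G)) h, congrArg (fun p : ↥V × ↥B => (p.2 : G)) h⟩
      have hvv : v * v = 1 := by rw [← pow_two]; exact hV2 v hv
      rcases Int.even_or_odd j with ⟨l, hl⟩ | ⟨l, hl⟩
      · exfalso
        rw [hl, ← two_mul, zpow_mul, zpow_two, hvv, one_zpow] at hvj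
        exact CfsgLib.Invol.invol_ne_one ht hvj.1.symm
      have hvt : v = t := by
        have := hvj.1
        rwa [hl, zpow_add_one, zpow_mul, zpow_two, hvv, one_zpow, one_mul] at this
      refine ⟨hvt, ?_⟩
      rcases CfsgLib.InvChar.HJ.a5_orders (eB c) with h | h | h
      · have hcc : (c : G) * c = 1 := by
          rw [← map_mul, map_eq_one_iff _ eB.injective] at h
          exact congrArg Subtype.val h
        have := hvj.2
        rw [hl, zpow_add_one, zpow_mul, zpow_two, hcc, one_zpow, one_mul] at this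
        rw [show c = 1 from Subtype.ext this, map_one]
        simp
      · exact Or.inl h
      · exact Or.inr h
    rw [← CfsgLib.InvChar.HJ.a5_odd_pairs, ← Fintype.card_subtype, ← Nat.card_eq_fintype_card]
    have hdecy : ∀ q : {q : G × G // IsConj z q.1 ∧ IsConj t q.2 ∧
        t ∈ Subgroup.zpowers (q.1 * q.2)}, q.1.1 ∈ B ∧ t * q.1.2 ∈ B := by
      rintro ⟨⟨x, y⟩, hx, hy, hw⟩
      have hxo := hzinv x hx
      have hyo := htinv y hy
      obtain ⟨i, hi⟩ := Subgroup.mem_zpowers_iff.1 hw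
      have hxt : x * t = t * x := by
        have h := CfsgLib.Invol.zpow_conj_left hxo hyo i
        rw [two_mul, zpow_add, hi, htt, one_mul] at h
        exact (mul_inv_eq_iff_eq_mul.1 h).symm
      have hxyt : (x * y) * t = t * (x * y) := by
        rw [← hi]; exact (Commute.self_zpow (x * y) i).eq
      have hxB := hBin x (Subgroup.mem_centralizer_singleton_iff.2 hxt) hx
      refine ⟨hxB, ?_⟩
      obtain ⟨v, hv, b, hb, e⟩ := hdec (x * y) (Subgroup.mem_centralizer_singleton_iff.2 hxyt)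
      obtain ⟨hvt, -⟩ := hodd v hv ⟨b, hb⟩ (by rw [show v * ((⟨b, hb⟩ : ↥B) : G) = x * y from e]; exact hw)
      show t * y ∈ B
      have ey : t * y = x⁻¹ * b := by
        rw [hvt] at e
        calc t * y = t * x⁻¹ * (x * y) := by group
          _ = x⁻¹ * t * (t * b) := by
            rw [← e, CfsgLib.Invol.invol_inv hxo, hxt]
          _ = x⁻¹ * (t * t) * b := by group
          _ = x⁻¹ * b := by rw [htt, mul_one]
      rw [ey]
      exact mul_mem (inv_mem hxB) hb
    refine Nat.card_congr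
      { toFun := fun q => ⟨(eB ⟨q.1.1, (hdecy q).1⟩, eB ⟨t * q.1.2, (hdecy q).2⟩), ?_⟩
        invFun := fun p => ⟨((eB.symm p.1.1 : G), t * (eB.symm p.1.2 : G)), ?_⟩
        left_inv := fun q => by
          simp only [MulEquiv.symm_apply_apply, ← mul_assoc, htt, one_mul]
        right_inv := fun p => Subtype.ext (Prod.ext
          ((congrArg eB (Subtype.ext rfl)).trans (eB.apply_symm_apply _))
          ((congrArg eB (Subtype.ext ((mul_assoc t t _).symm.trans (by rw [htt, one_mul])))).trans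
            (eB.apply_symm_apply _))) }
    · obtain ⟨hx, hy, hw⟩ := q.2
      obtain ⟨hxB, htyB⟩ := hdecy q
      obtain ⟨p1, p2⟩ := (hBinv ⟨_, hxB⟩).2 (hzinv _ hx)
      refine ⟨p1, p2, ?_, ?_⟩
      · rw [← map_mul, map_eq_one_iff _ eB.injective]
        refine Subtype.ext ?_
        have hc : t * (t * q.1.2) = (t * q.1.2) * t := hVBc t htV _ htyB
        show t * q.1.2 * (t * q.1.2) = 1
        calc t * q.1.2 * (t * q.1.2) = t * q.1.2 * t * q.1.2 := by group
          _ = t * (t * q.1.2) * q.1.2 := by rw [hc]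
          _ = 1 := by rw [← mul_assoc t t, htt, one_mul, CfsgLib.Invol.invol_mul_self (htinv _ hy)]
      · rw [← map_mul]
        refine (hodd t htV (⟨_, hxB⟩ * ⟨_, htyB⟩) ?_).2
        show t ∈ Subgroup.zpowers (t * (q.1.1 * (t * q.1.2)))
        have : t * (q.1.1 * (t * q.1.2)) = q.1.1 * q.1.2 := by
          rw [← mul_assoc, hVBc t htV _ hxB, mul_assoc, ← mul_assoc t t, htt, one_mul]
        rwa [this]
    · obtain ⟨p1, p2, p3, p4⟩ := p.2
      set x := eB.symm p.1.1 with hx'
      set b := eB.symm p.1.2 with hb'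
      have hex' : eB x = p.1.1 := eB.apply_symm_apply _
      have heb' : eB b = p.1.2 := eB.apply_symm_apply _
      have hxo : orderOf (x : G) = 2 := (hBinv x).1 (by rw [hex']; exact ⟨p1, p2⟩)
      have hbb : (b : G) * b = 1 := by
        rw [← heb', ← map_mul, map_eq_one_iff _ eB.injective] at p3
        exact congrArg Subtype.val p3
      have htb : t * b = (b : G) * t := hVBc t htV b b.2
      have hyo : orderOf (t * (b : G)) = 2 := by
        refine CfsgLib.Invol.invol_of_mul_self ?_ fun e => ?_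
        · calc t * (b : G) * (t * b) = t * ((b : G) * t) * b := by group
            _ = t * (t * b) * b := by rw [htb]
            _ = (t * t) * ((b : G) * b) := by group
            _ = 1 := by rw [htt, hbb, one_mul]
        · have : t ∈ V ⊓ B := ⟨htV, by rw [eq_inv_of_mul_eq_one_left e]; exact B.inv_mem b.2⟩
          rw [hVBi, Subgroup.mem_bot] at this
          exact CfsgLib.Invol.invol_ne_one ht this
      refine ⟨hzB x x.2 hxo, (hCt _ (mul_mem (hVC htV) (hBC b.2)) hyo fun h => ?_).symm, ?_⟩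
      · have : t ∈ V ⊓ B := ⟨htV, by simpa using mul_mem h (inv_mem b.2)⟩
        rw [hVBi, Subgroup.mem_bot] at this
        exact CfsgLib.Invol.invol_ne_one ht this
      · show t ∈ Subgroup.zpowers ((x : G) * (t * b))
        rw [← hex', ← heb', ← map_mul] at p4
        have htc : Commute t ((x * b : ↥B) : G) := hVBc t htV _ (x * b).2
        have e : (x : G) * (t * b) = t * ((x * b : ↥B) : G) := by
          rw [Subgroup.coe_mul, ← mul_assoc, ← hVBc t htV x x.2, mul_assoc]
        rw [e]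
        rcases p4 with h | h <;> rw [← map_mul, ← map_mul] at h
        · rw [map_eq_one_iff _ eB.injective] at h
          refine Subgroup.mem_zpowers_iff.2 ⟨(3 : ℕ), ?_⟩
          rw [zpow_natCast, htc.mul_pow, show ((x * b : ↥B) : G) ^ 3 = 1 by
            rw [pow_succ, pow_succ, pow_one]; exact congrArg Subtype.val h,
            pow_succ, pow_two, htt, one_mul, mul_one]
        · rw [← map_mul, ← map_mul, map_eq_one_iff _ eB.injective] at h
          refine Subgroup.mem_zpowers_iff.2 ⟨(5 : ℕ), ?_⟩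
          rw [zpow_natCast, htc.mul_pow, show ((x * b : ↥B) : G) ^ 5 = 1 by
            rw [pow_succ, pow_succ, pow_succ, pow_succ, pow_one]; exact congrArg Subtype.val h,
            show t ^ 5 = (t * t) * (t * t) * t by rw [pow_succ, pow_succ, pow_succ, pow_two]; group,
            htt, one_mul, one_mul, mul_one]
  -- the order formula
  have hztne : z ≠ t := fun e => hzt (e ▸ IsConj.refl z)
  have hform := Cfsg.Agent.S1875.result z t hz ht hzt ({z, t} : Finset G)
    (by intro w hw; simp only [Finset.mem_insert, Finset.mem_singleton] at hw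
        rcases hw with rfl | rfl <;> assumption)
    (by intro a ha
        rcases hcl a ha with h | h
        · refine ⟨z, by simp, h, fun w hw hw' => ?_⟩
          simp only [Finset.mem_insert, Finset.mem_singleton] at hw
          rcases hw with rfl | rfl
          · rfl
          · exact absurd (h.symm.trans hw') hzt
        · refine ⟨t, by simp, h, fun w hw hw' => ?_⟩
          simp only [Finset.mem_insert, Finset.mem_singleton] at hw
          rcases hw with rfl | rfl
          · exact absurd (hw'.symm.trans h) hzt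
          · rfl)
  rw [Finset.sum_pair hztne, haz, hat, ← hH, ← hCtdef, hHc, hCtc] at hform
  have : (Nat.card G : ℚ) = ((604800 : ℕ) : ℚ) := by rw [hform]; norm_num
  exact_mod_cast this

end Cfsg.Agent.S3313
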