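import Cfsg.Statements.S3315
import Cfsg.Agent.Lib.InvChar.UnitarySylowInvolution

set_option autoImplicit false
open Cfsg

namespace Cfsg.Agent.S3315

/-- Let S be a Sylow 2-subgroup of SU₃(2ⁿ), n ≥ 2 (realised over the field with 4ⁿ elements). If a finite 2-group R contains a subgroup S' of index 2 isomorphic to S, then the centre of S' is contained in the centre of R. -/
theorem result {R : Type*} [Group R] [Finite R]
    (hR : IsPGroup 2 R) (n : ℕ) (hn : 2 ≤ n) {F : Type*} [Field F] [Fintype F] (hF : Fintype.card F = 4 ^ n)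
    (P : Sylow 2 ↥(Cfsg.SU 3 F (2 ^ n))) (S' : Subgroup R) (hS : Nonempty (↥S' ≃* ↥(P : Subgroup ↥(Cfsg.SU 3 F (2 ^ n)))))
    (hidx : S'.index = 2) :
    (Subgroup.center ↥S').map S'.subtype ≤ Subgroup.center R := by
  have h2 : (2 : F) = 0 := by
    obtain ⟨p, hp⟩ := CharP.exists F
    haveI := hp
    obtain ⟨m, hpp, hm⟩ := FiniteField.card F p
    have hd : p ∣ 4 ^ n := hF ▸ hm ▸ dvd_pow_self p m.pos.ne'
    have hp4 : p ∣ 2 := (Nat.Prime.dvd_of_dvd_pow hpp (by
      rwa [show (4 : ℕ) = 2 ^ 2 by rfl, ← pow_mul] at hd))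
    have : p = 2 := (Nat.prime_dvd_prime_iff_eq hpp Nat.prime_two).1 hp4
    subst this
    exact_mod_cast CharP.cast_eq_zero F 2
  let h : CfsgLib.Chev.PSUSyl.QField F := ⟨n, hn, by rw [hF, ← pow_mul, mul_comm, pow_mul]; norm_num, h2⟩
  obtain ⟨e⟩ := CfsgLib.InvChar.UnitarySylow.sylow_su_equiv h P
  obtain ⟨e'⟩ := hS
  exact CfsgLib.InvChar.UnitarySylow.center_le_of_index_two h S' hidx (e'.trans e)

end Cfsg.Agent.S3315
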