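import Cfsg.Statements.S3349


set_option autoImplicit false
open Cfsg
open scoped commutatorElement

namespace Cfsg.Agent.S3349

/-- Let Q be a finite extraspecial p-group and α an automorphism of Q fixing every element of some maximal abelian subgroup of Q. Then the order of α is a power of p. -/
theorem result {Q : Type*} [Group Q] [Finite Q]
    (p : ℕ) [Fact p.Prime] (hQ : Cfsg.IsExtraspecial p Q) (α : MulAut Q)
    (A : Subgroup Q) (hA : IsMulCommutative A) (hmax : ∀ B : Subgroup Q, A ≤ B → IsMulCommutative B → B = A)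
    (hfix : ∀ a ∈ A, α a = a) :
    ∃ k : ℕ, orderOf α = p ^ k := by
  classical
  obtain ⟨⟨hQp, hfr, hcomm⟩, hzc⟩ := hQ
  -- `A` contains the centre
  have hzA : Subgroup.center Q ≤ A := by
    intro z hz
    have hB : IsMulCommutative (Subgroup.closure ((A : Set Q) ∪ {z})) := by
      apply Subgroup.isMulCommutative_closure
      rintro x (hx | hx) y (hy | hy)
      · exact congrArg Subtype.val (hA.is_comm.comm ⟨x, hx⟩ ⟨y, hy⟩)
      · rw [Set.mem_singleton_iff.mp hy]; exact Subgroup.mem_center_iff.mp hz x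
      · rw [Set.mem_singleton_iff.mp hx]; exact (Subgroup.mem_center_iff.mp hz y).symm
      · rw [Set.mem_singleton_iff.mp hx, Set.mem_singleton_iff.mp hy]
    have := hmax _ (fun x hx => Subgroup.subset_closure (Or.inl hx)) hB
    rw [← this]
    exact Subgroup.subset_closure (Or.inr rfl)
  have hAn : A.Normal := ⟨fun a ha q => by
    have hc : ⁅q, a⁆ ∈ commutator Q := Subgroup.commutator_mem_commutator (Subgroup.mem_top _) (Subgroup.mem_top _)
    rw [hcomm] at hc
    have := A.mul_mem (hzA hc) ha
    simpa [commutatorElement_def, mul_assoc] using this⟩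
  -- elements centralising `A` lie in `A`
  have hcA : ∀ c : Q, (∀ a ∈ A, c * a = a * c) → c ∈ A := by
    intro c hc
    have hB : IsMulCommutative (Subgroup.closure ((A : Set Q) ∪ {c})) := by
      apply Subgroup.isMulCommutative_closure
      rintro x (hx | hx) y (hy | hy)
      · exact congrArg Subtype.val (hA.is_comm.comm ⟨x, hx⟩ ⟨y, hy⟩)
      · rw [Set.mem_singleton_iff.mp hy]; exact (hc x hx).symm
      · rw [Set.mem_singleton_iff.mp hx]; exact hc y hy
      · rw [Set.mem_singleton_iff.mp hx, Set.mem_singleton_iff.mp hy]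
    have := hmax _ (fun x hx => Subgroup.subset_closure (Or.inl hx)) hB
    rw [← this]
    exact Subgroup.subset_closure (Or.inr rfl)
  have hdiff : ∀ q : Q, q⁻¹ * α q ∈ A := by
    intro q
    apply hcA
    intro a ha
    have h1 : α (q * a * q⁻¹) = q * a * q⁻¹ := hfix _ (hAn.conj_mem a ha q)
    rw [map_mul, map_mul, map_inv, hfix a ha] at h1
    calc q⁻¹ * α q * a = q⁻¹ * (α q * a * (α q)⁻¹) * α q := by group
      _ = q⁻¹ * (q * a * q⁻¹) * α q := by rw [h1]
      _ = a * (q⁻¹ * α q) := by group
  have hpow : ∀ (q : Q) (n : ℕ), (α ^ n) q = q * (q⁻¹ * α q) ^ n := by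
    intro q n
    induction n with
    | zero => simp
    | succ n ih =>
      rw [pow_succ', MulAut.mul_apply, ih, map_mul, map_pow, hfix _ (hdiff q), pow_succ' (q⁻¹ * α q), ← mul_assoc q, mul_inv_cancel_left]
  obtain ⟨e, he⟩ := IsPGroup.iff_card.mp (hQp.to_subgroup A)
  have h1 : α ^ Nat.card A = 1 := by
    apply DFunLike.ext
    intro q
    rw [hpow, MulAut.one_apply]
    have h : (⟨_, hdiff q⟩ : A) ^ Nat.card A = 1 := pow_card_eq_one'
    have h' : (q⁻¹ * α q) ^ Nat.card A = 1 := congrArg Subtype.val h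
    rw [h', mul_one]
  obtain ⟨k, -, hk⟩ := (Nat.dvd_prime_pow Fact.out).mp (he ▸ orderOf_dvd_of_pow_eq_one h1)
  exact ⟨k, hk⟩

end Cfsg.Agent.S3349
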