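import Cfsg.Statements.S3356
import Cfsg.Agent.Lib.Recog.HalfTransitiveAut

set_option autoImplicit false
open Cfsg

namespace Cfsg.Agent.S3356

/-- Let G be a finite 3/2-transitive permutation group: G acts faithfully and transitively on a finite set, the point stabilizers are non-trivial, and for each point a all orbits of G_a on the remaining points have the same size. Suppose G has a regular normal subgroup N and G is not a Frobenius group (some two-point stabilizer is non-trivial). Then N is an elementary abelian p-group for some prime p, and every non-trivial normal subgroup of G contains N (so N is the unique minimal normal subgroup). -/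
theorem result {G Ω : Type*} [Group G] [Finite G]
    [MulAction G Ω] [FaithfulSMul G Ω] [Finite Ω] (htrans : MulAction.IsPretransitive G Ω)
    (hne : ∀ a : Ω, MulAction.stabilizer G a ≠ ⊥)
    (hhalf : ∀ a b c : Ω, b ≠ a → c ≠ a →
      Nat.card (MulAction.orbit (MulAction.stabilizer G a) b) = Nat.card (MulAction.orbit (MulAction.stabilizer G a) c))
    (N : Subgroup G) [hN : N.Normal] (hNt : MulAction.IsPretransitive N Ω) (hNr : ∀ a : Ω, MulAction.stabilizer N a = ⊥)
    (hnotF : ∃ a b : Ω, a ≠ b ∧ MulAction.stabilizer G a ⊓ MulAction.stabilizer G b ≠ ⊥) :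
    (∃ p : ℕ, p.Prime ∧ IsMulCommutative N ∧ ∀ x ∈ N, x ^ p = 1) ∧
    (∀ M : Subgroup G, M.Normal → M ≠ ⊥ → N ≤ M) := by
  classical
  obtain ⟨a, b, hab, hne2⟩ := hnotF
  let H := MulAction.stabilizer G a
  haveI : Finite N := inferInstance
  letI : MulDistribMulAction H N :=
    MulDistribMulAction.compHom N ((MulAut.conjNormal (H := N)).comp H.subtype)
  have hsmul : ∀ (h : H) (x : N), ((h • x : N) : G) = (h : G) * (x : G) * (h : G)⁻¹ :=
    fun h x => rfl
  have hinj : Function.Injective (fun x : N => x • a) := by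
    intro x y e
    have : y⁻¹ * x ∈ MulAction.stabilizer N a := by
      rw [MulAction.mem_stabilizer_iff, mul_smul]
      exact inv_smul_eq_iff.2 e
    rw [hNr a, Subgroup.mem_bot, inv_mul_eq_one] at this
    exact this.symm
  have heq : ∀ (h : H) (x : N), (h • x) • a = h • (x • a) := by
    intro h x
    show ((h • x : N) : G) • a = (h : G) • ((x : G) • a)
    rw [hsmul, mul_smul, mul_smul, show (h : G)⁻¹ • a = a from inv_smul_eq_iff.2 h.2.symm]
  have horb : ∀ x : N, Nat.card (MulAction.orbit H x) = Nat.card (MulAction.orbit H (x • a)) := by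
    intro x
    rw [← Nat.card_image_of_injective hinj]
    congr 2
    ext w
    constructor
    · rintro ⟨_, ⟨h, rfl⟩, rfl⟩; exact ⟨h, (heq h x).symm⟩
    · rintro ⟨h, rfl⟩; exact ⟨h • x, ⟨h, rfl⟩, heq h x⟩
  have hxa : ∀ x : N, x ≠ 1 → x • a ≠ a := fun x hx e =>
    hx (hinj (e.trans (one_smul N a).symm))
  haveI : FaithfulSMul H N := ⟨fun {g k} e => Subtype.ext (FaithfulSMul.eq_of_smul_eq_smul
    (α := Ω) fun w => by
      obtain ⟨x, rfl⟩ := hNt.exists_smul_eq a w
      show g • (x • a) = k • (x • a)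
      rw [← heq, ← heq, e x])⟩
  have hhalf' : ∀ x y : N, x ≠ 1 → y ≠ 1 →
      Nat.card (MulAction.orbit H x) = Nat.card (MulAction.orbit H y) := fun x y hx hy => by
    rw [horb x, horb y]; exact hhalf a _ _ (hxa x hx) (hxa y hy)
  have hns : ∃ x : N, x ≠ 1 ∧ MulAction.stabilizer H x ≠ ⊥ := by
    obtain ⟨x, hx⟩ := hNt.exists_smul_eq a b
    have hx1 : x ≠ 1 := fun e => hab (by rw [← hx, e, one_smul])
    refine ⟨x, hx1, fun hb => hne2 ?_⟩
    rw [eq_bot_iff]
    rintro g ⟨hga, hgb⟩
    have : (⟨g, hga⟩ : H) ∈ MulAction.stabilizer H x := by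
      refine hinj ?_
      show ((⟨g, hga⟩ : H) • x) • a = x • a
      rw [heq, hx]; exact hgb
    rw [hb, Subgroup.mem_bot] at this
    exact congrArg Subtype.val this
  obtain ⟨⟨p, hp, hcomm, hexp⟩, hirr⟩ := CfsgLib.Recog.half_transitive_aut hhalf' hns
  refine ⟨⟨p, hp, hcomm, fun x hx => congrArg Subtype.val (hexp ⟨x, hx⟩)⟩, fun M hM hM1 => ?_⟩
  rcases hirr (M.subgroupOf N) (fun h x hx => by
    rw [Subgroup.mem_subgroupOf, hsmul]; exact hM.conj_mem _ hx h) with hbot | htop
  · exfalso
    rw [Subgroup.subgroupOf_eq_bot] at hbot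
    refine hM1 (eq_bot_iff.2 fun g hg => ?_)
    have hc : ∀ x : N, (x : G) * g = g * x := fun x =>
      (Subgroup.commute_of_normal_of_disjoint N M hN hM hbot.symm (x : G) g x.2 hg)
    obtain ⟨x, hx⟩ := hNt.exists_smul_eq a (g • a)
    change (x : G) • a = g • a at hx
    have hgx : g = x := by
      refine FaithfulSMul.eq_of_smul_eq_smul (α := Ω) fun w => ?_
      obtain ⟨y, rfl⟩ := hNt.exists_smul_eq a w
      show g • ((y : G) • a) = (x : G) • ((y : G) • a)
      rw [← mul_smul, ← hc y, mul_smul, ← hx, ← mul_smul, ← mul_smul]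
      exact congrArg (fun u : N => (u : G) • a) (hcomm.is_comm.comm y x)
    exact hbot.le_bot ⟨hg, hgx ▸ x.2⟩
  · exact Subgroup.subgroupOf_eq_top.1 htop

end Cfsg.Agent.S3356
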