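import Cfsg.Statements.S3358
import Cfsg.Agent.Lib.Perm.ZGroupPres
import Cfsg.Agent.Lib.Perm.IcoSolvable
import Cfsg.Agent.Lib.Perm.IcoBridge

set_option autoImplicit false
open Cfsg

namespace Cfsg.Agent.S3358

/-- Structure of solvable Frobenius complements. Let G be a finite solvable group that occurs as a Frobenius complement. Then G has a normal subgroup G₀ such that G/G₀ is isomorphic to a subgroup of Sym(4) (G₀ is the kernel of a homomorphism to Sym(4)), all Sylow subgroups of G₀ are cyclic, and G₀ has a presentation ⟨x, y | x^n = 1, y^m = 1, x⁻¹ y x = y^r⟩ with n, m ≥ 1, gcd(r − 1, m) = gcd(n, m) = 1 and r^(n/n′) ≡ 1 (mod m), where n′ is the product of the distinct primes dividing n. -/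
theorem result {G : Type*} [Group G] [Finite G] (hsol : Group.IsSolvable G)
    (hFC : ∃ (L : Type) (_ : Group L) (_ : Finite L) (H : Subgroup L), Cfsg.IsFrobeniusComplement H ∧ Nonempty (G ≃* H)) :
    ∃ G₀ : Subgroup G, G₀.Normal ∧
      (∃ f : G →* Equiv.Perm (Fin 4), f.ker = G₀) ∧
      (∀ (p : ℕ) [Fact p.Prime] (P : Sylow p G₀), IsCyclic P) ∧
      ∃ n m r : ℕ, 0 < n ∧ 0 < m ∧ Nat.Coprime (r - 1) m ∧ Nat.Coprime n m ∧ 1 ≤ r ∧
        r ^ (n / ∏ p ∈ n.primeFactors, p) % m = 1 % m ∧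
        Nonempty (G₀ ≃* PresentedGroup
          ({FreeGroup.of (0 : Fin 2) ^ n, FreeGroup.of (1 : Fin 2) ^ m,
            (FreeGroup.of (0 : Fin 2))⁻¹ * FreeGroup.of 1 * FreeGroup.of 0 * (FreeGroup.of (1 : Fin 2) ^ r)⁻¹} :
            Set (FreeGroup (Fin 2)))) := by
  classical
  obtain ⟨L, _, _, H, hH, ⟨e⟩⟩ := id hFC
  obtain ⟨V, φ, hVc, hVne, -, hfpf⟩ := CfsgLib.Solvable.exists_fpf_abelian hH
  letI : CommGroup V := { (inferInstance : Group V) with mul_comm := hVc.is_comm.comm }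
  haveI : Nontrivial V := V.nontrivial_iff_ne_bot.mpr hVne
  suffices key : ∃ G₀ : Subgroup G, G₀.Normal ∧ IsZGroup G₀ ∧ ∃ f : G →* Equiv.Perm (Fin 4), f.ker = G₀ by
    obtain ⟨G₀, hn, hZ, hf⟩ := key
    refine ⟨G₀, hn, hf, fun p hp P => IsZGroup.isZGroup p Fact.out P, ?_⟩
    exact CfsgLib.Perm.ZPres.exists_presentation ((φ.comp e.toMonoidHom).comp G₀.subtype)
      (fun h hh v hv => hfpf (e h) (fun he => hh (Subtype.ext (e.injective (he.trans (map_one e).symm)))) v hv)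
  obtain ⟨d, f, hd, hf⟩ := CfsgLib.Perm.Ico.exists_fpf_complex hFC
  have : Nonempty (Fin d) := ⟨⟨0, hd⟩⟩
  by_cases hnil : CfsgLib.Perm.Ico.TwoNilp G
  · by_cases hZ : IsZGroup G
    · exact ⟨⊤, inferInstance, inferInstance, 1, MonoidHom.ker_one⟩
    · obtain ⟨N, hNn, hNz, ⟨ψ, -, hψk⟩, -⟩ := CfsgLib.Perm.Ico.exists_quotient_twoNilp hf hZ hnil
      let e4 : DihedralGroup 2 ≃ Fin 4 :=
        (Fintype.equivFin _).trans (finCongr (by rw [DihedralGroup.card]))
      let ι : DihedralGroup 2 →* Equiv.Perm (Fin 4) :=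
        e4.permCongrHom.toMonoidHom.comp (MulAction.toPermHom (DihedralGroup 2) (DihedralGroup 2))
      have hι : Function.Injective ι :=
        e4.permCongrHom.injective.comp MulAction.toPerm_injective
      refine ⟨N, hNn, hNz, ι.comp ψ, ?_⟩
      rw [← MonoidHom.comap_ker, (MonoidHom.ker_eq_bot_iff ι).2 hι, MonoidHom.comap_bot, hψk]
  · obtain ⟨N, hNn, hNz, ⟨ψ, -, hψk⟩ | ⟨ψ, -, hψk⟩⟩ :=
      CfsgLib.Perm.Ico.exists_quotient_solvable hf hsol hnil
    · refine ⟨N, hNn, hNz, (alternatingGroup (Fin 4)).subtype.comp ψ, ?_⟩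
      rw [← MonoidHom.comap_ker, Subgroup.ker_subtype, MonoidHom.comap_bot, hψk]
    · exact ⟨N, hNn, hNz, ψ, hψk⟩

end Cfsg.Agent.S3358
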