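import Cfsg.Statements.S3366
import Cfsg.Agent.Lib.Recog.SpFourTransvection
import Cfsg.Agent.Lib.Recog.HeisSLThree

set_option autoImplicit false
open Cfsg

namespace Cfsg.Agent.S3366

open Matrix CfsgLib.Recog.SpFourTrans

set_option maxHeartbeats 1600000

/-- Let X be a finite group with O₃(X) extraspecial of order 27 and exponent 3, X/O₃(X) isomorphic to SL(2,3), O₂(X) = 1, and a Sylow 3-subgroup of X containing an elementary abelian subgroup of order 27. Then X is isomorphic to the centralizer in PSp(4,3) of a 3-central element of order 3 (an element of order 3 in the centre of a Sylow 3-subgroup). -/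
theorem result {X : Type*} [Group X] [Finite X]
    (hR : Cfsg.IsExtraspecial 3 (Cfsg.pCore 3 X)) (hRcard : Nat.card (Cfsg.pCore 3 X) = 27)
    (hRexp : ∀ r ∈ Cfsg.pCore 3 X, r ^ 3 = 1)
    (e : X ⧸ Cfsg.pCore 3 X ≃* Matrix.SpecialLinearGroup (Fin 2) (ZMod 3))
    (hO2 : Cfsg.pCore 2 X = ⊥)
    (hE : ∃ E : Subgroup X, IsMulCommutative E ∧ (∀ a ∈ E, a ^ 3 = 1) ∧ Nat.card E = 27)
    (F : Type*) [Field F] [Fintype F] (hF : Fintype.card F = 3) :
    ∃ (c : Cfsg.PSp 2 F) (S : Sylow 3 (Cfsg.PSp 2 F)), orderOf c = 3 ∧ c ∈ (S : Subgroup (Cfsg.PSp 2 F)) ∧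
      c ∈ Subgroup.centralizer ((S : Subgroup (Cfsg.PSp 2 F)) : Set (Cfsg.PSp 2 F)) ∧
      Nonempty (X ≃* Subgroup.centralizer ({c} : Set (Cfsg.PSp 2 F))) := by
  haveI : CharP F 3 := charP_of_card_eq_prime hF
  let ι : ZMod 3 →+* F := ZMod.castHom (dvd_refl 3) F
  have hι : Function.Bijective ι := by
    rw [Fintype.bijective_iff_injective_and_card]
    exact ⟨ι.injective, by rw [hF, ZMod.card]⟩
  obtain ⟨f, hfb, hfm⟩ := CfsgLib.Recog.HeisThree.exists_coords hR hRcard hRexp e hO2 hE
  let A : X → Matrix (Fin 2) (Fin 2) F := fun x => (f x).2.2.1.map ι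
  have hA : ∀ x, (A x).det = 1 := fun x => by
    show ((f x).2.2.1.map ι).det = 1
    rw [← RingHom.mapMatrix_apply, ← RingHom.map_det, (f x).2.2.2, map_one]
  let Φ0 : X → Matrix.symplecticGroup (Fin 2) F := fun x =>
    stab (ι ∘ (f x).1) (ι (f x).2.1) (A x) (hA x)
  have hΦ0 : ∀ x y, Φ0 (x * y) = Φ0 x * Φ0 y := fun x y => by
    apply Subtype.ext
    have hmv : ι ∘ ((f x).2.2.1 *ᵥ (f y).1) = A x *ᵥ (ι ∘ (f y).1) := by
      funext i; exact RingHom.map_mulVec ι _ _ i
    show hMat (ι ∘ (f (x * y)).1) (ι (f (x * y)).2.1) * dMat (A (x * y)) =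
      (hMat (ι ∘ (f x).1) (ι (f x).2.1) * dMat (A x)) *
      (hMat (ι ∘ (f y).1) (ι (f y).2.1) * dMat (A y))
    have hAm : A (x * y) = A x * A y := by
      show ((f (x * y)).2.2.1).map ι = (f x).2.2.1.map ι * (f y).2.2.1.map ι
      rw [hfm]
      exact Matrix.map_mul
    symm
    calc _ = hMat (ι ∘ (f x).1) (ι (f x).2.1) * (dMat (A x) * hMat (ι ∘ (f y).1) (ι (f y).2.1)) *
          dMat (A y) := by simp only [mul_assoc]
      _ = (hMat (ι ∘ (f x).1) (ι (f x).2.1) * hMat (A x *ᵥ (ι ∘ (f y).1)) (ι (f y).2.1)) *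
          (dMat (A x) * dMat (A y)) := by rw [dMat_mul_hMat _ (hA x)]; simp only [mul_assoc]
      _ = _ := by
        rw [hMat_mul, dMat_mul, ← hmv, hAm, hfm]
        congr 2
        · funext i; simp only [Pi.add_apply, Function.comp_apply, map_add]
        · simp [map_sub, map_mul, map_add]
  let Φ : X →* Matrix.symplecticGroup (Fin 2) F := MonoidHom.mk' Φ0 hΦ0
  have hΦinj : Function.Injective Φ := fun x y h => by
    obtain ⟨h1, h2, h3⟩ := stab_inj (show Φ0 x = Φ0 y from h)
    refine hfb.1 (Prod.ext (funext fun i => hι.1 (congrFun h1 i)) (Prod.ext (hι.1 h2) (Subtype.ext ?_)))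
    ext i j
    exact hι.1 (congrFun (congrFun h3 i) j)
  obtain ⟨w, hw⟩ := hfb.2 ((0 : Fin 2 → ZMod 3), (1 : ZMod 3), 1)
  have hΦw : Φ w = trv := by
    show stab (ι ∘ (f w).1) (ι (f w).2.1) (A w) (hA w) = stab 0 1 1 Matrix.det_one
    have h1 : A w = 1 := by
      show (f w).2.2.1.map ι = 1
      rw [hw]; exact Matrix.map_one ι (map_zero ι) (map_one ι)
    have h0 : ι ∘ (f w).1 = 0 := by rw [hw]; funext i; simp
    have hk : ι (f w).2.1 = 1 := by rw [hw]; simp
    apply Subtype.ext
    show hMat _ _ * dMat _ = hMat _ _ * dMat _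
    rw [h1, h0, hk]
  have hwc : ∀ x, Commute w x := fun x => by
    apply hfb.1
    rw [hfm, hfm, hw]
    simp [Matrix.mulVec_zero, add_comm]
  have hf1 : f 1 = (0, 0, 1) := by
    have h := hfm 1 1
    rw [one_mul] at h
    have hA1 : (f 1).2.2 = 1 := by
      have := congrArg (·.2.2) h
      simpa using this
    have hv : (f 1).1 = 0 := by
      have := congrArg (·.1) h
      rw [hA1] at this
      simpa using this
    have hk : (f 1).2.1 = 0 := by
      have := congrArg (·.2.1) h
      rw [hA1, hv] at this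
      simpa using this
    exact Prod.ext hv (Prod.ext hk hA1)
  let Z := Subgroup.center (Matrix.symplecticGroup (Fin 2) F)
  let Ψ : X →* Cfsg.PSp 2 F := (QuotientGroup.mk' Z).comp Φ
  have h2 : (2 : F) ≠ 0 := by
    intro h
    have := (CharP.cast_eq_zero_iff F 3 2).1 (by exact_mod_cast h)
    omega
  have hZ : ∀ g ∈ Z, g = 1 ∨ g = CfsgLib.Geom.spNeg 2 F := fun g hg => by
    rcases CfsgLib.Geom.spLin_center (by norm_num) hg with h | h
    · exact Or.inl (CfsgLib.Geom.spLin_ext fun v => by rw [h, CfsgLib.Geom.spLin_one])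
    · exact Or.inr (CfsgLib.Geom.spLin_ext fun v => by rw [h, CfsgLib.Geom.spLin_spNeg])
  have hΨinj : Function.Injective Ψ := by
    rw [injective_iff_map_eq_one]
    intro x hx
    have hxZ : Φ x ∈ Z := (QuotientGroup.eq_one_iff _).1 hx
    rcases hZ _ hxZ with h | h
    · exact hΦinj (h.trans (map_one Φ).symm)
    · exfalso
      have h00 := congrFun (congrFun (congrArg Subtype.val h) (Sum.inl 0)) (Sum.inl 0)
      change (hMat (ι ∘ (f x).1) (ι (f x).2.1) * dMat (A x)) (Sum.inl 0) (Sum.inl 0) = _ at h00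
      simp [hMat, dMat, Matrix.fromBlocks_multiply, CfsgLib.Geom.spNeg] at h00
      exact h2 (by linear_combination h00)
  let c : Cfsg.PSp 2 F := Ψ w
  have hord : orderOf c = 3 := by
    refine orderOf_eq_prime ?_ fun h => ?_
    · have hw2 : f (w * w) = (0, 2, 1) := by
        rw [hfm, hw]; simp; decide
      have hw3 : f (w ^ 3) = f 1 := by
        rw [pow_three, hfm, hw2, hw, hf1]; simp; decide
      rw [← map_pow, hfb.1 hw3, map_one]
    · have := congrArg f (hΨinj (h.trans (map_one Ψ).symm))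
      rw [hw, hf1] at this
      exact absurd (congrArg (·.2.1) this) (by decide)
  -- the centraliser
  have hrange : Ψ.range = Subgroup.centralizer ({c} : Set (Cfsg.PSp 2 F)) := by
    apply le_antisymm
    · rintro _ ⟨x, rfl⟩
      rw [Subgroup.mem_centralizer_iff]
      rintro y hy
      rw [Set.mem_singleton_iff.1 hy]
      exact ((hwc x).map Ψ).eq
    · intro γ hγ
      obtain ⟨g, rfl⟩ := QuotientGroup.mk'_surjective Z γ
      have hcg : c * QuotientGroup.mk' Z g = QuotientGroup.mk' Z g * c :=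
        Subgroup.mem_centralizer_iff.1 hγ c rfl
      set ζ := g * trv * g⁻¹ * trv⁻¹ with hζdef
      have hζ : ζ ∈ Z := by
        apply (QuotientGroup.eq_one_iff _).1
        show QuotientGroup.mk' Z ζ = 1
        have hc' : QuotientGroup.mk' Z trv = c := by rw [← hΦw]; rfl
        rw [hζdef, map_mul, map_mul, map_mul, map_inv, map_inv, hc', ← hcg]
        group
      have ht3 : (trv : Matrix.symplecticGroup (Fin 2) F) ^ 3 = 1 := by
        have hw2 : f (w * w) = (0, 2, 1) := by
          rw [hfm, hw]; simp; decide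
        have hw3 : f (w ^ 3) = f 1 := by
          rw [pow_three, hfm, hw2, hw, hf1]; simp; decide
        rw [← hΦw, ← map_pow, hfb.1 hw3, map_one]
      have hgt : g * trv = ζ * trv * g := by rw [hζdef]; group
      have hζ1 : ζ = 1 := by
        rcases hZ ζ hζ with h | h
        · exact h
        · exfalso
          have e1 : (g * trv * g⁻¹) ^ 3 = 1 := by rw [conj_pow, ht3]; group
          have e2 : g * trv * g⁻¹ = ζ * trv := by rw [hζdef]; group
          have hc : Commute ζ trv := (Subgroup.mem_center_iff.1 hζ trv).symm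
          rw [e2, hc.mul_pow, ht3, mul_one, h] at e1
          have h00 := congrFun (congrFun (congrArg Subtype.val e1) (Sum.inl 0)) (Sum.inl 0)
          simp [CfsgLib.Geom.spNeg, pow_three] at h00
          exact h2 (by linear_combination -h00)
      rw [hζ1, one_mul] at hgt
      obtain ⟨v, k, B, hB, hg⟩ := exists_stab_of_commute hgt
      have hιinv : ∀ y, ∃ x, ι x = y := hι.2
      choose j hj using hιinv
      let B' : Matrix (Fin 2) (Fin 2) (ZMod 3) := B.map j
      have hB' : B'.map ι = B := by ext a b; simp [B', hj]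
      have hdet : B'.det = 1 := hι.1 (by
        rw [RingHom.map_det, RingHom.mapMatrix_apply, hB', hB, map_one])
      obtain ⟨x, hx⟩ := hfb.2 (j ∘ v, j k, ⟨B', hdet⟩)
      have hΦx : Φ x = stab v k B hB := by
        apply Subtype.ext
        show hMat (ι ∘ (f x).1) (ι (f x).2.1) * dMat ((f x).2.2.1.map ι) = hMat v k * dMat B
        rw [hx]
        show hMat (ι ∘ (j ∘ v)) (ι (j k)) * dMat (B'.map ι) = _
        rw [hB', hj]
        congr 2
        funext i; exact hj _
      refine ⟨x, ?_⟩
      show QuotientGroup.mk' Z (Φ x) = QuotientGroup.mk' Z g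
      rw [hΦx]
      rcases hg with hg | hg
      · rw [hg]
      · rw [hg, map_mul]
        have : QuotientGroup.mk' Z (CfsgLib.Geom.spNeg 2 F) = 1 :=
          (QuotientGroup.eq_one_iff _).2 CfsgLib.Geom.spNeg_mem_center
        rw [this, one_mul]
  let E : X ≃* Subgroup.centralizer ({c} : Set (Cfsg.PSp 2 F)) :=
    (MonoidHom.ofInjective hΨinj).trans (MulEquiv.subgroupCongr hrange)
  -- the Sylow subgroup
  haveI : Fact (Nat.Prime 3) := ⟨Nat.prime_three⟩
  obtain ⟨T, -⟩ : ∃ T : Sylow 3 X, True := ⟨default, trivial⟩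
  have hPT : IsPGroup 3 ((T : Subgroup X).map Ψ) := T.2.map Ψ
  obtain ⟨S, hTS⟩ := hPT.exists_le_sylow
  have hwT : w ∈ (T : Subgroup X) := by
    have h3 : w ^ 3 = 1 := hΨinj (by rw [map_pow, map_one, ← hord]; exact pow_orderOf_eq_one c)
    have hn : (Subgroup.zpowers w).Normal := ⟨fun y hy x => by
      obtain ⟨n, rfl⟩ := Subgroup.mem_zpowers_iff.1 hy
      exact Subgroup.mem_zpowers_iff.2 ⟨n, by rw [((hwc x).symm.zpow_right n).eq, mul_inv_cancel_right]⟩⟩
    have hp : IsPGroup 3 (Subgroup.zpowers w) := by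
      refine IsPGroup.of_card (n := 1) ?_
      rw [Nat.card_zpowers, pow_one]
      refine orderOf_eq_prime h3 fun h => ?_
      have := congrArg f h
      rw [hw, hf1] at this
      exact absurd (congrArg (·.2.1) this) (by decide)
    exact CfsgLib.Solvable.pCore_le_sylow T
      (CfsgLib.Solvable.le_pCore hn hp (Subgroup.mem_zpowers w))
  have hcS : c ∈ (S : Subgroup (Cfsg.PSp 2 F)) := hTS ⟨w, hwT, rfl⟩
  refine ⟨c, S, hord, hcS, ?_, ⟨E⟩⟩
  haveI : Finite (Cfsg.PSp 2 F) := Quotient.finite _
  -- the centre of S consists of images of central elements of T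
  have hRT : Cfsg.pCore 3 X ≤ (T : Subgroup X) := CfsgLib.Solvable.pCore_le_sylow T
  set P := (T : Subgroup X).map Ψ with hPdef
  have hcent : ∀ z ∈ Subgroup.centralizer (P : Set (Cfsg.PSp 2 F)), z ∈ P →
      z ∈ Subgroup.zpowers c := by
    intro z hz hzP
    obtain ⟨x, hxT, rfl⟩ := hzP
    have hcomm : ∀ y ∈ (T : Subgroup X), y * x = x * y := fun y hy => hΨinj (by
      rw [map_mul, map_mul]
      exact Subgroup.mem_centralizer_iff.1 hz _ ⟨y, hy, rfl⟩)
    obtain ⟨y1, hy1⟩ := hfb.2 (![1, 0], 0, 1)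
    obtain ⟨y2, hy2⟩ := hfb.2 (![0, 1], 0, 1)
    have hRmem : ∀ y, (f y).2.2 = 1 → y ∈ (T : Subgroup X) := by
      intro y hy
      let N : Subgroup X := { carrier := {y | (f y).2.2 = 1}
                              one_mem' := by simp [hf1]
                              mul_mem' := fun {a b} ha hb => by
                                simp only [Set.mem_setOf_eq] at ha hb ⊢
                                rw [hfm, ha, hb, mul_one]
                              inv_mem' := fun {a} ha => by
                                simp only [Set.mem_setOf_eq] at ha ⊢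
                                have := congrArg (·.2.2) (hfm a a⁻¹)
                                simp [hf1, ha] at this
                                exact this.symm }
      have hN : N.Normal := ⟨fun a (ha : (f a).2.2 = 1) x => by
        show (f (x * a * x⁻¹)).2.2 = 1
        have h1 := congrArg (·.2.2) (hfm x x⁻¹)
        rw [hfm, hfm]
        simp only [ha, mul_one]
        simp [hf1] at h1
        exact h1.symm⟩
      have hNp : IsPGroup 3 N := by
        refine IsPGroup.of_card (n := 3) ?_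
        have : Function.Bijective (fun y : N => ((f y.1).1, (f y.1).2.1)) := by
          refine ⟨fun a b h => Subtype.ext (hfb.1 ?_), fun p => ?_⟩
          · simp only [Prod.mk.injEq] at h
            exact Prod.ext h.1 (Prod.ext h.2 (a.2.trans b.2.symm))
          · obtain ⟨y, hy⟩ := hfb.2 (p.1, p.2, 1)
            exact ⟨⟨y, show (f y).2.2 = 1 by rw [hy]⟩, by simp [hy]⟩
        rw [Nat.card_congr (Equiv.ofBijective _ this)]
        simp
      exact hRT (CfsgLib.Solvable.le_pCore hN hNp hy)
    have e1 := congrArg f (hcomm y1 (hRmem y1 (by rw [hy1])))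
    have e2 := congrArg f (hcomm y2 (hRmem y2 (by rw [hy2])))
    rw [hfm, hfm, hy1] at e1
    rw [hfm, hfm, hy2] at e2
    have e1v := congrArg (·.1) e1
    have e2v := congrArg (·.1) e2
    have e1k := congrArg (·.2.1) e1
    have e2k := congrArg (·.2.1) e2
    simp only [Matrix.SpecialLinearGroup.coe_one, Matrix.one_mulVec] at e1v e2v e1k e2k
    set B := (f x).2.2.1 with hBdef
    have hA1 : (f x).2.2 = 1 := by
      apply Subtype.ext
      show B = 1
      apply Matrix.ext_of_mulVec_single
      intro i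
      fin_cases i
      · have : (Pi.single (0 : Fin 2) (1 : ZMod 3)) = ![1, 0] := by funext j; fin_cases j <;> simp
        simp only [Fin.zero_eta, this, Matrix.one_mulVec]
        linear_combination (norm := module) -e1v
      · have : (Pi.single (1 : Fin 2) (1 : ZMod 3)) = ![0, 1] := by funext j; fin_cases j <;> simp
        simp only [Fin.mk_one, this, Matrix.one_mulVec]
        linear_combination (norm := module) -e2v
    have hB1 : B = 1 := congrArg Subtype.val hA1
    rw [hB1, Matrix.one_mulVec] at e1k e2k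
    simp at e1k e2k
    have h3 : (3 : ZMod 3) = 0 := rfl
    have hv : (f x).1 = 0 := by
      funext i
      fin_cases i
      · show (f x).1 0 = 0
        linear_combination -e2k + (f x).1 0 * h3
      · show (f x).1 1 = 0
        linear_combination e1k + (f x).1 1 * h3
    have hpow : ∀ n : ℕ, f (w ^ n) = (0, (n : ZMod 3), 1) := by
      intro n
      induction n with
      | zero => simp [hf1]
      | succ n ih => rw [pow_succ, hfm, ih, hw]; simp
    refine Subgroup.mem_zpowers_iff.2 ⟨((f x).2.1.val : ℤ), ?_⟩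
    rw [zpow_natCast, ← map_pow]
    congr 1
    apply hfb.1
    rw [hpow, ZMod.natCast_zmod_val]
    exact Prod.ext hv.symm (Prod.ext rfl hA1.symm)
  have hPeq : P = (S : Subgroup (Cfsg.PSp 2 F)) := by
    by_contra hne
    have hlt : P < (S : Subgroup (Cfsg.PSp 2 F)) := lt_of_le_of_ne hTS hne
    obtain ⟨g, hgS, hgP, hgN⟩ : ∃ g, g ∈ (S : Subgroup (Cfsg.PSp 2 F)) ∧ g ∉ P ∧
        g ∈ Subgroup.normalizer (P : Set (Cfsg.PSp 2 F)) := by
      haveI : Group.IsNilpotent (S : Subgroup (Cfsg.PSp 2 F)) := S.2.isNilpotent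
      have hlt' : P.subgroupOf S < ⊤ := lt_top_iff_ne_top.2 fun h =>
        not_le_of_gt hlt (Subgroup.subgroupOf_eq_top.1 h)
      have hn := Group.normalizerCondition_of_isNilpotent (P.subgroupOf S) hlt'
      obtain ⟨g, hgN, hgP⟩ := SetLike.exists_of_lt hn
      refine ⟨g, g.2, fun h => hgP (Subgroup.mem_subgroupOf.2 h), ?_⟩
      refine Subgroup.mem_normalizer_iff.2 fun y => ?_
      have hN := Subgroup.mem_normalizer_iff.1 hgN
      constructor
      · intro hy
        exact Subgroup.mem_subgroupOf.1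
          ((hN ⟨y, hTS hy⟩).1 (Subgroup.mem_subgroupOf.2 hy))
      · intro hy
        have hyS : y ∈ (S : Subgroup (Cfsg.PSp 2 F)) := by
          have := mul_mem (mul_mem (inv_mem g.2) (hTS hy)) g.2
          simpa [mul_assoc] using this
        exact Subgroup.mem_subgroupOf.1
          ((hN ⟨y, hyS⟩).2 (Subgroup.mem_subgroupOf.2 hy))
    -- g normalises the centre of P
    have hN := Subgroup.mem_normalizer_iff.1 hgN
    have hcP : c ∈ P := ⟨w, hwT, rfl⟩
    have hgc : (g : Cfsg.PSp 2 F) * c * g⁻¹ ∈ Subgroup.zpowers c := by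
      refine hcent _ (Subgroup.mem_centralizer_iff.2 fun y hy => ?_) ((hN c).1 hcP)
      have hy' : g⁻¹ * y * g ∈ P := (hN _).2 (by simpa [mul_assoc] using hy)
      obtain ⟨y0, -, hy0⟩ := hy'
      have hcy : c * (g⁻¹ * y * g) = (g⁻¹ * y * g) * c := by
        rw [← hy0]; exact ((hwc y0).map Ψ).eq
      calc y * (g * c * g⁻¹) = g * ((g⁻¹ * y * g) * c) * g⁻¹ := by group
        _ = g * c * g⁻¹ * y := by rw [← hcy]; group
    obtain ⟨n, hn⟩ := Subgroup.mem_zpowers_iff.1 hgc
    have hgcom : g * c = c * g := by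
      -- an element of 3-power order conjugating c to a power of c centralises it
      obtain ⟨m, hm⟩ := S.2 ⟨g, hgS⟩
      have hm' : g ^ 3 ^ m = 1 := congrArg Subtype.val hm
      have hiter : ∀ i : ℕ, g ^ i * c * (g ^ i)⁻¹ = c ^ (n ^ i) := by
        intro i
        induction i with
        | zero => simp
        | succ i ih =>
          calc g ^ (i + 1) * c * (g ^ (i + 1))⁻¹ = g ^ i * (g * c * g⁻¹) * (g ^ i)⁻¹ := by
                rw [pow_succ]; group
            _ = (g ^ i * c * (g ^ i)⁻¹) ^ n := by rw [← hn, conj_zpow]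
            _ = _ := by rw [ih, ← _root_.zpow_mul, pow_succ]
      have h1 := hiter (3 ^ m)
      rw [hm', one_mul, inv_one, mul_one] at h1
      have h2 : c ^ (n ^ 3 ^ m - 1) = 1 := by
        rw [_root_.zpow_sub, _root_.zpow_one, ← h1, mul_inv_cancel]
      have h3 := orderOf_dvd_iff_zpow_eq_one.2 h2
      rw [hord] at h3
      have h4 : ((n : ZMod 3)) ^ 3 ^ m = 1 := by
        have := (ZMod.intCast_zmod_eq_zero_iff_dvd _ 3).2 h3
        push_cast at this
        linear_combination this
      have h5 : ∀ k : ℕ, ∀ a : ZMod 3, a ^ 3 ^ k = a := by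
        intro k
        induction k with
        | zero => intro a; simp
        | succ k ih =>
          intro a
          rw [pow_succ, pow_mul, ih]
          have h : ∀ b : ZMod 3, b ^ 3 = b := by intro b; fin_cases b <;> rfl
          exact h a
      rw [h5] at h4
      have h6 : c ^ n = c ^ (1 : ℤ) := by
        rw [zpow_eq_zpow_iff_modEq, hord]
        exact (ZMod.intCast_eq_intCast_iff n 1 3).1 (by simpa using h4)
      rw [h6, zpow_one] at hn
      calc g * c = (g * c * g⁻¹) * g := by group
        _ = c * g := by rw [← hn]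
    have hgC : g ∈ Ψ.range := by
      rw [hrange]
      exact Subgroup.mem_centralizer_iff.2 fun y hy => by rw [Set.mem_singleton_iff.1 hy, hgcom]
    obtain ⟨x, hx⟩ := hgC
    -- then the preimage of S in X is a larger 3-subgroup
    have hSc : IsPGroup 3 (((S : Subgroup (Cfsg.PSp 2 F)) ⊓ Ψ.range).comap Ψ) :=
      (S.2.to_le inf_le_left).comap_of_injective Ψ hΨinj
    have hTle : (T : Subgroup X) ≤ ((S : Subgroup (Cfsg.PSp 2 F)) ⊓ Ψ.range).comap Ψ := fun y hy =>
      ⟨hTS ⟨y, hy, rfl⟩, ⟨y, rfl⟩⟩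
    have hTeq := T.3 hSc hTle
    refine hgP ⟨x, ?_, hx⟩
    rw [← hTeq]
    exact ⟨by show Ψ x ∈ _; rw [hx]; exact hgS, ⟨x, rfl⟩⟩
  refine Subgroup.mem_centralizer_iff.2 fun y hy => ?_
  have hyP : y ∈ P := hPeq ▸ hy
  obtain ⟨y0, -, rfl⟩ := hyP
  exact ((hwc y0).map Ψ).eq.symm

end Cfsg.Agent.S3366
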