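import Cfsg.Statements.S3371
import Cfsg.Agent.Lib.Recog.HalfTransPGroup

set_option autoImplicit false
open Cfsg

namespace Cfsg.Agent.S3371

open CfsgLib.Recog

/-- Let q be a prime, V a non-trivial finite vector space over the field with q elements, and G a finite p-group (p prime) acting faithfully and linearly on V such that all G-orbits on the non-zero vectors have the same size. Then one of the following holds: G is cyclic or generalized quaternion and acts semiregularly on the non-zero vectors; or V has q² elements with q = 2^m − 1 and G is dihedral of order 2^(m+1) or semidihedral of order 2^(m+2); or V has q² elements with q = 2^m + 1 and, in suitable coordinates V = F_q², G is exactly the group of maps (x, y) ↦ (a x, ± a⁻¹ y) and (x, y) ↦ (± a⁻¹ y, a x) with a ≠ 0; or V has 81 elements (q = 3) and G is a 2-group. -/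
theorem result (q : ℕ) [Fact q.Prime] {V : Type*} [AddCommGroup V] [Module (ZMod q) V] [Finite V] [Nontrivial V]
    {G : Type*} [Group G] [Finite G] (p : ℕ) [Fact p.Prime] (hG : IsPGroup p G)
    (ρ : G →* (V ≃ₗ[ZMod q] V)) (hρ : Function.Injective ρ)
    (hhalf : ∀ v w : V, v ≠ 0 → w ≠ 0 → Nat.card {u : V | ∃ g : G, ρ g v = u} = Nat.card {u : V | ∃ g : G, ρ g w = u}) :
    ((IsCyclic G ∨ ∃ n : ℕ, Nonempty (G ≃* QuaternionGroup n)) ∧ ∀ v : V, v ≠ 0 → ∀ g : G, ρ g v = v → g = 1) ∨
    (Nat.card V = q ^ 2 ∧ ∃ m : ℕ, q = 2 ^ m - 1 ∧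
      (Nonempty (G ≃* DihedralGroup (2 ^ m)) ∨ (Cfsg.IsQuasiDihedral G ∧ Nat.card G = 2 ^ (m + 2)))) ∨
    (Nat.card V = q ^ 2 ∧ (∃ m : ℕ, q = 2 ^ m + 1) ∧
      ∃ e : V ≃ₗ[ZMod q] (Fin 2 → ZMod q), ∀ f : (Fin 2 → ZMod q) ≃ₗ[ZMod q] (Fin 2 → ZMod q),
        (∃ g : G, f = e.symm.trans ((ρ g).trans e)) ↔
        ∃ a s : ZMod q, a ≠ 0 ∧ (s = 1 ∨ s = -1) ∧
          ((∀ v, f v = ![a * v 0, s * a⁻¹ * v 1]) ∨ (∀ v, f v = ![s * a⁻¹ * v 1, a * v 0]))) ∨
    (Nat.card V = 81 ∧ q = 3 ∧ p = 2) := by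
  have hcard := fun v w (hv : v ≠ 0) (hw : w ≠ 0) => HalfTransP.card_st ρ hhalf (v := v) (w := w) hv hw
  have hp : p.Prime := Fact.out
  have hqprime : q.Prime := Fact.out
  by_cases hfree : ∀ v : V, v ≠ 0 → HalfTransP.st ρ v = ⊥
  · refine Or.inl ⟨HalfTransP.semiregular_type ρ hG hfree, fun v hv g hg => ?_⟩
    have : g ∈ HalfTransP.st ρ v := hg
    rwa [hfree v hv, Subgroup.mem_bot] at this
  push Not at hfree
  obtain ⟨v0, hv0, hst0⟩ := hfree
  have hns : ∃ v : V, v ≠ 0 ∧ HalfTransP.st ρ v ≠ ⊥ := ⟨v0, hv0, hst0⟩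
  have hirr := HalfTransP.irreducible ρ hρ hhalf hns
  -- central elements have no fixed vectors
  have hcen : ∀ z ∈ Subgroup.center G, z ≠ 1 → ∀ v : V, ρ z v = v → v = 0 := by
    intro z hz hz1 v hv
    rcases hirr (HalfTransP.fixSp ρ z) (fun g w hw => by
      rw [HalfTransP.mem_fixSp] at hw ⊢
      rw [← HalfTransP.act_mul, ← Subgroup.mem_center_iff.1 hz g, HalfTransP.act_mul, hw]) with h | h
    · have hmem : v ∈ HalfTransP.fixSp ρ z := (HalfTransP.mem_fixSp ρ).2 hv
      rwa [h, Submodule.mem_bot] at hmem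
    · exact absurd (hρ (LinearEquiv.ext fun u => by
        rw [HalfTransP.act_one]
        exact (HalfTransP.mem_fixSp ρ).1 (h ▸ Submodule.mem_top : u ∈ HalfTransP.fixSp ρ z))) hz1
  -- an element of order `p` fixing `v0`
  obtain ⟨g1, hg1, hg1o⟩ : ∃ g, g ∈ HalfTransP.st ρ v0 ∧ orderOf g = p := by
    haveI : Nontrivial (HalfTransP.st ρ v0) := (Subgroup.nontrivial_iff_ne_bot _).2 hst0
    obtain ⟨k, hk⟩ := IsPGroup.iff_card.1 (hG.to_subgroup (HalfTransP.st ρ v0))
    have hk0 : k ≠ 0 := by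
      rintro rfl
      rw [pow_zero] at hk
      exact absurd hk (Finite.one_lt_card (α := HalfTransP.st ρ v0)).ne'
    obtain ⟨⟨g, hg⟩, ho⟩ :=
      exists_prime_orderOf_dvd_card' (G := HalfTransP.st ρ v0) p (hk ▸ dvd_pow_self p hk0)
    exact ⟨g, hg, by rw [← ho, Subgroup.orderOf_mk]⟩
  have hg11 : g1 ≠ 1 := fun e => hp.ne_one (by rw [← hg1o, e, orderOf_one])
  have hg1c : g1 ∉ Subgroup.center G := fun h => hv0 (hcen g1 h hg11 v0 hg1)
  haveI : Nontrivial G := ⟨⟨g1, 1, hg11⟩⟩
  have hpq : p ≠ q := by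
    rintro rfl
    letI : MulAction G V :=
      { smul := fun g v => ρ g v
        one_smul := HalfTransP.act_one ρ
        mul_smul := fun a b v => HalfTransP.act_mul ρ a b v }
    have hdvd : p ∣ Nat.card V := by
      rw [Module.natCard_eq_pow_finrank (K := ZMod p), Nat.card_zmod]
      exact dvd_pow_self p (Module.finrank_pos (R := ZMod p) (M := V)).ne'
    obtain ⟨w, hw, hw0⟩ := hG.exists_fixed_point_of_prime_dvd_card_of_fixed_point V hdvd
      (a := (0 : V)) (fun g => map_zero (ρ g))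
    obtain ⟨z, hz, hzc⟩ := PGroupImprimitive.exists_central hG
    exact hw0 (hcen z hzc (fun e => hp.ne_one (by rw [← hz, e, orderOf_one])) w (hw z)).symm
  have hnc : ¬ IsCyclic G := fun h => by
    letI : CommGroup G := IsCyclic.commGroup
    exact hg1c (Subgroup.mem_center_iff.2 fun g => mul_comm g g1)
  have hnq : ∀ n : ℕ, ¬ Nonempty (G ≃* QuaternionGroup n) := by
    rintro n ⟨e⟩
    have hn : n ≠ 0 := by
      rintro rfl
      haveI : Finite ℤ :=
        Finite.of_injective (fun i : ℤ => e.symm (QuaternionGroup.a (n := 0) i)) fun i j h =>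
          QuaternionGroup.a.inj (e.symm.injective h)
      exact (not_finite ℤ).elim
    haveI : NeZero n := ⟨hn⟩
    have hp2 : p = 2 := by
      obtain ⟨k, hk⟩ := IsPGroup.iff_card.1 hG
      rw [Nat.card_congr e.toEquiv, Nat.card_eq_fintype_card, QuaternionGroup.card] at hk
      have : 2 ∣ p ^ k := ⟨2 * n, by rw [← hk]; ring⟩
      exact ((Nat.prime_dvd_prime_iff_eq Nat.prime_two hp).1 (Nat.prime_two.dvd_of_dvd_pow this)).symm
    have hsq : e g1 * e g1 = 1 := by
      rw [← map_mul, ← pow_two, ← hp2, ← hg1o, pow_orderOf_eq_one, map_one]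
    cases hcase : e g1 with
    | a i =>
      apply hg1c
      rw [hcase, QuaternionGroup.a_mul_a, QuaternionGroup.one_def, QuaternionGroup.a.injEq] at hsq
      refine Subgroup.mem_center_iff.2 fun g => e.injective ?_
      rw [map_mul, map_mul, hcase]
      cases e g with
      | a j => rw [QuaternionGroup.a_mul_a, QuaternionGroup.a_mul_a, add_comm]
      | xa j =>
        rw [QuaternionGroup.xa_mul_a, QuaternionGroup.a_mul_xa]
        congr 1
        linear_combination hsq
    | xa i =>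
      rw [hcase, QuaternionGroup.xa_mul_xa, add_sub_cancel_right, QuaternionGroup.one_def,
        QuaternionGroup.a.injEq, ZMod.natCast_eq_zero_iff] at hsq
      have := Nat.le_of_dvd (Nat.pos_of_ne_zero hn) hsq
      omega
  have hq3 : p = 2 → 3 ≤ q := fun h => by
    have := hqprime.two_le
    omega
  by_cases hsd : Cfsg.IsQuasiDihedral G
  · obtain ⟨n, hn, hcardG, x, y, hx, hy, hconj⟩ := hsd
    have hp2 : p = 2 := by
      obtain ⟨k, hk⟩ := IsPGroup.iff_card.1 hG
      have : 2 ∣ p ^ k := hk ▸ hcardG ▸ dvd_pow_self 2 (by omega)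
      exact ((Nat.prime_dvd_prime_iff_eq Nat.prime_two hp).1 (Nat.prime_two.dvd_of_dvd_pow this)).symm
    have hxN : x ^ 2 ^ n = 1 := by rw [← hx, pow_orderOf_eq_one]
    have hr : x ^ (2 ^ (n - 1) - 1) = x ^ (2 ^ (n - 1)) * x⁻¹ := by
      rw [eq_mul_inv_iff_mul_eq, ← pow_succ, Nat.sub_add_cancel Nat.one_le_two_pow]
    have hne : x ^ (2 ^ (n - 1) - 1) ≠ x⁻¹ := fun e => by
      rw [hr, mul_eq_right] at e
      have := orderOf_dvd_of_pow_eq_one e
      rw [hx, Nat.pow_dvd_pow_iff_le_right (by norm_num)] at this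
      omega
    have hyx : y ∉ Subgroup.zpowers x := fun h => by
      obtain ⟨i, rfl⟩ := Subgroup.mem_zpowers_iff.1 h
      rw [((Commute.refl x).zpow_left i).eq, mul_inv_cancel_right] at hconj
      have h1 : x ^ (2 ^ (n - 1) - 1) = x ^ 1 := by rw [pow_one]; exact hconj.symm
      rw [pow_inj_mod, hx] at h1
      have h4 : 4 ≤ 2 ^ (n - 1) := by
        calc 4 = 2 ^ 2 := rfl
          _ ≤ 2 ^ (n - 1) := Nat.pow_le_pow_right (by norm_num) (by omega)
      have h5 : 2 ^ (n - 1) < 2 ^ n := Nat.pow_lt_pow_right (by norm_num) (by omega)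
      rw [Nat.mod_eq_of_lt (by omega), Nat.mod_eq_of_lt (by omega)] at h1
      omega
    obtain ⟨hV, -, h2⟩ := HalfTransP.reflections ρ hρ (hq3 hp2) hcard hns hirr (by omega) hx hcardG
      (by rw [← pow_two, ← hy, pow_orderOf_eq_one]) hyx hconj (Or.inr ⟨hn, hr⟩)
    refine Or.inr (Or.inl ⟨hV, n - 1, ?_, Or.inr ⟨⟨n, hn, hcardG, x, y, hx, hy, hconj⟩, ?_⟩⟩)
    · have := h2 hne; omega
    · rw [hcardG]; congr 1; omega
  by_cases hd : ∃ n : ℕ, Nonempty (G ≃* DihedralGroup n)
  · obtain ⟨n, ⟨e⟩⟩ := hd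
    have hn : n ≠ 0 := by
      rintro rfl
      haveI : Finite ℤ :=
        Finite.of_injective (fun i : ℤ => e.symm (DihedralGroup.r (n := 0) i)) fun i j h =>
          DihedralGroup.r.inj (e.symm.injective h)
      exact (not_finite ℤ).elim
    haveI : NeZero n := ⟨hn⟩
    obtain ⟨k, hk⟩ := IsPGroup.iff_card.1 hG
    have hk' := hk
    rw [Nat.card_congr e.toEquiv, DihedralGroup.nat_card] at hk'
    have hp2 : p = 2 := by
      have : 2 ∣ p ^ k := hk' ▸ Dvd.intro n rfl
      exact ((Nat.prime_dvd_prime_iff_eq Nat.prime_two hp).1 (Nat.prime_two.dvd_of_dvd_pow this)).symm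
    subst hp2
    obtain ⟨j, -, hj⟩ : ∃ j ≤ k, n = 2 ^ j :=
      (Nat.dvd_prime_pow Nat.prime_two).1 (Dvd.intro_left 2 hk')
    subst hj
    by_cases hj2 : j ≤ 1
    · exfalso
      apply hg1c
      refine Subgroup.mem_center_iff.2 fun g => e.injective ?_
      rw [map_mul, map_mul]
      have hsmall : ∀ a b : DihedralGroup (2 ^ j), a * b = b * a := by
        interval_cases j <;> decide
      exact hsmall _ _
    push Not at hj2
    set x := e.symm (DihedralGroup.r 1) with hxdef
    set y := e.symm (DihedralGroup.sr 0) with hydef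
    have hx : orderOf x = 2 ^ j := by
      rw [hxdef, MulEquiv.orderOf_eq, DihedralGroup.orderOf_r_one]
    have hcardG : Nat.card G = 2 ^ (j + 1) := by
      rw [Nat.card_congr e.toEquiv, DihedralGroup.nat_card, pow_succ']
    have hy : y * y = 1 := by rw [hydef, ← map_mul, DihedralGroup.sr_mul_self, map_one]
    have hconj : y * x * y⁻¹ = x⁻¹ := by
      rw [inv_eq_of_mul_eq_one_right hy, hxdef, hydef, ← map_mul, ← map_mul, ← map_inv]
      congr 1
      simp
    have hyx : y ∉ Subgroup.zpowers x := fun h => by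
      obtain ⟨i, hi⟩ := Subgroup.mem_zpowers_iff.1 h
      have := congrArg e hi
      simp [hxdef, hydef, map_zpow] at this
    obtain ⟨hV, h1, -⟩ := HalfTransP.reflections ρ hρ (hq3 rfl) hcard hns hirr hj2 hx hcardG hy hyx
      (r := 2 ^ j - 1) (by
        rw [hconj]
        refine (eq_inv_of_mul_eq_one_left ?_).symm
        rw [← pow_succ, Nat.sub_add_cancel Nat.one_le_two_pow, ← hx, pow_orderOf_eq_one])
      (Or.inl (eq_inv_of_mul_eq_one_left (by
        rw [← pow_succ, Nat.sub_add_cancel Nat.one_le_two_pow, ← hx, pow_orderOf_eq_one])))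
    refine Or.inr (Or.inl ⟨hV, j, ?_, Or.inl ⟨e⟩⟩)
    have := h1 (eq_inv_of_mul_eq_one_left (by
      rw [← pow_succ, Nat.sub_add_cancel Nat.one_le_two_pow, ← hx, pow_orderOf_eq_one]))
    omega
  push Not at hd
  obtain ⟨H, W, hHi, hsup, hind, hH, hK, hmove⟩ :=
    PGroupImprimitive.exists_blocks hG ρ hρ hirr hnc hnq (fun n h => (not_nonempty_iff.2 (hd n)) h) hsd
  have hHne : ∃ g : G, g ∉ H := by
    by_contra h
    push Not at h
    have : H = ⊤ := eq_top_iff.2 fun g _ => h g
    rw [this, Subgroup.index_top] at hHi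
    exact hp.ne_one hHi.symm
  by_cases hp2 : p = 2
  · subst hp2
    have hc : IsCompl (W 0) (W 1) := by
      refine IsCompl.of_eq ?_ ?_
      · exact disjoint_iff.1 (hind.pairwiseDisjoint (zero_ne_one : (0 : ZMod 2) ≠ 1))
      · rw [eq_top_iff, ← hsup]
        refine iSup_le fun i => ?_
        fin_cases i
        · exact le_sup_left
        · exact le_sup_right
    have hone : ∀ g : G, g ∉ H → ∀ i : ZMod 2, (W i).map (ρ g : V →ₗ[ZMod q] V) = W (i + 1) := by
      intro g hg i
      obtain ⟨k, hk, hmap⟩ := hmove g hg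
      have : k = 1 := by fin_cases k <;> first | rfl | exact absurd rfl hk
      rw [← this]
      exact hmap i
    rcases HalfTransP.blocks_two ρ hρ hG (hq3 rfl) hcard H hHi (W 0) (W 1) hc
        (fun h hh => hH h hh 0) (fun h hh => hH h hh 1) (hK 0)
        (fun g hg => by simpa using hone g hg 0)
        (fun g hg => by
          have := hone g hg 1
          rwa [show (1 : ZMod 2) + 1 = 0 from rfl] at this) with h | ⟨h81, hq⟩
    · exact Or.inr (Or.inr (Or.inl h))
    · exact Or.inr (Or.inr (Or.inr ⟨h81, hq, rfl⟩))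
  · exact (HalfTransP.blocks_odd ρ hρ hcard hp2 H hHne W hsup hind hH hK hmove).elim

end Cfsg.Agent.S3371
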