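import Cfsg.Statements.S3374
import Mathlib
import Cfsg.Agent.Lib.Recog.BinaryIcosahedral
import Cfsg.Agent.Lib.StructC.FrobSemi

set_option autoImplicit false
open Cfsg CfsgLib.Recog

namespace Cfsg.Agent.S3374

def gS : Matrix.SpecialLinearGroup (Fin 2) (ZMod 5) := ⟨sFive, by decide +kernel⟩
def gT : Matrix.SpecialLinearGroup (Fin 2) (ZMod 5) := ⟨tFive, by decide +kernel⟩

theorem im11_mul (g h : Matrix.SpecialLinearGroup (Fin 2) (ZMod 5)) :
    im11 (g.1 * h.1) = im11 g.1 * im11 h.1 := by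
  let Q : Submonoid (Matrix.SpecialLinearGroup (Fin 2) (ZMod 5)) :=
    { carrier := {h | ∀ g : Matrix.SpecialLinearGroup (Fin 2) (ZMod 5), im11 (g.1 * h.1) = im11 g.1 * im11 h.1}
      one_mem' := fun g => by
        rw [Matrix.SpecialLinearGroup.coe_one, mul_one, im11_one, mul_one]
      mul_mem' := fun {a b} ha hb g => by
        rw [Matrix.SpecialLinearGroup.coe_mul, ← mul_assoc, ← Matrix.SpecialLinearGroup.coe_mul g a, hb (g * a),
          Matrix.SpecialLinearGroup.coe_mul, ha g, mul_assoc, hb a] }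
  have hs : gS ∈ Q := fun g => (facts25 g).2.1
  have ht : gT ∈ Q := fun g => (facts25 g).2.2.1
  suffices h ∈ Q from this g
  have heq : h = word25 gS gT (h.1 0 0) (h.1 0 1) (h.1 1 0) (h.1 1 1) := by
    apply Subtype.ext
    conv_lhs => rw [← (facts25 h).1]
    unfold word25
    simp only
    split_ifs <;> simp only [Matrix.SpecialLinearGroup.coe_mul, Matrix.SpecialLinearGroup.coe_pow] <;> rfl
  rw [heq]
  unfold word25
  simp only
  have pS : ∀ n : ℕ, gS ^ n ∈ Q := fun n => Q.pow_mem hs n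
  have pT : ∀ n : ℕ, gT ^ n ∈ Q := fun n => Q.pow_mem ht n
  split_ifs
  · exact Q.mul_mem (Q.mul_mem (Q.mul_mem (Q.mul_mem (Q.mul_mem (Q.mul_mem (pT _) hs) (pT _)) (pS _)) (pT _)) hs) (pT _)
  · exact Q.mul_mem (Q.mul_mem (Q.mul_mem (Q.mul_mem (Q.mul_mem (Q.mul_mem (pT _) (pT _)) hs) (pT _)) (pS _)) (pT _)) (pT _)

/-- SL(2,5) occurs as a Frobenius complement: there is a finite group L with a subgroup H isomorphic to SL(2,5) which is a non-trivial proper subgroup meeting each conjugate gHg⁻¹ with g outside H trivially. -/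
theorem result :
    ∃ (L : Type) (_ : Group L) (_ : Finite L) (H : Subgroup L),
      Cfsg.IsFrobeniusComplement H ∧ Nonempty (H ≃* Matrix.SpecialLinearGroup (Fin 2) (ZMod 5)) := by
  have : Fact (Nat.Prime 11) := ⟨by norm_num⟩
  have : Nontrivial (Matrix.SpecialLinearGroup (Fin 2) (ZMod 5)) :=
    ⟨⟨gS, 1, fun h => absurd (congrArg Subtype.val h) (by decide +kernel)⟩⟩
  obtain ⟨L, hG, hfin, C, hC, he, -⟩ := CfsgLib.StructC.exists_frobenius_of_fpf_add
    (H := Matrix.SpecialLinearGroup (Fin 2) (ZMod 5)) (V := Fin 2 → ZMod 11) (fun g v => Matrix.mulVec (im11 g.1) v)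
    (fun v => by
      simp [im11_one])
    (fun a b v => by simp only [Matrix.SpecialLinearGroup.coe_mul, im11_mul, Matrix.mulVec_mulVec])
    (fun a v w => Matrix.mulVec_add _ v w)
    (fun g hg v hv => by
      by_contra hv0
      obtain ⟨-, -, -, hdet, htr⟩ := facts25 g
      apply hg
      apply htr
      have hd : (im11 g.1 - 1).det = 0 :=
        Matrix.exists_mulVec_eq_zero_iff.mp ⟨v, hv0, by simp [Matrix.sub_mulVec, hv]⟩
      rw [Matrix.det_fin_two] at hd hdet
      simp only [Matrix.sub_apply, Matrix.one_apply, if_true, one_ne_zero, zero_ne_one, if_false, sub_zero] at hd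
      linear_combination hdet - hd)
  obtain ⟨e⟩ := he
  exact ⟨L, hG, hfin, C, hC, ⟨e.symm⟩⟩

end Cfsg.Agent.S3374
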