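import Cfsg.Statements.S3375


set_option autoImplicit false
open Cfsg

namespace Cfsg.Agent.S3375

/-- Let γ be an automorphism of order 2 of a finite group H. (i) If γ fixes only the identity, then H is abelian and γ inverts every element. (ii) If γ has exactly two fixed points and H has a subgroup of index 2, then H has a γ-invariant abelian subgroup of index 2 on which γ acts by inversion. -/
theorem result {H : Type*} [Group H] [Finite H] (γ : MulAut H) (hγ : orderOf γ = 2) :
    ((∀ h : H, γ h = h → h = 1) → (∀ a b : H, a * b = b * a) ∧ ∀ h : H, γ h = h⁻¹) ∧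
    ((Nat.card {h : H // γ h = h} = 2 ∧ ∃ M : Subgroup H, M.index = 2) →
      ∃ A : Subgroup H, A.index = 2 ∧ IsMulCommutative A ∧ (∀ a ∈ A, γ a ∈ A) ∧ ∀ a ∈ A, γ a = a⁻¹) := by
  have h2 : ∀ x : H, γ (γ x) = x := fun x => by
    have h := congrArg (fun f : MulAut H => f x) (pow_orderOf_eq_one γ)
    simpa [hγ, pow_two] using h
  refine ⟨fun hf => ?_, ?_⟩
  · have hff : MonoidHom.FixedPointFree (γ : H → H) := hf
    exact ⟨fun a b => hff.commute_all_of_involutive h2 a b, congrFun (hff.coe_eq_inv_of_involutive h2)⟩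
  rintro ⟨h2fix, M, hM⟩
  obtain ⟨A, hA2, hAγ⟩ : ∃ A : Subgroup H, A.index = 2 ∧ ∀ x ∈ A, γ x ∈ A := by
    by_cases hinv : ∀ x ∈ M, γ x ∈ M
    · exact ⟨M, hM, hinv⟩
    push Not at hinv
    obtain ⟨x₀, hx₀, hγx₀⟩ := hinv
    let A : Subgroup H :=
      { carrier := {h | h ∈ M ↔ γ h ∈ M}
        one_mem' := by simp
        mul_mem' := fun {x y} hx hy => by
          simp only [Set.mem_ofPred_eq] at hx hy ⊢
          rw [map_mul, Subgroup.mul_mem_iff_of_index_two hM, Subgroup.mul_mem_iff_of_index_two hM, hx, hy]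
        inv_mem' := fun {x} hx => by
          simp only [Set.mem_ofPred_eq] at hx ⊢
          rw [map_inv, inv_mem_iff, inv_mem_iff]; exact hx }
    refine ⟨A, Subgroup.index_eq_two_iff.mpr ⟨x₀, fun b => ?_⟩, fun x (hx : x ∈ M ↔ γ x ∈ M) => ?_⟩
    · show Xor (b * x₀ ∈ M ↔ γ (b * x₀) ∈ M) (b ∈ M ↔ γ b ∈ M)
      rw [map_mul, Subgroup.mul_mem_iff_of_index_two hM, Subgroup.mul_mem_iff_of_index_two hM]
      simp only [hx₀, hγx₀, iff_true, iff_false, Xor]
      tauto
    · show γ x ∈ M ↔ γ (γ x) ∈ M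
      rw [h2]; exact hx.symm
  -- all values `h⁻¹ γ h` lie in `A`, and they make up all of `A`
  have hmem : ∀ h : H, h⁻¹ * γ h ∈ A := fun h => by
    rw [Subgroup.mul_mem_iff_of_index_two hA2, inv_mem_iff]
    exact ⟨hAγ h, fun hh => h2 h ▸ hAγ _ hh⟩
  let f : H → A := fun h => ⟨h⁻¹ * γ h, hmem h⟩
  have hsurj : Function.Surjective f := by
    classical
    have := Fintype.ofFinite H
    have hfib : ∀ y ∈ (Finset.univ : Finset H).image f, (Finset.univ.filter fun h => f h = y).card ≤ 2 := by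
      intro y hy
      obtain ⟨h₀, -, rfl⟩ := Finset.mem_image.mp hy
      rw [← h2fix, Nat.card_eq_fintype_card, Fintype.card_subtype]
      refine Finset.card_le_card_of_injOn (fun h => h * h₀⁻¹) (fun h hh => ?_) fun x _ y _ hxy => mul_right_cancel hxy
      simp only [Finset.coe_filter, Finset.mem_univ, true_and, Set.mem_ofPred_eq] at hh ⊢
      have e : h⁻¹ * γ h = h₀⁻¹ * γ h₀ := congrArg Subtype.val hh
      rw [map_mul, map_inv]
      calc γ h * (γ h₀)⁻¹ = h * (h⁻¹ * γ h) * (γ h₀)⁻¹ := by group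
        _ = h * h₀⁻¹ := by rw [e]; group
    have hcard := Finset.card_le_mul_card_image (Finset.univ : Finset H) 2 hfib
    have hH : Fintype.card H = Fintype.card A * 2 := by
      rw [← Nat.card_eq_fintype_card, ← Nat.card_eq_fintype_card, ← hA2, Subgroup.card_mul_index]
    rw [Finset.card_univ, hH] at hcard
    have hle := Finset.card_le_univ ((Finset.univ : Finset H).image f)
    have : (Finset.univ : Finset H).image f = Finset.univ := Finset.eq_univ_of_card _ (by omega)
    intro y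
    obtain ⟨x, -, hx⟩ := Finset.mem_image.mp (this ▸ Finset.mem_univ y)
    exact ⟨x, hx⟩
  have hinvA : ∀ a ∈ A, γ a = a⁻¹ := by
    intro a ha
    obtain ⟨h, hh⟩ := hsurj ⟨a, ha⟩
    rw [show a = h⁻¹ * γ h from (congrArg Subtype.val hh).symm, map_mul, map_inv, h2]
    group
  refine ⟨A, hA2, ⟨⟨fun a b => Subtype.ext ?_⟩⟩, hAγ, hinvA⟩
  have h := hinvA _ (mul_mem a.2 b.2)
  rw [map_mul, hinvA _ a.2, hinvA _ b.2, ← mul_inv_rev] at h
  exact (inv_injective h).symm

end Cfsg.Agent.S3375
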