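import Cfsg.Statements.S3376
import Mathlib

set_option autoImplicit false
open Cfsg
open scoped Pointwise

namespace Cfsg.Agent.S3376

theorem zmod_three_double : ∀ c : ZMod 3, c + c = 0 → c = 0 := by decide

theorem exists_invariant_hyperplane {G : Type*} [Group G] [Finite G] (J : Subgroup G) [IsMulCommutative J]
    (hexp : ∀ a ∈ J, a ^ 3 = 1) (z t : G) (hz : z ∈ J) (hz1 : z ≠ 1) (htz : t * z * t⁻¹ = z) (ht2 : t * t = 1)
    (htJ : ∀ a ∈ J, t * a * t⁻¹ ∈ J) :
    ∃ W : Subgroup G, W ≤ J ∧ z ∉ W ∧ Nat.card J = 3 * Nat.card W ∧ t ∈ Subgroup.normalizer (W : Set G) := by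
  classical
  haveI : Fact (Nat.Prime 3) := ⟨Nat.prime_three⟩
  letI : CommGroup J := { (inferInstance : Group J) with mul_comm := (inferInstance : IsMulCommutative J).is_comm.comm }
  letI : Module (ZMod 3) (Additive J) :=
    AddCommGroup.zmodModule (n := 3) (G := Additive J) (fun a : Additive J => Subtype.ext (hexp _ a.toMul.2))
  obtain ⟨φ, hφ⟩ : ∃ φ : Module.Dual (ZMod 3) (Additive J), φ (Additive.ofMul (⟨z, hz⟩ : J)) ≠ 0 := by
    by_contra hcon
    push Not at hcon
    exact hz1 (congrArg Subtype.val (Additive.ofMul.injective ((Module.forall_dual_apply_eq_zero_iff (ZMod 3) _).mp hcon)))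
  let F : J →* J :=
    { toFun := fun a => ⟨t * a * t⁻¹, htJ a a.2⟩
      map_one' := Subtype.ext (by simp)
      map_mul' := fun a b => Subtype.ext (by simp) }
  let ψ : J →* Multiplicative (ZMod 3) :=
    { toFun := fun a => Multiplicative.ofAdd (φ (Additive.ofMul a) + φ (Additive.ofMul (F a)))
      map_one' := by simp
      map_mul' := fun a b => by
        rw [← ofAdd_add]; congr 1
        rw [map_mul F, ofMul_mul, ofMul_mul, map_add, map_add]; abel }
  have hψz : ψ ⟨z, hz⟩ ≠ 1 := by
    intro h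
    apply hφ
    have h1 : F ⟨z, hz⟩ = ⟨z, hz⟩ := Subtype.ext htz
    have h2 : φ (Additive.ofMul (⟨z, hz⟩ : J)) + φ (Additive.ofMul (F ⟨z, hz⟩)) = 0 := h
    rw [h1] at h2
    exact zmod_three_double _ h2
  have hFF : ∀ a : J, F (F a) = a := fun a => Subtype.ext (by
    change t * (t * a * t⁻¹) * t⁻¹ = a
    have e : t⁻¹ = t := inv_eq_of_mul_eq_one_right ht2
    rw [e]
    calc t * (t * (a : G) * t) * t = (t * t) * a * (t * t) := by group
      _ = a := by rw [ht2]; group)
  refine ⟨ψ.ker.map J.subtype, Subgroup.map_subtype_le _, ?_, ?_, ?_⟩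
  · rintro ⟨a, ha, e⟩
    obtain rfl : a = ⟨z, hz⟩ := Subtype.ext e
    exact hψz ha
  · rw [Subgroup.card_map_of_injective J.subtype_injective, ← Subgroup.index_mul_card ψ.ker, Subgroup.index_ker]
    congr 1
    have hr : ψ.range = ⊤ := by
      haveI : Fact (Nat.card (Multiplicative (ZMod 3))).Prime :=
        ⟨by rw [Nat.card_congr Multiplicative.toAdd, Nat.card_zmod]; exact Nat.prime_three⟩
      refine ψ.range.eq_bot_or_eq_top_of_prime_card.resolve_left fun h => hψz ?_
      rw [MonoidHom.range_eq_bot_iff] at h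
      rw [h]; rfl
    rw [hr, Subgroup.card_top, Nat.card_congr Multiplicative.toAdd, Nat.card_zmod]
  · refine Subgroup.mem_normalizer_fintype ?_
    rintro _ ⟨a, ha, rfl⟩
    refine ⟨F a, ?_, rfl⟩
    change Multiplicative.ofAdd (φ (Additive.ofMul (F a)) + φ (Additive.ofMul (F (F a)))) = 1
    rw [hFF, add_comm]
    exact ha

theorem conj_centralizer_equiv {α : Type*} (u v : Equiv.Perm α) (h : IsConj u v) :
    Nonempty (Subgroup.centralizer ({u} : Set (Equiv.Perm α)) ≃* Subgroup.centralizer ({v} : Set (Equiv.Perm α))) := by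
  obtain ⟨c, hc⟩ := isConj_iff.mp h
  have hmap : (Subgroup.centralizer ({u} : Set (Equiv.Perm α))).map (MulAut.conj c).toMonoidHom =
      Subgroup.centralizer ({v} : Set (Equiv.Perm α)) := by
    ext x
    rw [Subgroup.mem_map_equiv, Subgroup.mem_centralizer_singleton_iff, Subgroup.mem_centralizer_singleton_iff,
      MulAut.conj_symm_apply, ← hc]
    constructor
    · intro e
      calc x * (c * u * c⁻¹) = c * ((c⁻¹ * x * c) * u) * c⁻¹ := by group
        _ = c * (u * (c⁻¹ * x * c)) * c⁻¹ := by rw [e]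
        _ = c * u * c⁻¹ * x := by group
    · intro e
      calc c⁻¹ * x * c * u = c⁻¹ * (x * (c * u * c⁻¹)) * c := by group
        _ = c⁻¹ * ((c * u * c⁻¹) * x) * c := by rw [e]
        _ = u * (c⁻¹ * x * c) := by group
  exact ⟨((MulAut.conj c).subgroupMap _).trans (MulEquiv.subgroupCongr hmap)⟩

theorem order162_equiv {G : Type*} [Group G] [Finite G] (hG : Nat.card G = 162)
    (S : Sylow 3 G) (T : Sylow 2 G) (J : Subgroup G) [hJn : J.Normal] (hJcomm : IsMulCommutative J)
    (hJexp : ∀ a ∈ J, a ^ 3 = 1) (hJcard : Nat.card J = 27)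
    (Z : Subgroup G) (hZ : Z = (S : Subgroup G) ⊓ Subgroup.centralizer ((S : Subgroup G) : Set G)) (hZcard : Nat.card Z = 3)
    (hZT : Z ≤ Subgroup.centralizer ((T : Subgroup G) : Set G))
    (hST : (S : Subgroup G) ⊓ Subgroup.centralizer ((T : Subgroup G) : Set G) ≠ S) :
    Nonempty (G ≃* Subgroup.centralizer ({Equiv.swap (0 : Fin 9) 1 * Equiv.swap 1 2 * Equiv.swap 3 4 * Equiv.swap 4 5 * Equiv.swap 6 7 * Equiv.swap 7 8} : Set (Equiv.Perm (Fin 9)))) := by
  classical
  haveI := hJcomm
  haveI : Fact (Nat.Prime 3) := ⟨Nat.prime_three⟩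
  haveI : Fact (Nat.Prime 2) := ⟨Nat.prime_two⟩
  have hScard : Nat.card (S : Subgroup G) = 81 := by
    rw [S.card_eq_multiplicity, hG]
    norm_num [Nat.factorization_def, show padicValNat 3 162 = 4 by
      rw [show (162:ℕ) = 2 * 3 ^ 4 by norm_num, padicValNat.mul (by norm_num) (by norm_num), padicValNat.prime_pow,
        padicValNat.eq_zero_of_not_dvd (by norm_num)]]
  have hTcard : Nat.card (T : Subgroup G) = 2 := by
    rw [T.card_eq_multiplicity, hG]
    norm_num [Nat.factorization_def, show padicValNat 2 162 = 1 by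
      rw [show (162:ℕ) = 2 * 3 ^ 4 by norm_num, padicValNat.mul (by norm_num) (by norm_num), padicValNat_self,
        padicValNat.eq_zero_of_not_dvd (by norm_num)]]
  have hJ3 : IsPGroup 3 J := IsPGroup.of_card (n := 3) (by rw [hJcard]; norm_num)
  obtain ⟨S', hS'⟩ := hJ3.exists_le_sylow
  have hJS : J ≤ (S : Subgroup G) := by
    obtain ⟨g, rfl⟩ := MulAction.exists_smul_eq G S' S
    intro a ha
    rw [Sylow.coe_subgroup_smul]
    exact ⟨g⁻¹ * a * g, hS' (by simpa using hJn.conj_mem a ha g⁻¹), by simp [mul_assoc]⟩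
  have hZle : Z ≤ (S : Subgroup G) := hZ ▸ inf_le_left
  have hZc : ∀ x ∈ Z, ∀ y ∈ (S : Subgroup G), y * x = x * y := fun x hx y hy => by
    rw [hZ] at hx; exact Subgroup.mem_centralizer_iff.mp hx.2 y hy
  -- the centre of S lies in J
  have hZJ : Z ≤ J := by
    by_contra hcon
    obtain ⟨x, hxZ, hxJ⟩ := SetLike.not_le_iff_exists.mp hcon
    let A : Subgroup G := (S : Subgroup G) ⊓ Subgroup.centralizer (J : Set G)
    have hJA : J ≤ A := le_inf hJS (fun a ha => Subgroup.mem_centralizer_iff.mpr fun b hb =>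
      congrArg Subtype.val (hJcomm.is_comm.comm (⟨b, hb⟩ : J) ⟨a, ha⟩))
    have hxA : x ∈ A := ⟨hZle hxZ, Subgroup.mem_centralizer_iff.mpr fun b hb => hZc x hxZ b (hJS hb)⟩
    have hAS : A = (S : Subgroup G) := by
      have h1 : Nat.card J ∣ Nat.card A := Subgroup.card_dvd_of_le hJA
      have h2 : Nat.card A ∣ 81 := hScard ▸ Subgroup.card_dvd_of_le inf_le_left
      refine Subgroup.eq_of_le_of_card_ge inf_le_left ?_
      rw [hScard]
      have h3 : Nat.card A ≠ 27 := fun e => hxJ ((Subgroup.eq_of_le_of_card_ge hJA (by omega)).symm ▸ hxA)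
      obtain ⟨c, hc⟩ := h1
      rw [hJcard] at hc
      have hc3 : c ∣ 3 := (Nat.mul_dvd_mul_iff_left (show 0 < 27 by norm_num)).mp (by rw [← hc]; simpa using h2)
      rcases (Nat.dvd_prime Nat.prime_three).mp hc3 with rfl | rfl <;> omega
    have hJZ : J ≤ Z := by
      intro a ha
      rw [hZ]
      refine ⟨hJS ha, Subgroup.mem_centralizer_iff.mpr fun b hb => ?_⟩
      have : b ∈ A := hAS.symm ▸ hb
      exact (Subgroup.mem_centralizer_iff.mp this.2 a ha).symm
    have := Subgroup.card_dvd_of_le hJZ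
    rw [hJcard, hZcard] at this
    norm_num at this
  haveI : Nontrivial Z := Finite.one_lt_card_iff_nontrivial.mp (by omega)
  obtain ⟨⟨z, hzZ⟩, hz'⟩ := exists_ne (1 : Z)
  have hz1 : z ≠ 1 := fun e => hz' (Subtype.ext e)
  obtain ⟨t, ht⟩ := (isCyclic_of_prime_card hTcard : IsCyclic (T : Subgroup G)).exists_generator
  have hto : orderOf (t : G) = 2 := by
    rw [Subgroup.orderOf_coe, orderOf_eq_card_of_forall_mem_zpowers ht, hTcard]
  have ht2 : (t : G) * t = 1 := by
    have h := pow_orderOf_eq_one (t : G)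
    rw [hto, pow_two] at h
    exact h
  have hzt : (t : G) * z * (t : G)⁻¹ = z := by
    rw [Subgroup.mem_centralizer_iff.mp (hZT hzZ) t t.2, mul_inv_cancel_right]
  obtain ⟨W, hWJ, hzW, hWc, hWt⟩ := exists_invariant_hyperplane J hJexp z t (hZJ hzZ) hz1 hzt ht2
    (fun a ha => hJn.conj_mem a ha _)
  have hW9 : Nat.card W = 9 := by omega
  set U := W ⊔ (T : Subgroup G)
  have hTW : (T : Subgroup G) ≤ Subgroup.normalizer (W : Set G) := by
    intro x hx
    obtain ⟨k, hk⟩ := ht ⟨x, hx⟩
    have : x = (t : G) ^ k := (congrArg Subtype.val hk).symm.trans (by simp)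
    rw [this]; exact Subgroup.zpow_mem _ hWt k
  -- G is generated by S and T
  have hgen : (S : Subgroup G) ⊔ (T : Subgroup G) = ⊤ := by
    refine Subgroup.eq_top_of_le_card _ ?_
    rw [hG]
    have a1 := hScard ▸ Subgroup.card_dvd_of_le (le_sup_left : (S : Subgroup G) ≤ (S : Subgroup G) ⊔ (T : Subgroup G))
    have a2 : 2 ∣ Nat.card ((S : Subgroup G) ⊔ (T : Subgroup G) : Subgroup G) := (dvd_of_eq hTcard.symm).trans (Subgroup.card_dvd_of_le le_sup_right)
    exact Nat.le_of_dvd Nat.card_pos (Nat.Coprime.mul_dvd_of_dvd_of_dvd (show Nat.Coprime 81 2 by norm_num) a1 a2)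
  have hzc : ∀ g : G, g * z = z * g := by
    intro g
    have hle : (S : Subgroup G) ⊔ (T : Subgroup G) ≤ Subgroup.centralizer ({z} : Set G) := sup_le
      (fun y hy => Subgroup.mem_centralizer_singleton_iff.mpr (hZc z hzZ y hy))
      (fun y hy => Subgroup.mem_centralizer_singleton_iff.mpr (Subgroup.mem_centralizer_iff.mp (hZT hzZ) y hy))
    rw [hgen] at hle
    exact Subgroup.mem_centralizer_singleton_iff.mp (hle (Subgroup.mem_top g))
  have hUcoe : (U : Set G) = (W : Set G) * ((T : Subgroup G) : Set G) :=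
    Subgroup.coe_mul_of_right_le_normalizer_left W (T : Subgroup G) hTW
  have hWT : W ⊓ (T : Subgroup G) = ⊥ := Subgroup.eq_bot_of_card_eq _ (Nat.eq_one_of_dvd_coprimes
    (show Nat.Coprime 9 2 by norm_num) (hW9 ▸ Subgroup.card_dvd_of_le inf_le_left) ((Subgroup.card_dvd_of_le inf_le_right).trans (dvd_of_eq hTcard)))
  have hUJ : ∀ a ∈ U, a ∈ J → a ∈ W := by
    intro a haU haJ
    rw [← SetLike.mem_coe, hUcoe] at haU
    obtain ⟨w, hw, s, hs, rfl⟩ := haU
    have h1 : s ∈ J := by simpa using J.mul_mem (J.inv_mem (hWJ hw)) haJ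
    have hs1 : s = 1 := by
      rw [← orderOf_eq_one_iff]
      exact Nat.eq_one_of_dvd_coprimes (show Nat.Coprime 27 2 by norm_num)
        ((Subgroup.orderOf_dvd_natCard J h1).trans (dvd_of_eq hJcard)) ((Subgroup.orderOf_dvd_natCard _ hs).trans (dvd_of_eq hTcard))
    simpa [hs1] using hw
  have hUcard : Nat.card U = 18 := by
    have a1 := hW9 ▸ Subgroup.card_dvd_of_le (le_sup_left : W ≤ U)
    have a2 : 2 ∣ Nat.card U := (dvd_of_eq hTcard.symm).trans (Subgroup.card_dvd_of_le le_sup_right)
    refine le_antisymm ?_ (Nat.le_of_dvd Nat.card_pos (Nat.Coprime.mul_dvd_of_dvd_of_dvd (show Nat.Coprime 9 2 by norm_num) a1 a2))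
    rw [← SetLike.coe_sort_coe, hUcoe]
    calc Nat.card ↥((W : Set G) * ((T : Subgroup G) : Set G)) ≤ Nat.card (W : Set G) * Nat.card ((T : Subgroup G) : Set G) :=
          Set.natCard_mul_le
      _ = 18 := by rw [SetLike.coe_sort_coe, SetLike.coe_sort_coe, hW9, hTcard]
  have hidx : U.index = 9 := by
    have := Subgroup.index_mul_card U
    rw [hUcard, hG] at this
    omega
  -- the action on the nine cosets is faithful
  have hcore : U.normalCore = ⊥ := by
    set N := U.normalCore
    have hNU : N ≤ U := Subgroup.normalCore_le U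
    have hNn : N.Normal := Subgroup.normalCore_normal U
    have hNJ : N ⊓ J = ⊥ := by
      by_contra hne
      haveI : (N ⊓ J).Normal := inferInstance
      let M : Subgroup (S : Subgroup G) := (N ⊓ J).subgroupOf (S : Subgroup G)
      haveI : Nontrivial M := by
        rw [Subgroup.nontrivial_iff_ne_bot]
        intro e
        apply hne
        rw [Subgroup.subgroupOf_eq_bot, disjoint_iff, inf_eq_left.mpr (inf_le_right.trans hJS)] at e
        exact e
      -- a normal subgroup of a p-group meets the centre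
      haveI : M.Normal := Subgroup.Normal.subgroupOf inferInstance _
      letI : MulAction (S : Subgroup G) M := MulAction.compHom M (MulAut.conjNormal : (S : Subgroup G) →* MulAut M)
      have hdvd : 3 ∣ Nat.card M := by
        obtain ⟨e, he⟩ := (S.2.to_subgroup M).exists_card_eq
        have h1 : 1 < Nat.card M := Finite.one_lt_card
        rw [he] at h1 ⊢
        refine dvd_pow_self 3 ?_
        rintro rfl
        simp at h1
      obtain ⟨m, hm, hm1⟩ := S.2.exists_fixed_point_of_prime_dvd_card_of_fixed_point M hdvd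
        (show (1 : M) ∈ MulAction.fixedPoints (S : Subgroup G) M from fun g => map_one (MulAut.conjNormal g : MulAut M))
      have hmZ : ((m.1 : (S : Subgroup G)) : G) ∈ Z := by
        rw [hZ]
        refine ⟨m.1.2, Subgroup.mem_centralizer_iff.mpr fun y hy => ?_⟩
        have h2 : y * ((m.1 : (S : Subgroup G)) : G) * y⁻¹ = ((m.1 : (S : Subgroup G)) : G) :=
          congrArg (fun a : M => ((a.1 : (S : Subgroup G)) : G)) (hm ⟨y, hy⟩)
        exact mul_inv_eq_iff_eq_mul.mp h2
      have hmW := hUJ _ (hNU m.2.1) m.2.2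
      apply hzW
      have hne' : (⟨_, hmZ⟩ : Z) ≠ 1 := fun e => hm1 (Subtype.ext (Subtype.ext (congrArg (fun a : Z => (a : G)) e).symm))
      haveI : Fact (Nat.card Z).Prime := ⟨hZcard ▸ Nat.prime_three⟩
      obtain ⟨k, hk⟩ := Subgroup.mem_zpowers_iff.mp (mem_zpowers_of_prime_card (p := 3) hZcard hne' : (⟨z, hzZ⟩ : Z) ∈ Subgroup.zpowers (⟨_, hmZ⟩ : Z))
      have hk' : ((m.1 : (S : Subgroup G)) : G) ^ k = z := congrArg Subtype.val hk
      rw [← hk']
      exact W.zpow_mem hmW k
    have hNc : ∀ x ∈ N, ∀ a ∈ J, x * a = a * x := fun x hx a ha =>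
      Subgroup.commute_of_normal_of_disjoint N J hNn hJn (disjoint_iff.mpr hNJ) x a hx ha
    by_contra hne
    -- so N has order two and is generated by a central involution, conjugate into T
    have hN2 : Nat.card N = 2 := by
      let f : N →* G ⧸ J := (QuotientGroup.mk' J).comp N.subtype
      have hf : Function.Injective f := by
        rw [injective_iff_map_eq_one]
        intro a ha
        have : (a : G) ∈ N ⊓ J := ⟨a.2, (QuotientGroup.eq_one_iff _).mp ha⟩
        rw [hNJ, Subgroup.mem_bot] at this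
        exact Subtype.ext this
      have h1 : Nat.card N ∣ 6 := by
        have := Subgroup.card_dvd_of_injective f hf
        have h2 := Subgroup.card_eq_card_quotient_mul_card_subgroup J
        rw [hG, hJcard] at h2
        rwa [show Nat.card (G ⧸ J) = 6 by omega] at this
      have h2 : Nat.card N ∣ 18 := hUcard ▸ Subgroup.card_dvd_of_le hNU
      have h3 : ¬ 3 ∣ Nat.card N := by
        intro h3
        obtain ⟨⟨x, hx⟩, hxo⟩ := exists_prime_orderOf_dvd_card' (G := N) 3 h3
        rw [Subgroup.orderOf_mk] at hxo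
        have hxU := hNU hx
        rw [← SetLike.mem_coe, hUcoe] at hxU
        obtain ⟨w, hw, s, hs, hws⟩ := hxU
        -- modulo J the element x has order dividing 2
        have h4 : x ^ 2 ∈ J := by
          rw [← QuotientGroup.eq_one_iff, QuotientGroup.mk_pow, ← hws, QuotientGroup.mk_mul,
            (QuotientGroup.eq_one_iff w).mpr (hWJ hw), one_mul, ← QuotientGroup.mk_pow]
          have hp : (⟨s, hs⟩ : (T : Subgroup G)) ^ Nat.card (T : Subgroup G) = 1 := pow_card_eq_one'
          rw [hTcard] at hp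
          have : s ^ 2 = 1 := congrArg Subtype.val hp
          rw [this]; rfl
        have h5 : x ^ 2 ∈ N ⊓ J := ⟨N.pow_mem hx 2, h4⟩
        rw [hNJ, Subgroup.mem_bot] at h5
        have := orderOf_dvd_of_pow_eq_one h5
        rw [hxo] at this
        norm_num at this
      have h4 : Nat.card N ≠ 1 := fun h => hne (Subgroup.eq_bot_of_card_eq _ h)
      have h5 : Nat.card N ≤ 6 := Nat.le_of_dvd (by norm_num) h1
      interval_cases h : Nat.card N <;> norm_num at *
    apply hST
    rw [inf_eq_left]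
    obtain ⟨T', hT'⟩ := (IsPGroup.of_card (n := 1) (by rw [hN2, pow_one]) : IsPGroup 2 N).exists_le_sylow
    obtain ⟨g, hg⟩ := MulAction.exists_smul_eq G T' T
    have hNT : N = (T : Subgroup G) := by
      refine Subgroup.eq_of_le_of_card_ge ?_ (by omega)
      intro x hx
      rw [← hg, Sylow.coe_subgroup_smul]
      exact ⟨g⁻¹ * x * g, hT' (by simpa using hNn.conj_mem x hx g⁻¹), by simp [mul_assoc]⟩
    intro x hx
    rw [Subgroup.mem_centralizer_iff, ← hNT]
    intro s hs
    have h1 : x * s * x⁻¹ ∈ N := hNn.conj_mem s hs x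
    haveI : Fact (Nat.card N).Prime := ⟨hN2 ▸ Nat.prime_two⟩
    by_cases hs1 : s = 1
    · simp [hs1]
    have hne2 : x * s * x⁻¹ ≠ 1 := fun e => hs1 (by simpa using e)
    have : ∀ a b : N, a ≠ 1 → b ≠ 1 → a = b := by
      intro a b ha hb
      obtain ⟨c, hc⟩ := (Nat.card_eq_two_iff' (1 : N)).mp hN2
      exact (hc.2 a ha).trans (hc.2 b hb).symm
    have h2 := congrArg Subtype.val (this ⟨_, h1⟩ ⟨s, hs⟩ (fun e => hne2 (congrArg Subtype.val e)) (fun e => hs1 (congrArg Subtype.val e)))
    exact (mul_inv_eq_iff_eq_mul.mp h2).symm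
  -- transport to permutations of Fin 9
  let e : (G ⧸ U) ≃ Fin 9 := Finite.equivFinOfCardEq hidx
  let f : G →* Equiv.Perm (Fin 9) := e.permCongrHom.toMonoidHom.comp (MulAction.toPermHom G (G ⧸ U))
  have hf : Function.Injective f := by
    rw [← MonoidHom.ker_eq_bot_iff, eq_bot_iff]
    intro x hx
    rw [MonoidHom.mem_ker] at hx
    have : MulAction.toPermHom G (G ⧸ U) x = 1 := e.permCongrHom.injective (hx.trans (map_one _).symm)
    have h1 : x ∈ (MulAction.toPermHom G (G ⧸ U)).ker := this
    rwa [← Subgroup.normalCore_eq_ker, hcore] at h1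
  have hfix : ∀ i, f z i ≠ i := by
    intro i hi
    obtain ⟨g, hg⟩ := QuotientGroup.mk_surjective (e.symm i)
    have h1 : z • e.symm i = e.symm i := by
      have h2 : e (z • e.symm i) = i := hi
      exact e.injective (by rw [h2, Equiv.apply_symm_apply])
    rw [← hg, MulAction.Quotient.smul_mk, smul_eq_mul, ← hzc, QuotientGroup.eq] at h1
    exact hzW (hUJ z (by simpa using U.inv_mem h1) (hZJ hzZ))
  have hct : ∀ σ : Equiv.Perm (Fin 9), σ ^ 3 = 1 → σ ≠ 1 → (∀ i, σ i ≠ i) → σ.cycleType = Multiset.replicate 3 3 := by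
    intro σ h3 h1 hfx
    obtain ⟨n, hn⟩ := Equiv.Perm.cycleType_prime_order (σ := σ) (by
      rw [orderOf_eq_prime h3 h1]; exact Nat.prime_three)
    rw [orderOf_eq_prime h3 h1] at hn
    have hsum := σ.sum_cycleType
    rw [hn, Multiset.sum_replicate, show σ.support = Finset.univ from Finset.eq_univ_of_forall fun i => Equiv.Perm.mem_support.mpr (hfx i)] at hsum
    simp at hsum
    rw [hn, show n = 2 by omega]
  set c := Equiv.swap (0 : Fin 9) 1 * Equiv.swap 1 2 * Equiv.swap 3 4 * Equiv.swap 4 5 * Equiv.swap 6 7 * Equiv.swap 7 8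
  have hc : c.cycleType = Multiset.replicate 3 3 :=
    hct c (by decide +kernel) (by decide +kernel) (by decide +kernel)
  have hfz : (f z).cycleType = Multiset.replicate 3 3 :=
    hct _ (by rw [← map_pow, hJexp z (hZJ hzZ), map_one]) (fun h => hz1 (hf (h.trans (map_one f).symm))) hfix
  let f' : G →* Subgroup.centralizer ({f z} : Set (Equiv.Perm (Fin 9))) := f.codRestrict _ fun g => by
    rw [Subgroup.mem_centralizer_singleton_iff, ← map_mul, ← map_mul, hzc]
  have hcard : Nat.card (Subgroup.centralizer ({f z} : Set (Equiv.Perm (Fin 9)))) = 162 := by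
    rw [Equiv.Perm.nat_card_centralizer, hfz]
    decide +kernel
  have hbij : Function.Bijective f' := by
    rw [Nat.bijective_iff_injective_and_card]
    exact ⟨fun a b h => hf (congrArg Subtype.val h), by rw [hG, hcard]⟩
  obtain ⟨ec⟩ := conj_centralizer_equiv (f z) c (Equiv.Perm.isConj_iff_cycleType_eq.mpr (hfz.trans hc.symm))
  exact ⟨(MulEquiv.ofBijective f' hbij).trans ec⟩

/-- Let G be a group of order 162 = 3⁴·2 with Sylow 3-subgroup S and Sylow 2-subgroup T, having an elementary abelian normal subgroup J of order 27, such that Z = Z(S) has order 3, Z centralizes T, and C_S(T) ≠ S. Then G is isomorphic to the centralizer in Sym(9) of a product of three disjoint 3-cycles. -/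
theorem result {G : Type*} [Group G] [Finite G] (hG : Nat.card G = 162)
    (S : Sylow 3 G) (T : Sylow 2 G) (J : Subgroup G) [hJn : J.Normal] (hJcomm : IsMulCommutative J)
    (hJexp : ∀ a ∈ J, a ^ 3 = 1) (hJcard : Nat.card J = 27)
    (Z : Subgroup G) (hZ : Z = (S : Subgroup G) ⊓ Subgroup.centralizer ((S : Subgroup G) : Set G)) (hZcard : Nat.card Z = 3)
    (hZT : Z ≤ Subgroup.centralizer ((T : Subgroup G) : Set G))
    (hST : (S : Subgroup G) ⊓ Subgroup.centralizer ((T : Subgroup G) : Set G) ≠ S) :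
    Nonempty (G ≃* Subgroup.centralizer ({Equiv.swap (0 : Fin 9) 1 * Equiv.swap 1 2 * Equiv.swap 3 4 * Equiv.swap 4 5 * Equiv.swap 6 7 * Equiv.swap 7 8} : Set (Equiv.Perm (Fin 9)))) := by
  classical
  exact order162_equiv hG S T J hJcomm hJexp hJcard Z hZ hZcard hZT hST

end Cfsg.Agent.S3376
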