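import Cfsg.Statements.S3379
import Mathlib

set_option autoImplicit false
open Cfsg

namespace Cfsg.Agent.S3379

theorem zgroup_metacyclic {G : Type*} [Group G] [Finite G] [IsZGroup G] :
    ∃ (x y : G) (n m r : ℕ), Subgroup.closure {x, y} = ⊤ ∧ orderOf x = n ∧ orderOf y = m ∧
      x⁻¹ * y * x = y ^ r ∧ Nat.Coprime (r - 1) m ∧ Nat.Coprime n m ∧ 1 ≤ r ∧ r ^ n % m = 1 % m := by
  classical
  set D := commutator G
  have hco := IsZGroup.coprime_commutator_index (G := G)
  obtain ⟨K, hK⟩ := Subgroup.exists_right_complement'_of_coprime (N := D) hco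
  haveI : IsCyclic D := IsZGroup.isCyclic_commutator G
  have hKq : Function.Injective ((Abelianization.of : G →* Abelianization G).comp K.subtype) := by
    rw [injective_iff_map_eq_one]
    intro k hk
    have h1 : (k : G) ∈ D := (QuotientGroup.eq_one_iff _).mp hk
    exact Subtype.ext ((Subgroup.disjoint_def.mp hK.disjoint) h1 k.2)
  haveI : IsCyclic K := isCyclic_of_injective _ hKq
  obtain ⟨y', hy'⟩ := IsCyclic.exists_generator (α := D)
  obtain ⟨x', hx'⟩ := IsCyclic.exists_generator (α := K)
  set x : G := x'.1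
  set y : G := y'.1
  have hzy : Subgroup.zpowers y = D := by
    ext g; constructor
    · rintro ⟨k, rfl⟩; exact D.zpow_mem y'.2 k
    · intro hg
      obtain ⟨k, hk⟩ := hy' ⟨g, hg⟩
      exact ⟨k, congrArg Subtype.val hk⟩
  have hzx : Subgroup.zpowers x = K := by
    ext g; constructor
    · rintro ⟨k, rfl⟩; exact K.zpow_mem x'.2 k
    · intro hg
      obtain ⟨k, hk⟩ := hx' ⟨g, hg⟩
      exact ⟨k, congrArg Subtype.val hk⟩
  have hm : orderOf y = Nat.card D := by rw [← Nat.card_zpowers, hzy]
  have hn : orderOf x = D.index := by rw [← Nat.card_zpowers, hzx, hK.symm.index_eq_card]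
  have htop : Subgroup.closure {x, y} = ⊤ := by
    rw [Set.insert_eq, Subgroup.closure_union, ← Subgroup.zpowers_eq_closure, ← Subgroup.zpowers_eq_closure, hzx, hzy, sup_comm, hK.sup_eq_top]
  have hyx : x⁻¹ * y * x ∈ Subgroup.zpowers y := by
    rw [hzy]
    simpa using (inferInstance : D.Normal).conj_mem y y'.2 x⁻¹
  obtain ⟨k, hk⟩ := (mem_powers_iff_mem_zpowers).mpr hyx
  set r := k + orderOf y
  have hr : x⁻¹ * y * x = y ^ r := by rw [pow_add, pow_orderOf_eq_one, mul_one]; exact hk.symm
  have hr1 : 1 ≤ r := le_add_left (orderOf_pos y)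
  -- the commutator subgroup is generated by `y ^ (r - 1)`
  set C := Subgroup.zpowers (y ^ (r - 1))
  have hCD : C ≤ D := Subgroup.zpowers_le.mpr (D.pow_mem y'.2 _)
  have hconj : ∀ j : ℕ, x⁻¹ * y ^ j * x = y ^ (r * j) := by
    intro j
    rw [pow_mul, ← hr]
    simpa using (conj_pow (a := x⁻¹) (b := y) (i := j)).symm
  haveI hCn : C.Normal := by
    rw [← Subgroup.normalizer_eq_top_iff, ← top_le_iff, ← htop, Subgroup.closure_le]
    rintro g (rfl | rfl)
    · rw [SetLike.mem_coe, ← inv_mem_iff]
      refine Subgroup.mem_normalizer_fintype fun c hc => ?_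
      obtain ⟨j, rfl⟩ := mem_powers_iff_mem_zpowers.mpr hc
      rw [inv_inv]
      beta_reduce
      rw [← pow_mul, hconj]
      exact ⟨(r * j : ℕ), by beta_reduce; rw [zpow_natCast, ← pow_mul]; congr 1; ring⟩
    · refine Subgroup.mem_normalizer_fintype fun c hc => ?_
      obtain ⟨j, rfl⟩ := mem_powers_iff_mem_zpowers.mpr hc
      have : Commute y ((y ^ (r - 1)) ^ j) := ((Commute.refl y).pow_right _).pow_right _
      rw [this.eq, mul_inv_cancel_right]
      exact ⟨j, zpow_natCast _ _⟩
  have hxy : ∀ a ∈ ({x, y} : Set G), ∀ b ∈ ({x, y} : Set G),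
      Commute (QuotientGroup.mk' C a) (QuotientGroup.mk' C b) := by
    have h1 : Commute (QuotientGroup.mk' C x) (QuotientGroup.mk' C y) := by
      change QuotientGroup.mk' C x * QuotientGroup.mk' C y = QuotientGroup.mk' C y * QuotientGroup.mk' C x
      rw [← map_mul, ← map_mul, QuotientGroup.mk'_eq_mk']
      refine ⟨y ^ (r - 1), Subgroup.mem_zpowers _, ?_⟩
      rw [mul_assoc, ← pow_succ', Nat.sub_add_cancel hr1, ← hr]
      group
    rintro a (rfl | rfl) b (rfl | rfl)
    exacts [Commute.refl _, h1, h1.symm, Commute.refl _]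
  have hDC : D ≤ C := by
    refine Subgroup.Normal.quotient_commutative_iff_commutator_le.mp ⟨⟨?_⟩⟩
    intro a b
    have key : ∀ a b : G, Commute (QuotientGroup.mk' C a) (QuotientGroup.mk' C b) := by
      have h1 : ∀ a ∈ ({x, y} : Set G), ∀ b, Commute (QuotientGroup.mk' C a) (QuotientGroup.mk' C b) := by
        intro a ha b
        have hb : b ∈ Subgroup.closure {x, y} := htop ▸ Subgroup.mem_top b
        induction hb using Subgroup.closure_induction with
        | mem b hb => exact hxy a ha b hb
        | one => rw [map_one]; exact Commute.one_right _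
        | mul u v _ _ hu hv => rw [map_mul]; exact hu.mul_right hv
        | inv u _ hu => rw [map_inv]; exact hu.inv_right
      intro a b
      have ha : a ∈ Subgroup.closure {x, y} := htop ▸ Subgroup.mem_top a
      induction ha using Subgroup.closure_induction with
      | mem a ha => exact h1 a ha b
      | one => rw [map_one]; exact Commute.one_left _
      | mul u v _ _ hu hv => rw [map_mul]; exact hu.mul_left hv
      | inv u _ hu => rw [map_inv]; exact hu.inv_left
    induction a using QuotientGroup.induction_on with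
    | _ a => induction b using QuotientGroup.induction_on with
      | _ b => exact key a b
  refine ⟨x, y, D.index, Nat.card D, r, htop, hn, hm, hr, ?_, hco.symm, hr1, ?_⟩
  · have h1 : orderOf y ∣ orderOf (y ^ (r - 1)) := by
      rw [← Nat.card_zpowers (y ^ (r - 1)), hm]
      exact Subgroup.card_dvd_of_le hDC
    rw [orderOf_pow] at h1
    have h2 : Nat.gcd (orderOf y) (r - 1) = 1 := by
      obtain ⟨c, hc⟩ := Nat.gcd_dvd_left (orderOf y) (r - 1)
      have hpos : 0 < Nat.gcd (orderOf y) (r - 1) := Nat.gcd_pos_of_pos_left _ (orderOf_pos y)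
      have hle := Nat.le_of_dvd (Nat.div_pos (Nat.le_of_dvd (orderOf_pos y) (Nat.gcd_dvd_left _ _)) hpos) h1
      by_contra hne
      have := Nat.div_lt_self (orderOf_pos y) (show 1 < Nat.gcd (orderOf y) (r - 1) by omega)
      omega
    rw [← hm]
    exact (Nat.coprime_comm.mpr h2 : _)
  · have h1 : ∀ j : ℕ, (x ^ j)⁻¹ * y * x ^ j = y ^ (r ^ j) := by
      intro j
      induction j with
      | zero => simp
      | succ j ih =>
        rw [pow_succ x, pow_succ' r, ← hconj, ← ih]
        group
    have h2 := h1 (orderOf x)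
    rw [pow_orderOf_eq_one, inv_one, one_mul, mul_one] at h2
    rw [← hn, ← hm]
    exact pow_eq_pow_iff_modEq.mp (h2.symm.trans (pow_one y).symm)


/-- Let G be a finite group all of whose Sylow subgroups are cyclic. Then G is generated by two elements x and y of coprime orders n and m with x⁻¹yx = y^r, where gcd(r − 1, m) = 1 and r^n ≡ 1 (mod m). -/
theorem result {G : Type*} [Group G] [Finite G]
    (hZ : ∀ (p : ℕ) [Fact p.Prime] (P : Sylow p G), IsCyclic (P : Subgroup G)) :
    ∃ (x y : G) (n m r : ℕ), Subgroup.closure {x, y} = ⊤ ∧ orderOf x = n ∧ orderOf y = m ∧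
      x⁻¹ * y * x = y ^ r ∧ Nat.Coprime (r - 1) m ∧ Nat.Coprime n m ∧ 1 ≤ r ∧ r ^ n % m = 1 % m := by
  classical
  haveI : IsZGroup G := ⟨fun p hp P => by haveI := Fact.mk hp; exact hZ p P⟩
  exact zgroup_metacyclic

end Cfsg.Agent.S3379
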