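import Cfsg.Statements.S3380
import Cfsg.Agent.Lib.Recog.PGroupImprimitive

set_option autoImplicit false
open Cfsg

namespace Cfsg.Agent.S3380

/-- Let a finite p-group G act faithfully and irreducibly on a non-trivial finite vector space V over the field with q elements (q prime), and suppose G is not cyclic, generalized quaternion, dihedral or semidihedral. Then G has a subgroup H of index p and V is the direct sum of p subspaces, each invariant under H, on none of which H acts faithfully, and which every element of G outside H permutes in a single p-cycle. -/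
theorem result
    (q : ℕ) [Fact q.Prime] {V : Type*} [AddCommGroup V] [Module (ZMod q) V] [Finite V] [Nontrivial V]
    {G : Type*} [Group G] [Finite G] (p : ℕ) [Fact p.Prime] (hG : IsPGroup p G)
    (ρ : G →* (V ≃ₗ[ZMod q] V)) (hρ : Function.Injective ρ)
    (hirr : ∀ W : Submodule (ZMod q) V, (∀ g : G, ∀ w ∈ W, ρ g w ∈ W) → W = ⊥ ∨ W = ⊤)
    (hnc : ¬ IsCyclic G) (hnq : ∀ n : ℕ, ¬ Nonempty (G ≃* QuaternionGroup n))
    (hnd : ∀ n : ℕ, ¬ Nonempty (G ≃* DihedralGroup n)) (hnsd : ¬ Cfsg.IsQuasiDihedral G) :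
    ∃ (H : Subgroup G) (W : Fin p → Submodule (ZMod q) V), H.index = p ∧
      iSup W = ⊤ ∧ iSupIndep W ∧
      (∀ h ∈ H, ∀ i, ∀ w ∈ W i, ρ h w ∈ W i) ∧
      (∀ i, ∃ h ∈ H, h ≠ 1 ∧ ∀ w ∈ W i, ρ h w = w) ∧
      ∀ g : G, g ∉ H → ∃ σ : Equiv.Perm (Fin p), orderOf σ = p ∧ ∀ i, (W i).map (ρ g : V →ₗ[ZMod q] V) = W (σ i) := by
  obtain ⟨H, W, hidx, htop, hind, hinv, hfix, hperm⟩ :=
    CfsgLib.Recog.PGroupImprimitive.exists_blocks hG ρ hρ hirr hnc hnq hnd hnsd
  haveI : NeZero p := ⟨(Fact.out : p.Prime).ne_zero⟩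
  let e : Fin p ≃ ZMod p := (ZMod.finEquiv p).toEquiv
  refine ⟨H, fun i => W (e i), hidx, ?_, hind.comp e.injective, fun h hh i => hinv h hh (e i), fun i => hfix (e i),
    fun g hg => ?_⟩
  · rw [← htop]; exact e.iSup_comp (g := W)
  · obtain ⟨k, hk, hk'⟩ := hperm g hg
    let σ : Equiv.Perm (ZMod p) := Equiv.addRight k
    have hσ : ∀ n : ℕ, (σ ^ n) 0 = n • k := by
      intro n
      induction n with
      | zero => simp
      | succ n ih =>
        rw [pow_succ', Equiv.Perm.mul_apply, ih, succ_nsmul]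
        rfl
    have hord : orderOf σ = p := by
      refine orderOf_eq_prime ?_ fun h => hk ?_
      · refine Equiv.ext fun x => ?_
        have hn : ∀ n : ℕ, (σ ^ n) x = x + n • k := by
          intro n
          induction n with
          | zero => simp
          | succ n ih =>
            rw [pow_succ', Equiv.Perm.mul_apply, ih, succ_nsmul, ← add_assoc]
            rfl
        rw [hn, nsmul_eq_mul, ZMod.natCast_self, zero_mul, add_zero]
        rfl
      · have := congrArg (fun s : Equiv.Perm (ZMod p) => s 0) h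
        simpa [σ] using this
    refine ⟨e.symm.permCongrHom σ, ?_, fun i => ?_⟩
    · rw [MulEquiv.orderOf_eq]; exact hord
    · rw [hk' (e i)]
      congr 1
      simp [σ, Equiv.permCongr_apply]

end Cfsg.Agent.S3380
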