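import Cfsg.Statements.S3381
import Mathlib.LinearAlgebra.FiniteDimensional.Basic
import Mathlib.GroupTheory.OrderOfElement
import Mathlib.FieldTheory.Finiteness
import Mathlib.Algebra.Field.ZMod
import Mathlib.Tactic.Abel

set_option autoImplicit false
open Cfsg

namespace Cfsg.Agent.S3381

/-- Let G be a finite group acting faithfully and linearly on a non-trivial finite vector space V over the field with q elements (q prime) so that every non-zero vector has a stabilizer of order 2, and suppose G has a central involution. Then V has q^(2r) elements for some r and G contains exactly q^r + 1 non-central involutions. -/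
theorem result
    (q : ℕ) [Fact q.Prime] {V : Type*} [AddCommGroup V] [Module (ZMod q) V] [Finite V] [Nontrivial V]
    {G : Type*} [Group G] [Finite G] (ρ : G →* (V ≃ₗ[ZMod q] V)) (hρ : Function.Injective ρ)
    (hstab : ∀ v : V, v ≠ 0 → Nat.card {g : G // ρ g v = v} = 2)
    (z : G) (hz : orderOf z = 2) (hzc : z ∈ Subgroup.center G) :
    ∃ r : ℕ, Nat.card V = q ^ (2 * r) ∧
      Nat.card {g : G // orderOf g = 2 ∧ g ∉ Subgroup.center G} = q ^ r + 1 := by
  classical
  -- the stabilizer of a non-zero vector is generated by one involution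
  have key : ∀ v : V, v ≠ 0 → ∃ t : G, t ≠ 1 ∧ t * t = 1 ∧ ρ t v = v ∧ ∀ g : G, ρ g v = v → g = 1 ∨ g = t := by
    intro v hv
    obtain ⟨⟨a, ha⟩, ⟨b, hb⟩, hab, huniv⟩ := Nat.card_eq_two_iff.mp (hstab v hv)
    have hone : ρ (1 : G) v = v := by simp
    have hcases : ∀ g : G, ρ g v = v → g = a ∨ g = b := fun g hg => by
      have hm := Set.mem_univ (⟨g, hg⟩ : {g : G // ρ g v = v})
      rw [← huniv] at hm
      rcases hm with h | h
      · exact Or.inl (congrArg Subtype.val h)
      · exact Or.inr (congrArg Subtype.val h)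
    have hab' : a ≠ b := fun e => hab (Subtype.ext e)
    obtain ⟨t, ht1, htv, hall⟩ : ∃ t : G, t ≠ 1 ∧ ρ t v = v ∧ ∀ g : G, ρ g v = v → g = 1 ∨ g = t := by
      rcases hcases 1 hone with h | h
      · exact ⟨b, fun e => hab' (by rw [← h, e]), hb, fun g hg => by rw [h]; exact hcases g hg⟩
      · exact ⟨a, fun e => hab' (by rw [← h, e]), ha, fun g hg => by rw [h]; exact (hcases g hg).symm⟩
    refine ⟨t, ht1, ?_, htv, hall⟩
    rcases hall (t * t) (by rw [map_mul, LinearEquiv.mul_apply, htv, htv]) with h | h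
    · exact h
    · exact absurd (mul_eq_left.mp h) ht1
  have hz1 : z ≠ 1 := fun e => by rw [e, orderOf_one] at hz; omega
  have hz2 : z * z = 1 := by rw [← pow_two, ← hz]; exact pow_orderOf_eq_one z
  have happ : ∀ (g h : G) (v : V), ρ (g * h) v = ρ g (ρ h v) := fun g h v => by
    rw [map_mul, LinearEquiv.mul_apply]
  have hzg : ∀ g : G, g * z = z * g := Subgroup.mem_center_iff.mp hzc
  have hone : ∀ g : G, (∀ v, ρ g v = v) → g = 1 := fun g hg =>
    hρ (by rw [map_one]; exact LinearEquiv.ext hg)
  -- a central involution is minus the identity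
  have hneg : ∀ c : G, c ≠ 1 → c * c = 1 → (∀ g, g * c = c * g) → ∀ v : V, ρ c v = -v := by
    intro c hc1 hc2 hcc
    have hW : ∀ v : V, ρ c v = v → v = 0 := by
      intro v hv
      by_contra hv0
      obtain ⟨u, hu⟩ : ∃ u, ρ c u ≠ u := by
        by_contra h; push Not at h; exact hc1 (hone c h)
      have hu0 : u ≠ 0 := fun e => hu (by rw [e, map_zero])
      obtain ⟨t, ht1, -, htu, -⟩ := key u hu0
      set w := ρ c u - u with hw
      have hw0 : w ≠ 0 := sub_ne_zero.mpr hu
      have hcw : ρ c w = -w := by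
        rw [hw, map_sub, ← happ, hc2, map_one]; simp
      have htw : ρ t w = w := by
        rw [hw, map_sub, ← happ, hcc t, happ, htu]
      obtain ⟨sv, -, -, -, hallv⟩ := key v hv0
      have hcv : c = sv := (hallv c hv).resolve_left hc1
      have hfix : ∀ s : G, ρ s v = v → ρ s w = w → s = 1 := by
        intro s hsv hsw
        rcases hallv s hsv with h | h
        · exact h
        · exfalso
          rw [← hcv] at h
          subst h
          have hww : w = -w := hsw.symm.trans hcw
          obtain ⟨sw, -, -, -, hallw⟩ := key w hw0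
          have h1 := (hallw t htw).resolve_left ht1
          have h2 := (hallw s hsw).resolve_left hc1
          exact hu (by rw [h2, ← h1]; exact htu)
      by_cases hww : w + w = 0
      · have hcw' : ρ c w = w := hcw.trans (neg_eq_of_add_eq_zero_left hww)
        exact hc1 (hfix c hv hcw')
      · have hvw : v + w ≠ 0 := by
          intro e
          have e' : w = -v := eq_neg_of_add_eq_zero_right e
          apply hww
          have : ρ c w = w := by rw [e', map_neg, hv]
          rw [hcw] at this
          nth_rewrite 1 [← this]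
          exact neg_add_cancel w
        obtain ⟨s, hs1, -, hs, -⟩ := key _ hvw
        have hs2 : ρ s (v - w) = v - w := by
          have : v - w = ρ c (v + w) := by rw [map_add, hv, hcw, sub_eq_add_neg]
          rw [this, ← happ, hcc s, happ, hs]
        have h2v : ρ s v + ρ s v = v + v := by
          have := congrArg₂ (· + ·) hs hs2
          simp only [map_add, map_sub] at this
          calc ρ s v + ρ s v = ρ s v + ρ s w + (ρ s v - ρ s w) := by abel
            _ = v + w + (v - w) := this
            _ = v + v := by abel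
        have hq2 : (2 : ZMod q) ≠ 0 := fun e => hww (by
          rw [← two_smul (ZMod q) w, e, zero_smul])
        have hsv : ρ s v = v := by
          rw [← two_smul (ZMod q) (ρ s v), ← two_smul (ZMod q) v] at h2v
          exact smul_right_injective V hq2 h2v
        have hsw : ρ s w = w := by
          rw [map_add, hsv] at hs
          exact add_left_cancel hs
        exact hs1 (hfix s hsv hsw)
    intro v
    have := hW (ρ c v + v) (by rw [map_add, ← happ, hc2, map_one]; simp [add_comm])
    exact eq_neg_of_add_eq_zero_left this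
  have hzv := hneg z hz1 hz2 hzg
  have h2 : (2 : ZMod q) ≠ 0 := by
    intro e
    apply hz1
    apply hone
    intro v
    have hv : v + v = 0 := by rw [← two_smul (ZMod q) v, e, zero_smul]
    rw [hzv]
    exact neg_eq_of_add_eq_zero_left hv
  -- involutions other than z
  let T := {g : G // g ≠ 1 ∧ g * g = 1 ∧ g ≠ z}
  let Fx : G → Submodule (ZMod q) V := fun g =>
    LinearMap.ker ((ρ g : V →ₗ[ZMod q] V) - LinearMap.id)
  have hFx : ∀ g v, v ∈ Fx g ↔ ρ g v = v := fun g v => by
    simp [Fx, sub_eq_zero]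
  let n := Module.finrank (ZMod q) V
  let a : T → ℕ := fun t => Module.finrank (ZMod q) (Fx t.1)
  have hdisj : ∀ t t' : T, t ≠ t' → Disjoint (Fx t.1) (Fx t'.1) := by
    intro t t' hne
    rw [Submodule.disjoint_def]
    intro v h1 h2
    by_contra hv0
    obtain ⟨s, -, -, -, hall⟩ := key v hv0
    exact hne (Subtype.ext (((hall _ ((hFx _ _).mp h1)).resolve_left t.2.1).trans
      ((hall _ ((hFx _ _).mp h2)).resolve_left t'.2.1).symm))
  have hcompl : ∀ t : T, ∃ t' : T, t ≠ t' ∧ n ≤ a t + a t' := by
    intro t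
    obtain ⟨ht1, ht2, htz⟩ := t.2
    have h1 : t.1 * z ≠ 1 := fun e => htz (by
      have : t.1 * (t.1 * z) = t.1 * 1 := by rw [e]
      rw [← mul_assoc, ht2, one_mul, mul_one] at this
      exact this.symm)
    have h2' : t.1 * z * (t.1 * z) = 1 := by
      rw [show t.1 * z * (t.1 * z) = t.1 * (z * t.1) * z by group, ← hzg, ← mul_assoc, ht2, one_mul, hz2]
    have h3 : t.1 * z ≠ z := fun e => ht1 (mul_eq_right.mp e)
    refine ⟨⟨t.1 * z, h1, h2', h3⟩, fun e => ?_, ?_⟩
    · exact hz1 (mul_eq_left.mp (congrArg Subtype.val e).symm)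
    · have htop : Fx t.1 ⊔ Fx (t.1 * z) = ⊤ := by
        rw [eq_top_iff]
        intro v _
        have hv : v = (2 : ZMod q)⁻¹ • (v + ρ t.1 v) + (2 : ZMod q)⁻¹ • (v - ρ t.1 v) := by
          rw [← smul_add, show v + ρ t.1 v + (v - ρ t.1 v) = (2 : ZMod q) • v by rw [two_smul]; abel,
            smul_smul, inv_mul_cancel₀ h2, one_smul]
        rw [hv]
        refine Submodule.add_mem_sup (Submodule.smul_mem _ _ ((hFx _ _).mpr ?_)) (Submodule.smul_mem _ _ ((hFx _ _).mpr ?_))
        · rw [map_add, ← happ, ht2, map_one]; simp [add_comm]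
        · rw [happ, hzv, map_neg, map_sub, ← happ, ht2, map_one]; simp
      have := Submodule.finrank_sup_add_finrank_inf_eq (Fx t.1) (Fx (t.1 * z))
      rw [htop, finrank_top] at this
      change n ≤ Module.finrank (ZMod q) (Fx t.1) + Module.finrank (ZMod q) (Fx (t.1 * z))
      change n + _ = _ at this
      omega
  -- all fixed spaces have dimension half of that of V
  have hbig : ∀ t : T, ¬ n < 2 * a t := by
    intro t hlt
    obtain ⟨ht1, ht2, htz⟩ := t.2
    have huniq : ∀ s : T, n < 2 * a s → s = t := fun s hs => by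
      by_contra hne
      have := Submodule.finrank_add_finrank_le_of_disjoint (hdisj s t hne)
      change a s + a t ≤ n at this
      omega
    apply htz
    have hcent : ∀ g, g * t.1 = t.1 * g := by
      intro g
      have hs1 : g * t.1 * g⁻¹ ≠ 1 := fun e => ht1 (conj_eq_one_iff.mp e)
      have hs2 : g * t.1 * g⁻¹ * (g * t.1 * g⁻¹) = 1 := by
        rw [show g * t.1 * g⁻¹ * (g * t.1 * g⁻¹) = g * (t.1 * t.1) * g⁻¹ by group, ht2]; group
      have hsz : g * t.1 * g⁻¹ ≠ z := fun e => htz (by
        rw [mul_inv_eq_iff_eq_mul, ← hzg] at e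
        exact mul_left_cancel e)
      have hmap : (Fx t.1).map (ρ g : V →ₗ[ZMod q] V) ≤ Fx (g * t.1 * g⁻¹) := by
        rintro _ ⟨v, hv, rfl⟩
        refine (hFx _ _).mpr ?_
        change ρ (g * t.1 * g⁻¹) (ρ g v) = ρ g v
        rw [← happ, inv_mul_cancel_right, happ, (hFx _ _).mp hv]
      have hfr := Submodule.finrank_mono hmap
      rw [LinearEquiv.finrank_map_eq] at hfr
      have := huniq ⟨g * t.1 * g⁻¹, hs1, hs2, hsz⟩ (lt_of_lt_of_le hlt (Nat.mul_le_mul_left 2 hfr))
      exact mul_inv_eq_iff_eq_mul.mp (congrArg Subtype.val this)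
    exact hρ (LinearEquiv.ext fun v => by rw [hneg _ ht1 ht2 hcent, hzv])
  have hhalf : ∀ t : T, n = 2 * a t := by
    intro t
    obtain ⟨t', -, h⟩ := hcompl t
    have := hbig t
    have := hbig t'
    omega
  have hne : Nonempty T := by
    obtain ⟨v, hv⟩ := exists_ne (0 : V)
    obtain ⟨t, ht1, ht2, htv, -⟩ := key v hv
    refine ⟨⟨t, ht1, ht2, fun e => hv ?_⟩⟩
    rw [e, hzv] at htv
    have : (2 : ZMod q) • v = 0 := by rw [two_smul]; nth_rewrite 1 [← htv]; exact neg_add_cancel v
    exact (smul_eq_zero.mp this).resolve_left h2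
  obtain ⟨t₀⟩ := hne
  refine ⟨a t₀, ?_, ?_⟩
  · rw [Module.natCard_eq_pow_finrank (K := ZMod q) (V := V), Nat.card_eq_fintype_card (α := ZMod q), ZMod.card, ← hhalf t₀]
  · have hset : Nat.card {g : G // orderOf g = 2 ∧ g ∉ Subgroup.center G} = Nat.card T := by
      refine Nat.card_congr (Equiv.subtypeEquivRight fun g => ?_)
      rw [orderOf_eq_iff (by norm_num : 0 < 2)]
      constructor
      · rintro ⟨⟨h1, h2⟩, h3⟩
        exact ⟨by simpa using h2 1 (by norm_num) (by norm_num), by rw [← pow_two]; exact h1, fun e => h3 (e ▸ hzc)⟩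
      · rintro ⟨h1, h2, h3⟩
        refine ⟨⟨by rw [pow_two]; exact h2, fun m hm hm0 => by
          obtain rfl : m = 1 := by omega
          simpa using h1⟩, fun hc => h3 (hρ (LinearEquiv.ext fun v => ?_))⟩
        rw [hneg g h1 h2 (Subgroup.mem_center_iff.mp hc), hzv]
    rw [hset]
    haveI : Fintype G := Fintype.ofFinite G
    haveI : Fintype V := Fintype.ofFinite V
    let e : (Σ t : T, {v : V // v ∈ Fx t.1 ∧ v ≠ 0}) ≃ {v : V // v ≠ 0} := Equiv.ofBijective (fun p => ⟨p.2.1, p.2.2.2⟩) (by
      constructor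
      · rintro ⟨t, v, hv, hv0⟩ ⟨t', v', hv', hv0'⟩ h
        obtain rfl : v = v' := congrArg Subtype.val h
        obtain rfl : t = t' := by
          by_contra hne
          exact hv0 ((Submodule.disjoint_def.mp (hdisj t t' hne)) v hv hv')
        rfl
      · rintro ⟨v, hv⟩
        obtain ⟨t, ht1, ht2, htv, -⟩ := key v hv
        refine ⟨⟨⟨t, ht1, ht2, fun e => hv ?_⟩, ⟨v, (hFx _ _).mpr htv, hv⟩⟩, rfl⟩
        rw [e, hzv] at htv
        have : (2 : ZMod q) • v = 0 := by rw [two_smul]; nth_rewrite 1 [← htv]; exact neg_add_cancel v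
        exact (smul_eq_zero.mp this).resolve_left h2)
    have hcnt : ∀ t : T, Nat.card {v : V // v ∈ Fx t.1 ∧ v ≠ 0} = q ^ a t₀ - 1 := by
      intro t
      have h1 : Nat.card (Fx t.1) = q ^ a t := by
        rw [Module.natCard_eq_pow_finrank (K := ZMod q) (V := Fx t.1), Nat.card_eq_fintype_card (α := ZMod q), ZMod.card]
      have h2 : a t = a t₀ := by have := hhalf t; have := hhalf t₀; omega
      let e' : {v : V // v ∈ Fx t.1 ∧ v ≠ 0} ≃ {x : Fx t.1 // x ≠ 0} :=
        { toFun := fun v => ⟨⟨v.1, v.2.1⟩, fun h => v.2.2 (congrArg Subtype.val h)⟩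
          invFun := fun x => ⟨x.1.1, x.1.2, fun h => x.2 (Subtype.ext h)⟩
          left_inv := fun _ => rfl
          right_inv := fun _ => rfl }
      rw [← h2, ← h1, Nat.card_congr e', Nat.card_eq_fintype_card, Nat.card_eq_fintype_card,
        Fintype.card_subtype_compl, Fintype.card_subtype_eq]
    have htot := Nat.card_congr e
    rw [Nat.card_sigma, Finset.sum_congr rfl (fun t _ => hcnt t), Finset.sum_const, Finset.card_univ, smul_eq_mul,
      ← Nat.card_eq_fintype_card] at htot
    have hV : Nat.card {v : V // v ≠ 0} = q ^ (2 * a t₀) - 1 := by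
      rw [Nat.card_eq_fintype_card, Fintype.card_subtype_compl, Fintype.card_subtype_eq, ← Nat.card_eq_fintype_card,
        Module.natCard_eq_pow_finrank (K := ZMod q) (V := V), Nat.card_eq_fintype_card (α := ZMod q), ZMod.card, ← hhalf t₀]
    rw [hV] at htot
    have hr : 0 < a t₀ := by
      have := hhalf t₀
      have hn : 0 < n := Module.finrank_pos
      omega
    have hq2 : 2 ≤ q := (Fact.out : q.Prime).two_le
    have hX : 2 ≤ q ^ a t₀ := le_trans hq2 (Nat.le_self_pow hr.ne' q)
    have hsq : q ^ (2 * a t₀) - 1 = (q ^ a t₀ + 1) * (q ^ a t₀ - 1) := by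
      rw [two_mul, pow_add]
      simpa [pow_two] using Nat.sq_sub_sq (q ^ a t₀) 1
    rw [hsq] at htot
    exact Nat.eq_of_mul_eq_mul_right (by omega) htot


end Cfsg.Agent.S3381
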