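import Cfsg.Statements.S3382
import Cfsg.Agent.Lib.Recog.MonomialAut

set_option autoImplicit false
open Cfsg

namespace Cfsg.Agent.S3382

/-- Let q = 2^m + 1 be a prime other than 5. Then the automorphism group of the group of linear maps of F_q² of the forms (x, y) ↦ (a x, ± a⁻¹ y) and (x, y) ↦ (± a⁻¹ y, a x) with a ≠ 0 is itself a 2-group. -/
theorem result (q m : ℕ) [Fact q.Prime] (hq : q = 2 ^ m + 1) (hq5 : q ≠ 5)
    (T : Subgroup ((Fin 2 → ZMod q) ≃ₗ[ZMod q] (Fin 2 → ZMod q)))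
    (hT : ∀ f, f ∈ T ↔ ∃ a s : ZMod q, a ≠ 0 ∧ (s = 1 ∨ s = -1) ∧
      ((∀ v, f v = ![a * v 0, s * a⁻¹ * v 1]) ∨ (∀ v, f v = ![s * a⁻¹ * v 1, a * v 0]))) :
    IsPGroup 2 (MulAut T) := by
  refine CfsgLib.Recog.MonomialAut.isPGroup_aut hq hq5 T fun f => (hT f).trans ⟨?_, ?_⟩
  · rintro ⟨a, s, ha, hs, h⟩
    have hs0 : s ≠ 0 := by rcases hs with rfl | rfl <;> simp
    refine ⟨Units.mk0 a ha, Units.mk0 s hs0, Units.ext (by rcases hs with rfl | rfl <;> simp), ?_⟩
    rcases h with h | h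
    · left
      refine LinearEquiv.ext fun v => ?_
      rw [h v, CfsgLib.Recog.MonomialAut.diag_apply]
      simp
    · right
      refine LinearEquiv.ext fun v => ?_
      rw [h v, LinearEquiv.mul_apply, CfsgLib.Recog.MonomialAut.diag_apply, CfsgLib.Recog.MonomialAut.swp_apply]
      simp
  · rintro ⟨a, s, hs, h | h⟩ <;>
      refine ⟨a, s, a.ne_zero, mul_self_eq_one_iff.1 (by rw [← Units.val_mul, ← pow_two, hs, Units.val_one]), ?_⟩
    · exact Or.inl fun v => by rw [h, CfsgLib.Recog.MonomialAut.diag_apply, Units.val_mul, Units.val_inv_eq_inv_val]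
    · exact Or.inr fun v => by
        rw [h, LinearEquiv.mul_apply, CfsgLib.Recog.MonomialAut.diag_apply, CfsgLib.Recog.MonomialAut.swp_apply, Units.val_mul, Units.val_inv_eq_inv_val]
        rfl

end Cfsg.Agent.S3382
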