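import Cfsg.Statements.S3383


set_option autoImplicit false
open Cfsg
open scoped Pointwise

namespace Cfsg.Agent.S3383

/-- Let H be a Frobenius complement in a finite group L and K the Frobenius kernel (as a subgroup). Then K is characteristic in L, and every normal subgroup of L either contains K or is contained in K. -/
theorem result {L : Type*} [Group L] [Finite L]
    (H : Subgroup L) (hH : Cfsg.IsFrobeniusComplement H)
    (K : Subgroup L) (hK : (K : Set L) = Cfsg.frobeniusKernel H) :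
    K.Characteristic ∧ ∀ N : Subgroup L, N.Normal → K ≤ N ∨ N ≤ K := by
  have hKset : ∀ x : L, x ∈ K ↔ (x = 1 ∨ ∀ g : L, x ∉ MulAut.conj g • H) := fun x =>
    Set.ext_iff.mp hK x
  have hmem : ∀ (g x : L), x ∈ MulAut.conj g • H ↔ g⁻¹ * x * g ∈ H := fun g x => by
    simp [Subgroup.mem_pointwise_smul_iff_inv_smul_mem]
  have hKn : K.Normal := ⟨fun x hx c => by
    rw [hKset] at hx ⊢
    rcases hx with rfl | hx
    · left; group
    · right
      intro g hg
      apply hx (c⁻¹ * g)
      rw [hmem] at hg ⊢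
      convert hg using 1
      group⟩
  have hKH : ∀ x : L, x ∈ K → x ∈ H → x = 1 := fun x hx hxH => by
    rcases (hKset x).mp hx with h | h
    · exact h
    · exact absurd ((hmem 1 x).mpr (by simpa using hxH)) (h 1)
  have main : ∀ N : Subgroup L, N.Normal → K ≤ N ∨ N ≤ K := by
    intro N hN
    by_cases hNK : N ≤ K
    · exact Or.inr hNK
    left
    obtain ⟨x, hxN, hxK⟩ := SetLike.not_le_iff_exists.mp hNK
    rw [hKset] at hxK
    push Not at hxK
    obtain ⟨hx1, g, hg⟩ := hxK
    rw [hmem] at hg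
    set h := g⁻¹ * x * g with hh
    have hhN : h ∈ N := by simpa [hh] using hN.conj_mem x hxN g⁻¹
    have hh1 : h ≠ 1 := fun e => hx1 (by
      rw [show x = g * h * g⁻¹ by rw [hh]; group, e]; group)
    let f : K → (K ⊓ N : Subgroup L) := fun k => ⟨h * k * h⁻¹ * (k : L)⁻¹,
      K.mul_mem (hKn.conj_mem _ k.2 h) (K.inv_mem k.2), by
      rw [show h * k * h⁻¹ * (k : L)⁻¹ = h * ((k : L) * h⁻¹ * (k : L)⁻¹) by group]
      exact mul_mem hhN (hN.conj_mem _ (inv_mem hhN) _)⟩
    have hf : Function.Injective f := by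
      intro k₁ k₂ e
      have e' : h * k₁ * h⁻¹ * (k₁ : L)⁻¹ = h * k₂ * h⁻¹ * (k₂ : L)⁻¹ := congrArg Subtype.val e
      set c := (k₂ : L)⁻¹ * k₁ with hc
      have hch : c * h⁻¹ * c⁻¹ = h⁻¹ := by
        calc c * h⁻¹ * c⁻¹ = (k₂ : L)⁻¹ * h⁻¹ * (h * k₁ * h⁻¹ * (k₁ : L)⁻¹) * k₂ := by rw [hc]; group
          _ = h⁻¹ := by rw [e']; group
      have hcH : c ∈ H := by
        by_contra hcH
        have hmem' : h⁻¹ ∈ H ⊓ MulAut.conj c • H := by
          refine ⟨H.inv_mem hg, ?_⟩
          show h⁻¹ ∈ MulAut.conj c • H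
          rw [hmem]
          nth_rewrite 1 [← hch]
          rw [show c⁻¹ * (c * h⁻¹ * c⁻¹) * c = h⁻¹ by group]
          exact H.inv_mem hg
        rw [hH.2.2 c hcH, Subgroup.mem_bot] at hmem'
        exact hh1 (inv_eq_one.mp hmem')
      have hc1 := hKH c (K.mul_mem (K.inv_mem k₂.2) k₁.2) hcH
      exact Subtype.ext (by rw [hc] at hc1; exact (inv_mul_eq_one.mp hc1).symm)
    have hle : Nat.card K ≤ Nat.card (K ⊓ N : Subgroup L) := Nat.card_le_card_of_injective f hf
    exact inf_eq_left.mp (Subgroup.eq_of_le_of_card_ge inf_le_left hle)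
  refine ⟨Subgroup.characteristic_iff_map_eq.mpr fun φ => ?_, main⟩
  have hcard : Nat.card (K.map φ.toMonoidHom) = Nat.card K :=
    Subgroup.card_map_of_injective φ.injective
  rcases main _ (hKn.map φ.toMonoidHom φ.surjective) with h | h
  · exact (Subgroup.eq_of_le_of_card_ge h hcard.le).symm
  · exact Subgroup.eq_of_le_of_card_ge h hcard.ge

end Cfsg.Agent.S3383
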