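import Cfsg.Statements.S3389


set_option autoImplicit false
open Cfsg
open scoped Pointwise

namespace Cfsg.Agent.S3389

/-- Let G be a finite group acting faithfully and transitively on a finite set Ω with fixity k ≥ 1: every non-identity element fixes at most k points and some non-identity element fixes exactly k points. Then |Z(G)| divides k; if k = 2 then |G| is even; and for every prime p > k dividing |G| and every point α, either p does not divide |G_α| or G_α contains a Sylow p-subgroup of G. -/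
theorem result {G : Type*} [Group G] [Finite G] {Ω : Type*} [Fintype Ω] [MulAction G Ω] [FaithfulSMul G Ω]
    (htr : MulAction.IsPretransitive G Ω) (k : ℕ) (hk : 1 ≤ k)
    (hfix : ∀ g : G, g ≠ 1 → Nat.card (MulAction.fixedBy Ω g) ≤ k) (hex : ∃ g : G, g ≠ 1 ∧ Nat.card (MulAction.fixedBy Ω g) = k) :
    Nat.card (Subgroup.center G) ∣ k ∧ (k = 2 → 2 ∣ Nat.card G) ∧
      ∀ (p : ℕ), p.Prime → k < p → p ∣ Nat.card G → ∀ α : Ω,
        ¬ p ∣ Nat.card (MulAction.stabilizer G α) ∨ ¬ p ∣ (MulAction.stabilizer G α).index := by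
  have hfin : ∀ g : G, Finite (MulAction.fixedBy Ω g) := fun g => inferInstance
  obtain ⟨g₀, hg₀, hg₀k⟩ := hex
  -- a central element fixing a point is trivial
  have hZsemi : ∀ z ∈ Subgroup.center G, ∀ ω : Ω, z • ω = ω → z = 1 := by
    intro z hz ω hω
    refine FaithfulSMul.eq_of_smul_eq_smul (α := Ω) fun a => ?_
    obtain ⟨g, rfl⟩ := MulAction.exists_smul_eq G ω a
    rw [one_smul, smul_smul, ← Subgroup.mem_center_iff.mp hz g, mul_smul, hω]
  refine ⟨?_, ?_, ?_⟩
  · classical
    have hmem : ∀ (z : Subgroup.center G) (ω : Ω), g₀ • ω = ω → g₀ • ((z : G) • ω) = (z : G) • ω := by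
      intro z ω hω
      rw [smul_smul, Subgroup.mem_center_iff.mp z.2 g₀, mul_smul, hω]
    let _ : MulAction (Subgroup.center G) (MulAction.fixedBy Ω g₀) :=
      { smul := fun z x => ⟨(z : G) • (x : Ω), hmem z x x.2⟩
        one_smul := fun x => Subtype.ext (one_smul G (x : Ω))
        mul_smul := fun z w x => Subtype.ext (mul_smul (z : G) (w : G) (x : Ω)) }
    have hstab : ∀ x : MulAction.fixedBy Ω g₀, MulAction.stabilizer (Subgroup.center G) x = ⊥ := fun x => by
      rw [Subgroup.eq_bot_iff_forall]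
      exact fun z hz => Subtype.ext (hZsemi z z.2 x (congrArg Subtype.val hz))
    rw [← hg₀k, Nat.card_congr (MulAction.selfEquivSigmaOrbits (Subgroup.center G) (MulAction.fixedBy Ω g₀)),
      Nat.card_sigma]
    refine Finset.dvd_sum fun q _ => ?_
    have h := MulAction.index_stabilizer (Subgroup.center G) q.out
    rw [hstab, Subgroup.index_bot, ← Nat.card_coe_set_eq] at h
    exact h ▸ dvd_rfl
  · intro hk2
    subst hk2
    obtain ⟨x, y, hxy, hset⟩ := Set.ncard_eq_two.mp ((Nat.card_coe_set_eq _).symm.trans hg₀k)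
    set S := MulAction.stabilizer G x ⊓ MulAction.stabilizer G y with hS
    have hg₀S : g₀ ∈ S := by
      have hx : x ∈ MulAction.fixedBy Ω g₀ := hset ▸ Set.mem_insert _ _
      have hy : y ∈ MulAction.fixedBy Ω g₀ := hset ▸ Set.mem_insert_of_mem _ rfl
      exact ⟨hx, hy⟩
    obtain ⟨p, hp, hpS⟩ := Nat.exists_prime_and_dvd (S.one_lt_card_iff_ne_bot.mpr
      (fun h => hg₀ ((Subgroup.mem_bot).mp (h ▸ hg₀S)))).ne'
    have : Fact p.Prime := ⟨hp⟩
    let P₀ : Sylow p S := Classical.arbitrary _
    set P := (P₀ : Subgroup S).map S.subtype with hP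
    have hPS : P ≤ S := Subgroup.map_subtype_le _
    have hP1 : P ≠ ⊥ := by
      rw [hP, Ne, Subgroup.map_eq_bot_iff_of_injective _ S.subtype_injective]
      exact P₀.ne_bot_of_dvd_card hpS
    have hPp : IsPGroup p P := P₀.isPGroup'.map _
    -- only `x` and `y` are fixed by `P`
    have hfixP : ∀ z : Ω, (∀ u ∈ P, u • z = z) → z = x ∨ z = y := by
      intro z hz
      by_contra hne
      push Not at hne
      obtain ⟨u, hu1⟩ := (Subgroup.ne_bot_iff_exists_ne_one.mp hP1)
      have hsub : ({x, y, z} : Set Ω) ⊆ MulAction.fixedBy Ω u.val := by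
        rintro w (rfl | rfl | rfl)
        · exact (hPS u.2).1
        · exact (hPS u.2).2
        · exact hz _ u.2
      have h3 : ({x, y, z} : Set Ω).ncard = 3 := Set.ncard_eq_three.mpr ⟨x, y, z, hxy, Ne.symm hne.1, Ne.symm hne.2, rfl⟩
      have := Set.ncard_le_ncard hsub (Set.toFinite _)
      have hle := hfix u.val (fun h => hu1 (Subtype.ext h))
      rw [Nat.card_coe_set_eq] at hle
      omega
    -- `P` is a Sylow subgroup of each of the two point stabilisers
    have hsyl : ∀ w, (w = x ∨ w = y) → ∀ Q : Subgroup G, IsPGroup p Q → P ≤ Q →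
        Q ≤ MulAction.stabilizer G w → Q = P := by
      intro w hw Q hQp hPQ hQw
      by_contra hne
      have hnil : Group.IsNilpotent Q := hQp.isNilpotent
      have hne' : P.subgroupOf Q < ⊤ := lt_top_iff_ne_top.mpr fun h =>
        hne (le_antisymm (Subgroup.subgroupOf_eq_top.mp h) hPQ)
      have hgrow := Group.normalizerCondition_of_isNilpotent _ hne'
      obtain ⟨n, hn, hnP⟩ := SetLike.exists_of_lt hgrow
      rw [Subgroup.mem_normalizer_iff] at hn
      have hconj : ∀ u ∈ P, (n : G)⁻¹ * u * n ∈ P := fun u hu => by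
        have h := (hn (⟨(n : G)⁻¹ * u * n, mul_mem (mul_mem (inv_mem n.2) (hPQ hu)) n.2⟩ : Q)).mpr
          (by simpa [Subgroup.mem_subgroupOf, mul_assoc] using hu)
        simpa [Subgroup.mem_subgroupOf] using h
      have hnfix : ∀ z, (z = x ∨ z = y) → (n : G) • z = x ∨ (n : G) • z = y := fun z hz => by
        apply hfixP
        intro u hu
        have h := hPS (hconj u hu)
        have e : ((n : G)⁻¹ * u * n) • z = z := by
          rcases hz with rfl | rfl
          · exact h.1
          · exact h.2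
        rwa [mul_smul, mul_smul, inv_smul_eq_iff] at e
      have hnw : (n : G) • w = w := hQw n.2
      have hnS : (n : G) ∈ S := by
        have hinj : Function.Injective ((n : G) • · : Ω → Ω) := MulAction.injective _
        rcases hw with rfl | rfl
        · refine ⟨hnw, ?_⟩
          rcases hnfix y (Or.inr rfl) with h | h
          · exact absurd (hinj (hnw.trans h.symm)) hxy
          · exact h
        · refine ⟨?_, hnw⟩
          rcases hnfix x (Or.inl rfl) with h | h
          · exact h
          · exact absurd (hinj (h.trans hnw.symm)) hxy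
      -- so `⟨P, n⟩` is a larger `p`-subgroup of `S`
      apply hnP
      rw [Subgroup.mem_subgroupOf]
      have hT : IsPGroup p ((Q ⊓ S : Subgroup G).subgroupOf S) :=
        (hQp.to_le inf_le_left).of_equiv (Subgroup.subgroupOfEquivOfLe inf_le_right).symm
      have hle : (P₀ : Subgroup S) ≤ (Q ⊓ S : Subgroup G).subgroupOf S := fun u hu =>
        ⟨hPQ ⟨u, hu, rfl⟩, u.2⟩
      have heq := P₀.3 hT hle
      exact ⟨⟨n, hnS⟩, heq ▸ (⟨n.2, hnS⟩ : (⟨n, hnS⟩ : S) ∈ (Q ⊓ S : Subgroup G).subgroupOf S), rfl⟩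
    obtain ⟨c, hc⟩ := MulAction.exists_smul_eq G x y
    -- `P` and its conjugate are Sylow subgroups of the stabiliser of `y`
    set A := MulAction.stabilizer G y with hA
    obtain ⟨R, hR⟩ := (hPp.of_equiv (Subgroup.subgroupOfEquivOfLe (hPS.trans inf_le_right : P ≤ A)).symm).exists_le_sylow
    have hReq : (R : Subgroup A).map A.subtype = P :=
      hsyl y (Or.inr rfl) _ (R.isPGroup'.map _) (fun u hu => ⟨⟨u, (hPS hu).2⟩, hR hu, rfl⟩) (Subgroup.map_subtype_le _)
    let cP := P.map (MulAut.conj c).toMonoidHom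
    have hcA : cP ≤ A := by
      rintro z ⟨u, hu, rfl⟩
      show (c * u * c⁻¹) • y = y
      rw [mul_smul, mul_smul, show c⁻¹ • y = x by rw [← hc, inv_smul_smul], (hPS hu).1, hc]
    obtain ⟨R', hR'⟩ := ((hPp.map _).of_equiv (Subgroup.subgroupOfEquivOfLe hcA).symm).exists_le_sylow
    obtain ⟨d, hd⟩ := MulAction.exists_smul_eq A R' R
    have hmaps : ∀ u ∈ P, (d : G) * (c * u * c⁻¹) * (d : G)⁻¹ ∈ P := by
      intro u hu
      rw [← hReq, ← hd]
      exact ⟨MulAut.conj d ⟨c * u * c⁻¹, hcA ⟨u, hu, rfl⟩⟩, ⟨_, hR' (show (⟨c * u * c⁻¹, hcA ⟨u, hu, rfl⟩⟩ : A) ∈ cP.subgroupOf A from ⟨u, hu, rfl⟩), rfl⟩, rfl⟩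
    set w := (d : G) * c with hw
    have hwx : w • x = y := by rw [hw, mul_smul, hc]; exact d.2
    have hwy : w • y = x := by
      have hwfix : ∀ u ∈ P, u • (w • y) = w • y := by
        intro u hu
        have hPmap : P.map (MulAut.conj w).toMonoidHom = P := by
          refine Subgroup.eq_of_le_of_card_ge ?_ (Subgroup.card_map_of_injective (MulAut.conj w).injective).ge
          rintro z ⟨v, hv, rfl⟩
          show w * v * w⁻¹ ∈ P
          rw [show w * v * w⁻¹ = (d : G) * (c * v * c⁻¹) * (d : G)⁻¹ by rw [hw]; group]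
          exact hmaps v hv
        obtain ⟨v, hv, rfl⟩ : u ∈ P.map (MulAut.conj w).toMonoidHom := hPmap.symm ▸ hu
        show (w * v * w⁻¹) • (w • y) = w • y
        rw [mul_smul, mul_smul, inv_smul_smul, (hPS hv).2]
      rcases hfixP _ hwfix with h | h
      · exact h
      · exact absurd (MulAction.injective w (hwx.trans h.symm)) hxy
    by_contra hodd
    -- an element of odd order cannot interchange two points
    have hodd' : ∀ j : ℕ, w ^ (2 * j + 1) • x = y := by
      intro j
      induction j with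
      | zero => simpa using hwx
      | succ j ih =>
        rw [show 2 * (j + 1) + 1 = 2 + (2 * j + 1) by ring, pow_add, mul_smul, ih, pow_two, mul_smul, hwy, hwx]
    obtain ⟨j, hj⟩ : Odd (orderOf w) := Nat.odd_iff.mpr (by
      rcases Nat.mod_two_eq_zero_or_one (orderOf w) with h | h
      · exact absurd ((Nat.dvd_of_mod_eq_zero h).trans (orderOf_dvd_natCard w)) hodd
      · exact h)
    have := hodd' j
    rw [← hj, pow_orderOf_eq_one, one_smul] at this
    exact hxy this
  · intro p hp hkp hpG α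
    have : Fact p.Prime := ⟨hp⟩
    by_contra hcon
    push Not at hcon
    obtain ⟨hpS, hpI⟩ := hcon
    set S := MulAction.stabilizer G α with hS
    let P₀ : Sylow p S := Classical.arbitrary _
    set P := (P₀ : Subgroup S).map S.subtype with hP
    have hPp : IsPGroup p P := P₀.isPGroup'.map _
    obtain ⟨Q, hQ⟩ := hPp.exists_le_sylow
    have hne : P ≠ Q := by
      intro h
      obtain ⟨m, hm⟩ := hpI
      apply Q.not_dvd_index
      rw [← h, hP, Subgroup.index_map_subtype, hm]
      exact dvd_mul_of_dvd_right (dvd_mul_right p m) _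
    have hnil : Group.IsNilpotent (Q : Subgroup G) := Q.isPGroup'.isNilpotent
    obtain ⟨n, hn, hnP⟩ := SetLike.exists_of_lt (Group.normalizerCondition_of_isNilpotent _
      (lt_top_iff_ne_top.mpr fun h => hne (le_antisymm hQ (Subgroup.subgroupOf_eq_top.mp h)) :
        P.subgroupOf (Q : Subgroup G) < ⊤))
    rw [Subgroup.mem_normalizer_iff] at hn
    have hP1 : P ≠ ⊥ := by
      rw [hP, Ne, Subgroup.map_eq_bot_iff_of_injective _ S.subtype_injective]
      exact P₀.ne_bot_of_dvd_card hpS
    obtain ⟨u₀, hu₀, hu₀1⟩ : ∃ u ∈ P, u ≠ 1 := by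
      by_contra hh
      push Not at hh
      exact hP1 (P.eq_bot_iff_forall.mpr hh)
    -- `n` permutes the at most `k < p` fixed points of `P`
    let F : Set Ω := {z | ∀ u ∈ P, u • z = z}
    have hF : F.ncard ≤ k := by
      refine le_trans (Set.ncard_le_ncard (t := MulAction.fixedBy Ω u₀) (fun z hz => hz u₀ hu₀) (Set.toFinite _)) ?_
      exact (Nat.card_coe_set_eq _).symm.le.trans (hfix u₀ hu₀1)
    have hαF : α ∈ F := fun u hu => (Subgroup.map_subtype_le _ hu : u ∈ S)
    have hmap : ∀ z ∈ F, (n : G) • z ∈ F := by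
      intro z hz u hu
      have h' : (n : G)⁻¹ * u * n ∈ P := by
        have h := (hn (⟨(n : G)⁻¹ * u * n, mul_mem (mul_mem (inv_mem n.2) (hQ hu)) n.2⟩ : (Q : Subgroup G))).mpr
          (by simpa [Subgroup.mem_subgroupOf, mul_assoc] using hu)
        simpa [Subgroup.mem_subgroupOf] using h
      have e := hz _ h'
      rwa [mul_smul, mul_smul, inv_smul_eq_iff] at e
    have horb : MulAction.orbit (Subgroup.zpowers (n : G)) α ⊆ F := by
      rintro z ⟨⟨m, hm⟩, rfl⟩
      obtain ⟨j, rfl⟩ := (Submonoid.mem_powers_iff _ _).mp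
        ((isOfFinOrder_of_finite (n : G)).mem_powers_iff_mem_zpowers.mpr hm)
      show (n : G) ^ j • α ∈ F
      induction j with
      | zero => simpa using hαF
      | succ j ih => rw [pow_succ', mul_smul]; exact hmap _ (ih (Subgroup.pow_mem _ (Subgroup.mem_zpowers _) j))
    have hnp : IsPGroup p (Subgroup.zpowers (n : G)) := Q.isPGroup'.to_le (Subgroup.zpowers_le.mpr n.2)
    obtain ⟨i, hi⟩ := hnp.card_orbit α
    have hlt : Nat.card (MulAction.orbit (Subgroup.zpowers (n : G)) α) < p := by
      rw [Nat.card_coe_set_eq]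
      exact lt_of_le_of_lt ((Set.ncard_le_ncard horb (Set.toFinite _)).trans hF) hkp
    rw [hi] at hlt
    have hi0 : i = 0 := by
      by_contra hh
      exact absurd hlt (Nat.not_lt.mpr (Nat.le_self_pow hh p))
    rw [hi0, pow_zero, Nat.card_coe_set_eq, Set.ncard_eq_one] at hi
    obtain ⟨a, ha⟩ := hi
    have hnα : (n : G) ∈ S := by
      have h1 : (n : G) • α ∈ MulAction.orbit (Subgroup.zpowers (n : G)) α := ⟨⟨_, Subgroup.mem_zpowers _⟩, rfl⟩
      have h2 := MulAction.mem_orbit_self (M := Subgroup.zpowers (n : G)) α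
      rw [ha, Set.mem_singleton_iff] at h1 h2
      exact h1.trans h2.symm
    apply hnP
    rw [Subgroup.mem_subgroupOf]
    have hT : IsPGroup p (((Q : Subgroup G) ⊓ S).subgroupOf S) :=
      (Q.isPGroup'.to_le inf_le_left).of_equiv (Subgroup.subgroupOfEquivOfLe inf_le_right).symm
    have hle : (P₀ : Subgroup S) ≤ ((Q : Subgroup G) ⊓ S).subgroupOf S := fun u hu => ⟨hQ ⟨u, hu, rfl⟩, u.2⟩
    have heq := P₀.3 hT hle
    exact ⟨⟨n, hnα⟩, heq ▸ (⟨n.2, hnα⟩ : (⟨n, hnα⟩ : S) ∈ ((Q : Subgroup G) ⊓ S).subgroupOf S), rfl⟩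

end Cfsg.Agent.S3389
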