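import Cfsg.Statements.S3390
import Cfsg.Agent.S0112
import Cfsg.Agent.Lib.Invol.MetacyclicTwo

set_option autoImplicit false
set_option linter.unusedSectionVars false
open Cfsg
open MulAction

namespace Cfsg.Agent.S3390

/-- A `2`-group with two involutions, one of them with centraliser of order four. -/
theorem dihedral_or_semidihedral {X : Type*} [Group X] [Finite X] (hX : IsPGroup 2 X) {a b : X}
    (ha : orderOf a = 2) (hb : orderOf b = 2) (hab : a ≠ b)
    (hC : Nat.card (Subgroup.centralizer ({a} : Set X)) = 4) :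
    (∃ k : ℕ, Nonempty (X ≃* DihedralGroup k)) ∨ Cfsg.IsQuasiDihedral X := by
  classical
  have : Fact (Nat.Prime 2) := ⟨Nat.prime_two⟩
  obtain ⟨m, hm⟩ := hX.exists_card_eq
  rcases Nat.lt_or_ge m 3 with hlt | hge
  · have h4 : 4 ∣ 2 ^ m := hm ▸ hC ▸ Subgroup.card_subgroup_dvd_card _
    have hm2 : m = 2 := by interval_cases m <;> simp_all
    subst hm2
    left
    have hcy : ¬ IsCyclic X := by
      intro hc
      obtain ⟨g, hg⟩ := hc.exists_generator
      have ho : orderOf g = 4 := by rw [orderOf_eq_card_of_forall_mem_zpowers hg, hm]; norm_num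
      have key : ∀ c : X, orderOf c = 2 → c = g ^ 2 := by
        intro c hc
        obtain ⟨k, hk, rfl⟩ : ∃ k < 4, g ^ k = c := by
          have := (mem_zpowers_iff_mem_range_orderOf).mp (hg c)
          simpa [Finset.mem_image, ho] using this
        interval_cases k
        · simp at hc
        · rw [pow_one, ho] at hc; omega
        · rfl
        · rw [orderOf_pow' g (by norm_num), ho] at hc; norm_num at hc
      exact hab ((key a ha).trans (key b hb).symm)
    have hexp : Monoid.exponent X = 2 := by
      have : Nontrivial X := by rw [← Finite.one_lt_card_iff_nontrivial, hm]; norm_num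
      rw [Monoid.exponent_eq_prime_iff Nat.prime_two]
      intro g hg
      obtain ⟨i, hi, hgi⟩ := (Nat.dvd_prime_pow Nat.prime_two).mp (hm ▸ orderOf_dvd_natCard g)
      interval_cases i
      · exact absurd (orderOf_eq_one_iff.mp (by simpa using hgi)) hg
      · simpa using hgi
      · exact absurd (isCyclic_of_orderOf_eq_card g (by rw [hgi, hm])) hcy
    have hK : IsKleinFour X := ⟨by rw [hm]; norm_num, hexp⟩
    exact ⟨2, ⟨(IsKleinFour.nonempty_mulEquiv (G₁ := X) (G₂ := DihedralGroup 2)).some⟩⟩
  · set A := Subgroup.centralizer ({a} : Set X) with hA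
    have hA2 : Nat.card A = 2 ^ 2 := by rw [hC]; norm_num
    have haA : a ∈ A := Subgroup.mem_centralizer_singleton_iff.mpr rfl
    have hcomm : ∀ x y : A, x * y = y * x := IsPGroup.commutative_of_card_eq_prime_sq hA2
    have hself : Subgroup.centralizer (A : Set X) = A := by
      refine le_antisymm (Subgroup.centralizer_le (Set.singleton_subset_iff.mpr haA)) ?_
      intro x hx
      rw [Subgroup.mem_centralizer_iff]
      intro y hy
      exact congrArg Subtype.val (hcomm ⟨y, hy⟩ ⟨x, hx⟩)
    have hc := Cfsg.Agent.S0112.result (p := 2) m hm A hA2 hself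
    rcases CfsgLib.Invol.maxClass_two_types hge hm hc with h | ⟨k, ⟨e⟩⟩ | h
    · exact Or.inl h
    · exfalso
      have key : ∀ q : QuaternionGroup k, orderOf q = 2 → q = QuaternionGroup.a (k : ZMod (2 * k)) := by
        have hk : NeZero k := ⟨fun h => by
          subst h
          have : Finite (QuaternionGroup 0) := Finite.of_equiv X e.toEquiv
          have : Finite (ZMod (2 * 0)) := Finite.of_injective (fun i => (QuaternionGroup.a i : QuaternionGroup 0))
            fun i j h => QuaternionGroup.a.inj h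
          exact not_finite_iff_infinite.mpr (inferInstanceAs (Infinite ℤ)) this⟩
        intro q hq
        cases q with
        | xa i => rw [QuaternionGroup.orderOf_xa] at hq; omega
        | a i =>
          congr 1
          have h2 := pow_orderOf_eq_one (QuaternionGroup.a i)
          rw [hq, sq, QuaternionGroup.a_mul_a, QuaternionGroup.one_def] at h2
          have h0 : i + i = 0 := QuaternionGroup.a.inj h2
          have hne : i ≠ 0 := by
            rintro rfl
            rw [← QuaternionGroup.one_def, orderOf_one] at hq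
            omega
          have hv : (2 * k) ∣ i.val + i.val := by
            rw [← ZMod.natCast_eq_zero_iff, Nat.cast_add, ZMod.natCast_val, ZMod.cast_id', id]
            exact h0
          obtain ⟨c, hc⟩ := hv
          have := ZMod.val_lt i
          have hpos : i.val ≠ 0 := fun h => hne ((ZMod.val_eq_zero i).mp h)
          have : c = 1 := by
            rcases c with _ | _ | c
            · omega
            · rfl
            · nlinarith
          subst this
          rw [← ZMod.natCast_zmod_val i]
          congr 1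
          omega
      exact hab (e.injective ((key _ (by simpa using ha)).trans (key _ (by simpa using hb)).symm))
    · exact Or.inr h

/-- A permutation all of whose cycles have length `o`, in an even number, is even. -/
theorem sign_eq_one_of_uniform {α : Type*} [Fintype α] [DecidableEq α] (σ : Equiv.Perm α) {o : ℕ}
    (hoσ : σ ^ o = 1) (h : ∀ y, σ y ≠ y → ∀ j : ℕ, (σ ^ j) y = y → o ∣ j)
    (hM : 2 * o ∣ σ.support.card) : Equiv.Perm.sign σ = 1 := by
  have hall : ∀ c ∈ σ.cycleType, c = o := by
    intro c hc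
    refine Nat.dvd_antisymm ((Equiv.Perm.dvd_of_mem_cycleType hc).trans (orderOf_dvd_of_pow_eq_one hoσ)) ?_
    obtain ⟨f, τ, rfl, hd, hf, rfl⟩ := Equiv.Perm.mem_cycleType_iff.mp hc
    obtain ⟨y, hy⟩ := hf.nonempty_support
    have hty : τ y = y := (hd y).resolve_left (Equiv.Perm.mem_support.mp hy)
    refine h y (by rw [Equiv.Perm.mul_apply, hty]; exact Equiv.Perm.mem_support.mp hy) _ ?_
    rw [hd.commute.mul_pow, Equiv.Perm.mul_apply, Equiv.Perm.pow_apply_eq_self_of_apply_eq_self hty,
      ← hf.orderOf, pow_orderOf_eq_one, Equiv.Perm.one_apply]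
  rcases eq_or_ne σ 1 with rfl | h1
  · simp
  have hrep := Multiset.eq_replicate_card.mpr hall
  have hsum : σ.cycleType.sum = Multiset.card σ.cycleType * o := by
    conv_lhs => rw [hrep, Multiset.sum_replicate, smul_eq_mul]
  have hs := Equiv.Perm.sum_cycleType σ
  obtain ⟨q, hq⟩ := hM
  have ho : 0 < o := by
    rcases Nat.eq_zero_or_pos o with rfl | h
    · exact absurd (Equiv.Perm.support_eq_empty_iff.mp (Finset.card_eq_zero.mp (by omega))) h1
    · exact h
  have hcard : Multiset.card σ.cycleType = 2 * q := by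
    apply Nat.eq_of_mul_eq_mul_right ho
    rw [← hsum, hs, hq]; ring
  rw [Equiv.Perm.sign_of_cycleType, hsum, hcard,
    show 2 * q * o + 2 * q = 2 * (q * o + q) by ring, pow_mul]
  simp

variable {G : Type*} [Group G] [Finite G] {Ω : Type*} [Fintype Ω] [DecidableEq Ω] [MulAction G Ω]

theorem stab_relIndex_eq_orbit (α : Ω) (C : Subgroup G) :
    (stabilizer G α).relIndex C = (orbit ↥C α).ncard := by
  rw [← MulAction.index_stabilizer, Subgroup.relIndex]
  rfl

section

variable [FaithfulSMul G Ω] (hfix : ∀ g : G, g ≠ 1 → Nat.card (fixedBy Ω g) ≤ 2)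
include hfix

theorem fix_three {g : G} (hg : g ≠ 1) {a b c : Ω} (ha : g • a = a) (hb : g • b = b) (hc : g • c = c)
    (hab : a ≠ b) (hac : a ≠ c) : b = c := by
  by_contra hbc
  have h := hfix g hg
  rw [Nat.card_coe_set_eq] at h
  have hsub : ({a, b, c} : Set Ω) ⊆ fixedBy Ω g := by
    rintro x (rfl | rfl | rfl) <;> assumption
  have h3 : ({a, b, c} : Set Ω).ncard = 3 := Set.ncard_eq_three.mpr ⟨a, b, c, hab, hac, hbc, rfl⟩
  have := Set.ncard_le_ncard hsub
  omega

/-- The Frobenius subgroup of index two. -/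
theorem frobenius_index_two [IsPretransitive G Ω] {α β : Ω} (S : Sylow 2 G) (N : Subgroup G) (hN : N.Normal)
    (hN2 : N.index = 2) (hTN : (S : Subgroup G) ⊓ stabilizer G α ≤ N)
    (hT : (S : Subgroup G) ⊓ stabilizer G α ≠ ⊥) (h4 : 4 ≤ Nat.card (S : Subgroup G))
    (hr : ((S : Subgroup G) ⊓ stabilizer G α).relIndex (S : Subgroup G) = 2)
    (hαβ : α ≠ β) (hTβ : ∀ x ∈ (S : Subgroup G) ⊓ stabilizer G α, x • β = β)
    {s : G} (hs : s ∈ (S : Subgroup G)) (hsN : s ∉ N) (hsβ : s • α = β) :
    ∃ H : Subgroup ↥N, Cfsg.IsFrobeniusComplement H := by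
  classical
  have : Fact (Nat.Prime 2) := ⟨Nat.prime_two⟩
  set T := (S : Subgroup G) ⊓ stabilizer G α with hTdef
  -- the two-part of the stabiliser
  obtain ⟨k, hk⟩ := S.2.exists_card_eq
  have hidx : Odd (S : Subgroup G).index := by
    rw [Nat.odd_iff]; have := S.not_dvd_index; omega
  have hTcard : Nat.card T * 2 = 2 ^ k := by
    have h := Subgroup.card_mul_index (T.subgroupOf (S : Subgroup G))
    rw [Nat.card_congr (Subgroup.subgroupOfEquivOfLe (inf_le_left : T ≤ (S : Subgroup G))).toEquiv, hk] at h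
    rw [← h]
    congr 1
    exact hr.symm
  have hGcard : Nat.card G = 2 ^ k * (S : Subgroup G).index := by rw [← hk, Subgroup.card_mul_index]
  have hTle : T ≤ stabilizer G α := inf_le_right
  -- Sylow subgroup of the stabiliser
  have hstab : ∀ m, Nat.card (stabilizer G α) = Nat.card T * m → ¬ 2 ∣ m := by
    intro m hm h2
    obtain ⟨u, rfl⟩ := h2
    obtain ⟨j, hj⟩ := (S.2.to_le (inf_le_left : T ≤ (S : Subgroup G))).exists_card_eq
    have hd : 2 ^ (j + 1) ∣ Nat.card (stabilizer G α) := ⟨u, by rw [hm, hj]; ring⟩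
    obtain ⟨Q, hQ⟩ := Sylow.exists_subgroup_card_pow_prime (G := stabilizer G α) 2 hd
    have hQ' : IsPGroup 2 (Q.map (stabilizer G α).subtype) :=
      (IsPGroup.of_card hQ).map _
    obtain ⟨S', hS'⟩ := hQ'.exists_le_sylow
    obtain ⟨g, rfl⟩ := exists_smul_eq G S S'
    have hkj : 2 ^ k = 2 ^ j * 2 := by rw [← hj, hTcard]
    have hQc : Nat.card (Q.map (stabilizer G α).subtype) = 2 ^ k := by
      rw [Subgroup.card_map_of_injective (stabilizer G α).subtype_injective, hQ, hkj, pow_succ]
    have hSc : Nat.card ((g • S : Sylow 2 G) : Subgroup G) = 2 ^ k := by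
      rw [← hk, Sylow.card_eq_multiplicity, Sylow.card_eq_multiplicity]
    have heq := Subgroup.eq_of_le_of_card_ge hS' (le_of_eq (hSc.trans hQc.symm))
    have hS_le : ((g • S : Sylow 2 G) : Subgroup G) ≤ stabilizer G α :=
      heq ▸ Subgroup.map_subtype_le Q
    -- the whole of a Sylow subgroup fixes a point, so the index is odd
    have hd1 : 2 ^ k ∣ Nat.card (stabilizer G α) := hSc ▸ Subgroup.card_dvd_of_le hS_le
    have hn : (stabilizer G α).index ∣ (S : Subgroup G).index := by
      obtain ⟨v, hv⟩ := hd1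
      refine ⟨v, Nat.eq_of_mul_eq_mul_left (show 0 < 2 ^ k by positivity) ?_⟩
      rw [← hGcard, ← Subgroup.card_mul_index (stabilizer G α), hv]; ring
    have hodd : Odd (stabilizer G α).index := Odd.of_dvd_nat hidx hn
    rw [MulAction.index_stabilizer_of_transitive] at hodd
    have hS2 : 2 ∣ (stabilizer G α).relIndex (S : Subgroup G) := by
      rw [← Subgroup.inf_relIndex_left, ← hTdef, hr]
    -- but the orbit of the Sylow subgroup outside `{α, β}` is regular
    have hev : 2 ∣ Nat.card Ω := by
      have : Nat.card (fixedPoints (S : Subgroup G) Ω) = 0 := by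
        rw [Nat.card_eq_zero]
        left
        refine ⟨fun ⟨w, hw⟩ => ?_⟩
        obtain ⟨t, ht, ht1⟩ := (Subgroup.bot_or_exists_ne_one T).resolve_left hT
        have hwα : w ≠ α := fun e => hαβ (by
          have := hw ⟨s, hs⟩; subst e; exact this.symm.trans hsβ)
        have hwβ : w ≠ β := fun e => hαβ (by
          have h1 : s • w = w := hw ⟨s, hs⟩
          subst e
          exact smul_left_cancel s (hsβ.trans h1.symm))
        exact hwβ (fix_three hfix ht1 (hTle ht) (hTβ t ht) (hw ⟨t, ht.1⟩) hαβ hwα.symm).symm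
      have h := S.2.card_modEq_card_fixedPoints Ω
      rw [this] at h
      exact Nat.modEq_zero_iff_dvd.mp h
    exact Nat.not_even_iff_odd.mpr hodd (even_iff_two_dvd.mpr hev)
  have hGN : stabilizer G α ≤ N := by
    rw [← Subgroup.relIndex_eq_one]
    by_contra h
    have h2 : N.relIndex (stabilizer G α) ∣ 2 := hN2 ▸ Subgroup.relIndex_dvd_index_of_normal N _
    have h2' : N.relIndex (stabilizer G α) = 2 := (Nat.dvd_prime Nat.prime_two).mp h2 |>.resolve_left h
    obtain ⟨m, hm⟩ : Nat.card T ∣ Nat.card ↥(N ⊓ stabilizer G α) :=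
      Subgroup.card_dvd_of_le (le_inf hTN hTle)
    have h3 := Subgroup.card_mul_index ((N ⊓ stabilizer G α).subgroupOf (stabilizer G α))
    rw [Nat.card_congr (Subgroup.subgroupOfEquivOfLe (inf_le_right : N ⊓ stabilizer G α ≤ _)).toEquiv] at h3
    have h4 : ((N ⊓ stabilizer G α).subgroupOf (stabilizer G α)).index = 2 := by
      rw [← h2', Subgroup.inf_subgroupOf_right]; rfl
    rw [h4, hm] at h3
    exact hstab (m * 2) (by rw [← h3]; ring) (dvd_mul_left 2 m)
  refine ⟨(stabilizer G α).subgroupOf N, ?_, ?_, ?_⟩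
  · intro h
    obtain ⟨t, ht, ht1⟩ := (Subgroup.bot_or_exists_ne_one T).resolve_left hT
    have : (⟨t, hTN ht⟩ : N) ∈ (⊥ : Subgroup N) := h ▸ (hTle ht : (⟨t, hTN ht⟩ : N).1 ∈ stabilizer G α)
    exact ht1 (congrArg Subtype.val (Subgroup.mem_bot.mp this))
  · intro h
    have hall : ∀ x ∈ N, x = 1 := fun x hx => FaithfulSMul.eq_of_smul_eq_smul fun w : Ω => by
      obtain ⟨g, rfl⟩ := exists_smul_eq G α w
      have : g⁻¹ * x * g ∈ stabilizer G α :=
        (h ▸ Subgroup.mem_top _ : (⟨g⁻¹ * x * g, by simpa using hN.conj_mem x hx g⁻¹⟩ : N) ∈ (stabilizer G α).subgroupOf N)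
      rw [mem_stabilizer_iff, mul_smul, mul_smul, inv_smul_eq_iff] at this
      rw [one_smul, this]
    obtain ⟨t, ht, ht1⟩ := (Subgroup.bot_or_exists_ne_one T).resolve_left hT
    exact ht1 (hall t (hTN ht))
  intro g hg
  rw [eq_bot_iff]
  rintro x ⟨hx, hx'⟩
  rw [Subgroup.mem_bot]
  by_contra hx1
  obtain ⟨y, hy, hyx⟩ := hx'
  set γ := (g : G) • α with hγ
  have hγα : γ ≠ α := hg
  have hxγ : (x : G) • γ = γ := by
    rw [← hyx]
    show ((g * y * g⁻¹ : N) : G) • γ = γ
    rw [hγ]
    push_cast
    rw [mul_smul, mul_smul, inv_smul_smul, mem_stabilizer_iff.mp (Subgroup.mem_subgroupOf.mp hy)]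
  have hxα : (x : G) • α = α := hx
  -- a power of prime order
  have hox : orderOf (x : G) ≠ 1 := fun e => hx1 (Subtype.ext (orderOf_eq_one_iff.mp e))
  obtain ⟨p, hp, hpd⟩ := Nat.exists_prime_and_dvd hox
  have : Fact p.Prime := ⟨hp⟩
  set y' : N := x ^ (orderOf (x : G) / p) with hy'
  have hyo : orderOf (y' : G) = p := by
    rw [hy', SubmonoidClass.coe_pow, orderOf_pow_orderOf_div (orderOf_pos _).ne' hpd]
  have hy1 : (y' : G) ≠ 1 := fun e => hp.ne_one (by rw [← hyo, e, orderOf_one])
  have hpowfix : ∀ w : Ω, (x : G) • w = w → ∀ j : ℕ, (x : G) ^ j • w = w := fun w hw j => by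
    induction j with
    | zero => simp
    | succ j ih => rw [pow_succ, mul_smul, hw, ih]
  have hyα : (y' : G) • α = α := hpowfix α hxα _
  have hyγ : (y' : G) • γ = γ := hpowfix γ hxγ _
  have hβO : ∀ h : N, (h : G) • α ≠ β := fun h e => hsN (by
    have : (h : G)⁻¹ * s ∈ N := hGN (by rw [mem_stabilizer_iff, mul_smul, hsβ, ← e, inv_smul_smul])
    simpa using N.mul_mem h.2 this)
  have hn : Nat.card Ω = 2 * Nat.card (orbit ↥N α) := by
    rw [Nat.card_coe_set_eq, ← stab_relIndex_eq_orbit, ← hN2, mul_comm,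
      Subgroup.relIndex_mul_index hGN, MulAction.index_stabilizer_of_transitive]
  by_cases hp2 : p = 2
  · subst hp2
    -- conjugate the involution into `T` inside the stabiliser
    have hzp : IsPGroup 2 (Subgroup.zpowers (⟨(y' : G), hyα⟩ : stabilizer G α)) :=
      IsPGroup.of_card (n := 1) (by
        rw [Nat.card_zpowers, pow_one, ← hyo, ← orderOf_injective (stabilizer G α).subtype Subtype.val_injective]
        rfl)
    have hTp : IsPGroup 2 (T.subgroupOf (stabilizer G α)) :=
      (S.2.to_le (inf_le_left : T ≤ (S : Subgroup G))).comap_subtype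
    obtain ⟨Q, hQ⟩ := hzp.exists_le_sylow
    obtain ⟨R, hR⟩ := hTp.exists_le_sylow
    have hRT : (R : Subgroup (stabilizer G α)) = T.subgroupOf (stabilizer G α) := by
      refine (Subgroup.eq_of_le_of_card_ge hR ?_).symm
      have hTc' := Nat.card_congr (Subgroup.subgroupOfEquivOfLe hTle).toEquiv
      obtain ⟨m, hm⟩ : Nat.card T ∣ Nat.card R := hTc' ▸ Subgroup.card_dvd_of_le hR
      obtain ⟨m', hm'⟩ : Nat.card R ∣ Nat.card (stabilizer G α) := Subgroup.card_subgroup_dvd_card _
      obtain ⟨e, he⟩ := R.2.exists_card_eq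
      have hmd : m ∣ 2 ^ e := he ▸ ⟨Nat.card T, by rw [hm]; ring⟩
      obtain ⟨i, -, rfl⟩ := (Nat.dvd_prime_pow Nat.prime_two).mp hmd
      rcases i with _ | i
      · rw [hm, hTc']; simp
      · exact absurd (dvd_mul_of_dvd_left (dvd_pow_self 2 (show i + 1 ≠ 0 by omega)) m')
          (hstab _ (by rw [hm', hm]; ring))
    obtain ⟨h, hh⟩ := exists_smul_eq (stabilizer G α) Q R
    have hmem : (MulAut.conj h) (⟨(y' : G), hyα⟩ : stabilizer G α) ∈ T.subgroupOf (stabilizer G α) := by
      rw [← hRT, ← hh]
      exact Subgroup.smul_mem_pointwise_smul _ _ _ (hQ (Subgroup.mem_zpowers _))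
    have hfix' := hTβ _ hmem
    have hne : ((h : G) * (y' : G) * (h : G)⁻¹) ≠ 1 := fun e => hy1 (by simpa [mul_inv_eq_one] using e)
    have h1 : ((h : G) * y' * (h : G)⁻¹) • α = α := hmem.2
    have h2 : ((h : G) * y' * (h : G)⁻¹) • ((h : G) • γ) = (h : G) • γ := by
      rw [mul_smul, mul_smul, inv_smul_smul, hyγ]
    have h3 : α ≠ (h : G) • γ := fun e => hγα (smul_left_cancel (h : G) (e.symm.trans h.2.symm))
    have := fix_three hfix hne h1 hfix' h2 hαβ h3
    exact hβO (⟨h, hGN h.2⟩ * g) (by
      show ((h : G) * (g : G)) • α = β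
      rw [mul_smul]; exact this.symm)
  · have hodd : p ≠ 2 := hp2
    let f : Function.End ↥(orbit ↥N α) := fun w => y' • w
    have hf : f ^ p ^ 1 = 1 := by
      have hj : ∀ j : ℕ, f ^ j = fun w => y' ^ j • w := fun j => by
        induction j with
        | zero => funext w; simp; rfl
        | succ j ih => rw [pow_succ', ih, pow_succ']; funext w; show y' • (y' ^ j • w) = _; exact (mul_smul _ _ _).symm
      rw [hj, pow_one]
      funext w
      have : y' ^ p = 1 := Subtype.ext (by rw [SubmonoidClass.coe_pow, ← hyo, pow_orderOf_eq_one]; rfl)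
      rw [this, one_smul]; rfl
    have hmod := Equiv.Perm.card_fixedPoints_modEq (p := p) (n := 1) hf
    have hfc : Fintype.card f.fixedPoints = 2 := by
      rw [Fintype.card_eq_nat_card, Nat.card_eq_two_iff]
      refine ⟨⟨⟨α, mem_orbit_self α⟩, Subtype.ext hyα⟩, ⟨⟨γ, mem_orbit α g⟩, Subtype.ext hyγ⟩,
        fun e => hγα (congrArg (fun w => (w : ↥(orbit ↥N α)).1) (congrArg Subtype.val e)).symm, ?_⟩
      ext ⟨⟨w, hw⟩, hwf⟩
      simp only [Set.mem_insert_iff, Set.mem_singleton_iff, Set.mem_univ, iff_true, Subtype.mk.injEq]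
      by_contra hh
      push Not at hh
      exact hh.2 (Subtype.ext (Subtype.ext (fix_three hfix hy1 hyα hyγ (congrArg Subtype.val hwf) (Ne.symm hγα) (fun e => hh.1 (Subtype.ext (Subtype.ext e.symm)))).symm))
    rw [hfc, Fintype.card_eq_nat_card] at hmod
    have hfull : Nat.card Ω ≡ 2 [MOD p] := by
      have h := (IsPGroup.of_card (p := p) (n := 1) (show Nat.card (Subgroup.zpowers (y' : G)) = p ^ 1 by
        rw [Nat.card_zpowers, hyo, pow_one])).card_modEq_card_fixedPoints Ω
      rwa [show Nat.card (fixedPoints (Subgroup.zpowers (y' : G)) Ω) = 2 by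
        rw [Nat.card_eq_two_iff]
        refine ⟨⟨α, ?_⟩, ⟨γ, ?_⟩, fun e => hγα (congrArg Subtype.val e).symm, ?_⟩
        · rintro ⟨z, hz⟩
          obtain ⟨j, rfl⟩ := Subgroup.mem_zpowers_iff.mp hz
          exact Subgroup.zpow_mem (stabilizer G α) hyα j
        · rintro ⟨z, hz⟩
          obtain ⟨j, rfl⟩ := Subgroup.mem_zpowers_iff.mp hz
          exact Subgroup.zpow_mem (stabilizer G γ) hyγ j
        · ext ⟨w, hw⟩
          simp only [Set.mem_insert_iff, Set.mem_singleton_iff, Set.mem_univ, iff_true, Subtype.mk.injEq]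
          by_contra hh
          push Not at hh
          exact hh.2 (Subtype.ext (fix_three hfix hy1 hyα hyγ (hw ⟨_, Subgroup.mem_zpowers _⟩) (Ne.symm hγα) (fun e => hh.1 (Subtype.ext e.symm))).symm)] at h
    rw [hn] at hfull
    have h4' : 2 * 2 ≡ 2 [MOD p] := ((hmod.mul_left 2).symm).trans hfull
    have : p ∣ 2 := by
      have := (Nat.modEq_iff_dvd' (show 2 ≤ 2 * 2 by norm_num)).mp h4'.symm
      simpa using this
    exact hodd ((Nat.prime_dvd_prime_iff_eq hp Nat.prime_two).mp this)

end

/-- Let G be a finite group acting faithfully and transitively on a finite set Ω with fixity 2 (every non-identity element fixes at most two points, and some fixes exactly two). Let α ∈ Ω and S a Sylow 2-subgroup of G. Then one of the following holds: the stabilizer S_α of α in S is trivial; S is dihedral or semidihedral and either |S_α| = 2 or |S : S_α| = 2; |S| ≥ 4, S has exactly one orbit of size 2 on Ω, every other S-orbit is regular, and G has a normal subgroup of index 2 or of index |S| which is a Frobenius group;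 or S ≤ G_α. -/
theorem result {G : Type*} [Group G] [Finite G] {Ω : Type*} [Fintype Ω] [MulAction G Ω] [FaithfulSMul G Ω] (htr : MulAction.IsPretransitive G Ω)
    (hfix : ∀ g : G, g ≠ 1 → Nat.card (MulAction.fixedBy Ω g) ≤ 2) (hex : ∃ g : G, g ≠ 1 ∧ Nat.card (MulAction.fixedBy Ω g) = 2) (α : Ω) (S : Sylow 2 G) :
    (S : Subgroup G) ⊓ MulAction.stabilizer G α = ⊥ ∨
    (((∃ n : ℕ, Nonempty (↥(S : Subgroup G) ≃* DihedralGroup n)) ∨ Cfsg.IsQuasiDihedral ↥(S : Subgroup G)) ∧
       (Nat.card ↥((S : Subgroup G) ⊓ MulAction.stabilizer G α) = 2 ∨ ((S : Subgroup G) ⊓ MulAction.stabilizer G α).relIndex (S : Subgroup G) = 2)) ∨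
    (4 ≤ Nat.card (S : Subgroup G) ∧
       (∃ ω : Ω, Nat.card (MulAction.orbit ↥(S : Subgroup G) ω) = 2 ∧
          ∀ ω' : Ω, ω' ∉ MulAction.orbit ↥(S : Subgroup G) ω → Nat.card (MulAction.orbit ↥(S : Subgroup G) ω') = Nat.card (S : Subgroup G)) ∧
       ∃ N : Subgroup G, N.Normal ∧ (N.index = 2 ∨ N.index = Nat.card (S : Subgroup G)) ∧ (∃ H : Subgroup ↥N, Cfsg.IsFrobeniusComplement H)) ∨
    (S : Subgroup G) ≤ MulAction.stabilizer G α := by
  classical
  have : Fact (Nat.Prime 2) := ⟨Nat.prime_two⟩
  set P := (S : Subgroup G) with hP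
  have hPp : IsPGroup 2 P := S.2
  set T := P ⊓ stabilizer G α with hTdef
  by_cases hT : T = ⊥
  · exact Or.inl hT
  by_cases hPle : P ≤ stabilizer G α
  · exact Or.inr (Or.inr (Or.inr hPle))
  obtain ⟨t₀, ht₀, ht₀1⟩ := (Subgroup.bot_or_exists_ne_one T).resolve_left hT
  obtain ⟨kP, hkP⟩ := hPp.exists_card_eq
  have hTp : IsPGroup 2 T := hPp.to_le inf_le_left
  obtain ⟨kT, hkT⟩ := hTp.exists_card_eq
  have hkT1 : 1 ≤ kT := by
    rcases kT with _ | k
    · exact absurd (Subgroup.eq_bot_of_card_eq T (by simpa using hkT)) hT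
    · omega
  -- an involution in `T`
  obtain ⟨t, ht, ht2⟩ : ∃ t ∈ T, orderOf t = 2 := by
    obtain ⟨t, ht⟩ := exists_prime_orderOf_dvd_card' (G := T) 2 (hkT ▸ dvd_pow_self 2 (by omega))
    exact ⟨t, t.2, by rw [← ht, ← orderOf_injective T.subtype Subtype.val_injective]; rfl⟩
  have ht1 : t ≠ 1 := fun e => by rw [e, orderOf_one] at ht2; omega
  have hPT : T.relIndex P = (orbit ↥P α).ncard := by
    rw [← stab_relIndex_eq_orbit, hTdef, Subgroup.inf_relIndex_left]
  have hprod : Nat.card T * T.relIndex P = Nat.card P := by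
    have h := Subgroup.card_mul_index (T.subgroupOf P)
    rwa [Nat.card_congr (Subgroup.subgroupOfEquivOfLe (inf_le_left : T ≤ P)).toEquiv] at h
  have hr2 : 2 ≤ T.relIndex P := by
    have h0 : T.relIndex P ≠ 0 := Subgroup.index_ne_zero_of_finite
    have h1 : T.relIndex P ≠ 1 := fun e => hPle ((Subgroup.relIndex_eq_one.mp e).trans inf_le_right)
    omega
  rcases Nat.lt_or_ge 2 (T.relIndex P) with hr3 | hr
  · -- more than two points in the orbit: `T` has order two
    obtain ⟨z, hz, hz2⟩ : ∃ z ∈ Subgroup.center P, orderOf z = 2 := by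
      have : Nontrivial P := by
        rw [← Finite.one_lt_card_iff_nontrivial, ← hprod]
        have := Nat.card_pos (α := T); nlinarith
      have := hPp.center_nontrivial
      obtain ⟨k, hk⟩ := (hPp.to_subgroup (Subgroup.center P)).exists_card_eq
      have hk1 : 1 ≤ k := by
        rcases k with _ | k
        · have := Finite.one_lt_card_iff_nontrivial.mpr this; simp_all
        · omega
      obtain ⟨z, hz⟩ := exists_prime_orderOf_dvd_card' (G := Subgroup.center P) 2 (hk ▸ dvd_pow_self 2 (by omega))
      exact ⟨z, z.2, by rw [← hz, ← orderOf_injective (Subgroup.center P).subtype Subtype.val_injective]; rfl⟩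
    have hzc : ∀ p : P, (p : G) * z = z * p := fun p => congrArg Subtype.val (Subgroup.mem_center_iff.mp hz p)
    have hz1 : (z : G) ≠ 1 := fun e => by
      rw [show z = 1 from Subtype.ext e, orderOf_one] at hz2; omega
    set β := (z : G) • α with hβ
    have hβα : α ≠ β := by
      intro e
      have hall : ∀ p : P, (z : G) • ((p : G) • α) = (p : G) • α := fun p => by
        rw [← mul_smul, ← hzc, mul_smul, ← hβ, ← e]
      have hsub : orbit ↥P α ⊆ fixedBy Ω (z : G) := by
        rintro _ ⟨p, rfl⟩; exact hall p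
      have h1 := Set.ncard_le_ncard hsub
      have h2 := hfix _ hz1
      rw [Nat.card_coe_set_eq] at h2
      omega
    have hzβ : (z : G) • β = α := by
      rw [hβ, ← mul_smul]
      have : z ^ 2 = 1 := hz2 ▸ pow_orderOf_eq_one z
      rw [sq] at this
      rw [show (z : G) * (z : G) = 1 from congrArg Subtype.val this, one_smul]
    -- elements moving `α` into `{α, β}` preserve this pair
    have hpair : ∀ c ∈ P, c • α = α ∨ c • α = β → (c • β = α ∨ c • β = β) := by
      intro c hc h
      have e : c • β = (z : G) • (c • α) := by rw [hβ, ← mul_smul, hzc ⟨c, hc⟩, mul_smul]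
      rcases h with h | h <;> rw [e, h]
      · exact Or.inr rfl
      · exact Or.inl hzβ
    have hTβ : ∀ x ∈ T, x • β = β := fun x hx => by
      rw [hβ, ← mul_smul, hzc ⟨x, hx.1⟩, mul_smul, (hx.2 : x • α = α)]
    let C : Subgroup G :=
      { carrier := {c | c ∈ P ∧ (c • α = α ∨ c • α = β)}
        one_mem' := ⟨P.one_mem, Or.inl (one_smul _ _)⟩
        mul_mem' := by
          rintro a b ⟨ha, ha'⟩ ⟨hb, hb'⟩
          refine ⟨P.mul_mem ha hb, ?_⟩
          rcases hb' with h | h <;> rw [mul_smul, h]
          · exact ha'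
          · exact hpair a ha ha'
        inv_mem' := by
          rintro a ⟨ha, ha'⟩
          refine ⟨P.inv_mem ha, ?_⟩
          rcases ha' with h | h
          · exact Or.inl (inv_smul_eq_iff.mpr h.symm)
          · rcases hpair a ha (Or.inr h) with h' | h'
            · exact Or.inr (inv_smul_eq_iff.mpr h'.symm)
            · exact absurd (smul_left_cancel a (h.trans h'.symm)) hβα }
    have hCP : C ≤ P := fun c hc => hc.1
    have hzC : (z : G) ∈ C := ⟨z.2, Or.inr rfl⟩
    have hTC : T ≤ C := fun x hx => ⟨hx.1, Or.inl hx.2⟩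
    have horbC : orbit ↥C α = {α, β} := by
      ext w
      constructor
      · rintro ⟨c, rfl⟩
        exact c.2.2
      · rintro (rfl | rfl)
        · exact mem_orbit_self _
        · exact ⟨⟨z, hzC⟩, rfl⟩
    have hTC' : T = C ⊓ stabilizer G α := le_antisymm (le_inf hTC inf_le_right) (inf_le_inf_right _ hCP)
    have hCcard : Nat.card C = Nat.card T * 2 := by
      have h := Subgroup.card_mul_index (T.subgroupOf C)
      rw [Nat.card_congr (Subgroup.subgroupOfEquivOfLe hTC).toEquiv] at h
      rw [← h]
      congr 1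
      show T.relIndex C = 2
      rw [hTC', Subgroup.inf_relIndex_left, stab_relIndex_eq_orbit, horbC, Set.ncard_pair hβα]
    -- `T` has order two
    have hT2 : Nat.card T = 2 := by
      by_contra hne
      have hT4 : 2 < Nat.card T := by
        have : 2 ≤ 2 ^ kT := le_self_pow₀ (by norm_num) (by omega)
        omega
      have hlt : C.subgroupOf P < ⊤ := lt_top_iff_ne_top.mpr fun e => by
        have hPC : P ≤ C := Subgroup.subgroupOf_eq_top.mp e
        have := Subgroup.card_le_of_le hPC
        rw [hCcard, ← hprod] at this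
        have := Nat.card_pos (α := T)
        nlinarith
      obtain ⟨⟨u, huP⟩, huN, huC⟩ := SetLike.exists_of_lt
        ((Group.normalizerCondition_of_isNilpotent (h := hPp.isNilpotent)) (C.subgroupOf P) hlt)
      rw [Subgroup.mem_subgroupOf] at huC
      have huN' : ∀ c ∈ C, u⁻¹ * c * u ∈ C := fun c hc => by
        have h := Subgroup.mem_normalizer_iff''.mp huN ⟨c, hCP hc⟩
        exact h.mp hc
      have huα : u • α ≠ α ∧ u • α ≠ β := ⟨fun e => huC ⟨huP, Or.inl e⟩, fun e => huC ⟨huP, Or.inr e⟩⟩
      -- `T` permutes the pair `{uα, uβ}`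
      have hmap : ∀ x : T, (x : G) • (u • α) = u • α ∨ (x : G) • (u • α) = u • β := fun x => by
        rcases (huN' x (hTC x.2)).2 with h | h <;> rw [mul_smul, mul_smul, inv_smul_eq_iff] at h
        · exact Or.inl h
        · exact Or.inr h
      let f : T → Bool := fun x => decide ((x : G) • (u • α) = u • α)
      let _ : Fintype T := Fintype.ofFinite _
      obtain ⟨x, y, hxy, hfxy⟩ := Fintype.exists_ne_map_eq_of_card_lt f (by rwa [Fintype.card_bool, ← Nat.card_eq_fintype_card])
      have heq : (x : G) • (u • α) = (y : G) • (u • α) := by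
        rcases hmap x with hx | hx <;> rcases hmap y with hy | hy <;> rw [hx, hy] <;>
          simp only [f, decide_eq_decide] at hfxy
        · exact ((hfxy.mp hx).symm.trans hy)
        · exact hx.symm.trans (hfxy.mpr hy)
      have hne' : (x : G)⁻¹ * y ≠ 1 := fun e => hxy (Subtype.ext (inv_mul_eq_one.mp e))
      have hm := T.mul_mem (T.inv_mem x.2) y.2
      exact huα.2 (fix_three hfix hne' hm.2 (hTβ _ hm)
        (by rw [mul_smul, inv_smul_eq_iff, heq]) hβα (Ne.symm huα.1)).symm
    refine Or.inr (Or.inl ⟨?_, Or.inl hT2⟩)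
    refine dihedral_or_semidihedral hPp (a := ⟨t, ht.1⟩) (b := z)
      (by rw [← ht2, ← orderOf_injective P.subtype Subtype.val_injective]; rfl) hz2
      (fun e => hβα (by rw [hβ, ← show t = (z : G) from congrArg Subtype.val e]; exact (ht.2).symm)) ?_
    have hC4 : Nat.card C = 4 := by rw [hCcard, hT2]
    have hfixt : ∀ w : Ω, t • w = w → w = α ∨ w = β := fun w hw => by
      by_contra h
      push Not at h
      exact h.2 (fix_three hfix ht1 ht.2 (hTβ t ht) hw hβα (Ne.symm h.1)).symm
    have hCc : IsMulCommutative C :=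
      ⟨⟨IsPGroup.commutative_of_card_eq_prime_sq (p := 2) (by rw [hC4]; norm_num)⟩⟩
    rw [show Subgroup.centralizer ({(⟨t, ht.1⟩ : P)} : Set P) = C.subgroupOf P from ?_,
      Nat.card_congr (Subgroup.subgroupOfEquivOfLe hCP).toEquiv, hC4]
    ext c
    rw [Subgroup.mem_centralizer_singleton_iff, Subgroup.mem_subgroupOf]
    constructor
    · intro h
      have h' : (c : G) * t = t * c := congrArg Subtype.val h
      exact ⟨c.2, hfixt _ (by rw [← mul_smul, ← h', mul_smul, (ht.2 : t • α = α)])⟩
    · intro h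
      exact Subtype.ext (show (c : G) * t = t * c from congrArg Subtype.val (hCc.1.1 ⟨_, h⟩ ⟨t, hTC ht⟩))
  -- the orbit of `α` has exactly two points
  have hr' : T.relIndex P = 2 := le_antisymm hr hr2
  rw [hr'] at hprod hPT
  have hP4 : 4 ≤ Nat.card P := by
    have : 2 ≤ 2 ^ kT := le_self_pow₀ (by norm_num) (by omega)
    omega
  obtain ⟨β, hαβ, horb⟩ : ∃ β, α ≠ β ∧ orbit ↥P α = {α, β} := by
    obtain ⟨x, y, hxy, he⟩ := Set.ncard_eq_two.mp hPT.symm
    rcases (he ▸ mem_orbit_self α : α ∈ ({x, y} : Set Ω)) with h | h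
    · subst h; exact ⟨y, hxy, he⟩
    · rw [Set.mem_singleton_iff] at h
      subst h; exact ⟨x, hxy.symm, by rw [he, Set.pair_comm]⟩
  have hPpair : ∀ p ∈ P, (p • α = α ∨ p • α = β) ∧ (p • β = α ∨ p • β = β) := fun p hp => by
    have h1 : p • α ∈ orbit ↥P α := ⟨⟨p, hp⟩, rfl⟩
    obtain ⟨q, hq⟩ : β ∈ orbit ↥P α := horb ▸ Or.inr rfl
    have h2 : p • β ∈ orbit ↥P α := ⟨⟨p, hp⟩ * q, by rw [← hq]; exact mul_smul _ _ _⟩
    rw [horb] at h1 h2
    exact ⟨h1, h2⟩
  have hTβ : ∀ x ∈ T, x • β = β := fun x hx =>
    (hPpair x hx.1).2.resolve_left fun e => hαβ (smul_left_cancel x ((hx.2 : x • α = α).trans e.symm))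
  have hout : ∀ p ∈ P, p ∉ T → p • α = β ∧ p • β = α := fun p hp hpT => by
    have h1 := (hPpair p hp).1.resolve_left fun e => hpT ⟨hp, e⟩
    exact ⟨h1, (hPpair p hp).2.resolve_right fun e => hαβ (smul_left_cancel p (h1.trans e.symm))⟩
  by_cases hinv : ∃ s ∈ P, s ∉ T ∧ ∃ ω : Ω, s • ω = ω
  · obtain ⟨s, hs, hsT, ω, hω⟩ := hinv
    refine Or.inr (Or.inl ⟨?_, Or.inr hr'⟩)
    obtain ⟨hsα, hsβ⟩ := hout s hs hsT
    have hωα : ω ≠ α := fun e => hαβ (by subst e; exact hω.symm.trans hsα)
    have hωβ : ω ≠ β := fun e => hαβ (by subst e; exact hsβ.symm.trans hω)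
    have hTfix : ∀ x ∈ T, x • ω = ω → x = 1 := fun x hx h => by
      by_contra h1
      exact hωβ (fix_three hfix h1 hx.2 (hTβ x hx) h hαβ hωα.symm).symm
    have hs1 : s ≠ 1 := fun e => hsT (e ▸ T.one_mem)
    have hs2 : s * s = 1 := hTfix _ ⟨P.mul_mem hs hs, by
      show (s * s) • α = α
      rw [mul_smul, hsα, hsβ]⟩ (by rw [mul_smul, hω, hω])
    have hso : orderOf (⟨s, hs⟩ : P) = 2 :=
      orderOf_eq_prime (Subtype.ext (by simpa [sq] using hs2)) fun e => hs1 (congrArg Subtype.val e)
    refine dihedral_or_semidihedral hPp (a := ⟨s, hs⟩) (b := ⟨t, ht.1⟩) hso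
      (by rw [← ht2, ← orderOf_injective P.subtype Subtype.val_injective]; rfl)
      (fun e => hsT (by rw [show s = t from congrArg Subtype.val e]; exact ht)) ?_
    set Cs := Subgroup.centralizer ({(⟨s, hs⟩ : P)} : Set P) with hCs
    obtain ⟨ω', hω'⟩ : ∃ ω', ∀ w : Ω, s • w = w → w = ω ∨ w = ω' := by
      by_contra hcon
      push Not at hcon
      obtain ⟨a, ha, haω, -⟩ := hcon ω
      obtain ⟨b, hb, hbω, hba⟩ := hcon a
      exact hba (fix_three hfix hs1 hω ha hb haω.symm hbω.symm).symm
    -- the centraliser injects into `Bool × Bool`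
    let F : Cs → Bool × Bool := fun c => (decide (((c : P) : G) • α = α), decide (((c : P) : G) • ω = ω))
    have hcs : ∀ c : Cs, s * ((c : P) : G) = ((c : P) : G) * s := fun c =>
      congrArg Subtype.val (Subgroup.mem_centralizer_singleton_iff.mp c.2).symm
    have himg : ∀ c : Cs, ((c : P) : G) • ω = ω ∨ ((c : P) : G) • ω = ω' := fun c =>
      hω' _ (by rw [← mul_smul, hcs, mul_smul, hω])
    have hF : Function.Injective F := by
      intro c d h
      simp only [F, Prod.mk.injEq, decide_eq_decide] at h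
      have h1 : ((c : P) : G) • α = ((d : P) : G) • α := by
        rcases (hPpair _ (c : P).2).1 with hc | hc <;> rcases (hPpair _ (d : P).2).1 with hd | hd <;> rw [hc, hd]
        · rw [hc, hd] at h; exact (h.1.mp rfl).symm
        · rw [hc, hd] at h; exact h.1.mpr rfl
      have h2 : ((c : P) : G) • ω = ((d : P) : G) • ω := by
        rcases himg c with hc | hc <;> rcases himg d with hd | hd <;> rw [hc, hd]
        · rw [hc, hd] at h; exact (h.2.mp rfl).symm
        · rw [hc, hd] at h; exact h.2.mpr rfl
      have hm : ((c : P) : G)⁻¹ * ((d : P) : G) = 1 := hTfix _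
        ⟨P.mul_mem (P.inv_mem (c : P).2) (d : P).2, by
          show (((c : P) : G)⁻¹ * ((d : P) : G)) • α = α
          rw [mul_smul, ← h1, inv_smul_smul]⟩ (by rw [mul_smul, ← h2, inv_smul_smul])
      exact Subtype.ext (Subtype.ext (inv_mul_eq_one.mp hm))
    have hle4 : Nat.card Cs ≤ 4 := by simpa using Nat.card_le_card_of_injective F hF
    obtain ⟨e, he⟩ := (hPp.to_subgroup Cs).exists_card_eq
    have hsC : (⟨s, hs⟩ : P) ∈ Cs := Subgroup.mem_centralizer_singleton_iff.mpr rfl
    have hz : Subgroup.zpowers (⟨s, hs⟩ : P) ≤ Cs := Subgroup.zpowers_le.mpr hsC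
    have h2le : 2 ≤ Nat.card Cs := by
      have := Subgroup.card_le_of_le hz
      rwa [Nat.card_zpowers, hso] at this
    rcases Nat.lt_or_ge 2 (Nat.card Cs) with h | h
    · rw [he] at h hle4 ⊢
      have : e < 3 := by
        by_contra h3
        have : 2 ^ 3 ≤ 2 ^ e := Nat.pow_le_pow_right (by norm_num) (by omega)
        omega
      interval_cases e <;> omega
    · exfalso
      have heq := Subgroup.eq_of_le_of_card_ge hz (by rw [Nat.card_zpowers, hso]; exact h)
      have hcen : Subgroup.center P ≤ Subgroup.zpowers (⟨s, hs⟩ : P) :=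
        heq ▸ Subgroup.center_le_centralizer _
      have : Nontrivial P := by rw [← Finite.one_lt_card_iff_nontrivial]; omega
      have := hPp.center_nontrivial
      obtain ⟨w, hw, hw1⟩ := (Subgroup.bot_or_exists_ne_one (Subgroup.center P)).resolve_left
        ((Subgroup.nontrivial_iff_ne_bot _).mp this)
      obtain ⟨j, hj⟩ := Subgroup.mem_zpowers_iff.mp (hcen hw)
      have hsc : (⟨s, hs⟩ : P) ∈ Subgroup.center P := by
        rcases Int.even_or_odd' j with ⟨i, rfl | rfl⟩
        · rw [zpow_mul, show (⟨s, hs⟩ : P) ^ (2 : ℤ) = 1 by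
            rw [show (2 : ℤ) = ((2 : ℕ) : ℤ) from rfl, zpow_natCast, ← hso, pow_orderOf_eq_one], one_zpow] at hj
          exact absurd hj.symm hw1
        · rw [zpow_add, zpow_mul, show (⟨s, hs⟩ : P) ^ (2 : ℤ) = 1 by
            rw [show (2 : ℤ) = ((2 : ℕ) : ℤ) from rfl, zpow_natCast, ← hso, pow_orderOf_eq_one], one_zpow,
            one_mul, zpow_one] at hj
          exact hj ▸ hw
      have htop : Cs = ⊤ := eq_top_iff.mpr fun c _ =>
        Subgroup.mem_centralizer_singleton_iff.mpr (Subgroup.mem_center_iff.mp hsc c)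
      rw [htop, Subgroup.card_top] at h
      omega
  push Not at hinv
  refine Or.inr (Or.inr (Or.inl ⟨hP4, ⟨α, by rw [Nat.card_coe_set_eq, ← hPT], ?_⟩, ?_⟩))
  · intro ω' hω'
    rw [horb, Set.mem_insert_iff, Set.mem_singleton_iff, not_or] at hω'
    rw [Nat.card_coe_set_eq, ← MulAction.index_stabilizer,
      show stabilizer (↥P) ω' = ⊥ from ?_, Subgroup.index_bot]
    rw [eq_bot_iff]
    intro p hp
    by_contra h1
    by_cases hpT : (p : G) ∈ T
    · exact hω'.2 (fix_three hfix (fun e => h1 (Subgroup.mem_bot.mpr (Subtype.ext e))) hpT.2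
        (hTβ _ hpT) hp hαβ (Ne.symm hω'.1)).symm
    · exact hinv p p.2 hpT ω' hp
  -- a normal subgroup of index two
  have hregular : Nat.card P ∣ Nat.card {w : Ω // w ≠ α ∧ w ≠ β} := by
    let X : SubMulAction P Ω :=
      { carrier := {w | w ≠ α ∧ w ≠ β}
        smul_mem' := fun p w hw => by
          constructor <;> intro e
          · have h := (hPpair _ (P.inv_mem p.2))
            have e' : w = ((p : G))⁻¹ • α := by rw [← e]; exact (inv_smul_smul (p : G) w).symm
            exact h.1.elim (fun h' => hw.1 (e'.trans h')) (fun h' => hw.2 (e'.trans h'))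
          · have h := (hPpair _ (P.inv_mem p.2))
            have e' : w = ((p : G))⁻¹ • β := by rw [← e]; exact (inv_smul_smul (p : G) w).symm
            exact h.2.elim (fun h' => hw.1 (e'.trans h')) (fun h' => hw.2 (e'.trans h')) }
    have hst : ∀ b : X, stabilizer (↥P) b = ⊥ := fun b => by
      rw [eq_bot_iff]
      intro p hp
      by_contra h1
      have hpb : (p : G) • (b : Ω) = (b : Ω) := congrArg Subtype.val hp
      by_cases hpT : (p : G) ∈ T
      · exact b.2.2 (fix_three hfix (fun e => h1 (Subgroup.mem_bot.mpr (Subtype.ext e))) hpT.2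
          (hTβ _ hpT) hpb hαβ (Ne.symm b.2.1)).symm
      · exact hinv p p.2 hpT _ hpb
    have := Nat.card_congr (MulAction.selfEquivOrbitsQuotientProd (G := ↥P) (X := X) hst)
    rw [Nat.card_prod] at this
    exact Dvd.intro_left _ this.symm
  obtain ⟨N, hN, hN2, hTN, s, hs, hsN⟩ :
      ∃ N : Subgroup G, N.Normal ∧ N.index = 2 ∧ T ≤ N ∧ ∃ s ∈ P, s ∉ N := by
    by_cases hcyc : IsCyclic P
    · have hmin : (Nat.card G).minFac = 2 := (Nat.minFac_eq_two_iff _).mpr
        ((show 2 ∣ Nat.card P by rw [← hprod]; exact dvd_mul_left 2 _).trans (Subgroup.card_subgroup_dvd_card P))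
      have hcomp := IsCyclic.isComplement' (P := S) hmin hcyc
      have hres := MonoidHom.transferSylow_domRestrict_eq_pow S (hcyc.normalizer_le_centralizer hmin)
      set f := MonoidHom.transferSylow S (hcyc.normalizer_le_centralizer hmin) with hf
      have hsurj : Function.Surjective f := by
        intro y
        obtain ⟨x, hx⟩ := (S.2.powEquiv' S.not_dvd_index).surjective y
        exact ⟨x, (congrFun hres x).trans hx⟩
      have : (T.subgroupOf P).Normal := Subgroup.normal_of_index_eq_two hr'
      refine ⟨(T.subgroupOf P).comap f, inferInstance, ?_, ?_, ?_⟩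
      · rw [Subgroup.index_comap_of_surjective _ hsurj]; exact hr'
      · intro x hx
        rw [Subgroup.mem_comap, show f x = (⟨x, hx.1⟩ : P) ^ P.index from congrFun hres ⟨x, hx.1⟩]
        exact Subgroup.pow_mem _ hx _
      · by_contra h
        push Not at h
        have : T.subgroupOf P = ⊤ := eq_top_iff.mpr fun y _ => by
          obtain ⟨x, hx⟩ := (S.2.powEquiv' S.not_dvd_index).surjective y
          rw [← hx]
          have := h x x.2
          rwa [Subgroup.mem_comap, show f x = (S.2.powEquiv' S.not_dvd_index) x from congrFun hres x] at this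
        have h1 : T.relIndex P = 1 := by rw [Subgroup.relIndex, this, Subgroup.index_top]
        omega
    · -- the sign of the permutation representation
      let sgn : G →* ℤˣ := Equiv.Perm.sign.comp (MulAction.toPermHom G Ω)
      set M := Finset.univ.filter (fun w : Ω => w ≠ α ∧ w ≠ β) with hM
      have hMc : Nat.card P ∣ M.card := by
        rwa [Nat.card_eq_fintype_card (α := {w : Ω // w ≠ α ∧ w ≠ β}), Fintype.card_subtype] at hregular
      have horder : ∀ p : P, 2 * orderOf p ∣ Nat.card P := fun p => by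
        obtain ⟨j, -, hj⟩ := (Nat.dvd_prime_pow Nat.prime_two).mp (hkP ▸ orderOf_dvd_natCard p)
        have : j < kP := by
          by_contra h
          push Not at h
          exact hcyc (isCyclic_of_orderOf_eq_card p (le_antisymm (Nat.le_of_dvd Nat.card_pos (orderOf_dvd_natCard p))
            (by rw [hkP, hj]; exact Nat.pow_le_pow_right (by norm_num) h)))
        rw [hkP, hj, ← pow_succ']
        exact pow_dvd_pow 2 this
      -- a permutation acting freely outside `{α, β}` and fixing both
      have hfree : ∀ p ∈ P, ∀ w, w ≠ α → w ≠ β → ∀ j : ℕ, p ^ j • w = w → orderOf p ∣ j := by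
        intro p hp w hwa hwb j hj
        apply orderOf_dvd_of_pow_eq_one
        by_contra h1
        by_cases hpT : p ^ j ∈ T
        · exact hwb (fix_three hfix h1 hpT.2 (hTβ _ hpT) hj hαβ (Ne.symm hwa)).symm
        · exact hinv _ (P.pow_mem hp j) hpT w hj
      have hmoved : ∀ p ∈ P, p ≠ 1 → ∀ w, w ≠ α → w ≠ β → p • w ≠ w := by
        intro p hp h1 w hwa hwb e
        have := hfree p hp w hwa hwb 1 (by simpa using e)
        exact h1 (orderOf_eq_one_iff.mp (Nat.dvd_one.mp this))
      have hsgnT : T ≤ sgn.ker := by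
        intro x hx
        rw [MonoidHom.mem_ker]
        rcases eq_or_ne x 1 with rfl | hx1
        · exact map_one _
        show Equiv.Perm.sign (MulAction.toPermHom G Ω x) = 1
        have hfx : ∀ w, w = α ∨ w = β → x • w = w := by
          rintro w (rfl | rfl)
          · exact hx.2
          · exact hTβ x hx
        refine sign_eq_one_of_uniform _ (o := orderOf x)
          (by rw [← map_pow, pow_orderOf_eq_one, map_one]) (fun y hy j hj => ?_) ?_
        · rw [← map_pow] at hj
          exact hfree x hx.1 y (fun e => hy (hfx y (Or.inl e))) (fun e => hy (hfx y (Or.inr e))) j hj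
        · have e : (MulAction.toPermHom G Ω x).support = M := by
            ext w
            simp only [M, Equiv.Perm.mem_support, MulAction.toPermHom_apply, MulAction.toPerm_apply, Finset.mem_filter,
              Finset.mem_univ, true_and]
            exact ⟨fun h => ⟨fun e => h (hfx w (Or.inl e)), fun e => h (hfx w (Or.inr e))⟩,
              fun h => hmoved x hx.1 hx1 w h.1 h.2⟩
          rw [e]
          refine dvd_trans ?_ hMc
          have := horder ⟨x, hx.1⟩
          rwa [← orderOf_injective P.subtype Subtype.val_injective] at this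
      obtain ⟨s, hs, hsT⟩ := SetLike.not_le_iff_exists.mp (fun h : P ≤ T => hPle (h.trans inf_le_right))
      obtain ⟨hsα, hsβ⟩ := hout s hs hsT
      have hsodd : sgn s = -1 := by
        set σ := MulAction.toPermHom G Ω s with hσ
        set ρ := Equiv.swap α β * σ with hρ
        have hρw : ∀ w, w ≠ α → w ≠ β → ρ w = s • w := by
          intro w hwa hwb
          rw [hρ, Equiv.Perm.mul_apply, hσ, MulAction.toPermHom_apply, MulAction.toPerm_apply]
          refine Equiv.swap_apply_of_ne_of_ne (fun e => hwb ?_) (fun e => hwa ?_)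
          · exact smul_left_cancel s (e.trans hsβ.symm)
          · exact smul_left_cancel s (e.trans hsα.symm)
        have hρfix : ∀ w, w = α ∨ w = β → ρ w = w := by
          rintro w (rfl | rfl) <;>
            rw [hρ, Equiv.Perm.mul_apply, hσ, MulAction.toPermHom_apply, MulAction.toPerm_apply]
          · rw [hsα]; exact Equiv.swap_apply_right _ _
          · rw [hsβ]; exact Equiv.swap_apply_left _ _
        have hρj : ∀ (j : ℕ) w, w ≠ α → w ≠ β → (ρ ^ j) w = s ^ j • w ∧ (s ^ j • w ≠ α ∧ s ^ j • w ≠ β) := by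
          intro j
          induction j with
          | zero => intro w ha hb; simp [ha, hb]
          | succ j ih =>
            intro w ha hb
            obtain ⟨h1, h2, h3⟩ := ih w ha hb
            rw [pow_succ' ρ, Equiv.Perm.mul_apply, h1, hρw _ h2 h3, pow_succ' s, mul_smul]
            refine ⟨rfl, fun e => h3 ?_, fun e => h2 ?_⟩
            · exact smul_left_cancel s (e.trans hsβ.symm)
            · exact smul_left_cancel s (e.trans hsα.symm)
        have hs1 : s ≠ 1 := fun e => hsT (e ▸ T.one_mem)
        have hρ1 : Equiv.Perm.sign ρ = 1 := by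
          refine sign_eq_one_of_uniform _ (o := orderOf s) ?_ (fun y hy j hj => ?_) ?_
          · refine Equiv.ext fun w => ?_
            by_cases h : w = α ∨ w = β
            · rw [Equiv.Perm.pow_apply_eq_self_of_apply_eq_self (hρfix w h)]; rfl
            · rw [not_or] at h
              rw [(hρj _ w h.1 h.2).1, pow_orderOf_eq_one, one_smul]; rfl
          · have ha : y ≠ α := fun e => hy (hρfix y (Or.inl e))
            have hb : y ≠ β := fun e => hy (hρfix y (Or.inr e))
            exact hfree s hs y ha hb j ((hρj j y ha hb).1.symm.trans hj)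
          · have e : ρ.support = M := by
              ext w
              simp only [M, Equiv.Perm.mem_support, Finset.mem_filter, Finset.mem_univ, true_and]
              refine ⟨fun h => ⟨fun e => h (hρfix w (Or.inl e)), fun e => h (hρfix w (Or.inr e))⟩,
                fun h => ?_⟩
              rw [hρw w h.1 h.2]
              exact hmoved s hs hs1 w h.1 h.2
            rw [e]
            refine dvd_trans ?_ hMc
            have := horder ⟨s, hs⟩
            rwa [← orderOf_injective P.subtype Subtype.val_injective] at this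
        have : σ = Equiv.swap α β * ρ := by rw [hρ, ← mul_assoc, Equiv.swap_mul_self, one_mul]
        show Equiv.Perm.sign σ = -1
        rw [this, map_mul, hρ1, mul_one, Equiv.Perm.sign_swap hαβ]
      refine ⟨sgn.ker, inferInstance, ?_, hsgnT, s, hs, fun h => ?_⟩
      · have hsurj : Function.Surjective sgn := fun u => by
          rcases Int.units_eq_one_or u with rfl | rfl
          · exact ⟨1, map_one _⟩
          · exact ⟨s, hsodd⟩
        rw [Subgroup.index_ker, MonoidHom.range_eq_top.mpr hsurj, Subgroup.card_top, Nat.card_eq_fintype_card]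
        decide
      · rw [MonoidHom.mem_ker, hsodd] at h
        exact absurd h (by decide)
  exact ⟨N, hN, Or.inl hN2, frobenius_index_two hfix S N hN hN2 hTN hT hP4 hr' hαβ hTβ hs hsN
    (hout s hs fun h => hsN (hTN h)).1⟩

end Cfsg.Agent.S3390
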