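import Cfsg.Statements.S3391
import Cfsg.Agent.Lib.KnownB.SzFixity
import Cfsg.Agent.Lib.Suzuki.Model

-- import your own Cfsg.Agent.* helpers here

set_option autoImplicit false
open Cfsg

namespace Cfsg.Agent.S3391

/-- Let q = 2^{2m+1} ≥ 8 and let G be isomorphic to the Suzuki group Sz(q). If G acts faithfully and transitively on a finite set Ω with fixity 2 (every non-identity element fixes at most two points, and some fixes exactly two), then either |Ω| = q² + 1 and the action is 2-transitive, or |Ω| = q²(q² + 1) and the point stabilizers have order q − 1. -/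
theorem result {G : Type*} [Group G] [Finite G] (F : Type) [Field F] [Fintype F] (m : ℕ) (hm : 1 ≤ m) (hF : Fintype.card F = 2 ^ (2 * m + 1))
    (e : G ≃* ↥(Cfsg.Lie.Sz F (2 ^ (m + 1)))) {Ω : Type*} [Fintype Ω] [MulAction G Ω] [FaithfulSMul G Ω] (htr : MulAction.IsPretransitive G Ω)
    (hfix : ∀ g : G, g ≠ 1 → Nat.card (MulAction.fixedBy Ω g) ≤ 2) (hex : ∃ g : G, g ≠ 1 ∧ Nat.card (MulAction.fixedBy Ω g) = 2) :
    (Fintype.card Ω = Fintype.card F ^ 2 + 1 ∧ MulAction.IsMultiplyPretransitive G Ω 2) ∨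
    (Fintype.card Ω = Fintype.card F ^ 2 * (Fintype.card F ^ 2 + 1) ∧ ∀ α : Ω, Nat.card (MulAction.stabilizer G α) = Fintype.card F - 1) := by
  classical
  have : CharP F 2 := charP_of_card_eq_prime_pow hF
  let φ : Cfsg.Sz F m ≃* G := (CfsgLib.Suzuki.szEquiv hm hF).trans e.symm
  letI : MulAction (Cfsg.Sz F m) Ω := MulAction.compHom Ω φ.toMonoidHom
  have hsm : ∀ (g : Cfsg.Sz F m) (a : Ω), g • a = φ g • a := fun _ _ => rfl
  have : MulAction.IsPretransitive (Cfsg.Sz F m) Ω := ⟨fun a b => by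
    obtain ⟨g, hg⟩ := htr.exists_smul_eq a b
    exact ⟨φ.symm g, by rw [hsm, φ.apply_symm_apply, hg]⟩⟩
  have hfb : ∀ g : Cfsg.Sz F m, MulAction.fixedBy Ω g = MulAction.fixedBy Ω (φ g) := fun g => rfl
  have hstab : ∀ a : Ω, Nat.card (MulAction.stabilizer (Cfsg.Sz F m) a) =
      Nat.card (MulAction.stabilizer G a) := fun a =>
    Nat.card_congr (φ.toEquiv.subtypeEquiv fun g => by
      rw [MulAction.mem_stabilizer_iff, MulAction.mem_stabilizer_iff, hsm]; rfl)
  rcases CfsgLib.KnownB.SzFix.dichotomy hm hF (Ω := Ω)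
    (fun g hg => by rw [hfb]; exact hfix _ (fun h => hg (φ.injective (h.trans (map_one φ).symm))))
    (by
      obtain ⟨g, hg, h2⟩ := hex
      exact ⟨φ.symm g, fun h => hg (φ.symm.injective (h.trans (map_one φ.symm).symm)),
        by rw [hfb, φ.apply_symm_apply]; exact h2⟩) with ⟨h1, h2⟩ | ⟨h1, h2⟩
  · left
    refine ⟨h1, ?_⟩
    rw [MulAction.is_two_pretransitive_iff] at h2 ⊢
    intro a b c d hab hcd
    obtain ⟨g, hga, hgb⟩ := h2 hab hcd
    exact ⟨φ g, hga, hgb⟩
  · exact Or.inr ⟨h1, fun a => (hstab a).symm.trans (h2 a)⟩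

end Cfsg.Agent.S3391
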