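import Cfsg.Statements.S3399
import Cfsg.Agent.Lib.Perm.ProFix.Main

set_option autoImplicit false
open Cfsg

namespace Cfsg.Agent.S3399

/-- Let G be a transitive permutation group of finite degree n and K a nontrivial subgroup of G that is pronormal in G (K and gKg⁻¹ are conjugate inside ⟨K, gKg⁻¹⟩ for every g ∈ G). If K fixes exactly f points, then f ≤ (n − 1)/2, that is, 2f + 1 ≤ n. -/
theorem result (n : ℕ) (G : Subgroup (Equiv.Perm (Fin n)))
    (htrans : ∀ a b : Fin n, ∃ g ∈ G, g a = b)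
    (K : Subgroup (Equiv.Perm (Fin n))) (hKG : K ≤ G) (hK : K ≠ ⊥)
    (hpro : ∀ g ∈ G, ∃ w ∈ K ⊔ K.map (MulAut.conj g).toMonoidHom,
      K.map (MulAut.conj w).toMonoidHom = K.map (MulAut.conj g).toMonoidHom) :
    2 * Nat.card {a : Fin n // ∀ k ∈ K, k a = a} + 1 ≤ n := by
  classical
  have hproG : CfsgLib.ProFix.IsPro (K.subgroupOf G) := by
    intro h
    obtain ⟨w, hw, e⟩ := hpro h h.2
    have hcj : ∀ g : G, (CfsgLib.ProFix.cj g (K.subgroupOf G)).map G.subtype =
        K.map (MulAut.conj (g : Equiv.Perm (Fin n))).toMonoidHom := by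
      intro g
      ext x
      constructor
      · rintro ⟨y, hy, rfl⟩
        rw [SetLike.mem_coe, CfsgLib.ProFix.mem_cj, Subgroup.mem_subgroupOf] at hy
        exact CfsgLib.ProFix.mem_cj.2 (by simpa using hy)
      · intro hx
        have hx' := CfsgLib.ProFix.mem_cj.1 hx
        have hxG : x ∈ G := by
          have := mul_mem (mul_mem g.2 (hKG hx')) (inv_mem g.2)
          simpa [mul_assoc] using this
        exact ⟨⟨x, hxG⟩, CfsgLib.ProFix.mem_cj.2
          (by rw [Subgroup.mem_subgroupOf]; simpa using hx'), rfl⟩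
    have hle : (K.subgroupOf G ⊔ CfsgLib.ProFix.cj h (K.subgroupOf G)).map G.subtype =
        K ⊔ K.map (MulAut.conj (h : Equiv.Perm (Fin n))).toMonoidHom := by
      rw [Subgroup.map_sup, Subgroup.map_subgroupOf_eq_of_le hKG, hcj]
    rw [← hle] at hw
    obtain ⟨v, hv, rfl⟩ := hw
    refine ⟨v, hv, Subgroup.map_injective G.subtype_injective ?_⟩
    rw [hcj, hcj]
    exact e
  have htr : MulAction.IsPretransitive G (Fin n) := ⟨fun a b => by
    obtain ⟨g, hg, e⟩ := htrans a b
    exact ⟨⟨g, hg⟩, e⟩⟩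
  have hmov : ∃ a : Fin n, ¬ CfsgLib.ProFix.Fixes (K.subgroupOf G) a := by
    by_contra h
    push Not at h
    refine hK (K.eq_bot_iff_forall.2 fun k hk => Equiv.ext fun a => ?_)
    exact h a ⟨k, hKG hk⟩ (Subgroup.mem_subgroupOf.2 hk)
  have h := CfsgLib.ProFix.fixed_lt_half hproG hmov
  rw [Fintype.card_fin] at h
  have hc : Nat.card {a : Fin n // ∀ k ∈ K, k a = a} =
      (CfsgLib.ProFix.fixSet (Ω := Fin n) (K.subgroupOf G)).card := by
    rw [Nat.card_eq_fintype_card]
    refine Fintype.card_of_subtype _ fun a => ?_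
    rw [CfsgLib.ProFix.mem_fixSet]
    exact ⟨fun h k hk => h ⟨k, hKG hk⟩ (Subgroup.mem_subgroupOf.2 hk),
      fun h k hk => h k (Subgroup.mem_subgroupOf.1 hk)⟩
  omega

end Cfsg.Agent.S3399
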