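import Cfsg.Statements.S3401
import Cfsg.Agent.Lib.Recog.TwoTransSocle
import Cfsg.Agent.Lib.Solvable.MinNormal
import Mathlib.GroupTheory.Perm.Cycle.Type
import Mathlib.GroupTheory.GroupAction.SubMulAction
import Mathlib.Tactic.Ring
import Mathlib.Tactic.Group

set_option autoImplicit false
open Cfsg MulAction
open scoped Pointwise

namespace Cfsg.Agent.S3401

/-- Let G be a doubly transitive permutation group on a finite set Ω with |Ω| ≡ 2 mod 4 and |Ω| > 2. Then G has a unique minimal normal subgroup M (a nontrivial normal subgroup contained in every nontrivial normal subgroup); M is simple and doubly transitive on Ω, and its centralizer in G is trivial (so G embeds in Aut(M)). -/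
theorem result {G : Type*} [Group G] [Finite G] {Ω : Type*} [Fintype Ω] [MulAction G Ω] [FaithfulSMul G Ω]
    (h2 : MulAction.IsMultiplyPretransitive G Ω 2) (hn : Fintype.card Ω % 4 = 2) (hn2 : 2 < Fintype.card Ω) :
    ∃ M : Subgroup G, M.Normal ∧ M ≠ ⊥ ∧ (∀ N : Subgroup G, N.Normal → N ≠ ⊥ → M ≤ N) ∧
      IsSimpleGroup ↥M ∧ MulAction.IsMultiplyPretransitive ↥M Ω 2 ∧ Subgroup.centralizer (M : Set G) = ⊥ := by
  classical
  have : Nontrivial Ω := Fintype.one_lt_card_iff_nontrivial.mp (by omega)
  obtain ⟨a⟩ := (inferInstance : Nonempty Ω)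
  have hprim : IsPreprimitive G Ω := isPreprimitive_of_is_two_pretransitive h2
  have : Nontrivial G := by
    obtain ⟨g, hg⟩ := CfsgLib.Recog.exists_derangement G Ω
    exact ⟨g, 1, fun e => hg a (by rw [e, one_smul])⟩
  obtain ⟨N, hN, hne, hmin⟩ := CfsgLib.Solvable.exists_minimal_normal (G := G)
  have htN := CfsgLib.Perm.normal_isPretransitive (α := Ω) hne
  have hab : ¬ IsMulCommutative N := by
    intro hab
    obtain ⟨⟨r, hr, -, hpow⟩, -, hs⟩ := CfsgLib.Recog.abelian_minimal_normal (Ω := Ω) hne hmin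
    have : Fact r.Prime := ⟨hr⟩
    have hp : IsPGroup r N := fun x => ⟨1, by rw [pow_one]; exact Subtype.ext (hpow x x.2)⟩
    obtain ⟨m, hm⟩ := IsPGroup.iff_card.mp hp
    have hcard := CfsgLib.Perm.natCard_eq_of_regular (hs a)
    rw [hm, Nat.card_eq_fintype_card] at hcard
    rcases hr.eq_two_or_odd with rfl | hodd
    · rcases Nat.lt_or_ge m 2 with hlt | hge
      · have : (2:ℕ) ^ m ≤ 2 ^ 1 := Nat.pow_le_pow_right (by norm_num) (by omega)
        omega
      · obtain ⟨k, rfl⟩ := Nat.exists_eq_add_of_le hge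
        rw [pow_add] at hcard
        omega
    · have hod : r ^ m % 2 = 1 := by simp [Nat.pow_mod, hodd]
      omega
  obtain ⟨hsimple, hC⟩ := CfsgLib.Recog.simple_of_two_transitive (Ω := Ω) h2 hN hne hmin hab
  refine ⟨N, hN, hne, fun K hK hK1 => ?_, hsimple, ?_, hC⟩
  · rcases hmin (N ⊓ K) inferInstance inf_le_left with h | h
    · exfalso
      apply hK1
      rw [eq_bot_iff, ← hC]
      intro k hk
      refine Subgroup.mem_centralizer_iff.mpr fun x hx => ?_
      have hx1 : x * k * x⁻¹ * k⁻¹ ∈ N ⊓ K := by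
        refine Subgroup.mem_inf.mpr ⟨?_, mul_mem (hK.conj_mem k hk x) (inv_mem hk)⟩
        have : x * (k * x⁻¹ * k⁻¹) ∈ N := mul_mem hx (hN.conj_mem _ (inv_mem hx) k)
        simpa [mul_assoc] using this
      rw [h, Subgroup.mem_bot] at hx1
      exact eq_of_mul_inv_eq_one (by simpa [mul_assoc] using hx1)
    · exact inf_eq_left.mp h
  -- two-transitivity of `N`
  have hfix2 : ∀ n : G, n ∈ N → orderOf n = 2 → ∃ c : Ω, n • c ≠ c := by
    intro n _ hn2
    by_contra hc
    push Not at hc
    have : n = 1 := eq_of_smul_eq_smul (α := Ω) fun ω => by rw [hc, one_smul]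
    rw [this, orderOf_one] at hn2
    omega
  have hcardN := CfsgLib.Perm.natCard_eq_mul_stabilizer (G := N) a
  rw [Nat.card_eq_fintype_card (α := Ω)] at hcardN
  have hswap : ∀ b : Ω, b ≠ a → ∃ s ∈ N, s • a = b ∧ s • b = a := by
    intro b hb
    have : Fact (Nat.Prime 2) := ⟨Nat.prime_two⟩
    obtain ⟨⟨x, hx⟩, hx2⟩ := exists_prime_orderOf_dvd_card' (G := N) 2
      (hcardN ▸ Dvd.dvd.mul_right (by omega) _)
    rw [Subgroup.orderOf_mk] at hx2
    obtain ⟨c, hc⟩ := hfix2 x hx hx2
    have hxx : x • x • c = c := by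
      rw [← mul_smul, ← sq, ← hx2, pow_orderOf_eq_one, one_smul]
    obtain ⟨g, hga, hgb⟩ := CfsgLib.Perm.exists_smul_pair h2 hc.symm (Ne.symm hb)
    refine ⟨g * x * g⁻¹, hN.conj_mem x hx g, ?_, ?_⟩
    · rw [mul_smul, mul_smul, ← hga, inv_smul_smul, hgb]
    · rw [mul_smul, mul_smul, ← hgb, inv_smul_smul, hxx, hga]
  set M : Subgroup N := stabilizer N a with hM
  have : Fact (Nat.Prime 2) := ⟨Nat.prime_two⟩
  obtain ⟨P⟩ : Nonempty (Sylow 2 M) := inferInstance
  set R : Subgroup N := (P : Subgroup M).map M.subtype with hR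
  have hRM : R ≤ M := Subgroup.map_subtype_le _
  have hRp : IsPGroup 2 R := P.2.map _
  have hRmax : ∀ Q : Subgroup N, IsPGroup 2 Q → Q ≤ M → R ≤ Q → Q = R := by
    intro Q hQ hQM hle
    have h1 := P.is_maximal' (Q := Q.subgroupOf M)
      (hQ.of_equiv (Subgroup.subgroupOfEquivOfLe hQM).symm) (fun y hy => hle ⟨y, hy, rfl⟩)
    refine le_antisymm (fun y hy => ?_) hle
    exact ⟨⟨y, hQM hy⟩, (h1 ▸ (show (⟨y, hQM hy⟩ : M) ∈ Q.subgroupOf M from hy)), rfl⟩
  let F : Set Ω := {x | ∀ y ∈ R, y • x = x}
  have haF : a ∈ F := fun y hy => hRM hy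
  -- the set of points fixed by a Sylow subgroup of the stabilizer has two elements
  have hF2 : ∀ b ∈ F, ∀ c ∈ F, b ≠ a → c ≠ a → b = c := by
    let L : Subgroup N := Subgroup.normalizer (R : Set N)
    have hRL : R ≤ L := Subgroup.le_normalizer
    -- 2-elements of `L` fixing a point of `F` lie in `R`
    have h2el : ∀ y ∈ L, ∀ x ∈ F, (∃ k, orderOf y = 2 ^ k) → y • x = x → y ∈ R := by
      intro y hy x hx hyo hyx
      by_contra hyR
      set Q := Subgroup.zpowers y ⊔ R
      have hyp : IsPGroup 2 (Subgroup.zpowers y) := by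
        obtain ⟨k, hk⟩ := hyo
        exact IsPGroup.of_card (n := k) (by rw [Nat.card_zpowers, hk])
      have hQp : IsPGroup 2 Q := hyp.to_sup_of_normal_right' hRp (Subgroup.zpowers_le.mpr hy)
      have hQx : Q ≤ stabilizer N x := sup_le (Subgroup.zpowers_le.mpr hyx) fun z hz => hx z hz
      -- both stabilizers have the same order, so `R` is maximal in that of `x` too
      obtain ⟨P', hP'⟩ := (hQp.comap_subtype (K := stabilizer N x)).exists_le_sylow
      have hcard : Nat.card P' = Nat.card R := by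
        have e1 := CfsgLib.Perm.natCard_eq_mul_stabilizer (G := N) x
        have e2 := CfsgLib.Perm.natCard_eq_mul_stabilizer (G := N) a
        have e3 : Nat.card (stabilizer N x) = Nat.card M :=
          Nat.eq_of_mul_eq_mul_left Nat.card_pos (e1.symm.trans e2)
        rw [Subgroup.card_map_of_injective M.subtype_injective, P'.card_eq_multiplicity, e3,
          P.card_eq_multiplicity]
      have hle : Nat.card Q ≤ Nat.card R := by
        rw [← hcard, ← Nat.card_congr (Subgroup.subgroupOfEquivOfLe hQx).toEquiv]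
        exact Subgroup.card_le_of_le hP'
      apply hyR
      rw [Subgroup.eq_of_le_of_card_ge (le_sup_right : R ≤ Q) hle]
      exact Subgroup.mem_sup_left (Subgroup.mem_zpowers y)
    -- swaps normalizing `R`
    have hsw : ∀ b ∈ F, b ≠ a → ∃ s ∈ L, (∃ k, orderOf s = 2 ^ k) ∧ s • a = b ∧ s • b = a := by
      intro b hbF hba
      obtain ⟨s₀, hs₀, h1, h2'⟩ := hswap b hba
      set s : N := ⟨s₀, hs₀⟩
      set D : Subgroup N := M ⊓ stabilizer N b with hD
      have hRD : R ≤ D := le_inf hRM fun y hy => hbF y hy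
      have hsR : R.map (MulAut.conj s).toMonoidHom ≤ D := by
        rintro _ ⟨y, hy, rfl⟩
        refine Subgroup.mem_inf.mpr ⟨?_, ?_⟩
        · show (s * y * s⁻¹) • a = a
          rw [mul_smul, mul_smul, show s⁻¹ • a = b from inv_smul_eq_iff.mpr h2'.symm, hbF y hy]
          exact h2'
        · show (s * y * s⁻¹) • b = b
          rw [mul_smul, mul_smul, show s⁻¹ • b = a from inv_smul_eq_iff.mpr h1.symm, haF y hy]
          exact h1
      have hsyl : ∀ Q : Subgroup N, IsPGroup 2 Q → Q ≤ D → Nat.card Q = Nat.card R →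
          ∃ P' : Sylow 2 D, (P' : Subgroup D) = Q.subgroupOf D := by
        intro Q hQ hQD hQc
        obtain ⟨P', hP'⟩ := (hQ.of_equiv (Subgroup.subgroupOfEquivOfLe hQD).symm).exists_le_sylow
        refine ⟨P', (Subgroup.eq_of_le_of_card_ge hP' ?_).symm⟩
        rw [Nat.card_congr (Subgroup.subgroupOfEquivOfLe hQD).toEquiv, hQc,
          ← Subgroup.card_map_of_injective D.subtype_injective]
        obtain ⟨P'', hP''⟩ := ((P'.2.map D.subtype).of_equiv (Subgroup.subgroupOfEquivOfLe
          ((Subgroup.map_subtype_le _).trans inf_le_left : (P' : Subgroup D).map D.subtype ≤ M)).symm).exists_le_sylow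
        rw [← Nat.card_congr (Subgroup.subgroupOfEquivOfLe
          ((Subgroup.map_subtype_le _).trans inf_le_left : (P' : Subgroup D).map D.subtype ≤ M)).toEquiv,
          Subgroup.card_map_of_injective M.subtype_injective, P.card_eq_multiplicity,
          ← P''.card_eq_multiplicity]
        exact Subgroup.card_le_of_le hP''
      obtain ⟨P₁, hP₁⟩ := hsyl R hRp hRD rfl
      obtain ⟨P₂, hP₂⟩ := hsyl _ (hRp.map _) hsR
        (Subgroup.card_map_of_injective (MulAut.conj s).injective)
      obtain ⟨x, hx⟩ := exists_smul_eq D P₂ P₁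
      have hx' : (R.map (MulAut.conj s).toMonoidHom).map (MulAut.conj (x : N)).toMonoidHom = R := by
        have h0 := congrArg (fun S : Sylow 2 D => (S : Subgroup D).map D.subtype) hx
        simp only [Sylow.coe_subgroup_smul, hP₁, hP₂, Subgroup.subgroupOf_map_subtype] at h0
        rw [inf_eq_left.mpr hRD] at h0
        rw [Subgroup.pointwise_smul_def] at h0
        refine Eq.trans ?_ h0
        conv_lhs => rw [← inf_eq_left.mpr hsR, ← Subgroup.subgroupOf_map_subtype, Subgroup.map_map]
        rw [show (MulAut.conj (x : N)).toMonoidHom.comp D.subtype =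
          D.subtype.comp (MulAut.conj x).toMonoidHom from rfl, ← Subgroup.map_map]
        rfl
      set t := (x : N) * s with ht
      have htL : t ∈ L := by
        have hmap : R.map (MulAut.conj t).toMonoidHom = R := by
          conv_rhs => rw [← hx', Subgroup.map_map]
          congr 1
          ext y; simp [t, mul_assoc]
        refine Subgroup.mem_normalizer_iff.mpr fun y => ?_
        conv_rhs => rw [← hmap]
        rw [Subgroup.mem_map_equiv, MulAut.conj_symm_apply]
        simp [mul_assoc]
      have hxa : (x : N) • a = a := (Subgroup.mem_inf.mp x.2).1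
      have hxb : (x : N) • b = b := (Subgroup.mem_inf.mp x.2).2
      have hta : t • a = b := by rw [ht, mul_smul, show s • a = b from h1, hxb]
      have htb : t • b = a := by rw [ht, mul_smul, show s • b = a from h2', hxa]
      obtain ⟨k, m, hm, hkm⟩ : ∃ k m, Odd m ∧ orderOf t = 2 ^ k * m :=
        Nat.exists_eq_two_pow_mul_odd (orderOf_pos t).ne'
      refine ⟨t ^ m, pow_mem htL m, ⟨k, ?_⟩, ?_⟩
      · rw [orderOf_pow' _ (by rintro rfl; exact absurd hm (by simp)), hkm, Nat.gcd_mul_left_left,
          Nat.mul_div_cancel _ (by obtain ⟨j, rfl⟩ := hm; omega)]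
      · obtain ⟨j, rfl⟩ := hm
        have hsq : ∀ j : ℕ, t ^ (2 * j) • a = a := by
          intro j
          induction j with
          | zero => rw [mul_zero, pow_zero, one_smul]
          | succ j ih => rw [mul_add, mul_one, pow_add, mul_smul, sq, mul_smul, hta, htb, ih]
        have hsqb : t ^ (2 * j) • b = b := by
          rw [← hta, ← mul_smul, ← pow_succ, pow_succ', mul_smul, hsq]
        exact ⟨by rw [pow_add, pow_one, mul_smul, hta, hsqb], by rw [pow_add, pow_one, mul_smul, htb, hsq]⟩
    -- the action of `L` on `F`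
    have hLF : ∀ y : L, ∀ x : Ω, x ∈ F → (y : N) • x ∈ F := by
      intro y x hx z hz
      have hz' : (y : N)⁻¹ * z * y ∈ R := by
        have h' := (Subgroup.mem_normalizer_iff.mp (inv_mem y.2 : (y : N)⁻¹ ∈ L) z).mp hz
        rwa [inv_inv] at h'
      calc z • (y : N) • x = (y : N) • ((y : N)⁻¹ * z * y) • x := by
            rw [← mul_smul, ← mul_smul]; congr 1; group
        _ = (y : N) • x := by rw [hx _ hz']
    let ρ : L →* Equiv.Perm F :=
    { toFun := fun y =>
      { toFun := fun x => ⟨(y : N) • x.1, hLF y _ x.2⟩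
        invFun := fun x => ⟨(y⁻¹ : L).1 • x.1, hLF y⁻¹ _ x.2⟩
        left_inv := fun x => Subtype.ext (inv_smul_smul (y : N) x.1)
        right_inv := fun x => Subtype.ext (smul_inv_smul (y : N) x.1) }
      map_one' := Equiv.ext fun x => Subtype.ext (one_smul N x.1)
      map_mul' := fun y z => Equiv.ext fun x => Subtype.ext (mul_smul (y : N) (z : N) x.1) }
    intro b hb c hc hba hca
    obtain ⟨s, hsL, hso, hsa, hsb⟩ := hsw b hb hba
    obtain ⟨u, huL, huo, hua, huc⟩ := hsw c hc hca
    -- swaps are fixed point free on `F`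
    have hsign : ∀ (d : Ω) (hd : d ∈ F) (w : L), d ≠ a → (∃ k, orderOf (w : N) = 2 ^ k) →
        (w : N) • a = d → (w : N) • d = a → Equiv.Perm.sign (ρ w) = -1 := by
      intro d hd w hda hwo hwa hwd
      have hsq : (ρ w) ^ 2 = 1 := by
        have h' : (w : N) ^ 2 ∈ R := h2el _ (pow_mem w.2 2) a haF
          (by
            obtain ⟨k, hk⟩ := hwo
            obtain ⟨i, -, hi⟩ := (Nat.dvd_prime_pow Nat.prime_two).mp
              ((orderOf_pow_dvd 2 : orderOf ((w : N) ^ 2) ∣ orderOf (w : N)).trans hk.dvd)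
            exact ⟨i, hi⟩)
          (by rw [sq, mul_smul, hwa, hwd])
        ext x
        rw [← map_pow]
        exact x.2 _ h'
      have hfree : ∀ x : F, ρ w x ≠ x := by
        intro x hx
        have := h2el _ w.2 x.1 x.2 hwo (congrArg Subtype.val hx)
        exact hda (hwa.symm.trans (haF _ this))
      rw [Equiv.Perm.sign_of_pow_two_eq_one hsq]
      have hcF : Fintype.card F % 4 = 2 := by
        have hsupp : (Function.fixedPoints (ρ w)) = ∅ := Set.eq_empty_iff_forall_notMem.mpr hfree
        have heven : 2 ∣ Fintype.card F := by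
          have h' : (ρ w).support = Finset.univ := by
            ext x; simp [Equiv.Perm.mem_support, hfree x]
          have := Equiv.Perm.two_dvd_card_support hsq
          rwa [h', Finset.card_univ] at this
        by_contra h4
        have h4' : 4 ∣ Fintype.card F := by omega
        -- the orbit of `a` under `L` is `F`
        have horb : Fintype.card F = Nat.card (orbit L a) := by
          rw [← Nat.card_eq_fintype_card]
          refine Nat.card_congr (Equiv.setCongr (Set.ext fun x => ⟨fun hx => ?_, ?_⟩))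
          · by_cases hxa : x = a
            · rw [hxa]; exact mem_orbit_self a
            · obtain ⟨v, hvL, -, hva, -⟩ := hsw x hx hxa
              exact ⟨⟨v, hvL⟩, hva⟩
          · rintro ⟨v, rfl⟩; exact hLF v a haF
        have hL : Nat.card L = Fintype.card F * Nat.card (stabilizer L a) := by
          rw [horb, Nat.card_congr (orbitEquivQuotientStabilizer L a), ← Subgroup.index_eq_card,
            Subgroup.index_mul_card]
        have hdiv : Fintype.card F * Nat.card R ∣ Fintype.card Ω * Nat.card M := by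
          rw [← hcardN]
          refine Dvd.dvd.trans ?_ L.card_subgroup_dvd_card
          rw [hL]
          refine mul_dvd_mul_left _ ?_
          let f : R →* stabilizer L a :=
          { toFun := fun y => ⟨⟨y.1, hRL y.2⟩, hRM y.2⟩
            map_one' := rfl
            map_mul' := fun _ _ => rfl }
          exact Subgroup.card_dvd_of_injective f fun y z h => Subtype.ext
            (congrArg (fun q : stabilizer L a => ((q : L) : N)) h)
        have hM2 : Nat.card R = 2 ^ (Nat.card M).factorization 2 := by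
          rw [Subgroup.card_map_of_injective M.subtype_injective, P.card_eq_multiplicity]
        obtain ⟨j, hj⟩ := h4'
        obtain ⟨i, hi⟩ : ∃ i, Fintype.card Ω = 2 * (2 * i + 1) := ⟨Fintype.card Ω / 4, by omega⟩
        have hdvd2 : 4 * 2 ^ (Nat.card M).factorization 2 ∣ 2 * ((2 * i + 1) * Nat.card M) := by
          rw [hi, mul_assoc 2] at hdiv
          refine Dvd.dvd.trans ?_ hdiv
          rw [hM2, hj, mul_assoc]
          exact mul_dvd_mul_left _ (Dvd.intro_left j rfl)
        have hdvd3 : 2 ^ ((Nat.card M).factorization 2 + 1) ∣ (2 * i + 1) * Nat.card M := by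
          refine (Nat.mul_dvd_mul_iff_left (by norm_num : 0 < 2)).mp ?_
          refine Dvd.dvd.trans ?_ hdvd2
          rw [pow_succ]
          exact dvd_of_eq (by ring)
        have hcop : Nat.Coprime (2 ^ ((Nat.card M).factorization 2 + 1)) (2 * i + 1) :=
          Nat.Coprime.pow_left _ (Nat.coprime_two_left.mpr ⟨i, rfl⟩)
        exact Nat.pow_succ_factorization_not_dvd Nat.card_pos.ne' Nat.prime_two (hcop.dvd_of_dvd_mul_left hdvd3)
      have hcard : (Fintype.card F - Fintype.card (Function.fixedPoints (ρ w))) = Fintype.card F := by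
        have : IsEmpty (Function.fixedPoints (ρ w)) := ⟨fun x => hfree x.1 x.2⟩
        rw [Fintype.card_eq_zero (α := Function.fixedPoints (ρ w)), Nat.sub_zero]
      rw [hcard]
      exact Odd.neg_one_pow ⟨Fintype.card F / 4, by omega⟩
    have hodd : ∀ z : L, (z : N) • a = a → Equiv.Perm.sign (ρ z) = 1 := by
      intro z hz
      obtain ⟨k, m, hm, hkm⟩ : ∃ k m, Odd m ∧ orderOf (z : N) = 2 ^ k * m :=
        Nat.exists_eq_two_pow_mul_odd (orderOf_pos _).ne'
      have hzm : (z : N) ^ m ∈ R := h2el _ (pow_mem z.2 m) a haF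
        ⟨k, by rw [orderOf_pow' _ (by rintro rfl; exact absurd hm (by simp)), hkm,
          Nat.gcd_mul_left_left, Nat.mul_div_cancel _ (by obtain ⟨j, rfl⟩ := hm; omega)]⟩
        (MulAction.mem_stabilizer_iff.mp (pow_mem (show (z : N) ∈ M from hz) m))
      have h1 : ρ (z ^ m) = 1 := Equiv.ext fun x => Subtype.ext (x.2 _ hzm)
      have h2 := congrArg Equiv.Perm.sign h1
      rw [map_pow, map_pow, map_one] at h2
      rcases Int.units_eq_one_or (Equiv.Perm.sign (ρ z)) with e | e
      · exact e
      · rw [e, hm.neg_one_pow] at h2; exact absurd h2 (by decide)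
    set y : L := ⟨s, hsL⟩ * ⟨u, huL⟩ with hy
    have hys : Equiv.Perm.sign (ρ y) = 1 := by
      rw [hy, map_mul, map_mul, hsign b hb ⟨s, hsL⟩ hba hso hsa hsb,
        hsign c hc ⟨u, huL⟩ hca huo hua huc]
      decide
    have hya : (y : N) • a = a := by
      by_contra hx
      have hxF := hLF y a haF
      obtain ⟨v, hvL, hvo, hva, hvx⟩ := hsw _ hxF hx
      have h1 := hodd (⟨v, hvL⟩ * y) (by
        show (v * (y : N)) • a = a
        rw [mul_smul, hvx])
      rw [map_mul, map_mul, hys, mul_one, hsign _ hxF ⟨v, hvL⟩ hx hvo hva hvx] at h1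
      exact absurd h1 (by decide)
    have hsc : s • c = a := by
      have h' : (s * u) • a = a := hya
      rwa [mul_smul, hua] at h'
    exact MulAction.injective s (hsb.trans hsc.symm)
  -- all orbits of `M` on the other points coincide
  refine CfsgLib.Perm.isTwoPretransitive_of_stabilizer a fun x y hxa hya => ?_
  -- the common size of these orbits divides the odd number `n - 1`
  have hsize : ∀ x : Ω, x ≠ a → ∀ y : Ω, y ≠ a →
      Nat.card (orbit M x) = Nat.card (orbit M y) := by
    intro x hx y hy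
    obtain ⟨g, hga, hgx⟩ := CfsgLib.Perm.exists_smul_pair h2 hx.symm hy.symm
    refine Nat.card_congr (Equiv.subtypeEquiv (MulAction.toPerm g) fun z => ?_)
    constructor
    · rintro ⟨⟨⟨m, hmN⟩, hma⟩, rfl⟩
      refine ⟨⟨⟨g * m * g⁻¹, hN.conj_mem m hmN g⟩, ?_⟩, ?_⟩
      · show (g * m * g⁻¹) • a = a
        rw [mul_smul, mul_smul, inv_smul_eq_iff.mpr hga.symm, show m • a = a from hma, hga]
      · show (g * m * g⁻¹) • y = g • m • x
        rw [← hgx, mul_smul, mul_smul, inv_smul_smul]
    · rintro ⟨⟨⟨m, hmN⟩, hma⟩, hmz⟩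
      change m • y = g • z at hmz
      refine ⟨⟨⟨g⁻¹ * m * g, by simpa using hN.conj_mem m hmN g⁻¹⟩, ?_⟩, ?_⟩
      · show (g⁻¹ * m * g) • a = a
        rw [mul_smul, mul_smul, hga, show m • a = a from hma, inv_smul_eq_iff, hga]
      · show (g⁻¹ * m * g) • x = z
        rw [mul_smul, mul_smul, hgx, hmz, inv_smul_smul]
  have hodd2 : ¬ 2 ∣ Nat.card (orbit M x) := by
    intro hdvd
    let A : SubMulAction M Ω := ⟨{z | z ≠ a}, fun {m z} hz h =>
      hz (MulAction.injective (m : N) (h.trans (MulAction.mem_stabilizer_iff.mp m.2).symm))⟩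
    have hA : 2 ∣ Nat.card A := by
      rw [Nat.card_congr (selfEquivSigmaOrbits M A), Nat.card_sigma]
      refine Finset.dvd_sum fun q _ => ?_
      have e : Nat.card (orbit M q.out) = Nat.card (orbit M (q.out : Ω)) := by
        rw [← SubMulAction.val_image_orbit q.out]
        exact (Nat.card_image_of_injective Subtype.val_injective _).symm
      rw [e, hsize _ q.out.2 x hxa]
      exact hdvd
    rw [Nat.card_eq_fintype_card, show Fintype.card A = Fintype.card Ω - 1 from
      (Fintype.card_congr (Equiv.subtypeEquivRight fun z => Iff.rfl :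
        A ≃ {z : Ω // ¬ z = a})).trans (by rw [Fintype.card_subtype_compl, Fintype.card_subtype_eq])] at hA
    omega
  have hmeet : ∀ z : Ω, z ≠ a → ∃ b ∈ F, b ≠ a ∧ b ∈ orbit M z := by
    intro z hz
    have hdvd : ¬ 2 ∣ Nat.card (orbit M z) := by rw [hsize z hz x hxa]; exact hodd2
    obtain ⟨⟨b, hb⟩, hbfix⟩ := P.2.nonempty_fixed_point_of_prime_not_dvd_card (orbit M z) hdvd
    refine ⟨b, ?_, ?_, hb⟩
    · rintro _ ⟨p, hp, rfl⟩
      exact congrArg Subtype.val (hbfix ⟨p, hp⟩)
    · rintro rfl
      obtain ⟨m, hm⟩ := hb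
      exact hz (MulAction.injective (m : N) (hm.trans (MulAction.mem_stabilizer_iff.mp m.2).symm))
  obtain ⟨b, hbF, hba, m₁, hm₁⟩ := hmeet x hxa
  obtain ⟨c, hcF, hca, m₂, hm₂⟩ := hmeet y hya
  have hbc := hF2 b hbF c hcF hba hca
  refine ⟨(m₂ : N)⁻¹ * m₁, ?_, ?_⟩
  · exact MulAction.mem_stabilizer_iff.mp (mul_mem (inv_mem m₂.2) m₁.2)
  · rw [mul_smul, show (m₁ : N) • x = b from hm₁, hbc, ← show (m₂ : N) • y = c from hm₂, inv_smul_smul]


end Cfsg.Agent.S3401
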