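import Cfsg.Statements.S3412
import Cfsg.Agent.Lib.Recog.LThreeGraph
import Cfsg.Agent.Lib.Recog.LThreePlane

set_option autoImplicit false
open Cfsg

namespace Cfsg.Agent.S3412

/-- Let H be a finite group whose commuting graph (vertices the non-identity elements, two joined when they commute) is isomorphic to that of PSL_3(3): there is a bijection between the non-identity elements of H and of PSL_3(3) under which two elements commute exactly when their images do. Then H ≅ PSL_3(3). -/
theorem result {H : Type*} [Group H] [Finite H]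
    (f : {h : H // h ≠ 1} ≃ {g : Matrix.ProjectiveSpecialLinearGroup (Fin 3) (ZMod 3) // g ≠ 1})
    (hf : ∀ x y : {h : H // h ≠ 1}, (x : H) * y = y * x ↔ ((f x) : Matrix.ProjectiveSpecialLinearGroup (Fin 3) (ZMod 3)) * (f y) = (f y) * (f x)) :
    Nonempty (H ≃* Matrix.ProjectiveSpecialLinearGroup (Fin 3) (ZMod 3)) := by
  classical
  have : Fact (Nat.Prime 3) := ⟨Nat.prime_three⟩
  let φ : Matrix.ProjectiveSpecialLinearGroup (Fin 3) (ZMod 3) ≃*
      Matrix.SpecialLinearGroup (Fin 3) (ZMod 3) :=
    (QuotientGroup.quotientMulEquivOfEq CfsgLib.Recog.PlaneThirteen.card_sl.2).trans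
      QuotientGroup.quotientBot
  let g : H ≃ Matrix.ProjectiveSpecialLinearGroup (Fin 3) (ZMod 3) :=
    { toFun := fun h => if h1 : h = 1 then 1 else
        (f ⟨h, h1⟩ : Matrix.ProjectiveSpecialLinearGroup (Fin 3) (ZMod 3))
      invFun := fun g => if g1 : g = 1 then 1 else (f.symm ⟨g, g1⟩ : H)
      left_inv := fun h => by
        by_cases h1 : h = 1
        · simp [h1]
        · simp [h1, (f ⟨h, h1⟩).2]
      right_inv := fun g => by
        by_cases g1 : g = 1
        · simp [g1]
        · simp [g1, (f.symm ⟨g, g1⟩).2] }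
  have hg1 : g 1 = 1 := by simp [g]
  have hcomm : ∀ x y : H, x * y = y * x ↔ g x * g y = g y * g x := by
    intro x y
    by_cases hx : x = 1
    · simp [hx, hg1]
    by_cases hy : y = 1
    · simp [hy, hg1]
    simpa [g, hx, hy] using hf ⟨x, hx⟩ ⟨y, hy⟩
  obtain ⟨t, ht⟩ := CfsgLib.Recog.LThreeGraph.exists_hyp (g.trans φ.toEquiv)
    (by simp [hg1]) (fun x y => by
      rw [hcomm x y]
      change _ ↔ φ (g x) * φ (g y) = φ (g y) * φ (g x)
      rw [← map_mul φ, ← map_mul φ, φ.injective.eq_iff])
  exact CfsgLib.Recog.LThreeOrder.equiv_psl ht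

end Cfsg.Agent.S3412
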