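import Cfsg.Statements.S3413
import Cfsg.Agent.Lib.Recog.OrderM11Data
import Mathlib.Tactic

set_option autoImplicit false
open Cfsg Subgroup CfsgLib.Recog.OrderM11Data

namespace Cfsg.Agent.S3413

/-- Let H be a finite group whose commuting graph (vertices the non-identity elements, two joined when they commute) is isomorphic to that of the Mathieu group M_11: there is a bijection between the non-identity elements of H and of M_11 under which two elements commute exactly when their images do. Then H ≅ M_11. -/
theorem result {H : Type*} [Group H] [Finite H]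
    (f : {h : H // h ≠ 1} ≃ {g : ↥Cfsg.Spor.M11 // g ≠ 1})
    (hf : ∀ x y : {h : H // h ≠ 1}, (x : H) * y = y * x ↔ ((f x) : ↥Cfsg.Spor.M11) * (f y) = (f y) * (f x)) :
    Nonempty (H ≃* ↥Cfsg.Spor.M11) := by
  classical
  have hsimp := CfsgLib.Golay.isSimple_sporM11
  have hM := CfsgLib.Golay.card_sporM11
  -- extend the bijection by `1 ↦ 1`
  let e : H ≃ ↥Cfsg.Spor.M11 :=
    { toFun := fun h => if h1 : h = 1 then 1 else (f ⟨h, h1⟩ : ↥Cfsg.Spor.M11)
      invFun := fun g => if g1 : g = 1 then 1 else (f.symm ⟨g, g1⟩ : H)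
      left_inv := fun h => by
        by_cases h1 : h = 1
        · simp [h1]
        · simp [h1, (f ⟨h, h1⟩).2]
      right_inv := fun g => by
        by_cases g1 : g = 1
        · simp [g1]
        · simp [g1, (f.symm ⟨g, g1⟩).2] }
  have he1 : e 1 = 1 := by simp [e]
  have hne : ∀ h : H, h ≠ 1 → e h ≠ 1 := fun h h1 h2 => h1 (e.injective (h2.trans he1.symm))
  have hcomm : ∀ x y : H, x * y = y * x ↔ e x * e y = e y * e x := by
    intro x y
    by_cases hx : x = 1
    · simp [hx, he1]
    by_cases hy : y = 1
    · simp [hy, he1]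
    simpa [e, hx, hy] using hf ⟨x, hx⟩ ⟨y, hy⟩
  have hcard : Nat.card H = 7920 := (Nat.card_congr e).trans hM
  have hcent : ∀ x : H, Nat.card (centralizer ({x} : Set H)) =
      Nat.card (centralizer ({e x} : Set ↥Cfsg.Spor.M11)) := fun x =>
    Nat.card_congr (e.subtypeEquiv fun y => by
      rw [mem_centralizer_singleton_iff, mem_centralizer_singleton_iff]
      exact hcomm y x)
  have h11p : Fact (Nat.Prime 11) := ⟨by norm_num⟩
  have hC : ∀ x : H, orderOf x = 11 → Nat.card (centralizer ({x} : Set H)) = 11 := by
    intro x hx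
    have hx1 : x ≠ 1 := fun h => by simp [h] at hx
    have hd : 11 ∣ Nat.card (centralizer ({x} : Set H)) := by
      rw [← hx]
      exact orderOf_dvd_natCard _ (mem_centralizer_singleton_iff.2 rfl)
    rw [hcent] at hd ⊢
    rcases centralizer_cases hM (hne x hx1) with ⟨-, h⟩ | ⟨-, h⟩ | ⟨-, -, h⟩
    · exact h
    · rw [h] at hd
      omega
    · exact absurd (hd.trans h) (by norm_num)
  refine iso_M11 hcard hC ?_
  have hcount : Nat.card {x : H // orderOf x = 11} =
      Nat.card {g : ↥Cfsg.Spor.M11 // orderOf g = 11} := by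
    refine Nat.card_congr (e.subtypeEquiv fun x => ⟨fun hx => ?_, fun hx => ?_⟩)
    · have hx1 : x ≠ 1 := fun h => by simp [h] at hx
      have h11 := hC x hx
      rw [hcent] at h11
      rcases centralizer_cases hM (hne x hx1) with ⟨h, -⟩ | ⟨-, h⟩ | ⟨-, -, h⟩
      · exact h
      · omega
      · rw [h11] at h
        omega
    · have hx1 : x ≠ 1 := fun h => by simp [h, he1] at hx
      have h11 : Nat.card (centralizer ({x} : Set H)) = 11 := by
        rw [hcent]
        rcases centralizer_cases hM (hne x hx1) with ⟨-, h⟩ | ⟨h, -⟩ | ⟨-, h, -⟩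
        · exact h
        · omega
        · exact absurd hx h
      have hdx := orderOf_dvd_natCard (centralizer ({x} : Set H))
        (mem_centralizer_singleton_iff.2 (rfl : x * x = x * x))
      rw [h11] at hdx
      exact ((Nat.dvd_prime h11p.out).1 hdx).resolve_left fun h => hx1 (orderOf_eq_one_iff.1 h)
  refine card_sylow_eleven hcard ?_
  rw [hcount]
  exact count_shape hM 11

end Cfsg.Agent.S3413
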