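import Cfsg.Statements.S3419
import Cfsg.Agent.Lib.Recog.PrimeFactor
import Cfsg.Agent.Lib.Solvable.Hall
import Cfsg.Agent.Lib.Comp.TwoPrimes
import Mathlib.Tactic

set_option autoImplicit false
open Cfsg

namespace Cfsg.Agent.S3419

/-- Let n ≥ 5 and let G be a finite group with the same order and the same set of element orders as the alternating group of degree n. Then G is not solvable. -/
theorem result {G : Type*} [Group G] [Finite G] (n : ℕ) (hn : 5 ≤ n)
    (hcard : Nat.card G = Nat.card ↥(alternatingGroup (Fin n)))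
    (hspec : Set.range (orderOf : G → ℕ) = Set.range (orderOf : ↥(alternatingGroup (Fin n)) → ℕ)) :
    ¬ Group.IsSolvable G := by
  intro hsol
  have hmain : ∀ p q : ℕ, p.Prime → q.Prime → n < 2 * p → p < q → q ≤ n → 5 ≤ p ∨ (p = 3 ∧ q = 5) → False := by
    intro p q hp hq h1 h2 h3 h5
    refine CfsgLib.Recog.PrimeFactor.not_isSolvable {p, q} ?_ ?_ ?_ ⟨p, by simp, q, by simp, h2.ne⟩ hsol
    · rintro r (rfl | rfl)
      · exact ⟨hp, CfsgLib.Recog.PrimeFactor.exponent_one n hcard hp (by omega) (by omega) (by omega) h1⟩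
      · exact ⟨hq, CfsgLib.Recog.PrimeFactor.exponent_one n hcard hq (by omega) (by omega) h3 (by omega)⟩
    · intro r hr s hs hne g
      refine CfsgLib.Recog.PrimeFactor.orderOf_ne_of_spec n hspec ?_ ?_ hne ?_ g
      · rcases hr with rfl | rfl <;> assumption
      · rcases hs with rfl | rfl <;> assumption
      · rcases hr with rfl | rfl <;> rcases hs with rfl | rfl <;> omega
    · intro r hr s hs hd
      obtain ⟨c, hc⟩ := hd
      have hsc : c = 0 ∨ c = 1 ∨ s * 2 ≤ s * c := by
        rcases c with _ | _ | c
        · exact Or.inl rfl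
        · exact Or.inr (Or.inl rfl)
        · exact Or.inr (Or.inr (Nat.mul_le_mul_left _ (by omega)))
      have := hp.two_le; have := hq.two_le
      rcases hsc with rfl | rfl | h
      · rcases hr with rfl | rfl <;> rcases hs with rfl | rfl <;> omega
      · rcases hp.eq_two_or_odd with e | e <;> rcases hq.eq_two_or_odd with e' | e' <;>
          rcases hr with rfl | rfl <;> rcases hs with rfl | rfl <;> omega
      · rcases hr with rfl | rfl <;> rcases hs with rfl | rfl <;> omega
  have hsmall : ∀ r q : ℕ, r.Prime → q.Prime → r ≠ q → q ≤ n → n < r + q → n < 2 * q → 3 ≤ q →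
      ∀ a m : ℕ, Nat.card G = r ^ a * q * m → (r ^ a * q).Coprime m → ¬ r ∣ q - 1 → 1 ≤ a →
      (∀ d, d ∣ r ^ a → d % q = 1 → d = 1) → False := by
    intro r q hr hq hne hle hsum h2q h3 a m hm hco hnd ha hdvd
    haveI := hsol
    haveI := Fact.mk hq; haveI := Fact.mk hr
    obtain ⟨K, hK⟩ := CfsgLib.Solvable.exists_hall hm hco
    have hcop : (r ^ a).Coprime q := ((Nat.coprime_primes hr hq).2 hne).pow_left a
    obtain ⟨P⟩ := (inferInstance : Nonempty (Sylow q K))
    have hP : Nat.card (P : Subgroup K) = q := by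
      rw [P.card_eq_multiplicity, hK, Nat.factorization_mul (pow_ne_zero _ hr.ne_zero) hq.ne_zero]
      simp [Nat.Prime.factorization_pow hr, hq.factorization_self, hne]
    have h1 : Nat.card (Sylow q K) = 1 := by
      refine hdvd _ ?_ ?_
      · have h := P.card_dvd_index
        have hi : (P : Subgroup K).index = r ^ a := by
          have h' := Subgroup.card_mul_index (P : Subgroup K)
          rw [hP, hK, mul_comm] at h'
          exact Nat.eq_of_mul_eq_mul_right hq.pos h'
        rwa [hi] at h
      · have := card_sylow_modEq_one q K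
        rwa [Nat.ModEq, Nat.one_mod_eq_one.2 hq.ne_one] at this
    have hr' : r ∣ Nat.card (Subgroup.normalizer ((P : Subgroup K) : Set K)) := by
      have h := Sylow.card_eq_index_normalizer P
      rw [h1, eq_comm, Subgroup.index_eq_one] at h
      rw [show ((P : Subgroup K) : Set K) = (P : Set K) from rfl, h, Subgroup.card_top, hK]
      exact (dvd_pow_self r (by omega)).mul_right _
    obtain ⟨z, hz⟩ := CfsgLib.Recog.PrimeFactor.exists_of_normalize hq hr hne.symm hnd hP hr'
    exact CfsgLib.Recog.PrimeFactor.orderOf_ne_of_spec n hspec hq hr hne.symm (by omega) (z : G)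
      (by rw [Subgroup.orderOf_coe, hz])
  by_cases h18 : 18 ≤ n
  · obtain ⟨p, q, hp, hq, h1, h2, h3⟩ := CfsgLib.Comp.exists_two_primes (n := n / 2) (by omega)
    exact hmain p q hp hq (by omega) (by omega) (by omega) (Or.inl (by omega))
  rcases (show n = 5 ∨ n = 6 ∨ (7 ≤ n ∧ n ≤ 9) ∨ n = 10 ∨ (11 ≤ n ∧ n ≤ 13) ∨ 14 ≤ n by omega) with
    h | h | h | h | h | h
  · exact hmain 3 5 (by norm_num) (by norm_num) (by omega) (by omega) (by omega) (Or.inr ⟨rfl, rfl⟩)
  · subst h
    rw [nat_card_alternatingGroup, Nat.card_fin] at hcard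
    exact hsmall 3 5 (by norm_num) (by norm_num) (by norm_num) (by norm_num) (by norm_num) (by norm_num) (by norm_num)
      2 8 (by rw [hcard]; decide) (by norm_num) (by norm_num) (by norm_num)
      (fun d hd h => by rcases (Nat.dvd_prime_pow (by norm_num)).1 hd with ⟨i, hi, rfl⟩; interval_cases i <;> simp_all)
  · exact hmain 5 7 (by norm_num) (by norm_num) (by omega) (by omega) (by omega) (Or.inl le_rfl)
  · subst h
    rw [nat_card_alternatingGroup, Nat.card_fin] at hcard
    exact hsmall 5 7 (by norm_num) (by norm_num) (by norm_num) (by norm_num) (by norm_num) (by norm_num) (by norm_num)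
      2 10368 (by rw [hcard]; decide) (by norm_num) (by norm_num) (by norm_num)
      (fun d hd h => by rcases (Nat.dvd_prime_pow (by norm_num)).1 hd with ⟨i, hi, rfl⟩; interval_cases i <;> simp_all)
  · exact hmain 7 11 (by norm_num) (by norm_num) (by omega) (by omega) (by omega) (Or.inl (by omega))
  · exact hmain 11 13 (by norm_num) (by norm_num) (by omega) (by omega) (by omega) (Or.inl (by omega))

end Cfsg.Agent.S3419
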