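import Cfsg.Statements.S3420
import Cfsg.Agent.Lib.Recog.PrimeFactor
import Cfsg.Agent.Lib.Comp.TwoPrimes
import Mathlib.Tactic

set_option autoImplicit false
open Cfsg

namespace Cfsg.Agent.S3420

/-- Let n ≥ 11 and let G be a finite group with the same order and the same set of element orders as the alternating group of degree n. Then G has normal subgroups N < H such that H/N is a non-abelian simple group whose order is divisible by every prime p with n/2 < p ≤ n. -/
theorem result {G : Type*} [Group G] [Finite G] (n : ℕ) (hn : 11 ≤ n)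
    (hcard : Nat.card G = Nat.card ↥(alternatingGroup (Fin n)))
    (hspec : Set.range (orderOf : G → ℕ) = Set.range (orderOf : ↥(alternatingGroup (Fin n)) → ℕ)) :
    ∃ (N H : Subgroup G) (_ : N.Normal), H.Normal ∧ N < H ∧
      IsSimpleGroup (↥H ⧸ N.subgroupOf H) ∧ ¬ IsMulCommutative (↥H ⧸ N.subgroupOf H) ∧
      ∀ p : ℕ, p.Prime → n < 2 * p → p ≤ n → p ∣ Nat.card (↥H ⧸ N.subgroupOf H) := by
  obtain ⟨p, q, hp, hq, h1, h2, h3⟩ : ∃ p q : ℕ, p.Prime ∧ q.Prime ∧ n < 2 * p ∧ p < q ∧ q ≤ n := by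
    by_cases h : 18 ≤ n
    · obtain ⟨p, q, hp, hq, h1, h2, h3⟩ := CfsgLib.Comp.exists_two_primes (n := n / 2) (by omega)
      exact ⟨p, q, hp, hq, by omega, by omega, by omega⟩
    · by_cases h' : n < 14
      · exact ⟨7, 11, by norm_num, by norm_num, by omega, by omega, by omega⟩
      · exact ⟨11, 13, by norm_num, by norm_num, by omega, by omega, by omega⟩
  let S : Set ℕ := {r | r.Prime ∧ n < 2 * r ∧ r ≤ n}
  have hS : ∀ r ∈ S, r.Prime ∧ r ∣ Nat.card G ∧ ¬ r ^ 2 ∣ Nat.card G := fun r ⟨hr, hlt, hle⟩ =>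
    ⟨hr, CfsgLib.Recog.PrimeFactor.exponent_one n hcard hr (by omega) (by omega) hle hlt⟩
  obtain ⟨N, H, hN, hH, hlt, hs, hc, hall⟩ := CfsgLib.Recog.PrimeFactor.exists_simple_factor S hS
    (fun r hr s hs hne g => CfsgLib.Recog.PrimeFactor.orderOf_ne_of_spec n hspec hr.1 hs.1 hne (by
      have := hr.2.1; have := hs.2.1; omega) g)
    (fun r hr s hs hd => by
      obtain ⟨c, hc⟩ := hd
      obtain ⟨hrp, hr1, hr2⟩ := hr
      obtain ⟨hsp, hs1, hs2⟩ := hs
      rcases c with _ | _ | c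
      · have := hrp.two_le; omega
      · have h0 : r = s + 1 := by have := hrp.two_le; omega
        rcases hrp.eq_two_or_odd with e | e <;> rcases hsp.eq_two_or_odd with e' | e' <;> omega
      · have : s * 2 ≤ s * (c + 1 + 1) := Nat.mul_le_mul_left _ (by omega)
        have := hrp.two_le
        omega)
    ⟨p, ⟨hp, h1, by omega⟩, q, ⟨hq, by omega, h3⟩, by omega⟩
  exact ⟨N, H, hN, hH, hlt, hs, hc, fun r hr hlt hle => hall r ⟨hr, hlt, hle⟩⟩

end Cfsg.Agent.S3420
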