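import Cfsg.Statements.S3421
import Cfsg.Agent.Lib.Recog.PSLOrderAction
import Cfsg.Agent.Lib.KnownB.PSL2Elem
import Cfsg.Agent.Lib.Classical.PSLTwoPerm
import Cfsg.Agent.Lib.Geom.DicksonPSL

set_option autoImplicit false
open Cfsg

namespace Cfsg.Agent.S3421

open CfsgLib.Recog.PSLOrder in
theorem recognise_aux {G : Type*} [Group G] [Finite G] {F : Type*} [Field F] [Fintype F]
    (hF : 3 < Fintype.card F)
    (hspec : Set.range (orderOf : G → ℕ) = Set.range (orderOf : Matrix.ProjectiveSpecialLinearGroup (Fin 2) F → ℕ))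
    (hcard : Nat.card G = Nat.card (Matrix.ProjectiveSpecialLinearGroup (Fin 2) F)) :
    Nonempty (G ≃* Matrix.ProjectiveSpecialLinearGroup (Fin 2) F) := by
  classical
  obtain ⟨p, hchar⟩ := CharP.exists F
  obtain ⟨⟨f, hf⟩, hp, hq⟩ := FiniteField.card F p
  change Fintype.card F = p ^ f at hq
  have : Fact p.Prime := ⟨hp⟩
  have hpq : p ∣ p ^ f := dvd_pow_self p hf.ne'
  have hq4 : 4 ≤ p ^ f := by omega
  -- the number `d`
  obtain ⟨d, hd⟩ : ∃ d, d = Nat.gcd 2 (p ^ f - 1) := ⟨_, rfl⟩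
  have hpar : p = 2 ∧ d = 1 ∨ p ≠ 2 ∧ d = 2 := by
    by_cases h2 : p = 2
    · left
      refine ⟨h2, ?_⟩
      subst h2
      rcases (Nat.dvd_prime Nat.prime_two).1 (hd ▸ Nat.gcd_dvd_left 2 (2 ^ f - 1)) with e | e
      · exact e
      · exfalso
        have : 2 ∣ 2 ^ f - 1 := by
          have h := Nat.gcd_dvd_right 2 (2 ^ f - 1)
          rw [← hd, e] at h
          exact h
        omega
    · right
      refine ⟨h2, ?_⟩
      have hodd : p ^ f % 2 = 1 := Nat.odd_iff.1 (hp.odd_of_ne_two h2).pow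
      exact hd.trans (Nat.gcd_eq_left (by omega))
  have hdvd1 : d ∣ p ^ f - 1 := hd ▸ Nat.gcd_dvd_right _ _
  have hdvd2 : d ∣ p ^ f + 1 := by
    rcases hpar with ⟨-, e⟩ | ⟨-, e⟩ <;> subst e <;> omega
  obtain ⟨u, hu⟩ := hdvd1
  obtain ⟨v, hv⟩ := hdvd2
  have hd0 : 0 < d := by rcases hpar with ⟨-, e⟩ | ⟨-, e⟩ <;> omega
  have hudiv : (p ^ f - 1) / d = u := by rw [hu, Nat.mul_div_cancel_left _ hd0]
  have hvdiv : (p ^ f + 1) / d = v := by rw [hv, Nat.mul_div_cancel_left _ hd0]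
  -- the element orders
  have hcases : ∀ g : G, orderOf g ∣ p ∨ orderOf g ∣ u ∨ orderOf g ∣ v := by
    intro g
    obtain ⟨x, hx⟩ := hspec.le ⟨g, rfl⟩
    have := CfsgLib.KnownB.SL2.orderOf_psl_cases p x
    rw [hx, hq, ← hd, hudiv, hvdiv] at this
    exact this
  have hex : ∀ m, m ∣ p ∨ m ∣ u ∨ m ∣ v → ∃ g : G, orderOf g = m := by
    intro m hm
    obtain ⟨x, hx⟩ := CfsgLib.KnownB.SL2.exists_orderOf_psl (F := F) p (m := m)
      (by rw [hq, ← hd, hudiv, hvdiv]; exact hm)
    exact hspec.ge ⟨x, hx⟩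
  -- the order
  have hG : Nat.card G = p ^ f * (d * (u * v)) := by
    have h1 := CfsgLib.Classical.card_psl_two_mul (F := F)
    rw [hq, ← hd, ← hcard] at h1
    refine Nat.eq_of_mul_eq_mul_left hd0 (h1.trans ?_)
    rw [sq, show p ^ f * p ^ f - 1 = (p ^ f + 1) * (p ^ f - 1) from Nat.mul_self_sub_mul_self_eq _ 1,
      hu, hv]
    ring
  have hpnu : ¬ p ∣ p ^ f - 1 := fun h => by
    have := Nat.dvd_sub hpq h
    rw [show p ^ f - (p ^ f - 1) = 1 by omega] at this
    exact hp.not_dvd_one this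
  have hpnv : ¬ p ∣ p ^ f + 1 := fun h => hp.not_dvd_one ((Nat.dvd_add_right hpq).1 h)
  have H : Hyp G p f (d * (u * v)) d := by
    refine ⟨hp, hf, hq4, hG, ?_, hd0, ?_, fun g hg => ?_⟩
    · rw [show d * (d * (u * v)) = (d * v) * (d * u) by ring, ← hu, ← hv,
        ← Nat.mul_self_sub_mul_self_eq]
      have : 1 ≤ p ^ f * p ^ f := Nat.one_le_iff_ne_zero.2 (by positivity)
      omega
    · rcases hpar with ⟨e1, e2⟩ | ⟨e1, e2⟩ <;> have := hp.two_le <;> omega
    · rcases hcases g with h | h | h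
      · exact ((Nat.dvd_prime hp).1 h).resolve_left fun e => hp.not_dvd_one (e ▸ hg)
      · exact absurd (hu ▸ ((hg.trans h).mul_left d)) hpnu
      · exact absurd (hv ▸ ((hg.trans h).mul_left d)) hpnv
  have hTI : ∀ P Q : Sylow p G, P ≠ Q → (P : Subgroup G) ⊓ Q = ⊥ := by
    rcases hpar with ⟨h2, -⟩ | ⟨h2, hd2⟩
    · intro P Q hPQ
      rw [Subgroup.eq_bot_iff_forall]
      rintro x ⟨hxP, hxQ⟩
      by_contra hx1
      refine hPQ (Sylow.ext ?_)
      have key : ∀ R : Sylow p G, x ∈ (R : Subgroup G) →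
          (R : Subgroup G) = Subgroup.centralizer ({x} : Set G) := by
        intro R hxR
        refine Subgroup.eq_of_le_of_card_ge (fun y hy => ?_)
          (by rw [H.card_cen (H.orderOf_eq R.2 hxR hx1), H.card_sylow])
        rw [Subgroup.mem_centralizer_singleton_iff]
        have hsq : ∀ z ∈ (R : Subgroup G), z * z = 1 := fun z hz => by
          by_cases hz1 : z = 1
          · rw [hz1, one_mul]
          · have := H.orderOf_eq R.2 hz hz1
            rw [h2] at this
            rw [← sq, ← this, pow_orderOf_eq_one]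
        have hi : ∀ z ∈ (R : Subgroup G), z⁻¹ = z := fun z hz =>
          inv_eq_of_mul_eq_one_right (hsq z hz)
        calc y * x = (y * x)⁻¹ := (hi _ (mul_mem hy hxR)).symm
          _ = x * y := by rw [mul_inv_rev, hi x hxR, hi y hy]
      exact (key P hxP).trans (key Q hxQ).symm
    · subst hd2
      refine ti_of_odd H h2 fun r hr hrp hr2 hrd => ?_
      have hodd : p ^ f % 2 = 1 := Nat.odd_iff.1 (hp.odd_of_ne_two h2).pow
      have hr3 : 3 ≤ r := by have := hr.two_le; omega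
      have hcu : u.Coprime v := by
        rw [show v = u + 1 by omega]
        exact Nat.coprime_self_add_right.2 (Nat.coprime_one_right _)
      have hqu : u.Coprime (p ^ f) := Nat.coprime_of_dvd fun s hs h1 h3 =>
        hpnu (hu ▸ (((Nat.prime_dvd_prime_iff_eq hs hp).1 (hs.dvd_of_dvd_pow h3)).symm.dvd.trans
          h1).mul_left 2)
      have hqv : v.Coprime (p ^ f) := Nat.coprime_of_dvd fun s hs h1 h3 =>
        hpnv (hv ▸ (((Nat.prime_dvd_prime_iff_eq hs hp).1 (hs.dvd_of_dvd_pow h3)).symm.dvd.trans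
          h1).mul_left 2)
      have hnot : ∀ g : G, r ∣ orderOf g → ¬ orderOf g ∣ p := fun g h1 h3 =>
        hrp ((Nat.prime_dvd_prime_iff_eq hr hp).1 (h1.trans h3))
      rw [hG] at hrd
      rcases (Nat.Prime.dvd_mul hr).1 hrd with h | h
      · exact absurd ((Nat.prime_dvd_prime_iff_eq hr hp).1 (hr.dvd_of_dvd_pow h)) hrp
      rcases (Nat.Prime.dvd_mul hr).1 h with h | h
      · exact absurd ((Nat.prime_dvd_prime_iff_eq hr Nat.prime_two).1 h) hr2
      rcases (Nat.Prime.dvd_mul hr).1 h with h | h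
      · refine ⟨u, v, p ^ f, hr, hr2, h, by rw [hG]; ring, hex u (Or.inr (Or.inl dvd_rfl)),
          fun g hg => ?_, hqu.mul_right hcu, ?_⟩
        · exact ((hcases g).resolve_left (hnot g hg)).resolve_right fun h3 =>
            hr.not_dvd_one (hcu ▸ Nat.dvd_gcd h (hg.trans h3))
        · rw [show 2 * p ^ f * v = (p ^ f + 2) * (2 * u) + 2 by
            rw [mul_comm 2, mul_assoc, ← hv, ← hu]
            obtain ⟨k, hk⟩ : ∃ k, p ^ f = k + 1 := ⟨p ^ f - 1, by omega⟩
            rw [hk, Nat.add_sub_cancel]; ring]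
          rw [Nat.add_mod, Nat.mod_eq_zero_of_dvd ((h.mul_left 2).mul_left _), zero_add,
            Nat.mod_mod, Nat.mod_eq_of_lt (by omega)]
      · refine ⟨v, u, p ^ f, hr, hr2, h, by rw [hG]; ring, hex v (Or.inr (Or.inr dvd_rfl)),
          fun g hg => ?_, hqv.mul_right hcu.symm, ?_⟩
        · refine ((hcases g).resolve_left (hnot g hg)).resolve_left fun h3 =>
            hr.not_dvd_one (hcu ▸ Nat.dvd_gcd (hg.trans h3) h)
        · rw [show 2 * p ^ f * u = (p ^ f - 2) * (2 * v) + 2 by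
            rw [mul_comm 2, mul_assoc, ← hv, ← hu]
            obtain ⟨k, hk⟩ : ∃ k, p ^ f = k + 2 := ⟨p ^ f - 2, by omega⟩
            rw [hk, Nat.add_sub_cancel, show k + 2 - 1 = k + 1 by omega]; ring]
          rw [Nat.add_mod, Nat.mod_eq_zero_of_dvd ((h.mul_left 2).mul_left _), zero_add,
            Nat.mod_mod, Nat.mod_eq_of_lt (by omega)]
  have A : Act G p f (d * (u * v)) d := ⟨H, hTI, hpar, by
    obtain ⟨g, hg⟩ := hex v (Or.inr (Or.inr dvd_rfl))
    exact ⟨g, by rw [hg, hv]⟩⟩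
  obtain ⟨K, iK, iKf, hKc, ⟨e⟩⟩ := A.recognise
  exact ⟨e.trans (CfsgLib.Geom.Moebius.pslCongr
    (FiniteField.ringEquivOfCardEq (hKc.trans hq.symm)))⟩

/-- Let F be a finite field with more than 3 elements. A finite group G is isomorphic to PSL(2, F) if and only if G has the same set of element orders and the same order as PSL(2, F). -/
theorem result {G : Type*} [Group G] [Finite G] {F : Type*} [Field F] [Fintype F] (hF : 3 < Fintype.card F) :
    Nonempty (G ≃* Matrix.ProjectiveSpecialLinearGroup (Fin 2) F) ↔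
      (Set.range (orderOf : G → ℕ) = Set.range (orderOf : Matrix.ProjectiveSpecialLinearGroup (Fin 2) F → ℕ) ∧
        Nat.card G = Nat.card (Matrix.ProjectiveSpecialLinearGroup (Fin 2) F)) := by
  constructor
  · rintro ⟨e⟩
    refine ⟨?_, Nat.card_congr e.toEquiv⟩
    ext m
    exact ⟨fun ⟨g, hg⟩ => ⟨e g, (e.orderOf_eq g).trans hg⟩,
      fun ⟨x, hx⟩ => ⟨e.symm x, (e.symm.orderOf_eq x).trans hx⟩⟩
  · rintro ⟨hspec, hcard⟩
    exact recognise_aux hF hspec hcard

end Cfsg.Agent.S3421
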