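import Cfsg.Statements.S3427
import Cfsg.Agent.Lib.Recog.USixty.Twelve
import Cfsg.Agent.Lib.Recog.USixty.GTwo

set_option autoImplicit false
open Cfsg

namespace Cfsg.Agent.S3427

/-- Let F be the field with 2 elements and let M be the Chevalley group of type G₂ over F (a non-simple group of order 12096 whose derived subgroup, of index 2, is isomorphic to PSU(3, 3)). A finite group G is isomorphic to M if and only if G has the same set of element orders and the same order as M. -/
theorem result {G : Type*} [Group G] [Finite G] {F : Type*} [Field F] [Fintype F] (hF : Fintype.card F = 2) :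
    Nonempty (G ≃* ↥(Cfsg.Lie.chevG2.group F)) ↔
      (Set.range (orderOf : G → ℕ) = Set.range (orderOf : ↥(Cfsg.Lie.chevG2.group F) → ℕ) ∧ Nat.card G = Nat.card ↥(Cfsg.Lie.chevG2.group F)) := by
  have : Fact (Nat.Prime 3) := ⟨Nat.prime_three⟩
  let K : Type := GaloisField 3 2
  let _ : Fintype K := Fintype.ofFinite K
  have hK : Fintype.card K = 9 := by
    rw [← Nat.card_eq_fintype_card, GaloisField.card 3 2 (by norm_num)]
    norm_num
  obtain ⟨e⟩ := CfsgLib.Recog.USixty.gTwo_iso_mulAut hF hK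
  constructor
  · rintro ⟨f⟩
    refine ⟨?_, Nat.card_congr f.toEquiv⟩
    ext n
    constructor
    · rintro ⟨g, rfl⟩; exact ⟨f g, f.orderOf_eq g⟩
    · rintro ⟨g, rfl⟩; exact ⟨f.symm g, f.symm.orderOf_eq g⟩
  · rintro ⟨hspec, hcard⟩
    have hne : ∀ n : ℕ, n = 9 ∨ n = 14 ∨ n = 21 → ∀ g : G, orderOf g ≠ n := by
      intro n hn g hg
      obtain ⟨m, hm⟩ := hspec.le ⟨g, hg⟩
      obtain ⟨h9, h14, h21⟩ := CfsgLib.Recog.USixty.aut_orders hK (e m)
      rw [MulEquiv.orderOf_eq, hm] at h9 h14 h21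
      omega
    obtain ⟨e'⟩ := CfsgLib.Recog.USixty.iso_mulAut
      (hcard.trans (CfsgLib.Recog.USixty.card_gTwo hF)) (hne 14 (by simp)) (hne 21 (by simp))
      (hne 9 (by simp)) hK
    exact ⟨e'.trans e.symm⟩

end Cfsg.Agent.S3427
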