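import Cfsg.Statements.S3431
import Cfsg.Agent.Lib.Recog.SameOrderTypeTables
import Cfsg.Agent.Lib.Recog.AffineSpectrum
import Cfsg.Agent.Lib.ClassK.Simple360
import Cfsg.Agent.Lib.Geom.SimpleSixty

set_option autoImplicit false
open Cfsg

namespace Cfsg.Agent.S3431

open CfsgLib.StructB.OrderCount CfsgLib.Recog.SameOrderType

theorem cycleType_card (n : ℕ) (m : Multiset ℕ) (v : ℕ)
    (hv : (if (m.sum ≤ n ∧ ∀ a ∈ m, 2 ≤ a) ∧ Even (m.sum + Multiset.card m) then
      n.factorial / ((n - m.sum).factorial * (m.prod * ∏ k ∈ m.toFinset, (m.count k).factorial)) else 0) = v) :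
    (Finset.univ.filter fun g : alternatingGroup (Fin n) => (g : Equiv.Perm (Fin n)).cycleType = m).card = v := by
  rw [AlternatingGroup.card_of_cycleType, Fintype.card_fin]
  exact hv

theorem cnt_two (n : ℕ) (hn : n ≤ 6) (hn4 : 4 ≤ n) :
    cnt (alternatingGroup (Fin n)) 2 = n.factorial / ((n - 4).factorial * 8) := by
  classical
  rw [cnt, Nat.card_eq_fintype_card, Fintype.card_subtype,
    ← cycleType_card n {2, 2} (n.factorial / ((n - 4).factorial * 8)) (by interval_cases n <;> decide)]
  refine congrArg Finset.card (Finset.ext fun g => ?_)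
  simp only [Finset.mem_filter, Finset.mem_univ, true_and]
  constructor
  · intro h
    have ho : orderOf (g : Equiv.Perm (Fin n)) = 2 := by rw [Subgroup.orderOf_coe, h]
    obtain ⟨k, hk⟩ := Equiv.Perm.cycleType_prime_order (by rw [ho]; exact Nat.prime_two)
    have hs := Equiv.Perm.sum_cycleType_le (g : Equiv.Perm (Fin n))
    have he := Equiv.Perm.sign_of_cycleType (g : Equiv.Perm (Fin n))
    rw [Equiv.Perm.mem_alternatingGroup.mp g.2, hk, ho] at he
    rw [hk, ho] at hs ⊢
    simp only [Multiset.sum_replicate, smul_eq_mul, Multiset.card_replicate, Fintype.card_fin] at hs he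
    have : k ≤ 2 := by omega
    interval_cases k <;> first | rfl | (exact absurd he (by decide))
  · intro h
    rw [← Subgroup.orderOf_coe, ← Equiv.Perm.lcm_cycleType, h]
    rfl

theorem cnt_five (n : ℕ) (hn : n ≤ 6) (hn5 : 5 ≤ n) :
    cnt (alternatingGroup (Fin n)) 5 = n.factorial / 5 := by
  classical
  rw [cnt, Nat.card_eq_fintype_card, Fintype.card_subtype,
    ← cycleType_card n {5} (n.factorial / 5) (by interval_cases n <;> decide)]
  refine congrArg Finset.card (Finset.ext fun g => ?_)
  simp only [Finset.mem_filter, Finset.mem_univ, true_and]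
  constructor
  · intro h
    have ho : orderOf (g : Equiv.Perm (Fin n)) = 5 := by rw [Subgroup.orderOf_coe, h]
    obtain ⟨k, hk⟩ := Equiv.Perm.cycleType_prime_order (by rw [ho]; norm_num)
    have hs := Equiv.Perm.sum_cycleType_le (g : Equiv.Perm (Fin n))
    rw [hk, ho] at hs ⊢
    simp only [Multiset.sum_replicate, smul_eq_mul, Fintype.card_fin] at hs
    obtain rfl : k = 0 := by omega
    rfl
  · intro h
    rw [← Subgroup.orderOf_coe, ← Equiv.Perm.lcm_cycleType, h]
    rfl

theorem cnt_three (n : ℕ) (hn : n ≤ 6) (hn4 : 4 ≤ n) :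
    cnt (alternatingGroup (Fin n)) 3 = if n = 6 then 80 else n.factorial / ((n - 3).factorial * 3) := by
  classical
  rw [cnt, Nat.card_eq_fintype_card, Fintype.card_subtype]
  have key : (Finset.univ.filter fun g : alternatingGroup (Fin n) => orderOf g = 3) =
      (Finset.univ.filter fun g : alternatingGroup (Fin n) => (g : Equiv.Perm (Fin n)).cycleType = {3}) ∪
      (Finset.univ.filter fun g : alternatingGroup (Fin n) => (g : Equiv.Perm (Fin n)).cycleType = {3, 3}) := by
    ext g
    simp only [Finset.mem_filter, Finset.mem_univ, true_and, Finset.mem_union]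
    constructor
    · intro h
      have ho : orderOf (g : Equiv.Perm (Fin n)) = 3 := by rw [Subgroup.orderOf_coe, h]
      obtain ⟨k, hk⟩ := Equiv.Perm.cycleType_prime_order (by rw [ho]; norm_num)
      have hs := Equiv.Perm.sum_cycleType_le (g : Equiv.Perm (Fin n))
      rw [hk, ho] at hs ⊢
      simp only [Multiset.sum_replicate, smul_eq_mul, Fintype.card_fin] at hs
      have : k ≤ 1 := by omega
      interval_cases k
      · exact Or.inl rfl
      · exact Or.inr rfl
    · rintro (h | h) <;> rw [← Subgroup.orderOf_coe, ← Equiv.Perm.lcm_cycleType, h] <;> rfl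
  rw [key, Finset.card_union_of_disjoint (by
    rw [Finset.disjoint_left]
    intro g h1 h2
    rw [Finset.mem_filter] at h1 h2
    exact absurd (h1.2.symm.trans h2.2) (by decide))]
  interval_cases n
  · rw [cycleType_card 4 {3} 8 (by decide), cycleType_card 4 {3, 3} 0 (by decide)]; rfl
  · rw [cycleType_card 5 {3} 20 (by decide), cycleType_card 5 {3, 3} 0 (by decide)]; rfl
  · rw [cycleType_card 6 {3} 40 (by decide), cycleType_card 6 {3, 3} 40 (by decide)]; rfl

/-- The value set of the counts, from the counts of the possible orders. -/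
theorem image_eq {H : Type*} [Group H] [Finite H] (l : List (ℕ × ℕ))
    (hl : ∀ e ∈ l, cnt H e.1 = e.2 ∧ e.2 ≠ 0) (hr : ∀ g : H, orderOf g ∈ l.map Prod.fst) :
    (fun m : ℕ => Nat.card {g : H // orderOf g = m}) '' Set.range (orderOf : H → ℕ) = {v | v ∈ l.map Prod.snd} := by
  ext v
  constructor
  · rintro ⟨m, ⟨g, rfl⟩, rfl⟩
    obtain ⟨e, he, heg⟩ := List.mem_map.mp (hr g)
    exact List.mem_map.mpr ⟨e, he, by rw [← (hl e he).1, heg]; rfl⟩
  · intro hv
    obtain ⟨e, he, rfl⟩ := List.mem_map.mp hv
    obtain ⟨h1, h2⟩ := hl e he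
    obtain ⟨⟨g, hg⟩⟩ := (Nat.card_ne_zero.1 (h1.symm ▸ h2)).1
    exact ⟨e.1, ⟨g, hg⟩, h1⟩

theorem altFour_image :
    (fun m : ℕ => Nat.card {g : alternatingGroup (Fin 4) // orderOf g = m}) ''
      Set.range (orderOf : alternatingGroup (Fin 4) → ℕ) = {v | v ∈ [1, 3, 8]} := by
  have hp : ∀ g : alternatingGroup (Fin 4), g ^ 2 = 1 ∨ g ^ 3 = 1 := by decide +kernel
  refine image_eq [(1, 1), (2, 3), (3, 8)] ?_ fun g => ?_
  · intro e he
    simp only [List.mem_cons, List.not_mem_nil, or_false] at he
    rcases he with rfl | rfl | rfl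
    · exact ⟨cnt_one, one_ne_zero⟩
    · exact ⟨(cnt_two 4 (by norm_num) le_rfl).trans (by decide), by norm_num⟩
    · exact ⟨(cnt_three 4 (by norm_num) le_rfl).trans (by decide), by norm_num⟩
  · simp only [List.map_cons, List.map_nil, List.mem_cons, List.not_mem_nil, or_false]
    rcases hp g with h | h
    · rcases (Nat.dvd_prime Nat.prime_two).mp (orderOf_dvd_of_pow_eq_one h) with e | e <;> simp [e]
    · rcases (Nat.dvd_prime Nat.prime_three).mp (orderOf_dvd_of_pow_eq_one h) with e | e <;> simp [e]

theorem altFive_image :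
    (fun m : ℕ => Nat.card {g : alternatingGroup (Fin 5) // orderOf g = m}) ''
      Set.range (orderOf : alternatingGroup (Fin 5) → ℕ) = {v | v ∈ [1, 15, 20, 24]} := by
  have hp : ∀ g : alternatingGroup (Fin 5), g ^ 2 = 1 ∨ g ^ 3 = 1 ∨ g ^ 5 = 1 := by decide +kernel
  refine image_eq [(1, 1), (2, 15), (3, 20), (5, 24)] ?_ fun g => ?_
  · intro e he
    simp only [List.mem_cons, List.not_mem_nil, or_false] at he
    rcases he with rfl | rfl | rfl | rfl
    · exact ⟨cnt_one, one_ne_zero⟩
    · exact ⟨(cnt_two 5 (by norm_num) (by norm_num)).trans (by decide), by norm_num⟩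
    · exact ⟨(cnt_three 5 (by norm_num) (by norm_num)).trans (by decide), by norm_num⟩
    · exact ⟨(cnt_five 5 (by norm_num) le_rfl).trans (by decide), by norm_num⟩
  · simp only [List.map_cons, List.map_nil, List.mem_cons, List.not_mem_nil, or_false]
    rcases hp g with h | h | h
    · rcases (Nat.dvd_prime Nat.prime_two).mp (orderOf_dvd_of_pow_eq_one h) with e | e <;> simp [e]
    · rcases (Nat.dvd_prime Nat.prime_three).mp (orderOf_dvd_of_pow_eq_one h) with e | e <;> simp [e]
    · rcases (Nat.dvd_prime (by norm_num : Nat.Prime 5)).mp (orderOf_dvd_of_pow_eq_one h) with e | e <;> simp [e]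

theorem altSix_card : Nat.card (alternatingGroup (Fin 6)) = 360 := by
  rw [nat_card_alternatingGroup, Nat.card_fin]; rfl

theorem altSix_image :
    (fun m : ℕ => Nat.card {g : alternatingGroup (Fin 6) // orderOf g = m}) ''
      Set.range (orderOf : alternatingGroup (Fin 6) → ℕ) = {v | v ∈ [1, 45, 80, 90, 144]} := by
  have hr : ∀ g : alternatingGroup (Fin 6), orderOf g ∈ [1, 2, 3, 4, 5] := fun g => by
    have h : orderOf g ∈ Set.range (orderOf : alternatingGroup (Fin 6) → ℕ) := ⟨g, rfl⟩
    rw [CfsgLib.Recog.altSix_range] at h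
    simpa using h
  have h2 : cnt (alternatingGroup (Fin 6)) 2 = 45 := (cnt_two 6 le_rfl (by norm_num)).trans (by decide)
  have h3 : cnt (alternatingGroup (Fin 6)) 3 = 80 := (cnt_three 6 le_rfl (by norm_num)).trans rfl
  have h5 : cnt (alternatingGroup (Fin 6)) 5 = 144 := (cnt_five 6 le_rfl (by norm_num)).trans (by decide)
  have h4 : cnt (alternatingGroup (Fin 6)) 4 = 90 := by
    classical
    have hsum : (360 : ℕ) = ∑ d ∈ ({1, 2, 3, 4, 5} : Finset ℕ), cnt (alternatingGroup (Fin 6)) d := by
      rw [← altSix_card, Nat.card_eq_fintype_card, ← Finset.card_univ,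
        Finset.card_eq_sum_card_fiberwise (f := orderOf) (t := ({1, 2, 3, 4, 5} : Finset ℕ))
          (fun g _ => by simpa using hr g)]
      refine Finset.sum_congr rfl fun d _ => ?_
      rw [cnt, Nat.card_eq_fintype_card, Fintype.card_subtype]
    simp only [Finset.sum_insert, Finset.mem_insert, Finset.mem_singleton, Finset.sum_singleton,
      OfNat.one_ne_ofNat, Nat.reduceEqDiff, or_self, not_false_eq_true] at hsum
    rw [cnt_one, h2, h3, h5] at hsum
    omega
  refine image_eq [(1, 1), (2, 45), (3, 80), (4, 90), (5, 144)] ?_ hr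
  intro e he
  simp only [List.mem_cons, List.not_mem_nil, or_false] at he
  rcases he with rfl | rfl | rfl | rfl | rfl
  · exact ⟨cnt_one, one_ne_zero⟩
  · exact ⟨h2, by norm_num⟩
  · exact ⟨h3, by norm_num⟩
  · exact ⟨h4, by norm_num⟩
  · exact ⟨h5, by norm_num⟩

section Structure

variable {G : Type*} [Group G] [Finite G]

/-- Sylow counting from the element counts makes the group simple. -/
theorem simple_of_counts {c3 c5 : ℕ} (hT : Nat.card G = 60 ∧ c3 = 20 ∧ c5 = 24 ∨ Nat.card G = 360 ∧ c3 = 80 ∧ c5 = 144)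
    (h3 : cnt G 3 = c3) (h5 : cnt G 5 = c5) (hno : ∀ k, k ∈ [10, 15] → cnt G k = 0) : IsSimpleGroup G := by
  classical
  have : Fact (Nat.Prime 5) := ⟨by norm_num⟩
  have : Fact (Nat.Prime 2) := ⟨Nat.prime_two⟩
  have hcard : Nat.card G = 60 ∨ Nat.card G = 360 := hT.imp And.left And.left
  obtain ⟨x, hx⟩ := exists_prime_orderOf_dvd_card' (G := G) 5 (by rcases hcard with h | h <;> rw [h] <;> norm_num)
  have : Nontrivial G := ⟨⟨x, 1, fun e => by rw [e, orderOf_one] at hx; omega⟩⟩
  -- nothing of order prime to five commutes with `x`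
  have hcomm : ∀ y : G, Commute x y → ¬ 5 ∣ orderOf y → y = 1 := by
    intro y hy hnd
    by_contra h1
    obtain ⟨p, hp, hpd⟩ := Nat.exists_prime_and_dvd (fun e => h1 (orderOf_eq_one_iff.mp e) : orderOf y ≠ 1)
    have hp5 : p ≠ 5 := fun e => hnd (e ▸ hpd)
    have ho : orderOf (x * y ^ (orderOf y / p)) = 5 * p := by
      have hy' := orderOf_pow_orderOf_div (orderOf_pos y).ne' hpd
      rw [(hy.pow_right _).orderOf_mul_eq_mul_orderOf_of_coprime (by
        rw [hx, hy']; exact (Nat.coprime_primes (by norm_num) hp).mpr (Ne.symm hp5)), hx, hy']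
    have hd : p ∣ Nat.card G := hpd.trans (orderOf_dvd_natCard y)
    have hc : cnt G (5 * p) ≠ 0 := Nat.card_ne_zero.2 ⟨⟨⟨_, ho⟩⟩, inferInstance⟩
    have hp23 : p = 2 ∨ p = 3 := by
      have hd' : p ∣ 360 := by rcases hcard with h | h <;> rw [h] at hd
                               · exact hd.trans (by norm_num)
                               · exact hd
      rw [show (360 : ℕ) = 2 ^ 3 * 3 ^ 2 * 5 by norm_num] at hd'
      rcases hp.dvd_mul.mp hd' with h | h
      · rcases hp.dvd_mul.mp h with h | h
        · exact Or.inl ((Nat.prime_dvd_prime_iff_eq hp Nat.prime_two).mp (hp.dvd_of_dvd_pow h))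
        · exact Or.inr ((Nat.prime_dvd_prime_iff_eq hp Nat.prime_three).mp (hp.dvd_of_dvd_pow h))
      · exact absurd ((Nat.prime_dvd_prime_iff_eq hp (by norm_num)).mp h) hp5
    rcases hp23 with rfl | rfl
    · exact hc (hno 10 (by simp))
    · exact hc (hno 15 (by simp))
  refine ⟨fun N hN => ?_⟩
  have hidx := Subgroup.card_mul_index N
  -- `N` contains every element whose order is coprime to its index
  have hall : ∀ k : ℕ, k.Coprime N.index → ∀ g : G, orderOf g = k → g ∈ N := by
    intro k hk g hg
    have h1 : orderOf (g : G ⧸ N) ∣ k := hg ▸ orderOf_map_dvd (QuotientGroup.mk' N) g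
    have h2 : orderOf (g : G ⧸ N) ∣ N.index := orderOf_dvd_natCard _
    have := Nat.eq_one_of_dvd_coprimes hk h1 h2
    exact (QuotientGroup.eq_one_iff g).mp (orderOf_eq_one_iff.mp this)
  have hN1 : cnt G 1 = 1 := cnt_one
  by_cases h5N : 5 ∣ Nat.card N
  · right
    by_contra hne
    have hi2 : 2 ≤ N.index := by
      have h0 : N.index ≠ 0 := Subgroup.index_ne_zero_of_finite
      have h1 : N.index ≠ 1 := fun e => hne (Subgroup.index_eq_one.mp e)
      omega
    have h5i : Nat.Coprime 5 N.index := by
      rw [Nat.Prime.coprime_iff_not_dvd (by norm_num)]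
      intro h
      have : 25 ∣ Nat.card G := hidx ▸ Nat.mul_dvd_mul h5N h
      rcases hcard with h' | h' <;> rw [h'] at this <;> norm_num at this
    have hle5 : c5 + 1 ≤ Nat.card N := by
      rw [← h5, cnt, ← Finite.card_option]
      refine Nat.card_le_card_of_injective (fun o : Option {g : G // orderOf g = 5} =>
        (o.elim 1 fun g => ⟨g.1, hall 5 h5i g.1 g.2⟩ : N)) ?_
      rintro (_ | ⟨a, ha⟩) (_ | ⟨b, hb⟩) e <;> simp only [Option.elim] at e
      · rfl
      · have := congrArg Subtype.val e; simp at this; subst this; simp at hb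
      · have := congrArg Subtype.val e; simp at this; subst this; simp at ha
      · exact congrArg some (Subtype.ext (congrArg Subtype.val e :))
    have hi : N.index = 2 := by
      rcases hT with ⟨h, -, h'⟩ | ⟨h, -, h'⟩ <;> rw [h] at hidx <;> subst h' <;> nlinarith
    have hle35 : c3 + c5 + 1 ≤ Nat.card N := by
      rw [← h3, ← h5, cnt, cnt, ← Nat.card_sum, ← Finite.card_option]
      refine Nat.card_le_card_of_injective (fun o : Option ({g : G // orderOf g = 3} ⊕ {g : G // orderOf g = 5}) =>
        (o.elim 1 (Sum.elim (fun g => ⟨g.1, hall 3 (by rw [hi]; norm_num) g.1 g.2⟩)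
          fun g => ⟨g.1, hall 5 h5i g.1 g.2⟩) : N)) ?_
      rintro (_ | ⟨a, ha⟩ | ⟨a, ha⟩) (_ | ⟨b, hb⟩ | ⟨b, hb⟩) e <;>
        first
          | rfl
          | (have e' := congrArg Subtype.val e; simp at e'; subst e';
             first | rfl | (simp at ha) | (simp at hb) | (rw [ha] at hb; omega))
    rw [hi] at hidx
    rcases hT with ⟨h, h', h''⟩ | ⟨h, h', h''⟩ <;> omega
  left
  -- otherwise `x` acts without fixed points
  have hNfix : ∀ y ∈ N, Commute x y → y = 1 := fun y hy hxy => hcomm y hxy fun h =>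
    h5N (h.trans (Subgroup.orderOf_coe (⟨y, hy⟩ : N) ▸ orderOf_dvd_natCard (⟨y, hy⟩ : N)))
  have hxp : IsPGroup 5 (Subgroup.zpowers x) := IsPGroup.of_card (n := 1) (by rw [Nat.card_zpowers, hx, pow_one])
  have hmod : ∀ H : Subgroup G, H ≤ N → x ∈ Subgroup.normalizer (H : Set G) → Nat.card H ≡ 1 [MOD 5] := by
    intro H hHN hxH
    let A : MulAction (Subgroup.zpowers x) H :=
      { smul := fun z h => ⟨z * h * (z : G)⁻¹, (Subgroup.mem_normalizer_iff.mp
          ((Subgroup.zpowers_le.mpr hxH) z.2) h).mp h.2⟩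
        one_smul := fun h => Subtype.ext (by show ((1 : Subgroup.zpowers x) : G) * h * ((1 : Subgroup.zpowers x) : G)⁻¹ = h; simp)
        mul_smul := fun z w h => Subtype.ext (by
          show ((z * w : Subgroup.zpowers x) : G) * h * ((z * w : Subgroup.zpowers x) : G)⁻¹ =
            (z : G) * ((w : G) * h * (w : G)⁻¹) * (z : G)⁻¹
          push_cast; group) }
    have h := hxp.card_modEq_card_fixedPoints H
    rwa [show Nat.card (MulAction.fixedPoints (Subgroup.zpowers x) H) = 1 from ?_] at h
    rw [Nat.card_eq_one_iff_exists]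
    refine ⟨⟨1, fun z => Subtype.ext (by show (z : G) * ((1 : H) : G) * (z : G)⁻¹ = _; simp)⟩, fun w => ?_⟩
    obtain ⟨⟨y, hy⟩, hyfix⟩ := w
    refine Subtype.ext (Subtype.ext (hNfix y (hHN hy) ?_))
    have : x * y * x⁻¹ = y := congrArg Subtype.val (hyfix ⟨x, Subgroup.mem_zpowers x⟩)
    exact mul_inv_eq_iff_eq_mul.mp this
  have hdvd : Nat.card N ∣ 72 := by
    have h : Nat.card N ∣ 360 := (Subgroup.card_subgroup_dvd_card N).trans
      (by rcases hcard with h | h <;> rw [h] <;> norm_num)
    exact (((Nat.Prime.coprime_iff_not_dvd (by norm_num)).mpr h5N).symm).dvd_of_dvd_mul_left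
      (show Nat.card N ∣ 5 * 72 from h)
  -- an invariant Sylow subgroup for the prime two is trivial
  obtain ⟨Q₀⟩ : Nonempty (Sylow 2 N) := inferInstance
  have hmodN := hmod N le_rfl (Subgroup.mem_normalizer_iff.mpr fun h =>
    ⟨fun hh => hN.conj_mem h hh x, fun hh => by simpa [mul_assoc] using hN.conj_mem _ hh x⁻¹⟩)
  have h2N : ¬ 2 ∣ Nat.card N := by
    intro h2
    have := hN
    letI : MulDistribMulAction (Subgroup.zpowers x) N := MulDistribMulAction.compHom N
      ((MulAut.conjNormal (H := N)).comp (Subgroup.zpowers x).subtype)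
    have hn : ¬ 5 ∣ Nat.card (Sylow 2 N) := fun h => h5N (h.trans (Sylow.card_dvd_index Q₀ |>.trans (Subgroup.index_dvd_card _)))
    obtain ⟨Q, hQ⟩ := hxp.nonempty_fixed_point_of_prime_not_dvd_card (Sylow 2 N) hn
    set Q' := (Q : Subgroup N).map N.subtype
    have hQx : x ∈ Subgroup.normalizer (Q' : Set G) := by
      have e : ∀ z : Subgroup.zpowers x, ((Q : Subgroup N).map (MulAut.conjNormal (z : G)).toMonoidHom) = Q :=
        fun z => congrArg Sylow.toSubgroup (hQ z)
      rw [Subgroup.mem_normalizer_iff]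
      intro h
      have hmem : ∀ z : Subgroup.zpowers x, ∀ q ∈ Q', (z : G) * q * (z : G)⁻¹ ∈ Q' := by
        rintro z _ ⟨q, hq, rfl⟩
        exact ⟨MulAut.conjNormal (z : G) q, e z ▸ Subgroup.mem_map_of_mem _ hq, MulAut.conjNormal_apply _ _⟩
      refine ⟨fun hh => hmem ⟨x, Subgroup.mem_zpowers x⟩ h hh, fun hh => ?_⟩
      simpa [mul_assoc] using hmem ⟨x, Subgroup.mem_zpowers x⟩⁻¹ _ hh
    have hc := hmod Q' (Subgroup.map_subtype_le _) hQx
    rw [Subgroup.card_map_of_injective N.subtype_injective] at hc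
    obtain ⟨j, hj⟩ := Q.2.exists_card_eq
    have hjd : 2 ^ j ∣ 72 := hj ▸ (Subgroup.card_subgroup_dvd_card _).trans hdvd
    have hj1 : j ≤ 3 := by
      by_contra h
      have : 2 ^ 4 ∣ 72 := (pow_dvd_pow 2 (by omega : 4 ≤ j)).trans hjd
      norm_num at this
    have hj0 : j ≠ 0 := by
      intro h0
      subst h0
      exact Q.not_dvd_index (by
        have := (Q : Subgroup N).card_mul_index
        rw [hj, pow_zero, one_mul] at this
        rw [this]; exact h2)
    rw [hj] at hc
    interval_cases j <;> first | omega | (exact absurd hc (by decide))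
  have h9 : Nat.card N ∣ 9 :=
    (((Nat.Prime.coprime_iff_not_dvd Nat.prime_two).mpr h2N).symm.pow_right 3).dvd_of_dvd_mul_left
      (show Nat.card N ∣ 2 ^ 3 * 9 from hdvd)
  refine Subgroup.eq_bot_of_card_eq N ?_
  obtain ⟨j, hj, e⟩ := (Nat.dvd_prime_pow Nat.prime_three (m := 2)).mp h9
  rw [e] at hmodN ⊢
  interval_cases j
  · rfl
  · exact absurd hmodN (by decide)
  · exact absurd hmodN (by decide)

theorem equiv_altFour (hG : Nat.card G = 12) (h3 : cnt G 3 = 8) :
    Nonempty (G ≃* alternatingGroup (Fin 4)) := by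
  classical
  have : Fact (Nat.Prime 3) := ⟨Nat.prime_three⟩
  let P : Sylow 3 G := Classical.arbitrary _
  have hP : ∀ Q : Sylow 3 G, Nat.card (Q : Subgroup G) = 3 := fun Q => by
    rw [Q.card_eq_multiplicity, hG, show Nat.factorization 12 3 = 1 from ?_, pow_one]
    rw [show (12 : ℕ) = 4 * 3 by norm_num, Nat.factorization_mul (by norm_num) (by norm_num)]
    simp [Nat.Prime.factorization_self Nat.prime_three, Nat.factorization_eq_zero_of_not_dvd]
  have hn : Nat.card (Sylow 3 G) = 4 := by
    have h1 : Nat.card (Sylow 3 G) ∣ (P : Subgroup G).index := P.card_dvd_index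
    have hi : (P : Subgroup G).index = 4 := by
      have := (P : Subgroup G).card_mul_index
      rw [hP, hG] at this; omega
    rw [hi] at h1
    have h2 := card_sylow_modEq_one 3 G
    obtain ⟨j, hj, e⟩ := (Nat.dvd_prime_pow Nat.prime_two (m := 2)).mp h1
    rw [e] at h2
    interval_cases j
    · exfalso
      rw [pow_zero, Nat.card_eq_one_iff_unique] at e
      have hsub : ∀ g : {g : G // orderOf g = 3}, g.1 ∈ (P : Subgroup G) := fun g => by
        have hp : IsPGroup 3 (Subgroup.zpowers g.1) := IsPGroup.of_card (n := 1) (by rw [Nat.card_zpowers, g.2, pow_one])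
        obtain ⟨Q, hQ⟩ := hp.exists_le_sylow
        exact (e.1.elim Q P) ▸ hQ (Subgroup.mem_zpowers _)
      have hle := Nat.card_le_card_of_injective (fun g : {g : G // orderOf g = 3} => (⟨g.1, hsub g⟩ : (P : Subgroup G)))
        (fun a b h => Subtype.ext (congrArg Subtype.val h :))
      rw [hP] at hle
      rw [cnt] at h3
      omega
    · exact absurd h2 (by decide)
    · simpa using e
  let e : Sylow 3 G ≃ Fin 4 := Finite.equivFinOfCardEq hn
  let φ : G →* Equiv.Perm (Fin 4) := e.permCongrHom.toMonoidHom.comp (MulAction.toPermHom G (Sylow 3 G))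
  have hφ : Function.Injective φ := by
    rw [injective_iff_map_eq_one]
    intro g hg
    have hg' : ∀ Q : Sylow 3 G, g • Q = Q := fun Q => by
      have h1 : MulAction.toPermHom G (Sylow 3 G) g = 1 :=
        e.permCongrHom.injective (hg.trans (map_one _).symm)
      exact Equiv.Perm.congr_fun h1 Q
    have hmem : ∀ Q : Sylow 3 G, g ∈ (Q : Subgroup G) := fun Q => by
      have hgN : g ∈ Subgroup.normalizer ((Q : Subgroup G) : Set G) := Sylow.smul_eq_iff_mem_normalizer.mp (hg' Q)
      have hidx : (Subgroup.normalizer ((Q : Subgroup G) : Set G)).index = 4 := hn ▸ (Sylow.card_eq_index_normalizer Q).symm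
      have hN : Nat.card (Subgroup.normalizer ((Q : Subgroup G) : Set G)) = 3 := by
        have := (Subgroup.normalizer ((Q : Subgroup G) : Set G)).card_mul_index
        rw [hidx, hG] at this; omega
      exact (Subgroup.eq_of_le_of_card_ge Subgroup.le_normalizer (by rw [hN, hP])).symm ▸ hgN
    by_contra h1
    obtain ⟨Q, Q', hne⟩ : ∃ Q Q' : Sylow 3 G, Q ≠ Q' := by
      by_contra h
      push Not at h
      have : Nat.card (Sylow 3 G) = 1 := Nat.card_eq_one_iff_exists.mpr ⟨P, fun Q => h Q P⟩
      omega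
    refine hne (Sylow.ext ?_)
    have key : ∀ Q : Sylow 3 G, Subgroup.zpowers g = Q := fun Q =>
      Subgroup.eq_of_le_of_card_ge (Subgroup.zpowers_le.mpr (hmem Q)) (by
        rw [hP, Nat.card_zpowers]
        have hd : orderOf g ∣ 3 := by
          rw [← hP Q, ← Nat.card_zpowers]
          exact Subgroup.card_dvd_of_le (Subgroup.zpowers_le.mpr (hmem Q))
        rcases (Nat.dvd_prime Nat.prime_three).mp hd with h | h
        · exact absurd (orderOf_eq_one_iff.mp h) h1
        · rw [h])
    exact (key Q).symm.trans (key Q')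
  have hrange : φ.range = alternatingGroup (Fin 4) := by
    refine Equiv.Perm.eq_alternatingGroup_of_index_eq_two ?_
    have h := φ.range.card_mul_index
    rw [Nat.card_congr (MonoidHom.ofInjective hφ).symm.toEquiv, hG, Nat.card_perm, Nat.card_fin] at h
    simp [Nat.factorial] at h
    omega
  exact ⟨(MonoidHom.ofInjective hφ).trans (MulEquiv.subgroupCongr hrange)⟩

end Structure

/-- Let n be 4, 5 or 6 and let G be a finite group whose set of sizes of same-order classes (the set of numbers #{g : o(g) = m} over the element orders m of G) equals that of the alternating group of degree n. Then G is isomorphic to that alternating group. -/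
theorem result {G : Type*} [Group G] [Finite G] (n : ℕ) (hn : n = 4 ∨ n = 5 ∨ n = 6)
    (h : ((fun m : ℕ => Nat.card {g : G // orderOf g = m}) '' Set.range (orderOf : G → ℕ)) = ((fun m : ℕ => Nat.card {g : ↥(alternatingGroup (Fin n)) // orderOf g = m}) '' Set.range (orderOf : ↥(alternatingGroup (Fin n)) → ℕ))) :
    Nonempty (G ≃* ↥(alternatingGroup (Fin n))) := by
  rcases hn with rfl | rfl | rfl
  · rw [altFour_image] at h
    obtain ⟨hw, hc, hs, -⟩ := tables_ok
    obtain ⟨hsol, -, hT⟩ := counts_eq [1, 3, 8] [] cands_four [(3, 8), (2, 3), (1, 1)] h (by decide)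
      (by decide) (by decide) (by decide) hw hc hs search_four
    exact equiv_altFour hT (hsol (3, 8) (by simp))
  · rw [altFive_image] at h
    obtain ⟨-, -, -, hw, hc, hs, -⟩ := tables_ok
    obtain ⟨hsol, hall, hT⟩ := counts_eq [1, 15, 20, 24] [27, 16, 30] cands_five
      [(5, 24), (3, 20), (2, 15), (1, 1)] h (by decide) (by decide) (by decide) (by decide) hw hc hs search_five
    have := simple_of_counts (c3 := 20) (c5 := 24) (Or.inl ⟨hT, rfl, rfl⟩) (hsol (3, 20) (by simp))
      (hsol (5, 24) (by simp)) fun k hk => by_contra fun h0 => by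
        have := hall k h0
        simp at this hk
        omega
    exact CfsgLib.Geom.equiv_altFive_of_simple_sixty hT
  · rw [altSix_image] at h
    obtain ⟨-, -, -, -, -, -, hw, hc, hs⟩ := tables_ok
    obtain ⟨hsol, hall, hT⟩ := counts_eq [1, 45, 80, 90, 144] [24, 27, 42, 150, 4, 108] cands_six
      [(5, 144), (4, 90), (3, 80), (2, 45), (1, 1)] h (by decide) (by decide) (by decide) (by decide)
      hw hc hs search_six
    have := simple_of_counts (c3 := 80) (c5 := 144) (Or.inr ⟨hT, rfl, rfl⟩) (hsol (3, 80) (by simp))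
      (hsol (5, 144) (by simp)) fun k hk => by_contra fun h0 => by
        have := hall k h0
        simp at this hk
        omega
    have : IsSimpleGroup (alternatingGroup (Fin 6)) := alternatingGroup.isSimpleGroup (by simp)
    exact CfsgLib.ClassK.nonempty_equiv_360 hT altSix_card

end Cfsg.Agent.S3431
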