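import Cfsg.Statements.S3433
import Cfsg.Agent.Lib.Recog.EPOFive.Main
import Cfsg.Agent.S1475
-- import your own Cfsg.Agent.* helpers here

set_option autoImplicit false
open Cfsg

namespace Cfsg.Agent.S3433

/-- A finite group whose set of element orders is exactly {1, 2, 3, 4, 5} is isomorphic to the alternating group of degree 6, or has a normal elementary abelian 2-subgroup with quotient isomorphic to the alternating group of degree 5. -/
theorem result {G : Type*} [Group G] [Finite G] (h : Set.range (orderOf : G → ℕ) = {k : ℕ | 1 ≤ k ∧ k ≤ 5}) :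
    Nonempty (G ≃* ↥(alternatingGroup (Fin 6))) ∨
      ∃ (N : Subgroup G) (_ : N.Normal), Cfsg.IsElementaryAbelian 2 N ∧ Nonempty (G ⧸ N ≃* ↥(alternatingGroup (Fin 5))) := by
  have hG : CfsgLib.Recog.EPOFive.Spec G := fun g => by
    have : orderOf g ∈ Set.range (orderOf : G → ℕ) := ⟨g, rfl⟩
    rw [h] at this
    exact this.2
  have hmem : ∀ k : ℕ, 1 ≤ k → k ≤ 5 → ∃ g : G, orderOf g = k := fun k h1 h2 => by
    have : k ∈ Set.range (orderOf : G → ℕ) := by rw [h]; exact ⟨h1, h2⟩
    exact this
  have hns : ¬ Group.IsSolvable G := by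
    intro hs
    have hpp : ∀ g : G, IsPrimePow (orderOf g) ∨ g = 1 := fun g => by
      rcases hG.orderOf_cases g with e | e | e | e | e
      · exact Or.inr (orderOf_eq_one_iff.1 e)
      · exact Or.inl (e ▸ Nat.prime_two.isPrimePow)
      · exact Or.inl (e ▸ Nat.prime_three.isPrimePow)
      · exact Or.inl (e ▸ ⟨2, 2, Nat.prime_two.prime, by norm_num, rfl⟩)
      · exact Or.inl (e ▸ Nat.prime_five.isPrimePow)
    have hle := Cfsg.Agent.S1475.result hpp
    have hsub : ({2, 3, 5} : Finset ℕ) ⊆ (Nat.card G).primeFactors := by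
      intro p hp
      simp only [Finset.mem_insert, Finset.mem_singleton] at hp
      obtain ⟨g, hg⟩ := hmem p (by omega) (by omega)
      rw [Nat.mem_primeFactors]
      refine ⟨?_, hg ▸ orderOf_dvd_natCard g, Nat.card_pos.ne'⟩
      rcases hp with e | e | e <;> subst e <;> norm_num
    have := (Finset.card_le_card hsub).trans hle
    rw [show ({2, 3, 5} : Finset ℕ).card = 3 by rfl] at this
    omega
  rcases hG.concl_of_insol hns with hc | hc
  · exact Or.inr hc
  · exact Or.inl hc

end Cfsg.Agent.S3433
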