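import Cfsg.Statements.S3437
import Cfsg.Agent.Lib.Recog.FrobeniusTables
import Cfsg.Agent.Lib.Recog.LThreeThree

set_option autoImplicit false
open Cfsg

namespace Cfsg.Agent.S3437

/-- There is a finite solvable group with exactly the same set of element orders as the simple group PSL(3,3). -/
theorem result {F : Type*} [Field F] [Fintype F] (hF : Fintype.card F = 3) :
    ∃ (H : Type) (_ : Group H) (_ : Fintype H), Group.IsSolvable H ∧
      Set.range (orderOf : H → ℕ) = Set.range (orderOf : Matrix.ProjectiveSpecialLinearGroup (Fin 3) F → ℕ) := by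
  haveI : Fact (CfsgLib.Recog.FpfTable.dataThirteen.p).Prime := ⟨by norm_num [CfsgLib.Recog.FpfTable.dataThirteen]⟩
  obtain ⟨H, i1, i2, hs, hr⟩ := CfsgLib.Recog.exists_frobenius_of_table CfsgLib.Recog.FpfTable.dataThirteen
    CfsgLib.Recog.FpfTable.dataThirteen_check (by
      intro o ho q hq hd
      have hle : q ≤ 8 := by
        have h8 : ∀ o ∈ CfsgLib.Recog.FpfTable.dataThirteen.orders, o ≠ 0 ∧ o ≤ 8 := by decide
        exact (Nat.le_of_dvd (Nat.pos_of_ne_zero (h8 o ho).1) hd).trans (h8 o ho).2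
      have key : ∀ o ∈ CfsgLib.Recog.FpfTable.dataThirteen.orders, ¬ 5 ∣ o ∧ ¬ 7 ∣ o := by decide
      interval_cases q <;> first | exact Or.inl rfl | exact Or.inr rfl | exact absurd hd (key o ho).1 | exact absurd hd (key o ho).2 | exact absurd hq (by norm_num))
  exact ⟨H, i1, i2, hs, by rw [hr, CfsgLib.Recog.LThreeThree.range_orderOf_psl hF]; rfl⟩

end Cfsg.Agent.S3437
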