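import Cfsg.Statements.S3439
import Cfsg.Agent.Lib.Recog.SpecPSpFour
import Cfsg.Agent.Lib.Recog.SpecPSpGroup

set_option autoImplicit false
open Cfsg

namespace Cfsg.Agent.S3439

/-- There is a finite solvable group with exactly the same set of element orders as the simple group PSp(4,3). -/
theorem result {F : Type*} [Field F] [Fintype F] (hF : Fintype.card F = 3) :
    ∃ (H : Type) (_ : Group H) (_ : Fintype H), Group.IsSolvable H ∧ Set.range (orderOf : H → ℕ) = Set.range (orderOf : Cfsg.PSp 2 F → ℕ) := by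
  haveI : Fact (Nat.Prime 3) := ⟨by norm_num⟩
  haveI : Fact (Nat.card (GaloisField 3 4) = 81) := ⟨GaloisField.card 3 4 (by norm_num)⟩
  exact ⟨CfsgLib.Recog.SpecPSp.HGroup (GaloisField 3 4), inferInstance, Fintype.ofFinite _,
    CfsgLib.Recog.SpecPSp.isSolvable_HGroup,
    CfsgLib.Recog.SpecPSp.range_orderOf_HGroup.trans (CfsgLib.Recog.SpecPSp.range_orderOf hF).symm⟩


end Cfsg.Agent.S3439
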