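import Cfsg.Statements.S3443


set_option autoImplicit false
open Cfsg

namespace Cfsg.Agent.S3443

/-- Let G be a finite group and V a normal elementary abelian subgroup of G (abelian of prime exponent p, possibly trivial). Then the semidirect product V ⋊ G, with G acting on V by conjugation, has exactly the same set of element orders as G. -/
theorem result {G : Type*} [Group G] [Finite G] (V : Subgroup G) [V.Normal] (p : ℕ) (hp : p.Prime)
    (hcomm : ∀ x y : V, x * y = y * x) (hexp : ∀ x : V, x ^ p = 1) :
    Set.range (orderOf : V ⋊[MulAut.conjNormal] G → ℕ) = Set.range (orderOf : G → ℕ) := by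
  classical
  let μ : V ⋊[MulAut.conjNormal] G →* G :=
    SemidirectProduct.lift V.subtype (MonoidHom.id G) (by
      intro g
      ext v
      simp [MulAut.conjNormal_apply])
  let π : V ⋊[MulAut.conjNormal] G →* G := SemidirectProduct.rightHom
  have hinj : Function.Injective (μ.prod π) := by
    intro x y h
    obtain ⟨h1, h2⟩ := Prod.ext_iff.mp h
    have h2' : x.right = y.right := h2
    have h1' : (x.left : G) * x.right = (y.left : G) * y.right := h1
    rw [h2'] at h1'
    exact SemidirectProduct.ext (Subtype.ext (mul_right_cancel h1')) h2'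
  ext n
  constructor
  · rintro ⟨x, rfl⟩
    set a := μ x with ha
    set b := π x with hb
    have ho : orderOf x = Nat.lcm (orderOf a) (orderOf b) := by
      rw [← orderOf_injective (μ.prod π) hinj x]
      exact Prod.orderOf (a, b)
    have hq : (QuotientGroup.mk a : G ⧸ V) = QuotientGroup.mk b := by
      have : a = (x.left : G) * x.right := rfl
      rw [this, QuotientGroup.mk_mul, (QuotientGroup.eq_one_iff (x.left : G)).mpr x.left.2, one_mul]
      rfl
    set m := orderOf (QuotientGroup.mk a : G ⧸ V)
    have hval : ∀ c : G, orderOf (QuotientGroup.mk c : G ⧸ V) = m → orderOf c = m ∨ orderOf c = m * p := by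
      intro c hc
      obtain ⟨k, hk⟩ : m ∣ orderOf c := hc ▸ orderOf_map_dvd (QuotientGroup.mk' V) c
      have hmp : orderOf c ∣ m * p := by
        apply orderOf_dvd_of_pow_eq_one
        have hmem : c ^ m ∈ V := by
          rw [← QuotientGroup.eq_one_iff, QuotientGroup.mk_pow, ← hc, pow_orderOf_eq_one]
        rw [pow_mul]
        exact congrArg Subtype.val (hexp ⟨_, hmem⟩)
      have hm0 : m ≠ 0 := (orderOf_pos _).ne'
      rw [hk] at hmp
      rcases (Nat.dvd_prime hp).mp ((mul_dvd_mul_iff_left hm0).mp hmp) with e | e
      · exact Or.inl (by rw [hk, e, mul_one])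
      · exact Or.inr (by rw [hk, e])
    rcases hval a rfl with ea | ea <;> rcases hval b (by rw [← hq]) with eb | eb
    · exact ⟨a, by rw [ho, ea, eb, Nat.lcm_self]⟩
    · exact ⟨b, by rw [ho, ea, eb, Nat.lcm_eq_right (dvd_mul_right m p)]⟩
    · exact ⟨a, by rw [ho, ea, eb, Nat.lcm_eq_left (dvd_mul_right m p)]⟩
    · exact ⟨a, by rw [ho, ea, eb, Nat.lcm_self]⟩
  · rintro ⟨g, rfl⟩
    exact ⟨SemidirectProduct.inr g, orderOf_injective _ SemidirectProduct.inr_injective g⟩

end Cfsg.Agent.S3443
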