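import Cfsg.Statements.S3444
import Cfsg.Agent.Lib.Recog.PrimeGraphModule
import Cfsg.Agent.Lib.Solvable.MinNormal
import Cfsg.Agent.S3443

set_option autoImplicit false
open Cfsg

namespace Cfsg.Agent.S3444

/-- A finite group with a non-trivial solvable normal subgroup is not determined by its set of element orders, not even up to finitely many possibilities: for every bound N there is a finite group of order greater than N with exactly the same set of element orders. -/
theorem result {G : Type*} [Group G] [Finite G] (K : Subgroup G) [K.Normal] (hK : K ≠ ⊥)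
    (hs : Group.IsSolvable K) (N : ℕ) :
    ∃ (H : Type) (_ : Group H) (_ : Fintype H), N < Fintype.card H ∧ Set.range (orderOf : H → ℕ) = Set.range (orderOf : G → ℕ) := by
  obtain ⟨V, hVn, hVne, hVK, hmin⟩ := CfsgLib.Solvable.exists_minimal_normal_le (N := K) inferInstance hK
  have : Group.IsSolvable K := hs
  have : Group.IsSolvable V := solvable_of_solvable_injective (Subgroup.inclusion_injective hVK)
  have : IsMulCommutative V := CfsgLib.Solvable.isMulCommutative_of_minimal_normal hVne hmin
  obtain ⟨p, hp, hexp⟩ := CfsgLib.Solvable.exists_prime_pow_eq_one_of_minimal_normal hVne hmin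
  -- iterate `W ↦ W ⋊ H`
  have step : ∀ (j : ℕ), ∃ (H : Type) (_ : Group H) (_ : Fintype H) (W : Subgroup H) (_ : W.Normal),
      W ≠ ⊥ ∧ (∀ x y : W, x * y = y * x) ∧ (∀ x : W, x ^ p = 1) ∧ 2 ^ j ≤ Fintype.card H ∧
      Set.range (orderOf : H → ℕ) = Set.range (orderOf : G → ℕ) := by
    intro j
    induction j with
    | zero =>
      obtain ⟨H, hH, hF, ⟨e⟩⟩ := CfsgLib.Recog.exists_small_model G
      refine ⟨H, hH, hF, V.map e.toMonoidHom, hVn.map _ e.surjective, ?_, ?_, ?_, by simpa using Nat.one_le_iff_ne_zero.mpr (Fintype.card_ne_zero (α := H)), ?_⟩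
      · rwa [Ne, Subgroup.map_eq_bot_iff_of_injective _ e.injective]
      · rintro ⟨_, a, ha, rfl⟩ ⟨_, b, hb, rfl⟩
        apply Subtype.ext
        show e a * e b = e b * e a
        rw [← map_mul, ← map_mul]
        exact congrArg e (congrArg Subtype.val ((inferInstance : IsMulCommutative V).is_comm.comm ⟨a, ha⟩ ⟨b, hb⟩))
      · rintro ⟨_, a, ha, rfl⟩
        apply Subtype.ext
        show (e a) ^ p = 1
        rw [← map_pow, hexp a ha, map_one]
      · ext n
        exact ⟨fun ⟨x, hx⟩ => ⟨e.symm x, by rw [MulEquiv.orderOf_eq, hx]⟩, fun ⟨x, hx⟩ => ⟨e x, by rw [MulEquiv.orderOf_eq, hx]⟩⟩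
    | succ j ih =>
      obtain ⟨H, hH, hF, W, hWn, hWne, hc, he, hcard, hrange⟩ := ih
      let S := W ⋊[MulAut.conjNormal] H
      have : Finite S := Finite.of_equiv _ SemidirectProduct.equivProd.symm
      obtain ⟨H', hH', hF', ⟨e⟩⟩ := CfsgLib.Recog.exists_small_model S
      let ι : W →* H' := e.toMonoidHom.comp SemidirectProduct.inl
      have hι : Function.Injective ι := e.injective.comp SemidirectProduct.inl_injective
      have hn : ι.range.Normal := by
        have h1 : (SemidirectProduct.inl : W →* S).range.Normal := by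
          rw [SemidirectProduct.range_inl_eq_ker_rightHom]; infer_instance
        rw [MonoidHom.range_comp]
        exact h1.map _ e.surjective
      refine ⟨H', hH', hF', ι.range, hn, ?_, ?_, ?_, ?_, ?_⟩
      · intro h
        apply hWne
        rw [MonoidHom.range_eq_bot_iff] at h
        rw [Subgroup.eq_bot_iff_forall]
        intro x hx
        exact congrArg Subtype.val (hι (a₁ := ⟨x, hx⟩) (a₂ := 1) (by simp [h]))
      · rintro ⟨_, a, rfl⟩ ⟨_, b, rfl⟩
        exact Subtype.ext (by show ι a * ι b = ι b * ι a; rw [← map_mul, ← map_mul, hc])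
      · rintro ⟨_, a, rfl⟩
        exact Subtype.ext (by show ι a ^ p = 1; rw [← map_pow, he, map_one])
      · rw [← Nat.card_eq_fintype_card (α := H'), ← Nat.card_congr e.toEquiv, SemidirectProduct.card,
          pow_succ, mul_comm, Nat.card_eq_fintype_card (α := H)]
        exact Nat.mul_le_mul ((Nat.succ_le_iff).mpr (W.one_lt_card_iff_ne_bot.mpr hWne)) hcard
      · rw [← hrange, ← Cfsg.Agent.S3443.result W p hp hc he]
        ext n
        exact ⟨fun ⟨x, hx⟩ => ⟨e.symm x, by rw [MulEquiv.orderOf_eq, hx]⟩, fun ⟨x, hx⟩ => ⟨e x, by rw [MulEquiv.orderOf_eq, hx]⟩⟩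
  obtain ⟨H, hH, hF, -, -, -, -, -, hcard, hr⟩ := step N
  exact ⟨H, hH, hF, lt_of_lt_of_le Nat.lt_two_pow_self hcard, hr⟩

end Cfsg.Agent.S3444
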