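import Cfsg.Statements.S3448
import Cfsg.Agent.Lib.Recog.AltFiveOrders

set_option autoImplicit false
open Cfsg

namespace Cfsg.Agent.S3448

/-- The set of element orders of the direct product of two copies of the alternating group of degree 5 is {1, 2, 3, 5, 6, 10, 15}. (It is shared by the direct product of two Frobenius groups of orders 50 and 75, so this direct product is not determined by its element orders.) -/
theorem result : Set.range (orderOf : alternatingGroup (Fin 5) × alternatingGroup (Fin 5) → ℕ) = {1, 2, 3, 5, 6, 10, 15} := by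
  ext n
  simp only [Set.mem_range, Set.mem_insert_iff, Set.mem_singleton_iff]
  have hr := CfsgLib.Recog.altFive_range
  constructor
  · rintro ⟨⟨a, b⟩, rfl⟩
    rw [Prod.orderOf]
    have ha : orderOf a ∈ ({1, 2, 3, 5} : Set ℕ) := hr ▸ Set.mem_range_self a
    have hb : orderOf b ∈ ({1, 2, 3, 5} : Set ℕ) := hr ▸ Set.mem_range_self b
    simp only [Set.mem_insert_iff, Set.mem_singleton_iff] at ha hb
    rcases ha with e | e | e | e <;> rcases hb with f | f | f | f <;> simp [e, f, Nat.lcm]
  · intro h
    have key : ∀ x y : ℕ, x ∈ ({1, 2, 3, 5} : Set ℕ) → y ∈ ({1, 2, 3, 5} : Set ℕ) → Nat.lcm x y = n →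
        ∃ g : alternatingGroup (Fin 5) × alternatingGroup (Fin 5), orderOf g = n := by
      intro x y hx hy hxy
      rw [← hr] at hx hy
      obtain ⟨⟨a, rfl⟩, ⟨b, rfl⟩⟩ := hx, hy
      exact ⟨(a, b), by rw [Prod.orderOf, hxy]⟩
    rcases h with rfl | rfl | rfl | rfl | rfl | rfl | rfl
    · exact key 1 1 (by simp) (by simp) (by simp)
    · exact key 2 1 (by simp) (by simp) (by simp)
    · exact key 3 1 (by simp) (by simp) (by simp)
    · exact key 5 1 (by simp) (by simp) (by simp)
    · exact key 2 3 (by simp) (by simp) (by simp [Nat.lcm])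
    · exact key 2 5 (by simp) (by simp) (by simp [Nat.lcm])
    · exact key 3 5 (by simp) (by simp) (by simp [Nat.lcm])

end Cfsg.Agent.S3448
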