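import Cfsg.Statements.S3449
import Cfsg.Agent.Lib.Recog.AltFiveOrders

set_option autoImplicit false
open Cfsg

namespace Cfsg.Agent.S3449

/-- The direct product of three copies of the alternating group of degree 5 has exactly the same set of element orders as the cyclic group of order 30, namely the divisors of 30; in particular a direct power of a non-abelian simple group need not be determined by its element orders. -/
theorem result : Set.range (orderOf : alternatingGroup (Fin 5) × alternatingGroup (Fin 5) × alternatingGroup (Fin 5) → ℕ) =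
      Set.range (orderOf : Multiplicative (ZMod 30) → ℕ) := by
  have hr := CfsgLib.Recog.altFive_range
  have hcyc : Set.range (orderOf : Multiplicative (ZMod 30) → ℕ) = {d | d ∣ 30} := by
    ext d
    constructor
    · rintro ⟨g, rfl⟩
      have h := orderOf_dvd_natCard g
      rwa [Nat.card_congr Multiplicative.toAdd, Nat.card_zmod] at h
    · intro hd
      obtain ⟨g, hg⟩ := IsCyclic.exists_ofOrder_eq_natCard (α := Multiplicative (ZMod 30))
      rw [Nat.card_congr Multiplicative.toAdd, Nat.card_zmod] at hg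
      obtain ⟨c, hc⟩ := hd
      refine ⟨g ^ c, ?_⟩
      have hc0 : c ≠ 0 := by rintro rfl; simp at hc
      rw [orderOf_pow' g hc0, hg, hc, Nat.gcd_mul_left_left, Nat.mul_div_cancel _ (Nat.pos_of_ne_zero hc0)]
  rw [hcyc]
  ext n
  constructor
  · rintro ⟨⟨a, b, c⟩, rfl⟩
    show _ ∣ 30
    rw [Prod.orderOf, Prod.orderOf]
    have h30 : ∀ x : alternatingGroup (Fin 5), orderOf x ∣ 30 := fun x => by
      have hx : orderOf x ∈ ({1, 2, 3, 5} : Set ℕ) := hr ▸ Set.mem_range_self x
      simp only [Set.mem_insert_iff, Set.mem_singleton_iff] at hx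
      rcases hx with e | e | e | e <;> simp [e] <;> norm_num
    exact Nat.lcm_dvd (h30 a) (Nat.lcm_dvd (h30 b) (h30 c))
  · intro hn
    have key : ∀ x y z : ℕ, x ∈ ({1, 2, 3, 5} : Set ℕ) → y ∈ ({1, 2, 3, 5} : Set ℕ) →
        z ∈ ({1, 2, 3, 5} : Set ℕ) → Nat.lcm x (Nat.lcm y z) = n →
        ∃ g : alternatingGroup (Fin 5) × alternatingGroup (Fin 5) × alternatingGroup (Fin 5), orderOf g = n := by
      intro x y z hx hy hz hxy
      rw [← hr] at hx hy hz
      obtain ⟨⟨a, rfl⟩, ⟨b, rfl⟩, ⟨c, rfl⟩⟩ := hx, hy, hz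
      exact ⟨(a, b, c), by rw [Prod.orderOf, Prod.orderOf, hxy]⟩
    have hm : n ∈ Nat.divisors 30 := Nat.mem_divisors.mpr ⟨hn, by norm_num⟩
    rw [show Nat.divisors 30 = {1, 2, 3, 5, 6, 10, 15, 30} by decide] at hm
    simp only [Finset.mem_insert, Finset.mem_singleton] at hm
    rcases hm with rfl | rfl | rfl | rfl | rfl | rfl | rfl | rfl
    · exact key 1 1 1 (by simp) (by simp) (by simp) (by simp)
    · exact key 2 1 1 (by simp) (by simp) (by simp) (by simp)
    · exact key 3 1 1 (by simp) (by simp) (by simp) (by simp)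
    · exact key 5 1 1 (by simp) (by simp) (by simp) (by simp)
    · exact key 2 3 1 (by simp) (by simp) (by simp) (by simp [Nat.lcm])
    · exact key 2 5 1 (by simp) (by simp) (by simp) (by simp [Nat.lcm])
    · exact key 3 5 1 (by simp) (by simp) (by simp) (by simp [Nat.lcm])
    · exact key 2 3 5 (by simp) (by simp) (by simp) (by simp [Nat.lcm])

end Cfsg.Agent.S3449
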