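import Cfsg.Statements.S3452
import Cfsg.Agent.Lib.Recog.PGLTwoSpectrum
import Cfsg.Agent.Lib.Recog.PSLTwoCover
import Cfsg.Agent.Lib.Recog.PGLTwoSmall

set_option autoImplicit false
open Cfsg

namespace Cfsg.Agent.S3452

/-- For F a finite field whose number of elements is a prime or equals 9, the group PGL(2,F) = GL(2,F)/Z(GL(2,F)) is not determined by its set of element orders: for every bound N there is a finite group of order greater than N with exactly the same set of element orders as PGL(2,F). -/
theorem result {F : Type*} [Field F] [Fintype F] (hF : (Fintype.card F).Prime ∨ Fintype.card F = 9) (N : ℕ) :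
    ∃ (H : Type) (_ : Group H) (_ : Fintype H), N < Fintype.card H ∧
      Set.range (orderOf : H → ℕ) = Set.range (orderOf : Matrix.GeneralLinearGroup (Fin 2) F ⧸ Subgroup.center (Matrix.GeneralLinearGroup (Fin 2) F) → ℕ) := by
  obtain ⟨c, hc⟩ := CharP.exists F
  obtain ⟨n, hcp, hq⟩ := FiniteField.card F c
  haveI := Fact.mk hcp
  rw [CfsgLib.Recog.pglTwo_range (F := F) c]
  rcases hF with hp | h9
  · have hn : (n : ℕ) = 1 := by
      rw [hq] at hp
      exact hp.eq_one_of_pow
    rw [hn, pow_one] at hq
    rw [hq]
    rcases Nat.lt_or_ge c 5 with h | h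
    · have h2 := hcp.two_le
      interval_cases c
      · exact CfsgLib.Recog.pglTwo_two_unbounded N
      · exact CfsgLib.Recog.pglTwo_three_unbounded N
      · exact absurd hcp (by norm_num)
    · exact CfsgLib.Recog.pglTwo_prime_unbounded h N
  · have hc3 : c = 3 := by
      have h : c ∣ 3 ^ 2 := by
        rw [show (3 : ℕ) ^ 2 = Fintype.card F by rw [h9]; norm_num, hq]
        exact dvd_pow_self c n.ne_zero
      exact (Nat.prime_dvd_prime_iff_eq hcp Nat.prime_three).mp (hcp.dvd_of_dvd_pow h)
    subst hc3
    rw [h9]
    exact CfsgLib.Recog.pglTwo_nine_unbounded N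


end Cfsg.Agent.S3452
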