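import Cfsg.Statements.S3466
import Cfsg.Agent.Lib.Recog.SpecPSpFour
import Cfsg.Agent.Lib.Recog.SpecPSpGroup
import Cfsg.Agent.Lib.KnownC.Spec.SpFourOdd

set_option autoImplicit false
open Cfsg

namespace Cfsg.Agent.S3466

open CfsgLib.Recog.SpecPSp in
theorem three_kernel [Fact (Nat.Prime 3)] [Fact (Nat.card (GaloisField 3 4) = 81)] :
    ∃ (K : Subgroup (HGroup (GaloisField 3 4))) (_ : K.Normal), K ≠ ⊥ ∧ IsPGroup 3 K := by
  refine ⟨(SemidirectProduct.inl : KGroup (GaloisField 3 4) →* HGroup (GaloisField 3 4)).range, ?_, ?_, ?_⟩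
  · show (SemidirectProduct.inl : KGroup (GaloisField 3 4) →* HGroup (GaloisField 3 4)).range.Normal
    rw [SemidirectProduct.range_inl_eq_ker_rightHom]; infer_instance
  · intro he
    have hm : (SemidirectProduct.inl ⟨1, 0, 0, 0, 0, 0, 0⟩ : HGroup (GaloisField 3 4)) ∈
        (SemidirectProduct.inl : KGroup (GaloisField 3 4) →* HGroup (GaloisField 3 4)).range := ⟨_, rfl⟩
    rw [he, Subgroup.mem_bot] at hm
    have h := congrArg (fun g : HGroup (GaloisField 3 4) => g.left.a) hm
    simp at h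
  · rintro ⟨_, v, rfl⟩
    refine ⟨2, Subtype.ext ?_⟩
    show (SemidirectProduct.inl v : HGroup (GaloisField 3 4)) ^ 3 ^ 2 = 1
    rw [← map_pow, show (3 : ℕ) ^ 2 = 9 by norm_num, KGroup.pow_nine, map_one]

/-- Let F be a finite field with q ≥ 3 elements such that q is not of the form 3^(2t+1) with t ≥ 1. Then PSp(4,F) is not determined by its set of element orders, not even up to finitely many groups: for every bound N there is a finite group of order greater than N with exactly the same set of element orders as PSp(4,F). -/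
theorem result {F : Type*} [Field F] [Fintype F] (h3 : 3 ≤ Fintype.card F) (hq : ∀ t : ℕ, 1 ≤ t → Fintype.card F ≠ 3 ^ (2 * t + 1)) (N : ℕ) :
    ∃ (H : Type) (_ : Group H) (_ : Fintype H), N < Fintype.card H ∧ Set.range (orderOf : H → ℕ) = Set.range (orderOf : Cfsg.PSp 2 F → ℕ) := by
  obtain ⟨p, hchar⟩ := CharP.exists F
  obtain ⟨m, hp, hcard⟩ := FiniteField.card F p
  haveI := Fact.mk hp
  have hm : 1 ≤ (m : ℕ) := m.pos
  have hc3 : CharP F 3 → p = 3 := fun h => CharP.eq F hchar h
  by_cases hthree : Fintype.card F = 3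
  · -- `q = 3`
    haveI : Fact (Nat.Prime 3) := ⟨by norm_num⟩
    haveI : Fact (Nat.card (GaloisField 3 4) = 81) := ⟨GaloisField.card 3 4 (by norm_num)⟩
    obtain ⟨K', hnorm, hne, hK'⟩ := three_kernel
    obtain ⟨H, i1, i2, hN, hR⟩ := CfsgLib.KnownC.FibrePower.exists_large K' (by norm_num : Nat.Prime 3) hK' hne N
    exact ⟨H, i1, i2, hN, hR.trans (CfsgLib.Recog.SpecPSp.range_orderOf_HGroup.trans
      (CfsgLib.Recog.SpecPSp.range_orderOf hthree).symm)⟩
  let K := GaloisField p (2 * (m : ℕ))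
  haveI : Fintype K := Fintype.ofFinite K
  have hK : Fintype.card K = (p ^ (m : ℕ)) ^ 2 := by
    rw [← Nat.card_eq_fintype_card, GaloisField.card p _ (by omega), ← pow_mul, mul_comm]
  rw [CfsgLib.KnownC.Spec.SpFour.range_orderOf (F := F) p, hcard]
  rcases le_or_gt 5 p with h5 | h5
  · exact CfsgLib.KnownC.Spec.SpFour.large_odd (K := K) p m hK hm h5 N
  · have h2 := hp.two_le
    obtain rfl | rfl | rfl : p = 2 ∨ p = 3 ∨ p = 4 := by omega
    · exact CfsgLib.KnownC.Spec.SpFour.large_even (K := K) 2 m hK hm rfl N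
    · refine CfsgLib.KnownC.Spec.SpFour.large_three (K := K) 3 m hK hm rfl ?_ N
      rcases Nat.even_or_odd' (m : ℕ) with ⟨t, ht | ht⟩
      · exact ⟨t, by omega⟩
      · exfalso
        rcases Nat.eq_zero_or_pos t with rfl | ht0
        · exact hthree (by rw [hcard, ht]; norm_num)
        · exact hq t ht0 (by rw [hcard, ht])
    · exact absurd hp (by norm_num)

end Cfsg.Agent.S3466
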