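import Cfsg.Statements.S3488
import Cfsg.Agent.Lib.Recog.AffineSpectrum

set_option autoImplicit false
open Cfsg

namespace Cfsg.Agent.S3488

open Matrix in
/-- The affine matrix of a translation vector and a linear part. -/
def affMat {F : Type*} [Field F] (v : Fin 2 → F) (g : Matrix (Fin 2) (Fin 2) F) : Matrix (Fin 3) (Fin 3) F :=
  !![g 0 0, g 0 1, v 0; g 1 0, g 1 1, v 1; 0, 0, 1]

open Matrix in
theorem affMat_mul {F : Type*} [Field F] (v w : Fin 2 → F) (g h : Matrix (Fin 2) (Fin 2) F) :
    affMat v g * affMat w h = affMat (v + g *ᵥ w) (g * h) := by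
  ext i j
  fin_cases i <;> fin_cases j <;>
    simp [affMat, Matrix.mul_apply, Fin.sum_univ_two, Fin.sum_univ_three, Matrix.mulVec, dotProduct] <;> ring

open Matrix in
theorem det_affMat {F : Type*} [Field F] (v : Fin 2 → F) (g : Matrix (Fin 2) (Fin 2) F) :
    (affMat v g).det = g.det := by
  simp [affMat, Matrix.det_fin_three, Matrix.det_fin_two]

/-- Let F be the field with four elements. The affine group F² ⋊ SL(2,F), realised as the subgroup of SL(3,F) of matrices with last row (0, 0, 1), has exactly the same set of element orders as the alternating group of degree 6 (namely {1, 2, 3, 4, 5}); so the alternating group of degree 6 is not determined by its element orders. -/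
theorem result {F : Type*} [Field F] [Fintype F] (hF : Fintype.card F = 4) :
    Set.range (orderOf : Subgroup.closure {M : Matrix.SpecialLinearGroup (Fin 3) F |
        (M : Matrix (Fin 3) (Fin 3) F) 2 0 = 0 ∧ (M : Matrix (Fin 3) (Fin 3) F) 2 1 = 0 ∧ (M : Matrix (Fin 3) (Fin 3) F) 2 2 = 1} → ℕ) =
      Set.range (orderOf : alternatingGroup (Fin 6) → ℕ) := by
  rw [CfsgLib.Recog.altSix_range, ← CfsgLib.Recog.affine_sl2_four_range hF 1 one_pos]
  let φ := CfsgLib.Recog.tupleAut
      (Matrix.SpecialLinearGroup.toGL : Matrix.SpecialLinearGroup (Fin 2) F →* GL (Fin 2) F) 1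
  let ψ : Multiplicative (Fin 1 → Fin 2 → F) ⋊[φ] Matrix.SpecialLinearGroup (Fin 2) F →*
      Matrix.SpecialLinearGroup (Fin 3) F :=
    MonoidHom.mk' (fun y => ⟨affMat (y.left.toAdd 0) y.right.1, by rw [det_affMat]; exact y.right.2⟩) fun y z => by
      apply Subtype.ext
      show affMat ((y * z).left.toAdd 0) (y * z).right.1 =
        affMat (y.left.toAdd 0) y.right.1 * affMat (z.left.toAdd 0) z.right.1
      rw [affMat_mul]
      rfl
  have hψ : Function.Injective ψ := by
    intro y z h
    have h' : affMat (y.left.toAdd 0) y.right.1 = affMat (z.left.toAdd 0) z.right.1 := congrArg Subtype.val h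
    have e : ∀ i j, affMat (y.left.toAdd 0) y.right.1 i j = affMat (z.left.toAdd 0) z.right.1 i j :=
      fun i j => by rw [h']
    refine SemidirectProduct.ext ?_ ?_
    · apply Multiplicative.toAdd.injective
      funext i j
      fin_cases i
      fin_cases j
      · simpa [affMat] using e 0 2
      · simpa [affMat] using e 1 2
    · ext i j
      fin_cases i <;> fin_cases j
      · simpa [affMat] using e 0 0
      · simpa [affMat] using e 0 1
      · simpa [affMat] using e 1 0
      · simpa [affMat] using e 1 1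
  have hrange : Subgroup.closure {M : Matrix.SpecialLinearGroup (Fin 3) F |
      (M : Matrix (Fin 3) (Fin 3) F) 2 0 = 0 ∧ (M : Matrix (Fin 3) (Fin 3) F) 2 1 = 0 ∧
        (M : Matrix (Fin 3) (Fin 3) F) 2 2 = 1} = ψ.range := by
    apply le_antisymm
    · rw [Subgroup.closure_le]
      rintro M ⟨h0, h1, h2⟩
      let g : Matrix (Fin 2) (Fin 2) F := !![M.1 0 0, M.1 0 1; M.1 1 0, M.1 1 1]
      have hg : affMat ![M.1 0 2, M.1 1 2] g = M.1 := by
        ext i j
        fin_cases i <;> fin_cases j <;> simp [affMat, g, h0, h1, h2]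
      refine ⟨⟨Multiplicative.ofAdd fun _ => ![M.1 0 2, M.1 1 2], ⟨g, ?_⟩⟩, Subtype.ext hg⟩
      rw [← det_affMat ![M.1 0 2, M.1 1 2], hg]
      exact M.2
    · rintro _ ⟨y, rfl⟩
      have hval : (ψ y).1 = affMat (y.left.toAdd 0) y.right.1 := rfl
      exact Subgroup.subset_closure ⟨by rw [hval]; simp [affMat], by rw [hval]; simp [affMat], by rw [hval]; simp [affMat]⟩
  rw [hrange]
  ext n
  constructor
  · rintro ⟨⟨_, y, rfl⟩, rfl⟩
    exact ⟨y, by rw [← Subgroup.orderOf_coe, orderOf_injective ψ hψ]⟩
  · rintro ⟨y, rfl⟩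
    exact ⟨⟨ψ y, y, rfl⟩, by rw [← Subgroup.orderOf_coe, orderOf_injective ψ hψ]⟩

end Cfsg.Agent.S3488
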