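import Cfsg.Statements.S3491
import Cfsg.Agent.Lib.Recog.AffineSpectrum

set_option autoImplicit false
open Cfsg

namespace Cfsg.Agent.S3491

/-- The alternating group of degree 6 is not determined by its set of element orders, not even up to finitely many groups: for every bound N there is a finite group of order greater than N with exactly the same set of element orders as the alternating group of degree 6. -/
theorem result (N : ℕ) : ∃ (H : Type) (_ : Group H) (_ : Fintype H), N < Fintype.card H ∧ Set.range (orderOf : H → ℕ) = Set.range (orderOf : alternatingGroup (Fin 6) → ℕ) := by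
  let K := GaloisField 2 2
  have : Fintype K := Fintype.ofFinite K
  have hK : Fintype.card K = 4 := by
    rw [← Nat.card_eq_fintype_card, GaloisField.card 2 2 (by norm_num)]; norm_num
  let S := Multiplicative (Fin (N + 1) → Fin 2 → K) ⋊[CfsgLib.Recog.tupleAut
      (Matrix.SpecialLinearGroup.toGL : Matrix.SpecialLinearGroup (Fin 2) K →* GL (Fin 2) K) (N + 1)]
        Matrix.SpecialLinearGroup (Fin 2) K
  have : Finite S := Finite.of_equiv _ SemidirectProduct.equivProd.symm
  obtain ⟨H, hH, hF, ⟨e⟩⟩ := CfsgLib.Recog.exists_small_model S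
  refine ⟨H, hH, hF, ?_, ?_⟩
  · rw [← Nat.card_eq_fintype_card, ← Nat.card_congr e.toEquiv, SemidirectProduct.card]
    have h1 : Nat.card (Multiplicative (Fin (N + 1) → Fin 2 → K)) = (4 ^ 2) ^ (N + 1) := by
      rw [Nat.card_congr Multiplicative.toAdd, Nat.card_fun, Nat.card_fun, Nat.card_fin, Nat.card_fin,
        Nat.card_eq_fintype_card, hK]
    rw [h1]
    have h2 : N < (4 ^ 2) ^ (N + 1) :=
      (Nat.lt_succ_self N).trans ((Nat.lt_pow_self (by norm_num)))
    exact lt_of_lt_of_le h2 (Nat.le_mul_of_pos_right _ Nat.card_pos)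
  · rw [CfsgLib.Recog.altSix_range, ← CfsgLib.Recog.affine_sl2_four_range hK (N + 1) (by omega)]
    ext n
    exact ⟨fun ⟨x, hx⟩ => ⟨e.symm x, by rw [MulEquiv.orderOf_eq, hx]⟩,
      fun ⟨x, hx⟩ => ⟨e x, by rw [MulEquiv.orderOf_eq, hx]⟩⟩

end Cfsg.Agent.S3491
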