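import Cfsg.Statements.S3493
import Cfsg.Agent.Lib.Recog.DerangeClasses
import Cfsg.Agent.Lib.Recog.ClassAction
import Mathlib.GroupTheory.GroupAction.Blocks
import Mathlib.Tactic.Group

set_option autoImplicit false
open Cfsg MulAction
open scoped Pointwise

namespace Cfsg.Agent.S3493

open MulAction Subgroup CfsgLib.Recog in
/-- The regular case: `T` and its centralizer are both transitive. -/
theorem regular_case {G : Type*} [Group G] [Finite G] {Ω : Type*} [MulAction G Ω] [FaithfulSMul G Ω]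
    (a : Ω) {N T : Subgroup G} (hT : IsFactor N T) (htT : IsPretransitive T Ω)
    (htC : IsPretransitive (centralizer (T : Set G)) Ω)
    (hmax : ∀ b : Ω, b ≠ a → IsCoatom ((stabilizer G b).subgroupOf (stabilizer G a))) : False := by
  have hs := hT.simple
  have hreg : ∀ t ∈ T, t • a = a → t = 1 := by
    intro t ht hta
    refine eq_of_smul_eq_smul (α := Ω) fun ω => ?_
    obtain ⟨⟨c, hc⟩, rfl⟩ := exists_smul_eq (centralizer (T : Set G)) a ω
    rw [one_smul, Subgroup.mk_smul, smul_smul, mem_centralizer_iff.mp hc t ht, mul_smul, hta]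
  have hsurj : ∀ ω : Ω, ∃ t : T, (t : G) • a = ω := fun ω => exists_smul_eq T a ω
  choose e he using hsurj
  have huniq : ∀ (t : T) (ω : Ω), (t : G) • a = ω → e ω = t := by
    intro t ω h
    have := hreg _ (mul_mem (inv_mem t.2) (e ω).2) (by rw [mul_smul, he, ← h, inv_smul_smul])
    exact Subtype.ext (inv_mul_eq_one.mp this).symm
  letI act : MulAction (stabilizer G a) T :=
  { smul := fun h t => e ((h : G) • (t : G) • a)
    one_smul := fun t => huniq _ _ (one_smul G _).symm
    mul_smul := fun h k t => by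
      show e (((h * k : stabilizer G a) : G) • (t : G) • a) =
        e ((h : G) • (e ((k : G) • (t : G) • a) : G) • a)
      rw [he, Subgroup.coe_mul, mul_smul] }
  have hsmul : ∀ (h : stabilizer G a) (t : T), ((h • t : T) : G) • a = (h : G) • (t : G) • a :=
    fun h t => he _
  have hh1 : ∀ h : stabilizer G a, h • (1 : T) = 1 := fun h => huniq _ _ (by
    rw [Subgroup.coe_one, one_smul, mem_stabilizer_iff.mp h.2])
  have hmul : ∀ h : stabilizer G a, (∀ s t : T, h • (s * t) = h • s * h • t) ∨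
      (∀ s t : T, h • (s * t) = h • t * h • s) := by
    intro h
    have hconj : ∀ t : T, (h : G) • (t : G) • a = ((h : G) * t * (h : G)⁻¹) • a := fun t => by
      rw [mul_smul, mul_smul, inv_smul_eq_iff.mpr (mem_stabilizer_iff.mp h.2).symm]
    rcases hT.eq_or_le_centralizer (h : G) with hc | hc
    · left
      have key : ∀ t : T, ((h • t : T) : G) = (h : G) * t * (h : G)⁻¹ := fun t =>
        congrArg Subtype.val (huniq ⟨_, hc.le (conj_mem_cj t.2)⟩ _ (hconj t).symm)
      intro s t
      apply Subtype.ext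
      rw [Subgroup.coe_mul, key, key, key, Subgroup.coe_mul]; group
    · right
      intro s t
      refine huniq _ _ ?_
      have h1 := hc (conj_mem_cj (g := (h : G)) s.2)
      rw [hconj, Subgroup.coe_mul, Subgroup.coe_mul, mul_smul,
        show (h : G) * ((s : G) * t) * (h : G)⁻¹ =
          ((h : G) * s * (h : G)⁻¹) * ((h : G) * t * (h : G)⁻¹) by group,
        mul_smul, hsmul h s, hconj, ← mul_smul, ← mul_smul,
        mem_centralizer_iff.mp h1 _ (h • t).2, mul_smul, mul_smul ((h : G) * s * (h : G)⁻¹),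
        hsmul h t, hconj]
  refine exists_stabilizer_not_coatom (T := T) (H := stabilizer G a) ?_ hh1 ?_ ?_ ?_ ?_
  · exact hT.nonabelian
  · intro h x n
    induction n with
    | zero => rw [pow_zero, pow_zero, hh1]
    | succ n ih =>
      rcases hmul h with hm | hm
      · rw [pow_succ, pow_succ, hm, ih]
      · rw [pow_succ, pow_succ', hm, ih]
  · intro h x y hxy
    rcases hmul h with hm | hm
    · rw [← hm, hxy, hm]
    · rw [← hm, ← hxy, hm]
  · intro t
    obtain ⟨⟨c, hc⟩, hca⟩ := exists_smul_eq (centralizer (T : Set G)) a ((t : G)⁻¹ • a)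
    rw [Subgroup.mk_smul] at hca
    refine ⟨⟨(t : G) * c, ?_⟩, fun x => huniq _ _ ?_⟩
    · rw [mem_stabilizer_iff, mul_smul, hca, smul_inv_smul]
    · show ((t * x * t⁻¹ : T) : G) • a = ((t : G) * c) • (x : G) • a
      rw [← mul_smul, mul_assoc (t : G) c x, ← mem_centralizer_iff.mp hc _ x.2, ← mul_assoc (t : G) x c, mul_smul _ c a, hca,
        ← mul_smul]
      simp only [Subgroup.coe_mul, Subgroup.coe_inv]
  · intro x hx
    have hxa : (x : G) • a ≠ a := fun h => hx (Subtype.ext (hreg _ x.2 h))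
    have e' : MulAction.stabilizer (stabilizer G a) x =
        (stabilizer G ((x : G) • a)).subgroupOf (stabilizer G a) := by
      ext h
      rw [mem_stabilizer_iff, mem_subgroupOf, mem_stabilizer_iff]
      constructor
      · intro h'
        rw [← hsmul h x, h']
      · intro h'
        exact huniq _ _ h'.symm
    rw [e']
    exact hmax _ hxa

/-- An extremely primitive permutation group is of affine type or almost simple. Let a finite group G act faithfully and primitively on a finite set Ω with at least two points, in such a way that every point stabilizer acts primitively on each of its own orbits in Ω (an orbit of size one counts as primitive). Then either G has a non-trivial abelian normal subgroup whose elements other than the identity fix no point (affine type), or G has a non-abelian simple normal subgroup with trivial centralizer (almost simple). -/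
theorem result {G : Type*} [Group G] [Finite G] {Ω : Type*} [Fintype Ω] [MulAction G Ω] [FaithfulSMul G Ω] (hΩ : 2 ≤ Fintype.card Ω) (hprim : MulAction.IsPreprimitive G Ω) (hep : ∀ (α : Ω) (ω : Ω), MulAction.IsPreprimitive (MulAction.stabilizer G α) (MulAction.orbit (MulAction.stabilizer G α) ω)) :
    (∃ N : Subgroup G, N.Normal ∧ N ≠ ⊥ ∧ IsMulCommutative N ∧ ∀ ω : Ω, MulAction.stabilizer N ω = ⊥) ∨ (∃ T : Subgroup G, T.Normal ∧ IsSimpleGroup T ∧ ¬ IsMulCommutative T ∧ Subgroup.centralizer (T : Set G) = ⊥) := by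
  have : Nontrivial Ω := Fintype.one_lt_card_iff_nontrivial.mp (by omega)
  obtain ⟨α⟩ := (inferInstance : Nonempty Ω)
  have : Nontrivial G := by
    obtain ⟨g, hg⟩ := CfsgLib.Recog.exists_derangement G Ω
    exact ⟨g, 1, fun e => hg α (by rw [e, one_smul])⟩
  obtain ⟨N, hN, hne, hmin⟩ := CfsgLib.Solvable.exists_minimal_normal (G := G)
  by_cases hab : IsMulCommutative N
  · exact Or.inl ⟨N, hN, hne, hab, (CfsgLib.Recog.abelian_minimal_normal (Ω := Ω) hne hmin).2.2⟩
  obtain ⟨T, hT⟩ := CfsgLib.Recog.exists_isFactor hN hne hmin hab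
  rcases hT.almost_simple_or with h | hC
  · exact Or.inr h
  exfalso
  have htN := CfsgLib.Perm.normal_isPretransitive (α := Ω) hne
  have htG : IsPretransitive G Ω := hprim.toIsPretransitive
  have hcoat : ∀ x : Ω, IsCoatom (stabilizer G x) := fun x =>
    IsPreprimitive.isCoatom_stabilizer_of_isPreprimitive (G := G) x
  -- point stabilizers fix only their point
  have hstab : stabilizer G α ≠ ⊥ := by
    intro hb
    apply hab
    have hc : ∀ x y : G, x * y = y * x := by
      intro x y
      by_cases hx : x = 1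
      · rw [hx, one_mul, mul_one]
      have : Subgroup.zpowers x = ⊤ := (hcoat α).2 _ (by
        rw [hb, bot_lt_iff_ne_bot]; simpa using hx)
      obtain ⟨k, rfl⟩ := Subgroup.mem_zpowers_iff.mp (this ▸ Subgroup.mem_top y)
      exact (Commute.zpow_right (Commute.refl x) k)
    exact ⟨⟨fun x y => Subtype.ext (hc x y)⟩⟩
  have hmove : ∀ b : Ω, b ≠ α → ¬ stabilizer G α ≤ stabilizer G b := by
    intro b hb hle
    have heq : stabilizer G α = stabilizer G b := by
      by_contra hne'
      exact (hcoat b).1 ((hcoat α).2 _ (lt_of_le_of_ne hle hne'))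
    obtain ⟨g, hg⟩ := exists_smul_eq G α b
    have hgn : g ∈ Subgroup.normalizer (stabilizer G α : Set G) := by
      refine Subgroup.mem_normalizer_iff.mpr fun y => ?_
      conv_rhs => rw [heq]
      rw [mem_stabilizer_iff, mem_stabilizer_iff, ← hg, mul_smul, mul_smul, inv_smul_smul,
        smul_left_cancel_iff]
    have hgs : g ∉ stabilizer G α := fun h => hb (hg.symm.trans h)
    have htop : Subgroup.normalizer (stabilizer G α : Set G) = ⊤ :=
      (hcoat α).2 _ (SetLike.lt_iff_le_and_exists.mpr ⟨Subgroup.le_normalizer, g, hgn, hgs⟩)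
    have hn : (stabilizer G α).Normal := Subgroup.normalizer_eq_top_iff.mp htop
    have := CfsgLib.Perm.normal_isPretransitive (α := Ω) hstab
    obtain ⟨⟨m, hm⟩, hmb⟩ := exists_smul_eq (stabilizer G α) α b
    exact hb (hmb.symm.trans hm)
  have hmax : ∀ b : Ω, b ≠ α →
      IsCoatom ((stabilizer G b).subgroupOf (stabilizer G α)) := by
    intro b hb
    have := hep α b
    have : Nontrivial (orbit (stabilizer G α) b) := by
      obtain ⟨g, hg, hgb⟩ := SetLike.not_le_iff_exists.mp (hmove b hb)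
      exact ⟨⟨g • b, ⟨⟨g, hg⟩, rfl⟩⟩, ⟨b, mem_orbit_self b⟩,
        fun e => hgb (mem_stabilizer_iff.mpr (congrArg Subtype.val e))⟩
    have e : MulAction.stabilizer (stabilizer G α) (⟨b, mem_orbit_self b⟩ : orbit (stabilizer G α) b)
        = (stabilizer G b).subgroupOf (stabilizer G α) := by
      ext h
      rw [mem_stabilizer_iff, Subgroup.mem_subgroupOf, mem_stabilizer_iff, Subtype.ext_iff]
      rfl
    rw [← e]
    exact IsPreprimitive.isCoatom_stabilizer_of_isPreprimitive (G := stabilizer G α) _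
  by_cases htT : IsPretransitive T Ω
  · refine regular_case α hT htT ?_ hmax
    by_cases hTn : ∀ g : G, CfsgLib.Recog.cj g T = T
    · have : T.Normal := ⟨fun y hy g => (hTn g).le (CfsgLib.Recog.conj_mem_cj hy)⟩
      exact CfsgLib.Perm.normal_isPretransitive hC
    · push Not at hTn
      obtain ⟨g, hg⟩ := hTn
      have hle := (hT.eq_or_le_centralizer g).resolve_left hg
      refine ⟨fun x y => ?_⟩
      obtain ⟨⟨t, ht⟩, hta⟩ := exists_smul_eq T (g⁻¹ • x) (g⁻¹ • y)
      rw [Subgroup.mk_smul] at hta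
      refine ⟨⟨g * t * g⁻¹, hle (CfsgLib.Recog.conj_mem_cj ht)⟩, ?_⟩
      rw [Subgroup.mk_smul, mul_smul, mul_smul, hta, smul_inv_smul]
  -- the intransitive case
  let S : Ω → Set (Subgroup G) := fun b =>
    {U | (∃ g : G, U = CfsgLib.Recog.cj g T) ∧ ∃ u ∈ U, u • α = b}
  have hSmap : ∀ h ∈ stabilizer G α, ∀ (b : Ω) (U : Subgroup G), U ∈ S b →
      CfsgLib.Recog.cj h U ∈ S (h • b) := by
    rintro h hh b U ⟨⟨g, rfl⟩, u, hu, hub⟩
    refine ⟨⟨h * g, (CfsgLib.Recog.cj_mul h g T).symm⟩, h * u * h⁻¹,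
      CfsgLib.Recog.conj_mem_cj hu, ?_⟩
    rw [mul_smul, mul_smul, inv_smul_eq_iff.mpr (mem_stabilizer_iff.mp hh).symm, hub]
  have hconjN : ∀ U : Subgroup G, (∃ g : G, U = CfsgLib.Recog.cj g T) →
      N ≤ Subgroup.normalizer (U : Set G) := by
    rintro U ⟨g, rfl⟩
    have := CfsgLib.Recog.le_normalizer_cj (g := g) hT.le_normalizer
    rwa [CfsgLib.Recog.cj_eq_self_of_normal g hN] at this
  have hself : ∀ {U : Subgroup G} {k : G}, k ∈ Subgroup.normalizer (U : Set G) →
      CfsgLib.Recog.cj k U = U := by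
    intro U k hk
    ext x
    rw [CfsgLib.Recog.mem_cj, Subgroup.mem_normalizer_iff.mp hk (k⁻¹ * x * k),
      show k * (k⁻¹ * x * k) * k⁻¹ = x by group]
  have hconjH : ∀ g : G, ∃ h ∈ stabilizer G α,
      CfsgLib.Recog.cj g T = CfsgLib.Recog.cj h T := by
    intro g
    obtain ⟨⟨n, hn⟩, hna⟩ := exists_smul_eq N α (g • α)
    rw [Subgroup.mk_smul] at hna
    refine ⟨n⁻¹ * g, by rw [mem_stabilizer_iff, mul_smul, ← hna, inv_smul_smul], ?_⟩
    rw [CfsgLib.Recog.cj_mul, hself (hconjN _ ⟨g, rfl⟩ (inv_mem hn))]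
  have hSeq : ∀ h ∈ stabilizer G α, ∀ b c : Ω, S b = S c → S (h • b) = S (h • c) := by
    have hle : ∀ h ∈ stabilizer G α, ∀ b c : Ω, S b ⊆ S c → S (h • b) ⊆ S (h • c) := by
      intro h hh b c hbc U hU
      have h1 := hSmap h⁻¹ (inv_mem hh) _ U hU
      rw [inv_smul_smul] at h1
      have h2 := hSmap h hh _ _ (hbc h1)
      rwa [← CfsgLib.Recog.cj_mul, mul_inv_cancel, CfsgLib.Recog.cj_one] at h2
    exact fun h hh b c hbc => (hle h hh b c hbc.le).antisymm (hle h hh c b hbc.ge)
  have hsingle : ∀ t ∈ T, t • α ≠ α → ∀ c ∈ orbit (stabilizer G α) (t • α),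
      S c = S (t • α) → c = t • α := by
    intro t ht hta c hc hSc
    set b := t • α with hb
    have := hep α b
    let P : Set (orbit (stabilizer G α) b) := {x | S x.1 = S b}
    have hP : IsBlock (stabilizer G α) P := by
      rw [isBlock_iff_smul_eq_of_nonempty]
      intro h hne'
      obtain ⟨x, ⟨y, hy, hyx⟩, hxP⟩ := hne'
      have hhb : S ((h : G) • b) = S b := by
        rw [← hSeq _ h.2 y.1 b hy]
        have : ((h : G) • y.1) = x.1 := congrArg Subtype.val hyx
        rw [this]; exact hxP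
      ext z
      rw [Set.mem_smul_set_iff_inv_smul_mem]
      show S ((h⁻¹ • z : orbit (stabilizer G α) b) : Ω) = S b ↔ S z.1 = S b
      rw [orbit.coe_smul, Subgroup.smul_def, Subgroup.coe_inv]
      constructor
      · intro hz
        have := hSeq _ h.2 _ _ hz
        rwa [smul_inv_smul, hhb] at this
      · intro hz
        have := hSeq _ (inv_mem h.2) _ _ (hz.trans hhb.symm)
        rwa [inv_smul_smul] at this
    rcases hP.subsingleton_or_eq_univ with hs | hu
    · exact congrArg Subtype.val (hs (show (⟨c, hc⟩ : orbit (stabilizer G α) b) ∈ P from hSc)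
        (show (⟨b, mem_orbit_self b⟩ : orbit (stabilizer G α) b) ∈ P from rfl))
    exfalso
    apply htT
    have hall : ∀ g : G, ∃ u ∈ CfsgLib.Recog.cj g T, u • α = b := by
      intro g
      obtain ⟨h, hh, hgh⟩ := hconjH g
      rw [hgh]
      have h1 := hSmap h hh b T ⟨⟨1, (CfsgLib.Recog.cj_one T).symm⟩, t, ht, rfl⟩
      rw [show S (h • b) = S b from
        (Set.eq_univ_iff_forall.mp hu ⟨h • b, ⟨⟨h, hh⟩, rfl⟩⟩)] at h1
      exact h1.2
    let B : Set Ω := {ω | ∀ g : G, ∃ u ∈ CfsgLib.Recog.cj g T, u • α = ω}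
    have hB : IsBlock G B := by
      rw [isBlock_iff_smul_eq_of_nonempty]
      intro k hne'
      obtain ⟨ω, ⟨x, hx, hxω⟩, hω⟩ := hne'
      simp only at hxω
      have hmem : ∀ y : Ω, y ∈ k • B ↔ ∀ g : G, ∃ u ∈ CfsgLib.Recog.cj g T, u • (k • α) = y := by
        intro y
        rw [Set.mem_smul_set_iff_inv_smul_mem]
        constructor
        · intro hy g
          obtain ⟨u, hu', hua⟩ := hy (k⁻¹ * g)
          refine ⟨k * u * k⁻¹, ?_, ?_⟩
          · have h2 := CfsgLib.Recog.conj_mem_cj (g := k) hu'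
            rwa [← CfsgLib.Recog.cj_mul, mul_inv_cancel_left] at h2
          · rw [mul_smul, mul_smul, inv_smul_smul, hua, smul_inv_smul]
        · intro hy g
          obtain ⟨u, hu', hua⟩ := hy (k * g)
          refine ⟨k⁻¹ * u * k, ?_, ?_⟩
          · have h2 := CfsgLib.Recog.conj_mem_cj (g := k⁻¹) hu'
            rwa [← CfsgLib.Recog.cj_mul, inv_mul_cancel_left, inv_inv] at h2
          · rw [mul_smul, mul_smul, hua]
      have hωk : ω ∈ k • B := ⟨x, hx, hxω⟩
      ext y
      rw [hmem]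
      constructor
      · intro hy g
        obtain ⟨u₁, hu₁, h₁⟩ := hy g
        obtain ⟨u₂, hu₂, h₂⟩ := (hmem ω).mp hωk g
        obtain ⟨u₃, hu₃, h₃⟩ := hω g
        refine ⟨u₁ * u₂⁻¹ * u₃, mul_mem (mul_mem hu₁ (inv_mem hu₂)) hu₃, ?_⟩
        rw [mul_smul, mul_smul, h₃, ← h₂, inv_smul_smul, h₁]
      · intro hy g
        obtain ⟨u₁, hu₁, h₁⟩ := hy g
        obtain ⟨u₂, hu₂, h₂⟩ := (hmem ω).mp hωk g
        obtain ⟨u₃, hu₃, h₃⟩ := hω g
        refine ⟨u₁ * u₃⁻¹ * u₂, mul_mem (mul_mem hu₁ (inv_mem hu₃)) hu₂, ?_⟩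
        rw [mul_smul, mul_smul, h₂, ← h₃, inv_smul_smul, h₁]
    rcases hB.subsingleton_or_eq_univ with hs | huB
    · exact absurd (hs (show b ∈ B from hall) (show α ∈ B from fun g => ⟨1, one_mem _, one_smul G α⟩)) hta
    refine ⟨fun x y => ?_⟩
    obtain ⟨u, hu', hux⟩ := (Set.eq_univ_iff_forall.mp huB x) 1
    obtain ⟨v, hv', hvy⟩ := (Set.eq_univ_iff_forall.mp huB y) 1
    rw [CfsgLib.Recog.cj_one] at hu' hv'
    exact ⟨⟨v * u⁻¹, mul_mem hv' (inv_mem hu')⟩, by rw [Subgroup.mk_smul, mul_smul, ← hux, inv_smul_smul, hvy]⟩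
  -- `N` is regular
  have hreg : ∀ n ∈ N, n • α = α → n = 1 := by
    let M := N ⊓ stabilizer G α
    have hMfix : ∀ m ∈ M, ∀ t ∈ T, m • t • α = t • α := by
      intro m hm t ht
      by_cases hta : t • α = α
      · rw [hta]; exact hm.2
      refine hsingle t ht hta _ ⟨⟨m, hm.2⟩, rfl⟩ ?_
      ext U
      constructor
      · intro hU
        have := hSmap m⁻¹ (inv_mem hm.2) _ U hU
        rwa [inv_smul_smul, hself (hconjN U hU.1 (inv_mem hm.1))] at this
      · intro hU
        have := hSmap m hm.2 _ U hU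
        rwa [hself (hconjN U hU.1 hm.1)] at this
    have hnorm : stabilizer G α ⊔ T ≤ Subgroup.normalizer (M : Set G) := by
      refine sup_le ?_ ?_
      · intro h hh
        refine Subgroup.mem_normalizer_iff.mpr fun y => ?_
        constructor
        · intro hy
          exact Subgroup.mem_inf.mpr ⟨hN.conj_mem y hy.1 h, mul_mem (mul_mem hh (Subgroup.mem_inf.mp hy).2) (inv_mem hh)⟩
        · intro hy
          have h1 := hN.conj_mem _ hy.1 h⁻¹
          have h2 := mul_mem (mul_mem (inv_mem hh) (Subgroup.mem_inf.mp hy).2) hh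
          refine ⟨?_, ?_⟩
          · simpa [mul_assoc] using h1
          · show y ∈ stabilizer G α
            simpa [mul_assoc] using h2
      · have hfwd : ∀ t ∈ T, ∀ y ∈ M, t * y * t⁻¹ ∈ M := by
          intro t ht y hy
          refine ⟨hN.conj_mem y hy.1 t, ?_⟩
          show (t * y * t⁻¹) • α = α
          rw [mul_smul, mul_smul, hMfix y hy t⁻¹ (inv_mem ht), smul_inv_smul]
        intro t ht
        refine Subgroup.mem_normalizer_iff.mpr fun y => ⟨hfwd t ht y, fun hy => ?_⟩
        simpa [mul_assoc] using hfwd t⁻¹ (inv_mem ht) _ hy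
    have htop : stabilizer G α ⊔ T = ⊤ :=
      (hcoat α).2 _ (left_lt_sup.mpr (hT.not_le_stabilizer α))
    have hMn : M.Normal := Subgroup.normalizer_eq_top_iff.mp (top_le_iff.mp (htop ▸ hnorm))
    intro n hn hna
    by_contra hn1
    have hMne : M ≠ ⊥ := fun hb => hn1 (Subgroup.mem_bot.mp (hb ▸ (⟨hn, hna⟩ : n ∈ M)))
    have := CfsgLib.Perm.normal_isPretransitive (α := Ω) hMne
    obtain ⟨b, hb⟩ := exists_ne α
    obtain ⟨⟨m, hm⟩, hmb⟩ := exists_smul_eq M α b
    exact hb (hmb.symm.trans hm.2)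
  -- an abelian subgroup normalized by the point stabilizer
  obtain ⟨t, ht, hta⟩ : ∃ t ∈ T, t • α ≠ α := SetLike.not_le_iff_exists.mp (hT.not_le_stabilizer α)
  set b := t • α with hb
  let Z : Set G := {u | (∃ g : G, u ∈ CfsgLib.Recog.cj g T) ∧ u • α ∈ orbit (stabilizer G α) b}
  have hZN : ∀ u ∈ Z, u ∈ N := fun u hu => by
    obtain ⟨g, hg⟩ := hu.1
    exact hT.iSup_eq ▸ Subgroup.mem_iSup_of_mem g hg
  have hZcomm : ∀ u ∈ Z, ∀ v ∈ Z, u * v = v * u := by
    intro u hu v hv
    obtain ⟨g, hg⟩ := hu.1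
    obtain ⟨k, hk⟩ := hv.1
    by_cases hgk : CfsgLib.Recog.cj g T = CfsgLib.Recog.cj k T
    swap
    · exact (Subgroup.mem_centralizer_iff.mp (hT.cj_le_centralizer hgk hg) v hk).symm
    have hS : ∀ (w : G) (l : G), w ∈ Z → w ∈ CfsgLib.Recog.cj l T →
        S (w • α) = {CfsgLib.Recog.cj l T} := by
      intro w l hw hwl
      have hw1 : w ≠ 1 := by
        rintro rfl
        obtain ⟨⟨h, hh⟩, hhb⟩ := hw.2
        rw [one_smul] at hhb
        exact hta (MulAction.injective h (hhb.trans (mem_stabilizer_iff.mp hh).symm))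
      ext U
      rw [Set.mem_singleton_iff]
      constructor
      · rintro ⟨⟨j, rfl⟩, z, hz, hzw⟩
        have hzN : z ∈ N := hT.iSup_eq ▸ Subgroup.mem_iSup_of_mem j hz
        have hzeq : z = w :=
          (inv_mul_eq_one.mp (hreg _ (mul_mem (inv_mem (hZN w hw)) hzN)
            (by rw [mul_smul, hzw, inv_smul_smul]))).symm
        by_contra hne'
        refine hw1 (hT.cj_inf_centralizer l hwl ?_)
        exact hT.cj_le_centralizer hne' (hzeq ▸ hz)
      · rintro rfl; exact ⟨⟨l, rfl⟩, w, hwl, rfl⟩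
    obtain ⟨⟨h, hh⟩, hhb⟩ := hu.2
    change h • b = u • α at hhb
    have h1 : S (h⁻¹ • (v • α)) = S b := by
      rw [← inv_smul_smul h b, hhb]
      exact hSeq _ (inv_mem hh) _ _ (by rw [hS u g hu hg, hS v k hv hk, hgk])
    have h2 := hsingle t ht hta (h⁻¹ • (v • α)) (by
      obtain ⟨⟨h', hh'⟩, e⟩ := hv.2
      change h' • b = v • α at e
      exact ⟨⟨h⁻¹ * h', mul_mem (inv_mem hh) hh'⟩, by
        show (h⁻¹ * h') • b = _
        rw [mul_smul, e]⟩) h1
    have h3 : v • α = u • α := by rw [← hhb, hb, ← h2, smul_inv_smul]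
    rw [(inv_mul_eq_one.mp (hreg _ (mul_mem (inv_mem (hZN v hv)) (hZN u hu))
      (by rw [mul_smul, ← h3, inv_smul_smul])))]
  let A := Subgroup.closure Z
  have hAc : IsMulCommutative A := Subgroup.le_centralizer_iff_isMulCommutative.mp <| by
    rw [Subgroup.closure_le]
    intro u hu
    rw [SetLike.mem_coe, Subgroup.centralizer_closure]
    exact Subgroup.mem_centralizer_iff.mpr fun v hv => hZcomm v hv u hu
  have hAN : A ≤ N := (Subgroup.closure_le _).mpr hZN
  have htZ : t ∈ Z := ⟨⟨1, by rwa [CfsgLib.Recog.cj_one]⟩, mem_orbit_self _⟩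
  have hAnorm : stabilizer G α ≤ Subgroup.normalizer (A : Set G) := by
    have hfwd : ∀ h ∈ stabilizer G α, ∀ y ∈ A, h * y * h⁻¹ ∈ A := by
      intro h hh y hy
      have hle : CfsgLib.Recog.cj h A ≤ A := by
        rw [CfsgLib.Recog.cj, MonoidHom.map_closure, Subgroup.closure_le]
        rintro _ ⟨u, ⟨⟨g, hg⟩, ⟨h', hh'⟩, hu⟩, rfl⟩
        change h' • b = u • α at hu
        refine Subgroup.subset_closure ⟨⟨h * g, ?_⟩, ⟨⟨h * h', mul_mem hh hh'⟩, ?_⟩⟩
        · rw [CfsgLib.Recog.cj_mul]; exact CfsgLib.Recog.conj_mem_cj hg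
        · show (h * h') • b = (MulAut.conj h u) • α
          rw [MulAut.conj_apply, mul_smul (h * u), mul_smul h u,
            inv_smul_eq_iff.mpr (mem_stabilizer_iff.mp hh).symm, mul_smul, hu]
      exact hle (CfsgLib.Recog.conj_mem_cj hy)
    intro h hh
    refine Subgroup.mem_normalizer_iff.mpr fun y => ⟨hfwd h hh y, fun hy => ?_⟩
    simpa [mul_assoc] using hfwd h⁻¹ (inv_mem hh) _ hy
  have htop : Subgroup.normalizer (A : Set G) = ⊤ := by
    refine (hcoat α).2 _ (SetLike.lt_iff_le_and_exists.mpr ⟨hAnorm, t,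
      Subgroup.le_normalizer (Subgroup.subset_closure htZ), hta⟩)
  rcases hmin A (Subgroup.normalizer_eq_top_iff.mp htop) hAN with h0 | h0
  · have : t = 1 := Subgroup.mem_bot.mp (h0 ▸ Subgroup.subset_closure htZ)
    exact hta (by rw [hb, this, one_smul])
  · exact hab (h0 ▸ hAc)

end Cfsg.Agent.S3493
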