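import Cfsg.Statements.S3495


set_option autoImplicit false
open Cfsg
open scoped Pointwise

namespace Cfsg.Agent.S3495

/-- Let a finite group G act faithfully and primitively on a finite set Ω with non-trivial point stabilizers, each acting primitively on every one of its orbits (an extremely primitive group), and suppose G has an elementary abelian normal p-subgroup N acting regularly on Ω (affine type). Then every non-trivial subgroup M of a point stabilizer G_α that is normal in G_α has the same orbits on Ω as G_α, and normalizes no subgroup of N other than 1 and N. -/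
theorem result {G : Type*} [Group G] [Finite G] {Ω : Type*} [Fintype Ω] [MulAction G Ω] [FaithfulSMul G Ω] (hprim : MulAction.IsPreprimitive G Ω) (hH : ∀ α : Ω, MulAction.stabilizer G α ≠ ⊥) (hep : ∀ (α : Ω) (ω : Ω), MulAction.IsPreprimitive (MulAction.stabilizer G α) (MulAction.orbit (MulAction.stabilizer G α) ω))
    (N : Subgroup G) [N.Normal] (hNc : IsMulCommutative N) (p : ℕ) (hp : p.Prime) (hNp : ∀ n ∈ N, n ^ p = 1)
    (hNtr : MulAction.IsPretransitive N Ω) (hNreg : ∀ ω : Ω, MulAction.stabilizer N ω = ⊥) (α : Ω) (M : Subgroup G) (hM : M ≠ ⊥) (hMle : M ≤ MulAction.stabilizer G α)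
    (hMn : MulAction.stabilizer G α ≤ Subgroup.normalizer (M : Set G)) :
    (∀ ω : Ω, MulAction.orbit M ω = MulAction.orbit (MulAction.stabilizer G α) ω) ∧
    (∀ L : Subgroup G, L ≤ N → M ≤ Subgroup.normalizer (L : Set G) → L = ⊥ ∨ L = N) := by
  classical
  set H := MulAction.stabilizer G α with hH'
  have hNinj : ∀ n : G, n ∈ N → n • α = α → n = 1 := fun n hn h => by
    have : (⟨n, hn⟩ : N) ∈ MulAction.stabilizer N α := h
    rw [hNreg α, Subgroup.mem_bot] at this
    exact congrArg Subtype.val this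
  have hNsurj : ∀ ω : Ω, ∃ n ∈ N, n • α = ω := fun ω => by
    obtain ⟨n, hn⟩ := hNtr.exists_smul_eq α ω
    exact ⟨n, n.2, hn⟩
  have htr : MulAction.IsPretransitive G Ω := hprim.toIsPretransitive
  obtain ⟨m₀, hm₀, hm₀1⟩ : ∃ m ∈ M, m ≠ 1 := by
    by_contra h
    push Not at h
    exact hM (M.eq_bot_iff_forall.mpr h)
  have hΩ : Nontrivial Ω := by
    by_contra h
    rw [not_nontrivial_iff_subsingleton] at h
    exact hm₀1 (FaithfulSMul.eq_of_smul_eq_smul (α := Ω) fun a => Subsingleton.elim _ _)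
  have hcoat : IsCoatom H := MulAction.IsPreprimitive.isCoatom_stabilizer_of_isPreprimitive G α
  have hconjM : ∀ h ∈ H, ∀ m ∈ M, h⁻¹ * m * h ∈ M := fun h hh m hm => by
    have := (Subgroup.mem_normalizer_iff.mp (hMn (inv_mem hh)) m).mp hm
    simpa using this
  have hconjH : ∀ h ∈ H, ∀ n ∈ N, (h * n * h⁻¹) • α = h • (n • α) := fun h hh n hn => by
    rw [mul_smul, mul_smul, inv_smul_eq_iff.mpr (show α = h • α from hh.symm)]
  -- subgroups of `N` invariant under `H` are trivial
  have hirr : ∀ L : Subgroup G, L ≤ N → (∀ h ∈ H, ∀ l ∈ L, h * l * h⁻¹ ∈ L) → L = ⊥ ∨ L = N := by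
    intro L hLN hinv
    by_cases hL : L = ⊥
    · exact Or.inl hL
    right
    refine le_antisymm hLN fun n hn => ?_
    have hHn : H ≤ Subgroup.normalizer (L : Set G) := fun h hh => by
      refine Subgroup.mem_normalizer_iff.mpr fun l => ⟨hinv h hh l, fun hl => ?_⟩
      simpa [mul_assoc] using hinv h⁻¹ (inv_mem hh) _ hl
    rcases hcoat.le_iff.mp (le_sup_right : H ≤ L ⊔ H) with htop | heq
    · have hmem : n ∈ ((L ⊔ H : Subgroup G) : Set G) := by rw [htop]; exact Subgroup.mem_top n
      rw [Subgroup.coe_mul_of_right_le_normalizer_left L H hHn] at hmem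
      obtain ⟨l, hl, h, hh, rfl⟩ := hmem
      have hhN : h ∈ N := (N.mul_mem_cancel_left (hLN hl)).mp hn
      show l * h ∈ L
      rw [hNinj h hhN hh, mul_one]
      exact hl
    · exfalso
      apply hL
      rw [Subgroup.eq_bot_iff_forall]
      intro l hl
      exact hNinj l (hLN hl) (heq ▸ Subgroup.mem_sup_left hl : l ∈ H)
  -- `M` fixes only `α`
  have hfixM : ∀ ω : Ω, (∀ m ∈ M, m • ω = ω) → ω = α := by
    intro ω hω
    obtain ⟨n, hn, rfl⟩ := hNsurj ω
    let L : Subgroup G := N ⊓ Subgroup.centralizer (M : Set G)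
    have hnL : n ∈ L := by
      refine ⟨hn, fun m hm => ?_⟩
      have hcN : n⁻¹ * (m * n * m⁻¹) ∈ N := N.mul_mem (N.inv_mem hn) (Subgroup.Normal.conj_mem inferInstance n hn m)
      have h1 : (n⁻¹ * (m * n * m⁻¹)) • α = α := by
        rw [mul_smul, hconjH m (hMle hm) n hn, hω m hm, inv_smul_smul]
      have h2 := hNinj _ hcN h1
      rw [inv_mul_eq_one] at h2
      calc m * n = (m * n * m⁻¹) * m := by group
        _ = n * m := by rw [← h2]
    rcases hirr L inf_le_left (fun h hh l hl => ⟨Subgroup.Normal.conj_mem inferInstance l hl.1 h, fun m hm => by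
      have := hl.2 _ (hconjM h hh m hm)
      calc m * (h * l * h⁻¹) = h * ((h⁻¹ * m * h) * l) * h⁻¹ := by group
        _ = h * (l * (h⁻¹ * m * h)) * h⁻¹ := by rw [this]
        _ = (h * l * h⁻¹) * m := by group⟩) with h | h
    · rw [h, Subgroup.mem_bot] at hnL
      rw [hnL, one_smul]
    · exfalso
      apply hm₀1
      refine FaithfulSMul.eq_of_smul_eq_smul (α := Ω) fun a => ?_
      obtain ⟨k, hk, rfl⟩ := hNsurj a
      have hk' : k ∈ Subgroup.centralizer (M : Set G) := ((h ▸ hk : k ∈ L)).2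
      rw [one_smul, smul_smul, hk' m₀ hm₀, mul_smul, show m₀ • α = α from hMle hm₀]
  have horb : ∀ ω : Ω, MulAction.orbit M ω = MulAction.orbit H ω := by
    intro ω
    refine Set.Subset.antisymm ?_ ?_
    · rintro z ⟨⟨m, hm⟩, rfl⟩
      exact ⟨⟨m, hMle hm⟩, rfl⟩
    have : MulAction.IsPreprimitive H (MulAction.orbit H ω) := hep α ω
    let M' : Subgroup H := M.subgroupOf H
    have : M'.Normal := Subgroup.normal_subgroupOf_of_le_normalizer hMn
    intro z hz
    by_cases hωα : ω = α
    · subst hωα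
      obtain ⟨⟨h, hh⟩, rfl⟩ := hz
      show h • ω ∈ MulAction.orbit M ω
      rw [show h • ω = ω from hh]
      exact MulAction.mem_orbit_self ω
    have hne : MulAction.fixedPoints M' (MulAction.orbit H ω) ≠ Set.univ := by
      intro he
      apply hωα
      refine hfixM ω fun m hm => ?_
      have h1 : (⟨ω, MulAction.mem_orbit_self ω⟩ : MulAction.orbit H ω) ∈ MulAction.fixedPoints M' (MulAction.orbit H ω) :=
        he ▸ Set.mem_univ _
      exact congrArg Subtype.val (h1 ⟨⟨m, hMle hm⟩, hm⟩)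
    have hpt := MulAction.IsQuasiPreprimitive.isPretransitive_of_normal hne
    obtain ⟨⟨⟨m, hmH⟩, hm⟩, e⟩ := hpt.exists_smul_eq ⟨ω, MulAction.mem_orbit_self ω⟩ ⟨z, hz⟩
    exact ⟨⟨m, hm⟩, congrArg Subtype.val e⟩
  refine ⟨horb, fun L hLN hML => hirr L hLN fun h hh l hl => ?_⟩
  obtain ⟨⟨m, hm⟩, e⟩ := (horb (l • α)).ge ⟨⟨h, hh⟩, rfl⟩
  have e' : m • (l • α) = h • (l • α) := e
  rw [← hconjH h hh l (hLN hl), ← hconjH m (hMle hm) l (hLN hl)] at e'
  have hmL : m * l * m⁻¹ ∈ L := (Subgroup.mem_normalizer_iff.mp (hML hm) l).mp hl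
  have h2 := hNinj ((m * l * m⁻¹)⁻¹ * (h * l * h⁻¹))
    (N.mul_mem (N.inv_mem (hLN hmL)) (Subgroup.Normal.conj_mem inferInstance l (hLN hl) h))
    (by rw [mul_smul, ← e', inv_smul_smul])
  rw [inv_mul_eq_one] at h2
  exact h2 ▸ hmL

end Cfsg.Agent.S3495
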