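import Cfsg.Statements.S3496
import Mathlib
import Cfsg.Agent.Lib.Recog.ExtremelyPrimitive
import Cfsg.Agent.Lib.Recog.CyclicField
import Cfsg.Agent.Lib.Solvable.HallHigman
import Cfsg.Agent.Lib.Solvable.FixedPointFree

set_option autoImplicit false
open Cfsg
open MulAction

namespace Cfsg.Agent.S3496

theorem count_arith {p q d f i : ℕ} (hp : p.Prime) (hq : q.Prime) (he : q * (p ^ f - 1) = p ^ d - 1)
    (hqi : q ∣ p ^ i - 1) (hi : 0 < i) (hid : i < d) : False := by
  have h2 := hp.two_le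
  have hd1 : 1 < p ^ d := Nat.one_lt_pow (by omega) hp.one_lt
  have hf1 : 1 ≤ p ^ f := Nat.one_le_pow _ _ hp.pos
  have hfd : f < d := by
    by_contra hc
    have := Nat.pow_le_pow_right hp.pos (not_lt.mp hc)
    have := Nat.mul_le_mul hq.two_le (le_refl (p ^ f - 1))
    omega
  have hf0 : 0 < f := by
    by_contra hc
    obtain rfl : f = 0 := by omega
    simp at he
    omega
  -- f divides d
  have hg1 : p ^ Nat.gcd f d - 1 = p ^ f - 1 := by
    rw [← Nat.pow_sub_one_gcd_pow_sub_one, Nat.gcd_eq_left ⟨q, by rw [← he, mul_comm]⟩]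
  have hgf : Nat.gcd f d = f := by
    refine Nat.pow_right_injective h2 ?_
    have := Nat.one_le_pow (Nat.gcd f d) p hp.pos
    change p ^ Nat.gcd f d = p ^ f
    omega
  have hfd2 : 2 * f ≤ d := by
    obtain ⟨k, hk⟩ := hgf ▸ Nat.gcd_dvd_right f d
    have : 2 ≤ k := by
      by_contra hc
      interval_cases k <;> omega
    rw [hk, mul_comm 2 f]
    exact Nat.mul_le_mul_left f this
  -- g := gcd(i, d) is at most d / 2
  set g := Nat.gcd i d
  have hqg : q ∣ p ^ g - 1 := by
    rw [← Nat.pow_sub_one_gcd_pow_sub_one]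
    exact Nat.dvd_gcd hqi ⟨p ^ f - 1, he.symm⟩
  have hg0 : 0 < g := Nat.gcd_pos_of_pos_left _ hi
  have hgd2 : 2 * g ≤ d := by
    obtain ⟨k, hk⟩ := Nat.gcd_dvd_right i d
    have hgi : g ≤ i := Nat.le_of_dvd hi (Nat.gcd_dvd_left i d)
    have : 2 ≤ k := by
      by_contra hc
      interval_cases k <;> omega
    calc 2 * g ≤ k * g := Nat.mul_le_mul_right g this
      _ = d := by rw [mul_comm]; exact hk.symm
  have hqle : q ≤ p ^ g - 1 := Nat.le_of_dvd (Nat.sub_pos_of_lt (Nat.one_lt_pow hg0.ne' hp.one_lt)) hqg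
  have h3 : q * (p ^ f - 1) ≤ (p ^ g - 1) * (p ^ f - 1) := Nat.mul_le_mul_right _ hqle
  have h4 : p ^ g * p ^ f ≤ p ^ d := by rw [← pow_add]; exact Nat.pow_le_pow_right hp.pos (by omega)
  obtain ⟨a, ha⟩ : ∃ a, p ^ g = a + 1 := ⟨p ^ g - 1, by have := Nat.one_le_pow g p hp.pos; omega⟩
  obtain ⟨b, hb⟩ : ∃ b, p ^ f = b + 1 := ⟨p ^ f - 1, by omega⟩
  have : 1 < p ^ f := Nat.one_lt_pow hf0.ne' hp.one_lt
  rw [he, ha, hb, Nat.add_sub_cancel, Nat.add_sub_cancel] at h3
  rw [ha, hb] at h4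
  have : 0 < a := by have := Nat.one_lt_pow hg0.ne' hp.one_lt; omega
  rw [Nat.mul_add, Nat.add_mul, Nat.one_mul, Nat.mul_one] at h4
  omega

variable {G : Type*} [Group G] {Ω : Type*} [MulAction G Ω]

/-- The only subgroups of the regular normal subgroup normalised by a point stabiliser. -/
theorem invariant_subgroup_trivial [IsPreprimitive G Ω] [Nontrivial Ω] (N W : Subgroup G) [N.Normal]
    [IsPretransitive N Ω] (α : Ω) (hreg : ∀ n ∈ N, n • α = α → n = 1) (hWN : W ≤ N)
    (hW : stabilizer G α ≤ Subgroup.normalizer (W : Set G)) : W = ⊥ ∨ W = N := by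
  have hmax := IsPreprimitive.isCoatom_stabilizer_of_isPreprimitive G α
  rcases hmax.le_iff.mp (le_sup_left : stabilizer G α ≤ stabilizer G α ⊔ W) with h | h
  · right
    refine le_antisymm hWN fun n hn => ?_
    have hn' : n ∈ ((W ⊔ stabilizer G α : Subgroup G) : Set G) := by
      rw [sup_comm, h]; exact Subgroup.mem_top n
    rw [Subgroup.coe_mul_of_right_le_normalizer_left W (stabilizer G α) hW] at hn'
    obtain ⟨w, hw, a, ha, rfl⟩ := hn'
    have h1 : a ∈ N := by
      have := N.mul_mem (N.inv_mem (hWN hw)) hn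
      rwa [inv_mul_cancel_left] at this
    have ha1 : a = 1 := hreg a h1 ha
    simpa [ha1] using hw
  · left
    rw [Subgroup.eq_bot_iff_forall]
    intro w hw
    exact hreg w (hWN hw) (h.le (Subgroup.mem_sup_right hw) : w ∈ stabilizer G α)

theorem mem_centralizer_regular [FaithfulSMul G Ω] (N : Subgroup G) [IsPretransitive N Ω] (α : Ω)
    {g : G} (hg : g • α = α) (hc : ∀ n ∈ N, g * n = n * g) : g = 1 := by
  refine eq_of_smul_eq_smul fun x : Ω => ?_
  obtain ⟨⟨n, hn⟩, rfl⟩ := exists_smul_eq N α x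
  rw [one_smul, Subgroup.mk_smul, smul_smul, hc n hn, mul_smul, hg]

theorem extremely_primitive_solvable [Finite G] [Fintype Ω] [FaithfulSMul G Ω] [Group.IsSolvable G]
    [IsPreprimitive G Ω] (p d : ℕ) (hp : p.Prime) (hcard : Fintype.card Ω = p ^ d)
    (hH : ∀ α : Ω, stabilizer G α ≠ ⊥)
    (hep : ∀ (α : Ω) (ω : Ω), IsPreprimitive (stabilizer G α) (orbit (stabilizer G α) ω)) (α : Ω) :
    ∃ q : ℕ, q.Prime ∧ (∀ ω : Ω, ω ≠ α → Nat.card (orbit (stabilizer G α) ω) = q) ∧
      q ∣ p ^ d - 1 ∧ (∀ i : ℕ, 0 < i → i < d → ¬ q ∣ p ^ i - 1) ∧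
      ∃ T : Subgroup G, T ≤ stabilizer G α ∧ stabilizer G α ≤ Subgroup.normalizer (T : Set G) ∧ Nat.card T = q ∧
        (∃ h : G, stabilizer G α = T ⊔ Subgroup.zpowers h) ∧ Nat.card (stabilizer G α) ∣ q * d := by
  classical
  haveI := Fact.mk hp
  set H := stabilizer G α with hHdef
  haveI hΩ : Nontrivial Ω := by
    by_contra hc
    rw [not_nontrivial_iff_subsingleton] at hc
    apply hH α
    rw [Subgroup.eq_bot_iff_forall]
    exact fun g _ => eq_of_smul_eq_smul fun x : Ω => Subsingleton.elim _ _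
  have hd : 0 < d := by
    by_contra hc
    obtain rfl : d = 0 := by omega
    rw [pow_zero] at hcard
    have := Fintype.one_lt_card (α := Ω)
    omega
  haveI : Nontrivial G := by
    obtain ⟨a, b, hab⟩ := exists_pair_ne Ω
    obtain ⟨g, hg⟩ := exists_smul_eq G a b
    exact ⟨g, 1, fun e => hab (by rw [← hg, e, one_smul])⟩
  -- the regular normal subgroup
  obtain ⟨N, hNn, hN0, hNmin⟩ := CfsgLib.Solvable.exists_minimal_normal (G := G)
  haveI := hNn
  haveI hNab : IsMulCommutative N := CfsgLib.Solvable.isMulCommutative_of_minimal_normal hN0 hNmin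
  obtain ⟨⟨r, hr, hel⟩, hNt, hNreg⟩ := CfsgLib.Recog.abelian_minimal_normal (Ω := Ω) hN0 hNmin
  haveI := hNt
  have hreg : ∀ n ∈ N, n • α = α → n = 1 := fun n hn h => by
    have h1 : (⟨n, hn⟩ : N) ∈ stabilizer N α := h
    rw [hNreg α, Subgroup.mem_bot] at h1
    exact congrArg Subtype.val h1
  have hNcard : Nat.card N = p ^ d := by
    rw [CfsgLib.Perm.natCard_eq_of_regular (hNreg α), Nat.card_eq_fintype_card, hcard]
  have hconj : ∀ g ∈ H, ∀ n : G, (g * n * g⁻¹) • α = g • n • α := fun g hg n => by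
    rw [mul_smul, mul_smul, show g⁻¹ • α = α from inv_smul_eq_iff.mpr (mem_stabilizer_iff.mp hg).symm]
  -- the Fitting subgroup of the stabiliser
  haveI : Nontrivial H := H.nontrivial_iff_ne_bot.mpr (hH α)
  set F := Cfsg.fittingSubgroup H
  have hF : F ≠ ⊥ := CfsgLib.Solvable.fittingSubgroup_ne_bot
  haveI hFn : F.Normal := CfsgLib.Solvable.fittingSubgroup_normal H
  have hsub : ∀ ω : Ω, ω ≠ α →
      IsMulCommutative F ∧ (∃ r : ℕ, r.Prime ∧ ∀ x ∈ F, x ^ r = 1) ∧ Nat.card F = Nat.card (orbit H ω) ∧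
      Subgroup.centralizer (F : Set H) = F ∧ (∀ x ∈ F, x • ω = ω → x = 1) ∧
      (∀ h : H, ∃ f ∈ F, f • ω = h • ω) := by
    intro ω hω
    haveI := hep α ω
    haveI := CfsgLib.Recog.suborbit_faithful ‹IsPreprimitive G Ω› hH hep hω
    haveI : Nonempty (orbit H ω) := ⟨⟨ω, mem_orbit_self ω⟩⟩
    obtain ⟨hab, hexp, hcardF, hC⟩ := CfsgLib.Recog.fitting_of_primitive (Δ := orbit H ω) hF
    haveI : IsPretransitive F (orbit H ω) := CfsgLib.Perm.normal_isPretransitive hF
    refine ⟨hab, hexp, hcardF, hC, ?_, ?_⟩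
    · intro x hx hxω
      have hbij : Function.Bijective fun f : F => f • (⟨ω, mem_orbit_self ω⟩ : orbit H ω) := by
        rw [Nat.bijective_iff_surjective_and_card]
        exact ⟨fun z => exists_smul_eq F _ z, hcardF⟩
      have h1 : (⟨x, hx⟩ : F) • (⟨ω, mem_orbit_self ω⟩ : orbit H ω) = (1 : F) • (⟨ω, mem_orbit_self ω⟩ : orbit H ω) := by
        rw [one_smul]; exact Subtype.ext hxω
      exact congrArg Subtype.val (hbij.1 h1)
    · intro h
      obtain ⟨⟨f, hf⟩, hfe⟩ := exists_smul_eq F (⟨ω, mem_orbit_self ω⟩ : orbit H ω) ⟨h • ω, mem_orbit ω h⟩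
      exact ⟨f, hf, congrArg Subtype.val hfe⟩
  obtain ⟨ω₀, hω₀⟩ := exists_ne α
  obtain ⟨hFab, ⟨q, hq, hFexp⟩, hFcard, hFC, hFreg, hFtr⟩ := hsub ω₀ hω₀
  haveI := hFab
  haveI := Fact.mk hq
  -- F is cyclic of prime order q, as it acts fixed-point-freely on N
  letI : CommGroup N := { (inferInstance : Group N) with mul_comm := hNab.is_comm.comm }
  haveI : Nontrivial N := N.nontrivial_iff_ne_bot.mpr hN0
  let φ : F →* MulAut N := (MulAut.conjNormal : G →* MulAut N).comp (H.subtype.comp F.subtype)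
  have hfpf : ∀ f : F, f ≠ 1 → ∀ n : N, φ f n = n → n = 1 := by
    intro f hf n hn
    by_contra hn1
    apply hf
    apply Subtype.ext
    refine (hsub ((n : G) • α) fun h => hn1 (Subtype.ext (hreg n n.2 h))).2.2.2.2.1 f.1 f.2 ?_
    change (f.1 : G) • (n : G) • α = (n : G) • α
    rw [← hconj f.1 f.1.2 n]
    have h1 : (f.1 : G) * n * (f.1 : G)⁻¹ = (n : G) := congrArg Subtype.val hn
    rw [h1]
  haveI hcyc : IsCyclic F := by
    haveI := CfsgLib.Solvable.isCyclic_of_fpf (V := N) φ hfpf (⊤ : Subgroup F)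
    exact isCyclic_of_surjective (Subgroup.topEquiv (G := F)) (MulEquiv.surjective _)
  have hFq : Nat.card F = q := by
    obtain ⟨f, hf⟩ := IsCyclic.exists_generator (α := F)
    rw [← orderOf_eq_card_of_forall_mem_zpowers hf]
    refine orderOf_eq_prime (Subtype.ext (hFexp f f.2)) ?_
    rintro rfl
    apply hF
    rw [Subgroup.eq_bot_iff_forall]
    intro x hx
    obtain ⟨k, hk⟩ := hf ⟨x, hx⟩
    simpa using (congrArg Subtype.val hk).symm
  have horb : ∀ ω : Ω, ω ≠ α → Nat.card (orbit H ω) = q := fun ω hω => (hsub ω hω).2.2.1.symm.trans hFq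
  set T : Subgroup G := F.map H.subtype
  have hTH : T ≤ H := Subgroup.map_subtype_le F
  have hTn : H ≤ Subgroup.normalizer (T : Set G) := by
    intro g hg
    refine Subgroup.mem_normalizer_fintype fun x hx => ?_
    obtain ⟨f, hf, rfl⟩ := hx
    exact ⟨_, hFn.conj_mem f hf ⟨g, hg⟩, rfl⟩
  have hTq : Nat.card T = q := by rw [Subgroup.card_map_of_injective H.subtype_injective, hFq]
  have hTfix : ∀ x ∈ T, ∀ ω : Ω, ω ≠ α → x • ω = ω → x = 1 := by
    rintro _ ⟨f, hf, rfl⟩ ω hω hfω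
    exact congrArg Subtype.val ((hsub ω hω).2.2.2.2.1 f hf hfω)
  -- q divides p^d - 1
  have hqd : q ∣ p ^ d - 1 := by
    have hT : IsPGroup q T := IsPGroup.of_card (n := 1) (by rw [pow_one, hTq])
    have h1 := hT.card_modEq_card_fixedPoints Ω
    have h2 : fixedPoints T Ω = {α} := by
      ext ω
      constructor
      · intro h
        by_contra hω
        obtain ⟨x, hx⟩ : ∃ x : T, x ≠ 1 := by
          haveI : Nontrivial T := Finite.one_lt_card_iff_nontrivial.mp (hTq ▸ hq.one_lt)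
          exact exists_ne 1
        exact hx (Subtype.ext (hTfix x x.2 ω hω (h x)))
      · rintro rfl x
        exact hTH x.2
    rw [h2, Nat.card_eq_fintype_card, hcard, Nat.card_unique] at h1
    exact (Nat.modEq_iff_dvd' (Nat.one_le_pow _ _ hp.pos)).mp h1.symm
  -- complement: the stabiliser of ω₀ in H
  set C := stabilizer H ω₀
  have hCF : ∀ c ∈ C, c ∈ F → c = 1 := fun c hc hcF => hFreg c hcF hc
  let ψ : C →* MulAut F := (MulAut.conjNormal : H →* MulAut F).comp C.subtype
  have hψ : Function.Injective ψ := by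
    rw [injective_iff_map_eq_one]
    intro c hc
    apply Subtype.ext
    refine hCF c.1 c.2 ?_
    rw [← hFC, Subgroup.mem_centralizer_iff]
    intro f hf
    have h1 : (c.1 : H) * f * (c.1 : H)⁻¹ = f := congrArg (fun a : MulAut F => ((a ⟨f, hf⟩ : F) : H)) hc
    exact (mul_inv_eq_iff_eq_mul.mp h1).symm
  haveI : IsCyclic (MulAut F) := by
    haveI : IsCyclic (ZMod (Nat.card F))ˣ := by rw [hFq]; infer_instance
    exact isCyclic_of_surjective (IsCyclic.mulAutMulEquiv F).symm.toMonoidHom (IsCyclic.mulAutMulEquiv F).symm.surjective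
  haveI : IsCyclic C := isCyclic_of_injective ψ hψ
  obtain ⟨h, hh⟩ := IsCyclic.exists_generator (α := C)
  have hsupH : H = T ⊔ Subgroup.zpowers ((h.1 : H) : G) := by
    refine le_antisymm (fun g hg => ?_) (sup_le hTH (Subgroup.zpowers_le.mpr h.1.2))
    obtain ⟨f, hf, hfe⟩ := hFtr ⟨g, hg⟩
    have hc : f⁻¹ * ⟨g, hg⟩ ∈ C := by rw [mem_stabilizer_iff, mul_smul, inv_smul_eq_iff, hfe]
    obtain ⟨k, hk⟩ := hh ⟨_, hc⟩
    have hk' : (h.1 : G) ^ k = (f : G)⁻¹ * g := congrArg (fun c : C => ((c.1 : H) : G)) hk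
    have : g = (f : G) * (h.1 : G) ^ k := by rw [hk', mul_inv_cancel_left]
    rw [this]
    exact Subgroup.mul_mem_sup ⟨f, hf, rfl⟩ (Subgroup.zpow_mem _ (Subgroup.mem_zpowers _) k)
  have hHcard : Nat.card H = q * orderOf (h : C) := by
    have h1 := Nat.card_congr (orbitProdStabilizerEquivGroup H ω₀)
    rw [Nat.card_prod, horb ω₀ hω₀] at h1
    rw [← h1, orderOf_eq_card_of_forall_mem_zpowers hh]
  -- the generator of T on the additive group of N
  obtain ⟨t, htT, ht1⟩ : ∃ t ∈ T, t ≠ 1 := by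
    have : T ≠ ⊥ := fun e => by rw [e, Subgroup.card_bot] at hTq; exact hq.one_lt.ne hTq
    obtain ⟨⟨t, ht⟩, hne⟩ := T.ne_bot_iff_exists_ne_one.mp this
    exact ⟨t, ht, fun e => hne (Subtype.ext e)⟩
  have hTgen : ∀ x ∈ T, ∃ k : ℕ, t ^ k = x := by
    intro x hx
    haveI : Fact (Nat.card T).Prime := ⟨hTq ▸ hq⟩
    have hne : (⟨t, htT⟩ : T) ≠ 1 := fun e => ht1 (congrArg Subtype.val e)
    obtain ⟨k, hk⟩ := mem_powers_iff_mem_zpowers.mpr (mem_zpowers_of_prime_card (p := q) hTq hne : (⟨x, hx⟩ : T) ∈ Subgroup.zpowers (⟨t, htT⟩ : T))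
    exact ⟨k, congrArg Subtype.val hk⟩
  let A := Additive N
  let E : G →* AddMonoid.End A :=
    { toFun := fun g => (MulAut.conjNormal (H := N) g).toMonoidHom.toAdditive
      map_one' := by rw [map_one]; rfl
      map_mul' := fun a b => by rw [map_mul]; rfl }
  have hEinj : ∀ g ∈ H, E g = 1 → g = 1 := fun g hg he => by
    refine mem_centralizer_regular N α hg fun n hn => ?_
    have h1 := congrArg (fun f : AddMonoid.End A => ((f (Additive.ofMul (⟨n, hn⟩ : N))).toMul : G)) he
    have h2 : g * n * g⁻¹ = n := h1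
    exact mul_inv_eq_iff_eq_mul.mp h2
  have hAcard : Nat.card A = p ^ d := (Nat.card_congr Additive.toMul).trans hNcard
  have hEt : orderOf (E t) = q := by
    refine orderOf_eq_prime ?_ fun e => ht1 (hEinj t (hTH htT) e)
    rw [← map_pow, show t ^ q = 1 from congrArg Subtype.val (hTq ▸ pow_card_eq_one' : (⟨t, htT⟩ : T) ^ q = 1), map_one]
  -- no proper nontrivial T-invariant subgroup of N
  have hirrH : ∀ W : Subgroup G, W ≤ N → (∀ x ∈ W, t * x * t⁻¹ ∈ W) → W = ⊥ ∨ W = N := by
    intro W hWN hWt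
    have hWT : ∀ y ∈ T, y ∈ Subgroup.normalizer (W : Set G) := fun y hy => by
      obtain ⟨k, rfl⟩ := hTgen y hy
      exact Subgroup.pow_mem _ (Subgroup.mem_normalizer_fintype hWt) k
    by_cases hh1 : (h : C) = 1
    · refine invariant_subgroup_trivial N W α hreg hWN ?_
      rw [← hHdef, hsupH, hh1]
      simp only [OneMemClass.coe_one, Subgroup.zpowers_one_eq_bot, sup_bot_eq]
      exact hWT
    -- otherwise count the fixed points of h
    obtain ⟨a, ha⟩ := hTgen _ (by
      have := (Subgroup.mem_normalizer_iff.mp (hTn h.1.2) t).mp htT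
      exact this)
    have hha : ((h.1 : H) : G) * t * ((h.1 : H) : G)⁻¹ ≠ t := by
      intro e
      apply hh1
      apply hψ
      rw [map_one]
      apply MulEquiv.ext
      intro f
      apply Subtype.ext; apply Subtype.ext
      obtain ⟨k, hk⟩ := hTgen ((f.1 : H) : G) ⟨f.1, f.2, rfl⟩
      change ((h.1 : H) : G) * ((f.1 : H) : G) * ((h.1 : H) : G)⁻¹ = ((f.1 : H) : G)
      rw [← hk, ← conj_pow, e]
    set K := N ⊓ Subgroup.centralizer {((h.1 : H) : G)}
    have hKe : ∀ x : G, x ∈ K ↔ x ∈ N ∧ (h.1 : G) • x • α = x • α := by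
      intro x
      rw [Subgroup.mem_inf, Subgroup.mem_centralizer_singleton_iff]
      refine and_congr_right fun hx => ?_
      constructor
      · intro e
        rw [← hconj _ h.1.2 x, ← e, mul_inv_cancel_right]
      · intro e
        rw [← hconj _ h.1.2 x] at e
        have h1 : x⁻¹ * ((h.1 : G) * x * (h.1 : G)⁻¹) = 1 :=
          hreg _ (N.mul_mem (N.inv_mem hx) (hNn.conj_mem x hx _)) (by rw [mul_smul, e, inv_smul_smul])
        rw [inv_mul_eq_one] at h1
        exact (mul_inv_eq_iff_eq_mul.mp h1.symm).symm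
    -- every point other than α is uniquely a T-translate of a fixed point of h
    have hbij : Nat.card T * (Nat.card K - 1) = Nat.card Ω - 1 := by
      have e1 : Nat.card K - 1 = ({x : G | x ∈ K} \ {1}).ncard := by
        rw [Set.ncard_diff_singleton_of_mem (show (1 : G) ∈ {x : G | x ∈ K} from K.one_mem)]
        rfl
      have e2 : Nat.card Ω - 1 = ({α}ᶜ : Set Ω).ncard := by
        rw [Set.ncard_compl, Set.ncard_singleton]
      rw [e1, e2, ← Nat.card_coe_set_eq, ← Nat.card_coe_set_eq, ← Nat.card_prod]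
      have hmem : ∀ z : T × ↥({x : G | x ∈ K} \ {1}), (z.1 : G) • (z.2 : G) • α ∈ ({α}ᶜ : Set Ω) := by
        rintro ⟨s, x, hx, hx1⟩ (e : (s : G) • x • α = α)
        apply hx1
        refine hreg x hx.1 ?_
        rw [← eq_inv_smul_iff] at e
        rw [e]
        exact inv_smul_eq_iff.mpr (mem_stabilizer_iff.mp (hTH s.2)).symm
      refine Nat.card_congr (Equiv.ofBijective (fun z => (⟨_, hmem z⟩ : ↥({α}ᶜ : Set Ω))) ⟨?_, ?_⟩)
      · rintro ⟨s, x, hx⟩ ⟨s', x', hx'⟩ e
        have e' : (s : G) • x • α = (s' : G) • x' • α := congrArg Subtype.val e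
        set u := (s' : G)⁻¹ * s with hu
        have huT : u ∈ T := T.mul_mem (T.inv_mem s'.2) s.2
        have hux : u • x • α = x' • α := by rw [hu, mul_smul, e', inv_smul_smul]
        have hxf := ((hKe x).mp hx.1).2
        have hxf' := ((hKe x').mp hx'.1).2
        obtain ⟨k, hk⟩ := hTgen u huT
        have h1 : ((h.1 : G) * u * (h.1 : G)⁻¹) • x • α = u • x • α := by
          rw [mul_smul, mul_smul, show (h.1 : G)⁻¹ • x • α = x • α from inv_smul_eq_iff.mpr hxf.symm, hux, hxf']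
        have hne : x • α ≠ α := fun e => hx.2 (hreg x hx.1.1 e)
        have h2 : u⁻¹ * ((h.1 : G) * u * (h.1 : G)⁻¹) = 1 :=
          hTfix _ (T.mul_mem (T.inv_mem huT) ((Subgroup.mem_normalizer_iff.mp (hTn h.1.2) u).mp huT)) _ hne
            (by rw [mul_smul, h1, inv_smul_smul])
        have hu1 : u = 1 := by
          rw [inv_mul_eq_one] at h2
          -- the conjugation by h fixes only the identity of T
          by_contra hne1
          apply hha
          haveI : Fact (Nat.card T).Prime := ⟨hTq ▸ hq⟩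
          have hune : (⟨u, huT⟩ : T) ≠ 1 := fun e => hne1 (congrArg Subtype.val e)
          obtain ⟨j, hj⟩ := mem_powers_iff_mem_zpowers.mpr (mem_zpowers_of_prime_card (p := q) hTq hune : (⟨t, htT⟩ : T) ∈ Subgroup.zpowers (⟨u, huT⟩ : T))
          have hj' : u ^ j = t := congrArg Subtype.val hj
          rw [← hj', ← conj_pow, ← h2]
        have hss : s = s' := Subtype.ext (inv_mul_eq_one.mp hu1).symm
        subst hss
        have hxx : x⁻¹ * x' = 1 := hreg _ (N.mul_mem (N.inv_mem hx.1.1) hx'.1.1)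
          (by rw [mul_smul, ← smul_left_cancel (s : G) e', inv_smul_smul])
        rw [inv_mul_eq_one] at hxx
        exact Prod.ext rfl (Subtype.ext hxx)
      · rintro ⟨ω, hω⟩
        -- some T-conjugate of h fixes ω
        obtain ⟨f, hf, hfe⟩ := (hsub ω hω).2.2.2.2.2 h.1
        set u : G := (f : G)⁻¹ * (h.1 : G)
        have huω : u • ω = ω := by
          have : (f : G) • ω = (h.1 : G) • ω := hfe
          rw [mul_smul, ← this, inv_smul_smul]
        -- u = s h s⁻¹ for some s in T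
        let g : T → T := fun s => ⟨(s : G) * ((h.1 : G) * (s : G)⁻¹ * (h.1 : G)⁻¹),
          T.mul_mem s.2 ((Subgroup.mem_normalizer_iff.mp (hTn h.1.2) _).mp (T.inv_mem s.2))⟩
        have hg : Function.Bijective g := by
          refine Finite.injective_iff_bijective.mp fun a b hab => ?_
          have e : (a : G) * ((h.1 : G) * (a : G)⁻¹ * (h.1 : G)⁻¹) = (b : G) * ((h.1 : G) * (b : G)⁻¹ * (h.1 : G)⁻¹) := congrArg Subtype.val hab
          have e2 : (b : G)⁻¹ * a = (h.1 : G) * ((b : G)⁻¹ * a) * (h.1 : G)⁻¹ := by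
            calc (b : G)⁻¹ * a = (b : G)⁻¹ * ((a : G) * ((h.1 : G) * (a : G)⁻¹ * (h.1 : G)⁻¹)) * ((h.1 : G) * a * (h.1 : G)⁻¹) := by group
              _ = (b : G)⁻¹ * ((b : G) * ((h.1 : G) * (b : G)⁻¹ * (h.1 : G)⁻¹)) * ((h.1 : G) * a * (h.1 : G)⁻¹) := by rw [e]
              _ = _ := by group
          by_contra hne1
          apply hha
          haveI : Fact (Nat.card T).Prime := ⟨hTq ▸ hq⟩
          have hune : b⁻¹ * a ≠ (1 : T) := fun e => hne1 (inv_mul_eq_one.mp e).symm
          obtain ⟨j, hj⟩ := mem_powers_iff_mem_zpowers.mpr (mem_zpowers_of_prime_card (p := q) hTq hune : (⟨t, htT⟩ : T) ∈ Subgroup.zpowers (b⁻¹ * a : T))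
          have hj' : ((b : G)⁻¹ * a) ^ j = t := congrArg Subtype.val hj
          rw [← hj', ← conj_pow, ← e2]
        obtain ⟨s, hs⟩ := hg.2 (⟨(f : G)⁻¹, T.inv_mem ⟨f, hf, rfl⟩⟩ : T)
        have hs' : (s : G) * ((h.1 : G) * (s : G)⁻¹ * (h.1 : G)⁻¹) = (f : G)⁻¹ := congrArg Subtype.val hs
        have hus : u = (s : G) * (h.1 : G) * (s : G)⁻¹ := by
          rw [show u = (f : G)⁻¹ * (h.1 : G) from rfl, ← hs']; group
        obtain ⟨⟨x, hx⟩, hxe⟩ := exists_smul_eq N α ((s : G)⁻¹ • ω)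
        have hxK : x ∈ K := by
          rw [hKe]
          refine ⟨hx, ?_⟩
          change (h.1 : G) • ((⟨x, hx⟩ : N) • α) = (⟨x, hx⟩ : N) • α
          rw [hxe, eq_inv_smul_iff, smul_smul, smul_smul, ← hus]
          exact huω
        have hx1 : x ≠ 1 := by
          rintro rfl
          apply hω
          change ω = α
          rw [Subgroup.mk_smul, one_smul, eq_inv_smul_iff] at hxe
          rw [← hxe]; exact hTH s.2
        refine ⟨(s, ⟨x, hxK, hx1⟩), Subtype.ext ?_⟩
        change (s : G) • ((⟨x, hx⟩ : N) • α) = ω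
        rw [hxe, smul_inv_smul]
    obtain ⟨f, -, hf⟩ := (Nat.dvd_prime_pow hp).mp (hNcard ▸ Subgroup.card_dvd_of_le (inf_le_left : K ≤ N))
    rw [hTq, hf, Nat.card_eq_fintype_card (α := Ω), hcard] at hbij
    -- a T-invariant subgroup of order p^i has q ∣ p^i - 1
    by_contra hcon
    push Not at hcon
    obtain ⟨i, hid, hi⟩ := (Nat.dvd_prime_pow hp).mp (hNcard ▸ Subgroup.card_dvd_of_le hWN)
    have hi0 : 0 < i := by
      by_contra hc
      obtain rfl : i = 0 := by omega
      exact hcon.1 (Subgroup.eq_bot_of_card_eq W (by simpa using hi))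
    have hilt : i < d := by
      refine lt_of_le_of_ne hid ?_
      rintro rfl
      exact hcon.2 (Subgroup.eq_of_le_of_card_ge hWN (by rw [hNcard, hi]))
    have hqi : q ∣ p ^ i - 1 := by
      have hT : IsPGroup q T := IsPGroup.of_card (n := 1) (by rw [pow_one, hTq])
      letI : MulAction T W := MulAction.compHom W (W.normalizerMonoidHom.comp (Subgroup.inclusion hWT))
      have h1 := hT.card_modEq_card_fixedPoints W
      have h2 : fixedPoints T W = {(1 : W)} := by
        ext x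
        constructor
        · intro hx
          by_contra hx1
          have hxα : (x : G) • α ≠ α := fun e => hx1 (Subtype.ext (hreg x (hWN x.2) e))
          apply ht1
          refine hTfix t htT _ hxα ?_
          rw [← hconj t (hTH htT)]
          have h3 : t * (x : G) * t⁻¹ = (x : G) := congrArg Subtype.val (hx ⟨t, htT⟩)
          rw [h3]
        · rintro rfl s
          exact map_one (W.normalizerMonoidHom (Subgroup.inclusion hWT s))
      rw [h2, hi, Nat.card_unique] at h1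
      exact (Nat.modEq_iff_dvd' (Nat.one_le_pow _ _ hp.pos)).mp h1.symm
    exact count_arith hp hq hbij hqi hi0 hilt
  have hirr : ∀ W : AddSubgroup A, (∀ x ∈ W, E t x ∈ W) → W = ⊥ ∨ W = ⊤ := by
    intro W hW
    let W' : Subgroup G :=
      { carrier := {x | ∃ hx : x ∈ N, Additive.ofMul (⟨x, hx⟩ : N) ∈ W}
        one_mem' := ⟨N.one_mem, W.zero_mem⟩
        mul_mem' := fun {a b} ⟨ha, ha'⟩ ⟨hb, hb'⟩ => ⟨N.mul_mem ha hb, W.add_mem ha' hb'⟩
        inv_mem' := fun {a} ⟨ha, ha'⟩ => ⟨N.inv_mem ha, W.neg_mem ha'⟩ }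
    rcases hirrH W' (fun x hx => hx.1) (fun x ⟨hx, hx'⟩ => ⟨hNn.conj_mem x hx t, hW _ hx'⟩) with e | e
    · left
      rw [AddSubgroup.eq_bot_iff_forall]
      intro x hx
      have h1 : ((x.toMul : N) : G) ∈ W' := ⟨x.toMul.2, hx⟩
      rw [e, Subgroup.mem_bot] at h1
      exact Additive.toMul.injective (Subtype.ext h1)
    · right
      rw [AddSubgroup.eq_top_iff']
      intro x
      obtain ⟨_, h2⟩ := (e.ge x.toMul.2 : ((x.toMul : N) : G) ∈ W')
      exact h2
  obtain ⟨hmin, hnorm⟩ := CfsgLib.Recog.irreducible_cyclic_action hp hAcard hd (E t) hEt hirr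
  refine ⟨q, hq, horb, hqd, hmin, T, hTH, hTn, hTq, ⟨_, hsupH⟩, ?_⟩
  rw [hHcard]
  refine mul_dvd_mul_left q (orderOf_dvd_of_pow_eq_one ?_)
  obtain ⟨a, ha⟩ := hTgen _ ((Subgroup.mem_normalizer_iff.mp (hTn h.1.2) t).mp htT)
  have hσ := hnorm (E.toHomUnits (h.1 : G)) a (by
    rw [← map_inv, MonoidHom.coe_toHomUnits, MonoidHom.coe_toHomUnits, ← map_mul, ← map_mul, ← map_pow, ha])
  rw [← map_pow, ← map_inv, MonoidHom.coe_toHomUnits, MonoidHom.coe_toHomUnits, ← map_mul, ← map_mul] at hσ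
  -- so h^d centralises T
  have hcm : ((h.1 : G) ^ d) * t * ((h.1 : G) ^ d)⁻¹ = t := by
    rw [← mul_inv_eq_one]
    refine hEinj _ ?_ ?_
    · have hd' : (h.1 : G) ^ d ∈ H := H.pow_mem h.1.2 d
      exact H.mul_mem (H.mul_mem (H.mul_mem hd' (hTH htT)) (H.inv_mem hd')) (H.inv_mem (hTH htT))
    · rw [map_mul, hσ, ← map_mul, mul_inv_cancel, map_one]
  apply hψ
  rw [map_one, map_pow]
  apply MulEquiv.ext
  intro f
  apply Subtype.ext; apply Subtype.ext
  obtain ⟨k, hk⟩ := hTgen ((f.1 : H) : G) ⟨f.1, f.2, rfl⟩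
  rw [← map_pow]
  change (((h ^ d : C).1 : H) : G) * ((f.1 : H) : G) * (((h ^ d : C).1 : H) : G)⁻¹ = ((f.1 : H) : G)
  rw [← hk, ← conj_pow, SubmonoidClass.coe_pow, SubmonoidClass.coe_pow, hcm]
/-- The soluble extremely primitive groups. Let a finite solvable group G act faithfully and primitively on a finite set Ω with p ^ d points (p prime), with non-trivial point stabilizers each acting primitively on every one of its orbits. Then there is a prime q such that every orbit of a point stabilizer G_α other than {α} has exactly q points, q divides p ^ d − 1 but no p ^ i − 1 with 0 < i < d, and G_α has a normal subgroup T of order q with G_α generated by T and one further element and the order of G_α dividing q·d (so G_α is cyclic of order q, or an extension of T by a cyclic group of order dividing d). -/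
theorem result {G : Type*} [Group G] [Finite G] {Ω : Type*} [Fintype Ω] [MulAction G Ω] [FaithfulSMul G Ω] [Group.IsSolvable G] (p d : ℕ) (hp : p.Prime) (hcard : Fintype.card Ω = p ^ d)
    (hprim : MulAction.IsPreprimitive G Ω) (hH : ∀ α : Ω, MulAction.stabilizer G α ≠ ⊥) (hep : ∀ (α : Ω) (ω : Ω), MulAction.IsPreprimitive (MulAction.stabilizer G α) (MulAction.orbit (MulAction.stabilizer G α) ω)) (α : Ω) :
    ∃ q : ℕ, q.Prime ∧ (∀ ω : Ω, ω ≠ α → Nat.card (MulAction.orbit (MulAction.stabilizer G α) ω) = q) ∧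
      q ∣ p ^ d - 1 ∧ (∀ i : ℕ, 0 < i → i < d → ¬ q ∣ p ^ i - 1) ∧
      ∃ T : Subgroup G, T ≤ MulAction.stabilizer G α ∧ MulAction.stabilizer G α ≤ Subgroup.normalizer (T : Set G) ∧ Nat.card T = q ∧
        (∃ h : G, MulAction.stabilizer G α = T ⊔ Subgroup.zpowers h) ∧ Nat.card (MulAction.stabilizer G α) ∣ q * d := by
  classical
  haveI := hprim
  exact extremely_primitive_solvable p d hp hcard hH hep α

end Cfsg.Agent.S3496
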