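import Cfsg.Statements.S3497
import Mathlib
import Cfsg.Agent.Lib.Recog.ExtremelyPrimitive

set_option autoImplicit false
open Cfsg

namespace Cfsg.Agent.S3497

/-- Restrictions on the point stabilizer of an extremely primitive group. Let a finite group G act faithfully and primitively on a finite set Ω with point stabilizers H = G_α whose order is neither 1 nor a prime, each acting primitively on every one of its orbits. Then H has trivial center, the Fitting subgroup F(H) is an elementary abelian p-group for some prime p, and if F(H) ≠ 1 has order p ^ e then p ^ e divides the number of points minus one and H / F(H) embeds in GL_e(p) (there is a homomorphism from H to GL_e(p) with kernel exactly F(H)). -/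
theorem result {G : Type*} [Group G] [Finite G] {Ω : Type*} [Fintype Ω] [MulAction G Ω] [FaithfulSMul G Ω] (hprim : MulAction.IsPreprimitive G Ω) (hep : ∀ (α : Ω) (ω : Ω), MulAction.IsPreprimitive (MulAction.stabilizer G α) (MulAction.orbit (MulAction.stabilizer G α) ω)) (α : Ω)
    (hH1 : MulAction.stabilizer G α ≠ ⊥) (hHp : ¬ (Nat.card (MulAction.stabilizer G α)).Prime) :
    Subgroup.center (MulAction.stabilizer G α) = ⊥ ∧
    IsMulCommutative (Cfsg.fittingSubgroup (MulAction.stabilizer G α)) ∧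
    ∃ p e : ℕ, p.Prime ∧ Nat.card (Cfsg.fittingSubgroup (MulAction.stabilizer G α)) = p ^ e ∧
      (∀ x ∈ Cfsg.fittingSubgroup (MulAction.stabilizer G α), x ^ p = 1) ∧
      (Cfsg.fittingSubgroup (MulAction.stabilizer G α) ≠ ⊥ →
        p ^ e ∣ Fintype.card Ω - 1 ∧
        ∃ φ : MulAction.stabilizer G α →* GL (Fin e) (ZMod p), φ.ker = Cfsg.fittingSubgroup (MulAction.stabilizer G α)) := by
  classical
  haveI := hprim
  haveI : MulAction.IsPretransitive G Ω := hprim.toIsPretransitive
  have hH : ∀ β : Ω, MulAction.stabilizer G β ≠ ⊥ := CfsgLib.Recog.stabilizer_ne_bot_of_transitive hH1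
  by_cases hΩ : ∀ ω : Ω, ω = α
  · exfalso
    apply hH1
    rw [Subgroup.eq_bot_iff_forall]
    exact fun g _ => eq_of_smul_eq_smul fun x : Ω => (hΩ _).trans (hΩ _).symm
  push Not at hΩ
  obtain ⟨ω₀, hω₀⟩ := hΩ
  set H := MulAction.stabilizer G α
  haveI := hep α ω₀
  haveI := CfsgLib.Recog.suborbit_faithful hprim hH hep hω₀
  haveI : Nonempty (MulAction.orbit H ω₀) := ⟨⟨ω₀, MulAction.mem_orbit_self ω₀⟩⟩
  refine ⟨CfsgLib.Recog.center_eq_bot_of_primitive (Δ := MulAction.orbit H ω₀) hHp, ?_⟩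
  set F := Cfsg.fittingSubgroup H
  by_cases hF : F = ⊥
  · haveI : Subsingleton F := by rw [hF]; infer_instance
    refine ⟨⟨⟨fun a b => Subsingleton.elim _ _⟩⟩, 2, 0, Nat.prime_two, by rw [hF]; simp, fun x hx => ?_, fun h => absurd hF h⟩
    rw [hF, Subgroup.mem_bot] at hx
    rw [hx, one_pow]
  obtain ⟨hab, ⟨r, hr, hpow⟩, -, hC⟩ := CfsgLib.Recog.fitting_of_primitive (Δ := MulAction.orbit H ω₀) hF
  haveI : F.Normal := CfsgLib.Solvable.fittingSubgroup_normal H
  haveI := hab
  haveI := Fact.mk hr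
  obtain ⟨e, φ, hcard, hker⟩ := CfsgLib.Recog.exists_gl_hom F hpow
  refine ⟨hab, r, e, hr, hcard, hpow, fun _ => ⟨?_, φ, hker.trans hC⟩⟩
  have horb : ∀ ω : Ω, ω ≠ α → Nat.card (MulAction.orbit H ω) = r ^ e := by
    intro ω hω
    haveI := hep α ω
    haveI := CfsgLib.Recog.suborbit_faithful hprim hH hep hω
    haveI : Nonempty (MulAction.orbit H ω) := ⟨⟨ω, MulAction.mem_orbit_self ω⟩⟩
    exact (CfsgLib.Recog.fitting_of_primitive (Δ := MulAction.orbit H ω) hF).2.2.1.symm.trans hcard
  have hsum : Fintype.card Ω = ∑ o ∈ (Finset.univ.image fun x : Ω => (Quotient.mk (MulAction.orbitRel H Ω) x)),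
      (Finset.univ.filter fun x : Ω => Quotient.mk (MulAction.orbitRel H Ω) x = o).card := by
    rw [← Finset.card_eq_sum_card_image]; rfl
  have hfib : ∀ x : Ω, (Finset.univ.filter fun y : Ω => Quotient.mk (MulAction.orbitRel H Ω) y = Quotient.mk (MulAction.orbitRel H Ω) x).card
      = Nat.card (MulAction.orbit H x) := by
    intro x
    rw [Nat.card_coe_set_eq, ← Set.ncard_coe_finset]
    congr 1
    ext y
    simp [Quotient.eq, MulAction.orbitRel_apply]
  have hα : Nat.card (MulAction.orbit H α) = 1 := by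
    rw [Nat.card_eq_one_iff_unique]
    refine ⟨⟨fun a b => ?_⟩, ⟨⟨α, MulAction.mem_orbit_self α⟩⟩⟩
    obtain ⟨_, g, rfl⟩ := a
    obtain ⟨_, h, rfl⟩ := b
    exact Subtype.ext ((g.2 : (g : G) • α = α).trans (h.2 : (h : G) • α = α).symm)
  set o₀ := Quotient.mk (MulAction.orbitRel H Ω) α
  have hm : o₀ ∈ Finset.univ.image fun x : Ω => (Quotient.mk (MulAction.orbitRel H Ω) x) :=
    Finset.mem_image.mpr ⟨α, Finset.mem_univ α, rfl⟩
  rw [hsum, ← Finset.add_sum_erase _ _ hm, hfib, hα, Nat.add_sub_cancel_left]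
  refine Finset.dvd_sum fun o ho => ?_
  obtain ⟨hne, hmem⟩ := Finset.mem_erase.mp ho
  obtain ⟨x, -, rfl⟩ := Finset.mem_image.mp hmem
  rw [hfib, horb x]
  rintro rfl
  exact hne rfl

end Cfsg.Agent.S3497
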