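import Cfsg.Statements.S3498


set_option autoImplicit false
open Cfsg
open scoped Pointwise

namespace Cfsg.Agent.S3498

/-- A maximal subgroup of a finite almost simple group does not have prime order. Here G is almost simple in the sense that it has a non-abelian simple normal subgroup T with trivial centralizer. -/
theorem result {G : Type*} [Group G] [Finite G] (T : Subgroup G) [T.Normal] (hT : IsSimpleGroup T) (hTc : ¬ IsMulCommutative T)
    (hC : Subgroup.centralizer (T : Set G) = ⊥) (H : Subgroup G) (hmax : IsCoatom H) : ¬ (Nat.card H).Prime := by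
  intro hp
  set p := Nat.card H with hpdef
  have : Fact p.Prime := ⟨hp⟩
  have hTne : T ≠ ⊥ := fun h => hTc (h ▸ inferInstance)
  -- a generator of `H`
  obtain ⟨x, hx⟩ := exists_prime_orderOf_dvd_card' (G := H) p dvd_rfl
  have hHx : Subgroup.zpowers (x : G) = H := Subgroup.eq_of_le_of_card_ge (Subgroup.zpowers_le.mpr x.2)
    (by rw [Nat.card_zpowers, Subgroup.orderOf_coe, hx])
  have hcx : Subgroup.centralizer ({(x : G)} : Set G) = H := by
    have hle : H ≤ Subgroup.centralizer ({(x : G)} : Set G) :=
      hHx.symm.le.trans (Subgroup.zpowers_le.mpr (Subgroup.mem_centralizer_singleton_iff.mpr rfl))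
    rcases hmax.le_iff.mp hle with h | h
    · exfalso
      have hmem : (x : G) ∈ Subgroup.centralizer (T : Set G) := fun t _ => by
        have := h.ge (Subgroup.mem_top t)
        rw [Subgroup.mem_centralizer_singleton_iff] at this
        exact this
      rw [hC, Subgroup.mem_bot] at hmem
      rw [← Subgroup.orderOf_coe, hmem, orderOf_one] at hx
      exact hp.ne_one hx.symm
    · exact h
  have hTH : ¬ T ≤ H := fun h => hTc (by
    have := Subgroup.card_dvd_of_le h
    rcases (Nat.dvd_prime hp).mp this with e | e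
    · exact absurd (T.eq_bot_of_card_eq e) hTne
    · have : IsCyclic T := isCyclic_of_prime_card e
      exact ⟨⟨fun a b => (IsCyclic.commGroup (α := T)).mul_comm a b⟩⟩)
  have hHT : H ⊓ T = ⊥ ∨ H ≤ T := by
    rcases (Nat.dvd_prime hp).mp (Subgroup.card_dvd_of_le (inf_le_left : H ⊓ T ≤ H)) with e | e
    · exact Or.inl ((H ⊓ T).eq_bot_of_card_eq e)
    · exact Or.inr (inf_eq_left.mp (Subgroup.eq_of_le_of_card_ge inf_le_left e.ge))
  rcases hHT with hbot | hle
  · -- `x` acts without fixed points, and fixes a Sylow subgroup for each prime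
    have hpT : ¬ p ∣ Nat.card T := by
      intro hd
      let φ : H →* MulAut T := MulAut.conjNormal.comp H.subtype
      let _ : MulAction H T := MulAction.compHom T φ
      have hpg : IsPGroup p H := IsPGroup.of_card (n := 1) (by rw [pow_one])
      obtain ⟨t, ht, ht1⟩ := hpg.exists_fixed_point_of_prime_dvd_card_of_fixed_point T hd
        (a := (1 : T)) (fun h => map_one (φ h))
      have e : (x : G) * t * (x : G)⁻¹ = t := congrArg Subtype.val (ht x)
      have hmem : (t : G) ∈ H := by
        rw [← hcx, Subgroup.mem_centralizer_singleton_iff]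
        exact (mul_inv_eq_iff_eq_mul.mp e).symm
      have h' : (t : G) ∈ H ⊓ T := ⟨hmem, t.2⟩
      rw [hbot, Subgroup.mem_bot] at h'
      exact ht1 (Subtype.ext h').symm
    obtain ⟨r, hr, hrT⟩ := Nat.exists_prime_and_dvd (T.one_lt_card_iff_ne_bot.mpr hTne).ne'
    have : Fact r.Prime := ⟨hr⟩
    let _ : MulDistribMulAction H T := MulDistribMulAction.compHom T (MulAut.conjNormal.comp H.subtype : H →* MulAut T)
    have hcop : Nat.card (Sylow r T) ∣ Nat.card T := by
      let R₀ : Sylow r T := Classical.arbitrary _
      exact (Sylow.card_dvd_index R₀).trans (Subgroup.index_dvd_card _)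
    have hpg : IsPGroup p H := IsPGroup.of_card (n := 1) (by rw [pow_one])
    obtain ⟨R, hR⟩ := hpg.nonempty_fixed_point_of_prime_not_dvd_card (Sylow r T)
      (fun h => hpT (h.trans hcop))
    let R' : Subgroup G := (R : Subgroup T).map T.subtype
    have hnorm : H ≤ Subgroup.normalizer (R' : Set G) := by
      rw [← hHx, Subgroup.zpowers_le]
      apply Subgroup.mem_normalizer_fintype
      rintro y ⟨t, ht, rfl⟩
      refine ⟨MulAut.conjNormal (x : G) t, ?_, rfl⟩
      have h1 : ((x • R : Sylow r T) : Subgroup T) = R := by rw [hR x]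
      rw [← h1]
      exact ⟨t, ht, rfl⟩
    have hR1 : (R : Subgroup T) ≠ ⊥ := R.ne_bot_of_dvd_card hrT
    rcases hmax.le_iff.mp (le_sup_right : H ≤ R' ⊔ H) with h | h
    · -- then `R = T`
      have hT_le : T ≤ R' := by
        intro t ht
        have hmem : (t : G) ∈ ((R' ⊔ H : Subgroup G) : Set G) := by rw [h]; exact Subgroup.mem_top t
        rw [Subgroup.coe_mul_of_right_le_normalizer_left R' H hnorm] at hmem
        obtain ⟨a, ha, b, hb, rfl⟩ := hmem
        have hbT : b ∈ H ⊓ T := ⟨hb, by
          obtain ⟨a', -, rfl⟩ := ha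
          exact (Subgroup.mul_mem_cancel_left T a'.2).mp ht⟩
        rw [hbot, Subgroup.mem_bot] at hbT
        show a * b ∈ R'
        rwa [hbT, mul_one]
      have hRtop : (R : Subgroup T) = ⊤ := by
        rw [eq_top_iff]
        intro t _
        obtain ⟨s, hs, hst⟩ := hT_le t.2
        exact Subtype.ext hst ▸ hs
      have hTr : IsPGroup r T := (hRtop ▸ R.isPGroup' : IsPGroup r (⊤ : Subgroup T)).of_equiv Subgroup.topEquiv
      have : Nontrivial T := T.nontrivial_iff_ne_bot.mpr hTne
      have hz := hTr.center_nontrivial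
      rcases IsSimpleGroup.eq_bot_or_eq_top_of_normal _ (inferInstance : (Subgroup.center T).Normal) with e | e
      · exact (Subgroup.nontrivial_iff_ne_bot _).mp hz e
      · exact hTc ⟨⟨fun a b => ((Subgroup.mem_center_iff.mp (e ▸ Subgroup.mem_top b)) a)⟩⟩
    · apply hR1
      rw [Subgroup.eq_bot_iff_forall]
      intro t ht
      have hmem : (t : G) ∈ H ⊓ T :=
        ⟨h ▸ Subgroup.mem_sup_left (⟨t, ht, rfl⟩ : (t : G) ∈ R'), t.2⟩
      rw [hbot, Subgroup.mem_bot] at hmem
      exact Subtype.ext hmem
  · -- `T` is the whole group and `H` is a self-centralising Sylow subgroup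
    have hTtop : T = ⊤ := (hmax.le_iff.mp hle).resolve_right fun e => hTH e.le
    subst hTtop
    have hpg : IsPGroup p H := IsPGroup.of_card (n := 1) (by rw [pow_one])
    obtain ⟨P, hP⟩ := hpg.exists_le_sylow
    have hPH : (P : Subgroup G) = H := by
      refine (hmax.le_iff.mp hP).resolve_left fun e => ?_
      have hTr : IsPGroup p (⊤ : Subgroup G) := e ▸ P.isPGroup'
      have : Nontrivial (⊤ : Subgroup G) := Subgroup.nontrivial_iff_ne_bot _ |>.mpr hTne
      have hz := hTr.center_nontrivial
      rcases IsSimpleGroup.eq_bot_or_eq_top_of_normal _ (inferInstance : (Subgroup.center (⊤ : Subgroup G)).Normal) with e' | e'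
      · exact (Subgroup.nontrivial_iff_ne_bot _).mp hz e'
      · exact hTc ⟨⟨fun a b => ((Subgroup.mem_center_iff.mp (e' ▸ Subgroup.mem_top b)) a)⟩⟩
    have hN : Subgroup.normalizer (H : Set G) = H := by
      refine (hmax.le_iff.mp Subgroup.le_normalizer).resolve_left fun e => ?_
      have hn : H.Normal := Subgroup.normalizer_eq_top_iff.mp e
      have : IsSimpleGroup G := MulEquiv.isSimpleGroup Subgroup.topEquiv.symm
      rcases IsSimpleGroup.eq_bot_or_eq_top_of_normal _ hn with e' | e'
      · exact hp.ne_one (by rw [hpdef, e', Subgroup.card_bot])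
      · exact hmax.1 e'
    have hle' : Subgroup.normalizer ((P : Subgroup G) : Set G) ≤ Subgroup.centralizer ((P : Subgroup G) : Set G) := by
      rw [hPH, hN]
      intro a ha b hb
      rw [← hHx] at ha hb
      obtain ⟨i, rfl⟩ := Subgroup.mem_zpowers_iff.mp ha
      obtain ⟨j, rfl⟩ := Subgroup.mem_zpowers_iff.mp hb
      rw [← zpow_add, ← zpow_add, add_comm]
    have hker := MonoidHom.ker_transferSylow_isComplement' P hle'
    have : IsSimpleGroup G := MulEquiv.isSimpleGroup Subgroup.topEquiv.symm
    rcases IsSimpleGroup.eq_bot_or_eq_top_of_normal _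
      (inferInstance : (MonoidHom.transferSylow P hle').ker.Normal) with e | e
    · rw [e, Subgroup.isComplement'_bot_left, hPH] at hker
      exact hmax.1 hker
    · rw [e, Subgroup.isComplement'_top_left, hPH] at hker
      exact hp.ne_one (by rw [hpdef, hker, Subgroup.card_bot])

end Cfsg.Agent.S3498
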