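import Cfsg.Statements.S3501
import Cfsg.Agent.Lib.Recog.DerangeClasses
import Cfsg.Agent.Lib.Recog.AffineDerange
import Mathlib.GroupTheory.GroupAction.ConjAct
import Mathlib.Tactic.Linarith

set_option autoImplicit false
open Cfsg

namespace Cfsg.Agent.S3501

/-- Let a finite group G act faithfully and primitively on a finite set Ω with at least two points, and suppose G is not almost simple (it has no non-abelian simple normal subgroup with trivial centralizer). Then the derangements of G form a single conjugacy class if and only if G is sharply 2-transitive (2-transitive, and no non-identity element fixes two points). -/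
theorem result {G : Type*} [Group G] [Finite G] {Ω : Type*} [Fintype Ω] [MulAction G Ω] [FaithfulSMul G Ω] (hΩ : 2 ≤ Fintype.card Ω) (hprim : MulAction.IsPreprimitive G Ω) (hnas : ¬ ∃ T : Subgroup G, T.Normal ∧ IsSimpleGroup T ∧ ¬ IsMulCommutative T ∧ Subgroup.centralizer (T : Set G) = ⊥) :
    Nat.card {c : ConjClasses G // ∃ g : G, ConjClasses.mk g = c ∧ ∀ ω : Ω, g • ω ≠ ω} = 1 ↔ (MulAction.IsMultiplyPretransitive G Ω 2 ∧ ∀ g : G, g ≠ 1 → ∀ a b : Ω, a ≠ b → g • a = a → g • b ≠ b) := by
  classical
  have : Nontrivial Ω := Fintype.one_lt_card_iff_nontrivial.mp (by omega)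
  obtain ⟨α⟩ := (inferInstance : Nonempty Ω)
  have : Nontrivial G := by
    obtain ⟨g, hg⟩ := CfsgLib.Recog.exists_derangement G Ω
    exact ⟨g, 1, fun e => hg α (by rw [e, one_smul])⟩
  refine ⟨fun hκ => ?_, fun hst => ?_⟩
  · obtain ⟨N, hN, hne, hmin⟩ := CfsgLib.Solvable.exists_minimal_normal (G := G)
    by_cases hab : IsMulCommutative N
    swap
    · obtain ⟨d, hd, hc⟩ := CfsgLib.Recog.exists_three_derangements (Ω := Ω) hnas hN hne hmin hab
      have := CfsgLib.Recog.card_derangement_classes_ge hd hc
      omega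
    obtain ⟨-, ht, hs⟩ := CfsgLib.Recog.abelian_minimal_normal (Ω := Ω) hne hmin
    have hcls : ∀ v ∈ N, v ≠ 1 → ∀ ω : Ω, v • ω ≠ ω := fun v hv h1 =>
      CfsgLib.Recog.regular_derangement hs hv h1
    have hone : ∀ x y : G, (∀ ω : Ω, x • ω ≠ ω) → (∀ ω : Ω, y • ω ≠ ω) → IsConj x y := by
      intro x y hx hy
      have := (Nat.card_eq_one_iff_unique.mp hκ).1
      exact ConjClasses.mk_eq_mk_iff_isConj.mp (congrArg Subtype.val (this.elim
        (⟨_, x, rfl, hx⟩ : {c : ConjClasses G // ∃ g : G, ConjClasses.mk g = c ∧ ∀ ω : Ω, g • ω ≠ ω})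
        ⟨_, y, rfl, hy⟩))
    refine ⟨CfsgLib.Recog.two_transitive_of_conj hN hs α
      (fun v hv w hw hv1 hw1 => hone v w (hcls v hv hv1) (hcls w hw hw1)),
      fun g hg a b hab' ha hb => ?_⟩
    obtain ⟨x, hx, hxd⟩ := CfsgLib.Recog.exists_derangement_not_mem hN hs hg hab' ha hb
    obtain ⟨⟨v, hv⟩, hva⟩ := MulAction.exists_smul_eq N a b
    have hv1 : v ≠ 1 := fun e => hab' (by rw [← hva, Subgroup.mk_smul, e, one_smul])
    obtain ⟨c, hc⟩ := isConj_iff.mp (hone v x (hcls v hv hv1) hxd)
    exact hx (hc ▸ hN.conj_mem v hv c)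
  · obtain ⟨h2, hfix⟩ := hst
    have htr : MulAction.IsPretransitive G Ω := hprim.toIsPretransitive
    have : Fintype G := Fintype.ofFinite G
    set n := Fintype.card Ω
    -- stabilizers act regularly on the other points
    have hG : Nat.card G = n * (n - 1) := by
      have h0 := CfsgLib.Perm.natCard_eq_mul_stabilizer (G := G) α
      rw [h0, Nat.card_eq_fintype_card (α := Ω)]
      congr 1
      obtain ⟨β, hβ⟩ := exists_ne α
      let f : MulAction.stabilizer G α → {x : Ω // ¬ x = α} := fun g =>
        ⟨(g : G) • β, fun e => hβ (MulAction.injective (g : G) (e.trans (MulAction.mem_stabilizer_iff.mp g.2).symm))⟩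
      rw [Nat.card_congr (Equiv.ofBijective f ⟨?_, ?_⟩), Nat.card_eq_fintype_card,
        Fintype.card_subtype_compl, Fintype.card_subtype_eq]
      · intro x y hxy
        apply Subtype.ext
        by_contra hne'
        refine hfix ((y : G)⁻¹ * x) (fun e => hne' (inv_mul_eq_one.mp e).symm) α β hβ.symm ?_ ?_
        · exact MulAction.mem_stabilizer_iff.mp (mul_mem (inv_mem y.2) x.2)
        · rw [mul_smul, inv_smul_eq_iff]; exact congrArg Subtype.val hxy
      · rintro ⟨x, hx⟩
        obtain ⟨g, hga, hgb⟩ := CfsgLib.Perm.exists_smul_pair h2 (Ne.symm hβ) (Ne.symm hx)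
        exact ⟨⟨g, hga⟩, Subtype.ext hgb⟩
    let D := {g : G // ∀ ω : Ω, g • ω ≠ ω}
    have hDle : Nat.card D ≤ n - 1 := by
      have hsum := MulAction.sum_card_fixedBy_eq_card_orbits_mul_card_group G Ω
      have h1 : Fintype.card (Quotient (MulAction.orbitRel G Ω)) = 1 := by
        rw [Fintype.card_eq_one_iff]
        refine ⟨Quotient.mk'' α, fun q => ?_⟩
        induction q using Quotient.inductionOn' with
        | h x => exact Quotient.sound' (MulAction.exists_smul_eq G α x)
      rw [h1, one_mul] at hsum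
      have hle : ∀ g : G, (if g = 1 then 0 else Fintype.card (MulAction.fixedBy Ω g)) +
          (if ∀ ω : Ω, g • ω ≠ ω then 1 else 0) ≤ (if g = 1 then 0 else 1) := by
        intro g
        by_cases hg : g = 1
        · simp [hg]
        rw [if_neg hg, if_neg hg]
        by_cases hd : ∀ ω : Ω, g • ω ≠ ω
        · rw [if_pos hd, Fintype.card_eq_zero_iff.mpr ⟨fun x => hd x.1 x.2⟩]
        · rw [if_neg hd, add_zero, Fintype.card_le_one_iff]
          intro x y
          by_contra hxy
          exact hfix g hg x y (fun e => hxy (Subtype.ext e)) x.2 y.2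
      have := Finset.sum_le_sum (s := Finset.univ) (fun g _ => hle g)
      rw [Finset.sum_add_distrib, Finset.sum_boole, Finset.sum_ite, Finset.sum_ite] at this
      simp only [Finset.sum_const_zero, zero_add, Finset.sum_const, smul_eq_mul, mul_one,
        Nat.cast_id] at this
      have hD : Nat.card D = (Finset.univ.filter fun g : G => ∀ ω : Ω, g • ω ≠ ω).card := by
        rw [Nat.card_eq_fintype_card, Fintype.card_subtype]
      have hsplit := Finset.sum_filter_add_sum_filter_not Finset.univ (fun g : G => g = 1)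
        (fun g => Fintype.card (MulAction.fixedBy Ω g))
      rw [hsum, Finset.filter_eq' Finset.univ (1 : G), if_pos (Finset.mem_univ _),
        Finset.sum_singleton] at hsplit
      have hn1 : Fintype.card (MulAction.fixedBy Ω (1 : G)) = n :=
        Fintype.card_congr ⟨fun x => x.1, fun x => ⟨x, one_smul G x⟩, fun x => rfl, fun x => rfl⟩
      have hcne : (Finset.univ.filter fun g : G => ¬ g = 1).card = Fintype.card G - 1 := by
        rw [Finset.filter_ne' , Finset.card_erase_of_mem (Finset.mem_univ _), Finset.card_univ]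
      rw [← hD, hcne] at this
      omega
    obtain ⟨d, hd⟩ := CfsgLib.Recog.exists_derangement G Ω
    have hcls : ∀ x : G, (∀ ω : Ω, x • ω ≠ ω) → IsConj d x := by
      have hsub : ∀ x ∈ MulAction.orbit (ConjAct G) d, ∀ ω : Ω, x • ω ≠ ω := by
        intro x hx ω hω
        obtain ⟨c, hc⟩ := isConj_iff.mp (ConjAct.mem_orbit_conjAct.mp hx).symm
        rw [← hc, mul_smul, mul_smul, ← eq_inv_smul_iff] at hω
        exact hd _ hω
      have hinj : Nat.card (Subgroup.centralizer ({d} : Set G)) ≤ n := by
        show _ ≤ Fintype.card Ω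
        rw [← Nat.card_eq_fintype_card (α := Ω)]
        refine Nat.card_le_card_of_injective (fun g => (g : G) • α) fun x y hxy => ?_
        apply Subtype.ext
        by_contra hne'
        have hcd : ((y : G)⁻¹ * x) * d = d * ((y : G)⁻¹ * x) :=
          Subgroup.mem_centralizer_singleton_iff.mp (mul_mem (inv_mem y.2) x.2)
        have hfa : ((y : G)⁻¹ * x) • α = α := by rw [mul_smul, inv_smul_eq_iff]; exact hxy
        refine hfix ((y : G)⁻¹ * x) (fun e => hne' (inv_mul_eq_one.mp e).symm) α (d • α)
          (fun e => hd α e.symm) hfa ?_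
        rw [← mul_smul, hcd, mul_smul, hfa]
      have hge : n - 1 ≤ Nat.card (MulAction.orbit (ConjAct G) d) := by
        rw [Nat.card_congr (MulAction.orbitEquivQuotientStabilizer (ConjAct G) d),
          ← Subgroup.index_eq_card, ConjAct.stabilizer_eq_centralizer]
        have := (Subgroup.centralizer ({d} : Set G)).index_mul_card
        rw [hG] at this
        by_contra hlt
        push Not at hlt
        have h3 : (Subgroup.centralizer ({d} : Set G)).index * Nat.card (Subgroup.centralizer ({d} : Set G))
            < (n - 1) * n := Nat.mul_lt_mul_of_lt_of_le hlt hinj (by omega)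
        have h4 : (Subgroup.centralizer ({d} : Set G)).index * Nat.card (Subgroup.centralizer ({d} : Set G))
            = (n - 1) * n := this.trans (mul_comm _ _)
        exact absurd h4 (ne_of_lt h3)
      intro x hx
      let ι : MulAction.orbit (ConjAct G) d → D := fun y => ⟨y.1, hsub y.1 y.2⟩
      have hι : Function.Injective ι := fun a b e => Subtype.ext (congrArg Subtype.val e :)
      obtain ⟨⟨y, hy⟩, hyx⟩ := (Function.Injective.bijective_of_nat_card_le hι (hDle.trans hge)).2 ⟨x, hx⟩
      have : y = x := congrArg Subtype.val hyx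
      exact this ▸ (ConjAct.mem_orbit_conjAct.mp hy).symm
    rw [Nat.card_eq_one_iff_unique]
    refine ⟨⟨?_⟩, ⟨⟨_, d, rfl, hd⟩⟩⟩
    rintro ⟨_, x, rfl, hx⟩ ⟨_, y, rfl, hy⟩
    exact Subtype.ext (ConjClasses.mk_eq_mk_iff_isConj.mpr ((hcls x hx).symm.trans (hcls y hy)))

end Cfsg.Agent.S3501
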