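import Cfsg.Statements.S3504


set_option autoImplicit false
open Cfsg

namespace Cfsg.Agent.S3504

/-- For n ≥ 5, the fixed-point-free permutations of prime order in the symmetric group of degree n form a single conjugacy class if and only if n is a prime power. -/
theorem result (n : ℕ) (hn : 5 ≤ n) :
    Nat.card {c : ConjClasses (Equiv.Perm (Fin n)) // ∃ g : Equiv.Perm (Fin n), ConjClasses.mk g = c ∧ (orderOf g).Prime ∧ ∀ i : Fin n, g i ≠ i} = 1 ↔ IsPrimePow n := by
  classical
  have hkey : ∀ g : Equiv.Perm (Fin n), (orderOf g).Prime → (∀ i, g i ≠ i) →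
      g.cycleType = Multiset.replicate (n / orderOf g) (orderOf g) ∧ orderOf g ∣ n := by
    intro g hp hfix
    have : Fact (orderOf g).Prime := ⟨hp⟩
    obtain ⟨j, hj⟩ := Equiv.Perm.cycleType_prime_order hp
    have hsupp : g.support = Finset.univ := Finset.eq_univ_of_forall fun i => Equiv.Perm.mem_support.mpr (hfix i)
    have h := Equiv.Perm.sum_cycleType g
    rw [hj, hsupp, Multiset.sum_replicate, smul_eq_mul, Finset.card_univ, Fintype.card_fin] at h
    exact ⟨by rw [hj]; congr 1; exact (Nat.div_eq_of_eq_mul_left hp.pos h.symm).symm, ⟨j + 1, h.symm.trans (mul_comm _ _)⟩⟩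
  have hex : ∀ p ∈ n.primeFactors, ∃ g : Equiv.Perm (Fin n), orderOf g = p ∧ ∀ i, g i ≠ i := by
    intro p hp
    obtain ⟨hpp, hpn, hn0⟩ := Nat.mem_primeFactors.mp hp
    obtain ⟨g, hg⟩ := (Equiv.Perm.exists_with_cycleType_iff (α := Fin n)
      (m := Multiset.replicate (n / p) p)).mpr ⟨by
        rw [Multiset.sum_replicate, smul_eq_mul, Fintype.card_fin]; exact Nat.div_mul_le_self n p,
      fun a ha => (Multiset.eq_of_mem_replicate ha) ▸ hpp.two_le⟩
    refine ⟨g, ?_, fun i => ?_⟩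
    · rw [← Equiv.Perm.lcm_cycleType, hg]
      obtain ⟨j, hj⟩ : ∃ j, n / p = j + 1 := ⟨n / p - 1, by
        have := Nat.div_pos (Nat.le_of_dvd (Nat.pos_of_ne_zero hn0) hpn) hpp.pos; omega⟩
      rw [hj, Multiset.replicate_succ, Multiset.lcm_cons]
      exact Nat.lcm_eq_left (Multiset.lcm_dvd.mpr fun x hx => (Multiset.eq_of_mem_replicate hx) ▸ dvd_rfl)
    · refine Equiv.Perm.mem_support.mp ?_
      have hu : g.support = Finset.univ := Finset.eq_univ_of_card _ (by
        rw [← Equiv.Perm.sum_cycleType, hg, Multiset.sum_replicate, smul_eq_mul, Fintype.card_fin, Nat.div_mul_cancel hpn])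
      exact hu ▸ Finset.mem_univ i
  let S := {c : ConjClasses (Equiv.Perm (Fin n)) // ∃ g : Equiv.Perm (Fin n), ConjClasses.mk g = c ∧ (orderOf g).Prime ∧ ∀ i : Fin n, g i ≠ i}
  choose w hw1 hw2 using hex
  let f : {p // p ∈ n.primeFactors} → S := fun p =>
    ⟨ConjClasses.mk (w p p.2), w p p.2, rfl, (hw1 p p.2).symm ▸ Nat.prime_of_mem_primeFactors p.2, hw2 p p.2⟩
  have hbij : Function.Bijective f := by
    constructor
    · intro p q h
      have h' : IsConj (w p p.2) (w q q.2) := ConjClasses.mk_eq_mk_iff_isConj.mp (congrArg Subtype.val h)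
      obtain ⟨c, hc⟩ := isConj_iff.mp h'
      apply Subtype.ext
      rw [← hw1 p p.2, ← hw1 q q.2, ← hc]
      exact (MulEquiv.orderOf_eq (MulAut.conj c) (w p p.2)).symm
    · rintro ⟨c, g, rfl, hp, hfix⟩
      obtain ⟨hct, hdvd⟩ := hkey g hp hfix
      have hmem : orderOf g ∈ n.primeFactors := Nat.mem_primeFactors.mpr ⟨hp, hdvd, by omega⟩
      refine ⟨⟨_, hmem⟩, Subtype.ext (ConjClasses.mk_eq_mk_iff_isConj.mpr (Equiv.Perm.isConj_iff_cycleType_eq.mpr ?_))⟩
      have h' := (hkey (w _ hmem) ((hw1 _ hmem).symm ▸ hp) (hw2 _ hmem)).1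
      rw [hw1] at h'
      rw [h', hct]
  show Nat.card S = 1 ↔ _
  rw [← Nat.card_congr (Equiv.ofBijective f hbij), Nat.card_eq_fintype_card, Fintype.card_coe,
    isPrimePow_iff_card_primeFactors_eq_one]

end Cfsg.Agent.S3504
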