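import Cfsg.Statements.S3508


set_option autoImplicit false
open Cfsg

namespace Cfsg.Agent.S3508

/-- Translation-linear part of a permutation of an affine space, linearised in one dimension more. -/
theorem linear_pow_prime {p : ℕ} [Fact p.Prime] {V : Type*} [AddCommGroup V] [Module (ZMod p) V]
    [FiniteDimensional (ZMod p) V] (M : V →ₗ[ZMod p] V) (r s : ℕ) (hr : M ^ p ^ r = 1)
    (hs : Module.finrank (ZMod p) V ≤ p ^ s) : M ^ p ^ s = 1 := by
  have hp := (Fact.out : p.Prime)
  nontriviality (V →ₗ[ZMod p] V)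
  have : CharP (Module.End (ZMod p) V) p :=
    charP_of_injective_algebraMap (algebraMap (ZMod p) (Module.End (ZMod p) V)).injective p
  have hnil : IsNilpotent (M - 1 : Module.End (ZMod p) V) :=
    ⟨p ^ r, by rw [sub_pow_char_pow_of_commute p r (Commute.one_right M), one_pow]; exact sub_eq_zero.mpr hr⟩
  have h0 : (M - 1 : Module.End (ZMod p) V) ^ Module.finrank (ZMod p) V = 0 := by
    obtain ⟨k, hk⟩ := hnil
    exact LinearMap.ext fun v => by
      have hker := Module.End.ker_pow_le_ker_pow_finrank (M - 1 : Module.End (ZMod p) V) k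
      exact hker (show ((M - 1 : Module.End (ZMod p) V) ^ k) v = 0 by rw [hk]; rfl)
  have h1 : (M - 1 : Module.End (ZMod p) V) ^ p ^ s = 0 := pow_eq_zero_of_le hs h0
  rw [sub_pow_char_pow_of_commute p s (Commute.one_right M), one_pow, sub_eq_zero] at h1
  exact h1

/-- Let a finite group G act faithfully on a set Ω with p ^ m points (p prime) and have an elementary abelian normal p-subgroup N acting regularly on Ω (so G is a group of affine transformations of an m-dimensional space over the field with p elements). If G contains an element of order p ^ r with r ≥ 1, then p ^ (r − 1) ≤ m. In particular an element of order p ^ m forces m ≤ 2, and m ≤ 1 when p is odd. -/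
theorem result {G : Type*} [Group G] [Finite G] {Ω : Type*} [Fintype Ω] [MulAction G Ω] [FaithfulSMul G Ω] (p m : ℕ) (hp : p.Prime) (hcard : Fintype.card Ω = p ^ m)
    (N : Subgroup G) [N.Normal] (hNc : IsMulCommutative N) (hNp : ∀ n ∈ N, n ^ p = 1)
    (hNtr : MulAction.IsPretransitive N Ω) (hNreg : ∀ ω : Ω, MulAction.stabilizer N ω = ⊥)
    (g : G) (r : ℕ) (hr : 1 ≤ r) (hg : orderOf g = p ^ r) :
    p ^ (r - 1) ≤ m ∧ (r = m → m ≤ 2 ∧ (2 < p → m ≤ 1)) := by
  have : Fact p.Prime := ⟨hp⟩
  classical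
  let _ : CommGroup N := { (inferInstance : Group N) with mul_comm := hNc.is_comm.comm }
  have hz : ∀ x : Additive N, p • x = 0 := fun x => by
    apply Additive.toMul.injective
    exact Subtype.ext (hNp _ x.toMul.2)
  have : Module (ZMod p) (Additive N) := AddCommGroup.zmodModule hz
  have hbij : ∀ ω : Ω, Function.Bijective (fun n : N => n • ω) := fun ω => by
    refine ⟨fun a b hab => ?_, fun w => hNtr.exists_smul_eq ω w⟩
    have : b⁻¹ * a ∈ MulAction.stabilizer N ω := by
      show (b⁻¹ * a) • ω = ω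
      rw [mul_smul, show a • ω = b • ω from hab, inv_smul_smul]
    rw [hNreg ω, Subgroup.mem_bot] at this
    exact (inv_mul_eq_one.mp this).symm
  rcases isEmpty_or_nonempty Ω with h | ⟨⟨ω₀⟩⟩
  · rw [Fintype.card_eq_zero] at hcard
    exact absurd hcard.symm (pow_ne_zero m hp.ne_zero)
  have hN : Nat.card (Additive N) = p ^ m := by
    rw [Nat.card_congr Additive.toMul, Nat.card_congr (Equiv.ofBijective _ (hbij ω₀)), Nat.card_eq_fintype_card, hcard]
  have : Module.Finite (ZMod p) (Additive N) := Module.Finite.of_finite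
  have hdim : Module.finrank (ZMod p) (Additive N) = m := by
    have h := FiniteField.pow_finrank_eq_natCard p (Additive N)
    rw [hN] at h
    exact Nat.pow_right_injective hp.two_le h
  obtain ⟨c, hc⟩ := hNtr.exists_smul_eq ω₀ (g • ω₀)
  let A : Additive N →ₗ[ZMod p] Additive N :=
    ((MonoidHom.toAdditive (MulAut.conjNormal g : MulAut N).toMonoidHom).toZModLinearMap p)
  let M : (Additive N × ZMod p) →ₗ[ZMod p] (Additive N × ZMod p) :=
    LinearMap.prod (A ∘ₗ LinearMap.fst (ZMod p) (Additive N) (ZMod p) + (LinearMap.toSpanSingleton (ZMod p) (Additive N) (Additive.ofMul c)) ∘ₗ LinearMap.snd (ZMod p) (Additive N) (ZMod p))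
      (LinearMap.snd _ _ _)
  have hM : ∀ (j : ℕ) (x : Additive N), ∃ y : Additive N, (M ^ j) (x, 1) = (y, 1) ∧
      y.toMul • ω₀ = g ^ j • (x.toMul • ω₀) := by
    intro j
    induction j with
    | zero => exact fun x => ⟨x, by simp, by simp⟩
    | succ j ih =>
      intro x
      obtain ⟨y, hy, hy'⟩ := ih x
      refine ⟨A y + Additive.ofMul c, ?_, ?_⟩
      · rw [pow_succ', Module.End.mul_apply, hy]
        simp [M]
      · rw [pow_succ', mul_smul, ← hy']
        show ((MulAut.conjNormal g y.toMul : N) * c) • ω₀ = g • (y.toMul • ω₀)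
        rw [mul_smul, hc, Subgroup.smul_def, Subgroup.smul_def, MulAut.conjNormal_apply, smul_smul, smul_smul,
          inv_mul_cancel_right]
  have hback : ∀ j : ℕ, M ^ j = 1 → g ^ j = 1 := by
    intro j hj
    refine FaithfulSMul.eq_of_smul_eq_smul (α := Ω) fun w => ?_
    obtain ⟨n, rfl⟩ := (hbij ω₀).2 w
    obtain ⟨y, hy, hy'⟩ := hM j (Additive.ofMul n)
    rw [hj] at hy
    have : y = Additive.ofMul n := (congrArg Prod.fst hy).symm
    rw [one_smul]
    rw [this] at hy'
    exact hy'.symm
  have hforw : ∀ j : ℕ, g ^ j = 1 → M ^ j = 1 := by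
    intro j hj
    have h1 : ∀ x : Additive N, (M ^ j) (x, 1) = (x, 1) := fun x => by
      obtain ⟨y, hy, hy'⟩ := hM j x
      rw [hj, one_smul] at hy'
      rw [hy, show y = x from Additive.toMul.injective ((hbij ω₀).1 hy')]
    refine LinearMap.ext fun ⟨x, t⟩ => ?_
    have e : ((x, t) : Additive N × ZMod p) = ((x, 1) : Additive N × ZMod p) - (0, 1) + t • ((0, 1) : Additive N × ZMod p) := by
      simp [Prod.ext_iff]
    rw [Module.End.one_apply, e, map_add, map_sub, map_smul, h1, h1]
  have hfin : Module.finrank (ZMod p) (Additive N × ZMod p) = m + 1 := by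
    rw [Module.finrank_prod, hdim, Module.finrank_self]
  have hmain : p ^ (r - 1) ≤ m := by
    by_contra hlt
    have h1 := linear_pow_prime M r (r - 1) (hforw _ (hg ▸ pow_orderOf_eq_one g)) (by rw [hfin]; omega)
    have h2 := orderOf_dvd_of_pow_eq_one (hback _ h1)
    rw [hg, Nat.pow_dvd_pow_iff_le_right hp.one_lt] at h2
    omega
  refine ⟨hmain, fun hrm => ?_⟩
  subst hrm
  have hbound : ∀ q k : ℕ, 2 ≤ q → q ^ (k - 1) ≤ k → k ≤ 2 ∧ (2 < q → k ≤ 1) := by
    intro q k hq hk
    have hgrow : ∀ j : ℕ, j + 1 ≤ q ^ j := fun j => Nat.lt_pow_self hq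
    refine ⟨?_, fun hq3 => ?_⟩
    · by_contra h
      obtain ⟨j, rfl⟩ : ∃ j, k = j + 3 := ⟨k - 3, by omega⟩
      have h1 : q ^ (j + 3 - 1) = q ^ j * (q * q) := by rw [show j + 3 - 1 = j + 2 by omega, pow_add, pow_two]
      have := Nat.mul_le_mul (hgrow j) (Nat.mul_le_mul hq hq)
      rw [h1] at hk
      omega
    · by_contra h
      obtain ⟨j, rfl⟩ : ∃ j, k = j + 2 := ⟨k - 2, by omega⟩
      have h1 : q ^ (j + 2 - 1) = q ^ j * q := by rw [show j + 2 - 1 = j + 1 by omega, pow_succ]
      have := Nat.mul_le_mul (hgrow j) (show 3 ≤ q from hq3)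
      rw [h1] at hk
      omega
  exact hbound p r hp.two_le hmain

end Cfsg.Agent.S3508
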