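import Cfsg.Statements.S3511


set_option autoImplicit false
open Cfsg

namespace Cfsg.Agent.S3511

/-- Let a finite group G act faithfully on a set Ω. If every element of G of square-free order has a regular cycle (an orbit of the cyclic group it generates with trivial stabilizer), then every element of G has a regular cycle. -/
theorem result {G : Type*} [Group G] [Finite G] {Ω : Type*} [MulAction G Ω] [FaithfulSMul G Ω]
    (h : ∀ g : G, Squarefree (orderOf g) → ∃ ω : Ω, MulAction.stabilizer (Subgroup.zpowers g) ω = ⊥) (g : G) :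
    ∃ ω : Ω, MulAction.stabilizer (Subgroup.zpowers g) ω = ⊥ := by
  classical
  have hf := isOfFinOrder_of_finite g
  set n := orderOf g with hn
  have hn0 : n ≠ 0 := hf.orderOf_pos.ne'
  set r := ∏ p ∈ n.primeFactors, p with hr
  obtain ⟨m, hm⟩ : r ∣ n := Nat.prod_primeFactors_dvd n
  have hm0 : m ≠ 0 := fun h0 => hn0 (by rw [hm, h0, mul_zero])
  have ho : orderOf (g ^ m) = r := by
    rw [orderOf_pow' g hm0, ← hn, hm, Nat.gcd_mul_left_left, Nat.mul_div_cancel _ (Nat.pos_of_ne_zero hm0)]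
  obtain ⟨ω, hω⟩ := h (g ^ m) (by
    rw [ho, hr]
    exact Finset.squarefree_prod_of_pairwise_isCoprime
      (fun p hp q hq hpq => Nat.coprime_iff_isRelPrime.mp ((Nat.coprime_primes (Nat.prime_of_mem_primeFactors hp)
        (Nat.prime_of_mem_primeFactors hq)).mpr hpq))
      (fun p hp => (Nat.prime_of_mem_primeFactors hp).squarefree))
  refine ⟨ω, ?_⟩
  by_contra hne
  have : Nontrivial (MulAction.stabilizer (Subgroup.zpowers g) ω) := by
    rwa [Subgroup.nontrivial_iff_ne_bot]
  set S := MulAction.stabilizer (Subgroup.zpowers g) ω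
  obtain ⟨p, hp, hpS⟩ := Nat.exists_prime_and_dvd (Finite.one_lt_card (α := S)).ne'
  have : Fact p.Prime := ⟨hp⟩
  obtain ⟨x, hx⟩ := exists_prime_orderOf_dvd_card' p hpS
  have hxo : orderOf ((x : Subgroup.zpowers g) : G) = p := by
    rw [Subgroup.orderOf_coe, Subgroup.orderOf_coe, hx]
  obtain ⟨k, hk⟩ := (Submonoid.mem_powers_iff _ _).mp
    (hf.mem_powers_iff_mem_zpowers.mpr (x : Subgroup.zpowers g).2)
  have hkp : n ∣ k * p := orderOf_dvd_of_pow_eq_one (by
    rw [pow_mul, hk, ← hxo]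
    exact pow_orderOf_eq_one _)
  have hpn : p ∣ n := by
    have h1 := orderOf_dvd_natCard (x : Subgroup.zpowers g)
    rw [Nat.card_zpowers, Subgroup.orderOf_coe, hx] at h1
    exact h1
  have hpr : p ∣ r := hr ▸ Finset.dvd_prod_of_mem _ (Nat.mem_primeFactors.mpr ⟨hp, hpn, hn0⟩)
  have hmk : m ∣ k := by
    obtain ⟨c, hc⟩ := hpr
    rw [hm, hc, mul_assoc, mul_comm k p] at hkp
    exact (dvd_mul_left m c).trans ((mul_dvd_mul_iff_left hp.ne_zero).mp hkp)
  obtain ⟨c, rfl⟩ := hmk
  have hy : ((x : Subgroup.zpowers g) : G) ∈ Subgroup.zpowers (g ^ m) :=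
    Subgroup.mem_zpowers_iff.mpr ⟨c, by rw [zpow_natCast, ← pow_mul, hk]⟩
  have hmem : (⟨_, hy⟩ : Subgroup.zpowers (g ^ m)) ∈
      MulAction.stabilizer (Subgroup.zpowers (g ^ m)) ω := x.2
  rw [hω, Subgroup.mem_bot] at hmem
  rw [show ((x : Subgroup.zpowers g) : G) = 1 from congrArg Subtype.val hmem, orderOf_one] at hxo
  exact hp.ne_one hxo.symm

end Cfsg.Agent.S3511
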