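import Cfsg.Statements.S3514


set_option autoImplicit false
open Cfsg

namespace Cfsg.Agent.S3514

theorem relIndex_sup_eq {G : Type*} [Group G] [Finite G] (K S : Subgroup G) [K.Normal] :
    S.relIndex (K ⊔ S) = S.relIndex K := by
  have card_mul : ∀ {A B : Subgroup G}, A ≤ B → Nat.card A * A.relIndex B = Nat.card B :=
    fun {A B} h => by
      rw [← Subgroup.relIndex_bot_left A, ← Subgroup.relIndex_bot_left B,
        Subgroup.relIndex_mul_relIndex _ _ _ bot_le h]
  have e1 := card_mul (le_sup_right : S ≤ K ⊔ S)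
  have e2 := card_mul (le_sup_left : K ≤ K ⊔ S)
  have e3 := card_mul (inf_le_left : K ⊓ S ≤ K)
  have e4 := card_mul (inf_le_right : K ⊓ S ≤ S)
  rw [Subgroup.relIndex_sup_left] at e2
  rw [Subgroup.inf_relIndex_left] at e3
  rw [Subgroup.inf_relIndex_right] at e4
  have hpos : 0 < Nat.card (K ⊓ S : Subgroup G) * K.relIndex S := e4 ▸ Nat.card_pos
  refine Nat.eq_of_mul_eq_mul_left hpos ?_
  calc Nat.card (K ⊓ S : Subgroup G) * K.relIndex S * S.relIndex (K ⊔ S)
      = Nat.card (K ⊔ S : Subgroup G) := by rw [e4, e1]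
    _ = Nat.card K * K.relIndex S := e2.symm
    _ = Nat.card (K ⊓ S : Subgroup G) * K.relIndex S * S.relIndex K := by rw [← e3]; ring

/-- Let p be a prime, V a finite vector space over the field with p elements, and H a group of linear transformations of V all of whose orbits on V have size coprime to p. (i) Every normal subgroup K of H has all its orbits on V of size coprime to p. (ii) If N is a group of linear transformations of V of order coprime to p that is normalized by H, then the group generated by N and H has all its orbits on V of size coprime to p. -/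
theorem result (p : ℕ) [Fact p.Prime] {V : Type*} [AddCommGroup V] [Module (ZMod p) V] [Finite V]
    (H : Subgroup (V ≃ₗ[ZMod p] V)) (hH : ∀ v : V, ¬ p ∣ Nat.card {u : V | ∃ h ∈ H, h v = u}) :
    (∀ K : Subgroup (V ≃ₗ[ZMod p] V), K ≤ H → H ≤ Subgroup.normalizer (K : Set (V ≃ₗ[ZMod p] V)) →
        ∀ v : V, ¬ p ∣ Nat.card {u : V | ∃ k ∈ K, k v = u}) ∧
    (∀ N : Subgroup (V ≃ₗ[ZMod p] V), ¬ p ∣ Nat.card N → H ≤ Subgroup.normalizer (N : Set (V ≃ₗ[ZMod p] V)) →
        ∀ v : V, ¬ p ∣ Nat.card {u : V | ∃ x ∈ N ⊔ H, x v = u}) := by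
  have : Finite (V ≃ₗ[ZMod p] V) := Finite.of_injective (fun e => (e : V → V)) DFunLike.coe_injective
  have horb : ∀ (K : Subgroup (V ≃ₗ[ZMod p] V)) (v : V),
      Nat.card {u : V | ∃ k ∈ K, k v = u} = (MulAction.stabilizer (V ≃ₗ[ZMod p] V) v).relIndex K := by
    intro K v
    have hset : {u : V | ∃ k ∈ K, k v = u} = MulAction.orbit K v := by
      ext u
      exact ⟨fun ⟨k, hk, h⟩ => ⟨⟨k, hk⟩, h⟩, fun ⟨⟨k, hk⟩, h⟩ => ⟨k, hk, h⟩⟩
    have hstab : MulAction.stabilizer K v = (MulAction.stabilizer (V ≃ₗ[ZMod p] V) v).subgroupOf K :=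
      rfl
    rw [hset, Subgroup.relIndex, ← hstab, MulAction.index_stabilizer, Nat.card_coe_set_eq]
  refine ⟨fun K hKH hHK v => ?_, fun N hN hHN v => ?_⟩ <;> rw [horb] <;> intro hdvd <;>
    apply hH v <;> rw [horb]
  · have : (K.subgroupOf H).Normal := Subgroup.normal_subgroupOf_of_le_normalizer hHK
    refine hdvd.trans ?_
    rw [← Subgroup.relIndex_subgroupOf hKH, ← relIndex_sup_eq]
    exact Subgroup.relIndex_dvd_index_of_le le_sup_right
  · set S := MulAction.stabilizer (V ≃ₗ[ZMod p] V) v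
    have h1 : p ∣ (S ⊓ H).relIndex (N ⊔ H) :=
      hdvd.trans (Subgroup.relIndex_dvd_of_le_left _ inf_le_left)
    rw [← Subgroup.relIndex_mul_relIndex (S ⊓ H) H (N ⊔ H) inf_le_right le_sup_right,
      Subgroup.inf_relIndex_right] at h1
    refine ((Fact.out : p.Prime).dvd_mul.mp h1).resolve_right fun h2 => hN (h2.trans ?_)
    have : (N.subgroupOf (N ⊔ H)).Normal :=
      Subgroup.normal_subgroupOf_of_le_normalizer (sup_le Subgroup.le_normalizer hHN)
    have h3 : H.relIndex (N ⊔ H) = H.relIndex N := by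
      have h := relIndex_sup_eq (N.subgroupOf (N ⊔ H)) (H.subgroupOf (N ⊔ H))
      rwa [← Subgroup.subgroupOf_sup le_sup_left le_sup_right, Subgroup.subgroupOf_self,
        Subgroup.relIndex_top_right, Subgroup.relIndex_subgroupOf le_sup_left] at h
    rw [h3]
    exact Subgroup.relIndex_dvd_card _ _

end Cfsg.Agent.S3514
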