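import Cfsg.Statements.S3515
import Mathlib

set_option autoImplicit false
open Cfsg

namespace Cfsg.Agent.S3515

theorem plane_two_cases : ∀ x : Fin 2 → ZMod 2, x = 0 ∨ x = Pi.single 0 1 ∨ x = Pi.single 1 1 ∨
    x = Pi.single 0 1 + Pi.single 1 1 := by decide

theorem plane_two_ne : ¬ (0 : Fin 2 → ZMod 2) = Pi.single 0 1 + Pi.single 1 1 ∧
    ¬ (Pi.single 0 1 : Fin 2 → ZMod 2) = Pi.single 0 1 + Pi.single 1 1 ∧
    ¬ (Pi.single 1 1 : Fin 2 → ZMod 2) = Pi.single 0 1 + Pi.single 1 1 := by decide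

/-- Every primitive affine permutation group of degree p² is 3-closed. Let p be a prime and G a group of permutations of the plane V = F_p² consisting of affine maps x ↦ Ax + b, containing all translations, and acting primitively on V. Then any permutation σ of V that agrees on every triple of points with some element of G (σ preserves every G-orbit on ordered triples) already lies in G. -/
theorem result (p : ℕ) [Fact p.Prime] (G : Subgroup (Equiv.Perm (Fin 2 → ZMod p)))
    (haff : (G : Set (Equiv.Perm (Fin 2 → ZMod p))) ⊆ {τ : Equiv.Perm (Fin 2 → ZMod p) | ∃ (A : (Fin 2 → ZMod p) ≃ₗ[ZMod p] (Fin 2 → ZMod p)) (b : Fin 2 → ZMod p), ∀ x, τ x = A x + b})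
    (htrans : ∀ b : Fin 2 → ZMod p, ∃ g ∈ G, ∀ x, g x = x + b) (hprim : MulAction.IsPreprimitive G (Fin 2 → ZMod p))
    (σ : Equiv.Perm (Fin 2 → ZMod p)) (hσ : (∀ t : Fin 3 → (Fin 2 → ZMod p), ∃ g ∈ G, ∀ i, σ (t i) = g (t i))) : σ ∈ G := by
  classical
  -- σ agrees with an affine map on each triple
  have key : ∀ a b c : Fin 2 → ZMod p, ∃ (A : (Fin 2 → ZMod p) ≃ₗ[ZMod p] (Fin 2 → ZMod p))
      (t : Fin 2 → ZMod p), σ a = A a + t ∧ σ b = A b + t ∧ σ c = A c + t := by
    intro a b c
    obtain ⟨g, hg, hgi⟩ := hσ ![a, b, c]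
    obtain ⟨A, t, hA⟩ := haff hg
    exact ⟨A, t, by simpa [hA] using hgi 0, by simpa [hA] using hgi 1, by simpa [hA] using hgi 2⟩
  -- normalise at 0, e₁, e₂
  let e : Fin 2 → Fin 2 → ZMod p := fun i => Pi.single i 1
  obtain ⟨g, hg, hgi⟩ := hσ ![0, e 0, e 1]
  suffices hfin : ∀ x, σ x = g x by
    have : σ = g := Equiv.ext hfin
    rw [this]; exact hg
  obtain ⟨A, t, hA⟩ := haff hg
  have h0 : σ 0 = g 0 := by simpa using hgi 0
  have he : ∀ i, σ (e i) = g (e i) := by
    intro i
    fin_cases i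
    · simpa using hgi 1
    · simpa using hgi 2
  by_cases hp2 : p = 2
  · subst hp2
    intro x
    have hx : x = 0 ∨ x = e 0 ∨ x = e 1 ∨ x = e 0 + e 1 := by
      simp only [e]; exact plane_two_cases x
    rcases hx with rfl | rfl | rfl | rfl
    · exact h0
    · exact he 0
    · exact he 1
    · obtain ⟨y, hy⟩ := σ.surjective (g (e 0 + e 1))
      have hy' : y = 0 ∨ y = e 0 ∨ y = e 1 ∨ y = e 0 + e 1 := by
        simp only [e]; exact plane_two_cases y
      rcases hy' with rfl | rfl | rfl | rfl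
      · rw [h0] at hy; exfalso; exact absurd (g.injective hy) (by simp only [e]; first | exact plane_two_ne.1 | exact plane_two_ne.2.1 | exact plane_two_ne.2.2)
      · rw [he] at hy; exfalso; exact absurd (g.injective hy) (by simp only [e]; first | exact plane_two_ne.1 | exact plane_two_ne.2.1 | exact plane_two_ne.2.2)
      · rw [he] at hy; exfalso; exact absurd (g.injective hy) (by simp only [e]; first | exact plane_two_ne.1 | exact plane_two_ne.2.1 | exact plane_two_ne.2.2)
      · exact hy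
  have h2 : (2 : ZMod p) ≠ 0 := by
    intro h
    have : ((2 : ℕ) : ZMod p) = 0 := by exact_mod_cast h
    rw [ZMod.natCast_eq_zero_iff] at this
    exact hp2 ((Nat.prime_dvd_prime_iff_eq Fact.out Nat.prime_two).mp this)
  -- τ := g⁻¹ σ in vector form
  let f : (Fin 2 → ZMod p) → (Fin 2 → ZMod p) := fun x => σ x - σ 0
  have hadd : ∀ x y, f (x + y) = f x + f y := by
    intro x y
    obtain ⟨B, u, hx, hy, hm⟩ := key x y ((2 : ZMod p)⁻¹ • (x + y))
    obtain ⟨C, v, hz, hm', hs⟩ := key 0 ((2 : ZMod p)⁻¹ • (x + y)) (x + y)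
    have e1 : (2 : ZMod p) • σ ((2 : ZMod p)⁻¹ • (x + y)) = σ x + σ y := by
      rw [hm, hx, hy, map_smul, map_add, smul_add, smul_smul, mul_inv_cancel₀ h2, one_smul, two_smul]
      abel
    have e2 : (2 : ZMod p) • σ ((2 : ZMod p)⁻¹ • (x + y)) = σ (x + y) + σ 0 := by
      rw [hm', hz, hs, map_smul, map_zero, smul_add, smul_smul, mul_inv_cancel₀ h2, one_smul, two_smul]
      abel
    have e3 := e1.symm.trans e2
    simp only [f]
    rw [eq_sub_of_add_eq e3.symm]
    abel
  let F : (Fin 2 → ZMod p) →ₗ[ZMod p] (Fin 2 → ZMod p) :=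
    AddMonoidHom.toZModLinearMap p (AddMonoidHom.mk' f hadd)
  have hFA : F = A.toLinearMap := by
    refine (Pi.basisFun (ZMod p) (Fin 2)).ext fun i => ?_
    rw [Pi.basisFun_apply]
    change σ (e i) - σ 0 = A (e i)
    rw [he, h0, hA, hA, map_zero]
    abel
  intro x
  have hx := LinearMap.congr_fun hFA x
  change σ x - σ 0 = A x at hx
  rw [h0, hA, map_zero, zero_add] at hx
  rw [hA, eq_add_of_sub_eq hx]

end Cfsg.Agent.S3515
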