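import Cfsg.Statements.S3516


set_option autoImplicit false
open Cfsg

namespace Cfsg.Agent.S3516

/-- An automorphism of determinant one carrying one pair to another with the same relations. -/
theorem exists_sl_pair {K V : Type*} [Field K] [AddCommGroup V] [Module K V] [FiniteDimensional K V]
    (hd : 3 ≤ Module.finrank K V) (A : V ≃ₗ[K] V) (a b : V) :
    ∃ B : V ≃ₗ[K] V, LinearMap.det (B : V →ₗ[K] V) = 1 ∧ B a = A a ∧ B b = A b := by
  let p : Submodule K V := Submodule.span K {a, b}
  have hp : p ≠ ⊤ := fun h => by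
    classical
    have h1 : Module.finrank K p ≤ 2 := by
      refine (finrank_span_le_card _).trans ?_
      simp only [Set.toFinset_insert, Set.toFinset_singleton]
      exact Finset.card_le_two
    rw [h, finrank_top] at h1
    omega
  obtain ⟨H, hH, hpH⟩ := (eq_top_or_exists_le_coatom p).resolve_left hp
  obtain ⟨v, hv⟩ : ∃ v, v ∉ H := by
    by_contra h
    push Not at h
    exact hH.1 (eq_top_iff.mpr fun x _ => h x)
  obtain ⟨f, hfv, hfH⟩ := Submodule.exists_dual_map_eq_bot_of_notMem hv inferInstance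
  let c : K := (LinearMap.det (A : V →ₗ[K] V))⁻¹
  have hc : c ≠ 0 := inv_ne_zero (LinearEquiv.isUnit_det' A).ne_zero
  let g : V →ₗ[K] K := (f v)⁻¹ • f
  have hgv : g v = 1 := by simp [g, inv_mul_cancel₀ hfv]
  have hgH : ∀ x ∈ H, g x = 0 := fun x hx => by
    have : f x = 0 := by
      have := Submodule.mem_map_of_mem (f := f) hx
      rwa [hfH, Submodule.mem_bot] at this
    simp [g, this]
  let T : V →ₗ[K] V := LinearMap.id + (g.smulRight ((c - 1) • v))
  have hT : LinearMap.det T = c := by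
    rw [show T = LinearMap.transvection g ((c - 1) • v) by ext x; simp [T, LinearMap.transvection.apply]]
    rw [LinearMap.transvection.det, map_smul, hgv, smul_eq_mul, mul_one]
    ring
  let e : V ≃ₗ[K] V := LinearMap.equivOfDetNeZero T (by rw [hT]; exact hc)
  refine ⟨e.trans A, ?_, ?_, ?_⟩
  · have : ((e.trans A : V ≃ₗ[K] V) : V →ₗ[K] V) = (A : V →ₗ[K] V) ∘ₗ T := by ext x; simp [e]
    rw [this, LinearMap.det_comp, hT]
    exact mul_inv_cancel₀ (LinearEquiv.isUnit_det' A).ne_zero
  · simp [e, T, hgH a (hpH (Submodule.subset_span (by simp)))]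
  · simp [e, T, hgH b (hpH (Submodule.subset_span (by simp)))]

/-- Let p be an odd prime, d ≥ 3, and G a group of affine permutations x ↦ Ax + b of V = F_p^d containing all translations and all maps x ↦ Ax with A of determinant 1. Then the 3-closure of G is the full affine group: a permutation σ of V agrees on every triple of points with some element of G if and only if σ is an affine map. -/
theorem result (p : ℕ) [Fact p.Prime] (hp : p ≠ 2) (d : ℕ) (hd : 3 ≤ d) (G : Subgroup (Equiv.Perm (Fin d → ZMod p)))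
    (haff : (G : Set (Equiv.Perm (Fin d → ZMod p))) ⊆ {τ : Equiv.Perm (Fin d → ZMod p) | ∃ (A : (Fin d → ZMod p) ≃ₗ[ZMod p] (Fin d → ZMod p)) (b : Fin d → ZMod p), ∀ x, τ x = A x + b})
    (htrans : ∀ b : Fin d → ZMod p, ∃ g ∈ G, ∀ x, g x = x + b)
    (hsl : ∀ A : (Fin d → ZMod p) ≃ₗ[ZMod p] (Fin d → ZMod p), LinearMap.det (A : (Fin d → ZMod p) →ₗ[ZMod p] (Fin d → ZMod p)) = 1 → ∃ g ∈ G, ∀ x, g x = A x)
    (σ : Equiv.Perm (Fin d → ZMod p)) :
    (∀ t : Fin 3 → (Fin d → ZMod p), ∃ g ∈ G, ∀ i, σ (t i) = g (t i)) ↔ σ ∈ {τ : Equiv.Perm (Fin d → ZMod p) | ∃ (A : (Fin d → ZMod p) ≃ₗ[ZMod p] (Fin d → ZMod p)) (b : Fin d → ZMod p), ∀ x, τ x = A x + b} := by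
  constructor
  · intro hσ
    have h2 : (2 : ZMod p) ≠ 0 := by
      intro h
      exact hp ((Nat.prime_dvd_prime_iff_eq Fact.out Nat.prime_two).mp
        ((ZMod.natCast_eq_zero_iff 2 p).mp (by exact_mod_cast h)))
    -- values on the line through two points
    have hline : ∀ (x y : Fin d → ZMod p) (c : ZMod p),
        σ ((1 - c) • x + c • y) = (1 - c) • σ x + c • σ y := by
      intro x y c
      obtain ⟨g, hg, h⟩ := hσ ![x, y, (1 - c) • x + c • y]
      obtain ⟨A, b, hA⟩ := haff hg
      have e0 := h 0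
      have e1 := h 1
      have e2 := h 2
      simp [hA, map_add, map_smul] at e0 e1 e2
      rw [e2, e0, e1]
      module
    let τ : (Fin d → ZMod p) → (Fin d → ZMod p) := fun x => σ x - σ 0
    have hsmul : ∀ (c : ZMod p) x, τ (c • x) = c • τ x := fun c x => by
      have h := hline 0 x c
      simp at h
      simp only [τ]
      rw [h]; module
    have hadd : ∀ x y, τ (x + y) = τ x + τ y := fun x y => by
      have h := hline ((2 : ZMod p) • x) ((2 : ZMod p) • y) 2⁻¹
      have e : (1 - (2 : ZMod p)⁻¹) = 2⁻¹ := by field_simp; ring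
      rw [e, smul_smul, smul_smul, inv_mul_cancel₀ h2, one_smul, one_smul] at h
      have h1 := hsmul 2 x
      have h3 := hsmul 2 y
      simp only [τ] at h1 h3 ⊢
      rw [h, sub_eq_iff_eq_add.mp h1, sub_eq_iff_eq_add.mp h3]
      simp only [smul_add, smul_smul, inv_mul_cancel₀ h2, one_smul]
      have h4 : (2 : ZMod p)⁻¹ • σ 0 + (2 : ZMod p)⁻¹ • σ 0 = σ 0 := by
        rw [← add_smul, ← two_mul, mul_inv_cancel₀ h2, one_smul]
      linear_combination (norm := module) h4
    have hinj : Function.Injective τ := fun x y h => σ.injective (sub_left_inj.mp h)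
    let L : (Fin d → ZMod p) →ₗ[ZMod p] (Fin d → ZMod p) :=
      { toFun := τ, map_add' := hadd, map_smul' := hsmul }
    exact ⟨LinearEquiv.ofInjectiveEndo L hinj, σ 0, fun x => by
      show σ x = τ x + σ 0
      simp [τ]⟩
  · rintro ⟨A, b, hA⟩ t
    obtain ⟨B, hB, h1, h2⟩ := exists_sl_pair (by simpa using hd) A (t 1 - t 0) (t 2 - t 0)
    obtain ⟨g₁, hg₁, hgB⟩ := hsl B hB
    obtain ⟨g₂, hg₂, hgb⟩ := htrans (A (t 0) - B (t 0) + b)
    refine ⟨g₂ * g₁, mul_mem hg₂ hg₁, fun i => ?_⟩
    rw [Equiv.Perm.mul_apply, hgb, hgB, hA]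
    rw [map_sub, map_sub] at h1 h2
    fin_cases i
    · show A (t 0) + b = B (t 0) + (A (t 0) - B (t 0) + b)
      abel
    · show A (t 1) + b = B (t 1) + (A (t 0) - B (t 0) + b)
      linear_combination (norm := abel) (-(1 : ℤ)) • h1
    · show A (t 2) + b = B (t 2) + (A (t 0) - B (t 0) + b)
      linear_combination (norm := abel) (-(1 : ℤ)) • h2

end Cfsg.Agent.S3516
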