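import Cfsg.Statements.S3517


set_option autoImplicit false
open Cfsg

namespace Cfsg.Agent.S3517

/-- A linear equivalence carrying one pair to another with the same linear relations. -/
theorem exists_equiv_pair {K V : Type*} [Field K] [AddCommGroup V] [Module K V] [FiniteDimensional K V]
    (a b a' b' : V)
    (h : ∀ c d : K, c • a + d • b = 0 ↔ c • a' + d • b' = 0) :
    ∃ A : V ≃ₗ[K] V, A a = a' ∧ A b = b' := by
  let φ : K × K →ₗ[K] V := (LinearMap.toSpanSingleton K V a).coprod (LinearMap.toSpanSingleton K V b)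
  let φ' : K × K →ₗ[K] V := (LinearMap.toSpanSingleton K V a').coprod (LinearMap.toSpanSingleton K V b')
  have hker : LinearMap.ker φ = LinearMap.ker φ' := by
    ext ⟨c, d⟩
    simpa [φ, φ'] using h c d
  let e : LinearMap.range φ ≃ₗ[K] LinearMap.range φ' :=
    φ.quotKerEquivRange.symm.trans ((Submodule.quotEquivOfEq _ _ hker).trans φ'.quotKerEquivRange)
  have he : ∀ x, (e ⟨φ x, LinearMap.mem_range_self φ x⟩ : V) = φ' x := by
    intro x
    simp [e, LinearMap.quotKerEquivRange_symm_apply_image]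
  obtain ⟨q, hq⟩ := Submodule.exists_isCompl (LinearMap.range φ)
  obtain ⟨q', hq'⟩ := Submodule.exists_isCompl (LinearMap.range φ')
  let f : q ≃ₗ[K] q' := LinearEquiv.ofFinrankEq q q' (by
    have h1 := Submodule.finrank_add_eq_of_isCompl hq
    have h2 := Submodule.finrank_add_eq_of_isCompl hq'
    have h3 := e.finrank_eq
    omega)
  let A := (Submodule.prodEquivOfIsCompl _ _ hq).symm.trans
    ((e.prodCongr f).trans (Submodule.prodEquivOfIsCompl _ _ hq'))
  have hA : ∀ x, A (φ x) = φ' x := by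
    intro x
    have : (Submodule.prodEquivOfIsCompl _ _ hq).symm (φ x) = (⟨φ x, LinearMap.mem_range_self φ x⟩, 0) :=
      Submodule.prodEquivOfIsCompl_symm_apply_left _ _ hq ⟨φ x, LinearMap.mem_range_self φ x⟩
    simp [A, this, he]
  exact ⟨A, by simpa [φ, φ'] using hA (1, 0), by simpa [φ, φ'] using hA (0, 1)⟩

/-- For d ≥ 3, the 3-closure of the affine group AGL_d(2) acting on F_2^d is the full symmetric group: every permutation of F_2^d agrees on every ordered triple of points with some affine map (AGL_d(2) is 3-transitive). -/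
theorem result (d : ℕ) (hd : 3 ≤ d) (σ : Equiv.Perm (Fin d → ZMod 2)) (t : Fin 3 → (Fin d → ZMod 2)) :
    ∃ (A : (Fin d → ZMod 2) ≃ₗ[ZMod 2] (Fin d → ZMod 2)) (b : Fin d → ZMod 2), ∀ i, σ (t i) = A (t i) + b := by
  have key : ∀ u v : Fin d → ZMod 2, u + v = 0 ↔ u = v := fun u v => by
    rw [add_eq_zero_iff_eq_neg, ZModModule.neg_eq_self]
  have hs : ∀ u v u' v' : Fin d → ZMod 2, (u = v ↔ u' = v') → (u - v = 0 ↔ u' - v' = 0) :=
    fun u v u' v' h => by rwa [sub_eq_zero, sub_eq_zero]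
  have heq : ∀ i j, t i = t j ↔ σ (t i) = σ (t j) := fun i j => σ.injective.eq_iff.symm
  obtain ⟨A, h1, h2⟩ := exists_equiv_pair (K := ZMod 2) (t 1 - t 0) (t 2 - t 0)
    (σ (t 1) - σ (t 0)) (σ (t 2) - σ (t 0)) (fun c e => by
      have a1 := hs _ _ _ _ (heq 1 0)
      have a2 := hs _ _ _ _ (heq 2 0)
      have a3 : (t 1 - t 0) + (t 2 - t 0) = 0 ↔ (σ (t 1) - σ (t 0)) + (σ (t 2) - σ (t 0)) = 0 := by
        rw [key, key, sub_left_inj, sub_left_inj]; exact heq 1 2
      have h01 : ∀ c : ZMod 2, c = 0 ∨ c = 1 := by decide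
      rcases h01 c with rfl | rfl <;> rcases h01 e with rfl | rfl <;> simp_all)
  refine ⟨A, σ (t 0) - A (t 0), fun i => ?_⟩
  fin_cases i
  · simp
  · have : A (t 1) = σ (t 1) - σ (t 0) + A (t 0) := by rw [← h1, map_sub]; abel
    show σ (t 1) = A (t 1) + (σ (t 0) - A (t 0))
    rw [this]; abel
  · have : A (t 2) = σ (t 2) - σ (t 0) + A (t 0) := by rw [← h2, map_sub]; abel
    show σ (t 2) = A (t 2) + (σ (t 0) - A (t 0))
    rw [this]; abel

end Cfsg.Agent.S3517
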