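import Cfsg.Statements.S3518
import Cfsg.Agent.Lib.Recog.PrimeDegree

set_option autoImplicit false
open Cfsg

namespace Cfsg.Agent.S3518

/-- Closures of subgroups of the one-dimensional affine group. Let p be a prime and G a group of permutations of F_p lying in the affine group AGL₁(p) = {x ↦ ax + b, a ≠ 0} and containing all translations. (1) If G is a proper subgroup of AGL₁(p), then G is 2-closed: a permutation of F_p agreeing on every ordered pair of points with some element of G lies in G. (2) Every permutation of F_p agrees on every ordered pair with some element of AGL₁(p) (the 2-closure of AGL₁(p) is the symmetric group). (3) AGL₁(p) is 3-closed: a permutation agreeing on every ordered triple with some affine map is affine. -/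
theorem result (p : ℕ) [Fact p.Prime] (G : Subgroup (Equiv.Perm (ZMod p))) (hG : G ≤ Cfsg.affineGroup (ZMod p))
    (htrans : ∀ b : ZMod p, ∃ g ∈ G, ∀ x, g x = x + b) :
    (G ≠ Cfsg.affineGroup (ZMod p) → ∀ σ : Equiv.Perm (ZMod p), (∀ t : Fin 2 → ZMod p, ∃ g ∈ G, ∀ i, σ (t i) = g (t i)) → σ ∈ G) ∧
    (∀ σ : Equiv.Perm (ZMod p), (∀ t : Fin 2 → ZMod p, ∃ g ∈ Cfsg.affineGroup (ZMod p), ∀ i, σ (t i) = g (t i))) ∧
    (∀ σ : Equiv.Perm (ZMod p), (∀ t : Fin 3 → ZMod p, ∃ g ∈ Cfsg.affineGroup (ZMod p), ∀ i, σ (t i) = g (t i)) → σ ∈ Cfsg.affineGroup (ZMod p)) := by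
  classical
  have hp : p.Prime := Fact.out
  refine ⟨fun hne σ hσ => ?_, fun σ t => ?_, fun σ hσ => ?_⟩
  · -- the multipliers
    let D : Subgroup (ZMod p)ˣ :=
      { carrier := {a | ∃ g ∈ G, ∀ x, g x = (a : ZMod p) * x}
        one_mem' := ⟨1, one_mem G, fun x => by simp⟩
        mul_mem' := fun {a b} ⟨g, hg, ha⟩ ⟨h, hh, hb⟩ => ⟨g * h, mul_mem hg hh, fun x => by
          rw [Equiv.Perm.mul_apply, ha, hb, Units.val_mul, mul_assoc]⟩
        inv_mem' := fun {a} ⟨g, hg, ha⟩ => ⟨g⁻¹, inv_mem hg, fun x => by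
          apply g.injective
          rw [← Equiv.Perm.mul_apply, mul_inv_cancel, Equiv.Perm.one_apply, ha, ← mul_assoc,
            Units.mul_inv, one_mul]⟩ }
    have hmult : ∀ g ∈ G, ∀ (a : (ZMod p)ˣ) (b : ZMod p), (∀ x, g x = (a : ZMod p) * x + b) → a ∈ D := by
      intro g hg a b hab
      obtain ⟨t, ht, htb⟩ := htrans (-b)
      exact ⟨t * g, mul_mem ht hg, fun x => by rw [Equiv.Perm.mul_apply, htb, hab]; ring⟩
    have hmem : ∀ (a : (ZMod p)ˣ) (b : ZMod p) (τ : Equiv.Perm (ZMod p)), a ∈ D →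
        (∀ x, τ x = (a : ZMod p) * x + b) → τ ∈ G := by
      rintro a b τ ⟨g, hg, hga⟩ hτ
      obtain ⟨t, ht, htb⟩ := htrans b
      have : τ = t * g := Equiv.ext fun x => by rw [Equiv.Perm.mul_apply, htb, hga, hτ]
      exact this ▸ mul_mem ht hg
    have hD : D ≠ ⊤ := by
      intro htop
      refine hne (le_antisymm hG ?_)
      rintro τ ⟨a, b, hτ⟩
      exact hmem a b τ (htop ▸ Subgroup.mem_top a) hτ
    have hpair : ∀ x y : ZMod p, ∃ a ∈ D, σ y - σ x = ((a : (ZMod p)ˣ) : ZMod p) * (y - x) := by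
      intro x y
      obtain ⟨g, hg, h⟩ := hσ ![x, y]
      obtain ⟨a, b, hab⟩ := hG hg
      refine ⟨a, hmult g hg a b hab, ?_⟩
      have e0 := h 0
      have e1 := h 1
      simp [hab] at e0 e1
      rw [e0, e1]; ring
    obtain ⟨a, b, hab⟩ := CfsgLib.Recog.affine_of_difference_subgroup D hD σ σ.injective (fun x u hu => by
      obtain ⟨a, ha, e⟩ := hpair x (x + (u : ZMod p))
      exact ⟨a * u, mul_mem ha hu, by rw [e, Units.val_mul, add_sub_cancel_left]⟩)
    obtain ⟨a', ha', e⟩ := hpair 0 1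
    refine hmem a' b σ ha' fun x => ?_
    rw [hab] at e ⊢
    rw [hab] at e
    linear_combination x * e
  · by_cases h : t 0 = t 1
    · refine ⟨Equiv.addRight (σ (t 0) - t 0), ⟨1, σ (t 0) - t 0, fun x => by simp⟩, fun i => ?_⟩
      fin_cases i
      · simp
      · simp [← h]
    · have hd : t 1 - t 0 ≠ 0 := sub_ne_zero.mpr (Ne.symm h)
      have hs : σ (t 1) - σ (t 0) ≠ 0 := sub_ne_zero.mpr fun e => h (σ.injective e).symm
      set a : (ZMod p)ˣ := Units.mk0 ((σ (t 1) - σ (t 0)) / (t 1 - t 0)) (div_ne_zero hs hd) with ha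
      set b := σ (t 0) - (a : ZMod p) * t 0 with hb
      refine ⟨(Units.mulLeft a).trans (Equiv.addRight b), ⟨a, b, fun x => rfl⟩, fun i => ?_⟩
      have e : (a : ZMod p) * (t 1 - t 0) = σ (t 1) - σ (t 0) := div_mul_cancel₀ _ hd
      fin_cases i
      · show σ (t 0) = (a : ZMod p) * t 0 + b
        rw [hb]; ring
      · show σ (t 1) = (a : ZMod p) * t 1 + b
        rw [hb]; linear_combination -e
  · obtain ⟨g, ⟨a, b, hab⟩, h⟩ := hσ ![0, 1, 0]
    refine ⟨a, b, fun x => ?_⟩
    obtain ⟨g', ⟨a', b', hab'⟩, h'⟩ := hσ ![0, 1, x]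
    have e0 := h 0
    have e1 := h 1
    have f0 := h' 0
    have f1 := h' 1
    have f2 := h' 2
    simp [hab, hab'] at e0 e1 f0 f1 f2
    rw [e0] at f0
    rw [e1, f0] at f1
    rw [f2, ← f0, ← add_right_cancel f1]

end Cfsg.Agent.S3518
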