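import Cfsg.Statements.S3520
import Cfsg.Agent.Lib.Recog.DerangeClasses
import Cfsg.Agent.Lib.Recog.AffineDerange
import Mathlib.GroupTheory.GroupAction.ConjAct
import Mathlib.Tactic.Linarith
import Mathlib.Data.Fintype.BigOperators

set_option autoImplicit false
open Cfsg

namespace Cfsg.Agent.S3520

/-- Let a finite group G act faithfully and primitively on a finite set Ω with at least two points, suppose G is not almost simple (no non-abelian simple normal subgroup with trivial centralizer), and suppose the derangements of G form exactly two conjugacy classes. Then either Ω has 3 points and G has order 3; or G has a non-trivial abelian normal subgroup N acting regularly, every non-identity element of G fixes at most one point (so, when n > 3, G is a Frobenius group with kernel N), the number n of points is odd and a point stabilizer has order (n − 1)/2; or G is 2-transitive with a non-trivial abelian regular normal subgroup and some non-identity element fixes at least two points (a non-Frobenius 2-transitive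 affine group). -/
theorem result {G : Type*} [Group G] [Finite G] {Ω : Type*} [Fintype Ω] [MulAction G Ω] [FaithfulSMul G Ω] (hΩ : 2 ≤ Fintype.card Ω) (hprim : MulAction.IsPreprimitive G Ω) (hnas : ¬ ∃ T : Subgroup G, T.Normal ∧ IsSimpleGroup T ∧ ¬ IsMulCommutative T ∧ Subgroup.centralizer (T : Set G) = ⊥)
    (hκ : Nat.card {c : ConjClasses G // ∃ g : G, ConjClasses.mk g = c ∧ ∀ ω : Ω, g • ω ≠ ω} = 2) (α : Ω) :
    (Fintype.card Ω = 3 ∧ Nat.card G = 3) ∨
    ((∃ N : Subgroup G, N.Normal ∧ N ≠ ⊥ ∧ IsMulCommutative N ∧ ∀ ω : Ω, MulAction.stabilizer N ω = ⊥) ∧ (∀ g : G, g ≠ 1 → Nat.card (MulAction.fixedBy Ω g) ≤ 1) ∧ ¬ 2 ∣ Fintype.card Ω ∧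
        2 * Nat.card (MulAction.stabilizer G α) = Fintype.card Ω - 1) ∨
    ((∃ N : Subgroup G, N.Normal ∧ N ≠ ⊥ ∧ IsMulCommutative N ∧ ∀ ω : Ω, MulAction.stabilizer N ω = ⊥) ∧ MulAction.IsMultiplyPretransitive G Ω 2 ∧ ∃ g : G, g ≠ 1 ∧ 2 ≤ Nat.card (MulAction.fixedBy Ω g)) := by
  classical
  have : Nontrivial Ω := Fintype.one_lt_card_iff_nontrivial.mp (by omega)
  have : Nontrivial G := by
    obtain ⟨g, hg⟩ := CfsgLib.Recog.exists_derangement G Ω
    exact ⟨g, 1, fun e => hg α (by rw [e, one_smul])⟩
  obtain ⟨N, hN, hne, hmin⟩ := CfsgLib.Solvable.exists_minimal_normal (G := G)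
  by_cases hab : IsMulCommutative N
  swap
  · obtain ⟨d, hd, hc⟩ := CfsgLib.Recog.exists_three_derangements (Ω := Ω) hnas hN hne hmin hab
    have := CfsgLib.Recog.card_derangement_classes_ge hd hc
    omega
  obtain ⟨-, ht, hs⟩ := CfsgLib.Recog.abelian_minimal_normal (Ω := Ω) hne hmin
  have hex : ∃ M : Subgroup G, M.Normal ∧ M ≠ ⊥ ∧ IsMulCommutative M ∧
      ∀ ω : Ω, MulAction.stabilizer M ω = ⊥ := ⟨N, hN, hne, hab, hs⟩
  have hcls : ∀ v ∈ N, v ≠ 1 → ∀ ω : Ω, v • ω ≠ ω := fun v hv h1 =>
    CfsgLib.Recog.regular_derangement hs hv h1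
  by_cases hfix : ∀ g : G, g ≠ 1 → ∀ a b : Ω, g • a = a → g • b = b → a = b
  · refine Or.inr (Or.inl ⟨hex, fun g hg => ?_, ?_⟩)
    · rw [Finite.card_le_one_iff_subsingleton]
      exact ⟨fun x y => Subtype.ext (hfix g hg _ _ x.2 y.2)⟩
    have hD : ∀ g : G, (∀ ω : Ω, g • ω ≠ ω) ↔ g ∈ N ∧ g ≠ 1 := fun g =>
      ⟨fun h => ⟨CfsgLib.Recog.derangement_mem_of_frobenius hN hs hfix α h,
        fun e => h α (by rw [e, one_smul])⟩, fun h => hcls g h.1 h.2⟩
    have : Fintype G := Fintype.ofFinite G
    have hcard : Nat.card N = Fintype.card Ω := by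
      rw [← Nat.card_eq_fintype_card]; exact CfsgLib.Perm.natCard_eq_of_regular (hs α)
    have htG : MulAction.IsPretransitive G Ω := hprim.toIsPretransitive
    have hG := CfsgLib.Perm.natCard_eq_mul_stabilizer (G := G) α
    rw [Nat.card_eq_fintype_card (α := Ω)] at hG
    have hidx : N.index = Nat.card (MulAction.stabilizer G α) := by
      have := N.index_mul_card
      rw [hcard, hG, mul_comm N.index] at this
      exact Nat.eq_of_mul_eq_mul_left Fintype.card_pos this
    let C := {c : ConjClasses G // ∃ g : G, ConjClasses.mk g = c ∧ ∀ ω : Ω, g • ω ≠ ω}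
    let D := {g : G // g ∈ N ∧ g ≠ 1}
    let f : D → C := fun g => ⟨ConjClasses.mk g.1, g.1, rfl, (hD g.1).mpr g.2⟩
    have hfib : ∀ c : C, Nat.card {g : D // f g = c} = Nat.card (MulAction.stabilizer G α) := by
      rintro ⟨c, v, rfl, hv⟩
      have hv' := (hD v).mp hv
      let e : {g : D // f g = ⟨ConjClasses.mk v, v, rfl, hv⟩} ≃ (ConjClasses.mk v).carrier :=
      { toFun := fun g => ⟨g.1.1, ConjClasses.mem_carrier_iff_mk_eq.mpr (congrArg Subtype.val g.2)⟩
        invFun := fun g => ⟨⟨g.1, by
            obtain ⟨c, hc⟩ := isConj_iff.mp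
              (ConjClasses.mk_eq_mk_iff_isConj.mp (ConjClasses.mem_carrier_iff_mk_eq.mp g.2)).symm
            rw [← hc]
            exact ⟨hN.conj_mem v hv'.1 c, fun e => hv'.2 (by simpa using e)⟩⟩,
          Subtype.ext (ConjClasses.mem_carrier_iff_mk_eq.mp g.2)⟩
        left_inv := fun g => rfl
        right_inv := fun g => rfl }
      rw [Nat.card_congr e, ← ConjAct.orbit_eq_carrier_conjClasses v,
        Nat.card_congr (MulAction.orbitEquivQuotientStabilizer (ConjAct G) v),
        ← Subgroup.index_eq_card, ConjAct.stabilizer_eq_centralizer, ← hidx]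
      exact congrArg Subgroup.index
        (CfsgLib.Recog.centralizer_eq_of_frobenius hs hfix α hv'.1 hv'.2)
    have h1 : Nat.card D = 2 * Nat.card (MulAction.stabilizer G α) := by
      have := Fintype.ofFinite C
      rw [← Nat.card_congr (Equiv.sigmaFiberEquiv f), Nat.card_sigma, Finset.sum_congr rfl
        (fun c _ => hfib c), Finset.sum_const, Finset.card_univ, ← Nat.card_eq_fintype_card (α := C),
        hκ, smul_eq_mul]
    have h2 : Nat.card D = Fintype.card Ω - 1 := by
      rw [← hcard, Nat.card_congr (show D ≃ {x : N // ¬ x = 1} from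
        { toFun := fun g => ⟨⟨g.1, g.2.1⟩, fun e => g.2.2 (congrArg Subtype.val e)⟩
          invFun := fun x => ⟨x.1.1, x.1.2, fun e => x.2 (Subtype.ext e)⟩
          left_inv := fun g => rfl
          right_inv := fun x => rfl })]
      have := Fintype.ofFinite N
      rw [Nat.card_eq_fintype_card, Fintype.card_subtype_compl, Fintype.card_subtype_eq,
        Nat.card_eq_fintype_card]
    exact ⟨fun h => by omega, by omega⟩
  push Not at hfix
  obtain ⟨g, hg, a, b, ha, hb, hne'⟩ := hfix
  refine Or.inr (Or.inr ⟨hex, CfsgLib.Recog.two_transitive_of_conj hN hs α ?_, g, hg, ?_⟩)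
  · intro v hv w hw hv1 hw1
    by_contra hvw
    obtain ⟨x, hx, hxd⟩ := CfsgLib.Recog.exists_derangement_not_mem hN hs hg hne' ha hb
    have := CfsgLib.Recog.card_derangement_classes_ge (Ω := Ω) (d := ![v, w, x]) ?_ ?_
    · omega
    · intro i
      fin_cases i
      · exact hcls v hv hv1
      · exact hcls w hw hw1
      · exact hxd
    · have hno : ∀ u ∈ N, ¬ IsConj u x := fun u hu h => by
        obtain ⟨c, hc⟩ := isConj_iff.mp h
        exact hx (hc ▸ hN.conj_mem u hu c)
      intro i j hij
      fin_cases i <;> fin_cases j <;> (try rfl) <;> exfalso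
      · exact hvw hij
      · exact hno v hv hij
      · exact hvw hij.symm
      · exact hno w hw hij
      · exact hno v hv hij.symm
      · exact hno w hw hij.symm
  · have : Nontrivial (MulAction.fixedBy Ω g) :=
      ⟨⟨a, ha⟩, ⟨b, hb⟩, fun e => hne' (congrArg Subtype.val e)⟩
    exact Finite.one_lt_card

end Cfsg.Agent.S3520
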