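import Cfsg.Statements.S3521
import Cfsg.Agent.Lib.Amalgam.ExtremelyPrimitiveCore

set_option autoImplicit false
open Cfsg

namespace Cfsg.Agent.S3521

/-- Let a finite group G that is not solvable act faithfully and primitively on a finite set with p ^ d points (p prime), with a non-trivial abelian normal subgroup acting regularly (affine type) and with non-trivial point stabilizers each acting primitively on every one of its orbits (an insoluble extremely primitive group of affine type). Then p = 2; and if moreover G is not 2-transitive, then a point stabilizer is almost simple (it has a non-abelian simple normal subgroup with trivial centralizer). -/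
theorem result {G : Type*} [Group G] [Finite G] {Ω : Type*} [Fintype Ω] [MulAction G Ω] [FaithfulSMul G Ω] (p d : ℕ) (hp : p.Prime) (hcard : Fintype.card Ω = p ^ d) (hsol : ¬ Group.IsSolvable G)
    (N : Subgroup G) [N.Normal] (hN : N ≠ ⊥) (hNc : IsMulCommutative N) (hNreg : ∀ ω : Ω, MulAction.stabilizer N ω = ⊥)
    (hprim : MulAction.IsPreprimitive G Ω) (hH : ∀ α : Ω, MulAction.stabilizer G α ≠ ⊥) (hep : ∀ (α : Ω) (ω : Ω), MulAction.IsPreprimitive (MulAction.stabilizer G α) (MulAction.orbit (MulAction.stabilizer G α) ω)) (α : Ω) :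
    p = 2 ∧ (¬ MulAction.IsMultiplyPretransitive G Ω 2 → ∃ T : Subgroup (MulAction.stabilizer G α), T.Normal ∧ IsSimpleGroup T ∧ ¬ IsMulCommutative T ∧ Subgroup.centralizer (T : Set (MulAction.stabilizer G α)) = ⊥) := by
  classical
  haveI := hprim
  set H := MulAction.stabilizer G α with hHdef
  -- regularity
  have reg : ∀ a ∈ N, ∀ b ∈ N, a • α = b • α → a = b := by
    intro a ha b hb h
    have h1 : (⟨b⁻¹ * a, mul_mem (inv_mem hb) ha⟩ : N) ∈ MulAction.stabilizer N α := by
      show (b⁻¹ * a) • α = α
      rw [mul_smul, h, inv_smul_smul]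
    rw [hNreg, Subgroup.mem_bot] at h1
    exact (inv_mul_eq_one.1 (congrArg Subtype.val h1)).symm
  have triv : ∀ g : G, (∀ ω : Ω, g • ω = ω) → g = 1 := fun g hg =>
    eq_of_smul_eq_smul (α := Ω) fun ω => by rw [hg ω, one_smul]
  -- every nontrivial normal subgroup is transitive
  have trans : ∀ W : Subgroup G, W.Normal → W ≠ ⊥ → MulAction.IsPretransitive W Ω := by
    intro W hW hWne
    haveI := hW
    refine MulAction.IsQuasiPreprimitive.isPretransitive_of_normal fun h => hWne ?_
    refine (Subgroup.eq_bot_iff_forall W).2 fun w hw => triv w fun ω => ?_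
    have h1 : ω ∈ MulAction.fixedPoints W Ω := by rw [h]; trivial
    exact h1 ⟨w, hw⟩
  have transN := trans N inferInstance hN
  have normal_eq : ∀ W : Subgroup G, W.Normal → W ≤ N → W ≠ ⊥ → W = N := by
    intro W hW hle hne
    have := trans W hW hne
    refine le_antisymm hle fun a ha => ?_
    obtain ⟨w, hw⟩ := MulAction.exists_smul_eq W α (a • α)
    exact reg _ (hle w.2) a ha hw ▸ w.2
  have decomp : ∀ g : G, ∃ a ∈ N, ∃ h ∈ H, g = a * h := by
    intro g
    obtain ⟨a, ha⟩ := MulAction.exists_smul_eq N α (g • α)
    refine ⟨a, a.2, (a : G)⁻¹ * g, ?_, by group⟩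
    show ((a : G)⁻¹ * g) • α = α
    rw [mul_smul, ← ha]
    exact inv_smul_smul (a : G) α
  have comm : ∀ a ∈ N, ∀ b ∈ N, a * b = b * a := fun a ha b hb =>
    congrArg Subtype.val (hNc.is_comm.comm (⟨a, ha⟩ : N) ⟨b, hb⟩)
  have solG : Group.IsSolvable H → Group.IsSolvable G := by
    intro hs
    haveI : Group.IsSolvable N := Group.isSolvable_of_comm fun a b => hNc.is_comm.comm a b
    have : Group.IsSolvable (G ⧸ N) := by
      refine Group.isSolvable_of_surjective (f := (QuotientGroup.mk' N).comp H.subtype) fun q => ?_
      obtain ⟨g, rfl⟩ := QuotientGroup.mk'_surjective N q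
      obtain ⟨a, ha, h, hh, rfl⟩ := decomp g
      exact ⟨⟨h, hh⟩, by simp [(QuotientGroup.eq_one_iff a).2 ha]⟩
    exact Group.isSolvable_of_ker_le_range N.subtype (QuotientGroup.mk' N) (by simp)
  -- stabilisers in `H` of nonidentity elements of `N` are maximal
  let φ : H →* MulAut N := (MulAut.conjNormal (H := N)).comp H.subtype
  letI : MulDistribMulAction H N := MulDistribMulAction.compHom N φ
  have act : ∀ (h : H) (a : N), ((h • a : N) : G) = (h : G) * a * (h : G)⁻¹ := fun h a => rfl
  have orb : ∀ (h : H) (a : N), (h : G) • ((a : G) • α) = ((h • a : N) : G) • α := by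
    intro h a
    rw [act, ← mul_smul, mul_smul ((h : G) * a), show (h : G)⁻¹ • α = α from inv_mem h.2]
  have invH : ∀ W : Subgroup N, (∀ h : H, ∀ x ∈ W, h • x ∈ W) → W = ⊥ ∨ W = ⊤ := by
    intro W hW
    by_cases hWb : W = ⊥
    · exact Or.inl hWb
    right
    apply Subgroup.map_injective N.subtype_injective
    rw [← MonoidHom.range_eq_map, Subgroup.range_subtype]
    refine normal_eq _ ⟨fun x hx g => ?_⟩ (Subgroup.map_subtype_le W)
      (by rwa [Ne, Subgroup.map_eq_bot_iff_of_injective _ N.subtype_injective])
    obtain ⟨w, hw, rfl⟩ := hx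
    obtain ⟨a, ha, h, hh, rfl⟩ := decomp g
    refine ⟨(⟨h, hh⟩ : H) • w, hW _ w hw, ?_⟩
    simp only [Subgroup.coe_subtype, act, mul_inv_rev]
    have hmem : h * (w : G) * h⁻¹ ∈ N := (inferInstance : N.Normal).conj_mem _ w.2 h
    calc h * (w : G) * h⁻¹ = a * (h * (w : G) * h⁻¹) * a⁻¹ := by
          rw [comm a ha _ hmem, mul_inv_cancel_right]
      _ = _ := by group
  have fixed : ∀ a : N, (∀ h : H, h • a = a) → a = 1 := by
    intro a ha
    let W : Subgroup N :=
      { carrier := {x | ∀ h : H, h • x = x}
        one_mem' := fun h => smul_one h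
        mul_mem' := fun {x y} hx hy h => by rw [smul_mul', hx h, hy h]
        inv_mem' := fun {x} hx h => by rw [smul_inv', hx h] }
    rcases invH W (fun h x hx k => by rw [hx h, hx k]) with hW | hW
    · exact Subgroup.mem_bot.1 (hW ▸ (ha : a ∈ W))
    · exfalso
      refine hH α ((Subgroup.eq_bot_iff_forall _).2 fun h hh => triv h fun ω => ?_)
      obtain ⟨b, rfl⟩ := MulAction.exists_smul_eq N α ω
      have hb : (⟨h, hh⟩ : H) • b = b := (hW ▸ Subgroup.mem_top b : b ∈ W) ⟨h, hh⟩
      show h • ((b : G) • α) = (b : G) • α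
      rw [orb ⟨h, hh⟩ b, hb]
  have hmax : ∀ a : N, a ≠ 1 → IsCoatom (MulAction.stabilizer H a) := by
    intro a ha
    have heq : MulAction.stabilizer H a = MulAction.stabilizer H ((a : G) • α) := by
      ext h
      simp only [MulAction.mem_stabilizer_iff]
      constructor
      · intro e
        show (h : G) • ((a : G) • α) = _
        rw [orb, e]
      · intro e
        exact Subtype.ext (reg _ (h • a).2 _ a.2 ((orb h a).symm.trans e))
    have : Nontrivial (MulAction.orbit H ((a : G) • α)) := by
      by_contra hnt
      rw [not_nontrivial_iff_subsingleton] at hnt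
      refine ha (fixed a fun h => ?_)
      have h1 : (⟨h • ((a : G) • α), MulAction.mem_orbit _ h⟩ : MulAction.orbit H ((a : G) • α)) =
          ⟨(a : G) • α, MulAction.mem_orbit_self _⟩ := Subsingleton.elim _ _
      exact Subtype.ext (reg _ (h • a).2 _ a.2
        ((orb h a).symm.trans (congrArg Subtype.val h1)))
    rw [heq]
    have h1 := (MulAction.isCoatom_stabilizer_iff_preprimitive (G := H)
      (⟨(a : G) • α, MulAction.mem_orbit_self _⟩ : MulAction.orbit H ((a : G) • α))).2
      (hep α ((a : G) • α))
    convert h1 using 1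
    ext h
    simp only [MulAction.mem_stabilizer_iff]
    exact ⟨fun e => Subtype.ext e, fun e => congrArg Subtype.val e⟩
  have hinsH : ¬ Group.IsSolvable H := fun h => hsol (solG h)
  -- every element of `N` squares to `1`
  have sq : ∀ a : N, a * a = 1 := by
    obtain ⟨n, hn, hn1⟩ : ∃ n : N, n * n = 1 ∧ n ≠ 1 := by
      have hev : Even (Nat.card H) := by
        rcases Nat.even_or_odd (Nat.card H) with h | h
        · exact h
        · exact absurd (Cfsg.Agent.S0205.result h) hinsH
      haveI : Fact (Nat.Prime 2) := ⟨Nat.prime_two⟩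
      obtain ⟨t, ht⟩ := exists_prime_orderOf_dvd_card' (G := H) 2 hev.two_dvd
      have ht2 : t * t = 1 := by rw [← sq, ← ht, pow_orderOf_eq_one]
      by_contra hc
      push Not at hc
      -- `t` inverts some nonidentity element
      obtain ⟨m, hm⟩ : ∃ m : N, t • m ≠ m := by
        by_contra hall
        push Not at hall
        have : t = 1 := by
          refine Subtype.ext (triv _ fun ω => ?_)
          obtain ⟨b, rfl⟩ := MulAction.exists_smul_eq N α ω
          show (t : G) • ((b : G) • α) = (b : G) • α
          rw [orb t b, hall b]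
        rw [this, orderOf_one] at ht
        omega
      set n := m⁻¹ * t • m with hn
      have hn1 : n ≠ 1 := fun h => hm (inv_mul_eq_one.1 h).symm
      have hni : t • n = n⁻¹ := by
        rw [hn, smul_mul', smul_inv', ← mul_smul, ht2, one_smul, mul_inv_rev, inv_inv]
      let K : Subgroup H :=
        { carrier := {h | h • n = n ∨ h • n = n⁻¹}
          one_mem' := Or.inl (one_smul _ _)
          mul_mem' := fun {x y} hx hy => by
            rcases hx with hx | hx <;> rcases hy with hy | hy
            · exact Or.inl (by rw [mul_smul, hy, hx])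
            · exact Or.inr (by rw [mul_smul, hy, smul_inv', hx])
            · exact Or.inr (by rw [mul_smul, hy, hx])
            · exact Or.inl (by rw [mul_smul, hy, smul_inv', hx, inv_inv])
          inv_mem' := fun {x} hx => by
            rcases hx with hx | hx
            · exact Or.inl (inv_smul_eq_iff.2 hx.symm)
            · exact Or.inr (inv_smul_eq_iff.2 (by rw [smul_inv', hx, inv_inv])) }
      have hle : MulAction.stabilizer H n ≤ K := fun h hh => Or.inl hh
      rcases hle.eq_or_lt with he | hlt
      · refine hn1 (hc n ?_)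
        have : t • n = n := by
          have h1 : t ∈ MulAction.stabilizer H n := by rw [he]; exact Or.inr hni
          exact h1
        rw [hni] at this
        nth_rewrite 1 [← this]
        exact inv_mul_cancel n
      · have hK : K = ⊤ := (hmax n hn1).2 _ hlt
        have hz : Subgroup.zpowers n = ⊤ := (invH _ fun h x hx => by
          obtain ⟨k, rfl⟩ := Subgroup.mem_zpowers_iff.1 hx
          rw [smul_zpow']
          rcases (hK ▸ Subgroup.mem_top h : h ∈ K) with e | e
          · rw [e]; exact zpow_mem (Subgroup.mem_zpowers n) k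
          · rw [e]; exact zpow_mem (inv_mem (Subgroup.mem_zpowers n)) k).resolve_left
            (Subgroup.zpowers_ne_bot.2 hn1)
        refine hinsH (Group.isSolvable_of_comm fun h k => ?_)
        refine Subtype.ext (triv _ ?_ |> fun e => (mul_inv_eq_one.1 e))
        intro ω
        obtain ⟨b, rfl⟩ := MulAction.exists_smul_eq N α ω
        have key : ∀ x : N, (h * k) • x = (k * h) • x := by
          intro x
          obtain ⟨i, rfl⟩ := Subgroup.mem_zpowers_iff.1 (hz ▸ Subgroup.mem_top x : x ∈ Subgroup.zpowers n)
          simp only [smul_zpow', mul_smul]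
          rcases (hK ▸ Subgroup.mem_top h : h ∈ K) with e | e <;>
            rcases (hK ▸ Subgroup.mem_top k : k ∈ K) with e' | e' <;>
              simp [e, e', smul_inv']
        show (((h * k) * (k * h)⁻¹ : H) : G) • ((b : G) • α) = (b : G) • α
        rw [orb, mul_smul, key, smul_inv_smul]
    let W : Subgroup N :=
      { carrier := {x | x * x = 1}
        one_mem' := one_mul 1
        mul_mem' := fun {x y} hx hy => by
          show x * y * (x * y) = 1
          rw [show x * y * (x * y) = x * (y * x) * y by group, ← hNc.is_comm.comm x y,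
            show x * (x * y) * y = (x * x) * (y * y) by group, show x * x = 1 from hx,
            show y * y = 1 from hy, one_mul]
        inv_mem' := fun {x} hx => by
          show x⁻¹ * x⁻¹ = 1
          rw [← mul_inv_rev, show x * x = 1 from hx, inv_one] }
    intro a
    rcases invH W (fun h x hx => by
      show h • x * h • x = 1
      rw [← smul_mul', show x * x = 1 from hx, smul_one]) with hW | hW
    · exact absurd (Subgroup.mem_bot.1 (hW ▸ (hn : n ∈ W))) hn1
    · exact (hW ▸ Subgroup.mem_top a : a ∈ W)
  constructor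
  · obtain ⟨a, ha⟩ := Subgroup.ne_bot_iff_exists_ne_one.1 hN
    have h2 : orderOf a = 2 := orderOf_eq_prime (by rw [pow_two]; exact sq a) ha
    have hcN : Nat.card N = p ^ d := by
      rw [← hcard, ← Nat.card_eq_fintype_card]
      refine Nat.card_eq_of_bijective (fun a : N => (a : G) • α) ⟨fun a b h => ?_, fun ω => ?_⟩
      · exact Subtype.ext (reg _ a.2 _ b.2 h)
      · obtain ⟨b, hb⟩ := MulAction.exists_smul_eq N α ω
        exact ⟨b, hb⟩
    have h3 : 2 ∣ p := Nat.prime_two.dvd_of_dvd_pow (hcN ▸ h2 ▸ orderOf_dvd_natCard a)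
    exact ((Nat.prime_dvd_prime_iff_eq Nat.prime_two hp).1 h3).symm
  · intro _
    letI : CommGroup N := { (inferInstance : Group N) with mul_comm := hNc.is_comm.comm }
    refine CfsgLib.Amalgam.ExtPrim.exists_simple_normal (V := N) ⟨sq, ?_, invH, hmax, hinsH⟩
    intro h hh
    refine Subtype.ext (triv _ fun ω => ?_)
    obtain ⟨b, rfl⟩ := MulAction.exists_smul_eq N α ω
    show (h : G) • ((b : G) • α) = (b : G) • α
    rw [orb h b, hh b]

end Cfsg.Agent.S3521
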