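import Cfsg.Statements.S3532
import Cfsg.Agent.Lib.Recog.SemidirectSpectrum
import Cfsg.Agent.Lib.KnownB.PSL2Elem
import Mathlib.FieldTheory.Finite.GaloisField
import Mathlib.GroupTheory.Solvable
import Mathlib.Algebra.Field.GeomSum
import Mathlib.RingTheory.IntegralDomain

set_option autoImplicit false
open Cfsg

namespace Cfsg.Agent.S3532

open CfsgLib.Recog

/-- A Frobenius group `GF(p^k) ⋊ C_m` has as element orders the divisors of `m` and `p`. -/
theorem frobenius_field (p k m : ℕ) [Fact p.Prime] (hk : k ≠ 0) (hm : m ∣ p ^ k - 1) :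
    ∃ (H : Type) (_ : Group H) (_ : Finite H), Group.IsSolvable H ∧
      Set.range (orderOf : H → ℕ) = {n | n ∣ m ∨ n ∣ p} := by
  classical
  let K := GaloisField p k
  haveI : Finite K := Nat.finite_of_card_ne_zero (by
    rw [GaloisField.card p k hk]; exact pow_ne_zero _ (Fact.out : p.Prime).ne_zero)
  haveI : Fintype K := Fintype.ofFinite K
  obtain ⟨e, he⟩ := hm
  obtain ⟨g₀, hg₀⟩ := IsCyclic.exists_generator (α := Kˣ)
  have hord : orderOf g₀ = p ^ k - 1 := by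
    rw [orderOf_eq_card_of_forall_mem_zpowers hg₀, Nat.card_units, GaloisField.card p k hk]
  have hpk : 0 < p ^ k - 1 := by
    have := Nat.one_lt_pow hk (Fact.out : p.Prime).one_lt
    omega
  have he0 : e ≠ 0 := by rintro rfl; simp at he; omega
  let U := Subgroup.zpowers (g₀ ^ e)
  have hU : orderOf (g₀ ^ e) = m := by
    rw [orderOf_pow' g₀ he0, hord, he, Nat.gcd_eq_right (dvd_mul_left e m), Nat.mul_div_cancel _ (Nat.pos_of_ne_zero he0)]
  let H := Multiplicative K ⋊[mulAutOfAction U K] U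
  haveI : Finite (Multiplicative K) := Finite.of_equiv K Multiplicative.ofAdd
  haveI : Finite H := Finite.of_equiv _ SemidirectProduct.equivProd.symm
  haveI : CharP K p := inferInstance
  have hexp : ∀ a : K, p • a = 0 := fun a => by rw [nsmul_eq_mul, CharP.cast_eq_zero, zero_mul]
  have hnorm : ∀ g : U, g ≠ 1 → ∀ a : K, ∑ i ∈ Finset.range (orderOf g), g ^ i • a = 0 := by
    intro g hg a
    have hg1 : ((g : Kˣ) : K) ≠ 1 := fun e => hg (Subtype.ext (Units.ext e))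
    simp only [Subgroup.smul_def, Units.smul_def, smul_eq_mul, Subgroup.coe_pow, Units.val_pow_eq_pow_val, ← Finset.sum_mul]
    rw [geom_sum_eq hg1, ← Units.val_pow_eq_pow_val, ← Subgroup.coe_pow, pow_orderOf_eq_one, Subgroup.coe_one, Units.val_one,
      sub_self, zero_div, zero_mul]
  refine ⟨H, inferInstance, inferInstance, ?_, ?_⟩
  · exact Group.isSolvable_of_ker_le_range (SemidirectProduct.inl : Multiplicative K →* H) SemidirectProduct.rightHom
      (by rw [SemidirectProduct.range_inl_eq_ker_rightHom])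
  · ext n
    constructor
    · rintro ⟨x, rfl⟩
      have hd : orderOf x.right ∣ m := by
        obtain ⟨j, hj⟩ := x.right.2
        rw [← Subgroup.orderOf_coe, ← hU, ← hj]
        exact orderOf_dvd_of_pow_eq_one (by rw [← zpow_natCast, ← zpow_mul, mul_comm, zpow_mul, zpow_natCast, pow_orderOf_eq_one, one_zpow])
      rcases orderOf_semidirect (Fact.out : p.Prime) hexp x with ⟨-, h⟩ | ⟨hne, h⟩
      · exact Or.inl (h ▸ hd)
      · have h1 : x.right = 1 := by by_contra h1; exact hne (hnorm _ h1 _)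
        exact Or.inr (by rw [h, h1, orderOf_one, mul_one])
    · intro hn
      suffices h : ∃ x : H, n ∣ orderOf x by
        obtain ⟨x, hx⟩ := h
        exact ⟨x ^ (orderOf x / n), orderOf_pow_orderOf_div (orderOf_pos x).ne' hx⟩
      rcases hn with hn | hn
      · refine ⟨SemidirectProduct.inr ⟨g₀ ^ e, Subgroup.mem_zpowers _⟩, hn.trans (dvd_of_eq ?_)⟩
        rw [orderOf_injective _ SemidirectProduct.inr_injective, ← Subgroup.orderOf_coe, hU]
      · refine ⟨⟨Multiplicative.ofAdd 1, 1⟩, hn.trans (dvd_of_eq ?_)⟩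
        rcases orderOf_semidirect (Fact.out : p.Prime) hexp (⟨Multiplicative.ofAdd 1, 1⟩ : H) with ⟨h0, -⟩ | ⟨-, h⟩
        · simp at h0
        · rw [h]; simp

/-- Let q ≥ 4 be a prime power and L = PSL(2,q). There is a finite solvable group with the same set of element orders as L × L (so L × L is not determined by its spectrum). -/
theorem result {F : Type*} [Field F] [Fintype F] (hF : 4 ≤ Fintype.card F) :
    ∃ (H : Type) (_ : Group H) (_ : Finite H), Group.IsSolvable H ∧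
      Set.range (orderOf : H → ℕ) = Set.range (orderOf : Matrix.ProjectiveSpecialLinearGroup (Fin 2) F × Matrix.ProjectiveSpecialLinearGroup (Fin 2) F → ℕ) := by
  obtain ⟨p, hp⟩ := CharP.exists F
  obtain ⟨f, hpp, hq⟩ := FiniteField.card F p
  haveI := Fact.mk hpp
  set d := Nat.gcd 2 (Fintype.card F - 1) with hd
  have hq1 : 1 < Fintype.card F := Fintype.one_lt_card
  have hdm : d ∣ Fintype.card F - 1 := Nat.gcd_dvd_right _ _
  have hdp : d ∣ Fintype.card F + 1 := by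
    have := Nat.dvd_add hdm (Nat.gcd_dvd_left 2 (Fintype.card F - 1))
    rwa [show Fintype.card F - 1 + 2 = Fintype.card F + 1 by omega] at this
  set A := (Fintype.card F - 1) / d
  set B := (Fintype.card F + 1) / d
  obtain ⟨H₁, _, _, hs₁, hr₁⟩ := frobenius_field p f A f.ne_zero ((Nat.div_dvd_of_dvd hdm).trans (by rw [hq]))
  obtain ⟨H₂, _, _, hs₂, hr₂⟩ := frobenius_field p (2 * f) B (by simp [f.ne_zero]) ((Nat.div_dvd_of_dvd hdp).trans (by
    rw [mul_comm, pow_mul, ← hq]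
    exact ⟨Fintype.card F - 1, by simpa using Nat.sq_sub_sq (Fintype.card F) 1⟩))
  haveI := hs₁
  haveI := hs₂
  refine ⟨H₁ × H₂, inferInstance, inferInstance, ?_, ?_⟩
  · exact Group.isSolvable_of_ker_le_range (MonoidHom.inl H₁ H₂) (MonoidHom.snd H₁ H₂)
      (fun x hx => ⟨x.1, Prod.ext rfl hx.symm⟩)
  let P := Matrix.ProjectiveSpecialLinearGroup (Fin 2) F
  have hcase : ∀ g : P, orderOf g ∣ p ∨ orderOf g ∣ A ∨ orderOf g ∣ B := CfsgLib.KnownB.SL2.orderOf_psl_cases p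
  have hex : ∀ m, (m ∣ p ∨ m ∣ A ∨ m ∣ B) → ∃ g : P, orderOf g = m := fun m h =>
    CfsgLib.KnownB.SL2.exists_orderOf_psl p h
  have h1 : ∀ m, (∃ x : H₁, orderOf x = m) ↔ (m ∣ A ∨ m ∣ p) := fun m => by
    change m ∈ Set.range (orderOf : H₁ → ℕ) ↔ _
    rw [hr₁]; rfl
  have h2 : ∀ m, (∃ x : H₂, orderOf x = m) ↔ (m ∣ B ∨ m ∣ p) := fun m => by
    change m ∈ Set.range (orderOf : H₂ → ℕ) ↔ _
    rw [hr₂]; rfl
  ext n
  constructor
  · rintro ⟨⟨x, y⟩, rfl⟩
    obtain ⟨g, hg⟩ := hex (orderOf x) (by rcases (h1 _).mp ⟨x, rfl⟩ with h | h <;> simp [h])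
    obtain ⟨g', hg'⟩ := hex (orderOf y) (by rcases (h2 _).mp ⟨y, rfl⟩ with h | h <;> simp [h])
    exact ⟨(g, g'), by rw [Prod.orderOf_mk, Prod.orderOf_mk, hg, hg']⟩
  · rintro ⟨⟨g, g'⟩, rfl⟩
    rw [Prod.orderOf_mk]
    suffices h : ∃ (x : H₁) (y : H₂), Nat.lcm (orderOf g) (orderOf g') ∣ orderOf (x, y) by
      obtain ⟨x, y, h⟩ := h
      exact ⟨(x, y) ^ (orderOf (x, y) / Nat.lcm (orderOf g) (orderOf g')), orderOf_pow_orderOf_div (orderOf_pos _).ne' h⟩
    have pair : ∀ a b, (a ∣ A ∨ a ∣ p) → (b ∣ B ∨ b ∣ p) → ∀ n, n ∣ Nat.lcm a b →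
        ∃ (x : H₁) (y : H₂), n ∣ orderOf (x, y) := by
      intro a b ha hb n hn
      obtain ⟨x, hx⟩ := (h1 a).mpr ha
      obtain ⟨y, hy⟩ := (h2 b).mpr hb
      exact ⟨x, y, by rw [Prod.orderOf_mk, hx, hy]; exact hn⟩
    rcases hcase g with h | h | h <;> rcases hcase g' with h' | h' | h'
    · exact pair p p (Or.inr dvd_rfl) (Or.inr dvd_rfl) _ ((Nat.lcm_dvd h h').trans (Nat.dvd_lcm_left _ _))
    · exact pair A p (Or.inl dvd_rfl) (Or.inr dvd_rfl) _ (Nat.lcm_dvd (h.trans (Nat.dvd_lcm_right _ _)) (h'.trans (Nat.dvd_lcm_left _ _)))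
    · exact pair p B (Or.inr dvd_rfl) (Or.inl dvd_rfl) _ (Nat.lcm_dvd (h.trans (Nat.dvd_lcm_left _ _)) (h'.trans (Nat.dvd_lcm_right _ _)))
    · exact pair A p (Or.inl dvd_rfl) (Or.inr dvd_rfl) _ (Nat.lcm_dvd (h.trans (Nat.dvd_lcm_left _ _)) (h'.trans (Nat.dvd_lcm_right _ _)))
    · exact pair A p (Or.inl dvd_rfl) (Or.inr dvd_rfl) _ ((Nat.lcm_dvd h h').trans (Nat.dvd_lcm_left _ _))
    · exact pair A B (Or.inl dvd_rfl) (Or.inl dvd_rfl) _ (Nat.lcm_dvd (h.trans (Nat.dvd_lcm_left _ _)) (h'.trans (Nat.dvd_lcm_right _ _)))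
    · exact pair p B (Or.inr dvd_rfl) (Or.inl dvd_rfl) _ (Nat.lcm_dvd (h.trans (Nat.dvd_lcm_right _ _)) (h'.trans (Nat.dvd_lcm_left _ _)))
    · exact pair A B (Or.inl dvd_rfl) (Or.inl dvd_rfl) _ (Nat.lcm_dvd (h.trans (Nat.dvd_lcm_right _ _)) (h'.trans (Nat.dvd_lcm_left _ _)))
    · exact pair p B (Or.inr dvd_rfl) (Or.inl dvd_rfl) _ ((Nat.lcm_dvd h h').trans (Nat.dvd_lcm_right _ _))


end Cfsg.Agent.S3532
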