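import Cfsg.Statements.S3547
import Cfsg.Agent.Lib.Recog.DerangeSubgroup

set_option autoImplicit false
open Cfsg

namespace Cfsg.Agent.S3547

/-- Let G act faithfully and transitively on a finite set Ω, let D be the subgroup generated by the derangements, and let r_G and r_D be the numbers of orbits of G and of D on ordered pairs of points (the permutation ranks). Then r_D − 1 = (r_G − 1)·[G : D]. -/
theorem result {G Ω : Type*} [Group G] [Finite G] [MulAction G Ω] [FaithfulSMul G Ω] [Finite Ω]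
    (htrans : MulAction.IsPretransitive G Ω) :
    Nat.card (MulAction.orbitRel.Quotient ↥(Subgroup.closure {g : G | ∀ ω : Ω, g • ω ≠ ω}) (Ω × Ω)) - 1 =
      (Nat.card (MulAction.orbitRel.Quotient G (Ω × Ω)) - 1) * (Subgroup.closure {g : G | ∀ ω : Ω, g • ω ≠ ω}).index := by
  classical
  rcases isEmpty_or_nonempty Ω with h | h
  · have : ∀ D : Subgroup G, Nat.card (MulAction.orbitRel.Quotient D (Ω × Ω)) = 0 := fun D =>
      Nat.card_eq_zero.mpr (Or.inl ⟨fun q => Quotient.inductionOn' q isEmptyElim⟩)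
    rw [this, Nat.card_eq_zero.mpr (Or.inl (show IsEmpty (MulAction.orbitRel.Quotient G (Ω × Ω)) from ⟨fun q => Quotient.inductionOn' q isEmptyElim⟩))]
    simp
  have := Fintype.ofFinite G
  set D := Subgroup.closure {g : G | ∀ ω : Ω, g • ω ≠ ω} with hDdef
  obtain ⟨-, h2⟩ := CfsgLib.Recog.derangeSubgroup_spec (G := G) (Ω := Ω) htrans
  have hfix : ∀ g : G, g ∉ D → Nat.card (MulAction.fixedBy (Ω × Ω) g) = 1 := by
    intro g hg
    let e : MulAction.fixedBy (Ω × Ω) g ≃ MulAction.fixedBy Ω g × MulAction.fixedBy Ω g :=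
      { toFun := fun x => (⟨x.1.1, congrArg Prod.fst x.2⟩, ⟨x.1.2, congrArg Prod.snd x.2⟩)
        invFun := fun x => ⟨(x.1.1, x.2.1), Prod.ext x.1.2 x.2.2⟩
        left_inv := fun x => rfl
        right_inv := fun x => rfl }
    rw [Nat.card_congr e, Nat.card_prod, h2 g hg]
  have hG := CfsgLib.Recog.sum_card_fixedBy (G := G) (α := Ω × Ω)
  have hD : ∑ d : D, Nat.card (MulAction.fixedBy (Ω × Ω) (d : G)) =
      Nat.card (MulAction.orbitRel.Quotient D (Ω × Ω)) * Fintype.card D :=
    CfsgLib.Recog.sum_card_fixedBy (G := D) (α := Ω × Ω)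
  rw [CfsgLib.Recog.sum_split D, hD,
    Finset.sum_congr rfl (fun g hg => hfix g (Finset.mem_filter.mp hg).2)] at hG
  have hcard : Fintype.card D + ∑ g ∈ Finset.univ.filter (· ∉ D), 1 = Fintype.card G := by
    have h := CfsgLib.Recog.sum_split D (fun _ : G => (1 : ℕ))
    simpa using h.symm
  have hidx : Fintype.card D * D.index = Fintype.card G := by
    rw [← Nat.card_eq_fintype_card, ← Nat.card_eq_fintype_card, Subgroup.card_mul_index]
  set a := Nat.card (MulAction.orbitRel.Quotient D (Ω × Ω))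
  set b := Nat.card (MulAction.orbitRel.Quotient G (Ω × Ω))
  set c := ∑ g ∈ Finset.univ.filter (· ∉ D), 1
  have hb : 1 ≤ b := by
    have : Nonempty (MulAction.orbitRel.Quotient G (Ω × Ω)) :=
      ⟨Quotient.mk'' (Classical.arbitrary _)⟩
    exact Nat.one_le_iff_ne_zero.mpr Nat.card_pos.ne'
  refine Nat.eq_of_mul_eq_mul_right (Fintype.card_pos (α := D)) ?_
  rw [Nat.sub_mul, one_mul, mul_assoc, mul_comm D.index, hidx, Nat.sub_mul, one_mul]
  omega

end Cfsg.Agent.S3547
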