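import Cfsg.Statements.S3548
import Cfsg.Agent.Lib.Recog.DerangeSubgroup

set_option autoImplicit false
open Cfsg

namespace Cfsg.Agent.S3548

/-- Let G act faithfully and transitively on a finite set with n ≥ 2 points and let D be the subgroup generated by the derangements. Then the index of D in G divides n − 1, and if it equals n − 1 then n is a prime power. -/
theorem result {G Ω : Type*} [Group G] [Finite G] [MulAction G Ω] [FaithfulSMul G Ω] [Finite Ω]
    (htrans : MulAction.IsPretransitive G Ω) (hΩ : 2 ≤ Nat.card Ω) :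
    (Subgroup.closure {g : G | ∀ ω : Ω, g • ω ≠ ω}).index ∣ Nat.card Ω - 1 ∧
    ((Subgroup.closure {g : G | ∀ ω : Ω, g • ω ≠ ω}).index = Nat.card Ω - 1 → IsPrimePow (Nat.card Ω)) := by
  classical
  have : Nonempty Ω := (Nat.card_pos_iff.mp (by omega)).1
  obtain ⟨α⟩ := ‹Nonempty Ω›
  obtain ⟨hr1, h2⟩ := CfsgLib.Recog.derangeSubgroup_spec (G := G) (Ω := Ω) htrans
  set D := Subgroup.closure {g : G | ∀ ω : Ω, g • ω ≠ ω} with hDdef
  have hDn : D.Normal := CfsgLib.Recog.derangeSubgroup_normal
  have hDt : MulAction.IsPretransitive D Ω :=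
    (MulAction.pretransitive_iff_subsingleton_quotient D Ω).mpr (Nat.card_eq_one_iff_unique.mp hr1).1
  have hfix1 : ∀ g : G, g ∉ D → ∀ a b : Ω, g • a = a → g • b = b → a = b := by
    intro g hg a b ha hb
    have h := (Nat.card_eq_one_iff_unique.mp (h2 g hg)).1
    exact congrArg Subtype.val (h.elim (⟨a, ha⟩ : MulAction.fixedBy Ω g) ⟨b, hb⟩)
  set S := MulAction.stabilizer G α with hS
  have hidx : (D.subgroupOf S).index = D.index := CfsgLib.Recog.index_subgroupOf_stabilizer hDt α
  let X := SubMulAction.ofStabilizer G α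
  have hle : ∀ x : X, MulAction.stabilizer S x ≤ D.subgroupOf S := by
    intro x s hs
    rw [Subgroup.mem_subgroupOf]
    by_contra hsD
    exact x.2 (hfix1 (s : G) hsD x.1 α (congrArg Subtype.val hs) s.2)
  have hX : Nat.card X + 1 = Nat.card Ω := by
    have e : Nat.card X = Nat.card {ω : Ω // ω ≠ α} := Nat.card_congr (Equiv.refl _)
    have h1 := Fintype.ofFinite Ω
    rw [e, Nat.card_eq_fintype_card, Nat.card_eq_fintype_card, Fintype.card_subtype_compl,
      Fintype.card_subtype_eq]
    have := Fintype.card_pos_iff.mpr ⟨α⟩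
    omega
  have hdvd := CfsgLib.Recog.index_dvd_card_of_stabilizer_le (D.subgroupOf S) hle
  rw [hidx] at hdvd
  refine ⟨by rwa [show Nat.card Ω - 1 = Nat.card X by omega], fun hmax => ?_⟩
  -- the sharply two-transitive case
  have hXd : Nat.card X = (D.subgroupOf S).index := by omega
  have htrS : ∀ x y : X, ∃ s : S, s • x = y := by
    intro x y
    have h1 : (MulAction.orbit S x).ncard = Nat.card X := by
      refine le_antisymm (Set.ncard_le_card _) ?_
      rw [← MulAction.index_stabilizer, hXd]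
      exact Nat.le_of_dvd (Nat.pos_of_ne_zero Subgroup.index_ne_zero_of_finite) (Subgroup.index_dvd_of_le (hle x))
    have h2 : MulAction.orbit S x = Set.univ :=
      Set.eq_of_subset_of_ncard_le (Set.subset_univ _) (by rw [Set.ncard_univ, h1]) (Set.toFinite _)
    exact (h2 ▸ Set.mem_univ y : y ∈ MulAction.orbit S x)
  have hstab : ∀ d : G, d ∈ D → d • α = α → d = 1 := by
    intro d hd hdα
    have hX0 : 0 < Nat.card X := by omega
    obtain ⟨⟨x₀⟩, -⟩ := Nat.card_pos_iff.mp hX0
    have heq : MulAction.stabilizer S x₀ = D.subgroupOf S := by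
      refine Subgroup.eq_of_le_of_card_ge (hle x₀) ?_
      have h1 : (MulAction.stabilizer S x₀).index = (D.subgroupOf S).index := by
        rw [MulAction.index_stabilizer, ← hXd, ← Set.ncard_univ]
        congr 1
        exact Set.eq_univ_of_forall (htrS x₀)
      have e1 := (MulAction.stabilizer S x₀).card_mul_index
      have e2 := (D.subgroupOf S).card_mul_index
      rw [h1, ← e2] at e1
      exact (Nat.eq_of_mul_eq_mul_right (Nat.pos_of_ne_zero Subgroup.index_ne_zero_of_finite) e1).ge
    refine FaithfulSMul.eq_of_smul_eq_smul (α := Ω) fun ω => ?_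
    rw [one_smul]
    by_cases hω : ω = α
    · rw [hω, hdα]
    obtain ⟨s, hs⟩ := htrS x₀ ⟨ω, hω⟩
    have hmem : (⟨(s : G)⁻¹ * d * s, S.mul_mem (S.mul_mem (S.inv_mem s.2) hdα) s.2⟩ : S) ∈ D.subgroupOf S := by
      rw [Subgroup.mem_subgroupOf]
      simpa using hDn.conj_mem d hd (s : G)⁻¹
    rw [← heq] at hmem
    have h' : ((s : G)⁻¹ * d * s) • (x₀ : Ω) = x₀ := congrArg Subtype.val hmem
    have hs' : (s : G) • (x₀ : Ω) = ω := congrArg Subtype.val hs
    rw [mul_smul, mul_smul, hs', inv_smul_eq_iff, hs'] at h'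
    exact h'
  have hDcard : Nat.card D = Nat.card Ω := by
    refine Nat.card_congr (Equiv.ofBijective (fun d : D => (d : G) • α) ⟨fun a b hab => ?_, fun ω => ?_⟩)
    · have h := hstab ((b : G)⁻¹ * a) (D.mul_mem (D.inv_mem b.2) a.2)
        (by rw [mul_smul, show (a : G) • α = (b : G) • α from hab, inv_smul_smul])
      exact Subtype.ext (inv_mul_eq_one.mp h).symm
    · obtain ⟨d, hd⟩ := hDt.exists_smul_eq α ω
      exact ⟨d, hd⟩
  obtain ⟨p, hp, hpD⟩ := Nat.exists_prime_and_dvd (show Nat.card D ≠ 1 by omega)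
  have : Fact p.Prime := ⟨hp⟩
  obtain ⟨x, hx⟩ := exists_prime_orderOf_dvd_card' p hpD
  -- the stabiliser permutes the other elements of `D` regularly
  have hScard : Nat.card Ω - 1 ≤ Nat.card S := by
    rw [← hmax, ← hidx, ← (D.subgroupOf S).card_mul_index]
    exact Nat.le_mul_of_pos_left _ Nat.card_pos
  have hxne : (x : G) ≠ 1 := fun h => hp.ne_one (by rw [← hx, ← Subgroup.orderOf_coe, h, orderOf_one])
  let f : S → {y : D // y ≠ 1} := fun s => ⟨⟨(s : G) * x * (s : G)⁻¹, hDn.conj_mem _ x.2 _⟩,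
    fun h => hxne (by
      have h' : (s : G) * x * (s : G)⁻¹ = 1 := congrArg Subtype.val h
      simpa using h')⟩
  have hf : Function.Injective f := by
    intro s t hst
    have h : (s : G) * x * (s : G)⁻¹ = (t : G) * x * (t : G)⁻¹ := congrArg (fun y => (y.1 : G)) hst
    set u := (t : G)⁻¹ * s with hu
    have hux : u * x = x * u := by
      calc u * x = (t : G)⁻¹ * ((s : G) * x * (s : G)⁻¹) * s := by rw [hu]; group
        _ = x * u := by rw [h, hu]; group
    have huα : u • α = α := by rw [hu, mul_smul, s.2, inv_smul_eq_iff, t.2]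
    have hu1 : u = 1 := by
      by_contra hne
      have hxα : u • ((x : G) • α) = (x : G) • α := by rw [← mul_smul, hux, mul_smul, huα]
      have huD : u ∉ D := fun h => hne (hstab u h huα)
      exact hxne (hstab x x.2 (hfix1 u huD _ _ hxα huα))
    exact Subtype.ext (inv_mul_eq_one.mp hu1).symm
  have hne1 : Nat.card {y : D // y ≠ 1} = Nat.card Ω - 1 := by
    have h1 := Fintype.ofFinite D
    rw [Nat.card_eq_fintype_card, Fintype.card_subtype_compl, Fintype.card_subtype_eq,
      ← Nat.card_eq_fintype_card, hDcard]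
  have hsurj : Function.Surjective f :=
    (hf.bijective_of_nat_card_le (by omega)).2
  have hpg : IsPGroup p D := by
    intro y
    refine ⟨1, ?_⟩
    by_cases hy : y = 1
    · simp [hy]
    obtain ⟨s, hs⟩ := hsurj ⟨y, hy⟩
    have h : (s : G) * x * (s : G)⁻¹ = y := congrArg (fun y => (y.1 : G)) hs
    apply Subtype.ext
    have hx' : (x : G) ^ p = 1 := by
      rw [← Subgroup.coe_pow, ← hx, pow_orderOf_eq_one, Subgroup.coe_one]
    rw [pow_one, Subgroup.coe_pow, Subgroup.coe_one, ← h, conj_pow, hx', mul_one, mul_inv_cancel]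
  obtain ⟨k, hk⟩ := IsPGroup.iff_card.mp hpg
  rw [← hDcard, hk]
  exact hp.isPrimePow.pow (fun h0 => by rw [h0, pow_zero] at hk; omega)

end Cfsg.Agent.S3548
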