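import Cfsg.Statements.S3549
import Cfsg.Agent.Lib.Recog.DerangeSubgroup

set_option autoImplicit false
open Cfsg
open scoped Pointwise

namespace Cfsg.Agent.S3549

/-- Let G act faithfully, transitively but imprimitively on a finite set with n points, and let D be the subgroup generated by the derangements. Then the index of D in G is at most √n − 1. -/
theorem result {G Ω : Type*} [Group G] [Finite G] [MulAction G Ω] [FaithfulSMul G Ω] [Finite Ω]
    (htrans : MulAction.IsPretransitive G Ω) (himp : ¬ MulAction.IsPreprimitive G Ω) :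
    ((Subgroup.closure {g : G | ∀ ω : Ω, g • ω ≠ ω}).index : ℝ) ≤ Real.sqrt (Nat.card Ω) - 1 := by
  classical
  rcases isEmpty_or_nonempty Ω with hE | hne
  · exact absurd ⟨fun {B} _ => Or.inl (fun a _ b _ => isEmptyElim a)⟩ himp
  obtain ⟨α⟩ := id hne
  obtain ⟨hr1, h2⟩ := CfsgLib.Recog.derangeSubgroup_spec (G := G) (Ω := Ω) htrans
  set D := Subgroup.closure {g : G | ∀ ω : Ω, g • ω ≠ ω} with hDdef
  have hDn : D.Normal := CfsgLib.Recog.derangeSubgroup_normal
  have hDt : MulAction.IsPretransitive D Ω :=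
    (MulAction.pretransitive_iff_subsingleton_quotient D Ω).mpr (Nat.card_eq_one_iff_unique.mp hr1).1
  have hfix1 : ∀ g : G, g ∉ D → ∀ a b : Ω, g • a = a → g • b = b → a = b := by
    intro g hg a b ha hb
    have h := (Nat.card_eq_one_iff_unique.mp (h2 g hg)).1
    exact congrArg Subtype.val (h.elim (⟨a, ha⟩ : MulAction.fixedBy Ω g) ⟨b, hb⟩)
  obtain ⟨B₀, hB₀, hB₀t⟩ : ∃ B : Set Ω, MulAction.IsBlock G B ∧ ¬ MulAction.IsTrivialBlock B := by
    by_contra h
    push Not at h
    exact himp ⟨fun {B} hB => h B hB⟩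
  obtain ⟨β, hβ⟩ : B₀.Nonempty := by
    rcases B₀.eq_empty_or_nonempty with h | h
    · exact absurd (Or.inl (h ▸ Set.subsingleton_empty)) hB₀t
    · exact h
  obtain ⟨g₀, hg₀⟩ := MulAction.exists_smul_eq G β α
  set B := g₀ • B₀ with hBdef
  have hαB : α ∈ B := hg₀ ▸ Set.smul_mem_smul_set hβ
  have hB : MulAction.IsBlock G B := hB₀.translate g₀
  have hBne : B ≠ Set.univ := fun h => hB₀t (Or.inr (by
    rw [← inv_smul_smul g₀ B₀, ← hBdef, h, Set.smul_set_univ]))
  have hBsub : ¬ B.Subsingleton := fun h => hB₀t (Or.inl fun x hx y hy =>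
    MulAction.injective g₀ (h (Set.smul_mem_smul_set hx) (Set.smul_mem_smul_set hy)))
  set S := MulAction.stabilizer G α with hS
  have hidx : (D.subgroupOf S).index = D.index := CfsgLib.Recog.index_subgroupOf_stabilizer hDt α
  have hSB : ∀ s : G, s • α = α → s • B = B := fun s hs =>
    hB.smul_eq_of_nonempty ⟨α, ⟨α, hαB, hs⟩, hαB⟩
  -- the other points of the block
  let Y : SubMulAction S Ω :=
    { carrier := B \ {α}
      smul_mem' := fun s x hx => by
        refine ⟨hSB s s.2 ▸ Set.smul_mem_smul_set hx.1, fun h => hx.2 ?_⟩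
        rw [Set.mem_singleton_iff] at h ⊢
        exact MulAction.injective (s : G) (show (s : G) • x = (s : G) • α from h.trans s.2.symm) }
  have hd1 : D.index ∣ B.ncard - 1 := by
    have h := CfsgLib.Recog.index_dvd_card_of_stabilizer_le (X := Y) (D.subgroupOf S) fun x s hs => by
      rw [Subgroup.mem_subgroupOf]
      by_contra hsD
      exact x.2.2 (hfix1 (s : G) hsD x.1 α (congrArg Subtype.val hs) s.2)
    rw [hidx] at h
    rwa [show Nat.card Y = B.ncard - 1 from
      (Nat.card_coe_set_eq (B \ {α})).trans (Set.ncard_sdiff_singleton_of_mem hαB)] at h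
  -- the other blocks
  let Bl := MulAction.orbit G B
  have : Nonempty Bl := ⟨⟨B, MulAction.mem_orbit_self B⟩⟩
  have hBlt : MulAction.IsPretransitive D Bl := by
    refine ⟨fun P Q => ?_⟩
    obtain ⟨a, ha⟩ := P.2
    obtain ⟨b, hb⟩ := Q.2
    obtain ⟨d, hd⟩ := hDt.exists_smul_eq (a • α) (b • α)
    refine ⟨d, Subtype.ext ?_⟩
    show (d : G) • (P : Set Ω) = Q
    have hd' : (d : G) • a • α = b • α := hd
    simp only at ha hb
    rw [← ha, ← hb, smul_smul]
    have := hSB (b⁻¹ * ((d : G) * a)) (by rw [mul_smul, mul_smul, hd', inv_smul_smul])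
    rwa [mul_smul, inv_smul_eq_iff] at this
  have hge : ∀ g : G, g ∉ D → 1 ≤ Nat.card (MulAction.fixedBy Bl g) := by
    intro g hg
    obtain ⟨ω, hω⟩ : ∃ ω, g • ω = ω := by
      obtain ⟨z⟩ := (Nat.card_eq_one_iff_unique.mp (h2 g hg)).2
      exact ⟨(z : Ω), z.2⟩
    obtain ⟨a, rfl⟩ := MulAction.exists_smul_eq G α ω
    have h' := hSB (a⁻¹ * g * a) (by rw [mul_smul, mul_smul, hω, inv_smul_smul])
    rw [mul_smul, mul_smul, inv_smul_eq_iff] at h'
    have : Nonempty (MulAction.fixedBy Bl g) := ⟨⟨⟨a • B, MulAction.mem_orbit B a⟩, Subtype.ext h'⟩⟩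
    exact Nat.one_le_iff_ne_zero.mpr Nat.card_pos.ne'
  have hfixB : ∀ g : G, g ∉ D → ∀ P Q : Bl, g • P = P → g • Q = Q → P = Q := by
    intro g hg P Q hP hQ
    have h := (Nat.card_eq_one_iff_unique.mp (CfsgLib.Recog.card_fixedBy_eq_one_of_transitive D hBlt hge g hg)).1
    exact congrArg Subtype.val (h.elim (⟨P, hP⟩ : MulAction.fixedBy Bl g) ⟨Q, hQ⟩)
  let Z : SubMulAction S Bl :=
    { carrier := {P | (P : Set Ω) ≠ B}
      smul_mem' := fun s P hP h => hP (by
        have h' : (s : G) • (P : Set Ω) = B := h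
        rw [← inv_smul_smul (s : G) (P : Set Ω), h']
        exact hSB _ (inv_smul_eq_iff.mpr s.2.symm)) }
  have hd2 : D.index ∣ (MulAction.orbit G B).ncard - 1 := by
    have h := CfsgLib.Recog.index_dvd_card_of_stabilizer_le (X := Z) (D.subgroupOf S) fun P s hs => by
      rw [Subgroup.mem_subgroupOf]
      by_contra hsD
      have h1 : (s : G) • P.1 = P.1 := congrArg Subtype.val hs
      exact P.2 (congrArg Subtype.val (hfixB (s : G) hsD P.1 ⟨B, MulAction.mem_orbit_self B⟩ h1
        (Subtype.ext (hSB _ s.2))))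
    rw [hidx] at h
    have hc : Nat.card Z = (MulAction.orbit G B \ {B}).ncard := by
      rw [← Nat.card_coe_set_eq]
      exact Nat.card_congr
        { toFun := fun P => ⟨P.1.1, P.1.2, P.2⟩
          invFun := fun P => ⟨⟨P.1, P.2.1⟩, P.2.2⟩
          left_inv := fun P => rfl
          right_inv := fun P => rfl }
    rwa [hc, Set.ncard_sdiff_singleton_of_mem (MulAction.mem_orbit_self B)] at h
  have hmul := hB.ncard_block_mul_ncard_orbit_eq ⟨α, hαB⟩
  set b := B.ncard
  set c := (MulAction.orbit G B).ncard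
  have hb2 : 2 ≤ b := by
    rw [Set.not_subsingleton_iff] at hBsub
    exact (Set.one_lt_ncard (Set.toFinite _)).mpr hBsub
  have hbn : b < Nat.card Ω := by
    rw [← Set.ncard_univ]
    exact Set.ncard_lt_ncard (hBne.lt_top) (Set.toFinite _)
  have hc2 : 2 ≤ c := by
    by_contra hlt
    interval_cases c <;> omega
  have e1 := Nat.le_of_dvd (by omega) hd1
  have e2 := Nat.le_of_dvd (by omega) hd2
  have hsq : (D.index + 1) ^ 2 ≤ Nat.card Ω := by
    rw [← hmul, pow_two]
    exact Nat.mul_le_mul (by omega) (by omega)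
  rw [le_sub_iff_add_le]
  refine Real.le_sqrt_of_sq_le ?_
  exact_mod_cast hsq

end Cfsg.Agent.S3549
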