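import Cfsg.Statements.S3554


set_option autoImplicit false
open Cfsg

namespace Cfsg.Agent.S3554

/-- Let G act faithfully and transitively on a finite set and suppose G has a non-trivial cyclic normal subgroup. Then some element of G of prime order fixes no point. -/
theorem result {G Ω : Type*} [Group G] [Finite G] [MulAction G Ω] [FaithfulSMul G Ω] [Finite Ω]
    (htrans : MulAction.IsPretransitive G Ω) (C : Subgroup G) (hC : C.Normal) (hC1 : C ≠ ⊥) (hcyc : IsCyclic ↥C) :
    ∃ g : G, (orderOf g).Prime ∧ ∀ ω : Ω, g • ω ≠ ω := by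
  classical
  obtain ⟨p, hp, hpC⟩ := Nat.exists_prime_and_dvd (C.one_lt_card_iff_ne_bot.mpr hC1).ne'
  have : Fact p.Prime := ⟨hp⟩
  obtain ⟨x, hx⟩ := exists_prime_orderOf_dvd_card' p hpC
  refine ⟨x, by rw [Subgroup.orderOf_coe, hx]; exact hp, fun ω hω => ?_⟩
  have hall : ∀ g : G, ((g * x * g⁻¹ : G)) • ω = ω := by
    intro g
    obtain ⟨m, hm⟩ := MonoidHom.map_cyclic ((MulAut.conjNormal (H := C) g).toMonoidHom)
    have h := congrArg Subtype.val (hm x)
    simp at h
    rw [h]
    have hs : (x : G) ∈ MulAction.stabilizer G ω := hω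
    exact (MulAction.stabilizer G ω).zpow_mem hs m
  have h1 : (x : G) = 1 := FaithfulSMul.eq_of_smul_eq_smul (α := Ω) fun a => by
    obtain ⟨g, rfl⟩ := MulAction.exists_smul_eq G ω a
    rw [one_smul]
    have h := hall g⁻¹
    rw [inv_inv, mul_smul, mul_smul, inv_smul_eq_iff] at h
    exact h
  rw [show x = 1 from Subtype.ext h1, orderOf_one] at hx
  exact hp.ne_one hx.symm

end Cfsg.Agent.S3554
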