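import Cfsg.Statements.S3555


set_option autoImplicit false
open Cfsg
open Pointwise

namespace Cfsg.Agent.S3555

/-- Let G act faithfully and transitively on a finite set and suppose every element of G fixing no point is an involution. Then either G is an elementary abelian 2-group, or G is a Frobenius group whose Frobenius kernel is an elementary abelian 2-group: G has a Frobenius complement H, and the elements lying in no conjugate of H, together with the identity, pairwise commute and square to the identity. -/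
theorem result {G Ω : Type*} [Group G] [Finite G] [MulAction G Ω] [FaithfulSMul G Ω] [Finite Ω]
    (htrans : MulAction.IsPretransitive G Ω) (hinv : ∀ g : G, (∀ ω : Ω, g • ω ≠ ω) → orderOf g = 2) :
    (IsMulCommutative G ∧ ∀ g : G, g ^ 2 = 1) ∨
    (∃ H : Subgroup G, Cfsg.IsFrobeniusComplement H ∧
      (∀ x ∈ Cfsg.frobeniusKernel H, x ^ 2 = 1) ∧
      ∀ x ∈ Cfsg.frobeniusKernel H, ∀ y ∈ Cfsg.frobeniusKernel H, x * y = y * x) := by
  classical
  haveI : Fintype G := Fintype.ofFinite G
  haveI : Fintype Ω := Fintype.ofFinite Ω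
  let F : G → Finset Ω := fun g => Finset.univ.filter (fun a => g • a = a)
  -- derangements with a point inject in the pairs fixed by an element
  have hinj : ∑ g : G, (if (F g).card = 0 then Fintype.card Ω else 0) ≤
      ∑ g : G, (F g).card * ((F g).card - 1) := by
    let A := (Finset.univ.filter (fun g : G => (F g).card = 0)).sigma (fun _ => (Finset.univ : Finset Ω))
    let B := (Finset.univ : Finset G).sigma (fun g => (F g).offDiag)
    have hA : A.card = ∑ g : G, (if (F g).card = 0 then Fintype.card Ω else 0) := by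
      simp only [A, Finset.card_sigma, Finset.sum_filter, Finset.card_univ]
    have hB : B.card = ∑ g : G, (F g).card * ((F g).card - 1) := by
      simp [B, Finset.offDiag_card, Nat.mul_sub_one]
    rw [← hA, ← hB]
    have hD : ∀ d : G, (F d).card = 0 → ∀ ω : Ω, d • ω ≠ ω := by
      intro d hd ω e
      rw [Finset.card_eq_zero] at hd
      exact Finset.notMem_empty ω (hd ▸ Finset.mem_filter.2 ⟨Finset.mem_univ ω, e⟩)
    have hswap : ∀ d : G, (F d).card = 0 → ∀ ω : Ω, d • (d • ω) = ω := by
      intro d hd ω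
      rw [← mul_smul, ← sq, ← hinv d (hD d hd), pow_orderOf_eq_one, one_smul]
    let sel : Ω × Ω → G := fun p =>
      if h : ∃ d : G, (F d).card = 0 ∧ d • p.1 = p.2 then h.choose else 1
    have hsel : ∀ d : G, (F d).card = 0 → ∀ a : Ω,
        (F (sel (a, d • a))).card = 0 ∧ sel (a, d • a) • a = d • a := by
      intro d hd a
      have h : ∃ e : G, (F e).card = 0 ∧ e • (a, d • a).1 = (a, d • a).2 := ⟨d, hd, rfl⟩
      simp only [sel, dif_pos h]
      exact h.choose_spec
    refine Finset.card_le_card_of_injOn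
      (fun x => ⟨sel (x.2, x.1 • x.2) * x.1, (x.2, x.1 • x.2)⟩) ?_ ?_
    · rintro ⟨d, a⟩ hx
      simp only [A, Finset.coe_sigma, Set.mem_sigma_iff, Finset.coe_filter, Set.mem_ofPred_eq] at hx
      obtain ⟨h1, h2⟩ := hsel d hx.1.2 a
      simp only [B, Finset.coe_sigma, Set.mem_sigma_iff, Finset.coe_univ, Set.mem_univ, true_and,
        Finset.mem_coe, Finset.mem_offDiag, F, Finset.mem_filter, Finset.mem_univ]
      refine ⟨?_, ?_, fun e => hD d hx.1.2 a e.symm⟩
      · rw [mul_smul]
        conv_lhs => arg 2; rw [← h2]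
        exact hswap _ h1 a
      · rw [mul_smul, hswap d hx.1.2 a, h2]
    · rintro ⟨d, a⟩ _ ⟨d', a'⟩ _ e
      obtain ⟨e1, e2⟩ := Sigma.mk.inj_iff.1 e
      obtain ⟨ea, eb⟩ := Prod.ext_iff.1 (eq_of_heq e2)
      subst ea
      dsimp only at eb e1
      rw [eb] at e1
      rw [mul_left_cancel e1]
  -- equality in the Cameron--Cohen inequality
  have hsum : ∑ g : G, (F g).card = Fintype.card G ∨ IsEmpty Ω := by
    rcases isEmpty_or_nonempty Ω with h | h
    · exact Or.inr h
    refine Or.inl ?_
    have hb := MulAction.sum_card_fixedBy_eq_card_orbits_mul_card_group G Ω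
    haveI : Subsingleton (Quotient (MulAction.orbitRel G Ω)) :=
      ⟨fun x y => Quotient.inductionOn₂ x y fun a b => Quotient.sound (by
        obtain ⟨g, hg⟩ := htrans.exists_smul_eq b a
        exact ⟨g, hg⟩)⟩
    rw [show Fintype.card (Quotient (MulAction.orbitRel G Ω)) = 1 from
      Fintype.card_eq_one_iff.2 ⟨Quotient.mk _ h.some, fun y => Subsingleton.elim _ _⟩,
      one_mul] at hb
    rw [← hb]
    exact Finset.sum_congr rfl fun g _ => (Fintype.card_subtype _).symm
  rcases hsum with hsum | hemp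
  swap
  · refine Or.inl ⟨⟨⟨fun x y => ?_⟩⟩, fun g => ?_⟩ <;>
      exact FaithfulSMul.eq_of_smul_eq_smul (α := Ω) fun w => (IsEmpty.false w).elim
  have hfix : ∀ g : G, (F g).card ≤ 1 ∨ (F g).card = Fintype.card Ω := by
    intro g
    have hid : ∀ k : G, ((if (F k).card = 0 then Fintype.card Ω else 0 : ℕ) : ℤ) =
        (((F k).card * ((F k).card - 1) : ℕ) : ℤ) +
          (if (F k).card = 0 then 0 else ((((F k).card : ℤ) - 1) * ((Fintype.card Ω : ℤ) - (F k).card)))
          + (Fintype.card Ω : ℤ) * (1 - ((F k).card : ℤ)) := by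
      intro k
      split_ifs with h
      · simp [h]
      · push_cast [Nat.cast_sub (Nat.one_le_iff_ne_zero.2 h)]
        ring
    have hle := (Nat.cast_le (α := ℤ)).2 hinj
    rw [Nat.cast_sum, Nat.cast_sum, Finset.sum_congr rfl (fun k _ => hid k),
      Finset.sum_add_distrib, Finset.sum_add_distrib, ← Finset.mul_sum, Finset.sum_sub_distrib,
      ← Nat.cast_sum _ (fun x => (F x).card), hsum] at hle
    simp only [Finset.sum_const, Finset.card_univ, nsmul_eq_mul, mul_one, sub_self, mul_zero,
      add_zero, add_le_iff_nonpos_right] at hle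
    have hnn : ∀ k : G, (0 : ℤ) ≤
        if (F k).card = 0 then 0 else (((F k).card : ℤ) - 1) * ((Fintype.card Ω : ℤ) - (F k).card) := by
      intro k
      split_ifs with h
      · rfl
      · refine mul_nonneg (by omega) ?_
        have := Finset.card_le_univ (F k)
        omega
    have h0 := (Finset.sum_eq_zero_iff_of_nonneg (fun k _ => hnn k)).1
      (le_antisymm hle (Finset.sum_nonneg fun k _ => hnn k)) g (Finset.mem_univ g)
    by_cases h : (F g).card = 0
    · left; omega
    · rw [if_neg h] at h0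
      rcases mul_eq_zero.1 h0 with h' | h'
      · left; omega
      · right; omega
  have hsf : ∀ g : G, ∀ a b : Ω, a ≠ b → g • a = a → g • b = b → g = 1 := by
    intro g a b hab ha hb
    rcases hfix g with h | h
    · have : 1 < (F g).card := Finset.one_lt_card.2
        ⟨a, by simp [F, ha], b, by simp [F, hb], hab⟩
      omega
    · refine FaithfulSMul.eq_of_smul_eq_smul (α := Ω) fun w => ?_
      have := Finset.eq_univ_of_card _ h
      rw [one_smul]
      have hw : w ∈ F g := this ▸ Finset.mem_univ w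
      exact (Finset.mem_filter.1 hw).2
  have hmul : ∀ x y : G, (∀ w : Ω, x • w ≠ w) → (∀ w : Ω, y • w ≠ w) →
      x * y = 1 ∨ ∀ w : Ω, (x * y) • w ≠ w := by
    intro x y hx hy
    by_contra hc
    push Not at hc
    obtain ⟨hne, w, hw⟩ := hc
    refine hne (hsf (x * y) w (y • w) (fun e => hy w e.symm) hw ?_)
    have hx2 : ∀ v : Ω, x • x • v = v := fun v => by
      rw [← mul_smul, ← sq, ← hinv x hx, pow_orderOf_eq_one, one_smul]
    have hy2 : ∀ v : Ω, y • y • v = v := fun v => by
      rw [← mul_smul, ← sq, ← hinv y hy, pow_orderOf_eq_one, one_smul]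
    have hyw : y • w = x • w := by
      have := congrArg (x • ·) hw
      simpa [mul_smul, hx2] using this
    rw [mul_smul, hy2]
    exact hyw.symm
  have hsq : ∀ x : G, (x = 1 ∨ ∀ w : Ω, x • w ≠ w) → x ^ 2 = 1 := by
    rintro x (rfl | hx)
    · simp
    · rw [← hinv x hx, pow_orderOf_eq_one]
  have hcomm : ∀ x y : G, (x = 1 ∨ ∀ w : Ω, x • w ≠ w) → (y = 1 ∨ ∀ w : Ω, y • w ≠ w) →
      x * y = y * x := by
    intro x y hx hy
    have hxy : x * y = 1 ∨ ∀ w : Ω, (x * y) • w ≠ w := by
      rcases hx with rfl | hx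
      · rwa [one_mul]
      rcases hy with rfl | hy
      · rw [mul_one]; exact Or.inr hx
      exact hmul x y hx hy
    have h1 := hsq _ hxy
    have h2 := hsq _ hx
    have h3 := hsq _ hy
    rw [sq] at h1 h2 h3
    have e1 := eq_inv_of_mul_eq_one_left h1
    rw [mul_inv_rev, ← eq_inv_of_mul_eq_one_left h2, ← eq_inv_of_mul_eq_one_left h3] at e1
    exact e1
  by_cases hall : ∀ x : G, x = 1 ∨ ∀ w : Ω, x • w ≠ w
  · exact Or.inl ⟨⟨⟨fun x y => hcomm x y (hall x) (hall y)⟩⟩, fun g => hsq g (hall g)⟩
  push Not at hall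
  obtain ⟨x, hx1, a, hxa⟩ := hall
  obtain ⟨b, hab⟩ : ∃ b : Ω, b ≠ a := by
    by_contra hc
    push Not at hc
    exact hx1 (FaithfulSMul.eq_of_smul_eq_smul (α := Ω) fun w => by rw [hc w, hxa, one_smul])
  have hker : ∀ y : G, y ∈ Cfsg.frobeniusKernel (MulAction.stabilizer G a) →
      y = 1 ∨ ∀ w : Ω, y • w ≠ w := by
    rintro y (rfl | hy)
    · exact Or.inl rfl
    refine Or.inr fun w hw => ?_
    obtain ⟨g, rfl⟩ := htrans.exists_smul_eq a w
    refine hy g ?_
    rw [Subgroup.mem_pointwise_smul_iff_inv_smul_mem, MulAction.mem_stabilizer_iff,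
      ← map_inv, MulAut.smul_def, MulAut.conj_apply, inv_inv, mul_smul, mul_smul, hw,
      inv_smul_smul]
  refine Or.inr ⟨MulAction.stabilizer G a, ⟨fun hb => hx1 ?_, fun ht => ?_, fun g hg => ?_⟩,
    fun y hy => hsq y (hker y hy), fun y hy z hz => hcomm y z (hker y hy) (hker z hz)⟩
  · have : x ∈ MulAction.stabilizer G a := hxa
    rwa [hb, Subgroup.mem_bot] at this
  · obtain ⟨g, hg⟩ := htrans.exists_smul_eq a b
    have : g ∈ MulAction.stabilizer G a := ht ▸ Subgroup.mem_top g
    exact hab (hg ▸ this)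
  · rw [eq_bot_iff]
    rintro h ⟨h1, h2⟩
    refine Subgroup.mem_bot.2 (hsf h a (g • a) (fun e => hg e.symm) h1 ?_)
    obtain ⟨k, hk, rfl⟩ := h2
    simp only [MulDistribMulAction.toMonoidEnd_apply, MulDistribMulAction.toMonoidHom_apply,
      MulAut.smul_def, MulAut.conj_apply, mul_smul, inv_smul_smul]
    exact congrArg (g • ·) (MulAction.mem_stabilizer_iff.1 hk)

end Cfsg.Agent.S3555
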