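import Cfsg.Statements.S3556
import Cfsg.Agent.Lib.Recog.Derange
import Cfsg.Agent.Lib.Recog.Factor
import Mathlib.Tactic.Linarith

set_option autoImplicit false
open Cfsg

namespace Cfsg.Agent.S3556

/-- Let G act faithfully and primitively on a finite set with at least two points, and suppose that for some fixed prime p every element of G fixing no point has order a power of p. Then G is of affine type (it has a regular normal subgroup that is an elementary abelian r-group for some prime r) or almost simple (it has a non-abelian simple normal subgroup with trivial centralizer). -/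
theorem result {G Ω : Type*} [Group G] [Finite G] [MulAction G Ω] [FaithfulSMul G Ω] [Finite Ω]
    (hprim : MulAction.IsPreprimitive G Ω) (hΩ : 2 ≤ Nat.card Ω) (p : ℕ) (hp : p.Prime)
    (hder : ∀ g : G, (∀ ω : Ω, g • ω ≠ ω) → ∃ k : ℕ, orderOf g = p ^ k) :
    (∃ (N : Subgroup G) (r : ℕ), r.Prime ∧ N.Normal ∧ Cfsg.IsElementaryAbelian r N ∧
      MulAction.IsPretransitive N Ω ∧ ∀ a : Ω, MulAction.stabilizer N a = ⊥) ∨
    (∃ T : Subgroup G, T.Normal ∧ IsSimpleGroup ↥T ∧ ¬ IsMulCommutative ↥T ∧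
      Subgroup.centralizer (T : Set G) = ⊥) := by
  have : Nontrivial Ω := Finite.one_lt_card_iff_nontrivial.mp (by omega)
  obtain ⟨a⟩ := (inferInstance : Nonempty Ω)
  have : Nontrivial G := by
    obtain ⟨g, hg⟩ := CfsgLib.Recog.exists_derangement G Ω
    exact ⟨g, 1, fun e => hg a (by rw [e, one_smul])⟩
  obtain ⟨N, hN, hne, hmin⟩ := CfsgLib.Solvable.exists_minimal_normal (G := G)
  have affine : ∀ M : Subgroup G, M.Normal → M ≠ ⊥ →
      (∀ K : Subgroup G, K.Normal → K ≤ M → K = ⊥ ∨ K = M) → IsMulCommutative M →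
      ∃ (N : Subgroup G) (r : ℕ), r.Prime ∧ N.Normal ∧ Cfsg.IsElementaryAbelian r N ∧
        MulAction.IsPretransitive N Ω ∧ ∀ a : Ω, MulAction.stabilizer N a = ⊥ := by
    intro M hM h1 h2 h3
    obtain ⟨⟨r, hr, he⟩, ht, hs⟩ := CfsgLib.Recog.abelian_minimal_normal (Ω := Ω) h1 h2
    exact ⟨M, r, hr, hM, he, ht, hs⟩
  by_cases hab : IsMulCommutative N
  · exact Or.inl (affine N hN hne hmin hab)
  obtain ⟨T, hT⟩ := CfsgLib.Recog.exists_isFactor hN hne hmin hab
  rcases hT.almost_simple_or with h | hC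
  · exact Or.inr h
  have := CfsgLib.Perm.normal_isPretransitive (α := Ω) hne
  obtain ⟨x, hxT, hx⟩ := hT.exists_derangement (Ω := Ω) a
  have hTs := hT.simple
  have key : ¬ IsPGroup p (Subgroup.centralizer (T : Set G)) ∨ ∃ (N : Subgroup G) (r : ℕ),
      r.Prime ∧ N.Normal ∧ Cfsg.IsElementaryAbelian r N ∧
        MulAction.IsPretransitive N Ω ∧ ∀ a : Ω, MulAction.stabilizer N a = ⊥ := by
    by_cases hTn : ∀ g : G, CfsgLib.Recog.cj g T = T
    · have hn : T.Normal := ⟨fun y hy g => (hTn g).le (CfsgLib.Recog.conj_mem_cj hy)⟩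
      obtain ⟨M, hM, hM1, hMle, hMmin⟩ := CfsgLib.Solvable.exists_minimal_normal_le
        (N := Subgroup.centralizer (T : Set G)) inferInstance hC
      by_cases hMab : IsMulCommutative M
      · exact Or.inr (affine M hM hM1 hMmin hMab)
      refine Or.inl fun hp' => hMab ?_
      have : Fact p.Prime := ⟨hp⟩
      have : Group.IsNilpotent M := (hp'.to_le hMle).isNilpotent
      exact CfsgLib.Solvable.isMulCommutative_of_minimal_normal hM1 hMmin
    · push Not at hTn
      obtain ⟨g, hg⟩ := hTn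
      refine Or.inl fun hp' => CfsgLib.Recog.not_isPGroup_of_simple_nonabelian hT.nonabelian hp ?_
      exact (hp'.to_le ((hT.eq_or_le_centralizer g).resolve_left hg)).of_equiv
        (Subgroup.equivMapOfInjective T _ (MulAut.conj g).injective).symm
  refine key.elim (fun hnp => ?_) Or.inl
  exfalso
  obtain ⟨⟨y, hy⟩, r, hr, hrp, hyr⟩ := CfsgLib.Recog.exists_prime_orderOf_ne hp hnp
  rw [Subgroup.orderOf_mk] at hyr
  obtain ⟨k, hk⟩ := hder x hx
  have hcom : Commute x y := Subgroup.mem_centralizer_iff.mp hy x hxT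
  have hcop : (orderOf x).Coprime (orderOf y) := by
    rw [hk, hyr]
    exact Nat.Coprime.pow_left _ ((Nat.coprime_primes hp hr).mpr hrp.symm)
  have hord := hcom.orderOf_mul_eq_mul_orderOf_of_coprime hcop
  have hpow : (x * y) ^ r = x ^ r := by
    rw [hcom.mul_pow, ← hyr, pow_orderOf_eq_one, mul_one]
  have hd : ∀ ω : Ω, (x * y) • ω ≠ ω := by
    intro ω hω
    have h1 : x ^ r • ω = ω := by
      rw [← hpow]
      exact MulAction.mem_stabilizer_iff.mp (pow_mem (show x * y ∈ MulAction.stabilizer G ω from hω) r)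
    obtain ⟨m, hm⟩ := exists_pow_eq_self_of_coprime (x := x) (n := r) (by rw [← hyr]; exact hcop.symm)
    apply hx ω
    rw [← hm]
    exact MulAction.mem_stabilizer_iff.mp (pow_mem (show x ^ r ∈ MulAction.stabilizer G ω from h1) m)
  obtain ⟨j, hj⟩ := hder (x * y) hd
  rw [hord, hk, hyr] at hj
  have : r ∣ p ^ j := ⟨p ^ k, by rw [← hj, mul_comm]⟩
  exact hrp ((Nat.prime_dvd_prime_iff_eq hr hp).mp (hr.dvd_of_dvd_pow this))


end Cfsg.Agent.S3556
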