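import Cfsg.Statements.S3559
import Cfsg.Agent.Lib.Recog.SchurCyclic

set_option autoImplicit false
open Cfsg

namespace Cfsg.Agent.S3559

/-- Let G act faithfully and transitively on a finite set whose number of points n ≥ 2 is not a prime power, and suppose G has a cyclic subgroup acting regularly (transitively with trivial point stabilizers). Then G is imprimitive or doubly transitive. -/
theorem result {G Ω : Type*} [Group G] [Finite G] [MulAction G Ω] [FaithfulSMul G Ω] [Finite Ω]
    (htrans : MulAction.IsPretransitive G Ω) (hn : 2 ≤ Nat.card Ω) (hnp : ¬ IsPrimePow (Nat.card Ω))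
    (C : Subgroup G) (hcyc : IsCyclic ↥C) (hC : MulAction.IsPretransitive ↥C Ω ∧ ∀ a : Ω, MulAction.stabilizer ↥C a = ⊥) :
    ¬ MulAction.IsPreprimitive G Ω ∨ MulAction.IsMultiplyPretransitive G Ω 2 := by
  by_cases hprim : MulAction.IsPreprimitive G Ω
  swap
  · exact Or.inl hprim
  right
  obtain ⟨hCt, hCr⟩ := hC
  obtain ⟨a⟩ : Nonempty Ω := by
    by_contra h
    rw [not_nonempty_iff] at h
    simp at hn
  letI : CommGroup C := { (inferInstance : Group C) with
    mul_comm := fun x y => (IsCyclic.isMulCommutative (α := C)).is_comm.comm x y }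
  have hbij : Function.Bijective fun c : C => C.subtype c • a := by
    refine ⟨fun c d h => ?_, fun x => (MulAction.exists_smul_eq C a x)⟩
    have : d⁻¹ * c ∈ MulAction.stabilizer C a := by
      rw [MulAction.mem_stabilizer_iff, mul_smul, inv_smul_eq_iff]
      exact h
    rw [hCr a, Subgroup.mem_bot] at this
    exact (inv_mul_eq_one.1 this).symm
  have hcard : Nat.card C = Nat.card Ω := Nat.card_eq_of_bijective _ hbij
  haveI : IsCyclic C := hcyc
  exact CfsgLib.Recog.SchurCyclic.two_transitive C.subtype a hbij hprim (hcard ▸ hn) (hcard ▸ hnp)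

end Cfsg.Agent.S3559
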