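import Cfsg.Statements.S3560


set_option autoImplicit false
open Cfsg

namespace Cfsg.Agent.S3560

/-- Let K be a finite group isomorphic to a direct product of r ≥ 2 groups all of the same order m ≥ 3. Then K is not a B-group: there is a primitive but not doubly transitive permutation group (on some finite set) containing a regular subgroup isomorphic to K. -/
theorem result {K : Type*} [Group K] [Finite K] {ι : Type*} [Fintype ι] (F : ι → Type*) [∀ i, Group (F i)]
    (hr : 2 ≤ Fintype.card ι) (m : ℕ) (hm : 3 ≤ m) (hcard : ∀ i, Nat.card (F i) = m) (e : K ≃* (∀ i, F i)) :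
    ∃ (n : ℕ) (G R : Subgroup (Equiv.Perm (Fin n))), R ≤ G ∧ Nonempty (↥R ≃* K) ∧
      MulAction.IsPretransitive ↥R (Fin n) ∧ (∀ a : Fin n, MulAction.stabilizer ↥R a = ⊥) ∧
      MulAction.IsPreprimitive ↥G (Fin n) ∧ ¬ MulAction.IsMultiplyPretransitive ↥G (Fin n) 2 := by
  classical
  have hF : ∀ i, Nonempty (F i ≃ Fin m) := fun i => by
    have : Finite (F i) := Nat.finite_of_card_ne_zero (by rw [hcard i]; omega)
    exact ⟨(Finite.equivFin (F i)).trans (finCongr (hcard i))⟩
  let ε := fun i => (hF i).some
  let P := ι → Fin m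
  let n := Fintype.card P
  let η : Fin n ≃ P := (Fintype.equivFin P).symm
  let dist : P → P → ℕ := fun x y => (Finset.univ.filter fun i => x i ≠ y i).card
  -- permutations of the cube preserving the distance
  let G : Subgroup (Equiv.Perm (Fin n)) :=
    { carrier := {σ | ∀ a b, dist (η (σ a)) (η (σ b)) = dist (η a) (η b)}
      one_mem' := fun a b => rfl
      mul_mem' := fun {s t} hs ht a b => (hs (t a) (t b)).trans (ht a b)
      inv_mem' := fun {s} hs a b => by
        have h := hs (s⁻¹ a) (s⁻¹ b)
        rw [← Equiv.Perm.mul_apply, ← Equiv.Perm.mul_apply, mul_inv_cancel] at h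
        exact h.symm }
  -- coordinatewise permutations, and permutations of the coordinates
  have hco : ∀ τ : ι → Equiv.Perm (Fin m), ∃ σ ∈ G, ∀ a, η (σ a) = fun i => τ i (η a i) := by
    intro τ
    refine ⟨(η.trans (Equiv.piCongrRight τ)).trans η.symm, fun a b => ?_, fun a => by simp [Equiv.piCongrRight]; rfl⟩
    simp [dist, Equiv.piCongrRight]
  have hix : ∀ π : Equiv.Perm ι, ∃ σ ∈ G, ∀ a, η (σ a) = fun i => η a (π i) := by
    intro π
    refine ⟨(η.trans (Equiv.arrowCongr π.symm (Equiv.refl _))).trans η.symm, fun a b => ?_, fun a => by funext i; simp [Equiv.arrowCongr]⟩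
    simp only [dist]
    refine Finset.card_bijective π π.bijective fun i => ?_
    simp [Equiv.arrowCongr]
  -- the regular subgroup
  let act : K → Equiv.Perm (Fin n) := fun k => (η.trans (Equiv.piCongrRight fun i =>
    ((ε i).symm.trans (Equiv.mulLeft (e k i))).trans (ε i))).trans η.symm
  have hact : ∀ k a i, η (act k a) i = ε i (e k i * (ε i).symm (η a i)) := fun k a i => by
    simp [act, Equiv.piCongrRight]
  let ρ : K →* Equiv.Perm (Fin n) := MonoidHom.mk' act fun k l => by
    refine Equiv.ext fun a => η.injective (funext fun i => ?_)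
    rw [Equiv.Perm.mul_apply, hact, hact, hact, Equiv.symm_apply_apply, map_mul e, Pi.mul_apply, mul_assoc]
  have hfree : ∀ k a, act k a = a → k = 1 := by
    intro k a h
    apply e.injective
    funext i
    rw [map_one, Pi.one_apply]
    have := congrArg (ε i).symm (congrFun (congrArg η h) i)
    rw [hact, Equiv.symm_apply_apply] at this
    exact mul_eq_right.mp this
  have hρ : Function.Injective ρ := (injective_iff_map_eq_one ρ).mpr fun k hk =>
    hfree k (η.symm fun _ => ⟨0, by omega⟩) (by show ρ k _ = _; rw [hk]; rfl)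
  have hRtr : ∀ a b : Fin n, ∃ k, act k a = b := fun a b => by
    refine ⟨e.symm fun i => (ε i).symm (η b i) * ((ε i).symm (η a i))⁻¹, η.injective (funext fun i => ?_)⟩
    rw [hact, e.apply_symm_apply, inv_mul_cancel_right, Equiv.apply_symm_apply]
  have hRG : ρ.range ≤ G := by
    rintro _ ⟨k, rfl⟩ a b
    show dist (η (act k a)) (η (act k b)) = _
    simp [dist, hact]
  have : MulAction.IsPretransitive G (Fin n) := ⟨fun a b => by
    obtain ⟨k, hk⟩ := hRtr a b
    exact ⟨⟨ρ k, hRG ⟨k, rfl⟩⟩, hk⟩⟩
  refine ⟨n, G, ρ.range, hRG, ⟨(MonoidHom.ofInjective hρ).symm⟩, ⟨fun a b => ?_⟩, fun a => ?_, ⟨fun {B} hB => ?_⟩, ?_⟩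
  · obtain ⟨k, hk⟩ := hRtr a b
    exact ⟨⟨ρ k, k, rfl⟩, hk⟩
  · rw [Subgroup.eq_bot_iff_forall]
    rintro ⟨_, k, rfl⟩ hk
    exact Subtype.ext (by show ρ k = 1; rw [hfree k a hk, map_one])
  · by_cases hs : B.Subsingleton
    · exact Or.inl hs
    right
    obtain ⟨a, ha, b, hb, hab⟩ := Set.not_subsingleton_iff.mp hs
    have hmove : ∀ σ ∈ G, ∀ u v, u ∈ B → σ u ∈ B → v ∈ B → σ v ∈ B := fun σ hσ u v hu hσu hv => by
      have := hB.smul_eq_of_nonempty (g := (⟨σ, hσ⟩ : G)) ⟨σ u, ⟨u, hu, rfl⟩, hσu⟩
      exact this ▸ ⟨v, hv, rfl⟩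
    -- two points of the block at distance one
    obtain ⟨i₀, hi₀⟩ : ∃ i, η a i ≠ η b i := by
      by_contra h
      push Not at h
      exact hab (η.injective (funext h))
    obtain ⟨c, hc1, hc2⟩ : ∃ c : Fin m, c ≠ η a i₀ ∧ c ≠ η b i₀ := by
      obtain ⟨c, -, hc⟩ := Finset.exists_mem_notMem_of_card_lt_card (s := ({η a i₀, η b i₀} : Finset (Fin m)))
        (t := Finset.univ) (lt_of_le_of_lt Finset.card_le_two (by simp; omega))
      simp only [Finset.mem_insert, Finset.mem_singleton, not_or] at hc
      exact ⟨c, hc⟩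
    obtain ⟨σ, hσ, hσe⟩ := hco (Function.update (fun _ => 1) i₀ (Equiv.swap (η b i₀) c))
    have hσa : σ a = a := η.injective (funext fun i => by
      rw [hσe]
      by_cases hi : i = i₀
      · subst hi; simp [Equiv.swap_apply_of_ne_of_ne hi₀ hc1.symm]
      · simp [hi])
    set b' := σ b with hb'
    have hb'B : b' ∈ B := hmove σ hσ a b ha (by rw [hσa]; exact ha) hb
    have hd : ∀ i, η b i ≠ η b' i ↔ i = i₀ := fun i => by
      rw [hb', hσe]
      by_cases hi : i = i₀
      · subst hi; simpa using hc2.symm
      · simp [hi]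
    -- every change of one coordinate stays inside the block
    have hone : ∀ u ∈ B, ∀ v, ∀ j, (∀ i, η u i ≠ η v i → i = j) → v ∈ B := by
      intro u hu v j huv
      by_cases he : η u j = η v j
      · have : u = v := η.injective (funext fun i => by
          by_contra h
          exact h (huv i h ▸ he))
        exact this ▸ hu
      obtain ⟨σ₁, hσ₁, h1⟩ := hix (Equiv.swap i₀ j)
      obtain ⟨t, ht⟩ : ∃ t : ι → Equiv.Perm (Fin m), ∀ i, t i (η b (Equiv.swap i₀ j i)) = η u i ∧
          (t i (η b' (Equiv.swap i₀ j i)) = η v i) := by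
        have h2 : ∀ i, ∃ t : Equiv.Perm (Fin m), t (η b (Equiv.swap i₀ j i)) = η u i ∧ t (η b' (Equiv.swap i₀ j i)) = η v i := by
          intro i
          by_cases hij : i = j
          · rw [hij, Equiv.swap_apply_right]
            have hne : η b i₀ ≠ η b' i₀ := (hd i₀).mpr rfl
            refine ⟨(Equiv.swap (Equiv.swap (η b i₀) (η u j) (η b' i₀)) (η v j)) * Equiv.swap (η b i₀) (η u j), ?_, ?_⟩
            · rw [Equiv.Perm.mul_apply, Equiv.swap_apply_left, Equiv.swap_apply_of_ne_of_ne ?_ he]
              intro h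
              exact hne ((Equiv.swap (η b i₀) (η u j)).injective ((Equiv.swap_apply_left _ _).trans h))
            · rw [Equiv.Perm.mul_apply, Equiv.swap_apply_left]
          · have hne : Equiv.swap i₀ j i ≠ i₀ := fun h => hij ((Equiv.swap i₀ j).injective (h.trans (Equiv.swap_apply_right i₀ j).symm))
            have e1 : η b (Equiv.swap i₀ j i) = η b' (Equiv.swap i₀ j i) := by
              by_contra h; exact hne ((hd _).mp h)
            have e2 : η u i = η v i := by by_contra h; exact hij (huv i h)
            exact ⟨Equiv.swap (η b (Equiv.swap i₀ j i)) (η u i), Equiv.swap_apply_left _ _, by rw [← e1, ← e2, Equiv.swap_apply_left]⟩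
        choose t ht using h2
        exact ⟨t, ht⟩
      obtain ⟨σ₂, hσ₂, h2⟩ := hco t
      have e1 : (σ₂ * σ₁) b = u := η.injective (funext fun i => by rw [Equiv.Perm.mul_apply, h2, h1]; exact (ht i).1)
      have e2 : (σ₂ * σ₁) b' = v := η.injective (funext fun i => by rw [Equiv.Perm.mul_apply, h2, h1]; exact (ht i).2)
      exact e2 ▸ hmove _ (mul_mem hσ₂ hσ₁) b b' hb (by rw [e1]; exact hu) hb'B
    refine Set.eq_univ_of_forall fun v => ?_
    have key : ∀ s : Finset ι, η.symm (fun i => if i ∈ s then η v i else η a i) ∈ B := by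
      intro s
      induction s using Finset.induction_on with
      | empty =>
        rw [show (fun i => if i ∈ (∅ : Finset ι) then η v i else η a i) = η a from funext fun i => by simp, η.symm_apply_apply]
        exact ha
      | @insert j s hj ih =>
        refine hone _ ih _ j fun i hi => ?_
        by_contra hne
        simp [hne] at hi
    have := key Finset.univ
    rwa [show (fun i => if i ∈ (Finset.univ : Finset ι) then η v i else η a i) = η v from funext fun i => by simp, η.symm_apply_apply] at this
  · intro h2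
    rw [MulAction.is_two_pretransitive_iff] at h2
    obtain ⟨i, j, hij⟩ := Fintype.exists_pair_of_one_lt_card (show 1 < Fintype.card ι by omega)
    let z : Fin m := ⟨0, by omega⟩
    let o : Fin m := ⟨1, by omega⟩
    have hzo : z ≠ o := by simp [z, o, Fin.ext_iff]
    let x := η.symm fun _ => z
    let y := η.symm (Function.update (fun _ => z) i o)
    let w := η.symm (Function.update (Function.update (fun _ => z) i o) j o)
    have hxy : dist (η x) (η y) = 1 := by
      rw [Finset.card_eq_one]
      refine ⟨i, Finset.ext fun l => ?_⟩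
      by_cases hl : l = i <;> simp [x, y, hl, hzo]
    have hxw : 2 ≤ dist (η x) (η w) := by
      refine le_trans (Finset.card_pair hij).ge (Finset.card_le_card ?_)
      intro l hl
      simp only [Finset.mem_insert, Finset.mem_singleton] at hl
      rcases hl with rfl | rfl <;> simp [x, w, hij, hzo]
    have hne1 : x ≠ y := fun h => by rw [← h] at hxy; simp [dist] at hxy
    have hne2 : x ≠ w := fun h => by rw [← h] at hxw; simp [dist] at hxw
    obtain ⟨g, hgx, hgy⟩ := h2 hne1 hne2
    have := g.2 x y
    rw [show (g : Equiv.Perm (Fin n)) x = x from hgx, show (g : Equiv.Perm (Fin n)) y = w from hgy, hxy] at this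
    omega

end Cfsg.Agent.S3560
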