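import Cfsg.Statements.S3571
import Cfsg.Agent.Lib.Recog.AltSocleDerange

set_option autoImplicit false
open Cfsg

namespace Cfsg.Agent.S3571

/-- Let G be an almost simple group whose socle is an alternating group of degree m ≥ 5 (G has a normal subgroup T isomorphic to that alternating group with trivial centralizer), acting faithfully and primitively on a finite set Ω with at least two points, and let r be the largest prime divisor of the number of points. Then G contains an element of order r fixing no point. -/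
theorem result {G Ω : Type*} [Group G] [Finite G] [MulAction G Ω] [FaithfulSMul G Ω] [Finite Ω]
    (T : Subgroup G) (hT : T.Normal) (hTc : Subgroup.centralizer (T : Set G) = ⊥) (m : ℕ) (hm : 5 ≤ m)
    (eT : ↥T ≃* ↥(alternatingGroup (Fin m))) (hprim : MulAction.IsPreprimitive G Ω) (hΩ : 2 ≤ Nat.card Ω)
    (r : ℕ) (hr : r.Prime) (hrd : r ∣ Nat.card Ω) (hmax : ∀ s : ℕ, s.Prime → s ∣ Nat.card Ω → s ≤ r) :
    ∃ g : G, orderOf g = r ∧ ∀ ω : Ω, g • ω ≠ ω := by
  classical
  have := hprim.toIsPretransitive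
  have hne : Nontrivial Ω := Finite.one_lt_card_iff_nontrivial.1 (by omega)
  obtain ⟨ω⟩ := (inferInstance : Nonempty Ω)
  have hTne : T ≠ ⊥ := by
    rintro rfl
    have h1 := Nat.card_congr eT.toEquiv
    rw [Subgroup.card_bot] at h1
    have h2 := CfsgLib.Recog.AltSub.two_mul_card_alt (n := m) (by omega)
    have h3 : Nat.factorial 3 ≤ m.factorial := Nat.factorial_le (by omega)
    rw [← h1] at h2
    norm_num [Nat.factorial] at h3
    omega
  have hTtr : MulAction.IsPretransitive T Ω := by
    refine ⟨fun a b => ?_⟩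
    have hblock := MulAction.IsBlock.orbit_of_normal (N := T) a
    rcases hprim.isTrivialBlock_of_isBlock hblock with h | h
    · exfalso
      apply hTne
      have hsing : ∀ t : T, (t : G) • a = a := fun t => h ⟨t, rfl⟩ (MulAction.mem_orbit_self a)
      refine (Subgroup.eq_bot_iff_forall T).2 fun t ht => FaithfulSMul.eq_of_smul_eq_smul fun z : Ω => ?_
      obtain ⟨g, rfl⟩ := MulAction.exists_smul_eq G a z
      have h1 := hsing ⟨g⁻¹ * t * g, by simpa using hT.conj_mem t ht g⁻¹⟩
      rw [one_smul]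
      calc t • g • a = g • (g⁻¹ * t * g) • a := by simp [mul_smul]
        _ = g • a := by rw [h1]
    · exact (h ▸ Set.mem_univ b : b ∈ MulAction.orbit T a)
  obtain ⟨j, hj⟩ : ∃ j : T →* Equiv.Perm (Fin m), j = (alternatingGroup (Fin m)).subtype.comp eT.toMonoidHom :=
    ⟨_, rfl⟩
  have hjinj : Function.Injective j := hj ▸ (alternatingGroup (Fin m)).subtype_injective.comp eT.injective
  have hjval : ∀ t : T, j t = (eT t : Equiv.Perm (Fin m)) := fun t => by rw [hj]; rfl
  obtain ⟨H, hH⟩ : ∃ H, H = (MulAction.stabilizer T ω).map j := ⟨_, rfl⟩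
  have hHA : H ≤ alternatingGroup (Fin m) := by
    rw [hH]; rintro _ ⟨t, -, rfl⟩; rw [hjval]; exact (eT t).2
  have hn : Nat.card Ω * Nat.card H = Nat.card (alternatingGroup (Fin m)) := by
    rw [hH, Subgroup.card_map_of_injective hjinj, ← Nat.card_congr eT.toEquiv,
      ← MulAction.index_stabilizer_of_transitive (x := ω) (G := T), Subgroup.index_mul_card]
  have hHne : H ≠ alternatingGroup (Fin m) := by
    intro e
    rw [e] at hn
    have : Nat.card Ω = 1 := Nat.eq_of_mul_eq_mul_right Nat.card_pos (hn.trans (one_mul _).symm)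
    omega
  have hint : 2 * r ≤ m → ¬ MulAction.IsPretransitive H (Fin m) → H = ⊥ ∨ CfsgLib.Recog.AltDerange.SetHint H r := by
    intro hsmall htr
    by_cases h6 : m = 6
    · subst h6
      exact Or.inr (CfsgLib.Recog.AltDerange.setHint_six hHA hn hmax hr hsmall htr)
    let ψ := MulEquiv.ofBijective _ (Cfsg.Agent.S2119.result m (by omega) h6)
    let ι : G →* Equiv.Perm (Fin m) := ψ.symm.toMonoidHom.comp
      ((MulAut.congr eT).toMonoidHom.comp MulAut.conjNormal)
    have hιT : ∀ t : T, ι t = j t := by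
      intro t
      rw [hjval]
      refine (MulEquiv.symm_apply_eq ψ).2 (MulEquiv.ext fun a => Subtype.ext ?_)
      show (eT ((MulAut.conjNormal (t : G)) (eT.symm a)) : Equiv.Perm (Fin m)) =
        (MulAut.conjNormal (eT t : Equiv.Perm (Fin m)) a : Equiv.Perm (Fin m))
      rw [MulAut.conjNormal_apply]
      have e1 : (MulAut.conjNormal (t : G)) (eT.symm a) = t * eT.symm a * t⁻¹ := Subtype.ext (by
        rw [MulAut.conjNormal_apply]; rfl)
      rw [e1, map_mul, map_mul, map_inv, MulEquiv.apply_symm_apply]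
      rfl
    refine CfsgLib.Recog.AltDerange.setHint_of_maximal hm hHA (fun S hS hAS => ?_) hn hrd hmax htr
    have hco := (MulAction.isCoatom_stabilizer_iff_preprimitive G ω).2 hprim
    have hle : MulAction.stabilizer G ω ≤ S.comap ι := by
      intro x hx
      refine hS ?_
      rw [Subgroup.mem_normalizer_iff_map_conj_eq, hH]
      ext a
      simp only [Subgroup.mem_map]
      constructor
      · rintro ⟨b, ⟨t, ht, rfl⟩, rfl⟩
        refine ⟨⟨x * t * x⁻¹, hT.conj_mem _ t.2 x⟩, ?_, ?_⟩
        · show (x * (t : G) * x⁻¹) • ω = ω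
          rw [mul_smul, mul_smul, MulAction.mem_stabilizer_iff.1 (inv_mem hx),
            (show (t : G) • ω = ω from ht), MulAction.mem_stabilizer_iff.1 hx]
        · rw [← hιT, ← hιT, map_mul, map_mul, map_inv]
          exact (MulAut.conj_apply _ _).symm
      · rintro ⟨t, ht, rfl⟩
        refine ⟨j ⟨x⁻¹ * t * x, by simpa using hT.conj_mem _ t.2 x⁻¹⟩, ⟨_, ?_, rfl⟩, ?_⟩
        · show (x⁻¹ * (t : G) * x) • ω = ω
          rw [mul_smul, mul_smul, MulAction.mem_stabilizer_iff.1 hx, (show (t : G) • ω = ω from ht),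
            MulAction.mem_stabilizer_iff.1 (inv_mem hx)]
        · rw [← hιT, ← hιT]
          show ι x * ι (x⁻¹ * (t : G) * x) * (ι x)⁻¹ = ι (t : G)
          simp only [map_mul, map_inv]
          group
    rcases hco.le_iff.1 hle with h | h
    · exfalso
      refine hAS fun a ha => ?_
      have hh : (((eT.symm ⟨a, ha⟩ : T) : G)) ∈ S.comap ι := h ▸ Subgroup.mem_top _
      rwa [Subgroup.mem_comap, hιT, hjval, MulEquiv.apply_symm_apply] at hh
    · rintro a ⟨haS, haA⟩
      rw [hH]
      refine ⟨eT.symm ⟨a, haA⟩, ?_, by rw [hjval, MulEquiv.apply_symm_apply]⟩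
      have h1 : ((eT.symm ⟨a, haA⟩ : T) : G) ∈ MulAction.stabilizer G ω := by
        rw [← h, Subgroup.mem_comap, hιT, hjval, MulEquiv.apply_symm_apply]
        exact haS
      exact h1
  obtain ⟨g, hgA, hgo, hgH⟩ := CfsgLib.Recog.AltDerange.exists_derangement hm hHA hHne hn hr hrd hmax hint
  refine ⟨(eT.symm ⟨g, hgA⟩ : T), ?_, fun z hz => ?_⟩
  · rw [Subgroup.orderOf_coe, MulEquiv.orderOf_eq, Subgroup.orderOf_mk, hgo]
  · obtain ⟨t, rfl⟩ := MulAction.exists_smul_eq T ω z
    refine hgH (j t)⁻¹ ?_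
    rw [hH]
    refine ⟨t⁻¹ * eT.symm ⟨g, hgA⟩ * t, ?_, ?_⟩
    · show ((t⁻¹ * eT.symm ⟨g, hgA⟩ * t : T)) • ω = ω
      rw [mul_smul, mul_smul, inv_smul_eq_iff]
      exact hz
    · rw [map_mul, map_mul, map_inv, inv_inv, hjval (eT.symm ⟨g, hgA⟩), MulEquiv.apply_symm_apply]


end Cfsg.Agent.S3571
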