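import Cfsg.Statements.S3572
import Cfsg.Agent.Lib.PLocal.DihAction

set_option autoImplicit false
open Cfsg

namespace Cfsg.Agent.S3572

/-- A finite primitive permutation group containing a dihedral subgroup that acts regularly (transitively with trivial point stabilizers) is doubly transitive. -/
theorem result {G Ω : Type*} [Group G] [Finite G] [MulAction G Ω] [FaithfulSMul G Ω] [Finite Ω]
    (hprim : MulAction.IsPreprimitive G Ω) (D : Subgroup G) (m : ℕ) (hD : Nonempty (↥D ≃* DihedralGroup m))
    (hDreg : MulAction.IsPretransitive ↥D Ω ∧ ∀ a : Ω, MulAction.stabilizer ↥D a = ⊥) :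
    MulAction.IsMultiplyPretransitive G Ω 2 := by
  classical
  obtain ⟨htr, hfree⟩ := hDreg
  obtain ⟨e⟩ := hD
  by_cases hn : Nat.card Ω ≤ 2
  · -- at most two points
    haveI := hprim.toIsPretransitive
    haveI := Fintype.ofFinite Ω
    rw [MulAction.is_two_pretransitive_iff]
    intro x₁ y₁ x₂ y₂ hx hy
    obtain ⟨g, hg⟩ := MulAction.exists_smul_eq G x₁ x₂
    refine ⟨g, hg, ?_⟩
    by_contra hne
    have h1 : g • y₁ ≠ x₂ := fun h => hx (smul_left_cancel g (hg.trans h.symm))
    have h3 : ({x₂, y₂, g • y₁} : Finset Ω).card = 3 := by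
      rw [Finset.card_insert_of_notMem (by simp [hy, h1.symm]),
        Finset.card_insert_of_notMem (by simpa using (Ne.symm hne)), Finset.card_singleton]
    have := Finset.card_le_univ ({x₂, y₂, g • y₁} : Finset Ω)
    rw [Nat.card_eq_fintype_card] at hn
    omega
  obtain ⟨a⟩ : Nonempty Ω := by
    by_contra h
    rw [not_nonempty_iff] at h
    simp at hn
  let φ : DihedralGroup m →* G := D.subtype.comp e.symm.toMonoidHom
  have hbij : Function.Bijective fun c : DihedralGroup m => φ c • a := by
    have h1 : Function.Bijective fun c : D => c • a := by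
      refine ⟨fun c d h => ?_, fun x => MulAction.exists_smul_eq D a x⟩
      have : d⁻¹ * c ∈ MulAction.stabilizer D a := by
        rw [MulAction.mem_stabilizer_iff, mul_smul, inv_smul_eq_iff]
        exact h
      rw [hfree a, Subgroup.mem_bot] at this
      exact (inv_mul_eq_one.1 this).symm
    exact h1.comp e.symm.bijective
  haveI : Finite (DihedralGroup m) := Finite.of_equiv _ e.toEquiv
  have hm : m ≠ 0 := by
    rintro rfl
    exact not_finite (DihedralGroup 0)
  haveI : NeZero m := ⟨hm⟩
  have hm1 : m ≠ 1 := by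
    rintro rfl
    exact hn (le_of_eq (by rw [← Nat.card_eq_of_bijective _ hbij, DihedralGroup.nat_card]))
  haveI : Nontrivial (Multiplicative (ZMod m)) := by
    haveI : Fact (1 < m) := ⟨by omega⟩
    infer_instance
  let ι : Multiplicative (ZMod m) →* DihedralGroup m :=
    { toFun := fun c => DihedralGroup.r c.toAdd
      map_one' := rfl
      map_mul' := fun c d => (DihedralGroup.r_mul_r c.toAdd d.toAdd).symm }
  refine CfsgLib.PLocal.Dih.Action.two_transitive φ a hbij ι (DihedralGroup.sr 0) ?_ ?_ ?_ ?_ ?_ hprim
    inferInstance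
  · intro c d h
    exact Multiplicative.toAdd.injective (DihedralGroup.r.inj h)
  · exact DihedralGroup.sr_mul_self 0
  · intro c
    show DihedralGroup.sr 0 * DihedralGroup.r c.toAdd * DihedralGroup.sr 0 =
      DihedralGroup.r (c⁻¹).toAdd
    simp
  · rintro (i | i)
    · exact ⟨Multiplicative.ofAdd i, Or.inl rfl⟩
    · exact ⟨Multiplicative.ofAdd (-i), Or.inr (show DihedralGroup.sr i = DihedralGroup.r (-i) * DihedralGroup.sr 0 by simp)⟩
  · intro c h
    simp [ι] at h

end Cfsg.Agent.S3572
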