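import Cfsg.Statements.S3573


set_option autoImplicit false
open Cfsg

namespace Cfsg.Agent.S3573

/-- A permutation preserving a set of size `k`, read from its cycle type. -/
theorem fix_iff_mod (n k r : ℕ) (hr : r.Prime) (hrn : r ≤ n) :
    (∀ σ : Equiv.Perm (Fin n), orderOf σ = r → ∃ s : Finset (Fin n), s.card = k ∧ s.image σ = s) ↔
      (k ≤ n ∧ k % r ≤ n % r) := by
  classical
  constructor
  · intro h
    have hc : 1 ≤ n / r := Nat.one_le_iff_ne_zero.mpr (Nat.div_pos hrn hr.pos).ne'
    obtain ⟨σ, hσ⟩ := (Equiv.Perm.exists_with_cycleType_iff (α := Fin n) (m := Multiset.replicate (n / r) r)).mpr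
      ⟨by rw [Multiset.sum_replicate, smul_eq_mul, Fintype.card_fin]; exact Nat.div_mul_le_self n r,
        fun a ha => (Multiset.eq_of_mem_replicate ha) ▸ hr.two_le⟩
    have ho : orderOf σ = r := by
      rw [← Equiv.Perm.lcm_cycleType, hσ]
      obtain ⟨j, hj⟩ : ∃ j, n / r = j + 1 := ⟨n / r - 1, by omega⟩
      rw [hj, Multiset.replicate_succ, Multiset.lcm_cons]
      refine Nat.lcm_eq_left (Multiset.lcm_dvd.mpr fun x hx => (Multiset.eq_of_mem_replicate hx) ▸ dvd_rfl)
    obtain ⟨s, hs, hsσ⟩ := h σ ho
    have hkn : k ≤ n := hs ▸ (Finset.card_le_univ s).trans (by simp)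
    refine ⟨hkn, ?_⟩
    -- the points of `s` moved by `σ` come in multiples of `r`
    have hmv : ∀ x, x ∈ s → σ x ∈ s := fun x hx => hsσ ▸ Finset.mem_image_of_mem σ hx
    have hiff : ∀ x, x ∈ s ↔ σ x ∈ s := fun x => ⟨hmv x, fun hx => by
      rw [← hsσ] at hx
      obtain ⟨y, hy, hyx⟩ := Finset.mem_image.mp hx
      rwa [← σ.injective hyx]⟩
    let τ := σ.subtypePerm (p := fun x => x ∈ s) (fun x => (hiff x).symm)
    have hdvd : r ∣ τ.support.card := by
      rw [← Equiv.Perm.sum_cycleType]
      refine Multiset.dvd_sum fun x hx => ?_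
      have h1 : x ∣ orderOf τ := Equiv.Perm.dvd_of_mem_cycleType hx
      have h2 : orderOf τ ∣ r := orderOf_dvd_of_pow_eq_one (by
        ext y
        simp [τ, Equiv.Perm.subtypePerm_pow, ← ho, pow_orderOf_eq_one])
      rcases (Nat.dvd_prime hr).mp (h1.trans h2) with e | e
      · exact absurd e (Nat.ne_of_gt (Equiv.Perm.one_lt_of_mem_cycleType hx))
      · exact e ▸ dvd_rfl
    have hsupp : σ.support.card = n / r * r := by
      rw [← Equiv.Perm.sum_cycleType, hσ, Multiset.sum_replicate, smul_eq_mul]
    have hfix : (s.filter fun x => σ x = x).card ≤ n % r := by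
      have h1 : (Finset.univ.filter fun x => σ x = x).card = n % r := by
        have h2 : σ.supportᶜ = Finset.univ.filter fun x => σ x = x := by ext x; simp
        rw [← h2, Finset.card_compl, hsupp, Fintype.card_fin]
        have := Nat.div_add_mod n r
        rw [mul_comm]
        omega
      exact h1 ▸ Finset.card_le_card (Finset.filter_subset_filter _ (Finset.subset_univ s))
    have hsplit : k = τ.support.card + (s.filter fun x => σ x = x).card := by
      rw [← hs, ← Finset.card_filter_add_card_filter_not (s := s) (p := fun x => σ x = x), add_comm]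
      congr 1
      rw [← Finset.card_map ⟨Subtype.val, Subtype.val_injective⟩ (s := τ.support)]
      congr 1
      ext x
      simp [τ, Subtype.ext_iff, and_comm]
    obtain ⟨c, hc'⟩ := hdvd
    rw [hsplit, hc', Nat.mul_add_mod]
    exact (Nat.mod_le _ _).trans hfix
  · rintro ⟨hkn, hmod⟩ σ hσ
    -- choose whole cycles and fixed points
    have hct : ∀ x ∈ σ.cycleType, x = r := fun x hx => by
      rcases (Nat.dvd_prime hr).mp (hσ ▸ Equiv.Perm.dvd_of_mem_cycleType hx) with e | e
      · exact absurd e (Nat.ne_of_gt (Equiv.Perm.one_lt_of_mem_cycleType hx))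
      · exact e
    have hcard : ∀ f ∈ σ.cycleFactorsFinset, f.support.card = r := fun f hf => hct _ (by
      rw [Equiv.Perm.cycleType_def]
      exact Multiset.mem_map.mpr ⟨f, hf, rfl⟩)
    have hdisj : (σ.cycleFactorsFinset : Set (Equiv.Perm (Fin n))).PairwiseDisjoint
        (fun f => f.support) := fun a ha b hb hab =>
      (Equiv.Perm.cycleFactorsFinset_pairwise_disjoint σ ha hb hab).disjoint_support
    set c := σ.cycleFactorsFinset.card with hc
    have hsum : σ.support.card = c * r := by
      rw [← Equiv.Perm.sum_cycleType, Equiv.Perm.cycleType_def]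
      show ∑ f ∈ σ.cycleFactorsFinset, f.support.card = _
      rw [Finset.sum_congr rfl hcard, Finset.sum_const, smul_eq_mul]
    have hcn : c * r ≤ n := hsum ▸ (Finset.card_le_univ _).trans (by simp)
    set a := min c (k / r) with ha
    obtain ⟨S, hS, hSa⟩ := Finset.exists_subset_card_eq (s := σ.cycleFactorsFinset) (n := a) (min_le_left _ _)
    have har : a * r ≤ k := (Nat.mul_le_mul_right r (min_le_right _ _)).trans (Nat.div_mul_le_self k r)
    have hroom : k - a * r ≤ (σ.supportᶜ).card := by
      rw [Finset.card_compl, hsum, Fintype.card_fin]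
      rcases le_total c (k / r) with h | h
      · rw [ha, min_eq_left h]; omega
      · rw [ha, min_eq_right h]
        have e1 := Nat.div_add_mod k r
        have e2 : c * r ≤ n / r * r :=
          Nat.mul_le_mul_right r ((Nat.le_div_iff_mul_le hr.pos).mpr hcn)
        have e3 := Nat.div_add_mod n r
        rw [mul_comm] at e1 e3
        omega
    obtain ⟨F, hF, hFk⟩ := Finset.exists_subset_card_eq hroom
    have hSd : (S : Set (Equiv.Perm (Fin n))).PairwiseDisjoint (fun f => f.support) :=
      hdisj.subset (Finset.coe_subset.mpr hS)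
    have hdisjF : Disjoint (S.biUnion fun f => f.support) F := by
      refine Disjoint.mono_right hF (Finset.disjoint_left.mpr fun x hx hx' => ?_)
      obtain ⟨f, hf, hxf⟩ := Finset.mem_biUnion.mp hx
      exact Finset.mem_compl.mp hx' (Equiv.Perm.mem_cycleFactorsFinset_support_le (hS hf) hxf)
    refine ⟨(S.biUnion fun f => f.support) ∪ F, ?_, ?_⟩
    · rw [Finset.card_union_of_disjoint hdisjF, Finset.card_biUnion hSd,
        Finset.sum_congr rfl (fun f hf => hcard f (hS hf)), Finset.sum_const, smul_eq_mul, hSa, hFk]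
      omega
    · refine Finset.eq_of_subset_of_card_le (fun x hx => ?_) (by rw [Finset.card_image_of_injective _ σ.injective])
      obtain ⟨y, hy, rfl⟩ := Finset.mem_image.mp hx
      rcases Finset.mem_union.mp hy with hy | hy
      · obtain ⟨f, hf, hyf⟩ := Finset.mem_biUnion.mp hy
        have e : f y = σ y := (Equiv.Perm.mem_cycleFactorsFinset_iff.mp (hS hf)).2 y hyf
        exact Finset.mem_union_left _ (Finset.mem_biUnion.mpr ⟨f, hf, e ▸ Equiv.Perm.apply_mem_support.mpr hyf⟩)
      · have e : σ y = y := Equiv.Perm.notMem_support.mp (Finset.mem_compl.mp (hF hy))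
        rw [e]
        exact Finset.mem_union_right _ hy

/-- Let 1 ≤ k with 2k < n and consider the symmetric group of degree n acting on the k-subsets of an n-set. Let r be a prime dividing the number C(n,k) of k-subsets. If r is odd, then every permutation of order r fixes some k-subset if and only if r ≤ k and the remainder of k modulo r is at most the remainder of n modulo r. If r = 2, then every involution fixes some k-subset if and only if k is even or n is odd. -/
theorem result (n k : ℕ) (hk : 1 ≤ k) (hkn : 2 * k < n) (r : ℕ) (hr : r.Prime) (hrd : r ∣ Nat.choose n k) :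
    (r ≠ 2 → ((∀ σ : Equiv.Perm (Fin n), orderOf σ = r → ∃ s : Finset (Fin n), s.card = k ∧ s.image σ = s) ↔
      (r ≤ k ∧ k % r ≤ n % r))) ∧
    (r = 2 → ((∀ σ : Equiv.Perm (Fin n), orderOf σ = 2 → ∃ s : Finset (Fin n), s.card = k ∧ s.image σ = s) ↔
      (Even k ∨ Odd n))) := by
  have : Fact r.Prime := ⟨hr⟩
  have hrn : r ≤ n := by
    by_contra h
    have h1 : r ∣ n.factorial := hrd.trans ⟨k.factorial * (n - k).factorial, by
      rw [← Nat.choose_mul_factorial_mul_factorial (show k ≤ n by omega), mul_assoc]⟩
    have := hr.dvd_factorial.mp h1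
    omega
  refine ⟨fun hr2 => ?_, fun hr2 => ?_⟩
  · rw [fix_iff_mod n k r hr hrn]
    refine ⟨fun h => ⟨?_, h.2⟩, fun h => ⟨by omega, h.2⟩⟩
    by_contra hlt
    have hk' : k < r := by omega
    have hmod : k % r = k := Nat.mod_eq_of_lt hk'
    have hl := Choose.choose_modEq_choose_mod_mul_choose_div_nat (p := r) (n := n) (k := k)
    rw [Nat.div_eq_of_lt hk', Nat.choose_zero_right, mul_one] at hl
    have h0 : Nat.choose (n % r) (k % r) ≡ 0 [MOD r] := hl.symm.trans (Nat.modEq_zero_iff_dvd.mpr hrd)
    have hd := Nat.modEq_zero_iff_dvd.mp h0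
    have hlt' : n % r < r := Nat.mod_lt _ hr.pos
    have h1 : r ∣ (n % r).factorial := hd.trans ⟨(k % r).factorial * (n % r - k % r).factorial, by
      rw [← Nat.choose_mul_factorial_mul_factorial h.2, mul_assoc]⟩
    have := hr.dvd_factorial.mp h1
    omega
  · subst hr2
    rw [fix_iff_mod n k 2 hr hrn, Nat.even_iff, Nat.odd_iff]
    omega

end Cfsg.Agent.S3573
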