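import Cfsg.Statements.S3575
import Cfsg.Agent.Lib.Recog.FixedPartition
import Mathlib.Combinatorics.Enumerative.Bell

set_option autoImplicit false
open Cfsg

namespace Cfsg.Agent.S3575

/-- Let a, b ≥ 2 and consider the symmetric group of degree a·b acting on the partitions of an (a·b)-set into b parts of size a (encoded as maps onto a b-element set all of whose fibres have a elements; a permutation fixes such a partition when it permutes the fibres). Let r be a prime dividing the number (ab)!/((a!)^b·b!) of such partitions, and let ℓ and k be the remainders of a and b modulo r. Then every permutation of order r fixes some such partition if and only if r ≤ a and one of the following holds: ℓ = 0; or k = 0 and ℓ = 1; or ℓ and k are non-zero, k·ℓ < r, and either b < r or (k + r)·ℓ ≤ k·a + r. -/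
theorem result (a b : ℕ) (ha : 2 ≤ a) (hb : 2 ≤ b) (r : ℕ) (hr : r.Prime)
    (hrd : r ∣ (a * b).factorial / (a.factorial ^ b * b.factorial)) :
    (∀ σ : Equiv.Perm (Fin (a * b)), orderOf σ = r →
        ∃ f : Fin (a * b) → Fin b, (∀ j : Fin b, Nat.card {x : Fin (a * b) // f x = j} = a) ∧
          ∃ π : Equiv.Perm (Fin b), ∀ x : Fin (a * b), f (σ x) = π (f x)) ↔
      (r ≤ a ∧ (a % r = 0 ∨ (b % r = 0 ∧ a % r = 1) ∨
        (a % r ≠ 0 ∧ b % r ≠ 0 ∧ (b % r) * (a % r) < r ∧ (b < r ∨ (b % r + r) * (a % r) ≤ (b % r) * a + r)))) := by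
  have hle : r ≤ a * b := by
    have h1 := Nat.uniformBell_mul_eq b (show a ≠ 0 by omega)
    rw [mul_comm b a] at h1
    rw [← h1, mul_assoc, Nat.mul_div_cancel _ (Nat.mul_pos (pow_pos (Nat.factorial_pos a) b) (Nat.factorial_pos b))] at hrd
    exact (hr.dvd_factorial).1 (h1 ▸ Dvd.dvd.mul_right (hrd.mul_right _) _)
  exact CfsgLib.Recog.FixedPartition.main hr ha hb hle

end Cfsg.Agent.S3575
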