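import Cfsg.Statements.S3583
import Cfsg.Agent.Lib.Recog.ClassPSL.Main
import Cfsg.Agent.Lib.Recog.ClassPSL.Even
import Cfsg.Agent.Lib.Recog.ClassPSL.Split
import Cfsg.Agent.S2507

set_option autoImplicit false
open Cfsg

namespace Cfsg.Agent.S3583

/-- Let F be a finite field with q elements, where either q is even and q > 2, or q is odd and q ≥ 7, and let G be a finite group whose set of conjugacy class sizes equals that of PSL(2,F). Then G is the direct product of a normal subgroup isomorphic to PSL(2,F) and a central (hence abelian) subgroup: there are subgroups N and A of G with N normal and isomorphic to PSL(2,F), A contained in the centre, N ∩ A = 1 and NA = G. -/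
theorem result {F : Type*} [Field F] [Fintype F]
    (hq : (2 ∣ Fintype.card F ∧ 2 < Fintype.card F) ∨ (¬ 2 ∣ Fintype.card F ∧ 7 ≤ Fintype.card F))
    {G : Type*} [Group G] [Finite G]
    (h : Set.range (fun g : G => (Subgroup.centralizer ({g} : Set G)).index) = Set.range (fun g : (Matrix.ProjectiveSpecialLinearGroup (Fin 2) F) => (Subgroup.centralizer ({g} : Set (Matrix.ProjectiveSpecialLinearGroup (Fin 2) F))).index)) :
    ∃ N A : Subgroup G, N.Normal ∧ A ≤ Subgroup.center G ∧ N ⊓ A = ⊥ ∧ N ⊔ A = ⊤ ∧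
      Nonempty (N ≃* Matrix.ProjectiveSpecialLinearGroup (Fin 2) F) := by
  have key : CfsgLib.Recog.ClassPSL.QuotIsPSL G (Fintype.card F) := by
    rcases hq with ⟨h2, h3⟩ | ⟨hodd, h7⟩
    · obtain ⟨p, k, hp, hk, hpk⟩ := (isPrimePow_nat_iff _).1 (FiniteField.isPrimePow_card F)
      obtain rfl : p = 2 := ((Nat.prime_dvd_prime_iff_eq Nat.prime_two hp).1
        (Nat.prime_two.dvd_of_dvd_pow (hpk ▸ h2))).symm
      have hk2 : 2 ≤ k := by
        by_contra hlt
        obtain rfl : k = 1 := by omega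
        omega
      rw [← hpk]
      refine CfsgLib.Recog.ClassPSL.evenCase G k hk2 (h.trans ?_)
      rw [hpk]
      exact Cfsg.Agent.S2507.result h2 (hpk ▸ (Nat.pow_le_pow_right two_pos hk2 : 2 ^ 2 ≤ 2 ^ k))
    · obtain ⟨a, b, hs⟩ := CfsgLib.Recog.ClassPSL.exists_sizes hodd h7 h
      exact CfsgLib.Recog.ClassPSL.oddCase hs
  obtain ⟨N, A, hN, hA, hNA, hsup, ⟨e⟩⟩ := CfsgLib.Recog.ClassPSL.centreSplits G (Fintype.card F)
    (by rcases hq with ⟨h2, h3⟩ | ⟨-, h7⟩ <;> omega) key
  obtain ⟨e'⟩ := key.equiv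
  exact ⟨N, A, hN, hA, hNA, hsup, ⟨e.trans e'⟩⟩

end Cfsg.Agent.S3583
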