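import Cfsg.Statements.S3592
import Cfsg.Agent.Lib.Recog.OrderM11Data
import Mathlib.Tactic

set_option autoImplicit false
open Cfsg Subgroup CfsgLib.Recog.OrderM11Data

namespace Cfsg.Agent.S3592

/-- Let M be the Mathieu group M₁₁ (order 7920). If a finite group G has the same order as M and the same set of values of the function 'number of elements of order n' (taken over the element orders n that occur), then G is isomorphic to M. -/
theorem result {G : Type*} [Group G] [Finite G]
    (hcard : Nat.card G = Nat.card ↥Cfsg.Spor.M11)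
    (hnse : {c : ℕ | 0 < c ∧ ∃ n : ℕ, c = Nat.card {g : G // orderOf g = n}} =
      {c : ℕ | 0 < c ∧ ∃ n : ℕ, c = Nat.card {g : ↥Cfsg.Spor.M11 // orderOf g = n}}) :
    Nonempty (G ≃* ↥Cfsg.Spor.M11) := by
  have hsimp := CfsgLib.Golay.isSimple_sporM11
  have hM := CfsgLib.Golay.card_sporM11
  rw [hM] at hcard
  have hshape : ∀ n, 0 < Nat.card {g : G // orderOf g = n} →
      Nat.card {g : G // orderOf g = n} = 1 ∨ 55 ∣ Nat.card {g : G // orderOf g = n} ∨
        720 ∣ Nat.card {g : G // orderOf g = n} ∨ 1584 ∣ Nat.card {g : G // orderOf g = n} := by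
    intro n hn
    obtain ⟨-, m, hm⟩ := (Set.ext_iff.1 hnse (Nat.card {g : G // orderOf g = n})).1 ⟨hn, n, rfl⟩
    rw [hm]
    exact count_shape hM m
  have hpos : ∀ p : ℕ, p.Prime → p ∣ 7920 → 0 < Nat.card {g : G // orderOf g = p} := by
    intro p hp hpd
    have : Fact p.Prime := ⟨hp⟩
    obtain ⟨g, hg⟩ := exists_prime_orderOf_dvd_card' (G := G) p (hcard ▸ hpd)
    have : Nonempty {g : G // orderOf g = p} := ⟨⟨g, hg⟩⟩
    exact Nat.card_pos
  have h11 : Fact (Nat.Prime 11) := ⟨by norm_num⟩
  have h5 : Fact (Nat.Prime 5) := ⟨by norm_num⟩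
  have hn11 := card_sylow_eleven hcard (hshape 11 (hpos 11 h11.out (by norm_num)))
  have hn5 := card_sylow_five hcard (hshape 5 (hpos 5 h5.out (by norm_num)))
  refine iso_M11 hcard (fun x hx => ?_) hn11
  let P : Sylow 11 G := Sylow.ofCard (zpowers x) (by
    obtain ⟨Q⟩ : Nonempty (Sylow 11 G) := inferInstance
    rw [Nat.card_zpowers, hx]
    exact (CfsgLib.Transfer.card_sylow_eq_prime Q (by rw [hcard]; norm_num)
      (by rw [hcard]; norm_num)).symm.trans Q.card_eq_multiplicity)
  have hN : Nat.card (normalizer (P : Set G)) = 55 := by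
    have h := (normalizer (P : Set G)).index_mul_card
    rw [← P.card_eq_index_normalizer, hn11, hcard] at h
    omega
  have hle : centralizer ({x} : Set G) ≤ normalizer (P : Set G) := by
    intro c hc
    refine mem_normalizer_iff.2 fun y => ?_
    show y ∈ zpowers x ↔ c * y * c⁻¹ ∈ zpowers x
    have hcx : c * x * c⁻¹ = x :=
      mul_inv_eq_iff_eq_mul.2 (mem_centralizer_singleton_iff.1 hc)
    simp only [mem_zpowers_iff]
    constructor
    · rintro ⟨k, rfl⟩
      exact ⟨k, by rw [← conj_zpow, hcx]⟩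
    · rintro ⟨k, hk⟩
      refine ⟨k, ?_⟩
      have e : c * x ^ k * c⁻¹ = c * y * c⁻¹ := by rw [← conj_zpow, hcx, hk]
      simpa using e
  have hd := (card_dvd_of_le hle).trans hN.dvd
  have hxd : 11 ∣ Nat.card (centralizer ({x} : Set G)) := by
    rw [← hx]
    exact orderOf_dvd_natCard _ (mem_centralizer_singleton_iff.2 rfl)
  have hcases : ∀ m ∈ Nat.divisors 55, 11 ∣ m → m = 11 ∨ m = 55 := by decide +kernel
  refine (hcases _ (Nat.mem_divisors.2 ⟨hd, by norm_num⟩) hxd).resolve_right fun h55 => ?_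
  obtain ⟨⟨y, hyx⟩, hy⟩ := exists_prime_orderOf_dvd_card' (G := centralizer ({x} : Set G)) 5
    (by rw [h55]; norm_num)
  rw [orderOf_mk] at hy
  let Q : Sylow 5 G := Sylow.ofCard (zpowers y) (by
    obtain ⟨R⟩ : Nonempty (Sylow 5 G) := inferInstance
    rw [Nat.card_zpowers, hy]
    exact (CfsgLib.Transfer.card_sylow_eq_prime R (by rw [hcard]; norm_num)
      (by rw [hcard]; norm_num)).symm.trans R.card_eq_multiplicity)
  have hNy : Nat.card (normalizer (Q : Set G)) = 20 := by
    have h := (normalizer (Q : Set G)).index_mul_card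
    rw [← Q.card_eq_index_normalizer, hn5, hcard] at h
    omega
  have hxy : x ∈ normalizer (Q : Set G) := by
    refine mem_normalizer_iff.2 fun z => ?_
    show z ∈ zpowers y ↔ x * z * x⁻¹ ∈ zpowers y
    have hcy : x * y * x⁻¹ = y :=
      mul_inv_eq_iff_eq_mul.2 (mem_centralizer_singleton_iff.1 hyx).symm
    simp only [mem_zpowers_iff]
    constructor
    · rintro ⟨k, rfl⟩
      exact ⟨k, by rw [← conj_zpow, hcy]⟩
    · rintro ⟨k, hk⟩
      refine ⟨k, ?_⟩
      have e : x * y ^ k * x⁻¹ = x * z * x⁻¹ := by rw [← conj_zpow, hcy, hk]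
      simpa using e
  have h := orderOf_dvd_natCard _ hxy
  rw [hx, hNy] at h
  omega

end Cfsg.Agent.S3592
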