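import Cfsg.Statements.S3598
import Cfsg.Agent.Lib.Recog.PSLDegree.Degrees
import Cfsg.Agent.Lib.Recog.PSLDegree.Recognise

set_option autoImplicit false
open Cfsg

namespace Cfsg.Agent.S3598

open CfsgLib.Recog.PSLDegree CfsgLib.BlockB CfsgLib.Char

theorem irr_deg_iff {G : Type*} [Group G] (χ : Cfsg.IrrCharacter G) (d : ℕ) :
    (χ : G → ℂ) 1 = (d : ℂ) ↔ Cfsg.charDegree (χ : G → ℂ) = d := by
  rw [← irr_degree_cast χ, Nat.cast_inj]

/-- Let p be a prime and F a field with p² elements. If a finite group G has, for every d, the same number of irreducible complex characters of degree d as PSL(2,F) (the same first column of the character table, with multiplicities), then G is isomorphic to PSL(2,F). -/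
theorem result {F : Type*} [Field F] [Fintype F] (p : ℕ) (hp : p.Prime)
    (hF : Fintype.card F = p ^ 2) {G : Type*} [Group G] [Finite G]
    (h : ∀ d : ℕ, Nat.card {χ : Cfsg.IrrCharacter G // (χ : G → ℂ) 1 = (d : ℂ)} =
      Nat.card {χ : Cfsg.IrrCharacter (Matrix.ProjectiveSpecialLinearGroup (Fin 2) F) // (χ : Matrix.ProjectiveSpecialLinearGroup (Fin 2) F → ℂ) 1 = (d : ℂ)}) :
    Nonempty (G ≃* Matrix.ProjectiveSpecialLinearGroup (Fin 2) F) := by
  classical
  simp only [irr_deg_iff] at h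
  -- a degree preserving bijection
  let ge := fun d => (Finite.card_eq.mp (h d)).some
  let e : Cfsg.IrrCharacter G ≃ Cfsg.IrrCharacter (Matrix.ProjectiveSpecialLinearGroup (Fin 2) F) :=
    Equiv.ofFiberEquiv ge
  have he : ∀ χ, Cfsg.charDegree (e χ : Matrix.ProjectiveSpecialLinearGroup (Fin 2) F → ℂ) =
      Cfsg.charDegree (χ : G → ℂ) := fun χ => Equiv.ofFiberEquiv_map ge χ
  have hcardG : Nat.card G = Nat.card (Matrix.ProjectiveSpecialLinearGroup (Fin 2) F) := by
    have := Fintype.ofFinite G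
    have := Fintype.ofFinite (Matrix.ProjectiveSpecialLinearGroup (Fin 2) F)
    have := Fintype.ofFinite (Cfsg.IrrCharacter G)
    have := Fintype.ofFinite (Cfsg.IrrCharacter (Matrix.ProjectiveSpecialLinearGroup (Fin 2) F))
    apply Nat.cast_injective (R := ℂ)
    rw [← sum_irr_sq, ← sum_irr_sq, ← e.sum_comp]
    refine Finset.sum_congr rfl fun χ _ => ?_
    rw [← irr_degree_cast χ, ← irr_degree_cast (e χ), he χ]
  set q := Fintype.card F with hq
  have hp2 := hp.two_le
  have hq4 : 4 ≤ q := by rw [hF]; nlinarith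
  have hmod : Even q ∨ q % 4 = 1 := by
    rcases hp.eq_two_or_odd with rfl | ho
    · exact Or.inl ⟨2, by rw [hF]; norm_num⟩
    · right
      obtain ⟨k, hk⟩ : ∃ k, p = 2 * k + 1 := ⟨p / 2, by omega⟩
      rw [hF, hk, show (2 * k + 1) ^ 2 = 4 * (k * k + k) + 1 by ring]
      omega
  have hcases := fun χ : Cfsg.IrrCharacter G => psl_cases hq4 hmod (e χ)
  simp only [he] at hcases
  have hlin : ∀ χ : Cfsg.IrrCharacter G, Cfsg.charDegree (χ : G → ℂ) = 1 →
      ∀ g, (χ : G → ℂ) g = 1 := by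
    intro χ h1 g
    have heq : χ = triv G := by
      apply e.injective
      apply Subtype.ext
      funext x
      rw [(hcases χ).2 h1 x, (hcases (triv G)).2 charDegree_triv x]
    rw [heq]; rfl
  have hmul := CfsgLib.Classical.card_psl_two_mul (F := F)
  rw [← hcardG, ← hq] at hmul
  obtain ⟨t, ht⟩ : ∃ t, q = t + 1 := ⟨q - 1, by omega⟩
  have hsq : q ^ 2 - 1 = (q + 1) * (q - 1) := by
    rw [ht, Nat.add_sub_cancel]; exact Nat.sub_eq_of_eq_add (by ring)
  have hcomm : ∀ (P : Sylow p G), Nat.card P = p ^ 2 → ∀ x ∈ P, ∀ y ∈ P, x * y = y * x := by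
    intro P hP x hx y hy
    have : Fact p.Prime := ⟨hp⟩
    have := IsPGroup.isMulCommutative_of_card_eq_prime_sq (G := (P : Subgroup G)) hP
    exact congrArg Subtype.val (this.is_comm.comm (⟨x, hx⟩ : (P : Subgroup G)) ⟨y, hy⟩)
  rcases hmod with he2 | ho4
  · -- `q = 4`
    have hp_two : p = 2 := ((Nat.prime_dvd_prime_iff_eq Nat.prime_two hp).mp
      (Nat.prime_two.dvd_of_dvd_pow (hF ▸ even_iff_two_dvd.mp he2))).symm
    subst hp_two
    have hq4' : q = 4 := by rw [hF]; norm_num
    rw [hq4'] at hmul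
    norm_num at hmul
    refine psl_of_hyp (p := 2) (K := 1) (A := 5) (q := 4) ⟨hp, ⟨2, rfl⟩, le_rfl, Or.inl rfl,
      rfl, by simpa using hmul, by decide, fun P => hcomm P ?_, fun χ => ?_, hlin⟩ hq4' (Or.inl rfl)
    · have : Fact (Nat.Prime 2) := ⟨hp⟩
      rw [P.card_eq_multiplicity, hmul, show (60 : ℕ) = 2 ^ 2 * 15 by norm_num,
        Nat.factorization_mul (by norm_num) (by norm_num), Finsupp.add_apply,
        Nat.Prime.factorization_pow hp, Finsupp.single_eq_same,
        Nat.factorization_eq_zero_of_not_dvd (show ¬ 2 ∣ 15 by norm_num)]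
    · have hc4 : Fintype.card F = 4 := hq.symm.trans hq4'
      rcases (hcases χ).1 with h1 | h1 | h1 | h1 | ⟨ho, -⟩
      · exact Or.inl h1
      · exact Or.inr (Or.inl (by rw [h1, hc4]))
      · exact Or.inr (Or.inr (Or.inl (by rw [h1, hc4])))
      · exact Or.inr (Or.inr (Or.inr (by rw [h1, hc4])))
      · rw [hc4] at ho; exact absurd ho (by decide)
  · -- `q` odd
    have hg : Nat.gcd 2 (q - 1) = 2 := Nat.gcd_eq_left (by omega)
    obtain ⟨A, hA⟩ : ∃ A, q + 1 = 2 * A := ⟨(q + 1) / 2, by omega⟩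
    have hAodd : Odd A := Nat.odd_iff.mpr (by omega)
    rw [hg, hsq, hA] at hmul
    have hcard : Nat.card G = q * A * (q - 1) :=
      Nat.eq_of_mul_eq_mul_left two_pos (hmul.trans (by ring))
    have hcop : A.Coprime (q - 1) := by
      refine Nat.coprime_of_dvd fun k hk h1 h2 => ?_
      have hk2 : k ∣ 2 := by
        have h3 : k ∣ (q + 1) - (q - 1) := Nat.dvd_sub (hA ▸ h1.mul_left 2) h2
        rwa [show (q + 1) - (q - 1) = 2 by omega] at h3
      rw [(Nat.prime_dvd_prime_iff_eq hk Nat.prime_two).mp hk2] at h1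
      rcases hAodd with ⟨m, hm⟩
      omega
    have hq9 : 9 ≤ q := by
      have : p ≠ 2 := fun h2 => by rw [h2] at hF; omega
      rw [hF]
      nlinarith [show 3 ≤ p by omega]
    refine psl_of_hyp (p := p) (K := 2) (A := A) (q := q) ⟨hp, ⟨2, hF⟩, hq4, Or.inr rfl,
      hA.symm, hcard, hcop, fun P => hcomm P ?_, fun χ => ?_, hlin⟩ rfl
      (Or.inr ⟨rfl, ho4, hAodd, hq9⟩)
    · have : Fact p.Prime := ⟨hp⟩
      have hnd : ¬ p ∣ A * (q - 1) := by
        intro hd
        have h1 : p ∣ (q + 1) * (q - 1) := hA ▸ (mul_assoc 2 A _).symm ▸ hd.mul_left 2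
        have h2 : p ∣ q := hF ▸ dvd_pow_self p two_ne_zero
        rcases hp.dvd_mul.mp h1 with h3 | h3
        · exact hp.not_dvd_one ((Nat.dvd_add_right h2).mp h3)
        · have := Nat.dvd_sub h2 h3
          rw [show q - (q - 1) = 1 by omega] at this
          exact hp.not_dvd_one this
      rw [P.card_eq_multiplicity, hcard, mul_assoc, hF,
        Nat.factorization_mul (pow_ne_zero _ hp.ne_zero)
          (fun h0 => hnd (by rw [← hF] at h0; rw [h0]; exact dvd_zero p)),
        Finsupp.add_apply, Nat.Prime.factorization_pow hp, Finsupp.single_eq_same,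
        Nat.factorization_eq_zero_of_not_dvd (hF ▸ hnd)]
    · rcases (hcases χ).1 with h1 | h1 | h1 | h1 | ⟨-, h1⟩
      · exact Or.inl h1
      · exact Or.inr (Or.inl (by rw [h1]))
      · exact Or.inr (Or.inr (Or.inl (by rw [h1]; exact ⟨2, by rw [← hq, hA]; ring⟩)))
      · exact Or.inr (Or.inr (Or.inr (by rw [h1])))
      · exact Or.inr (Or.inr (Or.inl (by rw [h1, ← hq, hA, Nat.mul_div_cancel_left _ two_pos])))

end Cfsg.Agent.S3598
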