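import Cfsg.Statements.S3599
import Mathlib
import Cfsg.Agent.Lib.Recog.MinimalFrobenius

set_option autoImplicit false
open Cfsg

namespace Cfsg.Agent.S3599

theorem critical_card_ne {s : ℕ} (p : Fin s → Fin 2 → ℕ) (hp : ∀ j i, (p j i).Prime)
    (hinj : ∀ j i j' i', p j i = p j' i' → j = j' ∧ i = i') (c d : Fin s → Fin 2) (j : Fin s) (hj : c j ≠ d j) :
    (∏ k, p k (c k) ^ orderOf (p k (c k) : ZMod (p k (1 - c k))) * p k (1 - c k)) ≠
    (∏ k, p k (d k) ^ orderOf (p k (d k) : ZMod (p k (1 - d k))) * p k (1 - d k)) := by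
  classical
  intro h
  -- the exponent of each of the two primes at `j`
  have hval : ∀ (e : Fin s → Fin 2) (i : Fin 2),
      (∏ k, p k (e k) ^ orderOf (p k (e k) : ZMod (p k (1 - e k))) * p k (1 - e k)).factorization (p j i)
      = if i = e j then orderOf (p j (e j) : ZMod (p j (1 - e j))) else 1 := by
    intro e i
    rw [Nat.factorization_prod_apply (fun k _ => mul_ne_zero (pow_ne_zero _ (hp _ _).ne_zero) (hp _ _).ne_zero)]
    rw [Finset.sum_eq_single j]
    · rw [Nat.factorization_mul (pow_ne_zero _ (hp _ _).ne_zero) (hp _ _).ne_zero,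
        Nat.factorization_pow, (hp _ _).factorization, (hp _ _).factorization]
      simp only [Finsupp.coe_add, Finsupp.coe_smul, Pi.add_apply, Pi.smul_apply, Finsupp.single_apply, smul_eq_mul]
      have h2 : (1 - e j = i) ↔ ¬ (i = e j) := by
        generalize e j = y; revert i y; decide
      have h3 : ∀ a b : Fin 2, p j a = p j b ↔ a = b := fun a b => ⟨fun h => (hinj _ _ _ _ h).2, fun h => h ▸ rfl⟩
      simp only [h3, h2]
      by_cases hi : i = e j <;> simp [hi, eq_comm]
    · intro k _ hk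
      rw [Nat.factorization_mul (pow_ne_zero _ (hp _ _).ne_zero) (hp _ _).ne_zero,
        Nat.factorization_pow, (hp _ _).factorization, (hp _ _).factorization]
      simp only [Finsupp.coe_add, Finsupp.coe_smul, Pi.add_apply, Pi.smul_apply, smul_eq_mul]
      rw [Finsupp.single_eq_of_ne (fun h => hk (hinj _ _ _ _ h).1.symm),
        Finsupp.single_eq_of_ne (fun h => hk (hinj _ _ _ _ h).1.symm)]
      simp
    · intro h; exact absurd (Finset.mem_univ j) h
  have h1 := (hval c (c j)).symm.trans ((congrArg (fun n => n.factorization (p j (c j))) h).trans (hval d (c j)))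
  have h2 := (hval c (d j)).symm.trans ((congrArg (fun n => n.factorization (p j (d j))) h).trans (hval d (d j)))
  rw [if_pos rfl, if_neg hj] at h1
  rw [if_pos rfl, if_neg (Ne.symm hj)] at h2
  have hd : d j = 1 - c j := by
    revert hj; generalize c j = y; generalize d j = z; revert y z; decide
  have hcd : 1 - d j = c j := by
    rw [hd]; generalize c j = y; revert y; decide
  have key : ∀ a b : Fin 2, orderOf (p j a : ZMod (p j b)) = 1 → p j b < p j a := by
    intro a b hab
    rw [orderOf_eq_one_iff, ← Nat.cast_one, ← sub_eq_zero, ← Nat.cast_sub (hp _ _).one_lt.le,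
      ZMod.natCast_eq_zero_iff] at hab
    have := Nat.le_of_dvd (by have := (hp j a).two_le; omega) hab
    have := (hp j a).two_le
    omega
  have e1 := key _ _ h1
  have e2 := key _ _ h2.symm
  rw [hd] at e2 hcd
  rw [hcd] at e2
  omega

theorem critical_pi {s : ℕ} (p : Fin s → Fin 2 → ℕ) (hp : ∀ j i, (p j i).Prime)
    (hinj : ∀ j i j' i', p j i = p j' i' → j = j' ∧ i = i')
    (F : Fin s → Type) [∀ j, Group (F j)] [∀ j, Fintype (F j)] (a b : Fin s → ℕ)
    (hpair : ∀ j, (a j = p j 0 ∧ b j = p j 1) ∨ (a j = p j 1 ∧ b j = p j 0))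
    (hord : ∀ j (g : F j), orderOf g = 1 ∨ orderOf g = a j ∨ orderOf g = b j)
    (hA : ∀ j, ∃ g : F j, orderOf g = a j) (hB : ∀ j, ∃ g : F j, orderOf g = b j)
    (hsub : ∀ j (H : Subgroup (F j)), (∃ g ∈ H, orderOf g = a j) → (∃ g ∈ H, orderOf g = b j) → H = ⊤)
    (hnor : ∀ j (N : Subgroup (F j)), N.Normal → N ≠ ⊥ → ∀ g : F j, g ^ b j ∈ N) :
    Set.range (orderOf : (∀ j, F j) → ℕ) = {m : ℕ | ∃ c : Fin s → ℕ, (∀ j, c j = 1 ∨ c j = p j 0 ∨ c j = p j 1) ∧ m = ∏ j, c j} ∧
    ∀ (H : Subgroup (∀ j, F j)) (N : Subgroup ↥H) [N.Normal], (H ≠ ⊤ ∨ N ≠ ⊥) →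
      Set.range (orderOf : (↥H ⧸ N) → ℕ) ≠ {m : ℕ | ∃ c : Fin s → ℕ, (∀ j, c j = 1 ∨ c j = p j 0 ∨ c j = p j 1) ∧ m = ∏ j, c j} := by
  classical
  have ha : ∀ j, (a j).Prime := fun j => by rcases hpair j with h | h <;> rw [h.1] <;> exact hp _ _
  have hb : ∀ j, (b j).Prime := fun j => by rcases hpair j with h | h <;> rw [h.2] <;> exact hp _ _
  have hab : ∀ j, a j ≠ b j := fun j e => by
    rcases hpair j with h | h <;> rw [h.1, h.2] at e <;> exact absurd (hinj _ _ _ _ e).2 (by decide)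
  have hsrc : ∀ j m, (m = a j ∨ m = b j) → ∃ i, m = p j i := by
    intro j m hm
    rcases hpair j with h | h <;> rcases hm with rfl | rfl
    exacts [⟨0, h.1⟩, ⟨1, h.2⟩, ⟨1, h.1⟩, ⟨0, h.2⟩]
  -- values at different indices are coprime
  have hco : ∀ i j, i ≠ j → ∀ m n, (m = 1 ∨ m = a i ∨ m = b i) → (n = 1 ∨ n = a j ∨ n = b j) → m.Coprime n := by
    intro i j hij m n hm hn
    rcases hm with rfl | hm
    · exact Nat.coprime_one_left n
    rcases hn with rfl | hn
    · exact Nat.coprime_one_right m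
    obtain ⟨i', rfl⟩ := hsrc i m hm
    obtain ⟨j', rfl⟩ := hsrc j n hn
    exact (Nat.coprime_primes (hp _ _) (hp _ _)).mpr fun e => hij (hinj _ _ _ _ e).1
  have horder : ∀ x : ∀ j, F j, orderOf x = ∏ j, orderOf (x j) := by
    intro x
    apply Nat.dvd_antisymm
    · apply orderOf_dvd_of_pow_eq_one
      funext j
      exact orderOf_dvd_iff_pow_eq_one.mp (Finset.dvd_prod_of_mem _ (Finset.mem_univ j))
    · apply Fintype.prod_dvd_of_isRelPrime (s := fun j => orderOf (x j))
      · exact fun i j hij => Nat.coprime_iff_isRelPrime.mp (hco i j hij _ _ (hord _ _) (hord _ _))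
      · intro j
        exact orderOf_dvd_of_pow_eq_one (congrFun (pow_orderOf_eq_one x) j)
  refine ⟨?_, ?_⟩
  · ext m
    simp only [Set.mem_range, Set.mem_setOf_eq]
    constructor
    · rintro ⟨x, rfl⟩
      refine ⟨fun j => orderOf (x j), fun j => ?_, horder x⟩
      rcases hpair j with h | h <;> rcases hord j (x j) with e | e | e <;> simp [e, h.1, h.2]
    · rintro ⟨c, hc, rfl⟩
      have : ∀ j, ∃ g : F j, orderOf g = c j := by
        intro j
        rcases hc j with e | e | e
        · exact ⟨1, by rw [e, orderOf_one]⟩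
        all_goals
          rcases hpair j with h | h
          all_goals first
            | (rw [e, ← h.1]; exact hA j)
            | (rw [e, ← h.2]; exact hB j)
      choose x hx using this
      exact ⟨x, by rw [horder]; simp [hx]⟩
  intro H N _ hHN hspec
  have hmemA : ∀ f : Fin s → ℕ, (∀ j, f j = a j ∨ f j = b j) →
      ∃ h : ↥H, orderOf (h : ↥H ⧸ N) = ∏ j, f j ∧ ∀ j, orderOf ((h : ∀ j, F j) j) = f j := by
    intro f hf
    have hmem : (∏ j, f j) ∈ Set.range (orderOf : (↥H ⧸ N) → ℕ) := by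
      rw [hspec]
      refine ⟨f, fun j => ?_, rfl⟩
      rcases hpair j with h | h <;> rcases hf j with e | e <;> simp [e, h.1, h.2]
    obtain ⟨q, hq⟩ := hmem
    obtain ⟨h, rfl⟩ := QuotientGroup.mk_surjective q
    refine ⟨h, hq, fun j => ?_⟩
    have hd : (∏ j, f j) ∣ orderOf (h : ∀ j, F j) := by
      rw [← hq, Subgroup.orderOf_coe]
      exact orderOf_map_dvd (QuotientGroup.mk' N) h
    rw [horder] at hd
    have hfp : (f j).Prime := by rcases hf j with e | e <;> rw [e] <;> [exact ha j; exact hb j]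
    obtain ⟨k, -, hk⟩ := (hfp.prime.dvd_finsetProd_iff _).mp
      ((Finset.dvd_prod_of_mem f (Finset.mem_univ j)).trans hd)
    by_cases hkj : k = j
    · subst hkj
      rcases hord k ((h : ∀ j, F j) k) with e | e | e
      · rw [e] at hk; exact absurd (Nat.dvd_one.mp hk) hfp.ne_one
      · rw [e] at hk ⊢; exact ((Nat.prime_dvd_prime_iff_eq hfp (ha k)).mp hk).symm
      · rw [e] at hk ⊢; exact ((Nat.prime_dvd_prime_iff_eq hfp (hb k)).mp hk).symm
    · exfalso
      exact hfp.ne_one (Nat.Coprime.eq_one_of_dvd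
        (hco j k (Ne.symm hkj) (f j) _ (Or.inr (hf j)) (hord _ _)) hk)
  obtain ⟨h, hhA, hh⟩ := hmemA a fun j => Or.inl rfl
  obtain ⟨h', -, hh'⟩ := hmemA b fun j => Or.inr rfl
  -- isolate the components
  have hiso : ∀ (x : ∀ j, F j) (j : Fin s), x ∈ H → x ^ (∏ k ∈ Finset.univ.erase j, orderOf (x k)) =
      Pi.mulSingle j (x j ^ (∏ k ∈ Finset.univ.erase j, orderOf (x k))) := by
    intro x j _
    funext i
    by_cases hij : i = j
    · subst hij; simp
    · rw [Pi.pow_apply, Pi.mulSingle_eq_of_ne hij]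
      exact orderOf_dvd_iff_pow_eq_one.mp
        (Finset.dvd_prod_of_mem _ (Finset.mem_erase.mpr ⟨hij, Finset.mem_univ i⟩))
  have hisoord : ∀ (x : ∀ j, F j) (j : Fin s),
      orderOf (x j ^ (∏ k ∈ Finset.univ.erase j, orderOf (x k))) = orderOf (x j) := by
    intro x j
    refine Nat.Coprime.orderOf_pow (Nat.Coprime.prod_right fun k hk => ?_)
    exact hco j k (Finset.ne_of_mem_erase hk).symm _ _ (hord _ _) (hord _ _)
  have hHtop : H = ⊤ := by
    rw [Subgroup.eq_top_iff']
    intro x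
    refine Subgroup.pi_mem_of_mulSingle_mem x fun j => ?_
    have := hsub j (H.comap (MonoidHom.mulSingle F j))
      ⟨_, by
        have := H.pow_mem h.2 (∏ k ∈ Finset.univ.erase j, orderOf ((h : ∀ j, F j) k))
        rw [hiso _ j h.2] at this
        exact this, (hisoord _ j).trans (hh j)⟩
      ⟨_, by
        have := H.pow_mem h'.2 (∏ k ∈ Finset.univ.erase j, orderOf ((h' : ∀ j, F j) k))
        rw [hiso _ j h'.2] at this
        exact this, (hisoord _ j).trans (hh' j)⟩
    exact (this.ge (Subgroup.mem_top (x j)) : _)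
  have hN : N ≠ ⊥ := hHN.resolve_left (not_not_intro hHtop)
  obtain ⟨⟨n, hnN⟩, hn⟩ := N.ne_bot_iff_exists_ne_one.mp hN
  have hn1 : (n : ∀ j, F j) ≠ 1 := fun e => hn (Subtype.ext (Subtype.ext e))
  obtain ⟨j, hj⟩ : ∃ j, (n : ∀ j, F j) j ≠ 1 := by
    by_contra hc
    push Not at hc
    exact hn1 (funext hc)
  let ι : F j →* ↥H := (MonoidHom.mulSingle F j).codRestrict H fun _ => hHtop ▸ Subgroup.mem_top _
  have hNj : N.comap ι ≠ ⊥ := by
    intro e
    have hm : (n : ∀ j, F j) j ^ (∏ k ∈ Finset.univ.erase j, orderOf ((n : ∀ j, F j) k)) ∈ N.comap ι := by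
      have := N.pow_mem hnN (∏ k ∈ Finset.univ.erase j, orderOf ((n : ∀ j, F j) k))
      rw [Subgroup.mem_comap]
      convert this using 1
      apply Subtype.ext
      rw [SubmonoidClass.coe_pow, hiso _ j n.2]
      rfl
    rw [e, Subgroup.mem_bot, ← orderOf_eq_one_iff, hisoord, orderOf_eq_one_iff] at hm
    exact hj hm
  have hmem := hnor j _ inferInstance hNj ((h : ∀ j, F j) j ^ (∏ k ∈ Finset.univ.erase j, a k))
  have hpowN : h ^ ((∏ k ∈ Finset.univ.erase j, a k) * b j) ∈ N := by
    rw [Subgroup.mem_comap] at hmem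
    convert hmem using 1
    apply Subtype.ext
    funext i
    by_cases hij : i = j
    · subst hij
      simp [ι, pow_mul]
    · have : (h : ∀ j, F j) i ^ (∏ k ∈ Finset.univ.erase j, a k) = 1 := by
        apply orderOf_dvd_iff_pow_eq_one.mp
        rw [hh i]
        exact Finset.dvd_prod_of_mem a (Finset.mem_erase.mpr ⟨hij, Finset.mem_univ i⟩)
      simp [ι, pow_mul, this, Pi.mulSingle_eq_of_ne hij]
  have hd : (∏ k, a k) ∣ (∏ k ∈ Finset.univ.erase j, a k) * b j := by
    rw [← hhA]
    apply orderOf_dvd_of_pow_eq_one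
    rw [← QuotientGroup.mk_pow, QuotientGroup.eq_one_iff]
    exact hpowN
  rw [← Finset.mul_prod_erase Finset.univ a (Finset.mem_univ j), mul_comm (a j)] at hd
  have := Nat.dvd_of_mul_dvd_mul_left (Finset.prod_pos fun k _ => (ha k).pos) hd
  exact hab j ((Nat.prime_dvd_prime_iff_eq (ha j) (hb j)).mp this)

/-- A finite group is critical with respect to a set Ω of natural numbers when its set of element orders is Ω while no proper section H/N (H a subgroup, N normal in H, (H, N) ≠ (whole group, 1)) has Ω as its set of element orders. Let s ≥ 1 and let p(j,0), p(j,1) (j < s) be 2s pairwise distinct primes, and let Ω be the set of all products c(0)·…·c(s−1) with each c(j) ∈ {1, p(j,0), p(j,1)}. Then there are 2^s pairwise non-isomorphic finite groups critical with respect to Ω. -/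
theorem result (s : ℕ) (hs : 1 ≤ s) (p : Fin s → Fin 2 → ℕ)
    (hp : ∀ j i, (p j i).Prime) (hinj : ∀ j i j' i', p j i = p j' i' → j = j' ∧ i = i') :
    ∃ (G : Fin (2 ^ s) → Type) (_ : ∀ a, Group (G a)) (_ : ∀ a, Fintype (G a)),
      (∀ a b, a ≠ b → ¬ Nonempty (G a ≃* G b)) ∧
      ∀ a, Set.range (orderOf : (G a) → ℕ) = {m : ℕ | ∃ c : Fin s → ℕ, (∀ j, c j = 1 ∨ c j = p j 0 ∨ c j = p j 1) ∧ m = ∏ j, c j} ∧
      ∀ (H : Subgroup (G a)) (N : Subgroup ↥H) [N.Normal], (H ≠ ⊤ ∨ N ≠ ⊥) → Set.range (orderOf : (↥H ⧸ N) → ℕ) ≠ {m : ℕ | ∃ c : Fin s → ℕ, (∀ j, c j = 1 ∨ c j = p j 0 ∨ c j = p j 1) ∧ m = ∏ j, c j} := by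
  classical
  let ε : Fin (2 ^ s) ≃ (Fin s → Fin 2) := finFunctionFinEquiv.symm
  have hab : ∀ j (i : Fin 2), p j i ≠ p j (1 - i) := by
    intro j i h
    have := (hinj _ _ _ _ h).2
    generalize i = y at this; revert this; revert y; decide
  choose F hFg hFf hcard hord hA hB hsub hnor using fun (q : Fin s × Fin 2) =>
    CfsgLib.Recog.exists_minimal_frobenius (hp q.1 q.2) (hp q.1 (1 - q.2)) (hab q.1 q.2)
  refine ⟨fun x => ∀ j, F (j, ε x j), fun x => inferInstance, fun x => Fintype.ofFinite _, ?_, ?_⟩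
  · rintro x y hxy ⟨f⟩
    apply hxy
    apply ε.injective
    funext j
    by_contra hj
    have hc := Nat.card_congr f.toEquiv
    rw [Nat.card_pi, Nat.card_pi] at hc
    simp only [hcard] at hc
    exact critical_card_ne p hp hinj (ε x) (ε y) j hj hc
  intro x
  set c := ε x
  have hinj' : ∀ (j : Fin s) i, p j i = p j 0 ∨ p j i = p j 1 := fun j i => by fin_cases i <;> simp
  have hpair : ∀ j, (p j (c j) = p j 0 ∧ p j (1 - c j) = p j 1) ∨ (p j (c j) = p j 1 ∧ p j (1 - c j) = p j 0) := by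
    intro j
    have hc : c j = 0 ∨ c j = 1 := by generalize c j = i; fin_cases i <;> simp
    rcases hc with h | h <;> rw [h] <;> simp
  exact critical_pi p hp hinj (fun j => F (j, c j)) (fun j => p j (c j)) (fun j => p j (1 - c j))
    hpair (fun j => hord (j, c j)) (fun j => hA (j, c j)) (fun j => hB (j, c j))
    (fun j => hsub (j, c j)) (fun j => hnor (j, c j))

end Cfsg.Agent.S3599
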