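import Cfsg.Statements.S3600
import Cfsg.Agent.S3433
import Cfsg.Agent.Lib.Recog.EPOFive.Critical
-- import your own Cfsg.Agent.* helpers here

set_option autoImplicit false
open Cfsg

namespace Cfsg.Agent.S3600

/-- A finite group is critical with respect to a set Ω of natural numbers when its set of element orders is Ω while no proper section has Ω as its set of element orders. A finite group critical with respect to {1, 2, 3, 4, 5} (the set of element orders of the alternating group of degree 6) is isomorphic either to the alternating group of degree 6 or to the affine group F² ⋊ SL(2,F) over the field F with four elements (realised as the matrices of SL(3,F) with last row (0, 0, 1)). -/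
theorem result {G : Type*} [Group G] [Finite G]
    (hcrit : Set.range (orderOf : G → ℕ) = ({1, 2, 3, 4, 5} : Set ℕ) ∧
      ∀ (H : Subgroup G) (N : Subgroup ↥H) [N.Normal], (H ≠ ⊤ ∨ N ≠ ⊥) → Set.range (orderOf : (↥H ⧸ N) → ℕ) ≠ ({1, 2, 3, 4, 5} : Set ℕ)) :
    Nonempty (G ≃* alternatingGroup (Fin 6)) ∨
      ∃ (F : Type) (_ : Field F) (_ : Fintype F), Fintype.card F = 4 ∧
        Nonempty (G ≃* ↥(Subgroup.closure {M : Matrix.SpecialLinearGroup (Fin 3) F |
          (M : Matrix (Fin 3) (Fin 3) F) 2 0 = 0 ∧ (M : Matrix (Fin 3) (Fin 3) F) 2 1 = 0 ∧ (M : Matrix (Fin 3) (Fin 3) F) 2 2 = 1})) := by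
  obtain ⟨hrange, hsec⟩ := hcrit
  have hset : ({1, 2, 3, 4, 5} : Set ℕ) = {k : ℕ | 1 ≤ k ∧ k ≤ 5} := by
    ext k
    simp only [Set.mem_insert_iff, Set.mem_singleton_iff, Set.mem_setOf_eq]
    omega
  have hG : CfsgLib.Recog.EPOFive.Spec G := fun g => by
    have : orderOf g ∈ Set.range (orderOf : G → ℕ) := ⟨g, rfl⟩
    rw [hrange, hset] at this
    exact this.2
  rcases Cfsg.Agent.S3433.result (hrange.trans hset) with h | ⟨W, hWn, hW, ⟨e⟩⟩
  · exact Or.inl h
  have hne : W ≠ ⊥ := by
    rintro rfl
    have e' : G ≃* CfsgLib.Recog.EPOFive.Alt.A5 := (QuotientGroup.quotientBot (G := G)).symm.trans e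
    obtain ⟨g, hg⟩ : (4 : ℕ) ∈ Set.range (orderOf : G → ℕ) := by rw [hrange]; simp
    have h4 : (e' g) ^ 4 = 1 := by rw [← map_pow, ← hg, pow_orderOf_eq_one, map_one]
    have h2 : g ^ 2 = 1 := by
      apply e'.injective
      rw [map_pow, map_one]
      exact CfsgLib.Recog.EPOFive.Alt.five_four _ h4
    have := orderOf_dvd_of_pow_eq_one h2
    rw [hg] at this
    omega
  let F : Type := GaloisField 2 2
  let fF : Fintype F := Fintype.ofFinite F
  have hF : Fintype.card F = 4 := by
    rw [← Nat.card_eq_fintype_card]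
    exact GaloisField.card 2 2 two_ne_zero
  exact Or.inr ⟨F, inferInstance, fF, hF,
    CfsgLib.Recog.EPOFive.critical_affine hG hsec hW hne e hF⟩

end Cfsg.Agent.S3600
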