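import Cfsg.Statements.S3619
import Mathlib

set_option autoImplicit false
open Cfsg
open MulAction
open scoped Pointwise

namespace Cfsg.Agent.S3619

variable {G Ω : Type*} [Group G] [MulAction G Ω]

theorem jordan_moved [Finite Ω] (Γ : Set Ω) (hΓ1 : 1 < Γ.ncard)
    (hJ : IsPretransitive ↥(fixingSubgroup G Γᶜ) ↥(SubMulAction.ofFixingSubgroup G Γᶜ))
    {x y : Ω} (hx : x ∈ Γ) (hy : y ∈ Γ) : ∃ k ∈ fixingSubgroup G Γᶜ, k • x = y := by
  obtain ⟨k, hk⟩ := hJ.exists_smul_eq (⟨x, fun h => h hx⟩ : SubMulAction.ofFixingSubgroup G Γᶜ) ⟨y, fun h => h hy⟩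
  exact ⟨k.1, k.2, congrArg Subtype.val hk⟩

theorem jordan_fix_ne_bot [Finite Ω] (Γ : Set Ω) (hΓ1 : 1 < Γ.ncard)
    (hJ : IsPretransitive ↥(fixingSubgroup G Γᶜ) ↥(SubMulAction.ofFixingSubgroup G Γᶜ)) :
    fixingSubgroup G Γᶜ ≠ ⊥ := by
  intro h
  obtain ⟨x, y, hx, hy, hxy⟩ := (Set.one_lt_ncard_iff (s := Γ)).mp hΓ1
  obtain ⟨k, hk, hkx⟩ := jordan_moved Γ hΓ1 hJ hx hy
  rw [h, Subgroup.mem_bot] at hk
  rw [hk, one_smul] at hkx
  exact hxy hkx

theorem qp_isPretransitive [Finite Ω] (hqp : ∀ N : Subgroup G, N.Normal → N ≠ ⊥ → IsPretransitive ↥N Ω)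
    (Γ : Set Ω) (hΓ1 : 1 < Γ.ncard)
    (hJ : IsPretransitive ↥(fixingSubgroup G Γᶜ) ↥(SubMulAction.ofFixingSubgroup G Γᶜ)) :
    IsPretransitive G Ω := by
  have := hqp ⊤ inferInstance (fun h => jordan_fix_ne_bot Γ hΓ1 hJ (eq_bot_iff.mpr (le_top.trans h.le)))
  exact ⟨fun a b => (this.exists_smul_eq a b).elim fun g hg => ⟨g.1, hg⟩⟩

theorem qp_block_trivial [Finite Ω] (hqp : ∀ N : Subgroup G, N.Normal → N ≠ ⊥ → IsPretransitive ↥N Ω)
    (Γ : Set Ω) (hΓ1 : 1 < Γ.ncard)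
    (hJ : IsPretransitive ↥(fixingSubgroup G Γᶜ) ↥(SubMulAction.ofFixingSubgroup G Γᶜ))
    (hJp : IsPreprimitive ↥(fixingSubgroup G Γᶜ) ↥(SubMulAction.ofFixingSubgroup G Γᶜ))
    {B : Set Ω} (hB : IsBlock G B) : IsTrivialBlock B := by
  classical
  haveI := qp_isPretransitive hqp Γ hΓ1 hJ
  by_contra hne
  rw [IsTrivialBlock, not_or] at hne
  obtain ⟨hsub, huniv⟩ := hne
  rw [Set.not_subsingleton_iff] at hsub
  set K := fixingSubgroup G Γᶜ
  have hfixK : ∀ k ∈ K, ∀ z, z ∉ Γ → k • z = z := fun k hk z hz => (mem_fixingSubgroup_iff G).mp hk z hz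
  -- a point of a translate outside Γ makes K fix that translate
  have hout : ∀ k ∈ K, ∀ h : G, ∀ z ∈ h • B, z ∉ Γ → k • h • B = h • B := by
    intro k hk h z hz hzΓ
    have hb := hB.translate h
    refine (hb.smul_eq_of_nonempty ?_)
    exact ⟨z, ⟨z, hz, hfixK k hk z hzΓ⟩, hz⟩
  by_cases hcase : ∃ h : G, ∃ x ∈ h • B, ∃ y ∈ h • B, x ∈ Γ ∧ y ∈ Γ ∧ x ≠ y
  · obtain ⟨h₀, x, hxB, y, hyB, hxΓ, hyΓ, hxy⟩ := hcase
    have hΓB : Γ ⊆ h₀ • B := by
      let f : ↥(SubMulAction.ofFixingSubgroup G Γᶜ) →ₑ[(K.subtype : ↥K → G)] Ω :=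
        { toFun := Subtype.val, map_smul' := fun k z => rfl }
      have hblk : IsBlock K (f ⁻¹' (h₀ • B)) := (hB.translate h₀).preimage f
      rcases hJp.isTrivialBlock_of_isBlock hblk with hs | hu
      · exact absurd (congrArg Subtype.val (hs (show (⟨x, fun h => h hxΓ⟩ : SubMulAction.ofFixingSubgroup G Γᶜ) ∈ f ⁻¹' (h₀ • B) from hxB)
          (show (⟨y, fun h => h hyΓ⟩ : SubMulAction.ofFixingSubgroup G Γᶜ) ∈ f ⁻¹' (h₀ • B) from hyB))) hxy
      · intro z hz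
        have : (⟨z, fun h => h hz⟩ : SubMulAction.ofFixingSubgroup G Γᶜ) ∈ f ⁻¹' (h₀ • B) := hu ▸ Set.mem_univ _
        exact this
    -- K fixes every translate
    have hall : ∀ k ∈ K, ∀ h : G, k • h • B = h • B := by
      intro k hk h
      by_cases ho : ∃ z ∈ h • B, z ∉ Γ
      · obtain ⟨z, hz, hzΓ⟩ := ho
        exact hout k hk h z hz hzΓ
      · push Not at ho
        have hkx : k • x ∈ Γ := by
          by_contra hkx
          exact hkx ((smul_left_cancel k (hfixK k hk _ hkx)).symm ▸ hxΓ : _)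
        have h1 : k • (h₀ • B) = h₀ • B := (hB.translate h₀).smul_eq_of_nonempty
          ⟨k • x, ⟨x, hxB, rfl⟩, hΓB hkx⟩
        have h2 : h • B = h₀ • B := by
          by_contra hne
          have hd : Disjoint (h • B) (h₀ • B) := hB hne
          obtain ⟨b, hb⟩ := hsub.nonempty
          have hz : h • b ∈ h • B := ⟨b, hb, rfl⟩
          exact Set.disjoint_left.mp hd hz (hΓB (ho _ hz))
        rw [h2, h1]
    let M : Subgroup G := ⨅ h : G, stabilizer G (h • B)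
    have hMn : M.Normal := ⟨fun m hm g => by
      rw [Subgroup.mem_iInf] at hm ⊢
      intro h
      rw [mem_stabilizer_iff, mul_smul, mul_smul, smul_smul g⁻¹ h, mem_stabilizer_iff.mp (hm (g⁻¹ * h)),
        ← smul_smul, smul_inv_smul]⟩
    have hMne : M ≠ ⊥ := fun e => jordan_fix_ne_bot Γ hΓ1 hJ (eq_bot_iff.mpr (fun k hk => e.le (by
      rw [Subgroup.mem_iInf]; exact fun h => hall k hk h)))
    haveI := hqp M hMn hMne
    apply huniv
    rw [Set.eq_univ_iff_forall]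
    intro z
    obtain ⟨b, hb⟩ := hsub.nonempty
    obtain ⟨⟨m, hm⟩, hmz⟩ := exists_smul_eq M b z
    rw [Subgroup.mem_iInf] at hm
    have := hm 1
    rw [one_smul, mem_stabilizer_iff] at this
    rw [← this]
    exact ⟨b, hb, hmz⟩
  · push Not at hcase
    obtain ⟨x, y, hx, hy, hxy⟩ := (Set.one_lt_ncard_iff (s := Γ)).mp hΓ1
    obtain ⟨k, hk, hkx⟩ := jordan_moved Γ hΓ1 hJ hx hy
    obtain ⟨b, hb, c, hc, hbc⟩ := hsub
    obtain ⟨h, hh⟩ := exists_smul_eq G b x
    have hxB : x ∈ h • B := ⟨b, hb, hh⟩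
    have hzB : h • c ∈ h • B := ⟨c, hc, rfl⟩
    have hzx : x ≠ h • c := fun e => hbc (smul_left_cancel h (hh.trans e))
    have hzΓ : h • c ∉ Γ := fun hz => hzx (hcase h x hxB (h • c) hzB hx hz)
    have heq := hout k hk h _ hzB hzΓ
    have : y ∈ h • B := by rw [← heq]; exact ⟨x, hxB, hkx⟩
    exact hxy (hcase h x hxB y this hx hy)

/-- Let G act faithfully on a finite set in such a way that every non-trivial normal subgroup of G is transitive (G is quasiprimitive). Let Γ be a subset with more than one point and not the whole set, such that the pointwise stabilizer of the complement of Γ acts transitively on Γ (a Jordan set). If that pointwise stabilizer acts primitively on Γ, then G is k-fold transitive where k is one more than the number of points outside Γ (the Jordan set is a trivial one). -/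
theorem result {G Ω : Type*} [Group G] [Finite G] [MulAction G Ω] [FaithfulSMul G Ω] [Finite Ω]
    (hqp : ∀ N : Subgroup G, N.Normal → N ≠ ⊥ → MulAction.IsPretransitive ↥N Ω)
    (Γ : Set Ω) (hΓ1 : 1 < Γ.ncard) (hΓ2 : Γ.ncard < Nat.card Ω)
    (hJ : MulAction.IsPretransitive ↥(fixingSubgroup G Γᶜ) ↥(SubMulAction.ofFixingSubgroup G Γᶜ))
    (hJp : MulAction.IsPreprimitive ↥(fixingSubgroup G Γᶜ) ↥(SubMulAction.ofFixingSubgroup G Γᶜ)) :
    MulAction.IsMultiplyPretransitive G Ω (Nat.card Ω - Γ.ncard + 1) := by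
  classical
  set n := Nat.card Ω
  haveI : IsPretransitive G Ω := qp_isPretransitive hqp Γ hΓ1 hJ
  have hG : IsPreprimitive G Ω := ⟨fun {B} hB => qp_block_trivial hqp Γ hΓ1 hJ hJp hB⟩
  have hc : Γ.ncard + Γᶜ.ncard = n := by
    simpa using Set.ncard_add_ncard_compl Γ
  obtain ⟨k, hk⟩ : ∃ k, Γᶜ.ncard = k + 1 := ⟨Γᶜ.ncard - 1, by omega⟩
  have := hG.isMultiplyPreprimitive (s := Γᶜ) hk (by omega) hJp
  have e : n - Γ.ncard + 1 = k + 2 := by omega
  rw [e]
  exact IsMultiplyPreprimitive.isMultiplyPretransitive G Ω (k + 2)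

end Cfsg.Agent.S3619
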