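import Cfsg.Statements.S3627
import Cfsg.Agent.Lib.Recog.JankoOneOrders
import Cfsg.Agent.Lib.Recog.SemidirectSpectrum
import Mathlib.Algebra.Field.GeomSum
import Mathlib.Algebra.Field.ZMod
import Mathlib.Algebra.GCDMonoid.Nat

set_option autoImplicit false
open Cfsg

namespace Cfsg.Agent.S3627

/-- The orders of `J₁`. -/
def jOrders : List ℕ := [1, 2, 3, 5, 6, 7, 10, 11, 15, 19]

/-- The orders of the Frobenius groups `7^k : 6`. -/
def fOrders : List ℕ := [1, 2, 3, 6, 7]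

/-- The least common multiples of two orders. -/
def twoLcm : List ℕ := [1, 2, 3, 5, 6, 7, 10, 11, 14, 15, 19, 21, 22, 30, 33, 35, 38, 42, 55, 57, 66, 70, 77, 95, 105, 110, 114, 133, 165, 190, 209, 285]

/-- The least common multiples of three orders. -/
def threeLcm : List ℕ := [1, 2, 3, 5, 6, 7, 10, 11, 14, 15, 19, 21, 22, 30, 33, 35, 38, 42, 55, 57, 66, 70, 77, 95, 105, 110, 114, 133, 154, 165, 190, 209, 210, 231, 266, 285, 330, 385, 399, 418, 462, 570, 627, 665, 770, 798, 1045, 1155, 1254, 1330, 1463, 1995, 2090, 3135]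

/-- For each least common multiple of four orders, four orders of the solvable-by-Janko group realising it. -/
def cover : List (ℕ × ℕ × ℕ × ℕ × ℕ) :=
  [(1, 1, 1, 1, 1), (2, 1, 1, 1, 2), (3, 1, 1, 1, 3), (5, 1, 1, 1, 5), (6, 1, 1, 1, 6), (7, 1, 1, 1, 7), (10, 1, 1, 1, 10), (11, 1, 1, 1, 11), (14, 1, 1, 2, 7), (15, 1, 1, 1, 15), (19, 1, 1, 1, 19), (21, 1, 1, 3, 7), (22, 1, 1, 2, 11), (30, 1, 1, 2, 15), (33, 1, 1, 3, 11), (35, 1, 1, 5, 7), (38, 1, 1, 2, 19), (42, 1, 1, 6, 7), (55, 1, 1, 5, 11), (57, 1, 1, 3, 19), (66, 1, 1, 6, 11), (70, 1, 1, 7, 10), (77, 1, 1, 7, 11), (95, 1, 1, 5, 19), (105, 1, 1, 7, 15), (110, 1, 1, 10, 11), (114, 1, 1, 6, 19), (133, 1, 1, 7, 19), (154, 1, 2, 7, 11), (165, 1, 1, 11, 15), (190, 1, 1, 10, 19), (209, 1, 1, 11, 19), (210, 1, 2, 7, 15), (231, 1, 3, 7, 11), (266, 1, 2, 7, 19), (285, 1, 1, 15, 19), (330, 1, 2, 11, 15), (385, 1, 5, 7, 11), (399, 1, 3, 7, 19), (418, 1, 2, 11,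 19), (462, 1, 6, 7, 11), (570, 1, 2, 15, 19), (627, 1, 3, 11, 19), (665, 1, 5, 7, 19), (770, 1, 7, 10, 11), (798, 1, 6, 7, 19), (1045, 1, 5, 11, 19), (1155, 1, 7, 11, 15), (1254, 1, 6, 11, 19), (1330, 1, 7, 10, 19), (1463, 1, 7, 11, 19), (1995, 1, 7, 15, 19), (2090, 1, 10, 11, 19), (2310, 2, 7, 11, 15), (2926, 2, 7, 11, 19), (3135, 1, 11, 15, 19), (3990, 2, 7, 15, 19), (4389, 3, 7, 11, 19), (6270, 2, 11, 15, 19), (7315, 7, 5, 11, 19), (8778, 6, 7, 11, 19), (14630, 7, 10, 11, 19), (21945, 7, 11, 15, 19)]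

theorem lcm_two : ∀ a ∈ jOrders, ∀ b ∈ jOrders, Nat.lcm a b ∈ twoLcm := by decide +kernel

theorem lcm_three : ∀ a ∈ jOrders, ∀ b ∈ twoLcm, Nat.lcm a b ∈ threeLcm := by decide +kernel

theorem lcm_four : ∀ a ∈ jOrders, ∀ b ∈ threeLcm, Nat.lcm a b ∈ cover.map Prod.fst := by decide +kernel

theorem cover_spec : ∀ e ∈ cover, e.2.1 ∈ fOrders ∧ e.2.2.1 ∈ jOrders ∧ e.2.2.2.1 ∈ jOrders ∧ e.2.2.2.2 ∈ jOrders ∧
    e.1 = Nat.lcm e.2.1 (Nat.lcm e.2.2.1 (Nat.lcm e.2.2.2.1 e.2.2.2.2)) := by decide +kernel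

theorem fOrders_sub : ∀ f ∈ fOrders, f ∈ jOrders := by decide

local instance fact_seven : Fact (Nat.Prime 7) := ⟨by norm_num⟩

/-- The scalar action of the units of `ZMod 7`. -/
theorem frobenius_orders (N : ℕ) : ∃ (F : Type) (_ : Group F) (_ : Fintype F), N < Fintype.card F ∧
    Set.range (orderOf : F → ℕ) = {n | n ∈ fOrders} := by
  have h7 : ∀ a : ZMod 7, 7 • a = 0 := by decide
  obtain ⟨H, _, _, hN, hr⟩ := CfsgLib.Recog.exists_large_semidirect (ZMod 7)ˣ (ZMod 7) (r := 7) (by norm_num) h7 N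
  refine ⟨H, inferInstance, inferInstance, hN, hr.trans (Set.ext fun n => ?_)⟩
  have hnorm : ∀ g : (ZMod 7)ˣ, g ≠ 1 → ∀ a : ZMod 7, ∑ i ∈ Finset.range (orderOf g), g ^ i • a = 0 := by
    intro g hg a
    have hg1 : (g : ZMod 7) ≠ 1 := fun e => hg (Units.ext e)
    simp only [Units.smul_def, smul_eq_mul, Units.val_pow_eq_pow_val, ← Finset.sum_mul]
    rw [geom_sum_eq hg1, ← Units.val_pow_eq_pow_val, pow_orderOf_eq_one, Units.val_one, sub_self, zero_div, zero_mul]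
  have hdvd : ∀ g : (ZMod 7)ˣ, orderOf g ∈ [1, 2, 3, 6] := by
    intro g
    have h : orderOf g ∣ 6 := orderOf_dvd_of_pow_eq_one (by revert g; decide)
    have hle := Nat.le_of_dvd (by norm_num) h
    generalize orderOf g = o at h hle
    interval_cases o <;> first
      | (exfalso; revert h; decide)
      | simp
  constructor
  · rintro ⟨g, rfl | ⟨rfl, a, ha⟩⟩
    · have := hdvd g
      simp [fOrders] at this ⊢
      tauto
    · have : g = 1 := by by_contra h; exact ha (hnorm g h a)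
      simp [this, fOrders]
  · intro hn
    have h2 : orderOf (-1 : (ZMod 7)ˣ) = 2 := orderOf_eq_prime (by decide) (by decide)
    have h3 : orderOf (⟨2, 4, by decide, by decide⟩ : (ZMod 7)ˣ) = 3 :=
      orderOf_eq_prime (hp := ⟨Nat.prime_three⟩) (by decide) (by decide)
    have h6 : orderOf (⟨3, 5, by decide, by decide⟩ : (ZMod 7)ˣ) = 6 :=
      (orderOf_eq_iff (by norm_num)).mpr ⟨by decide, fun m hm hm0 => by interval_cases m <;> decide⟩
    simp [fOrders] at hn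
    rcases hn with rfl | rfl | rfl | rfl | rfl
    · exact ⟨1, Or.inl orderOf_one.symm⟩
    · exact ⟨_, Or.inl h2.symm⟩
    · exact ⟨_, Or.inl h3.symm⟩
    · exact ⟨_, Or.inl h6.symm⟩
    · exact ⟨1, Or.inr ⟨by rw [orderOf_one], 1, by rw [orderOf_one]; decide⟩⟩

/-- Let J be the first Janko group. Then there are finite groups of arbitrarily large order with exactly the same set of element orders as J × J × J × J. -/
theorem result (N : ℕ) : ∃ (H : Type) (_ : Group H) (_ : Fintype H), N < Fintype.card H ∧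
      Set.range (orderOf : H → ℕ) = Set.range (orderOf : ↥Cfsg.Spor.J1 × ↥Cfsg.Spor.J1 × ↥Cfsg.Spor.J1 × ↥Cfsg.Spor.J1 → ℕ) := by
  obtain ⟨F, _, _, hN, hF⟩ := frobenius_orders N
  let J := ↥Cfsg.Spor.J1
  haveI : Finite J := inferInstance
  refine ⟨F × J × J × J, inferInstance, Fintype.ofFinite _, ?_, ?_⟩
  · have h1 : Nat.card F ≤ Nat.card (F × J × J × J) := by
      rw [Nat.card_prod]; exact Nat.le_mul_of_pos_right _ Nat.card_pos
    rw [Fintype.card_eq_nat_card] at hN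
    rw [@Fintype.card_eq_nat_card _ (Fintype.ofFinite _)]
    omega
  · have hJ : ∀ n : ℕ, n ∈ Set.range (orderOf : J → ℕ) ↔ n ∈ jOrders := by
      intro n; rw [CfsgLib.Recog.JankoOne.jankoOne_range]; simp [jOrders]
    ext n
    constructor
    · rintro ⟨⟨f, x, y, z⟩, rfl⟩
      have hf : orderOf f ∈ fOrders := by
        have : orderOf f ∈ Set.range (orderOf : F → ℕ) := ⟨f, rfl⟩
        rwa [hF] at this
      obtain ⟨w, hw⟩ := (hJ _).mpr (fOrders_sub _ hf)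
      refine ⟨(w, x, y, z), ?_⟩
      simp only [Prod.orderOf_mk, hw]
    · rintro ⟨⟨a, b, c, d⟩, rfl⟩
      obtain ⟨⟨v, f, x, y, z⟩, he, hv⟩ := List.mem_map.1 (lcm_four _ ((hJ _).mp ⟨a, rfl⟩) _
        (lcm_three _ ((hJ _).mp ⟨b, rfl⟩) _ (lcm_two _ ((hJ _).mp ⟨c, rfl⟩) _ ((hJ _).mp ⟨d, rfl⟩))))
      obtain ⟨hf, hx, hy, hz, heq⟩ := cover_spec _ he
      obtain ⟨f', hf'⟩ : f ∈ Set.range (orderOf : F → ℕ) := by rw [hF]; exact hf
      obtain ⟨x', hx'⟩ := (hJ _).mpr hx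
      obtain ⟨y', hy'⟩ := (hJ _).mpr hy
      obtain ⟨z', hz'⟩ := (hJ _).mpr hz
      refine ⟨(f', x', y', z'), ?_⟩
      simp only [Prod.orderOf_mk, hf', hx', hy', hz']
      exact heq.symm.trans hv


end Cfsg.Agent.S3627
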