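import Cfsg.Statements.S3639
import Cfsg.Agent.Lib.Recog.PrimeGraphModule
import Cfsg.Agent.Lib.Recog.SuzukiFPF
import Cfsg.Agent.Lib.KnownB.SzWord

set_option autoImplicit false
open Cfsg

namespace Cfsg.Agent.S3639

/-- Let S be the Suzuki group over the field with q = 2^(2m+1) ≥ 8 elements. Then there are finite groups of arbitrarily large order with the same prime graph as S. -/
theorem result {F : Type*} [Field F] [Fintype F] {m : ℕ} (hm : 1 ≤ m) (hF : Fintype.card F = 2 ^ (2 * m + 1)) (N : ℕ) :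
    ∃ (H : Type) (_ : Group H) (_ : Fintype H), N < Fintype.card H ∧ ((∀ r : ℕ, r.Prime → (r ∣ Nat.card ↥(Cfsg.Lie.Sz F (2 ^ (m + 1))) ↔ r ∣ Nat.card H)) ∧
      (∀ r s : ℕ, r.Prime → s.Prime → r ≠ s → ((∃ x : ↥(Cfsg.Lie.Sz F (2 ^ (m + 1))), orderOf x = r * s) ↔ (∃ y : H, orderOf y = r * s)))) := by
  have : CharP F 2 := charP_of_card_eq_prime_pow hF
  set e := 2 ^ (m + 1) with he
  have hw2 : (CfsgLib.KnownB.SzW.wMat F) * (CfsgLib.KnownB.SzW.wMat F) = 1 := by
    ext i j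
    fin_cases i <;> fin_cases j <;>
      simp [CfsgLib.KnownB.SzW.wMat, Matrix.mul_apply, Fin.sum_univ_four]
  let w : GL (Fin 4) F := ⟨_, _, hw2, hw2⟩
  have hwm : w ∈ Cfsg.Lie.Sz F e :=
    CfsgLib.KnownB.SzW.mem_Sz w (CfsgLib.KnownB.SzW.isSz_wMat (by positivity))
  have heven : 2 ∣ Nat.card (Cfsg.Lie.Sz F e) := by
    have ho : orderOf (⟨w, hwm⟩ : Cfsg.Lie.Sz F e) = 2 := by
      apply orderOf_eq_prime
      · exact Subtype.ext (Units.ext (by simp [pow_two, w, hw2]))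
      · intro h
        have h1 : CfsgLib.KnownB.SzW.wMat F = 1 := congrArg (fun x : Cfsg.Lie.Sz F e => (x : GL (Fin 4) F).val) h
        simpa [CfsgLib.KnownB.SzW.wMat] using congrFun (congrFun h1 0) 0
    exact ho ▸ orderOf_dvd_natCard _
  refine CfsgLib.Recog.unbounded_primeGraph (Cfsg.Lie.Sz F e).subtype heven ?_ N
  intro g r hr hr2 hg v hv
  by_contra hv0
  have h1 : (g : GL (Fin 4) F) = 1 := CfsgLib.Recog.Suz.eq_one_of_fixes (m := m + 1) he g.2
    (hr.odd_of_ne_two hr2) (by rw [← hg, ← Subgroup.coe_pow, pow_orderOf_eq_one, Subgroup.coe_one]) hv0 hv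
  exact hr.ne_one (by rw [← hg, orderOf_eq_one_iff]; exact Subtype.ext h1)

end Cfsg.Agent.S3639
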