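import Cfsg.Statements.S3641
import Cfsg.Agent.Lib.Recog.DegreeEighteen
import Cfsg.Agent.Lib.Classical.PSLTwoMaximal
import Cfsg.Agent.Lib.ClassK.SmallSimple
import Cfsg.Agent.Lib.KnownC.AutPSLOut
import Cfsg.Agent.Lib.KnownC.AutPSLPoints
import Cfsg.Agent.Lib.Classical.SLOrder
import Mathlib.Tactic

set_option autoImplicit false
open Cfsg

namespace Cfsg.Agent.S3641

open Subgroup

universe u v

section General

variable {G : Type u} [Group G] [Finite G] {r : ℕ} [hr : Fact r.Prime]

/-- Sylow numbers of subgroups are at most those of the group. -/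
theorem sylow_card_le (H : Subgroup G) : Nat.card (Sylow r H) ≤ Nat.card (Sylow r G) := by
  choose f hf using fun S : Sylow r H => (S.2.map H.subtype).exists_le_sylow
  refine Nat.card_le_card_of_injective f fun S S' h => ?_
  have h1 : IsPGroup r (((f S : Subgroup G)).comap H.subtype) :=
    (f S).2.comap_of_injective _ H.subtype_injective
  have hS : (S : Subgroup H) ≤ (f S : Subgroup G).comap H.subtype :=
    Subgroup.map_le_iff_le_comap.1 (hf S)
  have hS' : (S' : Subgroup H) ≤ (f S : Subgroup G).comap H.subtype :=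
    Subgroup.map_le_iff_le_comap.1 (h ▸ hf S')
  exact Sylow.ext ((S.3 h1 hS).symm.trans (S'.3 h1 hS'))

/-- Sylow numbers of images divide those of the group; equality puts the kernel in the normalisers. -/
theorem sylow_card_image {X : Type v} [Group X] [Finite X] {φ : G →* X}
    (hφ : Function.Surjective φ) :
    Nat.card (Sylow r X) ∣ Nat.card (Sylow r G) ∧
      (Nat.card (Sylow r X) = Nat.card (Sylow r G) →
        ∀ P : Sylow r G, φ.ker ≤ normalizer (P : Set G)) := by
  have key : ∀ P : Sylow r G, ∃ H : Subgroup G, φ.ker ≤ H ∧ normalizer (P : Set G) ≤ H ∧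
      H.index = Nat.card (Sylow r X) := by
    intro P
    refine ⟨(normalizer ((P.mapSurjective hφ : Subgroup X) : Set X)).comap φ, ?_, ?_, ?_⟩
    · intro k hk
      rw [mem_comap, MonoidHom.mem_ker.1 hk]
      exact one_mem _
    · refine fun g hg => mem_comap.2 (mem_normalizer_fintype fun y hy => ?_)
      obtain ⟨p, hp, rfl⟩ := hy
      exact ⟨g * p * g⁻¹, (mem_normalizer_iff.1 hg p).1 hp, by simp⟩
    · rw [index_comap_of_surjective _ hφ]
      exact (Sylow.card_eq_index_normalizer _).symm
  refine ⟨?_, fun h P => ?_⟩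
  · obtain ⟨P⟩ : Nonempty (Sylow r G) := inferInstance
    obtain ⟨H, -, hN, hH⟩ := key P
    rw [← hH, P.card_eq_index_normalizer]
    exact index_dvd_of_le hN
  · obtain ⟨H, hker, hN, hH⟩ := key P
    have : normalizer (P : Set G) = H := by
      refine eq_of_le_of_card_ge hN (le_of_eq ?_)
      have h1 := (normalizer (P : Set G)).index_mul_card
      rw [← H.index_mul_card, hH, h, P.card_eq_index_normalizer] at h1
      exact (Nat.eq_of_mul_eq_mul_left (Nat.pos_of_ne_zero index_ne_zero_of_finite) h1).symm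
    exact hker.trans this.ge

/-- If `K` normalises every Sylow `r`-subgroup, its own are normal. -/
theorem sylow_normal_of_normalizing {K : Subgroup G}
    (h : ∀ P : Sylow r G, K ≤ normalizer (P : Set G)) (S : Sylow r K) : (S : Subgroup K).Normal := by
  obtain ⟨Q, hQ⟩ := (S.2.map K.subtype).exists_le_sylow
  have h1 : IsPGroup r ((Q : Subgroup G).comap K.subtype) :=
    Q.2.comap_of_injective _ K.subtype_injective
  rw [← S.3 h1 (Subgroup.map_le_iff_le_comap.1 hQ)]
  refine ⟨fun x hx k => ?_⟩
  rw [mem_comap] at hx ⊢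
  exact (mem_normalizer_iff.1 (h Q k.2) _).1 hx

/-- A normal Sylow `q`-subgroup makes the `q`-part of a Sylow `r`-number `1` modulo `r`. -/
theorem qpart_mod {q : ℕ} [hq : Fact q.Prime] (hqr : q ≠ r) (S : Sylow q G)
    (hS : (S : Subgroup G).Normal) {c m : ℕ} (hn : Nat.card (Sylow r G) = q ^ c * m)
    (hm : ¬ q ∣ m) : q ^ c ≡ 1 [MOD r] := by
  classical
  obtain ⟨R⟩ : Nonempty (Sylow r G) := inferInstance
  set H := normalizer (R : Set G)
  set d := H.relIndex (S : Subgroup G) with hd
  obtain ⟨j, hj⟩ : ∃ j, d = q ^ j := by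
    exact S.2.index (H.subgroupOf (S : Subgroup G))
  have hu : ¬ q ∣ ((S : Subgroup G) ⊔ H).index := fun h =>
    S.not_dvd_index (h.trans (index_dvd_of_le le_sup_left))
  have hprod : ((S : Subgroup G) ⊔ H).index * d = q ^ c * m := by
    rw [← hn, R.card_eq_index_normalizer, mul_comm]
    have hinf : Nat.card ((S : Subgroup G).subgroupOf H) = Nat.card (H.subgroupOf (S : Subgroup G)) := by
      rw [← inf_subgroupOf_right, Nat.card_congr (subgroupOfEquivOfLe inf_le_right).toEquiv,
        inf_comm, ← inf_subgroupOf_right H, Nat.card_congr (subgroupOfEquivOfLe inf_le_right).toEquiv]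
    have e1 := ((S : Subgroup G).subgroupOf ((S : Subgroup G) ⊔ H)).index_mul_card
    have e2 := (H.subgroupOf ((S : Subgroup G) ⊔ H)).index_mul_card
    have e3 := ((S : Subgroup G).subgroupOf H).index_mul_card
    have e4 := (H.subgroupOf (S : Subgroup G)).index_mul_card
    rw [Nat.card_congr (subgroupOfEquivOfLe le_sup_left).toEquiv] at e1
    rw [Nat.card_congr (subgroupOfEquivOfLe le_sup_right).toEquiv] at e2
    change (S : Subgroup G).relIndex ((S : Subgroup G) ⊔ H) * _ = _ at e1
    rw [relIndex_sup_left] at e1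
    have hx : H.relIndex ((S : Subgroup G) ⊔ H) = d := by
      refine Nat.eq_of_mul_eq_mul_right (Nat.card_pos (α := H)) ?_
      calc H.relIndex ((S : Subgroup G) ⊔ H) * Nat.card H
          = Nat.card ((S : Subgroup G) ⊔ H : Subgroup G) := e2
        _ = (S : Subgroup G).relIndex H * Nat.card (S : Subgroup G) := e1.symm
        _ = (S : Subgroup G).relIndex H * (d * Nat.card (H.subgroupOf (S : Subgroup G))) := by
              rw [show d * Nat.card (H.subgroupOf (S : Subgroup G)) = Nat.card (S : Subgroup G) from e4]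
        _ = d * ((S : Subgroup G).relIndex H * Nat.card ((S : Subgroup G).subgroupOf H)) := by
              rw [hinf]; ring
        _ = d * Nat.card H := by
              rw [show (S : Subgroup G).relIndex H * Nat.card ((S : Subgroup G).subgroupOf H) =
                Nat.card H from e3]
    rw [← hx]
    exact relIndex_mul_index (le_sup_right : H ≤ (S : Subgroup G) ⊔ H)
  have hjc : j = c := by
    rw [hj] at hprod
    have h0 : ((S : Subgroup G) ⊔ H).index ≠ 0 := index_ne_zero_of_finite
    have hm0 : m ≠ 0 := fun h => hm (h ▸ dvd_zero q)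
    have h1 := congrArg (padicValNat q) hprod
    rw [padicValNat.mul h0 (pow_ne_zero _ hq.out.ne_zero),
      padicValNat.mul (pow_ne_zero _ hq.out.ne_zero) hm0, padicValNat.eq_zero_of_not_dvd hu,
      padicValNat.eq_zero_of_not_dvd hm, padicValNat.prime_pow, padicValNat.prime_pow] at h1
    omega
  let : MulAction (R : Subgroup G) (S : Subgroup G) :=
    MulAction.compHom (S : Subgroup G) ((normalizerMonoidHom (S : Subgroup G)).comp
      (Subgroup.inclusion (by rw [normalizer_eq_top]; exact le_top :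
        (R : Subgroup G) ≤ normalizer ((S : Subgroup G) : Set G))))
  have hdisj : ∀ x : G, x ∈ (S : Subgroup G) → x ∈ (R : Subgroup G) → x = 1 := by
    intro x h1 h2
    obtain ⟨k, hk⟩ := S.2 ⟨x, h1⟩
    obtain ⟨l, hl⟩ := R.2 ⟨x, h2⟩
    have hk' : x ^ q ^ k = 1 := congrArg Subtype.val hk
    have hl' : x ^ r ^ l = 1 := congrArg Subtype.val hl
    have := pow_gcd_eq_one.2 ⟨hk', hl'⟩
    rwa [Nat.Coprime.pow k l ((Nat.coprime_primes hq.out hr.out).2 hqr), pow_one] at this
  have hfix : MulAction.fixedPoints (R : Subgroup G) (S : Subgroup G) =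
      ((H.subgroupOf (S : Subgroup G)) : Set (S : Subgroup G)) := by
    ext a
    refine ⟨fun ha => mem_subgroupOf.2 (mem_normalizer_fintype fun y hy => ?_), fun ha y => ?_⟩
    · have h1 : y * (a : G) * y⁻¹ = a := congrArg Subtype.val (ha ⟨y, hy⟩)
      have h2 : (a : G) * y * (a : G)⁻¹ = y :=
        mul_inv_eq_iff_eq_mul.2 (mul_inv_eq_iff_eq_mul.1 h1).symm
      rwa [h2]
    · refine Subtype.ext ?_
      show (y : G) * a * (y : G)⁻¹ = a
      refine mul_inv_eq_iff_eq_mul.2 ?_
      have h1 : (a : G) * y * (a : G)⁻¹ * (y : G)⁻¹ = 1 := by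
        refine hdisj _ ?_ (mul_mem ((mem_normalizer_iff.1 (mem_subgroupOf.1 ha) _).1 y.2)
          (inv_mem y.2))
        have h2 := mul_mem a.2 (hS.conj_mem _ (inv_mem a.2) (y : G))
        simpa only [mul_assoc] using h2
      exact (mul_inv_eq_iff_eq_mul.1 (mul_inv_eq_one.1 h1)).symm
  have hmod := R.2.card_modEq_card_fixedPoints (S : Subgroup G)
  rw [hfix, SetLike.coe_sort_coe, ← (H.subgroupOf (S : Subgroup G)).index_mul_card,
    show (H.subgroupOf (S : Subgroup G)).index = q ^ c from hjc ▸ hj] at hmod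
  obtain ⟨i, hi⟩ := IsPGroup.iff_card.1 (S.2.to_subgroup (H.subgroupOf (S : Subgroup G)))
  rw [hi] at hmod
  nth_rewrite 2 [← one_mul (q ^ i)] at hmod
  exact Nat.ModEq.cancel_right_of_coprime (Nat.Coprime.pow_right i
    ((Nat.coprime_primes hr.out hq.out).2 hqr.symm)) hmod

end General

/-- Sylow numbers of a simple group of order 2448. -/
theorem counts_2448 {F : Type u} [Field F] [Fintype F] (hF : Fintype.card F = 17) {M : Type v}
    [Group M] [Finite M] [IsSimpleGroup M] (hM : Nat.card M = 2448) :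
    Nonempty (M ≃* Matrix.ProjectiveSpecialLinearGroup (Fin 2) F) ∧
      Nat.card (Sylow 2 M) = 153 ∧ Nat.card (Sylow 3 M) = 136 := by
  have := CfsgLib.ClassK.isSimpleGroup_psl_two (F := F) (by omega)
  have hP : Nat.card (Matrix.ProjectiveSpecialLinearGroup (Fin 2) F) = 2448 :=
    CfsgLib.Classical.card_psl_two_eq hF 2448 (by norm_num)
  obtain ⟨e⟩ := CfsgLib.ClassK.nonempty_equiv_2448 hM hP
  refine ⟨⟨e⟩, ?_⟩
  have h2 : Fact (Nat.Prime 2) := ⟨by norm_num⟩
  have h3 : Fact (Nat.Prime 3) := ⟨by norm_num⟩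
  have key : ∀ (H : Subgroup M) (r : ℕ) [Fact r.Prime] (S : Sylow r M),
      r ∣ 2448 → IsCoatom H → (S : Subgroup M) ≤ H → H ≤ normalizer (S : Set M) →
      Nat.card (Sylow r M) * Nat.card H = 2448 := by
    intro H r _ S hd hH hSH hHN
    have hne : normalizer (S : Set M) ≠ ⊤ := fun h => by
      have hn : (S : Subgroup M).Normal := normalizer_eq_top_iff.1 h
      rcases hn.eq_bot_or_eq_top with h0 | h0
      · obtain ⟨k, hk⟩ : r ∣ Nat.card (S : Subgroup M) := S.dvd_card_of_dvd_card (hM ▸ hd)
        rw [h0, card_bot] at hk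
        exact (Fact.out : r.Prime).one_lt.ne' (Nat.eq_one_of_mul_eq_one_right hk.symm)
      · exact hH.1 (eq_top_iff.2 (h0 ▸ hSH))
    have heq : normalizer (S : Set M) = H := ((hH.le_iff.1 hHN).resolve_left hne)
    rw [S.card_eq_index_normalizer, ← heq, index_mul_card, hM]
  obtain ⟨H, hH, ⟨f⟩⟩ := CfsgLib.Classical.exists_coatom_dihedral_split (F := F) hF (by norm_num)
  obtain ⟨L, hL, ⟨g⟩⟩ := CfsgLib.Classical.exists_coatom_dihedral_nonsplit (F := F) hF (by norm_num)
    (by norm_num) (by norm_num)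
  let ε : Subgroup M ≃o Subgroup (Matrix.ProjectiveSpecialLinearGroup (Fin 2) F) := e.mapSubgroup
  have hcardε : ∀ K, Nat.card (ε.symm K) = Nat.card K := fun K =>
    (Nat.card_congr (e.symm.subgroupMap K).toEquiv).symm
  have hcH : Nat.card H = 16 := by rw [Nat.card_congr f.toEquiv, DihedralGroup.nat_card]; norm_num
  have hcL : Nat.card L = 18 := by rw [Nat.card_congr g.toEquiv, DihedralGroup.nat_card]; norm_num
  constructor
  · let S : Sylow 2 M := Sylow.ofCard (ε.symm H) (by
      rw [hcardε, hcH, hM, Nat.factorization_def _ h2.out, show (2448 : ℕ) = 2 ^ 4 * 153 by norm_num,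
        padicValNat.mul (by norm_num) (by norm_num), padicValNat.prime_pow,
        padicValNat.eq_zero_of_not_dvd (by norm_num)]
      norm_num)
    have h := key (ε.symm H) 2 S (by norm_num) ((OrderIso.isCoatom_iff ε.symm H).2 hH) le_rfl Subgroup.le_normalizer
    rw [hcardε, hcH] at h
    omega
  · obtain ⟨S₀⟩ : Nonempty (Sylow 3 (ε.symm L : Subgroup M)) := inferInstance
    have hS₀ : Nat.card (S₀ : Subgroup (ε.symm L : Subgroup M)) = 9 := by
      rw [S₀.card_eq_multiplicity, hcardε, hcL, Nat.factorization_def _ h3.out,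
        show (18 : ℕ) = 3 ^ 2 * 2 by norm_num, padicValNat.mul (by norm_num) (by norm_num),
        padicValNat.prime_pow, padicValNat.eq_zero_of_not_dvd (by norm_num)]
      norm_num
    have hn : (S₀ : Subgroup (ε.symm L : Subgroup M)).Normal := normal_of_index_eq_two (by
      have := (S₀ : Subgroup (ε.symm L : Subgroup M)).index_mul_card
      rw [hS₀, hcardε, hcL] at this
      omega)
    let S : Sylow 3 M := Sylow.ofCard ((S₀ : Subgroup _).map (ε.symm L).subtype) (by
      rw [card_map_of_injective (Subgroup.subtype_injective _), hS₀, hM,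
        Nat.factorization_def _ h3.out, show (2448 : ℕ) = 3 ^ 2 * 272 by norm_num,
        padicValNat.mul (by norm_num) (by norm_num), padicValNat.prime_pow,
        padicValNat.eq_zero_of_not_dvd (by norm_num)]
      norm_num)
    have h := key (ε.symm L) 3 S (by norm_num) ((OrderIso.isCoatom_iff ε.symm L).2 hL) (map_subtype_le _) (by
      intro x hx
      refine mem_normalizer_fintype ?_
      rintro _ ⟨y, hy, rfl⟩
      exact ⟨⟨x, hx⟩ * y * (⟨x, hx⟩)⁻¹, hn.conj_mem y hy _, rfl⟩)
    rw [hcardε, hcL] at h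
    omega

/-- `PGL(2, 17)` is the automorphism group of `PSL(2, 17)`. -/
theorem pgl_equiv_mulAut {F : Type u} [Field F] [Fintype F] (hF : Fintype.card F = 17) :
    Nonempty ((GL (Fin 2) F ⧸ Subgroup.center (GL (Fin 2) F)) ≃*
      MulAut (Matrix.ProjectiveSpecialLinearGroup (Fin 2) F)) ∧
    Nat.card (MulAut (Matrix.ProjectiveSpecialLinearGroup (Fin 2) F)) = 4896 := by
  classical
  have h17 : Fact (Nat.Prime 17) := ⟨by norm_num⟩
  have hsub : Subsingleton (F ≃+* F) := by
    refine ⟨fun σ τ => RingEquiv.ext fun x => ?_⟩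
    have e := ZMod.ringEquivOfPrime F h17.out hF
    obtain ⟨y, rfl⟩ := e.surjective x
    exact DFunLike.congr_fun (Subsingleton.elim (σ.toRingHom.comp e.toRingHom)
      (τ.toRingHom.comp e.toRingHom)) y
  have hcard1 : Nat.card (F ≃+* F) = 1 := Nat.card_unique
  have hsl : Nat.card (Matrix.ProjGenLinGroup (Fin 2) F) = 4896 := by
    rw [CfsgLib.Classical.card_pgl]
    have h := CfsgLib.Classical.card_sl_mul (F := F) (n := 2) (by norm_num)
    rw [Fin.prod_univ_two, hF] at h
    norm_num at h
    rw [Nat.card_eq_fintype_card]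
    omega
  have hA : Nat.card (MulAut (Matrix.ProjectiveSpecialLinearGroup (Fin 2) F)) = 4896 := by
    rw [CfsgLib.KnownC.card_mulAut_psl (le_refl 2), hcard1, hsl]
    norm_num
  refine ⟨?_, hA⟩
  have hker : (CfsgLib.KnownC.inndiagHom (n := 2) (F := F)).ker = Subgroup.center (GL (Fin 2) F) := by
    have hle : (CfsgLib.KnownC.inndiagHom (n := 2) (F := F)).ker ≤ Subgroup.center (GL (Fin 2) F) := by
      intro g hg
      exact ((CfsgLib.KnownC.semiAut_eq_one_iff (le_refl 2) g (RingEquiv.refl F)).1 hg).2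
    refine le_antisymm hle fun g hg => ?_
    exact (CfsgLib.KnownC.semiAut_eq_one_iff (le_refl 2) g (RingEquiv.refl F)).2 ⟨rfl, hg⟩
  let ψ := QuotientGroup.lift (Subgroup.center (GL (Fin 2) F))
    (CfsgLib.KnownC.inndiagHom (n := 2) (F := F)) hker.ge
  have hinj : Function.Injective ψ := by
    rw [injective_iff_map_eq_one]
    intro x hx
    obtain ⟨g, rfl⟩ := QuotientGroup.mk_surjective x
    exact (QuotientGroup.eq_one_iff g).2 (hker ▸ MonoidHom.mem_ker.2 hx)
  have : Finite (GL (Fin 2) F ⧸ Subgroup.center (GL (Fin 2) F)) := inferInstance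
  exact ⟨MulEquiv.ofBijective ψ ((Nat.bijective_iff_injective_and_card _).2
    ⟨hinj, hsl.trans hA.symm⟩)⟩

/-- Let G be a finite group with trivial centre whose set of Sylow numbers (numbers of Sylow r-subgroups, r over the prime divisors of its order) is exactly {18, 136, 153}. Then G is isomorphic to PSL(2, 17) or to PGL(2, 17). -/
theorem result {G : Type*} [Group G] [Finite G] (hZ : Subgroup.center G = ⊥) (hNS : {c : ℕ | ∃ r : ℕ, r.Prime ∧ r ∣ Nat.card G ∧ c = Nat.card (Sylow r G)} = ({18, 136, 153} : Set ℕ))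
    {F : Type*} [Field F] [Fintype F] (hF : Fintype.card F = 17) :
    Nonempty (G ≃* Matrix.ProjectiveSpecialLinearGroup (Fin 2) F) ∨ Nonempty (G ≃* (GL (Fin 2) F ⧸ Subgroup.center (GL (Fin 2) F))) := by
  classical
  have hmem : ∀ r : ℕ, r.Prime → r ∣ Nat.card G →
      Nat.card (Sylow r G) = 18 ∨ Nat.card (Sylow r G) = 136 ∨ Nat.card (Sylow r G) = 153 := by
    intro r hr hd
    have h := hNS.subset ⟨r, hr, hd, rfl⟩
    simpa using h
  have hmod : ∀ r : ℕ, r.Prime → Nat.card (Sylow r G) % r = 1 := by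
    intro r hr
    have : Fact r.Prime := ⟨hr⟩
    have h := card_sylow_modEq_one r G
    rwa [Nat.ModEq, Nat.mod_eq_of_lt hr.one_lt] at h
  have h17 : Fact (Nat.Prime 17) := ⟨by norm_num⟩
  have h2 : Fact (Nat.Prime 2) := ⟨by norm_num⟩
  have h3 : Fact (Nat.Prime 3) := ⟨by norm_num⟩
  obtain ⟨r, hr, hrd, h18⟩ : (18 : ℕ) ∈ {c : ℕ | ∃ r : ℕ, r.Prime ∧ r ∣ Nat.card G ∧
      c = Nat.card (Sylow r G)} := by rw [hNS]; simp
  obtain rfl : r = 17 := by
    have h := hmod r hr
    rw [← h18] at h
    have hd : r ∣ 17 := ⟨18 / r, by have := Nat.div_add_mod 18 r; omega⟩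
    exact (Nat.prime_dvd_prime_iff_eq hr h17.out).1 hd
  have hdvd : ∀ (p : ℕ), p ∣ 18 → p ∣ Nat.card G := by
    intro p hp
    obtain ⟨P⟩ : Nonempty (Sylow 17 G) := inferInstance
    refine hp.trans ?_
    rw [h18, P.card_eq_index_normalizer]
    exact index_dvd_card _
  have hn2 : Nat.card (Sylow 2 G) = 153 := by
    have := hmem 2 h2.out (hdvd 2 (by norm_num))
    have := hmod 2 h2.out
    omega
  have hn3 : Nat.card (Sylow 3 G) = 136 := by
    have := hmem 3 h3.out (hdvd 3 (by norm_num))
    have := hmod 3 h3.out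
    omega
  -- the image in the symmetric group on the Sylow 17-subgroups
  let φ₀ := MulAction.toPermHom G (Sylow 17 G)
  let φ : G →* φ₀.range := φ₀.rangeRestrict
  have hφ : Function.Surjective φ := φ₀.rangeRestrict_surjective
  have htr : MulAction.IsPretransitive φ₀.range (Sylow 17 G) := ⟨fun a b => by
    obtain ⟨g, rfl⟩ := MulAction.exists_smul_eq G a b
    exact ⟨φ g, rfl⟩⟩
  obtain ⟨P⟩ : Nonempty (Sylow 17 G) := inferInstance
  have hfix : ∀ p ∈ (P : Subgroup G).map φ, p • P = P := by
    rintro _ ⟨p, hp, rfl⟩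
    exact Sylow.smul_eq_iff_mem_normalizer.2 (Subgroup.le_normalizer hp)
  have hnorm : ∀ g : φ₀.range, g • P = P → ∀ p ∈ (P : Subgroup G).map φ,
      g * p * g⁻¹ ∈ (P : Subgroup G).map φ := by
    intro g hg p hp
    obtain ⟨x, rfl⟩ := hφ g
    obtain ⟨y, hy, rfl⟩ := hp
    exact ⟨x * y * x⁻¹, (mem_normalizer_iff.1 (Sylow.smul_eq_iff_mem_normalizer.1 hg) y).1 hy,
      by simp⟩
  have hPcard : Nat.card ((P : Subgroup G).map φ) = 17 := by
    obtain ⟨k, hk⟩ := IsPGroup.iff_card.1 (P.2.map φ)
    rcases k with _ | _ | k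
    · exfalso
      rw [pow_zero] at hk
      have hbot := Subgroup.card_eq_one.1 hk
      have hall : ∀ Q : Sylow 17 G, Q = P := by
        intro Q
        have hle : (P : Subgroup G) ≤ normalizer (Q : Set G) := fun p hp => by
          refine Sylow.smul_eq_iff_mem_normalizer.1 ?_
          have h1 : φ p = 1 := Subgroup.mem_bot.1 (hbot ▸ mem_map_of_mem φ hp)
          have h2 : φ₀ p = 1 := congrArg Subtype.val h1
          exact DFunLike.congr_fun h2 Q
        have h := P.2.inf_normalizer_sylow Q
        rw [inf_eq_left.2 hle] at h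
        exact Sylow.ext (P.3 Q.2 (h ▸ inf_le_right))
      have : Subsingleton (Sylow 17 G) := ⟨fun a b => (hall a).trans (hall b).symm⟩
      have := Finite.card_le_one_iff_subsingleton.2 this
      omega
    · simpa using hk
    · exfalso
      have h1 : Nat.card ((P : Subgroup G).map φ) ∣ Nat.card (Equiv.Perm (Sylow 17 G)) :=
        (Subgroup.card_subgroup_dvd_card _).trans (Subgroup.card_subgroup_dvd_card _)
      rw [hk, Nat.card_perm, ← h18] at h1
      have h2 := (pow_dvd_pow 17 (show 2 ≤ k + 1 + 1 by omega)).trans h1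
      norm_num [Nat.factorial] at h2
  have hcard18 : Nat.card (Sylow 17 G) = 18 := h18.symm
  obtain ⟨M, hMn, hMs, hM, hMc, hMi⟩ :=
    CfsgLib.Recog.DegreeEighteen.exists_simple hcard18 hPcard hfix hnorm
  obtain ⟨⟨eM⟩, hM2, hM3⟩ := counts_2448 hF hM
  have hXcard : Nat.card φ₀.range = M.index * 2448 := by rw [← hM, index_mul_card]
  have hX : ∀ p : ℕ, p.Prime → p ∣ Nat.card φ₀.range → p = 2 ∨ p = 3 ∨ p = 17 := by
    intro p hp hd
    have hd' : p ∣ 4896 := by
      rw [hXcard] at hd
      rcases hMi with h | h <;> rw [h] at hd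
      · exact hd.trans (by norm_num)
      · exact hd
    rw [show (4896 : ℕ) = 2 ^ 5 * (3 ^ 2 * 17) by norm_num] at hd'
    rcases (Nat.Prime.dvd_mul hp).1 hd' with h | h
    · exact Or.inl ((Nat.prime_dvd_prime_iff_eq hp h2.out).1 (hp.dvd_of_dvd_pow h))
    rcases (Nat.Prime.dvd_mul hp).1 h with h | h
    · exact Or.inr (Or.inl ((Nat.prime_dvd_prime_iff_eq hp h3.out).1 (hp.dvd_of_dvd_pow h)))
    · exact Or.inr (Or.inr ((Nat.prime_dvd_prime_iff_eq hp h17.out).1 h))
  -- the kernel normalises all Sylow subgroups for 2, 3, 17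
  have hker : ∀ p : ℕ, p = 2 ∨ p = 3 ∨ p = 17 → ∀ Q : Sylow p G,
      φ.ker ≤ normalizer (Q : Set G) := by
    rintro p (rfl | rfl | rfl)
    · obtain ⟨hdv, heq⟩ := sylow_card_image (r := 2) hφ
      refine heq (le_antisymm (Nat.le_of_dvd (by omega) hdv) ?_)
      rw [hn2, ← hM2]
      exact sylow_card_le M
    · obtain ⟨hdv, heq⟩ := sylow_card_image (r := 3) hφ
      refine heq (le_antisymm (Nat.le_of_dvd (by omega) hdv) ?_)
      rw [hn3, ← hM3]
      exact sylow_card_le M
    · intro Q k hk
      refine Sylow.smul_eq_iff_mem_normalizer.1 ?_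
      exact DFunLike.congr_fun (congrArg Subtype.val (MonoidHom.mem_ker.1 hk) : φ₀ k = 1) Q
  have hprimes : ∀ p : ℕ, p.Prime → p ∣ Nat.card G → p = 2 ∨ p = 3 ∨ p = 17 := by
    intro p hp hd
    have : Fact p.Prime := ⟨hp⟩
    by_contra hne
    have hp' : p = 5 ∨ p = 19 := by
      have hm := hmod p hp
      rcases hmem p hp hd with h | h | h <;> rw [h] at hm
      · have hd : p ∣ 17 := ⟨18 / p, by have := Nat.div_add_mod 18 p; omega⟩
        exact absurd (Or.inr (Or.inr ((Nat.prime_dvd_prime_iff_eq hp h17.out).1 hd))) hne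
      · have hd : p ∣ 135 := ⟨136 / p, by have := Nat.div_add_mod 136 p; omega⟩
        have hs : ∀ q ∈ Nat.divisors 135, q.Prime → q = 3 ∨ q = 5 := by decide +kernel
        rcases hs p (Nat.mem_divisors.2 ⟨hd, by norm_num⟩) hp with e | e
        · exact absurd (Or.inr (Or.inl e)) hne
        · exact Or.inl e
      · have hd : p ∣ 152 := ⟨153 / p, by have := Nat.div_add_mod 153 p; omega⟩
        have hs : ∀ q ∈ Nat.divisors 152, q.Prime → q = 2 ∨ q = 19 := by decide +kernel
        rcases hs p (Nat.mem_divisors.2 ⟨hd, by norm_num⟩) hp with e | e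
        · exact absurd (Or.inl e) hne
        · exact Or.inr e
    have hle : ∀ Q : Sylow p G, (Q : Subgroup G) ≤ φ.ker := by
      intro Q x hx
      refine MonoidHom.mem_ker.2 (Subgroup.mem_bot.1 ?_)
      have hbot : (Q : Subgroup G).map φ = ⊥ := by
        obtain ⟨k, hk⟩ := IsPGroup.iff_card.1 (Q.2.map φ)
        rcases k with _ | k
        · exact Subgroup.card_eq_one.1 (by rw [hk, pow_zero])
        · exact absurd (hX p hp ((dvd_pow_self p (Nat.succ_ne_zero k)).trans
            (hk ▸ Subgroup.card_subgroup_dvd_card _))) hne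
      rw [← hbot]
      exact mem_map_of_mem φ hx
    have hK : Nat.card (Sylow p φ.ker) = Nat.card (Sylow p G) := by
      refine le_antisymm (sylow_card_le _) (Nat.card_le_card_of_injective
        (fun Q => Q.subtype (hle Q)) ?_)
      intro Q Q' h
      exact Sylow.subtype_injective h
    rcases hp' with rfl | rfl
    · have h136 : Nat.card (Sylow 5 G) = 136 := by
        have := hmem 5 hp hd
        have := hmod 5 hp
        omega
      obtain ⟨S⟩ : Nonempty (Sylow 2 φ.ker) := inferInstance
      have := qpart_mod (q := 2) (r := 5) (by norm_num) S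
        (sylow_normal_of_normalizing (hker 2 (Or.inl rfl)) S) (c := 3) (m := 17)
        (by rw [hK, h136]; norm_num) (by norm_num)
      exact absurd this (by decide)
    · have h153 : Nat.card (Sylow 19 G) = 153 := by
        have := hmem 19 hp hd
        have := hmod 19 hp
        omega
      obtain ⟨S⟩ : Nonempty (Sylow 3 φ.ker) := inferInstance
      have := qpart_mod (q := 3) (r := 19) (by norm_num) S
        (sylow_normal_of_normalizing (hker 3 (Or.inr (Or.inl rfl))) S) (c := 2) (m := 17)
        (by rw [hK, h153]; norm_num) (by norm_num)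
      exact absurd this (by decide)
  -- the kernel is trivial
  have hKbot : φ.ker = ⊥ := by
    by_contra hK
    have hne1 : Nat.card φ.ker ≠ 1 := fun h => hK (Subgroup.card_eq_one.1 h)
    set q := (Nat.card φ.ker).minFac
    have hq : Fact q.Prime := ⟨Nat.minFac_prime hne1⟩
    have hqK : q ∣ Nat.card φ.ker := Nat.minFac_dvd _
    have hq3 := hprimes q hq.out (hqK.trans (Subgroup.card_subgroup_dvd_card _))
    obtain ⟨S⟩ : Nonempty (Sylow q φ.ker) := inferInstance
    have hSn : (S : Subgroup φ.ker).Normal := sylow_normal_of_normalizing (hker q hq3) S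
    have hSc : (S : Subgroup φ.ker).Characteristic := S.characteristic_of_normal hSn
    set N := (S : Subgroup φ.ker).map φ.ker.subtype with hN
    have hNn : N.Normal := ConjAct.normal_of_characteristic_of_normal
    have hNK : N ≤ φ.ker := map_subtype_le _
    have hqN : q ∣ Nat.card N := by
      rw [card_map_of_injective φ.ker.subtype_injective]
      exact S.dvd_card_of_dvd_card hqK
    obtain ⟨Pq, hPq⟩ := (S.2.map φ.ker.subtype).exists_le_sylow
    let : MulAction (Pq : Subgroup G) N := MulAction.compHom N ((normalizerMonoidHom N).comp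
      (Subgroup.inclusion (by rw [normalizer_eq_top]; exact le_top :
        (Pq : Subgroup G) ≤ normalizer (N : Set G))))
    obtain ⟨z, hz, hz1⟩ := Pq.2.exists_fixed_point_of_prime_dvd_card_of_fixed_point N hqN
      (a := 1) (fun y => Subtype.ext (show (y : G) * 1 * (y : G)⁻¹ = 1 by group))
    have hcent : ∀ g : G, g * z = z * g := by
      have htop : centralizer ({(z : G)} : Set G) = ⊤ := by
        refine eq_top_of_card_eq _ (Nat.dvd_antisymm (Subgroup.card_subgroup_dvd_card _) ?_)
        rw [← Nat.factorization_le_iff_dvd Nat.card_pos.ne' Nat.card_pos.ne', Finsupp.le_def]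
        intro p
        by_cases hp : p.Prime
        swap
        · rw [Nat.factorization_eq_zero_of_not_prime _ hp]
          exact Nat.zero_le _
        by_cases hpG : p ∣ Nat.card G
        swap
        · rw [Nat.factorization_eq_zero_of_not_dvd hpG]
          exact Nat.zero_le _
        have : Fact p.Prime := ⟨hp⟩
        have hQ : ∃ Q : Sylow p G, (Q : Subgroup G) ≤ centralizer ({(z : G)} : Set G) := by
          by_cases hpq : p = q
          · subst hpq
            refine ⟨Pq, fun y hy => mem_centralizer_singleton_iff.2 ?_⟩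
            exact mul_inv_eq_iff_eq_mul.1 (congrArg Subtype.val (hz ⟨y, hy⟩))
          · obtain ⟨Q⟩ : Nonempty (Sylow p G) := inferInstance
            refine ⟨Q, fun y hy => mem_centralizer_singleton_iff.2 ?_⟩
            have hzQ := hker p (hprimes p hp hpG) Q (hNK z.2)
            have h1 : (z : G) * y * (z : G)⁻¹ * y⁻¹ ∈ (Q : Subgroup G) :=
              mul_mem ((mem_normalizer_iff.1 hzQ y).1 hy) (inv_mem hy)
            have h2 : (z : G) * y * (z : G)⁻¹ * y⁻¹ ∈ N := by
              have h := mul_mem z.2 (hNn.conj_mem _ (inv_mem z.2) y)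
              simpa only [mul_assoc] using h
            obtain ⟨k, hk⟩ := Q.2 ⟨_, h1⟩
            obtain ⟨l, hl⟩ := (S.2.map φ.ker.subtype) ⟨_, h2⟩
            have hk' := congrArg Subtype.val hk
            have hl' := congrArg Subtype.val hl
            simp only [SubmonoidClass.coe_pow, OneMemClass.coe_one] at hk' hl'
            have h3 := pow_gcd_eq_one.2 ⟨hk', hl'⟩
            rw [Nat.Coprime.pow k l ((Nat.coprime_primes hp hq.out).2 hpq), pow_one] at h3
            exact (mul_inv_eq_iff_eq_mul.1 (mul_inv_eq_one.1 h3)).symm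
        obtain ⟨Q, hQ⟩ := hQ
        have h := Subgroup.card_dvd_of_le hQ
        rw [Q.card_eq_multiplicity] at h
        exact (hp.pow_dvd_iff_le_factorization Nat.card_pos.ne').1 h
      intro g
      have hg : g ∈ centralizer ({(z : G)} : Set G) := htop ▸ Subgroup.mem_top g
      exact mem_centralizer_singleton_iff.1 hg
    have hzc : (z : G) ∈ Subgroup.center G := Subgroup.mem_center_iff.2 hcent
    rw [hZ, Subgroup.mem_bot] at hzc
    exact hz1 (Subtype.ext hzc.symm)
  have eG : G ≃* φ₀.range := MulEquiv.ofBijective φ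
    ⟨(MonoidHom.ker_eq_bot_iff φ).1 hKbot, hφ⟩
  rcases hMi with h | h
  · left
    have hMtop : M = ⊤ := Subgroup.index_eq_one.1 h
    exact ⟨eG.trans (((MulEquiv.subgroupCongr hMtop).trans Subgroup.topEquiv).symm.trans eM)⟩
  · right
    obtain ⟨⟨ePGL⟩, hA⟩ := pgl_equiv_mulAut hF
    let ψ : φ₀.range →* MulAut (Matrix.ProjectiveSpecialLinearGroup (Fin 2) F) :=
      (MulAut.congr eM).toMonoidHom.comp MulAut.conjNormal
    have hinj : Function.Injective ψ := by
      refine (MulAut.congr eM).injective.comp ((injective_iff_map_eq_one _).2 fun c hc => hMc c ?_)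
      intro m hm
      have h1 := congrArg Subtype.val (DFunLike.congr_fun hc (⟨m, hm⟩ : M))
      rw [MulAut.conjNormal_apply] at h1
      exact mul_inv_eq_iff_eq_mul.1 h1
    have eA := MulEquiv.ofBijective ψ ((Nat.bijective_iff_injective_and_card _).2
      ⟨hinj, by rw [hA, hXcard, h]⟩)
    exact ⟨(eG.trans eA).trans ePGL.symm⟩

end Cfsg.Agent.S3641
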