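import Cfsg.Statements.S3643
import Cfsg.Agent.Lib.ClassK.M12Graph.Model
import Cfsg.Agent.Lib.ClassK.M12Graph.Struct
import Cfsg.Agent.Lib.ClassK.M12Nse.Reduce
import Cfsg.Agent.Lib.Recog.OrderM12.Final

set_option autoImplicit false
open Cfsg

namespace Cfsg.Agent.S3643

/-- Let G be a finite group of the same order as the Mathieu group M₁₂ whose character degree graph equals that of M₁₂ (same primes dividing some irreducible complex character degree, same pairs of distinct primes whose product divides some degree). Then G is isomorphic to M₁₂ or to the direct product of the alternating group of degree 4 with M₁₁. -/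
theorem result {G : Type*} [Group G] [Finite G] (hcard : Nat.card G = Nat.card ↥Cfsg.Spor.M12) (hΔ : Cfsg.degreePrimes G = Cfsg.degreePrimes ↥Cfsg.Spor.M12 ∧ Cfsg.degreeGraph G = Cfsg.degreeGraph ↥Cfsg.Spor.M12) :
    Nonempty (G ≃* ↥Cfsg.Spor.M12) ∨ Nonempty (G ≃* alternatingGroup (Fin 4) × ↥Cfsg.Spor.M11) := by
  have hM : CfsgLib.ClassK.M12Nse.Hyp ↥Cfsg.Spor.M12 :=
    CfsgLib.ClassK.M12Nse.hyp_of_nse rfl rfl
  obtain ⟨⟨a, ha⟩, b, hb⟩ := CfsgLib.ClassK.M12Graph.exists_degrees hM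
  have key : ∀ p q : ℕ, p.Prime → q.Prime → p ≠ q →
      (∃ χ : IrrCharacter ↥Cfsg.Spor.M12, p * q ∣ charDegree (χ : ↥Cfsg.Spor.M12 → ℂ)) →
      ∃ χ : IrrCharacter G, p * q ∣ charDegree (χ : G → ℂ) := by
    rintro p q hp hq hne ⟨χ, hχ⟩
    have h : (Cfsg.degreeGraph G).Adj p q := by
      rw [hΔ.2]
      exact ⟨hne, hp, hq, _, ⟨χ, rfl⟩, hχ⟩
    obtain ⟨-, -, -, d, ⟨χ', rfl⟩, hd⟩ := h
    exact ⟨χ', hd⟩
  obtain ⟨a', ha'⟩ := key 5 11 (by norm_num) (by norm_num) (by norm_num) ⟨a, ha⟩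
  obtain ⟨b', hb'⟩ := key 3 11 (by norm_num) (by norm_num) (by norm_num) ⟨b, hb⟩
  have hc : Nat.card G = 95040 := hcard.trans hM.card
  rcases CfsgLib.ClassK.M12Graph.exists_iso hc a' ha' b' hb' with h | h
  · exact Or.inl (CfsgLib.Recog.OrderM12.isoM12_of_card (G := G) hc)
  · exact Or.inr h

end Cfsg.Agent.S3643
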