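import Cfsg.Statements.S3660
import Cfsg.Agent.Lib.Recog.SL2Graph
import Cfsg.Agent.Lib.Classical.SLOrder

set_option autoImplicit false
open Cfsg

namespace Cfsg.Agent.S3660

/-- The prime graph of a finite group has the prime divisors of its order as vertices, two distinct primes p, q being joined when the group has an element of order pq; two groups have the same prime graph when they have the same prime divisors and the same joined pairs. Let F be a finite field of characteristic 2 with at least 4 elements. Then there are finite groups of arbitrarily large order with the same prime graph as PSL(2,F); in particular PSL(2,F) is not determined by its prime graph. -/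
theorem result {F : Type*} [Field F] [Fintype F] [CharP F 2] (hF : 4 ≤ Fintype.card F) (N : ℕ) :
    ∃ (H : Type) (_ : Group H) (_ : Finite H), N < Nat.card H ∧
      ((∀ p : ℕ, p.Prime → (p ∣ Nat.card (Matrix.ProjectiveSpecialLinearGroup (Fin 2) F) ↔ p ∣ Nat.card H)) ∧
      (∀ p q : ℕ, p.Prime → q.Prime → p ≠ q → ((∃ g : (Matrix.ProjectiveSpecialLinearGroup (Fin 2) F), orderOf g = p * q) ↔ (∃ g : H, orderOf g = p * q)))) := by
  obtain ⟨H, hg, hf, hc, h1, h2⟩ := CfsgLib.Recog.unbounded_sl2_primeGraph (F := F) N
  have hz : Subgroup.center (Matrix.SpecialLinearGroup (Fin 2) F) = ⊥ := by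
    rw [Subgroup.eq_bot_iff_card, CfsgLib.Classical.card_center_sl, Fintype.card_fin]
    obtain ⟨n, hn, hq⟩ := FiniteField.card F 2
    rw [hq]
    have he : Even ((2 : ℕ) ^ (n : ℕ)) := Nat.even_pow.mpr ⟨even_two, n.pos.ne'⟩
    exact Nat.coprime_two_left.mpr (Nat.Even.sub_odd (Nat.one_le_two_pow) he odd_one)
  let e : Matrix.ProjectiveSpecialLinearGroup (Fin 2) F ≃* Matrix.SpecialLinearGroup (Fin 2) F :=
    (QuotientGroup.quotientMulEquivOfEq hz).trans QuotientGroup.quotientBot
  refine ⟨H, hg, Finite.of_fintype H, by rwa [Nat.card_eq_fintype_card], ?_, ?_⟩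
  · intro p hp
    rw [Nat.card_congr e.toEquiv]
    exact h1 p hp
  · intro p q hp hq hpq
    refine Iff.trans ⟨?_, ?_⟩ (h2 p q hp hq hpq)
    · rintro ⟨g, hg'⟩
      exact ⟨e g, by rw [MulEquiv.orderOf_eq, hg']⟩
    · rintro ⟨g, hg'⟩
      exact ⟨e.symm g, by rw [MulEquiv.orderOf_eq, hg']⟩

end Cfsg.Agent.S3660
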