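import Cfsg.Statements.S3663
import Cfsg.Agent.Lib.KnownC.FibrePower
import Cfsg.Agent.Lib.KnownC.Spec.UFourModule

set_option autoImplicit false
open Cfsg

namespace Cfsg.Agent.S3663

open CfsgLib.KnownC.Spec CfsgLib.PLocal.Order320

open Matrix in
theorem antiSU_map {A B : Type*} [Field A] [Fintype A] [Field B] [Fintype B] (f : A →+* B)
    (hf : Function.Surjective f) (g : Matrix.SpecialLinearGroup (Fin 3) A) (hg : g ∈ antiSU A) :
    Matrix.SpecialLinearGroup.map f g ∈ antiSU B := by
  intro u w
  choose i hi using hf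
  have hu : u = f ∘ (i ∘ u) := funext fun j => (hi _).symm
  have hw : w = f ∘ (i ∘ w) := funext fun j => (hi _).symm
  have h := congrArg f (hg (i ∘ u) (i ∘ w))
  have e1 : ∀ (x : Fin 3 → A), (Cfsg.slToMat 3 B (Matrix.SpecialLinearGroup.map f g)) *ᵥ (f ∘ x) =
      f ∘ ((Cfsg.slToMat 3 A g) *ᵥ x) := fun x => by
    funext j
    exact (f.map_mulVec _ x j).symm
  rw [hu, hw, e1, e1]
  simpa [antiForm] using h

theorem antiSU_congr {F F' : Type*} [Field F] [Fintype F] [Field F'] [Fintype F'] (e : F ≃+* F') :
    Nonempty (antiSU F ≃* antiSU F') := by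
  exact ⟨{
    toFun := fun g => ⟨Matrix.SpecialLinearGroup.map (e : F →+* F') g.1, antiSU_map _ e.surjective g.1 g.2⟩
    invFun := fun g => ⟨Matrix.SpecialLinearGroup.map (e.symm : F' →+* F) g.1, antiSU_map _ e.symm.surjective g.1 g.2⟩
    left_inv := fun g => by ext i j; simp
    right_inv := fun g => by ext i j; simp
    map_mul' := fun g h => Subtype.ext (map_mul _ _ _) }⟩

theorem psu_equiv {F : Type*} [Field F] [Fintype F] (hF : Fintype.card F = 16) :
    Nonempty (UFour.X ≃* Cfsg.PSU 3 F 4) := by
  obtain ⟨f⟩ := antiSU_congr (FiniteField.ringEquivOfCardEq (K := UFour.K) (K' := F) (by rw [UFour.K.card_eq, hF]))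
  obtain ⟨e⟩ := exists_antiSU_equiv (F := F) hF
  have hbot : Subgroup.center (Cfsg.SU 3 F 4) = ⊥ := Subgroup.card_eq_one.1 (by
    rw [CfsgLib.Classical.card_center_su (q := 4) (by rw [hF]; norm_num) (by norm_num)]
    rfl)
  exact ⟨f.trans (e.trans ((QuotientGroup.quotientBot (G := Cfsg.SU 3 F 4)).symm.trans
    (QuotientGroup.quotientMulEquivOfEq hbot.symm)))⟩


/-- The prime graph of a finite group has the prime divisors of its order as vertices, two distinct primes p, q being joined when the group has an element of order pq; two groups have the same prime graph when they have the same prime divisors and the same joined pairs. Let F be the field with 16 elements and L = PSU(3,4) realised over F. There are finite groups of arbitrarily large order with the same prime graph as L. -/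
theorem result {F : Type*} [Field F] [Fintype F] (hF : Fintype.card F = 16) (N : ℕ) :
    ∃ (H : Type) (_ : Group H) (_ : Finite H), N < Nat.card H ∧
      ((∀ p : ℕ, p.Prime → (p ∣ Nat.card (Cfsg.PSU 3 F 4) ↔ p ∣ Nat.card H)) ∧
      (∀ p q : ℕ, p.Prime → q.Prime → p ≠ q → ((∃ g : (Cfsg.PSU 3 F 4), orderOf g = p * q) ↔ (∃ g : H, orderOf g = p * q)))) := by
  obtain ⟨e⟩ := psu_equiv hF
  let G := Multiplicative UFour.V ⋊[CfsgLib.Recog.mulAutOfAction UFour.X UFour.V] UFour.X
  haveI : Finite (Multiplicative UFour.V) := Finite.of_equiv UFour.V Multiplicative.ofAdd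
  haveI : Finite G := Finite.of_equiv _ SemidirectProduct.equivProd.symm
  let K' : Subgroup G := (SemidirectProduct.inl : Multiplicative UFour.V →* G).range
  haveI : K'.Normal := by
    show (SemidirectProduct.inl : Multiplicative UFour.V →* G).range.Normal
    rw [SemidirectProduct.range_inl_eq_ker_rightHom]; infer_instance
  have h5p : Nat.Prime 5 := by norm_num
  have hK'p : IsPGroup 5 K' := by
    rintro ⟨_, v, rfl⟩
    refine ⟨1, Subtype.ext ?_⟩
    show (SemidirectProduct.inl v : G) ^ 5 ^ 1 = 1
    rw [pow_one, ← map_pow, show v ^ 5 = 1 from Multiplicative.toAdd.injective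
      (by rw [toAdd_pow, UFour.five_smul]; rfl), map_one]
  have hX := UFour.orderOf_X
  -- orders in the extension
  have hsum : ∀ x : G, orderOf x = orderOf x.right ∨
      (orderOf x = 5 * orderOf x.right ∧ orderOf x.right ≠ 13) := by
    intro x
    rcases CfsgLib.Recog.orderOf_semidirect h5p UFour.five_smul x with ⟨-, h⟩ | ⟨hne, h⟩
    · exact Or.inl h
    · refine Or.inr ⟨h, fun h13 => hne (UFour.fpf x.right h13 _ ?_)⟩
      rw [Finset.smul_sum]
      simp only [smul_smul, ← pow_succ']
      have hsucc := Finset.sum_range_succ' (fun i => x.right ^ i • x.left.toAdd) (orderOf x.right)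
      rw [Finset.sum_range_succ, pow_orderOf_eq_one, pow_zero] at hsucc
      exact (add_right_cancel hsucc).symm
  have hcardL : Nat.card (Cfsg.PSU 3 F 4) = 62400 := by rw [← Nat.card_congr e.toEquiv, UFour.card_X]
  have hdvd : ∀ p : ℕ, p.Prime → p ∣ Nat.card G → p ∣ 62400 := by
    intro p hp hd
    haveI := Fact.mk hp
    obtain ⟨x, hx⟩ := exists_prime_orderOf_dvd_card' p hd
    rcases hsum x with h | ⟨h, -⟩
    · rw [← hx, h, ← UFour.card_X]; exact orderOf_dvd_natCard _
    · obtain rfl : 5 = p := (Nat.prime_dvd_prime_iff_eq h5p hp).1 (hx ▸ h ▸ dvd_mul_right 5 _)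
      norm_num
  refine CfsgLib.KnownC.FibrePower.exists_large_graph K' h5p hK'p ?_ (fun r hr => ?_) (fun r s hr hs hrs => ?_) N
  · intro he
    obtain ⟨d, hd⟩ := UFour.exists_ne
    have hm : (SemidirectProduct.inl (Multiplicative.ofAdd d) : G) ∈ K' := ⟨_, rfl⟩
    rw [he, Subgroup.mem_bot] at hm
    exact hd (Multiplicative.ofAdd.injective (SemidirectProduct.inl_injective
      (hm.trans (map_one (SemidirectProduct.inl : Multiplicative UFour.V →* G)).symm)))
  · rw [hcardL]
    refine ⟨fun h => ?_, hdvd r hr⟩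
    rw [← UFour.card_X] at h
    exact h.trans (Subgroup.card_dvd_of_injective (SemidirectProduct.inr : UFour.X →* G)
      SemidirectProduct.inr_injective)
  · constructor
    · rintro ⟨g, hg⟩
      exact ⟨SemidirectProduct.inr (e.symm g), by
        rw [orderOf_injective _ SemidirectProduct.inr_injective, MulEquiv.orderOf_eq, hg]⟩
    · rintro ⟨x, hx⟩
      rcases hsum x with h | ⟨h, h13⟩
      · exact ⟨e x.right, by rw [MulEquiv.orderOf_eq, ← h, hx]⟩
      · -- `5 * t` with `t` a prime other than `5`
        obtain ⟨t, ht, hprod, ht5⟩ : ∃ t, t.Prime ∧ r * s = 5 * t ∧ t ≠ 5 := by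
          have hd : 5 ∣ r * s := hx ▸ h ▸ dvd_mul_right 5 _
          rcases h5p.dvd_mul.1 hd with hd | hd <;> have e5 := (Nat.prime_dvd_prime_iff_eq h5p (by assumption)).1 hd
          · exact ⟨s, hs, by rw [e5], by rw [e5]; exact hrs.symm⟩
          · exact ⟨r, hr, by rw [e5, mul_comm], by rw [e5]; exact hrs⟩
        have ho : orderOf x.right = t := by
          rw [hx, hprod] at h
          omega
        obtain ⟨k, hk, hdk⟩ := hX x.right
        rw [ho] at hdk
        have ht23 : t = 2 ∨ t = 3 := by
          have hle : t ≤ k := Nat.le_of_dvd (by fin_cases hk <;> norm_num) hdk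
          have h2 := ht.two_le
          fin_cases hk <;> interval_cases t <;> simp_all +decide
        obtain ⟨k', hk', hd'⟩ : ∃ g : UFour.X, orderOf g = 10 ∧ ∃ g' : UFour.X, orderOf g' = 15 := by
          exact ⟨UFour.hEl * UFour.wEl, UFour.orderOf_ten, UFour.hEl, UFour.orderOf_fifteen⟩
        rcases ht23 with rfl | rfl
        · exact ⟨e k', by rw [MulEquiv.orderOf_eq, hk', hprod]⟩
        · obtain ⟨g', hg'⟩ := hd'
          exact ⟨e g', by rw [MulEquiv.orderOf_eq, hg', hprod]⟩

end Cfsg.Agent.S3663
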