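import Cfsg.Statements.S3664
import Cfsg.Agent.Lib.KnownC.FibrePower
import Cfsg.Agent.Lib.KnownC.Spec.PSpSixThree
import Cfsg.Agent.Lib.KnownC.Spec.SzEightModule

set_option autoImplicit false
open Cfsg

namespace Cfsg.Agent.S3664

/-- The prime graph of a finite group has the prime divisors of its order as vertices, two distinct primes p, q being joined when the group has an element of order pq; two groups have the same prime graph when they have the same prime divisors and the same joined pairs. Let F be the field with 3 elements and L = PSp(6,F). There are finite groups of arbitrarily large order with the same prime graph as L (a prime graph shared by the orthogonal groups Ω₇(3) and PΩ⁺₈(3)). -/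
theorem result {F : Type*} [Field F] [Fintype F] (hF : Fintype.card F = 3) (N : ℕ) :
    ∃ (H : Type) (_ : Group H) (_ : Finite H), N < Nat.card H ∧
      ((∀ p : ℕ, p.Prime → (p ∣ Nat.card (Cfsg.PSp 3 F) ↔ p ∣ Nat.card H)) ∧
      (∀ p q : ℕ, p.Prime → q.Prime → p ≠ q → ((∃ g : (Cfsg.PSp 3 F), orderOf g = p * q) ↔ (∃ g : H, orderOf g = p * q)))) := by
  let K := GaloisField 2 3
  haveI : Fintype K := Fintype.ofFinite K
  have hK : CfsgLib.KnownC.Spec.SzEight.HCard K := by
    show Fintype.card K = _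
    rw [← Nat.card_eq_fintype_card, GaloisField.card 2 3 (by norm_num)]
  haveI : Finite (Cfsg.PSp 3 F) := inferInstance
  obtain ⟨h13, h14, h30⟩ := CfsgLib.KnownC.Spec.PSpSixThree.exists_orderOf hF
  have hbound := CfsgLib.KnownC.Spec.PSpSixThree.orderOf_dvd hF
  obtain ⟨g6, hg6⟩ := CfsgLib.KnownC.Spec.SzEight.exists_good hK (n := 6) (by simp)
  obtain ⟨g10, hg10⟩ := CfsgLib.KnownC.Spec.SzEight.exists_good hK (n := 10) (by simp)
  obtain ⟨g14, hg14⟩ := CfsgLib.KnownC.Spec.SzEight.exists_good hK (n := 14) (by simp)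
  obtain ⟨g15, hg15⟩ := CfsgLib.KnownC.Spec.SzEight.exists_good hK (n := 15) (by simp)
  have hprimes : ∀ p : ℕ, p.Prime → p ∣ Nat.card (Cfsg.PSp 3 F) → p ∈ [2, 3, 5, 7, 13] := by
    intro p hp hd
    haveI := Fact.mk hp
    obtain ⟨x, hx⟩ := exists_prime_orderOf_dvd_card' p hd
    obtain ⟨k, hk, hdk⟩ := hbound x
    rw [hx] at hdk
    have hle : p ≤ 36 := (Nat.le_of_dvd (by fin_cases hk <;> norm_num) hdk).trans (by fin_cases hk <;> norm_num)
    have := hp.two_le
    fin_cases hk <;> interval_cases p <;> simp_all +decide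
  let K' : Subgroup (CfsgLib.KnownC.Spec.SzEight.G hK) :=
    (SemidirectProduct.inl : _ →* CfsgLib.KnownC.Spec.SzEight.G hK).range
  haveI : K'.Normal := by
    show (SemidirectProduct.inl : _ →* CfsgLib.KnownC.Spec.SzEight.G hK).range.Normal
    rw [SemidirectProduct.range_inl_eq_ker_rightHom]; infer_instance
  have hK'p : IsPGroup 2 K' := by
    rintro ⟨_, v, rfl⟩
    refine ⟨1, Subtype.ext ?_⟩
    show (SemidirectProduct.inl v : CfsgLib.KnownC.Spec.SzEight.G hK) ^ 2 ^ 1 = 1
    rw [pow_one, ← map_pow, show v ^ 2 = 1 from Multiplicative.toAdd.injective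
      (by rw [toAdd_pow, CfsgLib.KnownC.Spec.SzEight.two_smul_ind]; rfl), map_one]
  refine CfsgLib.KnownC.FibrePower.exists_large_graph K' Nat.prime_two hK'p ?_ ?_ ?_ N
  · intro e
    obtain ⟨g, hg, hf⟩ := CfsgLib.KnownC.Spec.SzEight.exists_five hK
    obtain ⟨f, hf0, -⟩ := CfsgLib.KnownC.Spec.SzEight.exists_fixed hK g
      (CfsgLib.KnownC.Spec.SzEight.jMat_ne) (CfsgLib.KnownC.Spec.SzEight.fixed_of_sigma hK hf)
    have hm : (SemidirectProduct.inl (Multiplicative.ofAdd f) : CfsgLib.KnownC.Spec.SzEight.G hK) ∈ K' := ⟨_, rfl⟩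
    rw [e, Subgroup.mem_bot] at hm
    exact hf0 (Multiplicative.ofAdd.injective (SemidirectProduct.inl_injective (hm.trans (map_one (SemidirectProduct.inl : _ →* CfsgLib.KnownC.Spec.SzEight.G hK)).symm)))
  · intro r hr
    constructor
    · intro hd
      have h := hprimes r hr hd
      simp only [List.mem_cons, List.not_mem_nil, or_false] at h
      rcases h with rfl | rfl | rfl | rfl | rfl
      · exact (dvd_mul_right 2 3).trans (((by rw [hg6]; first | rfl | norm_num : _ = orderOf g6)).dvd.trans (orderOf_dvd_natCard g6))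
      · exact (dvd_mul_left 3 2).trans (((by rw [hg6]; first | rfl | norm_num : _ = orderOf g6)).dvd.trans (orderOf_dvd_natCard g6))
      · exact (dvd_mul_left 5 2).trans (((by rw [hg10]; first | rfl | norm_num : _ = orderOf g10)).dvd.trans (orderOf_dvd_natCard g10))
      · exact (dvd_mul_left 7 2).trans (((by rw [hg14]; first | rfl | norm_num : _ = orderOf g14)).dvd.trans (orderOf_dvd_natCard g14))
      · exact CfsgLib.KnownC.Spec.SzEight.dvd_thirteen hK
    · intro hd
      have h := CfsgLib.KnownC.Spec.SzEight.prime_mem hK hr hd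
      obtain ⟨x, hx⟩ := h13
      obtain ⟨y, hy⟩ := h14
      obtain ⟨z, hz⟩ := h30
      simp only [List.mem_cons, List.not_mem_nil, or_false] at h
      rcases h with rfl | rfl | rfl | rfl | rfl
      · exact (show 2 ∣ 14 by norm_num).trans (hy ▸ orderOf_dvd_natCard y)
      · exact (show 3 ∣ 30 by norm_num).trans (hz ▸ orderOf_dvd_natCard z)
      · exact (show 5 ∣ 30 by norm_num).trans (hz ▸ orderOf_dvd_natCard z)
      · exact (show 7 ∣ 14 by norm_num).trans (hy ▸ orderOf_dvd_natCard y)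
      · exact hx ▸ orderOf_dvd_natCard x
  · intro r s hr hs hrs
    have hL : ∀ n ∈ [6, 10, 14, 15], ∃ g : Cfsg.PSp 3 F, orderOf g = n := by
      intro n hn
      obtain ⟨y, hy⟩ := h14
      obtain ⟨z, hz⟩ := h30
      fin_cases hn
      · exact ⟨z ^ 5, by rw [orderOf_pow, hz]; norm_num⟩
      · exact ⟨z ^ 3, by rw [orderOf_pow, hz]; norm_num⟩
      · exact ⟨y, hy⟩
      · exact ⟨z ^ 2, by rw [orderOf_pow, hz]; norm_num⟩
    have hG : ∀ n ∈ [6, 10, 14, 15], ∃ g : CfsgLib.KnownC.Spec.SzEight.G hK, orderOf g = n := fun n hn =>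
      CfsgLib.KnownC.Spec.SzEight.exists_good hK hn
    have hbadL : ∀ n ∈ [21, 35, 26, 39, 65, 91], ∀ g : Cfsg.PSp 3 F, orderOf g ≠ n := by
      intro n hn g e
      obtain ⟨k, hk, hdk⟩ := hbound g
      rw [e] at hdk
      have hall : ∀ b ∈ [21, 35, 26, 39, 65, 91], ∀ k ∈ CfsgLib.KnownC.Spec.PSpSixThree.expos, ¬ b ∣ k := by decide
      exact hall n hn k hk hdk
    have hsplit : ∀ a b : ℕ, a ∈ [2, 3, 5, 7, 13] → b ∈ [2, 3, 5, 7, 13] → a ≠ b →
        a * b ∈ [6, 10, 14, 15] ∨ a * b ∈ [21, 35, 26, 39, 65, 91] := by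
      intro a b ha hb hab
      fin_cases ha <;> fin_cases hb <;> simp_all
    constructor
    · rintro ⟨g, hg⟩
      have hd : r * s ∣ Nat.card (Cfsg.PSp 3 F) := hg ▸ orderOf_dvd_natCard g
      rcases hsplit r s (hprimes r hr ((dvd_mul_right r s).trans hd))
        (hprimes s hs ((dvd_mul_left s r).trans hd)) hrs with h | h
      · exact hG _ h
      · exact absurd hg (hbadL _ h g)
    · rintro ⟨g, hg⟩
      have hd : r * s ∣ Nat.card (CfsgLib.KnownC.Spec.SzEight.G hK) := hg ▸ orderOf_dvd_natCard g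
      rcases hsplit r s (CfsgLib.KnownC.Spec.SzEight.prime_mem hK hr ((dvd_mul_right r s).trans hd))
        (CfsgLib.KnownC.Spec.SzEight.prime_mem hK hs ((dvd_mul_left s r).trans hd)) hrs with h | h
      · exact hL _ h
      · exact absurd hg (CfsgLib.KnownC.Spec.SzEight.bad_not_mem hK h g)

end Cfsg.Agent.S3664
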