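import Cfsg.Statements.S3668
import Cfsg.Agent.S3669
import Cfsg.Agent.Lib.StructC.DegreeGraphSixPoints
import Cfsg.Agent.Lib.StructC.LThreeByOrder
import Cfsg.Agent.Lib.Geom.SimpleSixty
import Cfsg.Agent.Lib.ClassK.SmallSimplePrime
import Cfsg.Agent.Lib.ClassK.Simple360
import Cfsg.Agent.S1011
import Cfsg.Agent.S0984
import Cfsg.Agent.S0981

set_option autoImplicit false
open Cfsg

namespace Cfsg.Agent.S3668

open CfsgLib CfsgLib.StructC.DegreeGraph

universe u v

theorem equiv_360_alt {T : Type u} [Group T] [Finite T] [IsSimpleGroup T] (h : Nat.card T = 360) :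
    Nonempty (T ≃* alternatingGroup (Fin 6)) := by
  haveI : IsSimpleGroup (alternatingGroup (Fin 6)) := alternatingGroup.isSimpleGroup (by simp)
  refine CfsgLib.ClassK.nonempty_equiv_360 h ?_
  have := (alternatingGroup (Fin 6)).card_mul_index
  rw [alternatingGroup.index_eq_two, Nat.card_perm, Nat.card_fin] at this
  have e : Nat.factorial 6 = 720 := rfl
  omega

/-- The Lean statement of the uniqueness of the simple groups of the orders below 6000. -/
theorem equiv_of_simple {G : Type u} [Group G] [Finite G] [IsSimpleGroup G] {S : Type v} [Group S]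
    [Finite S] [IsSimpleGroup S] (hcard : Nat.card G = Nat.card S)
    (hmem : Nat.card S ∈ smallList) : Nonempty (G ≃* S) := by
  simp only [CfsgLib.StructC.DegreeGraph.smallList, List.mem_cons, List.not_mem_nil, or_false] at hmem
  rcases hmem with e | e | e | e | e | e | e | e | e | e | e <;> rw [e] at hcard
  · exact CfsgLib.ClassK.nonempty_equiv_sixty hcard e
  · exact CfsgLib.ClassK.nonempty_equiv_168 hcard e
  · exact CfsgLib.ClassK.nonempty_equiv_360 hcard e
  · haveI : Fact (Nat.Prime 2) := ⟨Nat.prime_two⟩
    haveI : Fintype (GaloisField 2 3) := Fintype.ofFinite _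
    have hF : Fintype.card (GaloisField 2 3) = 8 := by
      rw [← Nat.card_eq_fintype_card, GaloisField.card 2 3 (by norm_num)]; rfl
    obtain ⟨a⟩ := Cfsg.Agent.S1011.result hcard (F := GaloisField 2 3) hF
    obtain ⟨b⟩ := Cfsg.Agent.S1011.result e (F := GaloisField 2 3) hF
    exact ⟨a.trans b.symm⟩
  · exact CfsgLib.ClassK.nonempty_equiv_660 hcard e
  · exact CfsgLib.ClassK.nonempty_equiv_1092 hcard e
  · exact CfsgLib.ClassK.nonempty_equiv_2448 hcard e
  · obtain ⟨a⟩ := Cfsg.Agent.S0984.result hcard
    obtain ⟨b⟩ := Cfsg.Agent.S0984.result e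
    exact ⟨a.trans b.symm⟩
  · exact CfsgLib.ClassK.nonempty_equiv_3420 hcard e
  · haveI : Fact (Nat.Prime 2) := ⟨Nat.prime_two⟩
    haveI : Fintype (GaloisField 2 4) := Fintype.ofFinite _
    have hF : Fintype.card (GaloisField 2 4) = 16 := by
      rw [← Nat.card_eq_fintype_card, GaloisField.card 2 4 (by norm_num)]; rfl
    obtain ⟨a⟩ := Cfsg.Agent.S0981.result hcard (F := GaloisField 2 4) hF
    obtain ⟨b⟩ := Cfsg.Agent.S0981.result e (F := GaloisField 2 4) hF
    exact ⟨a.trans b.symm⟩
  · exact CfsgLib.StructC.LThreeByOrder.nonempty_equiv_5616 hcard e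

theorem no_pow_60 : ∀ m ∈ smallList, m < 60 → False := by decide

/-- The graph of a simple group below 6000 forces simplicity. -/
theorem isSimple_of_graph {S : Type v} [Group S] [Finite S] [IsSimpleGroup S] {G : Type u}
    [Group G] [Finite G] (hcard : Nat.card G = Nat.card S) (hmem : Nat.card S ∈ smallList)
    (hv : Cfsg.degreePrimes G = Cfsg.degreePrimes S)
    (he : Cfsg.degreeGraph G = Cfsg.degreeGraph S) : IsSimpleGroup G := by
  simp only [CfsgLib.StructC.DegreeGraph.smallList, List.mem_cons, List.not_mem_nil, or_false] at hmem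
  rcases hmem with e | e | e | e | e | e | e | e | e | e | e <;> rw [e] at hcard
  · obtain ⟨f⟩ := CfsgLib.Geom.equiv_altFive_of_simple_sixty e
    have hd := CfsgLib.KnownB.SzCh.charDegrees_congr f
    have hpr : Cfsg.degreePrimes S = Cfsg.degreePrimes (alternatingGroup (Fin 5)) := by
      simp only [Cfsg.degreePrimes, hd]
    have hgr : Cfsg.degreeGraph S = Cfsg.degreeGraph (alternatingGroup (Fin 5)) := by
      ext a b; simp only [Cfsg.degreeGraph, hd]
    obtain ⟨g⟩ := Cfsg.Agent.S3669.result hcard ⟨hv.trans hpr, he.trans hgr⟩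
    exact (g.trans f.symm).isSimpleGroup
  · haveI : Fact (Nat.Prime 7) := ⟨by norm_num⟩
    obtain ⟨h7, h2⟩ := vertices_168 e
    rw [← hv] at h7 h2
    by_cases hsol : Group.IsSolvable G
    · exact absurd h2 (not_vertex_of_solvable (r := 7) (q := 2) (a := 3) hcard hsol (by norm_num)
        (by norm_num) Nat.prime_two (by norm_num) (by norm_num) (by norm_num) (by decide +kernel) h7)
    · exact isSimple_of_168 hcard hsol
  · haveI : Fact (Nat.Prime 5) := ⟨by norm_num⟩
    have h5 := vertices_360 e
    rw [← hv] at h5
    obtain ⟨P, hP, hPn⟩ := exists_sylow hcard (by norm_num) (by norm_num) h5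
    by_contra hs
    rcases edge_360 hcard P hPn hs with ⟨d, hd, h6⟩ | h10
    · have hadj : (Cfsg.degreeGraph G).Adj 2 3 :=
        ⟨by norm_num, Nat.prime_two, Nat.prime_three, d, hd, h6⟩
      rw [he] at hadj
      obtain ⟨-, -, -, a, ha, ha6⟩ := hadj
      exact not_six (Or.inl rfl) e ha ha6
    · obtain ⟨f⟩ := equiv_360_alt e
      have h10' : 10 ∈ Cfsg.charDegrees S := by
        rw [CfsgLib.KnownB.SzCh.charDegrees_congr f]
        exact CfsgLib.StructC.DegreeEdge.ten_mem
      have hadj : (Cfsg.degreeGraph S).Adj 2 5 :=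
        ⟨by norm_num, Nat.prime_two, by norm_num, 10, h10', by norm_num⟩
      rw [← he] at hadj
      obtain ⟨-, -, -, a, ha, ha10⟩ := hadj
      exact h10 a ha ha10
  · haveI : Fact (Nat.Prime 7) := ⟨by norm_num⟩
    obtain ⟨h7, h2⟩ := vertices_504 e
    rw [← hv] at h7 h2
    by_cases hsol : Group.IsSolvable G
    · exact absurd h2 (not_vertex_of_solvable (r := 7) (q := 2) (a := 3) hcard hsol (by norm_num)
        (by norm_num) Nat.prime_two (by norm_num) (by norm_num) (by norm_num) (by decide +kernel) h7)
    · by_contra hs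
      have hadj : (Cfsg.degreeGraph G).Adj 2 3 :=
        ⟨by norm_num, Nat.prime_two, Nat.prime_three, 6, six_mem_504 hcard hsol hs, by norm_num⟩
      rw [he] at hadj
      obtain ⟨-, -, -, a, ha, ha6⟩ := hadj
      exact not_six (Or.inr rfl) e ha ha6
  · haveI : Fact (Nat.Prime 11) := ⟨by norm_num⟩
    exact isSimple_of_vertex hcard (by norm_num) (by norm_num) (by norm_num) (by decide +kernel)
      (by decide) (hv ▸ vertices_660 e)
  · haveI : Fact (Nat.Prime 13) := ⟨by norm_num⟩
    exact isSimple_of_vertex hcard (by norm_num) (by norm_num) (by norm_num) (by decide +kernel)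
      (by decide) (hv ▸ vertices_1092 e)
  · haveI : Fact (Nat.Prime 17) := ⟨by norm_num⟩
    exact isSimple_of_vertex hcard (by norm_num) (by norm_num) (by norm_num) (by decide +kernel)
      (by decide) (hv ▸ vertices_2448 e)
  · haveI : Fact (Nat.Prime 5) := ⟨by norm_num⟩
    haveI : Fact (Nat.Prime 7) := ⟨by norm_num⟩
    have h7 := vertices_2520 e
    have h5 : 5 ∈ Cfsg.degreePrimes S := by
      obtain ⟨f⟩ := Cfsg.Agent.S0984.result e
      refine ⟨by norm_num, 15, ?_, by norm_num⟩
      rw [CfsgLib.KnownB.SzCh.charDegrees_congr f]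
      exact CfsgLib.StructC.DegreeEdge.fifteen_mem
    rw [← hv] at h5 h7
    obtain ⟨P, hP, hPn⟩ := exists_sylow hcard (by norm_num) (by norm_num) h5
    obtain ⟨R, hR, hRn⟩ := exists_sylow hcard (by norm_num) (by norm_num) h7
    exact (isSimple_2520 (Nat.card G) G le_rfl (dvd_of_eq hcard) P R hP hR hPn hRn).1
  · haveI : Fact (Nat.Prime 19) := ⟨by norm_num⟩
    exact isSimple_of_vertex hcard (by norm_num) (by norm_num) (by norm_num) (by decide +kernel)
      (by decide) (hv ▸ vertices_3420 e)
  · haveI : Fact (Nat.Prime 17) := ⟨by norm_num⟩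
    exact isSimple_of_vertex hcard (by norm_num) (by norm_num) (by norm_num) (by decide +kernel)
      (by decide) (hv ▸ vertices_4080 e)
  · haveI : Fact (Nat.Prime 13) := ⟨by norm_num⟩
    obtain ⟨h13, h3⟩ := vertices_5616 e
    rw [← hv] at h13 h3
    by_cases hsol : Group.IsSolvable G
    · exact absurd h3 (not_vertex_of_solvable (r := 13) (q := 3) (a := 3) hcard hsol (by norm_num)
        (by norm_num) Nat.prime_three (by norm_num) (by norm_num) (by norm_num) (by decide +kernel) h13)
    · obtain ⟨m, hm, hmd, hs⟩ := exists_small_order (by omega) hsol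
      rw [hcard] at hmd hs
      refine hs ?_
      have key : ∀ m ∈ smallList, m ∣ 5616 → m = 5616 := by decide
      exact key m hm hmd

/-- The character degree graph of a finite group has as vertices the primes dividing some irreducible complex character degree, two distinct primes being joined when their product divides some irreducible character degree; two groups have the same character degree graph when they have the same vertices and the same joined pairs. Let S be a finite non-abelian simple group of order less than 6000. If a finite group G has the same order as S and the same character degree graph as S, then G is isomorphic to S. -/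
theorem result {S : Type*} [Group S] [Finite S] [IsSimpleGroup S] (hS : ¬ IsMulCommutative S)
    (hlt : Nat.card S < 6000) {G : Type*} [Group G] [Finite G] (hcard : Nat.card G = Nat.card S) (hΓ : Cfsg.degreePrimes G = Cfsg.degreePrimes S ∧ Cfsg.degreeGraph G = Cfsg.degreeGraph S) :
    Nonempty (G ≃* S) := by
  have hmem : Nat.card S ∈ smallList := CfsgLib.StructC.OrdersBelow.card_mem_below_6000 hS hlt
  haveI := isSimple_of_graph hcard hmem hΓ.1 hΓ.2
  exact equiv_of_simple hcard hmem

end Cfsg.Agent.S3668
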