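import Cfsg.Statements.S3670
import Cfsg.Agent.Lib.StructC.DegreesU33Main
import Cfsg.Agent.Lib.StructC.DegreesU33Data
import Cfsg.Agent.Lib.StructC.DegreeModels
import Cfsg.Agent.Lib.BlockB.PSL2Degrees

set_option autoImplicit false
open Cfsg

namespace Cfsg.Agent.S3670

theorem mem_two_three_seven {q : ℕ} (hq : q.Prime) (h : q ∣ 6048) : q = 2 ∨ q = 3 ∨ q = 7 := by
  rw [show 6048 = 2 ^ 5 * (3 ^ 3 * 7) by norm_num] at h
  rcases (hq.dvd_mul).1 h with h | h
  · exact Or.inl ((Nat.prime_dvd_prime_iff_eq hq Nat.prime_two).1 (hq.dvd_of_dvd_pow h))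
  rcases (hq.dvd_mul).1 h with h | h
  · exact Or.inr (Or.inl ((Nat.prime_dvd_prime_iff_eq hq Nat.prime_three).1 (hq.dvd_of_dvd_pow h)))
  · exact Or.inr (Or.inr ((Nat.prime_dvd_prime_iff_eq hq (by norm_num)).1 h))

/-- With degrees divisible by 6, 14 and 21, both invariants are determined. -/
theorem graph_spec {X : Type*} [Group X] [Finite X] (hX : Nat.card X = 6048)
    (h6 : ∃ d ∈ Cfsg.charDegrees X, 6 ∣ d) (h14 : ∃ d ∈ Cfsg.charDegrees X, 14 ∣ d)
    (h21 : ∃ d ∈ Cfsg.charDegrees X, 21 ∣ d) :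
    Cfsg.degreePrimes X = {q | q = 2 ∨ q = 3 ∨ q = 7} ∧
      ∀ a b, (Cfsg.degreeGraph X).Adj a b ↔ a ≠ b ∧ (a = 2 ∨ a = 3 ∨ a = 7) ∧ (b = 2 ∨ b = 3 ∨ b = 7) := by
  have hd : ∀ q d, q.Prime → d ∈ Cfsg.charDegrees X → q ∣ d → q = 2 ∨ q = 3 ∨ q = 7 := by
    rintro q _ hq ⟨χ, rfl⟩ hdvd
    exact mem_two_three_seven hq (hdvd.trans (hX ▸ CfsgLib.StructC.DegreesU33.deg_dvd χ))
  obtain ⟨d6, m6, v6⟩ := h6
  obtain ⟨d14, m14, v14⟩ := h14
  obtain ⟨d21, m21, v21⟩ := h21
  refine ⟨Set.ext fun q => ⟨fun ⟨hq, d, hm, hv⟩ => hd q d hq hm hv, ?_⟩, fun a b => ⟨?_, ?_⟩⟩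
  · rintro (rfl | rfl | rfl)
    · exact ⟨Nat.prime_two, d6, m6, (Dvd.intro 3 rfl).trans v6⟩
    · exact ⟨Nat.prime_three, d6, m6, (Dvd.intro 2 rfl).trans v6⟩
    · exact ⟨by norm_num, d14, m14, (Dvd.intro 2 rfl).trans v14⟩
  · rintro ⟨hne, ha, hb, d, hm, hv⟩
    exact ⟨hne, hd a d ha hm ((Dvd.intro b rfl).trans hv), hd b d hb hm ((Dvd.intro_left a rfl).trans hv)⟩
  · rintro ⟨hne, rfl | rfl | rfl, rfl | rfl | rfl⟩ <;> first
      | exact absurd rfl hne
      | exact ⟨hne, by norm_num, by norm_num, d6, m6, v6⟩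
      | exact ⟨hne, by norm_num, by norm_num, d14, m14, v14⟩
      | exact ⟨hne, by norm_num, by norm_num, d21, m21, v21⟩

/-- The character degree graph of a finite group has as vertices the primes dividing some irreducible complex character degree, two distinct primes being joined when their product divides some irreducible character degree; two groups have the same character degree graph when they have the same vertices and the same joined pairs. Let F be the field with 9 elements and L = PSU(3,3) realised over F (order 6048). There is a finite solvable group of order 6048 with the same character degree graph as L; so L is not determined by its order together with its character degree graph. -/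
theorem result {F : Type*} [Field F] [Fintype F] (hF : Fintype.card F = 9) :
    ∃ (H : Type) (_ : Group H) (_ : Fintype H), Group.IsSolvable H ∧ Nat.card H = 6048 ∧ Cfsg.degreePrimes H = Cfsg.degreePrimes (Cfsg.PSU 3 F 3) ∧ Cfsg.degreeGraph H = Cfsg.degreeGraph (Cfsg.PSU 3 F 3) := by
  classical
  obtain ⟨t, ht, -⟩ := CfsgLib.StructC.DegreesU33.Model.exists_t hF
  obtain ⟨d⟩ := CfsgLib.StructC.DegreesU33.Model.exists_hyp hF ht
  haveI := CfsgLib.StructC.DegreesU33.Model.isSimple_G (F := F) hF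
  haveI : Finite (Cfsg.SU 3 F 3) := Nat.finite_of_card_ne_zero (by rw [d.card]; norm_num)
  letI := Fintype.ofFinite (Cfsg.SU 3 F 3)
  letI := Fintype.ofFinite (Cfsg.IrrCharacter (Cfsg.SU 3 F 3))
  have hb : Subgroup.center (Cfsg.SU 3 F 3) = ⊥ := Subgroup.eq_bot_of_card_eq _
    ((CfsgLib.Classical.card_center_su (q := 3) (F := F) hF (n := 3) (by norm_num)).trans (by norm_num))
  let e : Cfsg.PSU 3 F 3 ≃* Cfsg.SU 3 F 3 :=
    (QuotientGroup.quotientMulEquivOfEq hb).trans QuotientGroup.quotientBot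
  haveI : Finite (Cfsg.PSU 3 F 3) := Finite.of_equiv _ e.symm.toEquiv
  have hcard : Nat.card (Cfsg.PSU 3 F 3) = 6048 := (Nat.card_congr e.toEquiv).trans d.card
  have hmem : ∀ χ : Cfsg.IrrCharacter (Cfsg.SU 3 F 3),
      CfsgLib.StructC.DegreesU33.deg χ ∈ Cfsg.charDegrees (Cfsg.PSU 3 F 3) := fun χ =>
    CfsgLib.BlockB.PSL2Degrees.charDegrees_subset_of_surjective e.toMonoidHom e.surjective ⟨χ, rfl⟩
  obtain ⟨-, x28, h28⟩ := CfsgLib.StructC.DegreesU33.sum_sq_odd d (i := 1) rfl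
  obtain ⟨-, x21, h21⟩ := CfsgLib.StructC.DegreesU33.sum_sq_even d (i := 2) (Or.inl rfl)
  obtain ⟨x6, h6⟩ := CfsgLib.StructC.DegreesU33.exists_six d
  obtain ⟨P1, P2⟩ := graph_spec hcard ⟨_, hmem x6, h6⟩ ⟨_, hmem x28, by rw [h28]; norm_num⟩
    ⟨_, hmem x21, by rw [h21]⟩
  obtain ⟨H, hG, hf, hs, hc, χ, hχ⟩ := CfsgLib.StructC.DegreeModels.exists_solvable_model
  letI := hG
  letI := hf
  have hm : 42 ∈ Cfsg.charDegrees H := ⟨χ, hχ⟩
  obtain ⟨H1, H2⟩ := graph_spec hc ⟨42, hm, by norm_num⟩ ⟨42, hm, by norm_num⟩ ⟨42, hm, by norm_num⟩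
  refine ⟨H, hG, hf, hs, hc, H1.trans P1.symm, ?_⟩
  ext a b
  rw [H2, P2]

end Cfsg.Agent.S3670
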