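import Cfsg.Statements.S3678
import Cfsg.Agent.Lib.Recog.SL2Graph
import Cfsg.Agent.Lib.Classical.PSLTwoPerm
import Cfsg.Agent.Lib.Classical.SLOrder

set_option autoImplicit false
open Cfsg

namespace Cfsg.Agent.S3678

/-- `g ^ n = (chPow t n).1 • g + (chPow t n).2` for `g` of determinant `1` and trace `t`. -/
def chPow {R : Type*} [CommRing R] (t : R) : ℕ → R × R
  | 0 => (0, 1)
  | n + 1 => (t * (chPow t n).1 + (chPow t n).2, -(chPow t n).1)

theorem map_chPow {R S : Type*} [CommRing R] [CommRing S] (f : R →+* S) (t : R) (n : ℕ) :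
    chPow (f t) n = (f (chPow t n).1, f (chPow t n).2) := by
  induction n with
  | zero => simp [chPow]
  | succ n ih => simp [chPow, ih]

theorem pow_eq_chPow {F : Type*} [CommRing F] (g : Matrix.SpecialLinearGroup (Fin 2) F) (n : ℕ) :
    ((g ^ n : Matrix.SpecialLinearGroup (Fin 2) F) : Matrix (Fin 2) (Fin 2) F) =
      (chPow (g.1 0 0 + g.1 1 1) n).1 • g.1 + (chPow (g.1 0 0 + g.1 1 1) n).2 • 1 := by
  induction n with
  | zero => simp [chPow]
  | succ n ih =>
    have hdet := g.2
    rw [Matrix.det_fin_two] at hdet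
    rw [pow_succ, Matrix.SpecialLinearGroup.coe_mul, ih]
    ext i j
    fin_cases i <;> fin_cases j <;>
      simp [chPow, Matrix.mul_apply, Fin.sum_univ_two] <;>
      first
        | ring1
        | linear_combination (-(chPow (g.1 0 0 + g.1 1 1) n).1) * hdet
        | linear_combination ((chPow (g.1 0 0 + g.1 1 1) n).1) * hdet

theorem chPow_seven : ∀ t : ZMod 7, ((chPow t 6).1 = 0 → (chPow t 2).1 = 0 ∨ (chPow t 3).1 = 0) ∧
    ((chPow t 14).1 = 0 → (chPow t 2).1 = 0 ∨ (chPow t 7).1 = 0) ∧
    ((chPow t 21).1 = 0 → (chPow t 3).1 = 0 ∨ (chPow t 7).1 = 0) := by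
  decide

/-- `PSL(2,7)` has no element of order `6`, `14` or `21`. -/
theorem psl_seven_orderOf {F : Type*} [Field F] [Fintype F] (hF : Fintype.card F = 7)
    (x : Matrix.ProjectiveSpecialLinearGroup (Fin 2) F) :
    orderOf x ≠ 6 ∧ orderOf x ≠ 14 ∧ orderOf x ≠ 21 := by
  have : Fact (Nat.Prime 7) := ⟨by norm_num⟩
  have : CharP F 7 := charP_of_card_eq_prime_pow (f := 1) (by simpa using hF)
  obtain ⟨g, rfl⟩ := QuotientGroup.mk_surjective x
  obtain ⟨f, hf⟩ : ∃ f : ZMod 7 →+* F, Function.Bijective f :=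
    ⟨ZMod.castHom (dvd_refl 7) F, (Fintype.bijective_iff_injective_and_card _).mpr
      ⟨ZMod.castHom_injective F, by rw [ZMod.card, hF]⟩⟩
  obtain ⟨t, ht⟩ := hf.2 (g.1 0 0 + g.1 1 1)
  let z := fun n : ℕ => (chPow t n).1 = 0
  have hzero : ∀ n : ℕ, (chPow t n).1 = 0 → (QuotientGroup.mk g : Matrix.ProjectiveSpecialLinearGroup (Fin 2) F) ^ n = 1 := by
    intro n hn
    rw [← QuotientGroup.mk_pow, QuotientGroup.eq_one_iff, Matrix.SpecialLinearGroup.mem_center_iff]
    have h := pow_eq_chPow g n
    rw [← ht, map_chPow, hn, map_zero, zero_smul, zero_add] at h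
    refine ⟨f (chPow t n).2, ?_, ?_⟩
    · have hd := (g ^ n).2
      rw [h, Matrix.det_smul, Matrix.det_one, mul_one] at hd
      exact hd
    · rw [h]
      simp [Matrix.smul_one_eq_diagonal]
  have hone : ∀ n : ℕ, (QuotientGroup.mk g : Matrix.ProjectiveSpecialLinearGroup (Fin 2) F) ^ n = 1 →
      (chPow t n).1 = 0 ∨ (QuotientGroup.mk g : Matrix.ProjectiveSpecialLinearGroup (Fin 2) F) = 1 := by
    intro n hn
    rw [← QuotientGroup.mk_pow, QuotientGroup.eq_one_iff, Matrix.SpecialLinearGroup.mem_center_iff] at hn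
    obtain ⟨r, -, hr⟩ := hn
    rw [pow_eq_chPow g n, ← ht, map_chPow] at hr
    by_cases ha : (chPow t n).1 = 0
    · exact Or.inl ha
    right
    have ha' : f (chPow t n).1 ≠ 0 := fun h => ha (hf.1 (h.trans f.map_zero.symm))
    rw [QuotientGroup.eq_one_iff, Matrix.SpecialLinearGroup.mem_center_iff]
    have e00 := congrFun (congrFun hr 0) 0
    have e11 := congrFun (congrFun hr 1) 1
    have e01 := congrFun (congrFun hr 0) 1
    have e10 := congrFun (congrFun hr 1) 0
    simp [ha'] at e00 e11 e01 e10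
    have hd : g.1 0 0 = g.1 1 1 := mul_left_cancel₀ ha' (by linear_combination e11 - e00)
    have hdet := g.2
    rw [Matrix.det_fin_two, e01, ← hd] at hdet
    refine ⟨g.1 0 0, ?_, ?_⟩
    · rw [Fintype.card_fin]; linear_combination hdet
    · ext i j
      fin_cases i <;> fin_cases j <;> simp [e01, e10, hd]
  have key : ∀ a b : ℕ, 1 < a → 1 < b → ((chPow t (a * b)).1 = 0 → (chPow t a).1 = 0 ∨ (chPow t b).1 = 0) →
      orderOf (QuotientGroup.mk g : Matrix.ProjectiveSpecialLinearGroup (Fin 2) F) ≠ a * b := by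
    intro a b ha hb h ho
    rcases hone _ (ho ▸ pow_orderOf_eq_one _) with h0 | h0
    · rcases h h0 with h1 | h1
      · have := Nat.le_of_dvd (by omega) (ho ▸ orderOf_dvd_of_pow_eq_one (hzero a h1))
        nlinarith
      · have := Nat.le_of_dvd (by omega) (ho ▸ orderOf_dvd_of_pow_eq_one (hzero b h1))
        nlinarith
    · rw [h0, orderOf_one] at ho
      nlinarith
  exact ⟨key 2 3 (by norm_num) (by norm_num) (chPow_seven t).1,
    key 2 7 (by norm_num) (by norm_num) (chPow_seven t).2.1,
    key 3 7 (by norm_num) (by norm_num) (chPow_seven t).2.2⟩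

/-- The prime graph of a finite group has the prime divisors of its order as vertices, two distinct primes p, q being joined when the group has an element of order pq; two groups have the same prime graph when they have the same prime divisors and the same joined pairs. Let F be the field with 7 elements. There are finite groups of arbitrarily large order with the same prime graph as PSL(2,F) (the graph on {2, 3, 7} with no edges, which is also the prime graph of PSL(2,8)). -/
theorem result {F : Type*} [Field F] [Fintype F] (hF : Fintype.card F = 7) (N : ℕ) :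
    ∃ (H : Type) (_ : Group H) (_ : Finite H), N < Nat.card H ∧
      ((∀ p : ℕ, p.Prime → (p ∣ Nat.card (Matrix.ProjectiveSpecialLinearGroup (Fin 2) F) ↔ p ∣ Nat.card H)) ∧
      (∀ p q : ℕ, p.Prime → q.Prime → p ≠ q → ((∃ g : (Matrix.ProjectiveSpecialLinearGroup (Fin 2) F), orderOf g = p * q) ↔ (∃ g : H, orderOf g = p * q)))) := by
  let K := GaloisField 2 3
  have : Fintype K := Fintype.ofFinite K
  have hK : Fintype.card K = 8 := by
    rw [← Nat.card_eq_fintype_card, GaloisField.card 2 3 (by norm_num)]; norm_num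
  obtain ⟨H, hg, hf, hc, h1, h2⟩ := CfsgLib.Recog.unbounded_sl2_primeGraph (F := K) N
  have h168 : Nat.card (Matrix.ProjectiveSpecialLinearGroup (Fin 2) F) = 168 :=
    CfsgLib.Classical.card_psl_two_eq hF 168 (by norm_num)
  have h504 : Nat.card (Matrix.SpecialLinearGroup (Fin 2) K) = 504 := by
    have h := CfsgLib.Classical.card_sl_mul (F := K) (n := 2) (by norm_num)
    rw [Fin.prod_univ_two, hK] at h
    norm_num at h
    omega
  refine ⟨H, hg, Finite.of_fintype H, by rwa [Nat.card_eq_fintype_card], ?_, ?_⟩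
  · intro p hp
    refine Iff.trans ?_ (h1 p hp)
    rw [h168, h504]
    refine ⟨fun h => h.trans (by norm_num), fun h => ?_⟩
    rcases hp.dvd_mul.mp (show p ∣ 168 * 3 from h) with h' | h'
    · exact h'
    · exact h'.trans (by norm_num)
  · intro p q hp hq hpq
    refine Iff.trans ?_ (h2 p q hp hq hpq)
    have hmem : ∀ r : ℕ, r.Prime → r ∣ 504 → r = 2 ∨ r = 3 ∨ r = 7 := by
      intro r hr h
      rcases hr.dvd_mul.mp (show r ∣ 2 ^ 3 * (3 ^ 2 * 7) from h) with h' | h'
      · exact Or.inl ((Nat.prime_dvd_prime_iff_eq hr Nat.prime_two).mp (hr.dvd_of_dvd_pow h'))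
      · rcases hr.dvd_mul.mp h' with h' | h'
        · exact Or.inr (Or.inl ((Nat.prime_dvd_prime_iff_eq hr Nat.prime_three).mp (hr.dvd_of_dvd_pow h')))
        · exact Or.inr (Or.inr ((Nat.prime_dvd_prime_iff_eq hr (by norm_num)).mp h'))
    have hl : ∀ x : Matrix.ProjectiveSpecialLinearGroup (Fin 2) F, orderOf x ≠ p * q := by
      intro x hx
      have hd : p * q ∣ 504 := (hx ▸ h168 ▸ orderOf_dvd_natCard x : p * q ∣ 168).trans (by norm_num)
      obtain ⟨a, b, c⟩ := psl_seven_orderOf hF x
      rcases hmem p hp ((dvd_mul_right p q).trans hd) with rfl | rfl | rfl <;>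
        rcases hmem q hq ((dvd_mul_left q _).trans hd) with rfl | rfl | rfl <;> omega
    have hr : ∀ x : Matrix.SpecialLinearGroup (Fin 2) K, orderOf x ≠ p * q := by
      intro x hx
      have hd : p * q ∣ 504 := hx ▸ h504 ▸ orderOf_dvd_natCard x
      have a := CfsgLib.Recog.sl2_orderOf_ne_two_mul Nat.prime_three (by norm_num) x
      have b := CfsgLib.Recog.sl2_orderOf_ne_two_mul (show Nat.Prime 7 by norm_num) (by norm_num) x
      have c := CfsgLib.Recog.sl2_orderOf_ne_twentyOne hK x
      rcases hmem p hp ((dvd_mul_right p q).trans hd) with rfl | rfl | rfl <;>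
        rcases hmem q hq ((dvd_mul_left q _).trans hd) with rfl | rfl | rfl <;> omega
    exact ⟨fun ⟨x, hx⟩ => absurd hx (hl x), fun ⟨x, hx⟩ => absurd hx (hr x)⟩

end Cfsg.Agent.S3678
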