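import Cfsg.Statements.S3680
import Mathlib
import Cfsg.Agent.S0721
import Cfsg.Agent.Lib.Perm.Basic
import Cfsg.Agent.Lib.Solvable.MinNormal

set_option autoImplicit false
open Cfsg
open MulAction

namespace Cfsg.Agent.S3680

variable {G Ω : Type*} [Group G] [MulAction G Ω]

theorem centralizer_semiregular [FaithfulSMul G Ω] (M : Subgroup G) [IsPretransitive M Ω]
    {l : G} (hl : ∀ m ∈ M, m * l = l * m) {a : Ω} (ha : l • a = a) : l = 1 := by
  refine eq_of_smul_eq_smul fun z : Ω => ?_
  obtain ⟨⟨m, hm⟩, rfl⟩ := exists_smul_eq M a z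
  rw [Subgroup.mk_smul, one_smul, smul_smul, ← hl m hm, mul_smul, ha]

theorem socle_primitive [Finite G] [FaithfulSMul G Ω] [Finite Ω] [IsPreprimitive G Ω] (N : Subgroup G)
    (hN : N = sSup {V : Subgroup G | V.Normal ∧ V ≠ ⊥ ∧ ∀ M : Subgroup G, M.Normal → M ≤ V → M = ⊥ ∨ M = V}) :
    (∃ p : ℕ, p.Prime ∧ IsMulCommutative N ∧ (∀ x : N, x ^ p = 1) ∧
      IsPretransitive N Ω ∧ ∀ ω : Ω, stabilizer N ω = ⊥) ∨
    (∃ (T : Type) (_ : Group T) (m : ℕ), 1 ≤ m ∧ IsSimpleGroup T ∧ ¬ IsMulCommutative T ∧ Nonempty (N ≃* (Fin m → T))) := by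
  classical
  rcases subsingleton_or_nontrivial Ω with hΩ | hΩ
  · left
    have h1 : ∀ g : G, g = 1 := fun g => eq_of_smul_eq_smul fun z : Ω => Subsingleton.elim _ _
    haveI : Subsingleton N := ⟨fun a b => Subtype.ext ((h1 a).trans (h1 b).symm)⟩
    exact ⟨2, Nat.prime_two, ⟨⟨fun a b => Subsingleton.elim _ _⟩⟩, fun x => Subsingleton.elim _ _,
      ⟨fun a b => ⟨1, Subsingleton.elim _ _⟩⟩, fun ω => Subsingleton.elim _ _⟩
  haveI : Nontrivial G := by
    obtain ⟨a, b, hab⟩ := exists_pair_ne Ω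
    obtain ⟨g, hg⟩ := exists_smul_eq G a b
    exact ⟨g, 1, fun e => hab (by rw [← hg, e, one_smul])⟩
  obtain ⟨M, hMn, hM0, hMmin⟩ := CfsgLib.Solvable.exists_minimal_normal (G := G)
  haveI := hMn
  haveI hMt : IsPretransitive M Ω := CfsgLib.Perm.normal_isPretransitive hM0
  set 𝒮 := {V : Subgroup G | V.Normal ∧ V ≠ ⊥ ∧ ∀ M : Subgroup G, M.Normal → M ≤ V → M = ⊥ ∨ M = V}
  have hMS : M ∈ 𝒮 := ⟨hMn, hM0, hMmin⟩
  obtain ⟨a⟩ : Nonempty Ω := inferInstance
  -- minimal normal subgroups other than M centralise M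
  have hother : ∀ L ∈ 𝒮, L ≠ M → L ⊓ M = ⊥ ∧ (∀ l ∈ L, ∀ m ∈ M, m * l = l * m) := by
    rintro L ⟨hLn, hL0, hLmin⟩ hne
    haveI := hLn
    have hdis : L ⊓ M = ⊥ := by
      haveI hI : (L ⊓ M).Normal := inferInstance
      rcases hLmin (L ⊓ M) hI inf_le_left with h | h
      · exact h
      · rcases hMmin (L ⊓ M) hI inf_le_right with h' | h'
        · exact h'
        · exact absurd (h.symm.trans h') hne
    exact ⟨hdis, fun l hl m hm =>
      Subgroup.commute_of_normal_of_disjoint M L hMn hLn (disjoint_iff.mpr (inf_comm M L ▸ hdis)) m l hm hl⟩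
  by_cases hab : IsMulCommutative M
  · left
    have huniq : ∀ L ∈ 𝒮, L = M := by
      intro L hL
      by_contra hne
      obtain ⟨hdis, hcom⟩ := hother L hL hne
      haveI := hL.1
      apply hL.2.1
      rw [Subgroup.eq_bot_iff_forall]
      intro l hl
      obtain ⟨⟨m, hm⟩, hma⟩ := exists_smul_eq M a (l • a)
      have : m⁻¹ * l = 1 := by
        refine centralizer_semiregular M (fun m' hm' => ?_) (a := a) (by rw [mul_smul, inv_smul_eq_iff]; exact hma.symm)
        have hc : m' * m⁻¹ = m⁻¹ * m' := congrArg Subtype.val (hab.is_comm.comm (⟨m', hm'⟩ : M) ⟨m⁻¹, M.inv_mem hm⟩)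
        rw [← mul_assoc, hc, mul_assoc, hcom l hl m' hm', mul_assoc]
      have hlm : l = m := (inv_mul_eq_one.mp this).symm
      have : l ∈ L ⊓ M := ⟨hl, hlm ▸ hm⟩
      rwa [hdis, Subgroup.mem_bot] at this
    have hNM : N = M := by
      rw [hN]
      exact le_antisymm (sSup_le fun L hL => (huniq L hL).le) (le_sSup hMS)
    subst hNM
    obtain ⟨p, hp, hpow⟩ := CfsgLib.Solvable.exists_prime_pow_eq_one_of_minimal_normal (N := N) hM0 hMmin
    refine ⟨p, hp, hab, fun x => Subtype.ext (hpow x x.2), hMt, fun ω => ?_⟩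
    rw [Subgroup.eq_bot_iff_forall]
    intro x hx
    exact Subtype.ext (centralizer_semiregular N (fun m hm =>
      congrArg Subtype.val (hab.is_comm.comm (⟨m, hm⟩ : N) x)) hx)
  right
  obtain ⟨T, iT, m, hT, hm, ⟨e⟩⟩ := Cfsg.Agent.S0721.result M hM0 hMmin
  have hTna : ¬ IsMulCommutative T := by
    intro h
    apply hab
    exact ⟨⟨fun x y => e.injective (funext fun i => by
      rw [map_mul, map_mul, Pi.mul_apply, Pi.mul_apply]; exact h.is_comm.comm _ _)⟩⟩
  by_cases hone : ∀ L ∈ 𝒮, L = M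
  · have hNM : N = M := by
      rw [hN]
      exact le_antisymm (sSup_le fun L hL => (hone L hL).le) (le_sSup hMS)
    subst hNM
    exact ⟨T, iT, m, hm, hT, hTna, ⟨e⟩⟩
  push Not at hone
  obtain ⟨L, hL, hLM⟩ := hone
  obtain ⟨hdis, hcom⟩ := hother L hL hLM
  haveI := hL.1
  haveI hLt : IsPretransitive L Ω := CfsgLib.Perm.normal_isPretransitive hL.2.1
  -- every element commuting with M lies in L
  have hCL : ∀ c : G, (∀ x ∈ M, x * c = c * x) → c ∈ L := by
    intro c hc
    obtain ⟨⟨l, hl⟩, hla⟩ := exists_smul_eq L a (c • a)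
    have : c⁻¹ * l = 1 := by
      refine centralizer_semiregular M (fun x hx => ?_) (a := a) (by rw [mul_smul, inv_smul_eq_iff]; exact hla)
      have h1 : x * c⁻¹ = c⁻¹ * x := ((Commute.inv_left (Commute.symm (hc x hx))).symm : _)
      rw [← mul_assoc, h1, mul_assoc, hcom l hl x hx, mul_assoc]
    rw [inv_mul_eq_one] at this
    exact this ▸ hl
  have hsoc : N = M ⊔ L := by
    rw [hN]
    refine le_antisymm (sSup_le fun V hV => ?_) (sup_le (le_sSup hMS) (le_sSup hL))
    by_cases hVM : V = M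
    · exact hVM.le.trans le_sup_left
    · obtain ⟨-, hc⟩ := hother V hV hVM
      exact fun v hv => Subgroup.mem_sup_right (hCL v (fun x hx => hc v hv x hx))
  -- M ≅ L
  have hMreg : ∀ x ∈ M, x • a = a → x = 1 := fun x hx hxa =>
    centralizer_semiregular L (fun l hl => (hcom l hl x hx).symm) hxa
  have hLreg : ∀ x ∈ L, x • a = a → x = 1 := fun x hx hxa =>
    centralizer_semiregular M (fun m hm => hcom x hx m hm) hxa
  have hex : ∀ x : M, ∃ l : L, (l : G) • a = (x : G)⁻¹ • a := fun x => exists_smul_eq L a _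
  choose f hf using hex
  let φ : M →* L := MonoidHom.mk' f fun x y => by
    apply Subtype.ext
    have h1 : ((f x : G) * f y) • a = ((x * y : M) : G)⁻¹ • a := by
      rw [mul_smul, hf y, smul_smul, ← hcom (f x) (f x).2 _ (M.inv_mem y.2), mul_smul, hf x,
        smul_smul, Subgroup.coe_mul, mul_inv_rev]
    have : (f (x * y) : G)⁻¹ * ((f x : G) * f y) = 1 := by
      refine hLreg _ (L.mul_mem (L.inv_mem (f (x * y)).2) (L.mul_mem (f x).2 (f y).2)) ?_
      rw [mul_smul, h1, inv_smul_eq_iff, hf]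
    exact inv_mul_eq_one.mp this
  have hφ : Function.Bijective φ := by
    constructor
    · rw [injective_iff_map_eq_one]
      intro x hx
      have h1 : (f x : G) = 1 := congrArg Subtype.val (show f x = 1 from hx)
      have h2 := hf x
      rw [h1, one_smul] at h2
      exact Subtype.ext (inv_eq_one.mp (hMreg _ (M.inv_mem x.2) h2.symm))
    · intro l
      obtain ⟨x, hx⟩ := exists_smul_eq M a ((l : G) • a)
      refine ⟨x⁻¹, Subtype.ext ?_⟩
      have : (f x⁻¹ : G)⁻¹ * l = 1 := by
        refine hLreg _ (L.mul_mem (L.inv_mem (f x⁻¹).2) l.2) ?_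
        rw [mul_smul, inv_smul_eq_iff, hf, Subgroup.coe_inv, inv_inv]
        exact hx.symm
      exact inv_mul_eq_one.mp this
  let eML : M ≃* L := MulEquiv.ofBijective φ hφ
  let ψ : M × L →* G := MonoidHom.noncommCoprod M.subtype L.subtype fun x l => hcom l l.2 x x.2
  have hψi : Function.Injective ψ := by
    rw [injective_iff_map_eq_one]
    rintro ⟨x, l⟩ h
    have h' : (x : G) * l = 1 := h
    have h1 : (x : G) ∈ L ⊓ M := ⟨by rw [eq_inv_of_mul_eq_one_left h']; exact L.inv_mem l.2, x.2⟩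
    rw [hdis, Subgroup.mem_bot] at h1
    rw [h1, one_mul] at h'
    exact Prod.ext (Subtype.ext h1) (Subtype.ext h')
  have hψr : ψ.range = N := by
    rw [hsoc]
    refine (MonoidHom.noncommCoprod_range _ _ _).trans ?_
    rw [Subgroup.range_subtype, Subgroup.range_subtype]
  let eN : N ≃* M × L := ((MonoidHom.ofInjective hψi).trans (MulEquiv.subgroupCongr hψr)).symm
  let eT : (Fin m → T) × (Fin m → T) ≃* (Fin (m + m) → T) :=
    { toEquiv := (Equiv.sumArrowEquivProdArrow (Fin m) (Fin m) T).symm.trans (Equiv.arrowCongr finSumFinEquiv (Equiv.refl T))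
      map_mul' := fun x y => by
        funext i
        obtain ⟨i, rfl⟩ := finSumFinEquiv.surjective i
        change (Equiv.sumArrowEquivProdArrow (Fin m) (Fin m) T).symm (x * y) (finSumFinEquiv.symm (finSumFinEquiv i)) =
          (Equiv.sumArrowEquivProdArrow (Fin m) (Fin m) T).symm x (finSumFinEquiv.symm (finSumFinEquiv i)) *
          (Equiv.sumArrowEquivProdArrow (Fin m) (Fin m) T).symm y (finSumFinEquiv.symm (finSumFinEquiv i))
        rw [Equiv.symm_apply_apply]
        cases i <;> rfl }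
  exact ⟨T, iT, m + m, by omega, hT, hTna, ⟨eN.trans ((e.prodCongr (eML.symm.trans e)).trans eT)⟩⟩

/-- The socle of a finite primitive permutation group. Let a finite group G act faithfully and primitively on a set Ω, and let N be the subgroup generated by the minimal normal subgroups of G. Then either N is an elementary abelian p-group for some prime p and acts regularly on Ω (transitively with trivial point stabilizers), or N is isomorphic to a direct product of m ≥ 1 copies of a non-abelian simple group. -/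
theorem result {G Ω : Type*} [Group G] [Finite G] [MulAction G Ω] [FaithfulSMul G Ω] [Finite Ω]
    (hprim : MulAction.IsPreprimitive G Ω) (N : Subgroup G)
    (hN : N = sSup {V : Subgroup G | V.Normal ∧ V ≠ ⊥ ∧ ∀ M : Subgroup G, M.Normal → M ≤ V → M = ⊥ ∨ M = V}) :
    (∃ p : ℕ, p.Prime ∧ IsMulCommutative N ∧ (∀ x : N, x ^ p = 1) ∧
      MulAction.IsPretransitive N Ω ∧ ∀ ω : Ω, MulAction.stabilizer N ω = ⊥) ∨
    (∃ (T : Type) (_ : Group T) (m : ℕ), 1 ≤ m ∧ IsSimpleGroup T ∧ ¬ IsMulCommutative T ∧ Nonempty (N ≃* (Fin m → T))) := by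
  classical
  haveI := hprim
  exact socle_primitive N hN

end Cfsg.Agent.S3680
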