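import Cfsg.Statements.S3682
import Cfsg.Agent.Lib.Recog.ThompsonWielandtBound

set_option autoImplicit false
open Cfsg

namespace Cfsg.Agent.S3682

/-- Wielandt's bound toward the Sims conjecture. Let a finite group G act faithfully and primitively on a set Ω, let a and b be points, and suppose the orbit of b under the stabilizer of a has length d ≥ 2. Then there are a prime p and a normal p-subgroup P of the stabilizer of a, all of whose elements fix b, such that the index of P in the stabilizer of a divides d! · ((d - 1)!)^d. -/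
theorem result {G Ω : Type*} [Group G] [Finite G] [MulAction G Ω] [FaithfulSMul G Ω] [Finite Ω]
    (hprim : MulAction.IsPreprimitive G Ω) (a b : Ω) (d : ℕ) (hd : Nat.card (MulAction.orbit (MulAction.stabilizer G a) b) = d) (h2 : 2 ≤ d) :
    ∃ p : ℕ, p.Prime ∧ ∃ P : Subgroup (MulAction.stabilizer G a), P.Normal ∧ IsPGroup p P ∧ (∀ g : P, ((g : MulAction.stabilizer G a) : G) • b = b) ∧
      P.index ∣ Nat.factorial d * (Nat.factorial (d - 1)) ^ d := by
  obtain ⟨O, hab, hout, hin⟩ := CfsgLib.Recog.TW.exists_orbital hprim a b d hd h2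
  obtain ⟨p, hp, P, hPK, hPn, hPp, hdvd⟩ := O.exists_bounded_index hout hin a
  have hPH : P ≤ MulAction.stabilizer G a := hPK.trans (O.K_le a)
  refine ⟨p, hp, P.subgroupOf _, (Subgroup.normal_subgroupOf_iff_le_normalizer hPH).2 hPn,
    hPp.of_equiv (Subgroup.subgroupOfEquivOfLe hPH).symm, fun g => O.K_le_nbr hab (hPK g.2), ?_⟩
  rw [← Subgroup.index_mul_card (P.subgroupOf (MulAction.stabilizer G a)),
    Nat.card_congr (Subgroup.subgroupOfEquivOfLe hPH).toEquiv] at hdvd
  exact Nat.dvd_of_mul_dvd_mul_right Nat.card_pos hdvd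

end Cfsg.Agent.S3682
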