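import Cfsg.Statements.S3683


set_option autoImplicit false
open Cfsg

namespace Cfsg.Agent.S3683

theorem stabilizer_le_prim {G Ω : Type*} [Group G] [MulAction G Ω] (hprim : MulAction.IsPreprimitive G Ω)
    {a b : Ω} (hab : a ≠ b) : IsCoatom (MulAction.stabilizer G a) := by
  have : Nontrivial Ω := ⟨⟨a, b, hab⟩⟩
  exact MulAction.IsPreprimitive.isCoatom_stabilizer_of_isPreprimitive G a

/-- Let a finite group G act faithfully and primitively on a set Ω, and suppose the stabilizer of a point a fixes a second point b ≠ a (a suborbit of length 1 other than {a}). Then the stabilizer of a is trivial and G is cyclic of prime order. -/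
theorem result {G Ω : Type*} [Group G] [Finite G] [MulAction G Ω] [FaithfulSMul G Ω] [Finite Ω]
    (hprim : MulAction.IsPreprimitive G Ω) (a b : Ω) (hab : a ≠ b) (hfix : ∀ g : G, g • a = a → g • b = b) :
    MulAction.stabilizer G a = ⊥ ∧ IsCyclic G ∧ (Nat.card G).Prime := by
  have : Nontrivial Ω := ⟨⟨a, b, hab⟩⟩
  set S := MulAction.stabilizer G a with hS
  have hca : IsCoatom S := stabilizer_le_prim hprim hab
  have hcb : IsCoatom (MulAction.stabilizer G b) := stabilizer_le_prim hprim hab.symm
  have heq : S = MulAction.stabilizer G b :=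
    (hca.le_iff.mp (fun g hg => hfix g hg)).resolve_left hcb.1 |>.symm
  obtain ⟨g, hg⟩ := MulAction.exists_smul_eq G a b
  have hgS : g ∉ S := fun h => hab (h.symm.trans hg)
  have hnorm : Subgroup.normalizer (S : Set G) = ⊤ := by
    refine (hca.le_iff.mp Subgroup.le_normalizer).resolve_right fun h => hgS (h ▸ ?_)
    rw [Subgroup.mem_normalizer_iff]
    intro h
    have e : S = (MulAction.stabilizer G a).map (MulAut.conj g).toMonoidHom := by
      rw [← MulAction.stabilizer_smul_eq_stabilizer_map_conj, hg, ← heq]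
    conv_rhs => rw [e]
    rw [← hS, Subgroup.mem_map_equiv]
    simp [mul_assoc]
  have hn : S.Normal := Subgroup.normalizer_eq_top_iff.mp hnorm
  have hbot : S = ⊥ := by
    rw [Subgroup.eq_bot_iff_forall]
    intro x hx
    refine FaithfulSMul.eq_of_smul_eq_smul (α := Ω) fun c => ?_
    obtain ⟨k, rfl⟩ := MulAction.exists_smul_eq G a c
    rw [one_smul]
    have h : (k⁻¹ * x * k⁻¹⁻¹) • a = a := hn.conj_mem x hx k⁻¹
    rw [inv_inv, mul_smul, mul_smul, inv_smul_eq_iff] at h
    exact h
  refine ⟨hbot, ?_⟩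
  rw [hbot] at hca
  have : Nontrivial G := ⟨⟨g, 1, fun h => hgS (h ▸ one_mem _)⟩⟩
  obtain ⟨p, hp, hpd⟩ := Nat.exists_prime_and_dvd (Finite.one_lt_card (α := G)).ne'
  have : Fact p.Prime := ⟨hp⟩
  obtain ⟨x, hx⟩ := exists_prime_orderOf_dvd_card' p hpd
  have htop : Subgroup.zpowers x = ⊤ := (hca.le_iff.mp bot_le).resolve_right fun h => by
    rw [Subgroup.zpowers_eq_bot] at h
    rw [h, orderOf_one] at hx
    exact hp.ne_one hx.symm
  have hc : Nat.card G = p := by
    rw [← Subgroup.card_top, ← htop, Nat.card_zpowers, hx]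
  exact ⟨isCyclic_of_prime_card hc, hc ▸ hp⟩

end Cfsg.Agent.S3683
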