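import Cfsg.Statements.S3684
import Cfsg.Agent.Lib.Invol.Dihedral

set_option autoImplicit false
open Cfsg

namespace Cfsg.Agent.S3684

theorem stabilizer_coatom {G Ω : Type*} [Group G] [MulAction G Ω] (hprim : MulAction.IsPreprimitive G Ω)
    {a b : Ω} (hab : a ≠ b) : IsCoatom (MulAction.stabilizer G a) := by
  have : Nontrivial Ω := ⟨⟨a, b, hab⟩⟩
  exact MulAction.IsPreprimitive.isCoatom_stabilizer_of_isPreprimitive G a

theorem card_stabilizer_eq {G Ω : Type*} [Group G] [MulAction G Ω] [MulAction.IsPretransitive G Ω] (a b : Ω) :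
    Nat.card (MulAction.stabilizer G a) = Nat.card (MulAction.stabilizer G b) := by
  obtain ⟨g, rfl⟩ := MulAction.exists_smul_eq G a b
  exact Nat.card_congr (MulAction.stabilizerEquivStabilizerOfOrbitRel ⟨g, rfl⟩).toEquiv.symm

/-- Let a finite group G act faithfully and primitively on a set Ω, and suppose the stabilizer of a point a has an orbit of length 2. Then the stabilizer of a has order 2 and G is isomorphic to the dihedral group of order 2p for some prime p. -/
theorem result {G Ω : Type*} [Group G] [Finite G] [MulAction G Ω] [FaithfulSMul G Ω] [Finite Ω]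
    (hprim : MulAction.IsPreprimitive G Ω) (a b : Ω) (h2 : Nat.card (MulAction.orbit (MulAction.stabilizer G a) b) = 2) :
    Nat.card (MulAction.stabilizer G a) = 2 ∧ ∃ p : ℕ, p.Prime ∧ Nonempty (G ≃* DihedralGroup p) := by
  have hab : a ≠ b := by
    rintro rfl
    have : MulAction.orbit (MulAction.stabilizer G a) a = {a} := by
      ext x
      exact ⟨fun ⟨s, hs⟩ => by rw [← hs]; exact s.2, fun h => by rw [Set.mem_singleton_iff.mp h]; exact MulAction.mem_orbit_self _⟩
    rw [this] at h2
    simp at h2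
  set A := MulAction.stabilizer G a with hA
  set B := MulAction.stabilizer G b with hB
  have hca : IsCoatom A := stabilizer_coatom hprim hab
  have hcb : IsCoatom B := stabilizer_coatom hprim hab.symm
  have hrA : (A ⊓ B).relIndex A = 2 := by
    rw [Subgroup.inf_relIndex_left, ← h2, Subgroup.relIndex,
      show B.subgroupOf A = MulAction.stabilizer A b from rfl, MulAction.index_stabilizer,
      Nat.card_coe_set_eq]
  have hcAB : Nat.card A = Nat.card B := card_stabilizer_eq a b
  have hne : A ≠ B := fun h => by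
    rw [h, inf_idem, Subgroup.relIndex_self] at hrA
    exact absurd hrA (by norm_num)
  have hcard : ∀ X : Subgroup G, A ⊓ B ≤ X → Nat.card (A ⊓ B : Subgroup G) * (A ⊓ B).relIndex X = Nat.card X :=
    fun X hX => by
      rw [← Subgroup.relIndex_bot_left (A ⊓ B), ← Subgroup.relIndex_bot_left X,
        Subgroup.relIndex_mul_relIndex _ _ _ bot_le hX]
  have hrB : (A ⊓ B).relIndex B = 2 := by
    have e1 := hcard A inf_le_left
    have e2 := hcard B inf_le_right
    rw [hrA, hcAB, ← e2] at e1
    exact (Nat.eq_of_mul_eq_mul_left Nat.card_pos e1).symm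
  have hnA : A ≤ Subgroup.normalizer ((A ⊓ B : Subgroup G) : Set G) :=
    (Subgroup.normal_subgroupOf_iff_le_normalizer inf_le_left).mp
      (Subgroup.normal_of_index_eq_two hrA)
  have hnB : B ≤ Subgroup.normalizer ((A ⊓ B : Subgroup G) : Set G) :=
    (Subgroup.normal_subgroupOf_iff_le_normalizer inf_le_right).mp
      (Subgroup.normal_of_index_eq_two hrB)
  have hsup : A ⊔ B = ⊤ := (hca.le_iff.mp le_sup_left).resolve_right fun h => by
    rcases hcb.le_iff.mp (h ▸ le_sup_right : B ≤ A) with h' | h'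
    · exact hca.1 h'
    · exact hne h'
  have hnorm : (A ⊓ B).Normal :=
    Subgroup.normalizer_eq_top_iff.mp (top_le_iff.mp (hsup ▸ sup_le hnA hnB))
  have hbot : A ⊓ B = ⊥ := by
    rw [Subgroup.eq_bot_iff_forall]
    intro x hx
    refine FaithfulSMul.eq_of_smul_eq_smul (α := Ω) fun c => ?_
    obtain ⟨k, rfl⟩ := MulAction.exists_smul_eq G a c
    rw [one_smul]
    have h : (k⁻¹ * x * k⁻¹⁻¹) • a = a := (hnorm.conj_mem x hx k⁻¹).1
    rw [inv_inv, mul_smul, mul_smul, inv_smul_eq_iff] at h
    exact h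
  have hA2 : Nat.card A = 2 := by rw [← hcard A inf_le_left, hrA, hbot]; simp
  have hB2 : Nat.card B = 2 := hcAB ▸ hA2
  refine ⟨hA2, ?_⟩
  have hgen : ∀ X : Subgroup G, Nat.card X = 2 → ∃ x, orderOf x = 2 ∧ X = Subgroup.zpowers x := by
    intro X hX
    obtain ⟨x, hx⟩ := exists_prime_orderOf_dvd_card' (G := X) 2 (by rw [hX])
    refine ⟨x, by rw [Subgroup.orderOf_coe, hx], (Subgroup.eq_of_le_of_card_ge
      (Subgroup.zpowers_le.mpr x.2) ?_).symm⟩
    rw [Nat.card_zpowers, Subgroup.orderOf_coe, hx, hX]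
  obtain ⟨t, ht, htA⟩ := hgen A hA2
  obtain ⟨u, hu, huB⟩ := hgen B hB2
  have htu : t ≠ u := fun h => hne (by rw [htA, huB, h])
  obtain ⟨e⟩ := CfsgLib.Invol.dihedral_of_pair ht hu htu
  have hcl : Subgroup.closure ({t, u} : Set G) = ⊤ := by
    refine top_le_iff.mp (hsup ▸ ?_)
    rw [htA, huB, sup_le_iff, Subgroup.zpowers_le, Subgroup.zpowers_le]
    exact ⟨Subgroup.subset_closure (by simp), Subgroup.subset_closure (by simp)⟩
  let e' : G ≃* DihedralGroup (orderOf (t * u)) :=
    (Subgroup.topEquiv.symm.trans (MulEquiv.subgroupCongr hcl.symm)).trans e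
  refine ⟨orderOf (t * u), ?_, ⟨e'⟩⟩
  set n := orderOf (t * u) with hn
  have hn1 : n ≠ 1 := by
    intro h
    rw [hn, orderOf_eq_one_iff] at h
    have ht2 : t * t = 1 := by rw [← pow_two]; exact ht ▸ pow_orderOf_eq_one t
    exact htu (mul_left_cancel (ht2.trans h.symm))
  obtain ⟨q, hq, hqn⟩ := Nat.exists_prime_and_dvd hn1
  by_contra hnp
  obtain ⟨c, hc⟩ := hqn
  have hc1 : c ≠ 1 := fun h => hnp (by rw [hc, h, mul_one]; exact hq)
  have hn0 : n ≠ 0 := (orderOf_pos _).ne'
  have hc0 : c ≠ 0 := fun h => hn0 (by rw [hc, h, mul_zero])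
  -- the subgroup generated by `t` and the `c`-th power of the rotation
  set r := t * u with hr
  have hor : orderOf (r ^ c) = q := by
    rw [orderOf_pow' r hc0, ← hn, hc, Nat.gcd_mul_left_left, Nat.mul_div_cancel _ (Nat.pos_of_ne_zero hc0)]
  have hR : Nat.card (Subgroup.zpowers (r ^ c)) = q := by rw [Nat.card_zpowers, hor]
  have htt : t * t = 1 := by rw [← pow_two]; exact ht ▸ pow_orderOf_eq_one t
  have huu : u * u = 1 := by rw [← pow_two]; exact hu ▸ pow_orderOf_eq_one u
  have hti : t⁻¹ = t := inv_eq_of_mul_eq_one_right htt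
  have hinv : t * r * t⁻¹ = r⁻¹ := by
    rw [hr, mul_inv_rev, inv_eq_of_mul_eq_one_right huu, hti, ← mul_assoc, htt, one_mul]
  have hnR : A ≤ Subgroup.normalizer ((Subgroup.zpowers (r ^ c) : Subgroup G) : Set G) := by
    rw [htA, Subgroup.zpowers_le, Subgroup.mem_normalizer_iff]
    have hc' : t * r ^ c * t⁻¹ = (r ^ c)⁻¹ := by rw [← conj_pow, hinv, inv_pow]
    intro h
    constructor
    · intro hh
      obtain ⟨i, rfl⟩ := Subgroup.mem_zpowers_iff.mp hh
      rw [← conj_zpow, hc']
      exact Subgroup.zpow_mem _ (inv_mem (Subgroup.mem_zpowers _)) i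
    · intro hh
      obtain ⟨i, hi⟩ := Subgroup.mem_zpowers_iff.mp hh
      have e2 : h = t * ((r ^ c) ^ i) * t⁻¹ := by
        rw [hi, hti]
        calc h = (t * t) * h * (t * t) := by rw [htt, one_mul, mul_one]
          _ = t * (t * h * t) * t := by group
      rw [e2, ← conj_zpow, hc']
      exact Subgroup.zpow_mem _ (inv_mem (Subgroup.mem_zpowers _)) i
  have : NeZero n := ⟨hn0⟩
  have hGn : Nat.card G = 2 * n := by rw [Nat.card_congr e'.toEquiv, DihedralGroup.nat_card]
  rcases hca.le_iff.mp (le_sup_left : A ≤ A ⊔ Subgroup.zpowers (r ^ c)) with h | h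
  · have h1 := Subgroup.coe_mul_of_left_le_normalizer_right A (Subgroup.zpowers (r ^ c)) hnR
    have h2' : Nat.card G ≤ Nat.card A * Nat.card (Subgroup.zpowers (r ^ c)) := by
      rw [← Nat.card_univ, ← Subgroup.coe_top, ← h, h1]
      exact Set.natCard_mul_le
    rw [hGn, hA2, hR, hc] at h2'
    have : 2 ≤ c := by omega
    have := hq.two_le
    nlinarith
  · have hmem : r ^ c ∈ A := h ▸ (le_sup_right : _ ≤ A ⊔ Subgroup.zpowers (r ^ c)) (Subgroup.mem_zpowers _)
    have hq2 : q ∣ 2 := by
      rw [← hor, ← hA2, ← Subgroup.orderOf_mk _ hmem]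
      exact orderOf_dvd_natCard _
    have hq' : q = 2 := (Nat.prime_dvd_prime_iff_eq hq Nat.prime_two).mp hq2
    -- then `t` is a central rotation
    have hrc : r ^ c = t := by
      have h' : Subgroup.zpowers (r ^ c) = A := Subgroup.eq_of_le_of_card_ge (Subgroup.zpowers_le.mpr hmem) (by rw [hR, hA2, hq'])
      have ht' : t ∈ Subgroup.zpowers (r ^ c) := h' ▸ htA ▸ Subgroup.mem_zpowers t
      obtain ⟨i, hi⟩ := Subgroup.mem_zpowers_iff.mp ht'
      have hrr : (r ^ c) ^ (2 : ℤ) = 1 := by
        rw [show (2 : ℤ) = ((q : ℕ) : ℤ) by simp [hq'], zpow_natCast, ← hor, pow_orderOf_eq_one]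
      rcases Int.emod_two_eq i with he | he <;>
        rw [← Int.emod_add_mul_ediv i 2, zpow_add, zpow_mul, hrr, one_zpow, mul_one, he] at hi
      · rw [zpow_zero] at hi
        exact absurd hi.symm (fun e => by rw [e, orderOf_one] at ht; omega)
      · rwa [zpow_one] at hi
    have hcomm : Commute t r := hrc ▸ (Commute.refl r).pow_left c
    apply hne
    have hu' : Commute t u := by
      have h' : u = t * r := by rw [hr, ← mul_assoc, htt, one_mul]
      exact h' ▸ (Commute.refl t).mul_right hcomm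
    -- commuting generators make `A` normal
    have hnA' : A.Normal := by
      apply Subgroup.normalizer_eq_top_iff.mp
      rw [eq_top_iff, ← hcl, Subgroup.closure_le, htA]
      rintro x (rfl | rfl)
      · exact Subgroup.le_normalizer (Subgroup.mem_zpowers _)
      · refine Subgroup.mem_normalizer_iff.mpr fun z => ?_
        constructor
        · intro hz
          obtain ⟨i, rfl⟩ := Subgroup.mem_zpowers_iff.mp hz
          rw [(hu'.symm.zpow_right i).eq, mul_inv_cancel_right]
          exact Subgroup.zpow_mem _ (Subgroup.mem_zpowers _) i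
        · intro hz
          obtain ⟨i, hi⟩ := Subgroup.mem_zpowers_iff.mp hz
          have : z = x⁻¹ * t ^ i * x := by rw [hi]; group
          rw [this, mul_assoc, (hu'.zpow_left i).eq, inv_mul_cancel_left]
          exact Subgroup.zpow_mem _ (Subgroup.mem_zpowers _) i
    obtain ⟨g, hg⟩ := MulAction.exists_smul_eq G a b
    have hB' : B = A.map (MulAut.conj g).toMonoidHom := by
      rw [hB, ← hg, MulAction.stabilizer_smul_eq_stabilizer_map_conj]
    rw [hB']
    ext z
    rw [Subgroup.mem_map_equiv]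
    simp only [MulAut.conj_symm_apply]
    exact ⟨fun hz => by simpa using hnA'.conj_mem z hz g⁻¹, fun hz => by simpa [mul_assoc] using hnA'.conj_mem _ hz g⟩

end Cfsg.Agent.S3684
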