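import Cfsg.Statements.S3686
import Cfsg.Agent.Lib.Recog.SimsThreeMain
import Cfsg.Agent.Lib.Recog.SuborbitThree.Small
import Cfsg.Agent.Lib.Recog.SuborbitThree.TwelveSplit
import Cfsg.Agent.Lib.Recog.SuborbitThree.CaseFour
import Cfsg.Agent.Lib.Recog.SuborbitThree.Times

set_option autoImplicit false
open Cfsg

namespace Cfsg.Agent.S3686

/-- Let G be a finite insoluble group acting faithfully and primitively on a set Ω so that the stabilizer of a point a has an orbit of length 3. Then G is isomorphic to one of: the alternating or the symmetric group of degree 5, PGL(2, 7), PSL(2, 11), PSL(2, 13), PSL(2, p) for a prime p ≡ ±1 (mod 16), PSL(3, 3), or a group containing a normal subgroup of index 2 isomorphic to PSL(3, 3) with trivial centralizer. -/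
theorem result {G Ω : Type*} [Group G] [Finite G] [MulAction G Ω] [FaithfulSMul G Ω] [Finite Ω]
    (hsol : ¬ Group.IsSolvable G) (hprim : MulAction.IsPreprimitive G Ω) (a b : Ω) (h3 : Nat.card (MulAction.orbit (MulAction.stabilizer G a) b) = 3) :
    Nonempty (G ≃* alternatingGroup (Fin 5)) ∨ Nonempty (G ≃* Equiv.Perm (Fin 5)) ∨
      Nonempty (G ≃* GL (Fin 2) (ZMod 7) ⧸ Subgroup.center (GL (Fin 2) (ZMod 7))) ∨
      Nonempty (G ≃* Matrix.ProjectiveSpecialLinearGroup (Fin 2) (ZMod 11)) ∨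
      Nonempty (G ≃* Matrix.ProjectiveSpecialLinearGroup (Fin 2) (ZMod 13)) ∨
      (∃ p : ℕ, p.Prime ∧ (p % 16 = 1 ∨ p % 16 = 15) ∧ Nonempty (G ≃* Matrix.ProjectiveSpecialLinearGroup (Fin 2) (ZMod p))) ∨
      Nonempty (G ≃* Matrix.ProjectiveSpecialLinearGroup (Fin 3) (ZMod 3)) ∨
      (∃ N : Subgroup G, N.Normal ∧ N.index = 2 ∧ Subgroup.centralizer (N : Set G) = ⊥ ∧
        Nonempty (N ≃* Matrix.ProjectiveSpecialLinearGroup (Fin 3) (ZMod 3))) := by
  classical
  obtain ⟨k, -, hk⟩ := CfsgLib.Recog.Sims.stabilizer_three_card hprim a b h3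
  have hP := CfsgLib.Recog.SuborbitThree.prim_of_suborbit hsol hprim a b h3 ⟨k, hk⟩
    (CfsgLib.Char.burnside_pq 2 3 Nat.prime_two Nat.prime_three k 1 _ (by rw [hk, pow_one]))
  rcases CfsgLib.Recog.Sims.stabilizer_three hprim a b h3 with ⟨⟨e⟩⟩ | ⟨⟨e⟩⟩ | ⟨⟨e⟩⟩ | ⟨⟨e⟩⟩ | ⟨⟨e⟩⟩
  · exact (CfsgLib.Recog.SuborbitThree.case_three hP ((Nat.card_congr e.toEquiv).trans (by simp))).elim
  · exact Or.inl (CfsgLib.Recog.SuborbitThree.case_six hP e)
  · rcases CfsgLib.Recog.SuborbitThree.case_twelve hP e with h | h | h | h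
    exacts [Or.inr (Or.inl h), Or.inr (Or.inr (Or.inl h)), Or.inr (Or.inr (Or.inr (Or.inl h))),
      Or.inr (Or.inr (Or.inr (Or.inr (Or.inl h))))]
  · rcases CfsgLib.Recog.SuborbitThree.case_four hP e with h | h
    exacts [Or.inr (Or.inr (Or.inr (Or.inr (Or.inr (Or.inl h))))),
      Or.inr (Or.inr (Or.inr (Or.inr (Or.inr (Or.inr (Or.inl h))))))]
  · exact Or.inr (Or.inr (Or.inr (Or.inr (Or.inr (Or.inr (Or.inr
      (CfsgLib.Recog.SuborbitThree.case_times_of hP e fun M S h => S.classify (Or.inr h))))))))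

end Cfsg.Agent.S3686
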