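import Cfsg.Statements.S3687
import Cfsg.Agent.Lib.Recog.AltSuborbitStructure

set_option autoImplicit false
open Cfsg

namespace Cfsg.Agent.S3687

/-- Let a finite group G act faithfully and primitively on a set Ω, let a and b be points such that the orbit Δ of b under the stabilizer H of a has d ≥ 6 elements, and suppose that the permutation group induced by H on Δ contains the alternating group of Δ (the image of H in the symmetric group of Δ has index at most 2) while H does not act faithfully on Δ. Then either H induces exactly the alternating group of Δ and H is isomorphic to the direct product of the alternating groups of degrees d and d - 1; or H induces the full symmetric group of Δ and H is isomorphic to one of: the direct product of the symmetric groups of degrees d and d - 1, the direct product of the symmetric group of degree d with the alternating group of degree d - 1, or the subgroup of the direct product of the symmetric groups of degrees d and d - 1 consisting of the pairs of permutations with equal signs. -/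
theorem result {G Ω : Type*} [Group G] [Finite G] [MulAction G Ω] [FaithfulSMul G Ω] [Finite Ω]
    (hprim : MulAction.IsPreprimitive G Ω) (a b : Ω) (d : ℕ) (hd : Nat.card (MulAction.orbit (MulAction.stabilizer G a) b) = d) (h6 : 6 ≤ d)
    (halt : (MulAction.toPermHom (MulAction.stabilizer G a) (MulAction.orbit (MulAction.stabilizer G a) b)).range.index ≤ 2)
    (hunf : ¬ Function.Injective (MulAction.toPermHom (MulAction.stabilizer G a) (MulAction.orbit (MulAction.stabilizer G a) b))) :
    ((MulAction.toPermHom (MulAction.stabilizer G a) (MulAction.orbit (MulAction.stabilizer G a) b)).range.index = 2 ∧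
      Nonempty (MulAction.stabilizer G a ≃* alternatingGroup (Fin d) × alternatingGroup (Fin (d - 1)))) ∨
    ((MulAction.toPermHom (MulAction.stabilizer G a) (MulAction.orbit (MulAction.stabilizer G a) b)).range = ⊤ ∧
      (Nonempty (MulAction.stabilizer G a ≃* Equiv.Perm (Fin d) × Equiv.Perm (Fin (d - 1))) ∨
       Nonempty (MulAction.stabilizer G a ≃* Equiv.Perm (Fin d) × alternatingGroup (Fin (d - 1))) ∨
       Nonempty (MulAction.stabilizer G a ≃* ((Equiv.Perm.sign.comp (MonoidHom.fst (Equiv.Perm (Fin d)) (Equiv.Perm (Fin (d - 1))))) *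
         (Equiv.Perm.sign.comp (MonoidHom.snd (Equiv.Perm (Fin d)) (Equiv.Perm (Fin (d - 1)))))).ker))) := by
  have hprim' := hprim.toIsPretransitive
  obtain ⟨O, hab, hout, hin⟩ := CfsgLib.Recog.TW.exists_orbital hprim a b d hd (by omega)
  set ρ := MulAction.toPermHom (MulAction.stabilizer G a) (MulAction.orbit (MulAction.stabilizer G a) b) with hρ
  have horb : MulAction.orbit (MulAction.stabilizer G a) b = {u | O.E a u} := by
    ext u
    constructor
    · rintro ⟨g, rfl⟩
      have := O.inv (g : G) a b hab
      rwa [MulAction.mem_stabilizer_iff.1 g.2] at this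
    · intro hu
      obtain ⟨g, hgx, hgy⟩ := O.trans a b a u hab hu
      exact ⟨⟨g, hgx⟩, hgy⟩
  have hker : ρ.ker = (O.K a).subgroupOf (MulAction.stabilizer G a) := by
    ext g
    rw [MonoidHom.mem_ker, Subgroup.mem_subgroupOf, O.mem_K]
    refine ⟨fun h => ⟨g.2, fun y hy => ?_⟩, fun h => Equiv.ext fun y => Subtype.ext ?_⟩
    · exact congrArg Subtype.val (Equiv.ext_iff.1 h ⟨y, horb ▸ hy⟩)
    · exact h.2 y.1 (horb.le y.2)
  have : Finite (MulAction.orbit (MulAction.stabilizer G a) b) := Nat.finite_of_card_ne_zero (by omega)
  have hperm : Nat.card (Equiv.Perm (MulAction.orbit (MulAction.stabilizer G a) b)) = d.factorial := by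
    rw [Nat.card_perm, hd]
  have hrel : (O.K a).relIndex (MulAction.stabilizer G a) = Nat.card ρ.range := by
    rw [Subgroup.relIndex, ← hker, Subgroup.index_ker]
  have hfull : ∀ x, d.factorial ≤ 2 * (O.K x).relIndex (MulAction.stabilizer G x) := by
    intro x
    obtain ⟨g, rfl⟩ := O.vtrans a x
    have h1 : (O.K (g • a)).relIndex (MulAction.stabilizer G (g • a)) = (O.K a).relIndex (MulAction.stabilizer G a) := by
      rw [O.K_smul, MulAction.stabilizer_smul_eq_stabilizer_map_conj]
      exact Subgroup.relIndex_map_map_of_injective _ _ (MulAut.conj g).injective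
    rw [h1, hrel, ← hperm, ← ρ.range.index_mul_card]
    exact Nat.mul_le_mul_right _ halt
  have hne : ∀ x, O.K x ≠ ⊥ := by
    refine CfsgLib.Recog.TW.Orbital.ne_bot_of_smul O.K_smul O (x := a) fun h => hunf ?_
    rw [← MonoidHom.ker_eq_bot_iff, hker, h, Subgroup.bot_subgroupOf]
  have hs : CfsgLib.Recog.AltSub.Hyp O d := ⟨h6, hout, hin, hfull, hne⟩
  obtain ⟨φ, hφ, h⟩ := hs.structure_thm a
  have hcard : Nat.card ρ.range = Nat.card φ.range := by
    rw [← Subgroup.index_ker, ← Subgroup.index_ker, hker, hφ]
  rcases h with ⟨hr, hiso⟩ | ⟨hr, hiso⟩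
  · refine Or.inl ⟨Nat.eq_of_mul_eq_mul_right (Nat.card_pos (α := ρ.range)) ?_, hiso⟩
    rw [Subgroup.index_mul_card, hperm, hcard, hr, CfsgLib.Recog.AltSub.two_mul_card_alt (by omega)]
  · refine Or.inr ⟨Subgroup.eq_top_of_card_eq _ ?_, hiso⟩
    rw [hcard, hr, Subgroup.card_top, hperm, Nat.card_perm, Nat.card_fin]


end Cfsg.Agent.S3687
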