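import Cfsg.Statements.S3693
import Cfsg.Agent.Lib.Recog.ThompsonWielandtBound

set_option autoImplicit false
open Cfsg

namespace Cfsg.Agent.S3693

/-- Let a finite group G act faithfully and primitively on a set Ω, let a and b be points such that the orbit Δ of b under the stabilizer H of a has length d ≥ 2, and consider the permutation group induced on Δ by the elements of H fixing b. If that induced group has trivial Fitting subgroup (no non-trivial nilpotent normal subgroup), then the two-point stabilizer of a and b has trivial Fitting subgroup and the order of H divides d! · ((d - 1)!)^d. -/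
theorem result {G Ω : Type*} [Group G] [Finite G] [MulAction G Ω] [FaithfulSMul G Ω] [Finite Ω]
    (hprim : MulAction.IsPreprimitive G Ω) (a b : Ω) (d : ℕ) (hd : Nat.card (MulAction.orbit (MulAction.stabilizer G a) b) = d) (h2 : 2 ≤ d)
    (hF : Cfsg.fittingSubgroup ↥(((MulAction.stabilizer G b).subgroupOf (MulAction.stabilizer G a)).map (MulAction.toPermHom (MulAction.stabilizer G a) (MulAction.orbit (MulAction.stabilizer G a) b))) = ⊥) :
    Cfsg.fittingSubgroup ↥(MulAction.stabilizer G a ⊓ MulAction.stabilizer G b) = ⊥ ∧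
      Nat.card (MulAction.stabilizer G a) ∣ Nat.factorial d * (Nat.factorial (d - 1)) ^ d := by
  obtain ⟨O, hab, hout, hin⟩ := CfsgLib.Recog.TW.exists_orbital hprim a b d hd h2
  set D := MulAction.stabilizer G a ⊓ MulAction.stabilizer G b with hD
  let f : D →* Equiv.Perm (MulAction.orbit (MulAction.stabilizer G a) b) :=
    (MulAction.toPermHom (MulAction.stabilizer G a) (MulAction.orbit (MulAction.stabilizer G a) b)).comp
      (Subgroup.inclusion inf_le_left)
  have hrange : f.range = ((MulAction.stabilizer G b).subgroupOf (MulAction.stabilizer G a)).map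
      (MulAction.toPermHom (MulAction.stabilizer G a) (MulAction.orbit (MulAction.stabilizer G a) b)) := by
    ext z
    constructor
    · rintro ⟨g, rfl⟩
      exact ⟨Subgroup.inclusion inf_le_left g, g.2.2, rfl⟩
    · rintro ⟨g, hg, rfl⟩
      exact ⟨⟨g, g.2, hg⟩, rfl⟩
  have hbot : ∀ r : ℕ, r.Prime → CfsgLib.Recog.TW.pc r D = ⊥ := by
    intro r hr
    haveI := Fact.mk hr
    refine O.pc_arc_eq_bot hr hab ?_
    rw [← hrange] at hF
    haveI := Cfsg.pCore_normal r D
    have h0 : (Cfsg.pCore r D).map f.rangeRestrict = ⊥ := le_bot_iff.1 (hF ▸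
      (CfsgLib.Comp.le_pCore_of_isSubnormal (Subgroup.Normal.isSubnormal
        (Subgroup.Normal.map inferInstance _ f.rangeRestrict_surjective))
        ((CfsgLib.Comp.isPGroup_pCore r D).map _)).trans (CfsgLib.Solvable.pCore_le_fittingSubgroup r))
    rintro _ ⟨g, hg, rfl⟩
    refine O.mem_K.2 ⟨g.2.1, fun y hy => ?_⟩
    have hmem := Subgroup.mem_map_of_mem f.rangeRestrict hg
    rw [h0, Subgroup.mem_bot] at hmem
    obtain ⟨k, hka, hkb⟩ := O.trans a b a y hab hy
    exact congrArg Subtype.val (Equiv.Perm.ext_iff.1 (congrArg Subtype.val hmem)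
      ⟨y, ⟨⟨k, hka⟩, hkb⟩⟩)
  refine ⟨?_, ?_⟩
  · rw [CfsgLib.Solvable.fittingSubgroup_eq_iSup_pCore]
    exact iSup_eq_bot.2 fun r => (Subgroup.map_eq_bot_iff_of_injective _ D.subtype_injective).1 (hbot r r.2)
  have e1 := O.card_dvd hout hin a
  have e2 := O.flip.card_dvd hin hout a
  by_cases hN : O.N a = ⊥
  · rwa [hN, Subgroup.card_bot, mul_one] at e1
  by_cases hN' : O.flip.N a = ⊥
  · rwa [hN', Subgroup.card_bot, mul_one] at e2
  have hNx := CfsgLib.Recog.TW.Orbital.ne_bot_of_smul O.N_smul O hN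
  obtain ⟨r, hr, hrx⟩ := O.exists_prime hNx
    (O.layer_eq_bot hNx (CfsgLib.Recog.TW.Orbital.ne_bot_of_smul O.flip.N_smul O hN')) a
  refine absurd ?_ (hrx a)
  refine le_bot_iff.1 (le_trans ?_ (hbot r hr).le)
  set X := O.N a ⊓ CfsgLib.Recog.TW.pc r (MulAction.stabilizer G a) with hX
  have hXD : X ≤ D := inf_le_left.trans ((O.N_le_K a).trans (le_inf (O.K_le a) (O.K_le_nbr hab)))
  exact CfsgLib.Recog.TW.le_pc hXD (CfsgLib.Recog.TW.subn_of_normalizer hXD (inf_le_left.trans
    (CfsgLib.Recog.TW.Orbital.norm_of_smul (F := fun z => O.N z ⊓ CfsgLib.Recog.TW.pc r (MulAction.stabilizer G z))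
      (CfsgLib.Recog.TW.Orbital.inf_smul (F' := fun z => CfsgLib.Recog.TW.pc r (MulAction.stabilizer G z))
        O.N_smul (CfsgLib.Recog.TW.Orbital.pc_smul r)) a)))
    ((CfsgLib.Recog.TW.pc_isPGroup r _).to_le inf_le_right)

end Cfsg.Agent.S3693
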