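import Cfsg.Statements.S3696
import Mathlib

set_option autoImplicit false
open Cfsg

namespace Cfsg.Agent.S3696

theorem amgm_pow (L : List ℕ) (p : ℕ) :
    p ^ L.sum * L.length ^ L.length ≤ ((L.map (p ^ ·)).sum) ^ L.length := by
  classical
  rcases Nat.eq_zero_or_pos L.length with h | h
  · simp [List.length_eq_zero_iff.mp h]
  have hs : L.sum = ∑ i : Fin L.length, L[i] := by
    rw [← List.sum_ofFn]; congr 1; simp
  have hm : (L.map (p ^ ·)).sum = ∑ i : Fin L.length, p ^ L[i] := by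
    rw [← List.sum_ofFn]; congr 1
    conv_lhs => rw [← List.ofFn_getElem (xs := L)]
    rw [List.map_ofFn]; rfl
  rw [hs, hm, ← Finset.prod_pow_eq_pow_sum]
  set k := L.length
  set z : Fin k → ℝ := fun i => ((p ^ L[i] : ℕ) : ℝ)
  have hk0 : (k : ℝ) ≠ 0 := by exact_mod_cast h.ne'
  have hz : ∀ i ∈ Finset.univ, 0 ≤ z i := fun i _ => Nat.cast_nonneg _
  have key := Real.geom_mean_le_arith_mean_weighted Finset.univ (fun _ => (k : ℝ)⁻¹) z
    (fun _ _ => by positivity) (by simp [hk0]) hz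
  rw [Real.finsetProd_rpow _ _ hz, ← Finset.mul_sum] at key
  have hp0 : 0 ≤ ∏ i, z i := Finset.prod_nonneg hz
  have key2 := pow_le_pow_left₀ (Real.rpow_nonneg hp0 _) key k
  rw [Real.rpow_inv_natCast_pow hp0 h.ne', mul_pow, inv_pow] at key2
  have key3 : (∏ i, z i) * (k : ℝ) ^ k ≤ (∑ i, z i) ^ k := by
    have := mul_le_mul_of_nonneg_right key2 (pow_nonneg (Nat.cast_nonneg k) k)
    field_simp at this ⊢
    linarith
  have : (((∏ i : Fin k, p ^ L[i]) * k ^ k : ℕ) : ℝ) ≤ (((∑ i : Fin k, p ^ L[i]) ^ k : ℕ) : ℝ) := by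
    push_cast
    simpa [z] using key3
  exact_mod_cast this

theorem add_pow_le {p a : ℕ} (hp : 2 ≤ p) (ha : 2 ≤ a) : p + p ^ (a - 1) ≤ p ^ a := by
  obtain ⟨b, rfl⟩ : ∃ b, a = b + 2 := ⟨a - 2, by omega⟩
  simp only [Nat.add_sub_cancel, show b + 2 - 1 = b + 1 by omega]
  have : p ≤ p ^ (b + 1) := Nat.le_self_pow (by omega) p
  calc p + p ^ (b + 1) ≤ 2 * p ^ (b + 1) := by omega
    _ ≤ p * p ^ (b + 1) := Nat.mul_le_mul_right _ hp
    _ = p ^ (b + 2) := by rw [← pow_succ']

theorem split_exponents {p : ℕ} (hp : 2 ≤ p) (L : List ℕ) (k : ℕ) (hlen : L.length ≤ k)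
    (hpos : ∀ a ∈ L, 1 ≤ a) (hk : k ≤ L.sum) :
    ∃ L' : List ℕ, L'.length = k ∧ L.sum = L'.sum ∧ (L'.map (p ^ ·)).sum ≤ (L.map (p ^ ·)).sum := by
  induction hn : k - L.length generalizing L with
  | zero => exact ⟨L, by omega, rfl, le_rfl⟩
  | succ d ih =>
    have hex : ∃ a ∈ L, 2 ≤ a := by
      by_contra hc
      push Not at hc
      have : L.sum ≤ L.length • 1 := List.sum_le_card_nsmul L 1 fun a ha => by have := hc a ha; omega
      simp at this
      omega
    obtain ⟨a, ha, ha2⟩ := hex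
    have hperm := List.perm_cons_erase ha
    obtain ⟨L', h1, h2, h3⟩ := ih (1 :: (a - 1) :: L.erase a)
      (by have := hperm.length_eq; simp at this ⊢; omega)
      (by
        intro b hb
        simp at hb
        rcases hb with rfl | rfl | hb
        · omega
        · omega
        · exact hpos b (List.mem_of_mem_erase hb))
      (by have := hperm.sum_eq; simp at this ⊢; omega)
      (by have := hperm.length_eq; simp at this ⊢; omega)
    refine ⟨L', h1, ?_, ?_⟩
    · rw [← h2, hperm.sum_eq]; simp; omega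
    · refine h3.trans ?_
      rw [(hperm.map (p ^ ·)).sum_eq]
      simp only [List.map_cons, List.sum_cons, pow_one]
      have := add_pow_le hp ha2
      omega

variable {Ω : Type*} [Fintype Ω] [DecidableEq Ω]

theorem greedy_points (p : ℕ) [Fact p.Prime] (A : Subgroup (Equiv.Perm Ω)) [IsMulCommutative A] (hA : IsPGroup p A) :
    ∀ d : ℕ, ∀ S : Finset Ω, Set.InjOn (fun w => MulAction.orbit A w) (S : Set Ω) →
      (∀ w ∈ S, ∃ a : A, a • w ≠ w) →
      Nat.card {x : A // x ^ p = 1 ∧ ∀ w ∈ S, x • w = w} ≤ p ^ d →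
      ∃ T : Finset Ω, T.card ≤ S.card + d ∧ Set.InjOn (fun w => MulAction.orbit A w) (T : Set Ω) ∧
        (∀ w ∈ T, ∃ a : A, a • w ≠ w) ∧ ∀ x : A, x ^ p = 1 → (∀ w ∈ T, x • w = w) → x = 1 := by
  classical
  intro d
  induction d with
  | zero =>
    intro S h1 h2 h3
    refine ⟨S, le_rfl, h1, h2, fun x hx hxS => ?_⟩
    rw [pow_zero] at h3
    haveI : Subsingleton {x : A // x ^ p = 1 ∧ ∀ w ∈ S, x • w = w} := Finite.card_le_one_iff_subsingleton.mp h3
    exact congrArg Subtype.val (Subsingleton.elim (⟨x, hx, hxS⟩ : {x : A // x ^ p = 1 ∧ ∀ w ∈ S, x • w = w}) ⟨1, one_pow p, fun w _ => one_smul A w⟩)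
  | succ d ih =>
    intro S h1 h2 h3
    by_cases hdone : ∀ x : A, x ^ p = 1 → (∀ w ∈ S, x • w = w) → x = 1
    · exact ⟨S, by omega, h1, h2, hdone⟩
    push Not at hdone
    obtain ⟨x, hx, hxS, hx1⟩ := hdone
    obtain ⟨w, hw⟩ : ∃ w, x • w ≠ w := by
      by_contra hc
      push Not at hc
      exact hx1 (Subtype.ext (Equiv.ext hc))
    have hwS : w ∉ S := fun h => hw (hxS w h)
    have hnew : ∀ v ∈ S, MulAction.orbit A v ≠ MulAction.orbit A w := by
      intro v hv e
      obtain ⟨a, rfl⟩ : w ∈ MulAction.orbit A v := e ▸ MulAction.mem_orbit_self w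
      apply hw
      beta_reduce
      rw [smul_smul, (inferInstance : IsMulCommutative A).is_comm.comm x a, ← smul_smul, hxS v hv]
    obtain ⟨T, hT1, hT2, hT3, hT4⟩ := ih (insert w S) (by
        rw [Finset.coe_insert, Set.injOn_insert (by exact_mod_cast hwS)]
        exact ⟨h1, fun ⟨v, hv, e⟩ => hnew v hv e⟩)
      (by
        intro v hv
        rcases Finset.mem_insert.mp hv with rfl | hv
        · exact ⟨x, hw⟩
        · exact h2 v hv)
      (by
        let B : Finset Ω → Subgroup A := fun U =>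
          { carrier := {y | y ^ p = 1 ∧ ∀ v ∈ U, y • v = v}
            one_mem' := ⟨one_pow p, fun v _ => one_smul A v⟩
            mul_mem' := fun {a b} ha hb => ⟨by rw [Commute.mul_pow ((inferInstance : IsMulCommutative A).is_comm.comm a b), ha.1, hb.1, one_mul],
              fun v hv => by rw [mul_smul, hb.2 v hv, ha.2 v hv]⟩
            inv_mem' := fun {a} ha => ⟨by rw [inv_pow, ha.1, inv_one],
              fun v hv => by rw [inv_smul_eq_iff, ha.2 v hv]⟩ }
        have hle : B (insert w S) ≤ B S := fun y hy => ⟨hy.1, fun v hv => hy.2 v (Finset.mem_insert_of_mem hv)⟩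
        have hne : x ∉ B (insert w S) := fun hxin => hw (hxin.2 w (Finset.mem_insert_self w S))
        obtain ⟨i, hi⟩ := ((hA.to_subgroup (B (insert w S)))).exists_card_eq
        obtain ⟨j, hj⟩ := ((hA.to_subgroup (B S))).exists_card_eq
        have hlt : Nat.card (B (insert w S)) < Nat.card (B S) := by
          refine lt_of_le_of_ne (Subgroup.card_le_of_le hle) fun e => hne ?_
          rw [Subgroup.eq_of_le_of_card_ge hle e.ge]
          exact ⟨hx, hxS⟩
        change Nat.card (B (insert w S)) ≤ p ^ d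
        change Nat.card (B S) ≤ p ^ (d + 1) at h3
        rw [hi, hj] at hlt
        rw [hj] at h3
        rw [hi]
        have hp1 := (Fact.out : p.Prime).one_lt
        have := (Nat.pow_lt_pow_iff_right hp1).mp hlt
        have := (Nat.pow_le_pow_iff_right hp1).mp h3
        exact Nat.pow_le_pow_right (by omega) (by omega))
    exact ⟨T, by rw [Finset.card_insert_of_notMem hwS] at hT1; omega, hT2, hT3, hT4⟩

theorem orbit_exponents (p : ℕ) [Fact p.Prime] (A : Subgroup (Equiv.Perm Ω)) [IsMulCommutative A] (hA : IsPGroup p A)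
    (k : ℕ) (hk : Nat.card {x : A // x ^ p = 1} = p ^ k) :
    ∃ L : List ℕ, L.length ≤ k ∧ (∀ a ∈ L, 1 ≤ a) ∧ (L.map (p ^ ·)).sum ≤ Fintype.card Ω ∧ Nat.card A ≤ p ^ L.sum := by
  classical
  obtain ⟨T, hT1, hT2, hT3, hT4⟩ := greedy_points p A hA k ∅ (by simp) (by simp)
    (by rw [← hk]; exact (Nat.card_congr (Equiv.subtypeEquivRight (by simp))).le)
  have hsize : ∀ w ∈ T, ∃ a, 1 ≤ a ∧ Nat.card (MulAction.orbit A w) = p ^ a := by
    intro w hw
    obtain ⟨a, ha⟩ := hA.card_orbit w
    refine ⟨a, ?_, ha⟩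
    by_contra h
    obtain rfl : a = 0 := by omega
    rw [pow_zero] at ha
    obtain ⟨y, hy⟩ := hT3 w hw
    haveI := (Nat.card_eq_one_iff_unique.mp ha).1
    exact hy (congrArg Subtype.val (Subsingleton.elim (⟨y • w, MulAction.mem_orbit w y⟩ : MulAction.orbit A w)
      ⟨w, MulAction.mem_orbit_self w⟩))
  choose! f hf1 hf2 using hsize
  refine ⟨T.toList.map f, by simpa using hT1, ?_, ?_, ?_⟩
  · intro a ha
    simp at ha
    obtain ⟨w, hw, rfl⟩ := ha
    exact hf1 w hw
  · rw [List.map_map, Finset.sum_map_toList]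
    calc ∑ w ∈ T, ((fun x => p ^ x) ∘ f) w = ∑ w ∈ T, (MulAction.orbit A w).toFinset.card :=
          Finset.sum_congr rfl fun w hw => by
            rw [Function.comp_apply, ← hf2 w hw, Nat.card_eq_fintype_card, Set.toFinset_card]
      _ = (T.biUnion fun w => (MulAction.orbit A w).toFinset).card := by
          rw [Finset.card_biUnion]
          intro v hv u hu hne
          rw [Function.onFun, Set.disjoint_toFinset, Set.disjoint_left]
          intro z hzv hzu
          exact hne (hT2 hv hu ((MulAction.orbit_eq_iff.mpr hzv).symm.trans (MulAction.orbit_eq_iff.mpr hzu)))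
      _ ≤ Fintype.card Ω := Finset.card_le_univ _
  · rw [Finset.sum_map_toList, ← Finset.prod_pow_eq_pow_sum, ← Finset.prod_congr rfl fun w hw => hf2 w hw,
      ← Finset.prod_attach, ← Finset.univ_eq_attach, ← Nat.card_pi]
    refine Nat.card_le_card_of_injective (fun (a : A) (w : {x // x ∈ T}) => (⟨a • (w : Ω), MulAction.mem_orbit _ a⟩ : MulAction.orbit A (w : Ω))) ?_
    intro a b hab
    have hfix : ∀ w ∈ T, (b⁻¹ * a) • w = w := fun w hw => by
      have := congrArg Subtype.val (congrFun hab ⟨w, hw⟩)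
      rw [mul_smul, inv_smul_eq_iff]; exact this
    rw [eq_comm, ← inv_mul_eq_one]
    by_contra hne
    obtain ⟨i, hi⟩ := hA (b⁻¹ * a)
    have hor : orderOf (b⁻¹ * a) ≠ 1 := fun h => hne (orderOf_eq_one_iff.mp h)
    obtain ⟨j, -, hj⟩ := (Nat.dvd_prime_pow Fact.out).mp (orderOf_dvd_of_pow_eq_one hi)
    have hj1 : 1 ≤ j := Nat.one_le_iff_ne_zero.mpr fun e => hor (by rw [hj, e, pow_zero])
    have hz : ((b⁻¹ * a) ^ p ^ (j - 1)) ^ p = 1 := by
      rw [← pow_mul, ← pow_succ, Nat.sub_add_cancel hj1, ← hj, pow_orderOf_eq_one]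
    have hfix' : ∀ (n : ℕ) (w : Ω), w ∈ T → (b⁻¹ * a) ^ n • w = w := by
      intro n w hw
      induction n with
      | zero => rw [pow_zero, one_smul]
      | succ n ih => rw [pow_succ, mul_smul, hfix w hw, ih]
    have := hT4 _ hz (hfix' _)
    have hd := orderOf_dvd_of_pow_eq_one this
    rw [hj] at hd
    have := (Nat.pow_dvd_pow_iff_le_right (Fact.out : p.Prime).one_lt).mp hd
    omega

/-- Let p be a prime, Ω a finite set with n ≥ p elements, and A an abelian p-subgroup of the symmetric group on Ω whose elements of order dividing p number p^k (so k is the rank of A). Then |A| · k^k ≤ n^k, that is, |A| ≤ (n/k)^k. -/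
theorem result {Ω : Type*} [Fintype Ω] [DecidableEq Ω]
    (p : ℕ) (hp : p.Prime) (hn : p ≤ Fintype.card Ω) (A : Subgroup (Equiv.Perm Ω)) (hA : IsPGroup p A) (hab : IsMulCommutative A)
    (k : ℕ) (hk : Nat.card {x : A // x ^ p = 1} = p ^ k) :
    Nat.card A * k ^ k ≤ Fintype.card Ω ^ k := by
  classical
  haveI := hab
  haveI : Fact p.Prime := ⟨hp⟩
  obtain ⟨L, hlen, hpos, hsum, hA'⟩ := orbit_exponents p A hA k hk
  obtain ⟨L', hlen', hsum', hle'⟩ := split_exponents hp.two_le L k hlen hpos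
    (by
      have h1 : p ^ k ≤ Nat.card A := hk ▸ Nat.card_le_card_of_injective _ Subtype.val_injective
      exact (Nat.pow_le_pow_iff_right hp.one_lt).mp (h1.trans hA'))
  have := amgm_pow L' p
  rw [hlen'] at this
  calc Nat.card A * k ^ k ≤ p ^ L.sum * k ^ k := Nat.mul_le_mul_right _ hA'
    _ = p ^ L'.sum * k ^ k := by rw [hsum']
    _ ≤ ((L'.map (p ^ ·)).sum) ^ k := this
    _ ≤ Fintype.card Ω ^ k := Nat.pow_le_pow_left (hle'.trans hsum) k

end Cfsg.Agent.S3696
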