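import Cfsg.Statements.S3701
import Cfsg.Agent.Lib.Block.ThreeCube

set_option autoImplicit false
open Cfsg

namespace Cfsg.Agent.S3701

open CfsgLib.Block.ThreeCube

/-- the action on nine points -/
def nineFun (a : Tri) : Equiv.Perm (Fin 9) :=
  finProdFinEquiv.permCongr (Equiv.prodCongrRight fun i : Fin 3 => dPermFun (comp i a))

theorem nineFun_mul (a b : Tri) : nineFun (a * b) = nineFun a * nineFun b := by
  ext x
  obtain ⟨p, rfl⟩ := (finProdFinEquiv : Fin 3 × Fin 3 ≃ Fin 9).surjective x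
  have h : ∀ i, comp i (a * b) = comp i a * comp i b := fun i => (compHom i).map_mul a b
  simp [nineFun, Equiv.prodCongrRight, h, dPermFun_mul]

/-- the action on nine points as a homomorphism -/
def nine : Tri →* Equiv.Perm (Fin 9) := MonoidHom.mk' nineFun nineFun_mul

theorem nine_ker : ∀ a : Tri, nineFun a = 1 → a = 1 := by decide +kernel

theorem nine_injective : Function.Injective nine := (injective_iff_map_eq_one nine).mpr nine_ker

/-- the five generators -/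
abbrev g₁ : Equiv.Perm (Fin 9) := Equiv.swap 0 1 * Equiv.swap 1 2
abbrev g₂ : Equiv.Perm (Fin 9) := Equiv.swap 3 4 * Equiv.swap 4 5
abbrev g₃ : Equiv.Perm (Fin 9) := Equiv.swap 6 7 * Equiv.swap 7 8
abbrev g₄ : Equiv.Perm (Fin 9) := Equiv.swap 0 1 * Equiv.swap 3 4
abbrev g₅ : Equiv.Perm (Fin 9) := Equiv.swap 0 1 * Equiv.swap 6 7

theorem gens_lift : nineFun (c₁ * c₁) = g₁ ∧ nineFun (c₂ * c₂) = g₂ ∧ nineFun (c₃ * c₃) = g₃ ∧
    nineFun (.sr 1, .sr 1, .r 0) = g₄ ∧ nineFun (.sr 1, .r 0, .sr 1) = g₅ ∧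
    Evn (c₁ * c₁) ∧ Evn (c₂ * c₂) ∧ Evn (c₃ * c₃) ∧ Evn ((.sr 1, .sr 1, .r 0) : Tri) ∧
    Evn ((.sr 1, .r 0, .sr 1) : Tri) ∧
    nineFun c₁ = g₁ * g₁ ∧ nineFun c₂ = g₂ * g₂ ∧ nineFun c₃ = g₃ * g₃ ∧
    nineFun i₁ = g₄ * g₁ * g₂ ∧ nineFun i₂ = g₅ * g₁ * g₃ := by
  decide +kernel

theorem map_nine : Mdl.map nine =
    Subgroup.closure ({g₁, g₂, g₃, g₄, g₅} : Set (Equiv.Perm (Fin 9))) := by
  obtain ⟨a1, a2, a3, a4, a5, e1, e2, e3, e4, e5, b1, b2, b3, b4, b5⟩ := gens_lift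
  refine le_antisymm ?_ ((Subgroup.closure_le _).mpr ?_)
  · rintro _ ⟨a, ha, rfl⟩
    set C := Subgroup.closure ({g₁, g₂, g₃, g₄, g₅} : Set (Equiv.Perm (Fin 9))) with hC
    have m1 : g₁ ∈ C := Subgroup.subset_closure (by simp)
    have m2 : g₂ ∈ C := Subgroup.subset_closure (by simp)
    have m3 : g₃ ∈ C := Subgroup.subset_closure (by simp)
    have m4 : g₄ ∈ C := Subgroup.subset_closure (by simp)
    have m5 : g₅ ∈ C := Subgroup.subset_closure (by simp)
    have n1 : nine c₁ ∈ C := by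
      show nineFun _ ∈ C
      rw [b1]
      exact mul_mem m1 m1
    have n2 : nine c₂ ∈ C := by
      show nineFun _ ∈ C
      rw [b2]
      exact mul_mem m2 m2
    have n3 : nine c₃ ∈ C := by
      show nineFun _ ∈ C
      rw [b3]
      exact mul_mem m3 m3
    have n4 : nine i₁ ∈ C := by
      show nineFun _ ∈ C
      rw [b4]
      exact mul_mem (mul_mem m4 m1) m2
    have n5 : nine i₂ ∈ C := by
      show nineFun _ ∈ C
      rw [b5]
      exact mul_mem (mul_mem m5 m1) m3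
    rw [← word_eq a ha]
    simp only [word, map_mul, map_pow]
    exact mul_mem (mul_mem (mul_mem (pow_mem n1 _) (pow_mem n2 _)) (pow_mem n3 _))
      (mul_mem (pow_mem n4 _) (pow_mem n5 _))
  · rintro x (rfl | rfl | rfl | rfl | rfl)
    exacts [⟨_, e1, a1⟩, ⟨_, e2, a2⟩, ⟨_, e3, a3⟩, ⟨_, e4, a4⟩, ⟨_, e5, a5⟩]

/-- the model is the given permutation group -/
noncomputable def modelEquiv :
    Mdl ≃* Subgroup.closure ({g₁, g₂, g₃, g₄, g₅} : Set (Equiv.Perm (Fin 9))) :=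
  (Mdl.equivMapOfInjective nine nine_injective).trans (MulEquiv.subgroupCongr map_nine)

/-- Let H₀ ≤ Sym(9) be generated by the 3-cycles (1 2 3), (4 5 6), (7 8 9) and the involutions (1 2)(4 5), (1 2)(7 8) (a group of order 108, elementary abelian of order 27 extended by a four-group). Let G be a finite group with a subgroup H ≅ H₀, and T ≤ H of order 27 (a Sylow 3-subgroup of H) with N_G(T) = H and C_G(t) ≤ H for every t ≠ 1 in T. Then G = H. -/
theorem result {G : Type*} [Group G] [Finite G] (H : Subgroup G)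
    (hH : Nonempty (↥H ≃* ↥(Subgroup.closure ({Equiv.swap (0 : Fin 9) 1 * Equiv.swap 1 2, Equiv.swap (3 : Fin 9) 4 * Equiv.swap 4 5, Equiv.swap (6 : Fin 9) 7 * Equiv.swap 7 8,
        Equiv.swap (0 : Fin 9) 1 * Equiv.swap 3 4, Equiv.swap (0 : Fin 9) 1 * Equiv.swap 6 7} : Set (Equiv.Perm (Fin 9))))))
    (T : Subgroup G) (hTH : T ≤ H) (hT : Nat.card T = 27) (hN : Subgroup.normalizer (T : Set G) = H)
    (hC : ∀ t ∈ T, t ≠ 1 → Subgroup.centralizer ({t} : Set G) ≤ H) : H = ⊤ := by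
  obtain ⟨e⟩ := hH
  exact eq_top H T ⟨modelEquiv.trans e.symm⟩ hTH hT hN hC

end Cfsg.Agent.S3701

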