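import Cfsg.Statements.S3703
import Mathlib
import Cfsg.Agent.Lib.Recog.FrobeniusLift

set_option autoImplicit false
open Cfsg

namespace Cfsg.Agent.S3703

variable {G : Type*} [Group G] [Finite G]

theorem frobenius_element (Fb Hb : Subgroup G) [Fb.Normal] (hHb : Cfsg.IsFrobeniusComplement Hb)
    (hker : Cfsg.frobeniusKernel Hb = (Fb : Set G)) [IsCyclic Hb] :
    ∃ y : G, ∀ f ∈ Fb, orderOf (f * y) = Nat.card Hb ∧
      ∀ i, 0 < i → i < Nat.card Hb → ∀ r ∈ Fb, r * (f * y) ^ i = (f * y) ^ i * r → r = 1 := by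
  classical
  obtain ⟨K, hK, hKn, hKc⟩ := CfsgLib.StructC.frobenius_kernel_theorem hHb
  have hKF : K = Fb := SetLike.coe_injective (hK.trans hker)
  subst hKF
  obtain ⟨y', hy'⟩ := IsCyclic.exists_generator (α := Hb)
  have hy : orderOf (y' : G) = Nat.card Hb := by
    rw [Subgroup.orderOf_coe]; exact orderOf_eq_card_of_forall_mem_zpowers hy'
  refine ⟨y', fun f hf => ?_⟩
  set x := f * (y' : G)
  -- powers modulo the kernel
  have hmod : ∀ i : ℕ, x ^ i * ((y' : G) ^ i)⁻¹ ∈ K := by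
    intro i
    induction i with
    | zero => simp
    | succ i ih =>
      have : x ^ (i + 1) * ((y' : G) ^ (i + 1))⁻¹ = (x ^ i * f * (x ^ i)⁻¹) * (x ^ i * ((y' : G) ^ i)⁻¹) := by
        rw [pow_succ, pow_succ (y' : G), show x ^ i * x = x ^ i * (f * (y' : G)) from rfl]; group
      rw [this]; exact K.mul_mem (hKn.conj_mem f hf _) ih
  have hdis : ∀ z ∈ K, z ∈ Hb → z = 1 := fun z h1 h2 => Subgroup.disjoint_def.mp hKc.disjoint h1 h2
  have hone : 1 < Nat.card Hb := (Subgroup.one_lt_card_iff_ne_bot _).mpr hHb.1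
  have hxK : x ∉ K := by
    intro hx
    have h1 : (y' : G) = 1 := hdis _ (by simpa [x] using K.mul_mem (K.inv_mem hf) hx) y'.2
    rw [h1, orderOf_one] at hy
    omega
  have hxker : x ∉ Cfsg.frobeniusKernel Hb := by rw [hker]; exact hxK
  rw [CfsgLib.StructC.frob_mem_kernel_iff, not_or] at hxker
  push Not at hxker
  obtain ⟨-, t, ht⟩ := hxker
  have hord : ∀ i : ℕ, x ^ i = 1 ↔ Nat.card Hb ∣ i := by
    intro i
    constructor
    · intro h
      rw [← hy]
      apply orderOf_dvd_of_pow_eq_one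
      have h1 := hmod i
      rw [h, one_mul] at h1
      exact hdis _ (inv_mem_iff.mp h1) (Hb.pow_mem y'.2 i)
    · intro h
      have h1 : (t⁻¹ * x * t) ^ i = 1 := by
        have := orderOf_dvd_iff_pow_eq_one.mp ((orderOf_dvd_natCard (⟨_, ht⟩ : Hb)).trans h)
        exact congrArg Subtype.val this
      have h2 := conj_pow (a := t⁻¹) (b := x) (i := i)
      rw [inv_inv, h1] at h2
      have : x ^ i = t * (t⁻¹ * x ^ i * t) * t⁻¹ := by group
      rw [this, ← h2]; group
  refine ⟨Nat.dvd_antisymm (orderOf_dvd_of_pow_eq_one ((hord _).mpr dvd_rfl)) ((hord _).mp (pow_orderOf_eq_one x)), ?_⟩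
  intro i hi hin r hr hc
  have hne : x ^ i ≠ 1 := fun h => by
    have := Nat.le_of_dvd hi ((hord i).mp h); omega
  have hmem : (t⁻¹ * x ^ i * t) ∈ Hb := by
    have := conj_pow (a := t⁻¹) (b := x) (i := i)
    rw [inv_inv] at this
    rw [← this]; exact Hb.pow_mem ht i
  have hne' : t⁻¹ * x ^ i * t ≠ 1 := by
    intro h
    apply hne
    have : x ^ i = t * (t⁻¹ * x ^ i * t) * t⁻¹ := by group
    rw [this, h]; group
  have := CfsgLib.StructC.frob_commute_eq_one hHb hK hmem
    (show t⁻¹ * r * t ∈ K by simpa using hKn.conj_mem r hr t⁻¹) hne'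
    (by
      calc t⁻¹ * x ^ i * t * (t⁻¹ * r * t) = t⁻¹ * (x ^ i * r) * t := by group
        _ = t⁻¹ * (r * x ^ i) * t := by rw [hc]
        _ = t⁻¹ * r * t * (t⁻¹ * x ^ i * t) := by group)
  have e : r = t * (t⁻¹ * r * t) * t⁻¹ := by group
  rw [e, this]; group

theorem kernel_le_centralizer (N : Subgroup G) [N.Normal] (Fb Hb : Subgroup (G ⧸ N)) [Fb.Normal]
    (hHb : Cfsg.IsFrobeniusComplement Hb) (hker : Cfsg.frobeniusKernel Hb = (Fb : Set (G ⧸ N))) [IsCyclic Hb]
    (hcop : (Nat.card Fb).Coprime (Nat.card N))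
    (hlift : ∀ g : G, orderOf (g : G ⧸ N) = Nat.card Hb → g ^ Nat.card Hb = 1) :
    Fb ≤ (Subgroup.centralizer (N : Set G)).map (QuotientGroup.mk' N) := by
  classical
  set π := QuotientGroup.mk' N
  set n := Nat.card Hb
  obtain ⟨y, hy⟩ := frobenius_element Fb Hb hHb hker
  set Ft : Subgroup G := Fb.comap π
  have hNFt : N ≤ Ft := fun x hx => by
    change π x ∈ Fb
    rw [show π x = 1 from (QuotientGroup.eq_one_iff x).mpr hx]; exact Fb.one_mem
  have hFtcard : Nat.card Ft = Nat.card N * Nat.card Fb := by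
    let φ : Ft →* Fb := (π.comp Ft.subtype).codRestrict Fb fun x => x.2
    have hφ : Function.Surjective φ := fun f => by
      obtain ⟨x, hx⟩ := QuotientGroup.mk'_surjective N f.1
      exact ⟨⟨x, by change π x ∈ Fb; rw [hx]; exact f.2⟩, Subtype.ext hx⟩
    have hk : φ.ker = N.subgroupOf Ft := by
      ext x
      rw [MonoidHom.mem_ker, Subgroup.mem_subgroupOf, ← QuotientGroup.eq_one_iff]
      exact ⟨fun h => congrArg Subtype.val h, fun h => Subtype.ext h⟩
    have := Subgroup.card_eq_card_quotient_mul_card_subgroup φ.ker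
    rw [Nat.card_congr (QuotientGroup.quotientKerEquivOfSurjective φ hφ).toEquiv, hk,
      Nat.card_congr (Subgroup.subgroupOfEquivOfLe hNFt).toEquiv] at this
    rw [this, mul_comm]
  suffices hkey : ∀ r : ℕ, r.Prime → r ∣ Nat.card Fb → ∀ R : Sylow r Ft, ∀ x ∈ (R : Subgroup Ft), ∀ z ∈ N, (x : G) * z = z * x by
    -- compare orders
    have hdvd : Nat.card Fb ∣ Nat.card ((Fb ⊓ (Subgroup.centralizer (N : Set G)).map π : Subgroup (G ⧸ N))) := by
      rw [← Nat.factorization_prime_le_iff_dvd Nat.card_pos.ne' Nat.card_pos.ne']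
      intro r hr
      haveI := Fact.mk hr
      by_cases hrF : r ∣ Nat.card Fb
      swap
      · simp [Nat.factorization_eq_zero_of_not_dvd hrF]
      rw [← hr.pow_dvd_iff_le_factorization Nat.card_pos.ne']
      obtain ⟨R⟩ : Nonempty (Sylow r Ft) := inferInstance
      let ψ : (R : Subgroup Ft) →* ((Fb ⊓ (Subgroup.centralizer (N : Set G)).map π : Subgroup (G ⧸ N))) :=
        ((π.comp Ft.subtype).comp (R : Subgroup Ft).subtype).codRestrict _ fun x => ⟨x.1.2,
          x.1.1, Subgroup.mem_centralizer_iff.mpr fun z hz => (hkey r hr hrF R x x.2 z hz).symm, rfl⟩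
      have hψ : Function.Injective ψ := by
        rw [injective_iff_map_eq_one]
        intro x hx
        have h1 : ((x.1 : Ft) : G) ∈ N := (QuotientGroup.eq_one_iff _).mp (congrArg Subtype.val hx)
        apply Subtype.ext; apply Subtype.ext
        rw [OneMemClass.coe_one, OneMemClass.coe_one, ← orderOf_eq_one_iff]
        refine Nat.eq_one_of_dvd_coprimes (hcop.coprime_dvd_left hrF |>.pow_left ((Nat.card Ft).factorization r)) ?_
          (Subgroup.orderOf_dvd_natCard N h1)
        rw [← R.card_eq_multiplicity, Subgroup.orderOf_coe]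
        exact Subgroup.orderOf_dvd_natCard _ x.2
      have := Subgroup.card_dvd_of_injective ψ hψ
      rw [R.card_eq_multiplicity, hFtcard, Nat.factorization_mul Nat.card_pos.ne' Nat.card_pos.ne'] at this
      refine dvd_trans (pow_dvd_pow r ?_) this
      simp
    have := Subgroup.eq_of_le_of_card_ge inf_le_left (Nat.le_of_dvd Nat.card_pos hdvd)
    exact inf_eq_left.mp this
  intro r hr hrF R
  haveI := Fact.mk hr
  suffices hp : ∀ p : ℕ, p.Prime → p ∣ Nat.card N → ∃ P : Sylow p N, ∀ x ∈ (R : Subgroup Ft), ∀ z ∈ (P : Subgroup N), (x : G) * z = z * x by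
    intro x hx
    let C : Subgroup N := (Subgroup.centralizer {(x : G)}).subgroupOf N
    have hC : C = ⊤ := by
      refine Subgroup.eq_top_of_le_card _ (Nat.le_of_dvd Nat.card_pos ?_)
      rw [← Nat.factorization_prime_le_iff_dvd Nat.card_pos.ne' Nat.card_pos.ne']
      intro p hp'
      haveI := Fact.mk hp'
      by_cases hpN : p ∣ Nat.card N
      swap
      · simp [Nat.factorization_eq_zero_of_not_dvd hpN]
      obtain ⟨P, hP⟩ := hp p hp' hpN
      rw [← hp'.pow_dvd_iff_le_factorization Nat.card_pos.ne', ← P.card_eq_multiplicity]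
      refine Subgroup.card_dvd_of_le fun z hz => ?_
      rw [Subgroup.mem_subgroupOf, Subgroup.mem_centralizer_singleton_iff]
      exact (hP x hx z hz).symm
    intro z hz
    have : (⟨z, hz⟩ : N) ∈ C := hC ▸ Subgroup.mem_top _
    rw [Subgroup.mem_subgroupOf, Subgroup.mem_centralizer_singleton_iff] at this
    exact this.symm
  intro p hp hpN
  haveI := Fact.mk hp
  obtain ⟨P₀⟩ : Nonempty (Sylow p N) := inferInstance
  set P : Subgroup G := (P₀ : Subgroup N).map N.subtype
  set L := Subgroup.normalizer (P : Set G)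
  have hsup : L ⊔ N = ⊤ := Sylow.normalizer_sup_eq_top P₀
  have hmk : ∀ z : G ⧸ N, ∃ l ∈ L, π l = z := by
    intro z
    obtain ⟨x, rfl⟩ := QuotientGroup.mk'_surjective N z
    have hx : x ∈ L ⊔ N := hsup ▸ Subgroup.mem_top x
    obtain ⟨l, hl, m, hm, rfl⟩ := Subgroup.mem_sup_of_normal_right.mp hx
    exact ⟨l, hl, by rw [map_mul, show π m = 1 from (QuotientGroup.eq_one_iff m).mpr hm, mul_one]⟩
  -- a Sylow r-subgroup of `Ft ⊓ L`
  set M : Subgroup L := Ft.subgroupOf L
  haveI : M.Normal := (inferInstance : (Fb.comap π).Normal).subgroupOf L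
  obtain ⟨R₀⟩ : Nonempty (Sylow r M) := inferInstance
  set RL : Subgroup L := (R₀ : Subgroup M).map M.subtype
  set Rg : Subgroup G := RL.map L.subtype
  have hsupL : Subgroup.normalizer (RL : Set L) ⊔ M = ⊤ := Sylow.normalizer_sup_eq_top R₀
  obtain ⟨l, hl, hly⟩ := hmk y
  have hlM : (⟨l, hl⟩ : L) ∈ Subgroup.normalizer (RL : Set L) ⊔ M := hsupL ▸ Subgroup.mem_top _
  obtain ⟨g, hg, m, hm, hgm⟩ := Subgroup.mem_sup_of_normal_right.mp hlM
  have hgy : ∃ f ∈ Fb, π (g : G) = f * y := by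
    have h1 : π (g : G) * π (m : G) = y := by
      rw [← map_mul, ← Subgroup.coe_mul, hgm]; exact hly
    have hm' : π (m : G) ∈ Fb := hm
    refine ⟨y * (π (m : G))⁻¹ * y⁻¹, (inferInstance : Fb.Normal).conj_mem _ (Fb.inv_mem hm') y, ?_⟩
    rw [inv_mul_cancel_right, ← h1, mul_inv_cancel_right]
  obtain ⟨f, hf, hgf⟩ := hgy
  obtain ⟨hgn, hgfix⟩ := hy f hf
  rw [← hgf] at hgn hgfix
  have hRF : ∀ x ∈ Rg, π x ∈ Fb := by
    rintro _ ⟨_, ⟨x, hx, rfl⟩, rfl⟩
    exact x.2
  have hRgr : IsPGroup r Rg := (R₀.2.map _).map _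
  have hPN : P ≤ N := Subgroup.map_subtype_le _
  have hcopR : (Nat.card Rg).Coprime (Nat.card N) := by
    obtain ⟨e, he⟩ := hRgr.exists_card_eq
    rw [he]
    exact (hcop.coprime_dvd_left hrF).pow_left e
  have hgR : (g : G) ∈ Subgroup.normalizer (Rg : Set G) :=
    Subgroup.le_normalizer_map L.subtype ⟨g, hg, rfl⟩
  have hcent := CfsgLib.Recog.centralizes_of_lifts (p := p) N P Rg hPN (P₀.2.map _) (g : G) n Nat.card_pos
    g.2 (Subgroup.map_subtype_le RL) hgR (hcopR.coprime_dvd_right hpN) ?_ ?_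
  rotate_left
  · intro i hi hin x hx hxN
    have h1 : π x * π (g : G) ^ i = π (g : G) ^ i * π x := by
      rw [← mul_inv_eq_one]
      have h3 : π (x * (g : G) ^ i * ((g : G) ^ i * x)⁻¹) = 1 := (QuotientGroup.eq_one_iff _).mpr hxN
      simpa using h3
    have h2 := hgfix i hi hin (π x) (hRF x hx) h1
    rw [← orderOf_eq_one_iff]
    exact Nat.eq_one_of_dvd_coprimes hcopR (Subgroup.orderOf_dvd_natCard Rg hx)
      (Subgroup.orderOf_dvd_natCard N ((QuotientGroup.eq_one_iff x).mp h2))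
  · intro z hz x hx
    refine hlift _ ?_
    change orderOf (π (z * (x * g * x⁻¹))) = n
    rw [map_mul, show π z = 1 from (QuotientGroup.eq_one_iff z).mpr hz, one_mul, map_mul, map_mul, map_inv]
    refine Eq.trans ?_ hgn
    exact (orderOf_injective (MulAut.conj (π x)).toMonoidHom (MulAut.conj (π x)).injective (π (g : G)))
  -- `Rg` is a Sylow subgroup of `Ft`
  have hRgFt : Rg ≤ Ft := hRF
  have hcardR : Nat.card Rg = r ^ (Nat.card Ft).factorization r := by
    rw [show Nat.card Rg = Nat.card (R₀ : Subgroup M) by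
      rw [Subgroup.card_map_of_injective L.subtype_injective, Subgroup.card_map_of_injective M.subtype_injective],
      R₀.card_eq_multiplicity]
    congr 1
    -- `|Ft| = |M| * (a divisor of |N|)`
    have hMcard : Nat.card M ∣ Nat.card Ft := by
      rw [← Subgroup.card_map_of_injective L.subtype_injective (K := M)]
      exact Subgroup.card_dvd_of_le (by rintro _ ⟨x, hx, rfl⟩; exact hx)
    have hFbM : Nat.card Fb ∣ Nat.card M := by
      let φ : M →* Fb := (π.comp (L.subtype.comp M.subtype)).codRestrict Fb fun x => x.2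
      refine Subgroup.card_dvd_of_surjective φ fun z => ?_
      obtain ⟨x, hx, hxz⟩ := hmk z.1
      exact ⟨⟨⟨x, hx⟩, by change π x ∈ Fb; rw [hxz]; exact z.2⟩, Subtype.ext hxz⟩
    refine le_antisymm ((Nat.factorization_le_iff_dvd Nat.card_pos.ne' Nat.card_pos.ne').mpr hMcard r) ?_
    refine le_trans (le_of_eq ?_) ((Nat.factorization_le_iff_dvd Nat.card_pos.ne' Nat.card_pos.ne').mpr hFbM r)
    rw [hFtcard, Nat.factorization_mul Nat.card_pos.ne' Nat.card_pos.ne', Finsupp.add_apply,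
      Nat.factorization_eq_zero_of_not_dvd (fun hd => hr.ne_one (Nat.eq_one_of_dvd_coprimes hcop hrF hd)), zero_add]
  let R₁ : Sylow r Ft := Sylow.ofCard (Rg.subgroupOf Ft)
    (by rw [Nat.card_congr (Subgroup.subgroupOfEquivOfLe hRgFt).toEquiv, hcardR])
  obtain ⟨t, ht⟩ := MulAction.exists_smul_eq Ft R₁ R
  let c : N ≃* N := MulAut.conjNormal (t : G)
  refine ⟨(MulAut.conjNormal (H := N) (t : G)) • P₀, ?_⟩
  intro x hx z hz
  rw [← ht] at hx
  rw [Sylow.coe_subgroup_smul] at hx
  obtain ⟨x₀, hx₀, rfl⟩ := hx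
  rw [Sylow.pointwise_smul_def] at hz
  obtain ⟨z₀, hz₀, rfl⟩ := hz
  have h := hcent (x₀ : G) hx₀ (z₀ : G) ⟨z₀, hz₀, rfl⟩
  change ((t : G) * x₀ * (t : G)⁻¹) * ((t : G) * z₀ * (t : G)⁻¹) = ((t : G) * z₀ * (t : G)⁻¹) * ((t : G) * x₀ * (t : G)⁻¹)
  calc ((t : G) * x₀ * (t : G)⁻¹) * ((t : G) * z₀ * (t : G)⁻¹) = (t : G) * (x₀ * z₀) * (t : G)⁻¹ := by group
    _ = (t : G) * (z₀ * x₀) * (t : G)⁻¹ := by rw [h]
    _ = _ := by group

/-- Let N be a normal subgroup of the finite group G such that G/N is a Frobenius group with kernel F and cyclic complement H, where the order of F is coprime to that of N and F is not contained in the image of C_G(N) in G/N. Then G has an element of order p·#H for some prime p dividing the order of N. (A standard tool in recognising groups by their element orders.) -/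
theorem result {G : Type*} [Group G] [Finite G] (N : Subgroup G) [N.Normal]
    (Fb Hb : Subgroup (G ⧸ N)) [Fb.Normal] (hHb : Cfsg.IsFrobeniusComplement Hb) (hker : Cfsg.frobeniusKernel Hb = (Fb : Set (G ⧸ N)))
    (hcyc : IsCyclic Hb) (hcop : (Nat.card Fb).Coprime (Nat.card N))
    (hnot : ¬ Fb ≤ (Subgroup.centralizer (N : Set G)).map (QuotientGroup.mk' N)) :
    ∃ p : ℕ, p.Prime ∧ p ∣ Nat.card N ∧ ∃ g : G, orderOf g = p * Nat.card Hb := by
  classical
  haveI := hcyc
  by_contra hcon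
  push Not at hcon
  refine hnot (kernel_le_centralizer N Fb Hb hHb hker hcop ?_)
  intro g hg
  obtain ⟨m, hm⟩ : Nat.card Hb ∣ orderOf g := hg ▸ orderOf_map_dvd (QuotientGroup.mk' N) g
  by_contra hne
  have hm1 : m ≠ 1 := by
    rintro rfl
    apply hne
    rw [mul_one] at hm
    rw [← hm, pow_orderOf_eq_one]
  obtain ⟨q, hq, hqm⟩ := Nat.exists_prime_and_dvd hm1
  obtain ⟨l, rfl⟩ := hqm
  refine hcon q hq ?_ (g ^ l) ?_
  · have h1 : g ^ Nat.card Hb ∈ N := by
      rw [← QuotientGroup.eq_one_iff, QuotientGroup.mk_pow, ← hg]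
      exact pow_orderOf_eq_one _
    have h2 : orderOf (g ^ Nat.card Hb) = q * l := by
      rw [orderOf_pow' _ Nat.card_pos.ne', hm, Nat.gcd_mul_right_left, Nat.mul_div_cancel_left _ Nat.card_pos]
    have h3 : orderOf (g ^ Nat.card Hb) ∣ Nat.card N := Subgroup.orderOf_dvd_natCard N h1
    rw [h2] at h3
    exact (dvd_mul_right q l).trans h3
  · have hl : l ≠ 0 := by
      rintro rfl
      exact (orderOf_pos g).ne' (by rw [hm, mul_zero, mul_zero])
    rw [orderOf_pow' g hl, hm, Nat.gcd_eq_right ⟨Nat.card Hb * q, by ring⟩, ← mul_assoc,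
      Nat.mul_div_cancel _ (Nat.pos_of_ne_zero hl), mul_comm]

end Cfsg.Agent.S3703
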