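import Cfsg.Statements.S3704


set_option autoImplicit false
open Cfsg

namespace Cfsg.Agent.S3704

/-- Let G be a finite group acting faithfully and 2-transitively on a finite set Ω of size n, and let H be a subgroup of index n in G which is not transitive on Ω and fixes no point of Ω. Then H has exactly two orbits on Ω. -/
theorem result {G Ω : Type*} [Group G] [Finite G] [MulAction G Ω] [FaithfulSMul G Ω] [Finite Ω] (h2 : MulAction.IsMultiplyPretransitive G Ω 2) (H : Subgroup G) (hidx : H.index = Nat.card Ω) (hnt : ¬ MulAction.IsPretransitive H Ω) (hfix : ∀ a : Ω, ∃ h : H, h • a ≠ a) : Nat.card (MulAction.orbitRel.Quotient H Ω) = 2 := by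
  classical
  have := Fintype.ofFinite G
  have := Fintype.ofFinite Ω
  rcases Nat.lt_or_ge 1 (Nat.card Ω) with hn | hn
  swap
  · exfalso
    apply hnt
    have : Subsingleton Ω := Finite.card_le_one_iff_subsingleton.mp hn
    exact ⟨fun a b => ⟨1, Subsingleton.elim _ _⟩⟩
  have : Nontrivial Ω := Finite.one_lt_card_iff_nontrivial.mp hn
  have h2' : ∀ x y x' y' : Ω, x ≠ y → x' ≠ y' → ∃ g : G, g • x = x' ∧ g • y = y' :=
    fun x y x' y' h h' => (MulAction.is_two_pretransitive_iff.mp h2) h h'
  -- incidence matrices of the orbits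
  let N : MulAction.orbitRel.Quotient H Ω → Matrix (G ⧸ H) Ω ℚ := fun O c ω =>
    if Quotient.mk'' (c.out⁻¹ • ω) = O then 1 else 0
  have hrel : ∀ (h : G), h ∈ H → ∀ ω : Ω,
      (Quotient.mk'' (h • ω) : MulAction.orbitRel.Quotient H Ω) = Quotient.mk'' ω :=
    fun h hh ω => Quotient.sound' ⟨⟨h, hh⟩, rfl⟩
  have hinv : ∀ O (g : G) c ω, N O (g • c) (g • ω) = N O c ω := by
    intro O g c ω
    have hmem : (g • c).out⁻¹ * (g * c.out) ∈ H := by
      rw [← QuotientGroup.eq, QuotientGroup.out_eq']
      conv_lhs => rw [← QuotientGroup.out_eq' c]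
      rfl
    have he : (g • c).out⁻¹ • (g • ω) = ((g • c).out⁻¹ * (g * c.out)) • (c.out⁻¹ • ω) := by
      simp [mul_smul]
    simp only [N]
    rw [he, hrel _ hmem]
  -- products of two incidence matrices
  have hM : ∀ O O', ∃ a b : ℚ, (N O).transpose * N O' = a • (1 : Matrix Ω Ω ℚ) + b • Matrix.of fun _ _ => (1 : ℚ) := by
    intro O O'
    set M := (N O).transpose * N O'
    have hMinv : ∀ (g : G) x y, M (g • x) (g • y) = M x y := by
      intro g x y
      simp only [M, Matrix.mul_apply, Matrix.transpose_apply]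
      exact (Fintype.sum_equiv (MulAction.toPerm g) _ _ (fun c => by
        simp only [MulAction.toPerm_apply, hinv])).symm
    obtain ⟨x, y, hxy⟩ := exists_pair_ne Ω
    refine ⟨M x x - M x y, M x y, ?_⟩
    ext u v
    rcases eq_or_ne u v with rfl | huv
    · obtain ⟨g, hg, -⟩ := h2' x y u (if u = x then y else x) hxy (by split_ifs with h <;> simp_all)
      rw [← hg, hMinv]
      simp
    · obtain ⟨g, hg, hg'⟩ := h2' x y u v hxy huv
      rw [← hg, ← hg', hMinv]
      simp [hxy]
  set J : Matrix Ω Ω ℚ := Matrix.of fun _ _ => (1 : ℚ) with hJ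
  have hge : 2 ≤ Nat.card (MulAction.orbitRel.Quotient H Ω) := by
    by_contra h
    apply hnt
    rw [MulAction.pretransitive_iff_subsingleton_quotient]
    exact Finite.card_le_one_iff_subsingleton.mp (by omega)
  have : Nontrivial (MulAction.orbitRel.Quotient H Ω) := Finite.one_lt_card_iff_nontrivial.mp (by omega)
  -- any two different orbits cover everything
  have hcover : ∀ O O' : MulAction.orbitRel.Quotient H Ω, O ≠ O' → ∀ ω : Ω,
      Quotient.mk'' ω = O ∨ Quotient.mk'' ω = O' := by
    intro O O' hne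
    obtain ⟨a, b, hab⟩ := hM O O
    obtain ⟨a', b', hab'⟩ := hM O O'
    let c₀ : G ⧸ H := QuotientGroup.mk 1
    have hc₀ : ∀ P ω, N P c₀ ω = if Quotient.mk'' ω = P then 1 else 0 := by
      intro P ω
      have hmem : c₀.out⁻¹ ∈ H := by
        have h := QuotientGroup.eq.mp (QuotientGroup.out_eq' c₀)
        simpa using h
      simp only [N]
      rw [hrel _ hmem]
    obtain ⟨x, rfl⟩ := Quotient.mk''_surjective O
    obtain ⟨y, rfl⟩ := Quotient.mk''_surjective O'
    set O : MulAction.orbitRel.Quotient H Ω := Quotient.mk'' x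
    set O' : MulAction.orbitRel.Quotient H Ω := Quotient.mk'' y
    have hxy : x ≠ y := fun h => hne (by simp only [O, O', h])
    have hsq : ∀ u v : Ω, ∑ c, N O c u * N O c v = a * (if u = v then 1 else 0) + b := fun u v => by
      have := congrFun (congrFun hab u) v
      simpa [Matrix.mul_apply, Matrix.one_apply, J] using this
    have hnn : ∀ c u, 0 ≤ N O c u := fun c u => by simp only [N]; split_ifs <;> norm_num
    have ha : 0 < a := by
      have e : ∑ c, (N O c x - N O c y) ^ 2 = 2 * a := by
        have h1 := hsq x x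
        have h2 := hsq y y
        have h3 := hsq x y
        simp only [if_true, if_neg hxy] at h1 h2 h3
        calc ∑ c, (N O c x - N O c y) ^ 2
            = ∑ c, (N O c x * N O c x + N O c y * N O c y - 2 * (N O c x * N O c y)) :=
              Finset.sum_congr rfl fun c _ => by ring
          _ = 2 * a := by rw [Finset.sum_sub_distrib, Finset.sum_add_distrib, ← Finset.mul_sum, h1, h2, h3]; ring
      have hpos : 0 < ∑ c, (N O c x - N O c y) ^ 2 := by
        refine lt_of_lt_of_le ?_ (Finset.single_le_sum (fun c _ => sq_nonneg _) (Finset.mem_univ c₀))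
        rw [hc₀, hc₀, if_pos rfl, if_neg (show Quotient.mk'' y ≠ O from hne.symm)]
        norm_num
      linarith
    have hb : 0 ≤ b := by
      have h3 := hsq x y
      simp only [if_neg hxy] at h3
      have : 0 ≤ ∑ c, N O c x * N O c y := Finset.sum_nonneg fun c _ => mul_nonneg (hnn c x) (hnn c y)
      linarith
    set n : ℚ := (Fintype.card Ω : ℚ)
    have hJJ : J * J = n • J := by
      ext u v; simp [J, n, Matrix.mul_apply]
    have hden : a + n * b ≠ 0 := by positivity
    let R : Matrix Ω Ω ℚ := a⁻¹ • (1 : Matrix Ω Ω ℚ) + (-(b / (a * (a + n * b)))) • J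
    have hR : ((N O).transpose * N O) * R = 1 := by
      rw [hab]
      simp only [R, Matrix.add_mul, Matrix.mul_add, Matrix.smul_mul, Matrix.mul_smul, Matrix.one_mul,
        Matrix.mul_one, hJJ, smul_smul]
      ext u v
      simp [J, Matrix.one_apply]
      have hd' : a + b * n ≠ 0 := by rwa [mul_comm b n]
      have hkey : (a + n * b) * (a + n * b)⁻¹ = 1 := mul_inv_cancel₀ hden
      field_simp
      ring
    -- `N O` is square, hence invertible
    have hcardeq : Fintype.card (G ⧸ H) = Fintype.card Ω := by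
      rw [← Nat.card_eq_fintype_card, ← Nat.card_eq_fintype_card, ← hidx]
      rfl
    let e := Fintype.equivOfCardEq hcardeq
    have hleft : (N O).transpose * (N O * R) = 1 := by rw [← Matrix.mul_assoc, hR]
    have hright : (N O * R) * (N O).transpose = 1 :=
      (Matrix.mul_eq_one_comm_of_equiv e.symm).mp hleft
    have hN' : N O' = N O * R * ((N O).transpose * N O') := by
      rw [← Matrix.mul_assoc, hright, Matrix.one_mul]
    obtain ⟨α, β, hαβ⟩ : ∃ α β : ℚ, R * ((N O).transpose * N O') = α • (1 : Matrix Ω Ω ℚ) + β • J := by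
      refine ⟨a⁻¹ * a', a⁻¹ * b' + (-(b / (a * (a + n * b)))) * a' + (-(b / (a * (a + n * b)))) * b' * n, ?_⟩
      rw [hab']
      simp only [R, Matrix.add_mul, Matrix.mul_add, Matrix.smul_mul, Matrix.mul_smul, Matrix.one_mul,
        Matrix.mul_one, hJJ, smul_smul]
      ext u v
      simp [J, Matrix.one_apply]
      ring
    rw [Matrix.mul_assoc, hαβ] at hN'
    set k : ℚ := ∑ ω, N O c₀ ω
    have hval : ∀ ω, N O' c₀ ω = α * N O c₀ ω + β * k := by
      intro ω
      have h := congrFun (congrFun hN' c₀) ω
      rw [h]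
      rw [Matrix.mul_add, Matrix.add_apply, Matrix.mul_smul, Matrix.mul_smul, Matrix.mul_one,
        Matrix.smul_apply, Matrix.smul_apply, smul_eq_mul, smul_eq_mul]
      simp [Matrix.mul_apply, J, k]
    intro ω
    by_contra hcon
    push Not at hcon
    have hy := hval y
    have hω := hval ω
    rw [hc₀, hc₀, if_pos rfl, if_neg (show Quotient.mk'' y ≠ O from hne.symm)] at hy
    rw [hc₀, hc₀, if_neg hcon.1, if_neg hcon.2] at hω
    linarith
  obtain ⟨O, O', hne⟩ := exists_pair_ne (MulAction.orbitRel.Quotient H Ω)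
  rw [Nat.card_eq_two_iff]
  refine ⟨O, O', hne, Set.eq_univ_of_forall fun P => ?_⟩
  obtain ⟨ω, rfl⟩ := Quotient.mk''_surjective P
  rcases hcover O O' hne ω with h | h <;> simp [h]

end Cfsg.Agent.S3704
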