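import Cfsg.Statements.S3707


set_option autoImplicit false
open Cfsg
open scoped Pointwise

namespace Cfsg.Agent.S3707

open MulAction in
/-- Jordan: a primitive group with a non-trivial Jordan set is two-transitive. -/
theorem two_trans_of_jordan {G Ω : Type*} [Group G] [MulAction G Ω] [Finite Ω]
    (hprim : IsPreprimitive G Ω) (Γ : Set Ω) (h1 : 1 < Γ.ncard) (h2 : Γ.ncard < Nat.card Ω)
    (htr : ∀ x ∈ Γ, ∀ y ∈ Γ, ∃ g : G, (∀ z ∉ Γ, g • z = z) ∧ g • x = y) :
    IsMultiplyPretransitive G Ω 2 := by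
  have hc := Set.ncard_add_ncard_compl Γ
  refine hprim.is_two_pretransitive (s := Γᶜ) (n := Γᶜ.ncard - 1) (by omega) (by omega) ⟨fun x y => ?_⟩
  obtain ⟨g, hg, hxy⟩ := htr x.1 (by simpa using (SubMulAction.mem_ofFixingSubgroup_iff (M := G)).mp x.2) y.1
    (by simpa using (SubMulAction.mem_ofFixingSubgroup_iff (M := G)).mp y.2)
  exact ⟨⟨g, (mem_fixingSubgroup_iff G).mpr fun z hz => hg z hz⟩, Subtype.ext hxy⟩

open MulAction in
/-- The fixing subgroup of the complement is transitive on each translate of a Jordan set. -/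
theorem translate_transitive {G Ω : Type*} [Group G] [MulAction G Ω] (Γ : Set Ω)
    (htr : ∀ x ∈ Γ, ∀ y ∈ Γ, ∃ g : G, (∀ z ∉ Γ, g • z = z) ∧ g • x = y) (h : G) :
    ∀ x, h⁻¹ • x ∈ Γ → ∀ y, h⁻¹ • y ∈ Γ → ∃ g : G, (∀ z, h⁻¹ • z ∉ Γ → g • z = z) ∧ g • x = y := by
  intro x hx y hy
  obtain ⟨g, hg, hxy⟩ := htr _ hx _ hy
  refine ⟨h * g * h⁻¹, fun z hz => ?_, ?_⟩
  · rw [mul_smul, mul_smul, hg _ hz, smul_inv_smul]
  · rw [mul_smul, mul_smul, hxy, smul_inv_smul]

/-- Double counting. -/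
theorem sum_filter_count {G Ω : Type*} [Fintype G] [DecidableEq Ω] (Z : Finset Ω) (P : G → Prop)
    (S : G → Ω → Prop) [DecidablePred P] [∀ g, DecidablePred (S g)] :
    ∑ z ∈ Z, (Finset.univ.filter fun g => P g ∧ S g z).card =
      ∑ g ∈ Finset.univ.filter P, (Z.filter (S g)).card := by
  simp only [Finset.card_filter]
  rw [Finset.sum_comm, Finset.sum_filter]
  refine Finset.sum_congr rfl fun g _ => ?_
  by_cases h : P g <;> simp [h]

/-- Let G be a finite primitive permutation group on Ω of degree n and Γ ⊂ Ω a subset with 1 < #Γ ≤ n/2 such that the pointwise stabilizer of Ω ∖ Γ is transitive on Γ. Then G is 3-transitive on Ω. -/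
theorem result {G Ω : Type*} [Group G] [Finite G] [MulAction G Ω] [FaithfulSMul G Ω] [Finite Ω] (hprim : MulAction.IsPreprimitive G Ω) (Γ : Set Ω) (h1 : 1 < Γ.ncard) (h2 : 2 * Γ.ncard ≤ Nat.card Ω) (htr : ∀ x ∈ Γ, ∀ y ∈ Γ, ∃ g : G, (∀ z ∉ Γ, g • z = z) ∧ g • x = y) : MulAction.IsMultiplyPretransitive G Ω 3 := by
  classical
  have := Fintype.ofFinite G
  have := Fintype.ofFinite Ω
  have hm : Γ.ncard = Γ.toFinset.card := Set.ncard_eq_toFinset_card' Γ
  have h2t : MulAction.IsMultiplyPretransitive G Ω 2 := two_trans_of_jordan hprim Γ h1 (by omega) htr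
  have h2' : ∀ x y x' y' : Ω, x ≠ y → x' ≠ y' → ∃ g : G, g • x = x' ∧ g • y = y' :=
    fun x y x' y' h h' => (MulAction.is_two_pretransitive_iff.mp h2t) h h'
  have := hprim.toIsPretransitive
  obtain ⟨γ, hγ⟩ : Γ.Nonempty := Set.nonempty_of_ncard_ne_zero (by omega)
  obtain ⟨a, ha⟩ : ∃ a, a ∉ Γ := by
    by_contra h
    push Not at h
    rw [Set.eq_univ_of_forall h, Set.ncard_univ] at h2
    have := Nat.card_pos_iff.mpr ⟨⟨γ⟩, inferInstanceAs (Finite Ω)⟩
    omega
  set X := SubMulAction.ofStabilizer G a with hX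
  have hXtr : MulAction.IsPretransitive (MulAction.stabilizer G a) X := by
    refine ⟨fun x y => ?_⟩
    obtain ⟨g, hg, hxy⟩ := h2' a x a y (Ne.symm x.2) (Ne.symm y.2)
    exact ⟨⟨g, hg⟩, Subtype.ext hxy⟩
  -- counting translates of `Γ`
  set m := Γ.toFinset.card
  have hcardS : ∀ g : G, (Finset.univ.filter fun z : Ω => g⁻¹ • z ∈ Γ).card = m := by
    intro g
    have he : (Finset.univ.filter fun z : Ω => g⁻¹ • z ∈ Γ) = Γ.toFinset.image (g • ·) := by
      ext z
      simp only [Finset.mem_filter, Finset.mem_univ, true_and, Finset.mem_image, Set.mem_toFinset]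
      exact ⟨fun h => ⟨_, h, smul_inv_smul g z⟩, by rintro ⟨w, hw, rfl⟩; simpa using hw⟩
    rw [he, Finset.card_image_of_injective _ (MulAction.injective g)]
  let L2 : Ω → Ω → ℕ := fun x z => (Finset.univ.filter fun g : G => g⁻¹ • x ∈ Γ ∧ g⁻¹ • z ∈ Γ).card
  have hL2 : ∀ x z x' z' : Ω, x ≠ z → x' ≠ z' → L2 x z = L2 x' z' := by
    intro x z x' z' h h'
    obtain ⟨t, ht1, ht2⟩ := h2' x z x' z' h h'
    refine Finset.card_bijective (t * ·) (Group.mulLeft_bijective t) fun g => ?_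
    simp [mul_smul, ← ht1, ← ht2]
  have hprimA : MulAction.IsPreprimitive (MulAction.stabilizer G a) X := by
    refine ⟨fun {B} hB => ?_⟩
    by_contra hBt
    rw [MulAction.IsTrivialBlock, not_or] at hBt
    obtain ⟨hBs, hBu⟩ := hBt
    obtain ⟨⟨x, hxa⟩, hxB, y', hy'B, hxy⟩ := Set.not_subsingleton_iff.mp hBs
    set x' : X := ⟨x, hxa⟩
    let Bv : Finset Ω := (Subtype.val '' B).toFinset
    have hxBv : x ∈ Bv := Set.mem_toFinset.mpr ⟨x', hxB, rfl⟩
    have hxy' : (y' : Ω) ≠ x := fun h => hxy (Subtype.ext h.symm)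
    -- a translate avoiding `a` meets the block in itself or the whole block
    have hdich : ∀ g : G, g⁻¹ • x ∈ Γ → g⁻¹ • a ∉ Γ →
        (∀ w ∈ Bv, g⁻¹ • w ∈ Γ) ∨ ∀ w, g⁻¹ • w ∈ Γ → w ∈ Bv := by
      intro g hgx hga
      by_contra hcon
      push Not at hcon
      obtain ⟨⟨w, hwB, hw⟩, z, hz, hzB⟩ := hcon
      obtain ⟨k, hk, hkx⟩ := translate_transitive Γ htr g x hgx z hz
      obtain ⟨w', hw', hww⟩ := Set.mem_toFinset.mp hwB
      have hka : k • a = a := hk a hga
      have hfixw : (⟨k, hka⟩ : MulAction.stabilizer G a) • w' = w' := Subtype.ext (by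
        show k • (w' : Ω) = w'
        rw [hww]; exact hk w hw)
      have hBk : (⟨k, hka⟩ : MulAction.stabilizer G a) • B = B :=
        hB.smul_eq_of_nonempty ⟨w', ⟨w', hw', hfixw⟩, hw'⟩
      refine hzB (Set.mem_toFinset.mpr ⟨(⟨k, hka⟩ : MulAction.stabilizer G a) • x', ?_, hkx⟩)
      exact hBk ▸ Set.smul_mem_smul_set hxB
    have hpos : 0 < L2 x y' := by
      obtain ⟨δ, hδ, hne⟩ := Set.exists_ne_of_one_lt_ncard h1 γ
      obtain ⟨g, hg1, hg2⟩ := h2' γ δ x y' hne.symm hxy'.symm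
      exact Finset.card_pos.mpr ⟨g, Finset.mem_filter.mpr ⟨Finset.mem_univ g,
        by rwa [← hg1, inv_smul_smul], by rwa [← hg2, inv_smul_smul]⟩⟩
    rcases Nat.lt_or_ge Bv.card m with hlt | hge
    · -- large Jordan set: translates through `x` avoiding `a` contain `y'`
      have hall : ∀ g : G, g⁻¹ • x ∈ Γ → g⁻¹ • a ∉ Γ → g⁻¹ • (y' : Ω) ∈ Γ := by
        intro g hgx hga
        rcases hdich g hgx hga with h | h
        · exact h _ (Set.mem_toFinset.mpr ⟨y', hy'B, rfl⟩)
        · exfalso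
          have hle : (Finset.univ.filter fun z : Ω => g⁻¹ • z ∈ Γ).card ≤ Bv.card :=
            Finset.card_le_card fun z hz => h z (Finset.mem_filter.mp hz).2
          rw [hcardS] at hle
          omega
      let L1 := (Finset.univ.filter fun g : G => g⁻¹ • x ∈ Γ).card
      have hL1 : L1 ≤ L2 x a + L2 x y' := by
        refine le_trans (Finset.card_le_card (t := (Finset.univ.filter fun g : G => g⁻¹ • x ∈ Γ ∧ g⁻¹ • a ∈ Γ) ∪
          (Finset.univ.filter fun g : G => g⁻¹ • x ∈ Γ ∧ g⁻¹ • (y' : Ω) ∈ Γ)) fun g hg => ?_) (Finset.card_union_le _ _)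
        simp only [Finset.mem_filter, Finset.mem_univ, true_and, Finset.mem_union] at hg ⊢
        by_cases hga : g⁻¹ • a ∈ Γ
        · exact Or.inl ⟨hg, hga⟩
        · exact Or.inr ⟨hg, hall g hg hga⟩
      have hsum := sum_filter_count (Finset.univ.erase x) (fun g : G => g⁻¹ • x ∈ Γ) (fun g z => g⁻¹ • z ∈ Γ)
      rw [Finset.sum_congr rfl (fun z hz => hL2 x z x y' (Ne.symm (Finset.ne_of_mem_erase hz)) hxy'.symm),
        Finset.sum_congr rfl (fun g hg => show ((Finset.univ.erase x).filter fun z => g⁻¹ • z ∈ Γ).card = m - 1 by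
          rw [Finset.filter_erase, Finset.card_erase_of_mem (by simpa using (Finset.mem_filter.mp hg).2), hcardS]),
        Finset.sum_const, Finset.sum_const, smul_eq_mul, smul_eq_mul, Finset.card_erase_of_mem (Finset.mem_univ x),
        Finset.card_univ] at hsum
      rw [hL2 x a x y' hxa hxy'.symm] at hL1
      rw [← Nat.card_eq_fintype_card] at hsum
      change (Nat.card Ω - 1) * L2 x y' = L1 * (m - 1) at hsum
      have hh : L1 * (m - 1) ≤ (L2 x y' + L2 x y') * (m - 1) := Nat.mul_le_mul_right _ hL1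
      have hlt2 : 2 * (m - 1) < Nat.card Ω - 1 := by omega
      have hh2 := Nat.mul_lt_mul_of_pos_right hlt2 hpos
      nlinarith
    · -- small Jordan set: translates through `x` and outside the block contain `a`
      obtain ⟨u, hu⟩ : ∃ u, u ∉ B := by
        by_contra h
        push Not at h
        exact hBu (Set.eq_univ_of_forall h)
      obtain ⟨t, ht⟩ := hXtr.exists_smul_eq x' u
      have hdisj : Disjoint (t • B) B := (MulAction.isBlock_iff_smul_eq_or_disjoint.mp hB t).resolve_left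
        fun h => hu (ht ▸ h ▸ Set.smul_mem_smul_set hxB)
      let Z := (Subtype.val '' (t • B)).toFinset
      have hZa : ∀ z ∈ Z, z ≠ a ∧ z ∉ Bv ∧ z ≠ x := by
        intro z hz
        obtain ⟨z', hz', rfl⟩ := Set.mem_toFinset.mp hz
        have hnB : (z' : Ω) ∉ Bv := fun h => by
          obtain ⟨w, hw, hwz⟩ := Set.mem_toFinset.mp h
          exact Set.disjoint_left.mp hdisj hz' (Subtype.ext hwz ▸ hw)
        exact ⟨z'.2, hnB, fun h => hnB (h ▸ hxBv)⟩
      have hZc : Z.card = Bv.card := by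
        simp only [Z, Bv, ← Set.ncard_eq_toFinset_card', Set.ncard_image_of_injective _ Subtype.val_injective]
        exact Set.ncard_image_of_injective _ (MulAction.injective t)
      have hcont : ∀ z ∈ Z, ∀ g : G, g⁻¹ • x ∈ Γ → g⁻¹ • z ∈ Γ → g⁻¹ • a ∈ Γ := by
        intro z hz g hgx hgz
        by_contra hga
        rcases hdich g hgx hga with h | h
        · have heq : Bv = (Finset.univ.filter fun w : Ω => g⁻¹ • w ∈ Γ) :=
            Finset.eq_of_subset_of_card_le (fun w hw => Finset.mem_filter.mpr ⟨Finset.mem_univ w, h w hw⟩)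
              (by rw [hcardS]; exact hge)
          exact (hZa z hz).2.1 (heq ▸ Finset.mem_filter.mpr ⟨Finset.mem_univ z, hgz⟩)
        · exact (hZa z hz).2.1 (h z hgz)
      have hsum := sum_filter_count Z (fun g : G => g⁻¹ • x ∈ Γ ∧ g⁻¹ • a ∈ Γ) (fun g z => g⁻¹ • z ∈ Γ)
      have hlhs : ∀ z ∈ Z, (Finset.univ.filter fun g : G => (g⁻¹ • x ∈ Γ ∧ g⁻¹ • a ∈ Γ) ∧ g⁻¹ • z ∈ Γ).card = L2 x a := by
        intro z hz
        rw [hL2 x a x z hxa (hZa z hz).2.2.symm]
        refine congrArg Finset.card (Finset.filter_congr fun g _ => ?_)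
        exact ⟨fun h => ⟨h.1.1, h.2⟩, fun h => ⟨⟨h.1, hcont z hz g h.1 h.2⟩, h.2⟩⟩
      rw [Finset.sum_congr rfl hlhs, Finset.sum_const, smul_eq_mul, hZc] at hsum
      have hrhs : ∀ g ∈ (Finset.univ.filter fun g : G => g⁻¹ • x ∈ Γ ∧ g⁻¹ • a ∈ Γ),
          (Z.filter fun z => g⁻¹ • z ∈ Γ).card + 2 ≤ m := by
        intro g hg
        rw [← hcardS g]
        obtain ⟨hgx, hga⟩ := (Finset.mem_filter.mp hg).2
        have h3 : insert x (insert a (Z.filter fun z => g⁻¹ • z ∈ Γ)) ⊆ Finset.univ.filter fun z : Ω => g⁻¹ • z ∈ Γ := by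
          intro z hz
          simp only [Finset.mem_insert, Finset.mem_filter] at hz
          rcases hz with rfl | rfl | ⟨-, h⟩ <;> simp [*]
        refine le_trans ?_ (Finset.card_le_card h3)
        rw [Finset.card_insert_of_notMem, Finset.card_insert_of_notMem]
        · intro h; exact (hZa a (Finset.mem_filter.mp h).1).1 rfl
        · simp only [Finset.mem_insert, not_or]
          exact ⟨hxa, fun h => (hZa x (Finset.mem_filter.mp h).1).2.2 rfl⟩
      have hle := Finset.sum_le_sum (g := fun _ => m - 2) (fun g hg => Nat.le_sub_of_add_le (hrhs g hg))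
      rw [Finset.sum_const, smul_eq_mul, ← hsum] at hle
      have hpos' : 0 < L2 x a := hL2 x a x y' hxa hxy'.symm ▸ hpos
      change Bv.card * L2 x a ≤ L2 x a * (m - 2) at hle
      rw [mul_comm (L2 x a)] at hle
      have := Nat.le_of_mul_le_mul_right hle hpos'
      omega
  rw [SubMulAction.ofStabilizer.isMultiplyPretransitive (a := a)]
  have hpre : Subtype.val '' (Subtype.val ⁻¹' Γ : Set X) = Γ := by
    rw [Set.image_preimage_eq_inter_range, Set.inter_eq_left]
    exact fun z hz => ⟨⟨z, fun h => ha (Set.mem_singleton_iff.mp h ▸ hz)⟩, rfl⟩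
  have hcard : (Subtype.val ⁻¹' Γ : Set X).ncard = Γ.ncard := by
    rw [← Set.ncard_image_of_injective _ Subtype.val_injective, hpre]
  have hXc : Nat.card X + 1 = Nat.card Ω := SubMulAction.nat_card_ofStabilizer_add_one_eq G a
  refine two_trans_of_jordan hprimA (Subtype.val ⁻¹' Γ) (by omega) (by simp only [hX] at hXc ⊢; omega) fun x hx y hy => ?_
  obtain ⟨g, hg, hxy⟩ := htr _ hx _ hy
  exact ⟨⟨g, hg a ha⟩, fun z hz => Subtype.ext (hg z hz), Subtype.ext hxy⟩

end Cfsg.Agent.S3707
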