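import Cfsg.Statements.S3708
import Cfsg.Agent.Lib.Recog.Phan.Pair
import Cfsg.Agent.Lib.Recog.Phan.Lift

set_option autoImplicit false
open Cfsg CfsgLib.Recog.Phan

namespace Cfsg.Agent.S3708

/-- Phan's recognition of unitary groups. Let F be a finite field with q² elements, q > 4, and n ≥ 2. Let G be a group generated by subgroups U_0, …, U_{n−1}, each isomorphic to the special unitary group SU(2, q²) (determinant-one isometries of the standard Hermitian form in two variables over F), and let D_i ≤ U_i be cyclic subgroups of order q + 1. Suppose that U_i and U_j commute elementwise whenever the indices differ by at least 2, that the subgroup generated by U_i and U_{i+1} is isomorphic to SU(3, q²) for each i, and that D_i and D_j commute elementwise for all i, j. Then G is a homomorphic image of SU(n+1, q²). (Generation of G by the U_i is part of the hypothesis; G is not assumed finite.) -/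
theorem result {G : Type*} [Group G] (n : ℕ) (hn : 2 ≤ n)
    (F : Type*) [Field F] [Fintype F] (q : ℕ) (hq : 4 < q) (hF : Fintype.card F = q ^ 2)
    (U : Fin n → Subgroup G) (e : ∀ i, ↥(Cfsg.SU 2 F q) ≃* ↥(U i)) (hgen : ⨆ i, U i = ⊤)
    (D : Fin n → Subgroup G) (hD : ∀ i, D i ≤ U i ∧ IsCyclic ↥(D i) ∧ Nat.card ↥(D i) = q + 1)
    (h1 : ∀ i j : Fin n, (i : ℕ) + 2 ≤ j → ∀ x ∈ U i, ∀ y ∈ U j, x * y = y * x)
    (h2 : ∀ i j : Fin n, (i : ℕ) + 1 = j → Nonempty (↥(U i ⊔ U j) ≃* ↥(Cfsg.SU 3 F q)))
    (h3 : ∀ i j : Fin n, i ≠ j → ∀ x ∈ D i, ∀ y ∈ D j, x * y = y * x) :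
    ∃ f : ↥(Cfsg.SU (n + 1) F q) →* G, Function.Surjective f := by
  classical
  let V : Fin n → Fin n → Subgroup G := fun i j => U i ⊔ U j
  have hpair : ∀ i j : Fin n, (i : ℕ) + 1 = j → Cfsg.IsStandardUnitaryPair (V i j) (U i) (U j) F q := by
    intro i j hij
    obtain ⟨ψ⟩ := h2 i j hij
    let em : ↥(Cfsg.SU 3 F q) →* G := (U i ⊔ U j).subtype.comp ψ.symm.toMonoidHom
    have hem : Function.Injective em := (U i ⊔ U j).subtype_injective.comp ψ.symm.injective
    have hrange : ∀ X : Subgroup G, X ≤ U i ⊔ U j → (X.comap em).map em = X := fun X hX =>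
      Subgroup.map_comap_eq_self fun x hx => ⟨ψ ⟨x, hX hx⟩, congrArg Subtype.val (ψ.symm_apply_apply ⟨x, hX hx⟩)⟩
    have equiv : ∀ X : Subgroup G, X ≤ U i ⊔ U j → Nonempty (↥(X.comap em) ≃* ↥X) := fun X hX =>
      ⟨((X.comap em).equivMapOfInjective em hem).trans (MulEquiv.subgroupCongr (hrange X hX))⟩
    obtain ⟨eA⟩ := equiv (U i) le_sup_left
    obtain ⟨eB⟩ := equiv (U j) le_sup_right
    obtain ⟨hDi, hci, hni⟩ := hD i
    obtain ⟨hDj, hcj, hnj⟩ := hD j
    obtain ⟨eDi⟩ := equiv (D i) (hDi.trans le_sup_left)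
    obtain ⟨eDj⟩ := equiv (D j) (hDj.trans le_sup_right)
    obtain ⟨g, hgA, hgB⟩ := Norm.standard_pair hF (by omega) ((U i).comap em) ((U j).comap em)
      ((D i).comap em) ((D j).comap em) ((e i).trans eA.symm) ((e j).trans eB.symm)
      (Subgroup.comap_mono hDi) (isCyclic_of_surjective eDi.symm.toMonoidHom eDi.symm.surjective)
      ((Nat.card_congr eDi.toEquiv).trans hni)
      (Subgroup.comap_mono hDj) (isCyclic_of_surjective eDj.symm.toMonoidHom eDj.symm.surjective)
      ((Nat.card_congr eDj.toEquiv).trans hnj)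
      (Subgroup.map_injective hem (by
        rw [Subgroup.map_sup, hrange _ le_sup_left, hrange _ le_sup_right, ← MonoidHom.range_eq_map,
          show em.range = U i ⊔ U j from by
            rw [MonoidHom.range_eq_map, ← Subgroup.map_map, ← MonoidHom.range_eq_map,
              MonoidHom.range_eq_top.2 ψ.symm.surjective, ← MonoidHom.range_eq_map, Subgroup.range_subtype]]))
      (fun x hx y hy => hem (by
        rw [map_mul, map_mul]
        exact h3 i j (fun h => by rw [h] at hij; omega) _ hx _ hy))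
    have image : ∀ (X : Subgroup G) (E : ↥(Cfsg.SU 2 F q) →* ↥(Cfsg.SU 3 F q)), X ≤ U i ⊔ U j →
        (∀ h, h ∈ X.comap em ↔ g⁻¹ * h * g ∈ E.range) →
        E.range.map ((U i ⊔ U j).subtype.comp ((MulAut.conj g).trans ψ.symm).toMonoidHom) = X := by
      intro X E hX hiff
      conv_rhs => rw [← hrange X hX]
      ext x
      simp only [Subgroup.mem_map]
      constructor
      · rintro ⟨y, hy, rfl⟩
        exact ⟨g * y * g⁻¹, (hiff _).2 (by simpa [mul_assoc] using hy), rfl⟩
      · rintro ⟨y, hy, rfl⟩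
        refine ⟨g⁻¹ * y * g, (hiff y).1 hy, ?_⟩
        show em (g * (g⁻¹ * y * g) * g⁻¹) = em y
        congr 1
        group
    refine Or.inl ⟨(MulAut.conj g).trans ψ.symm, ?_, ?_⟩
    · rw [show Cfsg.suBlock 3 F q {0, 1} = (left2 (F := F) (q := q)).range from
        Norm.suBlock_eq_range hF _ (by decide)]
      exact image _ _ le_sup_left hgA
    · rw [show Cfsg.suBlock 3 F q {1, 2} = (right2 (F := F) (q := q)).range from
        Norm.suBlock_eq_range hF _ (by decide)]
      exact image _ _ le_sup_right hgB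
  obtain ⟨S, -, hS⟩ := Norm.exists_sys hF hn (by omega) U V h1 hpair
  refine exists_surjective hF (by omega) (by omega : 3 ≤ n + 1) S fun P hP => ?_
  rw [eq_top_iff, ← hgen, iSup_le_iff]
  intro i
  rw [← hS i (by omega)]
  rintro _ ⟨x, rfl⟩
  by_cases hi : (i : ℕ) + 3 ≤ n + 1
  · rw [← S.phi_left i hi x]; exact hP _ _ _
  · have h := hP (n - 2) (by omega) (right2 x)
    rw [S.phi_right] at h
    have : n - 2 + 1 = (i : ℕ) := by omega
    simpa only [this] using h

end Cfsg.Agent.S3708
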