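import Cfsg.Statements.S3709
import Cfsg.Agent.Lib.Recog.Phan.Lift
import Cfsg.Agent.Lib.Recog.Phan.Normalise

set_option autoImplicit false
open Cfsg

namespace Cfsg.Agent.S3709

/-- Recognition of unitary groups from a weak Phan system. Let F be a finite field with q² elements, q > 3, and n ≥ 3. Let G be a group with subgroups U_0, …, U_{n−1}, each isomorphic to SU(2, q²), and, for each pair of consecutive indices, a subgroup V_{i,i+1} in which U_i and U_{i+1} form a standard pair (some isomorphism from SU(3, q²), or from its central quotient PSU(3, q²), onto V_{i,i+1} carries the two block-diagonal SU(2, q²) subgroups, or their images, onto U_i and U_{i+1}). Suppose that U_i and U_j commute elementwise whenever the indices differ by at least 2, and that G is generated by the U_i together with the V_{i,i+1}. Then G is a homomorphic image of SU(n+1, q²). (G is not assumed finite.) -/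
theorem result {G : Type*} [Group G] (n : ℕ) (hn : 3 ≤ n)
    (F : Type*) [Field F] [Fintype F] (q : ℕ) (hq : 3 < q) (hF : Fintype.card F = q ^ 2)
    (U : Fin n → Subgroup G) (e : ∀ i, ↥(Cfsg.SU 2 F q) ≃* ↥(U i))
    (V : Fin n → Fin n → Subgroup G)
    (h1 : ∀ i j : Fin n, (i : ℕ) + 2 ≤ j → ∀ x ∈ U i, ∀ y ∈ U j, x * y = y * x)
    (h2 : ∀ i j : Fin n, (i : ℕ) + 1 = j → Cfsg.IsStandardUnitaryPair (V i j) (U i) (U j) F q)
    (hgen : (⨆ i, U i) ⊔ (⨆ (i : Fin n) (j : Fin n) (_ : (i : ℕ) + 1 = j), V i j) = ⊤) :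
    ∃ f : ↥(Cfsg.SU (n + 1) F q) →* G, Function.Surjective f := by
  obtain ⟨S, hV, hU⟩ := CfsgLib.Recog.Phan.Norm.exists_sys hF (by omega) hq U V h1 h2
  refine CfsgLib.Recog.Phan.exists_surjective hF hq (by omega) S fun P hP => ?_
  have hVP : ∀ (i : ℕ) (h : i + 3 ≤ n + 1), V ⟨i, by omega⟩ ⟨i + 1, by omega⟩ ≤ P := by
    intro i h
    rw [← hV i h]
    rintro _ ⟨x, rfl⟩
    exact hP i h x
  have hUV : ∀ (i : ℕ) (h : i + 2 ≤ n + 1), U ⟨i, by omega⟩ ≤ P := by
    intro i h
    rw [← hU i h]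
    rintro _ ⟨x, rfl⟩
    rcases Nat.lt_or_ge (i + 2) (n + 1) with h' | h'
    · rw [← S.phi_left i (by omega) x]
      exact hP _ _ _
    · obtain ⟨k, rfl⟩ : ∃ k, i = k + 1 := ⟨i - 1, by omega⟩
      rw [← S.phi_right k (by omega) x]
      exact hP _ _ _
  refine top_le_iff.1 (hgen ▸ sup_le (iSup_le fun i => ?_) (iSup_le fun i => iSup_le fun k => iSup_le fun hk => ?_))
  · exact hUV i (by omega)
  · have hk2 := k.2
    have hk' : k = ⟨(i : ℕ) + 1, by omega⟩ := Fin.ext hk.symm
    rw [hk']
    exact hVP i (by omega)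

end Cfsg.Agent.S3709
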