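import Cfsg.Statements.S3710
import Cfsg.Agent.Lib.Recog.Phan.Small.Assemble
import Cfsg.Agent.Lib.Recog.Phan.Small.Three.Four
import Cfsg.Agent.Lib.Recog.Phan.Small.Three.Glue

set_option autoImplicit false
open Cfsg

namespace Cfsg.Agent.S3710

open CfsgLib.Recog.Phan CfsgLib.Recog.Phan.Small in
/-- Recognition of unitary groups over the field with 9 elements from a weak Phan system. Let F be a field with 9 elements and n ≥ 4. Let G be a group with subgroups U_0, …, U_{n−1}, each isomorphic to SU(2, 9), and, for consecutive indices, subgroups V_{i,i+1} in which U_i and U_{i+1} form a standard pair (via an isomorphism from SU(3, 9) or PSU(3, 9) carrying the block-diagonal subgroups, or their images, onto U_i and U_{i+1}); suppose U_i and U_j commute elementwise whenever the indices differ by at least 2, that G is generated by the U_i and the V_{i,i+1}, and moreover that for each i the subgroup generated by V_{i,i+1} and V_{i+1,i+2} is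 a homomorphic image of SU(4, 9). Then G is a homomorphic image of SU(n+1, 9). (G is not assumed finite.) -/
theorem result {G : Type*} [Group G] (n : ℕ) (hn : 4 ≤ n)
    (F : Type*) [Field F] [Fintype F] (hF : Fintype.card F = 9)
    (U : Fin n → Subgroup G) (e : ∀ i, ↥(Cfsg.SU 2 F 3) ≃* ↥(U i))
    (V : Fin n → Fin n → Subgroup G)
    (h1 : ∀ i j : Fin n, (i : ℕ) + 2 ≤ j → ∀ x ∈ U i, ∀ y ∈ U j, x * y = y * x)
    (h2 : ∀ i j : Fin n, (i : ℕ) + 1 = j → Cfsg.IsStandardUnitaryPair (V i j) (U i) (U j) F 3)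
    (hgen : (⨆ i, U i) ⊔ (⨆ (i : Fin n) (j : Fin n) (_ : (i : ℕ) + 1 = j), V i j) = ⊤)
    (h4 : ∀ i j k : Fin n, (i : ℕ) + 1 = j → (j : ℕ) + 1 = k →
      ∃ g : ↥(Cfsg.SU 4 F 3) →* ↥(V i j ⊔ V j k), Function.Surjective g) :
    ∃ f : ↥(Cfsg.SU (n + 1) F 3) →* G, Function.Surjective f := by
  have hF' : Fintype.card F = 3 ^ 2 := by simpa using hF
  have hsup : ∀ i j : Fin n, (i : ℕ) + 1 = j → V i j ≤ U i ⊔ U j := fun i j hij => by
    obtain ⟨f, hf⟩ := Norm.exists_good hF' (h2 i j hij)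
    have htop : (left2 (F := F) (q := 3)).range ⊔ right2.range = ⊤ :=
      gen_top hF' le_rfl (by omega) _ fun a ha x => by
        rcases (by omega : a = 0 ∨ a = 1) with rfl | rfl
        · exact Subgroup.mem_sup_left ⟨x, rfl⟩
        · exact Subgroup.mem_sup_right ⟨x, rfl⟩
    rw [← hf.range, ← hf.left, ← hf.right, MonoidHom.range_comp, MonoidHom.range_comp, ← Subgroup.map_sup, htop,
      ← MonoidHom.range_eq_map]
  have hU : ∀ i j : Fin n, ((i : ℕ) + 2 ≤ j ∨ (j : ℕ) + 2 ≤ i) → U j ≤ Subgroup.centralizer (U i : Set G) :=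
    fun i j hij y hy x hx => by
      rcases hij with h | h
      · exact h1 i j h x hx y hy
      · exact (h1 j i h y hy x hx).symm
  have c5 : ∀ i j k : Fin n, (j : ℕ) + 1 = k → ((i : ℕ) + 2 ≤ j ∨ (k : ℕ) + 2 ≤ i) →
      ∀ x ∈ U i, ∀ y ∈ V j k, x * y = y * x := fun i j k hjk h x hx y hy =>
    ((hsup j k hjk).trans (sup_le (hU i j (by omega)) (hU i k (by omega))) hy) x hx
  have c6 : ∀ i j k l : Fin n, (i : ℕ) + 1 = j → (k : ℕ) + 1 = l → (j : ℕ) + 2 ≤ k →
      ∀ x ∈ V i j, ∀ y ∈ V k l, x * y = y * x := fun i j k l hij hkl hjk x hx y hy => by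
    have : U i ⊔ U j ≤ Subgroup.centralizer (V k l : Set G) := sup_le
      (fun z hz w hw => (c5 i k l hkl (by omega) z hz w hw).symm)
      (fun z hz w hw => (c5 j k l hkl (by omega) z hz w hw).symm)
    exact ((this (hsup i j hij hx)) y hy).symm
  refine exists_surjective hF' hn U V (fun θ => Function.Injective (θ.comp (emb (k := 3) 0 (by omega))) ∧
      Function.Injective (θ.comp (emb (k := 3) 1 (by omega)))) (fun i h => ?_) (fun i h θ θ2 p x p2 x2 => ?_) c5 c6 hgen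
  · obtain ⟨g, hg⟩ := h4 ⟨i, by omega⟩ ⟨i + 1, by omega⟩ ⟨i + 2, by omega⟩ rfl rfl
    obtain ⟨θ, -, a, b, c, d, e', i0, i1⟩ := Three.exists_four hF' (h2 ⟨i, by omega⟩ ⟨i + 1, by omega⟩ rfl)
      (h2 ⟨i + 1, by omega⟩ ⟨i + 2, by omega⟩ rfl) (h1 ⟨i, by omega⟩ ⟨i + 2, by omega⟩ le_rfl) g hg
    exact ⟨θ, ⟨a, b, c, d, e'⟩, i0, i1⟩
  · obtain ⟨θ', -, hr, i0, i1, hx⟩ := Three.exists_glue_four hF' θ θ2 x.2 x2.1
      (p.v1.trans p2.v0.symm) (p.u1.trans p2.u0.symm) (p.u2.trans p2.u1.symm)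
    exact ⟨θ', ⟨(hr _ _).trans p2.v0, (hr _ _).trans p2.v1, (hr _ _).trans p2.u0, (hr _ _).trans p2.u1,
      (hr _ _).trans p2.u2⟩, ⟨i0, i1 x2.2⟩, hx⟩

end Cfsg.Agent.S3710
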