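import Cfsg.Statements.S3713
import Cfsg.Agent.Lib.Recog.SpSlimCover

set_option autoImplicit false
open Cfsg

namespace Cfsg.Agent.S3713

/-- A presentation of the symplectic group as the universal completion of an amalgam of small subgroups. Let F be a field with more than two elements, n ≥ 2, and Sp the group of 2n × 2n matrices over F preserving the standard alternating form, acting on column vectors; write e_k, f_k for the standard basis vectors of the two halves (a hyperbolic basis). For each k let S_k be the subgroup of Sp fixing e_l and f_l for all l ≠ k (a copy of SL(2, F) on the plane of e_k, f_k), and for each i with i + 1 < n let M_i be the subgroup fixing every e_l and fixing f_l for all l other than i, i+1 (an abelian group isomorphic to the additive group of F³). Then Sp is the universal completion of the amalgam formed by the S_k, the M_i and the subgroups generated by two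 of them: for every group H and homomorphisms σ_k : S_k → H, μ_i : M_i → H such that for each pair of these subgroups some homomorphism on the subgroup they generate restricts to the given ones, there is exactly one homomorphism Sp → H restricting to every σ_k and μ_i. -/
theorem result
    (F : Type*) [Field F] (hF : ∃ a : F, a ≠ 0 ∧ a ≠ 1) (n : ℕ) (hn : 2 ≤ n)
    (S M : Fin n → Subgroup ↥(Matrix.symplecticGroup (Fin n) F))
    (hS : ∀ j : Fin n, S j = Subgroup.closure {A : ↥(Matrix.symplecticGroup (Fin n) F) | ∀ k : Fin n, k ≠ j →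
      ((A : ↥(Matrix.symplecticGroup (Fin n) F)) : Matrix (Fin n ⊕ Fin n) (Fin n ⊕ Fin n) F).mulVec (Pi.single (Sum.inl k) (1 : F)) = (Pi.single (Sum.inl k) (1 : F)) ∧ ((A : ↥(Matrix.symplecticGroup (Fin n) F)) : Matrix (Fin n ⊕ Fin n) (Fin n ⊕ Fin n) F).mulVec (Pi.single (Sum.inr k) (1 : F)) = (Pi.single (Sum.inr k) (1 : F))})
    (hM : ∀ i : Fin n, (i : ℕ) + 1 < n → M i = Subgroup.closure {A : ↥(Matrix.symplecticGroup (Fin n) F) |
      (∀ k : Fin n, ((A : ↥(Matrix.symplecticGroup (Fin n) F)) : Matrix (Fin n ⊕ Fin n) (Fin n ⊕ Fin n) F).mulVec (Pi.single (Sum.inl k) (1 : F)) = (Pi.single (Sum.inl k) (1 : F))) ∧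
        ∀ k : Fin n, (k : ℕ) ≠ i → (k : ℕ) ≠ (i : ℕ) + 1 → ((A : ↥(Matrix.symplecticGroup (Fin n) F)) : Matrix (Fin n ⊕ Fin n) (Fin n ⊕ Fin n) F).mulVec (Pi.single (Sum.inr k) (1 : F)) = (Pi.single (Sum.inr k) (1 : F))})
    {H : Type*} [Group H] (σ : ∀ j : Fin n, ↥(S j) →* H) (μ : ∀ i : Fin n, ↥(M i) →* H)
    (hSS : ∀ j l : Fin n, j ≠ l → ∃ Ψ : ↥(S j ⊔ S l) →* H,
      (∀ (g : ↥(Matrix.symplecticGroup (Fin n) F)) (hg : g ∈ S j), Ψ ⟨g, Subgroup.mem_sup_left hg⟩ = σ j ⟨g, hg⟩) ∧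
        (∀ (g : ↥(Matrix.symplecticGroup (Fin n) F)) (hg : g ∈ S l), Ψ ⟨g, Subgroup.mem_sup_right hg⟩ = σ l ⟨g, hg⟩))
    (hMM : ∀ i i' : Fin n, i ≠ i' → (i : ℕ) + 1 < n → (i' : ℕ) + 1 < n → ∃ Ψ : ↥(M i ⊔ M i') →* H,
      (∀ (g : ↥(Matrix.symplecticGroup (Fin n) F)) (hg : g ∈ M i), Ψ ⟨g, Subgroup.mem_sup_left hg⟩ = μ i ⟨g, hg⟩) ∧
        (∀ (g : ↥(Matrix.symplecticGroup (Fin n) F)) (hg : g ∈ M i'), Ψ ⟨g, Subgroup.mem_sup_right hg⟩ = μ i' ⟨g, hg⟩))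
    (hMS : ∀ i j : Fin n, (i : ℕ) + 1 < n → ∃ Ψ : ↥(M i ⊔ S j) →* H,
      (∀ (g : ↥(Matrix.symplecticGroup (Fin n) F)) (hg : g ∈ M i), Ψ ⟨g, Subgroup.mem_sup_left hg⟩ = μ i ⟨g, hg⟩) ∧
        (∀ (g : ↥(Matrix.symplecticGroup (Fin n) F)) (hg : g ∈ S j), Ψ ⟨g, Subgroup.mem_sup_right hg⟩ = σ j ⟨g, hg⟩)) :
    ∃! Φ : ↥(Matrix.symplecticGroup (Fin n) F) →* H,
      (∀ (j : Fin n) (g : ↥(Matrix.symplecticGroup (Fin n) F)) (hg : g ∈ S j), Φ g = σ j ⟨g, hg⟩) ∧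
        (∀ (i : Fin n), (i : ℕ) + 1 < n → ∀ (g : ↥(Matrix.symplecticGroup (Fin n) F)) (hg : g ∈ M i), Φ g = μ i ⟨g, hg⟩) := by
  classical
  have eS : ∀ j, S j = CfsgLib.SpSlim.SS j := fun j => by
    rw [hS]
    exact Subgroup.closure_eq (CfsgLib.SpSlim.SS j)
  have eM : ∀ i : Fin n, (i : ℕ) + 1 < n → M i = CfsgLib.SpSlim.MM i := fun i hi => by
    rw [hM i hi]
    exact Subgroup.closure_eq (CfsgLib.SpSlim.MM i)
  let LS : Fin n → Subgroup (↥(Matrix.symplecticGroup (Fin n) F) × H) := fun j =>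
    ((S j).subtype.prod (σ j)).range
  let LM : Fin n → Subgroup (↥(Matrix.symplecticGroup (Fin n) F) × H) := fun i =>
    ((M i).subtype.prod (μ i)).range
  have rig1 : ∀ (A : Subgroup ↥(Matrix.symplecticGroup (Fin n) F)) (φ : ↥A →* H),
      CfsgLib.SpSlim.Rigid (A.subtype.prod φ).range := by
    rintro A φ _ ⟨a, rfl⟩ h
    have ha : a = 1 := Subtype.ext h
    rw [ha, map_one]
  have rig2 : ∀ (A B : Subgroup ↥(Matrix.symplecticGroup (Fin n) F)) (φ : ↥A →* H) (ψ : ↥B →* H),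
      (∃ Ψ : ↥(A ⊔ B) →* H,
        (∀ g (hg : g ∈ A), Ψ ⟨g, Subgroup.mem_sup_left hg⟩ = φ ⟨g, hg⟩) ∧
          ∀ g (hg : g ∈ B), Ψ ⟨g, Subgroup.mem_sup_right hg⟩ = ψ ⟨g, hg⟩) →
      CfsgLib.SpSlim.Rigid ((A.subtype.prod φ).range ⊔ (B.subtype.prod ψ).range) := by
    intro A B φ ψ ⟨Ψ, h1, h2⟩ x hx
    refine rig1 _ Ψ x ((sup_le ?_ ?_ : (A.subtype.prod φ).range ⊔ (B.subtype.prod ψ).range ≤
      ((A ⊔ B).subtype.prod Ψ).range) hx)
    · rintro _ ⟨a, rfl⟩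
      exact ⟨⟨a.1, Subgroup.mem_sup_left a.2⟩, Prod.ext rfl (h1 a.1 a.2)⟩
    · rintro _ ⟨a, rfl⟩
      exact ⟨⟨a.1, Subgroup.mem_sup_right a.2⟩, Prod.ext rfl (h2 a.1 a.2)⟩
  have mapr : ∀ (A : Subgroup ↥(Matrix.symplecticGroup (Fin n) F)) (φ : ↥A →* H),
      (A.subtype.prod φ).range.map (MonoidHom.fst _ _) = A := fun A φ => by
    rw [MonoidHom.map_range, MonoidHom.fst_comp_prod, Subgroup.range_subtype]
  have hsys : CfsgLib.SpSlim.Sys LS LM :=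
    ⟨fun j => (mapr _ _).trans (eS j), fun i hi => (mapr _ _).trans (eM i hi), fun j => rig1 _ _,
      fun j l h => rig2 _ _ _ _ (hSS j l h), fun i i' h a b => rig2 _ _ _ _ (hMM i i' h a b),
      fun i j a => rig2 _ _ _ _ (hMS i j a)⟩
  obtain ⟨hrig, hsurj⟩ := CfsgLib.SpSlim.main hF n H LS LM hsys
  choose L hL hL1 using hsurj
  let Φ : ↥(Matrix.symplecticGroup (Fin n) F) →* H := MonoidHom.mk' (fun g => (L g).2) fun a b =>
    congrArg Prod.snd (hrig.eq (hL (a * b)) (mul_mem (hL a) (hL b)) (by rw [Prod.fst_mul, hL1, hL1, hL1]))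
  have hΦS : ∀ (j : Fin n) (g : ↥(Matrix.symplecticGroup (Fin n) F)) (hg : g ∈ S j), Φ g = σ j ⟨g, hg⟩ :=
    fun j g hg => congrArg Prod.snd (hrig.eq (hL g) (y := (g, σ j ⟨g, hg⟩))
      (CfsgLib.SpSlim.LS_le_gam LS LM j ⟨⟨g, hg⟩, rfl⟩) (hL1 g))
  have hΦM : ∀ (i : Fin n), (i : ℕ) + 1 < n → ∀ (g : ↥(Matrix.symplecticGroup (Fin n) F)) (hg : g ∈ M i),
      Φ g = μ i ⟨g, hg⟩ :=
    fun i hi g hg => congrArg Prod.snd (hrig.eq (hL g) (y := (g, μ i ⟨g, hg⟩))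
      (CfsgLib.SpSlim.LM_le_gam LS LM hi ⟨⟨g, hg⟩, rfl⟩) (hL1 g))
  refine ⟨Φ, ⟨hΦS, hΦM⟩, ?_⟩
  rintro Φ' ⟨h1, h2⟩
  ext g
  have hle : CfsgLib.SpSlim.gam LS LM ≤ (MonoidHom.eqLocus Φ' Φ).comap (MonoidHom.fst _ _) := by
    refine CfsgLib.SpSlim.gam_le (fun j => ?_) (fun i hi => ?_)
    · rintro _ ⟨a, rfl⟩
      exact (h1 j a.1 a.2).trans (hΦS j a.1 a.2).symm
    · rintro _ ⟨a, rfl⟩
      exact (h2 i hi a.1 a.2).trans (hΦM i hi a.1 a.2).symm
  have := hle (hL g)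
  rw [Subgroup.mem_comap, MonoidHom.coe_fst, hL1] at this
  exact this

end Cfsg.Agent.S3713
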