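import Cfsg.Statements.S3716
import Cfsg.Agent.Lib.TISylow.Dihedral

set_option autoImplicit false
open Cfsg

namespace Cfsg.Agent.S3716

/-- Let G be a finite group with an elementary abelian Sylow 3-subgroup M of order 9 which is self-centralizing (C_G(M) = M), let N = N_G(M), and suppose C_G(g) ≤ N for every nonidentity g ∈ M. If the Sylow 2-subgroups of N are dihedral of order 8, then G is not simple. -/
theorem result {G : Type*} [Group G] [Finite G] (M : Sylow 3 G) (hM9 : Nat.card ↥(M : Subgroup G) = 9)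
    (hMel : ∀ m ∈ (M : Subgroup G), m ^ 3 = 1)
    (hCM : Subgroup.centralizer ((M : Subgroup G) : Set G) = (M : Subgroup G))
    (N : Subgroup G) (hN : N = Subgroup.normalizer ((M : Subgroup G) : Set G))
    (hCg : ∀ g ∈ (M : Subgroup G), g ≠ 1 → Subgroup.centralizer ({g} : Set G) ≤ N)
    (hS : ∀ S : Sylow 2 ↥N, Nonempty (↥(S : Subgroup ↥N) ≃* DihedralGroup 4)) :
    ¬ IsSimpleGroup G := by
  intro hsimple
  subst hN
  have hS0 : CfsgLib.TISylow.Setup M := ⟨hM9, hMel, hCM.le, hCg⟩
  set T := (M : Subgroup G) with hT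
  set N := Subgroup.normalizer (T : Set G) with hN
  haveI hTn : (T.subgroupOf N).Normal := Subgroup.normal_in_normalizer
  haveI : Fact (Nat.Prime 2) := ⟨Nat.prime_two⟩
  obtain ⟨S⟩ := (inferInstance : Nonempty (Sylow 2 N))
  obtain ⟨eS⟩ := hS S
  have hS8 : Nat.card (S : Subgroup N) = 8 := by
    rw [Nat.card_congr eS.toEquiv, DihedralGroup.nat_card]
  have hmul := Subgroup.card_mul_index (T.subgroupOf N)
  rw [Nat.card_congr (Subgroup.subgroupOfEquivOfLe Subgroup.le_normalizer).toEquiv, hM9] at hmul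
  set k := (T.subgroupOf N).index with hk
  have hk0 : k ≠ 0 := Subgroup.index_ne_zero_of_finite
  have hk2 : k = 2 ^ k.primeFactorsList.length :=
    Nat.eq_prime_pow_of_unique_prime_dvd hk0 fun {p} hp hd => hS0.prime_eq_two hp hd
  have hk8 : k = 8 := by
    rw [hk2]
    set j := k.primeFactorsList.length
    have hd : 2 ^ j ∣ Nat.card (S : Subgroup N) :=
      S.pow_dvd_card_of_pow_dvd_card (by rw [← hmul, hk2]; exact dvd_mul_left _ _)
    have hd' : Nat.card (S : Subgroup N) ∣ 9 * 2 ^ j := by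
      rw [← hk2, hmul]; exact Subgroup.card_subgroup_dvd_card _
    rw [hS8] at hd hd'
    have hd'' : 8 ∣ 2 ^ j := (Nat.Coprime.dvd_mul_left (by norm_num)).1 hd'
    exact Nat.dvd_antisymm hd hd''
  rw [hk8] at hmul
  let q : (S : Subgroup N) →* N ⧸ T.subgroupOf N :=
    (QuotientGroup.mk' (T.subgroupOf N)).comp (S : Subgroup N).subtype
  have hq : Function.Injective q := by
    rw [injective_iff_map_eq_one]
    intro x hx
    have hxT : ((x : N) : G) ∈ T := Subgroup.mem_subgroupOf.1 ((QuotientGroup.eq_one_iff _).1 hx)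
    have h3 : orderOf x ∣ 3 := orderOf_dvd_of_pow_eq_one (Subtype.ext (Subtype.ext (by
      simpa using hMel _ hxT)))
    have h8 : orderOf x ∣ 8 := hS8 ▸ orderOf_dvd_natCard x
    exact orderOf_eq_one_iff.1 (Nat.eq_one_of_dvd_one (by simpa using Nat.dvd_gcd h3 h8))
  haveI := Fintype.ofFinite (N ⧸ T.subgroupOf N)
  haveI := Fintype.ofFinite (S : Subgroup N)
  have hbij : Function.Bijective q := (Fintype.bijective_iff_injective_and_card q).2
    ⟨hq, by rw [← Nat.card_eq_fintype_card, ← Nat.card_eq_fintype_card, hS8,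
      ← Subgroup.index_eq_card, ← hk, hk8]⟩
  obtain ⟨f, s, d⟩ := hS0.exists_dih ((MulEquiv.ofBijective q hbij).symm.trans eS)
  by_cases hNtop : N = ⊤
  · rcases (Subgroup.normalizer_eq_top_iff.1 hNtop).eq_bot_or_eq_top with e | e
    · rw [e, Subgroup.card_bot] at hM9
      omega
    · have h1 : Nat.card G = 9 := by rw [← hM9, e, Subgroup.card_top]
      have h2 := Subgroup.card_subgroup_dvd_card N
      rw [← hmul, h1] at h2
      norm_num at h2
  · obtain ⟨H, hH, hHs, h360, -⟩ := hS0.dihedral d hNtop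
    rcases (Subgroup.normal_of_index_eq_two hH).eq_bot_or_eq_top with e | e
    · rw [e, Subgroup.card_bot] at h360
      omega
    · rw [e, Subgroup.index_top] at hH
      omega

end Cfsg.Agent.S3716
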