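import Cfsg.Statements.S3730
import Cfsg.Agent.Lib.Recog.NormCyclic.GenDihedral
import Cfsg.Agent.Lib.Recog.NormCyclic.Extend
-- import your own Cfsg.Agent.* helpers here

set_option autoImplicit false
open Cfsg

namespace Cfsg.Agent.S3730

/-- Let G be a nontrivial finite group with no nontrivial solvable normal subgroup, such that for every cyclic subgroup X of even order and every nontrivial subgroup Y of X one has N_G(X) = N_G(Y) (every nontrivial subgroup of a cyclic subgroup of even order has the same normalizer as the whole cyclic subgroup). Then G is isomorphic to PSL(2, q) or to PGL(2, q) for some prime power q > 3. -/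
theorem result
    {G : Type*} [Group G] [Finite G] [Nontrivial G]
    (hss : ∀ N : Subgroup G, N.Normal → Group.IsSolvable ↥N → N = ⊥)
    (hii : ∀ X : Subgroup G, IsCyclic ↥X → Even (Nat.card ↥X) → ∀ Y : Subgroup G, Y ≤ X → Y ≠ ⊥ →
      Subgroup.normalizer (X : Set G) = Subgroup.normalizer (Y : Set G)) :
    ∃ (F : Type) (_ : Field F) (_ : Fintype F), 3 < Fintype.card F ∧
      (Nonempty (G ≃* Matrix.ProjectiveSpecialLinearGroup (Fin 2) F) ∨
        Nonempty (G ≃* Matrix.ProjGenLinGroup (Fin 2) F)) := by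
  have S : CfsgLib.Recog.NormCyclic.Std G := CfsgLib.Recog.NormCyclic.Std.of_solvable_normal hss hii
  haveI : Fact (Nat.Prime 2) := ⟨Nat.prime_two⟩
  obtain ⟨P⟩ : Nonempty (Sylow 2 G) := inferInstance
  rcases S.sylow_shape P with hab | ⟨B, v, y, D, hy, hy4, hu⟩ | ⟨B, v, D, hT⟩
  · obtain ⟨-, F, iF, iFF, h3, e⟩ := S.psl_of_abelian P hab
    exact ⟨F, iF, iFF, h3, Or.inl e⟩
  · rcases S.psl_of_dihedral D hy hy4 hu with ⟨F, iF, iFF, -, h5, e⟩ | ⟨M, hM, hidx, F, iF, iFF, hodd, h5, ⟨e⟩⟩
    · exact ⟨F, iF, iFF, by omega, Or.inl e⟩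
    · haveI := hM
      obtain ⟨K, iK, iKK, h3, e'⟩ := S.pgl_of_index_two D M hidx hodd h5 e
      exact ⟨K, iK, iKK, h3, Or.inr e'⟩
  · exact (S.no_gen_dihedral D hT).elim

end Cfsg.Agent.S3730
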