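import Cfsg.Statements.S3733
import Cfsg.Agent.Lib.Coprime.Generation


set_option autoImplicit false
open Cfsg

namespace Cfsg.Agent.S3733

/-- Let A and V be subgroups of a finite group with V abelian and nontrivial and A normalizing V. Suppose a nonempty finite family of proper subgroups of A partitions A: every non-identity element of A lies in exactly one member. If the number of members minus one is coprime to the order of V, then some member B of the family has a non-identity fixed point on V, that is V ∩ C(B) ≠ 1. -/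
theorem result {G : Type*} [Group G] [Finite G] (A V : Subgroup G) (hVab : IsMulCommutative V) (hV : V ≠ ⊥) (hAV : A ≤ Subgroup.normalizer (V : Set G)) (𝒜 : Finset (Subgroup G)) (hne : 𝒜.Nonempty) (hprop : ∀ B ∈ 𝒜, B < A) (hpart : ∀ a ∈ A, a ≠ 1 → ∃! B, B ∈ 𝒜 ∧ a ∈ B) (hk : (𝒜.card - 1).Coprime (Nat.card V)) : ∃ B ∈ 𝒜, V ⊓ Subgroup.centralizer (B : Set G) ≠ ⊥ := by
  classical
  open scoped IsMulCommutative in
  let φ : A →* MulAut V := CfsgLib.Coprime.conjHom hAV
  have : Nontrivial V := (Subgroup.nontrivial_iff_ne_bot V).mpr hV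
  let S : Finset (Subgroup A) := 𝒜.image (fun B => B.subgroupOf A)
  have hinj : Set.InjOn (fun B : Subgroup G => B.subgroupOf A) 𝒜 := fun B hB C hC h => by
    have h1 := congrArg (Subgroup.map A.subtype) h
    rwa [Subgroup.subgroupOf_map_subtype, Subgroup.subgroupOf_map_subtype,
      inf_eq_left.mpr (hprop B hB).le, inf_eq_left.mpr (hprop C hC).le] at h1
  obtain ⟨B', hB', v, hv, hfix⟩ : ∃ B ∈ S, ∃ v : V, v ≠ 1 ∧ ∀ b ∈ B, φ b v = v := by
    open scoped IsMulCommutative in
    refine CfsgLib.Coprime.exists_fixed_of_partition φ S (hne.image _) (fun a ha => ?_)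
      (by rwa [Finset.card_image_of_injOn hinj])
    obtain ⟨B, ⟨hB, haB⟩, huniq⟩ := hpart a a.2 (fun h => ha (Subtype.ext h))
    refine ⟨B.subgroupOf A, ⟨Finset.mem_image_of_mem _ hB, haB⟩, ?_⟩
    rintro C ⟨hC, haC⟩
    obtain ⟨D, hD, rfl⟩ := Finset.mem_image.mp hC
    exact congrArg (·.subgroupOf A) (huniq D ⟨hD, haC⟩)
  obtain ⟨B, hB, rfl⟩ := Finset.mem_image.mp hB'
  refine ⟨B, hB, fun h => hv ?_⟩
  have h1 : (v : G) ∈ V ⊓ Subgroup.centralizer (B : Set G) := by
    refine Subgroup.mem_inf.mpr ⟨v.2, Subgroup.mem_centralizer_iff.mpr fun b hb => ?_⟩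
    have h2 : b * v * b⁻¹ = (v : G) :=
      congrArg Subtype.val (hfix ⟨b, (hprop B hB).le hb⟩ hb)
    calc b * v = b * v * b⁻¹ * b := by group
      _ = v * b := by rw [h2]
  rw [h, Subgroup.mem_bot] at h1
  exact Subtype.ext h1

end Cfsg.Agent.S3733
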