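import Cfsg.Statements.S3735
import Mathlib.Tactic
import Cfsg.Agent.Lib.Coprime.Sylow


set_option autoImplicit false
open Cfsg

namespace Cfsg.Agent.S3735

/-- Clifford's Theorem for actions on finite abelian groups, first part. Let H and V be subgroups of a finite group with V abelian and H normalizing V, and let A be a normal subgroup of H. If every H-invariant subgroup of V has an H-invariant complement in V, then every A-invariant subgroup of V has an A-invariant complement in V. -/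
theorem result {G : Type*} [Group G] [Finite G] (H A V : Subgroup G) (hVab : IsMulCommutative V) (hHV : H ≤ Subgroup.normalizer (V : Set G)) (hAH : A ≤ H) (hAn : H ≤ Subgroup.normalizer (A : Set G)) (hss : ∀ U : Subgroup G, U ≤ V → H ≤ Subgroup.normalizer (U : Set G) → ∃ W : Subgroup G, W ≤ V ∧ H ≤ Subgroup.normalizer (W : Set G) ∧ U ⊓ W = ⊥ ∧ U ⊔ W = V) (U : Subgroup G) (hUV : U ≤ V) (hAU : A ≤ Subgroup.normalizer (U : Set G)) : ∃ W : Subgroup G, W ≤ V ∧ A ≤ Subgroup.normalizer (W : Set G) ∧ U ⊓ W = ⊥ ∧ U ⊔ W = V := by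
  open CfsgLib.Coprime in
  let Simple : Subgroup G → Prop := fun S => S ≤ V ∧ A ≤ Subgroup.normalizer (S : Set G) ∧ S ≠ ⊥ ∧
    ∀ T : Subgroup G, T ≤ S → A ≤ Subgroup.normalizer (T : Set G) → T = ⊥ ∨ T = S
  have hinf : ∀ {S T : Subgroup G}, A ≤ Subgroup.normalizer (S : Set G) →
      A ≤ Subgroup.normalizer (T : Set G) → A ≤ Subgroup.normalizer ((S ⊓ T : Subgroup G) : Set G) := by
    intro S T hS hT a ha
    rw [Subgroup.mem_normalizer_iff]
    intro y
    exact and_congr (Subgroup.mem_normalizer_iff.mp (hS ha) y) (Subgroup.mem_normalizer_iff.mp (hT ha) y)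
  have hsup : ∀ {S T : Subgroup G}, A ≤ Subgroup.normalizer (S : Set G) →
      A ≤ Subgroup.normalizer (T : Set G) → A ≤ Subgroup.normalizer ((S ⊔ T : Subgroup G) : Set G) := by
    intro S T hS hT a ha
    rw [CfsgLib.Coprime.mem_normalizer_iff_map_conj, Subgroup.map_sup,
      CfsgLib.Coprime.map_conj_of_mem_normalizer (hS ha),
      CfsgLib.Coprime.map_conj_of_mem_normalizer (hT ha)]
  have hVn : ∀ {S : Subgroup G}, S ≤ V → V ≤ Subgroup.normalizer (S : Set G) := by
    intro S hS v hv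
    rw [Subgroup.mem_normalizer_iff]
    intro y
    have key : ∀ z ∈ V, v * z * v⁻¹ = z := fun z hz => by
      rw [congrArg Subtype.val (mul_comm' (⟨v, hv⟩ : V) ⟨z, hz⟩) |> (fun h : v * z = z * v => h),
        mul_inv_cancel_right]
    constructor
    · intro hy; rw [key y (hS hy)]; exact hy
    · intro hy
      have h2 := key _ (hS hy)
      rw [show y = v * y * v⁻¹ from mul_left_cancel (mul_right_cancel h2).symm]; exact hy
  have hexists : ∀ W : Subgroup G, W ≤ V → A ≤ Subgroup.normalizer (W : Set G) → W ≠ ⊥ →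
      ∃ S, Simple S ∧ S ≤ W := by
    intro W hW hWA hW1
    obtain ⟨S, hS⟩ := (Set.toFinite {S : Subgroup G | S ≤ W ∧ A ≤ Subgroup.normalizer (S : Set G) ∧ S ≠ ⊥}).exists_minimal
      ⟨W, le_rfl, hWA, hW1⟩
    obtain ⟨h1, h2, h3⟩ := hS.prop
    refine ⟨S, ⟨h1.trans hW, h2, h3, fun T hT hTA => ?_⟩, h1⟩
    by_contra hcon
    push Not at hcon
    exact hcon.2 (le_antisymm hT (hS.le_of_le ⟨hT.trans h1, hTA, hcon.1⟩ hT))
  let soc : Subgroup G := sSup {S | Simple S}
  have hsocV : soc ≤ V := sSup_le fun S hS => hS.1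
  have hsocH : H ≤ Subgroup.normalizer (soc : Set G) := by
    have key : ∀ h ∈ H, soc.map (MulAut.conj h).toMonoidHom ≤ soc := by
      intro h hh
      refine Subgroup.map_le_iff_le_comap.mpr (sSup_le fun S hS => Subgroup.map_le_iff_le_comap.mp ?_)
      refine le_sSup ?_
      obtain ⟨h1, h2, h3, h4⟩ := hS
      have hA' : A.map (MulAut.conj h).toMonoidHom = A :=
        CfsgLib.Coprime.map_conj_of_mem_normalizer (hAn hh)
      have tr : ∀ {g : G} {T : Subgroup G}, g ∈ H → A ≤ Subgroup.normalizer (T : Set G) →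
          A ≤ Subgroup.normalizer ((T.map (MulAut.conj g).toMonoidHom : Subgroup G) : Set G) := by
        intro g T hg hT
        rw [← CfsgLib.Coprime.map_conj_of_mem_normalizer (hAn hg), ← Subgroup.map_equiv_normalizer_eq]
        exact Subgroup.map_mono hT
      refine ⟨(Subgroup.map_mono h1).trans (CfsgLib.Coprime.map_conj_of_mem_normalizer (hHV hh)).le,
        tr hh h2, fun e => h3 ((Subgroup.map_eq_bot_iff_of_injective _ (MulAut.conj h).injective).mp e),
        fun T hT hTA => ?_⟩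
      have hT' : T.map (MulAut.conj h⁻¹).toMonoidHom ≤ S := by
        refine (Subgroup.map_mono hT).trans (le_of_eq ?_)
        rw [CfsgLib.Coprime.map_conj_conj, inv_mul_cancel]
        ext y; simp
      rcases h4 _ hT' (tr (inv_mem hh) hTA) with e | e
      · exact Or.inl ((Subgroup.map_eq_bot_iff_of_injective _ (MulAut.conj h⁻¹).injective).mp e)
      · right
        rw [← e, CfsgLib.Coprime.map_conj_conj, mul_inv_cancel]
        ext y; simp
    intro h hh
    rw [CfsgLib.Coprime.mem_normalizer_iff_map_conj]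
    exact Subgroup.eq_of_le_of_card_ge (key h hh) (CfsgLib.Coprime.card_map_conj h soc).ge
  obtain ⟨W₀, hW₀V, hW₀H, hdis, hjoin⟩ := hss soc hsocV hsocH
  have hW₀ : W₀ = ⊥ := by
    by_contra hne
    obtain ⟨S, hS, hSW⟩ := hexists W₀ hW₀V (hAH.trans hW₀H) hne
    exact hS.2.2.1 (le_bot_iff.mp (hdis ▸ le_inf (le_sSup hS) hSW))
  rw [hW₀, sup_bot_eq] at hjoin
  obtain ⟨W, hW⟩ := (Set.toFinite {W : Subgroup G | W ≤ V ∧ A ≤ Subgroup.normalizer (W : Set G) ∧
      U ⊓ W = ⊥}).exists_maximal ⟨⊥, bot_le, fun a _ => by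
        rw [Subgroup.mem_normalizer_iff]; intro y; simp, inf_bot_eq U⟩
  obtain ⟨hWV, hWA, hUW⟩ := hW.prop
  refine ⟨W, hWV, hWA, hUW, le_antisymm (sup_le hUV hWV) ?_⟩
  rw [← hjoin]
  refine sSup_le fun T hT => ?_
  by_contra hTn
  obtain ⟨hTV, hTA, hT1, hT4⟩ := hT
  have hTUW : T ⊓ (U ⊔ W) = ⊥ :=
    (hT4 _ inf_le_left (hinf hTA (hsup hAU hWA))).resolve_right fun e => hTn (inf_eq_left.mp e)
  refine hT1 ?_
  have hmax : T ≤ W := le_trans le_sup_right (hW.le_of_ge (y := W ⊔ T) ⟨sup_le hWV hTV, hsup hWA hTA, ?_⟩ le_sup_left)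
  · exact le_bot_iff.mp (hTUW ▸ le_inf le_rfl (hmax.trans le_sup_right))
  rw [eq_bot_iff]
  intro u hu
  obtain ⟨huU, huWT⟩ := Subgroup.mem_inf.mp hu
  obtain ⟨w, hw, t, ht, rfl⟩ :=
    (CfsgLib.Coprime.mem_sup_of_le_normalizer (hTV.trans (hVn hWV))).mp huWT
  have ht' : t ∈ T ⊓ (U ⊔ W) := Subgroup.mem_inf.mpr ⟨ht, by
    have := mul_mem (Subgroup.mem_sup_right (S := U) (inv_mem hw)) (Subgroup.mem_sup_left (T := W) huU)
    rwa [inv_mul_cancel_left] at this⟩
  rw [hTUW, Subgroup.mem_bot] at ht'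
  subst ht'
  rw [mul_one] at huU ⊢
  exact hUW ▸ Subgroup.mem_inf.mpr ⟨huU, hw⟩

end Cfsg.Agent.S3735
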