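import Cfsg.Statements.S3736
import Cfsg.Agent.Lib.Coprime.Action
import Cfsg.Agent.Lib.Coprime.Sylow
import Cfsg.Agent.Lib.Transfer.ClassTwo
import Cfsg.Agent.Lib.Amalgam.InvariantSubgroups


set_option autoImplicit false
open scoped commutatorElement
open Cfsg

namespace Cfsg.Agent.S3736

open Subgroup

/-- A homomorphism to an abelian group which is constant on the `A`-orbit of `u` is trivial at `u`. -/
theorem hom_eq_one_of_orbit {X : Type*} [Group X] [Finite X] {p : ℕ} [Fact p.Prime] {A P : Subgroup X}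
    (hP : IsPGroup p P) (hA : (Nat.card A).Coprime p) (hAP : A ≤ normalizer (P : Set X))
    (hPA : ⁅P, A⁆ = P) {Q : Type*} [CommGroup Q] (f : P →* Q) (u : P)
    (hu : ∀ (a : A) (v : P), (v : X) = a * u * (a : X)⁻¹ → f v = f u) : f u = 1 := by
  classical
  have := Fintype.ofFinite A
  let c : A → P →* P := fun a => (P.normalizerMonoidHom ⟨a, hAP a.2⟩).toMonoidHom
  have hc : ∀ (a : A) (v : P), (c a v : X) = a * v * (a : X)⁻¹ := fun a v => rfl
  let T : P →* Q := ∏ a : A, f.comp (c a)
  have hT : ∀ v, T v = ∏ a : A, f (c a v) := fun v => by simp [T]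
  have hinv : ∀ (b : A) (v : P), T (c b v) = T v := by
    intro b v
    rw [hT, hT]
    refine Fintype.prod_equiv (Equiv.mulRight b) _ _ fun a => ?_
    simp only [Equiv.coe_mulRight]
    congr 1
    apply Subtype.ext
    rw [hc, hc, hc, coe_mul, mul_inv_rev]
    group
  have hker : ⁅P, A⁆ ≤ T.ker.map P.subtype := by
    refine commutator_le.2 fun x hx a ha => ?_
    refine ⟨⟨x, hx⟩ * c ⟨a, ha⟩ ⟨x, hx⟩⁻¹, ?_, ?_⟩
    · rw [SetLike.mem_coe, MonoidHom.mem_ker, map_mul, hinv, map_inv, mul_inv_cancel]
    · show x * (a * x⁻¹ * a⁻¹) = ⁅x, a⁆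
      simp only [commutatorElement_def]; group
  rw [hPA] at hker
  have h1 : T u = 1 := by
    obtain ⟨y, hy, hyu⟩ := hker u.2
    exact P.subtype_injective hyu ▸ hy
  rw [hT, Finset.prod_eq_pow_card (b := f u) fun a _ => hu a _ (hc a u), Finset.card_univ,
    ← Nat.card_eq_fintype_card] at h1
  obtain ⟨k, hk⟩ := IsPGroup.iff_orderOf.1 hP u
  have h2 : orderOf (f u) ∣ p ^ k := hk ▸ orderOf_map_dvd f u
  exact orderOf_eq_one_iff.1 (Nat.eq_one_of_dvd_coprimes (hA.pow_right k)
    (orderOf_dvd_of_pow_eq_one h1) h2)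


/-- The Hall–Higman reduction for a minimal non-trivial action. Let B, A and P be subgroups of a finite group with P a p-group, B normalizing P, and A a normal subgroup of B of order prime to p. Suppose A does not centralize P but centralizes every proper B-invariant subgroup of P. Then [P, A] = P; P is elementary abelian or special; B acts irreducibly on P/Φ(P), that is, the only B-invariant subgroups of P containing Φ(P) are Φ(P) and P; and if p is odd then every element of P has order dividing p. -/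
theorem result {X : Type*} [Group X] [Finite X] {p : ℕ} [Fact p.Prime] (B A P : Subgroup X) (hP : IsPGroup p P) (hBP : B ≤ Subgroup.normalizer (P : Set X)) (hAB : A ≤ B) (hAn : B ≤ Subgroup.normalizer (A : Set X)) (hAp : (Nat.card A).Coprime p) (hnt : ⁅P, A⁆ ≠ ⊥) (hmin : ∀ U : Subgroup X, U < P → B ≤ Subgroup.normalizer (U : Set X) → ⁅U, A⁆ = ⊥) : ⁅P, A⁆ = P ∧ (Cfsg.IsElementaryAbelian p P ∨ Cfsg.IsSpecial p ↥P) ∧ (∀ U : Subgroup X, (frattini ↥P).map P.subtype ≤ U → U ≤ P → B ≤ Subgroup.normalizer (U : Set X) → U = (frattini ↥P).map P.subtype ∨ U = P) ∧ (p ≠ 2 → ∀ x ∈ P, x ^ p = 1) := by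
  have hAP : A ≤ normalizer (P : Set X) := hAB.trans hBP
  obtain ⟨n, hn⟩ := IsPGroup.iff_card.1 hP
  have hcop : (Nat.card A).Coprime (Nat.card P) := hn ▸ hAp.pow_right n
  have hnilP := hP.isNilpotent
  have hs : Group.IsSolvable A ∨ Group.IsSolvable P := Or.inr inferInstance
  have hcommB : ∀ U : Subgroup X, B ≤ normalizer (U : Set X) → ∀ V : Subgroup X,
      B ≤ normalizer (V : Set X) → B ≤ normalizer ((⁅U, V⁆ : Subgroup X) : Set X) := by
    intro U hU V hV b hb
    rw [CfsgLib.Coprime.mem_normalizer_iff_map_conj, map_commutator,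
      CfsgLib.Coprime.mem_normalizer_iff_map_conj.1 (hU hb),
      CfsgLib.Coprime.mem_normalizer_iff_map_conj.1 (hV hb)]
  have hchar : ∀ (C : Subgroup P) [C.Characteristic], B ≤ normalizer ((C.map P.subtype : Subgroup X) : Set X) := by
    intro C _ b hb
    rw [CfsgLib.Coprime.mem_normalizer_iff_map_conj]
    let e : P ≃* P := P.normalizerMonoidHom ⟨b, hBP hb⟩
    have hφ : C.map e.toMonoidHom = C := characteristic_iff_map_eq.1 inferInstance e
    conv_rhs => rw [← hφ]
    rw [map_map, map_map]
    rfl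
  -- `[P, A] = P`
  have hPA : ⁅P, A⁆ = P := by
    have hle : ⁅P, A⁆ ≤ P := le_normalizer_iff_commutator_le_left.mp hAP
    by_contra hne
    exact hnt (CfsgLib.Coprime.commutator_eq_bot_of_commutator_commutator hAP hcop hs
      (hmin _ (lt_of_le_of_ne hle hne) (hcommB P hBP A hAn)))
  have hcent : ∀ U : Subgroup X, U < P → B ≤ normalizer (U : Set X) → ∀ u ∈ U, ∀ a ∈ A,
      a * u * a⁻¹ = u := by
    intro U hU hBU u hu a ha
    have h1 : ⁅u, a⁆ ∈ ⁅U, A⁆ := commutator_mem_commutator hu ha
    rw [hmin U hU hBU, mem_bot, commutatorElement_eq_one_iff_mul_comm] at h1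
    rw [← h1, mul_inv_cancel_right]
  -- proper invariant subgroups lie in the derived group
  have hder : ∀ U : Subgroup X, U < P → B ≤ normalizer (U : Set X) →
      U ≤ (_root_.commutator P).map P.subtype := by
    intro U hU hBU u hu
    refine ⟨⟨u, hU.le hu⟩, ?_, rfl⟩
    rw [SetLike.mem_coe, ← Abelianization.ker_of, MonoidHom.mem_ker]
    refine hom_eq_one_of_orbit hP hAp hAP hPA Abelianization.of _ fun a v hv => ?_
    rw [show v = ⟨u, hU.le hu⟩ from Subtype.ext (hv.trans (hcent U hU hBU u hu a a.2))]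
  have hPne : Nontrivial P := by
    rw [Subgroup.nontrivial_iff_ne_bot]
    rintro rfl
    exact hnt (commutator_bot_left A)
  set Φ := (frattini P).map P.subtype with hΦ
  have hΦlt : Φ < P := by
    refine lt_of_le_of_ne (map_subtype_le _) fun e => CfsgLib.Amalgam.frattini_ne_top' (K := P)
      (eq_top_iff.2 fun x _ => ?_)
    exact (mem_map_iff_mem P.subtype_injective).1 (e.symm ▸ x.2 : (x : X) ∈ Φ)
  have hder' : (_root_.commutator P).map P.subtype ≤ Φ :=
    map_mono (CfsgLib.Transfer.commutator_le_frattini_pgroup hP)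
  have hΦeq : Φ = (_root_.commutator P).map P.subtype :=
    le_antisymm (hder Φ hΦlt (hchar _)) hder'
  -- `Φ` is central in `P`
  have hΦZ : frattini P ≤ center P := by
    have h1 : ⁅⁅P, A⁆, Φ⁆ = ⊥ := by
      refine commutator_commutator_eq_bot_of_rotate ?_ ?_
      · rw [commutator_comm A Φ, hmin Φ hΦlt (hchar _), commutator_bot_left]
      · rw [eq_bot_iff, ← hmin Φ hΦlt (hchar _)]
        refine commutator_mono (le_normalizer_iff_commutator_le_left.mp ?_) le_rfl
        exact (le_normalizer (H := P)).trans (CfsgLib.Amalgam.normalizer_le_normalizer_frattini P)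
    rw [hPA] at h1
    intro z hz
    refine mem_center_iff.2 fun w => Subtype.ext ?_
    have h2 : ⁅(w : X), (z : X)⁆ ∈ ⁅P, Φ⁆ := commutator_mem_commutator w.2 ⟨z, hz, rfl⟩
    rw [h1, mem_bot, commutatorElement_eq_one_iff_mul_comm] at h2
    exact h2
  have hcases : Cfsg.IsElementaryAbelian p P ∨ Cfsg.IsSpecial p ↥P := by
    by_cases hab : IsMulCommutative P
    · refine Or.inl ⟨hab, fun x hx => ?_⟩
      have h0 : _root_.commutator P = ⊥ := by
        rw [_root_.commutator_def, commutator_eq_bot_iff_le_centralizer]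
        exact fun a _ => mem_centralizer_iff.2 fun b _ => hab.is_comm.comm b a
      have h1 : frattini P = ⊥ := map_injective P.subtype_injective (by rw [← hΦ, hΦeq, h0])
      have := CfsgLib.Transfer.pow_mem_frattini hP (⟨x, hx⟩ : P)
      rw [h1, mem_bot] at this
      exact congrArg Subtype.val this
    · refine Or.inr ⟨hP, le_antisymm hΦZ ?_, ?_⟩
      all_goals
        have hZlt : (center P).map P.subtype < P := lt_of_le_of_ne (map_subtype_le _) fun e => hab
          ⟨⟨fun a b => mem_center_iff.1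
            ((mem_map_iff_mem P.subtype_injective).1 (e.symm ▸ b.2 : (b : X) ∈ (center P).map P.subtype)) a⟩⟩
        have hZ : center P ≤ _root_.commutator P :=
          (map_le_map_iff_of_injective P.subtype_injective).1 (hder _ hZlt (hchar _))
      · exact hZ.trans (CfsgLib.Transfer.commutator_le_frattini_pgroup hP)
      · exact le_antisymm ((CfsgLib.Transfer.commutator_le_frattini_pgroup hP).trans hΦZ) hZ
  refine ⟨hPA, hcases, fun U hΦU hUP hBU => ?_, fun hp x hx => ?_⟩
  · rcases hUP.lt_or_eq with h | h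
    · exact Or.inl (le_antisymm (hΦ ▸ (hder U h hBU).trans hder') hΦU)
    · exact Or.inr h
  · have hc : ∀ a b : P, ⁅a, b⁆ ∈ center P := fun a b =>
      hΦZ (CfsgLib.Transfer.commutatorElement_mem_frattini hP a b)
    let f : P →* center P :=
      MonoidHom.mk' (fun y => ⟨y ^ p, hΦZ (CfsgLib.Transfer.pow_mem_frattini hP y)⟩) fun a b =>
        Subtype.ext (CfsgLib.Transfer.mul_pow_prime_class_two hc Fact.out hp a b (by
          rw [← CfsgLib.Transfer.commutatorElement_pow_left hc, commutatorElement_eq_one_iff_mul_comm]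
          exact (mem_center_iff.1 (hΦZ (CfsgLib.Transfer.pow_mem_frattini hP b)) a).symm))
    let _ : CommGroup (center P) :=
      { (inferInstance : Group (center P)) with
        mul_comm := fun a b => Subtype.ext (mem_center_iff.1 b.2 a) }
    have hfix := hom_eq_one_of_orbit hP hAp hAP hPA f ⟨x, hx⟩ fun a v hv => by
      refine Subtype.ext (Subtype.ext ?_)
      show (v : X) ^ p = x ^ p
      rw [hv, conj_pow]
      exact hcent Φ hΦlt (hchar _) _
        ⟨⟨x, hx⟩ ^ p, CfsgLib.Transfer.pow_mem_frattini hP _, rfl⟩ a a.2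
    exact congrArg (fun z : center P => ((z : P) : X)) hfix

end Cfsg.Agent.S3736
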