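import Cfsg.Statements.S3737
import Cfsg.Agent.Lib.Comp.BaerFixed
import Cfsg.Agent.Lib.Coprime.Action
import Cfsg.Agent.Lib.OddLocal.FixedPointLemma


set_option autoImplicit false
open Cfsg

namespace Cfsg.Agent.S3737

open Subgroup in
theorem thompson_odd {X : Type*} [Group X] [Finite X] {p : ℕ} [Fact p.Prime] (hp : p ≠ 2) (P Q : Subgroup X)
    (hP : IsPGroup p P) (hQ : (Nat.card Q).Coprime p) (hPQ : P ≤ normalizer (Q : Set X)) :
    ∀ (n : ℕ) (G : Subgroup X), Nat.card G = n → IsPGroup p G → P ≤ normalizer (G : Set X) →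
      Q ≤ normalizer (G : Set X) → G ⊓ centralizer (P : Set X) ≤ centralizer (Q : Set X) →
      Q ≤ centralizer (G : Set X) := by
  intro n
  induction n using Nat.strong_induction_on with
  | _ n ih =>
    intro G hn hG hPG hQG hC
    by_contra hne
    have hcop : (Nat.card Q).Coprime (Nat.card G) := by
      obtain ⟨k, hk⟩ := IsPGroup.iff_card.1 hG
      rw [hk]; exact hQ.pow_right k
    have hsG : Group.IsSolvable G := by
      have := hG.isNilpotent
      infer_instance
    have sub : ∀ H : Subgroup X, H < G → P ≤ normalizer (H : Set X) → Q ≤ normalizer (H : Set X) →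
        Q ≤ centralizer (H : Set X) := fun H hlt hPH hQH => by
      have hcard : Nat.card H < n := by
        refine hn ▸ lt_of_le_of_ne (Subgroup.card_le_of_le hlt.le) fun e => hlt.ne ?_
        exact Subgroup.eq_of_le_of_card_ge hlt.le e.ge
      exact ih _ hcard H rfl (hG.to_le hlt.le) hPH hQH ((inf_le_inf_right _ hlt.le).trans hC)
    have hQQ : Q ≤ normalizer (Q : Set X) := le_normalizer
    have hQGle : ⁅G, Q⁆ ≤ G := le_normalizer_iff_commutator_le_left.mp hQG
    have hQfull : ⁅G, Q⁆ = G := by
      by_contra hlt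
      have h1 := sub ⁅G, Q⁆ (lt_of_le_of_ne hQGle hlt) (CfsgLib.OddLocal.le_normalizer_commutator hPG hPQ)
        (CfsgLib.OddLocal.le_normalizer_commutator hQG hQQ)
      have h2 : ⁅⁅G, Q⁆, Q⁆ = ⊥ := by
        rw [commutator_comm, commutator_eq_bot_iff_le_centralizer]; exact h1
      have h3 := CfsgLib.Coprime.commutator_eq_bot_of_commutator_commutator hQG hcop (Or.inr hsG) h2
      rw [commutator_comm, commutator_eq_bot_iff_le_centralizer] at h3
      exact hne h3
    have hGG : G ≤ normalizer (G : Set X) := le_normalizer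
    have hD : ⁅G, G⁆ < G := by
      refine lt_of_le_of_ne (commutator_le_self G) fun e => ?_
      have hnil := hG.isNilpotent
      have h1 : commutator G = ⊤ := by
        rw [← (Subgroup.map_injective G.subtype_injective).eq_iff]
        rw [map_subtype_commutator, e, ← MonoidHom.range_eq_map, range_subtype]
      rcases subsingleton_or_nontrivial G with h | h
      · exact hne fun q _ => mem_centralizer_iff.2 fun g hg => by
          have := congrArg Subtype.val (Subsingleton.elim (⟨g, hg⟩ : G) 1)
          simp at this; simp [this]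
      · exact ((Group.IsSolvable.commutator_lt_top_of_nontrivial G).ne h1)
    have hDQ := sub ⁅G, G⁆ hD (CfsgLib.OddLocal.le_normalizer_commutator hPG hPG) (CfsgLib.OddLocal.le_normalizer_commutator hQG hQG)
    have hDQ' : ⁅⁅G, G⁆, Q⁆ = ⊥ := by
      rw [commutator_comm, commutator_eq_bot_iff_le_centralizer]; exact hDQ
    have h2 : ⁅⁅Q, ⁅G, G⁆⁆, G⁆ = ⊥ := by
      rw [commutator_comm Q, hDQ', commutator_bot_left]
    have h1 : ⁅⁅⁅G, G⁆, G⁆, Q⁆ = ⊥ := by
      refine le_bot_iff.1 (le_trans (commutator_mono ?_ le_rfl) hDQ'.le)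
      exact commutator_mono hD.le le_rfl
    have h3 : ⁅⁅G, Q⁆, ⁅G, G⁆⁆ = ⊥ :=
      commutator_commutator_eq_bot_of_rotate h2 h1
    rw [hQfull, commutator_comm, commutator_eq_bot_iff_le_centralizer] at h3
    obtain ⟨x, hxG, -, hxP, hxQ⟩ := CfsgLib.Comp.exists_fixed_moved hp hG
      (fun a ha b hb c hc => (mem_centralizer_iff.1 (h3 (commutator_mem_commutator ha hb)) c hc).symm)
      hP (fun hd => (Fact.out : p.Prime).coprime_iff_not_dvd.1 hQ.symm hd) hPG hQG hPQ hne
    exact hxQ (hC ⟨hxG, hxP⟩)


/-- Thompson's strengthening of the P × Q lemma for odd primes. Let p be an odd prime and let P, Q and G be subgroups of a finite group with P a p-group, Q of order prime to p and normalized by P, and G a p-group normalized by both P and Q. If every element of G centralized by P is centralized by Q, then Q centralizes G. -/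
theorem result {X : Type*} [Group X] [Finite X] {p : ℕ} [Fact p.Prime] (hp : p ≠ 2) (P Q G : Subgroup X) (hP : IsPGroup p P) (hQ : (Nat.card Q).Coprime p) (hPQ : P ≤ Subgroup.normalizer (Q : Set X)) (hG : IsPGroup p G) (hPG : P ≤ Subgroup.normalizer (G : Set X)) (hQG : Q ≤ Subgroup.normalizer (G : Set X)) (hC : G ⊓ Subgroup.centralizer (P : Set X) ≤ Subgroup.centralizer (Q : Set X)) : Q ≤ Subgroup.centralizer (G : Set X) := by
  exact thompson_odd hp P Q hP hQ hPQ _ G rfl hG hPG hQG hC

end Cfsg.Agent.S3737
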