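import Cfsg.Statements.S3738
import Cfsg.Agent.Lib.Invol.HigmanTwo

set_option autoImplicit false
open Cfsg

namespace Cfsg.Agent.S3738

open CfsgLib.Invol in
theorem exists_data {T : Type*} [Group T] [Finite T] (hT : IsPGroup 2 T) [Nontrivial T] (ψ : MulAut T)
    (hord : ∃ a : ℕ, ψ ^ 3 ^ a = 1) (hfpf : ∀ x, ψ x = x → x = 1)
    (hrank : ∀ V : Subgroup T, IsMulCommutative V → (∀ v ∈ V, v * v = 1) → Nat.card V ≤ 4) :
    ∃ H : HigData T, H.ψ = ψ := by
  classical
  have := hT.center_nontrivial
  obtain ⟨z0, hz0⟩ := exists_prime_orderOf_dvd_card' 2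
    ((hT.to_subgroup (Subgroup.center T)).card_eq_or_dvd.resolve_left Finite.one_lt_card.ne')
  rw [← Subgroup.orderOf_coe] at hz0
  set z : T := (z0 : T)
  have hz2 : z * z = 1 := by rw [← pow_two, ← hz0, pow_orderOf_eq_one]
  have hz1 : z ≠ 1 := fun e => by rw [e, orderOf_one] at hz0; omega
  let V : Subgroup T :=
    { carrier := {x | x * x = 1 ∧ x ∈ Subgroup.center T}
      one_mem' := ⟨one_mul 1, one_mem _⟩
      mul_mem' := fun {a b} ha hb => ⟨by
        rw [((show Commute b a from (Subgroup.mem_center_iff.1 hb.2 a).symm)).mul_mul_mul_comm, ha.1, hb.1,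
          one_mul], mul_mem ha.2 hb.2⟩
      inv_mem' := fun {a} ha => ⟨by rw [← mul_inv_rev, ha.1, inv_one], inv_mem ha.2⟩ }
  have hVψ : ∀ x ∈ V, ψ x ∈ V := fun x hx => ⟨by rw [← map_mul, hx.1, map_one], by
    rw [Subgroup.mem_center_iff]
    intro g
    obtain ⟨g, rfl⟩ := ψ.surjective g
    rw [← map_mul, ← map_mul, Subgroup.mem_center_iff.1 hx.2 g]⟩
  have hzV : z ∈ V := ⟨hz2, z0.2⟩
  have hVe : Nat.card V ≤ 4 :=
    hrank V ⟨⟨fun a b => Subtype.ext (Subgroup.mem_center_iff.1 b.2.2 a)⟩⟩ fun v hv => hv.1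
  -- the three involutions of `V`
  have h1 : ψ z ≠ z := fun e => hz1 (hfpf z e)
  have h1n : ψ z ≠ 1 := fun e => hz1 (ψ.injective (e.trans (map_one ψ).symm))
  have h2n : ψ (ψ z) ≠ 1 := fun e => h1n (ψ.injective (e.trans (map_one ψ).symm))
  have h12 : ψ (ψ z) ≠ ψ z := fun e => h1 (ψ.injective e)
  have h2 : ψ (ψ z) ≠ z := by
    intro e
    obtain ⟨a, ha⟩ := hord
    have hn : ∀ k : ℕ, (ψ ^ (2 * k + 1)) z = ψ z := by
      intro k
      induction k with
      | zero => rw [Nat.mul_zero, Nat.zero_add, pow_one]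
      | succ k ih =>
        rw [show 2 * (k + 1) + 1 = (2 * k + 1) + 1 + 1 by ring, pow_succ, pow_succ]
        show (ψ ^ (2 * k + 1)) (ψ (ψ z)) = ψ z
        rw [e, ih]
    obtain ⟨k, hk⟩ : ∃ k, 3 ^ a = 2 * k + 1 := ⟨3 ^ a / 2, by
      have : 3 ^ a % 2 = 1 := by rw [Nat.pow_mod]; norm_num
      omega⟩
    have := hn k
    rw [← hk, ha, MulAut.one_apply] at this
    exact h1 this.symm
  have hcover : ∀ x ∈ V, x = 1 ∨ x = z ∨ x = ψ z ∨ x = ψ (ψ z) := by
    intro s hs
    by_contra hcon
    push Not at hcon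
    have h5 : ({1, z, ψ z, ψ (ψ z), s} : Finset T).card = 5 := by
      rw [Finset.card_insert_of_notMem, Finset.card_insert_of_notMem, Finset.card_insert_of_notMem,
        Finset.card_insert_of_notMem, Finset.card_singleton]
      · simp [hcon.2.2.2.symm]
      · simp [h12.symm, hcon.2.2.1.symm]
      · simp [h1.symm, h2.symm, hcon.2.1.symm]
      · simp [hz1.symm, h1n.symm, h2n.symm, hcon.1.symm]
    have : ({1, z, ψ z, ψ (ψ z), s} : Finset T).card ≤ Nat.card V := by
      haveI := Fintype.ofFinite V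
      rw [Nat.card_eq_fintype_card, ← Finset.card_univ,
        ← Finset.card_map (Function.Embedding.subtype (fun x => x ∈ V))]
      refine Finset.card_le_card fun x hx => ?_
      simp only [Finset.mem_map, Finset.mem_univ, true_and]
      refine ⟨⟨x, ?_⟩, rfl⟩
      simp only [Finset.mem_insert, Finset.mem_singleton] at hx
      rcases hx with rfl | rfl | rfl | rfl | rfl
      exacts [one_mem _, hzV, hVψ _ hzV, hVψ _ (hVψ _ hzV), hs]
    omega
  -- every involution is central
  have hall : ∀ s : T, s * s = 1 → s ∈ V := by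
    intro s hs
    by_contra hsV
    let W : Subgroup T := V ⊔ Subgroup.zpowers s
    have hW : W = Subgroup.closure ((V : Set T) ∪ {s}) := by
      rw [Subgroup.closure_union, Subgroup.closure_eq, ← Subgroup.zpowers_eq_closure]
    have hWc : IsMulCommutative W := by
      rw [hW]
      refine Subgroup.isMulCommutative_closure ?_
      rintro a (ha | rfl) b (hb | rfl)
      exacts [Subgroup.mem_center_iff.1 hb.2 a, (Subgroup.mem_center_iff.1 ha.2 _).symm,
        Subgroup.mem_center_iff.1 hb.2 _, rfl]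
    have hWs : ∀ w ∈ W, w * w = 1 := by
      intro w hw
      rw [hW] at hw
      induction hw using Subgroup.closure_induction with
      | mem a ha =>
        rcases ha with ha | rfl
        exacts [ha.1, hs]
      | one => exact one_mul 1
      | mul a b ha hb iha ihb =>
        rw [← hW] at ha hb
        have hab : Commute a b := congrArg Subtype.val (hWc.is_comm.comm ⟨a, ha⟩ ⟨b, hb⟩)
        rw [hab.symm.mul_mul_mul_comm, iha, ihb, one_mul]
      | inv a _ ih => rw [← mul_inv_rev, ih, inv_one]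
    have hlt : V < W := lt_of_le_of_ne le_sup_left fun e =>
      hsV (e ▸ Subgroup.mem_sup_right (Subgroup.mem_zpowers s))
    have h3 := two_mul_card_le hlt
    have h4 := hrank W hWc hWs
    have h5 : 3 ≤ Nat.card V := by
      haveI := Fintype.ofFinite V
      refine le_trans (le_of_eq (Finset.card_eq_three.2 ⟨(⟨1, one_mem _⟩ : V), ⟨z, hzV⟩, ⟨ψ z, hVψ _ hzV⟩,
        fun e => hz1 (congrArg Subtype.val e).symm, fun e => h1n (congrArg Subtype.val e).symm,
        fun e => h1 (congrArg Subtype.val e).symm, rfl⟩).symm) ?_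
      rw [Nat.card_eq_fintype_card]
      exact Finset.card_le_univ _
    omega
  exact ⟨⟨ψ, z, hT, hord, hfpf, hz0, fun s hs g => (Subgroup.mem_center_iff.1 (hall s hs).2 g).symm,
    fun s hs => hcover s (hall s hs)⟩, rfl⟩

/-- Let d be a non-identity 3-element of a finite group and P a 2-subgroup normalized by d on which ⟨d⟩ acts faithfully (no non-identity power of d centralizes P) and without non-identity fixed points (C_P(d) = 1). If every abelian subgroup of P has 2-rank at most 2, then d has order 3. -/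
theorem result {X : Type*} [Group X] [Finite X] (d : X) (n : ℕ) (hn : 1 ≤ n) (hd : orderOf d = 3 ^ n) (P : Subgroup X) (hP : IsPGroup 2 P) (hdP : d ∈ Subgroup.normalizer (P : Set X)) (hfaith : Subgroup.zpowers d ⊓ Subgroup.centralizer (P : Set X) = ⊥) (hfpf : P ⊓ Subgroup.centralizer {d} = ⊥) (hrank : ∀ V : Subgroup X, V ≤ P → IsMulCommutative V → Cfsg.PRankLE 2 2 V) : orderOf d = 3 := by
  classical
  have hd3 : d ^ 3 = 1 := by
    rcases subsingleton_or_nontrivial P with hs | hs
    · have : d ∈ Subgroup.zpowers d ⊓ Subgroup.centralizer (P : Set X) := by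
        refine ⟨Subgroup.mem_zpowers d, Subgroup.mem_centralizer_iff.2 fun x hx => ?_⟩
        have hx1 : x = 1 := congrArg Subtype.val (Subsingleton.elim (⟨x, hx⟩ : P) 1)
        rw [hx1, one_mul, mul_one]
      rw [hfaith, Subgroup.mem_bot] at this
      rw [this, one_pow]
    set N := Subgroup.normalizer (P : Set X)
    let c : N →* MulAut P := P.normalizerMonoidHom
    set ψ : MulAut P := c ⟨d, hdP⟩
    have hψ : ∀ x : P, (ψ x : X) = d * x * d⁻¹ := fun x => rfl
    obtain ⟨H, hH⟩ := exists_data hP ψ ⟨n, by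
        rw [← map_pow, show (⟨d, hdP⟩ : N) ^ 3 ^ n = 1 from Subtype.ext (by
          simp [← hd, pow_orderOf_eq_one]), map_one]⟩
      (fun x hx => Subtype.ext (by
        have h1 : (x : X) ∈ P ⊓ Subgroup.centralizer {d} := ⟨x.2, Subgroup.mem_centralizer_singleton_iff.2 (by
          have := congrArg Subtype.val hx
          rw [hψ] at this
          exact (mul_inv_eq_iff_eq_mul.1 this).symm)⟩
        rwa [hfpf, Subgroup.mem_bot] at h1))
      (fun V hV hV2 => by
        rw [← Subgroup.card_map_of_injective P.subtype_injective]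
        refine le_trans (le_of_eq ?_) (hrank (V.map P.subtype) (Subgroup.map_subtype_le V) inferInstance
          ⊤ inferInstance ?_)
        · rw [Subgroup.card_top]
        · rintro ⟨_, v, hv, rfl⟩ -
          exact Subtype.ext (by simpa [pow_two] using congrArg Subtype.val (hV2 v hv)))
    have h3 : ∀ x : P, ψ (ψ (ψ x)) = x := fun x => by rw [← hH]; exact H.psi_three x
    have hmem : d ^ 3 ∈ Subgroup.zpowers d ⊓ Subgroup.centralizer (P : Set X) := by
      refine ⟨Subgroup.pow_mem _ (Subgroup.mem_zpowers d) 3, Subgroup.mem_centralizer_iff.2 fun x hx => ?_⟩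
      have := congrArg Subtype.val (h3 ⟨x, hx⟩)
      rw [hψ, hψ, hψ] at this
      have e : d ^ 3 * x * (d ^ 3)⁻¹ = x := by
        rw [show d ^ 3 * x * (d ^ 3)⁻¹ = d * (d * (d * x * d⁻¹) * d⁻¹) * d⁻¹ by simp [pow_succ, mul_assoc]]
        exact this
      exact (mul_inv_eq_iff_eq_mul.1 e).symm
    rwa [hfaith, Subgroup.mem_bot] at hmem
  haveI : Fact (Nat.Prime 3) := ⟨Nat.prime_three⟩
  refine orderOf_eq_prime hd3 fun e => ?_
  rw [e, orderOf_one] at hd
  exact absurd hd.symm (Nat.one_lt_pow (by omega) (by norm_num)).ne'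

end Cfsg.Agent.S3738
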