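import Cfsg.Statements.S3739
import Cfsg.Agent.Lib.Coprime.Action
import Mathlib.GroupTheory.Sylow
import Cfsg.Agent.Lib.StructC.Regular
import Cfsg.Agent.Lib.Solvable.PCore
import Cfsg.Agent.Lib.Solvable.Nilpotent
import Mathlib.Algebra.BigOperators.Group.Finset.Sigma

set_option autoImplicit false
open Cfsg

namespace Cfsg.Agent.S3739

open Subgroup
open scoped commutatorElement

/-- The sign of `w` with respect to the subgroup `{1, a}`. -/
noncomputable def sgn {X : Type*} [Group X] (a w : X) : ℤ := by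
  classical exact if w = 1 ∨ w = a then 1 else -1

/-- A map to the Klein group whose associated bracket is bilinear cannot have three equal fibres
on a vector space of dimension at least five. -/
theorem no_balanced_map {X V : Type*} [Group X] [Group V] [Finite V]
    (W : Finset X) (hW4 : W.card = 4) (h1 : (1 : X) ∈ W) {a : X} (ha : a ∈ W) (ha1 : a ≠ 1)
    (hWmul : ∀ u ∈ W, ∀ w ∈ W, u * w ∈ W)
    (hsgn : ∀ u ∈ W, ∀ w ∈ W, sgn a (u * w) = sgn a u * sgn a w)
    (q : V → X) (hq : ∀ v, q v ∈ W) (hq0 : ∀ v, q v = 1 ↔ v = 1)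
    (B : V → V → X) (hB : ∀ x y, B x y ∈ W) (hqB : ∀ x y, q (x * y) = q x * q y * B x y)
    (hBl : ∀ x y z, B (x * y) z = B x z * B y z)
    (m : ℕ) (hfib : ∀ b ∈ W, b ≠ 1 → Nat.card {v // q v = b} = m)
    (n : ℕ) (hn : 5 ≤ n) (hV : Nat.card V = 2 ^ n) : False := by
  classical
  haveI := Fintype.ofFinite V
  have hmW : ∀ u ∈ W, ∀ w ∈ W, sgn a (u * w) = sgn a u * sgn a w := hsgn
  have hval : ∀ u : X, sgn a u * sgn a u = 1 := by
    intro u
    unfold sgn
    split_ifs <;> simp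
  set S := ∑ v : V, sgn a (q v) with hS
  have hfib' : ∀ b ∈ W, b ≠ 1 → (Finset.univ.filter fun v => q v = b).card = m := by
    intro b hb hb1
    rw [← hfib b hb hb1, Nat.card_eq_fintype_card, Fintype.card_subtype]
  -- the value of the sum
  have hsplit : ∀ g : X → ℤ, ∑ v : V, g (q v) = ∑ b ∈ W, ((Finset.univ.filter fun v => q v = b).card : ℤ) * g b := by
    intro g
    rw [← Finset.sum_fiberwise_of_maps_to (g := q) (t := W) (fun v _ => hq v)]
    refine Finset.sum_congr rfl fun b _ => ?_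
    rw [Finset.sum_congr rfl (g := fun _ => g b) (fun v hv => by rw [(Finset.mem_filter.1 hv).2]),
      Finset.sum_const, nsmul_eq_mul]
  have hone : ((Finset.univ.filter fun v => q v = 1).card : ℤ) = 1 := by
    rw [show (Finset.univ.filter fun v => q v = 1) = {1} by ext v; simp [hq0 v], Finset.card_singleton]
    rfl
  have haW : a ∈ W.erase 1 := Finset.mem_erase.2 ⟨ha1, ha⟩
  have hrest : ((W.erase 1).erase a).card = 2 := by
    rw [Finset.card_erase_of_mem haW, Finset.card_erase_of_mem h1, hW4]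
  have hSm : S = 1 - (m : ℤ) := by
    rw [hS, hsplit, ← Finset.add_sum_erase W _ h1, hone, ← Finset.add_sum_erase _ _ haW,
      hfib' a ha ha1]
    rw [Finset.sum_congr rfl (g := fun _ => -(m : ℤ)) (fun b hb => by
      obtain ⟨hba, hb'⟩ := Finset.mem_erase.1 hb
      obtain ⟨hb1, hbW⟩ := Finset.mem_erase.1 hb'
      rw [hfib' b hbW hb1, sgn, if_neg (by simp [hba, hb1])]
      ring), Finset.sum_const, hrest]
    simp [sgn]
    ring
  have htot : 1 + 3 * (m : ℤ) = (2 : ℤ) ^ n := by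
    have h : ∑ v : V, (1 : ℤ) = _ := hsplit fun _ => 1
    have e3 : ∑ b ∈ W.erase 1, ((Finset.univ.filter fun v => q v = b).card : ℤ) * 1 = 3 * (m : ℤ) := by
      rw [Finset.sum_congr rfl (g := fun _ => (m : ℤ)) (fun b hb => by
        obtain ⟨hb1, hbW⟩ := Finset.mem_erase.1 hb
        rw [hfib' b hbW hb1, mul_one])]
      simp [Finset.card_erase_of_mem h1, hW4]
    rw [← Finset.add_sum_erase W _ h1, hone, e3, Finset.sum_const, Finset.card_univ,
      ← Nat.card_eq_fintype_card, hV, nsmul_eq_mul] at h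
    push_cast at h
    linarith
  -- the square of the sum
  have hdvd : (2 : ℤ) ^ n ∣ S * S := by
    have e : S * S = ∑ y : V, sgn a (q y) * ∑ x : V, sgn a (B x y) := by
      have e1 : ∀ x : V, S = ∑ y : V, sgn a (q (x * y)) := fun x =>
        (Fintype.sum_equiv (Equiv.mulLeft x) (fun y => sgn a (q (x * y))) _ fun y => rfl).symm
      calc S * S = ∑ x : V, sgn a (q x) * S := by rw [hS, Finset.sum_mul]
        _ = ∑ x : V, ∑ y : V, sgn a (q x) * sgn a (q (x * y)) := by
            refine Finset.sum_congr rfl fun x _ => ?_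
            rw [e1 x, Finset.mul_sum]
        _ = ∑ x : V, ∑ y : V, sgn a (q y) * sgn a (B x y) := by
            refine Finset.sum_congr rfl fun x _ => Finset.sum_congr rfl fun y _ => ?_
            have e2 : sgn a (q (x * y)) = sgn a (q x) * sgn a (q y) * sgn a (B x y) := by
              rw [hqB, hmW _ (hWmul _ (hq x) _ (hq y)) _ (hB x y), hmW _ (hq x) _ (hq y)]
            rw [e2]
            linear_combination (sgn a (q y) * sgn a (B x y)) * hval (q x)
        _ = ∑ y : V, sgn a (q y) * ∑ x : V, sgn a (B x y) := by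
            rw [Finset.sum_comm]
            simp only [Finset.mul_sum]
    rw [e]
    refine Finset.dvd_sum fun y _ => Dvd.dvd.mul_left ?_ _
    set T := ∑ x : V, sgn a (B x y) with hT
    by_cases hall : ∀ x, sgn a (B x y) = 1
    · rw [hT, Finset.sum_congr rfl (fun x _ => hall x), Finset.sum_const, Finset.card_univ,
        ← Nat.card_eq_fintype_card, hV, nsmul_eq_mul, mul_one]
      exact_mod_cast dvd_rfl
    · push Not at hall
      obtain ⟨x0, hx0⟩ := hall
      have h2 : T = sgn a (B x0 y) * T := by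
        rw [hT, Finset.mul_sum]
        refine (Fintype.sum_equiv (Equiv.mulLeft x0) (fun x => sgn a (B x0 y) * sgn a (B x y)) _
          fun x => ?_).symm
        show _ = sgn a (B (x0 * x) y)
        rw [hBl, hmW _ (hB x0 y) _ (hB x y)]
      have h3 : sgn a (B x0 y) = -1 := by
        unfold sgn at hx0 ⊢
        split_ifs at hx0 ⊢ with hc
        · exact absurd rfl hx0
        · rfl
      rw [h3] at h2
      exact ⟨0, by linarith⟩
  rw [hSm] at hdvd
  have h9 : (2 : ℤ) ^ n ∣ (4 - 2 ^ n) * (4 - 2 ^ n) := by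
    have e : (4 - (2 : ℤ) ^ n) * (4 - 2 ^ n) = 9 * ((1 - (m : ℤ)) * (1 - m)) := by
      rw [← htot]; ring
    rw [e]; exact hdvd.mul_left 9
  have h16 : (2 : ℤ) ^ n ∣ 16 := by
    have e : (16 : ℤ) = (4 - 2 ^ n) * (4 - 2 ^ n) + 2 ^ n * (8 - 2 ^ n) := by ring
    rw [e]
    exact dvd_add h9 (Dvd.intro _ rfl)
  have h32 : (32 : ℤ) ∣ 16 := (show (32 : ℤ) = 2 ^ 5 by norm_num) ▸ (pow_dvd_pow 2 hn).trans h16
  norm_num at h32

section Fpf

variable {V : Type*} [Group V] [Finite V]

/-- Two commuting fixed-point-free automorphisms of order three of an elementary abelian two-group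
generate the same group. -/
theorem order_three_eq (hcomm : ∀ x y : V, Commute x y) (hsq : ∀ x : V, x * x = 1) [Nontrivial V]
    (σ τ : MulAut V) (hc : Commute σ τ) (hσ3 : σ ^ 3 = 1) (hτ3 : τ ^ 3 = 1)
    (hσf : ∀ v, σ v = v → v = 1)
    (hdich : ∀ γ : MulAut V, Commute σ γ → Commute τ γ → γ = 1 ∨ ∀ v, γ v = v → v = 1) :
    τ = 1 ∨ τ = σ ∨ τ = σ * σ := by
  by_contra hno
  push Not at hno
  obtain ⟨hτ1, hτσ, hτσ2⟩ := hno
  letI : CommGroup V := { (inferInstance : Group V) with mul_comm := fun x y => hcomm x y }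
  have norm1 : ∀ γ : MulAut V, γ ^ 3 = 1 → (∀ v, γ v = v → v = 1) → ∀ v, v * γ v * γ (γ v) = 1 := by
    intro γ h3 hf v
    refine hf _ ?_
    have e : γ (γ (γ v)) = v := by
      have h := DFunLike.congr_fun h3 v
      rwa [pow_succ, pow_two] at h
    rw [map_mul, map_mul, e]
    rw [mul_comm (γ v * γ (γ v)) v, mul_assoc]
  have hfp : ∀ γ : MulAut V, Commute σ γ → Commute τ γ → γ ≠ 1 → ∀ v, γ v = v → v = 1 :=
    fun γ h1 h2 h3 => (hdich γ h1 h2).resolve_left h3
  have hσσ : σ ^ 3 = σ * σ * σ := by rw [pow_succ, pow_two]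
  have n0 := norm1 σ hσ3 hσf
  have n1 := norm1 τ hτ3 (hfp τ hc (Commute.refl τ) hτ1)
  have n2 := norm1 (σ * τ) (by rw [hc.mul_pow, hσ3, hτ3, one_mul])
    (hfp _ ((Commute.refl σ).mul_right hc) (hc.symm.mul_right (Commute.refl τ)) fun e => hτσ2 (by
      rw [← one_mul (τ : MulAut V), ← hσ3, hσσ, mul_assoc (σ * σ), e, mul_one]))
  have n3 := norm1 (σ * σ * τ) (by
      rw [((hc.mul_left hc)).mul_pow, (Commute.refl σ).mul_pow, hσ3, hτ3, one_mul, one_mul])
    (hfp _ (((Commute.refl σ).mul_right (Commute.refl σ)).mul_right hc)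
      ((hc.symm.mul_right hc.symm).mul_right (Commute.refl τ)) fun e => hτσ (by
        rw [← one_mul (τ : MulAut V), ← hσ3, hσσ, mul_assoc σ σ σ, ← mul_assoc σ σ σ]
        rw [show σ * σ * σ * τ = σ * (σ * σ * τ) by simp [mul_assoc], e, mul_one]))
  obtain ⟨v, hv⟩ := exists_ne (1 : V)
  have hcv : ∀ x, τ (σ x) = σ (τ x) := fun x => (DFunLike.congr_fun hc.eq x).symm
  have hσv : ∀ x, σ (σ (σ x)) = x := fun x => by
    have h := DFunLike.congr_fun hσ3 x
    rwa [hσσ] at h
  have a := n0 (τ v)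
  have b := n0 (τ (τ v))
  have p1 := n1 v
  have p2 := n2 v
  have p3 := n3 v
  simp only [MulAut.mul_apply, hcv, hσv] at p2 p3
  refine hv ?_
  have e : (v * τ v * τ (τ v)) * (v * σ (τ v) * σ (σ (τ (τ v)))) * (v * σ (σ (τ v)) * σ (τ (τ v))) =
      v * (v * v) * (τ v * σ (τ v) * σ (σ (τ v))) * (τ (τ v) * σ (τ (τ v)) * σ (σ (τ (τ v)))) := by
    ac_rfl
  rw [p1, p2, p3, a, b, hsq v] at e
  simpa using e.symm

/-- A fixed-point-free automorphism of order nine (with fixed-point-free cube) forces `9 ∣ |V| - 1`. -/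
theorem nine_dvd (γ : MulAut V) (h9 : γ ^ 9 = 1) (hf : ∀ v, (γ ^ 3) v = v → v = 1) :
    9 ∣ Nat.card V - 1 := by
  classical
  haveI := Fintype.ofFinite V
  have hfix : ∀ v, ∀ j, 0 < j → j < 9 → (γ ^ j) v = v → v = 1 := by
    intro v j hj0 hj hv
    refine hf v ?_
    have hpow : ∀ k : ℕ, (γ ^ (j * k)) v = v := by
      intro k
      induction k with
      | zero => simp
      | succ k ih => rw [mul_add, mul_one, pow_add, MulAut.mul_apply, hv, ih]
    have h9' : ∀ k : ℕ, γ ^ k = γ ^ (k % 9) := fun k => by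
      conv_lhs => rw [← Nat.div_add_mod k 9, pow_add, pow_mul, h9, one_pow, one_mul]
    have hk : ∃ k, (j * k) % 9 = 3 := by
      interval_cases j
      · exact ⟨3, by norm_num⟩
      · exact ⟨6, by norm_num⟩
      · exact ⟨1, by norm_num⟩
      · exact ⟨3, by norm_num⟩
      · exact ⟨6, by norm_num⟩
      · exact ⟨2, by norm_num⟩
      · exact ⟨3, by norm_num⟩
      · exact ⟨6, by norm_num⟩
    obtain ⟨k, hk⟩ := hk
    have h := hpow k
    rwa [h9', hk] at h
  letI : MulAction (zpowers γ) {v : V // v ≠ 1} :=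
    { smul := fun g v => ⟨(g : MulAut V) v.1, fun e => v.2 ((g : MulAut V).injective (e.trans (map_one _).symm))⟩
      one_smul := fun v => Subtype.ext rfl
      mul_smul := fun g h v => Subtype.ext rfl }
  have hord : orderOf γ ∣ 9 := orderOf_dvd_iff_pow_eq_one.2 h9
  rcases eq_or_ne (Nat.card V) 1 with e | e
  · rw [e]; simp
  have hnt : ∃ v : V, v ≠ 1 := by
    by_contra hc
    push Not at hc
    refine e (Nat.card_eq_one_iff_unique.2 ⟨⟨fun x y => (hc x).trans (hc y).symm⟩, ⟨1⟩⟩)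
  obtain ⟨v0, hv0⟩ := hnt
  have hord9 : orderOf γ = 9 := by
    have := orderOf_pos γ
    have hle := Nat.le_of_dvd (by norm_num) hord
    by_contra hne
    exact hv0 (hfix v0 (orderOf γ) this (by omega) (by rw [pow_orderOf_eq_one]; rfl))
  have hstab : ∀ v : {v : V // v ≠ 1}, MulAction.stabilizer (zpowers γ) v = ⊥ := by
    intro v
    rw [eq_bot_iff]
    rintro ⟨g, hg⟩ hgv
    obtain ⟨j, hj, rfl⟩ : ∃ j, j < 9 ∧ γ ^ j = g := by
      obtain ⟨k, hk⟩ := (Submonoid.mem_powers_iff _ _).1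
        ((isOfFinOrder_of_finite γ).mem_powers_iff_mem_zpowers.2 hg)
      refine ⟨k % 9, Nat.mod_lt _ (by norm_num), ?_⟩
      rw [← hk]
      conv_rhs => rw [← Nat.div_add_mod k 9, pow_add, pow_mul, h9, one_pow, one_mul]
    rw [mem_bot]
    refine Subtype.ext ?_
    show γ ^ j = 1
    rcases Nat.eq_zero_or_pos j with rfl | hj0
    · exact pow_zero γ
    · exact absurd (hfix v.1 j hj0 hj (congrArg Subtype.val hgv)) v.2
  have h := MulAction.selfEquivSigmaOrbitsQuotientStabilizer (zpowers γ) {v : V // v ≠ 1}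
  have hc := Nat.card_congr h
  haveI := Fintype.ofFinite (Quotient (MulAction.orbitRel (zpowers γ) {v : V // v ≠ 1}))
  rw [Nat.card_sigma] at hc
  simp only [hstab, ← index_eq_card, index_bot, Nat.card_zpowers, hord9, Finset.sum_const,
    smul_eq_mul] at hc
  have hcv : Nat.card {v : V // v ≠ 1} = Nat.card V - 1 := by
    rw [Nat.card_eq_fintype_card, Fintype.card_subtype_compl, Fintype.card_subtype_eq,
      Nat.card_eq_fintype_card]
  exact ⟨_, (hcv.symm.trans hc).trans (mul_comm _ _)⟩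

end Fpf

theorem conj_mem_of_normalizer {G : Type*} [Group G] {Q : Subgroup G} {g : G}
    (hg : g ∈ normalizer (Q : Set G)) {x : G} (hx : x ∈ Q) : g * x * g⁻¹ ∈ Q :=
  (mem_normalizer_iff.1 hg x).1 hx

theorem mem_normalizer_of_conj_mem {G : Type*} [Group G] [Finite G] {Q : Subgroup G} {g : G}
    (h : ∀ x ∈ Q, g * x * g⁻¹ ∈ Q) : g ∈ normalizer (Q : Set G) := by
  refine mem_normalizer_iff_map_conj_eq.2
    (eq_of_le_of_card_ge ?_ (card_map_of_injective (MulEquiv.injective _)).ge)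
  rintro _ ⟨x, hx, rfl⟩
  exact h x hx

/-- The only automorphisms of order three commuting with a fixed-point-free one on the involutions
and fixing all the involutions are trivial. -/
theorem core {G : Type*} [Group G] [Finite G] (W T : Subgroup G) (hT2 : IsPGroup 2 T)
    (hW4 : Nat.card W = 4) (hWe : ∀ w ∈ W, w * w = 1)
    (hWc : ∀ w ∈ W, ∀ x ∈ T, Commute w x) (hinv : ∀ x ∈ T, x * x = 1 → x ∈ W)
    (s d : G) (hsd : Commute s d) (hs3 : s ^ 3 = 1) (hd : IsPGroup 3 (zpowers d))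
    (hsT : s ∈ normalizer (T : Set G)) (hdT : d ∈ normalizer (T : Set G))
    (hdW : d ∈ normalizer (W : Set G)) (hsW : ∀ w ∈ W, Commute s w)
    (hdf : ∀ w ∈ W, Commute d w → w = 1) : ∀ x ∈ T, Commute s x := by
  classical
  haveI := Fact.mk Nat.prime_two
  by_contra hTs
  let P : ℕ → Prop := fun c => ∃ R : Subgroup G, Nat.card R = c ∧ R ≤ T ∧
    s ∈ normalizer (R : Set G) ∧ d ∈ normalizer (R : Set G) ∧ ¬ ∀ x ∈ R, Commute s x
  have hex : ∃ c, P c := ⟨_, T, rfl, le_rfl, hsT, hdT, hTs⟩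
  obtain ⟨Q, hQc, hQT, hsQ, hdQ, hQs⟩ := Nat.find_spec hex
  have hmin : ∀ R : Subgroup G, R ≤ Q → s ∈ normalizer (R : Set G) → d ∈ normalizer (R : Set G) →
      R ≠ Q → ∀ x ∈ R, Commute s x := by
    intro R hR hs hd' hne
    by_contra hc
    refine hne (eq_of_le_of_card_ge hR ?_)
    rw [hQc]
    exact Nat.find_min' hex ⟨R, rfl, hR.trans hQT, hs, hd', hc⟩
  have hQp : IsPGroup 2 Q := hT2.to_le hQT
  haveI : Nontrivial Q := by
    rw [nontrivial_iff_ne_bot]
    intro e
    exact hQs fun x hx => by rw [show x = 1 from mem_bot.1 (e ▸ hx)]; exact Commute.one_right s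
  -- the Frattini subgroup
  set F := (frattini Q).map Q.subtype with hF
  have hFinv : ∀ g : G, g ∈ normalizer (Q : Set G) → g ∈ normalizer (F : Set G) := by
    intro g hg
    refine mem_normalizer_of_conj_mem ?_
    let f : Q →* Q :=
      { toFun := fun x => ⟨g * x * g⁻¹, conj_mem_of_normalizer hg x.2⟩
        map_one' := Subtype.ext (by simp)
        map_mul' := fun x y => Subtype.ext (by simp [mul_assoc]) }
    have hfb : Function.Bijective f := Finite.injective_iff_bijective.1 fun x y h =>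
      Subtype.ext (mul_left_cancel (mul_right_cancel (congrArg Subtype.val h)))
    rintro _ ⟨x, hx, rfl⟩
    refine ⟨f x, ?_, rfl⟩
    have h := (characteristic_iff_map_eq.1 (inferInstance : (frattini Q).Characteristic)) (MulEquiv.ofBijective f hfb)
    rw [← h]
    exact mem_map_of_mem _ hx
  have hFne : F ≠ Q := by
    intro e
    refine CfsgLib.StructC.frattini_ne_top_of_nontrivial (K := Q) (eq_top_iff.2 fun x _ => ?_)
    obtain ⟨y, hy, hyx⟩ := e.ge x.2
    rwa [← Subtype.ext hyx]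
  have hFs : ∀ x ∈ F, Commute s x :=
    hmin F (map_subtype_le _) (hFinv s hsQ) (hFinv d hdQ) hFne
  have hsqF : ∀ x ∈ Q, x * x ∈ F := fun x hx =>
    ⟨⟨x, hx⟩ * ⟨x, hx⟩, by
      rw [← pow_two]; exact CfsgLib.StructC.pow_mem_frattini hQp _, rfl⟩
  have hcmF : ∀ x ∈ Q, ∀ y ∈ Q, ⁅x, y⁆ ∈ F := fun x hx y hy =>
    ⟨⁅(⟨x, hx⟩ : Q), ⟨y, hy⟩⁆, by
      have h := CfsgLib.StructC.comm_mem_frattini hQp (⟨x, hx⟩ : Q)⁻¹ (⟨y, hy⟩ : Q)⁻¹
      simpa [commutatorElement_def, mul_assoc] using h, rfl⟩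
  -- `Q = [Q, s]`
  set A := zpowers s with hA
  have hAQ : A ≤ normalizer (Q : Set G) := zpowers_le.2 hsQ
  have hcop : (Nat.card A).Coprime (Nat.card Q) := by
    obtain ⟨k, hk⟩ := hQp.exists_card_eq
    rw [hk]
    refine Nat.Coprime.pow_right _ (Nat.Coprime.coprime_dvd_left ?_ (by norm_num : Nat.Coprime 3 2))
    rw [hA, Nat.card_zpowers]
    exact orderOf_dvd_of_pow_eq_one hs3
  have hAsol : Group.IsSolvable A := by
    letI := IsCyclic.commGroup (α := A)
    infer_instance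
  have hAd : ∀ a ∈ A, d * a * d⁻¹ = a := by
    intro a ha
    obtain ⟨k, rfl⟩ := mem_zpowers_iff.1 ha
    rw [(hsd.zpow_left k).symm.eq, mul_inv_cancel_right]
  have hgen : ⁅Q, A⁆ = Q := by
    have hle : ⁅Q, A⁆ ≤ Q := le_normalizer_iff_commutator_le_left.1 hAQ
    by_contra hne
    have hd2 : d ∈ normalizer ((⁅Q, A⁆ : Subgroup G) : Set G) := by
      refine mem_normalizer_of_conj_mem ?_
      intro x hx
      have h : ⁅Q, A⁆.map (MulAut.conj d).toMonoidHom ≤ ⁅Q, A⁆ := by
        rw [map_commutator]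
        refine commutator_mono ?_ ?_
        · rintro _ ⟨y, hy, rfl⟩; exact conj_mem_of_normalizer hdQ hy
        · rintro _ ⟨y, hy, rfl⟩
          show d * y * d⁻¹ ∈ A
          rw [hAd y hy]; exact hy
      exact h (mem_map_of_mem _ hx)
    have hs2 : s ∈ normalizer ((⁅Q, A⁆ : Subgroup G) : Set G) :=
      normalizer_commutator_ge_right Q A (mem_zpowers s)
    have hc := hmin _ hle hs2 hd2 hne
    have hbot : ⁅⁅Q, A⁆, A⁆ = ⊥ := by
      rw [commutator_eq_bot_iff_le_centralizer]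
      intro x hx
      refine mem_centralizer_iff.2 fun a ha => ?_
      obtain ⟨k, rfl⟩ := mem_zpowers_iff.1 ha
      exact ((hc x hx).zpow_left k).eq
    rw [CfsgLib.Coprime.commutator_commutator_eq hAQ hcop (Or.inl hAsol),
      commutator_eq_bot_iff_le_centralizer] at hbot
    exact hQs fun x hx => mem_centralizer_iff.1 (hbot hx) s (mem_zpowers s)
  have hinvA : ∀ g : Subgroup G, (∀ x ∈ Q, ∀ k : ℤ, ⁅x, s ^ k⁆ ∈ g) → Q ≤ g := by
    intro g hg
    rw [← hgen, commutator_le]
    intro x hx a ha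
    obtain ⟨k, rfl⟩ := mem_zpowers_iff.1 ha
    exact hg x hx k
  have hFc : ∀ f ∈ F, ∀ x ∈ Q, Commute f x := by
    have h1 : ⁅⁅A, F⁆, Q⁆ = ⊥ := by
      have : ⁅A, F⁆ = ⊥ := by
        rw [commutator_eq_bot_iff_le_centralizer]
        exact zpowers_le.2 (mem_centralizer_iff.2 fun f hf => (hFs f hf).symm.eq)
      rw [this, commutator_bot_left]
    have h2 : ⁅⁅F, Q⁆, A⁆ = ⊥ := by
      rw [commutator_eq_bot_iff_le_centralizer, commutator_le]
      intro f hf x hx
      refine mem_centralizer_iff.2 fun a ha => ?_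
      obtain ⟨k, rfl⟩ := mem_zpowers_iff.1 ha
      exact ((hFs _ (hcmF f (map_subtype_le _ hf) x hx)).zpow_left k).eq
    have h3 := commutator_commutator_eq_bot_of_rotate h1 h2
    rw [hgen, commutator_eq_bot_iff_le_centralizer] at h3
    exact fun f hf x hx => mem_centralizer_iff.1 (h3 hx) f hf
  -- the involutions
  have hdgen : ∀ a ∈ W, a ≠ 1 → d * a * d⁻¹ ≠ a := by
    intro a ha ha1 e
    exact ha1 (hdf a ha (mul_inv_eq_iff_eq_mul.1 e))
  have hWQ : W ≤ Q := by
    obtain ⟨k, hk⟩ := hQp.exists_card_eq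
    have hk0 : k ≠ 0 := by
      rintro rfl
      exact (Finite.one_lt_card (α := Q)).ne' hk
    obtain ⟨x, hx⟩ := exists_prime_orderOf_dvd_card' (G := Q) 2 (hk ▸ dvd_pow_self 2 hk0)
    have hxx : (x : G) * x = 1 := by
      have h := pow_orderOf_eq_one x
      rw [hx, pow_two] at h
      exact congrArg Subtype.val h
    have hxW : (x : G) ∈ W := hinv x (hQT x.2) hxx
    have hx1 : (x : G) ≠ 1 := fun e => by
      rw [orderOf_eq_one_iff.2 (Subtype.ext e)] at hx
      exact absurd hx (by norm_num)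
    have hle : W ⊓ Q ≤ W := inf_le_left
    have hd2 := card_dvd_of_le hle
    rw [hW4] at hd2
    have hcases : Nat.card (W ⊓ Q : Subgroup G) = 4 ∨ Nat.card (W ⊓ Q : Subgroup G) ≤ 2 := by
      have := Nat.le_of_dvd (by norm_num) hd2
      rcases (show Nat.card (W ⊓ Q : Subgroup G) ≤ 2 ∨ Nat.card (W ⊓ Q : Subgroup G) = 3 ∨
        Nat.card (W ⊓ Q : Subgroup G) = 4 by omega) with h | h | h
      · exact Or.inr h
      · rw [h] at hd2; norm_num at hd2
      · exact Or.inl h
    rcases hcases with h | h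
    · exact (eq_of_le_of_card_ge hle (by rw [hW4, h])).ge.trans inf_le_right
    · exfalso
      have hxz : zpowers (x : G) ≤ W ⊓ Q := zpowers_le.2 ⟨hxW, x.2⟩
      have hox : orderOf (x : G) = 2 := orderOf_eq_prime (by rw [pow_two, hxx]) hx1
      have he := eq_of_le_of_card_ge hxz (by rw [Nat.card_zpowers, hox]; exact h)
      have hy : d * (x : G) * d⁻¹ ∈ zpowers (x : G) := he ▸ mem_inf.2
        ⟨conj_mem_of_normalizer hdW hxW, conj_mem_of_normalizer hdQ x.2⟩
      obtain ⟨j, hj⟩ := mem_zpowers_iff.1 hy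
      rw [← zpow_mod_orderOf, hox] at hj
      rcases Int.emod_two_eq_zero_or_one j with e | e
      · rw [show (((2 : ℕ) : ℤ)) = 2 from rfl, e, zpow_zero] at hj
        exact hx1 (conj_eq_one_iff.1 hj.symm)
      · rw [show (((2 : ℕ) : ℤ)) = 2 from rfl, e, zpow_one] at hj
        exact hdgen x hxW hx1 hj.symm
  have hcmW : ∀ x ∈ Q, ∀ y ∈ Q, ⁅x, y⁆ ∈ W := by
    intro x hx y hy
    refine hinv _ (hQT (map_subtype_le _ (hcmF x hx y hy))) ?_
    have hc := hFc _ (hcmF x hx y hy) x hx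
    have h2 := hFc _ (hsqF x hx) y hy
    calc ⁅x, y⁆ * ⁅x, y⁆ = x * ⁅x, y⁆ * x⁻¹ * ⁅x, y⁆ := by rw [← hc.eq, mul_inv_cancel_right]
      _ = ⁅x * x, y⁆ := by simp [commutatorElement_def, mul_assoc]
      _ = 1 := commutatorElement_eq_one_iff_commute.2 h2
  have hsqmul : ∀ x ∈ Q, ∀ y ∈ Q, x * y * (x * y) = x * x * (y * y) * ⁅x, y⁆ := by
    intro x hx y hy
    have hc : ⁅y, x⁆ = ⁅x, y⁆ := by
      rw [← commutatorElement_inv, inv_eq_iff_mul_eq_one]
      exact hWe _ (hcmW x hx y hy)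
    have e1 : x * y * (x * y) = x * (⁅y, x⁆ * (x * (y * y))) := by
      simp [commutatorElement_def, mul_assoc]
    rw [e1, hc, ← mul_assoc x ⁅x, y⁆, ← (hWc _ (hcmW x hx y hy) x (hQT hx)).eq, mul_assoc ⁅x, y⁆,
      ← mul_assoc x x, (hWc _ (hcmW x hx y hy) (x * x * (y * y))
        (hQT (mul_mem (mul_mem hx hx) (mul_mem hy hy)))).eq]
  have h4 : ∀ x ∈ Q, x * x * (x * x) = 1 := by
    have hmul : ∀ x ∈ Q, ∀ y ∈ Q, x * y * (x * y) * (x * y * (x * y)) =
        x * x * (x * x) * (y * y * (y * y)) := by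
      intro x hx y hy
      have hc := hWc _ (hcmW x hx y hy) (x * x * (y * y)) (hQT (mul_mem (mul_mem hx hx) (mul_mem hy hy)))
      have hxy : Commute (y * y) (x * x) := hFc _ (hsqF y hy) _ (mul_mem hx hx)
      rw [hsqmul x hx y hy]
      calc x * x * (y * y) * ⁅x, y⁆ * (x * x * (y * y) * ⁅x, y⁆)
          = x * x * (y * y) * (⁅x, y⁆ * (x * x * (y * y))) * ⁅x, y⁆ := by simp [mul_assoc]
        _ = x * x * (y * y) * (x * x * (y * y) * ⁅x, y⁆) * ⁅x, y⁆ := by rw [hc.eq]
        _ = x * x * (y * y * (x * x)) * (y * y) * (⁅x, y⁆ * ⁅x, y⁆) := by simp [mul_assoc]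
        _ = x * x * (x * x * (y * y)) * (y * y) := by rw [hxy.eq, hWe _ (hcmW x hx y hy), mul_one]
        _ = x * x * (x * x) * (y * y * (y * y)) := by simp [mul_assoc]
    let K : Subgroup G :=
      { carrier := {x | x ∈ Q ∧ x * x * (x * x) = 1}
        one_mem' := ⟨one_mem Q, by simp⟩
        mul_mem' := fun {x y} hx hy => ⟨mul_mem hx.1 hy.1, by rw [hmul x hx.1 y hy.1, hx.2, hy.2, mul_one]⟩
        inv_mem' := fun {x} hx => ⟨inv_mem hx.1, by
          rw [← mul_inv_rev, ← mul_inv_rev, inv_eq_one]; exact hx.2⟩ }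
    refine fun x hx => ((hinvA K fun x hx k => ?_) hx).2
    have hy : s ^ k * x⁻¹ * (s ^ k)⁻¹ ∈ Q :=
      conj_mem_of_normalizer (zpow_mem hsQ k) (inv_mem hx)
    have e : ⁅x, s ^ k⁆ = x * (s ^ k * x⁻¹ * (s ^ k)⁻¹) := by simp [commutatorElement_def, mul_assoc]
    rw [e]
    refine ⟨mul_mem hx hy, ?_⟩
    rw [hmul x hx _ hy]
    have e2 : s ^ k * x⁻¹ * (s ^ k)⁻¹ * (s ^ k * x⁻¹ * (s ^ k)⁻¹) *
        (s ^ k * x⁻¹ * (s ^ k)⁻¹ * (s ^ k * x⁻¹ * (s ^ k)⁻¹)) =
        s ^ k * (x * x * (x * x))⁻¹ * (s ^ k)⁻¹ := by simp [mul_assoc]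
    have h5 : Commute s (x * x * (x * x))⁻¹ := hFs _ (inv_mem (mul_mem (hsqF x hx) (hsqF x hx)))
    rw [e2, (h5.zpow_left k).eq, mul_inv_cancel_right, mul_inv_cancel]
  have hsqW : ∀ x ∈ Q, x * x ∈ W := fun x hx => hinv _ (hQT (mul_mem hx hx)) (h4 x hx)
  have hne_sq : ∀ x ∈ Q, x * x = 1 → x ∈ W := fun x hx => hinv x (hQT hx)
  -- the centralizer of `s`
  have hAW : ∀ x ∈ Q, Commute s x → x ∈ W := by
    intro x hx hxs
    by_contra hxW
    set C := Q ⊓ centralizer ({s} : Set G) with hC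
    have hCmem : ∀ y ∈ Q, Commute s y → y ∈ C := fun y hy h =>
      mem_inf.2 ⟨hy, mem_centralizer_singleton_iff.2 h.symm.eq⟩
    have hCs : ∀ y ∈ C, Commute s y := fun y hy =>
      (show Commute y s from mem_centralizer_singleton_iff.1 (mem_inf.1 hy).2).symm
    have hcentral : ∀ a ∈ C, ∀ y ∈ Q, Commute a y := by
      intro a ha y hy
      have haQ := (mem_inf.1 ha).1
      let K : Subgroup G := Q ⊓ centralizer ({a} : Set G)
      have hle : Q ≤ K := hinvA K fun z hz k => by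
        have hzk : s ^ k * z⁻¹ * (s ^ k)⁻¹ ∈ Q := conj_mem_of_normalizer (zpow_mem hsQ k) (inv_mem hz)
        have e : ⁅z, s ^ k⁆ = z * (s ^ k * z⁻¹ * (s ^ k)⁻¹) := by simp [commutatorElement_def, mul_assoc]
        rw [e]
        refine mem_inf.2 ⟨mul_mem hz hzk, mem_centralizer_singleton_iff.2 ?_⟩
        have h1 : Commute (s ^ k) ⁅a, z⁻¹⁆ := (hsW _ (hcmW a haQ _ (inv_mem hz))).zpow_left k
        have h2 : ⁅a, s ^ k * z⁻¹ * (s ^ k)⁻¹⁆ = ⁅a, z⁻¹⁆ := by
          have h3 : Commute (s ^ k) a := (hCs a ha).zpow_left k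
          calc ⁅a, s ^ k * z⁻¹ * (s ^ k)⁻¹⁆
              = ⁅s ^ k * a * (s ^ k)⁻¹, s ^ k * z⁻¹ * (s ^ k)⁻¹⁆ := by
                rw [h3.eq, mul_inv_cancel_right]
            _ = s ^ k * ⁅a, z⁻¹⁆ * (s ^ k)⁻¹ := by simp [commutatorElement_def, mul_assoc]
            _ = ⁅a, z⁻¹⁆ := by rw [h1.eq, mul_inv_cancel_right]
        have h4 : ⁅a, z * (s ^ k * z⁻¹ * (s ^ k)⁻¹)⁆ = 1 := by
          calc ⁅a, z * (s ^ k * z⁻¹ * (s ^ k)⁻¹)⁆
              = ⁅a, z⁆ * (z * ⁅a, s ^ k * z⁻¹ * (s ^ k)⁻¹⁆ * z⁻¹) := by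
                simp [commutatorElement_def, mul_assoc]
            _ = ⁅a, z⁆ * (z * ⁅a, z⁻¹⁆ * z⁻¹) := by rw [h2]
            _ = 1 := by simp [commutatorElement_def, mul_assoc]
        exact (commutatorElement_eq_one_iff_commute.1 h4).symm.eq
      exact (show Commute y a from mem_centralizer_singleton_iff.1 (mem_inf.1 (hle hy)).2).symm
    have hsq : ∀ w ∈ W, ∃ a ∈ C, a * a = w := by
      let Sq : Subgroup G :=
        { carrier := {w | ∃ a ∈ C, a * a = w}
          one_mem' := ⟨1, one_mem C, one_mul 1⟩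
          mul_mem' := by
            rintro _ _ ⟨a, ha, rfl⟩ ⟨b, hb, rfl⟩
            refine ⟨a * b, mul_mem ha hb, ?_⟩
            rw [mul_assoc, ← mul_assoc b a b, ← (hcentral a ha b (mem_inf.1 hb).1).eq]
            simp [mul_assoc]
          inv_mem' := by
            rintro _ ⟨a, ha, rfl⟩
            exact ⟨a⁻¹, inv_mem ha, (mul_inv_rev a a).symm⟩ }
      have hdS : ∀ w ∈ Sq, d * w * d⁻¹ ∈ Sq := by
        rintro _ ⟨a, ha, rfl⟩
        refine ⟨d * a * d⁻¹, hCmem _ (conj_mem_of_normalizer hdQ (mem_inf.1 ha).1) ?_, by simp [mul_assoc]⟩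
        exact (hsd.mul_right (hCs a ha)).mul_right hsd.inv_right
      have hxS : x * x ∈ Sq := ⟨x, hCmem x hx hxs, rfl⟩
      have hxx1 : x * x ≠ 1 := fun e => hxW (hne_sq x hx e)
      have hle : Sq ≤ W := by
        rintro _ ⟨a, ha, rfl⟩
        exact hsqW a (mem_inf.1 ha).1
      intro w hw
      refine (eq_of_le_of_card_ge hle ?_).ge hw
      rw [hW4]
      have hd4 := card_dvd_of_le hle
      rw [hW4] at hd4
      have h3 : 3 ≤ Nat.card Sq := by
        haveI := Fintype.ofFinite Sq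
        rw [Nat.card_eq_fintype_card]
        refine Fintype.two_lt_card_iff.2 ⟨⟨1, one_mem _⟩, ⟨_, hxS⟩, ⟨_, hdS _ hxS⟩, ?_, ?_, ?_⟩
        · exact fun e => hxx1 (congrArg Subtype.val e).symm
        · exact fun e => hxx1 (conj_eq_one_iff.1 (congrArg Subtype.val e).symm)
        · exact fun e => hdgen _ (hsqW x hx) hxx1 (congrArg Subtype.val e).symm
      have := Nat.le_of_dvd (by norm_num) hd4
      rcases (show Nat.card Sq = 3 ∨ Nat.card Sq = 4 by omega) with e | e
      · rw [e] at hd4; norm_num at hd4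
      · rw [e]
    refine hQs fun y hy => ?_
    obtain ⟨a, ha, hae⟩ := hsq _ (hsqW y hy)
    have hya : y * a ∈ W := by
      refine hne_sq _ (mul_mem hy (mem_inf.1 ha).1) ?_
      calc y * a * (y * a) = y * (a * y) * a := by simp [mul_assoc]
        _ = y * (y * a) * a := by rw [(hcentral a ha y hy).eq]
        _ = y * y * (a * a) := by simp [mul_assoc]
        _ = 1 := by rw [hae]; exact hWe _ (hsqW y hy)
    have h := (hsW _ hya).mul_right (hCs a ha).inv_right
    rwa [mul_inv_cancel_right] at h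
  -- the quotient
  set Wq := W.subgroupOf Q with hWq
  haveI : Wq.Normal := ⟨fun w hw g => by
    rw [mem_subgroupOf] at hw ⊢
    rw [coe_mul, coe_mul, coe_inv, ← (hWc _ hw g (hQT g.2)).eq, mul_inv_cancel_right]
    exact hw⟩
  let π := QuotientGroup.mk' Wq
  have hπ := QuotientGroup.mk'_surjective Wq
  have hπeq : ∀ x y : Q, π x = π y → ∃ w ∈ W, (y : G) = x * w := fun x y h =>
    ⟨(x : G)⁻¹ * y, mem_subgroupOf.1 (QuotientGroup.eq.1 h), (mul_inv_cancel_left _ _).symm⟩
  have haut : ∀ g : G, g ∈ normalizer (Q : Set G) → g ∈ normalizer (W : Set G) →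
      ∃ γ : MulAut (Q ⧸ Wq), ∀ (x : Q) (hx : g * x * g⁻¹ ∈ Q), γ (π x) = π ⟨g * x * g⁻¹, hx⟩ := by
    intro g hgQ hgW
    let f : Q →* Q :=
      { toFun := fun x => ⟨g * x * g⁻¹, conj_mem_of_normalizer hgQ x.2⟩
        map_one' := Subtype.ext (by simp)
        map_mul' := fun x y => Subtype.ext (by simp [mul_assoc]) }
    have hfb : Function.Bijective f := Finite.injective_iff_bijective.1 fun x y h =>
      Subtype.ext (mul_left_cancel (mul_right_cancel (congrArg Subtype.val h)))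
    refine ⟨QuotientGroup.congr Wq Wq (MulEquiv.ofBijective f hfb) ?_, fun x hx => rfl⟩
    refine eq_of_le_of_card_ge ?_ (card_map_of_injective (MulEquiv.injective _)).ge
    rintro _ ⟨w, hw, rfl⟩
    exact mem_subgroupOf.2 (conj_mem_of_normalizer hgW (mem_subgroupOf.1 hw))
  have hsWn : s ∈ normalizer (W : Set G) := mem_normalizer_of_conj_mem fun w hw => by
    rw [(hsW w hw).eq, mul_inv_cancel_right]; exact hw
  obtain ⟨σ, hσ⟩ := haut s hsQ hsWn
  obtain ⟨δ, hδ⟩ := haut d hdQ hdW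
  have hσ' : ∀ x : Q, σ (π x) = π ⟨s * x * s⁻¹, conj_mem_of_normalizer hsQ x.2⟩ := fun x => hσ x _
  have hδ' : ∀ x : Q, δ (π x) = π ⟨d * x * d⁻¹, conj_mem_of_normalizer hdQ x.2⟩ := fun x => hδ x _
  have hσk : ∀ (k : ℕ) (x : Q), (σ ^ k) (π x) =
      π ⟨s ^ k * x * (s ^ k)⁻¹, conj_mem_of_normalizer (pow_mem hsQ k) x.2⟩ := by
    intro k
    induction k with
    | zero => intro x; simp
    | succ k ih =>
      intro x
      rw [pow_succ', MulAut.mul_apply, ih, hσ']
      congr 1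
      exact Subtype.ext (by simp [pow_succ', mul_assoc])
  have hδk : ∀ (k : ℕ) (x : Q), (δ ^ k) (π x) =
      π ⟨d ^ k * x * (d ^ k)⁻¹, conj_mem_of_normalizer (pow_mem hdQ k) x.2⟩ := by
    intro k
    induction k with
    | zero => intro x; simp
    | succ k ih =>
      intro x
      rw [pow_succ', MulAut.mul_apply, ih, hδ']
      congr 1
      exact Subtype.ext (by simp [pow_succ', mul_assoc])
  have hσ3 : σ ^ 3 = 1 := by
    ext v
    obtain ⟨x, rfl⟩ := hπ v
    rw [hσk, MulAut.one_apply]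
    congr 1
    exact Subtype.ext (by simp [hs3])
  have hστ : Commute σ δ := by
    refine MulEquiv.ext fun v => ?_
    obtain ⟨x, rfl⟩ := hπ v
    rw [MulAut.mul_apply, MulAut.mul_apply, hδ', hσ', hσ', hδ']
    congr 1
    refine Subtype.ext ?_
    show s * (d * x * d⁻¹) * s⁻¹ = d * (s * x * s⁻¹) * d⁻¹
    calc s * (d * x * d⁻¹) * s⁻¹ = s * d * x * (s * d)⁻¹ := by simp [mul_assoc]
      _ = d * s * x * (d * s)⁻¹ := by rw [hsd.eq]
      _ = d * (s * x * s⁻¹) * d⁻¹ := by simp [mul_assoc]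
  have hσf : ∀ v, σ v = v → v = 1 := by
    intro v hv
    obtain ⟨x, rfl⟩ := hπ v
    rw [hσ'] at hv
    obtain ⟨w, hw, hwe⟩ := hπeq _ _ hv.symm
    change s * (x : G) * s⁻¹ = x * w at hwe
    refine (QuotientGroup.eq_one_iff x).2 (mem_subgroupOf.2 (hAW x x.2 ?_))
    have hk : ∀ k : ℕ, s ^ k * (x : G) * (s ^ k)⁻¹ = x * w ^ k := by
      intro k
      induction k with
      | zero => simp
      | succ k ih =>
        calc s ^ (k + 1) * (x : G) * (s ^ (k + 1))⁻¹ = s * (s ^ k * x * (s ^ k)⁻¹) * s⁻¹ := by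
              simp [pow_succ', mul_assoc]
          _ = s * x * s⁻¹ * (s * w ^ k * s⁻¹) := by rw [ih]; simp [mul_assoc]
          _ = x * w ^ (k + 1) := by
              rw [hwe, ((hsW w hw).pow_right k).eq, mul_inv_cancel_right, mul_assoc, ← pow_succ']
    have h3 := hk 3
    rw [hs3, one_mul, inv_one, mul_one, left_eq_mul, pow_succ, pow_two, hWe w hw, one_mul] at h3
    rw [h3, mul_one, mul_inv_eq_iff_eq_mul] at hwe
    exact hwe
  have hdich : ∀ γ : MulAut (Q ⧸ Wq), Commute σ γ → Commute δ γ → γ = 1 ∨ ∀ v, γ v = v → v = 1 := by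
    intro γ hσγ hδγ
    let R : Subgroup G :=
      { carrier := {x | ∃ hx : x ∈ Q, γ (π ⟨x, hx⟩) = π ⟨x, hx⟩}
        one_mem' := ⟨one_mem Q, by rw [show (⟨1, one_mem Q⟩ : Q) = 1 from rfl, map_one, map_one]⟩
        mul_mem' := by
          rintro x y ⟨hx, hx'⟩ ⟨hy, hy'⟩
          refine ⟨mul_mem hx hy, ?_⟩
          rw [show (⟨x * y, mul_mem hx hy⟩ : Q) = ⟨x, hx⟩ * ⟨y, hy⟩ from rfl, map_mul, map_mul, hx', hy']
        inv_mem' := by
          rintro x ⟨hx, hx'⟩
          refine ⟨inv_mem hx, ?_⟩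
          rw [show (⟨x⁻¹, inv_mem hx⟩ : Q) = ⟨x, hx⟩⁻¹ from rfl, map_inv, map_inv, hx'] }
    have hRQ : R ≤ Q := fun x hx => hx.1
    have hRs : s ∈ normalizer (R : Set G) := mem_normalizer_of_conj_mem fun x ⟨hx, hx'⟩ =>
      ⟨conj_mem_of_normalizer hsQ hx, by
        rw [← hσ' ⟨x, hx⟩, ← MulAut.mul_apply, ← hσγ.eq, MulAut.mul_apply, hx']⟩
    have hRd : d ∈ normalizer (R : Set G) := mem_normalizer_of_conj_mem fun x ⟨hx, hx'⟩ =>
      ⟨conj_mem_of_normalizer hdQ hx, by
        rw [← hδ' ⟨x, hx⟩, ← MulAut.mul_apply, ← hδγ.eq, MulAut.mul_apply, hx']⟩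
    by_cases hR : R = Q
    · refine Or.inl (MulEquiv.ext fun v => ?_)
      obtain ⟨x, rfl⟩ := hπ v
      exact (hR.ge x.2).2
    · refine Or.inr fun v hv => ?_
      obtain ⟨x, rfl⟩ := hπ v
      exact (QuotientGroup.eq_one_iff x).2 (mem_subgroupOf.2
        (hAW x x.2 (hmin R hRQ hRs hRd hR x ⟨x.2, hv⟩)))
  haveI : Nontrivial (Q ⧸ Wq) := by
    by_contra hnt
    rw [not_nontrivial_iff_subsingleton] at hnt
    exact hQs fun x hx => hsW x
      (mem_subgroupOf.1 ((QuotientGroup.eq_one_iff (⟨x, hx⟩ : Q)).1 (Subsingleton.elim _ _)))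
  have hVc : ∀ u v : Q ⧸ Wq, Commute u v := by
    intro u v
    obtain ⟨x, rfl⟩ := hπ u
    obtain ⟨y, rfl⟩ := hπ v
    rw [← commutatorElement_eq_one_iff_commute, ← map_commutatorElement]
    exact (QuotientGroup.eq_one_iff _).2 (mem_subgroupOf.2 (hcmW x x.2 y y.2))
  have hV2 : ∀ u : Q ⧸ Wq, u * u = 1 := by
    intro u
    obtain ⟨x, rfl⟩ := hπ u
    rw [← map_mul]
    exact (QuotientGroup.eq_one_iff _).2 (mem_subgroupOf.2 (hsqW x x.2))
  -- no element acts like `d` on `W` and trivially on the quotient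
  have hnotriv : ∀ i : ℕ, σ ^ i * δ ≠ 1 := by
    intro i he
    obtain ⟨v, hv⟩ := exists_ne (1 : Q ⧸ Wq)
    obtain ⟨x, rfl⟩ := hπ v
    have h := DFunLike.congr_fun he (π x)
    rw [MulAut.mul_apply, MulAut.one_apply, hδ', hσk] at h
    obtain ⟨w, hw, hwe⟩ := hπeq _ _ h.symm
    change s ^ i * (d * (x : G) * d⁻¹) * (s ^ i)⁻¹ = x * w at hwe
    have h2 : s ^ i * (d * ((x : G) * x) * d⁻¹) * (s ^ i)⁻¹ = x * x := by
      calc s ^ i * (d * ((x : G) * x) * d⁻¹) * (s ^ i)⁻¹
          = (s ^ i * (d * x * d⁻¹) * (s ^ i)⁻¹) * (s ^ i * (d * x * d⁻¹) * (s ^ i)⁻¹) := by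
            simp [mul_assoc]
        _ = x * (w * x) * w := by rw [hwe]; simp [mul_assoc]
        _ = x * x * (w * w) := by rw [(hWc w hw x (hQT x.2)).eq]; simp [mul_assoc]
        _ = x * x := by rw [hWe w hw, mul_one]
    rw [((hsW _ (conj_mem_of_normalizer hdW (hsqW x x.2))).pow_left i).eq, mul_inv_cancel_right,
      mul_inv_eq_iff_eq_mul] at h2
    exact hv ((QuotientGroup.eq_one_iff x).2 (mem_subgroupOf.2
      (hne_sq x x.2 (hdf _ (hsqW x x.2) h2))))
  obtain ⟨k, hk⟩ : ∃ k, δ ^ 3 ^ k = 1 := by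
    obtain ⟨k, hk⟩ := hd.exists_card_eq
    refine ⟨k, ?_⟩
    rw [Nat.card_zpowers] at hk
    ext v
    obtain ⟨x, rfl⟩ := hπ v
    rw [hδk, MulAut.one_apply]
    congr 1
    refine Subtype.ext ?_
    simp [← hk, pow_orderOf_eq_one]
  have hex' : ∃ k, δ ^ 3 ^ k = 1 := ⟨k, hk⟩
  set m := Nat.find hex' with hm
  have hm1 : δ ^ 3 ^ m = 1 := Nat.find_spec hex'
  have hm2 : 2 ≤ m := by
    by_contra hlt
    rcases (show m = 0 ∨ m = 1 by omega) with e | e
    · rw [e, pow_zero, pow_one] at hm1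
      exact hnotriv 0 (by rw [pow_zero, one_mul, hm1])
    · rw [e, pow_one] at hm1
      rcases order_three_eq hVc hV2 σ δ hστ hσ3 hm1 hσf hdich with h | h | h
      · exact hnotriv 0 (by rw [pow_zero, one_mul, h])
      · exact hnotriv 2 (by rw [h, ← pow_succ, hσ3])
      · exact hnotriv 1 (by rw [h, pow_one, ← pow_two, ← pow_succ', hσ3])
  set τ := δ ^ 3 ^ (m - 1) with hτ
  have hτ1 : τ ≠ 1 := Nat.find_min hex' (show m - 1 < Nat.find hex' by omega)
  have hτ3 : τ ^ 3 = 1 := by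
    rw [hτ, ← pow_mul, ← pow_succ, show m - 1 + 1 = m by omega, hm1]
  have hτf : ∀ v, τ v = v → v = 1 :=
    (hdich τ (hστ.pow_right _) ((Commute.refl δ).pow_right _)).resolve_left hτ1
  set γ := δ ^ 3 ^ (m - 2) with hγ
  have hγ3 : γ ^ 3 = τ := by
    rw [hγ, hτ, ← pow_mul, ← pow_succ, show m - 2 + 1 = m - 1 by omega]
  have h9 := nine_dvd γ (by rw [show (9 : ℕ) = 3 * 3 from rfl, pow_mul, hγ3, hτ3]) (hγ3 ▸ hτf)
  obtain ⟨n, hn⟩ := (hQp.to_quotient Wq).exists_card_eq
  have hn5 : 5 ≤ n := by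
    have h1 := Finite.one_lt_card (α := Q ⧸ Wq)
    rw [hn] at h1 h9
    by_contra hlt
    revert h1 h9
    interval_cases n <;> norm_num
  -- the square map
  let q : Q ⧸ Wq → G := fun v => ((v.out : Q) : G) * (v.out : Q)
  have hq : ∀ x : Q, q (π x) = (x : G) * x := by
    intro x
    obtain ⟨w, hw, hwe⟩ := hπeq x _ (QuotientGroup.out_eq' (π x)).symm
    show ((Quotient.out (π x) : Q) : G) * (Quotient.out (π x) : Q) = _
    rw [hwe]
    calc (x : G) * w * (x * w) = x * (w * x) * w := by simp [mul_assoc]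
      _ = x * x * (w * w) := by rw [(hWc w hw x (hQT x.2)).eq]; simp [mul_assoc]
      _ = x * x := by rw [hWe w hw, mul_one]
  let B : Q ⧸ Wq → Q ⧸ Wq → G := fun u v => ⁅((u.out : Q) : G), ((v.out : Q) : G)⁆
  have hB : ∀ x y : Q, B (π x) (π y) = ⁅(x : G), (y : G)⁆ := by
    intro x y
    obtain ⟨w, hw, hwe⟩ := hπeq x _ (QuotientGroup.out_eq' (π x)).symm
    obtain ⟨w', hw', hwe'⟩ := hπeq y _ (QuotientGroup.out_eq' (π y)).symm
    show ⁅((Quotient.out (π x) : Q) : G), ((Quotient.out (π y) : Q) : G)⁆ = _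
    rw [hwe, hwe']
    have c1 : Commute w ((y : G) * w') := hWc w hw _ (hQT (mul_mem y.2 (hWQ hw')))
    calc ⁅(x : G) * w, (y : G) * w'⁆
        = (x : G) * (w * ((y : G) * w')) * w⁻¹ * (x : G)⁻¹ * ((y : G) * w')⁻¹ := by
          simp [commutatorElement_def, mul_assoc]
      _ = (x : G) * (y : G) * (w' * (x : G)⁻¹) * w'⁻¹ * (y : G)⁻¹ := by
          rw [c1.eq]; simp [mul_assoc]
      _ = ⁅(x : G), (y : G)⁆ := by
          rw [(hWc w' hw' _ (hQT (inv_mem x.2))).eq]; simp [commutatorElement_def, mul_assoc]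
  haveI := Fintype.ofFinite W
  obtain ⟨a, ha, ha1⟩ : ∃ a ∈ W, a ≠ 1 := by
    by_contra hc
    push Not at hc
    have e : W = ⊥ := eq_bot_iff.2 fun w hw => mem_bot.2 (hc w hw)
    rw [e, card_bot] at hW4
    norm_num at hW4
  let Wf : Finset G := (W : Set G).toFinset
  have hWf : ∀ u, u ∈ Wf ↔ u ∈ W := fun u => Set.mem_toFinset
  have hWfc : Wf.card = 4 := by
    rw [← hW4, Nat.card_eq_fintype_card]
    exact Set.toFinset_card _
  refine no_balanced_map (V := Q ⧸ Wq) Wf hWfc ((hWf 1).2 (one_mem W)) ((hWf a).2 ha) ha1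
    (fun u hu w hw => (hWf _).2 (mul_mem ((hWf u).1 hu) ((hWf w).1 hw))) ?_ q ?_ ?_ B ?_ ?_ ?_
    (Nat.card {v // q v = a}) ?_ n hn5 hn
  · intro u hu w hw
    rw [hWf] at hu hw
    unfold sgn
    by_cases hu' : u = 1 ∨ u = a
    · rcases hu' with rfl | rfl
      · simp
      · rw [if_pos (Or.inr rfl), one_mul]
        refine if_congr ⟨?_, ?_⟩ rfl rfl
        · rintro (h | h)
          · exact Or.inr (mul_left_cancel (h.trans (hWe u ha).symm))
          · exact Or.inl (mul_eq_left.1 h)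
        · rintro (rfl | rfl)
          · exact Or.inr (mul_one u)
          · exact Or.inl (hWe w ha)
    · rw [if_neg hu']
      push Not at hu'
      by_cases hw' : w = 1 ∨ w = a
      · rw [if_pos hw', mul_one, if_neg]
        rintro (h | h) <;> rcases hw' with rfl | rfl
        · exact hu'.1 (by simpa using h)
        · exact hu'.2 (mul_right_cancel (h.trans (hWe w ha).symm))
        · exact hu'.2 (by simpa using h)
        · exact hu'.1 (mul_eq_right.1 h)
      · rw [if_neg hw', neg_mul_neg, one_mul, if_pos]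
        push Not at hw'
        by_contra hc
        push Not at hc
        have hne1 : u ≠ w := fun e => hc.1 (e ▸ hWe w hw)
        have hne2 : u * a ≠ w := fun e => hc.2 (by rw [← e, ← mul_assoc, hWe u hu, one_mul])
        have hsub : ({1, a, u, u * a, w} : Finset G) ⊆ Wf := by
          intro z hz
          simp only [Finset.mem_insert, Finset.mem_singleton] at hz
          rcases hz with rfl | rfl | rfl | rfl | rfl
          · exact (hWf _).2 (one_mem W)
          · exact (hWf _).2 ha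
          · exact (hWf _).2 hu
          · exact (hWf _).2 (mul_mem hu ha)
          · exact (hWf _).2 hw
        have hcard := Finset.card_le_card hsub
        have hua1 : u * a ≠ 1 := fun e => hu'.2 (mul_right_cancel (e.trans (hWe a ha).symm))
        have huaa : u * a ≠ a := fun e => hu'.1 (mul_eq_right.1 e)
        have huau : u * a ≠ u := fun e => ha1 (mul_eq_left.1 e)
        rw [Finset.card_insert_of_notMem (by simp [ha1.symm, hu'.1.symm, hua1.symm, hw'.1.symm]),
          Finset.card_insert_of_notMem (by simp [hu'.2.symm, huaa.symm, hw'.2.symm]),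
          Finset.card_insert_of_notMem (by simp [huau.symm, hne1]),
          Finset.card_insert_of_notMem (by simp [hne2]), Finset.card_singleton, hWfc] at hcard
        omega
  · intro v
    obtain ⟨x, rfl⟩ := hπ v
    rw [hq, hWf]
    exact hsqW x x.2
  · intro v
    obtain ⟨x, rfl⟩ := hπ v
    rw [hq]
    exact ⟨fun h => (QuotientGroup.eq_one_iff x).2 (mem_subgroupOf.2 (hne_sq x x.2 h)),
      fun h => hWe _ (mem_subgroupOf.1 ((QuotientGroup.eq_one_iff x).1 h))⟩
  · intro u v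
    obtain ⟨x, rfl⟩ := hπ u
    obtain ⟨y, rfl⟩ := hπ v
    rw [hB, hWf]
    exact hcmW x x.2 y y.2
  · intro u v
    obtain ⟨x, rfl⟩ := hπ u
    obtain ⟨y, rfl⟩ := hπ v
    rw [← map_mul, hq, hq, hq, hB, coe_mul]
    exact hsqmul x x.2 y y.2
  · intro u v z
    obtain ⟨x, rfl⟩ := hπ u
    obtain ⟨y, rfl⟩ := hπ v
    obtain ⟨z, rfl⟩ := hπ z
    rw [← map_mul, hB, hB, hB, coe_mul]
    have hc : Commute ⁅(y : G), (z : G)⁆ (x : G) := hWc _ (hcmW y y.2 z z.2) x (hQT x.2)
    have hc2 : Commute ⁅(x : G), (z : G)⁆ ⁅(y : G), (z : G)⁆ :=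
      hWc _ (hcmW x x.2 z z.2) _ (hQT (hWQ (hcmW y y.2 z z.2)))
    calc ⁅(x : G) * y, (z : G)⁆ = (x : G) * ⁅(y : G), (z : G)⁆ * (x : G)⁻¹ * ⁅(x : G), (z : G)⁆ := by
          simp [commutatorElement_def, mul_assoc]
      _ = ⁅(x : G), (z : G)⁆ * ⁅(y : G), (z : G)⁆ := by rw [← hc.eq, mul_inv_cancel_right, hc2.eq]
  · -- the fibres have equal size
    have hshift : ∀ b, Nat.card {v // q v = b} = Nat.card {v // q v = d * b * d⁻¹} := by
      intro b
      refine Nat.card_congr (δ.toEquiv.subtypeEquiv fun v => ?_)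
      obtain ⟨x, rfl⟩ := hπ v
      show q (π x) = b ↔ q (δ (π x)) = _
      rw [hq, hδ', hq]
      show _ ↔ d * x * d⁻¹ * (d * x * d⁻¹) = _
      rw [show d * (x : G) * d⁻¹ * (d * x * d⁻¹) = d * ((x : G) * x) * d⁻¹ by simp [mul_assoc]]
      exact ⟨fun h => by rw [h], fun h => mul_left_cancel (mul_right_cancel h)⟩
    set b1 := d * a * d⁻¹ with hb1
    set b2 := d * b1 * d⁻¹ with hb2
    have hb1W : b1 ∈ W := conj_mem_of_normalizer hdW ha
    have hb11 : b1 ≠ 1 := fun e => ha1 (conj_eq_one_iff.1 e)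
    have hb2W : b2 ∈ W := conj_mem_of_normalizer hdW hb1W
    have hb21 : b2 ≠ 1 := fun e => hb11 (conj_eq_one_iff.1 e)
    have h01 : a ≠ b1 := fun e => hdgen a ha ha1 e.symm
    have h12 : b1 ≠ b2 := fun e => hdgen b1 hb1W hb11 e.symm
    have h02 : a ≠ b2 := by
      intro e
      have hfix : d * (a * b1) * d⁻¹ = a * b1 := by
        calc d * (a * b1) * d⁻¹ = b1 * b2 := by simp [hb1, hb2, mul_assoc]
          _ = b1 * a := by rw [← e]
          _ = a * b1 := by
              have h := inv_eq_of_mul_eq_one_right (hWe _ (mul_mem hb1W ha))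
              rw [mul_inv_rev, inv_eq_of_mul_eq_one_right (hWe a ha),
                inv_eq_of_mul_eq_one_right (hWe b1 hb1W)] at h
              exact h.symm
      have h1 : a * b1 = 1 := by
        by_contra hc
        exact hdgen _ (mul_mem ha hb1W) hc hfix
      exact h01 (mul_left_cancel ((hWe a ha).trans h1.symm))
    intro b hb hb0
    rw [hWf] at hb
    have hmem : b = a ∨ b = b1 ∨ b = b2 := by
      by_contra hc
      push Not at hc
      have hsub : ({1, a, b1, b2, b} : Finset G) ⊆ Wf := by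
        intro z hz
        simp only [Finset.mem_insert, Finset.mem_singleton] at hz
        rcases hz with rfl | rfl | rfl | rfl | rfl
        · exact (hWf _).2 (one_mem W)
        · exact (hWf _).2 ha
        · exact (hWf _).2 hb1W
        · exact (hWf _).2 hb2W
        · exact (hWf _).2 hb
      have hcard := Finset.card_le_card hsub
      rw [Finset.card_insert_of_notMem (by simp [ha1.symm, hb11.symm, hb21.symm, hb0.symm]),
        Finset.card_insert_of_notMem (by simp [h01, h02, hc.1.symm]),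
        Finset.card_insert_of_notMem (by simp [h12, hc.2.1.symm]),
        Finset.card_insert_of_notMem (by simp [hc.2.2.symm]), Finset.card_singleton, hWfc] at hcard
      omega
    rcases hmem with rfl | rfl | rfl
    · rfl
    · exact (hshift a).symm
    · exact ((hshift a).trans (hshift b1)).symm

/-- Let G be a finite group with C_G(O₂(G)) ≤ O₂(G) containing an element of order 6, and let d be a non-identity 3-element of G normalizing a nontrivial elementary abelian 2-subgroup W with C_W(d) = 1. Then G has an elementary abelian subgroup of order 8. -/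
theorem result {G : Type*} [Group G] [Finite G] (hchar : Subgroup.centralizer (Cfsg.pCore 2 G : Set G) ≤ Cfsg.pCore 2 G) (hsix : ∃ g : G, orderOf g = 6) (d : G) (hd1 : d ≠ 1) (hd : IsPGroup 3 ↥(Subgroup.zpowers d)) (W : Subgroup G) (hW : Cfsg.IsElementaryAbelian 2 W) (hW1 : W ≠ ⊥) (hdW : d ∈ Subgroup.normalizer (W : Set G)) (hfpf : W ⊓ Subgroup.centralizer {d} = ⊥) : ∃ E : Subgroup G, Cfsg.IsElementaryAbelian 2 E ∧ Nat.card E = 8 := by
  classical
  haveI : Fact (Nat.Prime 2) := ⟨Nat.prime_two⟩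
  haveI : Fact (Nat.Prime 3) := ⟨Nat.prime_three⟩
  by_contra hno
  push Not at hno
  -- elementary abelian two-subgroups have order at most four
  have hle4 : ∀ E : Subgroup G, Cfsg.IsElementaryAbelian 2 E → Nat.card E ≤ 4 := by
    intro E hE
    by_contra hlt
    have hp : IsPGroup 2 E := fun x => ⟨1, Subtype.ext (by simpa using hE.2 x x.2)⟩
    obtain ⟨k, hk⟩ := hp.exists_card_eq
    have hk3 : 3 ≤ k := by
      by_contra hk'
      interval_cases k <;> omega
    obtain ⟨H, hH⟩ := Sylow.exists_subgroup_card_pow_prime (G := E) 2 (n := 3)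
      (hk ▸ pow_dvd_pow 2 hk3)
    refine hno (H.map E.subtype) ⟨⟨⟨fun x y => ?_⟩⟩, fun x hx => hE.2 x (map_subtype_le H hx)⟩
      (by rw [card_map_of_injective E.subtype_injective, hH]; rfl)
    have h := congrArg Subtype.val (hE.1.is_comm.comm
      (⟨x, map_subtype_le H x.2⟩ : E) ⟨y, map_subtype_le H y.2⟩)
    exact Subtype.ext h
  have hWsq : ∀ w ∈ W, w * w = 1 := fun w hw => by rw [← pow_two]; exact hW.2 w hw
  have hWcomm : ∀ u ∈ W, ∀ w ∈ W, Commute u w := fun u hu w hw =>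
    congrArg Subtype.val (hW.1.is_comm.comm ⟨u, hu⟩ ⟨w, hw⟩)
  have hdf : ∀ w ∈ W, Commute d w → w = 1 := fun w hw h => by
    have h2 : w ∈ W ⊓ Subgroup.centralizer ({d} : Set G) :=
      mem_inf.2 ⟨hw, mem_centralizer_singleton_iff.2 h.symm.eq⟩
    rwa [hfpf, mem_bot] at h2
  -- adjoining an involution
  have hadj : ∀ (E : Subgroup G), Cfsg.IsElementaryAbelian 2 E → ∀ u : G, u * u = 1 →
      (∀ e ∈ E, Commute u e) → 4 ≤ Nat.card E → u ∈ E := by
    intro E hE u hu hc h4
    have hEn : ∀ x ∈ zpowers u, x ∈ Subgroup.normalizer (E : Set G) := fun x hx =>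
      zpowers_le.2 (mem_normalizer_of_conj_mem fun e he => by
        rw [(hc e he).eq, mul_inv_cancel_right]; exact he) hx
    have hmem : ∀ x ∈ E ⊔ zpowers u, ∃ e ∈ E, ∃ i : ℤ, x = e * u ^ i := by
      intro x hx
      rw [← SetLike.mem_coe, coe_mul_of_right_le_normalizer_left E (zpowers u) hEn] at hx
      obtain ⟨e, he, y, hy, rfl⟩ := hx
      obtain ⟨i, rfl⟩ := mem_zpowers_iff.1 hy
      exact ⟨e, he, i, rfl⟩
    have hel : Cfsg.IsElementaryAbelian 2 (E ⊔ zpowers u) := by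
      refine ⟨⟨⟨fun x y => Subtype.ext ?_⟩⟩, fun x hx => ?_⟩
      · obtain ⟨e, he, i, hxe⟩ := hmem x x.2
        obtain ⟨f, hf, j, hyf⟩ := hmem y y.2
        show (x : G) * y = y * x
        rw [hxe, hyf]
        have c1 : Commute e f := congrArg Subtype.val (hE.1.is_comm.comm ⟨e, he⟩ ⟨f, hf⟩)
        exact ((c1.mul_right (((hc e he).zpow_left j).symm)).mul_left
          (((hc f hf).zpow_left i).mul_right ((Commute.refl u).zpow_zpow i j))).eq
      · obtain ⟨e, he, i, rfl⟩ := hmem x hx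
        rw [(((hc e he).zpow_left i).symm).mul_pow, hE.2 e he, one_mul, ← zpow_natCast, zpow_comm,
          zpow_natCast, pow_two, hu, one_zpow]
    by_contra hu'
    have h2 := hle4 _ hel
    have h3 : Nat.card E < Nat.card (E ⊔ zpowers u : Subgroup G) :=
      lt_of_le_of_ne (card_le_of_le le_sup_left) fun e =>
        hu' ((eq_of_le_of_card_ge le_sup_left e.ge).ge (mem_sup_right (mem_zpowers u)))
    omega
  -- `W` is a four-group
  have hW4 : Nat.card W = 4 := by
    obtain ⟨k, hk⟩ := (show IsPGroup 2 W from fun x => ⟨1, Subtype.ext (by simpa using hW.2 x x.2)⟩).exists_card_eq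
    have := hle4 W hW
    have hk0 : k ≠ 0 := by
      rintro rfl
      exact hW1 (Subgroup.card_eq_one.1 hk)
    have hk1 : k ≠ 1 := by
      rintro rfl
      obtain ⟨a, ha, ha1⟩ := (W.bot_or_exists_ne_one).resolve_left hW1
      have hb := conj_mem_of_normalizer hdW ha
      haveI := Fintype.ofFinite W
      have h2 : ({(⟨a, ha⟩ : W), 1} : Finset W) = Finset.univ := by
        refine Finset.eq_univ_of_card _ ?_
        rw [Finset.card_pair (fun e => ha1 (congrArg Subtype.val e)), ← Nat.card_eq_fintype_card, hk]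
        rfl
      have h3 : (⟨d * a * d⁻¹, hb⟩ : W) ∈ ({(⟨a, ha⟩ : W), 1} : Finset W) := h2 ▸ Finset.mem_univ _
      rw [Finset.mem_insert, Finset.mem_singleton] at h3
      rcases h3 with h3 | h3
      · exact ha1 (hdf a ha (mul_inv_eq_iff_eq_mul.1 (congrArg Subtype.val h3)))
      · exact ha1 (conj_eq_one_iff.1 (congrArg Subtype.val h3))
    have hk2 : k ≤ 2 := by
      rw [hk] at this
      exact (Nat.pow_le_pow_iff_right (le_refl 2)).1 this
    rw [hk, show k = 2 by omega]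
    rfl
  haveI hTn := Cfsg.pCore_normal 2 G
  set T := Cfsg.pCore 2 G with hT
  have hTp : IsPGroup 2 T := CfsgLib.Solvable.pCore_isPGroup 2
  have hdT : d ∈ Subgroup.normalizer (T : Set G) := by rw [normalizer_eq_top]; exact mem_top d
  -- the centre of `T`
  have hTne : Nontrivial T := by
    rw [nontrivial_iff_ne_bot]
    intro e
    obtain ⟨g, hg⟩ := hsix
    have h : g ∈ (⊥ : Subgroup G) := e ▸ hchar (mem_centralizer_iff.2 fun z hz => by
      rw [show z = 1 from mem_bot.1 (e ▸ hz), one_mul, mul_one])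
    rw [mem_bot.1 h, orderOf_one] at hg
    norm_num at hg
  let Z : Subgroup G :=
    { carrier := {x | x ∈ T ∧ x * x = 1 ∧ ∀ y ∈ T, Commute x y}
      one_mem' := ⟨one_mem T, one_mul 1, fun y _ => Commute.one_left y⟩
      mul_mem' := fun {x y} hx hy => ⟨mul_mem hx.1 hy.1, by
        calc x * y * (x * y) = x * (y * x) * y := by simp [mul_assoc]
          _ = x * (x * y) * y := by rw [(hx.2.2 y hy.1).eq]
          _ = x * x * (y * y) := by simp [mul_assoc]
          _ = 1 := by rw [hx.2.1, hy.2.1, one_mul],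
        fun z hz => (hx.2.2 z hz).mul_left (hy.2.2 z hz)⟩
      inv_mem' := fun {x} hx => ⟨inv_mem hx.1, by rw [← mul_inv_rev, inv_eq_one]; exact hx.2.1,
        fun z hz => (hx.2.2 z hz).inv_left⟩ }
  have hZconj : ∀ g : G, ∀ x ∈ Z, g * x * g⁻¹ ∈ Z := fun g x hx =>
    ⟨hTn.conj_mem x hx.1 g, by
      rw [show g * x * g⁻¹ * (g * x * g⁻¹) = g * (x * x) * g⁻¹ by simp [mul_assoc], hx.2.1, mul_one,
        mul_inv_cancel], fun y hy => by
      have h := (hx.2.2 (g⁻¹ * y * g) (by simpa using hTn.conj_mem y hy g⁻¹)).map (MulAut.conj g).toMonoidHom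
      simpa [mul_assoc] using h⟩
  obtain ⟨z, hz, hz1⟩ : ∃ z ∈ Z, z ≠ 1 := by
    haveI := hTp.center_nontrivial
    obtain ⟨k, hk⟩ := (hTp.to_subgroup (Subgroup.center T)).exists_card_eq
    have hk0 : k ≠ 0 := by
      rintro rfl
      exact (Finite.one_lt_card (α := Subgroup.center T)).ne' hk
    obtain ⟨x, hx⟩ := exists_prime_orderOf_dvd_card' (G := Subgroup.center T) 2 (hk ▸ dvd_pow_self 2 hk0)
    refine ⟨((x : T) : G), ⟨(x : T).2, ?_, fun y hy => ?_⟩, fun e => ?_⟩
    · have h := pow_orderOf_eq_one x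
      rw [hx, pow_two] at h
      exact congrArg (fun w : Subgroup.center T => ((w : T) : G)) h
    · exact (congrArg Subtype.val (mem_center_iff.1 x.2 ⟨y, hy⟩)).symm
    · rw [orderOf_eq_one_iff.2 (Subtype.ext (Subtype.ext e))] at hx
      exact absurd hx (by norm_num)
  -- `W ≤ T`
  have hWT : W ≤ T := by
    by_contra hWT
    have hint : ∀ w ∈ W, w ∈ T → w = 1 := by
      intro w hw hwT
      by_contra hw1
      refine hWT ?_
      have hle : W ⊓ T ≤ W := inf_le_left
      refine (eq_of_le_of_card_ge hle ?_).ge.trans inf_le_right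
      rw [hW4]
      have hd4 := card_dvd_of_le hle
      rw [hW4] at hd4
      have h3 : 3 ≤ Nat.card (W ⊓ T : Subgroup G) := by
        haveI := Fintype.ofFinite (W ⊓ T : Subgroup G)
        rw [Nat.card_eq_fintype_card]
        refine Fintype.two_lt_card_iff.2 ⟨1, ⟨w, mem_inf.2 ⟨hw, hwT⟩⟩,
          ⟨d * w * d⁻¹, mem_inf.2 ⟨conj_mem_of_normalizer hdW hw, hTn.conj_mem w hwT d⟩⟩, ?_, ?_, ?_⟩
        · exact fun e => hw1 (congrArg Subtype.val e).symm
        · exact fun e => hw1 (conj_eq_one_iff.1 (congrArg Subtype.val e).symm)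
        · exact fun e => hw1 (hdf w hw (mul_inv_eq_iff_eq_mul.1 (congrArg Subtype.val e).symm))
      have := Nat.le_of_dvd (by norm_num) hd4
      rcases (show Nat.card (W ⊓ T : Subgroup G) = 3 ∨ Nat.card (W ⊓ T : Subgroup G) = 4 by omega) with e | e
      · rw [e] at hd4; norm_num at hd4
      · rw [e]
    -- a fixed point of `W` on `Z`
    have hWp : IsPGroup 2 W := fun x => ⟨1, Subtype.ext (by simpa using hW.2 x x.2)⟩
    letI : MulAction W Z :=
      { smul := fun w x => ⟨(w : G) * x * (w : G)⁻¹, hZconj _ _ x.2⟩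
        one_smul := fun x => Subtype.ext (by show ((1 : W) : G) * x * ((1 : W) : G)⁻¹ = x; simp)
        mul_smul := fun u w x => Subtype.ext (by
          show ((u * w : W) : G) * x * ((u * w : W) : G)⁻¹ = u * ((w : G) * x * (w : G)⁻¹) * (u : G)⁻¹
          simp [mul_assoc]) }
    have hdvd : 2 ∣ Nat.card Z := by
      have ho : orderOf (⟨z, hz⟩ : Z) = 2 := by
        rw [Subgroup.orderOf_mk]
        exact orderOf_eq_prime (by rw [pow_two]; exact hz.2.1) hz1
      exact ho ▸ orderOf_dvd_natCard _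
    obtain ⟨⟨u, hu⟩, hufix, hu1⟩ := hWp.exists_fixed_point_of_prime_dvd_card_of_fixed_point Z hdvd
      (a := (1 : Z)) (fun w => Subtype.ext (by show (w : G) * ((1 : Z) : G) * (w : G)⁻¹ = _; simp))
    refine hu1 (Subtype.ext ?_)
    show (1 : G) = u
    refine (hint u (hadj W hW u hu.2.1 (fun w hw => ?_) hW4.ge) hu.1).symm
    exact (mul_inv_eq_iff_eq_mul.1 (congrArg Subtype.val (hufix ⟨w, hw⟩))).symm
  -- `W` is central in `T`
  have hzW : z ∈ W := hadj W hW z hz.2.1 (fun w hw => hz.2.2 w (hWT hw)) hW4.ge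
  have hWZ : W ≤ Z := by
    intro w hw
    have hle : W ⊓ Z ≤ W := inf_le_left
    refine ((eq_of_le_of_card_ge hle ?_).ge hw).2
    rw [hW4]
    have hd4 := card_dvd_of_le hle
    rw [hW4] at hd4
    have h3 : 3 ≤ Nat.card (W ⊓ Z : Subgroup G) := by
      haveI := Fintype.ofFinite (W ⊓ Z : Subgroup G)
      rw [Nat.card_eq_fintype_card]
      refine Fintype.two_lt_card_iff.2 ⟨1, ⟨z, mem_inf.2 ⟨hzW, hz⟩⟩,
        ⟨d * z * d⁻¹, mem_inf.2 ⟨conj_mem_of_normalizer hdW hzW, hZconj d z hz⟩⟩, ?_, ?_, ?_⟩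
      · exact fun e => hz1 (congrArg Subtype.val e).symm
      · exact fun e => hz1 (conj_eq_one_iff.1 (congrArg Subtype.val e).symm)
      · exact fun e => hz1 (hdf z hzW (mul_inv_eq_iff_eq_mul.1 (congrArg Subtype.val e).symm))
    have := Nat.le_of_dvd (by norm_num) hd4
    rcases (show Nat.card (W ⊓ Z : Subgroup G) = 3 ∨ Nat.card (W ⊓ Z : Subgroup G) = 4 by omega) with e | e
    · rw [e] at hd4; norm_num at hd4
    · rw [e]
  have hWc : ∀ w ∈ W, ∀ x ∈ T, Commute w x := fun w hw => (hWZ hw).2.2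
  have hinv : ∀ x ∈ T, x * x = 1 → x ∈ W := fun x hx hxx =>
    hadj W hW x hxx (fun w hw => (hWc w hw x hx).symm) hW4.ge
  have hWn : W.Normal := ⟨fun w hw g => hinv _ (hTn.conj_mem w (hWT hw) g) (by
    rw [show g * w * g⁻¹ * (g * w * g⁻¹) = g * (w * w) * g⁻¹ by simp [mul_assoc], hWsq w hw, mul_one,
      mul_inv_cancel])⟩
  -- an element of order three centralizing `W`
  set C := Subgroup.centralizer (W : Set G) with hC
  obtain ⟨g, hg⟩ := hsix
  set t := g ^ 3 with ht
  set s₀ := g ^ 2 with hs₀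
  have ht2 : t * t = 1 := by rw [ht, ← pow_add, ← pow_orderOf_eq_one g, hg]
  have ht1 : t ≠ 1 := fun e => absurd (Nat.le_of_dvd (by norm_num) (hg ▸ orderOf_dvd_of_pow_eq_one e))
    (by norm_num)
  have hts : Commute t s₀ := (Commute.refl g).pow_pow 3 2
  have hs03 : orderOf s₀ = 3 := orderOf_eq_prime (by rw [hs₀, ← pow_mul, ← pow_orderOf_eq_one g, hg])
    fun e => absurd (Nat.le_of_dvd (by norm_num) (hg ▸ orderOf_dvd_of_pow_eq_one e)) (by norm_num)
  have h3W : ∀ u ∈ W, u ≠ 1 → Commute s₀ u → s₀ ∈ C := by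
    intro u hu hu1 hc
    refine mem_centralizer_iff.2 fun w hw => ?_
    by_contra hne
    set f : G → G := fun x => s₀ * x * s₀⁻¹ with hf
    have hfW : ∀ x ∈ W, f x ∈ W := fun x hx => hWn.conj_mem x hx s₀
    have hinj : Function.Injective f := fun x y h => mul_left_cancel (mul_right_cancel h)
    have hfix : ∀ x, f x = x ↔ Commute s₀ x := fun x => mul_inv_eq_iff_eq_mul
    have hw1 : ¬ f w = w := fun e => hne ((hfix w).1 e).symm.eq
    have hwu : ¬ f w = u := fun e => hw1 (by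
      rw [e, hinj (e.trans ((hfix u).2 hc).symm)])
    have hw0 : f w ≠ 1 := fun e => hw1 (by
      rw [e, conj_eq_one_iff.1 e])
    have hff : ¬ f (f w) = f w := fun e => hw1 (hinj e)
    have hffu : ¬ f (f w) = u := fun e => hwu (hinj (e.trans ((hfix u).2 hc).symm))
    have hff0 : f (f w) ≠ 1 := fun e => hw0 (conj_eq_one_iff.1 e)
    have hffw : ¬ f (f w) = w := by
      intro e
      refine hw1 ?_
      have h3 : f (f (f w)) = w := by
        show s₀ * (s₀ * (s₀ * w * s₀⁻¹) * s₀⁻¹) * s₀⁻¹ = w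
        have h := pow_orderOf_eq_one s₀
        rw [hs03] at h
        calc s₀ * (s₀ * (s₀ * w * s₀⁻¹) * s₀⁻¹) * s₀⁻¹ = s₀ ^ 3 * w * (s₀ ^ 3)⁻¹ := by
              simp [pow_succ, mul_assoc]
          _ = w := by simp [h]
      rwa [e] at h3
    have hw01 : w ≠ 1 := fun e => hne (by rw [e, one_mul, mul_one])
    have hwu' : w ≠ u := fun e => hne (e ▸ hc.symm.eq)
    haveI := Fintype.ofFinite W
    have hsub : ({(1 : G), u, w, f w, f (f w)} : Finset G) ⊆ (W : Set G).toFinset := by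
      intro x hx
      simp only [Finset.mem_insert, Finset.mem_singleton] at hx
      rw [Set.mem_toFinset]
      rcases hx with rfl | rfl | rfl | rfl | rfl
      · exact one_mem W
      · exact hu
      · exact hw
      · exact hfW _ hw
      · exact hfW _ (hfW _ hw)
    have hcard := Finset.card_le_card hsub
    rw [Finset.card_insert_of_notMem (by simp [hu1.symm, hw01.symm, hw0.symm, hff0.symm]),
      Finset.card_insert_of_notMem (by simp [hwu'.symm, Ne.symm hwu, Ne.symm hffu]),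
      Finset.card_insert_of_notMem (by simp [Ne.symm hw1, Ne.symm hffw]),
      Finset.card_insert_of_notMem (by simp [Ne.symm hff]), Finset.card_singleton,
      Set.toFinset_card] at hcard
    have h4' : Fintype.card (W : Set G) = 4 := by rw [← hW4, Nat.card_eq_fintype_card]; rfl
    omega
  have hs0C : s₀ ∈ C := by
    by_cases htW : t ∈ W
    · exact h3W t htW ht1 hts.symm
    have hnc : ¬ ∀ w ∈ W, Commute t w := fun h => htW (hadj W hW t ht2 h hW4.ge)
    push Not at hnc
    obtain ⟨a, ha, hta⟩ := hnc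
    have hb : t * a * t⁻¹ ∈ W := hWn.conj_mem a ha t
    set b := t * a * t⁻¹ with hb'
    have hab : a * b ≠ 1 := fun e => hta (mul_inv_eq_iff_eq_mul.1
      (mul_left_cancel (e.trans (hWsq a ha).symm)))
    have htinv : t⁻¹ = t := inv_eq_of_mul_eq_one_right ht2
    have htab : Commute t (a * b) := by
      refine mul_inv_eq_iff_eq_mul.1 ?_
      calc t * (a * b) * t⁻¹ = b * (t * t * a * (t⁻¹ * t⁻¹)) := by simp [hb', mul_assoc]
        _ = a * b := by rw [htinv, ht2, one_mul, mul_one, (hWcomm b hb a ha).eq]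
    refine h3W (a * b) (mul_mem ha hb) hab ?_
    -- `a * b` is the only involution of `W` fixed by `t`
    have hfixt : Commute t (s₀ * (a * b) * s₀⁻¹) :=
      (hts.mul_right htab).mul_right hts.inv_right
    have hmem := hWn.conj_mem _ (mul_mem ha hb) s₀
    refine mul_inv_eq_iff_eq_mul.1 ?_
    by_contra hne
    haveI := Fintype.ofFinite W
    set c := s₀ * (a * b) * s₀⁻¹ with hc
    have hc1 : c ≠ 1 := fun e => hab (conj_eq_one_iff.1 e)
    have hca : c ≠ a := fun e => hta (e ▸ hfixt)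
    have htb : ¬ Commute t b := fun h => hta (by
      have e : t * b * t⁻¹ = a := by
        calc t * b * t⁻¹ = t * t * a * (t⁻¹ * t⁻¹) := by simp [hb', mul_assoc]
          _ = a := by rw [htinv, ht2, one_mul, mul_one]
      rw [h.eq, mul_inv_cancel_right] at e
      rwa [e] at h)
    have hcb : c ≠ b := fun e => htb (e ▸ hfixt)
    have hba : a ≠ b := fun e => hta (mul_inv_eq_iff_eq_mul.1 e.symm)
    have hab_a : a * b ≠ a := fun e => htb (by rw [mul_eq_left.1 e]; exact Commute.one_right t)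
    have hab_b : a * b ≠ b := fun e => hta (by rw [mul_eq_right.1 e]; exact Commute.one_right t)
    have ha1 : a ≠ 1 := fun e => hta (e ▸ Commute.one_right t)
    have hb1 : b ≠ 1 := fun e => ha1 (conj_eq_one_iff.1 e)
    have hsub : ({(1 : G), a, b, a * b, c} : Finset G) ⊆ (W : Set G).toFinset := by
      intro x hx
      simp only [Finset.mem_insert, Finset.mem_singleton] at hx
      rw [Set.mem_toFinset]
      rcases hx with rfl | rfl | rfl | rfl | rfl
      · exact one_mem W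
      · exact ha
      · exact hb
      · exact mul_mem ha hb
      · exact hmem
    have hcard := Finset.card_le_card hsub
    rw [Finset.card_insert_of_notMem (by simp [ha1.symm, hb1.symm, hab.symm, hc1.symm]),
      Finset.card_insert_of_notMem (by simp [hba, hab_a.symm, hca.symm]),
      Finset.card_insert_of_notMem (by simp [hab_b.symm, hcb.symm]),
      Finset.card_insert_of_notMem (by simp [Ne.symm hne]), Finset.card_singleton,
      Set.toFinset_card] at hcard
    have h4' : Fintype.card (W : Set G) = 4 := by rw [← hW4, Nat.card_eq_fintype_card]; rfl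
    omega
  -- a central element of order three of a Sylow subgroup
  haveI hCn : C.Normal := inferInstance
  obtain ⟨R, hR⟩ := hd.exists_le_sylow
  have hdR : d ∈ (R : Subgroup G) := hR (mem_zpowers d)
  have hRC : (R : Subgroup G) ⊓ C ≠ ⊥ := by
    intro e
    have hp0 : IsPGroup 3 (zpowers s₀) :=
      IsPGroup.of_card (n := 1) (by rw [Nat.card_zpowers, hs03, pow_one])
    obtain ⟨R', hR'⟩ := hp0.exists_le_sylow
    obtain ⟨c, hc⟩ := MulAction.exists_smul_eq G R' R
    have h1 : c * s₀ * c⁻¹ ∈ (R : Subgroup G) ⊓ C := mem_inf.2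
      ⟨hc ▸ smul_mem_pointwise_smul _ (MulAut.conj c) _ (hR' (mem_zpowers s₀)), hCn.conj_mem _ hs0C c⟩
    rw [e, mem_bot, conj_eq_one_iff] at h1
    rw [h1, orderOf_one] at hs03
    norm_num at hs03
  set N := ((R : Subgroup G) ⊓ C).subgroupOf (R : Subgroup G) with hN
  haveI : N.Normal := by
    refine ⟨fun x hx r => ?_⟩
    rw [hN, mem_subgroupOf] at hx ⊢
    exact mem_inf.2 ⟨(r * x * r⁻¹).2, hCn.conj_mem _ (mem_inf.1 hx).2 (r : G)⟩
  haveI : Group.IsNilpotent (R : Subgroup G) := R.isPGroup'.isNilpotent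
  have hNne : N ≠ ⊥ := by
    rw [hN, Ne, subgroupOf_eq_bot, disjoint_iff, inf_assoc, inf_comm C, ← inf_assoc, inf_idem]
    exact hRC
  have hZR := CfsgLib.Solvable.normal_inf_center_ne_bot N hNne
  obtain ⟨k, hk⟩ := (R.isPGroup'.to_subgroup (N ⊓ Subgroup.center (R : Subgroup G))).exists_card_eq
  have hk0 : k ≠ 0 := by
    rintro rfl
    exact hZR (Subgroup.card_eq_one.1 hk)
  obtain ⟨x, hx⟩ := exists_prime_orderOf_dvd_card'
    (G := (N ⊓ Subgroup.center (R : Subgroup G) : Subgroup (R : Subgroup G))) 3 (hk ▸ dvd_pow_self 3 hk0)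
  set s : G := (((x : (R : Subgroup G))) : G) with hs
  have hso : orderOf s = 3 := by
    rw [hs, orderOf_submonoid, orderOf_submonoid, hx]
  have hsd : Commute s d :=
    (congrArg Subtype.val (mem_center_iff.1 (mem_inf.1 x.2).2 ⟨d, hdR⟩)).symm
  have hsC : s ∈ C := (mem_inf.1 (mem_subgroupOf.1 (mem_inf.1 x.2).1)).2
  have hsW : ∀ w ∈ W, Commute s w := fun w hw => (mem_centralizer_iff.1 hsC w hw).symm
  have hfin := core W T hTp hW4 hWsq hWc hinv s d hsd (by rw [← hso]; exact pow_orderOf_eq_one s) hd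
    (by rw [normalizer_eq_top]; exact mem_top s) hdT hdW hsW hdf
  obtain ⟨j, hj⟩ := hTp ⟨s, hchar (mem_centralizer_iff.2 fun y hy => (hfin y hy).symm.eq)⟩
  have h2 : s ^ 2 ^ j = 1 := congrArg Subtype.val hj
  have h3 := (Nat.prime_three).dvd_of_dvd_pow (hso ▸ orderOf_dvd_of_pow_eq_one h2 : 3 ∣ 2 ^ j)
  norm_num at h3

end Cfsg.Agent.S3739
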