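import Cfsg.Statements.S3741
import Mathlib.Tactic
import Cfsg.Agent.Lib.Solvable.Nilpotent


set_option autoImplicit false
open Cfsg

namespace Cfsg.Agent.S3741

open scoped commutatorElement

/-- Let A and B be subgroups of a finite p-group with [A, B] ≤ A ∩ B and [A, B] of order at most p. Then |A : C_A(B)| = |B : C_B(A)|. -/
theorem result {G : Type*} [Group G] [Finite G] {p : ℕ} [Fact p.Prime] (hG : IsPGroup p G) (A B : Subgroup G) (hAB : ⁅A, B⁆ ≤ A ⊓ B) (hcard : Nat.card ↥⁅A, B⁆ ≤ p) : (A ⊓ Subgroup.centralizer (B : Set G)).relIndex A = (B ⊓ Subgroup.centralizer (A : Set G)).relIndex B := by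
  classical
  have := Fintype.ofFinite G
  have hp := (Fact.out : p.Prime)
  let C : Subgroup G := ⁅A, B⁆
  let P₀ : Subgroup G := A ⊔ B
  have hnorm : P₀ ≤ Subgroup.normalizer (C : Set G) :=
    sup_le (Subgroup.normalizer_commutator_ge_left A B) (Subgroup.normalizer_commutator_ge_right A B)
  have hCle : C ≤ P₀ := hAB.trans (inf_le_left.trans le_sup_left)
  have hcen : ∀ c ∈ C, ∀ x ∈ P₀, x * c = c * x := by
    intro c hc x hx
    by_cases hc1 : C = ⊥
    · rw [hc1, Subgroup.mem_bot] at hc; rw [hc, one_mul, mul_one]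
    have hN : (C.subgroupOf P₀).Normal :=
      (Subgroup.normal_subgroupOf_iff_le_normalizer hCle).mpr hnorm
    have hP₀ : IsPGroup p P₀ := hG.to_subgroup _
    have := hP₀.isNilpotent
    have hne : Nontrivial (C.subgroupOf P₀) := by
      rw [Subgroup.nontrivial_iff_ne_bot, ne_eq, Subgroup.subgroupOf_eq_bot, disjoint_iff,
        inf_eq_left.mpr hCle]
      exact hc1
    obtain ⟨z, hz, hz1⟩ := SetLike.exists_of_lt (bot_lt_iff_ne_bot.mpr
      (CfsgLib.Solvable.normal_inf_center_ne_bot (hNn := hN) (G := P₀) (C.subgroupOf P₀)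
        (by rwa [← Subgroup.nontrivial_iff_ne_bot])))
    obtain ⟨hzC, hzZ⟩ := Subgroup.mem_inf.mp hz
    have hzC' : (z : G) ∈ C := hzC
    have hzne : (z : G) ≠ 1 := fun h => hz1 (Subgroup.mem_bot.mpr (Subtype.ext h))
    have hzp : Subgroup.zpowers (z : G) = C := by
      refine Subgroup.eq_of_le_of_card_ge (Subgroup.zpowers_le.mpr hzC') (hcard.trans ?_)
      obtain ⟨j, hj⟩ := (IsPGroup.iff_orderOf.mp hG) (z : G)
      rw [Nat.card_zpowers, hj]
      refine Nat.le_self_pow (fun h => hzne ?_) p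
      rw [h, pow_zero] at hj; exact orderOf_eq_one_iff.mp hj
    rw [← hzp] at hc
    obtain ⟨k, rfl⟩ := Subgroup.mem_zpowers_iff.mp hc
    have h1 : Commute (z : G) x := (congrArg Subtype.val (Subgroup.mem_center_iff.mp hzZ ⟨x, hx⟩)).symm
    exact (h1.zpow_left k).eq.symm
  -- size of the partners
  have key : ∀ {U V : Subgroup G}, U ≤ P₀ → V ≤ P₀ → (∀ u ∈ U, ∀ v ∈ V, ⁅u, v⁆ ∈ C) →
      ∀ u ∈ U, u ∉ Subgroup.centralizer (V : Set G) →
      p * Nat.card ↥(V ⊓ Subgroup.centralizer ({u} : Set G)) = Nat.card V := by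
    intro U V hU hV hcomm u hu hnc
    let f : V →* C :=
      { toFun := fun v => ⟨⁅u, (v : G)⁆, hcomm u hu v v.2⟩
        map_one' := Subtype.ext (by simp)
        map_mul' := fun v w => Subtype.ext (by
          show ⁅u, (v : G) * w⁆ = ⁅u, (v : G)⁆ * ⁅u, (w : G)⁆
          have hc := hcen _ (hcomm u hu w w.2) (v : G) (hV v.2)
          calc ⁅u, (v : G) * w⁆ = ⁅u, (v : G)⁆ * ((v : G) * ⁅u, (w : G)⁆ * (v : G)⁻¹) := by
                simp only [commutatorElement_def]; group
            _ = _ := by rw [hc, mul_inv_cancel_right]) }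
    have hker : f.ker.map V.subtype = V ⊓ Subgroup.centralizer ({u} : Set G) := by
      ext v
      constructor
      · rintro ⟨v, hv, rfl⟩
        refine Subgroup.mem_inf.mpr ⟨v.2, Subgroup.mem_centralizer_singleton_iff.mpr ?_⟩
        exact (commutatorElement_eq_one_iff_mul_comm.mp
          (congrArg Subtype.val (MonoidHom.mem_ker.mp hv))).symm
      · intro hv
        obtain ⟨h1, h2⟩ := Subgroup.mem_inf.mp hv
        exact ⟨⟨v, h1⟩, MonoidHom.mem_ker.mpr (Subtype.ext (commutatorElement_eq_one_iff_mul_comm.mpr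
          (Subgroup.mem_centralizer_singleton_iff.mp h2).symm)), rfl⟩
    have h1 := f.ker.card_mul_index
    rw [Subgroup.index_ker, ← Subgroup.card_map_of_injective V.subtype_injective, hker] at h1
    have hpg : IsPGroup p f.range := (hG.to_subgroup C).to_subgroup _
    obtain ⟨j, hj⟩ := IsPGroup.iff_card.mp hpg
    have hle : p ^ j ≤ p := hj ▸ (Subgroup.card_le_card_group _).trans hcard
    have hj1 : 1 ≤ j := by
      by_contra hj0
      apply hnc
      rw [Subgroup.mem_centralizer_iff]
      intro v hv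
      have h2 : f ⟨v, hv⟩ = 1 := by
        have h3 : f.range = ⊥ := Subgroup.card_eq_one.mp (by rw [hj, show j = 0 by omega, pow_zero])
        exact Subgroup.mem_bot.mp (h3 ▸ ⟨⟨v, hv⟩, rfl⟩)
      exact (commutatorElement_eq_one_iff_mul_comm.mp (congrArg Subtype.val h2)).symm
    have hjle : j ≤ 1 := by
      by_contra h
      exact absurd hle (not_le.mpr (by
        calc p = p ^ 1 := (pow_one p).symm
          _ < p ^ j := Nat.pow_lt_pow_right hp.one_lt (by omega)))
    rw [hj, show j = 1 by omega, pow_one] at h1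
    rw [mul_comm]; exact h1
  let sA : Finset G := Finset.univ.filter (· ∈ A)
  let sB : Finset G := Finset.univ.filter (· ∈ B)
  let pairs (U V : Subgroup G) : ℕ := ∑ u ∈ Finset.univ.filter (· ∈ U),
    (Finset.univ.filter (fun v => v ∈ V ∧ u * v = v * u)).card
  have hcount : ∀ {U V : Subgroup G}, U ≤ P₀ → V ≤ P₀ → (∀ u ∈ U, ∀ v ∈ V, ⁅u, v⁆ ∈ C) →
      p * pairs U V = (p - 1) * (Nat.card ↥(U ⊓ Subgroup.centralizer (V : Set G)) * Nat.card V)
        + Nat.card U * Nat.card V := by
    intro U V hU hV hcomm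
    let U₀ := U ⊓ Subgroup.centralizer (V : Set G)
    show p * (∑ u ∈ Finset.univ.filter (· ∈ U),
      (Finset.univ.filter (fun v => v ∈ V ∧ u * v = v * u)).card) = _
    rw [Finset.mul_sum]
    have hterm : ∀ u ∈ Finset.univ.filter (· ∈ U),
        p * (Finset.univ.filter (fun v => v ∈ V ∧ u * v = v * u)).card
          = Nat.card V + if u ∈ U₀ then (p - 1) * Nat.card V else 0 := by
      intro u hu
      have hu' : u ∈ U := (Finset.mem_filter.mp hu).2
      have hc : (Finset.univ.filter (fun v => v ∈ V ∧ u * v = v * u)).card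
          = Nat.card ↥(V ⊓ Subgroup.centralizer ({u} : Set G)) := by
        rw [Nat.card_eq_fintype_card, Fintype.card_subtype]
        congr 1
        ext v
        simp only [Finset.mem_filter, Finset.mem_univ, true_and, Subgroup.mem_inf,
          Subgroup.mem_centralizer_singleton_iff]
        exact and_congr_right fun _ => eq_comm
      rw [hc]
      by_cases h0 : u ∈ U₀
      · rw [if_pos h0]
        have : V ⊓ Subgroup.centralizer ({u} : Set G) = V := inf_eq_left.mpr fun v hv =>
          Subgroup.mem_centralizer_singleton_iff.mpr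
            (Subgroup.mem_centralizer_iff.mp (Subgroup.mem_inf.mp h0).2 v hv)
        rw [this]
        obtain ⟨q, hq⟩ : ∃ q, p = q + 1 := ⟨p - 1, by have := hp.pos; omega⟩
        rw [hq, Nat.add_sub_cancel]; ring
      · rw [if_neg h0, add_zero]
        exact key hU hV hcomm u hu' fun h => h0 (Subgroup.mem_inf.mpr ⟨hu', h⟩)
    rw [Finset.sum_congr rfl hterm, Finset.sum_add_distrib, Finset.sum_const, ← Finset.sum_filter,
      Finset.sum_const, Finset.filter_filter, smul_eq_mul, smul_eq_mul,
      ← Fintype.card_subtype, ← Fintype.card_subtype, ← Nat.card_eq_fintype_card,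
      ← Nat.card_eq_fintype_card]
    have : Nat.card {x : G // x ∈ U ∧ x ∈ U₀} = Nat.card ↥U₀ :=
      Nat.card_congr (Equiv.subtypeEquivRight fun x =>
        ⟨fun h => h.2, fun h => ⟨(Subgroup.mem_inf.mp h).1, h⟩⟩)
    rw [this]; ring
  have hsymm : pairs A B = pairs B A := by
    simp only [pairs, Finset.card_filter]
    rw [Finset.sum_filter, Finset.sum_filter]
    have : ∀ (U V : Subgroup G), (∑ u, if u ∈ U then ∑ v, (if v ∈ V ∧ u * v = v * u then 1 else 0) else 0)
        = ∑ u, ∑ v, (if u ∈ U ∧ v ∈ V ∧ u * v = v * u then 1 else 0 : ℕ) := fun U V => by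
      refine Finset.sum_congr rfl fun u _ => ?_
      by_cases h : u ∈ U <;> simp [h]
    rw [this A B, this B A, Finset.sum_comm]
    refine Finset.sum_congr rfl fun b _ => Finset.sum_congr rfl fun a _ => ?_
    exact if_congr ⟨fun ⟨h1, h2, h3⟩ => ⟨h2, h1, h3.symm⟩, fun ⟨h1, h2, h3⟩ => ⟨h2, h1, h3.symm⟩⟩ rfl rfl
  have eA := hcount (U := A) (V := B) le_sup_left le_sup_right
    (fun u hu v hv => Subgroup.commutator_mem_commutator hu hv)
  have eB := hcount (U := B) (V := A) le_sup_right le_sup_left (fun u hu v hv => by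
    rw [← commutatorElement_inv]; exact inv_mem (Subgroup.commutator_mem_commutator hv hu))
  rw [hsymm, eB, mul_comm (Nat.card B) (Nat.card A), add_left_inj] at eA
  have hp1 : 0 < p - 1 := by have := hp.one_lt; omega
  have e := Nat.eq_of_mul_eq_mul_left hp1 eA
  let A₀ := A ⊓ Subgroup.centralizer (B : Set G)
  let B₀ := B ⊓ Subgroup.centralizer (A : Set G)
  have ia : Nat.card A₀ * A₀.relIndex A = Nat.card A := by
    rw [← Subgroup.relIndex_bot_left, ← Subgroup.relIndex_bot_left A]
    exact Subgroup.relIndex_mul_relIndex ⊥ A₀ A bot_le inf_le_left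
  have ib : Nat.card B₀ * B₀.relIndex B = Nat.card B := by
    rw [← Subgroup.relIndex_bot_left, ← Subgroup.relIndex_bot_left B]
    exact Subgroup.relIndex_mul_relIndex ⊥ B₀ B bot_le inf_le_left
  show A₀.relIndex A = B₀.relIndex B
  have hpos : 0 < Nat.card A₀ * Nat.card B₀ := Nat.mul_pos Nat.card_pos Nat.card_pos
  apply Nat.eq_of_mul_eq_mul_left hpos
  calc Nat.card A₀ * Nat.card B₀ * A₀.relIndex A = Nat.card B₀ * Nat.card A := by rw [← ia]; ring
    _ = Nat.card A₀ * Nat.card B := e
    _ = _ := by rw [← ib]; ring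

end Cfsg.Agent.S3741
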