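import Cfsg.Statements.S3742
import Mathlib


set_option autoImplicit false
open Cfsg

namespace Cfsg.Agent.S3742

open QuaternionGroup

abbrev Q := QuaternionGroup 2

/-- Images of the two standard generators. -/
abbrev Gens := {p : Q × Q // p.1 * p.1 ≠ 1 ∧ p.2 * p.2 ≠ 1 ∧ p.1 * p.2 ≠ p.2 * p.1}

/-- The map with given images of the generators. -/
def g (p : Q × Q) : Q → Q
  | a i => p.1 ^ i.val
  | xa i => p.2 * p.1 ^ i.val

/-- The four body diagonals of the cube with vertices `(±i, ±j, ±k)`. -/
def vert : Fin 4 → Q × Q × Q :=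
  ![(a 1, xa 0, xa 3), (a 1, xa 0, xa 1), (a 1, xa 2, xa 3), (a 1, xa 2, xa 1)]

/-- Whether an element occurs in a vertex. -/
def occ (q : Q) (t : Q × Q × Q) : Bool :=
  decide (t.1 = q) || decide (t.2.1 = q) || decide (t.2.2 = q)

/-- The diagonal through a vertex. -/
def idx (t : Q × Q × Q) : Fin 4 :=
  match occ (a 1) t != occ (xa 0) t, occ (a 1) t != occ (xa 3) t with
  | false, false => 0
  | false, true => 1
  | true, false => 2
  | true, true => 3

/-- The permutation of the diagonals. -/
def ψ (p : Q × Q) (d : Fin 4) : Fin 4 :=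
  idx (g p (vert d).1, g p (vert d).2.1, g p (vert d).2.2)

theorem g_mul : ∀ p : Gens, ∀ x y : Q, g p.1 (x * y) = g p.1 x * g p.1 y := by decide +kernel

theorem g_inj : ∀ p : Gens, ∀ x y : Q, g p.1 x = g p.1 y → x = y := by decide +kernel

theorem ψ_comp : ∀ p q : Gens, ∀ d : Fin 4,
    ψ (g p.1 q.1.1, g p.1 q.1.2) d = ψ p.1 (ψ q.1 d) := by decide +kernel

theorem ψ_one : ∀ d : Fin 4, ψ (a 1, xa 0) d = d := by decide +kernel

theorem ψ_inj : ∀ p q : Gens, (∀ d : Fin 4, ψ p.1 d = ψ q.1 d) → p = q := by decide +kernel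

theorem card_gens : Fintype.card Gens = 24 := by decide +kernel

/-- Generator images of an automorphism. -/
def gens (f : MulAut Q) : Gens := ⟨(f (a 1), f (xa 0)), by
  refine ⟨fun h => ?_, fun h => ?_, fun h => ?_⟩
  · exact absurd (f.injective ((map_mul f _ _).trans (h.trans (map_one f).symm))) (by decide)
  · exact absurd (f.injective ((map_mul f _ _).trans (h.trans (map_one f).symm))) (by decide)
  · exact absurd (f.injective ((map_mul f _ _).trans (h.trans (map_mul f _ _).symm))) (by decide)⟩

theorem apply_eq (f : MulAut Q) : ∀ x, f x = g (gens f).1 x := by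
  have ha : ∀ i : ZMod (2 * 2), (a 1 : Q) ^ i.val = a i := by decide +kernel
  have hx : ∀ i : ZMod (2 * 2), (xa 0 : Q) * a i = xa i := by decide +kernel
  rintro (i | i)
  · show f (a i) = f (a 1) ^ i.val
    rw [← map_pow, ha]
  · show f (xa i) = f (xa 0) * f (a 1) ^ i.val
    rw [← map_pow, ha, ← map_mul, hx]

theorem ψ_mul (f h : MulAut Q) (d : Fin 4) :
    ψ (gens (f * h)).1 d = ψ (gens f).1 (ψ (gens h).1 d) := by
  rw [← ψ_comp, ← apply_eq f, ← apply_eq f]
  rfl

theorem ψ_id (d : Fin 4) : ψ (gens 1).1 d = d := ψ_one d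

/-- The action on diagonals. -/
def diagHom : MulAut Q →* Equiv.Perm (Fin 4) where
  toFun f := ⟨ψ (gens f).1, ψ (gens f⁻¹).1,
    fun d => by rw [← ψ_mul, inv_mul_cancel, ψ_id],
    fun d => by rw [← ψ_mul, mul_inv_cancel, ψ_id]⟩
  map_one' := Equiv.ext ψ_id
  map_mul' f h := Equiv.ext (ψ_mul f h)


/-- The automorphism group of the quaternion group of order 8 is isomorphic to the symmetric group of degree 4. -/
theorem result : Nonempty (MulAut (QuaternionGroup 2) ≃* Equiv.Perm (Fin 4)) := by
  have hinj : Function.Injective diagHom := fun f h e => by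
    have := ψ_inj (gens f) (gens h) fun d => congrFun (congrArg DFunLike.coe e) d
    exact MulEquiv.ext fun x => by rw [apply_eq f, apply_eq h, this]
  have hsurj : Function.Surjective gens := by
    intro p
    let f : Q →* Q := MonoidHom.mk' (g p.1) (g_mul p)
    have hf : Function.Bijective f := Finite.injective_iff_bijective.1 (g_inj p)
    refine ⟨MulEquiv.ofBijective f hf, Subtype.ext (Prod.ext ?_ ?_)⟩
    · show p.1.1 ^ (1 : ZMod (2 * 2)).val = p.1.1
      exact pow_one _
    · show p.1.2 * p.1.1 ^ (0 : ZMod (2 * 2)).val = p.1.2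
      simp
  have : Finite (MulAut Q) := Finite.of_injective diagHom hinj
  refine ⟨MulEquiv.ofBijective diagHom ((Nat.bijective_iff_injective_and_card _).2
    ⟨hinj, le_antisymm (Nat.card_le_card_of_injective _ hinj) ?_⟩)⟩
  refine le_trans ?_ (Nat.card_le_card_of_surjective _ hsurj)
  rw [Nat.card_eq_fintype_card, Nat.card_eq_fintype_card, card_gens, Fintype.card_perm, Fintype.card_fin]
  decide

end Cfsg.Agent.S3742
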