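import Cfsg.Statements.S3743
import Mathlib.Tactic
import Cfsg.Agent.Lib.Comp.Subnormal


set_option autoImplicit false
open Cfsg

namespace Cfsg.Agent.S3743

/-- In a finite group G, every subnormal nilpotent subgroup lies in the Fitting subgroup F(G), and, for a set of primes π, every subnormal subgroup all of whose prime divisors lie in π lies in O_π(G). -/
theorem result {G : Type*} [Group G] [Finite G] (A : Subgroup G) (hA : A.IsSubnormal) : (Group.IsNilpotent A → A ≤ Cfsg.fittingSubgroup G) ∧ ∀ π : Set ℕ, (∀ p : ℕ, p.Prime → p ∣ Nat.card A → p ∈ π) → A ≤ Cfsg.piCore π G := by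
  refine ⟨fun h => CfsgLib.Comp.le_fittingSubgroup_of_isSubnormal hA h, fun π hπ => ?_⟩
  obtain ⟨N, hN, hAN, hNπ⟩ := CfsgLib.Comp.exists_normal_of_isSubnormal
    (fun B : Subgroup G => ∀ p : ℕ, p.Prime → p ∣ Nat.card B → p ∈ π)
    (fun p hp hd => by rw [Subgroup.card_bot] at hd; exact absurd hd hp.not_dvd_one)
    (fun B g hB p hp hd => hB p hp
      (by rwa [Subgroup.card_map_of_injective (MulAut.conj g).injective] at hd))
    (fun B C _ hBC hB hC p hp hd =>
      (hp.dvd_mul.mp (hd.trans (CfsgLib.Comp.card_sup_dvd_mul hBC))).elim (hB p hp) (hC p hp))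
    hA hπ
  exact hAN.trans (le_sSup ⟨hN, hNπ⟩)

end Cfsg.Agent.S3743
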