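import Cfsg.Statements.S3746
import Cfsg.Agent.Lib.Comp.Quasisimple
import Cfsg.Agent.Lib.Comp.Subnormal


set_option autoImplicit false
open Cfsg

namespace Cfsg.Agent.S3746

/-- Let Z ≤ Z(G) be a central subgroup of a finite group G and E a subgroup of G containing Z whose image E/Z is a component of G/Z (subnormal and quasisimple). Then the derived subgroup [E, E] is a component of G. -/
theorem result {G : Type*} [Group G] [Finite G] (Z : Subgroup G) (hZ : Z ≤ Subgroup.center G) [Z.Normal] (E : Subgroup G) (hZE : Z ≤ E) (hE : Cfsg.IsComponent (E.map (QuotientGroup.mk' Z))) : Cfsg.IsComponent ⁅E, E⁆ := by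
  have hEn := hE
  obtain ⟨hsub, hq⟩ := hEn
  have hEsub : E.IsSubnormal := by
    have := hsub.comap (QuotientGroup.mk' Z)
    rwa [Subgroup.comap_map_eq, QuotientGroup.ker_mk', sup_eq_left.mpr hZE] at this
  have hperf : ⁅E.map (QuotientGroup.mk' Z), E.map (QuotientGroup.mk' Z)⁆ = E.map (QuotientGroup.mk' Z) :=
    Subgroup.isPerfect_iff.1 hq.1
  have hmap : (⁅E, E⁆).map (QuotientGroup.mk' Z) = E.map (QuotientGroup.mk' Z) := by
    rw [Subgroup.map_commutator, hperf]
  have hle : ⁅E, E⁆ ≤ E := Subgroup.commutator_le_self E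
  have hEK : E = ⁅E, E⁆ ⊔ Z := by
    refine le_antisymm ?_ (sup_le hle hZE)
    intro x hx
    have := Subgroup.mem_map_of_mem (QuotientGroup.mk' Z) hx
    rw [← hmap, ← Subgroup.mem_comap, Subgroup.comap_map_eq, QuotientGroup.ker_mk'] at this
    exact this
  have hKperf : ⁅⁅E, E⁆, ⁅E, E⁆⁆ = ⁅E, E⁆ := by
    refine le_antisymm (Subgroup.commutator_le_self _) ?_
    have := CfsgLib.Comp.commutator_sup_central (A := ⁅E, E⁆) hZ
    rwa [← hEK] at this
  have hKsub : (⁅E, E⁆).IsSubnormal := by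
    refine CfsgLib.Comp.isSubnormal_of_le_normalizer hle hEsub ?_
    intro e he
    rw [Subgroup.mem_normalizer_iff]
    intro x
    have hmapc : (⁅E, E⁆).map (MulAut.conj e).toMonoidHom = ⁅E, E⁆ := by
      rw [Subgroup.map_commutator]
      have : E.map (MulAut.conj e).toMonoidHom = E := by
        ext y
        constructor
        · rintro ⟨w, hw, rfl⟩
          exact E.mul_mem (E.mul_mem he hw) (E.inv_mem he)
        · intro hy
          exact ⟨e⁻¹ * y * e, E.mul_mem (E.mul_mem (E.inv_mem he) hy) he, by simp [mul_assoc]⟩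
      rw [this]
    constructor
    · intro hx
      rw [← hmapc]
      exact ⟨x, hx, rfl⟩
    · intro hx
      rw [← hmapc] at hx
      obtain ⟨w, hw, hwx⟩ := hx
      have : w = x := (MulAut.conj e).injective hwx
      exact this ▸ hw
  refine ⟨hKsub, ?_⟩
  have : Group.IsPerfect ↥⁅E, E⁆ := Subgroup.isPerfect_iff.2 hKperf
  let f : ↥⁅E, E⁆ →* ↥(E.map (QuotientGroup.mk' Z)) :=
    ((QuotientGroup.mk' Z).comp (⁅E, E⁆).subtype).codRestrict _ fun x => Subgroup.mem_map_of_mem _ (hle x.2)
  have hf : Function.Surjective f := by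
    rintro ⟨y, hy⟩
    rw [← hmap] at hy
    obtain ⟨x, hx, rfl⟩ := hy
    exact ⟨⟨x, hx⟩, rfl⟩
  have hker : f.ker ≤ Subgroup.center ↥⁅E, E⁆ := by
    intro x hx
    have h1 : (x : G) ∈ Z := (QuotientGroup.eq_one_iff (x : G)).mp (congrArg Subtype.val hx :)
    exact Subgroup.mem_center_iff.mpr fun y => Subtype.ext (Subgroup.mem_center_iff.mp (hZ h1) y)
  exact CfsgLib.Comp.isQuasisimple_of_central_extension hker
    (CfsgLib.Comp.isQuasisimple_congr (QuotientGroup.quotientKerEquivOfSurjective f hf).symm hq)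

end Cfsg.Agent.S3746
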