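import Cfsg.Statements.S3747
import Cfsg.Agent.Lib.Comp.Components
import Cfsg.Agent.Lib.Comp.FStar
import Cfsg.Agent.Lib.Comp.Quasisimple
import Cfsg.Agent.Lib.Comp.Normalize


set_option autoImplicit false
open Cfsg

namespace Cfsg.Agent.S3747

/-- Let G be a finite group. (a) If K is a component of G with trivial centre, then the normal closure of K in G is a minimal normal subgroup of G. (b) If the Fitting subgroup of G is trivial, then the layer E(G) is generated by the minimal normal subgroups of G. -/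
theorem result {G : Type*} [Group G] [Finite G] : (∀ K : Subgroup G, Cfsg.IsComponent K → Subgroup.center ↥K = ⊥ → (Subgroup.normalClosure (K : Set G) ≠ ⊥ ∧ ∀ N : Subgroup G, N.Normal → N ≤ Subgroup.normalClosure (K : Set G) → N = ⊥ ∨ N = Subgroup.normalClosure (K : Set G))) ∧ (Cfsg.fittingSubgroup G = ⊥ → sSup {N : Subgroup G | N ≠ ⊥ ∧ N.Normal ∧ ∀ N' : Subgroup G, N'.Normal → N' ≤ N → N' = ⊥ ∨ N' = N} = Cfsg.layer G) := by
  classical
  have hne : ∀ K : Subgroup G, Cfsg.IsComponent K → Subgroup.normalClosure (K : Set G) ≠ ⊥ :=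
    fun K hK h => CfsgLib.Comp.ne_bot_of_isComponent hK (le_bot_iff.mp (h ▸ Subgroup.subset_normalClosure))
  have hmin : ∀ K : Subgroup G, Cfsg.IsComponent K → Subgroup.center ↥K = ⊥ →
      ∀ N : Subgroup G, N.Normal → N ≤ Subgroup.normalClosure (K : Set G) →
        N = ⊥ ∨ N = Subgroup.normalClosure (K : Set G) := by
    intro K hK hZ N hN hle
    let S : Finset (Subgroup G) := (Set.toFinite {L : Subgroup G | ∃ g : G, L = K.map (MulAut.conj g).toMonoidHom}).toFinset
    have hS : ∀ L ∈ S, ∃ g : G, L = K.map (MulAut.conj g).toMonoidHom := fun L hL => by simpa [S] using hL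
    have hScomp : ∀ L ∈ S, Cfsg.IsComponent L := fun L hL => by
      obtain ⟨g, rfl⟩ := hS L hL
      exact CfsgLib.Comp.isComponent_map_conj hK g
    by_cases hex : ∃ L ∈ S, L ≤ N
    · obtain ⟨L, hL, hLN⟩ := hex
      obtain ⟨g, rfl⟩ := hS L hL
      refine Or.inr (le_antisymm hle ?_)
      refine Subgroup.normalClosure_le_normal fun k hk => ?_
      have := hN.conj_mem _ (hLN (Subgroup.mem_map_of_mem _ hk)) g⁻¹
      simpa [mul_assoc] using this
    · push Not at hex
      left
      have hcent : ∀ L ∈ S, N ≤ Subgroup.centralizer (L : Set G) := fun L hL =>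
        Subgroup.le_centralizer_iff.mp
          ((CfsgLib.Comp.component_le_or_le_centralizer (hScomp L hL) hN.isSubnormal).resolve_left (hex L hL))
      have hclo : Subgroup.normalClosure (K : Set G) ≤ S.sup id := by
        refine (Subgroup.closure_le _).mpr ?_
        intro x hx
        obtain ⟨k, hk, hc⟩ := Group.mem_conjugatesOfSet_iff.mp hx
        obtain ⟨g, rfl⟩ := isConj_iff.mp hc
        exact Finset.le_sup (f := id) (show K.map (MulAut.conj g).toMonoidHom ∈ S from
          (Set.Finite.mem_toFinset _).mpr ⟨g, rfl⟩) (Subgroup.mem_map_of_mem _ hk)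
      refine eq_bot_iff.mpr fun x hx => ?_
      have h1 := CfsgLib.Comp.mem_sup_of_pairwise_commute (S := S)
        (fun A hA B hB hAB => (CfsgLib.Comp.component_eq_or_le_centralizer (hScomp A hA) (hScomp B hB)).resolve_left hAB)
        (∅ : Set (Subgroup G)) (hclo (hle hx)) (fun A hA _ => hcent A hA hx)
      refine SetLike.le_def.mp (sSup_le ?_) h1
      rintro A (⟨-, h⟩ | ⟨B, hB, rfl⟩)
      · exact absurd h (Set.notMem_empty _)
      · obtain ⟨g, rfl⟩ := hS B hB
        intro y hy
        obtain ⟨⟨k, hk, rfl⟩, hc⟩ := hy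
        have hkc : (⟨k, hk⟩ : K) ∈ Subgroup.center ↥K := Subgroup.mem_center_iff.mpr fun z => Subtype.ext (by
          have := Subgroup.mem_centralizer_iff.mp hc _ (Subgroup.mem_map_of_mem _ z.2)
          rw [← map_mul, ← map_mul] at this
          exact (MulAut.conj g).injective this)
        rw [hZ, Subgroup.mem_bot] at hkc
        rw [Subgroup.mem_bot, show k = 1 from congrArg Subtype.val hkc, map_one]
  refine ⟨fun K hK hZ => ⟨hne K hK, hmin K hK hZ⟩, fun hF => ?_⟩
  have htriv : ∀ R : Subgroup G, R.IsSubnormal → Group.IsSolvable R → R = ⊥ := by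
    intro R hR hs
    rw [← le_bot_iff, ← hF]
    refine CfsgLib.Comp.le_fittingSubgroup_of_isSolvable hR hs ?_
    rw [hF]
    intro x _
    exact Subgroup.mem_centralizer_iff.mpr fun y hy => by
      rw [SetLike.mem_coe, Subgroup.mem_bot] at hy
      rw [hy, one_mul, mul_one]
  have hcentre : ∀ K : Subgroup G, Cfsg.IsComponent K → Subgroup.center ↥K = ⊥ := by
    intro K hK
    refine eq_bot_iff.mpr fun z hz => ?_
    have h : (z : G) ∈ K ⊓ Subgroup.centralizer (K : Set G) :=
      ⟨z.2, Subgroup.mem_centralizer_iff.mpr fun y hy => congrArg Subtype.val (Subgroup.mem_center_iff.mp hz ⟨y, hy⟩)⟩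
    have h2 := CfsgLib.Comp.component_inf_centralizer_le_fittingSubgroup hK h
    rw [hF, Subgroup.mem_bot] at h2
    exact Subgroup.mem_bot.mpr (Subtype.ext h2)
  apply le_antisymm
  · refine sSup_le ?_
    rintro N ⟨hN0, hN, hNmin⟩
    obtain ⟨K, hK, hKN⟩ := CfsgLib.Comp.exists_component_le (D := N) hN.isSubnormal
      (fun R hR _ hs => by rw [htriv R hR hs]; exact bot_le)
      (fun hs => hN0 (htriv N hN.isSubnormal hs))
    rcases hNmin _ Subgroup.normalClosure_normal (Subgroup.normalClosure_le_normal hKN) with h | h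
    · exact absurd h (hne K hK)
    · rw [← h]
      have := CfsgLib.Comp.layer_normal G
      exact Subgroup.normalClosure_le_normal (CfsgLib.Comp.le_layer hK)
  · refine sSup_le fun K hK => ?_
    refine le_trans (fun x hx => Subgroup.subset_normalClosure hx :
      K ≤ Subgroup.normalClosure (K : Set G)) (le_sSup ?_)
    exact ⟨hne K hK, Subgroup.normalClosure_normal, hmin K hK (hcentre K hK)⟩

end Cfsg.Agent.S3747
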