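import Cfsg.Statements.S3748
import Mathlib.Tactic
import Cfsg.Agent.Lib.Coprime.SubnormalMax
import Cfsg.Agent.Lib.Solvable.Nilpotent


set_option autoImplicit false
open Cfsg

namespace Cfsg.Agent.S3748

/-- Call a proper subgroup M of G primitive when M = N_G(N) for every non-trivial normal subgroup N of M. If M is a primitive subgroup of the finite group G, then no non-trivial subnormal subgroup of G is contained in M; in particular M ∩ F(G) = 1. -/
theorem result {G : Type*} [Group G] [Finite G] (M : Subgroup G) (hM : M ≠ ⊤) (hprim : ∀ N : Subgroup G, N ≤ M → M ≤ Subgroup.normalizer (N : Set G) → N ≠ ⊥ → Subgroup.normalizer (N : Set G) = M) : (∀ L : Subgroup G, L.IsSubnormal → L ≤ M → L = ⊥) ∧ M ⊓ Cfsg.fittingSubgroup G = ⊥ := by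
  have key : ∀ L : Subgroup G, L.IsSubnormal → L ≤ M → L = ⊥ := by
    intro L hL hLM
    obtain ⟨K, hLK, hKM, hMK, hnle⟩ := CfsgLib.Coprime.exists_normalizer_not_le hM hL hLM
    rw [eq_bot_iff]
    by_contra hne
    exact hnle (hprim K hKM hMK fun h => hne (h ▸ hLK)).le
  refine ⟨key, key _ ?_ inf_le_left⟩
  have := CfsgLib.Comp.isNilpotent_fittingSubgroup G
  have hF : (Cfsg.fittingSubgroup G).Normal := CfsgLib.Comp.fittingSubgroup_normal G
  have h1 := (CfsgLib.Solvable.isSubnormal_of_isNilpotent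
    ((M ⊓ Cfsg.fittingSubgroup G).subgroupOf (Cfsg.fittingSubgroup G))).trans'
    hF.isSubnormal
  rwa [Subgroup.subgroupOf_map_subtype, inf_eq_left.mpr inf_le_right] at h1

end Cfsg.Agent.S3748
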