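import Cfsg.Statements.S3749
import Mathlib.Tactic
import Cfsg.Agent.Lib.Coprime.Sylow
import Cfsg.Agent.Lib.Comp.Subnormal


set_option autoImplicit false
open Cfsg

namespace Cfsg.Agent.S3749

/-- Call a proper subgroup M of G primitive when M = N_G(N) for every non-trivial normal subgroup N of M. Let M be a primitive subgroup of the finite group G, p a prime with O_p(M) ≠ 1, and N a normal subgroup of G with M ∩ N = 1. Then p does not divide the order of N; for every prime q there is exactly one Sylow q-subgroup of N normalized by M; and if the order of N has at least two prime divisors then M is not a maximal subgroup of G. -/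
theorem result {G : Type*} [Group G] [Finite G] (M : Subgroup G) (hM : M ≠ ⊤) (hprim : ∀ N : Subgroup G, N ≤ M → M ≤ Subgroup.normalizer (N : Set G) → N ≠ ⊥ → Subgroup.normalizer (N : Set G) = M) {p : ℕ} [Fact p.Prime] (hOp : Cfsg.pCore p ↥M ≠ ⊥) (N : Subgroup G) [N.Normal] (hMN : M ⊓ N = ⊥) : ¬ p ∣ Nat.card N ∧ (∀ q : ℕ, [Fact q.Prime] → ∃! Q : Sylow q ↥N, M ≤ Subgroup.normalizer ((Q : Subgroup ↥N).map N.subtype : Set G)) ∧ ((∃ q r : ℕ, q.Prime ∧ r.Prime ∧ q ≠ r ∧ q ∣ Nat.card N ∧ r ∣ Nat.card N) → ¬ IsCoatom M) := by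
  open CfsgLib.Coprime in
  let P : Subgroup G := (Cfsg.pCore p ↥M).map M.subtype
  have hPp : IsPGroup p P := (CfsgLib.Comp.isPGroup_pCore p ↥M).map _
  have hPn : (Cfsg.pCore p ↥M).Normal := Subgroup.sSup_normal _ fun _ h => h.1
  have hP1 : P ≠ ⊥ := fun h =>
    hOp ((Subgroup.map_eq_bot_iff_of_injective _ M.subtype_injective).mp h)
  have hPM : P ≤ M := Subgroup.map_subtype_le _
  have hMnP : M ≤ Subgroup.normalizer (P : Set G) := by
    intro m hm
    rw [CfsgLib.Coprime.mem_normalizer_iff_map_conj]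
    have := congrArg (Subgroup.map M.subtype)
      (CfsgLib.Coprime.map_conj_of_mem_normalizer (N := Cfsg.pCore p ↥M)
        (g := ⟨m, hm⟩) ((Subgroup.normalizer_eq_top (Cfsg.pCore p ↥M)).symm ▸ Subgroup.mem_top _))
    rw [CfsgLib.Coprime.map_conj_map] at this
    exact this
  have hNP : Subgroup.normalizer (P : Set G) = M := hprim P hPM hMnP hP1
  have hCN : N ⊓ Subgroup.centralizer (P : Set G) = ⊥ := by
    rw [eq_bot_iff, ← hMN]
    intro x hx
    obtain ⟨hxN, hxC⟩ := Subgroup.mem_inf.mp hx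
    exact Subgroup.mem_inf.mpr ⟨hNP ▸ Subgroup.centralizer_le_normalizer _ hxC, hxN⟩
  have hAN : P ≤ Subgroup.normalizer (N : Set G) :=
    (Subgroup.normalizer_eq_top N).symm ▸ le_top
  have hpN : ¬ p ∣ Nat.card N := by
    intro hd
    let act : MulAction P N :=
      { smul := fun a n => ⟨(a : G) * n * (a : G)⁻¹, ‹N.Normal›.conj_mem n n.2 a⟩
        one_smul := fun n => Subtype.ext (by show (1 : G) * n * (1 : G)⁻¹ = n; simp)
        mul_smul := fun a b n => Subtype.ext (by
          show ((a : G) * b) * n * ((a : G) * b)⁻¹ = (a : G) * ((b : G) * n * (b : G)⁻¹) * (a : G)⁻¹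
          group) }
    have h1 : (1 : N) ∈ MulAction.fixedPoints P N := fun a => Subtype.ext (by
      show (a : G) * 1 * (a : G)⁻¹ = 1
      simp)
    obtain ⟨n, hn, hne⟩ := hPp.exists_fixed_point_of_prime_dvd_card_of_fixed_point (α := N) hd h1
    apply hne
    apply Subtype.ext
    have hnc : (n : G) ∈ N ⊓ Subgroup.centralizer (P : Set G) := by
      refine Subgroup.mem_inf.mpr ⟨n.2, Subgroup.mem_centralizer_iff.mpr fun a ha => ?_⟩
      have h2 : a * (n : G) * a⁻¹ = n := congrArg Subtype.val (hn ⟨a, ha⟩)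
      calc a * (n : G) = a * n * a⁻¹ * a := by group
        _ = n * a := by rw [h2]
    rw [hCN, Subgroup.mem_bot] at hnc
    exact hnc.symm
  have hcop : (Nat.card P).Coprime (Nat.card N) := by
    obtain ⟨k, hk⟩ := IsPGroup.iff_card.mp hPp
    rw [hk]
    exact Nat.Coprime.pow_left k ((Fact.out : p.Prime).coprime_iff_not_dvd.mpr hpN)
  have hsol : Group.IsSolvable P := by
    have := hPp.isNilpotent
    infer_instance
  have huniq : ∀ (q : ℕ) [Fact q.Prime] (Q₁ Q₂ : Sylow q ↥N),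
      P ≤ Subgroup.normalizer ((Q₁ : Subgroup ↥N).map N.subtype : Set G) →
      P ≤ Subgroup.normalizer ((Q₂ : Subgroup ↥N).map N.subtype : Set G) →
      (Q₁ : Subgroup ↥N).map N.subtype = (Q₂ : Subgroup ↥N).map N.subtype := by
    intro q _ Q₁ Q₂ h₁ h₂
    obtain ⟨c, hc, he⟩ :=
      CfsgLib.Coprime.exists_conj_invariant_sylow hAN hcop (Or.inl hsol) Q₁ Q₂ h₁ h₂
    rw [hCN, Subgroup.mem_bot] at hc
    subst hc
    rw [← he]
    ext y; simp
  have hex : ∀ q : ℕ, [Fact q.Prime] → ∃! Q : Sylow q ↥N,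
      M ≤ Subgroup.normalizer ((Q : Subgroup ↥N).map N.subtype : Set G) := by
    intro q _
    obtain ⟨Q, hQ⟩ := CfsgLib.Coprime.exists_invariant_sylow hAN hcop (Or.inl hsol) q
    refine ⟨Q, ?_, fun Q' hQ' => Sylow.ext (Subgroup.map_injective N.subtype_injective
      (huniq q Q' Q (hPM.trans hQ') hQ))⟩
    intro m hm
    rw [CfsgLib.Coprime.mem_normalizer_iff_map_conj]
    let Qg : Subgroup G := ((Q : Subgroup ↥N).map N.subtype).map (MulAut.conj m).toMonoidHom
    have hle : Qg ≤ N := by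
      rintro _ ⟨_, ⟨x, hx, rfl⟩, rfl⟩
      exact ‹N.Normal›.conj_mem x x.2 m
    have hcardQ : Nat.card (Qg.subgroupOf N) = q ^ (Nat.card N).factorization q := by
      rw [CfsgLib.Coprime.card_subgroupOf hle, CfsgLib.Coprime.card_map_conj,
        Subgroup.card_map_of_injective N.subtype_injective, Q.card_eq_multiplicity]
    have hinv : P ≤ Subgroup.normalizer ((Qg : Subgroup G) : Set G) := by
      rw [← CfsgLib.Coprime.map_conj_of_mem_normalizer (hMnP hm), ← Subgroup.map_equiv_normalizer_eq]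
      exact Subgroup.map_mono hQ
    have h := huniq q (Sylow.ofCard _ hcardQ) Q
      (by rw [Sylow.coe_ofCard, Subgroup.subgroupOf_map_subtype, inf_eq_left.mpr hle]; exact hinv) hQ
    rw [Sylow.coe_ofCard, Subgroup.subgroupOf_map_subtype, inf_eq_left.mpr hle] at h
    exact h
  refine ⟨hpN, hex, ?_⟩
  rintro ⟨q, r, hq, hr, hqr, hqN, hrN⟩ hmax
  have := Fact.mk hq
  obtain ⟨Q, hQ, -⟩ := hex q
  let Qg : Subgroup G := (Q : Subgroup ↥N).map N.subtype
  have hlt : M < M ⊔ Qg := by
    refine lt_of_le_of_ne le_sup_left fun h => Q.ne_bot_of_dvd_card hqN ?_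
    rw [← Subgroup.map_eq_bot_iff_of_injective _ N.subtype_injective, eq_bot_iff, ← hMN]
    exact le_inf (h ▸ le_sup_right) (Subgroup.map_subtype_le _)
  have htop := hmax.2 _ hlt
  have hNQ : N ≤ Qg := by
    intro n hn
    have h1 : n ∈ Qg ⊔ M := by rw [sup_comm, htop]; exact Subgroup.mem_top n
    obtain ⟨x, hx, m, hm, rfl⟩ := (CfsgLib.Coprime.mem_sup_of_le_normalizer hQ).mp h1
    have h2 : m ∈ M ⊓ N := Subgroup.mem_inf.mpr ⟨hm, by
      have := mul_mem (inv_mem (Subgroup.map_subtype_le _ hx : x ∈ N)) hn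
      rwa [inv_mul_cancel_left] at this⟩
    rw [hMN, Subgroup.mem_bot] at h2
    subst h2
    rw [mul_one]; exact hx
  obtain ⟨k, hk⟩ := IsPGroup.iff_card.mp Q.isPGroup'
  have h3 : r ∣ q ^ k := by
    rw [← hk, ← Subgroup.card_map_of_injective N.subtype_injective]
    exact hrN.trans (Subgroup.card_dvd_of_le hNQ)
  exact hqr ((Nat.prime_dvd_prime_iff_eq hr hq).mp (hr.dvd_of_dvd_pow h3)).symm

end Cfsg.Agent.S3749
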