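import Cfsg.Statements.S3750
import Cfsg.Agent.Lib.Comp.FStar
-- import your own Cfsg.Agent.* helpers here

set_option autoImplicit false
set_option linter.style.haveILetI false
open Cfsg

namespace Cfsg.Agent.S3750

/-- Call a proper subgroup M of G primitive when M = N_G(N) for every non-trivial normal subgroup N of M. Let M be a primitive subgroup of the finite group G and N a normal subgroup of G with M ∩ F*(N) ≠ 1. Then F(G) = 1 and F*(N) = F*(G) = E(G); in particular every minimal normal subgroup of G is contained in N. -/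
theorem result {G : Type*} [Group G] [Finite G] (M : Subgroup G) (hM : M ≠ ⊤) (hprim : ∀ N : Subgroup G, N ≤ M → M ≤ Subgroup.normalizer (N : Set G) → N ≠ ⊥ → Subgroup.normalizer (N : Set G) = M) (N : Subgroup G) [N.Normal] (hMF : M ⊓ (Cfsg.generalizedFittingSubgroup ↥N).map N.subtype ≠ ⊥) : Cfsg.fittingSubgroup G = ⊥ ∧ (Cfsg.generalizedFittingSubgroup ↥N).map N.subtype = Cfsg.generalizedFittingSubgroup G ∧ Cfsg.generalizedFittingSubgroup G = Cfsg.layer G ∧ ∀ K : Subgroup G, K.Normal → K ≠ ⊥ → (∀ K' : Subgroup G, K'.Normal → K' ≤ K → K' = ⊥ ∨ K' = K) → K ≤ N := by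
  set D := M ⊓ (Cfsg.generalizedFittingSubgroup ↥N).map N.subtype
  haveI hgN := CfsgLib.Comp.generalizedFittingSubgroup_normal ↥N
  haveI hchar : ((Cfsg.generalizedFittingSubgroup ↥N).map N.subtype).Normal := by
    rw [CfsgLib.Comp.generalizedFitting_map_subtype (Subgroup.Normal.isSubnormal ‹N.Normal›)]
    haveI := CfsgLib.Comp.generalizedFittingSubgroup_normal G
    exact inferInstance
  have hDM : D ≤ M := inf_le_left
  have hDn : M ≤ Subgroup.normalizer (D : Set G) :=
    CfsgLib.Comp.le_normalizer_inf Subgroup.le_normalizer (CfsgLib.Comp.le_normalizer_of_normal' _ _)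
  have hND := hprim D hDM hDn hMF
  -- no nontrivial normal subgroup of `G` lies in `M`
  have hcore : ∀ X : Subgroup G, X.Normal → X ≤ M → X = ⊥ := by
    intro X hX hXM
    by_contra hne
    have h := hprim X hXM (CfsgLib.Comp.le_normalizer_of_normal' _ _) hne
    rw [Subgroup.normalizer_eq_top_iff.2 hX] at h
    exact hM h.symm
  have hsn : N.IsSubnormal := Subgroup.Normal.isSubnormal ‹_›
  have hDE : ∀ X : Subgroup G, X ≤ Subgroup.centralizer (((Cfsg.generalizedFittingSubgroup ↥N).map N.subtype : Subgroup G) : Set G) → X ≤ M :=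
    fun X hX => (hX.trans (Subgroup.centralizer_le inf_le_right)).trans
      ((CfsgLib.Comp.centralizer_le_normalizer D).trans_eq hND)
  -- the Fitting subgroup is trivial
  have hF : Cfsg.fittingSubgroup G = ⊥ := by
    by_contra hne
    haveI := CfsgLib.Comp.fittingSubgroup_normal G
    haveI := CfsgLib.Comp.isNilpotent_fittingSubgroup G
    haveI := CfsgLib.Comp.layer_normal G
    set Z := (Subgroup.center (Cfsg.fittingSubgroup G)).map (Cfsg.fittingSubgroup G).subtype
    haveI : Z.Normal := inferInstance
    have hZne : Z ≠ ⊥ := by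
      rw [Ne, Subgroup.map_eq_bot_iff_of_injective _ (Cfsg.fittingSubgroup G).subtype_injective]
      haveI : Nontrivial (Cfsg.fittingSubgroup G) := (Subgroup.nontrivial_iff_ne_bot _).2 hne
      exact Group.IsNilpotent.center_ne_bot _
    have hZF : Z ≤ Subgroup.centralizer (Cfsg.fittingSubgroup G : Set G) := by
      rintro _ ⟨z, hz, rfl⟩
      rw [Subgroup.mem_centralizer_iff]
      intro f hf
      exact congrArg Subtype.val (Subgroup.mem_center_iff.1 hz ⟨f, hf⟩)
    have hZE : Z ≤ Subgroup.centralizer (Cfsg.layer G : Set G) :=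
      (Subgroup.map_subtype_le _).trans (CfsgLib.Comp.fittingSubgroup_le_centralizer_layer G)
    refine hZne (hcore Z inferInstance (hDE Z ?_))
    rw [CfsgLib.Comp.generalizedFitting_map_subtype hsn]
    exact (CfsgLib.Comp.le_centralizer_sup hZE hZF).trans (Subgroup.centralizer_le inf_le_left)
  have hFE : Cfsg.generalizedFittingSubgroup G = Cfsg.layer G := by
    rw [Cfsg.generalizedFittingSubgroup, hF, sup_bot_eq]
  -- all components lie in `N`
  have hcomp : ∀ L : Subgroup G, Cfsg.IsComponent L → L ≤ N := by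
    by_contra hcon
    push Not at hcon
    obtain ⟨L, hL, hLN⟩ := hcon
    set S := {K : Subgroup G | Cfsg.IsComponent K ∧ ¬ K ≤ N}
    have hSn : (sSup S).Normal := CfsgLib.Comp.normal_of_top_le_normalizer
      (CfsgLib.Comp.le_normalizer_sSup S fun g _ K hK =>
        ⟨CfsgLib.Comp.isComponent_map_conj hK.1 g, fun h => hK.2 fun x hx => by
          have h1 : g * x * g⁻¹ ∈ N := h ⟨x, hx, rfl⟩
          simpa [mul_assoc] using Subgroup.Normal.conj_mem ‹N.Normal› _ h1 g⁻¹⟩)
    have hS : sSup S ≤ M := sSup_le fun K hK => hDE K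
      (((CfsgLib.Comp.component_le_or_le_centralizer hK.1 hsn).resolve_left hK.2).trans
        (Subgroup.centralizer_le (Subgroup.map_subtype_le _)))
    exact CfsgLib.Comp.ne_bot_of_isComponent hL
      (eq_bot_iff.2 ((le_sSup (show L ∈ S from ⟨hL, hLN⟩)).trans (hcore _ hSn hS).le))
  have hEN : Cfsg.generalizedFittingSubgroup G ≤ N := by rw [hFE]; exact sSup_le hcomp
  refine ⟨hF, ?_, hFE, fun K hK hKne hmin => ?_⟩
  · rw [CfsgLib.Comp.generalizedFitting_map_subtype hsn]
    exact inf_eq_left.2 hEN
  · haveI := hK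
    haveI := CfsgLib.Comp.generalizedFittingSubgroup_normal G
    rcases hmin (K ⊓ Cfsg.generalizedFittingSubgroup G) inferInstance inf_le_left with h | h
    · exfalso
      refine hKne ?_
      have hc : K ≤ Subgroup.centralizer (Cfsg.generalizedFittingSubgroup G : Set G) := by
        rw [← Subgroup.commutator_eq_bot_iff_le_centralizer, eq_bot_iff, ← h]
        exact Subgroup.commutator_le_inf _ _
      rw [← h, inf_eq_left.2 (hc.trans (CfsgLib.Comp.centralizer_generalizedFitting_le G))]
    · exact (inf_eq_left.1 h).trans hEN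

end Cfsg.Agent.S3750
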