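import Cfsg.Statements.S3751
import Cfsg.Agent.Lib.Comp.Bender
import Cfsg.Agent.Lib.Comp.Balance
-- import your own Cfsg.Agent.* helpers here

set_option autoImplicit false
set_option linter.style.haveILetI false
set_option linter.unusedSectionVars false
open Cfsg

namespace Cfsg.Agent.S3751

open Subgroup CfsgLib.Comp

variable {G : Type*} [Group G] [Finite G] {p : ℕ} [Fact p.Prime]

/-- A `p`-local subgroup. -/
abbrev IsLocal (p : ℕ) {G : Type*} [Group G] (M : Subgroup G) : Prop :=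
  ∃ T : Subgroup G, IsPGroup p T ∧ T ≠ ⊥ ∧ M = normalizer (T : Set G)

/-- A maximal `p`-local subgroup. -/
abbrev IsMaxLocal (p : ℕ) {G : Type*} [Group G] (M : Subgroup G) : Prop :=
  IsLocal p M ∧ ∀ L : Subgroup G, IsLocal p L → M ≤ L → L = M

theorem exists_maxLocal {T : Subgroup G} (hT : IsPGroup p T) (hne : T ≠ ⊥) :
    ∃ M : Subgroup G, IsMaxLocal p M ∧ normalizer (T : Set G) ≤ M := by
  obtain ⟨M, hTM, hM⟩ := Finite.exists_le_maximal (p := fun M : Subgroup G => IsLocal p M)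
    (a := normalizer (T : Set G)) ⟨T, hT, hne, rfl⟩
  exact ⟨M, ⟨hM.prop, fun L hL h => le_antisymm (hM.le_of_ge hL h) h⟩, hTM⟩

theorem normalizer_eq_of_maxLocal (hloc : Cfsg.IsOfLocalCharacteristic p G) {M : Subgroup G}
    (hM : IsMaxLocal p M) {A : Subgroup G} (hA : A ≠ ⊥) (hAM : A ≤ M)
    (hn : M ≤ normalizer (A : Set G)) : normalizer (A : Set G) ≤ M := by
  obtain ⟨⟨T, hT, hT1, hMT⟩, hmax⟩ := hM
  subst hMT
  set M := normalizer (T : Set G)
  have hchar := hloc.2 T hT hT1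
  have hAn : (A.subgroupOf M).Normal := normal_subgroupOf_of_le_normalizer hn
  -- `A` meets `O_p(M)` nontrivially
  set P := radP p M
  have hne : A ⊓ P ≠ ⊥ := by
    intro hb
    apply hA
    have hc : A ≤ centralizer (P : Set G) := by
      rw [← commutator_eq_bot_iff_le_centralizer, eq_bot_iff, ← hb]
      exact le_inf (commutator_le_of_le_normalizer ((radP_le p M).trans hn))
        (by rw [commutator_comm]; exact commutator_le_of_le_normalizer (hAM.trans (le_normalizer_radP p M)))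
    have hAP : A ≤ P := by
      intro a ha
      refine ⟨⟨a, hAM ha⟩, hchar ?_, rfl⟩
      rw [mem_centralizer_iff]
      intro y hy
      exact Subtype.ext (mem_centralizer_iff.1 (hc ha) y ⟨y, hy, rfl⟩)
    rwa [inf_eq_left.2 hAP] at hb
  have hle : A ⊓ P ≤ radP p A := le_radP inf_le_left ((isPGroup_radP p M).to_le inf_le_right)
    (subgroupOf_isSubnormal_of_le_normalizer
      (le_normalizer_inf le_normalizer (hAM.trans (le_normalizer_radP p M))))
  have hne' : radP p A ≠ ⊥ := fun h => hne (eq_bot_iff.2 (h ▸ hle))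
  have hNA : normalizer (A : Set G) ≤ normalizer (radP p A : Set G) := by
    intro g hg
    rw [← map_conj_eq_iff]
    have hgA : A.map (MulAut.conj g).toMonoidHom = A := map_conj_eq_iff.2 hg
    refine eq_of_le_of_card_ge ?_ (by rw [card_map_of_injective (MulAut.conj g).injective])
    refine le_radP ((map_mono (radP_le p A)).trans_eq hgA) ((isPGroup_radP p A).map _)
      (subgroupOf_isSubnormal_of_le_normalizer ?_)
    calc A = A.map (MulAut.conj g).toMonoidHom := hgA.symm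
      _ ≤ (normalizer (radP p A : Set G)).map (MulAut.conj g).toMonoidHom :=
          map_mono (le_normalizer_radP p A)
      _ ≤ _ := le_normalizer_map _
  exact hNA.trans_eq (hmax _ ⟨_, isPGroup_radP p A, hne', rfl⟩ (hn.trans hNA))

theorem maxLocal_conj {M : Subgroup G} (hM : IsMaxLocal p M) (g : G) :
    IsMaxLocal p (M.map (MulAut.conj g).toMonoidHom) := by
  have hloc : ∀ (g : G) (L : Subgroup G), IsLocal p L → IsLocal p (L.map (MulAut.conj g).toMonoidHom) := by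
    rintro g L ⟨T, hT, hT1, rfl⟩
    refine ⟨T.map (MulAut.conj g).toMonoidHom, hT.map _,
      fun h => hT1 ((map_eq_bot_iff_of_injective _ (MulAut.conj g).injective).1 h), ?_⟩
    ext x
    rw [mem_map_conj, ← map_conj_eq_iff, ← map_conj_eq_iff, ← map_conj_mul,
      show x * g = g * (g⁻¹ * x * g) by group, map_conj_mul T g]
    exact ⟨fun h => by rw [h], fun h => map_conj_injective g h⟩
  refine ⟨hloc g M hM.1, fun L hL h => ?_⟩
  have h' : M ≤ L.map (MulAut.conj g⁻¹).toMonoidHom := by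
    have := map_mono (f := (MulAut.conj g⁻¹).toMonoidHom) h
    rwa [map_conj_inv] at this
  rw [← hM.2 _ (hloc g⁻¹ L hL) h', ← map_conj_mul, mul_inv_cancel, map_conj_one]


/-- Two distinct subgroups M₁, M₂ of G form a primitive pair when, for {i, j} = {1, 2}, every non-trivial normal subgroup A of M_i contained in M₁ ∩ M₂ satisfies N_{M_j}(A) = M₁ ∩ M₂; the pair has characteristic p when moreover C_{M_i}(O_p(M_i)) ≤ O_p(M_i) for both i and O_p(M₁)O_p(M₂) ≤ M₁ ∩ M₂. Let G be a finite group, p a prime dividing its order, with O_p(G) = 1 and every p-local subgroup of characteristic p. Then either G has a primitive pair of characteristic p, or every maximal p-local subgroup M of G is strongly p-embedded in G: M is a proper subgroup, p divides its order, and for every g ∉ M the order of M ∩ gMg⁻¹ is prime to p. -/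
theorem result {G : Type*} [Group G] [Finite G] {p : ℕ} [Fact p.Prime] (hloc : Cfsg.IsOfLocalCharacteristic p G) (hOp : Cfsg.pCore p G = ⊥) : (∃ M₁ M₂ : Subgroup G, M₁ ≠ M₂ ∧ (∀ A : Subgroup G, A ≠ ⊥ → A ≤ M₁ ⊓ M₂ → (M₁ ≤ Subgroup.normalizer (A : Set G) → M₂ ⊓ Subgroup.normalizer (A : Set G) = M₁ ⊓ M₂) ∧ (M₂ ≤ Subgroup.normalizer (A : Set G) → M₁ ⊓ Subgroup.normalizer (A : Set G) = M₁ ⊓ M₂)) ∧ Subgroup.centralizer (Cfsg.pCore p ↥M₁ : Set ↥M₁) ≤ Cfsg.pCore p ↥M₁ ∧ Subgroup.centralizer (Cfsg.pCore p ↥M₂ : Set ↥M₂) ≤ Cfsg.pCore p ↥M₂ ∧ (Cfsg.pCore p ↥M₁).map M₁.subtype ⊔ (Cfsg.pCore p ↥M₂).map M₂.subtype ≤ M₁ ⊓ M₂) ∨ (∀ M : Subgroup G, (∃ T : Subgroup G, IsPGroup p T ∧ T ≠ ⊥ ∧ M = Subgroup.normalizer (T : Set G)) → (∀ L : Subgroup G, (∃ T : Subgroup G, IsPGroup p T ∧ T ≠ ⊥ ∧ L = Subgroup.normalizer (T : Set G)) → M ≤ L → L = M) → M ≠ ⊤ ∧ p ∣ Nat.card M ∧ ∀ g : G, g ∉ M → ¬ p ∣ Nat.card ↥(M ⊓ M.map (MulAut.conj g).toMonoidHom)) :=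 by
  have hp : p.Prime := Fact.out
  -- the alternative for a pair of maximal local subgroups
  have good : ∀ M L : Subgroup G, IsMaxLocal p M → IsMaxLocal p L → M ≠ L →
      radP p M ≤ L → radP p L ≤ M →
      (∃ M₁ M₂ : Subgroup G, M₁ ≠ M₂ ∧ (∀ A : Subgroup G, A ≠ ⊥ → A ≤ M₁ ⊓ M₂ → (M₁ ≤ Subgroup.normalizer (A : Set G) → M₂ ⊓ Subgroup.normalizer (A : Set G) = M₁ ⊓ M₂) ∧ (M₂ ≤ Subgroup.normalizer (A : Set G) → M₁ ⊓ Subgroup.normalizer (A : Set G) = M₁ ⊓ M₂)) ∧ Subgroup.centralizer (Cfsg.pCore p ↥M₁ : Set ↥M₁) ≤ Cfsg.pCore p ↥M₁ ∧ Subgroup.centralizer (Cfsg.pCore p ↥M₂ : Set ↥M₂) ≤ Cfsg.pCore p ↥M₂ ∧ (Cfsg.pCore p ↥M₁).map M₁.subtype ⊔ (Cfsg.pCore p ↥M₂).map M₂.subtype ≤ M₁ ⊓ M₂) := by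
    intro M L hM hL hne h1 h2
    refine ⟨M, L, hne, fun A hA hle => ⟨fun hn => ?_, fun hn => ?_⟩, ?_, ?_,
      sup_le (le_inf (radP_le p M) h1) (le_inf h2 (radP_le p L))⟩
    · refine le_antisymm (le_inf (inf_le_right.trans ?_) inf_le_left) (le_inf inf_le_right (inf_le_left.trans hn))
      exact normalizer_eq_of_maxLocal hloc hM hA (hle.trans inf_le_left) hn
    · refine le_antisymm (le_inf inf_le_left (inf_le_right.trans ?_)) (le_inf inf_le_left (inf_le_right.trans hn))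
      exact normalizer_eq_of_maxLocal hloc hL hA (hle.trans inf_le_right) hn
    · obtain ⟨⟨T, hT, hT1, rfl⟩, -⟩ := hM
      exact hloc.2 T hT hT1
    · obtain ⟨⟨T, hT, hT1, rfl⟩, -⟩ := hL
      exact hloc.2 T hT hT1
  refine or_iff_not_imp_right.2 fun hnot => ?_
  -- two different maximal local subgroups share a nontrivial `p`-subgroup
  have hex : ∃ x : Subgroup G × Subgroup G × Subgroup G, IsMaxLocal p x.1 ∧ IsMaxLocal p x.2.1 ∧
      x.1 ≠ x.2.1 ∧ IsPGroup p x.2.2 ∧ x.2.2 ≠ ⊥ ∧ x.2.2 ≤ x.1 ⊓ x.2.1 := by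
    by_contra hcon
    refine hnot fun M hML hmax => ?_
    have hM : IsMaxLocal p M := ⟨hML, hmax⟩
    obtain ⟨T, hT, hT1, hMT⟩ := hML
    have hTM : T ≤ M := hMT ▸ le_normalizer
    have hself : normalizer (M : Set G) ≤ M := normalizer_eq_of_maxLocal hloc hM
      (fun h => hT1 (eq_bot_iff.2 (h ▸ hTM))) le_rfl le_normalizer
    refine ⟨?_, ?_, fun g hg hdvd => ?_⟩
    · intro htop
      haveI : T.Normal := normalizer_eq_top_iff.1 (hMT.symm.trans htop)
      exact hT1 (eq_bot_iff.2 (hOp ▸ le_sSup ⟨inferInstance, hT⟩))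
    · obtain ⟨n, hn⟩ := IsPGroup.iff_card.1 hT
      rcases n with _ | n
      · exact absurd (card_eq_one.1 (by simpa using hn)) hT1
      · exact ((dvd_pow_self p n.succ_ne_zero).trans hn.symm.dvd).trans (card_dvd_of_le hTM)
    · obtain ⟨s, hs⟩ := exists_prime_orderOf_dvd_card' p hdvd
      refine hcon ⟨(M, M.map (MulAut.conj g).toMonoidHom, zpowers (s : G)), hM, maxLocal_conj hM g,
        fun h => hg (hself (map_conj_eq_iff.1 h.symm)),
        isPGroup_zpowers_of_orderOf (k := 1) (by rw [pow_one, Subgroup.orderOf_coe, hs]), ?_,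
        zpowers_le.2 s.2⟩
      rw [Ne, zpowers_eq_bot]
      intro h
      rw [← Subgroup.orderOf_coe, h, orderOf_one] at hs
      exact hp.ne_one hs.symm
  haveI : Nonempty {x : Subgroup G × Subgroup G × Subgroup G // IsMaxLocal p x.1 ∧ IsMaxLocal p x.2.1 ∧
      x.1 ≠ x.2.1 ∧ IsPGroup p x.2.2 ∧ x.2.2 ≠ ⊥ ∧ x.2.2 ≤ x.1 ⊓ x.2.1} := nonempty_subtype.2 hex
  obtain ⟨⟨⟨M, L, T⟩, hM, hL, hML, hT, hT1, hTle⟩, hbest⟩ := Finite.exists_max
    (fun x : {x : Subgroup G × Subgroup G × Subgroup G // IsMaxLocal p x.1 ∧ IsMaxLocal p x.2.1 ∧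
      x.1 ≠ x.2.1 ∧ IsPGroup p x.2.2 ∧ x.2.2 ≠ ⊥ ∧ x.2.2 ≤ x.1 ⊓ x.2.1} => Nat.card ↥x.1.2.2)
  -- no strictly larger shared subgroup
  have hmax' : ∀ (A B Q : Subgroup G), IsMaxLocal p A → IsMaxLocal p B → A ≠ B → IsPGroup p Q →
      T < Q → Q ≤ A → Q ≤ B → False := by
    intro A B Q hA hB hAB hQ hlt hQA hQB
    have h1 := hbest ⟨(A, B, Q), hA, hB, hAB, hQ, fun (h : Q = ⊥) => not_lt_bot (h ▸ hlt), le_inf hQA hQB⟩
    exact hlt.ne (eq_of_le_of_card_ge hlt.le h1)
  -- growing `T` inside one of the two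
  have grow : ∀ (A : Subgroup G) (P : Subgroup G), IsPGroup p P → T < P → P ≤ A →
      ∃ Q : Subgroup G, IsPGroup p Q ∧ T < Q ∧ Q ≤ A ∧ Q ≤ normalizer (T : Set G) := by
    intro A P hP hlt hPA
    haveI := hP.isNilpotent
    have hne : T.subgroupOf P < ⊤ := lt_top_iff_ne_top.2 fun e => hlt.not_ge (subgroupOf_eq_top.1 e)
    have h := Group.normalizerCondition_of_isNilpotent (G := P) (T.subgroupOf P) hne
    obtain ⟨x, hx, hxT⟩ := SetLike.exists_of_lt h
    refine ⟨T ⊔ zpowers (x : G), hP.to_le (sup_le hlt.le (zpowers_le.2 x.2)), ?_,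
      (sup_le hlt.le (zpowers_le.2 x.2)).trans hPA, sup_le le_normalizer (zpowers_le.2 ?_)⟩
    · exact lt_of_le_of_ne le_sup_left fun e => hxT
        (mem_subgroupOf.2 (e.ge (mem_sup_right (mem_zpowers _))))
    · rw [mem_normalizer_iff]
      intro y
      by_cases hy : y ∈ P
      · exact mem_normalizer_iff.1 hx ⟨y, hy⟩
      · refine ⟨fun h => absurd (hlt.le h) hy, fun h => absurd ?_ hy⟩
        have := mul_mem (mul_mem (inv_mem x.2) (hlt.le h)) x.2
        simpa [mul_assoc] using this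
  have hrad : ∀ A : Subgroup G, T ≤ A → (∀ P : Subgroup G, IsPGroup p P → T ≤ P → P ≤ A → P = T) →
      radP p A ≤ T := by
    intro A hTA h
    have := h (T ⊔ radP p A) (hT.to_sup_of_normal_right' (isPGroup_radP p A)
      (hTA.trans (le_normalizer_radP p A))) le_sup_left (sup_le hTA (radP_le p A))
    exact this ▸ le_sup_right
  have hTM : T ≤ M := hTle.trans inf_le_left
  have hTL : T ≤ L := hTle.trans inf_le_right
  obtain ⟨U, hU, hTU⟩ := exists_maxLocal hT hT1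
  -- the conjugation trick: `T` Sylow in `B` but not in `A`
  have trick : ∀ A B : Subgroup G, IsMaxLocal p B → T ≤ B →
      (∀ P : Subgroup G, IsPGroup p P → T ≤ P → P ≤ B → P = T) →
      ∀ Q : Subgroup G, IsPGroup p Q → T < Q → Q ≤ A → Q ≤ normalizer (T : Set G) →
      ∃ B' : Subgroup G, IsMaxLocal p B' ∧ B ≠ B' ∧ radP p B ≤ B' ∧ radP p B' ≤ B := by
    intro A B hB hTB hsyl Q hQ hlt _ hQn
    obtain ⟨x, hxQ, hxT⟩ := SetLike.exists_of_lt hlt
    have hxT' : T.map (MulAut.conj x).toMonoidHom = T := map_conj_eq_iff.2 (hQn hxQ)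
    refine ⟨B.map (MulAut.conj x).toMonoidHom, maxLocal_conj hB x, fun h => hxT ?_, ?_, ?_⟩
    · have hxB : x ∈ B := normalizer_eq_of_maxLocal hloc hB
        (fun h' => hT1 (eq_bot_iff.2 (h' ▸ hTB))) le_rfl le_normalizer (map_conj_eq_iff.1 h.symm)
      exact (hsyl (T ⊔ zpowers x) (hQ.to_le (sup_le hlt.le (zpowers_le.2 hxQ))) le_sup_left
        (sup_le hTB (zpowers_le.2 hxB))).le (mem_sup_right (mem_zpowers x))
    · exact ((hrad B hTB hsyl).trans hxT'.ge).trans (map_mono hTB)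
    · refine (hrad _ (hxT'.ge.trans (map_mono hTB)) fun P hP hTP hPB => ?_).trans hTB
      have h := hsyl (P.map (MulAut.conj x⁻¹).toMonoidHom) (hP.map _) ?_ ?_
      · calc P = (P.map (MulAut.conj x⁻¹).toMonoidHom).map (MulAut.conj x).toMonoidHom := by
              rw [← map_conj_mul, mul_inv_cancel, map_conj_one]
          _ = T := by rw [h, hxT']
      · have := map_mono (f := (MulAut.conj x⁻¹).toMonoidHom) (hxT'.le.trans hTP)
        rwa [map_conj_inv] at this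
      · have := map_mono (f := (MulAut.conj x⁻¹).toMonoidHom) hPB
        rwa [map_conj_inv] at this
  by_cases hsM : ∀ P : Subgroup G, IsPGroup p P → T ≤ P → P ≤ M → P = T
  · by_cases hsL : ∀ P : Subgroup G, IsPGroup p P → T ≤ P → P ≤ L → P = T
    · exact good M L hM hL hML ((hrad M hTM hsM).trans hTL) ((hrad L hTL hsL).trans hTM)
    · push Not at hsL
      obtain ⟨P, hP, hTP, hPL, hPne⟩ := hsL
      obtain ⟨Q, hQ, hlt, hQL, hQn⟩ := grow L P hP (lt_of_le_of_ne hTP (Ne.symm hPne)) hPL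
      obtain ⟨B', hB', hne, h1, h2⟩ := trick L M hM hTM hsM Q hQ hlt hQL hQn
      exact good M B' hM hB' hne h1 h2
  · push Not at hsM
    obtain ⟨P, hP, hTP, hPM, hPne⟩ := hsM
    obtain ⟨Q, hQ, hlt, hQM, hQn⟩ := grow M P hP (lt_of_le_of_ne hTP (Ne.symm hPne)) hPM
    have hUM : U = M := by
      by_contra hne
      exact hmax' U M Q hU hM hne hQ hlt (hQn.trans hTU) hQM
    have hsL : ∀ P : Subgroup G, IsPGroup p P → T ≤ P → P ≤ L → P = T := by
      intro P' hP' hTP' hP'L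
      by_contra hne'
      obtain ⟨Q', hQ', hlt', hQ'L, hQ'n⟩ := grow L P' hP' (lt_of_le_of_ne hTP' (Ne.symm hne')) hP'L
      exact hmax' U L Q' hU hL (hUM ▸ hML) hQ' hlt' (hQ'n.trans hTU) hQ'L
    obtain ⟨B', hB', hne, h1, h2⟩ := trick M L hL hTL hsL Q hQ hlt hQM hQn
    exact good L B' hL hB' hne h1 h2

end Cfsg.Agent.S3751
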