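import Cfsg.Statements.S3752
import Cfsg.Agent.Lib.Comp.Bender
-- import your own Cfsg.Agent.* helpers here

set_option autoImplicit false
set_option linter.style.haveILetI false
open Cfsg

namespace Cfsg.Agent.S3752

open Subgroup CfsgLib.Comp

variable {G : Type*} [Group G] [Finite G]

theorem radP_ne_bot {M N : Subgroup G} (hEN : Cfsg.layer N = ⊥)
    (hM : ∀ r : Nat.Primes, radP (r : ℕ) M ≤ N) (hN : ∀ r : Nat.Primes, radP (r : ℕ) N ≤ M)
    {p : ℕ} (hp : p.Prime) (h : radP p M ≠ ⊥) : radP p N ≠ ⊥ := by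
  haveI := Fact.mk hp
  intro hb
  apply h
  have hcent : ∀ r : Nat.Primes, radP p M ≤ centralizer (radP (r : ℕ) N : Set G) := by
    intro r
    by_cases hr : (r : ℕ) = p
    · rw [hr, hb, le_centralizer_iff]; exact bot_le
    · haveI : Fact (r : ℕ).Prime := ⟨r.2⟩
      exact radP_le_centralizer (Ne.symm hr) (isPGroup_radP p M) (isPGroup_radP _ N)
        ((hM ⟨p, hp⟩).trans (le_normalizer_radP _ N)) ((hN r).trans (le_normalizer_radP p M))
  have hle := inf_centralizer_le_fitting hEN (hM ⟨p, hp⟩) hcent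
  rw [eq_bot_iff, ← hb]
  refine le_radP (hM ⟨p, hp⟩) (isPGroup_radP p M) ?_
  haveI := isNilpotent_fittingSubgroup N
  haveI := fittingSubgroup_normal N
  haveI : Group.IsNilpotent ((Cfsg.fittingSubgroup N).map N.subtype : Subgroup G) :=
    (Group.isNilpotent_congr ((Cfsg.fittingSubgroup N).equivMapOfInjective _ N.subtype_injective)).1
      inferInstance
  exact subgroupOf_isSubnormal_trans hle (map_subtype_le _)
    (CfsgLib.Solvable.isSubnormal_of_isNilpotent _)
    (subgroupOf_isSubnormal_of_le_normalizer (le_normalizer_map_subtype _))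


/-- Bender's Theorem on primitive pairs. Two distinct subgroups M₁, M₂ of G form a primitive pair when, for {i, j} = {1, 2}, every non-trivial normal subgroup A of M_i contained in M₁ ∩ M₂ satisfies N_{M_j}(A) = M₁ ∩ M₂; the pair has characteristic p when moreover C_{M_i}(O_p(M_i)) ≤ O_p(M_i) for both i and O_p(M₁)O_p(M₂) ≤ M₁ ∩ M₂. If (M₁, M₂) is a primitive pair of the finite group G with F*(M₁) ≤ M₂ and F*(M₂) ≤ M₁, then for some prime p the pair has characteristic p. -/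
theorem result {G : Type*} [Group G] [Finite G] (M₁ M₂ : Subgroup G) (hne : M₁ ≠ M₂) (hP : ∀ A : Subgroup G, A ≠ ⊥ → A ≤ M₁ ⊓ M₂ → (M₁ ≤ Subgroup.normalizer (A : Set G) → M₂ ⊓ Subgroup.normalizer (A : Set G) = M₁ ⊓ M₂) ∧ (M₂ ≤ Subgroup.normalizer (A : Set G) → M₁ ⊓ Subgroup.normalizer (A : Set G) = M₁ ⊓ M₂)) (h₁ : (Cfsg.generalizedFittingSubgroup ↥M₁).map M₁.subtype ≤ M₂) (h₂ : (Cfsg.generalizedFittingSubgroup ↥M₂).map M₂.subtype ≤ M₁) : ∃ p : ℕ, p.Prime ∧ Subgroup.centralizer (Cfsg.pCore p ↥M₁ : Set ↥M₁) ≤ Cfsg.pCore p ↥M₁ ∧ Subgroup.centralizer (Cfsg.pCore p ↥M₂ : Set ↥M₂) ≤ Cfsg.pCore p ↥M₂ ∧ (Cfsg.pCore p ↥M₁).map M₁.subtype ⊔ (Cfsg.pCore p ↥M₂).map M₂.subtype ≤ M₁ ⊓ M₂ := by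
  -- a nontrivial subgroup of the intersection cannot be normalized by both
  have hboth : ∀ A : Subgroup G, A ≠ ⊥ → A ≤ M₁ ⊓ M₂ → M₁ ≤ normalizer (A : Set G) →
      M₂ ≤ normalizer (A : Set G) → False := by
    intro A hA hle hn₁ hn₂
    obtain ⟨ha, hb⟩ := hP A hA hle
    refine hne (le_antisymm ?_ ?_)
    · have h := hb hn₂
      rw [inf_eq_left.2 hn₁] at h
      exact h.le.trans inf_le_right
    · have h := ha hn₁
      rw [inf_eq_left.2 hn₂] at h
      exact h.le.trans inf_le_left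
  set E₁ := (Cfsg.layer M₁).map M₁.subtype
  set E₂ := (Cfsg.layer M₂).map M₂.subtype
  have key : ∀ {M N : Subgroup G}, (Cfsg.generalizedFittingSubgroup M).map M.subtype ≤ N →
      (Cfsg.generalizedFittingSubgroup N).map N.subtype ≤ M →
      (Cfsg.layer M).map M.subtype ≤ (Cfsg.layer N).map N.subtype := by
    intro M N ha hb
    refine map_le_iff_le_comap.2 (sSup_le fun K hK => map_le_iff_le_comap.1 ?_)
    have hKM : K.map M.subtype ≤ M := map_subtype_le K
    have hKN : K.map M.subtype ≤ N :=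
      (map_mono ((le_layer hK).trans (le_sup_left (b := Cfsg.fittingSubgroup M)))).trans ha
    have hK' : Cfsg.IsComponent ((K.map M.subtype).subgroupOf M) := by
      rwa [subgroupOf, comap_map_eq_self_of_injective M.subtype_injective]
    rw [← map_subgroupOf_eq_of_le hKN]
    exact map_mono (le_layer (component_eq_of_le hKM hK' hKN hb))
  have hE : E₁ = ⊥ := by
    by_contra hne'
    have e : E₁ = E₂ := le_antisymm (key h₁ h₂) (key h₂ h₁)
    haveI := layer_normal M₁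
    haveI := layer_normal M₂
    refine hboth E₁ hne' (le_inf (map_subtype_le _) (e.le.trans (map_subtype_le _)))
      (le_normalizer_map_subtype _) ?_
    rw [e]; exact le_normalizer_map_subtype _
  have hl₁ : Cfsg.layer M₁ = ⊥ := (map_eq_bot_iff_of_injective _ M₁.subtype_injective).1 hE
  have hl₂ : Cfsg.layer M₂ = ⊥ :=
    (map_eq_bot_iff_of_injective _ M₂.subtype_injective).1 (eq_bot_iff.2 ((key h₂ h₁).trans hE.le))
  have hg₁ : Cfsg.generalizedFittingSubgroup M₁ = Cfsg.fittingSubgroup M₁ := by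
    rw [Cfsg.generalizedFittingSubgroup, hl₁, bot_sup_eq]
  have hg₂ : Cfsg.generalizedFittingSubgroup M₂ = Cfsg.fittingSubgroup M₂ := by
    rw [Cfsg.generalizedFittingSubgroup, hl₂, bot_sup_eq]
  rw [hg₁, fitting_map_eq] at h₁
  rw [hg₂, fitting_map_eq] at h₂
  have hM' : ∀ r : Nat.Primes, radP (r : ℕ) M₁ ≤ M₂ := iSup_le_iff.1 h₁
  have hN' : ∀ r : Nat.Primes, radP (r : ℕ) M₂ ≤ M₁ := iSup_le_iff.1 h₂
  have htriv : ∀ H : Subgroup G, Cfsg.layer H = ⊥ → (∀ r : Nat.Primes, radP (r : ℕ) H = ⊥) → H = ⊥ := by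
    intro H hl h
    refine eq_bot_iff.2 ((inf_centralizer_le_fitting hl le_rfl fun q => ?_).trans ?_)
    · rw [h q, le_centralizer_iff]; exact bot_le
    · rw [fitting_map_eq]; exact iSup_le fun q => (h q).le
  obtain ⟨p, hp⟩ : ∃ p : Nat.Primes, radP (p : ℕ) M₁ ≠ ⊥ := by
    by_contra h
    push Not at h
    have e₁ := htriv M₁ hl₁ h
    refine hne (e₁.trans (htriv M₂ hl₂ fun r => eq_bot_iff.2 ((hN' r).trans e₁.le)).symm)
  haveI : Fact (p : ℕ).Prime := ⟨p.2⟩
  have huniq : ∀ q : Nat.Primes, q ≠ p → radP (q : ℕ) M₁ = ⊥ := by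
    intro q hqp
    by_contra hq
    haveI : Fact (q : ℕ).Prime := ⟨q.2⟩
    have hne' : (p : ℕ) ≠ q := fun e => hqp (Subtype.ext e.symm)
    have hpN := radP_ne_bot hl₂ hM' hN' p.2 hp
    have hC₂ : M₁ ⊓ centralizer (radP (p : ℕ) M₂ : Set G) ≤ M₂ :=
      ((inf_le_inf_left M₁ (Subgroup.centralizer_le_normalizer _)).trans_eq
        ((hP _ hpN (le_inf (hN' p) (radP_le _ _))).2 (le_normalizer_radP _ _))).trans inf_le_right
    have hC₁ : M₂ ⊓ centralizer (radP (p : ℕ) M₁ : Set G) ≤ M₁ :=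
      ((inf_le_inf_left M₂ (Subgroup.centralizer_le_normalizer _)).trans_eq
        ((hP _ hp (le_inf (radP_le _ _) (hM' p))).1 (le_normalizer_radP _ _))).trans inf_le_left
    have e : radP (q : ℕ) M₂ = radP (q : ℕ) M₁ :=
      le_antisymm (radP_le_radP hne' hl₁ hM' hN' hC₂) (radP_le_radP hne' hl₂ hN' hM' hC₁)
    refine hboth _ hq (le_inf (radP_le _ _) (hM' q)) (le_normalizer_radP _ _) ?_
    rw [← e]; exact le_normalizer_radP _ _
  have huniq₂ : ∀ q : Nat.Primes, q ≠ p → radP (q : ℕ) M₂ = ⊥ := fun q hqp => by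
    by_contra hq
    exact radP_ne_bot hl₁ hN' hM' q.2 hq (huniq q hqp)
  have kchar : ∀ H : Subgroup G, Cfsg.layer H = ⊥ → (∀ q : Nat.Primes, q ≠ p → radP (q : ℕ) H = ⊥) →
      centralizer (Cfsg.pCore (p : ℕ) H : Set H) ≤ Cfsg.pCore (p : ℕ) H := by
    intro H hl h
    have hF : Cfsg.fittingSubgroup H = Cfsg.pCore (p : ℕ) H := by
      refine le_antisymm ?_ (CfsgLib.Solvable.pCore_le_fittingSubgroup (p : ℕ))
      rw [CfsgLib.Solvable.fittingSubgroup_eq_iSup_pCore]
      refine iSup_le fun q => ?_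
      by_cases hq : q = p
      · rw [hq]
      · rw [(map_eq_bot_iff_of_injective _ H.subtype_injective).1 (h q hq)]; exact bot_le
    rw [← hF]
    exact (centralizer_fitting_le_iff H).2 hl
  exact ⟨p, p.2, kchar M₁ hl₁ huniq, kchar M₂ hl₂ huniq₂,
    sup_le (le_inf (radP_le _ _) (hM' p)) (le_inf (hN' p) (radP_le _ _))⟩

end Cfsg.Agent.S3752
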