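import Cfsg.Statements.S3753
import Cfsg.Agent.Lib.Coprime.KInfAbove
import Cfsg.Agent.Lib.PLocal.SLTwoSection

set_option autoImplicit false
open Cfsg

namespace Cfsg.Agent.S3753

open Subgroup

universe u

variable {G : Type u} [Group G] [Finite G] {p : ℕ} [hp : Fact p.Prime]

theorem eq_of_normal_common (M₁ M₂ A : Subgroup G) (hA : A ≠ ⊥) (hle : A ≤ M₁ ⊓ M₂)
    (h₁ : M₁ ≤ normalizer (A : Set G)) (h₂ : M₂ ≤ normalizer (A : Set G))
    (hP : (M₁ ≤ normalizer (A : Set G) → M₂ ⊓ normalizer (A : Set G) = M₁ ⊓ M₂) ∧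
      (M₂ ≤ normalizer (A : Set G) → M₁ ⊓ normalizer (A : Set G) = M₁ ⊓ M₂)) : M₁ = M₂ := by
  have e2 := hP.1 h₁
  have e1 := hP.2 h₂
  rw [inf_eq_left.2 h₂] at e2
  rw [inf_eq_left.2 h₁] at e1
  exact e1.trans e2.symm

theorem pCore_eq_bot_imp (M : Subgroup G)
    (hc : centralizer (Cfsg.pCore p ↥M : Set ↥M) ≤ Cfsg.pCore p ↥M)
    (h : (Cfsg.pCore p ↥M).map M.subtype = ⊥) : M = ⊥ := by
  rw [map_eq_bot_iff_of_injective _ M.subtype_injective] at h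
  rw [h] at hc
  refine eq_bot_iff.2 fun x hx => ?_
  have h2 : (⟨x, hx⟩ : M) ∈ (⊥ : Subgroup M) :=
    hc (mem_centralizer_iff.2 fun z hz => by
      rw [show z = 1 from mem_bot.1 hz, one_mul, mul_one])
  exact congrArg Subtype.val (mem_bot.1 h2)

theorem normalizes_kInf (hp2 : p ≠ 2) (M : Subgroup G)
    (hab : ∀ S : Sylow 2 ↥M, IsMulCommutative (S : Subgroup ↥M))
    (hc : centralizer (Cfsg.pCore p ↥M : Set ↥M) ≤ Cfsg.pCore p ↥M)
    (S : Subgroup G) (hS : IsPGroup p S) (hSM : S ≤ M) (hTS : (Cfsg.pCore p ↥M).map M.subtype ≤ S) :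
    M ≤ normalizer (Cfsg.inducedFunctor (G := G) Cfsg.kInfLower S : Set G) := by
  obtain ⟨T⟩ : Nonempty (Sylow 2 ↥M) := inferInstance
  have hno : ¬ Cfsg.Involves ↥(Cfsg.qd p) ↥M := CfsgLib.PLocal.not_involves_qd_of_no_sl fun K f =>
    CfsgLib.PLocal.no_slTwo_section_of_comm_sylow hp2 T (hab T) K f
  have hst : ∀ (N : Subgroup ↥M) [N.Normal], Cfsg.IsNormalizerPStable p (↥M ⧸ N) := by
    intro N _
    haveI : (N.subgroupOf (⊤ : Subgroup ↥M)).Normal := inferInstance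
    exact CfsgLib.PLocal.isNormalizerPStable_equiv
      (QuotientGroup.congr (N.subgroupOf ⊤) N Subgroup.topEquiv (by
        ext x
        constructor
        · rintro ⟨y, hy, rfl⟩
          exact hy
        · intro hx
          exact ⟨⟨x, mem_top x⟩, hx, rfl⟩))
      ((CfsgLib.PLocal.not_involves_qd_iff hp2).1 hno ⊤ N)
  have hTS' : Cfsg.pCore p ↥M ≤ S.subgroupOf M := fun x hx => hTS (mem_map_of_mem _ hx)
  have hn := CfsgLib.Coprime.KInfAbove.kInfLower_normal_above hc hst (S.subgroupOf M) hTS'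
  have he := CfsgLib.PLocal.induced_map_of_injOn (W := Cfsg.kInfLower)
    CfsgLib.PLocal.kInfLower_isCharPFunctor (p := p) M.subtype
    (P := S.subgroupOf M) (hS.comap_of_injective M.subtype M.subtype_injective)
    M.subtype_injective.injOn
  rw [subgroupOf_map_subtype, inf_eq_left.2 hSM] at he
  intro m hm
  rw [← he]
  exact le_normalizer_map M.subtype
    ⟨⟨m, hm⟩, by rw [normalizer_eq_top_iff.2 hn]; exact mem_top _, rfl⟩

/-- Two distinct subgroups M₁, M₂ of G form a primitive pair when, for {i, j} = {1, 2}, every non-trivial normal subgroup A of M_i contained in M₁ ∩ M₂ satisfies N_{M_j}(A) = M₁ ∩ M₂; the pair has characteristic p when moreover C_{M_i}(O_p(M_i)) ≤ O_p(M_i) for both i and O_p(M₁)O_p(M₂) ≤ M₁ ∩ M₂. If the finite group G has a primitive pair (M₁, M₂) of characteristic p for some prime p, then M₁ or M₂ has non-abelian Sylow 2-subgroups. In particular no group of odd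 order has a primitive pair of characteristic p. -/
theorem result {G : Type*} [Group G] [Finite G] {p : ℕ} [Fact p.Prime] (M₁ M₂ : Subgroup G) (hne : M₁ ≠ M₂) (hP : ∀ A : Subgroup G, A ≠ ⊥ → A ≤ M₁ ⊓ M₂ → (M₁ ≤ Subgroup.normalizer (A : Set G) → M₂ ⊓ Subgroup.normalizer (A : Set G) = M₁ ⊓ M₂) ∧ (M₂ ≤ Subgroup.normalizer (A : Set G) → M₁ ⊓ Subgroup.normalizer (A : Set G) = M₁ ⊓ M₂)) (hc₁ : Subgroup.centralizer (Cfsg.pCore p ↥M₁ : Set ↥M₁) ≤ Cfsg.pCore p ↥M₁) (hc₂ : Subgroup.centralizer (Cfsg.pCore p ↥M₂ : Set ↥M₂) ≤ Cfsg.pCore p ↥M₂) (hO : (Cfsg.pCore p ↥M₁).map M₁.subtype ⊔ (Cfsg.pCore p ↥M₂).map M₂.subtype ≤ M₁ ⊓ M₂) : (∃ S : Sylow 2 ↥M₁, ¬ IsMulCommutative (S : Subgroup ↥M₁)) ∨ (∃ S : Sylow 2 ↥M₂, ¬ IsMulCommutative (S : Subgroup ↥M₂)) := by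
  have hpr := (Fact.out : p.Prime)
  by_contra hno
  push Not at hno
  obtain ⟨hab₁, hab₂⟩ := hno
  set O₁ := (Cfsg.pCore p ↥M₁).map M₁.subtype with hO₁
  set O₂ := (Cfsg.pCore p ↥M₂).map M₂.subtype with hO₂
  have hO₁le : O₁ ≤ M₁ ⊓ M₂ := le_sup_left.trans hO
  have hO₂le : O₂ ≤ M₁ ⊓ M₂ := le_sup_right.trans hO
  have hp₁ : IsPGroup p O₁ := (CfsgLib.Solvable.pCore_isPGroup p).map _
  have hp₂ : IsPGroup p O₂ := (CfsgLib.Solvable.pCore_isPGroup p).map _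
  haveI := Cfsg.pCore_normal p ↥M₁
  haveI := Cfsg.pCore_normal p ↥M₂
  have hn₁ : M₁ ≤ Subgroup.normalizer (O₁ : Set G) := fun m hm => le_normalizer_map M₁.subtype
    ⟨⟨m, hm⟩, by rw [normalizer_eq_top]; exact mem_top _, rfl⟩
  have hn₂ : M₂ ≤ Subgroup.normalizer (O₂ : Set G) := fun m hm => le_normalizer_map M₂.subtype
    ⟨⟨m, hm⟩, by rw [normalizer_eq_top]; exact mem_top _, rfl⟩
  have hne₁ : O₁ ≠ ⊥ ∨ O₂ ≠ ⊥ := by
    by_contra h
    push Not at h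
    exact hne ((pCore_eq_bot_imp M₁ hc₁ h.1).trans (pCore_eq_bot_imp M₂ hc₂ h.2).symm)
  rcases eq_or_ne p 2 with rfl | hp2
  · -- for `p = 2` the cores are the Sylow subgroups
    have key : ∀ (M : Subgroup G), (∀ S : Sylow 2 ↥M, IsMulCommutative (S : Subgroup ↥M)) →
        Subgroup.centralizer (Cfsg.pCore 2 ↥M : Set ↥M) ≤ Cfsg.pCore 2 ↥M →
        ∀ Q : Subgroup G, IsPGroup 2 Q → Q ≤ M → Q ≤ (Cfsg.pCore 2 ↥M).map M.subtype := by
      intro M hab hc Q hQ hQM x hx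
      obtain ⟨S, hS⟩ := (hQ.comap_of_injective M.subtype M.subtype_injective).exists_le_sylow
      refine ⟨⟨x, hQM hx⟩, hc (mem_centralizer_iff.2 fun z hz => ?_), rfl⟩
      have hzS := CfsgLib.Solvable.pCore_le_sylow S hz
      exact congrArg Subtype.val ((hab S).is_comm.comm ⟨z, hzS⟩ ⟨_, hS (show (⟨x, hQM hx⟩ : M) ∈ Q.comap M.subtype from hx)⟩)
    have e : O₁ = O₂ := le_antisymm (key M₂ hab₂ hc₂ O₁ hp₁ (hO₁le.trans inf_le_right))
      (key M₁ hab₁ hc₁ O₂ hp₂ (hO₂le.trans inf_le_left))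
    have hne2 : O₁ ≠ ⊥ := hne₁.elim id fun h => e ▸ h
    exact hne (eq_of_normal_common M₁ M₂ O₁ hne2 hO₁le hn₁ (e ▸ hn₂) (hP O₁ hne2 hO₁le))
  · -- for odd `p` use the K-infinity subgroup of a Sylow subgroup of the intersection
    obtain ⟨S₀, hS₀⟩ := (hp₁.comap_of_injective (M₁ ⊓ M₂).subtype
      (M₁ ⊓ M₂).subtype_injective).exists_le_sylow
    set S := (S₀ : Subgroup ↥(M₁ ⊓ M₂)).map (M₁ ⊓ M₂).subtype with hS
    have hSle : S ≤ M₁ ⊓ M₂ := map_subtype_le _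
    have h1S : O₁ ≤ S := fun x hx => ⟨⟨x, hO₁le hx⟩, hS₀ hx, rfl⟩
    have h2S : O₂ ≤ S := by
      intro x hx
      haveI : (O₂.subgroupOf (M₁ ⊓ M₂)).Normal :=
        (normal_subgroupOf_iff_le_normalizer hO₂le).2 (inf_le_right.trans hn₂)
      refine ⟨⟨x, hO₂le hx⟩, ?_, rfl⟩
      exact CfsgLib.Solvable.pCore_le_sylow S₀ (le_sSup (a := O₂.subgroupOf (M₁ ⊓ M₂))
        (s := {N : Subgroup ↥(M₁ ⊓ M₂) | N.Normal ∧ IsPGroup p N}) ⟨inferInstance,
        hp₂.comap_of_injective (M₁ ⊓ M₂).subtype (M₁ ⊓ M₂).subtype_injective⟩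
        (show (⟨x, hO₂le hx⟩ : ↥(M₁ ⊓ M₂)) ∈ O₂.subgroupOf (M₁ ⊓ M₂) from hx))
    have hSp : IsPGroup p S := S₀.isPGroup'.map _
    have hSne : Nontrivial S := by
      rw [nontrivial_iff_ne_bot]
      intro e
      rcases hne₁ with h | h
      · exact h (le_bot_iff.1 (e ▸ h1S))
      · exact h (le_bot_iff.1 (e ▸ h2S))
    set A := Cfsg.inducedFunctor (G := G) Cfsg.kInfLower S with hA
    have hA1 : A ≠ ⊥ := fun e => CfsgLib.PLocal.kInfLower_isCharPFunctor.1 S hSp hSne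
      ((map_eq_bot_iff_of_injective _ S.subtype_injective).1 e)
    have hAle : A ≤ M₁ ⊓ M₂ := (map_subtype_le _).trans hSle
    exact hne (eq_of_normal_common M₁ M₂ A hA1 hAle
      (normalizes_kInf hp2 M₁ hab₁ hc₁ S hSp (hSle.trans inf_le_left) h1S)
      (normalizes_kInf hp2 M₂ hab₂ hc₂ S hSp (hSle.trans inf_le_right) h2S) (hP A hA1 hAle))

end Cfsg.Agent.S3753
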