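import Cfsg.Statements.S3754
import Cfsg.Agent.Lib.Coprime.Generation
import Cfsg.Agent.Lib.Coprime.Action
import Cfsg.Agent.Lib.Coprime.Sylow
import Cfsg.Agent.Lib.BlockB.PSolvableCentralizer
import Cfsg.Agent.Lib.StructC.PSolvableQuot
import Cfsg.Agent.Lib.StructC.BurnsideBasis
import Cfsg.Agent.Lib.Solvable.PCore
import Cfsg.Agent.Lib.Solvable.Frattini2


set_option autoImplicit false
open Cfsg

namespace Cfsg.Agent.S3754

/-- A power congruent to `1` modulo the order of a prescribed element and killing the `p`-part. -/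
theorem exists_prime_part {G : Type*} [Group G] [Finite G] {Q : Type*} [Group Q] {p : ℕ} [Fact p.Prime]
    (f : G →* Q) (g : G) (h : (orderOf (f g)).Coprime p) :
    ∃ e : ℕ, (orderOf (g ^ e)).Coprime p ∧ f (g ^ e) = f g := by
  have hp : p.Prime := Fact.out
  set o := orderOf g with ho
  have ho0 : o ≠ 0 := (orderOf_pos g).ne'
  set P := p ^ o.factorization p with hP
  set m := o / P with hm
  have hom : P * m = o := Nat.ordProj_mul_ordCompl_eq_self o p
  have hcm : m.Coprime p := ((Nat.coprime_ordCompl hp ho0)).symm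
  have hc : (orderOf (f g)).Coprime P := Nat.Coprime.pow_right _ h
  obtain ⟨t, ht⟩ := exists_pow_eq_self_of_coprime (n := P) (x := f g) hc.symm
  refine ⟨P * t, ?_, ?_⟩
  · refine Nat.Coprime.coprime_dvd_left (orderOf_dvd_of_pow_eq_one ?_) hcm
    rw [← pow_mul, mul_right_comm, hom, pow_mul, ho, pow_orderOf_eq_one, one_pow]
  · rw [map_pow, pow_mul]; exact ht



/-- Let M be a finite p-soluble group and A a p-subgroup of M with Φ(A) ≤ O_p(M) but A ≰ O_p(M). Then there is x ∈ O_{p,p'}(M) such that L = ⟨A, xAx⁻¹⟩ satisfies: x ∈ O^p(L) and O^p(L) ≤ O_{p,p'}(M); [O^p(L), A] = O^p(L); A ∩ O_p(L) has index p in A; and [A ∩ O_p(L), L] ≤ O_p(M). Here O^p(L) is the subgroup generated by the p'-elements of L and O_{p,p'}(M) the preimage of O_{p'}(M/O_p(M)). -/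
theorem result {M : Type*} [Group M] [Finite M] {p : ℕ} [Fact p.Prime] (hM : Cfsg.IsPSolvable p M) (A : Subgroup M) (hA : IsPGroup p A) (hΦ : (frattini ↥A).map A.subtype ≤ Cfsg.pCore p M) (hnot : ¬ A ≤ Cfsg.pCore p M) : ∃ x ∈ (Cfsg.pPrimeCore p (M ⧸ Cfsg.pCore p M)).comap (QuotientGroup.mk' (Cfsg.pCore p M)), x ∈ (Cfsg.pResidual p ↥(A ⊔ A.map (MulAut.conj x).toMonoidHom)).map (A ⊔ A.map (MulAut.conj x).toMonoidHom).subtype ∧ (Cfsg.pResidual p ↥(A ⊔ A.map (MulAut.conj x).toMonoidHom)).map (A ⊔ A.map (MulAut.conj x).toMonoidHom).subtype ≤ (Cfsg.pPrimeCore p (M ⧸ Cfsg.pCore p M)).comap (QuotientGroup.mk' (Cfsg.pCore p M)) ∧ ⁅(Cfsg.pResidual p ↥(A ⊔ A.map (MulAut.conj x).toMonoidHom)).map (A ⊔ A.map (MulAut.conj x).toMonoidHom).subtype, A⁆ = (Cfsg.pResidual p ↥(A ⊔ A.map (MulAut.conj x).toMonoidHom)).map (A ⊔ A.map (MulAut.conj x).toMonoidHom).subtype ∧ (A ⊓ (Cfsg.pCore p ↥(A ⊔ A.map (MulAut.conj x).toMonoidHom)).map (A ⊔ A.map (MulAut.conj x).toMonoidHom).subtype).relIndex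 A = p ∧ ⁅A ⊓ (Cfsg.pCore p ↥(A ⊔ A.map (MulAut.conj x).toMonoidHom)).map (A ⊔ A.map (MulAut.conj x).toMonoidHom).subtype, A ⊔ A.map (MulAut.conj x).toMonoidHom⁆ ≤ Cfsg.pCore p M := by
  classical
  open scoped commutatorElement in
  have hp : p.Prime := Fact.out
  haveI hOn : (Cfsg.pCore p M).Normal := CfsgLib.Solvable.pCore_normal p M
  set O := Cfsg.pCore p M with hO
  set π := QuotientGroup.mk' O with hπ
  have hπs : Function.Surjective π := QuotientGroup.mk'_surjective O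
  set V := Cfsg.pPrimeCore p (M ⧸ O) with hV
  haveI hVn : V.Normal := CfsgLib.Solvable.pPrimeCore_normal p _
  have hVcop : (Nat.card V).Coprime p := CfsgLib.Solvable.pPrimeCore_coprime p
  have hCV : Subgroup.centralizer (V : Set (M ⧸ O)) ≤ V :=
    CfsgLib.BlockB.centralizer_pPrimeCore_le_of_isPSolvable (CfsgLib.StructC.isPSolvable_quotient O hM)
      (CfsgLib.Solvable.pCore_quotient_eq_bot p)
  set Ab := A.map π with hAb
  have hAp : IsPGroup p Ab := hA.map π
  obtain ⟨na, hna⟩ := IsPGroup.iff_card.1 hAp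
  have hcop : (Nat.card Ab).Coprime (Nat.card V) := by
    rw [hna]; exact Nat.Coprime.pow_left na hVcop.symm
  haveI := hA.isNilpotent
  have hker : ∀ a : A, a ∈ frattini A → π (a : M) = 1 := fun a ha =>
    (QuotientGroup.eq_one_iff _).2 (hΦ (Subgroup.mem_map_of_mem A.subtype ha))
  have hexp : ∀ b ∈ Ab, b ^ p = 1 := by
    rintro _ ⟨a, ha, rfl⟩
    rw [← map_pow]
    exact hker ⟨_, A.pow_mem ha p⟩ (CfsgLib.StructC.pow_mem_frattini hA ⟨a, ha⟩)
  have hab : IsMulCommutative Ab := by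
    refine IsMulCommutative.mk ⟨?_⟩
    rintro ⟨_, a, ha, rfl⟩ ⟨_, b, hb, rfl⟩
    refine Subtype.ext ?_
    show π a * π b = π b * π a
    have h := hker _ (CfsgLib.Solvable.commutator_le_frattini
      (Subgroup.commutator_mem_commutator (Subgroup.mem_top (⟨a, ha⟩ : A)) (Subgroup.mem_top ⟨b, hb⟩)))
    rw [← commutatorElement_eq_one_iff_mul_comm, ← map_commutatorElement]
    exact h
  haveI := hab
  have hAV : Ab ≤ Subgroup.normalizer (V : Set (M ⧸ O)) := by
    rw [Subgroup.normalizer_eq_top]; exact le_top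
  have hAbC : ¬ Ab ≤ Subgroup.centralizer (V : Set (M ⧸ O)) := by
    intro h
    have h1 : Ab = ⊥ := eq_bot_iff.2 ((le_inf le_rfl (h.trans hCV)).trans
      (CfsgLib.Coprime.inf_eq_bot_of_coprime hcop).le)
    exact hnot fun a ha => (QuotientGroup.eq_one_iff a).1
      (Subgroup.mem_bot.1 (h1 ▸ Subgroup.mem_map_of_mem π ha))
  -- the hyperplane `B`
  obtain ⟨B, a, hBA, haA, hBa, hW⟩ : ∃ B : Subgroup (M ⧸ O), ∃ a, B ≤ Ab ∧ a ∈ Ab ∧ B ⊔ Subgroup.zpowers a = Ab ∧
      ¬ Ab ≤ Subgroup.centralizer ((V ⊓ Subgroup.centralizer (B : Set (M ⧸ O)) : Subgroup (M ⧸ O)) : Set (M ⧸ O)) := by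
    by_contra hno
    push Not at hno
    refine hAbC (Subgroup.le_centralizer_iff.1 ?_)
    conv_lhs => rw [← CfsgLib.Coprime.cocyclicJoin_eq hab hAV hcop]
    refine iSup₂_le ?_
    rintro B ⟨hB, a, ha, hBa⟩
    exact Subgroup.le_centralizer_iff.1 (hno B a hB ha hBa)
  set W := V ⊓ Subgroup.centralizer (B : Set (M ⧸ O)) with hWdef
  have haB : a ∉ B := by
    intro h
    have hAB : Ab = B := le_antisymm (hBa.ge.trans (sup_le le_rfl (Subgroup.zpowers_le.2 h))) hBA
    exact hW (Subgroup.le_centralizer_iff.1 (hAB ▸ inf_le_right))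
  have hap : orderOf a = p := orderOf_eq_prime (hexp a haA) fun h => haB (h ▸ B.one_mem)
  have hcopa : (Nat.card (Subgroup.zpowers a)).Coprime (Nat.card V) := by
    rw [Nat.card_zpowers, hap]; exact hVcop.symm
  have hAbW : Ab ≤ Subgroup.normalizer (W : Set (M ⧸ O)) := by
    refine le_trans (le_inf hAV (fun g hg => Subgroup.le_normalizer ?_)) Subgroup.inf_normalizer_le_normalizer_inf
    rw [Subgroup.mem_centralizer_iff]
    intro b hb
    exact congrArg Subtype.val (hab.is_comm.comm ⟨b, hBA hb⟩ ⟨g, hg⟩)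
  -- the `a`-invariant part
  set U := ⁅W, Subgroup.zpowers a⁆ with hU
  have haW : Subgroup.zpowers a ≤ Subgroup.normalizer (W : Set (M ⧸ O)) := (Subgroup.zpowers_le.2 haA).trans hAbW
  have hUW : U ≤ W := Subgroup.le_normalizer_iff_commutator_le_left.1 haW
  have hcopW : (Nat.card (Subgroup.zpowers a)).Coprime (Nat.card W) :=
    hcopa.coprime_dvd_right (Subgroup.card_dvd_of_le inf_le_left)
  have hsa : Group.IsSolvable (Subgroup.zpowers a) :=
    Group.isSolvable_of_comm fun x y => mul_comm' x y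
  have hUne : U ≠ ⊥ := by
    intro h
    refine hW ?_
    rw [← hBa]
    refine sup_le (Subgroup.le_centralizer_iff.1 inf_le_right) (Subgroup.le_centralizer_iff.1 ?_)
    exact Subgroup.commutator_eq_bot_iff_le_centralizer.1 h
  have hUa : ⁅U, Subgroup.zpowers a⁆ = U :=
    CfsgLib.Coprime.commutator_commutator_eq haW hcopW (Or.inl hsa)
  obtain ⟨U', hU'm⟩ := exists_minimal_of_wellFoundedLT
    (fun S : Subgroup (M ⧸ O) => S ≤ U ∧ a ∈ Subgroup.normalizer (S : Set (M ⧸ O)) ∧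
      ¬ S ≤ Subgroup.centralizer (Subgroup.zpowers a : Set (M ⧸ O)))
    ⟨U, le_rfl, Subgroup.normalizer_commutator_ge_right W (Subgroup.zpowers a) (Subgroup.mem_zpowers a),
      fun h => hUne (by rwa [← Subgroup.commutator_eq_bot_iff_le_centralizer, hUa] at h)⟩
  clear hUa hUne
  obtain ⟨hU'U, haU', hU'c⟩ := hU'm.prop
  have hU'W : U' ≤ W := hU'U.trans hUW
  have hBU : ∀ b ∈ B, ∀ u ∈ U', b * u = u * b := fun b hb u hu =>
    Subgroup.mem_centralizer_iff.1 (Subgroup.mem_inf.1 (hU'W hu)).2 b hb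
  have hAbU : Ab ≤ Subgroup.normalizer (U' : Set (M ⧸ O)) := by
    rw [← hBa]
    refine sup_le (fun b hb => Subgroup.centralizer_le_normalizer _ ?_) (Subgroup.zpowers_le.2 haU')
    exact Subgroup.mem_centralizer_iff.2 fun u hu => (hBU b hb u hu).symm
  have hcopU : (Nat.card (Subgroup.zpowers a)).Coprime (Nat.card U') :=
    hcopW.coprime_dvd_right (Subgroup.card_dvd_of_le hU'W)
  have haU : Subgroup.zpowers a ≤ Subgroup.normalizer (U' : Set (M ⧸ O)) := Subgroup.zpowers_le.2 haU'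
  have hU'a : ⁅U', Subgroup.zpowers a⁆ = U' := by
    have hle : ⁅U', Subgroup.zpowers a⁆ ≤ U' := Subgroup.le_normalizer_iff_commutator_le_left.1 haU
    refine (hU'm.eq_of_le ⟨hle.trans hU'U,
      Subgroup.normalizer_commutator_ge_right U' (Subgroup.zpowers a) (Subgroup.mem_zpowers a),
      fun h => hU'c ?_⟩ hle)
    rw [← Subgroup.commutator_eq_bot_iff_le_centralizer] at h ⊢
    exact CfsgLib.Coprime.commutator_eq_bot_of_commutator_commutator haU hcopU (Or.inl hsa) h
  have hU'A : ⁅U', Ab⁆ = U' :=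
    le_antisymm (Subgroup.le_normalizer_iff_commutator_le_left.1 hAbU)
      (hU'a.ge.trans (Subgroup.commutator_mono le_rfl (Subgroup.zpowers_le.2 haA)))
  have hU'cop : (Nat.card U').Coprime p :=
    hVcop.coprime_dvd_left (Subgroup.card_dvd_of_le (hU'W.trans inf_le_left))
  -- the minimal supplement `H`
  obtain ⟨H, hHm⟩ := exists_minimal_of_wellFoundedLT (fun H : Subgroup M => A ≤ H ∧ U' ≤ H.map π ∧ H.map π ≤ U' ⊔ Ab)
    ⟨(U' ⊔ Ab).comap π, Subgroup.map_le_iff_le_comap.1 le_sup_right,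
      by rw [Subgroup.map_comap_eq_self_of_surjective hπs]; exact le_sup_left,
      (Subgroup.map_comap_eq_self_of_surjective hπs _).le⟩
  obtain ⟨hAH, hUH, hHU⟩ := hHm.prop
  have hmin : ∀ T : Subgroup M, A ≤ T → U' ≤ T.map π → T ≤ H → T = H := fun T h1 h2 h3 =>
    (hHm.eq_of_le ⟨h1, h2, (Subgroup.map_mono h3).trans hHU⟩ h3)
  have hdec : ∀ w ∈ U' ⊔ Ab, ∃ u ∈ U', ∃ b ∈ Ab, w = u * b := by
    intro w hw
    rw [← SetLike.mem_coe, Subgroup.coe_mul_of_right_le_normalizer_left _ _ hAbU] at hw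
    obtain ⟨u, hu, b, hb, rfl⟩ := hw
    exact ⟨u, hu, b, hb, rfl⟩
  have hprime : ∀ w ∈ U' ⊔ Ab, (orderOf w).Coprime p → w ∈ U' := by
    intro w hw hwp
    obtain ⟨u, hu, b, hb, rfl⟩ := hdec w hw
    have hn : (U'.subgroupOf (U' ⊔ Ab)).Normal :=
      (Subgroup.normal_subgroupOf_iff_le_normalizer le_sup_left).2 (sup_le Subgroup.le_normalizer hAbU)
    have hwp' : (u * b) ^ p ∈ U' := by
      show (⟨u * b, hw⟩ : ↥(U' ⊔ Ab)) ^ p ∈ U'.subgroupOf (U' ⊔ Ab)
      rw [← QuotientGroup.eq_one_iff]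
      have e1 : (QuotientGroup.mk (⟨u * b, hw⟩ : ↥(U' ⊔ Ab)) : ↥(U' ⊔ Ab) ⧸ U'.subgroupOf (U' ⊔ Ab)) =
          QuotientGroup.mk (⟨b, Subgroup.mem_sup_right hb⟩ : ↥(U' ⊔ Ab)) := by
        rw [show (⟨u * b, hw⟩ : ↥(U' ⊔ Ab)) = ⟨u, Subgroup.mem_sup_left hu⟩ * ⟨b, Subgroup.mem_sup_right hb⟩ from rfl,
          QuotientGroup.mk_mul, (QuotientGroup.eq_one_iff _).2 (show (⟨u, Subgroup.mem_sup_left hu⟩ : ↥(U' ⊔ Ab)) ∈ U'.subgroupOf (U' ⊔ Ab) from hu), one_mul]
      rw [QuotientGroup.mk_pow, e1, ← QuotientGroup.mk_pow,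
        show (⟨b, Subgroup.mem_sup_right hb⟩ : ↥(U' ⊔ Ab)) ^ p = 1 from Subtype.ext (hexp b hb), QuotientGroup.mk_one]
    obtain ⟨t, ht⟩ := exists_pow_eq_self_of_coprime (n := p) (x := u * b) hwp.symm
    rw [← ht]; exact pow_mem hwp' t
  set K := (Cfsg.pResidual p ↥H).map H.subtype with hK
  have hKH : K ≤ H := Subgroup.map_subtype_le _
  have hKgen : ∀ g ∈ H, (orderOf g).Coprime p → g ∈ K := fun g hg hgp =>
    ⟨⟨g, hg⟩, Subgroup.subset_closure (by rwa [Set.mem_setOf_eq, Subgroup.orderOf_mk]), rfl⟩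
  have hKU : K.map π ≤ U' := by
    rw [hK, Cfsg.pResidual, MonoidHom.map_closure, MonoidHom.map_closure, Subgroup.closure_le]
    rintro _ ⟨_, ⟨g, hg, rfl⟩, rfl⟩
    refine hprime _ (hHU (Subgroup.mem_map_of_mem π g.2)) (hg.coprime_dvd_left ?_)
    rw [← Subgroup.orderOf_coe g]
    exact orderOf_map_dvd π (g : M)
  have hUK : U' ≤ K.map π := by
    intro u hu
    obtain ⟨g, hg, hgu⟩ := hUH hu
    obtain ⟨e, he1, he2⟩ := exists_prime_part (p := p) π g
      (hgu ▸ hU'cop.coprime_dvd_left (Subgroup.orderOf_dvd_natCard U' hu))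
    exact ⟨g ^ e, hKgen _ (H.pow_mem hg e) he1, he2.trans hgu⟩
  haveI hKn : (Cfsg.pResidual p ↥H).Normal := by
    refine ⟨fun n hn g => ?_⟩
    have : MulAut.conj g n ∈ (Cfsg.pResidual p ↥H).map (MulAut.conj g).toMonoidHom := ⟨n, hn, rfl⟩
    rw [Cfsg.pResidual, MonoidHom.map_closure] at this
    refine Subgroup.closure_mono ?_ this
    rintro _ ⟨w, hw, rfl⟩
    show (orderOf (MulAut.conj g w)).Coprime p
    rw [MulEquiv.orderOf_eq]; exact hw
  -- choice of `x`
  obtain ⟨u, hu, hua⟩ : ∃ u ∈ U', a * u ≠ u * a := by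
    by_contra h
    push Not at h
    refine hU'c fun u hu => Subgroup.mem_centralizer_iff.2 ?_
    rintro _ ⟨i, rfl⟩
    exact ((show Commute a u from h u hu).zpow_left i).eq
  obtain ⟨x, hxK, hxu⟩ := hUK hu
  have hxH : x ∈ H := hKH hxK
  have hL : A ⊔ A.map (MulAut.conj x).toMonoidHom = H := by
    have hle : A.map (MulAut.conj x).toMonoidHom ≤ H := by
      rintro _ ⟨g, hg, rfl⟩
      exact mul_mem (mul_mem hxH (hAH hg)) (inv_mem hxH)
    refine hmin _ le_sup_left ?_ (sup_le hAH hle)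
    set L := A ⊔ A.map (MulAut.conj x).toMonoidHom
    have hY : U' ⊓ L.map π = U' := by
      refine (hU'm.eq_of_le ⟨inf_le_left.trans hU'U, ?_, fun h => hua ?_⟩ inf_le_left)
      · refine Subgroup.inf_normalizer_le_normalizer_inf (Subgroup.mem_inf.2 ⟨haU', Subgroup.le_normalizer ?_⟩)
        exact Subgroup.map_mono (le_sup_left : A ≤ L) haA
      · set d := u * a * u⁻¹ * a⁻¹ with hd
        have hdU : d ∈ U' := by
          rw [hd, mul_assoc, mul_assoc, ← mul_assoc a]
          exact mul_mem hu ((Subgroup.mem_normalizer_iff.1 haU' _).1 (inv_mem hu))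
        have hdL : d ∈ L.map π := by
          obtain ⟨g, hg, hga⟩ := Subgroup.mem_map.1 (show a ∈ A.map π from haA)
          refine ⟨x * g * x⁻¹ * g⁻¹, mul_mem (Subgroup.mem_sup_right ⟨g, hg, rfl⟩)
            (inv_mem (Subgroup.mem_sup_left hg)), ?_⟩
          simp [hd, hga, hxu]
        have hda : Commute a d :=
          Subgroup.mem_centralizer_iff.1 (h (Subgroup.mem_inf.2 ⟨hdU, hdL⟩)) a (Subgroup.mem_zpowers a)
        have hdp : d ^ p = 1 := by
          have hi : ∀ i : ℕ, u * a ^ i * u⁻¹ = d ^ i * a ^ i := by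
            intro i
            rw [← hda.symm.mul_pow, hd, inv_mul_cancel_right, conj_pow]
          have hap1 : a ^ p = 1 := hexp a haA
          have := hi p
          rw [hap1, mul_one, mul_inv_cancel, mul_one] at this
          exact this.symm
        have hd1 : d = 1 := orderOf_eq_one_iff.1 (Nat.eq_one_of_dvd_coprimes hU'cop
          (Subgroup.orderOf_dvd_natCard U' hdU) (orderOf_dvd_of_pow_eq_one hdp))
        rw [hd, mul_inv_eq_one, mul_inv_eq_iff_eq_mul] at hd1
        exact hd1.symm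
    exact hY.ge.trans inf_le_right
  -- `O_p` and commutators
  have hBcen : B.map (MonoidHom.id (M ⧸ O)) ≤ Subgroup.centralizer ((U' ⊔ Ab : Subgroup (M ⧸ O)) : Set (M ⧸ O)) := by
    rintro _ ⟨b, hb, rfl⟩
    rw [Subgroup.mem_centralizer_iff]
    intro w hw
    obtain ⟨v, hv, c, hc, rfl⟩ := hdec w hw
    have h1 : c * b = b * c := congrArg Subtype.val (hab.is_comm.comm ⟨c, hc⟩ ⟨b, hBA hb⟩)
    show v * c * b = b * (v * c)
    rw [mul_assoc, h1, ← mul_assoc, ← mul_assoc, hBU b hb v hv]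
  rw [Subgroup.map_id] at hBcen
  have hPcap : A ⊓ (Cfsg.pCore p ↥H).map H.subtype = A ⊓ B.comap π := by
    haveI := CfsgLib.Solvable.pCore_normal p ↥H
    refine le_antisymm (le_inf inf_le_left ?_) (le_inf inf_le_left ?_)
    · intro g hg
      obtain ⟨hgA, g', hg', hgg⟩ := Subgroup.mem_inf.1 hg
      rw [Subgroup.mem_comap]
      by_contra hgB
      -- `π g` generates `Ab` over `B` and centralises `U'`
      have hgc : ∀ v ∈ U', π g * v = v * π g := by
        intro v hv
        obtain ⟨w, hw, rfl⟩ := hUH hv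
        set Pc := ((Cfsg.pCore p ↥H).map H.subtype).map π with hPc
        have hPp : IsPGroup p Pc := ((CfsgLib.Solvable.pCore_isPGroup p).map _).map π
        have hd : ⁅π g, π w⁆ ∈ Pc := by
          rw [← map_commutatorElement, ← hgg]
          refine Subgroup.mem_map_of_mem π ⟨g' * (⟨w, hw⟩ * g'⁻¹ * (⟨w, hw⟩ : H)⁻¹),
            mul_mem hg' (Subgroup.Normal.conj_mem inferInstance _ (inv_mem hg') _), ?_⟩
          simp [commutatorElement_def, mul_assoc]
        have hd' : ⁅π g, π w⁆ ∈ U' := by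
          rw [commutatorElement_def]
          exact mul_mem ((Subgroup.mem_normalizer_iff.1 (hAbU (Subgroup.mem_map_of_mem π hgA)) _).1 hv) (inv_mem hv)
        rw [← commutatorElement_eq_one_iff_mul_comm, ← Subgroup.mem_bot,
          ← CfsgLib.Coprime.inf_eq_bot_of_coprime (A := Pc) (N := U') ?_]
        · exact Subgroup.mem_inf.2 ⟨hd, hd'⟩
        · obtain ⟨nc, hnc⟩ := IsPGroup.iff_card.1 hPp
          rw [hnc]; exact Nat.Coprime.pow_left nc hU'cop.symm
      have hgAb : π g ∈ B ⊔ Subgroup.zpowers a := hBa.ge (Subgroup.mem_map_of_mem π hgA)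
      rw [← SetLike.mem_coe, Subgroup.coe_mul_of_right_le_normalizer_left _ _ (fun c hc => by
        refine Subgroup.centralizer_le_normalizer _ ?_
        exact Subgroup.mem_centralizer_iff.2 fun b hb => congrArg Subtype.val
          (hab.is_comm.comm ⟨b, hBA hb⟩ ⟨c, (Subgroup.zpowers_le.2 haA) hc⟩))] at hgAb
      obtain ⟨b, hb, _, ⟨i, rfl⟩, hbi⟩ := hgAb
      have hai : ∀ v ∈ U', Commute (a ^ i) v := by
        intro v hv
        rw [show a ^ i = b⁻¹ * π g by rw [← hbi]; group]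
        exact ((show Commute b v from hBU b hb v hv).inv_left).mul_left (hgc v hv)
      have hi : (i.gcd (p : ℤ)) = 1 := by
        rcases (Nat.dvd_prime hp).1 (show i.gcd (p : ℤ) ∣ p from Int.natCast_dvd_natCast.1 (Int.gcd_dvd_right i p)) with h | h
        · exact h
        · exfalso
          obtain ⟨j, hj⟩ := (h ▸ Int.gcd_dvd_left i (p : ℤ) : (p : ℤ) ∣ i)
          have hai1 : a ^ i = 1 := by rw [hj, zpow_mul, zpow_natCast, hexp a haA, one_zpow]
          apply hgB
          rw [← hbi]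
          show b * a ^ i ∈ B
          rw [hai1, mul_one]
          exact hb
      refine hua ?_
      have : a = (a ^ i) ^ (i.gcdA (p : ℤ)) := by
        rw [← zpow_mul]
        conv_lhs => rw [← zpow_one a, show (1 : ℤ) = i * i.gcdA (p : ℤ) + (p : ℤ) * i.gcdB (p : ℤ) from
          by rw [← Int.gcd_eq_gcd_ab, hi]; rfl, zpow_add, zpow_mul a (p : ℤ), zpow_natCast, hexp a haA, one_zpow, mul_one]
      rw [this]
      exact ((hai u hu).zpow_left _).eq
    · intro g hg
      obtain ⟨hgA, hgB⟩ := Subgroup.mem_inf.1 hg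
      refine ⟨⟨g, hAH hgA⟩, ?_, rfl⟩
      let N0 : Subgroup H := (B.comap π).subgroupOf H
      have hN0n : N0.Normal := by
        refine ⟨fun n hn h => ?_⟩
        show π ((h : M) * n * (h : M)⁻¹) ∈ B
        have hc := Subgroup.mem_centralizer_iff.1 (hBcen hn) (π h) (hHU (Subgroup.mem_map_of_mem π h.2))
        rw [map_mul, map_mul, map_inv]
        rw [show π (h : M) * π (n : M) = π n * π h from hc, mul_inv_cancel_right]
        exact hn
      have hN0p : IsPGroup p N0 := by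
        refine IsPGroup.comap_subtype ((hAp.to_le hBA).comap_of_ker_isPGroup π ?_)
        rw [hπ, QuotientGroup.ker_mk']
        exact CfsgLib.Solvable.pCore_isPGroup p
      exact CfsgLib.Solvable.le_pCore hN0n hN0p (show (⟨g, hAH hgA⟩ : H) ∈ N0 from hgB)
  refine ⟨x, ?_, ?_⟩
  · show π x ∈ V
    exact (hU'W.trans inf_le_left) (hxu ▸ hu)
  rw [hL]
  refine ⟨hxK, ?_, ?_, ?_, ?_⟩
  · exact fun g hg => (hU'W.trans inf_le_left) (hKU (Subgroup.mem_map_of_mem π hg))
  · -- `[K, A] = K`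
    have hAK : A ≤ Subgroup.normalizer (K : Set M) := by
      refine hAH.trans fun g hg => ?_
      exact Subgroup.le_normalizer_map H.subtype ⟨⟨g, hg⟩, by rw [Subgroup.normalizer_eq_top]; exact Subgroup.mem_top _, rfl⟩
    set T := ⁅K, A⁆ with hT
    have hTK : T ≤ K := Subgroup.le_normalizer_iff_commutator_le_left.1 hAK
    refine le_antisymm hTK ?_
    have hTn : A ≤ Subgroup.normalizer (T : Set M) := Subgroup.normalizer_commutator_ge_right K A
    have hTA : A ⊔ T = H := by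
      refine hmin _ le_sup_left ?_ (sup_le hAH (hTK.trans hKH))
      refine le_trans ?_ (Subgroup.map_mono le_sup_right)
      rw [hT, Subgroup.map_commutator, ← hAb, ← hU'A]
      exact Subgroup.commutator_mono hUK le_rfl
    have hTnH : (T.subgroupOf H).Normal := by
      refine (Subgroup.normal_subgroupOf_iff_le_normalizer (hTK.trans hKH)).2 ?_
      rw [← hTA]
      exact sup_le hTn Subgroup.le_normalizer
    rintro _ ⟨g, hg, rfl⟩
    have hPA : IsPGroup p (↥H ⧸ T.subgroupOf H) := by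
      intro q
      obtain ⟨g, rfl⟩ := QuotientGroup.mk_surjective q
      have hg' : (g : M) ∈ A ⊔ T := hTA.symm ▸ g.2
      rw [← SetLike.mem_coe, Subgroup.coe_mul_of_left_le_normalizer_right _ _ hTn] at hg'
      obtain ⟨b, hb, t, ht, hbt⟩ := hg'
      obtain ⟨i, hi⟩ := hA ⟨b, hb⟩
      refine ⟨i, ?_⟩
      have e1 : g = ⟨b, hAH hb⟩ * ⟨t, hTK.trans hKH ht⟩ := Subtype.ext hbt.symm
      rw [e1, QuotientGroup.mk_mul, (QuotientGroup.eq_one_iff _).2 (show (⟨t, hTK.trans hKH ht⟩ : H) ∈ T.subgroupOf H from ht),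
        mul_one, ← QuotientGroup.mk_pow, show (⟨b, hAH hb⟩ : H) ^ p ^ i = 1 from Subtype.ext (congrArg Subtype.val hi :),
        QuotientGroup.mk_one]
    induction hg using Subgroup.closure_induction with
    | mem g hg =>
      obtain ⟨i, hi⟩ := hPA (QuotientGroup.mk g)
      rw [← QuotientGroup.mk_pow, QuotientGroup.eq_one_iff] at hi
      obtain ⟨t, ht⟩ := exists_pow_eq_self_of_coprime (n := p ^ i) (x := g) (Nat.Coprime.pow_left i hg.symm)
      rw [← ht]
      exact pow_mem (show ((g ^ p ^ i : H) : M) ∈ T from hi) t |> fun h => by simpa using h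
    | one => exact one_mem _
    | mul a b _ _ ha hb => exact mul_mem ha hb
    | inv a _ ha => exact inv_mem ha
  · rw [hPcap, inf_comm, Subgroup.inf_relIndex_right, Subgroup.relIndex_comap, ← hAb, ← hBa]
    have hinf : Subgroup.zpowers a ⊓ B = ⊥ := by
      by_contra hne
      have hc : Nat.card (Subgroup.zpowers a) = p := by rw [Nat.card_zpowers, hap]
      rcases (Nat.dvd_prime hp).1 (hc ▸ Subgroup.card_dvd_of_le (inf_le_left : Subgroup.zpowers a ⊓ B ≤ _)) with h | h
      · exact hne (Subgroup.card_eq_one.1 h)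
      · have := Subgroup.eq_of_le_of_card_ge (inf_le_left : Subgroup.zpowers a ⊓ B ≤ _) (hc.le.trans h.ge)
        exact haB ((this.ge.trans inf_le_right) (Subgroup.mem_zpowers a))
    have hn : Subgroup.zpowers a ≤ Subgroup.normalizer (B : Set (M ⧸ O)) := by
      refine (Subgroup.zpowers_le.2 haA).trans fun c hc => Subgroup.centralizer_le_normalizer _ ?_
      exact Subgroup.mem_centralizer_iff.2 fun b hb => congrArg Subtype.val (hab.is_comm.comm ⟨b, hBA hb⟩ ⟨c, hc⟩)
    have h1 := Subgroup.card_mul_index (B.subgroupOf (B ⊔ Subgroup.zpowers a))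
    rw [CfsgLib.Coprime.card_subgroupOf le_sup_left, CfsgLib.Coprime.card_sup_of_inf_eq_bot hn hinf,
      Nat.card_zpowers, hap] at h1
    exact Nat.eq_of_mul_eq_mul_left Nat.card_pos h1
  · rw [hPcap, Subgroup.commutator_le]
    intro g hg h hh
    rw [← QuotientGroup.eq_one_iff (N := O)]
    show π ⁅g, h⁆ = 1
    rw [map_commutatorElement, commutatorElement_eq_one_iff_mul_comm]
    exact (Subgroup.mem_centralizer_iff.1 (hBcen (Subgroup.mem_inf.1 hg).2) (π h)
      (hHU (Subgroup.mem_map_of_mem π hh))).symm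

end Cfsg.Agent.S3754
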