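import Cfsg.Statements.S3755
import Cfsg.Agent.Lib.Coprime.Generation
import Cfsg.Agent.Lib.Comp.Local
import Cfsg.Agent.S2758
import Cfsg.Agent.S2759


set_option autoImplicit false
open Cfsg

namespace Cfsg.Agent.S3755

open Subgroup
open scoped commutatorElement

/-- An element of prime order `p ≥ 5` inverted by an involution which nearly centralizes. -/
theorem four_le_index {X : Type*} [Group X] [Finite X] {C : Subgroup X} {a x : X} {p : ℕ} (hp : p.Prime)
    (hp5 : 4 < p) (hC2 : ∀ c ∈ C, c * c = 1) (hCc : ∀ c ∈ C, ∀ d ∈ C, c * d = d * c)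
    (hxC : x ∈ normalizer (C : Set X)) (hxp : orderOf x = p)
    (hax : a * x * a⁻¹ = x⁻¹) (hx : ¬ ∀ c ∈ C, x * c = c * x) :
    4 ≤ (C ⊓ centralizer ({a} : Set X)).relIndex C := by
  set D := C ⊓ centralizer ({a} : Set X) with hD
  by_contra hlt
  push Not at hlt
  set D' := D ⊓ D.map (MulAut.conj x).toMonoidHom with hD'
  have hDle : D ≤ C := inf_le_left
  have hD2le : D.map (MulAut.conj x).toMonoidHom ≤ C := by
    rintro _ ⟨c, hc, rfl⟩
    exact (mem_normalizer_iff.1 hxC c).1 (hDle hc)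
  -- `x` centralizes `D'`
  have hxD : ∀ c ∈ D', x * c = c * x := by
    rintro c ⟨hc, c', hc', hcc⟩
    have h1 : a * c = c * a := (mem_centralizer_singleton_iff.1 hc.2).symm
    have h2 : a * c' = c' * a := (mem_centralizer_singleton_iff.1 hc'.2).symm
    have hcc' : x * c' * x⁻¹ = c := hcc
    have h3 : Commute (x * a * x⁻¹) c := by
      rw [← hcc']
      exact (show Commute a c' from h2).map (MulAut.conj x).toMonoidHom
    have h4 : x * a * x⁻¹ = x ^ 2 * a := by
      calc x * a * x⁻¹ = x * (a * x⁻¹ * a⁻¹) * a := by group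
        _ = x * x * a := by rw [show a * x⁻¹ * a⁻¹ = (a * x * a⁻¹)⁻¹ by group, hax, inv_inv]
        _ = _ := by rw [pow_two]
    have h5 : Commute (x ^ 2) c := by
      rw [show x ^ 2 = (x * a * x⁻¹) * a⁻¹ by rw [h4, mul_inv_cancel_right]]
      exact h3.mul_left (show Commute a c from h1).inv_left
    obtain ⟨m, hm⟩ := exists_pow_eq_self_of_coprime (n := 2) (x := x) (by
      rw [hxp]; exact (Nat.coprime_primes Nat.prime_two hp).2 (by omega))
    have := h5.pow_left m
    rw [hm] at this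
    exact this.eq
  -- hence moves at most four cosets
  have hC2p : IsPGroup 2 C := fun c => ⟨1, Subtype.ext (by rw [pow_one, pow_two]; exact hC2 c c.2)⟩
  haveI : Fact (Nat.Prime 2) := ⟨Nat.prime_two⟩
  have hD2 : D.relIndex C ≤ 2 := by
    obtain ⟨n, hn⟩ := IsPGroup.iff_card.1 hC2p
    have h1 : D.relIndex C ∣ 2 ^ n := hn ▸ relIndex_dvd_card D C
    obtain ⟨j, -, hj⟩ := (Nat.dvd_prime_pow Nat.prime_two).1 h1
    rw [hj] at hlt ⊢
    have : j ≤ 1 := by
      by_contra h
      have := Nat.pow_le_pow_right (show 0 < 2 by norm_num) (show 2 ≤ j by omega)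
      omega
    calc 2 ^ j ≤ 2 ^ 1 := Nat.pow_le_pow_right (by norm_num) this
      _ = 2 := pow_one 2
  have hidx : D'.relIndex C ≤ 4 := by
    refine (relIndex_inf_le).trans ?_
    have h1 : (D.map (MulAut.conj x).toMonoidHom).relIndex C = D.relIndex C := by
      have hC : C.map (MulAut.conj x).toMonoidHom = C := CfsgLib.Coprime.map_conj_of_mem_normalizer hxC
      conv_lhs => rw [← hC]
      exact relIndex_map_map_of_injective _ _ (MulAut.conj x).injective
    rw [h1]
    nlinarith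
  push Not at hx
  obtain ⟨c, hc, hxc⟩ := hx
  have hxCi : ∀ i : ℕ, x ^ i * c * (x ^ i)⁻¹ ∈ C := fun i =>
    (mem_normalizer_iff.1 (pow_mem hxC i) c).1 hc
  let f : Fin p → C ⧸ D'.subgroupOf C := fun i => QuotientGroup.mk ⟨_, hxCi i⟩
  have hf : Function.Injective f := by
    intro i j hij
    by_contra hne
    wlog hlt' : (i : ℕ) < j generalizing i j
    · exact this hij.symm (Ne.symm hne) (by have := Fin.val_ne_of_ne hne; omega)
    have h := (QuotientGroup.eq).1 hij
    obtain ⟨k, hk⟩ := Nat.exists_eq_add_of_lt hlt'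
    set e := (x ^ (i : ℕ) * c * (x ^ (i : ℕ))⁻¹)⁻¹ * (x ^ (j : ℕ) * c * (x ^ (j : ℕ))⁻¹) with he
    have heD : e ∈ D' := h
    have hxe : ∀ n : ℕ, Commute (x ^ n) e := fun n => (show Commute x e from hxD e heD).pow_left n
    set y := x ^ (k + 1) with hy
    set b := x ^ (i : ℕ) * c * (x ^ (i : ℕ))⁻¹ with hb
    have hyb : y * b * y⁻¹ = b * e := by
      rw [he, mul_inv_cancel_left, hb, hy, hk]
      group
    have hn : ∀ n : ℕ, y ^ n * b * (y ^ n)⁻¹ = b * e ^ n := by
      intro n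
      induction n with
      | zero => simp
      | succ n ih =>
        have hye : Commute y (e ^ n) := (hxe (k + 1)).pow_right n
        calc y ^ (n + 1) * b * (y ^ (n + 1))⁻¹ = y * (y ^ n * b * (y ^ n)⁻¹) * y⁻¹ := by rw [pow_succ']; group
          _ = y * (b * e ^ n) * y⁻¹ := by rw [ih]
          _ = (y * b * y⁻¹) * (y * e ^ n * y⁻¹) := by group
          _ = _ := by rw [hyb, hye.eq, mul_inv_cancel_right, mul_assoc, ← pow_succ']
    have h1 := hn p
    rw [hy, ← pow_mul, mul_comm, pow_mul, ← hxp, pow_orderOf_eq_one, one_pow, one_mul, inv_one, mul_one,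
      left_eq_mul, hxp] at h1
    have he2 : e ^ 2 = 1 := by rw [pow_two]; exact hC2 e (hDle heD.1)
    have he1 : e = 1 := orderOf_eq_one_iff.1 (Nat.eq_one_of_dvd_coprimes
      ((Nat.coprime_primes Nat.prime_two hp).2 (by omega)) (orderOf_dvd_of_pow_eq_one he2)
      (orderOf_dvd_of_pow_eq_one h1))
    rw [he1, mul_one] at hyb
    obtain ⟨m, hm⟩ := exists_pow_eq_self_of_coprime (n := k + 1) (x := x) (by
      rw [hxp]
      exact ((hp.coprime_iff_not_dvd).2 fun hd => by
        have := Nat.le_of_dvd (by omega) hd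
        omega).symm)
    have hxb : Commute x b := by
      have := (show Commute y b from mul_inv_eq_iff_eq_mul.1 hyb).pow_left m
      rwa [hy, hm] at this
    apply hxc
    rw [hb] at hxb
    calc x * c = (x ^ (i : ℕ))⁻¹ * (x * (x ^ (i : ℕ) * c * (x ^ (i : ℕ))⁻¹)) * x ^ (i : ℕ) := by group
      _ = (x ^ (i : ℕ))⁻¹ * ((x ^ (i : ℕ) * c * (x ^ (i : ℕ))⁻¹) * x) * x ^ (i : ℕ) := by rw [hxb.eq]
      _ = c * x := by group
  have := Nat.card_le_card_of_injective f hf
  rw [Nat.card_fin] at this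
  exact absurd (this.trans hidx) (by omega)

theorem sq_le_index {X : Type*} [Group X] [Finite X] {M V K : Subgroup X} (hV : Cfsg.IsElementaryAbelian 2 V)
    (hMV : M ≤ normalizer (V : Set X)) (hfaith : M ⊓ centralizer (V : Set X) = ⊥) (hKM : K ≤ M)
    (hKn : M ≤ normalizer (K : Set X)) (hKo : (Nat.card K).Coprime 2)
    (hno : ∀ a x : X, a ∈ M → x ∈ M → orderOf a = 2 → orderOf x = 3 → a * x * a⁻¹ ≠ x⁻¹) :
    ∀ A : Subgroup X, A ≤ M → Cfsg.IsElementaryAbelian 2 A → A ⊓ centralizer (K : Set X) = ⊥ →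
      Nat.card A ^ 2 ≤ (V ⊓ centralizer (A : Set X)).relIndex V := by
  intro A
  induction hn : Nat.card A using Nat.strong_induction_on generalizing A with
  | _ n ih =>
  subst hn
  intro hAM hA hAK
  classical
  by_cases hA1 : A = ⊥
  · rw [hA1, card_bot, one_pow]
    exact Nat.one_le_iff_ne_zero.2 FiniteIndex.index_ne_zero
  haveI : Fact (Nat.Prime 2) := ⟨Nat.prime_two⟩
  have hab := hA.1
  have hA2 : IsPGroup 2 A := fun v => ⟨1, Subtype.ext (by simpa using hA.2 v v.2)⟩
  have hV2 : IsPGroup 2 V := fun v => ⟨1, Subtype.ext (by simpa using hV.2 v v.2)⟩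
  obtain ⟨na, hna⟩ := IsPGroup.iff_card.1 hA2
  have hcop : (Nat.card A).Coprime (Nat.card K) := by rw [hna]; exact Nat.Coprime.pow_left _ hKo.symm
  have hAn : A ≤ normalizer (K : Set X) := hAM.trans hKn
  -- a hyperplane whose fixed points in `K` are moved
  obtain ⟨B, a, hBA, haA, hBa, hW⟩ : ∃ B : Subgroup X, ∃ a, B ≤ A ∧ a ∈ A ∧ B ⊔ zpowers a = A ∧
      ¬ A ≤ centralizer ((K ⊓ centralizer (B : Set X) : Subgroup X) : Set X) := by
    by_contra hno'
    push Not at hno'
    refine hA1 (eq_bot_iff.2 (hAK ▸ le_inf le_rfl (le_centralizer_iff.1 ?_)))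
    conv_lhs => rw [← CfsgLib.Coprime.cocyclicJoin_eq hab hAn hcop]
    refine iSup₂_le ?_
    rintro B ⟨hB, a, ha, hBa⟩
    exact le_centralizer_iff.1 (hno' B a hB ha hBa)
  have hcomm : ∀ b ∈ A, ∀ b' ∈ A, b * b' = b' * b := fun b hb b' hb' =>
    congrArg Subtype.val (hab.is_comm.comm ⟨b, hb⟩ ⟨b', hb'⟩)
  have haB : a ∉ B := by
    intro h
    have : A = B := le_antisymm (hBa.ge.trans (sup_le le_rfl (zpowers_le.2 h))) hBA
    exact hW (le_centralizer_iff.1 (this ▸ inf_le_right))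
  have ha2 : a * a = 1 := by rw [← pow_two]; exact hA.2 a haA
  have hao : orderOf a = 2 := orderOf_eq_prime (hA.2 a haA) fun h => haB (h ▸ B.one_mem)
  have hainv : a⁻¹ = a := inv_eq_of_mul_eq_one_right ha2
  obtain ⟨w, hw, hwa⟩ : ∃ w ∈ K ⊓ centralizer (B : Set X), a * w ≠ w * a := by
    by_contra h
    push Not at h
    refine hW ?_
    rw [← hBa]
    refine sup_le (le_centralizer_iff.1 inf_le_right) (zpowers_le.2 (mem_centralizer_iff.2 fun w hw => (h w hw).symm))
  set d := w * a * w⁻¹ * a⁻¹ with hd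
  have hdW : d ∈ K ⊓ centralizer (B : Set X) := by
    have haW : a ∈ normalizer ((K ⊓ centralizer (B : Set X) : Subgroup X) : Set X) := by
      refine inf_normalizer_le_normalizer_inf (mem_inf.2 ⟨hAn haA, Subgroup.le_normalizer ?_⟩)
      exact mem_centralizer_iff.2 fun b hb => hcomm b (hBA hb) a haA
    rw [hd, mul_assoc, mul_assoc, ← mul_assoc a]
    exact mul_mem hw ((mem_normalizer_iff.1 haW _).1 (inv_mem hw))
  have hd1 : d ≠ 1 := by
    intro h
    rw [hd, mul_inv_eq_one, mul_inv_eq_iff_eq_mul] at h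
    exact hwa h.symm
  have hdinv : a * d * a⁻¹ = d⁻¹ := by
    rw [hd]
    simp only [mul_inv_rev, inv_inv, hainv, ← mul_assoc]
    rw [mul_assoc (a * w * a * w⁻¹) a a, ha2, mul_one]
  -- an inverted element of prime order
  obtain ⟨p, hp, hpd⟩ := Nat.exists_prime_and_dvd (fun h => hd1 (orderOf_eq_one_iff.1 h))
  obtain ⟨m, hm⟩ := hpd
  set x := d ^ m with hx
  have hxp : orderOf x = p := by
    rw [hx, orderOf_pow' _ (by rintro rfl; exact (orderOf_pos d).ne' (by rw [hm, mul_zero]))]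
    rw [hm, Nat.gcd_mul_left_left, Nat.mul_div_cancel]
    exact Nat.pos_of_ne_zero (by rintro rfl; exact (orderOf_pos d).ne' (by rw [hm, mul_zero]))
  have hxW : x ∈ K ⊓ centralizer (B : Set X) := pow_mem hdW m
  have hax : a * x * a⁻¹ = x⁻¹ := by rw [hx, ← conj_pow, hdinv, inv_pow]
  have hp2 : p ≠ 2 := fun h => by
    have := (hxp ▸ (orderOf_dvd_natCard K hxW.1 : orderOf x ∣ Nat.card K))
    rw [h] at this
    exact Nat.prime_two.ne_one (Nat.dvd_one.1 (hKo ▸ Nat.dvd_gcd this (dvd_refl 2)))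
  have hp3 : p ≠ 3 := fun h => hno a x (hAM haA) (hKM hxW.1) hao (hxp.trans h) hax
  have hp5 : 4 < p := by
    have := hp.two_le
    by_contra h
    push Not at h
    interval_cases p <;> first | exact hp2 rfl | exact hp3 rfl | exact absurd hp (by decide)
  -- `x` moves the fixed points of `B`
  set C := V ⊓ centralizer (B : Set X) with hC
  have hxBc : ∀ b ∈ B, b * x = x * b := fun b hb => mem_centralizer_iff.1 hxW.2 b hb
  have hxC : x ∈ normalizer (C : Set X) := by
    refine inf_normalizer_le_normalizer_inf (mem_inf.2 ⟨hMV (hKM hxW.1), Subgroup.le_normalizer ?_⟩)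
    exact mem_centralizer_iff.2 hxBc
  have hxmove : ¬ ∀ c ∈ C, x * c = c * x := by
    intro h
    have h2 := CfsgLib.Comp.le_centralizer_of_centralizes_fixed (R := V) (P := B) (Q := zpowers x) hV2
      (hA2.to_le hBA) (by rw [Nat.card_zpowers, hxp]; exact (Nat.coprime_primes hp Nat.prime_two).2 hp2)
      ((hBA.trans hAM).trans hMV) (zpowers_le.2 (hMV (hKM hxW.1)))
      (zpowers_le.2 (mem_centralizer_iff.2 hxBc)) (zpowers_le.2 (mem_centralizer_iff.2 fun c hc => (h c hc).symm))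
    have : x ∈ M ⊓ centralizer (V : Set X) := mem_inf.2 ⟨hKM hxW.1, h2 (mem_zpowers x)⟩
    rw [hfaith, mem_bot] at this
    rw [this, orderOf_one] at hxp
    exact hp.ne_one hxp.symm
  have h4 := four_le_index (C := C) (a := a) hp hp5 (fun c hc => by rw [← pow_two]; exact hV.2 c hc.1)
    (fun c hc e he => congrArg Subtype.val (hV.1.is_comm.comm ⟨c, hc.1⟩ ⟨e, he.1⟩)) hxC hxp hax hxmove
  have hCA : C ⊓ centralizer ({a} : Set X) = V ⊓ centralizer (A : Set X) := by
    refine le_antisymm (fun c hc => ?_) (fun c hc => ?_)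
    · obtain ⟨hcC, hca⟩ := mem_inf.1 hc
      obtain ⟨hcV, hcB⟩ := mem_inf.1 hcC
      refine mem_inf.2 ⟨hcV, ?_⟩
      have : A ≤ centralizer ({c} : Set X) := by
        rw [← hBa]
        refine sup_le (fun b hb => mem_centralizer_singleton_iff.2 (mem_centralizer_iff.1 hcB b hb))
          (zpowers_le.2 (mem_centralizer_singleton_iff.2 (mem_centralizer_singleton_iff.1 hca).symm))
      exact mem_centralizer_iff.2 fun b hb => mem_centralizer_singleton_iff.1 (this hb)
    · obtain ⟨hcV, hcA⟩ := mem_inf.1 hc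
      exact mem_inf.2 ⟨mem_inf.2 ⟨hcV, mem_centralizer_iff.2 fun b hb => mem_centralizer_iff.1 hcA b (hBA hb)⟩,
        mem_centralizer_singleton_iff.2 (mem_centralizer_iff.1 hcA a haA).symm⟩
  rw [hCA] at h4
  have hinf : zpowers a ⊓ B = ⊥ := by
    by_contra hne
    have hc : Nat.card (zpowers a) = 2 := by rw [Nat.card_zpowers, hao]
    rcases (Nat.dvd_prime Nat.prime_two).1 (hc ▸ card_dvd_of_le (inf_le_left : zpowers a ⊓ B ≤ _)) with h | h
    · exact hne (card_eq_one.1 h)
    · have := eq_of_le_of_card_ge (inf_le_left : zpowers a ⊓ B ≤ _) (hc.le.trans h.ge)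
      exact haB ((this.ge.trans inf_le_right) (mem_zpowers a))
  have haBn : zpowers a ≤ normalizer (B : Set X) := zpowers_le.2 (centralizer_le_normalizer _
    (mem_centralizer_iff.2 fun b hb => hcomm b (hBA hb) a haA))
  have hcard : Nat.card A = Nat.card B * 2 := by
    rw [← hBa, CfsgLib.Coprime.card_sup_of_inf_eq_bot haBn hinf, Nat.card_zpowers, hao]
  have hBlt : Nat.card B < Nat.card A := by
    rw [hcard]; have : 0 < Nat.card B := Nat.card_pos; omega
  have hB := ih _ hBlt B rfl (hBA.trans hAM)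
    ⟨IsMulCommutative.mk ⟨fun b b' => Subtype.ext (hcomm b (hBA b.2) b' (hBA b'.2))⟩, fun b hb => hA.2 b (hBA hb)⟩
    (eq_bot_iff.2 (hAK ▸ inf_le_inf_right _ hBA))
  rw [← relIndex_mul_relIndex (V ⊓ centralizer (A : Set X)) C V
    (inf_le_inf_left V (centralizer_le hBA)) inf_le_left]
  calc Nat.card A ^ 2 = 4 * Nat.card B ^ 2 := by rw [hcard]; ring
    _ ≤ _ := Nat.mul_le_mul h4 hB


/-- Let M and V be subgroups of a finite group with V an elementary abelian 2-group, M normalizing V and acting faithfully on it (M ∩ C(V) = 1), and C_M(O_{2'}(M)) ≤ O_{2'}(M). If some elementary abelian 2-subgroup A of M satisfies |V : C_V(A)| < |A|², then M has a section isomorphic to the symmetric group of degree 3. -/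
theorem result {X : Type*} [Group X] [Finite X] (M V : Subgroup X) (hV : Cfsg.IsElementaryAbelian 2 V) (hMV : M ≤ Subgroup.normalizer (V : Set X)) (hfaith : M ⊓ Subgroup.centralizer (V : Set X) = ⊥) (hcon : Subgroup.centralizer (Cfsg.pPrimeCore 2 ↥M : Set ↥M) ≤ Cfsg.pPrimeCore 2 ↥M) (A : Subgroup X) (hAM : A ≤ M) (hA : Cfsg.IsElementaryAbelian 2 A) (hsmall : (V ⊓ Subgroup.centralizer (A : Set X)).relIndex V < Nat.card A ^ 2) : Cfsg.Involves (Equiv.Perm (Fin 3)) ↥M := by
  classical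
  set O := Cfsg.pPrimeCore 2 ↥M with hO
  haveI : O.Normal := CfsgLib.Solvable.pPrimeCore_normal 2 _
  set K := O.map M.subtype with hK
  have hKM : K ≤ M := Subgroup.map_subtype_le _
  have hKn : M ≤ Subgroup.normalizer (K : Set X) := fun g hg =>
    Subgroup.le_normalizer_map M.subtype ⟨⟨g, hg⟩, by rw [Subgroup.normalizer_eq_top]; exact Subgroup.mem_top _, rfl⟩
  have hKo : (Nat.card K).Coprime 2 := by
    rw [hK, Subgroup.card_map_of_injective M.subtype_injective]
    exact CfsgLib.Solvable.pPrimeCore_coprime 2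
  have hAK : A ⊓ Subgroup.centralizer (K : Set X) = ⊥ := by
    rw [eq_bot_iff]
    intro g hg
    obtain ⟨hgA, hgC⟩ := Subgroup.mem_inf.1 hg
    have hgO : (⟨g, hAM hgA⟩ : M) ∈ O := hcon (Subgroup.mem_centralizer_iff.2 fun k hk =>
      Subtype.ext (Subgroup.mem_centralizer_iff.1 hgC (k : X) (Subgroup.mem_map_of_mem M.subtype hk)))
    rw [Subgroup.mem_bot]
    exact orderOf_eq_one_iff.1 (Nat.eq_one_of_dvd_coprimes hKo
      (Subgroup.orderOf_dvd_natCard K (Subgroup.mem_map_of_mem M.subtype hgO : g ∈ K))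
      (orderOf_dvd_of_pow_eq_one (hA.2 g hgA)))
  by_contra hinv
  refine absurd hsmall (not_lt.2 (sq_le_index hV hMV hfaith hKM hKn hKo ?_ A hAM hA hAK))
  intro a x ha hx hao hxo hax
  apply hinv
  haveI : Fact (Nat.Prime 3) := ⟨Nat.prime_three⟩
  obtain ⟨K', R', hn, ⟨e⟩⟩ := ((Cfsg.Agent.S2758.result (G := M) (p := 3) (by norm_num)).2).2
    ⟨⟨a, ha⟩, ⟨x, hx⟩, ⟨1, by rw [Subgroup.orderOf_mk, hao, pow_one]⟩, ⟨1, by rw [Subgroup.orderOf_mk, hxo, pow_one]⟩,
      fun h => by
        rw [show x = 1 from congrArg Subtype.val h, orderOf_one] at hxo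
        norm_num at hxo,
      Subtype.ext hax⟩
  exact ⟨K', R', hn, ⟨e.trans Cfsg.Agent.S2759.dihEquiv⟩⟩

end Cfsg.Agent.S3755
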