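import Cfsg.Statements.S3760
import Mathlib.Tactic


set_option autoImplicit false
open Cfsg

namespace Cfsg.Agent.S3760

/-- Let the group G act transitively on a set X, let x ∈ X with stabilizer H = G_x, and let K ≤ H. Then N_G(K) acts transitively on the set of fixed points of K if and only if every G-conjugate of K contained in H is already an H-conjugate of K. -/
theorem result {G : Type*} [Group G] {X : Type*} [MulAction G X] (htrans : ∀ a b : X, ∃ g : G, g • a = b) (x : X) (K : Subgroup G) (hK : K ≤ MulAction.stabilizer G x) : (∀ a b : X, (∀ k ∈ K, k • a = a) → (∀ k ∈ K, k • b = b) → ∃ g ∈ Subgroup.normalizer (K : Set G), g • a = b) ↔ ∀ g : G, K.map (MulAut.conj g).toMonoidHom ≤ MulAction.stabilizer G x → ∃ h ∈ MulAction.stabilizer G x, K.map (MulAut.conj g).toMonoidHom = K.map (MulAut.conj h).toMonoidHom := by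
  have hfix : ∀ g : G, K.map (MulAut.conj g).toMonoidHom ≤ MulAction.stabilizer G x ↔
      ∀ k ∈ K, k • (g⁻¹ • x) = g⁻¹ • x := by
    intro g
    constructor
    · intro h k hk
      have h1 : (g * k * g⁻¹) • x = x := MulAction.mem_stabilizer_iff.mp (h ⟨k, hk, rfl⟩)
      rw [← mul_smul, eq_inv_smul_iff, ← mul_smul, ← mul_assoc]
      exact h1
    · rintro h _ ⟨k, hk, rfl⟩
      rw [MulAction.mem_stabilizer_iff]
      show (g * k * g⁻¹) • x = x
      have h1 := h k hk
      rw [← mul_smul, eq_inv_smul_iff, ← mul_smul, ← mul_assoc] at h1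
      exact h1
  have hnorm : ∀ n : G, n ∈ Subgroup.normalizer (K : Set G) ↔ K.map (MulAut.conj n).toMonoidHom = K := by
    intro n
    rw [Subgroup.mem_normalizer_iff]
    constructor
    · intro h
      ext y
      constructor
      · rintro ⟨k, hk, rfl⟩; exact (h k).mp hk
      · intro hy
        refine ⟨n⁻¹ * y * n, (h _).mpr ?_, ?_⟩
        · rw [show n * (n⁻¹ * y * n) * n⁻¹ = y by group]; exact hy
        · show n * (n⁻¹ * y * n) * n⁻¹ = y
          group
    · intro h y
      constructor
      · intro hy; rw [← h]; exact ⟨y, hy, rfl⟩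
      · intro hy
        rw [← h] at hy
        obtain ⟨k, hk, hky⟩ := hy
        rw [show y = k by simpa using hky.symm]
        exact hk
  have hconj : ∀ a b : G, (K.map (MulAut.conj b).toMonoidHom).map (MulAut.conj a).toMonoidHom
      = K.map (MulAut.conj (a * b)).toMonoidHom := fun a b => by
    rw [Subgroup.map_map]; congr 1; ext y; simp [mul_assoc]
  constructor
  · intro h g hg
    obtain ⟨n, hn, hnx⟩ := h x (g⁻¹ • x) (fun k hk => MulAction.mem_stabilizer_iff.mp (hK hk))
      ((hfix g).mp hg)
    refine ⟨g * n, MulAction.mem_stabilizer_iff.mpr (by rw [mul_smul, hnx, smul_inv_smul]), ?_⟩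
    conv_lhs => rw [← (hnorm n).mp hn, hconj]
  · intro h a b ha hb
    have key : ∀ c : X, (∀ k ∈ K, k • c = c) → ∃ n ∈ Subgroup.normalizer (K : Set G), n • x = c := by
      intro c hc
      obtain ⟨g, rfl⟩ := htrans x c
      obtain ⟨s, hs, heq⟩ := h g⁻¹ ((hfix g⁻¹).mpr (by rw [inv_inv]; exact hc))
      refine ⟨g * s, (hnorm _).mpr ?_, by rw [mul_smul, MulAction.mem_stabilizer_iff.mp hs]⟩
      rw [← hconj, ← heq, hconj, mul_inv_cancel]
      ext y
      simp
    obtain ⟨n, hn, rfl⟩ := key a ha
    obtain ⟨m, hm, rfl⟩ := key b hb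
    exact ⟨m * n⁻¹, mul_mem hm (inv_mem hn), by rw [mul_smul, inv_smul_smul]⟩

end Cfsg.Agent.S3760
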