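import Cfsg.Statements.S3761
import Cfsg.Agent.Lib.Coprime.CyclicSelfCentralizing
import Cfsg.Agent.Lib.Coprime.Sylow
import Cfsg.Agent.Lib.Solvable.Nilpotent


set_option autoImplicit false
open Cfsg

namespace Cfsg.Agent.S3761

open Subgroup CfsgLib.ClassK CfsgLib.Coprime

/-- The case in which some element outside `⟨u⟩` centralizes `u ^ p`. -/
theorem modular_case {G : Type*} [Group G] [Finite G] {p : ℕ} [Fact p.Prime] (hG : IsPGroup p G) {u : G}
    [(zpowers u).Normal] (hC : centralizer (zpowers u : Set G) = zpowers u) {n : ℕ} (hn : 2 ≤ n)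
    (hu : orderOf u = p ^ n) (h2 : p ≠ 2 ∨ 3 ≤ n) {g : G}
    (hgM : g ∈ centralizer (Cfsg.powerClosure p 1 (zpowers u) : Set G)) (hg : g ∉ zpowers u) :
    (zpowers u).relIndex (centralizer (Cfsg.powerClosure p 1 (zpowers u) : Set G)) = p ∧
      Cfsg.IsElementaryAbelian p (Cfsg.omegaOne p (centralizer (Cfsg.powerClosure p 1 (zpowers u) : Set G))) ∧
      Nat.card (Cfsg.omegaOne p (centralizer (Cfsg.powerClosure p 1 (zpowers u) : Set G))) = p ^ 2 ∧
      (Cfsg.omegaOne p (centralizer (Cfsg.powerClosure p 1 (zpowers u) : Set G))).Characteristic := by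
  have hp : p.Prime := Fact.out
  have hpc : zpowers (u ^ p) = Cfsg.powerClosure p 1 (zpowers u) := by
    refine le_antisymm (zpowers_le.2 (subset_closure ⟨u, mem_zpowers u, by rw [pow_one]⟩)) ?_
    refine (closure_le _).2 ?_
    rintro _ ⟨x, hx, rfl⟩
    obtain ⟨i, rfl⟩ := mem_zpowers_iff.1 hx
    refine mem_zpowers_iff.2 ⟨i, ?_⟩
    rw [pow_one, ← zpow_natCast, ← zpow_natCast, ← zpow_mul, ← zpow_mul, mul_comm]
  set M := centralizer (Cfsg.powerClosure p 1 (zpowers u) : Set G) with hMdef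
  set N : ℤ := (p : ℤ) ^ (n - 1) with hN
  have hpn : ((p ^ n : ℕ) : ℤ) = p * N := by
    push_cast; rw [hN, ← pow_succ']; congr 1; omega
  have hp0 : (p : ℤ) ≠ 0 := by exact_mod_cast hp.ne_zero
  have hpZ : Prime (p : ℤ) := Nat.prime_iff_prime_int.1 hp
  -- membership in `M`
  have hmem : ∀ (m : G) (k : ℤ), m * u * m⁻¹ = u ^ k → (m ∈ M ↔ N ∣ k - 1) := by
    intro m k hk
    have hm : m * u ^ (p : ℤ) * m⁻¹ = u ^ (k * p) := conj_zpow_of_conj hk p
    have hiff : u ^ (k * p) = u ^ (p : ℤ) ↔ N ∣ k - 1 := by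
      rw [zpow_eq_iff_dvd hu, hpn, show k * p - (p : ℤ) = p * (k - 1) by ring, mul_dvd_mul_iff_left hp0]
    rw [← hiff]
    constructor
    · intro hmM
      rw [hMdef, ← hpc, mem_centralizer_iff] at hmM
      have := hmM (u ^ p) (mem_zpowers _)
      rw [← hm, zpow_natCast, ← this]; group
    · intro h
      rw [h, mul_inv_eq_iff_eq_mul, zpow_natCast] at hm
      rw [hMdef, ← hpc, mem_centralizer_iff]
      rintro x hx
      obtain ⟨i, rfl⟩ := mem_zpowers_iff.1 hx
      exact (show Commute (u ^ p) m from hm.symm).zpow_left i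
  have huM : zpowers u ≤ M := zpowers_le.2 ((hmem u 1 (by group)).2 (by simp))
  -- the element `z`
  set z : G := u ^ N with hz
  have hzp : z ^ p = 1 := by
    rw [hz, ← zpow_natCast, ← zpow_mul, ← orderOf_dvd_iff_zpow_eq_one, hu, hpn, mul_comm]
  have hz1 : z ≠ 1 := by
    rw [hz, Ne, ← orderOf_dvd_iff_zpow_eq_one, hu, hpn]
    intro h
    have hN0 : (0 : ℤ) < N := by rw [hN]; exact pow_pos (by exact_mod_cast hp.pos) _
    have := Int.le_of_dvd hN0 h
    have h2p : (2 : ℤ) ≤ p := by exact_mod_cast hp.two_le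
    nlinarith
  have hzU : z ∈ zpowers u := zpow_mem (mem_zpowers u) _
  have omegaU : ∀ i : ℤ, (u ^ i) ^ p = 1 → N ∣ i := by
    intro i h
    rw [← zpow_natCast, ← zpow_mul, ← orderOf_dvd_iff_zpow_eq_one, hu, hpn, mul_comm i] at h
    exact (mul_dvd_mul_iff_left hp0).1 h
  have hzmem : ∀ i : ℤ, N ∣ i → u ^ i ∈ zpowers z := by
    rintro i ⟨c, rfl⟩
    rw [zpow_mul]; exact zpow_mem (mem_zpowers z) c
  -- congruence of exponents
  have hcong : ∀ k : ℤ, N ∣ k - 1 → (p : ℤ) ∣ k - 1 ∧ (p = 2 → (4 : ℤ) ∣ k - 1) := by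
    intro k hk
    refine ⟨(dvd_pow_self (p : ℤ) (by omega : n - 1 ≠ 0)).trans hk, fun e => ?_⟩
    have h3 := h2.resolve_left (not_not.2 e)
    subst e
    refine dvd_trans ?_ hk
    rw [hN]
    have := pow_dvd_pow (2 : ℤ) (show 2 ≤ n - 1 by omega)
    norm_num at this ⊢
    exact this
  -- a normalized outside element
  obtain ⟨k₀, hk₀⟩ := exists_conj_exp (u := u) g
  obtain ⟨t, ht⟩ := (hmem g k₀ hk₀).1 hgM
  have htp : ¬ (p : ℤ) ∣ t := by
    rintro ⟨c, rfl⟩
    refine hg (mem_of_dvd_sub_one hu hC hk₀ ⟨c, ?_⟩)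
    rw [hpn, ht]; ring
  have hcover : ∀ m ∈ M, ∃ j : ℕ, m * (g ^ j)⁻¹ ∈ zpowers u := by
    intro m hm
    obtain ⟨k, hk⟩ := exists_conj_exp (u := u) m
    obtain ⟨s, hs⟩ := (hmem m k hk).1 hm
    obtain ⟨a, b, hab⟩ := (hpZ.coprime_iff_not_dvd.2 htp).symm
    -- `j ≡ s / t`
    obtain ⟨j, hj⟩ : ∃ j : ℕ, (p : ℤ) ∣ (j : ℤ) * t - s := by
      refine ⟨((s * a) % p).toNat, ?_⟩
      rw [Int.toNat_of_nonneg (Int.emod_nonneg _ hp0), Int.emod_def]
      exact ⟨-(s * a / p) * t - s * b, by linear_combination s * hab⟩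
    refine ⟨j, ?_⟩
    have hgj := conj_pow_of_conj hk₀ j
    have hsd : ((p ^ n : ℕ) : ℤ) ∣ k₀ ^ j - k := by
      have h1 : (p : ℤ) * N ∣ k₀ ^ j - (1 + (j : ℤ) * (N * t)) := by
        clear hj hgj
        induction j with
        | zero => simp
        | succ j ih =>
          obtain ⟨c, hc⟩ := ih
          obtain ⟨d, hd⟩ : (p : ℤ) ∣ N := dvd_pow_self _ (by omega : n - 1 ≠ 0)
          refine ⟨c * k₀ + j * t * d * t, ?_⟩
          rw [pow_succ]
          push_cast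
          have hk' : k₀ = 1 + N * t := by linarith
          rw [hk'] at hc ⊢
          linear_combination (1 + N * t) * hc + (j : ℤ) * t ^ 2 * N * hd
      rw [hpn]
      obtain ⟨c, hc⟩ := h1
      obtain ⟨d, hd⟩ := hj
      exact ⟨c + d, by linear_combination hc + N * hd - hs⟩
    obtain ⟨c, hc⟩ := exists_conj_exp (u := u) (m * (g ^ j)⁻¹)
    refine mem_of_dvd_sub_one hu hC hc ?_
    have e : u ^ (c * k₀ ^ j) = u ^ k := by
      rw [← conj_zpow_of_conj hc, ← hgj, ← hk]; group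
    rw [zpow_eq_iff_dvd hu] at e
    have e2 : ((p ^ n : ℕ) : ℤ) ∣ (c - 1) * k := by
      obtain ⟨a', ha'⟩ := e
      obtain ⟨b', hb'⟩ := hsd
      exact ⟨a' - c * b', by linear_combination ha' - c * hb'⟩
    refine IsCoprime.dvd_of_dvd_mul_right ?_ e2
    push_cast
    refine (hpZ.coprime_iff_not_dvd.2 fun hd => ?_).pow_left
    have := dvd_sub hd (hcong k ((hmem m k hk).1 hm)).1
    rw [sub_sub_cancel] at this
    exact hpZ.not_isUnit (isUnit_of_dvd_one this)
  have hgp : g ^ p ∈ zpowers u := by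
    refine mem_of_dvd_sub_one hu hC (conj_pow_of_conj hk₀ p) ?_
    have hk := hcong k₀ ((hmem g k₀ hk₀).1 hgM)
    obtain ⟨w, hw, -⟩ := not_sq_dvd_geom_sum hp hk.1 hk.2
    refine ⟨t * w, ?_⟩
    rw [← mul_geom_sum, hw, ht, hpn]; ring
  -- the involution-like element `y`
  obtain ⟨m', hm'⟩ := mem_zpowers_iff.1 hgp
  have hpm : (p : ℤ) ∣ m' := by
    have e : u ^ (k₀ * m') = u ^ m' := by rw [← conj_zpow_of_conj hk₀, hm']; group
    rw [zpow_eq_iff_dvd hu, hpn, show k₀ * m' - m' = N * (t * m') by rw [← mul_assoc, ← ht]; ring,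
      mul_comm (p : ℤ) N, mul_dvd_mul_iff_left (by rw [hN]; positivity)] at e
    exact (hpZ.dvd_or_dvd e).resolve_left htp
  obtain ⟨l, hl⟩ := hpm
  have hk := hcong k₀ ((hmem g k₀ hk₀).1 hgM)
  obtain ⟨w, hw, hco⟩ := not_sq_dvd_geom_sum hp hk.1 hk.2
  obtain ⟨a, b, hab⟩ : IsCoprime w N := hco.symm.pow_right
  set y : G := u ^ (-l * a) * g with hy
  have hyp : y ^ p = 1 := by
    rw [hy, zpow_mul_pow_of_conj hk₀, hw, ← hm', ← zpow_add, ← orderOf_dvd_iff_zpow_eq_one, hu, hpn, hl]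
    exact ⟨l * b, by linear_combination (-(p : ℤ) * l) * hab⟩
  have hyM : y ∈ M := mul_mem (huM (zpow_mem (mem_zpowers u) _)) hgM
  have hyU : y ∉ zpowers u := fun h => hg (by
    have := mul_mem (inv_mem (zpow_mem (mem_zpowers u) (-l * a))) h
    rwa [inv_mul_cancel_left] at this)
  have hyk : y * u * y⁻¹ = u ^ k₀ := by
    rw [hy, show u ^ (-l * a) * g * u * (u ^ (-l * a) * g)⁻¹ = u ^ (-l * a) * (g * u * g⁻¹) * (u ^ (-l * a))⁻¹ by group,
      hk₀]
    group
  have hyz : Commute y z := by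
    have e : u ^ (k₀ * N) = u ^ N := by
      rw [zpow_eq_iff_dvd hu, hpn]
      exact dvd_trans (mul_dvd_mul_right hk.1 N) (dvd_of_eq (by ring))
    have := conj_zpow_of_conj hyk N
    rw [e, mul_inv_eq_iff_eq_mul] at this
    exact this
  -- `Ω₁(M) = ⟨z, y⟩`
  let W : Subgroup G := zpowers z ⊔ zpowers y
  have hWab : ∀ a ∈ W, ∀ b ∈ W, a * b = b * a := by
    have : IsMulCommutative (closure ({z, y} : Set G)) := Subgroup.isMulCommutative_closure (by
      rintro a (rfl | rfl) b (rfl | rfl)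
      · rfl
      · exact hyz.symm.eq
      · exact hyz.eq
      · rfl)
    have hWle : W ≤ closure ({z, y} : Set G) := sup_le (zpowers_le.2 (subset_closure (Or.inl rfl)))
      (zpowers_le.2 (subset_closure (Or.inr rfl)))
    exact fun a ha b hb => congrArg Subtype.val (this.is_comm.comm ⟨a, hWle ha⟩ ⟨b, hWle hb⟩)
  have hW : ∀ x, x ∈ W ↔ ∃ a b : ℕ, a < p ∧ b < p ∧ x = z ^ a * y ^ b := by
    intro x
    constructor
    · intro hx
      have hzy : zpowers y ≤ normalizer (zpowers z : Set G) := by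
        refine zpowers_le.2 (CfsgLib.Coprime.mem_normalizer_iff_map_conj.2 ?_)
        rw [MonoidHom.map_zpowers]
        simp only [MulEquiv.coe_toMonoidHom, MulAut.conj_apply]
        rw [hyz.eq, mul_inv_cancel_right]
      rw [← SetLike.mem_coe, Subgroup.coe_mul_of_right_le_normalizer_left _ _ hzy] at hx
      obtain ⟨_, hx1, _, hx2, rfl⟩ := hx
      obtain ⟨i, rfl⟩ := mem_zpowers_iff.1 hx1
      obtain ⟨j, rfl⟩ := mem_zpowers_iff.1 hx2
      have hi0 := Int.emod_nonneg i hp0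
      have hj0 := Int.emod_nonneg j hp0
      refine ⟨(i % p).toNat, (j % p).toNat,
        by have := Int.emod_lt_of_pos i (by exact_mod_cast hp.pos : (0 : ℤ) < p); omega,
        by have := Int.emod_lt_of_pos j (by exact_mod_cast hp.pos : (0 : ℤ) < p); omega, ?_⟩
      rw [← zpow_natCast z (Int.toNat _), ← zpow_natCast y (Int.toNat _), Int.toNat_of_nonneg hi0,
        Int.toNat_of_nonneg hj0, ← zpow_eq_zpow_emod' i hzp, ← zpow_eq_zpow_emod' j hyp]
    · rintro ⟨a, b, -, -, rfl⟩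
      exact mul_mem (mem_sup_left (pow_mem (mem_zpowers z) a)) (mem_sup_right (pow_mem (mem_zpowers y) b))
  have hWexp : ∀ x ∈ W, x ^ p = 1 := by
    intro x hx
    obtain ⟨a, b, -, -, rfl⟩ := (hW x).1 hx
    rw [(hyz.symm.pow_pow a b).mul_pow, ← pow_mul, ← pow_mul, mul_comm a, mul_comm b, pow_mul, pow_mul,
      hzp, hyp, one_pow, one_pow, one_mul]
  have hyj : ∀ m ∈ M, ∃ (i : ℤ) (j : ℕ), m = u ^ i * y ^ j := by
    intro m hm
    obtain ⟨j, hj⟩ := hcover m hm
    obtain ⟨i, hi⟩ := mem_zpowers_iff.1 hj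
    refine ⟨i - (-l * a) * ∑ r ∈ Finset.range j, k₀ ^ r, j, ?_⟩
    rw [hy, zpow_mul_pow_of_conj hk₀, ← mul_assoc, ← zpow_add, sub_add_cancel, hi, inv_mul_cancel_right]
  have hΩ : Cfsg.omegaOne p M = W := by
    refine le_antisymm ((closure_le _).2 ?_) ?_
    · rintro x ⟨hxM, hxp⟩
      obtain ⟨i, j, rfl⟩ := hyj x hxM
      have hkj : N ∣ k₀ ^ j - 1 :=
        (hmem (y ^ j) _ (conj_pow_of_conj hyk j)).1 (pow_mem hyM j)
      obtain ⟨w', hw', hco'⟩ := not_sq_dvd_geom_sum hp (hcong _ hkj).1 (hcong _ hkj).2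
      rw [zpow_mul_pow_of_conj (conj_pow_of_conj hyk j), ← pow_mul y, mul_comm j, pow_mul, hyp, one_pow,
        mul_one, hw', ← orderOf_dvd_iff_zpow_eq_one, hu, hpn, show i * ((p : ℤ) * w') = p * (i * w') by ring,
        mul_dvd_mul_iff_left hp0] at hxp
      exact mul_mem (mem_sup_left (hzmem i (IsCoprime.dvd_of_dvd_mul_right hco'.pow_left hxp)))
        (mem_sup_right (pow_mem (mem_zpowers y) j))
    · exact sup_le (zpowers_le.2 (subset_closure ⟨huM hzU, hzp⟩)) (zpowers_le.2 (subset_closure ⟨hyM, hyp⟩))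
  have hrel : (zpowers u).relIndex M = p := by
    refine le_antisymm ?_ ?_
    · rw [relIndex, index_eq_card]
      have hs : Function.Surjective (fun j : Fin p =>
          ((⟨g ^ (j : ℕ), pow_mem hgM _⟩ : M) : M ⧸ (zpowers u).subgroupOf M)) := by
        intro q
        induction q using QuotientGroup.induction_on with
        | H m =>
          obtain ⟨j, hj⟩ := hcover m m.2
          refine ⟨⟨j % p, Nat.mod_lt _ hp.pos⟩, QuotientGroup.eq.2 ?_⟩
          show (g ^ (j % p))⁻¹ * (m : G) ∈ zpowers u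
          have h3 : (g ^ j)⁻¹ * ((m : G) * (g ^ j)⁻¹) * (g ^ j)⁻¹⁻¹ ∈ zpowers u :=
            Normal.conj_mem inferInstance _ hj _
          have h4 := mul_mem (pow_mem hgp (j / p)) h3
          rw [inv_inv, mul_assoc (g ^ j)⁻¹, inv_mul_cancel_right] at h4
          have e : g ^ j = g ^ (j % p) * (g ^ p) ^ (j / p) := by
            rw [← pow_mul, ← pow_add, Nat.mod_add_div]
          rw [e, mul_inv_rev, ← mul_assoc, ← mul_assoc, mul_inv_cancel, one_mul] at h4
          exact h4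
      simpa using Nat.card_le_card_of_surjective _ hs
    · have h1 : (zpowers u).relIndex M ≠ 1 := fun h => hg (relIndex_eq_one.1 h hgM)
      obtain ⟨c, hc⟩ := IsPGroup.iff_card.1 (hG.to_subgroup M)
      obtain ⟨j, -, hj⟩ := (Nat.dvd_prime_pow hp).1 (by
        rw [← hc]; exact Subgroup.index_dvd_card _ : (zpowers u).relIndex M ∣ p ^ c)
      rcases Nat.eq_zero_or_pos j with rfl | hj0
      · exact absurd hj (by simpa using h1)
      · rw [hj]; exact Nat.le_self_pow hj0.ne' p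
  have hzy1 : ∀ b : ℕ, y ^ b ∈ zpowers z → p ∣ b := by
    intro b hb
    by_contra hd
    obtain ⟨m, hm⟩ := Nat.exists_mul_mod_eq_one_of_coprime ((hp.coprime_iff_not_dvd.2 hd).symm) hp.one_lt
    apply hyU
    have := pow_mem hb m
    rw [← pow_mul, pow_eq_pow_mod _ hyp, hm.2, pow_one] at this
    exact zpowers_le.2 hzU this
  have hWcard : Nat.card W = p ^ 2 := by
    let f : Fin p × Fin p → W := fun t => ⟨z ^ (t.1 : ℕ) * y ^ (t.2 : ℕ), (hW _).2 ⟨_, _, t.1.2, t.2.2, rfl⟩⟩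
    have hf : Function.Bijective f := by
      constructor
      · rintro ⟨⟨a, ha⟩, ⟨b, hb⟩⟩ ⟨⟨a', ha'⟩, ⟨b', hb'⟩⟩ h
        have h' : z ^ a * y ^ b = z ^ a' * y ^ b' := congrArg Subtype.val h
        have key : ∀ b b' : ℕ, b ≤ b' → b' < p → ∀ a a' : ℕ, z ^ a * y ^ b = z ^ a' * y ^ b' → b = b' := by
          intro b b' hle hb' a a' h'
          have : y ^ (b' - b) ∈ zpowers z := by
            have e : z ^ a = z ^ a' * y ^ (b' - b) := by
              rw [← Nat.sub_add_cancel hle, pow_add, ← mul_assoc] at h'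
              exact mul_right_cancel h'
            have h5 := mul_mem (inv_mem (pow_mem (mem_zpowers z) a')) (pow_mem (mem_zpowers z) a)
            rwa [e, inv_mul_cancel_left] at h5
          have := Nat.eq_zero_of_dvd_of_lt (hzy1 _ this) (by omega)
          omega
        obtain rfl : b = b' := by
          rcases le_total b b' with hle | hle
          · exact key b b' hle hb' a a' h'
          · exact (key b' b hle hb a' a h'.symm).symm
        have hzo : orderOf z = p := orderOf_eq_prime hzp hz1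
        have := pow_injOn_Iio_orderOf (x := z) (show a < orderOf z by omega) (show a' < orderOf z by omega)
          (mul_right_cancel h')
        subst this
        rfl
      · rintro ⟨x, hx⟩
        obtain ⟨a, b, ha, hb, rfl⟩ := (hW x).1 hx
        exact ⟨(⟨a, ha⟩, ⟨b, hb⟩), rfl⟩
    rw [← Nat.card_eq_of_bijective f hf, Nat.card_prod, Nat.card_fin, sq]
  rw [hΩ]
  refine ⟨hrel, ⟨⟨⟨fun a b => Subtype.ext (hWab a a.2 b b.2)⟩⟩, hWexp⟩, hWcard, ?_⟩
  have hMn : M.Normal := by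
    have : (Cfsg.powerClosure p 1 (zpowers u)).Normal := by
      refine ⟨fun x hx h => ?_⟩
      obtain ⟨k, hk⟩ := exists_conj_exp (u := u) h
      rw [← hpc] at hx ⊢
      obtain ⟨i, rfl⟩ := mem_zpowers_iff.1 hx
      refine mem_zpowers_iff.2 ⟨k * i, ?_⟩
      rw [← zpow_natCast u p, ← zpow_mul, ← zpow_mul, conj_zpow_of_conj hk]
      congr 1; ring
    exact Subgroup.normal_centralizer
  have hWn : W.Normal := by
    rw [← hΩ]
    refine ⟨fun x hx h => ?_⟩
    have : (Cfsg.omegaOne p M).map (MulAut.conj h).toMonoidHom ≤ Cfsg.omegaOne p M := by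
      rw [Cfsg.omegaOne, MonoidHom.map_closure, closure_le]
      rintro _ ⟨w, ⟨hwM, hwp⟩, rfl⟩
      exact subset_closure ⟨hMn.conj_mem w hwM h, by simp [hwp]⟩
    exact this ⟨x, hx, rfl⟩
  -- every normal elementary abelian subgroup of order `p ^ 2` is `W`
  have huniq : ∀ V : Subgroup G, V.Normal → (∀ a ∈ V, a ^ p = 1) → Nat.card V = p ^ 2 → V ≤ W := by
    intro V hV hVp hVc w hw
    obtain ⟨kk, hkk⟩ := exists_conj_exp (u := u) w
    have h1 : u ^ (kk - 1) ∈ V := by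
      have h2 : w * (u * w⁻¹ * u⁻¹) ∈ V := mul_mem hw (hV.conj_mem _ (inv_mem hw) u)
      rw [zpow_sub_one, ← hkk]
      simpa [mul_assoc] using h2
    have h3 : N ∣ kk - 1 := omegaU _ (hVp _ h1)
    rw [← hΩ]
    exact subset_closure ⟨(hmem w kk hkk).2 h3, hVp w hw⟩
  rw [characteristic_iff_map_le]
  intro φ
  refine huniq _ (hWn.map _ φ.surjective) ?_ (by rw [card_map_of_injective φ.injective, hWcard])
  rintro _ ⟨x, hx, rfl⟩
  rw [← map_pow, hWexp x hx, map_one]


/-- Let G be a finite non-abelian p-group with a cyclic normal subgroup U of order p^n such that C_G(U) = U. Then either p = 2 and G is dihedral, generalized quaternion or semidihedral of order 2^(n+1); or, writing U₁ for the subgroup generated by the p-th powers of elements of U and M = C_G(U₁), the subgroup U has index p in M and the subgroup Ω₁(M) generated by the elements of M of order dividing p is elementary abelian of order p² and characteristic in G. -/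
theorem result {G : Type*} [Group G] [Finite G] {p : ℕ} [Fact p.Prime] (hG : IsPGroup p G) (hna : ¬ IsMulCommutative G) (U : Subgroup G) [U.Normal] (hU : IsCyclic U) (n : ℕ) (hUn : Nat.card U = p ^ n) (hC : Subgroup.centralizer (U : Set G) = U) : (p = 2 ∧ Nat.card G = 2 ^ (n + 1) ∧ ((∃ m : ℕ, Nonempty (G ≃* DihedralGroup m)) ∨ (∃ m : ℕ, Nonempty (G ≃* QuaternionGroup m)) ∨ Cfsg.IsQuasiDihedral G)) ∨ (U.relIndex (Subgroup.centralizer (Cfsg.powerClosure p 1 U : Set G)) = p ∧ Cfsg.IsElementaryAbelian p (Cfsg.omegaOne p (Subgroup.centralizer (Cfsg.powerClosure p 1 U : Set G))) ∧ Nat.card ↥(Cfsg.omegaOne p (Subgroup.centralizer (Cfsg.powerClosure p 1 U : Set G))) = p ^ 2 ∧ (Cfsg.omegaOne p (Subgroup.centralizer (Cfsg.powerClosure p 1 U : Set G))).Characteristic) := by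
  obtain ⟨u, rfl⟩ := (Subgroup.isCyclic_iff_exists_zpowers_eq_top U).1 hU
  have hp : p.Prime := Fact.out
  rw [Nat.card_zpowers] at hUn
  have hn2 : 2 ≤ n := by
    by_contra hlt
    refine hna ⟨⟨fun a b => ?_⟩⟩
    have hcen : (Subgroup.zpowers u : Subgroup G) ≤ Subgroup.center G := by
      by_cases h0 : n = 0
      · rw [Subgroup.zpowers_le, orderOf_eq_one_iff.1 (show orderOf u = 1 by rw [hUn, h0, pow_zero])]; exact one_mem _
      obtain rfl : n = 1 := by omega
      have := hG.isNilpotent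
      by_contra hle
      have hne : Subgroup.zpowers u ⊓ Subgroup.center G ≠ ⊥ := CfsgLib.Solvable.normal_inf_center_ne_bot _ (fun h => by
        rw [Subgroup.zpowers_eq_bot] at h
        rw [h, orderOf_one, pow_one] at hUn
        exact hp.ne_one hUn.symm)
      have hd := Subgroup.card_dvd_of_le (inf_le_left : Subgroup.zpowers u ⊓ Subgroup.center G ≤ Subgroup.zpowers u)
      rw [Nat.card_zpowers, hUn, pow_one] at hd
      rcases (Nat.dvd_prime hp).1 hd with h | h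
      · exact hne (Subgroup.card_eq_one.1 h)
      · exact hle (inf_eq_left.1 (Subgroup.eq_of_le_of_card_ge inf_le_left (by rw [h, Nat.card_zpowers, hUn, pow_one])))
    have hall : ∀ a : G, a ∈ Subgroup.zpowers u := fun a => hC ▸ Subgroup.mem_centralizer_iff.2 fun x hx =>
      (Subgroup.mem_center_iff.1 (hcen hx) a).symm
    exact ((Subgroup.mem_center_iff.1 (hcen (hall b))) a)
  by_cases hA : (p ≠ 2 ∨ 3 ≤ n) ∧
      ∃ g ∈ Subgroup.centralizer (Cfsg.powerClosure p 1 (Subgroup.zpowers u) : Set G), g ∉ Subgroup.zpowers u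
  · obtain ⟨h2, g, hgM, hg⟩ := hA
    exact Or.inr (modular_case hG hC hn2 hUn h2 hgM hg)
  refine Or.inl ?_
  have hout : ∀ g : G, g ∉ Subgroup.zpowers u → ∀ k : ℤ, g * u * g⁻¹ = u ^ k →
      (p ≠ 2 ∨ 3 ≤ n) → ¬ ((p ^ (n - 1) : ℕ) : ℤ) ∣ k - 1 := by
    intro g hg k hk h2 hd
    refine hA ⟨h2, g, ?_, hg⟩
    have hgp : g * u ^ (p : ℤ) * g⁻¹ = u ^ (p : ℤ) := by
      rw [conj_zpow_of_conj hk, zpow_eq_iff_dvd hUn, show k * p - (p : ℤ) = p * (k - 1) by ring,
        show p ^ n = p * p ^ (n - 1) by rw [← pow_succ']; congr 1; omega, Nat.cast_mul]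
      exact mul_dvd_mul_left _ hd
    rw [mul_inv_eq_iff_eq_mul, zpow_natCast] at hgp
    rw [Subgroup.mem_centralizer_iff]
    have hle : Cfsg.powerClosure p 1 (Subgroup.zpowers u) ≤ Subgroup.zpowers (u ^ p) := by
      refine (Subgroup.closure_le _).2 ?_
      rintro _ ⟨x, hx, rfl⟩
      obtain ⟨i, rfl⟩ := Subgroup.mem_zpowers_iff.1 hx
      refine Subgroup.mem_zpowers_iff.2 ⟨i, ?_⟩
      rw [pow_one, ← zpow_natCast, ← zpow_natCast, ← zpow_mul, ← zpow_mul, mul_comm]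
    intro x hx
    obtain ⟨i, rfl⟩ := Subgroup.mem_zpowers_iff.1 (hle hx)
    exact (show Commute (u ^ p) g from hgp.symm).zpow_left i
  obtain ⟨g₀, hg₀⟩ : ∃ g, g ∉ Subgroup.zpowers u := by
    by_contra! hall
    exact hna ⟨⟨fun a b => by
      obtain ⟨i, rfl⟩ := Subgroup.mem_zpowers_iff.1 (hall a)
      obtain ⟨j, rfl⟩ := Subgroup.mem_zpowers_iff.1 (hall b)
      exact (Commute.refl u).zpow_zpow i j⟩⟩
  obtain rfl : p = 2 := by
    by_contra hp2
    obtain ⟨i, hi1, hi2⟩ := exists_pow_not_mem hG (Subgroup.zpowers u) hg₀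
    obtain ⟨k, hk⟩ := exists_conj_exp (u := u) (g₀ ^ p ^ i)
    exact hout _ hi1 k hk (Or.inl hp2)
      (dvd_pred_of_pow hp2 (by omega) (dvd_pow_sub_one_of_mem hUn hk hi2))
  have e2 : (2 : ℤ) ^ n = 2 * 2 ^ (n - 1) := by rw [← pow_succ']; congr 1; omega
  have hodd : ∀ g : G, ∀ k : ℤ, g * u * g⁻¹ = u ^ k → ∃ a, k = 2 * a + 1 := by
    intro g k hk
    obtain ⟨a, rfl⟩ | ⟨a, ha⟩ := Int.even_or_odd k
    · exfalso
      have h1 : orderOf (g * u * g⁻¹) = 2 ^ n := by
        rw [← MulAut.conj_apply, MulEquiv.orderOf_eq, hUn]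
      have h2 : (g * u * g⁻¹) ^ 2 ^ (n - 1) = 1 := by
        rw [hk, ← zpow_natCast, ← zpow_mul, ← orderOf_dvd_iff_zpow_eq_one, hUn]
        exact ⟨a, by push_cast; rw [e2]; ring⟩
      have := orderOf_dvd_of_pow_eq_one h2
      rw [h1, Nat.pow_dvd_pow_iff_le_right (by norm_num)] at this
      omega
    · exact ⟨a, ha⟩
  have hsq : ∀ g : G, g ∉ Subgroup.zpowers u → g ^ 2 ∈ Subgroup.zpowers u → ∀ k : ℤ, g * u * g⁻¹ = u ^ k →
      ((2 ^ (n - 1) : ℕ) : ℤ) ∣ k + 1 ∧ (4 : ℤ) ∣ k + 1 := by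
    intro g hg hg2 k hk
    obtain ⟨a, rfl⟩ := hodd g k hk
    rcases eq_or_lt_of_le hn2 with rfl | hn3
    · refine ⟨⟨a + 1, by norm_num; ring⟩, ?_⟩
      rcases Int.even_or_odd a with ⟨b, rfl⟩ | ⟨b, rfl⟩
      · exact absurd (mem_of_dvd_sub_one hUn hC hk ⟨b, by norm_num; ring⟩) hg
      · exact ⟨b + 1, by ring⟩
    obtain ⟨c, hc⟩ := dvd_pow_sub_one_of_mem hUn hk hg2
    push_cast at hc
    have e4 : (2 : ℤ) ^ n = 4 * 2 ^ (n - 2) := by
      rw [show (4 : ℤ) = 2 ^ 2 by norm_num, ← pow_add]; congr 1; omega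
    have e3 : (2 : ℤ) ^ (n - 1) = 2 * 2 ^ (n - 2) := by rw [← pow_succ']; congr 1; omega
    have hd : (2 : ℤ) ^ (n - 2) ∣ a * (a + 1) := ⟨c, by rw [e4] at hc; linarith⟩
    rcases Int.even_or_odd a with ⟨b, hb⟩ | ⟨b, hb⟩
    · exfalso
      obtain ⟨d, hd'⟩ := IsCoprime.dvd_of_dvd_mul_right
        ((Int.prime_two.coprime_iff_not_dvd.2 (by omega)).pow_left) hd
      exact hout g hg _ hk (Or.inr hn3) ⟨d, by push_cast; rw [e3]; linear_combination 2 * hd'⟩
    · obtain ⟨d, hd'⟩ := IsCoprime.dvd_of_dvd_mul_left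
        ((Int.prime_two.coprime_iff_not_dvd.2 (by omega)).pow_left) hd
      exact ⟨⟨d, by push_cast; rw [e3]; linear_combination 2 * hd'⟩, ⟨b + 1, by rw [hb]; ring⟩⟩
  have hexp : ∀ g : G, g ^ 2 ∈ Subgroup.zpowers u := by
    intro g
    by_contra h
    have hg : g ∉ Subgroup.zpowers u := fun h' => h (pow_mem h' 2)
    obtain ⟨i, hi1, hi2⟩ := exists_pow_not_mem hG (Subgroup.zpowers u) h
    obtain ⟨k, hk⟩ := exists_conj_exp (u := u) g
    obtain ⟨a, rfl⟩ := hodd g k hk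
    have hk' : (g ^ 2) ^ 2 ^ i * u * ((g ^ 2) ^ 2 ^ i)⁻¹ = u ^ ((((2 * a + 1) ^ 2) ^ 2 ^ i : ℤ)) := by
      rw [← pow_mul, ← pow_mul]; exact conj_pow_of_conj hk _
    obtain ⟨b, hb⟩ : (4 : ℤ) ∣ ((2 * a + 1) ^ 2) ^ 2 ^ i - 1 :=
      dvd_trans ⟨a * a + a, by ring⟩ (sub_one_dvd_pow_sub_one _ _)
    have := (hsq _ hi1 hi2 _ hk').2
    omega
  have hidx : ∀ g h : G, g ∉ Subgroup.zpowers u → h ∉ Subgroup.zpowers u → g * h ∈ Subgroup.zpowers u := by
    intro g h hg hh
    obtain ⟨k, hk⟩ := exists_conj_exp (u := u) g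
    obtain ⟨l, hl⟩ := exists_conj_exp (u := u) h
    have hgh : g * h * u * (g * h)⁻¹ = u ^ (k * l) := by
      rw [← conj_zpow_of_conj hk, ← hl]; group
    obtain ⟨h1, h1'⟩ := hsq g hg (hexp g) k hk
    obtain ⟨h2, h2'⟩ := hsq h hh (hexp h) l hl
    rcases eq_or_lt_of_le hn2 with rfl | hn3
    · refine mem_of_dvd_sub_one hUn hC hgh ?_
      obtain ⟨a, ha⟩ := h1'
      obtain ⟨b, hb⟩ := h2'
      exact ⟨4 * a * b - a - b, by norm_num; linear_combination (4 * b - 1) * ha + (k + 1 - 4 * a + k * 0 - k + 4 * a - 1 + k) * hb⟩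
    · by_contra hnot
      refine hout _ hnot _ hgh (Or.inr hn3) ?_
      obtain ⟨a, ha⟩ := h1
      obtain ⟨b, hb⟩ := h2
      exact ⟨a * ((2 ^ (n - 1) : ℕ) : ℤ) * b - a - b, by linear_combination l * ha + (((2 ^ (n - 1) : ℕ) : ℤ) * a - 1) * hb + (0 : ℤ) * ha⟩
  obtain ⟨k, hk⟩ := exists_conj_exp (u := u) g₀
  obtain ⟨hk1, hk4⟩ := hsq g₀ hg₀ (hexp g₀) k hk
  have hindex : (Subgroup.zpowers u).index = 2 := Subgroup.index_eq_two_iff.2 ⟨g₀, fun b => by
    rcases Classical.em (b ∈ Subgroup.zpowers u) with hb | hb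
    · refine Or.inr ⟨hb, fun h => hg₀ ?_⟩
      have := mul_mem (inv_mem hb) h
      rwa [inv_mul_cancel_left] at this
    · exact Or.inl ⟨hidx b g₀ hb hg₀, hb⟩⟩
  have hcard : Nat.card G = 2 ^ (n + 1) := by
    rw [← (Subgroup.zpowers u).card_mul_index, Nat.card_zpowers, hUn, hindex, pow_succ]
  refine ⟨rfl, hcard, dihedral_quaternion_semidihedral hn2 hUn ?_ hcard hg₀ (hexp g₀) hk hk1 fun _ => hk4⟩
  refine eq_top_iff.2 fun x _ => ?_
  have hu' : u ∈ Subgroup.closure ({u, g₀} : Set G) := Subgroup.subset_closure (Or.inl rfl)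
  have hg' : g₀ ∈ Subgroup.closure ({u, g₀} : Set G) := Subgroup.subset_closure (Or.inr rfl)
  by_cases hx : x ∈ Subgroup.zpowers u
  · exact Subgroup.zpowers_le.2 hu' hx
  · have := mul_mem (Subgroup.zpowers_le.2 hu' (hidx x g₀ hx hg₀)) (inv_mem hg')
    rwa [mul_inv_cancel_right] at this

end Cfsg.Agent.S3761
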