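import Cfsg.Statements.S3762
import Cfsg.Agent.Lib.Coprime.SymplecticType
import Cfsg.Agent.S3761


set_option autoImplicit false
open Cfsg

namespace Cfsg.Agent.S3762

open Subgroup CfsgLib.Coprime in
theorem apply_mem_powerClosure {G : Type*} [Group G] {p k : ℕ} {U : Subgroup G} (hU : U.Characteristic)
    (φ : MulAut G) {x : G} (hx : x ∈ Cfsg.powerClosure p k U) : φ x ∈ Cfsg.powerClosure p k U := by
  induction hx using closure_induction with
  | mem x hx =>
    obtain ⟨y, hy, rfl⟩ := hx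
    exact subset_closure ⟨φ y, apply_mem_of_characteristic hU φ hy, map_pow φ y _⟩
  | one => rw [map_one]; exact one_mem _
  | mul x y _ _ ix iy => rw [map_mul]; exact mul_mem ix iy
  | inv x _ ix => rw [map_inv]; exact inv_mem ix

open Subgroup CfsgLib.Coprime in
theorem apply_mem_omegaOne {G : Type*} [Group G] {p : ℕ} {L : Subgroup G} (hL : L.Characteristic)
    (φ : MulAut G) {x : G} (hx : x ∈ Cfsg.omegaOne p L) : φ x ∈ Cfsg.omegaOne p L := by
  induction hx using closure_induction with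
  | mem x hx => exact subset_closure ⟨apply_mem_of_characteristic hL φ hx.1, by rw [← map_pow, hx.2, map_one]⟩
  | one => rw [map_one]; exact one_mem _
  | mul x y _ _ ix iy => rw [map_mul]; exact mul_mem ix iy
  | inv x _ ix => rw [map_inv]; exact inv_mem ix

open Subgroup CfsgLib.Coprime in
open scoped commutatorElement in
/-- `U` of order `4` with `R ∖ U` inverting it: the whole group is extraspecial. -/
theorem extraspecial_of_order_four {G : Type*} [Group G] [Finite G] (hG : IsPGroup 2 G) {U M : Subgroup G}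
    (D : SympData 2 U M) {u : G} (hu : U = zpowers u) (hun : orderOf u = 2 ^ 2) {E R : Subgroup G}
    (hcov : ∀ g : G, ∃ e ∈ E, ∃ r ∈ R, g = e * r) (hER : ∀ e ∈ E, ∀ r ∈ R, Commute e r)
    (hpow : ∀ e ∈ E, e ^ 2 ∈ zpowers (u ^ 2 ^ (2 - 1))) (hRU : R ⊓ M = U) (hne : R ≠ U)
    (hzc : u ^ 2 ^ (2 - 1) ∈ center G) :
    Cfsg.IsExtraspecial 2 (⊤ : Subgroup G) := by
  have : Fact (Nat.Prime 2) := ⟨Nat.prime_two⟩
  set z := u ^ 2 ^ (2 - 1) with hz
  have hz2 : z = u ^ 2 := by rw [hz]; norm_num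
  have hu4 : u ^ 4 = 1 := by
    have := pow_orderOf_eq_one u
    rw [hun] at this; simpa using this
  have hu2 : u ^ 2 ≠ 1 := fun h => by
    have := Nat.le_of_dvd two_pos (orderOf_dvd_of_pow_eq_one h)
    rw [hun] at this; omega
  have hUn : U.Normal := by have := D.charU; infer_instance
  have hUR : U ≤ R := hRU ▸ inf_le_left
  have hzp : z ^ 2 = 1 := by rw [hz2, ← pow_mul, hu4]
  -- elements of `R ∖ U` invert `u`
  have hinv : ∀ r ∈ R, r ∉ U → r * u * r⁻¹ = u⁻¹ := by
    intro r hr hrU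
    have h1 : r * u * r⁻¹ ∈ zpowers u := hu ▸ hUn.conj_mem u (hu ▸ mem_zpowers u) r
    obtain ⟨i, hi⟩ := mem_zpowers_iff.1 h1
    rw [← hi]
    have hcomm : r * u * r⁻¹ ≠ u := fun h => hrU (by
      rw [← hRU]
      refine ⟨hr, ?_⟩
      show r ∈ M
      rw [← D.centralizer_eq, hu, mem_centralizer_iff]
      intro x hx
      obtain ⟨j, rfl⟩ := mem_zpowers_iff.1 hx
      exact ((show Commute r u from mul_inv_eq_iff_eq_mul.1 h).zpow_right j).eq.symm)
    have hord : orderOf (r * u * r⁻¹) = 4 := by rw [← MulAut.conj_apply, MulEquiv.orderOf_eq, hun]; norm_num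
    obtain ⟨c, rfl | rfl | rfl | rfl⟩ : ∃ c : ℤ, i = 4 * c ∨ i = 4 * c + 1 ∨ i = 4 * c + 2 ∨ i = 4 * c + 3 :=
      ⟨i / 4, by omega⟩
    all_goals
      have e4 : u ^ (4 * c) = 1 := by
        rw [zpow_mul, show u ^ (4 : ℤ) = u ^ 4 from zpow_natCast u 4, hu4, one_zpow]
    · rw [← hi, e4, orderOf_one] at hord; omega
    · rw [← hi, zpow_add, e4, zpow_one, one_mul] at hcomm; exact absurd rfl hcomm
    · rw [← hi, zpow_add, e4, one_mul, show u ^ (2 : ℤ) = u ^ 2 from zpow_natCast u 2] at hord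
      have := orderOf_dvd_of_pow_eq_one (show (u ^ 2) ^ 2 = 1 by rw [← pow_mul, hu4])
      rw [hord] at this; omega
    · rw [zpow_add, e4, one_mul, ← mul_eq_one_iff_eq_inv]
      rw [show u ^ (3 : ℤ) = u ^ 3 from zpow_natCast u 3, ← pow_succ, hu4]
  have hsqR : ∀ r ∈ R, r ^ 2 ∈ zpowers z := by
    intro r hr
    by_cases hrU : r ∈ U
    · rw [hu] at hrU
      obtain ⟨i, rfl⟩ := mem_zpowers_iff.1 hrU
      refine mem_zpowers_iff.2 ⟨i, ?_⟩
      rw [hz2, ← zpow_natCast, ← zpow_natCast _ 2, ← zpow_mul, ← zpow_mul, mul_comm]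
    · have hr2 : r ^ 2 ∈ U := by
        by_contra h
        have e1 := hinv _ (pow_mem hr 2) h
        have e2 := hinv r hr hrU
        have e3 : r ^ 2 * u * (r ^ 2)⁻¹ = u := by
          rw [show r ^ 2 * u * (r ^ 2)⁻¹ = r * (r * u * r⁻¹) * r⁻¹ by simp [pow_two, mul_assoc], e2,
            show r * u⁻¹ * r⁻¹ = (r * u * r⁻¹)⁻¹ by group, e2, inv_inv]
        rw [e3] at e1
        exact hu2 (by rw [pow_two]; exact mul_eq_one_iff_eq_inv.2 e1)
      rw [hu] at hr2
      obtain ⟨j, hj⟩ := mem_zpowers_iff.1 hr2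
      have h2j : u ^ (2 * j) = 1 := by
        have e1 : r * r ^ 2 * r⁻¹ = r ^ 2 := by group
        rw [← hj, conj_zpow.symm, hinv r hr hrU, inv_zpow', ← div_eq_one, div_eq_mul_inv, ← zpow_neg, ← zpow_add] at e1
        rw [← inv_inj, inv_one, ← zpow_neg, ← e1]
        congr 1; ring
      rw [← hj]
      rw [← orderOf_dvd_iff_zpow_eq_one, hun] at h2j
      obtain ⟨d, hd⟩ := h2j
      refine mem_zpowers_iff.2 ⟨d, ?_⟩
      rw [hz2, ← zpow_natCast, ← zpow_mul]
      congr 1
      norm_num at hd ⊢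
      omega
  have hsq : ∀ g : G, g ^ 2 ∈ zpowers z := by
    intro g
    obtain ⟨e, he, r, hr, rfl⟩ := hcov g
    rw [(hER e he r hr).mul_pow]
    exact mul_mem (hpow e he) (hsqR r hr)
  have hZc : zpowers z ≤ center G := zpowers_le.2 hzc
  have hcomm : ∀ x y : G, ⁅x, y⁆ ∈ zpowers z := by
    intro x y
    have e1 : ⁅x, y⁆ = (x * y) ^ 2 * (y⁻¹ * (x ^ 2)⁻¹ * y⁻¹) := by
      simp [commutatorElement_def, pow_two, mul_assoc]
    rw [e1, mem_center_iff.1 (hZc (inv_mem (hsq x))) y⁻¹, mul_assoc, ← mul_inv_rev, ← pow_two]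
    exact mul_mem (hsq _) (mul_mem (inv_mem (hsq x)) (inv_mem (hsq y)))
  refine isExtraspecial_of_central (hG.to_subgroup ⊤) ((zpowers z).subgroupOf ⊤) ?_ (le_antisymm ?_ ?_)
    (fun x y => ?_) (fun x => hsq x.1) ?_
  · rw [Nat.card_congr (subgroupOfEquivOfLe le_top).toEquiv, Nat.card_zpowers]
    exact orderOf_eq_prime hzp (hz2 ▸ hu2)
  · intro c hc
    have hcc : ∀ g : G, g * c = c * g := fun g => congrArg Subtype.val (mem_center_iff.1 hc ⟨g, mem_top g⟩)
    have hcU : (c : G) ∈ U := by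
      rw [← D.center_le M D.charM D.le le_rfl]
      refine ⟨?_, mem_centralizer_iff.2 fun g _ => hcc g⟩
      rw [← D.centralizer_eq]
      exact mem_centralizer_iff.2 fun g _ => hcc g
    rw [hu] at hcU
    obtain ⟨i, hi⟩ := mem_zpowers_iff.1 hcU
    obtain ⟨r, hr, hrU⟩ : ∃ r ∈ R, r ∉ U := by
      by_contra! hall
      exact hne (le_antisymm hall hUR)
    have e1 : r * (c : G) * r⁻¹ = c := by rw [hcc r, mul_inv_cancel_right]
    rw [← hi, conj_zpow.symm, hinv r hr hrU, inv_zpow', ← div_eq_one, div_eq_mul_inv, ← zpow_neg, ← zpow_add,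
      ← orderOf_dvd_iff_zpow_eq_one, hun] at e1
    obtain ⟨d, hd⟩ := e1
    refine mem_zpowers_iff.2 ⟨-d, ?_⟩
    rw [coe_subtype, ← hi, hz2, ← zpow_natCast, ← zpow_mul]
    congr 1
    norm_num at hd ⊢
    omega
  · intro c hc
    exact mem_center_iff.2 fun f => Subtype.ext (mem_center_iff.1 (hZc hc) f)
  · rw [mem_subgroupOf, ← coe_subtype, map_commutatorElement]
    exact hcomm _ _
  · intro h
    rw [subgroupOf_eq_top] at h
    refine hne (le_antisymm (fun r hr => ?_) hUR)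
    exact (zpowers_le.2 (hz2 ▸ hu ▸ pow_mem (mem_zpowers u) 2) : zpowers z ≤ U) (h (mem_top r))


/-- Let G be a finite p-group of symplectic type: every characteristic abelian subgroup of G is cyclic. Then G = E ∗ R is a central product of subgroups E and R (they commute elementwise and generate G) where E is extraspecial or trivial, and R is cyclic, or p = 2 and R is dihedral, semidihedral or generalized quaternion of order at least 16. -/
theorem result {G : Type*} [Group G] [Finite G] {p : ℕ} [Fact p.Prime] (hG : IsPGroup p G) (hsymp : ∀ A : Subgroup G, A.Characteristic → IsMulCommutative A → IsCyclic A) : ∃ E R : Subgroup G, (∀ e ∈ E, ∀ r ∈ R, e * r = r * e) ∧ E ⊔ R = ⊤ ∧ (E = ⊥ ∨ Cfsg.IsExtraspecial p ↥E) ∧ (IsCyclic R ∨ (p = 2 ∧ 16 ≤ Nat.card R ∧ ((∃ m : ℕ, Nonempty (↥R ≃* DihedralGroup m)) ∨ (∃ m : ℕ, Nonempty (↥R ≃* QuaternionGroup m)) ∨ Cfsg.IsQuasiDihedral ↥R))) := by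
  classical
  have hp : p.Prime := Fact.out
  by_cases hsub : Subsingleton G
  · exact ⟨⊥, ⊤, fun e he r _ => by rw [Subsingleton.elim e 1, Subsingleton.elim r 1],
      bot_sup_eq ⊤, Or.inl rfl, Or.inl inferInstance⟩
  rw [not_subsingleton_iff_nontrivial] at hsub
  obtain ⟨U, M, D⟩ := CfsgLib.Coprime.exists_sympData hG hsymp
  obtain ⟨u, hu'⟩ := (Subgroup.isCyclic_iff_exists_zpowers_eq_top U).1 D.cyclic
  have hu : U = Subgroup.zpowers u := hu'.symm
  obtain ⟨n, hun⟩ := IsPGroup.iff_orderOf.1 hG u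
  have hUn : U.Normal := by have := D.charU; infer_instance
  have hn : 1 ≤ n := by
    by_contra h
    obtain rfl : n = 0 := by omega
    rw [pow_zero, orderOf_eq_one_iff] at hun
    rw [hun, Subgroup.zpowers_one_eq_bot] at hu
    have := hG.isNilpotent
    obtain ⟨⟨c, hc⟩, hc1⟩ := (Subgroup.ne_bot_iff_exists_ne_one (H := (⊤ : Subgroup G) ⊓ Subgroup.center G)).1
      (CfsgLib.Solvable.normal_inf_center_ne_bot ⊤ top_ne_bot)
    refine hc1 (Subtype.ext ?_)
    rw [Subgroup.coe_one, ← Subgroup.mem_bot, ← hu, ← D.center_le M D.charM D.le le_rfl]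
    exact ⟨D.centralizer_eq ▸ Subgroup.center_le_centralizer _ hc.2, Subgroup.center_le_centralizer _ hc.2⟩
  obtain ⟨hzo, hzc, hsoc⟩ := D.exists_socle hG hu hn hun
  obtain ⟨E₀, hEM, hzE, hint, hpowE, hactE, hcovM, hodd, hE⟩ := D.exists_factor hG hu hn hun
  have hMU : ∀ m ∈ M, ∀ w ∈ U, Commute m w := fun m hm w hw =>
    (Subgroup.mem_centralizer_iff.1 (D.centralizer_eq.symm ▸ hm : m ∈ Subgroup.centralizer (U : Set G)) w hw).symm
  set z := u ^ p ^ (n - 1)
  have hzU : z ∈ U := hu ▸ pow_mem (Subgroup.mem_zpowers u) _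
  -- normalize `E`
  obtain ⟨E, hEM', hEor, hpow, hodd', hcov', hg⟩ : ∃ E : Subgroup G, E ≤ M ∧
      (E = ⊥ ∨ Cfsg.IsExtraspecial p E) ∧ (∀ e ∈ E, e ^ p ∈ Subgroup.zpowers z) ∧
      (2 ≤ n → p ≠ 2 → ∀ e ∈ E, e ^ p = 1) ∧ (∀ m ∈ M, ∃ e ∈ E, ∃ w ∈ U, m = e * w) ∧
      (∀ g : G, ∃ e ∈ E, ∃ r ∈ Subgroup.centralizer (E : Set G), g = e * r) := by
    rcases hE with hc | hes
    · have hMeq : M ≤ U := by
        intro m hm
        rw [← D.center_le M D.charM D.le le_rfl]
        refine ⟨hm, Subgroup.mem_centralizer_iff.2 fun y hy => ?_⟩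
        obtain ⟨e, he, w, hw, rfl⟩ := hcovM m hm
        exact ((show Commute y e from Subgroup.mem_center_iff.1 (hc he) y).mul_right (hMU y hy w hw)).eq
      refine ⟨⊥, bot_le, Or.inl rfl, fun e he => ?_, fun _ _ e he => ?_,
        fun m hm => ⟨1, one_mem _, m, hMeq hm, (one_mul m).symm⟩,
        fun g => ⟨1, one_mem _, g, Subgroup.mem_centralizer_iff.2 fun y hy => ?_, (one_mul g).symm⟩⟩
      · rw [Subgroup.mem_bot.1 he, one_pow]; exact one_mem _
      · rw [Subgroup.mem_bot.1 he, one_pow]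
      · rw [Subgroup.mem_bot.1 hy, one_mul, mul_one]
    · refine ⟨E₀, hEM, Or.inr hes, hpowE, hodd, hcovM, fun g =>
        CfsgLib.Coprime.exists_mul_centralizer_of_extraspecial hes (Z := Subgroup.zpowers z)
          (Subgroup.zpowers_le.2 hzE) (Subgroup.zpowers_le.2 hzc) (fun e he => ?_) hactE g⟩
      refine Subgroup.zpowers_le.2 hzc (hint e e.2 ?_)
      rw [← D.center_le M D.charM D.le le_rfl]
      refine ⟨hEM e.2, Subgroup.mem_centralizer_iff.2 fun y hy => ?_⟩
      obtain ⟨f, hf, w, hw, rfl⟩ := hcovM y hy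
      have h1 : Commute (e : G) f := (congrArg Subtype.val (Subgroup.mem_center_iff.1 he ⟨f, hf⟩)).symm
      exact (h1.mul_right (hMU e (hEM e.2) w hw)).eq.symm
  set R := Subgroup.centralizer (E : Set G) with hR
  have hER : ∀ e ∈ E, ∀ r ∈ R, Commute e r := fun e he r hr => Subgroup.mem_centralizer_iff.1 hr e he
  have hUR : U ≤ R := fun w hw => Subgroup.mem_centralizer_iff.2 fun e he => (hMU e (hEM' he) w hw).eq
  have hRU : R ⊓ M = U := by
    refine le_antisymm ?_ (le_inf hUR D.le)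
    rintro x ⟨hxR, hxM⟩
    rw [← D.center_le M D.charM D.le le_rfl]
    refine ⟨hxM, Subgroup.mem_centralizer_iff.2 fun y hy => ?_⟩
    obtain ⟨f, hf, w, hw, rfl⟩ := hcov' y hy
    exact ((hER f hf x hxR).symm.mul_right (hMU x hxM w hw)).eq.symm
  have hsup : E ⊔ R = ⊤ := by
    rw [eq_top_iff]
    intro g _
    obtain ⟨e, he, r, hr, rfl⟩ := hg g
    exact mul_mem (Subgroup.mem_sup_left he) (Subgroup.mem_sup_right hr)
  by_cases hRU' : R = U
  · exact ⟨E, R, fun e he r hr => hER e he r hr, hsup, hEor, Or.inl (hRU'.symm ▸ D.cyclic)⟩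
  have hn2 : 2 ≤ n := by
    by_contra h
    obtain rfl : n = 1 := by omega
    refine hRU' (le_antisymm (fun r hr => hRU ▸ ⟨hr, ?_⟩) hUR)
    rw [← D.centralizer_eq, hu]
    refine Subgroup.mem_centralizer_iff.2 fun x hx => ?_
    refine (Subgroup.mem_center_iff.1 (Subgroup.zpowers_le.2 ?_ hx) r).symm
    simpa [z] using hzc
  by_cases hsmall : p = 2 ∧ n = 2
  · obtain ⟨rfl, rfl⟩ := hsmall
    exact ⟨⊤, ⊥, fun e _ r hr => by rw [Subgroup.mem_bot.1 hr, mul_one, one_mul], top_sup_eq ⊥,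
      Or.inr (extraspecial_of_order_four hG D hu hun hg hER hpow hRU hRU' hzc), Or.inl inferInstance⟩
  -- apply the structure theorem to `R`
  let U' : Subgroup R := U.subgroupOf R
  have hU'n : U'.Normal := hUn.subgroupOf R
  have hU'c : IsCyclic U' := (Subgroup.subgroupOfEquivOfLe hUR).isCyclic.2 D.cyclic
  have hU'card : Nat.card U' = p ^ n := by
    rw [Nat.card_congr (Subgroup.subgroupOfEquivOfLe hUR).toEquiv, hu, Nat.card_zpowers, hun]
  have hcent : Subgroup.centralizer (U' : Set R) = U' := by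
    ext r
    constructor
    · intro hr
      refine Subgroup.mem_subgroupOf.2 (hRU ▸ ⟨r.2, ?_⟩)
      rw [← D.centralizer_eq]
      exact Subgroup.mem_centralizer_iff.2 fun w hw =>
        congrArg Subtype.val (Subgroup.mem_centralizer_iff.1 hr ⟨w, hUR hw⟩ hw)
    · intro hr
      exact Subgroup.mem_centralizer_iff.2 fun w hw => Subtype.ext (hMU w (D.le hw) r hr).eq
  have hna : ¬ IsMulCommutative R := fun h => hRU' (le_antisymm (fun r hr => by
    have h1 : (⟨r, hr⟩ : R) ∈ Subgroup.centralizer (U' : Set R) :=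
      Subgroup.mem_centralizer_iff.2 fun w _ => h.is_comm.comm w _
    rw [hcent] at h1
    exact h1) hUR)
  rcases Cfsg.Agent.S3761.result (hG.to_subgroup R) hna U' hU'c n hU'card hcent with
    ⟨rfl, hcard, hiso⟩ | ⟨hrel, hWe, hWcard, -⟩
  · refine ⟨E, R, fun e he r hr => hER e he r hr, hsup, hEor, Or.inr ⟨rfl, ?_, hiso⟩⟩
    rw [hcard]
    calc 16 = 2 ^ 4 := by norm_num
      _ ≤ _ := Nat.pow_le_pow_right two_pos (by omega)
  exfalso
  set L := Subgroup.centralizer (Cfsg.powerClosure p 1 U : Set G) with hL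
  set K := Subgroup.centralizer (Cfsg.powerClosure p 1 U' : Set R) with hK
  set W := Cfsg.omegaOne p K with hW
  have hLc : L.Characteristic := CfsgLib.Coprime.characteristic_of_forall_mem fun φ x hx =>
    Subgroup.mem_centralizer_iff.2 fun y hy => by
      have := congrArg φ (Subgroup.mem_centralizer_iff.1 hx _ (apply_mem_powerClosure D.charU φ.symm hy))
      simpa using this
  have hΩc : (Cfsg.omegaOne p L).Characteristic :=
    CfsgLib.Coprime.characteristic_of_forall_mem fun φ x hx => apply_mem_omegaOne hLc φ hx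
  have hKL : ∀ r : R, r ∈ K ↔ (r : G) ∈ L := by
    intro r
    rw [hK, hL, Subgroup.mem_centralizer_iff, Subgroup.mem_centralizer_iff]
    constructor
    · intro h x hx
      induction hx using Subgroup.closure_induction with
      | mem x hx =>
        obtain ⟨w, hw, rfl⟩ := hx
        exact congrArg Subtype.val (h ((⟨w, hUR hw⟩ : R) ^ p ^ 1) (Subgroup.subset_closure ⟨_, hw, rfl⟩))
      | one => rw [one_mul, mul_one]
      | mul x y _ _ ix iy => exact (Commute.mul_left (show Commute x r from ix) iy).eq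
      | inv x _ ix => exact (Commute.inv_left (show Commute x r from ix)).eq
    · intro h x hx
      refine Subtype.ext (h _ ?_)
      induction hx using Subgroup.closure_induction with
      | mem x hx =>
        obtain ⟨w, hw, rfl⟩ := hx
        exact Subgroup.subset_closure ⟨w, hw, rfl⟩
      | one => exact one_mem _
      | mul x y _ _ ix iy => exact mul_mem ix iy
      | inv x _ ix => exact inv_mem ix
  have hML : M ≤ L := fun m hm => Subgroup.mem_centralizer_iff.2 fun y hy => by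
    have hyU : y ∈ U := (Subgroup.closure_le U).2 (fun t ht => by obtain ⟨w, hw, rfl⟩ := ht; exact pow_mem hw _) hy
    exact (hMU m hm y hyU).eq.symm
  -- the key property
  have hkey : ∀ x : G, x ∈ L → x ^ p = 1 → ∀ w ∈ W, Commute x (w : G) := by
    intro x hxL hxp w hw
    obtain ⟨e, he, r, hr, rfl⟩ := hg x
    have hrK : (⟨r, hr⟩ : R) ∈ K := (hKL _).2 (by
      have := mul_mem (inv_mem (hML (hEM' he))) hxL
      rwa [inv_mul_cancel_left] at this)
    have hwR : Commute e (w : G) := hER e he w w.2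
    refine hwR.mul_left ?_
    have hrp : e ^ p * r ^ p = 1 := by rw [← (hER e he r hr).mul_pow, hxp]
    by_cases hp2 : p = 2
    · subst hp2
      have hn3 : 3 ≤ n := by omega
      have hr2 : r ^ 2 ∈ Subgroup.zpowers z := by
        rw [eq_inv_of_mul_eq_one_right hrp]; exact inv_mem (hpow e he)
      obtain ⟨w₀, hw₀, hw₀U⟩ : ∃ w₀ ∈ W, w₀ ∉ U' := by
        by_contra! hall
        have hle : W.map R.subtype ≤ Subgroup.zpowers z := by
          rintro _ ⟨a, ha, rfl⟩
          exact hsoc _ (hall a ha) (congrArg Subtype.val (hWe.2 a ha))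
        have := Subgroup.card_le_of_le hle
        rw [Subgroup.card_map_of_injective R.subtype_injective, hWcard, Nat.card_zpowers, hzo] at this
        norm_num at this
      have hw₀K : w₀ ∈ K := (Subgroup.closure_le K).2 (fun t ht => ht.1) hw₀
      have hidx : (U'.subgroupOf K).index = 2 := hrel
      have hw₀2 : w₀ ^ 2 = 1 := hWe.2 w₀ hw₀
      have hw₀i : w₀⁻¹ = w₀ := by rw [inv_eq_iff_mul_eq_one, ← pow_two, hw₀2]
      obtain ⟨v, hv, ε, hε, hrv⟩ : ∃ v ∈ U, ∃ ε ∈ W, r = (ε : G) * v ∧ ((ε : G) ^ 2 = 1) ∧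
          ∀ t ∈ U, ((ε : G) * t * (ε : G)⁻¹) ^ 2 = t ^ 2 := by
        by_cases hrU : r ∈ U
        · exact ⟨r, hrU, 1, one_mem W, by simp, by simp, by simp⟩
        · refine ⟨(w₀ : G)⁻¹ * r, ?_, w₀, hw₀, (mul_inv_cancel_left _ _).symm, congrArg Subtype.val hw₀2,
            fun t ht => ?_⟩
          · have h := (Subgroup.mul_mem_iff_of_index_two hidx (a := ⟨w₀, hw₀K⟩⁻¹) (b := ⟨⟨r, hr⟩, hrK⟩)).2
              (iff_of_false (fun hc => hw₀U (inv_mem_iff.1 hc)) hrU)
            exact h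
          · rw [conj_pow]
            have h := Subgroup.mem_centralizer_iff.1 ((hKL w₀).1 hw₀K) (t ^ 2)
              (Subgroup.subset_closure ⟨t, ht, by rw [pow_one]⟩)
            rw [← h, mul_inv_cancel_right]
      obtain ⟨hrv, hε2, hεt⟩ := hrv
      obtain ⟨c, hc⟩ : ∃ c ∈ U, c ^ 2 = 1 ∧ (ε : G) * v * (ε : G)⁻¹ * v = c := by
        refine ⟨r ^ 2, Subgroup.zpowers_le.2 hzU hr2, ?_, ?_⟩
        · obtain ⟨i, hi⟩ := Subgroup.mem_zpowers_iff.1 hr2
          rw [← hi, ← zpow_natCast, ← zpow_mul, mul_comm, zpow_mul, zpow_natCast, ← hzo, pow_orderOf_eq_one,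
            one_zpow]
        · rw [hrv, inv_eq_of_mul_eq_one_right (show (ε : G) * ε = 1 by rw [← pow_two, hε2])]
          simp only [pow_two, mul_assoc]
      have hv4 : v ^ 4 = 1 := by
        have h1 := hεt v hv
        rw [eq_mul_inv_iff_mul_eq.2 hc.2.2, (hMU _ (D.le hc.1) _ (inv_mem hv)).mul_pow, hc.2.1, one_mul, inv_pow,
          inv_eq_iff_mul_eq_one, ← pow_add] at h1
        exact h1
      have hvU : v ∈ Subgroup.zpowers u := hu ▸ hv
      obtain ⟨i, rfl⟩ := Subgroup.mem_zpowers_iff.1 hvU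
      have h2i : (2 : ℤ) ∣ i := by
        rw [← zpow_natCast, ← zpow_mul, ← orderOf_dvd_iff_zpow_eq_one, hun] at hv4
        have h8 : ((2 ^ 3 : ℕ) : ℤ) ∣ i * (4 : ℕ) :=
          (Int.natCast_dvd_natCast.2 (pow_dvd_pow 2 hn3)).trans hv4
        norm_num at h8
        omega
      obtain ⟨j, rfl⟩ := h2i
      rw [hrv]
      refine Commute.mul_left (congrArg Subtype.val (hWe.1.is_comm.comm ⟨ε, hε⟩ ⟨w, hw⟩) |> congrArg Subtype.val) ?_
      have hwL : (w : G) ∈ L := (hKL w).1 ((Subgroup.closure_le K).2 (fun t ht => ht.1) hw)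
      refine Subgroup.mem_centralizer_iff.1 hwL _ (Subgroup.subset_closure ⟨u ^ j, hu ▸ zpow_mem (Subgroup.mem_zpowers u) j, ?_⟩)
      rw [pow_one, ← zpow_natCast, ← zpow_mul, mul_comm]; rfl
    · rw [hodd' hn2 hp2 e he, one_mul] at hrp
      have hrW : (⟨r, hr⟩ : R) ∈ W := Subgroup.subset_closure ⟨hrK, Subtype.ext hrp⟩
      exact congrArg Subtype.val (congrArg Subtype.val (hWe.1.is_comm.comm ⟨_, hrW⟩ ⟨w, hw⟩))
  set A := Cfsg.omegaOne p L ⊓ Subgroup.centralizer (Cfsg.omegaOne p L : Set G) with hA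
  have hAcyc : IsCyclic A := hsymp A (CfsgLib.Coprime.characteristic_inf_centralizer hΩc hΩc)
    ⟨⟨fun a b => Subtype.ext (Subgroup.mem_centralizer_iff.1 b.2.2 a a.2.1)⟩⟩
  have hWA : W.map R.subtype ≤ A := by
    rintro _ ⟨w, hw, rfl⟩
    refine ⟨?_, ?_⟩
    · exact Subgroup.subset_closure
        ⟨(hKL w).1 ((Subgroup.closure_le K).2 (fun t ht => ht.1) hw), congrArg Subtype.val (hWe.2 w hw)⟩
    · refine Subgroup.mem_centralizer_iff.2 fun y hy => ?_
      induction hy using Subgroup.closure_induction with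
      | mem y hy => exact (hkey y hy.1 hy.2 w hw).eq
      | one => rw [one_mul, mul_one]
      | mul a b _ _ ia ib => exact (Commute.mul_left (show Commute a _ from ia) ib).eq
      | inv a _ ia => exact (Commute.inv_left (show Commute a _ from ia)).eq
  have hWcyc : IsCyclic (W.map R.subtype) := Subgroup.isCyclic_of_le hWA
  obtain ⟨g₀, hg₀⟩ := (Subgroup.isCyclic_iff_exists_zpowers_eq_top _).1 hWcyc
  have hord : orderOf g₀ = p ^ 2 := by
    rw [← Nat.card_zpowers, hg₀, Subgroup.card_map_of_injective R.subtype_injective, hWcard]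
  obtain ⟨w, hw, rfl⟩ : g₀ ∈ W.map R.subtype := hg₀ ▸ Subgroup.mem_zpowers g₀
  have h1 := Nat.le_of_dvd hp.pos (orderOf_dvd_of_pow_eq_one (show (R.subtype w) ^ p = 1 from
    congrArg Subtype.val (hWe.2 w hw)))
  rw [hord, pow_two] at h1
  nlinarith [hp.two_le]

end Cfsg.Agent.S3762
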