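import Cfsg.Statements.S3763
import Cfsg.Agent.Lib.Coprime.ExtraspecialRank


set_option autoImplicit false
open Cfsg

namespace Cfsg.Agent.S3763

theorem plus_iff {G : Type*} [Group G] [Finite G] (hG : Cfsg.IsExtraspecial 2 G) (n : ℕ)
    (hn : Nat.card G = 2 ^ (2 * n + 1)) :
    CfsgLib.Coprime.IsPlus2 (⊤ : Subgroup G) ↔ ¬ Cfsg.PRankLE 2 n G := by
  have : Fact (Nat.Prime 2) := ⟨Nat.prime_two⟩
  have key : ∀ m : ℕ, 2 * 2 ^ (2 * n + 1) ≤ m ^ 2 ↔ 2 ^ (n + 1) ≤ m := fun m => by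
    rw [show 2 * 2 ^ (2 * n + 1) = (2 ^ (n + 1)) ^ 2 by ring]
    exact Nat.pow_le_pow_iff_left two_ne_zero
  constructor
  · rintro ⟨A, -, hA, hc⟩ hle
    rw [Subgroup.card_top, hn, key] at hc
    have := hle A ⟨⟨fun a b => Subtype.ext (hA.1 a a.2 b b.2)⟩⟩ hA.2
    have := hc.trans this
    rw [pow_succ] at this
    have := Nat.one_le_two_pow (n := n)
    omega
  · intro hle
    simp only [Cfsg.PRankLE, not_forall, not_le] at hle
    obtain ⟨A, hc, hp, hlt⟩ := hle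
    refine ⟨A, le_top, ⟨fun a ha b hb => ?_, hp⟩, ?_⟩
    · exact congrArg Subtype.val (hc.is_comm.comm ⟨a, ha⟩ ⟨b, hb⟩)
    · rw [Subgroup.card_top, hn, key]
      obtain ⟨j, hj⟩ := IsPGroup.iff_card.1 ((hG.1.1.to_subgroup A))
      rw [hj] at hlt ⊢
      exact Nat.pow_le_pow_right two_pos ((Nat.pow_lt_pow_iff_right (by norm_num)).1 hlt)


/-- Let E be an extraspecial 2-group of order 2^(2n+1). Then the largest elementary abelian subgroups of E have order 2^n or 2^(n+1); and two extraspecial 2-groups of the same order whose largest elementary abelian subgroups have the same order are isomorphic. -/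
theorem result {E : Type*} [Group E] [Finite E] (hE : Cfsg.IsExtraspecial 2 E) (n : ℕ) (hn : Nat.card E = 2 ^ (2 * n + 1)) : ((Cfsg.PRankLE 2 n E ∧ ¬ Cfsg.PRankLE 2 (n - 1) E) ∨ (Cfsg.PRankLE 2 (n + 1) E ∧ ¬ Cfsg.PRankLE 2 n E)) ∧ ∀ (E' : Type*) [Group E'] [Finite E'], Cfsg.IsExtraspecial 2 E' → Nat.card E' = Nat.card E → (∀ k : ℕ, Cfsg.PRankLE 2 k E ↔ Cfsg.PRankLE 2 k E') → Nonempty (E ≃* E') := by
  have : Fact (Nat.Prime 2) := ⟨Nat.prime_two⟩
  have ub : Cfsg.PRankLE 2 (n + 1) E := by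
    intro A hc hp
    have := CfsgLib.Coprime.comm_card_sq_le hE _ ⊤ A CfsgLib.Transfer.isEsGood_top rfl le_top
      fun a ha b hb => congrArg Subtype.val (hc.is_comm.comm ⟨a, ha⟩ ⟨b, hb⟩)
    rw [Subgroup.card_top, hn, show 2 * 2 ^ (2 * n + 1) = (2 ^ (n + 1)) ^ 2 by ring] at this
    exact (Nat.pow_le_pow_iff_left two_ne_zero).1 this
  have lb : ¬ Cfsg.PRankLE 2 (n - 1) E := by
    intro hle
    obtain ⟨A, -, hA, hc⟩ := CfsgLib.Coprime.exists_ea2_large hE _ ⊤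
      CfsgLib.Transfer.isEsGood_top rfl
    have := hle A ⟨⟨fun a b => Subtype.ext (hA.1 a a.2 b b.2)⟩⟩ hA.2
    obtain ⟨m, hm, hm'⟩ := CfsgLib.Transfer.extraspecial_card hE
    have hn1 : 1 ≤ n := by
      have := Nat.pow_right_injective (le_refl 2) (hn.symm.trans hm')
      omega
    obtain ⟨l, rfl⟩ := Nat.exists_eq_succ_of_ne_zero (by omega : n ≠ 0)
    rw [Subgroup.card_top, hn] at hc
    have h2 := hc.trans (Nat.mul_le_mul_left 2 (Nat.pow_le_pow_left this 2))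
    simp only [Nat.succ_sub_one, ← pow_mul, ← pow_succ'] at h2
    have := (Nat.pow_le_pow_iff_right (le_refl 2)).1 h2
    omega
  refine ⟨?_, fun E' _ _ hE' hcard hk => ?_⟩
  · by_cases h : Cfsg.PRankLE 2 n E
    · exact Or.inl ⟨h, lb⟩
    · exact Or.inr ⟨ub, h⟩
  · obtain ⟨φ⟩ := CfsgLib.Coprime.esGood_iso_of_plus hE hE' (Nat.card E) ⊤ ⊤
      CfsgLib.Transfer.isEsGood_top CfsgLib.Transfer.isEsGood_top Subgroup.card_top
      (Subgroup.card_top.trans hcard)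
      ((plus_iff hE n hn).trans ((not_congr (hk n)).trans (plus_iff hE' n (hcard.trans hn)).symm))
    exact ⟨Subgroup.topEquiv.symm.trans (φ.trans Subgroup.topEquiv)⟩

end Cfsg.Agent.S3763
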