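import Cfsg.Statements.S3764
import Cfsg.Agent.Lib.OddLocal.HallHigmanLinear
import Cfsg.Agent.Lib.Coprime.ElementaryRep
import Cfsg.Agent.Lib.Solvable.Nilpotent
import Cfsg.Agent.Lib.Coprime.Basic


set_option autoImplicit false
open Cfsg

namespace Cfsg.Agent.S3764



/-- Let p, q, r be distinct primes and let X, Q, V be subgroups of a finite group with X of order r, Q an extraspecial q-group normalized by X with C_Q(X) = Z(Q), and V an elementary abelian p-group normalized by X and Q on which XQ acts faithfully ((X ⊔ Q) ∩ C(V) = 1). If C_V(X) = 1, then q = 2, r = 2^n + 1 for some n, and Q has order 2^(2n+1). -/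
theorem result {G : Type*} [Group G] [Finite G] {p q r : ℕ} (hp : p.Prime) (hq : q.Prime) (hr : r.Prime) (hpq : p ≠ q) (hpr : p ≠ r) (hqr : q ≠ r) (X Q V : Subgroup G) (hX : Nat.card X = r) (hQ : Cfsg.IsExtraspecial q ↥Q) (hXQ : X ≤ Subgroup.normalizer (Q : Set G)) (hCQ : Q ⊓ Subgroup.centralizer (X : Set G) = (Subgroup.center ↥Q).map Q.subtype) (hV : Cfsg.IsElementaryAbelian p V) (hXV : X ≤ Subgroup.normalizer (V : Set G)) (hQV : Q ≤ Subgroup.normalizer (V : Set G)) (hfaith : (X ⊔ Q) ⊓ Subgroup.centralizer (V : Set G) = ⊥) (hCV : V ⊓ Subgroup.centralizer (X : Set G) = ⊥) : q = 2 ∧ ∃ n : ℕ, r = 2 ^ n + 1 ∧ Nat.card Q = 2 ^ (2 * n + 1) := by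
  classical
  open scoped commutatorElement in
  haveI := Fact.mk hp
  haveI := Fact.mk hq
  obtain ⟨⟨hQp, hQfr, hQcom⟩, hQZ⟩ := hQ
  obtain ⟨x₀, hx₀⟩ := exists_prime_orderOf_dvd_card' (hp := ⟨hr⟩) r (dvd_of_eq hX.symm)
  have hx : orderOf (x₀ : G) = r := (Subgroup.orderOf_coe x₀).trans hx₀
  have hRx : Subgroup.zpowers (x₀ : G) = X :=
    Subgroup.eq_of_le_of_card_ge (Subgroup.zpowers_le.2 x₀.2) (by rw [Nat.card_zpowers, hx, hX])
  obtain ⟨nq, hnq⟩ := IsPGroup.iff_card.1 hQp
  have hcop : (Nat.card X).Coprime (Nat.card Q) := by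
    rw [hX, hnq]
    exact Nat.Coprime.pow_right nq ((Nat.coprime_primes hr hq).2 hqr.symm)
  haveI := hQp.isNilpotent
  -- `[Q, X] = Q`
  have hQX : ⁅Q, X⁆ = Q := by
    have hle : ⁅Q, X⁆ ≤ Q := Subgroup.le_normalizer_iff_commutator_le_left.1 hXQ
    have h := CfsgLib.Coprime.commutator_sup_centralizer hXQ hcop (Or.inr inferInstance)
    rw [hCQ] at h
    refine le_antisymm hle ?_
    have h2 : (⁅Q, X⁆).subgroupOf Q ⊔ frattini Q = ⊤ := by
      apply Subgroup.map_injective Q.subtype_injective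
      rw [Subgroup.map_sup, Subgroup.map_subgroupOf_eq_of_le hle, hQfr, h, ← MonoidHom.range_eq_map,
        Subgroup.range_subtype]
    exact Subgroup.subgroupOf_eq_top.1 (frattini_nongenerating h2)
  set Γ : Subgroup G := X ⊔ Q with hΓ
  have hΓV : Γ ≤ Subgroup.normalizer (V : Set G) := sup_le hXV hQV
  obtain ⟨d, ρ, hker, hfp⟩ := CfsgLib.Coprime.exists_elementary_rep hV hΓV
  have hρ : Function.Injective ρ := (injective_iff_map_eq_one ρ).2 fun g hg => Subtype.ext
    (Subgroup.mem_bot.1 (hfaith ▸ Subgroup.mem_inf.2 ⟨g.2, hker g hg⟩))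
  set P := Q.subgroupOf Γ with hP
  haveI hPn : P.Normal := (Subgroup.normal_subgroupOf_iff_le_normalizer le_sup_right).2
    (sup_le hXQ Subgroup.le_normalizer)
  let xΓ : Γ := ⟨x₀, Subgroup.mem_sup_left x₀.2⟩
  have hzΓ : (Subgroup.zpowers xΓ).map Γ.subtype = X := by rw [MonoidHom.map_zpowers]; exact hRx
  have hPΓ : P.map Γ.subtype = Q := Subgroup.map_subgroupOf_eq_of_le le_sup_right
  have hgen : P ⊔ Subgroup.zpowers xΓ = ⊤ := by
    apply Subgroup.map_injective Γ.subtype_injective
    rw [Subgroup.map_sup, hPΓ, hzΓ, ← MonoidHom.range_eq_map, Subgroup.range_subtype, hΓ, sup_comm]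
  have hPx : ⁅P, Subgroup.zpowers xΓ⁆ = P := by
    apply Subgroup.map_injective Γ.subtype_injective
    rw [Subgroup.map_commutator, hPΓ, hzΓ, hQX]
  let e : P ≃* Q := Subgroup.subgroupOfEquivOfLe le_sup_right
  have hPp : IsPGroup q P := IsPGroup.of_equiv hQp e.symm
  haveI := hPp.isNilpotent
  -- central elements of `P` commute with everything
  have hcent : ∀ n : P, n ∈ Subgroup.center P → ∀ g : Γ, g * n = n * g := by
    intro n hn
    have hnQ : e n ∈ Subgroup.center Q := Subgroup.mem_center_iff.2 fun w => by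
      have := congrArg e (Subgroup.mem_center_iff.1 hn (e.symm w))
      rwa [map_mul, map_mul, e.apply_symm_apply] at this
    have hnX : ((e n : Q) : G) ∈ Q ⊓ Subgroup.centralizer (X : Set G) :=
      hCQ.symm ▸ Subgroup.mem_map_of_mem Q.subtype hnQ
    have hle : X ⊔ Q ≤ Subgroup.centralizer {((e n : Q) : G)} := by
      refine sup_le (fun a ha => ?_) fun a ha => ?_
      · rw [Subgroup.mem_centralizer_singleton_iff]
        exact Subgroup.mem_centralizer_iff.1 hnX.2 a ha
      · rw [Subgroup.mem_centralizer_singleton_iff]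
        exact congrArg Subtype.val (Subgroup.mem_center_iff.1 hnQ ⟨a, ha⟩)
    intro g
    exact Subtype.ext (Subgroup.mem_centralizer_singleton_iff.1 (hle g.2))
  have hcZ : Nat.card (Subgroup.center P) = q :=
    (Nat.card_congr (Subgroup.centerCongr e).toEquiv).trans hQZ
  have hcomP : commutator P ≤ Subgroup.center P := by
    rw [commutator_def, Subgroup.commutator_le]
    intro a _ b _
    rw [Subgroup.mem_center_iff]
    intro w
    apply e.injective
    have hc : ⁅e a, e b⁆ ∈ Subgroup.center Q :=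
      hQcom ▸ Subgroup.commutator_mem_commutator (Subgroup.mem_top _) (Subgroup.mem_top _)
    rw [map_mul, map_mul, map_commutatorElement]
    exact Subgroup.mem_center_iff.1 hc (e w)
  obtain ⟨z, hz, hz1⟩ : ∃ z : P, z ∈ Subgroup.center P ∧ z ≠ 1 := by
    haveI : Nontrivial (Subgroup.center P) := Finite.one_lt_card_iff_nontrivial.1 (hcZ ▸ hq.one_lt)
    obtain ⟨z, hz⟩ := exists_ne (1 : Subgroup.center P)
    exact ⟨z, z.2, fun h => hz (Subtype.ext h)⟩
  set k := AlgebraicClosure (ZMod p)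
  haveI : CharP k p := charP_of_injective_algebraMap (algebraMap (ZMod p) k).injective p
  have hcast : ∀ s : ℕ, s.Prime → p ≠ s → (s : k) ≠ 0 := fun s hs hsp h => by
    rw [CharP.cast_eq_zero_iff k p, Nat.prime_dvd_prime_iff_eq hp hs] at h
    exact hsp h
  set A := ρ (z : Γ) with hA
  let W0 : Submodule k (Fin d → k) := LinearMap.range (A - 1)
  have hW0 : W0 ≠ ⊥ := by
    rw [Ne, LinearMap.range_eq_bot, sub_eq_zero]
    exact fun h => hz1 (Subtype.ext (hρ (h.trans (map_one ρ).symm)))
  have hW0inv : ∀ g, ∀ w ∈ W0, ρ g w ∈ W0 := by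
    rintro g _ ⟨u, rfl⟩
    refine ⟨ρ g u, ?_⟩
    simp only [LinearMap.sub_apply, Module.End.one_apply, map_sub, hA, ← Module.End.mul_apply, ← map_mul,
      hcent z hz g, one_mul]
  have hW0fix : ∀ w ∈ W0, A w = w → w = 0 := by
    rintro _ ⟨u, rfl⟩ hw
    have hi : ∀ i : ℕ, (A ^ i) u = u + (i : k) • (A - 1) u := by
      intro i
      induction i with
      | zero => simp
      | succ i ih =>
        rw [pow_succ', Module.End.mul_apply, ih, map_add, map_smul, hw, Nat.cast_succ, add_smul, one_smul]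
        simp only [LinearMap.sub_apply, Module.End.one_apply]
        abel
    have hzq : (z : Γ) ^ q = 1 := by
      have h := pow_card_eq_one' (G := Subgroup.center P) (x := ⟨z, hz⟩)
      rw [hcZ] at h
      exact congrArg (fun w : Subgroup.center P => ((w : P) : Γ)) h
    have h := hi q
    rw [hA, ← map_pow, hzq, map_one, Module.End.one_apply, left_eq_add, smul_eq_zero] at h
    exact h.resolve_left (hcast q hq hpq)
  obtain ⟨W, hWm⟩ := exists_minimal_of_wellFoundedLT
    (fun W : Submodule k (Fin d → k) => (∀ g, ∀ w ∈ W, ρ g w ∈ W) ∧ W ≠ ⊥ ∧ W ≤ W0)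
    ⟨W0, hW0inv, hW0, le_rfl⟩
  obtain ⟨hWinv, hWne, hWW0⟩ := hWm.prop
  haveI : Nontrivial W := Submodule.nontrivial_iff_ne_bot.2 hWne
  let σ₀ : Γ →* Module.End k W :=
    { toFun := fun g => (ρ g).restrict (fun w hw => hWinv g w hw)
      map_one' := LinearMap.ext fun w => Subtype.ext (by simp)
      map_mul' := fun g g' => LinearMap.ext fun w => Subtype.ext (by simp) }
  let σ := σ₀.toHomUnits
  let Γ' := σ.range
  let f : Γ →* Γ' := σ.rangeRestrict
  let ρ' : Γ' →* Module.End k W := (Units.coeHom _).comp Γ'.subtype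
  have hρ' : Function.Injective ρ' := Units.val_injective.comp Γ'.subtype_injective
  have hfs : Function.Surjective f := σ.rangeRestrict_surjective
  haveI : (P.map f).Normal := hPn.map f hfs
  haveI : Finite Γ' := Finite.of_surjective f hfs
  have hirr : ∀ U : Submodule k W, (∀ g, ∀ w ∈ U, ρ' g w ∈ U) → U = ⊥ ∨ U = ⊤ := by
    intro U hU
    by_cases hU0 : U = ⊥
    · exact Or.inl hU0
    refine Or.inr ?_
    have h := hWm.le_of_le (y := U.map W.subtype) ⟨?_, ?_, ?_⟩ (Submodule.map_subtype_le W U)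
    · rw [eq_top_iff]
      intro w _
      obtain ⟨w', hw', he⟩ := h w.2
      rwa [← Subtype.ext (a1 := w') (a2 := w) he]
    · rintro g _ ⟨w, hw, rfl⟩
      exact ⟨_, hU (f g) w hw, rfl⟩
    · exact fun h => hU0 (Submodule.map_injective_of_injective W.subtype_injective
        (h.trans (Submodule.map_bot W.subtype).symm))
    · exact (Submodule.map_subtype_le W U).trans hWW0
  have hfree : ∀ w : W, ρ' (f xΓ) w = w → w = 0 := fun w hw => Subtype.ext
    (hfp xΓ (by rw [show ((xΓ : Γ) : G) = (x₀ : G) from rfl, hRx]; exact hCV) w (congrArg Subtype.val hw))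
  have hx' : orderOf (f xΓ) = r := by
    refine ((Nat.dvd_prime hr).1 ((Subgroup.orderOf_mk _ _).trans hx ▸ orderOf_map_dvd f xΓ)).resolve_left
      fun h => ?_
    rw [orderOf_eq_one_iff] at h
    obtain ⟨v, hv⟩ := exists_ne (0 : W)
    exact hv (hfree v (by rw [h, map_one]; rfl))
  let fP : P →* Γ' := f.comp P.subtype
  have hfP : Function.Injective fP := by
    rw [← MonoidHom.ker_eq_bot_iff]
    by_contra hne
    obtain ⟨n, hn, hn1⟩ := (fP.ker ⊓ Subgroup.center P).bot_or_exists_ne_one.resolve_left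
      (CfsgLib.Solvable.normal_inf_center_ne_bot fP.ker hne)
    have htop : Subgroup.zpowers (⟨n, hn.2⟩ : Subgroup.center P) = ⊤ :=
      zpowers_eq_top_of_prime_card (p := q) hcZ fun h => hn1 (congrArg Subtype.val h)
    obtain ⟨i, hi⟩ := htop.ge (Subgroup.mem_top (⟨z, hz⟩ : Subgroup.center P))
    have hzn : z ∈ fP.ker := by
      rw [← show n ^ i = z from congrArg Subtype.val hi]
      exact Subgroup.zpow_mem _ hn.1 i
    obtain ⟨v, hv⟩ := exists_ne (0 : W)
    refine hv (Subtype.ext (hW0fix v (hWW0 v.2) ?_))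
    have h1 : ρ' (f (z : Γ)) v = v := by
      rw [show f (z : Γ) = 1 from hzn, map_one]; rfl
    exact congrArg Subtype.val h1
  have hrange : P.map f = fP.range := by
    rw [MonoidHom.range_comp, Subgroup.range_subtype]
  have hcenimg : P.map f ⊓ Subgroup.centralizer ((P.map f : Subgroup Γ') : Set Γ') =
      (Subgroup.center P).map fP := by
    rw [hrange]
    ext w
    constructor
    · rintro ⟨⟨n, rfl⟩, hn⟩
      refine ⟨n, Subgroup.mem_center_iff.2 fun m => hfP ?_, rfl⟩
      rw [map_mul, map_mul]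
      exact Subgroup.mem_centralizer_iff.1 hn _ ⟨m, rfl⟩
    · rintro ⟨n, hn, rfl⟩
      refine ⟨⟨n, rfl⟩, Subgroup.mem_centralizer_iff.2 ?_⟩
      rintro _ ⟨m, rfl⟩
      rw [← map_mul, ← map_mul, Subgroup.mem_center_iff.1 hn m]
  have hcomm : ∀ w ∈ (Subgroup.center P).map fP, f xΓ * w = w * f xΓ := by
    rintro _ ⟨n, hn, rfl⟩
    show f xΓ * f n = f n * f xΓ
    rw [← map_mul, ← map_mul, hcent n hn xΓ]
  have hz' : (Subgroup.zpowers xΓ).map f = Subgroup.zpowers (f xΓ) := MonoidHom.map_zpowers f xΓ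
  rcases CfsgLib.OddLocal.irreducible_fixed_point' ρ' hρ' hirr hr hqr (hcast q hq hpq) (hcast r hr hpr)
      (P.map f) (hPp.map f) (f xΓ) hx'
      (by rw [← hz', ← Subgroup.map_sup, hgen, Subgroup.map_top_of_surjective f hfs])
      (by rw [← hz', ← Subgroup.map_commutator, hPx])
      (fun _ => ⟨fun w hw => hcomm w (hcenimg ▸ hw), fun u hu => hcomm u (Subgroup.map_mono hcomP (by
        rw [commutator_def, Subgroup.map_commutator, ← MonoidHom.range_eq_map, ← hrange]
        exact hu))⟩)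
      hfree with h | ⟨h2, -, m, hm, hidx⟩
  · rw [hrange, MonoidHom.range_eq_bot_iff] at h
    exact absurd (hfP (by rw [h]; rfl : fP z = fP 1)) hz1
  · refine ⟨h2, m, hm, ?_⟩
    rw [hcenimg, hrange] at hidx
    have hc1 : Nat.card ((Subgroup.center P).map fP) = 2 := by
      rw [Subgroup.card_map_of_injective hfP, hcZ, h2]
    have hc2 : Nat.card fP.range = Nat.card Q :=
      (Nat.card_congr (MonoidHom.ofInjective hfP).toEquiv).symm.trans (Nat.card_congr e.toEquiv)
    have key := Subgroup.card_mul_index (((Subgroup.center P).map fP).subgroupOf fP.range)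
    rw [CfsgLib.Coprime.card_subgroupOf ((Subgroup.map_mono le_top).trans (MonoidHom.range_eq_map fP).ge), hc1] at key
    rw [← hc2, ← key, show (((Subgroup.center P).map fP).subgroupOf fP.range).index = 2 ^ (2 * m) from hidx,
      pow_succ']

end Cfsg.Agent.S3764
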