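import Cfsg.Statements.S3765
import Cfsg.Agent.Lib.OddLocal.HallHigmanFix


set_option autoImplicit false
open Cfsg

namespace Cfsg.Agent.S3765

/-- Let p, q, r be distinct primes and let X, Q, V be subgroups of a finite group with X of order r normalizing the q-group Q and acting faithfully on it (X ∩ C(Q) = 1), and V a nontrivial elementary abelian p-group normalized by X and Q on which XQ acts faithfully. If q = 2 and r has the form 2^n + 1, assume in addition that Q is abelian. Then C_V(X) ≠ 1. -/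
theorem result {G : Type*} [Group G] [Finite G] {p q r : ℕ} (hp : p.Prime) (hq : q.Prime) (hr : r.Prime) (hpq : p ≠ q) (hpr : p ≠ r) (hqr : q ≠ r) (X Q V : Subgroup G) (hX : Nat.card X = r) (hQ : IsPGroup q Q) (hXQ : X ≤ Subgroup.normalizer (Q : Set G)) (hXfaith : X ⊓ Subgroup.centralizer (Q : Set G) = ⊥) (hV : Cfsg.IsElementaryAbelian p V) (hV1 : V ≠ ⊥) (hXV : X ≤ Subgroup.normalizer (V : Set G)) (hQV : Q ≤ Subgroup.normalizer (V : Set G)) (hfaith : (X ⊔ Q) ⊓ Subgroup.centralizer (V : Set G) = ⊥) (hexc : q = 2 → (∃ n : ℕ, r = 2 ^ n + 1) → IsMulCommutative Q) : V ⊓ Subgroup.centralizer (X : Set G) ≠ ⊥ := by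
  classical
  intro hCV
  haveI := Fact.mk hp
  haveI := Fact.mk hq
  obtain ⟨x₀, hx₀⟩ := exists_prime_orderOf_dvd_card' (hp := ⟨hr⟩) r (dvd_of_eq hX.symm)
  have hx : orderOf (x₀ : G) = r := (Subgroup.orderOf_coe x₀).trans hx₀
  have hRx : Subgroup.zpowers (x₀ : G) = X :=
    Subgroup.eq_of_le_of_card_ge (Subgroup.zpowers_le.2 x₀.2) (by rw [Nat.card_zpowers, hx, hX])
  have hVp : IsPGroup p V := fun v => ⟨1, Subtype.ext (by simpa using hV.2 v v.2)⟩
  have h := CfsgLib.OddLocal.commutator_le_centralizer_of_fixedPointFree'' (p := q) (q := p) hr hqr hpq hpr hx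
    hQ hVp (hXQ x₀.2) (hXV x₀.2) hQV hexc (Or.inr hV.2) (by rw [hRx]; exact hCV)
  rw [hRx] at h
  have hle : ⁅Q, X⁆ ≤ X ⊔ Q :=
    (Subgroup.le_normalizer_iff_commutator_le_left.1 hXQ).trans le_sup_right
  have h0 : ⁅Q, X⁆ = ⊥ := eq_bot_iff.2 (hfaith ▸ le_inf hle h)
  rw [Subgroup.commutator_comm, Subgroup.commutator_eq_bot_iff_le_centralizer] at h0
  rw [inf_eq_left.2 h0] at hXfaith
  rw [hXfaith, Subgroup.card_bot] at hX
  exact hr.ne_one hX.symm

end Cfsg.Agent.S3765
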