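import Cfsg.Statements.S3766
import Cfsg.Agent.Lib.Solvable.Fitting


set_option autoImplicit false
open scoped commutatorElement
open Cfsg

namespace Cfsg.Agent.S3766

open Subgroup

variable {G : Type*} [Group G]

/-- Chief factors, as in the statement. -/
def Chief (U V : Subgroup G) : Prop :=
  U.Normal ∧ V.Normal ∧ V < U ∧ ∀ W : Subgroup G, W.Normal → V ≤ W → W ≤ U → W = V ∨ W = U

theorem comm_le_of_chief {F : Subgroup G} [F.Normal] [Finite G] (hF : Group.IsNilpotent F)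
    {U V : Subgroup G} (hc : Chief U V) : ⁅U, F⁆ ≤ V := by
  obtain ⟨hU, hV, hlt, hmax⟩ := hc
  by_contra hle
  rcases hmax (⁅U, F⁆ ⊔ V) inferInstance le_sup_right
    (sup_le (commutator_le_left U F) hlt.le) with h | h
  · exact hle (sup_eq_right.1 h)
  have hk : ∀ k, U ≤ F.lowerCentralSeries k ⊔ V := by
    intro k
    induction k with
    | zero =>
      rw [Subgroup.lowerCentralSeries_zero, ← h]
      exact sup_le_sup_right (commutator_le_right U F) V
    | succ k ih =>
      rw [← h]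
      refine sup_le (commutator_le.2 fun u hu f hf => ?_) le_sup_right
      obtain ⟨a, ha, v, hv, rfl⟩ := mem_sup_of_normal_right.1 (ih hu)
      have e : ⁅a * v, f⁆ = a * ⁅v, f⁆ * a⁻¹ * ⁅a, f⁆ := by simp only [commutatorElement_def]; group
      rw [e]
      exact mul_mem (mem_sup_right (hV.conj_mem _ (commutator_le_left V F (commutator_mem_commutator hv hf)) _))
        (mem_sup_left (commutator_mem_commutator ha hf))
  obtain ⟨k, hk0⟩ := (isNilpotent_iff_lowerCentralSeries F).1 hF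
  exact hlt.not_ge (by simpa [hk0] using hk k)

/-- The common centralizer in `N` of the chief factors below `F`. -/
def C0 (N F : Subgroup G) : Subgroup G where
  carrier := {g | g ∈ N ∧ ∀ U V : Subgroup G, Chief U V → U ≤ F → ∀ u ∈ U, u * g * u⁻¹ * g⁻¹ ∈ V}
  one_mem' := ⟨one_mem N, fun U V _ _ u _ => by simp⟩
  mul_mem' {g k} hg hk := ⟨mul_mem hg.1 hk.1, fun U V hc hU u hu => by
    have e : u * (g * k) * u⁻¹ * (g * k)⁻¹ = (u * g * u⁻¹ * g⁻¹) * (g * (u * k * u⁻¹ * k⁻¹) * g⁻¹) := by group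
    rw [e]
    exact mul_mem (hg.2 U V hc hU u hu) (hc.2.1.conj_mem _ (hk.2 U V hc hU u hu) g)⟩
  inv_mem' {g} hg := ⟨inv_mem hg.1, fun U V hc hU u hu => by
    have e : u * g⁻¹ * u⁻¹ * g⁻¹⁻¹ = g⁻¹ * (u * g * u⁻¹ * g⁻¹)⁻¹ * g⁻¹⁻¹ := by group
    rw [e]
    exact hc.2.1.conj_mem _ (inv_mem (hg.2 U V hc hU u hu)) g⁻¹⟩

instance C0_normal (N F : Subgroup G) [N.Normal] : (C0 N F).Normal :=
  ⟨fun g hg x => ⟨Normal.conj_mem inferInstance g hg.1 x, fun U V hc hU u hu => by
    have h1 : x⁻¹ * u * x ∈ U := by simpa using hc.1.conj_mem u hu x⁻¹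
    have e : u * (x * g * x⁻¹) * u⁻¹ * (x * g * x⁻¹)⁻¹ =
        x * ((x⁻¹ * u * x) * g * (x⁻¹ * u * x)⁻¹ * g⁻¹) * x⁻¹ := by group
    rw [e]
    exact hc.2.1.conj_mem _ (hg.2 U V hc hU _ h1) x⟩⟩

/-- Iterated commutator. -/
def iter (M : Subgroup G) : ℕ → Subgroup G → Subgroup G
  | 0, T => T
  | k + 1, T => iter M k ⁅T, M⁆

theorem iter_lcs (M : Subgroup G) : ∀ k i, iter M k (M.lowerCentralSeries i) = M.lowerCentralSeries (i + k)
  | 0, i => rfl
  | k + 1, i => by
    show iter M k (M.lowerCentralSeries (i + 1)) = _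
    rw [iter_lcs M k (i + 1)]; congr 1; omega

theorem iter_bot [Finite G] {N F M : Subgroup G} (hM : M ≤ C0 N F) :
    ∀ (n : ℕ) (U : Subgroup G), U.Normal → U ≤ F → Nat.card U = n →
      ∃ k, ∀ T ≤ U, iter M k T = ⊥ := by
  intro n
  induction n using Nat.strong_induction_on with
  | _ n ih => ?_
  intro U hU hUF hn
  by_cases hb : U = ⊥
  · exact ⟨0, fun T hT => le_bot_iff.1 (hb ▸ hT)⟩
  obtain ⟨V, hV⟩ := (Set.toFinite {V : Subgroup G | V.Normal ∧ V < U}).exists_maximal
    ⟨⊥, inferInstance, bot_lt_iff_ne_bot.2 hb⟩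
  obtain ⟨hVn, hVU⟩ := hV.prop
  have hc : Chief U V := ⟨hU, hVn, hVU, fun W hW h1 h2 => by
    rcases h2.lt_or_eq with h | h
    · exact Or.inl (le_antisymm (hV.le_of_ge ⟨hW, h⟩ h1) h1)
    · exact Or.inr h⟩
  obtain ⟨k, hk⟩ := ih _ (hn ▸ Set.ncard_lt_ncard (SetLike.coe_ssubset_coe.2 hVU) (Set.toFinite _))
    V hVn (hVU.le.trans hUF) rfl
  exact ⟨k + 1, fun T hT => hk _ (commutator_le.2 fun u hu g hg => (hM hg).2 U V hc hUF u (hT hu))⟩

theorem main [Finite G] (hG : Group.IsSolvable G) (N : Subgroup G) [N.Normal] :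
    C0 N ((Cfsg.fittingSubgroup N).map N.subtype) ≤ (Cfsg.fittingSubgroup N).map N.subtype := by
  have := CfsgLib.Solvable.fittingSubgroup_characteristic N
  set F := (Cfsg.fittingSubgroup N).map N.subtype with hFdef
  have hFN : F ≤ N := map_subtype_le _
  have hFnil : Group.IsNilpotent F := (Group.isNilpotent_congr
    ((Cfsg.fittingSubgroup N).equivMapOfInjective _ N.subtype_injective)).mp
      CfsgLib.Solvable.fittingSubgroup_isNilpotent
  have hFC : F ≤ C0 N F := fun g hg => ⟨hFN hg, fun U V hc _ u hu =>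
    comm_le_of_chief hFnil hc (commutator_mem_commutator hu hg)⟩
  by_contra hle
  obtain ⟨M, hM⟩ := (Set.toFinite {M : Subgroup G | M.Normal ∧ F < M ∧ M ≤ C0 N F}).exists_minimal
    ⟨C0 N F, inferInstance, lt_of_le_not_ge hFC hle, le_rfl⟩
  obtain ⟨hMn, hFM, hMC⟩ := hM.prop
  have hcomm : ⁅M, M⁆ ≤ F := by
    by_contra hn
    have heq : ⁅M, M⁆ ⊔ F = M := le_antisymm (sup_le (commutator_le_left M M) hFM.le)
      (hM.le_of_le ⟨inferInstance, right_lt_sup.2 hn, (sup_le (commutator_le_left M M) hFM.le).trans hMC⟩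
        (sup_le (commutator_le_left M M) hFM.le))
    have hne : M.map (QuotientGroup.mk' F) ≠ ⊥ := fun h => hFM.not_ge (by
      rw [Subgroup.map_eq_bot_iff, QuotientGroup.ker_mk'] at h; exact h)
    have := hG
    refine (Group.IsSolvable.commutator_lt_of_ne_bot hne).ne ?_
    conv_rhs => rw [← heq]
    rw [Subgroup.map_sup, map_commutator, QuotientGroup.map_mk'_self, sup_bot_eq]
  obtain ⟨k, hk⟩ := iter_bot hMC _ F inferInstance le_rfl rfl
  have hnil : Group.IsNilpotent M := isNilpotent_of_lowerCentralSeries_eq_bot (n := 1 + k) (by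
    rw [← iter_lcs]; exact hk _ hcomm)
  have hMN : M ≤ N := fun g hg => (hMC hg).1
  have hle' : M.subgroupOf N ≤ Cfsg.fittingSubgroup N :=
    CfsgLib.Solvable.le_fittingSubgroup inferInstance
      ((Group.isNilpotent_congr (subgroupOfEquivOfLe hMN)).mpr hnil)
  have h2 := map_mono (f := N.subtype) hle'
  rw [subgroupOf_map_subtype, inf_eq_left.2 hMN] at h2
  exact hFM.not_ge h2


/-- Let G be a finite solvable group and N a normal subgroup of G. Call a pair V < U of normal subgroups of G a chief factor of G when no normal subgroup of G lies strictly between them; an element g centralizes the chief factor U/V when u g u⁻¹ g⁻¹ ∈ V for all u ∈ U. Then an element of G lies in the Fitting subgroup F(N) if and only if it lies in N and centralizes every chief factor of G; and also if and only if it lies in N and centralizes every chief factor U/V of G with U ≤ F(N). -/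
theorem result {G : Type*} [Group G] [Finite G] (hG : Group.IsSolvable G) (N : Subgroup G) [N.Normal] (g : G) : (g ∈ (Cfsg.fittingSubgroup ↥N).map N.subtype ↔ g ∈ N ∧ ∀ U V : Subgroup G, (U.Normal ∧ V.Normal ∧ V < U ∧ ∀ W : Subgroup G, W.Normal → V ≤ W → W ≤ U → W = V ∨ W = U) → ∀ u ∈ U, u * g * u⁻¹ * g⁻¹ ∈ V) ∧ (g ∈ (Cfsg.fittingSubgroup ↥N).map N.subtype ↔ g ∈ N ∧ ∀ U V : Subgroup G, (U.Normal ∧ V.Normal ∧ V < U ∧ ∀ W : Subgroup G, W.Normal → V ≤ W → W ≤ U → W = V ∨ W = U) → U ≤ (Cfsg.fittingSubgroup ↥N).map N.subtype → ∀ u ∈ U, u * g * u⁻¹ * g⁻¹ ∈ V) := by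
  have := CfsgLib.Solvable.fittingSubgroup_characteristic N
  have hFnil : Group.IsNilpotent ((Cfsg.fittingSubgroup N).map N.subtype) := (Group.isNilpotent_congr
    ((Cfsg.fittingSubgroup N).equivMapOfInjective _ N.subtype_injective)).mp
      CfsgLib.Solvable.fittingSubgroup_isNilpotent
  have ha : g ∈ (Cfsg.fittingSubgroup ↥N).map N.subtype → g ∈ N ∧ ∀ U V : Subgroup G,
      Chief U V → ∀ u ∈ U, u * g * u⁻¹ * g⁻¹ ∈ V := fun hg =>
    ⟨Subgroup.map_subtype_le _ hg, fun U V hc u hu =>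
      comm_le_of_chief hFnil hc (Subgroup.commutator_mem_commutator hu hg)⟩
  refine ⟨⟨ha, fun h => main hG N ⟨h.1, fun U V hc _ => h.2 U V hc⟩⟩,
    ⟨fun hg => ⟨(ha hg).1, fun U V hc _ => (ha hg).2 U V hc⟩, fun h => main hG N h⟩⟩

end Cfsg.Agent.S3766
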