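import Cfsg.Statements.S3767
import Cfsg.Agent.Lib.Coprime.SymplecticCyclic
import Cfsg.Agent.Lib.Coprime.Action


set_option autoImplicit false
open Cfsg

namespace Cfsg.Agent.S3767



/-- Let P be an extraspecial p-group of order p^(2n+1) and H a cyclic group of order h prime to p acting on P (inside a common finite group: H normalizes P) so that C_P(x) = Z(P) for every non-identity x ∈ H. Then h divides p^n + 1 or h divides p^n − 1. -/
theorem result {G : Type*} [Group G] [Finite G] {p : ℕ} [Fact p.Prime] (P H : Subgroup G) (hP : Cfsg.IsExtraspecial p ↥P) (n : ℕ) (hn : Nat.card P = p ^ (2 * n + 1)) (hH : IsCyclic H) (hcop : (Nat.card H).Coprime p) (hHP : H ≤ Subgroup.normalizer (P : Set G)) (hfix : ∀ x ∈ H, x ≠ 1 → P ⊓ Subgroup.centralizer {x} = (Subgroup.center ↥P).map P.subtype) : Nat.card H ∣ p ^ n + 1 ∨ Nat.card H ∣ p ^ n - 1 := by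
  classical
  open Subgroup in
  open scoped commutatorElement in
  obtain ⟨g, hgen⟩ := hH.exists_generator
  by_cases hg1 : g = 1
  · left
    have : Nat.card H = 1 := Nat.card_eq_one_iff_unique.2 ⟨⟨fun a b => by
      obtain ⟨i, rfl⟩ := mem_zpowers_iff.1 (hgen a)
      obtain ⟨j, rfl⟩ := mem_zpowers_iff.1 (hgen b)
      rw [hg1, one_zpow, one_zpow]⟩, ⟨1⟩⟩
    rw [this]; exact one_dvd _
  have hord : orderOf g = Nat.card H := orderOf_eq_card_of_forall_mem_zpowers hgen
  let θ : MulAut P := P.normalizerMonoidHom ⟨g, hHP g.2⟩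
  have hθ : ∀ (k : ℕ) (x : P), (((θ ^ k) x : P) : G) = ((g ^ k : H) : G) * x * ((g ^ k : H) : G)⁻¹ := by
    intro k x
    show (((P.normalizerMonoidHom ⟨g, hHP g.2⟩) ^ k) x : G) = _
    rw [← map_pow]
    rfl
  have hZmap : ∀ (k : ℕ), ∀ z : P, z ∈ center P → (θ ^ k) z = z := by
    intro k z hz
    apply Subtype.ext
    rw [hθ]
    by_cases hk : (g ^ k : H) = 1
    · rw [hk]; simp
    have h1 : (z : G) ∈ P ⊓ centralizer {((g ^ k : H) : G)} := by
      rw [hfix _ (g ^ k : H).2 (fun e => hk (Subtype.ext e))]; exact ⟨z, hz, rfl⟩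
    rw [← mem_centralizer_singleton_iff.1 h1.2, mul_inv_cancel_right]
  let W := P ⧸ center P
  letI : CommGroup W :=
    { (inferInstance : Group W) with
      mul_comm := by
        intro a b
        induction a using QuotientGroup.induction_on with
        | H a => induction b using QuotientGroup.induction_on with
          | H b =>
            refine QuotientGroup.eq.2 ?_
            rw [show (a * b)⁻¹ * (b * a) = ⁅b⁻¹, a⁻¹⁆ by rw [commutatorElement_def]; group]
            exact CfsgLib.Transfer.special_commutatorElement_mem_center hP.1 _ _ }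
  have hexp : ∀ w : W, w ^ p = 1 := by
    intro w
    induction w using QuotientGroup.induction_on with
    | H a => exact (QuotientGroup.eq_one_iff (a ^ p)).2 (hP.1.2.1 ▸ CfsgLib.Transfer.pow_mem_frattini hP.1.1 a)
  let χ : center P ≃* Multiplicative (ZMod p) :=
    mulEquivOfPrimeCardEq hP.2 (by rw [Nat.card_congr Multiplicative.toAdd, Nat.card_zmod])
  have hcm := CfsgLib.Transfer.special_commutatorElement_mem_center hP.1
  let ψ : P → P → Multiplicative (ZMod p) := fun x y => χ ⟨⁅x, y⁆, hcm x y⟩
  have hψr : ∀ x y y', ψ x (y * y') = ψ x y * ψ x y' := by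
    intro x y y'
    show χ _ = χ _ * χ _
    rw [← map_mul]
    congr 1
    apply Subtype.ext
    show ⁅x, y * y'⁆ = ⁅x, y⁆ * ⁅x, y'⁆
    calc ⁅x, y * y'⁆ = ⁅x, y⁆ * (y * ⁅x, y'⁆ * y⁻¹) := by simp only [commutatorElement_def]; group
      _ = _ := by rw [mem_center_iff.1 (hcm x y') y, mul_inv_cancel_right]
  have hψl : ∀ x x' y, ψ (x * x') y = ψ x y * ψ x' y := by
    intro x x' y
    show χ _ = χ _ * χ _
    rw [← map_mul]
    congr 1
    apply Subtype.ext
    show ⁅x * x', y⁆ = ⁅x, y⁆ * ⁅x', y⁆
    calc ⁅x * x', y⁆ = (x * ⁅x', y⁆ * x⁻¹) * ⁅x, y⁆ := by simp only [commutatorElement_def]; group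
      _ = _ := by rw [mem_center_iff.1 (hcm x' y) x, mul_inv_cancel_right, ← mem_center_iff.1 (hcm x' y)]
  have hψz : ∀ x z, z ∈ center P → ψ x z = 1 ∧ ψ z x = 1 := by
    intro x z hz
    constructor <;> (show χ _ = 1) <;> rw [MulEquiv.map_eq_one_iff] <;> apply Subtype.ext
    · exact commutatorElement_eq_one_iff_mul_comm.2 (mem_center_iff.1 hz x)
    · exact commutatorElement_eq_one_iff_mul_comm.2 (mem_center_iff.1 hz x).symm
  let inner : P → W →* Multiplicative (ZMod p) := fun x =>
    QuotientGroup.lift (center P) (MonoidHom.mk' (ψ x) (hψr x)) fun z hz => (hψz x z hz).1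
  let outer : W →* (W →* Multiplicative (ZMod p)) :=
    QuotientGroup.lift (center P) (MonoidHom.mk' inner fun x x' => MonoidHom.ext fun w => by
      induction w using QuotientGroup.induction_on with
      | H y => exact hψl x x' y) fun z hz => MonoidHom.ext fun w => by
      induction w using QuotientGroup.induction_on with
      | H y => exact (hψz y z hz).2
  let θW : MulAut W := QuotientGroup.congr (center P) (center P) θ (by
    refine eq_of_le_of_card_ge ?_ (card_map_of_injective θ.injective).ge
    rintro _ ⟨z, hz, rfl⟩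
    show θ z ∈ center P
    have := hZmap 1 z hz
    rw [pow_one] at this
    rw [this]; exact hz)
  have hθk : ∀ (k : ℕ) (a : P), (θW ^ k) (QuotientGroup.mk a : W) = (QuotientGroup.mk ((θ ^ k) a) : W) := by
    intro k
    induction k with
    | zero => intro a; rfl
    | succ k ih => intro a; rw [pow_succ', pow_succ', MulAut.mul_apply, ih]; rfl
  refine CfsgLib.Coprime.group_isometry_dvd hexp outer ?_ ?_ θW ?_ Nat.card_pos hcop ?_ (fun k hk0 hkh w => ?_) (n := n) ?_
  · intro u hu
    induction u using QuotientGroup.induction_on with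
    | H a =>
      refine (QuotientGroup.eq_one_iff a).2 (mem_center_iff.2 fun y => ?_)
      have h2 : ψ a y = 1 := hu (QuotientGroup.mk y : W)
      have h3 : (⟨⁅a, y⁆, hcm a y⟩ : center P) = 1 := χ.injective (h2.trans (map_one χ).symm)
      exact (commutatorElement_eq_one_iff_mul_comm.1 (congrArg Subtype.val h3)).symm
  · intro v hv
    induction v using QuotientGroup.induction_on with
    | H b =>
      refine (QuotientGroup.eq_one_iff b).2 (mem_center_iff.2 fun y => ?_)
      have h2 : ψ y b = 1 := hv (QuotientGroup.mk y : W)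
      have h3 : (⟨⁅y, b⁆, hcm y b⟩ : center P) = 1 := χ.injective (h2.trans (map_one χ).symm)
      exact commutatorElement_eq_one_iff_mul_comm.1 (congrArg Subtype.val h3)
  · intro u v
    induction u using QuotientGroup.induction_on with
    | H a => induction v using QuotientGroup.induction_on with
      | H b =>
        show χ ⟨⁅θ a, θ b⁆, _⟩ = χ ⟨⁅a, b⁆, _⟩
        congr 1
        apply Subtype.ext
        show ⁅θ a, θ b⁆ = ⁅a, b⁆
        rw [← map_commutatorElement]
        have := hZmap 1 _ (hcm a b)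
        rwa [pow_one] at this
  · refine MulEquiv.ext fun w => ?_
    induction w using QuotientGroup.induction_on with
    | H a =>
      rw [hθk]
      show _ = (QuotientGroup.mk a : W)
      congr 1
      apply Subtype.ext
      rw [hθ, ← hord, pow_orderOf_eq_one]
      simp
  · induction w using QuotientGroup.induction_on with
    | H a =>
      intro hv
      rw [hθk] at hv
      have hv' : ((θ ^ k) a)⁻¹ * a ∈ center P := QuotientGroup.eq.1 hv
      set y : G := ((g ^ k : H) : G) with hy
      have hy1 : y ≠ 1 := fun e => by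
        have : g ^ k = 1 := Subtype.ext e
        exact absurd (orderOf_dvd_of_pow_eq_one this) (hord ▸ Nat.not_dvd_of_pos_of_lt hk0 hkh)
      set ZG := (center P).map P.subtype with hZG
      have hyP : zpowers y ≤ normalizer (P : Set G) := zpowers_le.2 (hHP (g ^ k : H).2)
      have hyZ : zpowers y ≤ normalizer (ZG : Set G) := zpowers_le.2 (centralizer_le_normalizer _ (mem_centralizer_iff.2 (by
        rintro _ ⟨z, hz, rfl⟩
        have h1 : ((z : P) : G) ∈ P ⊓ centralizer {y} := by
          rw [hfix y (g ^ k : H).2 hy1]; exact ⟨z, hz, rfl⟩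
        exact mem_centralizer_singleton_iff.1 h1.2)))
      obtain ⟨k', hk'⟩ := IsPGroup.iff_card.1 hP.1.1
      obtain ⟨z, hz, hc⟩ := CfsgLib.Coprime.exists_mem_centralizer_of_coset (N := ZG) hyP hyZ (map_subtype_le _)
        (by rw [hk']; exact ((hcop.coprime_dvd_left (card_dvd_of_le (zpowers_le.2 (g ^ k : H).2))).pow_right k'))
        (Or.inr (by
          have := hP.1.1.isNilpotent
          exact CfsgLib.Coprime.isSolvable_map _ (inferInstance))) a.2 (fun b hb => by
          -- the coset is fixed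
          suffices hs : ∀ b ∈ zpowers y, (a : G)⁻¹ * b * a * b⁻¹ ∈ ZG from hs b hb
          have hsub : zpowers y ≤ ({
              carrier := {b | b ∈ normalizer (ZG : Set G) ∧ (a : G)⁻¹ * b * a * b⁻¹ ∈ ZG}
              one_mem' := ⟨one_mem _, by simp⟩
              mul_mem' := fun {c d} hc hd => ⟨mul_mem hc.1 hd.1, by
                rw [show (a : G)⁻¹ * (c * d) * a * (c * d)⁻¹ = ((a : G)⁻¹ * c * a * c⁻¹) * (c * ((a : G)⁻¹ * d * a * d⁻¹) * c⁻¹) by group]
                exact mul_mem hc.2 ((mem_normalizer_iff.1 hc.1 _).1 hd.2)⟩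
              inv_mem' := fun {c} hc => ⟨inv_mem hc.1, by
                rw [show (a : G)⁻¹ * c⁻¹ * a * c⁻¹⁻¹ = c⁻¹ * ((a : G)⁻¹ * c * a * c⁻¹)⁻¹ * c⁻¹⁻¹ by group]
                exact (mem_normalizer_iff.1 (inv_mem hc.1) _).1 (inv_mem hc.2)⟩ } : Subgroup G) := by
            refine zpowers_le.2 ⟨hyZ (mem_zpowers y), ⟨(((θ ^ k) a)⁻¹ * a)⁻¹, inv_mem hv', ?_⟩⟩
            show ((((θ ^ k) a)⁻¹ * a)⁻¹ : P).1 = _
            push_cast
            rw [hθ, mul_inv_rev, inv_inv, ← hy]
            group
          exact fun b hb => (hsub hb).2)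
      have hmem : (a : G) * z ∈ P ⊓ centralizer {y} :=
        ⟨mul_mem a.2 (map_subtype_le _ hz), mem_centralizer_singleton_iff.2 (mem_centralizer_iff.1 hc y (mem_zpowers y)).symm⟩
      rw [hfix y (g ^ k : H).2 hy1] at hmem
      have haZ : (a : G) ∈ ZG := by
        rw [show (a : G) = a * z * z⁻¹ by group]; exact mul_mem hmem (inv_mem hz)
      obtain ⟨w, hw, hwa⟩ := haZ
      exact (QuotientGroup.eq_one_iff a).2 ((Subtype.ext hwa : w = a) ▸ hw)
  · refine Nat.eq_of_mul_eq_mul_right (Nat.pos_of_ne_zero (Fact.out : p.Prime).ne_zero) ?_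
    rw [← pow_succ, ← hn]
    conv_lhs => rw [← hP.2]
    exact (card_eq_card_quotient_mul_card_subgroup (center P)).symm

end Cfsg.Agent.S3767
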