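import Cfsg.Statements.S3768
import Cfsg.Agent.Lib.Solvable.FrobeniusComplement
import Cfsg.Agent.Lib.Solvable.FrobeniusKernel


set_option autoImplicit false
open Cfsg

namespace Cfsg.Agent.S3768

/-- Let G be a finite Frobenius group with Frobenius complement R and Frobenius kernel K (the identity together with the elements in no conjugate of R), and let N be a normal subgroup of G not containing K. Then G/N is a Frobenius group with Frobenius complement RN/N whose Frobenius kernel is the image of K. -/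
theorem result {G : Type*} [Group G] [Finite G] (R : Subgroup G) (hR : Cfsg.IsFrobeniusComplement R) (N : Subgroup G) [N.Normal] (hKN : ¬ Cfsg.frobeniusKernel R ⊆ N) : Cfsg.IsFrobeniusComplement (R.map (QuotientGroup.mk' N)) ∧ Cfsg.frobeniusKernel (R.map (QuotientGroup.mk' N)) = QuotientGroup.mk' N '' Cfsg.frobeniusKernel R := by
  obtain ⟨K, hKset, hKn, hc⟩ := CfsgLib.Solvable.exists_frobeniusKernel hR
  rw [← hKset] at hKN ⊢
  have hKN' : ¬ K ≤ N := hKN
  have hRb : R ≠ ⊥ := hR.1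
  have hKb : K ≠ ⊥ := fun h => hKN' (h ▸ bot_le)
  have hfpf := (CfsgLib.Solvable.isFrobeniusComplement_iff_fpf hc hKb hRb).mp hR
  have hNK : N ≤ K := by
    by_contra hle
    obtain ⟨x, hxN, hxK⟩ := SetLike.not_le_iff_exists.mp hle
    have hxker : x ∉ Cfsg.frobeniusKernel R := by rw [← hKset]; exact hxK
    have hmem : ∀ k : K, x * k * x⁻¹ * (k : G)⁻¹ ∈ K ⊓ N := fun k => by
      refine ⟨K.mul_mem (hKn.conj_mem _ k.2 x) (K.inv_mem k.2), ?_⟩
      rw [show x * k * x⁻¹ * (k : G)⁻¹ = x * (k * x⁻¹ * (k : G)⁻¹) by group]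
      exact N.mul_mem hxN ((inferInstance : N.Normal).conj_mem _ (N.inv_mem hxN) k)
    have hinj : Function.Injective (fun k : K => (⟨_, hmem k⟩ : (K ⊓ N : Subgroup G))) := by
      intro a b hab
      have h : x * a * x⁻¹ * (a : G)⁻¹ = x * b * x⁻¹ * (b : G)⁻¹ := congrArg Subtype.val hab
      refine Subtype.ext (inv_mul_eq_one.mp (CfsgLib.Solvable.frobenius_commute_kernel hR hxker
        (v := (b : G)⁻¹ * a) (hKset ▸ K.mul_mem (K.inv_mem b.2) a.2) ?_)).symm
      calc (b : G)⁻¹ * a * x = (b : G)⁻¹ * (x * a * x⁻¹ * (a : G)⁻¹)⁻¹ * x * a := by group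
        _ = (b : G)⁻¹ * (x * b * x⁻¹ * (b : G)⁻¹)⁻¹ * x * a := by rw [h]
        _ = x * ((b : G)⁻¹ * a) := by group
    have h1 := Nat.card_le_card_of_injective _ hinj
    have h2 := (Subgroup.eq_of_le_of_card_ge inf_le_left h1).ge
    exact hKN' (h2.trans inf_le_right)
  set π := QuotientGroup.mk' N
  have hsurj := QuotientGroup.mk'_surjective N
  have hcK : (K.map π).comap π = K := by
    rw [Subgroup.comap_map_eq, QuotientGroup.ker_mk', sup_eq_left.mpr hNK]
  have hcomp : Subgroup.IsComplement' (K.map π) (R.map π) := by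
    have := hKn.map π hsurj
    refine Subgroup.isComplement'_of_disjoint_and_mul_eq_univ ?_ ?_
    · rw [Subgroup.disjoint_def]
      rintro _ hk ⟨r, hr, rfl⟩
      have h1 : r = 1 := Subgroup.disjoint_def.mp hc.disjoint (hcK.le hk) hr
      rw [h1, map_one]
    · rw [← Subgroup.normal_mul, ← Subgroup.map_sup, hc.sup_eq_top, Subgroup.map_top_of_surjective _ hsurj,
        Subgroup.coe_top]
  have := hKn.map π hsurj
  have hKb' : K.map π ≠ ⊥ := fun h => hKN' (by rwa [Subgroup.map_eq_bot_iff, QuotientGroup.ker_mk'] at h)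
  have hRb' : R.map π ≠ ⊥ := fun h => by
    rw [Subgroup.map_eq_bot_iff, QuotientGroup.ker_mk'] at h
    exact hRb (eq_bot_iff.mpr fun r hr => Subgroup.mem_bot.mpr
      (Subgroup.disjoint_def.mp hc.disjoint (hNK (h hr)) hr))
  have hF : Cfsg.IsFrobeniusComplement (R.map π) := by
    refine (CfsgLib.Solvable.isFrobeniusComplement_iff_fpf hcomp hKb' hRb').mpr ?_
    rintro _ ⟨r, hr, rfl⟩ hr1
    have hr1' : r ≠ 1 := fun h => hr1 (by rw [h, map_one])
    have hfix : ∀ k ∈ K, r * k = k * r → k = 1 := fun k hk hcom => by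
      have h1 : k ∈ K ⊓ Subgroup.centralizer {r} :=
        ⟨hk, Subgroup.mem_centralizer_singleton_iff.mpr hcom.symm⟩
      rw [hfpf r hr hr1'] at h1
      exact Subgroup.mem_bot.mp h1
    have hbij : Function.Bijective (fun n : N => (⟨r * n * r⁻¹ * (n : G)⁻¹,
        N.mul_mem ((inferInstance : N.Normal).conj_mem _ n.2 r) (N.inv_mem n.2)⟩ : N)) := by
      refine Finite.injective_iff_bijective.mp fun a b hab => ?_
      have h : r * a * r⁻¹ * (a : G)⁻¹ = r * b * r⁻¹ * (b : G)⁻¹ := congrArg Subtype.val hab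
      refine Subtype.ext (inv_mul_eq_one.mp (hfix ((b : G)⁻¹ * a) (hNK (N.mul_mem (N.inv_mem b.2) a.2)) ?_)).symm
      calc r * ((b : G)⁻¹ * a) = r * (b : G)⁻¹ * r⁻¹ * (r * a * r⁻¹ * (a : G)⁻¹) * a * r := by group
        _ = r * (b : G)⁻¹ * r⁻¹ * (r * b * r⁻¹ * (b : G)⁻¹) * a * r := by rw [h]
        _ = (b : G)⁻¹ * a * r := by group
    rw [eq_bot_iff]
    rintro y ⟨hy, hyc⟩
    obtain ⟨k, hk, rfl⟩ := hy
    replace hyc := Subgroup.mem_centralizer_singleton_iff.mp hyc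
    have hn : r * k * r⁻¹ * k⁻¹ ∈ N := by
      rw [← QuotientGroup.eq_one_iff]
      show π _ = 1
      rw [map_mul, map_mul, map_mul, map_inv, map_inv, ← hyc, mul_inv_cancel_right, mul_inv_cancel]
    obtain ⟨n, hn'⟩ := hbij.2 ⟨_, hn⟩
    have h : r * n * r⁻¹ * (n : G)⁻¹ = r * k * r⁻¹ * k⁻¹ := congrArg Subtype.val hn'
    have hk1 : (n : G)⁻¹ * k = 1 := hfix _ (K.mul_mem (K.inv_mem (hNK n.2)) hk) (by
      calc r * ((n : G)⁻¹ * k) = r * (n : G)⁻¹ * r⁻¹ * (r * k * r⁻¹ * k⁻¹) * k * r := by group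
        _ = r * (n : G)⁻¹ * r⁻¹ * (r * n * r⁻¹ * (n : G)⁻¹) * k * r := by rw [h]
        _ = (n : G)⁻¹ * k * r := by group)
    rw [Subgroup.mem_bot, ← inv_mul_eq_one.mp hk1]
    exact (QuotientGroup.eq_one_iff (n : G)).mpr n.2
  refine ⟨hF, ?_⟩
  obtain ⟨M, hMset, hMn, hMc⟩ := CfsgLib.Solvable.exists_frobeniusKernel hF
  rw [← hMset]
  show (M : Set (G ⧸ N)) = ((K.map π : Subgroup (G ⧸ N)) : Set (G ⧸ N))
  congr 1
  refine (Subgroup.eq_of_le_of_card_ge ?_ (Nat.eq_of_mul_eq_mul_right Nat.card_pos (hMc.card_mul.trans hcomp.card_mul.symm)).le).symm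
  intro y hy
  show y ∈ (M : Set (G ⧸ N))
  rw [hMset]
  refine or_iff_not_imp_left.mpr fun hy1 g hg => hy1 ?_
  rw [Subgroup.mem_pointwise_smul_iff_inv_smul_mem] at hg
  have h1 : g⁻¹ * y * g ∈ K.map π := by simpa using (this.conj_mem y hy g⁻¹)
  have h2 := Subgroup.disjoint_def.mp hcomp.disjoint h1 (by simpa using hg)
  have h3 : y = g * (g⁻¹ * y * g) * g⁻¹ := by group
  rw [h3, h2, mul_one, mul_inv_cancel]

end Cfsg.Agent.S3768
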