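import Cfsg.Statements.S3769
import Cfsg.Agent.Lib.OddLocal.HallHigmanFix


set_option autoImplicit false
open Cfsg

namespace Cfsg.Agent.S3769

open Subgroup
open scoped commutatorElement

variable {X : Type*} [Group X]

/-- The elements of `G` commuting with `R` modulo the normal subgroup `C`. -/
def commMod (G C R : Subgroup X) (hn : G ≤ Subgroup.normalizer (C : Set X)) : Subgroup X where
  carrier := {k | k ∈ G ∧ ∀ a ∈ R, ⁅k, a⁆ ∈ C}
  one_mem' := ⟨G.one_mem, fun a _ => by rw [commutatorElement_one_left]; exact C.one_mem⟩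
  mul_mem' := fun {k l} hk hl => ⟨G.mul_mem hk.1 hl.1, fun a ha => by
    have e : ⁅k * l, a⁆ = k * ⁅l, a⁆ * k⁻¹ * ⁅k, a⁆ := by simp only [commutatorElement_def]; group
    rw [e]
    exact C.mul_mem ((Subgroup.mem_normalizer_iff.1 (hn hk.1) _).1 (hl.2 a ha)) (hk.2 a ha)⟩
  inv_mem' := fun {k} hk => ⟨G.inv_mem hk.1, fun a ha => by
    have e : ⁅k⁻¹, a⁆ = k⁻¹ * ⁅k, a⁆⁻¹ * k := by simp only [commutatorElement_def]; group
    rw [e]
    exact (Subgroup.mem_normalizer_iff''.1 (hn hk.1) _).1 (C.inv_mem (hk.2 a ha))⟩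

theorem mem_normalizer_centralizer (V : Subgroup X) {g : X} (hg : g ∈ Subgroup.normalizer (V : Set X)) :
    g ∈ Subgroup.normalizer ((Subgroup.centralizer (V : Set X) : Subgroup X) : Set X) := by
  rw [Subgroup.mem_normalizer_iff]
  intro w
  rw [Subgroup.mem_centralizer_iff, Subgroup.mem_centralizer_iff]
  constructor
  · intro hw z hz
    have hz' := hw _ ((Subgroup.mem_normalizer_iff''.1 hg z).1 hz)
    calc z * (g * w * g⁻¹) = g * ((g⁻¹ * z * g) * w) * g⁻¹ := by group
      _ = g * (w * (g⁻¹ * z * g)) * g⁻¹ := by rw [hz']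
      _ = _ := by group
  · intro hw z hz
    have hz' := hw _ ((Subgroup.mem_normalizer_iff.1 hg z).1 hz)
    calc z * w = g⁻¹ * ((g * z * g⁻¹) * (g * w * g⁻¹)) * g := by group
      _ = g⁻¹ * ((g * w * g⁻¹) * (g * z * g⁻¹)) * g := by rw [hz']
      _ = _ := by group


/-- Let G and V be subgroups of a finite group with G solvable of odd order normalizing V, V an elementary abelian ℓ-group for a prime ℓ not dividing the order of G, and suppose G has a normal Hall subgroup K with a complement R of prime order. If C_V(R) = 1, then [R, K] centralizes V. -/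
theorem result {X : Type*} [Group X] [Finite X] (G : Subgroup X) (hsolv : Group.IsSolvable G) (hodd : Odd (Nat.card G)) (V : Subgroup X) {ℓ : ℕ} (hℓ : ℓ.Prime) (hV : Cfsg.IsElementaryAbelian ℓ V) (hℓG : ¬ ℓ ∣ Nat.card G) (hGV : G ≤ Subgroup.normalizer (V : Set X)) (K R : Subgroup X) (hKG : K ≤ G) (hKn : G ≤ Subgroup.normalizer (K : Set X)) (hHall : (Nat.card K).Coprime (K.relIndex G)) (hRG : R ≤ G) (hR : (Nat.card R).Prime) (hKR : K ⊓ R = ⊥) (hKRG : K ⊔ R = G) (hCV : V ⊓ Subgroup.centralizer (R : Set X) = ⊥) : ⁅R, K⁆ ≤ Subgroup.centralizer (V : Set X) := by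
  classical
  set r := Nat.card R with hr
  obtain ⟨x₀, hx₀⟩ := exists_prime_orderOf_dvd_card' (hp := ⟨hR⟩) r (dvd_refl _)
  have hx : orderOf (x₀ : X) = r := (Subgroup.orderOf_coe x₀).trans hx₀
  have hRx : Subgroup.zpowers (x₀ : X) = R :=
    Subgroup.eq_of_le_of_card_ge (Subgroup.zpowers_le.2 x₀.2) (by rw [Nat.card_zpowers, hx])
  haveI := Fact.mk hℓ
  have hVp : IsPGroup ℓ V := fun v => ⟨1, Subtype.ext (by simpa using hV.2 v v.2)⟩
  -- `R` has order prime to `K`
  have hRK : R ≤ Subgroup.normalizer (K : Set X) := hRG.trans hKn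
  have hrel : K.relIndex G = r := by
    have h1 := Subgroup.card_mul_index (K.subgroupOf G)
    have h2 : Nat.card G = Nat.card K * r := by
      rw [← hKRG, CfsgLib.Coprime.card_sup_of_inf_eq_bot hRK (by rwa [inf_comm] at hKR)]
    rw [Nat.card_congr (Subgroup.subgroupOfEquivOfLe hKG).toEquiv, h2] at h1
    exact Nat.eq_of_mul_eq_mul_left Nat.card_pos h1
  rw [hrel] at hHall
  have hcop : (Nat.card R).Coprime (Nat.card K) := hHall.symm
  have hrG : r ∣ Nat.card G := Subgroup.card_dvd_of_le hRG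
  have hne2 : ∀ p : ℕ, p ∣ Nat.card G → p ≠ 2 := fun p hp h => by
    subst h
    exact (Nat.not_even_iff_odd.2 hodd) (even_iff_two_dvd.2 hp)
  set S := commMod G (Subgroup.centralizer (V : Set X)) R
    (fun g hg => mem_normalizer_centralizer V (hGV hg)) with hS
  suffices hKS : K ≤ S by
    rw [Subgroup.commutator_le]
    intro a ha k hk
    rw [← commutatorElement_inv]
    exact inv_mem ((hKS hk).2 a ha)
  have hs : Group.IsSolvable R ∨ Group.IsSolvable K := Or.inr (by
    haveI := hsolv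
    exact solvable_of_solvable_injective (Subgroup.inclusion_injective hKG))
  have hdvd : Nat.card K ∣ Nat.card ↥(S ⊓ K) := by
    rw [Nat.dvd_iff_prime_pow_dvd_dvd]
    intro p e hp he
    rcases Nat.eq_zero_or_pos e with he0 | he0
    · simp [he0]
    haveI := Fact.mk hp
    have hpK : p ∣ Nat.card K := (dvd_pow_self p he0.ne').trans he
    have hpG : p ∣ Nat.card G := hpK.trans (Subgroup.card_dvd_of_le hKG)
    obtain ⟨P, hP⟩ := CfsgLib.Coprime.exists_invariant_sylow hRK hcop hs p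
    set P' := (P : Subgroup K).map K.subtype with hP'
    have hP'K : P' ≤ K := Subgroup.map_subtype_le _
    have hpr : p ≠ r := fun h => hR.ne_one (Nat.dvd_one.1 (hcop ▸ Nat.dvd_gcd dvd_rfl (h ▸ hpK)))
    have hle := CfsgLib.OddLocal.commutator_le_centralizer_of_fixedPointFree' (p := p) (q := ℓ) hR
      (hne2 p hpG) (hne2 r hrG) hpr (fun h => hℓG (h ▸ hpG)) (fun h => hℓG (h ▸ hrG)) hx
      (P.2.map K.subtype) hVp (hP x₀.2) (hGV (hRG x₀.2)) ((hP'K.trans hKG).trans hGV) (Or.inr hV.2)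
      (by rw [hRx]; exact hCV)
    rw [hRx] at hle
    have hPS : P' ≤ S ⊓ K := le_inf (fun k hk => ⟨hKG (hP'K hk), fun a ha =>
      hle (Subgroup.commutator_mem_commutator hk ha)⟩) hP'K
    refine dvd_trans ?_ (Subgroup.card_dvd_of_le hPS)
    rw [hP', Subgroup.card_map_of_injective K.subtype_injective, P.card_eq_multiplicity]
    exact Nat.pow_dvd_pow p ((hp.pow_dvd_iff_le_factorization Nat.card_pos.ne').1 he)
  have := Subgroup.eq_of_le_of_card_ge (inf_le_right : S ⊓ K ≤ K) (Nat.le_of_dvd Nat.card_pos hdvd)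
  exact this.ge.trans inf_le_left

end Cfsg.Agent.S3769
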