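import Cfsg.Statements.S3770
import Cfsg.Agent.Lib.OddLocal.FrobeniusModule
import Cfsg.Agent.S0042


set_option autoImplicit false
open Cfsg

namespace Cfsg.Agent.S3770

open Subgroup in
theorem card_coprime_of_elementary {X : Type*} [Group X] [Finite X] {V : Subgroup X} {ℓ : ℕ} (hℓ : ℓ.Prime)
    (hV : Cfsg.IsElementaryAbelian ℓ V) {n : ℕ} (hn : ¬ ℓ ∣ n) : n.Coprime (Nat.card V) := by
  have := Fact.mk hℓ
  obtain ⟨k, hk⟩ := IsPGroup.iff_card.1 (show IsPGroup ℓ V from fun v => ⟨1, Subtype.ext (by simpa using hV.2 v v.2)⟩)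
  rw [hk]
  exact Nat.Coprime.pow_right k ((hℓ.coprime_iff_not_dvd.2 hn).symm)


/-- Let G and V be subgroups of a finite group with G a Frobenius group with complement R of prime order and kernel K, G normalizing V, and V an elementary abelian ℓ-group for a prime ℓ not dividing the order of G. If C_V(R) has order ℓ, then the derived subgroup of K centralizes V. -/
theorem result {X : Type*} [Group X] [Finite X] (G : Subgroup X) (V : Subgroup X) {ℓ : ℕ} (hℓ : ℓ.Prime) (hV : Cfsg.IsElementaryAbelian ℓ V) (hℓG : ¬ ℓ ∣ Nat.card G) (hGV : G ≤ Subgroup.normalizer (V : Set X)) (R : Subgroup ↥G) (hR : Cfsg.IsFrobeniusComplement R) (hRp : (Nat.card R).Prime) (hCV : Nat.card ↥(V ⊓ Subgroup.centralizer ((R.map G.subtype : Subgroup X) : Set X)) = ℓ) : ⁅Subgroup.closure (Subtype.val '' Cfsg.frobeniusKernel R), Subgroup.closure (Subtype.val '' Cfsg.frobeniusKernel R)⁆ ≤ Subgroup.centralizer (V : Set X) := by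
  open scoped Pointwise in
  classical
  obtain ⟨N, hN, hNn, hNil⟩ := Cfsg.Agent.S0042.result R hR
  set K := N.map G.subtype with hK
  have hcl : Subgroup.closure (Subtype.val '' Cfsg.frobeniusKernel R) = K := by
    rw [← hN, show (Subtype.val '' (N : Set ↥G) : Set X) = (K : Set X) from (Subgroup.coe_map G.subtype N).symm,
      Subgroup.closure_eq]
  rw [hcl]
  set R' := R.map G.subtype with hR'
  have hKG : K ≤ G := Subgroup.map_subtype_le N
  have hRG : R' ≤ G := Subgroup.map_subtype_le R
  have hRK : R' ≤ Subgroup.normalizer (K : Set X) := by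
    refine le_trans (Subgroup.map_mono ?_) (Subgroup.le_normalizer_map G.subtype)
    rw [Subgroup.normalizer_eq_top]; exact le_top
  have hKnil : Group.IsNilpotent K :=
    (Group.isNilpotent_congr (N.equivMapOfInjective G.subtype G.subtype_injective)).1 hNil
  have hRcard : Nat.card R' = Nat.card R :=
    (Nat.card_congr (R.equivMapOfInjective G.subtype G.subtype_injective).toEquiv).symm
  have hRp' : (Nat.card R').Prime := hRcard ▸ hRp
  have hfrob : ∀ r ∈ R', r ≠ 1 → K ⊓ Subgroup.centralizer ({r} : Set X) = ⊥ := by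
    intro r hr hr1
    obtain ⟨r, hrR, rfl⟩ := Subgroup.mem_map.1 hr
    rw [eq_bot_iff]
    intro x hx
    obtain ⟨hx1, hx2⟩ := Subgroup.mem_inf.1 hx
    obtain ⟨x, hxN, rfl⟩ := Subgroup.mem_map.1 hx1
    have hc : x * r = r * x := G.subtype_injective
      (by simpa using Subgroup.mem_centralizer_singleton_iff.1 hx2)
    have hxr : x * r * x⁻¹ = r := by rw [hc, mul_inv_cancel_right]
    have hxR : x ∈ R := CfsgLib.Solvable.frobenius_mem_of_conj_mem hR hrR
      (fun h => hr1 (by simp [h])) (by rw [hxr]; exact hrR)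
    have hxk : x ∈ Cfsg.frobeniusKernel R := hN ▸ hxN
    rcases hxk with h | h
    · simp [h]
    · exact absurd (show x ∈ MulAut.conj (1 : ↥G) • R by simpa using hxR) (h 1)
  have hKR : K ⊔ R' ≤ G := sup_le hKG hRG
  have hcop : (Nat.card ↥(K ⊔ R')).Coprime (Nat.card V) :=
    (card_coprime_of_elementary hℓ hV hℓG).coprime_dvd_left (Subgroup.card_dvd_of_le hKR)
  have hKV : K ≤ Subgroup.normalizer (V : Set X) := hKG.trans hGV
  have hcopK : (Nat.card K).Coprime (Nat.card V) :=
    hcop.coprime_dvd_left (Subgroup.card_dvd_of_le le_sup_left)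
  have hVs : Group.IsSolvable V := CfsgLib.OddLocal.isSolvable_of_isMulCommutative hV.1
  have hsplit := CfsgLib.Coprime.commutator_sup_centralizer hKV hcopK (Or.inr hVs)
  have hle : ⁅V, K⁆ ≤ V := Subgroup.le_normalizer_iff_commutator_le_left.1 hKV
  have hcomm : IsMulCommutative ↥(⁅V, K⁆) := IsMulCommutative.mk ⟨fun a b => Subtype.ext
    (congrArg (fun w : V => (w : X)) (hV.1.is_comm.comm ⟨a, hle a.2⟩ ⟨b, hle b.2⟩))⟩
  have h1 : ⁅K, K⁆ ≤ Subgroup.centralizer ((⁅V, K⁆ : Subgroup X) : Set X) := by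
    refine CfsgLib.OddLocal.commutator_le_centralizer_abelian hRp' hKnil hRK hfrob _ hcomm ?_
      (hcop.coprime_dvd_right (Subgroup.card_dvd_of_le hle))
      (CfsgLib.Coprime.commutator_inf_centralizer_eq_bot hV.1 hKV hcopK) ?_
    · intro g hg
      rw [CfsgLib.Coprime.mem_normalizer_iff_map_conj, Subgroup.map_commutator,
        CfsgLib.Coprime.map_conj_of_mem_normalizer (hGV (hKR hg)),
        CfsgLib.Coprime.map_conj_of_mem_normalizer ((sup_le Subgroup.le_normalizer hRK) hg)]
    · have : Fact ℓ.Prime := ⟨hℓ⟩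
      have hc : IsCyclic ↥(V ⊓ Subgroup.centralizer (R' : Set X)) := isCyclic_of_prime_card hCV
      exact isCyclic_of_injective (Subgroup.inclusion (inf_le_inf_right _ hle))
        (Subgroup.inclusion_injective _)
  have h2 : ⁅K, K⁆ ≤ Subgroup.centralizer ((V ⊓ Subgroup.centralizer (K : Set X) : Subgroup X) : Set X) :=
    le_trans (Subgroup.commutator_le.2 fun a ha b hb => by
      rw [commutatorElement_def]
      exact mul_mem (mul_mem (mul_mem ha hb) (inv_mem ha)) (inv_mem hb))
      (Subgroup.le_centralizer_iff.1 inf_le_right)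
  rw [← hsplit]
  exact Subgroup.le_centralizer_iff.1
    (sup_le (Subgroup.le_centralizer_iff.1 h1) (Subgroup.le_centralizer_iff.1 h2))

end Cfsg.Agent.S3770
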