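import Cfsg.Statements.S3771
import Cfsg.Agent.Lib.OddLocal.PGroup


set_option autoImplicit false
open Cfsg

namespace Cfsg.Agent.S3771

/-- Let p be a prime and R a finite p-group of p-rank at most 2 (no elementary abelian subgroup of order p³) in which every element has order dividing p. Then R has order at most p³. -/
theorem result {R : Type*} [Group R] [Finite R] {p : ℕ} [Fact p.Prime] (hR : IsPGroup p R) (hrank : Cfsg.PRankLE p 2 R) (hexp : ∀ x : R, x ^ p = 1) : Nat.card R ≤ p ^ 3 := by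
  have hp := (Fact.out : p.Prime)
  obtain ⟨A, -, hAn, hAc, hAC⟩ := CfsgLib.OddLocal.exists_normal_self_centralizing hR (⊥ : Subgroup R) inferInstance
  have hA2 : Nat.card A ≤ p ^ 2 := hrank A hAc fun a _ => hexp a
  by_cases hAZ : A ≤ Subgroup.center R
  · have hAtop : A = ⊤ := by
      rw [← hAC]
      exact Subgroup.centralizer_eq_top_iff_subset.mpr hAZ
    rw [← Subgroup.card_top (G := R), ← hAtop]
    exact hA2.trans (Nat.pow_le_pow_right hp.pos (by norm_num))
  obtain ⟨a, ha, haZ⟩ := SetLike.not_le_iff_exists.mp hAZ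
  have hA0 : A ≠ ⊥ := fun h => hAZ (h ▸ bot_le)
  obtain ⟨z, hz, hz1, hzc⟩ := CfsgLib.OddLocal.exists_center_of_normal_ne_bot hR A hA0
  let Z := Subgroup.zpowers z
  have hZc : Z ≤ Subgroup.center R := Subgroup.zpowers_le.mpr hzc
  have : Z.Normal := ⟨fun n hn g => by rwa [Subgroup.mem_center_iff.mp (hZc hn) g, mul_inv_cancel_right]⟩
  have hZcard : Nat.card Z = p := by
    rw [Nat.card_zpowers]; exact orderOf_eq_prime (hexp z) hz1
  have hW : A = Z ⊔ Subgroup.zpowers a := by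
    refine (SetLike.coe_injective ((Set.toFinite _).eq_of_subset_of_card_le
      (SetLike.coe_subset_coe.mpr (sup_le (Subgroup.zpowers_le.mpr hz) (Subgroup.zpowers_le.mpr ha))) ?_)).symm
    have hlt : Z < Z ⊔ Subgroup.zpowers a := lt_of_le_of_ne le_sup_left fun h =>
      haZ (hZc (h ▸ Subgroup.mem_sup_right (Subgroup.mem_zpowers a)))
    have hc : Nat.card Z < Nat.card ↥(Z ⊔ Subgroup.zpowers a) :=
      Set.Finite.card_lt_card (Set.toFinite _) (SetLike.coe_ssubset_coe.mpr hlt)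
    obtain ⟨k, hk⟩ := IsPGroup.iff_card.mp (hR.to_subgroup (Z ⊔ Subgroup.zpowers a))
    have hk2 : 2 ≤ k := by
      by_contra h
      rw [hZcard, hk] at hc
      have := Nat.pow_le_pow_right hp.pos (show k ≤ 1 by omega)
      rw [pow_one] at this
      omega
    show Nat.card A ≤ Nat.card ↥(Z ⊔ Subgroup.zpowers a)
    rw [hk]
    exact hA2.trans (Nat.pow_le_pow_right hp.pos hk2)
  have hcardA : Nat.card A = p ^ 2 := by
    obtain ⟨k, hk⟩ := IsPGroup.iff_card.mp (hR.to_subgroup A)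
    refine le_antisymm hA2 ?_
    have hlt : Z < A := lt_of_le_of_ne (Subgroup.zpowers_le.mpr hz) fun h => haZ (hZc (h ▸ ha))
    have hc : Nat.card Z < Nat.card A := Set.Finite.card_lt_card (Set.toFinite _) (SetLike.coe_ssubset_coe.mpr hlt)
    rw [hZcard, hk] at hc
    rw [hk]
    refine Nat.pow_le_pow_right hp.pos ?_
    by_contra h
    have := Nat.pow_le_pow_right hp.pos (show k ≤ 1 by omega)
    rw [pow_one] at this
    omega
  have hval : ∀ x : R, x * a * x⁻¹ * a⁻¹ ∈ Z := by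
    intro x
    -- otherwise the commutator generates `A` modulo `Z`
    obtain ⟨i, hi⟩ : ∃ i : ℕ, x * a * x⁻¹ * (a ^ i)⁻¹ ∈ Z := by
      have h1 : x * a * x⁻¹ ∈ Z ⊔ Subgroup.zpowers a := hW ▸ hAn.conj_mem a ha x
      obtain ⟨z', hz', w, hw, hzw⟩ := Subgroup.mem_sup_of_normal_left.mp h1
      obtain ⟨i, rfl⟩ := (IsOfFinOrder.mem_powers_iff_mem_zpowers (isOfFinOrder_of_finite a)).mpr hw
      exact ⟨i, by rw [← hzw, mul_inv_cancel_right]; exact hz'⟩
    have key : ∀ j : ℕ, x ^ j * a * (x ^ j)⁻¹ * (a ^ (i ^ j))⁻¹ ∈ Z := by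
      intro j
      induction j with
      | zero => simp
      | succ j ih =>
        have hf : ∀ u : R, u ∈ Z → x * u * x⁻¹ = u := fun u hu => by
          rw [Subgroup.mem_center_iff.mp (hZc hu) x, mul_inv_cancel_right]
        obtain ⟨u, hu, hu'⟩ : ∃ u ∈ Z, x ^ j * a * (x ^ j)⁻¹ = u * a ^ (i ^ j) :=
          ⟨_, ih, by rw [inv_mul_cancel_right]⟩
        obtain ⟨v, hv, hv'⟩ : ∃ v ∈ Z, x * a * x⁻¹ = v * a ^ i := ⟨_, hi, by rw [inv_mul_cancel_right]⟩
        have hvc : Commute v (a ^ i) := (Subgroup.mem_center_iff.mp (hZc hv) _).symm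
        have : x ^ (j + 1) * a * (x ^ (j + 1))⁻¹ = u * v ^ (i ^ j) * a ^ (i ^ (j + 1)) := by
          calc x ^ (j + 1) * a * (x ^ (j + 1))⁻¹ = x * (x ^ j * a * (x ^ j)⁻¹) * x⁻¹ := by
                rw [pow_succ']; group
            _ = (x * u * x⁻¹) * (x * a * x⁻¹) ^ (i ^ j) := by rw [hu', conj_pow]; group
            _ = _ := by rw [hf u hu, hv', hvc.mul_pow, ← pow_mul, mul_assoc, pow_succ' i]
        rw [this, mul_inv_cancel_right]
        exact Z.mul_mem hu (Z.pow_mem hv _)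
    have h2 := key p
    rw [hexp x, one_mul, inv_one, mul_one] at h2
    have hiz : a * (a ^ i)⁻¹ ∈ Z := by
      have e : a ^ (i ^ p) = a ^ i := by
        rw [pow_eq_pow_iff_modEq, orderOf_eq_prime (hexp a) (fun h => haZ (h ▸ one_mem _))]
        rw [← ZMod.natCast_eq_natCast_iff]
        push_cast
        exact ZMod.pow_card _
      rwa [e] at h2
    have : x * a * x⁻¹ * a⁻¹ = (x * a * x⁻¹ * (a ^ i)⁻¹) * (a * (a ^ i)⁻¹)⁻¹ := by group
    rw [this]
    exact Z.mul_mem hi (Z.inv_mem hiz)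
  let φ : R →* Z := MonoidHom.mk' (fun x => ⟨x * a * x⁻¹ * a⁻¹, hval x⟩) fun x y => Subtype.ext (by
    show x * y * a * (x * y)⁻¹ * a⁻¹ = (x * a * x⁻¹ * a⁻¹) * (y * a * y⁻¹ * a⁻¹)
    have h := Subgroup.mem_center_iff.mp (hZc (hval y))
    calc x * y * a * (x * y)⁻¹ * a⁻¹ = x * ((y * a * y⁻¹ * a⁻¹) * (a * x⁻¹ * a⁻¹)) := by group
      _ = x * ((a * x⁻¹ * a⁻¹) * (y * a * y⁻¹ * a⁻¹)) := by rw [h (a * x⁻¹ * a⁻¹)]
      _ = _ := by group)
  have hker : φ.ker ≤ A := by
    intro x hx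
    have h1 : x * a * x⁻¹ * a⁻¹ = 1 := congrArg Subtype.val hx
    have h2 : Subgroup.zpowers a ≤ Subgroup.centralizer ({x} : Set R) := Subgroup.zpowers_le.mpr
      (Subgroup.mem_centralizer_singleton_iff.mpr (mul_inv_eq_iff_eq_mul.mp (mul_inv_eq_one.mp h1)).symm)
    rw [← hAC]
    refine Subgroup.mem_centralizer_iff.mpr fun y hy => ?_
    have : A ≤ Subgroup.centralizer ({x} : Set R) := hW ▸ sup_le (fun w hw =>
      Subgroup.mem_centralizer_singleton_iff.mpr (Subgroup.mem_center_iff.mp (hZc hw) x).symm) h2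
    exact Subgroup.mem_centralizer_singleton_iff.mp (this hy)
  calc Nat.card R = φ.ker.index * Nat.card φ.ker := φ.ker.index_mul_card.symm
    _ ≤ p * p ^ 2 := Nat.mul_le_mul (by rw [Subgroup.index_ker, ← hZcard]; exact Subgroup.card_le_card_group _)
        (hcardA ▸ Subgroup.card_le_of_le hker)
    _ = p ^ 3 := by ring

end Cfsg.Agent.S3771
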