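import Cfsg.Statements.S3772
import Cfsg.Agent.Lib.Coprime.QuadraticBound
import Cfsg.Agent.Lib.Transfer.PPrimeAut
import Cfsg.Agent.Lib.StructC.BurnsideBasis


set_option autoImplicit false
open scoped commutatorElement
open Cfsg

namespace Cfsg.Agent.S3772

/-- Let G be a finite 2-group whose Frattini subgroup Φ(G) has order 2, with |G : Φ(G)| = 2^d, and let j be the number of elements x of G with x² = 1. Then j = 2^d, or j = 2^d + 2^(d−r) or j = 2^d − 2^(d−r) for some positive integer r with 2r ≤ d. Moreover if d = 2r and j is 2^d + 2^r or 2^d − 2^r, then G is extraspecial. -/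
theorem result {G : Type*} [Group G] [Finite G] (hG : IsPGroup 2 G) (hΦ : Nat.card (frattini G) = 2) (d : ℕ) (hd : (frattini G).index = 2 ^ d) : (Nat.card {x : G // x ^ 2 = 1} = 2 ^ d ∨ ∃ r : ℕ, 1 ≤ r ∧ 2 * r ≤ d ∧ (Nat.card {x : G // x ^ 2 = 1} = 2 ^ d + 2 ^ (d - r) ∨ Nat.card {x : G // x ^ 2 = 1} + 2 ^ (d - r) = 2 ^ d)) ∧ (∀ r : ℕ, d = 2 * r → (Nat.card {x : G // x ^ 2 = 1} = 2 ^ d + 2 ^ r ∨ Nat.card {x : G // x ^ 2 = 1} + 2 ^ r = 2 ^ d) → Cfsg.IsExtraspecial 2 G) := by
  classical
  have := Fintype.ofFinite G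
  obtain ⟨z, hz1, hz⟩ : ∃ z : frattini G, z ≠ 1 ∧ ∀ w : frattini G, w = 1 ∨ w = z := by
    obtain ⟨z, hz1, hz⟩ := Finset.card_eq_two.mp (show (Finset.univ : Finset (frattini G)).card = 2 by
      rw [Finset.card_univ, ← Nat.card_eq_fintype_card, hΦ])
    obtain ⟨hne, hu⟩ := hz
    have hall : ∀ w : frattini G, w = z ∨ w = hz1 := fun w => by
      have := Finset.mem_univ w
      rw [hu] at this
      simpa using this
    rcases hall 1 with h | h
    · exact ⟨hz1, fun e => hne (h.symm.trans e.symm), fun w => (hall w).imp (fun e => e.trans h.symm) id⟩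
    · exact ⟨z, fun e => hne (e.trans h), fun w => (hall w).symm.imp (fun e => e.trans h.symm) id⟩
  have hsq : ∀ x : G, x ^ 2 = 1 ∨ x ^ 2 = z := fun x =>
    (hz ⟨x ^ 2, CfsgLib.StructC.pow_mem_frattini hG x⟩).imp (fun h => congrArg Subtype.val h)
      (fun h => congrArg Subtype.val h)
  have hcm : ∀ x y : G, ⁅x, y⁆ = 1 ∨ ⁅x, y⁆ = z := fun x y => by
    have hm : ⁅x, y⁆ ∈ frattini G := by
      have := CfsgLib.StructC.comm_mem_frattini hG x⁻¹ y⁻¹
      simpa [commutatorElement_def, mul_assoc] using this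
    exact (hz ⟨_, hm⟩).imp (fun h => congrArg Subtype.val h) (fun h => congrArg Subtype.val h)
  have hzc : ∀ x : G, x * (z : G) = z * x := fun x => by
    rcases hz ⟨x * z * x⁻¹, (inferInstance : (frattini G).Normal).conj_mem _ z.2 x⟩ with h | h
    · have h' : x * (z : G) * x⁻¹ = 1 := congrArg Subtype.val h
      rw [mul_inv_eq_one, mul_eq_left] at h'
      exact absurd (Subtype.ext h') hz1
    · exact mul_inv_eq_iff_eq_mul.mp (congrArg Subtype.val h)
  have hz2 : (z : G) * z = 1 := by
    rcases hz (z * z) with h | h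
    · exact congrArg Subtype.val h
    · exact absurd (mul_eq_left.mp h) hz1
  have hzne : (z : G) ≠ 1 := fun h => hz1 (Subtype.ext h)
  let s : G → ℤ := fun x => if x ^ 2 = 1 then 1 else -1
  let ε : G → G → ℤ := fun h x => if ⁅h, x⁆ = 1 then 1 else -1
  have hmul : ∀ x h : G, s (x * h) = ε h x * s x * s h := by
    intro x h
    have e : (x * h) ^ 2 = ⁅h, x⁆ * x ^ 2 * h ^ 2 := by
      have hc : x * ⁅h, x⁆ = ⁅h, x⁆ * x := by
        rcases hcm h x with e | e <;> rw [e]
        · simp
        · exact hzc x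
      calc (x * h) ^ 2 = x * ⁅h, x⁆ * x * h * h := by rw [commutatorElement_def, sq]; group
        _ = ⁅h, x⁆ * x * x * h * h := by rw [hc]
        _ = ⁅h, x⁆ * x ^ 2 * h ^ 2 := by rw [sq, sq]; group
    simp only [s, ε]
    rw [e]
    rcases hcm h x with e1 | e1 <;> rcases hsq x with e2 | e2 <;> rcases hsq h with e3 | e3 <;>
      simp [e1, e2, e3, hzne, hz2]
  have hss : ∀ x, s x * s x = 1 := fun x => by simp only [s]; split_ifs <;> norm_num
  have hinner : ∀ h, (∑ x : G, ε h x) = if h ∈ Subgroup.center G then (Fintype.card G : ℤ) else 0 := by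
    intro h
    by_cases hh : h ∈ Subgroup.center G
    · rw [if_pos hh]
      have : ∀ x, ε h x = 1 := fun x =>
        if_pos (commutatorElement_eq_one_iff_mul_comm.mpr (Subgroup.mem_center_iff.mp hh x).symm)
      simp [this]
    · rw [if_neg hh]
      obtain ⟨x0, hx0⟩ : ∃ x0 : G, ⁅h, x0⁆ ≠ 1 := by
        by_contra hall
        push Not at hall
        exact hh (Subgroup.mem_center_iff.mpr fun x => (commutatorElement_eq_one_iff_mul_comm.mp (hall x)).symm)
      have hflip : ∀ x, ε h (x0 * x) = - ε h x := by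
        intro x
        have e : ⁅h, x0 * x⁆ = ⁅h, x0⁆ * ⁅h, x⁆ := by
          rw [show ⁅h, x0 * x⁆ = ⁅h, x0⁆ * (x0 * ⁅h, x⁆ * x0⁻¹) by simp only [commutatorElement_def]; group]
          rcases hcm h x with e | e <;> rw [e]
          · simp
          · rw [hzc, mul_inv_cancel_right]
        simp only [ε]
        rw [e, (hcm h x0).resolve_left hx0]
        rcases hcm h x with e1 | e1 <;> simp [e1, hzne, hz2]
      have h1 : (∑ x : G, ε h x) = - ∑ x : G, ε h x := by
        conv_lhs => rw [← Equiv.sum_comp (Equiv.mulLeft x0)]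
        rw [← Finset.sum_neg_distrib]
        exact Finset.sum_congr rfl fun x _ => hflip x
      linarith
  set S : ℤ := ∑ x : G, s x with hS
  set T : ℤ := ∑ h : Subgroup.center G, s h with hT
  have hS2 : S ^ 2 = (Fintype.card G : ℤ) * T := by
    calc S ^ 2 = ∑ x : G, ∑ h : G, s x * s (x * h) := by
          rw [sq, hS, Finset.sum_mul_sum]
          exact Finset.sum_congr rfl fun x _ =>
            (Equiv.sum_comp (Equiv.mulLeft x) (fun y => s x * s y)).symm
      _ = ∑ h : G, s h * ∑ x : G, ε h x := by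
          rw [Finset.sum_comm]
          refine Finset.sum_congr rfl fun h _ => ?_
          rw [Finset.mul_sum]
          refine Finset.sum_congr rfl fun x _ => ?_
          rw [hmul]
          linear_combination (ε h x * s h) * hss x
      _ = _ := by
          rw [hT, Finset.mul_sum]
          simp only [hinner, mul_ite, mul_zero]
          rw [Finset.sum_ite, Finset.sum_const_zero, add_zero,
            Finset.sum_subtype (Finset.univ.filter (· ∈ Subgroup.center G)) (p := (· ∈ Subgroup.center G))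
              (fun x => by simp)]
          exact Finset.sum_congr rfl fun h _ => mul_comm _ _
  have hsc : ∀ h : G, h ∈ Subgroup.center G → ∀ x, s (x * h) = s x * s h := fun h hh x => by
    rw [hmul, show ε h x = 1 from
      if_pos (commutatorElement_eq_one_iff_mul_comm.mpr (Subgroup.mem_center_iff.mp hh x).symm), one_mul]
  have hT' : T = 0 ∨ (T = (Fintype.card (Subgroup.center G) : ℤ) ∧ ∀ h ∈ Subgroup.center G, h ^ 2 = 1) := by
    by_cases hall : ∀ h ∈ Subgroup.center G, h ^ 2 = 1
    · right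
      refine ⟨?_, hall⟩
      rw [hT, Finset.sum_congr rfl fun (h : Subgroup.center G) _ => show s h = 1 from if_pos (hall h h.2)]
      simp
    · left
      push Not at hall
      obtain ⟨h0, hh0, hne⟩ := hall
      have h1 : T = - T := by
        conv_lhs => rw [hT, ← Equiv.sum_comp (Equiv.mulRight (⟨h0, hh0⟩ : Subgroup.center G))]
        rw [hT, ← Finset.sum_neg_distrib]
        refine Finset.sum_congr rfl fun h _ => ?_
        show s ((h : G) * h0) = _
        rw [hsc h0 hh0, show s h0 = -1 from if_neg hne, mul_neg_one]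
      linarith
  set j := Nat.card {x : G // x ^ 2 = 1}
  have hj : 2 * (j : ℤ) = (Fintype.card G : ℤ) + S := by
    have h1 : ∀ x : G, (1 : ℤ) + s x = if x ^ 2 = 1 then 2 else 0 := fun x => by
      simp only [s]; split_ifs <;> norm_num
    have h2 : (Fintype.card G : ℤ) + S = ∑ x : G, ((1 : ℤ) + s x) := by
      rw [Finset.sum_add_distrib, Finset.sum_const, Finset.card_univ, nsmul_eq_mul, mul_one, hS]
    rw [h2, Finset.sum_congr rfl fun x _ => h1 x, Finset.sum_ite, Finset.sum_const_zero, add_zero,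
      Finset.sum_const, ← Fintype.card_subtype, nsmul_eq_mul, ← Nat.card_eq_fintype_card]
    exact mul_comm _ _
  have hcardG : Fintype.card G = 2 ^ (d + 1) := by
    rw [← Nat.card_eq_fintype_card, ← (frattini G).card_mul_index, hΦ, hd, pow_succ']
  have hzcen : (z : G) ∈ Subgroup.center G := Subgroup.mem_center_iff.mpr hzc
  have hΦle : frattini G ≤ Subgroup.center G := fun w hw => by
    rcases hz ⟨w, hw⟩ with h | h
    · rw [show w = 1 from congrArg Subtype.val h]; exact one_mem _
    · rw [show w = z from congrArg Subtype.val h]; exact hzcen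
  obtain ⟨c, hc⟩ := IsPGroup.iff_card.mp (hG.to_subgroup (Subgroup.center G))
  have hc1 : 1 ≤ c := by
    have h2 := Subgroup.card_le_of_le hΦle
    rw [hΦ, hc] at h2
    by_contra h0
    rw [show c = 0 by omega] at h2
    norm_num at h2
  have hcd : c ≤ d + 1 := by
    have h2 := Subgroup.card_le_card_group (Subgroup.center G)
    rw [hc, Nat.card_eq_fintype_card, hcardG] at h2
    exact (Nat.pow_le_pow_iff_right Nat.one_lt_two).mp h2
  have main : S = 0 ∨ ∃ m : ℕ, 2 * m = d + 1 + c ∧ c ≠ d + 1 ∧ (S = 2 ^ m ∨ S = -2 ^ m) := by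
    rcases hT' with hT0 | ⟨hT1, hall⟩
    · left
      rw [hT0, mul_zero, sq_eq_zero_iff] at hS2
      exact hS2
    · right
      rw [hT1, hcardG, ← Nat.card_eq_fintype_card, hc, Nat.cast_pow, Nat.cast_pow, ← pow_add] at hS2
      have h1 : S.natAbs ^ 2 = 2 ^ (d + 1 + c) := by
        have := congrArg Int.natAbs hS2
        rwa [Int.natAbs_pow, Int.natAbs_pow] at this
      obtain ⟨m, -, hm⟩ := (Nat.dvd_prime_pow Nat.prime_two).mp (h1 ▸ dvd_pow_self S.natAbs two_ne_zero)
      rw [hm, ← pow_mul] at h1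
      have h2 := Nat.pow_right_injective le_rfl h1
      refine ⟨m, by omega, fun hcd' => ?_, ?_⟩
      · -- `G` would be elementary abelian
        have htop : Subgroup.center G = ⊤ := Subgroup.eq_top_of_card_eq _ (by
          rw [hc, Nat.card_eq_fintype_card, hcardG, hcd'])
        have hbot : frattini G ≤ ⊥ := CfsgLib.Transfer.frattini_le_of_elementary_quotient (p := 2) ⊥
          (fun x y => Subgroup.mem_bot.mpr (commutatorElement_eq_one_iff_mul_comm.mpr
            (Subgroup.mem_center_iff.mp (htop ▸ Subgroup.mem_top y) x)))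
          (fun x => Subgroup.mem_bot.mpr (hall x (htop ▸ Subgroup.mem_top x)))
        exact hzne (Subgroup.mem_bot.mp (hbot z.2))
      · rcases Int.natAbs_eq S with h3 | h3
        · left; rw [h3, hm, Nat.cast_pow]; rfl
        · right; rw [h3, hm, Nat.cast_pow]; rfl
  rw [hcardG, Nat.cast_pow] at hj
  have hzero : S = 0 → j = 2 ^ d := fun h0 => by
    have h : 2 * (j : ℤ) = 2 * 2 ^ d := by rw [hj, h0, pow_succ]; push_cast; ring
    exact_mod_cast (mul_left_cancel₀ (two_ne_zero) h)
  have hnz : ∀ m : ℕ, 1 ≤ m → S = 2 ^ m → j = 2 ^ d + 2 ^ (m - 1) := fun m hm hS' => by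
    obtain ⟨k, rfl⟩ := Nat.exists_eq_add_of_le' hm
    have h : 2 * (j : ℤ) = 2 * (2 ^ d + 2 ^ k) := by rw [hj, hS', pow_succ, pow_succ]; push_cast; ring
    rw [Nat.add_sub_cancel]
    exact_mod_cast (mul_left_cancel₀ (two_ne_zero) h)
  have hnn : ∀ m : ℕ, 1 ≤ m → S = -2 ^ m → j + 2 ^ (m - 1) = 2 ^ d := fun m hm hS' => by
    obtain ⟨k, rfl⟩ := Nat.exists_eq_add_of_le' hm
    have h : 2 * ((j : ℤ) + 2 ^ k) = 2 * 2 ^ d := by rw [mul_add, hj, hS', pow_succ, pow_succ]; push_cast; ring
    rw [Nat.add_sub_cancel]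
    exact_mod_cast (mul_left_cancel₀ (two_ne_zero) h)
  refine ⟨?_, ?_⟩
  · rcases main with h0 | ⟨m, hm, hne, hS' | hS'⟩
    · exact Or.inl (hzero h0)
    · refine Or.inr ⟨d + 1 - m, by omega, by omega, Or.inl ?_⟩
      rw [hnz m (by omega) hS', show d - (d + 1 - m) = m - 1 by omega]
    · refine Or.inr ⟨d + 1 - m, by omega, by omega, Or.inr ?_⟩
      rw [show d - (d + 1 - m) = m - 1 by omega]
      exact hnn m (by omega) hS'
  · intro r hr hjr
    have hpos : 0 < 2 ^ r := pow_pos two_pos r
    obtain ⟨m, hm, hne, hmr⟩ : ∃ m : ℕ, 2 * m = d + 1 + c ∧ c ≠ d + 1 ∧ 2 ^ (m - 1) = 2 ^ r := by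
      rcases main with h0 | ⟨m, hm, hne, hS' | hS'⟩
      · exfalso
        have := hzero h0
        rcases hjr with h | h <;> omega
      · refine ⟨m, hm, hne, ?_⟩
        have := hnz m (by omega) hS'
        have hpos2 : 0 < 2 ^ (m - 1) := pow_pos two_pos _
        rcases hjr with h | h <;> omega
      · refine ⟨m, hm, hne, ?_⟩
        have := hnn m (by omega) hS'
        have hpos2 : 0 < 2 ^ (m - 1) := pow_pos two_pos _
        rcases hjr with h | h <;> omega
    have h1 := Nat.pow_right_injective le_rfl hmr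
    have hc' : c = 1 := by omega
    rw [hc', pow_one] at hc
    have hfc : frattini G = Subgroup.center G := Subgroup.eq_of_le_of_card_ge hΦle (by rw [hc, hΦ])
    refine ⟨⟨hG, hfc, ?_⟩, hc⟩
    rw [← hfc]
    refine Subgroup.eq_of_le_of_card_ge ?_ ?_
    · rw [_root_.commutator_def, Subgroup.commutator_le]
      intro x _ y _
      rcases hcm x y with e | e <;> rw [e]
      · exact one_mem _
      · exact z.2
    · rw [hΦ]
      by_contra hlt
      have h3 : commutator G = ⊥ := Subgroup.card_eq_one.mp (by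
        have := Nat.card_pos (α := commutator G); omega)
      have htop : Subgroup.center G = ⊤ := eq_top_iff.mpr fun x _ => Subgroup.mem_center_iff.mpr fun y => by
        have h4 := Subgroup.commutator_mem_commutator (Subgroup.mem_top y) (Subgroup.mem_top x)
        rw [← _root_.commutator_def, h3, Subgroup.mem_bot] at h4
        exact commutatorElement_eq_one_iff_mul_comm.mp h4
      rw [htop, Subgroup.card_top, Nat.card_eq_fintype_card, hcardG] at hc
      have h5 : d + 1 = 1 := Nat.pow_right_injective le_rfl (hc.trans (pow_one 2).symm)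
      omega

end Cfsg.Agent.S3772
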