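import Cfsg.Statements.S3773
import Cfsg.Agent.Lib.Coprime.QuadraticBound
import Cfsg.Agent.Lib.Transfer.PPrimeAut
import Cfsg.Agent.Lib.StructC.BurnsideBasis


set_option autoImplicit false
open scoped commutatorElement
open Cfsg

namespace Cfsg.Agent.S3773

/-- Let G be a finite 2-group of nilpotency class at most 2 and exponent dividing 4 in which the elements x with x² = 1 form a subgroup N. Then |G| ≤ |N|³, and |G| < |N|³ unless G is special. -/
theorem result {G : Type*} [Group G] [Finite G] (hG : IsPGroup 2 G) (hcl : (⊤ : Subgroup G).lowerCentralSeries 2 = ⊥) (hexp : ∀ x : G, x ^ 4 = 1) (hN : ∀ x y : G, x ^ 2 = 1 → y ^ 2 = 1 → (x * y) ^ 2 = 1) : Nat.card G ≤ Nat.card {x : G // x ^ 2 = 1} ^ 3 ∧ (¬ Cfsg.IsSpecial 2 G → Nat.card G < Nat.card {x : G // x ^ 2 = 1} ^ 3) := by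
  have hNset : ∀ x : G, x ^ 2 = 1 → (x⁻¹) ^ 2 = 1 := fun x hx => by rw [inv_pow, hx, inv_one]
  let N : Subgroup G :=
    { carrier := {x | x ^ 2 = 1}
      one_mem' := one_pow 2
      mul_mem' := fun {a b} ha hb => hN a b ha hb
      inv_mem' := fun {a} ha => hNset a ha }
  have hNmem : ∀ x : G, x ∈ N ↔ x ^ 2 = 1 := fun x => Iff.rfl
  have hNcard : Nat.card {x : G // x ^ 2 = 1} = Nat.card N := rfl
  rw [hNcard]
  set Φ := Subgroup.closure (Set.range fun x : G => x ^ 2) with hΦ
  have hsq : ∀ x : G, x ^ 2 ∈ Φ := fun x => Subgroup.subset_closure ⟨x, rfl⟩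
  have hcm : ∀ x y : G, ⁅x, y⁆ ∈ Φ := fun x y => by
    rw [show ⁅x, y⁆ = x ^ 2 * (x⁻¹ * y) ^ 2 * y⁻¹ ^ 2 by simp only [commutatorElement_def, sq]; group]
    exact Φ.mul_mem (Φ.mul_mem (hsq _) (hsq _)) (hsq _)
  have hΦN : Φ ≤ N := by
    rw [hΦ, Subgroup.closure_le]
    rintro _ ⟨x, rfl⟩
    show (x ^ 2) ^ 2 = 1
    rw [← pow_mul]; exact hexp x
  have hcc : ∀ x y z : G, z * ⁅x, y⁆ = ⁅x, y⁆ * z := fun x y z => by
    have h : ⁅⁅x, y⁆, z⁆ ∈ (⊤ : Subgroup G).lowerCentralSeries 2 := by
      rw [Subgroup.lowerCentralSeries_succ, Subgroup.lowerCentralSeries_succ, Subgroup.lowerCentralSeries_zero]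
      exact Subgroup.commutator_mem_commutator
        (Subgroup.commutator_mem_commutator (Subgroup.mem_top _) (Subgroup.mem_top _)) (Subgroup.mem_top _)
    rw [hcl, Subgroup.mem_bot, commutatorElement_eq_one_iff_mul_comm] at h
    exact h.symm
  have hΦc : Φ ≤ Subgroup.center G := by
    rw [hΦ, Subgroup.closure_le]
    rintro _ ⟨x, rfl⟩
    refine Subgroup.mem_center_iff.mpr fun y => (commutatorElement_eq_one_iff_mul_comm.mp ?_).symm
    show ⁅x ^ 2, y⁆ = 1
    rw [sq, show ⁅x * x, y⁆ = x * ⁅x, y⁆ * x⁻¹ * ⁅x, y⁆ by simp only [commutatorElement_def]; group,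
      hcc x y x, mul_inv_cancel_right, ← sq]
    exact hΦN (hcm x y)
  have hsqmul : ∀ x y : G, (x * y) ^ 2 = ⁅y, x⁆ * x ^ 2 * y ^ 2 := fun x y => by
    calc (x * y) ^ 2 = x * ⁅y, x⁆ * x * y * y := by rw [commutatorElement_def, sq]; group
      _ = ⁅y, x⁆ * x * x * y * y := by rw [hcc y x x]
      _ = ⁅y, x⁆ * x ^ 2 * y ^ 2 := by rw [sq, sq]; group
  have hnormal : ∀ K : Subgroup G, Φ ≤ K → K.Normal := fun K hK => ⟨fun a ha g => by
    have h := K.mul_mem (hK (hcm g a)) ha
    rwa [commutatorElement_def, inv_mul_cancel_right] at h⟩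
  -- a supplement of `N` meeting it in `Φ`
  obtain ⟨X, -, hX⟩ := Finite.exists_le_maximal (p := fun K : Subgroup G => Φ ≤ K ∧ K ⊓ N ≤ Φ) (a := Φ)
    ⟨le_rfl, inf_le_left⟩
  obtain ⟨hΦX, hXN⟩ := hX.prop
  have hNn : N.Normal := hnormal N hΦN
  have hXn : X.Normal := hnormal X hΦX
  have htop : X ⊔ N = ⊤ := by
    refine eq_top_iff.mpr fun g _ => ?_
    by_contra hg
    have hlt : X < X ⊔ Subgroup.zpowers g := by
      refine lt_of_le_of_ne le_sup_left fun e => hg (Subgroup.mem_sup_left ?_)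
      rw [e]; exact Subgroup.mem_sup_right (Subgroup.mem_zpowers g)
    refine hX.not_prop_of_gt hlt ⟨hΦX.trans le_sup_left, ?_⟩
    rintro w ⟨hw, hwN⟩
    obtain ⟨a, ha, c, hc, rfl⟩ := Subgroup.mem_sup_of_normal_left.mp hw
    obtain ⟨i, rfl⟩ := Subgroup.mem_zpowers_iff.mp hc
    rcases Int.even_or_odd' i with ⟨k, rfl | rfl⟩
    · refine hXN ⟨X.mul_mem ha (hΦX ?_), hwN⟩
      rw [zpow_mul]; exact Φ.zpow_mem (by rw [zpow_ofNat]; exact hsq g) k
    · refine absurd ?_ hg
      have h1 : g ^ (2 * k) ∈ X := by rw [zpow_mul]; exact hΦX (Φ.zpow_mem (by rw [zpow_ofNat]; exact hsq g) k)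
      rw [zpow_add, zpow_one] at hwN
      have h2 : g = (a * g ^ (2 * k))⁻¹ * (a * (g ^ (2 * k) * g)) := by group
      rw [h2]
      exact mul_mem (Subgroup.mem_sup_left (X.inv_mem (X.mul_mem ha h1))) (Subgroup.mem_sup_right hwN)
  have hcardX : Nat.card X ≤ Nat.card Φ ^ 2 * Nat.card Φ := by
    have e : ∀ K : Subgroup G, K ≤ X → Nat.card (K.subgroupOf X) = Nat.card K := fun K hK =>
      Nat.card_congr (Subgroup.subgroupOfEquivOfLe hK).toEquiv
    have := CfsgLib.Coprime.card_le_of_squares (hG.to_subgroup X) (Φ.subgroupOf X) (Φ.subgroupOf X)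
      (fun h hh => Subgroup.mem_center_iff.mpr fun y => Subtype.ext (Subgroup.mem_center_iff.mp (hΦc hh) (y : G)))
      (fun h hh => Subgroup.mem_center_iff.mpr fun y => Subtype.ext (Subgroup.mem_center_iff.mp (hΦc hh) (y : G)))
      (fun h hh => Subtype.ext (hΦN hh)) (fun x => hsq (x : G)) (fun x y => hcm (x : G) (y : G))
      (fun x => ⟨fun h => hXN ⟨x.2, congrArg Subtype.val h⟩, fun h => Subtype.ext (hΦN h)⟩)
    rwa [e Φ hΦX] at this
  have hcardG : Nat.card G ≤ Nat.card Φ ^ 2 * Nat.card N := by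
    have hinf : X ⊓ N = Φ := le_antisymm hXN (le_inf hΦX hΦN)
    have h1 := Subgroup.relIndex_mul_relIndex ⊥ (X ⊓ N) X bot_le inf_le_left
    rw [Subgroup.relIndex_bot_left, Subgroup.relIndex_bot_left, Subgroup.inf_relIndex_left, hinf] at h1
    have h2 : N.relIndex X = N.index := by
      rw [← Subgroup.relIndex_sup_right (H := X) (K := N), htop, Subgroup.relIndex_top_right]
    rw [h2] at h1
    have h3 : N.index ≤ Nat.card Φ ^ 2 := by
      refine Nat.le_of_mul_le_mul_left ?_ (Nat.card_pos (α := Φ))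
      rw [h1, mul_comm _ (_ ^ 2)]; exact hcardX
    rw [← N.card_mul_index, mul_comm]
    exact Nat.mul_le_mul_right _ h3
  have hle3 : Nat.card G ≤ Nat.card N ^ 3 := hcardG.trans (by
    rw [pow_succ (Nat.card N) 2]
    exact Nat.mul_le_mul_right _ (Nat.pow_le_pow_left (Subgroup.card_le_of_le hΦN) 2))
  refine ⟨hle3, fun hns => lt_of_le_of_ne hle3 fun heq => hns ?_⟩
  have hΦeq : Φ = N := by
    refine Subgroup.eq_of_le_of_card_ge hΦN ?_
    by_contra hlt
    push Not at hlt
    have h1 := Nat.mul_lt_mul_of_pos_right (Nat.pow_lt_pow_left hlt two_ne_zero) (Nat.card_pos (α := N))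
    have h2 := hcardG.trans_lt h1
    rw [heq, pow_succ (Nat.card N) 2] at h2
    exact lt_irrefl _ h2
  have hNc : N ≤ Subgroup.center G := hΦeq ▸ hΦc
  have hpos : 0 < Nat.card N := Nat.card_pos
  have hcent : Subgroup.center G = N := by
    refine le_antisymm ?_ hNc
    intro z hz
    by_contra hzN
    set C := Subgroup.zpowers (z ^ 2)
    have hCc : C ≤ Subgroup.center G := Subgroup.zpowers_le.mpr ((Subgroup.center G).pow_mem hz 2)
    have hCn : C.Normal := ⟨fun a ha g => by
      rw [Subgroup.mem_center_iff.mp (hCc ha) g, mul_inv_cancel_right]; exact ha⟩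
    have hCN : C ≤ N := Subgroup.zpowers_le.mpr (hΦN (hsq z))
    have hC2 : Nat.card C = 2 := by
      rw [Nat.card_zpowers]
      exact orderOf_eq_prime (hΦN (hsq z)) (fun h => hzN h)
    set π := QuotientGroup.mk' C
    set M := N ⊔ Subgroup.zpowers z
    have hcardM : Nat.card M ≤ 2 * Nat.card N := by
      have h1 : ∀ w : M, ∃ b : Bool × N, (if b.1 then z else 1) * (b.2 : G) = (w : G) := by
        intro w
        obtain ⟨a, ha, c, hc, hac⟩ := Subgroup.mem_sup_of_normal_left.mp w.2
        obtain ⟨i, rfl⟩ := Subgroup.mem_zpowers_iff.mp hc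
        rcases Int.even_or_odd' i with ⟨k, rfl | rfl⟩
        · refine ⟨(false, ⟨a * z ^ (2 * k), N.mul_mem ha ?_⟩), by simp [hac]⟩
          rw [zpow_mul]; exact N.zpow_mem (by rw [zpow_ofNat]; exact hΦN (hsq z)) k
        · refine ⟨(true, ⟨a * z ^ (2 * k), N.mul_mem ha ?_⟩), ?_⟩
          · rw [zpow_mul]; exact N.zpow_mem (by rw [zpow_ofNat]; exact hΦN (hsq z)) k
          · rw [← hac, if_pos rfl, zpow_add, zpow_one]
            show z * (a * z ^ (2 * k)) = a * (z ^ (2 * k) * z)
            rw [← Subgroup.mem_center_iff.mp hz (a * z ^ (2 * k)), mul_assoc]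
      choose f hf using h1
      have := Nat.card_le_card_of_injective f fun v w h => Subtype.ext (by rw [← hf v, ← hf w, h])
      rwa [Nat.card_prod, Nat.card_eq_fintype_card (α := Bool), Fintype.card_bool] at this
    have hkey := CfsgLib.Coprime.card_le_of_squares (X := G ⧸ C) (hG.to_quotient C) (N.map π) (M.map π)
      (by
        rintro _ ⟨h, hh, rfl⟩
        refine Subgroup.mem_center_iff.mpr fun y => ?_
        obtain ⟨y, rfl⟩ := QuotientGroup.mk'_surjective C y
        rw [← map_mul, ← map_mul, Subgroup.mem_center_iff.mp (hNc hh) y])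
      (by
        rintro _ ⟨h, hh, rfl⟩
        refine Subgroup.mem_center_iff.mpr fun y => ?_
        obtain ⟨y, rfl⟩ := QuotientGroup.mk'_surjective C y
        rw [← map_mul, ← map_mul,
          Subgroup.mem_center_iff.mp ((sup_le hNc (Subgroup.zpowers_le.mpr hz)) hh) y])
      (by rintro _ ⟨h, hh, rfl⟩; rw [← map_pow, (hNmem h).mp hh, map_one])
      (fun x => by
        obtain ⟨x, rfl⟩ := QuotientGroup.mk'_surjective C x
        exact ⟨x ^ 2, hΦN (hsq x), map_pow π x 2⟩)
      (fun x y => by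
        obtain ⟨x, rfl⟩ := QuotientGroup.mk'_surjective C x
        obtain ⟨y, rfl⟩ := QuotientGroup.mk'_surjective C y
        exact ⟨⁅x, y⁆, hΦN (hcm x y), map_commutatorElement π x y⟩)
      (fun x => by
        obtain ⟨x, rfl⟩ := QuotientGroup.mk'_surjective C x
        rw [← map_pow]
        refine (QuotientGroup.eq_one_iff _).trans ⟨fun h => ?_, ?_⟩
        · obtain ⟨i, hi⟩ := Subgroup.mem_zpowers_iff.mp h
          refine ⟨x, ?_, rfl⟩
          have h1 : x * (z ^ i)⁻¹ ∈ N := by
            have hc : Commute x (z ^ i) := Subgroup.mem_center_iff.mp ((Subgroup.center G).zpow_mem hz i) x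
            show (x * (z ^ i)⁻¹) ^ 2 = 1
            rw [hc.inv_right.mul_pow, inv_pow, ← zpow_natCast (z ^ i), ← zpow_mul, mul_comm i, zpow_mul,
              zpow_natCast, hi, mul_inv_cancel]
          have h2 := M.mul_mem (Subgroup.mem_sup_left h1)
            (Subgroup.mem_sup_right (Subgroup.zpow_mem_zpowers z i))
          rwa [inv_mul_cancel_right] at h2
        · rintro ⟨m, hm, hmx⟩
          obtain ⟨a, ha, c, hc, rfl⟩ := Subgroup.mem_sup_of_normal_left.mp hm
          rw [← QuotientGroup.eq_one_iff, ← QuotientGroup.mk'_apply, map_pow, ← hmx, ← map_pow,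
            QuotientGroup.mk'_apply, QuotientGroup.eq_one_iff]
          obtain ⟨i, rfl⟩ := Subgroup.mem_zpowers_iff.mp hc
          have hac : Commute a (z ^ i) := Subgroup.mem_center_iff.mp ((Subgroup.center G).zpow_mem hz i) a
          rw [hac.mul_pow, (hNmem a).mp ha, one_mul, ← zpow_natCast, ← zpow_mul, mul_comm, zpow_mul,
            zpow_natCast]
          exact C.zpow_mem (Subgroup.mem_zpowers _) i)
    have hmapN : 2 * Nat.card (N.map π) = Nat.card N := by
      have h1 := Subgroup.relIndex_mul_relIndex ⊥ C N bot_le hCN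
      rw [Subgroup.relIndex_bot_left, Subgroup.relIndex_bot_left, hC2] at h1
      have hk : C.relIndex N = Nat.card (N.map π) := by
        have h2 := Subgroup.relIndex_ker (f := π) N
        rwa [QuotientGroup.ker_mk'] at h2
      rw [← h1, hk]
    have hmapM : 2 * Nat.card (M.map π) ≤ 2 * Nat.card N := by
      have h1 := Subgroup.relIndex_mul_relIndex ⊥ C M bot_le (hCN.trans le_sup_left)
      rw [Subgroup.relIndex_bot_left, Subgroup.relIndex_bot_left, hC2] at h1
      rw [← Subgroup.relIndex_ker, QuotientGroup.ker_mk', h1]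
      exact hcardM
    have h5 : Nat.card (G ⧸ C) ≤ Nat.card (N.map π) ^ 2 * Nat.card N :=
      hkey.trans (Nat.mul_le_mul_left _ (Nat.le_of_mul_le_mul_left hmapM two_pos))
    have h6 := C.card_mul_index
    rw [hC2, Subgroup.index_eq_card, heq] at h6
    have hb : 0 < Nat.card (N.map π) := Nat.card_pos
    generalize Nat.card (G ⧸ C) = q at h5 h6
    generalize Nat.card (N.map π) = b at h5 hmapN hb
    rw [← hmapN] at h5 h6
    nlinarith [Nat.mul_pos hb (Nat.mul_pos hb hb)]
  have hcomm : commutator G = N := by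
    have hle : commutator G ≤ N := by
      rw [_root_.commutator_def, Subgroup.commutator_le]
      exact fun x _ y _ => hΦN (hcm x y)
    by_contra hne
    obtain ⟨H, hHle, hH⟩ := Finite.exists_le_maximal (p := fun K : Subgroup G => K < N) (a := commutator G)
      (lt_of_le_of_ne hle hne)
    obtain ⟨t, htN, htH⟩ := SetLike.exists_of_lt hH.prop
    have hgen : ∀ w ∈ N, w ∉ H → w * t ∈ H := by
      intro w hw hwH
      have hK : H ⊔ Subgroup.zpowers t = N := by
        refine le_antisymm (sup_le hH.prop.le (Subgroup.zpowers_le.mpr htN)) ?_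
        by_contra hlt
        exact htH ((hH.eq_of_le (lt_of_le_not_ge (sup_le hH.prop.le (Subgroup.zpowers_le.mpr htN)) hlt)
          le_sup_left).ge (Subgroup.mem_sup_right (Subgroup.mem_zpowers t)))
      have hHn : H.Normal := ⟨fun a ha g => by
        rw [Subgroup.mem_center_iff.mp (hNc (hH.prop.le ha)) g, mul_inv_cancel_right]; exact ha⟩
      obtain ⟨a, ha, c, hc, rfl⟩ := Subgroup.mem_sup_of_normal_left.mp (hK.ge hw)
      obtain ⟨i, rfl⟩ := Subgroup.mem_zpowers_iff.mp hc
      rcases Int.even_or_odd' i with ⟨k, rfl | rfl⟩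
      · exfalso; apply hwH
        rw [zpow_mul, zpow_ofNat, (hNmem t).mp htN, one_zpow, mul_one]; exact ha
      · rw [zpow_add, zpow_mul, zpow_ofNat, (hNmem t).mp htN, one_zpow, one_mul, zpow_one, mul_assoc,
          ← sq, (hNmem t).mp htN, mul_one]
        exact ha
    have hcH : ∀ x y : G, ⁅x, y⁆ ∈ H := fun x y =>
      hHle (Subgroup.commutator_mem_commutator (Subgroup.mem_top _) (Subgroup.mem_top _))
    let X0 : Subgroup G :=
      { carrier := {x | x ^ 2 ∈ H}
        one_mem' := by show (1 : G) ^ 2 ∈ H; rw [one_pow]; exact H.one_mem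
        mul_mem' := fun {a b} ha hb => by
          show (a * b) ^ 2 ∈ H
          rw [hsqmul]; exact H.mul_mem (H.mul_mem (hcH b a) ha) hb
        inv_mem' := fun {a} ha => by show a⁻¹ ^ 2 ∈ H; rw [inv_pow]; exact H.inv_mem ha }
    have hNX0 : N ≤ X0 := fun x hx => by show x ^ 2 ∈ H; rw [(hNmem x).mp hx]; exact H.one_mem
    have hHX0 : H ≤ X0 := hH.prop.le.trans hNX0
    have hkey := CfsgLib.Coprime.card_le_of_squares (hG.to_subgroup X0) (H.subgroupOf X0) (N.subgroupOf X0)
      (fun h hh => Subgroup.mem_center_iff.mpr fun y => Subtype.ext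
        (Subgroup.mem_center_iff.mp (hNc (hH.prop.le hh)) (y : G)))
      (fun h hh => Subgroup.mem_center_iff.mpr fun y => Subtype.ext (Subgroup.mem_center_iff.mp (hNc hh) (y : G)))
      (fun h hh => Subtype.ext (hH.prop.le hh)) (fun x => x.2) (fun x y => hcH (x : G) (y : G))
      (fun x => ⟨fun h => congrArg Subtype.val h, fun h => Subtype.ext h⟩)
    rw [Nat.card_congr (Subgroup.subgroupOfEquivOfLe hHX0).toEquiv,
      Nat.card_congr (Subgroup.subgroupOfEquivOfLe hNX0).toEquiv] at hkey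
    have hidx : Nat.card G ≤ 2 * Nat.card X0 := by
      by_cases hall : ∀ g, g ∈ X0
      · calc Nat.card G ≤ Nat.card X0 := Nat.card_le_card_of_injective (fun g => (⟨g, hall g⟩ : X0))
              fun a b h => congrArg Subtype.val h
          _ ≤ 2 * Nat.card X0 := Nat.le_mul_of_pos_left _ two_pos
      push Not at hall
      obtain ⟨g0, hg0⟩ := hall
      have h1 : ∀ g : G, ∃ b : Bool × X0, (if b.1 then g0 else 1) * (b.2 : G) = g := by
        intro g
        by_cases hg : g ∈ X0
        · exact ⟨(false, ⟨g, hg⟩), by simp⟩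
        · refine ⟨(true, ⟨g0⁻¹ * g, ?_⟩), by simp⟩
          show (g0⁻¹ * g) ^ 2 ∈ H
          rw [hsqmul, mul_assoc]
          refine H.mul_mem (hcH _ _) ?_
          have ha := hgen _ (hΦN (hsq g0⁻¹)) (fun h => hg0 (by simpa using X0.inv_mem (show g0⁻¹ ∈ X0 from h)))
          have hb := hgen _ (hΦN (hsq g)) hg
          have hab := H.mul_mem ha hb
          have hc := Subgroup.mem_center_iff.mp (hNc htN) (g ^ 2)
          rw [show g0⁻¹ ^ 2 * t * (g ^ 2 * t) = g0⁻¹ ^ 2 * g ^ 2 * (t * t) by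
            rw [show g0⁻¹ ^ 2 * t * (g ^ 2 * t) = g0⁻¹ ^ 2 * (t * g ^ 2) * t by group, ← hc]; group,
            ← sq t, (hNmem t).mp htN, mul_one] at hab
          exact hab
      choose f hf using h1
      have := Nat.card_le_card_of_injective f fun v w h => by rw [← hf v, ← hf w, h]
      rwa [Nat.card_prod, Nat.card_eq_fintype_card (α := Bool), Fintype.card_bool] at this
    have h2H : 2 * Nat.card H ≤ Nat.card N := by
      obtain ⟨c, hc⟩ := Subgroup.card_dvd_of_le hH.prop.le
      have hlt : Nat.card H < Nat.card N := lt_of_le_of_ne (Subgroup.card_le_of_le hH.prop.le)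
        fun h => hH.prop.ne (Subgroup.eq_of_le_of_card_ge hH.prop.le h.ge)
      rw [hc] at hlt ⊢
      have : 2 ≤ c := by
        by_contra hc2
        push Not at hc2
        have := Nat.mul_le_mul_left (Nat.card H) (show c ≤ 1 by omega)
        omega
      rw [mul_comm 2]; exact Nat.mul_le_mul_left _ this
    have hb : 0 < Nat.card H := Nat.card_pos
    rw [heq] at hidx
    generalize Nat.card X0 = q at hidx hkey
    nlinarith [Nat.mul_le_mul (Nat.mul_le_mul h2H h2H) (le_refl (Nat.card N)), Nat.mul_pos hb (Nat.mul_pos hb hpos)]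
  have hfr : frattini G = N := by
    refine le_antisymm ?_ ?_
    · exact CfsgLib.Transfer.frattini_le_of_elementary_quotient (p := 2) N
        (fun x y => hΦN (hcm x y)) (fun x => hΦN (hsq x))
    · rw [← hΦeq, hΦ, Subgroup.closure_le]
      rintro _ ⟨x, rfl⟩
      exact CfsgLib.StructC.pow_mem_frattini hG x
  exact ⟨hG, hfr.trans hcent.symm, hcomm.trans hcent.symm⟩

end Cfsg.Agent.S3773
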