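import Cfsg.Statements.S3774
import Mathlib.Tactic


set_option autoImplicit false
open Cfsg

namespace Cfsg.Agent.S3774

/-- Let G be a nontrivial finite 2-group whose automorphism group permutes the involutions of G transitively. Then every involution of G is central, so that the involutions together with 1 form the subgroup Ω₁(Z(G)), and if this subgroup has order q then |G| is a power of q. -/
theorem result {G : Type*} [Group G] [Finite G] [Nontrivial G] (hG : IsPGroup 2 G) (htrans : ∀ x y : G, x ≠ 1 → x ^ 2 = 1 → y ≠ 1 → y ^ 2 = 1 → ∃ a : MulAut G, a x = y) : (∀ x : G, x ^ 2 = 1 → x ∈ Subgroup.center G) ∧ ∃ m : ℕ, Nat.card G = Nat.card {z : G // z ^ 2 = 1} ^ m := by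
  classical
  have := Fintype.ofFinite G
  have := hG.center_nontrivial
  have hZp : IsPGroup 2 (Subgroup.center G) := hG.to_subgroup _
  obtain ⟨z, hz⟩ : ∃ z : Subgroup.center G, orderOf z = 2 := by
    obtain ⟨n, hn⟩ := IsPGroup.iff_card.mp hZp
    refine exists_prime_orderOf_dvd_card' 2 (hn ▸ dvd_pow_self 2 fun h => ?_)
    have h2 : 1 < Nat.card (Subgroup.center G) := Finite.one_lt_card
    rw [hn, h, pow_zero] at h2
    omega
  have hz1 : (z : G) ≠ 1 := fun h => by
    rw [show z = 1 from Subtype.ext h, orderOf_one] at hz; omega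
  have hz2 : (z : G) ^ 2 = 1 := by
    have := pow_orderOf_eq_one z
    rw [hz] at this
    exact congrArg Subtype.val this
  have hcen : ∀ x : G, x ^ 2 = 1 → x ∈ Subgroup.center G := by
    intro x hx
    by_cases hx1 : x = 1
    · rw [hx1]; exact one_mem _
    obtain ⟨a, ha⟩ := htrans z x hz1 hz2 hx1 hx
    rw [Subgroup.mem_center_iff]
    intro g
    have h1 := congrArg a (Subgroup.mem_center_iff.mp z.2 (a.symm g))
    rwa [map_mul, map_mul, MulEquiv.apply_symm_apply, ha] at h1
  refine ⟨hcen, ?_⟩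
  let Ω : Subgroup G :=
    { carrier := {x | x ^ 2 = 1}
      mul_mem' := fun {a b} ha hb => by
        have hc : Commute a b := (Subgroup.mem_center_iff.mp (hcen b hb) a)
        show (a * b) ^ 2 = 1
        rw [hc.mul_pow, ha, hb, one_mul]
      one_mem' := one_pow 2
      inv_mem' := fun {a} ha => by
        show a⁻¹ ^ 2 = 1
        rw [inv_pow, ha, inv_one] }
  have hΩ : Nat.card {z : G // z ^ 2 = 1} = Nat.card Ω := rfl
  obtain ⟨s, hs⟩ := IsPGroup.iff_card.mp (hG.to_subgroup Ω)
  obtain ⟨N, hN⟩ := IsPGroup.iff_card.mp hG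
  rw [hΩ, hs, hN]
  have hs1 : 1 ≤ s := by
    by_contra h
    have h1 : Ω = ⊥ := Subgroup.card_eq_one.mp (by rw [hs, show s = 0 by omega, pow_zero])
    exact hz1 (Subgroup.mem_bot.mp (h1 ▸ (hz2 : (z : G) ∈ Ω)))
  let τ : G → G := fun g => g ^ (orderOf g / 2)
  let A : Finset G := Finset.univ.filter (fun g => g ≠ 1)
  let B : Finset G := Finset.univ.filter (fun g => g ≠ 1 ∧ g ^ 2 = 1)
  have hτ : ∀ g ∈ A, τ g ∈ B := by
    intro g hg
    have hg1 : g ≠ 1 := (Finset.mem_filter.mp hg).2
    obtain ⟨k, hk⟩ := IsPGroup.iff_orderOf.mp hG g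
    cases k with
    | zero => rw [pow_zero, orderOf_eq_one_iff] at hk; exact absurd hk hg1
    | succ k =>
      have h2 : orderOf g / 2 = 2 ^ k := by rw [hk, pow_succ, Nat.mul_div_cancel _ (by norm_num)]
      refine Finset.mem_filter.mpr ⟨Finset.mem_univ _, fun h => ?_, ?_⟩
      · have := Nat.le_of_dvd (by positivity) (orderOf_dvd_of_pow_eq_one (h2 ▸ h : g ^ 2 ^ k = 1))
        rw [hk, pow_succ] at this
        have : 0 < 2 ^ k := by positivity
        omega
      · show (g ^ (orderOf g / 2)) ^ 2 = 1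
        rw [h2, ← pow_mul, ← pow_succ, ← hk, pow_orderOf_eq_one]
  have hfib : ∀ u ∈ B, ∀ v ∈ B, (A.filter (fun g => τ g = u)).card = (A.filter (fun g => τ g = v)).card := by
    intro u hu v hv
    obtain ⟨hu1, hu2⟩ := (Finset.mem_filter.mp hu).2
    obtain ⟨hv1, hv2⟩ := (Finset.mem_filter.mp hv).2
    obtain ⟨a, ha⟩ := htrans u v hu1 hu2 hv1 hv2
    have hτa : ∀ g, τ (a g) = a (τ g) := fun g => by
      show a g ^ (orderOf (a g) / 2) = a (g ^ (orderOf g / 2))
      rw [MulEquiv.orderOf_eq, map_pow]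
    refine Finset.card_bij' (fun g _ => a g) (fun g _ => a.symm g) ?_ ?_ ?_ ?_
    · intro g hg
      obtain ⟨hgA, hgu⟩ := Finset.mem_filter.mp hg
      refine Finset.mem_filter.mpr ⟨Finset.mem_filter.mpr ⟨Finset.mem_univ _, fun h =>
        (Finset.mem_filter.mp hgA).2 (a.injective (h.trans (map_one a).symm))⟩, by rw [hτa, hgu, ha]⟩
    · intro g hg
      obtain ⟨hgA, hgv⟩ := Finset.mem_filter.mp hg
      refine Finset.mem_filter.mpr ⟨Finset.mem_filter.mpr ⟨Finset.mem_univ _, fun h =>
        (Finset.mem_filter.mp hgA).2 (a.symm.injective (h.trans (map_one a.symm).symm))⟩, ?_⟩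
      apply a.injective
      rw [← hτa, MulEquiv.apply_symm_apply, hgv, ha]
    · intro g _; simp
    · intro g _; simp
  have hdvd : B.card ∣ A.card := by
    rw [Finset.card_eq_sum_card_fiberwise hτ]
    by_cases hB : B = ∅
    · simp [hB]
    obtain ⟨u, hu⟩ := Finset.nonempty_iff_ne_empty.mpr hB
    rw [Finset.sum_congr rfl (fun v hv => (hfib v hv u hu)), Finset.sum_const, smul_eq_mul]
    exact dvd_mul_right _ _
  have hA : A.card = 2 ^ N - 1 := by
    rw [← hN, show A = Finset.univ.erase 1 by ext; simp [A],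
      Finset.card_erase_of_mem (Finset.mem_univ _), Finset.card_univ, Nat.card_eq_fintype_card]
  have hB : B.card = 2 ^ s - 1 := by
    rw [← hs, show B = (Finset.univ.filter (fun g : G => g ∈ Ω)).erase 1 by
        ext g; simp only [B, Finset.mem_erase, Finset.mem_filter, Finset.mem_univ, true_and]; rfl,
      Finset.card_erase_of_mem (by simp [one_mem]), ← Fintype.card_subtype, ← Nat.card_eq_fintype_card]
  rw [hA, hB] at hdvd
  have hg := Nat.pow_sub_one_gcd_pow_sub_one 2 s N
  rw [Nat.gcd_eq_left hdvd] at hg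
  have hsN : s ∣ N := by
    have h1 : 2 ^ s = 2 ^ Nat.gcd s N := by
      have := Nat.one_le_two_pow (n := s)
      have := Nat.one_le_two_pow (n := Nat.gcd s N)
      omega
    exact Nat.gcd_eq_left_iff_dvd.mp (Nat.pow_right_injective le_rfl h1).symm
  obtain ⟨m, hm⟩ := hsN
  exact ⟨m, by rw [hm, pow_mul]⟩

end Cfsg.Agent.S3774
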