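import Cfsg.Statements.S3775
import Cfsg.Agent.Lib.Coprime.MaschkeAbelian


set_option autoImplicit false
open Cfsg

namespace Cfsg.Agent.S3775

variable {A : Type*} [CommGroup A] [Finite A]

/-- Invariance under `X`. -/
def Inv (X : Subgroup (MulAut A)) (B : Subgroup A) : Prop := ∀ x ∈ X, ∀ b ∈ B, x b ∈ B

theorem inv_iff {X : Subgroup (MulAut A)} {B : Subgroup A} :
    Inv X B ↔ ∀ x ∈ X, B.map x.toMonoidHom = B := by
  refine ⟨fun h x hx => Subgroup.eq_of_le_of_card_ge ?_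
    (Subgroup.card_map_of_injective x.injective).ge, fun h x hx b hb => ?_⟩
  · rintro _ ⟨b, hb, rfl⟩; exact h x hx b hb
  · rw [← h x hx]; exact ⟨b, hb, rfl⟩

theorem inv_comap_pow {X : Subgroup (MulAut A)} {B : Subgroup A} (hB : Inv X B) (n : ℕ) :
    Inv X (B.comap (powMonoidHom n)) := fun x hx b hb => by
  show x b ^ n ∈ B
  rw [← map_pow]; exact hB x hx _ hb

theorem inv_map_pow {X : Subgroup (MulAut A)} {B : Subgroup A} (hB : Inv X B) (n : ℕ) :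
    Inv X (B.map (powMonoidHom n)) := by
  rintro x hx _ ⟨b, hb, rfl⟩
  exact ⟨x b, hB x hx b hb, (map_pow x b n).symm⟩

theorem inv_inf {X : Subgroup (MulAut A)} {B C : Subgroup A} (hB : Inv X B) (hC : Inv X C) :
    Inv X (B ⊓ C) := fun x hx b hb => ⟨hB x hx b hb.1, hC x hx b hb.2⟩

theorem inv_sup {X : Subgroup (MulAut A)} {B C : Subgroup A} (hB : Inv X B) (hC : Inv X C) :
    Inv X (B ⊔ C) := by
  intro x hx b hb
  obtain ⟨u, hu, v, hv, rfl⟩ := Subgroup.mem_sup.1 hb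
  rw [map_mul]
  exact mul_mem (Subgroup.mem_sup_left (hB x hx u hu)) (Subgroup.mem_sup_right (hC x hx v hv))

theorem inv_bot (X : Subgroup (MulAut A)) : Inv X ⊥ := fun x _ b hb => by
  rw [Subgroup.mem_bot] at hb ⊢; rw [hb, map_one]

theorem exists_compl_section {p : ℕ} [Fact p.Prime] {X : Subgroup (MulAut A)}
    (hX : (Nat.card X).Coprime p) {C U T : Subgroup A} (hC : Inv X C) (hU : Inv X U)
    (hT : Inv X T) (hCU : C ≤ U) (hUT : U ≤ T) (hexp : ∀ t ∈ T, t ^ p ∈ C) :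
    ∃ U' : Subgroup A, Inv X U' ∧ C ≤ U' ∧ U' ≤ T ∧ U' ⊓ U = C ∧ U ⊔ U' = T := by
  let ρ : X →* MulAut (A ⧸ C) :=
    { toFun := fun x => QuotientGroup.congr C C (x : MulAut A) ((inv_iff.1 hC) x x.2)
      map_one' := by
        ext q; induction q using QuotientGroup.induction_on; rfl
      map_mul' := fun x y => by
        ext q; induction q using QuotientGroup.induction_on; rfl }
  have hρ : ∀ (x : X) (a : A), ρ x a = ((x : MulAut A) a : A ⧸ C) := fun x a => rfl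
  obtain ⟨V, hVT, hVW, hWV, hVi⟩ := CfsgLib.Coprime.exists_invariant_compl (V := A ⧸ C)
    (Fact.out : p.Prime) ρ hX (T := T.map (QuotientGroup.mk' C)) (W := U.map (QuotientGroup.mk' C))
    (by rintro _ ⟨t, ht, rfl⟩
        rw [← map_pow, QuotientGroup.mk'_apply, QuotientGroup.eq_one_iff]
        exact hexp t ht)
    (Subgroup.map_mono hUT)
    (by rintro x _ ⟨t, ht, rfl⟩; exact ⟨_, hT x x.2 t ht, (hρ x t).symm⟩)
    (by rintro x _ ⟨t, ht, rfl⟩; exact ⟨_, hU x x.2 t ht, (hρ x t).symm⟩)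
  have hCV : C ≤ V.comap (QuotientGroup.mk' C) := fun c hc => by
    show (QuotientGroup.mk' C) c ∈ V
    rw [QuotientGroup.mk'_apply, (QuotientGroup.eq_one_iff c).2 hc]; exact one_mem V
  have hVTc : V.comap (QuotientGroup.mk' C) ≤ T := by
    intro a ha
    obtain ⟨t, ht, he⟩ := hVT ha
    rw [QuotientGroup.mk'_apply, QuotientGroup.mk'_apply, QuotientGroup.eq] at he
    have := mul_mem ht (hUT (hCU he))
    simpa using this
  refine ⟨V.comap (QuotientGroup.mk' C), fun x hx a ha => ?_, hCV, hVTc, ?_, ?_⟩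
  · exact hVi ⟨x, hx⟩ _ ha
  · refine le_antisymm (fun a ha => ?_) (le_inf hCV hCU)
    have : (QuotientGroup.mk' C) a ∈ V ⊓ U.map (QuotientGroup.mk' C) :=
      ⟨ha.1, ⟨a, ha.2, rfl⟩⟩
    rw [hVW, Subgroup.mem_bot] at this
    exact (QuotientGroup.eq_one_iff a).1 this
  · refine le_antisymm (sup_le hUT hVTc) fun t ht => ?_
    have : (QuotientGroup.mk' C) t ∈ U.map (QuotientGroup.mk' C) ⊔ V := by
      rw [hWV]; exact ⟨t, ht, rfl⟩
    obtain ⟨_, ⟨u, hu, rfl⟩, v, hv, he⟩ := Subgroup.mem_sup.1 this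
    have hv' : u⁻¹ * t ∈ V.comap (QuotientGroup.mk' C) := by
      show (QuotientGroup.mk' C) (u⁻¹ * t) ∈ V
      rw [map_mul, map_inv, ← he, inv_mul_cancel_left]; exact hv
    have := mul_mem (Subgroup.mem_sup_left (T := V.comap (QuotientGroup.mk' C)) hu)
      (Subgroup.mem_sup_right (S := U) hv')
    simpa using this

theorem uniserial_of_irred {p : ℕ} [Fact p.Prime] (hA : IsPGroup p A) {X : Subgroup (MulAut A)}
    (h3 : ∀ B, Inv X B → (∀ b ∈ B, b ^ p = 1) → B = ⊥ ∨ ∀ a : A, a ∈ B ↔ a ^ p = 1) :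
    ∀ (n : ℕ) (B : Subgroup A), Inv X B → Nat.card B = n →
      ∃ i : ℕ, ∀ a : A, a ∈ B ↔ a ^ p ^ i = 1 := by
  intro n
  induction n using Nat.strong_induction_on with
  | _ n ih => ?_
  intro B hB hn
  by_cases hb : B = ⊥
  · exact ⟨0, fun a => by simp [hb]⟩
  have : Nontrivial B := (Subgroup.nontrivial_iff_ne_bot B).2 hb
  obtain ⟨j, hj0, hj⟩ := (hA.to_subgroup B).nontrivial_iff_card.1 this
  obtain ⟨⟨z, hz⟩, hzo⟩ := exists_prime_orderOf_dvd_card' (G := B) p (hj ▸ dvd_pow_self p (by omega))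
  rw [Subgroup.orderOf_mk] at hzo
  have hz1 : z ≠ 1 := fun h => by rw [h, orderOf_one] at hzo; exact (Fact.out : p.Prime).ne_one hzo.symm
  have hΩ : ∀ a : A, a ^ p = 1 → a ∈ B := by
    intro a ha
    rcases h3 (B ⊓ (⊥ : Subgroup A).comap (powMonoidHom p)) (inv_inf hB (inv_comap_pow (inv_bot X) p))
      (fun b hb => by simpa using hb.2) with h | h
    · exact absurd (Subgroup.mem_bot.1 (h ▸ ⟨hz, by simp [← hzo, pow_orderOf_eq_one]⟩)) hz1
    · exact ((h a).2 ha).1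
  have hlt : Nat.card (B.map (powMonoidHom p)) < n := by
    rw [← hn]
    have hle : B.map (powMonoidHom p) ≤ B := by
      rintro _ ⟨b, hb, rfl⟩; exact pow_mem hb p
    refine lt_of_le_of_ne (Nat.le_of_dvd Nat.card_pos (Subgroup.card_dvd_of_le hle)) fun he => hz1 ?_
    have hs : Function.Surjective (fun b : B => (⟨(b : A) ^ p, pow_mem b.2 p⟩ : B)) := by
      rintro ⟨y, hy⟩
      rw [← Subgroup.eq_of_le_of_card_ge hle he.ge] at hy
      obtain ⟨b, hb, rfl⟩ := hy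
      exact ⟨⟨b, hb⟩, rfl⟩
    have hinj := (Finite.injective_iff_surjective.2 hs)
    exact congrArg Subtype.val (@hinj ⟨z, hz⟩ 1 (Subtype.ext (show z ^ p = (1 : A) ^ p by
      rw [one_pow, ← hzo, pow_orderOf_eq_one])))
  obtain ⟨i, hi⟩ := ih _ hlt _ (inv_map_pow hB p) rfl
  refine ⟨i + 1, fun a => ⟨fun ha => ?_, fun ha => ?_⟩⟩
  · rw [pow_succ', pow_mul]
    exact (hi _).1 ⟨a, ha, rfl⟩
  · rw [pow_succ', pow_mul] at ha
    obtain ⟨b, hb', he⟩ := (hi _).2 ha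
    have : a * b⁻¹ ∈ B := hΩ _ (by
      rw [powMonoidHom_apply] at he
      rw [mul_pow, inv_pow, he, mul_inv_cancel])
    have := mul_mem this hb'
    simpa using this

theorem irred_of_indec {p : ℕ} [Fact p.Prime] (hA : IsPGroup p A) {X : Subgroup (MulAut A)}
    (hX : (Nat.card X).Coprime p)
    (h1 : ∀ B C : Subgroup A, Inv X B → Inv X C → B ⊓ C = ⊥ → B ⊔ C = ⊤ → B = ⊥ ∨ C = ⊥) :
    ∀ B, Inv X B → (∀ b ∈ B, b ^ p = 1) → B = ⊥ ∨ ∀ a : A, a ∈ B ↔ a ^ p = 1 := by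
  classical
  intro B₁ hB₁ hB₁p
  have hex : ∃ e : ℕ, ∀ a : A, a ^ p ^ e = 1 := by
    obtain ⟨e, he⟩ := IsPGroup.iff_card.1 hA
    exact ⟨e, fun a => by rw [← he]; exact pow_card_eq_one'⟩
  set e := Nat.find hex with he_def
  have he : ∀ a : A, a ^ p ^ e = 1 := Nat.find_spec hex
  rcases Nat.eq_zero_or_pos e with he0 | hepos
  · left
    refine (Subgroup.eq_bot_iff_forall _).2 fun a _ => ?_
    simpa [he0] using he a
  set E := p ^ (e - 1) with hE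
  have hpE : p * E = p ^ e := by rw [hE, ← pow_succ']; congr 1; omega
  have hnE : ∃ a : A, a ^ E ≠ 1 := by
    by_contra! h
    exact Nat.find_min hex (m := e - 1) (by omega) h
  have invtop : Inv X (⊤ : Subgroup A) := fun _ _ _ _ => Subgroup.mem_top _
  obtain ⟨B, hB⟩ := (Set.toFinite {B : Subgroup A | Inv X B ∧ ∃ b ∈ B, b ^ E ≠ 1}).exists_minimal
    ⟨⊤, invtop, by simpa using hnE⟩
  obtain ⟨hBi, b₀, hb₀, hb₀E⟩ := hB.prop
  have hmin : ∀ U : Subgroup A, Inv X U → U ≤ B → U ≠ B → ∀ u ∈ U, u ^ E = 1 := by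
    intro U hU hUB hne u hu
    by_contra h
    exact hne (le_antisymm hUB (hB.le_of_le ⟨hU, u, hu, h⟩ hUB))
  set Bp := B.map (powMonoidHom p) with hBp
  have hBpB : Bp ≤ B := by rintro _ ⟨b, hb, rfl⟩; exact pow_mem hb p
  have hBpE : ∀ b ∈ Bp, b ^ E = 1 := by
    rintro _ ⟨b, -, rfl⟩
    rw [powMonoidHom_apply, ← pow_mul, hpE, he]
  have hmax : ∀ U : Subgroup A, Inv X U → U ≤ B → U ≠ B → U ≤ Bp := by
    intro U hU hUB hne
    have hU2E : ∀ u ∈ U ⊔ Bp, u ^ E = 1 := by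
      intro u hu
      obtain ⟨v, hv, w, hw, rfl⟩ := Subgroup.mem_sup.1 hu
      rw [mul_pow, hmin U hU hUB hne v hv, hBpE w hw, one_mul]
    obtain ⟨U', hU'i, hBpU', hU'B, hinf, hsup⟩ := exists_compl_section hX (inv_map_pow hBi p)
      (inv_sup hU (inv_map_pow hBi p)) hBi le_sup_right (sup_le hUB hBpB)
      (fun t ht => ⟨t, ht, rfl⟩)
    have hU'B' : U' = B := by
      by_contra hne'
      apply hb₀E
      have hb : b₀ ∈ U ⊔ Bp ⊔ U' := hsup ▸ hb₀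
      obtain ⟨v, hv, w, hw, rfl⟩ := Subgroup.mem_sup.1 hb
      rw [mul_pow, hU2E v hv, hmin U' hU'i hU'B hne' w hw, one_mul]
    rw [hU'B', inf_eq_right.2 (sup_le hUB hBpB)] at hinf
    exact le_sup_left.trans hinf.le
  have hkerE : ∀ x ∈ B, x ^ E = 1 → x ∈ Bp := by
    intro x hx hxE
    refine hmax (B ⊓ (⊥ : Subgroup A).comap (powMonoidHom E)) (inv_inf hBi (inv_comap_pow (inv_bot X) E))
      inf_le_left (fun h => hb₀E ?_) ⟨hx, by simpa using hxE⟩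
    simpa using (h.symm ▸ hb₀ : b₀ ∈ B ⊓ (⊥ : Subgroup A).comap (powMonoidHom E)).2
  have hlift : ∀ j : ℕ, j ≤ e - 1 → ∀ x ∈ B, x ^ p = 1 → ∃ y ∈ B, y ^ p ^ j = x := by
    intro j
    induction j with
    | zero => intro _ x hx _; exact ⟨x, hx, by simp⟩
    | succ j ih =>
      intro hj x hx hxp
      obtain ⟨y, hy, rfl⟩ := ih (by omega) x hx hxp
      rw [← pow_mul, ← pow_succ] at hxp
      have hyE : y ^ E = 1 := by
        rw [hE, show e - 1 = (j + 1) + (e - 1 - (j + 1)) by omega, pow_add, pow_mul, hxp, one_pow]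
      obtain ⟨z, hz, rfl⟩ := hkerE y hy hyE
      exact ⟨z, hz, by rw [powMonoidHom_apply, ← pow_mul, pow_succ']⟩
  have hirr : ∀ U : Subgroup A, Inv X U → U ≤ B → (∀ u ∈ U, u ^ p = 1) → U = ⊥ ∨
      ∀ x ∈ B, x ^ p = 1 → x ∈ U := by
    intro U hU hUB hUp
    by_cases h : B ⊓ U.comap (powMonoidHom E) = B
    · right
      intro x hx hxp
      obtain ⟨y, hy, rfl⟩ := hlift (e - 1) le_rfl x hx hxp
      rw [← h] at hy
      exact hy.2
    · left
      refine (Subgroup.eq_bot_iff_forall _).2 fun u hu => ?_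
      obtain ⟨y, hy, rfl⟩ := hlift (e - 1) le_rfl u (hUB hu) (hUp u hu)
      exact hBpE y (hmax _ (inv_inf hBi (inv_comap_pow hU E)) inf_le_left h ⟨hy, hu⟩)
  obtain ⟨C, hC⟩ := (Set.toFinite {C : Subgroup A | Inv X C ∧ B ⊓ C = ⊥}).exists_maximal
    ⟨⊥, inv_bot X, inf_bot_eq _⟩
  obtain ⟨hCi, hBC⟩ := hC.prop
  have hsum : B ⊔ C = ⊤ := by
    by_contra hne
    obtain ⟨a₀, ha₀⟩ : ∃ a, a ∉ B ⊔ C := by
      by_contra! h; exact hne (eq_top_iff.2 fun a _ => h a)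
    have hk : ∃ k, a₀ ^ p ^ k ∈ B ⊔ C := ⟨e, by rw [he]; exact one_mem _⟩
    obtain ⟨a, ha, hap⟩ : ∃ a, a ∉ B ⊔ C ∧ a ^ p ∈ B ⊔ C := by
      have hpos : Nat.find hk ≠ 0 := fun h => ha₀ (by simpa [h] using Nat.find_spec hk)
      obtain ⟨m, hm⟩ := Nat.exists_eq_succ_of_ne_zero hpos
      refine ⟨a₀ ^ p ^ m, Nat.find_min hk (by omega), ?_⟩
      have := Nat.find_spec hk
      rw [hm, pow_succ, pow_mul] at this
      exact this
    obtain ⟨b, hb, c, hc, hbc⟩ := Subgroup.mem_sup.1 hap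
    have hbE : b ^ E = 1 := by
      have h1 : b ^ E * c ^ E = 1 := by rw [← mul_pow, hbc, ← pow_mul, hpE, he]
      refine Subgroup.mem_bot.1 (hBC ▸ ⟨pow_mem hb E, ?_⟩)
      rw [eq_inv_of_mul_eq_one_left h1]
      exact C.inv_mem (C.pow_mem hc E)
    obtain ⟨b', hb', hb'p⟩ := hkerE b hb hbE
    rw [powMonoidHom_apply] at hb'p
    set T := C.comap (powMonoidHom p)
    have haT : a * b'⁻¹ ∈ T := by
      show (a * b'⁻¹) ^ p ∈ C
      rw [mul_pow, inv_pow, hb'p, ← hbc, mul_comm b, mul_inv_cancel_right]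
      exact hc
    obtain ⟨U', hU'i, hCU', hU'T, hinf, hsup⟩ := exists_compl_section hX hCi
      (inv_inf (inv_sup hBi hCi) (inv_comap_pow hCi p)) (inv_comap_pow hCi p)
      (le_inf le_sup_right fun x hx => pow_mem hx p) inf_le_right (fun t ht => ht)
    have hU'C : U' ≤ C := by
      refine hC.le_of_ge ⟨hU'i, ?_⟩ hCU'
      rw [eq_bot_iff, ← hBC]
      rintro x ⟨hxB, hxU⟩
      exact ⟨hxB, hinf ▸ ⟨hxU, Subgroup.mem_sup_left hxB, hU'T hxU⟩⟩
    have h2 : a * b'⁻¹ ∈ B ⊔ C :=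
      (sup_le (inf_le_left) (hU'C.trans le_sup_right) :
        (B ⊔ C) ⊓ T ⊔ U' ≤ B ⊔ C) (hsup.symm ▸ haT)
    refine ha ?_
    have := mul_mem h2 (Subgroup.mem_sup_left (T := C) hb')
    simpa using this
  rcases h1 B C hBi hCi hBC hsum with hB0 | hC0
  · rw [hB0, Subgroup.mem_bot] at hb₀
    exact absurd (by rw [hb₀, one_pow]) hb₀E
  rw [hC0, sup_bot_eq] at hsum
  rcases hirr B₁ hB₁ (hsum ▸ le_top) hB₁p with h | h
  · exact Or.inl h
  · exact Or.inr fun a => ⟨hB₁p a, fun ha => h a (hsum ▸ Subgroup.mem_top a) ha⟩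


/-- Let A be a finite abelian p-group and X a group of automorphisms of A of order prime to p. Call a subgroup of A invariant when every element of X maps it onto itself. Then the following are equivalent: (i) A is not the direct product of two nontrivial invariant subgroups; (ii) every invariant subgroup of A is one of the subgroups Ω_i(A) = {a : a^(p^i) = 1}; (iii) the subgroup Ω₁(A) of elements of order dividing p has no invariant subgroups other than 1 and itself. -/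
theorem result {A : Type*} [CommGroup A] [Finite A] {p : ℕ} [Fact p.Prime] (hA : IsPGroup p A) (X : Subgroup (MulAut A)) (hX : (Nat.card X).Coprime p) : ((¬ ∃ B C : Subgroup A, B ≠ ⊥ ∧ C ≠ ⊥ ∧ (∀ x ∈ X, B.map x.toMonoidHom = B) ∧ (∀ x ∈ X, C.map x.toMonoidHom = C) ∧ B ⊓ C = ⊥ ∧ B ⊔ C = ⊤) ↔ (∀ B : Subgroup A, (∀ x ∈ X, B.map x.toMonoidHom = B) → ∃ i : ℕ, ∀ a : A, a ∈ B ↔ a ^ p ^ i = 1)) ∧ ((∀ B : Subgroup A, (∀ x ∈ X, B.map x.toMonoidHom = B) → ∃ i : ℕ, ∀ a : A, a ∈ B ↔ a ^ p ^ i = 1) ↔ (∀ B : Subgroup A, (∀ x ∈ X, B.map x.toMonoidHom = B) → (∀ b ∈ B, b ^ p = 1) → B = ⊥ ∨ ∀ a : A, a ∈ B ↔ a ^ p = 1)) := by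
  have e3 : (∀ B : Subgroup A, (∀ x ∈ X, B.map x.toMonoidHom = B) → (∀ b ∈ B, b ^ p = 1) → B = ⊥ ∨ ∀ a : A, a ∈ B ↔ a ^ p = 1) →
      ∀ B, Inv X B → (∀ b ∈ B, b ^ p = 1) → B = ⊥ ∨ ∀ a : A, a ∈ B ↔ a ^ p = 1 :=
    fun h B hB => h B (inv_iff.1 hB)
  have h23 : (∀ B : Subgroup A, (∀ x ∈ X, B.map x.toMonoidHom = B) → ∃ i : ℕ, ∀ a : A, a ∈ B ↔ a ^ p ^ i = 1) →
      ∀ B : Subgroup A, (∀ x ∈ X, B.map x.toMonoidHom = B) → (∀ b ∈ B, b ^ p = 1) → B = ⊥ ∨ ∀ a : A, a ∈ B ↔ a ^ p = 1 := by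
    intro h B hB hBp
    obtain ⟨i, hi⟩ := h B hB
    rcases Nat.eq_zero_or_pos i with rfl | hpos
    · exact Or.inl ((Subgroup.eq_bot_iff_forall _).2 fun a ha => by simpa using (hi a).1 ha)
    · refine Or.inr fun a => ⟨hBp a, fun ha => (hi a).2 ?_⟩
      obtain ⟨j, rfl⟩ := Nat.exists_eq_succ_of_ne_zero hpos.ne'
      rw [pow_succ', pow_mul, ha, one_pow]
  have h32 := fun h B hB => uniserial_of_irred hA (e3 h) _ B (inv_iff.2 hB) rfl
  refine ⟨⟨fun h => ?_, fun h => ?_⟩, ⟨h23, h32⟩⟩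
  · refine h32 fun B hB hBp => irred_of_indec hA hX ?_ B (inv_iff.2 hB) hBp
    intro B C hB hC hi hs
    by_contra! hn
    exact h ⟨B, C, hn.1, hn.2, inv_iff.1 hB, inv_iff.1 hC, hi, hs⟩
  · rintro ⟨B, C, hB0, hC0, hB, hC, hi, -⟩
    obtain ⟨i, hi'⟩ := h B hB
    obtain ⟨j, hj'⟩ := h C hC
    rcases Nat.le_total i j with hij | hij
    · refine hB0 ((Subgroup.eq_bot_iff_forall _).2 fun a ha => Subgroup.mem_bot.1 (hi ▸ ⟨ha, (hj' a).2 ?_⟩))
      rw [← Nat.add_sub_cancel' hij, pow_add, pow_mul, (hi' a).1 ha, one_pow]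
    · refine hC0 ((Subgroup.eq_bot_iff_forall _).2 fun a ha => Subgroup.mem_bot.1 (hi ▸ ⟨(hi' a).2 ?_, ha⟩))
      rw [← Nat.add_sub_cancel' hij, pow_add, pow_mul, (hj' a).1 ha, one_pow]

end Cfsg.Agent.S3775
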