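import Cfsg.Statements.S3776
import Cfsg.Agent.Lib.Chev.SuzTwoY.Higman
import Cfsg.Agent.Lib.Transfer.PPrimeAut
-- import your own Cfsg.Agent.* helpers here

set_option autoImplicit false
open Cfsg
open scoped commutatorElement

namespace Cfsg.Agent.S3776

/-- Let G be a finite non-abelian 2-group with more than one involution admitting a solvable group of automorphisms that permutes its involutions transitively. Then the derived subgroup, the Frattini subgroup and the centre of G coincide and consist exactly of the elements x with x² = 1. -/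
theorem result {G : Type*} [Group G] [Finite G] (hG : IsPGroup 2 G) (hna : ¬ IsMulCommutative G) (htwo : ∃ x y : G, x ≠ y ∧ x ≠ 1 ∧ x ^ 2 = 1 ∧ y ≠ 1 ∧ y ^ 2 = 1) (hY : ∃ Y : Subgroup (MulAut G), Group.IsSolvable Y ∧ ∀ x y : G, x ≠ 1 → x ^ 2 = 1 → y ≠ 1 → y ^ 2 = 1 → ∃ a ∈ Y, a x = y) : commutator G = frattini G ∧ frattini G = Subgroup.center G ∧ ∀ x : G, x ∈ Subgroup.center G ↔ x ^ 2 = 1 := by
  classical
  obtain ⟨Y, hsol, htr⟩ := hY
  haveI : Fact (Nat.Prime 2) := ⟨Nat.prime_two⟩
  have c : CfsgLib.Chev.SuzTwoY.Ctx G Y := by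
    refine ⟨inferInstance, hG, ?_, ?_, hsol, ?_⟩
    · by_contra h
      push Not at h
      exact hna ⟨⟨h⟩⟩
    · obtain ⟨x, y, hxy, hx1, hxx, hy1, hyy⟩ := htwo
      exact ⟨x, y, hxy, hx1, by rw [← pow_two, hxx], hy1, by rw [← pow_two, hyy]⟩
    · intro x y hx1 hxx hy1 hyy
      obtain ⟨a, ha, h⟩ := htr x y hx1 (by rw [pow_two, hxx]) hy1 (by rw [pow_two, hyy])
      exact ⟨⟨a, ha⟩, h⟩
  have hsq : ∀ x : G, x ∈ Subgroup.center G ↔ x ^ 2 = 1 := fun x =>
    ⟨fun h => by rw [pow_two]; exact c.center_elem h, fun h => c.invol_center (by rw [← pow_two]; exact h)⟩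
  have hcomm : ∀ x y : G, x⁻¹ * y⁻¹ * x * y ∈ Subgroup.center G := fun x y => by
    rw [show x⁻¹ * y⁻¹ * x * y = x⁻¹ * x⁻¹ * (x * y⁻¹ * (x * y⁻¹)) * (y * y) by group]
    exact mul_mem (mul_mem (c.sq_mem_center _) (c.sq_mem_center _)) (c.sq_mem_center _)
  have hle : frattini G ≤ Subgroup.center G :=
    CfsgLib.Transfer.frattini_le_of_elementary_quotient (p := 2) _
      (fun x y => by
        have := hcomm x⁻¹ y⁻¹
        rw [inv_inv, inv_inv] at this
        exact this)
      (fun x => by rw [pow_two]; exact c.sq_mem_center x)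
  have hcf : commutator G ≤ frattini G := CfsgLib.Transfer.commutator_le_frattini_pgroup hG
  -- the derived subgroup contains every involution
  have hinv : Subgroup.center G ≤ commutator G := by
    obtain ⟨x, y, hxy⟩ := c.noncomm
    set z := ⁅x, y⁆ with hz
    have hz1 : z ≠ 1 := fun h => hxy (commutatorElement_eq_one_iff_mul_comm.1 h)
    have hzC : z ∈ commutator G := by
      rw [commutator_def]
      exact Subgroup.commutator_mem_commutator (Subgroup.mem_top _) (Subgroup.mem_top _)
    have hzz : z ^ 2 = 1 := (hsq z).1 (hle (hcf hzC))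
    intro w hw
    by_cases hw1 : w = 1
    · rw [hw1]; exact one_mem _
    obtain ⟨a, -, rfl⟩ := htr z w hz1 hzz hw1 ((hsq w).1 hw)
    rw [hz, map_commutatorElement, commutator_def]
    exact Subgroup.commutator_mem_commutator (Subgroup.mem_top _) (Subgroup.mem_top _)
  exact ⟨le_antisymm hcf (hle.trans hinv), le_antisymm hle (hinv.trans hcf), hsq⟩

end Cfsg.Agent.S3776
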