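import Cfsg.Statements.S3780
import Mathlib.Tactic


set_option autoImplicit false
open Cfsg

namespace Cfsg.Agent.S3780

/-- kernel of an additive endomorphism -/
def kerEnd {W : Type*} [AddCommGroup W] (e : AddMonoid.End W) : AddSubgroup W :=
  AddMonoidHom.ker (e : W →+ W)

theorem mem_kerEnd {W : Type*} [AddCommGroup W] {e : AddMonoid.End W} {x : W} :
    x ∈ kerEnd e ↔ e x = 0 := Iff.rfl


/-- Let V be a finite abelian p-group and α an automorphism of V of order p whose fixed-point subgroup has order p^n. Then V can be generated by pn elements: some subset of V with at most pn elements generates V. -/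
theorem result {V : Type*} [CommGroup V] [Finite V] {p : ℕ} [Fact p.Prime] (hV : IsPGroup p V) (α : MulAut V) (hα : orderOf α = p) (n : ℕ) (hfix : Nat.card {v : V // α v = v} = p ^ n) : ∃ S : Finset V, S.card ≤ p * n ∧ Subgroup.closure (S : Set V) = ⊤ := by
  have hp := (Fact.out : p.Prime)
  classical
  let Ω : Subgroup V := (powMonoidHom p : V →* V).ker
  let W := Additive Ω
  let a : AddMonoid.End W :=
    MonoidHom.toAdditive ((α.toMonoidHom.comp Ω.subtype).codRestrict Ω fun x => by
      show (α x) ^ p = 1
      rw [← map_pow, show (x : V) ^ p = 1 from x.2, map_one])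
  have happ : ∀ (j : ℕ) (x : W), (((a ^ j) x).toMul : V) = (α ^ j) (x.toMul : V) := by
    intro j
    induction j with
    | zero => intro x; rfl
    | succ j ih =>
      intro x
      rw [pow_succ', pow_succ']
      show α (((a ^ j) x).toMul : V) = α ((α ^ j) (x.toMul : V))
      rw [ih]
  have hap : a ^ p = 1 := by
    refine DFunLike.ext _ _ fun x => ?_
    apply Additive.toMul.injective
    apply Subtype.ext
    rw [happ, ← hα, pow_orderOf_eq_one]
    rfl
  have hchar : (p : AddMonoid.End W) = 0 := by
    refine DFunLike.ext _ _ fun x => ?_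
    apply Additive.toMul.injective
    apply Subtype.ext
    rw [AddMonoid.End.natCast_apply]
    exact x.toMul.2
  let d : AddMonoid.End W := a - 1
  have hdp : d ^ p = 0 := by
    obtain ⟨r, hr⟩ := (Commute.one_right d).exists_add_pow_prime_eq hp
    rw [show d + 1 = a from sub_add_cancel a 1, hap, hchar, zero_mul, zero_mul, zero_mul, add_zero,
      one_pow] at hr
    exact right_eq_add.mp hr |> fun h => by simpa using h
  have hker1 : Nat.card (kerEnd d) ≤ p ^ n := by
    rw [← hfix]
    refine Nat.card_le_card_of_injective (fun x => ⟨((x : W).toMul : V), ?_⟩) ?_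
    · have h := x.2
      rw [mem_kerEnd] at h
      have h2 : a (x : W) = (x : W) := sub_eq_zero.mp h
      have h3 := congrArg (fun w : W => (w.toMul : V)) h2
      exact h3
    · intro x y h
      exact Subtype.ext (Additive.toMul.injective (Subtype.ext (congrArg Subtype.val h :)))
  have hkerj : ∀ j, Nat.card (kerEnd (d ^ j)) ≤ p ^ (n * j) := by
    intro j
    induction j with
    | zero =>
      rw [pow_zero]
      have : kerEnd (1 : AddMonoid.End W) = ⊥ := by
        ext x; exact Iff.rfl
      rw [this]; simp
    | succ j ih =>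
      let g : kerEnd (d ^ (j + 1)) →+ W := AddMonoidHom.comp (d : W →+ W) (AddSubgroup.subtype _)
      have h2 := g.ker.card_mul_index
      rw [AddSubgroup.index_ker] at h2
      refine (le_of_eq h2.symm).trans ?_
      rw [Nat.mul_succ, Nat.pow_add, mul_comm (p ^ (n * j))]
      refine Nat.mul_le_mul ((Nat.card_le_card_of_injective
        (fun x : g.ker => (⟨(x.1 : W), x.2⟩ : kerEnd d)) ?_).trans hker1) ?_
      · intro x y h
        exact Subtype.ext (Subtype.ext (congrArg Subtype.val h :))
      · refine (AddSubgroup.card_le_of_le ?_).trans ih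
        rintro _ ⟨x, rfl⟩
        have h3 : (d ^ (j + 1)) (x : W) = 0 := x.2
        have h4 : (d ^ (j + 1)) (x : W) = (d ^ j) (d (x : W)) := by
          generalize (x : W) = w
          rw [pow_succ]
          rfl
        exact h4.symm.trans h3
  have hΩ : Nat.card Ω ≤ p ^ (p * n) := by
    have h := hkerj p
    rw [hdp] at h
    have : kerEnd (0 : AddMonoid.End W) = ⊤ := by
      ext x; simp [mem_kerEnd]
    rw [this, AddSubgroup.card_top, mul_comm n p] at h
    exact h
  let R : Subgroup V := (powMonoidHom p : V →* V).range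
  have hR : R.index ≤ p ^ (p * n) := by
    refine le_trans (le_of_eq ?_) hΩ
    have h1 := R.card_mul_index
    have h2 : Nat.card Ω * Nat.card R = Nat.card V := by
      rw [← Ω.card_mul_index, Subgroup.index_ker]
    rw [← h2, mul_comm (Nat.card Ω)] at h1
    exact Nat.eq_of_mul_eq_mul_left Nat.card_pos h1
  have hstep : ∀ j : ℕ, ∀ H : Subgroup V, H.index ≤ p ^ j →
      ∃ S : Finset V, S.card ≤ j ∧ H ⊔ Subgroup.closure (S : Set V) = ⊤ := by
    intro j
    induction j with
    | zero =>
      intro H hH
      refine ⟨∅, le_rfl, ?_⟩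
      have : H.index = 1 := le_antisymm (by simpa using hH)
        (Nat.pos_of_ne_zero Subgroup.index_ne_zero_of_finite)
      rw [Subgroup.index_eq_one.mp this, top_sup_eq]
    | succ j ih =>
      intro H hH
      by_cases htop : H = ⊤
      · exact ⟨∅, Nat.zero_le _, by rw [htop, top_sup_eq]⟩
      obtain ⟨x, -, hx⟩ := SetLike.exists_of_lt (lt_top_iff_ne_top.mpr htop)
      let H' := H ⊔ Subgroup.zpowers x
      have hlt : H < H' := lt_of_le_of_ne le_sup_left fun h =>
        hx (h ▸ Subgroup.mem_sup_right (Subgroup.mem_zpowers x))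
      have h' : H'.index * p ≤ H.index := by
        rw [← Subgroup.relIndex_mul_index hlt.le, mul_comm]
        refine Nat.mul_le_mul_right _ ?_
        obtain ⟨t, ht⟩ := (hV.to_subgroup H').index (H.subgroupOf H')
        change H.relIndex H' = p ^ t at ht
        rw [ht]
        refine Nat.le_self_pow (fun h0 => ?_) p
        rw [h0, pow_zero, Subgroup.relIndex_eq_one] at ht
        exact hlt.not_ge ht
      obtain ⟨S, hS, hS'⟩ := ih H' (Nat.le_of_mul_le_mul_right (le_trans h' (by rwa [← pow_succ]))
        hp.pos)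
      refine ⟨insert x S, (Finset.card_insert_le _ _).trans (by omega), ?_⟩
      rw [Finset.coe_insert, Set.insert_eq, Subgroup.closure_union, ← Subgroup.zpowers_eq_closure,
        ← sup_assoc]
      exact hS'
  obtain ⟨S, hS, hS'⟩ := hstep (p * n) R hR
  refine ⟨S, hS, ?_⟩
  let C : Subgroup V := Subgroup.closure (S : Set V)
  have hsurj : ∀ y : V ⧸ C, ∃ z : V ⧸ C, z ^ p = y := by
    intro y
    obtain ⟨v, rfl⟩ := QuotientGroup.mk'_surjective C y
    obtain ⟨r, ⟨w, rfl⟩, c, hc, rfl⟩ := Subgroup.mem_sup.mp (hS' ▸ Subgroup.mem_top v : v ∈ R ⊔ C)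
    refine ⟨QuotientGroup.mk' C w, ?_⟩
    rw [map_mul, show QuotientGroup.mk' C c = 1 from (QuotientGroup.eq_one_iff c).mpr hc, mul_one,
      ← map_pow]
    rfl
  have hinj : Function.Injective (fun z : V ⧸ C => z ^ p) :=
    Finite.injective_iff_surjective.mpr hsurj
  by_contra hne
  have : Nontrivial (V ⧸ C) := QuotientGroup.nontrivial_iff.mpr hne
  obtain ⟨k, hk0, hk⟩ := (hV.to_quotient C).nontrivial_iff_card.mp this
  obtain ⟨y, hy⟩ := exists_prime_orderOf_dvd_card' (G := V ⧸ C) p (hk ▸ dvd_pow_self p hk0.ne')
  have h1 := hinj (a₁ := y) (a₂ := 1) (by show y ^ p = 1 ^ p; rw [one_pow, ← hy, pow_orderOf_eq_one])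
  rw [h1, orderOf_one] at hy
  exact hp.ne_one hy.symm

end Cfsg.Agent.S3780
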