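import Cfsg.Statements.S3781
import Mathlib.Tactic
import Mathlib.GroupTheory.Nilpotent
import Cfsg.Agent.Lib.StructC.Commutator


set_option autoImplicit false
open Cfsg

namespace Cfsg.Agent.S3781

/-- `E j H = [H, G, ..., G]`. -/
def iterTop {G : Type*} [Group G] : ℕ → Subgroup G → Subgroup G
  | 0, H => H
  | j + 1, H => iterTop j ⁅H, (⊤ : Subgroup G)⁆

theorem iterTop_succ {G : Type*} [Group G] (j : ℕ) :
    ∀ H : Subgroup G, iterTop (j + 1) H = ⁅iterTop j H, (⊤ : Subgroup G)⁆ := by
  induction j with
  | zero => intro H; rfl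
  | succ j ih => intro H; exact ih ⁅H, (⊤ : Subgroup G)⁆

theorem iterTop_normal {G : Type*} [Group G] (j : ℕ) :
    ∀ (H : Subgroup G), H.Normal → (iterTop j H).Normal := by
  induction j with
  | zero => intro H hH; exact hH
  | succ j ih => intro H hH; exact ih _ inferInstance

theorem commutator_lower_le {G : Type*} [Group G] (j : ℕ) :
    ∀ (H : Subgroup G), H.Normal →
      ⁅H, (⊤ : Subgroup G).lowerCentralSeries j⁆ ≤ iterTop (j + 1) H := by
  induction j with
  | zero => intro H hH; exact le_rfl
  | succ j ih =>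
    intro H hH
    have := iterTop_normal (j + 2) H hH
    rw [Subgroup.lowerCentralSeries_succ, Subgroup.commutator_comm H]
    refine CfsgLib.StructC.commutator_commutator_le_of_rotate ?_ ?_
    · have h1 := ih ⁅H, (⊤ : Subgroup G)⁆ inferInstance
      rw [Subgroup.commutator_comm (⊤ : Subgroup G) H]
      exact h1
    · rw [iterTop_succ (j + 1)]
      exact Subgroup.commutator_mono (ih H hH) le_rfl

theorem iterTop_le_lower {G : Type*} [Group G] (j : ℕ) (H : Subgroup G) :
    iterTop j H ≤ (⊤ : Subgroup G).lowerCentralSeries j := by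
  induction j with
  | zero => simp [Subgroup.lowerCentralSeries_zero]
  | succ j ih =>
    rw [iterTop_succ, Subgroup.lowerCentralSeries_succ]
    exact Subgroup.commutator_mono ih le_rfl


/-- Let G be a finite p-group and n ≥ 1, and write γ_1(G) = G, γ_{k+1}(G) = [γ_k(G), G], and likewise γ_k(N) for a subgroup N. Let N be a normal subgroup of G contained in γ_n(G). If i > 1 and γ_{i+1}(N) ≠ 1, then |γ_i(N) : γ_{i+1}(N)| ≥ p^n. -/
theorem result {G : Type*} [Group G] [Finite G] {p : ℕ} [Fact p.Prime] (hG : IsPGroup p G) (n : ℕ) (hn : 1 ≤ n) (N : Subgroup G) [N.Normal] (hN : N ≤ (⊤ : Subgroup G).lowerCentralSeries (n - 1)) (i : ℕ) (hi : 1 < i) (hne : N.lowerCentralSeries i ≠ ⊥) : p ^ n ≤ (N.lowerCentralSeries i).relIndex (N.lowerCentralSeries (i - 1)) := by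
  have hp := (Fact.out : p.Prime)
  have := hG.isNilpotent
  obtain ⟨c, hc⟩ := (Subgroup.nilpotent_iff_lowerCentralSeries).mp (inferInstance : Group.IsNilpotent G)
  by_contra hlt
  rw [not_le] at hlt
  set H := N.lowerCentralSeries (i - 1) with hHdef
  set K := N.lowerCentralSeries i with hKdef
  have hH : H.Normal := CfsgLib.StructC.normal_lowerCentralSeries N _
  have hK : K.Normal := CfsgLib.StructC.normal_lowerCentralSeries N _
  have hKH : K ≤ H := N.lowerCentralSeries_antitone (Nat.sub_le i 1)
  let F : ℕ → Subgroup G := fun j => iterTop j H ⊔ K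
  have hmono : ∀ j, F (j + 1) ≤ F j := fun j => by
    refine sup_le_sup_right ?_ _
    rw [iterTop_succ]
    have := iterTop_normal j H hH
    exact Subgroup.commutator_le_left _ _
  have hstep : ∀ j, F j ≠ K → F (j + 1) ≠ F j := by
    intro j hj heq
    apply hj
    refine le_antisymm ?_ le_sup_right
    have hall : ∀ l, F j ≤ iterTop (j + l) H ⊔ K := by
      intro l
      induction l with
      | zero => exact le_rfl
      | succ l ih =>
        rw [← heq]
        refine sup_le ?_ le_sup_right
        rw [iterTop_succ]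
        refine (Subgroup.commutator_mono (le_sup_left.trans ih) le_rfl).trans ?_
        have : (iterTop (j + l + 1) H).Normal := iterTop_normal _ H hH
        show ⁅iterTop (j + l) H ⊔ K, (⊤ : Subgroup G)⁆ ≤ iterTop (j + l + 1) H ⊔ K
        rw [Subgroup.commutator_comm]
        refine CfsgLib.StructC.commutator_sup_le_normal ?_ ?_
        · rw [Subgroup.commutator_comm, ← iterTop_succ]; exact le_sup_left
        · exact (Subgroup.commutator_le_right _ _).trans le_sup_right
    refine (hall c).trans (sup_le ?_ le_rfl)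
    calc iterTop (j + c) H ≤ (⊤ : Subgroup G).lowerCentralSeries (j + c) := iterTop_le_lower _ _
      _ ≤ (⊤ : Subgroup G).lowerCentralSeries c := Subgroup.lowerCentralSeries_antitone _ (by omega)
      _ = ⊥ := hc
      _ ≤ K := bot_le
  have hidx : ∀ j, F (j + 1) ≠ F j → p * K.relIndex (F (j + 1)) ≤ K.relIndex (F j) := by
    intro j hne
    rw [← Subgroup.relIndex_mul_relIndex K (F (j + 1)) (F j) le_sup_right (hmono j), mul_comm p]
    refine Nat.mul_le_mul_left _ ?_
    obtain ⟨t, ht⟩ := (hG.to_subgroup (F j)).index ((F (j + 1)).subgroupOf (F j))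
    change (F (j + 1)).relIndex (F j) = p ^ t at ht
    rw [ht]
    refine Nat.le_self_pow (fun h0 => hne ?_) p
    rw [h0, pow_zero, Subgroup.relIndex_eq_one] at ht
    exact le_antisymm (hmono j) ht
  have hF : F (n - 1) = K := by
    by_contra hne
    have hall : ∀ j, j ≤ n - 1 → F j ≠ K := fun j hj h => hne (le_antisymm
      (h ▸ antitone_nat_of_succ_le hmono hj) le_sup_right)
    have hchain : ∀ j, j ≤ n → p ^ j * K.relIndex (F j) ≤ K.relIndex (F 0) := by
      intro j hj
      induction j with
      | zero => simp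
      | succ j ih =>
        refine le_trans ?_ (ih (by omega))
        rw [pow_succ, mul_assoc]
        exact Nat.mul_le_mul_left _ (hidx j (hstep j (hall j (by omega))))
    have h1 : F 0 = H := sup_eq_left.mpr hKH
    have h2 := hchain n le_rfl
    rw [h1] at h2
    have h3 : 0 < K.relIndex (F n) := Nat.pos_of_ne_zero Subgroup.index_ne_zero_of_finite
    nlinarith [Nat.le_mul_of_pos_right (p ^ n) h3]
  have hKK : K ≤ ⁅K, (⊤ : Subgroup G)⁆ := by
    obtain ⟨m, rfl⟩ : ∃ m, i = m + 1 := ⟨i - 1, by omega⟩
    have h1 : K = ⁅H, N⁆ := N.lowerCentralSeries_succ m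
    calc K = ⁅H, N⁆ := h1
      _ ≤ ⁅H, (⊤ : Subgroup G).lowerCentralSeries (n - 1)⁆ := Subgroup.commutator_mono le_rfl hN
      _ ≤ iterTop (n - 1 + 1) H := commutator_lower_le _ _ hH
      _ = ⁅iterTop (n - 1) H, (⊤ : Subgroup G)⁆ := iterTop_succ _ _
      _ ≤ ⁅K, (⊤ : Subgroup G)⁆ := Subgroup.commutator_mono (le_sup_left.trans hF.le) le_rfl
  apply hne
  rw [eq_bot_iff, ← hc]
  have : ∀ j, K ≤ (⊤ : Subgroup G).lowerCentralSeries j := by
    intro j
    induction j with
    | zero => simp [Subgroup.lowerCentralSeries_zero]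
    | succ j ih =>
      rw [Subgroup.lowerCentralSeries_succ]
      exact hKK.trans (Subgroup.commutator_mono ih le_rfl)
  exact this c

end Cfsg.Agent.S3781
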