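import Cfsg.Statements.S3784
import Mathlib.NumberTheory.Fermat
import Mathlib.NumberTheory.LucasLehmer


set_option autoImplicit false
open Cfsg

namespace Cfsg.Agent.S3784

theorem odd_dvd_two_pow {S : ℤ} {k : ℕ} (hS : Odd S) (h : S ∣ 2 ^ k) : S = 1 ∨ S = -1 := by
  have h1 : S.natAbs ∣ 2 ^ k := by
    have := Int.natAbs_dvd_natAbs.mpr h
    simpa [Int.natAbs_pow] using this
  obtain ⟨e, -, he⟩ := (Nat.dvd_prime_pow Nat.prime_two).mp h1
  rcases e with _ | e
  · exact Int.natAbs_eq_iff.mp (by simpa using he) |>.imp (by intro h; simpa using h) (by intro h; simpa using h)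
  · exfalso
    have : Odd S.natAbs := Int.natAbs_odd.mpr hS
    rw [he, pow_succ] at this
    exact Nat.not_even_iff_odd.mpr this ⟨2 ^ e, by ring⟩

theorem exists_plus (q : ℤ) (hq : Odd q) : ∀ j : ℕ, ∃ S, Odd S ∧ (q + 1) * S = q ^ (2 * j + 1) + 1
  | 0 => ⟨1, odd_one, by ring⟩
  | j + 1 => by
    obtain ⟨S, hS, h⟩ := exists_plus q hq j
    refine ⟨q ^ 2 * S - (q - 1), ?_, ?_⟩
    · exact ((hq.pow).mul hS).sub_even (Int.even_sub'.mpr ⟨fun _ => odd_one, fun _ => hq⟩)
    · linear_combination q ^ 2 * h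

theorem exists_minus (q : ℤ) (hq : Odd q) : ∀ j : ℕ, ∃ S, Odd S ∧ (q - 1) * S = q ^ (2 * j + 1) - 1
  | 0 => ⟨1, odd_one, by ring⟩
  | j + 1 => by
    obtain ⟨S, hS, h⟩ := exists_minus q hq j
    refine ⟨q ^ 2 * S + (q + 1), ?_, ?_⟩
    · exact ((hq.pow).mul hS).add_even (hq.add_odd odd_one)
    · linear_combination q ^ 2 * h


/-- Let p, q be primes and a, b positive integers with p^a = q^b + 1. Then either p = 2, b = 1, a is prime and q = 2^a − 1; or q = 2, a = 1, b is a power of 2 and p = 2^b + 1; or p^a = 9 and q^b = 8. -/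
theorem result (p q a b : ℕ) (hp : p.Prime) (hq : q.Prime) (ha : 1 ≤ a) (hb : 1 ≤ b) (h : p ^ a = q ^ b + 1) : (p = 2 ∧ b = 1 ∧ a.Prime ∧ q + 1 = 2 ^ a) ∨ (q = 2 ∧ a = 1 ∧ (∃ m : ℕ, b = 2 ^ m) ∧ p = 2 ^ b + 1) ∨ (p ^ a = 9 ∧ q ^ b = 8) := by
  rcases hp.eq_two_or_odd' with rfl | hpo
  · have hqo : Odd q := by
      rcases hq.eq_two_or_odd' with rfl | hqo
      · exfalso
        have h1 : Even (2 ^ a : ℕ) := even_two.pow_of_ne_zero (by omega)
        rw [h] at h1
        exact Nat.not_even_iff_odd.mpr ((even_two.pow_of_ne_zero (by omega : b ≠ 0)).add_one) h1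
      · exact hqo
    rcases Nat.even_or_odd b with ⟨c, rfl⟩ | ⟨c, rfl⟩
    · exfalso
      obtain ⟨u, hu⟩ : Odd (q ^ c) := hqo.pow
      have hq2 : 1 < q ^ c := Nat.one_lt_pow (by omega) hq.one_lt
      rw [pow_add, hu] at h
      obtain ⟨a, rfl⟩ : ∃ a', a = a' + 1 := ⟨a - 1, by omega⟩
      rcases a with _ | a
      · have h' : (2 * u + 1) * (2 * u + 1) = 4 * (u * u + u) + 1 := by ring
        have : 0 < u * u + u := by
          have : 0 < u := by omega
          positivity
        omega
      · have h' : (2 * u + 1) * (2 * u + 1) = 4 * (u * u + u) + 1 := by ring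
        have h'' : (2 : ℕ) ^ (a + 1 + 1) = 4 * 2 ^ a := by ring
        omega
    · obtain ⟨S, hS, hqS⟩ := exists_plus (q : ℤ) (by exact_mod_cast hqo) c
      have hh : ((q : ℤ) + 1) * S = (2 : ℤ) ^ a := by rw [hqS]; exact_mod_cast h.symm
      have hpos : (0 : ℤ) < (q : ℤ) + 1 := by positivity
      rcases odd_dvd_two_pow hS ⟨(q : ℤ) + 1, by rw [← hh, mul_comm]⟩ with rfl | rfl
      · have hb0 : c = 0 := by
          by_contra hc
          have h1 : q + 1 = q ^ (2 * c + 1) + 1 := by
            rw [mul_one] at hqS; exact_mod_cast hqS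
          have : q ^ 1 = q ^ (2 * c + 1) := by rw [pow_one]; omega
          have := Nat.pow_right_injective hq.two_le this
          omega
        subst hb0
        refine Or.inl ⟨rfl, rfl, ?_, by simpa using h.symm⟩
        have hq' : q = 2 ^ a - 1 := by simp at h; omega
        have ha1 : a ≠ 1 := by
          rintro rfl
          simp at hq'
          exact hq.ne_one hq'
        exact (Nat.prime_of_pow_sub_one_prime ha1 (hq' ▸ hq)).2
      · exfalso
        have : (0 : ℤ) < 2 ^ a := by positivity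
        rw [← hh] at this
        linarith
  · have hq2 : q = 2 := by
      rcases hq.eq_two_or_odd' with h2 | hqo
      · exact h2
      · exfalso
        have h1 : Odd (p ^ a) := hpo.pow
        rw [h] at h1
        exact Nat.not_odd_iff_even.mpr ((hqo.pow (n := b)).add_odd odd_one) h1
    subst hq2
    rcases Nat.even_or_odd a with ⟨c, rfl⟩ | ⟨c, rfl⟩
    · right; right
      obtain ⟨x, hx⟩ : ∃ x, p ^ c = x + 1 := ⟨p ^ c - 1, (Nat.sub_add_cancel (Nat.one_le_pow _ _ hp.pos)).symm⟩
      rw [pow_add, hx] at h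
      have h2 : x * (x + 2) = 2 ^ b := by
        have : (x + 1) * (x + 1) = x * (x + 2) + 1 := by ring
        omega
      obtain ⟨i, -, hi⟩ := (Nat.dvd_prime_pow Nat.prime_two).mp ⟨x + 2, h2.symm⟩
      obtain ⟨j, -, hj⟩ := (Nat.dvd_prime_pow Nat.prime_two).mp ⟨x, by rw [mul_comm]; exact h2.symm⟩
      have hx2 : x = 2 := by
        have hij : i < j := (Nat.pow_lt_pow_iff_right (a := 2) (by norm_num)).mp (by omega)
        rcases i with _ | _ | i
        · exfalso
          rcases j with _ | j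
          · omega
          · rw [pow_succ] at hj; simp at hi; omega
        · simpa using hi
        · exfalso
          obtain ⟨j, rfl⟩ : ∃ j', j = j' + 2 := ⟨j - 2, by omega⟩
          rw [pow_add] at hj hi
          omega
      subst hx2
      refine ⟨?_, ?_⟩
      · rw [pow_add, hx]; norm_num
      · rw [← h2]
    · obtain ⟨S, hS, hpS⟩ := exists_minus (p : ℤ) (by exact_mod_cast hpo) c
      have hh : ((p : ℤ) - 1) * S = (2 : ℤ) ^ b := by
        rw [hpS]
        have : (p : ℤ) ^ (2 * c + 1) = 2 ^ b + 1 := by exact_mod_cast h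
        rw [this]; ring
      rcases odd_dvd_two_pow hS ⟨(p : ℤ) - 1, by rw [← hh, mul_comm]⟩ with rfl | rfl
      · have hc : c = 0 := by
          by_contra hc
          rw [mul_one] at hpS
          have h1 : (p : ℤ) = (p : ℤ) ^ (2 * c + 1) := by linarith
          have h1' : p ^ 1 = p ^ (2 * c + 1) := by rw [pow_one]; exact_mod_cast h1
          have := Nat.pow_right_injective hp.two_le h1'
          omega
        subst hc
        simp only [Nat.mul_zero, Nat.zero_add, pow_one] at h
        refine Or.inr (Or.inl ⟨rfl, rfl, ?_, h⟩)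
        exact Nat.pow_of_pow_add_prime (a := 2) (by norm_num) (by omega) (h ▸ hp)
      · exfalso
        have : (0 : ℤ) < 2 ^ b := by positivity
        rw [← hh] at this
        have : (1 : ℤ) < p := by exact_mod_cast hp.one_lt
        linarith

end Cfsg.Agent.S3784
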