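import Cfsg.Statements.S3799
import Cfsg.Agent.Lib.Solvable.Frattini2
import Mathlib.GroupTheory.Frattini
import Mathlib.LinearAlgebra.Matrix.GeneralLinearGroup.Defs
import Mathlib.GroupTheory.Nilpotent


set_option autoImplicit false
open Cfsg

namespace Cfsg.Agent.S3799

@[ext] structure Heis (p n : ℕ) where
  a : Fin n → ZMod p
  b : Fin n → ZMod p
  c : ZMod p

variable {p n : ℕ}

instance : Mul (Heis p n) := ⟨fun x y => ⟨x.a + y.a, x.b + y.b, x.c + y.c + ∑ k, x.a k * y.b k⟩⟩
instance : One (Heis p n) := ⟨⟨0, 0, 0⟩⟩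
instance : Inv (Heis p n) := ⟨fun x => ⟨-x.a, -x.b, -x.c + ∑ k, x.a k * x.b k⟩⟩

theorem mul_def (x y : Heis p n) :
    x * y = ⟨x.a + y.a, x.b + y.b, x.c + y.c + ∑ k, x.a k * y.b k⟩ := rfl
theorem one_def : (1 : Heis p n) = ⟨0, 0, 0⟩ := rfl
theorem inv_def (x : Heis p n) : x⁻¹ = ⟨-x.a, -x.b, -x.c + ∑ k, x.a k * x.b k⟩ := rfl

instance : Group (Heis p n) :=
  Group.ofLeftAxioms
    (fun x y z => by
      ext k
      · simp [mul_def, add_assoc]
      · simp [mul_def, add_assoc]
      · simp only [mul_def, Pi.add_apply, add_mul, mul_add, Finset.sum_add_distrib]; ring)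
    (fun x => by ext k <;> simp [mul_def, one_def])
    (fun x => by ext k <;> simp [mul_def, one_def, inv_def, Finset.sum_neg_distrib, add_assoc])

def equivProd : Heis p n ≃ (Fin n → ZMod p) × (Fin n → ZMod p) × ZMod p where
  toFun x := (x.a, x.b, x.c)
  invFun t := ⟨t.1, t.2.1, t.2.2⟩
  left_inv _ := rfl
  right_inv _ := rfl

theorem card_heis [NeZero p] : Nat.card (Heis p n) = p ^ (1 + 2 * n) := by
  rw [Nat.card_congr equivProd, Nat.card_prod, Nat.card_prod, Nat.card_fun, Nat.card_zmod,
    Nat.card_fin]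
  ring

theorem pow_eq (x : Heis p n) (m : ℕ) :
    x ^ m = ⟨m • x.a, m • x.b, m • x.c + (m.choose 2) • ∑ k, x.a k * x.b k⟩ := by
  induction m with
  | zero => ext k <;> simp [one_def]
  | succ m ih =>
    rw [pow_succ, ih, mul_def]
    ext k
    · simp [add_mul]
    · simp [add_mul]
    · simp only [Nat.choose_succ_succ' m 1, Nat.choose_one_right, add_smul, one_smul, Pi.smul_apply,
        smul_mul_assoc, ← Finset.smul_sum]
      ring

theorem pow_p [Fact p.Prime] (hp : p ≠ 2) (x : Heis p n) : x ^ p = 1 := by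
  have h2 : p ∣ p.choose 2 := (Fact.out : p.Prime).dvd_choose_self (by norm_num)
    (lt_of_le_of_ne (Fact.out : p.Prime).two_le (Ne.symm hp))
  obtain ⟨t, ht⟩ := h2
  rw [pow_eq, ht]
  ext k <;> simp [one_def]

open Matrix

def mid (k : Fin n) : Fin (n + 2) := (k.succ).castSucc


theorem mid_ne_zero (k : Fin n) : (mid k : Fin (n + 2)) ≠ 0 := by
  intro h
  have := congrArg Fin.val h
  simp [mid] at this

theorem mid_ne_last (k : Fin n) : mid k ≠ Fin.last (n + 1) := (Fin.castSucc_lt_last _).ne

theorem lst_ne_zero : Fin.last (n + 1) ≠ 0 := by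
  intro h
  have := congrArg Fin.val h
  simp at this

theorem mid_inj {k l : Fin n} : (mid k : Fin (n + 2)) = mid l ↔ k = l := by
  simp [mid]

def nilMat (x : Heis p n) : Matrix (Fin (n + 2)) (Fin (n + 2)) (ZMod p) :=
  (∑ k, Matrix.single 0 (mid k) (x.a k)) + (∑ k, Matrix.single (mid k) (Fin.last (n + 1)) (x.b k))
    + Matrix.single 0 (Fin.last (n + 1)) x.c

theorem nil_mul (x y : Heis p n) :
    nilMat x * nilMat y = Matrix.single 0 (Fin.last (n + 1)) (∑ k, x.a k * y.b k) := by
  have h1 : ∀ (i : Fin (n + 2)) (k l : Fin n) (u v : ZMod p),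
      Matrix.single i (mid k) u * Matrix.single (mid l) (Fin.last (n + 1)) v
        = if k = l then Matrix.single i (Fin.last (n + 1)) (u * v) else 0 := by
    intro i k l u v
    by_cases h : k = l
    · subst h; simp
    · rw [if_neg h, Matrix.single_mul_single_of_ne (h := fun e => h (mid_inj.mp e))]
  have h2 : ∀ (i : Fin (n + 2)) (k : Fin n) (j : Fin (n + 2)) (u v : ZMod p),
      Matrix.single i (mid k) u * Matrix.single 0 j v = 0 := fun i k j u v =>
    Matrix.single_mul_single_of_ne (h := mid_ne_zero k) ..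
  have h3 : ∀ (i : Fin (n + 2)) (j : Fin (n + 2)) (u v : ZMod p),
      Matrix.single i (Fin.last (n + 1)) u * Matrix.single 0 j v = 0 := fun i j u v =>
    Matrix.single_mul_single_of_ne (h := lst_ne_zero) ..
  have h4 : ∀ (i : Fin (n + 2)) (l : Fin n) (j : Fin (n + 2)) (u v : ZMod p),
      Matrix.single i (Fin.last (n + 1)) u * Matrix.single (mid l) j v = 0 := fun i l j u v =>
    Matrix.single_mul_single_of_ne (h := (mid_ne_last l).symm) ..
  have h5 : (∑ k, Matrix.single (0 : Fin (n + 2)) (Fin.last (n + 1)) (x.a k * y.b k))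
      = Matrix.single 0 (Fin.last (n + 1)) (∑ k, x.a k * y.b k) :=
    (map_sum (Matrix.singleAddMonoidHom (α := ZMod p) (0 : Fin (n + 2)) (Fin.last (n + 1))) _ _).symm
  rw [← h5]
  simp [nilMat, add_mul, mul_add, Finset.sum_mul, Finset.mul_sum, h1, h2, h3, h4]

theorem nil_add (x y : Heis p n) :
    nilMat (x * y) = nilMat x + nilMat y + nilMat x * nilMat y := by
  rw [nil_mul]
  simp only [nilMat, mul_def, Pi.add_apply, Matrix.single_add, Finset.sum_add_distrib]
  abel

def toMat : Heis p n →* Matrix (Fin (n + 2)) (Fin (n + 2)) (ZMod p) where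
  toFun x := 1 + nilMat x
  map_one' := by simp [nilMat, one_def]
  map_mul' x y := by
    show 1 + nilMat (x * y) = (1 + nilMat x) * (1 + nilMat y)
    rw [nil_add]
    noncomm_ring

theorem nilMat_apply_a (x : Heis p n) (k : Fin n) : nilMat x 0 (mid k) = x.a k := by
  simp [nilMat, Matrix.sum_apply, Matrix.single_apply, (mid_ne_last k).symm, mid_ne_zero, mid_inj,
    mid_ne_zero k]

theorem nilMat_apply_b (x : Heis p n) (k : Fin n) : nilMat x (mid k) (Fin.last (n + 1)) = x.b k := by
  simp [nilMat, Matrix.sum_apply, Matrix.single_apply, (mid_ne_zero k).symm, mid_inj, mid_ne_last]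

theorem nilMat_apply_c (x : Heis p n) : nilMat x 0 (Fin.last (n + 1)) = x.c := by
  simp [nilMat, Matrix.sum_apply, Matrix.single_apply, mid_ne_last, mid_ne_zero]

theorem toMat_injective : Function.Injective (toMat (p := p) (n := n)) := by
  intro x y h
  have h' : nilMat x = nilMat y := add_left_cancel (a := (1 : Matrix _ _ (ZMod p))) h
  ext k
  · simpa [nilMat_apply_a] using congrFun (congrFun h' 0) (mid k)
  · simpa [nilMat_apply_b] using congrFun (congrFun h' (mid k)) (Fin.last (n + 1))
  · simpa [nilMat_apply_c] using congrFun (congrFun h' 0) (Fin.last (n + 1))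

def abHom : Heis p n →* Multiplicative ((Fin n → ZMod p) × (Fin n → ZMod p)) where
  toFun x := Multiplicative.ofAdd (x.a, x.b)
  map_one' := rfl
  map_mul' _ _ := rfl

theorem mem_ker_abHom {x : Heis p n} : x ∈ abHom.ker ↔ x.a = 0 ∧ x.b = 0 := by
  rw [MonoidHom.mem_ker]
  show Multiplicative.ofAdd (x.a, x.b) = 1 ↔ _
  rw [ofAdd_eq_one, Prod.mk_eq_zero]

open scoped commutatorElement in
theorem heis_extraspecial [Fact p.Prime] (hp : p ≠ 2) (hn : 1 ≤ n) :
    Cfsg.IsExtraspecial p (Heis p n) := by
  classical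
  have : Finite (Heis p n) := Finite.of_equiv _ equivProd.symm
  have hP : IsPGroup p (Heis p n) := fun x => ⟨1, by rw [pow_one]; exact pow_p hp x⟩
  have := hP.isNilpotent
  let i0 : Fin n := ⟨0, hn⟩
  let ea : Fin n → ZMod p → Heis p n := fun k t => ⟨Pi.single k t, 0, 0⟩
  let eb : Fin n → ZMod p → Heis p n := fun k t => ⟨0, Pi.single k t, 0⟩
  have hcomm : ∀ x y : Heis p n, x * y = y * x ↔ ∑ k, x.a k * y.b k = ∑ k, y.a k * x.b k := by
    intro x y
    constructor
    · intro h
      have := congrArg Heis.c h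
      simp only [mul_def] at this
      linear_combination this
    · intro h
      ext k
      · simp [mul_def, add_comm]
      · simp [mul_def, add_comm]
      · simp only [mul_def]; linear_combination h
  have hZ : Subgroup.center (Heis p n) = abHom.ker := by
    ext x
    rw [Subgroup.mem_center_iff, mem_ker_abHom]
    constructor
    · intro h
      refine ⟨funext fun k => ?_, funext fun k => ?_⟩
      · have := (hcomm _ x).mp (h (eb k 1))
        simpa [ea, eb, Pi.single_apply, eq_comm] using this
      · have := (hcomm _ x).mp (h (ea k 1))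
        simpa [ea, eb, Pi.single_apply, eq_comm] using this
    · rintro ⟨h1, h2⟩ y
      rw [hcomm]
      simp [h1, h2]
  have hder : commutator (Heis p n) = abHom.ker := by
    refine le_antisymm (Abelianization.commutator_subset_ker _) fun x hx => ?_
    rw [mem_ker_abHom] at hx
    have : x = ⁅ea i0 x.c, eb i0 1⁆ := by
      rw [commutatorElement_def]
      ext k
      · simp [mul_def, inv_def, ea, eb, hx.1]
      · simp [mul_def, inv_def, ea, eb, hx.2]
      · simp [mul_def, inv_def, ea, eb, Pi.single_apply]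
    rw [this]
    exact Subgroup.commutator_mem_commutator (Subgroup.mem_top _) (Subgroup.mem_top _)
  have hfr : frattini (Heis p n) = abHom.ker := by
    refine le_antisymm ?_ (hder ▸ CfsgLib.Solvable.commutator_le_frattini)
    intro x hx
    rw [mem_ker_abHom]
    have key : ∀ f : Heis p n →* Multiplicative (ZMod p), Function.Surjective f → f x = 1 := by
      intro f hf
      have hidx : f.ker.index = p := by
        rw [Subgroup.index_ker, MonoidHom.range_eq_top.mpr hf, Subgroup.card_top]
        exact Nat.card_zmod p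
      have hco : IsCoatom f.ker := by
        refine ⟨fun h => ?_, fun K hK => ?_⟩
        · rw [h, Subgroup.index_top] at hidx
          exact (Fact.out : p.Prime).ne_one hidx.symm
        · have h := Subgroup.relIndex_mul_index hK.le
          rw [hidx] at h
          rcases (Fact.out : p.Prime).eq_one_or_self_of_dvd _ ⟨_, h.symm⟩ with h1 | h1
          · exact absurd (Subgroup.relIndex_eq_one.mp h1) hK.not_ge
          · rw [h1] at h
            exact Subgroup.index_eq_one.mp
              (Nat.eq_of_mul_eq_mul_left (Fact.out : p.Prime).pos (h.trans (mul_one p).symm))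
      exact frattini_le_coatom hco hx
    refine ⟨funext fun k => ?_, funext fun k => ?_⟩
    · let f : Heis p n →* Multiplicative (ZMod p) :=
        { toFun := fun y => Multiplicative.ofAdd (y.a k), map_one' := rfl, map_mul' := fun _ _ => rfl }
      exact Multiplicative.ofAdd.injective (key f fun t => ⟨⟨Pi.single k t.toAdd, 0, 0⟩, by simp [f]⟩)
    · let f : Heis p n →* Multiplicative (ZMod p) :=
        { toFun := fun y => Multiplicative.ofAdd (y.b k), map_one' := rfl, map_mul' := fun _ _ => rfl }
      exact Multiplicative.ofAdd.injective (key f fun t => ⟨⟨0, Pi.single k t.toAdd, 0⟩, by simp [f]⟩)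
  refine ⟨⟨hP, hfr.trans hZ.symm, hder.trans hZ.symm⟩, ?_⟩
  rw [hZ]
  refine (Nat.card_congr ?_).trans (Nat.card_zmod p)
  exact { toFun := fun x => x.1.c, invFun := fun t => ⟨⟨0, 0, t⟩, mem_ker_abHom.mpr ⟨rfl, rfl⟩⟩,
          left_inv := fun x => by
            obtain ⟨⟨a, b, c⟩, hx⟩ := x
            obtain ⟨h1, h2⟩ := mem_ker_abHom.mp hx
            subst h1 h2
            rfl,
          right_inv := fun t => rfl }

theorem frattini_map_mulEquiv {A B : Type*} [Group A] [Group B] (e : A ≃* B) :
    (frattini A).map e.toMonoidHom = frattini B := by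
  apply le_antisymm
  · exact Subgroup.map_le_iff_le_comap.mpr (frattini_le_comap_frattini_of_surjective (φ := e.toMonoidHom) e.surjective)
  · intro b hb
    refine ⟨e.symm b, ?_, by simp⟩
    exact frattini_le_comap_frattini_of_surjective (φ := e.symm.toMonoidHom) e.symm.surjective hb

theorem isExtraspecial_congr {A B : Type*} [Group A] [Group B] (e : A ≃* B)
    (h : Cfsg.IsExtraspecial p A) : Cfsg.IsExtraspecial p B := by
  have hc : (Subgroup.center A).map e.toMonoidHom = Subgroup.center B := by
    ext b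
    constructor
    · rintro ⟨a, ha, rfl⟩
      refine Subgroup.mem_center_iff.mpr fun y => ?_
      obtain ⟨y, rfl⟩ := e.surjective y
      simp only [MulEquiv.coe_toMonoidHom, ← map_mul, Subgroup.mem_center_iff.mp ha y]
    · intro hb
      refine ⟨e.symm b, Subgroup.mem_center_iff.mpr fun y => e.injective ?_, by simp⟩
      simp [Subgroup.mem_center_iff.mp hb (e y)]
  refine ⟨⟨h.1.1.of_equiv e, ?_, ?_⟩, ?_⟩
  · rw [← frattini_map_mulEquiv e, h.1.2.1, hc]
  · rw [← hc, ← h.1.2.2, commutator_def, commutator_def, Subgroup.map_commutator,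
      Subgroup.map_top_of_surjective e.toMonoidHom e.surjective]
  · rw [← hc, Subgroup.card_map_of_injective e.injective, h.2]


/-- For every odd prime p and every n ≥ 1 there is an extraspecial p-group of order p^(1+2n) and exponent p; concretely, the general linear group of degree n + 2 over the field with p elements contains such a subgroup. -/
theorem result (p : ℕ) [Fact p.Prime] (hp : p ≠ 2) (n : ℕ) (hn : 1 ≤ n) : ∃ E : Subgroup (Matrix.GeneralLinearGroup (Fin (n + 2)) (ZMod p)), Cfsg.IsExtraspecial p ↥E ∧ Nat.card E = p ^ (1 + 2 * n) ∧ ∀ x ∈ E, x ^ p = 1 := by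
  let ψ : Heis p n →* Matrix.GeneralLinearGroup (Fin (n + 2)) (ZMod p) := toMat.toHomUnits
  have hψ : Function.Injective ψ := fun x y h => toMat_injective (congrArg Units.val h)
  have e := MonoidHom.ofInjective hψ
  refine ⟨ψ.range, isExtraspecial_congr e (heis_extraspecial hp hn), ?_, ?_⟩
  · rw [← Nat.card_congr e.toEquiv, card_heis]
  · rintro _ ⟨x, rfl⟩
    rw [← map_pow, pow_p hp, map_one]

end Cfsg.Agent.S3799
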