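import Cfsg.Statements.S3800
import Cfsg.Agent.Lib.Coprime.Complements
import Cfsg.Agent.Lib.Coprime.Sylow
import Mathlib.GroupTheory.Nilpotent


set_option autoImplicit false
open Cfsg

namespace Cfsg.Agent.S3800

/-- Let G be a finite group, N a normal subgroup of G whose order is prime to p, and P a p-subgroup of G. Then in G/N the normalizer of the image of P is the image of N_G(P), and the centralizer of the image of P is the image of C_G(P). -/
theorem result {G : Type*} [Group G] [Finite G] {p : ℕ} [Fact p.Prime] (N : Subgroup G) [N.Normal] (hN : (Nat.card N).Coprime p) (P : Subgroup G) (hP : IsPGroup p P) : Subgroup.normalizer ((P.map (QuotientGroup.mk' N)) : Set (G ⧸ N)) = (Subgroup.normalizer (P : Set G)).map (QuotientGroup.mk' N) ∧ Subgroup.centralizer ((P.map (QuotientGroup.mk' N)) : Set (G ⧸ N)) = (Subgroup.centralizer (P : Set G)).map (QuotientGroup.mk' N) := by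
  have hPc : (Nat.card P).Coprime (Nat.card N) := by
    obtain ⟨k, hk⟩ := IsPGroup.iff_card.mp hP
    rw [hk]
    exact (Nat.Coprime.pow_left k hN.symm)
  have hPN : P ⊓ N = ⊥ := CfsgLib.Coprime.inf_eq_bot_of_coprime hPc
  have hs : Group.IsSolvable P := by
    have := hP.isNilpotent
    infer_instance
  have hle : ∀ H : Subgroup G, H ≤ Subgroup.normalizer (N : Set G) := fun H => by
    rw [Subgroup.normalizer_eq_top]; exact le_top
  have hn : Subgroup.normalizer ((P.map (QuotientGroup.mk' N)) : Set (G ⧸ N)) = (Subgroup.normalizer (P : Set G)).map (QuotientGroup.mk' N) := by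
    apply le_antisymm
    · intro x hx
      obtain ⟨g, rfl⟩ := QuotientGroup.mk'_surjective N x
      rw [CfsgLib.Coprime.mem_normalizer_iff_map_conj, ← CfsgLib.Coprime.map_conj_map] at hx
      have h2 := congrArg (Subgroup.comap (QuotientGroup.mk' N)) hx
      rw [Subgroup.comap_map_eq, Subgroup.comap_map_eq, QuotientGroup.ker_mk', sup_comm, sup_comm P] at h2
      obtain ⟨n, hnN, hn⟩ := CfsgLib.Coprime.exists_conj_eq_of_coprime (hle _) (hle _) h2
        (by rw [CfsgLib.Coprime.card_map_conj]; exact hPc) hPc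
        (Or.inl (CfsgLib.Coprime.isSolvable_map _ hs))
      rw [CfsgLib.Coprime.map_conj_conj] at hn
      refine ⟨n * g, CfsgLib.Coprime.mem_normalizer_iff_map_conj.mpr hn.symm, ?_⟩
      rw [map_mul, show QuotientGroup.mk' N n = 1 from (QuotientGroup.eq_one_iff n).mpr hnN, one_mul]
    · rintro _ ⟨g, hg, rfl⟩
      rw [CfsgLib.Coprime.mem_normalizer_iff_map_conj, ← CfsgLib.Coprime.map_conj_map,
        CfsgLib.Coprime.mem_normalizer_iff_map_conj.mp hg]
  refine ⟨hn, le_antisymm ?_ ?_⟩
  · intro x hx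
    have hx' := Subgroup.centralizer_le_normalizer _ hx
    rw [hn] at hx'
    obtain ⟨g, hg, rfl⟩ := hx'
    refine ⟨g, Subgroup.mem_centralizer_iff.mpr fun y hy => ?_, rfl⟩
    have h1 : g * y * g⁻¹ * y⁻¹ ∈ P ⊓ N := by
      refine ⟨P.mul_mem (((Subgroup.mem_normalizer_iff.mp hg) y).mp hy) (P.inv_mem hy), ?_⟩
      refine (QuotientGroup.eq_one_iff _).mp ?_
      have h := Subgroup.mem_centralizer_iff.mp hx _ (Subgroup.mem_map_of_mem (QuotientGroup.mk' N) hy)
      change QuotientGroup.mk' N (g * y * g⁻¹ * y⁻¹) = 1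
      simp only [map_mul, map_inv]
      rw [← h]; group
    rw [hPN, Subgroup.mem_bot, mul_inv_eq_one, mul_inv_eq_iff_eq_mul] at h1
    exact h1.symm
  · rintro _ ⟨g, hg, rfl⟩
    refine Subgroup.mem_centralizer_iff.mpr ?_
    rintro _ ⟨y, hy, rfl⟩
    rw [← map_mul, ← map_mul, Subgroup.mem_centralizer_iff.mp hg y hy]

end Cfsg.Agent.S3800
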