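import Cfsg.Statements.S3803
import Cfsg.Agent.Lib.Amalgam.InvariantSubgroups


set_option autoImplicit false
open Cfsg

namespace Cfsg.Agent.S3803

/-- Let P be a 2-subgroup and A a subgroup of odd order of a finite group, with A normalizing P. Let D ≤ P with 1 < |D| < |P|. If every subgroup of P of order |D|, and also every subgroup of P of order 4 in case |D| = 2, is normalized by A, then A centralizes P. -/
theorem result {X : Type*} [Group X] [Finite X] (P A D : Subgroup X) (hP : IsPGroup 2 P) (hA : Odd (Nat.card A))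
    (hAP : A ≤ Subgroup.normalizer (P : Set X)) (hDP : D ≤ P) (hD1 : 1 < Nat.card D) (hD2 : Nat.card D < Nat.card P)
    (hinv : ∀ E : Subgroup X, E ≤ P → (Nat.card E = Nat.card D ∨ (Nat.card D = 2 ∧ Nat.card E = 4)) → A ≤ Subgroup.normalizer (E : Set X)) :
    A ≤ Subgroup.centralizer (P : Set X) := by
  have : Fact (Nat.Prime 2) := ⟨Nat.prime_two⟩
  obtain ⟨k, hk⟩ := (hP.to_le hDP).exists_card_eq
  have hk1 : 1 ≤ k := by
    by_contra h
    obtain rfl : k = 0 := by omega
    simp [hk] at hD1
  intro a ha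
  rw [Subgroup.mem_centralizer_iff]
  intro x hx
  have hcop : (orderOf a).Coprime 2 := by
    rw [Nat.coprime_two_right]
    exact hA.of_dvd_nat (Subgroup.orderOf_coe (⟨a, ha⟩ : A) ▸ orderOf_dvd_natCard _)
  have hy : ∀ m n : ℕ, m = 2 ^ n → ∀ f : A →* (ZMod m)ˣ, f ⟨a, ha⟩ = 1 := by
    intro m n hm f
    subst hm
    have : NeZero (2 ^ n) := ⟨by positivity⟩
    rw [← orderOf_eq_one_iff]
    refine Nat.eq_one_of_dvd_coprimes (k := orderOf (f ⟨a, ha⟩)) (Nat.Coprime.pow_right n hcop) ?_ ?_
    · exact (orderOf_map_dvd f _).trans (Subgroup.orderOf_mk a ha).dvd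
    · rcases Nat.eq_zero_or_pos n with rfl | hn
      · simp; apply Subsingleton.elim
      · refine (orderOf_dvd_card).trans ?_
        rw [ZMod.card_units_eq_totient, Nat.totient_prime_pow Nat.prime_two hn]
        simp only [mul_one, show 2 - 1 = 1 from rfl]
        exact pow_dvd_pow 2 (Nat.sub_le n 1)
  have := CfsgLib.Amalgam.centralizes_of_invariant_subgroups (p := 2) (T := A) hP hk1 ⟨a, ha⟩ hcop hy
    (fun R hR _ E hE hc => hinv E (hE.trans hR) (hc.imp (fun h => h.trans hk.symm)
      (fun h => ⟨hk.trans h.1, h.2⟩)))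
    P le_rfl hAP (hk ▸ hD2) x hx
  calc x * a = a * x * a⁻¹ * a := by rw [this]
    _ = a * x := by group

end Cfsg.Agent.S3803
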