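import Cfsg.Statements.S3804
import Mathlib.Analysis.SpecialFunctions.Pow.Real


set_option autoImplicit false
open Cfsg

namespace Cfsg.Agent.S3804

open scoped Pointwise in
theorem card_set_mul {X : Type*} [Group X] [Finite X] (A B : Subgroup X) :
    Nat.card ↥((A : Set X) * (B : Set X)) * Nat.card ↥(A ⊓ B) = Nat.card A * Nat.card B := by
  rw [← Nat.card_prod, ← Nat.card_prod]
  have hc : ∀ y : ↥((A : Set X) * (B : Set X)), ∃ q : A × B, (q.1 : X) * q.2 = y := by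
    rintro ⟨_, a, ha, b, hb, rfl⟩
    exact ⟨(⟨a, ha⟩, ⟨b, hb⟩), rfl⟩
  choose s hs using hc
  refine Nat.card_congr (Equiv.ofBijective (fun ye =>
    ((⟨((s ye.1).1 : X) * ye.2, A.mul_mem (s ye.1).1.2 ye.2.2.1⟩ : A),
     (⟨(ye.2 : X)⁻¹ * (s ye.1).2, B.mul_mem (B.inv_mem ye.2.2.2) (s ye.1).2.2⟩ : B))) ⟨?_, ?_⟩)
  · rintro ⟨y, e⟩ ⟨y', e'⟩ h
    simp only [Prod.mk.injEq, Subtype.mk.injEq] at h
    have hy : y = y' := by
      apply Subtype.ext
      rw [← hs y, ← hs y']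
      calc ((s y).1 : X) * (s y).2 = (((s y).1 : X) * e) * ((e : X)⁻¹ * (s y).2) := by group
        _ = _ := by rw [h.1, h.2]; group
    subst hy
    simp only [mul_right_inj] at h
    rw [Subtype.ext h.1]
  · rintro ⟨a, b⟩
    let y : ↥((A : Set X) * (B : Set X)) := ⟨(a : X) * b, Set.mul_mem_mul a.2 b.2⟩
    have h1 : ((s y).1 : X) * (s y).2 = a * b := hs y
    have he : ((s y).1 : X)⁻¹ * a ∈ A ⊓ B := by
      refine ⟨A.mul_mem (A.inv_mem (s y).1.2) a.2, ?_⟩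
      have : ((s y).1 : X)⁻¹ * a = (s y).2 * (b : X)⁻¹ := by
        rw [eq_mul_inv_iff_mul_eq, mul_assoc, ← h1]; group
      rw [this]
      exact B.mul_mem (s y).2.2 (B.inv_mem b.2)
    refine ⟨(y, ⟨_, he⟩), ?_⟩
    refine Prod.ext (Subtype.ext ?_) (Subtype.ext ?_)
    · simp
    · show (((s y).1 : X)⁻¹ * a)⁻¹ * (s y).2 = b
      rw [mul_inv_rev, inv_inv, mul_assoc, h1]; group


/-- Let G and H be subgroups of a finite group with G normalizing H, fix a real number α > 0, and for a subgroup A of G put m(A) = |A|^α · |C_H(A)|. Let A and B be nontrivial subgroups of G at which m attains its maximum over all nontrivial subgroups of G, and assume that A ∩ B ≠ 1 or that this maximum is at least |H|. Then AB = BA is a subgroup at which m is again maximal, C_H(A ∩ B) = C_H(A) C_H(B), and if A ∩ B ≠ 1 then m is maximal at A ∩ B as well. -/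
theorem result {X : Type*} [Group X] [Finite X] (G H : Subgroup X) (hGH : G ≤ Subgroup.normalizer (H : Set X)) (α : ℝ) (hα : 0 < α)
    (A B : Subgroup X) (hA : A ≤ G) (hB : B ≤ G) (hA1 : A ≠ ⊥) (hB1 : B ≠ ⊥)
    (hAmax : ∀ A' : Subgroup X, A' ≤ G → A' ≠ ⊥ → (fun A : Subgroup X => ((Nat.card A : ℝ) ^ α) * (Nat.card ↥(H ⊓ Subgroup.centralizer (A : Set X)) : ℝ)) A' ≤ (fun A : Subgroup X => ((Nat.card A : ℝ) ^ α) * (Nat.card ↥(H ⊓ Subgroup.centralizer (A : Set X)) : ℝ)) A)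
    (hBmax : ∀ A' : Subgroup X, A' ≤ G → A' ≠ ⊥ → (fun A : Subgroup X => ((Nat.card A : ℝ) ^ α) * (Nat.card ↥(H ⊓ Subgroup.centralizer (A : Set X)) : ℝ)) A' ≤ (fun A : Subgroup X => ((Nat.card A : ℝ) ^ α) * (Nat.card ↥(H ⊓ Subgroup.centralizer (A : Set X)) : ℝ)) B)
    (hcase : A ⊓ B ≠ ⊥ ∨ (Nat.card H : ℝ) ≤ (fun A : Subgroup X => ((Nat.card A : ℝ) ^ α) * (Nat.card ↥(H ⊓ Subgroup.centralizer (A : Set X)) : ℝ)) A) :
    (∀ a ∈ A, ∀ b ∈ B, ∃ b' ∈ B, ∃ a' ∈ A, a * b = b' * a') ∧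
    (∀ A' : Subgroup X, A' ≤ G → A' ≠ ⊥ → (fun A : Subgroup X => ((Nat.card A : ℝ) ^ α) * (Nat.card ↥(H ⊓ Subgroup.centralizer (A : Set X)) : ℝ)) A' ≤ (fun A : Subgroup X => ((Nat.card A : ℝ) ^ α) * (Nat.card ↥(H ⊓ Subgroup.centralizer (A : Set X)) : ℝ)) (A ⊔ B)) ∧
    (∀ h ∈ H ⊓ Subgroup.centralizer ((A ⊓ B : Subgroup X) : Set X), ∃ u ∈ H ⊓ Subgroup.centralizer (A : Set X), ∃ v ∈ H ⊓ Subgroup.centralizer (B : Set X), h = u * v) ∧
    (A ⊓ B ≠ ⊥ → ∀ A' : Subgroup X, A' ≤ G → A' ≠ ⊥ → (fun A : Subgroup X => ((Nat.card A : ℝ) ^ α) * (Nat.card ↥(H ⊓ Subgroup.centralizer (A : Set X)) : ℝ)) A' ≤ (fun A : Subgroup X => ((Nat.card A : ℝ) ^ α) * (Nat.card ↥(H ⊓ Subgroup.centralizer (A : Set X)) : ℝ)) (A ⊓ B)) := by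
  open scoped Pointwise in
  let m : Subgroup X → ℝ := fun A =>
    ((Nat.card A : ℝ) ^ α) * (Nat.card ↥(H ⊓ Subgroup.centralizer (A : Set X)) : ℝ)
  set C := H ⊓ Subgroup.centralizer (A : Set X) with hC
  set D := H ⊓ Subgroup.centralizer (B : Set X) with hD
  set E := A ⊓ B with hE
  set F := H ⊓ Subgroup.centralizer ((A ⊓ B : Subgroup X) : Set X) with hF
  have hM : m B = m A := le_antisymm (hAmax B hB hB1) (hBmax A hA hA1)
  have hABne : A ⊔ B ≠ ⊥ := fun h => hA1 (le_bot_iff.mp (h ▸ le_sup_left))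
  have hsupmax : m (A ⊔ B) ≤ m A := hAmax _ (sup_le hA hB) hABne
  have hEmax : m E ≤ m A := by
    by_cases hE1 : E = ⊥
    · have h : (Nat.card H : ℝ) ≤ m A := hcase.resolve_left (fun h => h hE1)
      refine le_trans (le_of_eq ?_) h
      show ((Nat.card E : ℝ) ^ α) * (Nat.card ↥(H ⊓ Subgroup.centralizer (E : Set X)) : ℝ) = _
      rw [hE1]
      have : H ⊓ Subgroup.centralizer ((⊥ : Subgroup X) : Set X) = H := by
        refine inf_eq_left.mpr fun h _ => Subgroup.mem_centralizer_iff.mpr fun y hy => ?_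
        rw [SetLike.mem_coe, Subgroup.mem_bot] at hy
        rw [hy, one_mul, mul_one]
      rw [this, Subgroup.card_bot, Nat.cast_one, Real.one_rpow, one_mul]
    · exact hAmax E (inf_le_left.trans hA) hE1
  have hCD : C ⊓ D = H ⊓ Subgroup.centralizer ((A ⊔ B : Subgroup X) : Set X) := by
    apply le_antisymm
    · refine fun x hx => ⟨hx.1.1, ?_⟩
      have : A ⊔ B ≤ Subgroup.centralizer ({x} : Set X) := by
        refine sup_le (fun a ha => ?_) (fun b hb => ?_)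
        · exact Subgroup.mem_centralizer_singleton_iff.mpr (Subgroup.mem_centralizer_iff.mp hx.1.2 a ha)
        · exact Subgroup.mem_centralizer_singleton_iff.mpr (Subgroup.mem_centralizer_iff.mp hx.2.2 b hb)
      exact Subgroup.mem_centralizer_iff.mpr fun y hy =>
        Subgroup.mem_centralizer_singleton_iff.mp (this hy)
    · exact le_inf (inf_le_inf_left _ (Subgroup.centralizer_le (SetLike.coe_subset_coe.mpr le_sup_left)))
        (inf_le_inf_left _ (Subgroup.centralizer_le (SetLike.coe_subset_coe.mpr le_sup_right)))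
  have hs1 : ((A : Set X) * (B : Set X)) ⊆ (A ⊔ B : Subgroup X) := by
    rintro _ ⟨a, ha, b, hb, rfl⟩
    exact Subgroup.mul_mem_sup ha hb
  have hs2 : ((C : Set X) * (D : Set X)) ⊆ (F : Subgroup X) := by
    rintro _ ⟨c, hc, d, hd, rfl⟩
    exact F.mul_mem ⟨hc.1, Subgroup.centralizer_le (SetLike.coe_subset_coe.mpr inf_le_left) hc.2⟩
      ⟨hd.1, Subgroup.centralizer_le (SetLike.coe_subset_coe.mpr inf_le_right) hd.2⟩
  have hn1 : Nat.card A * Nat.card B ≤ Nat.card ↥(A ⊔ B) * Nat.card ↥E := by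
    rw [← card_set_mul A B]
    exact Nat.mul_le_mul_right _ (Nat.card_mono (Set.toFinite _) hs1)
  have hn2 : Nat.card C * Nat.card D ≤ Nat.card ↥(C ⊓ D) * Nat.card ↥F := by
    rw [← card_set_mul C D, mul_comm (Nat.card ↥(C ⊓ D))]
    exact Nat.mul_le_mul_right _ (Nat.card_mono (Set.toFinite _) hs2)
  have hpos : ∀ K : Subgroup X, (0 : ℝ) < Nat.card K := fun K => Nat.cast_pos.mpr Nat.card_pos
  have hr1 : ((Nat.card A : ℝ) * Nat.card B) ^ α ≤ ((Nat.card ↥(A ⊔ B) : ℝ) * Nat.card ↥E) ^ α :=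
    Real.rpow_le_rpow (by positivity) (by exact_mod_cast hn1) hα.le
  have hr2 : (Nat.card C : ℝ) * Nat.card D ≤ (Nat.card ↥(C ⊓ D) : ℝ) * Nat.card ↥F := by
    exact_mod_cast hn2
  have hprodAB : m A * m B = ((Nat.card A : ℝ) * Nat.card B) ^ α * ((Nat.card C : ℝ) * Nat.card D) := by
    show ((Nat.card A : ℝ) ^ α * (Nat.card C : ℝ)) * ((Nat.card B : ℝ) ^ α * (Nat.card D : ℝ)) = _
    rw [Real.mul_rpow (hpos A).le (hpos B).le]; ring
  have hprodJE : m (A ⊔ B) * m E =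
      ((Nat.card ↥(A ⊔ B) : ℝ) * Nat.card ↥E) ^ α * ((Nat.card ↥(C ⊓ D) : ℝ) * Nat.card ↥F) := by
    show ((Nat.card ↥(A ⊔ B) : ℝ) ^ α * (Nat.card ↥(H ⊓ Subgroup.centralizer ((A ⊔ B : Subgroup X) : Set X)) : ℝ)) * ((Nat.card E : ℝ) ^ α * (Nat.card F : ℝ)) = _
    rw [← hCD, Real.mul_rpow (hpos _).le (hpos E).le]; ring
  have hmpos : ∀ K : Subgroup X, 0 < m K := fun K =>
    mul_pos (Real.rpow_pos_of_pos (hpos K) α) (hpos _)
  have hge : m A * m B ≤ m (A ⊔ B) * m E := by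
    rw [hprodAB, hprodJE]
    exact mul_le_mul hr1 hr2 (by positivity) (by positivity)
  have hJ : m (A ⊔ B) = m A := by
    refine le_antisymm hsupmax (le_of_mul_le_mul_right ?_ (hmpos A))
    rw [hM] at hge
    exact hge.trans (mul_le_mul_of_nonneg_left hEmax (hmpos _).le)
  have hEeq : m E = m A := by
    refine le_antisymm hEmax (le_of_mul_le_mul_left ?_ (hmpos A))
    rw [hM, hJ] at hge
    exact hge
  have htot : m (A ⊔ B) * m E = m A * m B := by rw [hJ, hEeq, hM]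
  rw [hprodAB, hprodJE] at htot
  have heq1 : ((Nat.card A : ℝ) * Nat.card B) ^ α = ((Nat.card ↥(A ⊔ B) : ℝ) * Nat.card ↥E) ^ α := by
    refine le_antisymm hr1 (le_of_mul_le_mul_right (le_trans ?_ htot.le)
      (mul_pos (hpos C) (hpos D)))
    exact mul_le_mul_of_nonneg_left hr2 (by positivity)
  have heq2 : (Nat.card C : ℝ) * Nat.card D = (Nat.card ↥(C ⊓ D) : ℝ) * Nat.card ↥F := by
    rw [← heq1] at htot
    exact (mul_left_cancel₀ (Real.rpow_pos_of_pos (mul_pos (hpos A) (hpos B)) α).ne' htot).symm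
  have hn1' : Nat.card A * Nat.card B = Nat.card ↥(A ⊔ B) * Nat.card ↥E := by
    have := (Real.rpow_left_inj (by positivity) (by positivity) hα.ne').mp heq1
    exact_mod_cast this
  have hn2' : Nat.card C * Nat.card D = Nat.card ↥(C ⊓ D) * Nat.card ↥F := by
    exact_mod_cast heq2
  have hset1 : ((A : Set X) * (B : Set X)) = (A ⊔ B : Subgroup X) := by
    refine (Set.toFinite _).eq_of_subset_of_card_le hs1 (le_of_eq ?_)
    refine Nat.eq_of_mul_eq_mul_right (m := Nat.card ↥E) Nat.card_pos ?_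
    rw [card_set_mul A B, hn1']
    rfl
  have hset2 : ((C : Set X) * (D : Set X)) = (F : Subgroup X) := by
    refine (Set.toFinite _).eq_of_subset_of_card_le hs2 (le_of_eq ?_)
    refine Nat.eq_of_mul_eq_mul_right (m := Nat.card ↥(C ⊓ D)) Nat.card_pos ?_
    rw [card_set_mul C D, hn2', mul_comm]
    rfl
  refine ⟨fun a ha b hb => ?_, fun A' h1 h2 => (hAmax A' h1 h2).trans hJ.ge, fun h hh => ?_,
    fun _ A' h1 h2 => (hAmax A' h1 h2).trans hEeq.ge⟩
  · have : (a * b)⁻¹ ∈ ((A : Set X) * (B : Set X)) := by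
      rw [hset1]; exact (A ⊔ B).inv_mem (Subgroup.mul_mem_sup ha hb)
    obtain ⟨a', ha', b', hb', he⟩ := this
    refine ⟨b'⁻¹, B.inv_mem hb', a'⁻¹, A.inv_mem ha', ?_⟩
    rw [← mul_inv_rev, show a' * b' = (a * b)⁻¹ from he, inv_inv]
  · have : h ∈ ((C : Set X) * (D : Set X)) := by rw [hset2]; exact hh
    obtain ⟨u, hu, v, hv, he⟩ := this
    exact ⟨u, hu, v, hv, he.symm⟩

end Cfsg.Agent.S3804
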