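import Cfsg.Statements.S4209
import Cfsg.Agent.Lib.StructC.PolySeq

set_option autoImplicit false
open Cfsg
open scoped Pointwise
set_option linter.style.haveILetI false

namespace Cfsg.Agent.S4209

/-- A finite `p`-group of nilpotency class less than `p` (the term of index `p - 1` of the lower central series of the whole group, indexed from `0`, is trivial) is a regular `p`-group. -/
theorem result {G : Type*} [Group G] [Finite G] {p : ℕ} [Fact p.Prime] (hG : IsPGroup p G) (hcl : (⊤ : Subgroup G).lowerCentralSeries (p - 1) = ⊥) : Cfsg.IsRegularPGroup p G := by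
  refine ⟨hG, fun a b n => ?_⟩
  set K := Subgroup.closure ({a, b} : Set G) with hK
  have hle : ∀ m, (K.lowerCentralSeries m) ≤ (⊤ : Subgroup G).lowerCentralSeries m := by
    intro m
    induction m with
    | zero => exact le_top
    | succ m ih => exact Subgroup.commutator_mono ih le_top
  have hKcl : (⊤ : Subgroup K).lowerCentralSeries (p - 1) = ⊥ := by
    apply Subgroup.map_injective K.subtype_injective
    rw [Subgroup.top_subtype_lowerCentralSeries, Subgroup.map_bot, eq_bot_iff, ← hcl]
    exact hle _
  obtain ⟨c, hc, he⟩ := CfsgLib.StructC.hall_petrescu Fact.out hKcl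
    ⟨a, Subgroup.subset_closure (by simp)⟩ ⟨b, Subgroup.subset_closure (by simp)⟩ n
  refine ⟨c, ?_, congrArg Subtype.val he⟩
  have h := Subgroup.mem_map_of_mem K.subtype hc
  rw [MonoidHom.map_closure] at h
  refine (Subgroup.closure_mono ?_) h
  rintro _ ⟨y, ⟨x, hx, rfl⟩, rfl⟩
  refine ⟨K.subtype x, ?_, map_pow _ _ _⟩
  rw [← Subgroup.map_subtype_commutator]
  exact Subgroup.mem_map_of_mem _ hx

end Cfsg.Agent.S4209
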