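import Cfsg.Statements.S3806
import Cfsg.Agent.Lib.PGroup.MaximalClass
import Cfsg.Agent.Lib.StructC.PolySeq
import Cfsg.Agent.S4209
import Cfsg.Agent.S4210


set_option autoImplicit false
open Cfsg

namespace Cfsg.Agent.S3806

open Subgroup CfsgLib.PGroup
open scoped commutatorElement

/-- The two-step centralizer. -/
def twoStep {T : Type*} [Group T] (j : ℕ) : Subgroup T where
  carrier := {g | ∀ l ∈ (⊤ : Subgroup T).lowerCentralSeries j, ⁅l, g⁆ ∈ (⊤ : Subgroup T).lowerCentralSeries (j + 2)}
  one_mem' := fun l _ => by rw [commutatorElement_one_right]; exact one_mem _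
  mul_mem' := fun {a b} ha hb l hl => by
    haveI := Subgroup.lowerCentralSeries_normal (⊤ : Subgroup T) (j + 2)
    have e : ⁅l, a * b⁆ = ⁅l, a⁆ * (a * ⁅l, b⁆ * a⁻¹) := by simp only [commutatorElement_def]; group
    rw [e]
    exact mul_mem (ha l hl) (Normal.conj_mem inferInstance _ (hb l hl) a)
  inv_mem' := fun {a} ha l hl => by
    haveI := Subgroup.lowerCentralSeries_normal (⊤ : Subgroup T) (j + 2)
    have e : ⁅l, a⁻¹⁆ = a⁻¹ * ⁅l, a⁆⁻¹ * a := by simp only [commutatorElement_def]; group
    rw [e]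
    exact Normal.conj_mem' inferInstance _ (inv_mem (ha l hl)) a

/-- A `p`-group is not the union of at most `p` proper subgroups. -/
theorem exists_notMem {T : Type*} [Group T] [Finite T] {p : ℕ} [Fact p.Prime] (hT : IsPGroup p T) {ι : Type*}
    (s : Finset ι) (f : ι → Subgroup T) (hs : s.card ≤ p) (hf : ∀ i ∈ s, f i ≠ ⊤) :
    ∃ g : T, ∀ i ∈ s, g ∉ f i := by
  classical
  haveI := Fintype.ofFinite T
  by_contra h
  push Not at h
  have hp := (Fact.out : p.Prime)
  have hsub : (Finset.univ : Finset T).erase 1 ⊆ s.biUnion fun i => (Finset.univ.filter (· ∈ f i)).erase 1 := by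
    intro g hg
    obtain ⟨i, hi, hgi⟩ := h g
    exact Finset.mem_biUnion.2 ⟨i, hi, Finset.mem_erase.2 ⟨(Finset.mem_erase.1 hg).1, Finset.mem_filter.2 ⟨Finset.mem_univ _, hgi⟩⟩⟩
  have hbound : ∀ i ∈ s, ((Finset.univ.filter (· ∈ f i)).erase 1).card ≤ Nat.card T / p - 1 := by
    intro i hi
    rw [Finset.card_erase_of_mem (Finset.mem_filter.2 ⟨Finset.mem_univ _, one_mem _⟩)]
    refine Nat.sub_le_sub_right ?_ 1
    rw [← Fintype.card_subtype, ← Nat.card_eq_fintype_card]
    obtain ⟨m, hm⟩ := hT.index (f i)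
    have hm0 : m ≠ 0 := fun h0 => hf i hi (index_eq_one.1 (by rw [hm, h0, pow_zero]))
    rw [Nat.le_div_iff_mul_le hp.pos]
    calc Nat.card (f i) * p ≤ Nat.card (f i) * (f i).index := Nat.mul_le_mul_left _ (by
          rw [hm]; exact Nat.le_self_pow hm0 p)
      _ = Nat.card T := (f i).card_mul_index
  have h1 := (Finset.card_le_card hsub).trans (Finset.card_biUnion_le.trans (Finset.sum_le_card_nsmul _ _ _ hbound))
  rw [Finset.card_erase_of_mem (Finset.mem_univ _), Finset.card_univ, ← Nat.card_eq_fintype_card, smul_eq_mul] at h1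
  obtain ⟨m, hm⟩ := IsPGroup.iff_card.1 hT
  rcases Nat.eq_zero_or_pos s.card with h0 | h0
  · rw [Finset.card_eq_zero] at h0
    obtain ⟨i, hi, -⟩ := h 1
    simp [h0] at hi
  have hm0 : 0 < m := by
    by_contra hm'
    have hm'' : m = 0 := by omega
    obtain ⟨i, hi⟩ := Finset.card_pos.1 h0
    refine hf i hi (eq_top_iff.2 fun g _ => ?_)
    haveI : Subsingleton T := (Nat.card_eq_one_iff_unique.1 (by rw [hm, hm'', pow_zero])).1
    rw [Subsingleton.elim g 1]; exact one_mem _
  have hd : Nat.card T / p * p = Nat.card T := Nat.div_mul_cancel (hm ▸ dvd_pow_self p hm0.ne')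
  have h2 : s.card * (Nat.card T / p - 1) ≤ p * (Nat.card T / p - 1) := Nat.mul_le_mul_right _ hs
  have hge : p ≤ Nat.card T := hm ▸ Nat.le_self_pow hm0.ne' p
  rw [Nat.mul_sub p, mul_comm p (Nat.card T / p), hd, mul_one] at h2
  have := hp.two_le
  omega

/-- A maximal class group of order `p ^ (2k+1)` has an elementary abelian normal subgroup of order `p ^ (k+1)`. -/
theorem exists_big_elementary {T : Type*} [Group T] [Finite T] {p : ℕ} [Fact p.Prime] {k : ℕ} (hk : 2 ≤ k)
    (hpk : k + 2 ≤ p) (hcard : Nat.card T = p ^ (2 * k + 1)) (hcl : Group.nilpotencyClass T = 2 * k) :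
    ∃ M : Subgroup T, IsMulCommutative M ∧ (∀ a ∈ M, a ^ p = 1) ∧ Nat.card M = p ^ (k + 1) := by
  classical
  have hp := (Fact.out : p.Prime)
  have hT : IsPGroup p T := IsPGroup.of_card hcard
  haveI := hT.isNilpotent
  set L := (⊤ : Subgroup T).lowerCentralSeries with hL
  have hLn : ∀ i, (L i).Normal := fun i => Subgroup.lowerCentralSeries_normal _ i
  have hanti : ∀ {i j : ℕ}, i ≤ j → L j ≤ L i := fun h => Subgroup.lowerCentralSeries_antitone _ h
  have hcomm : ∀ i j : ℕ, ⁅L i, L j⁆ ≤ L (i + j + 1) := CfsgLib.StructC.commutator_lowerCentralSeries_le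
  have hbot : ∀ i, 2 * k ≤ i → L i = ⊥ := fun i hi =>
    Subgroup.lowerCentralSeries_eq_bot_iff_nilpotencyClass_le.2 (hcl.le.trans hi)
  obtain ⟨-, hc⟩ := maxClass_card_lcs (n := 2 * k + 1) (by omega) hcard (by omega)
  simp only [Nat.add_sub_cancel] at hc
  have hlt : ∀ i, i < 2 * k → ¬ L i ≤ L (i + 1) := by
    intro i hi hle
    have h1 := Nat.le_of_dvd Nat.card_pos (card_dvd_of_le hle)
    rw [hc (i + 1) (by omega) (by omega)] at h1
    rcases Nat.eq_zero_or_pos i with rfl | hi0
    · rw [show L 0 = ⊤ from rfl, card_top, hcard] at h1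
      have := (Nat.pow_le_pow_iff_right hp.one_lt).1 h1
      omega
    · rw [hc i hi0 (by omega)] at h1
      have := (Nat.pow_le_pow_iff_right hp.one_lt).1 h1
      omega
  -- the element `s`
  obtain ⟨s, hs⟩ := exists_notMem hT (Finset.range (k + 1)) (fun j => twoStep (T := T) j)
    (by rw [Finset.card_range]; omega) (fun j hj htop => by
      rw [Finset.mem_range] at hj
      refine hlt (j + 1) (by omega) ?_
      show ⁅L j, (⊤ : Subgroup T)⁆ ≤ L (j + 1 + 1)
      rw [commutator_le]
      exact fun l hl g _ => (htop ▸ mem_top g : g ∈ twoStep j) l hl)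
  have hs' : ∀ j, j ≤ k → s ∉ twoStep (T := T) j := fun j hj => hs j (Finset.mem_range.2 (by omega))
  -- successive quotients are cyclic
  have hsplit : ∀ i, 1 ≤ i → i < 2 * k → ∀ z ∈ L i, z ∉ L (i + 1) → L i ≤ zpowers z ⊔ L (i + 1) := by
    intro i hi1 hi2 z hz hz'
    haveI := hLn (i + 1)
    have hle : zpowers z ⊔ L (i + 1) ≤ L i := sup_le (zpowers_le.2 hz) (hanti (by omega))
    refine (eq_of_le_of_card_ge hle ?_).ge
    obtain ⟨u, hu⟩ := IsPGroup.iff_card.1 (hT.to_subgroup (zpowers z ⊔ L (i + 1)))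
    have hgt : Nat.card (L (i + 1)) < Nat.card ↥(zpowers z ⊔ L (i + 1)) := by
      refine lt_of_le_of_ne (Nat.le_of_dvd Nat.card_pos (card_dvd_of_le le_sup_right)) fun he => hz' ?_
      rw [eq_of_le_of_card_ge le_sup_right he.ge]
      exact mem_sup_left (mem_zpowers z)
    rw [hu, hc (i + 1) (by omega) (by omega), Nat.pow_lt_pow_iff_right hp.one_lt] at hgt
    rw [hu, hc i hi1 (by omega)]
    exact Nat.pow_le_pow_right hp.pos (by omega)
  -- `s ^ p` lies deep
  have hz : ∀ d, d ≤ k → s ^ p ∈ L (1 + d) := by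
    intro d hd
    induction d with
    | zero =>
      haveI := hLn 1
      obtain ⟨hnc, -⟩ := maxClass_card_lcs (n := 2 * k + 1) (by omega) hcard (by omega)
      have hidx : (L 1).index = p ^ 2 := by
        have h := (L 1).card_mul_index
        rw [hc 1 le_rfl (by omega), hcard] at h
        refine Nat.eq_of_mul_eq_mul_left (Nat.pow_pos hp.pos : 0 < p ^ (2 * k - 1)) ?_
        rw [h, ← pow_add]; congr 1; omega
      rw [← QuotientGroup.eq_one_iff (N := L 1), QuotientGroup.mk_pow]
      by_contra hne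
      apply hnc
      obtain ⟨u, hu, ho⟩ := (Nat.dvd_prime_pow hp).1 ((orderOf_dvd_natCard (QuotientGroup.mk s : T ⧸ L 1)).trans
        (dvd_of_eq ((index_eq_card (L 1)).symm.trans hidx)))
      refine isCyclic_of_orderOf_eq_card (QuotientGroup.mk s : T ⧸ L 1) ?_
      rw [← index_eq_card, hidx, ho]
      congr 1
      by_contra hu2
      exact hne (orderOf_dvd_iff_pow_eq_one.1 (by rw [ho]; exact (Nat.pow_dvd_pow p (by omega : u ≤ 1)).trans (by rw [pow_one])))
    | succ d ih =>
      by_contra hnot
      have hin := ih (by omega)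
      refine hs' (1 + d) (by omega) fun l hl => ?_
      haveI := hLn (1 + d + 1)
      haveI := hLn (1 + d + 2)
      have hl' := hsplit (1 + d) (by omega) (by omega) _ hin (by rwa [add_assoc]) hl
      rw [← SetLike.mem_coe, coe_mul_of_left_le_normalizer_right _ _ (by rw [normalizer_eq_top]; exact le_top)] at hl'
      obtain ⟨_, ⟨i, rfl⟩, l', hl', rfl⟩ := hl'
      have hcs : ⁅(s ^ p) ^ i, s⁆ = 1 := commutatorElement_eq_one_iff_mul_comm.2
        (((Commute.refl s).pow_left p).zpow_left i).eq
      have e : ⁅(s ^ p) ^ i * l', s⁆ = (s ^ p) ^ i * ⁅l', s⁆ * ((s ^ p) ^ i)⁻¹ * ⁅(s ^ p) ^ i, s⁆ := by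
        simp only [commutatorElement_def]; group
      show ⁅(s ^ p) ^ i * l', s⁆ ∈ L (1 + d + 2)
      rw [e, hcs, mul_one]
      exact Normal.conj_mem inferInstance _ (commutator_mem_commutator hl' (mem_top s)) _
  have hzk : s ^ p ∈ L (k + 1) := by rw [add_comm]; exact hz k le_rfl
  -- the subgroup `M`
  set M := L (k - 1) with hM
  haveI := hLn (k - 1)
  obtain ⟨w, hw, hx⟩ : ∃ w ∈ L (k - 2), ⁅w, s⁆ ∉ L (k - 2 + 2) := by
    have := hs' (k - 2) (by omega)
    by_contra h
    push Not at h
    exact this fun l hl => h l hl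
  rw [show k - 2 + 2 = k by omega] at hx
  set x := ⁅w, s⁆ with hxdef
  have hxM : x ∈ M := by
    have : x ∈ L (k - 2 + 1) := commutator_mem_commutator hw (mem_top s)
    rwa [show k - 2 + 1 = k - 1 by omega] at this
  have hMx : M ≤ zpowers x ⊔ L k := by
    have := hsplit (k - 1) (by omega) (by omega) x hxM (by rwa [show k - 1 + 1 = k by omega])
    rwa [show k - 1 + 1 = k by omega] at this
  have hab : ∀ a ∈ M, ∀ b ∈ M, a * b = b * a := by
    have h1 : zpowers x ⊔ L k ≤ centralizer (L k : Set T) := by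
      refine sup_le ?_ ?_
      · rw [zpowers_le, mem_centralizer_iff]
        intro l hl
        have := hcomm k (k - 1) (commutator_mem_commutator hl hxM)
        rwa [hbot _ (by omega), mem_bot, commutatorElement_eq_one_iff_mul_comm] at this
      · intro a ha
        rw [mem_centralizer_iff]
        intro l hl
        have := hcomm k k (commutator_mem_commutator hl ha)
        rwa [hbot _ (by omega), mem_bot, commutatorElement_eq_one_iff_mul_comm] at this
    have h2 : M ≤ centralizer (M : Set T) := by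
      refine le_centralizer_iff.1 (hMx.trans (sup_le ?_ (le_centralizer_iff.1 (hMx.trans h1))))
      rw [zpowers_le, mem_centralizer_iff]
      intro l hl
      have hl' : l ∈ zpowers x ⊔ L k := hMx hl
      haveI := hLn k
      rw [← SetLike.mem_coe, coe_mul_of_left_le_normalizer_right _ _ (by rw [normalizer_eq_top]; exact le_top)] at hl'
      obtain ⟨_, ⟨i, rfl⟩, l', hl', rfl⟩ := hl'
      have hc1 : Commute l' x := mem_centralizer_iff.1 (h1 (mem_sup_left (mem_zpowers x))) l' hl'
      exact (((Commute.refl x).zpow_left i).mul_left hc1).eq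
    exact fun a ha b hb => (mem_centralizer_iff.1 (h2 hb) a ha)
  -- `x ^ p = 1` through a regular subgroup
  set H := zpowers s ⊔ M with hH
  have hHcl : (⊤ : Subgroup H).lowerCentralSeries (p - 1) = ⊥ := by
    apply map_injective H.subtype_injective
    rw [map_lowerCentralSeries, ← MonoidHom.range_eq_map, range_subtype, Subgroup.map_bot, eq_bot_iff]
    have h1 : ∀ i, H.lowerCentralSeries (i + 1) ≤ L (k + i) := by
      intro i
      induction i with
      | zero =>
        show ⁅H, H⁆ ≤ L k
        haveI := hLn k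
        have hk1 : ∀ m ∈ M, ∀ g : T, ⁅m, g⁆ ∈ L k := fun m hm g => by
          have : ⁅m, g⁆ ∈ L (k - 1 + 1) := commutator_mem_commutator hm (mem_top g)
          rwa [show k - 1 + 1 = k by omega] at this
        have hker : ∀ a ∈ H, ∃ i : ℤ, ∃ m ∈ M, a = s ^ i * m := by
          intro a ha
          rw [hH, ← SetLike.mem_coe, coe_mul_of_left_le_normalizer_right _ _ (by rw [normalizer_eq_top]; exact le_top)] at ha
          obtain ⟨_, ⟨i, rfl⟩, m, hm, rfl⟩ := ha
          exact ⟨i, m, hm, rfl⟩
        rw [commutator_le]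
        intro a ha b hb
        obtain ⟨i, m, hm, rfl⟩ := hker a ha
        obtain ⟨j, m', hm', rfl⟩ := hker b hb
        have hπ : ∀ m ∈ M, ∀ g : T, QuotientGroup.mk' (L k) m * QuotientGroup.mk' (L k) g =
            QuotientGroup.mk' (L k) g * QuotientGroup.mk' (L k) m := fun m hm g => by
          rw [← commutatorElement_eq_one_iff_mul_comm, ← map_commutatorElement]
          exact (QuotientGroup.eq_one_iff _).2 (hk1 m hm g)
        rw [← QuotientGroup.eq_one_iff (N := L k)]
        show QuotientGroup.mk' (L k) _ = 1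
        rw [map_commutatorElement, commutatorElement_eq_one_iff_mul_comm, map_mul, map_mul, map_zpow, map_zpow]
        set σ := QuotientGroup.mk' (L k) s
        have c1 : Commute (QuotientGroup.mk' (L k) m) σ := hπ m hm s
        have c2 : Commute (QuotientGroup.mk' (L k) m') σ := hπ m' hm' s
        have c3 : Commute (QuotientGroup.mk' (L k) m) (QuotientGroup.mk' (L k) m') := hπ m hm m'
        exact (((Commute.refl σ).zpow_zpow i j).mul_right (c2.symm.zpow_left i)).mul_left
          ((c1.zpow_right j).mul_right c3) |>.eq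
      | succ i ih => exact commutator_mono ih le_top
    have h2 := h1 (p - 2)
    rw [show p - 2 + 1 = p - 1 by omega, hbot (k + (p - 2)) (by omega)] at h2
    exact h2
  have hreg := Cfsg.Agent.S4209.result (hT.to_subgroup H) hHcl
  have hxp : x ^ p = 1 := by
    have hwz : Commute w (s ^ p) := by
      have := hcomm (k - 2) (k + 1) (commutator_mem_commutator hw hzk)
      rw [hbot _ (by omega), mem_bot, commutatorElement_eq_one_iff_mul_comm] at this
      exact this
    have e : (x * s) ^ p = s ^ p := by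
      rw [show x * s = w * s * w⁻¹ by rw [hxdef, commutatorElement_def]; group, conj_pow, hwz.eq, mul_inv_cancel_right]
    have h := (Cfsg.Agent.S4210.result hreg
      (⟨x * s, mul_mem (mem_sup_right hxM) (mem_sup_left (mem_zpowers s))⟩ : H)
      ⟨s, mem_sup_left (mem_zpowers s)⟩ 1).1 (Subtype.ext (by simpa using e))
    have h' := congrArg Subtype.val h
    simpa using h'
  refine ⟨M, IsMulCommutative.mk ⟨fun a b => Subtype.ext (hab a a.2 b b.2)⟩, ?_, ?_⟩
  · let E : Subgroup T :=
      { carrier := {a | a ∈ M ∧ a ^ p = 1}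
        one_mem' := ⟨one_mem _, one_pow _⟩
        mul_mem' := fun {a b} ha hb => ⟨mul_mem ha.1 hb.1, by
          rw [(show Commute a b from hab a ha.1 b hb.1).mul_pow, ha.2, hb.2, one_mul]⟩
        inv_mem' := fun {a} ha => ⟨inv_mem ha.1, by rw [inv_pow, ha.2, inv_one]⟩ }
    have key : ∀ d, M ≤ E ⊔ L (k - 1 + d) := by
      intro d
      induction d with
      | zero => exact le_sup_right
      | succ d ih =>
        haveI := hLn (k - 1 + (d + 1))
        haveI := hLn (k - 1 + d)
        have hb : M ≤ E ⊔ L k := hMx.trans (sup_le (le_sup_of_le_left (zpowers_le.2 ⟨hxM, hxp⟩)) le_sup_right)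
        refine hb.trans (sup_le le_sup_left ?_)
        have hLk : L k = ⁅M, (⊤ : Subgroup T)⁆ := by
          show L k = L (k - 1 + 1)
          rw [show k - 1 + 1 = k by omega]
        rw [hLk, commutator_le]
        intro m hm g _
        have hm' := ih hm
        rw [← SetLike.mem_coe, coe_mul_of_left_le_normalizer_right _ _ (by rw [normalizer_eq_top]; exact le_top)] at hm'
        obtain ⟨a, ha, l, hl, rfl⟩ := hm'
        have e : ⁅a * l, g⁆ = a * ⁅l, g⁆ * a⁻¹ * ⁅a, g⁆ := by simp only [commutatorElement_def]; group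
        rw [e]
        refine mul_mem (mem_sup_right (Normal.conj_mem inferInstance _ (commutator_mem_commutator hl (mem_top g)) a))
          (mem_sup_left ?_)
        have hga : g * a⁻¹ * g⁻¹ ∈ M := Normal.conj_mem inferInstance _ (inv_mem ha.1) g
        rw [show ⁅a, g⁆ = a * (g * a⁻¹ * g⁻¹) by rw [commutatorElement_def]; group]
        exact mul_mem ha ⟨hga, by rw [conj_pow, inv_pow, ha.2, inv_one, mul_one, mul_inv_cancel]⟩
    intro a ha
    have := key (k + 1) ha
    rw [hbot (k - 1 + (k + 1)) (by omega), sup_bot_eq] at this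
    exact this.2
  · rw [hM, hc (k - 1) (by omega) (by omega)]
    congr 1
    omega


/-- Let p be a prime and S a finite p-group of order pⁿ (n ≥ 2) of maximal nilpotency class n − 1 whose sectional p-rank is exactly k (every section has p-rank at most k, and some section has p-rank k). If p ≥ k + 2 then the order of S is at most p^(2k). -/
theorem result {S : Type*} [Group S] [Finite S] (p : ℕ) [Fact p.Prime] (hS : IsPGroup p S) [Group.IsNilpotent S]
    (n : ℕ) (hn : 2 ≤ n) (hcard : Nat.card S = p ^ n) (hmax : Group.nilpotencyClass S = n - 1)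
    (k : ℕ) (hk : 1 ≤ k) (hsr : Cfsg.SectionalPRankLE p k S ∧ ¬ Cfsg.SectionalPRankLE p (k - 1) S)
    (hpk : k + 2 ≤ p) : Nat.card S ≤ p ^ (2 * k) := by
  classical
  by_contra hgt
  push Not at hgt
  have hp := (Fact.out : p.Prime)
  rw [hcard] at hgt
  have hn2 : 2 * k < n := (Nat.pow_lt_pow_iff_right hp.one_lt).1 hgt
  obtain ⟨hnc, hc⟩ := CfsgLib.PGroup.maxClass_card_lcs (n := n) (by omega) hcard hmax
  set L := (⊤ : Subgroup S).lowerCentralSeries with hL
  -- a section which is elementary abelian of order `p ^ (k + 1)`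
  have build : ∀ (N : Subgroup S) [N.Normal] (M : Subgroup (S ⧸ N)), IsMulCommutative M →
      (∀ a ∈ M, a ^ p = 1) → Nat.card M ≤ p ^ k := by
    intro N _ M hM hMp
    set H := M.comap (QuotientGroup.mk' N)
    let f : H →* M := ((QuotientGroup.mk' N).comp H.subtype).codRestrict M fun h => h.2
    have hf : Function.Surjective f := fun m => by
      obtain ⟨g, hg⟩ := QuotientGroup.mk'_surjective N m.1
      exact ⟨⟨g, show QuotientGroup.mk' N g ∈ M from hg ▸ m.2⟩, Subtype.ext hg⟩
    let e := QuotientGroup.quotientKerEquivOfSurjective f hf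
    have hcm : ∀ a b : M, a * b = b * a := fun a b => hM.is_comm.comm a b
    have h := hsr.1 H f.ker ⊤ (IsMulCommutative.mk ⟨fun a b => Subtype.ext (e.injective (by
      rw [Subgroup.coe_mul, Subgroup.coe_mul, map_mul, map_mul, hcm]))⟩) (fun a _ => e.injective (by
      rw [map_pow, map_one]; exact Subtype.ext (by simpa using hMp _ (e a).2)))
    rwa [Subgroup.card_top, Nat.card_congr e.toEquiv] at h
  rcases Nat.lt_or_ge k 2 with hk2 | hk2
  · obtain rfl : k = 1 := by omega
    haveI : (L 1).Normal := Subgroup.lowerCentralSeries_normal _ 1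
    have hidx : (L 1).index = p ^ 2 := by
      have h := (L 1).card_mul_index
      rw [hc 1 le_rfl (by omega), hcard] at h
      refine Nat.eq_of_mul_eq_mul_left (Nat.pow_pos hp.pos : 0 < p ^ (n - 2)) ?_
      rw [show n - 2 = n - 1 - 1 by omega, h, ← pow_add]; congr 1; omega
    have hcardQ : Nat.card (S ⧸ L 1) = p ^ 2 := by rw [← Subgroup.index_eq_card, hidx]
    have hcm : ∀ a b : S ⧸ L 1, a * b = b * a := fun a b =>
      (IsPGroup.commGroupOfCardEqPrimeSq hcardQ).mul_comm a b
    have h := build (L 1) ⊤ (IsMulCommutative.mk ⟨fun a b => Subtype.ext (hcm a b)⟩) (fun a _ => ?_)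
    · rw [Subgroup.card_top, hcardQ] at h
      have := (Nat.pow_le_pow_iff_right hp.one_lt).1 h
      omega
    · obtain ⟨u, hu, ho⟩ := (Nat.dvd_prime_pow hp).1 (hcardQ ▸ orderOf_dvd_natCard a)
      refine orderOf_dvd_iff_pow_eq_one.1 ?_
      rw [ho]
      refine (Nat.pow_dvd_pow p (show u ≤ 1 from ?_)).trans (by rw [pow_one])
      by_contra hu2
      exact hnc (isCyclic_of_orderOf_eq_card a (by rw [ho, hcardQ, show u = 2 by omega]))
  · set N := L (2 * k) with hN
    haveI : N.Normal := Subgroup.lowerCentralSeries_normal _ _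
    haveI := hS.isNilpotent
    set π := QuotientGroup.mk' N
    have hπ : ∀ i, (L i).map π = (⊤ : Subgroup (S ⧸ N)).lowerCentralSeries i := fun i => by
      rw [hL, Subgroup.map_lowerCentralSeries, Subgroup.map_top_of_surjective _ (QuotientGroup.mk'_surjective N)]
    have hcQ : Nat.card (S ⧸ N) = p ^ (2 * k + 1) := by
      have h := N.card_mul_index
      rw [hN, hc (2 * k) (by omega) (by omega), hcard] at h
      rw [← Subgroup.index_eq_card]
      refine Nat.eq_of_mul_eq_mul_left (Nat.pow_pos hp.pos : 0 < p ^ (n - 1 - 2 * k)) ?_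
      rw [h, ← pow_add]; congr 1; omega
    haveI : Group.IsNilpotent (S ⧸ N) := (IsPGroup.of_card hcQ).isNilpotent
    have hclQ : Group.nilpotencyClass (S ⧸ N) = 2 * k := by
      refine le_antisymm ?_ ?_
      · refine Subgroup.lowerCentralSeries_eq_bot_iff_nilpotencyClass_le.1 ?_
        rw [← hπ, Subgroup.map_eq_bot_iff, QuotientGroup.ker_mk']
      · by_contra hlt
        have h0 := Subgroup.lowerCentralSeries_eq_bot_iff_nilpotencyClass_le.2 (show Group.nilpotencyClass (S ⧸ N) ≤ 2 * k - 1 by omega)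
        rw [← hπ, Subgroup.map_eq_bot_iff, QuotientGroup.ker_mk'] at h0
        have h1 := Nat.le_of_dvd Nat.card_pos (Subgroup.card_dvd_of_le h0)
        rw [hN, hc (2 * k) (by omega) (by omega), hc (2 * k - 1) (by omega) (by omega)] at h1
        have := (Nat.pow_le_pow_iff_right hp.one_lt).1 h1
        omega
    obtain ⟨M, hM, hMp, hMc⟩ := exists_big_elementary hk2 hpk hcQ hclQ
    have h := build N M hM hMp
    rw [hMc] at h
    have := (Nat.pow_le_pow_iff_right hp.one_lt).1 h
    omega

end Cfsg.Agent.S3806
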