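import Cfsg.Statements.S3807
import Cfsg.Agent.Lib.Coprime.IndexP


set_option autoImplicit false
open scoped commutatorElement
open Cfsg

namespace Cfsg.Agent.S3807

/-- Let S be a non-abelian finite p-group with an abelian subgroup A of index p. Then [S : Z(S)] = p·#[S,S], and either [S,S] has order p, S/Z(S) is elementary abelian of order p², and S has exactly p + 1 abelian subgroups of index p; or [S,S] has order at least p² and A is the only abelian subgroup of index p in S. -/
theorem result {S : Type*} [Group S] [Finite S] (p : ℕ) [Fact p.Prime] (hS : IsPGroup p S) (hna : ¬ IsMulCommutative S)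
    (A : Subgroup S) (hA : IsMulCommutative ↥A) (hAi : A.index = p) :
    (Subgroup.center S).index = p * Nat.card (commutator S) ∧
      ((Nat.card (commutator S) = p ∧ Cfsg.IsElementaryAbelian p (⊤ : Subgroup (S ⧸ Subgroup.center S)) ∧
          Nat.card (S ⧸ Subgroup.center S) = p ^ 2 ∧
          Nat.card {B : Subgroup S // IsMulCommutative ↥B ∧ B.index = p} = p + 1) ∨
        (p ^ 2 ≤ Nat.card (commutator S) ∧ ∀ B : Subgroup S, IsMulCommutative ↥B → B.index = p → B = A)) := by
  have hpr := (Fact.out : p.Prime)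
  obtain ⟨hZA, hcard⟩ := CfsgLib.Coprime.card_eq_center_mul_commutator hS hna hA hAi
  have hidx : (Subgroup.center S).index = p * Nat.card (commutator S) := by
    refine Nat.eq_of_mul_eq_mul_left (Nat.card_pos (α := Subgroup.center S)) ?_
    rw [Subgroup.card_mul_index, ← A.card_mul_index, hAi, hcard]; ring
  refine ⟨hidx, ?_⟩
  obtain ⟨k, hk⟩ := IsPGroup.iff_card.mp (hS.to_subgroup (commutator S))
  have hk0 : k ≠ 0 := fun h0 => by
    have h1 : commutator S = ⊥ := Subgroup.card_eq_one.mp (by rw [hk, h0, pow_zero])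
    refine hna ⟨⟨fun u v => ?_⟩⟩
    have h2 := Subgroup.commutator_mem_commutator (Subgroup.mem_top u) (Subgroup.mem_top v)
    rw [← _root_.commutator_def, h1, Subgroup.mem_bot] at h2
    exact commutatorElement_eq_one_iff_mul_comm.mp h2
  have hncyc : ¬ IsCyclic (S ⧸ Subgroup.center S) := fun h =>
    hna (isMulCommutative_of_isCyclic_quotient_center_self S)
  rcases Nat.lt_or_ge k 2 with hk1 | hk2
  · left
    obtain rfl : k = 1 := by omega
    rw [pow_one] at hk
    have hcardQ : Nat.card (S ⧸ Subgroup.center S) = p ^ 2 := by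
      rw [← Subgroup.index_eq_card, hidx, hk, sq]
    have hexp : ∀ q : S ⧸ Subgroup.center S, q ^ p = 1 := by
      intro q
      obtain ⟨j, hj, ho⟩ := (Nat.dvd_prime_pow hpr).mp (hcardQ ▸ orderOf_dvd_natCard q)
      rw [← orderOf_dvd_iff_pow_eq_one, ho]
      rcases Nat.lt_or_ge j 2 with h1 | h1
      · calc p ^ j ∣ p ^ 1 := pow_dvd_pow p (by omega)
          _ = p := pow_one p
      · exfalso
        obtain rfl : j = 2 := by omega
        exact hncyc (isCyclic_of_orderOf_eq_card q (by rw [ho, hcardQ]))
    have hab : ∀ u v : S ⧸ Subgroup.center S, u * v = v * u := fun u v => by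
      have : IsMulCommutative (S ⧸ Subgroup.center S) :=
        IsPGroup.isMulCommutative_of_card_eq_prime_sq hcardQ
      exact this.is_comm.comm u v
    refine ⟨hk, ⟨⟨⟨fun u v => Subtype.ext (hab u v)⟩⟩, fun q _ => hexp q⟩, hcardQ, ?_⟩
    rw [← CfsgLib.Comp.card_lines hexp hcardQ]
    set π := QuotientGroup.mk' (Subgroup.center S)
    have hsurj := QuotientGroup.mk'_surjective (Subgroup.center S)
    refine Nat.card_congr (Equiv.ofBijective
      (fun B : {B : Subgroup S // IsMulCommutative ↥B ∧ B.index = p} =>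
        (⟨B.1.map π, ?_⟩ : CfsgLib.Comp.Lines p (S ⧸ Subgroup.center S))) ⟨?_, ?_⟩)
    · have hZB := (CfsgLib.Coprime.card_eq_center_mul_commutator hS hna B.2.1 B.2.2).1
      have h1 := (B.1.map π).card_mul_index
      rw [B.1.index_map_eq hsurj (by rwa [QuotientGroup.ker_mk']), B.2.2, hcardQ, sq] at h1
      exact Nat.eq_of_mul_eq_mul_right hpr.pos h1
    · rintro ⟨B, hB⟩ ⟨C, hC⟩ h
      have h1 := congrArg (Subgroup.comap π) (congrArg Subtype.val h)
      simp only at h1
      rw [Subgroup.comap_map_eq, Subgroup.comap_map_eq, QuotientGroup.ker_mk',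
        sup_eq_left.mpr (CfsgLib.Coprime.card_eq_center_mul_commutator hS hna hB.1 hB.2).1,
        sup_eq_left.mpr (CfsgLib.Coprime.card_eq_center_mul_commutator hS hna hC.1 hC.2).1] at h1
      exact Subtype.ext h1
    · rintro ⟨D, hD⟩
      refine ⟨⟨D.comap π, ?_, ?_⟩, Subtype.ext (Subgroup.map_comap_eq_self_of_surjective hsurj D)⟩
      · have : IsCyclic D := isCyclic_of_prime_card hD
        obtain ⟨g, hg⟩ := IsCyclic.exists_generator (α := D)
        have hle : (Subgroup.center S).subgroupOf (D.comap π) ≤ Subgroup.center (D.comap π) := fun z hz =>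
          Subgroup.mem_center_iff.mpr fun w => Subtype.ext (Subgroup.mem_center_iff.mp hz (w : S))
        refine CfsgLib.Coprime.comm_of_index_center_dvd_prime hpr ((Subgroup.index_dvd_of_le hle).trans ?_)
        have hZD : Subgroup.center S ≤ D.comap π := by
          conv_lhs => rw [← QuotientGroup.ker_mk' (Subgroup.center S)]
          exact MonoidHom.ker_le_comap π D
        show (Subgroup.center S).relIndex (D.comap π) ∣ p
        have hk' : (⊥ : Subgroup (S ⧸ Subgroup.center S)).comap π = Subgroup.center S := by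
          rw [MonoidHom.comap_bot]; exact QuotientGroup.ker_mk' _
        refine dvd_of_eq ((congrArg (fun K => Subgroup.relIndex K (D.comap π)) hk').symm.trans ?_)
        rw [Subgroup.relIndex_comap, Subgroup.map_comap_eq_self_of_surjective hsurj,
          Subgroup.relIndex_bot_left, hD]
      · rw [Subgroup.index_comap_of_surjective _ hsurj]
        have h1 := D.card_mul_index
        rw [hD, hcardQ, sq] at h1
        exact Nat.eq_of_mul_eq_mul_left hpr.pos h1
  · right
    refine ⟨hk ▸ Nat.pow_le_pow_right hpr.pos hk2, fun B hB hBi => ?_⟩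
    by_contra hne
    have hBn := CfsgLib.Coprime.normal_of_index_prime hS hBi
    have hnle : ¬ B ≤ A := fun h => hne (Subgroup.eq_of_le_of_card_ge h (by
      have h1 := A.card_mul_index; have h2 := B.card_mul_index
      rw [hAi] at h1; rw [hBi] at h2
      exact (Nat.eq_of_mul_eq_mul_right hpr.pos (h1.trans h2.symm)).le))
    obtain ⟨b, hb, hbA⟩ := SetLike.not_le_iff_exists.mp hnle
    have hle : A ⊓ B ≤ Subgroup.center S := by
      intro z hz
      refine Subgroup.mem_center_iff.mpr fun w => ?_
      have hw : w ∈ A ⊔ Subgroup.zpowers b := CfsgLib.Coprime.sup_zpowers_eq_top hAi hbA ▸ Subgroup.mem_top w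
      have hAn := CfsgLib.Coprime.normal_of_index_prime hS hAi
      obtain ⟨a, ha, c, hc, rfl⟩ := Subgroup.mem_sup_of_normal_left.mp hw
      have hc' : c ∈ B := (Subgroup.zpowers_le.mpr hb) hc
      exact (Commute.mul_left (congrArg Subtype.val (hA.is_comm.comm ⟨a, ha⟩ ⟨z, hz.1⟩) : a * z = z * a)
        (congrArg Subtype.val (hB.is_comm.comm ⟨c, hc'⟩ ⟨z, hz.2⟩) : c * z = z * c)).eq
    have h1 : (A ⊓ B).index ≤ p * p := Subgroup.index_inf_le.trans (by rw [hAi, hBi])
    have h2 := (Nat.le_of_dvd (Nat.pos_of_ne_zero Subgroup.index_ne_zero_of_finite)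
      (Subgroup.index_dvd_of_le hle)).trans h1
    rw [hidx, hk] at h2
    have h3 : p ^ k ≤ p := Nat.le_of_mul_le_mul_left h2 hpr.pos
    have h4 : p ^ 2 ≤ p ^ k := Nat.pow_le_pow_right hpr.pos hk2
    have h5 : p < p ^ 2 := by rw [sq]; exact lt_mul_of_one_lt_left hpr.pos hpr.one_lt
    omega

end Cfsg.Agent.S3807
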