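import Cfsg.Statements.S3808
import Cfsg.Agent.Lib.Coprime.IndexP


set_option autoImplicit false
open scoped commutatorElement
open Cfsg

namespace Cfsg.Agent.S3808

/-- Let S be a finite p-group with an extraspecial subgroup Q of index p. Then either Z(S) = Z(Q), or S = Q·Z(S) and Z(S) has order p². -/
theorem result {S : Type*} [Group S] [Finite S] (p : ℕ) [Fact p.Prime] (hS : IsPGroup p S) (Q : Subgroup S) (hQ : Cfsg.IsExtraspecial p ↥Q) (hQi : Q.index = p) :
    Subgroup.center S = (Subgroup.center ↥Q).map Q.subtype ∨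
      (Q ⊔ Subgroup.center S = ⊤ ∧ Nat.card (Subgroup.center S) = p ^ 2) := by
  have hpr := (Fact.out : p.Prime)
  have hQn := CfsgLib.Coprime.normal_of_index_prime hS hQi
  set ZQ := (Subgroup.center ↥Q).map Q.subtype
  have hZQc : Nat.card ZQ = p := by
    rw [Subgroup.card_map_of_injective Q.subtype_injective, hQ.2]
  have hinf : Subgroup.center S ⊓ Q ≤ ZQ := fun z hz =>
    ⟨⟨z, hz.2⟩, Subgroup.mem_center_iff.mpr fun w => Subtype.ext (Subgroup.mem_center_iff.mp hz.1 (w : S)), rfl⟩
  by_cases hle : Subgroup.center S ≤ Q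
  · left
    refine Subgroup.eq_of_le_of_card_ge (fun z hz => hinf ⟨hz, hle hz⟩) ?_
    rw [hZQc]
    have : Nontrivial S := by
      rw [← Finite.one_lt_card_iff_nontrivial]
      calc 1 < p := hpr.one_lt
        _ ≤ Nat.card S := hQi ▸ Nat.le_of_dvd Nat.card_pos Q.index_dvd_card
    obtain ⟨k, hk⟩ := IsPGroup.iff_card.mp (hS.to_subgroup (Subgroup.center S))
    have hne := hS.center_nontrivial
    rw [hk]
    refine Nat.le_self_pow (fun h0 => ?_) p
    rw [← Finite.one_lt_card_iff_nontrivial, hk, h0, pow_zero] at hne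
    exact lt_irrefl _ hne
  · right
    obtain ⟨z, hz, hzQ⟩ := SetLike.not_le_iff_exists.mp hle
    have htop : Q ⊔ Subgroup.center S = ⊤ := top_le_iff.mp ((CfsgLib.Coprime.sup_zpowers_eq_top hQi hzQ).ge.trans
      (sup_le_sup_left (Subgroup.zpowers_le.mpr hz) Q))
    refine ⟨htop, ?_⟩
    have hZQ : Subgroup.center S ⊓ Q = ZQ := by
      refine le_antisymm hinf ?_
      rintro _ ⟨q, hq, rfl⟩
      refine ⟨Subgroup.mem_center_iff.mpr fun w => ?_, q.2⟩
      obtain ⟨a, ha, c, hc, rfl⟩ := Subgroup.mem_sup_of_normal_left.mp (htop ▸ Subgroup.mem_top w : w ∈ Q ⊔ Subgroup.center S)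
      exact (Commute.mul_left (congrArg Subtype.val (Subgroup.mem_center_iff.mp hq ⟨a, ha⟩) : a * (q : S) = q * a)
        (Subgroup.mem_center_iff.mp hc (q : S)).symm).eq
    have hr : Q.relIndex (Subgroup.center S) = p := by
      rcases (Nat.dvd_prime hpr).mp (hQi ▸ Subgroup.relIndex_dvd_index_of_normal Q (Subgroup.center S)) with h | h
      · exact absurd (Subgroup.relIndex_eq_one.mp h) hle
      · exact h
    have h1 := Subgroup.card_mul_index (Q.subgroupOf (Subgroup.center S))
    rw [← Subgroup.relIndex, hr, ← Subgroup.inf_subgroupOf_left,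
      Nat.card_congr (Subgroup.subgroupOfEquivOfLe inf_le_left).toEquiv, hZQ, hZQc] at h1
    rw [← h1, sq]

end Cfsg.Agent.S3808
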