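import Cfsg.Statements.S3809
import Cfsg.Agent.Lib.Coprime.IndexP
import Cfsg.Agent.Lib.Transfer.Extraspecial
import Cfsg.Agent.Lib.StructC.BurnsideBasis


set_option autoImplicit false
open scoped commutatorElement
open Cfsg

namespace Cfsg.Agent.S3809

/-- Let S be a finite p-group with an extraspecial subgroup of index p. Then S has order p^(2+2n) for some n ≥ 1, derived length at most 3, and exponent dividing p³. -/
theorem result {S : Type*} [Group S] [Finite S] (p : ℕ) [Fact p.Prime] (hS : IsPGroup p S) (Q : Subgroup S) (hQ : Cfsg.IsExtraspecial p ↥Q) (hQi : Q.index = p) :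
    (∃ n : ℕ, 1 ≤ n ∧ Nat.card S = p ^ (2 + 2 * n)) ∧ derivedSeries S 3 = ⊥ ∧ ∀ x : S, x ^ (p ^ 3) = 1 := by
  have hpr := (Fact.out : p.Prime)
  refine ⟨?_, ?_, ?_⟩
  · obtain ⟨n, hn, hc⟩ := CfsgLib.Transfer.extraspecial_card hQ
    refine ⟨n, hn, ?_⟩
    rw [← Q.card_mul_index, hQi, hc, ← pow_succ]
    congr 1; omega
  · have h1 : derivedSeries S 1 ≤ Q := by
      rw [derivedSeries_one]; exact CfsgLib.Coprime.commutator_le_of_index hS hQi
    have h2 : derivedSeries S 2 ≤ (Subgroup.center ↥Q).map Q.subtype := by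
      rw [derivedSeries_succ, ← hQ.1.2.2, _root_.commutator_def, Subgroup.map_commutator,
        ← MonoidHom.range_eq_map, Subgroup.range_subtype]
      exact Subgroup.commutator_mono h1 h1
    rw [derivedSeries_succ, eq_bot_iff]
    refine (Subgroup.commutator_mono h2 h2).trans ?_
    rw [← Subgroup.map_commutator, Subgroup.commutator_eq_bot_iff_le_centralizer.mpr (Subgroup.center_le_centralizer _),
      Subgroup.map_bot]
  · intro x
    have h1 := CfsgLib.Coprime.pow_mem_of_index hS hQi x
    have h2 : (⟨x ^ p, h1⟩ : Q) ^ p ∈ Subgroup.center Q :=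
      hQ.1.2.1 ▸ CfsgLib.StructC.pow_mem_frattini hQ.1.1 _
    have h3 := CfsgLib.Transfer.special_center_pow hQ.1 h2
    rw [show p ^ 3 = p * p * p by ring, pow_mul, pow_mul]
    exact congrArg Subtype.val h3

end Cfsg.Agent.S3809
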