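import Cfsg.Statements.S3810
import Cfsg.Agent.Lib.Coprime.IndexP
import Cfsg.Agent.Lib.Transfer.Extraspecial


set_option autoImplicit false
open scoped commutatorElement
open Cfsg

namespace Cfsg.Agent.S3810

/-- Let S be a finite p-group with an extraspecial subgroup of index p. Then S has an abelian subgroup of index p if and only if S has order p⁴. -/
theorem result {S : Type*} [Group S] [Finite S] (p : ℕ) [Fact p.Prime] (hS : IsPGroup p S) (Q : Subgroup S) (hQ : Cfsg.IsExtraspecial p ↥Q) (hQi : Q.index = p) :
    (∃ A : Subgroup S, IsMulCommutative ↥A ∧ A.index = p) ↔ Nat.card S = p ^ 4 := by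
  have hpr := (Fact.out : p.Prime)
  have hQn := CfsgLib.Coprime.normal_of_index_prime hS hQi
  obtain ⟨n, hn, hcQ⟩ := CfsgLib.Transfer.extraspecial_card hQ
  have hQna : ¬ IsMulCommutative Q := fun hc => by
    have h1 : commutator Q = ⊥ := by
      rw [_root_.commutator_def, Subgroup.commutator_eq_bot_iff_le_centralizer]
      exact fun a _ => Subgroup.mem_centralizer_iff.mpr fun b _ => hc.is_comm.comm b a
    have h2 := hQ.2
    rw [← hQ.1.2.2, h1, Subgroup.card_bot] at h2
    exact hpr.ne_one h2.symm
  have hcS : Nat.card S = Nat.card Q * p := by rw [← hQi, Q.card_mul_index]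
  constructor
  · rintro ⟨A, hA, hAi⟩
    have hB : IsMulCommutative (A.subgroupOf Q) := ⟨⟨fun a b => Subtype.ext (Subtype.ext
      (congrArg Subtype.val (hA.is_comm.comm ⟨_, a.2⟩ ⟨_, b.2⟩) :))⟩⟩
    have hAn := CfsgLib.Coprime.normal_of_index_prime hS hAi
    have hBi : (A.subgroupOf Q).index = p := by
      rcases (Nat.dvd_prime hpr).mp (hAi ▸ Subgroup.relIndex_dvd_index_of_normal A Q) with h | h
      · refine absurd ?_ hQna
        exact ⟨⟨fun a b => Subtype.ext (congrArg Subtype.val
          (hA.is_comm.comm ⟨a, Subgroup.relIndex_eq_one.mp h a.2⟩ ⟨b, Subgroup.relIndex_eq_one.mp h b.2⟩) :)⟩⟩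
      · exact h
    obtain ⟨-, h1⟩ := CfsgLib.Coprime.card_eq_center_mul_commutator hQ.1.1 hQna hB hBi
    have h2 := (A.subgroupOf Q).card_mul_index
    rw [hBi, h1, hQ.1.2.2, hQ.2] at h2
    rw [hcS, ← h2]; ring
  · intro h4
    have hQ3 : Nat.card Q = p ^ 3 := by
      rw [hcS] at h4
      exact Nat.eq_of_mul_eq_mul_right hpr.pos (h4.trans (pow_succ p 3))
    have hSna : ¬ IsMulCommutative S := fun hc => hQna
      ⟨⟨fun a b => Subtype.ext (hc.is_comm.comm (a : S) b)⟩⟩
    -- an element whose centraliser has index at most `p`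
    suffices h : ∃ q : S, q ∉ Subgroup.center S ∧ (Subgroup.centralizer ({q} : Set S)).index ∣ p by
      obtain ⟨q, hq, hqi⟩ := h
      set C := Subgroup.centralizer ({q} : Set S)
      have hCi : C.index = p := by
        rcases (Nat.dvd_prime hpr).mp hqi with h | h
        · refine absurd (Subgroup.mem_center_iff.mpr fun w => ?_) hq
          exact Subgroup.mem_centralizer_singleton_iff.mp ((Subgroup.index_eq_one.mp h).symm.le (Subgroup.mem_top w))
        · exact h
      have hCc : Nat.card C = p ^ 3 := by
        have h1 := C.card_mul_index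
        rw [hCi, h4] at h1
        exact Nat.eq_of_mul_eq_mul_right hpr.pos (h1.trans (pow_succ p 3))
      refine ⟨C, CfsgLib.Coprime.comm_of_index_center_dvd_prime (S := C) hpr ?_, hCi⟩
      -- the centre of `C` properly contains the centre of `S`
      set W := Subgroup.center S ⊔ Subgroup.zpowers q
      have hWC : W ≤ C := sup_le (Subgroup.center_le_centralizer _)
        (Subgroup.zpowers_le.mpr (Subgroup.mem_centralizer_singleton_iff.mpr rfl))
      have hWcen : W.subgroupOf C ≤ Subgroup.center C := by
        intro z hz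
        refine Subgroup.mem_center_iff.mpr fun w => Subtype.ext ?_
        have hle : W ≤ Subgroup.centralizer ({(w : S)} : Set S) := sup_le (Subgroup.center_le_centralizer _)
          (Subgroup.zpowers_le.mpr (Subgroup.mem_centralizer_singleton_iff.mpr
            (Subgroup.mem_centralizer_singleton_iff.mp w.2).symm))
        exact (Subgroup.mem_centralizer_singleton_iff.mp (hle hz)).symm
      refine (Subgroup.index_dvd_of_le hWcen).trans ?_
      have : Nontrivial S := by
        rw [← Finite.one_lt_card_iff_nontrivial, h4]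
        exact Nat.one_lt_pow (by norm_num) hpr.one_lt
      obtain ⟨a, ha⟩ := IsPGroup.iff_card.mp (hS.to_subgroup (Subgroup.center S))
      have ha0 : a ≠ 0 := fun h0 => by
        have := hS.center_nontrivial
        rw [← Finite.one_lt_card_iff_nontrivial, ha, h0, pow_zero] at this
        exact lt_irrefl _ this
      obtain ⟨b, hb⟩ := IsPGroup.iff_card.mp (hS.to_subgroup W)
      have hab : a < b := by
        rw [← Nat.pow_lt_pow_iff_right hpr.one_lt, ← ha, ← hb]
        refine lt_of_le_of_ne (Subgroup.card_le_of_le le_sup_left) fun e => hq ?_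
        exact (Subgroup.eq_of_le_of_card_ge le_sup_left e.ge).ge (Subgroup.mem_sup_right (Subgroup.mem_zpowers q))
      have h1 := (W.subgroupOf C).card_mul_index
      rw [Nat.card_congr (Subgroup.subgroupOfEquivOfLe hWC).toEquiv, hb, hCc] at h1
      obtain ⟨c, hc, hc'⟩ := (Nat.dvd_prime_pow hpr).mp (Dvd.intro_left _ h1)
      rw [hc', ← pow_add] at h1
      have h2 := Nat.pow_right_injective hpr.two_le h1
      rw [hc']
      exact (pow_dvd_pow p (show c ≤ 1 by omega)).trans (dvd_of_eq (pow_one p))
    set Z := (Subgroup.center ↥Q).map Q.subtype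
    have hZn : Z.Normal := inferInstance
    have hZc : Nat.card Z = p := by rw [Subgroup.card_map_of_injective Q.subtype_injective, hQ.2]
    by_cases hle : Subgroup.center S ≤ Z
    · set π := QuotientGroup.mk' Z
      have := (hS.to_quotient Z).isNilpotent
      have hne : Q.map π ≠ ⊥ := by
        intro h
        rw [Subgroup.map_eq_bot_iff, QuotientGroup.ker_mk'] at h
        have h1 := Subgroup.card_le_of_le h
        rw [hZc, hQ3] at h1
        exact absurd h1 (not_le.mpr (lt_self_pow₀ hpr.one_lt (by norm_num)))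
      have : (Q.map π).Normal := Subgroup.Normal.map hQn π (QuotientGroup.mk'_surjective Z)
      obtain ⟨y, hy, hy1⟩ := (Subgroup.bot_or_exists_ne_one _).resolve_left
        (CfsgLib.Solvable.normal_inf_center_ne_bot _ hne)
      obtain ⟨⟨q, hqQ, rfl⟩, hyc⟩ := Subgroup.mem_inf.mp hy
      have hcomm : ∀ w : S, ⁅w, q⁆ ∈ Z := fun w => by
        rw [← QuotientGroup.eq_one_iff, ← QuotientGroup.mk'_apply, map_commutatorElement,
          commutatorElement_eq_one_iff_mul_comm]
        exact Subgroup.mem_center_iff.mp hyc _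
      have hZcen : Z ≤ Subgroup.center S := by
        have : Nontrivial S := by
          rw [← Finite.one_lt_card_iff_nontrivial, h4]
          exact Nat.one_lt_pow (by norm_num) hpr.one_lt
        have h1 := hS.center_nontrivial
        refine (Subgroup.eq_of_le_of_card_ge hle ?_).ge
        rw [hZc]
        obtain ⟨a, ha⟩ := IsPGroup.iff_card.mp (hS.to_subgroup (Subgroup.center S))
        rw [← Finite.one_lt_card_iff_nontrivial, ha] at h1
        rw [ha]
        exact Nat.le_self_pow (fun h0 => by rw [h0, pow_zero] at h1; exact lt_irrefl _ h1) p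
      refine ⟨q, fun h => hy1 ((QuotientGroup.eq_one_iff q).mpr (hle h)), ?_⟩
      let φ : S →* Z := MonoidHom.mk' (fun w => ⟨⁅w, q⁆, hcomm w⟩) fun u v => Subtype.ext <| by
        show ⁅u * v, q⁆ = ⁅u, q⁆ * ⁅v, q⁆
        rw [show ⁅u * v, q⁆ = u * ⁅v, q⁆ * u⁻¹ * ⁅u, q⁆ by simp only [commutatorElement_def]; group,
          Subgroup.mem_center_iff.mp (hZcen (hcomm v)) u, mul_inv_cancel_right,
          Subgroup.mem_center_iff.mp (hZcen (hcomm v)) ⁅u, q⁆]
      have hker : φ.ker = Subgroup.centralizer ({q} : Set S) := by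
        ext w
        rw [MonoidHom.mem_ker, Subgroup.mem_centralizer_singleton_iff, ← commutatorElement_eq_one_iff_mul_comm]
        exact Subtype.ext_iff
      rw [← hker, Subgroup.index_ker, ← hZc]
      exact Subgroup.card_subgroup_dvd_card _
    · obtain ⟨z, hz, hzZ⟩ := SetLike.not_le_iff_exists.mp hle
      have hzQ : z ∉ Q := fun hzQ => hzZ ⟨⟨z, hzQ⟩, Subgroup.mem_center_iff.mpr fun w =>
        Subtype.ext (Subgroup.mem_center_iff.mp hz (w : S)), rfl⟩
      obtain ⟨q, hq⟩ : ∃ q : Q, q ∉ Subgroup.center Q := by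
        by_contra h
        push Not at h
        exact hQna ⟨⟨fun a b => Subgroup.mem_center_iff.mp (h b) a⟩⟩
      refine ⟨q, fun h => hq (Subgroup.mem_center_iff.mpr fun w => Subtype.ext (Subgroup.mem_center_iff.mp h (w : S))), ?_⟩
      -- `C(q)` contains `z` and `C_Q(q)`
      set C := Subgroup.centralizer ({(q : S)} : Set S)
      have hle2 : ((Subgroup.centralizer ({q} : Set Q)).map Q.subtype) ⊔ Subgroup.zpowers z ≤ C := by
        refine sup_le ?_ (Subgroup.zpowers_le.mpr (Subgroup.center_le_centralizer _ hz))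
        rintro _ ⟨w, hw, rfl⟩
        exact Subgroup.mem_centralizer_singleton_iff.mpr
          (congrArg Subtype.val (Subgroup.mem_centralizer_singleton_iff.mp hw) :)
      have hsupC : Q ⊔ C = ⊤ := top_le_iff.mp ((CfsgLib.Coprime.sup_zpowers_eq_top hQi hzQ).ge.trans
        (sup_le_sup_left (le_sup_right.trans hle2) Q))
      have hQC : Q.relIndex C = p := by
        rcases (Nat.dvd_prime hpr).mp (hQi ▸ Subgroup.relIndex_dvd_index_of_normal Q C) with h | h
        · refine absurd ?_ hQna
          have htopQ : Q = ⊤ := top_le_iff.mp (hsupC.ge.trans (sup_le le_rfl (Subgroup.relIndex_eq_one.mp h)))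
          rw [htopQ, Subgroup.index_top] at hQi
          exact absurd hQi.symm hpr.ne_one
        · exact h
      have h1 : C.relIndex Q = C.index := by
        have ha := Subgroup.relIndex_mul_relIndex ⊥ (Q ⊓ C) Q bot_le inf_le_left
        have hb := Subgroup.relIndex_mul_relIndex ⊥ (Q ⊓ C) C bot_le inf_le_right
        rw [Subgroup.relIndex_bot_left, Subgroup.relIndex_bot_left, Subgroup.inf_relIndex_left] at ha
        rw [Subgroup.relIndex_bot_left, Subgroup.relIndex_bot_left, Subgroup.inf_relIndex_right, hQC] at hb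
        have hc := C.card_mul_index
        rw [hcS, ← ha, ← hb] at hc
        refine Nat.eq_of_mul_eq_mul_left (Nat.mul_pos (Nat.card_pos (α := (Q ⊓ C : Subgroup S))) hpr.pos) ?_
        rw [hc]; ring
      rw [← h1]
      let φ : Q →* Subgroup.center Q := MonoidHom.mk' (fun w => ⟨⁅w, q⁆, CfsgLib.Transfer.special_commutatorElement_mem_center hQ.1 w q⟩)
        fun u v => Subtype.ext <| by
        show ⁅u * v, q⁆ = ⁅u, q⁆ * ⁅v, q⁆
        have hc := CfsgLib.Transfer.special_commutatorElement_mem_center hQ.1 v q
        rw [show ⁅u * v, q⁆ = u * ⁅v, q⁆ * u⁻¹ * ⁅u, q⁆ by simp only [commutatorElement_def]; group,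
          Subgroup.mem_center_iff.mp hc u, mul_inv_cancel_right, Subgroup.mem_center_iff.mp hc ⁅u, q⁆]
      have hker : φ.ker = C.subgroupOf Q := by
        ext w
        rw [MonoidHom.mem_ker, Subgroup.mem_subgroupOf, Subgroup.mem_centralizer_singleton_iff]
        refine Subtype.ext_iff.trans ((commutatorElement_eq_one_iff_mul_comm).trans ?_)
        exact Subtype.ext_iff
      rw [Subgroup.relIndex, ← hker, Subgroup.index_ker, ← hQ.2]
      exact Subgroup.card_subgroup_dvd_card _

end Cfsg.Agent.S3810
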