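import Cfsg.Statements.S3811
import Cfsg.Agent.Lib.Coprime.SoftSubgroup


set_option autoImplicit false
open Cfsg

namespace Cfsg.Agent.S3811



/-- Let P be a finite p-group and E an abelian subgroup of P that contains its centralizer, has index p in its normalizer, and has index at least p² in P. Then the subgroups of P containing E are totally ordered by inclusion, each proper one has index p in its normalizer (so they form the normalizer tower of E, with all steps of index p), and the i-th member of the tower above E has nilpotency class i + 1 whenever it is a proper subgroup of P. -/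
theorem result {P : Type*} [Group P] [Finite P] (p : ℕ) [Fact p.Prime] (hP : IsPGroup p P)
    (E : Subgroup P) (hEab : IsMulCommutative ↥E) (hC : Subgroup.centralizer (E : Set P) ≤ E)
    (hN : (E.subgroupOf (Subgroup.normalizer (E : Set P))).index = p) (hidx : p ^ 2 ≤ E.index) :
    (∀ K L : Subgroup P, E ≤ K → E ≤ L → K ≤ L ∨ L ≤ K) ∧
      (∀ K : Subgroup P, E ≤ K → K ≠ ⊤ → (K.subgroupOf (Subgroup.normalizer (K : Set P))).index = p) ∧
      ∀ (i : ℕ) (K : Subgroup P) [Group.IsNilpotent ↥K], E ≤ K → K ≠ ⊤ → K.index * p ^ i = E.index →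
        Group.nilpotencyClass ↥K = i + 1 := by
  open Subgroup CfsgLib.Coprime.Soft in
  have hE : IsSoft p E := ⟨hEab, hC, hN, hidx⟩
  have hT := tower_all _ P rfl hP E hE
  refine ⟨fun K L hK hL => total_of_steps hP hT.1 hK hL, hT.1, ?_⟩
  intro i K _ hEK hK hiK
  have key : ∀ n, Group.nilpotencyClass ↥K ≤ n ↔ K.lowerCentralSeries n = ⊥ := fun n => by
    rw [← Subgroup.lowerCentralSeries_eq_bot_iff_nilpotencyClass_le, ← Subgroup.top_subtype_lowerCentralSeries K n, Subgroup.map_eq_bot_iff_of_injective _ K.subtype_injective]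
  refine le_antisymm ((key _).2 (hT.2 i K hEK hK hiK)) (Nat.succ_le_of_lt (lt_of_not_ge fun hle => ?_))
  have h1 := (key i).1 hle
  have hKpos := Nat.pos_of_ne_zero (index_ne_zero_of_finite (H := K))
  have hp : 2 ≤ p := (Fact.out : p.Prime).two_le
  rcases i with _ | j
  · rw [Subgroup.lowerCentralSeries_zero] at h1
    subst h1
    have hb : E = ⊥ := le_bot_iff.1 hEK
    subst hb
    refine hK (top_le_iff.1 (le_trans (fun y _ => mem_centralizer_iff.2 fun e he => ?_) hC))
    rw [SetLike.mem_coe, mem_bot] at he
    rw [he, one_mul, mul_one]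
  · have h2 := class_lower hP hC hT.1 hEK hK h1
    have e1 := card_mul_index K
    have e2 := card_mul_index E
    rw [← hiK, ← e1] at e2
    have e3 : Nat.card K = Nat.card E * p ^ (j + 1) :=
      Nat.eq_of_mul_eq_mul_right hKpos (by rw [← e2]; ring)
    have hEpos : 0 < Nat.card E * p ^ j := Nat.mul_pos Nat.card_pos (pow_pos (by omega) j)
    rw [pow_succ, ← mul_assoc] at e3
    nlinarith

end Cfsg.Agent.S3811
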