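import Cfsg.Statements.S3815
import Mathlib.Tactic
import Cfsg.Agent.Lib.Comp.Subnormal


set_option autoImplicit false
open Cfsg

namespace Cfsg.Agent.S3815

/-- Let G be a finite group, p a prime and d ∈ G an element of order prime to p. If dg has order prime to p for every element g ∈ G of order prime to p, then d ∈ O_{p'}(G). -/
theorem result {G : Type*} [Group G] [Finite G] {p : ℕ} [Fact p.Prime]
    (d : G) (hd : (orderOf d).Coprime p)
    (h : ∀ g : G, (orderOf g).Coprime p → (orderOf (d * g)).Coprime p) :
    d ∈ Cfsg.pPrimeCore p G := by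
  let S : Subgroup G :=
    { carrier := {d | ∀ g : G, (orderOf g).Coprime p → (orderOf (d * g)).Coprime p}
      mul_mem' := fun {a b} ha hb g hg => by rw [mul_assoc]; exact ha _ (hb g hg)
      one_mem' := fun g hg => by rwa [one_mul]
      inv_mem' := fun {a} ha g hg => by
        have hpow : ∀ n : ℕ, ∀ g : G, (orderOf g).Coprime p → (orderOf (a ^ n * g)).Coprime p := by
          intro n
          induction n with
          | zero => intro g hg; simpa using hg
          | succ n ih => intro g hg; rw [pow_succ, mul_assoc]; exact ih _ (ha g hg)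
        have : a⁻¹ = a ^ (orderOf a - 1) := by
          rw [inv_eq_iff_mul_eq_one, ← pow_succ', Nat.sub_add_cancel (orderOf_pos a),
            pow_orderOf_eq_one]
        rw [this]
        exact hpow _ g hg }
  have hS : S.Normal := ⟨fun a ha c g hg => by
    have h1 := ha (c⁻¹ * g * c) (by
      have : orderOf (c⁻¹ * g * c) = orderOf g := by
        simpa using (MulEquiv.orderOf_eq (MulAut.conj c⁻¹) g)
      rw [this]; exact hg)
    have h2 : orderOf (c * a * c⁻¹ * g) = orderOf (a * (c⁻¹ * g * c)) := by
      rw [← MulEquiv.orderOf_eq (MulAut.conj c) (a * (c⁻¹ * g * c))]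
      congr 1
      simp [mul_assoc]
    rw [h2]; exact h1⟩
  have hmem : ∀ x ∈ S, (orderOf x).Coprime p := fun x hx => by
    simpa using hx 1 (by simp)
  refine CfsgLib.Comp.le_pPrimeCore_of_isSubnormal (H := S) hS.isSubnormal ?_ (fun g hg => h g hg)
  refine Nat.coprime_of_dvd fun r hr h1 h2 => ?_
  rw [Nat.prime_dvd_prime_iff_eq hr Fact.out] at h2
  subst h2
  have := Fact.mk hr
  obtain ⟨x, hx⟩ := exists_prime_orderOf_dvd_card' (G := S) r h1
  have := hmem x x.2
  rw [Subgroup.orderOf_coe, hx] at this
  exact hr.ne_one ((Nat.coprime_self r).mp this)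

end Cfsg.Agent.S3815
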