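import Cfsg.Statements.S3816
import Cfsg.Agent.Lib.Coprime.FixedGeneration
import Mathlib.GroupTheory.SemidirectProduct


set_option autoImplicit false
open Cfsg

namespace Cfsg.Agent.S3816



/-- Let p be an odd prime, H a finite solvable group of order prime to p, and x an automorphism of H of order p (so P = ⟨x⟩ has prime order p > 2 and acts coprimely on H). For h ∈ H let [h, P] be the subgroup generated by the commutators h⁻¹·xⁱ(h), and let [H, P] be the subgroup generated by all of these. Then the fixed points of x in [H, P] are generated by the fixed points of x in the subgroups [h, P], h ∈ H. -/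
theorem result {H : Type*} [Group H] [Finite H]
    [Group.IsSolvable H] {p : ℕ} [Fact p.Prime] (hp : p ≠ 2) (hcop : (Nat.card H).Coprime p)
    (x : MulAut H) (hx : orderOf x = p) :
    Subgroup.closure {c : H | ∃ h : H, ∃ i : ℕ, c = h⁻¹ * (x ^ i) h} ⊓ (x : H →* H).eqLocus (MonoidHom.id H) =
      ⨆ h : H, Subgroup.closure {c : H | ∃ i : ℕ, c = h⁻¹ * (x ^ i) h} ⊓ (x : H →* H).eqLocus (MonoidHom.id H) := by
  open scoped commutatorElement in
  open Subgroup CfsgLib.Coprime in
  let P : Subgroup (MulAut H) := zpowers x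
  let φ : P →* MulAut H := P.subtype
  have : Finite (H ⋊[φ] P) := Finite.of_equiv _ SemidirectProduct.equivProd.symm
  let ι : H →* H ⋊[φ] P := SemidirectProduct.inl
  let g : H ⋊[φ] P := SemidirectProduct.inr ⟨x, mem_zpowers x⟩
  have hact : ∀ (i : ℕ) (h : H), g ^ i * ι h * (g ^ i)⁻¹ = ι ((x ^ i) h) := by
    intro i h
    show (SemidirectProduct.inr (φ := φ) (⟨x, mem_zpowers x⟩ : P)) ^ i * _ * ((SemidirectProduct.inr (φ := φ) ⟨x, mem_zpowers x⟩) ^ i)⁻¹ = _
    rw [← map_pow, ← map_inv, ← SemidirectProduct.inl_aut]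
    rfl
  have hcomm : ∀ (i : ℕ) (h : H), ⁅(ι h)⁻¹, g ^ i⁆ = ι (h⁻¹ * (x ^ i) h) := by
    intro i h
    rw [commutatorElement_def, inv_inv, map_mul, ← hact, map_inv]
    group
  have hg : g ^ p = 1 := by
    show (SemidirectProduct.inr (φ := φ) (⟨x, mem_zpowers x⟩ : P)) ^ p = 1
    rw [← map_pow, show (⟨x, mem_zpowers x⟩ : P) ^ p = 1 from Subtype.ext (by
      rw [SubmonoidClass.coe_pow, Subgroup.coe_one, ← hx]; exact pow_orderOf_eq_one x), map_one]
  have hR : Nat.card ι.range = Nat.card H := by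
    rw [MonoidHom.range_eq_map, card_map_of_injective SemidirectProduct.inl_injective, card_top]
  have hgR : g ∈ normalizer (ι.range : Set (H ⋊[φ] P)) := by
    have : (ι.range).Normal := by
      rw [SemidirectProduct.range_inl_eq_ker_rightHom]; infer_instance
    rw [normalizer_eq_top_iff.2 this]; exact mem_top _
  have hsol : Group.IsSolvable ι.range := Group.isSolvable_of_surjective ι.rangeRestrict_surjective
  have hT := fixedGenerated (p := p) hp hg hgR hsol (hR.symm ▸ hcop)
  have hfix : ∀ c : H, ι c ∈ centralizer (zpowers g : Set (H ⋊[φ] P)) ↔ x c = c := by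
    intro c
    constructor
    · intro hc
      have h1 := mem_centralizer_iff.1 hc g (mem_zpowers g)
      have h2 := hact 1 c
      rw [pow_one, pow_one, h1, mul_inv_cancel_right] at h2
      exact (SemidirectProduct.inl_injective h2).symm
    · intro hc
      refine mem_centralizer_iff.2 fun y hy => ?_
      obtain ⟨i, rfl⟩ := mem_zpowers_iff.1 hy
      have h2 := hact 1 c
      rw [pow_one, pow_one, hc] at h2
      have h3 : Commute g (ι c) := mul_inv_eq_iff_eq_mul.1 h2
      exact (h3.zpow_left i).eq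
  have htw : ∀ h : H, (Subgroup.closure {c : H | ∃ i : ℕ, c = h⁻¹ * (x ^ i) h}).map ι = twist g (ι h) := by
    intro h
    rw [twist, MonoidHom.map_closure]
    congr 1
    ext y
    constructor
    · rintro ⟨_, ⟨i, rfl⟩, rfl⟩; exact ⟨i, (hcomm i h).symm⟩
    · rintro ⟨i, rfl⟩; exact ⟨_, ⟨i, rfl⟩, (hcomm i h).symm⟩
  refine le_antisymm (fun c hc => ?_) (iSup_le fun h => inf_le_inf_right _ (Subgroup.closure_mono ?_))
  swap
  · rintro d ⟨i, rfl⟩; exact ⟨h, i, rfl⟩
  have hcx : x c = c := hc.2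
  have h1 : ι c ∈ ⁅ι.range, zpowers g⁆ := by
    have hle : Subgroup.closure {c : H | ∃ h : H, ∃ i : ℕ, c = h⁻¹ * (x ^ i) h} ≤ (⁅ι.range, zpowers g⁆).comap ι := by
      rw [closure_le]
      rintro _ ⟨h, i, rfl⟩
      show ι (h⁻¹ * (x ^ i) h) ∈ ⁅ι.range, zpowers g⁆
      rw [← hcomm]
      exact commutator_mem_commutator (inv_mem (show ι h ∈ ι.range from ⟨h, rfl⟩)) (pow_mem (mem_zpowers g) i)
    exact hle hc.1
  have h2 : fixGen ι.range g ≤ (⨆ h : H, Subgroup.closure {c : H | ∃ i : ℕ, c = h⁻¹ * (x ^ i) h} ⊓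
      (x : H →* H).eqLocus (MonoidHom.id H)).map ι := by
    refine iSup₂_le ?_
    rintro _ ⟨h, rfl⟩ y hy
    obtain ⟨d, hd, rfl⟩ := (htw h).symm ▸ hy.1
    exact ⟨d, le_iSup (fun h : H => Subgroup.closure {c : H | ∃ i : ℕ, c = h⁻¹ * (x ^ i) h} ⊓
      (x : H →* H).eqLocus (MonoidHom.id H)) h (mem_inf.2 ⟨hd, (hfix d).1 hy.2⟩), rfl⟩
  obtain ⟨d, hd, e⟩ := h2 (hT (mem_inf.2 ⟨h1, (hfix c).2 hcx⟩))
  exact SemidirectProduct.inl_injective e ▸ hd

end Cfsg.Agent.S3816
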