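import Cfsg.Statements.S3818
import Cfsg.Agent.Lib.FixedSpace.Main

set_option autoImplicit false
open Cfsg

namespace Cfsg.Agent.S3818

/-- Let G be a finite solvable group and P a subgroup of G of prime order p > 3 whose conjugates generate G. Let V be a faithful irreducible representation of G over a field of positive characteristic, finite-dimensional. Then the subspace of V fixed by P has dimension less than half the dimension of V. -/
theorem result {G : Type*} [Group G] [Finite G] [Group.IsSolvable G]
    {p : ℕ} [Fact p.Prime] (hp : 3 < p) (P : Subgroup G) (hP : Nat.card P = p) (hgen : Subgroup.normalClosure (P : Set G) = ⊤)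
    {k : Type*} [Field k] (ℓ : ℕ) [Fact ℓ.Prime] [CharP k ℓ]
    {V : Type*} [AddCommGroup V] [Module k V] [FiniteDimensional k V]
    (ρ : Representation k G V) [ρ.IsIrreducible] (hfaith : Function.Injective ρ) :
    2 * Module.finrank k ↥(⨅ g : ↥P, LinearMap.ker (ρ (g : G) - LinearMap.id)) < Module.finrank k V := by
  have hPb : P ≠ ⊥ := fun e => by
    rw [e, Subgroup.card_bot] at hP
    exact (Fact.out : p.Prime).one_lt.ne hP
  obtain ⟨x, hxP, hx1⟩ := (P.bot_or_exists_ne_one).resolve_left hPb
  have hxp : x ^ p = 1 := orderOf_dvd_iff_pow_eq_one.1 (hP ▸ Subgroup.orderOf_dvd_natCard P hxP)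
  have hPx : Subgroup.zpowers x = P := by
    refine Subgroup.eq_of_le_of_card_ge (Subgroup.zpowers_le.2 hxP) ?_
    rw [Nat.card_zpowers, orderOf_eq_prime hxp hx1, hP]
  have hgen' : Subgroup.normalClosure ({x} : Set G) = ⊤ := by
    rw [eq_top_iff, ← hgen]
    refine Subgroup.normalClosure_le_normal ?_
    rw [← hPx]
    exact Subgroup.zpowers_le.2 (Subgroup.subset_normalClosure rfl)
  have : Nontrivial V := by
    by_contra h
    rw [not_nontrivial_iff_subsingleton] at h
    exact hx1 (hfaith (LinearMap.ext fun v => Subsingleton.elim _ _))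
  have hlt := CfsgLib.FixedSpace.two_mul_fixed_lt hp ρ hfaith
    (fun W hW => by
      rcases IsSimpleOrder.eq_bot_or_eq_top (⟨W, fun g v hv => hW g v hv⟩ : Subrepresentation ρ) with e | e
      · exact Or.inl (congrArg Subrepresentation.toSubmodule e)
      · exact Or.inr (congrArg Subrepresentation.toSubmodule e)) hxp hx1 hgen'
  refine lt_of_le_of_lt (Nat.mul_le_mul_left 2 (Submodule.finrank_mono ?_)) hlt
  exact iInf_le_of_le ⟨x, hxP⟩ le_rfl

end Cfsg.Agent.S3818
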