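import Cfsg.Statements.S3821
import Mathlib.Tactic
import Cfsg.Agent.Lib.Coprime.Sylow


set_option autoImplicit false
open Cfsg

namespace Cfsg.Agent.S3821

/-- Let A be a normal subgroup of the finite group G and H a subgroup of A. Then H is pronormal in G (H and gHg⁻¹ conjugate inside ⟨H, gHg⁻¹⟩ for every g ∈ G) if and only if H is pronormal in A and G = A · N_G(H). -/
theorem result {G : Type*} [Group G] [Finite G] (A H : Subgroup G) [A.Normal] (hHA : H ≤ A) :
    Cfsg.IsPronormal H ↔ (Cfsg.IsPronormal (H.subgroupOf A) ∧ A ⊔ Subgroup.normalizer (H : Set G) = ⊤) := by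
  open CfsgLib.Coprime in
  have hconjA : ∀ g : G, H.map (MulAut.conj g).toMonoidHom ≤ A := fun g => by
    rintro _ ⟨h, hh, rfl⟩
    exact ‹A.Normal›.conj_mem h (hHA hh) g
  constructor
  · intro hp
    constructor
    · intro g
      obtain ⟨x, hx, he⟩ := hp g
      have hxA : x ∈ A := sup_le hHA (hconjA g) hx
      refine ⟨⟨x, hxA⟩, ?_, ?_⟩
      · have e : (H.subgroupOf A ⊔ (H.subgroupOf A).map (MulAut.conj g).toMonoidHom).map A.subtype
            = H ⊔ H.map (MulAut.conj (g : G)).toMonoidHom := by
          rw [Subgroup.map_sup, CfsgLib.Coprime.map_conj_map, Subgroup.subgroupOf_map_subtype,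
            inf_eq_left.mpr hHA]
          rfl
        rw [← e] at hx
        obtain ⟨y, hy, hyx⟩ := Subgroup.mem_map.mp hx
        have : y = ⟨x, hxA⟩ := Subtype.ext hyx
        rwa [← this]
      · apply Subgroup.map_injective A.subtype_injective
        rw [CfsgLib.Coprime.map_conj_map, CfsgLib.Coprime.map_conj_map,
          Subgroup.subgroupOf_map_subtype, inf_eq_left.mpr hHA]
        exact he
    · rw [eq_top_iff]
      intro g _
      obtain ⟨x, hx, he⟩ := hp g
      have hxA : x ∈ A := sup_le hHA (hconjA g) hx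
      have hn : x⁻¹ * g ∈ Subgroup.normalizer (H : Set G) := by
        rw [CfsgLib.Coprime.mem_normalizer_iff_map_conj, ← CfsgLib.Coprime.map_conj_conj, he,
          CfsgLib.Coprime.map_conj_conj, inv_mul_cancel]
        ext y; simp
      have := mul_mem (Subgroup.mem_sup_left (T := Subgroup.normalizer (H : Set G)) hxA)
        (Subgroup.mem_sup_right (S := A) hn)
      rwa [mul_inv_cancel_left] at this
  · rintro ⟨hp, htop⟩ g
    have hg : g ∈ A ⊔ Subgroup.normalizer (H : Set G) := by rw [htop]; exact Subgroup.mem_top g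
    obtain ⟨a, ha, n, hn, rfl⟩ := Subgroup.mem_sup_of_normal_left.mp hg
    have e0 : H.map (MulAut.conj (a * n)).toMonoidHom = H.map (MulAut.conj a).toMonoidHom := by
      rw [← CfsgLib.Coprime.map_conj_conj, CfsgLib.Coprime.map_conj_of_mem_normalizer hn]
    obtain ⟨x, hx, he⟩ := hp ⟨a, ha⟩
    refine ⟨x, ?_, ?_⟩
    · rw [e0]
      have := Subgroup.mem_map_of_mem A.subtype hx
      rw [Subgroup.map_sup, CfsgLib.Coprime.map_conj_map, Subgroup.subgroupOf_map_subtype,
        inf_eq_left.mpr hHA] at this
      exact this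
    · rw [e0]
      have h2 := congrArg (Subgroup.map A.subtype) he
      rw [CfsgLib.Coprime.map_conj_map, CfsgLib.Coprime.map_conj_map,
        Subgroup.subgroupOf_map_subtype, inf_eq_left.mpr hHA] at h2
      exact h2

end Cfsg.Agent.S3821
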