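import Cfsg.Statements.S3822
import Cfsg.Agent.Lib.FixedSpace.Cover
import Cfsg.Agent.Lib.FixedFree.Cores
import Cfsg.Agent.Lib.Comp.Subnormal

set_option autoImplicit false
open Cfsg

namespace Cfsg.Agent.S3822

open Subgroup CfsgLib.FixedFree

private theorem commute_of_disjoint {G : Type*} [Group G] [Finite G] {q r : ℕ} [Fact q.Prime] [Fact r.Prime]
    (hqr : q ≠ r) {Q R : Subgroup G} (hQ : IsPGroup q Q) (hR : IsPGroup r R)
    (hQR : Q ≤ normalizer (R : Set G)) (hRQ : R ≤ normalizer (Q : Set G)) :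
    R ≤ centralizer (Q : Set G) := by
  rw [← commutator_eq_bot_iff_le_centralizer, eq_bot_iff]
  obtain ⟨i, hi⟩ := IsPGroup.iff_card.1 hQ
  obtain ⟨j, hj⟩ := IsPGroup.iff_card.1 hR
  have hd : R ⊓ Q = ⊥ := inf_eq_bot_of_coprime (by
    rw [hi, hj]
    exact ((((Nat.coprime_primes Fact.out Fact.out).2 hqr.symm).pow_left j).pow_right i))
  rw [← hd]
  refine le_inf (le_normalizer_iff_commutator_le_left.1 hQR) ?_
  rw [commutator_comm]
  exact le_normalizer_iff_commutator_le_left.1 hRQ

private theorem conj_pCoreIn {G : Type*} [Group G] {H : Subgroup G} {q : ℕ} {g u : G} (hg : g ∈ H)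
    (hu : u ∈ pCoreIn q H) : g * u * g⁻¹ ∈ pCoreIn q H := by
  obtain ⟨u, hu, rfl⟩ := hu
  exact ⟨⟨g, hg⟩ * u * ⟨g, hg⟩⁻¹, (CfsgLib.Solvable.pCore_normal q H).conj_mem u hu _, rfl⟩

private theorem le_normalizer_pCoreIn {G : Type*} [Group G] [Finite G] (q : ℕ) {A V : Subgroup G}
    (hAV : A ≤ normalizer (V : Set G)) : A ≤ normalizer (pCoreIn q V : Set G) := by
  intro g hg
  refine CfsgLib.HallHigman.mem_normalizer_of_conj_mem fun u hu => ?_
  have hc := CfsgLib.Solvable.pCore_characteristic q V
  have : (V.subgroupOf (normalizer (V : Set G))).Normal := inferInstance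
  let φ : V ≃* V := V.normalizerMonoidHom ⟨g, hAV hg⟩
  obtain ⟨u, hu, rfl⟩ := hu
  refine ⟨φ u, ?_, rfl⟩
  have h1 := Subgroup.characteristic_iff_map_eq.1 hc φ
  rw [← h1]
  exact ⟨u, hu, rfl⟩

/-- Let G be a finite group and P a subgroup of prime order p > 3. Consider the solvable subgroups A of G of the form A = ⟨P, aPa⁻¹⟩ for some a ∈ A, and let A be maximal under inclusion among them. Then for every nilpotent subgroup V of G normalized by A, the subgroup F(A)V generated by the Fitting subgroup of A and V is nilpotent. -/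
theorem result {G : Type*} [Group G] [Finite G]
    {p : ℕ} [Fact p.Prime] (hp : 3 < p) (P : Subgroup G) (hP : Nat.card P = p) (A : Subgroup G)
    (hA : Group.IsSolvable ↥A ∧ ∃ a ∈ A, A = P ⊔ P.map (MulAut.conj a).toMonoidHom)
    (hmax : ∀ B : Subgroup G, A ≤ B → Group.IsSolvable ↥B → (∃ b ∈ B, B = P ⊔ P.map (MulAut.conj b).toMonoidHom) → B = A)
    (V : Subgroup G) (hV : Group.IsNilpotent ↥V) (hAV : A ≤ Subgroup.normalizer (V : Set G)) :
    Group.IsNilpotent ↥((Cfsg.fittingSubgroup ↥A).map A.subtype ⊔ V) := by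
  classical
  obtain ⟨hAs, a, ha, hA⟩ := hA
  have hPb : P ≠ ⊥ := fun e => by
    rw [e, Subgroup.card_bot] at hP
    exact (Fact.out : p.Prime).one_lt.ne hP
  obtain ⟨x, hxP, hx1⟩ := (P.bot_or_exists_ne_one).resolve_left hPb
  have hxp : x ^ p = 1 := orderOf_dvd_iff_pow_eq_one.1 (hP ▸ Subgroup.orderOf_dvd_natCard P hxP)
  have hPx : P = zpowers x := by
    refine (eq_of_le_of_card_ge (zpowers_le.2 hxP) ?_).symm
    rw [Nat.card_zpowers, orderOf_eq_prime hxp hx1, hP]
  have hmap : ∀ b : G, P.map (MulAut.conj b).toMonoidHom = zpowers (b * x * b⁻¹) := fun b => by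
    rw [hPx, MonoidHom.map_zpowers]; rfl
  rw [hmap, hPx] at hA
  -- the cores of different primes commute
  have hcross : ∀ q r : ℕ, q.Prime → r.Prime → q ≠ r → pCoreIn r V ≤ centralizer (pCoreIn q A : Set G) := by
    intro q r hq hr hqr
    have := Fact.mk hq
    have := Fact.mk hr
    by_contra hcon
    obtain ⟨R, ⟨hRV, hAR, hmov⟩, hmin⟩ := wellFounded_lt.has_min
      {S : Subgroup G | S ≤ pCoreIn r V ∧ A ≤ normalizer (S : Set G) ∧
        ¬ S ≤ centralizer (pCoreIn q A : Set G)} ⟨_, le_rfl, le_normalizer_pCoreIn r hAV, hcon⟩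
    have hRr : IsPGroup r R := (pCoreIn_isPGroup r V).to_le hRV
    set X := A ⊔ R with hX
    have hXs : Group.IsSolvable X := by
      rw [hX, sup_comm]
      have := hRr.isNilpotent
      exact CfsgLib.Comp.isSolvable_sup hAR inferInstance hAs
    have hRn : (R.subgroupOf X).Normal :=
      normal_subgroupOf_of_le_normalizer (sup_le hAR le_normalizer)
    have hRX : R ≤ X := le_sup_right
    have hAX : A ≤ X := le_sup_left
    have hQX : pCoreIn q A ≤ X := (pCoreIn_le q A).trans hAX
    have hxA : x ∈ A := hA ▸ mem_sup_left (mem_zpowers x)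
    obtain ⟨b, hb⟩ := CfsgLib.FixedSpace.exists_generating_conj (X := X) (p := p) hp hqr
      (R := R.subgroupOf X) (hRr.of_equiv (subgroupOfEquivOfLe hRX).symm)
      (A := A.subgroupOf X) (Q := (pCoreIn q A).subgroupOf X) (fun u hu => pCoreIn_le q A hu)
      (fun g hg u hu => conj_pCoreIn (u := (u : G)) hg hu)
      ((pCoreIn_isPGroup q A).of_equiv (subgroupOfEquivOfLe hQX).symm)
      (by rw [← subgroupOf_sup hAX hRX]; exact subgroupOf_self _)
      (fun h => hmov fun g hg => mem_centralizer_iff.2 fun u hu =>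
        congrArg Subtype.val (mem_centralizer_iff.1 (h (show (⟨g, hRX hg⟩ : X) ∈ R.subgroupOf X from hg))
          ⟨u, hQX hu⟩ hu))
      (fun S hS hSR hne => by
        by_contra hc
        have hle : S.map X.subtype ≤ R := by
          rintro _ ⟨s, hs, rfl⟩
          exact hSR hs
        refine hne (le_antisymm hSR ?_)
        have heq : S.map X.subtype = R := eq_of_le_of_not_lt hle (hmin _ ⟨hle.trans hRV, fun g hg =>
          CfsgLib.HallHigman.mem_normalizer_of_conj_mem (by
            rintro _ ⟨s, hs, rfl⟩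
            exact ⟨⟨g, hAX hg⟩ * s * ⟨g, hAX hg⟩⁻¹, hS.conj_mem s hs _, rfl⟩), fun h => hc fun s hs =>
          mem_centralizer_iff.2 fun u hu => Subtype.ext
            (mem_centralizer_iff.1 (h (mem_map_of_mem X.subtype hs)) u hu)⟩)
        intro s hs
        obtain ⟨s', hs', e⟩ := (heq ▸ hs : (s : G) ∈ S.map X.subtype)
        exact Subtype.ext e ▸ hs')
      (x := ⟨x, hAX hxA⟩) (a := ⟨a, hAX ha⟩) (Subtype.ext (by simpa using hxp)) ha (by
        apply map_injective X.subtype_injective
        rw [map_subgroupOf_eq_of_le hAX, Subgroup.map_sup, MonoidHom.map_zpowers, MonoidHom.map_zpowers]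
        exact hA)
    have hXgen : X = P ⊔ P.map (MulAut.conj (b : G)).toMonoidHom := by
      have h1 := congrArg (Subgroup.map X.subtype) hb
      rw [Subgroup.map_sup, MonoidHom.map_zpowers, MonoidHom.map_zpowers, ← MonoidHom.range_eq_map,
        range_subtype] at h1
      rw [hmap, hPx]
      exact h1.symm
    have hXA : X = A := hmax X hAX hXs ⟨b, b.2, hXgen⟩
    refine hmov (commute_of_disjoint hqr (pCoreIn_isPGroup q A) hRr ((pCoreIn_le q A).trans hAR) ?_)
    exact fun g hg => CfsgLib.HallHigman.mem_normalizer_of_conj_mem fun u hu =>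
      conj_pCoreIn (hXA ▸ hRX hg) hu
  -- each pair of cores for one prime is normal
  set Y := (Cfsg.fittingSubgroup A).map A.subtype ⊔ V with hY
  have hF : (Cfsg.fittingSubgroup A).map A.subtype = ⨆ s : Nat.Primes, pCoreIn (s : ℕ) A := by
    rw [CfsgLib.Solvable.fittingSubgroup_eq_iSup_pCore, Subgroup.map_iSup]; rfl
  have hV' : V = ⨆ s : Nat.Primes, pCoreIn (s : ℕ) V := by
    conv_lhs => rw [← V.range_subtype, MonoidHom.range_eq_map,
      ← CfsgLib.Solvable.iSup_pCore_eq_top_of_isNilpotent hV, Subgroup.map_iSup]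
    rfl
  have hT : ∀ s : Nat.Primes, pCoreIn (s : ℕ) A ⊔ pCoreIn (s : ℕ) V ≤ fittingIn Y := by
    intro q
    have := Fact.mk q.2
    set T := pCoreIn (q : ℕ) A ⊔ pCoreIn (q : ℕ) V
    have hTY : T ≤ Y := by
      refine sup_le_sup ?_ (pCoreIn_le _ V)
      rw [hF]
      exact le_iSup (fun s : Nat.Primes => pCoreIn (s : ℕ) A) q
    have hTn : Y ≤ normalizer (T : Set G) := by
      rw [hY, hF, hV']
      refine sup_le (iSup_le fun s => ?_) (iSup_le fun s => ?_)
      · by_cases hsq : s = q
        · subst hsq; exact le_sup_left.trans le_normalizer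
        have := Fact.mk s.2
        have hne : (s : ℕ) ≠ q := fun e => hsq (Subtype.ext e)
        refine le_trans ?_ (centralizer_le_normalizer (T : Set G))
        rw [le_centralizer_iff]
        exact sup_le (commute_of_disjoint hne (pCoreIn_isPGroup _ A) (pCoreIn_isPGroup _ A)
            (fun g hg => CfsgLib.HallHigman.mem_normalizer_of_conj_mem fun u hu =>
              conj_pCoreIn (pCoreIn_le _ A hg) hu)
            (fun g hg => CfsgLib.HallHigman.mem_normalizer_of_conj_mem fun u hu =>
              conj_pCoreIn (pCoreIn_le _ A hg) hu))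
          (hcross s q s.2 q.2 hne)
      · by_cases hsq : s = q
        · subst hsq; exact le_sup_right.trans le_normalizer
        have := Fact.mk s.2
        have hne : (s : ℕ) ≠ q := fun e => hsq (Subtype.ext e)
        refine le_trans ?_ (centralizer_le_normalizer (T : Set G))
        rw [le_centralizer_iff]
        exact sup_le (le_centralizer_iff.1 (hcross q s q.2 s.2 hne.symm))
          (commute_of_disjoint hne (pCoreIn_isPGroup _ V) (pCoreIn_isPGroup _ V)
            (fun g hg => CfsgLib.HallHigman.mem_normalizer_of_conj_mem fun u hu =>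
              conj_pCoreIn (pCoreIn_le _ V hg) hu)
            (fun g hg => CfsgLib.HallHigman.mem_normalizer_of_conj_mem fun u hu =>
              conj_pCoreIn (pCoreIn_le _ V hg) hu))
    have hTp : IsPGroup (q : ℕ) T := IsPGroup.to_sup_of_normal_right' (pCoreIn_isPGroup _ A)
      (pCoreIn_isPGroup _ V) ((pCoreIn_le _ A).trans (le_normalizer_pCoreIn _ hAV))
    have hn : (T.subgroupOf Y).Normal := normal_subgroupOf_of_le_normalizer hTn
    have h1 : T.subgroupOf Y ≤ Cfsg.fittingSubgroup Y := CfsgLib.Solvable.le_fittingSubgroup hn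
      (hTp.of_equiv (subgroupOfEquivOfLe hTY).symm).isNilpotent
    exact fun g hg => ⟨⟨g, hTY hg⟩, h1 hg, rfl⟩
  have htop : Y ≤ fittingIn Y := by
    conv_lhs => rw [hY, hF, hV']
    exact sup_le (iSup_le fun s => le_sup_left.trans (hT s)) (iSup_le fun s => le_sup_right.trans (hT s))
  have hall : Cfsg.fittingSubgroup Y = ⊤ := by
    refine eq_top_iff.2 fun g _ => ?_
    obtain ⟨g', hg', e⟩ := htop g.2
    rwa [← Subtype.ext e]
  have hnil : Group.IsNilpotent (Cfsg.fittingSubgroup Y) := CfsgLib.Solvable.fittingSubgroup_isNilpotent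
  rw [hall] at hnil
  exact (Group.isNilpotent_congr Subgroup.topEquiv).1 hnil

end Cfsg.Agent.S3822
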