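import Cfsg.Statements.S3824
import Mathlib.Tactic
import Cfsg.Agent.Lib.Char.Burnside


set_option autoImplicit false
open Cfsg

namespace Cfsg.Agent.S3824

universe u

theorem solvable_aux (n : ℕ) : ∀ (G : Type u) [Group G] [Finite G], Nat.card G = n →
    ∀ A : Subgroup G, IsMulCommutative A → (∃ k : ℕ, A.index = 2 ^ k) → Group.IsSolvable G := by
  induction n using Nat.strong_induction_on with
  | _ n ih =>
    intro G _ _ hn A hA ⟨k, hk⟩
    subst hn
    by_cases hnorm : ∀ N : Subgroup G, N.Normal → N = ⊥ ∨ N = ⊤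
    · by_cases hA1 : A = ⊥
      · have hG : IsPGroup 2 G :=
          IsPGroup.of_card (n := k) (by rw [← hk, hA1, Subgroup.index_bot])
        have := hG.isNilpotent
        infer_instance
      obtain ⟨a, ha, ha1⟩ := SetLike.exists_of_lt (bot_lt_iff_ne_bot.mpr hA1)
      have ha1' : a ≠ 1 := fun h => ha1 (Subgroup.mem_bot.mpr h)
      have : Nontrivial G := ⟨⟨a, 1, ha1'⟩⟩
      have : IsSimpleGroup G := ⟨hnorm⟩
      have hle : A ≤ Subgroup.centralizer ({a} : Set G) := fun b hb =>
        Subgroup.mem_centralizer_singleton_iff.mpr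
          (congrArg Subtype.val (mul_comm' (⟨b, hb⟩ : A) ⟨a, ha⟩))
      obtain ⟨j, -, hj⟩ := (Nat.dvd_prime_pow Nat.prime_two).mp
        (hk ▸ Subgroup.index_dvd_of_le hle)
      have hp := CfsgLib.Char.burnside_class_prime_power 2 j Nat.prime_two a ha1' hj
      have := Fact.mk hp
      have : IsCyclic G := isCyclic_of_prime_card rfl
      exact Group.isSolvable_of_comm fun x y => mul_comm' x y
    · push Not at hnorm
      obtain ⟨N, hN, hN1, hN2⟩ := hnorm
      have hltN : Nat.card N < Nat.card G := by
        refine lt_of_le_of_ne (Subgroup.card_le_card_group N) fun h => hN2 ?_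
        exact Subgroup.eq_top_of_card_eq N h
      have hltQ : Nat.card (G ⧸ N) < Nat.card G := by
        rw [← N.card_mul_index, ← Subgroup.index_eq_card]
        exact lt_mul_of_one_lt_left (Nat.pos_of_ne_zero Subgroup.index_ne_zero_of_finite)
          (N.one_lt_card_iff_ne_bot.mpr hN1)
      have hA' : IsMulCommutative (A.subgroupOf N) :=
        ⟨⟨fun a b => Subtype.ext (Subtype.ext
          (congrArg Subtype.val (mul_comm' (⟨_, a.2⟩ : A) ⟨_, b.2⟩) :))⟩⟩
      have hQA : IsMulCommutative (A.map (QuotientGroup.mk' N)) := ⟨⟨by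
        rintro ⟨_, a, ha, rfl⟩ ⟨_, b, hb, rfl⟩
        apply Subtype.ext
        show QuotientGroup.mk' N a * QuotientGroup.mk' N b
          = QuotientGroup.mk' N b * QuotientGroup.mk' N a
        rw [← map_mul, ← map_mul]
        exact congrArg _ (congrArg Subtype.val (mul_comm' (⟨a, ha⟩ : A) ⟨b, hb⟩))⟩⟩
      have hidx : A.relIndex N ∣ A.index := by
        rw [← Subgroup.inf_relIndex_right]
        have h1 := Subgroup.relIndex_mul_relIndex (A ⊓ N) A ⊤ inf_le_left le_top
        have h2 := Subgroup.relIndex_mul_relIndex (A ⊓ N) N ⊤ inf_le_right le_top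
        have h3 : (A ⊓ N).relIndex A = N.relIndex A := Subgroup.inf_relIndex_left A N
        have h4 : N.relIndex A ∣ N.index := Subgroup.relIndex_dvd_index_of_normal N A
        rw [Subgroup.relIndex_top_right] at h1 h2
        rw [h3] at h1
        obtain ⟨c, hc⟩ := h4
        have hpos : 0 < N.relIndex A := Nat.pos_of_ne_zero fun h => by
          rw [h, zero_mul] at hc
          exact Subgroup.index_ne_zero_of_finite hc
        refine ⟨c, Nat.eq_of_mul_eq_mul_left hpos ?_⟩
        rw [h1, ← h2, hc]; ring
      have s1 : Group.IsSolvable N := ih _ hltN N rfl (A.subgroupOf N) hA'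
        (((Nat.dvd_prime_pow Nat.prime_two).mp (hk ▸ hidx)).imp fun _ h => h.2)
      have s2 : Group.IsSolvable (G ⧸ N) := ih _ hltQ (G ⧸ N) rfl (A.map (QuotientGroup.mk' N)) hQA
        (((Nat.dvd_prime_pow Nat.prime_two).mp (hk ▸ A.index_map_dvd
          (QuotientGroup.mk'_surjective N))).imp fun _ h => h.2)
      exact (Group.isSolvable_iff_subgroup_quotient N).mpr ⟨s1, s2⟩


/-- Every finite group having an abelian subgroup whose index is a power of 2 is solvable. -/
theorem result {G : Type*} [Group G] [Finite G]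
    (A : Subgroup G) (hA : IsMulCommutative A) (hidx : ∃ k : ℕ, A.index = 2 ^ k) : Group.IsSolvable G := by
  exact solvable_aux _ G rfl A hA hidx

end Cfsg.Agent.S3824
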