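import Cfsg.Statements.S3825
import Mathlib.GroupTheory.FixedPointFree
import Mathlib.Tactic


set_option autoImplicit false
open scoped commutatorElement
open Cfsg

namespace Cfsg.Agent.S3825

/-- Let U be a subgroup of a finite group H and w an involution of H normalizing U and commuting with exactly two elements of U, the identity and y. If V is a non-cyclic elementary abelian 2-subgroup of U containing y which is normal in U and invariant under w, then V is a Sylow 2-subgroup of U, V has order 4, and U/V is abelian. -/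
theorem result {H : Type*} [Group H] [Finite H] (U : Subgroup H) (w : H) (hw : orderOf w = 2)
    (hwU : w ∈ Subgroup.normalizer (U : Set H)) (y : H) (hy : y ≠ 1) (hyU : y ∈ U)
    (hfix : ∀ u ∈ U, w * u * w⁻¹ = u ↔ (u = 1 ∨ u = y))
    (V : Subgroup H) (hVU : V ≤ U) (hVn : (V.subgroupOf U).Normal) (hVw : ∀ v ∈ V, w * v * w⁻¹ ∈ V)
    (hVe : Cfsg.IsElementaryAbelian 2 V) (hVc : ¬ IsCyclic ↥V) (hyV : y ∈ V) :
    ¬ 2 ∣ V.relIndex U ∧ Nat.card ↥V = 4 ∧ ⁅U, U⁆ ≤ V := by
  have hVc0 := hVc
  classical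
  obtain ⟨hVc, hV2⟩ := hVe
  have hw2 : w * w = 1 := by rw [← sq, ← hw, pow_orderOf_eq_one]
  have hinv : w⁻¹ = w := inv_eq_of_mul_eq_one_left hw2
  have hyy : y * y = 1 := by rw [← sq]; exact hV2 y hyV
  have hcomm : ∀ a ∈ V, ∀ b ∈ V, a * b = b * a := fun a ha b hb =>
    congrArg Subtype.val (hVc.is_comm.comm ⟨a, ha⟩ ⟨b, hb⟩)
  have hVinv : ∀ a ∈ V, a⁻¹ = a := fun a ha => inv_eq_of_mul_eq_one_left (by rw [← sq]; exact hV2 a ha)
  let f : V →* V := MonoidHom.mk' (fun v => ⟨(v : H) * (w * v * w⁻¹), V.mul_mem v.2 (hVw v v.2)⟩)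
    fun a b => Subtype.ext <| by
      show (a : H) * b * (w * (a * b) * w⁻¹) = a * (w * a * w⁻¹) * (b * (w * b * w⁻¹))
      rw [show (a : H) * b * (w * (a * b) * w⁻¹) = a * (b * (w * a * w⁻¹)) * (w * b * w⁻¹) by group,
        hcomm b b.2 _ (hVw a a.2)]
      group
  have hker : ∀ v : V, v ∈ f.ker ↔ ((v : H) = 1 ∨ (v : H) = y) := fun v => by
    rw [MonoidHom.mem_ker, ← hfix v (hVU v.2), Subtype.ext_iff]
    show (v : H) * (w * v * w⁻¹) = 1 ↔ _
    rw [mul_eq_one_iff_eq_inv, hVinv _ (hVw v v.2)]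
    exact eq_comm
  have hrange : ∀ v : V, (f v : H) = 1 ∨ (f v : H) = y := fun v => by
    refine (hfix _ (hVU (f v).2)).mp ?_
    show w * ((v : H) * (w * v * w⁻¹)) * w⁻¹ = v * (w * v * w⁻¹)
    rw [show w * ((v : H) * (w * v * w⁻¹)) * w⁻¹ = w * v * w⁻¹ * ((w * w) * v * (w * w)⁻¹) by group, hw2]
    simp only [one_mul, inv_one, mul_one]
    exact hcomm _ (hVw v v.2) _ v.2
  have hkc : Nat.card f.ker ≤ 2 := by
    refine (Nat.card_le_card_of_injective (fun v : f.ker => if ((v : V) : H) = 1 then true else false)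
      fun a b hab => ?_).trans (by simp)
    rcases (hker a).mp a.2 with ha | ha <;> rcases (hker b).mp b.2 with hb | hb <;>
      simp [ha, hb, hy] at hab <;> exact Subtype.ext (Subtype.ext (ha.trans hb.symm))
  have hrc : Nat.card f.range ≤ 2 := by
    refine (Nat.card_le_card_of_injective (fun v : f.range => if ((v : V) : H) = 1 then true else false)
      fun a b hab => ?_).trans (by simp)
    obtain ⟨_, a', rfl⟩ := a
    obtain ⟨_, b', rfl⟩ := b
    rcases hrange a' with ha | ha <;> rcases hrange b' with hb | hb <;>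
      simp [ha, hb, hy] at hab <;> exact Subtype.ext (Subtype.ext (ha.trans hb.symm))
  have h4 : Nat.card V = 4 := by
    have hle : Nat.card V ≤ 4 := by
      rw [← f.ker.card_mul_index, Subgroup.index_ker]
      exact (Nat.mul_le_mul hkc hrc)
    have h2 : IsPGroup 2 V := fun v => ⟨1, Subtype.ext (by simpa using hV2 v v.2)⟩
    obtain ⟨k, hk⟩ := IsPGroup.iff_card.mp h2
    have hk2 : 2 ≤ k := by
      by_contra hlt
      exact hVc0 (isCyclic_of_card_dvd_prime (p := 2) (by
        rw [hk]; exact (pow_dvd_pow 2 (show k ≤ 1 by omega)).trans (dvd_of_eq (pow_one 2))))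
    have := Nat.pow_le_pow_right two_pos hk2
    omega
  -- the image of `f` is `⟨y⟩`
  have hy' : ∃ v : V, (f v : H) = y := by
    by_contra hno
    push Not at hno
    have hall : ∀ v : V, v ∈ f.ker := fun v => Subtype.ext ((hrange v).resolve_right (hno v))
    have h := Nat.card_le_card_of_injective (fun v : V => (⟨v, hall v⟩ : f.ker))
      fun a b hab => congrArg Subtype.val hab
    omega
  obtain ⟨v0, hv0⟩ := hy'
  -- the fixed-point-free action on `U / V`
  set N := V.subgroupOf U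
  let φ : U →* U := MonoidHom.mk' (fun u => ⟨w * u * w⁻¹, (Subgroup.mem_normalizer_iff.mp hwU u).mp u.2⟩)
    fun a b => Subtype.ext (by show w * ((a : H) * b) * w⁻¹ = _; push_cast; group)
  have hφN : N ≤ N.comap φ := fun u hu => hVw u hu
  set ψ := QuotientGroup.map N N φ hφN
  have hψ : ∀ u : U, ψ (u : U ⧸ N) = ((φ u : U) : U ⧸ N) := fun u => rfl
  have hinvol : Function.Involutive ψ := fun q => by
    obtain ⟨u, rfl⟩ := QuotientGroup.mk_surjective q
    rw [hψ, hψ]
    congr 1
    apply Subtype.ext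
    show w * (w * (u : H) * w⁻¹) * w⁻¹ = u
    rw [show w * (w * (u : H) * w⁻¹) * w⁻¹ = (w * w) * u * (w * w)⁻¹ by group, hw2]
    simp
  have hfpf : MonoidHom.FixedPointFree ψ := fun q hq => by
    obtain ⟨u, rfl⟩ := QuotientGroup.mk_surjective q
    rw [hψ, QuotientGroup.eq] at hq
    have hc : ((φ u)⁻¹ * u : H) ∈ V := hq
    set c : H := ((φ u : U) : H)⁻¹ * u with hcdef
    have hcf : w * c * w⁻¹ = c := by
      have e : w * c * w⁻¹ = c⁻¹ := by
        rw [hcdef]
        show w * ((w * (u : H) * w⁻¹)⁻¹ * u) * w⁻¹ = ((w * (u : H) * w⁻¹)⁻¹ * u)⁻¹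
        rw [show w * ((w * (u : H) * w⁻¹)⁻¹ * u) * w⁻¹ = (w * w) * (u : H)⁻¹ * (w⁻¹ * u * w⁻¹) by group, hw2,
          one_mul, mul_inv_rev, inv_inv]
        nth_rewrite 1 [hinv]
        rfl
      rw [e, hVinv c hc]
    have huN : (u : H) ∈ V := by
      rcases (hfix c (hVU hc)).mp hcf with h1 | h1
      · have hu : w * (u : H) * w⁻¹ = u := by
          rw [hcdef, inv_mul_eq_one] at h1; exact h1
        rcases (hfix _ u.2).mp hu with h2 | h2 <;> rw [h2]
        · exact V.one_mem
        · exact hyV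
      · have hu : w * ((u : H) * v0) * w⁻¹ = u * v0 := by
          have hwu : w * (u : H) * w⁻¹ = u * y := by
            rw [hcdef, inv_mul_eq_iff_eq_mul] at h1
            have h1' : (u : H) = w * (u : H) * w⁻¹ * y := h1
            nth_rewrite 2 [h1']
            rw [mul_assoc (w * (u : H) * w⁻¹) y y, hyy, mul_one]
          have hwv : w * (v0 : H) * w⁻¹ = y * v0 := by
            rw [← hv0]
            show _ = (v0 : H) * (w * v0 * w⁻¹) * v0
            rw [hcomm v0 v0.2 _ (hVw v0 v0.2), mul_assoc (w * (v0 : H) * w⁻¹) v0 v0, ← sq, hV2 v0 v0.2, mul_one]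
          rw [show w * ((u : H) * v0) * w⁻¹ = (w * u * w⁻¹) * (w * v0 * w⁻¹) by group, hwu, hwv,
            show (u : H) * y * (y * v0) = u * (y * y) * v0 by group, hyy, mul_one]
        have : (u : H) * v0 ∈ V := by
          rcases (hfix _ (U.mul_mem u.2 (hVU v0.2))).mp hu with h2 | h2 <;> rw [h2]
          · exact V.one_mem
          · exact hyV
        have := V.mul_mem this (V.inv_mem v0.2)
        rwa [mul_inv_cancel_right] at this
    exact (QuotientGroup.eq_one_iff u).mpr huN
  refine ⟨?_, h4, ?_⟩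
  · rw [Subgroup.relIndex, Subgroup.index_eq_card]
    exact (Nat.not_even_iff_odd.mpr (hfpf.odd_card_of_involutive hinvol)) ∘ even_iff_two_dvd.mpr
  · rw [Subgroup.commutator_le]
    intro a ha b hb
    have h := hfpf.commute_all_of_involutive hinvol ((⟨a, ha⟩ : U) : U ⧸ N) ((⟨b, hb⟩ : U) : U ⧸ N)
    rw [← commutatorElement_eq_one_iff_commute] at h
    have h2 : (⁅(⟨a, ha⟩ : U), ⟨b, hb⟩⁆ : U) ∈ N := by
      rw [← QuotientGroup.eq_one_iff, ← QuotientGroup.mk'_apply, map_commutatorElement]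
      exact h
    exact h2

end Cfsg.Agent.S3825
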