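import Cfsg.Statements.S3835
import Cfsg.Agent.Lib.Amalgam.QdBasic
import Cfsg.Agent.Lib.Classical.SLGen


set_option autoImplicit false
open Cfsg

namespace Cfsg.Agent.S3835

open Subgroup Matrix CfsgLib.Amalgam.Qd CfsgLib.Classical
open scoped MatrixGroups

/-- The affine action. -/
noncomputable def affPerm (p : ℕ) [Fact p.Prime] : ↥(Cfsg.qdOver (ZMod p)) →* Equiv.Perm (Fin 2 → ZMod p) :=
  let act : ↥(Cfsg.qdOver (ZMod p)) → Function.End (Fin 2 → ZMod p) := fun g x =>
    (el_surjective g).choose + ((el_surjective g).choose_spec.choose : Matrix (Fin 2) (Fin 2) (ZMod p)).mulVec x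
  have he : ∀ t M x, act (el t M) x = t + (M : Matrix (Fin 2) (Fin 2) (ZMod p)).mulVec x := fun t M x => by
    obtain ⟨h1, h2⟩ := el_inj (el_surjective (el t M)).choose_spec.choose_spec
    exact congrArg₂ (fun (u : Fin 2 → ZMod p) (N : SL(2, ZMod p)) => u + (N : Matrix (Fin 2) (Fin 2) (ZMod p)).mulVec x) h1.symm h2.symm
  have hm : ∀ g h x, act (g * h) x = act g (act h x) := fun g h x => by
    obtain ⟨s, M, rfl⟩ := el_surjective g
    obtain ⟨t, N, rfl⟩ := el_surjective h
    rw [el_mul, he, he, he, Matrix.SpecialLinearGroup.coe_mul, Matrix.mulVec_add, Matrix.mulVec_mulVec,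
      add_assoc]
  have h1 : ∀ x, act 1 x = x := fun x => by
    rw [← el_one, he]; simp
  { toFun := fun g => ⟨act g, act g⁻¹, fun x => by rw [← hm, inv_mul_cancel, h1],
      fun x => by rw [← hm, mul_inv_cancel, h1]⟩
    map_one' := Equiv.ext h1
    map_mul' := fun g h => Equiv.ext (hm g h) }

theorem affPerm_el (p : ℕ) [Fact p.Prime] (t : Fin 2 → ZMod p) (M : SL(2, ZMod p)) (x : Fin 2 → ZMod p) :
    affPerm p (el t M) x = t + (M : Matrix (Fin 2) (Fin 2) (ZMod p)).mulVec x := by
  obtain ⟨h1, h2⟩ := el_inj (el_surjective (el t M)).choose_spec.choose_spec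
  show (el_surjective (el t M)).choose +
    ((el_surjective (el t M)).choose_spec.choose : Matrix (Fin 2) (Fin 2) (ZMod p)).mulVec x = _
  exact congrArg₂ (fun (u : Fin 2 → ZMod p) (N : SL(2, ZMod p)) => u + (N : Matrix (Fin 2) (Fin 2) (ZMod p)).mulVec x) h1.symm h2.symm

theorem affPerm_injective (p : ℕ) [Fact p.Prime] : Function.Injective (affPerm p) := by
  rw [injective_iff_map_eq_one]
  intro g hg
  obtain ⟨t, M, rfl⟩ := el_surjective g
  have h : ∀ x, t + (M : Matrix (Fin 2) (Fin 2) (ZMod p)).mulVec x = x := fun x => by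
    rw [← affPerm_el, hg]; rfl
  have ht : t = 0 := by simpa using h 0
  subst ht
  have hM : M = 1 := by
    refine Matrix.SpecialLinearGroup.ext _ _ fun i j => ?_
    have := congrFun (h (Pi.single j 1)) i
    simpa [Matrix.mulVec_single, Matrix.one_apply, Pi.single_apply] using this
  rw [hM, el_one]

theorem sign_one {p : ℕ} [Fact p.Prime] (hp : p ≠ 2) (g : ↥(Cfsg.qdOver (ZMod p))) :
    Equiv.Perm.sign (affPerm p g) = 1 := by
  set φ := Equiv.Perm.sign.comp (affPerm p) with hφ
  have hord : ∀ g, g ^ p = 1 → φ g = 1 := fun g hg => by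
    rcases Int.units_eq_one_or (φ g) with h | h
    · exact h
    · have := congrArg φ hg
      rw [map_pow, map_one, h, Odd.neg_one_pow ((Fact.out : p.Prime).odd_of_ne_two hp)] at this
      exact absurd this (by decide)
  obtain ⟨t, M, rfl⟩ := el_surjective g
  have e : el t M = el t 1 * el 0 M := by rw [el_mul]; simp
  show φ (el t M) = 1
  rw [e, map_mul, hord (el t 1) (by rw [el_pow, show p • t = 0 by funext i; simp, el_one]), one_mul]
  let lif : SL(2, ZMod p) →* ↥(Cfsg.qdOver (ZMod p)) :=
    MonoidHom.mk' (el 0) fun A B => by rw [el_mul]; simp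
  have htop : (φ.comp lif).ker = ⊤ := sl_transvection_induction _ fun i j hij c => by
    rw [MonoidHom.mem_ker, MonoidHom.comp_apply]
    refine hord _ ?_
    rw [← map_pow]
    suffices h : Matrix.SpecialLinearGroup.transvection hij c ^ p = 1 by rw [h, map_one]
    have hk : ∀ k : ℕ, (Matrix.SpecialLinearGroup.transvection hij c ^ k : SL(2, ZMod p)) =
        Matrix.SpecialLinearGroup.transvection hij ((k : ZMod p) * c) := by
      intro k
      induction k with
      | zero => refine Subtype.ext ?_; simp [Matrix.transvection]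
      | succ k ih =>
        rw [pow_succ, ih]
        refine Subtype.ext ?_
        rw [Matrix.SpecialLinearGroup.coe_mul]
        show Matrix.transvection i j _ * Matrix.transvection i j _ = Matrix.transvection i j _
        rw [Matrix.transvection_mul_transvection_same _ _ hij, Nat.cast_succ, add_mul, one_mul]
    rw [hk, ZMod.natCast_self, zero_mul]
    refine Subtype.ext ?_
    simp [Matrix.transvection]
  exact (MonoidHom.mem_ker).1 (htop.ge (Subgroup.mem_top M) : M ∈ (φ.comp lif).ker)

theorem commute_of_small {n p : ℕ} [Fact p.Prime] (hn : n < p ^ 2) {P : Subgroup (Equiv.Perm (Fin n))}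
    (hP : IsPGroup p P) (a b : P) : a * b = b * a := by
  refine Subtype.ext (Equiv.ext fun x => ?_)
  haveI := hP.isNilpotent
  let S := MulAction.stabilizer P x
  have hle : S.index ≤ n := by
    rw [MulAction.index_stabilizer]
    exact (Set.ncard_le_ncard (Set.subset_univ _)).trans (by simp)
  obtain ⟨k, hk⟩ := hP.index S
  have hk1 : k ≤ 1 := by
    by_contra h
    have : p ^ 2 ≤ p ^ k := Nat.pow_le_pow_right (Fact.out : p.Prime).pos (by omega)
    omega
  haveI hSn : S.Normal := by
    rcases Nat.le_one_iff_eq_zero_or_eq_one.1 hk1 with h | h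
    · rw [h, pow_zero, Subgroup.index_eq_one] at hk
      rw [hk]; infer_instance
    · obtain ⟨m, hm⟩ := IsPGroup.iff_card.1 hP
      refine Subgroup.normal_of_index_eq_minFac_card ?_
      rw [hk, h, pow_one, hm]
      rcases Nat.eq_zero_or_pos m with hm0 | hm0
      · have hd := S.index_dvd_card
        rw [hk, h, pow_one, hm, hm0, pow_zero, Nat.dvd_one] at hd
        exact absurd hd (Fact.out : p.Prime).ne_one
      · rw [(Nat.pow_minFac hm0.ne'), (Fact.out : p.Prime).minFac_eq]
  have hcyc : IsCyclic (P ⧸ S) := by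
    rcases Nat.le_one_iff_eq_zero_or_eq_one.1 hk1 with h | h
    · have : Subsingleton (P ⧸ S) :=
        (Nat.card_eq_one_iff_unique.1 (by rw [← Subgroup.index_eq_card, hk, h, pow_zero])).1
      infer_instance
    · exact isCyclic_of_prime_card (p := p) (by rw [← Subgroup.index_eq_card, hk, h, pow_one])
  have hc : a⁻¹ * b⁻¹ * a * b ∈ S := by
    rw [← QuotientGroup.eq_one_iff]
    letI := hcyc.commGroup
    simp [mul_comm, mul_left_comm]
  have hfix : (a⁻¹ * b⁻¹ * a * b) • x = x := hc
  calc (a * b : P).1 x = ((b * a) * (a⁻¹ * b⁻¹ * a * b)).1 x := by congr 2; group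
    _ = (b * a : P).1 ((a⁻¹ * b⁻¹ * a * b : P).1 x) := rfl
    _ = (b * a : P).1 x := congrArg _ hfix


/-- Let p be an odd prime and n a natural number. The alternating group of degree n has a subgroup isomorphic to Qd(p) (the natural semidirect product of an elementary abelian group of order p² by SL₂(p)) if and only if n ≥ p²; and if n < p² then Qd(p) is not even involved in it. -/
theorem result {p : ℕ} [Fact p.Prime] (hp : p ≠ 2) (n : ℕ) : ((∃ H : Subgroup (alternatingGroup (Fin n)), Nonempty (↥H ≃* ↥(Cfsg.qd p))) ↔ p ^ 2 ≤ n) ∧ (n < p ^ 2 → ¬ Cfsg.Involves ↥(Cfsg.qd p) ↥(alternatingGroup (Fin n))) := by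
  classical
  have hnot : n < p ^ 2 → ¬ Cfsg.Involves ↥(Cfsg.qd p) ↥(alternatingGroup (Fin n)) := by
    intro hn hinv
    obtain ⟨K, R, hR, ⟨e⟩⟩ := hinv
    let f : K →* ↥(Cfsg.qdOver (ZMod p)) :=
      (show K ⧸ R.subgroupOf K →* ↥(Cfsg.qdOver (ZMod p)) from e.toMonoidHom).comp (QuotientGroup.mk' _)
    have hf : Function.Surjective f := e.surjective.comp (QuotientGroup.mk'_surjective _)
    obtain ⟨Q, hQ⟩ := exists_sylow_syl (F := ZMod p) (p := p)
    obtain ⟨P, hP⟩ := Sylow.mapSurjective_surjective hf p Q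
    have hPQ : (P : Subgroup K).map f = syl (ZMod p) := by
      rw [← Sylow.coe_mapSurjective hf P, hP, hQ]
    let j : K →* Equiv.Perm (Fin n) := (alternatingGroup (Fin n)).subtype.comp K.subtype
    have hj : Function.Injective j := Subtype.val_injective.comp Subtype.val_injective
    obtain ⟨u, hu, hu'⟩ := (hPQ.ge (tri (0 : ZMod p) 0 1).2)
    obtain ⟨v, hv, hv'⟩ := (hPQ.ge (tri (0 : ZMod p) 1 0).2)
    have huv : u * v = v * u := hj (by
      rw [map_mul, map_mul]
      exact congrArg Subtype.val (commute_of_small hn (P.2.map j) ⟨j u, Subgroup.mem_map_of_mem j hu⟩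
        ⟨j v, Subgroup.mem_map_of_mem j hv⟩))
    have hh : tri (0 : ZMod p) 0 1 * tri 0 1 0 = tri 0 1 0 * tri 0 0 1 :=
      Subtype.ext (by rw [Subgroup.coe_mul, Subgroup.coe_mul, ← hu', ← hv', ← map_mul, ← map_mul, huv])
    rw [tri_mul, tri_mul] at hh
    have := (tri_inj hh).1
    simp at this
  refine ⟨⟨fun ⟨H, ⟨eH⟩⟩ => ?_, fun hn => ?_⟩, hnot⟩
  · by_contra h
    refine hnot (Nat.lt_of_not_le h) ?_
    refine ⟨H, ⊥, Subgroup.normal_subgroupOf_of_le_normalizer (by rw [Subgroup.normalizer_eq_top]; exact le_top), ⟨?_⟩⟩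
    exact ((QuotientGroup.quotientMulEquivOfEq (Subgroup.bot_subgroupOf H)).trans
      QuotientGroup.quotientBot).trans eH
  · have hcard : Fintype.card (Fin 2 → ZMod p) ≤ Fintype.card (Fin n) := by simpa using hn
    obtain ⟨ι⟩ := Function.Embedding.nonempty_of_card_le hcard
    let F : ↥(Cfsg.qdOver (ZMod p)) →* Equiv.Perm (Fin n) :=
      (Equiv.Perm.viaEmbeddingHom ι).comp (affPerm p)
    have hF : Function.Injective F :=
      (Equiv.Perm.viaEmbeddingHom_injective ι).comp (affPerm_injective p)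
    have hs : ∀ g, F g ∈ alternatingGroup (Fin n) := fun g => by
      rw [Equiv.Perm.mem_alternatingGroup]
      show Equiv.Perm.sign (Equiv.Perm.viaEmbedding (affPerm p g) ι) = 1
      rw [Equiv.Perm.viaEmbedding, Equiv.Perm.sign_extendDomain, sign_one hp]
    let F' : ↥(Cfsg.qdOver (ZMod p)) →* alternatingGroup (Fin n) := F.codRestrict _ hs
    have hF' : Function.Injective F' := fun a b h => hF (congrArg Subtype.val h)
    exact ⟨F'.range, ⟨((MonoidHom.ofInjective hF').symm : _ ≃* ↥(Cfsg.qdOver (ZMod p)))⟩⟩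

end Cfsg.Agent.S3835
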