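import Cfsg.Statements.S3836
import Mathlib.Tactic
import Cfsg.Agent.Lib.Comp.Subnormal


set_option autoImplicit false
open Cfsg

namespace Cfsg.Agent.S3836

/-- Let G be a finite group that is p-stable in the normalizer form: for every p-subgroup Q and every x ∈ N_G(Q) with [Q, x, x] = 1, the image of x in N_G(Q)/C_G(Q) lies in O_p(N_G(Q)/C_G(Q)). Then every subgroup of G is p-stable in the same sense. -/
theorem result {G : Type*} [Group G] [Finite G] {p : ℕ} [Fact p.Prime] (hst : Cfsg.IsNormalizerPStable p G) (H : Subgroup G) : Cfsg.IsNormalizerPStable p ↥H := by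
  intro P hP g hg hquad
  let P' : Subgroup G := P.map H.subtype
  have hg' : (g : G) ∈ Subgroup.normalizer (P' : Set G) := by
    rw [Subgroup.mem_normalizer_iff]
    intro y
    constructor
    · rintro ⟨z, hz, rfl⟩
      exact ⟨g * z * g⁻¹, (Subgroup.mem_normalizer_iff.mp hg z).mp hz, rfl⟩
    · rintro ⟨z, hz, hzy⟩
      refine ⟨g⁻¹ * z * g, (Subgroup.mem_normalizer_iff''.mp hg z).mp hz, ?_⟩
      have hzy' : (z : G) = g * y * (g : G)⁻¹ := hzy
      show ((g⁻¹ * z * g : H) : G) = y
      rw [Subgroup.coe_mul, Subgroup.coe_mul, Subgroup.coe_inv, hzy']; group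
  have hquad' : ⁅⁅P', Subgroup.zpowers (g : G)⁆, Subgroup.zpowers (g : G)⁆ = ⊥ := by
    have := congrArg (Subgroup.map H.subtype) hquad
    rwa [Subgroup.map_commutator, Subgroup.map_commutator, MonoidHom.map_zpowers,
      Subgroup.map_bot] at this
  have hG := hst P' (hP.map _) g hg' hquad'
  let N' : Subgroup G := Subgroup.normalizer (P' : Set G)
  let C' : Subgroup N' := (Subgroup.centralizer (P' : Set G)).subgroupOf N'
  let N : Subgroup H := Subgroup.normalizer (P : Set H)
  let C : Subgroup N := (Subgroup.centralizer (P : Set H)).subgroupOf N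
  have hmem : ∀ n : N, ((n : H) : G) ∈ N' := fun n => by
    rw [Subgroup.mem_normalizer_iff]
    intro y
    constructor
    · rintro ⟨z, hz, rfl⟩
      exact ⟨n * z * (n : H)⁻¹, (Subgroup.mem_normalizer_iff.mp n.2 z).mp hz, rfl⟩
    · rintro ⟨z, hz, hzy⟩
      refine ⟨(n : H)⁻¹ * z * n, (Subgroup.mem_normalizer_iff''.mp n.2 z).mp hz, ?_⟩
      have hzy' : (z : G) = (n : H) * y * ((n : H) : G)⁻¹ := hzy
      show (((n : H)⁻¹ * z * n : H) : G) = y
      rw [Subgroup.coe_mul, Subgroup.coe_mul, Subgroup.coe_inv, hzy']; group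
  let j : N →* N' :=
    { toFun := fun n => ⟨((n : H) : G), hmem n⟩
      map_one' := rfl
      map_mul' := fun _ _ => rfl }
  have hker : C = C'.comap j := by
    ext n
    simp only [C, C', Subgroup.mem_subgroupOf, Subgroup.mem_comap, Subgroup.mem_centralizer_iff]
    constructor
    · intro h y hy
      obtain ⟨z, hz, rfl⟩ := hy
      exact congrArg Subtype.val (h z hz)
    · intro h z hz
      exact Subtype.ext (h z ⟨z, hz, rfl⟩)
  let f : (N ⧸ C) →* (N' ⧸ C') := QuotientGroup.map C C' j hker.le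
  have hf : Function.Injective f := by
    rw [← MonoidHom.ker_eq_bot_iff, eq_bot_iff]
    intro q hq
    obtain ⟨n, rfl⟩ := QuotientGroup.mk'_surjective C q
    have h1 : j n ∈ C' := (QuotientGroup.eq_one_iff (j n)).mp hq
    exact Subgroup.mem_bot.mpr ((QuotientGroup.eq_one_iff n).mpr (hker ▸ h1))
  let T : Subgroup (N ⧸ C) := (Cfsg.pCore p (N' ⧸ C')).comap f
  have hTn : T.Normal := Subgroup.Normal.comap (Subgroup.sSup_normal _ fun _ h => h.1) f
  have hTp : IsPGroup p T :=
    (CfsgLib.Comp.isPGroup_pCore p (N' ⧸ C')).comap_of_injective f hf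
  exact CfsgLib.Comp.le_pCore_of_isSubnormal hTn.isSubnormal hTp hG

end Cfsg.Agent.S3836
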