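import Cfsg.Statements.S3838
import Cfsg.Agent.Lib.Transfer.Tate
import Cfsg.Agent.Lib.Complement.Reduction


set_option autoImplicit false
open scoped commutatorElement
open Cfsg

namespace Cfsg.Agent.S3838

/-- Let G be a finite group with Sylow p-subgroup P such that N_G(P) has a normal p-complement. Then N_G(Q) has a normal p-complement for every subgroup Q with [P, P] ≤ Q ≤ Φ(P). -/
theorem result {G : Type*} [Group G] [Finite G] {p : ℕ} [Fact p.Prime] (P : Sylow p G) (hN : Cfsg.HasNormalPComplement p ↥(Subgroup.normalizer ((P : Subgroup G) : Set G))) (Q : Subgroup G) (h1 : (commutator ↥(P : Subgroup G)).map (P : Subgroup G).subtype ≤ Q) (h2 : Q ≤ (frattini ↥(P : Subgroup G)).map (P : Subgroup G).subtype) : Cfsg.HasNormalPComplement p ↥(Subgroup.normalizer (Q : Set G)) := by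
  have hpr := (Fact.out : p.Prime)
  have hQP : Q ≤ (P : Subgroup G) := h2.trans (Subgroup.map_subtype_le _)
  have hPcomm : ∀ x ∈ (P : Subgroup G), ∀ y ∈ (P : Subgroup G), ⁅x, y⁆ ∈ Q := fun x hx y hy =>
    h1 ⟨⁅(⟨x, hx⟩ : (P : Subgroup G)), ⟨y, hy⟩⁆,
      Subgroup.commutator_mem_commutator (Subgroup.mem_top _) (Subgroup.mem_top _), rfl⟩
  set H := Subgroup.normalizer (Q : Set G)
  have hPH : (P : Subgroup G) ≤ H := fun x hx => Subgroup.mem_normalizer_iff.mpr fun q => by
    constructor
    · intro hq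
      have h := Q.mul_mem (hPcomm x hx q (hQP hq)) hq
      rwa [commutatorElement_def, inv_mul_cancel_right] at h
    · intro hq
      have h := Q.mul_mem (hPcomm x⁻¹ ((P : Subgroup G).inv_mem hx) _ (hQP hq)) hq
      rw [commutatorElement_def, inv_inv, inv_mul_cancel_right] at h
      simpa [mul_assoc] using h
  set Q' := Q.subgroupOf H
  have hQn : Q'.Normal := Subgroup.normal_in_normalizer
  set P' := P.subtype hPH
  set π := QuotientGroup.mk' Q'
  have hsurj := QuotientGroup.mk'_surjective Q'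
  have hQ'P' : Q' ≤ (P' : Subgroup H) := by
    rw [Sylow.coe_subtype]; exact fun x hx => hQP hx
  let Pb : Sylow p (H ⧸ Q') := P'.mapSurjective hsurj
  have hPb : (Pb : Subgroup (H ⧸ Q')) = (P' : Subgroup H).map π := rfl
  obtain ⟨M0, hM0, hc0⟩ := (CfsgLib.Transfer.hasNormalPComplement_iff_exists_isComplement'
    (P.subtype (Subgroup.le_normalizer (H := (P : Subgroup G))))).mp hN
  have hq : Cfsg.HasNormalPComplement p (H ⧸ Q') := by
    refine CfsgLib.Transfer.hasNormalPComplement_of_normalizer_le_centralizer Pb fun a ha => ?_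
    obtain ⟨h, rfl⟩ := hsurj a
    have hcm : ((P' : Subgroup H).map π).comap π = P' := by
      rw [Subgroup.comap_map_eq, QuotientGroup.ker_mk', sup_eq_left.mpr hQ'P']
    have hhN : (h : G) ∈ Subgroup.normalizer ((P : Subgroup G) : Set G) := by
      rw [Subgroup.mem_normalizer_iff]
      intro x
      have key : ∀ y : H, π y ∈ (Pb : Subgroup (H ⧸ Q')) ↔ (y : G) ∈ (P : Subgroup G) := fun y => by
        rw [hPb, ← Subgroup.mem_comap, hcm, Sylow.coe_subtype, Subgroup.mem_subgroupOf]
      constructor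
      · intro hx
        have := (Subgroup.mem_normalizer_iff.mp ha (π ⟨x, hPH hx⟩)).mp ((key ⟨x, hPH hx⟩).mpr hx)
        rw [← map_inv, ← map_mul, ← map_mul] at this
        simpa using (key _).mp this
      · intro hx
        have hxH : x ∈ H := by
          have := H.mul_mem (H.mul_mem (H.inv_mem h.2) (hPH hx)) h.2
          simpa [mul_assoc] using this
        refine (key ⟨x, hxH⟩).mp ((Subgroup.mem_normalizer_iff.mp ha (π ⟨x, hxH⟩)).mpr ?_)
        rw [← map_inv, ← map_mul, ← map_mul]
        exact (key _).mpr hx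
    obtain ⟨⟨⟨m, hm⟩, ⟨u, hu⟩⟩, hmu, -⟩ := hc0.existsUnique ⟨h, hhN⟩
    simp only at hmu
    rw [SetLike.mem_coe, Sylow.coe_subtype, Subgroup.mem_subgroupOf] at hu
    have hmc : ∀ x ∈ (P : Subgroup G), (m : G) * x = x * m := fun x hx => by
      have hxN : x ∈ Subgroup.normalizer ((P : Subgroup G) : Set G) := Subgroup.le_normalizer hx
      have hPN : ((P : Subgroup G).subgroupOf (Subgroup.normalizer ((P : Subgroup G) : Set G))).Normal :=
        Subgroup.normal_in_normalizer
      have h := Subgroup.commute_of_normal_of_disjoint _ _ hM0 hPN (by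
        rw [← Sylow.coe_subtype]; exact hc0.disjoint) m ⟨x, hxN⟩ hm hx
      exact congrArg Subtype.val h.eq
    rw [Subgroup.mem_centralizer_iff]
    rintro _ ⟨x, hx, rfl⟩
    rw [SetLike.mem_coe, Sylow.coe_subtype, Subgroup.mem_subgroupOf] at hx
    rw [← commutatorElement_eq_one_iff_mul_comm, ← map_commutatorElement]
    refine (QuotientGroup.eq_one_iff _).mpr (Subgroup.mem_subgroupOf.mpr ?_)
    show ⁅(x : G), (h : G)⁆ ∈ Q
    have e : (h : G) = m * u := (congrArg Subtype.val hmu).symm
    have e2 : ⁅(x : G), (h : G)⁆ = (m : G) * ⁅(x : G), (u : G)⁆ * (m : G)⁻¹ := by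
      rw [e, commutatorElement_def, commutatorElement_def, ← mul_assoc (x : G), ← hmc x hx]
      group
    rw [e2]
    have hcu := hPcomm x hx u hu
    rw [hmc _ (hQP hcu), mul_inv_cancel_right]
    exact hcu
  obtain ⟨Kb, hKbn, hKbc, hKbq⟩ := CfsgLib.Transfer.hasNormalPComplement_iff_exists.mp hq
  set K := Kb.comap π
  have hKn : K.Normal := hKbn.comap π
  have hKP : K.subgroupOf (P' : Subgroup H) ≤ frattini (P' : Subgroup H) := by
    intro x hx
    have hxQ : (x : H) ∈ Q' := by
      rw [← QuotientGroup.eq_one_iff]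
      have h3 : π (x : H) ∈ Kb ⊓ (Pb : Subgroup (H ⧸ Q')) := ⟨hx, ⟨x, x.2, rfl⟩⟩
      obtain ⟨n, hn⟩ := Pb.2.exists_card_eq
      have h4 : Kb ⊓ (Pb : Subgroup (H ⧸ Q')) = ⊥ := Subgroup.card_eq_one.mp
        (Nat.eq_one_of_dvd_coprimes (hKbc.pow_right n) (Subgroup.card_dvd_of_le inf_le_left)
          (hn ▸ Subgroup.card_dvd_of_le inf_le_right))
      rwa [h4, Subgroup.mem_bot] at h3
    obtain ⟨y, hy, hye⟩ := h2 hxQ
    let e : (P : Subgroup G) ≃* (P' : Subgroup H) :=
      (Subgroup.subgroupOfEquivOfLe hPH).symm.trans (MulEquiv.subgroupCongr (Sylow.coe_subtype ..).symm)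
    have hxy : x = e y := Subtype.ext (Subtype.ext hye.symm)
    rw [hxy]
    have hle := frattini_le_comap_frattini_of_surjective (φ := e.toMonoidHom) e.surjective hy
    exact hle
  have hKc := CfsgLib.Transfer.tate P' K hKP
  have := CfsgLib.Transfer.pResidual_characteristic (G := K) (p := p)
  set M := (Cfsg.pResidual p K).map K.subtype
  have hMn : M.Normal := ConjAct.normal_of_characteristic_of_normal
  refine CfsgLib.Transfer.hasNormalPComplement_iff_exists.mpr ⟨M, hMn, ?_, ?_⟩
  · rw [Subgroup.card_map_of_injective K.subtype_injective]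
    exact CfsgLib.Transfer.hasNormalPComplement_iff_coprime_pResidual.mp hKc
  · have := CfsgLib.Transfer.pResidual_normal (G := K) (p := p)
    obtain ⟨a, ha⟩ := IsPGroup.iff_card.mp
      (CfsgLib.Transfer.isPGroup_quotient_of_pResidual_le (G := K) (p := p) (le_refl (Cfsg.pResidual p K)))
    obtain ⟨b, hb⟩ := IsPGroup.iff_card.mp hKbq
    refine IsPGroup.of_card (n := a + b) ?_
    rw [← Subgroup.index_eq_card, Subgroup.index_map_subtype, Subgroup.index_eq_card, ha,
      Subgroup.index_comap_of_surjective _ hsurj, Subgroup.index_eq_card, hb, pow_add]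

end Cfsg.Agent.S3838
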