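import Cfsg.Statements.S3839
import Cfsg.Agent.Lib.Transfer.Frobenius
import Cfsg.Agent.Lib.OddLocal.Stab
import Cfsg.Agent.Lib.Coprime.PiClassBound
import Cfsg.Agent.Lib.PLocal.Sylow
import Cfsg.Agent.Lib.Comp.Normalize
import Cfsg.Agent.Lib.Coprime.FixedGeneration


set_option autoImplicit false
open Cfsg

namespace Cfsg.Agent.S3839

open Subgroup in
theorem centralizes {G : Type*} [Group G] [Finite G] {p : ℕ} [Fact p.Prime] (S : Sylow p G) (D : Subgroup G)
    (hD : Cfsg.IsStronglyClosed D (S : Subgroup G))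
    (hyp : ∀ U : Subgroup G, U ≤ D → D ⊓ centralizer (U : Set G) ≤ U →
      Cfsg.HasNormalPComplement p ↥(normalizer (U : Set G))) :
    ∀ (m : ℕ) (Q : Subgroup G), IsPGroup p Q → Nat.card G < Nat.card Q + m →
      ∀ t ∈ normalizer (Q : Set G), (orderOf t).Coprime p → t ∈ centralizer (Q : Set G) := by
  intro m
  induction m with
  | zero =>
    intro Q _ hlt
    have := card_le_card_group Q
    omega
  | succ m ih =>
    -- for a fully normalized subgroup
    suffices key : ∀ Q : Subgroup G, IsPGroup p Q → Nat.card G < Nat.card Q + (m + 1) → Q ≤ (S : Subgroup G) →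
        (∃ T : Sylow p ↥(normalizer (Q : Set G)), (T : Subgroup ↥(normalizer (Q : Set G))).map (normalizer (Q : Set G)).subtype ≤ (S : Subgroup G)) →
        ∀ t ∈ normalizer (Q : Set G), (orderOf t).Coprime p → t ∈ centralizer (Q : Set G) by
      intro Q hQ hlt t ht htp
      set N := normalizer (Q : Set G) with hN
      obtain ⟨T, hQT⟩ := (hQ.comap_of_injective N.subtype N.subtype_injective).exists_le_sylow
      set T0 := (T : Subgroup N).map N.subtype with hT0
      obtain ⟨S', hS'⟩ := (T.2.map N.subtype).exists_le_sylow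
      obtain ⟨g, hg⟩ := MulAction.exists_smul_eq G S' S
      have hS : (S' : Subgroup G).map (MulAut.conj g).toMonoidHom = (S : Subgroup G) := by
        rw [← hg]; rfl
      set c := (MulAut.conj g).toMonoidHom with hc
      have hQT0 : Q ≤ T0 := fun x hx => ⟨⟨x, le_normalizer hx⟩, hQT hx, rfl⟩
      have hNQ' : normalizer ((Q.map c : Subgroup G) : Set G) = N.map c := by
        exact (map_normalizer_eq_of_bijective (f := c) Q (MulAut.conj g).bijective).symm
      have h1 := key (Q.map c) (hQ.map c) (by rwa [card_map_of_injective (MulAut.conj g).injective])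
        (hS ▸ map_mono (hQT0.trans hS')) (by
          obtain ⟨T', hT'⟩ := (((T.2.map N.subtype).map c).comap_of_injective
            (normalizer ((Q.map c : Subgroup G) : Set G)).subtype (Subgroup.subtype_injective _)).exists_le_sylow
          refine ⟨T', ?_⟩
          have hle : (T0.map c) ≤ (T' : Subgroup _).map (normalizer ((Q.map c : Subgroup G) : Set G)).subtype :=
            fun x hx => ⟨⟨x, hNQ' ▸ map_mono (map_subtype_le _) hx⟩, hT' hx, rfl⟩
          have hcard : Nat.card T' = Nat.card T := by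
            rw [T'.card_eq_multiplicity, T.card_eq_multiplicity,
              show Nat.card (normalizer ((Q.map c : Subgroup G) : Set G)) = Nat.card N by
                rw [hNQ', card_map_of_injective (MulAut.conj g).injective]]
          have e : T0.map c = (T' : Subgroup _).map (normalizer ((Q.map c : Subgroup G) : Set G)).subtype := by
            refine eq_of_le_of_card_ge hle ?_
            rw [card_map_of_injective (Subgroup.subtype_injective _), card_map_of_injective (MulAut.conj g).injective,
              hT0, card_map_of_injective N.subtype_injective]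
            exact hcard.le
          rw [← e, ← hS]
          exact map_mono hS') (c t) (hNQ' ▸ mem_map_of_mem c ht) (by
            rwa [show orderOf (c t) = orderOf t from orderOf_injective c (MulAut.conj g).injective t])
      refine mem_centralizer_iff.2 fun x hx => (MulAut.conj g).injective ?_
      rw [map_mul, map_mul]
      exact mem_centralizer_iff.1 h1 _ (mem_map_of_mem c hx)
    intro Q hQ hlt hQS hT t ht htp
    set N := normalizer (Q : Set G) with hN
    obtain ⟨T, hTS⟩ := hT
    set U := Q ⊓ D with hU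
    have hDS : ∀ s ∈ (S : Subgroup G), ∀ d ∈ D, s * d * s⁻¹ ∈ D := fun s hs d hd =>
      hD.2 d hd s (mul_mem (mul_mem hs (hD.1 hd)) (inv_mem hs))
    have hNU : ∀ n ∈ N, ∀ u ∈ U, n * u * n⁻¹ ∈ U := fun n hn u hu =>
      ⟨(mem_normalizer_iff.1 hn u).1 hu.1, hD.2 u hu.2 n (hQS ((mem_normalizer_iff.1 hn u).1 hu.1))⟩
    -- the stabilizer of the series
    let K : Subgroup G :=
      { carrier := {k | k ∈ N ∧ (∀ u ∈ U, k * u * k⁻¹ = u) ∧ ∀ q ∈ Q, k * q * k⁻¹ * q⁻¹ ∈ U}
        one_mem' := ⟨one_mem N, fun u _ => by simp, fun q _ => by simp⟩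
        mul_mem' := fun {a b} ha hb => ⟨mul_mem ha.1 hb.1,
          fun u hu => by rw [show a * b * u * (a * b)⁻¹ = a * (b * u * b⁻¹) * a⁻¹ by group, hb.2.1 u hu, ha.2.1 u hu],
          fun q hq => by
            rw [show a * b * q * (a * b)⁻¹ * q⁻¹ = a * (b * q * b⁻¹ * q⁻¹) * a⁻¹ * (a * q * a⁻¹ * q⁻¹) by group]
            exact mul_mem (hNU a ha.1 _ (hb.2.2 q hq)) (ha.2.2 q hq)⟩
        inv_mem' := fun {a} ha => ⟨inv_mem ha.1,
          fun u hu => by
            conv_lhs => rw [← ha.2.1 u hu]
            group,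
          fun q hq => by
            rw [show a⁻¹ * q * a⁻¹⁻¹ * q⁻¹ = a⁻¹ * (a * q * a⁻¹ * q⁻¹)⁻¹ * a⁻¹⁻¹ by group]
            exact hNU a⁻¹ (inv_mem ha.1) _ (inv_mem (ha.2.2 q hq))⟩ }
    have hCK : ∀ k ∈ centralizer (Q : Set G), k ∈ K := fun k hk =>
      have e : ∀ q ∈ Q, k * q * k⁻¹ = q := fun q hq => by
        rw [← mem_centralizer_iff.1 hk q hq, mul_inv_cancel_right]
      ⟨centralizer_le_normalizer _ hk, fun u hu => e u hu.1, fun q hq => by rw [e q hq, mul_inv_cancel]; exact one_mem U⟩
    -- `p'`-elements of `K` centralize `Q`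
    have hK' : ∀ k ∈ K, (orderOf k).Coprime p → k ∈ centralizer (Q : Set G) := fun k hk hkp => by
      refine mem_centralizer_iff.2 fun q hq => ?_
      have hU' : (orderOf k).Coprime (Nat.card U) := by
        obtain ⟨j, hj⟩ := IsPGroup.iff_card.1 (hQ.to_le (inf_le_left : U ≤ Q))
        rw [hj]; exact hkp.pow_right j
      have e := CfsgLib.OddLocal.conj_eq_of_stabilizes U k q (hk.2.2 q hq) (hk.2.1 _ (hk.2.2 q hq)) hU'
      exact (mul_inv_eq_iff_eq_mul.1 e).symm
    refine hK' t ?_ htp
    -- Frattini argument inside `N`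
    set K' := K.subgroupOf N with hK'def
    have : K'.Normal := ⟨fun k hk n => by
      refine ⟨((n * k * n⁻¹ : N)).2, fun u hu => ?_, fun q hq => ?_⟩
      · show (n : G) * k * (n : G)⁻¹ * u * ((n : G) * k * (n : G)⁻¹)⁻¹ = u
        have h' := hNU (n : G)⁻¹ (inv_mem n.2) u hu
        rw [inv_inv] at h'
        calc (n : G) * k * (n : G)⁻¹ * u * ((n : G) * k * (n : G)⁻¹)⁻¹
            = (n : G) * ((k : G) * ((n : G)⁻¹ * u * n) * (k : G)⁻¹) * (n : G)⁻¹ := by group
          _ = _ := by rw [show (k : G) * ((n : G)⁻¹ * u * n) * (k : G)⁻¹ = (n : G)⁻¹ * u * n from hk.2.1 _ h']; group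
      · show (n : G) * k * (n : G)⁻¹ * q * ((n : G) * k * (n : G)⁻¹)⁻¹ * q⁻¹ ∈ U
        rw [show (n : G) * k * (n : G)⁻¹ * q * ((n : G) * k * (n : G)⁻¹)⁻¹ * q⁻¹ =
          (n : G) * ((k : G) * ((n : G)⁻¹ * q * n) * (k : G)⁻¹ * ((n : G)⁻¹ * q * n)⁻¹) * (n : G)⁻¹ by group]
        exact hNU n n.2 _ (hk.2.2 _ ((mem_normalizer_iff''.1 n.2 q).1 hq))⟩
    set R := D ⊓ ((T : Subgroup N) ⊓ K').map N.subtype with hR
    by_cases hRQ : R ≤ Q
    · -- then `U` is self-centralizing in `D`
      have hDn : ∀ q ∈ Q, q ∈ normalizer ((D ⊓ centralizer (U : Set G) : Subgroup G) : Set G) := fun q hq => by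
        refine mem_normalizer_fintype fun d hd => ?_
        exact ⟨hDS q (hQS hq) d hd.1, (mem_normalizer_iff.1 (CfsgLib.Coprime.mem_normalizer_centralizer U
          (mem_normalizer_fintype fun u hu => hNU q (le_normalizer hq) u hu)) d).1 hd.2⟩
      set J := D ⊓ centralizer (U : Set G) with hJ
      have hJU : J ≤ U := by
        suffices hJQ : J ≤ Q from le_inf hJQ inf_le_left
        by_contra hJQ
        set R2 := J ⊔ Q with hR2
        have hR2S : R2 ≤ (S : Subgroup G) := sup_le (inf_le_left.trans hD.1) hQS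
        have hlt2 : Q < R2 := lt_of_le_of_ne le_sup_right fun e => hJQ (e ▸ le_sup_left)
        have hR2p : IsPGroup p R2 := S.2.to_le hR2S
        have := hR2p.isNilpotent
        have h1 := Group.normalizerCondition_of_isNilpotent (Q.subgroupOf R2)
          (lt_of_le_of_ne le_top fun e => hlt2.not_ge (subgroupOf_eq_top.1 e))
        obtain ⟨y, hy, hyQ⟩ := SetLike.exists_of_lt h1
        obtain ⟨j, hj, q, hq, hjq⟩ := (CfsgLib.Coprime.mem_sup_of_le_normalizer (fun q hq => hDn q hq)).1 y.2
        have hyN : (y : G) ∈ N := mem_normalizer_fintype fun z hz =>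
          (mem_normalizer_iff.1 hy ⟨z, hlt2.le hz⟩).1 hz
        have hjN : j ∈ N := by
          rw [show j = (y : G) * q⁻¹ by rw [← hjq]; group]
          exact mul_mem hyN (le_normalizer (inv_mem hq))
        have hjK : j ∈ K := ⟨hjN, fun u hu => by
            rw [← mem_centralizer_iff.1 hj.2 u hu, mul_inv_cancel_right],
          fun z hz => mem_inf.2 ⟨mul_mem ((mem_normalizer_iff.1 hjN z).1 hz) (inv_mem hz), by
            rw [show j * z * j⁻¹ * z⁻¹ = j * (z * j⁻¹ * z⁻¹) by group]
            exact mul_mem (hj.1 : j ∈ D) (hDS z (hQS hz) _ (inv_mem (hj.1 : j ∈ D)))⟩⟩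
        -- `j` lies in the Sylow subgroup
        have hjT : (⟨j, hjN⟩ : N) ∈ (T : Subgroup N) := by
          have hTmax : (T : Subgroup N) = (S : Subgroup G).subgroupOf N := by
            refine (T.3 (S.2.comap_of_injective N.subtype N.subtype_injective) fun z hz => ?_).symm
            exact hTS ⟨z, hz, rfl⟩
          rw [hTmax]
          exact hD.1 hj.1
        refine hyQ ?_
        show (y : G) ∈ Q
        rw [← hjq]
        exact mul_mem (hRQ ⟨hj.1, ⟨⟨j, hjN⟩, ⟨hjT, hjK⟩, rfl⟩⟩) hq
      have h2 := CfsgLib.Transfer.hasNormalPComplement_iff_frobenius.1 (hyp U inf_le_right hJU)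
      set M := normalizer (U : Set G) with hM
      have hNM : N ≤ M := fun n hn => mem_normalizer_fintype fun u hu => hNU n hn u hu
      have hQM : Q ≤ M := le_normalizer.trans hNM
      have h3 := h2 (Q.subgroupOf M) (hQ.comap_of_injective M.subtype M.subtype_injective) ⟨t, hNM ht⟩
        (mem_normalizer_iff.2 fun z => mem_normalizer_iff.1 ht (z : G)) (by rwa [Subgroup.orderOf_mk])
      -- so `t` lies in `K`
      have hc : t ∈ centralizer (Q : Set G) := mem_centralizer_iff.2 fun q hq =>
        congrArg Subtype.val (mem_centralizer_iff.1 h3 ⟨q, hQM hq⟩ hq)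
      exact hCK t hc
    · -- a larger subgroup
      set R' := R ⊔ Q with hR'
      have hRS : R ≤ (S : Subgroup G) := inf_le_left.trans hD.1
      have hR'p : IsPGroup p R' := S.2.to_le (sup_le hRS hQS)
      have hlt' : Nat.card Q < Nat.card R' := lt_of_le_of_ne (card_le_of_le le_sup_right) fun e =>
        hRQ (le_sup_left.trans (eq_of_le_of_card_ge le_sup_right e.ge).ge)
      obtain ⟨c, hc, n, hn, hcn⟩ := CfsgLib.PLocal.frattini_mul T K' (⟨t, ht⟩ : N)
      obtain ⟨v, hv, w, hw, hvw, ⟨b, hb⟩, hwp⟩ := CfsgLib.Coprime.exists_split_bound n (Fact.out : p.Prime)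
      -- the `p`-part lies in `K`
      have hnK : n ^ orderOf t ∈ K' := by
        have e : n = c⁻¹ * ⟨t, ht⟩ := by rw [hcn]; group
        rw [← QuotientGroup.eq_one_iff, QuotientGroup.mk_pow, e, QuotientGroup.mk_mul, (QuotientGroup.eq_one_iff c⁻¹).2 (inv_mem hc),
          one_mul, ← QuotientGroup.mk_pow, ← Subgroup.orderOf_mk t ht, pow_orderOf_eq_one, QuotientGroup.mk_one]
      have hvK : v ∈ K' := by
        obtain ⟨i, hi⟩ := mem_zpowers_iff.1 hv
        have h1 : v ^ orderOf t ∈ K' := by
          rw [← hi, ← zpow_natCast, ← zpow_mul, mul_comm, zpow_mul, zpow_natCast]; exact zpow_mem hnK i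
        have hco : (orderOf t).Coprime (orderOf v) := hb ▸ htp.pow_right b
        obtain ⟨k, hk⟩ := exists_pow_eq_self_of_coprime hco
        rw [← hk]; exact pow_mem h1 k
      have hwn : w ∈ normalizer ((((T : Subgroup N) ⊓ K' : Subgroup N)) : Set N) := zpowers_le.2 hn hw
      have hwR : (w : G) ∈ normalizer (R : Set G) := mem_normalizer_fintype fun d hd => by
        obtain ⟨d', hd', hdd⟩ := hd.2
        have h1 : w * d' * w⁻¹ ∈ (T : Subgroup N) ⊓ K' := (mem_normalizer_iff.1 hwn d').1 hd'
        have h2 : (w : G) * d * (w : G)⁻¹ ∈ ((T : Subgroup N) ⊓ K').map N.subtype := ⟨_, h1, by rw [← hdd]; simp⟩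
        exact ⟨hD.2 d hd.1 w (hTS (map_mono inf_le_left h2)), h2⟩
      have hwR' : (w : G) ∈ normalizer (R' : Set G) :=
        CfsgLib.Comp.le_normalizer_sup (M := zpowers (w : G)) (zpowers_le.2 hwR) (zpowers_le.2 w.2) (mem_zpowers _)
      have hwC := ih R' hR'p (by omega) w hwR'
        (((Fact.out : p.Prime).coprime_iff_not_dvd.2 (by rwa [Subgroup.orderOf_coe])).symm)
      have hwK : (w : G) ∈ K := hCK _ (mem_centralizer_iff.2 fun q hq => mem_centralizer_iff.1 hwC q (mem_sup_right hq))
      have e : t = (c : G) * ((v : G) * (w : G)) := by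
        have := congrArg Subtype.val hcn
        rw [hvw] at this
        simpa [mul_assoc] using this
      rw [e]
      exact mul_mem hc (mul_mem hvK hwK)


/-- A Frobenius normal p-complement criterion relative to a strongly closed subgroup. Let G be a finite group, S a Sylow p-subgroup and D a subgroup of S strongly closed in S with respect to G. Then G has a normal p-complement if and only if N_G(U) has a normal p-complement for every subgroup U of D with C_D(U) ≤ U. -/
theorem result {G : Type*} [Group G] [Finite G] {p : ℕ} [Fact p.Prime] (S : Sylow p G) (D : Subgroup G) (hD : Cfsg.IsStronglyClosed D (S : Subgroup G)) : Cfsg.HasNormalPComplement p G ↔ ∀ U : Subgroup G, U ≤ D → D ⊓ Subgroup.centralizer (U : Set G) ≤ U → Cfsg.HasNormalPComplement p ↥(Subgroup.normalizer (U : Set G)) := by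
  refine ⟨fun h U _ _ => CfsgLib.Transfer.hasNormalPComplement_subgroup _ h, fun hyp => ?_⟩
  rw [CfsgLib.Transfer.hasNormalPComplement_iff_frobenius]
  exact fun Q hQ => centralizes S D hD hyp (Nat.card G + 1) Q hQ (by omega)

end Cfsg.Agent.S3839
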