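import Cfsg.Statements.S3857
import Cfsg.Agent.Lib.Solvable.FrobeniusComplement
import Cfsg.Agent.Lib.Solvable.FixedPointFree
import Cfsg.Agent.Lib.Solvable.HallHigman
import Cfsg.Agent.Lib.Solvable.MinNormal
import Cfsg.Agent.Lib.Solvable.Fitting
import Mathlib.GroupTheory.SpecificGroups.ZGroup
import Mathlib.GroupTheory.SchurZassenhaus


set_option autoImplicit false
open Cfsg

namespace Cfsg.Agent.S3857

open Subgroup

universe u

/-- No elements of the two classes of prime orders commute. -/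
def Disc (X : Type u) [Group X] (A : Set ℕ) : Prop :=
  ∀ x y : X, (orderOf x).Prime → (orderOf y).Prime → orderOf x ∈ A → orderOf y ∉ A → Commute x y → False

theorem disc_compl {X : Type u} [Group X] {A : Set ℕ} (h : Disc X A) : Disc X Aᶜ :=
  fun x y hx hy hxA hyA hc => h y x hy hx (not_not.1 hyA) hxA hc.symm

theorem disc_quotient {X : Type u} [Group X] [Finite X] {A : Set ℕ}
    (h : Disc X A) (N : Subgroup X) [N.Normal] : Disc (X ⧸ N) A := by
  intro x y hx hy hxA hyA hc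
  have hco : (orderOf x).Coprime (orderOf y) := (Nat.coprime_primes hx hy).2 fun e => hyA (e ▸ hxA)
  obtain ⟨g, hg⟩ := QuotientGroup.mk'_surjective N (x * y)
  have hd : orderOf x * orderOf y ∣ orderOf g := by
    rw [← hc.orderOf_mul_eq_mul_orderOf_of_coprime hco, ← hg]
    exact orderOf_map_dvd _ g
  obtain ⟨c, hc'⟩ := hd
  have hpos := orderOf_pos g
  have hc0 : c ≠ 0 := by rintro rfl; simp [hc'] at hpos
  have h1 : orderOf (g ^ (orderOf y * c)) = orderOf x := by
    rw [orderOf_pow' _ (mul_ne_zero hy.ne_zero hc0), hc', show orderOf x * orderOf y * c = orderOf x * (orderOf y * c) by ring,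
      Nat.gcd_mul_left_left, Nat.mul_div_cancel _ (Nat.mul_pos hy.pos (Nat.pos_of_ne_zero hc0))]
  have h2 : orderOf (g ^ (orderOf x * c)) = orderOf y := by
    rw [orderOf_pow' _ (mul_ne_zero hx.ne_zero hc0), hc', show orderOf x * orderOf y * c = orderOf y * (orderOf x * c) by ring,
      Nat.gcd_mul_left_left, Nat.mul_div_cancel _ (Nat.mul_pos hx.pos (Nat.pos_of_ne_zero hc0))]
  exact h _ _ (h1 ▸ hx) (h2 ▸ hy) (h1 ▸ hxA) (h2 ▸ hyA) ((Commute.refl g).pow_pow _ _)

theorem disc_subgroup {X : Type u} [Group X] {A : Set ℕ} (h : Disc X A) (K : Subgroup X) : Disc K A :=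
  fun x y hx hy hxA hyA hc => h x y (by rwa [orderOf_coe]) (by rwa [orderOf_coe])
    (by rwa [orderOf_coe]) (by rwa [orderOf_coe]) (congrArg Subtype.val hc)

/-- All prime divisors of `n` lie in `A`. -/
def Pi (A : Set ℕ) (n : ℕ) : Prop := ∀ q : ℕ, q.Prime → q ∣ n → q ∈ A

theorem exists_prime_power_order {X : Type u} [Group X] [Finite X] {x : X} (hx : x ≠ 1) :
    ∃ q m, q.Prime ∧ q ∣ orderOf x ∧ orderOf (x ^ m) = q := by
  obtain ⟨q, hq, hd⟩ := Nat.exists_prime_and_dvd (fun e => hx (orderOf_eq_one_iff.1 e))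
  exact ⟨q, _, hq, hd, orderOf_pow_orderOf_div (orderOf_pos x).ne' hd⟩

/-- A normal `A`-Hall subgroup with the disconnection property is a Frobenius kernel. -/
theorem frob_of_pi {X : Type u} [Group X] [Finite X] {A : Set ℕ} (hD : Disc X A) (N : Subgroup X)
    [N.Normal] (hN : N ≠ ⊥) (hNt : N ≠ ⊤) (h1 : Pi A (Nat.card N)) (h2 : Pi Aᶜ N.index) :
    ∃ C : Subgroup X, Cfsg.IsFrobeniusComplement C ∧ Cfsg.frobeniusKernel C = (N : Set X) ∧
      Nat.card C = N.index ∧ N ⊓ C = ⊥ := by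
  have hco : (Nat.card N).Coprime N.index :=
    Nat.coprime_of_dvd fun q hq ha hb => h2 q hq hb (h1 q hq ha)
  obtain ⟨C, hC⟩ := Subgroup.exists_right_complement'_of_coprime hco
  have hcard : Nat.card C = N.index := (hC.symm.index_eq_card).symm
  have hC1 : C ≠ ⊥ := fun h => hNt (by
    rw [h] at hC
    exact Subgroup.isComplement'_bot_right.1 hC)
  have hF : Cfsg.IsFrobeniusComplement C := by
    rw [CfsgLib.Solvable.isFrobeniusComplement_iff_fpf hC hN hC1]
    intro h hh hh1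
    rw [eq_bot_iff]
    rintro k ⟨hk, hkc⟩
    by_contra hk1
    rw [mem_bot] at hk1
    have hkh : Commute k h := mem_centralizer_singleton_iff.1 hkc
    obtain ⟨a, i, ha, had, hai⟩ := exists_prime_power_order hk1
    obtain ⟨b, j, hb, hbd, hbj⟩ := exists_prime_power_order hh1
    refine hD (k ^ i) (h ^ j) (hai ▸ ha) (hbj ▸ hb) (hai ▸ h1 a ha (had.trans ?_))
      (hbj ▸ h2 b hb (hbd.trans ?_)) (hkh.pow_pow i j)
    · exact orderOf_mk k hk ▸ orderOf_dvd_natCard _
    · exact hcard ▸ orderOf_mk h hh ▸ orderOf_dvd_natCard _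
  refine ⟨C, hF, ?_, hcard, hC.disjoint.eq_bot⟩
  refine (Set.eq_of_subset_of_ncard_le (fun x hx => ?_) ?_ (Set.toFinite _)).symm
  · by_cases hx1 : x = 1
    · exact Or.inl hx1
    refine Or.inr fun g hg => hx1 ?_
    have hgx := CfsgLib.Solvable.mem_conj_smul.1 hg
    have hN' : g⁻¹ * x * g ∈ N := by simpa using Normal.conj_mem inferInstance x hx g⁻¹
    have := Subgroup.disjoint_def.1 hC.disjoint hN' hgx
    simpa [mul_assoc, inv_mul_eq_one, eq_comm] using congrArg (fun t => g * t * g⁻¹) this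
  · rw [← Nat.card_coe_set_eq, ← Nat.card_coe_set_eq, CfsgLib.Solvable.card_kernel_of_isFrobeniusComplement hF,
      hC.index_eq_card]
    rfl

theorem pi_sup {X : Type u} [Group X] [Finite X] {A : Set ℕ} (M N : Subgroup X) [N.Normal]
    (hM : Pi A (Nat.card M)) (hN : Pi A (Nat.card N)) : Pi A (Nat.card (M ⊔ N : Subgroup X)) := by
  intro q hq hd
  have h2 : Nat.card (M ⊔ N : Subgroup X) = N.relIndex (M ⊔ N) * Nat.card N := by
    rw [mul_comm, ← Subgroup.relIndex_bot_left, ← Subgroup.relIndex_bot_left,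
      Subgroup.relIndex_mul_relIndex ⊥ N (M ⊔ N) bot_le le_sup_right]
  rw [Subgroup.relIndex_sup_right] at h2
  rw [h2] at hd
  rcases hq.dvd_mul.1 hd with h | h
  · exact hM q hq (h.trans (Subgroup.relIndex_dvd_card N M))
  · exact hN q hq h

theorem exists_pi_max {X : Type u} [Group X] [Finite X] (A : Set ℕ) :
    ∃ H : Subgroup X, H.Normal ∧ Pi A (Nat.card H) ∧
      ∀ M : Subgroup X, M.Normal → Pi A (Nat.card M) → M ≤ H := by
  obtain ⟨H, hH⟩ := (Set.toFinite {H : Subgroup X | H.Normal ∧ Pi A (Nat.card H)}).exists_maximal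
    ⟨⊥, inferInstance, fun q hq hd => absurd (by simpa using hd) hq.ne_one⟩
  refine ⟨H, hH.prop.1, hH.prop.2, fun M hM hMA => ?_⟩
  have := hH.prop.1
  exact le_sup_left.trans (hH.le_of_ge ⟨inferInstance, pi_sup M H hMA hH.prop.2⟩ le_sup_right)

theorem exists_pgroup_normal {X : Type u} [Group X] [Finite X] [Group.IsSolvable X] [Nontrivial X] :
    ∃ N : Subgroup X, N.Normal ∧ N ≠ ⊥ ∧ ∃ p, p.Prime ∧ p ∣ Nat.card X ∧ Pi {p} (Nat.card N) := by
  obtain ⟨N, hN, hne, hmin⟩ := CfsgLib.Solvable.exists_minimal_normal (G := X)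
  obtain ⟨p, hp, hNp, -⟩ := CfsgLib.Solvable.exists_isPGroup_of_minimal_normal hne hmin
  have : Fact p.Prime := ⟨hp⟩
  obtain ⟨k, hk⟩ := IsPGroup.iff_card.1 hNp
  have hk0 : k ≠ 0 := fun h => hne (Subgroup.card_eq_one.1 (by rw [hk, h, pow_zero]))
  exact ⟨N, hN, hne, p, hp, (dvd_pow_self p hk0).trans (hk ▸ N.card_subgroup_dvd_card),
    fun q hq hd => (Nat.prime_dvd_prime_iff_eq hq hp).1 (hq.dvd_of_dvd_pow (hk ▸ hd))⟩

theorem gk_aux {G : Type u} [Group G] [Finite G] [Group.IsSolvable G] {A : Set ℕ} (hD : Disc G A)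
    {b : ℕ} (hbA : b ∉ A) (hb : b.Prime) (hbd : b ∣ Nat.card G)
    (N₀ : Subgroup G) [N₀.Normal] (hN₀ : N₀ ≠ ⊥) (hN₀A : Pi A (Nat.card N₀)) :
    (∃ C : Subgroup G, Cfsg.IsFrobeniusComplement C) ∨
    (∃ (H K : Subgroup G) (_ : H.Normal), K.Normal ∧ H < K ∧
      (∃ C : Subgroup ↥K, Cfsg.IsFrobeniusComplement C ∧ Cfsg.frobeniusKernel C = (H.subgroupOf K : Set ↥K)) ∧
      (∃ C : Subgroup (G ⧸ H), Cfsg.IsFrobeniusComplement C ∧ Cfsg.frobeniusKernel C = (K.map (QuotientGroup.mk' H) : Set (G ⧸ H)))) := by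
  obtain ⟨H, hHn, hHA, hHmax⟩ := exists_pi_max (X := G) A
  have hH1 : H ≠ ⊥ := fun h => hN₀ (le_bot_iff.1 (h ▸ hHmax N₀ inferInstance hN₀A))
  have hH2 : H ≠ ⊤ := fun h => hbA (hHA b hb (by rw [h, card_top]; exact hbd))
  have hQnt : Nontrivial (G ⧸ H) := QuotientGroup.nontrivial_iff.2 hH2
  have hQsol : Group.IsSolvable (G ⧸ H) := inferInstance
  have hDQ := disc_quotient hD H
  -- normal `A`-subgroups of the quotient are trivial
  have hO : ∀ M : Subgroup (G ⧸ H), M.Normal → Pi A (Nat.card M) → M = ⊥ := by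
    intro M hM hMA
    have hc : M.comap (QuotientGroup.mk' H) ≤ H := hHmax _ inferInstance fun q hq hd => by
      have h1 : Nat.card (M.comap (QuotientGroup.mk' H)) = Nat.card H * Nat.card M :=
        QuotientGroup.card_preimage_mk H (M : Set (G ⧸ H))
      rw [h1] at hd
      rcases hq.dvd_mul.1 hd with h | h
      · exact hHA q hq h
      · exact hMA q hq h
    rw [eq_bot_iff]
    rw [← map_comap_eq_self_of_surjective (QuotientGroup.mk'_surjective H) M]
    exact (map_mono hc).trans (QuotientGroup.map_mk'_self H).le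
  obtain ⟨Kq, hKn, hKA, hKmax⟩ := exists_pi_max (X := G ⧸ H) Aᶜ
  have hKne : Kq ≠ ⊥ := by
    obtain ⟨M, hM, hMne, p, hp, -, hMp⟩ := exists_pgroup_normal (X := G ⧸ H)
    intro h
    by_cases hpA : p ∈ A
    · exact hMne (hO M hM fun q hq hd => (Set.mem_singleton_iff.1 (hMp q hq hd)) ▸ hpA)
    · exact hMne (le_bot_iff.1 (h ▸ hKmax M hM fun q hq hd => (Set.mem_singleton_iff.1 (hMp q hq hd)).symm ▸ hpA))
  set K := Kq.comap (QuotientGroup.mk' H) with hK
  have hHK : H ≤ K := fun h hh => by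
    show QuotientGroup.mk' H h ∈ Kq
    rw [QuotientGroup.mk'_apply, (QuotientGroup.eq_one_iff h).2 hh]; exact one_mem Kq
  have hKmap : K.map (QuotientGroup.mk' H) = Kq :=
    map_comap_eq_self_of_surjective (QuotientGroup.mk'_surjective H) Kq
  by_cases hKt : Kq = ⊤
  · left
    obtain ⟨C, hC, -⟩ := frob_of_pi hD H hH1 hH2 hHA (by
      rw [index_eq_card]; rw [hKt, card_top] at hKA; exact hKA)
    exact ⟨C, hC⟩
  right
  -- the complement of `H` in `K`
  have hcK : Nat.card (H.subgroupOf K) = Nat.card H := Nat.card_congr (subgroupOfEquivOfLe hHK).toEquiv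
  have hiK : (H.subgroupOf K).index = Nat.card Kq := by
    have h1 := (H.subgroupOf K).card_mul_index
    have h2 : Nat.card K = Nat.card H * Nat.card Kq := QuotientGroup.card_preimage_mk H (Kq : Set (G ⧸ H))
    rw [hcK, h2] at h1
    exact Nat.eq_of_mul_eq_mul_left Nat.card_pos h1
  obtain ⟨C, hC, hCker, hCcard, hCdis⟩ := frob_of_pi (disc_subgroup hD K) (H.subgroupOf K)
    (fun h => hH1 (Subgroup.card_eq_one.1 (by rw [← hcK, h, card_bot])))
    (fun h => hKne (Subgroup.card_eq_one.1 (by rw [← hiK, h, index_top])))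
    (hcK.symm ▸ hHA) (hiK.symm ▸ hKA)
  let ψ : C →* Kq := ((QuotientGroup.mk' H).comp (K.subtype.comp C.subtype)).codRestrict Kq fun c => c.1.2
  have hψ : Function.Bijective ψ := by
    rw [Nat.bijective_iff_injective_and_card]
    refine ⟨(injective_iff_map_eq_one ψ).2 fun c hc => ?_, hCcard.trans hiK⟩
    have h1 : (c : K) ∈ H.subgroupOf K ⊓ C :=
      ⟨(QuotientGroup.eq_one_iff ((c : K) : G)).1
        (show ((((c : K) : G) : G ⧸ H)) = 1 from congrArg Subtype.val hc), c.2⟩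
    rw [hCdis, mem_bot] at h1
    exact Subtype.ext h1
  obtain ⟨V, φ, hVc, hV1, -, hfpf⟩ := CfsgLib.Solvable.exists_fpf_abelian hC
  let _ : CommGroup V := { (inferInstance : Group V) with mul_comm := hVc.is_comm.comm }
  have : Nontrivial V := (V.nontrivial_iff_ne_bot).2 hV1
  -- the Fitting subgroup of the quotient
  set F := Cfsg.fittingSubgroup (G ⧸ H)
  have hFK : F ≤ Kq := by
    show Cfsg.fittingSubgroup (G ⧸ H) ≤ Kq
    rw [CfsgLib.Solvable.fittingSubgroup_eq_iSup_pCore]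
    refine iSup_le fun p => ?_
    have : Fact (p : ℕ).Prime := ⟨p.2⟩
    obtain ⟨k, hk⟩ := IsPGroup.iff_card.1 (CfsgLib.Solvable.pCore_isPGroup (G := G ⧸ H) (p : ℕ))
    have hpi : Pi {(p : ℕ)} (Nat.card (Cfsg.pCore (p : ℕ) (G ⧸ H))) := fun q hq hd =>
      (Nat.prime_dvd_prime_iff_eq hq p.2).1 (hq.dvd_of_dvd_pow (hk ▸ hd))
    by_cases hpA : (p : ℕ) ∈ A
    · rw [hO _ (CfsgLib.Solvable.pCore_normal _ _) fun q hq hd => (Set.mem_singleton_iff.1 (hpi q hq hd)) ▸ hpA]
      exact bot_le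
    · exact hKmax _ (CfsgLib.Solvable.pCore_normal _ _) fun q hq hd => (Set.mem_singleton_iff.1 (hpi q hq hd)).symm ▸ hpA
  let χ : F →* MulAut V := φ.comp ((MulEquiv.ofBijective ψ hψ).symm.toMonoidHom.comp (inclusion hFK))
  have hχ : ∀ f : F, f ≠ 1 → ∀ v : V, χ f v = v → v = 1 := fun f hf => hfpf _ fun h => hf (by
    have h2 := ((MulEquiv.ofBijective ψ hψ).symm).map_eq_one_iff.1 h
    exact inclusion_injective hFK (h2.trans (map_one _).symm))
  -- some element of order in `A` survives in the quotient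
  obtain ⟨a, haA, ha, had⟩ : ∃ a ∈ A, a.Prime ∧ a ∣ Nat.card (G ⧸ H) := by
    by_contra! hno
    refine hKt (top_le_iff.1 (hKmax ⊤ inferInstance fun q hq hd hqA => ?_))
    rw [card_top] at hd
    exact hno q hqA hq hd
  have : Fact a.Prime := ⟨ha⟩
  obtain ⟨x, hx⟩ := exists_prime_orderOf_dvd_card' a had
  have hFnil : Group.IsNilpotent F := CfsgLib.Solvable.fittingSubgroup_isNilpotent
  have hZ : IsZGroup F := by
    refine ⟨fun p hp P => ?_⟩
    have : Fact p.Prime := ⟨hp⟩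
    rcases CfsgLib.Solvable.isCyclic_or_quaternion_of_fpf χ hχ P with h | ⟨rfl, n, ⟨e⟩⟩
    · exact h
    exfalso
    have : NeZero (2 ^ n) := ⟨by positivity⟩
    have h2 : 2 ∣ Nat.card F := by
      refine dvd_trans ?_ (P : Subgroup F).card_subgroup_dvd_card
      rw [Nat.card_congr e.toEquiv, Nat.card_eq_fintype_card, QuaternionGroup.card]
      exact dvd_mul_of_dvd_left (by norm_num) _
    obtain ⟨⟨t, ht⟩, hto⟩ := exists_prime_orderOf_dvd_card' 2 h2
    have hFn : F.Normal := CfsgLib.Solvable.fittingSubgroup_normal (G ⧸ H)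
    have hconj : x * t * x⁻¹ = t := congrArg Subtype.val (CfsgLib.Solvable.involution_unique_of_fpf χ hχ
      (s := ⟨x * t * x⁻¹, hFn.conj_mem t ht x⟩) (t := ⟨t, ht⟩) (by
        rw [Subgroup.orderOf_mk, show x * t * x⁻¹ = MulAut.conj x t from rfl, MulEquiv.orderOf_eq]
        rwa [Subgroup.orderOf_mk] at hto) hto)
    rw [Subgroup.orderOf_mk] at hto
    refine hDQ x t (hx ▸ ha) (hto ▸ Nat.prime_two) (hx ▸ haA) ?_ ?_
    · rw [hto]
      exact hKA 2 Nat.prime_two (hto ▸ Subgroup.orderOf_mk t (hFK ht) ▸ orderOf_dvd_natCard _)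
    · rw [mul_inv_eq_iff_eq_mul] at hconj
      exact hconj
  have hFcyc : IsCyclic F := inferInstance
  have hab : _root_.commutator (G ⧸ H) ≤ Kq := by
    have hFn : F.Normal := CfsgLib.Solvable.fittingSubgroup_normal (G ⧸ H)
    refine le_trans ?_ ((CfsgLib.Solvable.centralizer_fittingSubgroup_le (G := G ⧸ H)).trans hFK)
    have hcomm : ∀ u v : MulAut F, u * v = v * u := fun u v =>
      (IsCyclic.mulAutMulEquiv F).injective (by rw [map_mul, map_mul, mul_comm])
    rw [_root_.commutator_def, commutator_le]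
    intro u _ v _
    rw [mem_centralizer_iff]
    intro f hf
    have h1 : (MulAut.conjNormal : G ⧸ H →* MulAut F) (u * v * u⁻¹ * v⁻¹) = 1 := by
      rw [map_mul, map_mul, map_mul, map_inv, map_inv, hcomm (MulAut.conjNormal u)]
      group
    have h2 := congrArg Subtype.val (DFunLike.congr_fun h1 ⟨f, hf⟩)
    rw [MulAut.conjNormal_apply, MulAut.one_apply, mul_inv_eq_iff_eq_mul] at h2
    exact h2.symm
  have hidx : Pi A Kq.index := by
    intro q hq hd
    by_contra hqA
    have : Fact q.Prime := ⟨hq⟩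
    rw [index_eq_card] at hd
    obtain ⟨y, hy⟩ := exists_prime_orderOf_dvd_card' q hd
    set M := (zpowers y).comap (QuotientGroup.mk' Kq)
    have hKM : Kq ≤ M := fun z hz => by
      show QuotientGroup.mk' Kq z ∈ zpowers y
      rw [QuotientGroup.mk'_apply, (QuotientGroup.eq_one_iff z).2 hz]; exact one_mem _
    have hMn : M.Normal := ⟨fun z hz g => by
      have : g * z * g⁻¹ * z⁻¹ ∈ M := hKM (hab (commutator_mem_commutator (mem_top g) (mem_top z)))
      simpa using mul_mem this hz⟩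
    have hle := hKmax M hMn fun r hr hd' => by
      have h1 : Nat.card M = Nat.card Kq * Nat.card (zpowers y) :=
        QuotientGroup.card_preimage_mk Kq ((zpowers y : Subgroup ((G ⧸ H) ⧸ Kq)) : Set ((G ⧸ H) ⧸ Kq))
      rw [h1, Nat.card_zpowers, hy] at hd'
      rcases hr.dvd_mul.1 hd' with h | h
      · exact hKA r hr h
      · exact (Nat.prime_dvd_prime_iff_eq hr hq).1 h ▸ hqA
    obtain ⟨z, rfl⟩ := QuotientGroup.mk'_surjective Kq y
    have : z ∈ Kq := hle (mem_zpowers _)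
    rw [QuotientGroup.mk'_apply, (QuotientGroup.eq_one_iff z).2 this, orderOf_one] at hy
    exact hq.ne_one hy.symm
  obtain ⟨C', hC', hC'ker, -⟩ := frob_of_pi (disc_compl hDQ) Kq hKne hKt hKA
    (by rw [compl_compl]; exact hidx)
  refine ⟨H, K, hHn, inferInstance, lt_of_le_of_ne hHK fun e => hKne ?_, ⟨C, hC, hCker⟩, C', hC', ?_⟩
  · rw [← hKmap, ← e, QuotientGroup.map_mk'_self]
  · rw [hC'ker, hKmap]


/-- A finite solvable group whose prime graph (prime divisors of the order, two distinct primes joined when there is an element of order their product) is disconnected is a Frobenius group or a 2-Frobenius group (it has normal subgroups H < K with K a Frobenius group with kernel H and G/H a Frobenius group with kernel K/H). -/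
theorem result {G : Type*} [Group G] [Finite G] (hsol : Group.IsSolvable G)
    (hdisc : (∃ A : Set ℕ, (∃ a ∈ A, a.Prime ∧ a ∣ Nat.card G) ∧ (∃ b ∉ A, b.Prime ∧ b ∣ Nat.card G) ∧
      ∀ a ∈ A, ∀ b ∉ A, a.Prime → b.Prime → a ∣ Nat.card G → b ∣ Nat.card G → ¬ ∃ g : G, orderOf g = a * b)) :
    (∃ C : Subgroup G, Cfsg.IsFrobeniusComplement C) ∨
    (∃ (H K : Subgroup G) (_ : H.Normal), K.Normal ∧ H < K ∧
      (∃ C : Subgroup ↥K, Cfsg.IsFrobeniusComplement C ∧ Cfsg.frobeniusKernel C = (H.subgroupOf K : Set ↥K)) ∧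
      (∃ C : Subgroup (G ⧸ H), Cfsg.IsFrobeniusComplement C ∧ Cfsg.frobeniusKernel C = (K.map (QuotientGroup.mk' H) : Set (G ⧸ H)))) := by
  obtain ⟨A, ⟨a, haA, ha, had⟩, ⟨b, hbA, hb, hbd⟩, hno⟩ := hdisc
  have hD : Disc G A := fun x y hx hy hxA hyA hc => hno _ hxA _ hyA hx hy (orderOf_dvd_natCard x)
    (orderOf_dvd_natCard y) ⟨x * y, hc.orderOf_mul_eq_mul_orderOf_of_coprime
      ((Nat.coprime_primes hx hy).2 fun e => hyA (e ▸ hxA))⟩
  have : Nontrivial G := Finite.one_lt_card_iff_nontrivial.1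
    (lt_of_lt_of_le ha.one_lt (Nat.le_of_dvd Nat.card_pos had))
  obtain ⟨N, hN, hNne, p, hp, -, hNp⟩ := exists_pgroup_normal (X := G)
  by_cases hpA : p ∈ A
  · exact gk_aux hD hbA hb hbd N hNne fun q hq hd => (Set.mem_singleton_iff.1 (hNp q hq hd)) ▸ hpA
  · exact gk_aux (disc_compl hD) (not_not.2 haA) ha had N hNne
      fun q hq hd => (Set.mem_singleton_iff.1 (hNp q hq hd)).symm ▸ hpA

end Cfsg.Agent.S3857
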