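import Cfsg.Statements.S3858
import Mathlib.Tactic
import Cfsg.Agent.Lib.Coprime.Sylow


set_option autoImplicit false
open Cfsg

namespace Cfsg.Agent.S3858

/-- Let G be a finite group with a normal non-abelian simple subgroup T whose centralizer is trivial (G almost simple with socle T), r a prime and R a Sylow r-subgroup of G meeting T nontrivially. Then R lies in exactly one maximal subgroup of G if and only if G has exactly one conjugacy class of maximal subgroups whose index is prime to r. -/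
theorem result {G : Type*} [Group G] [Finite G] (T : Subgroup G) [T.Normal] (hT : IsSimpleGroup T) (hna : ¬ IsMulCommutative T)
    (hC : Subgroup.centralizer (T : Set G) = ⊥) {r : ℕ} [Fact r.Prime] (R : Sylow r G) (hR0 : (R : Subgroup G) ⊓ T ≠ ⊥) :
    (∃! M : Subgroup G, IsCoatom M ∧ (R : Subgroup G) ≤ M) ↔
      ((∃ M : Subgroup G, IsCoatom M ∧ ¬ r ∣ M.index) ∧
        ∀ M₁ M₂ : Subgroup G, IsCoatom M₁ → ¬ r ∣ M₁.index → IsCoatom M₂ → ¬ r ∣ M₂.index → ∃ g : G, M₂ = M₁.map (MulAut.conj g).toMonoidHom) := by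
  have hconjM : ∀ M : Subgroup G, IsCoatom M → ∀ g : G,
      IsCoatom (M.map (MulAut.conj g).toMonoidHom) := fun M hM g =>
    (MulEquiv.mapSubgroup (MulAut.conj g)).isCoatom_iff M |>.mpr hM
  have hidx : ∀ M : Subgroup G, ¬ r ∣ M.index ↔
      ∃ g : G, ((R : Subgroup G).map (MulAut.conj g).toMonoidHom) ≤ M := by
    intro M
    constructor
    · intro h
      obtain ⟨S⟩ : Nonempty (Sylow r M) := inferInstance
      have hSG : IsPGroup r ((S : Subgroup M).map M.subtype) := S.isPGroup'.map _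
      have hc : Nat.card ((S : Subgroup M).map M.subtype)
          = r ^ (Nat.card G).factorization r := by
        rw [Subgroup.card_map_of_injective M.subtype_injective, S.card_eq_multiplicity,
          ← M.card_mul_index, Nat.factorization_mul Nat.card_pos.ne' M.index_ne_zero_of_finite,
          Finsupp.add_apply, Nat.factorization_eq_zero_of_not_dvd h, add_zero]
      obtain ⟨g, hg⟩ := MulAction.exists_smul_eq G R (Sylow.ofCard _ hc)
      exact ⟨g, (congrArg (fun S : Sylow r G => (S : Subgroup G)) hg).le.trans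
        (Subgroup.map_subtype_le _)⟩
    · rintro ⟨g, hg⟩ hd
      have h1 := Subgroup.index_dvd_of_le hg
      rw [Subgroup.index_map_of_bijective (f := (MulAut.conj g).toMonoidHom) (MulAut.conj g).bijective] at h1
      exact R.not_dvd_index (hd.trans h1)
  have hN : Subgroup.normalizer ((R : Subgroup G) : Set G) ≠ ⊤ := by
    intro h
    have hRn : (R : Subgroup G).Normal := Subgroup.normalizer_eq_top_iff.mp h
    have : ((R : Subgroup G).subgroupOf T).Normal := Subgroup.normal_subgroupOf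
    rcases hT.eq_bot_or_eq_top_of_normal _ this with h1 | h1
    · rw [Subgroup.subgroupOf_eq_bot, disjoint_iff] at h1
      exact hR0 h1
    · apply hna
      have hTR : T ≤ (R : Subgroup G) := Subgroup.subgroupOf_eq_top.mp h1
      have hp : IsPGroup r T := R.isPGroup'.to_le hTR
      have : Nontrivial T := hT.toNontrivial
      have hc : Subgroup.center T = ⊤ :=
        (hT.eq_bot_or_eq_top_of_normal _ inferInstance).resolve_left hp.bot_lt_center.ne'
      exact ⟨⟨fun a b => (Subgroup.mem_center_iff.mp (hc ▸ Subgroup.mem_top b) a)⟩⟩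
  constructor
  · rintro ⟨M, ⟨hM, hRM⟩, huniq⟩
    have h1 : ∀ M' : Subgroup G, IsCoatom M' → ¬ r ∣ M'.index →
        ∃ g : G, M = M'.map (MulAut.conj g).toMonoidHom := by
      intro M' hM' hd
      obtain ⟨g, hg⟩ := (hidx M').mp hd
      refine ⟨g⁻¹, (huniq _ ⟨hconjM M' hM' _, fun x hx => ?_⟩).symm⟩
      exact ⟨g * x * g⁻¹, hg ⟨x, hx, rfl⟩, by simp [mul_assoc]⟩
    refine ⟨⟨M, hM, (hidx M).mpr ⟨1, ?_⟩⟩, fun M₁ M₂ h₁ d₁ h₂ d₂ => ?_⟩
    · rintro _ ⟨x, hx, rfl⟩
      simpa using hRM hx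
    · obtain ⟨a, ha⟩ := h1 M₁ h₁ d₁
      obtain ⟨b, hb⟩ := h1 M₂ h₂ d₂
      refine ⟨b⁻¹ * a, ?_⟩
      rw [← CfsgLib.Coprime.map_conj_conj, ← ha, hb, CfsgLib.Coprime.map_conj_conj, inv_mul_cancel]
      ext y; simp
  · rintro ⟨-, hclass⟩
    obtain ⟨M₀, hM₀, hNM⟩ := (eq_top_or_exists_le_coatom _).resolve_left hN
    have hRM₀ : (R : Subgroup G) ≤ M₀ := Subgroup.le_normalizer.trans hNM
    refine ⟨M₀, ⟨hM₀, hRM₀⟩, ?_⟩
    rintro M ⟨hM, hRM⟩
    have hone : ∀ {K : Subgroup G}, (R : Subgroup G) ≤ K → ¬ r ∣ K.index := fun {K} h =>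
      (hidx K).mpr ⟨1, by rintro _ ⟨x, hx, rfl⟩; simpa using h hx⟩
    obtain ⟨g, rfl⟩ := hclass M₀ M hM₀ (hone hRM₀) hM (hone hRM)
    have hle : ((R : Subgroup G).map (MulAut.conj g⁻¹).toMonoidHom) ≤ M₀ := by
      rintro _ ⟨x, hx, rfl⟩
      obtain ⟨y, hy, hyx⟩ := hRM hx
      have hyx' : g * y * g⁻¹ = x := hyx
      show g⁻¹ * x * g⁻¹⁻¹ ∈ M₀
      rw [← hyx']
      simpa [mul_assoc] using hy
    let Q : Subgroup G := (R : Subgroup G).map (MulAut.conj g⁻¹).toMonoidHom
    let R₁ : Sylow r M₀ := R.subtype hRM₀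
    have hle' : ((g⁻¹ • R : Sylow r G) : Subgroup G) ≤ M₀ := hle
    let Q₁ : Sylow r M₀ := (g⁻¹ • R).subtype hle'
    obtain ⟨m, hm⟩ := MulAction.exists_smul_eq M₀ R₁ Q₁
    have h2 : (R₁ : Subgroup M₀).map (MulAut.conj m).toMonoidHom = (Q₁ : Subgroup M₀) :=
      congrArg (fun S : Sylow r M₀ => (S : Subgroup M₀)) hm
    replace h2 := congrArg (Subgroup.map M₀.subtype) h2
    rw [CfsgLib.Coprime.map_conj_map] at h2
    simp only [R₁, Q₁, Sylow.coe_subtype, Subgroup.subgroupOf_map_subtype] at h2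
    rw [inf_eq_left.mpr hRM₀, inf_eq_left.mpr hle'] at h2
    have hn : g * (m : G) ∈ Subgroup.normalizer ((R : Subgroup G) : Set G) := by
      rw [CfsgLib.Coprime.mem_normalizer_iff_map_conj, ← CfsgLib.Coprime.map_conj_conj]
      refine (congrArg (Subgroup.map (MulAut.conj g).toMonoidHom) h2).trans ?_
      show ((R : Subgroup G).map (MulAut.conj g⁻¹).toMonoidHom).map _ = _
      rw [CfsgLib.Coprime.map_conj_conj, mul_inv_cancel]
      ext y; simp
    have hg : g ∈ M₀ := by
      have := mul_mem (hNM hn) (inv_mem m.2)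
      rwa [mul_inv_cancel_right] at this
    exact CfsgLib.Coprime.map_conj_of_mem_normalizer (Subgroup.le_normalizer hg)

end Cfsg.Agent.S3858
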