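import Cfsg.Statements.S3859
import Mathlib.Tactic
import Cfsg.Agent.Lib.Coprime.Sylow
import Cfsg.Agent.Lib.Transfer.Frobenius


set_option autoImplicit false
open Cfsg

namespace Cfsg.Agent.S3859

/-- Let G be a finite group with a normal non-abelian simple subgroup T whose centralizer is trivial (G almost simple with socle T), r a prime and R a Sylow r-subgroup of G meeting T nontrivially. If R lies in exactly one maximal subgroup of G, then G/T is an r-group. -/
theorem result {G : Type*} [Group G] [Finite G] (T : Subgroup G) [T.Normal] (hT : IsSimpleGroup T) (hna : ¬ IsMulCommutative T)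
    (hC : Subgroup.centralizer (T : Set G) = ⊥) {r : ℕ} [Fact r.Prime] (R : Sylow r G) (hR0 : (R : Subgroup G) ⊓ T ≠ ⊥)
    (huniq : ∃! M : Subgroup G, IsCoatom M ∧ (R : Subgroup G) ≤ M) : IsPGroup r (G ⧸ T) := by
  obtain ⟨M, ⟨hM, hRM⟩, huniq⟩ := huniq
  have hmax : ∀ K : Subgroup G, (R : Subgroup G) ≤ K → K ≠ ⊤ → K ≤ M := fun K hK hne => by
    obtain ⟨M', hM', hle⟩ := (eq_top_or_exists_le_coatom K).resolve_left hne
    exact huniq M' ⟨hM', hK.trans hle⟩ ▸ hle
  by_cases htop : T ⊔ (R : Subgroup G) = ⊤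
  · refine R.isPGroup'.of_surjective ((QuotientGroup.mk' T).comp (R : Subgroup G).subtype) ?_
    intro y
    obtain ⟨g, rfl⟩ := QuotientGroup.mk'_surjective T y
    have hg : g ∈ T ⊔ (R : Subgroup G) := htop ▸ Subgroup.mem_top g
    obtain ⟨t, ht, x, hx, rfl⟩ := Subgroup.mem_sup_of_normal_left.mp hg
    refine ⟨⟨x, hx⟩, ?_⟩
    show QuotientGroup.mk' T x = QuotientGroup.mk' T (t * x)
    rw [map_mul]
    simp [(QuotientGroup.eq_one_iff t).mpr ht]
  exfalso
  have hTM : T ≤ M := le_sup_left.trans (hmax _ le_sup_right htop)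
  obtain ⟨P, hP⟩ := CfsgLib.Transfer.exists_sylow_eq_subgroupOf R T
  let K : Subgroup G := (R : Subgroup G) ⊓ T
  have hPK : (P : Subgroup T).map T.subtype = K := by
    rw [hP, Subgroup.subgroupOf_map_subtype]
  have hK : Subgroup.normalizer (K : Set G) ⊔ T = ⊤ := by
    rw [← hPK]; exact P.normalizer_sup_eq_top
  have hRK : (R : Subgroup G) ≤ Subgroup.normalizer (K : Set G) := fun x hx => by
    rw [Subgroup.mem_normalizer_iff]
    intro y
    exact and_congr ((Subgroup.mem_normalizer_iff.mp (Subgroup.le_normalizer hx)) y)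
      ⟨fun h => ‹T.Normal›.conj_mem y h x, fun h => by
        have := ‹T.Normal›.conj_mem' _ h x
        simpa [mul_assoc] using this⟩
  by_cases hKn : Subgroup.normalizer (K : Set G) = ⊤
  · have hKnorm : K.Normal := Subgroup.normalizer_eq_top_iff.mp hKn
    have : (K.subgroupOf T).Normal := Subgroup.normal_subgroupOf
    rcases hT.eq_bot_or_eq_top_of_normal _ this with h1 | h1
    · rw [Subgroup.subgroupOf_eq_bot, disjoint_iff, inf_eq_left.mpr inf_le_right] at h1
      exact hR0 h1
    · apply hna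
      have hTR : T ≤ (R : Subgroup G) := (Subgroup.subgroupOf_eq_top.mp h1).trans inf_le_left
      have hp : IsPGroup r T := R.isPGroup'.to_le hTR
      have : Nontrivial T := hT.toNontrivial
      have hc : Subgroup.center T = ⊤ :=
        (hT.eq_bot_or_eq_top_of_normal _ inferInstance).resolve_left hp.bot_lt_center.ne'
      exact ⟨⟨fun a b => (Subgroup.mem_center_iff.mp (hc ▸ Subgroup.mem_top b) a)⟩⟩
  · exact hM.1 (eq_top_iff.mpr (hK ▸ sup_le (hmax _ hRK hKn) hTM))

end Cfsg.Agent.S3859
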