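import Cfsg.Statements.S3861
import Cfsg.Agent.Lib.Invol.BaerSuzuki
import Cfsg.Agent.Lib.Solvable.PCore


set_option autoImplicit false
open Cfsg

namespace Cfsg.Agent.S3861

/-- A finite group G has no non-identity element of odd order that is conjugate to its inverse if and only if the Sylow 2-subgroups of G are normal. -/
theorem result {G : Type*} [Group G] [Finite G] (P : Sylow 2 G) : (∀ x : G, x ≠ 1 → Odd (orderOf x) → ¬ IsConj x x⁻¹) ↔ (P : Subgroup G).Normal := by
  constructor
  · intro h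
    set O := Cfsg.pCore 2 G
    have hOn : O.Normal := CfsgLib.Solvable.pCore_normal 2 G
    have hO2 : IsPGroup 2 O := CfsgLib.Solvable.pCore_isPGroup 2
    -- the quotient by `O_2(G)` has the same property
    have hQ : ∀ x : G ⧸ O, x ≠ 1 → Odd (orderOf x) → ¬ IsConj x x⁻¹ := by
      intro x hx hodd hreal
      obtain ⟨p, hp, hpd⟩ := Nat.exists_prime_and_dvd (show orderOf x ≠ 1 by rwa [Ne, orderOf_eq_one_iff])
      have : Fact p.Prime := ⟨hp⟩
      set e := orderOf x / p
      set y := x ^ e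
      have hy : orderOf y = p := by
        rw [orderOf_pow_of_dvd _ (Nat.div_dvd_of_dvd hpd), Nat.div_div_self hpd (orderOf_pos x).ne']
        exact (Nat.div_pos (Nat.le_of_dvd (orderOf_pos x) hpd) hp.pos).ne'
      obtain ⟨cq, hcq⟩ := isConj_iff.mp hreal
      have hyc : cq * y * cq⁻¹ = y⁻¹ := by rw [← conj_pow, hcq, inv_pow]
      obtain ⟨g, hg⟩ := QuotientGroup.mk'_surjective O y
      obtain ⟨c, rfl⟩ := QuotientGroup.mk'_surjective O cq
      have hp2 : p ≠ 2 := fun h2 => Nat.not_even_iff_odd.mpr hodd (even_iff_two_dvd.mpr (h2 ▸ hpd))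
      obtain ⟨k, hk⟩ := IsPGroup.iff_card.mp hO2
      -- a preimage of order `p`
      obtain ⟨z, hz, hzp⟩ : ∃ z : G, QuotientGroup.mk' O z = y ∧ orderOf z = p := by
        have hcop : Nat.Coprime (2 ^ k) (orderOf y) := by
          rw [hy]; exact Nat.Coprime.pow_left _ ((Nat.coprime_primes Nat.prime_two hp).mpr (Ne.symm hp2))
        obtain ⟨m, hm⟩ := exists_pow_eq_self_of_coprime (x := y) hcop
        refine ⟨(g ^ 2 ^ k) ^ m, by rw [map_pow, map_pow, hg, hm], ?_⟩
        refine orderOf_eq_prime ?_ fun h1 => ?_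
        · rw [← pow_mul, ← pow_mul, show 2 ^ k * (m * p) = (p * 2 ^ k) * m by ring, pow_mul, pow_mul]
          have h1 : g ^ p ∈ O := by
            rw [← QuotientGroup.eq_one_iff, ← QuotientGroup.mk'_apply, map_pow, hg, ← hy, pow_orderOf_eq_one]
          have h2 : (g ^ p) ^ 2 ^ k = 1 := by
            rw [← orderOf_dvd_iff_pow_eq_one, ← hk]
            exact Subgroup.orderOf_dvd_natCard O h1
          rw [h2, one_pow]
        · have := congrArg (QuotientGroup.mk' O) h1
          rw [map_pow, map_pow, hg, hm, map_one] at this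
          rw [this, orderOf_one] at hy
          exact hp.ne_one hy.symm
      set W := Subgroup.zpowers z ⊔ O
      have hcardW : Nat.card W ∣ p * 2 ^ k := by
        have h1 : Subgroup.zpowers z ⊓ O = ⊥ := by
          refine eq_bot_iff.mpr fun a ha => ?_
          rw [Subgroup.mem_bot, ← orderOf_eq_one_iff]
          exact Nat.eq_one_of_dvd_coprimes (k := orderOf a)
            (Nat.Coprime.pow_right k ((Nat.coprime_primes hp Nat.prime_two).mpr hp2))
            (hzp ▸ (Nat.card_zpowers z ▸ Subgroup.orderOf_dvd_natCard _ ha.1))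
            (hk ▸ Subgroup.orderOf_dvd_natCard O ha.2)
        have h3 : Nat.card W = Nat.card (Subgroup.zpowers z) * Nat.card O := by
          have hd : Disjoint (Subgroup.zpowers z) O := disjoint_iff.mpr h1
          have h4 := Nat.card_congr (Equiv.ofBijective
            (fun w : Subgroup.zpowers z × O => (⟨(w.1 : G) * w.2,
              mul_mem (Subgroup.mem_sup_left w.1.2) (Subgroup.mem_sup_right w.2.2)⟩ : W))
            ⟨fun a b hab => Subgroup.mul_injective_of_disjoint hd (congrArg Subtype.val hab),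
             fun w => by
              obtain ⟨a, ha, b, hb, hab⟩ := Subgroup.mem_sup_of_normal_right.mp w.2
              exact ⟨(⟨a, ha⟩, ⟨b, hb⟩), Subtype.ext hab⟩⟩)
          rw [← h4, Nat.card_prod]
        rw [h3, Nat.card_zpowers, hzp, hk]
      set z' := c * z * c⁻¹
      have hz'W : z' ∈ W := by
        have : z * z' ∈ O := by
          rw [← QuotientGroup.eq_one_iff, ← QuotientGroup.mk'_apply, map_mul, map_mul, map_mul, map_inv,
            hz, hyc, mul_inv_cancel]
        have h5 := W.mul_mem (W.inv_mem (Subgroup.mem_sup_left (Subgroup.mem_zpowers z)))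
          (Subgroup.mem_sup_right (S := Subgroup.zpowers z) this)
        rwa [inv_mul_cancel_left] at h5
      have hzW : z ∈ W := Subgroup.mem_sup_left (Subgroup.mem_zpowers z)
      have hsyl : ∀ a : W, orderOf (a : G) = p → ∃ S : Sylow p W, (S : Subgroup W) = Subgroup.zpowers a := by
        intro a ha
        refine ⟨IsPGroup.toSylow (P := Subgroup.zpowers a) (IsPGroup.of_card (n := 1) (show Nat.card (Subgroup.zpowers a) = p ^ 1 by rw [Nat.card_zpowers, ← Subgroup.orderOf_coe, ha, pow_one])) ?_, rfl⟩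
        intro hd
        have h6 := (Subgroup.zpowers a).card_mul_index
        rw [Nat.card_zpowers, ← Subgroup.orderOf_coe, ha] at h6
        have h7 : p * p ∣ p * 2 ^ k := ((Nat.mul_dvd_mul_left p hd).trans (dvd_of_eq h6)).trans hcardW
        exact hp2 ((Nat.prime_dvd_prime_iff_eq hp Nat.prime_two).mp
          (hp.dvd_of_dvd_pow (Nat.dvd_of_mul_dvd_mul_left hp.pos h7)))
      obtain ⟨S, hS⟩ := hsyl ⟨z, hzW⟩ hzp
      obtain ⟨S', hS'⟩ := hsyl ⟨z', hz'W⟩ (by
        show orderOf (MulAut.conj c z) = p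
        rw [MulEquiv.orderOf_eq, hzp])
      obtain ⟨n, hn⟩ := MulAction.exists_smul_eq W S' S
      have hnz : n * ⟨z', hz'W⟩ * n⁻¹ ∈ Subgroup.zpowers (⟨z, hzW⟩ : W) := by
        rw [← hS, ← hn, Sylow.smul_def]
        show _ ∈ (S' : Subgroup W).map (MulAut.conj n).toMonoidHom
        rw [hS']
        exact ⟨⟨z', hz'W⟩, Subgroup.mem_zpowers _, rfl⟩
      obtain ⟨i, hi⟩ := hnz
      have hi' : z ^ i = ((n : W) : G) * z' * ((n : W) : G)⁻¹ := congrArg Subtype.val hi
      obtain ⟨a, ha, b, hb, hab⟩ := Subgroup.mem_sup_of_normal_right.mp n.2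
      have hπn : Commute (QuotientGroup.mk' O (n : G)) y := by
        rw [← hab, map_mul, show QuotientGroup.mk' O b = 1 from (QuotientGroup.eq_one_iff b).mpr hb, mul_one]
        obtain ⟨j, rfl⟩ := ha
        rw [map_zpow, hz]
        exact Commute.zpow_self y j
      have h8 := congrArg (QuotientGroup.mk' O) hi'
      rw [map_zpow, hz, map_mul, map_mul, map_inv, map_mul, map_mul, map_inv, hz, hyc,
        (hπn.inv_right).eq, mul_inv_cancel_right] at h8
      have h9 : z ^ i = z⁻¹ := by
        rw [← zpow_neg_one, zpow_eq_zpow_iff_modEq, hzp, ← hy, ← zpow_eq_zpow_iff_modEq, h8, zpow_neg_one]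
      refine h z (fun h1 => hp.ne_one (by rw [← hzp, h1, orderOf_one]))
        (hzp.symm ▸ hp.odd_of_ne_two hp2) (isConj_iff.mpr ⟨(n : G) * c, ?_⟩)
      rw [← h9, hi']
      simp only [z', mul_inv_rev, mul_assoc]
    -- involutions lie in `O_2`
    have key : ∀ (H : Type _) (_ : Group H) (_ : Finite H),
        (∀ x : H, x ≠ 1 → Odd (orderOf x) → ¬ IsConj x x⁻¹) →
        ∀ t : H, t ^ 2 = 1 → t ∈ Cfsg.pCore 2 H := by
      intro H _ _ hH t ht
      refine CfsgLib.Invol.baer_suzuki_mem_pCore fun g => ?_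
      set s := g * t * g⁻¹
      have hs : s ^ 2 = 1 := by rw [conj_pow, ht, mul_one, mul_inv_cancel]
      have htt : t * t = 1 := by rw [← sq, ht]
      have hss : s * s = 1 := by rw [← sq, hs]
      have hinv : t * (t * s) * t⁻¹ = (t * s)⁻¹ := by
        rw [mul_inv_rev, eq_inv_of_mul_eq_one_left htt |>.symm, eq_inv_of_mul_eq_one_left hss |>.symm,
          ← mul_assoc, htt, one_mul]
      obtain ⟨a, m, hm, ham⟩ := Nat.exists_eq_two_pow_mul_odd (orderOf_pos (t * s)).ne'
      have hm1 : m = 1 := by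
        by_contra hne
        have hy : orderOf ((t * s) ^ 2 ^ a) = m := by
          rw [orderOf_pow_of_dvd (by positivity) (ham ▸ dvd_mul_right _ _), ham,
            Nat.mul_div_cancel_left _ (pow_pos two_pos a)]
        refine hH _ (fun h1 => hne (by rw [← hy, h1, orderOf_one])) (hy.symm ▸ hm)
          (isConj_iff.mpr ⟨t, ?_⟩)
        rw [← conj_pow, hinv, inv_pow]
      have hR : IsPGroup 2 (Subgroup.zpowers (t * s)) :=
        IsPGroup.of_card (n := a) (by rw [Nat.card_zpowers, ham, hm1, mul_one])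
      have hT : IsPGroup 2 (Subgroup.zpowers t) := by
        obtain ⟨j, -, hj⟩ := (Nat.dvd_prime_pow Nat.prime_two).mp
          (show orderOf t ∣ 2 ^ 1 by rw [pow_one]; exact orderOf_dvd_of_pow_eq_one ht)
        exact IsPGroup.of_card (n := j) (by rw [Nat.card_zpowers, hj])
      have hnorm : Subgroup.zpowers t ≤ Subgroup.normalizer (Subgroup.zpowers (t * s) : Set H) := by
        rw [Subgroup.zpowers_le, Subgroup.mem_normalizer_iff_map_conj_eq, MonoidHom.map_zpowers]
        show Subgroup.zpowers (t * (t * s) * t⁻¹) = _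
        rw [hinv, Subgroup.zpowers_inv]
      refine (hT.to_sup_of_normal_right' hR hnorm).to_le ?_
      rw [Subgroup.closure_le]
      rintro x (rfl | rfl)
      · exact Subgroup.mem_sup_left (Subgroup.mem_zpowers _)
      · have h := Subgroup.mul_mem _ (Subgroup.mem_sup_left (T := Subgroup.zpowers (t * s)) (Subgroup.mem_zpowers t))
          (Subgroup.mem_sup_right (S := Subgroup.zpowers t) (Subgroup.mem_zpowers (t * s)))
        rwa [← mul_assoc t t, htt, one_mul] at h
    have hbot : Cfsg.pCore 2 (G ⧸ O) = ⊥ := by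
      have := CfsgLib.Solvable.pCore_normal 2 (G ⧸ O)
      have h1 : IsPGroup 2 ((Cfsg.pCore 2 (G ⧸ O)).comap (QuotientGroup.mk' O)) :=
        (CfsgLib.Solvable.pCore_isPGroup 2).comap_of_ker_isPGroup _ (by rwa [QuotientGroup.ker_mk'])
      rw [← Subgroup.map_comap_eq_self_of_surjective (QuotientGroup.mk'_surjective O) (Cfsg.pCore 2 (G ⧸ O)),
        eq_bot_iff]
      refine (Subgroup.map_mono (CfsgLib.Solvable.le_pCore (Subgroup.Normal.comap this _) h1)).trans ?_
      rw [QuotientGroup.map_mk'_self]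
    have hodd : ¬ 2 ∣ O.index := by
      intro hd
      obtain ⟨t, ht⟩ := exists_prime_orderOf_dvd_card' (G := G ⧸ O) 2 (by rwa [← Subgroup.index_eq_card])
      have h1 := key (G ⧸ O) inferInstance inferInstance hQ t (ht ▸ pow_orderOf_eq_one t)
      rw [hbot, Subgroup.mem_bot] at h1
      rw [h1, orderOf_one] at ht
      exact absurd ht (by norm_num)
    have h2 : (P : Subgroup G) = O := by
      obtain ⟨n, hn⟩ := MulAction.exists_smul_eq G (hO2.toSylow hodd) P
      rw [← hn, Sylow.smul_def]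
      refine le_antisymm ?_ ?_
      · rintro _ ⟨a, ha, rfl⟩
        simpa using hOn.conj_mem a ha n
      · intro a ha
        exact ⟨n⁻¹ * a * n, by simpa using hOn.conj_mem a ha n⁻¹, by simp [mul_assoc]⟩
    rw [h2]; exact hOn
  · intro hP x hx hodd hreal
    obtain ⟨c, hc⟩ := isConj_iff.mp hreal
    obtain ⟨a, m, hm, ham⟩ := Nat.exists_eq_two_pow_mul_odd (orderOf_pos c).ne'
    have hcm : c ^ m ∈ (P : Subgroup G) := by
      have h2 : IsPGroup 2 (Subgroup.zpowers (c ^ m)) := by
        refine IsPGroup.of_card (n := a) ?_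
        rw [Nat.card_zpowers, orderOf_pow_of_dvd hm.pos.ne' (ham ▸ dvd_mul_left _ _), ham,
          Nat.mul_div_cancel _ hm.pos]
      have := P.3 (h2.to_sup_of_normal_right P.2) le_sup_right
      exact this.le (Subgroup.mem_sup_left (Subgroup.mem_zpowers _))
    have hcx : ∀ j : ℕ, c ^ j * x * (c ^ j)⁻¹ = if Even j then x else x⁻¹ := by
      intro j
      induction j with
      | zero => simp
      | succ j ih =>
        rw [pow_succ', show c * c ^ j * x * (c * c ^ j)⁻¹ = c * (c ^ j * x * (c ^ j)⁻¹) * c⁻¹ by group, ih]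
        by_cases hj : Even j
        · rw [if_pos hj, if_neg (by simpa [Nat.even_add_one] using hj)]; exact hc
        · rw [if_neg hj, if_pos (by simpa [Nat.even_add_one] using hj),
            show c * x⁻¹ * c⁻¹ = (c * x * c⁻¹)⁻¹ by group, hc, inv_inv]
    have h1 : c ^ m * (x * (c ^ m)⁻¹ * x⁻¹) ∈ (P : Subgroup G) :=
      (P : Subgroup G).mul_mem hcm (hP.conj_mem _ ((P : Subgroup G).inv_mem hcm) x)
    rw [show c ^ m * (x * (c ^ m)⁻¹ * x⁻¹) = c ^ m * x * (c ^ m)⁻¹ * x⁻¹ by group, hcx,
      if_neg (Nat.not_even_iff_odd.mpr hm)] at h1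
    obtain ⟨j, hj⟩ := (IsPGroup.iff_orderOf.mp P.2) ⟨_, h1⟩
    rw [← Subgroup.orderOf_coe] at hj
    simp only at hj
    have h3 : orderOf (x⁻¹ * x⁻¹) ∣ orderOf x := orderOf_dvd_of_pow_eq_one (by
      rw [← mul_inv_rev, inv_pow, ← sq, ← pow_mul, mul_comm, pow_mul, pow_orderOf_eq_one, one_pow, inv_one])
    have h4 : orderOf (x⁻¹ * x⁻¹) = 1 := Nat.eq_one_of_dvd_coprimes
      (Nat.Coprime.pow_left j (Nat.coprime_two_left.mpr hodd)) (dvd_of_eq hj) h3
    rw [orderOf_eq_one_iff, ← mul_inv_rev, inv_eq_one, ← sq] at h4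
    refine hx (orderOf_eq_one_iff.mp ?_)
    exact Nat.eq_one_of_dvd_coprimes (Nat.coprime_two_left.mpr hodd) (orderOf_dvd_of_pow_eq_one h4) dvd_rfl

end Cfsg.Agent.S3861
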