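import Cfsg.Statements.S3862
import Cfsg.Agent.S3736
import Cfsg.Agent.Lib.Transfer.Frobenius


set_option autoImplicit false
open scoped commutatorElement
open Cfsg

namespace Cfsg.Agent.S3862

open Subgroup

theorem exists_conj_inv {G : Type*} [Group G] [Finite G] [Fact (Nat.Prime 2)] {A P : Subgroup G}
    (hP : IsPGroup 2 P) (hAP : A ≤ normalizer (P : Set G)) (hs : Cfsg.IsSpecial 2 P)
    (hirr : ∀ U : Subgroup G, (frattini ↥P).map P.subtype ≤ U → U ≤ P → A ≤ normalizer (U : Set G) →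
      U = (frattini ↥P).map P.subtype ∨ U = P)
    (hfix : ∀ a ∈ A, ∀ z ∈ (frattini ↥P).map P.subtype, a * z * a⁻¹ = z)
    (x : P) (hx : x ∉ frattini P) : ∃ y : P, y * x * y⁻¹ = x⁻¹ := by
  have hc : ∀ u v : P, ⁅u, v⁆ ∈ center P := fun u v =>
    hs.2.2 ▸ commutator_mem_commutator (mem_top u) (mem_top v)
  let H : Subgroup P :=
    { carrier := {c | ∃ y, ⁅y, x⁆ = c}
      one_mem' := ⟨1, commutatorElement_one_left _⟩
      mul_mem' := by
        rintro _ _ ⟨y, rfl⟩ ⟨z, rfl⟩
        exact ⟨y * z, CfsgLib.Transfer.commutatorElement_mul_left hc y z x⟩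
      inv_mem' := by
        rintro _ ⟨y, rfl⟩
        refine ⟨y⁻¹, eq_inv_of_mul_eq_one_left ?_⟩
        rw [← CfsgLib.Transfer.commutatorElement_mul_left hc, inv_mul_cancel, commutatorElement_one_left] }
  let K : Subgroup P :=
    { carrier := {u | ∀ v, ⁅v, u⁆ ∈ H}
      one_mem' := fun v => by rw [commutatorElement_one_right]; exact one_mem H
      mul_mem' := fun hu hw v => by
        rw [CfsgLib.Transfer.commutatorElement_mul_right hc]; exact H.mul_mem (hu v) (hw v)
      inv_mem' := fun {u} hu v => by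
        have : ⁅v, u⁻¹⁆ = ⁅v, u⁆⁻¹ := eq_inv_of_mul_eq_one_left (by
          rw [← CfsgLib.Transfer.commutatorElement_mul_right hc, inv_mul_cancel, commutatorElement_one_right])
        rw [this]; exact H.inv_mem (hu v) }
  let S : Set G := {w | ∃ a ∈ A, a * x * a⁻¹ = w}
  set Φ := (frattini ↥P).map P.subtype
  have hS : closure S ≤ P := (closure_le _).2 (by
    rintro _ ⟨a, ha, rfl⟩; exact (mem_normalizer_iff.1 (hAP ha) x).1 x.2)
  have hWn : A ≤ normalizer ((Φ ⊔ closure S : Subgroup G) : Set G) := by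
    intro a ha
    rw [CfsgLib.Coprime.mem_normalizer_iff_map_conj, Subgroup.map_sup,
      CfsgLib.Coprime.mem_normalizer_iff_map_conj.1
        (CfsgLib.Amalgam.normalizer_le_normalizer_frattini P (hAP ha))]
    congr 1
    refine eq_of_le_of_card_ge ?_ (card_map_of_injective (MulEquiv.injective _)).ge
    rw [MonoidHom.map_closure, closure_le]
    rintro _ ⟨_, ⟨b, hb, rfl⟩, rfl⟩
    exact subset_closure ⟨a * b, mul_mem ha hb, by simp only [MulEquiv.coe_toMonoidHom, MulAut.conj_apply]; group⟩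
  rcases hirr _ le_sup_left (sup_le (map_subtype_le _) hS) hWn with h | h
  · refine absurd ?_ hx
    have hxS : (x : G) ∈ closure S := subset_closure ⟨1, one_mem A, by simp⟩
    have : (x : G) ∈ Φ := h ▸ mem_sup_right hxS
    exact (mem_map_iff_mem P.subtype_injective).1 this
  have hall : ∀ u : P, u ∈ K := by
    have h1 : Φ ⊔ closure S ≤ K.map P.subtype := by
      refine sup_le (map_mono fun z hz v => ?_) ((closure_le _).2 ?_)
      · rw [hs.2.1] at hz
        rw [commutatorElement_eq_one_iff_mul_comm.2 (mem_center_iff.1 hz v)]; exact one_mem H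
      · rintro _ ⟨a, ha, rfl⟩
        refine ⟨⟨a * x * a⁻¹, (mem_normalizer_iff.1 (hAP ha) x).1 x.2⟩, fun v => ?_, rfl⟩
        refine ⟨⟨a⁻¹ * v * a, by simpa using (mem_normalizer_iff.1 (hAP (inv_mem ha)) v).1 v.2⟩,
          Subtype.ext ?_⟩
        have h2 : ⁅(⟨a⁻¹ * v * a, by simpa using (mem_normalizer_iff.1 (hAP (inv_mem ha)) v).1 v.2⟩ : P), x⁆
            ∈ frattini P := hs.2.1 ▸ hc _ _
        have h3 := hfix a ha _ (mem_map_of_mem P.subtype h2)
        rw [map_commutatorElement] at h3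
        show ⁅a⁻¹ * (v : G) * a, (x : G)⁆ = ⁅(v : G), a * (x : G) * a⁻¹⁆
        refine Eq.trans h3.symm ?_
        simp only [commutatorElement_def, coe_subtype]; group
    intro u
    exact (mem_map_iff_mem P.subtype_injective).1 (h1 (h.symm ▸ u.2 : (u : G) ∈ Φ ⊔ closure S))
  have hPH : _root_.commutator P ≤ H := by
    rw [_root_.commutator_def, commutator_le]
    exact fun v _ u _ => hall u v
  have hx2 : (x ^ 2)⁻¹ ∈ H := H.inv_mem (hPH (by
    rw [hs.2.2, ← hs.2.1]; exact CfsgLib.Transfer.pow_mem_frattini hP x))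
  obtain ⟨y, hy⟩ := hx2
  refine ⟨y, ?_⟩
  rw [commutatorElement_def, mul_inv_eq_iff_eq_mul] at hy
  rw [hy]; group


/-- If every 2-element of the finite group G that is conjugate to its inverse lies in the centre of G, then G has a normal 2-complement. -/
theorem result {G : Type*} [Group G] [Finite G] (h : ∀ x : G, (∃ j : ℕ, orderOf x = 2 ^ j) → IsConj x x⁻¹ → x ∈ Subgroup.center G) : Cfsg.HasNormalPComplement 2 G := by
  have : Fact (Nat.Prime 2) := ⟨Nat.prime_two⟩
  rw [CfsgLib.Transfer.hasNormalPComplement_iff_frobenius]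
  intro D hD g hgD hgp
  by_contra hcon
  have hA : zpowers g ≤ normalizer (D : Set G) := zpowers_le.2 hgD
  obtain ⟨P, hPmin⟩ := (Set.toFinite {U : Subgroup G | U ≤ D ∧ zpowers g ≤ normalizer (U : Set G) ∧
    ⁅U, zpowers g⁆ ≠ ⊥}).exists_minimal ⟨D, le_rfl, hA, fun hb => hcon (by
      rw [commutator_eq_bot_iff_le_centralizer] at hb
      refine mem_centralizer_iff.2 fun d hd => (mem_centralizer_iff.1 (hb hd) g (mem_zpowers g)).symm)⟩
  obtain ⟨hPD, hgP, hnt⟩ := hPmin.prop
  have hP := hD.to_le hPD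
  have hcopA : (Nat.card (zpowers g)).Coprime 2 := by rwa [Nat.card_zpowers]
  obtain ⟨-, hcase, hirr, -⟩ := Cfsg.Agent.S3736.result (p := 2) (zpowers g) (zpowers g) P hP hgP
    le_rfl le_normalizer hcopA hnt fun U hU hBU => by
      by_contra hne
      exact hU.not_ge (hPmin.le_of_le ⟨hU.le.trans hPD, hBU, hne⟩ hU.le)
  have hne : Nontrivial P := by
    rw [Subgroup.nontrivial_iff_ne_bot]
    rintro rfl
    exact hnt (commutator_bot_left _)
  set Φ := (frattini ↥P).map P.subtype with hΦ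
  have hΦlt : Φ < P := by
    refine lt_of_le_of_ne (map_subtype_le _) fun e => CfsgLib.Amalgam.frattini_ne_top' (K := P)
      (eq_top_iff.2 fun x _ => ?_)
    exact (mem_map_iff_mem P.subtype_injective).1 (e.symm ▸ x.2 : (x : G) ∈ Φ)
  have hΦfix : ∀ a ∈ zpowers g, ∀ z ∈ Φ, a * z * a⁻¹ = z := by
    intro a ha z hz
    have hb : ⁅Φ, zpowers g⁆ = ⊥ := by
      by_contra hne
      exact hΦlt.not_ge (hPmin.le_of_le ⟨hΦlt.le.trans hPD,
        hgP.trans (CfsgLib.Amalgam.normalizer_le_normalizer_frattini P), hne⟩ hΦlt.le)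
    have h1 := commutator_mem_commutator hz ha
    rw [hb, mem_bot, commutatorElement_eq_one_iff_mul_comm] at h1
    rw [← h1, mul_inv_cancel_right]
  obtain ⟨x, hxP, hxΦ⟩ := SetLike.exists_of_lt hΦlt
  have hxΦ' : (⟨x, hxP⟩ : P) ∉ frattini P := fun hh => hxΦ ⟨_, hh, rfl⟩
  have hreal : IsConj x x⁻¹ := by
    rcases hcase with he | hs
    · have hxx := he.2 x hxP
      rw [pow_two] at hxx
      rw [inv_eq_of_mul_eq_one_right hxx]
    · obtain ⟨y, hy⟩ := exists_conj_inv hP hgP hs hirr hΦfix ⟨x, hxP⟩ hxΦ'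
      exact isConj_iff.2 ⟨y, congrArg Subtype.val hy⟩
  have hxZ := h x (by
    obtain ⟨j, hj⟩ := IsPGroup.iff_orderOf.1 hP ⟨x, hxP⟩
    exact ⟨j, by rwa [Subgroup.orderOf_mk] at hj⟩) hreal
  have hUn : zpowers g ≤ normalizer ((Φ ⊔ zpowers x : Subgroup G) : Set G) := by
    intro a ha
    rw [CfsgLib.Coprime.mem_normalizer_iff_map_conj, Subgroup.map_sup,
      CfsgLib.Coprime.mem_normalizer_iff_map_conj.1
        (CfsgLib.Amalgam.normalizer_le_normalizer_frattini P (hgP ha)), MonoidHom.map_zpowers]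
    congr 2
    simp only [MulEquiv.coe_toMonoidHom, MulAut.conj_apply]
    rw [mem_center_iff.1 hxZ a, mul_inv_cancel_right]
  rcases hirr _ le_sup_left (sup_le hΦlt.le (zpowers_le.2 hxP)) hUn with he | he
  · exact hxΦ (he ▸ mem_sup_right (mem_zpowers x))
  · apply hnt
    rw [← he, commutator_eq_bot_iff_le_centralizer]
    refine sup_le (fun z hz => mem_centralizer_iff.2 fun a ha => ?_) (zpowers_le.2 ?_)
    · have := hΦfix a ha z hz
      rw [mul_inv_eq_iff_eq_mul] at this
      exact this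
    · exact mem_centralizer_iff.2 fun a _ => mem_center_iff.1 hxZ a

end Cfsg.Agent.S3862
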