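import Cfsg.Statements.S3863
import Mathlib.Tactic


set_option autoImplicit false
open Cfsg

namespace Cfsg.Agent.S3863

/-- Let x be an element of the finite group G that is conjugate to its inverse. Then some 2-element conjugates x to its inverse; if the conjugacy class of x has odd size then x ^ 2 = 1; and x lies in, and is conjugate to its inverse inside, every normal subgroup of odd index. -/
theorem result {G : Type*} [Group G] [Finite G] (x : G) (hx : IsConj x x⁻¹) : (∃ t : G, (∃ j : ℕ, orderOf t = 2 ^ j) ∧ t * x * t⁻¹ = x⁻¹) ∧ (Odd (Subgroup.centralizer ({x} : Set G)).index → x ^ 2 = 1) ∧ ∀ (N : Subgroup G) [N.Normal], Odd N.index → ∃ hxN : x ∈ N, IsConj (⟨x, hxN⟩ : N) (⟨x, hxN⟩ : N)⁻¹ := by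
  obtain ⟨c, hc⟩ := isConj_iff.mp hx
  have hcpow : ∀ n : ℕ, c ^ n * x * (c ^ n)⁻¹ = if Even n then x else x⁻¹ := by
    intro n
    induction n with
    | zero => simp
    | succ n ih =>
      have e : c ^ (n + 1) * x * (c ^ (n + 1))⁻¹ = c * (c ^ n * x * (c ^ n)⁻¹) * c⁻¹ := by
        rw [pow_succ']; group
      rw [e, ih]
      by_cases hn : Even n
      · rw [if_pos hn, if_neg (by simpa [Nat.even_add_one] using hn)]; exact hc
      · rw [if_neg hn, if_pos (by simpa [Nat.even_add_one] using hn)]
        rw [show c * x⁻¹ * c⁻¹ = (c * x * c⁻¹)⁻¹ by group, hc, inv_inv]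
  obtain ⟨j, m, hm, hjm⟩ :=
    Nat.exists_eq_pow_mul_and_not_dvd (orderOf_pos c).ne' 2 (by norm_num)
  have hmodd : ¬ Even m := fun h => hm (even_iff_two_dvd.mp h)
  have ht : c ^ m * x * (c ^ m)⁻¹ = x⁻¹ := by rw [hcpow, if_neg hmodd]
  refine ⟨⟨c ^ m, ⟨j, ?_⟩, ht⟩, fun hodd => ?_, fun N hN hidx => ?_⟩
  · rw [orderOf_pow' c (fun h => hm (by rw [h]; exact dvd_zero 2)), Nat.gcd_eq_right (hjm ▸ dvd_mul_left m _),
      hjm, Nat.mul_div_cancel _ (Nat.pos_of_ne_zero fun h => hm (by rw [h]; exact dvd_zero 2))]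
  · by_contra hne
    have hne' : x⁻¹ ≠ x := fun h => hne (by rw [sq]; nth_rewrite 2 [← h]; exact mul_inv_cancel x)
    let O : Set G := (ConjClasses.mk x).carrier
    have hO : Nat.card O = (Subgroup.centralizer ({x} : Set G)).index := by
      have h1 := MulAction.index_stabilizer (ConjAct G) x
      have hst : Subgroup.centralizer ({x} : Set G)
          = (MulAction.stabilizer (ConjAct G) x).comap (ConjAct.toConjAct (G := G)).toMonoidHom := by
        ext g
        rw [Subgroup.mem_centralizer_singleton_iff, Subgroup.mem_comap, MulAction.mem_stabilizer_iff]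
        show g * x = x * g ↔ ConjAct.toConjAct g • x = x
        rw [ConjAct.toConjAct_smul, mul_inv_eq_iff_eq_mul]
      rw [hst, Subgroup.index_comap_of_surjective _ (ConjAct.toConjAct (G := G)).surjective, h1,
        Nat.card_coe_set_eq]
      congr 1
      ext y
      rw [ConjAct.mem_orbit_conjAct]
      exact ConjClasses.mem_carrier_iff_mk_eq.trans
        ((ConjClasses.mk_eq_mk_iff_isConj).trans isConj_comm |>.trans isConj_comm)
    -- inversion is a fixed-point-free involution of the class
    have hinv : ∀ y ∈ O, y⁻¹ ∈ O ∧ y⁻¹ ≠ y := by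
      intro y hy
      rw [ConjClasses.mem_carrier_iff_mk_eq, ConjClasses.mk_eq_mk_iff_isConj] at hy
      obtain ⟨a, ha⟩ := isConj_iff.mp hy.symm
      refine ⟨?_, fun h => hne' ?_⟩
      · rw [ConjClasses.mem_carrier_iff_mk_eq, ConjClasses.mk_eq_mk_iff_isConj]
        refine IsConj.trans ?_ hx.symm
        exact isConj_iff.mpr ⟨a⁻¹, by rw [← ha]; group⟩
      · rw [← ha] at h
        calc x⁻¹ = a⁻¹ * (a * x * a⁻¹)⁻¹ * a := by group
          _ = x := by rw [h]; group
    classical
    have : Fintype O := Fintype.ofFinite O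
    let σ : Equiv.Perm O :=
      ⟨fun y => ⟨(y : G)⁻¹, (hinv y y.2).1⟩, fun y => ⟨(y : G)⁻¹, (hinv y y.2).1⟩,
        fun y => Subtype.ext (inv_inv _), fun y => Subtype.ext (inv_inv _)⟩
    have hσ : σ ^ 2 = 1 := Equiv.ext fun y => Subtype.ext (inv_inv (y : G))
    have hsup : σ.support = Finset.univ := by
      ext y
      simp only [Equiv.Perm.mem_support, Finset.mem_univ, iff_true]
      exact fun h => (hinv y y.2).2 (congrArg Subtype.val h)
    have h2 := Equiv.Perm.two_dvd_card_support hσ
    rw [hsup, Finset.card_univ, ← Nat.card_eq_fintype_card, hO] at h2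
    exact (Nat.not_even_iff_odd.mpr hodd) (even_iff_two_dvd.mpr h2)
  · have hmem : ∀ g : G, g ^ N.index ∈ N := fun g => Subgroup.pow_index_mem N g
    have htN : c ^ (m * N.index) * x * (c ^ (m * N.index))⁻¹ = x⁻¹ := by
      rw [hcpow, if_neg]
      intro h
      rcases Nat.even_mul.mp h with h | h
      · exact hmodd h
      · exact (Nat.not_even_iff_odd.mpr hidx) h
    have hxN : x ∈ N := by
      have h1 : QuotientGroup.mk' N x = (QuotientGroup.mk' N x)⁻¹ := by
        have h2 := congrArg (QuotientGroup.mk' N) htN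
        rw [map_mul, map_mul, map_inv] at h2
        have h3 : QuotientGroup.mk' N (c ^ (m * N.index)) = 1 := by
          refine (QuotientGroup.eq_one_iff _).mpr ?_
          rw [pow_mul]; exact hmem _
        rw [h3, one_mul, inv_one, mul_one] at h2
        rwa [map_inv] at h2
      have h4 : (QuotientGroup.mk' N x) ^ 2 = 1 := by rw [sq]; nth_rewrite 2 [h1]; exact mul_inv_cancel _
      rw [← map_pow] at h4
      have h5 : x ^ 2 ∈ N := (QuotientGroup.eq_one_iff _).mp h4
      obtain ⟨k, hk⟩ := hidx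
      have h6 := hmem x
      rw [hk, pow_add, pow_mul, pow_one] at h6
      exact (Subgroup.mul_mem_cancel_left N (pow_mem h5 k)).mp h6
    refine ⟨hxN, isConj_iff.mpr ⟨⟨c ^ (m * N.index), by rw [pow_mul]; exact hmem _⟩, Subtype.ext ?_⟩⟩
    exact htN

end Cfsg.Agent.S3863
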