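import Cfsg.Statements.S3864
import Cfsg.Agent.Lib.Invol.DihedralFusion
import Cfsg.Agent.Lib.Transfer.ClassTwo

set_option autoImplicit false
open Cfsg

namespace Cfsg.Agent.S3864

open CfsgLib.Invol Subgroup in
theorem index_two_of_residual_ne_top {X : Type*} [Group X] [Finite X]
    (h : Cfsg.pResidual 2 X ≠ ⊤) : ∃ N : Subgroup X, N.Normal ∧ N.index = 2 := by
  have : Fact (Nat.Prime 2) := ⟨Nat.prime_two⟩
  have hR := CfsgLib.Transfer.pResidual_normal (G := X) (p := 2)
  have hQ : IsPGroup 2 (X ⧸ Cfsg.pResidual 2 X) :=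
    CfsgLib.Transfer.isPGroup_quotient_of_pResidual_le le_rfl
  have : Nontrivial (X ⧸ Cfsg.pResidual 2 X) := QuotientGroup.nontrivial_iff.2 h
  obtain ⟨M, hM⟩ := (IsCoatomic.eq_top_or_exists_le_coatom (⊥ : Subgroup (X ⧸ Cfsg.pResidual 2 X))).resolve_left bot_ne_top
  obtain ⟨hMn, hMi⟩ := CfsgLib.Transfer.coatom_index_eq_prime hQ hM.1
  exact ⟨M.comap (QuotientGroup.mk' _), hMn.comap _,
    (index_comap_of_surjective _ (QuotientGroup.mk'_surjective _)).trans hMi⟩

/-- Let G be a finite group whose Sylow 2-subgroups are dihedral of order 2 ^ n with n ≥ 3, and count the conjugacy classes of involutions of G. Then exactly one of the following holds: there is one class of involutions and no normal subgroup of index 2; there are two classes of involutions, a normal subgroup of index 2 and none of index 4; there are three classes of involutions and G has a normal 2-complement. -/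
theorem result {G : Type*} [Group G] [Finite G] (P : Sylow 2 G) (n : ℕ) (hn : 3 ≤ n) (hdih : Nonempty (↥(P : Subgroup G) ≃* DihedralGroup (2 ^ (n - 1)))) : (Nat.card {C : ConjClasses G // ∃ g : G, ConjClasses.mk g = C ∧ orderOf g = 2} = 1 ∧ ∀ N : Subgroup G, N.Normal → N.index ≠ 2) ∨ (Nat.card {C : ConjClasses G // ∃ g : G, ConjClasses.mk g = C ∧ orderOf g = 2} = 2 ∧ (∃ N : Subgroup G, N.Normal ∧ N.index = 2) ∧ ∀ N : Subgroup G, N.Normal → N.index ≠ 4) ∨ (Nat.card {C : ConjClasses G // ∃ g : G, ConjClasses.mk g = C ∧ orderOf g = 2} = 3 ∧ Cfsg.HasNormalPComplement 2 G) := by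
  classical
  open CfsgLib.Invol Subgroup in
  have : Fact (Nat.Prime 2) := ⟨Nat.prime_two⟩
  obtain ⟨e⟩ := hdih
  obtain ⟨D⟩ := exists_dihData P.2 (m := 2 ^ (n - 1)) (Nat.le_self_pow (by omega) 2) e
  have hh : D.h = 2 ^ (n - 2) := by
    have h1 := D.card_eq
    rw [Nat.card_congr e.toEquiv, DihedralGroup.nat_card, show n - 1 = n - 2 + 1 by omega, pow_succ] at h1
    omega
  have hheven : Even (D.h : ℤ) := by
    rw [hh, show n - 2 = n - 3 + 1 by omega, pow_succ, Nat.cast_mul]
    exact ⟨(2 ^ (n - 3) : ℕ), by push_cast; ring⟩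
  rw [Nat.card_congr (Equiv.subtypeEquivRight (q := fun C => ∃ g : G, orderOf g = 2 ∧ ConjClasses.mk g = C)
    (fun C => exists_congr fun g => and_comm))]
  have hz2 : orderOf (dz P D) = 2 := (Subgroup.orderOf_coe _).trans D.orderOf_z
  have ht2 : ∀ j, orderOf (dt P D j) = 2 := fun j => (Subgroup.orderOf_coe _).trans (D.orderOf_zy j)
  by_cases h0 : IsConj (dz P D) (dt P D 0) <;> by_cases h1 : IsConj (dz P D) (dt P D 1)
  · have key : ∀ t : G, orderOf t = 2 → IsConj t (dz P D) := fun t ht => by
      rcases invol_dih P D ht with k | k | k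
      exacts [k, k.trans h0.symm, k.trans h1.symm]
    refine Or.inl ⟨card_classes_one hz2 key, fun N _ => ?_⟩
    exact (fusion_simple_of_one_class P D fun a b ha hb => (key a ha).trans (key b hb).symm).1 N
  rotate_left
  rotate_left
  · refine Or.inr (Or.inr ⟨?_, ?_⟩)
    · refine card_classes_three hz2 (ht2 0) (ht2 1) h0 h1 (fun h => ?_) fun t ht => invol_dih P D ht
      obtain ⟨g, hg⟩ := isConj_iff.1 h
      have hc := hasNormalPComplement_of_cyclic_focal P ((zpowers D.r).map (P : Subgroup G).subtype)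
        (by rw [MonoidHom.map_zpowers]; infer_instance) (residual_le_rot P D h0 h1)
      obtain ⟨k, p, hp, rfl, hkp⟩ := complement_split P hc g
      have h5 := (hkp _ (SetLike.coe_mem (D.r ^ (0 : ℤ) * D.s))
        (by rw [hg]; exact SetLike.coe_mem (D.r ^ (1 : ℤ) * D.s))).1
      rw [hg] at h5
      have h6 : D.r ^ (1 : ℤ) * D.s =
          (⟨p, hp⟩ : (P : Subgroup G)) * (D.r ^ (0 : ℤ) * D.s) * (⟨p, hp⟩ : (P : Subgroup G))⁻¹ :=
        Subtype.ext h5
      rcases D.cases ⟨p, hp⟩ with ⟨i, hi⟩ | ⟨i, hi⟩ <;> rw [hi] at h6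
      · rw [D.conj_refl, mul_left_inj, D.zpow_eq_iff] at h6
        obtain ⟨c, hc⟩ := h6
        have : (1 : ℤ) = 2 * (i - (D.h : ℤ) * c) := by linarith
        omega
      · rw [D.zy_inv, D.zy_mul_zy, ← mul_assoc, ← zpow_add, mul_left_inj, D.zpow_eq_iff] at h6
        obtain ⟨c, hc⟩ := h6
        have : (1 : ℤ) = 2 * (i - (D.h : ℤ) * c) := by linarith
        omega
    · exact hasNormalPComplement_of_cyclic_focal P ((zpowers D.r).map (P : Subgroup G).subtype)
        (by rw [MonoidHom.map_zpowers]; infer_instance) (residual_le_rot P D h0 h1)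
  all_goals
    obtain ⟨a, ha, hna, hcov⟩ : ∃ a : ℤ, IsConj (dz P D) (dt P D a) ∧
        ¬ IsConj (dz P D) (dt P D (a + 1)) ∧
        ∀ t : G, orderOf t = 2 → IsConj t (dz P D) ∨ IsConj t (dt P D (a + 1)) := by
      first
      | exact ⟨0, h0, by simpa using h1, fun t ht => by
          rcases invol_dih P D ht with k | k | k
          exacts [Or.inl k, Or.inl (k.trans h0.symm), Or.inr (by simpa using k)]⟩
      | exact ⟨1, h1, fun h => h0 (h.trans (isConj_dt P D ⟨-1, by norm_num⟩)), fun t ht => by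
          rcases invol_dih P D ht with k | k | k
          exacts [Or.inl k, Or.inr (k.trans (isConj_dt P D ⟨1, by norm_num⟩)), Or.inl (k.trans h1.symm)]⟩
    refine Or.inr (Or.inl ⟨card_classes_two hz2 (ht2 (a + 1)) hna hcov, ?_, ?_⟩)
    · refine index_two_of_residual_ne_top fun hR => ?_
      obtain ⟨M, hM, hle⟩ := residual_le_half P D a ha hna
      refine hM (eq_top_iff.2 fun u _ => ?_)
      rw [hR, top_inf_eq] at hle
      obtain ⟨w, hw, he⟩ := hle u.2
      exact (Subtype.ext he : w = u) ▸ hw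
    · intro N hN h4
      have hcomm : IsMulCommutative (G ⧸ N) :=
        (IsPGroup.isMulCommutative_of_card_eq_prime_sq (p := 2) (by rw [← N.index_eq_card, h4]; norm_num))
      let f : (P : Subgroup G) →* G ⧸ N := (QuotientGroup.mk' N).comp (P : Subgroup G).subtype
      have hsurj : Function.Surjective f := by
        rw [← MonoidHom.range_eq_top, MonoidHom.range_comp, range_subtype]
        refine eq_top_iff.2 fun q _ => ?_
        obtain ⟨g, rfl⟩ := QuotientGroup.mk'_surjective N q
        have htop : (P : Subgroup G) ⊔ N = ⊤ := by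
          rw [sup_comm]
          exact CfsgLib.Transfer.sup_sylow_eq_top P (n := 2) (by rw [h4]; norm_num)
        obtain ⟨p, hp, m, hm, rfl⟩ := mem_sup_of_normal_right.1 (htop ▸ mem_top g)
        refine ⟨p, hp, ?_⟩
        simp [(QuotientGroup.eq_one_iff m).2 hm]
      have hr2 : f D.r * f D.r = 1 := by
        have h := congrArg f D.conj_r
        rw [map_mul, map_mul, map_inv, map_inv, hcomm.is_comm.comm (f D.s), mul_inv_cancel_right] at h
        exact mul_eq_one_iff_eq_inv.2 h
      have hz1 : f D.z = 1 := by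
        obtain ⟨c, hc⟩ := hheven
        rw [DihData.z, hc, ← two_mul, zpow_mul, zpow_two, map_zpow, map_mul, hr2, one_zpow]
      have ht1 : f (D.r ^ a * D.s) = 1 := by
        obtain ⟨g, hg⟩ := isConj_iff.1 ha
        show QuotientGroup.mk' N (dt P D a) = 1
        rw [← hg, map_mul, map_mul, show QuotientGroup.mk' N (dz P D) = 1 from hz1, mul_one,
          map_inv, mul_inv_cancel]
      have hs : f D.s = f D.r ^ (-a) := by
        rw [map_mul, map_zpow] at ht1
        rw [eq_inv_of_mul_eq_one_right ht1, zpow_neg]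
      have hall : ∀ q : G ⧸ N, q ∈ zpowers (f D.r) := by
        intro q
        obtain ⟨x, rfl⟩ := hsurj q
        rcases D.cases x with ⟨i, rfl⟩ | ⟨i, rfl⟩
        · exact ⟨i, (map_zpow f _ _).symm⟩
        · refine ⟨i + -a, ?_⟩
          show f D.r ^ (i + -a) = _
          rw [map_mul, map_zpow, zpow_add, hs]
      have h5 : Nat.card (G ⧸ N) ∣ 2 := by
        rw [← Subgroup.card_top, ← (eq_top_iff.2 fun q _ => hall q : zpowers (f D.r) = ⊤), Nat.card_zpowers]
        exact orderOf_dvd_of_pow_eq_one (by rw [pow_two, hr2])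
      rw [← N.index_eq_card, h4] at h5
      omega

end Cfsg.Agent.S3864
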