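import Cfsg.Statements.S3865
import Cfsg.Agent.Lib.Coprime.MaxClassLocal

set_option autoImplicit false
open Cfsg

namespace Cfsg.Agent.S3865

open Subgroup CfsgLib.Coprime.MaxClassUniform CfsgLib.Coprime.MaxClassLocal
open scoped commutatorElement

theorem commutatorElement_central_mul {Y : Type*} [Group Y] {a b : Y} (ha : ∀ g, Commute a g)
    (hb : ∀ g, Commute b g) (x y : Y) : ⁅a * x, b * y⁆ = ⁅x, y⁆ := by
  have e1 : a * x * (b * y) * (a * x)⁻¹ = x * (b * y) * x⁻¹ := by
    rw [mul_assoc a x, (ha (x * (b * y))).eq, mul_inv_rev, ← (ha x⁻¹).inv_left.eq]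
    simp [mul_assoc]
  have e2 : x * (b * y) * x⁻¹ = b * (x * y * x⁻¹) := by
    rw [← mul_assoc x b y, ← (hb x).eq]
    simp [mul_assoc]
  rw [commutatorElement_def, e1, e2, commutatorElement_def, (hb (x * y * x⁻¹)).eq, mul_inv_rev,
    ← (hb y⁻¹).inv_left.eq]
  simp [mul_assoc]

theorem mem_ker_transfer_iff {p : ℕ} [hp : Fact p.Prime] {Y : Type*} [Group Y] [Finite Y]
    (T : Sylow p Y) (hT : normalizer ((T : Subgroup Y) : Set Y) ≤ centralizer ((T : Subgroup Y) : Set Y))
    (x : Y) : x ∈ (MonoidHom.transferSylow T hT).ker ↔ ¬ p ∣ orderOf x := by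
  constructor
  · intro hx hd
    refine MonoidHom.not_dvd_card_ker_transferSylow T hT (hd.trans ?_)
    exact (Subgroup.orderOf_mk x hx) ▸ orderOf_dvd_natCard (⟨x, hx⟩ : (MonoidHom.transferSylow T hT).ker)
  · intro hx
    set f := MonoidHom.transferSylow T hT
    obtain ⟨k, hk⟩ := (IsPGroup.iff_orderOf.1 T.isPGroup') (f x)
    have h2 : p ^ k ∣ orderOf x := hk ▸ orderOf_map_dvd f x
    rcases Nat.eq_zero_or_pos k with rfl | h0
    · exact MonoidHom.mem_ker.2 (orderOf_eq_one_iff.1 (by rw [hk, pow_zero]))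
    · exact absurd ((dvd_pow_self p h0.ne').trans h2) hx

theorem le_center_of_sylow_card_prime {G : Type*} [Group G] [Finite G] {p : ℕ} [hp : Fact p.Prime]
    (hperf : _root_.commutator G = ⊤) (hcore : Cfsg.pPrimeCore p G = ⊥) (M : Subgroup G) [M.Normal]
    (Z : Subgroup G) (hZM : Z ≤ M) (hZ : Nat.card Z = p) (hidx : ¬ p ∣ Z.relIndex M)
    (hcomm : Z ≤ ⁅centralizer (Z : Set G), centralizer (Z : Set G)⁆) : M ≤ center G := by
  haveI : IsCyclic Z := isCyclic_of_prime_card hZ
  set H := centralizer (Z : Set G) with hH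
  have hZab : Z ≤ H := by
    letI := IsCyclic.commGroup (α := Z)
    intro a ha
    exact mem_centralizer_iff.2 fun b hb =>
      congrArg Subtype.val (mul_comm (⟨b, hb⟩ : Z) ⟨a, ha⟩)
  have hnH : ∀ g ∈ normalizer (Z : Set G), ∀ h ∈ H, g * h * g⁻¹ ∈ H := by
    intro g hg h hh
    refine mem_centralizer_iff.2 fun z hz => ?_
    have hz' : g⁻¹ * z * g ∈ Z := by
      have h3 := (mem_normalizer_iff.1 (inv_mem hg) z).1 hz
      simpa using h3
    have h2 := mem_centralizer_iff.1 hh _ hz'
    calc z * (g * h * g⁻¹) = g * (g⁻¹ * z * g * h) * g⁻¹ := by simp [mul_assoc]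
      _ = g * (h * (g⁻¹ * z * g)) * g⁻¹ := by rw [h2]
      _ = g * h * g⁻¹ * z := by simp [mul_assoc]
  have hTM : IsPGroup p (Z.subgroupOf M) :=
    (IsPGroup.of_card (n := 1) (by rw [hZ, pow_one])).comap_of_injective M.subtype M.subtype_injective
  let T : Sylow p M := hTM.toSylow hidx
  have hTZ : ∀ x : M, x ∈ (T : Subgroup M) ↔ (x : G) ∈ Z := fun _ => Iff.rfl
  have hTn : normalizer ((T : Subgroup M) : Set M) ≤ centralizer ((T : Subgroup M) : Set M) := by
    intro m hm
    have hmn : (m : G) ∈ normalizer (Z : Set G) := by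
      refine mem_normalizer_iff.2 fun z => ⟨fun hz => ?_, fun hz => ?_⟩
      · exact (hTZ _).1 ((mem_normalizer_iff.1 hm ⟨z, hZM hz⟩).1 ((hTZ _).2 hz))
      · have hzM : z ∈ M := by
          have h2 := mul_mem (mul_mem (inv_mem m.2) (hZM hz)) m.2
          simpa [mul_assoc] using h2
        exact (hTZ _).1 ((mem_normalizer_iff.1 hm ⟨z, hzM⟩).2 ((hTZ _).2 hz))
    set Y := M ⊓ H
    have hZY : Z ≤ Y := le_inf hZM hZab
    have hTY : IsPGroup p (Z.subgroupOf Y) :=
      (IsPGroup.of_card (n := 1) (by rw [hZ, pow_one])).comap_of_injective Y.subtype Y.subtype_injective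
    have hidxY : ¬ p ∣ (Z.subgroupOf Y).index := by
      intro hd
      refine hidx (hd.trans ?_)
      rw [← relIndex_mul_relIndex Z Y M hZY inf_le_left]
      exact Dvd.intro _ rfl
    let TY : Sylow p Y := hTY.toSylow hidxY
    have hTYn : normalizer ((TY : Subgroup Y) : Set Y) ≤ centralizer ((TY : Subgroup Y) : Set Y) :=
      fun y _ => mem_centralizer_iff.2 fun z hz =>
        Subtype.ext (mem_centralizer_iff.1 y.2.2 (z : G) (mem_subgroupOf.1 hz))
    set K0 := (MonoidHom.transferSylow TY hTYn).ker with hK0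
    set K := K0.map Y.subtype with hK
    have hKmem : ∀ x : G, x ∈ K ↔ x ∈ Y ∧ ¬ p ∣ orderOf x := by
      intro x
      constructor
      · rintro ⟨y, hy, rfl⟩
        exact ⟨y.2, by
          rw [show orderOf (Y.subtype y) = orderOf y from orderOf_injective Y.subtype Y.subtype_injective y]
          exact (mem_ker_transfer_iff TY hTYn y).1 hy⟩
      · rintro ⟨hy, hx⟩
        exact ⟨⟨x, hy⟩, (mem_ker_transfer_iff TY hTYn _).2 (by rwa [Subgroup.orderOf_mk]), rfl⟩
    have hKconj : ∀ g ∈ normalizer (Z : Set G), ∀ x ∈ K, g * x * g⁻¹ ∈ K := by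
      intro g hg x hx
      obtain ⟨hxY, hxo⟩ := (hKmem x).1 hx
      refine (hKmem _).2 ⟨⟨(inferInstance : M.Normal).conj_mem x hxY.1 g, hnH g hg x hxY.2⟩, ?_⟩
      rwa [show g * x * g⁻¹ = MulAut.conj g x from rfl,
        show orderOf (MulAut.conj g x) = orderOf x from MulEquiv.orderOf_eq _ x]
    have hHn : H ≤ normalizer (Z : Set G) := centralizer_le_normalizer _
    haveI : (K.subgroupOf H).Normal :=
      ⟨fun x hx g => mem_subgroupOf.2 (hKconj _ (hHn g.2) _ (mem_subgroupOf.1 hx))⟩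
    let π := QuotientGroup.mk' (K.subgroupOf H)
    have hcen : ∀ y (hy : y ∈ Y) (q : H ⧸ K.subgroupOf H), Commute (π ⟨y, hy.2⟩) q := by
      intro y hy q
      obtain ⟨g, rfl⟩ := QuotientGroup.mk'_surjective _ q
      obtain ⟨⟨k, z⟩, hkz⟩ := (MonoidHom.ker_transferSylow_isComplement' TY hTYn).2 ⟨y, hy⟩
      have e : (⟨y, hy.2⟩ : H) = ⟨((k : Y) : G), (k : Y).2.2⟩ * ⟨((z : Y) : G), (z : Y).2.2⟩ :=
        Subtype.ext (congrArg Subtype.val hkz).symm
      have hk : π ⟨((k : Y) : G), (k : Y).2.2⟩ = 1 :=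
        (QuotientGroup.eq_one_iff _).2 (mem_subgroupOf.2 ⟨k, k.2, rfl⟩)
      rw [e, map_mul, hk, one_mul]
      refine Commute.map ?_ π
      exact Subtype.ext (mem_centralizer_iff.1 g.2 _ (mem_subgroupOf.1 z.2))
    let φ : H →* H ⧸ K.subgroupOf H := MonoidHom.mk'
      (fun h => π ⟨(m : G) * h * (m : G)⁻¹, hnH _ hmn _ h.2⟩) fun a b => by
        rw [← map_mul]
        congr 1
        exact Subtype.ext (by simp [mul_assoc])
    have hφ : ∀ h : H, ∃ c, (∀ q, Commute c q) ∧ φ h = c * π h := by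
      intro h
      have hc : ⁅(m : G), (h : G)⁆ ∈ Y :=
        mem_inf.2 ⟨by
          rw [commutatorElement_def, mul_assoc, mul_assoc]
          refine mul_mem m.2 ?_
          rw [← mul_assoc]
          exact (inferInstance : M.Normal).conj_mem _ (inv_mem m.2) _,
        mul_mem (hnH _ hmn _ h.2) (inv_mem h.2)⟩
      refine ⟨π ⟨_, hc.2⟩, hcen _ hc, ?_⟩
      rw [← map_mul]
      show π _ = _
      congr 1
      exact Subtype.ext (by simp [commutatorElement_def, mul_assoc])
    have hle : _root_.commutator H ≤ φ.eqLocus π := by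
      rw [commutator_eq_closure, closure_le]
      rintro _ ⟨a, b, rfl⟩
      show φ ⁅a, b⁆ = π ⁅a, b⁆
      obtain ⟨c, hc, hce⟩ := hφ a
      obtain ⟨d, hd, hde⟩ := hφ b
      rw [map_commutatorElement, map_commutatorElement, hce, hde,
        commutatorElement_central_mul hc hd]
    refine mem_centralizer_iff.2 fun z hz => ?_
    have hzG : (z : G) ∈ Z := (hTZ z).1 hz
    have hzc : (⟨(z : G), hZab hzG⟩ : H) ∈ _root_.commutator H := by
      obtain ⟨w, hw, hwe⟩ : (z : G) ∈ (_root_.commutator H).map H.subtype := by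
        rw [map_subtype_commutator]; exact hcomm hzG
      rwa [← show w = ⟨(z : G), hZab hzG⟩ from Subtype.ext hwe]
    have h2 : π ⟨(m : G) * (z : G) * (m : G)⁻¹, _⟩ = π ⟨(z : G), hZab hzG⟩ := hle hzc
    have h3 : (((m : G) * (z : G) * (m : G)⁻¹)⁻¹ * z) ∈ K := mem_subgroupOf.1 (QuotientGroup.eq.1 h2)
    have h4 : (((m : G) * (z : G) * (m : G)⁻¹)⁻¹ * z) ∈ Z :=
      mul_mem (inv_mem ((mem_normalizer_iff.1 hmn _).1 hzG)) hzG
    obtain ⟨-, ho⟩ := (hKmem _).1 h3
    have h5 : orderOf (((m : G) * (z : G) * (m : G)⁻¹)⁻¹ * z) ∣ p := by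
      have h6 := orderOf_dvd_natCard (⟨_, h4⟩ : Z)
      rwa [Subgroup.orderOf_mk, hZ] at h6
    have h7 : (m : G) * (z : G) * (m : G)⁻¹ = z := by
      rcases (Nat.dvd_prime hp.out).1 h5 with e | e
      · exact (inv_mul_eq_one.1 (orderOf_eq_one_iff.1 e))
      · exact absurd (e ▸ dvd_rfl) ho
    exact Subtype.ext (mul_inv_eq_iff_eq_mul.1 h7).symm
  set KM := (MonoidHom.transferSylow T hTn).ker with hKM
  have hKMbot : KM.map M.subtype = ⊥ := by
    refine le_bot_iff.1 (hcore ▸ le_sSup ⟨⟨fun x hx g => ?_⟩, ?_⟩)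
    · obtain ⟨y, hy, rfl⟩ := hx
      refine ⟨⟨g * y * g⁻¹, (inferInstance : M.Normal).conj_mem _ y.2 g⟩,
        (mem_ker_transfer_iff T hTn _).2 ?_, rfl⟩
      rw [Subgroup.orderOf_mk, show g * (y : G) * g⁻¹ = MulAut.conj g (y : G) from rfl,
        show orderOf (MulAut.conj g (y : G)) = orderOf (y : G) from MulEquiv.orderOf_eq _ _,
        show orderOf (y : G) = orderOf y from orderOf_injective M.subtype M.subtype_injective y]
      exact (mem_ker_transfer_iff T hTn y).1 hy
    · rw [card_map_of_injective M.subtype_injective]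
      exact ((hp.out.coprime_iff_not_dvd).2 (MonoidHom.not_dvd_card_ker_transferSylow T hTn)).symm
  have hMZ : M = Z := by
    refine (eq_of_le_of_card_ge hZM ?_).symm
    have h2 := (MonoidHom.ker_transferSylow_isComplement' T hTn).card_mul_card
    rw [← hKM, show Nat.card KM = 1 by rw [← card_map_of_injective M.subtype_injective, hKMbot, card_bot],
      one_mul] at h2
    rw [← h2, Nat.card_congr (subgroupOfEquivOfLe hZM).toEquiv.symm]
    exact le_rfl
  subst hMZ
  intro z hz
  have hle : _root_.commutator G ≤ centralizer (M : Set G) := by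
    rw [commutator_eq_closure, closure_le]
    rintro _ ⟨g, h, rfl⟩
    refine mem_centralizer_iff.2 fun w hw => ?_
    obtain ⟨gen, hgen⟩ := IsCyclic.exists_generator (α := M)
    have key : ∀ g : G, ∃ k : ℤ, ∀ w ∈ M, g * w * g⁻¹ = w ^ k := by
      intro g
      obtain ⟨k, hk⟩ := mem_zpowers_iff.1 (hgen ⟨g * gen * g⁻¹, (inferInstance : M.Normal).conj_mem _ gen.2 g⟩)
      refine ⟨k, fun w hw => ?_⟩
      obtain ⟨j, hj⟩ := mem_zpowers_iff.1 (hgen ⟨w, hw⟩)
      have hk' : (gen : G) ^ k = g * gen * g⁻¹ := congrArg Subtype.val hk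
      have hj' : (gen : G) ^ j = w := congrArg Subtype.val hj
      rw [← hj', ← conj_zpow, ← hk', ← zpow_mul, ← zpow_mul, mul_comm]
    obtain ⟨a, ha⟩ := key g
    obtain ⟨b, hb⟩ := key h
    have hcm : ∀ w ∈ M, g * h * w * (g * h)⁻¹ = h * g * w * (h * g)⁻¹ := by
      intro w hw
      calc g * h * w * (g * h)⁻¹ = g * (h * w * h⁻¹) * g⁻¹ := by simp [mul_assoc]
        _ = (w ^ b) ^ a := by rw [hb w hw, ha _ (zpow_mem hw b)]
        _ = (w ^ a) ^ b := by rw [← zpow_mul, ← zpow_mul, mul_comm]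
        _ = h * (g * w * g⁻¹) * h⁻¹ := by rw [ha w hw, hb _ (zpow_mem hw a)]
        _ = h * g * w * (h * g)⁻¹ := by simp [mul_assoc]
    have hw' : (h * g)⁻¹ * w * (h * g) ∈ M := by
      have h2 := (inferInstance : M.Normal).conj_mem _ hw (h * g)⁻¹
      rwa [inv_inv] at h2
    have h2 := hcm _ hw'
    have h3 : ⁅g, h⁆ * w * ⁅g, h⁆⁻¹ = w := by
      calc ⁅g, h⁆ * w * ⁅g, h⁆⁻¹
          = g * h * ((h * g)⁻¹ * w * (h * g)) * (g * h)⁻¹ := by
            simp [commutatorElement_def, mul_assoc]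
        _ = h * g * ((h * g)⁻¹ * w * (h * g)) * (h * g)⁻¹ := h2
        _ = w := by simp [mul_assoc]
    exact (mul_inv_eq_iff_eq_mul.1 h3).symm
  rw [hperf] at hle
  exact mem_center_iff.2 fun g => (mem_centralizer_iff.1 (hle (mem_top g)) z hz).symm

/-- Let G be a finite group whose Sylow p-subgroup P has order p ^ n with n ≥ 2 and nilpotency class n - 1 (maximal class), whose largest normal subgroup of order prime to p is trivial, and which has no proper normal subgroup of index prime to p. Then either some x ∈ P has a centralizer in G whose order has p-part p ^ 2, or G is quasisimple with centre of order at most p. -/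
theorem result {G : Type*} [Group G] [Finite G] (p : ℕ) [Fact p.Prime] (P : Sylow p G) (n : ℕ) (hP : Nat.card P = p ^ n) (hn : 2 ≤ n) (hmax : Group.nilpotencyClass ↥(P : Subgroup G) = n - 1) (hcore : Cfsg.pPrimeCore p G = ⊥) (hres : ∀ N : Subgroup G, N.Normal → (N.index).Coprime p → N = ⊤) : (∃ x ∈ (P : Subgroup G), (Nat.card (Subgroup.centralizer ({x} : Set G))).factorization p = 2) ∨ (Cfsg.IsQuasisimple G ∧ Nat.card (Subgroup.center G) ≤ p) := by
  have hp := (Fact.out : p.Prime)
  rcases (show n = 2 ∨ 3 ≤ n by omega) with rfl | h3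
  · refine Or.inl ⟨1, one_mem _, ?_⟩
    have hc : Subgroup.centralizer ({1} : Set G) = ⊤ :=
      eq_top_iff.2 fun x _ => mem_centralizer_singleton_iff.2 (Commute.one_right x).eq
    have h1 := P.card_eq_multiplicity
    rw [hP] at h1
    rw [hc, card_top]
    exact (Nat.pow_right_injective hp.two_le h1).symm
  refine or_iff_not_imp_left.2 fun hno => ?_
  push Not at hno
  have h : IsMC p n ↥(P : Subgroup G) := ⟨h3, hP, hmax⟩
  obtain ⟨s, t, hs, ht, hst⟩ := h.exists_two_good
  have hbig : ∀ x : ↥(P : Subgroup G), IsGood n x → Big P x := by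
    intro x hx
    have hle : (Subgroup.centralizer ({x} : Set ↥(P : Subgroup G))).map (P : Subgroup G).subtype ≤
        Subgroup.centralizer ({(x : G)} : Set G) := by
      rintro _ ⟨w, hw, rfl⟩
      exact mem_centralizer_singleton_iff.2 (congrArg Subtype.val (mem_centralizer_singleton_iff.1 hw))
    have h2 := card_dvd_of_le hle
    rw [card_map_of_injective (P : Subgroup G).subtype_injective, hx.card_centralizer h,
      hp.pow_dvd_iff_le_factorization Nat.card_pos.ne'] at h2
    refine (hp.pow_dvd_iff_le_factorization Nat.card_pos.ne').2 ?_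
    have := hno x x.2
    omega
  have hstar : ∀ M : Subgroup G, M.Normal →
      (LC ↥(P : Subgroup G) (max 1 (n - 3))).map (P : Subgroup G).subtype ≤ M → M = ⊤ := by
    intro M hMn hM
    have hsM := mem_of_big h hs (hbig s hs) hMn hM
    have htM := mem_of_big h ht (hbig t ht) hMn hM
    have hPM := h.eq_top_of_gen' hs.1 hst (H := M.subgroupOf (P : Subgroup G)) hsM htM
    refine hres M hMn (hp.coprime_iff_not_dvd.2 fun hd => P.not_dvd_index ?_).symm
    exact hd.trans (index_dvd_of_le (subgroupOf_eq_top.1 hPM))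
  have hL1G : (LC ↥(P : Subgroup G) 1).map (P : Subgroup G).subtype ≤
      ⁅(P : Subgroup G), (P : Subgroup G)⁆ := by
    rw [LC, top_lowerCentralSeries_one, map_subtype_commutator]
  have hperf : _root_.commutator G = ⊤ := by
    refine hstar _ inferInstance ?_
    refine le_trans (map_mono (LC_le (le_max_left 1 (n - 3)))) (hL1G.trans ?_)
    rw [_root_.commutator_def]
    exact commutator_mono le_top le_top
  have hCZ : Subgroup.center G ≤ ZG P := by
    intro c hc
    have hcpow : ∃ k : ℕ, orderOf c = p ^ k := by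
      have hd := orderOf_pos c
      obtain ⟨k, m, hm, hkm⟩ := Nat.exists_eq_pow_mul_and_not_dvd hd.ne' p hp.ne_one
      refine ⟨k, ?_⟩
      have hnorm : (zpowers (c ^ p ^ k)).Normal := by
        refine ⟨fun x hx g => ?_⟩
        rwa [mem_center_iff.1 (zpowers_le.2 (pow_mem hc _) hx) g, mul_inv_cancel_right]
      have hord : orderOf (c ^ p ^ k) = m := by
        rw [orderOf_pow' c (pow_ne_zero _ hp.ne_zero), hkm, Nat.gcd_eq_right (Dvd.intro m rfl),
          Nat.mul_div_cancel_left m (pow_pos hp.pos k)]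
      have hbot : zpowers (c ^ p ^ k) ≤ ⊥ := hcore ▸ le_sSup ⟨hnorm, by
        rw [Nat.card_zpowers, hord]
        exact (hp.coprime_iff_not_dvd.2 hm).symm⟩
      rw [zpowers_le, mem_bot] at hbot
      rw [← hord, hbot, orderOf_one] at hkm
      rwa [mul_one] at hkm
    obtain ⟨k, hk⟩ := hcpow
    have hpg : IsPGroup p (zpowers c) := IsPGroup.of_card (by rw [Nat.card_zpowers, hk])
    obtain ⟨Q, hQ⟩ := hpg.exists_le_sylow
    obtain ⟨g, hg⟩ := MulAction.exists_smul_eq G Q P
    have hcP : c ∈ (P : Subgroup G) := by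
      rw [← hg]
      have h2 := smul_mem_pointwise_smul c (MulAut.conj g) _ (hQ (mem_zpowers c))
      rwa [show MulAut.conj g • c = c by
        show g * c * g⁻¹ = c
        rw [mem_center_iff.1 hc g, mul_inv_cancel_right]] at h2
    exact ⟨⟨c, hcP⟩, mem_center_iff.2 fun x => Subtype.ext (mem_center_iff.1 hc (x : G)), rfl⟩
  have hcard : Nat.card (Subgroup.center G) ≤ p := (card_le_of_le hCZ).trans (card_ZG h).le
  have hne : Subgroup.center G ≠ ⊤ := by
    intro e
    refine hs.not_mem_center h (mem_center_iff.2 fun x => Subtype.ext ?_)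
    exact mem_center_iff.1 (e.ge (mem_top (s : G))) (x : G)
  refine ⟨⟨⟨hperf⟩, ?_⟩, hcard⟩
  haveI : Nontrivial (G ⧸ Subgroup.center G) := by
    obtain ⟨g, -, hg⟩ := SetLike.exists_of_lt (lt_top_iff_ne_top.2 hne)
    exact ⟨⟨(g : G ⧸ Subgroup.center G), 1, fun e => hg ((QuotientGroup.eq_one_iff g).1 e)⟩⟩
  refine ⟨fun N hN => ?_⟩
  set M := N.comap (QuotientGroup.mk' (Subgroup.center G)) with hMdef
  have hMn : M.Normal := hN.comap _
  have hNM : N = M.map (QuotientGroup.mk' (Subgroup.center G)) :=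
    (map_comap_eq_self_of_surjective (QuotientGroup.mk'_surjective _) N).symm
  by_cases hMtop : M = ⊤
  · right
    rw [hNM, hMtop, map_top_of_surjective _ (QuotientGroup.mk'_surjective _)]
  left
  rw [hNM, Subgroup.map_eq_bot_iff, QuotientGroup.ker_mk']
  set D := M.subgroupOf (P : Subgroup G) with hDdef
  haveI : D.Normal := hMn.comap _
  have hnot : ¬ LC ↥(P : Subgroup G) (max 1 (n - 3)) ≤ D := fun hle =>
    hMtop (hstar M hMn (by rintro _ ⟨x, hx, rfl⟩; exact hle hx))
  have hDc : D ≤ Subgroup.center ↥(P : Subgroup G) := by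
    obtain ⟨r, hr⟩ := (IsPGroup.of_card hP).index D
    by_cases hr2 : 2 ≤ r
    · rw [CfsgLib.PGroup.maxClass_normal_eq h3 hP hmax D hr2 hr] at hnot ⊢
      rw [h.center_eq]
      refine LC_le ?_
      by_contra hlt
      exact hnot (LC_le (by omega))
    · exfalso
      refine hnot (le_trans (LC_le (le_max_left 1 (n - 3))) ?_)
      haveI : IsCyclic (↥(P : Subgroup G) ⧸ D) := by
        rcases (show r = 0 ∨ r = 1 by omega) with rfl | rfl
        · haveI : Subsingleton (↥(P : Subgroup G) ⧸ D) :=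
            (Nat.card_eq_one_iff_unique.1 (by rw [← index_eq_card, hr, pow_zero])).1
          infer_instance
        · exact isCyclic_of_prime_card (p := p) (by rw [← index_eq_card, hr, pow_one])
      rw [LC, top_lowerCentralSeries_one, commutator_eq_closure, closure_le]
      rintro _ ⟨a, b, rfl⟩
      rw [SetLike.mem_coe, ← QuotientGroup.eq_one_iff]
      letI := IsCyclic.commGroup (α := ↥(P : Subgroup G) ⧸ D)
      simp only [commutatorElement_def, QuotientGroup.mk_mul, QuotientGroup.mk_inv,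
        mul_inv_cancel_comm, mul_inv_cancel]
  obtain ⟨T, hT⟩ := ((P.isPGroup'.to_le inf_le_left : IsPGroup p ↥((P : Subgroup G) ⊓ M))).exists_le_sylow
  haveI := hMn
  have hTidx : ¬ p ∣ ((P : Subgroup G) ⊓ M).relIndex M := by
    intro hd
    refine P.not_dvd_index (hd.trans ?_)
    have h2 := relIndex_mul_index (inf_le_left : (P : Subgroup G) ⊓ M ≤ P)
    have h4 := relIndex_mul_index (inf_le_right : (P : Subgroup G) ⊓ M ≤ M)
    obtain ⟨j, hj⟩ := relIndex_dvd_index_of_normal M (P : Subgroup G)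
    rw [inf_relIndex_left, ← h4, hj, mul_left_comm] at h2
    exact ⟨j, Nat.eq_of_mul_eq_mul_left (Nat.pos_of_ne_zero (index_ne_zero_of_finite (H := M.subgroupOf (P : Subgroup G)))) h2⟩
  have hDZ : ((P : Subgroup G) ⊓ M) ≤ ZG P := fun x hx => ⟨⟨x, hx.1⟩, hDc hx.2, rfl⟩
  rcases (Nat.dvd_prime hp).1 (card_ZG h ▸ card_dvd_of_le hDZ) with e | e
  · have hMp : ¬ p ∣ Nat.card M := by
      intro hd
      refine hTidx ?_
      have h2 := relIndex_mul_relIndex ⊥ ((P : Subgroup G) ⊓ M) M bot_le inf_le_right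
      rw [relIndex_bot_left, relIndex_bot_left, e, one_mul] at h2
      rwa [h2]
    have hM0 : M ≤ ⊥ := hcore ▸ le_sSup ⟨hMn, (hp.coprime_iff_not_dvd.2 hMp).symm⟩
    exact hM0.trans bot_le
  · have hZeq : (P : Subgroup G) ⊓ M = ZG P := eq_of_le_of_card_ge hDZ (by rw [card_ZG h, e])
    refine le_center_of_sylow_card_prime hperf hcore M (ZG P) (hZeq ▸ inf_le_right) (card_ZG h)
      (hZeq ▸ hTidx) ?_
    refine le_trans ?_ (commutator_mono (le_CZ P) (le_CZ P))
    refine le_trans (map_mono ?_) hL1G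
    rw [h.center_eq]
    exact LC_le (by omega)

end Cfsg.Agent.S3865
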