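import Cfsg.Statements.S3866
import Mathlib.Tactic


set_option autoImplicit false
open Cfsg

namespace Cfsg.Agent.S3866

/-- Let A be a commutative normal subgroup of the finite group G with G generated by A and an element x. Then a ↦ x a x⁻¹ a⁻¹ is a surjective homomorphism from A onto the commutator subgroup of G whose kernel is the centralizer of x in A; in particular the commutator subgroup has order equal to the index in A of that centralizer. -/
theorem result {G : Type*} [Group G] [Finite G] (A : Subgroup G) [A.Normal] (hA : IsMulCommutative A) (x : G) (hgen : A ⊔ Subgroup.zpowers x = ⊤) : (∀ a ∈ A, x * a * x⁻¹ * a⁻¹ ∈ commutator G) ∧ (∀ c ∈ commutator G, ∃ a ∈ A, x * a * x⁻¹ * a⁻¹ = c) ∧ (∀ a ∈ A, ∀ b ∈ A, x * (a * b) * x⁻¹ * (a * b)⁻¹ = (x * a * x⁻¹ * a⁻¹) * (x * b * x⁻¹ * b⁻¹)) ∧ Nat.card (commutator G) * Nat.card ↥(A ⊓ Subgroup.centralizer ({x} : Set G)) = Nat.card A := by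
  have hn : A.Normal := ‹_›
  let f : A →* A :=
    { toFun := fun a => ⟨x * a * x⁻¹ * (a : G)⁻¹, mul_mem (hn.conj_mem a a.2 x) (inv_mem a.2)⟩
      map_one' := by apply Subtype.ext; simp
      map_mul' := fun a b => by
        apply Subtype.ext
        show x * ((a : G) * b) * x⁻¹ * ((a : G) * b)⁻¹
          = (x * a * x⁻¹ * (a : G)⁻¹) * (x * b * x⁻¹ * (b : G)⁻¹)
        have h1 : x * b * x⁻¹ * (b : G)⁻¹ ∈ A := mul_mem (hn.conj_mem b b.2 x) (inv_mem b.2)
        have h2 : (a : G)⁻¹ * (x * b * x⁻¹ * (b : G)⁻¹) = (x * b * x⁻¹ * (b : G)⁻¹) * (a : G)⁻¹ :=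
          congrArg Subtype.val (mul_comm' (⟨_, inv_mem a.2⟩ : A) ⟨_, h1⟩)
        calc x * ((a : G) * b) * x⁻¹ * ((a : G) * b)⁻¹
            = (x * a * x⁻¹) * ((x * b * x⁻¹ * (b : G)⁻¹) * (a : G)⁻¹) := by group
          _ = _ := by rw [← h2]; group }
  have hf : ∀ a : A, (f a : G) = x * a * x⁻¹ * (a : G)⁻¹ := fun a => rfl
  have hmem : ∀ a : A, (f a : G) ∈ commutator G := fun a => by
    rw [hf, commutator_def, ← commutatorElement_def]
    exact Subgroup.commutator_mem_commutator (Subgroup.mem_top _) (Subgroup.mem_top _)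
  let D : Subgroup G := f.range.map A.subtype
  have hDA : ∀ a ∈ A, ∀ d ∈ D, a * d * a⁻¹ = d := by
    rintro a ha _ ⟨d, -, rfl⟩
    have : a * (d : G) = d * a := congrArg Subtype.val (mul_comm' (⟨a, ha⟩ : A) d)
    show a * (d : G) * a⁻¹ = d
    rw [this, mul_inv_cancel_right]
  have hDx : ∀ d ∈ D, x * d * x⁻¹ ∈ D := by
    rintro _ ⟨_, ⟨a, rfl⟩, rfl⟩
    refine ⟨_, ⟨⟨x * a * x⁻¹, hn.conj_mem a a.2 x⟩, rfl⟩, ?_⟩
    show x * (x * (a : G) * x⁻¹) * x⁻¹ * (x * (a : G) * x⁻¹)⁻¹ = x * (x * a * x⁻¹ * (a : G)⁻¹) * x⁻¹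
    group
  let N := Subgroup.normalizer (D : Set G)
  have hNtop : N = ⊤ := by
    rw [eq_top_iff, ← hgen]
    refine sup_le (fun a ha => ?_) (Subgroup.zpowers_le.mpr ?_)
    · rw [Subgroup.mem_normalizer_iff]
      intro d
      constructor
      · intro hd; rw [hDA a ha d hd]; exact hd
      · intro hd
        have := hDA a⁻¹ (inv_mem ha) _ hd
        rw [show a⁻¹ * (a * d * a⁻¹) * a⁻¹⁻¹ = d by group] at this
        rw [this]; exact hd
    · refine Subgroup.mem_normalizer_iff_conj_image_eq.mpr (Set.eq_of_subset_of_ncard_le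
        (by rintro _ ⟨d, hd, rfl⟩; exact hDx d hd) ?_ (Set.toFinite _))
      rw [Set.ncard_image_of_injective _ (MulAut.conj x).injective]
  have hDn : D.Normal := Subgroup.normalizer_eq_top_iff.mp hNtop
  have hle : commutator G ≤ D := by
    rw [← Subgroup.Normal.quotient_commutative_iff_commutator_le]
    let Z : Subgroup (G ⧸ D) := Subgroup.center (G ⧸ D)
    have hcen : ∀ a : A, ∀ b : A,
        Commute (QuotientGroup.mk' D (a : G)) (QuotientGroup.mk' D (b : G)) := fun a b => by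
      rw [commute_iff_eq, ← map_mul, ← map_mul]
      exact congrArg _ (congrArg Subtype.val (mul_comm' a b))
    have hxa : ∀ a : A, Commute (QuotientGroup.mk' D x) (QuotientGroup.mk' D (a : G)) := fun a => by
      rw [commute_iff_eq, ← commutatorElement_eq_one_iff_mul_comm, ← map_commutatorElement]
      exact (QuotientGroup.eq_one_iff _).mpr ⟨f a, ⟨a, rfl⟩, ((hf a).trans (commutatorElement_def _ _).symm : _)⟩
    let s : Set (G ⧸ D) := QuotientGroup.mk' D '' ((A : Set G) ∪ {x})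
    have hs : Subgroup.closure s = ⊤ := by
      have hx : Subgroup.closure ((A : Set G) ∪ {x}) = ⊤ := by
        rw [Subgroup.closure_union, Subgroup.closure_eq, ← Subgroup.zpowers_eq_closure, hgen]
      rw [← MonoidHom.map_closure, hx,
        Subgroup.map_top_of_surjective _ (QuotientGroup.mk'_surjective D)]
    have hcomm : ∀ u ∈ s, ∀ v ∈ s, u * v = v * u := by
      rintro _ ⟨u, hu, rfl⟩ _ ⟨v, hv, rfl⟩
      rcases hu with hu | hu <;> rcases hv with hv | hv
      · exact hcen ⟨u, hu⟩ ⟨v, hv⟩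
      · rw [Set.mem_singleton_iff.mp hv]; exact (hxa ⟨u, hu⟩).symm
      · rw [Set.mem_singleton_iff.mp hu]; exact hxa ⟨v, hv⟩
      · rw [Set.mem_singleton_iff.mp hu, Set.mem_singleton_iff.mp hv]
    have hc := Subgroup.isMulCommutative_closure hcomm
    refine ⟨⟨fun u v => ?_⟩⟩
    exact congrArg Subtype.val (mul_comm' (⟨u, hs ▸ Subgroup.mem_top u⟩ : Subgroup.closure s)
      ⟨v, hs ▸ Subgroup.mem_top v⟩)
  have heq : commutator G = D := le_antisymm hle (by rintro _ ⟨_, ⟨a, rfl⟩, rfl⟩; exact hmem a)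
  refine ⟨fun a ha => hmem ⟨a, ha⟩, fun c hc => ?_,
    fun a ha b hb => congrArg Subtype.val (f.map_mul ⟨a, ha⟩ ⟨b, hb⟩), ?_⟩
  · rw [heq] at hc
    obtain ⟨_, ⟨a, rfl⟩, rfl⟩ := hc
    exact ⟨a, a.2, rfl⟩
  · rw [heq, Subgroup.card_map_of_injective A.subtype_injective]
    have hker : f.ker.map A.subtype = A ⊓ Subgroup.centralizer ({x} : Set G) := by
      ext y
      constructor
      · rintro ⟨a, ha, rfl⟩
        refine Subgroup.mem_inf.mpr ⟨a.2, Subgroup.mem_centralizer_singleton_iff.mpr ?_⟩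
        have h1 : x * a * x⁻¹ * (a : G)⁻¹ = 1 := congrArg Subtype.val (MonoidHom.mem_ker.mp ha)
        show (a : G) * x = x * a
        calc (a : G) * x = (x * a * x⁻¹ * (a : G)⁻¹) * (a * x) := by rw [h1, one_mul]
          _ = x * a := by group
      · intro hy
        obtain ⟨hyA, hyx⟩ := Subgroup.mem_inf.mp hy
        refine ⟨⟨y, hyA⟩, MonoidHom.mem_ker.mpr (Subtype.ext ?_), rfl⟩
        show x * y * x⁻¹ * y⁻¹ = 1
        rw [← Subgroup.mem_centralizer_singleton_iff.mp hyx, mul_inv_cancel_right, mul_inv_cancel]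
    rw [← hker, Subgroup.card_map_of_injective A.subtype_injective, mul_comm, ← Subgroup.index_ker,
      Subgroup.card_mul_index]

end Cfsg.Agent.S3866
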