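import Cfsg.Statements.S3867
import Cfsg.Agent.Lib.Coprime.Hall
import Cfsg.Agent.Lib.Transfer.Frobenius
import Mathlib.GroupTheory.Sylow


set_option autoImplicit false
open Cfsg

namespace Cfsg.Agent.S3867

open Subgroup in
theorem card_sylow_quotient {G : Type*} [Group G] [Finite G] {p : ℕ} [Fact p.Prime] (P : Sylow p G)
    (K : Subgroup G) [K.Normal] :
    Nat.card (Sylow p (G ⧸ K)) = (normalizer ((P : Subgroup G) : Set G) ⊔ K).index := by
  let f := QuotientGroup.mk' K
  let Q := P.mapSurjective (QuotientGroup.mk'_surjective K)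
  have hQ : (Q : Subgroup (G ⧸ K)) = (P : Subgroup G).map f := rfl
  rw [Q.card_eq_index_normalizer]
  have h : normalizer ((Q : Subgroup (G ⧸ K)) : Set (G ⧸ K))
      = (normalizer ((P : Subgroup G) : Set G)).map f := by
    rw [hQ]
    apply le_antisymm
    · intro x hx
      obtain ⟨g, rfl⟩ := QuotientGroup.mk'_surjective K x
      rw [CfsgLib.Coprime.mem_normalizer_iff_map_conj, ← CfsgLib.Coprime.map_conj_map] at hx
      have h2 := congrArg (Subgroup.comap f) hx
      rw [Subgroup.comap_map_eq, Subgroup.comap_map_eq, QuotientGroup.ker_mk'] at h2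
      have hR : ((g • P : Sylow p G) : Subgroup G) ≤ (P : Subgroup G) ⊔ K := h2 ▸ le_sup_left
      obtain ⟨h, hh⟩ := MulAction.exists_smul_eq (↥((P : Subgroup G) ⊔ K))
        ((g • P).subtype hR) (P.subtype le_sup_left)
      simp_rw [Sylow.smul_subtype, Subgroup.smul_def, smul_smul] at hh
      have hh := Sylow.smul_eq_iff_mem_normalizer.mp (Sylow.subtype_injective hh)
      obtain ⟨q, hq, k, hk, hqk⟩ := Subgroup.mem_sup_of_normal_right.mp h.2
      refine ⟨q⁻¹ * ((h : G) * g), mul_mem (inv_mem (Subgroup.le_normalizer hq)) hh, ?_⟩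
      rw [← hqk]
      simp only [map_mul, map_inv, show f k = 1 from (QuotientGroup.eq_one_iff k).mpr hk]
      group
      rfl
    · rintro _ ⟨g, hg, rfl⟩
      rw [CfsgLib.Coprime.mem_normalizer_iff_map_conj, ← CfsgLib.Coprime.map_conj_map,
        CfsgLib.Coprime.mem_normalizer_iff_map_conj.mp hg]
  show (normalizer ((Q : Subgroup (G ⧸ K)) : Set (G ⧸ K))).index = _
  rw [h, Subgroup.index_map, QuotientGroup.ker_mk',
    MonoidHom.range_eq_top.mpr (QuotientGroup.mk'_surjective K), Subgroup.index_top, mul_one]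


/-- Let M and N be nontrivial normal subgroups of the finite group G with M ⊓ N trivial, and let p be a prime. Writing n(X) for the number of Sylow p-subgroups of a group X, one has n(G) · n(G/MN) = n(G/M) · n(G/N). -/
theorem result {G : Type*} [Group G] [Finite G] (p : ℕ) [Fact p.Prime] (M N : Subgroup G) [M.Normal] [N.Normal] (hM : M ≠ ⊥) (hN : N ≠ ⊥) (hMN : M ⊓ N = ⊥) : Nat.card (Sylow p G) * Nat.card (Sylow p (G ⧸ (M ⊔ N))) = Nat.card (Sylow p (G ⧸ M)) * Nat.card (Sylow p (G ⧸ N)) := by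
  obtain ⟨P⟩ : Nonempty (Sylow p G) := inferInstance
  set H := Subgroup.normalizer ((P : Subgroup G) : Set G) with hH
  rw [P.card_eq_index_normalizer, card_sylow_quotient P, card_sylow_quotient P,
    card_sylow_quotient P]
  have hcomm : ∀ m ∈ M, ∀ n ∈ N, m * n = n * m := fun m hm n hn =>
    Subgroup.commute_of_normal_of_disjoint M N inferInstance inferInstance (disjoint_iff.mpr hMN) m n hm hn
  have huniq : ∀ m ∈ M, ∀ n ∈ N, ∀ m' ∈ M, ∀ n' ∈ N, m * n = m' * n' → m = m' ∧ n = n' := by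
    intro m hm n hn m' hm' n' hn' h
    have h1 : m'⁻¹ * m ∈ M ⊓ N := ⟨M.mul_mem (M.inv_mem hm') hm, by
      rw [show m'⁻¹ * m = n' * n⁻¹ by rw [eq_mul_inv_iff_mul_eq, mul_assoc, h]; group]
      exact N.mul_mem hn' (N.inv_mem hn)⟩
    rw [hMN, Subgroup.mem_bot, inv_mul_eq_one] at h1
    subst h1
    exact ⟨rfl, mul_left_cancel h⟩
  have hN' : N ≤ Subgroup.normalizer (M : Set G) := by rw [Subgroup.normalizer_eq_top]; exact le_top
  have hcardMN : Nat.card ↥(M ⊔ N) = Nat.card M * Nat.card N :=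
    CfsgLib.Coprime.card_sup_of_inf_eq_bot hN' (by rw [inf_comm]; exact hMN)
  have hdist : ∀ K : Subgroup G, (∀ m ∈ M, ∀ n ∈ N, m * n ∈ K → m ∈ K) →
      Nat.card ↥(K ⊓ (M ⊔ N)) = Nat.card ↥(K ⊓ M) * Nat.card ↥(K ⊓ N) := by
    intro K hK
    have hd : K ⊓ (M ⊔ N) = (K ⊓ M) ⊔ (K ⊓ N) := by
      refine le_antisymm ?_ (sup_le (inf_le_inf_left _ le_sup_left) (inf_le_inf_left _ le_sup_right))
      rintro x ⟨hx, hx2⟩
      obtain ⟨m, hm, n, hn, rfl⟩ := Subgroup.mem_sup_of_normal_left.mp hx2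
      have hmK := hK m hm n hn hx
      refine Subgroup.mul_mem_sup ⟨hmK, hm⟩ ⟨?_, hn⟩
      have := K.mul_mem (K.inv_mem hmK) hx
      simpa using this
    rw [hd]
    refine CfsgLib.Coprime.card_sup_of_inf_eq_bot ?_ ?_
    · intro x hx
      refine Subgroup.centralizer_le_normalizer _ (Subgroup.mem_centralizer_iff.mpr fun y hy => ?_)
      exact hcomm y hy.2 x hx.2
    · exact le_bot_iff.mp (le_trans (le_inf (inf_le_right.trans inf_le_right) (inf_le_left.trans inf_le_right)) hMN.le)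
  -- the Sylow subgroup splits along `M × N`
  have hPM : ∀ (K : Subgroup G) [K.Normal], ¬ p ∣ (P : Subgroup G).relIndex K := fun K _ h => by
    obtain ⟨S, hS⟩ := CfsgLib.Transfer.exists_sylow_eq_subgroupOf P K
    rw [Subgroup.relIndex, ← hS] at h
    exact S.not_dvd_index h
  set A := (P : Subgroup G) ⊓ M with hA
  set B := (P : Subgroup G) ⊓ N with hB
  have hAB : Nat.card ↥(A ⊔ B) = Nat.card A * Nat.card B := by
    refine CfsgLib.Coprime.card_sup_of_inf_eq_bot ?_ ?_
    · intro x hx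
      refine Subgroup.centralizer_le_normalizer _ (Subgroup.mem_centralizer_iff.mpr fun y hy => ?_)
      exact hcomm y hy.2 x hx.2
    · exact le_bot_iff.mp (le_trans (le_inf (inf_le_right.trans inf_le_right) (inf_le_left.trans inf_le_right)) hMN.le)
  have hle : A ⊔ B ≤ (P : Subgroup G) ⊓ (M ⊔ N) :=
    sup_le (inf_le_inf_left _ le_sup_left) (inf_le_inf_left _ le_sup_right)
  have hTeq : A ⊔ B = (P : Subgroup G) ⊓ (M ⊔ N) := by
    refine SetLike.coe_injective ((Set.toFinite _).eq_of_subset_of_card_le (SetLike.coe_subset_coe.mpr hle) ?_)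
    show Nat.card ↥((P : Subgroup G) ⊓ (M ⊔ N)) ≤ Nat.card ↥(A ⊔ B)
    refine Nat.le_of_dvd Nat.card_pos ?_
    have e1 : Nat.card A * (P : Subgroup G).relIndex M = Nat.card M := by
      rw [← Subgroup.inf_relIndex_right]
      exact CfsgLib.Coprime.card_mul_relIndex inf_le_right
    have e2 : Nat.card B * (P : Subgroup G).relIndex N = Nat.card N := by
      rw [← Subgroup.inf_relIndex_right]
      exact CfsgLib.Coprime.card_mul_relIndex inf_le_right
    have h1 : Nat.card ↥((P : Subgroup G) ⊓ (M ⊔ N)) ∣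
        Nat.card ↥(A ⊔ B) * ((P : Subgroup G).relIndex M * (P : Subgroup G).relIndex N) := by
      refine (Subgroup.card_dvd_of_le inf_le_right).trans (dvd_of_eq ?_)
      rw [hAB, hcardMN, ← e1, ← e2]; ring
    obtain ⟨k, hk⟩ := IsPGroup.iff_card.mp (P.2.to_le (inf_le_left (b := M ⊔ N)))
    refine Nat.Coprime.dvd_of_dvd_mul_right ?_ h1
    rw [hk]
    refine Nat.Coprime.pow_left k (Nat.Coprime.mul_right ?_ ?_)
    · exact (Fact.out : p.Prime).coprime_iff_not_dvd.mpr (hPM M)
    · exact (Fact.out : p.Prime).coprime_iff_not_dvd.mpr (hPM N)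
  have hHdist : ∀ m ∈ M, ∀ n ∈ N, m * n ∈ H → m ∈ H := by
    intro m hm n hn hmn
    have hconj : ∀ g ∈ (P : Subgroup G), m * g * m⁻¹ ∈ (P : Subgroup G) := by
      intro g hg
      have hx : (m * n) * g * (m * n)⁻¹ * g⁻¹ ∈ (P : Subgroup G) :=
        mul_mem ((Subgroup.mem_normalizer_iff.mp hmn g).mp hg) (inv_mem hg)
      have e : (m * n) * g * (m * n)⁻¹ * g⁻¹
          = (m * (n * g * n⁻¹ * g⁻¹) * m⁻¹) * (m * g * m⁻¹ * g⁻¹) := by group
      have hnpart : n * g * n⁻¹ * g⁻¹ ∈ N := by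
        have : n * g * n⁻¹ * g⁻¹ = n * (g * n⁻¹ * g⁻¹) := by group
        rw [this]
        exact N.mul_mem hn (Subgroup.Normal.conj_mem inferInstance _ (N.inv_mem hn) g)
      have hmpart : m * g * m⁻¹ * g⁻¹ ∈ M := by
        have : m * g * m⁻¹ * g⁻¹ = m * (g * m⁻¹ * g⁻¹) := by group
        rw [this]
        exact M.mul_mem hm (Subgroup.Normal.conj_mem inferInstance _ (M.inv_mem hm) g)
      have hn2 : m * (n * g * n⁻¹ * g⁻¹) * m⁻¹ ∈ N := Subgroup.Normal.conj_mem inferInstance _ hnpart m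
      rw [e, ← hcomm _ hmpart _ hn2] at hx
      have hx2 : (m * g * m⁻¹ * g⁻¹) * (m * (n * g * n⁻¹ * g⁻¹) * m⁻¹) ∈ A ⊔ B := by
        rw [hTeq]
        exact ⟨hx, Subgroup.mul_mem_sup hmpart hn2⟩
      obtain ⟨a, ha, b, hb, hab⟩ := (CfsgLib.Coprime.mem_sup_of_le_normalizer (A := B) (N := A)
        (fun x hx => Subgroup.centralizer_le_normalizer _
          (Subgroup.mem_centralizer_iff.mpr fun y hy => hcomm y hy.2 x hx.2))).mp hx2
      have := (huniq a ha.2 b hb.2 _ hmpart _ hn2 hab).1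
      rw [← this.symm.trans rfl] at ha
      have hg' := mul_mem ha.1 hg
      simpa [this, mul_assoc] using hg'
    refine CfsgLib.Coprime.mem_normalizer_iff_map_conj.mpr (SetLike.coe_injective ?_)
    refine (Set.toFinite _).eq_of_subset_of_card_le ?_ ?_
    · rintro _ ⟨g, hg, rfl⟩
      exact hconj g hg
    · exact le_of_eq (CfsgLib.Coprime.card_map_conj m _).symm
  have hc := hdist H hHdist
  have eM : Nat.card ↥(H ⊓ M) * H.relIndex M = Nat.card M := by
    rw [← Subgroup.inf_relIndex_right]; exact CfsgLib.Coprime.card_mul_relIndex inf_le_right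
  have eN : Nat.card ↥(H ⊓ N) * H.relIndex N = Nat.card N := by
    rw [← Subgroup.inf_relIndex_right]; exact CfsgLib.Coprime.card_mul_relIndex inf_le_right
  have eMN : Nat.card ↥(H ⊓ (M ⊔ N)) * H.relIndex (M ⊔ N) = Nat.card ↥(M ⊔ N) := by
    rw [← Subgroup.inf_relIndex_right]; exact CfsgLib.Coprime.card_mul_relIndex inf_le_right
  have hrel : H.relIndex (M ⊔ N) = H.relIndex M * H.relIndex N := by
    rw [hc, hcardMN, ← eM, ← eN] at eMN
    refine Nat.eq_of_mul_eq_mul_left (n := Nat.card ↥(H ⊓ (M ⊔ N))) Nat.card_pos ?_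
    rw [hc, eMN]; ring
  have hidx : ∀ (K : Subgroup G) [K.Normal], H.relIndex K * (H ⊔ K).index = H.index := by
    intro K _
    rw [← Subgroup.relIndex_mul_index (le_sup_left : H ≤ H ⊔ K)]
    congr 1
    have h1 : Nat.card H * H.relIndex (H ⊔ K) = Nat.card ↥(H ⊔ K) := CfsgLib.Coprime.card_mul_relIndex le_sup_left
    have h2 : Nat.card K * K.relIndex H = Nat.card ↥(H ⊔ K) := by
      rw [← Subgroup.relIndex_sup_right]; exact CfsgLib.Coprime.card_mul_relIndex le_sup_right
    have h3 : Nat.card ↥(H ⊓ K) * K.relIndex H = Nat.card H := by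
      rw [inf_comm, ← Subgroup.inf_relIndex_right]; exact CfsgLib.Coprime.card_mul_relIndex inf_le_right
    have h4 : Nat.card ↥(H ⊓ K) * H.relIndex K = Nat.card K := by
      rw [← Subgroup.inf_relIndex_right]; exact CfsgLib.Coprime.card_mul_relIndex inf_le_right
    refine Nat.eq_of_mul_eq_mul_left (n := Nat.card H) Nat.card_pos ?_
    rw [h1, ← h2]
    nth_rewrite 1 [← h3]
    rw [← h4]; ring
  have h1 := hidx M
  have h2 := hidx N
  have h3 := hidx (M ⊔ N)
  rw [hrel] at h3
  have hpos : 0 < H.relIndex M * H.relIndex N := by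
    refine Nat.mul_pos (Nat.pos_of_ne_zero ?_) (Nat.pos_of_ne_zero ?_) <;>
      exact Subgroup.index_ne_zero_of_finite
  refine Nat.eq_of_mul_eq_mul_left hpos ?_
  calc H.relIndex M * H.relIndex N * (H.index * (H ⊔ (M ⊔ N)).index)
      = H.index * (H.relIndex M * H.relIndex N * (H ⊔ (M ⊔ N)).index) := by ring
    _ = H.index * H.index := by rw [h3]
    _ = (H.relIndex M * (H ⊔ M).index) * (H.relIndex N * (H ⊔ N).index) := by rw [h1, h2]
    _ = _ := by ring

end Cfsg.Agent.S3867
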