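import Cfsg.Statements.S3869
import Mathlib.FieldTheory.Finite.Basic
import Mathlib.GroupTheory.Sylow
import Mathlib.Algebra.CharP.Lemmas


set_option autoImplicit false
open Cfsg

namespace Cfsg.Agent.S3869

theorem card_domain {R : Type*} [CommRing R] [IsDomain R] [Finite R] {p q : ℕ} [Fact p.Prime]
    (hq : q.Prime) (hpq : q ≠ p) (hqR : (q : R) = 0) (τ : R) (hτ : τ ^ p = 1) (hτ1 : τ ≠ 1)
    (hgen : Subring.closure ({τ} : Set R) = ⊤) : Nat.card R = q ^ orderOf (q : ZMod p) := by
  classical
  let _ : Fintype R := Fintype.ofFinite R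
  have : Fact q.Prime := ⟨hq⟩
  have : CharP R q := (CharP.charP_iff_prime_eq_zero hq).mpr hqR
  set e := orderOf (q : ZMod p) with he
  have hqe : q ^ e ≡ 1 [MOD p] := by
    rw [← ZMod.natCast_eq_natCast_iff]
    push_cast
    exact pow_orderOf_eq_one _
  have hq0 : (q : ZMod p) ≠ 0 := fun h => hpq
    ((Nat.prime_dvd_prime_iff_eq Fact.out hq).mp ((ZMod.natCast_eq_zero_iff q p).mp h)).symm
  have he0 : 0 < e := orderOf_pos_iff.mpr
    (isOfFinOrder_iff_pow_eq_one.mpr ⟨p - 1, Nat.sub_pos_of_lt (Fact.out : p.Prime).one_lt,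
      ZMod.pow_card_sub_one_eq_one hq0⟩)
  let Fix : Subring R :=
    { carrier := {y | y ^ (q ^ e) = y}
      one_mem' := one_pow _
      mul_mem' := fun {y z} hy hz => by
        show (y * z) ^ (q ^ e) = y * z
        rw [mul_pow, show y ^ (q ^ e) = y from hy, show z ^ (q ^ e) = z from hz]
      zero_mem' := zero_pow (pow_ne_zero e hq.ne_zero)
      add_mem' := fun {y z} hy hz => by
        show (y + z) ^ (q ^ e) = y + z
        rw [add_pow_char_pow, show y ^ (q ^ e) = y from hy, show z ^ (q ^ e) = z from hz]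
      neg_mem' := fun {y} hy => by
        show (-y) ^ (q ^ e) = -y
        have h := add_pow_char_pow y (-y) (p := q) (n := e)
        rw [add_neg_cancel, zero_pow (pow_ne_zero e hq.ne_zero), show y ^ (q ^ e) = y from hy] at h
        exact (neg_eq_of_add_eq_zero_right h.symm).symm }
  have hall : ∀ y : R, y ^ (q ^ e) = y := by
    intro y
    have h : (⊤ : Subring R) ≤ Fix := hgen ▸ Subring.closure_le.mpr (by
      intro w hw
      rw [Set.mem_singleton_iff] at hw
      subst w
      show τ ^ (q ^ e) = τ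
      have h1 := (Nat.div_add_mod (q ^ e) p).symm
      rw [show (q ^ e) % p = 1 by rw [hqe]; exact Nat.one_mod_eq_one.mpr (Fact.out : p.Prime).ne_one] at h1
      rw [h1, pow_add, pow_mul, hτ, one_pow, one_mul, pow_one])
    exact h (Subring.mem_top y)
  let _ : Field R := Fintype.fieldOfDomain R
  have hR : Fintype.card R ≤ q ^ e := by
    have h1 : (Finset.univ : Finset R) ⊆ (Polynomial.X ^ (q ^ e) - Polynomial.X : Polynomial R).roots.toFinset := by
      intro y _
      rw [Multiset.mem_toFinset, Polynomial.mem_roots]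
      · simp [hall y]
      · exact FiniteField.X_pow_card_sub_X_ne_zero R (Nat.one_lt_pow he0.ne' hq.one_lt)
    refine (Finset.card_le_card h1).trans ((Multiset.toFinset_card_le _).trans ?_)
    refine (Polynomial.card_roots' _).trans ?_
    rw [FiniteField.X_pow_card_sub_X_natDegree_eq R (Nat.one_lt_pow he0.ne' hq.one_lt)]
  obtain ⟨⟨d, hd0⟩, -, hd⟩ := FiniteField.card R q
  have hdp : p ∣ q ^ d - 1 := by
    have hne : τ ≠ 0 := fun h => by
      rw [h, zero_pow (Fact.out : p.Prime).ne_zero] at hτ
      exact zero_ne_one hτ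
    have h1 := orderOf_dvd_of_pow_eq_one (FiniteField.pow_card_sub_one_eq_one τ hne)
    rw [orderOf_eq_prime hτ hτ1] at h1
    simpa [hd] using h1
  have hed : e ∣ d := by
    refine orderOf_dvd_of_pow_eq_one ?_
    rw [← Nat.cast_pow, ← Nat.cast_one, ZMod.natCast_eq_natCast_iff]
    exact ((Nat.modEq_iff_dvd' (Nat.one_le_pow _ _ hq.pos)).mpr hdp).symm
  have hde : d ≤ e := by
    refine (Nat.pow_le_pow_iff_right hq.one_lt).mp ?_
    simpa [hd] using hR
  rw [Nat.card_eq_fintype_card, hd, PNat.mk_coe, le_antisymm hde (Nat.le_of_dvd hd0 hed)]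

open scoped IsMulCommutative in
theorem card_of_irreducible {A : Type*} [CommGroup A] [Finite A] [Nontrivial A] {p q : ℕ}
    [Fact p.Prime] (hq : q.Prime) (hpq : q ≠ p) (hexp : ∀ a : A, a ^ q = 1) (t : MulAut A)
    (ht : t ^ p = 1) (ht1 : t ≠ 1)
    (hirr : ∀ S : Subgroup A, (∀ a ∈ S, t a ∈ S) → S = ⊥ ∨ S = ⊤) :
    Nat.card A = q ^ orderOf (q : ZMod p) := by
  classical
  let W := Additive A
  let T : AddMonoid.End W := MonoidHom.toAdditive t.toMonoidHom
  have hTj : ∀ (j : ℕ) (w : W), (T ^ j) w = Additive.ofMul ((t ^ j) w.toMul) := by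
    intro j
    induction j with
    | zero => intro w; rfl
    | succ j ih =>
      intro w
      rw [pow_succ', pow_succ']
      show T ((T ^ j) w) = _
      rw [ih]
      rfl
  have hTp : T ^ p = 1 := by
    refine DFunLike.ext _ _ fun w => ?_
    rw [hTj, ht]
    rfl
  have hT1 : T ≠ 1 := by
    intro h
    apply ht1
    refine MulEquiv.ext fun a => ?_
    exact congrArg Additive.toMul (DFunLike.congr_fun h (Additive.ofMul a))
  let R := Subring.closure ({T} : Set (AddMonoid.End W))
  let TR : R := ⟨T, Subring.subset_closure rfl⟩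
  have hcomm : ∀ y ∈ R, y * T = T * y := by
    intro y hy
    have : R ≤ Subring.centralizer ({T} : Set (AddMonoid.End W)) := by
      refine Subring.closure_le.mpr ?_
      rintro _ rfl
      exact Subring.mem_centralizer_iff.mpr (by rintro _ rfl; rfl)
    exact (Subring.mem_centralizer_iff.mp (this hy) T rfl).symm
  have hinj : ∀ y : R, y ≠ 0 → ∀ w : W, (y : AddMonoid.End W) w = 0 → w = 0 := by
    intro y hy w hw
    let S : Subgroup A :=
      { carrier := {a | (y : AddMonoid.End W) (Additive.ofMul a) = 0}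
        one_mem' := map_zero (y : AddMonoid.End W)
        mul_mem' := fun {a b} ha hb => by
          show (y : AddMonoid.End W) (Additive.ofMul a + Additive.ofMul b) = 0
          rw [map_add, ha, hb, add_zero]
        inv_mem' := fun {a} ha => by
          show (y : AddMonoid.End W) (-Additive.ofMul a) = 0
          rw [map_neg, ha, neg_zero] }
    rcases hirr S (fun a ha => by
        show ((y : AddMonoid.End W) * T) (Additive.ofMul a) = 0
        rw [hcomm y y.2]
        show T ((y : AddMonoid.End W) (Additive.ofMul a)) = 0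
        rw [show (y : AddMonoid.End W) (Additive.ofMul a) = 0 from ha, map_zero]) with h | h
    · have h1 : w.toMul ∈ S := hw
      rw [h, Subgroup.mem_bot] at h1
      exact Additive.toMul.injective h1
    · exfalso
      apply hy
      apply Subtype.ext
      refine DFunLike.ext _ _ fun v => ?_
      have h1 : v.toMul ∈ S := h ▸ Subgroup.mem_top _
      exact h1
  let _ : CommRing R := Subring.closureCommRingOfComm (by rintro _ rfl _ rfl; rfl)
  have : Nontrivial R := by
    refine ⟨⟨1, 0, fun h => ?_⟩⟩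
    obtain ⟨a, ha⟩ := exists_ne (1 : A)
    exact ha (congrArg Additive.toMul (DFunLike.congr_fun (congrArg Subtype.val h) (Additive.ofMul a)))
  have : NoZeroDivisors R := ⟨fun {y z} h => by
    by_contra hne
    push Not at hne
    apply hne.2
    apply Subtype.ext
    refine DFunLike.ext _ _ fun w => ?_
    exact hinj y hne.1 _ (DFunLike.congr_fun (congrArg Subtype.val h) w)⟩
  have : IsDomain R := NoZeroDivisors.to_isDomain R
  have : Finite (AddMonoid.End W) := Finite.of_injective (fun f : AddMonoid.End W => (f : W → W)) DFunLike.coe_injective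
  have hqR : (q : R) = 0 := by
    apply Subtype.ext
    refine DFunLike.ext _ _ fun w => ?_
    rw [show ((q : R) : AddMonoid.End W) = (q : AddMonoid.End W) from map_natCast R.subtype q,
      AddMonoid.End.natCast_apply]
    exact hexp w.toMul
  have hTR : TR ^ p = 1 := Subtype.ext (by rw [SubmonoidClass.coe_pow]; exact hTp)
  obtain ⟨a, ha⟩ := exists_ne (1 : A)
  let ev : R → A := fun y => ((y : AddMonoid.End W) (Additive.ofMul a)).toMul
  have hev : Function.Bijective ev := by
    refine ⟨fun y z h => ?_, ?_⟩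
    · by_contra hne
      refine ha (congrArg Additive.toMul (hinj (y - z) (sub_ne_zero.mpr hne) (Additive.ofMul a) ?_))
      show (y : AddMonoid.End W) (Additive.ofMul a) - (z : AddMonoid.End W) (Additive.ofMul a) = 0
      exact sub_eq_zero.mpr (Additive.toMul.injective h)
    · let S : Subgroup A :=
        { carrier := Set.range ev
          one_mem' := ⟨0, rfl⟩
          mul_mem' := by rintro _ _ ⟨y, rfl⟩ ⟨z, rfl⟩; exact ⟨y + z, rfl⟩
          inv_mem' := by rintro _ ⟨y, rfl⟩; exact ⟨-y, rfl⟩ }
      rcases hirr S (by rintro _ ⟨y, rfl⟩; exact ⟨TR * y, rfl⟩) with h | h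
      · have h1 : a ∈ S := ⟨1, rfl⟩
        rw [h] at h1
        exact absurd (Subgroup.mem_bot.mp h1) ha
      · exact fun b => show b ∈ S from h ▸ Subgroup.mem_top b
  rw [← Nat.card_congr (Equiv.ofBijective ev hev)]
  refine card_domain hq hpq hqR TR hTR (fun h => hT1 (congrArg Subtype.val h)) ?_
  rw [eq_top_iff]
  intro y _
  have h : R ≤ (Subring.closure ({TR} : Set R)).map R.subtype := by
    refine Subring.closure_le.mpr ?_
    rintro _ rfl
    exact ⟨TR, Subring.subset_closure rfl, rfl⟩
  obtain ⟨z, hz, hzy⟩ := h y.2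
  rw [← show z = y from Subtype.ext hzy]
  exact hz

theorem isPClosed_of_isPGroup {H : Type*} [Group H] {p : ℕ} (h : IsPGroup p H) :
    Cfsg.IsPClosed p H := fun P => by
  have : (P : Subgroup H) = ⊤ := (P.3 (IsPGroup.to_le (fun x => by
    obtain ⟨k, hk⟩ := h x
    exact ⟨k, Subtype.ext hk⟩) (le_refl (⊤ : Subgroup H))) le_top).symm
  rw [this]; infer_instance

theorem isPClosed_of_coprime {H : Type*} [Group H] [Finite H] {p : ℕ} [Fact p.Prime]
    (h : ¬ p ∣ Nat.card H) : Cfsg.IsPClosed p H := fun P => by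
  have : (P : Subgroup H) = ⊥ := by
    obtain ⟨k, hk⟩ := IsPGroup.iff_card.mp P.2
    rcases k with _ | k
    · exact (Subgroup.card_eq_one.mp (by simpa using hk))
    · exact absurd ((dvd_pow_self p (Nat.succ_ne_zero k)).trans (hk ▸ (P : Subgroup H).card_subgroup_dvd_card)) h
  rw [this]; infer_instance


/-- Let p and q be distinct primes and G a finite non-abelian group with a normal elementary abelian q-subgroup A that is a minimal normal subgroup of G and has index p. Then A has order q^e with e the multiplicative order of q modulo p, and G is minimal non-p-closed: its Sylow p-subgroups are not normal, while in every proper subgroup and in every proper quotient of G the Sylow p-subgroups are normal. -/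
theorem result {G : Type*} [Group G] [Finite G] {p q : ℕ} [Fact p.Prime] (hq : q.Prime) (hpq : q ≠ p)
    (hna : ¬ IsMulCommutative G) (A : Subgroup G) [A.Normal] (hA : Cfsg.IsElementaryAbelian q A) (hidx : A.index = p)
    (hmin : ∀ B : Subgroup G, B.Normal → B ≤ A → B = ⊥ ∨ B = A) :
    Nat.card ↥A = q ^ orderOf (q : ZMod p) ∧ ¬ Cfsg.IsPClosed p G ∧ (∀ H : Subgroup G, H ≠ ⊤ → Cfsg.IsPClosed p ↥H) ∧
      ∀ (N : Subgroup G) [N.Normal], N ≠ ⊥ → Cfsg.IsPClosed p (G ⧸ N) := by
  obtain ⟨hAc, hAexp, hA0⟩ : IsMulCommutative A ∧ (∀ a ∈ A, a ^ q = 1) ∧ A ≠ ⊥ := by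
    refine ⟨hA.1, hA.2, ?_⟩
    rintro rfl
    apply hna
    have : IsCyclic G := isCyclic_of_prime_card (p := p) (by rw [← hidx, Subgroup.index_bot])
    let _ := this.commGroup
    exact ⟨⟨mul_comm⟩⟩
  have hp := (Fact.out : p.Prime)
  have : Fact q.Prime := ⟨hq⟩
  have hAq : IsPGroup q A := fun a => ⟨1, Subtype.ext (by simpa using hAexp a a.2)⟩
  have hAp : ¬ p ∣ Nat.card A := by
    intro h
    obtain ⟨k, hk⟩ := IsPGroup.iff_card.mp hAq
    exact hpq ((Nat.prime_dvd_prime_iff_eq hp hq).mp (hp.dvd_of_dvd_pow (hk ▸ h))).symm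
  obtain ⟨x, hxo⟩ := exists_prime_orderOf_dvd_card' (G := G) p (hidx ▸ A.index_dvd_card)
  have hxA : x ∉ A := fun h => hAp (hxo ▸ (Subgroup.orderOf_mk x h ▸ orderOf_dvd_natCard (⟨x, h⟩ : A)))
  have htop : ∀ (K : Subgroup G) (g : G), A ≤ K → g ∈ K → g ∉ A → K = ⊤ := by
    intro K g hAK hg hgA
    have h := Subgroup.relIndex_mul_index hAK
    rw [hidx] at h
    rcases hp.eq_one_or_self_of_dvd _ ⟨_, h.symm⟩ with h1 | h1
    · exact absurd (Subgroup.relIndex_eq_one.mp h1 hg) hgA
    · rw [h1] at h
      exact Subgroup.index_eq_one.mp (Nat.eq_of_mul_eq_mul_left hp.pos (h.trans (mul_one p).symm))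
  have hAcomm : ∀ a ∈ A, ∀ b ∈ A, a * b = b * a := fun a ha b hb =>
    congrArg Subtype.val (hAc.is_comm.comm ⟨a, ha⟩ ⟨b, hb⟩)
  have hinv : ∀ (S : Subgroup G) (g : G), S ≤ A → g ∉ A → g ∈ Subgroup.normalizer (S : Set G) →
      S = ⊥ ∨ S = A := by
    intro S g hSA hgA hg
    refine hmin S ?_ hSA
    refine Subgroup.normalizer_eq_top_iff.mp (htop _ g ?_ hg hgA)
    intro a ha
    refine Subgroup.centralizer_le_normalizer _ (Subgroup.mem_centralizer_iff.mpr fun s hs => ?_)
    exact hAcomm s (hSA hs) a ha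
  have hncent : ∀ g : G, g ∉ A → ¬ (∀ a ∈ A, g * a = a * g) := by
    intro g hgA hc
    apply hna
    have h1 : Subgroup.centralizer (A : Set G) = ⊤ := htop _ g
      (fun a ha => Subgroup.mem_centralizer_iff.mpr fun b hb => hAcomm b hb a ha)
      (Subgroup.mem_centralizer_iff.mpr fun b hb => (hc b hb).symm) hgA
    have hAZ : A ≤ Subgroup.center G := fun a ha => Subgroup.mem_center_iff.mpr fun y =>
      (Subgroup.mem_centralizer_iff.mp (h1 ▸ Subgroup.mem_top y : y ∈ Subgroup.centralizer (A : Set G)) a ha).symm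
    have : IsCyclic (G ⧸ A) := isCyclic_of_prime_card (p := p) hidx
    exact ⟨⟨fun a b => commutative_of_cyclic_center_quotient (QuotientGroup.mk' A)
      (by rw [QuotientGroup.ker_mk']; exact hAZ) a b⟩⟩
  have hcard : Nat.card A = q ^ orderOf (q : ZMod p) := by
    open scoped IsMulCommutative in
    have : Nontrivial A := (Subgroup.nontrivial_iff_ne_bot A).mpr hA0
    open scoped IsMulCommutative in
    refine card_of_irreducible (p := p) hq hpq (fun a => Subtype.ext (by simpa using hAexp a a.2))
      (MulAut.conjNormal x) ?_ ?_ ?_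
    · rw [← map_pow, show x ^ p = 1 from hxo ▸ pow_orderOf_eq_one x, map_one]
    · intro h
      refine hncent x hxA fun a ha => ?_
      have := congrArg Subtype.val (MulEquiv.congr_fun h ⟨a, ha⟩)
      rw [MulAut.conjNormal_apply] at this
      exact mul_inv_eq_iff_eq_mul.mp this
    · intro S hS
      rcases hinv (S.map A.subtype) x (Subgroup.map_subtype_le S) hxA (by
        rw [Subgroup.mem_normalizer_iff]
        have hstep : ∀ y ∈ S.map A.subtype, x * y * x⁻¹ ∈ S.map A.subtype := by
          rintro _ ⟨a, ha, rfl⟩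
          exact ⟨_, hS a ha, MulAut.conjNormal_apply x a⟩
        refine fun y => ⟨hstep y, fun hy => ?_⟩
        have hpow : ∀ (j : ℕ) (z : G), z ∈ S.map A.subtype → x ^ j * z * (x ^ j)⁻¹ ∈ S.map A.subtype := by
          intro j
          induction j with
          | zero => intro z hz; simpa using hz
          | succ j ih =>
            intro z hz
            have := hstep _ (ih z hz)
            rw [pow_succ']
            simpa [mul_assoc] using this
        have h2 := hpow (p - 1) _ hy
        have h3 : x ^ (p - 1) * x = 1 := by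
          rw [← pow_succ, Nat.sub_add_cancel hp.one_le, ← hxo, pow_orderOf_eq_one]
        rw [eq_inv_of_mul_eq_one_left h3] at h2
        simpa [mul_assoc] using h2) with h | h
      · exact Or.inl ((Subgroup.map_eq_bot_iff_of_injective _ A.subtype_injective).mp h)
      · right
        apply Subgroup.map_injective A.subtype_injective
        rw [h, ← MonoidHom.range_eq_map, Subgroup.range_subtype]
  refine ⟨hcard, ?_, ?_, ?_⟩
  · intro hcl
    obtain ⟨P⟩ : Nonempty (Sylow p G) := inferInstance
    have := hcl P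
    have hd : Disjoint (P : Subgroup G) A := by
      rw [disjoint_iff]
      obtain ⟨k, hk⟩ := IsPGroup.iff_card.mp P.2
      exact Subgroup.inf_eq_bot_of_coprime (hk ▸ (Nat.Coprime.pow_left k ((hp.coprime_iff_not_dvd).mpr hAp)))
    obtain ⟨y, hy, hyA⟩ : ∃ y ∈ (P : Subgroup G), y ∉ A := by
      by_contra hno
      push Not at hno
      exact P.not_dvd_index ((dvd_of_eq hidx.symm).trans (Subgroup.index_dvd_of_le (fun z hz => hno z hz)))
    exact hncent y hyA fun a ha =>
      Subgroup.commute_of_normal_of_disjoint _ A inferInstance inferInstance hd y a hy ha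
  · intro H hH
    by_cases hle : H ≤ A
    · exact isPClosed_of_coprime fun h => hAp (h.trans (Subgroup.card_dvd_of_le hle))
    obtain ⟨h, hh, hhA⟩ := SetLike.not_le_iff_exists.mp hle
    rcases hinv (H ⊓ A) h inf_le_right hhA (by
      rw [Subgroup.mem_normalizer_iff]
      intro y
      constructor
      · rintro ⟨h1, h2⟩
        exact ⟨H.mul_mem (H.mul_mem hh h1) (H.inv_mem hh), Subgroup.Normal.conj_mem inferInstance _ h2 h⟩
      · rintro ⟨h1, h2⟩
        refine ⟨?_, ?_⟩
        · simpa [mul_assoc] using H.mul_mem (H.mul_mem (H.inv_mem hh) h1) hh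
        · simpa [mul_assoc] using Subgroup.Normal.conj_mem (inferInstance : A.Normal) _ h2 h⁻¹) with hb | hb
    · refine isPClosed_of_isPGroup (IsPGroup.of_injective (G := G ⧸ A) (IsPGroup.of_card (n := 1) (by rw [pow_one]; exact hidx)) ((QuotientGroup.mk' A).comp H.subtype) ?_)
      rw [← MonoidHom.ker_eq_bot_iff]
      refine eq_bot_iff.mpr fun z hz => ?_
      have : (z : G) ∈ H ⊓ A := ⟨z.2, (QuotientGroup.eq_one_iff _).mp hz⟩
      rw [hb, Subgroup.mem_bot] at this
      exact Subgroup.mem_bot.mpr (Subtype.ext this)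
    · exact absurd (htop H h (inf_eq_right.mp hb) hh hhA) hH
  · intro N _ hN
    have hAN : A ≤ N := by
      rcases hmin (N ⊓ A) inferInstance inf_le_right with h | h
      · exfalso
        obtain ⟨n, hn, hn1⟩ := N.bot_or_exists_ne_one.resolve_left hN
        have hnA : n ∉ A := fun h' => hn1 (Subgroup.mem_bot.mp (h ▸ ⟨hn, h'⟩))
        exact hncent n hnA fun a ha =>
          Subgroup.commute_of_normal_of_disjoint N A inferInstance inferInstance (disjoint_iff.mpr h) n a hn ha
      · exact inf_eq_right.mp h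
    refine isPClosed_of_isPGroup (IsPGroup.of_surjective (G := G ⧸ A)
      (IsPGroup.of_card (n := 1) (by rw [pow_one]; exact hidx))
      (QuotientGroup.map A N (MonoidHom.id G) hAN) ?_)
    intro z
    obtain ⟨g, rfl⟩ := QuotientGroup.mk'_surjective N z
    exact ⟨QuotientGroup.mk' A g, rfl⟩

end Cfsg.Agent.S3869
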