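import Cfsg.Statements.S3868
import Cfsg.Agent.S3869
import Cfsg.Agent.Lib.Coprime.Sylow
import Cfsg.Agent.Lib.Solvable.MinNormal
import Mathlib.GroupTheory.Nilpotent


set_option autoImplicit false
open Cfsg

namespace Cfsg.Agent.S3868

open Subgroup in
theorem normal_of_le_normal {G : Type*} [Group G] [Finite G] {p : ℕ} [Fact p.Prime] (P : Sylow p G)
    {H : Subgroup G} [H.Normal] (hP : (P : Subgroup G) ≤ H) (hH : Cfsg.IsPClosed p ↥H) :
    (P : Subgroup G).Normal := by
  have hn := hH (P.subtype hP)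
  have := (P.subtype hP).characteristic_of_normal hn
  have h := ConjAct.normal_of_characteristic_of_normal (G := G) (H := H) (K := (P.subtype hP : Subgroup H))
  rwa [Sylow.coe_subtype, Subgroup.map_subgroupOf_eq_of_le hP] at h

open Subgroup in
theorem normal_sup_of_quotient {G : Type*} [Group G] [Finite G] {p : ℕ} [Fact p.Prime] (P : Sylow p G)
    (N : Subgroup G) [N.Normal] (h : Cfsg.IsPClosed p (G ⧸ N)) : ((P : Subgroup G) ⊔ N).Normal := by
  have h1 : ((P : Subgroup G).map (QuotientGroup.mk' N)).Normal :=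
    h (P.mapSurjective (QuotientGroup.mk'_surjective N))
  have h2 := h1.comap (QuotientGroup.mk' N)
  rwa [Subgroup.comap_map_eq, QuotientGroup.ker_mk'] at h2


/-- Structure of the non-simple minimal non-p-closed groups. Call a finite group p-closed when its Sylow p-subgroups are normal, and minimal non-p-closed when it is not p-closed but every proper subgroup and every proper quotient is. If such a group G is not simple, then there is a prime q ≠ p such that G has order p · q^e, where e is the multiplicative order of q modulo p, and G has a normal subgroup A of order q^e that is elementary abelian and is a minimal normal subgroup of G (so G is the semidirect product of A by a group of order p acting irreducibly). -/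
theorem result {G : Type*} [Group G] [Finite G] {p : ℕ} [Fact p.Prime]
    (hnc : ¬ Cfsg.IsPClosed p G) (hsub : ∀ H : Subgroup G, H ≠ ⊤ → Cfsg.IsPClosed p ↥H)
    (hquo : ∀ (N : Subgroup G) [N.Normal], N ≠ ⊥ → Cfsg.IsPClosed p (G ⧸ N)) (hns : ¬ IsSimpleGroup G) :
    ∃ q : ℕ, q.Prime ∧ q ≠ p ∧ Nat.card G = p * q ^ orderOf (q : ZMod p) ∧
      ∃ A : Subgroup G, A.Normal ∧ Nat.card ↥A = q ^ orderOf (q : ZMod p) ∧ Cfsg.IsElementaryAbelian q A ∧
        ∀ B : Subgroup G, B.Normal → B ≤ A → B = ⊥ ∨ B = A := by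
  have hp := (Fact.out : p.Prime)
  obtain ⟨P, hP⟩ : ∃ P : Sylow p G, ¬ (P : Subgroup G).Normal := not_forall.mp hnc
  have : Nontrivial G := by
    by_contra hnt
    rw [not_nontrivial_iff_subsingleton] at hnt
    exact hP ⟨fun a ha g => by rwa [Subsingleton.elim (g * a * g⁻¹) a]⟩
  obtain ⟨N, hNn, hN0, hNmin⟩ := CfsgLib.Solvable.exists_minimal_normal (G := G)
  have hNtop : N ≠ ⊤ := by
    rintro rfl
    refine hns ⟨fun M hM => ?_⟩
    exact hNmin M hM le_top
  have hsup : ∀ (M : Subgroup G) [M.Normal], M ≠ ⊥ → (P : Subgroup G) ⊔ M = ⊤ := by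
    intro M _ hM
    by_contra hne
    have := normal_sup_of_quotient P M (hquo M hM)
    exact hP (normal_of_le_normal P le_sup_left (hsub _ hne))
  have hPN := hsup N hN0
  have hpN : ¬ p ∣ Nat.card N := by
    intro hdvd
    obtain ⟨S⟩ : Nonempty (Sylow p N) := inferInstance
    have hS0 : (S : Subgroup N) ≠ ⊥ := S.ne_bot_of_dvd_card hdvd
    have := S.characteristic_of_normal (hsub N hNtop S)
    rcases hNmin _ (ConjAct.normal_of_characteristic_of_normal (K := (S : Subgroup N))) (Subgroup.map_subtype_le _) with h | h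
    · exact hS0 ((Subgroup.map_eq_bot_iff_of_injective _ N.subtype_injective).mp h)
    · apply hP
      have hNP : N ≤ (P : Subgroup G) := by
        rw [← h]
        obtain ⟨P', hP'⟩ := (S.2.map N.subtype).exists_le_sylow
        intro x hx
        have hN' : IsPGroup p N := by
          have h1 : (S : Subgroup N) = ⊤ := Subgroup.map_injective N.subtype_injective (by
            rw [h, ← MonoidHom.range_eq_map, Subgroup.range_subtype])
          exact h1 ▸ S.2 |>.of_equiv Subgroup.topEquiv
        have hle := P.3 (P.2.to_sup_of_normal_right hN') le_sup_left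
        rw [h] at hx
        exact hle ▸ Subgroup.mem_sup_right hx
      rw [← sup_eq_left.mpr hNP, hPN]
      infer_instance
  have hcop : (Nat.card (P : Subgroup G)).Coprime (Nat.card N) := by
    obtain ⟨k, hk⟩ := IsPGroup.iff_card.mp P.2
    rw [hk]
    exact Nat.Coprime.pow_left k (hp.coprime_iff_not_dvd.mpr hpN)
  have hPnN : (P : Subgroup G) ≤ Subgroup.normalizer (N : Set G) := by
    rw [Subgroup.normalizer_eq_top]; exact le_top
  have hPsol : Group.IsSolvable (P : Subgroup G) := by
    have := P.2.isNilpotent; infer_instance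
  have hcentral : ∀ Q : Subgroup G, Q ≤ N → (P : Subgroup G) ≤ Subgroup.normalizer (Q : Set G) →
      (P : Subgroup G) ⊔ Q ≠ ⊤ → Q ≤ Subgroup.centralizer ((P : Subgroup G) : Set G) := by
    intro Q hQN hPQ hne x hx
    have hK := hsub _ hne (P.subtype le_sup_left)
    rw [Sylow.coe_subtype] at hK
    refine Subgroup.mem_centralizer_iff.mpr fun y hy => ?_
    have h1 : x * y * x⁻¹ * y⁻¹ ∈ (P : Subgroup G) ⊓ N := by
      refine ⟨(P : Subgroup G).mul_mem ?_ ((P : Subgroup G).inv_mem hy), ?_⟩
      · exact hK.conj_mem ⟨y, Subgroup.mem_sup_left hy⟩ hy ⟨x, Subgroup.mem_sup_right hx⟩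
      · rw [mul_assoc, mul_assoc, ← mul_assoc y]
        exact N.mul_mem (hQN hx) (hNn.conj_mem _ (N.inv_mem (hQN hx)) y)
    rw [CfsgLib.Coprime.inf_eq_bot_of_coprime hcop, Subgroup.mem_bot, mul_inv_eq_one,
      mul_inv_eq_iff_eq_mul] at h1
    exact h1.symm
  have hex : ∃ q : ℕ, q.Prime ∧ IsPGroup q N := by
    by_contra hno
    push Not at hno
    apply hP
    let C := N ⊓ Subgroup.centralizer ((P : Subgroup G) : Set G)
    have hdvd : Nat.card N ∣ Nat.card C := by
      rw [Nat.dvd_iff_prime_pow_dvd_dvd]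
      intro q k hq hqk
      have : Fact q.Prime := ⟨hq⟩
      obtain ⟨S, hS⟩ := CfsgLib.Coprime.exists_invariant_sylow hPnN hcop (Or.inl hPsol) q
      have hle : (S : Subgroup N).map N.subtype ≤ C := by
        refine le_inf (Subgroup.map_subtype_le _) (hcentral _ (Subgroup.map_subtype_le _) hS fun htop => ?_)
        apply hno q hq
        have hc : (S : Subgroup N).map N.subtype = N := by
          refine le_antisymm (Subgroup.map_subtype_le _) fun x hx => ?_
          obtain ⟨s, hs, y, hy, hsy⟩ := (CfsgLib.Coprime.mem_sup_of_le_normalizer hS).mp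
            (sup_comm (P : Subgroup G) _ ▸ htop ▸ Subgroup.mem_top x)
          have : y ∈ (P : Subgroup G) ⊓ N := ⟨hy, by
            rw [show y = s⁻¹ * x by rw [← hsy]; group]
            exact N.mul_mem (N.inv_mem (Subgroup.map_subtype_le _ hs)) hx⟩
          rw [CfsgLib.Coprime.inf_eq_bot_of_coprime hcop, Subgroup.mem_bot] at this
          rw [this, mul_one] at hsy
          exact hsy ▸ hs
        intro x
        obtain ⟨s, hs, hsx⟩ : (x : G) ∈ (S : Subgroup N).map N.subtype := hc.symm ▸ x.2
        obtain ⟨j, hj⟩ := S.2 ⟨s, hs⟩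
        exact ⟨j, by rw [← show s = x from Subtype.ext hsx]; exact congrArg Subtype.val hj⟩
      refine dvd_trans ?_ ((Subgroup.card_map_of_injective N.subtype_injective).symm ▸ Subgroup.card_dvd_of_le hle)
      rw [S.card_eq_multiplicity]
      exact pow_dvd_pow q ((hq.pow_dvd_iff_le_factorization Nat.card_pos.ne').mp hqk)
    have hCN : C = N := SetLike.coe_injective ((Set.toFinite _).eq_of_subset_of_card_le
      (SetLike.coe_subset_coe.mpr inf_le_left) (Nat.le_of_dvd Nat.card_pos hdvd))
    refine Subgroup.normalizer_eq_top_iff.mp (eq_top_iff.mpr ?_)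
    rw [← hPN]
    exact sup_le Subgroup.le_normalizer ((inf_eq_left.mp hCN).trans (Subgroup.centralizer_le_normalizer _))
  obtain ⟨q, hq, hqN⟩ := hex
  have : Fact q.Prime := ⟨hq⟩
  have : Group.IsSolvable N := by have := hqN.isNilpotent; infer_instance
  obtain ⟨q', hq', hq'N, hexp, hcomm⟩ := CfsgLib.Solvable.exists_isPGroup_of_minimal_normal hN0 hNmin
  have hqq : q' = q := by
    have : Fact q'.Prime := ⟨hq'⟩
    obtain ⟨a, ha⟩ := IsPGroup.iff_card.mp hq'N
    obtain ⟨b, hb⟩ := IsPGroup.iff_card.mp hqN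
    have h1 : 1 < Nat.card N := (Subgroup.one_lt_card_iff_ne_bot N).mpr hN0
    have ha0 : a ≠ 0 := fun h => by rw [ha, h, pow_zero] at h1; exact lt_irrefl _ h1
    exact (Nat.prime_dvd_prime_iff_eq hq' hq).mp (hq'.dvd_of_dvd_pow ((dvd_pow_self q' ha0).trans (dvd_of_eq (ha.symm.trans hb))))
  subst hqq
  have hqp : q' ≠ p := by
    rintro rfl
    obtain ⟨b, hb⟩ := IsPGroup.iff_card.mp hqN
    have h1 : 1 < Nat.card N := (Subgroup.one_lt_card_iff_ne_bot N).mpr hN0
    rcases b with _ | b
    · rw [hb, pow_zero] at h1; exact lt_irrefl _ h1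
    · exact hpN (hb ▸ dvd_pow_self _ (Nat.succ_ne_zero b))
  -- every proper subgroup of `P` normal in `P` is trivial
  have hM : ∀ M : Subgroup G, M < (P : Subgroup G) → (P : Subgroup G) ≤ Subgroup.normalizer (M : Set G) → M = ⊥ := by
    intro M hMP hPM
    by_contra hM0
    have hMN : M ⊔ N ≠ ⊤ := by
      intro htop
      refine hMP.ne (le_antisymm hMP.le fun x hx => ?_)
      obtain ⟨n, hn, m, hm, hnm⟩ := (CfsgLib.Coprime.mem_sup_of_le_normalizer (hMP.le.trans hPnN)).mp
        (sup_comm M N ▸ htop ▸ Subgroup.mem_top x)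
      have : n ∈ (P : Subgroup G) ⊓ N := ⟨by
        rw [show n = x * m⁻¹ by rw [← hnm]; group]
        exact (P : Subgroup G).mul_mem hx ((P : Subgroup G).inv_mem (hMP.le hm)), hn⟩
      rw [CfsgLib.Coprime.inf_eq_bot_of_coprime hcop, Subgroup.mem_bot] at this
      rw [this, one_mul] at hnm
      exact hnm ▸ hm
    have hNM : N ≤ Subgroup.normalizer (M : Set G) := by
      intro x hx
      refine Subgroup.centralizer_le_normalizer _ (Subgroup.mem_centralizer_iff.mpr fun y hy => ?_)
      obtain ⟨T, hT⟩ := ((P.2.to_le hMP.le).comap_of_injective (M ⊔ N).subtype (M ⊔ N).subtype_injective).exists_le_sylow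
      have hTn := hsub _ hMN T
      have hd : Disjoint (T : Subgroup ↥(M ⊔ N)) (N.subgroupOf (M ⊔ N)) := by
        rw [disjoint_iff, eq_bot_iff]
        rintro ⟨z, hz0⟩ ⟨hz1, hz2⟩
        obtain ⟨k, hk⟩ := T.2 ⟨⟨z, hz0⟩, hz1⟩
        have h1 : z ^ p ^ k = 1 := by simpa using congrArg Subtype.val (congrArg Subtype.val hk)
        have h2 : orderOf z ∣ Nat.card N := Subgroup.orderOf_mk z hz2 ▸ orderOf_dvd_natCard (⟨z, hz2⟩ : N)
        have h3 : orderOf z = 1 := Nat.eq_one_of_dvd_coprimes
          (Nat.Coprime.pow_left k (hp.coprime_iff_not_dvd.mpr hpN)) (orderOf_dvd_of_pow_eq_one h1) h2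
        exact Subgroup.mem_bot.mpr (Subtype.ext (orderOf_eq_one_iff.mp h3))
      have := Subgroup.commute_of_normal_of_disjoint _ _ hTn inferInstance hd
        (⟨y, Subgroup.mem_sup_left hy⟩ : ↥(M ⊔ N)) ⟨x, Subgroup.mem_sup_right hx⟩ (hT hy) hx
      exact congrArg Subtype.val this
    have : M.Normal := Subgroup.normalizer_eq_top_iff.mp (eq_top_iff.mpr (hPN ▸ sup_le hPM hNM))
    apply hP
    have := normal_sup_of_quotient P M (hquo M hM0)
    rwa [sup_eq_left.mpr hMP.le] at this
  have hcardP : Nat.card (P : Subgroup G) = p := by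
    have hP0 : (P : Subgroup G) ≠ ⊥ := fun h => hP (by rw [h]; infer_instance)
    have : Nontrivial (P : Subgroup G) := (Subgroup.nontrivial_iff_ne_bot _).mpr hP0
    obtain ⟨M, hMn, hMi⟩ := CfsgLib.Coprime.exists_normal_prime_index (↥(P : Subgroup G))
    have hlt : M.map (P : Subgroup G).subtype < (P : Subgroup G) := by
      refine lt_of_le_of_ne (Subgroup.map_subtype_le _) fun h => hMi.ne_one ?_
      rw [Subgroup.index_eq_one]
      refine Subgroup.map_injective (P : Subgroup G).subtype_injective ?_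
      rw [h, ← MonoidHom.range_eq_map, Subgroup.range_subtype]
    have h0 := hM _ hlt (by
      intro g hg
      rw [CfsgLib.Coprime.mem_normalizer_iff_map_conj]
      have h := CfsgLib.Coprime.map_conj_subtype (⟨g, hg⟩ : (P : Subgroup G)) M
      rw [← h, CfsgLib.Coprime.map_conj_of_mem_normalizer]
      rw [Subgroup.normalizer_eq_top]; exact Subgroup.mem_top _)
    rw [Subgroup.map_eq_bot_iff_of_injective _ (P : Subgroup G).subtype_injective] at h0
    rw [h0, Subgroup.index_bot] at hMi
    obtain ⟨k, hk⟩ := IsPGroup.iff_card.mp P.2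
    rcases Nat.Prime.eq_one_of_pow (hk ▸ hMi) with rfl
    rw [hk, pow_one]
  have hcardG : Nat.card G = Nat.card N * p := by
    have h := CfsgLib.Coprime.card_sup_of_inf_eq_bot hPnN (CfsgLib.Coprime.inf_eq_bot_of_coprime hcop)
    rw [sup_comm, hPN, Subgroup.card_top, hcardP] at h
    exact h
  have hidx : N.index = p := Nat.eq_of_mul_eq_mul_left Nat.card_pos (N.card_mul_index.trans hcardG)
  have hna : ¬ IsMulCommutative G := fun hc => hP ⟨fun a ha g => by
    rwa [hc.is_comm.comm g a, mul_inv_cancel_right]⟩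
  have hEA : Cfsg.IsElementaryAbelian q' N := ⟨hcomm, hexp⟩
  obtain ⟨hcN, -⟩ := Cfsg.Agent.S3869.result (p := p) hq' hqp hna N hEA hidx hNmin
  exact ⟨q', hq', hqp, by rw [hcardG, hcN, mul_comm], N, hNn, hcN, hEA, hNmin⟩

end Cfsg.Agent.S3868
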