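import Cfsg.Statements.S3870
import Mathlib.GroupTheory.Sylow
import Mathlib.GroupTheory.Nilpotent


set_option autoImplicit false
open Cfsg

namespace Cfsg.Agent.S3870

theorem sup_isPGroup {G : Type*} [Group G] [Finite G] {p : ℕ} [Fact p.Prime]
    {H : Subgroup G} (hH : Cfsg.IsPClosed p ↥H) {U V : Subgroup G} (hU : IsPGroup p U)
    (hV : IsPGroup p V) (hUH : U ≤ H) (hVH : V ≤ H) : IsPGroup p ↥(U ⊔ V) := by
  obtain ⟨P1, h1⟩ := (hU.comap_of_injective H.subtype H.subtype_injective).exists_le_sylow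
  obtain ⟨P2, h2⟩ := (hV.comap_of_injective H.subtype H.subtype_injective).exists_le_sylow
  have := Sylow.unique_of_normal P1 (hH P1)
  have h12 : P2 = P1 := Subsingleton.elim _ _
  subst h12
  refine (P2.2.map H.subtype).to_le (sup_le ?_ ?_)
  · intro x hx
    exact ⟨⟨x, hUH hx⟩, h1 hx, rfl⟩
  · intro x hx
    exact ⟨⟨x, hVH hx⟩, h2 hx, rfl⟩

theorem exists_mem_normalizer_not_mem {G : Type*} [Group G] [Finite G] {p : ℕ} [Fact p.Prime]
    {D P : Subgroup G} (hP : IsPGroup p P) (hD : D < P) :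
    ∃ x ∈ P, x ∉ D ∧ x ∈ Subgroup.normalizer (D : Set G) := by
  haveI := hP.isNilpotent
  have h : D.subgroupOf P < ⊤ := by
    rw [lt_top_iff_ne_top, Ne, Subgroup.subgroupOf_eq_top]
    exact hD.not_ge
  obtain ⟨x, hx1, hx2⟩ := SetLike.exists_of_lt (Group.normalizerCondition_of_isNilpotent _ h)
  refine ⟨x, x.2, hx2, fun n => ⟨fun hn => ?_, fun hn => ?_⟩⟩
  · exact ((Subgroup.mem_normalizer_iff.1 hx1) ⟨n, hD.le hn⟩).1 hn
  · have hnS : n ∈ P := by
      have := P.mul_mem (P.mul_mem (P.inv_mem x.2) (hD.le hn)) x.2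
      simpa [mul_assoc] using this
    exact ((Subgroup.mem_normalizer_iff.1 hx1) ⟨n, hnS⟩).2 hn

theorem inf_lt_left {G : Type*} [Group G] [Finite G] {p : ℕ} [Fact p.Prime]
    {P Q : Sylow p G} (h : P ≠ Q) : (P : Subgroup G) ⊓ Q < P := by
  refine lt_of_le_of_ne inf_le_left fun he => h ?_
  exact Sylow.ext (P.3 Q.2 (inf_eq_left.mp he)).symm

theorem inf_eq_bot_aux {G : Type*} [Group G] [Finite G] [IsSimpleGroup G] {p : ℕ} [Fact p.Prime]
    (hsub : ∀ H : Subgroup G, H ≠ ⊤ → Cfsg.IsPClosed p ↥H) :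
    ∀ (k : ℕ) (P Q : Sylow p G), P ≠ Q →
      Nat.card G ≤ k + Nat.card ((P : Subgroup G) ⊓ Q : Subgroup G) →
      (P : Subgroup G) ⊓ Q = ⊥ := by
  intro k
  induction k with
  | zero =>
    intro P Q hPQ hk
    exfalso
    have h1 := Subgroup.card_le_card_group ((P : Subgroup G) : Subgroup G)
    have h2 : Nat.card ((P : Subgroup G) ⊓ Q : Subgroup G) < Nat.card (P : Subgroup G) := by
      refine Set.Finite.card_lt_card (Set.toFinite _) ?_
      exact SetLike.coe_ssubset_coe.mpr (inf_lt_left hPQ)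
    omega
  | succ k ih =>
    intro P Q hPQ hk
    by_contra hD
    set D := (P : Subgroup G) ⊓ Q with hDdef
    have hN : Subgroup.normalizer (D : Set G) ≠ ⊤ := by
      intro htop
      rcases (Subgroup.normalizer_eq_top_iff.mp htop).eq_bot_or_eq_top with h | h
      · exact hD h
      · exact absurd h (inf_lt_left hPQ).ne_top
    obtain ⟨x, hxP, hxD, hxN⟩ := exists_mem_normalizer_not_mem P.2 (inf_lt_left hPQ)
    have hDQ : D < Q := by
      rw [hDdef, inf_comm]; exact inf_lt_left (Ne.symm hPQ)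
    obtain ⟨y, hyQ, hyD, hyN⟩ := exists_mem_normalizer_not_mem Q.2 hDQ
    have hU := sup_isPGroup (hsub _ hN) (P.2.to_le (inf_le_left (b := Subgroup.normalizer (D : Set G))))
      (Q.2.to_le (inf_le_left (b := Subgroup.normalizer (D : Set G)))) inf_le_right inf_le_right
    obtain ⟨S, hS⟩ := hU.exists_le_sylow
    have hlt : ∀ T : Sylow p G, D ≤ (T : Subgroup G) → ∀ z ∈ (T : Subgroup G), z ∉ D →
        z ∈ (S : Subgroup G) → T = S := by
      intro T hDT z hzT hzD hzS
      by_contra hne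
      have hDS : D ≤ (S : Subgroup G) := fun w hw =>
        hS (Subgroup.mem_sup_left ⟨hw.1, Subgroup.le_normalizer hw⟩)
      have hle : D < (T : Subgroup G) ⊓ S :=
        lt_of_le_of_ne (le_inf hDT hDS) fun he => hzD (he ▸ ⟨hzT, hzS⟩)
      have hc : Nat.card D < Nat.card ((T : Subgroup G) ⊓ S : Subgroup G) :=
        Set.Finite.card_lt_card (Set.toFinite _) (SetLike.coe_ssubset_coe.mpr hle)
      have := ih T S hne (by omega)
      rw [this] at hle
      exact not_lt_bot hle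
    have hPS := hlt P inf_le_left x hxP hxD (hS (Subgroup.mem_sup_left ⟨hxP, hxN⟩))
    have hQS := hlt Q inf_le_right y hyQ hyD (hS (Subgroup.mem_sup_right ⟨hyQ, hyN⟩))
    exact hPQ (hPS.trans hQS.symm)


/-- Let G be a finite simple group whose Sylow p-subgroups are not normal but such that every proper subgroup of G has a normal Sylow p-subgroup. Then any two distinct Sylow p-subgroups of G intersect trivially, and for every Sylow p-subgroup P the normalizer of every non-identity subgroup of P lies in the normalizer of P. -/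
theorem result {G : Type*} [Group G] [Finite G] [IsSimpleGroup G] {p : ℕ} [Fact p.Prime]
    (hnc : ¬ Cfsg.IsPClosed p G) (hsub : ∀ H : Subgroup G, H ≠ ⊤ → Cfsg.IsPClosed p ↥H) :
    (∀ P Q : Sylow p G, P ≠ Q → (P : Subgroup G) ⊓ (Q : Subgroup G) = ⊥) ∧
      ∀ (P : Sylow p G) (R : Subgroup G), R ≤ P → R ≠ ⊥ →
        Subgroup.normalizer (R : Set G) ≤ Subgroup.normalizer ((P : Subgroup G) : Set G) := by
  have hTI : ∀ P Q : Sylow p G, P ≠ Q → (P : Subgroup G) ⊓ (Q : Subgroup G) = ⊥ := fun P Q hPQ =>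
    inf_eq_bot_aux hsub (Nat.card G) P Q hPQ (Nat.le_add_right _ _)
  refine ⟨hTI, fun P R hRP hR g hg => ?_⟩
  refine Sylow.smul_eq_iff_mem_normalizer.mp ?_
  by_contra hne
  refine hR (le_bot_iff.mp ?_)
  rw [← hTI _ _ hne]
  refine le_inf ?_ hRP
  intro r hr
  rw [Sylow.coe_subgroup_smul, Subgroup.mem_pointwise_smul_iff_inv_smul_mem]
  refine hRP ?_
  have := ((Subgroup.mem_normalizer_iff.mp (inv_mem hg)) r).mp hr
  simpa [MulAut.smul_def, mul_assoc] using this

end Cfsg.Agent.S3870
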