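import Cfsg.Statements.S3872
import Cfsg.Agent.Lib.StructC.UniqueInvol
import Cfsg.Agent.S4209
import Cfsg.Agent.S4225
import Cfsg.Agent.Lib.Solvable.Frattini2


set_option autoImplicit false
open Cfsg

namespace Cfsg.Agent.S3872



/-- Say that a finite group is p-exponent closed when its elements of order dividing p form a subgroup. Let G be a finite p-group that is not p-exponent closed, but all of whose proper subgroups and proper quotients are. Then G is generated by two elements, has nilpotency class at least p, has exponent p², has cyclic center, and has order at least p^(p+1). -/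
theorem result {G : Type*} [Group G] [Finite G] {p : ℕ} [Fact p.Prime] (hG : IsPGroup p G)
    (hnc : ¬ (∃ H : Subgroup G, (H : Set G) = {g : G | g ^ p = 1})) (hsub : ∀ K : Subgroup G, K ≠ ⊤ → (∃ H : Subgroup ↥K, (H : Set ↥K) = {g : ↥K | g ^ p = 1}))
    (hquo : ∀ (N : Subgroup G) [N.Normal], N ≠ ⊥ → (∃ H : Subgroup (G ⧸ N), (H : Set (G ⧸ N)) = {g : (G ⧸ N) | g ^ p = 1})) :
    (∃ x y : G, Subgroup.closure ({x, y} : Set G) = ⊤) ∧ (⊤ : Subgroup G).lowerCentralSeries (p - 1) ≠ ⊥ ∧
      Monoid.exponent G = p ^ 2 ∧ IsCyclic ↥(Subgroup.center G) ∧ p ^ (p + 1) ≤ Nat.card G := by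
  classical
  haveI := hG.isNilpotent
  set Ω : Set G := {g : G | g ^ p = 1} with hΩ
  have hp : p.Prime := Fact.out
  -- two elements of order `p` whose product has larger order
  obtain ⟨x, y, hx, hy, hxy⟩ : ∃ x y : G, x ^ p = 1 ∧ y ^ p = 1 ∧ (x * y) ^ p ≠ 1 := by
    by_contra h
    push Not at h
    exact hnc ⟨{ carrier := Ω
                 one_mem' := one_pow p
                 mul_mem' := fun {a b} ha hb => h a b ha hb
                 inv_mem' := fun {a} (ha : a ^ p = 1) => show a⁻¹ ^ p = 1 by rw [inv_pow, ha, inv_one] }, rfl⟩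
  have hgen : Subgroup.closure ({x, y} : Set G) = ⊤ := by
    by_contra hne
    obtain ⟨H, hH⟩ := hsub _ hne
    have hx' : (⟨x, Subgroup.subset_closure (by simp)⟩ : Subgroup.closure ({x, y} : Set G)) ∈ H := by
      rw [← SetLike.mem_coe, hH]; exact Subtype.ext hx
    have hy' : (⟨y, Subgroup.subset_closure (by simp)⟩ : Subgroup.closure ({x, y} : Set G)) ∈ H := by
      rw [← SetLike.mem_coe, hH]; exact Subtype.ext hy
    have := H.mul_mem hx' hy'
    rw [← SetLike.mem_coe, hH] at this
    exact hxy (congrArg Subtype.val this)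
  have hcl : (⊤ : Subgroup G).lowerCentralSeries (p - 1) ≠ ⊥ := by
    intro h
    obtain ⟨H, -, hH⟩ := Cfsg.Agent.S4225.result (Cfsg.Agent.S4209.result hG h) 1
    exact hnc ⟨H, by rw [hH, pow_one]⟩
  have hp2 : 1 < Nat.card G := by
    refine Finite.one_lt_card_iff_nontrivial.2 ⟨⟨x * y, 1, fun h => hxy (by rw [h, one_pow])⟩⟩
  -- every proper quotient has exponent `p`
  have hquo' : ∀ (N : Subgroup G) [N.Normal], N ≠ ⊥ → ∀ g : G, g ^ p ∈ N := by
    intro N _ hN g
    obtain ⟨H, hH⟩ := hquo N hN
    have hle : (⊤ : Subgroup G) ≤ H.comap (QuotientGroup.mk' N) := by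
      rw [← hgen, Subgroup.closure_le]
      rintro a (rfl | rfl)
      · show QuotientGroup.mk' N a ∈ (H : Set (G ⧸ N))
        rw [hH, Set.mem_setOf_eq, ← map_pow, hx, map_one]
      · show QuotientGroup.mk' N a ∈ (H : Set (G ⧸ N))
        rw [hH, Set.mem_setOf_eq, ← map_pow, hy, map_one]
    have h := hle (Subgroup.mem_top g)
    rw [Subgroup.mem_comap, ← SetLike.mem_coe, hH, Set.mem_setOf_eq, ← map_pow, QuotientGroup.mk'_apply,
      QuotientGroup.eq_one_iff] at h
    exact h
  haveI : Nontrivial G := Finite.one_lt_card_iff_nontrivial.1 hp2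
  have hprime : ∀ C : Subgroup G, C ≠ ⊥ → ∃ z ∈ C, z ≠ 1 ∧ z ^ p = 1 := by
    intro C hC
    haveI : Nontrivial C := (Subgroup.nontrivial_iff_ne_bot C).2 hC
    obtain ⟨n, hn0, hn⟩ := (hG.to_subgroup C).nontrivial_iff_card.1 inferInstance
    obtain ⟨z, hz⟩ := exists_prime_orderOf_dvd_card' (G := C) p (by rw [hn]; exact dvd_pow_self p hn0.ne')
    refine ⟨z, z.2, ?_, ?_⟩
    · intro h
      rw [show z = 1 from Subtype.ext h, orderOf_one] at hz
      exact hp.ne_one hz.symm
    · rw [← hz, ← Subgroup.coe_pow, pow_orderOf_eq_one, Subgroup.coe_one]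
  haveI := hG.center_nontrivial
  obtain ⟨z, hz, hz1, hzp⟩ := hprime (Subgroup.center G) ((Subgroup.nontrivial_iff_ne_bot _).1 inferInstance)
  have hzn : ∀ w ∈ Subgroup.center G, (Subgroup.zpowers w).Normal := fun w hw =>
    ⟨fun a ha g => by
      have hac : a ∈ Subgroup.center G := (Subgroup.zpowers_le.2 hw) ha
      rw [← Subgroup.mem_center_iff.1 hac g |>.symm, mul_inv_cancel_right]
      exact ha⟩
  haveI := hzn z hz
  have hzne : Subgroup.zpowers z ≠ ⊥ := by rwa [Ne, Subgroup.zpowers_eq_bot]
  -- central subgroups of order `p` coincide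
  have huniq : ∀ w ∈ Subgroup.center G, w ^ p = 1 → w ∈ Subgroup.zpowers z := by
    intro w hw hwp
    by_contra hwz
    haveI := hzn w hw
    have hw1 : Subgroup.zpowers w ≠ ⊥ := by
      rw [Ne, Subgroup.zpowers_eq_bot]
      exact fun h => hwz (h ▸ one_mem _)
    have hinf : Subgroup.zpowers w ⊓ Subgroup.zpowers z = ⊥ := by
      by_contra hne
      have hle : Subgroup.zpowers w ⊓ Subgroup.zpowers z = Subgroup.zpowers w := by
        refine Subgroup.eq_of_le_of_card_ge inf_le_left ?_
        have hd := Subgroup.card_dvd_of_le (inf_le_left : Subgroup.zpowers w ⊓ Subgroup.zpowers z ≤ _)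
        have hc : Nat.card (Subgroup.zpowers w) = p := by
          rw [Nat.card_zpowers]
          exact orderOf_eq_prime hwp fun h => hwz (h ▸ one_mem _)
        rw [hc] at hd ⊢
        rcases (Nat.dvd_prime hp).1 hd with h | h
        · exact absurd (Subgroup.card_eq_one.1 h) hne
        · exact h.ge
      exact hwz ((hle.ge.trans inf_le_right) (Subgroup.mem_zpowers w))
    refine hxy ?_
    rw [← Subgroup.mem_bot, ← hinf]
    exact Subgroup.mem_inf.2 ⟨hquo' _ hw1 _, hquo' _ hzne _⟩
  refine ⟨⟨x, y, hgen⟩, hcl, ?_, ?_, ?_⟩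
  · have hzo : orderOf z = p := orderOf_eq_prime hzp hz1
    refine Nat.dvd_antisymm ?_ ?_
    · refine Monoid.exponent_dvd_of_forall_pow_eq_one fun g => ?_
      obtain ⟨i, hi⟩ := hquo' _ hzne g
      rw [pow_two, pow_mul, ← hi, ← zpow_natCast, zpow_comm, zpow_natCast, hzp, one_zpow]
    · have hd : orderOf ((x * y) ^ p) = p := by
        refine orderOf_eq_prime ?_ hxy
        obtain ⟨i, hi⟩ := hquo' _ hzne (x * y)
        rw [← hi, ← zpow_natCast, zpow_comm, zpow_natCast, hzp, one_zpow]
      obtain ⟨k, hk⟩ := IsPGroup.iff_orderOf.1 hG (x * y)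
      have h2 : 2 ≤ k := by
        by_contra hk2
        refine hxy (orderOf_dvd_iff_pow_eq_one.1 ?_)
        rw [hk]
        exact (Nat.pow_dvd_pow p (by omega : k ≤ 1)).trans (by rw [pow_one])
      refine dvd_trans ?_ (Monoid.order_dvd_exponent (x * y))
      rw [hk]
      exact Nat.pow_dvd_pow p h2
  · haveI hA : IsMulCommutative (⊤ : Subgroup (Subgroup.center G)) :=
      IsMulCommutative.mk ⟨fun a b => Subtype.ext (Subtype.ext (Subgroup.mem_center_iff.1 b.1.2 (a.1 : G)))⟩
    haveI := CfsgLib.StructC.isCyclic_of_comm_of_unique (p := p) (hG.to_subgroup (Subgroup.center G))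
      (fun a b ha hb _ => ?_) ⊤ hA
    · exact isCyclic_of_surjective (Subgroup.topEquiv (G := Subgroup.center G)) (MulEquiv.surjective _)
    have hap : (a : G) ^ p = 1 := congrArg Subtype.val (ha ▸ pow_orderOf_eq_one a)
    have hbp : (b : G) ^ p = 1 := congrArg Subtype.val (hb ▸ pow_orderOf_eq_one b)
    obtain ⟨i, hi⟩ := huniq _ a.2 hap
    have hza : Subgroup.zpowers (a : G) = Subgroup.zpowers z := by
      refine Subgroup.eq_of_le_of_card_ge (Subgroup.zpowers_le.2 (huniq _ a.2 hap)) ?_
      rw [Nat.card_zpowers, Nat.card_zpowers, Subgroup.orderOf_coe, ha, orderOf_eq_prime hzp hz1]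
    obtain ⟨j, hj⟩ := hza.ge (huniq _ b.2 hbp)
    exact ⟨j, Subtype.ext (by simpa using hj)⟩
  · -- the lower central series
    have hlt : ∀ i, (⊤ : Subgroup G).lowerCentralSeries i ≠ ⊥ →
        (⊤ : Subgroup G).lowerCentralSeries (i + 1) ≠ (⊤ : Subgroup G).lowerCentralSeries i := by
      intro i hi he
      have hstab : ∀ j, (⊤ : Subgroup G).lowerCentralSeries (i + j) = (⊤ : Subgroup G).lowerCentralSeries i := by
        intro j
        induction j with
        | zero => rfl
        | succ j ih => rw [← add_assoc, Subgroup.lowerCentralSeries_succ, ih, ← Subgroup.lowerCentralSeries_succ, he]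
      obtain ⟨n, hn⟩ := (Subgroup.isNilpotent_iff_lowerCentralSeries (⊤ : Subgroup G)).1
        (Group.isNilpotent_top.2 inferInstance)
      exact hi (by rw [← hstab n, eq_bot_iff, ← hn]; exact Subgroup.lowerCentralSeries_antitone _ (by omega))
    have hanti := Subgroup.lowerCentralSeries_antitone (⊤ : Subgroup G)
    have hne : ∀ i ≤ p - 1, (⊤ : Subgroup G).lowerCentralSeries i ≠ ⊥ := fun i hi h =>
      hcl (eq_bot_iff.2 (h ▸ hanti hi))
    have hgrow : ∀ j ≤ p - 1, p ^ (j + 1) ≤ Nat.card ((⊤ : Subgroup G).lowerCentralSeries (p - 1 - j)) := by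
      intro j hj
      induction j with
      | zero =>
        haveI : Nontrivial ((⊤ : Subgroup G).lowerCentralSeries (p - 1)) :=
          (Subgroup.nontrivial_iff_ne_bot _).2 hcl
        obtain ⟨n, hn0, hn⟩ := (hG.to_subgroup _).nontrivial_iff_card.1
          (inferInstance : Nontrivial ((⊤ : Subgroup G).lowerCentralSeries (p - 1)))
        rw [Nat.sub_zero, hn]
        exact Nat.pow_le_pow_right hp.pos hn0
      | succ j ih =>
        have ih' := ih (by omega)
        have he : p - 1 - j = (p - 1 - (j + 1)) + 1 := by omega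
        rw [he] at ih'
        obtain ⟨a, ha⟩ := IsPGroup.iff_card.1 (hG.to_subgroup ((⊤ : Subgroup G).lowerCentralSeries (p - 1 - (j + 1) + 1)))
        obtain ⟨b, hb⟩ := IsPGroup.iff_card.1 (hG.to_subgroup ((⊤ : Subgroup G).lowerCentralSeries (p - 1 - (j + 1))))
        rw [ha] at ih'
        rw [hb]
        have hab : a < b := by
          have hle := hanti (Nat.le_succ (p - 1 - (j + 1)))
          have := Nat.le_of_dvd Nat.card_pos (Subgroup.card_dvd_of_le hle)
          rw [ha, hb] at this
          rcases (Nat.pow_le_pow_iff_right hp.one_lt).1 this |>.lt_or_eq with h | h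
          · exact h
          · exact absurd (Subgroup.eq_of_le_of_card_ge hle (by rw [ha, hb, h]))
              (hlt _ (hne _ (by omega)))
        have := (Nat.pow_le_pow_iff_right hp.one_lt).1 ih'
        exact Nat.pow_le_pow_right hp.pos (by omega)
    have h1 := hgrow (p - 2) (by omega)
    rw [show p - 1 - (p - 2) = 1 by have := hp.two_le; omega, show p - 2 + 1 = p - 1 by have := hp.two_le; omega,
      show (⊤ : Subgroup G).lowerCentralSeries 1 = commutator G from Subgroup.lowerCentralSeries_one ..] at h1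
    have hidx : p ^ 2 ≤ (commutator G).index := by
      obtain ⟨k, hk⟩ := hG.index (commutator G)
      rw [hk]
      refine Nat.pow_le_pow_right hp.pos ?_
      by_contra hk2
      have hcyc : IsCyclic (G ⧸ commutator G) := by
        rcases Nat.lt_or_ge 0 k with h | h
        · exact isCyclic_of_prime_card (p := p) (by rw [← Subgroup.index_eq_card, hk, show k = 1 by omega, pow_one])
        · have : Subsingleton (G ⧸ commutator G) := (Nat.card_eq_one_iff_unique.1
            (by rw [← Subgroup.index_eq_card, hk, show k = 0 by omega, pow_zero])).1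
          infer_instance
      obtain ⟨g, hg⟩ := hcyc.exists_generator
      obtain ⟨g, rfl⟩ := QuotientGroup.mk_surjective g
      have htop : Subgroup.zpowers g ⊔ frattini G = ⊤ := by
        rw [eq_top_iff]
        intro a _
        obtain ⟨i, hi⟩ := hg (QuotientGroup.mk a)
        have : (g ^ i)⁻¹ * a ∈ commutator G := (QuotientGroup.eq).1 hi
        have h2 := CfsgLib.Solvable.commutator_le_frattini this
        rw [show a = g ^ i * ((g ^ i)⁻¹ * a) by group]
        exact mul_mem (Subgroup.mem_sup_left (zpow_mem (Subgroup.mem_zpowers g) i)) (Subgroup.mem_sup_right h2)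
      have hg' := frattini_nongenerating htop
      haveI : IsCyclic G := ⟨⟨g, fun a => hg'.ge (Subgroup.mem_top a)⟩⟩
      refine hcl (eq_bot_iff.2 ((hanti (show 1 ≤ p - 1 by have := hp.two_le; omega)).trans ?_))
      rw [Subgroup.lowerCentralSeries_one, commutator_def, Subgroup.commutator_le]
      intro a _ b _
      rw [Subgroup.mem_bot, commutatorElement_eq_one_iff_mul_comm]
      exact (IsCyclic.commGroup (α := G)).mul_comm a b
    calc p ^ (p + 1) = p ^ (p - 1) * p ^ 2 := by rw [← pow_add]; congr 1; have := hp.two_le; omega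
      _ ≤ Nat.card (commutator G) * (commutator G).index := Nat.mul_le_mul h1 hidx
      _ = Nat.card G := Subgroup.card_mul_index _

end Cfsg.Agent.S3872
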