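import Cfsg.Statements.S3873
import Cfsg.Agent.S3868
import Cfsg.Agent.Lib.Coprime.Basic
import Cfsg.Agent.Lib.Solvable.MinNormal


set_option autoImplicit false
open Cfsg

namespace Cfsg.Agent.S3873

theorem isPClosed_of_expClosed {H : Type*} [Group H] [Finite H] {p : ℕ} [Fact p.Prime]
    (hΩ : ∃ K : Subgroup H, (K : Set H) = {g : H | g ^ p = 1})
    (hexp : ∀ Q : Subgroup H, IsPGroup p Q → ∀ x ∈ Q, x ^ p = 1) : Cfsg.IsPClosed p H := by
  obtain ⟨K, hK⟩ := hΩ
  intro P
  have hmem : ∀ g : H, g ∈ K ↔ g ^ p = 1 := fun g => by rw [← SetLike.mem_coe, hK]; rfl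
  have hKp : IsPGroup p K := fun x => ⟨1, Subtype.ext (by simpa using (hmem x).mp x.2)⟩
  have hle : (P : Subgroup H) ≤ K := fun x hx => (hmem x).mpr (hexp P P.2 x hx)
  rw [← P.3 hKp hle]
  exact ⟨fun x hx g => (hmem _).mpr (by rw [conj_pow, (hmem x).mp hx, mul_one, mul_inv_cancel])⟩


/-- Say that a finite group is p-exponent closed when its elements of order dividing p form a subgroup. Let G be a finite group that is not p-exponent closed, but all of whose proper subgroups and proper quotients are, and suppose G is neither simple nor a p-group. Then there is a prime q ≠ p such that G has order p · q^e, where e is the multiplicative order of q modulo p, and G has a normal elementary abelian subgroup of order q^e that is a minimal normal subgroup of G. -/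
theorem result {G : Type*} [Group G] [Finite G] {p : ℕ} [Fact p.Prime]
    (hnc : ¬ (∃ H : Subgroup G, (H : Set G) = {g : G | g ^ p = 1})) (hsub : ∀ K : Subgroup G, K ≠ ⊤ → (∃ H : Subgroup ↥K, (H : Set ↥K) = {g : ↥K | g ^ p = 1}))
    (hquo : ∀ (N : Subgroup G) [N.Normal], N ≠ ⊥ → (∃ H : Subgroup (G ⧸ N), (H : Set (G ⧸ N)) = {g : (G ⧸ N) | g ^ p = 1}))
    (hns : ¬ IsSimpleGroup G) (hnp : ¬ IsPGroup p G) :
    ∃ q : ℕ, q.Prime ∧ q ≠ p ∧ Nat.card G = p * q ^ orderOf (q : ZMod p) ∧
      ∃ A : Subgroup G, A.Normal ∧ Nat.card ↥A = q ^ orderOf (q : ZMod p) ∧ Cfsg.IsElementaryAbelian q A ∧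
        ∀ B : Subgroup G, B.Normal → B ≤ A → B = ⊥ ∨ B = A := by
  have hp := (Fact.out : p.Prime)
  obtain ⟨N, hNn, hN0, hNmin⟩ : ∃ N : Subgroup G, N.Normal ∧ N ≠ ⊥ ∧
      ∀ K : Subgroup G, K.Normal → K ≤ N → K = ⊥ ∨ K = N := by
    have : Nontrivial G := by
      by_contra hnt
      rw [not_nontrivial_iff_subsingleton] at hnt
      exact hnc ⟨⊤, Set.ext fun x => ⟨fun _ => Subsingleton.elim _ _, fun _ => Subgroup.mem_top x⟩⟩
    exact CfsgLib.Solvable.exists_minimal_normal (G := G)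
  have hNtop : N ≠ ⊤ := by
    rintro rfl
    have : Nontrivial G := by
      by_contra hnt
      rw [not_nontrivial_iff_subsingleton] at hnt
      exact hN0 (Subsingleton.elim _ _)
    exact hns ⟨fun M hM => hNmin M hM le_top⟩
  have hgen : Subgroup.closure {g : G | g ^ p = 1} = ⊤ := by
    by_contra hne
    obtain ⟨K, hK⟩ := hsub _ hne
    refine hnc ⟨K.map (Subgroup.closure {g : G | g ^ p = 1}).subtype, Set.ext fun g => ⟨?_, fun hg => ?_⟩⟩
    · rintro ⟨x, hx, rfl⟩
      have : x ^ p = 1 := by rw [hK] at hx; exact hx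
      simpa using congrArg Subtype.val this
    · refine ⟨⟨g, Subgroup.subset_closure hg⟩, ?_, rfl⟩
      rw [hK]
      exact Subtype.ext (by simpa using hg)
  have hquotexp : ∀ g : G, g ^ p ∈ N := by
    obtain ⟨K, hK⟩ := hquo N hN0
    have : (Subgroup.closure {g : G | g ^ p = 1}) ≤ K.comap (QuotientGroup.mk' N) := by
      refine (Subgroup.closure_le _).mpr fun g hg => ?_
      show QuotientGroup.mk' N g ∈ (K : Set (G ⧸ N))
      rw [hK]
      show (QuotientGroup.mk' N g) ^ p = 1
      rw [← map_pow, show g ^ p = 1 from hg, map_one]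
    rw [hgen] at this
    intro g
    have h : QuotientGroup.mk' N g ∈ (K : Set (G ⧸ N)) := this (Subgroup.mem_top g)
    rw [hK] at h
    refine (QuotientGroup.eq_one_iff _).mp ?_
    have h' : (QuotientGroup.mk' N g) ^ p = 1 := h
    rw [← map_pow] at h'
    exact h'
  have hpN : ¬ p ∣ Nat.card N := by
    intro hdvd
    obtain ⟨K, hK⟩ := hsub N hNtop
    have hmem : ∀ x : N, x ∈ K ↔ x ^ p = 1 := fun x => by rw [← SetLike.mem_coe, hK]; rfl
    have hKn : (K.map N.subtype).Normal := by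
      refine ⟨?_⟩
      rintro _ ⟨x, hx, rfl⟩ g
      refine ⟨⟨g * x * g⁻¹, hNn.conj_mem _ x.2 g⟩, (hmem _).mpr (Subtype.ext ?_), rfl⟩
      have := congrArg Subtype.val ((hmem x).mp hx)
      simp only [SubmonoidClass.coe_pow, OneMemClass.coe_one] at this ⊢
      rw [conj_pow, this, mul_one, mul_inv_cancel]
    obtain ⟨x, hx⟩ := exists_prime_orderOf_dvd_card' (G := N) p hdvd
    rcases hNmin _ hKn (Subgroup.map_subtype_le _) with h | h
    · rw [Subgroup.map_eq_bot_iff_of_injective _ N.subtype_injective] at h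
      have : x ∈ K := (hmem x).mpr (by rw [← hx]; exact pow_orderOf_eq_one x)
      rw [h, Subgroup.mem_bot] at this
      rw [this, orderOf_one] at hx
      exact hp.ne_one hx.symm
    · refine hnp fun g => ⟨2, ?_⟩
      obtain ⟨y, hy, hyg⟩ : g ^ p ∈ K.map N.subtype := h.symm ▸ hquotexp g
      have h2 := congrArg Subtype.val ((hmem y).mp hy)
      simp only [SubmonoidClass.coe_pow, OneMemClass.coe_one] at h2
      rw [pow_two, pow_mul, ← hyg]
      exact h2
  have hexp : ∀ x : G, (∃ k : ℕ, x ^ p ^ k = 1) → x ^ p = 1 := by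
    rintro x ⟨k, hk⟩
    refine orderOf_eq_one_iff.mp (Nat.eq_one_of_dvd_coprimes
      (Nat.Coprime.pow_left k (hp.coprime_iff_not_dvd.mpr hpN)) ?_
      (Subgroup.orderOf_mk (x ^ p) (hquotexp x) ▸ orderOf_dvd_natCard (⟨x ^ p, hquotexp x⟩ : N)))
    refine orderOf_dvd_of_pow_eq_one ?_
    rw [← pow_mul, mul_comm, pow_mul, hk, one_pow]
  refine Cfsg.Agent.S3868.result (p := p) ?_ ?_ ?_ hns
  · intro hcl
    obtain ⟨P⟩ : Nonempty (Sylow p G) := inferInstance
    have := hcl P
    refine hnc ⟨P, Set.ext fun g => ⟨fun hg => hexp g ?_, fun hg => ?_⟩⟩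
    · obtain ⟨k, hk⟩ := P.2 ⟨g, hg⟩
      exact ⟨k, congrArg Subtype.val hk⟩
    · have hg' : IsPGroup p (Subgroup.zpowers g) := by
        intro y
        obtain ⟨m, hm⟩ := y.2
        refine ⟨1, Subtype.ext ?_⟩
        simp only [pow_one, SubmonoidClass.coe_pow, OneMemClass.coe_one]
        rw [← hm, ← zpow_natCast, zpow_comm, zpow_natCast, show g ^ p = 1 from hg, one_zpow]
      have hle := P.3 (hg'.to_sup_of_normal_right (P.2)) le_sup_right
      exact hle ▸ Subgroup.mem_sup_left (Subgroup.mem_zpowers g)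
  · intro H hH
    refine isPClosed_of_expClosed (hsub H hH) fun Q hQ x hx => Subtype.ext ?_
    obtain ⟨k, hk⟩ := hQ ⟨x, hx⟩
    simpa using hexp (x : G) ⟨k, by simpa using congrArg (fun w => ((w : H) : G)) (congrArg Subtype.val hk)⟩
  · intro M _ hM
    refine isPClosed_of_expClosed (hquo M hM) fun Q hQ x hx => ?_
    obtain ⟨g, rfl⟩ := QuotientGroup.mk'_surjective M x
    -- lift the `p`-element to a `p`-element
    obtain ⟨k, hk⟩ := hQ ⟨_, hx⟩
    have hk' : (QuotientGroup.mk' M g) ^ p ^ k = 1 := congrArg Subtype.val hk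
    have hcop : (Nat.card N).Coprime (p ^ k) :=
      (Nat.Coprime.pow_left k (hp.coprime_iff_not_dvd.mpr hpN)).symm
    obtain ⟨c, hc0, hc1⟩ := Nat.chineseRemainder hcop 0 1
    have h1 : (g ^ c) ^ p = 1 := by
      obtain ⟨t, rfl⟩ := Nat.modEq_zero_iff_dvd.mp hc0
      rw [← pow_mul, mul_comm (Nat.card N * t), pow_mul, pow_mul,
        show (g ^ p) ^ Nat.card N = 1 from congrArg Subtype.val
          (pow_card_eq_one' (G := N) (x := ⟨g ^ p, hquotexp g⟩)), one_pow]
    have h2 : (QuotientGroup.mk' M g) ^ c = QuotientGroup.mk' M g := by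
      conv_rhs => rw [← pow_one (QuotientGroup.mk' M g)]
      rw [pow_eq_pow_iff_modEq]
      exact Nat.ModEq.of_dvd (orderOf_dvd_of_pow_eq_one hk') hc1
    rw [← h2, ← map_pow (QuotientGroup.mk' M) g c, ← map_pow, h1, map_one]

end Cfsg.Agent.S3873
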