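import Cfsg.Statements.S3875
import Cfsg.Agent.Lib.StructC.LeastNonClosed
import Cfsg.Agent.Lib.ClassK.SmallSimple

set_option autoImplicit false
open Cfsg

namespace Cfsg.Agent.S3875

/-- The affine example. -/
theorem affine (p : ℕ) [Fact p.Prime] (r f : ℕ) [Fact r.Prime] (hf : f ≠ 0) (hm1 : r ^ f % p = 1) :
    ∃ (H : Type) (_ : Group H) (_ : Finite H), Nat.card H = p * r ^ f ∧ ¬ Cfsg.IsPClosed p H := by
  have hp : p.Prime := Fact.out
  haveI : Finite (GaloisField r f) := Nat.finite_of_card_ne_zero (by rw [GaloisField.card r f hf]; exact pow_ne_zero f (Nat.Prime.ne_zero Fact.out))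
  have hd : p ∣ Nat.card (GaloisField r f)ˣ := by
    rw [Nat.card_units, GaloisField.card r f hf]
    exact (Nat.dvd_sub_mod (n := p) (r ^ f)).trans (dvd_of_eq (by rw [hm1]))
  obtain ⟨ζ, hζ⟩ := exists_prime_orderOf_dvd_card' p hd
  let φ : Subgroup.zpowers ζ →* MulAut (Multiplicative (GaloisField r f)) :=
    ((MulAutMultiplicative (GaloisField r f)).symm.toMonoidHom.comp AddAut.mulLeft).comp (Subgroup.zpowers ζ).subtype
  haveI : Finite (Multiplicative (GaloisField r f) ⋊[φ] Subgroup.zpowers ζ) :=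
    Finite.of_equiv _ SemidirectProduct.equivProd.symm
  refine ⟨Multiplicative (GaloisField r f) ⋊[φ] Subgroup.zpowers ζ, inferInstance, inferInstance, ?_, ?_⟩
  · rw [SemidirectProduct.card, Nat.card_zpowers, hζ, mul_comm]
    exact congrArg (p * ·) (GaloisField.card r f hf)
  intro hcl
  obtain ⟨P, hP⟩ : ∃ P : Sylow p (Multiplicative (GaloisField r f) ⋊[φ] Subgroup.zpowers ζ),
      SemidirectProduct.inr ⟨ζ, Subgroup.mem_zpowers ζ⟩ ∈ P := by
    have h : IsPGroup p (⊤ : Subgroup (Subgroup.zpowers ζ)) := IsPGroup.of_card (n := 1) (by rw [Subgroup.card_top, Nat.card_zpowers, hζ, pow_one])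
    obtain ⟨P, hP⟩ := (h.map (SemidirectProduct.inr : Subgroup.zpowers ζ →* Multiplicative (GaloisField r f) ⋊[φ] Subgroup.zpowers ζ)).exists_le_sylow
    exact ⟨P, hP (Subgroup.mem_map_of_mem _ (Subgroup.mem_top (⟨ζ, Subgroup.mem_zpowers ζ⟩ : Subgroup.zpowers ζ)))⟩
  have hin : ∀ b : Multiplicative (GaloisField r f),
      (SemidirectProduct.inl b : Multiplicative (GaloisField r f) ⋊[φ] Subgroup.zpowers ζ) ∈ P → b = 1 := by
    intro b hb
    obtain ⟨k, hk⟩ := IsPGroup.iff_card.1 P.isPGroup'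
    have h1 : orderOf b ∣ p ^ k := by
      rw [← hk, ← orderOf_injective (SemidirectProduct.inl : Multiplicative (GaloisField r f) →* Multiplicative (GaloisField r f) ⋊[φ] Subgroup.zpowers ζ) SemidirectProduct.inl_injective b]
      exact Subgroup.orderOf_dvd_natCard _ hb
    have h2 : orderOf b ∣ r ^ f := by
      rw [← GaloisField.card r f hf]
      exact orderOf_dvd_natCard b
    have h3 : (p ^ k).Coprime (r ^ f) := by
      refine Nat.Coprime.pow_left k (hp.coprime_iff_not_dvd.2 fun h => ?_)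
      rw [Nat.mod_eq_zero_of_dvd h] at hm1
      omega
    exact orderOf_eq_one_iff.1 (Nat.eq_one_of_dvd_coprimes h3 h1 h2)
  have key := hin (Multiplicative.ofAdd 1 * φ ⟨ζ, Subgroup.mem_zpowers ζ⟩ (Multiplicative.ofAdd 1)⁻¹) (by
    have h1 := mul_mem ((hcl P).conj_mem _ hP (SemidirectProduct.inl (Multiplicative.ofAdd 1))) (inv_mem hP)
    rw [mul_assoc, mul_assoc, ← map_inv SemidirectProduct.inl, ← mul_assoc (SemidirectProduct.inr _),
      ← map_inv SemidirectProduct.inr, ← SemidirectProduct.inl_aut, ← map_mul] at h1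
    exact h1)
  rw [map_inv, mul_inv_eq_one] at key
  have h1 : (1 : GaloisField r f) = (ζ : GaloisField r f) * 1 := congrArg Multiplicative.toAdd key
  rw [mul_one] at h1
  exact hp.ne_one (hζ.symm.trans (orderOf_eq_one_iff.2 (Units.ext h1.symm)))


/-- Let p be an odd prime and let m be the least prime power congruent to 1 modulo p. Then the least order of a finite group whose Sylow p-subgroups are not normal is the smaller of p · m and p(p² − 1)/2: every finite group whose Sylow p-subgroups are not normal has at least that order, and some group of exactly that order has non-normal Sylow p-subgroups. -/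
theorem result (p : ℕ) [Fact p.Prime] (hp : p ≠ 2) (m : ℕ) (hm : IsPrimePow m) (hm1 : m % p = 1)
    (hleast : ∀ k : ℕ, IsPrimePow k → k % p = 1 → m ≤ k) :
    (∀ (H : Type) [Group H] [Finite H], ¬ Cfsg.IsPClosed p H → min (p * m) (p * (p ^ 2 - 1) / 2) ≤ Nat.card H) ∧
      ∃ (H : Type) (_ : Group H) (_ : Finite H), Nat.card H = min (p * m) (p * (p ^ 2 - 1) / 2) ∧ ¬ Cfsg.IsPClosed p H := by
  refine ⟨fun H _ _ h => CfsgLib.StructC.LeastNonClosed.lower p hp m hleast (Nat.card H) H rfl h, ?_⟩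
  have hpp : p.Prime := Fact.out
  by_cases hle : p * m ≤ p * (p ^ 2 - 1) / 2
  · obtain ⟨r, f, hr, hf, rfl⟩ := (isPrimePow_nat_iff _).1 hm
    haveI := Fact.mk hr
    rw [min_eq_left hle]
    exact affine p r f hf.ne' hm1
  rw [min_eq_right (by omega)]
  have h5 : 5 ≤ p := by
    have h3 : 3 ≤ p := by have := hpp.two_le; omega
    by_contra h
    rcases (show p = 3 ∨ p = 4 by omega) with rfl | rfl
    · have := hleast 4 ((isPrimePow_nat_iff _).2 ⟨2, 2, Nat.prime_two, two_pos, rfl⟩) rfl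
      norm_num at hle
      omega
    · norm_num at hpp
  haveI : IsSimpleGroup (Matrix.ProjectiveSpecialLinearGroup (Fin 2) (ZMod p)) :=
    CfsgLib.ClassK.isSimpleGroup_psl_two (by rw [ZMod.card]; omega)
  have hodd : p % 2 = 1 := hpp.mod_two_eq_one_iff_ne_two.2 hp
  obtain ⟨k, hk⟩ : ∃ k, p = 2 * k + 1 := ⟨p / 2, by omega⟩
  have hsq : p * (p ^ 2 - 1) = 2 * (p * (2 * k * (k + 1))) := by
    have : p ^ 2 - 1 = 2 * (2 * k * (k + 1)) := Nat.sub_eq_of_eq_add (by subst hk; ring)
    rw [this]; ring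
  have hdiv : p * (p ^ 2 - 1) / 2 = p * (2 * k * (k + 1)) := by rw [hsq]; simp
  have hcard : Nat.card (Matrix.ProjectiveSpecialLinearGroup (Fin 2) (ZMod p)) = p * (p ^ 2 - 1) / 2 := by
    refine CfsgLib.Classical.card_psl_two_eq (ZMod.card p) _ ?_
    rw [hdiv, hsq, Nat.gcd_eq_left (by omega : 2 ∣ p - 1)]
  refine ⟨_, inferInstance, inferInstance, hcard, fun hcl => ?_⟩
  obtain ⟨P⟩ : Nonempty (Sylow p (Matrix.ProjectiveSpecialLinearGroup (Fin 2) (ZMod p))) := inferInstance
  rcases (hcl P).eq_bot_or_eq_top with h | h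
  · exact P.ne_bot_of_dvd_card (by rw [hcard, hdiv]; exact dvd_mul_right _ _) h
  · obtain ⟨j, hj⟩ := IsPGroup.iff_card.1 P.isPGroup'
    rw [h, Subgroup.card_top, hcard, hdiv] at hj
    have h2 : 2 ∣ p ^ j := hj ▸ (dvd_mul_of_dvd_right ((dvd_mul_right 2 k).mul_right (k + 1)) p)
    exact hp ((Nat.prime_dvd_prime_iff_eq Nat.prime_two hpp).1 (Nat.prime_two.dvd_of_dvd_pow h2)).symm

end Cfsg.Agent.S3875
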