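import Cfsg.Statements.S3878
import Cfsg.Agent.Lib.Coprime.HallExistence


set_option autoImplicit false
open Cfsg

namespace Cfsg.Agent.S3878



/-- For a set of primes π the following are equivalent: every finite group has a Hall π-subgroup; in every finite group the maximal π-subgroups are pairwise conjugate; π contains at most one prime or contains every prime. -/
theorem result (π : Set ℕ) :
    ((∀ (G : Type) [Group G] [Finite G], Cfsg.IsEPiGroup π G) ↔
      ((∀ p q : ℕ, p.Prime → q.Prime → p ∈ π → q ∈ π → p = q) ∨ ∀ p : ℕ, p.Prime → p ∈ π)) ∧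
    ((∀ (G : Type) [Group G] [Finite G], Cfsg.IsDPiGroup π G) ↔
      ((∀ p q : ℕ, p.Prime → q.Prime → p ∈ π → q ∈ π → p = q) ∨ ∀ p : ℕ, p.Prime → p ∈ π)) := by
  refine ⟨⟨CfsgLib.Coprime.smallOrFull_of_forall_ePi π, fun h G _ _ =>
    CfsgLib.Coprime.isEPiGroup_of_dPi (CfsgLib.Coprime.isDPiGroup_of_smallOrFull h G)⟩,
    ⟨fun h => CfsgLib.Coprime.smallOrFull_of_forall_ePi π fun G _ _ => CfsgLib.Coprime.isEPiGroup_of_dPi (h G),
      fun h G _ _ => CfsgLib.Coprime.isDPiGroup_of_smallOrFull h G⟩⟩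

end Cfsg.Agent.S3878
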