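import Cfsg.Statements.S3881
import Cfsg.Agent.Lib.Coprime.MetacyclicSubgroups


set_option autoImplicit false
open Cfsg

namespace Cfsg.Agent.S3881

/-- Let p be an odd prime and G a finite metacyclic p-group (G has a cyclic normal subgroup with cyclic quotient). Suppose G is non-abelian with |G'| = p^n. Then for 1 ≤ i ≤ n the number of elements of G whose conjugacy class has exactly p^i elements is |Z(G)| · (p^(2i) − p^(2i−2)). -/
theorem result {G : Type*} [Group G] [Finite G] {p : ℕ} [Fact p.Prime] (hp : p ≠ 2) (hG : IsPGroup p G) (hmc : Cfsg.IsMetacyclic G) (n : ℕ) (hn : n ≠ 0) (hGn : Nat.card ↥(commutator G) = p ^ n) (i : ℕ) (hi : 1 ≤ i) (hin : i ≤ n) :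
    Nat.card {g : G // (Subgroup.centralizer ({g} : Set G)).index = p ^ i} =
      Nat.card ↥(Subgroup.center G) * (p ^ (2 * i) - p ^ (2 * i - 2)) := by
  obtain ⟨D⟩ := CfsgLib.Coprime.exists_mcData hG hmc
  have hpr := (Fact.out : p.Prime)
  rw [D.card_commutator] at hGn
  obtain rfl : D.n = n := Nat.pow_right_injective hpr.two_le hGn
  obtain ⟨i, rfl⟩ := Nat.exists_eq_add_of_le' hi
  have hle : D.killed (p ^ i) ≤ D.killed (p ^ (i + 1)) := fun g hg => by
    rw [CfsgLib.Coprime.MCData.mem_killed] at hg ⊢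
    rw [pow_succ, mul_comm, mul_smul, hg, smul_zero]
  have key : ∀ g : G, (Subgroup.centralizer ({g} : Set G)).index = p ^ (i + 1) ↔
      g ∈ ((D.killed (p ^ (i + 1)) : Set G) \ (D.killed (p ^ i) : Set G)) := by
    intro g
    rw [Set.mem_sdiff, SetLike.mem_coe, SetLike.mem_coe, D.index_centralizer_singleton hp,
      CfsgLib.Coprime.MCData.mem_killed, CfsgLib.Coprime.MCData.mem_killed,
      ← addOrderOf_dvd_iff_nsmul_eq_zero, ← addOrderOf_dvd_iff_nsmul_eq_zero]
    obtain ⟨k, -, hk⟩ := D.addOrderOf_ψ g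
    rw [hk, Nat.pow_dvd_pow_iff_le_right hpr.one_lt, Nat.pow_dvd_pow_iff_le_right hpr.one_lt,
      (Nat.pow_right_injective hpr.two_le).eq_iff]
    omega
  rw [Nat.card_congr (Equiv.subtypeEquivRight key)]
  show Nat.card ↥((D.killed (p ^ (i + 1)) : Set G) \ (D.killed (p ^ i) : Set G)) = _
  rw [Nat.card_coe_set_eq, Set.ncard_sdiff (SetLike.coe_subset_coe.mpr hle),
    ← Nat.card_coe_set_eq, ← Nat.card_coe_set_eq]
  show Nat.card (D.killed (p ^ (i + 1))) - Nat.card (D.killed (p ^ i)) = _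
  rw [D.card_killed hp hin, D.card_killed hp (by omega), Nat.mul_sub,
    show 2 * (i + 1) - 2 = 2 * i by omega]

end Cfsg.Agent.S3881
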