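import Cfsg.Statements.S3883
import Cfsg.Agent.Lib.Coprime.MetacyclicSubgroups
import Cfsg.Agent.Lib.StructC.BurnsideBasis
import Cfsg.Agent.Lib.Transfer.PPrimeAut


set_option autoImplicit false
open scoped commutatorElement
open Cfsg

namespace Cfsg.Agent.S3883

/-- Let p be an odd prime and G a finite metacyclic p-group (G has a cyclic normal subgroup with cyclic quotient). Suppose G is non-abelian. Then an element g of G lies outside the Frattini subgroup if and only if its centralizer C_G(g) is abelian. -/
theorem result {G : Type*} [Group G] [Finite G] {p : ℕ} [Fact p.Prime] (hp : p ≠ 2) (hG : IsPGroup p G) (hmc : Cfsg.IsMetacyclic G) (hna : ¬ IsMulCommutative G) (g : G) :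
    g ∉ frattini G ↔ IsMulCommutative ↥(Subgroup.centralizer ({g} : Set G)) := by
  obtain ⟨D⟩ := CfsgLib.Coprime.exists_mcData hG hmc
  have hpr := (Fact.out : p.Prime)
  have hn : 1 ≤ D.n := by
    by_contra h
    apply hna
    have h1 := (D.comm_iff hp ⊤).mpr (by
      rw [Subgroup.card_top, ← Subgroup.card_mul_index (commutator G), D.card_commutator,
        show D.n = 0 by omega, pow_zero, one_mul])
    exact ⟨⟨fun x y => congrArg Subtype.val
      (h1.is_comm.comm ⟨x, Subgroup.mem_top x⟩ ⟨y, Subgroup.mem_top y⟩)⟩⟩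
  have hN : frattini G = D.killed (p ^ (D.n - 1)) := by
    refine le_antisymm ?_ ?_
    · have hc : commutator G ≤ D.killed (p ^ (D.n - 1)) := by
        rw [D.commutator_eq, Subgroup.zpowers_le, ← D.closure_powers hp hn]
        obtain ⟨e, he⟩ := D.hd
        exact Subgroup.subset_closure ⟨D.a ^ e, by rw [pow_one, ← pow_mul, mul_comm, ← he]⟩
      have hcm : ∀ x y : G, ⁅x, y⁆ ∈ D.killed (p ^ (D.n - 1)) := fun x y =>
        hc (Subgroup.commutator_mem_commutator (Subgroup.mem_top x) (Subgroup.mem_top y))
      have : (D.killed (p ^ (D.n - 1))).Normal := ⟨fun x hx y => by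
        have := mul_mem (hcm y x) hx
        rwa [commutatorElement_def, inv_mul_cancel_right] at this⟩
      refine CfsgLib.Transfer.frattini_le_of_elementary_quotient (p := p) _ hcm fun x => ?_
      rw [← D.closure_powers hp hn]
      exact Subgroup.subset_closure ⟨x, by rw [pow_one]⟩
    · rw [← D.closure_powers hp hn, Subgroup.closure_le]
      rintro _ ⟨y, rfl⟩
      rw [pow_one]
      exact CfsgLib.StructC.pow_mem_frattini hG y
  rw [hN, CfsgLib.Coprime.MCData.mem_killed, D.comm_iff hp, ← addOrderOf_dvd_iff_nsmul_eq_zero]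
  obtain ⟨k, hkn, hk⟩ := D.addOrderOf_ψ g
  have h1 := Subgroup.card_mul_index (Subgroup.centralizer ({g} : Set G))
  rw [D.index_centralizer_singleton hp g, hk, ← Subgroup.card_mul_index (commutator G),
    D.card_commutator] at h1
  rw [hk, Nat.pow_dvd_pow_iff_le_right hpr.one_lt]
  constructor
  · intro h
    obtain rfl : k = D.n := by omega
    rw [mul_comm] at h1
    exact (Nat.eq_of_mul_eq_mul_left (pow_pos hpr.pos _) h1).le
  · intro h hle
    have hlt : p ^ k < p ^ D.n := Nat.pow_lt_pow_right hpr.one_lt (by omega)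
    have hpos : 0 < Nat.card ↥(Subgroup.centralizer ({g} : Set G)) := Nat.card_pos
    have h2 := Nat.mul_lt_mul_of_pos_left hlt hpos
    have h3 := Nat.mul_le_mul_left (p ^ D.n) h
    rw [h1] at h2
    rw [mul_comm _ (p ^ D.n)] at h2
    omega

end Cfsg.Agent.S3883
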