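import Cfsg.Statements.S3886
import Cfsg.Agent.Lib.Coprime.MetacyclicSubgroups


set_option autoImplicit false
open Cfsg

namespace Cfsg.Agent.S3886

/-- Let p be an odd prime and G a finite metacyclic p-group (G has a cyclic normal subgroup with cyclic quotient). Then the largest value of |R| · |Z(R)| over subgroups R of G is |G : G'|², and the subgroups attaining it (the centrally large subgroups) are exactly the non-abelian subgroups together with the maximal abelian subgroups of G. -/
theorem result {G : Type*} [Group G] [Finite G] {p : ℕ} [Fact p.Prime] (hp : p ≠ 2) (hG : IsPGroup p G) (hmc : Cfsg.IsMetacyclic G) : Cfsg.maxCentralProduct G = (commutator G).index ^ 2 ∧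
    ∀ R : Subgroup G, Cfsg.IsCentrallyLarge R ↔ (¬ IsMulCommutative ↥R ∨ Maximal (fun K : Subgroup G => IsMulCommutative ↥K) R) := by
  obtain ⟨D⟩ := CfsgLib.Coprime.exists_mcData hG hmc
  have hval : ∀ R : Subgroup G, IsMulCommutative R →
      Nat.card R * Nat.card (Subgroup.center R) = Nat.card R ^ 2 := by
    intro R hR
    rw [show Subgroup.center R = ⊤ from eq_top_iff.mpr fun x _ =>
      Subgroup.mem_center_iff.mpr fun y => hR.is_comm.comm y x, Subgroup.card_top, sq]
  have hnon : ∀ R : Subgroup G, ¬ IsMulCommutative R →
      Nat.card R * Nat.card (Subgroup.center R) = (commutator G).index ^ 2 := by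
    intro R hR
    obtain ⟨-, hZ⟩ := D.of_not_comm hp hR
    have hlt : (commutator G).index < Nat.card R := lt_of_not_ge fun h => hR ((D.comm_iff hp R).mpr h)
    have hprod := D.card_mul_card_centralizer hp hZ
    rw [← D.index_commutator_sq hp] at hprod
    have hC : IsMulCommutative (Subgroup.centralizer (R : Set G)) := by
      refine (D.comm_iff hp _).mpr ?_
      by_contra h
      rw [not_le] at h
      have := Nat.mul_lt_mul'' hlt h
      rw [hprod, sq] at this
      omega
    have hle : Subgroup.centralizer (R : Set G) ≤ R := by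
      have := Subgroup.le_centralizer_iff_isMulCommutative.mpr hC
      rwa [D.centralizer_centralizer_eq hp hZ] at this
    rw [← hprod]
    congr 1
    rw [← Subgroup.card_map_of_injective (f := R.subtype) R.subtype_injective]
    congr 1
    congr 1
    ext x
    constructor
    · rintro ⟨y, hy, rfl⟩
      exact Subgroup.mem_centralizer_iff.mpr fun r hr =>
        congrArg Subtype.val (Subgroup.mem_center_iff.mp hy ⟨r, hr⟩)
    · intro hx
      exact ⟨⟨x, hle hx⟩, Subgroup.mem_center_iff.mpr fun r =>
        Subtype.ext (Subgroup.mem_centralizer_iff.mp hx r r.2), rfl⟩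
  have hle : ∀ R : Subgroup G, Nat.card R * Nat.card (Subgroup.center R) ≤ (commutator G).index ^ 2 := by
    intro R
    by_cases hR : IsMulCommutative R
    · rw [hval R hR]
      exact Nat.pow_le_pow_left ((D.comm_iff hp R).mp hR) 2
    · exact (hnon R hR).le
  have htop : Nat.card (⊤ : Subgroup G) * Nat.card (Subgroup.center (⊤ : Subgroup G))
      = (commutator G).index ^ 2 := by
    by_cases hR : IsMulCommutative (⊤ : Subgroup G)
    · rw [hval _ hR]
      have h1 := (D.comm_iff hp ⊤).mp hR
      rw [Subgroup.card_top] at h1 ⊢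
      rw [le_antisymm h1 (Nat.le_of_dvd Nat.card_pos (commutator G).index_dvd_card)]
    · exact hnon _ hR
  have hmax : Cfsg.maxCentralProduct G = (commutator G).index ^ 2 :=
    IsGreatest.csSup_eq ⟨⟨⊤, htop⟩, by rintro _ ⟨R, rfl⟩; exact hle R⟩
  refine ⟨hmax, fun R => ?_⟩
  rw [Cfsg.IsCentrallyLarge, hmax, D.maximal_comm_iff hp hG]
  by_cases hR : IsMulCommutative R
  · rw [hval R hR, (Nat.pow_left_injective two_ne_zero).eq_iff]
    exact ⟨Or.inr, fun h => h.resolve_left (not_not_intro hR)⟩
  · exact iff_of_true (hnon R hR) (Or.inl hR)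

end Cfsg.Agent.S3886
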