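import Cfsg.Statements.S3887
import Cfsg.Agent.Lib.Coprime.MetacyclicSubgroups


set_option autoImplicit false
open Cfsg

namespace Cfsg.Agent.S3887

/-- Let p be an odd prime and G a finite metacyclic p-group (G has a cyclic normal subgroup with cyclic quotient). Then a subgroup R of G maximizes |R| · |C_G(R)| over all subgroups of G if and only if R contains the center of G. -/
theorem result {G : Type*} [Group G] [Finite G] {p : ℕ} [Fact p.Prime] (hp : p ≠ 2) (hG : IsPGroup p G) (hmc : Cfsg.IsMetacyclic G) (R : Subgroup G) : Cfsg.IsCentralizerLarge R ↔ Subgroup.center G ≤ R := by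
  obtain ⟨D⟩ := CfsgLib.Coprime.exists_mcData hG hmc
  have hC : ∀ R : Subgroup G, Subgroup.centralizer ((R ⊔ Subgroup.center G : Subgroup G) : Set G)
      = Subgroup.centralizer (R : Set G) := fun R =>
    le_antisymm (Subgroup.centralizer_le (SetLike.coe_subset_coe.mpr le_sup_left))
      (Subgroup.le_centralizer_iff.mp (sup_le (Subgroup.le_centralizer_iff.mp le_rfl)
        (Subgroup.center_le_centralizer _)))
  have hle : ∀ R : Subgroup G, Nat.card R * Nat.card (Subgroup.centralizer (R : Set G))
      ≤ Nat.card G * Nat.card (Subgroup.center G) := by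
    intro R
    rw [← D.card_mul_card_centralizer hp (le_sup_right : Subgroup.center G ≤ R ⊔ Subgroup.center G), hC]
    exact Nat.mul_le_mul_right _ (Subgroup.card_le_of_le le_sup_left)
  have hmax : Cfsg.maxCentralizerProduct G = Nat.card G * Nat.card (Subgroup.center G) :=
    IsGreatest.csSup_eq ⟨⟨⊤, D.card_mul_card_centralizer hp le_top⟩,
      by rintro _ ⟨S, rfl⟩; exact hle S⟩
  rw [Cfsg.IsCentralizerLarge, hmax]
  refine ⟨fun h => ?_, D.card_mul_card_centralizer hp⟩
  rw [← D.card_mul_card_centralizer hp (le_sup_right : Subgroup.center G ≤ R ⊔ Subgroup.center G), hC] at h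
  have h1 := Nat.eq_of_mul_eq_mul_right Nat.card_pos h
  have h2 := SetLike.coe_injective ((Set.toFinite _).eq_of_subset_of_card_le
    (SetLike.coe_subset_coe.mpr (le_sup_left : R ≤ R ⊔ Subgroup.center G)) h1.ge)
  exact le_sup_right.trans h2.ge

end Cfsg.Agent.S3887
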