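import Cfsg.Statements.S3889
import Mathlib.Tactic


set_option autoImplicit false
open Cfsg

namespace Cfsg.Agent.S3889

/-- A finite abelian group that is the union of a family of proper subgroups any two of which intersect trivially is elementary abelian: its exponent is a prime. -/
theorem result {G : Type*} [CommGroup G] [Finite G] (𝓑 : Set (Subgroup G)) (hprop : ∀ B ∈ 𝓑, B ≠ ⊤)
    (hcov : ∀ g : G, ∃ B ∈ 𝓑, g ∈ B) (hdisj : ∀ B ∈ 𝓑, ∀ C ∈ 𝓑, B ≠ C → B ⊓ C = ⊥) :
    (Monoid.exponent G).Prime := by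
  have hnt : Nontrivial G := by
    by_contra h
    rw [not_nontrivial_iff_subsingleton] at h
    obtain ⟨B, hB, -⟩ := hcov 1
    exact hprop B hB (eq_top_iff.mpr fun g _ => by rw [Subsingleton.elim g 1]; exact one_mem B)
  obtain ⟨g, hg⟩ := Monoid.exists_orderOf_eq_exponent (Monoid.ExponentExists.of_finite (G := G))
  let p := (Monoid.exponent G).minFac
  have hne1 : Monoid.exponent G ≠ 1 := fun h => not_subsingleton G (Monoid.exp_eq_one_iff.mp h)
  have hp : p.Prime := Nat.minFac_prime hne1
  by_contra hnp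
  have hlt : p < Monoid.exponent G := lt_of_le_of_ne (Nat.minFac_le (Monoid.exponent_pos.mpr
    (Monoid.ExponentExists.of_finite))) fun h => hnp (h ▸ hp)
  obtain ⟨B, hB, hgB⟩ := hcov g
  have hgp : g ^ p ≠ 1 := fun h => not_lt_of_ge (Nat.le_of_dvd hp.pos
    (hg ▸ orderOf_dvd_of_pow_eq_one h)) hlt
  apply hprop B hB
  rw [eq_top_iff]
  intro h _
  have key : ∀ y : G, y ^ p ≠ 1 → y ^ p ∈ B → y ∈ B := fun y hy hyB => by
    obtain ⟨C, hC, hyC⟩ := hcov y
    by_contra hn
    have : B ⊓ C = ⊥ := hdisj B hB C hC (fun h => hn (h ▸ hyC))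
    exact hy (Subgroup.mem_bot.mp (this ▸ Subgroup.mem_inf.mpr ⟨hyB, pow_mem hyC p⟩))
  by_cases hh : h ^ p = 1
  · have h2 := key (h * g) (by rwa [mul_pow, hh, one_mul]) (by
      rw [mul_pow, hh, one_mul]; exact pow_mem hgB p)
    exact (Subgroup.mul_mem_cancel_right B hgB).mp h2
  · by_contra hhB
    obtain ⟨C, hC, hhC⟩ := hcov h
    have hBC : B ≠ C := fun e => hhB (e ▸ hhC)
    obtain ⟨D, hD, hghD⟩ := hcov (g * h)
    have hd : ∀ {U V : Subgroup G}, U ∈ 𝓑 → V ∈ 𝓑 → ∀ {z : G}, z ∈ U → z ∈ V → z ≠ 1 → U = V :=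
      fun {U V} hU hV {z} h1 h2 hz => by
        by_contra hne
        exact hz (Subgroup.mem_bot.mp (hdisj U hU V hV hne ▸ Subgroup.mem_inf.mpr ⟨h1, h2⟩))
    let n := Monoid.exponent G
    have hgh : (g * h) ^ (n / orderOf g) = g * h := by
      rw [hg, Nat.div_self (Monoid.exponent_pos.mpr Monoid.ExponentExists.of_finite), pow_one]
    have hord : (g * h) ^ (orderOf h) = g ^ (orderOf h) := by
      rw [mul_pow, pow_orderOf_eq_one, mul_one]
    by_cases hh' : g ^ (orderOf h) = 1
    · -- `h` also has maximal order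
      have hoh : orderOf h = n := Nat.dvd_antisymm (Monoid.order_dvd_exponent h)
        (hg.symm.dvd.trans (orderOf_dvd_of_pow_eq_one hh'))
      have hk : g ^ p * h ^ p ∈ D := by rw [← mul_pow]; exact pow_mem hghD p
      have hDB : D ≠ B := fun e => hhB ((Subgroup.mul_mem_cancel_left B hgB).mp (e ▸ hghD))
      have hDC : D ≠ C := fun e => by
        have : g ∈ C := (Subgroup.mul_mem_cancel_right C hhC).mp (e ▸ hghD)
        exact hBC (hd hB hC (pow_mem hgB p) (pow_mem this p) hgp)
      -- a second partition member containing an element of order `p`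
      obtain ⟨k, hk'⟩ : p ∣ n := Nat.minFac_dvd _
      have hg1 : (g ^ k) ^ p = 1 := by
        rw [← pow_mul, mul_comm, ← hk']; exact Monoid.pow_exponent_eq_one g
      have hgk : g ^ k ≠ 1 := fun e => by
        have := Nat.le_of_dvd (Nat.pos_of_ne_zero fun h0 => by
          rw [h0, mul_zero] at hk'
          exact Monoid.exponent_ne_zero.mpr Monoid.ExponentExists.of_finite hk')
          (hg.symm.dvd.trans (orderOf_dvd_of_pow_eq_one e) : n ∣ k)
        have := hp.one_lt
        nlinarith
      -- `h * g^k` has the same `p`-th power as `h`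
      have h3 : h * g ^ k ∈ C := by
        obtain ⟨E, hE, hEm⟩ := hcov (h * g ^ k)
        have e1 : (h * g ^ k) ^ p = h ^ p := by rw [mul_pow, hg1, mul_one]
        have : E = C := hd hE hC (pow_mem hEm p) (by rw [e1]; exact pow_mem hhC p)
          (by rw [e1]; exact hh)
        exact this ▸ hEm
      exact hBC (hd hB hC (pow_mem hgB k) ((Subgroup.mul_mem_cancel_left C hhC).mp h3) hgk)
    · have hDB : D = B := hd hD hB (pow_mem hghD (orderOf h))
        (by rw [hord]; exact pow_mem hgB _) (by rw [hord]; exact hh')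
      exact hhB ((Subgroup.mul_mem_cancel_left B hgB).mp (hDB ▸ hghD))

end Cfsg.Agent.S3889
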