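import Cfsg.Statements.S3892
import Cfsg.Agent.Lib.Coprime.CoverPerm


set_option autoImplicit false
open Cfsg

namespace Cfsg.Agent.S3892

open Subgroup

/-- Pairwise noncommuting elements lie in distinct members of a nilpotent cover. -/
theorem card_le_cover {G : Type*} [Group G] [Finite G] (𝓐 : Finset (Subgroup G))
    (hcov : ∀ g : G, ∃ A ∈ 𝓐, g ∈ A) (hnil : ∀ A ∈ 𝓐, Group.IsNilpotent A)
    (L : List G) (w : G) (hL : (w :: L).Pairwise fun a b => a * b ≠ b * a)
    (hord : ∀ v ∈ L, (orderOf v).Prime ∧ ¬ orderOf v ^ 2 ∣ Nat.card G) :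
    L.length + 1 ≤ 𝓐.card := by
  classical
  choose f hf1 hf2 using hcov
  have key : ∀ a b : G, b ∈ L → f a = f b → a * b = b * a := by
    intro a b hb hab
    obtain ⟨hp, hp2⟩ := hord b hb
    haveI := Fact.mk hp
    obtain ⟨P⟩ : Nonempty (Sylow (orderOf b) G) := inferInstance
    obtain ⟨k, hk⟩ := IsPGroup.iff_card.1 P.2
    have hk1 : k ≤ 1 := by
      by_contra h
      exact hp2 ((Nat.pow_dvd_pow _ (by omega : 2 ≤ k)).trans (hk ▸ card_subgroup_dvd_card _))
    have hcyc : IsCyclic (P : Subgroup G) := by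
      rcases Nat.le_one_iff_eq_zero_or_eq_one.1 hk1 with h | h
      · rw [h, pow_zero] at hk
        have : Subsingleton (P : Subgroup G) := (Nat.card_eq_one_iff_unique.1 hk).1
        infer_instance
      · rw [h, pow_one] at hk
        exact isCyclic_of_prime_card hk
    have h := CfsgLib.Coprime.le_centralizer_of_nilpotent P
      (IsMulCommutative.mk ⟨fun x y => (IsCyclic.commGroup (α := (P : Subgroup G))).mul_comm x y⟩)
      (hnil _ (hf1 b)) (k := 1) (hf2 b) (by rw [pow_one, pow_orderOf_eq_one]) (hab ▸ hf2 a)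
    exact mem_centralizer_singleton_iff.1 h
  have hnd : ((w :: L).map f).Nodup := by
    have h2 := List.pairwise_cons.1 hL
    rw [List.map_cons, List.nodup_cons]
    refine ⟨?_, List.pairwise_map.2 (h2.2.imp_of_mem fun {a b} _ hb h he => h (key a b hb he))⟩
    rintro hw
    obtain ⟨b, hb, he⟩ := List.mem_map.1 hw
    exact h2.1 b hb (key w b hb he.symm)
  have h := List.toFinset_card_of_nodup hnd
  rw [List.length_map, List.length_cons] at h
  rw [← h]
  refine Finset.card_le_card fun A hA => ?_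
  obtain ⟨g, -, rfl⟩ := List.mem_map.1 (List.mem_toFinset.1 hA)
  exact hf1 g

/-- The stabilizer of a point. -/
def fixPt {n : ℕ} {G : Type*} [Group G] (ι : G →* Equiv.Perm (Fin n)) (i : Fin n) : Subgroup G where
  carrier := {g | ι g i = i}
  one_mem' := by simp
  mul_mem' := fun {a b} (ha : ι a i = i) (hb : ι b i = i) => show ι (a * b) i = i by
    rw [map_mul, Equiv.Perm.mul_apply, hb, ha]
  inv_mem' := fun {a} (ha : ι a i = i) => show ι a⁻¹ i = i by
    rw [map_inv]; exact (Equiv.symm_apply_eq _).2 ha.symm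

def threes : List (Equiv.Perm (Fin 5)) :=
  [[0, 1, 2], [0, 1, 3], [0, 1, 4], [0, 2, 3], [0, 2, 4], [0, 3, 4], [1, 2, 3], [1, 2, 4], [1, 3, 4], [2, 3, 4]].map
    List.formPerm

def fives : List (Equiv.Perm (Fin 5)) :=
  [[0, 1, 2, 3, 4], [0, 1, 2, 4, 3], [0, 1, 3, 2, 4], [0, 1, 3, 4, 2], [0, 1, 4, 2, 3], [0, 1, 4, 3, 2]].map
    List.formPerm

def sixes : List (Equiv.Perm (Fin 5)) :=
  [([0, 1, 2], [3, 4]), ([0, 1, 3], [2, 4]), ([0, 1, 4], [2, 3]), ([0, 2, 3], [1, 4]), ([0, 2, 4], [1, 3]),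
    ([0, 3, 4], [1, 2]), ([1, 2, 3], [0, 4]), ([1, 2, 4], [0, 3]), ([1, 3, 4], [0, 2]), ([2, 3, 4], [0, 1])].map
    fun q => List.formPerm q.1 * List.formPerm q.2

theorem orderOf_cases {G : Type*} [Group G] (v : G) (p : ℕ) (hp : p.Prime) (h1 : v ^ p = 1) (h2 : v ≠ 1) :
    orderOf v = p := haveI := Fact.mk hp; orderOf_eq_prime h1 h2

/-- The symmetric group of degree four. -/
theorem sym_four (𝓐 : Finset (Subgroup (Equiv.Perm (Fin 4))))
    (h : ((∀ A ∈ 𝓐, A ≠ ⊤) ∧ (∀ g : Equiv.Perm (Fin 4), ∃ A ∈ 𝓐, g ∈ A)) ∧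
      (∀ 𝓑 : Finset (Subgroup (Equiv.Perm (Fin 4))), (∀ A ∈ 𝓑, A ≠ ⊤) ∧ (∀ g, ∃ A ∈ 𝓑, g ∈ A) → 𝓐.card ≤ 𝓑.card) ∧
      (∀ A ∈ 𝓐, Group.IsNilpotent A)) : False := by
  classical
  let L : List (Equiv.Perm (Fin 4)) := [[0, 1, 2], [0, 1, 3], [0, 2, 3], [1, 2, 3]].map List.formPerm
  have h1 := card_le_cover 𝓐 h.1.2 h.2.2 L (Equiv.swap 0 1)
    (by simp only [L]; decide +kernel)
    (fun v hv => by
      have hv' : ∀ v ∈ L, v ^ 3 = 1 ∧ v ≠ 1 := by simp only [L]; decide +kernel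
      rw [orderOf_cases v 3 Nat.prime_three (hv' v hv).1 (hv' v hv).2, Nat.card_perm, Nat.card_fin]
      exact ⟨Nat.prime_three, by decide⟩)
  let D : Fin 3 → Subgroup (Equiv.Perm (Fin 4)) := fun i =>
    Subgroup.centralizer {([Equiv.swap 0 1 * Equiv.swap 2 3, Equiv.swap 0 2 * Equiv.swap 1 3,
      Equiv.swap 0 3 * Equiv.swap 1 2] : List (Equiv.Perm (Fin 4))).get (i.cast rfl)}
  let 𝓑 : Finset (Subgroup (Equiv.Perm (Fin 4))) := insert (alternatingGroup (Fin 4)) (Finset.univ.image D)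
  have hB : (∀ A ∈ 𝓑, A ≠ ⊤) ∧ (∀ g, ∃ A ∈ 𝓑, g ∈ A) := by
    refine ⟨fun A hA => ?_, fun g => ?_⟩
    · rw [Finset.mem_insert, Finset.mem_image] at hA
      rcases hA with rfl | ⟨i, -, rfl⟩
      · intro ht
        have : Equiv.Perm.sign (Equiv.swap (0 : Fin 4) 1) = 1 :=
          Equiv.Perm.mem_alternatingGroup.1 (ht ▸ mem_top _)
        revert this; decide +kernel
      · intro ht
        have h0 := mem_centralizer_singleton_iff.1 (show (List.formPerm [0, 1, 2] : Equiv.Perm (Fin 4)) ∈ D i from ht ▸ mem_top _)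
        clear ht
        revert h0; revert i; decide +kernel
    · have key : ∀ g : Equiv.Perm (Fin 4), Equiv.Perm.sign g = 1 ∨ ∃ i : Fin 3,
          g * ([Equiv.swap 0 1 * Equiv.swap 2 3, Equiv.swap 0 2 * Equiv.swap 1 3,
            Equiv.swap 0 3 * Equiv.swap 1 2] : List (Equiv.Perm (Fin 4))).get (i.cast rfl) =
          ([Equiv.swap 0 1 * Equiv.swap 2 3, Equiv.swap 0 2 * Equiv.swap 1 3,
            Equiv.swap 0 3 * Equiv.swap 1 2] : List (Equiv.Perm (Fin 4))).get (i.cast rfl) * g := by decide +kernel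
      rcases key g with hg | ⟨i, hi⟩
      · exact ⟨_, Finset.mem_insert_self _ _, Equiv.Perm.mem_alternatingGroup.2 hg⟩
      · exact ⟨D i, Finset.mem_insert_of_mem (Finset.mem_image_of_mem D (Finset.mem_univ i)),
          mem_centralizer_singleton_iff.2 hi⟩
  have h2 := (h.2.1 𝓑 hB).trans ((Finset.card_insert_le _ _).trans (Nat.succ_le_succ (Finset.card_image_le)))
  simp [L] at h1
  simp at h2
  omega

/-- The alternating group of degree five. -/
theorem alt_five (𝓐 : Finset (Subgroup (alternatingGroup (Fin 5))))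
    (h : ((∀ A ∈ 𝓐, A ≠ ⊤) ∧ (∀ g : alternatingGroup (Fin 5), ∃ A ∈ 𝓐, g ∈ A)) ∧
      (∀ 𝓑 : Finset (Subgroup (alternatingGroup (Fin 5))), (∀ A ∈ 𝓑, A ≠ ⊤) ∧ (∀ g, ∃ A ∈ 𝓑, g ∈ A) → 𝓐.card ≤ 𝓑.card) ∧
      (∀ A ∈ 𝓐, Group.IsNilpotent A)) : False := by
  classical
  have he : ∀ v ∈ threes ++ fives, v ∈ alternatingGroup (Fin 5) := by
    have : ∀ v ∈ threes ++ fives, Equiv.Perm.sign v = 1 := by decide +kernel
    exact fun v hv => Equiv.Perm.mem_alternatingGroup.2 (this v hv)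
  let L : List (alternatingGroup (Fin 5)) := ((threes ++ fives).attach.map fun v => ⟨v.1, he v.1 v.2⟩).tail
  have hL : ∀ v ∈ L, (v : Equiv.Perm (Fin 5)) ∈ threes ++ fives := by
    intro v hv
    obtain ⟨u, -, rfl⟩ := List.mem_map.1 (List.mem_of_mem_tail hv)
    exact u.2
  have hcard : Nat.card (alternatingGroup (Fin 5)) = 60 := by
    rw [nat_card_alternatingGroup, Nat.card_fin]; decide
  have hne : (threes ++ fives).attach.map (fun v => (⟨v.1, he v.1 v.2⟩ : alternatingGroup (Fin 5))) =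
      (⟨List.formPerm [0, 1, 2], he _ (by decide +kernel)⟩ : alternatingGroup (Fin 5)) :: L := rfl
  have h1 := card_le_cover 𝓐 h.1.2 h.2.2 L (⟨List.formPerm [0, 1, 2], he _ (by decide +kernel)⟩) (by
      rw [← hne, List.pairwise_map]
      have hp : (threes ++ fives).Pairwise fun a b => a * b ≠ b * a := by decide +kernel
      rw [← List.attach_map_subtype_val (threes ++ fives), List.pairwise_map] at hp
      exact hp.imp fun {a b} hab he' => hab (congrArg Subtype.val he'))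
    (fun v hv => by
      have hv' : ∀ v ∈ threes ++ fives, (v ^ 3 = 1 ∨ v ^ 5 = 1) ∧ v ≠ 1 := by decide +kernel
      obtain ⟨h3, hne'⟩ := hv' _ (hL v hv)
      rw [hcard]
      rcases h3 with h3 | h3
      · rw [← Subgroup.orderOf_coe, orderOf_cases _ 3 Nat.prime_three h3 hne']
        exact ⟨Nat.prime_three, by decide⟩
      · rw [← Subgroup.orderOf_coe, orderOf_cases _ 5 Nat.prime_five h3 hne']
        exact ⟨Nat.prime_five, by decide⟩)
  have he5 : ∀ v ∈ fives, v ∈ alternatingGroup (Fin 5) := fun v hv => he v (List.mem_append_right _ hv)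
  let F : Finset (alternatingGroup (Fin 5)) := (fives.attach.map fun v => ⟨v.1, he5 v.1 v.2⟩).toFinset
  let 𝓑 : Finset (Subgroup (alternatingGroup (Fin 5))) :=
    Finset.univ.image (fixPt (alternatingGroup (Fin 5)).subtype) ∪ F.image zpowers
  have hB : (∀ A ∈ 𝓑, A ≠ ⊤) ∧ (∀ g, ∃ A ∈ 𝓑, g ∈ A) := by
    refine ⟨fun A hA => ?_, fun g => ?_⟩
    · rw [Finset.mem_union, Finset.mem_image, Finset.mem_image] at hA
      rcases hA with ⟨i, -, rfl⟩ | ⟨v, hv, rfl⟩
      · intro ht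
        have hall : ∀ g : alternatingGroup (Fin 5), (g : Equiv.Perm (Fin 5)) i = i := fun g =>
          (ht ▸ mem_top g : g ∈ fixPt (alternatingGroup (Fin 5)).subtype i)
        have h5 : ∀ i : Fin 5, (List.formPerm [0, 1, 2, 3, 4] : Equiv.Perm (Fin 5)) i ≠ i := by decide +kernel
        exact h5 i (hall ⟨_, he5 _ (by decide +kernel)⟩)
      · intro ht
        have hc := congrArg (fun K : Subgroup (alternatingGroup (Fin 5)) => Nat.card K) ht
        simp only [Nat.card_zpowers, Subgroup.card_top, hcard] at hc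
        obtain ⟨u, -, rfl⟩ := List.mem_map.1 (List.mem_toFinset.1 hv)
        have hv' : ∀ v ∈ fives, v ^ 5 = 1 ∧ v ≠ 1 := by decide +kernel
        rw [← Subgroup.orderOf_coe] at hc
        rw [show orderOf (u.1 : Equiv.Perm (Fin 5)) = 5 from orderOf_cases _ 5 Nat.prime_five (hv' _ u.2).1 (hv' _ u.2).2] at hc
        omega
    · have key : ∀ g : Equiv.Perm (Fin 5), Equiv.Perm.sign g = 1 →
          (∃ i, g i = i) ∨ ∃ v ∈ fives, ∃ k : Fin 5, g = v ^ (k : ℕ) := by decide +kernel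
      rcases key g (Equiv.Perm.mem_alternatingGroup.1 g.2) with ⟨i, hi⟩ | ⟨v, hv, k, hk⟩
      · exact ⟨fixPt _ i, Finset.mem_union_left _ (Finset.mem_image_of_mem _ (Finset.mem_univ i)), hi⟩
      · refine ⟨zpowers (⟨v, he5 v hv⟩ : alternatingGroup (Fin 5)), Finset.mem_union_right _ (Finset.mem_image_of_mem _ ?_), ?_⟩
        · exact List.mem_toFinset.2 (List.mem_map.2 ⟨⟨v, hv⟩, List.mem_attach _ _, rfl⟩)
        · refine ⟨((k : ℕ) : ℤ), Subtype.ext ?_⟩
          show ((⟨v, he5 v hv⟩ : alternatingGroup (Fin 5)) ^ ((k : ℕ) : ℤ) : alternatingGroup (Fin 5)).1 = g.1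
          rw [zpow_natCast, Subgroup.coe_pow, hk]
  have h2 := (h.2.1 𝓑 hB).trans ((Finset.card_union_le _ _).trans (Nat.add_le_add Finset.card_image_le
    (Finset.card_image_le.trans (List.toFinset_card_le _))))
  simp [L, threes, fives] at h1
  simp [fives] at h2
  omega

/-- The symmetric group of degree five. -/
theorem sym_five (𝓐 : Finset (Subgroup (Equiv.Perm (Fin 5))))
    (h : ((∀ A ∈ 𝓐, A ≠ ⊤) ∧ (∀ g : Equiv.Perm (Fin 5), ∃ A ∈ 𝓐, g ∈ A)) ∧
      (∀ 𝓑 : Finset (Subgroup (Equiv.Perm (Fin 5))), (∀ A ∈ 𝓑, A ≠ ⊤) ∧ (∀ g, ∃ A ∈ 𝓑, g ∈ A) → 𝓐.card ≤ 𝓑.card) ∧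
      (∀ A ∈ 𝓐, Group.IsNilpotent A)) : False := by
  classical
  have hcard : Nat.card (Equiv.Perm (Fin 5)) = 120 := by rw [Nat.card_perm, Nat.card_fin]; decide
  have h1 := card_le_cover 𝓐 h.1.2 h.2.2 (threes ++ fives) (List.formPerm [0, 1, 2, 3]) (by decide +kernel)
    (fun v hv => by
      have hv' : ∀ v ∈ threes ++ fives, (v ^ 3 = 1 ∨ v ^ 5 = 1) ∧ v ≠ 1 := by decide +kernel
      obtain ⟨h3, hne'⟩ := hv' _ hv
      rw [hcard]
      rcases h3 with h3 | h3
      · rw [orderOf_cases _ 3 Nat.prime_three h3 hne']; exact ⟨Nat.prime_three, by decide⟩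
      · rw [orderOf_cases _ 5 Nat.prime_five h3 hne']; exact ⟨Nat.prime_five, by decide⟩)
  let 𝓑 : Finset (Subgroup (Equiv.Perm (Fin 5))) := insert (alternatingGroup (Fin 5))
    (Finset.univ.image (fixPt (MonoidHom.id _)) ∪ sixes.toFinset.image zpowers)
  have hB : (∀ A ∈ 𝓑, A ≠ ⊤) ∧ (∀ g, ∃ A ∈ 𝓑, g ∈ A) := by
    refine ⟨fun A hA => ?_, fun g => ?_⟩
    · rw [Finset.mem_insert, Finset.mem_union, Finset.mem_image, Finset.mem_image] at hA
      rcases hA with rfl | ⟨i, -, rfl⟩ | ⟨v, hv, rfl⟩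
      · intro ht
        have : Equiv.Perm.sign (Equiv.swap (0 : Fin 5) 1) = 1 :=
          Equiv.Perm.mem_alternatingGroup.1 (ht ▸ mem_top _)
        revert this; decide +kernel
      · intro ht
        have hall : ∀ g : Equiv.Perm (Fin 5), g i = i := fun g =>
          (ht ▸ mem_top g : g ∈ fixPt (MonoidHom.id _) i)
        have h5 : ∀ i : Fin 5, (List.formPerm [0, 1, 2, 3, 4] : Equiv.Perm (Fin 5)) i ≠ i := by decide +kernel
        exact h5 i (hall _)
      · intro ht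
        have hc := congrArg (fun K : Subgroup (Equiv.Perm (Fin 5)) => Nat.card K) ht
        simp only [Nat.card_zpowers, Subgroup.card_top, hcard] at hc
        have hv' : ∀ v ∈ sixes, v ^ 6 = 1 := by decide +kernel
        have := Nat.le_of_dvd (by norm_num) (orderOf_dvd_of_pow_eq_one (hv' v (List.mem_toFinset.1 hv)))
        omega
    · have key : ∀ g : Equiv.Perm (Fin 5), Equiv.Perm.sign g = 1 ∨
          (∃ i, g i = i) ∨ ∃ v ∈ sixes, ∃ k : Fin 6, g = v ^ (k : ℕ) := by decide +kernel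
      rcases key g with hg | ⟨i, hi⟩ | ⟨v, hv, k, hk⟩
      · exact ⟨_, Finset.mem_insert_self _ _, Equiv.Perm.mem_alternatingGroup.2 hg⟩
      · exact ⟨fixPt _ i, Finset.mem_insert_of_mem (Finset.mem_union_left _ (Finset.mem_image_of_mem _ (Finset.mem_univ i))), hi⟩
      · exact ⟨zpowers v, Finset.mem_insert_of_mem (Finset.mem_union_right _ (Finset.mem_image_of_mem _ (List.mem_toFinset.2 hv))),
          (k : ℕ), by rw [hk]; exact zpow_natCast _ _⟩
  have h2 := (h.2.1 𝓑 hB).trans ((Finset.card_insert_le _ _).trans (Nat.succ_le_succ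
    ((Finset.card_union_le _ _).trans (Nat.add_le_add Finset.card_image_le
      (Finset.card_image_le.trans (List.toFinset_card_le _))))))
  simp [threes, fives] at h1
  simp [sixes] at h2
  omega

theorem perm_center_eq_bot {n : ℕ} (hn : 3 ≤ n) : center (Equiv.Perm (Fin n)) = ⊥ := by
  rw [eq_bot_iff]
  intro g hg
  rw [mem_bot]
  refine Equiv.ext fun a => ?_
  by_contra ha
  rw [Equiv.Perm.one_apply] at ha
  obtain ⟨b, hb1, hb2⟩ : ∃ b, b ≠ a ∧ b ≠ g a := by
    by_contra h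
    push Not at h
    have hsub : (Finset.univ : Finset (Fin n)) ⊆ {a, g a} := fun b _ => by
      by_cases hb : b = a
      · simp [hb]
      · simp [h b hb]
    have := Finset.card_le_card hsub
    rw [Finset.card_univ, Fintype.card_fin] at this
    have h2 : ({a, g a} : Finset (Fin n)).card ≤ 2 := (Finset.card_insert_le _ _).trans (by simp)
    omega
  have h := congrArg (fun f : Equiv.Perm (Fin n) => f a) (mem_center_iff.1 hg (Equiv.swap (g a) b))
  simp only [Equiv.Perm.mul_apply, Equiv.swap_apply_left] at h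
  rw [Equiv.swap_apply_of_ne_of_ne (Ne.symm ha) hb1.symm] at h
  exact hb2 h


/-- A cover of a group is a finite set of proper subgroups whose union is the whole group; it is minimal when no cover has fewer members, and nilpotent when all its members are nilpotent. The alternating groups of degree at least 5 and the symmetric groups of degree at least 4 have no nilpotent minimal cover. -/
theorem result (n : ℕ) :
    (5 ≤ n → ¬ ∃ 𝓐 : Finset (Subgroup ↥(alternatingGroup (Fin n))), ((∀ A ∈ 𝓐, A ≠ ⊤) ∧ (∀ g : ↥(alternatingGroup (Fin n)), ∃ A ∈ 𝓐, g ∈ A)) ∧ (∀ 𝓑 : Finset (Subgroup ↥(alternatingGroup (Fin n))), (∀ A ∈ 𝓑, A ≠ ⊤) ∧ (∀ g : ↥(alternatingGroup (Fin n)), ∃ A ∈ 𝓑, g ∈ A) → 𝓐.card ≤ 𝓑.card) ∧ (∀ A ∈ 𝓐, Group.IsNilpotent ↥A)) ∧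
    (4 ≤ n → ¬ ∃ 𝓐 : Finset (Subgroup (Equiv.Perm (Fin n))), ((∀ A ∈ 𝓐, A ≠ ⊤) ∧ (∀ g : (Equiv.Perm (Fin n)), ∃ A ∈ 𝓐, g ∈ A)) ∧ (∀ 𝓑 : Finset (Subgroup (Equiv.Perm (Fin n))), (∀ A ∈ 𝓑, A ≠ ⊤) ∧ (∀ g : (Equiv.Perm (Fin n)), ∃ A ∈ 𝓑, g ∈ A) → 𝓐.card ≤ 𝓑.card) ∧ (∀ A ∈ 𝓐, Group.IsNilpotent ↥A)) := by
  classical
  refine ⟨fun hn ⟨𝓐, h⟩ => ?_, fun hn ⟨𝓐, h⟩ => ?_⟩
  · rcases Nat.lt_or_ge n 6 with h6 | h6
    · obtain rfl : n = 5 := by omega
      exact alt_five 𝓐 h
    · exact CfsgLib.Coprime.no_nilpotent_cover_perm h6 (alternatingGroup (Fin n)).subtype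
        Subtype.val_injective (by rw [Subgroup.range_subtype])
        (alternatingGroup.center_eq_bot (by rw [Nat.card_fin]; omega)) 𝓐 h.1 h.2.1 h.2.2
  · rcases Nat.lt_or_ge n 6 with h6 | h6
    · rcases (show n = 4 ∨ n = 5 by omega) with rfl | rfl
      · exact sym_four 𝓐 h
      · exact sym_five 𝓐 h
    · exact CfsgLib.Coprime.no_nilpotent_cover_perm h6 (MonoidHom.id _) Function.injective_id
        (by rw [MonoidHom.range_eq_top.2 Function.surjective_id]; exact le_top)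
        (perm_center_eq_bot (by omega)) 𝓐 h.1 h.2.1 h.2.2

end Cfsg.Agent.S3892
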