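import Cfsg.Statements.S3893
import Cfsg.Agent.Lib.KnownB.SzCover
import Cfsg.Agent.Lib.Suzuki.Model

-- import your own Cfsg.Agent.* helpers here

set_option autoImplicit false
open Cfsg

namespace Cfsg.Agent.S3893

/-- A cover of a group is a finite set of proper subgroups whose union is the whole group; it is minimal when no cover has fewer members, and nilpotent when all its members are nilpotent. The Suzuki groups Sz(q), q = 2^(2m+1) with m ≥ 1, have no nilpotent minimal cover. -/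
theorem result {F : Type*} [Field F] [Fintype F] (m : ℕ) (hm : 1 ≤ m) (hF : Fintype.card F = 2 ^ (2 * m + 1)) :
    ¬ ∃ 𝓐 : Finset (Subgroup ↥(Cfsg.Lie.Sz F (2 ^ (m + 1)))), ((∀ A ∈ 𝓐, A ≠ ⊤) ∧ (∀ g : ↥(Cfsg.Lie.Sz F (2 ^ (m + 1))), ∃ A ∈ 𝓐, g ∈ A)) ∧ (∀ 𝓑 : Finset (Subgroup ↥(Cfsg.Lie.Sz F (2 ^ (m + 1)))), (∀ A ∈ 𝓑, A ≠ ⊤) ∧ (∀ g : ↥(Cfsg.Lie.Sz F (2 ^ (m + 1))), ∃ A ∈ 𝓑, g ∈ A) → 𝓐.card ≤ 𝓑.card) ∧ (∀ A ∈ 𝓐, Group.IsNilpotent ↥A) := by
  classical
  rintro ⟨𝓐, ⟨hne, hcov⟩, hmin, hnil⟩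
  have : CharP F 2 := charP_of_card_eq_prime_pow hF
  let e := CfsgLib.Suzuki.szEquiv hm hF
  let o := e.mapSubgroup
  have hmem : ∀ (A : Subgroup ↥(Cfsg.Sz F m)) g, e g ∈ o A ↔ g ∈ A := fun A g => by
    show e g ∈ A.map e.toMonoidHom ↔ g ∈ A
    exact Subgroup.mem_map_equiv.trans (by rw [MulEquiv.symm_apply_apply])
  obtain ⟨𝓑, ⟨hB1, hB2⟩, hlt⟩ := CfsgLib.KnownB.SzCover.no_cover hm hF (𝓐.image o.symm) ⟨fun A hA => by
      obtain ⟨A', hA', rfl⟩ := Finset.mem_image.mp hA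
      intro ht
      exact hne A' hA' (by have := congrArg o ht; rwa [OrderIso.apply_symm_apply, OrderIso.map_top] at this),
    fun g => by
      obtain ⟨A, hA, hg⟩ := hcov (e g)
      exact ⟨o.symm A, Finset.mem_image_of_mem _ hA, (hmem _ _).mp (by rwa [OrderIso.apply_symm_apply])⟩⟩
    (fun A hA => by
      obtain ⟨A', hA', rfl⟩ := Finset.mem_image.mp hA
      have := hnil A' hA'
      obtain ⟨A'', hA''⟩ : ∃ A'', A'' = o.symm A' := ⟨_, rfl⟩
      rw [← hA'']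
      have h1 : A''.map e.toMonoidHom = A' := by rw [hA'']; exact o.apply_symm_apply A'
      subst h1
      exact Group.nilpotent_of_mulEquiv (A''.equivMapOfInjective e.toMonoidHom e.injective).symm)
  rw [Finset.card_image_of_injective _ o.symm.injective] at hlt
  have h := hmin (𝓑.image o) ⟨fun A hA => by
      obtain ⟨A', hA', rfl⟩ := Finset.mem_image.mp hA
      intro ht
      exact hB1 A' hA' (o.injective (ht.trans o.map_top.symm)),
    fun g => by
      obtain ⟨g', rfl⟩ := e.surjective g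
      obtain ⟨A, hA, hg⟩ := hB2 g'
      exact ⟨o A, Finset.mem_image_of_mem _ hA, (hmem _ _).mpr hg⟩⟩
  rw [Finset.card_image_of_injective _ o.injective] at h
  omega

end Cfsg.Agent.S3893
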