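import Cfsg.Statements.S3897
import Cfsg.Agent.Lib.Coprime.PClasses


set_option autoImplicit false
open Cfsg

namespace Cfsg.Agent.S3897

/-- Let p be an odd prime and G a finite group with Sylow p-subgroup P, and write k_p(G) for the number of conjugacy classes of G consisting of p-elements (elements of p-power order, the identity included). Then k_p(G) > (p + 1)|P|/(2p) if and only if G has a normal p-complement and P is abelian. -/
theorem result {G : Type*} [Group G] [Finite G] {p : ℕ} [Fact p.Prime] (hp : p ≠ 2) (P : Sylow p G) :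
    (p + 1) * Nat.card ↥(P : Subgroup G) < 2 * p * Nat.card {c : ConjClasses G // ∀ x ∈ c.carrier, ∃ k : ℕ, orderOf x = p ^ k} ↔
      Cfsg.HasNormalPComplement p G ∧ IsMulCommutative ↥(P : Subgroup G) := by
  refine ⟨CfsgLib.Coprime.abelian_and_complement_of_lt P, fun ⟨hc, hab⟩ => ?_⟩
  obtain ⟨N, hN, hcompl⟩ :=
    (CfsgLib.Transfer.hasNormalPComplement_iff_exists_isComplement' P).mp hc
  let f : ↥(P : Subgroup G) → CfsgLib.Coprime.pClasses p G := fun x =>
    ⟨ConjClasses.mk (x : G), CfsgLib.Coprime.isConj_mem_pClasses P.isPGroup' x⟩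
  have hf : Function.Injective f := by
    intro x y hxy
    obtain ⟨g, hg⟩ := isConj_iff.mp (ConjClasses.mk_eq_mk_iff_isConj.mp (congrArg Subtype.val hxy))
    obtain ⟨⟨n, q⟩, hnq⟩ := hcompl.2 g
    have hnq' : (n : G) * q = g := hnq
    have hqx : (q : G) * x = x * q := congrArg Subtype.val (mul_comm' q x)
    have h1 : (n : G) * x * (n : G)⁻¹ = y := by
      rw [← hg, ← hnq']
      calc (n : G) * x * (n : G)⁻¹ = n * (x * q * (q : G)⁻¹) * (n : G)⁻¹ := by group
        _ = n * q * x * ((n : G) * q)⁻¹ := by rw [← hqx]; group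
    have h2 : (x : G)⁻¹ * y ∈ N := by
      rw [← h1, show (x : G)⁻¹ * (n * x * (n : G)⁻¹) = ((x : G)⁻¹ * n * x) * (n : G)⁻¹ by group]
      exact mul_mem (hN.conj_mem' n n.2 x) (inv_mem n.2)
    have h3 : (x : G)⁻¹ * y ∈ N ⊓ (P : Subgroup G) :=
      Subgroup.mem_inf.mpr ⟨h2, mul_mem (inv_mem x.2) y.2⟩
    rw [hcompl.disjoint.eq_bot, Subgroup.mem_bot] at h3
    exact Subtype.ext (inv_mul_eq_one.mp h3)
  have hk := Nat.card_le_card_of_injective f hf
  have hpos : 0 < Nat.card ↥(P : Subgroup G) := Nat.card_pos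
  have h2 := (Fact.out : p.Prime).two_le
  show _ < 2 * p * Nat.card (CfsgLib.Coprime.pClasses p G)
  calc (p + 1) * Nat.card ↥(P : Subgroup G) < 2 * p * Nat.card ↥(P : Subgroup G) :=
        Nat.mul_lt_mul_of_pos_right (by omega) hpos
    _ ≤ 2 * p * Nat.card (CfsgLib.Coprime.pClasses p G) := Nat.mul_le_mul_left _ hk

end Cfsg.Agent.S3897
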