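import Cfsg.Statements.S3899
import Cfsg.Agent.Lib.Coprime.PiClasses


set_option autoImplicit false
open Cfsg

namespace Cfsg.Agent.S3899

/-- Let π be a finite non-empty set of odd primes with smallest member p and G a finite group. Write k_π(G) for the number of conjugacy classes of G consisting of π-elements (elements all of whose order's prime divisors lie in π) and |G|_π for the π-part of the order of G. If k_π(G) > (p + 1)|G|_π/(2p), then G has a normal π-complement (a normal subgroup of order prime to π whose index is a π-number) and an abelian Hall π-subgroup. -/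
theorem result {G : Type*} [Group G] [Finite G] (π : Finset ℕ) (hπ : ∀ r ∈ π, r.Prime) (h2 : 2 ∉ π) (p : ℕ) (hp : p ∈ π)
    (hmin : ∀ r ∈ π, p ≤ r) (hk : (p + 1) * π.prod (fun r => r ^ (Nat.card G).factorization r) < 2 * p * Nat.card {c : ConjClasses G // ∀ x ∈ c.carrier, ∀ r : ℕ, r.Prime → r ∣ orderOf x → r ∈ π}) :
    (∃ N : Subgroup G, N.Normal ∧ (∀ r : ℕ, r.Prime → r ∣ Nat.card ↥N → r ∉ π) ∧ ∀ r : ℕ, r.Prime → r ∣ N.index → r ∈ π) ∧ ∃ H : Subgroup G, Cfsg.IsPiHall (↑π : Set ℕ) H ∧ IsMulCommutative ↥H := by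
  classical
  have hkey : ∀ r ∈ π, ∃ N : Subgroup G, ∃ _ : N.Normal,
      ¬ r ∣ Nat.card N ∧ (∃ j, N.index = r ^ j) ∧ IsMulCommutative (G ⧸ N) := by
    intro r hr
    have := Fact.mk (hπ r hr)
    obtain ⟨P⟩ : Nonempty (Sylow r G) := inferInstance
    have hpp := (hπ p hp).pos
    have hr1 : (r + 1) * p ≤ (p + 1) * r := by nlinarith [hmin r hr]
    have h1 : (p + 1) * π.prod (fun s => s ^ (Nat.card G).factorization s)
        < 2 * p * (Nat.card (CfsgLib.Coprime.pClasses r G) *
          CfsgLib.Coprime.piPart (π.erase r) (Nat.card G)) :=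
      lt_of_lt_of_le hk (Nat.mul_le_mul_left _
        (CfsgLib.Coprime.card_piClasses_le_pClasses_mul hπ hr))
    rw [← Finset.mul_prod_erase π _ hr, ← P.card_eq_multiplicity,
      ← mul_assoc, ← mul_assoc] at h1
    have h2 := Nat.lt_of_mul_lt_mul_right h1
    have h3 : (r + 1) * Nat.card (P : Subgroup G)
        < 2 * r * Nat.card (CfsgLib.Coprime.pClasses r G) := by
      refine Nat.lt_of_mul_lt_mul_left (a := p) ?_
      calc p * ((r + 1) * Nat.card (P : Subgroup G))
          ≤ (p + 1) * r * Nat.card (P : Subgroup G) := by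
            rw [← mul_assoc, mul_comm p]; exact Nat.mul_le_mul_right _ hr1
        _ = r * ((p + 1) * Nat.card (P : Subgroup G)) := by ring
        _ < r * (2 * p * Nat.card (CfsgLib.Coprime.pClasses r G)) :=
            Nat.mul_lt_mul_of_pos_left h2 (hπ r hr).pos
        _ = p * (2 * r * Nat.card (CfsgLib.Coprime.pClasses r G)) := by ring
    obtain ⟨hc, hab⟩ := CfsgLib.Coprime.abelian_and_complement_of_lt P h3
    obtain ⟨N, hN, hcompl⟩ :=
      (CfsgLib.Transfer.hasNormalPComplement_iff_exists_isComplement' P).mp hc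
    refine ⟨N, hN, ?_, ?_, ?_⟩
    · rw [← hcompl.index_eq_card]
      exact P.not_dvd_index
    · rw [hcompl.symm.index_eq_card]
      exact IsPGroup.iff_card.mp P.isPGroup'
    · have hsurj : Function.Surjective
          ((QuotientGroup.mk' N).comp (P : Subgroup G).subtype) := by
        intro y
        obtain ⟨g, rfl⟩ := QuotientGroup.mk'_surjective N y
        obtain ⟨⟨n, q⟩, hnq⟩ := hcompl.2 g
        refine ⟨q, ?_⟩
        rw [← show (n : G) * q = g from hnq]
        show (QuotientGroup.mk' N) q = _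
        rw [map_mul]
        simp [(QuotientGroup.eq_one_iff (n : G)).mpr n.2]
      constructor; constructor
      intro a b
      obtain ⟨a, rfl⟩ := hsurj a
      obtain ⟨b, rfl⟩ := hsurj b
      rw [← map_mul, ← map_mul, mul_comm' a b]
  choose N hN hcop hidx hcomm using hkey
  let M : Subgroup G := ⨅ r : {r // r ∈ π}, N r.1 r.2
  have hM : M.Normal := Subgroup.normal_iInf_normal fun r => hN r.1 r.2
  have hMle : ∀ r hr, M ≤ N r hr := fun r hr =>
    iInf_le (fun s : {s // s ∈ π} => N s.1 s.2) ⟨r, hr⟩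
  have hMcard : ∀ r : ℕ, r.Prime → r ∣ Nat.card ↥M → r ∉ π := fun r _ hd hr =>
    hcop r hr (hd.trans (Subgroup.card_dvd_of_le (hMle r hr)))
  have hMidx : ∀ r : ℕ, r.Prime → r ∣ M.index → r ∈ π := by
    intro r hr hd
    have := Fact.mk hr
    rw [Subgroup.index_eq_card] at hd
    obtain ⟨y, hy⟩ := exists_prime_orderOf_dvd_card' r hd
    obtain ⟨g, rfl⟩ := QuotientGroup.mk'_surjective M y
    have hpow : (QuotientGroup.mk' M g) ^ (∏ s : {s // s ∈ π}, (N s.1 s.2).index) = 1 := by
      rw [← map_pow, ← MonoidHom.mem_ker, QuotientGroup.ker_mk', Subgroup.mem_iInf]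
      intro s
      have := hN s.1 s.2
      obtain ⟨k, hk⟩ : (N s.1 s.2).index ∣ ∏ s : {s // s ∈ π}, (N s.1 s.2).index :=
        Finset.dvd_prod_of_mem _ (Finset.mem_univ s)
      rw [hk, pow_mul]
      exact pow_mem (Subgroup.pow_index_mem (N s.1 s.2) g) k
    have hd2 := orderOf_dvd_of_pow_eq_one hpow
    rw [hy] at hd2
    obtain ⟨s, -, hs⟩ := (hr.prime.dvd_finsetProd_iff _).mp hd2
    obtain ⟨j, hj⟩ := hidx s.1 s.2
    rw [hj] at hs
    rw [(Nat.prime_dvd_prime_iff_eq hr (hπ s.1 s.2)).mp (hr.dvd_of_dvd_pow hs)]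
    exact s.2
  have hab : commutator G ≤ M := le_iInf fun s => by
    have := hN s.1 s.2
    exact Subgroup.Normal.quotient_commutative_iff_commutator_le.mp (hcomm s.1 s.2)
  refine ⟨⟨M, hM, hMcard, hMidx⟩, ?_⟩
  have hcopM : (Nat.card M).Coprime M.index :=
    Nat.coprime_of_dvd fun r hr h1 h2 => hMcard r hr h1 (hMidx r hr h2)
  obtain ⟨H, hH⟩ := Subgroup.exists_right_complement'_of_coprime hcopM
  refine ⟨H, ⟨fun r hr hd => hMidx r hr ?_, fun r hr hrπ hd => hMcard r hr ?_ hrπ⟩, ?_⟩
  · rw [hH.symm.index_eq_card]; exact hd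
  · rw [← hH.index_eq_card]; exact hd
  · constructor; constructor
    intro a b
    apply Subtype.ext
    show (a : G) * b = b * a
    rw [← commutatorElement_eq_one_iff_mul_comm, ← Subgroup.mem_bot, ← hH.disjoint.eq_bot]
    refine Subgroup.mem_inf.mpr ⟨hab (Subgroup.commutator_mem_commutator (Subgroup.mem_top _)
      (Subgroup.mem_top _)), ?_⟩
    rw [commutatorElement_def]
    exact mul_mem (mul_mem (mul_mem a.2 b.2) (inv_mem a.2)) (inv_mem b.2)

end Cfsg.Agent.S3899
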