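import Cfsg.Statements.S3900
import Cfsg.Agent.Lib.Coprime.CommutatorValuesCriterion

set_option autoImplicit false
open Cfsg

namespace Cfsg.Agent.S3900

/-- A criterion of Baumslag–Wiegold type for a term of the lower central series. Let G be a finite group and k ≥ 0; call an element a left-normed commutator value of length k + 1 when it has the form [[…[x₀, x₁], …], x_k] with k + 1 entries (for k = 0, any element), where [a, b] = aba⁻¹b⁻¹. Then the (k+1)-st term γ_{k+1}(G) of the lower central series (γ₁(G) = G) is nilpotent if and only if for every two such values x, y of coprime orders, either every prime dividing o(x)·o(y) divides o(xy), or o(x)·o(y) ≤ o(xy). -/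
theorem result {G : Type*} [Group G] [Finite G] (k : ℕ) :
    Group.IsNilpotent ↥((⊤ : Subgroup G).lowerCentralSeries k) ↔
      ∀ x y : G, (∃ f : Fin (k + 1) → G, x = ((List.ofFn f).tail).foldl (fun a b => a * b * a⁻¹ * b⁻¹) (f 0)) → (∃ f : Fin (k + 1) → G, y = ((List.ofFn f).tail).foldl (fun a b => a * b * a⁻¹ * b⁻¹) (f 0)) → (orderOf x).Coprime (orderOf y) →
        (∀ r : ℕ, r.Prime → r ∣ orderOf x * orderOf y → r ∣ orderOf (x * y)) ∨ orderOf x * orderOf y ≤ orderOf (x * y) := by
  have hmem : ∀ (j : ℕ) (v : G), CfsgLib.CommutatorValues.IsValue j v →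
      v ∈ (⊤ : Subgroup G).lowerCentralSeries j := by
    intro j
    induction j with
    | zero => exact fun v _ => Subgroup.mem_top v
    | succ j ih =>
      rintro _ ⟨v, a, hv, rfl⟩
      rw [Subgroup.lowerCentralSeries_succ]
      exact Subgroup.commutator_mem_commutator (ih v hv) (Subgroup.mem_top a)
  constructor
  · intro hN x y hx hy hc
    have hxm := hmem k x ((CfsgLib.CommutatorValues.isValue_iff_foldl k x).2 hx)
    have hym := hmem k y ((CfsgLib.CommutatorValues.isValue_iff_foldl k y).2 hy)
    have hcomm : Commute x y := CfsgLib.OddLocal.commute_of_mem_nilpotent hN hxm hym hc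
    exact Or.inr (hcomm.orderOf_mul_eq_mul_orderOf_of_coprime hc).ge
  · intro h
    exact CfsgLib.CommutatorValues.isNilpotent_lcs_of_cond _ rfl fun x y hx hy hc =>
      h x y ((CfsgLib.CommutatorValues.isValue_iff_foldl k x).1 hx)
        ((CfsgLib.CommutatorValues.isValue_iff_foldl k y).1 hy) hc

end Cfsg.Agent.S3900
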