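import Cfsg.Statements.S3906
import Cfsg.Agent.Lib.CoprimeClass.Main

set_option autoImplicit false
open Cfsg

namespace Cfsg.Agent.S3906

/-- Let p be a prime and let k ≥ 3, c ≥ 0 and d ≥ 0 be integers with 2^d + 2 ≤ k. There is a bound B depending only on p, k, c and d such that the following holds for every finite group G of order prime to p and every elementary abelian subgroup A of order p^k of the automorphism group of G: if, for every non-identity a ∈ A, the d-th derived subgroup of the fixed-point subgroup C_G(a) (the 0-th derived subgroup of a group being the group itself) is nilpotent of class at most c, then the d-th derived subgroup of G is nilpotent of class at most B. -/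
theorem result (p k c d : ℕ) (hp : p.Prime) (hk : 3 ≤ k) (hd : 2 ^ d + 2 ≤ k) :
    ∃ B : ℕ, ∀ (G : Type) [Group G] [Finite G], (Nat.card G).Coprime p →
      ∀ A : Subgroup (MulAut G), Cfsg.IsElementaryAbelian p A → Nat.card ↥A = p ^ k →
        (∀ a ∈ A, a ≠ 1 → (derivedSeries ↥((a : MulAut G).toMonoidHom.eqLocus (MonoidHom.id G)) d).lowerCentralSeries c = ⊥) →
        (derivedSeries G d).lowerCentralSeries B = ⊥ := by
  let D : CfsgLib.CoprimeClass.Data :=
    { p := p, k := k, d := d, dv := true, r := fun i => k - 2 ^ i }
  have hD : D.Valid :=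
    { prime := hp
      hk := by show 1 ≤ k; omega
      r_zero := le_of_eq (by show k - 2 ^ 0 = k - 1; rw [pow_zero])
      r_succ := fun i hi => by
        show k - 2 ^ (i + 1) + k ≤ (k - 2 ^ i) + (k - 2 ^ i)
        have h1 : 2 ^ (i + 1) ≤ 2 ^ d := Nat.pow_le_pow_right (by norm_num) hi
        have h2 : 2 ^ (i + 1) = 2 ^ i + 2 ^ i := by rw [pow_succ]; omega
        omega }
  refine ⟨CfsgLib.CoprimeClass.classBound D c, fun G _ _ hcop A hA hcard hc => ?_⟩
  rw [CfsgLib.CoprimeClass.map_top_derivedSeries]
  refine CfsgLib.CoprimeClass.class_bound_aut (D := D) hD hk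
    (by show 2 ≤ k - 2 ^ d; omega) hcop A hA hcard fun a ha ha1 => ?_
  have h := hc a ha ha1
  rw [CfsgLib.CoprimeClass.map_top_derivedSeries] at h
  exact h

end Cfsg.Agent.S3906
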