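import Cfsg.Statements.S3907
import Cfsg.Agent.Lib.CoprimeClass.Main

set_option autoImplicit false
open Cfsg

namespace Cfsg.Agent.S3907

/-- Let p be a prime and let k ≥ 3 and c ≥ 0 be integers. There is a bound B depending only on p, k and c such that the following holds for every finite group G of order prime to p and every elementary abelian subgroup A of order p^k of the automorphism group of G: if, for every non-identity a ∈ A, the (k−2)-th term of the lower central series of the fixed-point subgroup C_G(a) (the first term being the whole group) is nilpotent of class at most c, then the (k−2)-th term of the lower central series of G is nilpotent of class at most B. -/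
theorem result (p k c : ℕ) (hp : p.Prime) (hk : 3 ≤ k) :
    ∃ B : ℕ, ∀ (G : Type) [Group G] [Finite G], (Nat.card G).Coprime p →
      ∀ A : Subgroup (MulAut G), Cfsg.IsElementaryAbelian p A → Nat.card ↥A = p ^ k →
        (∀ a ∈ A, a ≠ 1 → ((⊤ : Subgroup ↥((a : MulAut G).toMonoidHom.eqLocus (MonoidHom.id G))).lowerCentralSeries (k - 3)).lowerCentralSeries c = ⊥) →
        ((⊤ : Subgroup G).lowerCentralSeries (k - 3)).lowerCentralSeries B = ⊥ := by
  let D : CfsgLib.CoprimeClass.Data :=
    { p := p, k := k, d := k - 3, dv := false, r := fun i => k - 1 - i }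
  have hD : D.Valid :=
    { prime := hp
      hk := by show 1 ≤ k; omega
      r_zero := le_of_eq (by show k - 1 - 0 = k - 1; omega)
      r_succ := fun i (hi : i < k - 3) => by
        show k - 1 - (i + 1) + k ≤ (k - 1 - i) + (k - 1 - 0)
        omega }
  refine ⟨CfsgLib.CoprimeClass.classBound D c, fun G _ _ hcop A hA hcard hc => ?_⟩
  rw [CfsgLib.CoprimeClass.lowerCentralSeries_eq_T (⊤ : Subgroup G) (k - 3)]
  refine CfsgLib.CoprimeClass.class_bound_aut (D := D) hD hk
    (by show 2 ≤ k - 1 - (k - 3); omega) hcop A hA hcard fun a ha ha1 => ?_
  have h := hc a ha ha1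
  rw [CfsgLib.CoprimeClass.lowerCentralSeries_eq_T _ (k - 3)] at h
  exact h

end Cfsg.Agent.S3907
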