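import Cfsg.Statements.S3910
import Mathlib.Tactic
import Mathlib.GroupTheory.SpecificGroups.ZGroup


set_option autoImplicit false
open Cfsg

namespace Cfsg.Agent.S3910

/-- A finite nilpotent group in which any two abelian subgroups of the same order are conjugate is cyclic. -/
theorem result {G : Type*} [Group G] [Finite G] (hB : ∀ A B : Subgroup G, IsMulCommutative ↥A → IsMulCommutative ↥B → Nat.card ↥A = Nat.card ↥B → ∃ g : G, B = A.map (MulAut.conj g).toMonoidHom) (hnil : Group.IsNilpotent G) : IsCyclic G := by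
  have := hnil
  suffices hS : ∀ (p : ℕ), p.Prime → ∀ P : Sylow p G, IsCyclic ↥(P : Subgroup G) by
    have : IsZGroup G := ⟨hS⟩
    infer_instance
  intro p hp P
  have := Fact.mk hp
  by_contra hnc
  have hnormal : ∀ (q : ℕ) [Fact q.Prime] (Q : Sylow q G), (Q : Subgroup G).Normal := fun q _ Q =>
    Sylow.normal_of_normalizerCondition normalizerCondition_of_isNilpotent Q
  -- maximal subgroups of `P` are normal in `G`
  have hM : ∀ M : Subgroup ↥(P : Subgroup G), IsCoatom M →
      (M.map (P : Subgroup G).subtype).Normal := by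
    intro M hM
    have := P.isPGroup'.isNilpotent
    have hMn : M.Normal := Subgroup.NormalizerCondition.normal_of_coatom M normalizerCondition_of_isNilpotent hM
    rw [← Subgroup.normalizer_eq_top_iff]
    apply Subgroup.eq_top_of_le_card
    refine Nat.le_of_dvd Nat.card_pos ?_
    rw [← Nat.factorization_prime_le_iff_dvd Nat.card_pos.ne' Nat.card_pos.ne']
    intro q hq
    have := Fact.mk hq
    obtain ⟨Q⟩ : Nonempty (Sylow q G) := inferInstance
    have hQ : (Q : Subgroup G) ≤ Subgroup.normalizer (M.map (P : Subgroup G).subtype : Set G) := by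
      by_cases hqp : q = p
      · subst hqp
        have : Subsingleton (Sylow q G) := (Sylow.unique_of_normal P (hnormal q P)).instSubsingleton
        rw [Subsingleton.elim Q P]
        intro x hx
        rw [Subgroup.mem_normalizer_iff]
        intro y
        constructor
        · rintro ⟨z, hz, rfl⟩
          exact ⟨⟨x, hx⟩ * z * (⟨x, hx⟩ : ↥(P : Subgroup G))⁻¹, hMn.conj_mem z hz _, rfl⟩
        · rintro ⟨z, hz, hzy⟩
          refine ⟨(⟨x, hx⟩ : ↥(P : Subgroup G))⁻¹ * z * ⟨x, hx⟩, hMn.conj_mem' z hz _, ?_⟩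
          show x⁻¹ * (z : G) * x = y
          rw [show (z : G) = x * y * x⁻¹ from hzy]; group
      · intro x hx
        rw [Subgroup.mem_normalizer_iff]
        intro y
        have hcomm : ∀ w ∈ (P : Subgroup G), x * w * x⁻¹ = w := fun w hw => by
          rw [(Subgroup.commute_of_normal_of_disjoint _ _ (hnormal q Q) (hnormal p P)
            (IsPGroup.disjoint_of_ne q p hqp _ _ Q.isPGroup' P.isPGroup') x w hx hw).eq,
            mul_inv_cancel_right]
        constructor
        · intro hy
          rw [hcomm y (Subgroup.map_subtype_le _ hy)]; exact hy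
        · intro hy
          have := hcomm _ (Subgroup.map_subtype_le _ hy)
          rw [show y = x * y * x⁻¹ from mul_left_cancel (mul_right_cancel this).symm]
          exact hy
    rw [← hq.pow_dvd_iff_le_factorization Nat.card_pos.ne', ← Q.card_eq_multiplicity]
    exact Subgroup.card_dvd_of_le hQ
  have hne : ∀ M : Subgroup ↥(P : Subgroup G), IsCoatom M → ∃ x, x ∉ M := fun M hM => by
    by_contra h
    push Not at h
    exact hM.1 (eq_top_iff.mpr fun x _ => h x)
  obtain ⟨M₁, hM₁, -⟩ := (eq_top_or_exists_le_coatom (⊥ : Subgroup ↥(P : Subgroup G))).resolve_left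
    (fun h => hnc (by
      have : Subsingleton ↥(P : Subgroup G) :=
        Subgroup.subsingleton_iff.mp (subsingleton_of_bot_eq_top h)
      infer_instance))
  obtain ⟨y, hy⟩ := hne M₁ hM₁
  obtain ⟨M₂, hM₂, hyM⟩ := (eq_top_or_exists_le_coatom (Subgroup.zpowers y)).resolve_left
    (fun h => hnc ⟨⟨y, fun z => by rw [← Subgroup.mem_zpowers_iff, h]; exact Subgroup.mem_top z⟩⟩)
  have hy2 : y ∈ M₂ := hyM (Subgroup.mem_zpowers y)
  obtain ⟨x, hx1, hx2⟩ := SetLike.not_le_iff_exists.mp
    (fun h : M₁ ≤ M₂ => hy ((hM₁.le_iff.mp h).resolve_left hM₂.1 ▸ hy2))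
  -- an element outside `N` of order dividing the order of one inside
  have key : ∀ (M : Subgroup ↥(P : Subgroup G)), IsCoatom M → ∀ a b : ↥(P : Subgroup G), b ∈ M →
      orderOf a ∣ orderOf b → a ∈ M := by
    intro M hMc a b hb hdvd
    have hNn := hM M hMc
    let z : G := ((b ^ (orderOf b / orderOf a) : ↥(P : Subgroup G)) : G)
    have hz : z ∈ M.map (P : Subgroup G).subtype := Subgroup.mem_map_of_mem _ (pow_mem hb _)
    have hoz : orderOf z = orderOf (a : G) := by
      show orderOf ((b ^ (orderOf b / orderOf a) : ↥(P : Subgroup G)) : G) = _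
      rw [Subgroup.orderOf_coe, Subgroup.orderOf_coe,
        orderOf_pow_orderOf_div (orderOf_pos b).ne' hdvd]
    obtain ⟨g, hg⟩ := hB (Subgroup.zpowers z) (Subgroup.zpowers (a : G)) inferInstance inferInstance
      (by rw [Nat.card_zpowers, Nat.card_zpowers, hoz])
    have ha : (a : G) ∈ (Subgroup.zpowers z).map (MulAut.conj g).toMonoidHom :=
      hg ▸ Subgroup.mem_zpowers _
    obtain ⟨w, hw, hwa⟩ := ha
    have hwM := hNn.conj_mem w (Subgroup.zpowers_le.mpr hz hw) g
    rw [show g * w * g⁻¹ = (a : G) from hwa] at hwM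
    obtain ⟨a', ha', haa⟩ := hwM
    rwa [← Subtype.ext (show (a' : G) = a from haa)]
  obtain ⟨i, hi⟩ := IsPGroup.iff_orderOf.mp P.isPGroup' x
  obtain ⟨j, hj⟩ := IsPGroup.iff_orderOf.mp P.isPGroup' y
  rcases le_total i j with h | h
  · exact hx2 (key M₂ hM₂ x y hy2 (by rw [hi, hj]; exact pow_dvd_pow p h))
  · exact hy (key M₁ hM₁ y x hx1 (by rw [hi, hj]; exact pow_dvd_pow p h))

end Cfsg.Agent.S3910
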