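import Cfsg.Statements.S3917
import Mathlib.Tactic
import Cfsg.Agent.Lib.Coprime.Abelian


set_option autoImplicit false
open Cfsg

namespace Cfsg.Agent.S3917

/-- Say that a group has self-centralizing non-cyclic subgroups when every non-cyclic subgroup H satisfies C_G(H) ≤ H. A finite abelian group with self-centralizing non-cyclic subgroups is cyclic or elementary abelian of order p² for a prime p. -/
theorem result {G : Type*} [CommGroup G] [Finite G] (hX : (∀ H : Subgroup G, ¬ IsCyclic ↥H → Subgroup.centralizer (H : Set G) ≤ H)) :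
    IsCyclic G ∨ ∃ p : ℕ, p.Prime ∧ Nat.card G = p ^ 2 ∧ Monoid.exponent G = p := by
  by_cases hc : IsCyclic G
  · exact Or.inl hc
  right
  obtain ⟨p, hp, hcard⟩ : ∃ p : ℕ, p.Prime ∧ p < Nat.card (powMonoidHom p : G →* G).ker := by
    by_contra hcon
    push Not at hcon
    exact hc (CfsgLib.Coprime.isCyclic_of_card_prime_roots hcon)
  have := Fact.mk hp
  have htop : ∀ H : Subgroup G, ¬ IsCyclic ↥H → H = ⊤ := fun H hH =>
    eq_top_iff.mpr fun x _ => hX H hH (Subgroup.mem_centralizer_iff.mpr fun y _ => mul_comm y x)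
  have hK : (powMonoidHom p : G →* G).ker = ⊤ := htop _ fun hcyc => by
    have h1 := IsCyclic.exponent_eq_card (α := (powMonoidHom p : G →* G).ker)
    have h2 : Monoid.exponent (powMonoidHom p : G →* G).ker ∣ p :=
      Monoid.exponent_dvd_of_forall_pow_eq_one fun x => Subtype.ext x.2
    rw [h1] at h2
    have := Nat.le_of_dvd hp.pos h2
    omega
  rw [hK, Subgroup.card_top] at hcard
  have hpow : ∀ x : G, x ^ p = 1 := fun x => (hK ▸ Subgroup.mem_top x : x ∈ (powMonoidHom p).ker)
  have hexp : Monoid.exponent G = p := by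
    rcases (Nat.dvd_prime hp).mp (Monoid.exponent_dvd_of_forall_pow_eq_one hpow) with h | h
    · rw [Monoid.exp_eq_one_iff] at h
      have : Nat.card G ≤ 1 := Finite.card_le_one_iff_subsingleton.mpr h
      have := hp.one_lt
      omega
    · exact h
  have hG : IsPGroup p G := fun x => ⟨1, by rw [pow_one]; exact hpow x⟩
  obtain ⟨n, hn⟩ := IsPGroup.iff_card.mp hG
  refine ⟨p, hp, ?_, hexp⟩
  have h2n : 2 ≤ n := by
    by_contra h
    rw [hn] at hcard
    have : p ^ n ≤ p ^ 1 := Nat.pow_le_pow_right hp.pos (by omega)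
    rw [pow_one] at this
    omega
  obtain ⟨H, hH⟩ := Sylow.exists_subgroup_card_pow_prime p (n := 2) (G := G)
    (hn ▸ pow_dvd_pow p h2n)
  rw [← hH, htop H fun hcyc => ?_, Subgroup.card_top]
  have h1 := IsCyclic.exponent_eq_card (α := H)
  have h2 : Monoid.exponent H ∣ p :=
    Monoid.exponent_dvd_of_forall_pow_eq_one fun x => Subtype.ext (hpow x)
  rw [h1, hH] at h2
  have := Nat.le_of_dvd hp.pos h2
  nlinarith [hp.one_lt]

end Cfsg.Agent.S3917
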