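import Cfsg.Statements.S3918
import Cfsg.Agent.Lib.Coprime.IndexP
import Cfsg.Agent.Lib.Transfer.UniqueOrderP


set_option autoImplicit false
open scoped commutatorElement
open Cfsg

namespace Cfsg.Agent.S3918

/-- Say that a group has self-centralizing non-cyclic subgroups when every non-cyclic subgroup H satisfies C_G(H) ≤ H. For an odd prime p, a finite non-abelian p-group has self-centralizing non-cyclic subgroups if and only if it has order p³. -/
theorem result {G : Type*} [Group G] [Finite G] {p : ℕ} [Fact p.Prime] (hp : p ≠ 2) (hG : IsPGroup p G) (hna : ¬ IsMulCommutative G) :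
    (∀ H : Subgroup G, ¬ IsCyclic ↥H → Subgroup.centralizer (H : Set G) ≤ H) ↔ Nat.card G = p ^ 3 := by
  have hpr := (Fact.out : p.Prime)
  obtain ⟨m, hm⟩ := IsPGroup.iff_card.mp hG
  constructor
  · intro h
    have hnc : ¬ IsCyclic G := fun hc => hna ⟨⟨fun a b => by
      obtain ⟨g, hg⟩ := hc.exists_generator
      obtain ⟨i, rfl⟩ := hg a
      obtain ⟨j, rfl⟩ := hg b
      exact (Commute.zpow_zpow_self g i j).eq⟩⟩
    obtain ⟨E, hEn, hEc, hEe, hE⟩ := CfsgLib.Transfer.exists_normal_elementary_sq hp hG hnc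
    have hEnc : ¬ IsCyclic E := by
      intro hc
      obtain ⟨g, hg⟩ := hc.exists_generator
      have h1 : orderOf g ∣ p := orderOf_dvd_of_pow_eq_one (Subtype.ext (hEe g g.2))
      rw [orderOf_eq_card_of_forall_mem_zpowers hg, hE, sq] at h1
      have := Nat.le_of_dvd hpr.pos h1
      nlinarith [hpr.two_le]
    have hCE : Subgroup.centralizer (E : Set G) = E :=
      le_antisymm (h E hEnc) (Subgroup.le_centralizer_iff_isMulCommutative.mpr hEc)
    have h1 := CfsgLib.Transfer.index_centralizer_le_of_normal hG 2 E hE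
    rw [hCE, show 2 * (2 - 1) / 2 = 1 from rfl, pow_one] at h1
    have h2 := E.card_mul_index
    rw [hE] at h2
    have hle : Nat.card G ≤ p ^ 3 := by
      rw [← h2, pow_succ p 2]; exact Nat.mul_le_mul_left _ h1
    rw [hm] at hle ⊢
    have h3 : m ≤ 3 := (Nat.pow_le_pow_iff_right hpr.one_lt).mp hle
    congr 1
    by_contra hne
    refine hna ?_
    rcases Nat.lt_or_ge m 2 with h4 | h4
    · have : IsCyclic G := isCyclic_of_card_dvd_prime (p := p) (hm ▸ (pow_dvd_pow p (show m ≤ 1 by omega)).trans (dvd_of_eq (pow_one p)))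
      exact absurd this hnc
    · exact IsPGroup.isMulCommutative_of_card_eq_prime_sq (p := p) (by rw [hm, show m = 2 by omega])
  · intro hG3 H hH
    obtain ⟨k, hk⟩ := IsPGroup.iff_card.mp (hG.to_subgroup H)
    by_cases hk3 : H = ⊤
    · rw [hk3]; exact le_top
    have hlt : Nat.card H < p ^ 3 := by
      rw [← hG3]
      refine lt_of_le_of_ne (Nat.le_of_dvd Nat.card_pos H.card_subgroup_dvd_card) fun e => hk3 ?_
      exact Subgroup.eq_top_of_card_eq H e
    rw [hk, Nat.pow_lt_pow_iff_right hpr.one_lt] at hlt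
    have hk2 : k = 2 := by
      by_contra hne
      exact hH (isCyclic_of_card_dvd_prime (p := p) (hk ▸ (pow_dvd_pow p (show k ≤ 1 by omega)).trans (dvd_of_eq (pow_one p))))
    subst hk2
    have hHi : H.index = p := by
      have h1 := H.card_mul_index
      rw [hk, hG3] at h1
      exact Nat.eq_of_mul_eq_mul_left (pow_pos hpr.pos 2) (h1.trans (pow_succ p 2))
    have hHc : IsMulCommutative H := IsPGroup.isMulCommutative_of_card_eq_prime_sq hk
    obtain ⟨hZ, hcard⟩ := CfsgLib.Coprime.card_eq_center_mul_commutator hG hna hHc hHi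
    intro x hx
    by_contra hxH
    have htop := CfsgLib.Coprime.sup_zpowers_eq_top hHi hxH
    have hHn := CfsgLib.Coprime.normal_of_index_prime hG hHi
    have hle : H ≤ Subgroup.center G := by
      intro a ha
      refine Subgroup.mem_center_iff.mpr fun w => ?_
      obtain ⟨b, hb, c, hc, rfl⟩ := Subgroup.mem_sup_of_normal_left.mp (htop ▸ Subgroup.mem_top w : w ∈ H ⊔ Subgroup.zpowers x)
      obtain ⟨i, rfl⟩ := Subgroup.mem_zpowers_iff.mp hc
      exact (Commute.mul_left (congrArg Subtype.val (hHc.is_comm.comm ⟨b, hb⟩ ⟨a, ha⟩) : b * a = a * b)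
        (Commute.zpow_left (show Commute x a from (Subgroup.mem_centralizer_iff.mp hx a ha).symm) i)).eq
    rw [le_antisymm hle hZ] at hcard
    have h1 : Nat.card (commutator G) = 1 := by
      refine Nat.eq_of_mul_eq_mul_left (Nat.card_pos (α := Subgroup.center G)) ?_
      rw [← hcard, mul_one]
    refine hna ⟨⟨fun u v => ?_⟩⟩
    have h2 := Subgroup.commutator_mem_commutator (Subgroup.mem_top u) (Subgroup.mem_top v)
    rw [← _root_.commutator_def, Subgroup.card_eq_one.mp h1, Subgroup.mem_bot] at h2
    exact commutatorElement_eq_one_iff_mul_comm.mp h2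

end Cfsg.Agent.S3918
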