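import Cfsg.Statements.S3919
import Cfsg.Agent.Lib.Transfer.MaxClassTwo
import Cfsg.Agent.Lib.StructC.UniqueInvol


set_option autoImplicit false
open Cfsg

namespace Cfsg.Agent.S3919

open Subgroup

theorem quat_exists_self_centralizing {k : ℕ} (hk : 1 ≤ k) {G : Type*} [Group G]
    (e : G ≃* QuaternionGroup (2 ^ k)) :
    ∃ A : Subgroup G, Nat.card A = 4 ∧ centralizer (A : Set G) = A := by
  set m := 2 ^ k
  have : NeZero m := ⟨by positivity⟩
  set q : QuaternionGroup m := QuaternionGroup.xa 0
  refine ⟨zpowers (e.symm q), ?_, ?_⟩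
  · rw [Nat.card_zpowers, MulEquiv.orderOf_eq, QuaternionGroup.orderOf_xa]
  · refine le_antisymm (fun g hg => ?_) ?_
    · have hc : Commute (e g) q := by
        have := congrArg e (mem_centralizer_iff.1 hg _ (mem_zpowers _))
        simp only [map_mul, MulEquiv.apply_symm_apply] at this
        exact this.symm
      have hmem : e g ∈ zpowers q := by
        have hq2 : q ^ 2 = QuaternionGroup.a (m : ZMod (2 * m)) := by
          rw [pow_two, QuaternionGroup.xa_mul_xa]; simp
        have half : ∀ i : ZMod (2 * m), i + i = 0 → i = 0 ∨ i = (m : ZMod (2 * m)) := by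
          intro i hi
          obtain ⟨v, hv, rfl⟩ : ∃ v : ℕ, v < 2 * m ∧ (v : ZMod (2 * m)) = i :=
            ⟨i.val, ZMod.val_lt i, ZMod.natCast_zmod_val i⟩
          rw [← Nat.cast_add, ZMod.natCast_eq_zero_iff] at hi
          obtain ⟨c, hc⟩ := hi
          have : c < 2 := by nlinarith
          interval_cases c
          · exact Or.inl (by rw [show v = 0 by omega, Nat.cast_zero])
          · exact Or.inr (by rw [show v = m by omega])
        have hc' : e g * q = q * e g := hc
        match hg' : e g with
        | QuaternionGroup.a i =>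
          rw [hg', QuaternionGroup.a_mul_xa, QuaternionGroup.xa_mul_a] at hc'
          have hi : i + i = 0 := by
            injection hc' with h
            linear_combination -h
          rcases half i hi with rfl | rfl
          · exact one_mem _
          · exact hq2 ▸ pow_mem (mem_zpowers q) 2
        | QuaternionGroup.xa i =>
          rw [hg', QuaternionGroup.xa_mul_xa, QuaternionGroup.xa_mul_xa] at hc'
          have hi : i + i = 0 := by
            injection hc' with h
            linear_combination -h
          rcases half i hi with rfl | rfl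
          · exact mem_zpowers q
          · have : q * q ^ 2 = QuaternionGroup.xa (m : ZMod (2 * m)) := by
              rw [hq2, QuaternionGroup.xa_mul_a, zero_add]
            exact this ▸ mul_mem (mem_zpowers q) (pow_mem (mem_zpowers q) 2)
      obtain ⟨j, hj⟩ := mem_zpowers_iff.1 hmem
      exact mem_zpowers_iff.2 ⟨j, e.injective (by rw [map_zpow, e.apply_symm_apply, hj])⟩
    · intro g hg
      obtain ⟨j, rfl⟩ := mem_zpowers_iff.1 hg
      refine mem_centralizer_iff.2 fun h hh => ?_
      obtain ⟨i, rfl⟩ := mem_zpowers_iff.1 hh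
      exact (Commute.refl _).zpow_zpow i j

theorem self_centralizing_iff {G : Type*} [Group G] [Finite G] (hna : ¬ IsMulCommutative G)
    {n : ℕ} (hG : Nat.card G = 2 ^ n) :
    (∀ H : Subgroup G, ¬ IsCyclic H → centralizer (H : Set G) ≤ H) ↔
      Group.nilpotencyClass G = n - 1 := by
  classical
  have : Fact (Nat.Prime 2) := ⟨Nat.prime_two⟩
  constructor
  · intro h
    by_cases hu : ∀ a b : G, orderOf a = 2 → orderOf b = 2 → Commute a b → b ∈ zpowers a
    · rcases CfsgLib.StructC.isCyclic_or_quaternion (IsPGroup.of_card hG) hu with hc | ⟨k, hk, ⟨e⟩⟩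
      · exact absurd ⟨⟨fun a b => hc.commGroup.mul_comm a b⟩⟩ hna
      · obtain ⟨A, hA, hC⟩ := quat_exists_self_centralizing hk e
        exact CfsgLib.Transfer.maxClass_of_self_centralizing (p := 2) hG A hA hC
    · push Not at hu
      obtain ⟨a, b, ha, hb, hab, hba⟩ := hu
      have ha2 : a ^ 2 = 1 := ha ▸ pow_orderOf_eq_one a
      have hb2 : b ^ 2 = 1 := hb ▸ pow_orderOf_eq_one b
      have haa : a * a = 1 := by rw [← pow_two]; exact ha2
      have hbb : b * b = 1 := by rw [← pow_two]; exact hb2
      have hab' : a * b = b * a := hab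
      let V : Subgroup G :=
        { carrier := {1, a, b, a * b}
          one_mem' := Or.inl rfl
          mul_mem' := by
            have e1 : a * (a * b) = b := by rw [← mul_assoc, haa, one_mul]
            have e2 : b * (a * b) = a := by rw [hab', ← mul_assoc, hbb, one_mul]
            have e3 : a * b * a = b := by rw [hab', mul_assoc, haa, mul_one]
            have e4 : a * b * b = a := by rw [mul_assoc, hbb, mul_one]
            have e5 : a * b * (a * b) = 1 := by rw [← mul_assoc, e3, hbb]
            rintro x y (rfl | rfl | rfl | rfl) (rfl | rfl | rfl | rfl) <;>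
              simp only [Set.mem_insert_iff, Set.mem_singleton_iff, one_mul, mul_one, haa, hbb, e1,
                e2, e3, e4, e5, ← hab', true_or, or_true]
          inv_mem' := by
            rintro x (rfl | rfl | rfl | rfl)
            · exact Or.inl inv_one
            · exact Or.inr (Or.inl (inv_eq_of_mul_eq_one_right haa))
            · exact Or.inr (Or.inr (Or.inl (inv_eq_of_mul_eq_one_right hbb)))
            · refine Or.inr (Or.inr (Or.inr ?_))
              rw [Set.mem_singleton_iff, mul_inv_rev, inv_eq_of_mul_eq_one_right hbb,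
                inv_eq_of_mul_eq_one_right haa, hab'] }
      have ha1 : a ≠ 1 := fun e => by rw [e, orderOf_one] at ha; exact absurd ha (by norm_num)
      have hb1 : b ≠ 1 := fun e => by rw [e, orderOf_one] at hb; exact absurd hb (by norm_num)
      have hne : a ≠ b := fun e => hba (e ▸ mem_zpowers a)
      have hcard : Nat.card V = 2 ^ 2 := by
        show ({1, a, b, a * b} : Set G).ncard = 4
        have h1 : (1 : G) ≠ a * b := fun e => hne (by
          rw [← mul_one a, e, ← mul_assoc, haa, one_mul])
        exact Set.ncard_eq_four.2 ⟨1, a, b, a * b, ha1.symm, hb1.symm, h1, hne,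
          fun e => hb1 (left_eq_mul.1 e), fun e => ha1 (right_eq_mul.1 e), rfl⟩
      have haV : a ∈ V := Or.inr (Or.inl rfl)
      have hbV : b ∈ V := Or.inr (Or.inr (Or.inl rfl))
      have hcyc : ¬ IsCyclic V := fun hc => by
        have h2 : ∀ x : G, x ∈ V → x ^ 2 = 1 := by
          rintro x (rfl | rfl | rfl | rfl)
          · exact one_pow 2
          · exact ha2
          · exact hb2
          · rw [hab.mul_pow, ha2, hb2, one_mul]
        obtain ⟨⟨g, hgV⟩, hg⟩ := hc.exists_ofOrder_eq_natCard
        rw [Subgroup.orderOf_mk, hcard] at hg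
        have := orderOf_dvd_of_pow_eq_one (h2 g hgV)
        rw [hg] at this
        exact absurd (Nat.le_of_dvd (by norm_num) this) (by norm_num)
      refine CfsgLib.Transfer.maxClass_of_self_centralizing (p := 2) hG V hcard
        (le_antisymm (h V hcyc) fun g hg => mem_centralizer_iff.2 fun x hx => ?_)
      exact congrArg Subtype.val
        ((IsPGroup.commutative_of_card_eq_prime_sq (p := 2) hcard) ⟨x, hx⟩ ⟨g, hg⟩)
  · intro hc H hH
    have hn : 3 ≤ n := by
      by_contra hlt
      refine hna ?_
      interval_cases n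
      · have : Subsingleton G := (Nat.card_eq_one_iff_unique.1 (by simpa using hG)).1
        exact ⟨⟨fun _ _ => Subsingleton.elim _ _⟩⟩
      · have := isCyclic_of_prime_card (α := G) (p := 2) (by simpa using hG)
        exact ⟨⟨fun a b => this.commGroup.mul_comm a b⟩⟩
      · exact IsPGroup.isMulCommutative_of_card_eq_prime_sq (p := 2) hG
    obtain ⟨A, hA, hAi⟩ := CfsgLib.Transfer.exists_cyclic_index_two hn hG hc
    have hZ := CfsgLib.Transfer.card_center_of_maxClass (p := 2) hn hG hc
    have habA : ∀ a ∈ A, ∀ b ∈ A, a * b = b * a := fun a ha b hb =>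
      congrArg Subtype.val (hA.commGroup.mul_comm ⟨a, ha⟩ ⟨b, hb⟩)
    obtain ⟨x, hxH, hxA⟩ : ∃ x ∈ H, x ∉ A := by
      by_contra! hle
      exact hH (isCyclic_of_le hle)
    have hHA : (H ⊓ A) ≠ ⊥ := fun hb => by
      refine hH ?_
      have h1 : ∀ y ∈ H, y ∉ A → x * y = 1 := fun y hy hyA => by
        have : x * y ∈ H ⊓ A := ⟨mul_mem hxH hy,
          (mul_mem_iff_of_index_two hAi).2 (iff_of_false hxA hyA)⟩
        rwa [hb, mem_bot] at this
      refine ⟨⟨⟨x, hxH⟩, fun ⟨y, hy⟩ => ?_⟩⟩
      by_cases hyA : y ∈ A
      · have : y ∈ H ⊓ A := ⟨hy, hyA⟩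
        rw [hb, mem_bot] at this
        exact ⟨0, Subtype.ext (by simp [this])⟩
      · exact ⟨-1, Subtype.ext (by simp [inv_eq_of_mul_eq_one_right (h1 y hy hyA)])⟩
    have hCA : ∀ a ∈ A, x * a = a * x → a ∈ H := by
      intro a ha hxa
      have haZ := CfsgLib.Transfer.mem_center_of_commute (p := 2) habA hAi hxA ha hxa
      obtain ⟨⟨y, hy⟩, hy1⟩ := (ne_bot_iff_exists_ne_one (H := H ⊓ A)).1 hHA
      obtain ⟨⟨z, hz⟩, hzo⟩ := exists_prime_orderOf_dvd_card' (G := (H ⊓ A : Subgroup G)) 2 (by
        obtain ⟨j, hj⟩ := IsPGroup.iff_card.1 ((IsPGroup.of_card hG).to_subgroup (H ⊓ A))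
        rw [hj]
        refine dvd_pow_self 2 fun hj0 => hy1 ?_
        rw [hj0, pow_zero] at hj
        exact (Nat.card_eq_one_iff_unique.1 hj).1.elim _ _)
      rw [Subgroup.orderOf_mk] at hzo
      by_cases ha1 : a = 1
      · rw [ha1]; exact one_mem H
      have hao : orderOf a = 2 := by
        have h1 := orderOf_dvd_natCard (⟨a, haZ⟩ : center G)
        rw [hZ.1, Subgroup.orderOf_mk] at h1
        rcases (Nat.dvd_prime Nat.prime_two).1 h1 with h | h
        · exact absurd (orderOf_eq_one_iff.1 h) ha1
        · exact h
      have key : ∀ u ∈ A, orderOf u = 2 → zpowers u = zpowers a := fun u hu huo => by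
        classical
        have := Fintype.ofFinite A
        have hu2 : u ^ 2 = 1 := huo ▸ pow_orderOf_eq_one u
        have ha2 : a ^ 2 = 1 := hao ▸ pow_orderOf_eq_one a
        by_contra hne
        have hua : u ≠ a := fun e => hne (e ▸ rfl)
        have hu1 : u ≠ 1 := fun e => by rw [e, orderOf_one] at huo; exact absurd huo (by norm_num)
        have hsub : ({1, ⟨u, hu⟩, ⟨a, ha⟩} : Finset A) ⊆ Finset.univ.filter (fun b : A => b ^ 2 = 1) := by
          intro b hb
          simp only [Finset.mem_insert, Finset.mem_singleton] at hb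
          simp only [Finset.mem_filter, Finset.mem_univ, true_and]
          rcases hb with rfl | rfl | rfl
          · exact one_pow 2
          · exact Subtype.ext hu2
          · exact Subtype.ext ha2
        have h3 := (Finset.card_le_card hsub).trans (IsCyclic.card_pow_eq_one_le (α := A) two_pos)
        rw [Finset.card_insert_of_notMem (by simp [Subtype.ext_iff, Ne.symm hu1, Ne.symm ha1]),
          Finset.card_insert_of_notMem (by simp [hua]), Finset.card_singleton] at h3
        omega
      exact (key z hz.2 hzo ▸ zpowers_le.2 hz.1 : zpowers a ≤ H) (mem_zpowers a)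
    intro g hg
    have hxg : x * g = g * x := mem_centralizer_iff.1 hg x hxH
    by_cases hgA : g ∈ A
    · exact hCA g hgA hxg
    · have hmem : x * g ∈ A := (mul_mem_iff_of_index_two hAi).2 (iff_of_false hxA hgA)
      have := hCA _ hmem (by rw [mul_assoc, ← hxg])
      simpa using mul_mem (inv_mem hxH) this


/-- Say that a group has self-centralizing non-cyclic subgroups when every non-cyclic subgroup H satisfies C_G(H) ≤ H. A finite non-abelian 2-group G of order 2^n has self-centralizing non-cyclic subgroups if and only if G has nilpotency class n − 1 (that is, G is dihedral, semidihedral or generalized quaternion). -/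
theorem result {G : Type*} [Group G] [Finite G] (hna : ¬ IsMulCommutative G) (n : ℕ) (hG : Nat.card G = 2 ^ n) :
    (∀ H : Subgroup G, ¬ IsCyclic ↥H → Subgroup.centralizer (H : Set G) ≤ H) ↔ (⊤ : Subgroup G).lowerCentralSeries (n - 2) ≠ ⊥ := by
  have : Fact (Nat.Prime 2) := ⟨Nat.prime_two⟩
  have := (IsPGroup.of_card hG).isNilpotent
  have hle := CfsgLib.Transfer.nilpotencyClass_le_of_card (p := 2) hG
  have h2 : ¬ Group.nilpotencyClass G ≤ 1 := fun h => hna (Group.IsNilpotent.nilpotencyClass_le_one_iff.1 h)
  rw [self_centralizing_iff hna hG, ne_eq, Subgroup.lowerCentralSeries_eq_bot_iff_nilpotencyClass_le]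
  omega

end Cfsg.Agent.S3919
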