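import Cfsg.Statements.S3920
import Mathlib.GroupTheory.SpecificGroups.Dihedral
import Mathlib.GroupTheory.PGroup


set_option autoImplicit false
open Cfsg

namespace Cfsg.Agent.S3920

open DihedralGroup in
/-- the subgroup of elements whose index is a multiple of `d` -/
def multSub (n : ℕ) (d : ZMod n) : Subgroup (DihedralGroup n) where
  carrier := {x | match x with
    | r i => i ∈ AddSubgroup.zmultiples d
    | sr i => i ∈ AddSubgroup.zmultiples d}
  one_mem' := (AddSubgroup.zmultiples d).zero_mem
  mul_mem' := by
    rintro (a | a) (b | b) ha hb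
    · exact (AddSubgroup.zmultiples d).add_mem ha hb
    · exact (AddSubgroup.zmultiples d).sub_mem hb ha
    · exact (AddSubgroup.zmultiples d).add_mem ha hb
    · exact (AddSubgroup.zmultiples d).sub_mem hb ha
  inv_mem' := by
    rintro (a | a) ha
    · exact (AddSubgroup.zmultiples d).neg_mem ha
    · exact ha


/-- Say that a group has self-centralizing non-cyclic subgroups when every non-cyclic subgroup H satisfies C_G(H) ≤ H. For n ≥ 3, the dihedral group of order 2n has self-centralizing non-cyclic subgroups if and only if n is odd or a power of 2. -/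
theorem result (n : ℕ) (hn : 3 ≤ n) : (∀ H : Subgroup (DihedralGroup n), ¬ IsCyclic ↥H → Subgroup.centralizer (H : Set (DihedralGroup n)) ≤ H) ↔ (Odd n ∨ ∃ k : ℕ, n = 2 ^ k) := by
  have : NeZero n := ⟨by omega⟩
  constructor
  · intro h
    by_contra hno
    push Not at hno
    obtain ⟨hev, hpow⟩ := hno
    obtain ⟨k, m, hm, hnm⟩ := Nat.exists_eq_two_pow_mul_odd (n := n) (by omega)
    have hk : k ≠ 0 := by
      rintro rfl
      rw [pow_zero, one_mul] at hnm
      exact hev (hnm ▸ hm)
    have hm3 : 3 ≤ m := by
      rcases hm with ⟨j, rfl⟩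
      rcases j with _ | j
      · exact absurd (by simpa using hnm) (hpow k)
      · omega
    obtain ⟨k, rfl⟩ : ∃ l, k = l + 1 := ⟨k - 1, by omega⟩
    let H := multSub n ((2 ^ (k + 1) : ℕ) : ZMod n)
    have hnc : ¬ IsCyclic ↥H := by
      intro hc
      let _ := hc.commGroup
      have hcomm := mul_comm (⟨DihedralGroup.r ((2 ^ (k + 1) : ℕ) : ZMod n),
        AddSubgroup.mem_zmultiples _⟩ : H) ⟨DihedralGroup.sr 0, zero_mem (AddSubgroup.zmultiples _)⟩
      have h2 := congrArg Subtype.val hcomm
      simp only [Subgroup.coe_mul, DihedralGroup.r_mul_sr, DihedralGroup.sr_mul_r,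
        DihedralGroup.sr.injEq] at h2
      rw [zero_sub, zero_add, ZMod.neg_eq_self_iff, ZMod.natCast_eq_zero_iff,
        ZMod.val_natCast, Nat.mod_eq_of_lt] at h2
      · rcases h2 with h2 | h2
        · have := Nat.le_of_dvd (by positivity) h2
          rw [hnm] at this
          nlinarith [Nat.one_le_two_pow (n := k + 1)]
        · rw [hnm] at h2
          nlinarith [Nat.one_le_two_pow (n := k + 1)]
      · rw [hnm]
        nlinarith [Nat.one_le_two_pow (n := k + 1)]
    let z : ZMod n := ((2 ^ k * m : ℕ) : ZMod n)
    have hz : z + z = 0 := by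
      rw [← Nat.cast_add, ZMod.natCast_eq_zero_iff, hnm, pow_succ]
      exact ⟨1, by ring⟩
    have hzc : DihedralGroup.r z ∈ Subgroup.centralizer (H : Set (DihedralGroup n)) := by
      refine Subgroup.mem_centralizer_iff.mpr ?_
      rintro (i | i) -
      · simp [add_comm]
      · simp only [DihedralGroup.r_mul_sr, DihedralGroup.sr_mul_r, DihedralGroup.sr.injEq]
        rw [sub_eq_add_neg, ← eq_neg_of_add_eq_zero_left hz]
    have hzH := h H hnc hzc
    obtain ⟨t, ht⟩ := AddSubgroup.mem_zmultiples_iff.mp (show z ∈ AddSubgroup.zmultiples _ from hzH)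
    have ht' : ((t * (2 ^ (k + 1) : ℕ) - (2 ^ k * m : ℕ) : ℤ) : ZMod n) = 0 := by
      rw [Int.cast_sub, Int.cast_mul, Int.cast_natCast, Int.cast_natCast, ← zsmul_eq_mul, ht, sub_self]
    rw [ZMod.intCast_zmod_eq_zero_iff_dvd] at ht'
    obtain ⟨s, hs⟩ := ht'
    rw [hnm] at hs
    push_cast at hs
    have h2 : (2 : ℤ) ^ k * (t * 2 - (m : ℤ) - 2 * (m : ℤ) * s) = 0 := by
      linear_combination hs
    have h3 := (mul_eq_zero.mp h2).resolve_left (by positivity)
    rcases hm with ⟨j, rfl⟩
    push_cast at h3
    generalize hu : (j : ℤ) * s = u at *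
    have : (2 : ℤ) * t - 2 * j - 1 - 4 * u - 2 * s = 0 := by rw [← hu]; linear_combination h3
    omega
  · intro hn' H hnc
    have hex : ∃ j, DihedralGroup.sr j ∈ H := by
      by_contra hno
      push Not at hno
      apply hnc
      have : H ≤ Subgroup.zpowers (DihedralGroup.r (1 : ZMod n)) := by
        rintro (i | i) hi
        · exact ⟨i.cast, by simp⟩
        · exact absurd hi (hno i)
      exact isCyclic_of_injective (Subgroup.inclusion this) (Subgroup.inclusion_injective this)
    obtain ⟨j, hj⟩ := hex
    have hex2 : ∃ a : ZMod n, a ≠ 0 ∧ DihedralGroup.r a ∈ H := by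
      by_contra hno
      push Not at hno
      apply hnc
      have : H ≤ Subgroup.zpowers (DihedralGroup.sr j) := by
        rintro (i | i) hi
        · have : i = 0 := by
            by_contra hi0
            exact hno i hi0 hi
          subst this
          exact one_mem (Subgroup.zpowers (DihedralGroup.sr j))
        · have h1 := H.mul_mem hj hi
          rw [DihedralGroup.sr_mul_sr] at h1
          have : i = j := by
            by_contra hij
            exact hno _ (sub_ne_zero.mpr hij) h1
          subst this
          exact Subgroup.mem_zpowers _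
      exact isCyclic_of_injective (Subgroup.inclusion this) (Subgroup.inclusion_injective this)
    obtain ⟨a, ha0, ha⟩ := hex2
    have hkey : ∀ z : ZMod n, z + z = 0 → DihedralGroup.r z ∈ H := by
      intro z hz
      rcases (ZMod.neg_eq_self_iff z).mp (neg_eq_of_add_eq_zero_left hz) with h0 | h0
      · rw [h0]; exact H.one_mem
      rcases hn' with hodd | ⟨k, rfl⟩
      · exact absurd (h0 ▸ even_two_mul z.val) (Nat.not_even_iff_odd.mpr hodd)
      have hdvd : (2 : ℕ) ∣ Nat.card (Subgroup.zpowers (DihedralGroup.r a)) := by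
        rw [Nat.card_zpowers]
        have h1 : orderOf (DihedralGroup.r a) ∣ 2 ^ k := by
          refine orderOf_dvd_of_pow_eq_one ?_
          rw [DihedralGroup.r_pow, ZMod.natCast_self, mul_zero]
          rfl
        obtain ⟨e, -, he⟩ := (Nat.dvd_prime_pow Nat.prime_two).mp h1
        rcases e with _ | e
        · exact absurd (DihedralGroup.r.inj (orderOf_eq_one_iff.mp (he.trans (pow_zero 2)))) ha0
        · exact ⟨2 ^ e, by rw [he, pow_succ']⟩
      obtain ⟨⟨w, hw⟩, hw2⟩ := exists_prime_orderOf_dvd_card' 2 hdvd
      rw [Subgroup.orderOf_mk] at hw2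
      have hwH : w ∈ H := (Subgroup.zpowers_le.mpr ha) hw
      obtain ⟨t, ht⟩ := hw
      simp only [DihedralGroup.r_zpow] at ht
      subst ht
      have h1 := orderOf_eq_iff (n := 2) (by norm_num) |>.mp hw2
      have hne : a * (t : ZMod (2 ^ k)) ≠ 0 := by
        intro h
        have := h1.2 1 (by norm_num) (by norm_num)
        rw [pow_one, h] at this
        exact this rfl
      have h2 := h1.1
      rw [sq, DihedralGroup.r_mul_r, DihedralGroup.one_def, DihedralGroup.r.injEq] at h2
      rcases (ZMod.neg_eq_self_iff _).mp (neg_eq_of_add_eq_zero_left h2) with h3 | h3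
      · exact absurd h3 hne
      · have : a * (t : ZMod (2 ^ k)) = z := ZMod.val_injective _ (by omega)
        rw [← this]; exact hwH
    intro x hx
    have hc := Subgroup.mem_centralizer_iff.mp hx _ hj
    rcases x with i | i
    · simp only [DihedralGroup.r_mul_sr, DihedralGroup.sr_mul_r, DihedralGroup.sr.injEq] at hc
      refine hkey i ?_
      linear_combination hc
    · simp only [DihedralGroup.sr_mul_sr, DihedralGroup.r.injEq] at hc
      have h1 := hkey (i - j) (by linear_combination hc)
      have h2 := H.mul_mem hj h1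
      rw [DihedralGroup.sr_mul_r, add_sub_cancel] at h2
      exact h2

end Cfsg.Agent.S3920
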