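import Cfsg.Statements.S3921
import Cfsg.Agent.Lib.StructC.SelfCentBSW
import Cfsg.Agent.Lib.StructC.SelfCentPSL
import Cfsg.Agent.S0204

set_option autoImplicit false
open Cfsg

namespace Cfsg.Agent.S3921

theorem selfCentNC_of_mulEquiv {X Y : Type*} [Group X] [Group Y] (e : X ≃* Y)
    (hX : CfsgLib.StructC.SCNC.SelfCentNC X) : CfsgLib.StructC.SCNC.SelfCentNC Y := by
  intro H hH c hc
  have h1 : ¬ IsCyclic ↥(H.comap e.toMonoidHom) := fun h => hH (by
    haveI := h
    rw [← Subgroup.map_comap_eq_self_of_surjective (f := e.toMonoidHom) e.surjective H]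
    exact isCyclic_of_surjective _ (MonoidHom.subgroupMap_surjective e.toMonoidHom (H.comap e.toMonoidHom)))
  have h2 : e.symm c ∈ Subgroup.centralizer ((H.comap e.toMonoidHom : Subgroup X) : Set X) := by
    rw [Subgroup.mem_centralizer_iff]
    intro x hx
    apply e.injective
    rw [map_mul, map_mul, e.apply_symm_apply]
    exact Subgroup.mem_centralizer_iff.1 hc _ hx
  simpa using hX _ h1 h2

/-- Say that a group has self-centralizing non-cyclic subgroups when every non-cyclic subgroup H satisfies C_G(H) ≤ H. A non-abelian finite simple group has self-centralizing non-cyclic subgroups if and only if it is isomorphic to PSL₂(q) with q = 4, q = 9, or q a prime of the form 2^k + 1 or 2^k − 1. -/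
theorem result {G : Type*} [Group G] [Finite G] [IsSimpleGroup G] (hna : ¬ IsMulCommutative G) :
    (∀ H : Subgroup G, ¬ IsCyclic ↥H → Subgroup.centralizer (H : Set G) ≤ H) ↔ ∃ (F : Type) (_ : Field F) (_ : Fintype F),
      (Fintype.card F = 4 ∨ Fintype.card F = 9 ∨ ((Fintype.card F).Prime ∧ ∃ k : ℕ, Fintype.card F = 2 ^ k + 1 ∨ Fintype.card F = 2 ^ k - 1)) ∧
      Nonempty (G ≃* Matrix.ProjectiveSpecialLinearGroup (Fin 2) F) := by
  classical
  have hnc : ¬ IsCyclic G := fun hc => hna ⟨⟨fun a b => hc.commGroup.mul_comm a b⟩⟩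
  have hfield : ∀ {F : Type} [Field F] [Fintype F], Nonempty (G ≃* Matrix.ProjectiveSpecialLinearGroup (Fin 2) F) →
      4 ≤ Fintype.card F := by
    intro F _ _ ⟨e⟩
    by_contra hlt
    have h100 : Nat.card G ≤ 59 := by
      rw [Nat.card_congr e.toEquiv]
      have hc := CfsgLib.Geom.Moebius.card_imL_two (F := F)
      have h2 := Fintype.one_lt_card (α := F)
      have hsur : Nat.card (Matrix.ProjectiveSpecialLinearGroup (Fin 2) F) ≤
          Nat.card (Matrix.SpecialLinearGroup (Fin 2) F) :=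
        Nat.card_le_card_of_surjective _ QuotientGroup.mk_surjective
      refine hsur.trans ?_
      rw [CfsgLib.Classical.card_sl_two_eq]
      rcases (show Fintype.card F = 2 ∨ Fintype.card F = 3 by omega) with h | h <;> rw [h] <;> norm_num
    have := Cfsg.Agent.S0493.result hnc (by omega)
    omega
  constructor
  · intro hS
    obtain ⟨Fr⟩ := CfsgLib.StructC.SCNC.exists_frame hna hS (Cfsg.Agent.S0204.result hnc)
    obtain ⟨K, _, _, ⟨e⟩⟩ := CfsgLib.StructC.SCNC.exists_psl_two hna Fr
    have h4 := hfield (F := K) ⟨e⟩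
    haveI : Nontrivial (Matrix.ProjectiveSpecialLinearGroup (Fin 2) K) :=
      e.symm.toEquiv.nontrivial
    haveI : IsSimpleGroup (Matrix.ProjectiveSpecialLinearGroup (Fin 2) K) :=
      IsSimpleGroup.isSimpleGroup_of_surjective e.toMonoidHom e.surjective
    have hna' : ¬ IsMulCommutative (Matrix.ProjectiveSpecialLinearGroup (Fin 2) K) := fun h =>
      hna ⟨⟨fun a b => e.injective (by rw [map_mul, map_mul]; exact h.is_comm.comm _ _)⟩⟩
    obtain ⟨Fr'⟩ := CfsgLib.StructC.SCNC.exists_frame hna' (selfCentNC_of_mulEquiv e hS)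
      (Cfsg.Agent.S0204.result (fun h => hna' ⟨⟨fun a b => h.commGroup.mul_comm a b⟩⟩))
    exact ⟨K, inferInstance, inferInstance, CfsgLib.StructC.SCNC.card_field hna' h4 Fr', ⟨e⟩⟩
  · rintro ⟨F, _, _, hF, ⟨e⟩⟩
    exact selfCentNC_of_mulEquiv e.symm (CfsgLib.StructC.SCNC.selfCentNC_psl (F := F) (hfield (F := F) ⟨e⟩) hF)

end Cfsg.Agent.S3921
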