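import Cfsg.Statements.S3922
import Cfsg.Agent.Lib.Perm.ThreeSizes.Assembly
import Cfsg.Agent.Lib.Perm.ThreeSizes.ThickHyp
import Cfsg.Agent.Lib.Perm.ThreeSizes.Power
import Cfsg.Agent.Lib.Perm.ThreeSizes.NonPower

set_option autoImplicit false
open Cfsg

namespace Cfsg.Agent.S3922

/-- A finite group whose conjugacy classes have exactly three distinct sizes (1 and two further values) is solvable. -/
theorem result {G : Type*} [Group G] [Finite G] (n₁ n₂ : ℕ) (h12 : n₂ < n₁) (h2 : 1 < n₂)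
    (h : ∀ x : G, (Subgroup.centralizer ({x} : Set G)).index = 1 ∨ (Subgroup.centralizer ({x} : Set G)).index = n₂ ∨
      (Subgroup.centralizer ({x} : Set G)).index = n₁)
    (h₁ : ∃ x : G, (Subgroup.centralizer ({x} : Set G)).index = n₁) (h₂ : ∃ x : G, (Subgroup.centralizer ({x} : Set G)).index = n₂) :
    Group.IsSolvable G := by
  by_contra hns
  obtain ⟨a, b, hab, hyp⟩ := CfsgLib.Perm.ThreeSizes.hyp_of_index h12 h2 h h₁ h₂ hns
  refine CfsgLib.Perm.ThreeSizes.false_of_two_orders hyp (fun hlt hd ht => ?_) hab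
  have H := CfsgLib.Perm.ThreeSizes.thick_hyp hyp hlt hd ht
  by_cases hk : ∀ r i : ℕ, r.Prime → b / a ≠ r ^ i
  · exact H.false_of_nonpower hk
  push Not at hk
  obtain ⟨r, α, hr, hα⟩ := hk
  by_cases hri : r ∣ (Subgroup.center G).index
  · exact H.false_of_power hr hri hα
  obtain ⟨c, rfl⟩ := hd
  have ha : 0 < a := H.pos
  rw [Nat.mul_div_cancel_left _ ha] at hα
  subst hα
  obtain ⟨x, -, hx⟩ := hyp.exists_snd
  obtain ⟨g, -, hg⟩ := hyp.exists_fst
  have h0 : 0 < α := Nat.pos_of_ne_zero fun e => by subst e; simp at hlt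
  refine hri ?_
  -- `r * |Z|` divides `a * r ^ α = b`, which divides the order of `G`
  have hd1 : Nat.card (Subgroup.center G) * r ∣ a * r ^ α :=
    mul_dvd_mul (hg ▸ Subgroup.card_dvd_of_le (CfsgLib.Perm.ThreeSizes.center_le_cent g))
      (dvd_pow_self r h0.ne')
  have hd2 := hd1.trans (hx ▸ Subgroup.card_subgroup_dvd_card _)
  rw [← Subgroup.card_mul_index (Subgroup.center G)] at hd2
  exact Nat.dvd_of_mul_dvd_mul_left Nat.card_pos hd2

end Cfsg.Agent.S3922
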