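import Cfsg.Statements.S3941
import Mathlib.Tactic
import Mathlib.GroupTheory.SpecificGroups.Alternating.Simple


set_option autoImplicit false
open Cfsg

namespace Cfsg.Agent.S3941

/-- Let n ≥ 5 and p an odd prime with p ≤ n, and suppose that every proper subgroup of the alternating group of degree n whose order is divisible by p has a normal Sylow p-subgroup. Then n = p. -/
theorem result (n p : ℕ) (hn : 5 ≤ n) [Fact p.Prime] (hp : p ≠ 2) (hpn : p ≤ n)
    (h : ∀ H : Subgroup ↥(alternatingGroup (Fin n)), H ≠ ⊤ → p ∣ Nat.card ↥H → Cfsg.IsPClosed p ↥H) : n = p := by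
  by_contra hne
  have hlt : p < n := lt_of_le_of_ne hpn (Ne.symm hne)
  have hp3 : 3 ≤ p := by
    have := (Fact.out : p.Prime).two_le
    omega
  obtain ⟨m, rfl⟩ : ∃ m, n = m + 1 := ⟨n - 1, by omega⟩
  have hm4 : 4 ≤ m := by omega
  let e : Fin m ≃ {i : Fin (m + 1) // i.val < m} :=
    ⟨fun i => ⟨⟨i.val, by omega⟩, i.isLt⟩, fun i => ⟨i.1.val, i.2⟩, fun i => rfl,
      fun i => Subtype.ext (Fin.ext rfl)⟩
  let f : Equiv.Perm (Fin m) →* Equiv.Perm (Fin (m + 1)) := Equiv.Perm.extendDomainHom e
  let g : alternatingGroup (Fin m) →* alternatingGroup (Fin (m + 1)) :=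
    (f.comp (alternatingGroup (Fin m)).subtype).codRestrict _ fun x => by
      rw [Equiv.Perm.mem_alternatingGroup]
      show Equiv.Perm.sign ((x.1).extendDomain e) = 1
      rw [Equiv.Perm.sign_extendDomain]
      exact Equiv.Perm.mem_alternatingGroup.mp x.2
  have hg : Function.Injective g := fun a b hab =>
    Subtype.ext (Equiv.Perm.extendDomainHom_injective e (congrArg Subtype.val hab))
  have : Nontrivial (Fin m) := Fin.nontrivial_iff_two_le.mpr (by omega)
  have : Nontrivial (Fin (m + 1)) := Fin.nontrivial_iff_two_le.mpr (by omega)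
  have hcard : Nat.card (alternatingGroup (Fin m)) = m.factorial / 2 := by
    rw [nat_card_alternatingGroup, Nat.card_fin]
  have hcard' : Nat.card (alternatingGroup (Fin (m + 1))) = (m + 1).factorial / 2 := by
    rw [nat_card_alternatingGroup, Nat.card_fin]
  have hHcard : Nat.card g.range = m.factorial / 2 := by
    rw [← hcard]
    exact (Nat.card_congr (MonoidHom.ofInjective hg).toEquiv).symm
  have h4 : 4 ∣ m.factorial := (Dvd.intro _ rfl : 4 ∣ 4 * 6).trans
    ((by decide : 4 * 6 = Nat.factorial 4) ▸ Nat.factorial_dvd_factorial hm4)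
  have hne' : g.range ≠ ⊤ := fun he => by
    rw [he, Subgroup.card_top, hcard'] at hHcard
    have h3 := Nat.factorial_lt (n := m) (m := m + 1) (by omega) |>.mpr (by omega)
    have h5 : 4 ∣ (m + 1).factorial := h4.trans (Nat.factorial_dvd_factorial (by omega))
    omega
  have hpm : p ∣ Nat.card (alternatingGroup (Fin m)) := by
    rw [hcard]
    obtain ⟨k, hk⟩ : 2 ∣ m.factorial := (Dvd.intro 2 rfl : 2 ∣ 4).trans h4
    have hd : p ∣ 2 * k := hk ▸ (Fact.out : p.Prime).dvd_factorial.mpr (by omega)
    rw [hk, Nat.mul_div_cancel_left _ (by norm_num)]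
    rcases (Fact.out : p.Prime).dvd_mul.mp hd with h2 | h2
    · have := Nat.le_of_dvd (by norm_num) h2; omega
    · exact h2
  have hclosed : Cfsg.IsPClosed p ↥(g.range) :=
    h g.range hne' (by rw [hHcard, ← hcard]; exact hpm)
  obtain ⟨Q⟩ : Nonempty (Sylow p (alternatingGroup (Fin m))) := inferInstance
  let e' := MonoidHom.ofInjective hg
  have hP : ∀ P : Sylow p (alternatingGroup (Fin m)), (P : Subgroup (alternatingGroup (Fin m))).Normal := fun P => by
    have this : ((P : Subgroup (alternatingGroup (Fin m))).map e'.toMonoidHom).Normal :=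
      hclosed (Sylow.mapSurjective (f := e'.toMonoidHom) e'.surjective P)
    have h6 := this.comap e'.toMonoidHom
    have h7 := Subgroup.comap_map_eq_self_of_injective (f := e'.toMonoidHom) e'.injective
      (P : Subgroup (alternatingGroup (Fin m)))
    exact h7 ▸ h6
  have hQtop : (Q : Subgroup (alternatingGroup (Fin m))) = ⊤ := by
    by_cases hm5 : 5 ≤ m
    · have : IsSimpleGroup (alternatingGroup (Fin m)) :=
        alternatingGroup.isSimpleGroup (by rw [Nat.card_fin]; exact hm5)
      exact (this.eq_bot_or_eq_top_of_normal _ (hP Q)).resolve_left (Q.ne_bot_of_dvd_card hpm)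
    · have hm : m = 4 := by omega
      have hp' : p = 3 := by
        have : p ≠ 4 := fun h => absurd (h ▸ (Fact.out : p.Prime)) (by norm_num)
        omega
      subst hp'
      apply Subgroup.map_injective (alternatingGroup (Fin m)).subtype_injective
      refine le_antisymm (Subgroup.map_mono le_top) ?_
      rw [← MonoidHom.range_eq_map, Subgroup.range_subtype]
      refine Equiv.Perm.closure_three_cycles_eq_alternating.ge.trans ((Subgroup.closure_le _).mpr ?_)
      intro σ hσ
      have hσA : σ ∈ alternatingGroup (Fin m) := hσ.mem_alternatingGroup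
      let x : alternatingGroup (Fin m) := ⟨σ, hσA⟩
      have hx : orderOf x = 3 := by
        rw [← Subgroup.orderOf_coe]
        exact hσ.orderOf
      obtain ⟨P', hP'⟩ := (IsPGroup.of_card (G := Subgroup.zpowers x) (p := 3) (n := 1)
        (by rw [Nat.card_zpowers, hx, pow_one])).exists_le_sylow
      have : Subsingleton (Sylow 3 (alternatingGroup (Fin m))) := by
        have := hP Q
        exact (Sylow.unique_of_normal Q this).instSubsingleton
      exact ⟨x, Subsingleton.elim P' Q ▸ hP' (Subgroup.mem_zpowers x), rfl⟩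
  obtain ⟨j, hj⟩ := IsPGroup.iff_card.mp Q.isPGroup'
  rw [hQtop, Subgroup.card_top, hcard] at hj
  have h2 : 2 ∣ m.factorial / 2 := by
    obtain ⟨k, hk⟩ := h4
    exact ⟨k, by omega⟩
  rw [hj] at h2
  have := (Nat.prime_dvd_prime_iff_eq Nat.prime_two Fact.out).mp (Nat.prime_two.dvd_of_dvd_pow h2)
  omega

end Cfsg.Agent.S3941
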