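import Cfsg.Statements.S3946
import Cfsg.Agent.Lib.StructC.HughesKegel
import Mathlib.GroupTheory.SemidirectProduct
import Mathlib.Algebra.BigOperators.Group.List.Basic

set_option autoImplicit false
open Cfsg

namespace Cfsg.Agent.S3946

/-- Call an automorphism α of order n of a group G splitting when x · α(x) · α²(x) ⋯ α^(n−1)(x) = 1 for every x ∈ G. A finite group admitting a splitting automorphism of prime order is nilpotent (this contains the case of a fixed-point-free automorphism of prime order). -/
theorem result {G : Type*} [Group G] [Finite G] (α : MulAut G) (hp : (orderOf α).Prime)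
    (hsplit : ∀ x : G, (((List.range (orderOf α)).map (fun i : ℕ => (α ^ i) x)).prod = 1)) : Group.IsNilpotent G := by
  classical
  set p := orderOf α with hpdef
  have := Fact.mk hp
  let φ : Subgroup.zpowers α →* MulAut G := (Subgroup.zpowers α).subtype
  let S := G ⋊[φ] Subgroup.zpowers α
  have : Finite S := Finite.of_equiv _ (SemidirectProduct.equivProd (φ := φ)).symm
  let N : Subgroup S := (SemidirectProduct.inl : G →* S).range
  have hN : N = (SemidirectProduct.rightHom : S →* Subgroup.zpowers α).ker :=
    SemidirectProduct.range_inl_eq_ker_rightHom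
  have : N.Normal := hN ▸ MonoidHom.normal_ker _
  have hidx : N.index = p := by
    rw [hN, Subgroup.index_ker, MonoidHom.range_eq_top.2 SemidirectProduct.rightHom_surjective]
    simp [Nat.card_zpowers, p]
  let a : S := SemidirectProduct.inr ⟨α, Subgroup.mem_zpowers α⟩
  have hap : a ^ p = 1 := by
    rw [← map_pow]
    convert map_one (SemidirectProduct.inr : Subgroup.zpowers α →* S)
    exact Subtype.ext (pow_orderOf_eq_one α)
  have hna : ∀ (g : G) (k : ℕ), a ^ k * SemidirectProduct.inl g
      = SemidirectProduct.inl ((α ^ k) g) * a ^ k := by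
    intro g k
    have h := SemidirectProduct.inl_aut (φ := φ) (⟨α, Subgroup.mem_zpowers α⟩ ^ k) g
    rw [map_inv, map_pow SemidirectProduct.inr] at h
    show a ^ k * _ = SemidirectProduct.inl ((φ (⟨α, Subgroup.mem_zpowers α⟩ ^ k)) g) * a ^ k
    rw [h, inv_mul_cancel_right]
  have hone : ∀ g : G, ((SemidirectProduct.inl g : S) * a) ^ p = 1 := by
    intro g
    have key : ∀ k : ℕ, ((SemidirectProduct.inl g : S) * a) ^ k
        = SemidirectProduct.inl (((List.range k).map (fun i : ℕ => (α ^ i) g)).prod) * a ^ k := by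
      intro k
      induction k with
      | zero => simp
      | succ k ih =>
        rw [pow_succ, ih, List.range_succ, List.map_append, List.prod_append, map_mul,
          List.map_singleton, List.prod_singleton, mul_assoc, ← mul_assoc (a ^ k), hna, mul_assoc,
          ← pow_succ, mul_assoc]
    rw [key, hsplit g, map_one, one_mul, hap]
  have hout : ∀ y : S, y ∉ N → y ^ p = 1 := by
    intro y hy
    set h := SemidirectProduct.rightHom y with hh
    have hh1 : h ≠ 1 := fun e => hy (hN ▸ MonoidHom.mem_ker.2 e)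
    have hgen : ∀ k : ℕ, h ^ k = ⟨α, Subgroup.mem_zpowers α⟩ → (y ^ k) ^ p = 1 ∧ y ^ k ≠ 1 := by
      intro k hk
      have he : SemidirectProduct.rightHom (y ^ k) = ⟨α, Subgroup.mem_zpowers α⟩ := by rw [map_pow, hk]
      have hdec : y ^ k = SemidirectProduct.inl (y ^ k).left * a := by
        conv_lhs => rw [← SemidirectProduct.inl_left_mul_inr_right (y ^ k)]
        congr 1
        exact congrArg _ he
      refine ⟨hdec ▸ hone _, fun e => ?_⟩
      rw [e, map_one] at he
      have h1 : orderOf α = 1 := by
        rw [orderOf_eq_one_iff]; exact (congrArg Subtype.val he).symm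
      exact hp.ne_one h1
    have hord : orderOf h = p := (Nat.dvd_prime hp).1 (by
      rw [hpdef, ← Nat.card_zpowers α]; exact orderOf_dvd_natCard h) |>.resolve_left
        fun e => hh1 (orderOf_eq_one_iff.1 e)
    obtain ⟨k, hk⟩ : ∃ k : ℕ, h ^ k = ⟨α, Subgroup.mem_zpowers α⟩ := by
      have htop : Subgroup.zpowers h = ⊤ := Subgroup.eq_top_of_card_eq _ (by
        rw [Nat.card_zpowers, hord, hpdef, ← Nat.card_zpowers α])
      obtain ⟨k, hk⟩ := mem_powers_iff_mem_zpowers.2
        (htop ▸ Subgroup.mem_top (⟨α, Subgroup.mem_zpowers α⟩ : Subgroup.zpowers α))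
      exact ⟨k, hk⟩
    have hk2 : h ^ (k + p) = ⟨α, Subgroup.mem_zpowers α⟩ := by
      rw [pow_add, ← hord, pow_orderOf_eq_one, mul_one, hk]
    obtain ⟨h1, h1'⟩ := hgen k hk
    obtain ⟨h2, h2'⟩ := hgen (k + p) hk2
    have hd1 : orderOf y ∣ k * p := orderOf_dvd_of_pow_eq_one (by rw [pow_mul, h1])
    have hd2 : orderOf y ∣ (k + p) * p := orderOf_dvd_of_pow_eq_one (by rw [pow_mul, h2])
    rw [add_mul] at hd2
    have hd3 : orderOf y ∣ p * p := (Nat.dvd_add_right hd1).1 hd2
    refine orderOf_dvd_iff_pow_eq_one.1 ?_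
    obtain ⟨i, hi, hiy⟩ := (Nat.dvd_prime_pow hp).1 (by rw [pow_two]; exact hd3 : orderOf y ∣ p ^ 2)
    rcases Nat.lt_or_ge i 2 with hi2 | hi2
    · rw [hiy]
      exact (pow_dvd_pow p (by omega)).trans (pow_one p).dvd
    · exfalso
      obtain rfl : i = 2 := by omega
      rw [hiy, pow_two] at hd1
      have hpk : p ∣ k := Nat.dvd_of_mul_dvd_mul_right hp.pos hd1
      obtain ⟨t, rfl⟩ := hpk
      rw [pow_mul, ← hord, pow_orderOf_eq_one, one_pow] at hk
      have h3 : orderOf α = 1 := by
        rw [orderOf_eq_one_iff]; exact (congrArg Subtype.val hk).symm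
      exact hp.ne_one h3
  have hnil : Group.IsNilpotent N :=
    CfsgLib.StructC.Hughes.isNilpotent_of_outside_pow_eq_one S N hidx hout
  exact (Group.isNilpotent_congr (MonoidHom.ofInjective SemidirectProduct.inl_injective)).2 hnil

end Cfsg.Agent.S3946
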