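import Cfsg.Statements.S3949



set_option autoImplicit false
open Cfsg

namespace Cfsg.Agent.S3949

/-- Let G be a finite group and α an automorphism of G of order 2 such that the elements g·α(g)⁻¹ generate G. Let j be a positive integer such that 2^j divides the order of no element inverted by α. Then the set of values of the j-th iterate of the map c ↦ c·α(c)⁻¹ is exactly the set of elements of odd order inverted by α. -/
theorem result {G : Type*} [Group G] [Finite G] (α : MulAut G) (hα : orderOf α = 2) (hG : Subgroup.closure (Set.range (fun c : G => c * (α c)⁻¹)) = ⊤)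
    (j : ℕ) (hj : ∀ g : G, α g = g⁻¹ → ¬ 2 ^ j ∣ orderOf g) :
    Set.range ((fun c : G => c * (α c)⁻¹)^[j]) = {g : G | Odd (orderOf g) ∧ α g = g⁻¹} := by
  set f : G → G := fun c => c * (α c)⁻¹ with hf
  have hα2 : ∀ c, α (α c) = c := fun c => by
    have h := pow_orderOf_eq_one α
    rw [hα, pow_two] at h
    exact DFunLike.congr_fun h c
  have hinv : ∀ c, α (f c) = (f c)⁻¹ := fun c => by
    simp only [hf, map_mul, map_inv, hα2, mul_inv_rev, inv_inv]
  have hiter : ∀ (i : ℕ) (y : G), α y = y⁻¹ → f^[i] y = y ^ 2 ^ i := by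
    intro i
    induction i with
    | zero => intro y _; simp
    | succ i ih =>
      intro y hy
      rw [Function.iterate_succ_apply', ih y hy, pow_succ, pow_mul, pow_two]
      show y ^ 2 ^ i * (α (y ^ 2 ^ i))⁻¹ = _
      rw [map_pow, hy, inv_pow, inv_inv]
  obtain ⟨i, rfl⟩ : ∃ i, j = i + 1 := by
    refine ⟨j - 1, ?_⟩
    rcases Nat.eq_zero_or_pos j with h0 | h0
    · exact absurd (by simp [h0]) (hj 1 (by simp))
    · omega
  ext g
  constructor
  · rintro ⟨c, rfl⟩
    rw [Function.iterate_succ_apply, hiter i _ (hinv c)]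
    refine ⟨?_, by rw [map_pow, hinv, inv_pow]⟩
    obtain ⟨a, o, ho, hao⟩ := Nat.exists_eq_two_pow_mul_odd (orderOf_pos (f c)).ne'
    have hai : a ≤ i := by
      by_contra h
      exact hj _ (hinv c) (hao ▸ dvd_mul_of_dvd_left (pow_dvd_pow 2 (by omega)) o)
    refine ho.of_dvd_nat (orderOf_dvd_of_pow_eq_one ?_)
    rw [← pow_mul, ← orderOf_dvd_iff_pow_eq_one, hao]
    exact Nat.mul_dvd_mul_right (pow_dvd_pow 2 hai) o
  · rintro ⟨hodd, hg⟩
    obtain ⟨m, hm⟩ := exists_pow_eq_self_of_coprime (x := g) (n := 2 ^ (i + 1))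
      (Nat.Coprime.pow_left _ (Nat.coprime_two_left.mpr hodd))
    refine ⟨g ^ m, ?_⟩
    rw [hiter _ _ (by rw [map_pow, hg, inv_pow]), ← pow_mul, mul_comm, pow_mul]
    exact hm

end Cfsg.Agent.S3949
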