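import Cfsg.Statements.S3952
import Cfsg.Agent.Lib.Coprime.Schur
import Cfsg.Agent.Lib.Char.Column
import Cfsg.Agent.Lib.Char.Monomial
import Mathlib.GroupTheory.FiniteAbelian.Duality
import Mathlib.RingTheory.RootsOfUnity.AlgebraicallyClosed
import Mathlib.Analysis.Complex.Polynomial.Basic
import Mathlib.RingTheory.IntegralDomain
import Mathlib.LinearAlgebra.Determinant


set_option autoImplicit false
open Cfsg

namespace Cfsg.Agent.S3952

open Module in
/-- A central element of the derived subgroup of order `e` forces `e ^ 3` to divide the group order. -/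
theorem sq_dvd_of_central {G : Type*} [Group G] [Finite G] {z : G} (hz : z ∈ Subgroup.center G)
    (hzc : z ∈ commutator G) {e : ℕ} (he : orderOf z = e) (ζ : ℂ) (hζ : IsPrimitiveRoot ζ e) :
    ∃ N : ℕ, Nat.card G = e * N ∧ e ^ 2 ∣ N := by
  classical
  let _ := Fintype.ofFinite (Cfsg.IrrCharacter G)
  let _ := Fintype.ofFinite G
  have he0 : 0 < e := he ▸ orderOf_pos z
  have hchar : ∀ χ : Cfsg.IrrCharacter G, ∃ (n : ℕ) (c : ℂ), (∀ j : ℕ, (χ : G → ℂ) (z ^ j) = c ^ j * n) ∧
      c ^ e = 1 ∧ c ^ n = 1 ∧ 0 < n := by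
    intro χ
    obtain ⟨n, ρ, hρ, hχ⟩ := χ.2
    have hn : 0 < n := by
      rcases Nat.eq_zero_or_pos n with h | h
      · exfalso
        subst h
        have := CfsgLib.Char.nontrivial_of_isIrreducible ρ
        exact not_subsingleton (Fin 0 → ℂ) inferInstance
      · exact h
    obtain ⟨c, hc⟩ := CfsgLib.Char.exists_scalar_of_commute ρ (ρ z) fun g => by
      show ρ z * ρ g = ρ g * ρ z
      rw [← map_mul, ← map_mul, Subgroup.mem_center_iff.mp hz g]
    have hpow : ∀ j : ℕ, ρ (z ^ j) = (c ^ j) • (LinearMap.id : (Fin n → ℂ) →ₗ[ℂ] _) := by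
      intro j
      rw [map_pow, hc]
      show (c • (1 : Module.End ℂ (Fin n → ℂ))) ^ j = _
      rw [smul_pow, one_pow]
      rfl
    have : Nonempty (Fin n) := Fin.pos_iff_nonempty.mp hn
    refine ⟨n, c, fun j => ?_, ?_, ?_, hn⟩
    · rw [← hχ]
      show LinearMap.trace ℂ _ (ρ (z ^ j)) = _
      rw [hpow, map_smul, LinearMap.trace_id, Module.finrank_fin_fun, smul_eq_mul]
    · have h := hpow e
      rw [← he, pow_orderOf_eq_one, map_one] at h
      have h2 := congrFun (LinearMap.congr_fun h (fun _ => (1 : ℂ))) ⟨0, hn⟩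
      simp at h2
      rw [← he]; exact h2.symm
    · let d : G →* ℂˣ := (Units.map (LinearMap.det : ((Fin n → ℂ) →ₗ[ℂ] (Fin n → ℂ)) →* ℂ)).comp
        ρ.toHomUnits
      have hd : d z = 1 := MonoidHom.mem_ker.mp (Abelianization.commutator_subset_ker d hzc)
      have h2 : LinearMap.det (ρ z) = 1 := congrArg Units.val hd
      rw [hc, LinearMap.det_smul, Module.finrank_fin_fun, LinearMap.det_id, mul_one] at h2
      exact h2
  choose n c hval hce hcn hn using hchar
  have hone : ∀ χ : Cfsg.IrrCharacter G, (χ : G → ℂ) 1 = (n χ : ℂ) := fun χ => by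
    simpa using hval χ 0
  have hζe : ζ ^ e = 1 := hζ.pow_eq_one
  have hζ0 : ζ ≠ 0 := hζ.ne_zero he0.ne'
  have key : (Nat.card G : ℂ) =
      ∑ χ : Cfsg.IrrCharacter G, (if c χ = ζ then ((n χ : ℂ) ^ 2 * e) else 0) := by
    calc (Nat.card G : ℂ) = ∑ j ∈ Finset.range e, (ζ⁻¹) ^ j *
          ∑ χ : Cfsg.IrrCharacter G, (χ : G → ℂ) 1 * (χ : G → ℂ) (z ^ j) := by
          rw [Finset.sum_eq_single 0]
          · rw [CfsgLib.Char.sum_irr_mul_degree]; simp
          · intro j hj hj0
            rw [CfsgLib.Char.sum_irr_mul_degree, if_neg, mul_zero]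
            exact pow_ne_one_of_lt_orderOf hj0 (he ▸ Finset.mem_range.mp hj)
          · intro h; exact absurd (Finset.mem_range.mpr he0) h
      _ = ∑ χ : Cfsg.IrrCharacter G, (n χ : ℂ) ^ 2 * ∑ j ∈ Finset.range e, (ζ⁻¹ * c χ) ^ j := by
          simp only [Finset.mul_sum]
          rw [Finset.sum_comm]
          refine Finset.sum_congr rfl fun χ _ => Finset.sum_congr rfl fun j _ => ?_
          rw [hone, hval, mul_pow]; ring
      _ = _ := by
          refine Finset.sum_congr rfl fun χ _ => ?_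
          by_cases h : c χ = ζ
          · rw [if_pos h, h, inv_mul_cancel₀ hζ0]; simp
          · rw [if_neg h, geom_sum_eq (fun h1 => h (by
              rw [inv_mul_eq_one₀ hζ0] at h1; exact h1.symm)), mul_pow, inv_pow, hζe, hce]
            simp
  refine ⟨∑ χ : Cfsg.IrrCharacter G, (if c χ = ζ then n χ ^ 2 else 0), ?_, ?_⟩
  · have : (Nat.card G : ℂ) = ((e * ∑ χ : Cfsg.IrrCharacter G, (if c χ = ζ then n χ ^ 2 else 0) : ℕ) : ℂ) := by
      rw [key]
      push_cast
      rw [Finset.mul_sum]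
      refine Finset.sum_congr rfl fun χ _ => ?_
      split <;> push_cast <;> ring
    exact_mod_cast this
  · refine Finset.dvd_sum fun χ _ => ?_
    split
    · next h => exact pow_dvd_pow_of_dvd (hζ.dvd_of_pow_eq_one (n χ) (h ▸ hcn χ)) 2
    · exact dvd_zero _


/-- If `A` is the Schur multiplier of the finite group `Q`, then the square of the exponent of `A` divides the order of `Q`. -/
theorem result {Q : Type*} [Group Q] [Finite Q] {A : Type*} [CommGroup A] (hA : Cfsg.HasSchurMultiplier Q A) : Monoid.exponent A ^ 2 ∣ Nat.card Q := by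
  obtain ⟨⟨Γ, _, _, σ, hσ, ⟨eA⟩⟩, -⟩ := hA
  have : Finite A := Finite.of_equiv _ eA.toEquiv
  obtain ⟨a, ha⟩ := Monoid.exists_orderOf_eq_exponent (Monoid.ExponentExists.of_finite (G := A))
  obtain ⟨eD⟩ := CommGroup.monoidHom_mulEquiv_of_hasEnoughRootsOfUnity A ℂ
  set e := Monoid.exponent A with he
  let lam : σ.ker →* ℂˣ := (eD.symm a).comp eA.toMonoidHom
  have hlam : ∀ j : ℕ, (∀ x, lam x ^ j = 1) ↔ e ∣ j := by
    intro j
    rw [← ha, ← MulEquiv.orderOf_eq eD.symm a, orderOf_dvd_iff_pow_eq_one]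
    constructor
    · intro h
      refine MonoidHom.ext fun x => ?_
      obtain ⟨y, rfl⟩ := eA.surjective x
      exact h y
    · intro h x
      exact DFunLike.congr_fun h (eA x)
  have : Finite lam.range := Finite.of_surjective _ lam.rangeRestrict_surjective
  have : IsCyclic lam.range := inferInstance
  obtain ⟨g, hg⟩ := IsCyclic.exists_generator (α := lam.range)
  obtain ⟨a₀, ha₀⟩ := g.2
  have hge : orderOf (lam a₀) = e := by
    refine Nat.dvd_antisymm (orderOf_dvd_of_pow_eq_one ((hlam e).mpr dvd_rfl a₀)) ((hlam _).mp fun x => ?_)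
    obtain ⟨i, hi⟩ := Subgroup.mem_zpowers_iff.mp (hg ⟨lam x, x, rfl⟩)
    have h := congrArg Subtype.val hi
    simp only [Subgroup.coe_zpow, ← ha₀] at h
    rw [← h, ← zpow_natCast, zpow_comm, zpow_natCast, pow_orderOf_eq_one, one_zpow]
  let B₀ : Subgroup Γ := lam.ker.map σ.ker.subtype
  have : B₀.Normal := ⟨fun x hx g => by
    rwa [Subgroup.mem_center_iff.mp (hσ.2.1 (Subgroup.map_subtype_le _ hx)) g, mul_inv_cancel_right]⟩
  let m := QuotientGroup.mk' B₀
  have hmem : ∀ y : σ.ker, (y : Γ) ∈ B₀ ↔ lam y = 1 := fun y => by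
    constructor
    · rintro ⟨x, hx, hxy⟩
      rw [← Subtype.ext hxy]; exact hx
    · exact fun h => ⟨y, h, rfl⟩
  have hord : orderOf (m a₀) = e := by
    rw [← hge, orderOf_eq_orderOf_iff]
    intro j
    rw [← map_pow, ← map_pow, ← hmem]
    exact QuotientGroup.eq_one_iff _
  have hcen : m a₀ ∈ Subgroup.center (Γ ⧸ B₀) := Subgroup.mem_center_iff.mpr fun y => by
    obtain ⟨y, rfl⟩ := QuotientGroup.mk'_surjective B₀ y
    rw [← map_mul, ← map_mul, Subgroup.mem_center_iff.mp (hσ.2.1 a₀.2) y]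
  have hcom : m a₀ ∈ commutator (Γ ⧸ B₀) := by
    have h := Subgroup.mem_map_of_mem m (hσ.2.2 a₀.2)
    rw [_root_.commutator_def, Subgroup.map_commutator] at h
    exact Subgroup.commutator_mono le_top le_top h
  have hζ : IsPrimitiveRoot ((lam a₀ : ℂˣ) : ℂ) e := by
    rw [← hge]
    exact IsPrimitiveRoot.coe_units_iff.mpr (IsPrimitiveRoot.orderOf _)
  obtain ⟨N, hN, hdvd⟩ := sq_dvd_of_central hcen hcom hord _ hζ
  have hidx : lam.ker.index = e := by
    rw [Subgroup.index_ker, ← hge, ← Nat.card_zpowers]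
    congr 1
    refine congrArg (fun S : Subgroup ℂˣ => (S : Type)) (le_antisymm ?_ (Subgroup.zpowers_le.mpr ⟨a₀, rfl⟩))
    rintro _ ⟨x, rfl⟩
    obtain ⟨i, hi⟩ := Subgroup.mem_zpowers_iff.mp (hg ⟨lam x, x, rfl⟩)
    exact ⟨i, by simpa [← ha₀] using congrArg Subtype.val hi⟩
  have h1 : Nat.card Q * Nat.card σ.ker = Nat.card Γ := by
    rw [mul_comm, ← σ.ker.card_mul_index, Subgroup.index_ker, MonoidHom.range_eq_top.mpr hσ.1, Subgroup.card_top]
  have h2 : Nat.card B₀ * Nat.card (Γ ⧸ B₀) = Nat.card Γ := by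
    rw [← Subgroup.index_eq_card]; exact B₀.card_mul_index
  have h3 : Nat.card B₀ * e = Nat.card σ.ker := by
    rw [← hidx, Subgroup.card_map_of_injective σ.ker.subtype_injective]
    exact lam.ker.card_mul_index
  rw [← h1, ← h3, hN] at h2
  have he0 : 0 < e := Nat.pos_of_ne_zero Monoid.exponent_ne_zero_of_finite
  have : Nat.card Q = N := by
    refine Nat.eq_of_mul_eq_mul_left (Nat.mul_pos (Nat.card_pos (α := B₀)) he0) ?_
    rw [mul_comm, ← h2]; ring
  rw [this]; exact hdvd

end Cfsg.Agent.S3952
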