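import Cfsg.Statements.S3953
import Cfsg.Agent.Lib.Coprime.SchurTransfer


set_option autoImplicit false
open Cfsg

namespace Cfsg.Agent.S3953

/-- Let `P` be a Sylow `p`-subgroup of the finite group `G`, let `A` be the Schur multiplier of `G` and `B` that of `P`. Then the `p`-primary component of `A` is isomorphic to a direct factor of `B`: there are subgroups `C` and `D` of `B` meeting trivially and generating `B`, with `C` isomorphic to the `p`-primary component of `A`. -/
theorem result {G : Type*} [Group G] [Finite G] (p : ℕ) [Fact p.Prime] (P : Sylow p G) {A B : Type*} [CommGroup A] [CommGroup B] (hA : Cfsg.HasSchurMultiplier G A) (hB : Cfsg.HasSchurMultiplier P B) : ∃ C D : Subgroup B, C ⊓ D = ⊥ ∧ C ⊔ D = ⊤ ∧ Nonempty (CommGroup.primaryComponent A p ≃* C) := by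
  obtain ⟨eA⟩ := CfsgLib.Schur.mulEquiv_mult hA
  obtain ⟨eB⟩ := CfsgLib.Schur.mulEquiv_mult hB
  obtain ⟨res, T, hT⟩ := CfsgLib.Schur.exists_res_transfer (P : Subgroup G)
  have hp := (Fact.out : p.Prime)
  have : Finite A := Finite.of_equiv _ eA.symm.toEquiv
  let T' : A →* B := eB.symm.toMonoidHom.comp (T.comp eA.toMonoidHom)
  let r' : B →* A := eA.symm.toMonoidHom.comp (res.comp eB.toMonoidHom)
  have hT' : ∀ a, r' (T' a) = a ^ (P : Subgroup G).index := fun a => by simp [r', T', hT]
  set m := (P : Subgroup G).index with hm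
  have hmp : m.Coprime p := (hp.coprime_iff_not_dvd.mpr P.not_dvd_index).symm
  let Ap := CommGroup.primaryComponent A p
  have hAp : IsPGroup p Ap := fun x => by
    obtain ⟨k, hk⟩ := x.2
    exact ⟨k, Subtype.ext (by simpa using hk)⟩
  obtain ⟨r, hr, hpr⟩ : ∃ r, r * p ^ (Nat.card A).factorization p = Nat.card A ∧ r.Coprime p :=
    ⟨Nat.card A / p ^ (Nat.card A).factorization p,
      Nat.div_mul_cancel (Nat.ordProj_dvd (Nat.card A) p),
      (Nat.coprime_ordCompl hp Nat.card_pos.ne').symm⟩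
  have hpow : ∀ a : A, a ^ r ∈ Ap := fun a =>
    ⟨(Nat.card A).factorization p, by rw [← pow_mul, hr, pow_card_eq_one']⟩
  have hinj : ∀ a ∈ Ap, a ^ (m * r) = 1 → a = 1 := by
    rintro a ⟨k, hk⟩ h
    exact orderOf_eq_one_iff.mp (Nat.eq_one_of_dvd_coprimes (Nat.Coprime.pow_left k
      (Nat.Coprime.mul_right hmp.symm hpr.symm)) (orderOf_dvd_of_pow_eq_one hk) (orderOf_dvd_of_pow_eq_one h))
  let D : Subgroup B := ((powMonoidHom r : A →* A).comp r').ker
  have hcomm : Function.Injective (fun a : Ap => T' a) := fun a b h => by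
    rw [← div_eq_one]
    refine Subtype.ext (hinj _ (a / b).2 ?_)
    have h2 : r' (T' ((a / b : Ap) : A)) = 1 := by
      rw [Subgroup.coe_div, map_div, show T' (a : A) = T' b from h, div_self', map_one]
    rw [hT'] at h2
    rw [pow_mul, h2, one_pow]
  let tC : Ap →* B := T'.comp Ap.subtype
  refine ⟨tC.range, D, ?_, ?_, ⟨MonoidHom.ofInjective (f := tC) hcomm⟩⟩
  · refine eq_bot_iff.mpr ?_
    rintro _ ⟨⟨a, rfl⟩, hd⟩
    have h : (r' (T' (a : A))) ^ r = 1 := hd
    rw [hT', ← pow_mul] at h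
    rw [Subgroup.mem_bot, show a = 1 from Subtype.ext (hinj _ a.2 h), map_one]
  · refine eq_top_iff.mpr fun b _ => ?_
    have hbij : Function.Bijective (fun a : Ap => a ^ (m * r)) :=
      Finite.injective_iff_bijective.mp fun a b h => by
        rw [← div_eq_one]
        refine Subtype.ext (hinj _ (a / b).2 ?_)
        have h' : (a / b) ^ (m * r) = 1 := by rw [div_pow, show a ^ (m * r) = b ^ (m * r) from h, div_self']
        simpa using congrArg Subtype.val h'
    obtain ⟨a, ha⟩ := hbij.2 ⟨(r' b) ^ r, hpow _⟩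
    have ha' : (a : A) ^ (m * r) = (r' b) ^ r := congrArg Subtype.val ha
    rw [show b = tC a * ((tC a)⁻¹ * b) by group]
    refine Subgroup.mul_mem_sup ⟨a, rfl⟩ ?_
    show (r' ((T' (a : A))⁻¹ * b)) ^ r = 1
    rw [map_mul, map_inv, hT', mul_pow, inv_pow, ← pow_mul, ha', inv_mul_cancel]

end Cfsg.Agent.S3953
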