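import Cfsg.Statements.S3954
import Cfsg.Agent.Lib.Coprime.SchurTransfer
import Mathlib.GroupTheory.FiniteAbelian.Duality
import Mathlib.RingTheory.RootsOfUnity.AlgebraicallyClosed
import Mathlib.Analysis.Complex.Polynomial.Basic


set_option autoImplicit false
open Cfsg

namespace Cfsg.Agent.S3954

theorem exists_subgroup_of_le_range {B A : Type*} [CommGroup B] [Finite B] [CommGroup A] (f : B →* A)
    {H : Subgroup A} (hH : H ≤ f.range) : ∃ C : Subgroup B, Nonempty (H ≃* C) := by
  let B' := H.comap f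
  let g : B' →* H := (f.comp B'.subtype).codRestrict H fun x => x.2
  have hg : Function.Surjective g := fun h => by
    obtain ⟨b, hb⟩ := hH h.2
    exact ⟨⟨b, show f b ∈ H from hb ▸ h.2⟩, Subtype.ext hb⟩
  have : Finite H := Finite.of_surjective g hg
  obtain ⟨eH⟩ := CommGroup.monoidHom_mulEquiv_of_hasEnoughRootsOfUnity H ℂ
  obtain ⟨eB⟩ := CommGroup.monoidHom_mulEquiv_of_hasEnoughRootsOfUnity B' ℂ
  let d : (H →* ℂˣ) →* (B' →* ℂˣ) :=
    { toFun := fun χ => χ.comp g, map_one' := rfl, map_mul' := fun _ _ => rfl }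
  have hd : Function.Injective d := fun a b h => MonoidHom.ext fun x => by
    obtain ⟨y, rfl⟩ := hg x
    exact DFunLike.congr_fun h y
  let j : H →* B := B'.subtype.comp (eB.toMonoidHom.comp (d.comp eH.symm.toMonoidHom))
  have hj : Function.Injective j :=
    B'.subtype_injective.comp (eB.injective.comp (hd.comp eH.symm.injective))
  exact ⟨j.range, ⟨MonoidHom.ofInjective hj⟩⟩


/-- Let `U` be a subgroup of index `m` in the finite group `G`, let `A` be the Schur multiplier of `G` and `B` that of `U`. Then the subgroup of `m`-th powers of `A` is isomorphic to a subgroup of `B`. -/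
theorem result {G : Type*} [Group G] [Finite G] (U : Subgroup G) {A B : Type*} [CommGroup A] [CommGroup B] (hA : Cfsg.HasSchurMultiplier G A) (hB : Cfsg.HasSchurMultiplier U B) : ∃ C : Subgroup B, Nonempty ((powMonoidHom U.index : A →* A).range ≃* C) := by
  obtain ⟨eA⟩ := CfsgLib.Schur.mulEquiv_mult hA
  obtain ⟨eB⟩ := CfsgLib.Schur.mulEquiv_mult hB
  obtain ⟨res, T, hT⟩ := CfsgLib.Schur.exists_res_transfer U
  have : Finite B := Finite.of_equiv _ eB.symm.toEquiv
  refine exists_subgroup_of_le_range (eA.symm.toMonoidHom.comp (res.comp eB.toMonoidHom)) ?_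
  rintro _ ⟨a, rfl⟩
  refine ⟨eB.symm (T (eA a)), ?_⟩
  simp [hT, powMonoidHom]

end Cfsg.Agent.S3954
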