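import Cfsg.Statements.S3955
import Cfsg.Agent.Lib.Coprime.Schur
import Mathlib.Algebra.Category.Grp.Injective
import Mathlib.Analysis.Complex.Polynomial.Basic
import Mathlib.LinearAlgebra.Matrix.GeneralLinearGroup.Basic
import Mathlib.GroupTheory.Divisible


set_option autoImplicit false
open Cfsg

namespace Cfsg.Agent.S3955

/-- A homomorphism to the complex units defined on a subgroup of an abelian group extends. -/
theorem exists_extension {B : Type*} [CommGroup B] (H : Subgroup B) (f : H →* ℂˣ) :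
    ∃ g : B →* ℂˣ, g.comp H.subtype = f := by
  have hsurj : ∀ {n : ℕ}, n ≠ 0 → Function.Surjective (fun a : Additive ℂˣ => n • a) := by
    intro n hn a
    obtain ⟨z, hz⟩ := IsAlgClosed.exists_pow_nat_eq ((a.toMul : ℂˣ) : ℂ) (Nat.pos_of_ne_zero hn)
    have hz0 : z ≠ 0 := fun h => by
      rw [h, zero_pow hn] at hz
      exact (a.toMul).ne_zero hz.symm
    exact ⟨Additive.ofMul (Units.mk0 z hz0), Additive.toMul.injective (Units.ext (by simpa using hz))⟩
  let _ : DivisibleBy (Additive ℂˣ) ℕ := divisibleByOfSMulRightSurj _ _ hsurj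
  let _ : DivisibleBy (Additive ℂˣ) ℤ := AddGroup.divisibleByIntOfDivisibleByNat _
  obtain ⟨g, hg⟩ := (Module.Baer.of_divisible (Additive ℂˣ)).extension_property_addMonoidHom
    (MonoidHom.toAdditive H.subtype) (fun x y h => Additive.toMul.injective (H.subtype_injective h))
    (MonoidHom.toAdditive f)
  refine ⟨MonoidHom.toAdditive.symm g, MonoidHom.ext fun x => ?_⟩
  exact congrArg Additive.toMul (DFunLike.congr_fun hg (Additive.ofMul x))


/-- Let `Q` be a finite group with Schur multiplier `A`, and let `σ : Γ →* Q` be a finite stem extension whose kernel is isomorphic to `A` (a Schur covering group of `Q`). Then every homomorphism `γ` from `Q` to the quotient of `GL n ℂ` by its centre lifts along `σ`: there is a homomorphism `ρ : Γ →* GL n ℂ` which, followed by the quotient map, equals `γ ∘ σ`. -/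
theorem result {Q : Type*} [Group Q] [Finite Q] {A : Type*} [CommGroup A] (hA : Cfsg.HasSchurMultiplier Q A) {Γ : Type*} [Group Γ] [Finite Γ] (σ : Γ →* Q) (hσ : Cfsg.IsStemExtension σ) (hk : Nonempty (σ.ker ≃* A)) (n : ℕ) (γ : Q →* (GL (Fin n) ℂ ⧸ Subgroup.center (GL (Fin n) ℂ))) : ∃ ρ : Γ →* GL (Fin n) ℂ, (QuotientGroup.mk' (Subgroup.center (GL (Fin n) ℂ))).comp ρ = γ.comp σ := by
  obtain ⟨e⟩ := hk
  obtain ⟨eA⟩ := CfsgLib.Schur.mulEquiv_mult hA
  obtain ⟨β, hβ⟩ := CfsgLib.Schur.exists_lift (MonoidHom.id Q) σ hσ.1 hσ.2.1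
  rw [MonoidHom.id_comp] at hβ
  have hm := CfsgLib.Schur.map_mult_stem hσ hβ
  have hβs := CfsgLib.Schur.surjective_of_stem β σ hσ (hβ ▸ CfsgLib.Schur.proj_surjective)
  have hLd : β.ker ⊓ commutator (CfsgLib.Schur.UExt Q) = ⊥ := by
    let g : ↥(CfsgLib.Schur.mult Q) →* σ.ker :=
      (β.comp (CfsgLib.Schur.mult Q).subtype).codRestrict σ.ker fun x => hm ▸ Subgroup.mem_map_of_mem β x.2
    have hg : Function.Surjective g := fun y => by
      obtain ⟨x, hx, hxy⟩ : (y : Γ) ∈ (CfsgLib.Schur.mult Q).map β := hm.symm ▸ y.2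
      exact ⟨⟨x, hx⟩, Subtype.ext hxy⟩
    have hgi := ((Nat.bijective_iff_surjective_and_card g).mpr
      ⟨hg, Nat.card_congr (eA.symm.trans e.symm).toEquiv⟩).1
    refine eq_bot_iff.mpr fun x hx => ?_
    have hxm : x ∈ CfsgLib.Schur.mult Q := ⟨show CfsgLib.Schur.proj Q x = 1 by
      rw [← hβ, MonoidHom.comp_apply, MonoidHom.mem_ker.mp hx.1, map_one], hx.2⟩
    have h := hgi (a₁ := ⟨x, hxm⟩) (a₂ := 1) (Subtype.ext (by
      rw [map_one]; exact MonoidHom.mem_ker.mp hx.1))
    exact Subgroup.mem_bot.mpr (congrArg Subtype.val h)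
  let mkc := QuotientGroup.mk' (Subgroup.center (GL (Fin n) ℂ))
  obtain ⟨β', hβ'⟩ := CfsgLib.Schur.exists_lift γ mkc (QuotientGroup.mk'_surjective _)
    (by rw [QuotientGroup.ker_mk'])
  rcases isEmpty_or_nonempty (Fin n) with hn | hn
  · exact ⟨1, MonoidHom.ext fun x => by
      obtain ⟨y, hy⟩ := QuotientGroup.mk'_surjective _ (γ (σ x))
      rw [MonoidHom.comp_apply, MonoidHom.one_apply, map_one, MonoidHom.comp_apply, ← hy,
        show y = 1 from Units.ext (Subsingleton.elim _ _), map_one]⟩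
  let sc : ℂˣ →* GL (Fin n) ℂ := Matrix.GeneralLinearGroup.scalar (Fin n)
  have hsc : Function.Injective sc := fun a b h => by
    have h2 := congrArg Units.val h
    exact Units.ext (Matrix.scalar_inj.mp h2)
  have hL : ∀ l : β.ker, β' l ∈ sc.range := fun l => by
    rw [← Matrix.GeneralLinearGroup.center_eq_range_scalar, ← QuotientGroup.eq_one_iff]
    show mkc (β' l) = 1
    rw [← MonoidHom.comp_apply, hβ', MonoidHom.comp_apply]
    rw [show CfsgLib.Schur.proj Q (l : CfsgLib.Schur.UExt Q) = σ (β l) from (DFunLike.congr_fun hβ _).symm,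
      MonoidHom.mem_ker.mp l.2, map_one, map_one]
  let f0 : β.ker →* ℂˣ := (MonoidHom.ofInjective hsc).symm.toMonoidHom.comp
    ((β'.comp β.ker.subtype).codRestrict sc.range hL)
  have hf0 : ∀ l, sc (f0 l) = β' l := fun l => by
    exact congrArg Subtype.val ((MonoidHom.ofInjective hsc).apply_symm_apply ⟨β' l, hL l⟩)
  let ab : β.ker →* Abelianization (CfsgLib.Schur.UExt Q) := Abelianization.of.comp β.ker.subtype
  have habi : Function.Injective ab := by
    rw [← MonoidHom.ker_eq_bot_iff, eq_bot_iff]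
    intro x hx
    have h : (x : CfsgLib.Schur.UExt Q) ∈ β.ker ⊓ commutator _ :=
      ⟨x.2, by rw [← Abelianization.ker_of]; exact hx⟩
    rw [hLd, Subgroup.mem_bot] at h
    exact Subgroup.mem_bot.mpr (Subtype.ext h)
  obtain ⟨g, hg⟩ := exists_extension ab.range (f0.comp (MonoidHom.ofInjective habi).symm.toMonoidHom)
  let χ : CfsgLib.Schur.UExt Q →* ℂˣ := g.comp Abelianization.of
  have hχ : ∀ l : β.ker, χ l = f0 l := fun l => by
    have h := DFunLike.congr_fun hg (MonoidHom.ofInjective habi l)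
    rw [MonoidHom.comp_apply, MonoidHom.comp_apply, MulEquiv.coe_toMonoidHom,
      MulEquiv.symm_apply_apply] at h
    exact h
  have hscc : ∀ (a : ℂˣ) (y : GL (Fin n) ℂ), y * sc a = sc a * y := fun a =>
    Subgroup.mem_center_iff.mp (by
      rw [Matrix.GeneralLinearGroup.center_eq_range_scalar]; exact ⟨a, rfl⟩)
  let ψ : CfsgLib.Schur.UExt Q →* GL (Fin n) ℂ := MonoidHom.mk' (fun x => β' x * (sc (χ x))⁻¹) fun a b => by
    rw [map_mul, map_mul, map_mul, mul_inv_rev]
    calc β' a * β' b * ((sc (χ b))⁻¹ * (sc (χ a))⁻¹) = β' a * ((β' b * (sc (χ b))⁻¹) * (sc (χ a))⁻¹) := by group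
      _ = β' a * ((sc (χ a))⁻¹ * (β' b * (sc (χ b))⁻¹)) := by rw [← map_inv sc (χ a), hscc]
      _ = _ := by group
  have hψ : β.ker ≤ ψ.ker := fun x hx => by
    show β' x * (sc (χ x))⁻¹ = 1
    rw [hχ ⟨x, hx⟩, hf0, mul_inv_cancel]
  refine ⟨β.liftOfSurjective hβs ⟨ψ, hψ⟩, MonoidHom.ext fun y => ?_⟩
  obtain ⟨x, rfl⟩ := hβs y
  show mkc (β.liftOfSurjective hβs ⟨ψ, hψ⟩ (β x)) = γ (σ (β x))
  rw [show β.liftOfSurjective hβs ⟨ψ, hψ⟩ (β x) = ψ x from MonoidHom.liftOfRightInverse_comp_apply _ _ _ _ x,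
    show σ (β x) = CfsgLib.Schur.proj Q x from DFunLike.congr_fun hβ x]
  show mkc (β' x * (sc (χ x))⁻¹) = _
  rw [map_mul, map_inv, show mkc (sc (χ x)) = 1 from (QuotientGroup.eq_one_iff _).mpr
    (Subgroup.mem_center_iff.mpr (hscc (χ x))), inv_one, mul_one]
  exact DFunLike.congr_fun hβ' x

end Cfsg.Agent.S3955
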