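import Cfsg.Statements.S3956
import Cfsg.Agent.Lib.Coprime.Schur
import Mathlib.GroupTheory.FiniteAbelian.Duality
import Mathlib.RingTheory.RootsOfUnity.AlgebraicallyClosed
import Mathlib.Analysis.Complex.Polynomial.Basic
import Mathlib.LinearAlgebra.Matrix.GeneralLinearGroup.Basic


set_option autoImplicit false
universe u v
open Cfsg

namespace Cfsg.Agent.S3956

open scoped commutatorElement

/-- The monomial projective representation attached to a central character of an extension. -/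
theorem exists_monomial {Q : Type*} [Group Q] [Finite Q] {Δ : Type*} [Group Δ] {τ : Δ →* Q}
    (hτ : Function.Surjective τ) (hker : τ.ker ≤ Subgroup.center Δ) (lam : ↥τ.ker →* ℂˣ) :
    ∃ (n : ℕ) (ρ : Δ →* GL (Fin n) ℂ), ∀ z : τ.ker,
      ρ z ∈ Subgroup.center (GL (Fin n) ℂ) ∧ (ρ z = 1 → lam z = 1) := by
  classical
  let _ := Fintype.ofFinite Q
  let s : Q → Δ := Function.surjInv hτ
  have hs : ∀ q, τ (s q) = q := Function.surjInv_eq hτ
  let e : Q ≃ Fin (Nat.card Q) := Finite.equivFin Q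
  let z : Δ → Q → τ.ker := fun d q => ⟨(s (τ d * q))⁻¹ * d * s q, by
    rw [MonoidHom.mem_ker, map_mul, map_mul, map_inv, hs, hs]; group⟩
  have hz : ∀ d d' q, z (d * d') q = z d (τ d' * q) * z d' q := fun d d' q => Subtype.ext (by
    show (s (τ (d * d') * q))⁻¹ * (d * d') * s q =
      ((s (τ d * (τ d' * q)))⁻¹ * d * s (τ d' * q)) * ((s (τ d' * q))⁻¹ * d' * s q)
    rw [map_mul, mul_assoc (τ d)]; group)
  let M : Δ → Matrix (Fin (Nat.card Q)) (Fin (Nat.card Q)) ℂ := fun d i j =>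
    if e.symm i = τ d * e.symm j then (lam (z d (e.symm j)) : ℂ) else 0
  have hscalar : ∀ d (hd : d ∈ τ.ker), M d = Matrix.scalar (Fin (Nat.card Q)) (lam ⟨d, hd⟩ : ℂ) := by
    intro d hd
    ext i j
    have hzd : z d (e.symm j) = ⟨d, hd⟩ := Subtype.ext (by
      show (s (τ d * e.symm j))⁻¹ * d * s (e.symm j) = d
      rw [MonoidHom.mem_ker.mp hd, one_mul, mul_assoc, ← Subgroup.mem_center_iff.mp (hker hd)]
      group)
    simp only [M, MonoidHom.mem_ker.mp hd, one_mul, hzd, EmbeddingLike.apply_eq_iff_eq,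
      Matrix.scalar_apply, Matrix.diagonal_apply]
  let Mh : Δ →* Matrix (Fin (Nat.card Q)) (Fin (Nat.card Q)) ℂ :=
    { toFun := M
      map_one' := by
        rw [hscalar 1 (one_mem _), show (⟨1, one_mem _⟩ : τ.ker) = 1 from rfl, map_one, Units.val_one,
          map_one]
      map_mul' := fun d d' => by
        ext i j
        rw [Matrix.mul_apply, Finset.sum_eq_single (e (τ d' * e.symm j))]
        · simp only [M, Equiv.symm_apply_apply, map_mul, mul_assoc, hz, if_true]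
          split <;> simp
        · intro k _ hk
          have : e.symm k ≠ τ d' * e.symm j := fun h => hk (by rw [← h, Equiv.apply_symm_apply])
          simp [M, this]
        · simp }
  refine ⟨Nat.card Q, Mh.toHomUnits, fun w => ⟨?_, fun hw => ?_⟩⟩
  · rw [Matrix.GeneralLinearGroup.center_eq_range_scalar]
    refine ⟨lam w, Units.ext ?_⟩
    exact (hscalar w w.2).symm
  · have h1 : M w = 1 := congrArg Units.val hw
    rw [hscalar w w.2] at h1
    have h2 := congrFun (congrFun h1 (e 1)) (e 1)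
    simp at h2
    exact h2


/-- Let `σ : Γ →* Q` be a finite stem extension of the finite group `Q` such that every homomorphism from `Q` to the quotient of `GL n ℂ` by its centre, for every `n`, lifts along `σ` to a homomorphism `Γ →* GL n ℂ`. Then `σ` is a Schur covering group of `Q`: for every finite stem extension `τ : Δ →* Q` with `Δ` in the same universe as `Q`, the kernel of `τ` is a homomorphic image of the kernel of `σ`. -/
theorem result {Q : Type u} [Group Q] [Finite Q] {Γ : Type v} [Group Γ] [Finite Γ] (σ : Γ →* Q) (hσ : Cfsg.IsStemExtension σ) (hlift : ∀ (n : ℕ) (γ : Q →* (GL (Fin n) ℂ ⧸ Subgroup.center (GL (Fin n) ℂ))), ∃ ρ : Γ →* GL (Fin n) ℂ, (QuotientGroup.mk' (Subgroup.center (GL (Fin n) ℂ))).comp ρ = γ.comp σ) (Δ : Type u) [Group Δ] [Finite Δ] (τ : Δ →* Q) (hτ : Cfsg.IsStemExtension τ) : ∃ π : σ.ker →* τ.ker, Function.Surjective π := by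
  classical
  let _ : CommGroup τ.ker :=
    { (inferInstance : Group τ.ker) with
      mul_comm := fun a b => Subtype.ext (Subgroup.mem_center_iff.mp (hτ.2.1 b.2) a) }
  let P : Subgroup (Γ × Δ) := (σ.comp (MonoidHom.fst Γ Δ)).eqLocus (τ.comp (MonoidHom.snd Γ Δ))
  let p₁ : P →* Γ := (MonoidHom.fst Γ Δ).comp P.subtype
  let p₂ : P →* Δ := (MonoidHom.snd Γ Δ).comp P.subtype
  have hp : ∀ x : P, σ (p₁ x) = τ (p₂ x) := fun x => x.2
  let N : Subgroup P := commutator P ⊓ (σ.comp p₁).ker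
  have hN1 : ∀ x ∈ N, p₁ x ∈ σ.ker := fun x hx => hx.2
  have hN2 : ∀ x ∈ N, p₂ x ∈ τ.ker := fun x hx => by
    rw [MonoidHom.mem_ker, ← hp]; exact hx.2
  have hs1 : Function.Surjective (σ.comp p₁) := fun q => by
    obtain ⟨a, ha⟩ := hσ.1 q
    obtain ⟨b, hb⟩ := hτ.1 q
    exact ⟨⟨(a, b), ha.trans hb.symm⟩, ha⟩
  have hs2 : Function.Surjective (τ.comp p₂) := fun q => by
    obtain ⟨x, hx⟩ := hs1 q
    exact ⟨x, (hp x).symm.trans hx⟩
  have hone : ∀ x ∈ N, p₁ x = 1 → p₂ x = 1 := by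
    intro x hx hx1
    by_contra hne
    obtain ⟨lam, hlam⟩ := CommGroup.exists_apply_ne_one_of_hasEnoughRootsOfUnity τ.ker ℂ
      (a := (⟨p₂ x, hN2 x hx⟩ : τ.ker)) (fun h => hne (congrArg Subtype.val h))
    apply hlam
    obtain ⟨n, ρτ, hρτ⟩ := exists_monomial hτ.1 hτ.2.1 lam
    let mkc := QuotientGroup.mk' (Subgroup.center (GL (Fin n) ℂ))
    have hle : τ.ker ≤ (mkc.comp ρτ).ker := fun d hd => by
      rw [MonoidHom.mem_ker]
      exact (QuotientGroup.eq_one_iff _).mpr (hρτ ⟨d, hd⟩).1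
    let γ := τ.liftOfSurjective hτ.1 ⟨mkc.comp ρτ, hle⟩
    have hγ : γ.comp τ = mkc.comp ρτ := MonoidHom.liftOfRightInverse_comp _ _ _ _
    obtain ⟨ρ, hρ⟩ := hlift n γ
    have hagree : commutator P ≤ (ρ.comp p₁).eqLocus (ρτ.comp p₂) := by
      rw [commutator_def, Subgroup.commutator_le]
      intro a _ b _
      show ρ (p₁ ⁅a, b⁆) = ρτ (p₂ ⁅a, b⁆)
      rw [map_commutatorElement, map_commutatorElement, map_commutatorElement, map_commutatorElement]
      have key : ∀ y : P, (ρ (p₁ y))⁻¹ * ρτ (p₂ y) ∈ Subgroup.center (GL (Fin n) ℂ) := fun y => by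
        rw [← QuotientGroup.eq_one_iff]
        show mkc _ = 1
        rw [map_mul, map_inv]
        have h1 : mkc (ρ (p₁ y)) = γ (σ (p₁ y)) := DFunLike.congr_fun hρ (p₁ y)
        have h2 : mkc (ρτ (p₂ y)) = γ (τ (p₂ y)) := (DFunLike.congr_fun hγ (p₂ y)).symm
        rw [h1, h2, hp y, inv_mul_cancel]
      exact CfsgLib.Schur.commutatorElement_congr (key a) (key b)
    refine (hρτ ⟨p₂ x, hN2 x hx⟩).2 ?_
    have h : ρ (p₁ x) = ρτ (p₂ x) := hagree hx.1
    rw [hx1, map_one] at h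
    exact h.symm
  let f₁ : N →* σ.ker := (p₁.comp N.subtype).codRestrict σ.ker fun x => hN1 x x.2
  let f₂ : N →* τ.ker := (p₂.comp N.subtype).codRestrict τ.ker fun x => hN2 x x.2
  have hf1 : Function.Surjective f₁ := fun y => by
    have hm := CfsgLib.Schur.map_commutator_eq p₁ σ hσ.2.1 hs1
    obtain ⟨x, hx, hxy⟩ : (y : Γ) ∈ (commutator P).map p₁ := hm.symm ▸ hσ.2.2 y.2
    exact ⟨⟨x, hx, show σ (p₁ x) = 1 by rw [hxy]; exact y.2⟩, Subtype.ext hxy⟩
  have hf2 : Function.Surjective f₂ := fun y => by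
    have hm := CfsgLib.Schur.map_commutator_eq p₂ τ hτ.2.1 hs2
    obtain ⟨x, hx, hxy⟩ : (y : Δ) ∈ (commutator P).map p₂ := hm.symm ▸ hτ.2.2 y.2
    exact ⟨⟨x, hx, show σ (p₁ x) = 1 by rw [hp, hxy]; exact y.2⟩, Subtype.ext hxy⟩
  have hle : f₁.ker ≤ f₂.ker := fun x hx => Subtype.ext (hone x x.2 (congrArg Subtype.val hx))
  refine ⟨f₁.liftOfSurjective hf1 ⟨f₂, hle⟩, fun y => ?_⟩
  obtain ⟨x, hx⟩ := hf2 y
  exact ⟨f₁ x, by rw [← hx]; exact MonoidHom.liftOfRightInverse_comp_apply _ _ _ _ x⟩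

end Cfsg.Agent.S3956
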