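import Cfsg.Statements.S3958
import Cfsg.Agent.Lib.Coprime.Schur


set_option autoImplicit false
universe u v
open Cfsg

namespace Cfsg.Agent.S3958

/-- Let `σ : Γ →* Q` be a finite stem extension of the finite group `Q` with `Γ` of trivial Schur multiplier. Then `σ` is a Schur covering group of `Q`: for every finite stem extension `τ : Δ →* Q` with `Δ` in the same universe as `Q`, the kernel of `τ` is a homomorphic image of the kernel of `σ`. -/
theorem result {Q : Type u} [Group Q] [Finite Q] {Γ : Type v} [Group Γ] [Finite Γ] (σ : Γ →* Q) (hσ : Cfsg.IsStemExtension σ) (hΓ : Cfsg.HasCyclicSchurMultiplier Γ 1) (Δ : Type u) [Group Δ] [Finite Δ] (τ : Δ →* Q) (hτ : Cfsg.IsStemExtension τ) : ∃ π : σ.ker →* τ.ker, Function.Surjective π := by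
  obtain ⟨Γ', _, _, σ', hσ', ⟨e⟩, β, hβs, hβ⟩ := CfsgLib.Schur.exists_cover_over hσ
  have hle : β.ker ≤ σ'.ker := fun x hx => by
    rw [MonoidHom.mem_ker, ← hβ, MonoidHom.comp_apply, MonoidHom.mem_ker.mp hx, map_one]
  have hstem : Cfsg.IsStemExtension β := ⟨hβs, hle.trans hσ'.2.1, hle.trans hσ'.2.2⟩
  have hbot := CfsgLib.Schur.ker_eq_bot_of_cyclic_one hΓ hstem
  have hinj : Function.Injective β := (MonoidHom.ker_eq_bot_iff β).mp hbot
  let j : σ'.ker →* σ.ker := (β.comp σ'.ker.subtype).codRestrict σ.ker fun x => by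
    rw [MonoidHom.mem_ker]
    show σ (β x) = 1
    rw [← MonoidHom.comp_apply, hβ]
    exact x.2
  have hj : Function.Bijective j := by
    refine ⟨fun x y h => Subtype.ext (hinj (congrArg Subtype.val h)), fun y => ?_⟩
    obtain ⟨x, hx⟩ := hβs y
    have hxk : x ∈ σ'.ker := by
      rw [MonoidHom.mem_ker, ← hβ, MonoidHom.comp_apply, hx]
      exact y.2
    exact ⟨⟨x, hxk⟩, Subtype.ext hx⟩
  obtain ⟨π, hπ⟩ := CfsgLib.Schur.exists_surjective_of_stem hτ
  let t := ((MulEquiv.ofBijective j hj).symm.trans e)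
  exact ⟨π.comp t.toMonoidHom, hπ.comp t.surjective⟩

end Cfsg.Agent.S3958
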