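import Cfsg.Statements.S3960
import Cfsg.Agent.Lib.Coprime.Schur


set_option autoImplicit false
universe u
open Cfsg

namespace Cfsg.Agent.S3960

/-- A finite perfect group `Q` has a universal central extension: a finite perfect group `G` in the universe of `Q` and a surjective homomorphism `π : G →* Q` with central kernel such that for every group `X` in that universe and every surjective homomorphism `ξ : X →* Q` with central kernel there is exactly one homomorphism `η : G →* X` with `ξ ∘ η = π`. -/
theorem result {Q : Type u} [Group Q] [Finite Q] (hQ : Group.IsPerfect Q) : ∃ (G : Type u) (_ : Group G) (_ : Finite G) (π : G →* Q), Group.IsPerfect G ∧ Function.Surjective π ∧ π.ker ≤ Subgroup.center G ∧ ∀ (X : Type u) [Group X] (ξ : X →* Q), Function.Surjective ξ → ξ.ker ≤ Subgroup.center X → ∃! η : G →* X, ξ.comp η = π := by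
  have hQ' : commutator Q = ⊤ := Group.isPerfect_def.mp hQ
  obtain ⟨hperf, hsurj⟩ := CfsgLib.Schur.perfect_commutator_of_central (CfsgLib.Schur.proj Q)
    CfsgLib.Schur.proj_surjective CfsgLib.Schur.ker_proj_le_center hQ'
  refine ⟨↥(commutator (CfsgLib.Schur.UExt Q)), inferInstance, inferInstance,
    (CfsgLib.Schur.proj Q).comp (commutator (CfsgLib.Schur.UExt Q)).subtype,
    Group.isPerfect_def.mpr hperf, hsurj, ?_, ?_⟩
  · intro x hx
    refine Subgroup.mem_center_iff.mpr fun y => Subtype.ext ?_
    exact Subgroup.mem_center_iff.mp (CfsgLib.Schur.ker_proj_le_center (Q := Q) (show (x : CfsgLib.Schur.UExt Q) ∈ _ from hx)) y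
  · intro X _ ξ hξ hk
    obtain ⟨β, hβ⟩ := CfsgLib.Schur.exists_lift (MonoidHom.id Q) ξ hξ hk
    refine ⟨β.comp (commutator (CfsgLib.Schur.UExt Q)).subtype, ?_, fun η hη => ?_⟩
    · show ξ.comp (β.comp _) = _
      rw [← MonoidHom.comp_assoc, hβ, MonoidHom.id_comp]
    · refine CfsgLib.Schur.eq_of_perfect hperf hk ?_
      rw [hη, ← MonoidHom.comp_assoc, hβ, MonoidHom.id_comp]

end Cfsg.Agent.S3960
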