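import Cfsg.Statements.S3963
import Cfsg.Agent.Lib.StructB.MetacyclicBound

set_option autoImplicit false
open Cfsg

namespace Cfsg.Agent.S3963

/-- For every `n ≥ 1` the dicyclic (generalized quaternion) group of order `4 n` has trivial Schur multiplier. -/
theorem result (n : ℕ) [NeZero n] : Cfsg.HasCyclicSchurMultiplier (QuaternionGroup n) 1 := by
  refine CfsgLib.StructB.hasCyclicSchurMultiplier_one_of_bound fun Γ _ _ σ hσ => ?_
  have hn : 0 < n := Nat.pos_of_ne_zero (NeZero.ne n)
  have hd : Nat.gcd (2 * n) (2 * (2 * n) - 1 - 1) = 2 := by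
    rw [show 2 * (2 * n) - 1 - 1 = 2 * (2 * n - 1) by omega, Nat.gcd_mul_left]
    have : Nat.Coprime n (2 * n - 1) := by
      have h1 : Nat.gcd n (2 * n - 1) ∣ 1 := by
        have := Nat.dvd_sub ((Nat.gcd_dvd_left n (2 * n - 1)).mul_left 2) (Nat.gcd_dvd_right n (2 * n - 1))
        rwa [show 2 * n - (2 * n - 1) = 1 by omega] at this
      exact Nat.dvd_one.1 h1
    rw [this.gcd_eq_one]
  have h := CfsgLib.StructB.stem_metacyclic hσ (QuaternionGroup.a 1) (QuaternionGroup.xa 0)
    (eq_top_iff.2 fun x _ => ?_) (2 * n) 2 (2 * (2 * n) - 1) 1 (by omega)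
    QuaternionGroup.orderOf_a_one ?_ ?_
  · simpa [Nat.gcd_one_left] using h
  · haveI : NeZero (2 * n) := ⟨by omega⟩
    rcases x with i | i
    · rw [← ZMod.natCast_zmod_val i, ← QuaternionGroup.a_one_pow]
      exact pow_mem (Subgroup.subset_closure (by simp)) _
    · rw [← zero_add i, ← QuaternionGroup.xa_mul_a, ← ZMod.natCast_zmod_val i, ← QuaternionGroup.a_one_pow]
      exact mul_mem (Subgroup.subset_closure (by simp)) (pow_mem (Subgroup.subset_closure (by simp)) _)
  · rw [QuaternionGroup.a_one_pow, Nat.cast_sub (by omega), mul_inv_eq_iff_eq_mul,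
      QuaternionGroup.xa_mul_a, QuaternionGroup.a_mul_xa]
    simp [ZMod.natCast_self, Nat.cast_ofNat]
  · rw [hd, QuaternionGroup.xa_sq, QuaternionGroup.a_one_pow]
    simp

end Cfsg.Agent.S3963
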