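import Cfsg.Statements.S3964
import Cfsg.Agent.Lib.StructB.MetacyclicBound

set_option autoImplicit false
open Cfsg

namespace Cfsg.Agent.S3964

/-- For odd `n` the dihedral group of order `2 n` has trivial Schur multiplier. -/
theorem result (n : ℕ) (hn : Odd n) : Cfsg.HasCyclicSchurMultiplier (DihedralGroup n) 1 := by
  obtain ⟨k, rfl⟩ := hn
  haveI : NeZero (2 * k + 1) := ⟨by omega⟩
  refine CfsgLib.StructB.hasCyclicSchurMultiplier_one_of_bound fun Γ _ _ σ hσ => ?_
  have h := CfsgLib.StructB.stem_metacyclic hσ (DihedralGroup.r 1) (DihedralGroup.sr 0)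
    (eq_top_iff.2 fun x _ => ?_) (2 * k + 1) 2 (2 * (2 * k + 1) - 1) 0 (by omega)
    DihedralGroup.orderOf_r_one ?_ ?_
  · simp only [Finset.sum_range_succ, Finset.sum_range_zero, pow_zero, pow_one, zero_add,
      show 1 + (2 * (2 * k + 1) - 1) = 2 * (2 * k + 1) by omega] at h
    have hd : Nat.gcd (2 * k + 1) (2 * (2 * k + 1) - 1 - 1) = 1 := by
      rw [show 2 * (2 * k + 1) - 1 - 1 = 2 * (2 * k) by omega]
      exact Nat.Coprime.mul_right (by simp [Nat.coprime_two_right]) (by simp)
    rw [hd, Nat.gcd_mul_left_right, one_mul, Nat.div_self (by omega), Nat.gcd_zero_left] at h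
    exact h
  · rcases x with i | i
    · rw [← ZMod.natCast_zmod_val i, ← DihedralGroup.r_one_pow]
      exact pow_mem (Subgroup.subset_closure (by simp)) _
    · rw [← zero_add i, ← DihedralGroup.sr_mul_r, ← ZMod.natCast_zmod_val i, ← DihedralGroup.r_one_pow]
      exact mul_mem (Subgroup.subset_closure (by simp)) (pow_mem (Subgroup.subset_closure (by simp)) _)
  · rw [DihedralGroup.r_one_pow, DihedralGroup.inv_sr, DihedralGroup.sr_mul_r, DihedralGroup.sr_mul_sr,
      Nat.cast_sub (by omega)]
    simp [ZMod.natCast_self]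
  · simp [pow_two]

end Cfsg.Agent.S3964
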