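import Cfsg.Statements.S3966
import Mathlib.Data.ZMod.Basic
import Mathlib.Tactic

set_option autoImplicit false
open Cfsg
open scoped commutatorElement

namespace Cfsg.Agent.S3966

/-- For even `n ≥ 2` the dicyclic group of order `4 n` is a stem extension of the dihedral group of order `2 n` with kernel of order `2`: there is a surjective homomorphism `QuaternionGroup n →* DihedralGroup n` whose kernel is central, lies in the commutator subgroup and has two elements. Together with the order of the multiplier this exhibits the dicyclic group as a Schur covering group of the dihedral group. -/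
theorem result (n : ℕ) [NeZero n] (hn : Even n) : ∃ σ : QuaternionGroup n →* DihedralGroup n, Cfsg.IsStemExtension σ ∧ Nat.card σ.ker = 2 := by
  haveI : NeZero (2 * n) := ⟨by have := NeZero.ne n; omega⟩
  let c : ZMod (2 * n) →+* ZMod n := ZMod.castHom (Dvd.intro_left 2 rfl) (ZMod n)
  have hcn : c (n : ZMod (2 * n)) = 0 := by rw [map_natCast, ZMod.natCast_self]
  let f : QuaternionGroup n → DihedralGroup n := fun g => match g with
    | .a i => .r (c i)
    | .xa i => .sr (c i)
  let σ : QuaternionGroup n →* DihedralGroup n := MonoidHom.mk' f (by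
    rintro (i | i) (j | j) <;> simp only [f, QuaternionGroup.a_mul_a, QuaternionGroup.a_mul_xa,
      QuaternionGroup.xa_mul_a, QuaternionGroup.xa_mul_xa, DihedralGroup.r_mul_r, DihedralGroup.r_mul_sr,
      DihedralGroup.sr_mul_r, DihedralGroup.sr_mul_sr, map_add, map_sub, hcn, zero_add])
  have hker : ∀ g : QuaternionGroup n, g ∈ σ.ker ↔ g = 1 ∨ g = QuaternionGroup.a (n : ZMod (2 * n)) := by
    intro g
    rw [MonoidHom.mem_ker]
    constructor
    · rcases g with i | i
      · intro h
        have hi : c i = 0 := by
          have : DihedralGroup.r (c i) = DihedralGroup.r 0 := h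
          injection this
        rw [← ZMod.natCast_zmod_val i, map_natCast, ZMod.natCast_eq_zero_iff] at hi
        obtain ⟨j, hj⟩ := hi
        have hlt := ZMod.val_lt i
        have hj2 : j < 2 := by
          by_contra hh
          have : n * 2 ≤ n * j := Nat.mul_le_mul_left n (by omega)
          omega
        rcases (show j = 0 ∨ j = 1 by omega) with rfl | rfl
        · left
          rw [← ZMod.natCast_zmod_val i, hj, mul_zero, Nat.cast_zero, QuaternionGroup.a_zero]
        · right
          rw [← ZMod.natCast_zmod_val i, hj, mul_one]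
      · intro h
        have : DihedralGroup.sr (c i) = DihedralGroup.r 0 := h
        nomatch this
    · rintro (rfl | rfl)
      · exact map_one σ
      · show DihedralGroup.r (c _) = 1
        rw [hcn, DihedralGroup.r_zero]
  have hne : (QuaternionGroup.a (n : ZMod (2 * n)) : QuaternionGroup n) ≠ 1 := by
    rw [← QuaternionGroup.a_zero]
    intro h
    injection h with h
    rw [ZMod.natCast_eq_zero_iff] at h
    have := Nat.le_of_dvd (Nat.pos_of_ne_zero (NeZero.ne n)) h
    have := NeZero.ne n
    omega
  refine ⟨σ, ⟨fun g => ?_, fun g hg => ?_, fun g hg => ?_⟩, ?_⟩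
  · rcases g with i | i
    · obtain ⟨j, rfl⟩ := ZMod.castHom_surjective (Dvd.intro_left 2 rfl : n ∣ 2 * n) i
      exact ⟨.a j, rfl⟩
    · obtain ⟨j, rfl⟩ := ZMod.castHom_surjective (Dvd.intro_left 2 rfl : n ∣ 2 * n) i
      exact ⟨.xa j, rfl⟩
  · have h2n : (n : ZMod (2 * n)) + n = 0 := by
      rw [← Nat.cast_add, ← two_mul]; exact ZMod.natCast_self _
    refine Subgroup.mem_center_iff.2 fun x => ?_
    rcases (hker g).1 hg with rfl | rfl
    · simp
    · rcases x with i | i
      · simp only [QuaternionGroup.a_mul_a, add_comm]
      · simp only [QuaternionGroup.xa_mul_a, QuaternionGroup.a_mul_xa]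
        congr 1
        linear_combination h2n
  · rcases (hker g).1 hg with rfl | rfl
    · exact one_mem _
    · obtain ⟨k, hk⟩ := hn
      have h2n : (n : ZMod (2 * n)) + n = 0 := by
        rw [← Nat.cast_add, ← two_mul]; exact ZMod.natCast_self _
      have he : QuaternionGroup.a (n : ZMod (2 * n)) =
          ⁅(QuaternionGroup.a (k : ZMod (2 * n)) : QuaternionGroup n), QuaternionGroup.xa 0⁆ := by
        rw [commutatorElement_def, eq_mul_inv_iff_mul_eq, eq_mul_inv_iff_mul_eq]
        simp only [QuaternionGroup.a_mul_a, QuaternionGroup.a_mul_xa, QuaternionGroup.xa_mul_a]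
        congr 1
        have : (n : ZMod (2 * n)) = k + k := by rw [← Nat.cast_add, ← hk]
        linear_combination -this
      rw [he, commutator_def]
      exact Subgroup.commutator_mem_commutator (Subgroup.mem_top _) (Subgroup.mem_top _)
  · rw [Nat.card_eq_two_iff]
    refine ⟨⟨1, one_mem _⟩, ⟨_, (hker _).2 (Or.inr rfl)⟩, fun h => hne (congrArg Subtype.val h).symm, ?_⟩
    ext ⟨g, hg⟩
    simp only [Set.mem_insert_iff, Set.mem_singleton_iff, Set.mem_univ, iff_true, Subtype.mk.injEq]
    exact (hker g).1 hg

end Cfsg.Agent.S3966
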