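import Cfsg.Statements.S3965
import Cfsg.Agent.Lib.StructB.MetacyclicBound
import Cfsg.Agent.S3966

set_option autoImplicit false
open Cfsg

namespace Cfsg.Agent.S3965

/-- For even `n ≥ 2` the dihedral group of order `2 n` has Schur multiplier cyclic of order `2`. -/
theorem result (n : ℕ) [NeZero n] (hn : Even n) : Cfsg.HasCyclicSchurMultiplier (DihedralGroup n) 2 := by
  have hn0 : 0 < n := Nat.pos_of_ne_zero (NeZero.ne n)
  have hd : Nat.gcd n (2 * n - 1 - 1) = 2 := by
    obtain ⟨k, rfl⟩ := hn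
    rw [show 2 * (k + k) - 1 - 1 = 2 * (2 * k - 1) by omega, ← two_mul, Nat.gcd_mul_left]
    have : Nat.Coprime k (2 * k - 1) := by
      have h1 : Nat.gcd k (2 * k - 1) ∣ 1 := by
        have := Nat.dvd_sub ((Nat.gcd_dvd_left k (2 * k - 1)).mul_left 2) (Nat.gcd_dvd_right k (2 * k - 1))
        rwa [show 2 * k - (2 * k - 1) = 1 by omega] at this
      exact Nat.dvd_one.1 h1
    rw [this.gcd_eq_one, mul_one]
  obtain ⟨σ₀, h₀, hcard⟩ := Cfsg.Agent.S3966.result n hn
  refine CfsgLib.StructB.hasCyclicSchurMultiplier_of_bound 2 (fun Γ _ _ σ hσ => ?_) σ₀ h₀ hcard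
  have h := CfsgLib.StructB.stem_metacyclic hσ (DihedralGroup.r 1) (DihedralGroup.sr 0)
    (eq_top_iff.2 fun x _ => ?_) n 2 (2 * n - 1) 0 (by omega) DihedralGroup.orderOf_r_one ?_ ?_
  · simp only [Finset.sum_range_succ, Finset.sum_range_zero, pow_zero, pow_one, zero_add,
      show 1 + (2 * n - 1) = 2 * n by omega] at h
    rw [hd, Nat.gcd_mul_left_right, Nat.mul_div_cancel _ hn0, Nat.gcd_zero_left] at h
    exact h
  · rcases x with i | i
    · rw [← ZMod.natCast_zmod_val i, ← DihedralGroup.r_one_pow]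
      exact pow_mem (Subgroup.subset_closure (by simp)) _
    · rw [← zero_add i, ← DihedralGroup.sr_mul_r, ← ZMod.natCast_zmod_val i, ← DihedralGroup.r_one_pow]
      exact mul_mem (Subgroup.subset_closure (by simp)) (pow_mem (Subgroup.subset_closure (by simp)) _)
  · rw [DihedralGroup.r_one_pow, DihedralGroup.inv_sr, DihedralGroup.sr_mul_r, DihedralGroup.sr_mul_sr,
      Nat.cast_sub (by omega)]
    simp [ZMod.natCast_self]
  · simp [pow_two]

end Cfsg.Agent.S3965
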