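import Cfsg.Statements.S3967
import Cfsg.Agent.Lib.StructB.MetacyclicBound
import Cfsg.Agent.Lib.StructB.MetacyclicModel

set_option autoImplicit false
open Cfsg

namespace Cfsg.Agent.S3967

/-- Let `m, n ≥ 1`, `r ≥ 1` with `r ^ n ≡ 1 (mod m)`, and `l` a natural number; put `d = gcd(m, r - 1)`, `t = m l / d` and `h = d · gcd(m, 1 + r + ⋯ + r^(n-1)) / m`. The group presented by generators `a, b` and relations `a ^ m = 1`, `b ^ n = a ^ t`, `b a b⁻¹ = a ^ r` (a metacyclic group of order `m n`) has Schur multiplier cyclic of order `gcd(l, h)`. -/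
theorem result (m n r l : ℕ) (hm : 0 < m) (hn : 0 < n) (hr : 0 < r) (hrn : r ^ n ≡ 1 [MOD m]) : Cfsg.HasCyclicSchurMultiplier (PresentedGroup ({FreeGroup.of true ^ m, (FreeGroup.of false) ^ n * (FreeGroup.of true ^ (m * l / Nat.gcd m (r - 1)))⁻¹, FreeGroup.of false * FreeGroup.of true * (FreeGroup.of false)⁻¹ * (FreeGroup.of true ^ r)⁻¹} : Set (FreeGroup Bool))) (Nat.gcd l (Nat.gcd m (r - 1) * Nat.gcd m (∑ i ∈ Finset.range n, r ^ i) / m)) := by
  show Cfsg.HasCyclicSchurMultiplier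
    (PresentedGroup (CfsgLib.StructB.mcRels m n r (m * l / Nat.gcd m (r - 1)))) _
  set d := Nat.gcd m (r - 1) with hd
  set S := ∑ i ∈ Finset.range n, r ^ i with hS
  set g := Nat.gcd m S with hg
  set h := d * g / m with hh
  set q := Nat.gcd l h with hq
  have hdpos : 0 < d := Nat.gcd_pos_of_pos_left _ hm
  obtain ⟨m', hm'⟩ : d ∣ m := Nat.gcd_dvd_left _ _
  obtain ⟨r1, hr1⟩ : d ∣ r - 1 := Nat.gcd_dvd_right _ _
  have hmd : m / d = m' := by rw [hm', Nat.mul_div_cancel_left _ hdpos]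
  have ht : m * l / d = m' * l := by rw [hm', mul_assoc, Nat.mul_div_cancel_left _ hdpos]
  have hcop : IsCoprime (r1 : ℤ) (m' : ℤ) := by
    rw [Int.isCoprime_iff_gcd_eq_one, Int.gcd_natCast_natCast, Nat.gcd_comm]
    have h2 : Nat.gcd (d * m') (d * r1) = d * 1 := by rw [← hm', ← hr1, mul_one]
    rw [Nat.gcd_mul_left] at h2
    exact Nat.eq_of_mul_eq_mul_left hdpos h2
  obtain ⟨α, β, hab⟩ := hcop
  have hrd : (r : ℤ) - 1 = d * r1 := by
    have : r = d * r1 + 1 := by omega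
    rw [this]; push_cast; ring
  have hgeo : (r - 1) * S + 1 = r ^ n := by
    have hG : (∑ i ∈ Finset.range n, ((r - 1) + 1) ^ i) * (r - 1) + 1 = ((r - 1) + 1) ^ n := geom_sum_mul_add _ n
    rw [show r - 1 + 1 = r by omega] at hG
    rw [hS, mul_comm]; exact hG
  have hmS : m ∣ (r - 1) * S := by
    have := (Nat.modEq_iff_dvd' (Nat.one_le_pow _ _ hr)).1 hrn.symm
    rwa [← hgeo, Nat.add_sub_cancel] at this
  have hmdg : m ∣ d * g := (Nat.dvd_gcd (dvd_refl m) hmS).trans (Nat.gcd_mul_right_dvd_mul_gcd m (r - 1) S)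
  have hhm : m * h = d * g := Nat.mul_div_cancel' hmdg
  obtain ⟨e, he⟩ : g ∣ S := Nat.gcd_dvd_right _ _
  have hgpos : 0 < g := Nat.gcd_pos_of_pos_left _ hm
  have hhpos : 0 < h := Nat.pos_of_ne_zero fun h0 => by
    rw [h0, mul_zero] at hhm
    have := Nat.mul_pos hdpos hgpos
    omega
  have hqpos : 0 < q := Nat.gcd_pos_of_pos_right _ hhpos
  have hhd : h ∣ d := by
    obtain ⟨k, hk⟩ : g ∣ m := Nat.gcd_dvd_left _ _
    refine ⟨k, Nat.eq_of_mul_eq_mul_left hgpos ?_⟩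
    rw [mul_comm g d, ← hhm, hk]; ring
  have hqd : (q : ℤ) ∣ (d : ℤ) := Int.natCast_dvd_natCast.2 ((Nat.gcd_dvd_right l h).trans hhd)
  have hqh : (q : ℤ) ∣ (h : ℤ) := Int.natCast_dvd_natCast.2 (Nat.gcd_dvd_right l h)
  have hmZ : (m : ℤ) = d * m' := by exact_mod_cast hm'
  obtain ⟨w, hw⟩ := hmS
  have hwZ : ((r : ℤ) - 1) * (S : ℤ) = m * w := by
    have : ((r - 1 : ℕ) : ℤ) * S = m * w := by exact_mod_cast hw
    rwa [Nat.cast_sub (by omega : 1 ≤ r), Nat.cast_one] at this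
  obtain ⟨hord, Γ, _, _, σ₀, hσ₀, hcard⟩ := CfsgLib.StructB.exists_metacyclic_cover m n r (m * l / d) q α β hm hn
    hqpos
    (by rw [hrd, hmZ]; exact hqd.trans ⟨1, by linear_combination (d : ℤ) * hab⟩)
    ⟨(w : ℤ), by
      refine ⟨?_, ?_⟩
      · have : (((r - 1) * S + 1 : ℕ) : ℤ) = ((r ^ n : ℕ) : ℤ) := by rw [hgeo]
        push_cast [Nat.cast_sub (show 1 ≤ r by omega)] at this
        linear_combination hwZ - this
      · rw [show (∑ i ∈ Finset.range n, (r : ℤ) ^ i) = (S : ℤ) by rw [hS]; push_cast; rfl]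
        refine hqh.trans ⟨e, mul_left_cancel₀ (show (m : ℤ) ≠ 0 by exact_mod_cast hm.ne') ?_⟩
        have e1 : (m : ℤ) * h = d * g := by exact_mod_cast hhm
        have e2 : (S : ℤ) = g * e := by exact_mod_cast he
        linear_combination (-α) * hwZ - (e : ℤ) * e1 + (d : ℤ) * e2 + α * (S : ℤ) * hrd + β * (S : ℤ) * hmZ +
          (d : ℤ) * (S : ℤ) * hab⟩
    ⟨(l : ℤ) * r1, by
      rw [ht]
      refine ⟨by push_cast; rw [hrd, hmZ]; ring, ?_⟩
      exact (Int.natCast_dvd_natCast.2 (Nat.gcd_dvd_left l h)).trans ⟨1, by push_cast; linear_combination (l : ℤ) * hab⟩⟩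
    ⟨(m' : ℤ), (r1 : ℤ), by rw [hrd, hmZ]; ring, by linear_combination hab⟩
  haveI : NeZero q := ⟨hqpos.ne'⟩
  refine CfsgLib.StructB.hasCyclicSchurMultiplier_of_bound q (fun Γ _ _ σ hσ => ?_) σ₀ hσ₀ hcard
  have key := CfsgLib.StructB.stem_metacyclic hσ
    (PresentedGroup.of (rels := CfsgLib.StructB.mcRels m n r (m * l / d)) true) (PresentedGroup.of false) ?_
    m n r l hr hord ?_ ?_
  · exact key
  · refine eq_top_iff.2 ((PresentedGroup.closure_range_of _).symm.trans_le (Subgroup.closure_mono ?_))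
    rintro x ⟨c, rfl⟩
    cases c <;> simp
  · have := PresentedGroup.one_of_mem (rels := CfsgLib.StructB.mcRels m n r (m * l / d))
      (x := FreeGroup.of false * FreeGroup.of true * (FreeGroup.of false)⁻¹ * (FreeGroup.of true ^ r)⁻¹)
      (by simp [CfsgLib.StructB.mcRels])
    rw [map_mul, map_mul, map_mul, map_inv, map_inv, map_pow, mul_inv_eq_one] at this
    exact this
  · have := PresentedGroup.one_of_mem (rels := CfsgLib.StructB.mcRels m n r (m * l / d))
      (x := FreeGroup.of false ^ n * (FreeGroup.of true ^ (m * l / d))⁻¹)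
      (by simp [CfsgLib.StructB.mcRels])
    rw [map_mul, map_inv, map_pow, map_pow, mul_inv_eq_one] at this
    rw [← hd, hmd, ← ht]
    exact this

end Cfsg.Agent.S3967
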