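import Cfsg.Statements.S3968
import Cfsg.Agent.Lib.Char.Integral
import Cfsg.Agent.Lib.Char.Misc
import Cfsg.Agent.Lib.Char.Commutator
import Cfsg.Agent.Lib.Char.Linear
import Cfsg.Agent.Lib.Char.Constituent

set_option autoImplicit false
open Cfsg
open scoped commutatorElement

namespace Cfsg.Agent.S3968

/-- Let `p` be a prime and `G` a finite group with a faithful irreducible complex character of degree `p` (so `G` is an irreducible linear group in `p` variables). If `p ^ 2` divides the order of `G`, then the centre of `G` is nontrivial. -/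
theorem result {G : Type*} [Group G] [Finite G] (p : ℕ) (hp : p.Prime) (χ : Cfsg.IrrCharacter G) (hdeg : χ.1 1 = p) (hfaith : ∀ g : G, χ.1 g = χ.1 1 → g = 1) (hdiv : p ^ 2 ∣ Nat.card G) : Subgroup.center G ≠ ⊥ := by
  classical
  haveI : Fact p.Prime := ⟨hp⟩
  have := Fintype.ofFinite G
  obtain ⟨d, ρ, hρ, hρχ⟩ := χ.2
  haveI := hρ
  have hfin : Module.finrank ℂ (Fin d → ℂ) = p := by
    have h1 : ρ.character 1 = (p : ℂ) := by rw [hρχ]; exact hdeg
    rw [Representation.char_one] at h1
    exact_mod_cast h1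
  have hinj : ∀ g, ρ g = 1 → g = 1 := fun g hg => hfaith g (by
    rw [← hρχ]; simp only [Representation.character, hg, map_one])
  -- an element with a character value of full norm is central
  have hcentral : ∀ g : G, g ≠ 1 → ‖(χ : G → ℂ) g‖ = p → Subgroup.center G ≠ ⊥ := by
    intro g hg hnorm hbot
    obtain ⟨ω, hω, -⟩ := CfsgLib.Char.eq_smul_id_of_norm_char_eq ρ g (by rw [hρχ, hfin]; exact hnorm)
    refine hg (Subgroup.mem_bot.1 (hbot ▸ Subgroup.mem_center_iff.2 fun x => ?_))
    have h1 : ρ (x * g) = ρ (g * x) := by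
      rw [map_mul, map_mul, hω]
      refine LinearMap.ext fun v => ?_
      simp
    have hc : ρ ((g * x)⁻¹ * (x * g)) = 1 := by rw [map_mul, h1, ← map_mul, inv_mul_cancel, map_one]
    exact (inv_mul_eq_one.1 (hinj _ hc)).symm
  let P : Sylow p G := default
  by_cases hab : ∀ a ∈ (P : Subgroup G), ∀ b ∈ (P : Subgroup G), a * b = b * a
  · by_cases hex : ∃ g ∈ (P : Subgroup G), g ≠ 1 ∧ ‖(χ : G → ℂ) g‖ = p
    · obtain ⟨g, -, hg1, hgn⟩ := hex
      exact hcentral g hg1 hgn
    · exfalso
      push Not at hex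
      obtain ⟨k, hk⟩ := CfsgLib.Char.char_one_dvd_of_vanish p P (CfsgLib.Char.irr_isCharacter χ.2) fun g hg hg1 => by
        have hle : (P : Subgroup G) ≤ Subgroup.centralizer ({g} : Set G) := fun x hx =>
          Subgroup.mem_centralizer_singleton_iff.2 (hab x hx g hg)
        have hcop : Nat.Coprime (Module.finrank ℂ (Fin d → ℂ)) (Subgroup.centralizer ({g} : Set G)).index := by
          rw [hfin, hp.coprime_iff_not_dvd]
          exact fun hd => P.not_dvd_index (hd.trans (Subgroup.index_dvd_of_le hle))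
        rcases CfsgLib.Char.char_eq_zero_or_norm_of_coprime ρ g hcop with h1 | h1
        · rw [← hρχ]; exact h1
        · rw [hρχ, hfin] at h1
          exact absurd h1 (hex g hg hg1)
      rw [hdeg] at hk
      have hk' : p = Nat.card (P : Subgroup G) * k := by exact_mod_cast hk
      have h2 : p ^ 2 ∣ p * 1 := by
        rw [mul_one]
        exact (P.pow_dvd_card_of_pow_dvd_card hdiv).trans ⟨k, hk'⟩
      rw [pow_two] at h2
      exact hp.ne_one (Nat.dvd_one.1 ((Nat.mul_dvd_mul_iff_left hp.pos).1 h2))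
  · push Not at hab
    obtain ⟨a, ha, b, hb, hab⟩ := hab
    have := Fintype.ofFinite (P : Subgroup G)
    set φ : ↥(P : Subgroup G) → ℂ := fun x => (χ : G → ℂ) x with hφ
    have hφc : Cfsg.IsCharacter (P : Subgroup G) φ :=
      CfsgLib.Char.isCharacter_restrict (CfsgLib.Char.irr_isCharacter χ.2) _
    set c : (P : Subgroup G) := ⁅(⟨a, ha⟩ : (P : Subgroup G)), ⟨b, hb⟩⁆ with hc
    have hc1 : c ≠ 1 := fun e => hab (congrArg Subtype.val (commutatorElement_eq_one_iff_mul_comm.1 e))
    -- the restriction is irreducible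
    obtain ⟨τ, hτ, hτne, hτc⟩ : ∃ τ, Cfsg.IsIrrCharacter (P : Subgroup G) τ ∧ Cfsg.classInner φ τ ≠ 0 ∧ τ c ≠ τ 1 := by
      by_contra hh
      push Not at hh
      have := Fintype.ofFinite (Cfsg.IrrCharacter (P : Subgroup G))
      have h1 : φ c = φ 1 := by
        rw [CfsgLib.Char.classFunction_apply_eq_sum (CfsgLib.Char.isCharacter_isClassFunction hφc) c,
          CfsgLib.Char.classFunction_apply_eq_sum (CfsgLib.Char.isCharacter_isClassFunction hφc) 1]
        refine Finset.sum_congr rfl fun τ _ => ?_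
        by_cases h0 : Cfsg.classInner φ (τ : ↥(P : Subgroup G) → ℂ) = 0
        · rw [h0, zero_mul, zero_mul]
        · rw [hh τ.1 τ.2 h0]
      exact hc1 (Subtype.ext (hfaith c h1))
    obtain ⟨dτ, σ, hσ, hστ⟩ := hτ
    haveI := hσ
    have hτdeg : ∃ i, 1 ≤ i ∧ τ 1 = ((p ^ i : ℕ) : ℂ) := by
      have h1 : τ 1 = (Module.finrank ℂ (Fin dτ → ℂ) : ℂ) := by rw [← hστ, Representation.char_one]
      obtain ⟨e, he⟩ := IsPGroup.iff_card.1 P.isPGroup'
      obtain ⟨i, -, hi⟩ := (Nat.dvd_prime_pow hp).1 (he ▸ CfsgLib.Char.degree_dvd_card σ)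
      refine ⟨i, ?_, by rw [h1, hi]⟩
      by_contra hi0
      rw [show i = 0 by omega, pow_zero] at hi
      obtain ⟨lam, hlam⟩ := CfsgLib.Char.exists_hom_of_degree_one (χ := τ) ⟨dτ, σ, hστ⟩ (by rw [h1, hi, Nat.cast_one])
      refine hτc ?_
      rw [hlam]
      simp only
      rw [hc, map_commutatorElement, commutatorElement_eq_one_iff_mul_comm.2 (mul_comm _ _), map_one]
    obtain ⟨i, hi1, hi⟩ := hτdeg
    have hsub := CfsgLib.Char.isCharacter_sub_of_constituent hφc ⟨dτ, σ, hσ, hστ⟩ hτne
    obtain ⟨k, hk⟩ := CfsgLib.Char.char_apply_one_eq_nat hsub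
    have hφ1 : φ 1 = (p : ℂ) := hdeg
    have hk0 : k = 0 := by
      rw [Pi.sub_apply, hφ1, hi, sub_eq_iff_eq_add] at hk
      have h2 : p = k + p ^ i := by exact_mod_cast hk
      have := Nat.le_self_pow (show i ≠ 0 by omega) p
      omega
    have hφτ : φ = τ := by
      by_contra hne
      obtain ⟨ψ, hψ, hψne⟩ := CfsgLib.Char.exists_constituent (φ := φ - τ) hsub (by
        intro h0
        obtain ⟨dz, ρz, hρz⟩ := hsub
        refine hne (sub_eq_zero.1 ?_)
        rw [← hρz, CfsgLib.Char.char_eq_zero_iff]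
        have := congrFun hρz 1
        rw [Representation.char_one, h0] at this
        exact_mod_cast this)
      have h1 := CfsgLib.Char.isCharacter_sub_of_constituent hsub hψ hψne
      obtain ⟨k', hk'⟩ := CfsgLib.Char.char_apply_one_eq_nat h1
      obtain ⟨e, he0, he⟩ := CfsgLib.Char.irr_apply_one_pos hψ
      rw [Pi.sub_apply, hk, hk0, he, Nat.cast_zero, zero_sub] at hk'
      have h3 : ((k' + e : ℕ) : ℂ) = ((0 : ℕ) : ℂ) := by push_cast; linear_combination -hk'
      have : k' + e = 0 := by exact_mod_cast h3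
      omega
    have hfinσ : Module.finrank ℂ (Fin dτ → ℂ) = p := by
      have h1 : τ 1 = φ 1 := by rw [hφτ]
      rw [hφ1, ← hστ, Representation.char_one] at h1
      exact_mod_cast h1
    -- a nontrivial central element of the Sylow group
    haveI : Nontrivial (P : Subgroup G) := ⟨⟨_, _, hc1⟩⟩
    haveI := P.isPGroup'.center_nontrivial
    obtain ⟨⟨z, hz⟩, hz1⟩ := exists_ne (1 : Subgroup.center (P : Subgroup G))
    have hz1' : (z : G) ≠ 1 := fun e => hz1 (Subtype.ext (Subtype.ext e))
    refine hcentral z hz1' ?_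
    have hsum := CfsgLib.Char.sum_char_conj_mul σ z z⁻¹
    have hne0 : σ.character z ≠ 0 := by
      intro h0
      rw [h0, mul_zero, zero_mul, zero_div] at hsum
      have h2 : ∀ u : (P : Subgroup G), σ.character (u * z * u⁻¹ * z⁻¹) = σ.character 1 := fun u => by
        rw [Subgroup.mem_center_iff.1 hz u, mul_inv_cancel_right, mul_inv_cancel]
      rw [Finset.sum_congr rfl fun u _ => h2 u, Finset.sum_const, Finset.card_univ, nsmul_eq_mul,
        Representation.char_one, hfinσ] at hsum
      rcases mul_eq_zero.1 hsum with h3 | h3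
      · exact Fintype.card_ne_zero (by exact_mod_cast h3)
      · exact hp.ne_zero (by exact_mod_cast h3)
    have hcop : Nat.Coprime (Module.finrank ℂ (Fin dτ → ℂ)) (Subgroup.centralizer ({z} : Set (P : Subgroup G))).index := by
      rw [Subgroup.centralizer_eq_top_iff_subset.2 (by simpa using hz), Subgroup.index_top]
      exact Nat.coprime_one_right _
    rcases CfsgLib.Char.char_eq_zero_or_norm_of_coprime σ z hcop with h1 | h1
    · exact absurd h1 hne0
    · rw [hστ, hfinσ, ← hφτ] at h1
      exact h1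

end Cfsg.Agent.S3968
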