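import Cfsg.Statements.S3970
import Cfsg.Agent.Lib.StructB.BurnsideRank

set_option autoImplicit false
open Cfsg

namespace Cfsg.Agent.S3970

/-- The statement, prepared for induction. -/
theorem solvable_aux.{u} (n : ℕ) : ∀ (G : Type u) [Group G] [Finite G], Nat.card G = n →
    (∀ p : ℕ, p.Prime → p ∣ Nat.card G → (∃ q : ℕ, q.Prime ∧ q ∣ Nat.card G ∧ p < q) →
      ∀ P : Sylow p G, IsMulCommutative (P : Subgroup G) ∧ Group.rank (P : Subgroup G) ≤ 2) →
    ¬ 12 ∣ Nat.card G → Group.IsSolvable G := by
  induction n using Nat.strong_induction_on with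
  | _ n ih =>
    intro G _ _ hn h h12
    rcases eq_or_ne (Nat.card G) 1 with h1 | h1
    · haveI : Subsingleton G := (Nat.card_eq_one_iff_unique.1 h1).1
      infer_instance
    set p := (Nat.card G).minFac with hpdef
    have hp : p.Prime := Nat.minFac_prime h1
    haveI : Fact p.Prime := ⟨hp⟩
    have hpG : p ∣ Nat.card G := Nat.minFac_dvd _
    by_cases hbig : ∃ q : ℕ, q.Prime ∧ q ∣ Nat.card G ∧ p < q
    swap
    · have hG : IsPGroup p G := by
        refine IsPGroup.of_card (n := (Nat.card G).primeFactorsList.length)
          (Nat.eq_prime_pow_of_unique_prime_dvd Nat.card_pos.ne' fun {d} hd hdd => ?_)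
        push Not at hbig
        exact le_antisymm (hbig d hd hdd) (Nat.minFac_le_of_dvd hd.two_le hdd)
      have := hG.isNilpotent
      infer_instance
    let P : Sylow p G := default
    obtain ⟨hab, hrank⟩ := h p hp hpG hbig P
    -- the complement
    have hcompl : Cfsg.HasNormalPComplement p G := by
      refine CfsgLib.StructB.hasNormalPComplement_of_rank P hab fun q hq hqG hqp i hi1 hi hd => ?_
      have hqge : p < q := lt_of_le_of_ne (Nat.minFac_le_of_dvd hq.two_le hqG) hqp.symm
      rcases (show i = 1 ∨ i = 2 by omega) with rfl | rfl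
      · rw [pow_one] at hd
        have := Nat.le_of_dvd (by have := hp.two_le; omega) hd
        omega
      · have e : p ^ 2 - 1 = (p - 1) * (p + 1) := by
          rcases Nat.exists_eq_add_of_le hp.one_le with ⟨k, hk⟩
          rw [hk, show 1 + k - 1 = k by omega, show (1 + k) ^ 2 = k * (1 + k + 1) + 1 by ring, Nat.add_sub_cancel]
        rw [e] at hd
        rcases hq.dvd_mul.1 hd with hd1 | hd1
        · have := Nat.le_of_dvd (by have := hp.two_le; omega) hd1
          omega
        · have hq1 : q = p + 1 := by have := Nat.le_of_dvd (by omega) hd1; omega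
          have hp2 : p = 2 := by
            rcases hp.eq_two_or_odd with h' | h'
            · exact h'
            · exfalso
              have := hp.two_le
              rcases hq.eq_two_or_odd with h'' | h'' <;> omega
          have hq3 : q = 3 := by omega
          -- here `4` does not divide the order, so `P` is cyclic
          have h4 : ¬ 4 ∣ Nat.card G := fun h4 => h12 (by
            have : Nat.Coprime 4 3 := by norm_num
            exact this.mul_dvd_of_dvd_of_dvd h4 (hq3 ▸ hqG))
          obtain ⟨e', he'⟩ := IsPGroup.iff_card.1 P.isPGroup'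
          have he1 : e' ≤ 1 := by
            by_contra hh
            refine h4 ?_
            have h5 : 2 ^ 2 ∣ Nat.card G := by
              refine (pow_dvd_pow 2 (show 2 ≤ e' by omega)).trans ?_
              have h6 := Subgroup.card_subgroup_dvd_card (P : Subgroup G)
              rw [he'] at h6
              rwa [show p ^ e' = 2 ^ e' by rw [hp2]] at h6
            exact h5
          have hcyc : IsCyclic (P : Subgroup G) := by
            rcases (show e' = 0 ∨ e' = 1 by omega) with rfl | rfl
            · haveI : Subsingleton (P : Subgroup G) := (Nat.card_eq_one_iff_unique.1 (by simpa using he')).1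
              exact isCyclic_of_subsingleton
            · exact isCyclic_of_prime_card (p := p) (by simpa using he')
          obtain ⟨g, hg⟩ := hcyc.exists_generator
          have hr1 : Group.rank (P : Subgroup G) ≤ 1 := by
            refine (Group.rank_le (S := {g}) ?_).trans (by simp)
            rw [Finset.coe_singleton, ← Subgroup.zpowers_eq_closure]
            exact eq_top_iff.2 fun x _ => hg x
          omega
    obtain ⟨P', N, hN, hc⟩ := hcompl
    have hPsol : Group.IsSolvable (G ⧸ N) := by
      obtain ⟨e', he'⟩ := IsPGroup.iff_card.1 P'.isPGroup'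
      have hq : IsPGroup p (G ⧸ N) :=
        IsPGroup.of_card (n := e') (by rw [← Subgroup.index_eq_card, hc.symm.index_eq_card, he'])
      have := hq.isNilpotent
      infer_instance
    have hcard : Nat.card N * Nat.card (P' : Subgroup G) = Nat.card G := hc.card_mul
    have hlt : Nat.card N < n := by
      have h2 : 2 ≤ Nat.card (P' : Subgroup G) :=
        hp.two_le.trans (Nat.le_of_dvd Nat.card_pos ((dvd_of_eq (pow_one p).symm).trans (P'.pow_dvd_card_of_pow_dvd_card (n := 1) (by rwa [pow_one]))))
      have h3 : 0 < Nat.card N := Nat.card_pos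
      rw [← hn, ← hcard]
      calc Nat.card N = Nat.card N * 1 := (mul_one _).symm
        _ < Nat.card N * Nat.card (P' : Subgroup G) := Nat.mul_lt_mul_of_pos_left (by omega) h3
    have hNsol : Group.IsSolvable N := by
      refine ih _ hlt N rfl ?_ fun hd => h12 (hd.trans (Subgroup.card_subgroup_dvd_card N))
      intro r hr hrN ⟨s, hs, hsN, hrs⟩ R
      haveI : Fact r.Prime := ⟨hr⟩
      have hrp : r ≠ p := by
        intro e
        subst e
        obtain ⟨e', he'⟩ := IsPGroup.iff_card.1 P'.isPGroup'
        have h1 := P'.not_dvd_index
        rw [hc.index_eq_card] at h1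
        exact h1 hrN
      obtain ⟨T, hT⟩ := (R.isPGroup'.map N.subtype).exists_le_sylow
      have hRT : (R : Subgroup N).map N.subtype = (T : Subgroup G) := by
        refine Subgroup.eq_of_le_of_card_ge hT (le_of_eq ?_)
        rw [Subgroup.card_map_of_injective N.subtype_injective, T.card_eq_multiplicity, R.card_eq_multiplicity]
        congr 1
        rw [← N.card_mul_index, Nat.factorization_mul Nat.card_pos.ne' Subgroup.index_ne_zero_of_finite,
          Finsupp.add_apply]
        refine (add_eq_left.2 (Nat.factorization_eq_zero_of_not_dvd fun hd => ?_))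
        obtain ⟨e', he'⟩ := IsPGroup.iff_card.1 P'.isPGroup'
        rw [hc.symm.index_eq_card, he'] at hd
        exact hrp ((Nat.prime_dvd_prime_iff_eq hr hp).1 (hr.dvd_of_dvd_pow hd))
      obtain ⟨hab', hrank'⟩ := h r hr (hrN.trans (Subgroup.card_subgroup_dvd_card N))
        ⟨s, hs, hsN.trans (Subgroup.card_subgroup_dvd_card N), hrs⟩ T
      let e : (R : Subgroup N) ≃* (T : Subgroup G) :=
        ((R : Subgroup N).equivMapOfInjective N.subtype N.subtype_injective).trans (MulEquiv.subgroupCongr hRT)
      refine ⟨⟨⟨fun a b => e.injective ?_⟩⟩, ?_⟩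
      · rw [map_mul, map_mul]; exact hab'.is_comm.comm _ _
      · rw [Group.rank_congr e]; exact hrank'
    exact (Group.isSolvable_iff_subgroup_quotient N).2 ⟨hNsol, hPsol⟩

/-- Let `G` be a finite group such that for every prime `p` dividing its order, other than the largest such prime, the Sylow `p`-subgroups are abelian and generated by at most two elements, and suppose `12` does not divide the order of `G`. Then `G` is solvable. In particular a group of cube-free order not divisible by `12` is solvable. -/
theorem result {G : Type*} [Group G] [Finite G] (h : ∀ p : ℕ, p.Prime → p ∣ Nat.card G → (∃ q : ℕ, q.Prime ∧ q ∣ Nat.card G ∧ p < q) → ∀ P : Sylow p G, IsMulCommutative (P : Subgroup G) ∧ Group.rank (P : Subgroup G) ≤ 2) (h12 : ¬ 12 ∣ Nat.card G) : Group.IsSolvable G := by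
  exact solvable_aux _ G rfl h h12

end Cfsg.Agent.S3970
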