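import Cfsg.Statements.S3971
import Cfsg.Agent.Lib.StructB.Misc
import Cfsg.Agent.Lib.Transfer.Frobenius

set_option autoImplicit false
open Cfsg
open scoped Pointwise

namespace Cfsg.Agent.S3971

/-- Let `G` be a finite group of order `2 ^ a * n` with `n` odd and not divisible by `3`, and suppose `G` has an element of order `2 ^ (a - 1)` (so a Sylow `2`-subgroup has a cyclic subgroup of index at most `2`). Then `G` has a normal subgroup of order `n`. -/
theorem result {G : Type*} [Group G] [Finite G] (a n : ℕ) (hG : Nat.card G = 2 ^ a * n) (hn : Odd n) (h3 : ¬ 3 ∣ n) (hx : ∃ x : G, orderOf x = 2 ^ (a - 1)) : ∃ N : Subgroup G, N.Normal ∧ Nat.card N = n := by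
  classical
  haveI : Fact (Nat.Prime 2) := ⟨Nat.prime_two⟩
  have hcard2 : Nat.card G = 2 ^ a * n := hG
  have hcompl : Cfsg.HasNormalPComplement 2 G := by
    refine CfsgLib.Transfer.hasNormalPComplement_iff_frobenius.2 fun D hD g hg hg2 => ?_
    -- a cyclic subgroup of index at most two
    obtain ⟨x, hx⟩ := hx
    obtain ⟨X, hX⟩ := (IsPGroup.of_card (n := a - 1) (by rw [Nat.card_zpowers, hx]) :
      IsPGroup 2 (Subgroup.zpowers x)).exists_le_sylow
    obtain ⟨Y, hY⟩ := hD.exists_le_sylow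
    obtain ⟨c, hc⟩ := MulAction.exists_smul_eq G X Y
    set y := c * x * c⁻¹ with hy
    have hyY : y ∈ (Y : Subgroup G) := by
      rw [← hc]; exact ⟨x, hX (Subgroup.mem_zpowers x), rfl⟩
    have hyo : orderOf y = 2 ^ (a - 1) := ((MulAut.conj c).orderOf_eq x).trans hx
    set Z := Subgroup.zpowers y with hZ
    have hYle : Nat.card (Y : Subgroup G) ≤ 2 * Nat.card Z := by
      obtain ⟨e, he⟩ := IsPGroup.iff_card.1 Y.isPGroup'
      rw [hZ, Nat.card_zpowers, hyo, he]
      have h1 : 2 ^ e ∣ 2 ^ a * n := by rw [← hcard2, ← he]; exact Subgroup.card_subgroup_dvd_card _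
      have h2 : 2 ^ e ∣ 2 ^ a :=
        (Nat.Coprime.pow_left e (Nat.coprime_two_left.2 hn)).dvd_of_dvd_mul_right h1
      have h3 := Nat.le_of_dvd (by positivity) h2
      rcases Nat.eq_zero_or_pos a with rfl | ha
      · simpa using h3.trans (by norm_num)
      · rw [← pow_succ', show a - 1 + 1 = a by omega]; exact h3
    -- `W = D ∩ ⟨y⟩` has index at most two in `D`
    set W := D ⊓ Z with hW
    have hDY : ∀ u ∈ D, ∀ v ∈ D, u ∉ W → v ∉ W → u * v ∈ W := by
      intro u hu v hv huW hvW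
      refine Subgroup.mem_inf.2 ⟨D.mul_mem hu hv, ?_⟩
      have hZY : Z ≤ (Y : Subgroup G) := Subgroup.zpowers_le.2 hyY
      have hidx : (Z.subgroupOf (Y : Subgroup G)).index ≤ 2 := by
        have h1 := Subgroup.card_mul_index (Z.subgroupOf (Y : Subgroup G))
        rw [Nat.card_congr (Subgroup.subgroupOfEquivOfLe hZY).toEquiv] at h1
        have h2 : 0 < Nat.card Z := Nat.card_pos
        by_contra hh
        have h3 : Nat.card Z * 3 ≤ Nat.card (Y : Subgroup G) := h1 ▸ Nat.mul_le_mul_left _ (by omega)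
        omega
      rcases (show (Z.subgroupOf (Y : Subgroup G)).index = 1 ∨ (Z.subgroupOf (Y : Subgroup G)).index = 2 by
        have := Subgroup.index_ne_zero_of_finite (H := Z.subgroupOf (Y : Subgroup G)); omega) with h1 | h1
      · exfalso
        rw [Subgroup.index_eq_one, Subgroup.subgroupOf_eq_top] at h1
        exact huW (Subgroup.mem_inf.2 ⟨hu, h1 (hY hu)⟩)
      · have h2 := Subgroup.mul_mem_iff_of_index_two h1 (a := (⟨u, hY hu⟩ : (Y : Subgroup G))) (b := ⟨v, hY hv⟩)
        simp only [Subgroup.mem_subgroupOf, Subgroup.coe_mul] at h2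
        exact h2.2 (iff_of_false (fun e => huW (Subgroup.mem_inf.2 ⟨hu, e⟩)) fun e => hvW (Subgroup.mem_inf.2 ⟨hv, e⟩))
    have hsq : ∀ u ∈ D, u * u ∈ W := fun u hu => by
      by_cases huW : u ∈ W
      · exact W.mul_mem huW huW
      · exact hDY u hu u hu huW huW
    have hWc : ∀ u ∈ W, ∀ v ∈ W, u * v = v * u := by
      rintro u ⟨-, i, rfl⟩ v ⟨-, j, rfl⟩
      simp only
      rw [← zpow_add, ← zpow_add, add_comm]
    haveI : IsCyclic W := Subgroup.isCyclic_of_le (inf_le_right : W ≤ Z)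
    obtain ⟨⟨w, hwW⟩, hw⟩ := IsCyclic.exists_generator (α := W)
    have hwgen : ∀ u ∈ W, ∃ i : ℤ, w ^ i = u := fun u hu => by
      obtain ⟨i, hi⟩ := hw ⟨u, hu⟩
      exact ⟨i, congrArg Subtype.val hi⟩
    -- the subgroup generated by the squares
    set S := Subgroup.closure ((fun u => u * u) '' (D : Set G)) with hS
    have hSW : S ≤ W := (Subgroup.closure_le _).2 (by rintro _ ⟨u, hu, rfl⟩; exact hsq u hu)
    have hgD : ∀ u ∈ D, g * u * g⁻¹ ∈ D := fun u hu => (Subgroup.mem_normalizer_iff.1 hg u).1 hu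
    -- odd prime power parts centralise `D`
    refine CfsgLib.StructB.mem_of_forall_primePow _ g fun f hf q k hq hk hfo hdvd => ?_
    haveI : Fact q.Prime := ⟨hq⟩
    have hq5 : 5 ≤ q := by
      have hqg : q ∣ orderOf g := (dvd_pow_self q (by omega)).trans hdvd
      have hqG : q ∣ Nat.card G := hqg.trans (orderOf_dvd_natCard g)
      have hq2 : q ≠ 2 := fun e => by
        subst e
        exact (Nat.prime_two.coprime_iff_not_dvd.1 hg2.symm) hqg
      have hq3 : q ≠ 3 := fun e => by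
        subst e
        rw [hcard2] at hqG
        rcases hq.dvd_mul.1 hqG with h' | h'
        · exact absurd (hq.dvd_of_dvd_pow h') (by norm_num)
        · exact h3 h'
      have hq4 : q ≠ 4 := fun e => by subst e; exact absurd hq (by norm_num)
      have := hq.two_le
      omega
    have hfN : f ∈ Subgroup.normalizer (D : Set G) := Subgroup.zpowers_le.2 hg hf
    have hfD : ∀ u ∈ D, f * u * f⁻¹ ∈ D := fun u hu => (Subgroup.mem_normalizer_iff.1 hfN u).1 hu
    -- the quotient by the squares has at most four elements, so is fixed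
    haveI hSn : (S.subgroupOf D).Normal := by
      refine ⟨fun s hs d => ?_⟩
      rw [Subgroup.mem_subgroupOf] at hs ⊢
      have hle : S.map (MulAut.conj (d : G)).toMonoidHom ≤ S := by
        rw [hS, MonoidHom.map_closure]
        refine Subgroup.closure_mono ?_
        rintro _ ⟨_, ⟨u, hu, rfl⟩, rfl⟩
        refine ⟨d * u * (d : G)⁻¹, D.mul_mem (D.mul_mem d.2 hu) (D.inv_mem d.2), ?_⟩
        show (d : G) * u * (d : G)⁻¹ * ((d : G) * u * (d : G)⁻¹) = (d : G) * (u * u) * (d : G)⁻¹
        group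
      exact hle ⟨_, hs, rfl⟩
    have hwS : ∀ i : ℤ, ∃ e : ℤ, (e = 0 ∨ e = 1) ∧ w ^ i * (w ^ e)⁻¹ ∈ S := fun i => by
      refine ⟨i % 2, by omega, ?_⟩
      rw [← zpow_sub, show i - i % 2 = 2 * (i / 2) by omega, zpow_mul]
      have h2 : w ^ (2 : ℤ) ∈ S := Subgroup.subset_closure ⟨w, hwW.1, by rw [zpow_two]⟩
      exact zpow_mem h2 _
    obtain ⟨v, hvD, hv⟩ : ∃ v ∈ D, ∀ u ∈ D, u ∈ W ∨ u * v⁻¹ ∈ W := by
      by_cases hh : ∀ u ∈ D, u ∈ W
      · exact ⟨1, one_mem _, fun u hu => Or.inl (hh u hu)⟩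
      · push Not at hh
        obtain ⟨v, hvD, hvW⟩ := hh
        refine ⟨v, hvD, fun u hu => ?_⟩
        by_cases huW : u ∈ W
        · exact Or.inl huW
        · exact Or.inr (hDY u hu v⁻¹ (D.inv_mem hvD) huW fun e => hvW (by simpa using W.inv_mem e))
    have hcard4 : Nat.card (D ⧸ S.subgroupOf D) ≤ 4 := by
      let F : Fin 2 × Fin 2 → D ⧸ S.subgroupOf D := fun e =>
        QuotientGroup.mk (⟨w, hwW.1⟩ ^ (e.1 : ℕ) * (⟨v, hvD⟩ : D) ^ (e.2 : ℕ))
      have hF : Function.Surjective F := by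
        intro z
        obtain ⟨⟨u, hu⟩, rfl⟩ := QuotientGroup.mk_surjective z
        have main : ∀ (e2 : Fin 2), u * (v ^ (e2 : ℕ))⁻¹ ∈ W → ∃ e1 : Fin 2, F (e1, e2) = QuotientGroup.mk ⟨u, hu⟩ := by
          intro e2 h1
          obtain ⟨i, hi⟩ := hwgen _ h1
          obtain ⟨e, he, hei⟩ := hwS i
          obtain ⟨e1, rfl⟩ : ∃ e1 : Fin 2, ((e1 : ℕ) : ℤ) = e := by
            rcases he with rfl | rfl
            · exact ⟨0, rfl⟩
            · exact ⟨1, rfl⟩
          refine ⟨e1, QuotientGroup.eq.2 ?_⟩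
          rw [Subgroup.mem_subgroupOf]
          push_cast
          rw [zpow_natCast] at hei
          have e3 : (w ^ (e1 : ℕ) * v ^ (e2 : ℕ))⁻¹ * u =
              (v ^ (e2 : ℕ))⁻¹ * ((w ^ (e1 : ℕ))⁻¹ * (w ^ i)) * v ^ (e2 : ℕ) := by rw [hi]; group
          rw [e3]
          have hmem : (w ^ (e1 : ℕ))⁻¹ * w ^ i ∈ S := by
            have : (w ^ (e1 : ℕ))⁻¹ * w ^ i = w ^ i * (w ^ (e1 : ℕ))⁻¹ :=
              ((Commute.refl w).zpow_left i |>.pow_right (e1 : ℕ)).inv_right.eq.symm
            rw [this]; exact hei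
          have := hSn.conj_mem ⟨_, (hSW.trans inf_le_left) hmem⟩ (Subgroup.mem_subgroupOf.2 hmem) ((⟨v, hvD⟩ : D) ^ (e2 : ℕ))⁻¹
          rw [Subgroup.mem_subgroupOf] at this
          simpa using this
        rcases hv u hu with h1 | h1
        · obtain ⟨e1, he1⟩ := main 0 (by simpa using h1)
          exact ⟨_, he1⟩
        · obtain ⟨e1, he1⟩ := main 1 (by simpa using h1)
          exact ⟨_, he1⟩
      exact (Nat.card_le_card_of_surjective F hF).trans (le_of_eq (by simp [Nat.card_prod]))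
    -- `f` fixes the cosets
    let ψ : D →* D :=
      { toFun := fun u => ⟨f * u * f⁻¹, hfD u u.2⟩
        map_one' := by ext; simp
        map_mul' := fun u v => by ext; simp }
    have hψinj : Function.Injective ψ := fun u v e => Subtype.ext (mul_left_cancel (mul_right_cancel (congrArg Subtype.val e)))
    have hψS : S.subgroupOf D ≤ (S.subgroupOf D).comap ψ := fun s hs => by
      rw [Subgroup.mem_subgroupOf] at hs
      show (ψ s : G) ∈ S
      have hle : S.map (MulAut.conj f).toMonoidHom ≤ S := by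
        rw [hS, MonoidHom.map_closure]
        refine Subgroup.closure_mono ?_
        rintro _ ⟨_, ⟨u, hu, rfl⟩, rfl⟩
        refine ⟨f * u * f⁻¹, hfD u hu, ?_⟩
        show f * u * f⁻¹ * (f * u * f⁻¹) = f * (u * u) * f⁻¹
        group
      exact hle ⟨_, hs, rfl⟩
    let Ψ : D ⧸ S.subgroupOf D →* D ⧸ S.subgroupOf D := QuotientGroup.map _ _ ψ hψS
    have hψit : ∀ (i : ℕ) (u : D), ((ψ^[i] u : D) : G) = f ^ i * u * (f ^ i)⁻¹ := by
      intro i
      induction i with
      | zero => intro u; simp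
      | succ i ih' =>
        intro u
        rw [Function.iterate_succ_apply', pow_succ']
        show f * _ * f⁻¹ = _
        rw [ih']; group
    have hψq : ∀ u, ψ^[q ^ k] u = u := fun u => Subtype.ext (by
      rw [hψit, ← hfo, pow_orderOf_eq_one]; simp)
    have hΨit : ∀ (i : ℕ) (u : D), Ψ^[i] (QuotientGroup.mk u) = QuotientGroup.mk (ψ^[i] u) := by
      intro i
      induction i with
      | zero => intro u; rfl
      | succ i ih' => intro u; rw [Function.iterate_succ_apply', ih', Function.iterate_succ_apply']; rfl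
    have hΨsurj : Function.Surjective Ψ := fun z => by
      obtain ⟨u, rfl⟩ := QuotientGroup.mk_surjective z
      obtain ⟨u', rfl⟩ := (Finite.injective_iff_surjective.1 hψinj) u
      exact ⟨QuotientGroup.mk u', rfl⟩
    let σ : Equiv.Perm (D ⧸ S.subgroupOf D) := Equiv.ofBijective Ψ (Finite.surjective_iff_bijective.1 hΨsurj)
    have hσ : σ ^ q ^ k = 1 := by
      refine Equiv.ext fun z => ?_
      obtain ⟨u, rfl⟩ := QuotientGroup.mk_surjective z
      have : ∀ (i : ℕ) z, (σ ^ i) z = Ψ^[i] z := by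
        intro i
        induction i with
        | zero => intro z; rfl
        | succ i ih' => intro z; rw [pow_succ', Equiv.Perm.mul_apply, Function.iterate_succ_apply', ← ih']; rfl
      rw [this, hΨit, hψq]; rfl
    have hmod := CfsgLib.StructB.card_fixed_modEq (q := q) σ hσ
    have hfixall : ∀ z, σ z = z := by
      have hle : Nat.card {z // σ z = z} ≤ Nat.card (D ⧸ S.subgroupOf D) := Finite.card_subtype_le _
      have heq : Nat.card {z // σ z = z} = Nat.card (D ⧸ S.subgroupOf D) := by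
        rw [Nat.ModEq, Nat.mod_eq_of_lt (by omega), Nat.mod_eq_of_lt (by omega)] at hmod
        exact hmod
      intro z
      by_contra hz
      exact (Finite.card_subtype_lt (p := fun z => σ z = z) hz).ne heq
    have hcoset : ∀ u ∈ D, u⁻¹ * (f * u * f⁻¹) ∈ S := by
      intro u hu
      exact Subgroup.mem_subgroupOf.1 (QuotientGroup.eq.1 ((hfixall (QuotientGroup.mk ⟨u, hu⟩)).symm))
    -- `f` centralises `W`
    obtain ⟨e, he⟩ : ∃ e, orderOf w = 2 ^ e := by
      obtain ⟨e, he⟩ := IsPGroup.iff_orderOf.1 hD ⟨w, hwW.1⟩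
      exact ⟨e, by rwa [Subgroup.orderOf_mk] at he⟩
    have hwf : f * w = w * f := by
      have h1 : f * w * f⁻¹ ∈ W := by
        have := W.mul_mem hwW (hSW (hcoset w hwW.1))
        rwa [mul_inv_cancel_left] at this
      obtain ⟨i, hi⟩ := hwgen _ h1
      obtain ⟨r, hr⟩ : ∃ r : ℕ, w ^ r = f * w * f⁻¹ := by
        have := (isOfFinOrder_of_finite w).mem_powers_iff_mem_zpowers.2 ⟨i, hi⟩
        exact this
      have hiter : ∀ j : ℕ, f ^ j * w * (f ^ j)⁻¹ = w ^ (r ^ j) := by
        intro j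
        induction j with
        | zero => simp
        | succ j ih' =>
          calc f ^ (j + 1) * w * (f ^ (j + 1))⁻¹ = f * (f ^ j * w * (f ^ j)⁻¹) * f⁻¹ := by rw [pow_succ']; group
            _ = (f * w * f⁻¹) ^ (r ^ j) := by rw [ih', conj_pow]
            _ = w ^ (r ^ (j + 1)) := by rw [← hr, ← pow_mul, pow_succ', mul_comm]
      rcases Nat.eq_zero_or_pos e with rfl | hepos
      · rw [pow_zero, orderOf_eq_one_iff] at he
        rw [he]; simp
      have hrodd : r ≡ 1 [MOD 2] := by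
        rcases Nat.mod_two_eq_zero_or_one r with h0 | h0
        · exfalso
          have h1 : orderOf (f * w * f⁻¹) = 2 ^ e := ((MulAut.conj f).orderOf_eq w).trans he
          obtain ⟨r', rfl⟩ : 2 ∣ r := Nat.dvd_of_mod_eq_zero h0
          rw [← hr, pow_mul] at h1
          have h2 : orderOf (w ^ 2) = 2 ^ (e - 1) := by
            rw [orderOf_pow_of_dvd two_ne_zero (he ▸ dvd_pow_self 2 hepos.ne'), he]
            obtain ⟨e', rfl⟩ : ∃ e', e = e' + 1 := ⟨e - 1, by omega⟩
            rw [pow_succ, Nat.mul_div_cancel _ two_pos, Nat.add_sub_cancel]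
          have h3 : orderOf ((w ^ 2) ^ r') ∣ 2 ^ (e - 1) := h2 ▸ orderOf_pow_dvd r'
          rw [h1, Nat.pow_dvd_pow_iff_le_right (by norm_num)] at h3
          omega
        · exact h0
      have h2e : f ^ (2 ^ e) * w = w * f ^ (2 ^ e) := by
        rw [← mul_inv_eq_iff_eq_mul, hiter]
        conv_rhs => rw [← pow_one w]
        rw [pow_eq_pow_iff_modEq, he]
        exact (CfsgLib.StructB.pow_prime_pow_modEq hrodd e).of_dvd (pow_dvd_pow 2 (Nat.le_succ e))
      have hgcd : Nat.gcd (2 ^ e) (orderOf f) = 1 := by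
        rw [hfo]
        exact (Nat.Coprime.pow e k ((Nat.coprime_primes Nat.prime_two hq).2 (by omega))).gcd_eq_one
      have h3 := Nat.gcd_eq_gcd_ab (2 ^ e) (orderOf f)
      rw [hgcd] at h3
      have hfeq : f = (f ^ (2 ^ e)) ^ (Nat.gcdA (2 ^ e) (orderOf f)) := by
        conv_lhs => rw [← zpow_one f, ← Nat.cast_one, h3]
        rw [zpow_add, zpow_mul, zpow_mul, zpow_natCast, zpow_natCast, pow_orderOf_eq_one, one_zpow, mul_one]
      rw [hfeq]
      exact ((show Commute (f ^ (2 ^ e)) w from h2e).zpow_left _).eq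
    refine Subgroup.mem_centralizer_iff.2 fun u hu => ?_
    obtain ⟨z, hz, hzeq⟩ : ∃ z ∈ W, f * u * f⁻¹ = u * z := ⟨_, hSW (hcoset u hu), by group⟩
    have hzf : f * z * f⁻¹ = z := by
      obtain ⟨i, rfl⟩ := hwgen z hz
      rw [← conj_zpow, hwf, mul_inv_cancel_right]
    have hit : ∀ i : ℕ, f ^ i * u * (f ^ i)⁻¹ = u * z ^ i := by
      intro i
      induction i with
      | zero => simp
      | succ i ih' =>
        calc f ^ (i + 1) * u * (f ^ (i + 1))⁻¹ = f * (f ^ i * u * (f ^ i)⁻¹) * f⁻¹ := by rw [pow_succ']; group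
          _ = f * u * f⁻¹ * (f * z * f⁻¹) ^ i := by rw [ih', conj_pow]; group
          _ = u * z ^ (i + 1) := by rw [hzeq, hzf, mul_assoc, ← pow_succ']
    have hzq : z ^ (q ^ k) = 1 := by
      have := hit (q ^ k)
      rw [← hfo, pow_orderOf_eq_one, inv_one, mul_one, one_mul] at this
      rw [← hfo]
      exact mul_eq_left.1 this.symm
    have hz1 : z = 1 := by
      obtain ⟨j, hj⟩ := hD ⟨z, hz.1⟩
      have hzj : z ^ (2 ^ j) = 1 := congrArg Subtype.val hj
      have := pow_gcd_eq_one.2 ⟨hzq, hzj⟩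
      rwa [(Nat.Coprime.pow k j ((Nat.coprime_primes hq Nat.prime_two).2 (by omega))).gcd_eq_one, pow_one] at this
    rw [hz1, mul_one] at hzeq
    exact (mul_inv_eq_iff_eq_mul.1 hzeq).symm
  obtain ⟨P, N, hN, hc⟩ := hcompl
  refine ⟨N, hN, ?_⟩
  obtain ⟨e, he⟩ := IsPGroup.iff_card.1 P.isPGroup'
  have hmul : Nat.card N * Nat.card (P : Subgroup G) = Nat.card G := hc.card_mul
  have hNodd : Nat.Coprime 2 (Nat.card N) := by
    rw [Nat.prime_two.coprime_iff_not_dvd, ← hc.index_eq_card]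
    exact P.not_dvd_index
  rw [he, hcard2] at hmul
  refine Nat.dvd_antisymm ?_ ?_
  · exact (hNodd.symm.pow_right a).dvd_of_dvd_mul_left (hmul ▸ dvd_mul_right (Nat.card N) (2 ^ e))
  · exact ((Nat.coprime_two_left.2 hn).symm.pow_right e).dvd_of_dvd_mul_right (hmul ▸ dvd_mul_left n (2 ^ a))

end Cfsg.Agent.S3971
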