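import Cfsg.Statements.S3973
import Mathlib

set_option autoImplicit false
open Cfsg
open scoped commutatorElement

namespace Cfsg.Agent.S3973

theorem stem_ker_rank_le (n : ℕ) (rels : Finset (FreeGroup (Fin n)))
    [Finite (PresentedGroup (rels : Set (FreeGroup (Fin n))))] {Γ : Type*} [Group Γ] [Finite Γ]
    (σ : Γ →* PresentedGroup (rels : Set (FreeGroup (Fin n)))) (hσ : Cfsg.IsStemExtension σ) :
    Group.rank σ.ker ≤ rels.card - n := by
  classical
  obtain ⟨hsurj, hcen, hcom⟩ := hσ
  let mk := PresentedGroup.mk (rels : Set (FreeGroup (Fin n)))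
  let f : FreeGroup (Fin n) →* Γ := FreeGroup.lift fun i => Function.surjInv hsurj (PresentedGroup.of i)
  have hσf : σ.comp f = mk := FreeGroup.ext_hom _ _ fun i => by
    simp only [MonoidHom.comp_apply, f, FreeGroup.lift_apply_of, Function.surjInv_eq hsurj]
    rfl
  have hσf' : ∀ w, σ (f w) = mk w := fun w => DFunLike.congr_fun hσf w
  have hlift : ∀ g : Γ, ∃ w, ∃ z ∈ σ.ker, g = f w * z := by
    intro g
    obtain ⟨w, hw⟩ := PresentedGroup.mk_surjective (rels : Set (FreeGroup (Fin n))) (σ g)
    refine ⟨w, (f w)⁻¹ * g, ?_, by group⟩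
    rw [MonoidHom.mem_ker, map_mul, map_inv, hσf']
    exact inv_mul_eq_one.2 hw
  have hcom' : ∀ z ∈ σ.ker, z ∈ (commutator (FreeGroup (Fin n))).map f := by
    intro z hz
    refine (?_ : commutator Γ ≤ _) (hcom hz)
    rw [commutator_def, Subgroup.commutator_le]
    intro g _ h _
    obtain ⟨v, a, ha, rfl⟩ := hlift g
    obtain ⟨w, b, hb, rfl⟩ := hlift h
    refine ⟨⁅v, w⁆, Subgroup.commutator_mem_commutator (Subgroup.mem_top _) (Subgroup.mem_top _), ?_⟩
    have ha' : ∀ x, Commute a x := fun x => (Subgroup.mem_center_iff.1 (hcen ha) x).symm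
    have hb' : ∀ x, Commute b x := fun x => (Subgroup.mem_center_iff.1 (hcen hb) x).symm
    rw [map_commutatorElement, commutatorElement_def, commutatorElement_def]
    calc f v * f w * (f v)⁻¹ * (f w)⁻¹ = f v * f w * (b * (f v)⁻¹ * b⁻¹) * (f w)⁻¹ := by
          rw [(hb' _).eq, mul_inv_cancel_right]
      _ = f v * (a * (f w * b) * a⁻¹) * (f v)⁻¹ * (f w * b)⁻¹ := by
          rw [(ha' _).eq, mul_inv_cancel_right]; group
      _ = _ := by group
  let ab : FreeGroup (Fin n) →* Multiplicative (Fin n → ℤ) :=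
    FreeGroup.lift fun i => Multiplicative.ofAdd (Pi.single i 1)
  letI : CommGroup σ.ker := { (inferInstance : Group σ.ker) with
    mul_comm := fun a b => Subtype.ext (Subgroup.mem_center_iff.1 (hcen b.2) a) }
  have hrel : ∀ x : rels, f x.1 ∈ σ.ker := fun x => by
    rw [MonoidHom.mem_ker, hσf']; exact PresentedGroup.one_of_mem x.2
  let u : rels → Additive σ.ker × (Fin n → ℤ) := fun x =>
    (Additive.ofMul ⟨f x.1, hrel x⟩, Multiplicative.toAdd (ab x.1))
  let Φ : (rels → ℤ) →ₗ[ℤ] Additive σ.ker × (Fin n → ℤ) := Fintype.linearCombination ℤ u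
  have hR : ∀ w ∈ Subgroup.normalClosure (rels : Set (FreeGroup (Fin n))),
      ∃ c, ∃ h : f w ∈ σ.ker, Φ c = (Additive.ofMul ⟨f w, h⟩, Multiplicative.toAdd (ab w)) := by
    intro w hw
    induction hw using Subgroup.closure_induction with
    | mem x hx =>
      obtain ⟨y, hy, hyx⟩ := Group.mem_conjugatesOfSet_iff.1 hx
      obtain ⟨g, rfl⟩ := isConj_iff.1 hyx
      have hfy := hrel ⟨y, hy⟩
      have e1 : f (g * y * g⁻¹) = f y := by
        rw [map_mul, map_mul, map_inv, Subgroup.mem_center_iff.1 (hcen hfy) (f g), mul_inv_cancel_right]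
      have e2 : ab (g * y * g⁻¹) = ab y := by
        rw [map_mul, map_mul, map_inv, mul_comm (ab g), mul_inv_cancel_right]
      refine ⟨Pi.single ⟨y, hy⟩ 1, e1 ▸ hfy, ?_⟩
      simp only [Φ, Fintype.linearCombination_apply_single, one_smul, u, e2]
      exact Prod.ext (congrArg Additive.ofMul (Subtype.ext e1.symm)) rfl
    | one =>
      refine ⟨0, by rw [map_one]; exact one_mem _, ?_⟩
      simp only [map_zero, map_one, toAdd_one]
      rfl
    | mul x y _ _ ihx ihy =>
      obtain ⟨c, hc, ec⟩ := ihx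
      obtain ⟨c', hc', ec'⟩ := ihy
      refine ⟨c + c', by rw [map_mul]; exact mul_mem hc hc', ?_⟩
      rw [map_add, ec, ec']
      refine Prod.ext (congrArg Additive.ofMul (Subtype.ext ?_)) ?_
      · exact (map_mul f x y).symm
      · simp [map_mul]
    | inv x _ ihx =>
      obtain ⟨c, hc, ec⟩ := ihx
      refine ⟨-c, by rw [map_inv]; exact inv_mem hc, ?_⟩
      rw [map_neg, ec]
      refine Prod.ext (congrArg Additive.ofMul (Subtype.ext ?_)) ?_
      · exact (map_inv f x).symm
      · simp [map_inv]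
  let φ : (rels → ℤ) →ₗ[ℤ] (Fin n → ℤ) := (LinearMap.snd ℤ _ _).comp Φ
  let ρ : (rels → ℤ) →ₗ[ℤ] Additive σ.ker := (LinearMap.fst ℤ _ _).comp Φ
  have hgen : ∀ z : σ.ker, Additive.ofMul z ∈ (LinearMap.ker φ).map ρ := by
    intro z
    obtain ⟨w, hw, hwz⟩ := hcom' z z.2
    have hwR : w ∈ Subgroup.normalClosure (rels : Set (FreeGroup (Fin n))) := by
      have h1 : mk w = 1 := by rw [← hσf', hwz]; exact z.2
      exact PresentedGroup.mk_eq_one_iff.1 h1
    obtain ⟨c, hc, ec⟩ := hR w hwR
    have hab : ab w = 1 := MonoidHom.mem_ker.1 (Abelianization.commutator_subset_ker ab hw)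
    refine ⟨c, ?_, ?_⟩
    · show (Φ c).2 = 0
      rw [ec, hab]; rfl
    · show (Φ c).1 = _
      rw [ec]
      exact congrArg Additive.ofMul (Subtype.ext hwz)
  -- ranks
  have hrange : n ≤ Module.finrank ℤ (LinearMap.range φ) := by
    set N := Nat.card (PresentedGroup (rels : Set (FreeGroup (Fin n)))) with hN
    have hmem : ∀ v : Fin n → ℤ, (N : ℤ) • v ∈ LinearMap.range φ := by
      intro v
      rw [show v = ∑ i, v i • (Pi.single i (1 : ℤ) : Fin n → ℤ) by
        ext j; simp [Finset.sum_apply, Pi.single_apply], Finset.smul_sum]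
      refine Submodule.sum_mem _ fun i _ => ?_
      rw [smul_comm]
      refine Submodule.smul_mem _ _ ?_
      obtain ⟨c, hc, ec⟩ := hR (FreeGroup.of i ^ N) (by
        refine PresentedGroup.mk_eq_one_iff.1 ?_
        rw [map_pow]; exact pow_card_eq_one')
      refine ⟨c, ?_⟩
      show (Φ c).2 = _
      rw [ec]
      show Multiplicative.toAdd (ab (FreeGroup.of i ^ N)) = _
      simp [ab]
    let ι : (Fin n → ℤ) →ₗ[ℤ] LinearMap.range φ :=
      LinearMap.codRestrict _ ((N : ℤ) • LinearMap.id) hmem
    have hι : Function.Injective ι := fun v w h => by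
      have h1 : (N : ℤ) • v = (N : ℤ) • w := congrArg Subtype.val h
      exact smul_right_injective _ (by exact_mod_cast Nat.card_pos.ne') h1
    have := LinearMap.finrank_le_finrank_of_injective hι
    simpa using this
  have hsum := Submodule.finrank_quotient_add_finrank (LinearMap.ker φ)
  rw [φ.quotKerEquivRange.finrank_eq] at hsum
  rw [Module.finrank_fintype_fun_eq_card, Fintype.card_coe] at hsum
  let b := Module.Free.chooseBasis ℤ (LinearMap.ker φ)
  have hcard : Fintype.card (Module.Free.ChooseBasisIndex ℤ (LinearMap.ker φ)) = Module.finrank ℤ (LinearMap.ker φ) :=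
    (Module.finrank_eq_card_chooseBasisIndex ℤ (LinearMap.ker φ)).symm
  let T : Finset σ.ker := Finset.univ.image fun i => Additive.toMul (ρ (b i : rels → ℤ))
  have hT : Subgroup.closure (T : Set σ.ker) = ⊤ := by
    refine eq_top_iff.2 fun z _ => ?_
    obtain ⟨c, hc, hcz⟩ := hgen z
    have e := b.sum_repr ⟨c, hc⟩
    have e' : c = ∑ i, b.repr ⟨c, hc⟩ i • (b i : rels → ℤ) := by
      conv_lhs => rw [show c = ((⟨c, hc⟩ : LinearMap.ker φ) : rels → ℤ) from rfl, ← e]
      simp only [Submodule.coe_sum, Submodule.coe_smul]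
    have hz : z = Additive.toMul (ρ c) := by rw [hcz]; rfl
    rw [hz, e', map_sum, toMul_sum]
    refine Subgroup.prod_mem _ fun i _ => ?_
    rw [map_smul, toMul_zsmul]
    exact Subgroup.zpow_mem _ (Subgroup.subset_closure (by simp [T])) _
  calc Group.rank σ.ker ≤ T.card := Group.rank_le hT
    _ ≤ Fintype.card (Module.Free.ChooseBasisIndex ℤ (LinearMap.ker φ)) := Finset.card_image_le
    _ ≤ rels.card - n := by omega

/-- If a finite group is presented by `n` generators and a finite set of `r` relators, then its Schur multiplier can be generated by `r - n` elements. In particular a finite group with a presentation having as many relators as generators has trivial Schur multiplier. -/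
theorem result (n : ℕ) (rels : Finset (FreeGroup (Fin n))) [Finite (PresentedGroup (rels : Set (FreeGroup (Fin n))))] {A : Type*} [CommGroup A] [Finite A] (hA : Cfsg.HasSchurMultiplier (PresentedGroup (rels : Set (FreeGroup (Fin n)))) A) : Group.rank A ≤ rels.card - n := by
  obtain ⟨Γ, _, _, σ, hσ, ⟨e⟩⟩ := hA.1
  rw [← Group.rank_congr e]
  exact stem_ker_rank_le n rels σ hσ

end Cfsg.Agent.S3973
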