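import Cfsg.Statements.S3974
import Cfsg.Agent.Lib.Coprime.Schur
import Mathlib

set_option autoImplicit false
universe u v
open Cfsg
open CfsgLib.Schur
open scoped commutatorElement

namespace Cfsg.Agent.S3974

variable {Q : Type u} [Group Q] [Finite Q]

theorem pow_card_mem (e : UExt Q) :
    ∃ c ∈ commutator (UExt Q), ∃ k ∈ (proj Q).ker, e ^ Nat.card (Abelianization Q) = k * c := by
  have h : proj Q (e ^ Nat.card (Abelianization Q)) ∈ commutator Q := by
    rw [← Abelianization.ker_of, MonoidHom.mem_ker, map_pow, map_pow, pow_card_eq_one']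
  obtain ⟨c, hc, hce⟩ : ∃ c ∈ commutator (UExt Q), proj Q c = proj Q (e ^ Nat.card (Abelianization Q)) := by
    have h1 : (commutator (UExt Q)).map (proj Q) = commutator Q := by
      rw [commutator_def, Subgroup.map_commutator, Subgroup.map_top_of_surjective _ proj_surjective, commutator_def]
    rw [← h1] at h
    exact h
  refine ⟨c, hc, e ^ Nat.card (Abelianization Q) * c⁻¹, ?_, by group⟩
  rw [MonoidHom.mem_ker, map_mul, map_inv, hce, mul_inv_cancel]

/-- The kernel of the map onto a covering group. -/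
theorem cover_data {Γ : Type u} [Group Γ] [Finite Γ] {σ : Γ →* Q} (hσ : Cfsg.IsStemExtension σ)
    (hc : Nat.card σ.ker = Nat.card (mult Q)) :
    ∃ β : UExt Q →* Γ, σ.comp β = proj Q ∧ Function.Surjective β ∧ (∀ x ∈ mult Q, β x = 1 → x = 1) ∧
      β.ker ≤ (proj Q).ker ∧ β.ker ⊓ commutator (UExt Q) = ⊥ ∧ (proj Q).ker ≤ mult Q ⊔ β.ker := by
  obtain ⟨β, hβ⟩ := exists_lift (MonoidHom.id Q) σ hσ.1 hσ.2.1
  rw [MonoidHom.id_comp] at hβ
  have hm := map_mult_stem hσ hβ
  have hb : Function.Bijective ((β.comp (mult Q).subtype).codRestrict σ.ker fun x => hm ▸ Subgroup.mem_map_of_mem β x.2) := by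
    refine (Nat.bijective_iff_surjective_and_card _).2 ⟨?_, hc.symm⟩
    rintro ⟨x, hx⟩
    rw [← hm] at hx
    obtain ⟨e, he, rfl⟩ := hx
    exact ⟨⟨e, he⟩, rfl⟩
  have hi : ∀ x ∈ mult Q, β x = 1 → x = 1 := fun x hx h1 =>
    congrArg Subtype.val (hb.1 (a₁ := ⟨x, hx⟩) (a₂ := 1) (Subtype.ext (h1.trans (map_one β).symm)))
  have hle : β.ker ≤ (proj Q).ker := fun x hx => by
    rw [MonoidHom.mem_ker, ← hβ, MonoidHom.comp_apply, MonoidHom.mem_ker.1 hx, map_one]
  refine ⟨β, hβ, surjective_of_stem β σ hσ (hβ ▸ proj_surjective), hi, hle, ?_, ?_⟩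
  · exact eq_bot_iff.2 fun x hx => Subgroup.mem_bot.2 (hi x ⟨hle hx.1, hx.2⟩ hx.1)
  · intro k hk
    have h : β k ∈ σ.ker := by rw [MonoidHom.mem_ker, ← MonoidHom.comp_apply, hβ]; exact hk
    rw [← hm] at h
    obtain ⟨m, hmm, hmk⟩ := h
    rw [← mul_inv_cancel_left m k]
    exact Subgroup.mul_mem_sup hmm (by rw [MonoidHom.mem_ker, map_mul, map_inv, hmk, inv_mul_cancel])

/-- Coprimality gives uniqueness. -/
theorem unique_of_coprime {Γ₁ Γ₂ : Type u} [Group Γ₁] [Finite Γ₁] [Group Γ₂] [Finite Γ₂] (σ₁ : Γ₁ →* Q)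
    (σ₂ : Γ₂ →* Q) (h₁ : Cfsg.IsStemExtension σ₁) (h₂ : Cfsg.IsStemExtension σ₂)
    (hc₁ : Nat.card σ₁.ker = Nat.card (mult Q)) (hc₂ : Nat.card σ₂.ker = Nat.card (mult Q))
    (hcop : Nat.Coprime (Nat.card (Abelianization Q)) (Nat.card (mult Q))) :
    ∃ e : Γ₁ ≃* Γ₂, σ₂.comp e.toMonoidHom = σ₁ := by
  obtain ⟨β₁, hβ₁, hs₁, -, hle₁, hd₁, hcov₁⟩ := cover_data h₁ hc₁
  obtain ⟨β₂, hβ₂, -, -, -, -, -⟩ := cover_data h₂ hc₂
  let f : β₁.ker →* Abelianization (UExt Q) := Abelianization.of.comp β₁.ker.subtype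
  have hf : Function.Injective f := by
    rw [injective_iff_map_eq_one]
    intro x hx
    have h : (x : UExt Q) ∈ β₁.ker ⊓ commutator (UExt Q) := by
      refine ⟨x.2, ?_⟩
      rw [← Abelianization.ker_of]; exact hx
    rw [hd₁] at h
    exact Subtype.ext (Subgroup.mem_bot.1 h)
  obtain ⟨d, hd⟩ : ∃ d, d = Nat.card (Abelianization Q) := ⟨_, rfl⟩
  let g : UExt Q →* f.range := ((powMonoidHom d).comp Abelianization.of).codRestrict f.range fun e => by
    obtain ⟨c, hc, k, hk, hek⟩ := pow_card_mem e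
    haveI : (mult Q).Normal := ⟨fun n hn x => by
      rw [Subgroup.mem_center_iff.1 (mult_le_center hn) x, mul_inv_cancel_right]; exact hn⟩
    obtain ⟨m, hm, l, hl, rfl⟩ := Subgroup.mem_sup_of_normal_left.1 (hcov₁ hk)
    refine ⟨⟨l, hl⟩, ?_⟩
    show Abelianization.of l = (Abelianization.of e) ^ d
    rw [← map_pow, hd, hek, map_mul, map_mul]
    rw [MonoidHom.mem_ker.1 (show m ∈ (Abelianization.of : UExt Q →* _).ker by rw [Abelianization.ker_of]; exact hm.2),
      MonoidHom.mem_ker.1 (show c ∈ (Abelianization.of : UExt Q →* _).ker by rw [Abelianization.ker_of]; exact hc),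
      one_mul, mul_one]
  let ψ : UExt Q →* β₁.ker := (MonoidHom.ofInjective hf).symm.toMonoidHom.comp g
  have hψ : ∀ l : β₁.ker, ψ (l : UExt Q) = l ^ d := fun l => by
    apply (MonoidHom.ofInjective hf).injective
    show (MonoidHom.ofInjective hf) ((MonoidHom.ofInjective hf).symm (g l)) = _
    rw [MulEquiv.apply_symm_apply, map_pow]
    exact Subtype.ext rfl
  have hker2 : ∀ l : β₁.ker, β₂ l ∈ σ₂.ker := fun l => by
    rw [MonoidHom.mem_ker, ← MonoidHom.comp_apply, hβ₂]; exact hle₁ l.2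
  obtain ⟨j, hj⟩ : ∃ j, (d * j) % Nat.card σ₂.ker = 1 % Nat.card σ₂.ker :=
    by
    obtain ⟨m, -, hm⟩ := Nat.exists_mul_mod_eq_of_coprime (k := Nat.card σ₂.ker) (n := d) 1
      (by rw [hd, hc₂]; exact hcop) Nat.card_pos.ne'
    exact ⟨m, hm⟩
  let β' : UExt Q →* Γ₂ := MonoidHom.mk' (fun e => β₂ e * (β₂ (ψ e) ^ j)⁻¹) fun a b => by
    have hcen : ∀ x, (β₂ (ψ x) ^ j)⁻¹ ∈ Subgroup.center Γ₂ := fun x =>
      h₂.2.1 (inv_mem (pow_mem (hker2 _) j))
    rw [map_mul, map_mul ψ, Subgroup.coe_mul, map_mul β₂,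
      ((show Commute (β₂ (ψ a)) (β₂ (ψ b)) from (Subgroup.mem_center_iff.1 (h₂.2.1 (hker2 _)) _))).mul_pow,
      mul_inv_rev]
    rw [← Subgroup.mem_center_iff.1 (hcen b) (β₂ (ψ a) ^ j)⁻¹]
    rw [mul_assoc (β₂ a), mul_assoc (β₂ a), ← mul_assoc (β₂ b), Subgroup.mem_center_iff.1 (hcen a) (β₂ b), mul_assoc]
  have hσβ : σ₂.comp β' = proj Q := MonoidHom.ext fun e => by
    show σ₂ (β₂ e * (β₂ (ψ e) ^ j)⁻¹) = proj Q e
    rw [map_mul, map_inv, map_pow, MonoidHom.mem_ker.1 (hker2 (ψ e)), one_pow, inv_one, mul_one,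
      ← MonoidHom.comp_apply, hβ₂]
  have hkill : β₁.ker ≤ β'.ker := fun l hl => by
    rw [MonoidHom.mem_ker]
    show β₂ l * (β₂ (ψ l) ^ j)⁻¹ = 1
    rw [show ψ l = (⟨l, hl⟩ : β₁.ker) ^ d from hψ ⟨l, hl⟩, Subgroup.coe_pow, map_pow, ← pow_mul]
    have h0 : (⟨β₂ l, hker2 ⟨l, hl⟩⟩ : σ₂.ker) ^ (d * j) = ⟨β₂ l, hker2 ⟨l, hl⟩⟩ := by
      conv_rhs => rw [← pow_one (⟨β₂ l, hker2 ⟨l, hl⟩⟩ : σ₂.ker)]
      rw [← pow_mod_natCard, hj, pow_mod_natCard]
    have h1 : (β₂ l) ^ (d * j) = β₂ l := congrArg Subtype.val h0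
    rw [h1, mul_inv_cancel]
  let φ : Γ₁ →* Γ₂ := β₁.liftOfSurjective hs₁ ⟨β', hkill⟩
  have hφ : ∀ e, φ (β₁ e) = β' e := fun e => MonoidHom.liftOfRightInverse_comp_apply _ _ _ _ e
  have hsur : Function.Surjective φ := fun y => by
    obtain ⟨e, rfl⟩ := surjective_of_stem β' σ₂ h₂ (hσβ ▸ proj_surjective) y
    exact ⟨β₁ e, hφ e⟩
  have hcard : Nat.card Γ₁ = Nat.card Γ₂ := by
    rw [← σ₁.ker.card_mul_index, ← σ₂.ker.card_mul_index, hc₁, hc₂, Subgroup.index_ker, Subgroup.index_ker,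
      MonoidHom.range_eq_top.2 h₁.1, MonoidHom.range_eq_top.2 h₂.1]
  refine ⟨MulEquiv.ofBijective φ ((Nat.bijective_iff_surjective_and_card φ).2 ⟨hsur, hcard⟩), MonoidHom.ext fun x => ?_⟩
  obtain ⟨e, rfl⟩ := hs₁ x
  show σ₂ (φ (β₁ e)) = σ₁ (β₁ e)
  rw [hφ, ← MonoidHom.comp_apply, hσβ, ← hβ₁]
  rfl

/-- A homomorphism on a subgroup of `ℤ^Q` not vanishing on a non-divisible element. -/
theorem exists_delta (L : Subgroup (UExt Q)) (hd : L ⊓ commutator (UExt Q) = ⊥) {p : ℕ} (hp : p.Prime)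
    {a : mult Q} (ha : ∀ b : mult Q, b ^ p ≠ a) (l : L) (hl : ∀ x : L, x ^ p ≠ l) :
    ∃ δ : L →* mult Q, ∀ b : mult Q, b ^ p ≠ δ l := by
  classical
  letI : CommGroup L :=
    { (inferInstance : Group L) with
      mul_comm := fun x y => by
        have h : ((x * y * (y * x)⁻¹ : L) : UExt Q) ∈ L ⊓ commutator (UExt Q) := by
          refine Subgroup.mem_inf.2 ⟨SetLike.coe_mem _, ?_⟩
          rw [← Abelianization.ker_of, MonoidHom.mem_ker, Subgroup.coe_mul, Subgroup.coe_mul, Subgroup.coe_inv,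
            Subgroup.coe_mul, map_mul, map_inv, map_mul, map_mul, mul_comm (Abelianization.of (y : UExt Q)), mul_inv_cancel]
        rw [hd, Subgroup.mem_bot, OneMemClass.coe_eq_one, mul_inv_eq_one] at h
        exact h }
  let Tl : Additive L →+ (Q → ℤ) :=
    { toFun := fun k => (expHom ((Additive.toMul k : L) : UExt Q)).toAdd
      map_zero' := by simp
      map_add' := fun a b => by simp }
  have hinj : Function.Injective Tl := by
    intro x y hxy
    have h1 : expHom (((Additive.toMul x : L) * (Additive.toMul y)⁻¹ : L) : UExt Q) = 1 := by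
      rw [Subgroup.coe_mul, Subgroup.coe_inv, map_mul, map_inv, mul_inv_eq_one]
      exact Multiplicative.toAdd.injective hxy
    rw [← MonoidHom.mem_ker, ker_expHom] at h1
    have h2 : (((Additive.toMul x : L) * (Additive.toMul y)⁻¹ : L) : UExt Q) ∈ L ⊓ commutator (UExt Q) :=
      ⟨SetLike.coe_mem _, h1⟩
    rw [hd, Subgroup.mem_bot, OneMemClass.coe_eq_one, mul_inv_eq_one] at h2
    exact Additive.toMul.injective h2
  let N : Submodule ℤ (Q → ℤ) := LinearMap.range Tl.toIntLinearMap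
  haveI : Fintype Q := Fintype.ofFinite Q
  obtain ⟨n, b⟩ := Submodule.basisOfPid (Pi.basisFun ℤ Q) N
  let e : Additive L ≃ₗ[ℤ] N := LinearEquiv.ofInjective Tl.toIntLinearMap hinj
  obtain ⟨i, hi⟩ : ∃ i, ¬ (p : ℤ) ∣ b.repr (e (Additive.ofMul l)) i := by
    by_contra hh
    push Not at hh
    choose c hc using hh
    refine hl (Additive.toMul (e.symm (∑ i, c i • b i))) ?_
    apply Additive.ofMul.injective
    apply e.injective
    rw [ofMul_pow, map_nsmul, ofMul_toMul, LinearEquiv.apply_symm_apply]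
    conv_rhs => rw [← b.sum_repr (e (Additive.ofMul l))]
    rw [Finset.smul_sum]
    refine Finset.sum_congr rfl fun i _ => ?_
    rw [hc i, mul_smul, ← Nat.cast_smul_eq_nsmul ℤ]
  refine ⟨MonoidHom.mk' (fun x => a ^ (b.repr (e (Additive.ofMul x)) i)) (fun x y => by
    rw [ofMul_mul, map_add, map_add, Finsupp.add_apply, zpow_add]), fun m hm => ?_⟩
  change m ^ p = a ^ (b.repr (e (Additive.ofMul l)) i) at hm
  obtain ⟨u, v, huv⟩ := ((Nat.prime_iff_prime_int.1 hp).coprime_iff_not_dvd).2 hi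
  refine ha (a ^ u * m ^ v) ?_
  calc (a ^ u * m ^ v) ^ p = a ^ (u * (p : ℤ)) * (m ^ p) ^ v := by
        rw [mul_pow, ← zpow_natCast (a ^ u), ← zpow_mul, ← zpow_natCast (m ^ v), ← zpow_mul, ← zpow_natCast m,
          ← zpow_mul, mul_comm v]
    _ = a ^ (u * (p : ℤ) + v * b.repr (e (Additive.ofMul l)) i) := by
        rw [hm, ← zpow_mul, ← zpow_add, mul_comm v]
    _ = a := by rw [huv, zpow_one]

/-- Let `Q` be a finite group with Schur multiplier `A`. Any two Schur covering groups of `Q` (finite stem extensions `σ₁ : Γ₁ →* Q`, `σ₂ : Γ₂ →* Q` with kernels isomorphic to `A`, `Γ₁, Γ₂` in the universe of `Q`) are isomorphic over `Q` — there is a group isomorphism `e : Γ₁ ≃* Γ₂` with `σ₂ ∘ e = σ₁` — if and only if the order of the commutator quotient of `Q` is coprime to the order of `A`. In particular a finite perfect group has a unique Schur covering group up to isomorphism over it. -/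
theorem result {Q : Type u} [Group Q] [Finite Q] {A : Type v} [CommGroup A] (hA : Cfsg.HasSchurMultiplier Q A) : (∀ (Γ₁ Γ₂ : Type u) [Group Γ₁] [Finite Γ₁] [Group Γ₂] [Finite Γ₂] (σ₁ : Γ₁ →* Q) (σ₂ : Γ₂ →* Q), Cfsg.IsStemExtension σ₁ → Cfsg.IsStemExtension σ₂ → Nonempty (σ₁.ker ≃* A) → Nonempty (σ₂.ker ≃* A) → ∃ e : Γ₁ ≃* Γ₂, σ₂.comp e.toMonoidHom = σ₁) ↔ Nat.Coprime (Nat.card (Abelianization Q)) (Nat.card A) := by
  classical
  obtain ⟨eA⟩ := mulEquiv_mult hA
  rw [Nat.card_congr eA.toEquiv]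
  constructor
  · intro h
    by_contra hcop
    obtain ⟨p, hp, hpQ, hpM⟩ := Nat.Prime.not_coprime_iff_dvd.1 hcop
    haveI := Fact.mk hp
    obtain ⟨a, ha⟩ : ∃ a : mult Q, ∀ b : mult Q, b ^ p ≠ a := by
      by_contra hh
      push Not at hh
      obtain ⟨x, hx⟩ := exists_prime_orderOf_dvd_card' p hpM
      have h1 : Function.Injective (fun b : mult Q => b ^ p) := Finite.injective_iff_surjective.2 hh
      have h2 : x = 1 := h1 (by
        show x ^ p = 1 ^ p
        rw [one_pow, ← hx, pow_orderOf_eq_one])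
      rw [h2, orderOf_one] at hx
      exact hp.ne_one hx.symm
    obtain ⟨L, -, hLd, hcov⟩ := exists_complement_le (Q := Q) (K₀ := (proj Q).ker) le_rfl le_sup_right
    obtain ⟨L', hL'def⟩ : ∃ L', L' = L ⊓ (proj Q).ker := ⟨_, rfl⟩
    have hLk : L' ≤ (proj Q).ker := hL'def ▸ inf_le_right
    have hLd' : L' ⊓ commutator (UExt Q) = ⊥ :=
      eq_bot_iff.2 ((inf_le_inf_right _ (hL'def ▸ inf_le_left)).trans hLd.le)
    have hcov' : (proj Q).ker ≤ mult Q ⊔ L' := by
      intro k hk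
      haveI : (mult Q).Normal := ⟨fun n hn x => by
        rw [Subgroup.mem_center_iff.1 (mult_le_center hn) x, mul_inv_cancel_right]; exact hn⟩
      obtain ⟨m, hm, y, hy, rfl⟩ := Subgroup.mem_sup_of_normal_left.1 (hcov hk)
      refine Subgroup.mul_mem_sup hm (hL'def ▸ ⟨hy, ?_⟩)
      have := mul_mem (inv_mem (mult_le_ker hm)) hk
      rwa [inv_mul_cancel_left] at this
    haveI hnorm : ∀ S : Subgroup (UExt Q), S ≤ (proj Q).ker → S.Normal := fun S hS => ⟨fun n hn x => by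
      rw [Subgroup.mem_center_iff.1 (ker_proj_le_center (hS hn)) x, mul_inv_cancel_right]; exact hn⟩
    haveI : (mult Q).Normal := hnorm _ mult_le_ker
    -- an element of order `p` in the abelianization
    obtain ⟨q, hq⟩ := exists_prime_orderOf_dvd_card' (G := Abelianization Q) p hpQ
    obtain ⟨q', rfl⟩ : ∃ q', Abelianization.of q' = q := QuotientGroup.mk'_surjective _ q
    obtain ⟨e, rfl⟩ := proj_surjective q'
    obtain ⟨c, hc, hce⟩ : ∃ c ∈ commutator (UExt Q), proj Q c = proj Q (e ^ p) := by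
      have h1 : (commutator (UExt Q)).map (proj Q) = commutator Q := by
        rw [commutator_def, Subgroup.map_commutator, Subgroup.map_top_of_surjective _ proj_surjective, commutator_def]
      have h2 : proj Q (e ^ p) ∈ commutator Q := by
        rw [← Abelianization.ker_of, MonoidHom.mem_ker, map_pow, map_pow, ← hq, pow_orderOf_eq_one]
      rw [← h1] at h2
      exact h2
    obtain ⟨m₀, hm₀, l, hlL, hml⟩ := Subgroup.mem_sup_of_normal_left.1
      (hcov' (show e ^ p * c⁻¹ ∈ (proj Q).ker by rw [MonoidHom.mem_ker, map_mul, map_inv, hce, mul_inv_cancel]))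
    have hab : ∀ x ∈ commutator (UExt Q), Abelianization.of x = 1 := fun x hx => by
      rwa [← MonoidHom.mem_ker, Abelianization.ker_of]
    have hel : Abelianization.of e ^ p = Abelianization.of l := by
      have := congrArg Abelianization.of hml
      rw [map_mul, map_mul, map_inv, hab _ hc, hab _ hm₀.2, one_mul, inv_one, mul_one, map_pow] at this
      exact this.symm
    have hnp : ∀ x : L', x ^ p ≠ ⟨l, hlL⟩ := by
      intro x hx
      have hx' : Abelianization.of (x : UExt Q) ^ p = Abelianization.of e ^ p := by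
        rw [hel, ← map_pow]; exact congrArg (fun y : L' => Abelianization.of (y : UExt Q)) hx
      have h1 : (x : UExt Q)⁻¹ * e ∈ commutator (UExt Q) := by
        rw [← ker_expHom, MonoidHom.mem_ker]
        have h2 : expHom ((x : UExt Q) ^ p) = expHom (e ^ p) := by
          rw [← map_pow, ← map_pow] at hx'
          have h3 : ((x : UExt Q) ^ p)⁻¹ * e ^ p ∈ (expHom (Q := Q)).ker := by
            rw [ker_expHom]; exact QuotientGroup.eq.1 hx'
          rwa [MonoidHom.mem_ker, map_mul, map_inv, inv_mul_eq_one] at h3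
        rw [map_mul, map_inv, inv_mul_eq_one]
        rw [map_pow, map_pow] at h2
        apply Multiplicative.toAdd.injective
        funext r
        have h4 := congrFun (congrArg Multiplicative.toAdd h2) r
        simp only [toAdd_pow, Pi.smul_apply, smul_eq_mul, nsmul_eq_mul] at h4
        exact mul_left_cancel₀ (by exact_mod_cast hp.ne_zero) h4
      have h5 := congrArg (fun y => Abelianization.of (proj Q y)) (mul_inv_cancel_left (x : UExt Q) e)
      rw [map_mul, MonoidHom.mem_ker.1 (hLk x.2), one_mul] at h5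
      rw [← h5] at hq
      have h6 : Abelianization.of (proj Q ((x : UExt Q)⁻¹ * e)) = 1 := by
        rw [← MonoidHom.mem_ker, Abelianization.ker_of]
        have h7 := Subgroup.mem_map_of_mem (proj Q) h1
        rw [commutator_def, Subgroup.map_commutator] at h7
        exact Subgroup.commutator_mono le_top le_top h7
      rw [h6, orderOf_one] at hq
      exact hp.ne_one hq.symm
    obtain ⟨δ, hδ⟩ := exists_delta L' hLd' hp ha ⟨l, hlL⟩ hnp
    let τ : L' →* UExt Q := MonoidHom.mk' (fun x => (δ x : UExt Q) * x) fun x y => by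
      rw [map_mul, Subgroup.coe_mul, Subgroup.coe_mul, mul_assoc, mul_assoc, ← mul_assoc (δ y : UExt Q),
        ← Subgroup.mem_center_iff.1 (mult_le_center (δ y).2) (x : UExt Q)]
      group
    have hτk : τ.range ≤ (proj Q).ker := by
      rintro _ ⟨x, rfl⟩
      exact mul_mem (mult_le_ker (δ x).2) (hLk x.2)
    have hτd : τ.range ⊓ commutator (UExt Q) = ⊥ := by
      refine eq_bot_iff.2 fun y hy => ?_
      obtain ⟨⟨x, rfl⟩, hy2⟩ := hy
      have hx : (x : UExt Q) ∈ L' ⊓ commutator (UExt Q) := by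
        refine ⟨x.2, ?_⟩
        have hd2 : (δ x : UExt Q) ∈ commutator (UExt Q) := (δ x).2.2
        have := mul_mem (inv_mem hd2) hy2
        rwa [show τ x = (δ x : UExt Q) * x from rfl, inv_mul_cancel_left] at this
      rw [hLd', Subgroup.mem_bot, OneMemClass.coe_eq_one] at hx
      rw [hx, map_one]; exact one_mem _
    have hτc : (proj Q).ker ≤ mult Q ⊔ τ.range := fun k hk => by
      obtain ⟨m, hm, y, hy, rfl⟩ := Subgroup.mem_sup_of_normal_left.1 (hcov' hk)
      rw [show m * y = (m * (δ ⟨y, hy⟩ : UExt Q)⁻¹) * τ ⟨y, hy⟩ by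
        show m * y = m * (δ ⟨y, hy⟩ : UExt Q)⁻¹ * ((δ ⟨y, hy⟩ : UExt Q) * y); group]
      exact Subgroup.mul_mem_sup (mul_mem hm (inv_mem (δ ⟨y, hy⟩).2)) ⟨_, rfl⟩
    haveI := hnorm L' hLk
    haveI := hnorm _ hτk
    obtain ⟨hf1, hst1, ⟨ek1⟩⟩ := cover_spec hLk hLd' hcov'
    obtain ⟨hf2, hst2, ⟨ek2⟩⟩ := cover_spec hτk hτd hτc
    haveI := hf1
    haveI := hf2
    obtain ⟨E, hE⟩ := h _ _ _ _ hst1 hst2 ⟨ek1.trans eA.symm⟩ ⟨ek2.trans eA.symm⟩
    let η : UExt Q →* UExt Q ⧸ τ.range := E.toMonoidHom.comp (QuotientGroup.mk' L')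
    obtain ⟨m2, hm2⟩ : ∃ m2, m2 = QuotientGroup.mk' τ.range := ⟨_, rfl⟩
    let σ₂ := QuotientGroup.lift τ.range (proj Q) hτk
    have hk2 : ∀ x, η x * (m2 x)⁻¹ ∈ σ₂.ker := fun x => by
      rw [MonoidHom.mem_ker, map_mul, map_inv, mul_inv_eq_one, hm2]
      exact DFunLike.congr_fun hE (QuotientGroup.mk' L' x)
    let θ : UExt Q →* UExt Q ⧸ τ.range := MonoidHom.mk' (fun x => η x * (m2 x)⁻¹) fun x y => by
      rw [map_mul, map_mul, mul_inv_rev, mul_assoc, ← mul_assoc (η y), ← Subgroup.mem_center_iff.1 (hst2.2.1 (hk2 y)) (m2 x)⁻¹,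
        ← mul_assoc]
    have hθc : commutator (UExt Q) ≤ θ.ker := by
      rw [commutator_def, Subgroup.commutator_le]
      intro x _ y _
      rw [MonoidHom.mem_ker, map_commutatorElement, commutatorElement_eq_one_iff_mul_comm]
      exact Subgroup.mem_center_iff.1 (hst2.2.1 (hk2 y)) _
    have hθl : θ l = m2 (δ ⟨l, hlL⟩ : UExt Q) := by
      show E (QuotientGroup.mk' L' l) * (m2 l)⁻¹ = _
      have h1 : QuotientGroup.mk' L' l = 1 := (QuotientGroup.eq_one_iff l).2 hlL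
      have h2 : m2 ((δ ⟨l, hlL⟩ : UExt Q) * l) = 1 := by
        rw [hm2]; exact (QuotientGroup.eq_one_iff _).2 ⟨⟨l, hlL⟩, rfl⟩
      rw [map_mul] at h2
      rw [h1, map_one, one_mul, eq_inv_of_mul_eq_one_left h2]
    have hθe : θ e ^ p = θ l := by
      rw [← map_pow]
      have h1 : (e ^ p)⁻¹ * l ∈ θ.ker := hθc (QuotientGroup.eq.1 ((map_pow Abelianization.of e p).trans hel))
      rwa [MonoidHom.mem_ker, map_mul, map_inv, inv_mul_eq_one] at h1
    obtain ⟨m', hm', hm'e⟩ : ∃ m' ∈ mult Q, m2 m' = θ e := by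
      have hh := map_mult hst2.2.1 (β := m2) (hm2 ▸ rfl)
      have hin : θ e ∈ σ₂.ker ⊓ commutator (UExt Q ⧸ τ.range) := ⟨hk2 e, hst2.2.2 (hk2 e)⟩
      rw [← hh] at hin
      exact hin
    refine hδ ⟨m', hm'⟩ (Subtype.ext ?_)
    rw [Subgroup.coe_pow, ← mul_inv_eq_one]
    have h9 : m' ^ p * (δ ⟨l, hlL⟩ : UExt Q)⁻¹ ∈ τ.range ⊓ commutator (UExt Q) := by
      refine Subgroup.mem_inf.2 ⟨?_, mul_mem (pow_mem hm'.2 p)
        (inv_mem (show (δ ⟨l, hlL⟩ : UExt Q) ∈ commutator (UExt Q) from (δ ⟨l, hlL⟩).2.2))⟩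
      rw [← QuotientGroup.eq_one_iff, ← QuotientGroup.mk'_apply, ← hm2, map_mul, map_inv, map_pow, hm'e, hθe, hθl,
        mul_inv_cancel]
    rw [hτd] at h9
    exact Subgroup.mem_bot.1 h9
  · intro hcop Γ₁ Γ₂ _ _ _ _ σ₁ σ₂ h₁ h₂ he₁ he₂
    obtain ⟨e₁⟩ := he₁
    obtain ⟨e₂⟩ := he₂
    exact unique_of_coprime σ₁ σ₂ h₁ h₂ (Nat.card_congr (e₁.trans eA).toEquiv)
      (Nat.card_congr (e₂.trans eA).toEquiv) hcop

end Cfsg.Agent.S3974
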