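import Cfsg.Statements.S3977
import Mathlib
import Cfsg.Agent.Lib.StructC.QuatPair
-- import your own Cfsg.Agent.* helpers here

set_option autoImplicit false
open Cfsg

namespace Cfsg.Agent.S3977

/-- Let `p` be a prime and `G` a group of order `p ^ m` which has exactly one subgroup of order `p ^ s`, where `1 ≤ s < m`, and where `s ≥ 2` if `p = 2`. Then `G` is cyclic. (For `p = 2` and `s = 1` the generalized quaternion groups also occur; that case is the classical criterion for a unique involution.) -/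
theorem result {G : Type*} [Group G] [Finite G] (p m s : ℕ) (hp : p.Prime) (hG : Nat.card G = p ^ m) (hs : 1 ≤ s) (hsm : s < m) (h2 : p ≠ 2 ∨ 2 ≤ s) (huniq : ∀ H K : Subgroup G, Nat.card H = p ^ s → Nat.card K = p ^ s → H = K) : IsCyclic G := by
  classical
  haveI : Fact p.Prime := ⟨hp⟩
  have hP : IsPGroup p G := IsPGroup.of_card hG
  obtain ⟨H, hH⟩ := Sylow.exists_subgroup_card_pow_prime (G := G) p (hG ▸ pow_dvd_pow p hsm.le)
  obtain ⟨L, hL, hHL⟩ := Sylow.exists_subgroup_card_pow_succ (G := G) (hG ▸ pow_dvd_pow p hsm) hH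
  have hHne : ¬ L ≤ H := fun h => by
    have h1 := Subgroup.card_le_of_le h
    rw [hL, hH] at h1
    exact absurd h1 (not_le.2 (Nat.pow_lt_pow_right hp.one_lt (Nat.lt_succ_self s)))
  obtain ⟨g, hgL, hgH⟩ := SetLike.not_le_iff_exists.1 hHne
  have hsub : ∀ K : Subgroup G, Nat.card K ∣ p ^ s → K ≤ H := by
    intro K hK
    obtain ⟨j, hj, hjc⟩ := (Nat.dvd_prime_pow hp).1 hK
    obtain ⟨M, hM, hKM⟩ := Sylow.exists_subgroup_card_pow_prime_le (G := G) p (hG ▸ pow_dvd_pow p hsm.le) K hjc hj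
    exact hKM.trans (huniq M H hM hH).le
  have hz : Subgroup.zpowers g = L := by
    refine Subgroup.eq_of_le_of_card_ge (Subgroup.zpowers_le.2 hgL) ?_
    obtain ⟨j, -, hjc⟩ := (Nat.dvd_prime_pow hp).1 (hG ▸ Subgroup.card_subgroup_dvd_card (Subgroup.zpowers g))
    rw [hL, hjc]
    refine Nat.pow_le_pow_right hp.pos ?_
    by_contra hlt
    exact hgH (hsub _ (hjc ▸ pow_dvd_pow p (by omega)) (Subgroup.mem_zpowers g))
  haveI : IsCyclic H := by
    have : IsCyclic L := by rw [← hz]; infer_instance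
    exact Subgroup.isCyclic_of_le hHL
  have helt : ∀ a : G, orderOf a ∣ p ^ s → a ∈ H := fun a ha =>
    hsub (Subgroup.zpowers a) (by rw [Nat.card_zpowers]; exact ha) (Subgroup.mem_zpowers a)
  have hu : ∀ a b : G, orderOf a = p → orderOf b = p → Commute a b → b ∈ Subgroup.zpowers a := by
    intro a b ha hb _
    have haH := helt a (ha.symm ▸ (show p ∣ p ^ s from dvd_pow_self p (by omega)))
    have hbH := helt b (hb.symm ▸ (show p ∣ p ^ s from dvd_pow_self p (by omega)))
    letI : CommGroup H := IsCyclic.commGroup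
    have hle : ∀ z : H, orderOf z = p → Subgroup.zpowers z = (powMonoidHom p : H →* H).ker := fun z hz' => by
      refine Subgroup.eq_of_le_of_card_ge (Subgroup.zpowers_le.2 ?_) ?_
      · rw [MonoidHom.mem_ker, powMonoidHom_apply, ← hz', pow_orderOf_eq_one]
      · rw [IsCyclic.card_powMonoidHom_ker, Nat.card_zpowers, hz']
        exact Nat.le_of_dvd hp.pos (Nat.gcd_dvd_right _ _)
    have h1 : (⟨b, hbH⟩ : H) ∈ Subgroup.zpowers (⟨a, haH⟩ : H) := by
      rw [hle _ ((Subgroup.orderOf_mk a haH).trans ha), ← hle _ ((Subgroup.orderOf_mk b hbH).trans hb)]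
      exact Subgroup.mem_zpowers _
    obtain ⟨i, hi⟩ := h1
    exact ⟨i, congrArg Subtype.val hi⟩
  rcases CfsgLib.StructC.isCyclic_or_quat_pair hP hu with h | ⟨rfl, a, b, hab, ha, hrel⟩
  · exact h
  exfalso
  have hs2 : 2 ≤ s := h2.resolve_left (fun h => h rfl)
  have h4 : (4 : ℕ) ∣ 2 ^ s := ⟨2 ^ (s - 2), by rw [show (4 : ℕ) = 2 ^ 2 from rfl, ← pow_add]; congr 1; omega⟩
  have hb4 : b ^ 4 = 1 := by
    rw [show 4 = 2 * 2 from rfl, pow_mul, pow_two b, ← hab, ← pow_two a, ← pow_mul, show 2 * 2 = 4 from rfl,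
      ← ha, pow_orderOf_eq_one]
  have haH := helt a (ha ▸ h4)
  have hbH := helt b ((orderOf_dvd_of_pow_eq_one hb4).trans h4)
  have hcomm : a * b = b * a :=
    congrArg Subtype.val ((inferInstance : IsMulCommutative H).is_comm.comm (⟨a, haH⟩ : H) ⟨b, hbH⟩)
  rw [hcomm] at hrel
  have h1 : a * a = 1 := mul_eq_right.1 hrel.symm
  have := Nat.le_of_dvd two_pos (orderOf_dvd_of_pow_eq_one (show a ^ 2 = 1 by rw [pow_two, h1]))
  omega

end Cfsg.Agent.S3977
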