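import Cfsg.Statements.S3978
import Cfsg.Agent.Lib.Coprime.Schur
import Mathlib

set_option autoImplicit false
open Cfsg
open CfsgLib.Schur

namespace Cfsg.Agent.S3978

theorem divisible_units {n : ℤ} (hn : n ≠ 0) (a : Additive ℂˣ) : ∃ b : Additive ℂˣ, n • b = a := by
  obtain ⟨x, hx⟩ : ∃ x : ℂ, Complex.exp x = ((Additive.toMul a : ℂˣ) : ℂ) :=
    ⟨_, Complex.exp_log (Units.ne_zero _)⟩
  refine ⟨Additive.ofMul (Units.mk0 (Complex.exp (x / n)) (Complex.exp_ne_zero _)), ?_⟩
  apply Additive.toMul.injective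
  rw [toMul_zsmul]
  refine Units.ext ?_
  rw [Units.val_zpow_eq_zpow_val, toMul_ofMul, Units.val_mk0, ← Complex.exp_int_mul,
    mul_div_cancel₀ _ (Int.cast_ne_zero.2 hn), hx]

/-- A character of a central subgroup meeting the derived subgroup trivially extends. -/
theorem exists_extension {E : Type*} [Group E] (K : Subgroup E) (hK : K ⊓ commutator E = ⊥) (c : K →* ℂˣ) :
    ∃ χ : E →* ℂˣ, ∀ k : K, χ k = c k := by
  letI : DivisibleBy (Additive ℂˣ) ℤ :=
    { div := fun a n => if hn : n = 0 then 0 else (divisible_units hn a).choose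
      div_zero := fun a => dif_pos rfl
      div_cancel := fun {n} a hn => by rw [dif_neg hn]; exact (divisible_units hn a).choose_spec }
  obtain ⟨f, hf⟩ : ∃ f : K →* Abelianization E, f = Abelianization.of.comp K.subtype := ⟨_, rfl⟩
  have hfi : Function.Injective f := by
    rw [injective_iff_map_eq_one]
    intro k hk
    rw [hf, MonoidHom.comp_apply, ← MonoidHom.mem_ker, Abelianization.ker_of] at hk
    exact Subtype.ext (Subgroup.mem_bot.1 (hK ▸ ⟨k.2, hk⟩))
  letI : CommGroup K :=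
    { (inferInstance : Group K) with mul_comm := fun a b => hfi (by rw [map_mul, map_mul, mul_comm]) }
  obtain ⟨h, hh⟩ := Module.Baer.extension_property_addMonoidHom (Module.Baer.of_divisible (Additive ℂˣ))
    (MonoidHom.toAdditive f) hfi (MonoidHom.toAdditive c)
  refine ⟨(MonoidHom.toAdditive.symm h).comp Abelianization.of, fun k => ?_⟩
  have := DFunLike.congr_fun hh (Additive.ofMul k)
  subst hf
  exact congrArg Additive.toMul this

/-- The induced representation of a character of a central subgroup. -/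
theorem exists_rep {Γ Q : Type*} [Group Γ] [Group Q] [Finite Q] (σ : Γ →* Q) (hσ : Function.Surjective σ)
    (hc : σ.ker ≤ Subgroup.center Γ) (c : σ.ker →* ℂˣ) :
    ∃ ρ : Γ →* GL (Fin (Nat.card Q)) ℂ, ∀ a : σ.ker, ρ (a : Γ) = Matrix.GeneralLinearGroup.scalar (Fin (Nat.card Q)) (c a) := by
  classical
  let e : Q ≃ Fin (Nat.card Q) := Finite.equivFin Q
  obtain ⟨s, hs⟩ : ∃ s : Fin (Nat.card Q) → Γ, ∀ i, σ (s i) = e.symm i :=
    ⟨fun i => (hσ (e.symm i)).choose, fun i => (hσ (e.symm i)).choose_spec⟩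
  let π : Γ → Fin (Nat.card Q) → Fin (Nat.card Q) := fun x j => e (σ x * e.symm j)
  have hmem : ∀ x j, (s (π x j))⁻¹ * x * s j ∈ σ.ker := fun x j => by
    rw [MonoidHom.mem_ker, map_mul, map_mul, map_inv, hs, hs]
    simp [π, mul_assoc]
  let w : Γ → Fin (Nat.card Q) → ℂ := fun x j => ((c ⟨_, hmem x j⟩ : ℂˣ) : ℂ)
  have hπ : ∀ x y j, π (x * y) j = π x (π y j) := fun x y j => by simp [π, mul_assoc]
  have hw : ∀ x y j, w (x * y) j = w x (π y j) * w y j := by
    intro x y j
    simp only [w, ← Units.val_mul, ← map_mul]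
    congr 2
    refine Subtype.ext ?_
    show (s (π (x * y) j))⁻¹ * (x * y) * s j = (s (π x (π y j)))⁻¹ * x * s (π y j) * ((s (π y j))⁻¹ * y * s j)
    rw [hπ]
    group
  let M : Γ →* Matrix (Fin (Nat.card Q)) (Fin (Nat.card Q)) ℂ :=
    { toFun := fun x => Matrix.of fun i j => if i = π x j then w x j else 0
      map_one' := by
        ext i j
        have h1 : π 1 j = j := by simp [π]
        rw [Matrix.of_apply, h1, Matrix.one_apply]
        split
        · rename_i h
          have : (⟨_, hmem 1 j⟩ : σ.ker) = 1 := Subtype.ext (by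
            show (s (π 1 j))⁻¹ * 1 * s j = 1
            rw [h1]; group)
          simp only [w, this, map_one, Units.val_one]
        · rfl
      map_mul' := fun x y => by
        ext i j
        rw [Matrix.mul_apply, Finset.sum_eq_single (π y j)]
        · simp only [Matrix.of_apply, if_true, hπ, hw]
          split <;> simp
        · intro k _ hk
          simp [Matrix.of_apply, hk]
        · simp }
  refine ⟨M.toHomUnits, fun a => Units.ext ?_⟩
  have ha1 : σ (a : Γ) = 1 := a.2
  rw [MonoidHom.coe_toHomUnits]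
  ext i j
  have h1 : π (a : Γ) j = j := by simp [π, ha1]
  have h2 : (⟨_, hmem (a : Γ) j⟩ : σ.ker) = a := Subtype.ext (by
    show (s (π (a : Γ) j))⁻¹ * (a : Γ) * s j = a
    rw [h1, mul_assoc, ← Subgroup.mem_center_iff.1 (hc a.2) (s j), inv_mul_cancel_left])
  show (if i = π (a : Γ) j then w (a : Γ) j else 0) = _
  rw [h1, show w (a : Γ) j = ((c a : ℂˣ) : ℂ) by simp only [w, h2]]
  simp [Matrix.GeneralLinearGroup.scalar, Matrix.diagonal_apply]

/-- A finite group `Q` has trivial Schur multiplier if and only if, for every `n`, every homomorphism from `Q` to the projective general linear group (the quotient of `GL n ℂ` by its centre) lifts to a homomorphism into `GL n ℂ`. -/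
theorem result {Q : Type*} [Group Q] [Finite Q] : Cfsg.HasCyclicSchurMultiplier Q 1 ↔ ∀ (n : ℕ) (γ : Q →* (GL (Fin n) ℂ ⧸ Subgroup.center (GL (Fin n) ℂ))), ∃ ρ : Q →* GL (Fin n) ℂ, (QuotientGroup.mk' (Subgroup.center (GL (Fin n) ℂ))).comp ρ = γ := by
  constructor
  · intro h n γ
    obtain ⟨mk, hmk⟩ : ∃ mk, mk = QuotientGroup.mk' (Subgroup.center (GL (Fin n) ℂ)) := ⟨_, rfl⟩
    rw [← hmk]
    rcases Nat.eq_zero_or_pos n with rfl | hn
    · refine ⟨1, MonoidHom.ext fun q => ?_⟩
      obtain ⟨g, hg⟩ := QuotientGroup.mk'_surjective _ (γ q)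
      rw [← hg, ← hmk, Subsingleton.elim g 1, map_one]
      exact map_one mk
    haveI : Nonempty (Fin n) := ⟨⟨0, hn⟩⟩
    have hker : mk.ker ≤ Subgroup.center (GL (Fin n) ℂ) := by rw [hmk, QuotientGroup.ker_mk']
    obtain ⟨β, hβ⟩ := exists_lift γ mk (hmk ▸ QuotientGroup.mk'_surjective _) hker
    have hscal : ∀ k : (proj Q).ker, ∃ r : ℂˣ, β k = Matrix.GeneralLinearGroup.scalar (Fin n) r := by
      intro k
      have hc : β k ∈ Subgroup.center (GL (Fin n) ℂ) := hker (by
        rw [MonoidHom.mem_ker, ← MonoidHom.comp_apply, hβ, MonoidHom.comp_apply, MonoidHom.mem_ker.1 k.2, map_one])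
      rw [Matrix.GeneralLinearGroup.center_eq_range_scalar] at hc
      obtain ⟨r, hr⟩ := hc
      exact ⟨r, hr.symm⟩
    choose r hr using hscal
    have hinj : Function.Injective (Matrix.GeneralLinearGroup.scalar (Fin n) : ℂˣ →* GL (Fin n) ℂ) := fun x y hxy => by
      have h1 := congrArg (fun g : GL (Fin n) ℂ => (g : Matrix (Fin n) (Fin n) ℂ) ⟨0, hn⟩ ⟨0, hn⟩) hxy
      simp [Matrix.GeneralLinearGroup.scalar] at h1
      exact Units.ext h1
    have hm : (proj Q).ker ⊓ commutator (UExt Q) = ⊥ := by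
      have hc := card_mult_of_cyclic h
      exact Subgroup.card_eq_one.1 hc
    obtain ⟨χ, hχ⟩ := exists_extension (proj Q).ker hm
      (MonoidHom.mk' r fun a b => hinj (by rw [← hr, Subgroup.coe_mul, map_mul β, hr, hr, map_mul]))
    let β' : UExt Q →* GL (Fin n) ℂ :=
      MonoidHom.mk' (fun e => β e * (Matrix.GeneralLinearGroup.scalar (Fin n) (χ e))⁻¹) fun a b => by
        have hcen : (Matrix.GeneralLinearGroup.scalar (Fin n) (χ a))⁻¹ ∈ Subgroup.center (GL (Fin n) ℂ) := by
          rw [Matrix.GeneralLinearGroup.center_eq_range_scalar]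
          exact inv_mem ⟨_, rfl⟩
        rw [map_mul, map_mul χ, mul_comm (χ a), map_mul, mul_inv_rev, mul_assoc, mul_assoc,
          ← mul_assoc (β b), Subgroup.mem_center_iff.1 hcen (β b), mul_assoc]
    have hle : (proj Q).ker ≤ β'.ker := fun k hk => by
      rw [MonoidHom.mem_ker]
      show β k * (Matrix.GeneralLinearGroup.scalar (Fin n) (χ k))⁻¹ = 1
      rw [show χ k = r ⟨k, hk⟩ from hχ ⟨k, hk⟩, ← hr ⟨k, hk⟩, mul_inv_cancel]
    refine ⟨(proj Q).liftOfSurjective proj_surjective ⟨β', hle⟩, MonoidHom.ext fun q => ?_⟩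
    obtain ⟨e, rfl⟩ := proj_surjective q
    rw [MonoidHom.comp_apply, show (proj Q).liftOfSurjective proj_surjective ⟨β', hle⟩ (proj Q e) = β' e from
      MonoidHom.liftOfRightInverse_comp_apply _ _ _ _ e]
    refine Eq.trans ?_ (DFunLike.congr_fun hβ e)
    show mk (β e * _) = mk (β e)
    rw [map_mul, MonoidHom.mem_ker.1 (show (Matrix.GeneralLinearGroup.scalar (Fin n) (χ e))⁻¹ ∈ mk.ker by
      rw [hmk, QuotientGroup.ker_mk', Matrix.GeneralLinearGroup.center_eq_range_scalar]
      exact inv_mem ⟨_, rfl⟩), mul_one]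
  · intro h
    refine cyclic_one_of_forall fun Γ _ _ σ hσ => ?_
    by_contra hne
    obtain ⟨a, ha⟩ := Subgroup.ne_bot_iff_exists_ne_one.1 hne
    letI : CommGroup σ.ker :=
      { (inferInstance : Group σ.ker) with
        mul_comm := fun x y => Subtype.ext (Subgroup.mem_center_iff.1 (hσ.2.1 y.2) x) }
    haveI : NeZero ((Monoid.exponent σ.ker : ℕ) : ℂ) :=
      ⟨Nat.cast_ne_zero.2 (Monoid.exponent_ne_zero_of_finite (G := σ.ker))⟩
    obtain ⟨c, hc⟩ := CommGroup.exists_apply_ne_one_of_hasEnoughRootsOfUnity σ.ker ℂ ha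
    obtain ⟨R, hR⟩ := exists_rep σ hσ.1 hσ.2.1 c
    have hN0 : 0 < Nat.card Q := Nat.card_pos
    generalize hN : Nat.card Q = N at R hR hN0
    obtain ⟨mk, hmk⟩ : ∃ mk, mk = QuotientGroup.mk' (Subgroup.center (GL (Fin N) ℂ)) := ⟨_, rfl⟩
    have hle : σ.ker ≤ (mk.comp R).ker := fun x hx => by
      rw [MonoidHom.mem_ker, MonoidHom.comp_apply, hmk]
      refine (QuotientGroup.eq_one_iff _).2 ?_
      rw [Matrix.GeneralLinearGroup.center_eq_range_scalar]
      exact ⟨c ⟨x, hx⟩, (hR ⟨x, hx⟩).symm⟩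
    obtain ⟨ρ, hρ⟩ := h N (σ.liftOfSurjective hσ.1 ⟨mk.comp R, hle⟩)
    let d : Γ → Subgroup.center (GL (Fin N) ℂ) := fun x => ⟨(ρ (σ x))⁻¹ * R x, by
      refine (QuotientGroup.eq (s := Subgroup.center (GL (Fin N) ℂ))).1 ?_
      have h1 := DFunLike.congr_fun hρ (σ x)
      rw [show σ.liftOfSurjective hσ.1 ⟨mk.comp R, hle⟩ (σ x) = mk.comp R x from
        MonoidHom.liftOfRightInverse_comp_apply _ _ _ _ x] at h1
      rw [MonoidHom.comp_apply, MonoidHom.comp_apply, hmk] at h1
      exact h1⟩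
    have hd : ∀ x y, d (x * y) = d x * d y := fun x y => by
      refine Subtype.ext ?_
      show (ρ (σ (x * y)))⁻¹ * R (x * y) = (ρ (σ x))⁻¹ * R x * ((ρ (σ y))⁻¹ * R y)
      rw [map_mul σ, map_mul ρ, map_mul R, mul_inv_rev, ← mul_assoc ((ρ (σ x))⁻¹ * R x),
        ← Subgroup.mem_center_iff.1 (d x).2 (ρ (σ y))⁻¹]
      simp only [d, mul_assoc]
    haveI : IsMulCommutative (Subgroup.center (GL (Fin N) ℂ)) := inferInstance
    have hcomm : commutator Γ ≤ (MonoidHom.mk' d hd).ker := by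
      rw [commutator_def, Subgroup.commutator_le]
      intro x _ y _
      rw [MonoidHom.mem_ker, map_commutatorElement, commutatorElement_eq_one_iff_mul_comm]
      exact mul_comm' _ _
    have h1 := congrArg Subtype.val (MonoidHom.mem_ker.1 (hcomm (hσ.2.2 a.2)))
    change (ρ (σ (a : Γ)))⁻¹ * R (a : Γ) = 1 at h1
    rw [MonoidHom.mem_ker.1 a.2, map_one, inv_one, one_mul, hR a] at h1
    refine hc (Units.ext ?_)
    have h2 := congrArg (fun g : GL (Fin N) ℂ => (g : Matrix (Fin N) (Fin N) ℂ) ⟨0, hN0⟩ ⟨0, hN0⟩) h1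
    simpa [Matrix.GeneralLinearGroup.scalar] using h2

end Cfsg.Agent.S3978
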