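import Cfsg.Statements.S3979
import Cfsg.Agent.Lib.StructB.MetacyclicBound

set_option autoImplicit false
open Cfsg

namespace Cfsg.Agent.S3979

/-- A finite cyclic group has trivial Schur multiplier: every finite stem extension of it is an isomorphism, said through `HasCyclicSchurMultiplier G 1`. -/
theorem result {G : Type*} [Group G] [Finite G] [IsCyclic G] : Cfsg.HasCyclicSchurMultiplier G 1 := by
  obtain ⟨g, hg⟩ := IsCyclic.exists_generator (α := G)
  refine CfsgLib.StructB.hasCyclicSchurMultiplier_one_of_bound fun Γ _ _ σ hσ => ?_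
  have h := CfsgLib.StructB.stem_metacyclic hσ 1 g
    (eq_top_iff.2 fun x _ => Subgroup.closure_mono (Set.subset_insert _ _)
      ((Subgroup.zpowers_eq_closure g) ▸ hg x))
    1 (Nat.card G) 1 0 le_rfl orderOf_one (by simp) (by simp [pow_card_eq_one'])
  simpa using h

end Cfsg.Agent.S3979
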