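import Cfsg.Statements.S3980
import Cfsg.Agent.Lib.StructB.StemOfCentral

set_option autoImplicit false
universe u v w
open Cfsg
open scoped commutatorElement

namespace Cfsg.Agent.S3980

theorem pow_card_abelianization {R M : Type*} [Group R] [Finite R] [CommGroup M] (d : R →* M) (r : R) :
    d r ^ Nat.card (Abelianization R) = 1 := by
  have : Finite (Abelianization R) := Finite.of_surjective _ QuotientGroup.mk_surjective
  rw [← Abelianization.lift_apply_of d r, ← map_pow, pow_card_eq_one', map_one]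

/-- Elements over complementary factors with coprime abelianizations commute. -/
theorem commute_of_coprime {Γ : Type*} [Group Γ] {Q₁ Q₂ : Type*} [Group Q₁] [Group Q₂] [Finite Q₁] [Finite Q₂]
    (σ : Γ →* Q₁ × Q₂) (hsurj : Function.Surjective σ) (hcen : σ.ker ≤ Subgroup.center Γ)
    (hcop : Nat.Coprime (Nat.card (Abelianization Q₁)) (Nat.card (Abelianization Q₂)))
    (x y : Γ) (hx : (σ x).2 = 1) (hy : (σ y).1 = 1) : x * y = y * x := by
  rw [← commutatorElement_eq_one_iff_mul_comm]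
  have hker : ∀ u v : Γ, (σ u).2 = 1 → (σ v).1 = 1 → ⁅u, v⁆ ∈ σ.ker := fun u v hu hv => by
    rw [MonoidHom.mem_ker, map_commutatorElement, commutatorElement_def]
    ext <;> simp [hu, hv]
  have hc : ∀ c ∈ σ.ker, ∀ g : Γ, g * c = c * g := fun c hc g => Subgroup.mem_center_iff.1 (hcen hc) g
  letI : CommGroup σ.ker := { (inferInstance : Group σ.ker) with
    mul_comm := fun a b => Subtype.ext (hc b b.2 a) }
  have h1 : ⁅x, y⁆ ^ Nat.card (Abelianization Q₁) = 1 := by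
    let c : Q₁ → σ.ker := fun q => ⟨⁅Function.surjInv hsurj (q, 1), y⁆, hker _ _ (by rw [Function.surjInv_eq hsurj]) hy⟩
    have hwd : ∀ u : Γ, (σ u).2 = 1 → (c (σ u).1 : Γ) = ⁅u, y⁆ := by
      intro u hu
      set u0 := Function.surjInv hsurj ((σ u).1, 1) with hu0
      have he : u * u0⁻¹ ∈ σ.ker := by
        rw [MonoidHom.mem_ker, map_mul, map_inv, hu0, Function.surjInv_eq hsurj]
        ext <;> simp [hu]
      show ⁅u0, y⁆ = ⁅u, y⁆
      conv_rhs => rw [show u = (u * u0⁻¹) * u0 by group]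
      rw [commutatorElement_def, commutatorElement_def, mul_inv_rev]
      rw [show (u * u0⁻¹) * u0 * y * (u0⁻¹ * (u * u0⁻¹)⁻¹) * y⁻¹ =
        (u * u0⁻¹) * (u0 * y * u0⁻¹) * (u * u0⁻¹)⁻¹ * y⁻¹ by group,
        ← hc _ he (u0 * y * u0⁻¹), mul_inv_cancel_right]
    let d : Q₁ →* σ.ker := MonoidHom.mk' c (fun q q' => Subtype.ext (by
      set u := Function.surjInv hsurj (q, (1 : Q₂)) with hu
      set v := Function.surjInv hsurj (q', (1 : Q₂)) with hv
      have hu2 : σ u = (q, 1) := Function.surjInv_eq hsurj _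
      have hv2 : σ v = (q', 1) := Function.surjInv_eq hsurj _
      have huv : (σ (u * v)).2 = 1 := by simp [hu2, hv2]
      have huv1 : (σ (u * v)).1 = q * q' := by simp [hu2, hv2]
      rw [show (c (q * q') : Γ) = ⁅u * v, y⁆ by rw [← huv1]; exact hwd _ huv]
      show ⁅u * v, y⁆ = ⁅u, y⁆ * ⁅v, y⁆
      have hk := hker v y (by simp [hv2]) hy
      rw [show ⁅u * v, y⁆ = u * ⁅v, y⁆ * u⁻¹ * ⁅u, y⁆ by simp only [commutatorElement_def]; group,
        hc _ hk u, mul_inv_cancel_right]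
      exact (hc _ hk _).symm))
    have := congrArg Subtype.val (pow_card_abelianization d (σ x).1)
    rw [show ((d (σ x).1 ^ Nat.card (Abelianization Q₁) : σ.ker) : Γ) = (c (σ x).1 : Γ) ^ Nat.card (Abelianization Q₁)
      from rfl, hwd x hx] at this
    exact this
  have h2 : ⁅x, y⁆ ^ Nat.card (Abelianization Q₂) = 1 := by
    let c : Q₂ → σ.ker := fun q => ⟨⁅x, Function.surjInv hsurj (1, q)⁆, hker _ _ hx (by rw [Function.surjInv_eq hsurj])⟩
    have hwd : ∀ u : Γ, (σ u).1 = 1 → (c (σ u).2 : Γ) = ⁅x, u⁆ := by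
      intro u hu
      set u0 := Function.surjInv hsurj (1, (σ u).2) with hu0
      have he : u0⁻¹ * u ∈ σ.ker := by
        rw [MonoidHom.mem_ker, map_mul, map_inv, hu0, Function.surjInv_eq hsurj]
        ext <;> simp [hu]
      show ⁅x, u0⁆ = ⁅x, u⁆
      conv_rhs => rw [show u = u0 * (u0⁻¹ * u) by group]
      rw [commutatorElement_def, commutatorElement_def, mul_inv_rev]
      rw [show x * (u0 * (u0⁻¹ * u)) * x⁻¹ * ((u0⁻¹ * u)⁻¹ * u0⁻¹) =
        x * u0 * ((u0⁻¹ * u) * x⁻¹ * (u0⁻¹ * u)⁻¹) * u0⁻¹ by group,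
        ← hc _ he x⁻¹, mul_inv_cancel_right]
    let d : Q₂ →* σ.ker := MonoidHom.mk' c (fun q q' => Subtype.ext (by
      set u := Function.surjInv hsurj ((1 : Q₁), q) with hu
      set v := Function.surjInv hsurj ((1 : Q₁), q') with hv
      have hu2 : σ u = (1, q) := Function.surjInv_eq hsurj _
      have hv2 : σ v = (1, q') := Function.surjInv_eq hsurj _
      have huv : (σ (u * v)).1 = 1 := by simp [hu2, hv2]
      have huv1 : (σ (u * v)).2 = q * q' := by simp [hu2, hv2]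
      rw [show (c (q * q') : Γ) = ⁅x, u * v⁆ by rw [← huv1]; exact hwd _ huv]
      show ⁅x, u * v⁆ = ⁅x, u⁆ * ⁅x, v⁆
      have hk := hker x v hx (by simp [hv2])
      rw [show ⁅x, u * v⁆ = ⁅x, u⁆ * (u * ⁅x, v⁆ * u⁻¹) by simp only [commutatorElement_def]; group,
        hc _ hk u, mul_inv_cancel_right]))
    have := congrArg Subtype.val (pow_card_abelianization d (σ y).2)
    rw [show ((d (σ y).2 ^ Nat.card (Abelianization Q₂) : σ.ker) : Γ) = (c (σ y).2 : Γ) ^ Nat.card (Abelianization Q₂)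
      from rfl, hwd y hy] at this
    exact this
  have := pow_gcd_eq_one.2 ⟨h1, h2⟩
  rwa [hcop.gcd_eq_one, pow_one] at this

/-- The multiplier maps onto the part of the central kernel in the derived subgroup. -/
theorem exists_onto.{u0, v0, w0} {E : Type v0} {Q : Type u0} [Group E] [Finite E] [Group Q] [Finite Q] {A : Type w0}
    [CommGroup A] (hA : Cfsg.HasSchurMultiplier Q A) (σ : E →* Q) (hsurj : Function.Surjective σ)
    (hcen : σ.ker ≤ Subgroup.center E) :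
    ∃ ψ : A →* σ.ker, ∀ z : σ.ker, (z : E) ∈ commutator E → z ∈ ψ.range := by
  obtain ⟨Γ, _, _, τ, hτ, π, hπ⟩ := CfsgLib.StructB.exists_stem_of_central σ hsurj hcen
  obtain ⟨ρ, hρ⟩ := hA.2 Γ τ hτ
  refine ⟨π.comp ρ, fun z hz => ?_⟩
  obtain ⟨k, hk⟩ := hπ z hz
  obtain ⟨a, rfl⟩ := hρ k
  exact ⟨a, hk⟩

/-- Let `Q₁` and `Q₂` be finite groups whose commutator quotients have coprime orders, with Schur multipliers `A` and `B`. Then the Schur multiplier of `Q₁ × Q₂` is isomorphic to `A × B`. -/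
theorem result {Q₁ : Type u} {Q₂ : Type v} [Group Q₁] [Group Q₂] [Finite Q₁] [Finite Q₂] {A B : Type w} [CommGroup A] [CommGroup B] (hA : Cfsg.HasSchurMultiplier Q₁ A) (hB : Cfsg.HasSchurMultiplier Q₂ B) (hcop : Nat.Coprime (Nat.card (Abelianization Q₁)) (Nat.card (Abelianization Q₂))) : Cfsg.HasSchurMultiplier (Q₁ × Q₂) (A × B) := by
  refine ⟨?_, ?_⟩
  · obtain ⟨Γ₁, _, _, σ₁, h₁, ⟨e₁⟩⟩ := hA.1
    obtain ⟨Γ₂, _, _, σ₂, h₂, ⟨e₂⟩⟩ := hB.1
    refine ⟨Γ₁ × Γ₂, inferInstance, inferInstance, σ₁.prodMap σ₂,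
      ⟨h₁.1.prodMap h₂.1, fun z hz => ?_, fun z hz => ?_⟩, ⟨?_⟩⟩
    · rw [MonoidHom.ker_prodMap, Subgroup.mem_prod] at hz
      refine Subgroup.mem_center_iff.2 fun g => Prod.ext ?_ ?_
      · exact Subgroup.mem_center_iff.1 (h₁.2.1 hz.1) g.1
      · exact Subgroup.mem_center_iff.1 (h₂.2.1 hz.2) g.2
    · rw [MonoidHom.ker_prodMap, Subgroup.mem_prod] at hz
      rw [commutator_def, ← Subgroup.top_prod_top, Subgroup.commutator_prod_prod, Subgroup.mem_prod]
      exact ⟨h₁.2.2 hz.1, h₂.2.2 hz.2⟩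
    · exact (MulEquiv.subgroupCongr (MonoidHom.ker_prodMap σ₁ σ₂)).trans
        ((Subgroup.prodEquiv _ _).trans (e₁.prodCongr e₂))
  · intro Γ _ _ σ hσ
    obtain ⟨hsurj, hcen, hcom⟩ := hσ
    let H₁ : Subgroup Γ := ((MonoidHom.snd Q₁ Q₂).comp σ).ker
    let H₂ : Subgroup Γ := ((MonoidHom.fst Q₁ Q₂).comp σ).ker
    let σ₁ : H₁ →* Q₁ := ((MonoidHom.fst Q₁ Q₂).comp σ).comp H₁.subtype
    let σ₂ : H₂ →* Q₂ := ((MonoidHom.snd Q₁ Q₂).comp σ).comp H₂.subtype
    have hs1 : Function.Surjective σ₁ := fun q => by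
      obtain ⟨g, hg⟩ := hsurj (q, 1)
      exact ⟨⟨g, show (σ g).2 = 1 by rw [hg]⟩, show (σ g).1 = q by rw [hg]⟩
    have hs2 : Function.Surjective σ₂ := fun q => by
      obtain ⟨g, hg⟩ := hsurj (1, q)
      exact ⟨⟨g, show (σ g).1 = 1 by rw [hg]⟩, show (σ g).2 = q by rw [hg]⟩
    have hk1 : ∀ g : H₁, g ∈ σ₁.ker → (g : Γ) ∈ σ.ker := fun g hg =>
      MonoidHom.mem_ker.2 (Prod.ext hg g.2)
    have hk2 : ∀ g : H₂, g ∈ σ₂.ker → (g : Γ) ∈ σ.ker := fun g hg =>
      MonoidHom.mem_ker.2 (Prod.ext g.2 hg)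
    obtain ⟨ψ₁, hψ₁⟩ := exists_onto hA σ₁ hs1 fun g hg => Subgroup.mem_center_iff.2 fun x =>
      Subtype.ext (Subgroup.mem_center_iff.1 (hcen (hk1 g hg)) x)
    obtain ⟨ψ₂, hψ₂⟩ := exists_onto hB σ₂ hs2 fun g hg => Subgroup.mem_center_iff.2 fun x =>
      Subtype.ext (Subgroup.mem_center_iff.1 (hcen (hk2 g hg)) x)
    letI : CommGroup σ.ker := { (inferInstance : Group σ.ker) with
      mul_comm := fun a b => Subtype.ext (Subgroup.mem_center_iff.1 (hcen b.2) a) }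
    let j₁ : A →* σ.ker := ((H₁.subtype.comp σ₁.ker.subtype).codRestrict σ.ker fun g => hk1 g g.2).comp ψ₁
    let j₂ : B →* σ.ker := ((H₂.subtype.comp σ₂.ker.subtype).codRestrict σ.ker fun g => hk2 g g.2).comp ψ₂
    refine ⟨MonoidHom.coprod j₁ j₂, fun z => ?_⟩
    -- the derived group
    have hcomm : ∀ x ∈ H₁, ∀ y ∈ H₂, x * y = y * x := fun x hx y hy => commute_of_coprime σ hsurj hcen hcop x y hx hy
    let μ : H₁ × H₂ →* Γ := MonoidHom.noncommCoprod H₁.subtype H₂.subtype fun x y => hcomm x x.2 y y.2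
    have hμ : ∀ g : Γ, ∃ w, ∃ c ∈ Subgroup.center Γ, g = μ w * c := by
      intro g
      obtain ⟨x, hx⟩ := hsurj ((σ g).1, 1)
      have hx' : x ∈ H₁ := show (σ x).2 = 1 by rw [hx]
      have hy : x⁻¹ * g ∈ H₂ := show (σ (x⁻¹ * g)).1 = 1 by rw [map_mul, map_inv, hx]; simp
      refine ⟨(⟨x, hx'⟩, ⟨_, hy⟩), 1, one_mem _, ?_⟩
      show g = x * (x⁻¹ * g) * 1
      group
    obtain ⟨⟨a, b⟩, hab, habz⟩ := CfsgLib.StructB.commutator_le_map_of_central μ hμ (hcom z.2)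
    have hab' : a ∈ commutator H₁ ∧ b ∈ commutator H₂ := by
      rw [SetLike.mem_coe, commutator_def, ← Subgroup.top_prod_top, Subgroup.commutator_prod_prod, Subgroup.mem_prod] at hab
      exact hab
    have hz : (a : Γ) * b = z := habz
    have hσz : σ (a : Γ) * σ (b : Γ) = 1 := by rw [← map_mul, hz]; exact z.2
    have ha1 : a ∈ σ₁.ker := by
      show (σ (a : Γ)).1 = 1
      have := congrArg Prod.fst hσz
      rwa [Prod.fst_mul, show (σ (b : Γ)).1 = 1 from b.2, mul_one] at this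
    have hb1 : b ∈ σ₂.ker := by
      show (σ (b : Γ)).2 = 1
      have := congrArg Prod.snd hσz
      rwa [Prod.snd_mul, show (σ (a : Γ)).2 = 1 from a.2, one_mul] at this
    obtain ⟨a', ha'⟩ := hψ₁ ⟨a, ha1⟩ hab'.1
    obtain ⟨b', hb'⟩ := hψ₂ ⟨b, hb1⟩ hab'.2
    refine ⟨(a', b'), Subtype.ext ?_⟩
    show ((ψ₁ a' : H₁) : Γ) * ((ψ₂ b' : H₂) : Γ) = z
    rw [ha', hb']
    exact hz

end Cfsg.Agent.S3980
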