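import Cfsg.Statements.S3981
import Mathlib

set_option autoImplicit false
open Cfsg
open scoped Pointwise

namespace Cfsg.Agent.S3981

/-- Let p be an odd prime, Q a p-subgroup of the finite group G and y an involution normalizing Q. Then Q is maximal among the p-subgroups of G normalized by y if and only if the image of y in N_G(Q) ⧸ Q neither inverts nor centralizes any element of order p there; the latter is phrased inside N_G(Q): for every x in N_G(Q) outside Q with x ^ p ∈ Q, neither y x y⁻¹ x nor y x y⁻¹ x⁻¹ lies in Q. -/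
theorem result {G : Type*} [Group G] [Finite G] (p : ℕ) [Fact p.Prime] (hp2 : p ≠ 2) (Q : Subgroup G) (hQ : IsPGroup p ↥Q) (y : G) (hy : orderOf y = 2) (hyQ : y ∈ Subgroup.normalizer (Q : Set G)) : (∀ R : Subgroup G, IsPGroup p ↥R → Q ≤ R → y ∈ Subgroup.normalizer (R : Set G) → R = Q) ↔ ∀ x : G, x ∈ Subgroup.normalizer (Q : Set G) → x ∉ Q → x ^ p ∈ Q → (y * x * y⁻¹ * x ∉ Q ∧ y * x * y⁻¹ * x⁻¹ ∉ Q) := by
  classical
  have hp : p.Prime := Fact.out
  have hyy : y * y = 1 := by rw [← pow_two, ← hy, pow_orderOf_eq_one]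
  have hyi : y⁻¹ = y := inv_eq_of_mul_eq_one_right hyy
  constructor
  · intro hmax x hxN hxQ hxp
    set N := Subgroup.normalizer (Q : Set G) with hNdef
    -- the p-group generated by `Q` and `x`
    have hR : IsPGroup p (Subgroup.zpowers x ⊔ Q : Subgroup G) := by
      obtain ⟨k, hk⟩ := IsPGroup.iff_card.1 hQ
      obtain ⟨j, hj⟩ := IsPGroup.iff_orderOf.1 hQ ⟨_, hxp⟩
      have hxz : IsPGroup p (Subgroup.zpowers x) := by
        obtain ⟨i, -, hi⟩ := (Nat.dvd_prime_pow hp).1 (show orderOf x ∣ p ^ (j + 1) by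
          rw [orderOf_dvd_iff_pow_eq_one, pow_succ', pow_mul]
          rw [Subgroup.orderOf_mk] at hj
          rw [← hj, pow_orderOf_eq_one])
        exact IsPGroup.of_card (n := i) (by rw [Nat.card_zpowers, hi])
      exact hxz.to_sup_of_normal_right' hQ (Subgroup.zpowers_le.2 hxN)
    have hkey : ∀ e : G, (e = x ∨ e = x⁻¹) → y * x * y⁻¹ * e⁻¹ ∈ Q → False := by
      intro e he hin
      have heR : e ∈ Subgroup.zpowers x ⊔ Q := by
        rcases he with rfl | rfl
        · exact Subgroup.mem_sup_left (Subgroup.mem_zpowers _)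
        · exact Subgroup.mem_sup_left (inv_mem (Subgroup.mem_zpowers _))
      have hyx : y * x * y⁻¹ ∈ Subgroup.zpowers x ⊔ Q := by
        have := mul_mem (Subgroup.mem_sup_right hin : _ ∈ Subgroup.zpowers x ⊔ Q) heR
        rwa [inv_mul_cancel_right] at this
      have hle : (Subgroup.zpowers x ⊔ Q).map (MulAut.conj y).toMonoidHom ≤ Subgroup.zpowers x ⊔ Q := by
        rw [Subgroup.map_sup, MonoidHom.map_zpowers]
        refine sup_le (Subgroup.zpowers_le.2 hyx) ?_
        rintro z ⟨q, hq, rfl⟩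
        exact Subgroup.mem_sup_right ((Subgroup.mem_normalizer_iff.1 hyQ q).1 hq)
      have hyR : y ∈ Subgroup.normalizer ((Subgroup.zpowers x ⊔ Q : Subgroup G) : Set G) := by
        rw [Subgroup.mem_normalizer_iff]
        intro z
        refine ⟨fun hz => hle ⟨z, hz, rfl⟩, fun hz => ?_⟩
        have := hle ⟨_, hz, rfl⟩
        rw [MulEquiv.coe_toMonoidHom, MulAut.conj_apply, hyi, show y * (y * z * y) * y = y * y * z * (y * y) by group,
          hyy, one_mul, mul_one] at this
        exact this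
      refine hxQ ?_
      rw [← hmax _ hR le_sup_right hyR]
      exact Subgroup.mem_sup_left (Subgroup.mem_zpowers x)
    exact ⟨fun h => hkey x⁻¹ (Or.inr rfl) (by rwa [inv_inv]), fun h => hkey x (Or.inl rfl) h⟩
  · intro hcond R hR hQR hyR
    by_contra hne
    set N := Subgroup.normalizer (Q : Set G) with hNdef
    set M := R ⊓ N with hMdef
    have hQM : Q ≤ M := le_inf hQR Subgroup.le_normalizer
    have hMne : M ≠ Q := by
      intro hMQ
      have hnc : NormalizerCondition R := by
        have := IsPGroup.isNilpotent hR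
        exact normalizerCondition_of_isNilpotent
      have hlt : Q.subgroupOf R < ⊤ := by
        rw [lt_top_iff_ne_top, ne_eq, Subgroup.subgroupOf_eq_top]
        exact fun h => hne (le_antisymm h hQR)
      obtain ⟨r, hr, hrQ⟩ := SetLike.exists_of_lt (hnc _ hlt)
      refine hrQ (Subgroup.mem_subgroupOf.2 (hMQ.le (Subgroup.mem_inf.2 ⟨r.2, ?_⟩)))
      rw [hNdef, Subgroup.mem_normalizer_iff]
      intro q
      constructor
      · intro hq
        have := (Subgroup.mem_normalizer_iff.1 hr ⟨q, hQR hq⟩).1 (Subgroup.mem_subgroupOf.2 hq)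
        exact Subgroup.mem_subgroupOf.1 this
      · intro hq
        have hqR : q ∈ R := by
          have := R.mul_mem (R.mul_mem (R.inv_mem r.2) (hQR hq)) r.2
          simpa [mul_assoc] using this
        exact Subgroup.mem_subgroupOf.1 ((Subgroup.mem_normalizer_iff.1 hr ⟨q, hqR⟩).2 (Subgroup.mem_subgroupOf.2 hq))
    haveI : (Q.subgroupOf M).Normal := (Subgroup.normal_subgroupOf_iff_le_normalizer hQM).2 inf_le_right
    have hMp : IsPGroup p M := hR.to_le inf_le_left
    haveI : Nontrivial (M ⧸ Q.subgroupOf M) := by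
      rw [QuotientGroup.nontrivial_iff]
      rw [ne_eq, Subgroup.subgroupOf_eq_top]
      exact fun h => hMne (le_antisymm h hQM)
    have hqp : IsPGroup p (M ⧸ Q.subgroupOf M) := hMp.to_quotient _
    have : Nontrivial (Subgroup.center (M ⧸ Q.subgroupOf M)) := hqp.center_nontrivial
    obtain ⟨⟨xb, hxb⟩, hxo⟩ := exists_prime_orderOf_dvd_card' (G := Subgroup.center (M ⧸ Q.subgroupOf M)) p (by
      obtain ⟨k, hk0, hk⟩ := (hqp.to_subgroup _).nontrivial_iff_card.1 this
      rw [hk]; exact dvd_pow_self p hk0.ne')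
    rw [Subgroup.orderOf_mk] at hxo
    obtain ⟨⟨x, hxM⟩, rfl⟩ := QuotientGroup.mk_surjective xb
    have hyM : ∀ m ∈ M, y * m * y⁻¹ ∈ M := fun m hm =>
      Subgroup.mem_inf.2 ⟨(Subgroup.mem_normalizer_iff.1 hyR m).1 hm.1, N.mul_mem (N.mul_mem hyQ hm.2) (N.inv_mem hyQ)⟩
    set u : M := ⟨y * x * y⁻¹, hyM x hxM⟩ with hu
    set mk : M →* M ⧸ Q.subgroupOf M := QuotientGroup.mk' (Q.subgroupOf M) with hmk
    have hmem : ∀ m : M, mk m = 1 ↔ (m : G) ∈ Q := fun m =>
      (QuotientGroup.eq_one_iff m).trans Subgroup.mem_subgroupOf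
    set X : M := ⟨x, hxM⟩ with hX
    have hXp : mk X ^ p = 1 := by
      rw [← hxo]; exact pow_orderOf_eq_one _
    have hX1 : mk X ≠ 1 := fun h => by
      rw [show (QuotientGroup.mk X : M ⧸ Q.subgroupOf M) = mk X from rfl, h, orderOf_one] at hxo
      exact hp.one_lt.ne hxo
    have hcomm : mk u * mk X = mk X * mk u := Subgroup.mem_center_iff.1 hxb (mk u)
    have hxN : x ∈ N := hxM.2
    by_cases hux : (y * x * y⁻¹ * x : G) ∈ Q
    · exact (hcond x hxN (fun h => hX1 ((hmem X).2 h)) (by
        have := (hmem (X ^ p)).1 (by rw [map_pow, hXp])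
        simpa using this)).1 hux
    · set W : M := u * X with hW
      have hW1 : (W : G) ∉ Q := hux
      have hup : mk u ^ p = 1 := by
        rw [← map_pow, hmem]
        have h1 : x ^ p ∈ Q := by
          have := (hmem (X ^ p)).1 (by rw [map_pow, hXp])
          simpa using this
        show ((u : G)) ^ p ∈ Q
        rw [hu, conj_pow]
        exact (Subgroup.mem_normalizer_iff.1 hyQ _).1 h1
      have hWp : (W : G) ^ p ∈ Q := by
        have := (hmem (W ^ p)).1 (by rw [map_pow, hW, map_mul, (show Commute (mk u) (mk X) from hcomm).mul_pow, hup, hXp, one_mul])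
        simpa using this
      refine (hcond (W : G) W.2.2 hW1 hWp).2 ?_
      have he : y * (W : G) * y⁻¹ * (W : G)⁻¹ = ((X * u * W⁻¹ : M) : G) := by
        show y * (y * x * y⁻¹ * x) * y⁻¹ * (W : G)⁻¹ = x * (y * x * y⁻¹) * (W : G)⁻¹
        rw [hyi, show y * (y * x * y * x) * y = y * y * x * (y * x * y) by group, hyy, one_mul]
      rw [he, ← hmem, map_mul, map_mul, map_inv, hW, map_mul, hcomm, mul_inv_cancel]

end Cfsg.Agent.S3981
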