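import Cfsg.Statements.S3982
import Mathlib

set_option autoImplicit false
open Cfsg
open scoped Pointwise

namespace Cfsg.Agent.S3982

/-- Let p be an odd prime and G a finite group of even order divisible by p in which the centralizer of every non-identity p-element has odd order. If some nontrivial p-subgroup of G has a normalizer of even order, then the normalizer of every Sylow p-subgroup of G has even order. -/
theorem result {G : Type*} [Group G] [Finite G] (p : ℕ) [Fact p.Prime] (hp2 : p ≠ 2) (hpG : p ∣ Nat.card G) (h2G : 2 ∣ Nat.card G) (hC : ∀ g : G, g ≠ 1 → (∃ k : ℕ, orderOf g = p ^ k) → Odd (Nat.card ↥(Subgroup.centralizer ({g} : Set G)))) (Q : Subgroup G) (hQ : IsPGroup p ↥Q) (hQ1 : Q ≠ ⊥) (hev : Even (Nat.card ↥(Subgroup.normalizer (Q : Set G)))) (P : Sylow p G) : Even (Nat.card ↥(Subgroup.normalizer ((P : Subgroup G) : Set G))) := by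
  classical
  have hp : p.Prime := Fact.out
  haveI : Fact (Nat.Prime 2) := ⟨Nat.prime_two⟩
  -- a maximal p-subgroup with normalizer of even order
  obtain ⟨Q₀, -, hmax⟩ := Finite.exists_le_maximal (p := fun R : Subgroup G =>
    IsPGroup p R ∧ R ≠ ⊥ ∧ Even (Nat.card (Subgroup.normalizer (R : Set G)))) (a := Q) ⟨hQ, hQ1, hev⟩
  obtain ⟨hQ₀, hQ₀1, hQ₀e⟩ := hmax.1
  set M := Subgroup.normalizer (Q₀ : Set G) with hMdef
  obtain ⟨⟨y, hyM⟩, hy⟩ := exists_prime_orderOf_dvd_card' (G := M) 2 hQ₀e.two_dvd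
  rw [Subgroup.orderOf_mk] at hy
  have hfree : ∀ g : G, g ≠ 1 → (∃ k : ℕ, orderOf g = p ^ k) → ∀ s : G, orderOf s = 2 → s * g ≠ g * s := by
    intro g hg hgp s hs hsg
    have h1 : 2 ∣ Nat.card (Subgroup.centralizer ({g} : Set G)) := by
      rw [← hs]
      exact Subgroup.orderOf_dvd_natCard _ (Subgroup.mem_centralizer_singleton_iff.2 hsg)
    exact (Nat.not_even_iff_odd.2 (hC g hg hgp)) (even_iff_two_dvd.2 h1)
  have hQp : ∀ g ∈ Q₀, ∃ k : ℕ, orderOf g = p ^ k := fun g hg => by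
    obtain ⟨k, hk⟩ := IsPGroup.iff_orderOf.1 hQ₀ ⟨g, hg⟩
    exact ⟨k, by rwa [Subgroup.orderOf_mk] at hk⟩
  -- every involution of `M` inverts `Q₀`
  have hinv : ∀ s ∈ M, orderOf s = 2 → ∀ g ∈ Q₀, s * g * s⁻¹ = g⁻¹ := by
    intro s hsM hs g hg
    let φ : Q₀ →* Q₀ :=
      { toFun := fun g => ⟨s * g * s⁻¹, (Subgroup.mem_normalizer_iff.1 hsM g).1 g.2⟩
        map_one' := by ext; simp
        map_mul' := fun a b => by ext; simp }
    have hfix : MonoidHom.FixedPointFree φ := fun a ha => by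
      by_contra h1
      refine hfree a (fun e => h1 (Subtype.ext e)) (hQp a a.2) s hs ?_
      exact mul_inv_eq_iff_eq_mul.1 (congrArg Subtype.val ha)
    have hss : s * s = 1 := by rw [← pow_two, ← hs, pow_orderOf_eq_one]
    have h2 : Function.Involutive φ := fun a => by
      ext
      show s * (s * a * s⁻¹) * s⁻¹ = a
      rw [show s * (s * (a : G) * s⁻¹) * s⁻¹ = s * s * a * (s * s)⁻¹ by group, hss, inv_one, one_mul, mul_one]
    exact congrArg Subtype.val (congrFun (hfix.coe_eq_inv_of_involutive h2) ⟨g, hg⟩)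
  set Cq := M ⊓ Subgroup.centralizer (Q₀ : Set G) with hCq
  obtain ⟨⟨g0, hg0⟩, hg01⟩ : ∃ g : Q₀, g ≠ 1 := by
    haveI := (Subgroup.nontrivial_iff_ne_bot Q₀).2 hQ₀1
    exact exists_ne 1
  have hCodd : ¬ 2 ∣ Nat.card Cq := fun h2 => by
    obtain ⟨⟨s, hs⟩, hso⟩ := exists_prime_orderOf_dvd_card' (G := Cq) 2 h2
    rw [Subgroup.orderOf_mk] at hso
    exact hfree g0 (fun e => hg01 (Subtype.ext e)) (hQp g0 hg0) s hso
      (Subgroup.mem_centralizer_iff.1 hs.2 g0 hg0).symm
  -- `y` centralises `M` modulo `Cq`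
  have hyy : y * y = 1 := by rw [← pow_two, ← hy, pow_orderOf_eq_one]
  have hyi : y⁻¹ = y := inv_eq_of_mul_eq_one_right hyy
  have hcomm : ∀ m ∈ M, y * m * y⁻¹ * m⁻¹ ∈ Cq := by
    intro m hm
    refine Subgroup.mem_inf.2 ⟨M.mul_mem (M.mul_mem (M.mul_mem hyM hm) (M.inv_mem hyM)) (M.inv_mem hm),
      Subgroup.mem_centralizer_iff.2 fun g hg => ?_⟩
    have hg' : m⁻¹ * g * m ∈ Q₀ := by
      have := (Subgroup.mem_normalizer_iff.1 (M.inv_mem hm) g).1 hg
      simpa using this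
    have e1 : y * g * y⁻¹ = g⁻¹ := hinv y hyM hy g hg
    have e2 : y * (m⁻¹ * g * m) * y⁻¹ = (m⁻¹ * g * m)⁻¹ := hinv y hyM hy _ hg'
    have e3 : y * m * y⁻¹ * m⁻¹ * g = g * (y * m * y⁻¹ * m⁻¹) := by
      calc y * m * y⁻¹ * m⁻¹ * g = y * m * (y⁻¹ * (m⁻¹ * g * m)) * m⁻¹ := by group
        _ = y * m * ((y⁻¹ * (m⁻¹ * g * m) * y) * y⁻¹) * m⁻¹ := by group
        _ = y * m * ((m⁻¹ * g * m)⁻¹ * y⁻¹) * m⁻¹ := by
            have e4 : y⁻¹ * (m⁻¹ * g * m) * y = (m⁻¹ * g * m)⁻¹ := by rw [hyi]; rwa [hyi] at e2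
            rw [e4]
        _ = y * g⁻¹ * (m * y⁻¹ * m⁻¹) := by group
        _ = y * g⁻¹ * y⁻¹ * (y * m * y⁻¹ * m⁻¹) := by group
        _ = g * (y * m * y⁻¹ * m⁻¹) := by
            rw [show y * g⁻¹ * y⁻¹ = (y * g * y⁻¹)⁻¹ by group, e1, inv_inv]
    exact e3.symm
  -- every p-element of `M` centralises `Q₀`
  have hin : ∀ x ∈ M, (∃ k : ℕ, orderOf x = p ^ k) → x ∈ Cq := by
    intro x hx hxp
    haveI hn : (Cq.subgroupOf M).Normal := ⟨fun c hc m => by
      rw [Subgroup.mem_subgroupOf] at hc ⊢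
      refine Subgroup.mem_inf.2 ⟨(m * c * m⁻¹ : M).2, Subgroup.mem_centralizer_iff.2 fun g hg => ?_⟩
      have hg' : (m : G)⁻¹ * g * m ∈ Q₀ := by
        have := (Subgroup.mem_normalizer_iff.1 (M.inv_mem m.2) g).1 hg
        simpa using this
      have := Subgroup.mem_centralizer_iff.1 hc.2 _ hg'
      show g * ((m : G) * c * (m : G)⁻¹) = (m : G) * c * (m : G)⁻¹ * g
      calc g * ((m : G) * c * (m : G)⁻¹) = m * ((m : G)⁻¹ * g * m * c) * (m : G)⁻¹ := by group
        _ = m * (c * ((m : G)⁻¹ * g * m)) * (m : G)⁻¹ := by rw [this]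
        _ = (m : G) * c * (m : G)⁻¹ * g := by group⟩
    -- a coset of `Cq` fixed by `y` contains an element commuting with `y`
    set X : M := ⟨x, hx⟩
    set Y : M := ⟨y, hyM⟩
    by_contra hxC
    set S := (Subgroup.zpowers y : Subgroup G)
    have hz : ∃ c ∈ Cq, y * (x * c) = x * c * y := by
      have hd : x⁻¹ * (y * x * y⁻¹) ∈ Cq := by
        have h1 := hcomm x hx
        have h2 := hn.conj_mem ⟨_, M.mul_mem (M.mul_mem (M.mul_mem hyM hx) (M.inv_mem hyM)) (M.inv_mem hx)⟩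
          (Subgroup.mem_subgroupOf.2 h1) (X⁻¹)
        rw [Subgroup.mem_subgroupOf] at h2
        simpa [X, mul_assoc] using h2
      set d := x⁻¹ * (y * x * y⁻¹) with hd'
      have hdinv : y * d * y⁻¹ = d⁻¹ := by
        rw [hd', mul_inv_rev, inv_inv, mul_inv_rev, mul_inv_rev, inv_inv, hyi,
          show y * (x⁻¹ * (y * x * y)) * y = y * x⁻¹ * y * x * (y * y) by group, hyy, mul_one]
        group
      obtain ⟨r, hr⟩ : ∃ r, orderOf d = 2 * r + 1 := by
        have h1 : ¬ 2 ∣ orderOf d := fun h => hCodd (h.trans (Subgroup.orderOf_dvd_natCard _ hd))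
        exact ⟨orderOf d / 2, by omega⟩
      refine ⟨d ^ (r + 1), pow_mem hd _, ?_⟩
      refine mul_inv_eq_iff_eq_mul.1 ?_
      calc y * (x * d ^ (r + 1)) * y⁻¹ = x * (x⁻¹ * (y * x * y⁻¹)) * (y * d ^ (r + 1) * y⁻¹) := by group
        _ = x * d * (d⁻¹) ^ (r + 1) := by rw [← hd', ← conj_pow, hdinv]
        _ = x * (d ^ (r + 1) * (d ^ (2 * r + 1))⁻¹) := by
            rw [inv_pow, mul_assoc]; congr 1; group
        _ = x * d ^ (r + 1) := by rw [← hr, pow_orderOf_eq_one d, inv_one, mul_one]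
    obtain ⟨c, hc, hcy⟩ := hz
    -- the p-part of `x * c` is trivial
    obtain ⟨k, hk⟩ := hxp
    have hoc : Nat.Coprime (orderOf (x * c)) p := by
      rw [Nat.coprime_comm, hp.coprime_iff_not_dvd]
      intro hdvd
      have hsp : orderOf ((x * c) ^ (orderOf (x * c) / p)) = p := by
        exact orderOf_pow_orderOf_div (orderOf_pos _).ne' hdvd
      refine hfree ((x * c) ^ (orderOf (x * c) / p)) (fun e => by rw [e, orderOf_one] at hsp; exact hp.one_lt.ne hsp) ⟨1, by rw [hsp, pow_one]⟩ y hy ?_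
      exact (show Commute y ((x * c) ^ (orderOf (x * c) / p)) from Commute.pow_right hcy _).eq
    have h1 : (QuotientGroup.mk' (Cq.subgroupOf M)) X = QuotientGroup.mk' (Cq.subgroupOf M) (X * ⟨c, hc.1⟩) := by
      rw [map_mul, show QuotientGroup.mk' (Cq.subgroupOf M) ⟨c, hc.1⟩ = 1 from
        (QuotientGroup.eq_one_iff _).2 (Subgroup.mem_subgroupOf.2 hc), mul_one]
    have ho : orderOf (QuotientGroup.mk' (Cq.subgroupOf M) X) = 1 := by
      refine Nat.eq_one_of_dvd_coprimes (hoc.pow_right k) ?_ ?_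
      · rw [h1]
        refine (orderOf_map_dvd _ _).trans ?_
        rw [← Subgroup.orderOf_coe]; rfl
      · refine (orderOf_map_dvd _ _).trans ?_
        rw [← Subgroup.orderOf_coe, show ((X : M) : G) = x from rfl, hk]
    exact hxC (Subgroup.mem_subgroupOf.1 ((QuotientGroup.eq_one_iff _).1 (orderOf_eq_one_iff.1 ho)))
  -- a Sylow subgroup of `M`
  let R : Sylow p M := default
  obtain ⟨R', hR'⟩ : ∃ R' : Subgroup G, R' = (R : Subgroup M).map M.subtype := ⟨_, rfl⟩
  have hR'p : IsPGroup p R' := hR' ▸ R.isPGroup'.map _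
  have hQR : Q₀ ≤ R' := by
    haveI : (Q₀.subgroupOf M).Normal := Subgroup.normal_in_normalizer
    have hle : Q₀.subgroupOf M ≤ (R : Subgroup M) := by
      refine IsPGroup.le_sylow_of_normal (IsPGroup.of_equiv hQ₀ (Subgroup.subgroupOfEquivOfLe Subgroup.le_normalizer).symm) R
    intro g hg
    rw [hR']
    exact ⟨⟨g, Subgroup.le_normalizer hg⟩, hle (Subgroup.mem_subgroupOf.2 hg), rfl⟩
  have hR'even : Even (Nat.card (Subgroup.normalizer (R' : Set G))) := by
    haveI hn : (Cq.subgroupOf M).Normal := ⟨fun c hc m => by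
      rw [Subgroup.mem_subgroupOf] at hc ⊢
      refine Subgroup.mem_inf.2 ⟨(m * c * m⁻¹ : M).2, Subgroup.mem_centralizer_iff.2 fun g hg => ?_⟩
      have hg' : (m : G)⁻¹ * g * m ∈ Q₀ := by
        have := (Subgroup.mem_normalizer_iff.1 (M.inv_mem m.2) g).1 hg
        simpa using this
      have := Subgroup.mem_centralizer_iff.1 hc.2 _ hg'
      show g * ((m : G) * c * (m : G)⁻¹) = (m : G) * c * (m : G)⁻¹ * g
      calc g * ((m : G) * c * (m : G)⁻¹) = m * ((m : G)⁻¹ * g * m * c) * (m : G)⁻¹ := by group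
        _ = m * (c * ((m : G)⁻¹ * g * m)) * (m : G)⁻¹ := by rw [this]
        _ = (m : G) * c * (m : G)⁻¹ * g := by group⟩
    have hRC : (R : Subgroup M) ≤ Cq.subgroupOf M := fun r hr => by
      obtain ⟨k, hk⟩ := IsPGroup.iff_orderOf.1 R.isPGroup' ⟨r, hr⟩
      rw [Subgroup.orderOf_mk] at hk
      exact Subgroup.mem_subgroupOf.2 (hin r r.2 ⟨k, by rw [Subgroup.orderOf_coe, hk]⟩)
    have htop := Sylow.normalizer_sup_eq_top' R hRC
    obtain ⟨a, ha, c, hc, hac⟩ := Subgroup.mem_sup_of_normal_right.1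
      (htop ▸ Subgroup.mem_top (⟨y, hyM⟩ : M) : (⟨y, hyM⟩ : M) ∈ _)
    have haeven : 2 ∣ orderOf a := by
      by_contra h2
      have hcop : Nat.Coprime (orderOf a) 2 := by rw [Nat.coprime_comm, Nat.prime_two.coprime_iff_not_dvd]; exact h2
      have h1 : QuotientGroup.mk' (Cq.subgroupOf M) a = QuotientGroup.mk' (Cq.subgroupOf M) ⟨y, hyM⟩ := by
        rw [← hac, map_mul, show QuotientGroup.mk' (Cq.subgroupOf M) c = 1 from (QuotientGroup.eq_one_iff _).2 hc, mul_one]
      have ho : orderOf (QuotientGroup.mk' (Cq.subgroupOf M) ⟨y, hyM⟩) = 1 := by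
        refine Nat.eq_one_of_dvd_coprimes hcop (h1 ▸ orderOf_map_dvd _ _) ((orderOf_map_dvd _ _).trans ?_)
        rw [Subgroup.orderOf_mk, hy]
      have hyC := Subgroup.mem_subgroupOf.1 ((QuotientGroup.eq_one_iff _).1 (orderOf_eq_one_iff.1 ho))
      exact hCodd (hy ▸ Subgroup.orderOf_dvd_natCard _ hyC)
    have haN : (a : G) ∈ Subgroup.normalizer (R' : Set G) := by
      rw [Subgroup.mem_normalizer_iff]
      intro g
      constructor
      · intro hg
        rw [hR'] at hg ⊢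
        obtain ⟨r, hr, rfl⟩ := hg
        exact ⟨a * r * a⁻¹, (Subgroup.mem_normalizer_iff.1 ha r).1 hr, rfl⟩
      · intro hg
        rw [hR'] at hg ⊢
        obtain ⟨r, hr, hrg⟩ := hg
        have hr2 : (r : G) = a * g * (a : G)⁻¹ := hrg
        exact ⟨a⁻¹ * r * a, by
          have := (Subgroup.mem_normalizer_iff.1 (Subgroup.inv_mem _ ha) r).1 hr
          rw [inv_inv] at this
          exact this,
          by show (a : G)⁻¹ * r * a = g; rw [hr2]; group⟩
    rw [← Subgroup.orderOf_coe] at haeven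
    exact even_iff_two_dvd.2 (haeven.trans (Subgroup.orderOf_dvd_natCard _ haN))
  have hR'Q : R' = Q₀ := le_antisymm (hmax.2 ⟨hR'p, ne_bot_of_le_ne_bot hQ₀1 hQR, hR'even⟩ hQR) hQR
  -- hence `Q₀` is a Sylow subgroup of `G`
  obtain ⟨P₀, hP₀⟩ := hQ₀.exists_le_sylow
  have hQP : Q₀ = (P₀ : Subgroup G) := by
    by_contra hne
    have hnc : NormalizerCondition (P₀ : Subgroup G) := by
      have := IsPGroup.isNilpotent P₀.isPGroup'
      exact normalizerCondition_of_isNilpotent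
    have hlt : Q₀.subgroupOf P₀ < ⊤ := by
      rw [lt_top_iff_ne_top, ne_eq, Subgroup.subgroupOf_eq_top]
      exact fun h => hne (le_antisymm hP₀ h)
    obtain ⟨r, hr, hrQ⟩ := SetLike.exists_of_lt (hnc _ hlt)
    have hrM : (r : G) ∈ M := by
      rw [hMdef, Subgroup.mem_normalizer_iff]
      intro q
      constructor
      · intro hq
        exact Subgroup.mem_subgroupOf.1 ((Subgroup.mem_normalizer_iff.1 hr ⟨q, hP₀ hq⟩).1 (Subgroup.mem_subgroupOf.2 hq))
      · intro hq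
        have hqR : q ∈ (P₀ : Subgroup G) := by
          have := Subgroup.mul_mem _ (Subgroup.mul_mem _ (Subgroup.inv_mem _ r.2) (hP₀ hq)) r.2
          simpa [mul_assoc] using this
        exact Subgroup.mem_subgroupOf.1 ((Subgroup.mem_normalizer_iff.1 hr ⟨q, hqR⟩).2 (Subgroup.mem_subgroupOf.2 hq))
    -- `Q₀` is the unique Sylow subgroup of `M`
    have h1 : Q₀.subgroupOf M = (R : Subgroup M) := by
      rw [← hR'Q, hR', Subgroup.subgroupOf, Subgroup.comap_map_eq_self_of_injective M.subtype_injective]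
    haveI : (Q₀.subgroupOf M).Normal := Subgroup.normal_in_normalizer
    have hRn : (R : Subgroup M).Normal := h1 ▸ inferInstance
    obtain ⟨k, hk⟩ := IsPGroup.iff_orderOf.1 P₀.isPGroup' r
    have hz : IsPGroup p (Subgroup.zpowers (⟨r, hrM⟩ : M)) :=
      IsPGroup.of_card (n := k) (by rw [Nat.card_zpowers, Subgroup.orderOf_mk, Subgroup.orderOf_coe, hk])
    have h2 : IsPGroup p (Subgroup.zpowers (⟨r, hrM⟩ : M) ⊔ R : Subgroup M) :=
      hz.to_sup_of_normal_right' R.isPGroup' (by rw [Subgroup.normalizer_eq_top]; exact le_top)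
    have h3 : (⟨r, hrM⟩ : M) ∈ (R : Subgroup M) := by
      rw [← R.is_maximal' h2 le_sup_right]; exact Subgroup.mem_sup_left (Subgroup.mem_zpowers _)
    exact hrQ (Subgroup.mem_subgroupOf.2 (Subgroup.mem_subgroupOf.1 (h1 ▸ h3 : (⟨r, hrM⟩ : M) ∈ Q₀.subgroupOf M)))
  obtain ⟨g, hg⟩ := MulAction.exists_smul_eq G P₀ P
  have h1 : (P : Subgroup G) = Q₀.map (MulAut.conj g).toMonoidHom := by rw [hQP, ← hg]; rfl
  have h2 : Subgroup.normalizer ((P : Subgroup G) : Set G) = M.map (MulAut.conj g).toMonoidHom := by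
    rw [h1, hMdef, Subgroup.map_equiv_normalizer_eq]
  rw [h2, Subgroup.card_map_of_injective (MulAut.conj g).injective]
  exact hQ₀e

end Cfsg.Agent.S3982
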