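import Cfsg.Statements.S3983
import Mathlib

set_option autoImplicit false
open scoped Pointwise
open Cfsg
open scoped Pointwise

namespace Cfsg.Agent.S3983

/-- Let P be a Sylow p-subgroup of the finite group G that meets each conjugate g P g⁻¹ with g outside N_G(P) trivially, and let U be a subgroup of G of order divisible by p. Then a Sylow p-subgroup Q of U has the same property inside U: Q meets each conjugate u Q u⁻¹ with u ∈ U outside N_U(Q) trivially. -/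
theorem result {G : Type*} [Group G] [Finite G] (p : ℕ) [Fact p.Prime] (P : Sylow p G) (hTI : ∀ g : G, g ∉ Subgroup.normalizer ((P : Subgroup G) : Set G) → (P : Subgroup G) ⊓ (MulAut.conj g • (P : Subgroup G)) = ⊥) (U : Subgroup G) (hU : p ∣ Nat.card ↥U) (Q : Sylow p ↥U) : ∀ u : ↥U, u ∉ Subgroup.normalizer ((Q : Subgroup ↥U) : Set ↥U) → (Q : Subgroup ↥U) ⊓ (MulAut.conj u • (Q : Subgroup ↥U)) = ⊥ := by
  classical
  intro u hu
  rw [Subgroup.eq_bot_iff_forall]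
  rintro z ⟨hzQ, hzu⟩
  by_contra hz1
  obtain ⟨w, hwQ, hwz⟩ := hzu
  obtain ⟨P1, hP1⟩ := (Q.isPGroup'.map U.subtype).exists_le_sylow
  obtain ⟨g, rfl⟩ := MulAction.exists_smul_eq G P P1
  have hmem : ∀ x : G, x ∈ ((g • P : Sylow p G) : Subgroup G) ↔ g⁻¹ * x * g ∈ (P : Subgroup G) := by
    intro x
    constructor
    · rintro ⟨v, hv, rfl⟩
      show g⁻¹ * (g * v * g⁻¹) * g ∈ _
      rw [show g⁻¹ * (g * v * g⁻¹) * g = v by group]
      exact hv
    · intro hv; exact ⟨_, hv, by simp [mul_assoc]⟩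
  have hQeq : ((g • P : Sylow p G) : Subgroup G).subgroupOf U = (Q : Subgroup U) := by
    refine Q.is_maximal' ((g • P : Sylow p G).isPGroup'.comap_of_injective _ U.subtype_injective) fun x hx => ?_
    exact hP1 ⟨x, hx, rfl⟩
  have hwz' : (z : G) = (u : G) * w * (u : G)⁻¹ := by rw [← hwz]; rfl
  have hn : g⁻¹ * (u : G) * g ∈ Subgroup.normalizer ((P : Subgroup G) : Set G) := by
    by_contra hn
    have h1 := hTI _ hn
    rw [Subgroup.eq_bot_iff_forall] at h1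
    have h2 : g⁻¹ * (z : G) * g ∈ (P : Subgroup G) := (hmem _).1 (hP1 ⟨z, hzQ, rfl⟩)
    have h3 : g⁻¹ * (w : G) * g ∈ (P : Subgroup G) := (hmem _).1 (hP1 ⟨w, hwQ, rfl⟩)
    have h4 := h1 (g⁻¹ * (z : G) * g) ⟨h2, g⁻¹ * (w : G) * g, h3, by
      show g⁻¹ * (u : G) * g * (g⁻¹ * w * g) * (g⁻¹ * u * g)⁻¹ = g⁻¹ * (z : G) * g
      rw [hwz']; group⟩
    refine hz1 (Subtype.ext ?_)
    rw [show (z : G) = g * (g⁻¹ * z * g) * g⁻¹ by group, h4, mul_one, mul_inv_cancel]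
    rfl
  refine hu ?_
  rw [Subgroup.mem_normalizer_iff]
  intro x
  rw [← hQeq, Subgroup.mem_subgroupOf, Subgroup.mem_subgroupOf, hmem, hmem,
    Subgroup.mem_normalizer_iff.1 hn (g⁻¹ * (x : G) * g)]
  have e : g⁻¹ * (u : G) * g * (g⁻¹ * x * g) * (g⁻¹ * u * g)⁻¹ = g⁻¹ * ((u * x * u⁻¹ : U) : G) * g := by
    push_cast; group
  rw [e]

end Cfsg.Agent.S3983
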