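import Cfsg.Statements.S3984
import Mathlib

set_option autoImplicit false
open scoped Pointwise
open Cfsg
open scoped Pointwise

namespace Cfsg.Agent.S3984

/-- Let P be a Sylow p-subgroup of the finite group G that meets each conjugate g P g⁻¹ with g outside N_G(P) trivially, and let N be a normal subgroup of G of order prime to p. Then every Sylow p-subgroup Q of G ⧸ N meets each conjugate x Q x⁻¹ with x outside its normalizer trivially. -/
theorem result {G : Type*} [Group G] [Finite G] (p : ℕ) [Fact p.Prime] (P : Sylow p G) (hTI : ∀ g : G, g ∉ Subgroup.normalizer ((P : Subgroup G) : Set G) → (P : Subgroup G) ⊓ (MulAut.conj g • (P : Subgroup G)) = ⊥) (N : Subgroup G) [N.Normal] (hN : (Nat.card ↥N).Coprime p) (Q : Sylow p (G ⧸ N)) : ∀ x : G ⧸ N, x ∉ Subgroup.normalizer ((Q : Subgroup (G ⧸ N)) : Set (G ⧸ N)) → (Q : Subgroup (G ⧸ N)) ⊓ (MulAut.conj x • (Q : Subgroup (G ⧸ N))) = ⊥ := by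
  classical
  intro x hx
  obtain ⟨y, hy⟩ := MulAction.exists_smul_eq (G ⧸ N) (P.mapSurjective (QuotientGroup.mk'_surjective N)) Q
  obtain ⟨y, rfl⟩ := QuotientGroup.mk_surjective y
  obtain ⟨x, rfl⟩ := QuotientGroup.mk_surjective x
  subst hy
  rw [Subgroup.eq_bot_iff_forall]
  rintro z ⟨⟨z1, ⟨v, hv, rfl⟩, rfl⟩, ⟨z2, ⟨z3, ⟨w, hw, rfl⟩, rfl⟩, hz⟩⟩
  -- `v, w ∈ P` and `mk(y v y⁻¹) = mk(x y w y⁻¹ x⁻¹)`
  have hz' : (QuotientGroup.mk (x * (y * w * y⁻¹) * x⁻¹) : G ⧸ N) = QuotientGroup.mk (y * v * y⁻¹) := hz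
  set a := y⁻¹ * x * y with ha
  have hvN : (a * w * a⁻¹)⁻¹ * v ∈ N := by
    rw [QuotientGroup.eq] at hz'
    have := (inferInstance : N.Normal).conj_mem _ hz' y⁻¹
    convert this using 1
    rw [ha]; group
  by_contra hne
  have hv1 : v ∉ N := fun h => hne (by
    show (QuotientGroup.mk' N y) * (QuotientGroup.mk' N v) * (QuotientGroup.mk' N y)⁻¹ = 1
    rw [show QuotientGroup.mk' N v = 1 from (QuotientGroup.eq_one_iff v).2 h, mul_one, mul_inv_cancel])
  -- the preimage of `⟨mk v⟩` has Sylow subgroups conjugate under `N`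
  set L := Subgroup.zpowers v ⊔ N with hL
  have haw : a * w * a⁻¹ ∈ L := by
    have : a * w * a⁻¹ = v * ((a * w * a⁻¹)⁻¹ * v)⁻¹ := by group
    rw [this]
    exact mul_mem (Subgroup.mem_sup_left (Subgroup.mem_zpowers v)) (Subgroup.mem_sup_right (inv_mem hvN))
  have hvp : IsPGroup p (Subgroup.zpowers v) := P.isPGroup'.to_le (Subgroup.zpowers_le.2 hv)
  obtain ⟨kv, hkv⟩ := IsPGroup.iff_card.1 hvp
  have hwp : IsPGroup p (Subgroup.zpowers (a * w * a⁻¹)) := by
    obtain ⟨k, hk⟩ := IsPGroup.iff_orderOf.1 P.isPGroup' ⟨w, hw⟩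
    refine IsPGroup.of_card (n := k) ?_
    rw [Nat.card_zpowers, ← hk, Subgroup.orderOf_mk]
    exact (MulAut.conj a).orderOf_eq w
  have hsyl : ¬ p ∣ ((Subgroup.zpowers v).subgroupOf L).index := by
    haveI : (N.subgroupOf L).Normal := inferInstance
    have h1 : ((Subgroup.zpowers v).subgroupOf L).index ∣ Nat.card N := by
      have hc : Nat.card L ∣ Nat.card (Subgroup.zpowers v) * Nat.card N :=
        by
          have e1 := Subgroup.card_mul_index (N.subgroupOf L)
          rw [Nat.card_congr (Subgroup.subgroupOfEquivOfLe (le_sup_right : N ≤ L)).toEquiv,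
            show (N.subgroupOf L).index = N.relIndex L from rfl, hL, Subgroup.relIndex_sup_right, mul_comm] at e1
          rw [hL, ← e1]
          exact mul_dvd_mul_right (N.subgroupOf (Subgroup.zpowers v)).index_dvd_card _
      have h2 := ((Subgroup.zpowers v).subgroupOf L).card_mul_index
      rw [Nat.card_congr (Subgroup.subgroupOfEquivOfLe (le_sup_left : Subgroup.zpowers v ≤ L)).toEquiv] at h2
      rw [← h2] at hc
      exact Nat.dvd_of_mul_dvd_mul_left Nat.card_pos hc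
    intro hp
    have := (Nat.Prime.coprime_iff_not_dvd (Fact.out : p.Prime)).1 hN.symm
    exact this (hp.trans h1)
  let S : Sylow p L := IsPGroup.toSylow (IsPGroup.of_equiv hvp (Subgroup.subgroupOfEquivOfLe le_sup_left).symm) hsyl
  obtain ⟨T, hT⟩ := (hwp.comap_of_injective L.subtype L.subtype_injective).exists_le_sylow
  obtain ⟨b, hb⟩ := MulAction.exists_smul_eq L S T
  have hb' : (⟨a * w * a⁻¹, haw⟩ : L) ∈ (T : Subgroup L) := hT (Subgroup.mem_zpowers _)
  rw [← hb] at hb'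
  obtain ⟨v', hv', hvb⟩ := hb'
  change v' ∈ (Subgroup.zpowers v).subgroupOf L at hv'
  rw [Subgroup.mem_subgroupOf] at hv'
  have hvb' : (b : G) * (v' : G) * (b : G)⁻¹ = a * w * a⁻¹ := congrArg Subtype.val hvb
  obtain ⟨bz, hbz, bn, hbn, hbeq⟩ := Subgroup.mem_sup_of_normal_right.1 b.2
  have hn : (b : G)⁻¹ * a ∈ Subgroup.normalizer ((P : Subgroup G) : Set G) := by
    by_contra hn
    have h1 := hTI _ hn
    rw [Subgroup.eq_bot_iff_forall] at h1
    have h2 := h1 v' ⟨Subgroup.zpowers_le.2 hv hv', w, hw, by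
      show (b : G)⁻¹ * a * w * ((b : G)⁻¹ * a)⁻¹ = v'
      rw [show (b : G)⁻¹ * a * w * ((b : G)⁻¹ * a)⁻¹ = (b : G)⁻¹ * (a * w * a⁻¹) * b by group, ← hvb']
      group⟩
    rw [h2, mul_one, mul_inv_cancel] at hvb'
    refine hv1 ?_
    rw [← hvb', inv_one, one_mul] at hvN
    exact hvN
  -- pass to the quotient
  refine hx ?_
  have h1 : QuotientGroup.mk' N ((b : G)⁻¹ * a) ∈ Subgroup.normalizer
      (((P.mapSurjective (QuotientGroup.mk'_surjective N) : Sylow p (G ⧸ N)) : Subgroup (G ⧸ N)) : Set (G ⧸ N)) :=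
    Subgroup.le_normalizer_map (QuotientGroup.mk' N) ⟨_, hn, rfl⟩
  have h2 : QuotientGroup.mk' N (b : G) ∈ Subgroup.normalizer
      (((P.mapSurjective (QuotientGroup.mk'_surjective N) : Sylow p (G ⧸ N)) : Subgroup (G ⧸ N)) : Set (G ⧸ N)) := by
    rw [← hbeq, map_mul, show QuotientGroup.mk' N bn = 1 from (QuotientGroup.eq_one_iff bn).2 hbn, mul_one]
    refine Subgroup.le_normalizer ?_
    exact ⟨bz, Subgroup.zpowers_le.2 hv hbz, rfl⟩
  have h3 := Subgroup.mul_mem _ h2 h1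
  rw [← map_mul, mul_inv_cancel_left] at h3
  rw [Sylow.coe_subgroup_smul, Subgroup.mem_normalizer_iff]
  intro q
  rw [Subgroup.mem_pointwise_smul_iff_inv_smul_mem, Subgroup.mem_pointwise_smul_iff_inv_smul_mem,
    Subgroup.mem_normalizer_iff.1 h3]
  rw [ha, map_mul, map_mul, map_inv]
  simp only [QuotientGroup.mk'_apply, MulAut.smul_def, MulAut.conj_inv_apply]
  group

end Cfsg.Agent.S3984
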