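import Cfsg.Statements.S3985
import Mathlib

set_option autoImplicit false
open scoped Pointwise
open Cfsg
open scoped Pointwise

namespace Cfsg.Agent.S3985

/-- Let P be a cyclic Sylow p-subgroup of the finite group G. Then P meets each conjugate g P g⁻¹ with g outside N_G(P) trivially if and only if P is weakly self-centralizing: C_G(x) = C_G(P) for every non-identity x ∈ P. -/
theorem result {G : Type*} [Group G] [Finite G] (p : ℕ) [Fact p.Prime] (P : Sylow p G) (hcyc : IsCyclic ↥(P : Subgroup G)) : (∀ g : G, g ∉ Subgroup.normalizer ((P : Subgroup G) : Set G) → (P : Subgroup G) ⊓ (MulAut.conj g • (P : Subgroup G)) = ⊥) ↔ ∀ x : G, x ∈ (P : Subgroup G) → x ≠ 1 → Subgroup.centralizer ({x} : Set G) = Subgroup.centralizer ((P : Subgroup G) : Set G) := by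
  classical
  have hp : p.Prime := Fact.out
  haveI : IsMulCommutative (P : Subgroup G) := hcyc.commutative
  have hPcomm : ∀ a ∈ (P : Subgroup G), ∀ b ∈ (P : Subgroup G), a * b = b * a := fun a ha b hb =>
    congrArg Subtype.val (hcyc.commutative.is_comm.comm ⟨a, ha⟩ ⟨b, hb⟩)
  constructor
  · intro hTI x hx hx1
    refine le_antisymm ?_ (Subgroup.centralizer_le (Set.singleton_subset_iff.2 hx))
    intro g hg
    have hgx : g * x = x * g := Subgroup.mem_centralizer_singleton_iff.1 hg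
    have hgN : g ∈ Subgroup.normalizer ((P : Subgroup G) : Set G) := by
      by_contra hn
      have h1 := hTI g hn
      rw [Subgroup.eq_bot_iff_forall] at h1
      exact hx1 (h1 x ⟨hx, x, hx, by show g * x * g⁻¹ = x; rw [hgx, mul_inv_cancel_right]⟩)
    obtain ⟨⟨a, haP⟩, ha⟩ := hcyc.exists_generator
    have hgen : ∀ c ∈ (P : Subgroup G), ∃ k : ℕ, a ^ k = c := fun c hc => by
      obtain ⟨k, hk⟩ := (isOfFinOrder_of_finite _).mem_powers_iff_mem_zpowers.2 (ha ⟨c, hc⟩)
      exact ⟨k, congrArg Subtype.val hk⟩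
    obtain ⟨k, hk⟩ := hgen (g * a * g⁻¹) ((Subgroup.mem_normalizer_iff.1 hgN a).1 haP)
    obtain ⟨j, hj⟩ := hgen x hx
    -- `a ↦ a ^ k` fixes `a ^ j ≠ 1`
    have hiter : ∀ i : ℕ, g ^ i * a * (g ^ i)⁻¹ = a ^ (k ^ i) := by
      intro i
      induction i with
      | zero => simp
      | succ i ih =>
        calc g ^ (i + 1) * a * (g ^ (i + 1))⁻¹ = g * (g ^ i * a * (g ^ i)⁻¹) * g⁻¹ := by rw [pow_succ']; group
          _ = (g * a * g⁻¹) ^ (k ^ i) := by rw [ih, conj_pow]
          _ = a ^ (k ^ (i + 1)) := by rw [← hk, ← pow_mul, pow_succ', mul_comm]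
    obtain ⟨e, he⟩ := IsPGroup.iff_orderOf.1 P.isPGroup' ⟨a, haP⟩
    rw [Subgroup.orderOf_mk] at he
    have hmod : j * k ≡ j [MOD p ^ e] := by
      rw [← he, ← pow_eq_pow_iff_modEq, mul_comm, pow_mul, hk, conj_pow, hj, hgx, mul_inv_cancel_right]
    have hj0 : ¬ p ^ e ∣ j := fun h => hx1 (by rw [← hj]; exact orderOf_dvd_iff_pow_eq_one.1 (he ▸ h))
    have hk1 : k ≡ 1 [MOD p] := by
      obtain ⟨i, j', hj', rfl⟩ := Nat.exists_eq_pow_mul_and_not_dvd (show j ≠ 0 by rintro rfl; exact hj0 (dvd_zero _)) p hp.ne_one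
      have hie : i < e := by
        by_contra hh
        exact hj0 ((pow_dvd_pow p (by omega)).trans (dvd_mul_right _ _))
      obtain ⟨f, rfl⟩ : ∃ f, e = i + (f + 1) := ⟨e - i - 1, by omega⟩
      rw [pow_add, mul_assoc] at hmod
      have h1 : j' * k ≡ j' [MOD p ^ (f + 1)] := Nat.ModEq.mul_left_cancel' (pow_ne_zero i hp.ne_zero) hmod
      have h2 : j' * k ≡ j' * 1 [MOD p] := by rw [mul_one]; exact h1.of_dvd (dvd_pow_self p (by omega))
      refine Nat.ModEq.cancel_left_of_coprime ?_ h2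
      rw [Nat.coprime_iff_gcd_eq_one.symm]
      exact (hp.coprime_iff_not_dvd.2 hj')
    have hkpow : ∀ s : ℕ, k ^ (p ^ s) ≡ 1 [MOD p ^ (s + 1)] := by
      intro s
      induction s with
      | zero => simpa using hk1
      | succ s ih =>
        rw [← Int.natCast_modEq_iff, Int.modEq_comm, Int.modEq_iff_dvd] at ih ⊢
        push_cast at ih ⊢
        obtain ⟨w, hw⟩ := ih
        rw [pow_succ p s, pow_mul, pow_succ (p : ℤ) (s + 1)]
        have h2 : (p : ℤ) ∣ (∑ i ∈ Finset.range p, ((k : ℤ) ^ p ^ s) ^ i) := by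
          have h3 : ∀ i ∈ Finset.range p, (p : ℤ) ∣ ((k : ℤ) ^ p ^ s) ^ i - 1 := fun i _ =>
            (((dvd_pow_self (p : ℤ) (Nat.succ_ne_zero s)).trans ⟨w, hw⟩)).trans (sub_one_dvd_pow_sub_one _ _)
          have h4 := Finset.dvd_sum h3
          rw [Finset.sum_sub_distrib, Finset.sum_const, Finset.card_range, nsmul_one] at h4
          simpa using dvd_add h4 (dvd_refl (p : ℤ))
        rw [← geom_sum_mul, mul_comm ((p : ℤ) ^ (s + 1) ) (p : ℤ)]
        exact mul_dvd_mul h2 ⟨w, hw⟩
    -- so `g ^ (p ^ e)` centralises `a`; and the p'-part of `g` does the rest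
    have hge : g ^ (p ^ e) * a = a * g ^ (p ^ e) := by
      rw [← mul_inv_eq_iff_eq_mul, hiter]
      conv_rhs => rw [← pow_one a]
      rw [pow_eq_pow_iff_modEq, he]
      exact (hkpow e).of_dvd (pow_dvd_pow p (Nat.le_succ e))
    have hcent : g * a = a * g := by
      obtain ⟨s, o, ho, hgo⟩ := Nat.exists_eq_pow_mul_and_not_dvd (orderOf_pos g).ne' p hp.ne_one
      have hgoP : g ^ o ∈ (P : Subgroup G) := by
        have hz : IsPGroup p (Subgroup.zpowers (g ^ o)) := by
          refine IsPGroup.of_card (n := s) ?_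
          rw [Nat.card_zpowers, orderOf_pow_of_dvd (by intro h0; rw [h0] at ho; exact ho (dvd_zero p))
            (Dvd.intro_left _ hgo.symm), hgo, Nat.mul_div_cancel _ (Nat.pos_of_ne_zero (by intro h0; rw [h0] at ho; exact ho (dvd_zero p)))]
        have h1 := hz.to_sup_of_normal_right' P.isPGroup' (Subgroup.zpowers_le.2 (pow_mem hgN _))
        rw [← P.is_maximal' h1 le_sup_right]
        exact Subgroup.mem_sup_left (Subgroup.mem_zpowers _)
      have hC : g ∈ Subgroup.centralizer ({a} : Set G) := by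
        have h1 : g ^ o ∈ Subgroup.centralizer ({a} : Set G) :=
          Subgroup.mem_centralizer_singleton_iff.2 (hPcomm _ hgoP a haP)
        have h2 : g ^ (p ^ e) ∈ Subgroup.centralizer ({a} : Set G) := Subgroup.mem_centralizer_singleton_iff.2 hge
        have hcop : Nat.gcd o (p ^ e) = 1 := (Nat.Coprime.pow_right e ((hp.coprime_iff_not_dvd).2 ho).symm).gcd_eq_one
        have h3 := Nat.gcd_eq_gcd_ab o (p ^ e)
        rw [hcop] at h3
        have : g = (g ^ o) ^ (Nat.gcdA o (p ^ e)) * (g ^ (p ^ e)) ^ (Nat.gcdB o (p ^ e)) := by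
          rw [← zpow_natCast g o, ← zpow_natCast g (p ^ e), ← zpow_mul, ← zpow_mul, ← zpow_add, ← h3, Nat.cast_one, zpow_one]
        rw [this]
        exact mul_mem (zpow_mem h1 _) (zpow_mem h2 _)
      exact Subgroup.mem_centralizer_singleton_iff.1 hC
    refine Subgroup.mem_centralizer_iff.2 fun c hc => ?_
    obtain ⟨i, rfl⟩ := hgen c hc
    exact (Commute.pow_right (show Commute g a from hcent) i).symm
  · intro hweak g hg
    rw [Subgroup.eq_bot_iff_forall]
    rintro x ⟨hx, x', hx', hxe⟩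
    by_contra hx1
    have hxe' : g * x' * g⁻¹ = x := hxe
    have hx'1 : x' ≠ 1 := fun e => hx1 (by rw [← hxe', e, mul_one, mul_inv_cancel])
    set C := Subgroup.centralizer ((P : Subgroup G) : Set G) with hC
    have hPC : (P : Subgroup G) ≤ C := fun c hc => Subgroup.mem_centralizer_iff.2 fun d hd => hPcomm d hd c hc
    refine hg ?_
    have key : ∀ c ∈ (P : Subgroup G), g * c * g⁻¹ ∈ (P : Subgroup G) := by
      intro c hc
      have h1 : g * c * g⁻¹ ∈ C := by
        rw [← hweak x hx hx1, Subgroup.mem_centralizer_singleton_iff, ← hxe']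
        calc g * c * g⁻¹ * (g * x' * g⁻¹) = g * (c * x') * g⁻¹ := by group
          _ = g * (x' * c) * g⁻¹ := by rw [hPcomm c hc x' hx']
          _ = g * x' * g⁻¹ * (g * c * g⁻¹) := by group
      obtain ⟨k, hk⟩ := IsPGroup.iff_orderOf.1 P.isPGroup' ⟨c, hc⟩
      rw [Subgroup.orderOf_mk] at hk
      have hz : IsPGroup p (Subgroup.zpowers (g * c * g⁻¹)) :=
        IsPGroup.of_card (n := k) (by rw [Nat.card_zpowers, ← hk]; exact (MulAut.conj g).orderOf_eq c)
      have h2 := hz.to_sup_of_normal_right' P.isPGroup' (Subgroup.zpowers_le.2 (Subgroup.centralizer_le_normalizer _ h1))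
      rw [← P.is_maximal' h2 le_sup_right]
      exact Subgroup.mem_sup_left (Subgroup.mem_zpowers _)
    have heq : (P : Subgroup G).map (MulAut.conj g).toMonoidHom = (P : Subgroup G) :=
      Subgroup.eq_of_le_of_card_ge (fun c ⟨d, hd, hdc⟩ => hdc ▸ key d hd)
        (le_of_eq (Subgroup.card_map_of_injective (MulAut.conj g).injective).symm)
    rw [Subgroup.mem_normalizer_iff]
    intro c
    refine ⟨key c, fun hc => ?_⟩
    rw [← heq] at hc
    obtain ⟨d, hd, hdc⟩ := hc
    have hdc' : g * d * g⁻¹ = g * c * g⁻¹ := hdc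
    rwa [← mul_left_cancel (mul_right_cancel hdc')]

end Cfsg.Agent.S3985
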