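import Cfsg.Statements.S3986
import Mathlib

set_option autoImplicit false
open Cfsg
open scoped Pointwise

namespace Cfsg.Agent.S3986

/-- Let p be a prime and G a finite group. Then some Sylow p-subgroup of G is a direct factor of G (it is normal and has a normal complement) if and only if every element of p-power order commutes with every element whose order is a power of a prime other than p. -/
theorem result {G : Type*} [Group G] [Finite G] (p : ℕ) [Fact p.Prime] : (∃ (P : Sylow p G) (K : Subgroup G), (P : Subgroup G).Normal ∧ K.Normal ∧ (P : Subgroup G) ⊓ K = ⊥ ∧ (P : Subgroup G) ⊔ K = ⊤) ↔ ∀ x y : G, (∃ a : ℕ, orderOf x = p ^ a) → (∃ q b : ℕ, q.Prime ∧ q ≠ p ∧ orderOf y = q ^ b) → x * y = y * x := by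
  classical
  have hp : p.Prime := Fact.out
  constructor
  · rintro ⟨P, K, hPn, hKn, hinf, hsup⟩ x y ⟨a, hx⟩ ⟨q, b, hq, hqp, hy⟩
    have hxP : x ∈ (P : Subgroup G) := by
      have hz : IsPGroup p (Subgroup.zpowers x) := IsPGroup.of_card (n := a) (by rw [Nat.card_zpowers, hx])
      have h2 := hz.to_sup_of_normal_right' P.isPGroup' (by rw [Subgroup.normalizer_eq_top]; exact le_top)
      rw [← P.is_maximal' h2 le_sup_right]
      exact Subgroup.mem_sup_left (Subgroup.mem_zpowers x)
    have hyK : y ∈ K := by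
      obtain ⟨u, hu, v, hv, huv⟩ := Subgroup.mem_sup_of_normal_right.1 (hsup ▸ Subgroup.mem_top y : y ∈ (P : Subgroup G) ⊔ K)
      have h1 : QuotientGroup.mk' K y = QuotientGroup.mk' K u := by
        rw [← huv, map_mul, show QuotientGroup.mk' K v = 1 from (QuotientGroup.eq_one_iff v).2 hv, mul_one]
      obtain ⟨c, hc⟩ := IsPGroup.iff_orderOf.1 P.isPGroup' ⟨u, hu⟩
      rw [Subgroup.orderOf_mk] at hc
      have ho : orderOf (QuotientGroup.mk' K y) = 1 := Nat.eq_one_of_dvd_coprimes
        (Nat.Coprime.pow c b ((Nat.coprime_primes hp hq).2 hqp.symm))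
        (h1 ▸ hc ▸ orderOf_map_dvd _ u) (hy ▸ orderOf_map_dvd _ y)
      exact (QuotientGroup.eq_one_iff y).1 (orderOf_eq_one_iff.1 ho)
    exact (Subgroup.commute_of_normal_of_disjoint _ _ hPn hKn (disjoint_iff.2 hinf) x y hxP hyK)
  · intro h
    let P : Sylow p G := default
    -- every element whose order is prime to `p` centralises `P`
    have hcent : ∀ g : G, ¬ p ∣ orderOf g → g ∈ Subgroup.centralizer ((P : Subgroup G) : Set G) := by
      intro g hg
      set C := Subgroup.centralizer ((P : Subgroup G) : Set G) ⊓ Subgroup.zpowers g with hC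
      have hd : orderOf g ∣ Nat.card C := by
        refine Nat.dvd_iff_prime_pow_dvd_dvd _ _ |>.2 fun q k hq hqk => ?_
        rcases Nat.eq_zero_or_pos k with rfl | hk
        · simp
        have hne : q ≠ p := fun e => by subst e; exact hg ((dvd_pow_self _ hk.ne').trans hqk)
        obtain ⟨r, hr⟩ := hqk
        have ho : orderOf (g ^ r) = q ^ k := by
          have hr0 : r ≠ 0 := fun e => (orderOf_pos g).ne' (by rw [hr, e, mul_zero])
          rw [orderOf_pow_of_dvd hr0 (Dvd.intro_left _ hr.symm), hr, Nat.mul_div_cancel _ (Nat.pos_of_ne_zero hr0)]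
        rw [← ho]
        refine Subgroup.orderOf_dvd_natCard _ (Subgroup.mem_inf.2 ⟨Subgroup.mem_centralizer_iff.2 fun c hc => ?_,
          pow_mem (Subgroup.mem_zpowers g) r⟩)
        obtain ⟨a, ha⟩ := IsPGroup.iff_orderOf.1 P.isPGroup' ⟨c, hc⟩
        rw [Subgroup.orderOf_mk] at ha
        exact h c (g ^ r) ⟨a, ha⟩ ⟨q, k, hq, hne, ho⟩
      have heq : C = Subgroup.zpowers g := Subgroup.eq_of_le_of_card_ge inf_le_right
        (by rw [Nat.card_zpowers]; exact Nat.le_of_dvd Nat.card_pos hd)
      exact (heq ▸ Subgroup.mem_zpowers g : g ∈ C).1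
    -- `P` is normal
    have hPn : (P : Subgroup G).Normal := by
      have hle : ∀ g : G, g ∈ Subgroup.normalizer ((P : Subgroup G) : Set G) := by
        suffices hN : Subgroup.normalizer ((P : Subgroup G) : Set G) = ⊤ from fun g => hN ▸ Subgroup.mem_top g
        refine Subgroup.eq_top_of_card_eq _ (Nat.dvd_antisymm (Subgroup.card_subgroup_dvd_card _) ?_)
        refine (Nat.dvd_iff_prime_pow_dvd_dvd _ _).2 fun q k hq hqk => ?_
        haveI : Fact q.Prime := ⟨hq⟩
        by_cases hqp : q = p
        · subst hqp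
          exact (P.pow_dvd_card_of_pow_dvd_card hqk).trans (Subgroup.card_dvd_of_le Subgroup.le_normalizer)
        · let Q : Sylow q G := default
          refine (Q.pow_dvd_card_of_pow_dvd_card hqk).trans (Subgroup.card_dvd_of_le fun g hg => ?_)
          obtain ⟨b, hb⟩ := IsPGroup.iff_orderOf.1 Q.isPGroup' ⟨g, hg⟩
          rw [Subgroup.orderOf_mk] at hb
          refine Subgroup.centralizer_le_normalizer _ (hcent g fun hd => hqp ?_)
          exact ((Nat.prime_dvd_prime_iff_eq hp hq).1 (hp.dvd_of_dvd_pow (hb ▸ hd))).symm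
      exact ⟨fun c hc g => (Subgroup.mem_normalizer_iff.1 (hle g) c).1 hc⟩
    obtain ⟨H, hH⟩ := Subgroup.exists_right_complement'_of_coprime (N := (P : Subgroup G)) P.card_coprime_index
    have hHC : H ≤ Subgroup.centralizer ((P : Subgroup G) : Set G) := fun g hg => hcent g fun hd => by
      have h1 : p ∣ Nat.card H := hd.trans (Subgroup.orderOf_dvd_natCard _ hg)
      rw [← hH.symm.index_eq_card] at h1
      exact P.not_dvd_index h1
    refine ⟨P, H, hPn, ⟨fun c hc g => ?_⟩, hH.disjoint.eq_bot, hH.sup_eq_top⟩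
    obtain ⟨u, hu, v, hv, rfl⟩ := Subgroup.mem_sup_of_normal_left.1 (hH.sup_eq_top ▸ Subgroup.mem_top g :
      g ∈ (P : Subgroup G) ⊔ H)
    have h1 := Subgroup.mem_centralizer_iff.1 (hHC (H.mul_mem (H.mul_mem hv hc) (H.inv_mem hv))) u hu
    rw [show u * v * c * (u * v)⁻¹ = u * (v * c * v⁻¹) * u⁻¹ by group, h1, mul_inv_cancel_right]
    exact H.mul_mem (H.mul_mem hv hc) (H.inv_mem hv)

end Cfsg.Agent.S3986
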