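import Cfsg.Statements.S3987
import Cfsg.Agent.Lib.StructB.Misc
import Cfsg.Agent.Lib.StructB.Ambivalent
-- import your own Cfsg.Agent.* helpers here

set_option autoImplicit false
open Cfsg
open scoped Pointwise

namespace Cfsg.Agent.S3987

/-- Let p be a prime and G a finite group. Then some Sylow p-subgroup of G is a direct factor of G (normal with a normal complement) if and only if for every element x of p-power order and every element y whose order is a power of a prime other than p, the conjugacy class of x y has as many elements as the product of the sizes of the classes of x and of y. -/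
theorem result {G : Type*} [Group G] [Finite G] (p : ℕ) [Fact p.Prime] : (∃ (P : Sylow p G) (K : Subgroup G), (P : Subgroup G).Normal ∧ K.Normal ∧ (P : Subgroup G) ⊓ K = ⊥ ∧ (P : Subgroup G) ⊔ K = ⊤) ↔ ∀ x y : G, (∃ a : ℕ, orderOf x = p ^ a) → (∃ q b : ℕ, q.Prime ∧ q ≠ p ∧ orderOf y = q ^ b) → (Subgroup.centralizer ({x * y} : Set G)).index = (Subgroup.centralizer ({x} : Set G)).index * (Subgroup.centralizer ({y} : Set G)).index := by
  classical
  have hp : p.Prime := Fact.out
  constructor
  · rintro ⟨P, K, hPn, hKn, hinf, hsup⟩ x y ⟨a, hx⟩ ⟨q, b, hq, hqp, hy⟩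
    haveI := hPn
    haveI := hKn
    have hcop : ¬ p ∣ Nat.card K := by
      intro hd
      obtain ⟨⟨k, hk⟩, hko⟩ := exists_prime_orderOf_dvd_card' (G := K) p hd
      rw [Subgroup.orderOf_mk] at hko
      have hkP : k ∈ (P : Subgroup G) := by
        refine CfsgLib.StructB.mem_sylow_of_mem_normalizer P (k := 1) (by rw [pow_one, ← hko, pow_orderOf_eq_one]) ?_
        rw [Subgroup.normalizer_eq_top]; exact Subgroup.mem_top _
      have h1 : k ∈ (P : Subgroup G) ⊓ K := Subgroup.mem_inf.2 ⟨hkP, hk⟩
      rw [hinf, Subgroup.mem_bot] at h1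
      rw [h1, orderOf_one] at hko
      exact hp.ne_one hko.symm
    have hPK : ∀ u ∈ (P : Subgroup G), ∀ v ∈ K, Commute u v := fun u hu v hv =>
      Subgroup.commute_of_normal_of_disjoint _ _ hPn hKn (disjoint_iff.2 hinf) u v hu hv
    have hxP : x ∈ (P : Subgroup G) := CfsgLib.StructB.mem_sylow_of_mem_normalizer P (k := a)
      (by rw [← hx, pow_orderOf_eq_one]) (by rw [Subgroup.normalizer_eq_top]; exact Subgroup.mem_top _)
    have hyK : y ∈ K := by
      obtain ⟨u, hu, v, hv, huv⟩ := Subgroup.mem_sup_of_normal_left.1 (hsup.symm ▸ Subgroup.mem_top y)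
      have h1 : (u * v) ^ q ^ b = 1 := by rw [huv, ← hy, pow_orderOf_eq_one]
      rw [(hPK u hu v hv).mul_pow] at h1
      have h2 : u ^ q ^ b ∈ (P : Subgroup G) ⊓ K :=
        Subgroup.mem_inf.2 ⟨pow_mem hu _, by rw [mul_eq_one_iff_eq_inv.1 h1]; exact inv_mem (pow_mem hv _)⟩
      rw [hinf, Subgroup.mem_bot] at h2
      obtain ⟨e, he⟩ := IsPGroup.iff_orderOf.1 P.isPGroup' ⟨u, hu⟩
      rw [Subgroup.orderOf_mk] at he
      have h3 : u = 1 := orderOf_eq_one_iff.1 (Nat.eq_one_of_dvd_coprimes
        (Nat.Coprime.pow e b ((Nat.coprime_primes hp hq).2 hqp.symm)) he.dvd (orderOf_dvd_of_pow_eq_one h2))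
      rw [← huv, h3, one_mul]; exact hv
    set A := Subgroup.centralizer ({x} : Set G) with hA
    set B := Subgroup.centralizer ({y} : Set G) with hB
    have hKA : K ≤ A := fun v hv => Subgroup.mem_centralizer_singleton_iff.2 (hPK x hxP v hv).eq.symm
    have hPB : (P : Subgroup G) ≤ B := fun u hu => Subgroup.mem_centralizer_singleton_iff.2 (hPK u hu y hyK).eq
    have hAB : A ⊓ B = Subgroup.centralizer ({x * y} : Set G) := by
      ext g
      rw [Subgroup.mem_inf, Subgroup.mem_centralizer_singleton_iff, Subgroup.mem_centralizer_singleton_iff,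
        Subgroup.mem_centralizer_singleton_iff]
      refine ⟨fun ⟨h1, h2⟩ => ((show Commute g x from h1).mul_right (show Commute g y from h2)).eq, fun h => ?_⟩
      obtain ⟨u, hu, v, hv, rfl⟩ := Subgroup.mem_sup_of_normal_left.1 (hsup.symm ▸ Subgroup.mem_top g)
      have h1 : Commute u y := hPK u hu y hyK
      have h2 : Commute x v := hPK x hxP v hv
      have h3 : (u * x) * (v * y) = (x * u) * (y * v) := by
        calc (u * x) * (v * y) = u * v * (x * y) := by rw [mul_assoc u x, ← mul_assoc x v, h2.eq]; group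
          _ = x * y * (u * v) := h
          _ = (x * u) * (y * v) := by rw [mul_assoc x y, ← mul_assoc y u, ← h1.eq]; group
      have h4 : (x * u)⁻¹ * (u * x) ∈ (P : Subgroup G) ⊓ K := by
        refine Subgroup.mem_inf.2 ⟨mul_mem (inv_mem (mul_mem hxP hu)) (mul_mem hu hxP), ?_⟩
        rw [show (x * u)⁻¹ * (u * x) = (x * u)⁻¹ * ((u * x) * (v * y)) * (v * y)⁻¹ by group, h3, inv_mul_cancel_left]
        exact mul_mem (mul_mem hyK hv) (inv_mem (mul_mem hv hyK))
      rw [hinf, Subgroup.mem_bot, inv_mul_eq_one] at h4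
      rw [h4] at h3
      exact ⟨((show Commute u x from h4.symm).mul_left h2.symm).eq, (h1.mul_left (show Commute v y from mul_left_cancel h3)).eq⟩
    have htop : (A : Set G) * (B : Set G) = Set.univ := by
      refine Set.eq_univ_of_forall fun g => ?_
      obtain ⟨u, hu, v, hv, rfl⟩ := Subgroup.mem_sup_of_normal_left.1 (hsup.symm ▸ Subgroup.mem_top g)
      exact ⟨v, hKA hv, u, hPB hu, (hPK u hu v hv).eq.symm⟩
    rw [← hAB]
    refine le_antisymm (Subgroup.index_inf_le ..) ?_
    have hnz : A.index ≠ 0 := Subgroup.index_ne_zero_of_finite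
    rw [← Subgroup.relIndex_mul_index (inf_le_left : A ⊓ B ≤ A), Subgroup.inf_relIndex_left, mul_comm A.index]
    refine Nat.mul_le_mul_right _ ?_
    rw [Subgroup.index_eq_card]
    refine Nat.card_le_card_of_surjective (Quotient.map' (fun a : A => (a : G)) (fun a b hab => by
      rw [QuotientGroup.leftRel_apply] at hab ⊢; exact hab) : A ⧸ B.subgroupOf A → G ⧸ B) ?_
    intro w
    induction w using QuotientGroup.induction_on with | _ g => ?_
    obtain ⟨a', ha', b', hb', rfl⟩ := (htop.symm ▸ Set.mem_univ g : g ∈ (A : Set G) * (B : Set G))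
    exact ⟨QuotientGroup.mk ⟨a', ha'⟩, QuotientGroup.eq.2 (by simpa using hb')⟩
  · intro h
    have hcomm : ∀ x y : G, (∃ a : ℕ, orderOf x = p ^ a) → (∃ q b : ℕ, q.Prime ∧ q ≠ p ∧ orderOf y = q ^ b) →
        Commute x y := by
      intro x y hx hy
      set A := Subgroup.centralizer ({x} : Set G) with hA
      set B := Subgroup.centralizer ({y} : Set G) with hB
      set D := Subgroup.centralizer ({x * y} : Set G) with hD
      have hle : A ⊓ B ≤ D := fun g hg => by
        obtain ⟨h1, h2⟩ := Subgroup.mem_inf.1 hg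
        exact Subgroup.mem_centralizer_singleton_iff.2 (((show Commute g x from Subgroup.mem_centralizer_singleton_iff.1 h1).mul_right
          (show Commute g y from Subgroup.mem_centralizer_singleton_iff.1 h2)).eq)
      have h1 : (A ⊓ B).index ≤ D.index := (Subgroup.index_inf_le ..).trans (h x y hx hy).ge
      have h2 : A ⊓ B = D := by
        refine Subgroup.eq_of_le_of_card_ge hle ?_
        have e1 := Subgroup.card_mul_index (A ⊓ B)
        rw [← Subgroup.card_mul_index D] at e1
        by_contra hlt
        push Not at hlt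
        have h3 : 0 < D.index := Nat.pos_of_ne_zero Subgroup.index_ne_zero_of_finite
        exact absurd e1 (ne_of_lt (lt_of_le_of_lt (Nat.mul_le_mul_left _ h1) (Nat.mul_lt_mul_of_pos_right hlt h3)))
      have h3 : x * y ∈ A ⊓ B := h2 ▸ Subgroup.mem_centralizer_singleton_iff.2 rfl
      have h4 := Subgroup.mem_centralizer_singleton_iff.1 (Subgroup.mem_inf.1 h3).1
      rw [mul_assoc] at h4
      exact (mul_left_cancel h4).symm
    obtain ⟨P⟩ : Nonempty (Sylow p G) := inferInstance
    have hcen : ∀ q b : ℕ, q.Prime → q ≠ p → ∀ y : G, orderOf y = q ^ b → ∀ u ∈ (P : Subgroup G), Commute u y := by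
      intro q b hq hqp y hy u hu
      obtain ⟨a, ha⟩ := IsPGroup.iff_orderOf.1 P.isPGroup' ⟨u, hu⟩
      exact hcomm u y ⟨a, by rw [← ha, Subgroup.orderOf_mk]⟩ ⟨q, b, hq, hqp, hy⟩
    have htop : Subgroup.normalizer ((P : Subgroup G) : Set G) = ⊤ := by
      refine eq_top_iff.2 fun g _ => CfsgLib.StructB.mem_of_forall_primePow _ g fun w _ q k hq hk hw _ => ?_
      by_cases hqp : q = p
      · subst hqp
        refine Subgroup.le_normalizer ?_
        have hN : (P : Subgroup G) ⊔ Subgroup.centralizer ((P : Subgroup G) : Set G) ≤ Subgroup.normalizer ((P : Subgroup G) : Set G) :=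
          sup_le Subgroup.le_normalizer (Subgroup.centralizer_le_normalizer _)
        -- every `q'`-element centralises `w`, so the Sylow subgroups coincide
        obtain ⟨R, hR⟩ := (IsPGroup.of_card (n := k) (by rw [Nat.card_zpowers, hw]) : IsPGroup q (Subgroup.zpowers w)).exists_le_sylow
        obtain ⟨c, hc⟩ := MulAction.exists_smul_eq G P R
        have hcN : c ∈ Subgroup.normalizer ((P : Subgroup G) : Set G) := by
          have hsupN : (P : Subgroup G) ⊔ Subgroup.centralizer ((P : Subgroup G) : Set G) = ⊤ := by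
            refine Subgroup.eq_top_of_card_eq _ (Nat.dvd_antisymm (Subgroup.card_subgroup_dvd_card _)
              ((Nat.dvd_iff_prime_pow_dvd_dvd _ _).2 fun r j hr hj => ?_))
            haveI : Fact r.Prime := ⟨hr⟩
            obtain ⟨T⟩ : Nonempty (Sylow r G) := inferInstance
            refine (T.pow_dvd_card_of_pow_dvd_card hj).trans ?_
            by_cases hrp : r = q
            · subst hrp
              rw [T.card_eq_multiplicity, ← P.card_eq_multiplicity]
              exact Subgroup.card_dvd_of_le le_sup_left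
            · refine Subgroup.card_dvd_of_le fun y hy => Subgroup.mem_sup_right (Subgroup.mem_centralizer_iff.2 fun u hu => ?_)
              obtain ⟨b, hb⟩ := IsPGroup.iff_orderOf.1 T.isPGroup' ⟨y, hy⟩
              exact (hcen r b hr hrp y (by rw [← hb, Subgroup.orderOf_mk]) u hu).eq
          exact hN (hsupN ▸ Subgroup.mem_top c)
        rw [Sylow.smul_eq_iff_mem_normalizer.2 hcN] at hc
        exact hc ▸ hR (Subgroup.mem_zpowers w)
      · refine Subgroup.centralizer_le_normalizer _ (Subgroup.mem_centralizer_iff.2 fun u hu => ?_)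
        exact (hcen q k hq hqp w hw u hu).eq
    haveI hPn : (P : Subgroup G).Normal := Subgroup.normalizer_eq_top_iff.1 htop
    obtain ⟨K, hK⟩ := Subgroup.exists_right_complement'_of_coprime (N := (P : Subgroup G)) P.card_coprime_index
    have hKc : ∀ v ∈ K, ∀ u ∈ (P : Subgroup G), Commute u v := by
      intro v hv u hu
      have : v ∈ Subgroup.centralizer ({u} : Set G) := by
        refine CfsgLib.StructB.mem_of_forall_primePow _ v fun w _ q k hq hk hw hdv => ?_
        have hqp : q ≠ p := by
          rintro rfl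
          have h1 : q ∣ Nat.card K := (dvd_pow_self q (by omega)).trans (hdv.trans (Subgroup.orderOf_dvd_natCard K hv))
          rw [← hK.symm.index_eq_card] at h1
          exact P.not_dvd_index h1
        exact Subgroup.mem_centralizer_singleton_iff.2 (hcen q k hq hqp w hw u hu).eq.symm
      exact (Subgroup.mem_centralizer_singleton_iff.1 this).symm
    refine ⟨P, K, hPn, ⟨fun v hv g => ?_⟩, hK.disjoint.eq_bot, hK.sup_eq_top⟩
    obtain ⟨u, hu, v', hv', rfl⟩ := Subgroup.mem_sup_of_normal_left.1 (hK.sup_eq_top.symm ▸ Subgroup.mem_top g)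
    rw [show u * v' * v * (u * v')⁻¹ = u * (v' * v * v'⁻¹) * u⁻¹ by group,
      (hKc _ (mul_mem (mul_mem hv' hv) (inv_mem hv')) u hu).eq, mul_inv_cancel_right]
    exact mul_mem (mul_mem hv' hv) (inv_mem hv')

end Cfsg.Agent.S3987
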