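import Cfsg.Statements.S3994
import Cfsg.Agent.Lib.StructC.FrobCount
-- import your own Cfsg.Agent.* helpers here

set_option autoImplicit false
open Cfsg

namespace Cfsg.Agent.S3994

/-- Let G be a finite group and n a positive integer. The number of elements of G whose order is divisible by n is either 0 or divisible by the largest divisor of the order of G that is coprime to n. -/
theorem result {G : Type*} [Group G] [Finite G] (n : ℕ) (hn : 0 < n) :
    Nat.card {g : G // n ∣ orderOf g} = 0 ∨
      (Nat.card G / Nat.gcd (Nat.card G) (n ^ Nat.card G)) ∣ Nat.card {g : G // n ∣ orderOf g} := by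
  classical
  have hn0 := hn.ne'
  by_cases hnG : n ∣ Nat.card G
  swap
  · left
    haveI : IsEmpty {g : G // n ∣ orderOf g} := ⟨fun g => hnG (g.2.trans (orderOf_dvd_natCard g.1))⟩
    exact Nat.card_of_isEmpty
  right
  set N := Nat.card G with hN
  set d0 := Nat.gcd N (n ^ N) with hd0
  set m := N / d0 with hm
  have hmN : m ∣ N := Nat.div_dvd_of_dvd (Nat.gcd_dvd_left _ _)
  have hNpos : 0 < N := Nat.card_pos
  let D : ℕ → ℕ := fun p => N / p ^ (N.factorization p - n.factorization p + 1)
  have hfac : ∀ p, p.Prime → p ∣ n → d0.factorization p = N.factorization p := by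
    intro p hp hpn
    have h1 : p ^ N.factorization p ∣ n ^ N := by
      refine (pow_dvd_pow p ?_).trans (pow_dvd_pow_of_dvd hpn N)
      exact (Nat.factorization_lt p hNpos.ne').le
    rw [hd0, Nat.factorization_gcd hNpos.ne' (pow_ne_zero _ hn0), Finsupp.inf_apply]
    exact min_eq_left ((hp.pow_dvd_iff_le_factorization (pow_ne_zero _ hn0)).1 h1)
  have hmp : ∀ p, p.Prime → p ∣ n → ¬ p ∣ m := by
    intro p hp hpn hd
    have h1 : m.factorization p = 0 := by
      rw [hm, Nat.factorization_div (Nat.gcd_dvd_left _ _), Finsupp.tsub_apply, hfac p hp hpn, Nat.sub_self]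
    have hm0 : m ≠ 0 := fun e => hNpos.ne' (Nat.eq_zero_of_zero_dvd (e ▸ hmN))
    exact absurd ((hp.dvd_iff_one_le_factorization hm0).1 hd) (by omega)
  have hpow : ∀ p, p.Prime → p ∣ n → p ^ (N.factorization p - n.factorization p + 1) ∣ N := by
    intro p hp hpn
    refine (hp.pow_dvd_iff_le_factorization hNpos.ne').2 ?_
    have h1 : 1 ≤ n.factorization p := (hp.dvd_iff_one_le_factorization hn0).1 hpn
    have h2 : n.factorization p ≤ N.factorization p := (Nat.factorization_le_iff_dvd hn0 hNpos.ne').2 hnG p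
    omega
  have hDm : ∀ p, p.Prime → p ∣ n → m ∣ D p := by
    intro p hp hpn
    show m ∣ N / p ^ _
    exact Nat.Coprime.dvd_of_dvd_mul_left (Nat.Coprime.pow_right _ ((hp.coprime_iff_not_dvd).2 (hmp p hp hpn)).symm)
      (by rw [Nat.mul_div_cancel' (hpow p hp hpn)]; exact hmN)
  have key : ∀ T : Finset ℕ, (∀ p ∈ T, p.Prime ∧ p ∣ n) → ∀ d, d ∣ N → m ∣ d →
      m ∣ Nat.card {g : G // orderOf g ∣ d ∧ ∀ p ∈ T, ¬ orderOf g ∣ D p} := by
    intro T
    induction T using Finset.induction_on with
    | empty =>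
      intro _ d hd hmd
      rw [Nat.card_congr (Equiv.subtypeEquivRight fun g : G => show (orderOf g ∣ d ∧ ∀ p ∈ (∅ : Finset ℕ), ¬ orderOf g ∣ D p) ↔ g ^ d = 1 from
        ⟨fun h => orderOf_dvd_iff_pow_eq_one.1 h.1, fun h => ⟨orderOf_dvd_of_pow_eq_one h, by simp⟩⟩)]
      exact hmd.trans (CfsgLib.StructC.dvd_card_pow_eq_one d hd)
    | insert q T hqT ih =>
      intro hT d hd hmd
      have ih' := ih fun p hp => hT p (Finset.mem_insert_of_mem hp)
      obtain ⟨hq, hqn⟩ := hT q (Finset.mem_insert_self q T)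
      have h1 := ih' d hd hmd
      have h2 := ih' (Nat.gcd d (D q)) ((Nat.gcd_dvd_left _ _).trans hd) (Nat.dvd_gcd hmd (hDm q hq hqn))
      have e : Nat.card {g : G // orderOf g ∣ d ∧ ∀ p ∈ T, ¬ orderOf g ∣ D p} =
          Nat.card {g : G // orderOf g ∣ d ∧ ∀ p ∈ insert q T, ¬ orderOf g ∣ D p} +
          Nat.card {g : G // orderOf g ∣ Nat.gcd d (D q) ∧ ∀ p ∈ T, ¬ orderOf g ∣ D p} := by
        rw [← Nat.card_sum]
        refine Nat.card_congr
          { toFun := fun g => if h : orderOf g.1 ∣ D q then Sum.inr ⟨g.1, Nat.dvd_gcd g.2.1 h, g.2.2⟩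
              else Sum.inl ⟨g.1, g.2.1, fun p hp => (Finset.mem_insert.1 hp).elim (fun e => e ▸ h) (g.2.2 p)⟩
            invFun := fun s => match s with
              | Sum.inl g => ⟨g.1, g.2.1, fun p hp => g.2.2 p (Finset.mem_insert_of_mem hp)⟩
              | Sum.inr g => ⟨g.1, g.2.1.trans (Nat.gcd_dvd_left _ _), g.2.2⟩
            left_inv := fun g => by
              by_cases h : orderOf g.1 ∣ D q <;> simp [h]
            right_inv := fun s => by
              rcases s with g | g
              · simp [g.2.2 q (Finset.mem_insert_self q T)]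
              · simp [g.2.1.trans (Nat.gcd_dvd_right d (D q))] }
      rw [e] at h1
      exact (Nat.dvd_add_left h2).1 h1
  have h := key n.primeFactors (fun p hp => ⟨Nat.prime_of_mem_primeFactors hp, Nat.dvd_of_mem_primeFactors hp⟩) N dvd_rfl hmN
  refine h.trans (dvd_of_eq (Nat.card_congr (Equiv.subtypeEquivRight fun g => ?_)))
  have hog : orderOf g ∣ N := orderOf_dvd_natCard g
  constructor
  · rintro ⟨-, hall⟩
    refine (Nat.factorization_le_iff_dvd hn0 (orderOf_pos g).ne').1 fun p => ?_
    by_cases hp : p ∈ n.primeFactors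
    swap
    · rw [← Nat.support_factorization, Finsupp.notMem_support_iff] at hp
      rw [hp]; exact Nat.zero_le _
    have hpp := Nat.prime_of_mem_primeFactors hp
    have hpd := hpow p hpp (Nat.dvd_of_mem_primeFactors hp)
    by_contra hlt
    refine hall p hp ((Nat.factorization_le_iff_dvd (orderOf_pos g).ne'
      (Nat.div_pos (Nat.le_of_dvd hNpos hpd) (pow_pos hpp.pos _)).ne').1 fun q => ?_)
    rw [Nat.factorization_div hpd, Finsupp.tsub_apply, Nat.Prime.factorization_pow hpp]
    have hq := (Nat.factorization_le_iff_dvd (orderOf_pos g).ne' hNpos.ne').2 hog q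
    by_cases hqp : q = p
    · subst hqp
      rw [Finsupp.single_eq_same]
      have := (Nat.factorization_le_iff_dvd hn0 hNpos.ne').2 hnG q
      omega
    · rw [Finsupp.single_eq_of_ne hqp]; omega
  · intro hng
    refine ⟨hog, fun p hp hd => ?_⟩
    have hpp := Nat.prime_of_mem_primeFactors hp
    have hpd := hpow p hpp (Nat.dvd_of_mem_primeFactors hp)
    have h1 := (Nat.factorization_le_iff_dvd hn0 (Nat.div_pos (Nat.le_of_dvd hNpos hpd) (pow_pos hpp.pos _)).ne').2 (hng.trans hd) p
    rw [Nat.factorization_div hpd, Finsupp.tsub_apply, Nat.Prime.factorization_pow hpp, Finsupp.single_eq_same] at h1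
    have h2 := (hpp.dvd_iff_one_le_factorization hn0).1 (Nat.dvd_of_mem_primeFactors hp)
    omega

end Cfsg.Agent.S3994
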