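import Cfsg.Statements.S3995
import Cfsg.Agent.Lib.StructC.FrobCount
import Cfsg.Agent.Lib.StructC.UniqueInvol

set_option linter.style.haveILetI false
set_option linter.unusedSectionVars false
set_option autoImplicit false
open Cfsg

namespace Cfsg.Agent.S3995

open Finset

section
variable {G : Type*} [Group G] [Finite G]

/-- The number of elements of order `m`. -/
noncomputable def cnt (G : Type*) [Group G] (m : ℕ) : ℕ := Nat.card {g : G // orderOf g = m}

theorem totient_dvd_cnt (m : ℕ) : Nat.totient m ∣ cnt G m := by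
  classical
  haveI := Fintype.ofFinite G
  rw [cnt, Nat.card_eq_fintype_card, Fintype.card_subtype,
    Finset.card_eq_sum_card_image (fun g : G => Subgroup.zpowers g)]
  refine Finset.dvd_sum fun Z hZ => ?_
  obtain ⟨g, hg, rfl⟩ := Finset.mem_image.1 hZ
  rw [Finset.mem_filter] at hg
  haveI := Fintype.ofFinite (Subgroup.zpowers g)
  have hm : m ∣ Fintype.card (Subgroup.zpowers g) := by
    rw [← Nat.card_eq_fintype_card, Nat.card_zpowers, hg.2]
  rw [← IsCyclic.card_orderOf_eq_totient (α := Subgroup.zpowers g) hm]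
  refine dvd_of_eq (Finset.card_bij (fun a _ => (a : G)) ?_ ?_ ?_)
  · intro a ha
    rw [Finset.mem_filter] at ha
    simp only [Finset.mem_filter, Finset.mem_univ, true_and]
    refine ⟨by rw [Subgroup.orderOf_coe]; exact ha.2, ?_⟩
    refine Subgroup.eq_of_le_of_card_ge (Subgroup.zpowers_le.2 a.2) ?_
    rw [Nat.card_zpowers, Nat.card_zpowers, hg.2, Subgroup.orderOf_coe, ha.2]
  · intro a _ b _ h; exact Subtype.ext h
  · intro b hb
    simp only [Finset.mem_filter, Finset.mem_univ, true_and] at hb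
    exact ⟨⟨b, hb.2 ▸ Subgroup.mem_zpowers b⟩, by simp [Subgroup.orderOf_mk, hb.1], rfl⟩

theorem card_root_eq_sum {d : ℕ} (hd : d ≠ 0) :
    Nat.card {x : G // x ^ d = 1} = ∑ e ∈ d.divisors, cnt G e := by
  classical
  haveI := Fintype.ofFinite G
  simp only [cnt, Nat.card_eq_fintype_card, Fintype.card_subtype]
  rw [Finset.card_eq_sum_card_fiberwise (f := orderOf) (t := d.divisors) (fun x hx => by
    simp only [Finset.coe_filter, Finset.mem_univ, true_and, Set.mem_setOf_eq] at hx
    exact Nat.mem_divisors.2 ⟨orderOf_dvd_of_pow_eq_one hx, hd⟩)]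
  refine Finset.sum_congr rfl fun e he => ?_
  congr 1
  ext x
  simp only [Finset.mem_filter, Finset.mem_univ, true_and]
  exact ⟨fun h => h.2, fun h => ⟨orderOf_dvd_iff_pow_eq_one.1 (h ▸ Nat.dvd_of_mem_divisors he), h⟩⟩

theorem card_eq_sum [Fintype G] [DecidableEq G] :
    Nat.card G = ∑ e ∈ Finset.univ.image (orderOf : G → ℕ), cnt G e := by
  rw [Nat.card_eq_fintype_card, ← Finset.card_univ, Finset.card_eq_sum_card_image orderOf]
  refine Finset.sum_congr rfl fun e _ => ?_
  rw [cnt, Nat.card_eq_fintype_card, Fintype.card_subtype]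

theorem cnt_one : cnt G 1 = 1 := by
  rw [cnt, Nat.card_eq_one_iff_unique]
  exact ⟨⟨fun a b => Subtype.ext (by rw [orderOf_eq_one_iff.1 a.2, orderOf_eq_one_iff.1 b.2])⟩,
    ⟨⟨1, orderOf_one⟩⟩⟩

theorem prime_dvd_cnt_add_one {p : ℕ} (hp : p.Prime) (hd : p ∣ Nat.card G) : p ∣ cnt G p + 1 := by
  have h := CfsgLib.StructC.dvd_card_pow_eq_one (G := G) p hd
  rw [card_root_eq_sum hp.ne_zero, hp.sum_divisors, cnt_one] at h
  exact h

theorem range_mem_of_dvd {d : ℕ} {g : G} (h : d ∣ orderOf g) : d ∈ Set.range (orderOf : G → ℕ) :=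
  ⟨g ^ (orderOf g / d), orderOf_pow_orderOf_div (orderOf_pos g).ne' h⟩

theorem range_prime {p : ℕ} (hp : p.Prime) (hd : p ∣ Nat.card G) :
    p ∈ Set.range (orderOf : G → ℕ) := by
  haveI := Fact.mk hp
  obtain ⟨g, hg⟩ := exists_prime_orderOf_dvd_card' p hd
  exact ⟨g, hg⟩

theorem dvd_card_of_range {m : ℕ} (hm : m ∈ Set.range (orderOf : G → ℕ)) : m ∣ Nat.card G := by
  obtain ⟨g, rfl⟩ := hm; exact orderOf_dvd_natCard g

variable {n : ℕ}

theorem cnt_cases (h : ((fun m : ℕ => cnt G m) '' Set.range (orderOf : G → ℕ)) = {1, n}) {m : ℕ}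
    (hm : m ∈ Set.range (orderOf : G → ℕ)) : cnt G m = 1 ∨ cnt G m = n := by
  have : cnt G m ∈ ({1, n} : Set ℕ) := h ▸ ⟨m, hm, rfl⟩
  simpa using this

theorem cnt_eq (h : ((fun m : ℕ => cnt G m) '' Set.range (orderOf : G → ℕ)) = {1, n}) {m : ℕ}
    (hm : m ∈ Set.range (orderOf : G → ℕ)) (h3 : 3 ≤ m) : cnt G m = n := by
  refine (cnt_cases h hm).resolve_left fun h1 => ?_
  have := totient_dvd_cnt (G := G) m
  rw [h1, Nat.dvd_one, Nat.totient_eq_one_iff] at this
  omega

theorem odd_sq_free (h : ((fun m : ℕ => cnt G m) '' Set.range (orderOf : G → ℕ)) = {1, n})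
    {p : ℕ} (hp : p.Prime) (hc : cnt G p = n) (g : G) : ¬ p * p ∣ orderOf g := by
  intro hd
  have hm := range_mem_of_dvd hd
  have h2 := hp.two_le
  have h4 : 3 ≤ p * p := by nlinarith
  have h1 := totient_dvd_cnt (G := G) (p * p)
  rw [cnt_eq h hm h4, ← pow_two, Nat.totient_prime_pow hp two_pos] at h1
  have h3 : p ∣ n :=
    (dvd_mul_of_dvd_left (dvd_pow_self p (by norm_num : (2 - 1 : ℕ) ≠ 0)) _).trans h1
  have h5 := prime_dvd_cnt_add_one hp ((dvd_mul_right p p).trans (dvd_card_of_range hm))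
  rw [hc] at h5
  have := (Nat.dvd_add_right h3).1 h5
  exact hp.one_lt.ne' (Nat.dvd_one.1 this)

theorem no_pq (h : ((fun m : ℕ => cnt G m) '' Set.range (orderOf : G → ℕ)) = {1, n})
    {p q : ℕ} (hp : p.Prime) (hq : q.Prime) (hpq : p ≠ q) (hcp : cnt G p = n) (hcq : cnt G q = n)
    (g : G) : ¬ p * q ∣ orderOf g := by
  intro hd
  have hm := range_mem_of_dvd hd
  have h6 : 6 ≤ p * q := by
    rcases Nat.lt_or_ge p q with hlt | hge
    · calc 6 = 2 * 3 := rfl
        _ ≤ p * q := Nat.mul_le_mul hp.two_le (by have := hp.two_le; omega)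
    · calc 6 = 3 * 2 := rfl
        _ ≤ p * q := Nat.mul_le_mul (by have := hq.two_le; omega) hq.two_le
  have hdG := dvd_card_of_range hm
  have hs := CfsgLib.StructC.dvd_card_pow_eq_one (G := G) (p * q) hdG
  have hdv : (p * q).divisors = {1, p, q, p * q} := by
    ext d
    simp only [Nat.mem_divisors, Finset.mem_insert, Finset.mem_singleton]
    refine ⟨fun ⟨hd, _⟩ => ?_, ?_⟩
    · obtain ⟨a, b, ha, hb, rfl⟩ := Nat.dvd_mul.1 hd
      rcases (Nat.dvd_prime hp).1 ha with rfl | rfl <;> rcases (Nat.dvd_prime hq).1 hb with rfl | rfl <;> simp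
    · rintro (rfl | rfl | rfl | rfl) <;>
        exact ⟨by simp, by omega⟩
  have h1 : 1 ∉ ({p, q, p * q} : Finset ℕ) := by
    simp [hp.one_lt.ne, hq.one_lt.ne]; omega
  have h2 : p ∉ ({q, p * q} : Finset ℕ) := by
    simp [hpq, hq.one_lt.ne', hp.ne_zero]
  have h3 : q ∉ ({p * q} : Finset ℕ) := by
    simp [hp.one_lt.ne', hq.ne_zero]
  rw [card_root_eq_sum (by omega), hdv, Finset.sum_insert h1, Finset.sum_insert h2,
    Finset.sum_insert h3, Finset.sum_singleton, cnt_one, hcp, hcq, cnt_eq h hm (by omega)] at hs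
  have key : ∀ r : ℕ, r.Prime → r ∣ p * q → r ∣ n + 1 → r = 2 := by
    intro r hr hrd hrn
    have ha : r ∣ 1 + (n + (n + n)) := hrd.trans hs
    have hb : r ∣ 3 * (n + 1) := Dvd.dvd.mul_left hrn 3
    rw [show 3 * (n + 1) = (1 + (n + (n + n))) + 2 by ring, Nat.dvd_add_right ha] at hb
    exact (Nat.prime_dvd_prime_iff_eq hr Nat.prime_two).1 hb
  have e1 := key p hp (dvd_mul_right p q)
    (hcp ▸ prime_dvd_cnt_add_one hp ((dvd_mul_right p q).trans hdG))
  have e2 := key q hq (dvd_mul_left q p)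
    (hcq ▸ prime_dvd_cnt_add_one hq ((dvd_mul_left q p).trans hdG))
  omega

/-- All element orders are 1 or prime when every prime has count `n`. -/
theorem orders_prime (h : ((fun m : ℕ => cnt G m) '' Set.range (orderOf : G → ℕ)) = {1, n})
    (hc : ∀ p : ℕ, p.Prime → p ∣ Nat.card G → cnt G p = n) (g : G) :
    orderOf g = 1 ∨ (orderOf g).Prime := by
  by_contra hne
  push Not at hne
  obtain ⟨h1, h2⟩ := hne
  obtain ⟨p, hp, b, hb⟩ := Nat.exists_prime_and_dvd h1
  rcases eq_or_ne b 1 with rfl | hb1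
  · rw [mul_one] at hb; exact h2 (hb ▸ hp)
  obtain ⟨q, hq, hqb⟩ := Nat.exists_prime_and_dvd hb1
  have hd : p * q ∣ orderOf g := hb ▸ Nat.mul_dvd_mul_left p hqb
  have hG := hd.trans (orderOf_dvd_natCard g)
  by_cases hpq : p = q
  · subst hpq
    exact odd_sq_free h hp (hc p hp ((dvd_mul_right p p).trans hG)) g hd
  · exact no_pq h hp hq hpq (hc p hp ((dvd_mul_right p q).trans hG))
      (hc q hq ((dvd_mul_left q p).trans hG)) g hd

theorem pow_card_le {s : Finset ℕ} {b : ℕ} (hs : ∀ p ∈ s, b ≤ p) :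
    b ^ s.card ≤ ∏ p ∈ s, p := by
  rw [← Finset.prod_const]
  exact Finset.prod_le_prod' fun p hp => hs p hp

/-- Case I: one prime only. -/
theorem one_prime (h : ((fun m : ℕ => cnt G m) '' Set.range (orderOf : G → ℕ)) = {1, n})
    (hc : ∀ p : ℕ, p.Prime → p ∣ Nat.card G → cnt G p = n) (hn : n ≠ 1) :
    ∃ p : ℕ, p.Prime ∧ IsPGroup p G ∧ 3 ≤ Nat.card G ∧ Monoid.exponent G = p := by
  classical
  haveI := Fintype.ofFinite G
  have hS : Finset.univ.image (orderOf : G → ℕ) = insert 1 (Nat.card G).primeFactors := by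
    ext e
    simp only [Finset.mem_image, Finset.mem_univ, true_and, Finset.mem_insert,
      Nat.mem_primeFactors]
    refine ⟨?_, ?_⟩
    · rintro ⟨g, rfl⟩
      exact (orders_prime h hc g).imp id fun hp => ⟨hp, orderOf_dvd_natCard g, Nat.card_pos.ne'⟩
    · rintro (rfl | ⟨hp, hd, -⟩)
      · exact ⟨1, orderOf_one⟩
      · exact range_prime hp hd
  set K := (Nat.card G).primeFactors with hK
  have hK1 : 1 ∉ K := fun h1 => Nat.not_prime_one (Nat.prime_of_mem_primeFactors h1)
  have hcard : Nat.card G = 1 + K.card * n := by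
    rw [card_eq_sum, hS, Finset.sum_insert hK1, cnt_one]
    rw [Finset.sum_congr rfl fun p hp => hc p (Nat.prime_of_mem_primeFactors hp)
      (Nat.dvd_of_mem_primeFactors hp), Finset.sum_const, smul_eq_mul]
  have hKne : K.card ≠ 0 := by
    intro h0
    rw [h0, zero_mul, add_zero] at hcard
    have hn' : n ∈ ({1, n} : Set ℕ) := by simp
    rw [← h] at hn'
    obtain ⟨m, ⟨g, rfl⟩, hm⟩ := hn'
    have hsub : Subsingleton G := (Nat.card_eq_one_iff_unique.1 hcard).1
    simp only at hm
    rw [Subsingleton.elim g 1, orderOf_one, cnt_one] at hm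
    exact hn hm.symm
  have hdiv : ∀ p ∈ K, p ∣ K.card - 1 := by
    intro p hp
    have hpp := Nat.prime_of_mem_primeFactors hp
    have hd := Nat.dvd_of_mem_primeFactors hp
    have h1 : p ∣ n + 1 := hc p hpp hd ▸ prime_dvd_cnt_add_one hpp hd
    have h2 : p ∣ K.card * (n + 1) := dvd_mul_of_dvd_right h1 _
    rw [show K.card * (n + 1) = (1 + K.card * n) + (K.card - 1) by
      rw [mul_add, mul_one]; omega, ← hcard, Nat.dvd_add_right hd] at h2
    exact h2
  have hk : K.card = 1 := by
    by_contra hk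
    have : ∏ p ∈ K, p ≤ K.card - 1 := Nat.le_of_dvd (by omega) (Finset.prod_primes_dvd (K.card - 1)
      (fun p hp => (Nat.prime_of_mem_primeFactors hp).prime) hdiv)
    have := pow_card_le (s := K) (b := 2) fun p hp => (Nat.prime_of_mem_primeFactors hp).two_le
    have := Nat.lt_two_pow_self (n := K.card)
    omega
  obtain ⟨p, hp⟩ := Finset.card_eq_one.1 hk
  have hpK : p ∈ K := hp ▸ Finset.mem_singleton_self p
  have hpp := Nat.prime_of_mem_primeFactors hpK
  haveI := Fact.mk hpp
  have hord : ∀ g : G, g ≠ 1 → orderOf g = p := fun g hg => by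
    have h1 := (orders_prime h hc g).resolve_left fun h1 => hg (orderOf_eq_one_iff.1 h1)
    have : orderOf g ∈ K :=
      Nat.mem_primeFactors.2 ⟨h1, orderOf_dvd_natCard g, Nat.card_pos.ne'⟩
    rwa [hp, Finset.mem_singleton] at this
  have h3 : 3 ≤ Nat.card G := by
    have h1 := prime_dvd_cnt_add_one hpp (Nat.dvd_of_mem_primeFactors hpK)
    rw [hc p hpp (Nat.dvd_of_mem_primeFactors hpK)] at h1
    have := Nat.le_of_dvd (by omega) h1
    have := hpp.two_le
    rw [hk, one_mul] at hcard
    omega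
  haveI : Nontrivial G := Finite.one_lt_card_iff_nontrivial.1 (by omega)
  refine ⟨p, hpp, fun g => ⟨1, ?_⟩, h3, (Monoid.exponent_eq_prime_iff hpp).2 hord⟩
  rcases eq_or_ne g 1 with rfl | hg
  · exact one_pow _
  · rw [pow_one, ← hord g hg, pow_orderOf_eq_one]

theorem two_mul_lt_three_pow (k : ℕ) : 2 * k < 3 ^ k := by
  induction k with
  | zero => simp
  | succ k ih => rw [pow_succ]; omega

/-- Case II: a single involution. -/
theorem two_case (h : ((fun m : ℕ => cnt G m) '' Set.range (orderOf : G → ℕ)) = {1, n})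
    (h2 : 2 ∣ Nat.card G) (hc2 : cnt G 2 = 1) (hn : n ≠ 1) :
    Nonempty (G ≃* QuaternionGroup 2) ∨ (IsCyclic G ∧ Nat.card G = 4) ∨
      (∃ (p : ℕ) (P : Type) (_ : Group P) (_ : Finite P), p.Prime ∧ p ≠ 2 ∧ IsPGroup p P ∧
        Monoid.exponent P = p ∧ Nonempty (G ≃* Multiplicative (ZMod 2) × P)) := by
  classical
  haveI := Fintype.ofFinite G
  haveI : Fact (Nat.Prime 2) := ⟨Nat.prime_two⟩
  obtain ⟨z, hz⟩ := exists_prime_orderOf_dvd_card' (G := G) 2 h2
  have huniq : ∀ y : G, orderOf y = 2 → y = z := by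
    intro y hy
    have := (Nat.card_eq_one_iff_unique.1 hc2).1
    exact congrArg Subtype.val
      (Subsingleton.elim (⟨y, hy⟩ : {g : G // orderOf g = 2}) ⟨z, hz⟩)
  have hzc : ∀ g : G, Commute z g := fun g => by
    have := huniq (g * z * g⁻¹) (by rw [← MulAut.conj_apply, MulEquiv.orderOf_eq, hz])
    exact (mul_inv_eq_iff_eq_mul.1 this).symm
  have hcodd : ∀ p : ℕ, p.Prime → p ≠ 2 → p ∣ Nat.card G → cnt G p = n := fun p hp hp2 hd =>
    cnt_eq h (range_prime hp hd) (by have := hp.two_le; omega)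
  have hzg : ∀ (p : ℕ) (g : G), p.Prime → p ≠ 2 → orderOf g = p → orderOf (z * g) = 2 * p := by
    intro p g hp hp2 hg
    rw [(hzc g).orderOf_mul_eq_mul_orderOf_of_coprime (by
      rw [hz, hg]; exact (Nat.coprime_primes Nat.prime_two hp).2 (Ne.symm hp2)), hz, hg]
  have h48 : ∀ g : G, ¬ 8 ∣ orderOf g := by
    intro g hd
    have h8 := range_mem_of_dvd hd
    have h4 : 4 ∈ Set.range (orderOf : G → ℕ) := range_mem_of_dvd ((by norm_num : 4 ∣ 8).trans hd)
    have ht := totient_dvd_cnt (G := G) 8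
    rw [cnt_eq h h8 (by norm_num), show Nat.totient 8 = 4 by rfl] at ht
    have hs := CfsgLib.StructC.dvd_card_pow_eq_one (G := G) 4 (dvd_card_of_range h4)
    rw [card_root_eq_sum (by norm_num), show Nat.divisors 4 = {1, 2, 4} by rfl,
      Finset.sum_insert (by norm_num), Finset.sum_insert (by norm_num), Finset.sum_singleton,
      cnt_one, hc2, cnt_eq h h4 (by norm_num)] at hs
    omega
  have h4p : ∀ (p : ℕ) (g : G), p.Prime → p ≠ 2 → ¬ 4 * p ∣ orderOf g := by
    intro p g hp hp2 hd
    have hm := range_mem_of_dvd hd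
    have hp3 : 3 ≤ p := by have := hp.two_le; omega
    have hdG := dvd_card_of_range hm
    have hdv : (4 * p).divisors = {1, 2, 4, p, 2 * p, 4 * p} := by
      ext d
      simp only [Nat.mem_divisors, Finset.mem_insert, Finset.mem_singleton]
      refine ⟨fun ⟨hd, _⟩ => ?_, ?_⟩
      · obtain ⟨a, b, ha, hb, rfl⟩ := Nat.dvd_mul.1 hd
        have ha4 : a ∈ ({1, 2, 4} : Finset ℕ) := by
          rw [show ({1, 2, 4} : Finset ℕ) = Nat.divisors 4 by rfl, Nat.mem_divisors]
          exact ⟨ha, by norm_num⟩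
        simp only [Finset.mem_insert, Finset.mem_singleton] at ha4
        rcases ha4 with rfl | rfl | rfl <;> rcases (Nat.dvd_prime hp).1 hb with rfl | rfl <;> simp
      · rintro (rfl | rfl | rfl | rfl | rfl | rfl) <;>
          exact ⟨by first
            | simp
            | exact Nat.mul_dvd_mul_right (by norm_num) p
            | exact dvd_mul_of_dvd_left (by norm_num) p, by omega⟩
    have hs := CfsgLib.StructC.dvd_card_pow_eq_one (G := G) (4 * p) hdG
    have i1 : 1 ∉ ({2, 4, p, 2 * p, 4 * p} : Finset ℕ) := by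
      simp only [Finset.mem_insert, Finset.mem_singleton]; omega
    have i2 : 2 ∉ ({4, p, 2 * p, 4 * p} : Finset ℕ) := by
      simp only [Finset.mem_insert, Finset.mem_singleton]; omega
    have i3 : 4 ∉ ({p, 2 * p, 4 * p} : Finset ℕ) := by
      simp only [Finset.mem_insert, Finset.mem_singleton]
      rintro (h' | h' | h')
      · exact absurd (h'.symm ▸ hp) (by norm_num)
      · omega
      · omega
    have i4 : p ∉ ({2 * p, 4 * p} : Finset ℕ) := by
      simp only [Finset.mem_insert, Finset.mem_singleton]; omega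
    have i5 : 2 * p ∉ ({4 * p} : Finset ℕ) := by
      simp only [Finset.mem_singleton]; omega
    rw [card_root_eq_sum (by omega), hdv, Finset.sum_insert i1, Finset.sum_insert i2,
      Finset.sum_insert i3, Finset.sum_insert i4, Finset.sum_insert i5, Finset.sum_singleton,
      cnt_one, hc2,
      cnt_eq h (range_mem_of_dvd ((dvd_mul_right 4 p).trans hd)) (by norm_num),
      hcodd p hp hp2 ((dvd_mul_left p 4).trans hdG),
      cnt_eq h (range_mem_of_dvd
        ((Nat.mul_dvd_mul_right (by norm_num) p).trans hd : 2 * p ∣ orderOf g)) (by omega),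
      cnt_eq h hm (by omega)] at hs
    have h1 : p ∣ n + 1 :=
      hcodd p hp hp2 ((dvd_mul_left p 4).trans hdG) ▸
        prime_dvd_cnt_add_one hp ((dvd_mul_left p 4).trans hdG)
    have h2' : p ∣ 4 * (n + 1) := dvd_mul_of_dvd_right h1 4
    rw [show 4 * (n + 1) = (1 + (1 + (n + (n + (n + n))))) + 2 by ring,
      Nat.dvd_add_right ((dvd_mul_left p 4).trans hs)] at h2'
    exact hp2 ((Nat.prime_dvd_prime_iff_eq hp Nat.prime_two).1 h2')
  set K := ((Nat.card G).primeFactors).erase 2 with hK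
  have hKmem : ∀ p, p ∈ K ↔ p.Prime ∧ p ≠ 2 ∧ p ∣ Nat.card G := fun p => by
    simp [hK, Nat.mem_primeFactors]; tauto
  set S := Finset.univ.image (orderOf : G → ℕ) with hS
  have hSr : ∀ e, e ∈ S ↔ e ∈ Set.range (orderOf : G → ℕ) := fun e => by simp [hS]
  set D := S \ {1, 2} with hD
  have hform : ∀ g : G, orderOf g = 1 ∨ orderOf g = 2 ∨ orderOf g = 4 ∨ orderOf g ∈ K ∨
      ∃ p ∈ K, orderOf g = 2 * p := by
    intro g
    set m := orderOf g with hm
    have hm0 : m ≠ 0 := (orderOf_pos g).ne'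
    have hmG : m ∣ Nat.card G := orderOf_dvd_natCard g
    by_cases hodd : ∃ p : ℕ, p.Prime ∧ p ≠ 2 ∧ p ∣ m
    · obtain ⟨p, hp, hp2, b, hb⟩ := hodd
      have hpK : p ∈ K := (hKmem p).2 ⟨hp, hp2, (hb ▸ dvd_mul_right p b).trans hmG⟩
      have hb2 : ∀ q : ℕ, q.Prime → q ∣ b → q = 2 := by
        intro q hq hqb
        by_contra hq2
        have hd : p * q ∣ m := hb ▸ Nat.mul_dvd_mul_left p hqb
        by_cases hpq : p = q
        · subst hpq
          exact odd_sq_free h hp (hcodd p hp hp2 ((dvd_mul_right p p).trans (hd.trans hmG))) g hd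
        · exact no_pq h hp hq hpq (hcodd p hp hp2 ((dvd_mul_right p q).trans (hd.trans hmG)))
            (hcodd q hq hq2 ((dvd_mul_left q p).trans (hd.trans hmG))) g hd
      rcases eq_or_ne b 1 with rfl | hb1
      · exact Or.inr (Or.inr (Or.inr (Or.inl (by rw [hb, mul_one]; exact hpK))))
      obtain ⟨q, hq, hqb⟩ := Nat.exists_prime_and_dvd hb1
      obtain rfl := hb2 q hq hqb
      obtain ⟨c, rfl⟩ := hqb
      rcases eq_or_ne c 1 with rfl | hc1
      · exact Or.inr (Or.inr (Or.inr (Or.inr ⟨p, hpK, by rw [hb]; ring⟩)))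
      obtain ⟨q, hq, hqc⟩ := Nat.exists_prime_and_dvd hc1
      obtain rfl := hb2 q hq (hqc.trans (dvd_mul_left c 2))
      exfalso
      refine h4p p g hp hp2 ?_
      rw [← hm, hb, mul_comm 4 p]
      exact Nat.mul_dvd_mul_left p (Nat.mul_dvd_mul_left 2 hqc)
    · push Not at hodd
      obtain ⟨k, hk⟩ : ∃ k, m = 2 ^ k := ⟨_, Nat.eq_prime_pow_of_unique_prime_dvd hm0
        (fun {d} hd hdm => by by_contra h2; exact hodd d hd h2 hdm)⟩
      have : k < 3 := by
        by_contra hk3
        exact h48 g (by rw [← hm, hk]; exact pow_dvd_pow 2 (show 3 ≤ k by omega))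
      interval_cases k <;> simp at hk <;> simp [hk]
  set e := (D ∩ {4}).card with he
  have he1 : e ≤ 1 := (Finset.card_le_card Finset.inter_subset_right).trans (by simp)
  have hDcard : D.card = e + 2 * K.card := by
    have hsplit : D = (D ∩ {4}) ∪ (K ∪ K.image (2 * ·)) := by
      refine Finset.Subset.antisymm (fun x hx => ?_) (fun x hx => ?_)
      · have hxD := hx
        simp only [hD, Finset.mem_sdiff, Finset.mem_insert, Finset.mem_singleton] at hx
        obtain ⟨g, rfl⟩ := (hSr x).1 hx.1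
        rcases hform g with h' | h' | h' | h' | ⟨p, hp, h'⟩
        · exact absurd (Or.inl h') hx.2
        · exact absurd (Or.inr h') hx.2
        · exact Finset.mem_union_left _ (Finset.mem_inter.2 ⟨hxD, Finset.mem_singleton.2 h'⟩)
        · exact Finset.mem_union_right _ (Finset.mem_union_left _ h')
        · exact Finset.mem_union_right _ (Finset.mem_union_right _
            (Finset.mem_image.2 ⟨p, hp, h'.symm⟩))
      · rcases Finset.mem_union.1 hx with hx | hx
        · exact (Finset.mem_inter.1 hx).1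
        have aux : ∀ p, p ∈ K → p ∈ D ∧ 2 * p ∈ D := by
          intro p hp
          obtain ⟨hpp, hp2, hd⟩ := (hKmem p).1 hp
          obtain ⟨g, hg⟩ := range_prime hpp hd
          have := hpp.two_le
          simp only [hD, Finset.mem_sdiff, Finset.mem_insert, Finset.mem_singleton]
          exact ⟨⟨(hSr p).2 ⟨g, hg⟩, by omega⟩,
            ⟨(hSr _).2 ⟨z * g, hzg p g hpp hp2 hg⟩, by omega⟩⟩
        rcases Finset.mem_union.1 hx with hx | hx
        · exact (aux x hx).1
        · obtain ⟨p, hp, rfl⟩ := Finset.mem_image.1 hx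
          exact (aux p hp).2
    have hd1 : Disjoint K (K.image (2 * ·)) := by
      rw [Finset.disjoint_left]
      intro x hx hx'
      obtain ⟨p, hp, rfl⟩ := Finset.mem_image.1 hx'
      obtain ⟨hpp, -, -⟩ := (hKmem _).1 hx
      obtain ⟨hp', -, -⟩ := (hKmem _).1 hp
      exact Nat.not_prime_mul (by norm_num) hp'.one_lt.ne' hpp
    have hd2 : Disjoint (D ∩ {4}) (K ∪ K.image (2 * ·)) := by
      rw [Finset.disjoint_left]
      intro x hx hx'
      obtain rfl : x = 4 := Finset.mem_singleton.1 (Finset.mem_inter.1 hx).2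
      rcases Finset.mem_union.1 hx' with h' | h'
      · exact absurd ((hKmem 4).1 h').1 (by norm_num)
      · obtain ⟨p, hp, h'⟩ := Finset.mem_image.1 h'
        exact ((hKmem p).1 hp).2.1 (by omega)
    conv_lhs => rw [hsplit]
    rw [Finset.card_union_of_disjoint hd2, Finset.card_union_of_disjoint hd1,
      Finset.card_image_of_injective _ (fun a b hab => by simpa using hab), ← he, two_mul]
  have hge3 : ∀ m ∈ D, 3 ≤ m := by
    intro m hm
    simp only [hD, Finset.mem_sdiff, Finset.mem_insert, Finset.mem_singleton] at hm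
    obtain ⟨g, hg⟩ := (hSr m).1 hm.1
    have := orderOf_pos g
    omega
  have hcard : Nat.card G = 2 + D.card * n := by
    have h12 : ({1, 2} : Finset ℕ) ⊆ S := by
      intro x hx
      simp only [Finset.mem_insert, Finset.mem_singleton] at hx
      rcases hx with rfl | rfl
      · exact (hSr 1).2 ⟨1, orderOf_one⟩
      · exact (hSr 2).2 ⟨z, hz⟩
    rw [card_eq_sum, ← hS, ← Finset.sum_sdiff h12, ← hD, Finset.sum_insert (by norm_num),
      Finset.sum_singleton, cnt_one, hc2]
    rw [Finset.sum_congr rfl (fun m hm => cnt_eq h ((hSr m).1 (Finset.mem_sdiff.1 hm).1)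
      (hge3 m hm)), Finset.sum_const, smul_eq_mul]
    ring
  have hKdiv : ∀ p ∈ K, p ∣ D.card - 2 := by
    intro p hp
    obtain ⟨hpp, hp2, hd⟩ := (hKmem p).1 hp
    have hk1 : 1 ≤ K.card := Finset.card_pos.2 ⟨p, hp⟩
    have h1 : p ∣ n + 1 := hcodd p hpp hp2 hd ▸ prime_dvd_cnt_add_one hpp hd
    have h2' : p ∣ D.card * (n + 1) := dvd_mul_of_dvd_right h1 _
    rw [show D.card * (n + 1) = (2 + D.card * n) + (D.card - 2) by rw [mul_add, mul_one]; omega,
      ← hcard, Nat.dvd_add_right hd] at h2'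
    exact h2'
  have hk2 : K.card ≤ 1 := by
    by_contra hk
    have := Nat.le_of_dvd (by omega) (Finset.prod_primes_dvd (D.card - 2)
      (fun p hp => ((hKmem p).1 hp).1.prime) hKdiv)
    have := pow_card_le (s := K) (b := 3) fun p hp => by
      obtain ⟨hpp, hp2, -⟩ := (hKmem p).1 hp
      have := hpp.two_le; omega
    have := two_mul_lt_three_pow K.card
    omega
  rcases Nat.eq_zero_or_pos K.card with hk0 | hk0
  · have hord : ∀ g : G, orderOf g ∣ 4 := by
      intro g
      rcases hform g with h' | h' | h' | h' | ⟨p, hp, h'⟩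
      · rw [h']; norm_num
      · rw [h']; norm_num
      · rw [h']
      · rw [Finset.card_eq_zero.1 hk0] at h'; exact absurd h' (Finset.notMem_empty _)
      · rw [Finset.card_eq_zero.1 hk0] at hp; exact absurd hp (Finset.notMem_empty _)
    have h4 : ∃ g : G, orderOf g = 4 := by
      have hn' : n ∈ ({1, n} : Set ℕ) := by simp
      rw [← h] at hn'
      obtain ⟨m, ⟨g, rfl⟩, hm⟩ := hn'
      simp only at hm
      refine ⟨g, ?_⟩
      rcases (Nat.dvd_prime_pow Nat.prime_two (m := 2)).1 (by simpa using hord g) with ⟨i, hi, hgi⟩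
      interval_cases i
      · rw [hgi, pow_zero, cnt_one] at hm; exact absurd hm.symm hn
      · rw [hgi, pow_one, hc2] at hm; exact absurd hm.symm hn
      · simpa using hgi
    obtain ⟨g, hg⟩ := h4
    have hP : IsPGroup 2 G := fun x => ⟨2, by
      rw [show 2 ^ 2 = 4 by norm_num]; exact orderOf_dvd_iff_pow_eq_one.1 (hord x)⟩
    rcases CfsgLib.StructC.isCyclic_or_quaternion hP (fun a b ha hb _ => by
      rw [huniq b hb, ← huniq a ha]; exact Subgroup.mem_zpowers a) with hc | ⟨k, hk, ⟨φ⟩⟩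
    · refine Or.inr (Or.inl ⟨hc, ?_⟩)
      obtain ⟨c, hc'⟩ := hc.exists_ofOrder_eq_natCard
      exact Nat.dvd_antisymm (hc' ▸ hord c) (hg ▸ orderOf_dvd_natCard g)
    · refine Or.inl ?_
      have h1 := hord (φ.symm (QuaternionGroup.a 1))
      rw [MulEquiv.orderOf_eq, QuaternionGroup.orderOf_a_one] at h1
      have h2' : 2 ^ (k + 1) ≤ 2 ^ 2 := by
        rw [pow_succ, mul_comm]; exact Nat.le_of_dvd (by norm_num) h1
      have := (Nat.pow_le_pow_iff_right (le_refl 2)).1 h2'
      obtain rfl : k = 1 := by omega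
      exact ⟨φ⟩
  refine Or.inr (Or.inr ?_)
  obtain ⟨p, hp⟩ := Finset.card_eq_one.1 (show K.card = 1 by omega)
  obtain ⟨hpp, hp2, hpd⟩ := (hKmem p).1 (hp ▸ Finset.mem_singleton_self p)
  have he0 : e = 0 := by
    by_contra he0
    have := hKdiv p (hp ▸ Finset.mem_singleton_self p)
    rw [show D.card - 2 = 1 by omega, Nat.dvd_one] at this
    exact hpp.one_lt.ne' this
  have hord : ∀ g : G, orderOf g = 1 ∨ orderOf g = 2 ∨ orderOf g = p ∨ orderOf g = 2 * p := by
    intro g
    rcases hform g with h' | h' | h' | h' | ⟨q, hq, h'⟩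
    · exact Or.inl h'
    · exact Or.inr (Or.inl h')
    · exfalso
      have : (4 : ℕ) ∈ D ∩ {4} := by
        simp [hD, (hSr 4).2 ⟨g, h'⟩]
      rw [Finset.card_eq_zero.1 he0] at this
      exact Finset.notMem_empty _ this
    · rw [hp, Finset.mem_singleton] at h'; exact Or.inr (Or.inr (Or.inl h'))
    · rw [hp, Finset.mem_singleton] at hq; exact Or.inr (Or.inr (Or.inr (by rw [h', hq])))
  haveI := Fact.mk hpp
  obtain ⟨P⟩ : Nonempty (Sylow p G) := Sylow.nonempty
  have hPp : ∀ g ∈ (P : Subgroup G), g ≠ 1 → orderOf g = p := by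
    intro g hg hg1
    obtain ⟨j, hj⟩ := IsPGroup.iff_orderOf.1 P.2 ⟨g, hg⟩
    rw [Subgroup.orderOf_mk] at hj
    rcases hord g with h' | h' | h' | h'
    · exact absurd (orderOf_eq_one_iff.1 h') hg1
    · exfalso
      have : (2 : ℕ) ∣ p ^ j := by rw [← hj, h']
      exact hp2 ((Nat.prime_dvd_prime_iff_eq Nat.prime_two hpp).1 (Nat.prime_two.dvd_of_dvd_pow this)).symm
    · exact h'
    · exfalso
      have : (2 : ℕ) ∣ p ^ j := by rw [← hj, h']; exact dvd_mul_right 2 p
      exact hp2 ((Nat.prime_dvd_prime_iff_eq Nat.prime_two hpp).1 (Nat.prime_two.dvd_of_dvd_pow this)).symm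
  have h4 : ¬ 4 ∣ Nat.card G := by
    intro hd
    obtain ⟨Q, hQ⟩ := Sylow.exists_subgroup_card_pow_prime (G := G) 2 (n := 2) (by simpa using hd)
    have hsub : ∀ x ∈ Q, x ∈ Subgroup.zpowers z := by
      intro x hx
      rcases eq_or_ne x 1 with rfl | hx1
      · exact one_mem _
      have hxd : orderOf x ∣ 2 ^ 2 := hQ ▸ (Subgroup.orderOf_mk x hx ▸ orderOf_dvd_natCard (⟨x, hx⟩ : Q))
      rcases hord x with h' | h' | h' | h'
      · exact absurd (orderOf_eq_one_iff.1 h') hx1
      · rw [huniq x h']; exact Subgroup.mem_zpowers z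
      · rw [h'] at hxd
        exact absurd ((Nat.prime_dvd_prime_iff_eq hpp Nat.prime_two).1 (hpp.dvd_of_dvd_pow hxd)) hp2
      · rw [h'] at hxd
        exact absurd ((Nat.prime_dvd_prime_iff_eq hpp Nat.prime_two).1
          (hpp.dvd_of_dvd_pow ((dvd_mul_left p 2).trans hxd))) hp2
    have := Subgroup.card_le_of_le hsub
    rw [hQ, Nat.card_zpowers, hz] at this
    norm_num at this
  have hidx : (P : Subgroup G).index = 2 := by
    have hne : (P : Subgroup G).index ≠ 0 := Subgroup.index_ne_zero_of_finite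
    obtain ⟨j, hj⟩ : ∃ j, (P : Subgroup G).index = 2 ^ j :=
      ⟨_, Nat.eq_prime_pow_of_unique_prime_dvd hne (fun {d} hd hdi => by
        by_contra hd2
        have hdK : d ∈ K := (hKmem d).2 ⟨hd, hd2, hdi.trans (Subgroup.index_dvd_card _)⟩
        rw [hp, Finset.mem_singleton] at hdK
        exact P.not_dvd_index (hdK ▸ hdi))⟩
    have h2i : 2 ∣ (P : Subgroup G).index := by
      have := (P : Subgroup G).card_mul_index
      rcases Nat.prime_two.dvd_mul.1 (this ▸ h2) with h' | h'
      · obtain ⟨i, hi⟩ := IsPGroup.iff_card.1 P.2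
        rw [hi] at h'
        exact absurd ((Nat.prime_dvd_prime_iff_eq Nat.prime_two hpp).1
          (Nat.prime_two.dvd_of_dvd_pow h')).symm hp2
      · exact h'
    rcases j with _ | _ | j
    · rw [hj] at h2i; norm_num at h2i
    · simpa using hj
    · exfalso
      refine h4 (dvd_trans ?_ (Subgroup.index_dvd_card (P : Subgroup G)))
      rw [hj, show (4 : ℕ) = 2 ^ 2 by norm_num]
      exact pow_dvd_pow 2 (by omega)
  -- `G` is the product of `⟨z⟩` and `P`
  let f : Subgroup.zpowers z × (P : Subgroup G) →* G :=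
    MonoidHom.noncommCoprod (Subgroup.zpowers z).subtype (P : Subgroup G).subtype (fun a b => by
      obtain ⟨i, hi⟩ := a.2
      show Commute (a : G) b
      rw [← hi]
      exact (hzc _).zpow_left i)
  have hfinj : Function.Injective f := by
    rw [injective_iff_map_eq_one]
    rintro ⟨a, b⟩ hab
    change (a : G) * b = 1 at hab
    have hb : (b : G) = 1 := by
      by_contra hb
      have h1 := hPp b b.2 hb
      have h2' : orderOf (b : G) ∣ 2 := by
        rw [← inv_inv (b : G), orderOf_inv, ← eq_inv_of_mul_eq_one_left hab, ← hz]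
        exact orderOf_dvd_of_mem_zpowers a.2
      rw [h1] at h2'
      exact hp2 ((Nat.prime_dvd_prime_iff_eq hpp Nat.prime_two).1 h2')
    rw [hb, mul_one] at hab
    exact Prod.ext (Subtype.ext hab) (Subtype.ext hb)
  have hfbij : Function.Bijective f := by
    refine (Nat.bijective_iff_injective_and_card _).2 ⟨hfinj, ?_⟩
    rw [Nat.card_prod, Nat.card_zpowers, hz, mul_comm]
    calc Nat.card (P : Subgroup G) * 2 = Nat.card (P : Subgroup G) * (P : Subgroup G).index := by
          rw [hidx]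
      _ = _ := Subgroup.card_mul_index _
  let T := {i : Fin (Nat.card (P : Subgroup G)) // True}
  let eT : T ≃ (P : Subgroup G) :=
    (Equiv.subtypeUnivEquiv fun _ => trivial).trans (Finite.equivFin (P : Subgroup G)).symm
  letI : Group T := eT.group
  let eP : T ≃* (P : Subgroup G) := eT.mulEquiv
  refine ⟨p, T, inferInstance, inferInstance, hpp, hp2, P.2.of_equiv eP.symm, ?_, ?_⟩
  · haveI : Nontrivial (P : Subgroup G) := by
      rw [Subgroup.nontrivial_iff_ne_bot]
      exact P.ne_bot_of_dvd_card hpd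
    rw [Monoid.exponent_eq_of_mulEquiv eP, Monoid.exponent_eq_prime_iff hpp]
    intro g hg
    rw [← Subgroup.orderOf_coe]
    exact hPp g g.2 fun h1 => hg (Subtype.ext h1)
  · have h2c : Nat.card (Subgroup.zpowers z) = Nat.card (Multiplicative (ZMod 2)) := by
      rw [Nat.card_zpowers, hz, Nat.card_congr Multiplicative.toAdd, Nat.card_zmod]
    exact ⟨(MulEquiv.ofBijective f hfbij).symm.trans
      (MulEquiv.prodCongr (mulEquivOfCyclicCardEq h2c) eP.symm)⟩

end

/-- Let G be a finite group such that the numbers of elements of each order that occurs in G (the numbers #{g : o(g) = m}, m ranging over the element orders of G) take exactly two values, 1 and some n ≠ 1. Then either G is a p-group of exponent p and order at least 3 for some prime p, or G is the quaternion group of order 8, or G is cyclic of order 4, or G ≅ Z₂ × P for a p-group P of exponent p with p an odd prime. -/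
theorem result {G : Type*} [Group G] [Finite G] (n : ℕ) (hn : n ≠ 1) (h : ((fun m : ℕ => Nat.card {g : G // orderOf g = m}) '' Set.range (orderOf : G → ℕ)) = {1, n}) :
    (∃ p : ℕ, p.Prime ∧ IsPGroup p G ∧ 3 ≤ Nat.card G ∧ Monoid.exponent G = p) ∨
      Nonempty (G ≃* QuaternionGroup 2) ∨ (IsCyclic G ∧ Nat.card G = 4) ∨
      (∃ (p : ℕ) (P : Type) (_ : Group P) (_ : Finite P), p.Prime ∧ p ≠ 2 ∧ IsPGroup p P ∧ Monoid.exponent P = p ∧
        Nonempty (G ≃* Multiplicative (ZMod 2) × P)) := by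
  change ((fun m : ℕ => cnt G m) '' Set.range (orderOf : G → ℕ)) = {1, n} at h
  by_cases hc2 : 2 ∣ Nat.card G ∧ cnt G 2 = 1
  · exact Or.inr (two_case h hc2.1 hc2.2 hn)
  · refine Or.inl (one_prime h (fun p hp hd => ?_) hn)
    rcases eq_or_ne p 2 with rfl | hp2
    · exact (cnt_cases h (range_prime hp hd)).resolve_left fun h1 => hc2 ⟨hd, h1⟩
    · exact cnt_eq h (range_prime hp hd) (by have := hp.two_le; omega)

end Cfsg.Agent.S3995
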