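import Cfsg.Statements.S3996
import Cfsg.Agent.Lib.StructB.OrderCount

set_option autoImplicit false
open Cfsg

namespace Cfsg.Agent.S3996

open CfsgLib.StructB.OrderCount

/-- The two counts other than `1`. -/
theorem exists_values {G : Type*} [Group G] [Finite G]
    (h : (((fun m : ℕ => Nat.card {g : G // orderOf g = m}) '' Set.range (orderOf : G → ℕ))).ncard = 3) :
    ∃ a b : ℕ, (∀ m, 3 ≤ m → cnt G m = 0 ∨ cnt G m = a ∨ cnt G m = b) ∧
      (∀ m, cnt G m = 0 ∨ cnt G m = 1 ∨ cnt G m = a ∨ cnt G m = b) := by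
  set V := (fun m : ℕ => Nat.card {g : G // orderOf g = m}) '' Set.range (orderOf : G → ℕ) with hV
  have h1 : 1 ∈ V := ⟨1, ⟨1, orderOf_one⟩, cnt_one⟩
  have h2 : (V \ {1}).ncard = 2 := by rw [Set.ncard_sdiff_singleton_of_mem h1, h]
  obtain ⟨a, b, -, hab⟩ := Set.ncard_eq_two.1 h2
  refine ⟨a, b, fun m hm => ?_, fun m => ?_⟩
  all_goals
    by_cases h0 : cnt G m = 0
    · exact Or.inl h0
    right
    have hmem : cnt G m ∈ V := by
      obtain ⟨⟨g, hg⟩⟩ := (Nat.card_ne_zero.1 h0).1
      exact ⟨m, ⟨g, hg⟩, rfl⟩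
  · have hne : cnt G m ≠ 1 := fun e => absurd (e ▸ even_cnt (G := G) hm) Nat.not_even_one
    have : cnt G m ∈ V \ {1} := ⟨hmem, hne⟩
    rw [hab] at this
    exact this
  · by_cases hne : cnt G m = 1
    · exact Or.inl hne
    · have : cnt G m ∈ V \ {1} := ⟨hmem, hne⟩
      rw [hab] at this
      exact Or.inr this

/-- A finite group in which the numbers of elements of each order that occurs (the numbers #{g : o(g) = m}, m ranging over the element orders) take exactly three different values is solvable. -/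
theorem result {G : Type*} [Group G] [Finite G] (h : (((fun m : ℕ => Nat.card {g : G // orderOf g = m}) '' Set.range (orderOf : G → ℕ))).ncard = 3) : Group.IsSolvable G := by
  obtain ⟨a, b, hv, hv'⟩ := exists_values h
  by_cases h2 : 2 ∣ Nat.card G
  swap
  · have hk := card_primeFactors_le hv h2
    by_cases hk2 : ∃ p q : ℕ, p.Prime ∧ q.Prime ∧ ∀ d : ℕ, d.Prime → d ∣ Nat.card G → d = p ∨ d = q
    · obtain ⟨p, q, hp, hq, hd⟩ := hk2
      exact isSolvable_of_two_primes hp hq hd
    · exfalso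
      refine hk2 ?_
      rcases Nat.lt_or_ge (Nat.card G).primeFactors.card 2 with hlt | hge
      · have hs := Finset.card_le_one.1 (Nat.lt_succ_iff.1 hlt)
        rcases (Nat.card G).primeFactors.eq_empty_or_nonempty with h0 | ⟨p, hp⟩
        · exact ⟨2, 2, Nat.prime_two, Nat.prime_two, fun d hd hdd => absurd
            (Nat.mem_primeFactors.2 ⟨hd, hdd, Nat.card_pos.ne'⟩) (by rw [h0]; exact Finset.notMem_empty d)⟩
        · exact ⟨p, p, Nat.prime_of_mem_primeFactors hp, Nat.prime_of_mem_primeFactors hp, fun d hd hdd =>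
            Or.inl (hs d (Nat.mem_primeFactors.2 ⟨hd, hdd, Nat.card_pos.ne'⟩) p hp)⟩
      · obtain ⟨p, q, -, hpq⟩ := Finset.card_eq_two.1 (le_antisymm hk hge)
        have hp : p ∈ (Nat.card G).primeFactors := by rw [hpq]; simp
        have hq : q ∈ (Nat.card G).primeFactors := by rw [hpq]; simp
        refine ⟨p, q, Nat.prime_of_mem_primeFactors hp, Nat.prime_of_mem_primeFactors hq, fun d hd hdd => ?_⟩
        have := Nat.mem_primeFactors.2 ⟨hd, hdd, Nat.card_pos.ne'⟩
        rw [hpq] at this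
        simpa using this
  have hs2 := dvd_sum_cnt h2
  rw [Nat.prime_two.divisors, Finset.sum_pair (by norm_num), cnt_one] at hs2
  by_cases hone : cnt G 2 = 1
  · -- a unique involution
    have hshare := fun {p q : ℕ} (hp : p.Prime) (hq : q.Prime) (hp2 : p ≠ 2) (hq2 : q ≠ 2) (hne : p ≠ q)
        (hpd : p ∣ Nat.card G) (hqd : q ∣ Nat.card G) (he : cnt G p = cnt G q) => (show False by
      rcases prime_value hv hp hp2 hpd with hx | hx
      · exact shared_false (swap hv) hone hp hq hp2 hq2 hne hpd hqd hx (he ▸ hx)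
      · exact shared_false hv hone hp hq hp2 hq2 hne hpd hqd hx (he ▸ hx))
    by_cases hk : ∃ p : ℕ, p.Prime ∧ ∀ d : ℕ, d.Prime → d ∣ Nat.card G → d = 2 ∨ d = p
    · obtain ⟨p, hp, hd⟩ := hk
      exact isSolvable_of_two_primes Nat.prime_two hp hd
    push Not at hk
    obtain ⟨p, hp, hpd, hp2, -⟩ := hk 2 Nat.prime_two
    obtain ⟨q, hq, hqd, hq2, hqp⟩ := hk p hp
    have hrest : ∀ d : ℕ, d.Prime → d ∣ Nat.card G → d ≠ 2 → d = p ∨ d = q := by
      intro d hd hdd hd2
      by_contra hc
      push Not at hc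
      rcases prime_value hv hp hp2 hpd with h₁ | h₁ <;> rcases prime_value hv hq hq2 hqd with h₂ | h₂ <;>
        rcases prime_value hv hd hd2 hdd with h₃ | h₃
      all_goals first
        | exact hshare hp hq hp2 hq2 (Ne.symm hqp) hpd hqd (h₁.trans h₂.symm)
        | exact hshare hd hp hd2 hp2 hc.1 hdd hpd (h₃.trans h₁.symm)
        | exact hshare hd hq hd2 hq2 hc.2 hdd hqd (h₃.trans h₂.symm)
    have h4 : cnt G 4 = 0 := by
      rcases hv 4 (by norm_num) with h4 | h4 | h4
      · exact h4
      all_goals exfalso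
      all_goals rcases prime_value hv hp hp2 hpd with h₁ | h₁ <;> rcases prime_value hv hq hq2 hqd with h₂ | h₂
      all_goals first
        | exact hshare hp hq hp2 hq2 (Ne.symm hqp) hpd hqd (h₁.trans h₂.symm)
        | exact four_split_aux hv hone hp hq hp2 hq2 (Ne.symm hqp) hpd hqd h₁ h₂ h4
        | exact four_split_aux hv hone hq hp hq2 hp2 hqp hqd hpd h₂ h₁ h4
        | exact four_split_aux (swap hv) hone hp hq hp2 hq2 (Ne.symm hqp) hpd hqd h₁ h₂ h4
        | exact four_split_aux (swap hv) hone hq hp hq2 hp2 hqp hqd hpd h₂ h₁ h4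
    have h4' := not_four_dvd hone h4
    obtain ⟨⟨z, hz⟩, hzu⟩ := Nat.card_eq_one_iff_exists.1 hone
    have hN : (Subgroup.zpowers z).Normal := ⟨fun x hx g => by
      obtain ⟨i, rfl⟩ := Subgroup.mem_zpowers_iff.1 hx
      have : g * z * g⁻¹ = z := congrArg Subtype.val (hzu ⟨g * z * g⁻¹,
        (orderOf_injective (MulAut.conj g).toMonoidHom (MulAut.conj g).injective z).trans hz⟩)
      rw [← conj_zpow, this]
      exact Subgroup.zpow_mem _ (Subgroup.mem_zpowers z) i⟩
    have hquot : Group.IsSolvable (G ⧸ Subgroup.zpowers z) := by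
      refine isSolvable_of_two_primes hp hq fun d hd hdd => ?_
      have hG := Subgroup.card_eq_card_quotient_mul_card_subgroup (Subgroup.zpowers z)
      rw [Nat.card_zpowers, hz] at hG
      refine hrest d hd (hdd.trans ⟨2, hG⟩) fun e => h4' ?_
      rw [hG]
      exact Nat.mul_dvd_mul (e ▸ hdd : 2 ∣ Nat.card (G ⧸ Subgroup.zpowers z)) (dvd_refl 2)
    have hker : Group.IsSolvable (Subgroup.zpowers z) :=
      Group.isSolvable_of_comm fun x y => (IsCyclic.isMulCommutative (α := Subgroup.zpowers z)).is_comm.comm x y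
    exact Group.isSolvable_of_ker_le_range (Subgroup.zpowers z).subtype (QuotientGroup.mk' (Subgroup.zpowers z))
      (by rw [QuotientGroup.ker_mk', Subgroup.range_subtype])
  · -- an odd number of involutions above one
    obtain ⟨c, hc⟩ : ∃ c, ∀ m, 3 ≤ m → cnt G m = 0 ∨ cnt G m = c ∨ cnt G m = c := by
      rcases hv' 2 with h' | h' | h' | h'
      · omega
      · exact absurd h' hone
      · refine ⟨b, fun m hm => ?_⟩
        rcases hv m hm with h'' | h'' | h''
        · exact Or.inl h''
        · obtain ⟨k, hk⟩ := even_cnt (G := G) hm; omega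
        · exact Or.inr (Or.inl h'')
      · refine ⟨a, fun m hm => ?_⟩
        rcases hv m hm with h'' | h'' | h''
        · exact Or.inl h''
        · exact Or.inr (Or.inl h'')
        · obtain ⟨k, hk⟩ := even_cnt (G := G) hm; omega
    by_cases hk : ∃ p : ℕ, p.Prime ∧ ∀ d : ℕ, d.Prime → d ∣ Nat.card G → d = 2 ∨ d = p
    · obtain ⟨p, hp, hd⟩ := hk
      exact isSolvable_of_two_primes Nat.prime_two hp hd
    exfalso
    push Not at hk
    obtain ⟨p, hp, hpd, hp2, -⟩ := hk 2 Nat.prime_two
    obtain ⟨q, hq, hqd, hq2, hqp⟩ := hk p hp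
    have hpc := (prime_value hc hp hp2 hpd).elim id id
    obtain ⟨-, h1⟩ := pair hc hp hq hp2 hq2 (Ne.symm hqp) hpd hqd hpc ((prime_value hc hq hq2 hqd).elim id id)
    have h2' := cast_cnt_prime (G := G) hp hpd
    rw [hpc] at h2'
    exact ne_one_neg_one hp hp2 (h1.symm.trans h2')

end Cfsg.Agent.S3996
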