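import Cfsg.Statements.S3997
import Cfsg.Agent.Lib.StructB.OrderType

set_option autoImplicit false
open Cfsg

namespace Cfsg.Agent.S3997

/-- Nilpotency is determined by the order type (the number of elements of each order). -/
theorem result {G H : Type*} [Group G] [Finite G] [Group H] [Finite H] (hT : (∀ m : ℕ, Nat.card {g : G // orderOf g = m} = Nat.card {h : H // orderOf h = m})) (hG : Group.IsNilpotent G) :
    Group.IsNilpotent H := by
  obtain ⟨e, he⟩ := CfsgLib.StructB.exists_equiv_orderOf hT
  refine ((isNilpotent_of_finite_tfae (G := H)).out 0 3).2 fun p hp Q => ?_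
  haveI := hp
  have hN := ((isNilpotent_of_finite_tfae (G := G)).out 0 3).1 hG
  let P : Sylow p G := default
  have := hN p hp P
  have hcard : Nat.card {g : G // ∃ k : ℕ, orderOf g = p ^ k} ≤ Nat.card (P : Subgroup G) := by
    apply Nat.card_le_card_of_injective (f := fun g => (⟨g.1, ?_⟩ : ↥(P : Subgroup G)))
    · intro a b hab
      exact Subtype.ext (congrArg (fun z : ↥(P : Subgroup G) => (z : G)) hab)
    · obtain ⟨k, hk⟩ := g.2
      have hp : IsPGroup p ↥(Subgroup.zpowers g.1) := IsPGroup.of_card (n := k) (by rw [Nat.card_zpowers, hk])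
      obtain ⟨R, hR⟩ := hp.exists_le_sylow
      let _ := Sylow.unique_of_normal P this
      have : R = P := Subsingleton.elim _ _
      exact this ▸ hR (Subgroup.mem_zpowers _)
  refine (CfsgLib.StructB.sylow_of_card_pElements Q ?_).1
  rw [← CfsgLib.StructB.card_orderOf_subtype_eq he (fun n => ∃ k, n = p ^ k)]
  refine hcard.trans (le_of_eq ?_)
  rw [P.card_eq_multiplicity, Q.card_eq_multiplicity, Nat.card_congr e]

end Cfsg.Agent.S3997
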