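import Cfsg.Statements.S3998
import Cfsg.Agent.Lib.StructB.SuperTower

set_option autoImplicit false
open Cfsg CfsgLib.StructB

namespace Cfsg.Agent.S3998

/-- A finite group with the same order type as a supersolvable group is solvable. -/
theorem result {G H : Type*} [Group G] [Finite G] [Group H] [Finite H] (hT : (∀ m : ℕ, Nat.card {g : G // orderOf g = m} = Nat.card {h : H // orderOf h = m})) (hG : Cfsg.IsSupersolvable G) :
    Group.IsSolvable H := by
  classical
  obtain ⟨e, he⟩ := exists_equiv_orderOf hT
  have hGH : Nat.card G = Nat.card H := Nat.card_congr e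
  suffices key : ∀ k m : ℕ, Nat.card H + 1 ≤ k + m → ∃ N : Subgroup H, N.Normal ∧ Group.IsSolvable N ∧
      AllGE m (Nat.card N) ∧ ∀ r : ℕ, r.Prime → r ∣ N.index → r < m by
    obtain ⟨N, _, hs, _, hi⟩ := key (Nat.card H + 1) 0 le_rfl
    have hi1 : N.index = 1 := by
      by_contra hne
      obtain ⟨r, hr, hd⟩ := Nat.exists_prime_and_dvd hne
      exact absurd (hi r hr hd) (Nat.not_lt_zero _)
    rw [Subgroup.index_eq_one] at hi1
    subst hi1
    haveI := hs
    exact solvable_of_surjective (f := (Subgroup.topEquiv : ↥(⊤ : Subgroup H) ≃* H).toMonoidHom)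
      (Subgroup.topEquiv : ↥(⊤ : Subgroup H) ≃* H).surjective
  intro k
  induction k with
  | zero =>
    intro m hm
    refine ⟨⊥, inferInstance, inferInstance, fun r hr hd => ?_, fun r hr hd => ?_⟩
    · rw [Subgroup.card_bot, Nat.dvd_one] at hd
      exact absurd hd hr.one_lt.ne'
    · rw [Subgroup.index_bot] at hd
      have := Nat.le_of_dvd Nat.card_pos hd
      omega
  | succ k ih =>
    intro m hm
    obtain ⟨N, hNn, hNs, hNc, hNi⟩ := ih (m + 1) (by omega)
    by_cases hmp : m.Prime
    · obtain ⟨M, hMn, hMc, hMi⟩ := exists_tower_of_supersolvable hG m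
      obtain ⟨M', hM'n, hM'c, hM'i⟩ := exists_tower_of_supersolvable hG (m + 1)
      have hcN : Nat.card N = Nat.card M' :=
        calc Nat.card N = Nat.card {h : H // AllGE (m + 1) (orderOf h)} :=
              Nat.card_congr (Equiv.subtypeEquivRight fun x => mem_iff_allGE hNc hNi x)
          _ = Nat.card {g : G // AllGE (m + 1) (orderOf g)} := (card_orderOf_subtype_eq he _).symm
          _ = Nat.card M' :=
              (Nat.card_congr (Equiv.subtypeEquivRight fun x => mem_iff_allGE hM'c hM'i x)).symm
      have hcM : Nat.card M = Nat.card {h : H // AllGE m (orderOf h)} :=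
        calc Nat.card M = Nat.card {g : G // AllGE m (orderOf g)} :=
              Nat.card_congr (Equiv.subtypeEquivRight fun x => mem_iff_allGE hMc hMi x)
          _ = _ := card_orderOf_subtype_eq he _
      haveI : Fact m.Prime := ⟨hmp⟩
      have hX : ∀ r : ℕ, r.Prime → r ∣ Nat.card (H ⧸ N) → r ≤ m := fun r hr hd =>
        Nat.lt_succ_iff.1 (hNi r hr (by rwa [Subgroup.index_eq_card]))
      have hchar : ∀ h : H, AllGE m (orderOf h) ↔ ∃ j : ℕ, orderOf (h : H ⧸ N) = m ^ j := by
        intro h
        constructor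
        · intro hh
          refine ⟨_, Nat.eq_prime_pow_of_unique_prime_dvd (orderOf_pos _).ne' fun {r} hr hd => ?_⟩
          exact le_antisymm (hX r hr (hd.trans (orderOf_dvd_natCard _)))
            (hh r hr (hd.trans (orderOf_map_dvd (QuotientGroup.mk' N) h)))
        · rintro ⟨j, hj⟩
          have h1 : h ^ (m ^ j) ∈ N := by
            rw [← QuotientGroup.eq_one_iff, QuotientGroup.mk_pow, ← hj, pow_orderOf_eq_one]
          have h2 : orderOf h ∣ m ^ j * Nat.card N := by
            rw [orderOf_dvd_iff_pow_eq_one, pow_mul, ← orderOf_dvd_iff_pow_eq_one]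
            exact Subgroup.orderOf_dvd_natCard N h1
          intro r hr hd
          rcases hr.dvd_mul.1 (hd.trans h2) with h3 | h3
          · exact ((Nat.prime_dvd_prime_iff_eq hr hmp).1 (hr.dvd_of_dvd_pow h3)).ge
          · exact (Nat.le_succ m).trans (hNc r hr h3)
      rw [Nat.card_congr (Equiv.subtypeEquivRight hchar),
        card_subtype_mk N (fun x : H ⧸ N => ∃ j : ℕ, orderOf x = m ^ j)] at hcM
      let P : Sylow m (H ⧸ N) := default
      set e' := Nat.card {x : H ⧸ N // ∃ j : ℕ, orderOf x = m ^ j} with he'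
      have hMmul : Nat.card (H ⧸ N) = e' * M.index := by
        have h1 := Subgroup.card_mul_index M
        rw [hGH, hcM, Subgroup.card_eq_card_quotient_mul_card_subgroup N] at h1
        apply Nat.eq_of_mul_eq_mul_right (Nat.card_pos (α := N))
        rw [← h1]; ring
      have hdvd : e' ∣ Nat.card (H ⧸ N) := ⟨_, hMmul⟩
      have hepos : e' ≠ 0 := fun h0 => Nat.card_pos.ne' (Nat.eq_zero_of_zero_dvd (h0 ▸ hdvd))
      have hpow : e' = m ^ e'.primeFactorsList.length := by
        refine Nat.eq_prime_pow_of_unique_prime_dvd hepos fun {r} hr hd => ?_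
        exact le_antisymm (hX r hr (hd.trans hdvd))
          (hMc r hr (hd.trans (hcM ▸ dvd_mul_left _ _)))
      have hle : e' ≤ Nat.card (P : Subgroup (H ⧸ N)) := by
        rw [P.card_eq_multiplicity, hpow]
        refine Nat.pow_le_pow_right hmp.pos ?_
        exact (hmp.pow_dvd_iff_le_factorization Nat.card_pos.ne').1 (hpow ▸ hdvd)
      obtain ⟨hPn, -⟩ := sylow_of_card_pElements P hle
      have hge : Nat.card (P : Subgroup (H ⧸ N)) ≤ e' := by
        refine Nat.card_le_card_of_injective (fun x => ⟨x.1, ?_⟩) ?_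
        · obtain ⟨j, hj⟩ := IsPGroup.iff_orderOf.1 P.isPGroup' x
          exact ⟨j, by rw [← hj, Subgroup.orderOf_coe]⟩
        · intro a b hab
          exact Subtype.ext (congrArg (fun z : {x : H ⧸ N // ∃ j : ℕ, orderOf x = m ^ j} => (z : H ⧸ N)) hab)
      set Y := (P : Subgroup (H ⧸ N)).comap (QuotientGroup.mk' N) with hY
      have hYi : Y.index = M.index := by
        rw [hY, Subgroup.index_comap_of_surjective _ (QuotientGroup.mk'_surjective N)]
        have h1 := Subgroup.card_mul_index (P : Subgroup (H ⧸ N))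
        rw [le_antisymm hge hle, hMmul] at h1
        exact Nat.eq_of_mul_eq_mul_left (Nat.pos_of_ne_zero hepos) h1
      refine ⟨Y, hPn.comap _, ?_, ?_, hYi ▸ hMi⟩
      · have hNY : N ≤ Y := fun x hx => by
          show (x : H ⧸ N) ∈ (P : Subgroup (H ⧸ N))
          rw [(QuotientGroup.eq_one_iff x).2 hx]; exact one_mem _
        haveI : Group.IsSolvable N := hNs
        haveI : Group.IsNilpotent (P : Subgroup (H ⧸ N)) := P.isPGroup'.isNilpotent
        refine Group.isSolvable_of_ker_le_range (Subgroup.inclusion hNY)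
          (((QuotientGroup.mk' N).comp Y.subtype).codRestrict (P : Subgroup (H ⧸ N)) (fun y => y.2)) ?_
        intro y hy
        have : ((y : H) : H ⧸ N) = 1 := congrArg Subtype.val hy
        exact ⟨⟨y, (QuotientGroup.eq_one_iff _).1 this⟩, rfl⟩
      · have hYc : Nat.card Y = Nat.card M := by
          have h1 := Subgroup.card_mul_index Y
          have h2 := Subgroup.card_mul_index M
          rw [hYi, ← hGH, ← h2] at h1
          exact Nat.eq_of_mul_eq_mul_right (Nat.pos_of_ne_zero Subgroup.index_ne_zero_of_finite) h1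
        rwa [hYc]
    · refine ⟨N, hNn, hNs, fun r hr hd => (Nat.le_succ m).trans (hNc r hr hd), fun r hr hd => ?_⟩
      have := hNi r hr hd
      rcases Nat.lt_succ_iff_lt_or_eq.1 this with h | h
      · exact h
      · exact absurd (h ▸ hr) hmp

end Cfsg.Agent.S3998
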