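import Cfsg.Statements.S3999
import Cfsg.Agent.Lib.StructB.TowerSolvable
import Cfsg.Agent.Lib.Solvable.FrobeniusComplement
import Cfsg.Agent.Lib.StructC.FrobComplement
import Cfsg.Agent.S0042
-- import your own Cfsg.Agent.* helpers here

set_option autoImplicit false
open Cfsg

namespace Cfsg.Agent.S3999

open CfsgLib.StructB
open scoped Pointwise

/-- The order type of the quotient by a normal Hall subgroup. -/
theorem card_quotient_orderOf {X : Type*} [Group X] [Finite X] (N : Subgroup X) [N.Normal]
    (hcop : (Nat.card N).Coprime N.index) (o : ℕ) :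
    Nat.card {g : X // Nat.gcd (orderOf g) N.index = o} = Nat.card N * Nat.card {x : X ⧸ N // orderOf x = o} := by
  rw [← CfsgLib.StructB.card_subtype_mk N (fun x : X ⧸ N => orderOf x = o)]
  refine Nat.card_congr (Equiv.subtypeEquivRight fun g => ?_)
  have h1 : orderOf (g : X ⧸ N) ∣ orderOf g := orderOf_map_dvd (QuotientGroup.mk' N) g
  have h2 : orderOf (g : X ⧸ N) ∣ N.index := (Subgroup.index_eq_card N).symm ▸ orderOf_dvd_natCard _
  have h3 : orderOf g ∣ orderOf (g : X ⧸ N) * Nat.card N := by
    have hm : g ^ orderOf (g : X ⧸ N) ∈ N := by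
      rw [← QuotientGroup.eq_one_iff, QuotientGroup.mk_pow, pow_orderOf_eq_one]
    rw [orderOf_dvd_iff_pow_eq_one, pow_mul, ← orderOf_dvd_iff_pow_eq_one]
    exact Subgroup.orderOf_dvd_natCard N hm
  have h4 : Nat.gcd (orderOf g) N.index = orderOf (g : X ⧸ N) := Nat.dvd_antisymm
    ((hcop.symm.coprime_dvd_left (Nat.gcd_dvd_right _ _)).dvd_of_dvd_mul_right ((Nat.gcd_dvd_left _ _).trans h3))
    (Nat.dvd_gcd h1 h2)
  rw [h4]

/-- Solvability passes from a Frobenius group to a group with the same order type. -/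
theorem sol {X X' : Type*} [Group X] [Finite X] [Group X'] [Finite X'] {Y : Subgroup X}
    (hY : Cfsg.IsFrobeniusComplement Y) (N : Subgroup X) [N.Normal] (hc : Subgroup.IsComplement' N Y)
    (hcop : (Nat.card N).Coprime N.index) (N' : Subgroup X') [N'.Normal] [Group.IsSolvable N']
    (hcop' : (Nat.card N').Coprime N'.index) (hNN : Nat.card N = Nat.card N') (e : X ≃ X')
    (he : ∀ x, orderOf (e x) = orderOf x) (hX : Group.IsSolvable X) : Group.IsSolvable X' := by
  haveI := hX
  haveI : Group.IsSolvable Y := inferInstance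
  have hii : N.index = N'.index := by
    have h1 := Subgroup.card_mul_index N
    rw [Nat.card_congr e, ← Subgroup.card_mul_index N', hNN] at h1
    exact Nat.eq_of_mul_eq_mul_left Nat.card_pos h1
  let f : Y →* X ⧸ N := (QuotientGroup.mk' N).comp Y.subtype
  have hf : Function.Bijective f := by
    refine (Nat.bijective_iff_injective_and_card f).2 ⟨(MonoidHom.ker_eq_bot_iff f).1 (eq_bot_iff.2 fun y hy => ?_), ?_⟩
    · exact Subgroup.mem_bot.2 (Subtype.ext (Subgroup.disjoint_def.1 hc.disjoint
        ((QuotientGroup.eq_one_iff (y : X)).1 hy) y.2))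
    · rw [← Subgroup.index_eq_card, hc.symm.index_eq_card]
  have hord : ∀ m : ℕ, Nat.card {y : Y // orderOf y = m} = Nat.card {z : X' ⧸ N' // orderOf z = m} := by
    intro m
    rw [Nat.card_congr (((MulEquiv.ofBijective f hf).toEquiv).subtypeEquiv
      (q := fun z => orderOf z = m) (fun y => by rw [MulEquiv.toEquiv_eq_coe, MulEquiv.coe_toEquiv, MulEquiv.orderOf_eq]))]
    refine Nat.eq_of_mul_eq_mul_left (Nat.card_pos (α := N)) ?_
    rw [← card_quotient_orderOf N hcop, hNN, ← card_quotient_orderOf N' hcop',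
      CfsgLib.StructB.card_orderOf_subtype_eq he (fun o => Nat.gcd o N.index = m), hii]
  have hcyc : ∀ A : Subgroup Y, IsMulCommutative A → IsCyclic A := fun A hA => by
    haveI : IsMulCommutative (A.map Y.subtype) := ⟨⟨by
      rintro ⟨_, a, ha, rfl⟩ ⟨_, b, hb, rfl⟩
      exact Subtype.ext (congrArg (fun z : A => ((z : Y) : X)) (hA.is_comm.comm (⟨a, ha⟩ : A) ⟨b, hb⟩))⟩⟩
    haveI := CfsgLib.StructC.frob_isCyclic_of_comm hY (A := A.map Y.subtype) (Subgroup.map_subtype_le A) inferInstance
    exact isCyclic_of_surjective (A.equivMapOfInjective Y.subtype Y.subtype_injective).symm.toMonoidHom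
      (A.equivMapOfInjective Y.subtype Y.subtype_injective).symm.surjective
  haveI := CfsgLib.StructB.isSolvable_of_tower_orderType hord
    (fun m hm => CfsgLib.StructB.exists_tower_of_abelian_cyclic hcyc m hm)
  exact Group.isSolvable_of_ker_le_range N'.subtype (QuotientGroup.mk' N') (by
    rw [QuotientGroup.ker_mk', Subgroup.range_subtype])

/-- Let F be a finite Frobenius group (it has a Frobenius complement) and G a finite group with the same order type as F (for every m the same number of elements of order m). Then G is a Frobenius group; moreover G is solvable if and only if F is. -/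
theorem result {F G : Type*} [Group F] [Finite F] [Group G] [Finite G] (hF : (∃ C : Subgroup F, Cfsg.IsFrobeniusComplement C)) (hT : (∀ m : ℕ, Nat.card {g : F // orderOf g = m} = Nat.card {h : G // orderOf h = m})) :
    (∃ C : Subgroup G, Cfsg.IsFrobeniusComplement C) ∧ (Group.IsSolvable G ↔ Group.IsSolvable F) := by
  classical
  obtain ⟨C, hC⟩ := hF
  obtain ⟨e, he⟩ := CfsgLib.StructB.exists_equiv_orderOf hT
  obtain ⟨K, hKset, hKn, hKnil⟩ := Cfsg.Agent.S0042.result C hC
  haveI := hKn
  haveI := hKnil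
  obtain ⟨K', hK'set, -, hKc'⟩ := CfsgLib.Solvable.exists_frobeniusKernel hC
  obtain rfl : K' = K := SetLike.coe_injective (hK'set.trans hKset.symm)
  have hKC : K'.index = Nat.card C := hKc'.symm.index_eq_card
  have hcop : (Nat.card K').Coprime K'.index := hKC ▸ (CfsgLib.StructC.frob_coprime hC hKset).symm
  have hdich : ∀ x : F, orderOf x ∣ Nat.card K' ∨ orderOf x ∣ K'.index := by
    intro x
    by_cases hx : x ∈ K'
    · exact Or.inl (Subgroup.orderOf_dvd_natCard K' hx)
    right
    have hx' : x ∉ Cfsg.frobeniusKernel C := by rw [← hKset]; exact hx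
    have hnot : ¬ (x = 1 ∨ ∀ g : F, x ∉ MulAut.conj g • C) := hx'
    push Not at hnot
    obtain ⟨g, hg⟩ := hnot.2
    obtain ⟨c, hc, rfl⟩ := hg
    rw [hKC]
    exact (orderOf_injective (MulAut.conj g).toMonoidHom (MulAut.conj g).injective c).symm ▸
      Subgroup.orderOf_dvd_natCard C hc
  have hFG : Nat.card F = Nat.card G := Nat.card_congr e
  -- normal Sylow subgroups
  have hsyl : ∀ p : ℕ, p.Prime → p ∣ Nat.card K' → ∃ P : Subgroup G, P.Normal ∧ IsPGroup p P ∧
      Nat.card P = p ^ (Nat.card K').factorization p := by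
    intro p hp hpK
    haveI : Fact p.Prime := ⟨hp⟩
    have hpC : ¬ p ∣ K'.index := fun h => hp.ne_one (Nat.eq_one_of_dvd_coprimes hcop hpK h)
    have hfac : (Nat.card G).factorization p = (Nat.card K').factorization p := by
      rw [← hFG, ← Subgroup.card_mul_index K', Nat.factorization_mul Nat.card_pos.ne' Subgroup.index_ne_zero_of_finite,
        Finsupp.add_apply, Nat.factorization_eq_zero_of_not_dvd hpC, add_zero]
    obtain ⟨Q⟩ : Nonempty (Sylow p F) := inferInstance
    have hle : ∀ R : Sylow p F, (R : Subgroup F) ≤ K' := by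
      intro R r hr
      obtain ⟨k, hk⟩ := IsPGroup.iff_orderOf.1 R.isPGroup' ⟨r, hr⟩
      rw [Subgroup.orderOf_mk] at hk
      refine (QuotientGroup.eq_one_iff r).1 (orderOf_eq_one_iff.1 (Nat.eq_one_of_dvd_coprimes
        (Nat.Coprime.pow_left k ((hp.coprime_iff_not_dvd).2 hpC)) (hk ▸ orderOf_map_dvd (QuotientGroup.mk' K') r) ?_))
      exact (Subgroup.index_eq_card K').symm ▸ orderOf_dvd_natCard _
    have hcnt : Nat.card {g : F // ∃ k : ℕ, orderOf g = p ^ k} ≤ Nat.card (Q : Subgroup F) := by
      refine Nat.card_le_card_of_injective (fun g => (⟨g.1, ?_⟩ : (Q : Subgroup F))) fun a b hab =>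
        Subtype.ext (congrArg (fun z : (Q : Subgroup F) => (z : F)) hab)
      obtain ⟨g, k, hk⟩ := g
      obtain ⟨R, hR⟩ := (IsPGroup.of_card (n := k) (by rw [Nat.card_zpowers, hk]) : IsPGroup p (Subgroup.zpowers g)).exists_le_sylow
      haveI : Subsingleton (Sylow p K') := by
        obtain ⟨S⟩ : Nonempty (Sylow p K') := inferInstance
        haveI := Sylow.unique_of_normal S (Sylow.normal_of_normalizerCondition normalizerCondition_of_isNilpotent S)
        infer_instance
      have hRQ : R = Q := Sylow.subtype_injective (N := K') (hP := hle R) (hQ := hle Q) (Subsingleton.elim _ _)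
      exact hRQ ▸ hR (Subgroup.mem_zpowers g)
    obtain ⟨P⟩ : Nonempty (Sylow p G) := inferInstance
    refine ⟨P, (CfsgLib.StructB.sylow_of_card_pElements P ?_).1, P.isPGroup', by rw [P.card_eq_multiplicity, hfac]⟩
    rw [← CfsgLib.StructB.card_orderOf_subtype_eq he (fun o => ∃ k : ℕ, o = p ^ k), P.card_eq_multiplicity, ← hFG, ← Q.card_eq_multiplicity]
    exact hcnt
  have hprod : ∀ s : Finset ℕ, s ⊆ (Nat.card K').primeFactors → ∃ M : Subgroup G, M.Normal ∧ Group.IsSolvable M ∧
      Nat.card M = ∏ p ∈ s, p ^ (Nat.card K').factorization p := by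
    intro s
    induction s using Finset.induction_on with
    | empty => exact fun _ => ⟨⊥, inferInstance, inferInstance, by simp⟩
    | insert p s hps ih =>
      intro hsub
      obtain ⟨M, hMn, hMs, hMc⟩ := ih (fun x hx => hsub (Finset.mem_insert_of_mem hx))
      have hp := Nat.mem_primeFactors.1 (hsub (Finset.mem_insert_self p s))
      obtain ⟨P, hPn, hPp, hPc⟩ := hsyl p hp.1 hp.2.1
      haveI := hMn
      haveI := hPn
      haveI : Fact p.Prime := ⟨hp.1⟩
      have hco : (Nat.card P).Coprime (Nat.card M) := by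
        rw [hPc, hMc]
        refine Nat.Coprime.pow_left _ (Nat.Coprime.prod_right fun q hq => ?_)
        refine Nat.Coprime.pow_right _ ((Nat.coprime_primes hp.1 (Nat.prime_of_mem_primeFactors (hsub (Finset.mem_insert_of_mem hq)))).2 ?_)
        rintro rfl; exact hps hq
      refine ⟨P ⊔ M, inferInstance, ?_, ?_⟩
      · haveI : Group.IsNilpotent P := hPp.isNilpotent
        haveI : (P.subgroupOf (P ⊔ M)).Normal := inferInstance
        haveI : Group.IsSolvable (P.subgroupOf (P ⊔ M)) :=
          solvable_of_surjective (f := (Subgroup.subgroupOfEquivOfLe (le_sup_left : P ≤ P ⊔ M)).symm.toMonoidHom)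
            (Subgroup.subgroupOfEquivOfLe (le_sup_left : P ≤ P ⊔ M)).symm.surjective
        haveI : Group.IsSolvable ((P ⊔ M : Subgroup G) ⧸ P.subgroupOf (P ⊔ M)) := by
          haveI := hMs
          refine solvable_of_surjective (f := (QuotientGroup.mk' (P.subgroupOf (P ⊔ M))).comp (Subgroup.inclusion (le_sup_right : M ≤ P ⊔ M))) ?_
          intro q
          obtain ⟨⟨x, hx⟩, rfl⟩ := QuotientGroup.mk_surjective q
          obtain ⟨y, hy, z, hz, rfl⟩ := Subgroup.mem_sup_of_normal_left.1 hx
          refine ⟨⟨z, hz⟩, QuotientGroup.eq.2 ?_⟩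
          show z⁻¹ * (y * z) ∈ P
          rw [← mul_assoc]
          simpa using hPn.conj_mem y hy z⁻¹
        exact Group.isSolvable_of_ker_le_range (P.subgroupOf (P ⊔ M)).subtype (QuotientGroup.mk' (P.subgroupOf (P ⊔ M))) (by
          rw [QuotientGroup.ker_mk', Subgroup.range_subtype])
      · rw [Finset.prod_insert hps, ← hPc, ← hMc]
        have hdis := CfsgLib.Coprime.inf_eq_bot_of_coprime hco
        rw [← Nat.card_prod]
        refine (Nat.card_congr (Equiv.ofBijective (fun v : P × M => (⟨(v.1 : G) * v.2,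
          mul_mem (Subgroup.mem_sup_left v.1.2) (Subgroup.mem_sup_right v.2.2)⟩ : (P ⊔ M : Subgroup G))) ⟨?_, ?_⟩)).symm
        · exact fun a b hab => Subgroup.mul_injective_of_disjoint (disjoint_iff.2 hdis) (congrArg Subtype.val hab)
        · rintro ⟨x, hx⟩
          obtain ⟨y, hy, z, hz, rfl⟩ := Subgroup.mem_sup_of_normal_left.1 hx
          exact ⟨(⟨y, hy⟩, ⟨z, hz⟩), rfl⟩
  obtain ⟨M, hMn, hMs, hMc⟩ := hprod _ subset_rfl
  haveI := hMn
  haveI := hMs
  have hMK : Nat.card M = Nat.card K' := by
    rw [hMc]; exact Nat.factorization_prod_pow_eq_self Nat.card_pos.ne'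
  have hMi : M.index = K'.index := by
    have h1 := Subgroup.card_mul_index M
    rw [hMK, ← hFG, ← Subgroup.card_mul_index K'] at h1
    exact Nat.eq_of_mul_eq_mul_left Nat.card_pos h1
  have hcopM : (Nat.card M).Coprime M.index := by rw [hMK, hMi]; exact hcop
  obtain ⟨D, hD⟩ := Subgroup.exists_right_complement'_of_coprime hcopM
  have hDc : Nat.card D = M.index := hD.symm.index_eq_card.symm
  have hMne : M ≠ ⊥ := by
    intro h
    rw [h, Subgroup.card_bot] at hMK
    refine hC.2.1 ?_
    rw [← Subgroup.index_eq_one, hKc'.index_eq_card, ← hMK]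
  have hDne : D ≠ ⊥ := by
    intro h
    rw [h, Subgroup.card_bot, hMi, hKC] at hDc
    exact hC.1 (Subgroup.eq_bot_of_card_eq C hDc.symm)
  have hDF : Cfsg.IsFrobeniusComplement D := by
    refine (CfsgLib.Solvable.isFrobeniusComplement_iff_fpf hD hMne hDne).2 fun d hd hd1 => eq_bot_iff.2 ?_
    rintro m ⟨hm, hmc⟩
    rw [Subgroup.mem_bot]
    have h1 : orderOf d ∣ K'.index := hMi ▸ hDc ▸ Subgroup.orderOf_dvd_natCard D hd
    have h2 : orderOf m ∣ Nat.card K' := hMK ▸ Subgroup.orderOf_dvd_natCard M hm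
    have hcom : Commute d m := (Subgroup.mem_centralizer_singleton_iff.1 hmc).symm
    have h3 := hdich (e.symm (d * m))
    rw [← he (e.symm (d * m)), e.apply_symm_apply,
      hcom.orderOf_mul_eq_mul_orderOf_of_coprime ((hcop.symm.coprime_dvd_left h1).coprime_dvd_right h2)] at h3
    rcases h3 with h | h
    · exact absurd (orderOf_eq_one_iff.1 (Nat.eq_one_of_dvd_coprimes hcop ((dvd_mul_right _ _).trans h) h1)) hd1
    · exact orderOf_eq_one_iff.1 (Nat.eq_one_of_dvd_coprimes hcop h2 ((dvd_mul_left _ _).trans h))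
  refine ⟨⟨D, hDF⟩, fun hG => ?_, fun hFs => ?_⟩
  · haveI : Group.IsSolvable K' := inferInstance
    exact sol hDF M hD hcopM K' hcop hMK e.symm (fun x => by rw [← he (e.symm x), e.apply_symm_apply]) hG
  · exact sol hC K' hKc' hcop M hcopM hMK.symm e he hFs

end Cfsg.Agent.S3999
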