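import Cfsg.Statements.S4155
import Cfsg.Agent.Lib.OddLocal.FittingHall
import Cfsg.Agent.Lib.Solvable.UniqueSubgroup
import Cfsg.Agent.Lib.Coprime.Abelian
import Cfsg.Agent.Lib.StructB.BaerPPower

set_option autoImplicit false
open Cfsg

namespace Cfsg.Agent.S4155

open Subgroup

variable {G : Type*} [Group G] [Finite G]

/-- A normal nilpotent subgroup has a nontrivial central normal `r`-subgroup for each prime `r`
dividing its order. -/
theorem exists_central_part (N : Subgroup G) [N.Normal] (hnil : Group.IsNilpotent N) (r : ℕ)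
    [Fact r.Prime] (hr : r ∣ Nat.card N) :
    ∃ V : Subgroup G, V.Normal ∧ V ≠ ⊥ ∧ V ≤ N ∧ IsPGroup r V ∧
      ∀ v ∈ V, ∀ n ∈ N, v * n = n * v := by
  have hrp : r.Prime := Fact.out
  let V : Subgroup G :=
    { carrier := {v | v ∈ N ∧ (∀ n ∈ N, v * n = n * v) ∧ ∃ j : ℕ, v ^ r ^ j = 1}
      one_mem' := ⟨one_mem N, fun n _ => by rw [one_mul, mul_one], 0, one_pow _⟩
      mul_mem' := by
        rintro u v ⟨hu, hu', i, hi⟩ ⟨hv, hv', j, hj⟩
        refine ⟨mul_mem hu hv, fun n hn => ?_, i + j, ?_⟩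
        · rw [mul_assoc, hv' n hn, ← mul_assoc, hu' n hn, mul_assoc]
        · rw [Commute.mul_pow (show Commute u v from hu' v hv), pow_add, pow_mul, hi, one_pow,
            one_mul, mul_comm (r ^ i), pow_mul, hj, one_pow]
      inv_mem' := by
        rintro v ⟨hv, hv', j, hj⟩
        exact ⟨inv_mem hv, fun n hn => (Commute.inv_left (hv' n hn)).eq, j,
          by rw [inv_pow, hj, inv_one]⟩ }
  refine ⟨V, ⟨?_⟩, ?_, fun v hv => hv.1, fun v => ?_, fun v hv => hv.2.1⟩
  · rintro v ⟨hv, hv', j, hj⟩ g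
    have hNn : N.Normal := inferInstance
    refine ⟨hNn.conj_mem v hv g, fun n hn => ?_, j, by rw [conj_pow, hj, mul_one, mul_inv_cancel]⟩
    have h1 := hv' (g⁻¹ * n * g) (by simpa using hNn.conj_mem n hn g⁻¹)
    calc g * v * g⁻¹ * n = g * (v * (g⁻¹ * n * g)) * g⁻¹ := by group
      _ = g * (g⁻¹ * n * g * v) * g⁻¹ := by rw [h1]
      _ = n * (g * v * g⁻¹) := by group
  · intro hbot
    obtain ⟨R⟩ := (inferInstance : Nonempty (Sylow r N))
    have hR1 : (R : Subgroup N) ≠ ⊥ := R.ne_bot_of_dvd_card hr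
    haveI : Nontrivial (R : Subgroup N) := (nontrivial_iff_ne_bot _).2 hR1
    have := R.2.center_nontrivial
    obtain ⟨z, hz⟩ := exists_ne (1 : center (R : Subgroup N))
    set z' : N := ((z : (R : Subgroup N)) : N)
    have hzall : centralizer ({z'} : Set N) = ⊤ := by
      refine CfsgLib.Solvable.eq_top_of_forall_prime fun s hs hd => ?_
      have := Fact.mk hs
      by_cases hsr : s = r
      · subst hsr
        refine R.not_dvd_index (hd.trans (index_dvd_of_le fun y hy => ?_))
        exact mem_centralizer_singleton_iff.2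
          (congrArg Subtype.val (mem_center_iff.1 z.2 ⟨y, hy⟩))
      · obtain ⟨S⟩ := (inferInstance : Nonempty (Sylow s N))
        refine S.not_dvd_index (hd.trans (index_dvd_of_le fun y hy => ?_))
        obtain ⟨i, hi⟩ := IsPGroup.iff_orderOf.1 S.2 ⟨y, hy⟩
        obtain ⟨j, hj⟩ := IsPGroup.iff_orderOf.1 R.2 (z : (R : Subgroup N))
        rw [Subgroup.orderOf_mk] at hi
        rw [← Subgroup.orderOf_coe] at hj
        refine mem_centralizer_singleton_iff.2 (CfsgLib.OddLocal.commute_of_coprime_of_isNilpotent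
          hnil ?_).eq
        rw [hi, hj]
        exact Nat.Coprime.pow i j ((Nat.coprime_primes hs hrp).2 hsr)
    have hzV : (z' : G) ∈ V := by
      refine ⟨z'.2, fun n hn => ?_, ?_⟩
      · have h1 : (⟨n, hn⟩ : N) ∈ centralizer ({z'} : Set N) := by
          rw [hzall]; exact mem_top _
        exact (congrArg (Subtype.val : N → G) (mem_centralizer_singleton_iff.1 h1)).symm
      · obtain ⟨j, hj⟩ := R.2 (z : (R : Subgroup N))
        exact ⟨j, congrArg (fun w : (R : Subgroup N) => ((w : N) : G)) hj⟩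
    rw [hbot, mem_bot] at hzV
    exact hz (Subtype.ext (Subtype.ext (Subtype.ext hzV)))
  · obtain ⟨-, -, j, hj⟩ := v.2
    exact ⟨j, Subtype.ext hj⟩

/-- An element of the quotient of `q`-power order lifts to one of `q`-power order, inside every
subgroup containing a lift. -/
theorem exists_lift_qpower (N : Subgroup G) [N.Normal] {q k : ℕ} [Fact q.Prime] {x : G}
    (hx : ((x : G ⧸ N)) ^ q ^ k = 1) :
    ∃ y ∈ zpowers x, (y : G ⧸ N) = (x : G ⧸ N) ∧ ∃ j : ℕ, y ^ q ^ j = 1 := by
  have hqp : q.Prime := Fact.out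
  set o := orderOf x with ho
  have hpos : o ≠ 0 := (orderOf_pos x).ne'
  have hco : (o / q ^ o.factorization q).Coprime (orderOf (x : G ⧸ N)) :=
    (Nat.Coprime.pow_right k ((hqp.coprime_iff_not_dvd).2 (Nat.not_dvd_ordCompl hqp hpos)).symm).coprime_dvd_right
      (orderOf_dvd_of_pow_eq_one hx)
  obtain ⟨e, he⟩ := exists_pow_eq_self_of_coprime hco
  refine ⟨(x ^ (o / q ^ o.factorization q)) ^ e, pow_mem (pow_mem (mem_zpowers x) _) e, ?_,
    o.factorization q, ?_⟩
  · rw [QuotientGroup.mk_pow, QuotientGroup.mk_pow, he]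
  · rw [← pow_mul, mul_comm e, pow_mul, ← pow_mul x, mul_comm (o / _), Nat.ordProj_mul_ordCompl_eq_self,
      pow_orderOf_eq_one, one_pow]

/-- An element outside `N` of `q`-power order mod `N` moves every nontrivial central `r`-element
of `N`, `r ≠ q`. -/
theorem not_commute (N : Subgroup G) [N.Normal]
    (heq : ∀ x : G, x ∉ N → ∀ n ∈ N, orderOf (x * n) = orderOf x)
    {q r j i : ℕ} (hq : q.Prime) (hr : r.Prime) (hqr : q ≠ r) {x v : G} (hx : x ∉ N)
    (hxo : x ^ q ^ j = 1) (hv : v ∈ N) (hvo : v ^ r ^ i = 1) (hc : Commute x v) : v = 1 := by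
  have h1 : (x * v) ^ orderOf x = 1 := by rw [← heq x hx v hv, pow_orderOf_eq_one]
  rw [hc.mul_pow, pow_orderOf_eq_one, one_mul] at h1
  rw [← orderOf_eq_one_iff]
  exact Nat.eq_one_of_dvd_coprimes (Nat.Coprime.pow i j ((Nat.coprime_primes hr hq).2 hqr.symm))
    (orderOf_dvd_of_pow_eq_one hvo)
    ((orderOf_dvd_of_pow_eq_one h1).trans (orderOf_dvd_of_pow_eq_one hxo))

/-- Let G be a finite group and N a proper non-trivial normal nilpotent subgroup whose order is not a prime power, such that for every x outside N all elements of the coset xN have the same order as x. Then N is the Fitting subgroup of G, and for every prime q every Sylow q-subgroup of G/N is cyclic or generalized quaternion. -/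
theorem result {G : Type*} [Group G] [Finite G] (N : Subgroup G) [N.Normal] (hN1 : N ≠ ⊥) (hN2 : N ≠ ⊤)
    (heq : ∀ x : G, x ∉ N → ∀ n ∈ N, orderOf (x * n) = orderOf x)
    (hnil : Group.IsNilpotent N) (hnpp : ¬ IsPrimePow (Nat.card N)) :
    N = Cfsg.fittingSubgroup G ∧
    ∀ (q : ℕ) [Fact q.Prime] (Q : Sylow q (G ⧸ N)), IsCyclic (Q : Subgroup (G ⧸ N)) ∨ ∃ n : ℕ, Nonempty ((Q : Subgroup (G ⧸ N)) ≃* QuaternionGroup (2 ^ n)) := by
  classical
  have hNne : Nat.card N ≠ 1 := fun e => hN1 (card_eq_one.1 e)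
  have hpick : ∀ q : ℕ, ∃ r : ℕ, r.Prime ∧ r ∣ Nat.card N ∧ r ≠ q := by
    intro q
    by_contra hc
    push Not at hc
    apply hnpp
    rw [isPrimePow_nat_iff]
    obtain ⟨r, hr, hrd⟩ := Nat.exists_prime_and_dvd hNne
    obtain rfl := hc r hr hrd
    refine ⟨r, (Nat.card N).primeFactorsList.length, hr, ?_,
      (Nat.eq_prime_pow_of_unique_prime_dvd Nat.card_pos.ne' fun {d} hd hdd => hc d hd hdd).symm⟩
    have hpos := Nat.eq_prime_pow_of_unique_prime_dvd (p := r) (n := Nat.card N) Nat.card_pos.ne'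
      fun {d} hd hdd => hc d hd hdd
    by_contra h0
    push Not at h0
    rw [Nat.le_zero.1 h0, pow_zero] at hpos
    exact hNne hpos
  refine ⟨?_, fun q _ Q => ?_⟩
  · have hFn := CfsgLib.Solvable.fittingSubgroup_normal G
    have hNF := CfsgLib.Solvable.le_fittingSubgroup (N := N) inferInstance hnil
    refine le_antisymm hNF fun x hx => ?_
    by_contra hxN
    set F := Cfsg.fittingSubgroup G
    have hFnil : Group.IsNilpotent F := CfsgLib.Solvable.fittingSubgroup_isNilpotent
    have hne : (x : G ⧸ N) ≠ 1 := fun e => hxN ((QuotientGroup.eq_one_iff x).1 e)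
    have h1 : orderOf (x : G ⧸ N) ≠ 1 := fun e => hne (orderOf_eq_one_iff.1 e)
    obtain ⟨q, hq, hqd⟩ := Nat.exists_prime_and_dvd h1
    have := Fact.mk hq
    obtain ⟨m, hm⟩ := hqd
    have hz : ((x ^ m : G) : G ⧸ N) ≠ 1 := by
      intro e
      rw [QuotientGroup.mk_pow] at e
      have hd := orderOf_dvd_of_pow_eq_one e
      rw [hm] at hd
      have hmpos : 0 < m := Nat.pos_of_ne_zero fun e => by
        rw [e, mul_zero] at hm; exact (orderOf_pos (x : G ⧸ N)).ne' hm
      exact hq.one_lt.not_ge (Nat.le_of_mul_le_mul_right (by simpa using Nat.le_of_dvd hmpos hd) hmpos)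
    have hzq : ((x ^ m : G) : G ⧸ N) ^ q ^ 1 = 1 := by
      rw [pow_one, QuotientGroup.mk_pow, ← pow_mul, mul_comm, ← hm, pow_orderOf_eq_one]
    obtain ⟨y, hy, hyx, j, hj⟩ := exists_lift_qpower N hzq
    obtain ⟨r, hr, hrd, hrq⟩ := hpick q
    have := Fact.mk hr
    obtain ⟨V, -, hV1, hVN, hVr, -⟩ := exists_central_part N hnil r hrd
    obtain ⟨v, hv, hv1⟩ := V.bot_or_exists_ne_one.resolve_left hV1
    obtain ⟨i, hi⟩ := hVr ⟨v, hv⟩
    have hyF : y ∈ F := (zpowers_le.2 (pow_mem hx m)) hy
    have hyN : y ∉ N := fun e => hz (hyx.symm.trans ((QuotientGroup.eq_one_iff y).2 e))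
    have hi' : v ^ r ^ i = 1 := congrArg Subtype.val hi
    refine hv1 (not_commute N heq hq hr hrq.symm hyN hj (hVN hv) hi' ?_)
    have hcom := CfsgLib.OddLocal.commute_of_coprime_of_isNilpotent hFnil
      (x := ⟨y, hyF⟩) (y := ⟨v, hNF (hVN hv)⟩) (by
        rw [Subgroup.orderOf_mk, Subgroup.orderOf_mk]
        exact Nat.Coprime.coprime_dvd_left (orderOf_dvd_of_pow_eq_one hj)
          (Nat.Coprime.coprime_dvd_right (orderOf_dvd_of_pow_eq_one hi')
            (Nat.Coprime.pow j i ((Nat.coprime_primes hq hr).2 hrq.symm))))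
    exact congrArg Subtype.val hcom.eq
  · have hqp : q.Prime := Fact.out
    obtain ⟨r, hr, hrd, hrq⟩ := hpick q
    have := Fact.mk hr
    obtain ⟨V, hVn, hV1, hVN, hVr, hVc⟩ := exists_central_part N hnil r hrd
    haveI := hVn
    haveI : Nontrivial V := (nontrivial_iff_ne_bot V).2 hV1
    letI : CommGroup V := { (inferInstance : Group V) with
      mul_comm := fun u v => Subtype.ext (hVc u u.2 v (hVN v.2)) }
    let φ : G ⧸ N →* MulAut V := QuotientGroup.lift N MulAut.conjNormal (fun n hn => by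
      rw [MonoidHom.mem_ker]
      refine MulEquiv.ext fun v => Subtype.ext ?_
      rw [MulAut.conjNormal_apply, MulAut.one_apply, ← hVc v v.2 n hn, mul_inv_cancel_right])
    have hfree : ∀ a ∈ (Q : Subgroup (G ⧸ N)), a ≠ 1 → ∀ v : V, φ a v = v → v = 1 := by
      intro a ha ha1 v hv
      obtain ⟨x, rfl⟩ := QuotientGroup.mk_surjective a
      obtain ⟨k, hk⟩ := Q.2 ⟨_, ha⟩
      obtain ⟨y, -, hyx, j, hj⟩ := exists_lift_qpower N
        (congrArg Subtype.val hk : (x : G ⧸ N) ^ q ^ k = 1)
      obtain ⟨i, hi⟩ := hVr v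
      rw [← hyx] at hv
      have h1 : y * (v : G) * y⁻¹ = v := congrArg Subtype.val hv
      exact Subtype.ext (not_commute N heq hqp hr hrq.symm
        (fun e => ha1 (hyx.symm.trans ((QuotientGroup.eq_one_iff y).2 e))) hj (hVN v.2)
        (congrArg Subtype.val hi) (mul_inv_eq_iff_eq_mul.1 h1))
    have hcop : ∀ A : Subgroup (Q : Subgroup (G ⧸ N)), (Nat.card A).Coprime (Nat.card V) := by
      intro A
      obtain ⟨i, hi⟩ := (Q.2.to_subgroup A).exists_card_eq
      obtain ⟨j, hj⟩ := hVr.exists_card_eq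
      rw [hi, hj]
      exact Nat.Coprime.pow i j ((Nat.coprime_primes hqp hr).2 hrq.symm)
    -- commutative subgroups of `Q` are cyclic
    have hcyc : ∀ A : Subgroup (Q : Subgroup (G ⧸ N)), IsMulCommutative A → IsCyclic A := by
      intro A hA
      by_contra hnc
      obtain ⟨a, ha1, v, hv1, hav⟩ := CfsgLib.Coprime.exists_ne_one_fixed_of_not_isCyclic
        ((φ.comp (Q : Subgroup (G ⧸ N)).subtype).comp A.subtype) (hcop A) hnc
      exact hv1 (hfree _ (a : (Q : Subgroup (G ⧸ N))).2
        (fun e => ha1 (Subtype.ext (Subtype.ext e))) v hav)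
    -- so there is only one subgroup of order `q`
    have huniq : ∀ H K : Subgroup (Q : Subgroup (G ⧸ N)),
        Nat.card H = q → Nat.card K = q → H = K := by
      suffices hcen : ∀ H C : Subgroup (Q : Subgroup (G ⧸ N)), Nat.card H = q → Nat.card C = q →
          C ≤ center _ → H = C by
        intro H K hH hK
        haveI : Nontrivial H := Finite.one_lt_card_iff_nontrivial.1 (by rw [hH]; exact hqp.one_lt)
        haveI : Nontrivial (Q : Subgroup (G ⧸ N)) := H.subtype_injective.nontrivial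
        have := Q.2.center_nontrivial
        obtain ⟨c, hc⟩ := exists_prime_orderOf_dvd_card' q
          ((Q.2.to_subgroup (center (Q : Subgroup (G ⧸ N)))).exists_card_eq.elim fun i hi => by
            have h1 : 1 < Nat.card (center (Q : Subgroup (G ⧸ N))) := Finite.one_lt_card
            rw [hi] at h1 ⊢
            exact dvd_pow_self q fun e => by rw [e, pow_zero] at h1; omega)
        have hC : Nat.card (zpowers (c : (Q : Subgroup (G ⧸ N)))) = q := by
          rw [Nat.card_zpowers, Subgroup.orderOf_coe, hc]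
        exact (hcen H _ hH hC (zpowers_le.2 c.2)).trans (hcen K _ hK hC (zpowers_le.2 c.2)).symm
      intro H C hH hC hle
      by_contra hne
      haveI : IsCyclic H := isCyclic_of_prime_card hH
      haveI : IsCyclic C := isCyclic_of_prime_card hC
      have hAc : IsMulCommutative (H ⊔ C : Subgroup (Q : Subgroup (G ⧸ N))) := by
        have h1 : H ⊔ C ≤ centralizer ((H ⊔ C : Subgroup _) : Set (Q : Subgroup (G ⧸ N))) := by
          refine sup_le ?_ (hle.trans (center_le_centralizer _))
          rw [le_centralizer_iff]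
          refine sup_le ?_ (hle.trans (center_le_centralizer _))
          intro u hu
          refine mem_centralizer_iff.2 fun w hw => ?_
          exact congrArg Subtype.val (mul_comm' (⟨w, hw⟩ : H) ⟨u, hu⟩)
        exact ⟨⟨fun u v => Subtype.ext (mem_centralizer_iff.1 (h1 v.2) u u.2)⟩⟩
      haveI := hcyc _ hAc
      obtain ⟨g, hg⟩ := IsCyclic.exists_generator (α := (H ⊔ C : Subgroup (Q : Subgroup (G ⧸ N))))
      refine hne ?_
      let := Fintype.ofFinite (H ⊔ C : Subgroup (Q : Subgroup (G ⧸ N)))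
      have hsub : ∀ D : Subgroup (Q : Subgroup (G ⧸ N)), D ≤ H ⊔ C → Nat.card D = q →
          (D.subgroupOf (H ⊔ C) : Set (H ⊔ C : Subgroup _)) = {v | v ^ q = 1} := by
        intro D hD hDc
        refine Set.eq_of_subset_of_ncard_le (fun v hv => ?_) ?_
        · have h4 := D.orderOf_dvd_natCard hv
          rw [hDc] at h4
          exact Subtype.ext (orderOf_dvd_iff_pow_eq_one.1 h4)
        · rw [Set.ncard_eq_toFinset_card', Set.ncard_eq_toFinset_card']
          have h2 : (D.subgroupOf (H ⊔ C) : Set (H ⊔ C : Subgroup _)).toFinset.card = q := by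
            rw [Set.toFinset_card, ← Nat.card_eq_fintype_card]
            exact (Nat.card_congr (subgroupOfEquivOfLe hD).toEquiv).trans hDc
          rw [h2, Set.toFinset_setOf]
          exact IsCyclic.card_pow_eq_one_le hqp.pos
      have heqs : H.subgroupOf (H ⊔ C) = C.subgroupOf (H ⊔ C) :=
        SetLike.coe_injective ((hsub H le_sup_left hH).trans (hsub C le_sup_right hC).symm)
      have h3 := congrArg (Subgroup.map (H ⊔ C).subtype) heqs
      rwa [subgroupOf_map_subtype, subgroupOf_map_subtype, inf_eq_left.2 le_sup_left,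
        inf_eq_left.2 le_sup_right] at h3
    rcases CfsgLib.Solvable.isCyclic_or_quaternion_of_unique Q.2 huniq with h | ⟨-, h⟩
    · exact Or.inl h
    · exact Or.inr h

end Cfsg.Agent.S4155
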