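import Cfsg.Statements.S4001
import Cfsg.Agent.Lib.StructC.FrobComplement
import Cfsg.Agent.Lib.Coherent.FrobeniusKernel
import Cfsg.Agent.Lib.OddLocal.FrobAct
import Cfsg.Agent.Lib.Coprime.Complements
import Cfsg.Agent.S4155
import Mathlib.GroupTheory.SpecificGroups.ZGroup

set_option autoImplicit false
open Cfsg

namespace Cfsg.Agent.S4001

open Subgroup

/-- Elements outside the kernel are conjugate into the complement. -/
theorem exists_conj_mem {G : Type*} [Group G] {H : Subgroup G} {N : Subgroup G}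
    (hN : (N : Set G) = Cfsg.frobeniusKernel H) {g : G} (hg : g ∉ N) :
    ∃ x : G, x⁻¹ * g * x ∈ H := by
  by_contra hc
  push Not at hc
  exact hg (by rw [← SetLike.mem_coe, hN, CfsgLib.StructC.frob_mem_kernel_iff]; exact Or.inr hc)

/-- An element outside the kernel commutes with no nontrivial element of it. -/
theorem eq_one_of_commute {G : Type*} [Group G] [Finite G] {H : Subgroup G}
    (hH : Cfsg.IsFrobeniusComplement H) {N : Subgroup G} [N.Normal]
    (hN : (N : Set G) = Cfsg.frobeniusKernel H) {g k : G} (hg : g ∉ N) (hk : k ∈ N)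
    (hc : g * k = k * g) : k = 1 := by
  obtain ⟨x, hx⟩ := exists_conj_mem hN hg
  have hne : x⁻¹ * g * x ≠ 1 := fun e => hg (by
    have h1 : g = 1 := by
      calc g = x * (x⁻¹ * g * x) * x⁻¹ := by group
        _ = 1 := by rw [e]; group
    rw [h1]; exact one_mem N)
  have hk' : x⁻¹ * k * x ∈ N := by
    simpa using (inferInstance : N.Normal).conj_mem k hk x⁻¹
  have h1 := CfsgLib.StructC.frob_commute_eq_one hH hN hx hk' hne (by
    calc x⁻¹ * g * x * (x⁻¹ * k * x) = x⁻¹ * (g * k) * x := by group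
      _ = x⁻¹ * (k * g) * x := by rw [hc]
      _ = x⁻¹ * k * x * (x⁻¹ * g * x) := by group)
  calc k = x * (x⁻¹ * k * x) * x⁻¹ := by group
    _ = 1 := by rw [h1]; group

/-- A Frobenius kernel is nilpotent. -/
theorem kernel_nilpotent {G : Type*} [Group G] [Finite G] {H : Subgroup G}
    (hH : Cfsg.IsFrobeniusComplement H) {N : Subgroup G} [N.Normal]
    (hN : (N : Set G) = Cfsg.frobeniusKernel H) : Group.IsNilpotent N := by
  let := Fintype.ofFinite G
  refine CfsgLib.Coherent.frobenius_kernel_nilpotent (fun k hk hk1 g hg => ?_) ?_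
  · by_contra hgN
    exact hk1 (eq_one_of_commute hH hN hgN hk (mem_centralizer_singleton_iff.1 hg))
  · intro e
    apply hH.1
    rw [eq_bot_iff]
    intro h hh
    have h1 : h ∈ Cfsg.frobeniusKernel H := by rw [← hN, e]; exact Set.mem_univ _
    rw [CfsgLib.StructC.frob_mem_kernel_iff] at h1
    rcases h1 with rfl | h1
    · exact one_mem _
    · exact absurd (by simpa using hh) (h1 1)

/-- The complement of the kernel. -/
theorem isComplement {G : Type*} [Group G] [Finite G] {H : Subgroup G}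
    (hH : Cfsg.IsFrobeniusComplement H) {N : Subgroup G}
    (hN : (N : Set G) = Cfsg.frobeniusKernel H) : N.IsComplement' H := by
  obtain ⟨N', hN', -, hc⟩ := CfsgLib.StructC.frobenius_kernel_theorem hH
  rwa [show N = N' from SetLike.coe_injective (hN.trans hN'.symm)]

/-- An element whose image has order `n` yields one of order `n`. -/
theorem exists_orderOf_eq_of_image {G H : Type*} [Group G] [Finite G] [Group H] (f : G →* H) {g : G}
    {n : ℕ} (hn : n ∣ orderOf (f g)) : ∃ y ∈ zpowers g, orderOf y = n := by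
  have hd : n ∣ orderOf g := hn.trans (orderOf_map_dvd f g)
  refine ⟨g ^ (orderOf g / n), pow_mem (mem_zpowers g) _, ?_⟩
  have hn0 : n ≠ 0 := fun e => (orderOf_pos g).ne' (by simpa [e] using hd)
  exact orderOf_pow_orderOf_div (orderOf_pos g).ne' hd

theorem orderOf_mul_primes {G : Type*} [Group G] {x y : G} {p q : ℕ} (hp : p.Prime) (hq : q.Prime)
    (hpq : p ≠ q) (hx : orderOf x = p) (hy : orderOf y = q) (hc : Commute x y) :
    orderOf (x * y) = p * q := by
  rw [hc.orderOf_mul_eq_mul_orderOf_of_coprime (by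
    rw [hx, hy]; exact (Nat.coprime_primes hp hq).2 hpq), hx, hy]

/-- Let G be a 2-Frobenius group: it has normal subgroups H < K with K a Frobenius group with kernel H and G/H a Frobenius group with kernel K/H. Then G is solvable; K/H has odd order coprime to the order of H and to the order of G/K (it is the image of an odd-order Hall subgroup); G/K is cyclic; and the prime graph of G has exactly two connected components, both complete: for distinct primes p, q dividing the order of G, G has an element of order pq exactly when p and q either both divide the order of K/H or both do not. -/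
theorem result {G : Type*} [Group G] [Finite G] (H K : Subgroup G) [H.Normal] [K.Normal] (hlt : H < K)
    (hK : ∃ C : Subgroup ↥K, Cfsg.IsFrobeniusComplement C ∧ Cfsg.frobeniusKernel C = (H.subgroupOf K : Set ↥K))
    (hGH : ∃ C : Subgroup (G ⧸ H), Cfsg.IsFrobeniusComplement C ∧ Cfsg.frobeniusKernel C = (K.map (QuotientGroup.mk' H) : Set (G ⧸ H))) :
    Group.IsSolvable G ∧ Odd (Nat.card (↥K ⧸ H.subgroupOf K)) ∧
      Nat.Coprime (Nat.card (↥K ⧸ H.subgroupOf K)) (Nat.card ↥H * Nat.card (G ⧸ K)) ∧ IsCyclic (G ⧸ K) ∧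
      ∀ p q : ℕ, p.Prime → q.Prime → p ≠ q → p ∣ Nat.card G → q ∣ Nat.card G →
        ((∃ g : G, orderOf g = p * q) ↔ (p ∣ Nat.card (↥K ⧸ H.subgroupOf K) ↔ q ∣ Nat.card (↥K ⧸ H.subgroupOf K))) := by
  classical
  obtain ⟨C, hC, hCk⟩ := hK
  obtain ⟨Cb, hCb, hCbk⟩ := hGH
  set π := QuotientGroup.mk' H with hπ
  set Kb := K.map π with hKb
  haveI hKbn : Kb.Normal := Normal.map inferInstance π (QuotientGroup.mk'_surjective H)
  haveI hHkn : (H.subgroupOf K).Normal := normal_subgroupOf
  have hcC := isComplement hC hCk.symm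
  have hcCb := isComplement hCb hCbk.symm
  -- `C` maps onto `K/H`
  let e : C →* Kb := ((π.comp K.subtype).comp C.subtype).codRestrict Kb fun c => ⟨_, c.1.2, rfl⟩
  have heinj : Function.Injective e := by
    rw [injective_iff_map_eq_one]
    intro c hc
    have h1 : ((c : K) : G) ∈ H := (QuotientGroup.eq_one_iff _).1 (congrArg Subtype.val hc)
    have h2 : (c : K) ∈ H.subgroupOf K ⊓ C := ⟨h1, c.2⟩
    rw [hcC.disjoint.eq_bot, mem_bot] at h2
    exact Subtype.ext h2
  have hesurj : Function.Surjective e := by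
    rintro ⟨_, k, hk, rfl⟩
    obtain ⟨⟨⟨u, hu⟩, ⟨c, hc⟩⟩, huc⟩ := hcC.2 (⟨k, hk⟩ : K)
    refine ⟨⟨c, hc⟩, Subtype.ext ?_⟩
    show π (c : G) = π k
    have h1 : k = (u : G) * (c : G) := (congrArg Subtype.val huc).symm
    rw [h1, map_mul, show π (u : G) = 1 from (QuotientGroup.eq_one_iff _).2 hu, one_mul]
  let eC : C ≃* Kb := MulEquiv.ofBijective e ⟨heinj, hesurj⟩
  have hKb1 : Kb ≠ ⊥ := by
    intro h0
    refine hlt.ne (le_antisymm hlt.le fun k hk => ?_)
    rw [← QuotientGroup.eq_one_iff]
    have : π k ∈ Kb := mem_map_of_mem π hk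
    rw [h0, mem_bot] at this
    exact this
  have hKbnil : Group.IsNilpotent Kb := kernel_nilpotent hCb hCbk.symm
  have hCnil : Group.IsNilpotent C := (Group.isNilpotent_congr eC).2 hKbnil
  -- `C` has odd order and is cyclic
  have hCodd : ¬ 2 ∣ Nat.card C := by
    intro h2
    haveI : Fact (Nat.Prime 2) := ⟨Nat.prime_two⟩
    obtain ⟨V, -, hV1, -, hV2, hVc⟩ :=
      Cfsg.Agent.S4155.exists_central_part (⊤ : Subgroup C)
        ((Group.isNilpotent_congr Subgroup.topEquiv).2 hCnil) 2
        (by rwa [card_top])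
    obtain ⟨z, hz⟩ := exists_prime_orderOf_dvd_card' (G := V) 2 (by
      obtain ⟨i, hi⟩ := hV2.exists_card_eq
      rw [hi]
      exact dvd_pow_self 2 fun e => hV1 (card_eq_one.1 (by rw [hi, e, pow_zero])))
    set z' : C := (z : C) with hz'
    have hz'o : orderOf z' = 2 := by rw [hz', Subgroup.orderOf_coe, hz]
    have huniq : ∀ t : C, orderOf t = 2 → t = z' := by
      intro t ht
      have hc : z' * t = t * z' := hVc _ z.2 t (mem_top _)
      let A : Subgroup K := Subgroup.closure {(t : K), (z' : K)}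
      have hA : A ≤ C := (closure_le _).2 (by
        rintro u (rfl | rfl)
        · exact t.2
        · exact z'.2)
      have hAab : IsMulCommutative A := isMulCommutative_closure (by
        rintro u (rfl | rfl) v (rfl | rfl)
        · rfl
        · exact congrArg Subtype.val hc.symm
        · exact congrArg Subtype.val hc
        · rfl)
      haveI := CfsgLib.StructC.frob_isCyclic_of_comm hC hA hAab
      by_contra hne
      let := Fintype.ofFinite A
      have h3 : ({1, ⟨(t : K), subset_closure (Or.inl rfl)⟩,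
          ⟨(z' : K), subset_closure (Or.inr rfl)⟩} : Finset A) ⊆
          Finset.univ.filter fun w : A => w ^ 2 = 1 := by
        intro w hw
        simp only [Finset.mem_insert, Finset.mem_singleton] at hw
        simp only [Finset.mem_filter, Finset.mem_univ, true_and]
        rcases hw with rfl | rfl | rfl
        · exact one_pow 2
        · exact Subtype.ext (show (t : K) ^ 2 = 1 from by
            have h := pow_orderOf_eq_one t
            rw [ht] at h
            exact_mod_cast congrArg Subtype.val h)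
        · exact Subtype.ext (show (z' : K) ^ 2 = 1 from by
            have h := pow_orderOf_eq_one z'
            rw [hz'o] at h
            exact_mod_cast congrArg Subtype.val h)
      have h4 := (Finset.card_le_card h3).trans (IsCyclic.card_pow_eq_one_le two_pos)
      rw [Finset.card_insert_of_notMem, Finset.card_pair] at h4
      · omega
      · intro h; exact hne (Subtype.ext (congrArg Subtype.val h :))
      · simp only [Finset.mem_insert, Finset.mem_singleton, not_or]
        constructor <;> intro h <;> have h' := congrArg Subtype.val h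
        · rw [show t = 1 from Subtype.ext h'.symm, orderOf_one] at ht; omega
        · rw [show z' = 1 from Subtype.ext h'.symm, orderOf_one] at hz'o; omega
    -- the involution of `K/H` is fixed by the complement
    obtain ⟨d, hd, hd1⟩ := Cb.bot_or_exists_ne_one.resolve_left hCb.1
    have hzne : (eC z' : G ⧸ H) ≠ 1 := fun h => by
      rw [(eC.map_eq_one_iff.1 (Subtype.ext h)), orderOf_one] at hz'o; omega
    refine hzne (eq_one_of_commute hCb hCbk.symm (g := d) ?_ (eC z').2 ?_)
    · intro hdK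
      have : d ∈ Kb ⊓ Cb := ⟨hdK, hd⟩
      rw [hcCb.disjoint.eq_bot, mem_bot] at this
      exact hd1 this
    · let w : Kb := ⟨d * (eC z' : G ⧸ H) * d⁻¹, hKbn.conj_mem _ (eC z').2 d⟩
      have hwo : orderOf w = 2 := by
        rw [← Subgroup.orderOf_coe, show ((w : Kb) : G ⧸ H) = MulAut.conj d (eC z' : G ⧸ H) from rfl,
          MulEquiv.orderOf_eq, Subgroup.orderOf_coe, MulEquiv.orderOf_eq, hz'o]
      have h5 := huniq (eC.symm w) (by rw [MulEquiv.orderOf_eq, hwo])
      have h6 : w = eC z' := by rw [← h5, MulEquiv.apply_symm_apply]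
      exact mul_inv_eq_iff_eq_mul.1 (congrArg Subtype.val h6)
  haveI : IsZGroup C := ⟨fun p hp P => by
    haveI := Fact.mk hp
    rcases CfsgLib.StructC.frob_sylow_structure hC P with h | ⟨rfl, a, b, -, ha, -⟩
    · exact h
    · exact absurd (((by norm_num : 2 ∣ 4)).trans (ha ▸ orderOf_dvd_natCard a)) hCodd⟩
  haveI := hCnil
  haveI hCcyc : IsCyclic C := inferInstance
  haveI hKbcyc : IsCyclic Kb := isCyclic_of_surjective eC.toMonoidHom eC.surjective
  -- the upper complement is cyclic
  obtain ⟨k₀, hk₀, hk₀1⟩ := Kb.bot_or_exists_ne_one.resolve_left hKb1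
  have hCbcomm : IsMulCommutative Cb := by
    refine ⟨⟨fun a b => ?_⟩⟩
    obtain ⟨i, hi⟩ := MonoidHom.map_cyclic (G := Kb) (MulAut.conjNormal (H := Kb) (a : G ⧸ H)).toMonoidHom
    obtain ⟨j, hj⟩ := MonoidHom.map_cyclic (G := Kb) (MulAut.conjNormal (H := Kb) (b : G ⧸ H)).toMonoidHom
    have hc : MulAut.conjNormal (H := Kb) ((a : G ⧸ H) * b) ⟨k₀, hk₀⟩ =
        MulAut.conjNormal (H := Kb) ((b : G ⧸ H) * a) ⟨k₀, hk₀⟩ := by
      rw [map_mul, map_mul, MulAut.mul_apply, MulAut.mul_apply]
      calc MulAut.conjNormal (H := Kb) (a : G ⧸ H) (MulAut.conjNormal (H := Kb) (b : G ⧸ H) ⟨k₀, hk₀⟩)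
          = (⟨k₀, hk₀⟩ : Kb) ^ (j * i) := by
            rw [show MulAut.conjNormal (H := Kb) (b : G ⧸ H) ⟨k₀, hk₀⟩ = (⟨k₀, hk₀⟩ : Kb) ^ j from hj _,
              zpow_mul]
            exact hi _
        _ = _ := by
            rw [show MulAut.conjNormal (H := Kb) (a : G ⧸ H) ⟨k₀, hk₀⟩ = (⟨k₀, hk₀⟩ : Kb) ^ i from hi _,
              mul_comm j i, zpow_mul]
            exact (hj _).symm
    have h1 := congrArg Subtype.val hc
    simp only [MulAut.conjNormal_apply] at h1
    by_contra hne
    refine hk₀1 (eq_one_of_commute hCb hCbk.symm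
      (g := ((b : G ⧸ H) * a)⁻¹ * ((a : G ⧸ H) * b)) ?_ hk₀ ?_)
    · intro hmem
      have h2 : ((b : G ⧸ H) * a)⁻¹ * ((a : G ⧸ H) * b) ∈ Kb ⊓ Cb :=
        ⟨hmem, Cb.mul_mem (Cb.inv_mem (Cb.mul_mem b.2 a.2)) (Cb.mul_mem a.2 b.2)⟩
      rw [hcCb.disjoint.eq_bot, mem_bot, inv_mul_eq_one] at h2
      exact hne (Subtype.ext h2.symm)
    · rw [← mul_inv_eq_iff_eq_mul]
      calc ((b : G ⧸ H) * a)⁻¹ * ((a : G ⧸ H) * b) * k₀ * (((b : G ⧸ H) * a)⁻¹ * ((a : G ⧸ H) * b))⁻¹
          = ((b : G ⧸ H) * a)⁻¹ * (((a : G ⧸ H) * b) * k₀ * ((a : G ⧸ H) * b)⁻¹) * ((b : G ⧸ H) * a) := by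
            group
        _ = k₀ := by rw [h1]; group
  haveI hCbcyc : IsCyclic Cb := CfsgLib.StructC.frob_isCyclic_of_comm hCb le_rfl hCbcomm
  let ρ : G ⧸ H →* G ⧸ K := QuotientGroup.map H K (MonoidHom.id G) (by
    rw [Subgroup.comap_id]; exact hlt.le)
  have hρK : ∀ z ∈ Kb, ρ z = 1 := by
    rintro _ ⟨k, hk, rfl⟩
    exact (QuotientGroup.eq_one_iff k).2 hk
  have hρsurj : Function.Surjective (ρ.comp Cb.subtype) := by
    intro z
    obtain ⟨g, rfl⟩ := QuotientGroup.mk_surjective z
    obtain ⟨⟨⟨u, hu⟩, d⟩, hud⟩ := hcCb.2 (π g)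
    refine ⟨d, ?_⟩
    have h1 : π g = u * (d : G ⧸ H) := hud.symm
    show ρ (d : G ⧸ H) = ρ (π g)
    rw [h1, map_mul, hρK u hu, one_mul]
  haveI hGKcyc : IsCyclic (G ⧸ K) := isCyclic_of_surjective _ hρsurj
  have hHnil : Group.IsNilpotent H := by
    have h1 := kernel_nilpotent hC hCk.symm
    exact (Group.isNilpotent_congr (subgroupOfEquivOfLe hlt.le)).1 h1
  -- orders
  have hD : Nat.card (↥K ⧸ H.subgroupOf K) = Nat.card C := by
    rw [← index_eq_card, hcC.symm.index_eq_card]
  have hDb : Nat.card Kb = Nat.card C := (Nat.card_congr eC.toEquiv).symm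
  have hGK : Nat.card (G ⧸ K) = Nat.card Cb := by
    rw [← index_eq_card, ← index_map_eq K (QuotientGroup.mk'_surjective H)
      (by rw [QuotientGroup.ker_mk']; exact hlt.le), ← hcCb.symm.index_eq_card]
  have hHk : Nat.card (H.subgroupOf K) = Nat.card H :=
    Nat.card_congr (subgroupOfEquivOfLe hlt.le).toEquiv
  have hcop : (Nat.card C).Coprime (Nat.card H * Nat.card Cb) := by
    refine Nat.Coprime.mul_right ?_ ?_
    · rw [← hHk]; exact CfsgLib.StructC.frob_coprime hC hCk.symm
    · rw [← hDb]; exact (CfsgLib.StructC.frob_coprime hCb hCbk.symm).symm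
  have hcardG : Nat.card G = Nat.card H * Nat.card Cb * Nat.card C := by
    rw [← K.card_mul_index, index_eq_card, hGK, ← hcC.card_mul, hHk]
    ring
  refine ⟨?_, ?_, ?_, hGKcyc, ?_⟩
  · haveI := hHnil
    haveI : Group.IsSolvable (G ⧸ H) := by
      haveI : Group.IsSolvable Kb := inferInstance
      haveI : Group.IsSolvable (G ⧸ K) := inferInstance
      exact Group.isSolvable_of_ker_le_range Kb.subtype ρ (by
        rw [range_subtype]
        intro z hz
        obtain ⟨g, rfl⟩ := QuotientGroup.mk_surjective z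
        exact mem_map_of_mem π ((QuotientGroup.eq_one_iff g).1 hz))
    exact Group.isSolvable_of_ker_le_range H.subtype (QuotientGroup.mk' H) (by simp)
  · rw [hD, Nat.odd_iff]
    omega
  · rwa [hD, hGK]
  rw [hD]
  intro p q hp hq hpq hpG hqG
  haveI := Fact.mk hp
  haveI := Fact.mk hq
  -- elements of order dividing `|K/H|`
  have hnone : ∀ {p q : ℕ}, p.Prime → q.Prime → p ≠ q → p ∣ Nat.card C → ¬ q ∣ Nat.card C →
      ∀ g : G, orderOf g ≠ p * q := by
    intro p q hp hq hpq hpC hqC g hg
    haveI := Fact.mk hp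
    haveI := Fact.mk hq
    set x := g ^ q with hx
    set y := g ^ p with hy
    have hxo : orderOf x = p := by
      rw [hx, orderOf_pow_of_dvd hq.ne_zero (hg ▸ dvd_mul_left q p), hg, Nat.mul_div_cancel _ hq.pos]
    have hyo : orderOf y = q := by
      rw [hy, orderOf_pow_of_dvd hp.ne_zero (hg ▸ dvd_mul_right p q), hg,
        Nat.mul_div_cancel_left _ hp.pos]
    have hxy : Commute x y := (Commute.refl g).pow_pow q p
    have hcopp : ∀ n : ℕ, n ∣ Nat.card H * Nat.card Cb → ¬ p ∣ n := fun n hn hd =>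
      hp.ne_one (Nat.eq_one_of_dvd_coprimes hcop hpC (hd.trans hn))
    have hxK : x ∈ K := by
      rw [← QuotientGroup.eq_one_iff, ← orderOf_eq_one_iff]
      rcases hp.eq_one_or_self_of_dvd _ (hxo ▸ orderOf_map_dvd (QuotientGroup.mk' K) x) with h | h
      · exact h
      · exact absurd (h ▸ orderOf_dvd_natCard _) (hcopp (Nat.card (G ⧸ K)) (hGK ▸ dvd_mul_left _ _))
    have hxH : x ∉ H := fun h =>
      hcopp (Nat.card H) (dvd_mul_right _ _) (hxo ▸ H.orderOf_dvd_natCard h)
    by_cases hyH : y ∈ H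
    · have h1 := eq_one_of_commute hC hCk.symm (g := (⟨x, hxK⟩ : K)) (k := ⟨y, hlt.le hyH⟩) hxH hyH
        (Subtype.ext hxy.eq)
      rw [show y = 1 from congrArg Subtype.val h1, orderOf_one] at hyo
      exact hq.ne_one hyo.symm
    · have hyo' : orderOf (π y) = q := by
        rcases hq.eq_one_or_self_of_dvd _ (hyo ▸ orderOf_map_dvd π y) with h | h
        · exact absurd ((QuotientGroup.eq_one_iff y).1 (orderOf_eq_one_iff.1 h)) hyH
        · exact h
      have hyK : π y ∉ Kb := fun h => hqC (by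
        rw [← hDb, ← hyo']; exact Kb.orderOf_dvd_natCard h)
      exact hxH ((QuotientGroup.eq_one_iff x).1
        (eq_one_of_commute hCb hCbk.symm hyK (mem_map_of_mem π hxK) (by
          show π y * π x = π x * π y
          rw [← map_mul, hxy.symm.eq, map_mul])))
  -- mixed primes outside `K/H`
  have hmixed : ∀ {p q : ℕ}, p.Prime → q.Prime → p ≠ q → ¬ p ∣ Nat.card C → ¬ q ∣ Nat.card C →
      p ∣ Nat.card H → ¬ q ∣ Nat.card H → q ∣ Nat.card G → ∃ g : G, orderOf g = p * q := by
    intro p q hp hq hpq hpC hqC hpH hqH hqG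
    haveI := Fact.mk hp
    haveI := Fact.mk hq
    by_contra hno
    push Not at hno
    set M : Subgroup G := C.map K.subtype with hM
    have hMK : M ≤ K := map_subtype_le C
    have hMH : H ⊔ M = K := by
      have h1 := congrArg (Subgroup.map K.subtype) hcC.sup_eq_top
      rwa [Subgroup.map_sup, subgroupOf_map_subtype, inf_eq_left.2 hlt.le,
        ← MonoidHom.range_eq_map, range_subtype] at h1
    have hMc : Nat.card M = Nat.card C := card_map_of_injective K.subtype_injective
    have hHn : normalizer (H : Set G) = ⊤ := normalizer_eq_top H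
    obtain ⟨y₀, hy₀⟩ := exists_prime_orderOf_dvd_card' q hqG
    have hKq : ∀ z : G, orderOf z = q → z ∉ K := fun z hz hzK => by
      have h1 := K.orderOf_dvd_natCard hzK
      rw [hz, ← hcC.card_mul, hHk] at h1
      exact (hq.dvd_mul.1 h1).elim hqH hqC
    obtain ⟨n, hn, hconj⟩ := CfsgLib.Coprime.exists_conj_eq_of_coprime (N := H) (A := M)
      (B := M.map (MulAut.conj y₀).toMonoidHom) (by rw [hHn]; exact le_top) (by rw [hHn]; exact le_top)
      (by
        have h1 : (H ⊔ M).map (MulAut.conj y₀).toMonoidHom = H ⊔ M := by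
          rw [hMH]
          exact Normal.map_conj_eq K y₀
        rw [Subgroup.map_sup, show H.map (MulAut.conj y₀).toMonoidHom = H from
          Normal.map_conj_eq H y₀] at h1
        exact h1.symm)
      (by rw [hMc]; exact hcop.coprime_dvd_right (dvd_mul_right _ _))
      (by
        rw [card_map_of_injective (MulAut.conj y₀).injective, hMc]
        exact hcop.coprime_dvd_right (dvd_mul_right _ _))
      (Or.inl (by
        haveI : Group.IsSolvable C := inferInstance
        exact Group.isSolvable_of_surjective (K.subtype.subgroupMap_surjective C)))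
    set g₁ := n⁻¹ * y₀ with hg₁
    have hg₁N : g₁ ∈ normalizer (M : Set G) := by
      rw [mem_normalizer_iff_map_conj_eq]
      calc M.map (MulAut.conj g₁).toMonoidHom
          = (M.map (MulAut.conj y₀).toMonoidHom).map (MulAut.conj n⁻¹).toMonoidHom := by
            rw [map_map M (MulAut.conj n⁻¹).toMonoidHom (MulAut.conj y₀).toMonoidHom,
              show (MulAut.conj n⁻¹).toMonoidHom.comp (MulAut.conj y₀).toMonoidHom =
              (MulAut.conj g₁).toMonoidHom from MonoidHom.ext fun z => by simp [hg₁, mul_assoc]]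
        _ = (M.map (MulAut.conj n).toMonoidHom).map (MulAut.conj n⁻¹).toMonoidHom := by rw [hconj]
        _ = M := by
            rw [map_map]
            convert map_id M using 2
            ext z; simp [mul_assoc]
    have hπy₀ : orderOf (π g₁) = q := by
      rw [hg₁, map_mul, map_inv, show π n = 1 from (QuotientGroup.eq_one_iff n).2 hn, inv_one, one_mul]
      rcases hq.eq_one_or_self_of_dvd _ (hy₀ ▸ orderOf_map_dvd π y₀) with h | h
      · exact absurd (H.orderOf_dvd_natCard ((QuotientGroup.eq_one_iff y₀).1 (orderOf_eq_one_iff.1 h)))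
          (by rwa [hy₀])
      · exact h
    obtain ⟨y, hyg, hyo⟩ := exists_orderOf_eq_of_image π (g := g₁) hπy₀.symm.dvd
    have hyM : y ∈ normalizer (M : Set G) := (zpowers_le.2 hg₁N) hyg
    obtain ⟨V, hVn, hV1, hVH, hVp, hVc⟩ := Cfsg.Agent.S4155.exists_central_part H hHnil p hpH
    haveI := hVn
    haveI : IsMulCommutative V := ⟨⟨fun u v => Subtype.ext (hVc u u.2 v (hVH v.2))⟩⟩
    refine CfsgLib.OddLocal.no_fixedPointFree_frobenius (V := V) (M := M) hq hyo hV1 ?_ hyM ?_ ?_ ?_ ?_
    · intro h0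
      rw [hM, map_eq_bot_iff_of_injective _ K.subtype_injective] at h0
      exact hC.1 h0
    · rw [hMc]
      exact hcop.coprime_dvd_right ((card_dvd_of_le hVH).trans (dvd_mul_right _ _))
    · intro i hi m hm hcm
      have hyi : orderOf (y ^ i) = q := by
        rcases hq.eq_one_or_self_of_dvd _ (hyo ▸ orderOf_pow_dvd i) with h | h
        · exact absurd (hyo ▸ orderOf_dvd_of_pow_eq_one (orderOf_eq_one_iff.1 h)) hi
        · exact h
      have hyiK : π (y ^ i) ∉ Kb := fun h => by
        obtain ⟨k, hk, hkk⟩ := h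
        refine hKq _ hyi ?_
        have h1 : k⁻¹ * y ^ i ∈ H := QuotientGroup.eq.1 hkk
        simpa using K.mul_mem hk (hlt.le h1)
      have h1 := eq_one_of_commute hCb hCbk.symm hyiK (mem_map_of_mem π (hMK hm)) (by
        rw [← map_mul, hcm.eq, map_mul])
      obtain ⟨c, hc, rfl⟩ := hm
      have h2 : c ∈ H.subgroupOf K ⊓ C := ⟨show ((c : K) : G) ∈ H from (QuotientGroup.eq_one_iff ((c : K) : G)).1 h1, hc⟩
      rw [hcC.disjoint.eq_bot, mem_bot] at h2
      rw [h2, map_one]
    · intro m hm hm1 v hv hcm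
      obtain ⟨c, hc, rfl⟩ := hm
      have hcH : c ∉ H.subgroupOf K := fun h => by
        have h2 : c ∈ H.subgroupOf K ⊓ C := ⟨h, hc⟩
        rw [hcC.disjoint.eq_bot, mem_bot] at h2
        exact hm1 (by rw [h2, map_one])
      exact congrArg Subtype.val (eq_one_of_commute hC hCk.symm (g := c)
        (k := ⟨v, hlt.le (hVH hv)⟩) hcH (hVH hv) (Subtype.ext hcm.eq))
    · intro m _ v hv hcm
      by_contra hv1
      obtain ⟨j, hj⟩ := IsPGroup.iff_orderOf.1 hVp ⟨v, hv⟩
      rw [Subgroup.orderOf_mk] at hj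
      have hj0 : j ≠ 0 := fun h => hv1 (orderOf_eq_one_iff.1 (by rw [hj, h, pow_zero]))
      obtain ⟨w, hw, hwo⟩ := exists_orderOf_eq_of_image (MonoidHom.id G) (g := v) (n := p)
        (by rw [MonoidHom.id_apply, hj]; exact dvd_pow_self p hj0)
      obtain ⟨l, hl⟩ := mem_zpowers_iff.1 hw
      refine hno (w * (m * y * m⁻¹)) (orderOf_mul_primes hp hq hpq hwo ?_ ?_)
      · rw [show m * y * m⁻¹ = MulAut.conj m y from rfl, MulEquiv.orderOf_eq, hyo]
      · rw [← hl]
        exact (hcm.symm.zpow_left l)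
  by_cases hpC : p ∣ Nat.card C
  · by_cases hqC : q ∣ Nat.card C
    · refine iff_of_true ?_ (iff_of_true hpC hqC)
      obtain ⟨c, hc⟩ := hCcyc.exists_ofOrder_eq_natCard
      obtain ⟨c', -, hc'⟩ := exists_orderOf_eq_of_image (MonoidHom.id C) (g := c) (n := p * q)
        (by
          rw [MonoidHom.id_apply, hc]
          exact Nat.Coprime.mul_dvd_of_dvd_of_dvd ((Nat.coprime_primes hp hq).2 hpq) hpC hqC)
      exact ⟨((c' : K) : G), by rw [Subgroup.orderOf_coe, Subgroup.orderOf_coe, hc']⟩
    · exact iff_of_false (fun ⟨g, hg⟩ => hnone hp hq hpq hpC hqC g hg) (fun h => hqC (h.1 hpC))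
  · by_cases hqC : q ∣ Nat.card C
    · exact iff_of_false (fun ⟨g, hg⟩ => hnone hq hp hpq.symm hqC hpC g (by rw [hg, mul_comm]))
        (fun h => hpC (h.2 hqC))
    refine iff_of_true ?_ (iff_of_false hpC hqC)
    have hsplit : ∀ {r : ℕ}, r.Prime → r ∣ Nat.card G → ¬ r ∣ Nat.card C →
        r ∣ Nat.card H ∨ r ∣ Nat.card Cb := fun hr hrG hrC => by
      rw [hcardG] at hrG
      exact hr.dvd_mul.1 ((hr.dvd_mul.1 hrG).resolve_right hrC)
    by_cases hpH : p ∣ Nat.card H
    · by_cases hqH : q ∣ Nat.card H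
      · obtain ⟨x, hx⟩ := exists_prime_orderOf_dvd_card' p hpH
        obtain ⟨y, hy⟩ := exists_prime_orderOf_dvd_card' q hqH
        refine ⟨((x * y : H) : G), ?_⟩
        rw [Subgroup.orderOf_coe]
        exact orderOf_mul_primes hp hq hpq hx hy
          (CfsgLib.OddLocal.commute_of_coprime_of_isNilpotent hHnil (by
            rw [hx, hy]; exact (Nat.coprime_primes hp hq).2 hpq))
      · exact hmixed hp hq hpq hpC hqC hpH hqH hqG
    · by_cases hqH : q ∣ Nat.card H
      · obtain ⟨g, hg⟩ := hmixed hq hp hpq.symm hqC hpC hqH hpH hpG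
        exact ⟨g, by rw [hg, mul_comm]⟩
      · obtain ⟨c, hc⟩ := hCbcyc.exists_ofOrder_eq_natCard
        obtain ⟨g, hg⟩ := QuotientGroup.mk'_surjective H (c : G ⧸ H)
        obtain ⟨y, -, hy⟩ := exists_orderOf_eq_of_image π (g := g) (n := p * q) (by
          rw [hπ, hg, Subgroup.orderOf_coe, hc]
          exact Nat.Coprime.mul_dvd_of_dvd_of_dvd ((Nat.coprime_primes hp hq).2 hpq)
            ((hsplit hp hpG hpC).resolve_left hpH) ((hsplit hq hqG hqC).resolve_left hqH))
        exact ⟨y, hy⟩

end Cfsg.Agent.S4001
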