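import Cfsg.Statements.S4002
import Cfsg.Agent.Lib.Recog.ThreePrimes
import Cfsg.Agent.Lib.Comp.TwoPrimes

set_option autoImplicit false
open Cfsg

namespace Cfsg.Agent.S4002

/-- If the set of element orders of a finite group G is {1, 2, …, n} with n ≥ 7, then G is not solvable. -/
theorem result {G : Type*} [Group G] [Finite G] (n : ℕ) (hn : 7 ≤ n) (h : Set.range (orderOf : G → ℕ) = {k : ℕ | 1 ≤ k ∧ k ≤ n}) : ¬ Group.IsSolvable G := by
  intro hsol
  have key : ∃ r s t : ℕ, r.Prime ∧ s.Prime ∧ t.Prime ∧ r < s ∧ s < t ∧ t ≤ n ∧ n < r * s := by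
    rcases (show n ≤ 14 ∨ (15 ≤ n ∧ n ≤ 17) ∨ 18 ≤ n by omega) with h | h | h
    · exact ⟨3, 5, 7, by norm_num, by norm_num, by norm_num, by omega, by omega, hn, by omega⟩
    · exact ⟨2, 11, 13, by norm_num, by norm_num, by norm_num, by omega, by omega, by omega, by omega⟩
    · obtain ⟨p, q, hp, hq, h1, h2, h3⟩ := CfsgLib.Comp.exists_two_primes (n := n / 2) (by omega)
      exact ⟨2, p, q, Nat.prime_two, hp, hq, by omega, by omega, by omega, by omega⟩
  obtain ⟨r, s, t, hr, hs, ht, hrs, hst, htn, hn'⟩ := key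
  have hdvd : ∀ k, 1 ≤ k → k ≤ n → k ∣ Nat.card G := fun k h1 h2 => by
    obtain ⟨g, rfl⟩ : k ∈ Set.range (orderOf : G → ℕ) := h ▸ ⟨h1, h2⟩
    exact orderOf_dvd_natCard g
  have hbig : ∀ k, n < k → ¬ ∃ x : G, orderOf x = k := by
    rintro k hk ⟨x, hx⟩
    have : k ∈ Set.range (orderOf : G → ℕ) := ⟨x, hx⟩
    rw [h] at this
    exact absurd this.2 (not_le.2 hk)
  have hd : ∀ k, k ≤ n → 1 ≤ k → k ∣ Nat.card (⊤ : Subgroup G) := fun k h1 h2 => by
    rw [Subgroup.card_top]; exact hdvd k h2 h1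
  haveI := hsol
  rcases CfsgLib.Recog.solvable_edge (⊤ : Subgroup G)
    (solvable_of_solvable_injective (f := (⊤ : Subgroup G).subtype) Subtype.coe_injective) hr hs ht
    hrs.ne (hrs.trans hst).ne hst.ne
    (hd r (by omega) hr.pos) (hd s (by omega) hs.pos) (hdvd t ht.pos htn) with e | e | e
  · exact hbig _ hn' e
  · exact hbig _ (lt_of_lt_of_le hn' (Nat.mul_le_mul_left r hst.le)) e
  · exact hbig _ (lt_of_lt_of_le hn' (Nat.mul_le_mul hrs.le hst.le)) e

end Cfsg.Agent.S4002
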