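import Cfsg.Statements.S4004
import Cfsg.Agent.S3996
import Cfsg.Agent.Lib.Solvable.FixedPointFree

set_option autoImplicit false
open Cfsg

namespace Cfsg.Agent.S4004

open CfsgLib.StructB.OrderCount Finset

variable {G : Type*} [Group G] [Finite G]

open scoped IsMulCommutative Pointwise

theorem prod_conj_eq_one (N : Subgroup G) [N.Normal] [IsMulCommutative N] (g : G) (n : ℕ) (v : N)
    (h : ((v : G) * g) ^ n = 1) (hg : g ^ n = 1) :
    ∏ j ∈ Finset.range n, MulAut.conjNormal (g ^ j) v = 1 := by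
  have key : ∀ m, ((v : G) * g) ^ m =
      ((∏ j ∈ Finset.range m, MulAut.conjNormal (g ^ j) v : N) : G) * g ^ m := by
    intro m
    induction m with
    | zero => simp
    | succ m ih =>
      rw [pow_succ, ih, Finset.prod_range_succ, pow_succ, Subgroup.coe_mul, MulAut.conjNormal_apply]
      group
  have := key n
  rw [h, hg, mul_one] at this
  exact Subtype.ext this.symm

theorem orderOf_mem {p q : ℕ} (hp : p.Prime) (hq : q.Prime)
    (hd : ∀ d : ℕ, d.Prime → d ∣ Nat.card G → d = p ∨ d = q) (hpq : cnt G (p * q) = 0)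
    (hpp : cnt G (p * p) = 0) (hqq : cnt G (q * q) = 0) (g : G) :
    orderOf g = 1 ∨ orderOf g = p ∨ orderOf g = q := by
  by_contra hc
  push Not at hc
  obtain ⟨h1, h2, h3⟩ := hc
  have hne : cnt G (orderOf g) ≠ 0 := Nat.card_ne_zero.2 ⟨⟨⟨g, rfl⟩⟩, inferInstance⟩
  obtain ⟨s, hs, hsd⟩ := Nat.exists_prime_and_dvd h1
  obtain ⟨k, hk⟩ := hsd
  have hsd' := hd s hs ((hk ▸ dvd_mul_right s k).trans (orderOf_dvd_natCard g))
  have hk1 : k ≠ 1 := by
    rintro rfl
    rw [mul_one] at hk
    rcases hsd' with e | e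
    · exact h2 (hk.trans e)
    · exact h3 (hk.trans e)
  obtain ⟨t, ht, htd⟩ := Nat.exists_prime_and_dvd hk1
  have htd' := hd t ht ((htd.trans (hk ▸ dvd_mul_left k s)).trans (orderOf_dvd_natCard g))
  have hst : s * t ∣ orderOf g := hk ▸ Nat.mul_dvd_mul_left s htd
  refine hne (cnt_zero_of_dvd hst ?_)
  rcases hsd' with rfl | rfl <;> rcases htd' with rfl | rfl
  · exact hpp
  · exact hpq
  · rw [mul_comm]; exact hpq
  · exact hqq

theorem no_commute {p q : ℕ} (hp : p.Prime) (hq : q.Prime) (hne : p ≠ q) (hpq : cnt G (p * q) = 0)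
    {x y : G} (hx : orderOf x = p) (hy : orderOf y = q) : ¬ Commute x y := fun h => by
  have h1 := h.orderOf_mul_eq_mul_orderOf_of_coprime (by rw [hx, hy]; exact (Nat.coprime_primes hp hq).2 hne)
  rw [hx, hy] at h1
  exact Nat.card_ne_zero.2 ⟨⟨⟨x * y, h1⟩⟩, inferInstance⟩ hpq

/-- All orders prime, and a normal elementary abelian `p`-subgroup: a Frobenius complement of order `q`. -/
theorem exists_complement {p q : ℕ} (hp : p.Prime) (hq : q.Prime) (hne : p ≠ q)
    (hpd : p ∣ Nat.card G) (hqd : q ∣ Nat.card G)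
    (hpq : cnt G (p * q) = 0) (hord : ∀ g : G, orderOf g = 1 ∨ orderOf g = p ∨ orderOf g = q)
    (N : Subgroup G) [N.Normal] [IsMulCommutative N] (hN1 : N ≠ ⊥) (hNp : ∀ v ∈ N, v ^ p = 1) :
    ∃ C : Subgroup G, Cfsg.IsFrobeniusComplement C ∧ (Nat.card ↥C).Prime := by
  classical
  have : Fact p.Prime := ⟨hp⟩
  have : Fact q.Prime := ⟨hq⟩
  have hNo : ∀ v ∈ N, v ≠ 1 → orderOf v = p := fun v hv hv1 => orderOf_eq_prime (hNp v hv) hv1
  have hnc := fun {x y : G} => no_commute hp hq hne hpq (x := x) (y := y)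
  obtain ⟨Q⟩ := (inferInstance : Nonempty (Sylow q G))
  have hQo : ∀ y ∈ (Q : Subgroup G), y ≠ 1 → orderOf y = q := by
    intro y hy hy1
    obtain ⟨k, hk⟩ := IsPGroup.iff_orderOf.1 Q.2 ⟨y, hy⟩
    rw [Subgroup.orderOf_mk] at hk
    rcases hord y with h | h | h
    · exact absurd (orderOf_eq_one_iff.1 h) hy1
    · rw [h] at hk
      exact absurd ((Nat.prime_dvd_prime_iff_eq hp hq).1 (hp.dvd_of_dvd_pow hk.dvd)) hne
    · exact h
  let φ : (Q : Subgroup G) →* MulAut N := (MulAut.conjNormal (H := N)).comp (Q : Subgroup G).subtype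
  have hfpf : ∀ h : (Q : Subgroup G), h ≠ 1 → ∀ v : N, φ h v = v → v = 1 := by
    intro h hh v hv
    by_contra hv1
    refine hnc (hNo v v.2 fun e => hv1 (Subtype.ext e)) (hQo h h.2 fun e => hh (Subtype.ext e)) ?_
    have hv' : (h : G) * v * (h : G)⁻¹ = v := congrArg Subtype.val hv
    exact (mul_inv_eq_iff_eq_mul.1 hv').symm
  have : Nontrivial N := (Subgroup.nontrivial_iff_ne_bot N).2 hN1
  -- `Q` has order `q`
  have hQnt : Nontrivial (Q : Subgroup G) := (Subgroup.nontrivial_iff_ne_bot _).2 (Q.ne_bot_of_dvd_card hqd)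
  obtain ⟨⟨c, hcZ⟩, hc1⟩ := @exists_ne _ Q.2.center_nontrivial (1 : Subgroup.center (Q : Subgroup G))
  have hc1' : c ≠ 1 := fun e => hc1 (Subtype.ext e)
  have hco : orderOf c = q := by
    rw [← Subgroup.orderOf_coe]; exact hQo c c.2 fun e => hc1' (Subtype.ext e)
  have hQcard : Nat.card (Q : Subgroup G) = q := by
    refine Eq.trans ?_ hco
    refine Subgroup.card_top.symm.trans ((congrArg (fun K : Subgroup (Q : Subgroup G) => Nat.card K) ?_).trans
      (Nat.card_zpowers c))
    refine ((Subgroup.eq_top_iff' _).2 fun d => ?_).symm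
    by_cases hd1 : d = 1
    · rw [hd1]; exact one_mem _
    have hdo : orderOf d = q := by
      rw [← Subgroup.orderOf_coe]; exact hQo d d.2 fun e => hd1 (Subtype.ext e)
    rw [← CfsgLib.Solvable.zpowers_eq_of_commute_of_fpf φ hfpf hq hdo hco (Subgroup.mem_center_iff.1 hcZ d)]
    exact Subgroup.mem_zpowers d
  -- no element of order `p` normalizes `Q`
  have hnorm : ∀ x : G, orderOf x = p → x ∉ Subgroup.normalizer ((Q : Subgroup G) : Set G) := by
    intro x hx hxN
    have hxnN : x ∉ N := by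
      intro h
      obtain ⟨y, hy1⟩ := exists_ne (1 : (Q : Subgroup G))
      have hyo := hQo y y.2 fun e => hy1 (Subtype.ext e)
      have h1 : x * y * x⁻¹ * (y : G)⁻¹ ∈ (Q : Subgroup G) :=
        (Q : Subgroup G).mul_mem ((Subgroup.mem_normalizer_iff.1 hxN (y : G)).1 y.2) (inv_mem y.2)
      have h2 : x * y * x⁻¹ * (y : G)⁻¹ ∈ N := by
        rw [mul_assoc, mul_assoc, ← mul_assoc (y : G)]
        exact N.mul_mem h (‹N.Normal›.conj_mem _ (N.inv_mem h) _)
      by_cases h3 : x * y * x⁻¹ * (y : G)⁻¹ = 1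
      · exact hnc hx hyo (mul_inv_eq_iff_eq_mul.1 (mul_inv_eq_one.1 h3))
      · exact hne ((hNo _ h2 h3).symm.trans (hQo _ h1 h3))
    obtain ⟨y, hy1⟩ := exists_ne (1 : (Q : Subgroup G))
    have hyo := hQo y y.2 fun e => hy1 (Subtype.ext e)
    have hQgen : ∀ e : (Q : Subgroup G), ∃ i : ℕ, i < q ∧ e = y ^ i := by
      intro e
      have htop : Subgroup.zpowers y = ⊤ := zpowers_eq_top_of_prime_card hQcard hy1
      obtain ⟨i, hi⟩ := mem_powers_iff_mem_zpowers.2 (htop ▸ Subgroup.mem_top e : e ∈ Subgroup.zpowers y)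
      refine ⟨i % q, Nat.mod_lt _ hq.pos, ?_⟩
      have hyo' : orderOf y = q := by rw [← Subgroup.orderOf_coe, hyo]
      have h := pow_mod_orderOf y i
      rw [hyo'] at h
      exact hi.symm.trans h.symm
    -- norm identities
    have hN_one : ∀ g : G, g ∉ N → ∀ s : ℕ, s.Prime → orderOf g = s → (s = p ∨ s = q) → ∀ v : N,
        ∏ j ∈ Finset.range s, MulAut.conjNormal (g ^ j) v = 1 := by
      intro g hg s hs hgo hspq v
      have hgs : g ^ s = 1 := by rw [← hgo, pow_orderOf_eq_one]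
      refine prod_conj_eq_one N g s v ?_ hgs
      have hmk : ((((v : G) * g : G)) : G ⧸ N) = (g : G ⧸ N) := by
        rw [QuotientGroup.mk_mul, (QuotientGroup.eq_one_iff (v : G)).2 v.2, one_mul]
      have hq1 : (g : G ⧸ N) ≠ 1 := fun h => hg ((QuotientGroup.eq_one_iff g).1 h)
      have hgq : orderOf (g : G ⧸ N) = s := by
        have : Fact s.Prime := ⟨hs⟩
        exact orderOf_eq_prime (by rw [← QuotientGroup.mk_pow, hgs, QuotientGroup.mk_one]) hq1
      have hdv : orderOf (g : G ⧸ N) ∣ orderOf ((v : G) * g) := hmk ▸ orderOf_map_dvd (QuotientGroup.mk' N) _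
      rw [hgq] at hdv
      rcases hord ((v : G) * g) with h | h | h
      · rw [h, Nat.dvd_one] at hdv; exact absurd hdv hs.ne_one
      all_goals
        rw [h] at hdv
        rcases hspq with rfl | rfl
      · rw [← h, pow_orderOf_eq_one]
      · exact absurd ((Nat.prime_dvd_prime_iff_eq hq hp).1 hdv).symm hne
      · exact absurd ((Nat.prime_dvd_prime_iff_eq hp hq).1 hdv) hne
      · rw [← h, pow_orderOf_eq_one]
    have hyN : (y : G) ∉ N := fun h => hne ((hNo _ h fun e => hy1 (Subtype.ext e)).symm.trans hyo)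
    let T : Fin q → G := fun i => (y : G) ^ (i : ℕ) * x * ((y : G) ^ (i : ℕ))⁻¹
    obtain ⟨v, hv⟩ := exists_ne (1 : N)
    have hall : ∏ i : Fin q, ∏ j ∈ Finset.range p, MulAut.conjNormal (T i ^ j) v = 1 := by
      refine Finset.prod_eq_one fun i _ => hN_one _ ?_ p hp ?_ (Or.inl rfl) v
      · intro h
        exact hxnN (by simpa [T, mul_assoc] using ‹N.Normal›.conj_mem _ h ((y : G) ^ (i : ℕ))⁻¹)
      · exact (orderOf_injective (MulAut.conj ((y : G) ^ (i : ℕ))).toMonoidHom (MulAut.conj _).injective x).trans hx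
    rw [Finset.prod_comm, Finset.prod_eq_single_of_mem 0 (Finset.mem_range.2 hp.pos)] at hall
    · simp only [pow_zero, map_one, MulAut.one_apply, Finset.prod_const, Finset.card_univ, Fintype.card_fin] at hall
      have h1 : orderOf (v : G) ∣ q := orderOf_dvd_of_pow_eq_one (by rw [← Subgroup.coe_pow, hall, Subgroup.coe_one])
      rw [hNo v v.2 fun e => hv (Subtype.ext e)] at h1
      exact hne ((Nat.prime_dvd_prime_iff_eq hp hq).1 h1)
    intro j hj hj0
    rw [Finset.mem_range] at hj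
    have hxj : orderOf (x ^ j) = p := by
      refine orderOf_eq_prime ?_ fun h => hj0 (Nat.eq_zero_of_dvd_of_lt (hx ▸ orderOf_dvd_of_pow_eq_one h) hj)
      rw [← pow_mul, mul_comm, pow_mul, ← hx, pow_orderOf_eq_one, one_pow]
    have hmem : ∀ i : Fin q, (y : G) ^ (i : ℕ) * x ^ j * ((y : G) ^ (i : ℕ))⁻¹ * (x ^ j)⁻¹ ∈ (Q : Subgroup G) := by
      intro i
      have h1 : x ^ j * ((y : G) ^ (i : ℕ))⁻¹ * (x ^ j)⁻¹ ∈ (Q : Subgroup G) :=
        (Subgroup.mem_normalizer_iff.1 (pow_mem hxN j) _).1 (inv_mem (pow_mem y.2 _))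
      have := (Q : Subgroup G).mul_mem (pow_mem y.2 (i : ℕ)) h1
      simpa [mul_assoc] using this
    let e : Fin q → (Q : Subgroup G) := fun i => ⟨_, hmem i⟩
    have hinj : ∀ i l : Fin q, (i : ℕ) ≤ l → e i = e l → i = l := by
      intro i l hil h
      have h' : (y : G) ^ (i : ℕ) * x ^ j * ((y : G) ^ (i : ℕ))⁻¹ =
          (y : G) ^ (l : ℕ) * x ^ j * ((y : G) ^ (l : ℕ))⁻¹ := mul_right_cancel (congrArg Subtype.val h)
      obtain ⟨d, hd⟩ := Nat.exists_eq_add_of_le hil
      have h'' : Commute (x ^ j) ((y : G) ^ d) := by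
        rw [hd, pow_add] at h'
        have h3 : x ^ j = (y : G) ^ d * x ^ j * ((y : G) ^ d)⁻¹ := by
          have := congrArg (fun u => ((y : G) ^ (i : ℕ))⁻¹ * u * (y : G) ^ (i : ℕ)) h'
          simpa [mul_assoc] using this
        exact (mul_inv_eq_iff_eq_mul.1 h3.symm).symm
      rcases Nat.eq_zero_or_pos d with rfl | hd0
      · exact Fin.ext (by omega)
      exfalso
      refine hnc hxj (orderOf_eq_prime ?_ ?_) h''
      · have h := pow_orderOf_eq_one (y : G)
        rw [hyo] at h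
        rw [← pow_mul, mul_comm, pow_mul, h, one_pow]
      · intro hd1
        have := Nat.le_of_dvd hd0 (hyo ▸ orderOf_dvd_of_pow_eq_one hd1)
        have := l.2
        omega
    have hinj' : Function.Injective e := fun i l h => by
      rcases le_total (i : ℕ) l with hil | hil
      · exact hinj i l hil h
      · exact (hinj l i hil h.symm).symm
    have hbij : Function.Bijective e :=
      (Nat.bijective_iff_injective_and_card e).2 ⟨hinj', by rw [Nat.card_fin, hQcard]⟩
    let := Fintype.ofFinite (Q : Subgroup G)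
    set w := MulAut.conjNormal (x ^ j) v
    have hy' := hN_one (y : G) hyN q hq hyo (Or.inr rfl) w
    calc ∏ i : Fin q, MulAut.conjNormal (T i ^ j) v
        = ∏ i : Fin q, MulAut.conjNormal ((e i : (Q : Subgroup G)) : G) w := by
          refine Finset.prod_congr rfl fun i _ => ?_
          rw [← MulAut.mul_apply, ← map_mul]
          congr 2
          simp only [T, e]
          rw [inv_mul_cancel_right, conj_pow]
      _ = ∏ u : (Q : Subgroup G), MulAut.conjNormal (u : G) w := hbij.prod_comp fun u : (Q : Subgroup G) => MulAut.conjNormal (u : G) w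
      _ = ∏ i ∈ Finset.range q, MulAut.conjNormal ((y : G) ^ i) w := by
          refine (Finset.prod_bij (fun i _ => y ^ i) (fun i _ => Finset.mem_univ _) ?_ ?_ fun i _ => by
            rw [Subgroup.coe_pow]).symm
          · intro i hi l hl h
            rw [Finset.mem_range] at hi hl
            exact Nat.ModEq.eq_of_lt_of_lt (pow_eq_pow_iff_modEq.1 h) (by rw [← Subgroup.orderOf_coe, hyo]; exact hi)
              (by rw [← Subgroup.orderOf_coe, hyo]; exact hl)
          · intro u _
            obtain ⟨i, hi, he⟩ := hQgen u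
            exact ⟨i, Finset.mem_range.2 hi, he.symm⟩
      _ = 1 := hy'
  refine ⟨(Q : Subgroup G), ⟨Q.ne_bot_of_dvd_card hqd, fun h => ?_, fun g hg => ?_⟩, by rw [hQcard]; exact hq⟩
  · rw [h, Subgroup.card_top] at hQcard
    exact hne ((Nat.prime_dvd_prime_iff_eq hp hq).1 (hQcard ▸ hpd))
  · by_contra hne0
    have heq : (Q : Subgroup G) = MulAut.conj g • (Q : Subgroup G) := by
      have h1 : (Q : Subgroup G) ⊓ MulAut.conj g • (Q : Subgroup G) = (Q : Subgroup G) := by
        refine Subgroup.eq_of_le_of_card_ge inf_le_left ?_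
        rcases (Nat.dvd_prime hq).1 ((Subgroup.card_dvd_of_le (inf_le_left :
          (Q : Subgroup G) ⊓ MulAut.conj g • (Q : Subgroup G) ≤ (Q : Subgroup G))).trans hQcard.dvd) with h | h
        · exact absurd (Subgroup.eq_bot_of_card_eq _ h) hne0
        · rw [h, hQcard]
      refine Subgroup.eq_of_le_of_card_ge (fun u hu => (h1.ge hu).2) (le_of_eq ?_)
      exact (Nat.card_congr (Subgroup.equivSMul (MulAut.conj g) (Q : Subgroup G)).toEquiv).symm
    have hgN : g ∈ Subgroup.normalizer ((Q : Subgroup G) : Set G) := by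
      refine Subgroup.mem_normalizer_fintype fun u hu => ?_
      have h2 : MulAut.conj g • u ∈ MulAut.conj g • (Q : Subgroup G) := Subgroup.smul_mem_pointwise_smul u _ _ hu
      rw [← heq] at h2
      exact h2
    rcases hord g with h | h | h
    · exact hg (orderOf_eq_one_iff.1 h ▸ (Q : Subgroup G).one_mem)
    · exact hnorm g h hgN
    · have hgp : IsPGroup q (Subgroup.zpowers g) :=
        IsPGroup.of_card (n := 1) (by rw [Nat.card_zpowers, h, pow_one])
      have hle : Subgroup.zpowers g ≤ Subgroup.normalizer ((Q : Subgroup G) : Set G) := Subgroup.zpowers_le.2 hgN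
      have := Q.3 (IsPGroup.to_sup_of_normal_right' hgp Q.2 hle) le_sup_right
      exact hg (this ▸ (le_sup_left : Subgroup.zpowers g ≤ _) (Subgroup.mem_zpowers g))

section Roles

variable {p q a b : ℕ} (hv : ∀ m, 3 ≤ m → cnt G m = 0 ∨ cnt G m = a ∨ cnt G m = b)
  (hp : p.Prime) (hq : q.Prime) (hp2 : p ≠ 2) (hq2 : q ≠ 2) (hne : p ≠ q)
  (hpd : p ∣ Nat.card G) (hqd : q ∣ Nat.card G) (hpa : cnt G p = a) (hqb : cnt G q = b)

include hv hp hq hp2 hq2 hne hpd hqd hpa hqb

theorem congr_pq :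
    ((b : ZMod p) + (cnt G (p * q) : ZMod p) = 0) ∧ ((a : ZMod q) + (cnt G (p * q) : ZMod q) = 0) := by
  have h := dvd_sum_cnt (((Nat.coprime_primes hp hq).2 hne).mul_dvd_of_dvd_of_dvd hpd hqd)
  rw [sum_divisors_prime_mul hp hq.ne_zero (fun h => hne ((Nat.prime_dvd_prime_iff_eq hp hq).1 h)),
    hq.divisors, Finset.sum_pair (Ne.symm hq.ne_one), Finset.sum_pair (Ne.symm hq.ne_one), mul_one,
    cnt_one, hpa, hqb] at h
  have h1 := (ZMod.natCast_eq_zero_iff _ p).2 ((dvd_mul_right p q).trans h)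
  have h2 := (ZMod.natCast_eq_zero_iff _ q).2 ((dvd_mul_left q p).trans h)
  have ha := cast_cnt_prime (G := G) hp hpd
  have hb := cast_cnt_prime (G := G) hq hqd
  rw [hpa] at ha; rw [hqb] at hb
  push_cast at h1 h2
  exact ⟨by linear_combination h1 - ha, by linear_combination h2 - hb⟩

theorem cnt_pq_ne : cnt G (p * q) ≠ a := by
  intro hx
  have : Fact p.Prime := ⟨hp⟩
  have : Fact q.Prime := ⟨hq⟩
  obtain ⟨h1, -⟩ := congr_pq hv hp hq hp2 hq2 hne hpd hqd hpa hqb
  have ha := cast_cnt_prime (G := G) hp hpd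
  rw [hpa] at ha
  rw [hx] at h1
  have hb1 : (b : ZMod p) = 1 := by linear_combination h1 - ha
  obtain ⟨P⟩ := (inferInstance : Nonempty (Sylow p G))
  let α := {y : G // orderOf y = q}
  letI : MulAction (P : Subgroup G) α :=
    { smul := fun x y => ⟨(x : G) * y.1 * (x : G)⁻¹,
        (orderOf_injective (MulAut.conj (x : G)).toMonoidHom (MulAut.conj _).injective y.1).trans y.2⟩
      one_smul := fun y => Subtype.ext (by show (1 : G) * y.1 * (1 : G)⁻¹ = y.1; group)
      mul_smul := fun x x' y => Subtype.ext (by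
        show ((x * x' : (P : Subgroup G)) : G) * y.1 * ((x * x' : (P : Subgroup G)) : G)⁻¹ =
          (x : G) * ((x' : G) * y.1 * (x' : G)⁻¹) * (x : G)⁻¹
        rw [Subgroup.coe_mul]; group) }
  have hmod := P.2.card_modEq_card_fixedPoints α
  have hne0 : Nat.card (MulAction.fixedPoints (P : Subgroup G) α) ≠ 0 := by
    intro h0
    rw [h0, Nat.modEq_zero_iff_dvd, ← ZMod.natCast_eq_zero_iff, show Nat.card α = b from hqb, hb1] at hmod
    exact one_ne_zero hmod
  obtain ⟨⟨⟨y, hy⟩, hyfix⟩⟩ := (Nat.card_ne_zero.1 hne0).1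
  have hycomm : ∀ x : (P : Subgroup G), Commute (x : G) y := fun x => by
    have : (x : G) * y * (x : G)⁻¹ = y := congrArg Subtype.val (hyfix x)
    exact mul_inv_eq_iff_eq_mul.1 this
  have hpart : ∀ x : G, orderOf x = p → ∃ y' : G, orderOf y' = q ∧ Commute x y' := by
    intro x hx
    obtain ⟨P', hP'⟩ := (IsPGroup.of_card (n := 1) (by rw [Nat.card_zpowers, hx, pow_one]) :
      IsPGroup p (Subgroup.zpowers x)).exists_le_sylow
    obtain ⟨g, rfl⟩ := MulAction.exists_smul_eq G P P'
    obtain ⟨u, hu, hux⟩ := hP' (Subgroup.mem_zpowers x)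
    refine ⟨g * y * g⁻¹, (orderOf_injective (MulAut.conj g).toMonoidHom (MulAut.conj g).injective y).trans hy, ?_⟩
    have hux' : g * u * g⁻¹ = x := hux
    rw [← hux']
    exact (hycomm ⟨u, hu⟩).map (MulAut.conj g).toMonoidHom
  choose f hf hfc using hpart
  have hq3 : 3 ≤ q := by have := hq.two_le; omega
  let F : {x : G // orderOf x = p} × Fin 2 → {g : G // orderOf g = p * q} := fun z =>
    ⟨z.1.1 * f z.1.1 z.1.2 ^ ((z.2 : ℕ) + 1), by
      have hord : orderOf (f z.1.1 z.1.2 ^ ((z.2 : ℕ) + 1)) = q := by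
        refine orderOf_eq_prime (by rw [← pow_mul, mul_comm, pow_mul, ← hf z.1.1 z.1.2, pow_orderOf_eq_one, one_pow]) fun h => ?_
        have := Nat.le_of_dvd (by omega) (hf z.1.1 z.1.2 ▸ orderOf_dvd_of_pow_eq_one h)
        have := z.2.2
        omega
      rw [((hfc z.1.1 z.1.2).pow_right _).orderOf_mul_eq_mul_orderOf_of_coprime (by
        rw [z.1.2, hord]; exact (Nat.coprime_primes hp hq).2 hne), z.1.2, hord]⟩
  have hFinj : Function.Injective F := by
    rintro ⟨⟨x, hx⟩, i⟩ ⟨⟨x', hx'⟩, i'⟩ h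
    have h' : x * f x hx ^ ((i : ℕ) + 1) = x' * f x' hx' ^ ((i' : ℕ) + 1) := congrArg Subtype.val h
    have h2 := congrArg (fun u => u ^ q) h'
    simp only [((hfc x hx).pow_right _).mul_pow, ((hfc x' hx').pow_right _).mul_pow, ← pow_mul] at h2
    rw [mul_comm ((i : ℕ) + 1) q, mul_comm ((i' : ℕ) + 1) q, pow_mul, pow_mul,
      show f x hx ^ q = 1 by rw [← hf x hx, pow_orderOf_eq_one],
      show f x' hx' ^ q = 1 by rw [← hf x' hx', pow_orderOf_eq_one], one_pow, one_pow, mul_one, mul_one] at h2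
    have hxx : x = x' := by
      obtain ⟨k, hk⟩ := exists_pow_eq_self_of_coprime (x := x) (n := q) (by rw [hx]; exact (Nat.coprime_primes hq hp).2 (Ne.symm hne))
      obtain ⟨k', hk'⟩ := exists_pow_eq_self_of_coprime (x := x') (n := q) (by rw [hx']; exact (Nat.coprime_primes hq hp).2 (Ne.symm hne))
      have hxp : x ∈ Subgroup.zpowers (x' ^ q) := by
        rw [← hk, h2]
        exact Subgroup.pow_mem _ (Subgroup.mem_zpowers _) k
      obtain ⟨r, hr⟩ := Subgroup.mem_zpowers_iff.1 hxp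
      have hc : Commute x x' := hr ▸ ((Commute.refl x').pow_left q).zpow_left r
      have h3 : (x * x'⁻¹) ^ q = 1 := by rw [hc.inv_right.mul_pow, h2, inv_pow, mul_inv_cancel]
      have h4 : (x * x'⁻¹) ^ p = 1 := by
        rw [hc.inv_right.mul_pow, inv_pow, show x ^ p = 1 by rw [← hx, pow_orderOf_eq_one],
          show x' ^ p = 1 by rw [← hx', pow_orderOf_eq_one], inv_one, mul_one]
      have h5 := pow_gcd_eq_one.2 ⟨h4, h3⟩
      rw [(Nat.coprime_primes hp hq).2 hne, pow_one] at h5
      exact mul_inv_eq_one.1 h5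
    subst hxx
    have h5 : (i : ℕ) + 1 = i' + 1 := by
      have := pow_eq_pow_iff_modEq.1 (mul_left_cancel h')
      rw [hf x hx] at this
      exact Nat.ModEq.eq_of_lt_of_lt this (by have := i.2; omega) (by have := i'.2; omega)
    refine Prod.ext rfl (Fin.ext ?_)
    show (i : ℕ) = i'
    omega
  have hle := Nat.card_le_card_of_injective F hFinj
  rw [Nat.card_prod, Nat.card_fin, show Nat.card {x : G // orderOf x = p} = a from hpa,
    show Nat.card {g : G // orderOf g = p * q} = a from hx] at hle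
  have := Nat.pos_of_ne_zero (hpa ▸ cnt_ne_zero_of_prime hp hpd)
  omega

/-- no elements of order `p ^ 2`. -/
theorem cnt_sq (h0 : cnt G (p * q) = 0) : cnt G (p * p) = 0 := by
  by_contra hne0
  have : Fact p.Prime := ⟨hp⟩
  have : Fact q.Prime := ⟨hq⟩
  obtain ⟨-, h2⟩ := congr_pq hv hp hq hp2 hq2 hne hpd hqd hpa hqb
  rw [h0, Nat.cast_zero, add_zero] at h2
  have hb := cast_cnt_prime (G := G) hq hqd
  rw [hqb] at hb
  have ha := cast_cnt_prime (G := G) hp hpd
  rw [hpa] at ha
  have hx : cnt G (p * p) = b := by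
    rcases hv (p * p) (by have := Nat.mul_le_mul hp.two_le hp.two_le; omega) with h | h | h
    · exact absurd h hne0
    · have hz := (ZMod.natCast_eq_zero_iff (cnt G (p * p)) p).2 (dvd_cnt_of_sq_dvd hp dvd_rfl)
      rw [h, ha] at hz
      exact absurd hz (neg_ne_zero.2 one_ne_zero)
    · exact h
  have hqp : ¬ q ∣ p * p := fun h => by
    rcases hq.dvd_mul.1 h with h | h <;> exact hne ((Nat.prime_dvd_prime_iff_eq hq hp).1 h).symm
  have h := dvd_sum_cnt (((hq.coprime_iff_not_dvd).2 hqp).mul_dvd_of_dvd_of_dvd hqd (dvd_card_of_cnt hne0))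
  rw [sum_divisors_prime_mul hq (mul_ne_zero hp.ne_zero hp.ne_zero) hqp, ← pow_two,
    Nat.divisors_prime_pow hp, Finset.sum_map, Finset.sum_map] at h
  simp only [Function.Embedding.coeFn_mk, Finset.sum_range_succ, Finset.sum_range_zero, zero_add, pow_zero,
    pow_one, mul_one] at h
  rw [cnt_one, hpa, pow_two, hx, hqb, mul_comm q p, h0,
    cnt_zero_of_dvd (show p * q ∣ q * (p * p) from ⟨p, by ring⟩) h0] at h
  have hz := (ZMod.natCast_eq_zero_iff _ q).2 ((dvd_mul_right q _).trans h)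
  push_cast at hz
  exact one_ne_zero (α := ZMod q) (by linear_combination -hz + h2 + 2 * hb)

end Roles


/-- Let G be a finite group of odd order in which the numbers of elements of each order that occurs (the numbers #{g : o(g) = m}, m ranging over the element orders of G) take exactly three different values. Then the order of G has at most two prime divisors; and if it has exactly two, then every Sylow subgroup of G for a prime dividing its order has prime exponent, G is a Frobenius group, and some Frobenius complement of G has prime order. -/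
theorem result {G : Type*} [Group G] [Finite G] (hodd : Odd (Nat.card G)) (h : (((fun m : ℕ => Nat.card {g : G // orderOf g = m}) '' Set.range (orderOf : G → ℕ))).ncard = 3) :
    (Nat.card G).primeFactors.card ≤ 2 ∧
      ((Nat.card G).primeFactors.card = 2 →
        (∀ (p : ℕ) [Fact p.Prime] (P : Sylow p G), p ∣ Nat.card G → Monoid.exponent ↥(P : Subgroup G) = p) ∧
        ∃ C : Subgroup G, Cfsg.IsFrobeniusComplement C ∧ (Nat.card ↥C).Prime) := by
  obtain ⟨a, b, hv, -⟩ := Cfsg.Agent.S3996.exists_values h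
  have h2 : ¬ 2 ∣ Nat.card G := fun hd => Nat.not_even_iff_odd.2 hodd (even_iff_two_dvd.2 hd)
  refine ⟨card_primeFactors_le hv h2, fun hk => ?_⟩
  obtain ⟨p, q, hne, hpq⟩ := Finset.card_eq_two.1 hk
  have hp' : p ∈ (Nat.card G).primeFactors := by rw [hpq]; simp
  have hq' : q ∈ (Nat.card G).primeFactors := by rw [hpq]; simp
  obtain ⟨hp, hpd, -⟩ := Nat.mem_primeFactors.1 hp'
  obtain ⟨hq, hqd, -⟩ := Nat.mem_primeFactors.1 hq'
  have hd : ∀ d : ℕ, d.Prime → d ∣ Nat.card G → d = p ∨ d = q := fun d hd hdd => by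
    have := Nat.mem_primeFactors.2 ⟨hd, hdd, Nat.card_pos.ne'⟩
    rw [hpq] at this
    simpa using this
  have hp2 : p ≠ 2 := fun e => h2 (e ▸ hpd)
  have hq2 : q ≠ 2 := fun e => h2 (e ▸ hqd)
  -- choose the labels
  have hroles : ∀ (A B : ℕ), (∀ m, 3 ≤ m → cnt G m = 0 ∨ cnt G m = A ∨ cnt G m = B) → cnt G p = A →
      cnt G q = B → cnt G (p * q) = 0 ∧ cnt G (p * p) = 0 ∧ cnt G (q * q) = 0 := by
    intro A B hv hA hB
    have h0 : cnt G (p * q) = 0 := by
      rcases hv (p * q) (by have := Nat.mul_le_mul hp.two_le hq.two_le; omega) with hx | hx | hx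
      · exact hx
      · exact absurd hx (cnt_pq_ne hv hp hq hp2 hq2 hne hpd hqd hA hB)
      · exact absurd (by rw [mul_comm]; exact hx) (cnt_pq_ne (CfsgLib.StructB.OrderCount.swap hv) hq hp hq2 hp2 (Ne.symm hne) hqd hpd hB hA)
    exact ⟨h0, cnt_sq hv hp hq hp2 hq2 hne hpd hqd hA hB h0,
      cnt_sq (CfsgLib.StructB.OrderCount.swap hv) hq hp hq2 hp2 (Ne.symm hne) hqd hpd hB hA (by rw [mul_comm]; exact h0)⟩
  obtain ⟨hpq0, hpp, hqq⟩ : cnt G (p * q) = 0 ∧ cnt G (p * p) = 0 ∧ cnt G (q * q) = 0 := by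
    rcases prime_value hv hp hp2 hpd with hx | hx <;> rcases prime_value hv hq hq2 hqd with hy | hy
    · exact (odd_false (CfsgLib.StructB.OrderCount.swap hv) hp hq hne h2 hpd hqd hx hy).elim
    · exact hroles a b hv hx hy
    · exact hroles b a (CfsgLib.StructB.OrderCount.swap hv) hx hy
    · exact (odd_false hv hp hq hne h2 hpd hqd hx hy).elim
  have hord := orderOf_mem hp hq hd hpq0 hpp hqq
  refine ⟨fun r hr P hrd => ?_, ?_⟩
  · have hrp : r.Prime := hr.out
    have hdiv : Monoid.exponent ↥(P : Subgroup G) ∣ r := by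
      refine Monoid.exponent_dvd_of_forall_pow_eq_one fun x => Subtype.ext ?_
      obtain ⟨k, hk⟩ := IsPGroup.iff_orderOf.1 P.2 x
      rw [← Subgroup.orderOf_coe] at hk
      rw [Subgroup.coe_pow, Subgroup.coe_one, ← orderOf_dvd_iff_pow_eq_one]
      rcases hord (x : G) with h' | h' | h'
      · rw [h']; exact one_dvd _
      all_goals
        rw [h'] at hk
        rw [h']
      · exact ((Nat.prime_dvd_prime_iff_eq hp hrp).1 (hp.dvd_of_dvd_pow hk.dvd)).dvd
      · exact ((Nat.prime_dvd_prime_iff_eq hq hrp).1 (hq.dvd_of_dvd_pow hk.dvd)).dvd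
    refine ((Nat.dvd_prime hrp).1 hdiv).resolve_left fun h1 => ?_
    exact P.ne_bot_of_dvd_card hrd ((Subgroup.eq_bot_iff_forall _).2 fun x hx => by
      have := Monoid.pow_exponent_eq_one (⟨x, hx⟩ : ↥(P : Subgroup G))
      rw [h1, pow_one] at this
      exact congrArg Subtype.val this)
  · classical
    have hsol : Group.IsSolvable G := isSolvable_of_two_primes hp hq hd
    obtain ⟨n, hn⟩ := hsol.solvable
    have hex : ∃ k, derivedSeries G k = ⊥ := ⟨n, hn⟩
    set k := Nat.find hex with hkdef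
    have hk0 : k ≠ 0 := fun e => by
      have h' := Nat.find_spec hex
      rw [← hkdef, e, derivedSeries_zero] at h'
      have h1 : Nat.card G = 1 := by rw [← Subgroup.card_top, h', Subgroup.card_bot]
      rw [h1, Nat.dvd_one] at hpd
      exact hp.ne_one hpd
    obtain ⟨l, hl⟩ := Nat.exists_eq_succ_of_ne_zero hk0
    set A := derivedSeries G l with hA
    have hA1 : A ≠ ⊥ := Nat.find_min hex (by omega)
    have hAab : ∀ x ∈ A, ∀ y ∈ A, x * y = y * x := by
      intro x hx y hy
      have h' := Nat.find_spec hex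
      rw [← hkdef, hl, derivedSeries_succ] at h'
      exact commutatorElement_eq_one_iff_mul_comm.1 (Subgroup.mem_bot.1
        (h' ▸ Subgroup.commutator_mem_commutator hx hy))
    obtain ⟨x, hxA, hx1⟩ : ∃ x ∈ A, x ≠ 1 := by
      by_contra h'
      push Not at h'
      exact hA1 ((Subgroup.eq_bot_iff_forall _).2 h')
    have hxord := (hord x).resolve_left (fun e => hx1 (orderOf_eq_one_iff.1 e))
    have mkN : ∀ r : ℕ, r.Prime → orderOf x = r → ∃ N : Subgroup G, N.Normal ∧ IsMulCommutative N ∧ N ≠ ⊥ ∧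
        ∀ v ∈ N, v ^ r = 1 := by
      intro r hr hxr
      let N : Subgroup G :=
        { carrier := {v | v ∈ A ∧ v ^ r = 1}
          one_mem' := ⟨A.one_mem, one_pow r⟩
          mul_mem' := fun {u v} hu hv => ⟨A.mul_mem hu.1 hv.1, by
            rw [(show Commute u v from hAab u hu.1 v hv.1).mul_pow, hu.2, hv.2, one_mul]⟩
          inv_mem' := fun {u} hu => ⟨A.inv_mem hu.1, by rw [inv_pow, hu.2, inv_one]⟩ }
      refine ⟨N, ⟨fun v hv g => ⟨(derivedSeries_normal G l).conj_mem v hv.1 g, by rw [conj_pow, hv.2, mul_one, mul_inv_cancel]⟩⟩,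
        ⟨⟨fun u v => Subtype.ext (hAab u u.2.1 v v.2.1)⟩⟩, fun e => hx1 ?_, fun v hv => hv.2⟩
      have hx' : x ∈ N := ⟨hxA, by rw [← hxr, pow_orderOf_eq_one]⟩
      rw [e] at hx'
      exact hx'
    rcases hxord with h' | h'
    · obtain ⟨N, hNn, hNc, hN1, hNp⟩ := mkN p hp h'
      exact exists_complement hp hq hne hpd hqd hpq0 hord N hN1 hNp
    · obtain ⟨N, hNn, hNc, hN1, hNp⟩ := mkN q hq h'
      exact exists_complement hq hp (Ne.symm hne) hqd hpd (by rw [mul_comm]; exact hpq0)
        (fun g => (hord g).imp id Or.symm) N hN1 hNp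

end Cfsg.Agent.S4004
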