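import Cfsg.Statements.S4005
import Cfsg.Agent.Lib.Char.Burnside
import Cfsg.Agent.Lib.Solvable.MinNormal
import Cfsg.Agent.Lib.Solvable.PCore
import Cfsg.Agent.Lib.Solvable.FixedPointFree
import Cfsg.Agent.Lib.StructC.FrobComplement
import Cfsg.Agent.Lib.StructB.Misc
-- import your own Cfsg.Agent.* helpers here

set_option autoImplicit false
open Cfsg

namespace Cfsg.Agent.S4005

/-- A finite group whose set of element orders is exactly {1, 2, 3} has either a normal elementary abelian 3-subgroup of index 2 or a normal elementary abelian 2-subgroup of index 3. -/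
theorem result {G : Type*} [Group G] [Finite G] (h : Set.range (orderOf : G → ℕ) = {k : ℕ | 1 ≤ k ∧ k ≤ 3}) :
    (∃ N : Subgroup G, N.Normal ∧ Cfsg.IsElementaryAbelian 3 N ∧ N.index = 2) ∨
      (∃ N : Subgroup G, N.Normal ∧ Cfsg.IsElementaryAbelian 2 N ∧ N.index = 3) := by
  classical
  haveI : Fact (Nat.Prime 2) := ⟨Nat.prime_two⟩
  haveI : Fact (Nat.Prime 3) := ⟨Nat.prime_three⟩
  have hord : ∀ g : G, 1 ≤ orderOf g ∧ orderOf g ≤ 3 := fun g => h.subset ⟨g, rfl⟩
  have hno6 : ∀ g : G, ¬ (2 ∣ orderOf g ∧ 3 ∣ orderOf g) := fun g ⟨h2, h3⟩ => by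
    have := Nat.le_of_dvd (orderOf_pos g) (Nat.Coprime.mul_dvd_of_dvd_of_dvd (by norm_num) h2 h3)
    have := (hord g).2
    omega
  have hexist : ∀ q : ℕ, 1 ≤ q → q ≤ 3 → ∃ g : G, orderOf g = q := fun q h1 h2 => h.symm.subset ⟨h1, h2⟩
  have hprime : ∀ r : ℕ, r.Prime → r ∣ Nat.card G → r = 2 ∨ r = 3 := by
    intro r hr hd
    haveI : Fact r.Prime := ⟨hr⟩
    obtain ⟨g, hg⟩ := exists_prime_orderOf_dvd_card' (G := G) r hd
    have h2 := (hord g).2
    have h3 := hr.two_le
    omega
  haveI : Group.IsSolvable G := by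
    obtain ⟨a, n', hn', hcard⟩ := Nat.exists_eq_pow_mul_and_not_dvd (Nat.card_pos (α := G)).ne' 2 (by norm_num)
    have h3 : n' = 3 ^ n'.primeFactorsList.length := by
      refine Nat.eq_prime_pow_of_unique_prime_dvd (fun e => hn' (e ▸ dvd_zero 2)) fun {r} hr hd => ?_
      exact (hprime r hr (hcard ▸ hd.mul_left _)).resolve_left fun e => hn' (e ▸ hd)
    rw [h3] at hcard
    exact CfsgLib.Char.burnside_pq 2 3 Nat.prime_two Nat.prime_three _ _ G hcard
  haveI : Nontrivial G := by
    obtain ⟨g, hg⟩ := hexist 2 (by norm_num) (by norm_num)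
    exact ⟨⟨g, 1, fun e => by rw [e, orderOf_one] at hg; omega⟩⟩
  obtain ⟨M, hMn, hMne, hMmin⟩ := CfsgLib.Solvable.exists_minimal_normal (G := G)
  obtain ⟨p, hp, hMp, -, -⟩ := CfsgLib.Solvable.exists_isPGroup_of_minimal_normal hMne hMmin
  haveI : Fact p.Prime := ⟨hp⟩
  set F := Cfsg.pCore p G with hF
  haveI hFn : F.Normal := CfsgLib.Solvable.pCore_normal p G
  have hFp : IsPGroup p F := CfsgLib.Solvable.pCore_isPGroup p
  have hMF : M ≤ F := CfsgLib.Solvable.le_pCore hMn hMp
  obtain ⟨f0, hf0, hf01⟩ : ∃ f ∈ F, f ≠ 1 := by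
    obtain ⟨⟨f, hf⟩, hf1⟩ := Subgroup.ne_bot_iff_exists_ne_one.1 hMne
    exact ⟨f, hMF hf, fun e => hf1 (Subtype.ext e)⟩
  have hordF : ∀ f ∈ F, f ≠ 1 → orderOf f = p := by
    intro f hf hf1
    obtain ⟨k, hk⟩ := IsPGroup.iff_orderOf.1 hFp ⟨f, hf⟩
    rw [Subgroup.orderOf_mk] at hk
    have hp2 := hp.two_le
    have hle := (hord f).2
    rcases k with _ | _ | k
    · exact absurd (orderOf_eq_one_iff.1 (by simpa using hk)) hf1
    · simpa using hk
    · rw [hk, pow_succ, pow_succ] at hle
      nlinarith [Nat.one_le_iff_ne_zero.2 (pow_ne_zero k hp.ne_zero), mul_le_mul hp2 hp2 (by norm_num) (by omega)]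
  have hp23 := hprime p hp (hordF f0 hf0 hf01 ▸ orderOf_dvd_natCard f0)
  have hfpf : ∀ g : G, ∀ f ∈ F, f ≠ 1 → Commute g f → (orderOf g).Coprime p → g = 1 := by
    intro g f hf hf1 hc hco
    by_contra hg
    have ho := hc.orderOf_mul_eq_mul_orderOf_of_coprime (by rwa [hordF f hf hf1])
    rw [hordF f hf hf1] at ho
    have h1 : 2 ≤ orderOf g := by
      have := orderOf_pos g
      have : orderOf g ≠ 1 := fun e => hg (orderOf_eq_one_iff.1 e)
      omega
    have h2 := (hord (g * f)).2
    rw [ho] at h2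
    nlinarith [hp.two_le]
  have hlift : ∀ (g : G) (q : ℕ), q ∣ orderOf (QuotientGroup.mk g : G ⧸ F) → q ∣ orderOf g := fun g q hq =>
    hq.trans (orderOf_map_dvd (QuotientGroup.mk' F) g)
  rcases hp23 with rfl | rfl
  · -- `p = 2`
    right
    have hFel : ∀ f ∈ F, f ^ 2 = 1 := fun f hf => by
      by_cases hf1 : f = 1
      · rw [hf1, one_pow]
      · rw [← hordF f hf hf1, pow_orderOf_eq_one]
    haveI hFc : IsMulCommutative F := ⟨⟨fun a b => by
      have key : ∀ x : F, x⁻¹ = x := fun x => inv_eq_of_mul_eq_one_right (Subtype.ext (by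
        show (x : G) * x = 1
        rw [← pow_two]; exact hFel _ x.2))
      rw [← key (a * b), mul_inv_rev, key, key]⟩⟩
    have hq3 : ∀ g : G, g ∉ F → orderOf g = 3 := by
      by_contra hne
      push Not at hne
      obtain ⟨t, htF, ht3⟩ := hne
      have ht2 : orderOf t = 2 := by
        have := hord t
        have : orderOf t ≠ 1 := fun e => htF (by rw [orderOf_eq_one_iff.1 e]; exact one_mem F)
        omega
      -- some conjugate of `t` gives a product of order three modulo `F`
      obtain ⟨c, hc⟩ : ∃ c : G, orderOf (QuotientGroup.mk (t * (c * t * c⁻¹)) : G ⧸ F) = 3 := by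
        by_contra hall
        push Not at hall
        set S : Set (G ⧸ F) := Set.range fun c : G => (QuotientGroup.mk (c * t * c⁻¹) : G ⧸ F) with hS
        have hinv : ∀ c : G, (QuotientGroup.mk (c * t * c⁻¹) : G ⧸ F) ^ 2 = 1 := fun c => by
          rw [← QuotientGroup.mk_pow, conj_pow, ← ht2, pow_orderOf_eq_one, mul_one, mul_inv_cancel, QuotientGroup.mk_one]
        have hcomm : ∀ a b : G, Commute (QuotientGroup.mk (a * t * a⁻¹) : G ⧸ F) (QuotientGroup.mk (b * t * b⁻¹)) := by
          intro a b
          have key : ∀ x y : G ⧸ F, x ^ 2 = 1 → y ^ 2 = 1 → (x * y) ^ 2 = 1 → Commute x y := by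
            intro x y hx hy hxy
            have ex : x⁻¹ = x := inv_eq_of_mul_eq_one_right (by rw [← pow_two]; exact hx)
            have ey : y⁻¹ = y := inv_eq_of_mul_eq_one_right (by rw [← pow_two]; exact hy)
            have exy : (x * y)⁻¹ = x * y := inv_eq_of_mul_eq_one_right (by rw [← pow_two]; exact hxy)
            show x * y = y * x
            rw [← exy, mul_inv_rev, ex, ey]
          refine key _ _ (hinv a) (hinv b) ?_
          rw [← QuotientGroup.mk_mul]
          have hne3 : orderOf (QuotientGroup.mk (a * t * a⁻¹ * (b * t * b⁻¹)) : G ⧸ F) ≠ 3 := by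
            refine fun e => hall (a⁻¹ * b) ?_
            rw [← e]
            have := orderOf_injective (MulAut.conj (QuotientGroup.mk a : G ⧸ F)).toMonoidHom
              (MulAut.conj (QuotientGroup.mk a : G ⧸ F)).injective (QuotientGroup.mk (t * (a⁻¹ * b * t * (a⁻¹ * b)⁻¹)))
            rw [← this]
            congr 1
            show (QuotientGroup.mk a : G ⧸ F) * _ * (QuotientGroup.mk a)⁻¹ = _
            rw [← QuotientGroup.mk_inv, ← QuotientGroup.mk_mul, ← QuotientGroup.mk_mul]
            congr 1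
            group
          have h1 : orderOf (QuotientGroup.mk (a * t * a⁻¹ * (b * t * b⁻¹)) : G ⧸ F) ∣ orderOf (a * t * a⁻¹ * (b * t * b⁻¹)) :=
            orderOf_map_dvd (QuotientGroup.mk' F) _
          have h2 := hord (a * t * a⁻¹ * (b * t * b⁻¹))
          refine orderOf_dvd_iff_pow_eq_one.1 ?_
          have h3 := Nat.le_of_dvd (orderOf_pos _) h1
          have h4 := orderOf_pos (QuotientGroup.mk (a * t * a⁻¹ * (b * t * b⁻¹)) : G ⧸ F)
          rcases (show orderOf (QuotientGroup.mk (a * t * a⁻¹ * (b * t * b⁻¹)) : G ⧸ F) = 1 ∨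
              orderOf (QuotientGroup.mk (a * t * a⁻¹ * (b * t * b⁻¹)) : G ⧸ F) = 2 by omega) with e | e <;> rw [e] <;> norm_num
        have hCc : IsMulCommutative (Subgroup.closure S) := by
          refine Subgroup.isMulCommutative_closure ?_
          rintro _ ⟨a, rfl⟩ _ ⟨b, rfl⟩
          exact (hcomm a b).eq
        have hC2 : ∀ x ∈ Subgroup.closure S, x ^ 2 = 1 := by
          intro x hx
          induction hx using Subgroup.closure_induction with
          | mem x hx => obtain ⟨a, rfl⟩ := hx; exact hinv a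
          | one => exact one_pow 2
          | mul x y hx hy ihx ihy =>
            rw [(show Commute x y from congrArg Subtype.val (hCc.is_comm.comm (⟨x, hx⟩ : Subgroup.closure S) ⟨y, hy⟩)).mul_pow, ihx, ihy, one_mul]
          | inv x _ ihx => rw [inv_pow, ihx, inv_one]
        have hSn : (Subgroup.closure S).Normal := ⟨fun x hx g => by
          obtain ⟨g, rfl⟩ := QuotientGroup.mk_surjective g
          have hle : Subgroup.closure S ≤ (Subgroup.closure S).comap (MulAut.conj (QuotientGroup.mk g : G ⧸ F)).toMonoidHom := by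
            rw [Subgroup.closure_le]
            rintro _ ⟨a, rfl⟩
            refine Subgroup.subset_closure ⟨g * a, ?_⟩
            show (QuotientGroup.mk (g * a * t * (g * a)⁻¹) : G ⧸ F) = (QuotientGroup.mk g : G ⧸ F) * _ * (QuotientGroup.mk g)⁻¹
            rw [← QuotientGroup.mk_inv, ← QuotientGroup.mk_mul, ← QuotientGroup.mk_mul]
            congr 1
            group
          exact hle hx⟩
        have hSp : IsPGroup 2 (Subgroup.closure S) := fun x => ⟨1, Subtype.ext (by simpa using hC2 x x.2)⟩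
        have hle2 : (Subgroup.closure S).comap (QuotientGroup.mk' F) ≤ F :=
          CfsgLib.Solvable.le_pCore (hSn.comap _) (hSp.comap_of_ker_isPGroup _ (by rw [QuotientGroup.ker_mk']; exact hFp))
        exact htF (hle2 (Subgroup.subset_closure ⟨1, by simp⟩))
      set y := t * (c * t * c⁻¹) with hy
      have hy3 : orderOf y = 3 := le_antisymm (hord y).2 (Nat.le_of_dvd (orderOf_pos y) (hlift y 3 (by rw [hc])))
      have htt : t * t = 1 := by rw [← pow_two, ← ht2, pow_orderOf_eq_one]
      have htinv : t⁻¹ = t := inv_eq_of_mul_eq_one_right htt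
      have htu : t * y * t = y⁻¹ := by
        rw [hy, mul_inv_rev, mul_inv_rev, mul_inv_rev, inv_inv, htinv, ← mul_assoc t t, htt, one_mul, ← mul_assoc c t]
      -- a fixed point of `t` on `F`
      let σ : Equiv.Perm F :=
        { toFun := fun f => ⟨t * f.1 * t⁻¹, hFn.conj_mem f.1 f.2 t⟩
          invFun := fun f => ⟨t⁻¹ * f.1 * t, by simpa using hFn.conj_mem f.1 f.2 t⁻¹⟩
          left_inv := fun f => Subtype.ext (by show t⁻¹ * (t * f.1 * t⁻¹) * t = f.1; group)
          right_inv := fun f => Subtype.ext (by show t * (t⁻¹ * f.1 * t) * t⁻¹ = f.1; group) }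
      have hmod := CfsgLib.StructB.card_fixed_modEq σ (q := 2) (k := 1) (Equiv.ext fun f => Subtype.ext (by
        show t * (t * f.1 * t⁻¹) * t⁻¹ = f.1
        rw [htinv, ← mul_assoc, ← mul_assoc, htt, one_mul, mul_assoc, htt, mul_one]))
      obtain ⟨z, hz, hz1⟩ : ∃ z : F, σ z = z ∧ z ≠ 1 := by
        by_contra hno
        push Not at hno
        haveI : Subsingleton {z // σ z = z} := ⟨fun a b => Subtype.ext ((hno a.1 a.2).trans (hno b.1 b.2).symm)⟩
        have h1 : Nat.card {z // σ z = z} = 1 := Nat.card_eq_one_iff_unique.2 ⟨inferInstance, ⟨⟨1, Subtype.ext (by show t * 1 * t⁻¹ = 1; group)⟩⟩⟩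
        obtain ⟨e, he⟩ := IsPGroup.iff_card.1 hFp
        rw [h1, he] at hmod
        rcases e with _ | e
        · exact hf01 (Subgroup.mem_bot.1 (Subgroup.eq_bot_of_card_eq F (by simpa using he) ▸ hf0))
        · simp [Nat.ModEq, pow_succ] at hmod
      have htz : Commute t (z : G) := mul_inv_eq_iff_eq_mul.1 (congrArg Subtype.val hz)
      set w : G := y * z * y⁻¹ with hw
      set w' : G := y⁻¹ * z * y with hw'
      have hwF : w ∈ F := hFn.conj_mem _ z.2 y
      have hw'F : w' ∈ F := by simpa [hw'] using hFn.conj_mem _ z.2 y⁻¹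
      have htw : t * w * t = w' := by
        have e1 : t * w * t = (t * y * t) * (t * z * t) * (t * y * t)⁻¹ := by
          rw [hw]
          simp only [mul_inv_rev, htinv, mul_assoc]
          simp only [← mul_assoc t t, htt, one_mul, mul_one]
        rw [e1, htu, htz.eq, mul_assoc (z : G) t t, htt, mul_one, inv_inv]
      have hFcomm : ∀ a ∈ F, ∀ b ∈ F, Commute a b := fun a ha b hb =>
        congrArg Subtype.val (hFc.is_comm.comm (⟨a, ha⟩ : F) ⟨b, hb⟩)
      -- the norm of `z` under `y` is trivial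
      have hy' : y ^ 3 = 1 := by rw [← hy3, pow_orderOf_eq_one]
      have hyy : y * y = y⁻¹ := eq_inv_of_mul_eq_one_left (by rw [← hy']; simp [pow_succ])
      have hyy' : y⁻¹ * y⁻¹ = y := by rw [← mul_inv_rev, hyy, inv_inv]
      have e1 : y * w * y⁻¹ = w' := by
        rw [hw, hw', show y * (y * (z : G) * y⁻¹) * y⁻¹ = y * y * z * (y⁻¹ * y⁻¹) by group, hyy, hyy']
      have e2 : y * w' * y⁻¹ = z := by rw [hw']; group
      have hnorm : (z : G) * w * w' = 1 := by
        have hmem : (z : G) * w * w' ∈ F := mul_mem (mul_mem z.2 hwF) hw'F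
        by_contra hne1
        refine absurd (hfpf y _ hmem hne1 ?_ (by rw [hy3]; norm_num)) (fun e => by rw [e, orderOf_one] at hy3; omega)
        show y * ((z : G) * w * w') = (z : G) * w * w' * y
        rw [← mul_inv_eq_iff_eq_mul, show y * ((z : G) * w * w') * y⁻¹ = (y * z * y⁻¹) * (y * w * y⁻¹) * (y * w' * y⁻¹) by group,
          ← hw, e1, e2, (hFcomm w hwF w' hw'F).eq, mul_assoc, (hFcomm w hwF z z.2).eq, (hFcomm w' hw'F _ (mul_mem z.2 hwF)).eq]
      have hzz : (z : G) * z = 1 := by rw [← pow_two]; exact hFel _ z.2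
      have hsq : (t * w) * (t * w) = z := by
        rw [← mul_assoc, htw, (hFcomm w' hw'F w hwF).eq]
        calc w * w' = (z : G) * z * (w * w') := by rw [hzz, one_mul]
          _ = (z : G) * ((z : G) * w * w') := by group
          _ = z := by rw [hnorm, mul_one]
      have h4 : orderOf (t * w) = 4 := by
        refine orderOf_eq_prime_pow (p := 2) (n := 1) ?_ ?_
        · rw [pow_one, pow_two, hsq]; exact fun e => hz1 (Subtype.ext e)
        · rw [show (2 : ℕ) ^ (1 + 1) = 2 * 2 from rfl, pow_mul, pow_two, pow_two, hsq, hzz]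
      have := (hord (t * w)).2
      omega
    refine ⟨F, hFn, ⟨hFc, hFel⟩, ?_⟩
    -- the quotient acts fixed point freely, so has order three
    have hle : F ≤ (MulAut.conjNormal : G →* MulAut F).ker := fun a ha => by
      rw [MonoidHom.mem_ker]
      refine MulEquiv.ext fun b => Subtype.ext ?_
      show a * (b : G) * a⁻¹ = b
      exact mul_inv_eq_iff_eq_mul.2 (congrArg Subtype.val (hFc.is_comm.comm (⟨a, ha⟩ : F) b))
    let φ : G ⧸ F →* MulAut F := QuotientGroup.lift F MulAut.conjNormal hle
    letI : CommGroup F := { (inferInstance : Group F) with mul_comm := hFc.is_comm.comm }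
    haveI : Nontrivial F := ⟨⟨⟨f0, hf0⟩, 1, fun e => hf01 (congrArg Subtype.val e)⟩⟩
    have hqf : ∀ q : G ⧸ F, q ≠ 1 → ∀ v : F, φ q v = v → v = 1 := by
      intro q hq v hv
      obtain ⟨g, rfl⟩ := QuotientGroup.mk_surjective q
      by_contra hv1
      have hgF : g ∉ F := fun e => hq ((QuotientGroup.eq_one_iff g).2 e)
      have := hfpf g v v.2 (fun e => hv1 (Subtype.ext e)) (mul_inv_eq_iff_eq_mul.1 (congrArg Subtype.val hv)) (by rw [hq3 g hgF]; norm_num)
      exact hgF (this ▸ one_mem F)
    have h3 : ∀ q : G ⧸ F, q ≠ 1 → orderOf q = 3 := by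
      intro q hq
      obtain ⟨g, rfl⟩ := QuotientGroup.mk_surjective q
      have hgF : g ∉ F := fun e => hq ((QuotientGroup.eq_one_iff g).2 e)
      refine ((Nat.dvd_prime Nat.prime_three).1 (hq3 g hgF ▸ orderOf_map_dvd (QuotientGroup.mk' F) g)).resolve_left fun e => hq ?_
      exact orderOf_eq_one_iff.1 e
    have hQ3 : IsPGroup 3 (G ⧸ F) := fun q => ⟨1, by
      by_cases hq : q = 1
      · rw [hq, one_pow]
      · rw [pow_one, ← h3 q hq, pow_orderOf_eq_one]⟩
    haveI : Nontrivial (G ⧸ F) := by
      obtain ⟨g, hg⟩ := hexist 3 (by norm_num) le_rfl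
      refine ⟨⟨QuotientGroup.mk g, 1, fun e => ?_⟩⟩
      have := hordF g ((QuotientGroup.eq_one_iff g).1 e) (fun e' => by rw [e', orderOf_one] at hg; omega)
      omega
    haveI := hQ3.center_nontrivial
    obtain ⟨⟨z, hz⟩, hz1⟩ := exists_ne (1 : Subgroup.center (G ⧸ F))
    have hz1' : z ≠ 1 := fun e => hz1 (Subtype.ext e)
    have htop : Subgroup.zpowers z = ⊤ := eq_top_iff.2 fun q _ => by
      by_cases hq : q = 1
      · rw [hq]; exact one_mem _
      · rw [CfsgLib.Solvable.zpowers_eq_of_commute_of_fpf φ hqf Nat.prime_three (h3 z hz1') (h3 q hq)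
          (show Commute z q from (Subgroup.mem_center_iff.1 hz q).symm)]
        exact Subgroup.mem_zpowers q
    rw [Subgroup.index_eq_card, ← Subgroup.card_top (G := G ⧸ F), ← htop, Nat.card_zpowers, h3 z hz1']
  · -- `p = 3`
    left
    obtain ⟨t, ht⟩ := hexist 2 (by norm_num) (by norm_num)
    have hinvol : ∀ u : G, orderOf u = 2 → ∀ f ∈ F, u * f * u⁻¹ = f⁻¹ := by
      intro u hu f hf
      have huu : u * u = 1 := by rw [← pow_two, ← hu, pow_orderOf_eq_one]
      have := CfsgLib.StructC.inv_of_fpf_involutive (MulAut.conjNormal u : MulAut F).toMonoidHom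
        (fun k => by
          show (MulAut.conjNormal u) ((MulAut.conjNormal u) k) = k
          rw [← MulAut.mul_apply, ← map_mul, huu, map_one, MulAut.one_apply])
        (fun k hk => by
          by_contra hk1
          have := hfpf u k k.2 (fun e => hk1 (Subtype.ext e)) (mul_inv_eq_iff_eq_mul.1 (congrArg Subtype.val hk)) (by rw [hu]; norm_num)
          rw [this, orderOf_one] at hu; omega) ⟨f, hf⟩
      exact congrArg Subtype.val this
    have hFc : IsMulCommutative F := ⟨⟨fun a b => Subtype.ext (by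
      have h1 := hinvol t ht _ (mul_mem a.2 b.2)
      rw [show t * ((a : G) * b) * t⁻¹ = (t * a * t⁻¹) * (t * b * t⁻¹) by group, hinvol t ht a a.2, hinvol t ht b b.2,
        ← mul_inv_rev, inv_inj] at h1
      exact h1.symm)⟩⟩
    have hprod : ∀ u : G, orderOf u = 2 → t * u ∈ F := by
      intro u hu
      have hC : Subgroup.centralizer (F : Set G) ≤ F := by
        refine CfsgLib.Solvable.le_pCore inferInstance ?_
        rintro ⟨c, hc⟩
        refine ⟨1, Subtype.ext ?_⟩
        show c ^ 3 ^ 1 = 1
        have := hord c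
        have h2 : orderOf c ≠ 2 := fun e => by
          have := hfpf c f0 hf0 hf01 (Subgroup.mem_centralizer_iff.1 hc f0 hf0).symm (by rw [e]; norm_num)
          rw [this, orderOf_one] at e; omega
        rcases (show orderOf c = 1 ∨ orderOf c = 3 by omega) with e | e
        · rw [orderOf_eq_one_iff.1 e, one_pow]
        · rw [pow_one, ← e, pow_orderOf_eq_one]
      refine hC (Subgroup.mem_centralizer_iff.2 fun f hf => ?_)
      have h1 : (t * u) * f * (t * u)⁻¹ = f := by
        rw [show (t * u) * f * (t * u)⁻¹ = t * (u * f * u⁻¹) * t⁻¹ by group, hinvol u hu f hf, hinvol t ht _ (inv_mem hf), inv_inv]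
      exact (mul_inv_eq_iff_eq_mul.1 h1).symm
    have htF : t ∉ F := fun e => by
      have := hordF t e (fun e' => by rw [e', orderOf_one] at ht; omega)
      omega
    refine ⟨F, hFn, ⟨hFc, fun f hf => ?_⟩, ?_⟩
    · by_cases hf1 : f = 1
      · rw [hf1, one_pow]
      · rw [← hordF f hf hf1, pow_orderOf_eq_one]
    · have hcov : ∀ g : G, g ∈ F ∨ t * g ∈ F := by
        intro g
        have h1 := hord g
        rcases (show orderOf g = 1 ∨ orderOf g = 2 ∨ orderOf g = 3 by omega) with e | e | e
        · left; rw [orderOf_eq_one_iff.1 e]; exact one_mem F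
        · exact Or.inr (hprod g e)
        · left
          by_contra hgF
          have hc : Commute (QuotientGroup.mk t : G ⧸ F) (QuotientGroup.mk g) := by
            have h2 : orderOf (g * t * g⁻¹) = 2 := by
              rw [← ht]; exact orderOf_injective (MulAut.conj g).toMonoidHom (MulAut.conj g).injective t
            have h3 : (QuotientGroup.mk t : G ⧸ F)⁻¹ = QuotientGroup.mk (g * t * g⁻¹) := by
              refine inv_eq_of_mul_eq_one_right ?_
              rw [← QuotientGroup.mk_mul]
              exact (QuotientGroup.eq_one_iff _).2 (hprod _ h2)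
            have h4 : (QuotientGroup.mk t : G ⧸ F)⁻¹ = QuotientGroup.mk t := by
              refine inv_eq_of_mul_eq_one_right ?_
              rw [← QuotientGroup.mk_mul, ← pow_two, ← ht, pow_orderOf_eq_one, QuotientGroup.mk_one]
            rw [h4, QuotientGroup.mk_mul, QuotientGroup.mk_mul, QuotientGroup.mk_inv, eq_mul_inv_iff_mul_eq] at h3
            exact h3
          have ot : orderOf (QuotientGroup.mk t : G ⧸ F) = 2 := orderOf_eq_prime (by
            rw [← QuotientGroup.mk_pow, ← ht, pow_orderOf_eq_one, QuotientGroup.mk_one]) (fun e' => htF ((QuotientGroup.eq_one_iff t).1 e'))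
          have og : orderOf (QuotientGroup.mk g : G ⧸ F) = 3 := orderOf_eq_prime (by
            rw [← QuotientGroup.mk_pow, ← e, pow_orderOf_eq_one, QuotientGroup.mk_one]) (fun e' => hgF ((QuotientGroup.eq_one_iff g).1 e'))
          have o6 := hc.orderOf_mul_eq_mul_orderOf_of_coprime (by rw [ot, og]; norm_num)
          rw [ot, og, ← QuotientGroup.mk_mul] at o6
          exact hno6 (t * g) ⟨hlift _ 2 (by rw [o6]; norm_num), hlift _ 3 (by rw [o6]; norm_num)⟩
      refine Subgroup.index_eq_two_iff.2 ⟨t, fun g => ?_⟩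
      rcases hcov g with hg | hg
      · refine Or.inr ⟨hg, fun h' => htF ?_⟩
        simpa using mul_mem (inv_mem hg) h'
      · refine Or.inl ⟨?_, fun h' => htF ?_⟩
        · have := hFn.conj_mem _ hg t⁻¹
          rwa [inv_inv, show t⁻¹ * (t * g) * t = g * t by group] at this
        · simpa using mul_mem hg (inv_mem h')

end Cfsg.Agent.S4005
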