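import Cfsg.Statements.S4009
import Cfsg.Agent.Lib.StructC.PolySeq
-- import your own Cfsg.Agent.* helpers here

set_option autoImplicit false
open Cfsg
open scoped commutatorElement

namespace Cfsg.Agent.S4009

theorem ucs_lcs {G : Type*} [Group G] (i j : ℕ) :
    ⁅Subgroup.upperCentralSeries G (j + i + 1), (⊤ : Subgroup G).lowerCentralSeries i⁆ ≤
      Subgroup.upperCentralSeries G j := by
  induction i generalizing j with
  | zero => exact Subgroup.commutator_upperCentralSeries_top_le G j
  | succ i ih =>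
    rw [Subgroup.commutator_comm, Subgroup.lowerCentralSeries_succ]
    refine CfsgLib.StructC.commutator_commutator_le_of_rotate ?_ ?_
    · refine (Subgroup.commutator_mono ?_ le_rfl).trans (ih j)
      rw [Subgroup.commutator_comm]
      exact Subgroup.commutator_upperCentralSeries_top_le G _
    · refine (Subgroup.commutator_mono ?_ le_rfl).trans (Subgroup.commutator_upperCentralSeries_top_le G j)
      have h := ih (j + 1)
      rwa [show j + 1 + i + 1 = j + (i + 1) + 1 by omega] at h

theorem eq_bot_of_le_commutator_top {G : Type*} [Group G] [Group.IsNilpotent G] (H : Subgroup G)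
    (h : H ≤ ⁅H, (⊤ : Subgroup G)⁆) : H = ⊥ := by
  obtain ⟨m, hm⟩ := Subgroup.nilpotent_iff_lowerCentralSeries.1 (inferInstance : Group.IsNilpotent G)
  have : ∀ i, H ≤ (⊤ : Subgroup G).lowerCentralSeries i := fun i => by
    induction i with
    | zero => exact le_top
    | succ i ih => exact h.trans (Subgroup.commutator_mono ih le_rfl)
  exact le_bot_iff.1 ((this m).trans hm.le)

/-- Raise the order by a factor `p`. -/
theorem mul_card_le {G : Type*} [Group G] [Finite G] {p : ℕ} [Fact p.Prime] (hG : IsPGroup p G)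
    {A B : Subgroup G} (h : A < B) : Nat.card A * p ≤ Nat.card B := by
  obtain ⟨a, ha⟩ := (hG.to_subgroup A).exists_card_eq
  obtain ⟨b, hb⟩ := (hG.to_subgroup B).exists_card_eq
  have hlt : Nat.card A < Nat.card B := by
    by_contra hh
    exact h.ne (Subgroup.eq_of_le_of_card_ge h.le (Nat.le_of_not_lt hh))
  rw [ha, hb] at hlt ⊢
  have := (Nat.pow_lt_pow_iff_right (Fact.out : p.Prime).one_lt).1 hlt
  rw [← pow_succ]
  exact Nat.pow_le_pow_right (Fact.out : p.Prime).pos (by omega)

theorem core {G : Type*} [Group G] [Finite G] {p : ℕ} [Fact p.Prime] (hG : IsPGroup p G)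
    (N : Subgroup G) [N.Normal] {s : ℕ} (hs : N ≤ (⊤ : Subgroup G).lowerCentralSeries s)
    (hne : ⁅N, N⁆ ≠ ⊥) (hcen : ⁅N, N⁆ ≤ Subgroup.center G) :
    Nat.card ↥⁅N, N⁆ * p ^ (s + 2) ≤ Nat.card N ∧
    (Nat.card N < Nat.card ↥⁅N, N⁆ * p ^ (s + 3) → ∃ c, ⁅N, N⁆ ≤ Subgroup.zpowers c) := by
  classical
  have hp : p.Prime := Fact.out
  haveI : Group.IsNilpotent G := hG.isNilpotent
  set Z : Subgroup G := N ⊓ Subgroup.centralizer (N : Set G) with hZ
  set A : ℕ → Subgroup G := fun j => N ⊓ Subgroup.upperCentralSeries G j with hA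
  have hAs : A (s + 1) ≤ Z := by
    refine le_inf inf_le_left ?_
    have h := ucs_lcs (G := G) s 0
    rw [zero_add, Subgroup.upperCentralSeries_zero] at h
    rw [← Subgroup.commutator_eq_bot_iff_le_centralizer]
    exact le_bot_iff.1 ((Subgroup.commutator_mono inf_le_right hs).trans h)
  have hnN : ¬ N ≤ Z := fun hh => hne (Subgroup.commutator_eq_bot_iff_le_centralizer.2
    (hh.trans inf_le_right))
  obtain ⟨c₀, hc₀⟩ := Group.IsNilpotent.nilpotent G
  have hstep : ∀ j, ¬ N ≤ A j → A j < A (j + 1) := by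
    intro j hj
    refine lt_of_le_of_ne (inf_le_inf_left N (Subgroup.upperCentralSeries_mono G (by omega))) ?_
    intro he
    have hall : ∀ i, A (j + i) ≤ A j := fun i => by
      induction i with
      | zero => exact le_rfl
      | succ i ih =>
        have h1 : A (j + (i + 1)) ≤ A (j + 1) := by
          refine le_inf inf_le_left fun x hx => ?_
          rw [Subgroup.mem_upperCentralSeries_succ_iff]
          intro y
          refine (ih ⟨?_, ?_⟩).2
          · exact (Subgroup.commutator_le_left N ⊤) (Subgroup.commutator_mem_commutator hx.1 (Subgroup.mem_top y))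
          · exact Subgroup.commutator_upperCentralSeries_top_le G (j + i)
              (Subgroup.commutator_mem_commutator hx.2 (Subgroup.mem_top y))
        exact h1.trans he.ge
    refine hj (le_trans ?_ (hall c₀))
    refine le_inf le_rfl ?_
    have : (Subgroup.upperCentralSeries G c₀) ≤ Subgroup.upperCentralSeries G (j + c₀) :=
      Subgroup.upperCentralSeries_mono G (by omega)
    rw [hc₀] at this
    exact le_top.trans this
  have hcard : ∀ j, j ≤ s → Nat.card ↥⁅N, N⁆ * p ^ j ≤ Nat.card ↥(A (j + 1)) := by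
    intro j hj
    induction j with
    | zero =>
      rw [pow_zero, mul_one]
      refine Subgroup.card_le_of_le ?_
      refine le_inf (Subgroup.commutator_le_left N N) ?_
      rw [Subgroup.upperCentralSeries_one]
      exact hcen
    | succ j ih =>
      refine le_trans ?_ (mul_card_le hG (hstep (j + 1) ?_))
      · rw [pow_succ, ← mul_assoc]
        exact Nat.mul_le_mul_right p (ih (by omega))
      · intro hh
        refine hnN (hh.trans (le_trans ?_ hAs))
        exact inf_le_inf_left N (Subgroup.upperCentralSeries_mono G (by omega))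
  have hZc : Nat.card ↥⁅N, N⁆ * p ^ s ≤ Nat.card Z :=
    (hcard s le_rfl).trans (Subgroup.card_le_of_le hAs)
  obtain ⟨x, hxN, hxZ⟩ := SetLike.not_le_iff_exists.1 hnN
  set X := Z ⊔ Subgroup.zpowers x with hX
  have hXN : X ≤ N := sup_le inf_le_left (Subgroup.zpowers_le.2 hxN)
  have hXne : ¬ N ≤ X := by
    intro hh
    refine hnN (le_inf le_rfl ?_)
    have h1 : ∀ z ∈ Z, ∀ n ∈ N, n * z = z * n := fun z hz n hn => hz.2 n hn
    have h2 : N ≤ Subgroup.centralizer ({x} : Set G) := by
      refine hh.trans (sup_le ?_ (Subgroup.zpowers_le.2 ?_))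
      · exact fun z hz => Subgroup.mem_centralizer_singleton_iff.2 (h1 z hz x hxN).symm
      · exact Subgroup.mem_centralizer_singleton_iff.2 rfl
    have h3 : X ≤ Subgroup.centralizer (N : Set G) :=
      sup_le inf_le_right (Subgroup.zpowers_le.2 fun n hn =>
        (Subgroup.mem_centralizer_singleton_iff.1 (h2 hn)))
    exact hh.trans h3
  obtain ⟨y, hyN, hyX⟩ := SetLike.not_le_iff_exists.1 hXne
  set Y := X ⊔ Subgroup.zpowers y with hY
  have hYN : Y ≤ N := sup_le hXN (Subgroup.zpowers_le.2 hyN)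
  have hc1 : Nat.card Z * p ≤ Nat.card X := mul_card_le hG
    (left_lt_sup.2 fun h => hxZ (h (Subgroup.mem_zpowers x)))
  have hc2 : Nat.card X * p ≤ Nat.card Y := mul_card_le hG
    (left_lt_sup.2 fun h => hyX (h (Subgroup.mem_zpowers y)))
  have hc3 : Nat.card ↥⁅N, N⁆ * p ^ (s + 2) ≤ Nat.card Y := by
    refine le_trans ?_ hc2
    refine le_trans ?_ (Nat.mul_le_mul_right p hc1)
    rw [pow_add, pow_two, ← mul_assoc, mul_assoc (Nat.card Z)]
    exact Nat.mul_le_mul_right _ hZc
  refine ⟨hc3.trans (Subgroup.card_le_of_le hYN), fun hlt => ?_⟩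
  have hYe : N ≤ Y := by
    by_contra hh
    have := mul_card_le hG (lt_of_le_not_ge hYN hh)
    have h2 : Nat.card ↥⁅N, N⁆ * p ^ (s + 3) ≤ Nat.card N :=
      le_trans (by rw [pow_succ, ← mul_assoc]; exact Nat.mul_le_mul_right p hc3) this
    omega
  refine ⟨⁅x, y⁆, ?_⟩
  have hcxy : ⁅x, y⁆ ∈ Subgroup.center G :=
    hcen (Subgroup.commutator_mem_commutator hxN hyN)
  haveI hTn : (Subgroup.zpowers ⁅x, y⁆).Normal := ⟨fun n hn g => by
    have := (Subgroup.zpowers_le.2 hcxy) hn
    rwa [Subgroup.mem_center_iff.1 this g, mul_inv_cancel_right]⟩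
  set π := QuotientGroup.mk' (Subgroup.zpowers ⁅x, y⁆)
  have hxy : π x * π y = π y * π x := by
    rw [← commutatorElement_eq_one_iff_mul_comm, ← map_commutatorElement]
    exact (QuotientGroup.eq_one_iff _).2 (Subgroup.mem_zpowers _)
  set C := Subgroup.comap π (Subgroup.centralizer ({π x, π y} : Set (G ⧸ Subgroup.zpowers ⁅x, y⁆)))
  have hNC : N ≤ C := by
    refine hYe.trans (sup_le (sup_le ?_ (Subgroup.zpowers_le.2 ?_)) (Subgroup.zpowers_le.2 ?_))
    · intro z hz
      rw [Subgroup.mem_comap, Subgroup.mem_centralizer_iff]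
      rintro g (rfl | rfl)
      · rw [← map_mul, ← map_mul, hz.2 x hxN]
      · rw [← map_mul, ← map_mul, hz.2 y hyN]
    · rw [Subgroup.mem_comap, Subgroup.mem_centralizer_iff]
      rintro g (rfl | rfl)
      · rfl
      · exact hxy.symm
    · rw [Subgroup.mem_comap, Subgroup.mem_centralizer_iff]
      rintro g (rfl | rfl)
      · exact hxy
      · rfl
  rw [Subgroup.commutator_le]
  intro a ha b hb
  rw [← QuotientGroup.eq_one_iff]
  show π ⁅a, b⁆ = 1
  rw [map_commutatorElement, commutatorElement_eq_one_iff_mul_comm]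
  have hb' : Y ≤ Subgroup.comap π (Subgroup.centralizer ({π a} : Set (G ⧸ Subgroup.zpowers ⁅x, y⁆))) := by
    have ha' := Subgroup.mem_centralizer_iff.1 (Subgroup.mem_comap.1 (hNC ha))
    refine sup_le (sup_le ?_ (Subgroup.zpowers_le.2 ?_)) (Subgroup.zpowers_le.2 ?_)
    · intro z hz
      rw [Subgroup.mem_comap, Subgroup.mem_centralizer_singleton_iff, ← map_mul, ← map_mul, hz.2 a ha]
    · rw [Subgroup.mem_comap, Subgroup.mem_centralizer_singleton_iff]
      exact ha' _ (Set.mem_insert _ _)
    · rw [Subgroup.mem_comap, Subgroup.mem_centralizer_singleton_iff]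
      exact ha' _ (Set.mem_insert_of_mem _ rfl)
  have := Subgroup.mem_centralizer_singleton_iff.1 (Subgroup.mem_comap.1 (hb' (hYe hb)))
  exact this.symm

theorem card_map_mk {G : Type*} [Group G] [Finite G] (N R : Subgroup G) [R.Normal] (h : R ≤ N) :
    Nat.card N = Nat.card ↥(N.map (QuotientGroup.mk' R)) * Nat.card R := by
  have h1 : (N.map (QuotientGroup.mk' R)).index = N.index :=
    Subgroup.index_map_eq _ (QuotientGroup.mk'_surjective R) (by rwa [QuotientGroup.ker_mk'])
  have h2 := Subgroup.card_mul_index (N.map (QuotientGroup.mk' R))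
  have h3 := Subgroup.card_mul_index R
  have h4 := Subgroup.card_mul_index N
  rw [h1] at h2
  have h5 : Nat.card (G ⧸ R) = R.index := rfl
  refine Nat.eq_of_mul_eq_mul_right (Nat.pos_of_ne_zero N.index_ne_zero_of_finite) ?_
  rw [h4, mul_right_comm, h2, h5, mul_comm, h3]

/-- P. Hall: a nonabelian normal subgroup inside `γ_{s+1}` has abelianisation of order at least
`p^(s+2)`; in the case of equality the derived subgroup is cyclic modulo `γ_{2s+3}`. -/
theorem hall_step {G : Type*} [Group G] [Finite G] {p : ℕ} [Fact p.Prime] (hG : IsPGroup p G)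
    (N : Subgroup G) [N.Normal] {s : ℕ} (hs : N ≤ (⊤ : Subgroup G).lowerCentralSeries s)
    (hne : ⁅N, N⁆ ≠ ⊥) :
    Nat.card ↥⁅N, N⁆ * p ^ (s + 2) ≤ Nat.card N ∧
    (Nat.card N < Nat.card ↥⁅N, N⁆ * p ^ (s + 3) → ∃ c,
      ⁅N, N⁆ ≤ Subgroup.zpowers c ⊔ (⊤ : Subgroup G).lowerCentralSeries (2 * s + 2)) := by
  haveI : Group.IsNilpotent G := hG.isNilpotent
  have hD : ⁅N, N⁆ ≤ N := (Subgroup.commutator_le_left N N)
  have key : ∀ R : Subgroup G, ∀ [R.Normal], R ≤ ⁅N, N⁆ → ¬ ⁅N, N⁆ ≤ R →
      ⁅⁅N, N⁆, (⊤ : Subgroup G)⁆ ≤ R →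
      Nat.card ↥⁅N, N⁆ * p ^ (s + 2) ≤ Nat.card N ∧
      (Nat.card N < Nat.card ↥⁅N, N⁆ * p ^ (s + 3) → ∃ c,
        ⁅N, N⁆ ≤ Subgroup.zpowers c ⊔ R) := by
    intro R _ hR hRne hRc
    haveI : (N.map (QuotientGroup.mk' R)).Normal :=
      Subgroup.Normal.map inferInstance _ (QuotientGroup.mk'_surjective R)
    have hmap : ⁅N.map (QuotientGroup.mk' R), N.map (QuotientGroup.mk' R)⁆ =
        ⁅N, N⁆.map (QuotientGroup.mk' R) := (Subgroup.map_commutator _ _ _).symm
    have h := core (hG.to_quotient R) (N.map (QuotientGroup.mk' R)) (s := s) ?_ ?_ ?_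
    rotate_left
    · refine (Subgroup.map_mono hs).trans ?_
      exact Subgroup.lowerCentralSeries.map _ s |>.trans
        (Subgroup.lowerCentralSeries_mono s le_top)
    · rw [hmap, Ne, Subgroup.map_eq_bot_iff, QuotientGroup.ker_mk']
      exact hRne
    · rw [hmap]
      rintro _ ⟨d, hd, rfl⟩
      rw [Subgroup.mem_center_iff]
      intro g
      obtain ⟨g, rfl⟩ := QuotientGroup.mk'_surjective R g
      rw [eq_comm, ← commutatorElement_eq_one_iff_mul_comm, ← map_commutatorElement]
      exact (QuotientGroup.eq_one_iff _).2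
        (hRc (Subgroup.commutator_mem_commutator hd (Subgroup.mem_top g)))
    rw [hmap] at h
    have e1 := card_map_mk N R (hR.trans hD)
    have e2 := card_map_mk ⁅N, N⁆ R hR
    refine ⟨?_, fun hlt => ?_⟩
    · rw [e1, e2, mul_right_comm]
      exact Nat.mul_le_mul_right _ h.1
    · rw [e1, e2, mul_right_comm] at hlt
      obtain ⟨c, hc⟩ := h.2 (lt_of_mul_lt_mul_right hlt (Nat.zero_le _))
      obtain ⟨c, rfl⟩ := QuotientGroup.mk'_surjective R c
      refine ⟨c, ?_⟩
      rw [← MonoidHom.map_zpowers, Subgroup.map_le_iff_le_comap, Subgroup.comap_map_eq,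
        QuotientGroup.ker_mk'] at hc
      exact hc
  have hDc : ⁅⁅N, N⁆, (⊤ : Subgroup G)⁆ ≤ ⁅N, N⁆ := Subgroup.commutator_le_left _ _
  refine ⟨(key _ hDc (fun hh => hne (eq_bot_of_le_commutator_top _ hh)) le_rfl).1, fun hlt => ?_⟩
  have hD1 : ⁅N, N⁆ ≤ (⊤ : Subgroup G).lowerCentralSeries (2 * s + 1) :=
    (Subgroup.commutator_mono hs hs).trans
      ((CfsgLib.StructC.commutator_lowerCentralSeries_le s s).trans
        (le_of_eq (by rw [two_mul])))
  by_cases hle : ⁅N, N⁆ ≤ (⊤ : Subgroup G).lowerCentralSeries (2 * s + 2)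
  · exact ⟨1, hle.trans le_sup_right⟩
  obtain ⟨c, hc⟩ := (key (⁅N, N⁆ ⊓ (⊤ : Subgroup G).lowerCentralSeries (2 * s + 2)) inf_le_left
    (fun hh => hle (hh.trans inf_le_right))
    (le_inf hDc (Subgroup.commutator_mono hD1 le_rfl))).2 hlt
  exact ⟨c, hc.trans (sup_le_sup_left inf_le_right _)⟩

theorem commutator_of_cyclic_top {G : Type*} [Group G] (M : Subgroup G) (c : G) {t : ℕ}
    (ht : M ≤ (⊤ : Subgroup G).lowerCentralSeries t)
    (hc : M ≤ Subgroup.zpowers c ⊔ (⊤ : Subgroup G).lowerCentralSeries (t + 1)) :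
    ⁅M, M⁆ ≤ (⊤ : Subgroup G).lowerCentralSeries (2 * t + 2) := by
  set L := (⊤ : Subgroup G).lowerCentralSeries (2 * t + 2)
  have hL : ⁅(⊤ : Subgroup G).lowerCentralSeries t, (⊤ : Subgroup G).lowerCentralSeries (t + 1)⁆ ≤ L :=
    (CfsgLib.StructC.commutator_lowerCentralSeries_le t (t + 1)).trans (le_of_eq (by
      rw [show t + (t + 1) + 1 = 2 * t + 2 by omega]))
  set π := QuotientGroup.mk' L
  have hcomm : ∀ a ∈ (⊤ : Subgroup G).lowerCentralSeries t,
      ∀ k ∈ (⊤ : Subgroup G).lowerCentralSeries (t + 1), π a * π k = π k * π a := by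
    intro a ha k hk
    rw [← commutatorElement_eq_one_iff_mul_comm, ← map_commutatorElement]
    exact (QuotientGroup.eq_one_iff _).2 (hL (Subgroup.commutator_mem_commutator ha hk))
  rw [Subgroup.commutator_le]
  intro a ha b hb
  rw [← QuotientGroup.eq_one_iff]
  show π ⁅a, b⁆ = 1
  rw [map_commutatorElement, commutatorElement_eq_one_iff_mul_comm]
  obtain ⟨u, hu, k, hk, rfl⟩ := Subgroup.mem_sup_of_normal_right.1 (hc ha)
  obtain ⟨v, hv, l, hl, rfl⟩ := Subgroup.mem_sup_of_normal_right.1 (hc hb)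
  have hkt := Subgroup.lowerCentralSeries_antitone (⊤ : Subgroup G) (Nat.le_succ t) hk
  have hlt := Subgroup.lowerCentralSeries_antitone (⊤ : Subgroup G) (Nat.le_succ t) hl
  have hut := (Subgroup.mul_mem_cancel_right _ hkt).1 (ht ha)
  have hvt := (Subgroup.mul_mem_cancel_right _ hlt).1 (ht hb)
  have huv : π u * π v = π v * π u := by
    obtain ⟨i, rfl⟩ := Subgroup.mem_zpowers_iff.1 hu
    obtain ⟨j, rfl⟩ := Subgroup.mem_zpowers_iff.1 hv
    rw [← map_mul, ← map_mul, zpow_mul_comm]
  simp only [map_mul]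
  have c1 : Commute (π u) (π v) := huv
  have c2 : Commute (π u) (π l) := hcomm u hut l hl
  have c3 : Commute (π k) (π v) := (hcomm v hvt k hk).symm
  have c4 : Commute (π k) (π l) := (hcomm l hlt k hk).symm
  exact ((c1.mul_left c3).mul_right (c2.mul_left c4)).eq

/-- Let P be a finite p-group of order p^n whose derived length is exactly k + 1 (the k-th derived subgroup is nontrivial and the (k+1)-st is trivial). Then n ≥ 2^k + 2k − 2. -/
theorem result {P : Type*} [Group P] [Finite P] (p : ℕ) [Fact p.Prime] (n k : ℕ) (hcard : Nat.card P = p ^ n) (hk : derivedSeries P k ≠ ⊥) (hk' : derivedSeries P (k + 1) = ⊥) : 2 ^ k + 2 * k ≤ n + 2 := by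
  classical
  have hp : p.Prime := Fact.out
  have hG : IsPGroup p P := IsPGroup.of_card hcard
  choose e he using fun j : ℕ => (hG.to_subgroup (derivedSeries P j)).exists_card_eq
  have he0 : e 0 = n := by
    have := he 0
    rw [derivedSeries_zero, Subgroup.card_top, hcard] at this
    exact (Nat.pow_right_injective hp.two_le this).symm
  have hek : 1 ≤ e k := by
    by_contra hh
    have := he k
    rw [show e k = 0 by omega, pow_zero, Subgroup.card_eq_one] at this
    exact hk this
  have hne : ∀ j, j ≤ k → derivedSeries P j ≠ ⊥ := fun j hj h =>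
    hk (le_bot_iff.1 ((derivedSeries_antitone P hj).trans h.le))
  have hlev : ∀ j, derivedSeries P j ≤ (⊤ : Subgroup P).lowerCentralSeries (2 ^ j - 1) := by
    intro j
    induction j with
    | zero => exact le_of_eq (by simp)
    | succ j ih =>
      rw [derivedSeries_succ]
      refine (Subgroup.commutator_mono ih ih).trans
        ((CfsgLib.StructC.commutator_lowerCentralSeries_le _ _).trans (le_of_eq ?_))
      congr 1
      have := Nat.one_le_two_pow (n := j)
      rw [pow_succ]
      omega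
  have hstep : ∀ j s, j < k → derivedSeries P j ≤ (⊤ : Subgroup P).lowerCentralSeries s →
      e (j + 1) + (s + 2) ≤ e j ∧ (e j < e (j + 1) + (s + 3) → ∃ c, derivedSeries P (j + 1) ≤
        Subgroup.zpowers c ⊔ (⊤ : Subgroup P).lowerCentralSeries (2 * s + 2)) := by
    intro j s hj hs
    haveI := derivedSeries_normal P j
    have h := hall_step hG (derivedSeries P j) hs
      (by rw [← derivedSeries_succ]; exact hne _ hj)
    rw [← derivedSeries_succ, he, he, ← pow_add, ← pow_add] at h
    exact ⟨(Nat.pow_le_pow_iff_right hp.one_lt).1 h.1,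
      fun hlt => h.2 (Nat.pow_lt_pow_right hp.one_lt hlt)⟩
  have main : ∀ j, j ≤ k → (e j + 2 ^ j + 2 * j ≤ n + 1) ∨
      (e j + 2 ^ j + 2 * j ≤ n + 2 ∧
        derivedSeries P (j + 1) ≤ (⊤ : Subgroup P).lowerCentralSeries (2 ^ (j + 1))) ∨
      (e j + 2 ^ j + 2 * j ≤ n + 3 ∧
        derivedSeries P j ≤ (⊤ : Subgroup P).lowerCentralSeries (2 ^ j)) := by
    intro j
    induction j with
    | zero => intro _; left; rw [he0, pow_zero]
    | succ j ih =>
      intro hj
      have h1 := Nat.one_le_two_pow (n := j)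
      have h2 : 2 ^ (j + 1) = 2 * 2 ^ j := by rw [pow_succ]; ring
      obtain ⟨hb, hc⟩ := hstep j _ (by omega) (hlev j)
      rcases ih (by omega) with hA | ⟨hB, hBl⟩ | ⟨hC, hCl⟩
      · by_cases ht : e j < e (j + 1) + (2 ^ j - 1 + 3)
        · right; left
          refine ⟨by omega, ?_⟩
          obtain ⟨c, hc'⟩ := hc ht
          rw [derivedSeries_succ]
          refine (commutator_of_cyclic_top _ c (t := 2 ^ (j + 1) - 1) (hlev (j + 1)) ?_).trans
            (Subgroup.lowerCentralSeries_antitone _ (by rw [pow_succ 2 (j + 1)]; omega))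
          rwa [show 2 ^ (j + 1) - 1 + 1 = 2 * (2 ^ j - 1) + 2 by omega]
        · left; omega
      · right; right
        exact ⟨by omega, hBl⟩
      · right; right
        refine ⟨?_, ?_⟩
        · have := (hstep j _ (by omega) hCl).1
          omega
        · rw [derivedSeries_succ]
          refine (Subgroup.commutator_mono hCl hCl).trans
            ((CfsgLib.StructC.commutator_lowerCentralSeries_le _ _).trans
              (Subgroup.lowerCentralSeries_antitone _ (by omega)))
  rcases main k le_rfl with h | ⟨h, -⟩ | ⟨h, -⟩ <;> omega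

end Cfsg.Agent.S4009
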