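import Cfsg.Statements.S4010
import Cfsg.Agent.Lib.StructB.PGroupLinear

set_option autoImplicit false
open Cfsg

namespace Cfsg.Agent.S4010

/-- Let F be a field, n ≥ 1, and P a finite p-group (p a prime) admitting an injective homomorphism into the general linear group of degree n over F. Then the derived length of P is at most ⌊log₂ n⌋ + 1: that term of the derived series of P is trivial. -/
theorem result {P : Type*} [Group P] [Finite P] (p : ℕ) [Fact p.Prime] (hP : IsPGroup p P) (F : Type*) [Field F] (n : ℕ) (hn : 1 ≤ n) (ρ : P →* Matrix.GeneralLinearGroup (Fin n) F) (hρ : Function.Injective ρ) : derivedSeries P (Nat.log 2 n + 1) = ⊥ := by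
  classical
  rw [eq_bot_iff]
  intro x hx
  rw [Subgroup.mem_bot]
  let K := AlgebraicClosure F
  let ρ' : P →* Module.End K (Fin n → K) :=
    (((Matrix.toLinAlgEquiv' : Matrix (Fin n) (Fin n) K ≃ₐ[K] Module.End K (Fin n → K)) :
      Matrix (Fin n) (Fin n) K →* Module.End K (Fin n → K)).comp
      (algebraMap F K).mapMatrix.toMonoidHom).comp
      ((Units.coeHom _).comp ρ)
  have hinj : Function.Injective ρ' := by
    intro a b h
    apply hρ
    apply Units.ext
    have h1 := Matrix.toLinAlgEquiv'.injective h
    exact Matrix.map_injective (algebraMap F K).injective h1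
  have hn' : Module.finrank K (Fin n → K) = n := Module.finrank_fin_fun K
  have hfix : ∀ v, ρ' x v = v := by
    by_cases hp : (p : K) = 0
    · have : CharP K p := (CharP.charP_iff_prime_eq_zero Fact.out).2 hp
      exact CfsgLib.StructB.PLinear.dser_fixes_of_charP ρ' hP x (by
        rw [hn', CfsgLib.StructB.PLinear.dser_top]; exact hx)
    · have := hP.isNilpotent
      have hK : (Nat.card P : K) ≠ 0 := by
        obtain ⟨i, hi⟩ := hP.exists_card_eq
        rw [hi, Nat.cast_pow]
        exact pow_ne_zero i hp
      intro v
      exact CfsgLib.StructB.PLinear.dser_fixes_of_coprime ρ' hK n ⊤ (by rw [finrank_top, hn']) ⊤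
        (fun _ _ _ _ => trivial) x (by rw [CfsgLib.StructB.PLinear.dser_top]; exact hx) v trivial
  apply hinj
  rw [map_one]
  exact LinearMap.ext hfix

end Cfsg.Agent.S4010
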