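import Cfsg.Statements.S4013
import Mathlib

set_option autoImplicit false
open Cfsg
open scoped Pointwise

namespace Cfsg.Agent.S4013

/-- Let G be a finite p-group (p prime) and N < M normal subgroups of G such that for some g ∈ M ∖ N the conjugacy class of g is exactly M ∖ N. Then p = 2 and N has index 2 in M. -/
theorem result {G : Type*} [Group G] [Finite G] (p : ℕ) [Fact p.Prime] (hG : IsPGroup p G) (N M : Subgroup G) [N.Normal] [M.Normal] (hNM : N < M) (g : G) (hgM : g ∈ M) (hgN : g ∉ N) (hcl : {h : G | IsConj g h} = (M : Set G) \ (N : Set G)) : p = 2 ∧ N.relIndex M = 2 := by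
  classical
  have hp : p.Prime := Fact.out
  obtain ⟨b, hb⟩ := IsPGroup.iff_card.1 (hG.to_subgroup N)
  obtain ⟨c, hc⟩ := IsPGroup.iff_card.1 (hG.to_subgroup M)
  have hbc : b < c := by
    by_contra hh
    have : Nat.card M ≤ Nat.card N := by rw [hb, hc]; exact Nat.pow_le_pow_right hp.pos (by omega)
    exact hNM.ne (Subgroup.eq_of_le_of_card_ge hNM.le this)
  -- the class size
  have hsize : ∃ e, p ^ c - p ^ b = p ^ e := by
    obtain ⟨e, he⟩ := IsPGroup.iff_card.1 hG
    have h1 : Nat.card {h : G | IsConj g h} ∣ p ^ e := by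
      rw [← he, show {h : G | IsConj g h} = (ConjClasses.mk g).carrier from rfl]
      have := MulAction.index_stabilizer (ConjAct G) g
      rw [ConjAct.orbit_eq_carrier_conjClasses] at this
      rw [Nat.card_coe_set_eq, ← this]
      exact Subgroup.index_dvd_card _
    obtain ⟨e', -, he'⟩ := (Nat.dvd_prime_pow hp).1 h1
    refine ⟨e', ?_⟩
    rw [← he', hcl, Nat.card_coe_set_eq, Set.ncard_sdiff (by exact hNM.le), ← Nat.card_coe_set_eq,
      ← Nat.card_coe_set_eq, ← hb, ← hc]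
    rfl
  obtain ⟨e, he⟩ := hsize
  obtain ⟨d, rfl⟩ : ∃ d, c = b + (d + 1) := ⟨c - b - 1, by omega⟩
  have h2 : p ^ b * (p ^ (d + 1) - 1) = p ^ e := by rw [Nat.mul_sub, mul_one, ← pow_add]; exact he
  obtain ⟨f, -, hf⟩ := (Nat.dvd_prime_pow hp).1 (Dvd.intro_left _ h2)
  have hge : 2 ≤ p ^ (d + 1) := hp.two_le.trans (Nat.le_self_pow (by omega) p)
  have hf0 : f = 0 := by
    by_contra hf0
    have h3 : p ∣ p ^ (d + 1) - 1 := hf ▸ dvd_pow_self p hf0
    have h4 : p ∣ p ^ (d + 1) - (p ^ (d + 1) - 1) := Nat.dvd_sub (dvd_pow_self p (by omega)) h3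
    rw [show p ^ (d + 1) - (p ^ (d + 1) - 1) = 1 by omega] at h4
    exact hp.ne_one (Nat.dvd_one.1 h4)
  rw [hf0, pow_zero] at hf
  have h5 : p ^ (d + 1) = 2 := by omega
  have hp2 : p = 2 := by
    have := Nat.le_self_pow (show d + 1 ≠ 0 by omega) p
    have := hp.two_le
    omega
  refine ⟨hp2, ?_⟩
  have h6 := Subgroup.card_mul_index (N.subgroupOf M)
  rw [Nat.card_congr (Subgroup.subgroupOfEquivOfLe hNM.le).toEquiv, hb, hc, pow_add, h5] at h6
  exact Nat.eq_of_mul_eq_mul_left (pow_pos hp.pos b) h6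

end Cfsg.Agent.S4013
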