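import Cfsg.Statements.S4014
import Cfsg.Agent.Lib.StructB.PGroupLinear
import Mathlib.GroupTheory.RegularWreathProduct

set_option autoImplicit false
open Cfsg

namespace Cfsg.Agent.S4014

open Subgroup CfsgLib.StructB.PLinear
open scoped commutatorElement

/-- The derived series of a wreath product lifts that of the base group. -/
theorem exists_lift {D Q : Type*} [Group D] [Group Q] (q : Q) (hq : q ≠ 1) :
    ∀ i, ∀ x ∈ derivedSeries D i,
      ∃ w ∈ derivedSeries (D ≀ᵣ Q) (i + 1), w.right = 1 ∧ w.left 1 = x := by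
  classical
  intro i
  induction i with
  | zero =>
    intro x _
    refine ⟨⁅(⟨Pi.mulSingle 1 x, 1⟩ : D ≀ᵣ Q), RegularWreathProduct.inl q⁆, ?_, ?_, ?_⟩
    · exact commutator_mem_commutator (mem_top _) (mem_top _)
    · simp [commutatorElement_def]
    · simp [commutatorElement_def, hq, hq.symm]
  | succ i ih =>
    let N : Subgroup D :=
      { carrier := {x | ∃ w ∈ derivedSeries (D ≀ᵣ Q) (i + 2), w.right = 1 ∧ w.left 1 = x}
        one_mem' := ⟨1, one_mem _, rfl, rfl⟩
        mul_mem' := by
          rintro _ _ ⟨u, hu, hu', rfl⟩ ⟨v, hv, hv', rfl⟩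
          exact ⟨u * v, mul_mem hu hv, by simp [hu', hv'], by simp [hu']⟩
        inv_mem' := by
          rintro _ ⟨u, hu, hu', rfl⟩
          exact ⟨u⁻¹, inv_mem hu, by simp [hu'], by simp [hu']⟩ }
    have hle : derivedSeries D (i + 1) ≤ N := by
      rw [derivedSeries_succ]
      refine commutator_le.2 fun a ha b hb => ?_
      obtain ⟨u, hu, hu', rfl⟩ := ih a ha
      obtain ⟨v, hv, hv', rfl⟩ := ih b hb
      exact ⟨⁅u, v⁆, commutator_mem_commutator hu hv, by simp [commutatorElement_def, hu', hv'],
        by simp [commutatorElement_def, hu', hv']⟩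
    exact fun x hx => hle hx

theorem exists_ne_one_iterated (G : Type) [Group G] [Nontrivial G] :
    ∀ k, ∃ x ∈ derivedSeries (IteratedWreathProduct G (k + 1)) k, x ≠ 1 := by
  obtain ⟨q, hq⟩ := exists_ne (1 : G)
  intro k
  induction k with
  | zero =>
    refine ⟨(RegularWreathProduct.inl q : IteratedWreathProduct G 0 ≀ᵣ G), mem_top _, fun h => hq ?_⟩
    exact congrArg RegularWreathProduct.right h
  | succ k ih =>
    obtain ⟨x, hx, hx1⟩ := ih
    obtain ⟨w, hw, -, hwx⟩ := exists_lift (D := IteratedWreathProduct G (k + 1)) q hq k x hx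
    refine ⟨w, hw, fun h => hx1 ?_⟩
    rw [← hwx]
    exact congrFun (congrArg RegularWreathProduct.left h) 1

/-- Orbits of size below `p ^ (m + 1)` are fixed by the `m`-th derived subgroup. -/
theorem dser_fixes {P : Type*} [Group P] [Finite P] {p : ℕ} [Fact p.Prime] (hP : IsPGroup p P)
    {α : Type*} [MulAction P α] (a : α) : ∀ (m : ℕ) (S : Subgroup P),
      (MulAction.stabilizer P a).relIndex S < p ^ (m + 1) →
      ∀ x ∈ dser S m, x • a = a := by
  intro m
  induction m with
  | zero =>
    intro S hlt x hx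
    have hd : (MulAction.stabilizer P a).relIndex S ∣ Nat.card S := index_dvd_card _
    obtain ⟨e, he⟩ := (hP.to_subgroup S).exists_card_eq
    obtain ⟨j, -, hj⟩ := (Nat.dvd_prime_pow (Fact.out : p.Prime)).1 (he ▸ hd)
    have hj0 : j = 0 := by
      by_contra h
      rw [hj, zero_add, pow_one] at hlt
      exact absurd (Nat.le_of_dvd (pow_pos (Fact.out : p.Prime).pos j) (dvd_pow_self p h)) (not_le.2 hlt)
    exact (relIndex_eq_one.1 (hj.trans (by rw [hj0, pow_zero])) : S ≤ MulAction.stabilizer P a) hx
  | succ m ih =>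
    intro S hlt x hx
    by_cases htop : S ≤ MulAction.stabilizer P a
    · exact htop (dser_anti S (Nat.zero_le _) hx)
    set T := (MulAction.stabilizer P a).subgroupOf S with hT
    have hTne : T ≠ ⊤ := fun e => htop (subgroupOf_eq_top.1 e)
    have := (hP.to_subgroup S).isNilpotent
    obtain ⟨M, hM, hTM⟩ := (eq_top_or_exists_le_coatom T).resolve_left hTne
    have hMn : M.Normal :=
      NormalizerCondition.normal_of_coatom M Group.normalizerCondition_of_isNilpotent hM
    have : Nontrivial (S ⧸ M) := QuotientGroup.nontrivial_iff.2 hM.1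
    have hsimple : IsSimpleGroup (S ⧸ M) := ⟨fun B hB => by
      rcases eq_or_ne (B.comap (QuotientGroup.mk' M)) ⊤ with h | h
      · exact Or.inr (comap_injective (QuotientGroup.mk'_surjective M) (h.trans (comap_top _).symm))
      · left
        refine comap_injective (QuotientGroup.mk'_surjective M) ?_
        rw [MonoidHom.comap_bot, QuotientGroup.ker_mk']
        by_contra hne
        refine h (hM.2 _ (lt_of_le_of_ne (fun m hm => ?_) (Ne.symm hne)))
        rw [mem_comap, QuotientGroup.mk'_apply, (QuotientGroup.eq_one_iff m).2 hm]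
        exact one_mem B⟩
    have := ((hP.to_subgroup S).to_quotient M).isNilpotent
    have hcomm : commutator ↥S ≤ M := (Normal.quotient_commutative_iff_commutator_le (N := M)).1
      ⟨⟨(inferInstance : CommGroup (S ⧸ M)).mul_comm⟩⟩
    have hidx : p ∣ M.index := by
      obtain ⟨e, he⟩ := ((hP.to_subgroup S).to_quotient M).exists_card_eq
      rw [index_eq_card, he]
      exact dvd_pow_self p fun e0 => (Finite.one_lt_card (α := S ⧸ M)).ne' (by rw [he, e0, pow_zero])
    have hrel : T.relIndex M < p ^ (m + 1) := by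
      have h1 : T.relIndex M * M.index = T.index := relIndex_mul_index hTM
      have h2 : T.index < p ^ (m + 1 + 1) := hlt
      have h3 : T.relIndex M * p ≤ T.index := h1 ▸ Nat.mul_le_mul_left _
        (Nat.le_of_dvd (Nat.pos_of_ne_zero index_ne_zero_of_finite) hidx)
      rw [pow_succ _ (m + 1)] at h2
      exact Nat.lt_of_mul_lt_mul_right (lt_of_le_of_lt h3 h2)
    have hSS : ⁅S, S⁆ ≤ M.map S.subtype := by
      rw [← map_subtype_commutator S]
      exact map_mono hcomm
    refine ih ⁅S, S⁆ (lt_of_le_of_lt ?_ hrel) x (by rwa [← dser_succ'])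
    rw [hT, show ((MulAction.stabilizer P a).subgroupOf S).relIndex M =
      (MulAction.stabilizer P a).relIndex (M.map S.subtype) from
        relIndex_comap _ S.subtype M]
    exact relIndex_le_of_le_right hSS index_ne_zero_of_finite

/-- Let p be a prime, n ≥ 1, and P a Sylow p-subgroup of the symmetric group on n letters. Then the derived length of P is exactly k = ⌊log_p n⌋ (the largest k with p^k ≤ n): the k-th derived subgroup of P is trivial and, when k ≥ 1, the (k−1)-st is not. -/
theorem result (p : ℕ) [Fact p.Prime] (n : ℕ) (hn : 1 ≤ n) (P : Sylow p (Equiv.Perm (Fin n))) : derivedSeries ↥(P : Subgroup (Equiv.Perm (Fin n))) (Nat.log p n) = ⊥ ∧ (1 ≤ Nat.log p n → derivedSeries ↥(P : Subgroup (Equiv.Perm (Fin n))) (Nat.log p n - 1) ≠ ⊥) := by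
  classical
  have hp : p.Prime := Fact.out
  constructor
  · rw [eq_bot_iff]
    intro x hx
    rw [mem_bot]
    refine Subtype.ext (Equiv.ext fun a => ?_)
    refine dser_fixes P.2 (α := Fin n) a (Nat.log p n) ⊤ ?_ x (by rwa [dser_top])
    rw [relIndex_top_right, MulAction.index_stabilizer]
    calc (MulAction.orbit (P : Subgroup (Equiv.Perm (Fin n))) a).ncard
        ≤ Nat.card (Fin n) := Set.ncard_le_card _
      _ = n := Nat.card_fin n
      _ < p ^ (Nat.log p n + 1) := Nat.lt_pow_succ_log_self hp.one_lt n
  · intro hk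
    obtain ⟨k, hk'⟩ : ∃ k, Nat.log p n = k + 1 := ⟨Nat.log p n - 1, by omega⟩
    rw [hk', Nat.add_sub_cancel]
    let G := Multiplicative (ZMod p)
    have : NeZero p := ⟨hp.ne_zero⟩
    have hG : Nat.card G = p := by
      rw [Nat.card_congr Multiplicative.toAdd]; exact Nat.card_zmod p
    have : Nontrivial G := Finite.one_lt_card_iff_nontrivial.1 (hG ▸ hp.one_lt)
    have hle : p ^ (k + 1) ≤ n := hk' ▸ Nat.pow_log_le_self p (by omega)
    let ι : Fin (k + 1) → G := fun _ => 1
    obtain ⟨em⟩ : Nonempty ((Fin (k + 1) → G) ↪ Fin n) :=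
      Function.Embedding.nonempty_of_card_le (by
        rw [Fintype.card_fin, Fintype.card_fun, Fintype.card_fin, ← Nat.card_eq_fintype_card, hG]
        exact hle)
    let f : IteratedWreathProduct G (k + 1) →* Equiv.Perm (Fin n) :=
      (Equiv.Perm.viaEmbeddingHom em).comp (iteratedWreathToPermHom G (k + 1))
    have hf : Function.Injective f :=
      (Equiv.Perm.viaEmbeddingHom_injective em).comp (iteratedWreathToPermHomInj G (k + 1))
    have hfp : IsPGroup p f.range := IsPGroup.of_card (n := ∑ i ∈ Finset.range (k + 1), p ^ i) (by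
      rw [← Nat.card_congr (MonoidHom.ofInjective hf).toEquiv, IteratedWreathProduct.card, hG])
    obtain ⟨T, hT⟩ := hfp.exists_le_sylow
    let j : IteratedWreathProduct G (k + 1) →* (P : Subgroup (Equiv.Perm (Fin n))) :=
      (T.equiv P).toMonoidHom.comp ((inclusion hT).comp f.rangeRestrict)
    have hj : Function.Injective j :=
      (T.equiv P).injective.comp ((inclusion_injective hT).comp fun a b h =>
        hf (congrArg Subtype.val h))
    obtain ⟨x, hx, hx1⟩ := exists_ne_one_iterated G k
    intro hbot
    have h1 := map_derivedSeries_le_derivedSeries j k (mem_map_of_mem j hx)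
    rw [hbot, mem_bot] at h1
    exact hx1 (hj (h1.trans (map_one j).symm))

end Cfsg.Agent.S4014
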