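import Cfsg.Statements.S4015
import Cfsg.Agent.Lib.StructB.GLSylowUpper
import Cfsg.Agent.S4014
-- import your own Cfsg.Agent.* helpers here

set_option autoImplicit false
open Cfsg

namespace Cfsg.Agent.S4015

open Module

open scoped RegularWreathProduct

universe uH uQ uK uV

/-- Wreath products act linearly on functions. -/
theorem exists_wreath_rep {H : Type uH} [Group H] {Q : Type uQ} [Group Q] {K : Type uK} [Field K]
    {V : Type uV} [AddCommGroup V] [Module K V] [Nontrivial V]
    (f : H →* Module.End K V) (hf : Function.Injective f) :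
    ∃ g : (H ≀ᵣ Q) →* Module.End K (Q → V), Function.Injective g := by
  classical
  refine ⟨{
    toFun := fun w =>
      { toFun := fun φ x => f (w.left x) (φ (w.right⁻¹ * x))
        map_add' := fun φ ψ => funext fun x => by simp
        map_smul' := fun c φ => funext fun x => by simp }
    map_one' := LinearMap.ext fun φ => funext fun x => by simp
    map_mul' := fun a b => LinearMap.ext fun φ => funext fun x => by
      simp [mul_assoc, map_mul] }, ?_⟩
  rw [injective_iff_map_eq_one]
  intro w hw
  have h1 : ∀ (φ : Q → V) (x : Q), f (w.left x) (φ (w.right⁻¹ * x)) = φ x := fun φ x =>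
    congrFun (LinearMap.congr_fun hw φ) x
  have hr : w.right = 1 := by
    by_contra hne
    obtain ⟨v, hv⟩ := exists_ne (0 : V)
    have h2 := h1 (Pi.single 1 v) 1
    rw [mul_one, Pi.single_eq_same, Pi.single_eq_of_ne (by simpa using hne), map_zero] at h2
    exact hv h2.symm
  refine RegularWreathProduct.ext (funext fun x => ?_) hr
  apply hf
  rw [RegularWreathProduct.one_left, Pi.one_apply, map_one]
  refine LinearMap.ext fun v => ?_
  have h2 := h1 (fun _ => v) x
  simpa using h2

/-- The iterated wreath product of depth `L + 1` is linear of dimension `d * p ^ L`. -/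
theorem exists_iterated_rep (G : Type) [Group G] [Finite G] {F : Type uK} [Field F]
    {V₀ : Type uV} [AddCommGroup V₀] [Module F V₀] [Module.Finite F V₀] [Nontrivial V₀]
    (f₀ : G →* Module.End F V₀) (hf₀ : Function.Injective f₀) :
    ∀ L : ℕ, ∃ g : IteratedWreathProduct G (L + 1) →*
      Module.End F (Fin (finrank F V₀ * Nat.card G ^ L) → F), Function.Injective g := by
  classical
  haveI : Fintype G := Fintype.ofFinite G
  intro L
  induction L with
  | zero =>
    let r : IteratedWreathProduct G 0 ≀ᵣ G →* G := RegularWreathProduct.rightHom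
    have hr : Function.Injective r := fun a b h =>
      RegularWreathProduct.ext (funext fun _ => Subsingleton.elim (α := PUnit) _ _) h
    let e : V₀ ≃ₗ[F] (Fin (finrank F V₀ * Nat.card G ^ 0) → F) :=
      LinearEquiv.ofFinrankEq _ _ (by rw [Module.finrank_fin_fun, pow_zero, mul_one])
    refine ⟨((e.conjAlgEquiv F : Module.End F V₀ →* _).comp f₀).comp r, ?_⟩
    exact ((e.conjAlgEquiv F).injective.comp hf₀).comp hr
  | succ L ih =>
    obtain ⟨g, hg⟩ := ih
    haveI : Nonempty (Fin (finrank F V₀ * Nat.card G ^ L)) :=
      ⟨⟨0, Nat.mul_pos Module.finrank_pos (pow_pos Nat.card_pos L)⟩⟩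
    obtain ⟨g', hg'⟩ := exists_wreath_rep (Q := G) g hg
    let e : (G → Fin (finrank F V₀ * Nat.card G ^ L) → F) ≃ₗ[F]
        (Fin (finrank F V₀ * Nat.card G ^ (L + 1)) → F) :=
      LinearEquiv.ofFinrankEq _ _ (by
        rw [Module.finrank_fin_fun, Module.finrank_pi_fintype, Finset.sum_const, Finset.card_univ,
          Module.finrank_fin_fun, smul_eq_mul, ← Nat.card_eq_fintype_card, pow_succ]
        ring)
    refine ⟨(e.conjAlgEquiv F : Module.End F (G → Fin (finrank F V₀ * Nat.card G ^ L) → F) →* _).comp g', ?_⟩
    exact (e.conjAlgEquiv F).injective.comp hg'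

/-- A cyclic group of order `p` is linear of dimension at most `ord_p q`. -/
theorem exists_base (p : ℕ) [Fact p.Prime] (F : Type uK) [Field F] [Fintype F]
    (hpq : ¬ p ∣ Fintype.card F) :
    ∃ (V : Submodule F (AlgebraicClosure F)) (_ : Module.Finite F V) (_ : Nontrivial V)
      (f : Multiplicative (ZMod p) →* Module.End F V), Function.Injective f ∧
        finrank F V ≤ orderOf (Fintype.card F : ZMod p) := by
  classical
  have hp : p.Prime := Fact.out
  have hpF : ((p : ℕ) : F) ≠ 0 := by
    intro h
    obtain ⟨r, hr⟩ := CharP.exists F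
    haveI := hr
    obtain ⟨k, hrp, hk⟩ := FiniteField.card F r
    have h1 : r ∣ p := (CharP.cast_eq_zero_iff F r p).1 h
    rw [(Nat.prime_dvd_prime_iff_eq hrp hp).1 h1] at hk
    exact hpq (by rw [hk]; exact dvd_pow_self p k.ne_zero)
  haveI : NeZero ((p : ℕ) : AlgebraicClosure F) := ⟨fun h => hpF ((algebraMap F (AlgebraicClosure F)).injective (by simpa using h))⟩
  obtain ⟨ζ, hζ⟩ := HasEnoughRootsOfUnity.exists_primitiveRoot (AlgebraicClosure F) p
  set A := IntermediateField.adjoin F {ζ} with hA
  have hint : IsIntegral F ζ := Algebra.IsIntegral.isIntegral ζ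
  haveI : FiniteDimensional F A := IntermediateField.adjoin.finiteDimensional hint
  haveI : Finite A := Module.finite_of_finite F
  haveI : Fintype A := Fintype.ofFinite A
  set d := orderOf (Fintype.card F : ZMod p) with hd
  have hd0 : 0 < d := by
    have hu : IsUnit (Fintype.card F : ZMod p) :=
      (ZMod.isUnit_iff_coprime _ _).2 ((Nat.Prime.coprime_iff_not_dvd hp).2 hpq).symm
    obtain ⟨u, hu⟩ := hu
    rw [hd, ← hu, orderOf_units]
    exact orderOf_pos u
  have hle : Fintype.card A ≤ Fintype.card F ^ d := by
    have hq1 : 1 < Fintype.card F ^ d := Nat.one_lt_pow hd0.ne' Fintype.one_lt_card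
    have hζq : ζ ^ (Fintype.card F ^ d) = ζ := by
      have h1 : ((Fintype.card F ^ d : ℕ) : ZMod p) = ((1 : ℕ) : ZMod p) := by
        rw [Nat.cast_pow, hd, pow_orderOf_eq_one, Nat.cast_one]
      have h2 := (ZMod.natCast_eq_natCast_iff' _ _ _).1 h1
      rw [← pow_mod_orderOf, ← hζ.eq_orderOf, h2, hζ.eq_orderOf, pow_mod_orderOf, pow_one]
    let S : IntermediateField F (AlgebraicClosure F) :=
      { carrier := {a | a ^ (Fintype.card F ^ d) = a}
        mul_mem' := fun {a b} ha hb => by
          show (a * b) ^ _ = a * b; rw [mul_pow, ha, hb]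
        one_mem' := one_pow _
        add_mem' := fun {a b} ha hb => by
          show (a + b) ^ _ = a + b
          obtain ⟨r, hr⟩ := CharP.exists F
          haveI := hr
          obtain ⟨k, hrp, hk⟩ := FiniteField.card F r
          haveI := Fact.mk hrp
          haveI : CharP (AlgebraicClosure F) r := charP_of_injective_algebraMap (algebraMap F _).injective r
          rw [hk, ← pow_mul, add_pow_char_pow, pow_mul, ← hk, ha, hb]
        zero_mem' := zero_pow (by omega)
        algebraMap_mem' := fun c => by
          show algebraMap F (AlgebraicClosure F) c ^ _ = _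
          rw [← map_pow, FiniteField.pow_card_pow]
        inv_mem' := fun a ha => by
          show a⁻¹ ^ _ = a⁻¹; rw [inv_pow, ha] }
    have hAS : A ≤ S := IntermediateField.adjoin_simple_le_iff.2 hζq
    let P := (Polynomial.X ^ (Fintype.card F ^ d) - Polynomial.X : Polynomial (AlgebraicClosure F))
    have hP : P ≠ 0 := FiniteField.X_pow_card_sub_X_ne_zero _ hq1
    have hsub : Finset.univ.image (fun a : A => (a : AlgebraicClosure F)) ⊆ P.roots.toFinset := by
      intro a ha
      obtain ⟨b, -, rfl⟩ := Finset.mem_image.1 ha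
      rw [Multiset.mem_toFinset, Polynomial.mem_roots hP]
      have hb : (b : AlgebraicClosure F) ^ (Fintype.card F ^ d) = b := hAS b.2
      simp [P, hb]
    have h3 := (Finset.card_le_card hsub).trans ((Multiset.toFinset_card_le _).trans (Polynomial.card_roots' P))
    rw [Finset.card_image_of_injective _ Subtype.val_injective, Finset.card_univ,
      FiniteField.X_pow_card_sub_X_natDegree_eq _ hq1] at h3
    exact h3
  let z : Aˣ := Units.mk0 ⟨ζ, IntermediateField.mem_adjoin_simple_self F ζ⟩ (fun h => hζ.ne_zero hp.ne_zero (congrArg Subtype.val h))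
  have hzo : orderOf z = p := by
    rw [← orderOf_units, ← orderOf_injective A.val.toMonoidHom Subtype.val_injective]
    exact hζ.eq_orderOf.symm
  let c : Multiplicative (ZMod p) →* A :=
    { toFun := fun i => ((z ^ (Multiplicative.toAdd i).val : Aˣ) : A)
      map_one' := by simp
      map_mul' := fun i j => by
        rw [← Units.val_mul, ← pow_add, toAdd_mul, ZMod.val_add]
        congr 1
        conv_rhs => rw [← pow_mod_orderOf, hzo] }
  have hc : Function.Injective c := fun i j h => by
    have h1 : z ^ (Multiplicative.toAdd i).val = z ^ (Multiplicative.toAdd j).val := Units.ext h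
    have h2 := pow_injOn_Iio_orderOf (show (Multiplicative.toAdd i).val < orderOf z by rw [hzo]; exact ZMod.val_lt _)
      (show (Multiplicative.toAdd j).val < orderOf z by rw [hzo]; exact ZMod.val_lt _) h1
    exact Multiplicative.toAdd.injective (ZMod.val_injective _ h2)
  have hrank : finrank F A ≤ d := by
    rw [Module.card_eq_pow_finrank (K := F)] at hle
    exact (Nat.pow_le_pow_iff_right Fintype.one_lt_card).1 hle
  refine ⟨A.toSubalgebra.toSubmodule, (inferInstance : FiniteDimensional F A),
    (inferInstance : Nontrivial A), ((Algebra.lmul F A).toMonoidHom).comp c, ?_, hrank⟩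
  intro i j h
  exact hc (Algebra.lmul_injective h)

/-- Let p be an odd prime, F a finite field with q elements where p does not divide q, and e the multiplicative order of q modulo p. Let n ≥ e and write w = ⌊n/e⌋ and k = ⌊log_p w⌋. Then a Sylow p-subgroup of GL(n, F) has derived length exactly k + 1: its (k+1)-st derived subgroup is trivial and its k-th is not. -/
theorem result (p : ℕ) [Fact p.Prime] (hp : p ≠ 2) (F : Type*) [Field F] [Fintype F] (q : ℕ) (hq : Fintype.card F = q) (hpq : ¬ p ∣ q) (n : ℕ) (hn : orderOf (q : ZMod p) ≤ n) (P : Sylow p (Matrix.GeneralLinearGroup (Fin n) F)) : derivedSeries ↥(P : Subgroup (Matrix.GeneralLinearGroup (Fin n) F)) (Nat.log p (n / orderOf (q : ZMod p)) + 1) = ⊥ ∧ derivedSeries ↥(P : Subgroup (Matrix.GeneralLinearGroup (Fin n) F)) (Nat.log p (n / orderOf (q : ZMod p))) ≠ ⊥ := by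
  classical
  have hpp : p.Prime := Fact.out
  subst hq
  set d := orderOf (Fintype.card F : ZMod p) with hd
  set L := Nat.log p (n / d) with hL
  constructor
  · rw [eq_bot_iff]
    intro x hx
    rw [Subgroup.mem_bot]
    let ρ : ↥(P : Subgroup (Matrix.GeneralLinearGroup (Fin n) F)) →* Module.End F (Fin n → F) :=
      ((Matrix.toLinAlgEquiv' : Matrix (Fin n) (Fin n) F ≃ₐ[F] Module.End F (Fin n → F)) :
        Matrix (Fin n) (Fin n) F →* Module.End F (Fin n → F)).comp
        ((Units.coeHom _).comp (P : Subgroup (Matrix.GeneralLinearGroup (Fin n) F)).subtype)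
    have h1 := CfsgLib.StructB.GLSylow.derived_fixes P.isPGroup' hpq n ρ (Module.finrank_fin_fun F) x hx
    refine Subtype.ext (Units.ext ?_)
    apply (Matrix.toLinAlgEquiv' : Matrix (Fin n) (Fin n) F ≃ₐ[F] Module.End F (Fin n → F)).injective
    rw [Subgroup.coe_one, Units.val_one, map_one]
    exact h1
  · obtain ⟨V, hVf, hVn, f, hf, hrank⟩ := exists_base p F hpq
    obtain ⟨m, hm, g, hg⟩ : ∃ m, m = finrank F V * Nat.card (Multiplicative (ZMod p)) ^ L ∧
        ∃ g : IteratedWreathProduct (Multiplicative (ZMod p)) (L + 1) →* Module.End F (Fin m → F),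
          Function.Injective g := ⟨_, rfl, exists_iterated_rep (Multiplicative (ZMod p)) f hf L⟩
    have hd0 : 0 < d := lt_of_lt_of_le Module.finrank_pos hrank
    have hcard : Nat.card (Multiplicative (ZMod p)) = p := by
      rw [Nat.card_congr Multiplicative.toAdd]; exact Nat.card_zmod p
    have hmn : m ≤ n := by
      rw [hm, hcard]
      refine (Nat.mul_le_mul_right _ hrank).trans ?_
      refine (Nat.mul_le_mul_left _ (Nat.pow_log_le_self p ?_)).trans (Nat.mul_div_le n d)
      exact (Nat.div_pos hn hd0).ne'
    let e : ((Fin m → F) × (Fin (n - m) → F)) ≃ₗ[F] (Fin n → F) :=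
      LinearEquiv.ofFinrankEq _ _ (by
        rw [Module.finrank_prod, Module.finrank_fin_fun, Module.finrank_fin_fun, Module.finrank_fin_fun]
        omega)
    let g₁ : IteratedWreathProduct (Multiplicative (ZMod p)) (L + 1) →*
        Module.End F ((Fin m → F) × (Fin (n - m) → F)) :=
      { toFun := fun w => LinearMap.prodMap (g w) 1
        map_one' := by rw [map_one]; rfl
        map_mul' := fun a b => by rw [map_mul]; rfl }
    have hg₁ : Function.Injective g₁ := fun a b h => hg (LinearMap.ext fun v => by
      have := congrArg Prod.fst (LinearMap.congr_fun h (v, 0))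
      exact this)
    let g₂ : IteratedWreathProduct (Multiplicative (ZMod p)) (L + 1) →* Matrix (Fin n) (Fin n) F :=
      (((e.conjAlgEquiv F).trans
        (Matrix.toLinAlgEquiv' : Matrix (Fin n) (Fin n) F ≃ₐ[F] Module.End F (Fin n → F)).symm :
        Module.End F ((Fin m → F) × (Fin (n - m) → F)) →* Matrix (Fin n) (Fin n) F)).comp g₁
    let g₃ : IteratedWreathProduct (Multiplicative (ZMod p)) (L + 1) →*
        Matrix.GeneralLinearGroup (Fin n) F := g₂.toHomUnits
    have hg₃ : Function.Injective g₃ := fun a b h => hg₁ (((e.conjAlgEquiv F).trans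
      (Matrix.toLinAlgEquiv' : Matrix (Fin n) (Fin n) F ≃ₐ[F] Module.End F (Fin n → F)).symm).injective
        (congrArg Units.val h))
    have : NeZero p := ⟨hpp.ne_zero⟩
    have hfp : IsPGroup p g₃.range := IsPGroup.of_card (n := ∑ i ∈ Finset.range (L + 1), p ^ i) (by
      rw [← Nat.card_congr (MonoidHom.ofInjective hg₃).toEquiv, IteratedWreathProduct.card, hcard])
    obtain ⟨T, hT⟩ := hfp.exists_le_sylow
    let j : IteratedWreathProduct (Multiplicative (ZMod p)) (L + 1) →*
        (P : Subgroup (Matrix.GeneralLinearGroup (Fin n) F)) :=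
      (T.equiv P).toMonoidHom.comp ((Subgroup.inclusion hT).comp g₃.rangeRestrict)
    have hj : Function.Injective j :=
      (T.equiv P).injective.comp ((Subgroup.inclusion_injective hT).comp fun a b h =>
        hg₃ (congrArg Subtype.val h))
    haveI : Nontrivial (Multiplicative (ZMod p)) :=
      Finite.one_lt_card_iff_nontrivial.1 (by rw [hcard]; exact hpp.one_lt)
    obtain ⟨x, hx, hx1⟩ := Cfsg.Agent.S4014.exists_ne_one_iterated (Multiplicative (ZMod p)) L
    intro hbot
    have h1 := map_derivedSeries_le_derivedSeries j L (Subgroup.mem_map_of_mem j hx)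
    rw [hbot, Subgroup.mem_bot] at h1
    exact hx1 (hj (h1.trans (map_one j).symm))

end Cfsg.Agent.S4015
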