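import Cfsg.Statements.S4018
import Cfsg.Agent.Lib.StructB.Order4pChar

set_option autoImplicit false
open Cfsg

namespace Cfsg.Agent.S4018

/-- Let G be a finite group with an abelian Sylow 3-subgroup P such that the normalizer of P has order 4·#P, the centralizer C of P has order 2·#P, C meets each of its conjugates by elements outside its normalizer trivially, and every proper subgroup of G of even order has order dividing 4·#P. Then G is not simple. -/
theorem result {G : Type*} [Group G] [Finite G]
    (P : Sylow 3 G) (hab : IsMulCommutative P)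
    (hN : Nat.card (Subgroup.normalizer ((P : Subgroup G) : Set G)) = 4 * Nat.card P)
    (hC : Nat.card (Subgroup.centralizer (P : Set G)) = 2 * Nat.card P)
    (hTI : Cfsg.IsTISubset (Subgroup.centralizer (P : Set G) : Set G))
    (heven : ∀ H : Subgroup G, H ≠ ⊤ → 2 ∣ Nat.card H → Nat.card H ∣ 4 * Nat.card P) :
    ¬ IsSimpleGroup G := by
  intro hsimple
  classical
  obtain ⟨t, h⟩ := CfsgLib.StructB.cfg4p_of_hyps P hab hN hC hTI heven
  have := Fintype.ofFinite G
  generalize hp : Nat.card P = p at h
  rcases Nat.lt_or_ge p 9 with hlt | hge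
  · obtain ⟨a, ha1, rfl⟩ := h.pow3
    have ha : a = 1 := by
      by_contra hne
      have : 3 ^ 2 ≤ 3 ^ a := Nat.pow_le_pow_right (by norm_num) (by omega)
      omega
    subst ha
    obtain ⟨n, hn, hn'⟩ := h.count
    have hn31 : n = 31 := by norm_num at hn'; omega
    subst hn31
    rw [show 4 * 3 ^ 1 * 31 = 372 by norm_num] at hn
    haveI : Fact (Nat.Prime 31) := ⟨by norm_num⟩
    let Q : Sylow 31 G := default
    have hQ : 31 ∣ Nat.card (Q : Subgroup G) :=
      (dvd_of_eq (pow_one 31).symm).trans (Q.pow_dvd_card_of_pow_dvd_card (n := 1) (by rw [hn]; norm_num))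
    have h1 : Nat.card (Sylow 31 G) = 1 := by
      have hm := card_sylow_modEq_one 31 G
      have hd : Nat.card (Sylow 31 G) ∣ 12 := by
        have hd1 := Q.card_dvd_index
        have h2 := (Q : Subgroup G).index_mul_card
        obtain ⟨m, hm'⟩ := hQ
        rw [hn, hm'] at h2
        have h3 : (Q : Subgroup G).index ∣ 12 := ⟨m, by nlinarith⟩
        exact hd1.trans h3
      have := Nat.le_of_dvd (by norm_num) hd
      rw [Nat.ModEq] at hm
      omega
    have : Subsingleton (Sylow 31 G) := (Nat.card_eq_one_iff_unique.1 h1).1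
    rcases (Q.normal_of_subsingleton).eq_bot_or_eq_top with e | e
    · rw [e, Subgroup.card_bot] at hQ; norm_num at hQ
    · obtain ⟨k, hk⟩ := IsPGroup.iff_card.1 Q.isPGroup'
      rw [e, Subgroup.card_top, hn] at hk
      have : 2 ∣ 31 ^ k := by rw [← hk]; norm_num
      exact absurd ((Nat.prime_two.dvd_of_dvd_pow this)) (by norm_num)
  · exact h.false_of_large hge

end Cfsg.Agent.S4018
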